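import Cfsg.Statements.S1517
import Cfsg.Agent.OddChar.Coherence

set_option autoImplicit false
open Cfsg

namespace Cfsg.Agent.S1517

/-- Let (S, τ, R) be a coherence system from L to G such that φ 1 = ψ 1 for all φ, ψ ∈ S. Then (S, L minus 1, τ) is coherent. -/
theorem result {L : Type*} [Group L] [Fintype L] {G : Type*} [Group G] [Fintype G] (S : Set (L → ℂ)) (τ : (L → ℂ) → (G → ℂ)) (R : (L → ℂ) → Finset (G → ℂ)) (hS : Cfsg.IsCoherenceSystem S τ R) (hdeg : ∀ φ ∈ S, ∀ ψ ∈ S, φ 1 = ψ 1) : Cfsg.IsCoherent S {1}ᶜ τ := by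
  classical
  obtain ⟨χ₁, hχ₁⟩ := hS.nonempty
  obtain ⟨n, hn0, hn⟩ := Cfsg.Lib.Coherence.sys_norm hS hχ₁
  set χb := Cfsg.conjFun χ₁ with hχb
  suffices hc : ∃ c : (G → ℂ) → ℤ, ∑ α ∈ R χ₁, c α = n ∧
      ∑ α ∈ R χ₁, c α ^ 2 = n ∧
      ∀ φ ∈ S, φ ≠ χ₁ → φ ≠ χb → ∃ d : (G → ℂ) → ℤ,
        τ (χ₁ - φ) = Cfsg.Lib.Coherence.part (R χ₁) c - Cfsg.Lib.Coherence.part (R φ) d by
    obtain ⟨c, hsum, hsq, hout⟩ := hc
    set X := Cfsg.Lib.Coherence.part (R χ₁) c with hX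
    have hXX : Cfsg.classInner X X = n := by
      rw [hX, Cfsg.Lib.Coherence.part_part hS hχ₁]
      simp only [← sq]
      rw [hsq]; simp
    obtain ⟨T, hT, hTiso⟩ := Cfsg.Lib.Coherence.exists_ext (G := G) {χ₁}
      (by rintro φ rfl; exact Cfsg.Lib.Coherence.sys_ne_zero hS hχ₁)
      (by rintro φ rfl ψ rfl h; exact absurd rfl h) (fun _ => X)
      (fun _ _ => Cfsg.Lib.Coherence.part_gen hS hχ₁ c)
      (by rintro φ rfl ψ rfl; rw [hXX, hn])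
    have hmem : ∀ φ ∈ S, χ₁ - φ ∈ Cfsg.zspanOn S {1}ᶜ := fun φ hφ =>
      Cfsg.Lib.Coherence.mem_one.mpr
        ⟨(Submodule.span ℤ S).sub_mem (Cfsg.Lib.Coherence.subset_zspan hχ₁)
          (Cfsg.Lib.Coherence.subset_zspan hφ), by simp [hdeg χ₁ hχ₁ φ hφ]⟩
    refine Cfsg.Lib.Coherence.isCoherent_extend (S₁ := {χ₁}) (by simpa using hχ₁)
      (fun φ hφ => Cfsg.Lib.Coherence.sys_ne_zero hS hφ) hS.orthogonal hS.isometry hTiso ?_ ?_
      ⟨_, Cfsg.Lib.Coherence.sub_conj_mem hS hχ₁, sub_ne_zero.mpr (hS.conj_ne χ₁ hχ₁).symm⟩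
    · intro f hf
      obtain ⟨hf1, hf2⟩ := Cfsg.Lib.Coherence.mem_one.mp hf
      obtain ⟨m, rfl⟩ := Submodule.mem_span_singleton.mp hf1
      have hm : m = 0 := by
        simpa [Cfsg.Lib.Coherence.apply_one_ne_zero' hS hχ₁] using hf2
      rw [hm, zero_smul, map_zero,
        Cfsg.Lib.Coherence.map_zero' (Cfsg.Lib.Coherence.spanOn S {1}ᶜ) hS.isometry]
    · intro φ hφ
      refine ⟨χ₁, Cfsg.Lib.Coherence.subset_zspan rfl, by simp [hdeg χ₁ hχ₁ φ hφ], ?_⟩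
      rintro ξ rfl
      rw [hT _ rfl, show φ - ξ = -(ξ - φ) by abel,
        Cfsg.Lib.Coherence.map_neg' (Cfsg.Lib.Coherence.spanOn S {1}ᶜ) hS.isometry (hmem φ hφ),
        Cfsg.Lib.Chars.classInner_neg_left, Cfsg.Lib.Chars.classInner_neg_left, neg_inj]
      by_cases h1 : φ = ξ
      · rw [h1, sub_self,
          Cfsg.Lib.Coherence.map_zero' (Cfsg.Lib.Coherence.spanOn S {1}ᶜ) hS.isometry,
          Cfsg.Lib.Chars.classInner_zero_left, Cfsg.Lib.Chars.classInner_zero_left]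
      by_cases h2 : φ = χb
      · rw [h2, hχb, Cfsg.Lib.Chars.classInner_sub_left, hn,
          hS.orthogonal _ (hS.conj_mem ξ hχ₁) ξ hχ₁ (hS.conj_ne ξ hχ₁),
          ← Cfsg.Lib.Chars.classInner_conj_symm X]
        rw [hS.sum_eq ξ hχ₁, Cfsg.Lib.Chars.classInner_sum_right, map_sum]
        have : ∀ α ∈ R ξ, (starRingEnd ℂ) (Cfsg.classInner X α) = (c α : ℂ) := by
          intro α hα
          have h := Cfsg.Lib.Coherence.comb_inner (R ξ) (e := id) (n := fun _ => 1)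
            (fun α hα β hβ => by simpa using hS.orthonormal ξ hχ₁ α hα β hβ)
            (fun α => (c α : ℝ)) hα
          simp only [id] at h
          rw [hX, Cfsg.Lib.Coherence.part]
          simp [h]
        rw [Finset.sum_congr rfl this, ← Int.cast_sum, hsum]
        simp
      · obtain ⟨d, hd⟩ := hout φ hφ h1 h2
        have h0 : Cfsg.classInner (Cfsg.Lib.Coherence.part (R φ) d) X = 0 := by
          refine Cfsg.Lib.Coherence.inner_comb_comb _ _ (fun α hα β hβ => ?_) _ _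
          exact hS.disjoint ξ hχ₁ φ hφ (hS.orthogonal φ hφ ξ hχ₁ h1)
            (hS.orthogonal φ hφ _ (hS.conj_mem ξ hχ₁) h2) α hα β hβ
        rw [hd, Cfsg.Lib.Chars.classInner_sub_left, Cfsg.Lib.Chars.classInner_sub_left, hXX, h0,
          hn, hS.orthogonal φ hφ ξ hχ₁ h1]
  by_cases hex : ∃ φ ∈ S, φ ≠ χ₁ ∧ φ ≠ χb
  · obtain ⟨φ₀, hφ₀, hA, hB⟩ := hex
    obtain ⟨c, d₀, hc, hsum, hsq, hd₀⟩ :=
      Cfsg.Lib.Coherence.split_diff hS hχ₁ hφ₀ hA hB (hdeg χ₁ hχ₁ φ₀ hφ₀) hn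
    have hsq' : ∑ α ∈ R χ₁, c α ^ 2 = n :=
      le_antisymm hsq (hsum ▸ Cfsg.Lib.Coherence.sum_le_sum_sq (R χ₁) c)
    refine ⟨c, hsum, hsq', fun φ hφ h1 h2 => ?_⟩
    obtain ⟨c', d, hc', hsum', hsq'', hd⟩ :=
      Cfsg.Lib.Coherence.split_diff hS hχ₁ hφ h1 h2 (hdeg χ₁ hχ₁ φ hφ) hn
    suffices hcc : ∀ α ∈ R χ₁, c' α = c α by
      exact ⟨d, by rw [hd, Cfsg.Lib.Coherence.part_congr hcc]⟩
    intro α hα
    have hm : ∀ ψ ∈ S, χ₁ - ψ ∈ Cfsg.zspanOn S {1}ᶜ := fun ψ hψ =>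
      Cfsg.Lib.Coherence.mem_one.mpr
        ⟨(Submodule.span ℤ S).sub_mem (Cfsg.Lib.Coherence.subset_zspan hχ₁)
          (Cfsg.Lib.Coherence.subset_zspan hψ), by simp [hdeg χ₁ hχ₁ ψ hψ]⟩
    by_cases hs : φ = φ₀
    · subst hs
      have := (hc' α hα).symm.trans (hc α hα)
      exact_mod_cast this
    by_cases hs' : φ = Cfsg.conjFun φ₀
    · subst hs'
      have hz : Cfsg.classInner (τ (φ₀ - Cfsg.conjFun φ₀)) α = 0 := by
        rw [hS.sum_eq φ₀ hφ₀, Cfsg.Lib.Chars.classInner_sum_left]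
        exact Finset.sum_eq_zero fun β hβ => hS.disjoint χ₁ hχ₁ φ₀ hφ₀
          (hS.orthogonal φ₀ hφ₀ χ₁ hχ₁ hA) (hS.orthogonal φ₀ hφ₀ _ (hS.conj_mem χ₁ hχ₁) hB)
          β hβ α hα
      have he : τ (χ₁ - Cfsg.conjFun φ₀) = τ (χ₁ - φ₀) + τ (φ₀ - Cfsg.conjFun φ₀) := by
        rw [← hS.isometry.1 _ (hm φ₀ hφ₀) _ (Cfsg.Lib.Coherence.sub_conj_mem hS hφ₀),
          sub_add_sub_cancel]
      have h3 := hc' α hα
      rw [he, Cfsg.Lib.Chars.classInner_add_left, hc α hα, hz, add_zero] at h3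
      exact_mod_cast h3.symm
    have hi := hS.isometry.2.2.1 _ (hm φ hφ) _ (hm φ₀ hφ₀)
    have hz : ∀ (p q : L → ℂ), p ∈ S → q ∈ S → p ≠ q → p ≠ Cfsg.conjFun q →
        ∀ u w : (G → ℂ) → ℤ, Cfsg.classInner (Cfsg.Lib.Coherence.part (R p) u)
          (Cfsg.Lib.Coherence.part (R q) w) = 0 := fun p q hp hq hpq hpq' u w =>
      Cfsg.Lib.Coherence.inner_comb_comb _ _ (fun α hα β hβ =>
        hS.disjoint q hq p hp (hS.orthogonal p hp q hq hpq)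
          (hS.orthogonal p hp _ (hS.conj_mem q hq) hpq') α hα β hβ) _ _
    rw [hd, hd₀, Cfsg.Lib.Chars.classInner_sub_left, Cfsg.Lib.Chars.classInner_sub_right,
      Cfsg.Lib.Chars.classInner_sub_right, Cfsg.Lib.Coherence.part_part hS hχ₁,
      hz χ₁ φ₀ hχ₁ hφ₀ hA.symm (Cfsg.Lib.Coherence.ne_symm_conj hB), hz φ χ₁ hφ hχ₁ h1 h2,
      hz φ φ₀ hφ hφ₀ hs hs', Cfsg.Lib.Chars.classInner_sub_left,
      Cfsg.Lib.Chars.classInner_sub_right, Cfsg.Lib.Chars.classInner_sub_right, hn,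
      hS.orthogonal χ₁ hχ₁ φ₀ hφ₀ hA.symm, hS.orthogonal φ hφ χ₁ hχ₁ h1,
      hS.orthogonal φ hφ φ₀ hφ₀ hs] at hi
    simp only [sub_zero] at hi
    have hi' : ∑ α ∈ R χ₁, c' α * c α = n := by exact_mod_cast hi
    have hb : ∀ (u : (G → ℂ) → ℤ), ∑ α ∈ R χ₁, u α ^ 2 ≤ n → ∑ α ∈ R χ₁, u α = n →
        ∀ β ∈ R χ₁, u β = 0 ∨ u β = 1 := fun u h hu β hβ =>
      Cfsg.Lib.Coherence.zero_one_of_sum_sq_le (h.trans hu.ge) hβ
    have h0 : ∀ β ∈ R χ₁, c' β * c β ≤ c' β ∧ c' β * c β ≤ c β := fun β hβ => by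
      rcases hb c hsq hsum β hβ with e | e <;> rcases hb c' hsq'' hsum' β hβ with e' | e' <;>
        simp [e, e']
    have e1 := (Finset.sum_eq_sum_iff_of_le (fun β hβ => (h0 β hβ).1)).mp
      (hi'.trans hsum'.symm) α hα
    have e2 := (Finset.sum_eq_sum_iff_of_le (fun β hβ => (h0 β hβ).2)).mp
      (hi'.trans hsum.symm) α hα
    omega
  · obtain ⟨P, hP, hPc⟩ := Finset.exists_subset_card_eq
      (show n ≤ (R χ₁).card by rw [Cfsg.Lib.Coherence.sys_card hS hχ₁ hn]; omega)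
    refine ⟨fun α => if α ∈ P then 1 else 0, ?_, ?_, fun φ hφ h1 h2 =>
      absurd ⟨φ, hφ, h1, h2⟩ hex⟩
    · rw [Finset.sum_ite_mem, Finset.inter_eq_right.mpr hP]; simp [hPc]
    · simp only [ite_pow, one_pow, zero_pow two_ne_zero]
      rw [Finset.sum_ite_mem, Finset.inter_eq_right.mpr hP]; simp [hPc]

end Cfsg.Agent.S1517
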