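import Cfsg.Statements.S0194
import Cfsg.Agent.Chars.Inertia
import Cfsg.Agent.Chars.Real

set_option autoImplicit false
open scoped ComplexConjugate
open Cfsg

namespace Cfsg.Agent.S0194

/-- Let G have odd order, H be a normal subgroup and θ a non-principal irreducible character of H. Then the function induced from θ is orthogonal to its complex conjugate. -/
theorem result {G : Type*} [Group G] [Fintype G] (hodd : Odd (Nat.card G)) (H : Subgroup G) [H.Normal] (θ : H → ℂ) (hθ : Cfsg.IsIrrCharacter H θ) (hθ1 : θ ≠ fun _ => 1) : Cfsg.classInner (fun g => conj (Cfsg.indFun H θ g)) (Cfsg.indFun H θ) = 0 := by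
  classical
  have hθc := Cfsg.Lib.Chars.isCharacter_of_irr hθ
  have hconj := Cfsg.Lib.Chars.IsIrrCharacter.conjugate hθ
  have hind : (fun g => (starRingEnd ℂ) (Cfsg.indFun H θ g)) =
      Cfsg.indFun H (fun x => (starRingEnd ℂ) (θ x)) := by
    funext g
    rw [Cfsg.Lib.Chars.indFun_apply, Cfsg.Lib.Chars.indFun_apply, map_mul, map_inv₀, map_natCast, map_sum]
    congr 1
    refine Finset.sum_congr rfl fun x _ => ?_
    by_cases h : x⁻¹ * g * x ∈ H
    · rw [Cfsg.Lib.Chars.extendByZero_mem _ h, Cfsg.Lib.Chars.extendByZero_mem _ h]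
    · rw [Cfsg.Lib.Chars.extendByZero_not_mem _ h, Cfsg.Lib.Chars.extendByZero_not_mem _ h, map_zero]
  rw [hind]
  have h := Cfsg.Lib.Chars.classInner_indFun_eq_card H hconj hθ
  refine (mul_eq_zero.mp (h.trans ?_)).resolve_left (by exact_mod_cast Nat.card_pos.ne')
  rw [Nat.cast_eq_zero, Finite.card_eq_zero_iff]
  refine ⟨fun ⟨g, hg⟩ => hθ1 ?_⟩
  have hswap : Cfsg.Lib.Chars.conjN H g θ = fun x => (starRingEnd ℂ) (θ x) := by
    funext x
    have := congrArg (starRingEnd ℂ) (congrFun hg x)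
    simpa [Cfsg.Lib.Chars.conjN] using this
  have h2 : g * g ∈ Cfsg.Lib.Chars.inertia H θ := by
    show Cfsg.Lib.Chars.conjN H (g * g) θ = θ
    rw [Cfsg.Lib.Chars.conjN_mul, hswap, hg]
  have hmem : g ∈ Cfsg.Lib.Chars.inertia H θ := by
    obtain ⟨m, hm⟩ := hodd
    have h3 : (g * g) ^ (m + 1) = g := by
      rw [← pow_two, ← pow_mul, show 2 * (m + 1) = Nat.card G + 1 by omega, pow_succ,
        pow_card_eq_one', one_mul]
    exact h3 ▸ Subgroup.pow_mem _ h2 _
  have hreal : ∀ x, (θ x).im = 0 := fun x => by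
    rw [← Complex.conj_eq_iff_im]
    exact (congrFun hswap x).symm.trans (congrFun (show Cfsg.Lib.Chars.conjN H g θ = θ from hmem) x)
  have hoddH : Odd (Nat.card H) := hodd.of_dvd_nat (Subgroup.card_subgroup_dvd_card H)
  exact congrArg Subtype.val (Cfsg.Lib.Chars.eq_principal_of_real hoddH ⟨θ, hθ⟩ hreal)

end Cfsg.Agent.S0194
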