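import Cfsg.Statements.S1486
import Cfsg.Agent.Chars.Inertia

set_option autoImplicit false
open Cfsg

namespace Cfsg.Agent.S1486

/-- Let H be a normal subgroup of the finite group G and θ, φ irreducible characters of H. If φ is a G-conjugate of θ then the functions induced from θ and φ coincide; if φ is not a G-conjugate of θ then the induced functions are orthogonal. -/
theorem result {G : Type*} [Group G] [Fintype G] (H : Subgroup G) [hN : H.Normal] (θ φ : H → ℂ) (hθ : Cfsg.IsIrrCharacter H θ) (hφ : Cfsg.IsIrrCharacter H φ) : ((∃ g : G, φ = fun h : H => θ ⟨g * h * g⁻¹, hN.conj_mem h h.2 g⟩) → Cfsg.indFun H φ = Cfsg.indFun H θ) ∧ ((¬ ∃ g : G, φ = fun h : H => θ ⟨g * h * g⁻¹, hN.conj_mem h h.2 g⟩) → Cfsg.classInner (Cfsg.indFun H φ) (Cfsg.indFun H θ) = 0) := by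
  classical
  constructor
  · rintro ⟨g, rfl⟩
    exact Cfsg.Lib.Chars.indFun_conjN H g θ
  · intro hno
    have h := Cfsg.Lib.Chars.classInner_indFun_eq_card H hθ hφ
    have h0 : Nat.card {g : G // Cfsg.Lib.Chars.conjN H g θ = φ} = 0 := by
      rw [Nat.card_eq_zero]
      exact Or.inl ⟨fun g => hno ⟨g.1, g.2.symm⟩⟩
    rw [h0, Nat.cast_zero, mul_eq_zero] at h
    rw [← Cfsg.Lib.Chars.classInner_conj_symm,
      h.resolve_left (by exact_mod_cast Nat.card_pos.ne'), map_zero]

end Cfsg.Agent.S1486
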