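import Cfsg.Statements.S1518
import Cfsg.Agent.OddChar.DadeGen
import Cfsg.Agent.Chars.NormTwo

set_option autoImplicit false
open Cfsg

namespace Cfsg.Agent.S1518

/-- Under the Dade hypothesis for (A, L, H): if χ is an irreducible character of L vanishing at every non-identity element of L outside A, then the Dade image of χ − conj χ equals μ − conj μ for some irreducible character μ of G. -/
theorem result {G : Type*} [Group G] [Fintype G] (A : Set G) (L : Subgroup G) [Fintype L] (H : G → Subgroup G) (hD : Cfsg.DadeHypothesis A L H) (χ : L → ℂ) (hχ : Cfsg.IsIrrCharacter L χ) (hsupp : ∀ x : L, x ≠ 1 → (x : G) ∉ A → χ x = 0) : ∃ μ : G → ℂ, Cfsg.IsIrrCharacter G μ ∧ Cfsg.dadeIsometry A L H (χ - Cfsg.conjFun χ) = μ - Cfsg.conjFun μ := by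
  classical
  set δ := χ - Cfsg.conjFun χ with hδdef
  have hχc := Cfsg.Lib.Chars.isCharacter_of_irr hχ
  have hχb : Cfsg.IsIrrCharacter L (Cfsg.conjFun χ) := Cfsg.Lib.Chars.IsIrrCharacter.conjugate hχ
  have hδgen : Cfsg.IsGeneralizedCharacter L δ :=
    Cfsg.Lib.Chars.IsGeneralizedCharacter.sub (Cfsg.Lib.Chars.IsCharacter.isGeneralized hχc)
      (Cfsg.Lib.Chars.IsCharacter.isGeneralized (Cfsg.Lib.Chars.isCharacter_of_irr hχb))
  have hδA : ∀ x : L, (x : G) ∉ A → δ x = 0 := by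
    intro x hx
    by_cases h1 : x = 1
    · subst h1
      obtain ⟨k, -, hk⟩ := Cfsg.Lib.Chars.IsIrrCharacter.apply_one hχ
      simp [hδdef, Cfsg.conjFun, hk]
    · simp [hδdef, Cfsg.conjFun, hsupp x h1 hx]
  have hδc := Cfsg.Lib.Chars.isClassFunction_generalized hδgen
  by_cases hreal : χ = Cfsg.conjFun χ
  · refine ⟨fun _ => 1, Cfsg.Lib.Chars.isIrrCharacter_one, ?_⟩
    have h0 : δ = 0 := by rw [hδdef, ← hreal, sub_self]
    funext g
    rw [h0]
    simp [Cfsg.dadeIsometry, Cfsg.conjFun]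
  have hnorm : Cfsg.classInner (Cfsg.dadeIsometry A L H δ) (Cfsg.dadeIsometry A L H δ) = 2 := by
    rw [Cfsg.Lib.Dade.classInner_dade_dade hD hδc hδA hδc, hδdef]
    rw [Cfsg.Lib.Chars.classInner_sub_left, Cfsg.Lib.Chars.classInner_sub_right,
      Cfsg.Lib.Chars.classInner_sub_right, Cfsg.Lib.Chars.classInner_self_irr hχ,
      Cfsg.Lib.Chars.classInner_self_irr hχb, Cfsg.Lib.Chars.classInner_irrChar hχ hχb,
      Cfsg.Lib.Chars.classInner_irrChar hχb hχ, if_neg hreal, if_neg (Ne.symm hreal)]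
    norm_num
  obtain ⟨μ, ν, hne, heq⟩ := Cfsg.Lib.Chars.exists_sub_of_norm_two
    (Cfsg.Lib.Dade.isGeneralized_dade hD hδgen hδA) hnorm (Cfsg.Lib.Dade.dade_one hD δ)
  refine ⟨μ, μ.2, ?_⟩
  rw [heq]
  congr 1
  -- conjugation changes the sign
  have hanti : ∀ g, (starRingEnd ℂ) (Cfsg.dadeIsometry A L H δ g) =
      -Cfsg.dadeIsometry A L H δ g := by
    intro g
    simp only [Cfsg.dadeIsometry]
    split_ifs
    · simp [hδdef, Cfsg.conjFun]
    · simp
  have hμb : Cfsg.IsIrrCharacter G (Cfsg.conjFun (μ : G → ℂ)) :=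
    Cfsg.Lib.Chars.IsIrrCharacter.conjugate μ.2
  have hνb : Cfsg.IsIrrCharacter G (Cfsg.conjFun (ν : G → ℂ)) :=
    Cfsg.Lib.Chars.IsIrrCharacter.conjugate ν.2
  have hid : (μ : G → ℂ) - ν = Cfsg.conjFun (ν : G → ℂ) - Cfsg.conjFun (μ : G → ℂ) := by
    funext g
    have := hanti g
    rw [heq] at this
    simp only [Pi.sub_apply, map_sub] at this
    simp only [Pi.sub_apply, Cfsg.conjFun]
    linear_combination this
  have h := congrArg (fun f => Cfsg.classInner f (ν : G → ℂ)) hid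
  simp only [Cfsg.Lib.Chars.classInner_sub_left, Cfsg.Lib.Chars.classInner_self_irr ν.2,
    Cfsg.Lib.Chars.classInner_irr_ne hne, Cfsg.Lib.Chars.classInner_irrChar hμb ν.2,
    Cfsg.Lib.Chars.classInner_irrChar hνb ν.2] at h
  by_contra hc
  rw [if_neg (Ne.symm hc)] at h
  split_ifs at h <;> norm_num at h

end Cfsg.Agent.S1518
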