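import Cfsg.Statements.S1324
import Cfsg.Agent.Coprime.Generation

set_option autoImplicit false
open Cfsg

namespace Cfsg.Agent.S1324

/-- Let A be a noncyclic elementary abelian p-subgroup of a finite group H normalizing a subgroup X of order prime to p. Then X is generated by the subgroups X ∩ C_H(B), B ranging over the subgroups of A of index at most p. -/
theorem result {H : Type*} [Group H] [Finite H] (p : ℕ) [Fact p.Prime] (A X : Subgroup H) (hA : Cfsg.IsElementaryAbelian p A) (hA2 : p ^ 2 ≤ Nat.card ↥A) (hX : ¬ p ∣ Nat.card ↥X) (hAX : A ≤ Subgroup.normalizer (X : Set H)) : X = ⨆ B : {B : Subgroup H // B ≤ A ∧ B.relIndex A ≤ p}, X ⊓ Subgroup.centralizer ((B : Subgroup H) : Set H) := by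
  haveI := hA.1
  have comm : ∀ x ∈ A, ∀ y ∈ A, x * y = y * x := fun x hx y hy =>
    congrArg Subtype.val (mul_comm' (⟨x, hx⟩ : A) ⟨y, hy⟩)
  refine le_antisymm ?_ (iSup_le fun B => inf_le_left)
  set R := ⨆ B : {B : Subgroup H // B ≤ A ∧ B.relIndex A ≤ p}, X ⊓ Subgroup.centralizer ((B : Subgroup H) : Set H) with hR
  suffices h : ∀ (n : ℕ) (B : Subgroup H), B ≤ A → B.relIndex A = n →
      X ⊓ Subgroup.centralizer (B : Set H) ≤ R by
    intro x hx
    refine h _ ⊥ bot_le rfl ⟨hx, Subgroup.mem_centralizer_iff.2 fun y hy => ?_⟩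
    rw [Subgroup.mem_bot.1 hy, one_mul, mul_one]
  intro n
  induction n using Nat.strong_induction_on with
  | _ n ih =>
  intro B hBA hn
  by_cases hsmall : B.relIndex A ≤ p
  · exact le_iSup (fun B : {B : Subgroup H // B ≤ A ∧ B.relIndex A ≤ p} =>
      X ⊓ Subgroup.centralizer ((B : Subgroup H) : Set H)) ⟨B, hBA, hsmall⟩
  obtain ⟨D, ⟨hDA, hDB⟩, hmax⟩ := (Set.toFinite {D : Subgroup H | D ≤ A ∧ D ⊓ B = ⊥}).exists_maximal
    ⟨⊥, bot_le, bot_inf_eq B⟩
  have hnor : ∀ E, E ≤ A → E ≤ Subgroup.normalizer (B : Set H) := by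
    intro E hE e he
    refine Subgroup.mem_normalizer_iff.2 fun y => ?_
    constructor
    · intro hy
      rw [comm e (hE he) y (hBA hy), mul_inv_cancel_right]
      exact hy
    · intro hy
      have h1 := comm e⁻¹ (A.inv_mem (hE he)) _ (hBA hy)
      have h2 : y = e * y * e⁻¹ := by
        have h3 := congrArg (fun u => u * e) h1
        simpa [mul_assoc] using h3
      rwa [h2]
  have hsup : A ≤ D ⊔ B := by
    intro a ha
    by_contra hna
    have hap := hA.2 a ha
    have hD' : (D ⊔ Subgroup.zpowers a) ⊓ B = ⊥ := by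
      rw [Subgroup.eq_bot_iff_forall]
      rintro x ⟨hx1, hx2⟩
      have hdn : D ≤ Subgroup.normalizer (Subgroup.zpowers a : Set H) := by
        intro d hd
        refine Subgroup.mem_normalizer_iff.2 fun y => ⟨?_, ?_⟩
        · intro hy
          rw [comm d (hDA hd) y (Subgroup.zpowers_le.2 ha hy), mul_inv_cancel_right]
          exact hy
        · intro hy
          have h1 := comm d⁻¹ (A.inv_mem (hDA hd)) _ (Subgroup.zpowers_le.2 ha hy)
          have h2 : y = d * y * d⁻¹ := by
            have h3 := congrArg (fun u => u * d) h1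
            simpa [mul_assoc] using h3
          rwa [h2]
      have hx1' : x ∈ ((D ⊔ Subgroup.zpowers a : Subgroup H) : Set H) := hx1
      rw [Subgroup.coe_mul_of_left_le_normalizer_right _ _ hdn] at hx1'
      obtain ⟨d, hd, w, hw, rfl⟩ := hx1'
      replace hx2 : d * w ∈ B := hx2
      obtain ⟨k, rfl⟩ := Subgroup.mem_zpowers_iff.1 hw
      have hak : a ^ k ∈ D ⊔ B := by
        have h4 : a ^ k = d⁻¹ * (d * a ^ k) := by simp
        rw [h4]
        exact Subgroup.mul_mem_sup (inv_mem hd) hx2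
      by_cases hk : (p : ℤ) ∣ k
      · obtain ⟨c, rfl⟩ := hk
        have hone : a ^ ((p : ℤ) * c) = 1 := by rw [zpow_mul, zpow_natCast, hap, one_zpow]
        simp only [hone, mul_one] at hx2 ⊢
        exact (Subgroup.eq_bot_iff_forall _).1 hDB d ⟨hd, hx2⟩
      · refine absurd ?_ hna
        have hco : IsCoprime k (p : ℤ) :=
          ((Nat.prime_iff_prime_int.1 (Fact.out : p.Prime)).coprime_iff_not_dvd.2 hk).symm
        obtain ⟨u, v, huv⟩ := hco
        have h5 : a = (a ^ k) ^ u := by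
          rw [← zpow_mul]
          conv_lhs => rw [← zpow_one a, ← huv, zpow_add, mul_comm v, zpow_mul a (p : ℤ) v, zpow_natCast, hap, one_zpow, mul_one, mul_comm u]
        rw [h5]
        exact zpow_mem hak u
    have := hmax ⟨sup_le hDA (Subgroup.zpowers_le.2 ha), hD'⟩ le_sup_left
    exact hna (Subgroup.mem_sup_left (this (Subgroup.mem_sup_right (Subgroup.mem_zpowers a))))
  haveI : IsMulCommutative D := ⟨⟨fun x y => Subtype.ext (comm x (hDA x.2) y (hDA y.2))⟩⟩
  have hcard : B.relIndex A ≤ Nat.card D := by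
    refine Nat.card_le_card_of_surjective (fun d : D =>
      ((⟨d, hDA d.2⟩ : A) : A ⧸ B.subgroupOf A)) fun q => QuotientGroup.induction_on q fun a => ?_
    have ha := hsup a.2
    rw [← SetLike.mem_coe, Subgroup.coe_mul_of_left_le_normalizer_right _ _ (hnor D hDA)] at ha
    obtain ⟨d, hd, b, hb, hab⟩ := ha
    refine ⟨⟨d, hd⟩, ?_⟩
    rw [QuotientGroup.eq]
    show d⁻¹ * (a : H) ∈ B
    rw [← hab, inv_mul_cancel_left]
    exact hb
  have hnc : ¬ IsCyclic D := by
    intro hc
    obtain ⟨g, hg⟩ := hc.exists_ofOrder_eq_natCard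
    have h1 : orderOf g ∣ p := orderOf_dvd_of_pow_eq_one (Subtype.ext (hA.2 g (hDA g.2)))
    rw [hg] at h1
    have := Nat.le_of_dvd (Fact.out : p.Prime).pos h1
    omega
  set K := X ⊓ Subgroup.centralizer (B : Set H) with hK
  have hDK : D ≤ Subgroup.normalizer (K : Set H) := by
    intro d hd
    have hdB : ∀ b ∈ B, d * b = b * d := fun b hb => comm d (hDA hd) b (hBA hb)
    have hdX := Subgroup.mem_normalizer_iff.1 (hAX (hDA hd))
    refine Subgroup.mem_normalizer_iff.2 fun y => and_congr (hdX y) ?_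
    simp only [SetLike.mem_coe, Subgroup.coe_toSubmonoid, Subgroup.mem_centralizer_iff]
    refine forall₂_congr fun b hb => ?_
    have h1 := hdB b hb
    have h2 : d⁻¹ * b = b * d⁻¹ := by
      have h3 := congrArg (fun u => d⁻¹ * u * d⁻¹) h1
      simpa [mul_assoc] using h3.symm
    constructor
    · intro h
      calc b * (d * y * d⁻¹) = d * (b * y) * d⁻¹ := by rw [← mul_assoc d b y, h1]; simp [mul_assoc]
        _ = d * y * (b * d⁻¹) := by rw [h]; simp [mul_assoc]
        _ = d * y * d⁻¹ * b := by rw [← h2]; simp [mul_assoc]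
    · intro h
      have h4 := congrArg (fun u => d⁻¹ * u * d) h
      have h5 : d⁻¹ * (b * (d * y * d⁻¹)) * d = b * y := by
        rw [← mul_assoc d⁻¹ b, h2]; simp [mul_assoc]
      have h6 : d⁻¹ * (d * y * d⁻¹ * b) * d = y * b := by
        rw [mul_assoc (d * y) d⁻¹ b, h2]; simp [mul_assoc]
      simp only [h5, h6] at h4
      exact h4
  have hcop : (Nat.card D).Coprime (Nat.card K) := by
    obtain ⟨k, hk⟩ := (IsPGroup.iff_card (p := p) (G := D)).1
      (fun d => ⟨1, Subtype.ext (by rw [pow_one]; exact hA.2 d (hDA d.2))⟩)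
    rw [hk]
    exact (((Fact.out : p.Prime).coprime_iff_not_dvd).2
      (fun h => hX (h.trans (Subgroup.card_dvd_of_le inf_le_left)))).pow_left k
  rw [← Cfsg.Lib.Coprime.centralizerJoin_eq hnc hDK hcop]
  refine iSup₂_le fun d hd => ?_
  have hB' : B ⊔ Subgroup.zpowers d ≤ A := sup_le hBA (Subgroup.zpowers_le.2 (hDA hd.1))
  refine le_trans ?_ (ih ((B ⊔ Subgroup.zpowers d).relIndex A) ?_ _ hB' rfl)
  · rintro x ⟨⟨hx1, hx2⟩, hx3⟩
    refine ⟨hx1, ?_⟩
    have : B ⊔ Subgroup.zpowers d ≤ Subgroup.centralizer ({x} : Set H) := by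
      refine sup_le (fun b hb => Subgroup.mem_centralizer_singleton_iff.2
        (Subgroup.mem_centralizer_iff.1 hx2 b hb)) (Subgroup.zpowers_le.2 ?_)
      exact Subgroup.mem_centralizer_singleton_iff.2 (Subgroup.mem_centralizer_singleton_iff.1 hx3).symm
    exact Subgroup.mem_centralizer_iff.2 fun y hy => Subgroup.mem_centralizer_singleton_iff.1 (this hy)
  · rw [← hn, ← Subgroup.relIndex_mul_relIndex B (B ⊔ Subgroup.zpowers d) A le_sup_left hB']
    refine lt_mul_of_one_lt_left (Nat.pos_of_ne_zero ?_) ?_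
    · exact Subgroup.index_ne_zero_of_finite
    · rcases Nat.lt_or_ge 1 (B.relIndex (B ⊔ Subgroup.zpowers d)) with h | h
      · exact h
      · have h1 : B.relIndex (B ⊔ Subgroup.zpowers d) = 1 := by
          have : B.relIndex (B ⊔ Subgroup.zpowers d) ≠ 0 := Subgroup.index_ne_zero_of_finite
          omega
        rw [Subgroup.relIndex_eq_one] at h1
        exact absurd ((Subgroup.eq_bot_iff_forall _).1 hDB d ⟨hd.1, h1 (Subgroup.mem_sup_right (Subgroup.mem_zpowers d))⟩) hd.2

end Cfsg.Agent.S1324
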