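import Cfsg.Statements.S3771
import Cfsg.Agent.PGroups.Bounds
import Cfsg.Agent.PGroups.AutOrder

set_option autoImplicit false
open Cfsg

namespace Cfsg.Agent.S3771

/-- Let p be a prime and R a finite p-group of p-rank at most 2 (no elementary abelian subgroup of order p³) in which every element has order dividing p. Then R has order at most p³. -/
theorem result {R : Type*} [Group R] [Finite R] {p : ℕ} [Fact p.Prime] (hR : IsPGroup p R) (hrank : Cfsg.PRankLE p 2 R) (hexp : ∀ x : R, x ^ p = 1) : Nat.card R ≤ p ^ 3 := by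
  have hp' : p.Prime := Fact.out
  obtain ⟨A, ⟨hA, hAab⟩, hmax⟩ := exists_maximal_of_wellFoundedGT
    (fun A : Subgroup R => A.Normal ∧ IsMulCommutative A) ⟨⊥, inferInstance, ⟨⟨fun a b => Subsingleton.elim _ _⟩⟩⟩
  have hC : Subgroup.centralizer (A : Set R) = A :=
    Cfsg.Lib.PGroups.centralizer_eq_self_of_maximal_normal_abelian hR A hAab
      (fun B hB hBab hAB => le_antisymm (hmax ⟨hB, hBab⟩ hAB) hAB)
  have hAle : Nat.card A ≤ p ^ 2 := hrank A hAab (fun a _ => hexp a)
  have hAp : IsPGroup p A := hR.to_subgroup A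
  obtain ⟨a, hca⟩ := IsPGroup.iff_card.mp hAp
  have ha2 : a ≤ 2 := (Nat.pow_le_pow_iff_right hp'.one_lt).mp (hca ▸ hAle)
  obtain ⟨r, -, hidx⟩ : ∃ r ≤ a, (frattini A).index = p ^ r :=
    (Nat.dvd_prime_pow hp').mp (hca ▸ (frattini A).index_dvd_card)
  have hdvd := Cfsg.Lib.PGroups.card_aut_dvd hca hidx
  have hra : r ≤ a := (Nat.pow_dvd_pow_iff_le_right hp'.one_lt).mp (hidx ▸ hca ▸ (frattini A).index_dvd_card)
  have hN : Subgroup.normalizer (A : Set R) = ⊤ := Subgroup.normalizer_eq_top_iff.mpr hA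
  let f : Subgroup.normalizer (A : Set R) →* MulAut A := A.normalizerMonoidHom
  have hker : f.ker = A.subgroupOf (Subgroup.normalizer (A : Set R)) := by
    rw [Subgroup.normalizerMonoidHom_ker, hC]
  have hrange : Nat.card f.range * Nat.card A = Nat.card R := by
    rw [← Nat.card_congr (QuotientGroup.quotientKerEquivRange f).toEquiv]
    have := Subgroup.card_eq_card_quotient_mul_card_subgroup f.ker
    rw [hker, Nat.card_congr (Subgroup.subgroupOfEquivOfLe Subgroup.le_normalizer).toEquiv,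
      hN, Subgroup.card_top] at this
    rw [hker]
    convert this.symm using 3 <;> rw [hN]
  obtain ⟨e, he⟩ := IsPGroup.iff_card.mp (hR.to_subgroup (Subgroup.normalizer (A : Set R)) |>.of_surjective
    f.rangeRestrict f.rangeRestrict_surjective)
  have hd : p ^ e ∣ p ^ (r * (a - r)) * ∏ i ∈ Finset.range r, (p ^ r - p ^ i) :=
    he ▸ (Subgroup.card_subgroup_dvd_card f.range).trans hdvd
  have h2 := hp'.two_le
  have he' : e + a ≤ 3 := by
    have hcop : p.Coprime (p - 1) :=
      hp'.coprime_iff_not_dvd.mpr fun hd => by have := Nat.le_of_dvd (by omega) hd; omega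
    have key : ∀ k m : ℕ, p.Coprime m → p ^ e ∣ p ^ k * m → e ≤ k := fun k m hm hdk =>
      (Nat.pow_dvd_pow_iff_le_right hp'.one_lt).mp ((hm.pow_left e).dvd_of_dvd_mul_right hdk)
    have hr2 : r = 0 ∨ r = 1 ∨ (r = 2 ∧ a = 2) := by omega
    rcases hr2 with rfl | rfl | ⟨rfl, rfl⟩
    · have h1 := key 0 1 (Nat.coprime_one_right p) (by simpa using hd)
      omega
    · have h1 := key (a - 1) (p - 1) hcop (by simpa using hd)
      omega
    · have h3 : p ^ 2 - p = p * (p - 1) := by rw [Nat.mul_sub, mul_one, sq]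
      have hd' : p ^ e ∣ p ^ 1 * ((p ^ 2 - 1) * (p - 1)) := by
        rw [show (2 - 2 : ℕ) = 0 from rfl, mul_zero, pow_zero, one_mul] at hd
        simp [Finset.prod_range_succ, h3] at hd
        rwa [pow_one, mul_left_comm]
      have hc2 : p.Coprime (p ^ 2 - 1) := hp'.coprime_iff_not_dvd.mpr fun hd => by
        have h7 := Nat.dvd_sub (dvd_pow_self p two_ne_zero) hd
        rw [show p ^ 2 - (p ^ 2 - 1) = 1 by have : 1 ≤ p ^ 2 := Nat.one_le_pow _ _ hp'.pos; omega] at h7
        exact hp'.not_dvd_one h7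
      have h1 := key 1 _ (hc2.mul_right hcop) hd'
      omega
  calc Nat.card R = p ^ e * p ^ a := by rw [← hrange, he, hca]
    _ = p ^ (e + a) := (pow_add _ _ _).symm
    _ ≤ p ^ 3 := Nat.pow_le_pow_right hp'.pos he' 

end Cfsg.Agent.S3771
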