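import Cfsg.Statements.S1451
import Cfsg.Agent.OddLocal.CharHall

set_option autoImplicit false
set_option linter.style.haveILetI false
open Cfsg

namespace Cfsg.Agent.S1451

/-- Let G be a solvable group of odd order such that G, or its Fitting subgroup, has no elementary abelian subgroup of order q ^ 3 for any prime q. Then G' is nilpotent; for every Sylow subgroup S of G, every characteristic subgroup T of S with T ≤ [S, S] is normal in G; and for every prime p, G has a characteristic subgroup that is a Hall subgroup for the set of primes greater than p. -/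
theorem result {G : Type*} [Group G] [Finite G] [Group.IsSolvable G] (hodd : Odd (Nat.card G)) (hr : Cfsg.RankLE 2 G ∨ Cfsg.RankLE 2 (Cfsg.fittingSubgroup G)) :
    Group.IsNilpotent ↥(commutator G) ∧
      (∀ (q : ℕ) [Fact q.Prime] (S : Sylow q G) (T : Subgroup ↥(S : Subgroup G)), T.Characteristic → T.map (S : Subgroup G).subtype ≤ ⁅(S : Subgroup G), (S : Subgroup G)⁆ →
        (T.map (S : Subgroup G).subtype).Normal) ∧
      ∀ p : ℕ, ∃ N : Subgroup G, N.Characteristic ∧ Cfsg.IsPiHall {q | q.Prime ∧ p < q} N := by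
  have hF : Cfsg.RankLE 2 (Cfsg.fittingSubgroup G) := hr.elim (fun h q hq => by
    haveI := Fact.mk hq
    exact Cfsg.Lib.OddP.pRankLE_of_injective (Cfsg.fittingSubgroup G).subtype Subtype.val_injective (h q hq)) id
  have hUF : ∀ (q : ℕ) [Fact q.Prime], Cfsg.pCore q G ≤ Cfsg.fittingSubgroup G := fun q _ =>
    le_sSup ⟨inferInstance, (Cfsg.Lib.Components.isPGroup_pCore q).isNilpotent⟩
  have hrU : ∀ (q : ℕ) [Fact q.Prime], Cfsg.PRankLE q 2 (Cfsg.pCore q G) := fun q _ =>
    Cfsg.Lib.OddP.pRankLE_of_injective (Subgroup.inclusion (hUF q)) (Subgroup.inclusion_injective _)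
      (hF q Fact.out)
  have hodd' : ∀ q : ℕ, q ∣ Nat.card G → q ≠ 2 := fun q hq h => hodd.not_two_dvd_nat (h ▸ hq)
  have hqdvd : ∀ (q : ℕ) [Fact q.Prime], Cfsg.pCore q G ≠ ⊥ → q ∣ Nat.card G := fun q _ h =>
    ((Cfsg.Lib.Components.isPGroup_pCore q).card_eq_or_dvd.resolve_left
      fun h1 => h (Subgroup.card_eq_one.mp h1)).trans (Subgroup.card_subgroup_dvd_card _)
  have hGF : commutator G ≤ Cfsg.fittingSubgroup G := by
    refine Cfsg.Lib.OddP.commutator_le_fitting fun q _ x hx hxq => ?_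
    by_cases hU1 : Cfsg.pCore q G = ⊥
    · rw [hU1]
      exact Subgroup.mem_centralizer_iff.mpr fun y hy => by
        rw [Subgroup.mem_bot.mp hy, one_mul, mul_one]
    exact Cfsg.Lib.OddP.derived_centralizes_rankTwo (hodd' q (hqdvd q hU1))
      (Cfsg.Lib.Components.isPGroup_pCore q) (hrU q) (A := ⊤) Subgroup.le_normalizer_of_normal
      (by rwa [Subgroup.card_top]) (by rwa [← _root_.commutator_def]) hxq
  haveI : Group.IsNilpotent (Cfsg.fittingSubgroup G) := Cfsg.Lib.Components.isNilpotent_fitting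
  haveI hnil : Group.IsNilpotent (commutator G) :=
    Group.nilpotent_of_mulEquiv (Subgroup.subgroupOfEquivOfLe hGF)
  refine ⟨hnil, fun q _ S T hT hTS => Cfsg.Lib.OddP.normal_of_char_sylow S T hTS, fun p => ?_⟩
  refine Cfsg.Lib.OddP.exists_char_hall p hGF fun r s hr _ hpr hsp hrG x hxs hxr => ?_
  by_contra hxC
  by_cases hU1 : Cfsg.pCore s G = ⊥
  · refine hxC ?_
    rw [hU1]
    exact Subgroup.mem_centralizer_iff.mpr fun y hy => by rw [Subgroup.mem_bot.mp hy, one_mul, mul_one]
  have h := Cfsg.Lib.OddP.prime_dvd_sq_sub_one (hodd' s (hqdvd s hU1))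
    (Cfsg.Lib.Components.isPGroup_pCore s) (hrU s) (Subgroup.le_normalizer_of_normal (Subgroup.mem_top x))
    hxs hr (by omega) hxr hxC
  have := Cfsg.Lib.OddP.prime_le_of_dvd_sq_sub_one hr (hodd' r hrG) (hodd' s (hqdvd s hU1)) h
  omega

end Cfsg.Agent.S1451
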