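import Cfsg.Statements.S0157
import Cfsg.Agent.Chars.Perm
import Cfsg.Agent.Chars.Core

set_option autoImplicit false
open Cfsg

namespace Cfsg.Agent.S0157

/-- For a transitive action of a finite group on a finite set with at least two points: the action is 2-transitive if and only if the function sending g to (number of fixed points of g) − 1 is an irreducible character. -/
theorem result {G : Type*} [Group G] [Finite G] (X : Type*) [MulAction G X] [Finite X] [MulAction.IsPretransitive G X] (hX : 2 ≤ Nat.card X) : Cfsg.IsIrrCharacter G (fun g => (Nat.card (MulAction.fixedBy X g) : ℂ) - 1) ↔ MulAction.IsMultiplyPretransitive G X 2 := by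
  classical
  have := Fintype.ofFinite G
  set π := Cfsg.Lib.Chars.permChar G X with hπdef
  have hπ : Cfsg.IsCharacter G π := Cfsg.Lib.Chars.isCharacter_permChar X
  have hone : Cfsg.IsIrrCharacter G (fun _ => (1 : ℂ)) := by
    simpa using Cfsg.Lib.Chars.isIrrCharacter_linear (1 : G →* ℂˣ)
  set f : G → ℂ := fun g => (Nat.card (MulAction.fixedBy X g) : ℂ) - 1 with hfdef
  have hfsub : f = π - fun _ => 1 := rfl
  have hπ1 : Cfsg.classInner π (fun _ => 1) = 1 := by
    rw [hπdef, Cfsg.Lib.Chars.classInner_permChar_one X]
    have hne : Nonempty X := (Nat.card_ne_zero.mp (by omega)).1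
    have : Subsingleton (MulAction.orbitRel.Quotient G X) := by
      refine ⟨fun a b => Quotient.inductionOn₂ a b fun x y => Quotient.sound ?_⟩
      obtain ⟨g, hg⟩ := MulAction.exists_smul_eq G y x
      exact ⟨g, hg⟩
    have : Nonempty (MulAction.orbitRel.Quotient G X) := hne.map (Quotient.mk _)
    rw [Nat.card_eq_one_iff_unique.mpr ⟨inferInstance, inferInstance⟩, Nat.cast_one]
  have hsq : Cfsg.classInner π π = (Nat.card (MulAction.orbitRel.Quotient G (X × X)) : ℂ) := by
    rw [← Cfsg.Lib.Chars.classInner_permChar_one (X × X), Cfsg.Lib.Chars.classInner_def,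
      Cfsg.Lib.Chars.classInner_def]
    congr 1
    refine Finset.sum_congr rfl fun g _ => ?_
    have hc : Nat.card (MulAction.fixedBy (X × X) g) =
        Nat.card (MulAction.fixedBy X g) * Nat.card (MulAction.fixedBy X g) := by
      rw [← Nat.card_prod]
      refine Nat.card_congr
        { toFun := fun p => (⟨p.1.1, congrArg Prod.fst p.2⟩, ⟨p.1.2, congrArg Prod.snd p.2⟩)
          invFun := fun p => ⟨(p.1.1, p.2.1), Prod.ext p.1.2 p.2.2⟩
          left_inv := fun p => rfl
          right_inv := fun p => rfl }
    simp only [hπdef, Cfsg.Lib.Chars.permChar, hc, map_one, mul_one, Complex.conj_natCast, Nat.cast_mul]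
  have h1π : Cfsg.classInner (fun _ => (1 : ℂ)) π = 1 := by
    rw [← Cfsg.Lib.Chars.classInner_conj_symm, hπ1, map_one]
  have hnorm : Cfsg.classInner f f = (Nat.card (MulAction.orbitRel.Quotient G (X × X)) : ℂ) - 1 := by
    rw [hfsub, Cfsg.Lib.Chars.classInner_sub_left, Cfsg.Lib.Chars.classInner_sub_right,
      Cfsg.Lib.Chars.classInner_sub_right, hπ1, h1π, hsq, Cfsg.Lib.Chars.classInner_self_irr hone]
    ring
  have hcount : Nat.card (MulAction.orbitRel.Quotient G (X × X)) = 2 ↔ MulAction.IsMultiplyPretransitive G X 2 := by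
    rw [MulAction.is_two_pretransitive_iff]
    obtain ⟨x₀, y₀, hxy⟩ : ∃ a b : X, a ≠ b := by
      have : Nontrivial X := Finite.one_lt_card_iff_nontrivial.mp (by omega)
      exact exists_pair_ne X
    let Q := MulAction.orbitRel.Quotient G (X × X)
    have hdiag : ∀ a : X, ((Quotient.mk _ (a, a)) : Q) = Quotient.mk _ (x₀, x₀) := fun a => by
      obtain ⟨g, hg⟩ := MulAction.exists_smul_eq G x₀ a
      exact Quotient.sound ⟨g, Prod.ext hg hg⟩
    have hne : ∀ a b : X, a ≠ b → ((Quotient.mk _ (a, b)) : Q) ≠ Quotient.mk _ (x₀, x₀) := fun a b hab h => by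
      obtain ⟨g, hg⟩ := Quotient.exact h
      exact hab ((congrArg Prod.fst hg).symm.trans (congrArg Prod.snd hg))
    constructor
    · intro h2 a b c d hab hcd
      have h3 : ((Quotient.mk _ (c, d)) : Q) = Quotient.mk _ (a, b) := by
        by_contra hne2
        have hinj : Function.Injective (![(Quotient.mk _ (x₀, x₀) : Q), Quotient.mk _ (a, b), Quotient.mk _ (c, d)]) := by
          intro i j hij
          fin_cases i <;> fin_cases j <;> first
            | rfl
            | exact absurd hij (hne a b hab).symm
            | exact absurd hij.symm (hne a b hab).symm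
            | exact absurd hij (hne c d hcd).symm
            | exact absurd hij.symm (hne c d hcd).symm
            | exact absurd hij hne2
            | exact absurd hij.symm hne2
        have := Nat.card_le_card_of_injective _ hinj
        rw [h2, Nat.card_fin] at this
        omega
      obtain ⟨g, hg⟩ := Quotient.exact h3
      exact ⟨g, congrArg Prod.fst hg, congrArg Prod.snd hg⟩
    · intro h2
      have hall : ∀ q : Q, q = Quotient.mk _ (x₀, x₀) ∨ q = Quotient.mk _ (x₀, y₀) := by
        refine fun q => Quotient.inductionOn q ?_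
        rintro ⟨a, b⟩
        by_cases hab : a = b
        · subst hab; exact Or.inl (hdiag a)
        · obtain ⟨g, hg1, hg2⟩ := h2 hxy hab
          exact Or.inr (Quotient.sound ⟨g, Prod.ext hg1 hg2⟩)
      rw [Nat.card_eq_two_iff]
      refine ⟨Quotient.mk _ (x₀, y₀), Quotient.mk _ (x₀, x₀), hne x₀ y₀ hxy, ?_⟩
      ext q
      simpa using (hall q).symm
  rw [← hcount]
  constructor
  · intro h
    have := Cfsg.Lib.Chars.classInner_self_irr h
    rw [hnorm, sub_eq_iff_eq_add] at this
    norm_num at this
    exact_mod_cast this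
  · intro h
    have hgen : Cfsg.IsGeneralizedCharacter G f := ⟨π, _, hπ, Cfsg.Lib.Chars.isCharacter_of_irr hone, hfsub⟩
    rcases Cfsg.Lib.Chars.isIrr_or_neg_of_norm_one hgen (by rw [hnorm, h]; norm_num) with hi | hi
    · exact hi
    · exfalso
      obtain ⟨d, hd, hd1⟩ := Cfsg.Lib.Chars.IsIrrCharacter.apply_one hi
      have hfix : Nat.card (MulAction.fixedBy X (1 : G)) = Nat.card X :=
        Nat.card_congr (Equiv.subtypeUnivEquiv fun x => one_smul G x)
      simp only [Pi.neg_apply, hfdef, hfix] at hd1
      have : ((d + Nat.card X : ℕ) : ℂ) = ((1 : ℕ) : ℂ) := by push_cast; linear_combination -hd1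
      have := Nat.cast_injective this
      omega

end Cfsg.Agent.S0157
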