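import Cfsg.Statements.S0731
import Cfsg.Agent.RankOne.ZassenhausPSL

set_option autoImplicit false
open Cfsg
open Cfsg.Lib.OddChar.Zassenhaus MulAction

namespace Cfsg.Agent.S0731

/-- A finite Zassenhaus group whose point stabiliser has an abelian regular normal subgroup on the remaining points is sharply triply transitive or isomorphic to `PSL(2, F)` for a finite field `F` of odd characteristic. -/
theorem result {G Ω : Type*} [Group G] [Finite G] [MulAction G Ω] [Finite Ω] (hZ : Cfsg.IsZassenhausGroup G Ω) (x : Ω) (F : Subgroup G) (hFle : F ≤ MulAction.stabilizer G x) (hFn : (F.subgroupOf (MulAction.stabilizer G x)).Normal) (hFab : IsMulCommutative F) (hreg : ∀ y z : Ω, y ≠ x → z ≠ x → ∃! u : F, (u : G) • y = z) : (MulAction.IsMultiplyPretransitive G Ω 3 ∧ ∀ t : Fin 3 ↪ Ω, MulAction.stabilizer G t = ⊥) ∨ ∃ (K : Type) (_ : Field K) (_ : Fintype K), ringChar K ≠ 2 ∧ Nonempty (G ≃* Matrix.ProjectiveSpecialLinearGroup (Fin 2) K) := by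
  classical
  letI := Fintype.ofFinite Ω
  obtain ⟨g, -, a, b, hab0, -, -⟩ := hZ.2.2.2.1
  obtain ⟨y, hxy⟩ : ∃ y, x ≠ y := by
    rcases eq_or_ne x a with rfl | h
    · exact ⟨b, hab0⟩
    · exact ⟨a, h⟩
  obtain ⟨h, hh⟩ : ∃ h, Fintype.card Ω = h + 1 :=
    ⟨_, (Nat.sub_add_cancel (Fintype.card_pos_iff.mpr ⟨x⟩)).symm⟩
  have hh2 := two_le hZ hxy hh
  have hcard : Nat.card F + 1 = Fintype.card Ω := by
    have e : Nat.card F = Nat.card {z : Ω // z ≠ x} := by
      refine Nat.card_eq_of_bijective (fun u : F => (⟨(u : G) • y, fun h => hxy.symm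
        (smul_left_cancel (u : G) (h.trans (hFle u.2).symm))⟩ : {z : Ω // z ≠ x})) ⟨?_, ?_⟩
      · intro u v huv
        exact (hreg y ((v : G) • y) hxy.symm (fun h => hxy.symm
          (smul_left_cancel (v : G) (h.trans (hFle v.2).symm)))).unique (congrArg Subtype.val huv) rfl
      · intro z
        obtain ⟨u, hu, -⟩ := hreg y z hxy.symm z.2
        exact ⟨u, Subtype.ext hu⟩
    rw [e, Nat.card_eq_fintype_card, Fintype.card_subtype_compl, Fintype.card_subtype_eq]
    omega
  have hfix : ∀ u ∈ F, u ≠ 1 → ∀ c : Ω, u • c = c → c = x := by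
    intro u hu hu1 c hc
    by_contra hca
    exact hu1 (congrArg Subtype.val ((hreg c c hca hca).unique (y₁ := ⟨u, hu⟩) (y₂ := 1) hc (one_smul G c)))
  set E := stab₂ G x y with hE
  have hle : h - 1 ≤ 2 * Nat.card E := by
    rcases Nat.even_or_odd (Nat.card E) with hev | hodd
    · have h1 := Cfsg.Lib.RankOne.le_two_mul_of_even hZ hxy hev
      change Fintype.card Ω - 2 ≤ 2 * Nat.card E at h1
      omega
    · rcases feit_inequality hZ hxy hh rfl hodd hFle hcard hfix with h1 | ⟨-, ⟨u, v, huv⟩, -⟩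
      · exact h1
      · exact absurd (hFab.is_comm.comm u v) huv
  have hn := kernel_normal hZ hxy hh hFle hcard hfix
  have hdvd : Nat.card E ∣ h - 1 := by
    have h1 := (fpf hxy hZ hFle hfix).card_dvd (A := stab₂ G x y)
      (fun u hu => Subgroup.mem_normalizer_fintype fun v hv => hn u hu.1 v hv)
    rwa [show Nat.card F = h by omega] at h1
  obtain ⟨m, hm⟩ := hdvd
  have hE0 : 0 < Nat.card E := Nat.card_pos
  have hm2 : m = 1 ∨ m = 2 := by
    have h1 : Nat.card E * m ≤ Nat.card E * 2 := by omega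
    have h2 := Nat.le_of_mul_le_mul_left h1 hE0
    rcases Nat.eq_zero_or_pos m with rfl | h3
    · omega
    · omega
  rcases hm2 with rfl | rfl
  · left
    -- sharply triply transitive
    have hfree : ∀ t : Fin 3 ↪ Ω, MulAction.stabilizer G t = ⊥ := by
      intro t
      rw [Subgroup.eq_bot_iff_forall]
      intro g hg
      have h1 : ∀ i, g • t i = t i := fun i => DFunLike.congr_fun hg i
      exact hZ.2.2.1 g (t 0) (t 1) (t 2) (t.injective.ne (by decide)) (t.injective.ne (by decide))
        (t.injective.ne (by decide)) (h1 0) (h1 1) (h1 2)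
    refine ⟨⟨fun s t => ?_⟩, hfree⟩
    have hG := card_group hZ hxy hh (rfl : Nat.card (stab₂ G x y) = _)
    have hinj : Function.Injective fun g : G => g • s := fun g g' hgg => by
      have h1 : g'⁻¹ * g ∈ stabilizer G s := by
        rw [mem_stabilizer_iff, mul_smul, inv_smul_eq_iff]; exact hgg
      rw [hfree, Subgroup.mem_bot] at h1
      exact (inv_mul_eq_one.1 h1).symm
    have hbij := hinj.bijective_of_nat_card_le (by
      rw [hG, Nat.card_eq_fintype_card (α := Fin 3 ↪ Ω), Fintype.card_embedding_eq, Fintype.card_fin, hh]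
      show (h + 1).descFactorial 3 ≤ _
      change _ = Nat.card E * 1 at hm
      obtain ⟨k, rfl⟩ : ∃ k, h = k + 1 := ⟨h - 1, by omega⟩
      have hEk : Nat.card (stab₂ G x y) = k := by show Nat.card E = k; omega
      rw [hEk]
      simp [Nat.descFactorial_succ]
      exact le_of_eq (by ring))
    exact hbij.2 t
  · right
    obtain ⟨K, iK, iK', -, hchar, hiso⟩ := Cfsg.Lib.RankOne.zassenhaus_psl hZ hxy (by
      show 2 * Nat.card E + 2 = Fintype.card Ω
      omega) hFle hcard hfix hFab
    exact ⟨K, iK, iK', hchar, hiso⟩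

end Cfsg.Agent.S0731
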