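import Cfsg.Statements.S1167
import Cfsg.Agent.S0731
import Cfsg.Agent.Classical.Misc.SLTwoTori

set_option autoImplicit false
open Cfsg

namespace Cfsg.Agent.S1167

open MulAction
open scoped MatrixGroups

theorem emb3 {Ω : Type*} (p q r : Ω) (h1 : p ≠ q) (h2 : p ≠ r) (h3 : q ≠ r) :
    ∃ e : Fin 3 ↪ Ω, ⇑e = ![p, q, r] := by
  refine ⟨⟨![p, q, r], fun i j hij => ?_⟩, rfl⟩
  fin_cases i <;> fin_cases j <;> simp_all [eq_comm]

theorem quaternion_small {k : ℕ} (hk : 1 ≤ k)
    (h : ∀ x y : QuaternionGroup (2 ^ k), (x * y * x⁻¹ * y⁻¹) * (x * y * x⁻¹ * y⁻¹) = 1) : k = 1 := by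
  have h1 := h (QuaternionGroup.a 1) (QuaternionGroup.xa 0)
  rw [show (QuaternionGroup.a 1 : QuaternionGroup (2 ^ k))⁻¹ = QuaternionGroup.a (-1) from rfl,
    show (QuaternionGroup.xa 0 : QuaternionGroup (2 ^ k))⁻¹ = QuaternionGroup.xa (((2 ^ k : ℕ) : ZMod (2 * 2 ^ k)) + 0) from rfl,
    QuaternionGroup.one_def] at h1
  simp only [QuaternionGroup.a_mul_xa, QuaternionGroup.xa_mul_a, QuaternionGroup.xa_mul_xa, QuaternionGroup.a_mul_a,
    QuaternionGroup.a.injEq] at h1
  have h4 : ((4 : ℕ) : ZMod (2 * 2 ^ k)) = 0 := by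
    have hn : ((2 * 2 ^ k : ℕ) : ZMod (2 * 2 ^ k)) = 0 := ZMod.natCast_self _
    push_cast at h1 hn ⊢
    grind
  rw [ZMod.natCast_eq_zero_iff, show 2 * 2 ^ k = 2 ^ (k + 1) by ring] at h4
  have h5 : 2 ^ (k + 1) ≤ 2 ^ 2 := Nat.le_of_dvd (by norm_num) h4
  have := (Nat.pow_le_pow_iff_right (by norm_num)).1 h5
  omega

theorem psl_abelian_sylow_exponent {K : Type*} [Field K] [Fintype K] (hK : ringChar K ≠ 2)
    (S : Sylow 2 (Matrix.ProjectiveSpecialLinearGroup (Fin 2) K))
    (hab : ∀ x ∈ (S : Subgroup (Matrix.ProjectiveSpecialLinearGroup (Fin 2) K)),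
      ∀ y ∈ (S : Subgroup (Matrix.ProjectiveSpecialLinearGroup (Fin 2) K)), x * y = y * x) :
    ∀ x ∈ (S : Subgroup (Matrix.ProjectiveSpecialLinearGroup (Fin 2) K)), x * x = 1 := by
  classical
  haveI : Fact (Nat.Prime 2) := ⟨Nat.prime_two⟩
  obtain ⟨p, hp⟩ := CharP.exists K
  haveI : Fact p.Prime := ⟨CharP.char_is_prime K p⟩
  have hp2 : p ≠ 2 := ringChar.eq K p ▸ hK
  set π := QuotientGroup.mk' (Subgroup.center SL(2, K))
  obtain ⟨P0⟩ : Nonempty (Sylow 2 SL(2, K)) := Sylow.nonempty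
  obtain ⟨g, hg⟩ := exists_smul_eq (Matrix.ProjectiveSpecialLinearGroup (Fin 2) K)
    (P0.mapSurjective (QuotientGroup.mk'_surjective (Subgroup.center SL(2, K)))) S
  obtain ⟨g0, rfl⟩ := QuotientGroup.mk'_surjective (Subgroup.center SL(2, K)) g
  let P : Sylow 2 SL(2, K) := g0 • P0
  have hS : ∀ x, x ∈ (S : Subgroup (Matrix.ProjectiveSpecialLinearGroup (Fin 2) K)) ↔ ∃ y ∈ (P : Subgroup SL(2, K)), π y = x := by
    intro x
    rw [← hg]
    constructor
    · rintro ⟨_, ⟨y, hy, rfl⟩, rfl⟩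
      exact ⟨g0 * y * g0⁻¹, ⟨y, hy, rfl⟩, by simp [π, MulDistribMulAction.toMonoidEnd]; rfl⟩
    · rintro ⟨_, ⟨y, hy, rfl⟩, rfl⟩
      exact ⟨π y, ⟨y, hy, rfl⟩, by simp [π, MulDistribMulAction.toMonoidEnd]; rfl⟩
  have hz : ∀ z ∈ Subgroup.center SL(2, K), z * z = 1 := by
    intro z hz
    obtain ⟨r, hr, hrz⟩ := Matrix.SpecialLinearGroup.mem_center_iff.1 hz
    simp only [Fintype.card_fin] at hr
    refine Subtype.ext ?_
    rw [Matrix.SpecialLinearGroup.coe_mul, Matrix.SpecialLinearGroup.coe_one, ← hrz, ← map_mul, ← sq, hr, map_one]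
  obtain ⟨k, hk, ⟨e⟩⟩ := Cfsg.Lib.Classical.SLTwoTori.sylow_two_quaternion p hp2 P
  have hk1 : k = 1 := quaternion_small hk fun x y => by
    obtain ⟨x, rfl⟩ := e.surjective x
    obtain ⟨y, rfl⟩ := e.surjective y
    rw [← map_inv, ← map_inv, ← map_mul, ← map_mul, ← map_mul, ← map_mul, ← map_one e]
    refine congrArg e (Subtype.ext ?_)
    refine hz _ ((QuotientGroup.eq_one_iff _).1 ?_)
    show π ((x : SL(2, K)) * y * (x : SL(2, K))⁻¹ * (y : SL(2, K))⁻¹) = 1
    rw [map_mul, map_mul, map_mul, map_inv, map_inv,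
      hab _ ((hS _).2 ⟨x, x.2, rfl⟩) _ ((hS _).2 ⟨y, y.2, rfl⟩)]
    group
  intro x hx
  obtain ⟨y, hy, rfl⟩ := (hS x).1 hx
  subst hk1
  have h4 : ∀ q : QuaternionGroup (2 ^ 1), q * q * (q * q) = 1 := by decide
  have h5 : y * y * (y * y) = 1 := congrArg Subtype.val (e.injective (by
    rw [map_mul, map_mul, h4, map_one] : e (⟨y, hy⟩ * ⟨y, hy⟩ * (⟨y, hy⟩ * ⟨y, hy⟩)) = e 1))
  rw [← map_mul]
  refine (QuotientGroup.eq_one_iff _).2 ?_
  by_cases h : y * y = 1
  · rw [h]; exact one_mem _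
  · rw [Cfsg.Lib.Classical.SLTwoTori.eq_neg_one p hp2 h h5]
    exact Subgroup.mem_center_iff.2 fun a => Subtype.ext (by simp [Matrix.SpecialLinearGroup.coe_mul])

/-- Let `G` be a finite simple Zassenhaus group on `Ω`, `U` a normal subgroup of `G_a` regular on `Ω` minus `a` which is an abelian 2-group, and `v` an involution with `v • a ≠ a`. Then there is a unique `u₀ ∈ U`, `u₀ ≠ 1`, with `v u₀ v = u₀ v u₀`. -/
theorem result {G Ω : Type*} [Group G] [Finite G] [MulAction G Ω] [Finite Ω]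
    (hZ : Cfsg.IsZassenhausGroup G Ω) [IsSimpleGroup G] {a : Ω}
    (U : Subgroup G) (hUle : U ≤ MulAction.stabilizer G a)
    (hUn : ∀ h ∈ MulAction.stabilizer G a, ∀ u ∈ U, h * u * h⁻¹ ∈ U)
    (hreg : ∀ c d : Ω, c ≠ a → d ≠ a → ∃! u : U, (u : G) • c = d)
    (hU2 : IsPGroup 2 U) (hUab : ∀ u ∈ U, ∀ u' ∈ U, u * u' = u' * u)
    (v : G) (hv1 : v ≠ 1) (hv2 : v * v = 1) (hva : v • a ≠ a) :
    ∃! u₀ : G, u₀ ∈ U ∧ u₀ ≠ 1 ∧ v * u₀ * v = u₀ * v * u₀ := by
  classical
  haveI : Fact (Nat.Prime 2) := ⟨Nat.prime_two⟩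
  obtain ⟨hfaith, h2t, h3, ⟨g0, hg0, a0, b0, hab0, hga0, hgb0⟩, hreg0⟩ := hZ
  have : Fintype Ω := Fintype.ofFinite Ω
  set b := v • a with hb
  have hvb : v • b = a := by rw [hb, ← mul_smul, hv2, one_smul]
  have hfixU : ∀ u ∈ U, u • a = a := fun u hu => mem_stabilizer_iff.1 (hUle hu)
  -- a third point
  obtain ⟨z, hz0, hz1⟩ : ∃ z, z ≠ a0 ∧ z ≠ b0 := by
    refine Classical.byContradiction fun hall => hg0 (eq_of_smul_eq_smul (α := Ω) fun z => ?_)
    push Not at hall
    rw [one_smul]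
    rcases eq_or_ne z a0 with h | h
    · rw [h]; exact hga0
    · rw [hall z h]; exact hgb0
  obtain ⟨e, hea, heb⟩ : ∃ e, e ≠ a ∧ e ≠ b := by
    refine Classical.byContradiction fun hall => ?_
    push Not at hall
    have h3c : 3 ≤ Fintype.card Ω := Fintype.two_lt_card_iff.2 ⟨z, a0, b0, hz0, hz1, hab0⟩
    have h2c : Fintype.card Ω ≤ ({a, b} : Finset Ω).card := Finset.card_le_card fun w _ => by
      simp only [Finset.mem_insert, Finset.mem_singleton]
      exact or_iff_not_imp_left.2 (hall w)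
    have := Finset.card_le_two (a := a) (b := b)
    omega
  -- U is regular
  have hUeq : ∀ {u w : G}, u ∈ U → w ∈ U → ∀ {c}, c ≠ a → u • c = w • c → u = w := fun {u w} hu hw {c} hc h => by
    have hd : w • c ≠ a := fun e => hc (by
      have := congrArg (w⁻¹ • ·) e
      simp only [inv_smul_smul] at this
      rw [this, hfixU _ (U.inv_mem hw)])
    exact congrArg Subtype.val ((hreg c (w • c) hc hd).unique (y₁ := ⟨u, hu⟩) (y₂ := ⟨w, hw⟩) h rfl)
  obtain ⟨⟨u1, hu1⟩, hu1b, -⟩ := hreg b e hva hea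
  have hu1n : u1 ≠ 1 := fun h => heb (by simpa [h] using hu1b.symm)
  have hbU : Nat.card {x : Ω // x ≠ a} = Nat.card U :=
    (Nat.card_congr (Equiv.ofBijective (fun u : U => (⟨(u : G) • b, fun e => hva (by
      have := congrArg ((u : G)⁻¹ • ·) e
      simp only [inv_smul_smul] at this
      rw [this, hfixU _ (U.inv_mem u.2)])⟩ : {x : Ω // x ≠ a}))
      ⟨fun u w h => Subtype.ext (hUeq u.2 w.2 hva (congrArg Subtype.val h)), fun x => by
        obtain ⟨u, hu, -⟩ := hreg b x.1 hva x.2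
        exact ⟨u, Subtype.ext hu⟩⟩)).symm
  have hodd : Odd (Fintype.card Ω) := by
    obtain ⟨m, hm⟩ := hU2.exists_card_eq
    rw [← Nat.card_eq_fintype_card, ← Nat.card_congr (Equiv.optionSubtypeNe a), Finite.card_option, hbU, hm]
    have : m ≠ 0 := by
      rintro rfl
      rw [pow_zero] at hm
      have := (Nat.card_eq_one_iff_unique.1 hm).1
      exact hu1n (congrArg Subtype.val (Subsingleton.elim (⟨u1, hu1⟩ : U) 1))
    exact ⟨2 ^ (m - 1), by rw [← pow_succ']; congr 2; omega⟩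
  have hex : ∀ w : G, w * w = 1 → ∃ c : Ω, w • c = c := fun w hw => by
    let σ : Function.End Ω := fun x => w • x
    have hσ : σ ^ (2 : ℕ) ^ 1 = 1 := by
      funext x
      show w • w • x = x
      rw [← mul_smul, hw, one_smul]
    have h := Equiv.Perm.card_fixedPoints_modEq hσ
    refine Classical.byContradiction fun hno => ?_
    push Not at hno
    have h0 : Fintype.card (Function.fixedPoints σ) = 0 :=
      Fintype.card_eq_zero_iff.2 ⟨fun c => hno c.1 c.2⟩
    rw [h0, Nat.ModEq] at h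
    exact absurd (Nat.odd_iff.1 hodd) (by omega)
  have hone : ∀ w : G, w * w = 1 → w ≠ 1 → ∀ c d : Ω, w • c = c → w • d = d → c = d := by
    intro w hw hw1 c d hc hd
    by_contra hcd
    let σ : Function.End {x : Ω // x ≠ c ∧ x ≠ d} := fun x => ⟨w • x.1,
      fun e => x.2.1 (by have := congrArg (fun y : Ω => w • y) e; simpa [← mul_smul, hw, hc] using this),
      fun e => x.2.2 (by have := congrArg (fun y : Ω => w • y) e; simpa [← mul_smul, hw, hd] using this)⟩
    have hσ : σ ^ (2 : ℕ) ^ 1 = 1 := by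
      funext x
      refine Subtype.ext ?_
      show w • w • x.1 = x.1
      rw [← mul_smul, hw, one_smul]
    have h := Equiv.Perm.card_fixedPoints_modEq hσ
    have h0 : Fintype.card (Function.fixedPoints σ) = 0 := Fintype.card_eq_zero_iff.2 ⟨fun x =>
      hw1 (h3 w c d x.1.1 hcd (Ne.symm x.1.2.2) (Ne.symm x.1.2.1) hc hd (congrArg Subtype.val x.2))⟩
    rw [h0, Nat.ModEq] at h
    have hc2 : Fintype.card {x : Ω // x ≠ c ∧ x ≠ d} = Fintype.card Ω - 2 := by
      rw [Fintype.card_subtype, show (Finset.univ.filter fun x : Ω => x ≠ c ∧ x ≠ d) = {c, d}ᶜ by ext; simp,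
        Finset.card_compl, Finset.card_pair hcd]
    have h2 : 2 ≤ Fintype.card Ω := Fintype.one_lt_card_iff.2 ⟨c, d, hcd⟩
    have := Nat.odd_iff.1 hodd
    omega
  have hinU : ∀ g : G, g • a = a → g * g = 1 → g ∈ U := by
    intro g hga hg2
    have hgb : g • b ≠ a := fun e => hva (by
      have := congrArg (fun y : Ω => g • y) e
      simpa [← mul_smul, hg2, hga] using this)
    obtain ⟨⟨u, hu⟩, hub, -⟩ := hreg b (g • b) hva hgb
    set δ := u⁻¹ * g with hδ
    have hδb : δ • b = b := by rw [hδ, mul_smul, inv_smul_eq_iff]; exact hub.symm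
    have hδa : δ • a = a := by rw [hδ, mul_smul, hga, hfixU _ (U.inv_mem hu)]
    have hsq : δ * δ = (δ * u⁻¹ * δ⁻¹) * u⁻¹ := by
      have e : u * δ * (u * δ) = 1 := by rw [hδ, mul_inv_cancel_left, hg2]
      have e2 : δ * u * δ = u⁻¹ := eq_inv_of_mul_eq_one_right (by simpa [mul_assoc] using e)
      calc δ * δ = (δ * u⁻¹ * δ⁻¹) * (δ * u * δ) := by group
        _ = _ := by rw [e2]
    have hsqU : δ * δ ∈ U := hsq ▸ U.mul_mem (hUn δ hδa _ (U.inv_mem hu)) (U.inv_mem hu)
    have hδ2 : δ * δ = 1 := hUeq hsqU U.one_mem hva (by rw [mul_smul, hδb, hδb, one_smul])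
    rcases eq_or_ne δ 1 with h | h
    · rw [show g = u from (inv_mul_eq_one.1 h).symm]; exact hu
    · exact absurd (hone δ hδ2 h a b hδa hδb) (Ne.symm hva)
  -- exponent two
  have hexp : ∀ u ∈ U, u * u = 1 := by
    rcases Cfsg.Agent.S0731.result (G := G) (Ω := Ω) ⟨hfaith, h2t, h3, ⟨g0, hg0, a0, b0, hab0, hga0, hgb0⟩, hreg0⟩ a U hUle
      ⟨fun n hn g => hUn g.1 g.2 n.1 hn⟩ ⟨⟨fun x y => Subtype.ext (hUab x x.2 y y.2)⟩⟩ hreg with ⟨ht3, -⟩ | ⟨K, iK, iKF, hK, ⟨φ⟩⟩
    · intro u hu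
      by_contra hne
      have hu0 : u ≠ 1 := fun h => hne (by rw [h, one_mul])
      obtain ⟨w, hw⟩ := exists_prime_orderOf_dvd_card' (G := U) 2 (by
        obtain ⟨m, hm⟩ := hU2.exists_card_eq
        rcases m with _ | m
        · exact absurd (congrArg Subtype.val ((Nat.card_eq_one_iff_unique.1 hm).1.elim (⟨u, hu⟩ : U) 1)) hu0
        · exact hm ▸ dvd_pow_self 2 (Nat.succ_ne_zero m))
      rw [← Subgroup.orderOf_coe] at hw
      have hw1 : (w : G) ≠ 1 := fun h => by rw [h, orderOf_one] at hw; omega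
      have hne_a : ∀ z ∈ U, z • b ≠ a := fun z hz e => hva (by
        have := congrArg (z⁻¹ • ·) e
        simp only [inv_smul_smul] at this
        rw [this, hfixU _ (U.inv_mem hz)])
      have hemb : ∀ z, z ∈ U → z ≠ 1 → z • b ≠ b := fun z hz hz1 e => hz1 (hUeq hz U.one_mem hva (by rw [e, one_smul]))
      obtain ⟨e1, he1⟩ := emb3 a b ((w : G) • b) (Ne.symm hva) (Ne.symm (hne_a w w.2)) (Ne.symm (hemb w w.2 hw1))
      obtain ⟨e2, he2⟩ := emb3 a b (u • b) (Ne.symm hva) (Ne.symm (hne_a u hu)) (Ne.symm (hemb u hu hu0))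
      obtain ⟨g, hg⟩ := MulAction.exists_smul_eq G e1 e2
      have ga : g • a = a := by simpa [he1, he2] using congrArg (fun f : Fin 3 ↪ Ω => f 0) hg
      have gb : g • b = b := by simpa [he1, he2] using congrArg (fun f : Fin 3 ↪ Ω => f 1) hg
      have gw : g • (w : G) • b = u • b := by simpa [he1, he2] using congrArg (fun f : Fin 3 ↪ Ω => f 2) hg
      have hgu : g * w * g⁻¹ = u := hUeq (hUn g ga w w.2) hu hva (by
        rw [mul_smul, mul_smul, show g⁻¹ • b = b from inv_smul_eq_iff.2 gb.symm, gw])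
      apply hne
      rw [← hgu]
      have hww : (w : G) * w = 1 := by rw [← sq, ← hw, pow_orderOf_eq_one]
      calc g * w * g⁻¹ * (g * w * g⁻¹) = g * ((w : G) * w) * g⁻¹ := by group
        _ = 1 := by rw [hww]; group
    · intro u hu
      have hstab : Nat.card (stabilizer G a) = Nat.card U * Nat.card ↥(stabilizer G a ⊓ stabilizer G b) := by
        rw [← Nat.card_prod]
        refine (Nat.card_congr (Equiv.ofBijective (fun p : U × ↥(stabilizer G a ⊓ stabilizer G b) =>
          (⟨p.1 * p.2, (stabilizer G a).mul_mem (hUle p.1.2) p.2.2.1⟩ : stabilizer G a)) ⟨?_, ?_⟩)).symm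
        · rintro ⟨p, q⟩ ⟨p', q'⟩ h
          have h' := congrArg Subtype.val h
          simp only at h'
          have hp : p = p' := Subtype.ext (hUeq p.2 p'.2 hva (by
            have := congrArg (· • b) h'
            simp only [mul_smul, mem_stabilizer_iff.1 q.2.2, mem_stabilizer_iff.1 q'.2.2] at this
            exact this))
          subst hp
          exact Prod.ext rfl (Subtype.ext (mul_left_cancel h'))
        · intro g
          have hgb : (g : G) • b ≠ a := fun e => hva (by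
            have := congrArg ((g : G)⁻¹ • ·) e
            simp only [inv_smul_smul] at this
            rw [this, inv_smul_eq_iff]; exact (mem_stabilizer_iff.1 g.2).symm)
          obtain ⟨p, hp, -⟩ := hreg b _ hva hgb
          refine ⟨⟨p, ⟨(p : G)⁻¹ * g, ?_, ?_⟩⟩, Subtype.ext (mul_inv_cancel_left _ _)⟩
          · exact (stabilizer G a).mul_mem ((stabilizer G a).inv_mem (hUle p.2)) g.2
          · show ((p : G)⁻¹ * g) • b = b
            rw [mul_smul, inv_smul_eq_iff]; exact hp.symm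
      have hDodd : ¬ 2 ∣ Nat.card ↥(stabilizer G a ⊓ stabilizer G b) := fun h => by
        obtain ⟨d, hd⟩ := exists_prime_orderOf_dvd_card' 2 h
        rw [← Subgroup.orderOf_coe] at hd
        have hd1 : (d : G) ≠ 1 := fun e => by rw [e, orderOf_one] at hd; omega
        exact hva (hone d (by rw [← sq, ← hd, pow_orderOf_eq_one]) hd1 a b d.2.1 d.2.2).symm
      have hUidx : ¬ 2 ∣ U.index := by
        haveI : IsPretransitive G Ω := by
          haveI := h2t
          exact MulAction.isPretransitive_of_is_two_pretransitive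
        have h1 : (stabilizer G a).index = Fintype.card Ω := by
          rw [index_stabilizer_of_transitive, Nat.card_eq_fintype_card]
        have h4 := U.card_mul_index
        rw [← (stabilizer G a).card_mul_index, h1, hstab, mul_assoc] at h4
        have h5 := Nat.eq_of_mul_eq_mul_left (Nat.card_pos) h4
        rw [h5]
        exact fun h => (Nat.prime_two.dvd_mul.1 h).elim hDodd (fun h => by
          have := Nat.odd_iff.1 hodd
          omega)
      let S : Sylow 2 (Matrix.ProjectiveSpecialLinearGroup (Fin 2) K) :=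
        (hU2.toSylow hUidx).mapSurjective (f := φ.toMonoidHom) φ.surjective
      have hmemS : ∀ x, x ∈ (S : Subgroup (Matrix.ProjectiveSpecialLinearGroup (Fin 2) K)) ↔ ∃ z ∈ U, φ z = x :=
        fun x => Iff.rfl
      have h := psl_abelian_sylow_exponent hK S (fun x hx y hy => by
        obtain ⟨z, hz, rfl⟩ := (hmemS x).1 hx
        obtain ⟨w, hw, rfl⟩ := (hmemS y).1 hy
        rw [← map_mul, ← map_mul, hUab z hz w hw]) (φ u) ((hmemS _).2 ⟨u, hu, rfl⟩)
      rw [← map_mul, ← map_one φ] at h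
      exact φ.injective h
  obtain ⟨c, hc⟩ := hex v hv2
  have hca : c ≠ a := fun e => hva (by rw [hb, ← e, hc])
  have hcb : c ≠ b := fun e => hca (by rw [← hvb, ← e, hc])
  obtain ⟨⟨u, hu⟩, hub, -⟩ := hreg b c hva hca
  have hub' : u • b = c := hub
  have hu0 : u ≠ 1 := fun h => hcb (by rw [← hub', h, one_smul])
  have huu := hexp u hu
  refine ⟨u, ⟨hu, hu0, ?_⟩, ?_⟩
  · have e1 : v * (v * u * v) * v = u := by
      calc v * (v * u * v) * v = (v * v) * u * (v * v) := by group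
        _ = u := by rw [hv2, one_mul, mul_one]
    have hh2 : v * (u * v * u) * v * (v * (u * v * u) * v) = 1 := by
      calc _ = v * (u * v * (u * (v * v) * u) * v * u) * v := ?_
        _ = 1 := ?_
      · have : v * v = 1 := hv2
        simp only [mul_assoc]
      · rw [hv2, mul_one, huu, mul_one]
        simp [mul_assoc, ← mul_assoc v v, hv2, huu]
    have ha : (v * (u * v * u) * v) • a = a := by
      rw [mul_smul, mul_smul, mul_smul, mul_smul, ← hb]
      rw [hub', hc, ← hub', ← mul_smul u u, huu, one_smul, hvb]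
    have hmem := hinU _ ha hh2
    have hbc : (v * (u * v * u) * v) • b = u • b := by
      rw [mul_smul, mul_smul, mul_smul, mul_smul, hvb, hfixU u hu, ← hb, hub', hc]
    have h := hUeq hmem hu hva hbc
    calc v * u * v = v * (v * (u * v * u) * v) * v := by rw [h]
      _ = (v * v) * (u * v * u) * (v * v) := by group
      _ = u * v * u := by rw [hv2, one_mul, mul_one]
  · rintro w ⟨hw, hw1, he⟩
    have h := congrArg (· • a) he
    simp only [mul_smul] at h
    rw [hfixU w hw, ← hb] at h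
    exact hUeq hw hu hva ((hone v hv2 hv1 _ _ h hc).trans hub'.symm)

end Cfsg.Agent.S1167
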