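import Cfsg.Statements.S0873
import Cfsg.Agent.Chars.Gallagher

set_option autoImplicit false
open Cfsg

namespace Cfsg.Agent.S0873

/-- Let C be a normal subgroup of the finite group G of order prime to p and P a p-subgroup with C ⊔ P = G. Let λ be a character of C of degree 1 invariant under conjugation by G and equal to 1 at every element of C centralized by P. Then λ is identically 1. -/
theorem result {G : Type*} [Group G] [Finite G] (p : ℕ) [Fact p.Prime] (C P : Subgroup G) [hC : C.Normal] (hP : IsPGroup p P) (hcop : Nat.Coprime (Nat.card C) p) (hCP : C ⊔ P = ⊤) (lam : C → ℂ) (hlam : Cfsg.IsCharacter C lam ∧ lam 1 = 1) (hinv : ∀ (g : G) (c : C), lam ⟨g * c * g⁻¹, hC.conj_mem (c : G) c.2 g⟩ = lam c) (hker : ∀ c : C, (c : G) ∈ Subgroup.centralizer (P : Set G) → lam c = 1) : lam = fun _ => 1 := by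
  classical
  obtain ⟨f, hf⟩ := Cfsg.Lib.Chars.exists_hom_of_deg_one hlam.1 hlam.2
  funext c
  let K : Type _ := {x : C // lam x = lam c}
  let _ : MulAction P K :=
    { smul := fun g x => ⟨⟨g * x.1 * (g : G)⁻¹, hC.conj_mem _ x.1.2 g⟩, (hinv g x.1).trans x.2⟩
      one_smul := fun x => by
        apply Subtype.ext; apply Subtype.ext
        show ((1 : P) : G) * x.1 * ((1 : P) : G)⁻¹ = x.1
        simp
      mul_smul := fun a b x => by
        apply Subtype.ext; apply Subtype.ext
        show ((a * b : P) : G) * x.1 * ((a * b : P) : G)⁻¹ = a * (b * x.1 * (b : G)⁻¹) * (a : G)⁻¹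
        simp [mul_assoc] }
  have hcard : Nat.card K = Nat.card f.ker := by
    refine Nat.card_congr ((Equiv.mulLeft c⁻¹).subtypeEquiv fun x => ?_)
    simp [hf, MonoidHom.mem_ker, inv_mul_eq_one, eq_comm (a := (f c : ℂˣ)), Units.val_inj]
  have hnp : ¬ p ∣ Nat.card K := fun h =>
    (Fact.out : p.Prime).coprime_iff_not_dvd.mp hcop.symm
      (h.trans (hcard ▸ Subgroup.card_subgroup_dvd_card f.ker))
  have hmod := hP.card_modEq_card_fixedPoints K
  have hne : Nat.card (MulAction.fixedPoints P K) ≠ 0 := fun h0 => by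
    rw [h0] at hmod
    exact hnp (Nat.modEq_zero_iff_dvd.mp hmod)
  obtain ⟨⟨x, hx⟩⟩ := (Nat.card_ne_zero.mp hne).1
  rw [← x.2]
  refine hker x.1 (Subgroup.mem_centralizer_iff.mpr fun g hg => ?_)
  have h : (g * (x.1 : G) * g⁻¹) = x.1 :=
    congrArg (fun y : K => ((y.1 : C) : G)) (hx ⟨g, hg⟩)
  exact mul_inv_eq_iff_eq_mul.mp h

end Cfsg.Agent.S0873
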