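import Cfsg.Statements.S0887
import Cfsg.Agent.Chars.Extension

set_option autoImplicit false
open Cfsg

namespace Cfsg.Agent.S0887

/-- Let N be a normal subgroup of the finite group G, χ an irreducible character of G and ϑ an irreducible character of N having nonzero inner product with the restriction of χ. If χ 1 = c and ϑ 1 = d as natural numbers, then d divides c and c / d divides the index of N. -/
theorem result {G : Type*} [Group G] [Fintype G] (N : Subgroup G) [N.Normal] [Fintype N] (χ : G → ℂ) (hχ : Cfsg.IsIrrCharacter G χ) (ϑ : N → ℂ) (hϑ : Cfsg.IsIrrCharacter N ϑ) (hcon : Cfsg.classInner (fun n : N => χ n) ϑ ≠ 0) (c d : ℕ) (hc : χ 1 = c) (hd : ϑ 1 = d) : d ∣ c ∧ c / d ∣ N.index := by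
  classical
  let T := Cfsg.Lib.Chars.inertia N ϑ
  have hϑc := Cfsg.Lib.Chars.isClassFunction_isChar (Cfsg.Lib.Chars.isCharacter_of_irr hϑ)
  have hNT : N ≤ T := Cfsg.Lib.Chars.le_inertia hϑc
  have := Fintype.ofFinite T
  obtain ⟨ψ, hψ, h1, h2⟩ := Cfsg.Lib.Chars.exists_constituent_over T hNT
    (Cfsg.Lib.Chars.isCharacter_of_irr hχ) hcon
  obtain ⟨hind, -, -⟩ := Cfsg.Lib.Chars.clifford_correspondence hϑ T rfl hNT hχ hψ h1 h2
  obtain ⟨e, he0, he⟩ := Cfsg.Lib.Chars.restrict_of_le_inertia N hϑ T hNT le_rfl hψ h2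
  have hψ1 : ψ 1 = (e : ℂ) * ϑ 1 := congrFun he 1
  have hdpos : 0 < d := by
    obtain ⟨m, hm, hm1⟩ := Cfsg.Lib.Chars.IsIrrCharacter.apply_one hϑ
    rw [hd] at hm1
    exact (Nat.cast_injective hm1 : d = m) ▸ hm
  have hcd : c = T.index * e * d := by
    apply Nat.cast_injective (R := ℂ)
    rw [← hc, ← hind, Cfsg.Lib.Chars.indFun_one, hψ1, hd]
    push_cast
    ring
  refine ⟨⟨T.index * e, by rw [hcd]; ring⟩, ?_⟩
  rw [hcd, Nat.mul_div_cancel _ hdpos, ← Subgroup.relIndex_mul_index hNT,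
    mul_comm (N.relIndex T) T.index]
  apply mul_dvd_mul_left
  -- transport to the inertia group
  let f := Subgroup.subgroupOfEquivOfLe hNT
  obtain ⟨n₁, ρ, hρ, hρc⟩ := Cfsg.Lib.Chars.IsIrrCharacter.comp_mulEquiv hϑ f
  obtain ⟨n₂, σ, hσ, hσc⟩ := hψ
  refine Cfsg.Lib.Chars.finrank_dvd_of_invariant (N.subgroupOf T) ρ σ ?_ ?_
  · intro g
    funext x
    rw [hρc]
    exact congrFun g.2 (f x)
  · funext x
    rw [hρc, hσc]
    have := congrFun he (f x)
    simpa [f] using this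

end Cfsg.Agent.S0887
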