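import Cfsg.Statements.S0944
import Cfsg.Agent.Chars.Core
-- import your own Cfsg.Agent.* helpers here

set_option autoImplicit false
open Cfsg

namespace Cfsg.Agent.S0944

set_option linter.unusedSectionVars false

open Cfsg.Lib.Chars

/-- Let χ be an irreducible character of the finite group G and u an involution. Then χ u is a rational integer n with n ≡ χ 1 (mod 2). -/
theorem result {G : Type*} [Group G] [Finite G] (χ : Cfsg.IrrCharacter G) (u : G) (hu : orderOf u = 2) : ∃ n : ℤ, (χ : G → ℂ) u = (n : ℂ) ∧ (2 : ℤ) ∣ (Cfsg.charDegree (χ : G → ℂ) : ℤ) - n := by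
  obtain ⟨n, ρ, -, hρ⟩ := χ.2
  have key : ∀ s : Multiset ℂ, (∀ z ∈ s, z ^ 2 = 1) →
      ∃ k : ℤ, s.sum = (k : ℂ) ∧ (2 : ℤ) ∣ (Multiset.card s : ℤ) - k := by
    intro s
    induction s using Multiset.induction with
    | empty => exact fun _ => ⟨0, by simp, by simp⟩
    | cons a s ih =>
      intro hs
      obtain ⟨k, hk, hd⟩ := ih fun z hz => hs z (Multiset.mem_cons_of_mem hz)
      rcases sq_eq_one_iff.1 (hs a (Multiset.mem_cons_self a s)) with rfl | rfl
      · exact ⟨k + 1, by rw [Multiset.sum_cons, hk]; push_cast; ring, by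
          rw [Multiset.card_cons]; push_cast; omega⟩
      · exact ⟨k - 1, by rw [Multiset.sum_cons, hk]; push_cast; ring, by
          rw [Multiset.card_cons]; push_cast; omega⟩
  obtain ⟨k, hk, hd⟩ := key (eigs ρ u) fun z hz =>
    pow_eq_one_of_mem_eigs ρ (hu ▸ pow_orderOf_eq_one u) hz
  refine ⟨k, by rw [← hρ, character_eq_sum_eigs, hk], ?_⟩
  have hdeg : Cfsg.charDegree (χ : G → ℂ) = Multiset.card (eigs ρ u) := by
    rw [card_eigs, ← deg_character ρ, hρ]; rfl
  rwa [hdeg]

end Cfsg.Agent.S0944
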