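import Cfsg.Statements.S0950
import Cfsg.Agent.Transfer.Frobenius
import Cfsg.Agent.Transfer.Basic
-- import your own Cfsg.Agent.* helpers here

set_option autoImplicit false
open Cfsg

namespace Cfsg.Agent.S0950

set_option linter.unusedSectionVars false

/-- Let S be a Sylow 2-subgroup of the finite group G that is isomorphic to the quaternion group of order 8, and suppose S has no normal complement in G. Then any two subgroups of order 4 of S are conjugate by an element of the normalizer of S. -/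
theorem result {G : Type*} [Group G] [Finite G] (S : Sylow 2 G) (e : (S : Subgroup G) ≃* QuaternionGroup 2) (hnc : ∀ N : Subgroup G, N.Normal → ¬ Subgroup.IsComplement' N (S : Subgroup G)) (A B : Subgroup G) (hA : A ≤ S) (hB : B ≤ S) (hA4 : Nat.card A = 4) (hB4 : Nat.card B = 4) : ∃ n ∈ Subgroup.normalizer ((S : Subgroup G) : Set G), B = A.map (MulAut.conj n).toMonoidHom := by
  classical
  haveI : Fact (Nat.Prime 2) := ⟨Nat.prime_two⟩
  have hScard : Nat.card (S : Subgroup G) = 8 := by
    rw [Nat.card_congr e.toEquiv, Nat.card_eq_fintype_card, QuaternionGroup.card]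
  -- facts about the quaternion group
  have qfact : ∀ u : QuaternionGroup 2, u * u = 1 → u = 1 ∨ u = QuaternionGroup.a 2 := by decide
  have qfact4 : ∀ u : QuaternionGroup 2, u * u ≠ 1 →
      u = .a 1 ∨ u = .a 1 * .a 1 * .a 1 ∨ u = .xa 0 ∨ u = .xa 0 * .xa 0 * .xa 0 ∨
      u = .xa 1 ∨ u = .xa 1 * .xa 1 * .xa 1 := by decide
  have qexp : ∀ u : QuaternionGroup 2, u * u * u * u = 1 := by decide
  have qcube : ∀ v : QuaternionGroup 2, v = v * v * v * (v * v * v) * (v * v * v) := by decide
  have hexp : ∀ s ∈ (S : Subgroup G), s ^ 4 = 1 := fun s hs => by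
    have h1 := qexp (e ⟨s, hs⟩)
    rw [← map_mul, ← map_mul, ← map_mul, ← map_one e] at h1
    have h2 : s * s * s * s = 1 := congrArg Subtype.val (e.injective h1)
    exact (show s ^ 4 = s * s * s * s by simp [pow_succ, mul_assoc]).trans h2
  -- every proper subgroup of `S` is cyclic
  have hgen : ∀ K : Subgroup G, K ≤ S → 2 < Nat.card K → ∃ u ∈ K, u * u ≠ 1 := by
    intro K hK hc
    by_contra hcon
    push Not at hcon
    let g : K → Bool := fun k => decide ((k : G) = 1)
    have hg : Function.Injective g := by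
      intro u v huv
      have hsplit : ∀ w : K, e ⟨(w : G), hK w.2⟩ = 1 ∨ e ⟨(w : G), hK w.2⟩ = QuaternionGroup.a 2 := fun w =>
        qfact _ (by rw [← map_mul, ← map_one e]; exact congrArg e (Subtype.ext (hcon _ w.2)))
      have h1 : ∀ w : K, (w : G) = 1 ↔ e ⟨(w : G), hK w.2⟩ = 1 := fun w => by
        rw [← map_one e, e.injective.eq_iff]; exact ⟨fun h => Subtype.ext h, congrArg Subtype.val⟩
      have h2 : ((u : G) = 1) ↔ ((v : G) = 1) := by simpa [g] using huv
      refine Subtype.ext ?_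
      by_cases hu : (u : G) = 1
      · rw [hu, h2.1 hu]
      · have hu' := (hsplit u).resolve_left ((h1 u).not.1 hu)
        have hv' := (hsplit v).resolve_left ((h1 v).not.1 (h2.not.1 hu))
        exact Subtype.mk.inj (e.injective (hu'.trans hv'.symm))
    have := Nat.card_le_card_of_injective g hg
    rw [Nat.card_eq_fintype_card (α := Bool), Fintype.card_bool] at this
    omega
  have hcyc : ∀ K : Subgroup G, K ≤ S → Nat.card K = 4 → ∃ u ∈ K, u * u ≠ 1 ∧ Subgroup.zpowers u = K := by
    intro K hK hc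
    obtain ⟨u, hu, hu2⟩ := hgen K hK (by omega)
    refine ⟨u, hu, hu2, Subgroup.eq_of_le_of_card_ge (Subgroup.zpowers_le.2 hu) ?_⟩
    rw [hc, Nat.card_zpowers, orderOf_eq_prime_pow (p := 2) (n := 1)
      (by rw [pow_one, pow_two]; exact hu2) (by simpa using hexp u (hK hu))]
    norm_num
  -- an element of odd order normalising but not centralising `S`
  obtain ⟨g, hgN, hgodd, hgC⟩ : ∃ g ∈ Subgroup.normalizer ((S : Subgroup G) : Set G),
      (orderOf g).Coprime 2 ∧ g ∉ Subgroup.centralizer ((S : Subgroup G) : Set G) := by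
    by_contra hcon
    push Not at hcon
    have hfrob : Cfsg.HasNormalPComplement 2 G := by
      refine Cfsg.Lib.Transfer.hasNormalPComplement_of_frobenius fun Q hQ g hg hcop => ?_
      obtain ⟨T, hT⟩ := hQ.exists_le_sylow
      obtain ⟨c, hc⟩ := MulAction.exists_smul_eq G T S
      have hQS : Q.map (MulAut.conj c).toMonoidHom ≤ (S : Subgroup G) := by
        rintro _ ⟨w, hw, rfl⟩
        have h1 : MulAut.conj c w ∈ ((c • T : Sylow 2 G) : Subgroup G) := by
          rw [Sylow.coe_subgroup_smul]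
          exact Subgroup.smul_mem_pointwise_smul _ _ _ (hT hw)
        rwa [hc] at h1
      set Q' := Q.map (MulAut.conj c).toMonoidHom with hQ'
      set g' := c * g * c⁻¹ with hg'def
      have hg' : g' ∈ Subgroup.normalizer (Q' : Set G) := by
        rw [← Cfsg.Lib.Transfer.map_conj_eq_self_iff, hQ', Cfsg.Lib.Transfer.map_conj_map_conj,
          show g' * c = c * g by rw [hg'def]; group, ← Cfsg.Lib.Transfer.map_conj_map_conj,
          Cfsg.Lib.Transfer.map_conj_eq_self_iff.2 hg]
      have hcop' : (orderOf g').Coprime 2 := by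
        rwa [hg'def, show orderOf (c * g * c⁻¹) = orderOf g from
          orderOf_injective (MulAut.conj c).toMonoidHom (MulAut.conj c).injective g]
      suffices hcent : g' ∈ Subgroup.centralizer (Q' : Set G) by
        intro w hw
        have h2 := hcent (c * w * c⁻¹) ⟨w, hw, rfl⟩
        rw [hg'def] at h2
        have h3 := congrArg (fun v => c⁻¹ * v * c) h2
        simpa [mul_assoc] using h3
      by_cases hQ8 : Nat.card Q' = 8
      · have hQeq : Q' = (S : Subgroup G) := Subgroup.eq_of_le_of_card_ge hQS (by rw [hScard, hQ8])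
        have hNS : g' ∈ Subgroup.normalizer ((S : Subgroup G) : Set G) := hQeq ▸ hg'
        intro w hw
        exact hcon g' hNS hcop' w (hQS hw)
      · -- `Q'` is cyclic of order at most 4
        haveI : IsCyclic Q' := by
          obtain ⟨n, hn⟩ := (S.2.to_le hQS).exists_card_eq
          have hd : Nat.card Q' ∣ 8 := hScard ▸ Subgroup.card_dvd_of_le hQS
          have hle := Nat.le_of_dvd (by norm_num) hd
          rcases le_or_gt (Nat.card Q') 2 with h | h
          · rcases eq_or_ne (Nat.card Q') 2 with h2 | h2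
            · exact isCyclic_of_prime_card (p := 2) h2
            · have h0 : 0 < Nat.card Q' := Nat.card_pos
              haveI : Subsingleton Q' := (Nat.card_eq_one_iff_unique.1 (by omega)).1
              exact isCyclic_of_subsingleton
          · have h4 : Nat.card Q' = 4 := by
              generalize Nat.card Q' = q at hd hle hQ8 h ⊢
              interval_cases q <;> first | rfl | omega
            obtain ⟨u, hu, -, huK⟩ := hcyc Q' hQS h4
            refine ⟨⟨⟨u, hu⟩, fun w => ?_⟩⟩
            obtain ⟨i, hi⟩ := (huK.ge w.2 : (w : G) ∈ Subgroup.zpowers u)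
            exact ⟨i, Subtype.ext hi⟩
        let φ : Subgroup.normalizer (Q' : Set G) →* MulAut Q' := Q'.normalizerMonoidHom
        have h1 : orderOf (φ ⟨g', hg'⟩) ∣ orderOf g' := by
          have := orderOf_map_dvd φ ⟨g', hg'⟩
          rwa [Subgroup.orderOf_mk] at this
        have h2 : orderOf (φ ⟨g', hg'⟩) ∣ 2 := by
          refine (orderOf_dvd_natCard _).trans ?_
          rw [IsCyclic.card_mulAut]
          have hd : Nat.card Q' ∣ 4 := by
            have hd : Nat.card Q' ∣ 8 := hScard ▸ Subgroup.card_dvd_of_le hQS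
            have hle := Nat.le_of_dvd (by norm_num) hd
            generalize Nat.card Q' = q at hd hle hQ8 ⊢
            interval_cases q <;> omega
          refine (Nat.totient_dvd_of_dvd hd).trans ?_
          decide
        have h3 : φ ⟨g', hg'⟩ = 1 := orderOf_eq_one_iff.1
          (Nat.eq_one_of_dvd_coprimes hcop' h1 h2)
        intro w hw
        have h4 : g' * w * g'⁻¹ = w := congrArg Subtype.val (MulEquiv.ext_iff.1 h3 ⟨w, hw⟩)
        calc w * g' = g' * w * g'⁻¹ * g' := by rw [h4]
          _ = g' * w := by group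
    obtain ⟨N, hN, hc⟩ := Cfsg.Lib.Transfer.exists_complement_of_hasNormalPComplement hfrob S
    exact hnc N hN hc
  have hodd : ∀ v : G, v * v = 1 → ∀ k, v ^ k = 1 → (k : ℕ).Coprime 2 → v = 1 := fun v hv k hk hc => by
    have h1 : orderOf v ∣ 2 := orderOf_dvd_of_pow_eq_one (by rw [pow_two]; exact hv)
    exact orderOf_eq_one_iff.1 (Nat.eq_one_of_dvd_coprimes hc (orderOf_dvd_of_pow_eq_one hk) h1)
  let σ : Subgroup G → Subgroup G := fun K => K.map (MulAut.conj g).toMonoidHom
  have hσS : ∀ K ≤ (S : Subgroup G), σ K ≤ S := fun K hK => by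
    rintro _ ⟨w, hw, rfl⟩
    exact (Subgroup.mem_normalizer_iff.1 hgN w).1 (hK hw)
  have hσc : ∀ K, Nat.card (σ K) = Nat.card K := fun K => Cfsg.Lib.Transfer.card_map_conj K g
  -- no fixed points
  have hfix : ∀ K ≤ (S : Subgroup G), Nat.card K = 4 → σ K ≠ K := by
    intro K hK hK4 hσK
    apply hgC
    obtain ⟨u, hu, hu2, huK⟩ := hcyc K hK hK4
    have hgK : g ∈ Subgroup.normalizer (K : Set G) := Cfsg.Lib.Transfer.map_conj_eq_self_iff.1 hσK
    haveI : IsCyclic K := ⟨⟨⟨u, hu⟩, fun w => by
      obtain ⟨i, hi⟩ := (huK.ge w.2 : (w : G) ∈ Subgroup.zpowers u)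
      exact ⟨i, Subtype.ext hi⟩⟩⟩
    have hcK : ∀ w ∈ K, g * w * g⁻¹ = w := by
      let φ := K.normalizerMonoidHom
      have h1 : orderOf (φ ⟨g, hgK⟩) ∣ orderOf g := by
        have := orderOf_map_dvd φ ⟨g, hgK⟩
        rwa [Subgroup.orderOf_mk] at this
      have h2 : orderOf (φ ⟨g, hgK⟩) ∣ 2 := by
        refine (orderOf_dvd_natCard _).trans ?_
        rw [IsCyclic.card_mulAut, hK4]
        decide
      have h3 : φ ⟨g, hgK⟩ = 1 := orderOf_eq_one_iff.1 (Nat.eq_one_of_dvd_coprimes hgodd h1 h2)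
      exact fun w hw => congrArg Subtype.val (MulEquiv.ext_iff.1 h3 ⟨w, hw⟩)
    intro b hb
    suffices h : g * b * g⁻¹ = b by
      calc b * g = g * b * g⁻¹ * g := by rw [h]
        _ = g * b := by group
    by_cases hbK : b ∈ K
    · exact hcK b hbK
    have hidx : (K.subgroupOf (S : Subgroup G)).index = 2 := by
      refine Nat.eq_of_mul_eq_mul_left (by norm_num : 0 < 4) ?_
      have := (K.subgroupOf (S : Subgroup G)).card_mul_index
      rw [Nat.card_congr (Subgroup.subgroupOfEquivOfLe hK).toEquiv, hK4, hScard] at this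
      rw [this]
    have hgb : g * b * g⁻¹ ∈ (S : Subgroup G) := (Subgroup.mem_normalizer_iff.1 hgN b).1 hb
    have hgbK : g * b * g⁻¹ ∉ K := fun h => hbK ((Subgroup.mem_normalizer_iff.1 hgK b).2 h)
    have hd : g * b * g⁻¹ * b⁻¹ ∈ K := by
      have := (Subgroup.mul_mem_iff_of_index_two hidx (a := ⟨_, hgb⟩) (b := ⟨_, inv_mem hb⟩)).2
        (iff_of_false hgbK (fun h => hbK (by simpa using inv_mem (Subgroup.mem_subgroupOf.1 h))))
      exact this
    set d := g * b * g⁻¹ * b⁻¹ with hdd
    have hit : ∀ k : ℕ, g ^ k * b * (g ^ k)⁻¹ = d ^ k * b := by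
      intro k
      induction k with
      | zero => simp
      | succ k ih =>
        calc g ^ (k + 1) * b * (g ^ (k + 1))⁻¹ = g * (g ^ k * b * (g ^ k)⁻¹) * g⁻¹ := by
              rw [pow_succ']; group
          _ = (g * d * g⁻¹) ^ k * (g * b * g⁻¹) := by rw [ih, conj_pow]; group
          _ = _ := by rw [hcK d hd, show g * b * g⁻¹ = d * b by rw [hdd]; group, ← mul_assoc, ← pow_succ]
    have h4 := hit (orderOf g)
    rw [pow_orderOf_eq_one, one_mul, inv_one, mul_one] at h4
    have h5 : d ^ orderOf g = 1 := mul_right_cancel (b := b) (by rw [one_mul]; exact h4.symm)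
    have h6 : orderOf d = 1 := Nat.eq_one_of_dvd_coprimes
      (Nat.Coprime.pow_right 2 hgodd) (orderOf_dvd_of_pow_eq_one h5)
      ((orderOf_dvd_of_pow_eq_one (hexp d (hK hd))).trans (by norm_num))
    rw [orderOf_eq_one_iff, hdd] at h6
    exact mul_inv_eq_one.1 h6
  -- no 2-cycles
  have hfix2 : ∀ K ≤ (S : Subgroup G), Nat.card K = 4 → σ (σ K) ≠ K := by
    intro K hK hK4 h2
    refine hfix K hK hK4 ?_
    have hn2 : g * g ∈ Subgroup.normalizer (K : Set G) := by
      rw [← Cfsg.Lib.Transfer.map_conj_eq_self_iff, ← Cfsg.Lib.Transfer.map_conj_map_conj]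
      exact h2
    obtain ⟨q, hq⟩ : Odd (orderOf g) := Nat.coprime_two_right.1 hgodd
    have hgpow : g = (g * g) ^ (q + 1) := by
      rw [← pow_two, ← pow_mul, show 2 * (q + 1) = orderOf g + 1 by omega, pow_succ, pow_orderOf_eq_one,
        one_mul]
    exact Cfsg.Lib.Transfer.map_conj_eq_self_iff.2 (hgpow ▸ pow_mem hn2 (q + 1))
  -- at most three subgroups of order 4
  let gen : Fin 3 → Subgroup G := ![Subgroup.zpowers ((e.symm (.a 1) : (S : Subgroup G)) : G),
    Subgroup.zpowers ((e.symm (.xa 0) : (S : Subgroup G)) : G),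
    Subgroup.zpowers ((e.symm (.xa 1) : (S : Subgroup G)) : G)]
  have hthree : ∀ K ≤ (S : Subgroup G), Nat.card K = 4 → ∃ i, gen i = K := by
    intro K hK hK4
    obtain ⟨u, hu, hu2, huK⟩ := hcyc K hK hK4
    have hq : e ⟨u, hK hu⟩ * e ⟨u, hK hu⟩ ≠ 1 := fun h => hu2 (by
      rw [← map_mul, ← map_one e] at h
      exact congrArg Subtype.val (e.injective h))
    have hcase : ∀ w : QuaternionGroup 2, (e ⟨u, hK hu⟩ = w ∨ e ⟨u, hK hu⟩ = w * w * w) →
        Subgroup.zpowers ((e.symm w : (S : Subgroup G)) : G) = K := by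
      intro w hw
      have hmem : ((e.symm w : (S : Subgroup G)) : G) ∈ K := by
        rcases hw with hw | hw
        · rw [← hw, e.symm_apply_apply]; exact hu
        · have h8 : w = e ⟨u, hK hu⟩ * e ⟨u, hK hu⟩ * e ⟨u, hK hu⟩ := by
            rw [hw]; exact qcube w
          rw [h8, map_mul, map_mul, e.symm_apply_apply]
          exact mul_mem (mul_mem hu hu) hu
      refine le_antisymm (Subgroup.zpowers_le.2 hmem) ?_
      rw [← huK, Subgroup.zpowers_le]
      rcases hw with hw | hw
      · rw [← hw, e.symm_apply_apply]; exact Subgroup.mem_zpowers _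
      · have h9 : u = ((e.symm w : (S : Subgroup G)) : G) * (e.symm w : (S : Subgroup G)) *
            (e.symm w : (S : Subgroup G)) := by
          rw [← Subgroup.coe_mul, ← Subgroup.coe_mul, ← map_mul, ← map_mul, ← hw, e.symm_apply_apply]
        rw [h9]
        exact mul_mem (mul_mem (Subgroup.mem_zpowers _) (Subgroup.mem_zpowers _)) (Subgroup.mem_zpowers _)
    rcases qfact4 _ hq with h | h | h | h | h | h
    exacts [⟨0, hcase _ (.inl h)⟩, ⟨0, hcase _ (.inr h)⟩, ⟨1, hcase _ (.inl h)⟩, ⟨1, hcase _ (.inr h)⟩,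
      ⟨2, hcase _ (.inl h)⟩, ⟨2, hcase _ (.inr h)⟩]
  have hA1 := hσS A hA
  have hA14 : Nat.card (σ A) = 4 := (hσc A).trans hA4
  have hA2 := hσS _ hA1
  have hA24 : Nat.card (σ (σ A)) = 4 := (hσc _).trans hA14
  obtain ⟨i₀, h₀⟩ := hthree A hA hA4
  obtain ⟨i₁, h₁⟩ := hthree _ hA1 hA14
  obtain ⟨i₂, h₂⟩ := hthree _ hA2 hA24
  obtain ⟨j, hj⟩ := hthree B hB hB4
  have d01 : i₀ ≠ i₁ := fun h => hfix A hA hA4 (h₁.symm.trans (h ▸ h₀))
  have d12 : i₁ ≠ i₂ := fun h => hfix _ hA1 hA14 (h₂.symm.trans (h ▸ h₁))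
  have d02 : i₀ ≠ i₂ := fun h => hfix2 A hA hA4 (h₂.symm.trans (h ▸ h₀))
  have hcases : j = i₀ ∨ j = i₁ ∨ j = i₂ := by omega
  rcases hcases with rfl | rfl | rfl
  · exact ⟨1, one_mem _, by rw [← hj, h₀]; exact (Cfsg.Lib.Transfer.map_conj_one A).symm⟩
  · exact ⟨g, hgN, by rw [← hj, h₁]⟩
  · exact ⟨g * g, mul_mem hgN hgN, by rw [← hj, h₂]; exact Cfsg.Lib.Transfer.map_conj_map_conj A g g⟩

end Cfsg.Agent.S0950
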