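import Cfsg.Statements.S0943
import Cfsg.Agent.Blocks.GroupAlg
-- import your own Cfsg.Agent.* helpers here

set_option autoImplicit false
open Cfsg

namespace Cfsg.Agent.S0943

set_option linter.unusedSectionVars false

open Cfsg.Lib.Blocks Cfsg.Lib.Chars

/-- Let χ be an irreducible character of the finite group G and u, v ∈ G. If χ (x * y) = χ (u * v) whenever x is conjugate to u and y is conjugate to v, then χ u * χ v = χ 1 * χ (u * v). (Multiply the class sums of u and v and apply the central character of χ.) -/
theorem result {G : Type*} [Group G] [Finite G] (χ : Cfsg.IrrCharacter G) (u v : G) (hc : ∀ x y : G, IsConj u x → IsConj v y → (χ : G → ℂ) (x * y) = (χ : G → ℂ) (u * v)) : (χ : G → ℂ) u * (χ : G → ℂ) v = (χ : G → ℂ) 1 * (χ : G → ℂ) (u * v) := by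
  classical
  have := Fintype.ofFinite G
  have h := chiEval_central_mul χ (isCentralFn_cls (R := ℂ) u) (cls ℂ v)
  have hcl : chiEval (χ : G → ℂ) (cls ℂ u * cls ℂ v) =
      (Nat.card {x : G // IsConj u x} : ℂ) * (Nat.card {x : G // IsConj v x} : ℂ) *
        (χ : G → ℂ) (u * v) := by
    simp only [chiEval, fn_mul, Finset.sum_mul]
    rw [Finset.sum_comm]
    calc ∑ x : G, ∑ g : G, fn (cls ℂ u) x * fn (cls ℂ v) (x⁻¹ * g) * (χ : G → ℂ) g
        = ∑ x : G, ∑ y : G, fn (cls ℂ u) x * fn (cls ℂ v) y * (χ : G → ℂ) (x * y) :=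
          Finset.sum_congr rfl fun x _ =>
            Fintype.sum_equiv (Equiv.mulLeft x⁻¹) _ _ fun g => by simp
      _ = ∑ x : G, ∑ y : G, if IsConj u x then (if IsConj v y then
            (χ : G → ℂ) (u * v) else 0) else 0 := by
          refine Finset.sum_congr rfl fun x _ => Finset.sum_congr rfl fun y _ => ?_
          rw [fn_cls, fn_cls]
          split_ifs with a b <;> simp
          exact hc x y a b
      _ = _ := by
          simp only [Nat.card_eq_fintype_card, Fintype.card_subtype]
          rw [Finset.sum_congr rfl fun x _ => show (∑ y : G, if IsConj u x then (if IsConj v y then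
              (χ : G → ℂ) (u * v) else 0) else 0) = if IsConj u x then (∑ y : G, if IsConj v y then
              (χ : G → ℂ) (u * v) else 0) else 0 by split_ifs <;> simp]
          rw [← Finset.sum_filter, Finset.sum_const, ← Finset.sum_filter, Finset.sum_const,
            nsmul_eq_mul, nsmul_eq_mul, mul_assoc]
  rw [hcl, omega, chiEval_cls _ (isClassFunction_irr χ), chiEval_cls _ (isClassFunction_irr χ)] at h
  have hu : (Nat.card {x : G // IsConj u x} : ℂ) ≠ 0 :=
    Nat.cast_ne_zero.2 (card_isConj_pos u).ne'
  have hv : (Nat.card {x : G // IsConj v x} : ℂ) ≠ 0 :=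
    Nat.cast_ne_zero.2 (card_isConj_pos v).ne'
  have h1 := IsIrrCharacter.apply_one_ne_zero χ.2
  field_simp at h
  linear_combination -h

end Cfsg.Agent.S0943
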