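import Cfsg.Statements.S0215
import Cfsg.Agent.Blocks.ZStar
-- import your own Cfsg.Agent.* helpers here

set_option autoImplicit false
open Cfsg

namespace Cfsg.Agent.S0215

set_option linter.unusedSectionVars false

/-- Glauberman's Z*-Theorem: let u be an involution in a Sylow 2-subgroup P of a finite group G such that the only G-conjugate of u lying in P is u itself. Then there is a normal subgroup N of odd order such that every commutator of u with an element of G lies in N (that is, uN is central in G/N). -/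
theorem result {G : Type*} [Group G] [Finite G] (P : Sylow 2 G) (u : G) (hu : orderOf u = 2) (huP : u ∈ P) (hiso : ∀ g : G, g * u * g⁻¹ ∈ P → g * u * g⁻¹ = u) : ∃ N : Subgroup G, N.Normal ∧ Odd (Nat.card N) ∧ ∀ g : G, (u * g * u⁻¹ * g⁻¹) ∈ N := by
  classical
  haveI : Fact (Nat.Prime 2) := ⟨Nat.prime_two⟩
  have hisol : Cfsg.IsIsolatedInvolution u := by
    refine ⟨hu, fun g hc => ?_⟩
    set s := g * u * g⁻¹ with hs
    have hs2 : orderOf s = 2 := by rw [hs, ← MulAut.conj_apply, MulEquiv.orderOf_eq, hu]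
    have h1 : IsPGroup 2 (Subgroup.zpowers u) :=
      IsPGroup.of_card (n := 1) (by rw [Nat.card_zpowers, hu, pow_one])
    have h2 : IsPGroup 2 (Subgroup.zpowers s) :=
      IsPGroup.of_card (n := 1) (by rw [Nat.card_zpowers, hs2, pow_one])
    have hle : Subgroup.zpowers s ≤ Subgroup.normalizer (Subgroup.zpowers u : Set G) := by
      refine le_trans (Subgroup.zpowers_le.2 ?_) (Subgroup.centralizer_le_normalizer _)
      rw [Subgroup.zpowers_eq_closure, Subgroup.centralizer_closure,
        Subgroup.mem_centralizer_singleton_iff]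
      exact hc.symm.eq
    obtain ⟨Q, hQ⟩ := (h2.to_sup_of_normal_right' h1 hle).exists_le_sylow
    obtain ⟨c, hcQ⟩ := MulAction.exists_smul_eq G Q P
    have key : ∀ x ∈ (Q : Subgroup G), c * x * c⁻¹ ∈ P := fun x hx => by
      show c * x * c⁻¹ ∈ (P : Subgroup G)
      rw [← hcQ]
      exact Subgroup.smul_mem_pointwise_smul x (MulAut.conj c) _ hx
    have e1 := hiso c (key u (hQ (Subgroup.mem_sup_right (Subgroup.mem_zpowers u))))
    have e2 := key s (hQ (Subgroup.mem_sup_left (Subgroup.mem_zpowers s)))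
    rw [hs, show c * (g * u * g⁻¹) * c⁻¹ = (c * g) * u * (c * g)⁻¹ by group] at e2
    have e3 := hiso (c * g) e2
    have e4 : c * (g * u * g⁻¹) * c⁻¹ = c * u * c⁻¹ := by
      rw [show c * (g * u * g⁻¹) * c⁻¹ = (c * g) * u * (c * g)⁻¹ by group, e3, e1]
    exact mul_left_cancel (mul_right_cancel e4)
  refine ⟨Cfsg.pPrimeCore 2 G, inferInstance, ?_, Cfsg.Lib.Blocks.zstar (Nat.card G) rfl hisol⟩
  exact Nat.coprime_two_right.1 (Cfsg.Lib.Components.coprime_card_pPrimeCore 2)

end Cfsg.Agent.S0215
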