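import Cfsg.Statements.S0218
import Cfsg.Agent.InvolCalc.Dihedral

set_option autoImplicit false
open Cfsg

namespace Cfsg.Agent.S0218

/-- The generalized quaternion group of order 2^(n+3) contains exactly one element of order 2. -/
theorem result (n : ℕ) : Nat.card {x : QuaternionGroup (2 ^ (n + 1)) // orderOf x = 2} = 1 := by
  set m := 2 ^ (n + 1) with hm
  haveI : NeZero m := ⟨pow_ne_zero _ two_ne_zero⟩
  haveI : NeZero (2 * m) := ⟨mul_ne_zero two_ne_zero (NeZero.ne m)⟩
  have hmv : ((m : ℕ) : ZMod (2 * m)).val = m := by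
    rw [ZMod.val_natCast, Nat.mod_eq_of_lt]
    have := NeZero.pos m
    omega
  rw [Nat.card_eq_one_iff_exists]
  refine ⟨⟨QuaternionGroup.a (m : ZMod (2 * m)), ?_⟩, fun y => ?_⟩
  · rw [QuaternionGroup.orderOf_a, hmv, Nat.gcd_eq_right ⟨2, by ring⟩, Nat.mul_div_cancel _ (NeZero.pos m)]
  · obtain ⟨(i | i), hi⟩ := y
    · rw [QuaternionGroup.orderOf_a] at hi
      refine Subtype.ext (congrArg QuaternionGroup.a (ZMod.val_injective _ ?_))
      rw [hmv]
      obtain ⟨k, hk⟩ := Nat.gcd_dvd_left (2 * m) i.val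
      obtain ⟨l, hl⟩ := Nat.gcd_dvd_right (2 * m) i.val
      have hg : 0 < Nat.gcd (2 * m) i.val := Nat.gcd_pos_of_pos_left _ (NeZero.pos _)
      rw [Nat.div_eq_iff_eq_mul_left hg (Nat.gcd_dvd_left _ _)] at hi
      have hlt := ZMod.val_lt i
      have hgm : Nat.gcd (2 * m) i.val = m := by omega
      rw [hgm] at hl
      have hl2 : l < 2 := by
        by_contra h
        have := Nat.mul_le_mul_left m (Nat.le_of_not_lt h)
        omega
      interval_cases l
      · rw [mul_zero] at hl
        rw [hl, Nat.gcd_zero_right] at hgm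
        omega
      · omega
    · rw [QuaternionGroup.orderOf_xa] at hi
      omega

end Cfsg.Agent.S0218
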