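import Cfsg.Statements.S3742
import Mathlib

set_option autoImplicit false
open Cfsg

namespace Cfsg.Agent.S3742

open QuaternionGroup

abbrev Q := QuaternionGroup 2

/-- the map determined by the images of the two generators -/
def gen (p : Q × Q) : Q → Q
  | .a k => p.1 ^ k.val
  | .xa k => p.2 * p.1 ^ k.val

/-- admissible images of the generators -/
def admissible (p : Q × Q) : Prop :=
  p.1 ^ 2 = a 2 ∧ p.2 ^ 2 = a 2 ∧ p.1 * p.2 ≠ p.2 * p.1

instance : DecidablePred admissible := fun p => by unfold admissible; infer_instance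

def axis1 : Q := a 1
def axis2 : Q := xa 0
def axis3 : Q := a 1 * xa 0

/-- the four diagonals -/
def diag : Fin 4 → Q × Q × Q
  | 0 => (axis1, axis2, axis3)
  | 1 => (axis1, axis2, axis3⁻¹)
  | 2 => (axis1, axis2⁻¹, axis3)
  | 3 => (axis1, axis2⁻¹, axis3⁻¹)

def memT (x : Q) (n : Fin 4) : Bool :=
  x == (diag n).1 || x == (diag n).2.1 || x == (diag n).2.2

def matches' (x y z : Q) (n : Fin 4) : Bool :=
  (memT x n && memT y n && memT z n) || (memT x⁻¹ n && memT y⁻¹ n && memT z⁻¹ n)

def diagOf (x y z : Q) : Fin 4 :=
  if matches' x y z 0 then 0 else if matches' x y z 1 then 1 else if matches' x y z 2 then 2 else 3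

def perm (f : Q → Q) (m : Fin 4) : Fin 4 :=
  diagOf (f (diag m).1) (f (diag m).2.1) (f (diag m).2.2)

theorem gen_hom : ∀ p : Q × Q, admissible p → ∀ x y : Q, gen p (x * y) = gen p x * gen p y := by
  decide +kernel

theorem gen_inj : ∀ p : Q × Q, admissible p → ∀ x y : Q, gen p x = gen p y → x = y := by
  decide +kernel

theorem perm_comp : ∀ p : Q × Q, admissible p → ∀ q : Q × Q, admissible q →
    ∀ m, perm (fun x => gen p (gen q x)) m = perm (gen p) (perm (gen q) m) := by
  decide +kernel

theorem perm_inj : ∀ p : Q × Q, admissible p → ∀ q : Q × Q, admissible q →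
    (∀ m, perm (gen p) m = perm (gen q) m) → p = q := by
  decide +kernel

theorem admissible_card : Fintype.card {p : Q × Q // admissible p} = 24 := by
  decide +kernel

theorem perm_id : ∀ m, perm (fun x => x) m = m := by
  decide +kernel

def code (f : MulAut Q) : Q × Q := (f (a 1), f (xa 0))

theorem admissible_code (f : MulAut Q) : admissible (code f) := by
  have h2 : f (a 2) = a 2 := by
    have key : ∀ y : Q, y ≠ 1 → y ^ 2 = 1 → y = a 2 := by decide +kernel
    refine key _ ?_ ?_
    · intro h
      have := f.map_eq_one_iff.mp h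
      exact absurd this (by decide)
    · rw [← map_pow, show (a 2 : Q) ^ 2 = 1 by decide, map_one]
  refine ⟨?_, ?_, ?_⟩
  · show f (a 1) ^ 2 = a 2
    rw [← map_pow, show (a 1 : Q) ^ 2 = a 2 by decide, h2]
  · show f (xa 0) ^ 2 = a 2
    rw [← map_pow, show (xa 0 : Q) ^ 2 = a 2 by decide, h2]
  · show f (a 1) * f (xa 0) ≠ f (xa 0) * f (a 1)
    rw [← map_mul, ← map_mul, f.injective.ne_iff]
    decide

theorem eq_gen (f : MulAut Q) : (f : Q → Q) = gen (code f) := by
  funext x
  have hz : ∀ k : ZMod (2 * 2), (a 1 : Q) ^ k.val = a k := by decide +kernel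
  cases x with
  | a k => show f (a k) = f (a 1) ^ k.val; rw [← map_pow, hz]
  | xa k =>
    show f (xa k) = f (xa 0) * f (a 1) ^ k.val
    rw [← map_pow, hz, ← map_mul, xa_mul_a, zero_add]

theorem perm_mul (f g : MulAut Q) (m : Fin 4) : perm ((f * g : MulAut Q) : Q → Q) m = perm f (perm g m) := by
  have h : ((f * g : MulAut Q) : Q → Q) = fun x => gen (code f) (gen (code g) x) := by
    funext x
    show f (g x) = _
    rw [← eq_gen f, ← eq_gen g]
  rw [h, perm_comp _ (admissible_code f) _ (admissible_code g), ← eq_gen f, ← eq_gen g]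

def toPerm : MulAut Q →* Equiv.Perm (Fin 4) where
  toFun f :=
    { toFun := perm f
      invFun := perm (f⁻¹ : MulAut Q)
      left_inv := fun m => by rw [← perm_mul, inv_mul_cancel]; exact perm_id m
      right_inv := fun m => by rw [← perm_mul, mul_inv_cancel]; exact perm_id m }
  map_one' := Equiv.ext perm_id
  map_mul' f g := Equiv.ext (perm_mul f g)

theorem toPerm_injective : Function.Injective toPerm := fun f g h => by
  have hc : code f = code g := perm_inj _ (admissible_code f) _ (admissible_code g) fun m => by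
    rw [← eq_gen f, ← eq_gen g]
    exact congrArg (fun e : Equiv.Perm (Fin 4) => e m) h
  exact MulEquiv.ext fun x => by rw [eq_gen f, eq_gen g, hc]


/-- The automorphism group of the quaternion group of order 8 is isomorphic to the symmetric group of degree 4. -/
theorem result : Nonempty (MulAut (QuaternionGroup 2) ≃* Equiv.Perm (Fin 4)) := by
  have : Finite (MulAut Q) := Finite.of_injective toPerm toPerm_injective
  let mkAut : {p : Q × Q // admissible p} → MulAut Q := fun p =>
    MulEquiv.ofBijective (MonoidHom.mk' (gen p.1) (gen_hom p.1 p.2))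
      (Finite.injective_iff_bijective.mp (gen_inj p.1 p.2))
  have hinj : Function.Injective mkAut := fun p q h => Subtype.ext (by
    have hp : ∀ r : {p : Q × Q // admissible p}, code (mkAut r) = r.1 := by
      intro r
      have key : ∀ r : Q × Q, admissible r → (gen r (QuaternionGroup.a 1), gen r (QuaternionGroup.xa 0)) = r := by
        decide +kernel
      exact key r.1 r.2
    rw [← hp p, ← hp q, h])
  have h24 : Nat.card (Equiv.Perm (Fin 4)) ≤ Nat.card (MulAut Q) := by
    rw [Nat.card_perm, Nat.card_fin]
    calc (4 : ℕ).factorial = Nat.card {p : Q × Q // admissible p} := by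
          rw [Nat.card_eq_fintype_card, admissible_card]; rfl
      _ ≤ _ := Nat.card_le_card_of_injective mkAut hinj
  exact ⟨MulEquiv.ofBijective toPerm ((Nat.bijective_iff_injective_and_card toPerm).mpr
    ⟨toPerm_injective, le_antisymm (Nat.card_le_card_of_injective toPerm toPerm_injective) h24⟩)⟩

end Cfsg.Agent.S3742
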