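import Cfsg.Statements.S1327
import Cfsg.Agent.Components.CharP

set_option autoImplicit false
open Cfsg

namespace Cfsg.Agent.S1327

/-- A finite group X is p-constrained if and only if its p-layer L_{p'}(X) is trivial (equivalently X / O_{p'}(X) has trivial layer). -/
theorem result {X : Type*} [Group X] [Finite X] (p : ℕ) [Fact p.Prime] : Cfsg.IsPConstrained p X ↔ Cfsg.pLayer p X = ⊥ := by
  open Subgroup Cfsg.Lib.Components in
  exact by
    set N := pPrimeCore p X with hN
    set q := QuotientGroup.mk' N
    have hO : pPrimeCore p (X ⧸ N) = ⊥ := pPrimeCore_quotient_eq_bot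
    have hpl : Cfsg.pLayer p X = ⊥ ↔ CharPGroup p (X ⧸ N) := by
      rw [Cfsg.Lib.Components.charP_iff]
      constructor
      · intro h
        exact ⟨hO, by rw [← pLayer_map_q, h, Subgroup.map_bot]⟩
      · intro h
        rw [← le_bot_iff]
        exact sSup_le fun K hK => (comp_ne_bot hK.2.1 (le_bot_iff.mp (h.2 ▸ comp_le_layer hK.2.1))).elim
    rw [hpl]
    have hM : pPrimePCore p X = (pCore p (X ⧸ N)).comap q := rfl
    set M := pPrimePCore p X
    have hMn : N ≤ M := by
      intro x hx
      rw [hM, mem_comap, show q x = 1 from (QuotientGroup.eq_one_iff x).mpr hx]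
      exact one_mem _
    -- a Sylow subgroup of `O_{p',p}` maps onto `O_p` of the quotient
    have hsyl : ∀ P : Sylow p ↥M, (((P : Subgroup ↥M).map M.subtype).map q) = pCore p (X ⧸ N) := by
      intro P
      set P' := (P : Subgroup ↥M).map M.subtype
      have hle : P'.map q ≤ pCore p (X ⧸ N) := by
        rw [map_le_iff_le_comap]; exact map_subtype_le _
      refine Subgroup.eq_of_le_of_card_ge hle ?_
      have hm : M.map q = pCore p (X ⧸ N) := by
        rw [hM, map_comap_eq_self_of_surjective (QuotientGroup.mk'_surjective _)]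
      have hd : (P'.map q).relIndex (M.map q) ∣ (P : Subgroup ↥M).index := by
        rw [← relIndex_comap, comap_map_eq, QuotientGroup.ker_mk']
        refine (relIndex_dvd_of_le_left M (le_sup_left : P' ≤ P' ⊔ N)).trans ?_
        show (P'.subgroupOf M).index ∣ _
        rw [show P'.subgroupOf M = (P : Subgroup ↥M) from
          comap_map_eq_self_of_injective M.subtype_injective _]
      have h1 : (⊥ : Subgroup (X ⧸ N)).relIndex (P'.map q) * (P'.map q).relIndex (M.map q)
          = (⊥ : Subgroup (X ⧸ N)).relIndex (M.map q) :=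
        relIndex_mul_relIndex _ _ _ bot_le (hm ▸ hle)
      rw [relIndex_bot_left, relIndex_bot_left] at h1
      have h2 : (P'.map q).relIndex (M.map q) = 1 := by
        obtain ⟨k, hk⟩ := IsPGroup.iff_card.mp ((isPGroup_pCore (G := X ⧸ N) p).to_le (le_of_eq hm))
        obtain ⟨j, hj, hj2⟩ := (Nat.dvd_prime_pow (Fact.out : p.Prime)).mp (hk ▸ h1 ▸ Dvd.intro_left _ rfl :
          (P'.map q).relIndex (M.map q) ∣ p ^ k)
        rcases j with _ | j
        · simpa using hj2
        · exact absurd ((dvd_pow_self p j.succ_ne_zero).trans (hj2 ▸ hd)) P.not_dvd_index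
      rw [h2, mul_one, hm] at h1
      exact h1.ge
    constructor
    · intro hc
      obtain ⟨P⟩ := (inferInstance : Nonempty (Sylow p ↥M))
      have hPp : IsPGroup p ↥((P : Subgroup ↥M).map M.subtype) := P.2.map _
      set P' := (P : Subgroup ↥M).map M.subtype
      intro y hy
      have hy' : y ∈ normalizer ((P'.map q : Subgroup (X ⧸ N)) : Set (X ⧸ N)) := by
        rw [hsyl P]; exact centralizer_le_normalizer _ hy
      rw [← normalizer_map_of_coprime_ker (QuotientGroup.mk'_surjective N)
        (by rw [QuotientGroup.ker_mk']; exact coprime_card_pPrimeCore p) hPp] at hy'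
      obtain ⟨g, hg, rfl⟩ := hy'
      have hgc : g ∈ centralizer (P' : Set X) := by
        rw [mem_centralizer_iff]
        intro u hu
        have h1 : g * u * g⁻¹ * u⁻¹ ∈ P' := mul_mem ((mem_normalizer_iff.mp hg u).mp hu) (inv_mem hu)
        have h2 : q u * q g = q g * q u :=
          mem_centralizer_iff.mp hy (q u) (hsyl P ▸ mem_map_of_mem q hu)
        have h3 : g * u * g⁻¹ * u⁻¹ ∈ N := by
          refine (QuotientGroup.eq_one_iff _).mp ?_
          show q (g * u * g⁻¹ * u⁻¹) = 1
          rw [map_mul, map_mul, map_mul, map_inv, map_inv, ← h2]; group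
        have h4 : g * u * g⁻¹ * u⁻¹ ∈ (⊥ : Subgroup X) := by
          rw [← coprime_pGroup_disjoint hPp (coprime_card_pPrimeCore (G := X) p)]
          exact ⟨h1, h3⟩
        rw [mem_bot] at h4
        calc u * g = (g * u * g⁻¹ * u⁻¹)⁻¹ * (g * u) := by group
          _ = g * u := by rw [h4, inv_one, one_mul]
      have := hc P hgc
      exact this
    · intro hc P g hg
      show q g ∈ pCore p (X ⧸ N)
      apply hc
      rw [← hsyl P, mem_centralizer_iff]
      rintro _ ⟨u, hu, rfl⟩
      rw [← map_mul, ← map_mul, mem_centralizer_iff.mp hg u hu]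

end Cfsg.Agent.S1327
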