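import Cfsg.Statements.S1293
import Cfsg.Agent.Components.LocalBalance

set_option autoImplicit false
open Cfsg

namespace Cfsg.Agent.S1293

/-- Let G be finite with L_{p'}(G) = 1, and H = N_G(P) for a nontrivial p-subgroup P. Then L_{p'}(H) = 1 and O_{p'}(H) ≤ O_{p'}(G). -/
theorem result {G : Type*} [Group G] [Finite G] (p : ℕ) [Fact p.Prime] (hL : Cfsg.pLayer p G = ⊥) (P : Subgroup G) (hP : IsPGroup p ↥P) (hP1 : P ≠ ⊥) : Cfsg.pLayer p ↥(Subgroup.normalizer (P : Set G)) = ⊥ ∧ (Cfsg.pPrimeCore p ↥(Subgroup.normalizer (P : Set G))).map (Subgroup.normalizer (P : Set G)).subtype ≤ Cfsg.pPrimeCore p G := by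
  open Subgroup Cfsg.Lib.Components in
  exact by
    set q := QuotientGroup.mk' (pPrimeCore p G)
    set W := pCore p (G ⧸ pPrimeCore p G)
    have hO : pPrimeCore p (G ⧸ pPrimeCore p G) = ⊥ := pPrimeCore_quotient_eq_bot
    have hE : layer (G ⧸ pPrimeCore p G) = ⊥ := by rw [← pLayer_map_q, hL, Subgroup.map_bot]
    have hCW : centralizer (W : Set (G ⧸ pPrimeCore p G)) ≤ W := by
      have h := centralizer_genFitting_le (G := G ⧸ pPrimeCore p G)
      rwa [genFitting_eq_pCore_iff.mpr ⟨hO, hE⟩] at h
    have hker : (Nat.card q.ker).Coprime p := by rw [QuotientGroup.ker_mk']; exact coprime_card_pPrimeCore p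
    set H := normalizer (P : Set G) with hH
    have hPq : IsPGroup p ↥(P.map q) := hP.map q
    have hHn : H.map q = normalizer ((P.map q : Subgroup _) : Set (G ⧸ pPrimeCore p G)) :=
      normalizer_map_of_coprime_ker (QuotientGroup.mk'_surjective _) hker hP
    have hcore : (pPrimeCore p ↥H).map H.subtype ≤ pPrimeCore p G := by
      have h1 := (local_core_map_le (QuotientGroup.mk'_surjective _) hker hP).trans
        (local_pPrimeCore_centralizes hPq (isPGroup_pCore p))
      have h2 := coprime_pGroup_disjoint (A := ((pPrimeCore p ↥H).map H.subtype).map q)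
        (B := ((pPrimeCore p ↥H).map H.subtype).map q) ((isPGroup_pCore p).to_le (h1.trans hCW))
        (Nat.Coprime.coprime_dvd_left ((card_map_dvd _ _).trans (card_map_dvd _ _)) (coprime_card_pPrimeCore p))
      rwa [inf_idem, Subgroup.map_eq_bot_iff, QuotientGroup.ker_mk'] at h2
    refine ⟨?_, hcore⟩
    rw [← le_bot_iff]
    refine sSup_le fun K hK => ?_
    exfalso
    -- the image of `K` is a `p`-group, hence trivial
    set R := (pCore p ↥(normalizer ((P.map q : Subgroup _) : Set (G ⧸ pPrimeCore p G)))).map
      (normalizer ((P.map q : Subgroup _) : Set (G ⧸ pPrimeCore p G))).subtype with hR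
    have hRle : R ≤ H.map q := hHn ▸ map_subtype_le _
    have hRn : H.map q ≤ normalizer (R : Set (G ⧸ pPrimeCore p G)) := by
      rw [hHn, hR]
      conv_lhs => rw [← range_subtype (normalizer ((P.map q : Subgroup _) : Set (G ⧸ pPrimeCore p G))), MonoidHom.range_eq_map]
      exact le_trans (Subgroup.map_mono (normalizer_eq_top _).ge) (le_normalizer_map _)
    -- preimage of `R` in `H`
    set J : Subgroup ↥H := R.comap (q.comp H.subtype) with hJ
    haveI : J.Normal := by
      refine ⟨fun j hj g => ?_⟩
      show q ((g : G) * j * (g : G)⁻¹) ∈ R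
      rw [map_mul, map_mul, map_inv]
      exact (mem_normalizer_iff.mp (hRn (mem_map_of_mem q g.2)) _).mp hj
    have hJK : ⁅K, J⁆ ≤ pPrimeCore p ↥H := by
      rcases pcomp_le_or_commute hK (inferInstance : J.Normal).isSubnormal with h | h
      · exfalso
        have h2 : (K.map (q.comp H.subtype)) ≤ R := (Subgroup.map_mono h).trans (map_comap_le _ _)
        have h3 : IsPGroup p ↥(K.map (q.comp H.subtype)) := ((isPGroup_pCore p).map _).to_le h2
        haveI := h3.isNilpotent
        have h4 : K.map (q.comp H.subtype) = ⊥ := by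
          by_contra hne
          haveI : Nontrivial ↥(K.map (q.comp H.subtype)) := (Subgroup.nontrivial_iff_ne_bot _).mpr hne
          haveI : Group.IsPerfect ↥(K.map (q.comp H.subtype)) :=
            Subgroup.isPerfect_iff.mpr (by rw [← map_commutator, pcomp_perfect hK])
          exact Group.IsPerfect.not_isNilpotent ↥(K.map (q.comp H.subtype)) inferInstance
        rw [Subgroup.map_eq_bot_iff] at h4
        refine pcomp_not_le_core hK (fun x hx => ?_)
        have h5 : (x : G) ∈ pPrimeCore p G := (QuotientGroup.eq_one_iff _).mp (h4 hx)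
        refine le_pPrimeCore (N := (pPrimeCore p G).subgroupOf H) ?_ h5
        rw [← inf_subgroupOf_right, card_subgroupOf_of_le inf_le_right]
        exact (coprime_card_pPrimeCore p).coprime_dvd_left (Subgroup.card_dvd_of_le inf_le_left)
      · exact h
    have hc : (K.map H.subtype).map q ≤ centralizer (R : Set (G ⧸ pPrimeCore p G)) := by
      rw [← commutator_eq_bot_iff_le_centralizer, ← le_bot_iff]
      have hRJ : (J.map H.subtype).map q = R := by
        rw [map_map, hJ, map_comap_eq, inf_eq_right, MonoidHom.range_eq_map, ← map_map,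
          ← MonoidHom.range_eq_map, range_subtype]
        exact hRle
      rw [← hRJ, ← map_commutator, ← map_commutator]
      refine (Subgroup.map_mono (Subgroup.map_mono hJK)).trans ((Subgroup.map_mono hcore).trans ?_)
      rw [QuotientGroup.map_mk'_self]
    have hperf : ⁅(K.map H.subtype).map q, (K.map H.subtype).map q⁆ = (K.map H.subtype).map q := by
      rw [← map_commutator, ← map_commutator, pcomp_perfect hK]
    have h6 := (perfect_centralizes hPq (isPGroup_pCore p) hperf hc).trans hCW
    haveI := ((isPGroup_pCore p).to_le h6).isNilpotent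
    have h7 : (K.map H.subtype).map q = ⊥ := by
      by_contra hne
      haveI : Nontrivial ↥((K.map H.subtype).map q) := (Subgroup.nontrivial_iff_ne_bot _).mpr hne
      haveI : Group.IsPerfect ↥((K.map H.subtype).map q) := Subgroup.isPerfect_iff.mpr hperf
      exact Group.IsPerfect.not_isNilpotent ↥((K.map H.subtype).map q) inferInstance
    rw [map_map, Subgroup.map_eq_bot_iff] at h7
    refine pcomp_not_le_core hK (fun x hx => ?_)
    have h5 : (x : G) ∈ pPrimeCore p G := (QuotientGroup.eq_one_iff _).mp (h7 hx)
    refine le_pPrimeCore (N := (pPrimeCore p G).subgroupOf H) ?_ h5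
    rw [← inf_subgroupOf_right, card_subgroupOf_of_le inf_le_right]
    exact (coprime_card_pPrimeCore p).coprime_dvd_left (Subgroup.card_dvd_of_le inf_le_left)

end Cfsg.Agent.S1293
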