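import Cfsg.Statements.S0945
import Mathlib
-- import your own Cfsg.Agent.* helpers here

set_option autoImplicit false
open Cfsg

namespace Cfsg.Agent.S0945

set_option linter.unusedSectionVars false

/-- Let P be a Sylow 2-subgroup of the finite group G isomorphic to Z/2^m × Z/2^m with m ≥ 1. Then (i) the index of C_G(P) in N_G(P) is 1 or 3, and (ii) if it is not 1, then for every z ≠ 1 in P, C_G(z) ∩ N_G(P) = C_G(P). -/
theorem result {G : Type*} [Group G] [Finite G] (P : Sylow 2 G) (m : ℕ) (hm : 1 ≤ m) (e : (P : Subgroup G) ≃* Multiplicative (ZMod (2 ^ m) × ZMod (2 ^ m))) : ((Subgroup.centralizer (P : Set G)).relIndex (Subgroup.normalizer (P : Set G)) = 1 ∨ (Subgroup.centralizer (P : Set G)).relIndex (Subgroup.normalizer (P : Set G)) = 3) ∧ ((Subgroup.centralizer (P : Set G)).relIndex (Subgroup.normalizer (P : Set G)) ≠ 1 → ∀ z ∈ (P : Subgroup G), z ≠ 1 → Subgroup.centralizer ({z} : Set G) ⊓ Subgroup.normalizer (P : Set G) = Subgroup.centralizer (P : Set G)) := by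
  classical
  haveI : Fact (Nat.Prime 2) := ⟨Nat.prime_two⟩
  set C := Subgroup.centralizer (P : Set G) with hC
  set N := Subgroup.normalizer (P : Set G) with hN
  have hab : ∀ a b : (P : Subgroup G), a * b = b * a := fun a b => e.injective (by
    rw [map_mul, map_mul, mul_comm])
  have hPC : (P : Subgroup G) ≤ C := fun a ha b hb => congrArg Subtype.val (hab ⟨b, hb⟩ ⟨a, ha⟩)
  have hCN : C ≤ N := Subgroup.centralizer_le_normalizer _
  haveI hnorm : (C.subgroupOf N).Normal := ⟨fun c hc n => by
    rw [Subgroup.mem_subgroupOf] at hc ⊢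
    intro b hb
    have hb' : (n : G)⁻¹ * b * n ∈ (P : Subgroup G) := by
      have := (Subgroup.mem_normalizer_iff.1 (inv_mem n.2) b).1 hb
      simpa using this
    have h1 := congrArg (fun v => (n : G) * v * (n : G)⁻¹) (hc _ hb')
    simpa [mul_assoc] using h1⟩
  have hodd : Odd (C.relIndex N) := by
    rw [Nat.odd_iff, ← Nat.two_dvd_ne_zero]
    intro h2
    refine P.not_dvd_index (h2.trans ((Subgroup.relIndex_dvd_of_le_left N hPC).trans ?_))
    have : (P : Subgroup G) ≤ N := Subgroup.le_normalizer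
    exact ⟨_, (Subgroup.relIndex_mul_index this).symm⟩
  have hpow : ∀ n ∈ N, n ^ C.relIndex N ∈ C := fun n hn => by
    have := (C.subgroupOf N).pow_index_mem ⟨n, hn⟩
    rw [Subgroup.mem_subgroupOf] at this
    simpa [Subgroup.relIndex] using this
  -- fixing all involutions means centralising
  have hA : ∀ n ∈ N, (∀ t ∈ (P : Subgroup G), t ^ 2 = 1 → n * t * n⁻¹ = t) → n ∈ C := by
    intro n hn hfix
    have hall : ∀ j : ℕ, ∀ a ∈ (P : Subgroup G), a ^ 2 ^ j = 1 → n * a * n⁻¹ = a := by
      intro j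
      induction j with
      | zero => intro a _ h; rw [pow_zero, pow_one] at h; simp [h]
      | succ j ih =>
        intro a ha h
        have h2 : n * a ^ 2 * n⁻¹ = a ^ 2 := ih _ (pow_mem ha 2) (by rw [← pow_mul, ← pow_succ']; exact h)
        set d := n * a * n⁻¹ * a⁻¹ with hd
        have hna : n * a * n⁻¹ ∈ (P : Subgroup G) := (Subgroup.mem_normalizer_iff.1 hn a).1 ha
        have hdP : d ∈ (P : Subgroup G) := mul_mem hna (inv_mem ha)
        have hd2 : d ^ 2 = 1 := by
          have hcm : Commute (n * a * n⁻¹) a⁻¹ :=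
            congrArg Subtype.val (hab ⟨_, hna⟩ ⟨_, inv_mem ha⟩)
          rw [hd, hcm.mul_pow, conj_pow, h2, inv_pow, mul_inv_cancel]
        have hdn : n * d * n⁻¹ = d := hfix d hdP hd2
        have hit : ∀ k : ℕ, n ^ k * a * (n ^ k)⁻¹ = d ^ k * a := by
          intro k
          induction k with
          | zero => simp
          | succ k ihk =>
            calc n ^ (k + 1) * a * (n ^ (k + 1))⁻¹ = n * (n ^ k * a * (n ^ k)⁻¹) * n⁻¹ := by
                  rw [pow_succ']; group
              _ = (n * d * n⁻¹) ^ k * (n * a * n⁻¹) := by rw [ihk, conj_pow]; group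
              _ = _ := by rw [hdn, show n * a * n⁻¹ = d * a by rw [hd]; group, ← mul_assoc, ← pow_succ]
        obtain ⟨q, hq⟩ := hodd
        have h3 := hit (C.relIndex N)
        have h4 : n ^ C.relIndex N * a * (n ^ C.relIndex N)⁻¹ = a := by
          rw [← hpow n hn a ha]; group
        rw [h4] at h3
        have h5 : d ^ C.relIndex N = 1 := mul_right_cancel (b := a) (by rw [one_mul]; exact h3.symm)
        rw [hq, pow_succ, pow_mul, hd2, one_pow, one_mul] at h5
        rw [hd] at h5
        exact mul_inv_eq_one.1 h5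
    intro a ha
    obtain ⟨j, hj⟩ := P.2 ⟨a, ha⟩
    have := hall j a ha (by simpa using congrArg Subtype.val hj)
    calc a * n = n * a * n⁻¹ * n := by rw [this]
      _ = n * a := by group
  -- action on the solutions of `t ^ 2 = 1`
  let I := {t : G // t ∈ (P : Subgroup G) ∧ t ^ 2 = 1}
  haveI : Fintype I := Fintype.ofFinite I
  letI : MulAction N I :=
    { smul := fun n t => ⟨(n : G) * t.1 * (n : G)⁻¹, (Subgroup.mem_normalizer_iff.1 n.2 _).1 t.2.1,
        by rw [conj_pow, t.2.2, mul_one, mul_inv_cancel]⟩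
      one_smul := fun t => Subtype.ext (by
        change ((1 : N) : G) * t.1 * ((1 : N) : G)⁻¹ = t.1; simp)
      mul_smul := fun a b t => Subtype.ext (by
        change ((a * b : N) : G) * t.1 * ((a * b : N) : G)⁻¹ = _ * (_ * _ * _) * _; simp [mul_assoc]) }
  let f := MulAction.toPermHom N I
  have hker : f.ker = C.subgroupOf N := by
    ext n
    rw [MonoidHom.mem_ker, Subgroup.mem_subgroupOf]
    constructor
    · intro h
      exact hA n n.2 fun t ht h2 => congrArg Subtype.val (Equiv.ext_iff.1 h (⟨t, ht, h2⟩ : I))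
    · intro h
      refine Equiv.ext fun t => Subtype.ext ?_
      show (n : G) * t.1 * (n : G)⁻¹ = t.1
      rw [← h t.1 t.2.1]; group
  have hI : Nat.card I ≤ 4 := by
    let Z := {a : Multiplicative (ZMod (2 ^ m)) // a ^ 2 = 1}
    have hZ : Nat.card Z ≤ 2 := by
      rw [Nat.card_eq_fintype_card, Fintype.card_subtype]
      exact IsCyclic.card_pow_eq_one_le (by norm_num)
    let g : I → Z × Z := fun t =>
      (⟨Multiplicative.ofAdd (Multiplicative.toAdd (e ⟨t.1, t.2.1⟩)).1, by
        have h1 : e ⟨t.1, t.2.1⟩ ^ 2 = 1 := by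
          rw [← map_pow, show (⟨t.1, t.2.1⟩ : (P : Subgroup G)) ^ 2 = 1 from Subtype.ext t.2.2, map_one]
        exact congrArg (fun v => Multiplicative.ofAdd (Multiplicative.toAdd v).1) h1⟩,
       ⟨Multiplicative.ofAdd (Multiplicative.toAdd (e ⟨t.1, t.2.1⟩)).2, by
        have h1 : e ⟨t.1, t.2.1⟩ ^ 2 = 1 := by
          rw [← map_pow, show (⟨t.1, t.2.1⟩ : (P : Subgroup G)) ^ 2 = 1 from Subtype.ext t.2.2, map_one]
        exact congrArg (fun v => Multiplicative.ofAdd (Multiplicative.toAdd v).2) h1⟩)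
    have hg : Function.Injective g := fun a b h => by
      have h1 := congrArg (fun w : Z × Z => Multiplicative.toAdd w.1.1) h
      have h2 := congrArg (fun w : Z × Z => Multiplicative.toAdd w.2.1) h
      have h3 : e ⟨a.1, a.2.1⟩ = e ⟨b.1, b.2.1⟩ := Prod.ext h1 h2
      exact Subtype.ext (Subtype.mk.inj (e.injective h3))
    refine (Nat.card_le_card_of_injective g hg).trans ?_
    rw [Nat.card_prod]
    exact Nat.mul_le_mul hZ hZ
  have hrel : C.relIndex N ∣ Nat.factorial (Nat.card I) := by
    rw [Subgroup.relIndex, ← hker, Subgroup.index_ker, ← Nat.card_perm]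
    exact Subgroup.card_subgroup_dvd_card f.range
  have h13 : C.relIndex N = 1 ∨ C.relIndex N = 3 := by
    have h24 : C.relIndex N ∣ 24 := hrel.trans (Nat.factorial_dvd_factorial hI)
    have hle := Nat.le_of_dvd (by norm_num) h24
    rw [Nat.odd_iff] at hodd
    generalize C.relIndex N = k at h24 hle hodd ⊢
    interval_cases k <;> omega
  refine ⟨h13, fun hne z hz hz1 => ?_⟩
  have h3 : C.relIndex N = 3 := h13.resolve_left hne
  refine le_antisymm ?_ (le_inf (fun c hc => Subgroup.mem_centralizer_singleton_iff.2 (hc z hz).symm) hCN)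
  rintro n ⟨hnz, hnN⟩
  -- an involution power of z
  obtain ⟨j, hj⟩ := P.2 ⟨z, hz⟩
  have hz2 : ∃ t ∈ Subgroup.zpowers z, t ≠ 1 ∧ t ^ 2 = 1 := by
    haveI : Fact (Nat.Prime 2) := ⟨Nat.prime_two⟩
    have hdv : 2 ∣ orderOf z := by
      obtain ⟨i, _, hi⟩ := (Nat.dvd_prime_pow Nat.prime_two).1
        (orderOf_dvd_of_pow_eq_one (show z ^ 2 ^ j = 1 by simpa using congrArg Subtype.val hj))
      rcases Nat.eq_zero_or_pos i with rfl | hi0
      · exact absurd (orderOf_eq_one_iff.1 (by simpa using hi)) hz1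
      · exact hi ▸ dvd_pow_self 2 hi0.ne'
    refine ⟨z ^ (orderOf z / 2), pow_mem (Subgroup.mem_zpowers z) _, ?_, ?_⟩
    · intro h
      have := orderOf_pow_orderOf_div (orderOf_pos z).ne' hdv
      rw [h, orderOf_one] at this
      omega
    · rw [← pow_mul, Nat.div_mul_cancel hdv, pow_orderOf_eq_one]
  obtain ⟨t, htz, ht1, ht2⟩ := hz2
  obtain ⟨k, rfl⟩ := htz
  have htP : z ^ k ∈ (P : Subgroup G) := zpow_mem hz k
  have hfixt : n * z ^ k * n⁻¹ = z ^ k := by
    rw [← conj_zpow, show n * z * n⁻¹ = z by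
      rw [Subgroup.mem_centralizer_singleton_iff.1 hnz]; group]
  set σ := f ⟨n, hnN⟩ with hσ
  have hσ3 : σ ^ 3 = 1 := by
    rw [hσ, ← map_pow]
    have : (⟨n, hnN⟩ : N) ^ 3 ∈ f.ker := by
      rw [hker, Subgroup.mem_subgroupOf]
      have := hpow n hnN
      rw [h3] at this
      exact this
    exact this
  let one' : I := ⟨1, one_mem _, one_pow 2⟩
  let t' : I := ⟨z ^ k, htP, ht2⟩
  have hne' : one' ≠ t' := fun h => ht1 (congrArg Subtype.val h).symm
  have hsupp : σ.support.card ≤ 2 := by
    have hsub : σ.support ⊆ Finset.univ \ {one', t'} := by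
      intro s hs
      rw [Equiv.Perm.mem_support] at hs
      simp only [Finset.mem_sdiff, Finset.mem_univ, true_and, Finset.mem_insert, Finset.mem_singleton]
      rintro (rfl | rfl)
      · exact hs (Subtype.ext (show n * 1 * n⁻¹ = 1 by simp))
      · exact hs (Subtype.ext hfixt)
    refine (Finset.card_le_card hsub).trans ?_
    rw [Finset.card_sdiff_of_subset (Finset.subset_univ _), Finset.card_univ,
      Finset.card_pair hne', ← Nat.card_eq_fintype_card]
    omega
  have hσ1 : σ = 1 := by
    by_contra h1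
    have hc2 : σ.support.card = 2 := by
      have := Equiv.Perm.one_lt_card_support_of_ne_one h1
      omega
    obtain ⟨u, v, huv, hswap⟩ := Equiv.Perm.card_support_eq_two.1 hc2
    rw [hswap, pow_succ, pow_two, Equiv.swap_mul_self, one_mul] at hσ3
    exact h1 (hswap.trans hσ3)
  have : (⟨n, hnN⟩ : N) ∈ f.ker := hσ1
  rw [hker, Subgroup.mem_subgroupOf] at this
  exact this

end Cfsg.Agent.S0945
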