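import Cfsg.Statements.S0949
import Cfsg.Agent.Blocks.FrobeniusThree
import Cfsg.Agent.S0945
-- import your own Cfsg.Agent.* helpers here

set_option autoImplicit false
open Cfsg

namespace Cfsg.Agent.S0949

set_option linter.unusedSectionVars false

open Cfsg.Lib.Blocks Cfsg.Lib.Chars

lemma int_descent : ∀ n : ℕ, ∀ a b c : ℤ, a.natAbs + b.natAbs ≤ n → Even c →
    a ^ 2 - a * b + b ^ 2 + c * (a * b * (a + b)) = 0 → a = 0 ∧ b = 0 := by
  intro n
  induction n using Nat.strong_induction_on with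
  | _ n ih =>
    intro a b c hn hc h
    obtain ⟨k, rfl⟩ := hc
    have hpar : Even a ∧ Even b := by
      have h' : ((a : ZMod 2)) ^ 2 - (a : ZMod 2) * (b : ZMod 2) + (b : ZMod 2) ^ 2 = 0 := by
        have e := congrArg (fun z : ℤ => (z : ZMod 2)) h
        push_cast at e
        have e2 : (k : ZMod 2) + k = 0 := CharTwo.add_self_eq_zero _
        rw [e2, zero_mul, add_zero] at e
        exact e
      have key : ∀ A B : ZMod 2, A ^ 2 - A * B + B ^ 2 = 0 → A = 0 ∧ B = 0 := by decide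
      obtain ⟨hA, hB⟩ := key _ _ h'
      rw [ZMod.intCast_eq_zero_iff_even] at hA hB
      exact ⟨hA, hB⟩
    obtain ⟨⟨a', rfl⟩, ⟨b', rfl⟩⟩ := hpar
    by_cases h0 : a' = 0 ∧ b' = 0
    · omega
    have h2 : a' ^ 2 - a' * b' + b' ^ 2 + ((k + k) * 2) * (a' * b' * (a' + b')) = 0 := by
      refine mul_left_cancel₀ (by norm_num : (4 : ℤ) ≠ 0) ?_
      linear_combination h
    obtain ⟨e1, e2⟩ := ih (a'.natAbs + b'.natAbs) (by omega) a' b' _ le_rfl
      ⟨k + k, by ring⟩ h2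
    exact absurd ⟨e1, e2⟩ h0

lemma degrees_eq_one {X Y : ℤ} (hX : 16 ∣ X - 1) (hY : 16 ∣ Y - 1)
    (h : (X * Y + X + Y) * (1 + X + Y) = 9 * (X * Y)) : X = 1 ∧ Y = 1 := by
  obtain ⟨a, ha⟩ := hX
  obtain ⟨b, hb⟩ := hY
  obtain rfl : X = 16 * a + 1 := by omega
  obtain rfl : Y = 16 * b + 1 := by omega
  obtain ⟨rfl, rfl⟩ := int_descent _ a b 8 le_rfl ⟨4, rfl⟩ (by
    refine mul_left_cancel₀ (by norm_num : (512 : ℤ) ≠ 0) ?_
    linear_combination h)
  simp

open Cfsg.Lib.Blocks Cfsg.Lib.Chars in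
lemma dvd_deg_sub {G : Type*} [Group G] [Fintype G] {p : ℕ} {P : Sylow p G}
    (χ : Cfsg.IrrCharacter G) {a : ℤ}
    (hval : ∀ y : (P : Subgroup G), y ≠ 1 → (χ : G → ℂ) (y : G) = a) :
    (Nat.card (P : Subgroup G) : ℤ) ∣ (deg (χ : G → ℂ) : ℤ) - a := by
  classical
  haveI := Fintype.ofFinite (P : Subgroup G)
  obtain ⟨k, hk⟩ := classInner_char_nat (IsCharacter.restrict (isCharacter_of_irr χ.2) (P : Subgroup G))
    (isCharacter_linear (1 : (P : Subgroup G) →* ℂˣ))
  rw [classInner_def, inv_mul_eq_iff_eq_mul₀ (Nat.cast_ne_zero.2 Nat.card_pos.ne'),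
    ← Finset.add_sum_erase _ _ (Finset.mem_univ 1),
    Finset.sum_congr rfl fun y hy => show _ = (a : ℂ) by
      rw [MonoidHom.one_apply, Units.val_one, map_one, mul_one]
      exact hval y (Finset.ne_of_mem_erase hy),
    Finset.sum_const, Finset.card_erase_of_mem (Finset.mem_univ _), Finset.card_univ, nsmul_eq_mul,
    MonoidHom.one_apply, Units.val_one, map_one, mul_one, OneMemClass.coe_one,
    irr_apply_one_eq_deg, ← Nat.card_eq_fintype_card, Nat.cast_sub Nat.card_pos, Nat.cast_one] at hk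
  refine ⟨(k : ℤ) - a, ?_⟩
  apply Int.cast_injective (α := ℂ)
  push_cast
  linear_combination hk

/-- Let the finite group G have a Sylow 2-subgroup P isomorphic to Z/2^m × Z/2^m with m ≥ 2, and suppose G has no nontrivial normal subgroup of odd order. Then P is normal in G, C_G(P) = P, and the index of P is 1 or 3. -/
theorem result {G : Type*} [Group G] [Finite G] (P : Sylow 2 G) (m : ℕ) (hm : 2 ≤ m) (e : (P : Subgroup G) ≃* Multiplicative (ZMod (2 ^ m) × ZMod (2 ^ m))) (hO : ∀ N : Subgroup G, N.Normal → Odd (Nat.card N) → N = ⊥) : (P : Subgroup G).Normal ∧ Subgroup.centralizer (P : Set G) = (P : Subgroup G) ∧ ((P : Subgroup G).index = 1 ∨ (P : Subgroup G).index = 3) := by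
  classical
  letI := Fintype.ofFinite G
  haveI : Fact (Nat.Prime 2) := ⟨Nat.prime_two⟩
  haveI := Fintype.ofFinite (P : Subgroup G)
  obtain ⟨h13, hfrob⟩ := Cfsg.Agent.S0945.result P m (by omega) e
  have hcomm : ∀ a ∈ (P : Subgroup G), ∀ b ∈ (P : Subgroup G), a * b = b * a := fun a ha b hb =>
    congrArg Subtype.val (show (⟨a, ha⟩ : (P : Subgroup G)) * ⟨b, hb⟩ = ⟨b, hb⟩ * ⟨a, ha⟩ from
      e.injective (by rw [map_mul, map_mul, mul_comm]))
  have hPC : (P : Subgroup G) ≤ Subgroup.centralizer ((P : Subgroup G) : Set G) :=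
    fun a ha b hb => hcomm b hb a ha
  rcases h13 with h1 | h3
  · -- a normal complement
    have hNC : Subgroup.normalizer (P : Set G) ≤ Subgroup.centralizer (P : Set G) :=
      Subgroup.relIndex_eq_one.1 h1
    have hK := MonoidHom.ker_transferSylow_isComplement' P hNC
    obtain ⟨hcop, -⟩ := Cfsg.Lib.Transfer.complement_props hK
    have hb : (MonoidHom.transferSylow P hNC).ker = ⊥ :=
      hO _ inferInstance (Nat.coprime_two_right.1 hcop)
    rw [hb] at hK
    have htop : (P : Subgroup G) = ⊤ := Subgroup.isComplement'_bot_left.1 hK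
    refine ⟨htop ▸ inferInstance, le_antisymm (htop ▸ le_top) hPC, Or.inl ?_⟩
    rw [htop, Subgroup.index_top]
  have hF : FrobeniusNormalizer P := ⟨hcomm, fun y hy hy1 => (hfrob (by omega) y hy hy1).le⟩
  have hm3 : frobIndex P = 3 := h3
  have hcardP : Nat.card (P : Subgroup G) = 2 ^ m * 2 ^ m := by
    rw [Nat.card_congr e.toEquiv, Nat.card_congr Multiplicative.toAdd, Nat.card_prod, Nat.card_zmod]
  have h16 : 16 ∣ Nat.card (P : Subgroup G) := by
    rw [hcardP, ← pow_add, show (16 : ℕ) = 2 ^ 4 by norm_num]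
    exact pow_dvd_pow 2 (by omega)
  have hlt : 4 < Nat.card (P : Subgroup G) :=
    lt_of_lt_of_le (by norm_num) (Nat.le_of_dvd Nat.card_pos h16)
  obtain ⟨M, hM⟩ := exists_isPModular Nat.prime_two
  obtain ⟨ζ, a, δ, hD⟩ := exists_threeData hM hF hm3 hlt
  obtain ⟨χ₂, χ₃, h23, h2, h3', hX⟩ := hD.exists_pair hM
  have hX2 : χ₂ ∈ frobOrd M ζ := by rw [hX]; simp
  have hX3 : χ₃ ∈ frobOrd M ζ := by rw [hX]; simp
  obtain ⟨t, ht⟩ := exists_prime_orderOf_dvd_card' (G := (P : Subgroup G)) 2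
    ((by norm_num : (2 : ℕ) ∣ 16).trans h16)
  have ht' : orderOf (t : G) = 2 := by rw [Subgroup.orderOf_coe, ht]
  have ht1 : (t : G) ≠ 1 := fun h => by rw [h, orderOf_one] at ht'; norm_num at ht'
  have hzt : Cfsg.IsPPart 2 (t : G) (t : G) := isPPart_self Nat.prime_two (orderOf_syl t)
  obtain ⟨ψ, hψ, hψt⟩ := exists_char_trivial_on_class hF hm3 hlt ht'
  have v4 : (ζ ψ : G → ℂ) (t : G) = ((3 * δ : ℤ) : ℂ) := by
    rw [hD.value_exc ψ hψ _ t hzt ht1, hψt t (IsConj.refl _)]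
    push_cast; ring
  obtain ⟨E1, -, E3⟩ := hD.int_relations hM hF hm3 ht' hψ hψt h23 h2 h3' hX
    (hD.value_ord _ hX2 _ t hzt ht1) (hD.value_ord _ hX3 _ t hzt ht1) v4
  have ha2 : a χ₂ = 1 ∨ a χ₂ = -1 := hD.unit _ hX2
  have ha3 : a χ₃ = 1 ∨ a χ₃ = -1 := hD.unit _ hX3
  have hs2 : a χ₂ * a χ₂ = 1 := by rcases ha2 with e | e <;> rw [e] <;> norm_num
  have hs3 : a χ₃ * a χ₃ = 1 := by rcases ha3 with e | e <;> rw [e] <;> norm_num
  have hsd : δ * δ = 1 := by rcases hD.sign with e | e <;> rw [e] <;> norm_num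
  have hc : ∀ χ ∈ frobOrd M ζ, a χ * a χ = 1 →
      (16 : ℤ) ∣ a χ * (deg (χ : G → ℂ) : ℤ) - 1 := by
    intro χ hχ hs
    have hd := dvd_deg_sub (P := P) χ (a := a χ) fun y hy =>
      hD.value_ord χ hχ _ y (isPPart_self Nat.prime_two (orderOf_syl y)) fun e => hy (Subtype.ext e)
    have h16' : (16 : ℤ) ∣ (deg (χ : G → ℂ) : ℤ) - a χ := (Int.natCast_dvd_natCast.2 h16).trans hd
    obtain ⟨q, hq⟩ := h16'
    exact ⟨a χ * q, by linear_combination (a χ) * hq + hs⟩
  obtain ⟨D₂, hD₂⟩ : ∃ D : ℤ, D = (deg (χ₂ : G → ℂ) : ℤ) := ⟨_, rfl⟩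
  obtain ⟨D₃, hD₃⟩ : ∃ D : ℤ, D = (deg (χ₃ : G → ℂ) : ℤ) := ⟨_, rfl⟩
  obtain ⟨W, hW⟩ : ∃ D : ℤ, D = (deg (ζ ψ : G → ℂ) : ℤ) := ⟨_, rfl⟩
  rw [← hD₂, ← hD₃, ← hW] at E1 E3
  have E3' : D₂ * D₃ * W + a χ₂ * D₃ * W + a χ₃ * D₂ * W - 9 * δ * D₂ * D₃ = 0 := by
    linear_combination E3 - (a χ₂ * D₃ * W) * hs2 - (a χ₃ * D₂ * W) * hs3 + (9 * δ * D₂ * D₃) * hsd
  obtain ⟨e2, e3⟩ := degrees_eq_one (hc _ hX2 hs2) (hc _ hX3 hs3) (by
    rw [← hD₂, ← hD₃]
    linear_combination (a χ₂ * a χ₃ * δ) * E3' +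
      (a χ₂ * D₂ * (a χ₃ * D₃) + a χ₂ * D₂ + a χ₃ * D₃) * E1 -
      (a χ₃ * δ * D₃ * W) * hs2 - (a χ₂ * δ * D₂ * W) * hs3 +
      (9 * a χ₂ * a χ₃ * D₂ * D₃) * hsd)
  have hpos : (0 : ℤ) < deg (χ₂ : G → ℂ) := by exact_mod_cast deg_irr_pos χ₂
  have ha1 : a χ₂ = 1 := by rcases ha2 with e | e <;> rw [e] at e2 <;> omega
  have hd1 : deg (χ₂ : G → ℂ) = 1 := by rw [ha1, one_mul] at e2; exact_mod_cast e2
  -- the kernel
  let K : Subgroup G := kerSubgroup (χ₂ : G → ℂ) (isCharacter_of_irr χ₂.2)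
  haveI hKn : K.Normal := kerSubgroup_normal _
  have hone : (χ₂ : G → ℂ) 1 = 1 := by rw [irr_apply_one_eq_deg, hd1, Nat.cast_one]
  have hKt : K ≠ ⊤ := fun htop => h2 (Subtype.ext (funext fun g => by
    have hg : g ∈ K := htop ▸ Subgroup.mem_top g
    exact ((mem_kerSubgroup _ g).1 hg).trans hone))
  have hzK : ∀ (z : G) (y : (P : Subgroup G)), Cfsg.IsPPart 2 z (y : G) → (y : G) ≠ 1 → z ∈ K :=
    fun z y hz hy => (mem_kerSubgroup _ z).2 (by
      rw [hD.value_ord _ hX2 z y hz hy, ha1, Int.cast_one, hone])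
  have hPK : (P : Subgroup G) ≤ K := fun y hy => by
    by_cases hy1 : y = 1
    · rw [hy1]; exact one_mem K
    · exact hzK y ⟨y, hy⟩ (isPPart_self Nat.prime_two (orderOf_syl ⟨y, hy⟩)) hy1
  -- two-parts of the centraliser lie in the Sylow subgroup
  let C : Subgroup G := Subgroup.centralizer ((P : Subgroup G) : Set G)
  have hCK : C ≤ K := by
    intro c hc
    obtain ⟨x, hx⟩ := exists_isPPart' Nat.prime_two c
    obtain ⟨s, hs⟩ := exists_isPPart Nat.prime_two c
    have hxC : x ∈ C := by rw [IsPPart.eq Nat.prime_two hx hs]; exact C.pow_mem hc s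
    obtain ⟨v, hv, hxv, ⟨k, hk⟩, hvn⟩ := id hx
    have hxP : x ∈ (P : Subgroup G) := by
      haveI : ((P : Subgroup G).subgroupOf C).Normal := ⟨fun w hw g => by
        rw [Subgroup.mem_subgroupOf] at hw ⊢
        have e1 : (g : G) * w * (g : G)⁻¹ = w := by rw [← g.2 (w : G) hw, mul_inv_cancel_right]
        simpa [e1] using hw⟩
      have hp := ((P : Subgroup G).subgroupOf C).pow_index_mem ⟨x, hxC⟩
      rw [Subgroup.mem_subgroupOf, SubgroupClass.coe_pow] at hp
      have hodd : ¬ 2 ∣ ((P : Subgroup G).subgroupOf C).index := fun hd =>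
        P.not_dvd_index (hd.trans (Dvd.intro _ (Subgroup.relIndex_mul_index hPC)))
      have hco : Nat.Coprime (orderOf x) ((P : Subgroup G).subgroupOf C).index := by
        rw [hk]; exact ((Nat.prime_two.coprime_iff_not_dvd).2 hodd).pow_left k
      obtain ⟨j, hj⟩ := exists_pow_eq_self_of_coprime hco.symm
      rw [← hj]; exact pow_mem hp j
    have hvC : v ∈ C := by
      have : v = x⁻¹ * c := by rw [← hv, inv_mul_cancel_left]
      rw [this]; exact C.mul_mem (C.inv_mem hxC) hc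
    by_cases hx1 : x = 1
    · have hcy : (t : G) * c ∈ K := hzK _ t
        (isPPart_mul (hc (t : G) t.2) (orderOf_syl t)
          ((isPPart_one_iff Nat.prime_two).1 (hx1 ▸ hx))) ht1
      simpa using K.mul_mem (K.inv_mem (hPK t.2)) hcy
    · exact hzK c ⟨x, hxP⟩ hx hx1
  let N : Subgroup G := Subgroup.normalizer ((P : Subgroup G) : Set G)
  have hCN : C ≤ N := Subgroup.centralizer_le_normalizer _
  have hfrat : N ⊔ K = ⊤ := by
    have e1 := Sylow.normalizer_sup_eq_top (P.subtype hPK)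
    rwa [Sylow.coe_subtype, Subgroup.subgroupOf_map_subtype, inf_eq_left.2 hPK] at e1
  have hNK : N ⊓ K ≤ C := by
    have e1 := Subgroup.relIndex_mul_relIndex C (N ⊓ K) N (le_inf hCN hCK) inf_le_left
    rw [show C.relIndex N = 3 from h3] at e1
    rcases (Nat.dvd_prime Nat.prime_three).1 (Dvd.intro _ e1) with e2 | e2
    · exact Subgroup.relIndex_eq_one.1 e2
    · exfalso
      rw [e2] at e1
      have e4 : (N ⊓ K).relIndex N = 1 := by omega
      exact hKt (top_le_iff.1 (hfrat ▸ sup_le ((Subgroup.relIndex_eq_one.1 e4).trans inf_le_right) le_rfl))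
  -- the kernel is the Sylow subgroup
  have hKP : K = (P : Subgroup G) := by
    have hNC : Subgroup.normalizer ((P.subtype hPK : Sylow 2 K) : Set K) ≤
        Subgroup.centralizer ((P.subtype hPK : Sylow 2 K) : Set K) := by
      intro n hn
      have hnN : (n : G) ∈ N := by
        rw [Subgroup.mem_normalizer_iff]
        intro w
        constructor
        · intro hw
          exact (Subgroup.mem_normalizer_iff.1 hn ⟨w, hPK hw⟩).1
            (show (⟨w, hPK hw⟩ : K) ∈ (P : Subgroup G).subgroupOf K from hw)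
        · intro hw
          have h1 := (Subgroup.mem_normalizer_iff.1 (inv_mem hn) ⟨(n : G) * w * (n : G)⁻¹, hPK hw⟩).1
            (show (⟨_, hPK hw⟩ : K) ∈ (P : Subgroup G).subgroupOf K from hw)
          have h2 : (n : G)⁻¹ * ((n : G) * w * (n : G)⁻¹) * ((n : G)⁻¹)⁻¹ ∈ (P : Subgroup G) := h1
          simpa [mul_assoc] using h2
      exact fun c hc => Subtype.ext (hNK ⟨hnN, n.2⟩ (c : G) hc)
    have hL := MonoidHom.ker_transferSylow_isComplement' (P.subtype hPK) hNC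
    obtain ⟨hcop, k, hk⟩ := Cfsg.Lib.Transfer.complement_props hL
    let L : Subgroup G := (MonoidHom.transferSylow (P.subtype hPK) hNC).ker.map K.subtype
    have hLn : L.Normal := by
      refine ⟨?_⟩
      rintro _ ⟨l, hl, rfl⟩ g
      refine ⟨⟨g * l * g⁻¹, hKn.conj_mem _ l.2 g⟩, ?_, rfl⟩
      rw [SetLike.mem_coe, Cfsg.Lib.Transfer.mem_iff_coprime_orderOf hcop hk, Subgroup.orderOf_mk,
        show g * (l : G) * g⁻¹ = MulAut.conj g (l : G) from rfl, MulEquiv.orderOf_eq,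
        Subgroup.orderOf_coe]
      exact (Cfsg.Lib.Transfer.mem_iff_coprime_orderOf hcop hk l).1 hl
    have hLodd : Odd (Nat.card L) := by
      rw [Subgroup.card_map_of_injective K.subtype_injective]
      exact Nat.coprime_two_right.1 hcop
    have hbot : (MonoidHom.transferSylow (P.subtype hPK) hNC).ker = ⊥ :=
      (Subgroup.map_eq_bot_iff_of_injective _ K.subtype_injective).1 (hO L hLn hLodd)
    rw [hbot] at hL
    have htop : ((P.subtype hPK : Sylow 2 K) : Subgroup K) = ⊤ := Subgroup.isComplement'_bot_left.1 hL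
    exact le_antisymm (Subgroup.subgroupOf_eq_top.1 htop) hPK
  have hPn : (P : Subgroup G).Normal := hKP ▸ hKn
  have hCP : C = (P : Subgroup G) := le_antisymm (hKP ▸ hCK) hPC
  refine ⟨hPn, hCP, Or.inr ?_⟩
  have hNtop : Subgroup.normalizer ((P : Subgroup G) : Set G) = ⊤ := Subgroup.normalizer_eq_top _
  rw [← Subgroup.relIndex_top_right, ← hNtop]
  have e1 : C.relIndex (Subgroup.normalizer ((P : Subgroup G) : Set G)) = 3 := h3
  rwa [hCP] at e1

end Cfsg.Agent.S0949
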