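import Cfsg.Statements.S0542
import Cfsg.Agent.Transfer.FittingPower

set_option autoImplicit false
open Cfsg

namespace Cfsg.Agent.S0542

/-- A Sylow p-subgroup of a finite group meets every subnormal subgroup H in a Sylow p-subgroup of H. -/
theorem result {G : Type*} [Group G] [Finite G] (p : ℕ) [Fact p.Prime] (H : Subgroup G) (hH : H.IsSubnormal) (S : Sylow p G) : ∃ Q : Sylow p H, (Q : Subgroup H) = (S : Subgroup G).subgroupOf H := by
  have hp : p.Prime := Fact.out
  have key : ¬ p ∣ (S : Subgroup G).relIndex H := by
    induction hH with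
    | top => rw [Subgroup.relIndex_top_right]; exact S.not_dvd_index
    | step H K hle _ hN ih =>
      haveI := hN
      intro hd
      refine ih (hd.trans ?_)
      rw [← Subgroup.relIndex_subgroupOf hle (H := (S : Subgroup G)),
        Cfsg.Lib.Transfer.relIndex_eq_relIndex_sup_of_normal]
      exact Dvd.intro _ (Subgroup.relIndex_mul_index (le_sup_left : (S : Subgroup G).subgroupOf K ≤ _))
  exact ⟨(S.2.comap_subtype (K := H)).toSylow key, rfl⟩

end Cfsg.Agent.S0542
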