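import Cfsg.Statements.S0073
import Mathlib

set_option autoImplicit false
open Cfsg



namespace Cfsg.Agent.S0073

/-- For a finite non-abelian simple group, either the cube of the least prime divisor of the order divides the order, or 12 does. -/
theorem result {G : Type*} [Group G] [Finite G] [IsSimpleGroup G] (hG : ∃ x y : G, x * y ≠ y * x) : (Nat.card G).minFac ^ 3 ∣ Nat.card G ∨ 12 ∣ Nat.card G := by
  classical
  obtain ⟨x₀, y₀, hxy⟩ := hG
  have hn1 : Nat.card G ≠ 1 := fun h => by
    haveI := (Nat.card_eq_one_iff_unique.1 h).1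
    exact hxy (Subsingleton.elim _ _)
  set p := (Nat.card G).minFac with hp'
  have hp : p.Prime := Nat.minFac_prime hn1
  haveI := Fact.mk hp
  obtain ⟨P⟩ := (inferInstance : Nonempty (Sylow p G))
  by_cases h3 : p ^ 3 ∣ Nat.card G
  · exact Or.inl h3
  right
  obtain ⟨j, hj⟩ := IsPGroup.iff_card.1 P.2
  have hj2 : j ≤ 2 := by
    by_contra h
    exact h3 ((pow_dvd_pow p (show 3 ≤ j by omega)).trans (hj ▸ Subgroup.card_subgroup_dvd_card _))
  -- no normal p-complement
  have hno : ¬ Subgroup.normalizer ((P : Subgroup G) : Set G) ≤ Subgroup.centralizer ((P : Subgroup G) : Set G) := by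
    intro hle
    have hc := MonoidHom.ker_transferSylow_isComplement' P hle
    rcases (MonoidHom.transferSylow P hle).normal_ker.eq_bot_or_eq_top with h | h
    · rw [h, Subgroup.isComplement'_bot_left] at hc
      -- then `G` is an abelian p-group
      have hall : ∀ g : G, g ∈ Subgroup.normalizer ((P : Subgroup G) : Set G) := fun g => by
        exact Subgroup.le_normalizer (hc.ge (Subgroup.mem_top g))
      exact hxy (Subgroup.mem_centralizer_iff.1 (hle (hall y₀)) x₀ (hc.ge (Subgroup.mem_top x₀)))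
    · rw [h, Subgroup.isComplement'_top_left] at hc
      have h1 : p ∣ Nat.card (P : Subgroup G) := P.dvd_card_of_dvd_card (Nat.minFac_dvd _)
      rw [hc, Subgroup.card_bot, Nat.dvd_one] at h1
      exact hp.ne_one h1
  have hj' : j = 2 := by
    by_contra hne
    refine hno (IsCyclic.normalizer_le_centralizer hp' ?_)
    rcases (show j = 0 ∨ j = 1 by omega) with rfl | rfl
    · haveI : Subsingleton (P : Subgroup G) := (Nat.card_eq_one_iff_unique.1 (by rw [hj, pow_zero])).1
      infer_instance
    · exact isCyclic_of_prime_card (p := p) (by rw [hj, pow_one])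
  subst hj'
  have hPab : IsMulCommutative (P : Subgroup G) := IsPGroup.isMulCommutative_of_card_eq_prime_sq hj
  -- an element of the normaliser outside the centraliser, of least order
  obtain ⟨g, ⟨hgN, hgC⟩, hgmin⟩ := WellFounded.has_min (InvImage.wf orderOf wellFounded_lt)
    {g : G | g ∈ Subgroup.normalizer ((P : Subgroup G) : Set G) ∧ g ∉ Subgroup.centralizer ((P : Subgroup G) : Set G)}
    (by
      by_contra h
      exact hno fun g hg => by
        by_contra hgC
        exact h ⟨g, hg, hgC⟩)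
  have hg1 : orderOf g ≠ 1 := fun e => hgC (by rw [orderOf_eq_one_iff.1 e]; exact one_mem _)
  set q := (orderOf g).minFac with hq'
  have hq : q.Prime := Nat.minFac_prime hg1
  haveI := Fact.mk hq
  obtain ⟨k, b, hqb, hkb⟩ := Nat.exists_eq_pow_mul_and_not_dvd (orderOf_pos g).ne' q hq.ne_one
  have hgq : g ^ q ∈ Subgroup.centralizer ((P : Subgroup G) : Set G) := by
    by_contra h
    refine hgmin (g ^ q) ⟨pow_mem hgN q, h⟩ ?_
    show orderOf (g ^ q) < orderOf g
    rw [orderOf_pow_of_dvd hq.ne_zero (Nat.minFac_dvd _)]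
    exact Nat.div_lt_self (orderOf_pos g) hq.one_lt
  have hgb : g ^ b ∉ Subgroup.centralizer ((P : Subgroup G) : Set G) := by
    intro h
    refine hgC ?_
    have h1 : g ^ Int.gcd (q : ℤ) (b : ℤ) ∈ Subgroup.centralizer ((P : Subgroup G) : Set G) := by
      have e : ((Int.gcd (q : ℤ) (b : ℤ) : ℕ) : ℤ) = q * Int.gcdA q b + b * Int.gcdB q b := Int.gcd_eq_gcd_ab _ _
      rw [← zpow_natCast, e, zpow_add, zpow_mul, zpow_mul, zpow_natCast, zpow_natCast]
      exact mul_mem (zpow_mem hgq _) (zpow_mem h _)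
    rwa [Int.gcd_natCast_natCast, (hq.coprime_iff_not_dvd.2 hqb).gcd_eq_one, pow_one] at h1
  set y := g ^ b with hy
  have hyo : orderOf y = q ^ k := by
    rw [hy, orderOf_pow_of_dvd (fun e => hqb (by rw [e]; exact dvd_zero q)) (hkb ▸ dvd_mul_left b _), hkb,
      Nat.mul_div_cancel _ (Nat.pos_of_ne_zero fun e => hqb (by rw [e]; exact dvd_zero q))]
  have hyN : y ∈ Subgroup.normalizer ((P : Subgroup G) : Set G) := pow_mem hgN b
  have hqG : q ∣ Nat.card G := (Nat.minFac_dvd _).trans (orderOf_dvd_natCard g)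
  have hpq : p ≠ q := by
    intro e
    refine hgb (Subgroup.mem_centralizer_iff.2 fun x hx => ?_)
    have hyP : y ∈ (P : Subgroup G) := by
      have hsup : IsPGroup p (Subgroup.zpowers y ⊔ (P : Subgroup G) : Subgroup G) :=
        (IsPGroup.of_card (n := k) (by rw [Nat.card_zpowers, hyo, ← e])).to_sup_of_normal_right' P.2 (Subgroup.zpowers_le.2 hyN)
      exact (P.3 hsup le_sup_right) ▸ Subgroup.mem_sup_left (Subgroup.mem_zpowers y)
    exact congrArg Subtype.val (hPab.is_comm.comm (⟨x, hx⟩ : (P : Subgroup G)) ⟨y, hyP⟩)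
  have hlt : p < q := lt_of_le_of_ne (Nat.minFac_le_of_dvd hq.two_le hqG) hpq
  -- the action of `y` on `P`
  have hle : Subgroup.zpowers y ≤ Subgroup.normalizer ((P : Subgroup G) : Set G) := Subgroup.zpowers_le.2 hyN
  letI : MulAction (Subgroup.zpowers y) (P : Subgroup G) :=
    { smul := fun a x => ⟨(a : G) * x * (a : G)⁻¹, (Subgroup.mem_normalizer_iff.1 (hle a.2) x).1 x.2⟩
      one_smul := fun x => Subtype.ext (show (1 : G) * x * (1 : G)⁻¹ = x by simp)
      mul_smul := fun a b x => Subtype.ext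
        (show (a * b : G) * x * (a * b : G)⁻¹ = a * ((b : G) * x * (b : G)⁻¹) * (a : G)⁻¹ by group) }
  have hmod := (IsPGroup.of_card (n := k) (by rw [Nat.card_zpowers, hyo]) : IsPGroup q (Subgroup.zpowers y)).card_modEq_card_fixedPoints (P : Subgroup G)
  set C := ((P : Subgroup G) ⊓ Subgroup.centralizer ({y} : Set G))
  have hfix : Nat.card (MulAction.fixedPoints (Subgroup.zpowers y) (P : Subgroup G)) = Nat.card C := by
    refine Nat.card_congr
      { toFun := fun x => ⟨(x.1 : G), x.1.2, Subgroup.mem_centralizer_singleton_iff.2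
          (mul_inv_eq_iff_eq_mul.1 (congrArg Subtype.val (x.2 ⟨y, Subgroup.mem_zpowers y⟩))).symm⟩
        invFun := fun x => ⟨⟨x.1, x.2.1⟩, fun a => Subtype.ext ?_⟩
        left_inv := fun x => rfl
        right_inv := fun x => rfl }
    show (a : G) * x.1 * (a : G)⁻¹ = x.1
    have hc : Commute (a : G) x.1 := by
      obtain ⟨i, hi⟩ := Subgroup.mem_zpowers_iff.1 a.2
      rw [← hi]
      exact Commute.zpow_left (Subgroup.mem_centralizer_singleton_iff.1 x.2.2).symm i
    rw [hc.eq, mul_inv_cancel_right]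
  rw [hfix, hj] at hmod
  have hCdvd : Nat.card C ∣ p ^ 2 := hj ▸ Subgroup.card_dvd_of_le inf_le_left
  obtain ⟨i, hi, hCc⟩ := (Nat.dvd_prime_pow hp).1 hCdvd
  have hClt : i ≠ 2 := by
    intro e
    refine hgb (Subgroup.mem_centralizer_iff.2 fun x hx => ?_)
    have h1 : C = (P : Subgroup G) := Subgroup.eq_of_le_of_card_ge inf_le_left (by rw [hCc, hj, e])
    exact (Subgroup.mem_centralizer_singleton_iff.1 (h1.ge hx).2)
  have hpp : p ≤ p ^ 2 := Nat.le_self_pow (by norm_num) p
  rcases (show i = 0 ∨ i = 1 by omega) with rfl | rfl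
  · rw [hCc, pow_zero, Nat.ModEq.comm, Nat.modEq_iff_dvd' (Nat.one_le_pow _ _ hp.pos)] at hmod
    have h1 : q ∣ (p + 1) * (p - 1) := by
      have e : (p + 1) * (p - 1) = p ^ 2 - 1 := by rw [← Nat.sq_sub_sq]
      rw [e]; exact hmod
    have hp1 := hp.one_lt
    rcases hq.dvd_mul.1 h1 with h | h
    · have hle' := Nat.le_of_dvd (by omega) h
      have hq1 : q = p + 1 := by omega
      have hp2 : p = 2 := by
        by_contra hne
        have hodd := hp.odd_of_ne_two hne
        have : Even q := hq1 ▸ hodd.add_one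
        have := (Nat.Prime.even_iff hq).1 this
        omega
      have h4 : 4 ∣ Nat.card G := by
        rw [show 4 = p ^ 2 by rw [hp2]; norm_num, ← hj]
        exact Subgroup.card_subgroup_dvd_card _
      have h3' : 3 ∣ Nat.card G := by rwa [show 3 = q by omega]
      exact (Nat.Coprime.mul_dvd_of_dvd_of_dvd (by norm_num : Nat.Coprime 4 3) h4 h3' : 4 * 3 ∣ Nat.card G)
    · have := Nat.le_of_dvd (by omega) h
      omega
  · rw [hCc, pow_one, Nat.ModEq.comm, Nat.modEq_iff_dvd' hpp] at hmod
    have h1 : q ∣ p * (p - 1) := by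
      have e : p * (p - 1) = p ^ 2 - p := by rw [Nat.mul_sub_one, pow_two]
      rw [e]; exact hmod
    rcases hq.dvd_mul.1 h1 with h | h
    · exact absurd ((Nat.prime_dvd_prime_iff_eq hq hp).1 h).symm hpq
    · have := Nat.le_of_dvd (by have := hp.one_lt; omega) h
      omega

end Cfsg.Agent.S0073
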