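import Cfsg.Statements.S0493
import Cfsg.Agent.S0073
import Cfsg.Agent.Chars.Burnside

set_option autoImplicit false
open Cfsg

namespace Cfsg.Agent.S0493

/-- A finite simple group of order at most 100 that is not cyclic has order 60. -/
theorem result {G : Type*} [Group G] [Finite G] [IsSimpleGroup G]
    (hG : ¬ IsCyclic G) (h : Nat.card G ≤ 100) : Nat.card G = 60 := by
  have hnc : ∃ x y : G, x * y ≠ y * x := by
    by_contra hcon
    push Not at hcon
    exact hG (by
      letI : CommGroup G := { ‹Group G› with mul_comm := hcon }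
      haveI : Fact (Nat.card G).Prime := ⟨IsSimpleGroup.prime_card (α := G)⟩
      exact isCyclic_of_prime_card (α := G) rfl)
  have hns : ¬ Group.IsSolvable G := fun hsol => by
    haveI := hsol
    obtain ⟨x, y, hxy⟩ := hnc
    exact hxy (IsSimpleGroup.comm_iff_isSolvable.2 hsol x y)
  have hburn : ∀ q : ℕ, q.Prime → ∀ a b : ℕ, Nat.card G ≠ 2 ^ a * q ^ b := fun q hq a b e =>
    hns (Cfsg.Lib.Chars.burnside_isSolvable 2 q Nat.prime_two hq G ⟨a, b, e⟩)
  have hpq : ∀ p q : ℕ, p.Prime → q.Prime → ∀ a b : ℕ, Nat.card G ≠ p ^ a * q ^ b := fun p q hp hq a b e =>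
    hns (Cfsg.Lib.Chars.burnside_isSolvable p q hp hq G ⟨a, b, e⟩)
  have hpos : 0 < Nat.card G := Nat.card_pos
  have h84 : Nat.card G ≠ 84 := by
    intro e
    haveI : Fact (Nat.Prime 7) := ⟨by norm_num⟩
    obtain ⟨P⟩ : Nonempty (Sylow 7 G) := inferInstance
    have h1 := card_sylow_modEq_one 7 G
    have hP : Nat.card (P : Subgroup G) = 7 := by
      rw [P.card_eq_multiplicity, e]
      have : (Nat.factorization 84) 7 = 1 := by
        rw [show 84 = 7 * 12 by norm_num, Nat.factorization_mul (by norm_num) (by norm_num), Finsupp.add_apply,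
          Nat.Prime.factorization_self (by norm_num), Nat.factorization_eq_zero_of_not_dvd (by norm_num)]
      rw [this, pow_one]
    have h2 : Nat.card (Sylow 7 G) ∣ 12 := by
      have h3 := P.card_dvd_index
      have h4 := (P : Subgroup G).card_mul_index
      rw [hP, e] at h4
      rwa [show (P : Subgroup G).index = 12 by omega] at h3
    have h5 : Nat.card (Sylow 7 G) = 1 := by
      have := Nat.le_of_dvd (by norm_num) h2
      unfold Nat.ModEq at h1
      rcases (show Nat.card (Sylow 7 G) = 1 ∨ Nat.card (Sylow 7 G) = 8 by omega) with h6 | h6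
      · exact h6
      · rw [h6] at h2
        norm_num at h2
    haveI : Subsingleton (Sylow 7 G) := (Nat.card_eq_one_iff_unique.1 h5).1
    rcases (P.normal_of_subsingleton).eq_bot_or_eq_top with h6 | h6
    · rw [h6, Subgroup.card_bot] at hP
      omega
    · rw [h6, Subgroup.card_top, e] at hP
      omega
  rcases Cfsg.Agent.S0073.result hnc with h3 | h12
  · have hpr := Nat.minFac_prime (n := Nat.card G) (fun e => by
      haveI := (Nat.card_eq_one_iff_unique.1 e).1
      obtain ⟨x, y, hxy⟩ := hnc
      exact hxy (Subsingleton.elim _ _))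
    have hle := (Nat.le_of_dvd hpos h3).trans h
    have h5 : (Nat.card G).minFac < 5 := by
      by_contra hh
      have := Nat.pow_le_pow_left (not_lt.1 hh) 3
      omega
    have h2 := hpr.two_le
    obtain ⟨k, hk⟩ := h3
    rcases (show (Nat.card G).minFac = 2 ∨ (Nat.card G).minFac = 3 ∨ (Nat.card G).minFac = 4 by omega) with e | e | e <;> rw [e] at hk hpr
    · have hk' : Nat.card G = 8 * k := hk.trans (by norm_num)
      have hk12 : k ≤ 12 := by omega
      have hk0 : 1 ≤ k := by omega
      exfalso
      interval_cases k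
      · exact hburn 3 Nat.prime_three 3 0 hk'
      · exact hburn 3 Nat.prime_three 4 0 hk'
      · exact hburn 3 Nat.prime_three 3 1 hk'
      · exact hburn 3 Nat.prime_three 5 0 hk'
      · exact hburn 5 Nat.prime_five 3 1 hk'
      · exact hburn 3 Nat.prime_three 4 1 hk'
      · exact hburn 7 (by norm_num) 3 1 hk'
      · exact hburn 3 Nat.prime_three 6 0 hk'
      · exact hburn 3 Nat.prime_three 3 2 hk'
      · exact hburn 5 Nat.prime_five 4 1 hk'
      · exact hburn 11 (by norm_num) 3 1 hk'
      · exact hburn 3 Nat.prime_three 5 1 hk'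
    · have hk' : Nat.card G = 27 * k := hk.trans (by norm_num)
      have hk12 : k ≤ 3 := by omega
      have hk0 : 1 ≤ k := by omega
      exfalso
      interval_cases k
      · exact hburn 3 Nat.prime_three 0 3 hk'
      · exact hburn 3 Nat.prime_three 1 3 hk'
      · exact hburn 3 Nat.prime_three 0 4 hk'
    · exact absurd hpr (by norm_num)
  · obtain ⟨k, hk⟩ := h12
    have hk8 : k ≤ 8 := by omega
    have hk0 : 1 ≤ k := by omega
    interval_cases k
    · exact absurd hk (hburn 3 Nat.prime_three 2 1)
    · exact absurd hk (hburn 3 Nat.prime_three 3 1)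
    · exact absurd hk (hburn 3 Nat.prime_three 2 2)
    · exact absurd hk (hburn 3 Nat.prime_three 4 1)
    · omega
    · exact absurd hk (hburn 3 Nat.prime_three 3 2)
    · omega
    · exact absurd hk (hburn 3 Nat.prime_three 5 1)

end Cfsg.Agent.S0493
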