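import Cfsg.Statements.S0813
import Mathlib
import Cfsg.Agent.Known.AutPSLn.Out
import Cfsg.Agent.Known.AutPSL2
import Cfsg.Agent.Classical.SL

set_option autoImplicit false
set_option linter.style.haveILetI false
open Cfsg

namespace Cfsg.Agent.S0813

/-- |Aut(PSL_n(q))|, q = p^f: for n ≥ 3 it is 2 f |PGL_n(q)|, and for n = 2 (q ≥ 4) it is f |PGL_2(q)|. -/
theorem result {F : Type*} [Field F] [Fintype F] (p f : ℕ) [Fact p.Prime] (hf : 1 ≤ f) (hF : Fintype.card F = p ^ f) (n : ℕ) (hn : 2 ≤ n) (h2 : n = 2 → 4 ≤ p ^ f) : Nat.card (MulAut (Matrix.ProjectiveSpecialLinearGroup (Fin n) F)) = (if n = 2 then 1 else 2) * f * Nat.card (Matrix.ProjGenLinGroup (Fin n) F) := by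
  classical
  haveI : CharP F p := charP_of_card_eq_prime_pow hF
  haveI : Nonempty (Fin n) := ⟨⟨0, by omega⟩⟩
  set P := Matrix.ProjectiveSpecialLinearGroup (Fin n) F
  haveI hs : IsSimpleGroup P := Cfsg.Lib.Classical.isSimpleGroup_PSL_fin hn
    fun h => by rw [Nat.card_eq_fintype_card, hF]; exact h2 h
  have hne : ∃ a b : P, a * b ≠ b * a := by
    by_contra hc
    push Not at hc
    rcases eq_or_lt_of_le hn with h | h
    · subst h
      have e := Cfsg.Lib.Known.AutPSL2.π_eq (F := F) (M := Cfsg.Lib.Known.AutPSL2.uS 1 * Cfsg.Lib.Known.AutPSL2.vS 1)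
        (N := Cfsg.Lib.Known.AutPSL2.vS 1 * Cfsg.Lib.Known.AutPSL2.uS 1) (by rw [map_mul, map_mul]; exact hc _ _)
      obtain ⟨c, -, hc'⟩ := e
      simp only [Cfsg.Lib.Known.AutPSL2.cmul, Cfsg.Lib.Known.AutPSL2.coe_uS, Cfsg.Lib.Known.AutPSL2.coe_vS,
        Matrix.mul_fin_two] at hc'
      have h01 := congrFun (congrFun hc' 0) 1
      have h00 := congrFun (congrFun hc' 0) 0
      simp at h01 h00
      subst h01
      simp at h00
    · obtain ⟨a, ha⟩ := exists_ne (1 : P)
      apply ha
      obtain ⟨A, rfl⟩ := QuotientGroup.mk_surjective a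
      have hA : A ∈ commutator (Matrix.SpecialLinearGroup (Fin n) F) := by
        rw [Cfsg.Lib.Classical.SL_commutator_eq_top (by rw [Fintype.card_fin]; omega)]; trivial
      revert hA
      suffices commutator (Matrix.SpecialLinearGroup (Fin n) F) ≤
          (QuotientGroup.mk' (Subgroup.center (Matrix.SpecialLinearGroup (Fin n) F))).ker from
        fun hA => MonoidHom.mem_ker.mp (this hA)
      rw [commutator_eq_closure, Subgroup.closure_le]
      rintro _ ⟨x, y, rfl⟩
      rw [SetLike.mem_coe, MonoidHom.mem_ker, map_commutatorElement, commutatorElement_eq_one_iff_mul_comm]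
      exact hc _ _
  have hinj : Function.Injective (MulAut.conj : P →* MulAut P) := by
    refine (MonoidHom.ker_eq_bot_iff _).mp ((MonoidHom.normal_ker _).eq_bot_or_eq_top.resolve_right fun h => ?_)
    obtain ⟨a, b, hab⟩ := hne
    have := DFunLike.congr_fun (MonoidHom.mem_ker.mp (h ▸ Subgroup.mem_top a : a ∈ (MulAut.conj : P →* MulAut P).ker)) b
    rw [MulAut.conj_apply, MulAut.one_apply, mul_inv_eq_iff_eq_mul] at this
    exact hab this
  have hInn : Nat.card (Cfsg.Inn P) = Nat.card P :=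
    (Nat.card_congr (MonoidHom.ofInjective hinj).toEquiv).symm
  have hout : Nat.card (Cfsg.Out P) = (if n = 2 then 1 else 2) * f * Nat.gcd n (p ^ f - 1) := by
    haveI : NeZero f := ⟨by omega⟩
    by_cases hn2 : n = 2
    · subst hn2
      letI : Algebra (ZMod p) F := ZMod.algebra F p
      obtain ⟨φ, hφ, -, hk⟩ := Cfsg.Lib.Known.AutPSL2.exists_hom_out p hf hF
      rw [if_pos rfl, one_mul, ← Subgroup.card_mul_index φ.ker, hk, Subgroup.index_ker,
        MonoidHom.range_eq_top.mpr hφ, Subgroup.card_top, Nat.card_congr Multiplicative.toAdd, Nat.card_zmod,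
        mul_comm]
    · obtain ⟨φ, hφ, -, hk⟩ := Cfsg.Lib.Known.AutPSLn.exists_hom_out (n := n) p hF (by omega)
      rw [if_neg hn2, ← Subgroup.card_mul_index φ.ker, hk, Subgroup.index_ker,
        MonoidHom.range_eq_top.mpr hφ, Subgroup.card_top, Nat.card_congr Multiplicative.toAdd, Nat.card_prod,
        Nat.card_zmod, Nat.card_zmod]
      ring
  have hA : Nat.card (MulAut P) = Nat.card (Cfsg.Out P) * Nat.card (Cfsg.Inn P) :=
    Subgroup.card_eq_card_quotient_mul_card_subgroup _
  have hg := Cfsg.Lib.Classical.gcd_mul_card_PSL (ι := Fin n) (F := F)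
  rw [Fintype.card_fin, Nat.card_eq_fintype_card (α := F), hF] at hg
  rw [hA, hout, hInn, Cfsg.Lib.Classical.card_PGL, ← hg]
  ring

end Cfsg.Agent.S0813
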