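import Cfsg.Statements.S4020
import Cfsg.Agent.FusedSylow.Heisenberg
-- import your own Cfsg.Agent.* helpers here

set_option autoImplicit false
open Cfsg

namespace Cfsg.Agent.S4020

/-- Let G be a finite group in which, for every prime p, any two p-subgroups of the same order are conjugate. Then every Sylow subgroup of G is cyclic, elementary abelian, or a quaternion group of order 8. -/
theorem result {G : Type*} [Group G] [Finite G]
    (hD : ∀ p : ℕ, p.Prime → ∀ H K : Subgroup G, IsPGroup p H → IsPGroup p K → Nat.card H = Nat.card K →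
      ∃ g : G, K = H.map (MulAut.conj g).toMonoidHom) {p : ℕ} [Fact p.Prime] (P : Sylow p G) :
    IsCyclic P ∨ Cfsg.IsElementaryAbelian p (P : Subgroup G) ∨ Nonempty ((P : Subgroup G) ≃* QuaternionGroup 2) := by
  rcases Cfsg.Lib.OrderSquare.trichotomy P.2 (Cfsg.Lib.OrderSquare.hyp_of_conj (p := p) (P : Subgroup G)
    fun A B _ _ hA hB => hD p Fact.out A B (IsPGroup.of_card hA) (IsPGroup.of_card hB) (hA.trans hB.symm))
    with h | ⟨rfl, -⟩ | h
  · exact Or.inl h
  · rcases Cfsg.Lib.FusedSylow.sylow_two hD P with h | h | h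
    · exact Or.inl h
    · exact Or.inr (Or.inl ⟨⟨⟨Cfsg.Lib.OrderSquare.comm_of_exp_two h⟩⟩, fun a ha => congrArg Subtype.val (h ⟨a, ha⟩)⟩)
    · exact Or.inr (Or.inr h)
  · exact Or.inr (Or.inl ⟨Cfsg.Lib.FusedSylow.abelian_of_exponent hD P h, fun a ha => congrArg Subtype.val (h ⟨a, ha⟩)⟩)

end Cfsg.Agent.S4020
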