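import Cfsg.Statements.S4025
import Cfsg.Agent.LinearPerm.EquiNormalizer
import Cfsg.Agent.S0076

set_option autoImplicit false
open Cfsg

namespace Cfsg.Agent.S4025

/-- Let p be a prime and G a finite group in which any two p-subgroups of the same order are conjugate, and suppose a Sylow p-subgroup P of G is elementary abelian of order pⁿ with n ≥ 3. Let N be the normalizer of P and K the largest normal subgroup of N of order prime to p, and assume N/K is solvable. Then either n = 3 and N/K embeds in the one-dimensional semi-affine group over the field with p³ elements (and for p = 2 it is isomorphic to the affine or the semi-affine group over the field with 8 elements), or n = 5, p = 2 and N/K is isomorphic to the one-dimensional semi-affine group over the field with 32 elements. -/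
theorem result {G : Type*} [Group G] [Finite G]
    {p : ℕ} [Fact p.Prime] (hC : ∀ H K : Subgroup G, IsPGroup p H → IsPGroup p K → Nat.card H = Nat.card K →
      ∃ g : G, K = H.map (MulAut.conj g).toMonoidHom) (P : Sylow p G) (n : ℕ) (hn : 3 ≤ n)
    (hel : Cfsg.IsElementaryAbelian p (P : Subgroup G)) (hcard : Nat.card P = p ^ n)
    (N : Subgroup G) (hN : N = Subgroup.normalizer ((P : Subgroup G) : Set G))
    (hsolv : Group.IsSolvable (↥N ⧸ Cfsg.pPrimeCore p ↥N)) :
    (n = 3 ∧ (∃ f : ↥N ⧸ Cfsg.pPrimeCore p ↥N →* ↥(Cfsg.semiaffineGroup (GaloisField p 3)), Function.Injective f) ∧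
      (p = 2 → Nonempty (↥N ⧸ Cfsg.pPrimeCore p ↥N ≃* Cfsg.semiaffineGroup (GaloisField 2 3)) ∨
               Nonempty (↥N ⧸ Cfsg.pPrimeCore p ↥N ≃* Cfsg.affineGroup (GaloisField 2 3)))) ∨
    (n = 5 ∧ p = 2 ∧ Nonempty (↥N ⧸ Cfsg.pPrimeCore p ↥N ≃* Cfsg.semiaffineGroup (GaloisField 2 5))) := by
  classical
  have hPN : (P : Subgroup G) ≤ N := hN ▸ Subgroup.le_normalizer
  have hnorm : ((P : Subgroup G).subgroupOf N).Normal := by
    subst hN
    exact Subgroup.normal_in_normalizer
  have hidx : ¬ p ∣ ((P : Subgroup G).subgroupOf N).index := by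
    intro h
    refine P.not_dvd_index (h.trans ?_)
    exact Subgroup.relIndex_dvd_index_of_le hPN
  have hcard' : Nat.card ((P : Subgroup G).subgroupOf N) = p ^ n := by
    rw [Nat.card_congr (Subgroup.subgroupOfEquivOfLe hPN).toEquiv]; exact hcard
  have hcomm : IsMulCommutative ((P : Subgroup G).subgroupOf N) := ⟨⟨fun a b => Subtype.ext (Subtype.ext
    (show ((a : N) : G) * ((b : N) : G) = ((b : N) : G) * ((a : N) : G) from
      congrArg Subtype.val (hel.1.is_comm.comm (⟨((a : N) : G), a.2⟩ : (P : Subgroup G))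
        ⟨((b : N) : G), b.2⟩)))⟩⟩
  have hexp : ∀ a ∈ (P : Subgroup G).subgroupOf N, a ^ p = 1 := fun a ha =>
    Subtype.ext ((SubmonoidClass.coe_pow a p).trans (hel.2 _ ha))
  refine Cfsg.Lib.EquiTransitive.normalizer_quotient hn _ hcard' hidx hcomm hexp hsolv ?_
  intro A B hA hB hAB
  have hA' : A.map N.subtype ≤ (P : Subgroup G) := by rintro _ ⟨a, ha, rfl⟩; exact hA ha
  have hB' : B.map N.subtype ≤ (P : Subgroup G) := by rintro _ ⟨b, hb, rfl⟩; exact hB hb
  have hcard2 : Nat.card (A.map N.subtype) = Nat.card (B.map N.subtype) := by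
    rw [Subgroup.card_map_of_injective N.subtype_injective, Subgroup.card_map_of_injective N.subtype_injective, hAB]
  obtain ⟨g, hg⟩ := hC _ _ (P.isPGroup'.to_le hA') (P.isPGroup'.to_le hB') hcard2
  have hinv : ∀ (X : Subgroup G), X ≤ (P : Subgroup G) → ∀ x ∈ P, (fun y => x * y * x⁻¹) '' (X : Set G) = X := by
    intro X hX x hx
    have hid : ∀ y ∈ X, x * y * x⁻¹ = y := fun y hy =>
      mul_inv_eq_iff_eq_mul.2 (congrArg Subtype.val (hel.1.is_comm.comm ⟨x, hx⟩ ⟨y, hX hy⟩))
    ext z
    constructor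
    · rintro ⟨y, hy, rfl⟩
      show x * y * x⁻¹ ∈ X
      rw [hid y hy]; exact hy
    · intro hz
      exact ⟨z, hz, hid z hz⟩
  obtain ⟨m, hm, hme⟩ := Cfsg.Agent.S0076.result P (A.map N.subtype : Set G) (B.map N.subtype : Set G)
    hA' hB' (hinv _ hA') (hinv _ hB') g (by rw [hg]; rfl)
  refine ⟨⟨m, by rw [hN]; exact hm⟩, fun x => ?_⟩
  have key : ∀ (C : Subgroup N) (y : N), y ∈ C ↔ (y : G) ∈ (C.map N.subtype : Set G) := fun C y =>
    (Subgroup.mem_map_iff_mem N.subtype_injective (K := C)).symm
  rw [key A, key B, ← hme]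
  constructor
  · exact fun h => ⟨x, h, rfl⟩
  · rintro ⟨y, hy, e⟩
    have h2 : y = x := by simpa using e
    exact h2 ▸ hy

end Cfsg.Agent.S4025
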