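import Cfsg.Statements.S1644
import Cfsg.Agent.JankoOne.Iso.Main
-- import your own Cfsg.Agent.* helpers here

set_option autoImplicit false
open Cfsg

namespace Cfsg.Agent.S1644

/-- The first Janko group recognised by an involution centraliser, at the level of isomorphism: a finite simple group with abelian Sylow 2-subgroups of order 8 and an involution whose centraliser is isomorphic to Z/2 × A₅ is isomorphic to the subgroup of GL(7, 11) generated by the two explicit Janko matrices. -/
theorem result {G : Type*} [Group G] [Finite G] [IsSimpleGroup G] (S : Sylow 2 G) (hS : IsMulCommutative (S : Subgroup G)) (h8 : Nat.card S = 8) (t : G) (ht : orderOf t = 2) (e : (Subgroup.centralizer ({t} : Set G)) ≃* Multiplicative (ZMod 2) × alternatingGroup (Fin 5)) : Cfsg.Spor.IsoJ1 G := by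
  refine Cfsg.Lib.JankoOne.Iso.isoJOne t ?_ e
  haveI : Fact (Nat.Prime 2) := ⟨Nat.prime_two⟩
  refine ⟨ht, ?_⟩
  obtain ⟨T, hT⟩ := (IsPGroup.of_card (p := 2) (n := 1) (by rw [Nat.card_zpowers, ht, pow_one]) :
    IsPGroup 2 (Subgroup.zpowers t)).exists_le_sylow
  obtain ⟨g, hg⟩ := MulAction.exists_smul_eq G S T
  refine ⟨T, hT (Subgroup.mem_zpowers t), fun x hx => ?_⟩
  have hx' : x ∈ (T : Subgroup G) := hx
  have ht' : t ∈ (T : Subgroup G) := hT (Subgroup.mem_zpowers t)
  rw [← hg, Sylow.coe_subgroup_smul] at hx' ht'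
  obtain ⟨a, ha, rfl⟩ := hx'
  obtain ⟨b, hb, hbt⟩ := ht'
  rw [← hbt]
  have hab : a * b = b * a := congrArg Subtype.val (hS.is_comm.comm (⟨a, ha⟩ : (S : Subgroup G)) ⟨b, hb⟩)
  simp only [MulDistribMulAction.toMonoidEnd_apply, MulDistribMulAction.toMonoidHom_apply, MulAut.smul_def,
    MulAut.conj_apply]
  calc g * a * g⁻¹ * (g * b * g⁻¹) = g * (a * b) * g⁻¹ := by group
    _ = g * b * g⁻¹ * (g * a * g⁻¹) := by rw [hab]; group

end Cfsg.Agent.S1644
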