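import Cfsg.Statements.S2426
import Cfsg.Agent.Classical.Misc.SLTwoPresentation
-- import your own Cfsg.Agent.* helpers here

set_option autoImplicit false
open Cfsg

namespace Cfsg.Agent.S2426

/-- The rank-one Steinberg presentation of `SL₂` over a finite field `K`: generators `x(t)`, `y(t)` (`t ∈ K`; the two opposite root subgroups) subject to additivity `x(t)x(u) = x(t+u)`, `y(t)y(u) = y(t+u)` and, with `w(t) = x(t) y(−t⁻¹) x(t)` and `w'(t) = y(t) x(−t⁻¹) y(t)` for `t ≠ 0`, the relations `w(t) x(u) w(t)⁻¹ = y(−t⁻² u)` and `w'(t) y(u) w'(t)⁻¹ = x(−t⁻² u)`, present `SL₂(K)`, with `x(t) ↦ (1 t; 0 1)` and `y(t) ↦ (1 0; t 1)`. -/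
theorem result {K : Type*} [Field K] [Finite K] :
    ∃ e : PresentedGroup
        ({g : FreeGroup (Bool × K) | ∃ (b : Bool) (t u : K), g = FreeGroup.of (b, t) * FreeGroup.of (b, u) * (FreeGroup.of (b, t + u))⁻¹} ∪
          {g | ∃ (b : Bool) (t u : K), t ≠ 0 ∧
            g = (FreeGroup.of (b, t) * FreeGroup.of (!b, -t⁻¹) * FreeGroup.of (b, t)) * FreeGroup.of (b, u) *
                  (FreeGroup.of (b, t) * FreeGroup.of (!b, -t⁻¹) * FreeGroup.of (b, t))⁻¹ * (FreeGroup.of (!b, -(t⁻¹ ^ 2 * u)))⁻¹})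
        ≃* Matrix.SpecialLinearGroup (Fin 2) K,
      (∀ t : K, ((e (PresentedGroup.of (true, t)) : Matrix (Fin 2) (Fin 2) K)) = !![1, t; 0, 1]) ∧
      (∀ t : K, ((e (PresentedGroup.of (false, t)) : Matrix (Fin 2) (Fin 2) K)) = !![1, 0; t, 1]) := by
  classical
  haveI := Fintype.ofFinite K
  set rels : Set (FreeGroup (Bool × K)) :=
    ({g : FreeGroup (Bool × K) | ∃ (b : Bool) (t u : K), g = FreeGroup.of (b, t) * FreeGroup.of (b, u) * (FreeGroup.of (b, t + u))⁻¹} ∪
      {g | ∃ (b : Bool) (t u : K), t ≠ 0 ∧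
        g = (FreeGroup.of (b, t) * FreeGroup.of (!b, -t⁻¹) * FreeGroup.of (b, t)) * FreeGroup.of (b, u) *
              (FreeGroup.of (b, t) * FreeGroup.of (!b, -t⁻¹) * FreeGroup.of (b, t))⁻¹ * (FreeGroup.of (!b, -(t⁻¹ ^ 2 * u)))⁻¹}) with hrels
  let m : Bool × K → Matrix.SpecialLinearGroup (Fin 2) K := fun p =>
    if p.1 then Matrix.SpecialLinearGroup.transvection (show (0 : Fin 2) ≠ 1 by decide) p.2
    else Matrix.SpecialLinearGroup.transvection (show (1 : Fin 2) ≠ 0 by decide) p.2
  have hup : ∀ t : K, (m (true, t) : Matrix (Fin 2) (Fin 2) K) = !![1, t; 0, 1] := fun t => by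
    show Matrix.transvection (0 : Fin 2) 1 t = _
    ext i j; fin_cases i <;> fin_cases j <;> simp [Matrix.transvection]
  have hlo : ∀ t : K, (m (false, t) : Matrix (Fin 2) (Fin 2) K) = !![1, 0; t, 1] := fun t => by
    show Matrix.transvection (1 : Fin 2) 0 t = _
    ext i j; fin_cases i <;> fin_cases j <;> simp [Matrix.transvection]
  have hm : ∀ r ∈ rels, FreeGroup.lift m r = 1 := by
    rintro r (⟨b, t, u, rfl⟩ | ⟨b, t, u, ht, rfl⟩)
    · simp only [map_mul, map_inv, FreeGroup.lift_apply_of, mul_inv_eq_one]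
      apply Subtype.ext
      rw [Matrix.SpecialLinearGroup.coe_mul]
      cases b <;> simp [hup, hlo, Matrix.mul_fin_two, add_comm]
    · simp only [map_mul, map_inv, FreeGroup.lift_apply_of, mul_inv_eq_iff_eq_mul, one_mul]
      apply Subtype.ext
      simp only [Matrix.SpecialLinearGroup.coe_mul]
      cases b <;>
      · simp only [Bool.not_true, Bool.not_false, hup, hlo, Matrix.mul_fin_two]
        ext i j; fin_cases i <;> fin_cases j <;> simp <;> field_simp <;> (try ring) <;> (try simp) <;> (try tauto)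
  let x : K → PresentedGroup rels := fun t => PresentedGroup.of (true, t)
  let y : K → PresentedGroup rels := fun t => PresentedGroup.of (false, t)
  have R : Cfsg.Lib.SLTwoPres.Rel x y := by
    refine ⟨fun a b => ?_, fun a b => ?_, fun t u ht => ?_, ?_⟩
    · have h := PresentedGroup.one_of_mem (rels := rels) (Or.inl ⟨true, a, b, rfl⟩)
      simp only [map_mul, map_inv] at h
      exact mul_inv_eq_one.1 h
    · have h := PresentedGroup.one_of_mem (rels := rels) (Or.inl ⟨false, a, b, rfl⟩)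
      simp only [map_mul, map_inv] at h
      exact mul_inv_eq_one.1 h
    · have h := PresentedGroup.one_of_mem (rels := rels) (Or.inr ⟨true, t, u, ht, rfl⟩)
      simp only [map_mul, map_inv] at h
      exact mul_inv_eq_one.1 h
    · rw [← top_le_iff, ← PresentedGroup.closure_range_of rels, Subgroup.closure_le]
      rintro _ ⟨⟨b, t⟩, rfl⟩
      cases b
      · exact Subgroup.subset_closure (Or.inr ⟨t, rfl⟩)
      · exact Subgroup.subset_closure (Or.inl ⟨t, rfl⟩)
  obtain ⟨hfin, hle⟩ := R.card_le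
  let φ := PresentedGroup.toGroup hm
  have hsurj : Function.Surjective φ := by
    rw [← MonoidHom.range_eq_top]
    refine Cfsg.Lib.Classical.eq_top_of_transvection_mem _ fun i j hij c => ?_
    fin_cases i <;> fin_cases j <;> first | (exfalso; exact hij rfl) | skip
    · exact ⟨PresentedGroup.of (true, c), PresentedGroup.toGroup.of hm⟩
    · exact ⟨PresentedGroup.of (false, c), PresentedGroup.toGroup.of hm⟩
  rw [← Cfsg.Lib.Classical.SLTwoTori.card_SL2] at hle
  have hbij : Function.Bijective φ :=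
    (Nat.bijective_iff_surjective_and_card φ).2 ⟨hsurj, le_antisymm hle (Nat.card_le_card_of_surjective φ hsurj)⟩
  refine ⟨MulEquiv.ofBijective φ hbij, fun t => ?_, fun t => ?_⟩
  · show ((φ (PresentedGroup.of (true, t))) : Matrix (Fin 2) (Fin 2) K) = _
    rw [PresentedGroup.toGroup.of]; exact hup t
  · show ((φ (PresentedGroup.of (false, t))) : Matrix (Fin 2) (Fin 2) K) = _
    rw [PresentedGroup.toGroup.of]; exact hlo t

end Cfsg.Agent.S2426
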