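import Cfsg.Statements.S2401
import Cfsg.Agent.Known.StN.Kernel
import Cfsg.Agent.Classical.SL

set_option autoImplicit false
open Cfsg

namespace Cfsg.Agent.S2401

/-- The relations. -/
private def rels (K : Type*) [Field K] (n : ℕ) : Set (FreeGroup ({ij : Fin n × Fin n // ij.1 ≠ ij.2} × K)) :=
        ({g : FreeGroup ({ij : Fin n × Fin n // ij.1 ≠ ij.2} × K) | ∃ (a : {ij : Fin n × Fin n // ij.1 ≠ ij.2}) (t u : K),
            g = FreeGroup.of (a, t) * FreeGroup.of (a, u) * (FreeGroup.of (a, t + u))⁻¹} ∪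
          {g | ∃ (a b : {ij : Fin n × Fin n // ij.1 ≠ ij.2}) (t u : K), a.1.1 ≠ b.1.2 ∧ a.1.2 ≠ b.1.1 ∧
            g = FreeGroup.of (a, t) * FreeGroup.of (b, u) * (FreeGroup.of (a, t))⁻¹ * (FreeGroup.of (b, u))⁻¹} ∪
          {g | ∃ (a b : {ij : Fin n × Fin n // ij.1 ≠ ij.2}) (h : a.1.1 ≠ b.1.2) (t u : K), a.1.2 = b.1.1 ∧
            g = FreeGroup.of (a, t) * FreeGroup.of (b, u) * (FreeGroup.of (a, t))⁻¹ * (FreeGroup.of (b, u))⁻¹ *
              (FreeGroup.of (⟨(a.1.1, b.1.2), h⟩, t * u))⁻¹})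

/-- The Steinberg presentation of `SL_n` over a finite field for `n ≥ 3`: the group generated by symbols `x_ij(t)` (`i ≠ j`, `t` in the field) subject to `x_ij(t) x_ij(u) = x_ij(t + u)` and, for `i ≠ l`, `x_ij(t) x_kl(u) x_ij(t)⁻¹ x_kl(u)⁻¹ = x_il(tu)` if `j = k` and `= 1` if `j ≠ k`, is isomorphic to `SL_n` by an isomorphism sending `x_ij(t)` to the elementary matrix `1 + t E_ij`. -/
theorem result {K : Type*} [Field K] [Finite K] (n : ℕ) (hn : 3 ≤ n) :
    ∃ e : PresentedGroup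
        ({g : FreeGroup ({ij : Fin n × Fin n // ij.1 ≠ ij.2} × K) | ∃ (a : {ij : Fin n × Fin n // ij.1 ≠ ij.2}) (t u : K),
            g = FreeGroup.of (a, t) * FreeGroup.of (a, u) * (FreeGroup.of (a, t + u))⁻¹} ∪
          {g | ∃ (a b : {ij : Fin n × Fin n // ij.1 ≠ ij.2}) (t u : K), a.1.1 ≠ b.1.2 ∧ a.1.2 ≠ b.1.1 ∧
            g = FreeGroup.of (a, t) * FreeGroup.of (b, u) * (FreeGroup.of (a, t))⁻¹ * (FreeGroup.of (b, u))⁻¹} ∪
          {g | ∃ (a b : {ij : Fin n × Fin n // ij.1 ≠ ij.2}) (h : a.1.1 ≠ b.1.2) (t u : K), a.1.2 = b.1.1 ∧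
            g = FreeGroup.of (a, t) * FreeGroup.of (b, u) * (FreeGroup.of (a, t))⁻¹ * (FreeGroup.of (b, u))⁻¹ *
              (FreeGroup.of (⟨(a.1.1, b.1.2), h⟩, t * u))⁻¹}) ≃* Matrix.SpecialLinearGroup (Fin n) K,
      ∀ (a : {ij : Fin n × Fin n // ij.1 ≠ ij.2}) (t : K), ((e (PresentedGroup.of (a, t)) : Matrix (Fin n) (Fin n) K)) = Matrix.transvection a.1.1 a.1.2 t := by
  classical
  suffices H : ∃ e : PresentedGroup (rels K n) ≃* Matrix.SpecialLinearGroup (Fin n) K,
      ∀ (a : {ij : Fin n × Fin n // ij.1 ≠ ij.2}) (t : K),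
        ((e (PresentedGroup.of (a, t)) : Matrix (Fin n) (Fin n) K)) = Matrix.transvection a.1.1 a.1.2 t from H
  obtain ⟨R, hR⟩ : ∃ R, R = rels K n := ⟨_, rfl⟩
  rw [← hR]
  let X : Fin n → Fin n → K → PresentedGroup R := fun i j t =>
    if h : i ≠ j then PresentedGroup.of (⟨(i, j), h⟩, t) else 1
  have hX : ∀ (i j : Fin n) (h : i ≠ j) (t : K), X i j t = PresentedGroup.mk R (FreeGroup.of (⟨(i, j), h⟩, t)) :=
    fun i j h t => by simp only [X, dif_pos h]; rfl
  have hrel : ∀ r ∈ R, PresentedGroup.mk R r = 1 := fun r hr => PresentedGroup.one_of_mem hr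
  have h : Cfsg.Lib.StN.Rels X := by
    refine ⟨fun i j hij t u => ?_, fun i j k l hij hkl hil hjk t u => ?_, fun i j l hij hjl hil t u => ?_⟩
    · rw [hX i j hij, hX i j hij, hX i j hij]
      have e := hrel _ (by rw [hR]; exact Or.inl (Or.inl ⟨⟨(i, j), hij⟩, t, u, rfl⟩))
      rwa [map_mul, map_mul, map_inv, mul_inv_eq_one] at e
    · rw [hX i j hij, hX k l hkl]
      have e := hrel _ (by rw [hR]; exact Or.inl (Or.inr ⟨⟨(i, j), hij⟩, ⟨(k, l), hkl⟩, t, u, hil, hjk, rfl⟩))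
      simp only [map_mul, map_inv] at e
      rwa [mul_inv_eq_one, mul_inv_eq_iff_eq_mul] at e
    · rw [hX i j hij, hX j l hjl, hX i l hil, commutatorElement_def]
      have e := hrel _ (by rw [hR]; exact Or.inr ⟨⟨(i, j), hij⟩, ⟨(j, l), hjl⟩, hil, t, u, rfl, rfl⟩)
      simp only [map_mul, map_inv] at e
      rwa [mul_inv_eq_one] at e
  let f : {ij : Fin n × Fin n // ij.1 ≠ ij.2} × K → Matrix.SpecialLinearGroup (Fin n) K :=
    fun x => ⟨Matrix.transvection x.1.1.1 x.1.1.2 x.2, Matrix.det_transvection_of_ne _ _ x.1.2 _⟩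
  have hadd : ∀ (i j : Fin n), i ≠ j → ∀ t u : K,
      Matrix.transvection i j t * Matrix.transvection i j u = Matrix.transvection i j (t + u) :=
    fun i j h t u => Matrix.transvection_mul_transvection_same i j h t u
  have hinv : ∀ x, (f x)⁻¹ = f (x.1, -x.2) := fun x => inv_eq_of_mul_eq_one_right (Subtype.ext (by
    show Matrix.transvection _ _ _ * Matrix.transvection _ _ _ = 1
    rw [hadd _ _ x.1.2, add_neg_cancel, Matrix.transvection_zero]))
  have hf : ∀ r ∈ R, FreeGroup.lift f r = 1 := by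
    intro r hr
    rw [hR] at hr
    rcases hr with ((⟨⟨⟨i, j⟩, hij⟩, t, u, rfl⟩ | ⟨⟨⟨i, j⟩, hij⟩, ⟨⟨k, l⟩, hkl⟩, t, u, h1, h2, rfl⟩) |
      ⟨⟨⟨i, j⟩, hij⟩, ⟨⟨k, l⟩, hkl⟩, hil, t, u, h2, rfl⟩)
    · simp only [map_mul, map_inv, FreeGroup.lift_apply_of, mul_inv_eq_one]
      exact Subtype.ext (hadd i j hij t u)
    · simp only [map_mul, map_inv, FreeGroup.lift_apply_of]
      rw [mul_inv_eq_one, mul_inv_eq_iff_eq_mul]
      refine Subtype.ext ?_
      show Matrix.transvection i j t * Matrix.transvection k l u = Matrix.transvection k l u * Matrix.transvection i j t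
      simp only [Matrix.transvection, add_mul, mul_add, one_mul, mul_one]
      rw [Matrix.single_mul_single_of_ne (h := h2), Matrix.single_mul_single_of_ne (h := h1.symm)]
      abel
    · simp only at h2
      subst h2
      simp only [map_mul, map_inv, FreeGroup.lift_apply_of]
      rw [mul_inv_eq_one, mul_inv_eq_iff_eq_mul, mul_inv_eq_iff_eq_mul]
      refine Subtype.ext ?_
      have hlj : l ≠ j := fun e => hkl e.symm
      have hli : l ≠ i := fun e => hil e.symm
      show Matrix.transvection i j t * Matrix.transvection j l u =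
        Matrix.transvection i l (t * u) * Matrix.transvection j l u * Matrix.transvection i j t
      have z1 : ∀ a b : K, Matrix.single i l a * Matrix.single j l b = 0 := fun a b =>
        Matrix.single_mul_single_of_ne _ _ _ _ hlj _
      have z2 : ∀ a b : K, Matrix.single i l a * Matrix.single i j b = 0 := fun a b =>
        Matrix.single_mul_single_of_ne _ _ _ _ hli _
      have z3 : ∀ a b : K, Matrix.single j l a * Matrix.single i j b = 0 := fun a b =>
        Matrix.single_mul_single_of_ne _ _ _ _ hli _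
      simp only [Matrix.transvection, add_mul, mul_add, one_mul, mul_one, Matrix.single_mul_single_same,
        z1, z2, z3, add_zero]
      abel
  let φ : PresentedGroup R →* Matrix.SpecialLinearGroup (Fin n) K := PresentedGroup.toGroup hf
  have hφ : ∀ i j, i ≠ j → ∀ t, (φ (X i j t) : Matrix (Fin n) (Fin n) K) = Matrix.transvection i j t := by
    intro i j hij t
    simp only [X, dif_pos hij, φ, PresentedGroup.toGroup.of]
    rfl
  have hgen : Subgroup.closure {g | ∃ (i j : Fin n) (t : K), i ≠ j ∧ g = X i j t} = ⊤ := by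
    rw [eq_top_iff, ← PresentedGroup.closure_range_of]
    refine Subgroup.closure_mono ?_
    rintro _ ⟨⟨⟨⟨i, j⟩, hij⟩, t⟩, rfl⟩
    exact ⟨i, j, t, hij, (hX i j hij t).symm⟩
  have hinj := Cfsg.Lib.StN.kernel_eq_bot h φ hφ hn hgen
  have hsurj : Function.Surjective φ := by
    refine MonoidHom.range_eq_top.1 (Cfsg.Lib.Classical.eq_top_of_transvection_mem _ fun i j hij t => ⟨X i j t, ?_⟩)
    exact Subtype.ext (hφ i j hij t)
  refine ⟨MulEquiv.ofBijective φ ⟨hinj, hsurj⟩, fun a t => ?_⟩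
  show ((φ (PresentedGroup.of (a, t))) : Matrix (Fin n) (Fin n) K) = _
  simp only [φ, PresentedGroup.toGroup.of]
  rfl

end Cfsg.Agent.S2401
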