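import Cfsg.Statements.S3961
import Cfsg.Agent.Schur.Perfect

set_option autoImplicit false
universe u v
open Cfsg

namespace Cfsg.Agent.S3961

/-- Let `π : G →* Q` be a surjective homomorphism with central kernel from a finite perfect group `G` (a perfect cover of `Q`). Then `π` is universal, in the sense that every surjective homomorphism `ξ : X →* Q` with central kernel from a group `X` in the universe of `G` admits a homomorphism `η : G →* X` with `ξ ∘ η = π`, if and only if `G` has trivial Schur multiplier. -/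
theorem result {G : Type u} {Q : Type v} [Group G] [Group Q] [Finite G] (hG : Group.IsPerfect G) (π : G →* Q) (hπ : Function.Surjective π) (hker : π.ker ≤ Subgroup.center G) : (∀ (X : Type u) [Group X] (ξ : X →* Q), Function.Surjective ξ → ξ.ker ≤ Subgroup.center X → ∃ η : G →* X, ξ.comp η = π) ↔ Cfsg.HasCyclicSchurMultiplier G 1 := by
  refine ⟨fun h => ?_, fun h X _ ξ hs hc => ?_⟩
  · refine Cfsg.Lib.Schur.hasCyclicSchurMultiplier_one_of fun X _ _ θ hθ => ?_
    obtain ⟨hθs, hθc, hθd⟩ := hθ
    have hX : Group.IsPerfect X := by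
      rw [Group.isPerfect_def, eq_top_iff]
      intro x _
      have h' : θ x ∈ (commutator X).map θ := by
        rw [commutator_def, Subgroup.map_commutator, Subgroup.map_top_of_surjective _ hθs,
          ← commutator_def, Group.isPerfect_def.mp hG]
        trivial
      obtain ⟨y, hy, e⟩ := h'
      have : y⁻¹ * x ∈ commutator X := hθd (by simp [MonoidHom.mem_ker, e])
      simpa using mul_mem hy this
    have hc : (π.comp θ).ker ≤ Subgroup.center X := by
      intro k hk
      rw [Subgroup.mem_center_iff]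
      have hz : ∀ x : X, x * k * x⁻¹ * k⁻¹ ∈ θ.ker := fun x => by
        have hcen := Subgroup.mem_center_iff.mp (hker hk) (θ x)
        simp only [MonoidHom.mem_ker, map_mul, map_inv, hcen, mul_inv_cancel_right, mul_inv_cancel]
      let : CommGroup θ.ker :=
        { (inferInstance : Group θ.ker) with mul_comm := Cfsg.Lib.Schur.mul_comm_of_le_center hθc }
      let μ : X →* θ.ker := MonoidHom.mk' (fun x => ⟨_, hz x⟩) fun a b => Subtype.ext (by
        show a * b * k * (a * b)⁻¹ * k⁻¹ = (a * k * a⁻¹ * k⁻¹) * (b * k * b⁻¹ * k⁻¹)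
        rw [← Subgroup.mem_center_iff.mp (hθc (hz a)) (b * k * b⁻¹ * k⁻¹)]
        calc a * b * k * (a * b)⁻¹ * k⁻¹
            = a * (b * k * b⁻¹ * k⁻¹) * (k * a⁻¹ * k⁻¹) := by group
          _ = (b * k * b⁻¹ * k⁻¹) * a * (k * a⁻¹ * k⁻¹) := by
              rw [Subgroup.mem_center_iff.mp (hθc (hz b)) a]
          _ = _ := by group)
      intro x
      have h1 : x * k * x⁻¹ * k⁻¹ = 1 := congrArg Subtype.val (Abelianization.commutator_subset_ker μ
        (show x ∈ commutator X by rw [Group.isPerfect_def.mp hX]; trivial))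
      rw [mul_inv_eq_one, mul_inv_eq_iff_eq_mul] at h1
      exact h1
    obtain ⟨η, hη⟩ := h X (π.comp θ) (hπ.comp hθs) hc
    have hid : θ.comp η = MonoidHom.id G :=
      Cfsg.Lib.Schur.lift_unique hG π hker (by rw [← MonoidHom.comp_assoc, hη, MonoidHom.comp_id])
    have hη' : ∀ g, θ (η g) = g := fun g => DFunLike.congr_fun hid g
    have htop : commutator X ≤ η.range := by
      rw [commutator_def, Subgroup.commutator_le]
      intro a _ b _
      rw [Cfsg.Lib.Schur.comm_congr θ hθc (hη' (θ a)).symm (hη' (θ b)).symm, ← map_commutatorElement]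
      exact ⟨_, rfl⟩
    refine (Subgroup.eq_bot_iff_forall _).mpr fun k hk => ?_
    obtain ⟨g, rfl⟩ := htop (show k ∈ commutator X by rw [Group.isPerfect_def.mp hX]; trivial)
    rw [MonoidHom.mem_ker, hη'] at hk
    rw [hk, map_one]
  · have hcanon := Cfsg.Lib.Schur.canon_surjective G
    let P : Subgroup (G × X) :=
      (π.comp (MonoidHom.fst G X)).eqLocus (ξ.comp (MonoidHom.snd G X))
    let f : P →* G := (MonoidHom.fst G X).comp P.subtype
    have hf : Function.Surjective f := fun g => by
      obtain ⟨x, hx⟩ := hs (π g)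
      exact ⟨⟨(g, x), hx.symm⟩, rfl⟩
    have hfc : f.ker ≤ Subgroup.center P := by
      rintro ⟨⟨g, x⟩, hgx⟩ hp
      have hg : g = 1 := hp
      subst hg
      have hx : ξ x = 1 := (hgx : π 1 = ξ x).symm.trans (map_one π)
      rw [Subgroup.mem_center_iff]
      rintro ⟨⟨g', x'⟩, -⟩
      exact Subtype.ext (Prod.ext ((mul_one g').trans (one_mul g').symm)
        (Subgroup.mem_center_iff.mp (hc hx) x'))
    obtain ⟨ψ, hψ⟩ := Cfsg.Lib.Schur.exists_lift (Cfsg.Lib.Schur.canon G) f hf hfc
    let p : commutator (Cfsg.Lib.Schur.E (Cfsg.Lib.Schur.canon G)) →* G :=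
      (Cfsg.Lib.Schur.proj (Cfsg.Lib.Schur.canon G)).comp (commutator _).subtype
    have hp : Function.Bijective p := by
      refine ⟨?_, Cfsg.Lib.Schur.proj_commutator_surjective hcanon hG⟩
      obtain ⟨e⟩ := (Cfsg.Lib.Schur.hasSchurMultiplier_iff hcanon).mp h
      have := Cfsg.Lib.Schur.subsingleton_zmod_one
      have : Subsingleton (Cfsg.Lib.Schur.M (Cfsg.Lib.Schur.canon G)) := e.symm.toEquiv.subsingleton
      rw [← MonoidHom.ker_eq_bot_iff, eq_bot_iff]
      intro x hx
      have h0 : (⟨x.1, hx, x.2⟩ : Cfsg.Lib.Schur.M (Cfsg.Lib.Schur.canon G)) = 1 :=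
        Subsingleton.elim _ _
      exact Subgroup.mem_bot.mpr (Subtype.ext (Subtype.ext_iff.mp h0 :))
    let e := MulEquiv.ofBijective p hp
    refine ⟨((MonoidHom.snd G X).comp P.subtype).comp (ψ.comp ((commutator _).subtype.comp
      e.symm.toMonoidHom)), MonoidHom.ext fun g => ?_⟩
    show ξ (ψ (e.symm g).1).1.2 = π g
    refine ((ψ (e.symm g).1).2 : π (ψ (e.symm g).1).1.1 = ξ _).symm.trans ?_
    show π (f (ψ (e.symm g).1)) = π g
    rw [← MonoidHom.comp_apply f, hψ]
    exact congrArg π (e.apply_symm_apply g)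

end Cfsg.Agent.S3961
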