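import Cfsg.Statements.S2086
import Cfsg.Agent.Known.StN.Lift
import Cfsg.Agent.Known.StLift.SLTwo
import Cfsg.Agent.Known.Laws
import Cfsg.Agent.S3961

set_option autoImplicit false
open Cfsg

namespace Cfsg.Agent.S2086

/-- Schur multipliers of the linear groups: for n ≥ 2 and a field F with q elements (q ≥ 4 when n = 2), apart from the five exceptional pairs (n, q) = (2, 4), (2, 9), (3, 2), (3, 4), (4, 2), the Schur multiplier of PSL_n(F) is cyclic of order gcd(n, q − 1); here the Schur multiplier is described through stem extensions, as in the definitions. -/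
theorem result {F : Type*} [Field F] [Fintype F] {q : ℕ} (hF : Fintype.card F = q) (n : ℕ) (hn : 2 ≤ n) (h2 : n = 2 → 4 ≤ q) (hexc : (n, q) ∉ ({(2, 4), (2, 9), (3, 2), (3, 4), (4, 2)} : Set (ℕ × ℕ))) : Cfsg.HasCyclicSchurMultiplier (Matrix.ProjectiveSpecialLinearGroup (Fin n) F) (Nat.gcd n (q - 1)) := by
  classical
  have : Nonempty (Fin n) := ⟨⟨0, by omega⟩⟩
  have hcard : Nat.card F = q := Nat.card_eq_fintype_card.trans hF
  simp only [Set.mem_insert_iff, Set.mem_singleton_iff, Prod.mk.injEq, not_or, not_and] at hexc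
  obtain ⟨e24, e29, e32, e34, e42⟩ := hexc
  have hperf : commutator (Matrix.SpecialLinearGroup (Fin n) F) = ⊤ := by
    rcases eq_or_lt_of_le hn with rfl | h3
    · exact Cfsg.Lib.Known.sl2_commutator_eq_top F (hF ▸ h2 rfl)
    · exact Cfsg.Lib.Classical.SL_commutator_eq_top (by rw [Fintype.card_fin]; omega)
  have hone : Cfsg.HasCyclicSchurMultiplier (Matrix.SpecialLinearGroup (Fin n) F) 1 := by
    refine Cfsg.Lib.Schur.hasCyclicSchurMultiplier_one_of fun Γ _ _ σ hσ => ?_
    rcases eq_or_lt_of_le hn with rfl | h3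
    · exact Cfsg.Lib.StLift.sl_two_ker_eq_bot (by have := h2 rfl; have := e24 rfl; omega) (by rw [hF]; exact e29 rfl) hσ
    · exact Cfsg.Lib.StN.sl_ker_eq_bot hσ.2.1 hσ.1 h3 (fun e => ⟨hcard ▸ e32 e, hcard ▸ e34 e⟩) (fun e => hcard ▸ e42 e) hσ
  let π : Matrix.SpecialLinearGroup (Fin n) F →* Matrix.ProjectiveSpecialLinearGroup (Fin n) F :=
    QuotientGroup.mk' _
  have hπ : Function.Surjective π := QuotientGroup.mk'_surjective _
  have hker : π.ker = Subgroup.center _ := QuotientGroup.ker_mk' _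
  have hcyc : IsCyclic (Subgroup.center (Matrix.SpecialLinearGroup (Fin n) F)) :=
    (Matrix.SpecialLinearGroup.center_equiv_rootsOfUnity' (Classical.arbitrary (Fin n))).symm.isCyclic.1
      inferInstance
  have hcπ : IsCyclic π.ker := (congrArg (fun H : Subgroup (Matrix.SpecialLinearGroup (Fin n) F) => IsCyclic H) hker).mpr hcyc
  have hk : Nat.card π.ker = Nat.gcd n (q - 1) := by
    rw [hker, Cfsg.Lib.Classical.card_center_SL, Fintype.card_fin, hcard]
  refine Cfsg.Lib.Schur.hasCyclicSchurMultiplier_of _ ⟨Matrix.SpecialLinearGroup (Fin n) F, inferInstance,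
    inferInstance, π, ⟨hπ, hker.le, by rw [hperf]; exact le_top⟩, hcπ, hk⟩ fun Γ _ _ σ hσ => ?_
  obtain ⟨η, hη⟩ := (Cfsg.Agent.S3961.result (Group.isPerfect_def.mpr hperf) π hπ hker.le).2 hone Γ σ hσ.1 hσ.2.1
  have hle : σ.ker ≤ π.ker.map η := by
    have hd : commutator Γ ≤ η.range := by
      rw [commutator_def, Subgroup.commutator_le]
      intro a _ b _
      obtain ⟨x, hx⟩ := hπ (σ a)
      obtain ⟨y, hy⟩ := hπ (σ b)
      rw [← hη] at hx hy
      rw [Cfsg.Lib.Schur.comm_congr σ hσ.2.1 hx.symm hy.symm, ← map_commutatorElement]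
      exact ⟨_, rfl⟩
    intro k hk
    obtain ⟨g, rfl⟩ := hd (hσ.2.2 hk)
    exact ⟨g, by rw [SetLike.mem_coe, MonoidHom.mem_ker, ← hη]; exact hk, rfl⟩
  have hcm : IsCyclic (π.ker.map η) :=
    isCyclic_of_surjective (η.subgroupMap π.ker) (MonoidHom.subgroupMap_surjective η π.ker)
  refine ⟨isCyclic_of_injective _ (Subgroup.inclusion_injective hle), ?_⟩
  rw [← hk]
  exact (Subgroup.card_dvd_of_le hle).trans (Subgroup.card_map_dvd _ _)

end Cfsg.Agent.S2086
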