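import Cfsg.Statements.S0283
import Mathlib
import Cfsg.Agent.Classical.Unitary.Matrix
import Cfsg.Agent.Classical.Unitary.Simple
import Cfsg.Agent.Classical.Symp.Matrix

set_option autoImplicit false
open Cfsg

namespace Cfsg.Agent.S0283

/-- PSU_n(q) is simple for n at least 3 and (n, q) other than (3, 2). -/
theorem result {F : Type*} [Field F] [Fintype F] {q : ℕ} (hF : Fintype.card F = q ^ 2) (n : ℕ) (hn : 3 ≤ n) (h : ¬ (n = 3 ∧ q = 2)) : IsSimpleGroup (Cfsg.PSU n F q) := by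
  have hd : 4 ≤ Module.finrank F (Fin n → F) ∨ (Module.finrank F (Fin n → F) = 3 ∧ 3 ≤ (Cfsg.Lib.Classical.stdHerm n hF).q) := by
    rw [Module.finrank_fin_fun, Cfsg.Lib.Classical.stdHerm_q]
    have := (Cfsg.Lib.Classical.stdHerm n hF).two_le_q
    rw [Cfsg.Lib.Classical.stdHerm_q] at this
    omega
  haveI := (Cfsg.Lib.Classical.stdHerm n hF).isSimpleGroup_SIsom_quotient hd
  exact (Cfsg.Lib.Classical.centerQuotCongr (Cfsg.Lib.Classical.suEquiv n hF)).symm.isSimpleGroup

end Cfsg.Agent.S0283
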