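import Cfsg.Statements.S2395
import Cfsg.Agent.Chev.St.Perfect

set_option autoImplicit false
open Cfsg
open Cfsg.Lib.Chev Cfsg.Lib.Chev.St

namespace Cfsg.Agent.S2395

/-- The group presented by Steinberg's generators x̄_r(t) subject only to (R1) (additivity) and (R2) (the commutator formula) is perfect, for each of the types G₂, B₂, D₄, F₄, E₆, E₇, E₈ over any field (for types B₂ and G₂ the field must have more than two elements — the cases where the Chevalley group is not simple are set aside). -/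
theorem result {K : Type*} [Field K] (D : Cfsg.Lie.ChevalleyDatum) (hD : D ∈ [Cfsg.Lie.chevG2, Cfsg.Lie.chevB2, Cfsg.Lie.chevD4, Cfsg.Lie.chevF4, Cfsg.Lie.chevE6, Cfsg.Lie.chevE7, Cfsg.Lie.chevE8]) (hK : D ∈ [Cfsg.Lie.chevB2, Cfsg.Lie.chevG2] → ∃ x : K, x ≠ 0 ∧ x ≠ 1) :
    commutator (D.SteinbergCover K) = ⊤ := by
  obtain ⟨C, S, hN, ok⟩ := Cfsg.Lib.Chev.St.exists_okSt hD
  have hθ₀ : ∀ r < D.nroots, ∀ t, toChev S (ab_subset (D := D)) (pgen (D.steinbergRelsAB K) r t) =
      S.ok.xG r t := fun r hr t => toChev_pgen S _ hr t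
  set θ₀ := toChev S (ab_subset (D := D) (K := K)) with hdef
  set P := presentedPres S hN ok (subset_refl (D.steinbergRelsAB K)) θ₀ hθ₀ with hP
  have hgen := presentedPres_gen_top S hN ok (subset_refl (D.steinbergRelsAB K)) θ₀ hθ₀
  obtain ⟨md, W, hW, hmd⟩ : ∃ md W, okPerfect D md W = true ∧ (md = true → ∃ a : K, a ≠ 0 ∧ a ≠ 1) := by
    simp only [List.mem_cons, List.not_mem_nil, or_false] at hD
    rcases hD with rfl | rfl | rfl | rfl | rfl | rfl | rfl
    · exact ⟨_, _, G2.perfect, fun _ => hK (by simp)⟩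
    · exact ⟨_, _, B2.perfect, fun _ => hK (by simp)⟩
    · exact ⟨_, _, D4.perfect, by simp⟩
    · exact ⟨_, _, F4.perfect, by simp⟩
    · exact ⟨_, _, E6.perfect, by simp⟩
    · exact ⟨_, _, E7.perfect, by simp⟩
    · exact ⟨_, _, E8.perfect, by simp⟩
  exact P.perfect hgen hW hmd

end Cfsg.Agent.S2395
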