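import Cfsg.Statements.S2396
import Cfsg.Agent.Chev.St.Present

set_option autoImplicit false
open scoped MatrixGroups
open Cfsg
open Cfsg.Lib.Chev Cfsg.Lib.Chev.St

namespace Cfsg.Agent.S2396

/-- For each of the types G₂, B₂, D₄, F₄, E₆, E₇, E₈ and any field `K` (for types B₂ and G₂ the field must have more than two elements — the cases where the Chevalley group is not simple are set aside), the group presented by the generators x̄_r(t) subject only to (R1) and (R2) maps onto the Chevalley group by x̄_r(t) ↦ x_r(t), and this homomorphism is a central extension: it is surjective with kernel contained in the centre. -/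
theorem result {K : Type*} [Field K] (D : Cfsg.Lie.ChevalleyDatum) (hD : D ∈ [Cfsg.Lie.chevG2, Cfsg.Lie.chevB2, Cfsg.Lie.chevD4, Cfsg.Lie.chevF4, Cfsg.Lie.chevE6, Cfsg.Lie.chevE7, Cfsg.Lie.chevE8]) (hK : D ∈ [Cfsg.Lie.chevB2, Cfsg.Lie.chevG2] → ∃ x : K, x ≠ 0 ∧ x ≠ 1) :
    ∃ θ : D.SteinbergCover K →* ↥(D.group K), Function.Surjective θ ∧ θ.ker ≤ Subgroup.center (D.SteinbergCover K) ∧
      ∀ (r : ℕ) (t : K), r < D.nroots → ((θ (D.scGen K r t) : GL D.Idx K) : Matrix D.Idx D.Idx K) = D.x K r t := by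
  obtain ⟨C, S, hN, ok⟩ := Cfsg.Lib.Chev.St.exists_okSt hD
  have hθ₀ : ∀ r < D.nroots, ∀ t, toChev S (ab_subset (D := D)) (pgen (D.steinbergRelsAB K) r t) =
      S.ok.xG r t := fun r hr t => toChev_pgen S _ hr t
  set θ₀ := toChev S (ab_subset (D := D) (K := K)) with hdef
  set P := presentedPres S hN ok (subset_refl (D.steinbergRelsAB K)) θ₀ hθ₀ with hP
  have hgen := presentedPres_gen_top S hN ok (subset_refl (D.steinbergRelsAB K)) θ₀ hθ₀
  have hran := range_eq_group P hgen
  refine ⟨θ₀.codRestrict (D.group K) fun g => hran ▸ ⟨g, rfl⟩, ?_, ?_, fun r t hr => ?_⟩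
  · rintro ⟨y, hy⟩
    rw [← hran] at hy
    obtain ⟨g, rfl⟩ := hy
    exact ⟨g, rfl⟩
  · rw [MonoidHom.ker_codRestrict]
    exact fun g hg => (P.kernel hgen hg).2
  · exact congrArg Units.val (hθ₀ r hr t)

end Cfsg.Agent.S2396
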