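import Cfsg.Statements.S3713
import Cfsg.Agent.Known.SpAmalgam.Assembly
import Cfsg.Agent.Known.SpAmalgam.Gen

set_option autoImplicit false
open Cfsg

namespace Cfsg.Agent.S3713

open Cfsg.Lib.SpPres Cfsg.Lib.SpAmalgam

open Cfsg.Lib.SpPres Cfsg.Lib.SpAmalgam in
theorem inj_of_agree {n : ℕ} {F H : Type*} [Field F] [Group H] {G : Subgroup (H × Sp n F)} {A : Subgroup (Sp n F)}
    (Ψ : A →* H) (L : Subgroup G) (s : Set G) (hL : L ≤ Subgroup.closure s)
    (hs : ∀ g ∈ s, ∃ h : (g : H × Sp n F).2 ∈ A, (g : H × Sp n F).1 = Ψ ⟨_, h⟩) :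
    Inj ((MonoidHom.snd H (Sp n F)).comp G.subtype) L := by
  intro g hg e
  have : Subgroup.closure s ≤ ((MonoidHom.prod Ψ A.subtype).range).comap G.subtype := by
    rw [Subgroup.closure_le]
    intro x hx
    obtain ⟨h, hh⟩ := hs x hx
    exact ⟨⟨_, h⟩, Prod.ext hh.symm rfl⟩
  obtain ⟨a, ha⟩ := this (hL hg)
  have ha2 : a = 1 := Subtype.ext (by
    have := congrArg Prod.snd ha
    exact this.trans e)
  refine Subtype.ext (ha.symm.trans ?_)
  rw [ha2, map_one]
  rfl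

open Cfsg.Lib.SpPres in
theorem single_mulVec {n : ℕ} {F : Type*} [Field F] {a b k : Sgn n} (h : Valid a b) (h1 : k ≠ op a) (h2 : k ≠ op b)
    (t : F) : ((T a b t : Sp n F) : Matrix (Sgn n) (Sgn n) F).mulVec (Pi.single k (1 : F)) = Pi.single k 1 :=
  (Cfsg.Lib.SpAmalgam.colOne_iff _ k).1 (Cfsg.Lib.SpAmalgam.colOne_T h h1 h2 t)

/-- A presentation of the symplectic group as the universal completion of an amalgam of small subgroups. Let F be a field with more than two elements, n ≥ 2, and Sp the group of 2n × 2n matrices over F preserving the standard alternating form, acting on column vectors; write e_k, f_k for the standard basis vectors of the two halves (a hyperbolic basis). For each k let S_k be the subgroup of Sp fixing e_l and f_l for all l ≠ k (a copy of SL(2, F) on the plane of e_k, f_k), and for each i with i + 1 < n let M_i be the subgroup fixing every e_l and fixing f_l for all l other than i, i+1 (an abelian group isomorphic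 to the additive group of F³). Then Sp is the universal completion of the amalgam formed by the S_k, the M_i and the subgroups generated by two of them: for every group H and homomorphisms σ_k : S_k → H, μ_i : M_i → H such that for each pair of these subgroups some homomorphism on the subgroup they generate restricts to the given ones, there is exactly one homomorphism Sp → H restricting to every σ_k and μ_i. -/
theorem result
    (F : Type*) [Field F] (hF : ∃ a : F, a ≠ 0 ∧ a ≠ 1) (n : ℕ) (hn : 2 ≤ n)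
    (S M : Fin n → Subgroup ↥(Matrix.symplecticGroup (Fin n) F))
    (hS : ∀ j : Fin n, S j = Subgroup.closure {A : ↥(Matrix.symplecticGroup (Fin n) F) | ∀ k : Fin n, k ≠ j →
      ((A : ↥(Matrix.symplecticGroup (Fin n) F)) : Matrix (Fin n ⊕ Fin n) (Fin n ⊕ Fin n) F).mulVec (Pi.single (Sum.inl k) (1 : F)) = (Pi.single (Sum.inl k) (1 : F)) ∧ ((A : ↥(Matrix.symplecticGroup (Fin n) F)) : Matrix (Fin n ⊕ Fin n) (Fin n ⊕ Fin n) F).mulVec (Pi.single (Sum.inr k) (1 : F)) = (Pi.single (Sum.inr k) (1 : F))})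
    (hM : ∀ i : Fin n, (i : ℕ) + 1 < n → M i = Subgroup.closure {A : ↥(Matrix.symplecticGroup (Fin n) F) |
      (∀ k : Fin n, ((A : ↥(Matrix.symplecticGroup (Fin n) F)) : Matrix (Fin n ⊕ Fin n) (Fin n ⊕ Fin n) F).mulVec (Pi.single (Sum.inl k) (1 : F)) = (Pi.single (Sum.inl k) (1 : F))) ∧
        ∀ k : Fin n, (k : ℕ) ≠ i → (k : ℕ) ≠ (i : ℕ) + 1 → ((A : ↥(Matrix.symplecticGroup (Fin n) F)) : Matrix (Fin n ⊕ Fin n) (Fin n ⊕ Fin n) F).mulVec (Pi.single (Sum.inr k) (1 : F)) = (Pi.single (Sum.inr k) (1 : F))})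
    {H : Type*} [Group H] (σ : ∀ j : Fin n, ↥(S j) →* H) (μ : ∀ i : Fin n, ↥(M i) →* H)
    (hSS : ∀ j l : Fin n, j ≠ l → ∃ Ψ : ↥(S j ⊔ S l) →* H,
      (∀ (g : ↥(Matrix.symplecticGroup (Fin n) F)) (hg : g ∈ S j), Ψ ⟨g, Subgroup.mem_sup_left hg⟩ = σ j ⟨g, hg⟩) ∧
        (∀ (g : ↥(Matrix.symplecticGroup (Fin n) F)) (hg : g ∈ S l), Ψ ⟨g, Subgroup.mem_sup_right hg⟩ = σ l ⟨g, hg⟩))
    (hMM : ∀ i i' : Fin n, i ≠ i' → (i : ℕ) + 1 < n → (i' : ℕ) + 1 < n → ∃ Ψ : ↥(M i ⊔ M i') →* H,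
      (∀ (g : ↥(Matrix.symplecticGroup (Fin n) F)) (hg : g ∈ M i), Ψ ⟨g, Subgroup.mem_sup_left hg⟩ = μ i ⟨g, hg⟩) ∧
        (∀ (g : ↥(Matrix.symplecticGroup (Fin n) F)) (hg : g ∈ M i'), Ψ ⟨g, Subgroup.mem_sup_right hg⟩ = μ i' ⟨g, hg⟩))
    (hMS : ∀ i j : Fin n, (i : ℕ) + 1 < n → ∃ Ψ : ↥(M i ⊔ S j) →* H,
      (∀ (g : ↥(Matrix.symplecticGroup (Fin n) F)) (hg : g ∈ M i), Ψ ⟨g, Subgroup.mem_sup_left hg⟩ = μ i ⟨g, hg⟩) ∧
        (∀ (g : ↥(Matrix.symplecticGroup (Fin n) F)) (hg : g ∈ S j), Ψ ⟨g, Subgroup.mem_sup_right hg⟩ = σ j ⟨g, hg⟩)) :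
    ∃! Φ : ↥(Matrix.symplecticGroup (Fin n) F) →* H,
      (∀ (j : Fin n) (g : ↥(Matrix.symplecticGroup (Fin n) F)) (hg : g ∈ S j), Φ g = σ j ⟨g, hg⟩) ∧
        (∀ (i : Fin n), (i : ℕ) + 1 < n → ∀ (g : ↥(Matrix.symplecticGroup (Fin n) F)) (hg : g ∈ M i), Φ g = μ i ⟨g, hg⟩) := by
  classical
  have memS : ∀ (a : Sgn n) (t : F), T a a t ∈ S (mag a) := fun a t => by
    rw [hS]
    refine Subgroup.subset_closure fun k hk => ⟨?_, ?_⟩ <;>
      refine single_mulVec (valid_self a) ?_ ?_ t <;> intro e <;> refine hk ?_ <;>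
      (have := congrArg mag e; rwa [mag_op] at this)
  have memM : ∀ (i : Fin n), (i : ℕ) + 1 < n → ∀ (a b : Fin n), ((a : ℕ) = i ∨ (a : ℕ) = i + 1) →
      ((b : ℕ) = i ∨ (b : ℕ) = i + 1) → Valid (Sum.inl a) (Sum.inl b : Sgn n) → ∀ t : F,
      T (Sum.inl a) (Sum.inl b) t ∈ M i := fun i hi a b ha hb hv t => by
    rw [hM i hi]
    refine Subgroup.subset_closure ⟨fun k => single_mulVec hv (by simp [op]) (by simp [op]) t, fun k h1 h2 => ?_⟩
    refine single_mulVec hv (fun e => ?_) (fun e => ?_) t <;>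
      simp [op] at e <;> subst e <;> omega
  obtain ⟨u, hu⟩ : ∃ u : Sgn n → F → H, ∀ a t, u a t = σ (mag a) ⟨T a a t, memS a t⟩ := ⟨_, fun _ _ => rfl⟩
  have uM : ∀ (i : Fin n) (hi : (i : ℕ) + 1 < n) (a : Fin n) (ha : (a : ℕ) = i ∨ (a : ℕ) = i + 1) (t : F),
      μ i ⟨T (Sum.inl a) (Sum.inl a) t, memM i hi a a ha ha (valid_self _) t⟩ = u (Sum.inl a) t := fun i hi a ha t => by
    obtain ⟨Ψ, h1, h2⟩ := hMS i a hi
    rw [hu]
    exact ((h1 _ (memM i hi a a ha ha (valid_self _) t)).symm).trans (h2 _ (memS (Sum.inl a) t))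
  let A : Fin n → Fin n → Prop := fun i j => (i : ℕ) + 1 = j ∨ (j : ℕ) + 1 = i
  let low : Fin n → Fin n → Fin n := fun i j => if (i : ℕ) ≤ j then i else j
  have low_lt : ∀ {i j}, A i j → (low i j : ℕ) + 1 < n := fun {i j} h => by
    have := i.isLt; have := j.isLt
    rcases h with h | h <;> simp only [low] <;> split_ifs <;> omega
  have low_in : ∀ {i j}, A i j → ((i : ℕ) = low i j ∨ (i : ℕ) = low i j + 1) ∧
      ((j : ℕ) = low i j ∨ (j : ℕ) = low i j + 1) := fun {i j} h => by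
    rcases h with h | h <;> simp only [low] <;> split_ifs <;> omega
  have Ane : ∀ {i j}, A i j → i ≠ j := fun {i j} h e => by subst e; rcases h with h | h <;> omega
  have low_symm : ∀ {i j}, A i j → low i j = low j i := fun {i j} h => by
    rcases h with h | h <;> simp only [low] <;> split_ifs <;> omega
  obtain ⟨x, hx⟩ : ∃ x : Fin n → Fin n → F → H, ∀ i j (h : A i j) t,
      x i j t = μ (low i j) ⟨T (Sum.inl i) (Sum.inl j) t,
        memM _ (low_lt h) i j (low_in h).1 (low_in h).2 (vll (Ane h)) t⟩ :=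
    ⟨fun i j t => if h : A i j then μ (low i j) ⟨T (Sum.inl i) (Sum.inl j) t,
        memM _ (low_lt h) i j (low_in h).1 (low_in h).2 (vll (Ane h)) t⟩ else 1, fun i j h t => dif_pos h⟩
  have μc : ∀ (a b : Fin n) (g g' : Sp n F) (ha : g ∈ M a) (hb : g' ∈ M b), a = b → g = g' →
      μ a ⟨g, ha⟩ = μ b ⟨g', hb⟩ := by intros; subst_vars; rfl
  -- the graph
  let gens : Set (H × Sp n F) := {g | ∃ a t, g = (u a t, T a a t)} ∪
    {g | ∃ i j t, A i j ∧ g = (x i j t, T (Sum.inl i) (Sum.inl j) t)}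
  obtain ⟨G, hG⟩ : ∃ G : Subgroup (H × Sp n F), G = Subgroup.closure gens := ⟨_, rfl⟩
  let uG : Sgn n → F → G := fun a t => ⟨(u a t, T a a t), hG ▸ Subgroup.subset_closure (Or.inl ⟨a, t, rfl⟩)⟩
  let XG : Fin n → Fin n → F → G := fun i j t => if h : A i j then ⟨(x i j t, T (Sum.inl i) (Sum.inl j) t),
    hG ▸ Subgroup.subset_closure (Or.inr ⟨i, j, t, h, rfl⟩)⟩ else 1
  let Φ : G →* Sp n F := (MonoidHom.snd H (Sp n F)).comp G.subtype
  have XG_eq : ∀ {i j}, A i j → ∀ t, (XG i j t : H × Sp n F) = (x i j t, T (Sum.inl i) (Sum.inl j) t) :=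
    fun h t => by simp only [XG, dif_pos h]
  have agreeS : ∀ (i : Fin n) (K : Subgroup (Sp n F)) (Ψ : K →* H),
      (∀ g (hg : g ∈ S i), ∃ h : g ∈ K, Ψ ⟨g, h⟩ = σ i ⟨g, hg⟩) →
      ∀ g ∈ Set.range (uG (Sum.inl i)) ∪ Set.range (uG (Sum.inr i)),
        ∃ h : (g : H × Sp n F).2 ∈ K, (g : H × Sp n F).1 = Ψ ⟨_, h⟩ := by
    rintro i K Ψ hK g (⟨t, rfl⟩ | ⟨t, rfl⟩)
    · obtain ⟨h, e⟩ := hK _ (memS (Sum.inl i) t); exact ⟨h, (hu _ t).trans e.symm⟩
    · obtain ⟨h, e⟩ := hK _ (memS (Sum.inr i) t); exact ⟨h, (hu _ t).trans e.symm⟩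
  have agreeM : ∀ (i j : Fin n) (h : A i j) (K : Subgroup (Sp n F)) (Ψ : K →* H),
      (∀ g (hg : g ∈ M (low i j)), ∃ h' : g ∈ K, Ψ ⟨g, h'⟩ = μ (low i j) ⟨g, hg⟩) →
      ∀ g ∈ Set.range (XG i j) ∪ Set.range (uG (Sum.inl i)) ∪ Set.range (uG (Sum.inl j)),
        ∃ h' : (g : H × Sp n F).2 ∈ K, (g : H × Sp n F).1 = Ψ ⟨_, h'⟩ := by
    rintro i j h K Ψ hK g ((⟨t, rfl⟩ | ⟨t, rfl⟩) | ⟨t, rfl⟩)
    · obtain ⟨h', e⟩ := hK _ (memM _ (low_lt h) i j (low_in h).1 (low_in h).2 (vll (Ane h)) t)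
      rw [XG_eq h]
      exact ⟨h', (hx i j h t).trans e.symm⟩
    · obtain ⟨h', e⟩ := hK _ (memM _ (low_lt h) i i (low_in h).1 (low_in h).1 (valid_self _) t)
      exact ⟨h', ((uM _ (low_lt h) i (low_in h).1 t).symm).trans e.symm⟩
    · obtain ⟨h', e⟩ := hK _ (memM _ (low_lt h) j j (low_in h).2 (low_in h).2 (valid_self _) t)
      exact ⟨h', ((uM _ (low_lt h) j (low_in h).2 t).symm).trans e.symm⟩
  let P : Pieces Φ :=
    { A := A
      symm := fun h => Or.symm h
      ne := Ane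
      u := uG
      X := XG
      Xsymm := fun {i j} h => funext fun t => Subtype.ext (by
        rw [XG_eq h, XG_eq (Or.symm h), hx i j h, hx j i (Or.symm h)]
        exact Prod.ext (μc _ _ _ _ _ _ (low_symm h) (T_comm _ _ _)) (T_comm (Sum.inl i) (Sum.inl j) t))
      hu := fun a t => rfl
      hX := fun {i j} h t => congrArg Prod.snd (XG_eq h t)
      injSS := fun i j => by
        by_cases hij : i = j
        · subst hij
          refine inj_of_agree (σ i) _ _ (sup_le le_rfl le_rfl) ?_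
          exact agreeS i _ (σ i) fun g hg => ⟨hg, rfl⟩
        · obtain ⟨Ψ, h1, h2⟩ := hSS i j hij
          refine inj_of_agree Ψ _ ((Set.range (uG (Sum.inl i)) ∪ Set.range (uG (Sum.inr i))) ∪
            (Set.range (uG (Sum.inl j)) ∪ Set.range (uG (Sum.inr j))))
            (sup_le (Subgroup.closure_mono Set.subset_union_left) (Subgroup.closure_mono Set.subset_union_right)) ?_
          rintro g (hg | hg)
          · exact agreeS i _ Ψ (fun g hg => ⟨_, h1 g hg⟩) g hg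
          · exact agreeS j _ Ψ (fun g hg => ⟨_, h2 g hg⟩) g hg
      injMS := fun {i j} h k => by
        obtain ⟨Ψ, h1, h2⟩ := hMS (low i j) k (low_lt h)
        refine inj_of_agree Ψ _ ((Set.range (XG i j) ∪ Set.range (uG (Sum.inl i)) ∪ Set.range (uG (Sum.inl j))) ∪
          (Set.range (uG (Sum.inl k)) ∪ Set.range (uG (Sum.inr k))))
          (sup_le (Subgroup.closure_mono Set.subset_union_left) (Subgroup.closure_mono Set.subset_union_right)) ?_
        rintro g (hg | hg)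
        · exact agreeM i j h _ Ψ (fun g hg => ⟨_, h1 g hg⟩) g hg
        · exact agreeS k _ Ψ (fun g hg => ⟨_, h2 g hg⟩) g hg
      injMM := fun {i j k l} h h' => by
        have key : ∃ (K : Subgroup (Sp n F)) (Ψ : K →* H),
            (∀ g (hg : g ∈ M (low i j)), ∃ e : g ∈ K, Ψ ⟨g, e⟩ = μ (low i j) ⟨g, hg⟩) ∧
            (∀ g (hg : g ∈ M (low k l)), ∃ e : g ∈ K, Ψ ⟨g, e⟩ = μ (low k l) ⟨g, hg⟩) := by
          by_cases e : low i j = low k l
          · rw [← e]
            exact ⟨_, μ (low i j), fun g hg => ⟨hg, rfl⟩, fun g hg => ⟨hg, rfl⟩⟩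
          · obtain ⟨Ψ, h1, h2⟩ := hMM _ _ e (low_lt h) (low_lt h')
            exact ⟨_, Ψ, fun g hg => ⟨_, h1 g hg⟩, fun g hg => ⟨_, h2 g hg⟩⟩
        obtain ⟨K, Ψ, h1, h2⟩ := key
        refine inj_of_agree Ψ _ ((Set.range (XG i j) ∪ Set.range (uG (Sum.inl i)) ∪ Set.range (uG (Sum.inl j))) ∪
          (Set.range (XG k l) ∪ Set.range (uG (Sum.inl k)) ∪ Set.range (uG (Sum.inl l))))
          (sup_le (Subgroup.closure_mono Set.subset_union_left) (Subgroup.closure_mono Set.subset_union_right)) ?_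
        rintro g (hg | hg)
        · exact agreeM i j h _ Ψ h1 g hg
        · exact agreeM k l h' _ Ψ h2 g hg }
  have hbij : Function.Bijective Φ := P.bijective hn (fun i j => Iff.rfl) hF fun L hu' hx' => by
    rw [eq_top_iff]
    rintro ⟨g, hg⟩ -
    have hle : G ≤ L.map G.subtype := by
      refine le_of_eq_of_le hG ((Subgroup.closure_le _).2 ?_)
      rintro _ (⟨a, t, rfl⟩ | ⟨i, j, t, h, rfl⟩)
      · exact ⟨uG a t, hu' a t, rfl⟩
      · rcases h with h' | h'
        · exact ⟨XG i j t, hx' i j h' t, XG_eq (Or.inl h') t⟩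
        · refine ⟨XG j i t, hx' j i h' t, ?_⟩
          have := XG_eq (Or.inl h') t
          show (XG j i t : H × Sp n F) = _
          rw [this, hx j i (Or.inl h'), hx i j (Or.inr h')]
          exact Prod.ext (μc _ _ _ _ _ _ (low_symm (Or.inl h' : A j i)) (T_comm _ _ _)) (T_comm (Sum.inl j) (Sum.inl i) t)
    obtain ⟨w, hw, e⟩ := hle hg
    rwa [show (⟨g, hg⟩ : G) = w from Subtype.ext e.symm]
  let eG : G ≃* Sp n F := MulEquiv.ofBijective Φ hbij
  let Θ : Sp n F →* H := ((MonoidHom.fst H (Sp n F)).comp G.subtype).comp eG.symm.toMonoidHom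
  have hΘ : ∀ g : G, Θ (Φ g) = (g : H × Sp n F).1 := fun g => by
    show ((eG.symm (eG g) : G) : H × Sp n F).1 = _
    rw [MulEquiv.symm_apply_apply]
  have hΘu : ∀ a t, Θ (T a a t) = u a t := fun a t => hΘ (uG a t)
  have hΘx : ∀ i j, A i j → ∀ t, Θ (T (Sum.inl i) (Sum.inl j) t) = x i j t := fun i j h t => by
    have := hΘ (XG i j t)
    rwa [show Φ (XG i j t) = T (Sum.inl i) (Sum.inl j) t from congrArg Prod.snd (XG_eq h t), XG_eq h] at this
  have hfull : ∀ i j : Fin n, (i : ℕ) + 1 = j → low i j = i := fun i j h => if_pos (by omega)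
  refine ⟨Θ, ⟨fun j g hg => ?_, fun i hi g hg => ?_⟩, fun Θ' hΘ' => ?_⟩
  · let E : Subgroup ↥(S j) := MonoidHom.eqLocus (Θ.comp (S j).subtype) (σ j)
    have hin : g ∈ E.map (S j).subtype := by
      have hle : S j ≤ E.map (S j).subtype := by
        conv_lhs => rw [hS j]
        rw [Subgroup.closure_le]
        intro B hB
        refine gen_plane j _ (fun t => ?_) (fun t => ?_) B fun k hk => ?_
        · exact ⟨⟨_, memS (Sum.inl j) t⟩, (hΘu (Sum.inl j) t).trans (hu (Sum.inl j) t), rfl⟩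
        · exact ⟨⟨_, memS (Sum.inr j) t⟩, (hΘu (Sum.inr j) t).trans (hu (Sum.inr j) t), rfl⟩
        · rw [colOne_iff]
          rcases k with k | k
          · exact (hB k hk).1
          · exact (hB k hk).2
      exact hle hg
    obtain ⟨w, hw, e⟩ := hin
    subst e
    exact hw
  · let E : Subgroup ↥(M i) := MonoidHom.eqLocus (Θ.comp (M i).subtype) (μ i)
    let j : Fin n := ⟨(i : ℕ) + 1, hi⟩
    have hij : A i j := Or.inl rfl
    have hin : g ∈ E.map (M i).subtype := by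
      have hle : M i ≤ E.map (M i).subtype := by
        conv_lhs => rw [hM i hi]
        rw [Subgroup.closure_le]
        intro B hB
        refine gen_abelian i j (Ane hij) _ (fun t => ?_) (fun t => ?_) (fun t => ?_) B (fun k => ?_) fun k h1 h2 => ?_
        · exact ⟨⟨_, memM i hi i i (Or.inl rfl) (Or.inl rfl) (valid_self _) t⟩,
            (hΘu _ t).trans (uM i hi i (Or.inl rfl) t).symm, rfl⟩
        · exact ⟨⟨_, memM i hi j j (Or.inr rfl) (Or.inr rfl) (valid_self _) t⟩,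
            (hΘu _ t).trans (uM i hi j (Or.inr rfl) t).symm, rfl⟩
        · refine ⟨⟨_, memM i hi i j (Or.inl rfl) (Or.inr rfl) (vll (Ane hij)) t⟩, (hΘx i j hij t).trans ?_, rfl⟩
          rw [hx i j hij]
          exact μc _ _ _ _ _ _ (hfull i j rfl) rfl
        · rw [colOne_iff]; exact hB.1 k
        · rw [colOne_iff]; exact hB.2 k (fun e => h1 (Fin.ext e)) (fun e => h2 (Fin.ext e))
      exact hle hg
    obtain ⟨w, hw, e⟩ := hin
    subst e
    exact hw
  · have hcomp : Θ'.comp Φ = (MonoidHom.fst H (Sp n F)).comp G.subtype := by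
      refine MonoidHom.ext fun g => ?_
      obtain ⟨g, hg⟩ := g
      let E : Subgroup (H × Sp n F) := MonoidHom.eqLocus (Θ'.comp (MonoidHom.snd H (Sp n F))) (MonoidHom.fst H (Sp n F))
      have hle : G ≤ E := by
        rw [hG, Subgroup.closure_le]
        rintro _ (⟨a, t, rfl⟩ | ⟨i, j, t, h, rfl⟩)
        · exact (hΘ'.1 _ _ (memS a t)).trans (hu a t).symm
        · exact (hΘ'.2 _ (low_lt h) _ (memM _ (low_lt h) i j (low_in h).1 (low_in h).2 (vll (Ane h)) t)).trans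
            (hx i j h t).symm
      exact hle hg
    refine MonoidHom.ext fun z => ?_
    obtain ⟨g, rfl⟩ := hbij.2 z
    rw [hΘ]
    exact DFunLike.congr_fun hcomp g

end Cfsg.Agent.S3713
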