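import Cfsg.Statements.S2092
import Cfsg.Agent.Known.SpMult.Base4
import Cfsg.Agent.Known.SpMult.Blocks
import Cfsg.Agent.Known.SpMult.TwoMain
-- import your own Cfsg.Agent.* helpers here

set_option autoImplicit false
open Cfsg

namespace Cfsg.Agent.S2092

/-- Schur multipliers of the symplectic groups: for m ≥ 2 and a field F with q elements (q ≥ 3 when m = 2), with (m, q) ≠ (3, 2), the Schur multiplier of PSp_2m(F) is cyclic of order gcd(2, q − 1); here the Schur multiplier is described through stem extensions, as in the definitions. -/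
theorem result {F : Type*} [Field F] [Fintype F] {q : ℕ} (hF : Fintype.card F = q) (m : ℕ) (hm : 2 ≤ m) (h2 : m = 2 → 3 ≤ q) (hexc : ¬ (m = 3 ∧ q = 2)) : Cfsg.HasCyclicSchurMultiplier (Cfsg.PSp m F) (Nat.gcd 2 (q - 1)) := by
  classical
  have hcard : Nat.card F = q := Nat.card_eq_fintype_card.trans hF
  have hperf : commutator (Matrix.symplecticGroup (Fin m) F) = ⊤ := by
    refine Cfsg.Agent.S0269.result m ?_
    rcases eq_or_lt_of_le hm with e | e
    · exact Or.inr (Or.inl ⟨e.symm, hF ▸ h2 e.symm⟩)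
    · exact Or.inl e
  have h1q : 2 ≤ q := hF ▸ Fintype.one_lt_card
  have hone : Cfsg.HasCyclicSchurMultiplier (Matrix.symplecticGroup (Fin m) F) 1 := by
    rcases eq_or_lt_of_le hm with e | h3
    · subst e
      exact Cfsg.Lib.SpMult.sp_four_trivial (hF ▸ h2 rfl)
    refine Cfsg.Lib.Schur.hasCyclicSchurMultiplier_one_of fun Γ _ _ σ hσ => ?_
    by_cases h : q = 2
    · have h4 : 4 ≤ m := by
        by_contra hlt
        exact hexc ⟨by omega, h⟩
      exact (⟨hcard.trans h, h4, hσ⟩ : Cfsg.Lib.SpMult.Two σ).ker_eq_bot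
    · exact (⟨by omega, h3, hσ, Cfsg.Lib.SpMult.sp_four_trivial (by omega)⟩ : Cfsg.Lib.SpMult.Big σ).ker_eq_bot
  let π : Matrix.symplecticGroup (Fin m) F →* Cfsg.PSp m F := QuotientGroup.mk' _
  have hπ : Function.Surjective π := QuotientGroup.mk'_surjective _
  have hker : π.ker = Subgroup.center _ := QuotientGroup.ker_mk' _
  have hk : Nat.card π.ker = Nat.gcd 2 (q - 1) := by
    rw [hker, Cfsg.Lib.Classical.card_center_symplecticGroup (F := F) (m := m) (by omega), hcard]
  have hcπ : IsCyclic π.ker := by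
    obtain ⟨z, hz⟩ := Cfsg.Lib.SpPres.center_cyclic (F := F) m (by omega)
    rw [hker, hz]
    exact Subgroup.isCyclic_zpowers z
  refine Cfsg.Lib.Schur.hasCyclicSchurMultiplier_of _ ⟨Matrix.symplecticGroup (Fin m) F, inferInstance,
    inferInstance, π, ⟨hπ, hker.le, by rw [hperf]; exact le_top⟩, hcπ, hk⟩ fun Γ _ _ σ hσ => ?_
  obtain ⟨η, hη⟩ := (Cfsg.Agent.S3961.result (Group.isPerfect_def.mpr hperf) π hπ hker.le).2 hone Γ σ hσ.1 hσ.2.1
  have hle : σ.ker ≤ π.ker.map η := by
    have htop : η.range = ⊤ := Cfsg.Lib.SpMult.eq_top_of_map hσ (by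
      rw [← MonoidHom.range_comp, hη, MonoidHom.range_eq_top]; exact hπ)
    intro k hk
    obtain ⟨g, rfl⟩ := (show k ∈ η.range by rw [htop]; trivial)
    exact ⟨g, by rw [SetLike.mem_coe, MonoidHom.mem_ker, ← hη]; exact hk, rfl⟩
  have hcm : IsCyclic (π.ker.map η) :=
    isCyclic_of_surjective (η.subgroupMap π.ker) (MonoidHom.subgroupMap_surjective η π.ker)
  refine ⟨isCyclic_of_injective _ (Subgroup.inclusion_injective hle), ?_⟩
  rw [← hk]
  exact (Subgroup.card_dvd_of_le hle).trans (Subgroup.card_map_dvd _ _)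

end Cfsg.Agent.S2092
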