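import Cfsg.Statements.S2055
import Cfsg.Agent.FiFour.MultUpper
import Cfsg.Agent.FiFour.MultCover

set_option autoImplicit false
open Cfsg

namespace Cfsg.Agent.S2055

/-- The Schur multiplier of the Fischer group Fi₂₄′ (the commutator subgroup of the presented group Fi₂₄) is cyclic of order 3; here the Schur multiplier is described through stem extensions, as in the definitions: surjective homomorphisms onto the group from a finite group, whose kernel is central in that finite group and contained in that finite group's commutator subgroup. -/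
theorem result : Cfsg.HasCyclicSchurMultiplier Cfsg.Spor.Fi24' 3 := by
  haveI : Finite Cfsg.Spor.Fi24 := Cfsg.Lib.FiFour.finite_group
  refine Cfsg.Lib.Schur.hasCyclicSchurMultiplier_of 3 Cfsg.Lib.FiFour.exists_stem_three fun Γ _ _ σ hσ => ?_
  let ι : Cfsg.Spor.Fi24' →* Cfsg.Spor.Fi24 := (commutator Cfsg.Spor.Fi24).subtype
  have hι : Function.Injective ι := (commutator Cfsg.Spor.Fi24).subtype_injective
  have hker : (ι.comp σ).ker = σ.ker := MonoidHom.ker_comp_of_injective (f := σ) ι hι
  have hr : (ι.comp σ).range = Cfsg.Lib.FiFour.evenPart := by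
    rw [MonoidHom.range_eq_map, ← Subgroup.map_map, ← MonoidHom.range_eq_map, MonoidHom.range_eq_top.2 hσ.1,
      ← MonoidHom.range_eq_map, Subgroup.range_subtype, Cfsg.Lib.FiFour.commutator_eq]
  have h := Cfsg.Lib.FiFour.stem_bound hr (hker ▸ hσ.2.1) (hker ▸ hσ.2.2)
  rwa [hker] at h

end Cfsg.Agent.S2055
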