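import Cfsg.Statements.S2089
import Cfsg.Agent.UnitMult.Char
import Cfsg.Agent.UnitMult.Coprime
import Cfsg.Agent.Schur.Criteria
import Cfsg.Agent.Classical.Unitary.Simple
import Cfsg.Agent.S3961

set_option autoImplicit false
open Cfsg

namespace Cfsg.Agent.S2089

/-- Schur multipliers of the unitary groups: for n ≥ 3 and a field F with q² elements, (n, q) ≠ (3, 2), apart from the exceptional pairs (n, q) = (4, 2), (4, 3), (6, 2), the Schur multiplier of PSU_n(q) is cyclic of order gcd(n, q + 1); here the Schur multiplier is described through stem extensions, as in the definitions. -/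
theorem result {F : Type*} [Field F] [Fintype F] (n q : ℕ) (hF : Fintype.card F = q ^ 2) (hn : 3 ≤ n) (h3 : ¬ (n = 3 ∧ q = 2)) (hexc : (n, q) ∉ ({(4, 2), (4, 3), (6, 2)} : Set (ℕ × ℕ))) : Cfsg.HasCyclicSchurMultiplier (Cfsg.PSU n F q) (Nat.gcd n (q + 1)) := by
  classical
  simp only [Set.mem_insert_iff, Set.mem_singleton_iff, Prod.mk.injEq, not_or, not_and] at hexc
  obtain ⟨e42, e43, e62⟩ := hexc
  set H := Cfsg.Lib.Classical.stdHerm n hF with hH
  let e : H.SIsom ≃* Cfsg.SU n F q := Cfsg.Lib.Classical.suEquiv n hF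
  have hfr : Module.finrank F (Fin n → F) = n := Module.finrank_fin_fun F
  have hq : H.q = q := Cfsg.Lib.Classical.stdHerm_q hF
  have hq2 : 2 ≤ q := hq ▸ H.two_le_q
  have hperf' : commutator H.SIsom = ⊤ := H.commutator_SIsom (by rw [hfr, hq]; omega)
  have hperf : commutator (Cfsg.SU n F q) = ⊤ := by
    have h : (commutator H.SIsom).map e.toMonoidHom = commutator (Cfsg.SU n F q) := by
      rw [commutator_def, commutator_def, Subgroup.map_commutator, Subgroup.map_top_of_surjective _ e.surjective]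
    rw [← h, hperf', Subgroup.map_top_of_surjective _ e.surjective]
  obtain ⟨p, hpc⟩ := CharP.exists F
  haveI := hpc
  haveI hp : Fact p.Prime := ⟨CharP.char_is_prime F p⟩
  have hok : Cfsg.Lib.UnitMult.Ok H.q n := by
    rw [hq]
    exact ⟨fun h => e42 h.1 h.2, fun h => e43 h.1 h.2, fun h => e62 h.1 h.2⟩
  have hone : Cfsg.HasCyclicSchurMultiplier (Cfsg.SU n F q) 1 := by
    refine Cfsg.Lib.Schur.hasCyclicSchurMultiplier_one_of fun Γ _ _ σ hσ =>
      Cfsg.Lib.UnitMult.ker_eq_bot_of_triv hσ fun ℓ hℓ => Cfsg.Lib.UnitMult.Triv.of_equiv e ?_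
    by_cases hlp : ℓ = p
    · subst hlp
      exact Cfsg.Lib.UnitMult.triv_char n H hfr hn hok
    · exact Cfsg.Lib.UnitMult.triv_coprime hp.out hℓ hlp n H hfr
  let π : Cfsg.SU n F q →* Cfsg.PSU n F q := QuotientGroup.mk' _
  have hπ : Function.Surjective π := QuotientGroup.mk'_surjective _
  have hker : π.ker = Subgroup.center _ := QuotientGroup.ker_mk' _
  have : Nonempty (Fin n) := ⟨⟨0, by omega⟩⟩
  have hcyc : IsCyclic (Subgroup.center (Cfsg.SU n F q)) := by
    have hmem : ∀ z : Subgroup.center (Cfsg.SU n F q),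
        ((z : Cfsg.SU n F q) : Matrix.SpecialLinearGroup (Fin n) F) ∈
          Subgroup.center (Matrix.SpecialLinearGroup (Fin n) F) := by
      intro z
      have hz : e.symm z.1 ∈ Subgroup.center H.SIsom := by
        rw [Subgroup.mem_center_iff]
        intro g
        apply e.injective
        rw [map_mul, map_mul, MulEquiv.apply_symm_apply]
        exact Subgroup.mem_center_iff.mp z.2 (e g)
      obtain ⟨a, -, han, ha⟩ := (H.mem_center_SIsom_iff (by rw [hfr]; omega)).mp hz
      rw [Matrix.SpecialLinearGroup.mem_center_iff]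
      refine ⟨a, by rw [Fintype.card_fin]; rwa [hfr] at han, ?_⟩
      apply Matrix.toLin'.injective
      refine LinearMap.ext fun x => ?_
      rw [Matrix.toLin'_apply, Matrix.toLin'_apply, Matrix.scalar_apply, ← e.apply_symm_apply z.1,
        Cfsg.Lib.Classical.suEquiv_coe, Cfsg.Lib.Classical.unitToGL_mulVec, ha]
      funext i
      simp [Matrix.mulVec_diagonal]
    haveI : IsCyclic (Subgroup.center (Matrix.SpecialLinearGroup (Fin n) F)) :=
      (Matrix.SpecialLinearGroup.center_equiv_rootsOfUnity' (Classical.arbitrary (Fin n))).symm.isCyclic.1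
        inferInstance
    refine isCyclic_of_injective
      (((Cfsg.SU n F q).subtype.comp (Subgroup.center (Cfsg.SU n F q)).subtype).codRestrict
        (Subgroup.center (Matrix.SpecialLinearGroup (Fin n) F)) hmem) ?_
    intro a b h
    exact Subtype.ext (Subtype.ext (congrArg Subtype.val h :))
  have hcπ : IsCyclic π.ker :=
    (congrArg (fun K : Subgroup (Cfsg.SU n F q) => IsCyclic K) hker).mpr hcyc
  have hk : Nat.card π.ker = Nat.gcd n (q + 1) := by
    rw [hker, Cfsg.Lib.Classical.card_center_SU hF (by omega)]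
  refine Cfsg.Lib.Schur.hasCyclicSchurMultiplier_of _ ⟨Cfsg.SU n F q, inferInstance,
    inferInstance, π, ⟨hπ, hker.le, by rw [hperf]; exact le_top⟩, hcπ, hk⟩ fun Γ _ _ σ hσ => ?_
  obtain ⟨η, hη⟩ := (Cfsg.Agent.S3961.result (Group.isPerfect_def.mpr hperf) π hπ hker.le).2 hone Γ σ hσ.1 hσ.2.1
  have hle : σ.ker ≤ π.ker.map η := by
    have hd : commutator Γ ≤ η.range := by
      rw [commutator_def, Subgroup.commutator_le]
      intro a _ b _
      obtain ⟨x, hx⟩ := hπ (σ a)
      obtain ⟨y, hy⟩ := hπ (σ b)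
      rw [← hη] at hx hy
      rw [Cfsg.Lib.Schur.comm_congr σ hσ.2.1 hx.symm hy.symm, ← map_commutatorElement]
      exact ⟨_, rfl⟩
    intro k hk
    obtain ⟨g, rfl⟩ := hd (hσ.2.2 hk)
    exact ⟨g, by rw [SetLike.mem_coe, MonoidHom.mem_ker, ← hη]; exact hk, rfl⟩
  have hcm : IsCyclic (π.ker.map η) :=
    isCyclic_of_surjective (η.subgroupMap π.ker) (MonoidHom.subgroupMap_surjective η π.ker)
  refine ⟨isCyclic_of_injective _ (Subgroup.inclusion_injective hle), ?_⟩
  rw [← hk]
  exact (Subgroup.card_dvd_of_le hle).trans (Subgroup.card_map_dvd _ _)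

end Cfsg.Agent.S2089
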