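import Cfsg.Statements.S1079
import Cfsg.Agent.Chev.St.CenterData

set_option autoImplicit false
open Cfsg
open Cfsg.Lib.Chev Cfsg.Lib.Chev.St Cfsg.Lie

namespace Cfsg.Agent.S1079

/-- `|Z(Ḡ)| = gcd(3, q-1)` for E₆ and `gcd(2, q-1)` for E₇ over a field with `q` elements (the centre is dual to the weight lattice modulo the root lattice). -/
theorem result {K : Type*} [Field K] [Fintype K] {q : ℕ} (hq : Fintype.card K = q)
    (p : Cfsg.Lie.ChevalleyDatum × ℕ) (hp : p ∈ [(Cfsg.Lie.chevE6, 3), (Cfsg.Lie.chevE7, 2)]) :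
    Nat.card (Subgroup.center (p.1.SteinbergGroup K)) = Nat.gcd p.2 (q - 1) := by
  rw [Nat.gcd_comm, ← hq, ← Nat.card_eq_fintype_card]
  simp only [List.mem_cons, List.not_mem_nil, or_false] at hp
  rcases hp with rfl | rfl
  · obtain ⟨C, S, hN, ok⟩ := Cfsg.Lib.Chev.St.exists_okSt (D := chevE6) (by simp)
    obtain ⟨C', S', -, -⟩ := Cfsg.Lib.Chev.St.exists_okSt (D := chevE7) (by simp)
    exact card_center_steinberg (by simp) S hN ok S' okEmb_E6 okTorus_E6 okCol_E6
  · obtain ⟨C, S, hN, ok⟩ := Cfsg.Lib.Chev.St.exists_okSt (D := chevE7) (by simp)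
    obtain ⟨C', S', -, -⟩ := Cfsg.Lib.Chev.St.exists_okSt (D := chevE8) (by simp)
    exact card_center_steinberg (by simp) S hN ok S' okEmb_E7 okTorus_E7 okCol_E7

end Cfsg.Agent.S1079
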