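import Cfsg.Statements.S2105
import Cfsg.Agent.Chev.Univ.Multiplier
import Cfsg.Agent.Chev.Univ.DataE6
import Cfsg.Agent.Chev.St.CenterData
import Cfsg.Agent.S1079

set_option autoImplicit false
open Cfsg
open Cfsg.Lib.Chev Cfsg.Lib.Chev.Univ Cfsg.Lie

namespace Cfsg.Agent.S2105

/-- Schur multipliers of the (adjoint, simple) Chevalley groups of type E₆: over a field with q elements the Schur multiplier is cyclic of order gcd(3, q − 1) (here the Schur multiplier is described through stem extensions, as in the definitions). -/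
theorem result {F : Type*} [Field F] [Fintype F] {q : ℕ} (hF : Fintype.card F = q) : Cfsg.HasCyclicSchurMultiplier ↥(Cfsg.Lie.chevE6.group F) (Nat.gcd 3 (q - 1)) := by
  exact hasCyclicSchurMultiplier (by simp) ⟨E6.ok, E6.okChain_, E6.okBase_all, okOrder_E6⟩ okNeg_E6 ⟨_, St.okSt_E6⟩
    okU_E6 E6.perfect St.okTorus_E6 (Cfsg.Agent.S1079.result hF (chevE6, 3) (by simp))

end Cfsg.Agent.S2105
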