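import Cfsg.Statements.S2106
import Cfsg.Agent.Chev.Univ.Multiplier
import Cfsg.Agent.Chev.Univ.DataE7
import Cfsg.Agent.Chev.St.CenterData
import Cfsg.Agent.S1079

set_option autoImplicit false
open Cfsg
open Cfsg.Lib.Chev Cfsg.Lib.Chev.Univ Cfsg.Lie

namespace Cfsg.Agent.S2106

/-- Schur multipliers of the (adjoint, simple) Chevalley groups of type E₇: over a field with q elements the Schur multiplier is cyclic of order gcd(2, q − 1) (here the Schur multiplier is described through stem extensions, as in the definitions). -/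
theorem result {F : Type*} [Field F] [Fintype F] {q : ℕ} (hF : Fintype.card F = q) : Cfsg.HasCyclicSchurMultiplier ↥(Cfsg.Lie.chevE7.group F) (Nat.gcd 2 (q - 1)) := by
  exact hasCyclicSchurMultiplier (by simp) ⟨E7.ok, E7.okChain_, E7.okBase_all, okOrder_E7⟩ okNeg_E7 ⟨_, St.okSt_E7⟩
    okU_E7 E7.perfect St.okTorus_E7 (Cfsg.Agent.S1079.result hF (chevE7, 2) (by simp))

end Cfsg.Agent.S2106
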