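import Cfsg.Statements.S1078
import Cfsg.Agent.Chev.St.CenterData

set_option autoImplicit false
open Cfsg
open Cfsg.Lib.Chev Cfsg.Lib.Chev.St Cfsg.Lie

namespace Cfsg.Agent.S1078

/-- For G₂, F₄, E₈ the presented group has trivial centre (the universal and adjoint groups coincide). -/
theorem result {K : Type*} [Field K] (D : Cfsg.Lie.ChevalleyDatum) (hD : D ∈ [Cfsg.Lie.chevG2, Cfsg.Lie.chevF4, Cfsg.Lie.chevE8]) :
    Subgroup.center (D.SteinbergGroup K) = ⊥ := by
  have hD' : D ∈ [chevG2, chevB2, chevD4, chevF4, chevE6, chevE7, chevE8] := by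
    simp only [List.mem_cons, List.not_mem_nil, or_false] at hD ⊢
    tauto
  obtain ⟨C, S, hN, ok⟩ := Cfsg.Lib.Chev.St.exists_okSt hD'
  obtain ⟨k, v, w, B, ht⟩ : ∃ k v w B, okTorus D 1 k v w B = true := by
    simp only [List.mem_cons, List.not_mem_nil, or_false] at hD
    rcases hD with rfl | rfl | rfl
    · exact ⟨_, _, _, _, okTorus_G2⟩
    · exact ⟨_, _, _, _, okTorus_F4⟩
    · exact ⟨_, _, _, _, okTorus_E8⟩
  have hθ : ∀ r < D.nroots, ∀ t, toChev S (subset_refl (D.steinbergRels K)) (pgen (D.steinbergRels K) r t) =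
      S.ok.xG r t := fun r hr t => toChev_pgen S _ hr t
  set θ := toChev S (subset_refl (D.steinbergRels K))
  set P := presentedPres S hN ok ab_subset θ hθ
  have hgen := presentedPres_gen_top S hN ok ab_subset θ hθ
  have h3 : P.R3 := r3_of_rels S hN ok θ hθ
  rw [← ker_eq_center θ (range_eq_group P hgen) (center_group_bot hD') fun g hg => (P.kernel hgen hg).2,
    show θ.ker = Subgroup.map (P.torus h3) (Ok.tG D K).ker from P.ker_eq_map_torus h3 hgen,
    torus_ker_trivial S.ok ht, Subgroup.map_bot]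

end Cfsg.Agent.S1078
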