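import Cfsg.Statements.S2107
import Cfsg.Agent.Chev.Univ.Multiplier
import Cfsg.Agent.Chev.Univ.DataE8
import Cfsg.Agent.Chev.St.CenterData
import Cfsg.Agent.S1078

set_option autoImplicit false
open Cfsg
open Cfsg.Lib.Chev Cfsg.Lib.Chev.Univ Cfsg.Lie

namespace Cfsg.Agent.S2107

/-- Schur multipliers of the Chevalley groups of type E₈: over every finite field the Schur multiplier of E₈(q) is trivial (here the Schur multiplier is described through stem extensions, as in the definitions). -/
theorem result {F : Type*} [Field F] [Fintype F] : Cfsg.HasCyclicSchurMultiplier ↥(Cfsg.Lie.chevE8.group F) 1 := by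
  refine hasCyclicSchurMultiplier (by simp) ⟨E8.ok, E8.okChain_, E8.okBase_all, okOrder_E8⟩ okNeg_E8 ⟨_, St.okSt_E8⟩
    okU_E8 E8.perfect St.okTorus_E8 ?_
  rw [Cfsg.Agent.S1078.result chevE8 (by simp)]
  simp

end Cfsg.Agent.S2107
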