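import Cfsg.Statements.S2108
import Cfsg.Agent.CanLift.E6Kernel
import Cfsg.Agent.CanLift.E6Cover

set_option autoImplicit false
open Cfsg

namespace Cfsg.Agent.S2108

/-- Schur multipliers of the twisted groups of type ²E₆: for a prime power q ≠ 2, with the group realised over the field with q² elements, the Schur multiplier of ²E₆(q) is cyclic of order gcd(3, q + 1) (here the Schur multiplier is described through stem extensions, as in the definitions); q = 2 is exceptional. -/
theorem result {K : Type*} [Field K] [Fintype K] {q : ℕ} (hq : IsPrimePow q) (hK : Fintype.card K = q ^ 2) (h2 : q ≠ 2) : Cfsg.HasCyclicSchurMultiplier ↥(Cfsg.Lie.twistedE6 K q) (Nat.gcd 3 (q + 1)) := by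
  obtain ⟨X, rfl⟩ := Cfsg.Lib.Chev.E6.exists_tw (K := K) hq hK
  have h3 : 3 ≤ X.q := by have := X.hq; omega
  have hperf : commutator ↥X.G1 = ⊤ := by
    rw [Cfsg.Lib.Chev.E6.G1_eq X]; exact Cfsg.Lib.Chev.E6.twPerfect hq hK
  haveI := X.finite
  rw [← Cfsg.Lib.Chev.E6.G1_eq X]
  refine Cfsg.Lib.Schur.hasCyclicSchurMultiplier_of _
    (Cfsg.Lib.CanLift.E6L.exists_cover X hperf fun Γ _ _ σ hσ => Cfsg.Lib.CanLift.E6L.stem_dvd X hσ h3) ?_
  exact fun Γ _ _ σ hσ => Cfsg.Lib.CanLift.E6L.stem_dvd X hσ h3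

end Cfsg.Agent.S2108
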