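import Cfsg.Statements.S2115
import Cfsg.Agent.Known.TitsMult

set_option autoImplicit false
open Cfsg

namespace Cfsg.Agent.S2115

/-- The Tits group, the commutator subgroup of ²F₄(2), has trivial Schur multiplier (here the Schur multiplier is described through stem extensions, as in the definitions). -/
theorem result : Cfsg.HasCyclicSchurMultiplier Cfsg.Lie.TitsGroup 1 := by
  obtain ⟨X, hX⟩ := Cfsg.Lib.Chev.ReeF.exists_rf (K := ZMod 2) (m := 0) (ZMod.card 2)
  have key : ∀ e, X.e = e →
      Cfsg.HasCyclicSchurMultiplier ↥(commutator ↥(Cfsg.Lie.twistedF4 (ZMod 2) e)) 1 := by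
    intro e he
    subst he
    exact Cfsg.Lib.TitsMult.multiplier_commutator X
  exact key 1 (by simp [Cfsg.Lib.Chev.ReeF.RF.e, hX])

end Cfsg.Agent.S2115
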