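import Cfsg.Statements.S4593
import Cfsg.Agent.InvolCalc.ZStarApps

set_option autoImplicit false
open Cfsg

namespace Cfsg.Lib.AbelianSylowTwoInner

open Subgroup Cfsg.Lib.InvolCalc Cfsg.Lib.Components

universe u

variable {F : Type u} [Group F] [Finite F]

/-- A central `2`-subgroup absorbs the core of odd order of the quotient when that core is trivial. -/
theorem pPrimeCore_quotient_eq_bot (hO : pPrimeCore 2 F = ⊥) (Z : Subgroup F) [Z.Normal]
    (hZ : Z ≤ center F) (hZ2 : IsPGroup 2 Z) : pPrimeCore 2 (F ⧸ Z) = ⊥ := by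
  set M := (pPrimeCore 2 (F ⧸ Z)).comap (QuotientGroup.mk' Z) with hM
  have hOn : (pPrimeCore 2 (F ⧸ Z)).Normal :=
    normal_of_mem_sSup_normal (fun N hN => hN.1)
  have hMn : M.Normal := hOn.comap _
  have hZM : Z ≤ M := fun z hz => by
    rw [hM, mem_comap, QuotientGroup.mk'_apply, (QuotientGroup.eq_one_iff z).mpr hz]
    exact one_mem _
  have hidx : (Z.subgroupOf M).index.Coprime 2 := by
    have h : Z.relIndex M = Nat.card (pPrimeCore 2 (F ⧸ Z)) := by
      have := Subgroup.relIndex_comap (⊥ : Subgroup (F ⧸ Z)) (QuotientGroup.mk' Z) M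
      rw [show (⊥ : Subgroup (F ⧸ Z)).comap (QuotientGroup.mk' Z) = Z from by
        rw [MonoidHom.comap_bot, QuotientGroup.ker_mk'], Subgroup.relIndex_bot_left,
        Subgroup.map_comap_eq_self_of_surjective (QuotientGroup.mk'_surjective Z)] at this
      exact this
    rw [show (Z.subgroupOf M).index = Z.relIndex M from rfl, h]
    exact coprime_card_pPrimeCore 2
  have hp : IsPGroup 2 (Z.subgroupOf M) := hZ2.of_equiv (subgroupOfEquivOfLe hZM).symm
  let P : Sylow 2 M := hp.toSylow (by
    intro hd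
    exact absurd (Nat.eq_one_of_dvd_coprimes hidx hd (dvd_refl 2)) (by norm_num))
  have hPC : normalizer ((P : Subgroup M) : Set M) ≤ centralizer ((P : Subgroup M) : Set M) := by
    intro m _
    rw [mem_centralizer_iff]
    intro z hz
    exact Subtype.ext (mem_center_iff.mp (hZ hz) (m : F)).symm
  have hcompl := MonoidHom.ker_transferSylow_isComplement' P hPC
  set K := (MonoidHom.transferSylow P hPC).ker
  have hKodd : (Nat.card K).Coprime 2 := by
    rw [← hcompl.index_eq_card]
    exact hidx
  have hKch : K.Characteristic := by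
    rw [Subgroup.characteristic_iff_map_le]
    rintro φ _ ⟨x, hx, rfl⟩
    rw [← QuotientGroup.eq_one_iff, ← orderOf_eq_one_iff]
    have h1 : orderOf ((φ.toMonoidHom x : M) : M ⧸ K) ∣ Nat.card K :=
      (orderOf_map_dvd (QuotientGroup.mk' K) _).trans
        ((orderOf_map_dvd φ.toMonoidHom x).trans (Subgroup.orderOf_dvd_natCard K hx))
    have h2 : orderOf ((φ.toMonoidHom x : M) : M ⧸ K) ∣ K.index := by
      rw [K.index_eq_card]; exact orderOf_dvd_natCard _
    refine Nat.eq_one_of_dvd_coprimes ?_ h1 h2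
    rw [hcompl.symm.index_eq_card]
    obtain ⟨k, hk⟩ := P.2.exists_card_eq
    rw [hk]
    exact Nat.Coprime.pow_right _ hKodd
  have hKn : (K.map M.subtype).Normal := ConjAct.normal_of_characteristic_of_normal
  have hKbot : K = ⊥ := by
    have h := le_pPrimeCore (p := 2) (N := K.map M.subtype)
      (by rwa [Subgroup.card_map_of_injective (Subgroup.subtype_injective M)])
    rw [hO, le_bot_iff] at h
    exact (Subgroup.map_eq_bot_iff_of_injective _ (Subgroup.subtype_injective M)).mp h
  rw [eq_bot_iff]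
  intro q hq
  obtain ⟨x, rfl⟩ := QuotientGroup.mk'_surjective Z q
  rw [mem_bot, QuotientGroup.mk'_apply, QuotientGroup.eq_one_iff]
  have hP : (P : Subgroup M) = ⊤ := by
    have := hcompl
    rw [hKbot] at this
    exact isComplement'_bot_left.mp this
  have : (⟨x, hq⟩ : M) ∈ (P : Subgroup M) := by rw [hP]; trivial
  exact this

/-- A `2`-element all of whose commuting conjugates are equal to it is central when the core of odd
order is trivial. -/
theorem mem_center_of_isolated (hO : pPrimeCore 2 F = ⊥) (T : Sylow 2 F)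
    (hT : ∀ a ∈ (T : Subgroup F), ∀ b ∈ (T : Subgroup F), a * b = b * a) :
    ∀ j : ℕ, ∀ t : F, t ∈ (T : Subgroup F) → t ^ (2 ^ j) = 1 →
      (∀ n ∈ normalizer ((T : Subgroup F) : Set F), n * t * n⁻¹ = t) → t ∈ center F := by
  intro j
  induction j with
  | zero =>
    intro t _ h _
    rw [pow_zero, pow_one] at h
    exact h ▸ one_mem _
  | succ j ih =>
    intro t htT hpow hfix
    set s := t ^ 2 with hs
    have hsT : s ∈ (T : Subgroup F) := pow_mem htT 2
    have hsc : s ∈ center F := by
      refine ih s hsT (by rw [hs, ← pow_mul, ← pow_succ', hpow]) fun n hn => ?_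
      rw [hs, ← conj_pow, hfix n hn]
    obtain ⟨k0, -, hk0⟩ := (Nat.dvd_prime_pow Nat.prime_two).mp (orderOf_dvd_of_pow_eq_one hpow)
    -- commuting conjugates of `t` are equal to `t`
    have hiso : ∀ g : F, Commute t (g * t * g⁻¹) → g * t * g⁻¹ = t := by
      intro g hc
      have hclo : IsPGroup 2 (zpowers t ⊔ zpowers (g * t * g⁻¹) : Subgroup F) := by
        have h1 : IsPGroup 2 (zpowers t) := IsPGroup.of_card (n := k0) (by
          rw [Nat.card_zpowers]
          exact hk0)
        have h2 : IsPGroup 2 (zpowers (g * t * g⁻¹)) := IsPGroup.of_card (n := k0) (by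
          rw [Nat.card_zpowers, ← MulAut.conj_apply, MulEquiv.orderOf_eq]
          exact hk0)
        refine h1.to_sup_of_normal_right' h2 ?_
        rw [zpowers_le]
        refine centralizer_le_normalizer _ ?_
        rw [mem_centralizer_iff]
        intro y hy
        obtain ⟨i, rfl⟩ := mem_zpowers_iff.mp hy
        exact ((hc.symm).zpow_left i).eq
      obtain ⟨S, hS⟩ := hclo.exists_le_sylow
      obtain ⟨x, hx⟩ := MulAction.exists_smul_eq F S T
      have hmem : ∀ y ∈ (S : Subgroup F), x * y * x⁻¹ ∈ (T : Subgroup F) := by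
        intro y hy
        rw [← hx, Sylow.coe_subgroup_smul]
        exact ⟨y, hy, rfl⟩
      have hT' : IsMulCommutative (T : Subgroup F) :=
        ⟨⟨fun a b => Subtype.ext (hT a a.2 b b.2)⟩⟩
      have key : ∀ y : F, y * t * y⁻¹ ∈ (T : Subgroup F) → y * t * y⁻¹ = t := by
        intro y hy
        obtain ⟨n, hn, hn'⟩ := T.conj_eq_normalizer_conj_of_mem t y⁻¹ htT (by rw [inv_inv]; exact hy)
        have := hfix n⁻¹ (inv_mem hn)
        simp only [inv_inv] at this hn'
        rw [hn', this]
      have e1 := key x (hmem t (hS (mem_sup_left (mem_zpowers t))))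
      have e2 := key (x * g) (by
        have := hmem _ (hS (mem_sup_right (mem_zpowers (g * t * g⁻¹))))
        simpa [mul_assoc] using this)
      have e3 : x * (g * t * g⁻¹) * x⁻¹ = x * t * x⁻¹ := by
        rw [e1]; simpa [mul_assoc] using e2
      exact mul_left_cancel (mul_right_cancel e3)
    set Z := zpowers s
    have hZc : Z ≤ center F := zpowers_le.mpr hsc
    have hZn : Z.Normal := ⟨fun z hz g => by rw [mem_center_iff.mp (hZc hz) g, mul_inv_cancel_right]; exact hz⟩
    have hZ2 : IsPGroup 2 Z := T.2.to_le (zpowers_le.mpr hsT)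
    have hOq := pPrimeCore_quotient_eq_bot hO Z hZc hZ2
    have hcomm : ∀ g : F, t * g * t⁻¹ * g⁻¹ ∈ Z := by
      intro g
      by_cases htZ : t ∈ Z
      · rw [(mem_center_iff.mp (hZc htZ) g).symm, mul_inv_cancel_right, mul_inv_cancel]
        exact one_mem _
      have hI : IsIsolatedInvolution (QuotientGroup.mk t : F ⧸ Z) := by
        refine ⟨orderOf_eq_prime ?_ ?_, ?_⟩
        · rw [← QuotientGroup.mk_pow, QuotientGroup.eq_one_iff]; exact mem_zpowers s
        · rwa [Ne, QuotientGroup.eq_one_iff]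
        intro q hq
        obtain ⟨h, rfl⟩ := QuotientGroup.mk_surjective q
        rw [← QuotientGroup.mk_inv, ← QuotientGroup.mk_mul, ← QuotientGroup.mk_mul] at hq ⊢
        refine congrArg _ (hiso h ?_)
        set u := h * t * h⁻¹ with hu
        have hz : (u * t)⁻¹ * (t * u) ∈ Z := QuotientGroup.eq.mp (by
          rw [QuotientGroup.mk_mul, QuotientGroup.mk_mul]; exact hq.eq.symm)
        have hu2 : u * u = s := by
          rw [show u * u = h * (t * t) * h⁻¹ by rw [hu]; group,
            show t * t = s by rw [hs, sq], mem_center_iff.mp hsc h, mul_inv_cancel_right]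
        -- the group generated by `t` and `u` is a `2`-group, hence abelian
        have hzc : (u * t)⁻¹ * (t * u) ∈ center F := hZc hz
        have hN : ∀ y ∈ zpowers u, t * y * t⁻¹ ∈ zpowers u ⊔ Z := by
          intro y hy
          obtain ⟨i, rfl⟩ := mem_zpowers_iff.mp hy
          have h1 : t * u * t⁻¹ = u * ((u * t)⁻¹ * (t * u)) := by
            have := mem_center_iff.mp hzc t
            calc t * u * t⁻¹ = u * (t * ((u * t)⁻¹ * (t * u)) * t⁻¹) := by group
              _ = u * ((u * t)⁻¹ * (t * u)) := by rw [this]; group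
          rw [← conj_zpow, h1]
          exact zpow_mem (mul_mem (mem_sup_left (mem_zpowers u)) (mem_sup_right hz)) i
        have hU : IsPGroup 2 (zpowers u ⊔ Z : Subgroup F) := by
          refine IsPGroup.to_sup_of_normal_right ?_ hZ2
          refine IsPGroup.of_card (n := k0) ?_
          rw [Nat.card_zpowers, hu, ← MulAut.conj_apply, MulEquiv.orderOf_eq]
          exact hk0
        have hW : IsPGroup 2 (zpowers t ⊔ (zpowers u ⊔ Z) : Subgroup F) := by
          refine IsPGroup.to_sup_of_normal_right' (T.2.to_le (zpowers_le.mpr htT)) hU ?_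
          rw [zpowers_le]
          refine Cfsg.Lib.ZStarApps.mem_normalizer_of_maps fun a ha => ?_
          rw [← SetLike.mem_coe, Subgroup.mul_normal] at ha
          obtain ⟨y, hy, z, hz', rfl⟩ := ha
          rw [show t * (y * z) * t⁻¹ = t * y * t⁻¹ * (t * z * t⁻¹) by group]
          exact mul_mem (hN y hy) (mem_sup_right (hZn.conj_mem z hz' t))
        obtain ⟨S, hS⟩ := hW.exists_le_sylow
        obtain ⟨x, hx⟩ := MulAction.exists_smul_eq F S T
        have hmem : ∀ y ∈ (S : Subgroup F), x * y * x⁻¹ ∈ (T : Subgroup F) := by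
          intro y hy
          rw [← hx, Sylow.coe_subgroup_smul]
          exact ⟨y, hy, rfl⟩
        have := hT _ (hmem t (hS (mem_sup_left (mem_zpowers t)))) _
          (hmem u (hS (mem_sup_right (mem_sup_left (mem_zpowers u)))))
        have e : x * (t * u) * x⁻¹ = x * (u * t) * x⁻¹ := by simpa [mul_assoc] using this
        exact mul_left_cancel (mul_right_cancel e)
      have h := Cfsg.Lib.ZStarApps.zstarProp hI (QuotientGroup.mk g)
      rw [hOq, mem_bot, ← QuotientGroup.mk_inv, ← QuotientGroup.mk_inv, ← QuotientGroup.mk_mul,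
        ← QuotientGroup.mk_mul, ← QuotientGroup.mk_mul, QuotientGroup.eq_one_iff] at h
      exact h
    rw [mem_center_iff]
    intro g
    have h1 := hcomm g
    have h2 : g * t * g⁻¹ = t := by
      refine hiso g ?_
      have hc := mem_center_iff.mp (hZc h1)
      have hval : g * t * g⁻¹ = (t * g * t⁻¹ * g⁻¹)⁻¹ * t := by group
      rw [hval]
      exact Commute.mul_right ((show Commute t (t * g * t⁻¹ * g⁻¹) from hc t).inv_right) (Commute.refl t)
    calc g * t = g * t * g⁻¹ * g := by group
      _ = t * g := by rw [h2]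

end Cfsg.Lib.AbelianSylowTwoInner

namespace Cfsg.Agent.S4593

open Subgroup Cfsg.Lib.InvolCalc Cfsg.Lib.Components Cfsg.Lib.AbelianSylowTwoInner

/-- Let G be a finite group with trivial centre and no nontrivial normal subgroup of odd order, whose Sylow 2-subgroups are abelian, and let P be a Sylow 2-subgroup. Every automorphism of G of 2-power order that fixes P elementwise is inner. -/
theorem result {G : Type*} [Group G] [Finite G] (hZ : Subgroup.center G = ⊥) (hcore : Cfsg.pPrimeCore 2 G = ⊥) (P : Sylow 2 G) (hab : IsMulCommutative (P : Subgroup G))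
    (α : MulAut G) (h2 : ∃ j : ℕ, orderOf α = 2 ^ j) (hfix : ∀ x ∈ (P : Subgroup G), α x = x) :
    ∃ g : G, ∀ x : G, α x = g * x * g⁻¹ := by
  classical
  have : Fact (Nat.Prime 2) := ⟨Nat.prime_two⟩
  have : Finite (MulAut G) := Finite.of_injective (fun e : MulAut G => (e : G → G)) DFunLike.coe_injective
  obtain ⟨j, hj⟩ := h2
  let c : G →* MulAut G := MulAut.conj
  have hcinj : Function.Injective c := by
    rw [← MonoidHom.ker_eq_bot_iff, eq_bot_iff]
    intro g hg
    rw [← hZ, mem_center_iff]
    intro x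
    have := DFunLike.congr_fun (MonoidHom.mem_ker.mp hg) x
    simp only [c, MulAut.conj_apply, MulAut.one_apply] at this
    exact (mul_inv_eq_iff_eq_mul.mp this).symm
  have hαc : ∀ g, α * c g * α⁻¹ = c (α g) := fun g => by
    ext x
    simp [c, MulAut.mul_apply]
  have hnr : α ∈ normalizer (c.range : Set (MulAut G)) := by
    refine Cfsg.Lib.ZStarApps.mem_normalizer_of_maps ?_
    rintro _ ⟨g, rfl⟩
    exact ⟨α g, (hαc g).symm⟩
  let F : Subgroup (MulAut G) := c.range ⊔ zpowers α
  let ι : G →* F := c.codRestrict F fun g => mem_sup_left ⟨g, rfl⟩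
  let a : F := ⟨α, mem_sup_right (mem_zpowers α)⟩
  have hιinj : Function.Injective ι := fun x y h => hcinj (congrArg Subtype.val h)
  let N : Subgroup F := ι.range
  have hdec : ∀ f : F, ∃ g : G, ∃ i : ℤ, f = ι g * a ^ i := by
    intro f
    have hf : (f : MulAut G) ∈ (c.range ⊔ zpowers α : Subgroup (MulAut G)) := f.2
    rw [← SetLike.mem_coe, Subgroup.coe_mul_of_right_le_normalizer_left _ _
      (zpowers_le.mpr hnr), Set.mem_mul] at hf
    obtain ⟨_, ⟨g, rfl⟩, w, hw, hf⟩ := hf
    obtain ⟨i, rfl⟩ := mem_zpowers_iff.mp hw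
    exact ⟨g, i, Subtype.ext (by simp [ι, a, hf])⟩
  have haN : ∀ g, a * ι g * a⁻¹ = ι (α g) := fun g => Subtype.ext (hαc g)
  have hNn : N.Normal := by
    refine ⟨fun n hn f => ?_⟩
    obtain ⟨y, rfl⟩ := hn
    obtain ⟨g, i, rfl⟩ := hdec f
    refine ⟨g * (α ^ i) y * g⁻¹, Subtype.ext ?_⟩
    ext x
    simp [ι, a, c, MulAut.mul_apply, map_mul, mul_assoc]
  let PF : Subgroup F := (P : Subgroup G).map ι
  have hcen : ∀ x ∈ (P : Subgroup G), a * ι x * a⁻¹ = ι x := fun x hx => by rw [haN, hfix x hx]
  let T₀ : Subgroup F := PF ⊔ zpowers a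
  have hT₀c : ∀ u ∈ T₀, ∀ v ∈ T₀, u * v = v * u := by
    have : T₀ = closure ((PF : Set F) ∪ (zpowers a : Set F)) := by
      rw [Subgroup.closure_union, Subgroup.closure_eq, Subgroup.closure_eq]
    intro u hu v hv
    rw [this] at hu hv
    refine Subgroup.closure_induction₂ (p := fun x y _ _ => x * y = y * x) ?_ ?_ ?_ ?_ ?_ ?_ ?_ hu hv
    · rintro x y (⟨g, hg, rfl⟩ | hx) (⟨h, hh, rfl⟩ | hy)
      · rw [← map_mul, ← map_mul]
        exact congrArg ι (congrArg Subtype.val (hab.is_comm.comm ⟨g, hg⟩ ⟨h, hh⟩))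
      · obtain ⟨i, rfl⟩ := mem_zpowers_iff.mp hy
        exact ((show Commute a (ι g) from mul_inv_eq_iff_eq_mul.mp (hcen g hg)).zpow_left i).eq.symm
      · obtain ⟨i, rfl⟩ := mem_zpowers_iff.mp hx
        exact ((show Commute a (ι h) from mul_inv_eq_iff_eq_mul.mp (hcen h hh)).zpow_left i).eq
      · obtain ⟨i, rfl⟩ := mem_zpowers_iff.mp hx
        obtain ⟨k, rfl⟩ := mem_zpowers_iff.mp hy
        exact (Commute.zpow_zpow_self a i k).eq
    · exact fun x _ => by simp
    · exact fun x _ => by simp
    · exact fun x y z _ _ _ h1 h2 => (Commute.mul_left h1 h2).eq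
    · exact fun x y z _ _ _ h1 h2 => (Commute.mul_right h1 h2).eq
    · exact fun x y _ _ h => (Commute.inv_left h).eq
    · exact fun x y _ _ h => (Commute.inv_right h).eq
  have hT₀2 : IsPGroup 2 T₀ := by
    refine IsPGroup.to_sup_of_normal_right' (P.2.map ι) (IsPGroup.of_card (n := j) (by
      rw [Nat.card_zpowers, ← hj]
      exact (orderOf_injective F.subtype Subtype.coe_injective a).symm)) ?_
    intro x hx
    refine centralizer_le_normalizer _ ?_
    rw [mem_centralizer_iff]
    intro y hy
    exact hT₀c y (mem_sup_right hy) x (mem_sup_left hx)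
  obtain ⟨T, hT₀T⟩ := hT₀2.exists_le_sylow
  have hTeq : (T : Subgroup F) = T₀ := by
    refine le_antisymm (fun t ht => ?_) hT₀T
    obtain ⟨g, i, hgi⟩ := hdec t
    have hg : ι g ∈ (T : Subgroup F) := by
      rw [show ι g = t * (a ^ i)⁻¹ by rw [hgi, mul_inv_cancel_right]]
      exact mul_mem ht (inv_mem (zpow_mem (hT₀T (mem_sup_right (mem_zpowers a))) i))
    have hgP : g ∈ (P : Subgroup G) := by
      have h1 : IsPGroup 2 ((T : Subgroup F).comap ι) := T.2.comap_of_injective ι hιinj
      have h2 : (P : Subgroup G) ≤ (T : Subgroup F).comap ι := fun x hx =>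
        hT₀T (mem_sup_left (mem_map_of_mem ι hx))
      rw [← P.3 h1 h2]
      exact hg
    rw [hgi]
    exact mul_mem (mem_sup_left (mem_map_of_mem ι hgP)) (mem_sup_right (zpow_mem (mem_zpowers a) i))
  have hTc : ∀ u ∈ (T : Subgroup F), ∀ v ∈ (T : Subgroup F), u * v = v * u := by rw [hTeq]; exact hT₀c
  -- the core of odd order is trivial
  have hOF : pPrimeCore 2 F = ⊥ := by
    set O := pPrimeCore 2 F
    have hOn : O.Normal := normal_of_mem_sSup_normal (fun X hX => hX.1)
    have h1 : O.comap ι = ⊥ := by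
      have hn : (O.comap ι).Normal := hOn.comap ι
      have hcop : (Nat.card (O.comap ι)).Coprime 2 := by
        refine (coprime_card_pPrimeCore (G := F) 2).coprime_dvd_left ?_
        rw [← Subgroup.card_map_of_injective hιinj]
        exact Subgroup.card_dvd_of_le (Subgroup.map_comap_le _ _)
      have h := le_pPrimeCore (p := 2) (N := O.comap ι) hcop
      rw [hcore, le_bot_iff] at h
      exact h
    rw [eq_bot_iff]
    intro o ho
    rw [mem_bot, ← orderOf_eq_one_iff]
    have hoN : ((o : F) : F ⧸ N) = 1 := by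
      rw [← orderOf_eq_one_iff]
      have hd1 : orderOf ((o : F) : F ⧸ N) ∣ Nat.card O :=
        (orderOf_map_dvd (QuotientGroup.mk' N) o).trans (Subgroup.orderOf_dvd_natCard O ho)
      obtain ⟨g, i, hgi⟩ := hdec o
      have hd2 : orderOf ((o : F) : F ⧸ N) ∣ 2 ^ j := by
        rw [hgi, QuotientGroup.mk_mul, (QuotientGroup.eq_one_iff _).mpr (⟨g, rfl⟩ : ι g ∈ N), one_mul]
        refine (orderOf_map_dvd (QuotientGroup.mk' N) _).trans ?_
        rw [← hj, ← orderOf_injective F.subtype Subtype.coe_injective (a ^ i)]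
        exact orderOf_dvd_of_mem_zpowers ⟨i, by simp [a]⟩
      exact Nat.eq_one_of_dvd_coprimes ((coprime_card_pPrimeCore (G := F) 2).pow_right j) hd1 hd2
    obtain ⟨g, hg⟩ := (QuotientGroup.eq_one_iff _).mp hoN
    have : g ∈ O.comap ι := by rw [mem_comap, hg]; exact ho
    rw [h1, mem_bot] at this
    rw [← hg, this, map_one, orderOf_one]
  -- average over the action of the normalizer of `T`
  set NT := normalizer ((T : Subgroup F) : Set F) with hNT
  have hconj : ∀ n : NT, ∀ t ∈ (T : Subgroup F), (n : F) * t * (n : F)⁻¹ ∈ (T : Subgroup F) :=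
    fun n t ht => (mem_normalizer_iff.mp n.2 t).mp ht
  let A := NT ⧸ ((T : Subgroup F).subgroupOf NT)
  have hTNn : ((T : Subgroup F).subgroupOf NT).Normal := normal_in_normalizer
  have hfixC : ∀ t ∈ (T : Subgroup F), (∀ n ∈ NT, n * t * n⁻¹ = t) → t = 1 := by
    intro t ht hn
    obtain ⟨k, hk⟩ := T.2 ⟨t, ht⟩
    have hc := mem_center_of_isolated hOF T hTc k t ht (congrArg Subtype.val hk) hn
    have h1 : (t : MulAut G) = 1 := by
      ext x
      have h2 := congrArg Subtype.val (mem_center_iff.mp hc (ι x))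
      have h3 : c ((t : MulAut G) x) = c x := by
        calc c ((t : MulAut G) x) = (t : MulAut G) * c x * (t : MulAut G)⁻¹ := by
              ext y; simp [c, MulAut.mul_apply]
          _ = c x := by
              have h4 : c x * (t : MulAut G) = (t : MulAut G) * c x := h2
              rw [← h4, mul_inv_cancel_right]
      simpa using hcinj h3
    exact Subtype.ext h1
  have hTcm : IsMulCommutative (T : Subgroup F) := ⟨⟨fun u v => Subtype.ext (hTc u u.2 v v.2)⟩⟩
  let _ : CommGroup (T : Subgroup F) :=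
    { (inferInstance : Group (T : Subgroup F)) with mul_comm := fun u v => hTcm.is_comm.comm u v }
  let _ : CommGroup (F ⧸ N) :=
    { (inferInstance : Group (F ⧸ N)) with
      mul_comm := by
        have hgen : ∀ q : F ⧸ N, ∃ i : ℤ, q = (a : F ⧸ N) ^ i := by
          intro q
          obtain ⟨f, rfl⟩ := QuotientGroup.mk_surjective q
          obtain ⟨g, i, rfl⟩ := hdec f
          exact ⟨i, by rw [QuotientGroup.mk_mul, (QuotientGroup.eq_one_iff _).mpr (⟨g, rfl⟩ : ι g ∈ N),
            one_mul, QuotientGroup.mk_zpow]⟩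
        intro u v
        obtain ⟨i, rfl⟩ := hgen u
        obtain ⟨k, rfl⟩ := hgen v
        exact (Commute.zpow_zpow_self _ i k).eq }
  haveI : Fintype A := Fintype.ofFinite A
  let act : A → (T : Subgroup F) := fun q =>
    Quotient.liftOn' q (fun n : NT => ⟨(n : F) * a * (n : F)⁻¹,
        hconj n a (hT₀T (mem_sup_right (mem_zpowers a)))⟩) (by
      intro n m hnm
      rw [QuotientGroup.leftRel_apply, mem_subgroupOf] at hnm
      refine Subtype.ext ?_
      have h := hTc _ hnm _ (hT₀T (mem_sup_right (mem_zpowers a)))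
      simp only [Subgroup.coe_mul, InvMemClass.coe_inv] at h
      calc (n : F) * a * (n : F)⁻¹ = (n : F) * (a * ((n : F)⁻¹ * (m : F))) * (m : F)⁻¹ := by group
        _ = (m : F) * a * (m : F)⁻¹ := by rw [← h]; group)
  let s : (T : Subgroup F) := ∏ q : A, act q
  have hsfix : ∀ n ∈ NT, n * (s : F) * n⁻¹ = (s : F) := by
    intro n hn
    let ψ : (T : Subgroup F) →* (T : Subgroup F) :=
      { toFun := fun u => ⟨n * u * n⁻¹, hconj ⟨n, hn⟩ u u.2⟩
        map_one' := Subtype.ext (by simp)
        map_mul' := fun u v => Subtype.ext (by simp [mul_assoc]) }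
    have : ψ s = s := by
      rw [map_prod]
      refine Fintype.prod_equiv (Equiv.mulLeft ((⟨n, hn⟩ : NT) : A)) _ _ fun q => ?_
      obtain ⟨m, rfl⟩ := QuotientGroup.mk_surjective q
      refine Subtype.ext ?_
      show n * ((m : F) * a * (m : F)⁻¹) * n⁻¹ = (n * (m : F)) * a * (n * (m : F))⁻¹
      group
    exact congrArg Subtype.val this
  have hs1 : (s : F) = 1 := hfixC _ s.2 hsfix
  let π : (T : Subgroup F) →* F ⧸ N := (QuotientGroup.mk' N).comp (T : Subgroup F).subtype
  have hπ : π s = (a : F ⧸ N) ^ Fintype.card A := by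
    rw [map_prod, ← Finset.card_univ, ← Finset.prod_const]
    refine Finset.prod_congr rfl fun q _ => ?_
    obtain ⟨m, rfl⟩ := QuotientGroup.mk_surjective q
    show (((m : F) * a * (m : F)⁻¹ : F) : F ⧸ N) = (a : F ⧸ N)
    rw [QuotientGroup.mk_mul, QuotientGroup.mk_mul, QuotientGroup.mk_inv, mul_comm (((m : F)) : F ⧸ N),
      mul_inv_cancel_right]
  have hπ1 : π s = 1 := by
    show ((s : F) : F ⧸ N) = 1
    rw [hs1, QuotientGroup.mk_one]
  have hodd : (Fintype.card A).Coprime (2 ^ j) := by
    refine Nat.Coprime.pow_right _ ?_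
    rw [Nat.coprime_comm, Nat.Prime.coprime_iff_not_dvd Nat.prime_two]
    intro hd
    apply T.not_dvd_index
    rw [← Nat.card_eq_fintype_card] at hd
    exact hd.trans (by
      rw [show Nat.card A = (T : Subgroup F).relIndex NT from rfl]
      exact Subgroup.relIndex_dvd_index_of_le le_normalizer)
  have haord : orderOf (a : F ⧸ N) ∣ 2 ^ j := by
    refine (orderOf_map_dvd (QuotientGroup.mk' N) a).trans ?_
    rw [← orderOf_injective F.subtype Subtype.coe_injective a, ← hj]
    rfl
  have ha1 : (a : F ⧸ N) = 1 := by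
    rw [← orderOf_eq_one_iff]
    exact Nat.eq_one_of_dvd_coprimes hodd (orderOf_dvd_of_pow_eq_one (hπ ▸ hπ1)) haord
  obtain ⟨g, hg⟩ := (QuotientGroup.eq_one_iff _).mp ha1
  refine ⟨g, fun x => ?_⟩
  have := DFunLike.congr_fun (congrArg Subtype.val hg) x
  simpa [ι, c, a, eq_comm] using this

end Cfsg.Agent.S4593
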