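import Cfsg.Statements.S1459
import Cfsg.Agent.Coprime.Sylow
import Cfsg.Agent.Coprime.SolvableBasics
import Cfsg.Agent.Coprime.Generation
import Cfsg.Agent.PGroups.Basic

set_option autoImplicit false
open Cfsg
open scoped commutatorElement

namespace Cfsg.Agent.S1459

/-- Let G be a finite solvable group. (a) If H is a normal subgroup of order coprime to its index, K is a complement to H, and H ≤ G', then H = [H, K] and H ∩ C_G(K) ≤ [H, H]. (b) If G' is nilpotent and has prime index in G, then the order of G' is coprime to its index and G' = [G, K] (the subgroup generated by commutators of elements of G with elements of K) for every complement K of G'. -/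
theorem result {G : Type*} [Group G] [Finite G] [Group.IsSolvable G] :
    (∀ (H K : Subgroup G), H.Normal → (Nat.card H).Coprime H.index → Subgroup.IsComplement' H K → H ≤ commutator G →
        H = ⁅H, K⁆ ∧ H ⊓ Subgroup.centralizer (K : Set G) ≤ ⁅H, H⁆) ∧
      (Group.IsNilpotent ↥(commutator G) → (commutator G).index.Prime →
        (Nat.card ↥(commutator G)).Coprime (commutator G).index ∧
        ∀ K : Subgroup G, Subgroup.IsComplement' (commutator G) K → commutator G = ⁅(⊤ : Subgroup G), K⁆) := by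
  classical
  have hA : ∀ (H K : Subgroup G), H.Normal → (Nat.card H).Coprime H.index →
      Subgroup.IsComplement' H K → H ≤ commutator G →
      H = ⁅H, K⁆ ∧ H ⊓ Subgroup.centralizer (K : Set G) ≤ ⁅H, H⁆ := by
    intro H K hHn hcop hHK hHle
    haveI := hHn
    have hKn : K ≤ Subgroup.normalizer (H : Set G) := by rw [Subgroup.normalizer_eq_top]; exact le_top
    have hcopK : (Nat.card K).Coprime (Nat.card H) := by
      rw [← hHK.symm.index_eq_card]; exact hcop.symm
    have hsolH : Group.IsSolvable H := inferInstance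
    set M := ⁅H, K⁆ with hM
    have hMH : M ≤ H := Cfsg.Lib.Coprime.commutator_le_of_le_normalizer hKn
    have hMn : M.Normal := by
      rw [← Subgroup.normalizer_eq_top_iff, eq_top_iff, ← hHK.sup_eq_top]
      exact sup_le (Cfsg.Lib.Coprime.le_normalizer_commutator_left K H)
        (Cfsg.Lib.Coprime.le_normalizer_commutator_right K H)
    haveI := hMn
    haveI : (⁅H, H⁆).Normal := Subgroup.commutator_normal H H
    set N := M ⊔ ⁅H, H⁆ with hN
    have hNH : N ≤ H := sup_le hMH (Subgroup.commutator_le_self H)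
    haveI : N.Normal := inferInstance
    set f := QuotientGroup.mk' N with hf
    have hcomm : ∀ u ∈ H, ∀ w : G, f u * f w = f w * f u := by
      intro u hu w
      obtain ⟨h, hh, k, hk, rfl⟩ : ∃ h ∈ H, ∃ k ∈ K, h * k = w := by
        obtain ⟨⟨⟨h, hh⟩, ⟨k, hk⟩⟩, hw⟩ := hHK.2 w
        exact ⟨h, hh, k, hk, hw⟩
      have h1 : Commute (f u) (f h) := by
        rw [← commutatorElement_eq_one_iff_commute, ← map_commutatorElement, hf]
        exact (QuotientGroup.eq_one_iff _).mpr
          (Subgroup.mem_sup_right (Subgroup.commutator_mem_commutator hu hh))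
      have h2 : Commute (f u) (f k) := by
        rw [← commutatorElement_eq_one_iff_commute, ← map_commutatorElement, hf]
        exact (QuotientGroup.eq_one_iff _).mpr
          (Subgroup.mem_sup_left (Subgroup.commutator_mem_commutator hu hk))
      rw [map_mul]
      exact (h1.mul_right h2).eq
    have hG' : commutator G ≤ (K.map f).comap f := by
      rw [commutator_def, Subgroup.commutator_le]
      intro x _ y _
      obtain ⟨⟨⟨h, hh⟩, ⟨k, hk⟩⟩, rfl⟩ := hHK.2 x
      obtain ⟨⟨⟨h', hh'⟩, ⟨k', hk'⟩⟩, rfl⟩ := hHK.2 y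
      refine ⟨⁅k, k'⁆, mul_mem (mul_mem (mul_mem hk hk') (inv_mem hk)) (inv_mem hk'), ?_⟩
      simp only [map_commutatorElement, map_mul, commutatorElement_def, mul_inv_rev]
      have c1 : ∀ w, Commute (f h) (f w) := fun w => hcomm h hh w
      have c2 : ∀ w, Commute (f h') (f w) := fun w => hcomm h' hh' w
      symm
      calc f h * f k * (f h' * f k') * ((f k)⁻¹ * (f h)⁻¹) * ((f k')⁻¹ * (f h')⁻¹)
          = f h * (f k * f h') * f k' * (f k)⁻¹ * ((f h)⁻¹ * (f k')⁻¹) * (f h')⁻¹ := by group
        _ = f h * (f h' * f k) * f k' * (f k)⁻¹ * ((f k')⁻¹ * (f h)⁻¹) * (f h')⁻¹ := by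
            rw [(c2 k).eq, ((c1 k').inv_inv).eq]
        _ = f h * (f h' * f ⁅k, k'⁆) * (f h)⁻¹ * (f h')⁻¹ := by
            rw [map_commutatorElement, commutatorElement_def]; group
        _ = f h * f ⁅k, k'⁆ * (f h' * (f h)⁻¹) * (f h')⁻¹ := by rw [(c2 ⁅k, k'⁆).eq]; group
        _ = f h * f ⁅k, k'⁆ * ((f h)⁻¹ * f h') * (f h')⁻¹ := by rw [((c1 h').inv_left).eq]
        _ = f ⁅k, k'⁆ * f h * (f h)⁻¹ := by rw [(c1 ⁅k, k'⁆).eq]; group
        _ = _ := by simp [commutatorElement_def, mul_assoc]
    have hHN : H ≤ N := by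
      intro x hx
      obtain ⟨k, hk, hkx⟩ := hG' (hHle hx)
      have h1 : k⁻¹ * x ∈ N := by
        rw [← QuotientGroup.eq_one_iff]
        show f (k⁻¹ * x) = 1
        rw [map_mul, map_inv, hkx, inv_mul_cancel]
      have h2 : k ∈ H := by
        have := mul_mem hx (inv_mem (hNH h1))
        simpa [mul_assoc] using this
      have h3 : k = 1 := by
        have hb : H ⊓ K = ⊥ := hHK.disjoint.eq_bot
        exact Subgroup.mem_bot.mp (hb ▸ ⟨h2, hk⟩)
      simpa [h3] using h1
    have hHM : H = M := by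
      refine le_antisymm ?_ hMH
      by_contra hnle
      haveI : (M.subgroupOf H).Normal := inferInstance
      haveI : Nontrivial (↥H ⧸ M.subgroupOf H) :=
        QuotientGroup.nontrivial_iff.mpr fun h => hnle (Subgroup.subgroupOf_eq_top.mp h)
      refine (Group.IsSolvable.commutator_lt_top_of_nontrivial (↥H ⧸ M.subgroupOf H)).ne ?_
      rw [eq_top_iff, ← MonoidHom.range_eq_top.mpr (QuotientGroup.mk'_surjective (M.subgroupOf H)),
        MonoidHom.range_eq_map]
      rintro _ ⟨x, -, rfl⟩
      obtain ⟨m, hm, w, hw, hmw⟩ := Subgroup.mem_sup_of_normal_left.mp (hHN x.2)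
      have hw' : w ∈ (commutator H).map H.subtype := by
        rw [commutator_def, Subgroup.map_commutator, ← MonoidHom.range_eq_map, Subgroup.range_subtype]
        exact hw
      obtain ⟨z, hz, hzw⟩ := hw'
      have hxz : x * z⁻¹ ∈ M.subgroupOf H := by
        rw [Subgroup.mem_subgroupOf, Subgroup.coe_mul, Subgroup.coe_inv, ← hmw,
          show (z : G) = w from hzw, mul_inv_cancel_right]
        exact hm
      have : QuotientGroup.mk' (M.subgroupOf H) x = QuotientGroup.mk' (M.subgroupOf H) z := by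
        rw [← mul_inv_eq_one, ← map_inv, ← map_mul]
        exact (QuotientGroup.eq_one_iff _).mpr hxz
      rw [this, commutator_def, ← MonoidHom.range_eq_top.mpr
        (QuotientGroup.mk'_surjective (M.subgroupOf H)), MonoidHom.range_eq_map,
        ← Subgroup.map_commutator]
      exact Subgroup.mem_map_of_mem _ hz
    refine ⟨hHM, ?_⟩
    set g := QuotientGroup.mk' ⁅H, H⁆ with hg
    rintro x ⟨hx, hxc⟩
    rw [← QuotientGroup.eq_one_iff]
    show g x = 1
    haveI : IsMulCommutative (H.map g) := ⟨⟨by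
      rintro ⟨-, a, ha, rfl⟩ ⟨-, b, hb, rfl⟩
      apply Subtype.ext
      show g a * g b = g b * g a
      rw [← commutatorElement_eq_one_iff_mul_comm, ← map_commutatorElement, hg]
      exact (QuotientGroup.eq_one_iff _).mpr (Subgroup.commutator_mem_commutator ha hb)⟩⟩
    have hd := (Cfsg.Lib.Coprime.abelian_coprime_decomp (A := K.map g) (V := H.map g)
      (by rw [Subgroup.normalizer_eq_top_iff.mpr
            (Subgroup.Normal.map inferInstance g (QuotientGroup.mk'_surjective _))]; exact le_top)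
      ((hcopK.coprime_dvd_left (Subgroup.card_map_dvd _ _)).coprime_dvd_right
        (Subgroup.card_map_dvd _ _))).1
    rw [← Subgroup.mem_bot, ← hd]
    refine ⟨⟨Subgroup.mem_map_of_mem g hx, ?_⟩, ?_⟩
    · refine Subgroup.mem_centralizer_iff.mpr ?_
      rintro - ⟨k, hk, rfl⟩
      rw [← map_mul, ← map_mul, Subgroup.mem_centralizer_iff.mp hxc k hk]
    · rw [SetLike.mem_coe, ← Subgroup.map_commutator, ← hM, ← hHM]
      exact Subgroup.mem_map_of_mem g hx
  refine ⟨hA, fun hnil hq => ?_⟩
  have hcop : (Nat.card ↥(commutator G)).Coprime (commutator G).index := by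
    set H := commutator G with hH
    set q := H.index with hqdef
    haveI := Fact.mk hq
    by_contra hc
    have hdvd : q ∣ Nat.card H := by
      rwa [Nat.coprime_comm, hq.coprime_iff_not_dvd, not_not] at hc
    haveI : (⁅H, H⁆).Normal := Subgroup.commutator_normal H H
    set g := QuotientGroup.mk' ⁅H, H⁆ with hg
    have hgs : Function.Surjective g := QuotientGroup.mk'_surjective _
    have hker : g.ker = ⁅H, H⁆ := QuotientGroup.ker_mk' _
    set V := H.map g with hV
    have hVidx : V.index = q := by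
      rw [hV, Subgroup.index_map, hker, sup_eq_left.mpr (Subgroup.commutator_le_self H),
        MonoidHom.range_eq_top.mpr hgs, Subgroup.index_top, mul_one]
    have hVn : V.Normal := Subgroup.Normal.map inferInstance g hgs
    have hVcomm : ∀ a ∈ V, ∀ b ∈ V, a * b = b * a := by
      rintro - ⟨a, ha, rfl⟩ - ⟨b, hb, rfl⟩
      rw [← commutatorElement_eq_one_iff_mul_comm, ← map_commutatorElement, hg]
      exact (QuotientGroup.eq_one_iff _).mpr (Subgroup.commutator_mem_commutator ha hb)
    have hVd : q ∣ Nat.card V := by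
      have h1 : commutator H ≤ frattini H := by
        refine le_iInf₂ fun M hM => ?_
        haveI := Subgroup.NormalizerCondition.normal_of_coatom M (normalizerCondition_of_isNilpotent (G := H)) hM
        exact (commutator_def H).le.trans (Cfsg.Lib.Coprime.commutator_le_of_normal_coatom hM)
      have h2 := (Cfsg.Lib.Coprime.dvd_index_frattini (G := H) hq hdvd).trans
        (Subgroup.index_dvd_of_le h1)
      have h3 : (g.comp H.subtype).ker = commutator H := by
        rw [← MonoidHom.comap_ker, hker, commutator_def]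
        refine (Subgroup.map_injective H.subtype_injective ?_)
        rw [Subgroup.map_commutator, ← MonoidHom.range_eq_map, Subgroup.range_subtype,
          Subgroup.map_comap_eq, Subgroup.range_subtype,
          inf_eq_right.mpr (Subgroup.commutator_le_self H)]
      rw [show V = (g.comp H.subtype).range by rw [hV, MonoidHom.range_comp, Subgroup.range_subtype],
        ← Subgroup.index_ker, h3]
      exact h2
    obtain ⟨v, hv⟩ := exists_prime_orderOf_dvd_card' q hVd
    obtain ⟨Q, hQ⟩ := (IsPGroup.of_card (n := 1)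
      (show Nat.card (Subgroup.zpowers (v : G ⧸ ⁅H, H⁆)) = q ^ 1 by
        rw [Nat.card_zpowers, Subgroup.orderOf_coe, hv, pow_one])).exists_le_sylow
    have hvQ : (v : G ⧸ ⁅H, H⁆) ∈ (Q : Subgroup _) := hQ (Subgroup.mem_zpowers _)
    obtain ⟨x, hxQ, hxV⟩ : ∃ x ∈ (Q : Subgroup (G ⧸ ⁅H, H⁆)), x ∉ V := by
      by_contra hcon
      push Not at hcon
      exact Q.not_dvd_index (hVidx.symm.dvd.trans (Subgroup.index_dvd_of_le (fun y hy => hcon y hy)))
    haveI : (V.subgroupOf (Q : Subgroup (G ⧸ ⁅H, H⁆))).Normal := inferInstance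
    have hv1 : v ≠ 1 := fun h => hq.ne_one (by rw [← hv, h, orderOf_one])
    obtain ⟨z, hz, hzc, hz1⟩ := Cfsg.Lib.PGroups.exists_mem_center_of_normal_ne_bot Q.2
      (N := V.subgroupOf (Q : Subgroup (G ⧸ ⁅H, H⁆))) (fun h => hv1 (by
        have h' : (⟨v, hvQ⟩ : (Q : Subgroup (G ⧸ ⁅H, H⁆))) ∈
            V.subgroupOf (Q : Subgroup (G ⧸ ⁅H, H⁆)) := v.2
        rw [h, Subgroup.mem_bot] at h'
        exact Subtype.ext (congrArg Subtype.val h' :)))
    let ν : V →* V :=
      { toFun := fun w => ⟨⁅(w : G ⧸ ⁅H, H⁆), x⁆, by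
          rw [commutatorElement_def, show (w : G ⧸ ⁅H, H⁆) * x * (w : G ⧸ ⁅H, H⁆)⁻¹ * x⁻¹ =
            w * (x * (w : G ⧸ ⁅H, H⁆)⁻¹ * x⁻¹) by group]
          exact mul_mem w.2 (hVn.conj_mem _ (inv_mem w.2) x)⟩
        map_one' := by apply Subtype.ext; simp
        map_mul' := fun a b => by
          apply Subtype.ext
          simp only [Subgroup.coe_mul, commutatorElement_def, mul_inv_rev]
          have hb : (b : G ⧸ ⁅H, H⁆) * (x * (b : G ⧸ ⁅H, H⁆)⁻¹ * x⁻¹) ∈ V :=
            mul_mem b.2 (hVn.conj_mem _ (inv_mem b.2) x)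
          have hc := hVcomm _ hb _ (hVn.conj_mem _ (inv_mem a.2) x)
          calc (a : G ⧸ ⁅H, H⁆) * b * x * ((b : G ⧸ ⁅H, H⁆)⁻¹ * (a : G ⧸ ⁅H, H⁆)⁻¹) * x⁻¹
              = a * ((b * (x * (b : G ⧸ ⁅H, H⁆)⁻¹ * x⁻¹)) * (x * (a : G ⧸ ⁅H, H⁆)⁻¹ * x⁻¹)) := by
                group
            _ = _ := by rw [hc]; group }
    set W := ν.range.map V.subtype with hW
    have hWV : W ≤ V := Subgroup.map_subtype_le _
    have hmax : V ⊔ Subgroup.zpowers x = ⊤ := by
      have h1 : (V ⊔ Subgroup.zpowers x).index ∣ q := by rw [← hVidx]; exact Subgroup.index_dvd_of_le le_sup_left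
      rcases (Nat.dvd_prime hq).mp h1 with h | h
      · exact Subgroup.index_eq_one.mp h
      · exact absurd (Subgroup.eq_of_le_of_card_ge (H := V) le_sup_left
          (le_of_eq (Nat.eq_of_mul_eq_mul_right (hq.pos) (by
            calc Nat.card ↥(V ⊔ Subgroup.zpowers x) * q
                = Nat.card (G ⧸ ⁅H, H⁆) := by rw [← h]; exact Subgroup.card_mul_index _
              _ = Nat.card V * q := by rw [← hVidx]; exact (Subgroup.card_mul_index _).symm))))
          (fun he => hxV (he ▸ Subgroup.mem_sup_right (Subgroup.mem_zpowers x)))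
    have hWV' : V ≤ Subgroup.normalizer (W : Set (G ⧸ ⁅H, H⁆)) := fun w hw =>
      Cfsg.Lib.Coprime.mem_normalizer_of_conj_mem
        (fun y hy => by rwa [hVcomm w hw y (hWV hy), mul_inv_cancel_right])
        (fun y hy => by rwa [mul_assoc, hVcomm y (hWV hy) w hw, inv_mul_cancel_left])
    have hWx : x ∈ Subgroup.normalizer (W : Set (G ⧸ ⁅H, H⁆)) := by
      refine Cfsg.Lib.Coprime.mem_normalizer_of_conj_mem ?_ ?_
      · rintro - ⟨-, ⟨w, rfl⟩, rfl⟩
        refine ⟨ν ⟨_, hVn.conj_mem _ w.2 x⟩, ⟨_, rfl⟩, ?_⟩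
        show ⁅x * (w : G ⧸ ⁅H, H⁆) * x⁻¹, x⁆ = x * ⁅(w : G ⧸ ⁅H, H⁆), x⁆ * x⁻¹
        simp only [commutatorElement_def]; group
      · rintro - ⟨-, ⟨w, rfl⟩, rfl⟩
        refine ⟨ν ⟨_, hVn.conj_mem _ w.2 x⁻¹⟩, ⟨_, rfl⟩, ?_⟩
        show ⁅x⁻¹ * (w : G ⧸ ⁅H, H⁆) * x⁻¹⁻¹, x⁆ = x⁻¹ * ⁅(w : G ⧸ ⁅H, H⁆), x⁆ * x
        simp only [commutatorElement_def]; group
    haveI hWn : W.Normal := by
      rw [← Subgroup.normalizer_eq_top_iff, eq_top_iff, ← hmax]
      exact sup_le hWV' (Subgroup.zpowers_le.mpr hWx)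
    set k := QuotientGroup.mk' W with hk
    have hab : ∀ a b : G ⧸ ⁅H, H⁆, k a * k b = k b * k a := by
      have hVx : ∀ a ∈ V, Commute (k a) (k x) := fun a ha => by
        rw [← commutatorElement_eq_one_iff_commute, ← map_commutatorElement, hk]
        exact (QuotientGroup.eq_one_iff _).mpr ⟨ν ⟨a, ha⟩, ⟨_, rfl⟩, rfl⟩
      have hgen : ∀ b : G ⧸ ⁅H, H⁆, ∀ a ∈ V, Commute (k a) (k b) := by
        intro b a ha
        have hb : b ∈ V ⊔ Subgroup.zpowers x := hmax ▸ Subgroup.mem_top b
        obtain ⟨v', hv', w, ⟨i, rfl⟩, rfl⟩ := Subgroup.mem_sup_of_normal_left.mp hb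
        rw [map_mul, map_zpow]
        exact (by rw [Commute, SemiconjBy, ← map_mul, ← map_mul, hVcomm a ha v' hv'] :
          Commute (k a) (k v')).mul_right ((hVx a ha).zpow_right i)
      intro a b
      have ha : a ∈ V ⊔ Subgroup.zpowers x := hmax ▸ Subgroup.mem_top a
      obtain ⟨v', hv', w, ⟨i, rfl⟩, rfl⟩ := Subgroup.mem_sup_of_normal_left.mp ha
      rw [map_mul, map_zpow]
      have hxb : Commute (k x) (k b) := by
        have hb : b ∈ V ⊔ Subgroup.zpowers x := hmax ▸ Subgroup.mem_top b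
        obtain ⟨u, hu, w, ⟨j, rfl⟩, rfl⟩ := Subgroup.mem_sup_of_normal_left.mp hb
        rw [map_mul, map_zpow]
        exact (hVx u hu).symm.mul_right ((Commute.refl (k x)).zpow_right j)
      exact ((hgen b v' hv').mul_left (hxb.zpow_left i)).eq
    have hVW : V ≤ W := by
      rintro - ⟨a, ha, rfl⟩
      have : commutator G ≤ W.comap g := by
        rw [commutator_def, Subgroup.commutator_le]
        intro a _ b _
        show g ⁅a, b⁆ ∈ W
        rw [← QuotientGroup.eq_one_iff]
        show k (g ⁅a, b⁆) = 1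
        rw [map_commutatorElement, map_commutatorElement, commutatorElement_eq_one_iff_mul_comm]
        exact hab _ _
      exact this ha
    have hsurj : Function.Surjective ν := by
      intro w
      obtain ⟨w', hw', he⟩ := hVW w.2
      obtain ⟨u, rfl⟩ := hw'
      exact ⟨u, Subtype.ext he⟩
    have hinj : Function.Injective ν := Finite.injective_iff_surjective.mpr hsurj
    have hzV : ((z : (Q : Subgroup (G ⧸ ⁅H, H⁆))) : G ⧸ ⁅H, H⁆) ∈ V := hz
    have hνz : ν ⟨_, hzV⟩ = 1 := by
      apply Subtype.ext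
      show ⁅(z : G ⧸ ⁅H, H⁆), x⁆ = 1
      rw [commutatorElement_eq_one_iff_mul_comm]
      exact (congrArg Subtype.val (Subgroup.mem_center_iff.mp hzc ⟨x, hxQ⟩)).symm
    rw [← map_one ν] at hνz
    exact hq.ne_one (hz1 ▸ orderOf_eq_one_iff.mpr (Subtype.ext (congrArg Subtype.val (hinj hνz) :)))
  refine ⟨hcop, fun K hK => le_antisymm ?_ ?_⟩
  · have h := (hA _ K inferInstance hcop hK le_rfl).1
    exact h.le.trans (Subgroup.commutator_mono le_top le_rfl)
  · rw [commutator_def]
    exact Subgroup.commutator_mono le_rfl le_top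

end Cfsg.Agent.S1459
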