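import Cfsg.Statements.S1237
import Cfsg.Agent.TwoFusion.RankTwoTrans.Main
import Cfsg.Agent.SuzukiTwo.Unitary
import Cfsg.Agent.SuzukiTwo.Setup
import Cfsg.Agent.SuzukiTwo.ClassTwo

set_option autoImplicit false
open Cfsg

namespace Cfsg.Agent.S1237

/-- Let T be a finite 2-group of 2-rank exactly 2 (it has a Klein four-subgroup but no elementary abelian subgroup of order 8) admitting an automorphism φ such that any two involutions of T are carried to one another by a power of φ. Then T ≅ Z_{2^n} × Z_{2^n} for some n ≥ 1, or T is isomorphic to a Sylow 2-subgroup of PSU(3) over the field with 16 elements. -/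
theorem result {T : Type*} [Group T] [Finite T] (hT : IsPGroup 2 T) (h2 : Cfsg.PRankLE 2 2 T) (h1 : ¬ Cfsg.PRankLE 2 1 T) (φ : MulAut T) (htrans : ∀ s t : T, orderOf s = 2 → orderOf t = 2 → ∃ k : ℕ, (φ ^ k) s = t) {F : Type*} [Field F] [Fintype F] (hF : Fintype.card F = 16) (P : Sylow 2 (Cfsg.PSU 3 F 4)) : (∃ n : ℕ, 1 ≤ n ∧ Nonempty (T ≃* Multiplicative (ZMod (2 ^ n) × ZMod (2 ^ n)))) ∨ Nonempty (T ≃* (P : Subgroup (Cfsg.PSU 3 F 4))) := by
  rcases Cfsg.Lib.RankTwoTrans.classify hT h2 h1 φ htrans with h | ⟨⟨R⟩⟩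
  · exact Or.inl h
  right
  obtain ⟨-, hzcard, hsz⟩ := Cfsg.Lib.SuzukiTwo.psu_three (n := 2) le_rfl (by rw [hF]; norm_num) P
  have hiff := Cfsg.Lib.SuzukiTwo.involution_iff hsz
  obtain ⟨-, h2P, hnab, -, K, hcyc, hreg⟩ := hsz
  obtain ⟨k, hk⟩ := hcyc.exists_generator
  have hz4 : Nat.card (Subgroup.center (P : Subgroup (Cfsg.PSU 3 F 4))) = 4 := hzcard
  have hrk : Cfsg.PRankLE 2 2 (P : Subgroup (Cfsg.PSU 3 F 4)) := fun A _ hA => by
    show Nat.card A ≤ 4
    refine le_of_le_of_eq ?_ hz4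
    exact Nat.card_le_card_of_injective (fun a : A => (⟨a.1, (hiff a.1).mp (by rw [← pow_two]; exact hA _ a.2)⟩ :
      Subgroup.center (P : Subgroup (Cfsg.PSU 3 F 4))))
      (fun a b e => Subtype.ext (congrArg (fun z : Subgroup.center (P : Subgroup (Cfsg.PSU 3 F 4)) => z.1) e))
  have hrk1 : ¬ Cfsg.PRankLE 2 1 (P : Subgroup (Cfsg.PSU 3 F 4)) := fun h => by
    have := h (Subgroup.center (P : Subgroup (Cfsg.PSU 3 F 4))) inferInstance
      (fun a ha => by rw [pow_two]; exact (hiff a).mpr ha)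
    rw [hz4] at this
    norm_num at this
  have htr : ∀ s t : (P : Subgroup (Cfsg.PSU 3 F 4)), orderOf s = 2 → orderOf t = 2 →
      ∃ j : ℕ, ((k : MulAut (P : Subgroup (Cfsg.PSU 3 F 4))) ^ j) s = t := by
    intro s t hs ht
    have hs1 : s ≠ 1 := fun e => by rw [e, orderOf_one] at hs; omega
    have ht1 : t ≠ 1 := fun e => by rw [e, orderOf_one] at ht; omega
    obtain ⟨g, hg, -⟩ := hreg s t hs1 ((pow_two s).symm.trans ((congrArg (s ^ ·) hs.symm).trans (pow_orderOf_eq_one s))) ht1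
      ((pow_two t).symm.trans ((congrArg (t ^ ·) ht.symm).trans (pow_orderOf_eq_one t)))
    haveI : Finite K := Subtype.finite
    obtain ⟨j, rfl⟩ := (mem_powers_iff_mem_zpowers.mpr (hk g) : g ∈ Submonoid.powers k)
    exact ⟨j, by rw [← SubgroupClass.coe_pow]; exact hg⟩
  rcases Cfsg.Lib.RankTwoTrans.classify h2P hrk hrk1 (k : MulAut (P : Subgroup (Cfsg.PSU 3 F 4))) htr with
    ⟨n, -, ⟨e⟩⟩ | ⟨⟨R'⟩⟩
  · obtain ⟨a, b, hab⟩ := hnab
    exact absurd (e.injective (by rw [map_mul, map_mul, mul_comm])) hab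
  · exact ⟨R.iso R'⟩

end Cfsg.Agent.S1237
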