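import Cfsg.Statements.S0219
import Mathlib.GroupTheory.Transfer


set_option autoImplicit false
open Cfsg

namespace Cfsg.Agent.S0219

/-- If a finite group has even order and a cyclic Sylow 2-subgroup, then it has a subgroup of index 2 (consider the parity of permutations in the regular representation). -/
theorem result {G : Type*} [Group G] [Finite G] (heven : Even (Nat.card G)) (T : Sylow 2 G) (hT : IsCyclic (T : Subgroup G)) : ∃ H : Subgroup G, H.index = 2 := by
  haveI : Fact (Nat.Prime 2) := ⟨Nat.prime_two⟩
  have h1 : Nat.card G ≠ 1 := fun h => by rw [h] at heven; exact absurd heven (by decide)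
  have hmin : (Nat.card G).minFac = 2 := Nat.minFac_eq_two_iff _ |>.2 heven.two_dvd
  have hc := IsCyclic.isComplement' hmin hT
  set N := (MonoidHom.transferSylow T (hT.normalizer_le_centralizer hmin)).ker with hN
  have hidx : Nat.card (G ⧸ N) = Nat.card (T : Subgroup G) := by
    rw [← Subgroup.index_eq_card]
    exact hc.symm.index_eq_card
  obtain ⟨k, hk⟩ := IsPGroup.iff_card.1 T.isPGroup'
  have hk1 : 1 ≤ k := by
    by_contra hk0
    have h2 : 2 ∣ Nat.card (T : Subgroup G) := T.dvd_card_of_dvd_card heven.two_dvd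
    rw [hk, show k = 0 by omega] at h2
    norm_num at h2
  obtain ⟨Q, hQ⟩ := Sylow.exists_subgroup_card_pow_prime 2 (G := G ⧸ N) (n := k - 1)
    (by rw [hidx, hk]; exact pow_dvd_pow 2 (by omega))
  refine ⟨Q.comap (QuotientGroup.mk' N), ?_⟩
  rw [Subgroup.index_comap_of_surjective _ (QuotientGroup.mk'_surjective N)]
  have h2 := Q.card_mul_index
  rw [hQ, hidx, hk, show k = k - 1 + 1 by omega, pow_succ, Nat.add_sub_cancel] at h2
  exact Nat.eq_of_mul_eq_mul_left (Nat.two_pow_pos _) h2

end Cfsg.Agent.S0219
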