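import Cfsg.Statements.S0516
import Cfsg.Agent.Fusion.RankTwoCenter.GroupForm
import Cfsg.Agent.InvolCalc.ZStarApps
import Cfsg.Agent.S0204
import Cfsg.Agent.S0949
-- import your own Cfsg.Agent.* helpers here

set_option autoImplicit false
set_option linter.style.haveILetI false
open Cfsg

namespace Cfsg.Agent.S0516

/-- In a non-abelian finite simple group of 2-rank at most 2, a Sylow 2-subgroup is dihedral (of order at least 4),
quasi-dihedral, wreathed, or isomorphic to a Sylow 2-subgroup of the projective special unitary group of dimension 3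
over the field with 16 elements. -/
theorem result {G : Type*} [Group G] [Finite G] [IsSimpleGroup G]
    (hG : ¬ IsMulCommutative G) (h2 : Cfsg.PRankLE 2 2 G) (S : Sylow 2 G) {F : Type*} [Field F] [Fintype F]
    (hF : Fintype.card F = 16) (P : Sylow 2 (Cfsg.PSU 3 F 4)) :
    (∃ n : ℕ, 2 ≤ n ∧ Nonempty ((S : Subgroup G) ≃* DihedralGroup n)) ∨ Cfsg.IsQuasiDihedral (S : Subgroup G) ∨
      Cfsg.IsWreathed (S : Subgroup G) ∨ Nonempty ((S : Subgroup G) ≃* (P : Subgroup (Cfsg.PSU 3 F 4))) := by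
  haveI : Fact (Nat.Prime 2) := ⟨Nat.prime_two⟩
  have hncyc : ¬ IsCyclic G := fun h => hG (@IsCyclic.isMulCommutative G _ h)
  obtain ⟨E, hE⟩ := Cfsg.Agent.S0204.result hncyc
  have h1 : ¬ Cfsg.PRankLE 2 1 G := fun h => by
    have := h E (@IsKleinFour.isMulCommutative E _ hE) fun a ha => by
      have h2 : (⟨a, ha⟩ : E) ^ 2 = 1 := by rw [← hE.exponent_two]; exact Monoid.pow_exponent_eq_one _
      exact congrArg Subtype.val h2
    rw [hE.card_four] at this
    norm_num at this
  have hncen : Subgroup.center G ≠ ⊤ := fun h => hG ⟨⟨fun a b => Subgroup.mem_center_iff.mp (h ▸ Subgroup.mem_top b) a⟩⟩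
  have hO : ∀ N : Subgroup G, N.Normal → Odd (Nat.card N) → N = ⊥ := fun N hN hodd =>
    hN.eq_bot_or_eq_top.resolve_right fun h => by
      subst h
      rw [Subgroup.card_top] at hodd
      have h4 := hE.card_four ▸ E.card_subgroup_dvd_card
      exact Nat.not_even_iff_odd.mpr hodd (even_iff_two_dvd.mpr (dvd_trans (by norm_num) h4))
  have hiso : ∀ z : G, ¬ Cfsg.IsIsolatedInvolution z := fun z hz => by
    have hbot := hO _ inferInstance (Cfsg.Lib.ZStarApps.odd_card_pPrimeCore (G := G))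
    have hc : z ∈ Subgroup.center G := Subgroup.mem_center_iff.mpr fun g => by
      have h := Cfsg.Lib.ZStarApps.zstarProp hz g
      rw [hbot, Subgroup.mem_bot, mul_inv_eq_one, mul_inv_eq_iff_eq_mul] at h
      exact h.symm
    rcases (inferInstance : (Subgroup.center G).Normal).eq_bot_or_eq_top with h | h
    · rw [h, Subgroup.mem_bot] at hc
      have := hz.1
      rw [hc, orderOf_one] at this
      norm_num at this
    · exact hncen h
  rcases Cfsg.Lib.RankTwoCenter.sylow_list h2 h1 hiso S hF P with h | h | h | ⟨n, hn, ⟨e⟩⟩ | h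
  · exact Or.inl h
  · exact Or.inr (Or.inl h)
  · exact Or.inr (Or.inr (Or.inl h))
  · obtain ⟨hSn, -, -⟩ := Cfsg.Agent.S0949.result S n hn e hO
    rcases hSn.eq_bot_or_eq_top with h | h
    · have h3 := Nat.card_congr e.toEquiv
      rw [h, Subgroup.card_bot, Nat.card_congr Multiplicative.toAdd, Nat.card_prod, Nat.card_zmod] at h3
      have : 4 ≤ 2 ^ n := le_trans (by norm_num) (Nat.pow_le_pow_right (by norm_num) hn : 2 ^ 2 ≤ 2 ^ n)
      nlinarith
    · refine absurd ⟨⟨fun a b => ?_⟩⟩ hG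
      exact congrArg Subtype.val (e.injective (a₁ := ⟨a, h ▸ Subgroup.mem_top a⟩ * ⟨b, h ▸ Subgroup.mem_top b⟩)
        (a₂ := ⟨b, h ▸ Subgroup.mem_top b⟩ * ⟨a, h ▸ Subgroup.mem_top a⟩) (by rw [map_mul, map_mul, mul_comm]))
  · exact Or.inr (Or.inr (Or.inr h))

end Cfsg.Agent.S0516
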