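import Cfsg.Statements.S1132
import Cfsg.Agent.RankOne.InvertedCyclic

set_option autoImplicit false
open Cfsg

namespace Cfsg.Agent.S1132

/-- In the rank-one set-up (`G` finite and doubly transitive on `Ω`, `t` an involution moving `a`, `Q` normal in `G_a` with `G_a = Q D`, `Q ⊓ D = 1` for the two-point stabiliser `D = G_a ⊓ G_{t • a}`, `|Q|` even, `|D|` odd), with the action faithful and `G` containing two distinct commuting involutions: a Sylow 2-subgroup of `Q` is abelian or a Suzuki 2-group. -/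
theorem result {G Ω : Type*} [Group G] [Finite G] [MulAction G Ω] [FaithfulSMul G Ω] {a : Ω} {t : G} {Q : Subgroup G}
    (hS : Cfsg.IsRankOneSetup G Ω a t Q)
    (h2 : ∃ x y : G, x ≠ 1 ∧ y ≠ 1 ∧ x ≠ y ∧ x * x = 1 ∧ y * y = 1 ∧ x * y = y * x)
    (S : Sylow 2 ↥Q) : IsMulCommutative (S : Subgroup ↥Q) ∨ Cfsg.IsSuzukiTwoGroup ↥(S : Subgroup ↥Q) := by
  classical
  by_cases hab : ∀ x y : (S : Subgroup Q), x * y = y * x
  · exact Or.inl ⟨⟨hab⟩⟩
  push Not at hab
  refine Or.inr ⟨inferInstance, S.2, hab, ?_⟩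
  obtain ⟨C, hC, hCcyc, hCn⟩ := Cfsg.Lib.RankOne.inverted_subgroup hS h2
  haveI := Fact.mk Nat.prime_two
  haveI := Cfsg.Lib.RankOne.nilpotent_Q hS h2
  haveI hSn : (S : Subgroup Q).Normal := by
    have h := ((Group.isNilpotent_of_finite_tfae (G := Q)).out 0 3).1 ‹_›
    exact h 2 inferInstance S
  haveI hSc : (S : Subgroup Q).Characteristic := Sylow.characteristic_of_normal S hSn
  set J := Cfsg.involutionsIn (MulAction.stabilizer G a : Set G)
  -- the involutions of `S` are those of the point stabiliser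
  have hin : ∀ x ∈ J, ∃ y : (S : Subgroup Q), ((y : Q) : G) = x := fun x hx => by
    have hxQ := Cfsg.Lib.RankOne.inv_mem_Q hS hx.1 hx.2.2
    have hp : IsPGroup 2 (Subgroup.zpowers (⟨x, hxQ⟩ : Q)) := by
      refine IsPGroup.of_card (n := 1) ?_
      rw [Nat.card_zpowers, ← Subgroup.orderOf_coe, pow_one]
      exact orderOf_eq_prime (by rw [pow_two]; exact hx.2.2) hx.2.1
    obtain ⟨R, hR⟩ := hp.exists_le_sylow
    haveI := Sylow.unique_of_normal S hSn
    rw [Subsingleton.elim R S] at hR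
    exact ⟨⟨_, hR (Subgroup.mem_zpowers _)⟩, rfl⟩
  have hout : ∀ x : (S : Subgroup Q), x ≠ 1 → x * x = 1 → ((x : Q) : G) ∈ J := fun x hx1 hx2 =>
    ⟨hS.le (x : Q).2, fun h => hx1 (Subtype.ext (Subtype.ext h)),
      congrArg (fun z : (S : Subgroup Q) => ((z : Q) : G)) hx2⟩
  refine ⟨?_, ?_⟩
  · obtain ⟨s, hs⟩ := Cfsg.Lib.RankOne.exists_invol hS
    obtain ⟨k, hk, hk1⟩ := Cfsg.Lib.RankOne.exists_inverted_ne hS h2
    have hs' : k⁻¹ * s * k ∈ J := by
      have := Cfsg.Lib.RankOne.conj_invol hS (x := k⁻¹)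
        (inv_smul_eq_iff.2 (Subgroup.mem_inf.1 hk.1).1.symm) hs
      rwa [inv_inv] at this
    have hne : k⁻¹ * s * k ≠ s := fun h => hk1 (Cfsg.Lib.RankOne.conj_inj hS hs hk
      ⟨one_mem _, by rw [mul_one, mul_inv_cancel, inv_one]⟩ (by rw [h, inv_one, one_mul, mul_one]))
    obtain ⟨x, hx⟩ := hin s hs
    obtain ⟨y, hy⟩ := hin _ hs'
    exact ⟨y, x, fun h => hne (hy.symm.trans ((congrArg (fun z : (S : Subgroup Q) => ((z : Q) : G)) h).trans hx)),
      fun h => hs'.2.1 (by rw [← hy, h]; rfl), Subtype.ext (Subtype.ext (by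
        show ((y : Q) : G) * (y : Q) = 1
        rw [hy]; exact hs'.2.2)),
      fun h => hs.2.1 (by rw [← hx, h]; rfl), Subtype.ext (Subtype.ext (by
        show ((x : Q) : G) * (x : Q) = 1
        rw [hx]; exact hs.2.2))⟩
  -- the action on `Q` and on `S`
  have hCa : ∀ c : C, (c : G) ∈ MulAction.stabilizer G a := fun c =>
    (Subgroup.mem_inf.1 ((Set.ext_iff.1 hC c).1 c.2).1).1
  let θ : C → MulAut Q := fun c =>
    { toFun := fun q => ⟨c * q * (c : G)⁻¹, hS.conj_mem c (hCa c) q q.2⟩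
      invFun := fun q => ⟨(c : G)⁻¹ * q * c, by
        simpa using hS.conj_mem (c : G)⁻¹ (inv_mem (hCa c)) q q.2⟩
      left_inv := fun q => Subtype.ext (by group)
      right_inv := fun q => Subtype.ext (by group)
      map_mul' := fun p q => Subtype.ext (by
        show (c : G) * (p * q : G) * (c : G)⁻¹ = c * p * (c : G)⁻¹ * (c * q * (c : G)⁻¹)
        group) }
  have hθ : ∀ (c : C) (x : Q), x ∈ (S : Subgroup Q) → θ c x ∈ (S : Subgroup Q) := fun c x hx => by
    rw [← (Subgroup.characteristic_iff_map_eq.1 hSc (θ c))]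
    exact Subgroup.mem_map_of_mem _ hx
  let F : C → ↥(S : Subgroup Q) → ↥(S : Subgroup Q) := fun c x => ⟨θ c x, hθ c x x.2⟩
  have hF : ∀ (c d : C) (x : (S : Subgroup Q)), F c (F d x) = F (c * d) x := fun c d x =>
    Subtype.ext (Subtype.ext (by
      show (c : G) * (d * ((x : Q) : G) * (d : G)⁻¹) * (c : G)⁻¹ = (c * d : G) * ((x : Q) : G) * (c * d : G)⁻¹
      group))
  have hF1 : ∀ x : (S : Subgroup Q), F 1 x = x := fun x => Subtype.ext (Subtype.ext (by
    show (1 : G) * ((x : Q) : G) * (1 : G)⁻¹ = _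
    group))
  let ψ : C →* MulAut ↥(S : Subgroup Q) :=
    { toFun := fun c =>
        { toFun := F c
          invFun := F c⁻¹
          left_inv := fun x => by rw [hF, inv_mul_cancel, hF1]
          right_inv := fun x => by rw [hF, mul_inv_cancel, hF1]
          map_mul' := fun x y => Subtype.ext (map_mul (θ c) (x : Q) y) }
      map_one' := MulEquiv.ext hF1
      map_mul' := fun c d => MulEquiv.ext fun x => (hF c d x).symm }
  refine ⟨ψ.range, isCyclic_of_surjective ψ.rangeRestrict ψ.rangeRestrict_surjective,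
    fun x y hx1 hx2 hy1 hy2 => ?_⟩
  obtain ⟨k, hk, hke⟩ := Cfsg.Lib.RankOne.conj_surj hS (hout x hx1 hx2) (hout y hy1 hy2)
  let c : C := ⟨k⁻¹, inv_mem ((Set.ext_iff.1 hC k).2 hk)⟩
  refine ⟨⟨ψ c, c, rfl⟩, Subtype.ext (Subtype.ext (by
    show k⁻¹ * ((x : Q) : G) * k⁻¹⁻¹ = _
    rw [inv_inv]; exact hke)), ?_⟩
  rintro ⟨_, d, rfl⟩ hd
  have hd' : (d : G) * ((x : Q) : G) * (d : G)⁻¹ = ((y : Q) : G) :=
    congrArg (fun z : (S : Subgroup Q) => ((z : Q) : G)) hd
  have h := Cfsg.Lib.RankOne.conj_inj hS (hout x hx1 hx2) hk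
    ((Set.ext_iff.1 hC _).1 (inv_mem d.2)) (by rw [hke, inv_inv, hd'])
  exact Subtype.ext (congrArg ψ (Subtype.ext (by show (d : G) = k⁻¹; rw [h, inv_inv]) : d = c))

end Cfsg.Agent.S1132
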