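import Cfsg.Statements.S1138
import Cfsg.Agent.SuzukiTwo.Setup
import Cfsg.Agent.SuzukiTwo.Card

set_option autoImplicit false
open Cfsg

namespace Cfsg.Agent.S1138

/-- Let `P` be a Suzuki 2-group with `|Z(P)| = q`. Then every square lies in `Z(P)` and `P/Z(P)` is abelian (so elementary abelian), `|P| = q²` or `|P| = q³`, and `P` has exponent 4. -/
theorem result {P : Type*} [Group P] (hP : Cfsg.IsSuzukiTwoGroup P) :
    (∀ x : P, x * x ∈ Subgroup.center P) ∧ (∀ x y : P, x⁻¹ * y⁻¹ * x * y ∈ Subgroup.center P) ∧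
      (Nat.card P = Nat.card (Subgroup.center P) ^ 2 ∨ Nat.card P = Nat.card (Subgroup.center P) ^ 3) ∧
      Monoid.exponent P = 4 := by
  open Cfsg.Lib.SuzukiTwo in
  obtain ⟨hfin, h2, hnab, htwo, K, iK, ρ, h⟩ := exists_involTrans hP
  have hz := center_sq_eq_one h2 h hnab
  have hsq := sq_mem_center h2 h hnab htwo
  refine ⟨hsq, fun x y => ?_, card_eq h2 h hnab htwo, ?_⟩
  · rw [show x⁻¹ * y⁻¹ * x * y = x⁻¹ * x⁻¹ * (x * y⁻¹ * (x * y⁻¹)) * (y * y) by group]
    exact mul_mem (mul_mem (hsq x⁻¹) (hsq _)) (hsq y)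
  · have h4 : Monoid.exponent P ∣ 2 ^ 2 := Monoid.exponent_dvd_of_forall_pow_eq_one fun x => by
      rw [show (2 : ℕ) ^ 2 = 2 * 2 from rfl, pow_mul, pow_two, pow_two]
      exact hz _ (hsq x)
    obtain ⟨j, hj, he⟩ := (Nat.dvd_prime_pow Nat.prime_two).mp h4
    have hlow : ¬ ∀ x : P, x * x = 1 := fun hall => by
      obtain ⟨x, y, hxy⟩ := hnab
      exact hxy (Subgroup.mem_center_iff.mp (h.central x (hall x)) y).symm
    interval_cases j
    · exact absurd (fun x => by
        have := Monoid.pow_exponent_eq_one x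
        rw [he, pow_zero, pow_one] at this
        rw [this, one_mul]) hlow
    · exact absurd (fun x => by
        have := Monoid.pow_exponent_eq_one x
        rwa [he, pow_one, pow_two] at this) hlow
    · exact he

end Cfsg.Agent.S1138
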