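import Cfsg.Statements.S1225
import Cfsg.Agent.InvolCalc.StronglyEmbedded

set_option autoImplicit false
open Cfsg

namespace Cfsg.Agent.S1225

open Cfsg.Lib.StrongEmb

/-- Let H be a strongly embedded subgroup of the finite group G, u an involution outside H and D = H ∩ uHu⁻¹. Then any two involutions of H are conjugate by an element of D, and any two involutions of G are conjugate in G. -/
theorem result {G : Type*} [Group G] [Finite G] (H : Subgroup G) (hH : Cfsg.IsStronglyEmbedded H) (u : G) (hu : orderOf u = 2) (huH : u ∉ H) (s t : G) (hs : orderOf s = 2) (hsH : s ∈ H) (ht : orderOf t = 2) (htH : t ∈ H) : (∃ d ∈ (H ⊓ H.map (MulAut.conj u).toMonoidHom), d * s * d⁻¹ = t) ∧ ∀ a b : G, orderOf a = 2 → orderOf b = 2 → IsConj a b := by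
  refine ⟨?_, fun a b ha hb => all_conj hH ha hb⟩
  set x : G ⧸ H := QuotientGroup.mk 1 with hx
  set y : G ⧸ H := u • x with hy
  have hfixx : ∀ g : G, g • x = x ↔ g ∈ H := fun g => by
    rw [hx, MulAction.Quotient.smul_mk, smul_eq_mul, QuotientGroup.eq, mul_one, mul_one, inv_mem_iff]
  have huu := Cfsg.Lib.InvolCalc.sq_of_order_two hu
  have hxy : x ≠ y := fun e => huH ((hfixx u).1 e.symm)
  have ht' : orderOf (u * t * u⁻¹) = 2 := by
    rw [show u * t * u⁻¹ = MulAut.conj u t from rfl, MulEquiv.orderOf_eq, ht]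
  have hty : (u * t * u⁻¹) • y = y := by
    rw [hy, smul_smul, inv_mul_cancel_right, mul_smul, (hfixx t).2 htH]
  obtain ⟨v, hv, hvx, hvs, -⟩ := exists_swap hH hxy hs ((hfixx s).2 hsH) ht' hty
  have hvv := Cfsg.Lib.InvolCalc.sq_of_order_two hv
  have hui := Cfsg.Lib.InvolCalc.inv_of_order_two hu
  have hvi := Cfsg.Lib.InvolCalc.inv_of_order_two hv
  refine ⟨u * v, Subgroup.mem_inf.2 ⟨?_, ?_⟩, ?_⟩
  · rw [← hfixx, mul_smul, hvx, hy, smul_smul, huu, one_smul]
  · rw [mem_conj_iff, ← hfixx, hui, show u * (u * v) * u = (u * u) * (v * u) by group, huu, one_mul, mul_smul, ← hy,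
      ← hvx, smul_smul, hvv, one_smul]
  · calc u * v * s * (u * v)⁻¹ = u * (v * s * v⁻¹) * u⁻¹ := by group
      _ = u * (u * t * u⁻¹) * u⁻¹ := by rw [hvi, hvs]
      _ = _ := by rw [hui, show u * (u * t * u) * u = (u * u) * t * (u * u) by group, huu, one_mul, mul_one]

end Cfsg.Agent.S1225
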