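import Cfsg.Statements.S0169
import Cfsg.Agent.Chars.Extension

set_option autoImplicit false
open Cfsg

namespace Cfsg.Agent.S0169

/-- Itô's Theorem on character degrees: the degree of an irreducible complex representation of a finite group divides the index of any abelian normal subgroup. -/
theorem result {G : Type*} [Group G] [Finite G] {V : Type*} [AddCommGroup V] [Module ℂ V] [FiniteDimensional ℂ V] (ρ : Representation ℂ G V) [ρ.IsIrreducible] (H : Subgroup G) [H.Normal] (hH : ∀ a ∈ H, ∀ b ∈ H, a * b = b * a) : Module.finrank ℂ V ∣ H.index := by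
  classical
  have := Fintype.ofFinite G
  have := Fintype.ofFinite H
  have hirr := Cfsg.Lib.Chars.isIrrCharacter_character ρ
  have hchar := Cfsg.Lib.Chars.isCharacter_of_irr hirr
  obtain ⟨θ, hθ, hθc⟩ := Cfsg.Lib.Chars.exists_constituent H hchar
    (Cfsg.Lib.Chars.IsIrrCharacter.apply_one_ne_zero hirr)
  have hθ1 : θ 1 = 1 :=
    Cfsg.Lib.Chars.irr_deg_one_of_comm (fun a b => Subtype.ext (hH a a.2 b b.2)) hθ
  let T := Cfsg.Lib.Chars.inertia H θ
  have hHT : H ≤ T :=
    Cfsg.Lib.Chars.le_inertia (Cfsg.Lib.Chars.isClassFunction_isChar (Cfsg.Lib.Chars.isCharacter_of_irr hθ))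
  have := Fintype.ofFinite T
  obtain ⟨ψ, hψ, h1, h2⟩ := Cfsg.Lib.Chars.exists_constituent_over T hHT hchar hθc
  obtain ⟨hind, -, -⟩ := Cfsg.Lib.Chars.clifford_correspondence hθ T rfl hHT hirr hψ h1 h2
  obtain ⟨e, he0, he⟩ := Cfsg.Lib.Chars.restrict_of_le_inertia H hθ T hHT le_rfl hψ h2
  have hψ1 : ψ 1 = (e : ℂ) := (congrFun he 1).trans (by simp [hθ1])
  obtain ⟨n, σ, hσ, hσc⟩ := hψ
  have hσn : Module.finrank ℂ (Fin n → ℂ) = e :=
    Nat.cast_injective (R := ℂ) (by rw [← σ.char_one, hσc, hψ1])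
  have hkey : e ∣ (H.subgroupOf T).index := by
    rw [← hσn]
    refine Cfsg.Lib.Chars.finrank_dvd_index_of_scalar σ _ fun z hz => ?_
    have hval := congrFun he ⟨(z : G), hz⟩
    simp only [Pi.smul_apply, smul_eq_mul] at hval
    obtain ⟨l, hl⟩ := Cfsg.Lib.Chars.exists_hom_of_deg_one (Cfsg.Lib.Chars.isCharacter_of_irr hθ) hθ1
    have hnorm : ‖σ.character z‖ = (Module.finrank ℂ (Fin n → ℂ) : ℝ) := by
      rw [hσc, show z = (⟨((⟨(z : G), hz⟩ : H) : G), hHT hz⟩ : T) from rfl, hval, norm_mul,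
        Complex.norm_natCast, hσn, hl]
      show (e : ℝ) * ‖(l ⟨(z : G), hz⟩ : ℂ)‖ = _
      rw [Complex.norm_eq_one_of_pow_eq_one (n := Nat.card H) ?_ Nat.card_pos.ne', mul_one]
      rw [← Units.val_pow_eq_pow_val, ← map_pow, pow_card_eq_one', map_one, Units.val_one]
    obtain ⟨ω, hω, -⟩ := Cfsg.Lib.Chars.scalar_of_norm_character_eq σ z hnorm
    exact ⟨ω, hω⟩
  have hdeg : Module.finrank ℂ V = T.index * e := by
    apply Nat.cast_injective (R := ℂ)
    rw [← ρ.char_one, ← hind, Cfsg.Lib.Chars.indFun_one, hψ1, Nat.cast_mul]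
  rw [hdeg, ← Subgroup.relIndex_mul_index hHT, mul_comm (H.relIndex T) T.index]
  exact mul_dvd_mul_left _ hkey

end Cfsg.Agent.S0169
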