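import Cfsg.Statements.S0121
import Mathlib

set_option autoImplicit false
open Cfsg

namespace Cfsg.Agent.S0121

/-- A p'-automorphism of a p-group acting trivially on a critical subgroup is trivial. -/
theorem result {G : Type*} [Group G] [Finite G] {p : ℕ} [Fact p.Prime] (hG : IsPGroup p G) (H : Subgroup G) (hH : H.Characteristic) (h1 : (frattini H).map H.subtype ≤ Subgroup.centralizer (H : Set G)) (h2 : ⁅H, (⊤ : Subgroup G)⁆ ≤ H ⊓ Subgroup.centralizer (H : Set G)) (h3 : Subgroup.centralizer (H : Set G) ≤ H) (a : MulAut G) (ha : Nat.Coprime (orderOf a) p) (h : ∀ x ∈ H, a x = x) : a = 1 := by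
  have hn : ∀ (g : G) (k : ℕ), a g = g * (g⁻¹ * a g) ∧ g⁻¹ * a g ∈ H ∧
      (a ^ k) g = g * (g⁻¹ * a g) ^ k := by
    intro g k
    haveI := hH
    have hz : g⁻¹ * a g ∈ H := h3 (by
      intro x hx
      have h4 : g * x * g⁻¹ ∈ H := Subgroup.Normal.conj_mem inferInstance x hx g
      have h5 := h _ h4
      rw [map_mul, map_mul, map_inv, h x hx] at h5
      calc x * (g⁻¹ * a g) = g⁻¹ * (g * x * g⁻¹) * a g := by group
        _ = g⁻¹ * (a g * x * (a g)⁻¹) * a g := by rw [h5]
        _ = g⁻¹ * a g * x := by group)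
    refine ⟨by group, hz, ?_⟩
    induction k with
    | zero => simp
    | succ k ih =>
      rw [pow_succ', MulAut.mul_apply, ih, map_mul, map_pow, h _ hz, pow_succ', ← mul_assoc g,
        mul_inv_cancel_left]
  ext g
  obtain ⟨hg, -, hpow⟩ := hn g (orderOf a)
  rw [pow_orderOf_eq_one, MulAut.one_apply] at hpow
  have h6 := orderOf_dvd_of_pow_eq_one (mul_eq_left.1 hpow.symm)
  obtain ⟨i, hi⟩ := IsPGroup.iff_orderOf.1 hG (g⁻¹ * a g)
  have h7 : orderOf (g⁻¹ * a g) = 1 :=
    Nat.eq_one_of_dvd_coprimes (ha.pow_right i) h6 (dvd_of_eq hi)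
  rw [orderOf_eq_one_iff, inv_mul_eq_one] at h7
  simpa using h7.symm

end Cfsg.Agent.S0121
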