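-- Proof of statement S5083.
import Cfsg.Statements.S5083
import Cfsg.Agent.Fusion.GTSteps
import Cfsg.Agent.Fusion.GroupSystem

set_option autoImplicit false
open Cfsg Cfsg.FusionSystem Cfsg.Lib.Fusion

namespace Cfsg.Agent.S5083

/-- If F is a saturated fusion system over a finite p-group S in which Aut_F(P) is a p-group for every P ≤ S, then F is the inner fusion system of S (all its maps are conjugations by elements of S). -/
theorem result {Ω : Type*} [Group Ω] {S : Subgroup Ω} [Finite S] (p : ℕ) [Fact p.Prime] (hS : IsPGroup p S) (F : Cfsg.FusionSystem S) (hF : F.IsSaturated p) (h : ∀ P : Subgroup Ω, P ≤ S → IsPGroup p (F.autGroup P)) : F = Cfsg.innerFusionSystem S := by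
  classical
  have hgood : ∀ (P : Subgroup Ω) (f : Ω → Ω), P ≤ S → (∃ s ∈ S, ∀ x ∈ P, f x = s * x * s⁻¹) →
      IsMap (innerFusionSystem S) P f := fun P f hP h => isMap_inner_iff.mpr ⟨hP, h⟩
  have hsylow : ∀ Q : Subgroup Ω, F.IsFullyNormalized Q → ∀ α ∈ F.autGroup Q,
      IsMap (innerFusionSystem S) Q (autFun α) := by
    intro Q hQn α hα
    haveI := finite_of_le hQn.1
    obtain ⟨-, Rs, hRs⟩ := (fullyNormalized_props hS hF hQn).2.1
    have hall : (⊤ : Subgroup (F.autGroup Q)) = (autInducedBy S Q).subgroupOf (F.autGroup Q) := by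
      rw [← hRs]
      exact Rs.3 ((h Q hQn.1).to_subgroup ⊤) le_top
    obtain ⟨s, hs, e⟩ := mem_autInducedBy.mp
      (Subgroup.mem_subgroupOf.mp (hall ▸ Subgroup.mem_top (⟨α, hα⟩ : F.autGroup Q)))
    exact hgood Q _ hQn.1 ⟨s, hs, fun x hx => by rw [autFun_apply_mem _ hx]; exact e ⟨x, hx⟩⟩
  haveI : Finite (normalizerIn S S) := finite_of_le inf_le_left
  have hSn : F.IsFullyNormalized S :=
    ⟨le_rfl, fun R _ => (Subgroup.card_le_of_le (inf_le_left : normalizerIn S R ≤ S)).trans
      (Subgroup.card_le_of_le (le_normalizerIn le_rfl))⟩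
  refine fusionSystem_ext fun P => isInner_iff.mp ?_ P
  intro P f hf
  refine (isMap_inner_iff.mp (alperin_induction hS hF (isMapClass_isMap F (innerFusionSystem S))
    (fun g hg => ?_) (fun Q _ hQn _ _ α hα => hsylow Q hQn α hα) hf)).2
  have hfS : img S g = S := Subgroup.eq_of_le_of_card_ge hg.img_le hg.card_img.ge
  obtain ⟨α, hα, he⟩ := hg.exists_aut hfS
  exact (hsylow S hSn α hα).congr fun x hx => (he x hx).symm

end Cfsg.Agent.S5083
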