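import Cfsg.Statements.S4748
import Cfsg.Agent.Chars.Extraspecial
import Cfsg.Agent.Chars.Values
import Cfsg.Agent.Components.Cores
import Cfsg.Agent.Coprime.Sylow
import Cfsg.Agent.Coprime.Fitting
import Cfsg.Agent.Chars.IrrTools
-- import your own Cfsg.Agent.* helpers here

set_option autoImplicit false
open scoped Pointwise
open Cfsg

namespace Cfsg.Agent.S4748

set_option linter.unusedSectionVars false

open Cfsg.Lib.Components Cfsg.Lib.Coprime Cfsg.Lib.Chars

universe v

open Cfsg.Lib.Chars Cfsg.Lib.Components Cfsg.Lib.Coprime Subgroup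
open scoped commutatorElement

/-- With trivial `p`-core, the `p'`-core of a `p`-solvable group contains its centraliser. -/
theorem centralizer_pPrimeCore_le {G : Type v} [Group G] [Finite G] (p : ℕ) [Fact p.Prime]
    (hsolv : Cfsg.IsPSolvable p G) (hO : Cfsg.pCore p G = ⊥) :
    Subgroup.centralizer (Cfsg.pPrimeCore p G : Set G) ≤ Cfsg.pPrimeCore p G := by
  obtain ⟨n, H, h0, hlast, hmono, hnorm, hstep⟩ := hsolv
  haveI hNn : (Cfsg.pPrimeCore p G).Normal := pPrimeCore_normal' p
  set N := Cfsg.pPrimeCore p G with hN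
  set C := Subgroup.centralizer (N : Set G) with hC
  haveI : C.Normal := hC ▸ inferInstance
  have key : ∀ i : Fin (n + 1), H i ⊓ C ≤ N := by
    intro i
    induction i using Fin.induction with
    | zero => rw [h0, bot_inf_eq]; exact bot_le
    | succ i ih =>
      haveI := hnorm i.succ
      haveI := hnorm i.castSucc
      set M := H i.succ ⊓ C with hM
      set Z := H i.castSucc ⊓ C with hZ
      have hZM : Z ≤ M := inf_le_inf_right _ (hmono Fin.castSucc_lt_succ.le)
      have hrel : Z.relIndex M ∣ (H i.castSucc).relIndex (H i.succ) := by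
        rw [show Z = H i.castSucc ⊓ M by
          rw [hM, hZ, ← inf_assoc, inf_eq_left.2 (hmono Fin.castSucc_lt_succ.le)],
          inf_relIndex_right]
        exact ⟨_, ((Subgroup.relIndex_mul_relIndex (H i.castSucc) (M ⊔ H i.castSucc) (H i.succ)
          le_sup_right (sup_le inf_le_left (hmono Fin.castSucc_lt_succ.le))).symm.trans
          (by rw [Subgroup.relIndex_sup_right]))⟩
      have hcard : Nat.card Z * Z.relIndex M = Nat.card M := by
        rw [← relIndex_bot_left, relIndex_mul_relIndex _ _ _ bot_le hZM, relIndex_bot_left]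
      have hZp : (Nat.card Z).Coprime p :=
        Nat.Coprime.coprime_dvd_left (Subgroup.card_dvd_of_le ih) (coprime_card_pPrimeCore p)
      rcases hstep i with ⟨m, hm⟩ | hcop
      · rw [hm] at hrel
        obtain ⟨j, -, hj⟩ := (Nat.dvd_prime_pow Fact.out).1 hrel
        obtain ⟨S⟩ := (inferInstance : Nonempty (Sylow p M))
        have hScard : Nat.card (S : Subgroup M) = p ^ j := by
          rw [S.card_eq_multiplicity, ← hcard, hj, Nat.factorization_mul Nat.card_pos.ne'
            (pow_ne_zero _ (Fact.out : p.Prime).ne_zero), Finsupp.add_apply,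
            Nat.factorization_eq_zero_of_not_dvd
              ((Fact.out : p.Prime).coprime_iff_not_dvd.1 hZp.symm), zero_add,
            (Fact.out : p.Prime).factorization_pow, Finsupp.single_eq_same]
        have hZc : ∀ z ∈ Z, ∀ x ∈ M, z * x = x * z := fun z hz x hx =>
          mem_centralizer_iff.1 hx.2 z (ih hz)
        have hSn : (S : Subgroup M).Normal := by
          have hsup : (Z.subgroupOf M) ⊔ (S : Subgroup M) = ⊤ := by
            apply Subgroup.eq_top_of_card_eq
            refine Nat.dvd_antisymm (Subgroup.card_subgroup_dvd_card _) ?_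
            rw [← hcard, hj, ← hScard]
            refine Nat.Coprime.mul_dvd_of_dvd_of_dvd (by rw [hScard]; exact hZp.pow_right j) ?_
              (Subgroup.card_dvd_of_le le_sup_right)
            rw [← Nat.card_congr (subgroupOfEquivOfLe hZM).toEquiv]
            exact Subgroup.card_dvd_of_le le_sup_left
          refine Subgroup.normalizer_eq_top_iff.1 (top_le_iff.1 (hsup ▸ sup_le ?_ Subgroup.le_normalizer))
          intro z hz
          rw [mem_normalizer_iff]
          intro x
          rw [show z * x = x * z from Subtype.ext (hZc z hz x x.2), mul_inv_cancel_right]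
        have hSsub : (S : Subgroup M).map M.subtype ≤ Cfsg.pCore p G := by
          haveI : M.Normal := Subgroup.normal_inf_normal _ _
          haveI := hSn
          haveI := S.characteristic_of_normal hSn
          exact le_pCore (S.2.map _)
        rw [hO, le_bot_iff, Subgroup.map_eq_bot_iff_of_injective _ M.subtype_injective] at hSsub
        rw [hSsub, Subgroup.card_bot] at hScard
        have hMZ : Nat.card M = Nat.card Z := by rw [← hcard, hj, ← hScard, mul_one]
        rw [← Cfsg.Lib.Coprime.eq_of_le_of_card_eq hZM hMZ.symm]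
        exact ih
      · haveI : M.Normal := Subgroup.normal_inf_normal _ _
        exact le_pPrimeCore (hcard ▸ hZp.mul_left (Nat.Coprime.coprime_dvd_left hrel hcop))
  simpa [hlast] using key (Fin.last n)

/-- **A faithful character of a coprime semidirect situation is large.** -/
theorem small_degree_contradiction {G : Type v} [Group G] [Fintype G] (P R : Subgroup G)
    [Fintype R] [Fintype P]
    (hPR : P ≤ normalizer (R : Set G)) (hcop : (Nat.card P).Coprime (Nat.card R))
    (hPsol : Group.IsSolvable P) (hne : ¬ P ≤ centralizer (R : Set G))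
    (hR' : P ≤ centralizer ((⁅R, R⁆ : Subgroup G) : Set G)) (hRP : ⁅R, P⁆ = R)
    (hfpf : ∀ u ∈ P, u ≠ 1 → ∀ r ∈ R, u * r = r * u → r ∈ centralizer (P : Set G))
    {χ : G → ℂ} (hχ : Cfsg.IsCharacter G χ) (hfaith : ∀ g : G, χ g = χ 1 → g = 1)
    (hdeg : deg χ ^ 2 ≤ Nat.card P) : False := by
  classical
  have hsol : Group.IsSolvable P ∨ Group.IsSolvable R := Or.inl hPsol
  -- fixed points are central in `R`
  have hcent : ∀ x ∈ R, x ∈ centralizer (P : Set G) → ∀ y ∈ R, x * y = y * x := by
    intro x hx hxP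
    have a1 : ⁅⁅R, zpowers x⁆, P⁆ = ⊥ := by
      rw [commutator_eq_bot_iff_le_centralizer]
      refine (commutator_mono le_rfl ((zpowers_le).2 hx)).trans ?_
      exact le_centralizer_iff.1 hR'
    have a2 : ⁅⁅zpowers x, P⁆, R⁆ = ⊥ := by
      rw [(commutator_eq_bot_iff_le_centralizer).2 ((zpowers_le).2 hxP), commutator_bot_left]
    have a3 := commutator_commutator_eq_bot_of_rotate (H₁ := P) (H₂ := R) (H₃ := zpowers x) a1 a2
    rw [commutator_comm P R, hRP, commutator_eq_bot_iff_le_centralizer] at a3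
    exact fun y hy => mem_centralizer_iff.1 (a3 hy) x (mem_zpowers x)
  -- `R'` is central in `R`
  have hclass : ∀ c ∈ ⁅R, R⁆, ∀ y ∈ R, c * y = y * c := fun c hc y hy =>
    hcent c ((commutator_le_self R) hc) (le_centralizer_iff.1 hR' hc) y hy
  -- conjugation automorphisms
  let σ : P → (R ≃* R) := fun v => R.normalizerMonoidHom ⟨(v : G), hPR v.2⟩
  have hσ : ∀ (v : P) (r : R), ((σ v r : R) : G) = (v : G) * r * (v : G)⁻¹ := fun _ _ => rfl
  -- constituents
  obtain ⟨m, hm⟩ := IsCharacter.exists_decomp (IsCharacter.restrict hχ R)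
  have hne1 : R ≠ ⊥ := fun h => hne (by
    intro u _
    rw [h, mem_centralizer_iff]
    intro y hy
    rw [Subgroup.coe_bot, Set.mem_singleton_iff] at hy
    rw [hy, one_mul, mul_one])
  obtain ⟨θ, hθm, hθ1⟩ : ∃ θ : Cfsg.IrrCharacter R, m θ ≠ 0 ∧ (θ : R → ℂ) ≠ fun _ => 1 := by
    by_contra h
    push Not at h
    apply hne1
    rw [eq_bot_iff]
    intro r hr
    rw [Subgroup.mem_bot]
    apply hfaith
    have h1 := congrFun hm ⟨r, hr⟩
    have h2 := congrFun hm 1
    simp only [Finset.sum_apply, Pi.smul_apply, OneMemClass.coe_one] at h1 h2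
    rw [h1, h2]
    refine Finset.sum_congr rfl fun ψ _ => ?_
    by_cases hψ : m ψ = 0
    · rw [hψ, zero_smul, zero_smul]
    · rw [h ψ hψ]
  let conjθ : P → Cfsg.IrrCharacter R := fun v =>
    ⟨fun r => (θ : R → ℂ) (σ v r), IsIrrCharacter.comp_mulEquiv θ.2 (σ v)⟩
  -- conjugates are constituents
  have hmv : ∀ v : P, m (conjθ v) = m θ := by
    intro v
    apply Nat.cast_injective (R := ℂ)
    have h1 : ∀ ψ : Cfsg.IrrCharacter R,
        Cfsg.classInner (fun x : R => χ x) (ψ : R → ℂ) = (m ψ : ℂ) := fun ψ => by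
      rw [hm]
      simp only [← Nat.cast_smul_eq_nsmul ℂ]
      exact classInner_irrSum (fun ψ => (m ψ : ℂ)) ψ
    rw [← h1, ← h1, ← classInner_comp_equiv (σ v).toEquiv (fun x : R => χ x) (θ : R → ℂ)]
    congr 1
    funext r
    show χ r = χ ((σ v r : R) : G)
    rw [hσ]
    exact (isClassFunction_isChar hχ _ _).symm
  -- the stabiliser
  have hconj_mul : ∀ a b : P, ∀ r : R, σ (a * b) r = σ a (σ b r) := fun a b r => Subtype.ext (by
    rw [hσ, hσ, hσ, Subgroup.coe_mul, mul_inv_rev]; simp only [mul_assoc])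
  let S : Subgroup P :=
    { carrier := {v | ∀ r : R, (θ : R → ℂ) (σ v r) = (θ : R → ℂ) r}
      one_mem' := fun r => congrArg _ (Subtype.ext (by rw [hσ]; simp))
      mul_mem' := fun {a b} ha hb r => by rw [hconj_mul, ha, hb]
      inv_mem' := fun {a} ha r => by
        conv_rhs => rw [show r = σ a (σ a⁻¹ r) from by
          rw [← hconj_mul, mul_inv_cancel]; exact Subtype.ext (by rw [hσ]; simp)]
        rw [ha] }
  have hdge : S.index * deg (θ : R → ℂ) ≤ deg χ := by
    have hd : deg χ = ∑ ψ : Cfsg.IrrCharacter R, m ψ * deg (ψ : R → ℂ) := by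
      apply Nat.cast_injective (R := ℂ)
      rw [Nat.cast_sum, ← IsCharacter.apply_one_eq_deg hχ]
      have := congrFun hm 1
      simp only [Finset.sum_apply, Pi.smul_apply, OneMemClass.coe_one, nsmul_eq_mul] at this
      rw [this]
      exact Finset.sum_congr rfl fun ψ _ => by rw [Nat.cast_mul, Pi.mul_apply, Pi.natCast_apply, irr_apply_one_eq_deg]
    letI := Fintype.ofFinite (P ⧸ S)
    have hinj : Function.Injective fun q : P ⧸ S => conjθ q.out⁻¹ := by
      intro q q' h
      have h' : ∀ r : R, (θ : R → ℂ) (σ q.out⁻¹ r) = (θ : R → ℂ) (σ q'.out⁻¹ r) := fun r =>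
        congrFun (congrArg Subtype.val h) r
      rw [← QuotientGroup.out_eq' q, ← QuotientGroup.out_eq' q', QuotientGroup.eq]
      intro r
      rw [hconj_mul, h', ← hconj_mul, inv_mul_cancel]
      exact congrArg _ (Subtype.ext (by rw [hσ]; simp))
    rw [hd, S.index_eq_card, Nat.card_eq_fintype_card, ← smul_eq_mul, ← Finset.card_univ,
      ← Finset.sum_const]
    calc ∑ _q : P ⧸ S, deg (θ : R → ℂ)
        ≤ ∑ q : P ⧸ S, m (conjθ q.out⁻¹) * deg ((conjθ q.out⁻¹ : Cfsg.IrrCharacter R) : R → ℂ) := by
          refine Finset.sum_le_sum fun q _ => ?_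
          have : deg ((conjθ q.out⁻¹ : Cfsg.IrrCharacter R) : R → ℂ) = deg (θ : R → ℂ) := by
            apply Nat.cast_injective (R := ℂ)
            rw [← irr_apply_one_eq_deg, ← irr_apply_one_eq_deg]
            exact congrArg (θ : R → ℂ) (map_one (σ q.out⁻¹))
          rw [this]
          exact Nat.le_mul_of_pos_left _ (Nat.pos_of_ne_zero (by rw [hmv]; exact hθm))
      _ = ∑ ψ ∈ Finset.univ.image (fun q : P ⧸ S => conjθ q.out⁻¹), m ψ * deg (ψ : R → ℂ) := by
          rw [Finset.sum_image hinj.injOn]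
      _ ≤ _ := Finset.sum_le_univ_sum_of_nonneg fun _ => Nat.zero_le _
  have hPcard : S.index * Nat.card S = Nat.card P := S.index_mul_card
  -- the kernel of the commutator pairing
  obtain ⟨k, ρ, hρ, hρc⟩ := θ.2
  let Z : Subgroup R :=
    { carrier := {x | ∀ y : R, ρ ⁅x, y⁆ = 1}
      one_mem' := fun y => by rw [commutatorElement_one_left, map_one]
      mul_mem' := fun {a b} ha hb y => by
        rw [show ⁅a * b, y⁆ = a * ⁅b, y⁆ * a⁻¹ * ⁅a, y⁆ by simp only [commutatorElement_def]; group,
          map_mul, map_mul, map_mul, ha, hb, mul_one, mul_one, ← map_mul, mul_inv_cancel, map_one]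
      inv_mem' := fun {a} ha y => by
        rw [show ⁅a⁻¹, y⁆ = a⁻¹ * ⁅a, y⁆⁻¹ * a by simp only [commutatorElement_def]; group]
        have h2 : ρ ⁅a, y⁆⁻¹ = 1 := by
          have h3 : ρ ⁅a, y⁆⁻¹ * ρ ⁅a, y⁆ = 1 := by rw [← map_mul, inv_mul_cancel, map_one]
          rwa [ha, mul_one] at h3
        rw [map_mul, map_mul, h2, mul_one, ← map_mul, inv_mul_cancel, map_one] }
  have hcommmem : ∀ x y : R, ((⁅x, y⁆ : R) : G) ∈ ⁅R, R⁆ := fun x y =>
    commutator_mem_commutator x.2 y.2
  have hcen : ∀ x y : R, ⁅x, y⁆ ∈ Subgroup.center R := fun x y => Subgroup.mem_center_iff.2 fun w =>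
    Subtype.ext (hclass _ (hcommmem x y) w w.2).symm
  -- vanishing outside `Z`
  have hvan : ∀ x : R, x ∉ Z → (θ : R → ℂ) x = 0 := by
    intro x hx
    have hx' : ∃ y, ρ ⁅x, y⁆ ≠ 1 := by simpa [Z] using hx
    obtain ⟨y, hy⟩ := hx'
    have hne0 : (θ : R → ℂ) ⁅x, y⁆⁻¹ ≠ (θ : R → ℂ) 1 := by
      intro h
      apply hy
      rw [← hρc, Representation.char_one] at h
      have h4 : ρ ⁅x, y⁆⁻¹ = 1 := (eq_id_of_character_eq_finrank ρ _).1 h
      have h3 : ρ ⁅x, y⁆⁻¹ * ρ ⁅x, y⁆ = 1 := by rw [← map_mul, inv_mul_cancel, map_one]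
      rwa [h4, one_mul] at h3
    have h := center_mul_of_irr θ.2 (inv_mem (hcen x y)) x
    rw [show ⁅x, y⁆⁻¹ * x = y * x * y⁻¹ by simp only [commutatorElement_def]; group,
      isClassFunction_irr θ x y, mul_comm] at h
    by_contra h0
    exact hne0 (mul_right_cancel₀ h0 h).symm
  -- norm bound
  have hZbound : Z.index ≤ deg (θ : R → ℂ) ^ 2 := by
    have h1 := classInner_self_irr θ.2
    rw [classInner_self] at h1
    have h2 : ∑ r : R, ‖(θ : R → ℂ) r‖ ^ 2 = (Nat.card R : ℝ) := by
      have h3 := congrArg Complex.re h1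
      rw [Complex.ofReal_re, Complex.one_re] at h3
      field_simp at h3
      exact h3
    have h3 : ∀ r : R, ‖(θ : R → ℂ) r‖ ^ 2 ≤ if r ∈ Z then (deg (θ : R → ℂ) : ℝ) ^ 2 else 0 := by
      intro r
      split_ifs with hr
      · refine pow_le_pow_left₀ (norm_nonneg _) ?_ 2
        refine (IsCharacter.norm_le (isCharacter_of_irr θ.2) r).trans (le_of_eq ?_)
        rw [irr_apply_one_eq_deg, Complex.natCast_re]
      · rw [hvan r hr, norm_zero]; simp
    have h4 := (Finset.sum_le_sum fun r (_ : r ∈ Finset.univ) => h3 r)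
    rw [h2, ← Finset.sum_filter, Finset.sum_const, nsmul_eq_mul, ← Fintype.card_subtype,
      ← Nat.card_eq_fintype_card] at h4
    have h5 : Nat.card R ≤ Nat.card Z * deg (θ : R → ℂ) ^ 2 := by exact_mod_cast h4
    rw [← Z.card_mul_index] at h5
    exact Nat.le_of_mul_le_mul_left h5 Nat.card_pos
  -- fixed points of stabilising elements
  have hfix : ∀ v : P, v ≠ 1 → ∀ r : R, σ v r = r → (r : G) ∈ centralizer (P : Set G) := by
    intro v hv r h
    refine hfpf v v.2 (fun e => hv (Subtype.ext e)) r r.2 ?_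
    exact mul_inv_eq_iff_eq_mul.1 ((hσ v r).symm.trans (congrArg Subtype.val h))
  by_cases hZtop : Z = ⊤
  · -- the linear case
    have hcomm : ∀ a b : R, ρ a * ρ b = ρ b * ρ a := fun a b => by
      have := (show a ∈ Z from hZtop ▸ Subgroup.mem_top a) b
      rw [← map_mul, ← map_mul, show a * b = ⁅a, b⁆ * (b * a) by
        simp only [commutatorElement_def]; group, map_mul ρ ⁅a, b⁆, this, one_mul]
    have hθdeg : deg (θ : R → ℂ) = 1 := by
      have h1 := classInner_self_irr θ.2
      rw [classInner_self] at h1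
      have h2 := congrArg Complex.re h1
      rw [Complex.ofReal_re, Complex.one_re] at h2
      have h3 : ∀ r : R, ‖(θ : R → ℂ) r‖ ^ 2 = (deg (θ : R → ℂ) : ℝ) ^ 2 := by
        intro r
        obtain ⟨c, hc⟩ := schur_scalar ρ (ρ r) fun g v => by
          rw [← Module.End.mul_apply, ← Module.End.mul_apply, hcomm]
        have hcr : (θ : R → ℂ) r = c * (θ : R → ℂ) 1 := by
          rw [← hρc, Representation.char_one, Representation.character, hc, map_smul,
            LinearMap.trace_id, smul_eq_mul]
        have hu : ‖c‖ = 1 := by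
          have hpow : ρ r ^ orderOf r = 1 := by rw [← map_pow, pow_orderOf_eq_one, map_one]
          have hone : (θ : R → ℂ) (r ^ orderOf r) = c ^ orderOf r * (θ : R → ℂ) 1 := by
            rw [← hρc, Representation.char_one, Representation.character, map_pow, hc,
              ← Module.End.one_eq_id, smul_pow, one_pow, map_smul, LinearMap.trace_one, smul_eq_mul]
          rw [pow_orderOf_eq_one] at hone
          have hc1 : c ^ orderOf r = 1 :=
            (mul_eq_right₀ (IsIrrCharacter.apply_one_ne_zero θ.2)).1 hone.symm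
          exact Complex.norm_eq_one_of_pow_eq_one hc1 (orderOf_pos r).ne'
        rw [hcr, norm_mul, hu, one_mul, irr_apply_one_eq_deg, Complex.norm_natCast]
      rw [Finset.sum_congr rfl fun r _ => h3 r, Finset.sum_const, nsmul_eq_mul, Finset.card_univ,
        ← Nat.card_eq_fintype_card, ← mul_assoc, inv_mul_cancel₀ (by exact_mod_cast Nat.card_pos.ne'),
        one_mul] at h2
      exact_mod_cast (pow_eq_one_iff_of_nonneg (Nat.cast_nonneg _) two_ne_zero).1 h2
    obtain ⟨f, hf⟩ := exists_hom_of_deg_one (isCharacter_of_irr θ.2)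
      (by rw [irr_apply_one_eq_deg, hθdeg, Nat.cast_one])
    have hθc : ∀ x : R, (x : G) ∈ centralizer (P : Set G) → f x = 1 := by
      intro x hx
      -- the product of all conjugates of `f` is trivial
      let F : R →* ℂˣ := ∏ v : P, f.comp (σ v).toMonoidHom
      have hFinv : ∀ (w : P) (r : R), F (σ w r) = F r := by
        intro w r
        simp only [F, MonoidHom.finsetProd_apply, MonoidHom.comp_apply]
        exact Fintype.prod_equiv (Equiv.mulRight w) _ _ fun v => by
          rw [Equiv.coe_mulRight]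
          show f (σ v (σ w r)) = f (σ (v * w) r)
          rw [hconj_mul]
      have hF : R ≤ F.ker.map R.subtype := by
        conv_lhs => rw [← hRP]
        rw [commutator_le]
        intro r hr w hw
        have hwinv : (w : G) * r⁻¹ * (w : G)⁻¹ = ((σ ⟨w, hw⟩ ⟨r, hr⟩⁻¹ : R) : G) := by rw [hσ]; rfl
        refine ⟨⟨r, hr⟩ * σ ⟨w, hw⟩ ⟨r, hr⟩⁻¹, ?_, ?_⟩
        · show F _ = 1
          rw [map_mul, hFinv, map_inv, mul_inv_cancel]
        · show r * ((σ ⟨w, hw⟩ ⟨r, hr⟩⁻¹ : R) : G) = _
          rw [← hwinv, commutatorElement_def]; group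
      obtain ⟨x', hx', hxx⟩ := hF x.2
      have hFx : F x = 1 := by
        have : x' = x := Subtype.ext hxx
        exact this ▸ hx'
      have hsame : ∀ v : P, f.comp (σ v).toMonoidHom x = f x := fun v => by
        show f (σ v x) = f x
        congr 1
        apply Subtype.ext
        rw [hσ, mem_centralizer_iff.1 hx v v.2, mul_inv_cancel_right]
      simp only [F, MonoidHom.finsetProd_apply, hsame, Finset.prod_const, Finset.card_univ,
        ← Nat.card_eq_fintype_card] at hFx
      have hR : f x ^ Nat.card R = 1 := by rw [← map_pow, pow_card_eq_one', map_one]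
      exact orderOf_eq_one_iff.1 (Nat.eq_one_of_dvd_coprimes hcop
        (orderOf_dvd_of_pow_eq_one hFx) (orderOf_dvd_of_pow_eq_one hR))
    have hSbot : S = ⊥ := by
      rw [Subgroup.eq_bot_iff_forall]
      intro v hv
      by_contra hv1
      apply hθ1
      set A : Subgroup G := zpowers (v : G) with hA
      have hAP : A ≤ P := (zpowers_le).2 v.2
      have hAR : A ≤ normalizer (R : Set G) := hAP.trans hPR
      have hcopA : (Nat.card A).Coprime (Nat.card R) :=
        Nat.Coprime.coprime_dvd_left (card_dvd_of_le hAP) hcop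
      have hsplit := commutator_sup_centralizer hAR hcopA
        (Or.inl (isSolvable_of_le hAP hPsol))
      have hker : ⁅R, A⁆ ⊔ (R ⊓ centralizer (A : Set G)) ≤ f.ker.map R.subtype := by
        refine sup_le ?_ ?_
        · rw [commutator_le]
          rintro r hr _ ⟨j, rfl⟩
          have hw : (v : P) ^ j ∈ S := S.zpow_mem hv j
          have hval : ((σ (v ^ j) ⟨r, hr⟩⁻¹ : R) : G) = (v : G) ^ j * r⁻¹ * ((v : G) ^ j)⁻¹ := by
            rw [hσ]; simp
          refine ⟨⟨r, hr⟩ * σ (v ^ j) ⟨r, hr⟩⁻¹, ?_, ?_⟩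
          · show f _ = 1
            apply Units.ext
            have h1 := hw (⟨r, hr⟩⁻¹)
            rw [hf] at h1
            simp only at h1
            rw [map_mul, Units.val_mul, h1, ← Units.val_mul, ← map_mul, mul_inv_cancel, map_one]
          · show r * ((σ (v ^ j) ⟨r, hr⟩⁻¹ : R) : G) = _
            rw [hval, commutatorElement_def]; group
        · rintro r ⟨hr, hrA⟩
          refine ⟨⟨r, hr⟩, hθc _ (hfpf v v.2 (fun e => hv1 (Subtype.ext e)) r hr ?_), rfl⟩
          exact mem_centralizer_iff.1 hrA v (mem_zpowers _)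
      rw [hsplit] at hker
      funext r
      obtain ⟨r', hr', hrr⟩ := hker r.2
      rw [hf]
      show (f r : ℂ) = 1
      rw [← show r' = r from Subtype.ext hrr, show f r' = 1 from hr', Units.val_one]
    rw [hSbot, Subgroup.card_bot, mul_one] at hPcard
    rw [hSbot] at hdge
    rw [hPcard, hθdeg, mul_one] at hdge
    have h1 : Nat.card P ≤ 1 := by
      by_contra h
      push Not at h
      have h2 := (Nat.pow_le_pow_left hdge 2).trans hdeg
      nlinarith
    apply hne
    intro u hu
    haveI : Subsingleton P := Finite.card_le_one_iff_subsingleton.1 h1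
    have : u = 1 := congrArg Subtype.val (Subsingleton.elim (⟨u, hu⟩ : P) 1)
    rw [this]
    exact one_mem _
  · -- the nonlinear case: the stabiliser acts freely
    have hZinv : ∀ v ∈ S, ∀ x ∈ Z, σ v x ∈ Z := by
      intro v hv x hx y
      obtain ⟨y', rfl⟩ := (σ v).surjective y
      have hmap : ⁅σ v x, σ v y'⁆ = σ v ⁅x, y'⁆ := by simp [commutatorElement_def]
      rw [hmap]
      apply (eq_id_of_character_eq_finrank ρ _).1
      rw [hρc, hv ⁅x, y'⁆, ← hρc, Representation.character, hx y', LinearMap.trace_one]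
    haveI hZn : Z.Normal := by
      refine ⟨fun x hx g y => ?_⟩
      rw [show ⁅g * x * g⁻¹, y⁆ = g * ⁅x, g⁻¹ * y * g⁆ * g⁻¹ by
        simp only [commutatorElement_def]; group, map_mul, map_mul, hx, mul_one, ← map_mul,
        mul_inv_cancel, map_one]
    have hSA : ∀ v : P, v ∈ S → ∀ x : R, x⁻¹ * σ v x ∈ Z → v ≠ 1 → x ∈ Z := by
      intro v hv x hx hv1
      set A : Subgroup G := zpowers (v : G) with hA
      have hAP : A ≤ P := (zpowers_le).2 v.2
      set D : Subgroup G := Z.map R.subtype with hD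
      have hDR : D ≤ R := map_subtype_le Z
      have hAD : A ≤ normalizer (D : Set G) := by
        rw [hA, zpowers_le, mem_normalizer_iff]
        intro y
        constructor
        · rintro ⟨z, hz, rfl⟩
          exact ⟨σ v z, hZinv v hv z hz, hσ v z⟩
        · rintro ⟨z, hz, hzy⟩
          refine ⟨σ v⁻¹ z, hZinv v⁻¹ (S.inv_mem hv) z hz, ?_⟩
          show ((σ v⁻¹ z : R) : G) = y
          rw [hσ, show ((z : R) : G) = (v : G) * y * (v : G)⁻¹ from hzy]
          simp [mul_assoc]
      have hcopA : (Nat.card A).Coprime (Nat.card D) :=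
        Nat.Coprime.coprime_dvd_left (card_dvd_of_le hAP)
          (Nat.Coprime.coprime_dvd_right (card_dvd_of_le hDR) hcop)
      have hk : ∀ a ∈ A, (x : G)⁻¹ * a * x * a⁻¹ ∈ D := by
        intro a ha
        let B : Subgroup P :=
          { carrier := {w | w ∈ S ∧ x⁻¹ * σ w x ∈ Z}
            one_mem' := ⟨S.one_mem, by
              rw [show σ 1 x = x from Subtype.ext (by rw [hσ]; simp), inv_mul_cancel]; exact Z.one_mem⟩
            mul_mem' := fun {a b} ⟨ha1, ha2⟩ ⟨hb1, hb2⟩ => ⟨S.mul_mem ha1 hb1, by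
              have h := Z.mul_mem ha2 (hZinv a ha1 _ hb2)
              rw [map_mul, map_inv, ← hconj_mul] at h
              simpa [mul_assoc] using h⟩
            inv_mem' := fun {a} ⟨ha1, ha2⟩ => ⟨S.inv_mem ha1, by
              have h := Z.inv_mem (hZinv a⁻¹ (S.inv_mem ha1) _ ha2)
              rw [map_mul, map_inv, ← hconj_mul, inv_mul_cancel,
                show σ 1 x = x from Subtype.ext (by rw [hσ]; simp), mul_inv_rev, inv_inv] at h
              exact h⟩ }
        obtain ⟨j, rfl⟩ := ha
        refine ⟨x⁻¹ * σ (v ^ j) x, (B.zpow_mem (show v ∈ B from ⟨hv, hx⟩) j).2, ?_⟩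
        show (x : G)⁻¹ * ((σ (v ^ j) x : R) : G) = _
        rw [hσ]
        simp [mul_assoc]
      obtain ⟨d, hd, hc⟩ := exists_fixed_in_coset hAD hcopA
        (Or.inl (isSolvable_of_le hAP hPsol)) hk
      obtain ⟨z, hz, rfl⟩ := hd
      have hxz : ((x * z : R) : G) ∈ centralizer (P : Set G) :=
        hfpf v v.2 (fun e => hv1 (Subtype.ext e)) _ (x * z).2
          (mem_centralizer_iff.1 hc v (mem_zpowers _))
      have hxzZ : x * z ∈ Z := fun y => by
        rw [show ⁅x * z, y⁆ = 1 from commutatorElement_eq_one_iff_mul_comm.2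
          (Subtype.ext (hcent _ (x * z).2 hxz y y.2)), map_one]
      simpa using Z.mul_mem hxzZ (Z.inv_mem hz)
    have hScard : Nat.card S < Z.index := by
      obtain ⟨x₀, hx₀⟩ : ∃ x₀ : R, x₀ ∉ Z := by
        by_contra h
        push Not at h
        exact hZtop (eq_top_iff.2 fun x _ => h x)
      have hinj : Function.Injective fun s : S =>
          ((σ (s : P) x₀ : R) : R ⧸ Z) := by
        intro s t h
        have h1 : (σ (s : P) x₀)⁻¹ * σ (t : P) x₀ ∈ Z := QuotientGroup.eq.1 h
        have h2 := hZinv _ (S.inv_mem s.2) _ h1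
        rw [map_mul, map_inv, ← hconj_mul, ← hconj_mul, inv_mul_cancel,
          show σ 1 x₀ = x₀ from Subtype.ext (by rw [hσ]; simp)] at h2
        by_contra hst
        exact hx₀ (hSA _ (S.mul_mem (S.inv_mem s.2) t.2) x₀ h2
          (fun e => hst (Subtype.ext (inv_mul_eq_one.1 e))))
      rw [Subgroup.index_eq_card]
      letI := Fintype.ofFinite (R ⧸ Z)
      letI := Fintype.ofFinite S
      rw [Nat.card_eq_fintype_card, Nat.card_eq_fintype_card]
      refine Fintype.card_lt_of_injective_of_notMem _ hinj (b := (1 : R ⧸ Z)) ?_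
      rintro ⟨s, hs⟩
      have hmem : σ (s : P) x₀ ∈ Z := (QuotientGroup.eq_one_iff _).1 hs
      have h3 := hZinv _ (S.inv_mem s.2) _ hmem
      rw [← hconj_mul, inv_mul_cancel, show σ 1 x₀ = x₀ from Subtype.ext (by rw [hσ]; simp)] at h3
      exact hx₀ h3
    have hSle : Nat.card S ≤ Nat.card P :=
      Nat.le_of_dvd Nat.card_pos (Subgroup.card_subgroup_dvd_card S)
    have hi : 1 ≤ S.index := Nat.one_le_iff_ne_zero.2 S.index_ne_zero_of_finite
    have h1 := (Nat.pow_le_pow_left hdge 2).trans hdeg
    rw [← hPcard] at h1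
    have h2 : Nat.card S + 1 ≤ deg (θ : R → ℂ) ^ 2 := (Nat.succ_le_of_lt hScard).trans hZbound
    have h3 : S.index ^ 2 * (Nat.card S + 1) ≤ S.index * Nat.card S :=
      (Nat.mul_le_mul_left _ h2).trans (by rw [← mul_pow]; exact h1)
    nlinarith

/-- Let G be a finite p-solvable group whose Sylow p-subgroup P meets each conjugate g P g⁻¹ with g outside N_G(P) trivially, and let χ be a faithful character of G (χ g = χ 1 only for g = 1) whose degree d satisfies d² ≤ |P|. Then P is normal in G. -/
theorem result {G : Type*} [Group G] [Finite G] (p : ℕ) [Fact p.Prime] (hsolv : Cfsg.IsPSolvable p G) (P : Sylow p G) (hTI : ∀ g : G, g ∉ Subgroup.normalizer ((P : Subgroup G) : Set G) → (P : Subgroup G) ⊓ (MulAut.conj g • (P : Subgroup G)) = ⊥) (χ : G → ℂ) (hχ : Cfsg.IsCharacter G χ) (hfaith : ∀ g : G, χ g = χ 1 → g = 1) (hdeg : Cfsg.charDegree χ ^ 2 ≤ Nat.card ↥(P : Subgroup G)) : (P : Subgroup G).Normal := by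
  classical
  by_contra hPn
  letI := Fintype.ofFinite G
  have hO : Cfsg.pCore p G = ⊥ := by
    by_contra hO
    apply hPn
    haveI := (pCore_normal_and_isPGroup (G := G) p).1
    have hle : Cfsg.pCore p G ≤ (P : Subgroup G) := pCore_le_sylow p P
    rw [← Subgroup.normalizer_eq_top_iff, eq_top_iff]
    intro g _
    by_contra hg
    apply hO
    rw [eq_bot_iff, ← hTI g hg]
    refine le_inf hle fun x hx => ?_
    rw [Subgroup.mem_pointwise_smul_iff_inv_smul_mem, ← map_inv, MulAut.smul_def, MulAut.conj_apply,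
      inv_inv]
    have hN : (Cfsg.pCore p G).Normal := inferInstance
    exact hle (by simpa using hN.conj_mem x hx g⁻¹)
  set N := Cfsg.pPrimeCore p G with hN
  haveI : N.Normal := pPrimeCore_normal' p
  have hPN : (P : Subgroup G) ≤ Subgroup.normalizer (N : Set G) :=
    le_top.trans_eq (Subgroup.normalizer_eq_top_iff.2 inferInstance).symm
  have hcopN : (Nat.card (P : Subgroup G)).Coprime (Nat.card N) := by
    obtain ⟨k, hk⟩ := IsPGroup.iff_card.1 P.2
    rw [hk]
    exact ((coprime_card_pPrimeCore p).symm.pow_left k)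
  have hnot : ¬ (P : Subgroup G) ≤ Subgroup.centralizer (N : Set G) := by
    intro h
    apply hPn
    have h1 : (P : Subgroup G) ≤ N := h.trans (centralizer_pPrimeCore_le p hsolv hO)
    have h2 : Nat.card (P : Subgroup G) = 1 :=
      Nat.eq_one_of_dvd_coprimes hcopN dvd_rfl (Subgroup.card_dvd_of_le h1)
    rw [Subgroup.card_eq_one] at h2
    rw [h2]
    infer_instance
  -- a minimal invariant subgroup which is not centralised
  obtain ⟨R, ⟨hRN, hPR, hnR⟩, hmin⟩ := Set.Finite.exists_minimal
    (Set.toFinite {R : Subgroup G | R ≤ N ∧ (P : Subgroup G) ≤ Subgroup.normalizer (R : Set G) ∧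
      ¬ (P : Subgroup G) ≤ Subgroup.centralizer (R : Set G)}) ⟨N, le_rfl, hPN, hnot⟩
  have hcen : ∀ R₀ : Subgroup G, R₀ ≤ R → R₀ ≠ R →
      (P : Subgroup G) ≤ Subgroup.normalizer (R₀ : Set G) →
      (P : Subgroup G) ≤ Subgroup.centralizer (R₀ : Set G) := by
    intro R₀ hle hne hnm
    by_contra h
    exact hne (le_antisymm hle (hmin ⟨hle.trans hRN, hnm, h⟩ hle))
  have hcop : (Nat.card (P : Subgroup G)).Coprime (Nat.card R) :=
    Nat.Coprime.coprime_dvd_right (Subgroup.card_dvd_of_le hRN) hcopN
  haveI hPnil : Group.IsNilpotent (P : Subgroup G) := P.2.isNilpotent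
  have hPsol : Group.IsSolvable (P : Subgroup G) := inferInstance
  -- `R` is a `q`-group
  obtain ⟨q, hq, hRq⟩ : ∃ q, q.Prime ∧ IsPGroup q R := by
    by_contra hno
    push Not at hno
    apply hnR
    have hdvd : Nat.card R ∣ Nat.card ↥(R ⊓ Subgroup.centralizer ((P : Subgroup G) : Set G)) := by
      rw [Nat.dvd_iff_prime_pow_dvd_dvd]
      intro q k hq hk
      haveI : Fact q.Prime := ⟨hq⟩
      obtain ⟨Q, hQ⟩ := exists_invariant_sylow hPR hcop (Or.inl hPsol) q
      have hQR : (Q : Subgroup R).map R.subtype ≤ R := Subgroup.map_subtype_le _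
      have hQc := hcen _ hQR (fun e => hno q hq (e ▸ Q.2.map _)) hQ
      refine dvd_trans ?_ (Subgroup.card_dvd_of_le (le_inf hQR (Subgroup.le_centralizer_iff.1 hQc)))
      rw [Subgroup.card_map_of_injective R.subtype_injective, Q.card_eq_multiplicity]
      exact pow_dvd_pow q ((hq.pow_dvd_iff_le_factorization Nat.card_pos.ne').1 hk)
    have hle : R ≤ Subgroup.centralizer ((P : Subgroup G) : Set G) := by
      have := Cfsg.Lib.Coprime.eq_of_le_of_card_eq (inf_le_left : R ⊓ Subgroup.centralizer ((P : Subgroup G) : Set G) ≤ R)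
        (Nat.dvd_antisymm (Subgroup.card_dvd_of_le inf_le_left) hdvd)
      exact this ▸ inf_le_right
    exact Subgroup.le_centralizer_iff.1 hle
  haveI : Fact q.Prime := ⟨hq⟩
  -- the derived subgroup is centralised
  have hR' : (P : Subgroup G) ≤ Subgroup.centralizer ((⁅R, R⁆ : Subgroup G) : Set G) := by
    refine hcen _ (Subgroup.commutator_le_self R) (fun e => ?_) ?_
    · haveI : Group.IsNilpotent R := hRq.isNilpotent
      haveI : Nontrivial R := by
        rw [Subgroup.nontrivial_iff_ne_bot]
        rintro rfl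
        exact hnR (fun u _ => by
          rw [Subgroup.mem_centralizer_iff]
          intro y hy
          rw [Subgroup.coe_bot, Set.mem_singleton_iff] at hy
          rw [hy, one_mul, mul_one])
      have hlt := Group.IsSolvable.commutator_lt_top_of_nontrivial R
      apply hlt.ne
      apply Subgroup.map_injective R.subtype_injective
      rw [commutator_def, Subgroup.map_commutator, ← MonoidHom.range_eq_map, Subgroup.range_subtype, e]
    · intro u hu
      rw [← conjMap_eq_self_iff, conjMap, Subgroup.map_commutator]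
      rw [show R.map (MulAut.conj u).toMonoidHom = R from conjMap_eq_self (hPR hu)]
  -- `[R, P] = R`
  have hRP : ⁅R, (P : Subgroup G)⁆ = R := by
    by_contra hne
    apply hnR
    have h1 := hcen _ (commutator_le_of_le_normalizer hPR) hne (le_normalizer_commutator_right _ _)
    have h2 : ⁅⁅R, (P : Subgroup G)⁆, (P : Subgroup G)⁆ = ⊥ :=
      Subgroup.commutator_eq_bot_iff_le_centralizer.2 (Subgroup.le_centralizer_iff.1 h1)
    rw [commutator_commutator_eq hPR hcop (Or.inl hPsol),
      Subgroup.commutator_eq_bot_iff_le_centralizer] at h2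
    exact Subgroup.le_centralizer_iff.1 h2
  letI := Fintype.ofFinite R
  letI := Fintype.ofFinite (P : Subgroup G)
  refine small_degree_contradiction (P : Subgroup G) R hPR hcop hPsol hnR hR' hRP ?_ hχ hfaith hdeg
  -- fixed points of a nontrivial element are fixed by `P`
  intro u hu hu1 r hr hur
  have hrn : r ∈ Subgroup.normalizer ((P : Subgroup G) : Set G) := by
    by_contra hn
    have h1 := hTI r hn
    apply hu1
    have hmem : u ∈ (P : Subgroup G) ⊓ (MulAut.conj r • (P : Subgroup G)) := by
      refine Subgroup.mem_inf.2 ⟨hu, ?_⟩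
      rw [Subgroup.mem_pointwise_smul_iff_inv_smul_mem, ← map_inv, MulAut.smul_def, MulAut.conj_apply,
        inv_inv, mul_assoc, hur, inv_mul_cancel_left]
      exact hu
    rwa [h1, Subgroup.mem_bot] at hmem
  rw [Subgroup.mem_centralizer_iff]
  intro w hw
  have hPc : w * r * w⁻¹ * r⁻¹ ∈ (P : Subgroup G) := by
    rw [mul_assoc w, mul_assoc w]
    refine mul_mem hw ?_
    exact (Subgroup.mem_normalizer_iff.1 hrn _).1 (inv_mem hw)
  have hRc : w * r * w⁻¹ * r⁻¹ ∈ R :=
    mul_mem ((Subgroup.mem_normalizer_iff.1 (hPR hw) r).1 hr) (inv_mem hr)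
  have h := eq_one_of_coprime hcop.symm hRc hPc
  rwa [mul_inv_eq_one, mul_inv_eq_iff_eq_mul] at h

end Cfsg.Agent.S4748
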