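import Cfsg.Statements.S3779
import Cfsg.Agent.LieFpf.Eigen
import Cfsg.Agent.LieFpf.AssocLie
import Cfsg.Agent.S0033
import Mathlib.GroupTheory.PGroup
import Mathlib.GroupTheory.Nilpotent
import Mathlib.Tactic

set_option autoImplicit false
open Cfsg

namespace Cfsg.Agent.S3779

open Cfsg.Lib.LieFpf

universe u

open scoped commutatorElement

theorem lcs_eq_bot {G : Type u} [Group G] [Finite G] {p : ℕ} [Fact p.Prime] (α : MulAut G) (hα : orderOf α = p)
    (hfpf : ∀ g : G, α g = g → g = 1) (n : ℕ)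
    (hn : ∀ (M : Type u) [LieRing M] (E : ZMod p → AddSubgroup M), IsGraded E → (fun X => act X E)^[n] E = ⊥) :
    (⊤ : Subgroup G).lowerCentralSeries n = ⊥ := by
  have hp := (Fact.out : p.Prime)
  haveI : Group.IsNilpotent G := Cfsg.Agent.S0033.result α (fun g hg => hfpf g hg) p hp hα
  -- `p` does not divide the order
  have hcop : Nat.Coprime (Nat.card G) p := by
    have hP : IsPGroup p (Subgroup.zpowers α) := IsPGroup.of_card (n := 1) (by rw [Nat.card_zpowers, hα, pow_one])
    have hm := hP.card_modEq_card_fixedPoints G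
    have hfix : MulAction.fixedPoints (Subgroup.zpowers α) G = {1} := by
      ext g
      rw [Set.mem_singleton_iff, MulAction.mem_fixedPoints]
      refine ⟨fun h => hfpf g (h ⟨α, Subgroup.mem_zpowers α⟩), ?_⟩
      rintro rfl x
      exact map_one (x : MulAut G)
    rw [hfix, Nat.card_coe_set_eq, Set.ncard_singleton] at hm
    refine Nat.Coprime.symm (hp.coprime_iff_not_dvd.2 fun hd => ?_)
    have h0 := (Nat.modEq_zero_iff_dvd.2 hd).symm.trans hm
    exact hp.not_dvd_one (Nat.modEq_zero_iff_dvd.1 h0.symm)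
  obtain ⟨m, hm⟩ : ∃ m : ℕ, m * p ≡ 1 [MOD Nat.card G] := by
    haveI : NeZero (Nat.card G) := ⟨Nat.card_pos.ne'⟩
    refine ⟨((p : ZMod (Nat.card G))⁻¹).val, (ZMod.natCast_eq_natCast_iff _ _ _).1 ?_⟩
    rw [Nat.cast_mul, Nat.cast_one, ZMod.natCast_zmod_val, mul_comm]
    exact ZMod.coe_mul_inv_eq_one p hcop.symm
  let f : Gr G (n + 1) →+ Gr G (n + 1) := grMap (α : G →* G)
  have hmul : ∀ x : Gr G (n + 1), (m * p) • x = x := by
    intro x
    have h := hm
    have hd : addOrderOf x ∣ Nat.card G := addOrderOf_dvd_of_nsmul_eq_zero (card_nsmul_gr x)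
    conv_rhs => rw [← one_smul ℕ x]
    exact nsmul_eq_nsmul_iff_modEq.2 (h.of_dvd hd)
  have hfp : ∀ x, f^[p] x = x := by
    intro x
    have h : ∀ k : ℕ, f^[k] x = grMap ((α ^ k : MulAut G) : G →* G) x := by
      intro k
      induction k with
      | zero => exact (grMap_id x).symm
      | succ k ih =>
        rw [Function.iterate_succ_apply', ih, pow_succ']
        exact grMap_grMap _ _ x
    rw [h, ← hα, pow_orderOf_eq_one]
    exact grMap_id x
  have hbot := lowerSeq_class f (grMap_lie _) hfp (fun x => grMap_fpf _ hfpf) m hmul n (fun E hE => hn _ E hE)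
  -- the degree `k` part lies in the `k`-th term
  have key : ∀ k : ℕ, ∀ a ∈ lcs G k, (ι k a : Gr G (n + 1)) ∈ lowerSeq (Gr G (n + 1)) k := by
    intro k
    induction k with
    | zero => exact fun a _ => AddSubgroup.mem_top _
    | succ k ih =>
      intro a ha
      have hsub : ∀ x ∈ Subgroup.closure {x | ∃ a ∈ lcs G k, ∃ b ∈ (⊤ : Subgroup G), ⁅a, b⁆ = x},
          x ∈ lcs G (k + 1) ∧ (ι (k + 1) x : Gr G (n + 1)) ∈ lowerSeq (Gr G (n + 1)) (k + 1) := by
        intro x hx
        induction hx using Subgroup.closure_induction with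
        | mem x hx =>
          obtain ⟨a, ha, b, hb, rfl⟩ := hx
          refine ⟨comm_mem (i := k) (j := 0) ha hb, ?_⟩
          rw [show k + 1 = k + 0 + 1 from rfl, ← lie_ι ha (j := 0) hb, lowerSeq_succ]
          exact lie_mem_br (ih a ha) (AddSubgroup.mem_top _)
        | one => exact ⟨one_mem _, by rw [ι_one]; exact zero_mem _⟩
        | mul x y _ _ hx hy => exact ⟨mul_mem hx.1 hy.1, by rw [ι_mul hx.1 hy.1]; exact add_mem hx.2 hy.2⟩
        | inv x _ hx => exact ⟨inv_mem hx.1, by rw [ι_inv hx.1]; exact neg_mem hx.2⟩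
      exact (hsub a ha).2
  have hstep : ∀ a ∈ lcs G n, a ∈ lcs G (n + 1) := by
    intro a ha
    refine mem_of_ι_eq_zero (c := n + 1) (by omega) ha ?_
    have := key n a ha
    rwa [hbot, AddSubgroup.mem_bot] at this
  have hstat : ∀ k, lcs G n ≤ lcs G (n + k) := by
    intro k
    induction k with
    | zero => exact le_rfl
    | succ k ih =>
      refine le_trans (fun a ha => hstep a ha) ?_
      show ⁅lcs G n, ⊤⁆ ≤ ⁅lcs G (n + k), ⊤⁆
      exact Subgroup.commutator_mono ih le_rfl
  obtain ⟨N, hN⟩ := Subgroup.nilpotent_iff_lowerCentralSeries.1 ‹Group.IsNilpotent G›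
  exact le_bot_iff.1 ((hstat N).trans ((lcs_le G (Nat.le_add_left N n)).trans hN.le))


/-- Let G be a finite group with an automorphism of prime order p fixing only the identity. Then G is nilpotent; if p = 2 then G is abelian, if p = 3 then G has class at most 2, and in general the class of G is at most ξ = 1 + (p−1) + (p−1)² + ⋯ + (p−1)^(n−1) with n = 2^(p−1) − 1 (the Higman–Kreknin–Kostrikin bound). -/
theorem result {G : Type*} [Group G] [Finite G] {p : ℕ} (hp : p.Prime) (α : MulAut G) (hα : orderOf α = p) (hfpf : ∀ g : G, α g = g → g = 1) : (p = 2 → (⊤ : Subgroup G).lowerCentralSeries 1 = ⊥) ∧ (p = 3 → (⊤ : Subgroup G).lowerCentralSeries 2 = ⊥) ∧ (⊤ : Subgroup G).lowerCentralSeries (Finset.sum (Finset.range (2 ^ (p - 1) - 1)) (fun i => (p - 1) ^ i)) = ⊥ := by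
  haveI : Fact p.Prime := ⟨hp⟩
  have hgen := lcs_eq_bot α hα hfpf _ fun M _ E hE => Cfsg.Lib.LieFpf.class_bound hE
  refine ⟨?_, ?_, hgen⟩
  · rintro rfl
    simpa using hgen
  · rintro rfl
    exact lcs_eq_bot α hα hfpf 2 fun M _ E hE => Cfsg.Lib.LieFpf.class_two hE

end Cfsg.Agent.S3779
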