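import Cfsg.Statements.S0343
import Cfsg.Agent.Ree.Main

set_option autoImplicit false
set_option linter.style.haveILetI false
open Cfsg

namespace Cfsg.Agent.S0343

/-- If a finite simple group has abelian Sylow `2`-subgroups and an involution whose centraliser is isomorphic to
`Z₂ × PSL₂(F)` with `|F| = q ≥ 3`, then either `q = 3^(2m+1)` with `m ≥ 1` and the group has the small-Ree order
`q³(q³+1)(q-1)`, or `q = 4` or `q = 5` and the group is simple of the order of the smallest Janko group. -/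
theorem result {G : Type*} [Group G] [Finite G]
    [IsSimpleGroup G] (hab : ∀ P : Sylow 2 G, ∀ a b : P, a * b = b * a)
    {F : Type*} [Field F] [Fintype F] (hq : 3 ≤ Fintype.card F) (t : G) (ht : orderOf t = 2)
    (hC : Nonempty (Subgroup.centralizer ({t} : Set G) ≃* Multiplicative (ZMod 2) × Matrix.ProjectiveSpecialLinearGroup (Fin 2) F)) :
    (∃ m : ℕ, 1 ≤ m ∧ Fintype.card F = 3 ^ (2 * m + 1) ∧
        Nat.card G = (3 ^ (2 * m + 1)) ^ 3 * ((3 ^ (2 * m + 1)) ^ 3 + 1) * (3 ^ (2 * m + 1) - 1)) ∨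
      ((Fintype.card F = 4 ∨ Fintype.card F = 5) ∧ Cfsg.IsJ1 G) := by
  classical
  haveI : Fact (Nat.Prime 2) := ⟨Nat.prime_two⟩
  obtain ⟨e⟩ := hC
  have hcardC : Nat.card (Subgroup.centralizer ({t} : Set G)) =
      2 * Nat.card (Matrix.ProjectiveSpecialLinearGroup (Fin 2) F) := by
    rw [Nat.card_congr e.toEquiv, Nat.card_prod]; simp
  have hP := Cfsg.Lib.Classical.SmallPSL.card_psl (F := F) rfl
  have habW : Cfsg.Lib.Walter.AbTwo G := fun S x hx y hy =>
    congrArg Subtype.val (hab S ⟨x, hx⟩ ⟨y, hy⟩)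
  have hab' : ∀ S : Sylow 2 G, IsMulCommutative ↥(S : Subgroup G) := fun S => ⟨⟨hab S⟩⟩
  set q := Fintype.card F with hqdef
  obtain ⟨p, hp, hpow⟩ : ∃ p, p.Prime ∧ ∃ n : ℕ, q = p ^ n := by
    obtain ⟨p, hchar⟩ := CharP.exists F
    obtain ⟨n, hprime, hn⟩ := FiniteField.card F p
    exact ⟨p, hprime, n, hn⟩
  have hsq : 1 ≤ q ^ 2 := Nat.one_le_pow _ _ (by omega)
  -- the centralizer is not commutative
  have hnab : ¬ IsMulCommutative G := fun hc => by
    haveI := hc
    have hpos : 1 < Nat.card (Matrix.ProjectiveSpecialLinearGroup (Fin 2) F) := by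
      by_contra hlt
      have h1 : Nat.gcd 2 (q - 1) ≤ 2 := Nat.gcd_le_left _ (by norm_num)
      have h2 : q * (q ^ 2 - 1) ≤ 2 := by
        rw [← hP]
        exact le_trans (Nat.mul_le_mul h1 (Nat.not_lt.1 hlt)) (by norm_num)
      have h9 : 9 ≤ q ^ 2 := by nlinarith
      have : 3 * 8 ≤ q * (q ^ 2 - 1) := Nat.mul_le_mul hq (by omega)
      omega
    haveI : Nontrivial (Matrix.ProjectiveSpecialLinearGroup (Fin 2) F) :=
      Finite.one_lt_card_iff_nontrivial.1 hpos
    obtain ⟨g, hg⟩ := exists_ne (1 : Matrix.ProjectiveSpecialLinearGroup (Fin 2) F)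
    refine hg (Subgroup.mem_bot.1 ((Cfsg.Lib.BGN.P.psl_center_eq_bot (F := F)) ▸
      Subgroup.mem_center_iff.2 fun h => ?_))
    have h1 : e.symm (1, h) * e.symm (1, g) = e.symm (1, g) * e.symm (1, h) :=
      Subtype.ext (mul_comm' _ _)
    rw [← map_mul, ← map_mul] at h1
    simpa using congrArg Prod.snd (e.symm.injective h1)
  have htwo : Cfsg.IsTwoCentralInvolution t := by
    obtain ⟨S, hS⟩ := (IsPGroup.of_card (G := Subgroup.zpowers t) (p := 2) (n := 1)
      (by rw [Nat.card_zpowers, ht, pow_one])).exists_le_sylow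
    exact ⟨ht, S, hS (Subgroup.mem_zpowers t), fun x hx =>
      habW S x hx t (hS (Subgroup.mem_zpowers t))⟩
  -- excluded values
  have hexcl : 8 ∣ Nat.card (Matrix.ProjectiveSpecialLinearGroup (Fin 2) F) →
      3 ∣ Nat.card (Matrix.ProjectiveSpecialLinearGroup (Fin 2) F) → False := fun h8 h3 => by
    have hJ := Cfsg.Lib.Ree.typed_jr hnab habW ht (hcardC ▸ h3.mul_left 2) (hcardC ▸ h8.mul_left 2)
    obtain ⟨S⟩ : Nonempty (Sylow 2 G) := inferInstance
    have := Cfsg.Lib.Ree.two_part_le (Subgroup.centralizer ({t} : Set G)).subtype (Subgroup.subtype_injective _)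
      (n := 4) (by rw [hcardC]; exact Nat.mul_dvd_mul_left 2 h8) S
    rw [hJ.1 S] at this
    omega
  have h3q : 3 ∣ q * (q ^ 2 - 1) := by
    rcases (show q % 3 = 0 ∨ q % 3 = 1 ∨ q % 3 = 2 by omega) with h | h | h
    · exact (Nat.dvd_of_mod_eq_zero h).mul_right _
    · refine dvd_mul_of_dvd_right ?_ _
      rw [show q ^ 2 - 1 = (q + 1) * (q - 1) by rw [← Nat.sq_sub_sq, one_pow]]
      exact dvd_mul_of_dvd_right (by omega) _
    · refine dvd_mul_of_dvd_right ?_ _
      rw [show q ^ 2 - 1 = (q + 1) * (q - 1) by rw [← Nat.sq_sub_sq, one_pow]]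
      exact dvd_mul_of_dvd_left (by omega) _
  rcases Nat.even_or_odd q with heven | hodd
  · -- even
    have hp2 : p = 2 := by
      obtain ⟨n, hn⟩ := hpow
      have h2 : 2 ∣ p ^ n := hn ▸ even_iff_two_dvd.1 heven
      exact ((Nat.prime_dvd_prime_iff_eq Nat.prime_two hp).1 (Nat.prime_two.dvd_of_dvd_pow h2)).symm
    obtain ⟨n, hn⟩ := hpow
    rw [hp2] at hn
    have hg : Nat.gcd 2 (q - 1) = 1 := by
      refine (Nat.prime_two.coprime_iff_not_dvd).2 fun hd => ?_
      obtain ⟨r, hr⟩ := heven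
      omega
    rw [hg, one_mul] at hP
    by_cases h4 : q = 4
    · refine Or.inr ⟨Or.inl h4, ?_⟩
      obtain ⟨φ⟩ := Cfsg.Agent.S0252.result (F := F) h4
      exact Cfsg.Agent.S0448.result t htwo (e.trans (MulEquiv.prodCongr (MulEquiv.refl _) φ))
    · exfalso
      have h3n : 3 ≤ n := by
        by_contra h'
        interval_cases n <;> omega
      refine hexcl ?_ (hP ▸ h3q)
      rw [hP]
      refine Dvd.dvd.mul_right ?_ _
      rw [hn]
      exact (show (8 : ℕ) = 2 ^ 3 by norm_num) ▸ Nat.pow_dvd_pow 2 h3n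
  · have hg : Nat.gcd 2 (q - 1) = 2 :=
      Nat.gcd_eq_left (by obtain ⟨r, hr⟩ := hodd; exact ⟨r, by omega⟩)
    rw [hg] at hP
    by_cases h8 : q % 8 = 3 ∨ q % 8 = 5
    · by_cases h5 : q = 5
      · refine Or.inr ⟨Or.inr h5, ?_⟩
        obtain ⟨φ⟩ := Cfsg.Agent.S0253.result (F := F) h5
        exact Cfsg.Agent.S0448.result t htwo (e.trans (MulEquiv.prodCongr (MulEquiv.refl _) φ))
      · by_cases h3 : q = 3
        · exfalso
          rw [h3] at hP
          have hJ := Cfsg.Lib.Ree.typed_jr hnab habW ht (by rw [hcardC]; omega) (by rw [hcardC]; omega)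
          obtain ⟨F', iF, iFt, h5', hm', hall⟩ := Cfsg.Lib.Walter.jr_hyp hnab habW hJ
          letI := iF
          letI := iFt
          obtain ⟨E, E₀, T, a, b, n, hh, -, -⟩ := hall t ht
          obtain ⟨f⟩ := hh.iso
          have hP' := Cfsg.Lib.Classical.SmallPSL.card_psl (F := F') rfl
          rw [← Nat.card_congr f.toEquiv] at hP'
          have hle : E₀ ≤ Subgroup.centralizer ({t} : Set G) := fun x hx =>
            Subgroup.mem_centralizer_singleton_iff.2 (hh.comm x (hh.le hx)).symm.eq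
          have hcard := Nat.le_of_dvd Nat.card_pos (Subgroup.card_dvd_of_le hle)
          have hg' : Nat.gcd 2 (Fintype.card F' - 1) ≤ 2 := Nat.gcd_le_left _ (by norm_num)
          have h25 : 25 ≤ Fintype.card F' ^ 2 := by nlinarith
          have h120 : 5 * 24 ≤ Fintype.card F' * (Fintype.card F' ^ 2 - 1) := Nat.mul_le_mul h5' (by omega)
          have : Nat.gcd 2 (Fintype.card F' - 1) * Nat.card E₀ ≤ 2 * Nat.card E₀ := Nat.mul_le_mul_right _ hg'
          omega
        · left
          have hbig : 11 ≤ q := by omega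
          obtain ⟨E, hH⟩ := Cfsg.Lib.Ree.exists_hyp ht e hodd
          exact (Cfsg.Lib.Ree.Setting.mk inferInstance hnab hab' hH h8 hbig).order_eq
    · exfalso
      refine hexcl ?_ ?_
      · obtain ⟨r, hr⟩ := hodd
        have h16 : 16 ∣ q ^ 2 - 1 := by
          rw [show q ^ 2 - 1 = (q + 1) * (q - 1) by rw [← Nat.sq_sub_sq, one_pow]]
          rcases (show q % 8 = 1 ∨ q % 8 = 7 by omega) with h | h
          · exact Nat.mul_dvd_mul (show 2 ∣ q + 1 by omega) (show 8 ∣ q - 1 by omega)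
          · exact Nat.mul_dvd_mul (show 8 ∣ q + 1 by omega) (show 2 ∣ q - 1 by omega)
        obtain ⟨c, hc⟩ := h16.mul_left q
        have : q * 16 * c = 16 * (q * c) := by ring
        omega
      · obtain ⟨c, hc⟩ := h3q
        omega

end Cfsg.Agent.S0343
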