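import Cfsg.Statements.S4458
import Cfsg.Agent.Chars.TwoDegrees
import Cfsg.Agent.Blocks.Monomial
-- import your own Cfsg.Agent.* helpers here

set_option autoImplicit false
open Cfsg

namespace Cfsg.Agent.S4458

/-- If a finite group has exactly two irreducible character degrees, 1 and m with m ≠ 1, then its commutator subgroup is abelian. -/
theorem result {G : Type*} [Group G] [Finite G] (m : ℕ) (hcd : ∀ χ : Cfsg.IrrCharacter G, Cfsg.charDegree (χ : G → ℂ) = 1 ∨ Cfsg.charDegree (χ : G → ℂ) = m) (hm : ∃ χ : Cfsg.IrrCharacter G, Cfsg.charDegree (χ : G → ℂ) = m) (hm1 : m ≠ 1) : ∀ a ∈ commutator G, ∀ b ∈ commutator G, a * b = b * a := by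
  classical
  haveI : Fintype G := Fintype.ofFinite G
  have hD : ∀ χ : G → ℂ, Cfsg.IsIrrCharacter G χ → Cfsg.charDegree χ = Cfsg.Lib.Chars.deg χ := fun χ hχ => by
    rw [Cfsg.charDegree, Cfsg.Lib.Chars.IsCharacter.apply_one_eq_deg (Cfsg.Lib.Chars.isCharacter_of_irr hχ),
      Complex.natCast_re, Nat.floor_natCast]
  have hcd' : ∀ χ : G → ℂ, Cfsg.IsIrrCharacter G χ → Cfsg.Lib.Chars.deg χ = 1 ∨ Cfsg.Lib.Chars.deg χ = m :=
    fun χ hχ => by rw [← hD χ hχ]; exact hcd ⟨χ, hχ⟩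
  have hm' : ∃ χ : G → ℂ, Cfsg.IsIrrCharacter G χ ∧ Cfsg.Lib.Chars.deg χ = m := by
    obtain ⟨χ, hχ⟩ := hm
    exact ⟨χ, χ.2, by rw [← hD _ χ.2]; exact hχ⟩
  have hm2 : 1 < m := by
    obtain ⟨χ, hχ, hd⟩ := hm'
    have h0 := Cfsg.Lib.Chars.deg_irr_pos (⟨χ, hχ⟩ : Cfsg.IrrCharacter G)
    simp only at h0
    omega
  rcases Cfsg.Lib.Chars.two_degrees hm1 hcd' hm' with ⟨A, hAn, hAab, hAidx⟩ | ⟨p, e, hp, -, P, A, hPn, hAn, hPp, hAab, hinf, hsup⟩
  · have hle : commutator G ≤ A := Subgroup.commutator_le.2 fun a _ b _ =>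
      Cfsg.Lib.Chars.commutator_mem_of_index hm2 hcd' A hAidx a b
    exact fun a ha b hb => hAab a (hle ha) b (hle hb)
  haveI := Fact.mk hp
  -- the group is nilpotent, hence monomial
  have hAZ : A ≤ Subgroup.center G := fun a ha => Subgroup.mem_center_iff.2 fun g => by
    have hg : g ∈ P ⊔ A := hsup ▸ Subgroup.mem_top g
    obtain ⟨u, hu, v, hv, rfl⟩ := Subgroup.mem_sup_of_normal_left.1 hg
    have h1 : Commute u a := Subgroup.commute_of_normal_of_disjoint P A hPn hAn (disjoint_iff.2 hinf) u a hu ha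
    have h2 : Commute v a := hAab v hv a ha
    exact (h1.mul_left h2).eq
  have hQ : IsPGroup p (G ⧸ Subgroup.center G) := fun x => by
    obtain ⟨g, rfl⟩ := QuotientGroup.mk_surjective x
    have hg : g ∈ P ⊔ A := hsup ▸ Subgroup.mem_top g
    obtain ⟨u, hu, v, hv, rfl⟩ := Subgroup.mem_sup_of_normal_left.1 hg
    obtain ⟨k, hk⟩ := hPp ⟨u, hu⟩
    refine ⟨k, ?_⟩
    rw [QuotientGroup.mk_mul, (QuotientGroup.eq_one_iff v).2 (hAZ hv), mul_one, ← QuotientGroup.mk_pow,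
      show u ^ p ^ k = 1 from congrArg Subtype.val hk, QuotientGroup.mk_one]
  haveI : Group.IsNilpotent (G ⧸ Subgroup.center G) := hQ.isNilpotent
  haveI : Group.IsNilpotent G := Subgroup.isNilpotent_of_ker_le_center (QuotientGroup.mk' (Subgroup.center G))
    (by rw [QuotientGroup.ker_mk'])
  intro a ha b hb
  rw [← commutatorElement_eq_one_iff_mul_comm]
  refine isConj_one_right.mp ((Cfsg.Lib.Chars.isConj_iff_forall_irr 1 _).mpr fun χ => ?_)
  rcases hcd' _ χ.2 with h | h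
  · obtain ⟨f, hf⟩ := Cfsg.Lib.Chars.exists_hom_of_deg_one (Cfsg.Lib.Chars.isCharacter_of_irr χ.2)
      (by rw [Cfsg.Lib.Chars.irr_apply_one_eq_deg, h, Nat.cast_one])
    simp [hf, commutatorElement_def, mul_comm]
  · obtain ⟨H, lam, hlam⟩ := Cfsg.Lib.Blocks.isMonomial_of_isNilpotent _ G rfl _ χ.2
    have hidx : H.index = m := by
      apply Nat.cast_injective (R := ℂ)
      rw [← h, ← Cfsg.Lib.Chars.irr_apply_one_eq_deg, hlam, Cfsg.Lib.Chars.indFun_one, map_one, Units.val_one,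
        mul_one]
    have hle : commutator G ≤ H := Subgroup.commutator_le.2 fun u _ w _ =>
      Cfsg.Lib.Chars.commutator_mem_of_index hm2 hcd' H hidx u w
    rw [hlam, Cfsg.Lib.Chars.indFun_apply, Cfsg.Lib.Chars.indFun_apply]
    congr 1
    refine Finset.sum_congr rfl fun x _ => ?_
    have hn := Subgroup.Normal.conj_mem (inferInstance : (commutator G).Normal)
    have ha' : x⁻¹ * a * x ∈ H := hle (by simpa using hn a ha x⁻¹)
    have hb' : x⁻¹ * b * x ∈ H := hle (by simpa using hn b hb x⁻¹)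
    have hc : x⁻¹ * (a * b * a⁻¹ * b⁻¹) * x =
        ((⟨_, ha'⟩ * ⟨_, hb'⟩ * ⟨_, ha'⟩⁻¹ * ⟨_, hb'⟩⁻¹ : H) : G) := by
      simp only [Subgroup.coe_mul, Subgroup.coe_inv]
      group
    set u : H := ⟨_, ha'⟩ with hu
    set v : H := ⟨_, hb'⟩ with hv
    have hl : lam (u * v * u⁻¹ * v⁻¹) = 1 := by
      rw [map_mul, map_mul, map_mul, map_inv, map_inv, mul_comm (lam u), mul_inv_cancel_right, mul_inv_cancel]
    rw [commutatorElement_def, hc, Cfsg.Lib.Chars.extendByZero_apply, mul_one, inv_mul_cancel,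
      show (1 : G) = ((1 : H) : G) from rfl, Cfsg.Lib.Chars.extendByZero_apply, hl, map_one]

end Cfsg.Agent.S4458
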