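import Cfsg.Statements.S3344
import Cfsg.Agent.ExtraEight.MathieuCase
import Cfsg.Agent.ExtraEight.A9Count

set_option autoImplicit false
open Cfsg

namespace Cfsg.Agent.S3344

/-- Let G be a finite group with an involution s, L = C_G(s) and Q = O₂(L). Suppose Q is extraspecial of order 32, L/Q is isomorphic to Sym(3), C_Q(X) = ⟨s⟩ for a Sylow 3-subgroup X of L, and s is not weakly closed in Q with respect to G (some conjugate of s other than s lies in Q). Then either G has an elementary abelian normal subgroup of order 8 with quotient isomorphic to PSL(3,2), or G is isomorphic to the alternating group of degree 8 or 9, or to the Mathieu group M₁₂. -/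
theorem result {G : Type*} [Group G] [Finite G]
    (s : G) (hs : orderOf s = 2) (L : Subgroup G) (hL : L = Subgroup.centralizer ({s} : Set G))
    (Q : Subgroup G) (hQ : Q = (Cfsg.pCore 2 L).map L.subtype)
    (hQex : Cfsg.IsExtraspecial 2 Q) (hQcard : Nat.card Q = 32)
    (e : L ⧸ Cfsg.pCore 2 L ≃* Equiv.Perm (Fin 3))
    (X : Sylow 3 L) (hCQX : Q ⊓ Subgroup.centralizer (((X : Subgroup L).map L.subtype : Subgroup G) : Set G) = Subgroup.zpowers s)
    (hnwc : ∃ g : G, g * s * g⁻¹ ∈ Q ∧ g * s * g⁻¹ ≠ s) :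
    (∃ (N : Subgroup G) (hN : N.Normal), IsMulCommutative N ∧ (∀ n ∈ N, n ^ 2 = 1) ∧ Nat.card N = 8 ∧
        Nonempty (G ⧸ N ≃* Matrix.ProjectiveSpecialLinearGroup (Fin 3) (ZMod 2))) ∨
    Nonempty (G ≃* alternatingGroup (Fin 8)) ∨ Nonempty (G ≃* alternatingGroup (Fin 9)) ∨ Cfsg.Spor.IsoM12 G := by
  classical
  let H : Cfsg.Lib.ExtraEight.Hyp G :=
    { s := s, hs := hs, L := L, hL := hL, Q := Q, hQ := hQ, hQex := hQex, hQcard := hQcard, e := e, X := X,
      hCQX := hCQX, hnwc := hnwc }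
  rcases H.exists_model with ⟨φ, h1, h2⟩ | ⟨φ, h1, h2, h3, h4⟩
  · rcases H.mathieu_case φ h1 h2 with h | h
    · exact Or.inl h
    · exact Or.inr (Or.inr (Or.inr h))
  have h3' : φ Cfsg.Lib.ExtraEight.tA = s := h3
  let S : Cfsg.Lib.ExtraEight.ASetting G := ⟨φ, h1, by rw [h3']; exact h2⟩
  obtain ⟨g, hgQ, hgne⟩ := hnwc
  obtain ⟨m, hm6, hme⟩ := h4 _ hgQ
  have h6 : S.PT 2 ∨ S.PT 3 ∨ S.PT 4 := by
    refine S.some_six hm6 (fun e => hgne ?_) ?_
    · rw [← hme, e, h3']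
    · show IsConj (φ Cfsg.Lib.ExtraEight.tA) (φ m)
      rw [h3', hme]
      exact isConj_iff.2 ⟨g, rfl⟩
  rcases S.dichotomy h6 with h | ⟨S', -, hP⟩
  · exact Or.inl h
  obtain ⟨f, hf, hfφ⟩ := S'.exists_alt hP
  by_cases htop : f.range = ⊤
  · exact Or.inr (Or.inl ⟨(((MonoidHom.ofInjective hf).trans (MulEquiv.subgroupCongr htop)).trans
      Subgroup.topEquiv).symm⟩)
  · let A : Cfsg.Lib.ExtraEight.Alt9 G := ⟨S', hP, f, hf, hfφ, htop⟩
    exact Or.inr (Or.inr (Or.inl A.iso_nine))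

end Cfsg.Agent.S3344
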