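import Cfsg.Statements.S2820
import Cfsg.Agent.Transfer.Basic
import Cfsg.Agent.Components.Cores
import Cfsg.Agent.Components.Supplement
import Cfsg.Agent.Coprime.Sylow

set_option autoImplicit false
open Cfsg

namespace Cfsg.Agent.S2820

/-- Let A and B be subnormal subgroups of the finite group H with A a p-group and B = O^p(B) (B generated by its elements of order prime to p). Then A normalizes B and B = O^p(AB), the subgroup of ⟨A, B⟩ generated by its elements of order prime to p. -/
theorem result {H : Type*} [Group H] [Finite H] {p : ℕ} [Fact p.Prime] (A B : Subgroup H) (hA : A.IsSubnormal) (hB : B.IsSubnormal) (hAp : IsPGroup p ↥A) (hBres : (Cfsg.pResidual p ↥B).map B.subtype = B) : A ≤ Subgroup.normalizer (B : Set H) ∧ (Cfsg.pResidual p ↥(A ⊔ B)).map (A ⊔ B).subtype = B := by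
  open Subgroup in
  open scoped Pointwise in
  exact by
    have hres : ∀ M : Subgroup H, (Cfsg.pResidual p ↥M).map M.subtype =
        closure {g : H | g ∈ M ∧ (orderOf g).Coprime p} := by
      intro M
      rw [Cfsg.pResidual, MonoidHom.map_closure]
      congr 1
      ext g
      constructor
      · rintro ⟨m, hm, rfl⟩
        refine ⟨m.2, ?_⟩
        show (orderOf (m : H)).Coprime p
        rw [Subgroup.orderOf_coe]; exact hm
      · rintro ⟨hg, ho⟩
        refine ⟨⟨g, hg⟩, ?_, rfl⟩
        show (orderOf (⟨g, hg⟩ : M)).Coprime p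
        rw [Subgroup.orderOf_mk]; exact ho
    have key : ∀ M : Subgroup H, B ≤ M → (∃ k, B.relIndex M ∣ p ^ k) →
        ∀ g ∈ M, (orderOf g).Coprime p → g ∈ B := by
      intro M hBM hk g hg ho
      suffices hsub : ∀ C : Subgroup M, C.IsSubnormal → (∃ k, C.index ∣ p ^ k) →
          ∀ m : M, (orderOf m).Coprime p → m ∈ C from
        hsub (B.subgroupOf M) (hB.comap M.subtype) hk ⟨g, hg⟩ (by rwa [Subgroup.orderOf_mk])
      intro C hC
      induction hC with
      | top => exact fun _ m _ => mem_top m
      | step C K hle _ hN ih =>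
        intro hi m hm
        obtain ⟨k, hk⟩ := hi
        have hmul := relIndex_mul_index hle
        have hmK : m ∈ K := ih ⟨k, dvd_trans (Dvd.intro_left _ hmul) hk⟩ m hm
        haveI := hN
        have h1 : (⟨m, hmK⟩ : K) ^ (C.subgroupOf K).index ∈ C.subgroupOf K := pow_index_mem _ _
        have hco : (orderOf m).Coprime (C.subgroupOf K).index :=
          (hm.pow_right k).coprime_dvd_right (dvd_trans (Dvd.intro _ hmul) hk)
        obtain ⟨j, hj⟩ := exists_pow_eq_self_of_coprime hco.symm
        rw [← hj]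
        exact C.pow_mem h1 j
    have hBeq : ∀ M : Subgroup H, B ≤ M → (∃ k, B.relIndex M ∣ p ^ k) →
        (Cfsg.pResidual p ↥M).map M.subtype = B := by
      intro M hBM hk
      refine le_antisymm ?_ ?_
      · rw [hres, closure_le]
        exact fun g hg => key M hBM hk g hg.1 hg.2
      · conv_lhs => rw [← hBres, hres]
        rw [hres]
        exact closure_mono fun g hg => ⟨hBM hg.1, hg.2⟩
    have hAP : A ≤ Cfsg.pCore p H := Cfsg.Lib.Components.le_pCore_of_subnormal hA hAp
    set P := Cfsg.pCore p H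
    set M := B ⊔ P with hM
    have hkM : ∃ k, B.relIndex M ∣ p ^ k := by
      obtain ⟨k, hk⟩ := IsPGroup.iff_card.1 (Cfsg.Lib.Components.isPGroup_pCore (G := H) p)
      refine ⟨k, ?_⟩
      have h1 : Nat.card ↥(P ⊔ B) * Nat.card ↥(P ⊓ B) = Nat.card P * Nat.card B :=
        Cfsg.Lib.Coprime.card_sup_mul_card_inf le_normalizer_of_normal
      have h2 := relIndex_mul_relIndex ⊥ B M bot_le le_sup_left
      rw [relIndex_bot_left, relIndex_bot_left] at h2
      rw [sup_comm, ← hM, ← h2, mul_comm (Nat.card P), mul_assoc] at h1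
      exact hk ▸ ⟨_, (Nat.eq_of_mul_eq_mul_left Nat.card_pos h1).symm⟩
    have hMr := hBeq M le_sup_left hkM
    have hAn : A ≤ normalizer (B : Set H) := by
      intro a ha
      rw [← hMr]
      refine le_normalizer_map M.subtype ⟨⟨a, mem_sup_right (hAP ha)⟩, ?_, rfl⟩
      rw [normalizer_eq_top_iff.2 inferInstance]
      exact mem_top _
    refine ⟨hAn, hBeq (A ⊔ B) le_sup_right ?_⟩
    obtain ⟨k, hk⟩ := IsPGroup.iff_card.1 hAp
    refine ⟨k, ?_⟩
    have h1 := Cfsg.Lib.Coprime.card_sup_mul_card_inf hAn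
    have h2 := relIndex_mul_relIndex ⊥ B (A ⊔ B) bot_le le_sup_right
    rw [relIndex_bot_left, relIndex_bot_left] at h2
    rw [sup_comm B A, ← h2, mul_assoc] at h1
    exact hk ▸ ⟨_, (Nat.eq_of_mul_eq_mul_left Nat.card_pos h1).symm⟩

end Cfsg.Agent.S2820
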