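import Cfsg.Statements.S1012
import Mathlib
import Cfsg.Agent.Coprime.Basic
import Cfsg.Agent.Small.Toolkit

set_option autoImplicit false
open Cfsg

namespace Cfsg.Agent.S1012

/-- A group of order 24 containing no element of order 6 is isomorphic to the symmetric group of degree 4. -/
theorem result {G : Type*} [Group G] [Finite G] (h : Nat.card G = 24) (h6 : ∀ g : G, orderOf g ≠ 6) : Nonempty (G ≃* Equiv.Perm (Fin 4)) := by
  classical
  haveI := Fact.mk Nat.prime_three; haveI := Fact.mk Nat.prime_two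
  obtain ⟨P⟩ : Nonempty (Sylow 3 G) := inferInstance
  have hP : Nat.card (P : Subgroup G) = 3 := by
    rw [Cfsg.Lib.Small.card_sylow_of_factor P (a := 1) (m := 8) (by norm_num [h]) (by norm_num), pow_one]
  -- no involution centralises an element of order 3
  have hcomm : ∀ t y : G, orderOf t = 2 → orderOf y = 3 → t * y ≠ y * t := fun t y ht hy hc =>
    h6 (t * y) (by rw [(show Commute t y from hc).orderOf_mul_eq_mul_orderOf_of_coprime
      (by rw [ht, hy]; decide), ht, hy])
  obtain ⟨⟨y, hyP⟩, hy⟩ := exists_prime_orderOf_dvd_card' (G := (P : Subgroup G)) 3 (by rw [hP])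
  rw [Subgroup.orderOf_mk] at hy
  have hn := Cfsg.Lib.Small.sylow_facts P (a := 1) (m := 8) (by norm_num [h]) (by norm_num)
  have hn4 : Nat.card (Sylow 3 G) = 4 := by
    have hle : Nat.card (Sylow 3 G) ≤ 8 := Nat.le_of_dvd (by norm_num) hn.1
    have : Nat.card (Sylow 3 G) = 1 ∨ Nat.card (Sylow 3 G) = 4 := by
      obtain ⟨h1, h2⟩ := hn
      generalize Nat.card (Sylow 3 G) = n at h1 h2 hle
      interval_cases n <;> omega
    refine this.resolve_left fun h1 => ?_
    haveI : Subsingleton (Sylow 3 G) := Finite.card_le_one_iff_subsingleton.mp h1.le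
    haveI := Sylow.normal_of_subsingleton P
    -- the centraliser of the normal subgroup has index at most 2
    set f := MulAut.conjNormal (H := (P : Subgroup G)) with hf
    haveI : IsCyclic (P : Subgroup G) := isCyclic_of_prime_card hP
    have h2 : Nat.card f.range ∣ 2 := by
      have := Subgroup.card_subgroup_dvd_card f.range
      rwa [IsCyclic.card_mulAut, hP, Nat.totient_prime Nat.prime_three] at this
    have h3 : 2 ∣ Nat.card f.ker := by
      have h4 := f.ker.card_mul_index
      rw [Subgroup.index_ker, h] at h4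
      rcases (Nat.dvd_prime Nat.prime_two).mp h2 with h5 | h5 <;> rw [h5] at h4 <;> omega
    obtain ⟨⟨t, htk⟩, ht⟩ := exists_prime_orderOf_dvd_card' (G := f.ker) 2 h3
    rw [Subgroup.orderOf_mk] at ht
    have := congrArg Subtype.val (DFunLike.congr_fun (MonoidHom.mem_ker.mp htk) (⟨y, hyP⟩ : (P : Subgroup G)))
    exact hcomm t y ht hy (mul_inv_eq_iff_eq_mul.mp this)
  -- the action on the four Sylow subgroups
  set φ := MulAction.toPermHom G (Sylow 3 G) with hφ
  have hker : φ.ker = ⊥ := by
    have hle : φ.ker ≤ Subgroup.normalizer ((P : Subgroup G) : Set G) := fun g hg =>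
      Sylow.smul_eq_iff_mem_normalizer.mp (Equiv.ext_iff.mp (MonoidHom.mem_ker.mp hg) P)
    have hNc : Nat.card (Subgroup.normalizer ((P : Subgroup G) : Set G)) = 6 := by
      have := Cfsg.Lib.Small.card_normalizer_mul P
      rw [hn4, h] at this; omega
    have hd : Nat.card φ.ker ∣ 6 := hNc ▸ Subgroup.card_dvd_of_le hle
    by_contra hne
    have h1 : Nat.card φ.ker ≠ 1 := fun h1 => hne (Subgroup.card_eq_one.mp h1)
    by_cases h3 : 3 ∣ Nat.card φ.ker
    · -- then the kernel moves a Sylow subgroup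
      obtain ⟨⟨u, hu⟩, huo⟩ := exists_prime_orderOf_dvd_card' (G := φ.ker) 3 h3
      rw [Subgroup.orderOf_mk] at huo
      have hu1 : u ≠ 1 := fun h0 => by rw [h0, orderOf_one] at huo; omega
      obtain ⟨T, hT⟩ := (IsPGroup.of_card (n := 1) (by rw [Nat.card_zpowers, huo, pow_one]) :
        IsPGroup 3 (Subgroup.zpowers u)).exists_le_sylow
      have hall : ∀ Q : Sylow 3 G, Q = T := fun Q => Cfsg.Lib.Small.sylow_fixed_eq
        ((Nat.card_congr (Sylow.equiv T P).toEquiv).trans hP) (hT (Subgroup.mem_zpowers u)) hu1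
        (Equiv.ext_iff.mp (MonoidHom.mem_ker.mp hu) Q)
      haveI : Subsingleton (Sylow 3 G) := ⟨fun a b => (hall a).trans (hall b).symm⟩
      rw [Nat.card_of_subsingleton P] at hn4
      omega
    · have hk2 : Nat.card φ.ker = 2 := by
        have : Nat.card φ.ker ≤ 6 := Nat.le_of_dvd (by norm_num) hd
        generalize Nat.card φ.ker = n at hd h1 h3 this
        interval_cases n <;> omega
      obtain ⟨⟨t, htk⟩, ht⟩ := exists_prime_orderOf_dvd_card' (G := φ.ker) 2 (by rw [hk2])
      rw [Subgroup.orderOf_mk] at ht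
      have hconj : y * t * y⁻¹ ∈ φ.ker := φ.normal_ker.conj_mem t htk y
      have hz : Subgroup.zpowers t = φ.ker := Subgroup.eq_of_le_of_card_ge
        (Subgroup.zpowers_le.mpr htk) (by rw [hk2, Nat.card_zpowers, ht])
      rw [← hz] at hconj
      obtain ⟨i, hi⟩ := Subgroup.mem_zpowers_iff.mp hconj
      have hcases : y * t * y⁻¹ = 1 ∨ y * t * y⁻¹ = t := by
        rw [← hi]
        rcases Int.even_or_odd i with ⟨j, rfl⟩ | ⟨j, rfl⟩
        · left; rw [← two_mul, zpow_mul, show t ^ (2 : ℤ) = 1 from by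
            rw [show ((2 : ℤ)) = ((2 : ℕ) : ℤ) from rfl, zpow_natCast, ← ht, pow_orderOf_eq_one], one_zpow]
        · right; rw [zpow_add, zpow_mul, zpow_one, show t ^ (2 : ℤ) = 1 from by
            rw [show ((2 : ℤ)) = ((2 : ℕ) : ℤ) from rfl, zpow_natCast, ← ht, pow_orderOf_eq_one], one_zpow, one_mul]
      rcases hcases with h0 | h0
      · rw [conj_eq_one_iff] at h0
        rw [h0, orderOf_one] at ht; omega
      · exact hcomm t y ht hy (mul_inv_eq_iff_eq_mul.mp h0).symm
  have hinj : Function.Injective φ := (MonoidHom.ker_eq_bot_iff φ).mp hker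
  have e : Sylow 3 G ≃ Fin 4 := (Finite.equivFinOfCardEq hn4)
  haveI := Fintype.ofFinite (Sylow 3 G)
  exact ⟨(MulEquiv.ofBijective φ ((Nat.bijective_iff_injective_and_card φ).mpr ⟨hinj, by
    rw [h, Nat.card_perm, hn4]; rfl⟩)).trans e.permCongrHom⟩

end Cfsg.Agent.S1012
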