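import Cfsg.Statements.S0495
import Cfsg.Agent.Components.Recognition.PSLUnique
import Cfsg.Agent.Small.Order168
-- import your own Cfsg.Agent.* helpers here

set_option autoImplicit false
open Cfsg

namespace Cfsg.Agent.S0495

local instance factPrime7 : Fact (Nat.Prime 7) := ⟨by norm_num⟩

/-- A simple group of order 168 is isomorphic to the projective special linear group of dimension 2 over the field with
7 elements. -/
theorem result {G : Type*} [Group G] [Finite G] [IsSimpleGroup G]
    (h : Nat.card G = 168) {F : Type*} [Field F] [Fintype F] (hF : Fintype.card F = 7) :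
    Nonempty (G ≃* Matrix.ProjectiveSpecialLinearGroup (Fin 2) F) := by
  skip
  refine Cfsg.Lib.Components.PSLUnique.exists_iso (p := 7) 3 2 3 true (by norm_num)
    (by decide +kernel) (by decide +kernel) (by rw [Nat.card_eq_fintype_card]; decide)
    (by decide) (by decide) (by decide) (by decide) (Cfsg.Lib.Small.Order168.hnc h)
    (by rw [h]) (Cfsg.Lib.Small.Order168.card_sylow_seven h) (fun _ t y ht hy hy3 hty => ?_) hF
  have ho : orderOf y = 3 := by
    haveI : Fact (Nat.Prime 3) := ⟨Nat.prime_three⟩
    exact orderOf_eq_prime hy3 hy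
  have hmem : t ∈ Subgroup.centralizer ({y} : Set G) :=
    Subgroup.mem_centralizer_singleton_iff.2 hty
  have hd : orderOf (⟨t, hmem⟩ : Subgroup.centralizer ({y} : Set G)) ∣
      Nat.card (Subgroup.centralizer ({y} : Set G)) := orderOf_dvd_natCard _
  rw [Subgroup.orderOf_mk, ht, Cfsg.Lib.Small.Order168.card_centralizer_three h ho, Nat.card_zpowers, ho] at hd
  exact absurd hd (by decide)

end Cfsg.Agent.S0495
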