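import Cfsg.Statements.S3050
import Cfsg.Agent.HigmanFpf.Natural

set_option autoImplicit false
open Cfsg

namespace Cfsg.Agent.S3050

open Cfsg.Lib.HigmanFpf
open scoped MatrixGroups IsMulCommutative

universe u v

variable {G : Type u} [Group G] [Finite G] {K : Type v} [Field K] [Fintype K] [CharP K 2]

/-- Conjugation on a normal commutative subgroup. -/
def conjAdd (Z : Subgroup G) [Z.Normal] [IsMulCommutative Z] : G →* AddMonoid.End (Additive Z) where
  toFun g := MonoidHom.toAdditive (MulAut.conjNormal g : MulAut Z).toMonoidHom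
  map_one' := AddMonoidHom.ext fun a => by
    show Additive.ofMul ((MulAut.conjNormal (1 : G)) (Additive.toMul a)) = a
    rw [map_one]; rfl
  map_mul' g h := AddMonoidHom.ext fun a => by
    show Additive.ofMul ((MulAut.conjNormal (g * h)) (Additive.toMul a)) = _
    rw [map_mul]; rfl

theorem conjAdd_apply (Z : Subgroup G) [Z.Normal] [IsMulCommutative Z] (g : G) (a : Additive Z) :
    ((Additive.toMul (conjAdd Z g a) : Z) : G) = g * (Additive.toMul a : Z) * g⁻¹ :=
  MulAut.conjNormal_apply g _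

theorem trace_one {n : SL(2, K)} (h3 : orderOf n = 3) : (n : Matrix (Fin 2) (Fin 2) K).trace = 1 := by
  have hne : n ≠ 1 := fun e => by rw [e, orderOf_one] at h3; omega
  have hp : n * n * n = 1 := by rw [← sq, ← pow_succ, show (2 : ℕ) + 1 = orderOf n by omega, pow_orderOf_eq_one]
  have hm : (n : Matrix (Fin 2) (Fin 2) K) * n * n = 1 := congrArg Subtype.val hp
  have hdet := Matrix.SpecialLinearGroup.det_coe n
  rw [Matrix.det_fin_two] at hdet
  rw [Matrix.trace_fin_two]
  set a := (n : Matrix (Fin 2) (Fin 2) K) 0 0 with ha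
  set b := (n : Matrix (Fin 2) (Fin 2) K) 0 1 with hb
  set c := (n : Matrix (Fin 2) (Fin 2) K) 1 0 with hc
  set d := (n : Matrix (Fin 2) (Fin 2) K) 1 1 with hd
  have e00 := congrFun (congrFun hm 0) 0
  have e01 := congrFun (congrFun hm 0) 1
  have e10 := congrFun (congrFun hm 1) 0
  have e11 := congrFun (congrFun hm 1) 1
  simp [Matrix.mul_apply, Fin.sum_univ_two, ← ha, ← hb, ← hc, ← hd] at e00 e01 e10 e11
  rw [CharTwo.sub_eq_add] at hdet
  have h1 : (a + d + 1) * (a + d + 1) * a = a + d + 1 := by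
    linear_combination (norm := ring_nf) e00 + (a + d) * hdet + a * hdet
    simp [CharTwo.two_eq_zero, show (4 : K) = 0 by linear_combination (2 : K) * CharTwo.two_eq_zero (R := K)]
  have h2 : (a + d + 1) * (a + d + 1) * b = 0 := by
    linear_combination (norm := ring_nf) e01 + b * hdet
    simp [CharTwo.two_eq_zero, show (4 : K) = 0 by linear_combination (2 : K) * CharTwo.two_eq_zero (R := K)]
  have h3' : (a + d + 1) * (a + d + 1) * c = 0 := by
    linear_combination (norm := ring_nf) e10 + c * hdet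
    simp [CharTwo.two_eq_zero, show (4 : K) = 0 by linear_combination (2 : K) * CharTwo.two_eq_zero (R := K)]
  have h4 : (a + d + 1) * (a + d + 1) * d = a + d + 1 := by
    linear_combination (norm := ring_nf) e11 + (a + d) * hdet + d * hdet
    simp [CharTwo.two_eq_zero, show (4 : K) = 0 by linear_combination (2 : K) * CharTwo.two_eq_zero (R := K)]
  by_contra hne1
  have ht : a + d + 1 ≠ 0 := fun e => hne1 (CharTwo.add_eq_zero.1 e)
  have hb0 : b = 0 := by simpa [ht] using h2
  have hc0 : c = 0 := by simpa [ht] using h3'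
  have had : a = d := mul_left_cancel₀ (mul_ne_zero ht ht) (h1.trans h4.symm)
  have ha1 : a = 1 := by
    have h5 : (a + d + 1) * a = 1 := mul_left_cancel₀ ht (by rw [← mul_assoc, h1, mul_one])
    rwa [← had, CharTwo.add_self_eq_zero, zero_add, one_mul] at h5
  refine hne (Subtype.ext ?_)
  ext i j
  fin_cases i <;> fin_cases j <;> simp [← ha, ← hb, ← hc, ← hd, hb0, hc0, ← had, ha1]

omit [Fintype K] [CharP K 2] in
theorem orderOf_image {Q : Subgroup G} [Q.Normal] (hQ : IsPGroup 2 Q) (e : G ⧸ Q ≃* SL(2, K)) {x : G}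
    (hx : orderOf x = 3) : orderOf (e (QuotientGroup.mk x)) = 3 := by
  rw [MulEquiv.orderOf_eq]
  have hdvd : orderOf (QuotientGroup.mk x : G ⧸ Q) ∣ 3 := hx ▸ orderOf_map_dvd (QuotientGroup.mk' Q) x
  refine ((Nat.dvd_prime Nat.prime_three).1 hdvd).resolve_left fun h => ?_
  have hxQ : x ∈ Q := (QuotientGroup.eq_one_iff x).1 (orderOf_eq_one_iff.1 h)
  obtain ⟨k, hk⟩ := hQ ⟨x, hxQ⟩
  have h2 : 3 ∣ 2 ^ k := hx ▸ orderOf_dvd_of_pow_eq_one (by simpa using congrArg Subtype.val hk)
  exact absurd (Nat.prime_three.dvd_of_dvd_pow h2) (by decide)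

/-- The matrix ring acts on an elementary abelian normal subgroup centralised by `Q`. -/
theorem exists_action {Q : Subgroup G} [Q.Normal] (hQ : IsPGroup 2 Q) (e : G ⧸ Q ≃* SL(2, K)) {x : G}
    (hx : orderOf x = 3) (Z : Subgroup G) [Z.Normal] [IsMulCommutative Z]
    (hcen : ∀ q ∈ Q, ∀ z ∈ Z, q * z = z * q) (hZ2 : ∀ z ∈ Z, z * z = 1)
    (hfpf : ∀ z ∈ Z, x * z * x⁻¹ = z → z = 1) :
    ∃ Φ : Matrix (Fin 2) (Fin 2) K →+* AddMonoid.End (Additive Z),
      ∀ g : G, Φ (e (QuotientGroup.mk g) : SL(2, K)) = conjAdd Z g := by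
  have hker : Q ≤ (conjAdd Z).ker := fun q hq => AddMonoidHom.ext fun a => Additive.toMul.injective (Subtype.ext
    ((conjAdd_apply Z q a).trans (by rw [hcen q hq _ (Additive.toMul a).2, mul_inv_cancel_right]; rfl)))
  let ρ : SL(2, K) →* AddMonoid.End (Additive Z) := (QuotientGroup.lift Q (conjAdd Z) hker).comp e.symm.toMonoidHom
  have hρ : ∀ g : G, ρ (e (QuotientGroup.mk g)) = conjAdd Z g := fun g => by simp [ρ]
  have h2 : ∀ f : AddMonoid.End (Additive Z), f + f = 0 := fun f => AddMonoidHom.ext fun a =>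
    Additive.toMul.injective (Subtype.ext (hZ2 _ (Additive.toMul (f a)).2))
  set x' := e (QuotientGroup.mk x)
  have hrelx : ρ x' * ρ x' + ρ x' + 1 = 0 := by
    refine AddMonoidHom.ext fun a => ?_
    set X := conjAdd Z x
    have hX3 : X (X (X a)) = a := by
      show (X * X * X) a = a
      rw [← map_mul, ← map_mul, show x * x * x = 1 by
        rw [← sq, ← pow_succ, show (2 : ℕ) + 1 = orderOf x by omega, pow_orderOf_eq_one], map_one]
      rfl
    rw [hρ x]
    show X (X a) + X a + a = 0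
    have hfix : X (X (X a) + X a + a) = X (X a) + X a + a := by
      rw [map_add, map_add, hX3]; abel
    exact Additive.toMul.injective (Subtype.ext (hfpf _ (Additive.toMul (X (X a) + X a + a) : Z).2
      ((conjAdd_apply Z x _).symm.trans (congrArg (fun w : Additive Z => ((Additive.toMul w : Z) : G)) hfix))))
  have hrel : ∀ g : SL(2, K), (g : Matrix (Fin 2) (Fin 2) K).trace = 1 → ρ g * ρ g + ρ g + 1 = 0 := by
    intro g hg
    obtain ⟨c, hc⟩ := isConj_iff.1 (isConj_trace_one (trace_one (orderOf_image hQ e hx)) hg)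
    rw [← hc]
    simp only [map_mul]
    have hi : ρ c⁻¹ * ρ c = 1 := by rw [← map_mul, inv_mul_cancel, map_one]
    have hi' : ρ c * ρ c⁻¹ = 1 := by rw [← map_mul, mul_inv_cancel, map_one]
    calc ρ c * ρ x' * ρ c⁻¹ * (ρ c * ρ x' * ρ c⁻¹) + ρ c * ρ x' * ρ c⁻¹ + 1
        = ρ c * ρ x' * (ρ c⁻¹ * ρ c) * ρ x' * ρ c⁻¹ + ρ c * ρ x' * ρ c⁻¹ + ρ c * ρ c⁻¹ := by rw [hi']; noncomm_ring
      _ = ρ c * (ρ x' * ρ x' + ρ x' + 1) * ρ c⁻¹ := by rw [hi]; noncomm_ring
      _ = 0 := by rw [hrelx]; simp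
  obtain ⟨Φ, hΦ⟩ := exists_matrix_hom h2 ρ hrel
  exact ⟨Φ, fun g => (hΦ _).trans (hρ g)⟩

/-- The kernel is elementary abelian. -/
theorem elementary (hK : 2 < Nat.card K) : ∀ (m : ℕ) (G : Type u) [Group G] [Finite G] (Q : Subgroup G) [Q.Normal],
    Nat.card Q ≤ m → IsPGroup 2 Q → ∀ (_ : G ⧸ Q ≃* SL(2, K)) (x : G), orderOf x = 3 →
    (∀ q ∈ Q, x * q * x⁻¹ = q → q = 1) → (∀ a ∈ Q, ∀ b ∈ Q, a * b = b * a) ∧ ∀ a ∈ Q, a * a = 1 := by
  intro m
  induction m with
  | zero => intro G _ _ Q _ h; exact absurd h (by have := Nat.card_pos (α := Q); omega)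
  | succ m ih =>
    intro G _ _ Q _ hcard hQ e x hx hfpf
    by_cases hQ1 : Q = ⊥
    · subst hQ1
      exact ⟨fun a ha b hb => by rw [Subgroup.mem_bot] at ha hb; subst ha hb; rfl,
        fun a ha => by rw [Subgroup.mem_bot] at ha; subst ha; simp⟩
    -- the involutions of the centre
    let Z : Subgroup G :=
      { carrier := {z | z ∈ Q ∧ (∀ q ∈ Q, q * z = z * q) ∧ z * z = 1}
        one_mem' := ⟨one_mem _, fun q _ => by simp, by simp⟩
        mul_mem' := fun {a b} ⟨ha, hac, ha2⟩ ⟨hb, hbc, hb2⟩ => ⟨mul_mem ha hb,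
          fun q hq => by rw [← mul_assoc, hac q hq, mul_assoc, hbc q hq, mul_assoc],
          by rw [show a * b * (a * b) = a * (b * a) * b by group, ← hbc a ha,
            show a * (a * b) * b = a * a * (b * b) by group, ha2, hb2, one_mul]⟩
        inv_mem' := fun {a} h => by rwa [inv_eq_of_mul_eq_one_left h.2.2] }
    haveI : Z.Normal := ⟨fun z ⟨hz, hzc, hz2⟩ g => ⟨(inferInstance : Q.Normal).conj_mem z hz g, fun q hq => by
        have h := hzc (g⁻¹ * q * g) (by simpa using (inferInstance : Q.Normal).conj_mem q hq g⁻¹)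
        calc q * (g * z * g⁻¹) = g * (g⁻¹ * q * g * z) * g⁻¹ := by group
          _ = g * z * g⁻¹ * q := by rw [h]; group,
        by rw [show g * z * g⁻¹ * (g * z * g⁻¹) = g * (z * z) * g⁻¹ by group, hz2]; simp⟩⟩
    haveI : IsMulCommutative Z := ⟨⟨fun a b => Subtype.ext (b.2.2.1 _ a.2.1)⟩⟩
    have hZQ : Z ≤ Q := fun z hz => hz.1
    have hZ1 : Z ≠ ⊥ := by
      haveI : Nontrivial Q := Q.nontrivial_iff_ne_bot.2 hQ1
      obtain ⟨c, hc⟩ := exists_prime_orderOf_dvd_card' (G := Subgroup.center Q) 2 (by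
        obtain ⟨k, hk⟩ := (hQ.to_subgroup (Subgroup.center Q)).exists_card_eq
        haveI := hQ.center_nontrivial
        have h1 : 1 < Nat.card (Subgroup.center Q) := Finite.one_lt_card
        rw [hk] at h1 ⊢
        exact dvd_pow_self 2 (fun h => by rw [h] at h1; simp at h1))
      intro hbot
      have hcZ : ((c : Q) : G) ∈ Z := ⟨(c : Q).2, fun q hq => congrArg Subtype.val (Subgroup.mem_center_iff.1 c.2 ⟨q, hq⟩),
        by
          have h1 := congrArg (fun w : Subgroup.center Q => ((w : Q) : G)) (pow_orderOf_eq_one c)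
          simpa [hc, sq] using h1⟩
      rw [hbot, Subgroup.mem_bot] at hcZ
      have : c = 1 := Subtype.ext (Subtype.ext hcZ)
      rw [this, orderOf_one] at hc
      omega
    have hfZ : ∀ z ∈ Z, x * z * x⁻¹ = z → z = 1 := fun z hz h => hfpf z hz.1 h
    obtain ⟨Ψ, hΨ⟩ := exists_action hQ e hx Z (fun q hq z hz => hz.2.1 q hq) (fun z hz => hz.2.2) hfZ
    -- the quotient
    set π := QuotientGroup.mk' Z with hπ
    set Qb := Q.map π with hQb
    haveI : Qb.Normal := Subgroup.Normal.map inferInstance _ (QuotientGroup.mk'_surjective Z)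
    have hcb : Nat.card Qb ≤ m := by
      have e1 : Nat.card Qb = (Z.subgroupOf Q).index := by
        have hr : (π.comp Q.subtype).range = Qb := by rw [MonoidHom.range_comp, Subgroup.range_subtype]
        rw [← hr, ← Subgroup.index_ker]
        congr 1
        rw [← MonoidHom.comap_ker, hπ, QuotientGroup.ker_mk']
        rfl
      have e2 := (Z.subgroupOf Q).card_mul_index
      rw [← e1, Nat.card_congr (Subgroup.subgroupOfEquivOfLe hZQ).toEquiv] at e2
      have e3 : 2 ≤ Nat.card Z := (Subgroup.one_lt_card_iff_ne_bot Z).2 hZ1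
      nlinarith [Nat.card_pos (α := Qb)]
    let eb : (G ⧸ Z) ⧸ Qb ≃* SL(2, K) := (QuotientGroup.quotientQuotientEquivQuotient Z Q hZQ).trans e
    have heb : ∀ g : G, eb (QuotientGroup.mk (π g)) = e (QuotientGroup.mk g) := fun g => rfl
    have hfb : ∀ q ∈ Qb, π x * q * (π x)⁻¹ = q → q = 1 := by
      rintro _ ⟨q, hq, rfl⟩ h
      rw [← map_inv, ← map_mul, ← map_mul, eq_comm, hπ] at h
      have hd : q⁻¹ * (x * q * x⁻¹) ∈ Z := QuotientGroup.eq.1 h
      let f : Z → Z := fun z => z⁻¹ * ⟨x * z * x⁻¹, (inferInstance : Z.Normal).conj_mem z z.2 x⟩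
      have hinj : Function.Injective f := fun z w hzw => by
        have h' : (z : G)⁻¹ * (x * z * x⁻¹) = (w : G)⁻¹ * (x * w * x⁻¹) := congrArg Subtype.val hzw
        refine Subtype.ext (mul_inv_eq_one.1 (hfZ _ (mul_mem z.2 (inv_mem w.2)) ?_))
        have hc : ∀ a b : Z, (a : G) * b = b * a := fun a b => congrArg Subtype.val (mul_comm' a b)
        calc x * ((z : G) * (w : G)⁻¹) * x⁻¹ = (x * z * x⁻¹) * (x * w * x⁻¹)⁻¹ := by group
          _ = (z : G) * ((w : G)⁻¹ * (x * w * x⁻¹)) * (x * w * x⁻¹)⁻¹ := by rw [← h']; group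
          _ = (z : G) * (w : G)⁻¹ := by group
      obtain ⟨z, hz⟩ := Finite.surjective_of_injective hinj ⟨_, inv_mem hd⟩
      have hz' : (z : G)⁻¹ * (x * z * x⁻¹) = (q⁻¹ * (x * q * x⁻¹))⁻¹ := congrArg Subtype.val hz
      have hqz : q * z = 1 := hfpf _ (mul_mem hq (hZQ z.2)) (by
        calc x * (q * z) * x⁻¹ = q * (q⁻¹ * (x * q * x⁻¹)) * ((z : G) * ((z : G)⁻¹ * (x * z * x⁻¹))) := by group
          _ = q * ((q⁻¹ * (x * q * x⁻¹)) * (z : G)) * ((z : G)⁻¹ * (x * z * x⁻¹)) := by group
          _ = q * ((z : G) * (q⁻¹ * (x * q * x⁻¹))) * (q⁻¹ * (x * q * x⁻¹))⁻¹ := by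
            have hdz : q⁻¹ * (x * q * x⁻¹) * (z : G) = z * (q⁻¹ * (x * q * x⁻¹)) :=
              congrArg Subtype.val (mul_comm' (⟨_, hd⟩ : Z) z)
            rw [hz', hdz]
          _ = q * z := by group)
      rw [hπ, QuotientGroup.mk'_apply, QuotientGroup.eq_one_iff, eq_inv_of_mul_eq_one_left hqz]
      exact inv_mem z.2
    have hxb : orderOf (π x) = 3 := by
      refine ((Nat.dvd_prime Nat.prime_three).1 (hx ▸ orderOf_map_dvd π x)).resolve_left fun h => ?_
      have hxZ : x ∈ Z := (QuotientGroup.eq_one_iff x).1 (orderOf_eq_one_iff.1 h)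
      have := orderOf_image hQ e hx
      rw [(QuotientGroup.eq_one_iff x).2 (hZQ hxZ), map_one, orderOf_one] at this
      omega
    obtain ⟨hbc, hb2⟩ := ih (G ⧸ Z) Qb hcb (hQ.map π) eb (π x) hxb hfb
    haveI : IsMulCommutative Qb := ⟨⟨fun a b => Subtype.ext (hbc _ a.2 _ b.2)⟩⟩
    obtain ⟨Φ, hΦ⟩ := exists_action (hQ.map π) eb hxb Qb hbc hb2 hfb
    let p : Q → Additive Qb := fun a => Additive.ofMul ⟨π a, Subgroup.mem_map_of_mem π a.2⟩
    have hp : Function.Surjective p := fun w => by
      obtain ⟨a, ha, hwa⟩ := (Additive.toMul w).2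
      exact ⟨⟨a, ha⟩, Additive.toMul.injective (Subtype.ext hwa)⟩
    have hpmul : ∀ a b : Q, p (a * b) = p a + p b := fun a b => Additive.toMul.injective (Subtype.ext (map_mul π _ _))
    have hpker : ∀ {a b : Q}, p a = p b → ∃ z ∈ Z, (b : G) = a * z := fun {a b} h => by
      refine ⟨(a : G)⁻¹ * b, QuotientGroup.eq.1 (congrArg Subtype.val (congrArg Additive.toMul h)), ?_⟩
      group
    have hpact : ∀ (g : G) (a : Q), Φ (e (QuotientGroup.mk g) : SL(2, K)) (p a) =
        p ⟨g * a * g⁻¹, (inferInstance : Q.Normal).conj_mem a a.2 g⟩ := fun g a => by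
      refine Additive.toMul.injective (Subtype.ext ?_)
      rw [← heb, hΦ, conjAdd_apply]
      show π g * π a * (π g)⁻¹ = π (g * a * g⁻¹)
      rw [map_mul, map_mul, map_inv]
    -- commutators
    open scoped commutatorElement in
    have hcomm : ∀ a b : Q, ⁅(a : G), (b : G)⁆ ∈ Z := fun a b => by
      rw [← QuotientGroup.eq_one_iff]
      show π ⁅(a : G), (b : G)⁆ = 1
      rw [map_commutatorElement, commutatorElement_eq_one_iff_commute]
      exact hbc _ (Subgroup.mem_map_of_mem π a.2) _ (Subgroup.mem_map_of_mem π b.2)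
    open scoped commutatorElement in
    have hβ : ∀ a b : Q, ⁅(a : G), (b : G)⁆ = 1 := by
      let c0 : Q → Q → Additive Z := fun a b => Additive.ofMul ⟨_, hcomm a b⟩
      have hwd : ∀ a a' b b', p a = p a' → p b = p b' → c0 a b = c0 a' b' := fun a a' b b' h h' => by
        obtain ⟨z, hz, hza⟩ := hpker h
        obtain ⟨w, hw, hwb⟩ := hpker h'
        refine Additive.toMul.injective (Subtype.ext ?_)
        show ⁅(a : G), (b : G)⁆ = ⁅(a' : G), (b' : G)⁆
        rw [hza, hwb, commutatorElement_def, commutatorElement_def]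
        have hz1 := hz.2.1
        have hw1 := hw.2.1
        symm
        calc (a : G) * z * ((b : G) * w) * ((a : G) * z)⁻¹ * ((b : G) * w)⁻¹
            = a * (z * b * w * z⁻¹) * (a : G)⁻¹ * ((w⁻¹) * (b : G)⁻¹) := by group
          _ = a * (b * (z * w) * z⁻¹) * (a : G)⁻¹ * ((w⁻¹) * (b : G)⁻¹) := by rw [← hz1 _ b.2]; group
          _ = a * b * (w * (a : G)⁻¹) * ((w⁻¹) * (b : G)⁻¹) := by rw [← hz1 w hw.1]; group
          _ = a * b * (a : G)⁻¹ * (b : G)⁻¹ := by rw [← hw1 _ (inv_mem a.2)]; group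
      choose lift hlift using fun v => hp v
      let β : Additive Qb → Additive Qb → Additive Z := fun v w => c0 (lift v) (lift w)
      have hβp : ∀ a b, β (p a) (p b) = c0 a b := fun a b => hwd _ _ _ _ (hlift _) (hlift _)
      have hzero := pairing_eq_zero Φ Ψ hK (fun w => Additive.toMul.injective (Subtype.ext (Additive.toMul w).2.2.2)) β
        (fun v w u => by
          obtain ⟨a, rfl⟩ := hp v
          obtain ⟨b, rfl⟩ := hp w
          obtain ⟨c, rfl⟩ := hp u
          rw [← hpmul, hβp, hβp, hβp]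
          refine Additive.toMul.injective (Subtype.ext ?_)
          show ⁅(a : G), (b : G) * c⁆ = ⁅(a : G), (b : G)⁆ * ⁅(a : G), (c : G)⁆
          have h := (hcomm a c).2.1 b b.2
          calc ⁅(a : G), (b : G) * c⁆ = ⁅(a : G), (b : G)⁆ * ((b : G) * ⁅(a : G), (c : G)⁆ * (b : G)⁻¹) := by
                rw [commutatorElement_def, commutatorElement_def, commutatorElement_def]; group
            _ = _ := by rw [h, mul_inv_cancel_right])
        (fun v w => by
          obtain ⟨a, rfl⟩ := hp v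
          obtain ⟨b, rfl⟩ := hp w
          rw [hβp, hβp]
          refine Additive.toMul.injective (Subtype.ext ?_)
          show ⁅(a : G), (b : G)⁆ = ⁅(b : G), (a : G)⁆
          rw [← commutatorElement_inv]
          exact inv_eq_of_mul_eq_one_left (hcomm b a).2.2)
        (fun s v w => by
          obtain ⟨g, hg⟩ := e.surjective s
          obtain ⟨g, rfl⟩ := QuotientGroup.mk_surjective g
          subst hg
          obtain ⟨a, rfl⟩ := hp v
          obtain ⟨b, rfl⟩ := hp w
          rw [hpact, hpact, hβp, hβp, hΨ]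
          refine Additive.toMul.injective (Subtype.ext ?_)
          rw [conjAdd_apply]
          show ⁅g * (a : G) * g⁻¹, g * (b : G) * g⁻¹⁆ = g * ⁅(a : G), (b : G)⁆ * g⁻¹
          simp only [commutatorElement_def]; group)
      intro a b
      have h := hzero (p a) (p b)
      rw [hβp] at h
      exact congrArg Subtype.val (congrArg Additive.toMul h)
    open scoped commutatorElement in
    have hQc : ∀ a ∈ Q, ∀ b ∈ Q, a * b = b * a := fun a ha b hb =>
      (commutatorElement_eq_one_iff_commute.1 (hβ ⟨a, ha⟩ ⟨b, hb⟩)).eq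
    refine ⟨hQc, fun a ha => ?_⟩
    haveI : IsMulCommutative Q := ⟨⟨fun a b => Subtype.ext (hQc _ a.2 _ b.2)⟩⟩
    have hker : Q ≤ (conjAdd Q).ker := fun q hq => AddMonoidHom.ext fun w => Additive.toMul.injective (Subtype.ext
      ((conjAdd_apply Q q w).trans (by rw [hQc q hq _ (Additive.toMul w).2, mul_inv_cancel_right]; rfl)))
    let ρ : SL(2, K) →* AddMonoid.End (Additive Q) := (QuotientGroup.lift Q (conjAdd Q) hker).comp e.symm.toMonoidHom
    have hρ : ∀ g : G, ρ (e (QuotientGroup.mk g)) = conjAdd Q g := fun g => by simp [ρ]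
    let πQ : Additive Q →+ Additive Qb :=
      { toFun := fun w => p (Additive.toMul w)
        map_zero' := Additive.toMul.injective (Subtype.ext (map_one π))
        map_add' := fun v w => hpmul (Additive.toMul v) (Additive.toMul w) }
    let ι : Additive Z →+ Additive Q := MonoidHom.toAdditive (Subgroup.inclusion hZQ)
    have hsq : ∀ a : Q, (a : G) * a ∈ Z := fun a => by
      rw [← QuotientGroup.eq_one_iff]
      exact hb2 _ (Subgroup.mem_map_of_mem π a.2)
    choose lift hlift using fun v => hp v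
    have hwd : ∀ a b : Q, p a = p b → (a : G) * a = (b : G) * b := fun a b h => by
      obtain ⟨z, hz, hzb⟩ := hpker h
      rw [hzb, show (a : G) * z * (a * z) = a * (z * a) * z by group, ← hz.2.1 _ a.2,
        show (a : G) * (a * z) * z = a * a * (z * z) by group, hz.2.2, mul_one]
    let q : Additive Qb →+ Additive Z :=
      AddMonoidHom.mk' (fun v => Additive.ofMul ⟨_, hsq (lift v)⟩) fun v w => Additive.toMul.injective (Subtype.ext (by
        show (lift (v + w) : G) * lift (v + w) = (lift v : G) * lift v * ((lift w : G) * lift w)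
        rw [hwd (lift (v + w)) (lift v * lift w) (by rw [hlift, hpmul, hlift, hlift])]
        show (lift v : G) * lift w * ((lift v : G) * lift w) = _
        calc _ = (lift v : G) * ((lift w : G) * lift v) * lift w := by group
          _ = _ := by rw [hQc _ (lift w).2 _ (lift v).2]; group))
    have hmain := square_eq_zero Φ Ψ hK (fun w => Additive.toMul.injective (Subtype.ext (Additive.toMul w).2.2.2))
      (fun v => Additive.toMul.injective (Subtype.ext (hb2 _ (Additive.toMul v).2)))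
      πQ (fun v => ⟨Additive.ofMul (lift v), hlift v⟩) ι
      (fun v w h => Additive.toMul.injective (Subgroup.inclusion_injective hZQ (congrArg Additive.toMul h)))
      (fun w h => ⟨Additive.ofMul ⟨((Additive.toMul w : Q) : G),
        (QuotientGroup.eq_one_iff _).1 (congrArg Subtype.val (congrArg Additive.toMul h))⟩, rfl⟩)
      ρ
      (fun s w => by
        obtain ⟨g, hg⟩ := e.surjective s
        obtain ⟨g, rfl⟩ := QuotientGroup.mk_surjective g
        subst hg
        show p _ = Φ _ (p _)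
        rw [hpact, hρ]
        congr 1)
      (fun s w => by
        obtain ⟨g, hg⟩ := e.surjective s
        obtain ⟨g, rfl⟩ := QuotientGroup.mk_surjective g
        subst hg
        rw [hρ, hΨ]
        refine Additive.toMul.injective (Subtype.ext ?_)
        rw [conjAdd_apply]
        exact (conjAdd_apply Z g w).symm)
      q
      (fun w => Additive.toMul.injective (Subtype.ext (hwd _ _ (hlift (p (Additive.toMul w))).symm)))
    exact congrArg Subtype.val (congrArg Additive.toMul (hmain (Additive.ofMul ⟨a, ha⟩)))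

/-- Let G be a finite group with a normal 2-subgroup Q such that G/Q is isomorphic to SL(2, 2ⁿ) with n ≥ 2, and suppose some element of G of order 3 fixes no nonidentity element of Q under conjugation. Then Q is elementary abelian and is the direct product of normal subgroups of G on each of which G acts as SL(2, 2ⁿ) acts on its natural two-dimensional module (a Galois twist of the natural action allowed). -/
theorem result {G : Type*} [Group G] [Finite G]
    (Q : Subgroup G) [Q.Normal] (hQ : IsPGroup 2 ↥Q) (n : ℕ) (hn : 2 ≤ n)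
    (K : Type*) [Field K] [Fintype K] (hK : Fintype.card K = 2 ^ n)
    (e : G ⧸ Q ≃* Matrix.SpecialLinearGroup (Fin 2) K)
    (x : G) (hx : orderOf x = 3) (hfpf : ∀ q ∈ Q, x * q * x⁻¹ = q → q = 1) :
    Cfsg.IsElementaryAbelian 2 Q ∧
      ∃ (k : ℕ) (V : Fin k → Subgroup G), (∀ i, V i ≤ Q ∧ (V i).Normal ∧
        Cfsg.ActsAsSL2OnSection K ⊤ ⊤ (V i) ⊥) ∧ iSupIndep V ∧ ⨆ i, V i = Q := by
  classical
  haveI : CharP K 2 := by
    haveI : Fact (Nat.Prime 2) := ⟨Nat.prime_two⟩
    exact charP_of_card_eq_prime_pow hK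
  have hK2 : 2 < Nat.card K := by
    rw [Nat.card_eq_fintype_card, hK]
    calc 2 = 2 ^ 1 := rfl
      _ < 2 ^ n := Nat.pow_lt_pow_right (by norm_num) (by omega)
  obtain ⟨hc, h2⟩ := elementary hK2 (Nat.card Q) G Q le_rfl hQ e x hx hfpf
  haveI : IsMulCommutative Q := ⟨⟨fun a b => Subtype.ext (hc _ a.2 _ b.2)⟩⟩
  refine ⟨⟨inferInstance, fun y hy => by rw [sq]; exact h2 y hy⟩, ?_⟩
  obtain ⟨Φ, hΦ⟩ := exists_action hQ e hx Q (fun q hq z hz => hc q hq z hz) h2 hfpf
  obtain ⟨k, ψ, hψ⟩ := exists_decomp Φ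
  let f : Fin k → (Multiplicative (Fin 2 → K) →* G) := fun i =>
    Q.subtype.comp (AddMonoidHom.toMultiplicativeLeft ((ψ.toAddMonoidHom).comp (AddMonoidHom.single (fun _ : Fin k => Fin 2 → K) i)))
  have hf : ∀ i v, f i v = ((Additive.toMul (ψ (Pi.single i (Multiplicative.toAdd v))) : Q) : G) := fun i v => rfl
  have hfi : ∀ i, Function.Injective (f i) := fun i v w h => by
    rw [hf, hf] at h
    exact Multiplicative.toAdd.injective (Pi.single_injective i (ψ.injective (Additive.toMul.injective (Subtype.ext h))))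
  have hconj : ∀ g i v, g * f i v * g⁻¹ =
      f i (Multiplicative.ofAdd ((e (QuotientGroup.mk g) : Matrix.SpecialLinearGroup (Fin 2) K).1.mulVec (Multiplicative.toAdd v))) := by
    intro g i v
    rw [hf, hf, ← conjAdd_apply, ← hΦ, ← hψ]
    congr 3
    funext j
    by_cases h : j = i
    · subst h; simp
    · simp [h]
  refine ⟨k, fun i => (f i).range, fun i => ⟨?_, ?_, ?_⟩, ?_, ?_⟩
  · rintro _ ⟨v, rfl⟩
    rw [hf]
    exact SetLike.coe_mem _
  · exact ⟨fun _ ⟨v, hv⟩ g => hv ▸ ⟨_, (hconj g i v).symm⟩⟩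
  · refine ⟨fun g _ => Subgroup.mem_normalizer_iff.2 fun y => ⟨fun ⟨v, hv⟩ => hv ▸ ⟨_, (hconj g i v).symm⟩, fun ⟨v, hv⟩ => ?_⟩,
      bot_le, e.toMonoidHom.comp ((QuotientGroup.mk' Q).comp (⊤ : Subgroup G).subtype),
      (MonoidHom.ofInjective (hfi i)).symm.toMonoidHom, ?_, (MonoidHom.ofInjective (hfi i)).symm.surjective, ?_, ?_⟩
    · exact ⟨_, ((hconj g⁻¹ i v).symm.trans (by rw [hv]; group) : f i _ = y)⟩
    · exact MonoidHom.range_eq_top.2 fun s => by
        obtain ⟨g, hg⟩ := e.surjective s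
        obtain ⟨g, rfl⟩ := QuotientGroup.mk_surjective g
        exact ⟨⟨g, trivial⟩, hg⟩
    · intro u
      rw [Subgroup.mem_bot, MulEquiv.coe_toMonoidHom, MulEquiv.map_eq_one_iff]
      exact Subtype.ext_iff
    · intro g u
      obtain ⟨v, hv⟩ := u.2
      refine ⟨MonoidHom.ofInjective (hfi i) (Multiplicative.ofAdd ((e (QuotientGroup.mk (g : G)) :
        Matrix.SpecialLinearGroup (Fin 2) K).1.mulVec (Multiplicative.toAdd v))), ?_, ?_⟩
      · rw [← hv]; exact (hconj g i v).symm
      have e1 : u = MonoidHom.ofInjective (hfi i) v := Subtype.ext hv.symm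
      rw [e1]
      simp only [MulEquiv.coe_toMonoidHom, MulEquiv.symm_apply_apply]
      rfl
  · rw [iSupIndep_def]
    intro i
    rw [disjoint_iff_inf_le]
    rintro y ⟨⟨v, rfl⟩, hy⟩
    let W : Subgroup G :=
      { carrier := {y | ∃ F : Fin k → Fin 2 → K, F i = 0 ∧ ((Additive.toMul (ψ F) : Q) : G) = y}
        one_mem' := ⟨0, rfl, by rw [map_zero]; rfl⟩
        mul_mem' := fun ⟨F, hF, h1⟩ ⟨F', hF', h1'⟩ => ⟨F + F', by rw [Pi.add_apply, hF, hF', add_zero], by rw [map_add, ← h1, ← h1']; rfl⟩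
        inv_mem' := fun ⟨F, hF, h1⟩ => ⟨-F, by rw [Pi.neg_apply, hF, neg_zero], by rw [map_neg, ← h1]; rfl⟩ }
    have hle : (⨆ (j) (_ : j ≠ i), (f j).range) ≤ W := iSup₂_le fun j hj => by
      rintro _ ⟨w, rfl⟩
      exact ⟨Pi.single j (Multiplicative.toAdd w), Pi.single_eq_of_ne (Ne.symm hj) _, (hf j w).symm⟩
    obtain ⟨F, hF, hF'⟩ := hle hy
    rw [hf] at hF'
    rw [ψ.injective (Additive.toMul.injective (Subtype.ext hF'))] at hF
    rw [Pi.single_eq_same] at hF
    rw [Subgroup.mem_bot, show v = 1 from hF, map_one]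
  · refine le_antisymm (iSup_le fun i => by rintro _ ⟨v, rfl⟩; rw [hf]; exact SetLike.coe_mem _) fun y hy => ?_
    obtain ⟨F, hF⟩ := ψ.surjective (Additive.ofMul ⟨y, hy⟩)
    have key : ∀ s : Finset (Fin k), ((Additive.toMul (ψ (∑ i ∈ s, Pi.single i (F i))) : Q) : G) ∈ ⨆ i, (f i).range := by
      intro s
      induction s using Finset.induction_on with
      | empty => rw [Finset.sum_empty, map_zero]; exact one_mem _
      | insert i s his ih =>
        rw [Finset.sum_insert his, map_add]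
        exact mul_mem (Subgroup.mem_iSup_of_mem i ⟨Multiplicative.ofAdd (F i), hf i _⟩) ih
    have := key Finset.univ
    rwa [Finset.univ_sum_single, hF] at this

end Cfsg.Agent.S3050
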