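import Cfsg.Statements.S3331
import Cfsg.Agent.SelfCentThree.Arith
import Cfsg.Agent.S0494
import Cfsg.Agent.S0495
import Cfsg.Agent.S3050
import Cfsg.Agent.Classical.Misc.SmallPSL
-- import your own Cfsg.Agent.* helpers here

set_option autoImplicit false
open Cfsg

namespace Cfsg.Agent.S3331

/-- Let G be a finite group containing a subgroup X of order 3 with C_G(X) = X. Then one of the following holds: G has a nilpotent normal subgroup N of order prime to 3 with G/N of order 3 or isomorphic to Sym(3); or G has an elementary abelian normal 2-subgroup N with G/N isomorphic to the alternating group of degree 5; or G is isomorphic to PSL(2,7). -/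
theorem result {G : Type*} [Group G] [Finite G]
    (X : Subgroup G) (hX : Nat.card X = 3) (hC : Subgroup.centralizer (X : Set G) = X) :
    (∃ (N : Subgroup G) (hN : N.Normal), Group.IsNilpotent N ∧ (Nat.card N).Coprime 3 ∧
        (Nat.card (G ⧸ N) = 3 ∨ Nonempty (G ⧸ N ≃* Equiv.Perm (Fin 3)))) ∨
    (∃ (N : Subgroup G) (hN : N.Normal), IsMulCommutative N ∧ (∀ n ∈ N, n ^ 2 = 1) ∧
        Nonempty (G ⧸ N ≃* alternatingGroup (Fin 5))) ∨
    Nonempty (G ≃* Matrix.ProjectiveSpecialLinearGroup (Fin 2) (ZMod 7)) := by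
  classical
  have : Fact (Nat.Prime 3) := ⟨Nat.prime_three⟩
  have : Fact (Nat.Prime 2) := ⟨Nat.prime_two⟩
  have hcyc : IsCyclic X := isCyclic_of_prime_card hX
  obtain ⟨g, hg⟩ := IsCyclic.exists_generator (α := X)
  have hgX : Subgroup.zpowers (g : G) = X := by
    refine le_antisymm (Subgroup.zpowers_le.2 g.2) fun a ha => ?_
    obtain ⟨k, hk⟩ := Subgroup.mem_zpowers_iff.1 (hg ⟨a, ha⟩)
    exact Subgroup.mem_zpowers_iff.2 ⟨k, congrArg Subtype.val hk⟩
  have h : Cfsg.Lib.SelfCentThree.Hyp (g : G) := by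
    refine ⟨by rw [← Nat.card_zpowers, hgX, hX], fun a ha => ?_⟩
    rw [hgX, ← hC]
    refine Subgroup.mem_centralizer_iff.2 fun w hw => ?_
    obtain ⟨k, rfl⟩ := Subgroup.mem_zpowers_iff.1 (hgX.symm ▸ hw : w ∈ Subgroup.zpowers (g : G))
    exact ((ha.zpow_right k).eq).symm
  obtain ⟨K, hKn, hK, hi⟩ := Cfsg.Lib.SelfCentThree.concl h
  have hnil : Group.IsNilpotent K :=
    Cfsg.Lib.SelfCentThree.isNilpotent h hK Cfsg.Lib.SelfCentThree.inv_of_normal
  have hcop : (Nat.card K).Coprime 3 :=
    Nat.Coprime.symm (Nat.prime_three.coprime_iff_not_dvd.2 hK)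
  have hy : Cfsg.Lib.SelfCentThree.Hyp (QuotientGroup.mk' K (g : G)) := h.quot hK
  rcases hi with e | e | ⟨he, h2, hb, hm⟩
  · exact Or.inl ⟨K, hKn, hnil, hcop, Or.inl (by rw [← Subgroup.index_eq_card, e])⟩
  · refine Or.inl ⟨K, hKn, hnil, hcop, Or.inr ?_⟩
    have h6 : Nat.card (G ⧸ K) = 6 := by rw [← Subgroup.index_eq_card, e]
    obtain ⟨s, hs⟩ := exists_prime_orderOf_dvd_card' 2 (G := G ⧸ K) (by rw [h6]; norm_num)
    have hsi : Nat.card ((G ⧸ K) ⧸ Subgroup.zpowers s) = 3 := by
      have h1 := (Subgroup.zpowers s).index_mul_card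
      rw [Nat.card_zpowers, hs, h6] at h1
      rw [← Subgroup.index_eq_card]
      omega
    refine Cfsg.Lib.Classical.SmallPSL.perm_iso hsi
      (MulAction.toPermHom (G ⧸ K) ((G ⧸ K) ⧸ Subgroup.zpowers s)) ?_ (by rw [h6]; rfl)
    rw [← MonoidHom.ker_eq_bot_iff, ← Subgroup.normalCore_eq_ker]
    by_contra hne
    have hle := (Subgroup.zpowers s).normalCore_le
    have heq : (Subgroup.zpowers s).normalCore = Subgroup.zpowers s := by
      refine Subgroup.eq_of_le_of_card_ge hle ?_
      have h1 := Subgroup.one_lt_card_iff_ne_bot _ |>.2 hne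
      rw [Nat.card_zpowers, hs]
      omega
    have hn : (Subgroup.zpowers s).Normal := heq ▸ Subgroup.normalCore_normal _
    have hcomm : Commute s (QuotientGroup.mk' K (g : G)) := by
      set y := QuotientGroup.mk' K (g : G)
      have hmem := hn.conj_mem s (Subgroup.mem_zpowers s) y
      obtain ⟨k, hk⟩ := Subgroup.mem_zpowers_iff.1 hmem
      rw [← zpow_mod_orderOf, hs] at hk
      rcases (by omega : k % ((2 : ℕ) : ℤ) = 0 ∨ k % ((2 : ℕ) : ℤ) = 1) with e' | e' <;> rw [e'] at hk
      · rw [zpow_zero, eq_comm, conj_eq_one_iff] at hk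
        rw [hk]; exact Commute.one_left _
      · rw [zpow_one, eq_comm, mul_inv_eq_iff_eq_mul] at hk
        exact hk.symm
    have hd := orderOf_dvd_of_mem_zpowers (hy.cent s hcomm)
    rw [hs, hy.ord] at hd
    norm_num at hd
  · have hq : IsSimpleGroup (G ⧸ K) :=
      Cfsg.Lib.SelfCentThree.isSimpleGroup_quot (by omega) hm
    rcases he with e | e
    · refine Or.inr (Or.inl ⟨K, hKn, ?_⟩)
      obtain ⟨ea⟩ := Cfsg.Agent.S0494.result (G := G ⧸ K) (by rw [← Subgroup.index_eq_card, e])
      let F := GaloisField 2 2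
      have : Finite F := inferInstance
      let _ : Fintype F := Fintype.ofFinite F
      have hF : Fintype.card F = 4 := by
        rw [← Nat.card_eq_fintype_card, GaloisField.card 2 2 (by norm_num)]
        norm_num
      obtain ⟨e4⟩ := Cfsg.Lib.Classical.SmallPSL.psl_four hF
      have hSL : Nat.card (Matrix.SpecialLinearGroup (Fin 2) F) =
          Nat.card (Matrix.ProjectiveSpecialLinearGroup (Fin 2) F) := by
        rw [Cfsg.Lib.Classical.SLTwoTori.card_SL2, hF]
        have := Cfsg.Lib.Classical.SmallPSL.card_psl hF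
        norm_num at this ⊢
        omega
      let π : Matrix.SpecialLinearGroup (Fin 2) F →* Matrix.ProjectiveSpecialLinearGroup (Fin 2) F :=
        QuotientGroup.mk' _
      have hπ : Function.Bijective π := (Nat.bijective_iff_surjective_and_card π).2
        ⟨QuotientGroup.mk'_surjective _, hSL⟩
      obtain ⟨⟨hcomm, hexp⟩, -⟩ := Cfsg.Agent.S3050.result K h2 2 le_rfl F (by rw [hF]; norm_num)
        (ea.trans (e4.symm.trans (MulEquiv.ofBijective π hπ).symm)) (g : G) h.ord
        fun q hq hgq => Cfsg.Lib.SelfCentThree.fixed_eq_one h hK hq (mul_inv_eq_iff_eq_mul.1 hgq).symm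
      exact ⟨hcomm, hexp, ⟨ea⟩⟩
    · refine Or.inr (Or.inr ?_)
      obtain rfl : K = ⊥ := hb e
      have hs : IsSimpleGroup G := by
        have : Nontrivial G := ⟨⟨(g : G), 1, h.ne_one⟩⟩
        exact ⟨fun N hN => hm N hN bot_le⟩
      have : Fact (Nat.Prime 7) := ⟨by norm_num⟩
      exact Cfsg.Agent.S0495.result (by rw [← Subgroup.index_bot, e]) (ZMod.card 7)

end Cfsg.Agent.S3331
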