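import Cfsg.Statements.S0690
import Cfsg.Agent.SolvStruct.Zassenhaus.Rep
import Cfsg.Agent.SolvStruct.Zassenhaus.Structure

set_option autoImplicit false
open Cfsg

namespace Cfsg.Agent.S0690

/-- Zassenhaus: a perfect non-trivial group of fixed-point-free automorphisms of a finite group is isomorphic to `SL(2,5)`. -/
theorem result {K : Type*} [Group K] [Finite K] (G : Subgroup (MulAut K)) (hfpf : ∀ φ ∈ G, φ ≠ 1 → ∀ k : K, φ k = k → k = 1) (hperf : commutator G = ⊤) (hne : G ≠ ⊥) : Nonempty (G ≃* Matrix.SpecialLinearGroup (Fin 2) (ZMod 5)) := by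
  haveI : Nontrivial G := (Subgroup.nontrivial_iff_ne_bot G).2 hne
  haveI : Nontrivial K := by
    by_contra h
    haveI := not_nontrivial_iff_subsingleton.1 h
    obtain ⟨a, ha⟩ := exists_ne (1 : G)
    exact ha (Subtype.ext (MulEquiv.ext fun k => Subsingleton.elim _ _))
  obtain ⟨V, φ, hV, hφ⟩ := Cfsg.Lib.SolvStruct.Zassenhaus.exists_fpf_rep
    (Cfsg.Lib.SolvStruct.Zassenhaus.crit_of_fpf_action G.subtype
      (fun g hg k hk => hfpf g g.2 (fun e => hg (Subtype.ext e)) k hk))
  have hnocomm : ∀ N : Subgroup G, N.Normal → (∀ a b : G, a * b * a⁻¹ * b⁻¹ ∈ N) → N = ⊤ :=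
    fun N _ h => top_le_iff.1 (hperf ▸ Subgroup.commutator_le.2 fun a _ b _ => by
      rw [commutatorElement_def]; exact h a b)
  have hns : ¬ Group.IsSolvable G := fun h => by
    haveI := h
    exact (Group.IsSolvable.commutator_lt_top_of_nontrivial G).ne hperf
  obtain ⟨S, M, hS, hM, hidx, hinf, hcomm, ⟨e⟩, hZ, hcop⟩ := hφ.structure_of_nonsolvable hns
  haveI := hS
  haveI := hM
  haveI : (S ⊔ M).Normal := Subgroup.sup_normal S M
  have htop : S ⊔ M = ⊤ := by
    rcases (Nat.dvd_prime Nat.prime_two).1 hidx with h | h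
    · exact Subgroup.index_eq_one.1 h
    · refine hnocomm _ inferInstance fun a b => ?_
      have key : ∀ a b : G, a * b ∈ S ⊔ M ↔ (a ∈ S ⊔ M ↔ b ∈ S ⊔ M) :=
        fun a b => Subgroup.mul_mem_iff_of_index_two h
      simp only [key, inv_mem_iff]
      tauto
  have hS' : S = ⊤ := by
    haveI := hZ
    haveI : Group.IsSolvable (G ⧸ S) := by
      let f := (QuotientGroup.mk' S).comp M.subtype
      have hsurj : Function.Surjective f := fun q => by
        obtain ⟨g, rfl⟩ := QuotientGroup.mk_surjective q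
        obtain ⟨s, hs, m, hm, rfl⟩ := Subgroup.mem_sup_of_normal_right.1 (htop ▸ Subgroup.mem_top g)
        exact ⟨⟨m, hm⟩, QuotientGroup.eq.2 (show m⁻¹ * (s * m) ∈ S by
          rw [← mul_assoc, ← (hcomm s hs (m⁻¹) (inv_mem hm))]
          simpa using hs)⟩
      exact Group.isSolvable_of_surjective hsurj
    by_contra hne'
    haveI : Nontrivial (G ⧸ S) := QuotientGroup.nontrivial_iff.2 hne'
    refine (Group.IsSolvable.commutator_lt_top_of_nontrivial (G ⧸ S)).ne ?_
    rw [commutator_def, ← Subgroup.map_top_of_surjective _ (QuotientGroup.mk'_surjective S),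
      ← Subgroup.map_commutator, ← commutator_def, hperf]
  exact ⟨(MulEquiv.subgroupCongr hS').trans Subgroup.topEquiv |>.symm.trans e⟩

end Cfsg.Agent.S0690
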