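import Cfsg.Statements.S0675
import Mathlib

set_option autoImplicit false
open Cfsg

namespace Cfsg.Agent.S0675

open Polynomial

theorem affine {p : ℕ} [Fact p.Prime] (g : Equiv.Perm (ZMod p)) (D : Finset (ZMod p)) (h0 : (0 : ZMod p) ∉ D)
    (hne : D.Nonempty) (hD : D ≠ Finset.univ.erase 0) (hg : ∀ x, ∀ d ∈ D, g (x + d) - g x ∈ D) (x : ZMod p) :
    g x = g 0 + (g 1 - g 0) * x := by
  classical
  have hp := (Fact.out : p.Prime)
  set S : ℕ → ZMod p := fun k => ∑ d ∈ D, d ^ k with hS
  have exk : ∀ E : Finset (ZMod p), (0 : ZMod p) ∉ E → E.Nonempty → ∃ k, 1 ≤ k ∧ k ≤ E.card ∧ (∑ d ∈ E, d ^ k) ≠ 0 := by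
    intro E hE0 hEne
    by_contra h
    push Not at h
    let f : Fin E.card → ZMod p := fun i => ((E.equivFin.symm i : E) : ZMod p)
    have hv := Matrix.eq_zero_of_forall_pow_sum_mul_pow_eq_zero (f := f) (v := f)
      (fun a b hab => E.equivFin.symm.injective (Subtype.ext hab)) fun i => by
        rw [← h (i + 1) (by omega) (by omega), ← E.sum_coe_sort]
        exact Fintype.sum_equiv E.equivFin.symm _ _ fun j => by rw [pow_succ']
    have := congrFun hv ⟨0, hEne.card_pos⟩
    apply hE0
    have h2 : f ⟨0, hEne.card_pos⟩ = 0 := this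
    exact h2 ▸ (show f ⟨0, hEne.card_pos⟩ ∈ E from (E.equivFin.symm ⟨0, hEne.card_pos⟩).2)
  set D' := Finset.univ.erase (0 : ZMod p) \ D with hD'
  have hsub : D ⊆ Finset.univ.erase (0 : ZMod p) := fun d hd =>
    Finset.mem_erase.2 ⟨fun e => h0 (e ▸ hd), Finset.mem_univ _⟩
  have hD'ne : D'.Nonempty := Finset.sdiff_nonempty.2 fun h => hD (Finset.Subset.antisymm hsub h)
  obtain ⟨k1, hk1, hk1m, hk1S⟩ := exk D h0 hne
  have hex : ∃ k, 1 ≤ k ∧ S k ≠ 0 := ⟨k1, hk1, hk1S⟩
  set k0 := Nat.find hex with hk0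
  have hk01 : 1 ≤ k0 := (Nat.find_spec hex).1
  have hk0S : S k0 ≠ 0 := (Nat.find_spec hex).2
  have hkmin : ∀ k, 1 ≤ k → k < k0 → S k = 0 := fun k h1 h2 => by
    by_contra h; exact Nat.find_min hex h2 ⟨h1, h⟩
  have hcard : D'.card + D.card = p - 1 := by
    rw [Finset.card_sdiff_add_card_eq_card hsub, Finset.card_erase_of_mem (Finset.mem_univ _), Finset.card_univ, ZMod.card]
  have h2k : 2 * k0 + 1 ≤ p := by
    obtain ⟨k2, hk2, hk2m, hk2S⟩ := exk D' (fun h => (Finset.mem_erase.1 (Finset.mem_sdiff.1 h).1).1 rfl) hD'ne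
    have hlt : k2 < p - 1 := by have := hne.card_pos; omega
    have hS2 : S k2 ≠ 0 := fun h => hk2S (by
      have e := Finset.sum_sdiff (f := fun d : ZMod p => d ^ k2) hsub
      rw [Finset.sum_erase _ (zero_pow (by omega)), FiniteField.sum_pow_lt_card_sub_one (ZMod p) k2 (by rw [ZMod.card]; exact hlt)] at e
      have h' : ∑ d ∈ D, d ^ k2 = 0 := h
      rwa [h', add_zero] at e)
    have e1 : k0 ≤ k1 := Nat.find_min' hex ⟨hk1, hk1S⟩
    have e2 : k0 ≤ k2 := Nat.find_min' hex ⟨hk2, hS2⟩
    have := hp.two_le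
    omega
  have hlow : ∀ i < k0, ∀ y : ZMod p, ∑ d ∈ D, (y + d) ^ i = (D.card : ZMod p) * y ^ i := by
    intro i hi y
    simp only [add_pow]
    rw [Finset.sum_comm, Finset.sum_eq_single i]
    · simp [Finset.sum_const, mul_comm]
    · intro l hl hli
      rw [Finset.mem_range] at hl
      rw [← Finset.sum_mul, ← Finset.mul_sum, show ∑ d ∈ D, d ^ (i - l) = 0 from hkmin _ (by omega) (by omega),
        mul_zero, zero_mul]
    · intro h; exact absurd (Finset.mem_range.2 (Nat.lt_succ_self i)) h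
  set P := Lagrange.interpolate (Finset.univ : Finset (ZMod p)) id (fun y => g y) with hP
  have hPe : ∀ y, P.eval y = g y := fun y =>
    Lagrange.eval_interpolate_at_node _ Function.injective_id.injOn (Finset.mem_univ y)
  have hPdeg : P.natDegree < p := by
    by_cases hP0 : P = 0
    · rw [hP0, natDegree_zero]; exact hp.pos
    · rw [natDegree_lt_iff_degree_lt hP0]
      have := Lagrange.degree_interpolate_lt (s := (Finset.univ : Finset (ZMod p))) (v := id) (fun y => g y) Function.injective_id.injOn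
      rwa [Finset.card_univ, ZMod.card] at this
  have hbig : ∀ (f : (ZMod p)[X]) (c : ZMod p), f.natDegree < p → k0 ≤ f.natDegree → (c = 0 ∨ k0 < f.natDegree) →
      ∃ y, ∑ d ∈ D, f.eval (y + d) ≠ (D.card : ZMod p) * f.eval y + c := by
    intro f c hf hk hc0
    by_contra hc
    push Not at hc
    set N := f.natDegree with hN
    set Q := ∑ d ∈ D, f.comp (X + C d) - C (D.card : ZMod p) * f - C c with hQ
    have hQd : Q.natDegree < p := by
      rw [hQ, natDegree_sub_C]
      refine lt_of_le_of_lt (natDegree_sub_le _ _) (max_lt ?_ ((natDegree_C_mul_le _ _).trans_lt hf))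
      refine lt_of_le_of_lt (natDegree_sum_le_of_forall_le _ _ fun d _ => ?_) hf
      rw [natDegree_comp, natDegree_X_add_C, mul_one]
    have hQ0 : Q = 0 := eq_zero_of_natDegree_lt_card_of_eval_eq_zero Q Function.injective_id (fun y => by
      simp [hQ, eval_finset_sum, hc]) (by rw [ZMod.card]; exact hQd)
    have hco : ∀ d, (f.comp (X + C d)).coeff (N - k0) =
        ∑ i ∈ Finset.range (N + 1), f.coeff i * (d ^ (i - (N - k0)) * (i.choose (N - k0) : ZMod p)) := fun d => by
      conv_lhs => rw [f.as_sum_range_C_mul_X_pow, ← hN]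
      simp [sum_comp, finset_sum_coeff, coeff_X_add_C_pow]
    have hq := congrArg (fun q : (ZMod p)[X] => q.coeff (N - k0)) hQ0
    have hcc : (C c).coeff (N - k0) = 0 := by
      rcases hc0 with rfl | hlt
      · simp
      · exact coeff_C_ne_zero (by omega)
    simp only [hQ, coeff_sub, finset_sum_coeff, hco, coeff_C_mul, coeff_zero, hcc, sub_zero] at hq
    rw [Finset.sum_comm, Finset.sum_eq_add (N - k0) N (by omega) (fun i hi hne' => ?_)
      (fun h => absurd (Finset.mem_range.2 (by omega)) h) (fun h => absurd (Finset.mem_range.2 (by omega)) h)] at hq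
    · rw [Nat.sub_self, Nat.choose_self, show N - (N - k0) = k0 by omega] at hq
      simp only [pow_zero, Nat.cast_one, mul_one, Finset.sum_const, nsmul_eq_mul, add_sub_cancel_left] at hq
      rw [← Finset.mul_sum, ← Finset.sum_mul, mul_eq_zero, mul_eq_zero] at hq
      rcases hq with h | h | h
      · exact (leadingCoeff_ne_zero.2 (fun e : f = 0 => by rw [e, natDegree_zero] at hN; omega)) h
      · exact hk0S h
      · rw [ZMod.natCast_eq_zero_iff] at h
        exact absurd (hp.dvd_factorial.1 (h.trans ⟨(N - k0).factorial * (N - (N - k0)).factorial, by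
          rw [← mul_assoc, Nat.choose_mul_factorial_mul_factorial (Nat.sub_le N k0)]⟩)) (by omega)
    · rw [Finset.mem_range] at hi
      rcases Nat.lt_or_ge i (N - k0) with h | h
      · simp [Nat.choose_eq_zero_of_lt h]
      · rw [← Finset.mul_sum, ← Finset.sum_mul, show ∑ d ∈ D, d ^ (i - (N - k0)) = 0 from hkmin _ (by omega) (by omega)]
        simp
  -- composition with `g` preserves the kernel
  have hpres : ∀ j < k0, ∀ y, ∑ d ∈ D, (g (y + d)) ^ j = (D.card : ZMod p) * (g y) ^ j := by
    intro j hj y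
    rw [← hlow j hj (g y)]
    have hinj : Set.InjOn (fun d => g (y + d) - g y) D := fun a _ b _ h =>
      add_left_cancel (g.injective (sub_left_inj.1 h))
    have himg : D.image (fun d => g (y + d) - g y) = D := Finset.eq_of_subset_of_card_le
      (fun z hz => by obtain ⟨d, hd, rfl⟩ := Finset.mem_image.1 hz; exact hg y d hd)
      (by rw [Finset.card_image_of_injOn hinj])
    conv_rhs => rw [← himg]
    rw [Finset.sum_image hinj]
    simp
  have hsmall : ∀ j < k0, j * P.natDegree < p → j * P.natDegree < k0 := by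
    intro j hj hjp
    by_contra h
    push Not at h
    obtain ⟨y, hy⟩ := hbig (P ^ j) 0 (by rw [natDegree_pow]; exact hjp) (by rw [natDegree_pow]; exact h) (Or.inl rfl)
    simp only [eval_pow, hPe, add_zero] at hy
    exact hy (hpres j hj y)
  have hdeg : P.natDegree ≤ 1 := by
    by_contra h
    push Not at h
    set t := P.natDegree with ht
    rcases Nat.eq_or_lt_of_le hk01 with hk | hk
    · obtain ⟨y, hy⟩ := hbig P (S 1) hPdeg (by omega) (Or.inr (by omega))
      simp only [hPe] at hy
      refine hy ?_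
      have hinj : Set.InjOn (fun d => g (y + d) - g y) D := fun a _ b _ h =>
        add_left_cancel (g.injective (sub_left_inj.1 h))
      have himg : D.image (fun d => g (y + d) - g y) = D := Finset.eq_of_subset_of_card_le
        (fun z hz => by obtain ⟨d, hd, rfl⟩ := Finset.mem_image.1 hz; exact hg y d hd)
        (by rw [Finset.card_image_of_injOn hinj])
      show _ = _ + ∑ d ∈ D, d ^ 1
      conv_rhs => rw [← himg]
      rw [Finset.sum_image hinj, Finset.card_image_of_injOn hinj]
      simp [Finset.sum_sub_distrib]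
    have ht1 : t < k0 := by simpa using hsmall 1 hk (by omega)
    set j := (k0 - 1) / t + 1 with hj
    have hdm := Nat.div_add_mod (k0 - 1) t
    have hml := Nat.mod_lt (k0 - 1) (show 0 < t by omega)
    have e1 : j * t = t * ((k0 - 1) / t) + t := by rw [hj]; ring
    have hjk : j < k0 := by
      have : 2 * ((k0 - 1) / t) ≤ t * ((k0 - 1) / t) := Nat.mul_le_mul_right _ h
      omega
    have := hsmall j hjk (by omega)
    omega
  have e := eq_X_add_C_of_natDegree_le_one hdeg
  have hv : ∀ y, g y = P.coeff 1 * y + P.coeff 0 := fun y => by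
    rw [← hPe, e]; simp
  rw [hv x, hv 1, hv 0]; ring


/-- Burnside's Theorem on permutation groups of prime degree: a transitive permutation group of prime degree that is not solvable is doubly transitive. -/
theorem result {α : Type*} [Fintype α] [DecidableEq α] (hα : (Fintype.card α).Prime) (G : Subgroup (Equiv.Perm α)) [MulAction.IsPretransitive G α] : Group.IsSolvable G ∨ MulAction.IsMultiplyPretransitive G α 2 := by
  classical
  set p := Fintype.card α with hp
  haveI : Fact p.Prime := ⟨hα⟩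
  haveI : Nonempty α := Fintype.card_pos_iff.1 hα.pos
  obtain ⟨a0⟩ : Nonempty α := inferInstance
  obtain ⟨σ, hσ⟩ := exists_prime_orderOf_dvd_card' p (show p ∣ Nat.card G by
    have := Subgroup.index_dvd_card (MulAction.stabilizer G a0)
    rwa [MulAction.index_stabilizer_of_transitive, Nat.card_eq_fintype_card] at this)
  have hσ' : orderOf (σ : Equiv.Perm α) = p := by rw [Subgroup.orderOf_coe]; exact hσ
  have hcyc := Equiv.Perm.isCycle_of_prime_order'' hα hσ'
  have hsupp : (σ : Equiv.Perm α).support = Finset.univ := by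
    rw [← Finset.card_eq_iff_eq_univ, ← hcyc.orderOf]; exact hσ'
  have hmove : ∀ a, (σ : Equiv.Perm α) a ≠ a := fun a => Equiv.Perm.mem_support.1 (hsupp ▸ Finset.mem_univ a)
  let e : ZMod p → α := fun i => ((σ : Equiv.Perm α) ^ i.val) a0
  have he1 : ∀ n : ℕ, e (n : ZMod p) = ((σ : Equiv.Perm α) ^ n) a0 := fun n => by
    show ((σ : Equiv.Perm α) ^ (n : ZMod p).val) a0 = _
    conv_rhs => rw [← pow_mod_orderOf, hσ']
    rw [ZMod.val_natCast]
  have hadd : ∀ (i : ZMod p) (n : ℕ), ((σ : Equiv.Perm α) ^ n) (e i) = e (i + n) := fun i n => by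
    conv_rhs => rw [← ZMod.natCast_zmod_val i, ← Nat.cast_add, he1, add_comm i.val n, pow_add, Equiv.Perm.mul_apply]
  have hsurj : Function.Surjective e := fun b => by
    obtain ⟨i, hi⟩ := hcyc.exists_pow_eq (hmove a0) (hmove b)
    exact ⟨(i : ZMod p), (he1 i).trans hi⟩
  have hbij : Function.Bijective e := (Fintype.bijective_iff_surjective_and_card e).2 ⟨hsurj, ZMod.card p⟩
  set E := Equiv.ofBijective e hbij with hE
  let coord : G → Equiv.Perm (ZMod p) := fun g => (E.trans (g : Equiv.Perm α)).trans E.symm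
  have hcoord : ∀ g x, e (coord g x) = (g : Equiv.Perm α) (e x) := fun g x => E.apply_symm_apply _
  by_cases h2 : MulAction.IsMultiplyPretransitive G α 2
  · exact Or.inr h2
  left
  -- the suborbit of some point
  obtain ⟨a, b, c, d, hab, hcd, hno⟩ : ∃ a b c d : α, a ≠ b ∧ c ≠ d ∧ ∀ g : G, g • a = c → g • b ≠ d := by
    rw [MulAction.is_two_pretransitive_iff] at h2
    push Not at h2
    obtain ⟨a, b, c, d, h1, h3, h4⟩ := h2
    exact ⟨a, b, c, d, h1, h3, h4⟩
  obtain ⟨d1, hd1, hd1'⟩ : ∃ d1 : ZMod p, d1 ≠ 0 ∧ ∃ g : G, g • e 0 = a ∧ g • e d1 = b := by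
    obtain ⟨g, hg⟩ := MulAction.exists_smul_eq G (e 0) a
    obtain ⟨d1, hd⟩ := hsurj (g⁻¹ • b)
    refine ⟨d1, fun h0 => hab ?_, g, hg, by rw [hd, smul_inv_smul]⟩
    rw [← hg, ← smul_inv_smul g b, ← hd, h0]
  set D : Finset (ZMod p) := Finset.univ.filter (fun d => ∃ g : G, g • e 0 = e 0 ∧ g • e d1 = e d) with hDdef
  have hR : ∀ (g : G) (x y : ZMod p), g • e 0 = e x → g • e d1 = e y → y - x ∈ D := by
    intro g x y h1 h3
    refine Finset.mem_filter.2 ⟨Finset.mem_univ _, σ ^ (-x).val * g, ?_, ?_⟩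
    · rw [mul_smul, h1]
      show ((σ : Equiv.Perm α) ^ (-x).val) (e x) = e 0
      rw [hadd, ZMod.natCast_zmod_val, add_neg_cancel]
    · rw [mul_smul, h3]
      show ((σ : Equiv.Perm α) ^ (-x).val) (e y) = e (y - x)
      rw [hadd, ZMod.natCast_zmod_val, sub_eq_add_neg]
  have hinv : ∀ (g : G) (x : ZMod p), ∀ d ∈ D, coord g (x + d) - coord g x ∈ D := by
    intro g x d hd
    obtain ⟨h, h1, h3⟩ := (Finset.mem_filter.1 hd).2
    refine hR (g * σ ^ x.val * h) _ _ ?_ ?_
    · rw [mul_smul, mul_smul, h1, hcoord]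
      show (g : Equiv.Perm α) (((σ : Equiv.Perm α) ^ x.val) (e 0)) = _
      rw [hadd, ZMod.natCast_zmod_val, zero_add]
    · rw [mul_smul, mul_smul, h3, hcoord]
      show (g : Equiv.Perm α) (((σ : Equiv.Perm α) ^ x.val) (e d)) = _
      rw [hadd, ZMod.natCast_zmod_val, add_comm]
  have hDne : D.Nonempty := ⟨d1, Finset.mem_filter.2 ⟨Finset.mem_univ _, 1, one_smul _ _, one_smul _ _⟩⟩
  have hD0 : (0 : ZMod p) ∉ D := fun h0 => by
    obtain ⟨g, h1, h3⟩ := (Finset.mem_filter.1 h0).2
    exact hd1 (hbij.1 (smul_left_cancel g (h3.trans h1.symm)))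
  have hDall : D ≠ Finset.univ.erase 0 := by
    intro hall
    obtain ⟨x, rfl⟩ := hsurj c
    obtain ⟨y, rfl⟩ := hsurj d
    have : y - x ∈ D := by
      rw [hall]
      exact Finset.mem_erase.2 ⟨sub_ne_zero.2 fun h => hcd (congrArg e h).symm, Finset.mem_univ _⟩
    obtain ⟨h, h1, h3⟩ := (Finset.mem_filter.1 this).2
    obtain ⟨g, hg1, hg3⟩ := hd1'
    refine hno (σ ^ x.val * h * g⁻¹) ?_ ?_
    · rw [mul_smul, mul_smul, ← hg1, inv_smul_smul, h1]
      show ((σ : Equiv.Perm α) ^ x.val) (e 0) = _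
      rw [hadd, ZMod.natCast_zmod_val, zero_add]
    · rw [mul_smul, mul_smul, ← hg3, inv_smul_smul, h3]
      show ((σ : Equiv.Perm α) ^ x.val) (e (y - x)) = _
      rw [hadd, ZMod.natCast_zmod_val, sub_add_cancel]
  have haff := fun g => affine (coord g) D hD0 hDne hDall (hinv g)
  have hmul : ∀ g h x, coord (g * h) x = coord g (coord h x) := fun g h x => hbij.1 (by
    rw [hcoord, hcoord, hcoord]; rfl)
  have hone : ∀ x, coord 1 x = x := fun x => hbij.1 (by rw [hcoord]; rfl)
  let χ0 : G →* ZMod p :=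
    { toFun := fun g => coord g 1 - coord g 0
      map_one' := by simp [hone]
      map_mul' := fun g h => by
        rw [hmul, hmul, haff g (coord h 1), haff g (coord h 0)]
        ring }
  let χ := χ0.toHomUnits
  haveI : Group.IsSolvable χ.ker := Group.isSolvable_of_comm fun u v => by
    have hk : ∀ w : χ.ker, ∀ x, coord (w : G) x = coord (w : G) 0 + x := fun w x => by
      rw [haff (w : G) x]
      have : χ0 (w : G) = 1 := congrArg Units.val (MonoidHom.mem_ker.1 w.2)
      change coord (w : G) 1 - coord (w : G) 0 = 1 at this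
      rw [this, one_mul]
    refine Subtype.ext (Subtype.ext (Equiv.ext fun a => ?_))
    obtain ⟨x, rfl⟩ := hsurj a
    show ((u : G) : Equiv.Perm α) (((v : G) : Equiv.Perm α) (e x)) = ((v : G) : Equiv.Perm α) (((u : G) : Equiv.Perm α) (e x))
    rw [← hcoord, ← hcoord, ← hcoord, ← hcoord, hk u (coord v x), hk v x, hk v (coord u x), hk u x]
    congr 1; ring
  haveI : Group.IsSolvable (ZMod p)ˣ := Group.isSolvable_of_comm mul_comm
  exact solvable_of_ker_le_range χ.ker.subtype χ (by rw [Subgroup.range_subtype])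

end Cfsg.Agent.S0675
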