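import Cfsg.Statements.S0225
import Cfsg.Agent.InvolCalc.ZStarApps

set_option autoImplicit false
open Cfsg

namespace Cfsg.Agent.S0225

/-- If a finite group G has even order but contains no Klein four-subgroup (2-rank 1), then some involution z of G is central modulo a normal subgroup of odd order: there is a normal subgroup N of odd order containing every commutator z g z⁻¹ g⁻¹. -/
theorem result {G : Type*} [Group G] [Finite G] (heven : Even (Nat.card G)) (hrank : ∀ E : Subgroup G, ¬ IsKleinFour E) : ∃ z : G, orderOf z = 2 ∧ ∃ N : Subgroup G, N.Normal ∧ Odd (Nat.card N) ∧ ∀ g : G, z * g * z⁻¹ * g⁻¹ ∈ N := by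
  haveI : Fact (Nat.Prime 2) := ⟨Nat.prime_two⟩
  obtain ⟨z, hz⟩ := exists_prime_orderOf_dvd_card' (G := G) 2 heven.two_dvd
  refine ⟨z, hz, Cfsg.pPrimeCore 2 G, inferInstance, Cfsg.Lib.ZStarApps.odd_card_pPrimeCore,
    Cfsg.Lib.ZStarApps.zstarProp ⟨hz, fun g hc => ?_⟩⟩
  by_contra hne
  set t := g * z * g⁻¹ with ht
  have ht2 : orderOf t = 2 := by rw [ht, Cfsg.Lib.Isolated.orderOf_conj', hz]
  have hzz := Cfsg.Lib.InvolCalc.sq_of_order_two hz
  have htt := Cfsg.Lib.InvolCalc.sq_of_order_two ht2
  let E : Subgroup G :=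
    { carrier := {1, z, t, z * t}
      one_mem' := by simp
      mul_mem' := fun {a b} ha hb => by
        have e1 : t * z = z * t := hc.eq.symm
        have e2 : ∀ c, z * (z * c) = c := fun c => by rw [← mul_assoc, hzz, one_mul]
        have e3 : ∀ c, t * (z * c) = z * (t * c) := fun c => by rw [← mul_assoc, e1, mul_assoc]
        simp only [Set.mem_insert_iff, Set.mem_singleton_iff] at ha hb ⊢
        rcases ha with rfl | rfl | rfl | rfl <;> rcases hb with rfl | rfl | rfl | rfl <;>
          simp [hzz, htt, e1, e2, e3, mul_assoc]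
      inv_mem' := fun {a} ha => by
        simp only [Set.mem_insert_iff, Set.mem_singleton_iff] at ha ⊢
        rcases ha with rfl | rfl | rfl | rfl <;>
          simp [mul_inv_rev, Cfsg.Lib.InvolCalc.inv_of_order_two hz,
            Cfsg.Lib.InvolCalc.inv_of_order_two ht2, hc.eq] }
  have hzt : z * t ≠ 1 := fun h => hne (by
    rw [← Cfsg.Lib.InvolCalc.inv_of_order_two hz]; exact eq_inv_of_mul_eq_one_right h)
  have hcard : Nat.card E = 4 := by
    show Nat.card (({1, z, t, z * t} : Set G)) = 4
    have h1 : z ≠ 1 := Cfsg.Lib.InvolCalc.ne_one_of_order_two hz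
    have h2 : t ≠ 1 := Cfsg.Lib.InvolCalc.ne_one_of_order_two ht2
    rw [Nat.card_coe_set_eq, Set.ncard_insert_of_notMem, Set.ncard_insert_of_notMem,
      Set.ncard_insert_of_notMem, Set.ncard_singleton] <;>
      simp [h1, h1.symm, h2, h2.symm, hzt, Ne.symm hzt, Ne.symm hne]
  refine hrank E ⟨hcard, ?_⟩
  haveI : Nontrivial E := (Finite.one_lt_card_iff_nontrivial).mp (by rw [hcard]; norm_num)
  refine (Monoid.exponent_eq_prime_iff Nat.prime_two).mpr fun a ha => ?_
  rw [← Subgroup.orderOf_coe]
  have : (a : G) ≠ 1 := fun h => ha (Subtype.ext h)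
  rcases a.2 with h | h | h | h
  · exact absurd h this
  · rw [h]; exact hz
  · rw [h]; exact ht2
  · rw [h]
    refine Cfsg.Lib.InvolCalc.order_two_of_mul_self ?_ hzt
    rw [mul_assoc, ← mul_assoc t z t, ← hc.eq, mul_assoc z t t, htt, mul_one, hzz]

end Cfsg.Agent.S0225
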