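import Cfsg.Statements.S1134
import Cfsg.Agent.RankOne.More

set_option autoImplicit false
open Cfsg

namespace Cfsg.Agent.S1134

/-- In the rank-one set-up (`G` finite and doubly transitive on `Ω`, `t` an involution moving `a`, `Q` normal in `G_a` with `G_a = Q D`, `Q ⊓ D = 1` for the two-point stabiliser `D = G_a ⊓ G_{t • a}`, `|Q|` even, `|D|` odd), with the action faithful and `G` containing two distinct commuting involutions, with `V = C_D(t)`: subsets of `V` conjugate in `G` are conjugate in `V`. -/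
theorem result {G Ω : Type*} [Group G] [Finite G] [MulAction G Ω] [FaithfulSMul G Ω] {a : Ω} {t : G} {Q : Subgroup G}
    (hS : Cfsg.IsRankOneSetup G Ω a t Q)
    (h2 : ∃ x y : G, x ≠ 1 ∧ y ≠ 1 ∧ x ≠ y ∧ x * x = 1 ∧ y * y = 1 ∧ x * y = y * x)
    (X : Set G) (hX : X ⊆ (((MulAction.stabilizer G a ⊓ MulAction.stabilizer G (t • a)) ⊓ Subgroup.centralizer {t} : Subgroup G) : Set G)) (g : G)
    (hY : (fun x => g * x * g⁻¹) '' X ⊆ (((MulAction.stabilizer G a ⊓ MulAction.stabilizer G (t • a)) ⊓ Subgroup.centralizer {t} : Subgroup G) : Set G)) :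
    ∃ v ∈ (MulAction.stabilizer G a ⊓ MulAction.stabilizer G (t • a)) ⊓ Subgroup.centralizer {t}, (fun x => v * x * v⁻¹) '' X = (fun x => g * x * g⁻¹) '' X := by
  have ht := hS.mul_self
  have htinv : t⁻¹ = t := Cfsg.Lib.RankOne.inv_of_sq ht
  have hXD : X ⊆ (Cfsg.Lib.RankOne.twoStab Ω a t : Set G) := fun x hx => (Subgroup.mem_inf.1 (hX hx)).1
  have hYD : ∀ x ∈ X, g * x * g⁻¹ ∈ Cfsg.Lib.RankOne.twoStab Ω a t := fun x hx =>
    (Subgroup.mem_inf.1 (hY ⟨x, hx, rfl⟩)).1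
  have hYt : ∀ x ∈ X, t * (g * x * g⁻¹) * t⁻¹ = g * x * g⁻¹ := fun x hx => by
    have h : g * x * g⁻¹ * t = t * (g * x * g⁻¹) := Subgroup.mem_centralizer_singleton_iff.1 (Subgroup.mem_inf.1 (hY ⟨x, hx, rfl⟩)).2
    rw [← h, mul_inv_cancel_right]
  have htX : t ∈ Subgroup.centralizer X := Subgroup.mem_centralizer_iff.2 fun x hx =>
    Subgroup.mem_centralizer_singleton_iff.1 (Subgroup.mem_inf.1 (hX hx)).2
  have fa : Cfsg.Lib.RankOne.FixX Ω X a := fun x hx => (Subgroup.mem_inf.1 (hXD hx)).1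
  have fta : Cfsg.Lib.RankOne.FixX Ω X (t • a) := fun x hx => (Subgroup.mem_inf.1 (hXD hx)).2
  have fb : Cfsg.Lib.RankOne.FixX Ω X (g⁻¹ • a) := fun x hx => by
    have h : (g * x * g⁻¹) • a = a := (Subgroup.mem_inf.1 (hYD x hx)).1
    rw [eq_inv_smul_iff, ← mul_smul, ← mul_smul]
    exact h
  have fb' : Cfsg.Lib.RankOne.FixX Ω X (g⁻¹ • t • a) := fun x hx => by
    have h : (g * x * g⁻¹) • t • a = t • a := (Subgroup.mem_inf.1 (hYD x hx)).2
    rw [eq_inv_smul_iff, ← mul_smul, ← mul_smul, h]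
  have hne : g⁻¹ • a ≠ g⁻¹ • t • a := fun h => Cfsg.Lib.RankOne.ta_ne hS (MulAction.injective g⁻¹ h).symm
  have hna : a ≠ t • a := (Cfsg.Lib.RankOne.ta_ne hS).symm
  -- move inside the centraliser to the two base points
  obtain ⟨c, hc, hc1, hc2⟩ : ∃ c ∈ Subgroup.centralizer X, c • a = g⁻¹ • a ∧ c • t • a = g⁻¹ • t • a := by
    by_cases h1 : g⁻¹ • a ≠ a ∧ g⁻¹ • a ≠ t • a
    · exact Cfsg.Lib.RankOne.fix_two_trans hS hXD ⟨a, t • a, g⁻¹ • a, hna, h1.1.symm, h1.2.symm, fa, fta, fb⟩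
        fa fta fb fb' hna hne
    by_cases h2 : g⁻¹ • t • a ≠ a ∧ g⁻¹ • t • a ≠ t • a
    · exact Cfsg.Lib.RankOne.fix_two_trans hS hXD ⟨a, t • a, g⁻¹ • t • a, hna, h2.1.symm, h2.2.symm, fa, fta, fb'⟩
        fa fta fb fb' hna hne
    rcases eq_or_ne (g⁻¹ • a) a with h | h
    · refine ⟨1, one_mem _, by rw [one_smul, h], ?_⟩
      rcases eq_or_ne (g⁻¹ • t • a) a with h' | h'
      · exact absurd (h.trans h'.symm) hne
      · rw [one_smul]
        by_contra h''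
        exact h2 ⟨h', Ne.symm h''⟩
    · have hb : g⁻¹ • a = t • a := by
        by_contra h''
        exact h1 ⟨h, h''⟩
      refine ⟨t, htX, hb.symm, ?_⟩
      rw [← mul_smul t t, ht, one_smul]
      by_contra h''
      exact h2 ⟨Ne.symm h'', fun h' => hne (hb.trans h'.symm)⟩
  set d := g * c with hd
  have hdD : d ∈ Cfsg.Lib.RankOne.twoStab Ω a t := Subgroup.mem_inf.2
    ⟨show d • a = a by rw [hd, mul_smul, hc1, smul_inv_smul],
     show d • t • a = t • a by rw [hd, mul_smul, hc2, smul_inv_smul]⟩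
  have hconj : ∀ x ∈ X, d * x * d⁻¹ = g * x * g⁻¹ := fun x hx => by
    calc d * x * d⁻¹ = g * (c * x) * c⁻¹ * g⁻¹ := by rw [hd]; group
      _ = g * (x * c) * c⁻¹ * g⁻¹ := by rw [Subgroup.mem_centralizer_iff.1 hc x hx]
      _ = _ := by group
  -- move into the centraliser of `t`
  set k := d⁻¹ * (t * d * t⁻¹) with hk
  have hkD : k ∈ Cfsg.Lib.RankOne.twoStab Ω a t :=
    mul_mem (inv_mem hdD) (Cfsg.Lib.RankOne.conj_D hS hdD)
  have hki : t * k * t⁻¹ = k⁻¹ := by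
    calc t * k * t⁻¹ = (t * d⁻¹ * t⁻¹) * ((t * t) * d * (t * t)⁻¹) := by rw [hk]; group
      _ = (t * d⁻¹ * t⁻¹) * d := by rw [ht]; group
      _ = k⁻¹ := by rw [hk]; group
  obtain ⟨j, hj⟩ := Cfsg.Lib.RankOne.orderOf_odd_mem hS.odd_card hkD
  have hkx : ∀ x ∈ X, Commute k x := fun x hx => by
    have h1 : t * (d * x * d⁻¹) * t⁻¹ = d * x * d⁻¹ := by rw [hconj x hx, hYt x hx]
    have h2 : t⁻¹ * x * t = x := by
      rw [mul_assoc, Subgroup.mem_centralizer_iff.1 htX x hx, inv_mul_cancel_left]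
    show k * x = x * k
    calc k * x = d⁻¹ * (t * (d * (t⁻¹ * x * t) * d⁻¹) * t⁻¹) * (t * d * t⁻¹) := by rw [hk]; group
      _ = d⁻¹ * (d * x * d⁻¹) * (t * d * t⁻¹) := by rw [h2, h1]
      _ = x * k := by rw [hk]; group
  set w := k ^ (j + 1) with hw
  have hww : w * w = k := by
    rw [hw, ← pow_add, show j + 1 + (j + 1) = (2 * j + 1) + 1 by ring, ← hj, pow_succ, pow_orderOf_eq_one, one_mul]
  have hwi : t * w * t⁻¹ = w⁻¹ := by rw [hw, ← conj_pow, hki, inv_pow]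
  refine ⟨d * w, Subgroup.mem_inf.2 ⟨mul_mem hdD (pow_mem hkD _), ?_⟩, Set.image_congr fun x hx => ?_⟩
  · rw [Subgroup.mem_centralizer_singleton_iff]
    have h1 : t * (d * w) * t⁻¹ = d * w := by
      calc t * (d * w) * t⁻¹ = (t * d * t⁻¹) * (t * w * t⁻¹) := by group
        _ = d * k * w⁻¹ := by rw [hwi, hk]; group
        _ = d * w := by rw [← hww]; group
    exact (mul_inv_eq_iff_eq_mul.1 h1).symm
  · calc d * w * x * (d * w)⁻¹ = d * (w * x) * w⁻¹ * d⁻¹ := by group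
      _ = d * (x * w) * w⁻¹ * d⁻¹ := by rw [((hkx x hx).pow_left (j + 1)).eq]
      _ = d * x * d⁻¹ := by group
      _ = _ := hconj x hx

end Cfsg.Agent.S1134
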