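import Cfsg.Statements.S1514
import Cfsg.Agent.OddChar.Coherence
import Cfsg.Agent.Chars.NormTwo

set_option autoImplicit false
open Cfsg

namespace Cfsg.Agent.S1514

/-- Let S be a nonempty set of irreducible characters of the finite group L, closed under complex conjugation and containing no real-valued member, and τ a linear isometry on the integer combinations of S vanishing at 1, with values virtual characters of G vanishing at 1. Then there is a choice R making (S, τ, R) a coherence system. -/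
theorem result {L : Type*} [Group L] [Fintype L] {G : Type*} [Group G] [Fintype G] (S : Set (L → ℂ)) (hS : S.Nonempty) (hirr : ∀ χ ∈ S, Cfsg.IsIrrCharacter L χ) (hconj : ∀ χ ∈ S, Cfsg.conjFun χ ∈ S ∧ Cfsg.conjFun χ ≠ χ) (τ : (L → ℂ) → (G → ℂ)) (hτ : Cfsg.IsLinearIsometryOn (Cfsg.zspanOn S {1}ᶜ) τ) (hτ1 : ∀ α ∈ Cfsg.zspanOn S {1}ᶜ, τ α 1 = 0) : ∃ R : (L → ℂ) → Finset (G → ℂ), Cfsg.IsCoherenceSystem S τ R := by
  classical
  choose a b hab hτeq using fun χ : S =>
    Cfsg.Lib.Chars.exists_sub_of_norm_two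
      (f := τ ((χ : L → ℂ) - Cfsg.conjFun χ))
      (hτ.2.2.2 _ (Cfsg.Lib.Coherence.mem_one.mpr
        ⟨(Submodule.span ℤ S).sub_mem (Cfsg.Lib.Coherence.subset_zspan χ.2)
          (Cfsg.Lib.Coherence.subset_zspan (hconj χ χ.2).1),
          by simp [Cfsg.Lib.Coherence.conj_apply_one
            (Cfsg.Lib.Chars.isCharacter_of_irr (hirr χ χ.2))]⟩))
      (by
        have hm : (χ : L → ℂ) - Cfsg.conjFun χ ∈ Cfsg.zspanOn S {1}ᶜ :=
          Cfsg.Lib.Coherence.mem_one.mpr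
            ⟨(Submodule.span ℤ S).sub_mem (Cfsg.Lib.Coherence.subset_zspan χ.2)
              (Cfsg.Lib.Coherence.subset_zspan (hconj χ χ.2).1),
              by simp [Cfsg.Lib.Coherence.conj_apply_one
                (Cfsg.Lib.Chars.isCharacter_of_irr (hirr χ χ.2))]⟩
        have h1 := hirr _ χ.2
        have h2 := hirr _ (hconj χ χ.2).1
        rw [hτ.2.2.1 _ hm _ hm, Cfsg.Lib.Chars.classInner_sub_left,
          Cfsg.Lib.Chars.classInner_sub_right, Cfsg.Lib.Chars.classInner_sub_right,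
          Cfsg.Lib.Chars.classInner_self_irr h1, Cfsg.Lib.Chars.classInner_self_irr h2,
          Cfsg.Lib.Chars.classInner_irrChar h1 h2, Cfsg.Lib.Chars.classInner_irrChar h2 h1,
          if_neg (hconj χ χ.2).2, if_neg (hconj χ χ.2).2.symm]
        norm_num)
      (hτ1 _ (Cfsg.Lib.Coherence.mem_one.mpr
        ⟨(Submodule.span ℤ S).sub_mem (Cfsg.Lib.Coherence.subset_zspan χ.2)
          (Cfsg.Lib.Coherence.subset_zspan (hconj χ χ.2).1),
          by simp [Cfsg.Lib.Coherence.conj_apply_one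
            (Cfsg.Lib.Chars.isCharacter_of_irr (hirr χ χ.2))]⟩))
  refine ⟨fun χ => if h : χ ∈ S then {((a ⟨χ, h⟩ : G → ℂ)), -(b ⟨χ, h⟩ : G → ℂ)} else ∅,
    hS, fun χ hχ => Cfsg.Lib.Chars.isCharacter_of_irr (hirr χ hχ), fun χ hχ => (hconj χ hχ).1,
    fun χ hχ => (hconj χ hχ).2, hτ, hτ1, ?_, ?_, ?_, ?_, ?_⟩
  · intro χ hχ φ hφ hne
    rw [Cfsg.Lib.Chars.classInner_irrChar (hirr χ hχ) (hirr φ hφ), if_neg hne]
  all_goals intro χ hχ
  · simp only [dif_pos hχ, Finset.mem_insert, Finset.mem_singleton]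
    have hne := hab ⟨χ, hχ⟩
    have hne' : (a ⟨χ, hχ⟩ : G → ℂ) ≠ -(b ⟨χ, hχ⟩ : G → ℂ) := by
      intro h
      have := congrArg (fun f => Cfsg.classInner f (a ⟨χ, hχ⟩ : G → ℂ)) h
      simp [Cfsg.Lib.Chars.classInner_neg_left, Cfsg.Lib.Chars.classInner_irrCharacter,
        hne.symm] at this
    rintro α (rfl | rfl) β (rfl | rfl) <;>
      simp [Cfsg.Lib.Chars.classInner_neg_left, Cfsg.Lib.Chars.classInner_neg_right,
        Cfsg.Lib.Chars.classInner_irrCharacter, hne, hne.symm, hne', hne'.symm]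
  · simp only [dif_pos hχ, Finset.mem_insert, Finset.mem_singleton]
    rintro α (rfl | rfl)
    · exact Cfsg.Lib.Chars.IsCharacter.isGeneralized
        (Cfsg.Lib.Chars.isCharacter_of_irr (a ⟨χ, hχ⟩).2)
    · exact Cfsg.Lib.Chars.IsGeneralizedCharacter.neg (Cfsg.Lib.Chars.IsCharacter.isGeneralized
        (Cfsg.Lib.Chars.isCharacter_of_irr (b ⟨χ, hχ⟩).2))
  · have hne' : (a ⟨χ, hχ⟩ : G → ℂ) ≠ -(b ⟨χ, hχ⟩ : G → ℂ) := by
      intro h
      have := congrArg (fun f => Cfsg.classInner f (a ⟨χ, hχ⟩ : G → ℂ)) h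
      simp [Cfsg.Lib.Chars.classInner_neg_left, Cfsg.Lib.Chars.classInner_irrCharacter,
        (hab ⟨χ, hχ⟩).symm] at this
    simp only [dif_pos hχ, Finset.sum_pair hne', hτeq ⟨χ, hχ⟩, sub_eq_add_neg]
    exact (hτeq ⟨χ, hχ⟩).trans (sub_eq_add_neg _ _)
  · intro φ hφ h1 h2
    simp only [dif_pos hχ, dif_pos hφ, Finset.mem_insert, Finset.mem_singleton]
    have hm : ∀ ξ ∈ S, ξ - Cfsg.conjFun ξ ∈ Cfsg.zspanOn S {1}ᶜ := fun ξ hξ =>
      Cfsg.Lib.Coherence.mem_one.mpr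
        ⟨(Submodule.span ℤ S).sub_mem (Cfsg.Lib.Coherence.subset_zspan hξ)
          (Cfsg.Lib.Coherence.subset_zspan (hconj ξ hξ).1),
          by simp [Cfsg.Lib.Coherence.conj_apply_one
            (Cfsg.Lib.Chars.isCharacter_of_irr (hirr ξ hξ))]⟩
    have h3 : Cfsg.classInner (Cfsg.conjFun φ) χ = 0 := by
      rw [← Cfsg.Lib.Coherence.conjFun_conjFun χ, Cfsg.Lib.Coherence.classInner_conjFun, h2,
        map_zero]
    have h4 : Cfsg.classInner (Cfsg.conjFun φ) (Cfsg.conjFun χ) = 0 := by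
      rw [Cfsg.Lib.Coherence.classInner_conjFun, h1, map_zero]
    have h0 := hτ.2.2.1 _ (hm φ hφ) _ (hm χ hχ)
    rw [hτeq ⟨φ, hφ⟩, hτeq ⟨χ, hχ⟩] at h0
    simp only [Cfsg.Lib.Chars.classInner_sub_left, Cfsg.Lib.Chars.classInner_sub_right, h1, h2, h3,
      h4, Cfsg.Lib.Chars.classInner_irrCharacter] at h0
    have hne := hab ⟨χ, hχ⟩
    have hne2 := hab ⟨φ, hφ⟩
    rintro α (rfl | rfl) β (rfl | rfl) <;>
      simp only [Cfsg.Lib.Chars.classInner_neg_left, Cfsg.Lib.Chars.classInner_neg_right,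
        Cfsg.Lib.Chars.classInner_irrCharacter, neg_eq_zero, ite_eq_right_iff, one_ne_zero,
        imp_false] <;>
      intro he <;> rw [he] at h0 hne2 <;> split_ifs at h0 <;> norm_num at h0 <;> simp_all

end Cfsg.Agent.S1514
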