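import Cfsg.Statements.S1523
import Cfsg.Agent.Chars.FreeOrbit

set_option autoImplicit false
open Cfsg

namespace Cfsg.Agent.S1523

/-- Let G be a finite group, p a prime, P a Sylow p-subgroup whose underlying set is a TI-subset of G, with L the set normaliser of P of odd order. Let Z ≠ ⊥ be a subgroup of P, normal in L and central in P, such that the centralisers in L of any two non-identity elements of Z have the same order. If ψ is an irreducible character of G taking the same value at all non-identity elements of Z, then for z ∈ Z, z ≠ 1, the value ψ z is an integer n with Nat.card P dividing ψ(1) − n (as integers, ψ 1 being the degree). -/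
theorem result {G : Type*} [Group G] [Finite G] (p : ℕ) [Fact p.Prime] (P : Sylow p G) (hTI : Cfsg.IsTISubset ((P : Subgroup G) : Set G)) (hodd : Odd (Nat.card (Subgroup.normalizer ((P : Subgroup G) : Set G)))) (Z : Subgroup G) (hZ1 : Z ≠ ⊥) (hZP : Z ≤ P) (hZn : ∀ x ∈ Subgroup.normalizer ((P : Subgroup G) : Set G), ∀ z ∈ Z, x * z * x⁻¹ ∈ Z) (hZc : ∀ z ∈ Z, ∀ y ∈ (P : Subgroup G), z * y = y * z) (hCL : ∀ z ∈ Z, ∀ z' ∈ Z, z ≠ 1 → z' ≠ 1 → Nat.card ↥(Subgroup.normalizer ((P : Subgroup G) : Set G) ⊓ Subgroup.centralizer ({z} : Set G)) = Nat.card ↥(Subgroup.normalizer ((P : Subgroup G) : Set G) ⊓ Subgroup.centralizer ({z'} : Set G))) (ψ : G → ℂ) (hψ : Cfsg.IsIrrCharacter G ψ) (hconst : ∀ z ∈ Z, ∀ z' ∈ Z, z ≠ 1 → z' ≠ 1 → ψ z = ψ z') (z : G) (hz : z ∈ Z) (hz1 : z ≠ 1) : ∃ n d : ℤ, ψ z = n ∧ ψ 1 = d ∧ (Nat.card (P : Subgroup G) : ℤ) ∣ d - n := by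
  classical
  have := Fintype.ofFinite G
  have hp : p.Prime := Fact.out
  have hψc := Cfsg.Lib.Chars.isCharacter_of_irr hψ
  have hcf := Cfsg.Lib.Chars.isClassFunction_isChar hψc
  have := Fintype.ofFinite Z
  -- `ψ` is a rational integer on the non-identity elements of `Z`
  obtain ⟨d₀, hd₀⟩ := Cfsg.Lib.Chars.IsCharacter.apply_one hψc
  obtain ⟨a₁, ha₁⟩ := Cfsg.Lib.Chars.IsCharacter.exists_mult
    (Cfsg.Lib.Chars.IsCharacter.restrict hψc Z) (Cfsg.Lib.Chars.isIrrCharacter_linear (1 : Z →* ℂˣ))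
  obtain ⟨n, hn⟩ : ∃ n : ℤ, ψ z = n := by
    have h1 : (∑ y : Z, ψ y) = (d₀ : ℂ) + ((Nat.card Z : ℂ) - 1) * ψ z := by
      rw [← Finset.add_sum_erase Finset.univ _ (Finset.mem_univ (1 : Z)),
        Finset.sum_congr (s₁ := Finset.univ.erase (1 : Z)) rfl (g := fun _ : Z => ψ z) (fun y hy => hconst y y.2 z hz
          (fun h => (Finset.mem_erase.mp hy).1 (Subtype.ext h)) hz1),
        Finset.sum_const, Finset.card_erase_of_mem (Finset.mem_univ _), Finset.card_univ,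
        ← Nat.card_eq_fintype_card, OneMemClass.coe_one, hd₀, nsmul_eq_mul,
        Nat.cast_sub Nat.card_pos, Nat.cast_one]
    rw [Cfsg.Lib.Chars.classInner_def] at ha₁
    simp only [MonoidHom.one_apply, Units.val_one, map_one, mul_one] at ha₁
    rw [h1, inv_mul_eq_iff_eq_mul₀ (by exact_mod_cast Nat.card_pos.ne')] at ha₁
    have hz2 : 1 < Nat.card Z := by
      haveI : Nontrivial Z := (Subgroup.nontrivial_iff_ne_bot Z).mpr hZ1
      exact Finite.one_lt_card
    have hne : ((Nat.card Z : ℂ) - 1) ≠ 0 := by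
      rw [sub_ne_zero]; exact_mod_cast hz2.ne'
    have hq : ψ z = ((((Nat.card Z : ℚ) * a₁ - d₀) / ((Nat.card Z : ℚ) - 1) : ℚ) : ℂ) := by
      push_cast
      rw [eq_div_iff hne]
      linear_combination ha₁
    have hint := Cfsg.Lib.Chars.IsCharacter.isIntegral hψc z
    rw [hq] at hint
    obtain ⟨n, hn⟩ := Cfsg.Lib.Chars.int_of_isIntegral_rat hint
    exact ⟨n, by rw [hq, hn, Rat.cast_intCast]⟩
  refine ⟨n, d₀, hn, by rw [hd₀, Int.cast_natCast], ?_⟩
  set L := Subgroup.normalizer ((P : Subgroup G) : Set G) with hL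
  have hzL : ∀ y ∈ (P : Subgroup G), y ∈ L := fun y hy => Subgroup.le_normalizer hy
  -- the TI property
  have hcent : ∀ u ∈ (P : Subgroup G), u ≠ 1 → ∀ a : G, a * u = u * a → a ∈ L := by
    intro u hu hu1 a hau
    by_contra h
    exact hu1 (hTI a h u hu (by rw [hau, mul_inv_cancel_right]; exact hu))
  have hzP := hZP hz
  set K := Finset.univ.filter (fun a : G => IsConj z a) with hK
  have hKc : ∀ g : G, ∀ a ∈ K, g * a * g⁻¹ ∈ K := fun g a ha => by
    simp only [hK, Finset.mem_filter, Finset.mem_univ, true_and] at ha ⊢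
    exact ha.trans (isConj_iff.mpr ⟨g, rfl⟩)
  have hval : ∀ a ∈ K, ψ a = n := fun a ha => by
    obtain ⟨g, rfl⟩ := isConj_iff.mp (Finset.mem_filter.mp ha).2
    rw [hcf, hn]
  have hKZ : ∀ a ∈ K, a ∈ L → a ∈ Z := by
    intro a ha haL
    obtain ⟨g, rfl⟩ := isConj_iff.mp (Finset.mem_filter.mp ha).2
    have hpa : IsPGroup p (Subgroup.zpowers (g * z * g⁻¹)) := by
      have h1 := P.2.to_le (Subgroup.zpowers_le.mpr hzP)
      have h2 := h1.map (MulAut.conj g).toMonoidHom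
      rwa [MonoidHom.map_zpowers] at h2
    have hsup := IsPGroup.to_sup_of_normal_left' P.2 hpa (Subgroup.zpowers_le.mpr haL)
    have hle := P.3 hsup le_sup_left
    have haP : g * z * g⁻¹ ∈ (P : Subgroup G) := hle.le (Subgroup.mem_sup_right (Subgroup.mem_zpowers _))
    have hgL : g ∈ L := by
      by_contra h
      exact hz1 (hTI g h z hzP haP)
    exact hZn g hgL z hz
  -- `z` is not conjugate to its inverse
  have hinv : ∀ a ∈ K, a⁻¹ ∉ K := by
    intro a ha ha'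
    simp only [hK, Finset.mem_filter, Finset.mem_univ, true_and] at ha ha'
    obtain ⟨g₁, rfl⟩ := isConj_iff.mp ha
    have h2 : IsConj z z⁻¹ := ha'.trans (isConj_iff.mpr ⟨g₁⁻¹, by group⟩)
    obtain ⟨g, hg⟩ := isConj_iff.mp h2
    have hgL : g ∈ L := by
      by_contra h
      exact hz1 (hTI g h z hzP (by rw [hg]; exact inv_mem hzP))
    have hg2 : Commute (g ^ 2) z := by
      have h3 : g * z⁻¹ * g⁻¹ = z := by
        have := congrArg (·⁻¹) hg
        simpa [mul_assoc] using this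
      have h4 : g ^ 2 * z * (g ^ 2)⁻¹ = z := by
        rw [pow_two, show g * g * z * (g * g)⁻¹ = g * (g * z * g⁻¹) * g⁻¹ by group, hg, h3]
      exact mul_inv_eq_iff_eq_mul.mp h4
    have hgo : Odd (orderOf g) := by
      have h5 : orderOf (⟨g, hgL⟩ : L) ∣ Nat.card L := orderOf_dvd_natCard _
      rw [Subgroup.orderOf_mk] at h5
      exact hodd.of_dvd_nat h5
    obtain ⟨k, hk⟩ := hgo
    have hgc : Commute g z := by
      have h6 : g = (g ^ 2) ^ (k + 1) := by
        rw [← pow_mul, show 2 * (k + 1) = orderOf g + 1 by omega, pow_succ, pow_orderOf_eq_one, one_mul]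
      rw [h6]
      exact hg2.pow_left _
    rw [hgc.eq, mul_inv_cancel_right] at hg
    have h7 : orderOf z ∣ 2 := orderOf_dvd_of_pow_eq_one (by
      rw [pow_two]
      nth_rw 2 [hg]
      exact mul_inv_cancel z)
    have h8 : orderOf (⟨z, hzL z hzP⟩ : L) ∣ Nat.card L := orderOf_dvd_natCard _
    rw [Subgroup.orderOf_mk] at h8
    rcases (Nat.dvd_prime Nat.prime_two).mp h7 with h9 | h9
    · exact hz1 (orderOf_eq_one_iff.mp h9)
    · exact (Nat.not_even_iff_odd.mpr (hodd.of_dvd_nat h8)) (by rw [h9]; exact even_two)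
  -- the action of `P`
  let act1 : ↥(P : Subgroup G) → G → G := fun u a => (u : G) * a * (u : G)⁻¹
  have hfix1 : ∀ a ∈ K, a ∈ Z → ∀ u : (P : Subgroup G), act1 u a = a := fun a _ haZ u => by
    show (u : G) * a * (u : G)⁻¹ = a
    rw [← hZc a haZ u u.2, mul_inv_cancel_right]
  have hfree1 : ∀ a ∈ K, ∀ u : (P : Subgroup G), act1 u a = a → u ≠ 1 → a ∈ Z := fun a ha u h hu =>
    hKZ a ha (hcent u u.2 (fun h1 => hu (Subtype.ext h1)) a (mul_inv_eq_iff_eq_mul.mp h).symm)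
  set M := K.filter (fun a => a ∈ Z) with hM
  set m := M.card
  -- the size of `M` is prime to `p`
  have hzne : ∃ u : (P : Subgroup G), u ≠ 1 := ⟨⟨z, hzP⟩, fun h => hz1 (congrArg Subtype.val h)⟩
  obtain ⟨u₀, hu₀⟩ := hzne
  have hfilter : ∀ a ∈ K, (∀ u, act1 u a = a) ↔ a ∈ Z := fun a ha =>
    ⟨fun h => hfree1 a ha u₀ (h u₀) hu₀, hfix1 a ha⟩
  obtain ⟨y₀, hy₀, hcardK⟩ := Cfsg.Lib.Chars.exists_sum_eq_fixed_add act1 (fun a => by simp [act1])
    (fun u v a => by simp [act1, mul_assoc]) (fun _ => 1) (fun _ _ => rfl) (fun _ => isIntegral_one) K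
    (fun u a ha => hKc u a ha) (fun a ha => by
      by_cases haZ : a ∈ Z
      · exact Or.inl (hfix1 a ha haZ)
      · exact Or.inr fun u h => by by_contra hu; exact haZ (hfree1 a ha u h hu))
  rw [Finset.filter_congr hfilter, Finset.sum_const, Finset.sum_const, nsmul_one, nsmul_one] at hcardK
  have hint_dvd : ∀ (x : ℤ) (y : ℂ), IsIntegral ℤ y →
      (x : ℂ) = (Nat.card (P : Subgroup G) : ℂ) * y → (Nat.card (P : Subgroup G) : ℤ) ∣ x := by
    intro x y hy hxy
    have hne : (Nat.card (P : Subgroup G) : ℂ) ≠ 0 := by exact_mod_cast Nat.card_pos.ne'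
    have hy' : y = (((x : ℚ) / (Nat.card (P : Subgroup G) : ℚ) : ℚ) : ℂ) := by
      push_cast
      rw [eq_div_iff hne, hxy]; ring
    rw [hy'] at hy
    obtain ⟨w, hw⟩ := Cfsg.Lib.Chars.int_of_isIntegral_rat hy
    rw [div_eq_iff (by exact_mod_cast Nat.card_pos.ne')] at hw
    exact ⟨w, by rw [mul_comm]; exact_mod_cast hw⟩
  have hm : Nat.Coprime (Nat.card (P : Subgroup G)) m := by
    obtain ⟨k, hk⟩ := IsPGroup.iff_card.mp P.2
    rw [hk]
    refine Nat.Coprime.pow_left k ((hp.coprime_iff_not_dvd).mpr fun hdvd => ?_)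
    have hd1 : (Nat.card (P : Subgroup G) : ℤ) ∣ (K.card : ℤ) - m := hint_dvd _ y₀ hy₀ (by
      push_cast; rw [hcardK]; ring)
    have hpP : (p : ℤ) ∣ Nat.card (P : Subgroup G) := by
      have h1 := IsPGroup.iff_card.mp (P.2.to_le (Subgroup.zpowers_le.mpr hzP))
      obtain ⟨j, hj⟩ := h1
      have h2 : Nat.card (Subgroup.zpowers z) ∣ Nat.card (P : Subgroup G) :=
        Subgroup.card_dvd_of_le (Subgroup.zpowers_le.mpr hzP)
      rw [hj] at h2
      refine Int.natCast_dvd_natCast.mpr ((dvd_pow_self p ?_).trans h2)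
      intro hj0
      rw [hj0, pow_zero, Nat.card_zpowers, orderOf_eq_one_iff] at hj
      exact hz1 hj
    have hpK : (p : ℤ) ∣ K.card := by
      have := dvd_add (hpP.trans hd1) (Int.natCast_dvd_natCast.mpr hdvd)
      simpa using this
    have hKcard : K.card = (Subgroup.centralizer ({z} : Set G)).index := by
      rw [← Cfsg.Lib.Chars.card_isConj, Nat.card_eq_fintype_card, Fintype.card_subtype]
    rw [hKcard, Int.natCast_dvd_natCast] at hpK
    refine P.not_dvd_index (hpK.trans (Subgroup.index_dvd_of_le fun y hy => ?_))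
    exact Subgroup.mem_centralizer_singleton_iff.mpr (hZc z hz y hy).symm
  -- the two sums
  let act2 : ↥(P : Subgroup G) → G × G → G × G := fun u s => (act1 u s.1, act1 u s.2)
  have key : ∀ ε : G → G, (∀ (u : (P : Subgroup G)) (b : G), ε (act1 u b) = act1 u (ε b)) →
      ∃ y : ℂ, IsIntegral ℤ y ∧ ∑ a ∈ K, ∑ b ∈ K, ψ (a * ε b) =
        ∑ a ∈ M, ∑ b ∈ M, ψ (a * ε b) + (Nat.card (P : Subgroup G) : ℂ) * y := by
    intro ε hε
    obtain ⟨y, hy, he⟩ := Cfsg.Lib.Chars.exists_sum_eq_fixed_add act2 (fun s => by simp [act2, act1])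
      (fun u v s => by simp [act2, act1, mul_assoc]) (fun s => ψ (s.1 * ε s.2)) (fun u s => by
        show ψ (act1 u s.1 * ε (act1 u s.2)) = _
        rw [hε]
        show ψ ((u : G) * s.1 * (u : G)⁻¹ * ((u : G) * ε s.2 * (u : G)⁻¹)) = _
        rw [show (u : G) * s.1 * (u : G)⁻¹ * ((u : G) * ε s.2 * (u : G)⁻¹) =
          (u : G) * (s.1 * ε s.2) * (u : G)⁻¹ by group, hcf])
      (fun s => Cfsg.Lib.Chars.IsCharacter.isIntegral hψc _) (K ×ˢ K) (fun u s hs => by
        rw [Finset.mem_product] at hs ⊢; exact ⟨hKc u _ hs.1, hKc u _ hs.2⟩) (fun s hs => by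
        rw [Finset.mem_product] at hs
        by_cases h : s.1 ∈ Z ∧ s.2 ∈ Z
        · exact Or.inl fun u => Prod.ext (hfix1 _ hs.1 h.1 u) (hfix1 _ hs.2 h.2 u)
        · refine Or.inr fun u hu => ?_
          by_contra hu1
          exact h ⟨hfree1 _ hs.1 u (congrArg Prod.fst hu) hu1, hfree1 _ hs.2 u (congrArg Prod.snd hu) hu1⟩)
    refine ⟨y, hy, ?_⟩
    rw [← Finset.sum_product', ← Finset.sum_product', he]
    congr 2
    ext s
    simp only [Finset.mem_filter, Finset.mem_product, hM]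
    constructor
    · rintro ⟨⟨h1, h2⟩, h⟩
      exact ⟨⟨h1, (hfilter _ h1).mp fun u => congrArg Prod.fst (h u)⟩,
        ⟨h2, (hfilter _ h2).mp fun u => congrArg Prod.snd (h u)⟩⟩
    · rintro ⟨⟨h1, h3⟩, ⟨h2, h4⟩⟩
      exact ⟨⟨h1, h2⟩, fun u => Prod.ext (hfix1 _ h1 h3 u) (hfix1 _ h2 h4 u)⟩
  obtain ⟨y₁, hy₁, he₁⟩ := key id (fun _ _ => rfl)
  obtain ⟨y₂, hy₂, he₂⟩ := key (·⁻¹) (fun u b => by simp [act1, mul_assoc])
  have hMK : ∀ a ∈ M, a ∈ K ∧ a ∈ Z := fun a ha => Finset.mem_filter.mp ha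
  have hvalZ : ∀ w ∈ Z, w ≠ 1 → ψ w = n := fun w hw hw1 => by rw [hconst w hw z hz hw1 hz1, hn]
  have hval' : ∀ a ∈ K, ψ a⁻¹ = n := fun a ha => by
    obtain ⟨g, rfl⟩ := isConj_iff.mp (Finset.mem_filter.mp ha).2
    rw [show (g * z * g⁻¹)⁻¹ = g * z⁻¹ * g⁻¹ by group, hcf]
    exact hvalZ _ (inv_mem hz) (inv_ne_one.mpr hz1)
  have heq : ∑ a ∈ K, ∑ b ∈ K, ψ (a * id b) = ∑ a ∈ K, ∑ b ∈ K, ψ (a * b⁻¹) := by
    apply mul_left_cancel₀ (Cfsg.Lib.Chars.IsIrrCharacter.apply_one_ne_zero hψ)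
    rw [Cfsg.Lib.Chars.sum_sum_mul_irr hψ K hKc, Cfsg.Lib.Chars.sum_sum_mul_irr hψ K hKc,
      Finset.sum_congr rfl hval', ← Finset.sum_congr rfl hval]
    rfl
  have hs₁ : ∑ a ∈ M, ∑ b ∈ M, ψ (a * id b) = (m : ℂ) * m * n := by
    simp only [id_eq]
    rw [Finset.sum_congr rfl fun a ha => Finset.sum_congr rfl (g := fun _ => (n : ℂ)) fun b hb =>
      hvalZ _ (mul_mem (hMK a ha).2 (hMK b hb).2) fun h => by
        apply hinv a (hMK a ha).1
        rw [inv_eq_of_mul_eq_one_right h]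
        exact (hMK b hb).1]
    simp [m, mul_assoc]
  have hs₂ : ∑ a ∈ M, ∑ b ∈ M, ψ (a * b⁻¹) = (m : ℂ) * d₀ + (m : ℂ) * ((m : ℂ) - 1) * n := by
    rw [Finset.sum_congr rfl (g := fun _ => (d₀ : ℂ) + ((m : ℂ) - 1) * n) fun a ha => by
      rw [← Finset.add_sum_erase M _ ha, mul_inv_cancel, hd₀,
        Finset.sum_congr rfl (g := fun _ => (n : ℂ)) fun b hb => hvalZ _
          (mul_mem (hMK a ha).2 (inv_mem (hMK b (Finset.mem_of_mem_erase hb)).2))
          fun h => (Finset.mem_erase.mp hb).1 (mul_inv_eq_one.mp h).symm,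
        Finset.sum_const, Finset.card_erase_of_mem ha, nsmul_eq_mul,
        Nat.cast_sub (Finset.card_pos.mpr ⟨a, ha⟩), Nat.cast_one]]
    simp [m]; ring
  simp only [hs₁] at he₁
  simp only [hs₂] at he₂
  have hfin : (Nat.card (P : Subgroup G) : ℤ) ∣ (m : ℤ) * ((d₀ : ℤ) - n) :=
    hint_dvd _ (y₁ - y₂) (hy₁.sub hy₂) (by
      push_cast
      linear_combination he₁ - he₂ - heq)
  exact (Int.isCoprime_iff_nat_coprime.mpr (by simpa using hm)).dvd_of_dvd_mul_left hfin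

end Cfsg.Agent.S1523
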