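import Cfsg.Statements.S1531
import Cfsg.Agent.OddChar.Coherence

set_option autoImplicit false
open Cfsg

namespace Cfsg.Agent.S1531

/-- Let N be a subgroup of the finite group G, S a set of irreducible characters of N, and α a linear isometry on the integer combinations of S vanishing at 1 with values virtual characters of G vanishing at 1. Let X, Y ⊆ S be disjoint, each with at least two members, and σ, τ linear isometries on ℤ[X], ℤ[Y] into virtual characters agreeing with α on the members vanishing at 1. Then ⟨σ χ, τ η⟩ = 0 for χ ∈ X, η ∈ Y; and if for some χ₀ ∈ X, η₀ ∈ Y with degrees c = χ₀ 1, e = η₀ 1 one has α (c • η₀ − e • χ₀) = c • τ η₀ − e • σ χ₀, then (X ∪ Y, N minus 1, α) is coherent. -/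
theorem result {G : Type*} [Group G] [Fintype G] (N : Subgroup G) [Fintype N] (S X Y : Set (N → ℂ)) (hirr : ∀ ξ ∈ S, Cfsg.IsIrrCharacter N ξ) (hXS : X ⊆ S) (hYS : Y ⊆ S) (hXY : Disjoint X Y) (hX2 : ∃ a ∈ X, ∃ b ∈ X, a ≠ b) (hY2 : ∃ a ∈ Y, ∃ b ∈ Y, a ≠ b) (α : (N → ℂ) → (G → ℂ)) (hα : Cfsg.IsLinearIsometryOn (Cfsg.zspanOn S {1}ᶜ) α) (hα1 : ∀ θ ∈ Cfsg.zspanOn S {1}ᶜ, α θ 1 = 0) (σ τ : (N → ℂ) → (G → ℂ)) (hσ : Cfsg.IsLinearIsometryOn (Cfsg.zspan X) σ) (hσα : ∀ θ ∈ Cfsg.zspanOn X {1}ᶜ, σ θ = α θ) (hτ : Cfsg.IsLinearIsometryOn (Cfsg.zspan Y) τ) (hτα : ∀ θ ∈ Cfsg.zspanOn Y {1}ᶜ, τ θ = α θ) : (∀ χ ∈ X, ∀ η ∈ Y, Cfsg.classInner (σ χ) (τ η) = 0) ∧ ((∃ χ₀ ∈ X, ∃ η₀ ∈ Y, α (χ₀ 1 • η₀ - η₀ 1 • χ₀) = χ₀ 1 • τ η₀ - η₀ 1 • σ χ₀) → Cfsg.IsCoherent (X ∪ Y) {1}ᶜ α) := by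
  classical
  have hdeg : ∀ ξ ∈ S, ∃ k : ℕ, 0 < k ∧ ξ 1 = k := fun ξ hξ => by
    obtain ⟨k, hk⟩ := Cfsg.Lib.Chars.IsCharacter.apply_one
      (Cfsg.Lib.Chars.isCharacter_of_irr (hirr ξ hξ))
    refine ⟨k, Nat.pos_of_ne_zero fun h => ?_, hk⟩
    exact Cfsg.Lib.Chars.IsIrrCharacter.apply_one_ne_zero (hirr ξ hξ) (by rw [hk, h, Nat.cast_zero])
  have hinn : ∀ a ∈ S, ∀ b ∈ S, a ≠ b → Cfsg.classInner a b = 0 := fun a ha b hb h => by
    rw [Cfsg.Lib.Chars.classInner_irrChar (hirr a ha) (hirr b hb), if_neg h]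
  have hzX : ∀ {a}, a ∈ X → a ∈ Cfsg.zspan X := fun h => Cfsg.Lib.Coherence.subset_zspan h
  have hzY : ∀ {a}, a ∈ Y → a ∈ Cfsg.zspan Y := fun h => Cfsg.Lib.Coherence.subset_zspan h
  have hscal : ∀ (u v : G → ℂ) (m : ℤ), Cfsg.classInner u u = 1 → Cfsg.classInner v v = 1 →
      Cfsg.classInner u v = m → m ≠ 0 → (m = 1 ∨ m = -1) ∧ u = m • v := by
    intro u v m hu hv hm hm0
    have hvu : Cfsg.classInner v u = m := by
      rw [← Cfsg.Lib.Chars.classInner_conj_symm, hm]; simp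
    have h : Cfsg.classInner (u - m • v) (u - m • v) = ((1 - m * m : ℤ) : ℂ) := by
      rw [Cfsg.Lib.Chars.classInner_sub_left, Cfsg.Lib.Chars.classInner_sub_right,
        Cfsg.Lib.Chars.classInner_sub_right, Cfsg.Lib.Chars.classInner_zsmul_left,
        Cfsg.Lib.Chars.classInner_zsmul_left, Cfsg.Lib.Chars.classInner_zsmul_right,
        Cfsg.Lib.Chars.classInner_zsmul_right, hu, hv, hm, hvu]
      push_cast; ring
    have h1 : 0 ≤ 1 - m * m := by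
      have := Cfsg.Lib.Coherence.inner_self_re_nonneg (u - m • v)
      rw [h, Complex.intCast_re] at this
      exact_mod_cast this
    have h2 : 0 < m * m := mul_self_pos.mpr hm0
    have hmm : m * m = 1 := by omega
    refine ⟨mul_self_eq_one_iff.mp hmm, sub_eq_zero.mp ?_⟩
    rw [← Cfsg.Lib.Chars.classInner_self_eq_zero, h, hmm]; simp
  have horth : ∀ χ ∈ X, ∀ η ∈ Y, Cfsg.classInner (σ χ) (τ η) = 0 := by
    intro χ hχ η hη
    by_contra hne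
    obtain ⟨χ', hχ', hχne⟩ : ∃ a ∈ X, a ≠ χ := by
      obtain ⟨a, ha, b, hb, hab⟩ := hX2
      by_cases h : a = χ
      exacts [⟨b, hb, fun h' => hab (h.trans h'.symm)⟩, ⟨a, ha, h⟩]
    obtain ⟨η', hη', hηne⟩ : ∃ a ∈ Y, a ≠ η := by
      obtain ⟨a, ha, b, hb, hab⟩ := hY2
      by_cases h : a = η
      exacts [⟨b, hb, fun h' => hab (h.trans h'.symm)⟩, ⟨a, ha, h⟩]
    obtain ⟨c, hc0, hc⟩ := hdeg χ (hXS hχ)
    obtain ⟨c', hc0', hc'⟩ := hdeg χ' (hXS hχ')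
    obtain ⟨e, he0, he⟩ := hdeg η (hYS hη)
    obtain ⟨e', he0', he'⟩ := hdeg η' (hYS hη')
    have hnX : ∀ a ∈ X, Cfsg.classInner (σ a) (σ a) = 1 := fun a ha => by
      rw [hσ.2.2.1 a (hzX ha) a (hzX ha), Cfsg.Lib.Chars.classInner_self_irr (hirr a (hXS ha))]
    have hnY : ∀ a ∈ Y, Cfsg.classInner (τ a) (τ a) = 1 := fun a ha => by
      rw [hτ.2.2.1 a (hzY ha) a (hzY ha), Cfsg.Lib.Chars.classInner_self_irr (hirr a (hYS ha))]
    obtain ⟨s, hs⟩ := Cfsg.Lib.Coherence.inner_int (hσ.2.2.2 _ (hzX hχ)) (hτ.2.2.2 _ (hzY hη))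
    obtain ⟨t, ht⟩ := Cfsg.Lib.Coherence.inner_int (hσ.2.2.2 _ (hzX hχ')) (hτ.2.2.2 _ (hzY hη'))
    obtain ⟨hs1, hsv⟩ := hscal _ _ s (hnX χ hχ) (hnY η hη) hs (fun h => hne (by rw [hs, h]; simp))
    have hτv : τ η = s • σ χ := by
      rw [hsv, smul_smul]; rcases hs1 with h | h <;> simp [h]
    have h12 : Cfsg.classInner (σ χ) (τ η') = 0 := by
      rw [hsv, Cfsg.Lib.Chars.classInner_zsmul_left, hτ.2.2.1 _ (hzY hη) _ (hzY hη'),
        hinn η (hYS hη) η' (hYS hη') (Ne.symm hηne), mul_zero]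
    have h21 : Cfsg.classInner (σ χ') (τ η) = 0 := by
      rw [hτv, Cfsg.Lib.Chars.classInner_zsmul_right, hσ.2.2.1 _ (hzX hχ') _ (hzX hχ),
        hinn χ' (hXS hχ') χ (hXS hχ) hχne, mul_zero]
    set θ := (c' : ℤ) • χ - (c : ℤ) • χ' with hθdef
    set θ' := (e' : ℤ) • η - (e : ℤ) • η' with hθdef'
    have hθ : θ ∈ Cfsg.zspanOn X {1}ᶜ := Cfsg.Lib.Coherence.mem_one.mpr
      ⟨(Submodule.span ℤ X).sub_mem ((Submodule.span ℤ X).smul_mem _ (hzX hχ))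
        ((Submodule.span ℤ X).smul_mem _ (hzX hχ')), by simp [hθdef, hc, hc', mul_comm]⟩
    have hθ' : θ' ∈ Cfsg.zspanOn Y {1}ᶜ := Cfsg.Lib.Coherence.mem_one.mpr
      ⟨(Submodule.span ℤ Y).sub_mem ((Submodule.span ℤ Y).smul_mem _ (hzY hη))
        ((Submodule.span ℤ Y).smul_mem _ (hzY hη')), by simp [hθdef', he, he', mul_comm]⟩
    have hσθ : σ θ = (c' : ℤ) • σ χ - (c : ℤ) • σ χ' := by
      rw [hθdef, Cfsg.Lib.Coherence.map_sub' (Submodule.span ℤ X) hσ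
        ((Submodule.span ℤ X).smul_mem _ (hzX hχ)) ((Submodule.span ℤ X).smul_mem _ (hzX hχ')),
        hσ.2.1 _ (hzX hχ), hσ.2.1 _ (hzX hχ')]
    have hτθ : τ θ' = (e' : ℤ) • τ η - (e : ℤ) • τ η' := by
      rw [hθdef', Cfsg.Lib.Coherence.map_sub' (Submodule.span ℤ Y) hτ
        ((Submodule.span ℤ Y).smul_mem _ (hzY hη)) ((Submodule.span ℤ Y).smul_mem _ (hzY hη')),
        hτ.2.1 _ (hzY hη), hτ.2.1 _ (hzY hη')]
    have h0 : Cfsg.classInner (σ θ) (τ θ') = 0 := by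
      rw [hσα θ hθ, hτα θ' hθ', hα.2.2.1 θ (Cfsg.Lib.Coherence.zspanOn_mono hXS hθ) θ'
        (Cfsg.Lib.Coherence.zspanOn_mono hYS hθ')]
      have hd : ∀ a ∈ X, ∀ b ∈ Y, Cfsg.classInner a b = 0 := fun a ha b hb =>
        hinn a (hXS ha) b (hYS hb) (fun h => Set.disjoint_left.mp hXY ha (h ▸ hb))
      rw [hθdef, hθdef', Cfsg.Lib.Chars.classInner_sub_left, Cfsg.Lib.Chars.classInner_sub_right,
        Cfsg.Lib.Chars.classInner_sub_right]
      simp only [Cfsg.Lib.Chars.classInner_zsmul_left, Cfsg.Lib.Chars.classInner_zsmul_right,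
        hd χ hχ η hη, hd χ hχ η' hη', hd χ' hχ' η hη, hd χ' hχ' η' hη', mul_zero, sub_zero]
    rw [hσθ, hτθ, Cfsg.Lib.Chars.classInner_sub_left, Cfsg.Lib.Chars.classInner_sub_right,
      Cfsg.Lib.Chars.classInner_sub_right] at h0
    simp only [Cfsg.Lib.Chars.classInner_zsmul_left, Cfsg.Lib.Chars.classInner_zsmul_right,
      hs, ht, h12, h21, mul_zero, sub_zero, zero_sub] at h0
    have h0' : (c' : ℤ) * e' * s + (c : ℤ) * e * t = 0 := by
      apply Int.cast_injective (α := ℂ)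
      push_cast
      push_cast at h0
      linear_combination h0
    have hss : s * s = 1 := by rcases hs1 with h | h <;> simp [h]
    have ht0 : t ≠ 0 := by
      intro h
      rw [h, mul_zero, add_zero] at h0'
      rcases mul_eq_zero.mp h0' with h' | h'
      · rcases mul_eq_zero.mp h' with h'' | h'' <;> omega
      · rw [h'] at hss; norm_num at hss
    obtain ⟨ht1, htv⟩ := hscal _ _ t (hnX χ' hχ') (hnY η' hη') ht ht0
    have htt : t * t = 1 := by rcases ht1 with h | h <;> simp [h]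
    have e1 := hα1 θ (Cfsg.Lib.Coherence.zspanOn_mono hXS hθ)
    have e2 := hα1 θ' (Cfsg.Lib.Coherence.zspanOn_mono hYS hθ')
    rw [← hσα θ hθ, hσθ, hsv, htv] at e1
    rw [← hτα θ' hθ', hτθ] at e2
    simp at e1 e2
    have hA : τ η 1 ≠ 0 := by
      rcases Cfsg.Lib.Chars.isIrr_or_neg_of_norm_one (hτ.2.2.2 _ (hzY hη)) (hnY η hη) with h | h
      · exact Cfsg.Lib.Chars.IsIrrCharacter.apply_one_ne_zero h
      · simpa using Cfsg.Lib.Chars.IsIrrCharacter.apply_one_ne_zero h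
    have e3 : ((((c' : ℤ) * s * e - (c : ℤ) * t * e' : ℤ)) : ℂ) * τ η 1 = 0 := by
      push_cast
      linear_combination (e : ℂ) * e1 - (c : ℂ) * t * e2
    have e4 : (c' : ℤ) * s * e - (c : ℤ) * t * e' = 0 := by
      rcases mul_eq_zero.mp e3 with h | h
      exacts [by exact_mod_cast h, absurd h hA]
    have e5 : (c' : ℤ) ^ 2 * e * e' + (c : ℤ) ^ 2 * e * e' = 0 := by
      linear_combination (c' * e' * s : ℤ) * e4 + (c : ℤ) * t * e' * h0' -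
        ((c' : ℤ) ^ 2 * e * e') * hss - ((c : ℤ) ^ 2 * e * e') * htt
    have : (0 : ℤ) < (c' : ℤ) ^ 2 * e * e' + (c : ℤ) ^ 2 * e * e' := by positivity
    omega
  refine ⟨horth, ?_⟩
  rintro ⟨χ₀, hχ₀, η₀, hη₀, hh⟩
  obtain ⟨T, hT, hTiso⟩ := Cfsg.Lib.Coherence.exists_ext (G := G) (X ∪ Y)
    (fun a ha h => Cfsg.Lib.Chars.IsIrrCharacter.apply_one_ne_zero
      (hirr a (ha.elim (fun h => hXS h) (fun h => hYS h))) (by rw [h]; rfl))
    (fun a ha b hb => hinn a (ha.elim (fun h => hXS h) (fun h => hYS h)) b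
      (hb.elim (fun h => hXS h) (fun h => hYS h)))
    (fun a => if a ∈ X then σ a else τ a)
    (fun a ha => by
      split_ifs with h
      exacts [hσ.2.2.2 a (hzX h), hτ.2.2.2 a (hzY (ha.resolve_left h))])
    (fun a ha b hb => by
      split_ifs with h h'
      · exact hσ.2.2.1 a (hzX h) b (hzX h')
      · rw [horth a h b (hb.resolve_left h'), hinn a (hXS h) b (hYS (hb.resolve_left h'))
          (fun he => h' (he ▸ h))]
      · rename_i h'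
        rw [← Cfsg.Lib.Chars.classInner_conj_symm, horth b h' a (ha.resolve_left h), map_zero,
          hinn a (hYS (ha.resolve_left h)) b (hXS h') (fun he => h (he ▸ h'))]
      · exact hτ.2.2.1 a (hzY (ha.resolve_left h)) b (hzY (hb.resolve_left (by assumption))))
  have hTX : ∀ f ∈ Cfsg.zspan X, T f = σ f := fun f hf =>
    Cfsg.Lib.Coherence.eqOn_zspan hσ T (fun a ha => by rw [hT a (Or.inl ha), if_pos ha]) hf
  have hTY : ∀ f ∈ Cfsg.zspan Y, T f = τ f := fun f hf =>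
    Cfsg.Lib.Coherence.eqOn_zspan hτ T (fun a ha => by
      rw [hT a (Or.inr ha), if_neg (fun h => Set.disjoint_left.mp hXY h ha)]) hf
  obtain ⟨c, hc0, hc⟩ := hdeg χ₀ (hXS hχ₀)
  obtain ⟨e, he0, he⟩ := hdeg η₀ (hYS hη₀)
  have hsm : ∀ (k : ℕ) (g : N → ℂ), (k : ℂ) • g = (k : ℤ) • g := fun k g => by
    rw [← Int.cast_smul_eq_zsmul ℂ]; simp
  have hsm' : ∀ (k : ℕ) (g : G → ℂ), (k : ℂ) • g = (k : ℤ) • g := fun k g => by
    rw [← Int.cast_smul_eq_zsmul ℂ]; simp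
  rw [hc, he, hsm, hsm, hsm', hsm'] at hh
  refine ⟨?_, T, hTiso, fun f hf => ?_⟩
  · obtain ⟨a, ha, b, hb, hab⟩ := hX2
    obtain ⟨ka, hka0, hka⟩ := hdeg a (hXS ha)
    obtain ⟨kb, hkb0, hkb⟩ := hdeg b (hXS hb)
    refine ⟨(ka : ℤ) • b - (kb : ℤ) • a, Cfsg.Lib.Coherence.mem_one.mpr
      ⟨(Submodule.span ℤ _).sub_mem
        ((Submodule.span ℤ _).smul_mem _ (Cfsg.Lib.Coherence.subset_zspan (Or.inl hb)))
        ((Submodule.span ℤ _).smul_mem _ (Cfsg.Lib.Coherence.subset_zspan (Or.inl ha))),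
        by simp [hka, hkb, mul_comm]⟩, fun h => ?_⟩
    have h' := congrArg (fun g => Cfsg.classInner g b) h
    simp only [Cfsg.Lib.Chars.classInner_sub_left, Cfsg.Lib.Chars.classInner_zsmul_left,
      Cfsg.Lib.Chars.classInner_self_irr (hirr b (hXS hb)), hinn a (hXS ha) b (hXS hb) hab,
      Cfsg.Lib.Chars.classInner_zero_left] at h'
    simp at h'
    omega
  · have hXSo : X ⊆ S := hXS
    obtain ⟨hf1, hf2⟩ := Cfsg.Lib.Coherence.mem_one.mp hf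
    have hf1' : f ∈ Submodule.span ℤ X ⊔ Submodule.span ℤ Y := by
      rw [← Submodule.span_union]; exact hf1
    obtain ⟨x, hx, y, hy, hfxy⟩ := Submodule.mem_sup.mp hf1'
    obtain ⟨m, hm⟩ := Cfsg.Lib.Chars.IsGeneralizedCharacter.apply_one
      (Cfsg.Lib.Coherence.zspan_gen (fun a ha => Cfsg.Lib.Chars.IsCharacter.isGeneralized
        (Cfsg.Lib.Chars.isCharacter_of_irr (hirr a (hXS ha)))) hx)
    have hy1 : y 1 = -(m : ℂ) := by
      rw [← hfxy] at hf2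
      simp [hm] at hf2
      linear_combination hf2
    set θ₁ := (c : ℤ) • x - m • χ₀ with hθ₁
    set θ₂ := (e : ℤ) • y + m • η₀ with hθ₂
    set θ₃ := (c : ℤ) • η₀ - (e : ℤ) • χ₀ with hθ₃
    have m1 : θ₁ ∈ Cfsg.zspanOn X {1}ᶜ := Cfsg.Lib.Coherence.mem_one.mpr
      ⟨(Submodule.span ℤ X).sub_mem ((Submodule.span ℤ X).smul_mem _ hx)
        ((Submodule.span ℤ X).smul_mem _ (hzX hχ₀)), by simp [hθ₁, hm, hc, mul_comm]⟩
    have m2 : θ₂ ∈ Cfsg.zspanOn Y {1}ᶜ := Cfsg.Lib.Coherence.mem_one.mpr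
      ⟨(Submodule.span ℤ Y).add_mem ((Submodule.span ℤ Y).smul_mem _ hy)
        ((Submodule.span ℤ Y).smul_mem _ (hzY hη₀)), by simp [hθ₂, hy1, he, mul_comm]⟩
    have m3 : θ₃ ∈ Cfsg.zspanOn S {1}ᶜ := Cfsg.Lib.Coherence.mem_one.mpr
      ⟨(Submodule.span ℤ S).sub_mem
        ((Submodule.span ℤ S).smul_mem _ (Cfsg.Lib.Coherence.subset_zspan (hYS hη₀)))
        ((Submodule.span ℤ S).smul_mem _ (Cfsg.Lib.Coherence.subset_zspan (hXS hχ₀))),
        by simp [hθ₃, hc, he, mul_comm]⟩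
    have hdec : ((c * e : ℕ) : ℤ) • f = (e : ℤ) • θ₁ + ((c : ℤ) • θ₂ - m • θ₃) := by
      rw [← hfxy, hθ₁, hθ₂, hθ₃]
      funext z
      simp
      ring
    have h1 : T θ₁ = α θ₁ := by rw [hTX θ₁ m1.1, hσα θ₁ m1]
    have h2 : T θ₂ = α θ₂ := by rw [hTY θ₂ m2.1, hτα θ₂ m2]
    have h3 : T θ₃ = α θ₃ := by
      rw [hθ₃, map_sub, map_zsmul, map_zsmul, hTY η₀ (hzY hη₀), hTX χ₀ (hzX hχ₀), hh]
    have n1 := Cfsg.Lib.Coherence.zspanOn_mono hXS m1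
    have n2 := Cfsg.Lib.Coherence.zspanOn_mono hYS m2
    let E := Cfsg.Lib.Coherence.spanOn S ({1}ᶜ : Set N)
    have hfS : f ∈ E := Cfsg.Lib.Coherence.zspanOn_mono (Set.union_subset hXS hYS) hf
    have hkey : ((c * e : ℕ) : ℤ) • T f = ((c * e : ℕ) : ℤ) • α f := by
      rw [← map_zsmul, ← hα.2.1 f hfS, hdec, map_add, map_sub, map_zsmul, map_zsmul, map_zsmul,
        h1, h2, h3, hα.1 _ (E.smul_mem _ n1) _ (E.sub_mem (E.smul_mem _ n2) (E.smul_mem _ m3)),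
        Cfsg.Lib.Coherence.map_sub' E hα (E.smul_mem _ n2) (E.smul_mem _ m3),
        hα.2.1 _ n1, hα.2.1 _ n2, hα.2.1 _ m3]
    rw [← Int.cast_smul_eq_zsmul ℂ, ← Int.cast_smul_eq_zsmul ℂ] at hkey
    exact smul_right_injective _ (by exact_mod_cast (Nat.mul_pos hc0 he0).ne') hkey

end Cfsg.Agent.S1531
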