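import Cfsg.Statements.S1529
import Cfsg.Agent.Chars.Core
import Cfsg.Prelude.Def_OddOrderChar

set_option autoImplicit false
open Cfsg

namespace Cfsg.Agent.S1529

/-- Let N be a subgroup of the finite group G, S a set of irreducible characters of N with at least two members, and τ₁ a linear isometry on the integer combinations of S with virtual-character values such that τ₁ α vanishes at 1 whenever α ∈ ℤ[S] does. Then there is ε ∈ {1, −1} such that ε • τ₁ χ is an irreducible character of G for every χ ∈ S, and distinct members of S give distinct characters. -/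
theorem result {G : Type*} [Group G] [Fintype G] (N : Subgroup G) [Fintype N] (S : Set (N → ℂ)) (hirr : ∀ χ ∈ S, Cfsg.IsIrrCharacter N χ) (htwo : ∃ χ ∈ S, ∃ ψ ∈ S, χ ≠ ψ) (τ₁ : (N → ℂ) → (G → ℂ)) (hτ₁ : Cfsg.IsLinearIsometryOn (Cfsg.zspan S) τ₁) (h0 : ∀ α ∈ Cfsg.zspan S, α 1 = 0 → τ₁ α 1 = 0) : ∃ ε : ℂ, (ε = 1 ∨ ε = -1) ∧ (∀ χ ∈ S, Cfsg.IsIrrCharacter G (ε • τ₁ χ)) ∧ (∀ χ ∈ S, ∀ ψ ∈ S, τ₁ χ = τ₁ ψ → χ = ψ) := by
  classical
  have hS : ∀ χ ∈ S, χ ∈ Cfsg.zspan S := fun χ h => Submodule.subset_span h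
  obtain ⟨hadd, hsmul, hiso, hgen⟩ := hτ₁
  have hcase : ∀ χ ∈ S, Cfsg.IsIrrCharacter G (τ₁ χ) ∨ Cfsg.IsIrrCharacter G (-τ₁ χ) := fun χ hχ =>
    Cfsg.Lib.Chars.isIrr_or_neg_of_norm_one (hgen χ (hS χ hχ))
      (by rw [hiso χ (hS χ hχ) χ (hS χ hχ), Cfsg.Lib.Chars.classInner_self_irr (hirr χ hχ)])
  have hrel : ∀ χ ∈ S, ∀ ψ ∈ S, ∃ a b : ℕ, 0 < a ∧ 0 < b ∧ (b : ℂ) * τ₁ χ 1 = (a : ℂ) * τ₁ ψ 1 := by
    intro χ hχ ψ hψ
    obtain ⟨a, ha, ha'⟩ := Cfsg.Lib.Chars.IsIrrCharacter.apply_one (hirr χ hχ)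
    obtain ⟨b, hb, hb'⟩ := Cfsg.Lib.Chars.IsIrrCharacter.apply_one (hirr ψ hψ)
    refine ⟨a, b, ha, hb, ?_⟩
    have hm1 : (b : ℤ) • χ ∈ Cfsg.zspan S := Submodule.smul_mem _ _ (hS χ hχ)
    have hm2 : (-(a : ℤ)) • ψ ∈ Cfsg.zspan S := Submodule.smul_mem _ _ (hS ψ hψ)
    have h := h0 _ (Submodule.add_mem _ hm1 hm2) (by
      simp only [← Int.cast_smul_eq_zsmul ℂ, Pi.add_apply, Pi.smul_apply, smul_eq_mul, ha', hb']; push_cast; ring)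
    rw [hadd _ hm1 _ hm2, hsmul _ (hS χ hχ), hsmul _ (hS ψ hψ)] at h
    simp only [← Int.cast_smul_eq_zsmul ℂ, Pi.add_apply, Pi.smul_apply, smul_eq_mul] at h
    push_cast at h
    linear_combination h
  have hmix : ∀ χ ∈ S, ∀ ψ ∈ S, Cfsg.IsIrrCharacter G (τ₁ χ) → Cfsg.IsIrrCharacter G (-τ₁ ψ) → False := by
    intro χ hχ ψ hψ h1 h2
    obtain ⟨a, b, ha, hb, h⟩ := hrel χ hχ ψ hψ
    obtain ⟨i, hi, hi'⟩ := Cfsg.Lib.Chars.IsIrrCharacter.apply_one h1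
    obtain ⟨j, hj, hj'⟩ := Cfsg.Lib.Chars.IsIrrCharacter.apply_one h2
    rw [Pi.neg_apply] at hj'
    rw [hi', show τ₁ ψ 1 = -(j : ℂ) by linear_combination -hj'] at h
    have : ((b * i + a * j : ℕ) : ℂ) = 0 := by push_cast; linear_combination h
    rw [Nat.cast_eq_zero] at this
    have := Nat.mul_pos hb hi
    omega
  have hinj : ∀ χ ∈ S, ∀ ψ ∈ S, τ₁ χ = τ₁ ψ → χ = ψ := by
    intro χ hχ ψ hψ h
    by_contra hne
    have h1 := hiso χ (hS χ hχ) χ (hS χ hχ)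
    conv_lhs at h1 => enter [2]; rw [h]
    rw [hiso χ (hS χ hχ) ψ (hS ψ hψ), Cfsg.Lib.Chars.classInner_irrChar (hirr χ hχ) (hirr ψ hψ),
      Cfsg.Lib.Chars.classInner_self_irr (hirr χ hχ), if_neg hne] at h1
    exact zero_ne_one h1
  obtain ⟨χ₀, hχ₀, -⟩ := htwo
  rcases hcase χ₀ hχ₀ with h | h
  · refine ⟨1, Or.inl rfl, fun ψ hψ => ?_, hinj⟩
    rw [one_smul]
    exact (hcase ψ hψ).resolve_right fun h' => hmix χ₀ hχ₀ ψ hψ h h'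
  · refine ⟨-1, Or.inr rfl, fun ψ hψ => ?_, hinj⟩
    rw [neg_one_smul]
    exact (hcase ψ hψ).resolve_left fun h' => hmix ψ hψ χ₀ hχ₀ h' h

end Cfsg.Agent.S1529
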