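import Cfsg.Statements.S5737
import Cfsg.Agent.Suz.Binary.Main
import Cfsg.Agent.Suz.Lie
-- import your own Cfsg.Agent.* helpers here

set_option autoImplicit false
open Cfsg

namespace Cfsg.Agent.S5737

/-- Let G = Sz(q) be a Suzuki group, q = 2^(2a+1) with a ≥ 1 (realised inside Sp₄ over the field with q elements), and let H be a proper subgroup of G. Then the action of G on the cosets of H is binary if and only if H is trivial or H is the centre of a Sylow 2-subgroup of G. Here an action is binary (relational complexity 2) when, for every n ≥ 2 and all n-tuples I, J of points, if for every pair of positions some group element carries the corresponding pair of entries of I to those of J, then a single group element carries I to J. -/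
theorem result {F : Type*} [Field F] [Fintype F] (a : ℕ) (ha : 1 ≤ a) (hF : Fintype.card F = 2 ^ (2 * a + 1))
    (H : Subgroup (Cfsg.Lie.Sz F (2 ^ (a + 1)))) (hH : H ≠ ⊤) :
    (∀ (n : ℕ) (I J : Fin n → (Cfsg.Lie.Sz F (2 ^ (a + 1))) ⧸ H), 2 ≤ n →
        (∀ i j : Fin n, i ≠ j → ∃ g : (Cfsg.Lie.Sz F (2 ^ (a + 1))), g • I i = J i ∧ g • I j = J j) → ∃ g : (Cfsg.Lie.Sz F (2 ^ (a + 1))), ∀ i, g • I i = J i) ↔
      (H = ⊥ ∨ ∃ P : Sylow 2 (Cfsg.Lie.Sz F (2 ^ (a + 1))), H = (Subgroup.center (P : Subgroup (Cfsg.Lie.Sz F (2 ^ (a + 1))))).map (P : Subgroup (Cfsg.Lie.Sz F (2 ^ (a + 1)))).subtype) := by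
  have Q : Cfsg.Lib.Suz.Par F a := ⟨ha, hF⟩
  have key : Cfsg.Lib.Suz.Binary.Bin H ↔
      (H = ⊥ ∨ ∃ P : Sylow 2 (Cfsg.Lie.Sz F (2 ^ (a + 1))),
        H = (Subgroup.center (P : Subgroup (Cfsg.Lie.Sz F (2 ^ (a + 1))))).map
          (P : Subgroup (Cfsg.Lie.Sz F (2 ^ (a + 1)))).subtype) := by
    let e := Cfsg.Lib.Suz.lieEquiv Q
    haveI : Finite ↥(Cfsg.Lie.Sz F (2 ^ (a + 1))) := Finite.of_equiv _ e.toEquiv
    have hback : (H.map e.symm.toMonoidHom).map e.toMonoidHom = H := by
      rw [Subgroup.map_map]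
      convert Subgroup.map_id H
      ext x
      simp
    have htop : H.map e.symm.toMonoidHom ≠ ⊤ := fun h => hH (by
      rw [← hback, h, Subgroup.map_top_of_surjective _ e.surjective])
    have hb : Cfsg.Lib.Suz.Binary.Bin H ↔ Cfsg.Lib.Suz.Binary.Bin (H.map e.symm.toMonoidHom) :=
      ⟨Cfsg.Lib.Suz.Binary.bin_map e.symm rfl, Cfsg.Lib.Suz.Binary.bin_map e hback⟩
    rw [hb, Cfsg.Lib.Suz.Binary.main Q htop]
    refine or_congr (Subgroup.map_eq_bot_iff_of_injective _ e.symm.injective) ?_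
    have hsyl : ∀ {A B : Type _} [Group A] [Group B] [Finite A] (f : A ≃* B) (P : Sylow 2 A),
        ∃ P' : Sylow 2 B, (Subgroup.center (P' : Subgroup B)).map (P' : Subgroup B).subtype =
          ((Subgroup.center (P : Subgroup A)).map (P : Subgroup A).subtype).map f.toMonoidHom := by
      intro A B _ _ _ f P
      refine ⟨P.mapSurjective (f := f.toMonoidHom) f.surjective, ?_⟩
      ext z
      simp only [Subgroup.mem_map]
      constructor
      · rintro ⟨w, hw, rfl⟩
        obtain ⟨v, hv, hvw⟩ := w.2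
        refine ⟨v, ⟨⟨v, hv⟩, Subgroup.mem_center_iff.2 fun u => Subtype.ext (f.injective ?_), rfl⟩, hvw⟩
        show f (u.1 * v) = f (v * u.1)
        rw [map_mul, map_mul, show f v = w.1 from hvw]
        exact congrArg Subtype.val (Subgroup.mem_center_iff.1 hw ⟨f u.1, ⟨u.1, u.2, rfl⟩⟩)
      · rintro ⟨v, ⟨v', hv', rfl⟩, rfl⟩
        refine ⟨⟨f v'.1, ⟨v'.1, v'.2, rfl⟩⟩, Subgroup.mem_center_iff.2 fun u => Subtype.ext ?_, rfl⟩
        obtain ⟨w, hw, hwu⟩ := u.2
        have := congrArg (fun z => f (Subtype.val z)) (Subgroup.mem_center_iff.1 hv' ⟨w, hw⟩)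
        show u.1 * f v'.1 = f v'.1 * u.1
        rw [← show f w = u.1 from hwu, ← map_mul, ← map_mul]
        exact this
    constructor
    · rintro ⟨P, hP⟩
      obtain ⟨P', hP'⟩ := hsyl e P
      exact ⟨P', by rw [hP', ← hP, hback]⟩
    · rintro ⟨P, hP⟩
      obtain ⟨P', hP'⟩ := hsyl e.symm P
      exact ⟨P', by rw [hP', ← hP]⟩
  exact key

end Cfsg.Agent.S5737
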