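import Cfsg.Statements.S2427
import Cfsg.Agent.Classical.Misc.SmallFacts
import Cfsg.Agent.Classical.Misc.SLTwoTori

set_option autoImplicit false
open Cfsg

namespace Cfsg.Agent.S2427

/-- The group SL₂ over the field with 3 elements has order 24 and centre of order 2; its commutator subgroup has order 8, is isomorphic to the quaternion group of order 8 and is complemented by every Sylow 3-subgroup (so the group is a semidirect product of a quaternion group of order 8 by a cyclic group of order 3); and its only normal subgroups besides the trivial subgroup and the whole group are the centre and the commutator subgroup. -/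
theorem result :
    Nat.card (Matrix.SpecialLinearGroup (Fin 2) (ZMod 3)) = 24 ∧
    Nat.card (Subgroup.center (Matrix.SpecialLinearGroup (Fin 2) (ZMod 3))) = 2 ∧
    Nat.card (commutator (Matrix.SpecialLinearGroup (Fin 2) (ZMod 3))) = 8 ∧
    Nonempty (commutator (Matrix.SpecialLinearGroup (Fin 2) (ZMod 3)) ≃* QuaternionGroup 2) ∧
    (∀ P : Sylow 3 (Matrix.SpecialLinearGroup (Fin 2) (ZMod 3)),
      Subgroup.IsComplement' (commutator (Matrix.SpecialLinearGroup (Fin 2) (ZMod 3)))
        (P : Subgroup (Matrix.SpecialLinearGroup (Fin 2) (ZMod 3)))) ∧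
    ∀ N : Subgroup (Matrix.SpecialLinearGroup (Fin 2) (ZMod 3)), N.Normal →
      N = ⊥ ∨ N = ⊤ ∨ N = Subgroup.center (Matrix.SpecialLinearGroup (Fin 2) (ZMod 3)) ∨
        N = commutator (Matrix.SpecialLinearGroup (Fin 2) (ZMod 3)) := by
  classical
  set G := Matrix.SpecialLinearGroup (Fin 2) (ZMod 3) with hG
  have hcard : Nat.card G = 24 := by
    rw [Cfsg.Lib.Classical.SLTwoTori.card_SL2, ZMod.card]; norm_num
  obtain ⟨Q, hQn, hQi, ⟨eQ⟩⟩ := Cfsg.Lib.Classical.SmallFacts.exists_quaternion (F := ZMod 3) (ZMod.card 3)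
  have hcenter := Cfsg.Lib.Classical.SmallFacts.card_center (F := ZMod 3) (ZMod.card 3)
  have key1 : ∀ g : G, g = 1 ∨ g = -1 ∨ ∃ x : G, Matrix.trace ((x * g * x⁻¹ * g⁻¹ : G) : Matrix (Fin 2) (Fin 2) (ZMod 3)) = 0 := by
    decide +kernel
  have key2 : ∀ t : G, Matrix.trace (t : Matrix (Fin 2) (Fin 2) (ZMod 3)) = 0 →
      ∀ t' : G, Matrix.trace (t' : Matrix (Fin 2) (Fin 2) (ZMod 3)) = 0 → ∃ y : G, y * t = t' * y := by
    decide +kernel
  have key3 : ∀ t : G, Matrix.trace (t : Matrix (Fin 2) (Fin 2) (ZMod 3)) = 0 → t * t = -1 := by decide +kernel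
  have key4 : (Finset.univ.filter fun g : G => Matrix.trace (g : Matrix (Fin 2) (Fin 2) (ZMod 3)) = 0 ∨ g = 1 ∨ g = -1).card = 8 := by
    decide +kernel
  have key5 : (-1 : G) ≠ 1 := by decide +kernel
  have key6 : ∀ g : G, g * -1 = -1 * g := by decide +kernel
  have hZ : ∀ g : G, g ∈ Subgroup.center G → g = 1 ∨ g = -1 := by
    intro g hg
    have hsub : ({1, -1} : Set G) ⊆ (Subgroup.center G : Set G) := by
      rintro x (rfl | rfl)
      · exact one_mem _
      · exact Subgroup.mem_center_iff.2 key6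
    have := Set.eq_of_subset_of_ncard_le hsub (by
      rw [Set.ncard_pair key5.symm, ← Nat.card_coe_set_eq]; exact hcenter.le) (Set.toFinite _)
    simpa using (this ▸ hg : g ∈ ({1, -1} : Set G))
  let T : Finset G := Finset.univ.filter fun g : G => Matrix.trace (g : Matrix (Fin 2) (Fin 2) (ZMod 3)) = 0 ∨ g = 1 ∨ g = -1
  have hbig : ∀ N : Subgroup G, N.Normal → ¬ N ≤ Subgroup.center G → (T : Set G) ⊆ (N : Set G) := by
    intro N hN hnc
    obtain ⟨g, hg, hgc⟩ := SetLike.not_le_iff_exists.1 hnc
    obtain ⟨x, hx⟩ : ∃ x : G, Matrix.trace ((x * g * x⁻¹ * g⁻¹ : G) : Matrix (Fin 2) (Fin 2) (ZMod 3)) = 0 := by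
      rcases key1 g with rfl | rfl | h
      · exact absurd (one_mem _) hgc
      · exact absurd (Subgroup.mem_center_iff.2 key6) hgc
      · exact h
    have hs : x * g * x⁻¹ * g⁻¹ ∈ N := mul_mem (hN.conj_mem g hg x) (inv_mem hg)
    have htr : ∀ t : G, Matrix.trace (t : Matrix (Fin 2) (Fin 2) (ZMod 3)) = 0 → t ∈ N := fun t ht => by
      obtain ⟨y, hy⟩ := key2 _ hx t ht
      rw [show t = y * (x * g * x⁻¹ * g⁻¹) * y⁻¹ from eq_mul_inv_of_mul_eq hy.symm]
      exact hN.conj_mem _ hs y
    intro t ht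
    rw [Finset.mem_coe, Finset.mem_filter] at ht
    rcases ht.2 with h | rfl | rfl
    · exact htr t h
    · exact one_mem _
    · rw [← key3 _ hx]; exact mul_mem hs hs
  have hC : ¬ commutator G ≤ Subgroup.center G := by
    intro hle
    have hmem : ∀ a b : G, a * b * a⁻¹ * b⁻¹ = 1 ∨ a * b * a⁻¹ * b⁻¹ = -1 := fun a b =>
      hZ _ (hle (by rw [← commutatorElement_def]; exact Subgroup.commutator_mem_commutator (Subgroup.mem_top _) (Subgroup.mem_top _)))
    have : ¬ ∀ a b : G, a * b * a⁻¹ * b⁻¹ = 1 ∨ a * b * a⁻¹ * b⁻¹ = -1 := by decide +kernel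
    exact this hmem
  have hQ8 : Nat.card Q = 8 := by rw [Nat.card_congr eQ.toEquiv, Nat.card_eq_fintype_card, QuaternionGroup.card]
  have hle : commutator G ≤ Q := by
    haveI := hQn
    haveI : Fact (Nat.Prime 3) := ⟨Nat.prime_three⟩
    haveI : IsCyclic (G ⧸ Q) := isCyclic_of_prime_card (p := 3) hQi
    rw [← QuotientGroup.ker_mk' Q, commutator_def, Subgroup.commutator_le]
    intro a _ b _
    rw [MonoidHom.mem_ker, map_commutatorElement, commutatorElement_eq_one_iff_mul_comm]
    exact IsCyclic.commGroup.mul_comm _ _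
  have hC8 : Nat.card (commutator G) = 8 := by
    refine le_antisymm (hQ8 ▸ Subgroup.card_le_of_le hle) ?_
    have := Set.ncard_le_ncard (hbig _ inferInstance hC) (Set.toFinite _)
    rwa [Set.ncard_coe_finset, key4, ← Nat.card_coe_set_eq] at this
  have hCQ : commutator G = Q := Subgroup.eq_of_le_of_card_ge hle (hC8.symm ▸ hQ8.le)
  refine ⟨hcard, hcenter, hC8, ⟨(MulEquiv.subgroupCongr hCQ).trans eQ⟩, fun P => ?_, fun N hN => ?_⟩
  · have hP : Nat.card (P : Subgroup G) = 3 := by
      haveI : Fact (Nat.Prime 3) := ⟨Nat.prime_three⟩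
      rw [P.card_eq_multiplicity, hcard]
      rw [show (24 : ℕ) = 2 ^ 3 * 3 by norm_num, Nat.factorization_mul (by norm_num) (by norm_num), Finsupp.add_apply,
        Nat.prime_two.factorization_pow, Nat.prime_three.factorization]
      simp [Finsupp.single_apply]
    exact Subgroup.isComplement'_of_coprime (by rw [hC8, hP, hcard]) (by rw [hC8, hP]; norm_num)
  · by_cases hNc : N ≤ Subgroup.center G
    · have hdvd := Subgroup.card_dvd_of_le hNc
      rw [show Nat.card (Subgroup.center G) = 2 from hcenter] at hdvd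
      rcases (Nat.dvd_prime Nat.prime_two).1 hdvd with h | h
      · exact .inl (Subgroup.card_eq_one.1 h)
      · exact .inr (.inr (.inl (Subgroup.eq_of_le_of_card_ge hNc (by rw [h]; exact hcenter.le))))
    · have hCN : commutator G ≤ N := by
        intro z hz
        have hsub : (T : Set G) = (commutator G : Set G) :=
          Set.eq_of_subset_of_ncard_le (hbig _ inferInstance hC)
            (by rw [Set.ncard_coe_finset, key4, ← Nat.card_coe_set_eq]; exact hC8.le) (Set.toFinite _)
        exact hbig N hN hNc (hsub.symm ▸ hz : z ∈ (T : Set G))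
      have hd := Subgroup.card_dvd_of_le hCN
      have hd2 := Subgroup.card_subgroup_dvd_card N
      rw [hC8] at hd
      rw [hcard] at hd2
      obtain ⟨k, hk⟩ := hd
      rw [hk, show (24 : ℕ) = 8 * 3 by norm_num] at hd2
      rcases (Nat.dvd_prime Nat.prime_three).1 (Nat.dvd_of_mul_dvd_mul_left (by norm_num) hd2) with h | h
      · exact .inr (.inr (.inr (Subgroup.eq_of_le_of_card_ge hCN (by rw [hk, h, hC8])).symm))
      · exact .inr (.inl (Subgroup.eq_top_of_card_eq N (by rw [hk, h, hcard])))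

end Cfsg.Agent.S2427
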