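import Cfsg.Statements.S4687
import Cfsg.Agent.Blocks.Principal
import Cfsg.Agent.Blocks.Inertia
-- import your own Cfsg.Agent.* helpers here

set_option autoImplicit false
open Cfsg

namespace Cfsg.Agent.S4687

set_option linter.unusedSectionVars false

open Cfsg.Lib.Blocks

/-- Fix a prime p and a maximal ideal M of the algebraic integers containing p, and a p-block B of the finite group G with maximal Brauer pair (P, e), P abelian. Then B is nilpotent if and only if its inertial quotient is trivial: every element of N_G(P) stabilizing e centralizes P. -/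
theorem result {G : Type*} [Group G] [Fintype G] (p : ℕ) [Fact p.Prime] (M : Ideal Cfsg.AlgInt) (hM : Cfsg.IsPModular p M) (B : Set (Cfsg.IrrCharacter G)) (P : Subgroup G) (e : Set (Cfsg.IrrCharacter (Subgroup.centralizer (P : Set G)))) (hmax : Cfsg.IsMaximalBrauerPair p M B P e) (hab : ∀ x ∈ P, ∀ y ∈ P, x * y = y * x) : Cfsg.IsNilpotentBlock p M B ↔ ∀ x : G, x ∈ Subgroup.normalizer (P : Set G) → Cfsg.StabilizesBlock (Subgroup.centralizer (P : Set G)) e x → x ∈ Subgroup.centralizer (P : Set G) := by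
  classical
  have hPC : P ≤ Subgroup.centralizer (P : Set G) := fun y hy =>
    Subgroup.mem_centralizer_iff.2 fun q hq => hab q hq y hy
  constructor
  · intro hnil x hxN hxs
    obtain ⟨T, hT⟩ : ∃ T : Subgroup G, IsPairStab P e T := ⟨_, (isPairStab_iff hM hmax.1.1.2).2 rfl⟩
    have hxT : x ∈ T := (hT x).2 ⟨hxN, hxs⟩
    set C' := (Subgroup.centralizer (P : Set G)).subgroupOf T with hC'
    haveI : C'.Normal := ⟨fun c hc t => (Subgroup.mem_normalizer_iff.1
      (centralizer_le_normalizer_centralizer (hT.le_normalizer t.2) le_rfl) (c : G)).1 hc⟩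
    have hidx : ¬ p ∣ C'.index := by
      have h := congrArg (fun n : ℕ => n.factorization p) (Subgroup.card_mul_index C')
      simp only [Nat.factorization_mul Nat.card_pos.ne' Subgroup.index_ne_zero_of_finite,
        Finsupp.add_apply, inertia_factorization hM hmax hT, sup_eq_left.2 hPC] at h
      have hcardC : Nat.card C' = Nat.card (Subgroup.centralizer (P : Set G)) :=
        Nat.card_congr (Subgroup.subgroupOfEquivOfLe (hT.self_le hM hmax.1.1.2).2).toEquiv
      rw [hcardC] at h
      intro hd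
      have := (Fact.out : p.Prime).factorization_pos_of_dvd Subgroup.index_ne_zero_of_finite hd
      omega
    obtain ⟨a, m, hm, hord⟩ := Nat.exists_eq_pow_mul_and_not_dvd (orderOf_pos x).ne' p
      (Fact.out : p.Prime).ne_one
    have hreg : Cfsg.IsPRegular p (x ^ p ^ a) := by
      show ¬ p ∣ orderOf (x ^ p ^ a)
      rw [orderOf_pow' x (pow_ne_zero a (Fact.out : p.Prime).ne_zero), hord,
        Nat.gcd_eq_right (dvd_mul_right _ _), Nat.mul_div_cancel_left _
          (pow_pos (Fact.out : p.Prime).pos a)]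
      exact hm
    have hxa : x ^ p ^ a ∈ T := pow_mem hxT _
    have h1 : (⟨x, hxT⟩ : T) ^ p ^ a ∈ C' :=
      hnil.2 P e hmax.1 _ ((hT _).1 hxa).1 ((hT _).1 hxa).2 hreg
    have h2 : (⟨x, hxT⟩ : T) ^ C'.index ∈ C' := C'.pow_index_mem _
    have hco : Nat.Coprime (p ^ a) C'.index :=
      Nat.Coprime.pow_left a (((Fact.out : p.Prime).coprime_iff_not_dvd).2 hidx)
    have key : (⟨x, hxT⟩ : T) ∈ C' := by
      have h := Nat.gcd_eq_gcd_ab (p ^ a) C'.index
      rw [hco.gcd_eq_one, Nat.cast_one] at h
      rw [← zpow_one (⟨x, hxT⟩ : T), h, zpow_add, zpow_mul, zpow_mul, zpow_natCast, zpow_natCast]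
      exact mul_mem (zpow_mem h1 _) (zpow_mem h2 _)
    exact key
  · intro h
    refine ⟨hmax.1.2.1, fun R g hRg x hxN hxs _ => ?_⟩
    obtain ⟨w, hw⟩ := exists_conj_subpairLE hM hmax hRg
    have hxN' : w * x * w⁻¹ ∈ Subgroup.normalizer
        ((R.map (MulAut.conj w).toMonoidHom : Subgroup G) : Set G) :=
      Subgroup.le_normalizer_map _ ⟨x, hxN, rfl⟩
    obtain ⟨y, hyN, hye, c, hc, hxy⟩ := exists_stab_decomp hM hmax hab hw hxN' (by
      rw [bi_conjBlock, cj_cj, inv_mul_cancel_right, ← cj_cj,
        (stabilizes_iff_of_normalizer hM hRg.1.2 hxN).1 hxs])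
    have hyC : y ∈ Subgroup.centralizer ((R.map (MulAut.conj w).toMonoidHom : Subgroup G) : Set G) :=
      le_centralizer_of_le (subpairLE_le hw)
        (h y hyN ((stabilizes_iff_of_normalizer hM hmax.1.1.2 hyN).2 hye))
    have hw' := (isConjSub_centralizer R w (w * x * w⁻¹)).1 (hxy ▸ mul_mem hyC hc)
    rwa [show w⁻¹ * (w * x * w⁻¹) * w = x by group] at hw'

end Cfsg.Agent.S4687
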