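import Cfsg.Statements.S4678
import Cfsg.Agent.Blocks.BlockFusion
-- import your own Cfsg.Agent.* helpers here

set_option autoImplicit false
open Cfsg

namespace Cfsg.Agent.S4678

set_option linter.unusedSectionVars false

open Cfsg.Lib.Blocks

/-- Fix a prime p and a maximal ideal M of the algebraic integers containing p, a p-block B of the finite group G with maximal Brauer pair (P, e), its fusion system F on P, and a Brauer pair (Q, f) ≤ (P, e). Then Q is fully centralized in F if and only if C_P(Q) is a defect group of f as a block of C_G(Q). -/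
theorem result {G : Type*} [Group G] [Fintype G] (p : ℕ) [Fact p.Prime] (M : Ideal Cfsg.AlgInt) (hM : Cfsg.IsPModular p M) (B : Set (Cfsg.IrrCharacter G)) (P : Subgroup G) (e : Set (Cfsg.IrrCharacter (Subgroup.centralizer (P : Set G)))) (hmax : Cfsg.IsMaximalBrauerPair p M B P e) (F : Cfsg.FusionSystem P) (hF : Cfsg.IsBlockFusionSystemOn p M B P e F) (Q : Subgroup G) (f : Set (Cfsg.IrrCharacter (Subgroup.centralizer (Q : Set G)))) (hQP : Q ≤ P) (hf : Cfsg.IsPBlock M f) (hle : Cfsg.SubpairLE p M Q f P e) : F.IsFullyCentralized Q ↔ Cfsg.IsDefectGroup p M f ((P ⊓ Subgroup.centralizer (Q : Set G)).subgroupOf (Subgroup.centralizer (Q : Set G))) := by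
  classical
  have hB := isBrauerPairOf_of_le hM hmax hle
  obtain ⟨D, hD, hPD⟩ := exists_defect_ge hM hmax.1.1 hle
  have hcard : Nat.card ((P ⊓ Subgroup.centralizer (Q : Set G)).subgroupOf
      (Subgroup.centralizer (Q : Set G))) = Nat.card (Cfsg.FusionSystem.centralizerIn P Q) :=
    Nat.card_congr (Subgroup.subgroupOfEquivOfLe inf_le_right).toEquiv
  constructor
  · intro hfc
    obtain ⟨x, hx, heq⟩ := exists_conj_defect hM hmax hB hD
    have h1 := hfc.2 _ ((blockFusion_isConj_iff hM hF hle _).2 ⟨x, rfl, hx⟩)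
    suffices h : (P ⊓ Subgroup.centralizer (Q : Set G)).subgroupOf _ = D by rw [h]; exact hD
    refine Subgroup.eq_of_le_of_card_ge hPD ?_
    rw [hcard]
    refine le_trans (le_of_eq ?_) h1
    rw [Cfsg.FusionSystem.centralizerIn, ← heq, card_map_conj]
    exact Nat.card_congr (Subgroup.equivMapOfInjective _ _ (Subgroup.subtype_injective _)).toEquiv
  · intro hdef
    refine ⟨hQP, fun Q' hQ' => ?_⟩
    obtain ⟨g, rfl, hg⟩ := (blockFusion_isConj_iff hM hF hle _).1 hQ'
    obtain ⟨E, hE, hPE⟩ := exists_defect_ge hM hmax.1.1 hg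
    have hE2 := isDefectGroup_conjSet (isConjSub_centralizer Q g) hdef
    rw [← conjBlock_eq] at hE2
    have h1 := Subgroup.card_le_of_le hPE
    rw [IsDefectGroup.card_eq hM (isPBlock_conjBlock Q g hf) hE hE2] at h1
    refine le_trans (le_trans (le_of_eq ?_) h1) (le_of_eq ?_)
    · exact (Nat.card_congr (Subgroup.subgroupOfEquivOfLe inf_le_right).toEquiv).symm
    · rw [Nat.card_congr (Subgroup.subgroupOfEquivOfLe ?_).toEquiv, card_map_conj,
        ← hcard]
      · exact Nat.card_congr (Subgroup.equivMapOfInjective _ _ (Subgroup.subtype_injective _)).toEquiv.symm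
      · rw [← map_inf_conj]; exact Subgroup.map_mono (Subgroup.map_subtype_le _)

end Cfsg.Agent.S4678
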