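import Cfsg.Statements.S4688
import Cfsg.Agent.Blocks.Nilpotent
import Cfsg.Agent.S4678
-- import your own Cfsg.Agent.* helpers here

set_option autoImplicit false
open Cfsg

namespace Cfsg.Agent.S4688

set_option linter.unusedSectionVars false

open Cfsg.Lib.Blocks

/-- Fix a prime p and a maximal ideal M of the algebraic integers containing p, and a nilpotent p-block B of the finite group G with maximal Brauer pair (P, e). Then for every Brauer pair (Q, f) of B, f is a nilpotent block of C_G(Q); and if moreover (Q, f) ≤ (P, e), then C_P(Q) is a defect group of f as a block of C_G(Q). -/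
theorem result {G : Type*} [Group G] [Fintype G] (p : ℕ) [Fact p.Prime] (M : Ideal Cfsg.AlgInt) (hM : Cfsg.IsPModular p M) (B : Set (Cfsg.IrrCharacter G)) (P : Subgroup G) (e : Set (Cfsg.IrrCharacter (Subgroup.centralizer (P : Set G)))) (hmax : Cfsg.IsMaximalBrauerPair p M B P e) (hnil : Cfsg.IsNilpotentBlock p M B) (Q : Subgroup G) (f : Set (Cfsg.IrrCharacter (Subgroup.centralizer (Q : Set G)))) (hQf : Cfsg.IsBrauerPairOf p M B Q f) : Cfsg.IsNilpotentBlock p M f ∧ (Cfsg.SubpairLE p M Q f P e → Cfsg.IsDefectGroup p M f ((P ⊓ Subgroup.centralizer (Q : Set G)).subgroupOf (Subgroup.centralizer (Q : Set G)))) := by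
  classical
  refine ⟨nilpotent_centralizer hM hnil hQf, fun hle => ?_⟩
  have hF := isBlockFusionSystemOn_blockSystem hM hmax
  have hQP := subpairLE_le hle
  refine (Cfsg.Agent.S4678.result p M hM B P e hmax _ hF Q f hQP hQf.1.2 hle).1 ⟨hQP, ?_⟩
  intro Q' hQ'
  obtain ⟨φ, hφ, hr⟩ := hQ'
  rw [inner_of_nilpotent hM hF hnil Q] at hφ
  obtain ⟨-, u, hu, hux⟩ := hφ
  rw [← hr, range_conj_eq hux]
  have hPu : P.map (MulAut.conj u).toMonoidHom = P :=
    map_conj_of_mem_normalizer (Subgroup.le_normalizer hu)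
  have h : Cfsg.FusionSystem.centralizerIn P (Q.map (MulAut.conj u).toMonoidHom) =
      (Cfsg.FusionSystem.centralizerIn P Q).map (MulAut.conj u).toMonoidHom := by
    rw [Cfsg.FusionSystem.centralizerIn, Cfsg.FusionSystem.centralizerIn,
      Subgroup.map_inf _ _ _ (MulAut.conj u).injective, hPu, map_inf_conj]
  rw [h, card_map_conj]

end Cfsg.Agent.S4688
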