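import Cfsg.Statements.S4716
import Cfsg.Agent.Blocks.SubsectionColumns
-- import your own Cfsg.Agent.* helpers here

set_option autoImplicit false
open Cfsg

namespace Cfsg.Agent.S4716

set_option linter.unusedSectionVars false

open Cfsg.Lib.Blocks Cfsg.Lib.Chars

open scoped ComplexConjugate

theorem sq_card_le {G : Type*} [Group G] [Fintype G] {p : ℕ} {M : Ideal Cfsg.AlgInt}
    (hM : Cfsg.IsPModular p M) {B : Set (Cfsg.IrrCharacter G)} {d : ℕ}
    (hh : ∀ χ ∈ B, Cfsg.blockHeight p B (χ : G → ℂ) = 0) {y : G} (hy : ∃ k : ℕ, orderOf y = p ^ k)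
    (H : Subgroup G) [Fintype H] (hHdef : H = Subgroup.centralizer ({y} : Set G))
    {b : Set (Cfsg.IrrCharacter H)} (hind : Cfsg.IsInducedBlock M H b B)
    (hbd : Cfsg.blockDefect p b = d) :
    Nat.card B ^ 2 ≤ p ^ (2 * d) * Cfsg.blockRank p b := by
  classical
  obtain ⟨k, hk⟩ := hy
  have hyH : y ∈ H := by rw [hHdef, Subgroup.mem_centralizer_singleton_iff]
  set y' : H := ⟨y, hyH⟩ with hy'
  have hy'c : y' ∈ Subgroup.center H := Subgroup.mem_center_iff.2 fun c => Subtype.ext (by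
    have := c.2
    rw [SetLike.mem_coe.symm] at this
    simp only [hHdef, SetLike.mem_coe] at this
    exact Subgroup.mem_centralizer_singleton_iff.1 this)
  have hy'n : y' ^ p ^ k = 1 := Subtype.ext (by
    show y ^ p ^ k = 1
    rw [← hk, pow_orderOf_eq_one])
  set lam : Cfsg.IrrCharacter H → ℂ := fun θ => (θ : H → ℂ) y' / (θ : H → ℂ) 1 with hlam
  have hlam1 : ∀ θ, lam θ ^ p ^ k = 1 := fun θ => apply_central_root θ hy'c hy'n
  choose m hm using fun χ : Cfsg.IrrCharacter G =>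
    IsCharacter.exists_decomp (IsCharacter.restrict (isCharacter_of_irr χ.2) H)
  have hm' : ∀ (χ : Cfsg.IrrCharacter G) (h : H), (χ : G → ℂ) h =
      ∑ η : Cfsg.IrrCharacter H, (m χ η : ℂ) * (η : H → ℂ) h := fun χ h => by
    have hh := congrFun (hm χ) h
    simp only [Finset.sum_apply, nsmul_eq_mul] at hh
    simpa using hh
  have hcoef : ∀ (j : ℕ) (χ : Cfsg.IrrCharacter G), ∀ θ ∈ b,
      Cfsg.classInner (fun c : H => (χ : G → ℂ) (y ^ j * (c : G))) (θ : H → ℂ) =
        (m χ θ : ℂ) * lam θ ^ j := fun j χ θ _ => by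
    rw [show (fun c : H => (χ : G → ℂ) (y ^ j * (c : G))) = ∑ η : Cfsg.IrrCharacter H,
      ((m χ η : ℂ) * lam η ^ j) • (η : H → ℂ) from funext fun c => ?_, classInner_irrSum]
    rw [Finset.sum_apply]
    refine (hm' χ (y' ^ j * c)).trans (Finset.sum_congr rfl fun η _ => ?_)
    rw [apply_mul_central η (Subgroup.pow_mem _ hy'c j), apply_central_pow η hy'c,
      Pi.smul_apply, smul_eq_mul, hlam]
    ring
  haveI : NeZero (p ^ k) := ⟨pow_ne_zero _ hM.1.ne_zero⟩
  set S := Finset.univ.filter (fun χ : Cfsg.IrrCharacter G => χ ∈ B) with hS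
  set T := Finset.univ.filter (fun θ : Cfsg.IrrCharacter H => θ ∈ b) with hT
  obtain ⟨θ₀, hθ₀, hθ0⟩ := exists_height_zero hM hind.1
  set z : Cfsg.IrrCharacter H × Cfsg.IrrCharacter H → ℂ := fun i => lam i.1 * conj (lam i.2) with hz
  have hz1 : ∀ i, z i ^ p ^ k = 1 := fun i => by
    rw [hz, mul_pow, ← map_pow, hlam1, hlam1, map_one, mul_one]
  set c : Cfsg.IrrCharacter G → Cfsg.IrrCharacter G →
      Cfsg.IrrCharacter H × Cfsg.IrrCharacter H → ℤ := fun χ ψ i =>
    regRed p b i.1 i.2 * ((m χ i.1 : ℤ) * (m ψ i.2 : ℤ)) with hc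
  -- each contribution is nonzero
  have hne : ∀ χ ∈ S, ∀ ψ ∈ S, ∀ j : ℕ,
      ∑ i ∈ T ×ˢ T, (c χ ψ i : ℂ) * z i ^ j ≠ 0 := by
    intro χ hχ ψ hψ j h0
    have hzmem : ∀ i, z i ^ j ∈ place M := fun i => isIntegral_mem_place hM
      (IsIntegral.pow (isIntegral_of_pow_eq_one (NeZero.pos _) (hz1 i)) _)
    have hres : ∀ i, res M (z i ^ j) = 1 := fun i => by
      rw [← res_one (M := M), res_eq_iff (hzmem i) (one_mem _)]
      exact small_sub_one_of_ppow hM (k := k) (by
        rw [← pow_mul, mul_comm, pow_mul, hz1, one_pow])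
    have h1 := congrArg (res M) h0
    rw [res_sum _ _ fun i _ => mul_mem (intCast_mem _ _) (hzmem i), res_zero] at h1
    have hc00 : (regRed p b θ₀ θ₀ : Res M) ≠ 0 := fun h => by
      haveI := charP_res hM
      exact not_dvd_regRed_self hM hind.1 hθ₀ hθ0
        ((CharP.intCast_eq_zero_iff (Res M) p _).1 h)
    have hχ' := (Finset.mem_filter.1 hχ).2
    have hψ' := (Finset.mem_filter.1 hψ).2
    have hN := mul_ne_zero
      (cast_sum_regRed_ne_zero hM H hind hχ' (hh χ hχ') hθ₀ hθ0 (hm' χ))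
      (cast_sum_regRed_ne_zero hM H hind hψ' (hh ψ hψ') hθ₀ hθ0 (hm' ψ))
    refine hN ?_
    rw [Finset.sum_mul_sum, ← Finset.sum_product',
      ← mul_zero (regRed p b θ₀ θ₀ : Res M), ← h1, Finset.mul_sum]
    refine Finset.sum_congr rfl fun i hi => ?_
    rw [Finset.mem_product] at hi
    have hr := cast_regRed_mul hM hind.1 hθ₀ (Finset.mem_filter.1 hi.1).2
      (Finset.mem_filter.1 hi.2).2
    rw [res_mul (intCast_mem _ _) (hzmem i), hres, mul_one, res_intCast, hc]
    push_cast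
    linear_combination (-((m χ i.1 : Res M) * (m ψ i.2 : Res M))) * hr
  -- the square sum over each conjugate
  have hsum : ∀ u : (ZMod (p ^ k))ˣ, ∑ χ ∈ S, ∑ ψ ∈ S,
      ‖∑ i ∈ T ×ˢ T, (c χ ψ i : ℂ) * z i ^ (u : ZMod (p ^ k)).val‖ ^ 2 =
      ((p : ℝ) ^ d) ^ 2 * (Cfsg.blockRank p b : ℝ) := by
    intro u
    set j := (u : ZMod (p ^ k)).val with hj
    have hco : (orderOf y).Coprime j := by
      rw [hk]; exact (ZMod.val_coe_unit_coprime u).symm
    have hord : orderOf (y ^ j) = orderOf y := by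
      rw [Nat.Coprime.orderOf_pow hco]
    have hzp : Subgroup.zpowers (y ^ j) = Subgroup.zpowers y :=
      Subgroup.eq_of_le_of_card_ge (Subgroup.zpowers_le.2 (Subgroup.pow_mem _
        (Subgroup.mem_zpowers y) j)) (by rw [Nat.card_zpowers, Nat.card_zpowers, hord])
    have hH' : H = Subgroup.centralizer (Subgroup.zpowers (y ^ j) : Set G) := by
      rw [hzp, centralizer_zpowers]; exact hHdef
    rw [← hbd, ← sum_norm_sq_contribution hM (x := y ^ j) ⟨k, hord.trans hk⟩ hH' hind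
      (fun χ θ => (m χ θ : ℂ) * lam θ ^ j) (fun χ θ hθ => hcoef j χ θ hθ)]
    refine Finset.sum_congr rfl fun χ _ => Finset.sum_congr rfl fun ψ _ => ?_
    congr 2
    rw [Finset.sum_product]
    refine Finset.sum_congr rfl fun θ _ => Finset.sum_congr rfl fun θ' _ => ?_
    simp only [hc, hz, map_mul, map_pow, map_natCast, mul_pow]
    push_cast
    ring
  -- averaging
  have h2 : ((S.card : ℝ) * (S.card : ℝ)) * (Fintype.card (ZMod (p ^ k))ˣ : ℝ) ≤
      (((p : ℝ) ^ d) ^ 2 * (Cfsg.blockRank p b : ℝ)) * (Fintype.card (ZMod (p ^ k))ˣ : ℝ) := by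
    calc ((S.card : ℝ) * (S.card : ℝ)) * (Fintype.card (ZMod (p ^ k))ˣ : ℝ)
        = ∑ χ ∈ S, ∑ ψ ∈ S, (Fintype.card (ZMod (p ^ k))ˣ : ℝ) := by
          simp [Finset.sum_const, mul_assoc]
      _ ≤ ∑ χ ∈ S, ∑ ψ ∈ S, ∑ u : (ZMod (p ^ k))ˣ,
            ‖∑ i ∈ T ×ˢ T, (c χ ψ i : ℂ) * z i ^ (u : ZMod (p ^ k)).val‖ ^ 2 :=
          Finset.sum_le_sum fun χ hχ => Finset.sum_le_sum fun ψ hψ =>
            card_units_le_sum_norm_sq_roots _ _ _ hz1 fun u => hne χ hχ ψ hψ _
      _ = ∑ u : (ZMod (p ^ k))ˣ, ∑ χ ∈ S, ∑ ψ ∈ S,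
            ‖∑ i ∈ T ×ˢ T, (c χ ψ i : ℂ) * z i ^ (u : ZMod (p ^ k)).val‖ ^ 2 := by
          rw [Finset.sum_congr rfl fun χ _ => Finset.sum_comm, Finset.sum_comm]
      _ = _ := by
          rw [Finset.sum_congr rfl fun u _ => hsum u, Finset.sum_const, Finset.card_univ,
            nsmul_eq_mul, mul_comm]
  have h3 := le_of_mul_le_mul_right h2 (Nat.cast_pos.2 Fintype.card_pos)
  have hcard : Nat.card B = S.card := by
    rw [Nat.card_eq_fintype_card, hS]
    exact Fintype.card_subtype _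
  rw [hcard]
  have h4 : ((S.card ^ 2 : ℕ) : ℝ) ≤ ((p ^ (2 * d) * Cfsg.blockRank p b : ℕ) : ℝ) := by
    push_cast
    rw [pow_mul, ← pow_two] at *
    calc (S.card : ℝ) ^ 2 ≤ ((p : ℝ) ^ d) ^ 2 * (Cfsg.blockRank p b : ℝ) := h3
      _ = _ := by ring
  exact_mod_cast h4

/-- Let p be a prime, M a maximal ideal of the algebraic integers containing p, and B a p-block of defect d of the finite group G all of whose irreducible characters have height zero. Let y be a p-element, C = C_G(y), and b a block of C inducing B and having the same defect d (a major subsection). Then k(B)^2 ≤ p^(2d)·l(b), where k(B) is the number of irreducible characters in B and l(b) the p-regular rank of b (its number of irreducible Brauer characters); in particular (y = 1) k(B)^2 ≤ p^(2d)·l(B). -/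
theorem result {G : Type*} [Group G] [Finite G] (p : ℕ) [Fact p.Prime] (M : Ideal Cfsg.AlgInt) (hM : Cfsg.IsPModular p M) (B : Set (Cfsg.IrrCharacter G)) (hB : Cfsg.IsPBlock M B) (d : ℕ) (hd : Cfsg.blockDefect p B = d) (hh : ∀ χ ∈ B, Cfsg.blockHeight p B (χ : G → ℂ) = 0) (y : G) (hy : ∃ k : ℕ, orderOf y = p ^ k) (b : Set (Cfsg.IrrCharacter ↥(Subgroup.centralizer ({y} : Set G)))) (hind : Cfsg.IsInducedBlock M (Subgroup.centralizer ({y} : Set G)) b B) (hbd : Cfsg.blockDefect p b = d) : Nat.card B ^ 2 ≤ p ^ (2 * d) * Cfsg.blockRank p b := by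
  haveI := Fintype.ofFinite G
  haveI := Fintype.ofFinite (Subgroup.centralizer ({y} : Set G))
  exact sq_card_le hM hh hy _ rfl hind hbd

end Cfsg.Agent.S4716
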