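import Cfsg.Statements.S0732
import Cfsg.Agent.RankOne.PrimeKernelPGL
import Cfsg.Agent.RankOne.PrimeKernelAffine
import Cfsg.Agent.RankOne.ZassenhausPSL
import Cfsg.Agent.Classical.Misc.PSLEmbed

set_option autoImplicit false
open Cfsg
open Cfsg.Lib.OddChar.Zassenhaus MulAction

namespace Cfsg.Agent.S0732

/-- A transitive permutation group on `p + 1` points (`p` prime) of order `(p+1) p d` with `d < p` is isomorphic to `PGL(2,p)` with `d = p - 1`, or to `PSL(2,p)` with `2d = p - 1`, or else `p + 1 = 2^q` for a prime `q`, `d = 1` or `d = q`, and the group is permutation-isomorphic to a group of semi-affine maps `x ↦ a φ(x) + b` of the field with `2^q` elements. -/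
theorem result {α : Type*} [Fintype α] [DecidableEq α] {p d : ℕ} (hp : p.Prime) (hα : Fintype.card α = p + 1) (G : Subgroup (Equiv.Perm α)) [MulAction.IsPretransitive G α] (hG : Nat.card G = (p + 1) * p * d) (hd : d < p) : (d = p - 1 ∧ Nonempty (G ≃* Matrix.ProjGenLinGroup (Fin 2) (ZMod p))) ∨ (2 * d = p - 1 ∧ Nonempty (G ≃* Matrix.ProjectiveSpecialLinearGroup (Fin 2) (ZMod p))) ∨ (∃ q : ℕ, q.Prime ∧ p + 1 = 2 ^ q ∧ (d = 1 ∨ d = q) ∧ ∃ e : α ≃ GaloisField 2 q, ∀ g : G, (e.symm.trans (((g : Equiv.Perm α)).trans e)) ∈ Cfsg.semiaffineGroup (GaloisField 2 q)) := by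
  classical
  have := Fact.mk hp
  obtain ⟨a, b, hb⟩ : ∃ a b : α, b ≠ a := by
    obtain ⟨a, b, h⟩ := Fintype.exists_pair_of_one_lt_card (α := α) (by have := hp.one_lt; omega)
    exact ⟨a, b, h.symm⟩
  obtain ⟨P, hK, hGa⟩ := Cfsg.Lib.RankOne.primeKernel_of_card (G := G) inferInstance hp hα hG hd a
  set E : Subgroup G := stabilizer G a ⊓ stabilizer G b with hEdef
  have hE : Nat.card E = d := by
    have hbij : Function.Bijective fun x : P × E =>
        (⟨(x.1 : G) * x.2, mul_mem (hK.le x.1.2) x.2.2.1⟩ : stabilizer G a) := by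
      constructor
      · rintro ⟨u, v⟩ ⟨u', v'⟩ h
        have h1 : (u : G) * v = u' * v' := congrArg Subtype.val h
        have h2 : ((u : G)) • b = (u' : G) • b := by
          have := congrArg (fun g : G => g • b) h1
          simp only [mul_smul] at this
          rwa [show (v : G) • b = b from v.2.2, show (v' : G) • b = b from v'.2.2] at this
        have h3 : u = u' := by
          by_contra hne
          refine hb (hK.fix _ (mul_mem (inv_mem u'.2) u.2)
            (fun h' => hne (Subtype.ext (inv_mul_eq_one.1 h').symm)) b ?_)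
          rw [mul_smul, h2, inv_smul_smul]
        subst h3
        exact Prod.ext rfl (Subtype.ext (mul_left_cancel h1))
      · intro g
        have hgb : (g : G) • b ≠ a := fun h => hb (smul_left_cancel (g : G) (h.trans (show (g : G) • a = a from g.2).symm))
        obtain ⟨u, hu, hub⟩ := hK.exists_map hb hgb
        refine ⟨(⟨u, hu⟩, ⟨u⁻¹ * g, Subgroup.mem_inf.2 ⟨(stabilizer G a).mul_mem ((stabilizer G a).inv_mem (hK.le hu)) g.2, ?_⟩⟩), ?_⟩
        · rw [mem_stabilizer_iff, mul_smul, ← hub, inv_smul_smul]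
        · exact Subtype.ext (mul_inv_cancel_left u (g : G))
    have h1 := Nat.card_congr (Equiv.ofBijective _ hbij)
    rw [Nat.card_prod, hK.card_P, hGa] at h1
    exact Nat.eq_of_mul_eq_mul_left hp.pos h1
  have hd0 : 0 < d := hE ▸ Nat.card_pos
  by_cases hd1 : d = p - 1
  · exact Or.inl ⟨hd1, hK.pgl hb (by rw [hG, hd1]) (hE.trans hd1)⟩
  right
  have hp2 : p ≠ 2 := fun h => by omega
  by_cases hN : ∃ N : Subgroup G, N.Normal ∧ IsPretransitive N α ∧ ∀ c : α, stabilizer N c = ⊥
  · obtain ⟨N, hNn, hNt, hNr⟩ := hN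
    right
    have hNf : ∀ n ∈ N, n • a = a → n = 1 := fun n hn h => by
      have h1 : (⟨n, hn⟩ : N) ∈ stabilizer N a := h
      rw [hNr, Subgroup.mem_bot] at h1
      exact congrArg Subtype.val h1
    have hNc : Nat.card N = p + 1 := by
      have h1 := (stabilizer N a).index_mul_card
      rw [hNr a, Subgroup.card_bot, mul_one, ← hNr a, MulAction.index_stabilizer_of_transitive N a,
        Nat.card_eq_fintype_card (α := α), hα] at h1
      exact h1.symm
    obtain ⟨q, hq, hpq, hdq, e, he⟩ := hK.affine hb hp2 N hNn hNc hNf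
    rw [hE] at hdq
    exact ⟨q, hq, hpq, (Nat.dvd_prime hq).1 hdq, e, fun g => he g⟩
  left
  push Not at hN
  have h2t := hK.two_trans
  have hd' : 1 < d := by
    by_contra hcon
    have hd1' : d = 1 := by omega
    have hEbot : E = ⊥ := Subgroup.card_eq_one.1 (hE.trans hd1')
    have hFC : Cfsg.IsFrobeniusComplement (stabilizer G a) := by
      refine ⟨fun h => ?_, fun h => ?_, fun g hg => ?_⟩
      · rw [h, Subgroup.card_bot, hd1'] at hGa; have := hp.two_le; omega
      · rw [h, Subgroup.card_top, hG, hd1', mul_one, mul_one] at hGa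
        have := hp.two_le
        nlinarith
      · rw [Subgroup.eq_bot_iff_forall]
        intro u hu
        obtain ⟨hu1, hu2⟩ := Subgroup.mem_inf.mp hu
        rw [Subgroup.mem_pointwise_smul_iff_inv_smul_mem] at hu2
        have hu2' : g⁻¹ * u * g ∈ stabilizer G a := by simpa using hu2
        rw [mem_stabilizer_iff, mul_smul, mul_smul, inv_smul_eq_iff] at hu2'
        obtain ⟨k, hka, hkb⟩ := MulAction.is_two_pretransitive_iff.1 h2t (show a ≠ g • a from fun h => hg h.symm) hb.symm
        have hmem : k * u * k⁻¹ ∈ E := by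
          refine Subgroup.mem_inf.2 ⟨mem_stabilizer_iff.2 ?_, mem_stabilizer_iff.2 ?_⟩
          · rw [mul_smul, mul_smul, show k⁻¹ • a = a from inv_smul_eq_iff.2 hka.symm, show u • a = a from hu1, hka]
          · rw [mul_smul, mul_smul, show k⁻¹ • b = g • a from inv_smul_eq_iff.2 hkb.symm, hu2', hkb]
        rw [hEbot, Subgroup.mem_bot] at hmem
        exact conj_eq_one_iff.1 hmem
    obtain ⟨N, hNs, hNn, hNc⟩ := Cfsg.Lib.Frobenius.exists_kernel hFC
    have hNf : ∀ c : α, stabilizer N c = ⊥ := fun c => by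
      rw [Subgroup.eq_bot_iff_forall]
      intro n hn
      have hmem : (n : G) ∈ Cfsg.frobeniusKernel (stabilizer G a) := hNs ▸ n.2
      refine Subtype.ext (hmem.resolve_right fun h => ?_)
      obtain ⟨k, hk⟩ := MulAction.exists_smul_eq G a c
      refine h k ?_
      rw [Subgroup.mem_pointwise_smul_iff_inv_smul_mem]
      have hnc : (n : G) • c = c := hn
      suffices k⁻¹ * n * k ∈ stabilizer G a by simpa using this
      rw [mem_stabilizer_iff, mul_smul, mul_smul, hk, hnc, inv_smul_eq_iff, hk]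
    have hinj : Function.Injective fun n : N => (n : G) • a := fun m n h => by
      have h1 : n⁻¹ * m ∈ stabilizer N a := by
        rw [mem_stabilizer_iff, mul_smul, inv_smul_eq_iff]; exact h
      rw [hNf, Subgroup.mem_bot] at h1
      exact (inv_mul_eq_one.1 h1).symm
    have hbij := hinj.bijective_of_nat_card_le (by
      rw [← hNc.index_eq_card, MulAction.index_stabilizer_of_transitive G a])
    obtain ⟨c, hc⟩ := hN N hNn ⟨fun x y => by
      obtain ⟨m, rfl⟩ := hbij.2 x
      obtain ⟨n, rfl⟩ := hbij.2 y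
      exact ⟨n * m⁻¹, by show ((n : G) * (m : G)⁻¹) • (m : G) • a = (n : G) • a; rw [mul_smul, inv_smul_smul]⟩⟩
    exact hc (hNf c)
  -- a Zassenhaus group
  have hZ : Cfsg.IsZassenhausGroup G α := by
    refine ⟨inferInstance, h2t, ?_, ?_, hN⟩
    · intro g x y z hxy hyz hxz hx hy hz
      obtain ⟨k, hka, hkb⟩ := MulAction.is_two_pretransitive_iff.1 h2t hxy hb.symm
      have h1 : k * g * k⁻¹ = 1 := hK.three hb (c := k • z)
        (fun h => hxz (smul_left_cancel k (hka.trans h.symm))) (fun h => hyz (smul_left_cancel k (hkb.trans h.symm)))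
        (by rw [← hka, mul_smul, mul_smul, inv_smul_smul, hx])
        (by rw [← hkb, mul_smul, mul_smul, inv_smul_smul, hy])
        (by rw [mul_smul, mul_smul, inv_smul_smul, hz])
      exact conj_eq_one_iff.1 h1
    · obtain ⟨⟨g, hg⟩, hg1⟩ := @exists_ne _ (Finite.one_lt_card_iff_nontrivial.1 (by omega : 1 < Nat.card E)) (1 : E)
      exact ⟨g, fun h => hg1 (Subtype.ext h), a, b, hb.symm, hg.1, hg.2⟩
  have := Fact.mk hp
  have hPc : IsMulCommutative P := by
    have := isCyclic_of_prime_card (α := P) hK.card_P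
    exact IsCyclic.commutative
  have hle : p - 1 ≤ 2 * d := by
    rcases Nat.even_or_odd d with hev | hodd
    · have h1 := Cfsg.Lib.RankOne.le_two_mul_of_even hZ hb.symm (by show Even (Nat.card E); rw [hE]; exact hev)
      change Fintype.card α - 2 ≤ 2 * Nat.card E at h1
      omega
    · rcases feit_inequality hZ hb.symm hα hE hodd hK.le (by rw [hK.card_P, hα]) hK.fix with h1 | ⟨-, ⟨u, v, huv⟩, -⟩
      · exact h1
      · exact absurd (hPc.is_comm.comm u v) huv
  have hdvd : d ∣ p - 1 := by
    have h1 := (fpf hb.symm hZ hK.le hK.fix).card_dvd (A := stab₂ G a b)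
      (fun u hu => Subgroup.mem_normalizer_fintype fun v hv => hK.normal u hu.1 v hv)
    rw [hK.card_P] at h1
    rwa [show Nat.card (stab₂ G a b) = d from hE] at h1
  have h2d : 2 * d = p - 1 := by
    obtain ⟨m, hm⟩ := hdvd
    have hm2 : m ≤ 2 := by
      by_contra h3
      have h4 := Nat.mul_le_mul_left d (show 3 ≤ m by omega)
      omega
    interval_cases m <;> omega
  obtain ⟨F, _, _, hF, -, ⟨iso⟩⟩ := Cfsg.Lib.RankOne.zassenhaus_psl hZ hb.symm
    (by show 2 * Nat.card E + 2 = _; omega) hK.le (by rw [hK.card_P, hα]) hK.fix hPc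
  have ρ : F ≃+* ZMod p := FiniteField.ringEquivOfCardEq (by rw [hF, hK.card_P, ZMod.card])
  let f := Cfsg.Lib.Classical.PSLEmbed.pslMap (ρ : F →+* ZMod p)
  have hf : Function.Bijective f := (Cfsg.Lib.Classical.PSLEmbed.pslMap_injective (ρ : F →+* ZMod p)).bijective_of_nat_card_le
    (Nat.card_le_card_of_injective _ (Cfsg.Lib.Classical.PSLEmbed.pslMap_injective (ρ.symm : ZMod p →+* F)))
  exact ⟨h2d, ⟨iso.trans (MulEquiv.ofBijective f hf)⟩⟩

end Cfsg.Agent.S0732
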