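import Cfsg.Statements.S0999
import Cfsg.Agent.Blocks.SmallOrder.Main
import Cfsg.Agent.Blocks.SylowCount.SelfCentral

set_option autoImplicit false
open Cfsg

namespace Cfsg.Agent.S0999

/-- Let G be a non-cyclic finite simple group and p a prime divisor of its order with p^3 > |G|. Then p > 3 and G is isomorphic to the projective special linear group of dimension 2 over the field with p elements, or p - 1 is a power of 2 and G is isomorphic to that group over the field with p - 1 elements. -/
theorem result {G : Type*} [Group G] [Finite G] [IsSimpleGroup G] (hG : ¬ IsCyclic G) (p : ℕ) (hp : p.Prime) (hdvd : p ∣ Nat.card G) (hbig : Nat.card G < p ^ 3) : (∃ (F : Type) (_ : Field F) (_ : Fintype F), Fintype.card F = p ∧ 3 < p ∧ Nonempty (G ≃* Matrix.ProjectiveSpecialLinearGroup (Fin 2) F)) ∨ (∃ (m : ℕ) (F : Type) (_ : Field F) (_ : Fintype F), Fintype.card F = 2 ^ m ∧ p = 2 ^ m + 1 ∧ 3 < p ∧ Nonempty (G ≃* Matrix.ProjectiveSpecialLinearGroup (Fin 2) F)) := by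
  have : Fact p.Prime := ⟨hp⟩
  have hG1 : Nontrivial G := IsSimpleGroup.toNontrivial
  have hperf : commutator G = ⊤ := by
    rcases (inferInstance : (commutator G).Normal).eq_bot_or_eq_top with h | h
    · refine absurd ?_ hG
      let _ : CommGroup G := { (inferInstance : Group G) with mul_comm := fun a b => ?_ }
      · exact IsSimpleGroup.isCyclic (α := G)
      · have h1 := Subgroup.commutator_mem_commutator (H₁ := (⊤ : Subgroup G)) (H₂ := ⊤)
          (Subgroup.mem_top a) (Subgroup.mem_top b)
        rw [commutator_def] at h
        rw [h, Subgroup.mem_bot, commutatorElement_eq_one_iff_mul_comm] at h1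
        exact h1
    · exact h
  obtain ⟨P⟩ : Nonempty (Sylow p G) := inferInstance
  have hP : ¬ (P : Subgroup G).Normal := by
    intro h
    rcases h.eq_bot_or_eq_top with e | e
    · exact P.ne_bot_of_dvd_card hdvd e
    · have hpg : IsPGroup p G := by
        have := P.2
        rw [e] at this
        exact this.of_equiv Subgroup.topEquiv
      have := hpg.center_nontrivial
      rcases (inferInstance : (Subgroup.center G).Normal).eq_bot_or_eq_top with e' | e'
      · exact (Subgroup.nontrivial_iff_ne_bot _).1 this e'
      · have : commutator G = ⊥ := by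
          rw [commutator_def, Subgroup.commutator_eq_bot_iff_le_centralizer]
          intro a _
          rw [Subgroup.mem_centralizer_iff]
          intro b _
          have : a ∈ Subgroup.center G := e' ▸ Subgroup.mem_top a
          exact Subgroup.mem_center_iff.1 this b
        rw [hperf] at this
        exact top_ne_bot this
  have h2 : ∀ N : Subgroup G, N.Normal → Nat.card N ≠ 2 := by
    intro N hN hc
    rcases hN.eq_bot_or_eq_top with e | e
    · rw [e, Subgroup.card_bot] at hc; omega
    · rw [e, Subgroup.card_top] at hc
      have : Fact (Nat.Prime 2) := ⟨Nat.prime_two⟩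
      exact hG (isCyclic_of_prime_card hc)
  rcases Cfsg.Lib.Blocks.SmallOrder.main hperf p hdvd hbig P hP h2 with h | ⟨m, F, i1, i2, h1, h2, h3, ⟨e⟩⟩
  · exact Or.inl h
  · have hm : 0 < m := by
      rcases Nat.eq_zero_or_pos m with rfl | hm
      · simp at h2; omega
      · exact hm
    obtain ⟨e'⟩ := Cfsg.Lib.Blocks.SylowCount.sl_equiv_psl hm h1
    exact Or.inr ⟨m, F, i1, i2, h1, h2, h3, ⟨e.trans e'⟩⟩

end Cfsg.Agent.S0999
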