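import Cfsg.Statements.S0154
import Cfsg.Agent.Chars.Core

set_option autoImplicit false
open Cfsg

namespace Cfsg.Agent.S0154

/-- A finite group has exactly as many irreducible complex characters of degree 1 as the index of its commutator subgroup. -/
theorem result {G : Type*} [Group G] [Finite G] : Nat.card {χ : Cfsg.IrrCharacter G // (χ : G → ℂ) 1 = 1} = (commutator G).index := by
  classical
  let e : (G →* ℂˣ) ≃ {χ : Cfsg.IrrCharacter G // (χ : G → ℂ) 1 = 1} :=
    Equiv.ofBijective
      (fun f => ⟨⟨fun g => (f g : ℂ), Cfsg.Lib.Chars.isIrrCharacter_linear f⟩, by simp⟩)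
      ⟨fun f f' h => MonoidHom.ext fun g => Units.ext
          (congrFun (congrArg (fun χ => (χ.1 : G → ℂ)) h) g),
       fun χ => by
        obtain ⟨f, hf⟩ := Cfsg.Lib.Chars.exists_hom_of_deg_one
          (Cfsg.Lib.Chars.isCharacter_of_irr χ.1.2) χ.2
        exact ⟨f, Subtype.ext (Subtype.ext hf.symm)⟩⟩
  rw [← Nat.card_congr e, ← Nat.card_congr Abelianization.lift.symm]
  exact CommGroup.card_monoidHom_of_hasEnoughRootsOfUnity (Abelianization G) ℂ

end Cfsg.Agent.S0154
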