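import Cfsg.Statements.S4583
import Cfsg.Agent.Blocks.InducedPart
-- import your own Cfsg.Agent.* helpers here

set_option autoImplicit false
open Cfsg

namespace Cfsg.Agent.S4583

set_option linter.unusedSectionVars false

open Cfsg.Lib.Blocks Cfsg.Lib.Chars

/-- Let N be a normal subgroup of the finite group G, p a prime, M a maximal ideal of the algebraic integers containing p, and P a Sylow p-subgroup of G. Let θ be an irreducible character of N of degree prime to p lying in the principal p-block of N, and suppose θ extends to the subgroup NP (some irreducible character of NP restricts to θ). Then some irreducible character χ of G of degree prime to p in the principal p-block of G lies over θ (θ is a constituent of the restriction of χ to N). -/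
theorem result {G : Type*} [Group G] [Finite G] (N : Subgroup G) [N.Normal] (p : ℕ) [Fact p.Prime] (M : Ideal Cfsg.AlgInt) (hM : Cfsg.IsPModular p M) (P : Sylow p G)
    (θ : Cfsg.IrrCharacter N) (hθ : θ ∈ Cfsg.principalBlock M N) (hdeg : ¬ p ∣ Cfsg.charDegree (θ : N → ℂ))
    (hext : ∃ η : Cfsg.IrrCharacter ↥(N ⊔ (P : Subgroup G)), ∀ n : N, (η : ↥(N ⊔ (P : Subgroup G)) → ℂ) (Subgroup.inclusion le_sup_left n) = (θ : N → ℂ) n) :
    ∃ χ : Cfsg.IrrCharacter G, χ ∈ Cfsg.principalBlock M G ∧ ¬ p ∣ Cfsg.charDegree (χ : G → ℂ) ∧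
      letI := Fintype.ofFinite N; Cfsg.classInner (fun n : N => (χ : G → ℂ) n) (θ : N → ℂ) ≠ 0 := by
  classical
  haveI := Fintype.ofFinite G
  letI := Fintype.ofFinite N
  set H := N ⊔ (P : Subgroup G) with hH
  haveI := Fintype.ofFinite H
  obtain ⟨η, hη⟩ := hext
  have hp : p.Prime := Fact.out
  set B₀ := Cfsg.principalBlock M G with hB₀
  have hB : IsPBlock M B₀ := isPBlock_blockOf (principal G)
  -- the `p`-regular elements of `H` lie in `N`
  have hreg : ∀ h : H, ¬ p ∣ orderOf h → (h : G) ∈ N := by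
    intro h hh
    obtain ⟨a, ha, b, hb, hab⟩ := Subgroup.mem_sup_of_normal_left.1 h.2
    have hmk : (QuotientGroup.mk' N) (h : G) = QuotientGroup.mk' N b := by
      rw [← hab, map_mul, show QuotientGroup.mk' N a = 1 from (QuotientGroup.eq_one_iff a).2 ha,
        one_mul]
    rw [← QuotientGroup.eq_one_iff]
    show QuotientGroup.mk' N (h : G) = 1
    obtain ⟨j, hj⟩ := IsPGroup.iff_orderOf.1 P.2 ⟨b, hb⟩
    rw [Subgroup.orderOf_mk] at hj
    rw [← orderOf_eq_one_iff]
    refine Nat.eq_one_of_dvd_coprimes ((hp.coprime_iff_not_dvd.2 hh).symm.pow_right j) ?_ ?_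
    · exact Subgroup.orderOf_coe h ▸ orderOf_map_dvd _ _
    · rw [hmk, ← hj]; exact orderOf_map_dvd _ _
  -- sums over `H` are sums over `N`
  have hsum : ∀ f : G → ℂ, ∑ h : H, blockCoeff B₀ (h : G) * f h =
      ∑ n : N, blockCoeff B₀ (n : G) * f n := by
    intro f
    rw [← Finset.sum_filter_add_sum_filter_not Finset.univ (fun h : H => (h : G) ∈ N),
      Finset.sum_eq_zero (s := Finset.univ.filter fun h : H => ¬ (h : G) ∈ N) fun h hh => by
        rw [blockCoeff_eq_zero_of_singular hM hB (g := (h : G)), zero_mul]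
        by_contra hd
        exact (Finset.mem_filter.1 hh).2 (hreg h (by rwa [← Subgroup.orderOf_coe])),
      add_zero]
    refine Finset.sum_bij' (fun h hh => (⟨(h : G), (Finset.mem_filter.1 hh).2⟩ : N))
      (fun n _ => (⟨(n : G), (le_sup_left : N ≤ H) n.2⟩ : H)) (fun _ _ => Finset.mem_univ _)
      (fun n _ => Finset.mem_filter.2 ⟨Finset.mem_univ _, n.2⟩) (fun _ _ => Subtype.ext rfl)
      (fun _ _ => Subtype.ext rfl) (fun _ _ => rfl)
  have hη1 : (η : H → ℂ) 1 = (θ : N → ℂ) 1 := by
    rw [← hη 1]; exact congrArg _ (Subtype.ext rfl)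
  set F : G → ℂ := fun g => if hg : g ∈ H then (η : H → ℂ) ⟨g, hg⟩ else 0 with hF
  have hw : omega (η : H → ℂ) (resElem H (blockElem B₀)) =
      omega (θ : N → ℂ) (resElem N (blockElem B₀)) := by
    simp only [omega, chiEval, fn_resElem, fn_blockElem, hη1]
    congr 1
    have h1 := hsum F
    rw [Finset.sum_congr rfl fun (h : H) _ => show blockCoeff B₀ (h : G) * F h =
        blockCoeff B₀ (h : G) * (η : H → ℂ) h by simp [hF],
      Finset.sum_congr rfl fun (n : N) _ => show blockCoeff B₀ (n : G) * F n =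
        blockCoeff B₀ (n : G) * (θ : N → ℂ) n by
          rw [← hη n]
          have hmem : (n : G) ∈ H := (le_sup_left : N ≤ H) n.2
          simp only [hF]
          rw [dif_pos hmem]
          rfl] at h1
    exact h1
  have hunit : ¬ Small M (omega (η : H → ℂ) (resElem H (blockElem B₀))) := by
    intro hs
    rw [hw, ← res_eq_zero_iff (omega_resElem_mem_place hM N hB θ),
      res_omega_eq_of_sameBlock hM (IsPBlock.sameBlock hM (isPBlock_blockOf (principal N)) hθ
        (mem_blockOf_self hM (principal N))) ((isCentralFn_blockElem B₀).resElem N)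
        ((integral_blockElem hM hB).resElem N),
      res_eq_zero_iff (omega_resElem_mem_place hM N hB (principal N))] at hs
    refine not_small_sum_principal hM P H le_sup_right ?_
    have h1 := hsum fun _ => 1
    simp only [mul_one] at h1
    rw [h1]
    simpa [omega, chiEval, fn_resElem, fn_blockElem, principal] using hs
  obtain ⟨m, hm, hn⟩ := exists_nat_blockPart H B₀ η
  have hfac := (factorization_blockPart hM H hB η hn).1 hunit
  have hD : (H.index * deg (η : H → ℂ)).factorization p = 0 := by
    have hd : deg (η : H → ℂ) = deg (θ : N → ℂ) := by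
      apply Nat.cast_injective (R := ℂ)
      rw [← irr_apply_one_eq_deg, ← irr_apply_one_eq_deg, hη1]
    refine Nat.factorization_eq_zero_of_not_dvd (hp.not_dvd_mul ?_ (hd ▸ hdeg))
    exact fun h => P.not_dvd_index (dvd_trans h (Subgroup.index_dvd_of_le le_sup_right))
  rw [hD] at hfac
  obtain ⟨χ, hχ, hχd⟩ : ∃ χ ∈ Finset.univ.filter (· ∈ B₀), ¬ p ∣ m χ * deg (χ : G → ℂ) := by
    by_contra hno
    push Not at hno
    exact absurd (hp.factorization_pos_of_dvd hfac.1 (Finset.dvd_sum hno)) (by omega)
  refine ⟨χ, (Finset.mem_filter.1 hχ).2, fun h => hχd (dvd_mul_of_dvd_right h _), ?_⟩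
  -- the constituent passes down to `N`
  obtain ⟨c, hc⟩ := IsCharacter.exists_decomp (IsCharacter.restrict (isCharacter_of_irr χ.2) H)
  have hm0 : m χ ≠ 0 := fun h => hχd (by rw [h, zero_mul]; exact dvd_zero p)
  have hcη : c η = m χ := by
    have h1 := hm χ
    rw [hc] at h1
    simp only [← Nat.cast_smul_eq_nsmul ℂ, classInner_irrSum] at h1
    exact_mod_cast h1
  set t : IrrCharacter H → ℕ := fun ψ => (IsCharacter.exists_mult
    (IsCharacter.comp_hom (isCharacter_of_irr ψ.2)
      (Subgroup.inclusion (le_sup_left : N ≤ H))) θ.2).choose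
  have ht : ∀ ψ : IrrCharacter H, Cfsg.classInner (fun n : N => (ψ : H → ℂ)
      (Subgroup.inclusion (le_sup_left : N ≤ H) n)) (θ : N → ℂ) = t ψ := fun ψ =>
    (IsCharacter.exists_mult (IsCharacter.comp_hom (isCharacter_of_irr ψ.2)
      (Subgroup.inclusion (le_sup_left : N ≤ H))) θ.2).choose_spec
  have hres : (fun n : N => (χ : G → ℂ) n) = ∑ ψ : IrrCharacter H, (c ψ : ℂ) • fun n : N =>
      (ψ : H → ℂ) (Subgroup.inclusion (le_sup_left : N ≤ H) n) := by
    funext n
    have := congrFun hc (Subgroup.inclusion (le_sup_left : N ≤ H) n)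
    simp only [Finset.sum_apply, Pi.smul_apply, nsmul_eq_mul, smul_eq_mul] at this ⊢
    exact this
  rw [hres, classInner_sum_left, Finset.sum_congr rfl fun ψ _ => by rw [classInner_smul_left, ht]]
  have htη : t η = 1 := by
    have h1 := ht η
    rw [show (fun n : N => (η : H → ℂ) (Subgroup.inclusion (le_sup_left : N ≤ H) n)) = (θ : N → ℂ)
      from funext hη, classInner_irr_self] at h1
    exact_mod_cast h1.symm
  intro h0
  have h1 : ((∑ ψ : IrrCharacter H, c ψ * t ψ : ℕ) : ℂ) = 0 := by push_cast; exact h0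
  rw [Nat.cast_eq_zero, Finset.sum_eq_zero_iff] at h1
  have h2 := h1 η (Finset.mem_univ _)
  rw [hcη, htη, mul_one] at h2
  exact hm0 h2

end Cfsg.Agent.S4583
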