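import Cfsg.Statements.S0942
import Cfsg.Agent.Blocks.Columns
import Cfsg.Agent.Components.Cores
-- import your own Cfsg.Agent.* helpers here

set_option autoImplicit false
open Cfsg

namespace Cfsg.Agent.S0942

set_option linter.unusedSectionVars false

open Cfsg.Lib.Blocks Cfsg.Lib.Chars
open scoped ComplexConjugate

/-- Let u be a p-element of the finite group G, let v lie in the largest normal subgroup of C_G(u) of order prime to p, and let χ belong to the principal block (relative to a maximal ideal M of the algebraic integers containing p). Then χ (u * v) = χ u. -/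
theorem result {G : Type*} [Group G] [Finite G] (p : ℕ) [Fact p.Prime] (M : Ideal Cfsg.AlgInt) (hM : Cfsg.IsPModular p M) (u : G) (hu : ∃ k : ℕ, orderOf u = p ^ k) (v : G) (hv : v ∈ Cfsg.centralizerPPrimeCore p u) (χ : Cfsg.IrrCharacter G) (hχ : χ ∈ Cfsg.principalBlock M G) : (χ : G → ℂ) (u * v) = (χ : G → ℂ) u := by
  classical
  letI := Fintype.ofFinite G
  set H := Subgroup.centralizer ({u} : Set G) with hH
  letI := Fintype.ofFinite H
  have hH' : H = Subgroup.centralizer (Subgroup.zpowers u : Set G) := (centralizer_zpowers u).symm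
  obtain ⟨v', hv', rfl⟩ := hv
  have hK : ¬ p ∣ Nat.card (Cfsg.pPrimeCore p H) := fun h =>
    hM.1.ne_one (Nat.eq_one_of_dvd_coprimes (Cfsg.Lib.Components.coprime_card_pPrimeCore p) h dvd_rfl)
  have hB : IsPBlock M (principalBlock M G) := isPBlock_blockOf (principal G)
  have hreg : ¬ p ∣ orderOf v' := fun h => hK <| h.trans <| by
    have := orderOf_dvd_natCard (⟨v', hv'⟩ : Cfsg.pPrimeCore p H)
    rwa [← Subgroup.orderOf_coe] at this
  have h1 : ¬ p ∣ orderOf (1 : H) := by simpa using hM.1.ne_one
  have hval : ∀ w : H, ¬ p ∣ orderOf w → (χ : G → ℂ) (u * (w : G)) =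
      blockPart (principalBlock M H) (fun c : H => (χ : G → ℂ) (u * (c : G))) w := fun w hw => by
    rw [apply_mul_eq_sum_blockPart hM hu hH' hB hχ hw, filter_induced_principal hM hu hH',
      Finset.sum_singleton]
  have e1 := hval v' hreg
  have e2 := hval 1 h1
  rw [OneMemClass.coe_one, mul_one] at e2
  show (χ : G → ℂ) (u * (v' : G)) = _
  rw [e1, e2, blockPart_eq_sum, blockPart_eq_sum]
  exact Finset.sum_congr rfl fun ψ hψ => by
    rw [apply_eq_of_mem_normal_pPrime hM _ hK (Finset.mem_filter.1 hψ).2 hv']

end Cfsg.Agent.S0942
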