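import Cfsg.Statements.S0948
import Mathlib
import Cfsg.Agent.Blocks.KleinFour
-- import your own Cfsg.Agent.* helpers here

set_option autoImplicit false
open Cfsg

namespace Cfsg.Agent.S0948

set_option linter.unusedSectionVars false

open Cfsg.Lib.Chars Cfsg.Lib.Blocks
open scoped ComplexConjugate

/-- Let the finite group G have a Sylow 2-subgroup P that is a Klein four-group, suppose all involutions of G are conjugate, and fix a maximal ideal M of the algebraic integers containing 2. Then the principal block consists of exactly four irreducible characters, the principal character and ζ₂, ζ₃, ζ₄, and there is a sign ε such that for every involution z: ζ₂ z = 1, ζ₃ z = ε, ζ₄ z = -1; moreover ζ₂ 1 ≡ 1, ζ₃ 1 ≡ ε, ζ₄ 1 ≡ -1 (mod 4), and 1 + ζ₂ y + ε ζ₃ y - ζ₄ y = 0 for every y of odd order. -/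
theorem result {G : Type*} [Group G] [Finite G] (M : Ideal Cfsg.AlgInt) (hM : Cfsg.IsPModular 2 M) (P : Sylow 2 G) (hP : IsKleinFour (P : Subgroup G)) (hone : ∀ s t : G, orderOf s = 2 → orderOf t = 2 → IsConj s t) : ∃ ζ₂ ζ₃ ζ₄ : Cfsg.IrrCharacter G, ∃ ε : ℤ, (ε = 1 ∨ ε = -1) ∧ (ζ₂ : G → ℂ) ≠ (fun _ => 1) ∧ (ζ₃ : G → ℂ) ≠ (fun _ => 1) ∧ ζ₂ ≠ ζ₃ ∧ ζ₂ ≠ ζ₄ ∧ ζ₃ ≠ ζ₄ ∧ Cfsg.principalBlock M G = {χ : Cfsg.IrrCharacter G | (χ : G → ℂ) = (fun _ => 1) ∨ χ = ζ₂ ∨ χ = ζ₃ ∨ χ = ζ₄} ∧ (∀ z : G, orderOf z = 2 → (ζ₂ : G → ℂ) z = 1 ∧ (ζ₃ : G → ℂ) z = (ε : ℂ) ∧ (ζ₄ : G → ℂ) z = -1) ∧ (4 : ℤ) ∣ (Cfsg.charDegree (ζ₂ : G → ℂ) : ℤ) - 1 ∧ (4 : ℤ) ∣ (Cfsg.charDegree (ζ₃ : G → ℂ) : ℤ) - ε ∧ (4 : ℤ) ∣ (Cfsg.charDegree (ζ₄ : G → ℂ) : ℤ) + 1 ∧ ∀ y : G, Odd (orderOf y) → 1 + (ζ₂ : G → ℂ) y + (ε : ℂ) * (ζ₃ : G → ℂ) y - (ζ₄ : G → ℂ) y = 0 := by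
  classical
  letI := Fintype.ofFinite G
  haveI : Fact (Nat.Prime 2) := ⟨Nat.prime_two⟩
  have hP4 : Nat.card (P : Subgroup G) = 4 := hP.card_four
  have hexp : ∀ u ∈ (P : Subgroup G), u * u = 1 := fun u hu => by
    haveI := hP
    exact congrArg Subtype.val (IsKleinFour.mul_self (⟨u, hu⟩ : (P : Subgroup G)))
  obtain ⟨ε, hcard, hε1, hε⟩ := klein_values hP4 hexp hM hone
  obtain ⟨z, hz⟩ := exists_prime_orderOf_dvd_card' (G := G) 2
    ((show 2 ∣ Nat.card (P : Subgroup G) by rw [hP4]; norm_num).trans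
      (Subgroup.card_subgroup_dvd_card _))
  have hB : IsPBlock M (principalBlock M G) := isPBlock_blockOf (principal G)
  have h1B : principal G ∈ principalBlock M G := mem_blockOf_self hM (principal G)
  set S := Finset.univ.filter (fun φ : IrrCharacter G => φ ∈ principalBlock M G) with hS
  have hpS : principal G ∈ S := Finset.mem_filter.2 ⟨Finset.mem_univ _, h1B⟩
  have hmem : ∀ χ ∈ S.erase (principal G), χ ∈ principalBlock M G := fun χ hχ =>
    (Finset.mem_filter.1 (Finset.mem_of_mem_erase hχ)).2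
  have hrel : ∀ y : G, ¬ 2 ∣ orderOf y →
      1 + ∑ χ ∈ S.erase (principal G), (ε χ : ℂ) * (χ : G → ℂ) y = 0 := by
    intro y hy
    rw [← block_orthogonality_regular hM hB hy (dvd_of_eq hz.symm), ← hS,
      ← Finset.add_sum_erase _ _ hpS]
    refine congrArg₂ _ ?_ (Finset.sum_congr rfl fun χ hχ => ?_)
    · show (1 : ℂ) = 1 * conj (1 : ℂ)
      rw [map_one, mul_one]
    · rw [(hε χ (hmem χ hχ)).2 z (dvd_of_eq hz.symm), map_intCast, mul_comm]
  have hdeg : ∀ χ ∈ S.erase (principal G), (4 : ℤ) ∣ (deg (χ : G → ℂ) : ℤ) - ε χ := fun χ hχ =>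
    klein_deg_congr hP4 hexp hM hone (hε χ (hmem χ hχ)).2
  have h1reg : ¬ 2 ∣ orderOf (1 : G) := by rw [orderOf_one]; norm_num
  have hcard' : (S.erase (principal G)).card = 3 := by
    rw [Finset.card_erase_of_mem hpS, hcard]
  obtain ⟨a, b, c, hab, hac, hbc, habc⟩ := Finset.card_eq_three.1 hcard'
  have key : ∀ u w v : IrrCharacter G, u ≠ w → u ≠ v → w ≠ v →
      S.erase (principal G) = {u, w, v} → ε u = 1 → ε v = -1 →
      ∃ ζ₂ ζ₃ ζ₄ : Cfsg.IrrCharacter G, ∃ e : ℤ, (e = 1 ∨ e = -1) ∧ (ζ₂ : G → ℂ) ≠ (fun _ => 1) ∧ (ζ₃ : G → ℂ) ≠ (fun _ => 1) ∧ ζ₂ ≠ ζ₃ ∧ ζ₂ ≠ ζ₄ ∧ ζ₃ ≠ ζ₄ ∧ Cfsg.principalBlock M G = {χ : Cfsg.IrrCharacter G | (χ : G → ℂ) = (fun _ => 1) ∨ χ = ζ₂ ∨ χ = ζ₃ ∨ χ = ζ₄} ∧ (∀ z : G, orderOf z = 2 → (ζ₂ : G → ℂ) z = 1 ∧ (ζ₃ : G → ℂ) z = (e : ℂ) ∧ (ζ₄ : G → ℂ) z = -1) ∧ (4 : ℤ) ∣ (Cfsg.charDegree (ζ₂ : G → ℂ) : ℤ) - 1 ∧ (4 : ℤ) ∣ (Cfsg.charDegree (ζ₃ : G → ℂ) : ℤ) - e ∧ (4 : ℤ) ∣ (Cfsg.charDegree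 (ζ₄ : G → ℂ) : ℤ) + 1 ∧ ∀ y : G, Odd (orderOf y) → 1 + (ζ₂ : G → ℂ) y + (e : ℂ) * (ζ₃ : G → ℂ) y - (ζ₄ : G → ℂ) y = 0 := by
    intro u w v huw huv hwv hset hu hv
    have hu' : u ∈ S.erase (principal G) := by rw [hset]; simp
    have hw' : w ∈ S.erase (principal G) := by rw [hset]; simp
    have hv' : v ∈ S.erase (principal G) := by rw [hset]; simp
    refine ⟨u, w, v, ε w, (hε w (hmem w hw')).1, fun h => Finset.ne_of_mem_erase hu' (Subtype.ext h),
      fun h => Finset.ne_of_mem_erase hw' (Subtype.ext h), huw, huv, hwv, ?_, ?_, ?_, hdeg w hw', ?_, ?_⟩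
    · ext χ
      have hiff : χ ∈ principalBlock M G ↔ χ = principal G ∨ χ ∈ S.erase (principal G) := by
        rw [Finset.mem_erase, Finset.mem_filter]
        constructor
        · intro h
          by_cases hc : χ = principal G
          · exact Or.inl hc
          · exact Or.inr ⟨hc, Finset.mem_univ _, h⟩
        · rintro (rfl | h)
          · exact h1B
          · exact h.2.2
      rw [hiff, hset, Set.mem_ofPred_eq]
      simp only [Finset.mem_insert, Finset.mem_singleton]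
      refine or_congr_left ⟨fun h => by rw [h]; rfl, fun h => Subtype.ext h⟩
    · intro x hx
      refine ⟨?_, (hε w (hmem w hw')).2 x (dvd_of_eq hx.symm), ?_⟩
      · rw [(hε u (hmem u hu')).2 x (dvd_of_eq hx.symm), hu, Int.cast_one]
      · rw [(hε v (hmem v hv')).2 x (dvd_of_eq hx.symm), hv, Int.cast_neg, Int.cast_one]
    · exact hu ▸ hdeg u hu'
    · have := hdeg v hv'
      rw [hv, sub_neg_eq_add] at this
      exact this
    · intro y hy
      have h := hrel y (fun hd => Nat.not_even_iff_odd.2 hy (even_iff_two_dvd.2 hd))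
      rw [hset, Finset.sum_insert (by simp [huw, huv]), Finset.sum_pair hwv, hu, hv] at h
      push_cast at h
      linear_combination h
  have h1 := hrel 1 h1reg
  simp only [irr_apply_one_eq_deg] at h1
  rw [habc, Finset.sum_insert (by simp [hab, hac]), Finset.sum_pair hbc] at h1
  have h1' : 1 + (ε a * (deg (a : G → ℂ) : ℤ) + (ε b * (deg (b : G → ℂ) : ℤ)
      + ε c * (deg (c : G → ℂ) : ℤ))) = 0 := by
    apply Int.cast_injective (α := ℂ)
    push_cast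
    exact h1
  have hma : a ∈ S.erase (principal G) := by rw [habc]; simp
  have hmb : b ∈ S.erase (principal G) := by rw [habc]; simp
  have hmc : c ∈ S.erase (principal G) := by rw [habc]; simp
  have da := hdeg a hma
  have db := hdeg b hmb
  have dc := hdeg c hmc
  have pa := deg_irr_pos a
  have pb := deg_irr_pos b
  have pc := deg_irr_pos c
  rcases (hε a (hmem a hma)).1 with ea | ea <;> rcases (hε b (hmem b hmb)).1 with eb | eb <;>
    rcases (hε c (hmem c hmc)).1 with ec | ec <;> rw [ea, eb, ec] at h1'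
  · omega
  · exact key a b c hab hac hbc habc ea ec
  · exact key a c b hac hab hbc.symm (by rw [habc]; ext; simp; tauto) ea eb
  · exact key a b c hab hac hbc habc ea ec
  · exact key b c a hbc hab.symm hac.symm (by rw [habc]; ext; simp; tauto) eb ea
  · exact key b a c hab.symm hbc hac (by rw [habc]; ext; simp; tauto) eb ec
  · exact key c b a hbc.symm hac.symm hab.symm (by rw [habc]; ext; simp; tauto) ec ea
  · rw [ea] at da; rw [eb] at db; rw [ec] at dc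
    omega

end Cfsg.Agent.S0948
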