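import Cfsg.Statements.S1226
import Cfsg.Agent.InvolCalc.StronglyEmbedded

set_option autoImplicit false
open Cfsg

namespace Cfsg.Agent.S1226

/-- Let G be a finite group with a Sylow 2-subgroup T that is neither cyclic nor normal, such that the centralizer of every involution is an elementary abelian 2-group. Then N_G(T) is a strongly embedded subgroup of G. -/
theorem result {G : Type*} [Group G] [Finite G] (T : Sylow 2 G) (hnc : ¬ IsCyclic (T : Subgroup G)) (hnn : ¬ (T : Subgroup G).Normal) (hC : ∀ t : G, orderOf t = 2 → IsMulCommutative (Subgroup.centralizer ({t} : Set G)) ∧ ∀ c ∈ Subgroup.centralizer ({t} : Set G), c ^ 2 = 1) : Cfsg.IsStronglyEmbedded (Subgroup.normalizer ((T : Subgroup G) : Set G)) := by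
  haveI : Fact (Nat.Prime 2) := ⟨Nat.prime_two⟩
  set N := Subgroup.normalizer ((T : Subgroup G) : Set G) with hN
  have hTN : (T : Subgroup G) ≤ N := Subgroup.le_normalizer
  have hTne : (T : Subgroup G) ≠ ⊥ := fun h => hnn (by rw [h]; infer_instance)
  haveI : Nontrivial (T : Subgroup G) := (Subgroup.nontrivial_iff_ne_bot _).2 hTne
  obtain ⟨k, hk, hkc⟩ := T.isPGroup'.nontrivial_iff_card.mp inferInstance
  haveI := T.isPGroup'.center_nontrivial
  obtain ⟨⟨⟨z, hzT⟩, hzc⟩, hz⟩ : ∃ z : Subgroup.center (T : Subgroup G), orderOf z = 2 := by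
    obtain ⟨i, hi, hic⟩ := ((T.isPGroup').to_subgroup (Subgroup.center _)).nontrivial_iff_card.mp inferInstance
    exact exists_prime_orderOf_dvd_card' 2 (hic ▸ dvd_pow_self 2 (by omega))
  rw [Subgroup.orderOf_mk, Subgroup.orderOf_mk] at hz
  have hzcomm : ∀ a ∈ (T : Subgroup G), a ∈ Subgroup.centralizer ({z} : Set G) := fun a ha =>
    Subgroup.mem_centralizer_singleton_iff.2 (congrArg Subtype.val (Subgroup.mem_center_iff.1 hzc ⟨a, ha⟩))
  have hab : ∀ a ∈ (T : Subgroup G), ∀ b ∈ (T : Subgroup G), a * b = b * a := fun a ha b hb =>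
    congrArg Subtype.val ((hC z hz).1.is_comm.comm ⟨a, hzcomm a ha⟩ ⟨b, hzcomm b hb⟩)
  have hCT : ∀ t ∈ (T : Subgroup G), orderOf t = 2 → Subgroup.centralizer ({t} : Set G) = (T : Subgroup G) := by
    intro t ht hto
    refine T.is_maximal' (fun c => ⟨1, ?_⟩) (fun a ha => Subgroup.mem_centralizer_singleton_iff.2 (hab a ha t ht))
    exact Subtype.ext (by simpa using (hC t hto).2 c c.2)
  have hinv : ∀ t ∈ N, orderOf t = 2 → t ∈ (T : Subgroup G) := by
    intro t ht hto
    have hp : IsPGroup 2 (Subgroup.zpowers t) := IsPGroup.of_card (n := 1) (by rw [Nat.card_zpowers, hto, pow_one])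
    have hle : Subgroup.zpowers t ≤ N := by rwa [Subgroup.zpowers_le]
    have hsup := hp.to_sup_of_normal_right' T.isPGroup' hle
    have := T.is_maximal' hsup le_sup_right
    rw [← this]
    exact Subgroup.mem_sup_left (Subgroup.mem_zpowers t)
  refine Cfsg.Lib.StrongEmb.of_conditions ?_ ?_ ?_ ?_
  · exact fun h => hnn (Subgroup.normalizer_eq_top_iff.1 h)
  · exact even_iff_two_dvd.2 (((dvd_pow_self 2 (show k ≠ 0 by omega)).trans (hkc ▸ dvd_rfl)).trans (Subgroup.card_dvd_of_le hTN))
  · exact fun t ht hto => (hCT t (hinv t ht hto) hto).le.trans hTN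
  · intro t ht s hs hto hso hts
    obtain ⟨g, hg⟩ := isConj_iff.1 hts
    refine ⟨g, ?_, hg⟩
    rw [hN, Subgroup.mem_normalizer_iff]
    intro a
    rw [← hCT t (hinv t ht hto) hto]
    conv_rhs => rw [hCT t (hinv t ht hto) hto, ← hCT s (hinv s hs hso) hso]
    rw [Subgroup.mem_centralizer_singleton_iff, Subgroup.mem_centralizer_singleton_iff, ← hg]
    rw [show g * a * g⁻¹ * (g * t * g⁻¹) = g * (a * t) * g⁻¹ by group,
      show g * t * g⁻¹ * (g * a * g⁻¹) = g * (t * a) * g⁻¹ by group]
    simp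

end Cfsg.Agent.S1226
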