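import Cfsg.Statements.S1229
import Cfsg.Agent.InvolCalc.ElemCent

set_option autoImplicit false
open Cfsg

namespace Cfsg.Agent.S1229

/-- Let G be a finite group with a Sylow 2-subgroup T that is neither cyclic nor normal, such that the centralizer of every involution is an elementary abelian 2-group; put H = N_G(T) and X = G/H. Then G is triply transitive on X, an element fixing three distinct points of X is the identity, and T acts regularly on X minus the point H. -/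
theorem result {G : Type*} [Group G] [Finite G] (T : Sylow 2 G) (hnc : ¬ IsCyclic (T : Subgroup G)) (hnn : ¬ (T : Subgroup G).Normal) (hC : ∀ t : G, orderOf t = 2 → IsMulCommutative (Subgroup.centralizer ({t} : Set G)) ∧ ∀ c ∈ Subgroup.centralizer ({t} : Set G), c ^ 2 = 1) : (∀ x₁ x₂ x₃ y₁ y₂ y₃ : G ⧸ Subgroup.normalizer ((T : Subgroup G) : Set G), x₁ ≠ x₂ → x₁ ≠ x₃ → x₂ ≠ x₃ → y₁ ≠ y₂ → y₁ ≠ y₃ → y₂ ≠ y₃ → ∃ g : G, g • x₁ = y₁ ∧ g • x₂ = y₂ ∧ g • x₃ = y₃) ∧ (∀ g : G, ∀ x₁ x₂ x₃ : G ⧸ Subgroup.normalizer ((T : Subgroup G) : Set G), x₁ ≠ x₂ → x₁ ≠ x₃ → x₂ ≠ x₃ → g • x₁ = x₁ → g • x₂ = x₂ → g • x₃ = x₃ → g = 1) ∧ (∀ x y : G ⧸ Subgroup.normalizer ((T : Subgroup G) : Set G), x ≠ QuotientGroup.mk 1 → y ≠ QuotientGroup.mk 1 → ∃! t : G, t ∈ T ∧ t • x = y) := by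
  classical
  have S : Cfsg.Lib.ElemCent.Setup T := ⟨hnc, hnn, hC⟩
  set H := Subgroup.normalizer ((T : Subgroup G) : Set G) with hH
  set o : G ⧸ H := QuotientGroup.mk 1 with ho
  -- every point other than `o` is the image of `o` under an involution outside `H`
  have hinv : ∀ y : G ⧸ H, y ≠ o → ∃ u : G, orderOf u = 2 ∧ u ∉ H ∧ (QuotientGroup.mk u : G ⧸ H) = y := by
    intro y hy
    obtain ⟨t, htH, ht⟩ := Cfsg.Lib.StrongEmb.exists_involution_of_even (Cfsg.Lib.ElemCent.strong S).2.1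
    obtain ⟨g, hg⟩ := QuotientGroup.mk_surjective y
    obtain ⟨v, hv, hvy, -, -⟩ := Cfsg.Lib.StrongEmb.exists_swap (Cfsg.Lib.ElemCent.strong S) hy.symm ht
      (show t • o = o by
        rw [ho, MulAction.Quotient.smul_mk, smul_eq_mul, QuotientGroup.eq, mul_one, mul_one, inv_mem_iff]
        exact htH)
      (show orderOf (g * t * g⁻¹) = 2 by
        rw [show g * t * g⁻¹ = MulAut.conj g t from rfl, MulEquiv.orderOf_eq, ht])
      (show (g * t * g⁻¹) • y = y by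
        rw [← hg, MulAction.Quotient.smul_mk, smul_eq_mul, QuotientGroup.eq]
        simpa [mul_assoc] using inv_mem htH)
    have hvy' : (QuotientGroup.mk v : G ⧸ H) = y := by
      rw [← hvy, ho, MulAction.Quotient.smul_mk, smul_eq_mul, mul_one]
    refine ⟨v, hv, fun h => hy ?_, hvy'⟩
    rw [← hvy', ho, QuotientGroup.eq, mul_one, inv_mem_iff]
    exact h
  have hreg : ∀ x y : G ⧸ H, x ≠ o → y ≠ o → ∃! t : G, t ∈ T ∧ t • x = y := by
    intro x y hx hy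
    obtain ⟨u, hu, huH, rfl⟩ := hinv x hx
    obtain ⟨t, ht, hty⟩ := Cfsg.Lib.ElemCent.regular S hu huH hy
    refine ⟨t, ⟨ht, hty⟩, fun s ⟨hs, hsy⟩ => ?_⟩
    have hts : (t⁻¹ * s) • (QuotientGroup.mk u : G ⧸ H) = QuotientGroup.mk u := by
      rw [mul_smul, hsy, ← hty, inv_smul_smul]
    have htsT : t⁻¹ * s ∈ (T : Subgroup G) := mul_mem (inv_mem ht) hs
    by_contra hne
    refine Cfsg.Lib.ElemCent.mk_ne huH (Cfsg.Lib.StrongEmb.eq_of_fixed (Cfsg.Lib.ElemCent.strong S)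
      (Cfsg.Lib.ElemCent.order_two S htsT (fun h => hne (inv_mul_eq_one.1 h).symm)) ?_ hts)
    rw [MulAction.Quotient.smul_mk, smul_eq_mul, QuotientGroup.eq, mul_one, mul_one, inv_mem_iff]
    exact Subgroup.le_normalizer htsT
  have hTo : ∀ t ∈ (T : Subgroup G), t • o = o := by
    intro t ht
    rw [ho, MulAction.Quotient.smul_mk, smul_eq_mul, QuotientGroup.eq, mul_one, mul_one, inv_mem_iff]
    exact Subgroup.le_normalizer ht
  -- double transitivity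
  have htwo : ∀ a b c : G ⧸ H, a ≠ b → c ≠ o → ∃ g : G, g • a = o ∧ g • b = c := by
    intro a b c hab hc
    obtain ⟨g, hg⟩ := MulAction.exists_smul_eq G a o
    obtain ⟨t, ⟨ht, ht'⟩, -⟩ := hreg (g • b) c (fun h => hab (MulAction.injective g (hg.trans h.symm))) hc
    exact ⟨t * g, by rw [mul_smul, hg, hTo t ht], by rw [mul_smul, ht']⟩
  obtain ⟨w, hw⟩ : ∃ w : G ⧸ H, w ≠ o := by
    by_contra hno
    push Not at hno
    apply hnn
    rw [← Subgroup.normalizer_eq_top_iff, Subgroup.eq_top_iff']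
    intro g
    have h := hno (QuotientGroup.mk g)
    rw [ho, QuotientGroup.eq, mul_one, inv_mem_iff] at h
    exact h
  obtain ⟨u, hu, huH, hwu⟩ := hinv w hw
  have h3 : ∀ g : G, ∀ c : G ⧸ H, g • o = o → g • w = w → c ≠ o → c ≠ w → g • c = c → g = 1 := by
    intro g c h1 h2 hco hcw hc
    have hg : g ∈ Cfsg.Lib.ElemCent.Dd T u := (Cfsg.Lib.ElemCent.mem_Dd_iff hu).2 ⟨h1, by rw [hwu]; exact h2⟩
    by_contra hne
    rcases Cfsg.Lib.ElemCent.fix_two S hu huH hg hne hc with h | h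
    · exact hco h
    · exact hcw (h.trans hwu)
  have hfree : ∀ g : G, ∀ x₁ x₂ x₃ : G ⧸ H, x₁ ≠ x₂ → x₁ ≠ x₃ → x₂ ≠ x₃ →
      g • x₁ = x₁ → g • x₂ = x₂ → g • x₃ = x₃ → g = 1 := by
    intro g x₁ x₂ x₃ h12 h13 h23 e1 e2 e3
    obtain ⟨k, hk1, hk2⟩ := htwo x₁ x₂ w h12 hw
    have key : ∀ z : G ⧸ H, g • z = z → (k * g * k⁻¹) • (k • z) = k • z := fun z hz => by
      rw [mul_smul, mul_smul, inv_smul_smul, hz]
    have := h3 (k * g * k⁻¹) (k • x₃) (by rw [← hk1]; exact key _ e1) (by rw [← hk2]; exact key _ e2)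
      (fun h => h13 (MulAction.injective k (hk1.trans h.symm)))
      (fun h => h23 (MulAction.injective k (hk2.trans h.symm))) (key _ e3)
    rwa [conj_eq_one_iff] at this
  refine ⟨?_, hfree, hreg⟩
  intro x₁ x₂ x₃ y₁ y₂ y₃ h12 h13 h23 k12 k13 k23
  obtain ⟨a, ha1, ha2⟩ := htwo x₁ x₂ w h12 hw
  obtain ⟨b, hb1, hb2⟩ := htwo y₁ y₂ w k12 hw
  suffices hd : ∃ d : G, d • o = o ∧ d • w = w ∧ d • (a • x₃) = b • y₃ by
    obtain ⟨d, d1, d2, d3⟩ := hd
    refine ⟨b⁻¹ * d * a, ?_, ?_, ?_⟩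
    · rw [mul_smul, mul_smul, ha1, d1, ← hb1, inv_smul_smul]
    · rw [mul_smul, mul_smul, ha2, d2, ← hb2, inv_smul_smul]
    · rw [mul_smul, mul_smul, d3, inv_smul_smul]
  have hmove : ∀ d : Cfsg.Lib.ElemCent.Dd T u, ∀ c : G ⧸ H, c ≠ o ∧ c ≠ w →
      (d : G) • c ≠ o ∧ (d : G) • c ≠ w := by
    intro d c hc
    obtain ⟨d1, d2⟩ := (Cfsg.Lib.ElemCent.mem_Dd_iff hu).1 d.2
    rw [hwu] at d2
    exact ⟨fun h => hc.1 (MulAction.injective (d : G) (h.trans d1.symm)),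
      fun h => hc.2 (MulAction.injective (d : G) (h.trans d2.symm))⟩
  have hax : a • x₃ ≠ o ∧ a • x₃ ≠ w := ⟨fun h => h13 (MulAction.injective a (ha1.trans h.symm)),
    fun h => h23 (MulAction.injective a (ha2.trans h.symm))⟩
  have hby : b • y₃ ≠ o ∧ b • y₃ ≠ w := ⟨fun h => k13 (MulAction.injective b (hb1.trans h.symm)),
    fun h => k23 (MulAction.injective b (hb2.trans h.symm))⟩
  let φ : Cfsg.Lib.ElemCent.Dd T u → {c : G ⧸ H // c ≠ o ∧ c ≠ w} :=
    fun d => ⟨(d : G) • (a • x₃), hmove d _ hax⟩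
  have hinj : Function.Injective φ := by
    intro d e he
    have he' : (d : G) • (a • x₃) = (e : G) • (a • x₃) := congrArg Subtype.val he
    have hde := mul_mem (inv_mem e.2) d.2
    obtain ⟨d1, d2⟩ := (Cfsg.Lib.ElemCent.mem_Dd_iff hu).1 hde
    rw [hwu] at d2
    have := h3 _ (a • x₃) d1 d2 hax.1 hax.2 (by rw [mul_smul, he', inv_smul_smul])
    exact Subtype.ext (inv_mul_eq_one.1 this).symm
  have hcard : Nat.card {c : G ⧸ H // c ≠ o ∧ c ≠ w} ≤ Nat.card (Cfsg.Lib.ElemCent.Dd T u) := by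
    have hF : ∀ c : {c : G ⧸ H // c ≠ o}, ∃ t ∈ (T : Subgroup G), t • w = (c : G ⧸ H) :=
      fun c => (hreg w c hw c.2).exists
    choose f hfT hfe using hF
    let ψ : {c : G ⧸ H // c ≠ o ∧ c ≠ w} → {t : G // orderOf t = 2 ∧ t ∈ H} := fun c =>
      ⟨f ⟨c, c.2.1⟩, Cfsg.Lib.ElemCent.order_two S (hfT _) (fun h => c.2.2 (by
        have := hfe ⟨c, c.2.1⟩
        rw [h, one_smul] at this
        exact this.symm)), Subgroup.le_normalizer (hfT _)⟩
    have hψ : Function.Injective ψ := fun c c' h => by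
      have h' : f ⟨c, c.2.1⟩ = f ⟨c', c'.2.1⟩ := congrArg Subtype.val h
      exact Subtype.ext ((hfe ⟨c, c.2.1⟩).symm.trans (by rw [h']; exact hfe ⟨c', c'.2.1⟩))
    have := Nat.card_le_card_of_injective ψ hψ
    rwa [Cfsg.Lib.ElemCent.card_involutions S, ← Cfsg.Lib.ElemCent.card_Dd S hu huH] at this
  obtain ⟨d, hd⟩ := (hinj.bijective_of_nat_card_le hcard).2 ⟨b • y₃, hby⟩
  obtain ⟨d1, d2⟩ := (Cfsg.Lib.ElemCent.mem_Dd_iff hu).1 d.2
  exact ⟨d, d1, by rw [← hwu]; exact d2, congrArg Subtype.val hd⟩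

end Cfsg.Agent.S1229
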