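import Cfsg.Statements.S4489
import Cfsg.Agent.Chars.ValueField
import Cfsg.Agent.Blocks.Monomial
-- import your own Cfsg.Agent.* helpers here

set_option autoImplicit false
open Cfsg

namespace Cfsg.Agent.S4489

set_option linter.unusedSectionVars false

open Cfsg.Lib.Chars

/-- Let P be a finite p-group of order p^a with a > 0, and χ a faithful irreducible character of P of degree f whose field of values ℚ(χ) has degree (p − 1)·p^t over ℚ. Then a ≤ (f − 1)/(p − 1) + (t + 1)·f; in integer form, (p − 1)·a ≤ (f − 1) + (p − 1)(t + 1)·f. -/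
theorem result {P : Type*} [Group P] [Finite P] (p a : ℕ) (hp : p.Prime) (ha : 0 < a) (hP : Nat.card P = p ^ a) (χ : Cfsg.IrrCharacter P) (hfaith : ∀ g : P, (χ : P → ℂ) g = (χ : P → ℂ) 1 → g = 1) (f t : ℕ) (hf : Cfsg.charDegree (χ : P → ℂ) = f) (hfield : Module.finrank ℚ (IntermediateField.adjoin ℚ (Set.range (χ : P → ℂ))) = (p - 1) * p ^ t) : (p - 1) * a ≤ (f - 1) + (p - 1) * (t + 1) * f := by
  classical
  letI := Fintype.ofFinite P
  haveI := Fact.mk hp
  have hPp : IsPGroup p P := IsPGroup.of_card hP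
  haveI := hPp.isNilpotent
  obtain ⟨H, lam, hlam⟩ := Cfsg.Lib.Blocks.isMonomial_of_isNilpotent _ P rfl _ χ.2
  have hfH : H.index = f := by
    have h1 : (χ : P → ℂ) 1 = (H.index : ℂ) := by
      rw [hlam, indFun_one, map_one, Units.val_one, mul_one]
    have h2 : (χ : P → ℂ) 1 = (f : ℂ) := by rw [← hf]; exact irr_apply_one_eq_deg χ
    exact_mod_cast h1.symm.trans h2
  set Φ := MulAction.toPermHom P (P ⧸ H) with hΦ
  set A := Φ.ker with hAdef
  letI := Fintype.ofFinite A
  have hAH : ∀ (g : P) (x : A), g⁻¹ * (x : P) * g ∈ H := by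
    intro g x
    have h1 : (x : P) • (g : P ⧸ H) = (g : P ⧸ H) :=
      congrArg (fun e : Equiv.Perm (P ⧸ H) => e (g : P ⧸ H)) (MonoidHom.mem_ker.1 x.2)
    rw [MulAction.Quotient.smul_mk, eq_comm, QuotientGroup.eq, smul_eq_mul, ← mul_assoc] at h1
    exact h1
  let ν : P → (A →* ℂˣ) := fun g =>
    { toFun := fun x => lam ⟨g⁻¹ * (x : P) * g, hAH g x⟩
      map_one' := by
        rw [← map_one lam]; congr 1; exact Subtype.ext (by simp)
      map_mul' := fun x y => by
        rw [← map_mul]; congr 1; exact Subtype.ext (by simp [mul_assoc]) }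
  have hχA : ∀ x : A, (χ : P → ℂ) (x : P) = (Nat.card H : ℂ)⁻¹ * ∑ g : P, ((ν g x : ℂˣ) : ℂ) := by
    intro x
    rw [hlam, indFun_apply]
    congr 1
    exact Finset.sum_congr rfl fun g _ => extendByZero_mem _ (hAH g x)
  set Λ : Finset (A →* ℂˣ) := Finset.univ.image ν with hΛ
  have hΛf : Λ.card ≤ f := by
    have hsub : Λ ⊆ Finset.univ.image fun q : P ⧸ H => ν q.out := by
      intro μ hμ
      obtain ⟨g, -, rfl⟩ := Finset.mem_image.1 hμ
      refine Finset.mem_image.2 ⟨(g : P ⧸ H), Finset.mem_univ _, MonoidHom.ext fun x => ?_⟩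
      set r := Quotient.out (g : P ⧸ H) with hr
      have hh : g⁻¹ * r ∈ H := by
        rw [← QuotientGroup.eq, hr, QuotientGroup.out_eq']
      show lam ⟨r⁻¹ * (x : P) * r, _⟩ = lam ⟨g⁻¹ * (x : P) * g, _⟩
      rw [show (⟨r⁻¹ * (x : P) * r, hAH r x⟩ : H) =
        ⟨g⁻¹ * r, hh⟩⁻¹ * ⟨g⁻¹ * (x : P) * g, hAH g x⟩ * ⟨g⁻¹ * r, hh⟩ from
        Subtype.ext (by simp only [Subgroup.coe_mul, Subgroup.coe_inv]; group),
        map_mul, map_mul, mul_comm, ← mul_assoc, map_inv, mul_inv_cancel, one_mul]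
    refine (Finset.card_le_card hsub).trans (Finset.card_image_le.trans (le_of_eq ?_))
    rw [Finset.card_univ, ← Nat.card_eq_fintype_card, ← hfH]
    rfl
  have hn0 : p ^ a ≠ 0 := pow_ne_zero _ hp.ne_zero
  haveI : NeZero (p ^ a) := ⟨hn0⟩
  have hordn : ∀ g : P, orderOf g ∣ p ^ a := fun g => hP ▸ orderOf_dvd_natCard g
  obtain ⟨U, hUi, hU⟩ := exists_fixing_units (n := p ^ a) (Set.range (χ : P → ℂ)) (by
    rintro _ ⟨g, rfl⟩
    exact IsCharacter.mem_cycField (isCharacter_of_irr χ.2) (hordn g))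
  rw [hfield] at hUi
  have hinv : ∀ u ∈ U, ∀ μ ∈ Λ, μ ^ ((u : ZMod (p ^ a)).val) ∈ Λ := by
    intro u hu μ hμ
    obtain ⟨σ, hσ, hfix⟩ := hU u hu
    set k := (u : ZMod (p ^ a)).val
    have hk : ∀ x : A, (χ : P → ℂ) (((x : P)) ^ k) = (χ : P → ℂ) x := fun x => by
      rw [← hσ.apply_character (isCharacter_of_irr χ.2) (hordn _)]
      exact hfix _ ⟨_, rfl⟩
    have hH0 : (Nat.card H : ℂ) ≠ 0 := Nat.cast_ne_zero.2 Nat.card_pos.ne'
    have hfun : (∑ g : P, (fun x : A => (((ν g) ^ k) x : ℂ))) =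
        ∑ g : P, (fun x : A => ((ν g x : ℂˣ) : ℂ)) := by
      funext x
      rw [Finset.sum_apply, Finset.sum_apply]
      have h1 := hk x
      rw [← SubmonoidClass.coe_pow, hχA, hχA] at h1
      have h2 := mul_left_cancel₀ (inv_ne_zero hH0) h1
      rw [← h2]
      exact Finset.sum_congr rfl fun g _ => by rw [map_pow]; rfl
    by_contra hne
    have h0 := congrArg (fun F => Cfsg.classInner F (fun x : A => (((μ ^ k) x : ℂˣ) : ℂ))) hfun
    simp only [classInner_sum_left] at h0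
    have hval : ∀ ψ : A →* ℂˣ, Cfsg.classInner (fun x : A => ((ψ x : ℂˣ) : ℂ))
        (fun x : A => (((μ ^ k) x : ℂˣ) : ℂ)) = if ψ = μ ^ k then 1 else 0 := by
      intro ψ
      rw [classInner_irrChar (isIrrCharacter_linear ψ) (isIrrCharacter_linear (μ ^ k))]
      refine if_congr ⟨fun h => MonoidHom.ext fun x => Units.ext (congrFun h x), fun h => by rw [h]⟩
        rfl rfl
    simp only [hval] at h0
    rw [Finset.sum_eq_zero (s := (Finset.univ : Finset P))
      (f := fun g => if ν g = μ ^ k then (1 : ℂ) else 0)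
      (fun g _ => if_neg fun h => hne (Finset.mem_image.2 ⟨g, Finset.mem_univ g, h⟩))] at h0
    obtain ⟨g, -, rfl⟩ := Finset.mem_image.1 hμ
    rw [Finset.sum_boole] at h0
    have h3 : (Finset.univ.filter fun g' : P => ν g' ^ k = ν g ^ k).card = 0 := by exact_mod_cast h0
    exact (Finset.card_pos.2 ⟨g, by simp⟩).ne' h3
  -- the kernels of the constituents
  set KS : Finset (Subgroup A) := Λ.image MonoidHom.ker with hKS
  have hAcard : Nat.card A ≤ ∏ K ∈ KS, K.index := by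
    let ψ : A → ∀ K : KS, A ⧸ (K : Subgroup A) := fun x K => (x : A ⧸ (K : Subgroup A))
    have hψ : Function.Injective ψ := by
      intro x y hxy
      have h1 : ∀ g : P, ν g (x⁻¹ * y) = 1 := fun g => MonoidHom.mem_ker.1
        (QuotientGroup.eq.1 (congrFun hxy ⟨(ν g).ker, Finset.mem_image.2
          ⟨ν g, Finset.mem_image.2 ⟨g, Finset.mem_univ g, rfl⟩, rfl⟩⟩))
      have h2 : ((x⁻¹ * y : A) : P) = 1 := by
        refine hfaith _ ?_
        rw [hχA, ← Subgroup.coe_one A, hχA]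
        simp only [h1, map_one]
      exact inv_mul_eq_one.1 (Subtype.ext h2)
    refine (Nat.card_le_card_of_injective ψ hψ).trans (le_of_eq ?_)
    rw [Nat.card_pi, ← Finset.prod_coe_sort KS]
    rfl
  have hfiber : ∀ K ∈ KS, ∃ j : ℕ, K.index = p ^ j ∧
      j ≤ (t + 1) * (Λ.filter fun μ => μ.ker = K).card := by
    intro K hK
    obtain ⟨μ, hμ, rfl⟩ := Finset.mem_image.1 hK
    obtain ⟨j, hj⟩ : ∃ j, μ.ker.index = p ^ j := by
      have h1 : μ.ker.index ∣ p ^ a := μ.ker.index_dvd_card.trans (hP ▸ A.card_subgroup_dvd_card)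
      obtain ⟨j, -, hj⟩ := (Nat.dvd_prime_pow hp).1 h1
      exact ⟨j, hj⟩
    refine ⟨j, hj, ?_⟩
    set Fib := Λ.filter fun μ' => μ'.ker = μ.ker
    have hFib : 0 < Fib.card := Finset.card_pos.2 ⟨μ, Finset.mem_filter.2 ⟨hμ, rfl⟩⟩
    by_cases hjt : j ≤ t + 1
    · exact hjt.trans (Nat.le_mul_of_pos_right _ hFib)
    have hja : p ^ j ∣ p ^ a := hj ▸ μ.ker.index_dvd_card.trans (hP ▸ A.card_subgroup_dvd_card)
    haveI : NeZero (p ^ j) := ⟨pow_ne_zero _ hp.ne_zero⟩
    haveI : IsCyclic μ.range := isCyclic_of_subgroup_isDomain (Units.coeHom ℂ |>.comp μ.range.subtype)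
      (Units.val_injective.comp Subtype.val_injective)
    obtain ⟨⟨_, a0, rfl⟩, ha0⟩ := IsCyclic.exists_ofOrder_eq_natCard (α := μ.range)
    have ha0' : orderOf (μ a0) = p ^ j := by
      rw [← hj, Subgroup.index_ker, ← ha0]
      exact orderOf_injective μ.range.subtype μ.range.subtype_injective ⟨μ a0, ⟨a0, rfl⟩⟩
    have hexp : ∀ x : A, μ x ^ p ^ j = 1 := fun x => by
      have h1 := pow_card_eq_one' (x := (⟨μ x, ⟨x, rfl⟩⟩ : μ.range))
      rw [← Subgroup.index_ker, hj] at h1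
      exact congrArg Subtype.val h1
    set π := ZMod.unitsMap hja
    set V := U.map π with hV
    have hVcard : p ^ (j - 1 - t) ≤ Nat.card V := by
      have hVi : V.index ≤ (p - 1) * p ^ t := by
        refine hUi ▸ Nat.le_of_dvd (Nat.pos_of_ne_zero Subgroup.index_ne_zero_of_finite) ?_
        exact Subgroup.index_map_dvd _ (ZMod.unitsMap_surjective hja)
      have h1 := V.card_mul_index
      rw [Nat.card_eq_fintype_card (α := (ZMod (p ^ j))ˣ), ZMod.card_units_eq_totient,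
        Nat.totient_prime_pow hp (by omega)] at h1
      refine Nat.le_of_mul_le_mul_right ?_
        (Nat.mul_pos (Nat.sub_pos_of_lt hp.one_lt) (pow_pos hp.pos t))
      calc p ^ (j - 1 - t) * ((p - 1) * p ^ t) = p ^ (j - 1) * (p - 1) := by
            rw [mul_left_comm, ← pow_add, show j - 1 - t + t = j - 1 by omega, mul_comm]
        _ = Nat.card V * V.index := h1.symm
        _ ≤ _ := Nat.mul_le_mul_left _ hVi
    have hmem : ∀ v : V, μ ^ ((v : (ZMod (p ^ j))ˣ) : ZMod (p ^ j)).val ∈ Fib := by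
      rintro ⟨_, u, hu, rfl⟩
      have heq : μ ^ ((π u : (ZMod (p ^ j))ˣ) : ZMod (p ^ j)).val = μ ^ (u : ZMod (p ^ a)).val := by
        refine MonoidHom.ext fun x => ?_
        simp only [MonoidHom.pow_apply]
        refine pow_eq_pow_iff_modEq.2 (Nat.ModEq.of_dvd (orderOf_dvd_of_pow_eq_one (hexp x)) ?_)
        rw [← ZMod.natCast_eq_natCast_iff, ZMod.natCast_zmod_val]
        show ((ZMod.castHom hja (ZMod (p ^ j))) (u : ZMod (p ^ a))) = _
        rw [ZMod.castHom_apply, ZMod.natCast_val]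
      refine Finset.mem_filter.2 ⟨heq ▸ hinv u hu μ hμ, ?_⟩
      ext x
      rw [MonoidHom.mem_ker, MonoidHom.mem_ker, MonoidHom.pow_apply]
      refine ⟨fun h => ?_, fun h => by rw [h, one_pow]⟩
      have hcop := ZMod.val_coe_unit_coprime (π u)
      rw [← pow_one (μ x), ← Nat.Coprime.gcd_eq_one hcop]
      exact pow_gcd_eq_one.2 ⟨h, hexp x⟩
    have hinj : Function.Injective fun v : V => (⟨_, hmem v⟩ : Fib) := by
      intro v w hvw
      have h1 : (μ ^ ((v : (ZMod (p ^ j))ˣ) : ZMod (p ^ j)).val) a0 =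
          (μ ^ ((w : (ZMod (p ^ j))ˣ) : ZMod (p ^ j)).val) a0 := by
        rw [show μ ^ ((v : (ZMod (p ^ j))ˣ) : ZMod (p ^ j)).val = _ from congrArg Subtype.val hvw]
      simp only [MonoidHom.pow_apply, pow_eq_pow_iff_modEq, ha0'] at h1
      have h2 := Nat.ModEq.eq_of_lt_of_lt h1 (ZMod.val_lt _) (ZMod.val_lt _)
      exact Subtype.ext (Units.ext (ZMod.val_injective _ h2))
    have hle := Nat.card_le_card_of_injective _ hinj
    rw [Nat.card_eq_fintype_card (α := Fib), Fintype.card_coe] at hle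
    calc j = (t + 1) + (j - 1 - t) := by omega
      _ ≤ (t + 1) * (j - 1 - t + 1) := by
          rw [mul_add, mul_one]
          nlinarith [Nat.zero_le (t * (j - 1 - t))]
      _ ≤ (t + 1) * p ^ (j - 1 - t) := Nat.mul_le_mul_left _ (Nat.lt_pow_self hp.one_lt)
      _ ≤ _ := Nat.mul_le_mul_left _ (hVcard.trans hle)
  choose! jf hj1 hj2 using hfiber
  have hA2 : Nat.card A ≤ p ^ ((t + 1) * f) := by
    refine hAcard.trans ?_
    rw [Finset.prod_congr rfl hj1, Finset.prod_pow_eq_pow_sum]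
    refine Nat.pow_le_pow_right hp.pos ((Finset.sum_le_sum hj2).trans ?_)
    rw [← Finset.mul_sum, ← Finset.card_eq_sum_card_image]
    exact Nat.mul_le_mul_left _ hΛf
  -- the permutation part
  obtain ⟨i, -, hi⟩ := (Nat.dvd_prime_pow hp).1 (hP ▸ A.index_dvd_card)
  have hfact : p ^ i ∣ Nat.factorial f := by
    rw [← hi, hAdef, Subgroup.index_ker]
    refine (Subgroup.card_subgroup_dvd_card Φ.range).trans ?_
    rw [Nat.card_eq_fintype_card, Fintype.card_perm, ← Nat.card_eq_fintype_card, ← hfH]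
    rfl
  obtain ⟨m, -, hm⟩ := (Nat.dvd_prime_pow hp).1 (hP ▸ H.index_dvd_card)
  have hsum1 : (p.digits (p ^ m)).sum = 1 := by
    rw [← mul_one (p ^ m), Nat.digits_base_pow_mul hp.one_lt one_pos, Nat.digits_of_lt _ _ one_ne_zero hp.one_lt]
    simp
  have hiv : (p - 1) * i ≤ f - 1 := by
    have h1 : i ≤ padicValNat p (Nat.factorial f) :=
      (padicValNat_dvd_iff_le (Nat.factorial_ne_zero f)).1 hfact
    refine (Nat.mul_le_mul_left _ h1).trans (le_of_eq ?_)
    rw [sub_one_mul_padicValNat_factorial f, ← hfH, hm, hsum1]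
  have hA3 : a ≤ i + (t + 1) * f := by
    refine (Nat.pow_le_pow_iff_right hp.one_lt).1 ?_
    rw [← hP, ← A.card_mul_index, hi, pow_add, mul_comm (Nat.card A)]
    exact Nat.mul_le_mul_left _ hA2
  calc (p - 1) * a ≤ (p - 1) * (i + (t + 1) * f) := Nat.mul_le_mul_left _ hA3
    _ ≤ _ := by rw [mul_add, ← mul_assoc]; exact Nat.add_le_add_right hiv _

end Cfsg.Agent.S4489
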