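import Cfsg.Statements.S4488
import Cfsg.Agent.Chars.ValueField
import Cfsg.Agent.Chars.IrrTools
import Cfsg.Agent.S4489
-- import your own Cfsg.Agent.* helpers here

set_option autoImplicit false
open Cfsg

namespace Cfsg.Agent.S4488

set_option linter.unusedSectionVars false

open Cfsg.Lib.Chars

/-- Let the finite group G have a faithful p-rational character χ of degree n (all values of χ lie in the field generated over ℚ by a root of unity of order prime to p), and let p^a be the order of a Sylow p-subgroup of G. Then a ≤ Σ_{i ≥ 0} ⌊n / ((p − 1)·p^i)⌋ (a finite sum; the terms vanish once (p − 1)p^i > n). -/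
theorem result {G : Type*} [Group G] [Finite G] (p : ℕ) (hp : p.Prime) (χ : G → ℂ) (hχ : Cfsg.IsCharacter G χ) (hfaith : ∀ g : G, χ g = χ 1 → g = 1) (hrat : (∃ r : ℕ, 0 < r ∧ ¬ p ∣ r ∧ ∀ g : G, χ g ∈ IntermediateField.adjoin ℚ ({Complex.exp (2 * Real.pi * Complex.I / r)} : Set ℂ))) (n : ℕ) (hn : Cfsg.charDegree χ = n) : (Nat.card G).factorization p ≤ ∑ i ∈ Finset.range (n + 1), n / ((p - 1) * p ^ i) := by
  classical
  haveI := Fact.mk hp
  obtain ⟨P⟩ : Nonempty (Sylow p G) := inferInstance
  letI := Fintype.ofFinite (P : Subgroup G)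
  set a := (Nat.card G).factorization p with ha
  have hPcard : Nat.card (P : Subgroup G) = p ^ a := P.card_eq_multiplicity
  obtain ⟨r, hr0, hpr, hval⟩ := hrat
  set χP : ↥(P : Subgroup G) → ℂ := fun x => χ x with hχP
  have hχPc : Cfsg.IsCharacter (P : Subgroup G) χP := IsCharacter.restrict hχ _
  haveI : NeZero (p ^ a) := ⟨pow_ne_zero _ hp.ne_zero⟩
  have hord : ∀ x : (P : Subgroup G), orderOf x ∣ p ^ a := fun x => hPcard ▸ orderOf_dvd_natCard x
  have hinv : ∀ k : ℕ, k.Coprime (p ^ a) → ∀ x : (P : Subgroup G), χP (x ^ k) = χP x := by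
    intro k hk x
    have hcop : (p ^ a).Coprime r := Nat.Coprime.pow_left _ (hp.coprime_iff_not_dvd.2 hpr)
    obtain ⟨k', hk1, hk2⟩ := Nat.chineseRemainder hcop k 1
    haveI : NeZero (p ^ a * r) := ⟨mul_ne_zero (pow_ne_zero _ hp.ne_zero) hr0.ne'⟩
    have hk' : k'.Coprime (p ^ a * r) := by
      refine Nat.Coprime.mul_right ?_ ?_
      · rw [Nat.Coprime, hk1.gcd_eq]; exact hk
      · rw [Nat.Coprime, hk2.gcd_eq]; exact Nat.gcd_one_left r
    obtain ⟨σ, hσ⟩ := exists_galConj_auto hk'
    have h1 : σ (χP x) = χP (x ^ k') := hσ.apply_character hχPc (dvd_mul_of_dvd_left (hord x) r)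
    haveI : NeZero r := ⟨hr0.ne'⟩
    have h2 : ∀ y ∈ cycField r, σ y = y := by
      intro y hy
      induction hy using IntermediateField.adjoin_induction with
      | mem y hy =>
        obtain rfl := Set.mem_singleton_iff.1 hy
        have h0 : zetaC r ^ (p ^ a * r) = 1 := by
          rw [mul_comm, pow_mul, (isPrimitiveRoot_zetaC r).pow_eq_one, one_pow]
        rw [hσ _ h0]
        have h3 : zetaC r ^ k' = zetaC r ^ 1 := by
          rw [pow_eq_pow_mod k' (isPrimitiveRoot_zetaC r).pow_eq_one,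
            pow_eq_pow_mod 1 (isPrimitiveRoot_zetaC r).pow_eq_one, hk2]
        rw [h3, pow_one]
      | algebraMap q => exact map_ratCast σ q
      | add y w _ _ h1 h2 => rw [map_add, h1, h2]
      | inv y _ h1 => rw [map_inv₀, h1]
      | mul y w _ _ h1 h2 => rw [map_mul, h1, h2]
    have hxk : x ^ k = x ^ k' := pow_eq_pow_iff_modEq.2 ((hk1.of_dvd (hord x)).symm)
    rw [hxk, ← h1]
    exact h2 _ (hval _)
  obtain ⟨mult, hmult⟩ := IsCharacter.exists_decomp hχPc
  have hmult' : ∀ ψ : Cfsg.IrrCharacter (P : Subgroup G),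
      Cfsg.classInner χP (ψ : ↥(P : Subgroup G) → ℂ) = (mult ψ : ℂ) := by
    intro ψ
    rw [hmult]
    simp only [← Nat.cast_smul_eq_nsmul ℂ]
    exact classInner_irrSum (fun φ => (mult φ : ℂ)) ψ
  -- conjugating constituents
  have hgal : ∀ (u : (ZMod (p ^ a))ˣ) (ψ : Cfsg.IrrCharacter (P : Subgroup G)),
      ∃ ψ' : Cfsg.IrrCharacter (P : Subgroup G), mult ψ' = mult ψ ∧
        ∀ x, (ψ' : ↥(P : Subgroup G) → ℂ) x = (ψ : ↥(P : Subgroup G) → ℂ) (x ^ (u : ZMod (p ^ a)).val) := by
    intro u ψ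
    set k := (u : ZMod (p ^ a)).val with hk
    have hkc : k.Coprime (p ^ a) := ZMod.val_coe_unit_coprime u
    obtain ⟨σ, hσ⟩ := exists_galConj_auto hkc
    refine ⟨⟨_, IsIrrCharacter.map_auto ψ.2 σ⟩, ?_,
      fun x => hσ.apply_character (isCharacter_of_irr ψ.2) (hord x)⟩
    have h1 := hmult' ⟨_, IsIrrCharacter.map_auto ψ.2 σ⟩
    rw [← Nat.cast_inj (R := ℂ), ← h1, ← hmult' ψ, classInner_def, classInner_def]
    congr 1
    refine Fintype.sum_equiv (powCoprime (G := (P : Subgroup G)) (n := k)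
      (Nat.Coprime.symm (by rw [hPcard]; exact hkc))) _ _ fun x => ?_
    rw [powCoprime_apply, hinv k hkc x]
    congr 2
    exact hσ.apply_character (isCharacter_of_irr ψ.2) (hord x)
  set Cs : Finset (Cfsg.IrrCharacter (P : Subgroup G)) :=
    Finset.univ.filter fun ψ => mult ψ ≠ 0 ∧ ψ ≠ principal _ with hCs
  set kerOf : Cfsg.IrrCharacter (P : Subgroup G) → Subgroup (P : Subgroup G) :=
    fun ψ => kerSubgroup _ (isCharacter_of_irr ψ.2) with hkerOf
  set KS := Cs.image kerOf with hKS
  have hd : deg χP = n := by rw [← hn]; simp [hχP, deg, Cfsg.charDegree]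
  have hnsum : ∑ ψ, mult ψ * deg (ψ : ↥(P : Subgroup G) → ℂ) = n := by
    rw [← hd]
    apply Nat.cast_injective (R := ℂ)
    rw [← IsCharacter.apply_one_eq_deg hχPc, congrFun hmult 1]
    push_cast
    simp [Finset.sum_apply, irr_apply_one_eq_deg]
  have hKcard : p ^ a ≤ ∏ K ∈ KS, K.index := by
    let ψm : ↥(P : Subgroup G) → ∀ K : KS, (P : Subgroup G) ⧸ (K : Subgroup (P : Subgroup G)) :=
      fun x K => (x : (P : Subgroup G) ⧸ (K : Subgroup (P : Subgroup G)))
    have hinj : Function.Injective ψm := by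
      intro x y hxy
      have h1 : ∀ ψ : Cfsg.IrrCharacter (P : Subgroup G), mult ψ ≠ 0 →
          (ψ : ↥(P : Subgroup G) → ℂ) (x⁻¹ * y) = (ψ : ↥(P : Subgroup G) → ℂ) 1 := by
        intro ψ hψ
        by_cases hp1 : ψ = principal _
        · rw [hp1]; rfl
        · have h0 : x⁻¹ * y ∈ kerOf ψ := QuotientGroup.eq.1 (congrFun hxy ⟨kerOf ψ,
            Finset.mem_image.2 ⟨ψ, Finset.mem_filter.2 ⟨Finset.mem_univ _, hψ, hp1⟩, rfl⟩⟩)
          exact (mem_kerSubgroup (isCharacter_of_irr ψ.2) _).1 h0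
      have h2 : χP (x⁻¹ * y) = χP 1 := by
        rw [hmult, Finset.sum_apply, Finset.sum_apply]
        refine Finset.sum_congr rfl fun ψ _ => ?_
        by_cases h : mult ψ = 0
        · simp [h]
        · simp [h1 ψ h]
      exact inv_mul_eq_one.1 (Subtype.ext (hfaith _ (by simpa [hχP] using h2)))
    rw [← hPcard]
    refine (Nat.card_le_card_of_injective ψm hinj).trans (le_of_eq ?_)
    rw [Nat.card_pi, ← Finset.prod_coe_sort KS]
    rfl
  set S : ℕ → ℕ := fun N => ∑ i ∈ Finset.range (n + 1), N / ((p - 1) * p ^ i) with hS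
  set mass : Subgroup (P : Subgroup G) → ℕ := fun K =>
    ∑ ψ ∈ Cs.filter (fun ψ => kerOf ψ = K), mult ψ * deg (ψ : ↥(P : Subgroup G) → ℂ) with hmass
  have hfiber : ∀ K ∈ KS, ∃ j : ℕ, K.index = p ^ j ∧ j ≤ S (mass K) := by
    intro K hK
    obtain ⟨ψ, hψC, rfl⟩ := Finset.mem_image.1 hK
    obtain ⟨-, hψm, hψ1⟩ := Finset.mem_filter.1 hψC
    have hψc := isCharacter_of_irr ψ.2
    haveI : (kerOf ψ).Normal := kerSubgroup_normal hψc
    obtain ⟨j, -, hj⟩ := (Nat.dvd_prime_pow hp).1 (hPcard ▸ (kerOf ψ).index_dvd_card)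
    refine ⟨j, hj, ?_⟩
    have hj0 : j ≠ 0 := by
      intro h
      rw [h, pow_zero, Subgroup.index_eq_one] at hj
      have hconst : ∀ x, (ψ : ↥(P : Subgroup G) → ℂ) x = (ψ : ↥(P : Subgroup G) → ℂ) 1 := fun x =>
        (mem_kerSubgroup hψc x).1 (show x ∈ kerOf ψ from hj ▸ Subgroup.mem_top x)
      refine hψ1 (by_contra fun hne => ?_)
      have h0 := classInner_irrChar ψ.2 (principal (P : Subgroup G)).2
      rw [if_neg fun he => hne (Subtype.ext he),
        show (ψ : ↥(P : Subgroup G) → ℂ) = (ψ : ↥(P : Subgroup G) → ℂ) 1 •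
          ((principal (P : Subgroup G) : Cfsg.IrrCharacter _) : ↥(P : Subgroup G) → ℂ) from
          funext fun x => by simp [principal, hconst x],
        classInner_smul_left, classInner_self_irr (principal (P : Subgroup G)).2, mul_one] at h0
      exact IsIrrCharacter.apply_one_ne_zero ψ.2 h0
    set Q := (P : Subgroup G) ⧸ kerOf ψ with hQ
    letI := Fintype.ofFinite Q
    have hQs := QuotientGroup.mk'_surjective (kerOf ψ)
    obtain ⟨ψb, hψbc, hψb⟩ := exists_factor (QuotientGroup.mk' (kerOf ψ)) hQs hψc (fun k hk => by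
      rw [QuotientGroup.ker_mk'] at hk
      exact (mem_kerSubgroup hψc k).1 hk)
    have hψbI : Cfsg.IsIrrCharacter Q ψb :=
      IsIrrCharacter.descend hψbc (QuotientGroup.mk' (kerOf ψ)) hQs (hψb ▸ ψ.2)
    have hQcard : Nat.card Q = p ^ j := hj
    have hQfaith : ∀ q : Q, ψb q = ψb 1 → q = 1 := by
      intro q hq
      obtain ⟨x, rfl⟩ := hQs q
      refine (QuotientGroup.eq_one_iff x).2 ((mem_kerSubgroup hψc x).2 ?_)
      rw [hψb]
      simp only [map_one]
      exact hq
    obtain ⟨W, hWi, hW⟩ := exists_fixing_units_iff (n := p ^ a)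
      (Set.range (ψ : ↥(P : Subgroup G) → ℂ)) (by
        rintro _ ⟨x, rfl⟩
        exact IsCharacter.mem_cycField hψc (hord x))
    have hW' : ∀ u, u ∈ W ↔
        ∀ x, (ψ : ↥(P : Subgroup G) → ℂ) (x ^ (u : ZMod (p ^ a)).val) = (ψ : ↥(P : Subgroup G) → ℂ) x := by
      intro u
      rw [hW]
      refine ⟨fun h x => ?_, fun h σ hσ z hz => ?_⟩
      · obtain ⟨σ, hσ⟩ := exists_galConj_auto (ZMod.val_coe_unit_coprime u)
        rw [← hσ.apply_character hψc (hord x)]
        exact h σ hσ _ ⟨x, rfl⟩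
      · obtain ⟨x, rfl⟩ := hz
        rw [hσ.apply_character hψc (hord x)]
        exact h x
    -- a central element of order `p` in the quotient
    have hQp : IsPGroup p Q := P.2.to_quotient _
    haveI : Nontrivial Q := by
      rw [← Finite.one_lt_card_iff_nontrivial, hQcard]
      exact Nat.one_lt_pow hj0 hp.one_lt
    haveI := hQp.center_nontrivial
    have hpZ : p ∣ Nat.card (Subgroup.center Q) := by
      obtain ⟨e, he⟩ := IsPGroup.iff_card.1 (hQp.to_subgroup (Subgroup.center Q))
      rw [he]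
      refine dvd_pow_self p fun h0 => ?_
      rw [h0, pow_zero] at he
      exact (Finite.one_lt_card (α := Subgroup.center Q)).ne' he
    obtain ⟨z, hz⟩ := exists_prime_orderOf_dvd_card' p hpZ
    rw [← Subgroup.orderOf_coe] at hz
    obtain ⟨zx, hzx⟩ := hQs (z : Q)
    obtain ⟨db, ρ, hρ, hρc⟩ := hψbI
    haveI := hρ
    obtain ⟨ζ, hζ⟩ := schur_scalar ρ (ρ (z : Q)) (fun g v => by
      rw [← Module.End.mul_apply, ← map_mul, ← Subgroup.mem_center_iff.1 z.2 g, map_mul,
        Module.End.mul_apply])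
    have hpowζ : ∀ k : ℕ, ψb ((z : Q) ^ k) = ζ ^ k * ψb 1 := fun k => by
      rw [← hρc]
      simp only [Representation.character, map_pow, map_one, hζ, ← Module.End.one_eq_id, smul_pow,
        one_pow, map_smul, smul_eq_mul]
    have hb0 : ψb 1 ≠ 0 := IsIrrCharacter.apply_one_ne_zero ⟨db, ρ, hρ, hρc⟩
    have hζp : ζ ^ p = 1 := by
      have h1 := hpowζ p
      rw [show (z : Q) ^ p = 1 from orderOf_dvd_iff_pow_eq_one.1 (dvd_of_eq hz)] at h1
      exact (mul_right_cancel₀ hb0 ((one_mul _).trans h1)).symm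
    have hζ1 : ζ ≠ 1 := by
      intro h
      have h1 := hpowζ 1
      rw [pow_one, h, one_pow, one_mul] at h1
      have := hQfaith _ h1
      rw [this, orderOf_one] at hz
      exact hp.one_lt.ne hz
    have hpa : p ∣ p ^ a := dvd_pow_self p fun h0 => by
      have h1 := Nat.le_of_dvd (by rw [h0, pow_zero]; exact one_pos)
        (hj ▸ hPcard ▸ (kerOf ψ).index_dvd_card)
      rw [h0, pow_zero] at h1
      exact absurd h1 (not_le.2 (Nat.one_lt_pow hj0 hp.one_lt))
    have hWker : W ≤ (ZMod.unitsMap hpa).ker := by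
      intro u hu
      have h1 := (hW' u).1 hu zx
      rw [hψb] at h1
      simp only [map_pow, hzx, hpowζ] at h1
      have h2 : ζ ^ (u : ZMod (p ^ a)).val = ζ ^ 1 := by
        refine mul_right_cancel₀ hb0 ?_
        rw [h1, ← hpowζ 1, pow_one]
      have hprim : IsPrimitiveRoot ζ p := by
        have h3 := IsPrimitiveRoot.orderOf ζ
        rwa [orderOf_eq_prime hζp hζ1] at h3
      rw [pow_eq_pow_mod _ hζp] at h2
      replace h2 : (u : ZMod (p ^ a)).val ≡ 1 [MOD p] :=
        (hprim.pow_inj (Nat.mod_lt _ hp.pos) hp.one_lt h2).trans (Nat.mod_eq_of_lt hp.one_lt).symm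
      rw [← ZMod.natCast_eq_natCast_iff, Nat.cast_one] at h2
      rw [MonoidHom.mem_ker]
      refine Units.ext ?_
      show (ZMod.castHom hpa (ZMod p)) (u : ZMod (p ^ a)) = _
      rw [ZMod.castHom_apply, ← ZMod.natCast_val]
      exact h2
    obtain ⟨t, ht⟩ : ∃ t, W.index = (p - 1) * p ^ t := by
      have hker : (ZMod.unitsMap hpa).ker.index = p - 1 := by
        rw [Subgroup.index_ker, MonoidHom.range_eq_top.2 (ZMod.unitsMap_surjective hpa),
          Subgroup.card_top, Nat.card_eq_fintype_card, ZMod.card_units_eq_totient, Nat.totient_prime hp]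
      obtain ⟨a', ha'⟩ := Nat.exists_eq_add_of_le' (Nat.pos_of_ne_zero (fun h0 => by
        rw [h0, pow_zero, Nat.dvd_one] at hpa; exact hp.one_lt.ne' hpa) : 1 ≤ a)
      have hcardker : Nat.card (ZMod.unitsMap hpa).ker = p ^ a' := by
        have h1 := (ZMod.unitsMap hpa).ker.card_mul_index
        rw [hker, Nat.card_eq_fintype_card (α := (ZMod (p ^ a))ˣ), ZMod.card_units_eq_totient,
          Nat.totient_prime_pow hp (by omega), show a - 1 = a' by omega] at h1
        exact Nat.eq_of_mul_eq_mul_right (Nat.sub_pos_of_lt hp.one_lt) h1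
      obtain ⟨s, hs, hsW⟩ := (Nat.dvd_prime_pow hp).1 (hcardker ▸ Subgroup.card_dvd_of_le hWker)
      refine ⟨a' - s, ?_⟩
      have h1 := W.card_mul_index
      rw [hsW, Nat.card_eq_fintype_card, ZMod.card_units_eq_totient,
        Nat.totient_prime_pow hp (by omega), show a - 1 = a' by omega] at h1
      refine Nat.eq_of_mul_eq_mul_left (pow_pos hp.pos s) (h1.trans ?_)
      rw [mul_left_comm, ← pow_add, show s + (a' - s) = a' by omega, mul_comm]
    set f := deg ψb with hfdef
    have hfψ : deg (ψ : ↥(P : Subgroup G) → ℂ) = f := by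
      rw [hψb, hfdef]; simp [deg]
    have hfield : Module.finrank ℚ (IntermediateField.adjoin ℚ (Set.range ψb)) = (p - 1) * p ^ t := by
      rw [← ht, hWi]
      have hrange : Set.range ψb = Set.range (ψ : ↥(P : Subgroup G) → ℂ) := by
        rw [hψb]
        exact (hQs.range_comp ψb).symm
      rw [hrange]
    have h89 : (p - 1) * j ≤ (f - 1) + (p - 1) * (t + 1) * f :=
      Cfsg.Agent.S4489.result p j hp (Nat.pos_of_ne_zero hj0) hQcard ⟨ψb, ⟨db, ρ, hρ, hρc⟩⟩ hQfaith
        f t rfl hfield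
    obtain ⟨mf, -, hmf⟩ : ∃ mf ≤ a, f = p ^ mf := by
      have h1 : f ∣ Nat.card (P : Subgroup G) := hfψ ▸ IsIrrCharacter.deg_dvd ψ.2
      rw [hPcard] at h1
      exact (Nat.dvd_prime_pow hp).1 h1
    -- the orbit inside the fiber
    have hM : (p - 1) * p ^ (t + mf) ≤ mass (kerOf ψ) := by
      choose g hgm hgv using fun u => hgal u ψ
      have hsub : (Finset.univ.image g) ⊆ Cs.filter (fun ψ' => kerOf ψ' = kerOf ψ) := by
        intro ψ' hψ'
        obtain ⟨u, -, rfl⟩ := Finset.mem_image.1 hψ'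
        have hker : kerOf (g u) = kerOf ψ := by
          ext x
          show (g u : ↥(P : Subgroup G) → ℂ) x = (g u : ↥(P : Subgroup G) → ℂ) 1 ↔
            (ψ : ↥(P : Subgroup G) → ℂ) x = (ψ : ↥(P : Subgroup G) → ℂ) 1
          rw [hgv, hgv, one_pow]
          refine ⟨fun h => ?_, fun h => ?_⟩
          · have hb : x ^ (u : ZMod (p ^ a)).val ∈ kerOf ψ := h
            obtain ⟨y, hy⟩ : ∃ y : ℕ, (x ^ (u : ZMod (p ^ a)).val) ^ y = x :=
              exists_pow_eq_self_of_coprime ((ZMod.val_coe_unit_coprime u).coprime_dvd_right (hord x))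
            exact (mem_kerSubgroup hψc x).1 (hy ▸ (kerOf ψ).pow_mem hb y)
          · exact (mem_kerSubgroup hψc _).1 ((kerOf ψ).pow_mem (show x ∈ kerOf ψ from h) _)
        refine Finset.mem_filter.2 ⟨Finset.mem_filter.2 ⟨Finset.mem_univ _, ?_, ?_⟩, hker⟩
        · rw [hgm]; exact hψm
        · intro hpr1
          rw [hpr1] at hker
          have htop : kerOf ψ = ⊤ := hker ▸ (eq_top_iff.2 fun x _ => rfl)
          rw [htop, Subgroup.index_top] at hj
          exact absurd hj.symm (Nat.one_lt_pow hj0 hp.one_lt).ne'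
      have hW0 : W.index ≤ (Finset.univ.image g).card := by
        rw [Subgroup.index, ← Fintype.card_coe, ← Nat.card_eq_fintype_card]
        refine Nat.card_le_card_of_injective
          (fun q => (⟨g q.out, Finset.mem_image.2 ⟨q.out, Finset.mem_univ _, rfl⟩⟩ :
            (Finset.univ.image g : Finset _))) ?_
        intro q q' hq
        have h1 : g q.out = g q'.out := congrArg Subtype.val hq
        rw [← QuotientGroup.out_eq' q, ← QuotientGroup.out_eq' q', QuotientGroup.eq, hW']
        intro x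
        set u := q.out with hu
        set v := q'.out with hv
        obtain ⟨y, hy⟩ : ∃ y : ℕ, (x ^ y) ^ (u : ZMod (p ^ a)).val = x := by
          obtain ⟨y, hy⟩ := exists_pow_eq_self_of_coprime (x := x)
            ((ZMod.val_coe_unit_coprime u).coprime_dvd_right (hord x))
          exact ⟨y, by rw [pow_right_comm]; exact hy⟩
        have h2 := congrFun (congrArg Subtype.val h1) (x ^ y)
        rw [hgv, hgv, hy] at h2
        rw [h2]
        refine congrArg _ ?_
        conv_lhs => rw [← hy]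
        rw [← pow_mul, pow_eq_pow_iff_modEq]
        refine Nat.ModEq.of_dvd (hord _) ?_
        rw [← ZMod.natCast_eq_natCast_iff, Nat.cast_mul, ZMod.natCast_zmod_val, ZMod.natCast_zmod_val,
          ZMod.natCast_zmod_val, Units.val_mul, ← mul_assoc, ← Units.val_mul, mul_inv_cancel,
          Units.val_one, one_mul]
      calc (p - 1) * p ^ (t + mf) = W.index * f := by rw [ht, hmf, pow_add, mul_assoc]
        _ ≤ (Finset.univ.image g).card * f := Nat.mul_le_mul_right _ hW0
        _ ≤ ∑ ψ' ∈ Finset.univ.image g, mult ψ' * deg (ψ' : ↥(P : Subgroup G) → ℂ) := by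
            rw [← smul_eq_mul, ← Finset.sum_const]
            refine Finset.sum_le_sum fun ψ' hψ' => ?_
            obtain ⟨u, -, rfl⟩ := Finset.mem_image.1 hψ'
            have hdg : deg (g u : ↥(P : Subgroup G) → ℂ) = f := by
              rw [← hfψ]
              show ⌊((g u : ↥(P : Subgroup G) → ℂ) 1).re⌋₊ = _
              rw [hgv, one_pow]
              rfl
            rw [hdg, hgm]
            exact Nat.le_mul_of_pos_left _ (Nat.pos_of_ne_zero hψm)
        _ ≤ _ := Finset.sum_le_sum_of_subset hsub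
    have hmassn : mass (kerOf ψ) ≤ n := by
      rw [← hnsum]
      exact Finset.sum_le_sum_of_subset (Finset.subset_univ _)
    set T := t + mf with hT
    have hTn : T < n + 1 := by
      have h1 : p ^ T ≤ n := (Nat.le_mul_of_pos_left _ (Nat.sub_pos_of_lt hp.one_lt)).trans
        (hM.trans hmassn)
      have := Nat.lt_pow_self (n := T) hp.one_lt
      omega
    have hS0 : ∑ i ∈ Finset.range (T + 1), p ^ i ≤ S (mass (kerOf ψ)) := by
      rw [← Finset.sum_range_reflect (fun i => p ^ i) (T + 1), hS]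
      refine le_trans (Finset.sum_le_sum fun i hi => ?_) (Finset.sum_le_sum_of_subset
        (Finset.range_mono (show T + 1 ≤ n + 1 by omega)))
      rw [Finset.mem_range] at hi
      rw [Nat.le_div_iff_mul_le (Nat.mul_pos (Nat.sub_pos_of_lt hp.one_lt) (pow_pos hp.pos i))]
      refine le_trans (le_of_eq ?_) hM
      rw [mul_left_comm, ← pow_add, show T + 1 - 1 - i + i = T by omega]
    refine le_trans ?_ hS0
    refine Nat.le_of_mul_le_mul_left ?_ (Nat.sub_pos_of_lt hp.one_lt)
    refine h89.trans ?_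
    have hgeom := geom_sum_mul_of_one_le (x := p) hp.one_lt.le (T + 1)
    rw [mul_comm] at hgeom
    rw [hgeom, hmf]
    have hbern : ∀ k : ℕ, (p - 1) * k + 1 ≤ p ^ k := by
      intro k
      induction k with
      | zero => simp
      | succ k ih =>
        have hp1 : p = p - 1 + 1 := by have := hp.one_lt; omega
        calc (p - 1) * (k + 1) + 1 = (p - 1) * k + 1 + (p - 1) := by ring
          _ ≤ p ^ k + (p - 1) * p ^ k :=
            Nat.add_le_add ih (Nat.le_mul_of_pos_right _ (pow_pos hp.pos k))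
          _ = p ^ (k + 1) := by
            conv_rhs => rw [pow_succ, hp1]
            conv_lhs => rw [hp1]
            simp only [Nat.add_sub_cancel]
            ring
    have h5 : ((p - 1) * (t + 1) + 1) * p ^ mf ≤ p ^ (T + 1) := by
      rw [hT, show t + mf + 1 = t + 1 + mf by omega, pow_add]
      exact Nat.mul_le_mul_right _ (hbern _)
    have h6 : 1 ≤ p ^ mf := pow_pos hp.pos mf
    rw [Nat.add_mul, one_mul] at h5
    omega
  choose! jf hj1 hj2 using hfiber
  have hle : a ≤ ∑ K ∈ KS, jf K := by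
    refine (Nat.pow_le_pow_iff_right hp.one_lt).1 (hKcard.trans (le_of_eq ?_))
    rw [← Finset.prod_pow_eq_pow_sum]
    exact Finset.prod_congr rfl hj1
  refine hle.trans ((Finset.sum_le_sum hj2).trans ?_)
  have hsuper : ∀ (s : Finset (Subgroup (P : Subgroup G))) (d : ℕ),
      ∑ K ∈ s, mass K / d ≤ (∑ K ∈ s, mass K) / d := by
    intro s d
    induction s using Finset.induction_on with
    | empty => simp
    | insert b s hb ih =>
      rw [Finset.sum_insert hb, Finset.sum_insert hb]
      exact (Nat.add_le_add_left ih _).trans (Nat.add_div_le_add_div _ _ _)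
  rw [hS, Finset.sum_comm]
  refine Finset.sum_le_sum fun i _ => (hsuper KS _).trans (Nat.div_le_div_right ?_)
  rw [hmass, Finset.sum_fiberwise_of_maps_to (fun ψ hψ => Finset.mem_image_of_mem kerOf hψ), ← hnsum]
  exact Finset.sum_le_sum_of_subset (Finset.subset_univ _)

end Cfsg.Agent.S4488
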