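import Cfsg.Statements.S4504
import Cfsg.Agent.Blocks.HalfDegree.Main
-- import your own Cfsg.Agent.* helpers here

set_option autoImplicit false
open Cfsg

namespace Cfsg.Agent.S4504

/-- Let G be a finite group whose order is divisible by the prime p exactly once and which has no normal subgroup of order p. If G has a faithful character of degree exactly (p − 1)/2, then G modulo its centre is isomorphic to PSL(2, p). -/
theorem result {G : Type*} [Group G] [Finite G] (p : ℕ) (hp : p.Prime) (hdiv : p ∣ Nat.card G) (hsq : ¬ p ^ 2 ∣ Nat.card G) (hnn : ∀ H : Subgroup G, H.Normal → Nat.card H ≠ p) (χ : G → ℂ) (hχ : Cfsg.IsCharacter G χ) (hfaith : ∀ g : G, χ g = χ 1 → g = 1) (hdeg : 2 * Cfsg.charDegree χ + 1 = p) : Nonempty ((G ⧸ Subgroup.center G) ≃* Matrix.ProjectiveSpecialLinearGroup (Fin 2) (ZMod p)) := by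
  have := Fact.mk hp
  have := Fintype.ofFinite G
  have hd : 2 * Cfsg.Lib.Chars.deg χ + 1 = p := hdeg
  have hm : 2 ≤ Cfsg.Lib.Chars.deg χ := by
    by_contra hlt
    obtain ⟨n, ρ, rfl⟩ := hχ
    rw [Cfsg.Lib.Chars.deg_character, Module.finrank_fintype_fun_eq_card, Fintype.card_fin] at hd hlt
    have hn : n = 1 := by have := hp.two_le; omega
    subst hn
    have hsc : ∀ f : Module.End ℂ (Fin 1 → ℂ), f = (f (fun _ => 1) 0) • 1 := fun f => by
      refine LinearMap.ext fun w => ?_
      have hw : w = w 0 • (fun _ => (1 : ℂ)) := funext fun i => by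
        rw [Subsingleton.elim i 0]; simp
      conv_lhs => rw [hw, map_smul]
      funext i
      rw [Subsingleton.elim i 0]
      simp [mul_comm]
    have hinj : Function.Injective ρ := by
      refine (injective_iff_map_eq_one _).2 fun g hg => hfaith g ?_
      show LinearMap.trace ℂ _ (ρ g) = LinearMap.trace ℂ _ (ρ 1)
      rw [hg, map_one ρ]
    have hcomm : ∀ a b : G, a * b = b * a := fun a b => hinj (by
      rw [map_mul, map_mul, hsc (ρ a), smul_mul_assoc, mul_smul_comm, one_mul, mul_one])
    obtain ⟨y, hy⟩ := exists_prime_orderOf_dvd_card' p hdiv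
    exact hnn (Subgroup.zpowers y) ⟨fun x hx g => by rwa [hcomm g x, mul_inv_cancel_right]⟩
      (by rw [Nat.card_zpowers, hy])
  exact Cfsg.Lib.Blocks.HalfDegree.iso_psl_of_half_degree hdiv hsq hnn hχ hfaith rfl hd hm

end Cfsg.Agent.S4504
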