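import Cfsg.Statements.S4633
import Cfsg.Agent.Blocks.InertialCyclic
-- import your own Cfsg.Agent.* helpers here

set_option autoImplicit false
open Cfsg

namespace Cfsg.Agent.S4633

set_option linter.unusedSectionVars false

open Cfsg.Lib.Blocks Cfsg.Lib.Chars

/-- Let B be a block of the finite group G relative to a maximal ideal M of the algebraic integers containing the prime p, with a nontrivial cyclic defect group P. Let c be a block of C_G(P) inducing B and T the stabilizer of c in N_G(P) (the elements of N_G(P) conjugating c to itself); T contains C_G(P). Then T/C_G(P) is cyclic of order dividing p − 1, and it acts freely on the non-identity elements of P: an element of T fixing some non-identity element of P under conjugation lies in C_G(P). -/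
theorem result {G : Type*} [Group G] [Finite G] (p : ℕ) [Fact p.Prime] (M : Ideal Cfsg.AlgInt) (hM : Cfsg.IsPModular p M) (B : Set (Cfsg.IrrCharacter G)) (hB : Cfsg.IsPBlock M B) (P : Subgroup G) (hPD : Cfsg.IsDefectGroup p M B P) (hP1 : P ≠ ⊥) (hcyc : IsCyclic P) (c : Set (Cfsg.IrrCharacter (Subgroup.centralizer (P : Set G)))) (hc : Cfsg.IsInducedBlock M (Subgroup.centralizer (P : Set G)) c B) (T : Subgroup G) (hT : ∀ g : G, g ∈ T ↔ (g ∈ Subgroup.normalizer (P : Set G) ∧ Cfsg.StabilizesBlock (Subgroup.centralizer (P : Set G)) c g)) [hn : ((Subgroup.centralizer (P : Set G)).subgroupOf T).Normal] : IsCyclic (T ⧸ (Subgroup.centralizer (P : Set G)).subgroupOf T) ∧ (Subgroup.centralizer (P : Set G)).relIndex T ∣ p - 1 ∧ ∀ g ∈ T, ∀ x ∈ P, x ≠ 1 → g * x * g⁻¹ = x → g ∈ Subgroup.centralizer (P : Set G) := by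
  classical
  haveI := Fintype.ofFinite G
  haveI := Fintype.ofFinite (Subgroup.centralizer (P : Set G))
  have hp : p.Prime := Fact.out
  have hP : IsPGroup p P := IsDefectGroup.isPGroup hPD
  obtain ⟨a, ha⟩ := (isCyclic_iff_exists_zpowers_eq_top (α := P)).1 hcyc
  have hgen : Subgroup.zpowers (a : G) = P := by
    rw [← Subgroup.coe_subtype, ← MonoidHom.map_zpowers, ha, ← MonoidHom.range_eq_map,
      Subgroup.range_subtype]
  have hPC : P ≤ (Subgroup.centralizer (P : Set G)) := by
    intro x hx
    rw [Subgroup.mem_centralizer_iff]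
    intro y hy
    have hx' : x ∈ Subgroup.zpowers (a : G) := hgen.symm ▸ hx
    have hy' : y ∈ Subgroup.zpowers (a : G) := hgen.symm ▸ hy
    obtain ⟨i, rfl⟩ := Subgroup.mem_zpowers_iff.1 hx'
    obtain ⟨j, rfl⟩ := Subgroup.mem_zpowers_iff.1 hy'
    exact (Commute.refl (a : G)).zpow_zpow j i
  obtain ⟨n, hn⟩ := IsPGroup.iff_card.1 hP
  rw [← hgen, Nat.card_zpowers] at hn
  rcases n with _ | n
  · rw [pow_zero, orderOf_eq_one_iff] at hn
    exact absurd (hgen ▸ by rw [hn, Subgroup.zpowers_one_eq_bot]) hP1
  have hnd := not_dvd_inertial_index hM hPD hPC hc (T := T) hT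
  have hTN : T ≤ Subgroup.normalizer (P : Set G) := fun g hg => ((hT g).1 hg).1
  obtain ⟨ψ, hker, hfix⟩ := exists_residue_hom (p := p) hn hgen hTN fun g k _ _ hpow => by
    have h1 : g ^ p ^ n ∈ (Subgroup.centralizer (P : Set G)).subgroupOf T := by
      rw [Subgroup.mem_subgroupOf, SubgroupClass.coe_pow]; exact hpow
    have h2 : g ∈ (Subgroup.centralizer (P : Set G)).subgroupOf T := by
      rw [← QuotientGroup.eq_one_iff, ← orderOf_eq_one_iff]
      refine Nat.eq_one_of_dvd_coprimes ((hp.coprime_iff_not_dvd.2 hnd).pow_left n) ?_ ?_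
      · apply orderOf_dvd_of_pow_eq_one
        rw [← QuotientGroup.mk_pow, QuotientGroup.eq_one_iff]
        exact h1
      · rw [Subgroup.relIndex, Subgroup.index_eq_card]; exact orderOf_dvd_natCard _
    exact h2
  have hk : ψ.ker = (Subgroup.centralizer (P : Set G)).subgroupOf T := by
    ext g; rw [hker, Subgroup.mem_subgroupOf]
  refine ⟨?_, ?_, fun g hg x hx hx1 h => hfix ⟨g, hg⟩ x hx hx1 h⟩
  · haveI : IsCyclic ↥ψ.range := inferInstance
    exact isCyclic_of_injective
      ((QuotientGroup.quotientKerEquivRange ψ).toMonoidHom.comp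
        (QuotientGroup.quotientMulEquivOfEq hk.symm).toMonoidHom)
      ((QuotientGroup.quotientKerEquivRange ψ).injective.comp
        (QuotientGroup.quotientMulEquivOfEq hk.symm).injective)
  · rw [Subgroup.relIndex, ← hk, Subgroup.index_ker]
    have h := Subgroup.card_subgroup_dvd_card ψ.range
    rw [Nat.card_eq_fintype_card (α := (ZMod p)ˣ), ZMod.card_units] at h
    exact h

end Cfsg.Agent.S4633
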