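import Cfsg.Statements.S4717
import Cfsg.Agent.Blocks.BrauerSum
-- import your own Cfsg.Agent.* helpers here

set_option autoImplicit false
open Cfsg

namespace Cfsg.Agent.S4717

set_option linter.unusedSectionVars false

open Cfsg.Lib.Blocks Cfsg.Lib.Chars
open scoped ComplexConjugate

/-- Let p be a prime, M a maximal ideal of the algebraic integers containing p, and r a natural number; say that a finite group X has deficiency class r when X has no non-principal p-block of defect ≥ r. If G has deficiency class r then so does the centralizer of every p-element of G; conversely, if r > 0 and the centralizer of every element of order p has deficiency class r, then G has deficiency class r. -/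
theorem result {G : Type*} [Group G] [Finite G] (p : ℕ) [Fact p.Prime] (M : Ideal Cfsg.AlgInt) (hM : Cfsg.IsPModular p M) (r : ℕ) : ((∀ B' : Set (Cfsg.IrrCharacter G), Cfsg.IsPBlock M B' → B' ≠ Cfsg.principalBlock M G → Cfsg.blockDefect p B' < r) → ∀ y : G, (∃ k : ℕ, orderOf y = p ^ k) → (∀ B' : Set (Cfsg.IrrCharacter ↥(Subgroup.centralizer ({y} : Set G))), Cfsg.IsPBlock M B' → B' ≠ Cfsg.principalBlock M ↥(Subgroup.centralizer ({y} : Set G)) → Cfsg.blockDefect p B' < r)) ∧ (0 < r → (∀ y : G, orderOf y = p → (∀ B' : Set (Cfsg.IrrCharacter ↥(Subgroup.centralizer ({y} : Set G))), Cfsg.IsPBlock M B' → B' ≠ Cfsg.principalBlock M ↥(Subgroup.centralizer ({y} : Set G)) → Cfsg.blockDefect p B' < r)) → (∀ B' : Set (Cfsg.IrrCharacter G), Cfsg.IsPBlock M B' → B' ≠ Cfsg.principalBlock M G → Cfsg.blockDefect p B' < r)) := by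
  classical
  letI := Fintype.ofFinite G
  constructor
  · intro hG y hy
    set H := Subgroup.centralizer ({y} : Set G) with hH
    intro b hb hne
    letI := Fintype.ofFinite H
    obtain ⟨k, hk⟩ := hy
    have hQ : IsPGroup p (Subgroup.zpowers y) :=
      IsPGroup.of_card (n := k) (by rw [Nat.card_zpowers, hk])
    obtain ⟨B, hB⟩ := inducedBlockDefined_of_eq_centralizer hM hQ
      (centralizer_zpowers y).symm hb
    obtain ⟨D, hD⟩ := exists_defectGroup hM hb
    obtain ⟨E, hE, hDE⟩ := exists_defectGroup_ge_of_induced hM H hB hD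
    have hle : blockDefect p b ≤ blockDefect p B := by
      have h1 := Subgroup.card_le_of_le hDE
      rw [Subgroup.card_map_of_injective (Subgroup.subtype_injective _),
        IsDefectGroup.card hM hb hD, IsDefectGroup.card hM hB.2.1 hE] at h1
      exact (Nat.pow_le_pow_iff_right hM.1.one_lt).1 h1
    refine lt_of_le_of_lt hle (hG B hB.2.1 fun h => hne ?_)
    exact (isInducedBlock_principal_iff hM H ⟨_, hB⟩).1 (h ▸ hB)
  · intro hr hC B hB hne
    by_contra hlt
    push Not at hlt
    obtain ⟨g, hg⟩ := exists_defectClass hM hB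
    have hgd := ((isDefectClass_iff hM hB g).1 hg).1
    have hd := blockDefect_eq hM hB hg
    set S : Sylow p (Subgroup.centralizer ({g} : Set G)) := default with hS
    set D := centSyl S with hD
    have hcard : Nat.card D = p ^ blockDefect p B := by rw [hd]; exact card_centSyl S
    haveI : Nontrivial D := (Subgroup.nontrivial_iff_ne_bot D).2 fun hbot => by
      rw [hbot, Subgroup.card_bot] at hcard
      exact (Nat.one_lt_pow (hr.trans_le hlt).ne' hM.1.one_lt).ne hcard
    haveI := (isPGroup_centSyl S).center_nontrivial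
    obtain ⟨⟨⟨y, hyD⟩, hyc⟩, hyord⟩ : ∃ w : Subgroup.center D, orderOf w = p := by
      refine exists_prime_orderOf_dvd_card' p ?_
      obtain ⟨k, hk⟩ := IsPGroup.iff_card.1 (((isPGroup_centSyl S).to_subgroup (Subgroup.center D)))
      rcases k with _ | k
      · rw [pow_zero] at hk; exact absurd hk (Finite.one_lt_card (α := Subgroup.center D)).ne'
      · rw [hk]; exact dvd_pow_self p (Nat.succ_ne_zero k)
    rw [← Subgroup.orderOf_coe, ← Subgroup.orderOf_coe] at hyord
    set H := Subgroup.centralizer ({y} : Set G) with hH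
    letI := Fintype.ofFinite H
    have hDH : D ≤ H := fun d hd => by
      rw [hH, Subgroup.mem_centralizer_singleton_iff]
      exact congrArg Subtype.val (Subgroup.mem_center_iff.1 hyc ⟨d, hd⟩)
    have hgH : g ∈ H := by
      rw [hH, Subgroup.mem_centralizer_singleton_iff]
      exact (Subgroup.mem_centralizer_iff.1 (mem_centralizer_centSyl S) y hyD).symm
    have hQ : IsPGroup p (Subgroup.zpowers y) :=
      IsPGroup.of_card (n := 1) (by rw [Nat.card_zpowers, hyord, pow_one])
    obtain ⟨b, hb, hbg⟩ := exists_induced_not_small hM hQ (centralizer_zpowers y).symm hB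
      (g := ⟨g, hgH⟩) hgd
    have hle : blockDefect p B ≤ blockDefect p b := by
      refine le_trans ?_ (le_defect_of_blockCoeff hM hb.1 hbg)
      have h1 : D.subgroupOf H ≤ Subgroup.centralizer ({⟨g, hgH⟩} : Set H) := fun d hd => by
        rw [Subgroup.mem_centralizer_singleton_iff]
        exact Subtype.ext (Subgroup.mem_centralizer_iff.1 (mem_centralizer_centSyl S) (d : G) hd)
      have h2 := Subgroup.card_dvd_of_le h1
      rw [Nat.card_congr (Subgroup.subgroupOfEquivOfLe hDH).toEquiv, hcard] at h2
      exact (hM.1.pow_dvd_iff_le_factorization Nat.card_pos.ne').1 h2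
    have hbne : b ≠ principalBlock M H := fun h => by
      subst h
      exact hne (IsInducedBlock.unique hM hb
        ((isInducedBlock_principal_iff hM H ⟨_, hb⟩).2 rfl))
    exact absurd (hC y hyord b hb.1 hbne) (not_lt.2 (hlt.trans hle))

end Cfsg.Agent.S4717
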