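import Cfsg.Statements.S4718
import Cfsg.Agent.Blocks.Feit3
-- import your own Cfsg.Agent.* helpers here

set_option autoImplicit false
universe u
open Cfsg

namespace Cfsg.Agent.S4718

set_option linter.unusedSectionVars false

open Cfsg.Lib.Blocks Cfsg.Lib.Chars

/-- Let p be a prime and a a natural number. There is a bound N such that every finite group whose Sylow p-subgroups have order p^a and whose only p-block (relative to a maximal ideal of the algebraic integers containing p) is the principal block has order at most N. -/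
theorem result (p : ℕ) [Fact p.Prime] (a : ℕ) : ∃ N : ℕ, ∀ (G : Type u) [Group G] [Finite G] (M : Ideal Cfsg.AlgInt), Cfsg.IsPModular p M → (Nat.card G).factorization p = a → (∀ B : Set (Cfsg.IrrCharacter G), Cfsg.IsPBlock M B → B = Cfsg.principalBlock M G) → Nat.card G ≤ N := by
  obtain ⟨N, hN⟩ := exists_bound_of_classes.{u} (p ^ (2 * a) + 4)
  refine ⟨N, fun G _ _ M hM ha hone => hN G ?_⟩
  classical
  have := Fintype.ofFinite G
  have hB : Cfsg.IsPBlock M (Cfsg.principalBlock M G) :=
    isPBlock_blockOf (principal G : Cfsg.IrrCharacter G)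
  have huniv : ∀ χ : Cfsg.IrrCharacter G, χ ∈ Cfsg.principalBlock M G := fun χ =>
    hone _ (isPBlock_blockOf χ) ▸ mem_blockOf_self hM χ
  have hk := four_mul_card_le hM hB
  rw [Nat.card_congr (Equiv.subtypeUnivEquiv huniv), card_irrCharacter] at hk
  have hd : Cfsg.blockDefect p (Cfsg.principalBlock M G) ≤ a := by
    rw [Cfsg.blockDefect, ← ha]
    exact Nat.sub_le _ _
  have := Nat.pow_le_pow_right hM.1.pos (Nat.mul_le_mul_left 2 hd)
  omega

end Cfsg.Agent.S4718
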