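import Cfsg.Statements.S0672
import Mathlib

set_option autoImplicit false
open Cfsg

namespace Cfsg.Agent.S0672

/-- Let a finite group act faithfully and doubly transitively with point stabilisers of even order, and let `K` have characteristic `p` dividing the degree. If the heart of the permutation module admits no non-zero equivariant map to the permutation module on unordered pairs (phrased: every intertwining map from the sum-zero functions vanishing on the constants is zero), the action is triply transitive. -/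
theorem result {G : Type*} [Group G] [Finite G] {K : Type*} [Field K] {p : ℕ} [Fact p.Prime] [CharP K p] {Ω : Type*} [Fintype Ω] [DecidableEq Ω] [MulAction G Ω] [FaithfulSMul G Ω] (h2 : MulAction.IsMultiplyPretransitive G Ω 2) (hp : p ∣ Fintype.card Ω) (heven : ∀ a : Ω, Even (Nat.card (MulAction.stabilizer G a))) (h : ∀ f : Representation.IntertwiningMap (Cfsg.permSumZero K G Ω).toRepresentation (Cfsg.permRep K G (Set.powersetCard Ω 2)), (∀ v : (Cfsg.permSumZero K G Ω).toSubmodule, (v : Ω → K) ∈ (Cfsg.permConstants K G Ω).toSubmodule → f v = 0) → f = 0) : MulAction.IsMultiplyPretransitive G Ω 3 := by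
  classical
  refine ⟨fun x y => ?_⟩
  set a₀ := x 0
  set b₀ := x 1
  set x₀ := x 2
  have hab : a₀ ≠ b₀ := x.injective.ne (by decide)
  have hax : a₀ ≠ x₀ := x.injective.ne (by decide)
  have hbx : b₀ ≠ x₀ := x.injective.ne (by decide)
  let T : Ω → Ω → Ω → Prop := fun a b c => ∃ g : G, g • a₀ = a ∧ g • b₀ = b ∧ g • x₀ = c
  have Tinv : ∀ (g : G) (a b c : Ω), T a b c → T (g • a) (g • b) (g • c) := by
    rintro g a b c ⟨k, rfl, rfl, rfl⟩
    exact ⟨g * k, mul_smul _ _ _, mul_smul _ _ _, mul_smul _ _ _⟩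
  have T0 : T a₀ b₀ x₀ := ⟨1, one_smul _ _, one_smul _ _, one_smul _ _⟩
  let O : Set.powersetCard Ω 2 → Ω → Prop := fun s c => ∃ g : G, ∀ z : Ω, (z ∈ (s : Finset Ω) ↔ (z = g • a₀ ∨ z = g • b₀)) ∧ g • x₀ = c
  have htwo : ∀ {a b c d : Ω}, a ≠ b → c ≠ d → ∃ g : G, g • a = c ∧ g • b = d := MulAction.is_two_pretransitive_iff.1 h2
  have hmem : ∀ (g : G) (s : Set.powersetCard Ω 2) (z : Ω), g • z ∈ ((g • s : Set.powersetCard Ω 2) : Finset Ω) ↔ z ∈ (s : Finset Ω) := fun g s z => by
    rw [Set.powersetCard.coe_smul]; exact Finset.smul_mem_smul_finset_iff g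
  have hout : ∀ (s : Set.powersetCard Ω 2) (c : Ω), O s c → c ∉ (s : Finset Ω) := by
    rintro s c ⟨g, hg⟩ hc
    rw [← (hg c).2] at hc
    rcases (hg _).1.1 hc with e | e
    · exact hax (MulAction.injective g e).symm
    · exact hbx (MulAction.injective g e).symm
  have hOinv : ∀ (k : G) s c, O s c ↔ O (k • s) (k • c) := by
    have h1 : ∀ (k : G) s c, O s c → O (k • s) (k • c) := by
      rintro k s c ⟨g, hg⟩
      refine ⟨k * g, fun z => ⟨?_, by rw [mul_smul, (hg z).2]⟩⟩
      obtain ⟨z', rfl⟩ := MulAction.surjective k z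
      rw [hmem, (hg z').1, mul_smul, mul_smul, (MulAction.injective k).eq_iff, (MulAction.injective k).eq_iff]
    intro k s c
    refine ⟨h1 k s c, fun h => ?_⟩
    have := h1 k⁻¹ _ _ h
    rwa [inv_smul_smul, inv_smul_smul] at this
  have htrs : ∀ s : Set.powersetCard Ω 2, ∃ g : G, ∀ z, z ∈ (s : Finset Ω) ↔ (z = g • a₀ ∨ z = g • b₀) := fun s => by
    obtain ⟨u, v, huv, hs⟩ := Finset.card_eq_two.1 s.2
    obtain ⟨g, hu, hv⟩ := htwo hab huv
    refine ⟨g, fun z => ?_⟩
    have hs' : (s : Finset Ω) = {u, v} := hs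
    rw [hs', hu, hv, Finset.mem_insert, Finset.mem_singleton]
  -- every point outside a pair is in the orbit
  have hall : ∀ (s : Set.powersetCard Ω 2) (c : Ω), c ∉ (s : Finset Ω) → O s c := by
    by_contra! hne
    obtain ⟨s, c, hc, hcO⟩ := hne
    let cl : K → K → K → Set.powersetCard Ω 2 → Ω → K := fun u v w t z =>
      if z ∈ (t : Finset Ω) then u else if O t z then v else w
    have key : ∀ u v w : K, (∀ t, ∑ z, cl u v w t z = 0) → ∀ z z', cl u v w s z = cl u v w s z' := by
      intro u v w hrow z z'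
      let L : (Cfsg.permSumZero K G Ω).toSubmodule →ₗ[K] (Set.powersetCard Ω 2 → K) :=
        { toFun := fun f t => ∑ z, cl u v w t z * (f : Ω → K) z
          map_add' := fun f f' => funext fun t => by simp [mul_add, Finset.sum_add_distrib]
          map_smul' := fun k f => funext fun t => by simp [Finset.mul_sum, mul_left_comm] }
      have hL := h (L.intertwiningMap_of_isIntertwiningMap _ _ fun g f => funext fun t => by
        show ∑ z, cl u v w t z * (f : Ω → K) (g⁻¹ • z) = ∑ z, cl u v w (g⁻¹ • t) z * (f : Ω → K) z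
        refine Fintype.sum_equiv (MulAction.toPerm g⁻¹) _ _ fun z => ?_
        simp only [MulAction.toPerm_apply, cl, hmem, ← hOinv]) (fun f hf => by
          obtain ⟨k, hk⟩ := Submodule.mem_span_singleton.1 hf
          refine funext fun t => ?_
          show ∑ z, cl u v w t z * (f : Ω → K) z = 0
          rw [← hk]
          simp [← Finset.sum_mul, hrow t])
      let f : (Cfsg.permSumZero K G Ω).toSubmodule := ⟨Pi.single z 1 - Pi.single z' 1, by
        show ∑ i, (Pi.single z (1 : K) - Pi.single z' 1 : Ω → K) i = 0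
        simp [Finset.sum_sub_distrib]⟩
      have := congrFun (congrArg (fun φ : Representation.IntertwiningMap _ _ => φ f) hL) s
      have h0 : ∑ i, cl u v w s i * (Pi.single z (1 : K) - Pi.single z' 1 : Ω → K) i = 0 := this
      simpa [mul_sub, Finset.sum_sub_distrib, Pi.single_apply, sub_eq_zero] using h0
    let on : Set.powersetCard Ω 2 → ℕ := fun t => (Finset.univ.filter fun z => z ∉ (t : Finset Ω) ∧ O t z).card
    let rn : Set.powersetCard Ω 2 → ℕ := fun t => (Finset.univ.filter fun z => z ∉ (t : Finset Ω) ∧ ¬ O t z).card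
    have hconst : ∀ (g : G) t, on (g • t) = on t ∧ rn (g • t) = rn t := fun g t => by
      constructor <;>
      · refine (Finset.card_equiv (MulAction.toPerm g) fun z => ?_).symm
        simp only [Finset.mem_filter, Finset.mem_univ, true_and, MulAction.toPerm_apply, hmem, ← hOinv]
    have hsame : ∀ t, on t = on s ∧ rn t = rn s := fun t => by
      obtain ⟨g, hg⟩ := htrs t
      obtain ⟨k, hk⟩ := htrs s
      have : (g * k⁻¹) • s = t := by
        refine Subtype.ext (Finset.ext fun z => ?_)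
        obtain ⟨z', rfl⟩ := MulAction.surjective (g * k⁻¹) z
        rw [hmem, hk, hg]
        simp only [mul_smul]
        conv_rhs => rw [(MulAction.injective g).eq_iff, (MulAction.injective g).eq_iff, inv_smul_eq_iff, inv_smul_eq_iff]
      exact this ▸ hconst _ s
    have hrow : ∀ u v w : K, ∀ t, ∑ z, cl u v w t z = 2 * u + (on s : K) * v + (rn s : K) * w := fun u v w t => by
      simp only [cl, Finset.sum_ite, Finset.sum_const, nsmul_eq_mul, Finset.filter_filter]
      rw [← (hsame t).1, ← (hsame t).2, show (Finset.univ.filter fun z => z ∈ (t : Finset Ω)).card = 2 from by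
        rw [Finset.filter_mem_eq_inter, Finset.univ_inter]; exact t.2]
      simp only [on, rn]
      push_cast
      ring
    obtain ⟨k, hk⟩ := htrs s
    have hka : k • a₀ ∈ (s : Finset Ω) := (hk _).2 (Or.inl rfl)
    have hOk : O s (k • x₀) := ⟨k, fun z => ⟨hk z, rfl⟩⟩
    have hxk : k • x₀ ∉ (s : Finset Ω) := hout _ _ hOk
    by_cases ho : (on s : K) = 0
    · have := key 0 1 0 (fun t => by rw [hrow, ho]; ring) (k • a₀) (k • x₀)
      simp [cl, hka, hxk, hOk] at this
    · have := key 0 (rn s : K) (-(on s : K)) (fun t => by rw [hrow]; ring) (k • a₀) c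
      simp only [cl, if_pos hka, if_neg hc, if_neg hcO] at this
      exact ho (neg_eq_zero.1 this.symm)
  have hor : ∀ a b c : Ω, a ≠ b → a ≠ c → b ≠ c → T a b c ∨ T b a c := fun a b c h1 h2 h3 => by
    obtain ⟨g, hg⟩ := hall ⟨{a, b}, Set.powersetCard.mem_iff.2 (Finset.card_pair h1)⟩ c (by simp [Ne.symm h2, Ne.symm h3])
    have ha : a = g • a₀ ∨ a = g • b₀ := (hg a).1.1 (by simp)
    have hb : b = g • a₀ ∨ b = g • b₀ := (hg b).1.1 (by simp)
    rcases ha with ha | ha <;> rcases hb with hb | hb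
    · exact absurd (ha.trans hb.symm) h1
    · exact Or.inl ⟨g, ha.symm, hb.symm, (hg a).2⟩
    · exact Or.inr ⟨g, hb.symm, ha.symm, (hg a).2⟩
    · exact absurd (ha.trans hb.symm) h1
  by_cases hswap : T b₀ a₀ x₀
  · have hsym : ∀ a b c, T a b c → T b a c := by
      rintro _ _ _ ⟨g, rfl, rfl, rfl⟩
      exact Tinv g _ _ _ hswap
    obtain ⟨g, h0, h1, h2'⟩ : T (y 0) (y 1) (y 2) :=
      (hor _ _ _ (y.injective.ne (by decide)) (y.injective.ne (by decide)) (y.injective.ne (by decide))).elim id (hsym _ _ _)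
    refine ⟨g, Function.Embedding.ext fun i => ?_⟩
    rw [Function.Embedding.smul_apply]
    match i with
    | ⟨0, _⟩ => exact h0
    | ⟨1, _⟩ => exact h1
    | ⟨2, _⟩ => exact h2'
  exfalso
  have hxor : ∀ a b c, T a b c → ¬ T b a c := by
    rintro _ _ _ ⟨g, rfl, rfl, rfl⟩ h
    have := Tinv g⁻¹ _ _ _ h
    rw [inv_smul_smul, inv_smul_smul, inv_smul_smul] at this
    exact hswap this
  have hnot : ∀ a b c, a ≠ b → a ≠ c → b ≠ c → ¬ T b a c → T a b c := fun a b c h1 h2 h3 h => (hor a b c h1 h2 h3).resolve_right h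
  have hd : ∀ a b c, T a b c → a ≠ b ∧ a ≠ c ∧ b ≠ c := by
    rintro _ _ _ ⟨g, rfl, rfl, rfl⟩
    exact ⟨fun e => hab (MulAction.injective g e), fun e => hax (MulAction.injective g e), fun e => hbx (MulAction.injective g e)⟩
  have : Fact (Nat.Prime 2) := ⟨Nat.prime_two⟩
  obtain ⟨⟨t, hta⟩, ht⟩ := exists_prime_orderOf_dvd_card' (G := MulAction.stabilizer G a₀) 2 (heven a₀).two_dvd
  replace ht : orderOf t = 2 := (Subgroup.orderOf_coe _).trans ht
  have ht1 : t ≠ 1 := fun e => by rw [e, orderOf_one] at ht; omega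
  obtain ⟨b, hb⟩ : ∃ b : Ω, t • b ≠ b := by
    by_contra! e; exact ht1 (FaithfulSMul.eq_of_smul_eq_smul (α := Ω) fun z => by rw [one_smul]; exact e z)
  have htt : t • t • b = b := by rw [← mul_smul, ← sq, ← ht, pow_orderOf_eq_one, one_smul]
  have hta' : t • a₀ = a₀ := hta
  have hab' : a₀ ≠ b := fun e => hb (by rw [← e]; exact hta')
  have hac : a₀ ≠ t • b := fun e => hab' (MulAction.injective t (hta'.trans e))
  have hTt : T a₀ b (t • b) ↔ T a₀ (t • b) b := by
    constructor <;> intro e <;> have := Tinv t _ _ _ e <;> rwa [hta', htt] at this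
  rcases hor a₀ b (t • b) hab' hac (Ne.symm hb) with hT | hT
  · obtain ⟨g, e1, e2, e3⟩ := hT
    have hs0 : T a₀ x₀ b₀ := by
      have := Tinv g⁻¹ _ _ _ (hTt.1 ⟨g, e1, e2, e3⟩)
      rwa [← e1, ← e3, ← e2, inv_smul_smul, inv_smul_smul, inv_smul_smul] at this
    have h23 : ∀ u v w, T u v w → T u w v := by rintro _ _ _ ⟨k, rfl, rfl, rfl⟩; exact Tinv k _ _ _ hs0
    obtain ⟨d1, d2, d3⟩ := hd _ _ _ T0
    have k1 : ¬ T x₀ a₀ b₀ := hxor _ _ _ (h23 _ _ _ T0)
    have k2 : ¬ T x₀ b₀ a₀ := fun e => k1 (h23 _ _ _ e)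
    have k3 : T b₀ x₀ a₀ := hnot _ _ _ d3 d1.symm d2.symm k2
    exact hswap (h23 _ _ _ k3)
  · have hn : ¬ T a₀ b (t • b) := fun e => hxor _ _ _ e hT
    have hT2 : T (t • b) a₀ b := hnot _ _ _ hac.symm hb hab' (fun e => hn (hTt.2 e))
    obtain ⟨g, e1, e2, e3⟩ := hT
    have hs0 : T x₀ b₀ a₀ := by
      have := Tinv g⁻¹ _ _ _ hT2
      rw [← e3, ← e2, ← e1] at this
      simp only [inv_smul_smul] at this
      exact this
    have h13 : ∀ u v w, T u v w → T w v u := by rintro _ _ _ ⟨k, rfl, rfl, rfl⟩; exact Tinv k _ _ _ hs0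
    obtain ⟨d1, d2, d3⟩ := hd _ _ _ T0
    have k1 : ¬ T b₀ x₀ a₀ := hxor _ _ _ (h13 _ _ _ T0)
    have k2 : ¬ T a₀ x₀ b₀ := fun e => k1 (h13 _ _ _ e)
    have k3 : T x₀ a₀ b₀ := hnot _ _ _ d2.symm d3.symm d1 k2
    exact hswap (h13 _ _ _ k3)

end Cfsg.Agent.S0672
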