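import Cfsg.Statements.S0673
import Mathlib

set_option autoImplicit false
open Cfsg

namespace Cfsg.Agent.S0673

/-- In characteristic `p`, the translation-invariant subspaces of the space of functions on `ZMod p` are exactly the spaces of polynomial functions of degree less than `r`, one for each `r ≤ p`, of dimension `r`. -/
theorem result {p : ℕ} [Fact p.Prime] {K : Type*} [Field K] [CharP K p] (W : Submodule K (ZMod p → K)) (hW : ∀ f ∈ W, (fun j => f (j - 1)) ∈ W) : ∃ r : ℕ, r ≤ p ∧ Module.finrank K W = r ∧ ∀ f : ZMod p → K, f ∈ W ↔ ∃ P : Polynomial K, P.degree < r ∧ ∀ j : ZMod p, f j = P.eval (ZMod.cast j : K) := by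
  classical
  let cast' : ZMod p →+* K := ZMod.castHom (dvd_refl p) K
  have hinj : Function.Injective cast' := cast'.injective
  let T : (ZMod p → K) →ₗ[K] (ZMod p → K) :=
    { toFun := fun f j => f j - f (j - 1)
      map_add' := fun f g => funext fun j => by simp only [Pi.add_apply]; ring
      map_smul' := fun c f => funext fun j => by simp only [Pi.smul_apply, smul_eq_mul, RingHom.id_apply]; ring }
  have hker : Module.finrank K (LinearMap.ker T) ≤ 1 := by
    refine finrank_le_one (⟨fun _ => 1, by rw [LinearMap.mem_ker]; funext j; show (1 : K) - 1 = 0; ring⟩ : LinearMap.ker T) fun v => ⟨v.1 0, Subtype.ext (funext fun j => ?_)⟩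
    have h : ∀ j, v.1 j = v.1 (j - 1) := fun j => sub_eq_zero.1 (congrFun (LinearMap.mem_ker.1 v.2) j)
    have h2 : ∀ n : ℕ, v.1 (n : ZMod p) = v.1 0 := fun n => by
      induction n with
      | zero => simp
      | succ n ih => rw [h, Nat.cast_succ, add_sub_cancel_right, ih]
    rw [← ZMod.natCast_zmod_val j, h2]
    simp
  have kerpow : ∀ n : ℕ, Module.finrank K (LinearMap.ker (T ^ n)) ≤ n := fun n => by
    induction n with
    | zero =>
      rw [pow_zero, show LinearMap.ker (1 : (ZMod p → K) →ₗ[K] (ZMod p → K)) = ⊥ from LinearMap.ker_id, finrank_bot]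
    | succ n ih =>
      let L : LinearMap.ker (T ^ (n + 1)) →ₗ[K] LinearMap.ker (T ^ n) :=
        (T.comp (Submodule.subtype _)).codRestrict _ fun v => by
          refine LinearMap.mem_ker.2 ?_
          show (T ^ n) (T v.1) = 0
          rw [← Module.End.mul_apply, ← pow_succ]
          exact LinearMap.mem_ker.1 v.2
      have h1 := LinearMap.finrank_range_add_finrank_ker L
      have h2 : Module.finrank K (LinearMap.range L) ≤ n := (Submodule.finrank_le _).trans ih
      have h3 : Module.finrank K (LinearMap.ker L) ≤ 1 := by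
        refine le_trans ?_ hker
        let e : LinearMap.ker L →ₗ[K] LinearMap.ker T :=
          ((Submodule.subtype _).comp (Submodule.subtype (LinearMap.ker L))).codRestrict _ fun v =>
            LinearMap.mem_ker.2 (congrArg Subtype.val (LinearMap.mem_ker.1 v.2))
        exact e.finrank_le_finrank_of_injective fun a b h => Subtype.ext (Subtype.ext (congrArg Subtype.val h :))
      omega
  have main : ∀ W : Submodule K (ZMod p → K), (∀ f ∈ W, (fun j => f (j - 1)) ∈ W) → W = LinearMap.ker (T ^ Module.finrank K W) := by
    intro W hW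
    have hTW : ∀ f ∈ W, T f ∈ W := fun f hf => W.sub_mem hf (hW f hf)
    have hpow : ∀ (n : ℕ) (v : W), (((T.restrict hTW) ^ n) v : ZMod p → K) = (T ^ n) v := fun n => by
      induction n with
      | zero => intro v; rfl
      | succ n ih => intro v; rw [pow_succ, pow_succ, Module.End.mul_apply, Module.End.mul_apply, ih]; rfl
    have hTp : T ^ p = 0 := by
      have e : ∀ f j, (T f) j = f j - f (j - 1) := fun f j => rfl
      let U : (ZMod p → K) →ₗ[K] (ZMod p → K) := LinearMap.funLeft K K fun j => j - 1
      have hT : T = 1 - U := LinearMap.ext fun f => funext fun j => rfl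
      have hU : U ^ p = 1 := by
        have : ∀ (n : ℕ) f j, (U ^ n) f j = f (j - n) := fun n => by
          induction n with
          | zero => intro f j; simp
          | succ n ih =>
            intro f j
            rw [pow_succ, Module.End.mul_apply, ih]
            show f (j - n - 1) = _
            rw [Nat.cast_succ, sub_sub]
        exact LinearMap.ext fun f => funext fun j => by rw [this, ZMod.natCast_self, sub_zero]; rfl
      have : CharP ((ZMod p → K) →ₗ[K] (ZMod p → K)) p := charP_of_injective_algebraMap' K p
      rw [hT, sub_pow_char_of_commute p (Commute.one_left U), one_pow, hU, sub_self]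
    have hnil : IsNilpotent (T.restrict hTW) := ⟨p, LinearMap.ext fun v => Subtype.ext (by rw [hpow, hTp]; rfl)⟩
    have h0 : (T.restrict hTW) ^ Module.finrank K W = 0 := by
      have := LinearMap.aeval_self_charpoly (T.restrict hTW)
      rwa [hnil.charpoly_eq_X_pow_finrank, map_pow, Polynomial.aeval_X] at this
    refine Submodule.eq_of_le_of_finrank_le (fun v hv => LinearMap.mem_ker.2 ?_) (kerpow _)
    rw [← hpow _ ⟨v, hv⟩, h0]; rfl
  let r := Module.finrank K W
  have hr : r ≤ p := by
    refine (Submodule.finrank_le W).trans ?_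
    rw [Module.finrank_fintype_fun_eq_card, ZMod.card]
  let E : Polynomial.degreeLT K r →ₗ[K] (ZMod p → K) :=
    { toFun := fun P j => P.1.eval (cast' j)
      map_add' := fun P Q => funext fun j => Polynomial.eval_add
      map_smul' := fun c P => funext fun j => by simp [Polynomial.eval_smul] }
  have hE : Function.Injective E := by
    rw [← LinearMap.ker_eq_bot, Submodule.eq_bot_iff]
    intro P hP
    refine Subtype.ext (Polynomial.eq_zero_of_degree_lt_of_eval_finset_eq_zero (Finset.univ.image cast') ?_ ?_)
    · rw [Finset.card_image_of_injective _ hinj, Finset.card_univ, ZMod.card]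
      exact (Polynomial.mem_degreeLT.1 P.2).trans_le (by exact_mod_cast hr)
    · intro x hx
      obtain ⟨j, -, rfl⟩ := Finset.mem_image.1 hx
      exact congrFun (LinearMap.mem_ker.1 hP) j
  have hinv : ∀ f ∈ LinearMap.range E, (fun j => f (j - 1)) ∈ LinearMap.range E := by
    rintro _ ⟨P, rfl⟩
    refine ⟨⟨P.1.comp (Polynomial.X - Polynomial.C 1), Polynomial.mem_degreeLT.2 ?_⟩, funext fun j => ?_⟩
    · have h := Polynomial.mem_degreeLT.1 P.2
      by_cases hz : P.1 = 0
      · rw [hz, Polynomial.zero_comp]; rw [hz] at h; exact h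
      refine lt_of_le_of_lt (Polynomial.degree_le_natDegree) ?_
      rw [Polynomial.natDegree_comp, Polynomial.natDegree_X_sub_C, mul_one]
      rwa [← Polynomial.degree_eq_natDegree hz]
    · show (P.1.comp _).eval (cast' j) = P.1.eval (cast' (j - 1))
      simp
  have hWE : W = LinearMap.range E := by
    rw [main W hW, main _ hinv, LinearMap.finrank_range_of_inj hE, (Polynomial.degreeLTEquiv K r).finrank_eq,
      Module.finrank_fintype_fun_eq_card, Fintype.card_fin]
  refine ⟨r, hr, rfl, fun f => ?_⟩
  constructor
  · intro hf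
    rw [hWE] at hf
    obtain ⟨P, rfl⟩ := hf
    exact ⟨P.1, Polynomial.mem_degreeLT.1 P.2, fun j => rfl⟩
  · rintro ⟨P, hP, hPf⟩
    rw [hWE]
    exact ⟨⟨P, Polynomial.mem_degreeLT.2 hP⟩, funext fun j => (hPf j).symm⟩

end Cfsg.Agent.S0673
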