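import Cfsg.Statements.S0674
import Mathlib
import Cfsg.Agent.S0673
import Cfsg.Agent.PermGroups.PrimeDegree

set_option autoImplicit false
open Cfsg

namespace Cfsg.Agent.S0674

/-- Let `G` be a non-solvable transitive permutation group of prime degree `p` and `K` a field of characteristic `p`. Then the heart of the permutation module is irreducible: an invariant subspace containing the constants and contained in the sum-zero functions is one or the other. -/
theorem result {α : Type*} [Fintype α] [DecidableEq α] {p : ℕ} [Fact p.Prime] (hα : Fintype.card α = p) (G : Subgroup (Equiv.Perm α)) [MulAction.IsPretransitive G α] (hG : ¬ Group.IsSolvable G) {K : Type*} [Field K] [CharP K p] (W : Subrepresentation (Cfsg.permRep K G α)) (h₁ : (Cfsg.permConstants K G α).toSubmodule ≤ W.toSubmodule) (h₂ : W.toSubmodule ≤ (Cfsg.permSumZero K G α).toSubmodule) : W = Cfsg.permConstants K G α ∨ W = Cfsg.permSumZero K G α := by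
  classical
  have hp := (Fact.out : p.Prime)
  obtain ⟨e, τ, hτ, hτe⟩ := Cfsg.Lib.PermGroups.PrimeDegree.exists_coord hα G
  let cast' : ZMod p →+* K := ZMod.castHom (dvd_refl p) K
  let φ : (ZMod p → K) →ₗ[K] (α → K) := LinearMap.funLeft K K e.symm
  have hφ : ∀ (f : ZMod p → K) (x : α), φ f x = f (e.symm x) := fun f x => rfl
  let W' : Submodule K (ZMod p → K) := W.toSubmodule.comap φ
  -- invariance in coordinates
  have hinv : ∀ g ∈ G, ∀ f ∈ W', (fun i => f (e.symm (g (e i)))) ∈ W' := fun g hg f hf => by
    have h := W.apply_mem_toSubmodule (⟨g, hg⟩ : G)⁻¹ hf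
    show φ _ ∈ W.toSubmodule
    convert h using 1
    funext x
    show f (e.symm (g (e (e.symm x)))) = φ f ((⟨g, hg⟩ : G)⁻¹⁻¹ • x)
    rw [Equiv.apply_symm_apply, inv_inv, hφ]; rfl
  obtain ⟨r, hrp, hfr, hW'⟩ := Cfsg.Agent.S0673.result W' (fun f hf => by
    have h := hinv τ⁻¹ (inv_mem hτ) f hf
    convert h using 2
    rename_i i
    have : τ⁻¹ (e i) = e (i - 1) := by rw [Equiv.Perm.inv_eq_iff_eq, hτe, sub_add_cancel]
    rw [this, Equiv.symm_apply_apply])
  have hone : (fun _ => (1 : K)) ∈ W' := h₁ (Submodule.mem_span_singleton_self _)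
  have hr1 : 1 ≤ r := by
    obtain ⟨P, hP, hPe⟩ := (hW' _).1 hone
    by_contra h
    have hr0 : r = 0 := by omega
    rw [hr0, Nat.cast_zero] at hP
    have : P = 0 := Polynomial.degree_eq_bot.1 (Nat.WithBot.lt_zero_iff.1 hP)
    simpa [this] using hPe 0
  have hsum : ∀ (P : Polynomial K), P.natDegree + 2 ≤ p → ∑ i : ZMod p, P.eval (cast' i) = 0 := fun P hP => by
    simp only [Polynomial.eval_eq_sum_range]
    rw [Finset.sum_comm]
    refine Finset.sum_eq_zero fun k hk => ?_
    rw [← Finset.mul_sum]
    simp only [← map_pow]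
    rw [← map_sum, FiniteField.sum_pow_lt_card_sub_one (ZMod p) k (by rw [ZMod.card]; have := Finset.mem_range.1 hk; omega), map_zero, mul_zero]
  by_cases hr : r = 1
  · left
    refine le_antisymm (show W.toSubmodule ≤ (Cfsg.permConstants K G α).toSubmodule from fun f hf => ?_) h₁
    have hf' : (fun i => f (e i)) ∈ W' := by
      show φ _ ∈ W.toSubmodule
      convert hf using 1
      funext x; rw [hφ, Equiv.apply_symm_apply]
    obtain ⟨P, hP, hPe⟩ := (hW' _).1 hf'
    rw [hr] at hP
    obtain ⟨c, rfl⟩ := Polynomial.natDegree_eq_zero.1 (show P.natDegree = 0 by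
      by_cases h0 : P = 0
      · rw [h0, Polynomial.natDegree_zero]
      · exact Nat.lt_one_iff.1 ((Polynomial.natDegree_lt_iff_degree_lt h0).2 hP))
    refine Submodule.mem_span_singleton.2 ⟨c, funext fun x => ?_⟩
    have := hPe (e.symm x)
    rw [Equiv.apply_symm_apply] at this
    simp [this]
  by_cases hrtop : p ≤ r + 1
  · right
    refine le_antisymm h₂ ?_
    show (Cfsg.permSumZero K G α).toSubmodule ≤ W.toSubmodule
    refine le_of_eq (Submodule.eq_of_le_of_finrank_le h₂ ?_).symm
    have he : Module.finrank K W' = Module.finrank K W.toSubmodule := by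
      have hbij : Function.Bijective φ :=
        ⟨LinearMap.funLeft_injective_of_surjective _ _ _ e.symm.surjective, LinearMap.funLeft_surjective_of_injective _ _ _ e.symm.injective⟩
      exact ((LinearEquiv.ofBijective φ hbij).ofSubmodule' W.toSubmodule).finrank_eq
    rw [← he, hfr]
    have hne : (Cfsg.permSumZero K G α).toSubmodule ≠ ⊤ := fun h => by
      have h1 : (Pi.single (e 0) (1 : K) : α → K) ∈ (Cfsg.permSumZero K G α).toSubmodule := h ▸ trivial
      have h2 : ∑ x, (Pi.single (e 0) (1 : K) : α → K) x = 0 := h1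
      rw [Finset.sum_pi_single', if_pos (Finset.mem_univ _)] at h2
      exact one_ne_zero h2
    have := Submodule.finrank_lt hne
    rw [Module.finrank_fintype_fun_eq_card, hα] at this
    omega
  exfalso
  refine hG (Cfsg.Lib.PermGroups.PrimeDegree.solvable_of_affine G e fun g hg x => ?_)
  -- moments
  have hmom : ∀ g ∈ G, ∀ j < r, ∀ i, i + r + 1 ≤ p → ∑ x : ZMod p, e.symm (g (e x)) ^ j * x ^ i = 0 := by
    intro g hg j hj i hi
    have hjW : (fun x => cast' x ^ j) ∈ W' := (hW' _).2 ⟨Polynomial.X ^ j, by rw [Polynomial.degree_X_pow]; exact_mod_cast hj, fun x => by simp [cast']⟩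
    obtain ⟨P, hP, hPe⟩ := (hW' _).1 (hinv g hg _ hjW)
    have hPn : P.natDegree < r := by
      by_cases h0 : P = 0
      · rw [h0, Polynomial.natDegree_zero]; omega
      · exact (Polynomial.natDegree_lt_iff_degree_lt h0).2 hP
    apply cast'.injective
    rw [map_zero, map_sum, ← hsum (P * Polynomial.X ^ i) (by
      have := Polynomial.natDegree_mul_le (p := P) (q := (Polynomial.X : Polynomial K) ^ i)
      rw [Polynomial.natDegree_X_pow] at this
      omega)]
    refine Finset.sum_congr rfl fun x _ => ?_
    rw [Polynomial.eval_mul, Polynomial.eval_pow, Polynomial.eval_X, map_mul, map_pow, map_pow]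
    congr 1
    exact hPe x
  by_cases hside : 2 * r ≤ p
  · exact Cfsg.Lib.PermGroups.PrimeDegree.affine_of_moments (fun i => e.symm (g (e i))) (m := r - 1) (by omega) (by omega)
      (fun j hj i hi => hmom g hg j (by omega) i (by omega)) x
  · refine Cfsg.Lib.PermGroups.PrimeDegree.affine_of_moments (fun i => e.symm (g (e i))) (m := p - 1 - r) (by omega) (by omega)
      (fun j hj i hi => ?_) x
    rw [← hmom g⁻¹ (inv_mem hg) i (by omega) j (by omega)]
    refine Fintype.sum_equiv ((e.trans g).trans e.symm) _ _ fun y => ?_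
    simp [mul_comm]

end Cfsg.Agent.S0674
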