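import Cfsg.Statements.S0676
import Mathlib
import Cfsg.Agent.S0672
import Cfsg.Agent.S0674
import Cfsg.Agent.S0675
import Cfsg.Agent.PermGroups.PrimeDegree

set_option autoImplicit false
open Cfsg
open scoped Pointwise

namespace Cfsg.Agent.S0676

/-- A non-solvable transitive permutation group of prime degree `p` whose Sylow `p`-normaliser has even order is triply transitive. -/
theorem result {α : Type*} [Fintype α] [DecidableEq α] {p : ℕ} [Fact p.Prime] (hα : Fintype.card α = p) (G : Subgroup (Equiv.Perm α)) [MulAction.IsPretransitive G α] (hG : ¬ Group.IsSolvable G) (P : Sylow p G) (heven : Even (Nat.card (Subgroup.normalizer ((P : Subgroup G) : Set G)))) : MulAction.IsMultiplyPretransitive G α 3 := by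
  classical
  have hp := (Fact.out : p.Prime)
  obtain ⟨e, τ, hτ, hτe⟩ := Cfsg.Lib.PermGroups.PrimeDegree.exists_coord hα G
  have h2t : MulAction.IsMultiplyPretransitive G α 2 :=
    (Cfsg.Agent.S0675.result (α := α) (hα ▸ hp) G).resolve_left hG
  have hp3 : 3 ≤ p := by
    by_contra h
    have hp2 : p = 2 := le_antisymm (by omega) hp.two_le
    have : Fact (Nat.Prime 2) := ⟨Nat.prime_two⟩
    have hc : Nat.card (Equiv.Perm α) = 2 := by rw [Nat.card_perm, Nat.card_eq_fintype_card, hα, hp2]; rfl
    have : IsCyclic (Equiv.Perm α) := isCyclic_of_prime_card hc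
    exact hG (Group.isSolvable_of_comm fun a b => Subtype.ext (IsMulCommutative.is_comm.comm a.1 b.1))
  obtain ⟨P', hP'⟩ := Cfsg.Lib.PermGroups.PrimeDegree.sylow_coord hα G hτ hτe
  have heven' : Even (Nat.card (Subgroup.normalizer ((P' : Subgroup G) : Set G))) := by
    have hi : (Subgroup.normalizer ((P' : Subgroup G) : Set G)).index = (Subgroup.normalizer ((P : Subgroup G) : Set G)).index :=
      P'.card_eq_index_normalizer.symm.trans P.card_eq_index_normalizer
    have h1 := (Subgroup.normalizer ((P' : Subgroup G) : Set G)).card_mul_index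
    rw [hi, ← (Subgroup.normalizer ((P : Subgroup G) : Set G)).card_mul_index] at h1
    rw [Nat.eq_of_mul_eq_mul_right (Nat.pos_of_ne_zero Subgroup.index_ne_zero_of_finite) h1]
    exact heven
  have : Fact (Nat.Prime 2) := ⟨Nat.prime_two⟩
  obtain ⟨⟨u, hu⟩, hou⟩ := exists_prime_orderOf_dvd_card' (G := Subgroup.normalizer ((P' : Subgroup G) : Set G)) 2 heven'.two_dvd
  replace hou : orderOf (u : Equiv.Perm α) = 2 := (Subgroup.orderOf_coe u).trans ((Subgroup.orderOf_coe (⟨u, hu⟩ : Subgroup.normalizer ((P' : Subgroup G) : Set G))).trans hou)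
  rw [hP', Subgroup.mem_normalizer_iff] at hu
  obtain ⟨n, hn⟩ := Subgroup.mem_zpowers_iff.1 ((hu _).1 (Subgroup.mem_zpowers _))
  obtain ⟨c, k, hck⟩ := Cfsg.Lib.PermGroups.PrimeDegree.affine_of_conj hτe
    (show (u : Equiv.Perm α) * τ * (u : Equiv.Perm α)⁻¹ ∈ Subgroup.zpowers τ from
      ⟨n, congrArg Subtype.val hn⟩)
  have huu : ∀ i, e.symm ((u : Equiv.Perm α) (e (c + k * i))) = i := fun i => by
    rw [← hck i, Equiv.apply_symm_apply, ← Equiv.Perm.mul_apply, ← sq, ← hou, pow_orderOf_eq_one,
      Equiv.Perm.one_apply, Equiv.symm_apply_apply]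
  have hk1 : k * k = 1 := by
    have h0 := huu 0; have h1 := huu 1
    rw [hck] at h0 h1
    linear_combination h1 - h0
  have hk : k = -1 := by
    rcases mul_self_eq_one_iff.1 hk1 with h | h
    · exfalso
      have h0 := huu 0
      rw [hck, h] at h0
      have h2 : (2 : ZMod p) ≠ 0 := fun e2 => by
        have := (ZMod.natCast_eq_zero_iff 2 p).1 (by exact_mod_cast e2)
        exact absurd (Nat.le_of_dvd two_pos this) (by omega)
      have hc : c = 0 := by
        have : (2 : ZMod p) * c = 0 := by linear_combination h0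
        exact (mul_eq_zero.1 this).resolve_left h2
      have : (u : Equiv.Perm α) = 1 := Equiv.ext fun z => by
        obtain ⟨i, rfl⟩ := e.surjective z
        apply e.symm.injective
        rw [hck, hc, h, Equiv.Perm.one_apply, Equiv.symm_apply_apply, zero_add, one_mul]
      rw [this, orderOf_one] at hou
      omega
    · exact h
  -- the reflection fixing `e 0`
  obtain ⟨v, hv⟩ : ∃ v : G, ∀ i, (v : Equiv.Perm α) (e i) = e (-i) := by
    refine ⟨(⟨τ, hτ⟩ : G) ^ (-c).val * u, fun i => ?_⟩
    show (τ ^ (-c).val * (u : Equiv.Perm α)) (e i) = _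
    rw [Equiv.Perm.mul_apply, ← Equiv.apply_symm_apply e ((u : Equiv.Perm α) (e i)),
      Cfsg.Lib.PermGroups.PrimeDegree.pow_apply_coord hτe, hck, hk, ZMod.natCast_zmod_val]
    congr 1; ring
  have hv2 : orderOf v = 2 := orderOf_eq_prime (Subtype.ext (Equiv.ext fun z => by
      obtain ⟨i, rfl⟩ := e.surjective z
      show (v : Equiv.Perm α) ((v : Equiv.Perm α) (e i)) = e i
      rw [hv, hv, neg_neg])) fun h1 => by
      have h2 := hv 1
      rw [h1] at h2
      have h3 : (1 : ZMod p) = -1 := e.injective h2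
      have h4 : ((2 : ℕ) : ZMod p) = 0 := by push_cast; linear_combination h3
      exact absurd (Nat.le_of_dvd two_pos ((ZMod.natCast_eq_zero_iff 2 p).1 h4)) (by omega)
  refine Cfsg.Agent.S0672.result (K := ZMod p) (p := p) h2t (dvd_of_eq hα.symm) (fun a => ?_) ?_
  · obtain ⟨g, rfl⟩ := MulAction.exists_smul_eq G (e 0) a
    rw [← Nat.card_congr (MulAction.stabilizerEquivStabilizer (G := G) (a := e 0) (b := g • e 0) rfl).toEquiv]
    have hmem : v ∈ MulAction.stabilizer G (e 0) := by
      rw [MulAction.mem_stabilizer_iff]; show (v : Equiv.Perm α) (e 0) = e 0; rw [hv, neg_zero]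
    have := orderOf_dvd_natCard (⟨v, hmem⟩ : MulAction.stabilizer G (e 0))
    rw [← Subgroup.orderOf_coe, hv2] at this
    exact even_iff_two_dvd.2 this
  intro f hfc
  let S := (Cfsg.permSumZero (ZMod p) G α)
  let W : Subrepresentation (Cfsg.permRep (ZMod p) G α) :=
    ⟨(LinearMap.ker f.toLinearMap).map S.toSubmodule.subtype, fun g w hw => by
      obtain ⟨x, hx, rfl⟩ := hw
      refine ⟨S.toRepresentation g x, ?_, rfl⟩
      show f (S.toRepresentation g x) = 0
      rw [f.isIntertwining, show f x = 0 from hx, map_zero]⟩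
  have hconstS : (Cfsg.permConstants (ZMod p) G α).toSubmodule ≤ S.toSubmodule := Submodule.span_le.2 (by
    rintro _ rfl
    show ∑ x : α, (1 : ZMod p) = 0
    rw [Finset.sum_const, Finset.card_univ, hα, nsmul_one, ZMod.natCast_self])
  have hlinS : (fun x => e.symm x) ∈ S.toSubmodule := by
    show ∑ x, e.symm x = 0
    rw [e.symm.sum_comp (fun i => i)]
    simpa using FiniteField.sum_pow_lt_card_sub_one (ZMod p) 1 (by rw [ZMod.card]; omega)
  set ℓ : S.toSubmodule := ⟨fun x => e.symm x, hlinS⟩
  have hf1 : ∀ (g : G) (cc : ZMod p), (∀ x, e.symm ((g⁻¹ : G) • x) = e.symm x + cc) →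
      ∀ s, f ℓ (g⁻¹ • s) = f ℓ s := fun g cc hg s => by
    have h1 := congrFun (Representation.IntertwiningMap.isIntertwining _ _ f g ℓ) s
    have h2 : S.toRepresentation g ℓ = ℓ + ⟨fun _ => cc, hconstS (Submodule.mem_span_singleton.2 ⟨cc, by funext x; simp⟩)⟩ :=
      Subtype.ext (funext fun x => hg x)
    rw [h2, map_add, hfc ⟨fun _ => cc, _⟩ (Submodule.mem_span_singleton.2 ⟨cc, by funext x; simp⟩), add_zero] at h1
    exact h1.symm
  have hneg : ∀ s, f ℓ (v⁻¹ • s) = - f ℓ s := fun s => by
    have h1 := congrFun (Representation.IntertwiningMap.isIntertwining _ _ f v ℓ) s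
    have h2 : S.toRepresentation v ℓ = -ℓ := Subtype.ext (funext fun x => by
      obtain ⟨i, rfl⟩ := e.surjective x
      show e.symm ((v⁻¹ : G) • e i) = - e.symm (e i)
      rw [show (v⁻¹ : G) • e i = e (-i) from inv_smul_eq_iff.2 (show e i = (v : Equiv.Perm α) (e (-i)) by rw [hv, neg_neg]),
        Equiv.symm_apply_apply, Equiv.symm_apply_apply])
    rw [h2, map_neg] at h1
    exact h1.symm
  have hfl : f ℓ = 0 := funext fun s => by
    obtain ⟨a, b, hab, hs⟩ := Finset.card_eq_two.1 s.2
    obtain ⟨i, rfl⟩ := e.surjective a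
    obtain ⟨j, rfl⟩ := e.surjective b
    set T : G := (⟨τ, hτ⟩ : G) ^ (-(i + j)).val
    have hT : ∀ l, T • e l = e (l + -(i + j)) := fun l => by
      show (τ ^ (-(i + j)).val) (e l) = _
      rw [Cfsg.Lib.PermGroups.PrimeDegree.pow_apply_coord hτe, ZMod.natCast_zmod_val]
    -- the pair is fixed by a reflection
    have hmove : v⁻¹ • s = T • s := by
      rw [inv_smul_eq_iff]
      refine Subtype.ext ?_
      have hs' : (s : Finset α) = {e i, e j} := hs
      show (s : Finset α) = v • T • (s : Finset α)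
      rw [hs', Finset.smul_finset_insert, Finset.smul_finset_singleton,
        Finset.smul_finset_insert, Finset.smul_finset_singleton, hT, hT,
        show v • e (i + -(i + j)) = e j by show (v : Equiv.Perm α) _ = _; rw [hv]; congr 1; ring,
        show v • e (j + -(i + j)) = e i by show (v : Equiv.Perm α) _ = _; rw [hv]; congr 1; ring, Finset.pair_comm]
    have h1 := hf1 T⁻¹ (-(i + j)) (fun x => by
      obtain ⟨l, rfl⟩ := e.surjective x
      rw [inv_inv, hT, Equiv.symm_apply_apply, Equiv.symm_apply_apply]) s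
    rw [inv_inv] at h1
    have h2 := hneg s
    rw [hmove, h1] at h2
    have h4 : (2 : ZMod p) * f ℓ s = 0 := by linear_combination h2
    exact (mul_eq_zero.1 h4).resolve_left fun e2 =>
      absurd (Nat.le_of_dvd two_pos ((ZMod.natCast_eq_zero_iff 2 p).1 (by exact_mod_cast e2))) (by omega)
  rcases Cfsg.Agent.S0674.result hα G hG W
    (fun w hw => ⟨⟨w, hconstS hw⟩, hfc _ hw, rfl⟩) (Submodule.map_subtype_le _ _) with h | h
  · exfalso
    have hm : (fun x => e.symm x) ∈ (Cfsg.permConstants (ZMod p) G α).toSubmodule := by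
      rw [← h]; exact ⟨ℓ, hfl, rfl⟩
    obtain ⟨cc, hcc⟩ := Submodule.mem_span_singleton.1 hm
    have e0 := congrFun hcc (e 0); have e1 := congrFun hcc (e 1)
    rw [Equiv.symm_apply_apply] at e0 e1
    exact zero_ne_one (e0.symm.trans e1)
  · refine Representation.IntertwiningMap.ext (LinearMap.ext fun w => ?_)
    have hw : (w : α → ZMod p) ∈ W.toSubmodule := by rw [h]; exact w.2
    obtain ⟨x, hx, hxw⟩ := hw
    rw [← show x = w from Subtype.ext hxw]
    exact hx

end Cfsg.Agent.S0676
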