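import Cfsg.Statements.S1013
import Mathlib
import Cfsg.Agent.PermGroups.PrimeDegree

set_option autoImplicit false
open Cfsg
open scoped Pointwise

namespace Cfsg.Agent.S1013

theorem prime_dvd_of_normal {α : Type*} [Fintype α] {p : ℕ} [hp : Fact p.Prime] (hα : Fintype.card α = p)
    {H : Type*} [Group H] [Finite H] [MulAction H α] [FaithfulSMul H α] [MulAction.IsPretransitive H α]
    (W : Subgroup H) [W.Normal] (hW : W ≠ ⊥) : p ∣ Nat.card W := by
  have : MulAction.IsPreprimitive H α := MulAction.IsPreprimitive.of_prime_card (by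
    rw [Nat.card_eq_fintype_card, hα]; exact hp.out)
  have : MulAction.IsPretransitive W α := MulAction.IsQuasiPreprimitive.isPretransitive_of_normal (G := H) (fun h => hW (by
    rw [eq_bot_iff]
    intro w hw
    refine Subgroup.mem_bot.2 (eq_of_smul_eq_smul (α := α) fun z => ?_)
    rw [one_smul]
    exact MulAction.mem_fixedPoints.1 (h.symm ▸ Set.mem_univ z : z ∈ MulAction.fixedPoints W α) ⟨w, hw⟩))
  obtain ⟨a⟩ : Nonempty α := Fintype.card_pos_iff.1 (hα ▸ hp.out.pos)
  have h := (MulAction.stabilizer W a).index_dvd_card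
  rwa [MulAction.index_stabilizer_of_transitive, Nat.card_eq_fintype_card (α := α), hα] at h

/-- Let G be a transitive permutation group of prime degree p having more than one Sylow p-subgroup, and suppose a Sylow p-subgroup P has prime index in its normalizer. Then G is simple. -/
theorem result {α : Type*} [Fintype α] [DecidableEq α] {p : ℕ} [Fact p.Prime] (hα : Fintype.card α = p) (G : Subgroup (Equiv.Perm α)) [MulAction.IsPretransitive ↥G α] (P : Sylow p ↥G) (hn : 1 < Nat.card (Sylow p ↥G)) (ht : (((P : Subgroup ↥G).subgroupOf (Subgroup.normalizer ((P : Subgroup ↥G) : Set ↥G))).index).Prime) : IsSimpleGroup ↥G := by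
  classical
  have hp := (Fact.out : p.Prime)
  obtain ⟨e, τ, hτ, hτe⟩ := Cfsg.Lib.PermGroups.PrimeDegree.exists_coord hα G
  obtain ⟨P0, hP0⟩ := Cfsg.Lib.PermGroups.PrimeDegree.sylow_coord hα G hτ hτe
  have hcard : ∀ Q : Sylow p G, Nat.card (Q : Subgroup G) = p := fun Q => by
    have h1 : Nat.card (P0 : Subgroup G) = p := by
      rw [hP0, Nat.card_zpowers, ← Subgroup.orderOf_coe]; exact Cfsg.Lib.PermGroups.PrimeDegree.orderOf_coord hτe
    rw [Q.card_eq_multiplicity, ← P0.card_eq_multiplicity]; exact h1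
  have : Nontrivial G := by
    by_contra h
    rw [not_nontrivial_iff_subsingleton] at h
    have : Subsingleton (Sylow p G) := ⟨fun Q R => Sylow.ext (Subsingleton.elim _ _)⟩
    have := (Finite.card_le_one_iff_subsingleton (α := Sylow p G)).2 inferInstance
    omega
  refine { eq_bot_or_eq_top_of_normal := fun M hM => or_iff_not_imp_left.2 fun hMb => ?_ }
  have hpM := prime_dvd_of_normal hα M hMb
  -- `P` lies in `M`
  have hPM : (P : Subgroup G) ≤ M := by
    obtain ⟨u, hu⟩ := exists_prime_orderOf_dvd_card' (G := M) p hpM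
    obtain ⟨Q, hQ⟩ := (IsPGroup.of_card (p := p) (n := 1) (G := Subgroup.zpowers (u : G)) (by
      rw [Nat.card_zpowers, Subgroup.orderOf_coe, hu, pow_one])).exists_le_sylow
    have hQe : Subgroup.zpowers (u : G) = (Q : Subgroup G) := Subgroup.eq_of_le_of_card_ge hQ (by
      rw [Nat.card_zpowers, Subgroup.orderOf_coe, hu, hcard Q])
    obtain ⟨g, hg⟩ := MulAction.exists_smul_eq G Q P
    rw [← hg]
    rintro _ ⟨x, hx, rfl⟩
    exact hM.conj_mem x ((hQe ▸ Subgroup.zpowers_le.2 u.2 : (Q : Subgroup G) ≤ M) hx) g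
  set N := Subgroup.normalizer ((P : Subgroup G) : Set G)
  let P' : Sylow p M := P.subtype hPM
  have hsup : N ⊔ M = ⊤ := by
    have h := Sylow.normalizer_sup_eq_top (N := M) P'
    have he : ((P' : Subgroup M).map M.subtype) = (P : Subgroup G) := by
      rw [Sylow.coe_subtype, Subgroup.subgroupOf_map_subtype, inf_of_le_left hPM]
    rw [he] at h
    exact h
  have hPN : (P : Subgroup G) ≤ N := Subgroup.le_normalizer
  have hdvd := Subgroup.relIndex_mul_index (le_inf hPN hPM) (K := N ⊓ M) |> fun _ =>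
    Subgroup.relIndex_mul_relIndex (P : Subgroup G) (N ⊓ M) N (le_inf hPN hPM) inf_le_left
  rcases ht.eq_one_or_self_of_dvd _ ⟨_, hdvd.symm.trans rfl⟩ with h | h
  · -- `M ∩ N = P`: transfer
    exfalso
    have hle : N ⊓ M ≤ (P : Subgroup G) := Subgroup.relIndex_eq_one.1 h
    have hNP : Subgroup.normalizer ((P' : Subgroup M) : Set M) ≤ (P' : Subgroup M) := by
      intro x hx
      refine hle ⟨Subgroup.mem_normalizer_iff.2 fun y => ?_, x.2⟩
      have hx' := Subgroup.mem_normalizer_iff.1 hx
      constructor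
      · intro hy; exact (hx' ⟨y, hPM hy⟩).1 hy
      · intro hy
        have hyM : y ∈ M := by simpa [mul_assoc] using M.mul_mem (M.mul_mem (M.inv_mem x.2) (hPM hy)) x.2
        exact (hx' ⟨y, hyM⟩).2 hy
    have hP'c : Nat.card (P' : Subgroup M) = p := by
      rw [Sylow.coe_subtype, Nat.card_congr (Subgroup.subgroupOfEquivOfLe hPM).toEquiv, hcard]
    have : IsCyclic (P' : Subgroup M) := isCyclic_of_prime_card hP'c
    have hPC : Subgroup.normalizer ((P' : Subgroup M) : Set M) ≤ Subgroup.centralizer ((P' : Subgroup M) : Set M) := fun x hx =>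
      Subgroup.mem_centralizer_iff.2 fun y hy => congrArg Subtype.val
        (IsMulCommutative.is_comm.comm (⟨y, hy⟩ : (P' : Subgroup M)) ⟨x, hNP hx⟩)
    have hcomp := MonoidHom.ker_transferSylow_isComplement' P' hPC
    have hnd := MonoidHom.not_dvd_card_ker_transferSylow P' hPC
    have : MulAction.IsPretransitive M α := MulAction.IsPretransitive.mk fun a b => by
      obtain ⟨i, rfl⟩ := e.surjective a
      obtain ⟨j, rfl⟩ := e.surjective b
      have hτM : (⟨τ, hτ⟩ : G) ∈ M := by
        have h0 : (⟨τ, hτ⟩ : G) ∈ (P0 : Subgroup G) := hP0 ▸ Subgroup.mem_zpowers _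
        obtain ⟨g, hg⟩ := MulAction.exists_smul_eq G P P0
        rw [← hg] at h0
        obtain ⟨x, hx, hxe⟩ := h0
        rw [← hxe]
        exact hM.conj_mem x (hPM hx) g
      refine ⟨⟨(⟨τ, hτ⟩ : G) ^ (j - i).val, M.pow_mem hτM _⟩, ?_⟩
      show (τ ^ (j - i).val) (e i) = e j
      rw [Cfsg.Lib.PermGroups.PrimeDegree.pow_apply_coord hτe, ZMod.natCast_zmod_val, add_sub_cancel]
    have : FaithfulSMul M α := ⟨fun {a b} hab => Subtype.ext (eq_of_smul_eq_smul (α := α) fun z => hab z)⟩
    have hb : (MonoidHom.transferSylow P' hPC).ker = ⊥ := by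
      by_contra hb
      exact hnd (prime_dvd_of_normal hα _ hb)
    have h1 := hcomp.card_mul
    rw [hb, Subgroup.card_bot, one_mul] at h1
    have hMP : M = (P : Subgroup G) := (Subgroup.eq_of_le_of_card_ge hPM (by rw [← h1, hP'c, hcard])).symm
    subst hMP
    have := Sylow.unique_of_normal P hM
    rw [Nat.card_unique] at hn
    exact lt_irrefl _ hn
  · -- `N ≤ M`
    have h2 : (N ⊓ M).relIndex N = 1 := by
      have h0 : (P : Subgroup G).relIndex N ≠ 0 := ht.ne_zero
      have h3 : (P : Subgroup G).relIndex (N ⊓ M) = (P : Subgroup G).relIndex N := h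
      rw [h3] at hdvd
      exact (mul_eq_left₀ h0).1 hdvd
    have hNM : N ≤ M := (Subgroup.relIndex_eq_one.1 h2).trans inf_le_right
    rwa [sup_eq_right.2 hNM] at hsup

end Cfsg.Agent.S1013
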