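import Cfsg.Statements.S4702
import Cfsg.Agent.RankOne.SharpThree

set_option autoImplicit false
open Cfsg

namespace Cfsg.Agent.S4702

/-- Let G be a triply transitive permutation group on a finite set of odd size m ≥ 3 in which only the identity fixes three or more points. Then m = 2^a + 1 for some a ≥ 1 and G is isomorphic to SL(2, 2^a). -/
theorem result {α : Type*} [Fintype α] [DecidableEq α] (hm : 3 ≤ Fintype.card α) (hodd : Odd (Fintype.card α)) (G : Subgroup (Equiv.Perm α)) (h3 : MulAction.IsMultiplyPretransitive G α 3) (hfix : ∀ g : G, 3 ≤ Nat.card (MulAction.fixedBy α g) → g = 1) : ∃ a : ℕ, 1 ≤ a ∧ Fintype.card α = 2 ^ a + 1 ∧ ∃ (F : Type) (_ : Field F) (_ : Fintype F), Fintype.card F = 2 ^ a ∧ Nonempty (G ≃* Matrix.SpecialLinearGroup (Fin 2) F) := by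
  classical
  have hsharp : ∀ x : Fin 3 ↪ α, MulAction.stabilizer G x = ⊥ := fun x => by
    rw [Subgroup.eq_bot_iff_forall]
    intro g hg
    refine hfix g ?_
    have h1 : ∀ i, g • x i = x i := fun i => DFunLike.congr_fun (MulAction.mem_stabilizer_iff.1 hg) i
    have h2 := Nat.card_le_card_of_injective (fun i : Fin 3 => (⟨x i, h1 i⟩ : MulAction.fixedBy α g))
      fun i j h => x.injective (congrArg Subtype.val h)
    rwa [Nat.card_fin] at h2
  obtain ⟨F, iF, iFF, hF, hch, ⟨e⟩⟩ := Cfsg.Lib.RankOne.sharp_odd h3 hsharp hm hodd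
  have hcp : CharP F 2 := hch ▸ ringChar.charP F
  obtain ⟨a, -, ha⟩ := FiniteField.card F 2
  obtain ⟨e'⟩ := Cfsg.Lib.RankOne.pgl_mulEquiv_sl hch
  refine ⟨(a : ℕ), a.pos, by omega, ?_⟩
  exact @Exists.intro _ _ F (@Exists.intro _ _ iF (@Exists.intro _ _ iFF ⟨ha, ⟨e.trans e'⟩⟩))

end Cfsg.Agent.S4702
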