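import Cfsg.Statements.S4706
import Cfsg.Agent.S0676
import Cfsg.Agent.S1013
import Cfsg.Agent.S4702
import Cfsg.Agent.PermGroups.PrimeExceptional.Core

set_option autoImplicit false
open Cfsg

namespace Cfsg.Agent.S4706

/-- Let p > 2 be a prime and G a permutation group on p letters whose Sylow p-subgroup P has normalizer of order 2p. Then either P is normal in G, or p − 1 = 2^a for some a and G is isomorphic to SL(2, 2^a). -/
theorem result {α : Type*} [Fintype α] [DecidableEq α] {p : ℕ} [Fact p.Prime] (hp : 2 < p) (hα : Fintype.card α = p) (G : Subgroup (Equiv.Perm α)) (P : Sylow p G) (hN : Nat.card (Subgroup.normalizer ((P : Subgroup G) : Set G)) = 2 * p) : (P : Subgroup G).Normal ∨ ∃ (a : ℕ) (F : Type) (_ : Field F) (_ : Fintype F), p = 2 ^ a + 1 ∧ Fintype.card F = 2 ^ a ∧ Nonempty (G ≃* Matrix.SpecialLinearGroup (Fin 2) F) := by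
  classical
  by_cases hnorm : (P : Subgroup G).Normal
  · exact Or.inl hnorm
  right
  have hpr := (Fact.out : p.Prime)
  have hcardN : p ∣ Nat.card G := by
    by_contra hnd
    apply hnorm
    have hP : Nat.card (P : Subgroup G) = 1 := by
      obtain ⟨n, hn⟩ := IsPGroup.iff_card.1 P.isPGroup'
      cases n with
      | zero => simpa using hn
      | succ n => exact absurd ((dvd_pow_self p n.succ_ne_zero).trans (hn ▸ Subgroup.card_subgroup_dvd_card _)) hnd
    rw [Subgroup.eq_bot_of_card_eq _ hP]
    infer_instance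
  have htrans : MulAction.IsPretransitive G α := by
    obtain ⟨g, hg⟩ := exists_prime_orderOf_dvd_card' p hcardN
    replace hg : orderOf (g : Equiv.Perm α) = p := (Subgroup.orderOf_coe g).trans hg
    have hcyc : (g : Equiv.Perm α).IsCycle :=
      Equiv.Perm.isCycle_of_prime_order'' (hα.symm ▸ hpr) (hg.trans hα.symm)
    have hsupp : (g : Equiv.Perm α).support = Finset.univ :=
      Finset.eq_univ_of_card _ (by rw [← hcyc.orderOf, hg, hα])
    refine ⟨fun a b => ?_⟩
    have ha : (g : Equiv.Perm α) a ≠ a := Equiv.Perm.mem_support.1 (hsupp ▸ Finset.mem_univ a)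
    have hb : (g : Equiv.Perm α) b ≠ b := Equiv.Perm.mem_support.1 (hsupp ▸ Finset.mem_univ b)
    obtain ⟨i, hi⟩ := hcyc.sameCycle ha hb
    exact ⟨g ^ i, hi⟩
  obtain ⟨e, τ, hτ, hτe⟩ := Cfsg.Lib.PermGroups.PrimeDegree.exists_coord hα G
  obtain ⟨P', hP'⟩ := Cfsg.Lib.PermGroups.PrimeDegree.sylow_coord hα G hτ hτe
  have hN' : Nat.card (Subgroup.normalizer ((P' : Subgroup G) : Set G)) = 2 * p := by
    have h1 := (Subgroup.normalizer ((P' : Subgroup G) : Set G)).card_mul_index
    have hi : (Subgroup.normalizer ((P' : Subgroup G) : Set G)).index =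
        (Subgroup.normalizer ((P : Subgroup G) : Set G)).index :=
      P'.card_eq_index_normalizer.symm.trans P.card_eq_index_normalizer
    rw [hi,
      ← (Subgroup.normalizer ((P : Subgroup G) : Set G)).card_mul_index] at h1
    rw [Nat.eq_of_mul_eq_mul_right (Nat.pos_of_ne_zero Subgroup.index_ne_zero_of_finite) h1, hN]
  set t : G := ⟨τ, hτ⟩
  have hot : orderOf t = p := by
    rw [← Subgroup.orderOf_coe]; exact Cfsg.Lib.PermGroups.PrimeDegree.orderOf_coord hτe
  have hPcard : Nat.card (P : Subgroup G) = p := by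
    rw [P.card_eq_multiplicity, ← P'.card_eq_multiplicity, hP', Nat.card_zpowers, hot]
  have hsyl : 1 < Nat.card (Sylow p G) := by
    by_contra hc
    have : Subsingleton (Sylow p G) := Finite.card_le_one_iff_subsingleton.1 (by omega)
    exact hnorm P.normal_of_subsingleton
  have hidx : ((P : Subgroup G).subgroupOf (Subgroup.normalizer ((P : Subgroup G) : Set G))).index = 2 := by
    have h1 := ((P : Subgroup G).subgroupOf (Subgroup.normalizer ((P : Subgroup G) : Set G))).card_mul_index
    rw [Nat.card_congr (Subgroup.subgroupOfEquivOfLe Subgroup.le_normalizer).toEquiv, hPcard, hN,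
      mul_comm 2 p] at h1
    exact Nat.eq_of_mul_eq_mul_left hpr.pos h1
  have hsimple : IsSimpleGroup G :=
    Cfsg.Agent.S1013.result hα G P hsyl (by rw [hidx]; exact Nat.prime_two)
  have hns : ¬ Group.IsSolvable G := fun hs => by
    refine hnorm ⟨fun n hn g => ?_⟩
    have hc := (IsSimpleGroup.comm_iff_isSolvable (G := G)).2 hs
    rw [hc g n, mul_inv_cancel_right]
    exact hn
  have h2t : MulAction.IsMultiplyPretransitive G α 2 :=
    (Cfsg.Agent.S0675.result (α := α) (hα.symm ▸ hpr) G).resolve_left hns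
  have h3t : MulAction.IsMultiplyPretransitive G α 3 :=
    Cfsg.Agent.S0676.result hα G hns P (hN ▸ even_two_mul p)
  let h : Cfsg.Lib.PermGroups.PrimeExceptional.Setting G p :=
    { t := t, order := hot, odd := hp
      cent := fun g hc => by
        have hc' : (g : Equiv.Perm α) * τ = τ * (g : Equiv.Perm α) := congrArg Subtype.val hc.eq
        have hfix : ∀ n : ℕ, (g : Equiv.Perm α) (e (n : ZMod p)) =
            e (e.symm ((g : Equiv.Perm α) (e 0)) + (n : ZMod p)) := fun n => by
          induction n with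
          | zero => simp
          | succ n ih =>
            have h4 := congrFun (congrArg DFunLike.coe hc') (e (n : ZMod p))
            rw [Equiv.Perm.mul_apply, Equiv.Perm.mul_apply, hτe, ih, hτe] at h4
            rw [Nat.cast_succ, h4, add_assoc]
        refine Subgroup.mem_zpowers_iff.2 ⟨(e.symm ((g : Equiv.Perm α) (e 0))).val, ?_⟩
        rw [zpow_natCast]
        refine Subtype.ext (Equiv.ext fun x => ?_)
        obtain ⟨i, rfl⟩ := e.surjective x
        show (τ ^ _) (e i) = (g : Equiv.Perm α) (e i)
        rw [Cfsg.Lib.PermGroups.PrimeDegree.pow_apply_coord hτe]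
        have := hfix i.val
        rw [ZMod.natCast_zmod_val] at this
        rw [this, ZMod.natCast_zmod_val, add_comm]
      normCard := by rw [← hP']; exact hN' }
  have hfree : ∀ a : α, h.t • a ≠ a := fun a ha => by
    obtain ⟨i, rfl⟩ := e.surjective a
    have h1 : e (i + 1) = e i := (hτe i).symm.trans ha
    have h2 := e.injective h1
    rw [add_eq_left] at h2
    exact one_ne_zero h2
  have hfix : ∀ g : G, 3 ≤ Nat.card (MulAction.fixedBy α g) → g = 1 :=
    h.fixed_le_two α (Nat.card_eq_fintype_card.trans hα) hfree h2t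
  obtain ⟨a, -, ha, F, iF, iFF, hF, hiso⟩ := Cfsg.Agent.S4702.result (by omega)
    (hα.symm ▸ hpr.odd_of_ne_two (by omega)) G h3t hfix
  exact ⟨a, F, iF, iFF, by omega, hF, hiso⟩

end Cfsg.Agent.S4706
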