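import Cfsg.Statements.S4689
import Cfsg.Agent.Blocks.Star.NilpotentBlock

set_option autoImplicit false
open Cfsg

namespace Cfsg.Agent.S4689

open Cfsg.Lib.Chars Cfsg.Lib.Blocks Cfsg.Lib.Blocks.Star

/-- A nilpotent block has a single Brauer character. -/
theorem result {G : Type*} [Group G] [Fintype G] (p : ℕ) [Fact p.Prime] (M : Ideal Cfsg.AlgInt) (hM : Cfsg.IsPModular p M) (B : Set (Cfsg.IrrCharacter G)) (hnil : Cfsg.IsNilpotentBlock p M B) : Cfsg.blockRank p B = 1 ∧ ∃ χ₀ ∈ B, ∀ χ ∈ B, ∃ d : ℕ, ∀ x : G, Cfsg.pRegularPart p (χ : G → ℂ) x = (d : ℂ) * Cfsg.pRegularPart p (χ₀ : G → ℂ) x := by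
  classical
  obtain ⟨D, hD⟩ := exists_defectGroup hM hnil.1
  obtain ⟨c, hmax⟩ := exists_pair_of_defect hM hnil.1 hD
  obtain ⟨χ₀, hχ₀, -, Φ, hΦ⟩ := nilpotent_characters hM hmax hnil
  have hmul : ∀ χ ∈ B, ∃ d : ℕ, ∀ x : G,
      pRegularPart p (χ : G → ℂ) x = (d : ℂ) * pRegularPart p (χ₀ : G → ℂ) x := by
    intro χ hχ
    obtain ⟨ζ, hζ⟩ := Φ.surjective ⟨χ, hχ⟩
    refine ⟨deg (ζ : D → ℂ), fun x => ?_⟩
    rw [pRegularPart_apply, pRegularPart_apply]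
    split_ifs with hx
    · rw [mul_zero]
    · rw [← irr_apply_one_eq_deg ζ, ← hΦ ζ x hx, hζ]
  refine ⟨?_, χ₀, hχ₀, hmul⟩
  have hspan : Submodule.span ℂ ((fun χ : IrrCharacter G => pRegularPart p (χ : G → ℂ)) '' B) =
      Submodule.span ℂ {pRegularPart p (χ₀ : G → ℂ)} := by
    refine le_antisymm (Submodule.span_le.2 ?_)
      (Submodule.span_mono (Set.singleton_subset_iff.2 ⟨χ₀, hχ₀, rfl⟩))
    rintro _ ⟨χ, hχ, rfl⟩
    obtain ⟨d, hd⟩ := hmul χ hχ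
    exact Submodule.mem_span_singleton.2 ⟨(d : ℂ), funext fun x => (hd x).symm⟩
  rw [blockRank, hspan]
  refine finrank_span_singleton fun h => ?_
  have h1 := congrFun h 1
  rw [pRegularPart_apply, if_neg (by simpa using (Fact.out : p.Prime).ne_one)] at h1
  exact IsIrrCharacter.apply_one_ne_zero χ₀.2 h1

end Cfsg.Agent.S4689
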