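import Cfsg.Statements.S3116
import Cfsg.Agent.PGroups.QuasiDihedral

set_option autoImplicit false
open Cfsg

namespace Cfsg.Agent.S3116

theorem aut_two_group {X : Type*} [Group X] [Finite X] {r : X} {k : ℕ} (hr : orderOf r = 2 ^ k)
    (hidx : (Subgroup.zpowers r).index = 2) (hgen : ∀ g : X, orderOf g = orderOf r → g ∈ Subgroup.zpowers r) :
    IsPGroup 2 (MulAut X) := by
  haveI := Fact.mk Nat.prime_two
  have key : ∀ (f : MulAut X) (N : ℕ), Odd N → f ^ N = 1 → f = 1 := by
    intro f N hN hf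
    obtain ⟨i, hi⟩ := Subgroup.mem_zpowers_iff.1 (hgen (f r) (MulEquiv.orderOf_eq f r))
    have hpow : ∀ m : ℕ, (f ^ m) r = r ^ (i ^ m) := by
      intro m
      induction m with
      | zero => simp
      | succ m ih =>
        rw [pow_succ', MulAut.mul_apply, ih, map_zpow, ← hi, ← zpow_mul, pow_succ']
    have hfr : f r = r := by
      have h1 := hpow N
      rw [hf, MulAut.one_apply] at h1
      have h2 : ((i : ZMod (2 ^ k)) ^ N) = 1 := by
        rw [← Int.cast_pow, ← Int.cast_one, ZMod.intCast_eq_intCast_iff, ← hr, ← zpow_eq_zpow_iff_modEq, zpow_one, ← h1]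
      obtain ⟨N', rfl⟩ : ∃ N', N = N' + 1 := ⟨N - 1, by rcases hN with ⟨c, rfl⟩; omega⟩
      let u : (ZMod (2 ^ k))ˣ := ⟨i, (i : ZMod (2 ^ k)) ^ N', by rw [← pow_succ', h2], by rw [← pow_succ, h2]⟩
      have hu : u ^ (N' + 1) = 1 := Units.ext (by simpa [u] using h2)
      have hcard : Nat.card (ZMod (2 ^ k))ˣ ∣ 2 ^ k := by
        rw [Nat.card_eq_fintype_card, ZMod.card_units_eq_totient]
        rcases k with _ | k
        · simp
        · rw [Nat.totient_prime_pow_succ Nat.prime_two]; simp [pow_succ]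
      have hu1 : u = 1 := orderOf_eq_one_iff.1 (Nat.eq_one_of_dvd_coprimes
        (Nat.Coprime.pow_right k (Nat.coprime_two_right.2 hN)) (orderOf_dvd_of_pow_eq_one hu)
        ((orderOf_dvd_natCard u).trans hcard))
      have h3 : ((i : ℤ) : ZMod (2 ^ k)) = ((1 : ℤ) : ZMod (2 ^ k)) := by
        rw [Int.cast_one]; exact congrArg Units.val hu1
      rw [ZMod.intCast_eq_intCast_iff, ← hr, ← zpow_eq_zpow_iff_modEq, zpow_one] at h3
      rw [← hi, h3]
    have hfz : ∀ j : ℤ, f (r ^ j) = r ^ j := fun j => by rw [map_zpow, hfr]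
    obtain ⟨s, hs⟩ := Subgroup.index_eq_two_iff.1 hidx
    have hdec : ∀ g : X, g ∈ Subgroup.zpowers r ∨ ∃ j : ℤ, g * s = r ^ j := fun g => by
      rcases hs g with h | h
      · exact Or.inr ⟨_, (Subgroup.mem_zpowers_iff.1 h.1).choose_spec.symm⟩
      · exact Or.inl h.1
    obtain ⟨j, hj⟩ : ∃ j : ℤ, f s = r ^ j * s := by
      have hsn : s ∉ Subgroup.zpowers r := fun h => by
        rcases hs 1 with h1 | h1
        · exact h1.2 (one_mem _)
        · exact h1.2 (by rw [one_mul]; exact h)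
      have hss : s * s ∈ Subgroup.zpowers r := by
        rcases hs s with h | h
        · exact h.1
        · exact absurd h.1 hsn
      have hfn : f s ∉ Subgroup.zpowers r := fun h => by
        obtain ⟨c, hc⟩ := Subgroup.mem_zpowers_iff.1 h
        exact hsn (Subgroup.mem_zpowers_iff.2 ⟨c, f.injective (by rw [hfz, hc])⟩)
      obtain ⟨c, hc⟩ := (hdec (f s)).resolve_left hfn
      obtain ⟨d, hd⟩ := Subgroup.mem_zpowers_iff.1 hss
      refine ⟨c - d, ?_⟩
      rw [zpow_sub, ← hc, hd]; group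
    have hm : ∀ m : ℕ, (f ^ m) s = r ^ (j * m) * s := by
      intro m
      induction m with
      | zero => simp
      | succ m ih =>
        rw [pow_succ', MulAut.mul_apply, ih, map_mul, hfz, hj, ← mul_assoc, ← zpow_add]
        congr 2
        push_cast
        ring
    have hj1 : r ^ j = 1 := by
      have h1 := hm N
      rw [hf, MulAut.one_apply, right_eq_mul, zpow_mul, zpow_natCast] at h1
      exact orderOf_eq_one_iff.1 (Nat.eq_one_of_dvd_coprimes (Nat.Coprime.pow_right k (Nat.coprime_two_right.2 hN))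
        (orderOf_dvd_of_pow_eq_one h1) (hr ▸ orderOf_dvd_of_mem_zpowers (Subgroup.zpow_mem_zpowers r j)))
    rw [hj1, one_mul] at hj
    refine MulEquiv.ext fun g => ?_
    rw [MulAut.one_apply]
    rcases hdec g with h | ⟨c, hc⟩
    · obtain ⟨c, rfl⟩ := Subgroup.mem_zpowers_iff.1 h
      exact hfz c
    · rw [show g = r ^ c * s⁻¹ by rw [← hc, mul_inv_cancel_right], map_mul, map_inv, hfz, hj]
  rw [IsPGroup.iff_orderOf]
  intro f
  refine ⟨(orderOf f).factorization 2, ?_⟩
  have hN : Odd (ordCompl[2] (orderOf f)) := by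
    rw [← Nat.not_even_iff_odd, even_iff_two_dvd]
    exact Nat.not_dvd_ordCompl Nat.prime_two (orderOf_pos f).ne'
  have h0 := key (f ^ ordProj[2] (orderOf f)) _ hN (by
    rw [← pow_mul, Nat.ordProj_mul_ordCompl_eq_self, pow_orderOf_eq_one])
  refine Nat.dvd_antisymm (orderOf_dvd_of_pow_eq_one h0) (Nat.ordProj_dvd _ _)


/-- The automorphism group of a dihedral 2-group of order at least 8, or of a quasi-dihedral (semidihedral) 2-group of order at least 16, is a 2-group. -/
theorem result {X : Type*} [Group X] [Finite X] (h2 : IsPGroup 2 X)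
    (h : (∃ n : ℕ, 4 ≤ n ∧ Nonempty (X ≃* DihedralGroup n)) ∨ Cfsg.IsQuasiDihedral X) : IsPGroup 2 (MulAut X) := by
  haveI := Fact.mk Nat.prime_two
  rcases h with ⟨n, hn, ⟨e⟩⟩ | hQ
  · haveI : NeZero n := ⟨by omega⟩
    have hcard : Nat.card X = 2 * n := (Nat.card_congr e.toEquiv).trans DihedralGroup.nat_card
    obtain ⟨c, hc⟩ := IsPGroup.iff_card.1 h2
    obtain ⟨k, hk⟩ : ∃ k, n = 2 ^ k := by
      obtain ⟨k, -, hk⟩ := (Nat.dvd_prime_pow Nat.prime_two).1 (show n ∣ 2 ^ c by rw [← hc, hcard]; exact dvd_mul_left _ _)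
      exact ⟨k, hk⟩
    refine aut_two_group (r := e.symm (DihedralGroup.r 1)) (k := k) (by rw [MulEquiv.orderOf_eq, DihedralGroup.orderOf_r_one, hk]) ?_ ?_
    · have h1 : orderOf (e.symm (DihedralGroup.r (1 : ZMod n))) = n := by rw [MulEquiv.orderOf_eq, DihedralGroup.orderOf_r_one]
      have := (Subgroup.zpowers (e.symm (DihedralGroup.r (1 : ZMod n)))).card_mul_index
      rw [Nat.card_zpowers, h1, hcard, mul_comm 2 n] at this
      exact Nat.eq_of_mul_eq_mul_left (by omega) this
    · intro g hg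
      rw [MulEquiv.orderOf_eq, DihedralGroup.orderOf_r_one, ← MulEquiv.orderOf_eq e g] at hg
      cases hge : e g with
      | r i =>
        refine ⟨(i.val : ℤ), e.injective ?_⟩
        dsimp only
        rw [hge, zpow_natCast, map_pow, MulEquiv.apply_symm_apply, DihedralGroup.r_one_pow, ZMod.natCast_zmod_val]
      | sr i =>
        rw [hge, DihedralGroup.orderOf_sr] at hg
        omega
  · obtain ⟨m, a, b, h⟩ := Cfsg.Lib.QD.exists_gen hQ
    have h8 : 2 ^ 3 ≤ 2 ^ m := Nat.pow_le_pow_right (by omega) h.1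
    refine aut_two_group (r := a) (k := m) h.2.ord ?_ ?_
    · have := (Subgroup.zpowers a).card_mul_index
      rw [Nat.card_zpowers, h.2.ord, h.2.card, pow_succ] at this
      exact Nat.eq_of_mul_eq_mul_left (by omega) this
    · intro g hg
      rw [h.2.ord] at hg
      rcases Cfsg.Lib.CyclicMax.cases h.2 g with ⟨i, rfl⟩ | ⟨i, rfl⟩
      · exact Subgroup.zpow_mem_zpowers a i
      · obtain ⟨he, ho⟩ := Cfsg.Lib.QD.orderOf_b h i
        by_cases hi : (2 : ℤ) ∣ i
        · rw [he hi] at hg; omega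
        · rw [ho hi] at hg; omega

end Cfsg.Agent.S3116
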