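import Cfsg.Statements.S1190
import Cfsg.Agent.PGroups.QuasiDihedral

set_option autoImplicit false
open Cfsg

namespace Cfsg.Agent.S1190

/-- In a quasi-dihedral 2-group S, any two Klein four-subgroups are conjugate, and every Klein four-subgroup T satisfies C_S(T) = T and |N_S(T) : T| = 2. -/
theorem result {S : Type*} [Group S] [Finite S] (hS : Cfsg.IsQuasiDihedral S) : (∀ T₁ T₂ : Subgroup S, IsKleinFour T₁ → IsKleinFour T₂ → ∃ s : S, T₁.map (MulAut.conj s).toMonoidHom = T₂) ∧ (∀ T : Subgroup S, IsKleinFour T → Subgroup.centralizer (T : Set S) = T ∧ T.relIndex (Subgroup.normalizer (T : Set S)) = 2) := by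
  obtain ⟨m, a, b, h⟩ := Cfsg.Lib.QD.exists_gen hS
  set z := a ^ ((2 : ℤ) ^ (m - 1)) with hz
  -- every four subgroup is the centraliser of an outer involution
  have key : ∀ T : Subgroup S, IsKleinFour T → ∃ t : ℤ, T = Subgroup.centralizer {a ^ (2 * t) * b} := by
    intro T hT
    haveI := hT
    have hexp : ∀ g ∈ T, g * g = 1 := fun g hg => congrArg Subtype.val (IsKleinFour.mul_self ⟨g, hg⟩)
    obtain ⟨g, hgT, hgA⟩ : ∃ g ∈ T, g ∉ Subgroup.zpowers a := by
      by_contra hno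
      push Not at hno
      have hsub : ∀ g ∈ T, g = 1 ∨ g = z := fun g hg => by
        rcases eq_or_ne g 1 with h1 | h1
        · exact Or.inl h1
        · obtain ⟨i, rfl⟩ := Subgroup.mem_zpowers_iff.1 (hno g hg)
          exact Or.inr ((Cfsg.Lib.QD.zpow_order_two h).1 (Cfsg.Lib.CyclicMax.orderOf_two_of_mul_self (hexp _ hg) h1))
      have h4 : Nat.card T = 4 := IsKleinFour.card_four
      have h2 : Nat.card T ≤ 2 := by
        classical
        haveI : Fintype T := Fintype.ofFinite T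
        rw [Nat.card_eq_fintype_card, ← Finset.card_univ]
        refine le_trans (Finset.card_le_card_of_injOn (fun g : T => (g : S)) (t := ({1, z} : Finset S))
          (fun g _ => by rcases hsub g g.2 with e | e <;> simp [e]) Subtype.val_injective.injOn) Finset.card_le_two
      omega
    obtain ⟨t, rfl⟩ : ∃ t : ℤ, g = a ^ (2 * t) * b := by
      refine (Cfsg.Lib.QD.order_two_cases h (Cfsg.Lib.CyclicMax.orderOf_two_of_mul_self (hexp g hgT)
        fun e => hgA (e ▸ one_mem _))).resolve_left fun e => hgA (e ▸ zpow_mem (Subgroup.mem_zpowers a) _)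
    obtain ⟨-, h4, -⟩ := Cfsg.Lib.QD.centralizer_b (Cfsg.Lib.QD.replace_b h t)
    refine ⟨t, Subgroup.eq_of_le_of_card_ge (fun k hk => ?_) (by rw [h4, IsKleinFour.card_four])⟩
    refine Subgroup.mem_centralizer_singleton_iff.2 ?_
    have hinv : ∀ y ∈ T, y⁻¹ = y := fun y hy => inv_eq_of_mul_eq_one_right (hexp y hy)
    have := hinv _ (mul_mem hk hgT)
    rw [mul_inv_rev, hinv _ hk, hinv _ hgT] at this
    exact this.symm
  refine ⟨fun T₁ T₂ h1 h2 => ?_, fun T hT => ?_⟩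
  · obtain ⟨t₁, rfl⟩ := key T₁ h1
    obtain ⟨t₂, rfl⟩ := key T₂ h2
    obtain ⟨c, hc⟩ := Cfsg.Lib.QD.conj_parity h (i := 2 * t₁) (j := 2 * t₂) ⟨t₂ - t₁, by ring⟩
    refine ⟨a ^ c, ?_⟩
    rw [← hc]
    ext g
    rw [Subgroup.mem_map_equiv, Subgroup.mem_centralizer_singleton_iff, Subgroup.mem_centralizer_singleton_iff, MulAut.conj_symm_apply]
    constructor
    · intro e
      have := congrArg (fun u => a ^ c * u * (a ^ c)⁻¹) e
      simpa [mul_assoc] using this
    · intro e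
      have := congrArg (fun u => (a ^ c)⁻¹ * u * a ^ c) e
      simpa [mul_assoc] using this
  obtain ⟨t, rfl⟩ := key T hT
  set g := a ^ (2 * t) * b with hg
  have h' := Cfsg.Lib.QD.replace_b h t
  obtain ⟨hiff, h4, hself⟩ := Cfsg.Lib.QD.centralizer_b h'
  refine ⟨hself, ?_⟩
  set T := Subgroup.centralizer ({g} : Set S)
  set N := Subgroup.normalizer (T : Set S)
  have hcard := Subgroup.relIndex_mul_relIndex ⊥ T N bot_le Subgroup.le_normalizer
  rw [Subgroup.relIndex_bot_left, Subgroup.relIndex_bot_left, h4] at hcard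
  obtain ⟨h1, h2, h3⟩ := Cfsg.Lib.QD.pows h
  have haN : a ^ ((2 : ℤ) ^ (m - 2)) * g * (a ^ ((2 : ℤ) ^ (m - 2)))⁻¹ = z * g := by
    rw [hg, Cfsg.Lib.CyclicMax.conj_a h.2, hz, ← mul_assoc, ← zpow_add, Cfsg.Lib.CyclicMax.b_eq_iff h.2, h1, h2, h3]
    exact ⟨2 ^ (m - 3), by ring⟩
  -- the normaliser permutes two elements
  have himg : ∀ n ∈ N, n * g * n⁻¹ = g ∨ n * g * n⁻¹ = z * g := by
    intro n hn
    have hmem : n * g * n⁻¹ ∈ T := (Subgroup.mem_normalizer_iff.1 hn g).1 (Subgroup.mem_centralizer_singleton_iff.2 rfl)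
    rcases (hiff _).1 hmem with e | e | e | e
    · exact absurd (by simpa using e) (fun e' : g = 1 => h'.2.notMem (show g ∈ Subgroup.zpowers a by rw [e']; exact one_mem _))
    · exfalso
      haveI : (Subgroup.zpowers a).Normal := Subgroup.normal_of_index_eq_two (Cfsg.Lib.CyclicMax.index_zpowers h.2)
      have := ‹(Subgroup.zpowers a).Normal›.conj_mem _ (zpow_mem (Subgroup.mem_zpowers a) ((2 : ℤ) ^ (m - 1))) n⁻¹
      rw [← e] at this
      exact h'.2.notMem (by simpa [mul_assoc] using this)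
    · exact Or.inl e
    · exact Or.inr e
  have hwN : a ^ ((2 : ℤ) ^ (m - 2)) ∈ N := by
    refine Subgroup.mem_normalizer_iff_map_conj_eq.2 (Subgroup.eq_of_le_of_card_ge ?_ (Subgroup.card_map_of_injective (MulEquiv.injective _)).ge)
    rintro _ ⟨k, hk, rfl⟩
    set u := a ^ ((2 : ℤ) ^ (m - 2)) with hu
    have huz : u * z * u⁻¹ = z := by rw [hu, hz, ← zpow_neg, ← zpow_add, ← zpow_add]; congr 1; ring
    rcases (hiff k).1 hk with e | e | e | e
    · rw [e, map_one]; exact one_mem _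
    · exact (hiff _).2 (Or.inr (Or.inl (by rw [e]; exact huz)))
    · exact (hiff _).2 (Or.inr (Or.inr (Or.inr (by rw [e]; exact haN))))
    · refine (hiff _).2 (Or.inr (Or.inr (Or.inl ?_)))
      rw [e]
      show u * (z * g) * u⁻¹ = g
      rw [show u * (z * g) * u⁻¹ = (u * z * u⁻¹) * (u * g * u⁻¹) by group, huz, haN, ← mul_assoc, hz, ← zpow_add,
        show (2 : ℤ) ^ (m - 1) + 2 ^ (m - 1) = 2 ^ m by rw [h1]; ring, (Cfsg.Lib.CyclicMax.zpow_eq_one h.2 _).2 dvd_rfl, one_mul]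
  have hgz : g ≠ z * g := fun e => by
    have := Cfsg.Lib.QD.orderOf_z h
    rw [show a ^ ((2 : ℤ) ^ (m - 1)) = 1 from mul_eq_right.1 e.symm, orderOf_one] at this
    norm_num at this
  refine Subgroup.index_eq_two_iff.2 ⟨⟨a ^ ((2 : ℤ) ^ (m - 2)), hwN⟩, fun n => ?_⟩
  have hu2 : ∀ n : N, (n : S) * g * (n : S)⁻¹ = g ↔ (n : S) ∈ T := fun n => by
    rw [Subgroup.mem_centralizer_singleton_iff]
    exact mul_inv_eq_iff_eq_mul
  have hcomp : ∀ n : N, ((n : S) * a ^ ((2 : ℤ) ^ (m - 2))) * g * ((n : S) * a ^ ((2 : ℤ) ^ (m - 2)))⁻¹ = (n : S) * (z * g) * (n : S)⁻¹ := fun n => by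
    rw [← haN]; group
  show Xor (((n * ⟨_, hwN⟩ : N) : S) ∈ T) ((n : S) ∈ T)
  rw [← hu2 n, ← hu2 (n * ⟨_, hwN⟩), Subgroup.coe_mul, hcomp]
  rcases himg n n.2 with e | e
  · refine Or.inr ⟨e, fun e' => hgz ?_⟩
    exact (mul_left_cancel (mul_right_cancel (e'.trans e.symm))).symm
  · refine Or.inl ⟨?_, fun e' => hgz (e'.symm.trans e)⟩
    rcases himg (n * ⟨_, hwN⟩ : N) (n * ⟨_, hwN⟩ : N).2 with f | f
    · rwa [Subgroup.coe_mul, hcomp] at f
    · rw [Subgroup.coe_mul, hcomp] at f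
      exact absurd (mul_left_cancel (mul_right_cancel (f.trans e.symm))).symm hgz

end Cfsg.Agent.S1190
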