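import Cfsg.Statements.S1191
import Cfsg.Agent.PGroups.QuasiDihedral

set_option autoImplicit false
open Cfsg

namespace Cfsg.Agent.S1191

/-- In a quasi-dihedral 2-group S, any two subgroups isomorphic to the quaternion group of order 8 are conjugate, and each such subgroup Q satisfies C_S(Q) = Z(Q) and |N_S(Q) : Q| = 2. -/
theorem result {S : Type*} [Group S] [Finite S] (hS : Cfsg.IsQuasiDihedral S) : (∀ Q₁ Q₂ : Subgroup S, Nonempty (Q₁ ≃* QuaternionGroup 2) → Nonempty (Q₂ ≃* QuaternionGroup 2) → ∃ s : S, Q₁.map (MulAut.conj s).toMonoidHom = Q₂) ∧ (∀ Q : Subgroup S, Nonempty (Q ≃* QuaternionGroup 2) → Subgroup.centralizer (Q : Set S) = (Subgroup.center Q).map Q.subtype ∧ Q.relIndex (Subgroup.normalizer (Q : Set S)) = 2) := by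
  obtain ⟨m, a, b, h⟩ := Cfsg.Lib.QD.exists_gen hS
  haveI : Fact (Nat.Prime 2) := ⟨Nat.prime_two⟩
  set z := a ^ ((2 : ℤ) ^ (m - 1)) with hz
  set w := a ^ ((2 : ℤ) ^ (m - 2)) with hw
  obtain ⟨h1, h2, h3⟩ := Cfsg.Lib.QD.pows h
  haveI hAn : (Subgroup.zpowers a).Normal := Subgroup.normal_of_index_eq_two (Cfsg.Lib.CyclicMax.index_zpowers h.2)
  have key : ∀ Q : Subgroup S, Nonempty (Q ≃* QuaternionGroup 2) →
      ∃ i : ℤ, ¬ (2 : ℤ) ∣ i ∧ Q = Subgroup.closure {w, a ^ i * b} := by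
    rintro Q ⟨e⟩
    have hQ8 : Nat.card Q = 8 := by rw [Nat.card_congr e.toEquiv, Nat.card_eq_fintype_card, QuaternionGroup.card]
    have hno8 : ∀ g ∈ Q, g ^ 4 = 1 := fun g hg => by
      have h4 : ∀ q : QuaternionGroup 2, q ^ 4 = 1 := by decide
      have := congrArg e.symm (h4 (e ⟨g, hg⟩))
      rw [map_pow, MulEquiv.symm_apply_apply, map_one] at this
      exact congrArg Subtype.val this
    have hAQ : Subgroup.zpowers a ⊓ Q ≤ Subgroup.zpowers w := fun g hg => by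
      obtain ⟨i, rfl⟩ := Subgroup.mem_zpowers_iff.1 hg.1
      exact Cfsg.Lib.QD.mem_w_of_pow_four h (hno8 _ hg.2)
    have hwc : Nat.card (Subgroup.zpowers w) = 4 := by rw [Nat.card_zpowers]; exact Cfsg.Lib.QD.orderOf_w h
    have hrel : (Subgroup.zpowers a ⊓ Q).relIndex Q ∣ 2 := by
      rw [Subgroup.inf_relIndex_right]
      exact Cfsg.Lib.CyclicMax.index_zpowers h.2 ▸ Subgroup.relIndex_dvd_index_of_normal _ _
    have hAQ4 : Subgroup.zpowers a ⊓ Q = Subgroup.zpowers w := by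
      refine Subgroup.eq_of_le_of_card_ge hAQ ?_
      have h5 := Subgroup.relIndex_mul_relIndex ⊥ (Subgroup.zpowers a ⊓ Q) Q bot_le inf_le_right
      rw [Subgroup.relIndex_bot_left, Subgroup.relIndex_bot_left, hQ8] at h5
      rw [hwc]
      have h6 := Nat.le_of_dvd two_pos hrel
      by_contra hlt
      have := Nat.mul_le_mul (show Nat.card (Subgroup.zpowers a ⊓ Q : Subgroup S) ≤ 3 by omega) h6
      omega
    have hwQ : Subgroup.zpowers w ≤ Q := hAQ4 ▸ inf_le_right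
    obtain ⟨g, hgQ, hgA⟩ : ∃ g ∈ Q, g ∉ Subgroup.zpowers a := by
      by_contra hno
      push Not at hno
      have := Nat.le_of_dvd Nat.card_pos (Subgroup.card_dvd_of_le (le_inf hno le_rfl |>.trans hAQ))
      omega
    obtain ⟨i, rfl⟩ : ∃ i : ℤ, g = a ^ i * b := (Cfsg.Lib.CyclicMax.cases h.2 g).resolve_left
      fun ⟨i, hi⟩ => hgA (hi ▸ zpow_mem (Subgroup.mem_zpowers a) i)
    have huniq : ∀ x y : QuaternionGroup 2, x * x = 1 → y * y = 1 → x ≠ 1 → y ≠ 1 → x = y := by decide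
    have hi : ¬ (2 : ℤ) ∣ i := by
      intro hi
      have ho := (Cfsg.Lib.QD.orderOf_b h i).1 hi
      have hzQ : z ∈ Q := hwQ (by rw [hz, h2, mul_comm, zpow_mul]; exact ⟨2, rfl⟩)
      have hone : ∀ (x : S) (hx : x ∈ Q), orderOf x = 2 → e ⟨x, hx⟩ * e ⟨x, hx⟩ = 1 ∧ e ⟨x, hx⟩ ≠ 1 := by
        intro x hx hox
        refine ⟨?_, fun e1 => ?_⟩
        · rw [← map_mul, ← map_one e]
          congr 1
          exact Subtype.ext (show x * x = 1 by rw [← pow_two, ← hox]; exact pow_orderOf_eq_one x)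
        · rw [show x = 1 from congrArg Subtype.val (e.injective (e1.trans (map_one e).symm)), orderOf_one] at hox
          norm_num at hox
      obtain ⟨a1, a2⟩ := hone _ hgQ ho
      obtain ⟨c1, c2⟩ := hone _ hzQ (Cfsg.Lib.QD.orderOf_z h)
      have := congrArg Subtype.val (e.injective (huniq _ _ a1 c1 a2 c2))
      refine hgA ?_
      rw [show a ^ i * b = z from this]
      exact zpow_mem (Subgroup.mem_zpowers a) _
    refine ⟨i, hi, (Subgroup.eq_of_le_of_card_ge ?_ ?_).symm⟩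
    · rw [Subgroup.closure_le]
      rintro _ (rfl | rfl)
      · exact hwQ (Subgroup.mem_zpowers w)
      · exact hgQ
    · rw [hQ8]
      set K := Subgroup.closure ({w, a ^ i * b} : Set S)
      have hwK : Subgroup.zpowers w < K := by
        refine lt_of_le_of_ne (Subgroup.zpowers_le.2 (Subgroup.subset_closure (Or.inl rfl))) fun e' => ?_
        have : a ^ i * b ∈ Subgroup.zpowers w := e' ▸ Subgroup.subset_closure (Or.inr rfl)
        exact hgA ((Subgroup.zpowers_le.2 (zpow_mem (Subgroup.mem_zpowers a) _) : Subgroup.zpowers w ≤ _) this)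
      obtain ⟨j, hj⟩ := IsPGroup.iff_card.1 ((Cfsg.Lib.QD.isPGroup h).to_subgroup K)
      have hlt : Nat.card (Subgroup.zpowers w) < Nat.card K := lt_of_le_of_ne
        (Nat.le_of_dvd Nat.card_pos (Subgroup.card_dvd_of_le hwK.le))
        fun e' => hwK.ne (Subgroup.eq_of_le_of_card_ge hwK.le e'.ge)
      rw [hwc, hj] at hlt
      rw [hj, show (8 : ℕ) = 2 ^ 3 from rfl]
      refine Nat.pow_le_pow_right two_pos ?_
      by_contra h7
      have := Nat.pow_le_pow_right (n := 2) two_pos (show j ≤ 2 by omega)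
      omega
  have hwinv : ∀ i : ℤ, (a ^ i * b) * w * (a ^ i * b)⁻¹ = w⁻¹ := by
    intro i
    rw [mul_inv_rev, show a ^ i * b * w * (b⁻¹ * (a ^ i)⁻¹) = a ^ i * (b * w * b⁻¹) * (a ^ i)⁻¹ by group, hw,
      Cfsg.Lib.CyclicMax.conj_b h.2, mul_inv_cancel_right, ← zpow_neg, ← zpow_neg, ← zpow_add, ← zpow_add,
      Cfsg.Lib.CyclicMax.zpow_eq_iff h.2, h1, h2]
    exact ⟨-2 ^ (m - 3), by rw [h3]; ring⟩
  refine ⟨fun Q₁ Q₂ e₁ e₂ => ?_, fun Q e => ?_⟩
  · obtain ⟨i, hi, rfl⟩ := key Q₁ e₁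
    obtain ⟨j, hj, rfl⟩ := key Q₂ e₂
    obtain ⟨c, hc⟩ := Cfsg.Lib.QD.conj_parity h (i := i) (j := j) (by
      obtain ⟨q, rfl⟩ : Odd i := Int.not_even_iff_odd.1 fun he => hi (even_iff_two_dvd.1 he)
      obtain ⟨l, rfl⟩ : Odd j := Int.not_even_iff_odd.1 fun he => hj (even_iff_two_dvd.1 he)
      exact ⟨l - q, by ring⟩)
    refine ⟨a ^ c, ?_⟩
    rw [MonoidHom.map_closure, Set.image_pair]
    congr 2
    · show a ^ c * w * (a ^ c)⁻¹ = w
      rw [hw, ← zpow_neg, ← zpow_add, ← zpow_add]; congr 1; ring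
    · rw [show (MulAut.conj (a ^ c)).toMonoidHom (a ^ i * b) = a ^ j * b from hc]
  obtain ⟨i, hi, rfl⟩ := key Q e
  set x := a ^ i * b with hx
  set Q := Subgroup.closure ({w, x} : Set S) with hQ
  have hwQ : w ∈ Q := Subgroup.subset_closure (Or.inl rfl)
  have hxQ : x ∈ Q := Subgroup.subset_closure (Or.inr rfl)
  have hxA : x ∉ Subgroup.zpowers a := Cfsg.Lib.CyclicMax.notMem_mul h.2 i
  have hzQ : z ∈ Q := by
    rw [hz, h2, mul_comm, zpow_mul]
    exact zpow_mem hwQ 2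
  have hcent : ∀ g, g * w = w * g → g * x = x * g → g ∈ Q := by
    intro g hgw hgx
    rcases Cfsg.Lib.CyclicMax.cases h.2 g with ⟨j, rfl⟩ | ⟨j, rfl⟩
    · have hb' : b * a ^ j = a ^ j * b := by
        have h5 : a ^ i * (a ^ j * b) = a ^ i * (b * a ^ j) := by
          rw [← mul_assoc, ((Commute.refl a).zpow_zpow i j).eq, mul_assoc, ← hx, hgx, hx, mul_assoc]
        exact (mul_left_cancel h5).symm
      rcases (Cfsg.Lib.QD.zpow_comm_b_iff h j).1 hb' with e' | e' <;> rw [e']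
      · exact one_mem _
      · exact hzQ
    · exfalso
      have h5 := hwinv j
      rw [hgw, mul_inv_cancel_right, eq_inv_iff_mul_eq_one] at h5
      have := Nat.le_of_dvd two_pos (orderOf_dvd_of_pow_eq_one (by rw [pow_two]; exact h5) : orderOf w ∣ 2)
      rw [Cfsg.Lib.QD.orderOf_w h] at this
      omega
  constructor
  · refine le_antisymm (fun g hg => ?_) ?_
    · have hgQ : g ∈ Q := hcent g (Subgroup.mem_centralizer_iff.1 hg w hwQ).symm (Subgroup.mem_centralizer_iff.1 hg x hxQ).symm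
      exact ⟨⟨g, hgQ⟩, Subgroup.mem_center_iff.2 fun y => Subtype.ext (Subgroup.mem_centralizer_iff.1 hg y y.2), rfl⟩
    · rintro _ ⟨g, hg, rfl⟩
      exact Subgroup.mem_centralizer_iff.2 fun y hy => congrArg Subtype.val (Subgroup.mem_center_iff.1 hg ⟨y, hy⟩)
  -- the normaliser has order `16`
  set N := Subgroup.normalizer (Q : Set S) with hN
  set u := a ^ ((2 : ℤ) ^ (m - 3)) with hu
  have hu8 : orderOf u = 2 ^ (2 + 1) := by
    refine orderOf_eq_prime_pow ?_ ?_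
    · rw [hu, ← zpow_natCast, ← zpow_mul, show (2 : ℤ) ^ (m - 3) * ((2 ^ 2 : ℕ) : ℤ) = 2 ^ (m - 1) by rw [h2, h3]; push_cast; ring]
      intro e'
      have := Cfsg.Lib.QD.orderOf_z h
      rw [e', orderOf_one] at this
      norm_num at this
    · rw [hu, ← zpow_natCast, ← zpow_mul, Cfsg.Lib.CyclicMax.zpow_eq_one h.2, h1, h2, h3]
      exact ⟨1, by push_cast; ring⟩
  have hQA : ∀ j : ℤ, a ^ j ∈ Q → a ^ j ∈ Subgroup.zpowers w := by
    intro j hj
    refine Cfsg.Lib.QD.mem_w_of_pow_four h ?_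
    have h4 : ∀ q : QuaternionGroup 2, q ^ 4 = 1 := by decide
    obtain ⟨e⟩ := e
    have := congrArg e.symm (h4 (e ⟨a ^ j, hj⟩))
    rw [map_pow, MulEquiv.symm_apply_apply, map_one] at this
    exact congrArg Subtype.val this
  have hNA : Subgroup.zpowers a ⊓ N = Subgroup.zpowers u := by
    refine le_antisymm ?_ (Subgroup.zpowers_le.2 ⟨zpow_mem (Subgroup.mem_zpowers a) _, ?_⟩)
    · rintro g ⟨hgA, hgN⟩
      obtain ⟨j, rfl⟩ := Subgroup.mem_zpowers_iff.1 hgA
      have hm1 := (Subgroup.mem_normalizer_iff.1 hgN x).1 hxQ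
      rw [hx, Cfsg.Lib.CyclicMax.conj_a h.2] at hm1
      have hm2 : a ^ (j * (1 - (2 ^ (m - 1) - 1))) ∈ Q := by
        have := mul_mem hm1 (inv_mem hxQ)
        rwa [hx, show a ^ (i + j * (1 - (2 ^ (m - 1) - 1))) * b * (a ^ i * b)⁻¹ = a ^ (i + j * (1 - (2 ^ (m - 1) - 1))) * (a ^ i)⁻¹ by group,
          ← zpow_neg, ← zpow_add, show i + j * (1 - ((2 : ℤ) ^ (m - 1) - 1)) + -i = j * (1 - (2 ^ (m - 1) - 1)) by ring] at this
      obtain ⟨c, hc⟩ := Subgroup.mem_zpowers_iff.1 (hQA _ hm2)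
      rw [hw, ← zpow_mul, Cfsg.Lib.CyclicMax.zpow_eq_iff h.2, h1, h2] at hc
      obtain ⟨d, hd⟩ := hc
      refine ⟨c + 4 * d + 2 * j, ?_⟩
      show (a ^ ((2 : ℤ) ^ (m - 3))) ^ (c + 4 * d + 2 * j) = a ^ j
      rw [← zpow_mul]
      congr 1
      rw [h3] at hd
      linarith
    · refine Subgroup.mem_normalizer_iff_map_conj_eq.2 (Subgroup.eq_of_le_of_card_ge ?_ (Subgroup.card_map_of_injective (MulEquiv.injective _)).ge)
      rw [hQ, MonoidHom.map_closure, Set.image_pair, Subgroup.closure_le]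
      rintro _ (rfl | rfl)
      · show u * w * u⁻¹ ∈ Q
        rw [show u * w * u⁻¹ = w by rw [hu, hw, ← zpow_neg, ← zpow_add, ← zpow_add]; congr 1; ring]
        exact hwQ
      · show u * x * u⁻¹ ∈ Q
        rw [hu, hx, Cfsg.Lib.CyclicMax.conj_a h.2, show a ^ (i + (2 : ℤ) ^ (m - 3) * (1 - (2 ^ (m - 1) - 1))) * b = w ^ (1 - 2 * (2 : ℤ) ^ (m - 3)) * x by
          rw [hw, hx, ← zpow_mul, ← mul_assoc, ← zpow_add]; congr 2; rw [h2, h3]; ring]
        exact mul_mem (zpow_mem hwQ _) hxQ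
  have hrel : (Subgroup.zpowers a).relIndex N = 2 := by
    have h5 : (Subgroup.zpowers a).relIndex N ∣ 2 := Cfsg.Lib.CyclicMax.index_zpowers h.2 ▸ Subgroup.relIndex_dvd_index_of_normal _ _
    refine ((Nat.dvd_prime Nat.prime_two).1 h5).resolve_left fun e' => hxA ?_
    exact (Subgroup.relIndex_eq_one.1 e') (Subgroup.le_normalizer hxQ)
  have hNc : Nat.card N = 16 := by
    have h5 := Subgroup.relIndex_mul_relIndex ⊥ (Subgroup.zpowers a ⊓ N) N bot_le inf_le_right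
    rw [Subgroup.relIndex_bot_left, Subgroup.relIndex_bot_left, hNA, Nat.card_zpowers, hu8, ← hNA, Subgroup.inf_relIndex_right, hrel] at h5
    omega
  obtain ⟨e⟩ := e
  have h5 := Subgroup.relIndex_mul_relIndex ⊥ Q N bot_le Subgroup.le_normalizer
  rw [Subgroup.relIndex_bot_left, Subgroup.relIndex_bot_left, hNc, Nat.card_congr e.toEquiv, Nat.card_eq_fintype_card, QuaternionGroup.card] at h5
  omega

end Cfsg.Agent.S1191
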