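import Cfsg.Statements.S1203
import Cfsg.Agent.TwoFusion.AutomizerIndex
import Cfsg.Agent.S1190
import Cfsg.Agent.S1191


set_option autoImplicit false
open Cfsg

namespace Cfsg.Agent.S1203

/-- Let G be a finite group with quasi-dihedral Sylow 2-subgroup S, T a Klein four-subgroup of S and Q a quaternion subgroup of order 8 of S. Then |N_G(T) : C_G(T)| ∈ {2, 6} and |N_G(Q) : Q C_G(Q)| ∈ {2, 6}. -/
theorem result {G : Type*} [Group G] [Finite G] (S : Sylow 2 G) (hS : Cfsg.IsQuasiDihedral (S : Subgroup G)) (T : Subgroup G) (hT : IsKleinFour T) (hTS : T ≤ S) (Q : Subgroup G) (hQS : Q ≤ S) (eQ : Q ≃* QuaternionGroup 2) : ((Subgroup.centralizer (T : Set G)).relIndex (Subgroup.normalizer (T : Set G)) = 2 ∨ (Subgroup.centralizer (T : Set G)).relIndex (Subgroup.normalizer (T : Set G)) = 6) ∧ ((Q ⊔ Subgroup.centralizer (Q : Set G)).relIndex (Subgroup.normalizer (Q : Set G)) = 2 ∨ (Q ⊔ Subgroup.centralizer (Q : Set G)).relIndex (Subgroup.normalizer (Q : Set G)) = 6) := by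
  open Cfsg.Lib.Automizer in
  haveI : Fact (Nat.Prime 2) := ⟨Nat.prime_two⟩
  have hTsub : IsKleinFour (T.subgroupOf S) := by
    have e := Subgroup.subgroupOfEquivOfLe hTS
    exact ⟨(Nat.card_congr e.toEquiv).trans hT.card_four, (Monoid.exponent_eq_of_mulEquiv e).trans hT.exponent_two⟩
  obtain ⟨hTc, hTn⟩ := (Cfsg.Agent.S1190.result hS).2 _ hTsub
  obtain ⟨hQc, hQn⟩ := (Cfsg.Agent.S1191.result hS).2 (Q.subgroupOf S) ⟨(Subgroup.subgroupOfEquivOfLe hQS).trans eQ⟩
  have hTeq : T ⊔ Subgroup.centralizer (T : Set G) = Subgroup.centralizer (T : Set G) :=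
    sup_eq_right.mpr fun x hx y hy => by
      have := hT.exponent_two
      exact congrArg Subtype.val ((mul_comm_of_exponent_two this (⟨y, hy⟩ : T) ⟨x, hx⟩))
  have h1 := two_dvd_relIndex (S : Subgroup G) S.isPGroup' T hTS hTc.le (by rw [hTn]; norm_num)
  rw [hTeq] at h1
  refine ⟨eq_two_or_six ?_ h1, eq_two_or_six ?_ (two_dvd_relIndex (S : Subgroup G) S.isPGroup' Q hQS
    (hQc ▸ Subgroup.map_subtype_le _) (by rw [hQn]; norm_num))⟩
  · refine (relIndex_centralizer_dvd_mulAut T).trans ?_
    have hf : (frattini T).index = 2 ^ 2 := by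
      have hTp : IsPGroup 2 T := IsPGroup.of_card (n := 2) hT.card_four
      obtain ⟨j, hj⟩ := hTp.index (frattini T)
      have hle : j ≤ 2 := by
        have h := (frattini T).index_dvd_card
        rw [hj, hT.card_four, show (4 : ℕ) = 2 ^ 2 from rfl] at h
        exact (Nat.pow_dvd_pow_iff_le_right one_lt_two).mp h
      rcases Nat.lt_or_ge j 2 with hlt | hge
      · exfalso
        haveI : IsCyclic (T ⧸ frattini T) := by
          rcases j with _ | _ | j
          · haveI : Subsingleton (T ⧸ frattini T) :=
              (Nat.card_eq_one_iff_unique.mp ((Subgroup.index_eq_card _).symm.trans hj)).1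
            exact isCyclic_of_subsingleton
          · exact isCyclic_of_prime_card (p := 2) ((Subgroup.index_eq_card _).symm.trans hj)
          · omega
        exact hT.not_isCyclic (Cfsg.Lib.PGroups.isCyclic_of_isCyclic_quotient_frattini)
      · rw [hj, le_antisymm hle hge]
    have h := Cfsg.Lib.PGroups.card_aut_dvd (p := 2) (n := 2) (P := T) (by rw [hT.card_four]; norm_num) hf
    simpa [Finset.prod_range_succ] using h
  · have hQp : Nat.card Q = 2 ^ 3 := by
      rw [Nat.card_congr eQ.toEquiv, Nat.card_eq_fintype_card, QuaternionGroup.card]; rfl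
    have hC4 : (Subgroup.centralizer (Q : Set G)).relIndex Q = 4 := by
      have hc : Nat.card (Subgroup.center Q) = 2 := by
        rw [Nat.card_congr (Subgroup.centerCongr eQ).toEquiv, Nat.card_eq_fintype_card]
        decide
      have he : (Subgroup.centralizer (Q : Set G)).subgroupOf Q = Subgroup.center Q := by
        ext x
        rw [Subgroup.mem_subgroupOf, Subgroup.mem_centralizer_iff, Subgroup.mem_center_iff]
        exact ⟨fun h y => Subtype.ext (h y y.2), fun h y hy => congrArg Subtype.val (h ⟨y, hy⟩)⟩
      rw [Subgroup.relIndex, he]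
      have h := (Subgroup.center Q).card_mul_index
      rw [hc, hQp] at h
      omega
    have hmul := Subgroup.relIndex_mul_relIndex (Subgroup.centralizer (Q : Set G)) (Q ⊔ Subgroup.centralizer (Q : Set G))
      (Subgroup.normalizer (Q : Set G)) le_sup_right (sup_le Subgroup.le_normalizer (Subgroup.centralizer_le_normalizer _))
    have hsup : (Subgroup.centralizer (Q : Set G)).relIndex (Q ⊔ Subgroup.centralizer (Q : Set G)) = 4 := by
      have hQN : Q ≤ Subgroup.normalizer (Q : Set G) := Subgroup.le_normalizer
      have hCN := Subgroup.centralizer_le_normalizer (Q : Set G)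
      haveI : ((Subgroup.centralizer (Q : Set G)).subgroupOf (Subgroup.normalizer (Q : Set G))).Normal := by
        rw [← Subgroup.normalizerMonoidHom_ker]
        infer_instance
      rw [← hC4, ← Subgroup.relIndex_subgroupOf (H := Subgroup.centralizer (Q : Set G)) (sup_le hQN hCN),
        ← Subgroup.relIndex_subgroupOf (H := Subgroup.centralizer (Q : Set G)) hQN,
        Subgroup.subgroupOf_sup hQN hCN, Subgroup.relIndex_sup_right]
    rw [hsup] at hmul
    have hfQ : (frattini Q).index = 2 ^ 2 := by
      have hp2 : IsPGroup 2 Q := IsPGroup.of_card hQp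
      obtain ⟨j, hj⟩ := hp2.index (frattini Q)
      have hle : frattini Q ≥ Subgroup.center Q := by
        intro z hz
        obtain ⟨i, hi⟩ : ∃ i : Q, i * i = z := by
          have hall : ∀ w : QuaternionGroup 2, (∀ y, y * w = w * y) → ∃ i, i * i = w := by decide
          obtain ⟨i, hi⟩ := hall (eQ z) fun y => by
            obtain ⟨y', rfl⟩ := eQ.surjective y
            rw [← map_mul, ← map_mul, Subgroup.mem_center_iff.mp hz y']
          exact ⟨eQ.symm i, by rw [← map_mul, hi, MulEquiv.symm_apply_apply]⟩
        rw [← hi, ← pow_two]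
        exact Cfsg.Lib.PGroups.pow_mem_frattini hp2 i
      have h4 : (frattini Q).index ∣ 4 := by
        have h := (Subgroup.center Q).card_mul_index
        have hc : Nat.card (Subgroup.center Q) = 2 := by
          rw [Nat.card_congr (Subgroup.centerCongr eQ).toEquiv, Nat.card_eq_fintype_card]
          decide
        rw [hc, hQp] at h
        have := Subgroup.index_dvd_of_le hle
        rwa [show (Subgroup.center Q).index = 4 by omega] at this
      rcases Nat.lt_or_ge j 2 with hlt | hge
      · exfalso
        haveI : IsCyclic (Q ⧸ frattini Q) := by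
          rcases j with _ | _ | j
          · haveI : Subsingleton (Q ⧸ frattini Q) :=
              (Nat.card_eq_one_iff_unique.mp ((Subgroup.index_eq_card _).symm.trans hj)).1
            exact isCyclic_of_subsingleton
          · exact isCyclic_of_prime_card (p := 2) ((Subgroup.index_eq_card _).symm.trans hj)
          · omega
        haveI : IsCyclic Q := Cfsg.Lib.PGroups.isCyclic_of_isCyclic_quotient_frattini
        have hcom : ∀ x y : Q, x * y = y * x := mul_comm'
        have hnc : ¬ ∀ x y : QuaternionGroup 2, x * y = y * x := by decide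
        exact hnc fun x y => eQ.symm.injective (by rw [map_mul, map_mul, hcom])
      · rw [hj] at h4 ⊢
        have := (Nat.pow_dvd_pow_iff_le_right one_lt_two).mp (show 2 ^ j ∣ 2 ^ 2 from h4)
        rw [le_antisymm this hge]
    have h := (hmul ▸ relIndex_centralizer_dvd_mulAut Q).trans (Cfsg.Lib.PGroups.card_aut_dvd (p := 2) hQp hfQ)
    exact Nat.dvd_of_mul_dvd_mul_left (by norm_num : 0 < 4) (by simpa [Finset.prod_range_succ] using h)


end Cfsg.Agent.S1203
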