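import Cfsg.Statements.S0905
import Cfsg.Agent.Components.Cores
import Mathlib
-- import your own Cfsg.Agent.* helpers here

set_option autoImplicit false
open Cfsg

namespace Cfsg.Agent.S0905

set_option linter.unusedSectionVars false

open Cfsg.Lib.Components

lemma exists_fixed_vector {P : Type*} [Group P] [Finite P] {p : ℕ} [Fact p.Prime] (hP : IsPGroup p P)
    {V : Type*} [AddCommGroup V] [DistribMulAction P V] (hV : ∀ v : V, p • v = 0) (R : AddSubgroup V)
    (hR : ∀ (u : P), ∀ v ∈ R, u • v ∈ R) {v : V} (hv : v ∈ R) (hv0 : v ≠ 0) :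
    ∃ w ∈ R, w ≠ 0 ∧ ∀ u : P, u • w = w := by
  classical
  set S := AddSubgroup.closure (Set.range fun u : P => u • v) with hSdef
  have hvS : v ∈ S := AddSubgroup.subset_closure ⟨1, one_smul P v⟩
  have hSR : S ≤ R := (AddSubgroup.closure_le _).2 (Set.range_subset_iff.2 fun u => hR u v hv)
  haveI : AddGroup.FG S := (AddGroup.fg_iff_addSubgroup_fg S).2
    (AddSubgroup.fg_iff _ |>.2 ⟨_, rfl, Set.finite_range _⟩)
  haveI : Finite S := AddCommGroup.finite_of_fg_isAddTorsion S fun x =>
    isOfFinAddOrder_iff_nsmul_eq_zero.2 ⟨p, (Fact.out : p.Prime).pos, Subtype.ext (hV x)⟩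
  have hcl : ∀ (u : P), ∀ y ∈ S, u • y ∈ S := fun u y hy => by
    have h1 : S ≤ S.comap (DistribSMul.toAddMonoidHom V u) := (AddSubgroup.closure_le _).2
      (Set.range_subset_iff.2 fun u' => AddSubgroup.subset_closure ⟨u * u', mul_smul u u' v⟩)
    exact h1 hy
  letI : MulAction P S :=
    { smul := fun u y => ⟨u • (y : V), hcl u _ y.2⟩
      one_smul := fun y => Subtype.ext (one_smul P (y : V))
      mul_smul := fun a b y => Subtype.ext (mul_smul a b (y : V)) }
  have hdvd : p ∣ Nat.card S := by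
    have h1 : addOrderOf v = p := addOrderOf_eq_prime (hV v) hv0
    rw [← h1, ← AddSubgroup.addOrderOf_mk v hvS]
    exact addOrderOf_dvd_natCard _
  obtain ⟨w, hw, hw0⟩ := hP.exists_fixed_point_of_prime_dvd_card_of_fixed_point S hdvd (a := 0)
    (fun u => Subtype.ext (smul_zero u))
  exact ⟨w, hSR w.2, fun h => hw0 (Subtype.ext h.symm), fun u => congrArg Subtype.val (hw u)⟩

/-- Let F be a field of characteristic p and let g be an element of the finite group G no conjugate of which centralizes O_p(G). Then the class sum of g is a nilpotent element of the group algebra F[G]. -/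
theorem result {G : Type*} [Group G] [Finite G] (p : ℕ) [Fact p.Prime] (F : Type*) [Field F] [CharP F p] (g : G) (hg : ∀ x : G, IsConj g x → x ∉ Subgroup.centralizer (Cfsg.pCore p G : Set G)) : IsNilpotent (∑ᶠ x ∈ ConjClasses.carrier (ConjClasses.mk g), MonoidAlgebra.single x (1 : F) : MonoidAlgebra F G) := by
  classical
  haveI := Fintype.ofFinite G
  set K : Finset G := Finset.univ.filter fun x => IsConj g x with hK
  rw [show (∑ᶠ x ∈ ConjClasses.carrier (ConjClasses.mk g), MonoidAlgebra.single x (1 : F)) =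
      ∑ x ∈ K, MonoidAlgebra.single x (1 : F) from
    (finsum_mem_eq_sum_of_inter_support_eq _ (by
      ext x
      simp only [hK, Set.mem_inter_iff, Finset.coe_filter, Finset.mem_univ, true_and, Set.mem_setOf_eq, ConjClasses.mem_carrier_iff_mk_eq, ConjClasses.mk_eq_mk_iff_isConj]
      exact ⟨fun h => ⟨h.1.symm, h.2⟩, fun h => ⟨h.1.symm, h.2⟩⟩))]
  set s : MonoidAlgebra F G := ∑ x ∈ K, MonoidAlgebra.single x (1 : F) with hs
  set L : MonoidAlgebra F G →ₗ[F] MonoidAlgebra F G := LinearMap.mulLeft F s with hL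
  obtain ⟨n, hn⟩ := (L.eventually_isCompl_ker_pow_range_pow).exists_forall_of_atTop
  have hc : IsCompl (LinearMap.ker (L ^ (n + 1))) (LinearMap.range (L ^ (n + 1))) := hn _ (Nat.le_succ n)
  have hcomm : ∀ (u : G) (v : MonoidAlgebra F G), L (MonoidAlgebra.single u 1 * v) = MonoidAlgebra.single u 1 * L v := by
    intro u v
    show s * (_ * v) = _ * (s * v)
    rw [← mul_assoc, ← mul_assoc]
    congr 1
    rw [hs, Finset.sum_mul, Finset.mul_sum]
    refine Finset.sum_equiv (MulAut.conj u⁻¹).toEquiv (fun x => ?_) fun x _ => ?_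
    · simp only [hK, Finset.mem_filter, Finset.mem_univ, true_and]
      show IsConj g x ↔ IsConj g (u⁻¹ * x * u⁻¹⁻¹)
      exact ⟨fun h => h.trans (isConj_iff.2 ⟨u⁻¹, rfl⟩), fun h => h.trans (isConj_iff.2 ⟨u, by group⟩)⟩
    · simp [MulEquiv.toEquiv_eq_coe, mul_assoc]
  set P := pCore p G
  have hP : IsPGroup p P := isPGroup_pCore p
  let φ : P →* MonoidAlgebra F G := (MonoidAlgebra.of F G).comp P.subtype
  letI : DistribMulAction P (MonoidAlgebra F G) := DistribMulAction.compHom (MonoidAlgebra F G) φ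
  have hsmul : ∀ (u : P) (v : MonoidAlgebra F G), u • v = MonoidAlgebra.single (u : G) 1 * v := fun u v => rfl
  by_contra hnil
  have hR : (LinearMap.range (L ^ (n + 1))) ≠ ⊥ := fun h => hnil ⟨n + 1, by
    have h1 : (L ^ (n + 1)) 1 = 0 := by
      have := LinearMap.mem_range_self (L ^ (n + 1)) (1 : MonoidAlgebra F G)
      rwa [h, Submodule.mem_bot] at this
    rwa [hL, LinearMap.pow_mulLeft, LinearMap.mulLeft_apply, mul_one] at h1⟩
  obtain ⟨v, hv, hv0⟩ := (Submodule.ne_bot_iff _).1 hR
  have hVp : ∀ v : MonoidAlgebra F G, p • v = 0 := fun v => by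
    rw [← Nat.cast_smul_eq_nsmul F, CharP.cast_eq_zero, zero_smul]
  have hstab : ∀ (u : P), ∀ v ∈ (LinearMap.range (L ^ (n + 1))).toAddSubgroup,
      u • v ∈ (LinearMap.range (L ^ (n + 1))).toAddSubgroup := by
    rintro u _ ⟨y, rfl⟩
    refine ⟨MonoidAlgebra.single (u : G) 1 * y, ?_⟩
    rw [hsmul]
    generalize n + 1 = m
    induction m with
    | zero => rfl
    | succ m ih => rw [pow_succ', Module.End.mul_apply, Module.End.mul_apply, ih, hcomm]
  obtain ⟨w, hw, hw0, hwfix⟩ := exists_fixed_vector hP hVp _ hstab hv hv0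
  refine hw0 (Submodule.disjoint_def.1 hc.disjoint w ?_ hw)
  have hLw : L w = 0 := by
    show s * w = 0
    rw [hs, Finset.sum_mul, ← Finset.sum_fiberwise_of_maps_to
      (g := fun x => MonoidAlgebra.single x (1 : F) * w) (fun x hx => Finset.mem_image_of_mem _ hx)]
    refine Finset.sum_eq_zero fun c _ => ?_
    rw [Finset.sum_congr rfl fun x hx => (Finset.mem_filter.1 hx).2, Finset.sum_const]
    set T := K.filter fun x => MonoidAlgebra.single x (1 : F) * w = c
    have hT : ∀ (u : P), ∀ x ∈ T, (u : G) * x * (u : G)⁻¹ ∈ T := by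
      intro u x hx
      simp only [T, hK, Finset.mem_filter, Finset.mem_univ, true_and] at hx ⊢
      refine ⟨hx.1.trans (isConj_iff.2 ⟨u, rfl⟩), ?_⟩
      have hfix : ∀ z ∈ P, MonoidAlgebra.single z (1 : F) * w = w := fun z hz =>
        (hsmul ⟨z, hz⟩ w).symm.trans (hwfix ⟨z, hz⟩)
      have hz : x⁻¹ * (u : G) * x⁻¹⁻¹ ∈ P := (inferInstance : P.Normal).conj_mem _ u.2 x⁻¹
      calc MonoidAlgebra.single ((u : G) * x * (u : G)⁻¹) (1 : F) * w
          = MonoidAlgebra.single x 1 * (MonoidAlgebra.single (x⁻¹ * (u : G) * x⁻¹⁻¹) 1 *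
              (MonoidAlgebra.single ((u : G)⁻¹) 1 * w)) := by
            rw [← mul_assoc, ← mul_assoc, MonoidAlgebra.single_mul_single, MonoidAlgebra.single_mul_single,
              mul_one, mul_one]
            group
        _ = c := by rw [hfix _ (inv_mem u.2), hfix _ hz, hx.2]
    letI : MulAction P T :=
      { smul := fun u x => ⟨(u : G) * x * (u : G)⁻¹, hT u x x.2⟩
        one_smul := fun x => Subtype.ext (by show ((1 : P) : G) * x * ((1 : P) : G)⁻¹ = x; simp)
        mul_smul := fun a b x => Subtype.ext (by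
          show ((a * b : P) : G) * x * ((a * b : P) : G)⁻¹ = a * (b * x * (b : G)⁻¹) * (a : G)⁻¹
          simp [mul_assoc]) }
    have hfp : IsEmpty (MulAction.fixedPoints P T) := ⟨fun ⟨x, hx⟩ => by
      refine hg x ?_ (Subgroup.mem_centralizer_iff.2 fun u hu =>
        mul_inv_eq_iff_eq_mul.1 (congrArg Subtype.val (hx ⟨u, hu⟩)))
      exact (Finset.mem_filter.1 (Finset.mem_filter.1 x.2).1).2⟩
    have hmod := hP.card_modEq_card_fixedPoints T
    rw [Nat.card_of_isEmpty (α := MulAction.fixedPoints P T), Nat.card_eq_fintype_card,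
      Fintype.card_coe, Nat.modEq_zero_iff_dvd] at hmod
    obtain ⟨k, hk⟩ := hmod
    rw [hk, mul_comm, mul_nsmul, hVp]
  rw [LinearMap.mem_ker, pow_succ, Module.End.mul_apply, hLw, map_zero]

end Cfsg.Agent.S0905
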