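import Cfsg.Statements.S0992
import Mathlib
import Cfsg.Agent.Small.Toolkit
import Cfsg.Agent.Coprime.Basic

set_option autoImplicit false
open Cfsg

namespace Cfsg.Agent.S0992

/-- Let G be a non-abelian finite simple group of even order not divisible by 8, and T a Sylow 2-subgroup. Then T is a Klein four-group and the centralizer of T has index 3 in the normalizer of T. -/
theorem result {G : Type*} [Group G] [Finite G] [IsSimpleGroup G] (hG : ¬ IsMulCommutative G) (h2 : Even (Nat.card G)) (h8 : ¬ 8 ∣ Nat.card G) (T : Sylow 2 G) : IsKleinFour ↥(T : Subgroup G) ∧ (Subgroup.centralizer ((T : Subgroup G) : Set G)).relIndex (Subgroup.normalizer ((T : Subgroup G) : Set G)) = 3 := by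
  classical
  haveI := Fact.mk Nat.prime_two
  have hnc : ¬ ∀ a b : G, a * b = b * a := fun h => hG ⟨⟨h⟩⟩
  have h2d : 2 ∣ Nat.card G := even_iff_two_dvd.mp h2
  obtain ⟨k, hk⟩ := IsPGroup.iff_card.mp T.2
  have hk2 : k ≤ 2 := by
    by_contra hk3
    refine h8 ((pow_dvd_pow 2 (show 3 ≤ k by omega)).trans (hk ▸ Subgroup.card_subgroup_dvd_card _))
  have hk1 : 1 ≤ k := by
    by_contra hk0
    have := T.dvd_card_of_dvd_card h2d
    rw [hk, show k = 0 by omega, pow_zero] at this
    omega
  have hnle := Cfsg.Lib.Small.not_normalizer_le_centralizer hnc h2d T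
  have hncyc : ¬ IsCyclic (T : Subgroup G) := fun hc =>
    hnle (hc.normalizer_le_centralizer ((Nat.minFac_eq_two_iff _).mpr h2d))
  have hk' : k = 2 := by
    by_contra hne
    exact hncyc (isCyclic_of_prime_card (p := 2) (by rw [hk, show k = 1 by omega, pow_one]))
  subst hk'
  have hsq : ∀ x : (T : Subgroup G), x * x = 1 := fun x => by
    obtain ⟨j, -, hj⟩ := (Nat.dvd_prime_pow Nat.prime_two).mp (hk ▸ orderOf_dvd_natCard x)
    rcases lt_or_ge j 2 with hj2 | hj2
    · rw [← pow_two, ← orderOf_dvd_iff_pow_eq_one, hj]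
      exact (pow_dvd_pow 2 (show j ≤ 1 by omega)).trans (dvd_of_eq (pow_one 2))
    · exfalso
      apply hncyc
      refine isCyclic_of_orderOf_eq_card x (Nat.dvd_antisymm (orderOf_dvd_natCard x) ?_)
      rw [hk, hj]; exact pow_dvd_pow 2 hj2
  haveI hT : IsKleinFour (T : Subgroup G) := ⟨by rw [hk]; norm_num, by
    refine Nat.dvd_antisymm (Monoid.exponent_dvd_of_forall_pow_eq_one fun x => by rw [pow_two]; exact hsq x) ?_
    obtain ⟨x, hx⟩ := exists_prime_orderOf_dvd_card' (G := (T : Subgroup G)) 2 (by rw [hk]; norm_num)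
    exact (dvd_of_eq hx.symm).trans (Monoid.order_dvd_exponent x)⟩
  refine ⟨hT, ?_⟩
  set N := Subgroup.normalizer ((T : Subgroup G) : Set G) with hN
  set C := Subgroup.centralizer ((T : Subgroup G) : Set G) with hC
  set f := (T : Subgroup G).normalizerMonoidHom with hf
  have hrel : C.relIndex N = Nat.card f.range := by
    rw [← Subgroup.index_ker, hf, Subgroup.normalizerMonoidHom_ker]; rfl
  have hTC : (T : Subgroup G) ≤ C := fun x hx => Subgroup.mem_centralizer_iff.mpr fun y hy =>
    congrArg Subtype.val (mul_comm_of_exponent_two hT.exponent_two (⟨y, hy⟩ : (T : Subgroup G)) ⟨x, hx⟩)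
  have hodd : ¬ 2 ∣ C.relIndex N := fun hd => T.not_dvd_index
    (hd.trans ((Subgroup.relIndex_dvd_of_le_left _ hTC).trans (Subgroup.relIndex_dvd_index_of_le Subgroup.le_normalizer)))
  -- automorphisms permute the three involutions
  have hdvd : Nat.card f.range ∣ 6 := by
    refine (Subgroup.card_subgroup_dvd_card f.range).trans ?_
    haveI := Fintype.ofFinite {x : (T : Subgroup G) // x ≠ 1}
    have h3 : Nat.card {x : (T : Subgroup G) // x ≠ 1} = 3 := by
      haveI := Fintype.ofFinite (T : Subgroup G)
      rw [Nat.card_eq_fintype_card, Fintype.card_subtype_compl, Fintype.card_subtype_eq,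
        ← Nat.card_eq_fintype_card, hk]
      norm_num
    let g : MulAut (T : Subgroup G) →* Equiv.Perm {x : (T : Subgroup G) // x ≠ 1} :=
      { toFun := fun a => a.toEquiv.subtypeEquiv fun x => (a.map_ne_one_iff).symm
        map_one' := Equiv.ext fun x => rfl
        map_mul' := fun a b => Equiv.ext fun x => rfl }
    have hg : Function.Injective g := fun a b hab => MulEquiv.ext fun x => by
      by_cases hx : x = 1
      · rw [hx, map_one, map_one]
      · exact congrArg Subtype.val (Equiv.ext_iff.mp hab ⟨x, hx⟩)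
    have := Subgroup.card_dvd_of_injective g hg
    rwa [Nat.card_perm, h3] at this
  have hne1 : Nat.card f.range ≠ 1 := fun h1 => hnle (Subgroup.relIndex_eq_one.mp (hrel.trans h1))
  rw [hrel] at hodd ⊢
  have := Nat.le_of_dvd (by norm_num) hdvd
  generalize Nat.card f.range = m at hdvd hodd hne1 this ⊢
  interval_cases m <;> omega

end Cfsg.Agent.S0992
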