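import Cfsg.Statements.S4571
import Mathlib
import Cfsg.Agent.Blocks.NormalDefectHeight
-- import your own Cfsg.Agent.* helpers here

set_option autoImplicit false
open Cfsg

namespace Cfsg.Agent.S4571

set_option linter.unusedSectionVars false

open Cfsg.Lib.Chars Cfsg.Lib.Blocks

/-- Let Q be a normal p-subgroup of the finite group G with G = Q·C_G(Q), and M a maximal ideal of the algebraic integers containing p. Then the principal p-blocks of G and of G/Q have the same p-regular rank (the same number of irreducible Brauer characters). -/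
theorem result {G : Type*} [Group G] [Finite G] (p : ℕ) [Fact p.Prime] (M : Ideal Cfsg.AlgInt) (hM : Cfsg.IsPModular p M) (Q : Subgroup G) [Q.Normal] (hQ : IsPGroup p Q) (hsup : Q ⊔ Subgroup.centralizer (Q : Set G) = ⊤) : Cfsg.blockRank p (Cfsg.principalBlock M G) = Cfsg.blockRank p (Cfsg.principalBlock M (G ⧸ Q)) := by
  classical
  haveI := Fintype.ofFinite G
  haveI : Fintype (G ⧸ Q) := Fintype.ofFinite _
  have hreg : ∀ z : G, ¬ p ∣ orderOf z → z ∈ Subgroup.centralizer (Q : Set G) := fun z hz =>
    regular_mem_centralizer hQ hsup hz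
  let R : ((G ⧸ Q) → ℂ) →ₗ[ℂ] (G → ℂ) :=
    { toFun := fun h x => if p ∣ orderOf x then 0 else h (x : G ⧸ Q)
      map_add' := fun a b => funext fun x => by
        simp only [Pi.add_apply]
        split_ifs
        · rw [add_zero]
        · rfl
      map_smul' := fun r a => funext fun x => by
        simp only [Pi.smul_apply, smul_eq_mul, RingHom.id_apply]
        split_ifs
        · rw [mul_zero]
        · rfl }
  set one : Cfsg.IrrCharacter (G ⧸ Q) := principal (G ⧸ Q)
  set B := Cfsg.principalBlock M G with hB
  set B' := Cfsg.principalBlock M (G ⧸ Q) with hB'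
  have hmem : ∀ φ : Cfsg.IrrCharacter (G ⧸ Q), φ ∈ B' ↔ inflate Q φ ∈ B := fun φ => by
    refine ⟨fun h => sameBlock_inflate hM (φ := one) h, fun h => ?_⟩
    exact sameBlock_of_inflate hM hQ hreg (φ := one) h
  have hR : ∀ φ : Cfsg.IrrCharacter (G ⧸ Q),
      R (Cfsg.pRegularPart p (φ : G ⧸ Q → ℂ)) = Cfsg.pRegularPart p (inflate Q φ : G → ℂ) := by
    intro φ
    funext x
    show (if p ∣ orderOf x then 0 else Cfsg.pRegularPart p (φ : G ⧸ Q → ℂ) (x : G ⧸ Q)) = _
    rw [pRegularPart_apply p (inflate Q φ : G → ℂ) x]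
    split_ifs with hx
    · rfl
    · rw [pRegularPart_apply, if_neg (regular_of_quotient hM hx), inflate_val]
  set S' := Submodule.span ℂ
    ((fun φ : Cfsg.IrrCharacter (G ⧸ Q) => Cfsg.pRegularPart p (φ : G ⧸ Q → ℂ)) '' B')
  have hspan : S'.map R = Submodule.span ℂ
      ((fun χ : Cfsg.IrrCharacter G => Cfsg.pRegularPart p (χ : G → ℂ)) '' B) := by
    rw [Submodule.map_span]
    refine le_antisymm (Submodule.span_le.2 ?_) (Submodule.span_le.2 ?_)
    · rintro _ ⟨_, ⟨φ, hφ, rfl⟩, rfl⟩
      exact Submodule.subset_span ⟨inflate Q φ, (hmem φ).1 hφ, (hR φ).symm⟩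
    · rintro _ ⟨χ, hχ, rfl⟩
      let h : G ⧸ Q → ℂ := fun q => ∑ x ∈ Finset.univ.filter (fun x : G => (x : G ⧸ Q) = q),
        Cfsg.pRegularPart p (χ : G → ℂ) x
      have hval : ∀ z : G, ¬ p ∣ orderOf z → h (z : G ⧸ Q) = (χ : G → ℂ) z := fun z hz => by
        show ∑ x ∈ _, _ = _
        rw [Finset.sum_eq_single z]
        · rw [pRegularPart_apply, if_neg hz]
        · intro x hx hne
          rw [pRegularPart_apply, if_pos]
          by_contra hx'
          exact hne (regular_unique' hQ hreg hx' hz (Finset.mem_filter.1 hx).2)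
        · intro h'
          exact (h' (Finset.mem_filter.2 ⟨Finset.mem_univ _, rfl⟩)).elim
      have hcls : Cfsg.IsClassFunction (G ⧸ Q) h := by
        intro q r
        obtain ⟨a, rfl⟩ := QuotientGroup.mk_surjective r
        refine Finset.sum_equiv (MulAut.conj a⁻¹).toEquiv (fun x => ?_) (fun x _ => ?_)
        · simp only [Finset.mem_filter, Finset.mem_univ, true_and, MulEquiv.toEquiv_eq_coe,
            MulEquiv.coe_toEquiv, MulAut.conj_apply, inv_inv, QuotientGroup.mk_mul, QuotientGroup.mk_inv]
          constructor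
          · intro e; rw [e]; group
          · intro e; rw [← e]; group
        · simp only [MulEquiv.toEquiv_eq_coe, MulEquiv.coe_toEquiv, MulAut.conj_apply]
          rw [pRegularPart_apply, pRegularPart_apply, isClassFunction_irr χ x a⁻¹,
            show orderOf (a⁻¹ * x * a⁻¹⁻¹) = orderOf x from
              orderOf_injective (MulAut.conj a⁻¹).toMonoidHom (MulAut.conj a⁻¹).injective x]
      have hzero : ∀ φ : Cfsg.IrrCharacter (G ⧸ Q), φ ∉ B' →
          Cfsg.classInner h (φ : G ⧸ Q → ℂ) = 0 := by
        intro φ hne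
        have h1 : ∑ q, h q * starRingEnd ℂ ((φ : G ⧸ Q → ℂ) q) = ∑ x : G,
            Cfsg.pRegularPart p (χ : G → ℂ) x * starRingEnd ℂ ((inflate Q φ : G → ℂ) x) := by
          rw [← Finset.sum_fiberwise Finset.univ (fun x : G => (x : G ⧸ Q))
            fun x => Cfsg.pRegularPart p (χ : G → ℂ) x * starRingEnd ℂ ((inflate Q φ : G → ℂ) x)]
          refine Finset.sum_congr rfl fun q _ => ?_
          rw [Finset.sum_mul]
          exact Finset.sum_congr rfl fun x hx => by rw [inflate_val, (Finset.mem_filter.1 hx).2]
        have h2 := classInner_pRegularPart_eq_zero hM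
          (show Cfsg.IsPBlock M B from isPBlock_blockOf (principal G)) hχ (ψ := inflate Q φ)
          (fun hm => hne ((hmem φ).2 hm))
        rw [classInner_def, mul_eq_zero, inv_eq_zero, Nat.cast_eq_zero,
          or_iff_right Nat.card_pos.ne'] at h2
        rw [classInner_def, h1, h2, mul_zero]
      have hRh : R h = Cfsg.pRegularPart p (χ : G → ℂ) := funext fun x => by
        show (if p ∣ orderOf x then 0 else h (x : G ⧸ Q)) = _
        rw [pRegularPart_apply]
        split_ifs with hx
        · rfl
        · exact hval x hx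
      show Cfsg.pRegularPart p (χ : G → ℂ) ∈ Submodule.span ℂ _
      rw [← hRh, ← Submodule.map_span]
      refine ⟨h, ?_, rfl⟩
      have hh : h = ∑ φ : Cfsg.IrrCharacter (G ⧸ Q),
          Cfsg.classInner h (φ : G ⧸ Q → ℂ) • Cfsg.pRegularPart p (φ : G ⧸ Q → ℂ) := by
        funext q
        rw [Finset.sum_apply]
        simp only [Pi.smul_apply, smul_eq_mul, pRegularPart_apply]
        by_cases hq : p ∣ orderOf q
        · simp only [if_pos hq, mul_zero, Finset.sum_const_zero]
          refine Finset.sum_eq_zero fun x hx => ?_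
          rw [pRegularPart_apply, if_pos]
          exact hq.trans ((Finset.mem_filter.1 hx).2 ▸ orderOf_map_dvd (QuotientGroup.mk' Q) x)
        · simp only [if_neg hq]
          exact classFunction_expand_apply hcls q
      rw [hh]
      refine sum_mem fun φ _ => ?_
      by_cases hφ : φ ∈ B'
      · exact Submodule.smul_mem _ _ (Submodule.subset_span ⟨φ, hφ, rfl⟩)
      · rw [hzero φ hφ, zero_smul]; exact zero_mem _
  have hsupp : ∀ v ∈ S', ∀ q : G ⧸ Q, p ∣ orderOf q → v q = 0 := by
    intro v hv
    induction hv using Submodule.span_induction with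
    | mem v hv =>
      obtain ⟨φ, -, rfl⟩ := hv
      exact fun q hq => by simp only [pRegularPart_apply, if_pos hq]
    | zero => exact fun _ _ => rfl
    | add a b _ _ ha hb => exact fun q hq => by rw [Pi.add_apply, ha q hq, hb q hq, add_zero]
    | smul r a _ ha => exact fun q hq => by rw [Pi.smul_apply, ha q hq, smul_zero]
  have hinj : Function.Injective (R.domRestrict S') := by
    intro a b hab
    refine Subtype.ext (funext fun q => ?_)
    by_cases hq : p ∣ orderOf q
    · rw [hsupp a a.2 q hq, hsupp b b.2 q hq]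
    · obtain ⟨y, hy, rfl⟩ := exists_regular_lift (P := Q) hM hq
      have e := congrFun hab y
      simpa [R, LinearMap.domRestrict_apply, if_neg hy] using e
  show Module.finrank ℂ _ = Module.finrank ℂ S'
  rw [← hspan, ← LinearMap.range_domRestrict]
  exact LinearMap.finrank_range_of_inj hinj

end Cfsg.Agent.S4571
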