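import Cfsg.Statements.S2302
import Cfsg.Agent.Known.SLTwo.Unip

set_option autoImplicit false
open Cfsg

namespace Cfsg.Agent.S2302

/-- Over a finite field with q elements of characteristic 2, the involutions of SL₂ (the non-identity unipotent elements) form a single conjugacy class, of size q² − 1. -/
theorem result {F : Type*} [Field F] [Fintype F] [CharP F 2] (g h : Matrix.SpecialLinearGroup (Fin 2) F) (hg : orderOf g = 2) (hh : orderOf h = 2) :
    IsConj g h ∧ Nat.card (ConjClasses.mk g).carrier = Fintype.card F ^ 2 - 1 := by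
  haveI : Fact (Nat.Prime 2) := ⟨Nat.prime_two⟩
  obtain ⟨hgn, hgt⟩ := (Cfsg.Lib.GLTwo.orderOf_eq_char_iff 2 g).1 hg
  obtain ⟨hhn, hht⟩ := (Cfsg.Lib.GLTwo.orderOf_eq_char_iff 2 h).1 hh
  refine ⟨Cfsg.Lib.GLTwo.isConj_SL hgn hhn (hgt.trans hht.symm) (Cfsg.Lib.GLTwo.full_SL g hgn (.inr inferInstance)), ?_⟩
  have hc := Cfsg.Lib.GLTwo.card_carrier_mul g
  rw [Cfsg.Lib.GLTwo.card_centSL hgn, Cfsg.Lib.GLTwo.card_one_double hgt (by ring), Cfsg.Lib.GLTwo.card_sq_one_char_two,
    Cfsg.Lib.Classical.SLTwoTori.card_SL2, one_mul, mul_comm (Fintype.card F)] at hc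
  exact Nat.eq_of_mul_eq_mul_right Fintype.card_pos hc

end Cfsg.Agent.S2302
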