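import Cfsg.Statements.S0717
import Cfsg.Agent.PermGroups.PermModule
import Cfsg.Agent.Chars.Real

set_option autoImplicit false
open Cfsg

namespace Cfsg.Agent.S0717

/-- All suborbits of a transitive group are self-paired (every pair of points is interchanged by some group element) if and only if the permutation character is multiplicity-free and each of its irreducible constituents is real-valued. -/
theorem result {G : Type*} [Group G] [Fintype G] {Ω : Type*} [Fintype Ω] [MulAction G Ω] [MulAction.IsPretransitive G Ω] : (∀ a b : Ω, ∃ g : G, g • a = b ∧ g • b = a) ↔ ∀ χ : G → ℂ, Cfsg.IsIrrCharacter G χ → Cfsg.classInner (fun g : G => (Nat.card (MulAction.fixedBy Ω g) : ℂ)) χ ≠ 0 → Cfsg.classInner (fun g : G => (Nat.card (MulAction.fixedBy Ω g) : ℂ)) χ = 1 ∧ ∀ g : G, (starRingEnd ℂ) (χ g) = χ g := by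
  classical
  let ρ := Cfsg.permRep ℂ G Ω
  have hsym_op : ∀ f : G → ℂ, ∀ a b : Ω, Cfsg.Lib.PermGroups.PermModule.entry (Cfsg.Lib.PermGroups.Constituents.op ρ f) b a =
      Cfsg.Lib.PermGroups.PermModule.entry (Cfsg.Lib.PermGroups.Constituents.op ρ fun g => f g⁻¹) a b := fun f a b => by
    rw [Cfsg.Lib.PermGroups.PermModule.entry_op, Cfsg.Lib.PermGroups.PermModule.entry_op]
    refine Fintype.sum_equiv (Equiv.inv G) _ _ fun g => ?_
    show _ = if g⁻¹ • b = a then f g⁻¹⁻¹ else 0
    rw [inv_inv]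
    exact if_congr (by rw [inv_smul_eq_iff]; exact eq_comm) rfl rfl
  constructor
  · intro hsp
    have hS : ∀ S : (Ω → ℂ) →ₗ[ℂ] (Ω → ℂ), S ∈ (ρ.linHom ρ).invariants → ∀ a b,
        Cfsg.Lib.PermGroups.PermModule.entry S b a = Cfsg.Lib.PermGroups.PermModule.entry S a b := fun S hS a b => by
      obtain ⟨g, h1, h2⟩ := hsp a b
      conv_rhs => rw [← Cfsg.Lib.PermGroups.PermModule.entry_smul ((Cfsg.Lib.PermGroups.Constituents.mem_invariants_iff ρ ρ S).1 hS) g a b, h1, h2]
    have hcomm : ∀ S T : (Ω → ℂ) →ₗ[ℂ] (Ω → ℂ), S ∈ (ρ.linHom ρ).invariants → T ∈ (ρ.linHom ρ).invariants →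
        S ∘ₗ T = T ∘ₗ S := fun S T hS' hT' => by
      refine Cfsg.Lib.PermGroups.PermModule.ext_entry fun b a => ?_
      have hTS : T ∘ₗ S ∈ (ρ.linHom ρ).invariants := (Cfsg.Lib.PermGroups.Constituents.mem_invariants_iff ρ ρ _).2 fun g v => by
        show T (S (ρ g v)) = ρ g (T (S v))
        rw [(Cfsg.Lib.PermGroups.Constituents.mem_invariants_iff ρ ρ S).1 hS', (Cfsg.Lib.PermGroups.Constituents.mem_invariants_iff ρ ρ T).1 hT']
      rw [hS _ hTS a b, Cfsg.Lib.PermGroups.PermModule.entry_comp, Cfsg.Lib.PermGroups.PermModule.entry_comp]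
      refine Finset.sum_congr rfl fun c _ => ?_
      rw [hS S hS' c b, hS T hT' a c, mul_comm]
    have hm := (Cfsg.Lib.PermGroups.Constituents.commute_iff_mult_le_one ρ).1 hcomm
    intro χ hχ hne
    refine ⟨((Cfsg.Lib.PermGroups.PermModule.multFree_iff.2 hm) χ hχ).resolve_left hne, fun g => ?_⟩
    let X : Cfsg.IrrCharacter G := ⟨χ, hχ⟩
    have hm0 : Cfsg.Lib.PermGroups.Constituents.mult ρ X ≠ 0 := fun h0 => hne (by
      have := Cfsg.Lib.PermGroups.PermModule.mult_eq (G := G) (Ω := Ω) X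
      rw [h0, Nat.cast_zero] at this
      exact this)
    have hcl : Cfsg.IsClassFunction G fun g => (starRingEnd ℂ) (χ g) := fun a b =>
      congrArg _ (Cfsg.Lib.Chars.isClassFunction_irr X a b)
    have heq : Cfsg.Lib.PermGroups.Constituents.op ρ (fun g => (starRingEnd ℂ) (χ g)) = Cfsg.Lib.PermGroups.Constituents.op ρ χ := by
      refine Cfsg.Lib.PermGroups.PermModule.ext_entry fun b a => ?_
      rw [hS _ (Cfsg.Lib.PermGroups.Constituents.op_mem ρ hcl) a b, hsym_op _ b a]
      congr 2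
      funext x
      rw [Cfsg.Lib.Chars.IsCharacter.conj_inv (Cfsg.Lib.Chars.isCharacter_of_irr hχ), Complex.conj_conj]
    have hconjirr : Cfsg.IsIrrCharacter G fun g => (starRingEnd ℂ) (χ g) := (Cfsg.Lib.Chars.conjIrr X).2
    let Y : Cfsg.IrrCharacter G := ⟨_, hconjirr⟩
    have h1 := Cfsg.Lib.PermGroups.Constituents.trace_op ρ X g
    have h2 := Cfsg.Lib.PermGroups.Constituents.trace_op ρ Y g
    have h2' := Cfsg.Lib.PermGroups.Constituents.trace_op ρ Y 1
    have h1' := Cfsg.Lib.PermGroups.Constituents.trace_op ρ X 1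
    simp only [X, Y, Complex.conj_conj] at h1 h2 h1' h2'
    rw [heq] at h1 h1'
    have hd : (starRingEnd ℂ) (χ 1) = χ 1 := by
      rw [← Cfsg.Lib.Chars.IsCharacter.conj_inv (Cfsg.Lib.Chars.isCharacter_of_irr hχ), inv_one]
    rw [hd] at h2'
    have hmm := (h2'.symm.trans h1')
    rw [hd] at h2
    rw [h1] at h2
    have h10 : χ 1 ≠ 0 := Cfsg.Lib.Chars.IsIrrCharacter.apply_one_ne_zero hχ
    rw [mul_left_inj' h10] at hmm
    rw [hmm] at h2
    exact (mul_left_cancel₀ (div_ne_zero (mul_ne_zero (by exact_mod_cast Nat.card_pos.ne') (by exact_mod_cast hm0)) h10) h2).symm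
  · intro h a b
    have hm : ∀ χ, Cfsg.Lib.PermGroups.Constituents.mult ρ χ ≤ 1 := fun χ => by
      have e := Cfsg.Lib.PermGroups.PermModule.mult_eq (G := G) (Ω := Ω) χ
      by_contra hlt
      change ¬ Cfsg.Lib.PermGroups.Constituents.mult (Cfsg.permRep ℂ G Ω) χ ≤ 1 at hlt
      have h1 := (h χ χ.2 (fun e0 => by
        have := e.symm.trans e0
        rw [Nat.cast_eq_zero] at this
        omega)).1
      have h2 := e.symm.trans h1
      rw [Nat.cast_eq_one] at h2
      omega
    have hsymm : ∀ S ∈ Submodule.span ℂ (Set.range fun χ : {χ : Cfsg.IrrCharacter G // Cfsg.Lib.PermGroups.Constituents.mult ρ χ ≠ 0} =>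
        Cfsg.Lib.PermGroups.Constituents.op ρ (fun g => (starRingEnd ℂ) ((χ.1 : G → ℂ) g))), ∀ a b : Ω,
        Cfsg.Lib.PermGroups.PermModule.entry S b a = Cfsg.Lib.PermGroups.PermModule.entry S a b := by
      intro S hS
      induction hS using Submodule.span_induction with
      | mem x hx =>
        obtain ⟨χ, rfl⟩ := hx
        intro a b
        rw [hsym_op]
        congr 2
        funext g
        rw [Cfsg.Lib.Chars.IsCharacter.conj_inv (Cfsg.Lib.Chars.isCharacter_of_irr χ.1.2), Complex.conj_conj]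
        refine ((h _ χ.1.2 fun e0 => χ.2 ?_).2 g).symm
        have := (Cfsg.Lib.PermGroups.PermModule.mult_eq (G := G) (Ω := Ω) χ.1).symm.trans e0
        exact_mod_cast this
      | zero => intro a b; rfl
      | add x y _ _ hx hy =>
        intro a b
        show x _ b + y _ b = x _ a + y _ a
        exact congrArg₂ (· + ·) (hx a b) (hy a b)
      | smul k x _ hx =>
        intro a b
        show k * x _ b = k * x _ a
        exact congrArg (k * ·) (hx a b)
    have hA := Cfsg.Lib.PermGroups.Constituents.mem_span_op ρ hm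
      ((Cfsg.Lib.PermGroups.Constituents.mem_invariants_iff ρ ρ _).2 (Cfsg.Lib.PermGroups.PermModule.orbital_comm (G := G) a b))
    have h1 := hsymm _ hA b a
    rw [Cfsg.Lib.PermGroups.PermModule.entry_orbital, Cfsg.Lib.PermGroups.PermModule.entry_orbital, if_pos ⟨1, one_smul _ _, one_smul _ _⟩] at h1
    by_contra hno
    rw [if_neg hno] at h1
    exact one_ne_zero h1

end Cfsg.Agent.S0717
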