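import Cfsg.Statements.S5194
import Cfsg.Agent.Fusion.JControl
import Cfsg.Agent.Fusion.CentralizerSystem

set_option autoImplicit false
open Cfsg

namespace Cfsg.Agent.S5194

/-- Thompson's normal p-complement Theorem for fusion systems. Let F be a saturated fusion system over a finite p-group S such that p is odd or F is S₄-free (the symmetric group of degree 4 is not involved in any model of the normalizer system of a fully normalized F-centric subgroup), and let J(S) be the subgroup generated by the abelian subgroups of S of largest order. If the centralizer fusion system of Z(S) in F is the inner fusion system of C_S(Z(S)) = S and the normalizer fusion system of J(S) in F is the inner fusion system of N_S(J(S)) = S, then F is the inner fusion system of S. -/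
theorem result {Ω : Type*} [Group Ω] {S : Subgroup Ω} [Finite S] (p : ℕ) [Fact p.Prime] (hS : IsPGroup p S) (F : Cfsg.FusionSystem S) (hF : F.IsSaturated p) (hp : p ≠ 2 ∨ F.IsSectionFree p (Equiv.Perm (Fin 4))) (hC : ∀ C : Cfsg.FusionSystem (Cfsg.FusionSystem.centralizerIn S (S ⊓ Subgroup.centralizer (S : Set Ω))), F.IsCentralizerSystem (S ⊓ Subgroup.centralizer (S : Set Ω)) C → ∀ P : Subgroup Ω, C.Hom P = (Cfsg.innerFusionSystem (Cfsg.FusionSystem.centralizerIn S (S ⊓ Subgroup.centralizer (S : Set Ω)))).Hom P) (hN : ∀ N : Cfsg.FusionSystem (Cfsg.FusionSystem.normalizerIn S (Cfsg.thompsonSubgroupAOf S)), F.IsNormalizerSystem (Cfsg.thompsonSubgroupAOf S) N → ∀ P : Subgroup Ω, N.Hom P = (Cfsg.innerFusionSystem (Cfsg.FusionSystem.normalizerIn S (Cfsg.thompsonSubgroupAOf S))).Hom P) : ∀ P : Subgroup Ω, F.Hom P = (Cfsg.innerFusionSystem S).Hom P := by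
  set Z := S ⊓ Subgroup.centralizer (S : Set Ω)
  set J := Cfsg.thompsonSubgroupAOf S
  have hJS : J ≤ S := Subgroup.map_subtype_le _
  have hTS := Cfsg.Lib.Fusion.normalizerIn_thompsonAOf (p := p) hS
  have hsys := Cfsg.Lib.Fusion.isNormalizerSystem_normalizerSystem (F := F) hJS
  have hinn := Cfsg.Lib.Fusion.isInner_iff.mpr (hN _ hsys)
  have hcen := Cfsg.Lib.Fusion.center_normalizer_eq hS hF hp hsys
  haveI : Finite (Cfsg.FusionSystem.normalizerIn S J) := Cfsg.Lib.Fusion.finite_of_le inf_le_left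
  have hzc : ∀ z ∈ Z, ∀ s ∈ S, s * z = z * s := fun z hz =>
    Subgroup.mem_centralizer_iff.mp hz.2
  have hZF : Z ≤ F.center := by
    intro z hz
    rw [← hcen]
    refine Cfsg.Lib.Fusion.mem_center_of_fixesElt (hTS.ge hz.1) fun P f hf => ?_
    obtain ⟨s, hs, e⟩ := hinn P f hf
    refine ⟨fun x => s * x * s⁻¹, Cfsg.Lib.Fusion.isMap_conj
      (sup_le hf.le (Subgroup.zpowers_le.mpr (hTS.ge hz.1))) hs, fun x hx => (e x hx).symm, ?_⟩
    show s * z * s⁻¹ = z
    rw [hzc z hz s hs.1, mul_inv_cancel_right]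
  have hinnC := Cfsg.Lib.Fusion.isInner_iff.mpr
    (hC _ (Cfsg.Lib.Fusion.isCentralizerSystem_centralizerSystem (F := F) (inf_le_left : Z ≤ S)))
  have hSC : S ≤ Cfsg.FusionSystem.centralizerIn S Z := fun s hs =>
    ⟨hs, Subgroup.mem_centralizer_iff.mpr fun z hz => (hzc z hz s hs).symm⟩
  refine Cfsg.Lib.Fusion.isInner_iff.mp fun P f hf => ?_
  obtain ⟨k, hk, hkf, hki⟩ :=
    (Cfsg.Lib.Fusion.isCentral_iff.mp Cfsg.Lib.Fusion.isCentral_center).2 P f hf
  obtain ⟨s, hs, e⟩ := hinnC P f ((Cfsg.Lib.Fusion.isMap_of_isCentralizerSystem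
    (Cfsg.Lib.Fusion.isCentralizerSystem_centralizerSystem (F := F) (inf_le_left : Z ≤ S))).mpr
    ⟨hf.le.trans hSC, fun x hx => hSC (hf.mem_S hx), hf, k, hk.mono (sup_le_sup_left hZF P), hkf,
      fun x hx => hki x (hZF hx)⟩)
  exact ⟨s, hs.1, e⟩

end Cfsg.Agent.S5194
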