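import Cfsg.Statements.S4454
import Cfsg.Agent.Chars.ExtCriteria
import Cfsg.Agent.Chars.Gallagher
import Cfsg.Agent.Chars.Galois
import Cfsg.Agent.Chars.IrrTools
-- import your own Cfsg.Agent.* helpers here

set_option autoImplicit false
open Cfsg

namespace Cfsg.Agent.S4454

set_option linter.unusedSectionVars false

open Cfsg.Lib.Chars

universe u

theorem ext_cyclic {K : Type u} [Group K] [Finite K] (M : Subgroup K) [M.Normal]
    (hc : IsCyclic (K ⧸ M)) {φ : M → ℂ} (hφ : Cfsg.IsIrrCharacter M φ)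
    (hinv : ∀ y : K, conjN M y φ = φ) :
    ∃ ψ : K → ℂ, Cfsg.IsIrrCharacter K ψ ∧ ∀ n : M, ψ n = φ n := by
  obtain ⟨n, ρ, hρ, rfl⟩ := hφ
  haveI := hρ
  obtain ⟨R, hR⟩ := exists_extension_of_hasSplit M ρ hinv (hasSplit_one_of_cyclic M ρ hc)
  have h1 : ∀ n : M, R.character (n : K) = ρ.character n := fun n => by
    simp only [Representation.character, hR n]
  refine ⟨R.character, ?_, h1⟩
  refine irr_of_comp_irr ⟨_, R, rfl⟩ M.subtype ?_
  have : (fun y : M => R.character (M.subtype y)) = ρ.character := funext h1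
  rw [this]
  exact ⟨n, ρ, hρ, rfl⟩

theorem arith {ι : Type*} [Fintype ι] (a : ι → ℤ) (m e : ℤ) (hcard : (Fintype.card ι : ℤ) = m)
    (hm : 1 < m) (h1 : ∑ i, a i = e) (h2 : m * ∑ i, a i ^ 2 + 1 = e * e + m) :
    m ∣ e - 1 ∨ m ∣ e + 1 := by
  classical
  haveI : Nonempty ι := Fintype.card_pos_iff.1 (by omega)
  obtain ⟨i₀, -, hmax⟩ := Finset.exists_max_image (Finset.univ : Finset ι) a Finset.univ_nonempty
  set M := a i₀
  set A := Finset.univ.filter (fun i => a i = M) with hA
  set B := Finset.univ.filter (fun i => ¬ a i = M) with hB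
  have hpart : (A.card : ℤ) + B.card = m := by
    rw [← hcard]
    exact_mod_cast Finset.card_filter_add_card_filter_not (fun i => a i = M)
  have htot : ∑ i, ∑ j, (a i - a j) ^ 2 = 2 * (m - 1) := by
    have h4 : ∀ i j, (a i - a j) ^ 2 = a i ^ 2 + a j ^ 2 - 2 * (a i * a j) := fun i j => by ring
    simp only [h4, Finset.sum_sub_distrib, Finset.sum_add_distrib, Finset.sum_const, Finset.card_univ,
      nsmul_eq_mul, ← Finset.mul_sum, ← Finset.sum_mul, h1]
    push_cast [hcard]
    linear_combination 2 * h2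
  set T := ∑ i ∈ A, ∑ j ∈ B, (a i - a j) ^ 2 with hT
  have hTle : 2 * T ≤ 2 * (m - 1) := by
    rw [← htot, ← Finset.sum_filter_add_sum_filter_not Finset.univ (fun i => a i = M), ← hA, ← hB]
    have e1 : T ≤ ∑ i ∈ A, ∑ j, (a i - a j) ^ 2 := Finset.sum_le_sum fun i _ =>
      Finset.sum_le_sum_of_subset_of_nonneg (Finset.subset_univ _) fun _ _ _ => sq_nonneg _
    have e2 : T ≤ ∑ i ∈ B, ∑ j, (a i - a j) ^ 2 := by
      rw [hT, Finset.sum_comm]
      refine Finset.sum_le_sum fun j _ => ?_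
      refine le_trans (le_of_eq (Finset.sum_congr rfl fun i _ => ?_))
        (Finset.sum_le_sum_of_subset_of_nonneg (Finset.subset_univ A) fun _ _ _ => sq_nonneg _)
      ring
    linarith
  have hterm : ∀ i ∈ A, ∀ j ∈ B, 1 ≤ (a i - a j) ^ 2 := by
    intro i hi j hj
    have hi' := (Finset.mem_filter.1 hi).2
    have hj' := (Finset.mem_filter.1 hj).2
    have hj2 := hmax j (Finset.mem_univ j)
    have : 1 ≤ a i - a j := by
      rcases lt_or_eq_of_le hj2 with h | h
      · omega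
      · exact absurd h hj'
    nlinarith
  have hTge : (A.card : ℤ) * B.card ≤ T := by
    calc (A.card : ℤ) * B.card = ∑ i ∈ A, ∑ j ∈ B, (1 : ℤ) := by simp
      _ ≤ T := Finset.sum_le_sum fun i hi => Finset.sum_le_sum fun j hj => hterm i hi j hj
  have hA1 : (1 : ℤ) ≤ A.card := by exact_mod_cast Finset.card_pos.2 ⟨i₀, by simp [hA, M]⟩
  have hB1 : (1 : ℤ) ≤ B.card := by
    by_contra h
    have hB0 : B = ∅ := Finset.card_eq_zero.1 (by omega)
    have hall : ∀ i, a i = M := fun i => by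
      by_contra hi
      exact Finset.notMem_empty i (hB0 ▸ Finset.mem_filter.2 ⟨Finset.mem_univ i, hi⟩)
    simp only [hall, sub_self, zero_pow two_ne_zero, Finset.sum_const_zero] at htot
    omega
  have hprod : ((A.card : ℤ) - 1) * ((B.card : ℤ) - 1) = 0 := by
    have h3 : 0 ≤ ((A.card : ℤ) - 1) * ((B.card : ℤ) - 1) := mul_nonneg (by omega) (by omega)
    nlinarith
  have hTeq : T = (A.card : ℤ) * B.card := by nlinarith
  have hBv : ∀ j ∈ B, a j = M - 1 := by
    intro j hj
    have hz : ∑ i ∈ A, ∑ j ∈ B, ((a i - a j) ^ 2 - 1) = 0 := by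
      simp only [Finset.sum_sub_distrib, Finset.sum_const, nsmul_eq_mul, mul_one]
      rw [← hT, hTeq]; ring
    have hi₀ : i₀ ∈ A := by simp [hA, M]
    have h5 := (Finset.sum_eq_zero_iff_of_nonneg fun i hi => Finset.sum_nonneg fun j hj => by
      linarith [hterm i hi j hj]).1 hz i₀ hi₀
    have h6 := (Finset.sum_eq_zero_iff_of_nonneg fun j hj => by linarith [hterm i₀ hi₀ j hj]).1 h5 j hj
    have hj' := (Finset.mem_filter.1 hj).2
    have hj2 := hmax j (Finset.mem_univ j)
    rcases sq_eq_one_iff.1 (show (M - a j) ^ 2 = 1 by linarith) with h | h <;> omega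
  have he : e = m * M - B.card := by
    rw [← h1, ← Finset.sum_filter_add_sum_filter_not Finset.univ (fun i => a i = M), ← hA, ← hB,
      Finset.sum_congr rfl (g := fun _ => M) (fun i hi => (Finset.mem_filter.1 hi).2),
      Finset.sum_congr rfl hBv, Finset.sum_const, Finset.sum_const, nsmul_eq_mul, nsmul_eq_mul,
      ← hpart]
    ring
  rcases mul_eq_zero.1 hprod with h | h
  · left
    exact ⟨M - 1, by rw [he]; linear_combination h - hpart⟩
  · right
    exact ⟨M, by rw [he]; linear_combination -h⟩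

theorem arith_pad {ι : Type*} (J : Finset ι) (a : ι → ℕ) (m : ℕ) {e : ℕ} (hm : 1 < m)
    (hJ : J.card ≤ m) (h1 : ∑ i ∈ J, a i = e) (h2 : m * ∑ i ∈ J, a i ^ 2 + 1 = e * e + m) :
    (m : ℤ) ∣ (e : ℤ) - 1 ∨ (m : ℤ) ∣ (e : ℤ) + 1 := by
  refine arith (ι := J ⊕ Fin (m - J.card)) (Sum.elim (fun i => (a i : ℤ)) fun _ => 0) m e ?_
    (by exact_mod_cast hm) ?_ ?_
  · rw [Fintype.card_sum, Fintype.card_coe, Fintype.card_fin, Nat.add_sub_cancel' hJ]
  · rw [Fintype.sum_sum_type]
    simp only [Sum.elim_inl, Sum.elim_inr, Finset.sum_const_zero, add_zero]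
    rw [Finset.sum_coe_sort J (fun i => (a i : ℤ)), ← h1]
    push_cast; rfl
  · rw [Fintype.sum_sum_type]
    simp only [Sum.elim_inl, Sum.elim_inr, zero_pow two_ne_zero, Finset.sum_const_zero, add_zero]
    rw [Finset.sum_coe_sort J (fun i => (a i : ℤ) ^ 2)]
    exact_mod_cast h2

/-- Let N ≤ G be normal subgroups of the finite group Γ with Γ/G cyclic and Γ/N a Frobenius group with kernel G/N: G ≠ Γ, N ≠ G, and no element of Γ outside G fixes a non-identity coset of N in G under conjugation. Let ϑ be an irreducible character of N invariant under conjugation by Γ and suppose ϑ is fully ramified in G: the character of G induced from ϑ equals e·χ for an irreducible character χ of G and a natural number e. Then the index of G in Γ divides e − 1 or e + 1. -/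
theorem result {Γ : Type*} [Group Γ] [Fintype Γ] (G N : Subgroup Γ) [hG : G.Normal] [hN : N.Normal] [Fintype G] [Fintype N] (hNG : N ≤ G) (hGlt : G ≠ ⊤) (hNlt : N ≠ G) (hcyc : IsCyclic (Γ ⧸ G)) (hfrob : ∀ x : Γ, x ∉ G → ∀ g : Γ, g ∈ G → x * g * x⁻¹ * g⁻¹ ∈ N → g ∈ N) (θ : Cfsg.IrrCharacter N) (hinv : ∀ (x : Γ) (n : N), (θ : N → ℂ) ⟨x * n * x⁻¹, hN.conj_mem n n.2 x⟩ = (θ : N → ℂ) n) (χ : Cfsg.IrrCharacter G) (e : ℕ) (hram : Cfsg.indFun (N.subgroupOf G) (fun n : N.subgroupOf G => (θ : N → ℂ) ⟨(n : G), n.2⟩) = fun g => (e : ℂ) * (χ : G → ℂ) g) : (G.index : ℤ) ∣ (e : ℤ) - 1 ∨ (G.index : ℤ) ∣ (e : ℤ) + 1 := by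
  classical
  set m := G.index with hm
  haveI := hcyc
  obtain ⟨q, hq⟩ := IsCyclic.exists_generator (α := Γ ⧸ G)
  obtain ⟨x, rfl⟩ := QuotientGroup.mk'_surjective G q
  have hord : orderOf (QuotientGroup.mk' G x) = m := orderOf_eq_card_of_forall_mem_zpowers hq
  have hm1 : 1 < m := Subgroup.one_lt_index_of_ne_top hGlt
  have hxG : x ∉ G := fun h => by
    rw [show QuotientGroup.mk' G x = 1 from (QuotientGroup.eq_one_iff x).2 h, orderOf_one] at hord
    omega
  have hxm : x ^ m ∈ N := hfrob x hxG (x ^ m) ((QuotientGroup.eq_one_iff _).1 (by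
    rw [← QuotientGroup.mk'_apply, map_pow, ← hord, pow_orderOf_eq_one])) (by
      rw [show x * x ^ m * x⁻¹ * (x ^ m)⁻¹ = 1 by group]; exact N.one_mem)
  set L : Subgroup Γ := N ⊔ Subgroup.zpowers x with hL
  have hNL : N ≤ L := le_sup_left
  have hxL : x ∈ L := le_sup_right (a := N) (Subgroup.mem_zpowers x)
  have hLdec : ∀ y ∈ L, ∃ n ∈ N, ∃ i : ℤ, n * x ^ i = y := by
    intro y hy
    obtain ⟨n, hn, z, ⟨i, rfl⟩, rfl⟩ := Subgroup.mem_sup_of_normal_left.1 hy
    exact ⟨n, hn, i, rfl⟩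
  have hLG : ∀ y ∈ L, y ∈ G → y ∈ N := by
    intro y hy hyG
    obtain ⟨n, hn, i, rfl⟩ := hLdec y hy
    have hi : (QuotientGroup.mk' G x) ^ i = 1 := by
      rw [← map_zpow]
      refine (QuotientGroup.eq_one_iff _).2 ?_
      have := G.mul_mem (G.inv_mem (hNG hn)) hyG
      rwa [inv_mul_cancel_left] at this
    rw [← orderOf_dvd_iff_zpow_eq_one, hord] at hi
    obtain ⟨j, rfl⟩ := hi
    rw [zpow_mul, zpow_natCast]
    exact N.mul_mem hn (N.zpow_mem hxm j)
  have hLcard : Nat.card L = Nat.card N * m := by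
    set f : L →* Γ ⧸ G := (QuotientGroup.mk' G).comp L.subtype with hf
    have hker : f.ker = N.subgroupOf L := by
      ext y
      rw [MonoidHom.mem_ker, Subgroup.mem_subgroupOf]
      exact ⟨fun h => hLG y y.2 ((QuotientGroup.eq_one_iff _).1 h),
        fun h => (QuotientGroup.eq_one_iff _).2 (hNG h)⟩
    have hsurj : Function.Surjective f := fun z => by
      obtain ⟨i, rfl⟩ := hq z
      exact ⟨⟨x ^ i, L.zpow_mem hxL i⟩, map_zpow (QuotientGroup.mk' G) x i⟩
    rw [← Subgroup.card_mul_index f.ker, hker, Nat.card_congr (Subgroup.subgroupOfEquivOfLe hNL).toEquiv,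
      ← hker, Subgroup.index_ker, MonoidHom.range_eq_top_of_surjective f hsurj, Subgroup.card_top]
    rfl
  -- the values of `χ`
  set k := (N.subgroupOf G).index with hk
  have hkc : Nat.card N * k = Nat.card G := by
    rw [← Nat.card_congr (Subgroup.subgroupOfEquivOfLe hNG).toEquiv, hk, Subgroup.card_mul_index]
  have hval : ∀ g : G, (e : ℂ) * (χ : G → ℂ) g =
      if h : (g : Γ) ∈ N then (k : ℂ) * (θ : N → ℂ) ⟨g, h⟩ else 0 := by
    intro g
    rw [← congrFun hram g]
    split_ifs with h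
    · rw [indFun_normal_mem (N.subgroupOf G) _ (⟨g, h⟩ : N.subgroupOf G), Finset.sum_congr rfl
        (g := fun _ : G => (θ : N → ℂ) ⟨g, h⟩) fun c _ => by
          refine Eq.trans ?_ (hinv (c : Γ) ⟨g, h⟩)
          exact congrArg (θ : N → ℂ) (Subtype.ext (by simp)),
        Finset.sum_const, Finset.card_univ, ← Nat.card_eq_fintype_card, nsmul_eq_mul, ← hkc,
        Nat.card_congr (Subgroup.subgroupOfEquivOfLe hNG).toEquiv]
      push_cast
      rw [← mul_assoc, ← mul_assoc, inv_mul_cancel₀ (Nat.cast_ne_zero.2 Nat.card_pos.ne'), one_mul]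
    · exact indFun_normal_not_mem (N.subgroupOf G) _ h
  have hk0 : k ≠ 0 := Subgroup.index_ne_zero_of_finite
  have he0 : (e : ℂ) ≠ 0 := fun h => by
    have := hval 1
    rw [h, zero_mul, dif_pos (by exact N.one_mem)] at this
    exact mul_ne_zero (Nat.cast_ne_zero.2 hk0) (IsIrrCharacter.apply_one_ne_zero θ.2) this.symm
  have hχinv : ∀ y : Γ, conjN G y (χ : G → ℂ) = (χ : G → ℂ) := by
    intro y
    funext g
    refine mul_left_cancel₀ he0 ?_
    show (e : ℂ) * (χ : G → ℂ) _ = _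
    rw [hval, hval]
    by_cases h : (g : Γ) ∈ N
    · rw [dif_pos (hN.conj_mem _ h y), dif_pos h]
      congr 1
      exact hinv y ⟨g, h⟩
    · rw [dif_neg fun h' => h (by simpa [mul_assoc] using hN.conj_mem _ h' y⁻¹), dif_neg h]
  obtain ⟨χh, hχh, hext⟩ := ext_cyclic G hcyc χ.2 hχinv
  -- norms
  have hθn : ∑ n : N, ‖(θ : N → ℂ) n‖ ^ 2 = (Nat.card N : ℝ) := by
    have h := classInner_irr_self θ
    rw [classInner_self, Complex.ofReal_eq_one,
      inv_mul_eq_one₀ (Nat.cast_ne_zero.2 Nat.card_pos.ne')] at h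
    exact h.symm
  have hχn : ∑ g : G, ‖(χ : G → ℂ) g‖ ^ 2 = (Nat.card G : ℝ) := by
    have h := classInner_irr_self χ
    rw [classInner_self, Complex.ofReal_eq_one,
      inv_mul_eq_one₀ (Nat.cast_ne_zero.2 Nat.card_pos.ne')] at h
    exact h.symm
  have hoff : ∀ g : G, (g : Γ) ∉ N → (χ : G → ℂ) g = 0 := fun g hg => by
    have := hval g
    rw [dif_neg hg] at this
    exact (mul_eq_zero.1 this).resolve_left he0
  have hsq : e * e = k := by
    have h1 : ∑ g : G, ‖(e : ℂ) * (χ : G → ℂ) g‖ ^ 2 = (e : ℝ) ^ 2 * (Nat.card G : ℝ) := by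
      simp only [norm_mul, mul_pow, ← Finset.mul_sum, hχn, Complex.norm_natCast]
    have h2 : ∑ g : G, ‖(e : ℂ) * (χ : G → ℂ) g‖ ^ 2 = (k : ℝ) ^ 2 * (Nat.card N : ℝ) := by
      rw [← Finset.sum_subset (Finset.subset_univ (Finset.univ.filter fun g : G => (g : Γ) ∈ N))
          (fun g _ hg => by
            rw [hoff g (by simpa using hg), mul_zero, norm_zero, zero_pow two_ne_zero]), ← hθn,
        Finset.mul_sum]
      refine Finset.sum_bij (fun g hg => (⟨g, (Finset.mem_filter.1 hg).2⟩ : N))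
        (fun _ _ => Finset.mem_univ _)
        (fun a _ b _ h => Subtype.ext (congrArg (fun n : N => (n : Γ)) h))
        (fun n _ => ⟨⟨n, hNG n.2⟩, by simp, rfl⟩) (fun g hg => ?_)
      rw [hval, dif_pos (Finset.mem_filter.1 hg).2, norm_mul, mul_pow, Complex.norm_natCast]
    rw [h1, ← hkc] at h2
    push_cast at h2
    have h4 : (e : ℝ) ^ 2 * (Nat.card N * k) = (k : ℝ) * (Nat.card N * k) := by rw [h2]; ring
    have h3 := mul_right_cancel₀ (mul_ne_zero (Nat.cast_ne_zero.2 Nat.card_pos.ne')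
      (Nat.cast_ne_zero.2 hk0)) h4
    rw [pow_two] at h3
    exact_mod_cast h3
  have hres : ∀ n : N, χh (n : Γ) = (e : ℂ) * (θ : N → ℂ) n := by
    intro n
    refine mul_left_cancel₀ he0 ?_
    have := hext ⟨n, hNG n.2⟩
    change χh (n : Γ) = _ at this
    rw [this, hval, dif_pos (show ((⟨(n : Γ), hNG n.2⟩ : G) : Γ) ∈ N from n.2), ← hsq]
    push_cast
    ring
  -- the sum outside `N` in `L`
  haveI : Fintype L := Fintype.ofFinite _
  set D := Finset.univ.filter (fun y : L => (y : Γ) ∉ N) with hD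
  have hDcard : D.card = Nat.card N * (m - 1) := by
    have h1 := Finset.card_filter_add_card_filter_not (s := (Finset.univ : Finset L))
      (fun y : L => (y : Γ) ∈ N)
    rw [← Fintype.card_subtype, ← Nat.card_eq_fintype_card,
      show Nat.card {y : L // (y : Γ) ∈ N} = Nat.card N from
        Nat.card_congr (Subgroup.subgroupOfEquivOfLe hNL).toEquiv,
      Finset.card_univ, ← Nat.card_eq_fintype_card, hLcard] at h1
    rw [Nat.mul_sub_one, hD]
    omega
  have hS : ∑ y ∈ D, ‖χh (y : Γ)‖ ^ 2 = (Nat.card N : ℝ) * ((m : ℝ) - 1) := by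
    haveI : Fintype (G ⧸ N.subgroupOf G) := Fintype.ofFinite _
    set O := Finset.univ.filter (fun y : Γ => y ∉ G) with hO
    have hbij : ∑ q : (G ⧸ N.subgroupOf G) × {y : L // y ∈ D}, ‖χh ((q.2.1 : L) : Γ)‖ ^ 2 =
        ∑ y ∈ O, ‖χh y‖ ^ 2 := by
      let i : (G ⧸ N.subgroupOf G) × {y : L // y ∈ D} → Γ := fun q =>
        ((q.1.out : G) : Γ) * ((q.2.1 : L) : Γ) * ((q.1.out : G) : Γ)⁻¹
      have hmem : ∀ q, i q ∈ O := by
        intro q
        simp only [hO, Finset.mem_filter, Finset.mem_univ, true_and, i]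
        intro h
        have h2 := hG.conj_mem _ h ((q.1.out : G) : Γ)⁻¹
        rw [inv_inv, show ((q.1.out : G) : Γ)⁻¹ *
          (((q.1.out : G) : Γ) * ((q.2.1 : L) : Γ) * ((q.1.out : G) : Γ)⁻¹) * ((q.1.out : G) : Γ) =
          ((q.2.1 : L) : Γ) by group] at h2
        exact (Finset.mem_filter.1 q.2.2).2 (hLG _ q.2.1.2 h2)
      have hinj : Function.Injective i := by
        rintro ⟨a, y⟩ ⟨b, z⟩ h
        set g := ((a.out : G) : Γ) with hg
        set g' := ((b.out : G) : Γ) with hg'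
        set Y := ((y.1 : L) : Γ) with hY
        set Z := ((z.1 : L) : Γ) with hZ
        have h' : g * Y * g⁻¹ = g' * Z * g'⁻¹ := h
        set d := g'⁻¹ * g with hd
        have hdG : d ∈ G := G.mul_mem (G.inv_mem b.out.2) a.out.2
        have hdY : d * Y * d⁻¹ = Z := by
          calc d * Y * d⁻¹ = g'⁻¹ * (g * Y * g⁻¹) * g' := by rw [hd]; group
            _ = Z := by rw [h']; group
        have hYG : Y ∉ G := fun hh => (Finset.mem_filter.1 y.2).2 (hLG _ y.1.2 hh)
        have hc : Z * Y⁻¹ ∈ N := hLG _ (L.mul_mem z.1.2 (L.inv_mem y.1.2)) (by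
          rw [← hdY, show d * Y * d⁻¹ * Y⁻¹ = d * (Y * d⁻¹ * Y⁻¹) by group]
          exact G.mul_mem hdG (hG.conj_mem _ (G.inv_mem hdG) Y))
        have hdN : d ∈ N := hfrob Y hYG d hdG (by
          rw [show Y * d * Y⁻¹ * d⁻¹ = (d * Y * d⁻¹ * Y⁻¹)⁻¹ by group]
          exact N.inv_mem (hdY ▸ hc))
        have hab : a = b := by
          rw [← QuotientGroup.out_eq' a, ← QuotientGroup.out_eq' b, eq_comm, QuotientGroup.eq]
          exact hdN
        subst hab
        refine Prod.ext rfl (Subtype.ext (Subtype.ext ?_))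
        show Y = Z
        rw [← hdY, show d = 1 by rw [hd, hg, hg', inv_mul_cancel]]
        simp
      have hcardO : O.card + Nat.card G = Nat.card Γ := by
        have h1 := Finset.card_filter_add_card_filter_not (s := (Finset.univ : Finset Γ)) (fun y : Γ => y ∈ G)
        rw [← Fintype.card_subtype, ← Nat.card_eq_fintype_card, Finset.card_univ,
          ← Nat.card_eq_fintype_card] at h1
        rw [hO, add_comm]; exact h1
      refine Finset.sum_bij (fun q _ => i q) (fun q _ => hmem q) (fun a _ b _ h => hinj h)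
        (fun y hy => ?_) (fun q _ => ?_)
      · have himg : Finset.univ.image i = O := by
          refine Finset.eq_of_subset_of_card_le (fun y hy => ?_) (le_of_eq ?_)
          · obtain ⟨q, -, rfl⟩ := Finset.mem_image.1 hy
            exact hmem q
          · rw [Finset.card_image_of_injective _ hinj, Finset.card_univ, Fintype.card_prod,
              ← Nat.card_eq_fintype_card, ← Subgroup.index_eq_card, ← hk, Fintype.card_coe, hDcard]
            have h3 := Subgroup.card_mul_index G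
            rw [← hm] at h3
            have h4 : Nat.card N * k * (m - 1) + Nat.card G = Nat.card G * m := by
              rw [hkc, ← Nat.mul_succ, show (m - 1).succ = m by omega]
            have h5 : k * (Nat.card N * (m - 1)) = Nat.card N * k * (m - 1) := by ring
            omega
        rw [← himg] at hy
        obtain ⟨q, -, rfl⟩ := Finset.mem_image.1 hy
        exact ⟨q, Finset.mem_univ _, rfl⟩
      · congr 2
        exact (isClassFunction_isChar (isCharacter_of_irr hχh) _ _).symm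
    have hall : ∑ y : Γ, ‖χh y‖ ^ 2 = (Nat.card Γ : ℝ) := by
      have h := classInner_irr_self (⟨χh, hχh⟩ : Cfsg.IrrCharacter Γ)
      rw [classInner_self, Complex.ofReal_eq_one,
        inv_mul_eq_one₀ (Nat.cast_ne_zero.2 Nat.card_pos.ne')] at h
      exact h.symm
    have hin : ∑ y ∈ Finset.univ.filter (fun y : Γ => y ∈ G), ‖χh y‖ ^ 2 = (Nat.card G : ℝ) := by
      rw [← hχn]
      exact Finset.sum_bij (fun y hy => (⟨y, (Finset.mem_filter.1 hy).2⟩ : G))
        (fun _ _ => Finset.mem_univ _) (fun a _ b _ h => congrArg (fun g : G => (g : Γ)) h)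
        (fun g _ => ⟨g, by simp, rfl⟩)
        (fun y hy => by rw [← hext])
    rw [← Finset.sum_filter_add_sum_filter_not Finset.univ (fun y : Γ => y ∈ G), hin, ← hO, ← hbij,
      Fintype.sum_prod_type] at hall
    dsimp only at hall
    rw [Finset.sum_const, Finset.card_univ, ← Nat.card_eq_fintype_card,
      ← Subgroup.index_eq_card, ← hk, nsmul_eq_mul,
      show ∑ y : {y : L // y ∈ D}, ‖χh ((y.1 : L) : Γ)‖ ^ 2 = ∑ y ∈ D, ‖χh (y : Γ)‖ ^ 2 from
        Finset.sum_coe_sort D (fun y : L => ‖χh (y : Γ)‖ ^ 2),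
      ← Subgroup.card_mul_index G, ← hm, ← hkc] at hall
    push_cast at hall
    refine mul_left_cancel₀ (Nat.cast_ne_zero.2 hk0 : (k : ℝ) ≠ 0) ?_
    linear_combination hall
  -- the restriction to `L`
  set NL := N.subgroupOf L with hNLdef
  haveI : Fintype NL := Fintype.ofFinite _
  let θL : NL → ℂ := fun n => (θ : N → ℂ) (Subgroup.subgroupOfEquivOfLe hNL n)
  have hθL : Cfsg.IsIrrCharacter NL θL := IsIrrCharacter.comp_mulEquiv θ.2 _
  have hθLinv : ∀ y : L, conjN NL y θL = θL := fun y => funext fun n =>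
    (congrArg (θ : N → ℂ) (Subtype.ext rfl)).trans (hinv (y : Γ) (Subgroup.subgroupOfEquivOfLe hNL n))
  have hcycL : IsCyclic (L ⧸ NL) := by
    refine ⟨QuotientGroup.mk' NL ⟨x, hxL⟩, fun z => ?_⟩
    obtain ⟨⟨y, hy⟩, rfl⟩ := QuotientGroup.mk'_surjective NL z
    obtain ⟨n, hn, i, hni⟩ := hLdec y hy
    refine ⟨i, ?_⟩
    show QuotientGroup.mk' NL ⟨x, hxL⟩ ^ i = _
    rw [← map_zpow]
    refine QuotientGroup.eq.2 ?_
    show (x ^ i)⁻¹ * y ∈ N
    rw [← hni, ← mul_assoc]
    simpa using hN.conj_mem n hn (x ^ i)⁻¹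
  obtain ⟨θh, hθh, hθext⟩ := ext_cyclic NL hcycL hθL hθLinv
  obtain ⟨a, ha⟩ := IsCharacter.exists_decomp (IsCharacter.restrict (isCharacter_of_irr hχh) L)
  have hθnrm : ∀ φ : Cfsg.IrrCharacter NL, (φ : NL → ℂ) ≠ θL →
      Cfsg.classInner (fun n : NL => χh ((n : L) : Γ)) (φ : NL → ℂ) = 0 := by
    intro φ hφ
    rw [show (fun n : NL => χh ((n : L) : Γ)) = (e : ℂ) • θL from funext fun n =>
      hres (Subgroup.subgroupOfEquivOfLe hNL n), classInner_smul_left, classInner_irrChar hθL φ.2,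
      if_neg (Ne.symm hφ), mul_zero]
  set J := Finset.univ.filter (fun η : Cfsg.IrrCharacter L => a η ≠ 0) with hJ
  have hlin : ∀ η ∈ J, ∃ f : L →* ℂˣ, (∀ n : NL, f n = 1) ∧ (η : L → ℂ) = fun y => (f y : ℂ) * θh y := by
    intro η hη
    have hη0 : a η ≠ 0 := (Finset.mem_filter.1 hη).2
    obtain ⟨φ, hφ, hc⟩ := exists_constituent NL (isCharacter_of_irr η.2)
      (IsIrrCharacter.apply_one_ne_zero η.2)
    have hφθ : φ = θL := by
      by_contra hne
      have h0 := hθnrm ⟨φ, hφ⟩ hne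
      rw [show (fun n : NL => χh ((n : L) : Γ)) =
          ∑ ψ : Cfsg.IrrCharacter L, a ψ • (fun n : NL => (ψ : L → ℂ) n) from funext fun n => by
        rw [Finset.sum_apply, show χh ((n : L) : Γ) = (fun y : L => χh y) n from rfl, ha, Finset.sum_apply]
        rfl, classInner_sum_left] at h0
      choose c hc' using fun ψ : Cfsg.IrrCharacter L =>
        IsCharacter.exists_mult (IsCharacter.restrict (isCharacter_of_irr ψ.2) NL) hφ
      simp only [classInner_nsmul_left, hc'] at h0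
      rw [← Nat.cast_zero (R := ℂ), Finset.sum_congr rfl (fun ψ _ => (Nat.cast_mul (a ψ) (c ψ)).symm),
        ← Nat.cast_sum, Nat.cast_inj, Finset.sum_eq_zero_iff] at h0
      rcases mul_eq_zero.1 (h0 η (Finset.mem_univ _)) with h | h
      · exact hη0 h
      · exact hc (by rw [hc', h, Nat.cast_zero])
    subst hφθ
    obtain ⟨c, -, hc'⟩ := restrict_eq_mult_of_invariant NL η.2 hθL hθLinv hc
    obtain ⟨b, hb, hbη, hbN⟩ := exists_factor_extension NL hθh
      (by rw [show (fun n : NL => θh n) = θL from funext hθext]; exact hθL) η.2 (e := c)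
      (fun n => by rw [hθext]; exact congrFun hc' n)
    obtain ⟨b', hb', hbfac⟩ := exists_factor (QuotientGroup.mk' NL) (QuotientGroup.mk'_surjective _)
      (isCharacter_of_irr hb) (fun y hy => by
        rw [QuotientGroup.ker_mk'] at hy; exact hbN ⟨y, hy⟩)
    haveI := hcycL
    have hb1 : b 1 = 1 := by
      have h1 := irr_deg_one_of_comm
        (fun u v : L ⧸ NL => by
          obtain ⟨g, hg⟩ := IsCyclic.exists_generator (α := L ⧸ NL)
          obtain ⟨i, rfl⟩ := hg u
          obtain ⟨j, rfl⟩ := hg v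
          exact (Commute.zpow_zpow (Commute.refl g) i j).eq)
        (IsIrrCharacter.descend hb' (QuotientGroup.mk' NL) (QuotientGroup.mk'_surjective _) (hbfac ▸ hb))
      rw [hbfac]
      simpa using h1
    obtain ⟨f, rfl⟩ := exists_hom_of_deg_one (isCharacter_of_irr hb) hb1
    refine ⟨f, fun n => Units.ext ?_, hbη⟩
    have := hbN n
    simp only [map_one, Units.val_one] at this
    rw [Units.val_one]; exact this
  have hdegJ : ∀ η ∈ J, (η : L → ℂ) 1 = θh 1 := fun η hη => by
    obtain ⟨f, -, h⟩ := hlin η hη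
    rw [h]
    show ((f 1 : ℂˣ) : ℂ) * θh 1 = θh 1
    rw [map_one, Units.val_one, one_mul]
  have hJcard : J.card ≤ m := by
    choose f hf1 hf2 using hlin
    haveI : NeZero m := ⟨by omega⟩
    have hmap : ∀ (η) (hη : η ∈ J), (f η hη) ⟨x, hxL⟩ ∈ rootsOfUnity m ℂ := fun η hη => by
      rw [mem_rootsOfUnity, ← map_pow]
      exact hf1 η hη ⟨⟨x, hxL⟩ ^ m, hxm⟩
    let i : J → rootsOfUnity m ℂ := fun η => ⟨_, hmap η.1 η.2⟩
    have hi : Function.Injective i := by
      rintro ⟨η, hη⟩ ⟨η', hη'⟩ h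
      have h' : f η hη ⟨x, hxL⟩ = f η' hη' ⟨x, hxL⟩ := congrArg Subtype.val h
      refine Subtype.ext (Subtype.ext ?_)
      show (η : L → ℂ) = (η' : L → ℂ)
      rw [hf2 η hη, hf2 η' hη']
      funext ⟨y, hy⟩
      obtain ⟨n, hn, j, rfl⟩ := hLdec y hy
      have e1 : (⟨n * x ^ j, hy⟩ : L) = ⟨n, hNL hn⟩ * ⟨x, hxL⟩ ^ j := Subtype.ext rfl
      rw [e1, map_mul, map_mul, map_zpow, map_zpow, h', hf1 η hη ⟨⟨n, hNL hn⟩, hn⟩,
        hf1 η' hη' ⟨⟨n, hNL hn⟩, hn⟩]
    have := Nat.card_le_card_of_injective i hi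
    rw [Nat.card_eq_fintype_card, Fintype.card_coe] at this
    exact this.trans (le_of_eq (IsPrimitiveRoot.card_rootsOfUnity (Complex.isPrimitiveRoot_exp m (by omega))))
  have hsumJ : ∀ g : Cfsg.IrrCharacter L → ℂ, ∑ η, (a η : ℂ) * g η = ∑ η ∈ J, (a η : ℂ) * g η :=
    fun g => (Finset.sum_subset (Finset.subset_univ _) fun η _ h => by
      simp only [hJ, Finset.mem_filter, Finset.mem_univ, true_and, not_not] at h
      rw [h, Nat.cast_zero, zero_mul]).symm
  have hsum1 : ∑ η ∈ J, a η = e := by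
    have h1 : χh ((1 : L) : Γ) = (∑ ψ : Cfsg.IrrCharacter L, a ψ • (ψ : L → ℂ)) 1 := congrFun ha 1
    simp only [Finset.sum_apply, Pi.smul_apply] at h1
    simp only [nsmul_eq_mul] at h1
    rw [hsumJ, Finset.sum_congr rfl (fun η hη => by rw [hdegJ η hη]), ← Finset.sum_mul] at h1
    have h2 := hθext 1
    rw [OneMemClass.coe_one] at h2 h1
    rw [h2, show θL 1 = (θ : N → ℂ) 1 from congrArg (θ : N → ℂ) (map_one _),
      show (1 : Γ) = ((1 : N) : Γ) from rfl, hres] at h1
    have h3 := mul_right_cancel₀ (IsIrrCharacter.apply_one_ne_zero θ.2) h1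
    exact_mod_cast h3.symm
  have hsum2 : m * ∑ η ∈ J, a η ^ 2 + 1 = e * e + m := by
    have h1 : Cfsg.classInner (fun y : L => χh y) (fun y : L => χh y) =
        ((∑ η ∈ J, a η ^ 2 : ℕ) : ℂ) := by
      rw [ha, classInner_sum_left]
      simp only [classInner_nsmul_left, classInner_sum_right, classInner_nsmul_right,
        classInner_irrCharacter, mul_ite, mul_one, mul_zero, Finset.sum_ite_eq, Finset.mem_univ, if_true]
      rw [hsumJ]
      push_cast
      exact Finset.sum_congr rfl fun η _ => (pow_two _).symm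
    rw [classInner_self, ← Complex.ofReal_natCast, Complex.ofReal_inj] at h1
    rw [← Finset.sum_filter_add_sum_filter_not Finset.univ (fun y : L => (y : Γ) ∈ N), ← hD, hS] at h1
    have hin : ∑ y ∈ Finset.univ.filter (fun y : L => (y : Γ) ∈ N), ‖χh (y : Γ)‖ ^ 2 =
        (e : ℝ) ^ 2 * (Nat.card N : ℝ) := by
      rw [← hθn, Finset.mul_sum]
      refine Finset.sum_bij (fun y hy => (⟨y, (Finset.mem_filter.1 hy).2⟩ : N))
        (fun _ _ => Finset.mem_univ _) (fun u _ v _ h => Subtype.ext (congrArg (fun n : N => (n : Γ)) h))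
        (fun n _ => ⟨⟨n, hNL n.2⟩, by simp, rfl⟩) (fun y hy => ?_)
      rw [← mul_pow, ← Complex.norm_natCast, ← norm_mul, ← hres]
    rw [hin, hLcard] at h1
    push_cast at h1
    have hN0 : (Nat.card N : ℝ) ≠ 0 := Nat.cast_ne_zero.2 Nat.card_pos.ne'
    have hm0 : (m : ℝ) ≠ 0 := Nat.cast_ne_zero.2 (by omega)
    field_simp at h1
    have h3 : (m : ℝ) * ((∑ η ∈ J, a η ^ 2 : ℕ) : ℝ) + 1 = (e : ℝ) * e + m := by
      push_cast
      apply mul_left_cancel₀ hN0
      nlinarith [h1]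
    exact_mod_cast h3
  exact arith_pad J a m hm1 hJcard hsum1 hsum2

end Cfsg.Agent.S4454
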