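import Cfsg.Statements.S4878
import Cfsg.Agent.Blocks.CoprimeTransitive.Exceptional

set_option autoImplicit false
open Cfsg
open scoped Pointwise

namespace Cfsg.Agent.S4878

/-- Let p be a prime and G a finite p-solvable group of order divisible by p in which all non-identity p-elements are conjugate. Then G has at least p conjugacy classes of p-regular elements; or G has exactly p − 1 of them and is isomorphic to the one-dimensional affine group over the field with p elements; or p = 11, G has exactly 9 of them, G has order 121·120 and G is a Frobenius group whose complement is isomorphic to SL(2,5). -/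
theorem result {G : Type*} [Group G] [Finite G] (p : ℕ) [Fact p.Prime] (hsolv : Cfsg.IsPSolvable p G) (hdiv : p ∣ Nat.card G) (hconj : ∀ x y : G, x ≠ 1 → y ≠ 1 → (∃ k : ℕ, orderOf x = p ^ k) → (∃ k : ℕ, orderOf y = p ^ k) → IsConj x y) : p ≤ Nat.card {c : ConjClasses G // ∃ g : G, ConjClasses.mk g = c ∧ ¬ p ∣ orderOf g} ∨ (Nat.card {c : ConjClasses G // ∃ g : G, ConjClasses.mk g = c ∧ ¬ p ∣ orderOf g} = p - 1 ∧ Nonempty (G ≃* ↥(Cfsg.affineGroup (ZMod p)))) ∨ (p = 11 ∧ Nat.card {c : ConjClasses G // ∃ g : G, ConjClasses.mk g = c ∧ ¬ p ∣ orderOf g} = 9 ∧ (Nat.card G = 121 * 120 ∧ ∃ H : Subgroup G, Cfsg.IsFrobeniusComplement H ∧ Nonempty (↥H ≃* Matrix.SpecialLinearGroup (Fin 2) (ZMod 5)))) := by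
  classical
  haveI : (Cfsg.pPrimeCore p G).Normal := Cfsg.Lib.Components.pPrimeCore_normal' p
  obtain ⟨Q, K, S⟩ := Cfsg.Lib.Blocks.CoprimeTransitive.exists_setting hsolv hdiv hconj
  have hp := (Fact.out : p.Prime)
  set N := Cfsg.pPrimeCore p G with hNdef
  have hN : ¬ p ∣ Nat.card N :=
    hp.coprime_iff_not_dvd.1 (Cfsg.Lib.Components.coprime_card_pPrimeCore p).symm
  obtain ⟨hle, hplus⟩ := Cfsg.Lib.Blocks.CoprimeTransitive.card_regClass_quotient (p := p) N hN
  have hreg := S.card_regClass
  rcases S.classes with h | ⟨hQ, hK, hk⟩ | ⟨h11, hQ, hK, hk, -, -, ⟨e⟩⟩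
  · exact Or.inl ((h.trans_eq hreg.symm).trans hle)
  · by_cases hN1 : N = ⊥
    · refine Or.inr (Or.inl ⟨?_, ?_⟩)
      · let e : G ⧸ N ≃* G := (QuotientGroup.quotientMulEquivOfEq hN1).trans QuotientGroup.quotientBot
        refine (Nat.card_congr (Equiv.ofBijective (fun c : Cfsg.Lib.Blocks.CoprimeTransitive.RegClass p (G ⧸ N) =>
          (⟨ConjClasses.map e.toMonoidHom c.1, by
            obtain ⟨g, hg, hr⟩ := c.2
            exact ⟨e g, by rw [← hg]; rfl, by rwa [e.orderOf_eq]⟩⟩ : Cfsg.Lib.Blocks.CoprimeTransitive.RegClass p G))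
          ⟨fun a b h => ?_, ?_⟩)).symm.trans (hreg.trans hk)
        · obtain ⟨x, hx⟩ := ConjClasses.exists_rep a.1
          obtain ⟨y, hy⟩ := ConjClasses.exists_rep b.1
          have h' := congrArg (fun c : Cfsg.Lib.Blocks.CoprimeTransitive.RegClass p G => c.1) h
          simp only [← hx, ← hy] at h'
          refine Subtype.ext ?_
          rw [← hx, ← hy]
          have h2 := MonoidHom.map_isConj e.symm.toMonoidHom (ConjClasses.mk_eq_mk_iff_isConj.1 h')
          exact ConjClasses.mk_eq_mk_iff_isConj.2 (by simpa using h2)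
        · rintro ⟨c, g, rfl, hg⟩
          exact ⟨⟨ConjClasses.mk (e.symm g), e.symm g, rfl, by rwa [e.symm.orderOf_eq]⟩,
            Subtype.ext (congrArg ConjClasses.mk (e.apply_symm_apply g))⟩
      · obtain ⟨a⟩ := S.affine hQ
        exact ⟨((QuotientGroup.quotientMulEquivOfEq hN1).trans QuotientGroup.quotientBot).symm.trans a⟩
    · exact Or.inl (by
        show p ≤ Nat.card (Cfsg.Lib.Blocks.CoprimeTransitive.RegClass p G)
        refine le_trans ?_ (hplus hN1).1
        rw [hreg.trans hk]
        omega)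
  · subst h11
    by_cases hN1 : N = ⊥
    · let e' : G ⧸ N ≃* G := (QuotientGroup.quotientMulEquivOfEq hN1).trans QuotientGroup.quotientBot
      have hcardG : Nat.card G = 121 * 120 := by
        rw [← Nat.card_congr e'.toEquiv, S.card_eq, hQ, hK]
      have hiff : ∀ c : ConjClasses (G ⧸ N), (∃ g, ConjClasses.mk g = c ∧ ¬ 11 ∣ orderOf g) ↔
          ∃ g, ConjClasses.mk g = ConjClasses.map e'.toMonoidHom c ∧ ¬ 11 ∣ orderOf g := by
        intro c
        obtain ⟨x, rfl⟩ := ConjClasses.exists_rep c
        constructor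
        · rintro ⟨g, hg, hr⟩
          exact ⟨e' g, congrArg (ConjClasses.map e'.toMonoidHom) hg, by rwa [e'.orderOf_eq]⟩
        · rintro ⟨g, hg, hr⟩
          refine ⟨e'.symm g, ?_, by rwa [e'.symm.orderOf_eq]⟩
          have h2 := MonoidHom.map_isConj e'.symm.toMonoidHom (ConjClasses.mk_eq_mk_iff_isConj.1 hg)
          exact ConjClasses.mk_eq_mk_iff_isConj.2 (by simpa using h2)
      have hbij : Function.Bijective (ConjClasses.map e'.toMonoidHom) := by
        refine ⟨fun a b h => ?_, ConjClasses.map_surjective e'.surjective⟩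
        obtain ⟨x, rfl⟩ := ConjClasses.exists_rep a
        obtain ⟨y, rfl⟩ := ConjClasses.exists_rep b
        have h2 := MonoidHom.map_isConj e'.symm.toMonoidHom (ConjClasses.mk_eq_mk_iff_isConj.1 h)
        exact ConjClasses.mk_eq_mk_iff_isConj.2 (by simpa using h2)
      refine Or.inr (Or.inr ⟨rfl, ?_, hcardG, K.map e'.toMonoidHom, ?_, ?_⟩)
      · exact (Nat.card_congr ((Equiv.ofBijective _ hbij).subtypeEquiv hiff)).symm.trans (hreg.trans hk)
      · obtain ⟨h1, h2, h3⟩ := S.frobenius (by rw [hK, hQ]) (fun h => by rw [h, Subgroup.card_bot] at hK; omega)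
        have hinj : Function.Injective e'.toMonoidHom := e'.injective
        refine ⟨fun h => h1 ((Subgroup.map_eq_bot_iff_of_injective K hinj).1 h), fun h => h2 ?_, fun g hg => ?_⟩
        · refine Subgroup.map_injective hinj (h.trans ?_)
          rw [← MonoidHom.range_eq_map, MonoidHom.range_eq_top.2 e'.surjective]
        · obtain ⟨g, rfl⟩ := e'.surjective g
          have h4 := h3 g fun hgK => hg (Subgroup.mem_map_of_mem _ hgK)
          have h5 : MulAut.conj (e' g) • K.map e'.toMonoidHom = (MulAut.conj g • K).map e'.toMonoidHom := by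
            ext x
            obtain ⟨x, rfl⟩ := e'.surjective x
            show _ ↔ e'.toMonoidHom x ∈ _
            rw [Subgroup.mem_map_iff_mem hinj, Subgroup.mem_pointwise_smul_iff_inv_smul_mem,
              Subgroup.mem_pointwise_smul_iff_inv_smul_mem]
            simp only [← map_inv, MulAut.smul_def, MulAut.conj_apply, inv_inv, ← map_mul]
            exact Subgroup.mem_map_iff_mem hinj
          rw [h5, ← Subgroup.map_inf _ _ _ hinj, h4, Subgroup.map_bot]
      · exact ⟨(K.equivMapOfInjective e'.toMonoidHom e'.injective).symm.trans e⟩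
    · left
      show 11 ≤ Nat.card (Cfsg.Lib.Blocks.CoprimeTransitive.RegClass 11 G)
      obtain ⟨h1, h2⟩ := hplus hN1
      by_contra hlt
      have h9 := hreg.trans hk
      obtain ⟨hfib, hone⟩ := h2 (le_trans (Nat.le_of_lt_succ (not_le.1 hlt)) (Nat.add_le_add_right h9.ge 1))
      exact Cfsg.Lib.Blocks.CoprimeTransitive.exceptional_false hN hN1 S hQ hK e hfib hone

end Cfsg.Agent.S4878
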