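import Cfsg.Statements.S5093
import Cfsg.Agent.Fusion.Hyperfocal
import Cfsg.Agent.Fusion.GroupSystem
import Cfsg.Agent.Transfer.Control
import Cfsg.Agent.Transfer.Tate

set_option autoImplicit false
open Cfsg

namespace Cfsg.Agent.S5093

open Cfsg.Lib.Fusion in
open scoped commutatorElement in
/-- Hyperfocal subgroup Theorem: for a finite group G with Sylow p-subgroup S, the hyperfocal subgroup of the fusion system of G on S equals S ∩ O^p(G), where O^p(G) is the subgroup generated by the elements of order prime to p. -/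
theorem result {G : Type*} [Group G] [Finite G] (p : ℕ) [Fact p.Prime] (S : Sylow p G) : (Cfsg.groupFusionSystem (S : Subgroup G)).hyperfocalSubgroup p = (S : Subgroup G) ⊓ Cfsg.pResidual p G := by
  haveI : Finite (S : Subgroup G) := Subtype.finite
  set F := Cfsg.groupFusionSystem (S : Subgroup G)
  have hF : F.IsSaturated p := saturated_group S
  set K := F.hyperfocalSubgroup p with hKdef
  have hKS : K ≤ (S : Subgroup G) := hyperfocalSubgroup_le F p
  set N := Cfsg.pResidual p G with hNdef
  haveI : N.Normal := Cfsg.Lib.Transfer.pResidual_normal'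
  refine le_antisymm ?_ ?_
  · rw [hKdef, FusionSystem.hyperfocalSubgroup, Subgroup.closure_le]
    rintro _ ⟨P, α, x, hP, hα, rfl⟩
    have hαm : (α : MulAut P) ∈ autInducedBy ⊤ P := autGroup_group (S := (S : Subgroup G)) hP ▸ α.2
    -- the automorphisms induced by the residual
    let H : Subgroup (F.autGroup P) := (autInducedBy N P).subgroupOf (F.autGroup P)
    have hH : Cfsg.pResidual p (F.autGroup P) ≤ H := by
      refine (Subgroup.closure_le _).mpr fun β hβ => ?_
      obtain ⟨g, -, eg⟩ := mem_autInducedBy.mp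
        (autGroup_group (S := (S : Subgroup G)) hP ▸ β.2 : (β : MulAut P) ∈ autInducedBy ⊤ P)
      have hgn := mem_normalizer_of_mem_autInducedBy eg
      obtain ⟨a, b, ha, -, hab, hao, hb⟩ := Cfsg.Lib.Transfer.exists_pPart p g
      have han : a ∈ Subgroup.normalizer (P : Set G) :=
        Subgroup.zpowers_le.mpr hgn ha
      have hbn : b ∈ Subgroup.normalizer (P : Set G) := by
        have : b = a⁻¹ * g := by rw [← hab]; group
        rw [this]
        exact Subgroup.mul_mem _ (Subgroup.inv_mem _ han) hgn
      -- the automorphism has order prime to `p`, so the `p`-part acts trivially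
      have e : (β : MulAut P) = conjAut P a han * conjAut P b hbn := by
        refine MulEquiv.ext fun y => Subtype.ext ?_
        rw [eg, MulAut.mul_apply, conjAut_apply, conjAut_apply, ← hab]
        group
      have h1 : orderOf (conjAut P a han) ∣ orderOf a := by
        have := orderOf_map_dvd P.normalizerMonoidHom (⟨a, han⟩ : Subgroup.normalizer (P : Set G))
        rwa [Subgroup.orderOf_mk] at this
      have hpart : conjAut P a han = 1 := by
        have hza : a ∈ Subgroup.zpowers g := ha
        obtain ⟨i, hi⟩ := Subgroup.mem_zpowers_iff.mp hza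
        have h2 : conjAut P a han = (β : MulAut P) ^ i := by
          have e1 : (β : MulAut P) = conjAut P g hgn :=
            MulEquiv.ext fun y => Subtype.ext (eg y)
          have e2 : P.normalizerMonoidHom (⟨g, hgn⟩ ^ i) = conjAut P a han :=
            congrArg P.normalizerMonoidHom (Subtype.ext hi)
          rw [← e2, map_zpow, e1]
          rfl
        refine orderOf_eq_one_iff.mp ?_
        obtain ⟨k, hk⟩ := hao
        refine Nat.eq_one_of_dvd_coprimes (Nat.Coprime.pow_left k (Nat.Coprime.symm hβ)) (hk ▸ h1) ?_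
        rw [h2, ← Subgroup.orderOf_coe β]
        exact orderOf_dvd_of_mem_zpowers ⟨i, rfl⟩
      refine mem_autInducedBy.mpr ⟨b, Cfsg.Lib.Transfer.mem_pResidual_of_coprime hb, fun y => ?_⟩
      show (((β : MulAut P) y : P) : G) = _
      rw [e, hpart, one_mul, conjAut_apply]
    obtain ⟨b, hb, eb⟩ := mem_autInducedBy.mp (hH hα)
    change ∀ y : P, (((α : MulAut P) y : P) : G) = _ at eb
    refine ⟨(S : Subgroup G).mul_mem ((S : Subgroup G).inv_mem (hP x.2)) (hP (((α : MulAut P) x).2)), ?_⟩
    show (x : G)⁻¹ * ((α : MulAut P) x : P) ∈ N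
    rw [eb]
    have h := N.mul_mem (Subgroup.Normal.conj_mem inferInstance b hb (x : G)⁻¹) (N.inv_mem hb)
    convert h using 1
    group
  · -- the converse, from the focal subgroup theorem in the residual
    set T := (S : Subgroup G) ⊓ N with hTdef
    obtain ⟨T', hT'⟩ : ∃ T' : Sylow p N, (T' : Subgroup N) = T.subgroupOf N := by
      obtain ⟨T₀⟩ : Nonempty (Sylow p N) := inferInstance
      obtain ⟨Q, hQ⟩ := (T₀.2.map N.subtype).exists_le_sylow
      obtain ⟨g, hg⟩ := MulAction.exists_smul_eq G Q S
      have hpT : IsPGroup p (T.subgroupOf N) :=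
        (S.isPGroup'.of_injective _ (Subgroup.inclusion_injective (inf_le_left : T ≤ (S : Subgroup G)))).of_injective
          (Subgroup.subgroupOfEquivOfLe (inf_le_right : T ≤ N)).toMonoidHom
          (Subgroup.subgroupOfEquivOfLe (inf_le_right : T ≤ N)).injective
      have hle : Nat.card T₀ ≤ Nat.card (T.subgroupOf N) := by
        refine Nat.card_le_card_of_injective (fun y => (⟨⟨g * ((y : N) : G) * g⁻¹,
          Subgroup.Normal.conj_mem inferInstance _ (y : N).2 g⟩, ?_,
            Subgroup.Normal.conj_mem inferInstance _ (y : N).2 g⟩ : T.subgroupOf N)) fun y z h => ?_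
        · show g * ((y : N) : G) * g⁻¹ ∈ (S : Subgroup G)
          rw [← hg]
          exact ⟨_, hQ ⟨y, y.2, rfl⟩, rfl⟩
        · have h' := congrArg (fun t : T.subgroupOf N => ((t : N) : G)) h
          simp only [mul_left_inj, mul_right_inj] at h'
          exact Subtype.ext (Subtype.ext h')
      exact ⟨Sylow.ofCard (T.subgroupOf N) (by
        obtain ⟨k, hk⟩ := hpT.exists_card_eq
        obtain ⟨U, hU⟩ := hpT.exists_le_sylow
        have h1 := Subgroup.card_le_of_le hU
        have h2 : Nat.card U = Nat.card T₀ := by rw [U.card_eq_multiplicity, T₀.card_eq_multiplicity]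
        rw [show Nat.card (T.subgroupOf N) = Nat.card U by omega, U.card_eq_multiplicity]), rfl⟩
    have hres : Cfsg.pResidual p N = ⊤ := by
      have h := Cfsg.Lib.Transfer.isPGroup_pResidual_idem (p := p) (⊤ : Subgroup G)
      have e : (Cfsg.pResidual p (⊤ : Subgroup G)).map (⊤ : Subgroup G).subtype = N := by
        refine le_antisymm ?_ ((Subgroup.closure_le _).mpr fun x hx => ?_)
        · exact Cfsg.Lib.Transfer.pResidual_map_le _
        · refine ⟨⟨x, Subgroup.mem_top _⟩, Cfsg.Lib.Transfer.mem_pResidual_of_coprime ?_, rfl⟩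
          rwa [Subgroup.orderOf_mk]
      exact e ▸ h
    haveI hKn : (K.subgroupOf (S : Subgroup G)).Normal := ⟨fun a ha g =>
      conj_mem_hyperfocalSubgroup g.2 ha⟩
    -- modulo the hyperfocal subgroup `T` is its own commutator with `S`
    have hT : T ≤ ⁅T, (S : Subgroup G)⁆ ⊔ K := by
      intro t ht
      have h1 : (⟨t, ht.2⟩ : N) ∈ (T' : Subgroup N).focalSubgroup := by
        refine Cfsg.Lib.Transfer.pResidual_inf_le_focal T' ⟨?_, ?_⟩
        · rw [hres]; exact Subgroup.mem_top _
        · rw [hT']; exact ht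
      have h2 : (T' : Subgroup N).focalSubgroup ≤ (⁅T, (S : Subgroup G)⁆ ⊔ K).comap N.subtype := by
        rw [Subgroup.focalSubgroup_def, Subgroup.closure_le]
        rintro _ ⟨hzT, x, hx, u, rfl⟩
        rw [hT'] at hx hzT
        have hxT : (x : G) ∈ T := hx
        have hzT' : ((⁅x, u⁆ : N) : G) ∈ T := hzT
        rw [commutatorElement_def] at hzT'
        simp only [Subgroup.coe_mul, Subgroup.coe_inv] at hzT'
        have hy : (u : G) * (x : G)⁻¹ * (u : G)⁻¹ ∈ T := by
          have := T.mul_mem (T.inv_mem hxT) hzT'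
          convert this using 1
          group
        have hm : IsMap F (Subgroup.zpowers (x : G)⁻¹) fun y => (u : G) * y * (u : G)⁻¹ := by
          refine isMap_group_iff.mpr ⟨Subgroup.zpowers_le.mpr ((S : Subgroup G).inv_mem hxT.1),
            fun y hy' => ?_, u, fun _ _ => rfl⟩
          obtain ⟨i, rfl⟩ := Subgroup.mem_zpowers_iff.mp hy'
          rw [← conj_zpow]
          exact (S : Subgroup G).zpow_mem hy.1 i
        obtain ⟨s, hs, h⟩ := innerMod_hyperfocal S.isPGroup' hF hm
        have h3 := h _ (Subgroup.mem_zpowers _)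
        have h4 := Subgroup.mul_mem _
          (Subgroup.mem_sup_left (T := K) (Subgroup.commutator_mem_commutator hxT hs))
          (Subgroup.mem_sup_right h3)
        change ((⁅x, u⁆ : N) : G) ∈ ⁅T, (S : Subgroup G)⁆ ⊔ K
        rw [commutatorElement_def] at h4 ⊢
        simp only [Subgroup.coe_mul, Subgroup.coe_inv]
        convert h4 using 1
        group
      exact h2 h1
    haveI : Group.IsNilpotent ((S : Subgroup G) ⧸ K.subgroupOf (S : Subgroup G)) :=
      (S.isPGroup'.to_quotient _).isNilpotent
    set π := QuotientGroup.mk' (K.subgroupOf (S : Subgroup G))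
    obtain ⟨n, hn⟩ := Subgroup.nilpotent_iff_lowerCentralSeries.mp
        (inferInstance : Group.IsNilpotent ((S : Subgroup G) ⧸ K.subgroupOf (S : Subgroup G)))
    have hle : ∀ i, (T.subgroupOf (S : Subgroup G)).map π ≤
        (⊤ : Subgroup ((S : Subgroup G) ⧸ K.subgroupOf (S : Subgroup G))).lowerCentralSeries i := by
      intro i
      induction i with
      | zero => simp
      | succ i ih =>
        set L := (⊤ : Subgroup ((S : Subgroup G) ⧸ K.subgroupOf (S : Subgroup G))).lowerCentralSeries (i + 1)
        have hsub : ⁅T, (S : Subgroup G)⁆ ⊔ K ≤ (L.comap π).map (S : Subgroup G).subtype := by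
          refine sup_le (Subgroup.commutator_le.mpr fun a ha b hb => ?_) fun k hk =>
            ⟨⟨k, hKS hk⟩, ?_, rfl⟩
          · refine ⟨⁅(⟨a, ha.1⟩ : (S : Subgroup G)), ⟨b, hb⟩⁆, ?_, rfl⟩
            show π _ ∈ L
            rw [map_commutatorElement]
            exact Subgroup.commutator_mem_commutator (ih ⟨_, ha, rfl⟩) (Subgroup.mem_top _)
          · show π _ ∈ L
            rw [show π ⟨k, hKS hk⟩ = 1 from (QuotientGroup.eq_one_iff _).mpr hk]
            exact L.one_mem
        rintro _ ⟨t, ht, rfl⟩
        obtain ⟨w, hw, e⟩ := hsub (hT ht)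
        exact (Subtype.ext e : w = t) ▸ hw
    intro t ht
    have h5 := hle n ⟨⟨t, ht.1⟩, ht, rfl⟩
    rw [hn, Subgroup.mem_bot] at h5
    exact (QuotientGroup.eq_one_iff (N := K.subgroupOf (S : Subgroup G)) _).mp h5

end Cfsg.Agent.S5093
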