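import Cfsg.Statements.S0344
import Cfsg.Agent.RankOne.SharpEven
import Cfsg.Agent.RankOne.ZassenhausPSL

set_option autoImplicit false
open Cfsg

namespace Cfsg.Agent.S0344

/-- A finite simple Zassenhaus group with a two-point stabiliser of even order is isomorphic to `PSL₂(F)` for a finite
field `F` with more than three elements. -/
theorem result {G Ω : Type*} [Group G] [Finite G] [MulAction G Ω] [Finite Ω]
    (hZ : Cfsg.IsZassenhausGroup G Ω) [IsSimpleGroup G]
    {a b : Ω} (hab : a ≠ b) (heven : Even (Nat.card ↥(MulAction.stabilizer G a ⊓ MulAction.stabilizer G b))) :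
    ∃ (F : Type) (_ : Field F) (_ : Fintype F), 3 < Fintype.card F ∧ Nonempty (G ≃* Matrix.ProjectiveSpecialLinearGroup (Fin 2) F) := by
  classical
  have := Fintype.ofFinite Ω
  obtain ⟨h, hh⟩ : ∃ h, Fintype.card Ω = h + 1 :=
    ⟨_, (Nat.sub_add_cancel (Fintype.card_pos_iff.mpr ⟨a⟩)).symm⟩
  have hh2 := Cfsg.Lib.OddChar.Zassenhaus.two_le hZ hab hh
  obtain ⟨H, hHa, hHc, hHf⟩ := Cfsg.Lib.OddChar.Zassenhaus.exists_kernel hZ hab
  have hn := Cfsg.Lib.OddChar.Zassenhaus.kernel_normal hZ hab hh hHa hHc hHf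
  have hdvd := (Cfsg.Lib.OddChar.Zassenhaus.fpf hab hZ hHa hHf).card_dvd
    (A := Cfsg.Lib.OddChar.Zassenhaus.stab₂ G a b) (fun x hx => Subgroup.mem_normalizer_fintype fun u hu => hn x hx.1 u hu)
  have hle := Cfsg.Lib.RankOne.le_two_mul_of_even hZ hab heven
  rw [show Nat.card H - 1 = h - 1 by omega] at hdvd
  obtain ⟨k, hk⟩ := hdvd
  have hpos := Cfsg.Lib.OddChar.Zassenhaus.stab₂_ne_bot hZ hab
  set e := Nat.card (Cfsg.Lib.OddChar.Zassenhaus.stab₂ G a b) with he
  change Fintype.card Ω - 2 ≤ 2 * e at hle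
  have hk2 : k ≤ 2 := by
    by_contra hc
    have := Nat.mul_le_mul (le_refl e) (show 3 ≤ k by omega)
    omega
  interval_cases k
  · omega
  · exact (Cfsg.Lib.RankOne.no_sharp_even hZ hab heven (by omega)).elim
  · have hd : 2 * e + 2 = Fintype.card Ω := by omega
    have hab' := (Cfsg.Lib.RankOne.kernel_elementary hZ hab (show Fintype.card Ω - 2 ≤ 2 * e by omega) hHa hHc hHf).1
    obtain ⟨F, iF, iFF, hF, -, hiso⟩ := Cfsg.Lib.RankOne.zassenhaus_psl hZ hab hd hHa hHc hHf hab'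
    refine @Exists.intro _ _ F (@Exists.intro _ _ iF (@Exists.intro _ _ iFF ⟨?_, hiso⟩))
    omega

end Cfsg.Agent.S0344
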