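import Cfsg.Statements.S2497
import Cfsg.Agent.CITGroups.Eppo
-- import your own Cfsg.Agent.* helpers here

set_option autoImplicit false
open Cfsg

namespace Cfsg.Agent.S2497

/-- Let G be a finite non-abelian simple group in which every non-identity element has prime-power order. Then G is isomorphic to one of: the alternating group of degree 6, PSL(2,q) for q ∈ {4, 7, 8, 17}, PSL(3,4), or the Suzuki group over the field with 8 or with 32 elements. -/
theorem result {G : Type*} [Group G] [Finite G] [IsSimpleGroup G] (hG : ¬ IsMulCommutative G)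
    (h : ∀ g : G, g ≠ 1 → IsPrimePow (orderOf g)) :
    Nonempty (G ≃* alternatingGroup (Fin 6)) ∨
    (∃ (F : Type) (_ : Field F) (_ : Fintype F), Fintype.card F ∈ ({4, 7, 8, 17} : Finset ℕ) ∧
      Nonempty (G ≃* Matrix.ProjectiveSpecialLinearGroup (Fin 2) F)) ∨
    (∃ (F : Type) (_ : Field F) (_ : Fintype F), Fintype.card F = 4 ∧
      Nonempty (G ≃* Matrix.ProjectiveSpecialLinearGroup (Fin 3) F)) ∨
    (∃ (F : Type) (_ : Field F) (_ : Fintype F),
      (Fintype.card F = 8 ∧ Nonempty (G ≃* ↥(Cfsg.Lie.Sz F 4))) ∨ (Fintype.card F = 32 ∧ Nonempty (G ≃* ↥(Cfsg.Lie.Sz F 8)))) := by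
  have hcit := Cfsg.Lib.CITGroups.Eppo.PP.cit h
  have hns : ¬ Group.IsSolvable G := fun hs => by
    haveI := hs
    exact hG ⟨⟨fun a b => IsSimpleGroup.comm_iff_isSolvable.mpr hs a b⟩⟩
  rcases Cfsg.Lib.CITGroups.classification_of (Cfsg.Lie.IsoSuzuki G)
      (fun M hZ => Cfsg.Lib.SuzukiUnique.zassenhaus_iso (G := G) (Ω := G ⧸ M) hZ) hcit hG with
    ⟨F, i1, i2, hq, ⟨e⟩⟩ | h3 | ⟨F, i1, i2, m, hm, hF, ⟨e⟩⟩
  · have hns' : ¬ Group.IsSolvable (Matrix.ProjectiveSpecialLinearGroup (Fin 2) F) := fun hs => by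
      haveI := hs
      exact hns (Group.isSolvable_of_isSolvable_injective (f := e.toMonoidHom) e.injective)
    have hpp : Cfsg.Lib.CITGroups.Eppo.PP (Matrix.ProjectiveSpecialLinearGroup (Fin 2) F) :=
      Cfsg.Lib.CITGroups.Eppo.PP.of_injective h e.symm.toMonoidHom e.symm.injective
    have hc := Cfsg.Lib.CITGroups.Eppo.psl_cases hpp hns' hq
    simp only [Finset.mem_insert, Finset.mem_singleton] at hc
    rcases hc with h4 | h5 | h7 | h8 | h9 | h17
    · exact Or.inr (Or.inl ⟨F, i1, i2, by simp [h4], ⟨e⟩⟩)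
    · haveI : Fact (Nat.Prime 2) := ⟨Nat.prime_two⟩
      letI : Fintype (GaloisField 2 2) := Fintype.ofFinite _
      have h4 : Fintype.card (GaloisField 2 2) = 4 := by
        rw [← Nat.card_eq_fintype_card, GaloisField.card 2 2 two_ne_zero]
        norm_num
      obtain ⟨e5⟩ := Cfsg.Agent.S0253.result h5
      obtain ⟨e4⟩ := Cfsg.Agent.S0252.result h4
      exact Or.inr (Or.inl ⟨GaloisField 2 2, inferInstance, inferInstance, by simp [h4],
        ⟨(e.trans e5).trans e4.symm⟩⟩)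
    · exact Or.inr (Or.inl ⟨F, i1, i2, by simp [h7], ⟨e⟩⟩)
    · exact Or.inr (Or.inl ⟨F, i1, i2, by simp [h8], ⟨e⟩⟩)
    · obtain ⟨e9⟩ := Cfsg.Agent.S0254.result h9
      exact Or.inl ⟨e.trans e9⟩
    · exact Or.inr (Or.inl ⟨F, i1, i2, by simp [h17], ⟨e⟩⟩)
  · exact Or.inr (Or.inr (Or.inl h3))
  · refine Or.inr (Or.inr (Or.inr ⟨F, i1, i2, ?_⟩))
    rcases Cfsg.Lib.CITGroups.Eppo.sz_cases hm hF
        (Cfsg.Lib.CITGroups.Eppo.PP.of_injective h e.symm.toMonoidHom e.symm.injective) with rfl | rfl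
    · exact Or.inl ⟨by rw [hF]; norm_num, ⟨e⟩⟩
    · exact Or.inr ⟨by rw [hF]; norm_num, ⟨e⟩⟩

end Cfsg.Agent.S2497
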