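import Cfsg.Agent.Elementary.ThreePrimes
import Mathlib
import Cfsg.Statements.S3633
-- import your own Cfsg.Agent.* helpers here

set_option autoImplicit false
open Cfsg

namespace Cfsg.Agent.S3633

/-- Let G be a finite group and ρ a set of at least three prime divisors of the order of G that are pairwise non-adjacent in the prime graph (no element of order rs for distinct r, s ∈ ρ). Then at most one prime of ρ divides the order of any given solvable normal subgroup of G; in particular G is not solvable. -/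
theorem result {G : Type*} [Group G] [Finite G] (ρ : Finset ℕ) (hρ : 3 ≤ ρ.card) (hc : ((∀ r ∈ ρ, r.Prime ∧ r ∣ Nat.card G) ∧ (∀ r ∈ ρ, ∀ s ∈ ρ, r ≠ s → ¬ ∃ x : G, orderOf x = r * s)))
    (K : Subgroup G) [K.Normal] (hK : Group.IsSolvable ↥K) :
    (∀ r ∈ ρ, ∀ s ∈ ρ, r ∣ Nat.card ↥K → s ∣ Nat.card ↥K → r = s) ∧ ¬ Group.IsSolvable G := by
  classical
  obtain ⟨hd, hnone⟩ := hc
  refine ⟨fun r hr s hs hrK hsK => ?_, fun hG => ?_⟩
  swap
  · haveI := hG
    obtain ⟨a, ha, b, hb, hab, x, hx⟩ := Cfsg.Lib.ThreePrimes.edge_solvable ρ hρ hd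
    exact hnone a ha b hb hab ⟨x, hx⟩
  by_contra hrs
  obtain ⟨t, ht, htrs⟩ : ∃ t ∈ ρ, t ∉ ({r, s} : Finset ℕ) := by
    refine Finset.exists_mem_notMem_of_card_lt_card ?_
    have : ({r, s} : Finset ℕ).card ≤ 2 := Finset.card_le_two
    omega
  simp only [Finset.mem_insert, Finset.mem_singleton, not_or] at htrs
  haveI := Fact.mk (hd t ht).1
  obtain ⟨T⟩ := (inferInstance : Nonempty (Sylow t G))
  set H := K ⊔ (T : Subgroup G)
  haveI : Group.IsSolvable H := by
    haveI := hK
    set f := (QuotientGroup.mk' K).subgroupMap H with hf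
    have himg : H.map (QuotientGroup.mk' K) = (T : Subgroup G).map (QuotientGroup.mk' K) := by
      rw [Subgroup.map_sup, (Subgroup.map_eq_bot_iff K).mpr (QuotientGroup.ker_mk' K).ge, bot_sup_eq]
    haveI : Group.IsSolvable (H.map (QuotientGroup.mk' K)) := by
      rw [himg]
      haveI := (T.2.map (QuotientGroup.mk' K)).isNilpotent
      infer_instance
    refine Group.isSolvable_of_ker_le_range (Subgroup.inclusion (le_sup_left : K ≤ H)) f fun x hx => ?_
    have hxK : (x : G) ∈ K := (QuotientGroup.eq_one_iff _).mp (congrArg Subtype.val hx)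
    exact ⟨⟨x, hxK⟩, rfl⟩
  obtain ⟨a, ha, b, hb, hab, hedge⟩ := Cfsg.Lib.ThreePrimes.edge_solvable (G := H) {r, s, t}
    (by rw [Finset.card_insert_of_notMem (by simp [hrs, Ne.symm htrs.1]), Finset.card_pair (Ne.symm htrs.2)])
    (fun u hu => by
      simp only [Finset.mem_insert, Finset.mem_singleton] at hu
      rcases hu with rfl | rfl | rfl
      · exact ⟨(hd u hr).1, hrK.trans (Subgroup.card_dvd_of_le le_sup_left)⟩
      · exact ⟨(hd u hs).1, hsK.trans (Subgroup.card_dvd_of_le le_sup_left)⟩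
      · exact ⟨(hd u ht).1, (T.dvd_card_of_dvd_card (hd u ht).2).trans (Subgroup.card_dvd_of_le le_sup_right)⟩)
  have hsub : ∀ u ∈ ({r, s, t} : Finset ℕ), u ∈ ρ := fun u hu => by
    simp only [Finset.mem_insert, Finset.mem_singleton] at hu
    rcases hu with rfl | rfl | rfl <;> assumption
  obtain ⟨x, hx⟩ := hedge.of_injective H.subtype H.subtype_injective
  exact hnone a (hsub a ha) b (hsub b hb) hab ⟨x, hx⟩

end Cfsg.Agent.S3633
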