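import Cfsg.Statements.S4216
import Cfsg.Agent.Transfer.Control

set_option autoImplicit false
open Cfsg
open scoped commutatorElement

namespace Cfsg.Agent.S4216

/-- Grün's first Theorem: if `P` is a Sylow `p`-subgroup of the finite group `G`, then `P ∩ G'` is the subgroup generated by `P ∩ N_G(P)'` together with the subgroups `P ∩ z P' z⁻¹` for all `z ∈ G`, where `'` denotes the derived subgroup and `N_G(P)` the normalizer of `P`. -/
theorem result {G : Type*} [Group G] [Finite G] {p : ℕ} [Fact p.Prime] (P : Sylow p G) : (P : Subgroup G) ⊓ commutator G = ((P : Subgroup G) ⊓ ⁅Subgroup.normalizer ((P : Subgroup G) : Set G), Subgroup.normalizer ((P : Subgroup G) : Set G)⁆) ⊔ ⨆ z : G, (P : Subgroup G) ⊓ (⁅(P : Subgroup G), (P : Subgroup G)⁆).map (MulAut.conj z).toMonoidHom := by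
  classical
  set Q := (P : Subgroup G) with hQ
  set N := Subgroup.normalizer (Q : Set G)
  set D : G → Subgroup G := fun z => Q ⊓ (⁅Q, Q⁆).map (MulAut.conj z).toMonoidHom with hD
  set T := (Q ⊓ ⁅N, N⁆) ⊔ ⨆ z : G, D z with hTdef
  have hTQ : T ≤ Q := sup_le inf_le_left (iSup_le fun z => inf_le_left)
  have hTG : T ≤ commutator G := by
    refine sup_le (inf_le_right.trans (Subgroup.commutator_mono le_top le_top)) (iSup_le fun z => ?_)
    refine inf_le_right.trans ?_
    refine le_trans (Subgroup.map_mono (Subgroup.commutator_mono le_top le_top : ⁅Q, Q⁆ ≤ commutator G)) ?_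
    rintro _ ⟨y, hy, rfl⟩
    exact Subgroup.Normal.conj_mem inferInstance y hy z
  refine le_antisymm ?_ (le_inf hTQ hTG)
  have hQ'T : ⁅Q, Q⁆ ≤ T := fun y hy => Subgroup.mem_sup_right (Subgroup.mem_iSup_of_mem (1 : G)
    ⟨(Subgroup.commutator_le_self Q) hy, y, hy, by simp⟩)
  haveI hTn : (T.subgroupOf Q).Normal := by
    refine Subgroup.normal_subgroupOf_of_le_normalizer fun q hq => ?_
    have hconj : ∀ q ∈ Q, ∀ t ∈ T, q * t * q⁻¹ ∈ T := by
      intro q hq t ht
      have h1 : ⁅q, t⁆ ∈ T := hQ'T (Subgroup.commutator_mem_commutator hq (hTQ ht))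
      have h2 := mul_mem h1 ht
      rwa [commutatorElement_def, inv_mul_cancel_right] at h2
    refine Subgroup.mem_normalizer_iff.2 fun t => ⟨hconj q hq t, fun ht => ?_⟩
    have := hconj q⁻¹ (inv_mem hq) _ ht
    simpa [mul_assoc] using this
  haveI hcom : IsMulCommutative (Q ⧸ T.subgroupOf Q) := by
    refine Subgroup.Normal.quotient_commutative_iff_commutator_le.2 ?_
    rw [commutator_def, Subgroup.commutator_le]
    intro a _ b _
    exact hQ'T (Subgroup.commutator_mem_commutator a.2 b.2)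
  letI : CommGroup (Q ⧸ T.subgroupOf Q) := { mul_comm := mul_comm' }
  let φ : Q →* Q ⧸ T.subgroupOf Q := QuotientGroup.mk' _
  have hmem : ∀ (u : G) (hu : u ∈ Q), φ ⟨u, hu⟩ = 1 ↔ u ∈ T := fun u hu => QuotientGroup.eq_one_iff _
  -- minimal counterexample by order
  suffices ∀ n : ℕ, ∀ u ∈ Q ⊓ commutator G, orderOf u = n → u ∈ T from fun u hu => this _ u hu rfl
  intro n
  induction n using Nat.strong_induction_on with
  | _ n ih =>
  intro u ⟨huQ, huG⟩ hun
  by_contra huT
  have hu1 : u ≠ 1 := fun h => huT (h ▸ one_mem T)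
  have hp : p.Prime := Fact.out
  have hppow : ∀ v ∈ Q, v ^ p ≠ v ∨ v = 1 := fun v hv => by
    by_cases hv1 : v = 1
    · exact Or.inr hv1
    left
    intro h
    have h2 : v ^ (p - 1) = 1 := by
      have h4 : v ^ (p - 1) * v = v := by rw [← pow_succ, Nat.sub_add_cancel hp.one_le, h]
      exact mul_eq_right.1 h4
    have h5 := orderOf_dvd_of_pow_eq_one h2
    obtain ⟨i, hi⟩ := IsPGroup.iff_orderOf.1 P.2 (⟨v, hv⟩ : Q)
    rw [Subgroup.orderOf_mk] at hi
    rcases Nat.eq_zero_or_pos i with rfl | hi0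
    · rw [pow_zero, orderOf_eq_one_iff] at hi; exact hv1 hi
    · have := Nat.le_of_dvd (by have := hp.two_le; omega) ((dvd_pow_self p hi0.ne').trans (hi ▸ h5))
      have := hp.two_le
      omega
  -- powers `v ^ r`, `p ∣ r`, of elements of order at most `n` are in `T`
  have hsmall : ∀ v ∈ Q ⊓ commutator G, orderOf v = n → ∀ r : ℕ, p ∣ r → v ^ r ∈ T := by
    intro v hv hvn r hr
    obtain ⟨s, rfl⟩ := hr
    rw [pow_mul]
    refine pow_mem (ih (orderOf (v ^ p)) ?_ _ (pow_mem hv p) rfl) s
    obtain ⟨i, hi⟩ := IsPGroup.iff_orderOf.1 P.2 (⟨v, hv.1⟩ : Q)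
    rw [Subgroup.orderOf_mk] at hi
    rcases Nat.eq_zero_or_pos i with rfl | hi0
    · rw [pow_zero] at hi
      exact absurd (orderOf_eq_one_iff.1 (hun.trans (hvn.symm.trans hi))) hu1
    · rw [orderOf_pow, hvn, Nat.gcd_eq_right (hvn ▸ hi ▸ dvd_pow_self p hi0.ne')]
      exact Nat.div_lt_self (hun ▸ orderOf_pos u) hp.one_lt
  -- the transfer of `u`
  haveI := Fintype.ofFinite (Quotient (MulAction.orbitRel (Subgroup.zpowers u) (G ⧸ Q)))
  have h0 : MonoidHom.transfer φ u = 1 := Abelianization.commutator_subset_ker _ huG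
  rw [MonoidHom.transfer_eq_prod_quotient_orbitRel_zpowers_quot] at h0
  haveI := Fintype.ofFinite (G ⧸ Q)
  let F : G ⧸ Q → Q ⧸ T.subgroupOf Q := fun q =>
    if h : q.out⁻¹ * u * q.out ∈ Q then φ ⟨q.out⁻¹ * u * q.out, h⟩ else 1
  let fixd : Finset (G ⧸ Q) := Finset.univ.filter fun q => u • q = q
  have hfixQ : ∀ q : G ⧸ Q, u • q = q ↔ q.out⁻¹ * u * q.out ∈ Q := by
    intro q
    conv_lhs => rw [← QuotientGroup.out_eq' q, MulAction.Quotient.smul_mk, QuotientGroup.eq, smul_eq_mul]
    constructor <;> intro h <;> simpa [mul_assoc] using inv_mem h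
  have hprod : ∏ q ∈ fixd, F q = 1 := by
    rw [← h0]
    refine (Finset.prod_nbij' (fun ω => ω.out) (fun q => Quotient.mk'' q) ?_ ?_ ?_ ?_ ?_).symm.trans
      (Finset.prod_filter_of_ne
        (p := fun ω : Quotient (MulAction.orbitRel (Subgroup.zpowers u) (G ⧸ Q)) => u • ω.out = ω.out) ?_)
    · intro ω hω
      simpa [fixd] using hω
    · intro q hq
      replace hq : u • q = q := by simpa [fixd] using hq
      suffices hgoal : u • (Quotient.mk'' q : Quotient (MulAction.orbitRel (Subgroup.zpowers u) (G ⧸ Q))).out =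
          (Quotient.mk'' q : Quotient (MulAction.orbitRel (Subgroup.zpowers u) (G ⧸ Q))).out by simpa using hgoal
      have h1 : (Quotient.mk'' q : Quotient (MulAction.orbitRel (Subgroup.zpowers u) (G ⧸ Q))).out = q := by
        obtain ⟨⟨z, i, hz⟩, hzq⟩ : (Quotient.mk'' q : Quotient (MulAction.orbitRel (Subgroup.zpowers u) (G ⧸ Q))).out ∈
            MulAction.orbit (Subgroup.zpowers u) q := MulAction.orbitRel_apply.1 (Quotient.mk_out q)
        rw [← hzq]
        show z • q = q
        rw [← hz]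
        exact MulAction.mem_stabilizer_iff.1 (zpow_mem (MulAction.mem_stabilizer_iff.2 hq) i)
      rw [h1, hq]
    · exact fun ω _ => Quotient.out_eq' ω
    · intro q hq
      replace hq : u • q = q := by simpa [fixd] using hq
      obtain ⟨⟨z, i, hz⟩, hzq⟩ : (Quotient.mk'' q : Quotient (MulAction.orbitRel (Subgroup.zpowers u) (G ⧸ Q))).out ∈
          MulAction.orbit (Subgroup.zpowers u) q := MulAction.orbitRel_apply.1 (Quotient.mk_out q)
      rw [← hzq]
      show z • q = q
      rw [← hz]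
      exact MulAction.mem_stabilizer_iff.1 (zpow_mem (MulAction.mem_stabilizer_iff.2 hq) i)
    · intro ω hω
      simp only [Finset.mem_filter, Finset.mem_univ, true_and] at hω
      have hper : Function.minimalPeriod (u • ·) ω.out = 1 :=
        Function.minimalPeriod_eq_one_iff_isFixedPt.2 hω
      simp only [F, dif_pos ((hfixQ _).1 hω)]
      refine congrArg φ (Subtype.ext ?_)
      show _ * u ^ Function.minimalPeriod (u • ·) ω.out * _ = _
      rw [hper, pow_one]
    · intro ω _ hne
      by_contra hnf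
      apply hne
      rw [hmem]
      have hdvd : p ∣ Function.minimalPeriod (u • ·) ω.out := by
        have h1 : Function.minimalPeriod (u • ·) ω.out ∣ orderOf u := by
          rw [← Function.isPeriodicPt_iff_minimalPeriod_dvd]
          show (u • ·)^[orderOf u] ω.out = ω.out
          rw [smul_iterate]
          show u ^ orderOf u • ω.out = ω.out
          rw [pow_orderOf_eq_one, one_smul]
        obtain ⟨i, hi⟩ := IsPGroup.iff_orderOf.1 P.2 (⟨u, huQ⟩ : Q)
        rw [Subgroup.orderOf_mk] at hi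
        obtain ⟨j, -, hj⟩ := (Nat.dvd_prime_pow hp).1 (hi ▸ h1)
        rcases Nat.eq_zero_or_pos j with rfl | hj0
        · rw [pow_zero] at hj
          exact absurd (Function.minimalPeriod_eq_one_iff_isFixedPt.1 hj) hnf
        · exact hj ▸ dvd_pow_self p hj0.ne'
      obtain ⟨r, hr⟩ := hdvd
      have hur : u ^ Function.minimalPeriod (u • ·) ω.out ∈ commutator G := pow_mem huG _
      set v := (ω.out.out)⁻¹ * u ^ Function.minimalPeriod (u • ·) ω.out * ω.out.out
      have hvQ : v ∈ Q := QuotientGroup.out_conj_pow_minimalPeriod_mem Q u ω.out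
      have hvG : v ∈ commutator G := by
        have := Subgroup.Normal.conj_mem inferInstance _ hur (ω.out.out)⁻¹
        simpa using this
      refine ih (orderOf v) ?_ v ⟨hvQ, hvG⟩ rfl
      rw [show v = MulAut.conj (ω.out.out)⁻¹ (u ^ Function.minimalPeriod (u • ·) ω.out) by simp [v],
        MulEquiv.orderOf_eq, hr, pow_mul, ← hun]
      refine lt_of_le_of_lt (Nat.le_of_dvd (orderOf_pos _) (orderOf_pow_dvd r)) ?_
      obtain ⟨i, hi⟩ := IsPGroup.iff_orderOf.1 P.2 (⟨u, huQ⟩ : Q)
      rw [Subgroup.orderOf_mk] at hi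
      rcases Nat.eq_zero_or_pos i with rfl | hi0
      · rw [pow_zero, orderOf_eq_one_iff] at hi; exact absurd hi hu1
      · rw [orderOf_pow, Nat.gcd_eq_right (hi ▸ dvd_pow_self p hi0.ne')]
        exact Nat.div_lt_self (orderOf_pos u) hp.one_lt
  -- group the fixed cosets by the orbits of `Q`
  haveI := Fintype.ofFinite (MulAction.orbitRel.Quotient Q (G ⧸ Q))
  rw [← Finset.prod_fiberwise fixd (fun q => (Quotient.mk'' q : MulAction.orbitRel.Quotient Q (G ⧸ Q))) F] at hprod
  have hval : ∀ q q' : G ⧸ Q, u • q = q → u • q' = q' →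
      (Quotient.mk'' q : MulAction.orbitRel.Quotient Q (G ⧸ Q)) = Quotient.mk'' q' → F q = F q' := by
    intro q q' hq hq' he
    obtain ⟨⟨h, hh⟩, hhq⟩ : q ∈ MulAction.orbit Q q' := MulAction.orbitRel_apply.1 (Quotient.exact' he)
    have h1 := (hfixQ q).1 hq
    have h2 := (hfixQ q').1 hq'
    simp only [F, dif_pos h1, dif_pos h2]
    refine QuotientGroup.eq.2 (Subgroup.mem_subgroupOf.2 ?_)
    set g := q'.out
    obtain ⟨a, ha, hout⟩ : ∃ a ∈ Q, q.out = h * g * a := by
      refine ⟨(h * g)⁻¹ * q.out, QuotientGroup.eq.1 ?_, by group⟩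
      rw [QuotientGroup.out_eq']
      conv_rhs => rw [← hhq, ← QuotientGroup.out_eq' q']
      rfl
    have h3 : g⁻¹ * (h⁻¹ * u * h) * g ∈ Q := by
      have := mul_mem (mul_mem ha h1) (inv_mem ha)
      rw [hout] at this
      simpa [mul_assoc] using this
    have hc : (g⁻¹ * u * g)⁻¹ * (g⁻¹ * (h⁻¹ * u * h) * g) ∈ T := by
      refine Subgroup.mem_sup_right (Subgroup.mem_iSup_of_mem g⁻¹ (Subgroup.mem_inf.2 ⟨mul_mem (inv_mem h2) h3, u⁻¹ * h⁻¹ * u * h, ?_, ?_⟩))
      · rw [show u⁻¹ * h⁻¹ * u * h = ⁅u⁻¹, h⁻¹⁆ by rw [commutatorElement_def]; group]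
        exact Subgroup.commutator_mem_commutator (inv_mem huQ) (inv_mem hh)
      · simp [mul_assoc]
    have hca : ⁅a⁻¹, g⁻¹ * (h⁻¹ * u * h) * g⁆ ∈ T :=
      hQ'T (Subgroup.commutator_mem_commutator (inv_mem ha) h3)
    show (q.out⁻¹ * u * q.out)⁻¹ * (g⁻¹ * u * g) ∈ T
    rw [hout, show ((h * g * a)⁻¹ * u * (h * g * a))⁻¹ * (g⁻¹ * u * g) =
      (g⁻¹ * (h⁻¹ * u * h) * g)⁻¹ * ⁅a⁻¹, g⁻¹ * (h⁻¹ * u * h) * g⁆⁻¹ * (g⁻¹ * (h⁻¹ * u * h) * g) *
      ((g⁻¹ * u * g)⁻¹ * (g⁻¹ * (h⁻¹ * u * h) * g))⁻¹ by rw [commutatorElement_def]; group]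
    refine mul_mem ?_ (inv_mem hc)
    have hx := (Subgroup.normal_subgroupOf_iff_le_normalizer hTQ).1 hTn
    exact (Subgroup.mem_normalizer_iff''.1 (hx h3) _).1 (inv_mem hca)
  -- the fibres
  have hfib : ∀ ω : MulAction.orbitRel.Quotient Q (G ⧸ Q),
      ∏ q ∈ fixd with Quotient.mk'' q = ω, F q = φ ⟨u, huQ⟩ ^ (if ω.out.out ∈ N then 1 else 0) := by
    intro ω
    set g := ω.out.out
    by_cases hg : g ∈ N
    · have horb : ∀ q : G ⧸ Q, (Quotient.mk'' q : MulAction.orbitRel.Quotient Q (G ⧸ Q)) = ω → q = ω.out := by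
        intro q hq
        obtain ⟨⟨h, hh⟩, hhq⟩ : q ∈ MulAction.orbit Q ω.out :=
          MulAction.orbitRel_apply.1 (Quotient.exact' (hq.trans (Quotient.out_eq' ω).symm))
        rw [← hhq]
        show h • ω.out = ω.out
        conv_lhs => rw [← QuotientGroup.out_eq' ω.out, MulAction.Quotient.smul_mk]
        conv_rhs => rw [← QuotientGroup.out_eq' ω.out]
        rw [QuotientGroup.eq, smul_eq_mul]
        rw [show (h * g)⁻¹ * g = g⁻¹ * h⁻¹ * g by group]
        exact (Subgroup.mem_normalizer_iff''.1 hg _).1 (inv_mem hh)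
      have hgu : g⁻¹ * u * g ∈ Q := (Subgroup.mem_normalizer_iff''.1 hg _).1 huQ
      have hfilt : fixd.filter (fun q => (Quotient.mk'' q : MulAction.orbitRel.Quotient Q (G ⧸ Q)) = ω) = {ω.out} := by
        ext q
        simp only [Finset.mem_filter, Finset.mem_singleton]
        refine ⟨fun h => horb q h.2, fun h => ⟨?_, h ▸ Quotient.out_eq' ω⟩⟩
        subst h
        simpa [fixd] using (hfixQ ω.out).2 hgu
      rw [hfilt, Finset.prod_singleton, if_pos hg, pow_one]
      simp only [F, g] at hgu ⊢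
      rw [dif_pos hgu]
      refine QuotientGroup.eq.2 (Subgroup.mem_subgroupOf.2 (Subgroup.mem_sup_left (Subgroup.mem_inf.2 ⟨mul_mem (inv_mem hgu) huQ, ?_⟩)))
      show (g⁻¹ * u * g)⁻¹ * u ∈ ⁅N, N⁆
      rw [show (g⁻¹ * u * g)⁻¹ * u = ⁅g⁻¹, u⁻¹⁆ by rw [commutatorElement_def]; group]
      exact Subgroup.commutator_mem_commutator (inv_mem hg) (inv_mem (Subgroup.le_normalizer huQ))
    · rw [if_neg hg, pow_zero]
      rcases (fixd.filter (fun q => (Quotient.mk'' q : MulAction.orbitRel.Quotient Q (G ⧸ Q)) = ω)).eq_empty_or_nonempty with he | ⟨q0, hq0⟩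
      · rw [he, Finset.prod_empty]
      simp only [Finset.mem_filter] at hq0
      have hq0f : u • q0 = q0 := by simpa [fixd] using hq0.1
      rw [Finset.prod_congr rfl (fun q hq => hval q q0 (by simpa [fixd] using (Finset.mem_filter.1 hq).1) hq0f
        ((Finset.mem_filter.1 hq).2.trans hq0.2.symm)), Finset.prod_const]
      set k := (fixd.filter (fun q => (Quotient.mk'' q : MulAction.orbitRel.Quotient Q (G ⧸ Q)) = ω)).card
      have hk : p ∣ k := by
        let α : MulAction (Subgroup.zpowers u) (MulAction.orbit Q ω.out) :=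
          MulAction.compHom _ (Subgroup.inclusion (Subgroup.zpowers_le.2 huQ))
        letI := α
        have hmod := ((P.2.to_le (Subgroup.zpowers_le.2 huQ)).card_modEq_card_fixedPoints (MulAction.orbit Q ω.out))
        have hfp : Nat.card (MulAction.fixedPoints (Subgroup.zpowers u) (MulAction.orbit Q ω.out)) = k := by
          rw [show k = (fixd.filter (fun q => (Quotient.mk'' q : MulAction.orbitRel.Quotient Q (G ⧸ Q)) = ω)).card from rfl, ← Nat.card_eq_finsetCard]
          refine Nat.card_congr ⟨fun x => ⟨x.1.1, ?_⟩, fun x => ⟨⟨x.1, ?_⟩, ?_⟩, fun x => rfl, fun x => rfl⟩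
          · simp only [fixd, Finset.mem_filter, Finset.mem_univ, true_and]
            exact ⟨congrArg Subtype.val (x.2 ⟨u, Subgroup.mem_zpowers u⟩),
              (Quotient.sound' (MulAction.orbitRel_apply.2 x.1.2)).trans (Quotient.out_eq' ω)⟩
          · have := (Finset.mem_filter.1 x.2).2
            exact MulAction.orbitRel_apply.1 (Quotient.exact' (this.trans (Quotient.out_eq' ω).symm))
          · rintro ⟨z, i, rfl⟩
            have h7 : u • x.1 = x.1 := by simpa [fixd] using (Finset.mem_filter.1 x.2).1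
            exact Subtype.ext (MulAction.mem_stabilizer_iff.1 (zpow_mem (MulAction.mem_stabilizer_iff.2 h7) i))
        have hodvd : p ∣ Nat.card (MulAction.orbit Q ω.out) := by
          obtain ⟨i, hi⟩ := P.2.card_orbit ω.out
          rcases Nat.eq_zero_or_pos i with rfl | hi0
          · rw [pow_zero] at hi
            refine absurd ?_ hg
            have hsub : ∀ h ∈ Q, h • ω.out = ω.out := fun h hh => by
              haveI := (Nat.card_eq_one_iff_unique.1 hi).1
              exact congrArg Subtype.val (Subsingleton.elim (⟨h • ω.out, ⟨h, hh⟩, rfl⟩ : MulAction.orbit Q ω.out) ⟨ω.out, MulAction.mem_orbit_self _⟩)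
            have hle : ∀ h ∈ Q, g⁻¹ * h * g ∈ Q := fun h hh => by
              have h1 := hsub h hh
              rw [← QuotientGroup.out_eq' ω.out, MulAction.Quotient.smul_mk, QuotientGroup.eq, smul_eq_mul] at h1
              simpa [mul_assoc] using inv_mem h1
            have hmap : Q.map (MulAut.conj g⁻¹).toMonoidHom = Q := by
              refine Subgroup.eq_of_le_of_card_ge ?_ (le_of_eq (Subgroup.card_map_of_injective (MulAut.conj g⁻¹).injective).symm)
              rintro _ ⟨h, hh, rfl⟩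
              simpa using hle h hh
            have hgN : g⁻¹ ∈ N := Subgroup.mem_normalizer_iff.2 fun y => by
              constructor
              · intro hy
                rw [← hmap]; exact ⟨y, hy, rfl⟩
              · intro hy
                rw [← hmap] at hy
                obtain ⟨w, hw, hwy⟩ := hy
                rwa [← (MulAut.conj g⁻¹).injective hwy]
            simpa using inv_mem hgN
          · exact hi ▸ dvd_pow_self p hi0.ne'
        rw [hfp] at hmod
        exact Nat.modEq_zero_iff_dvd.1 (hmod.symm.trans (Nat.modEq_zero_iff_dvd.2 hodvd))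
      have hv := (hfixQ q0).1 hq0f
      simp only [F, dif_pos hv]
      rw [← map_pow]
      refine (hmem _ (pow_mem hv k)).2 (hsmall _ (Subgroup.mem_inf.2 ⟨hv, ?_⟩) ?_ k hk)
      · have := Subgroup.Normal.conj_mem (inferInstance : (commutator G).Normal) _ huG q0.out⁻¹
        simpa using this
      · rw [show q0.out⁻¹ * u * q0.out = MulAut.conj q0.out⁻¹ u by simp, MulEquiv.orderOf_eq, hun]
  rw [Finset.prod_congr rfl (fun ω _ => hfib ω), Finset.prod_pow_eq_pow_sum, Finset.sum_boole, Nat.cast_id] at hprod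
  set m := (Finset.univ.filter fun ω : MulAction.orbitRel.Quotient Q (G ⧸ Q) => ω.out.out ∈ N).card
  have hm : ¬ p ∣ m := by
    have hmN : m = Q.relIndex N := by
      rw [show m = (Finset.univ.filter fun ω : MulAction.orbitRel.Quotient Q (G ⧸ Q) => ω.out.out ∈ N).card from rfl, Subgroup.relIndex, Subgroup.index_eq_card, ← Nat.card_eq_finsetCard]
      refine Nat.card_congr (Equiv.ofBijective (fun ω => (((⟨ω.1.out.out, (Finset.mem_filter.1 ω.2).2⟩ : N)) : N ⧸ Q.subgroupOf N)) ⟨?_, ?_⟩)
      · intro a b hab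
        simp only at hab
        have h1 : a.1.out.out⁻¹ * b.1.out.out ∈ Q := Subgroup.mem_subgroupOf.1 (QuotientGroup.eq.1 hab)
        refine Subtype.ext ?_
        rw [← Quotient.out_eq' a.1, ← Quotient.out_eq' b.1, ← QuotientGroup.out_eq' a.1.out, ← QuotientGroup.out_eq' b.1.out, QuotientGroup.eq.2 h1]
      · intro x
        obtain ⟨⟨g, hg⟩, rfl⟩ := QuotientGroup.mk_surjective x
        set ω : MulAction.orbitRel.Quotient Q (G ⧸ Q) := Quotient.mk'' (g : G ⧸ Q)
        obtain ⟨⟨h, hh⟩, hhg⟩ : ω.out ∈ MulAction.orbit Q (g : G ⧸ Q) := MulAction.orbitRel_apply.1 (Quotient.mk_out _)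
        have hout : ω.out = (g : G ⧸ Q) := by
          rw [← hhg]
          show h • (g : G ⧸ Q) = g
          rw [MulAction.Quotient.smul_mk, QuotientGroup.eq, smul_eq_mul,
            show (h * g)⁻¹ * g = g⁻¹ * h⁻¹ * g by group]
          exact (Subgroup.mem_normalizer_iff''.1 hg _).1 (inv_mem hh)
        have hq : (g : G)⁻¹ * ω.out.out ∈ Q := by rw [← QuotientGroup.eq, QuotientGroup.out_eq', hout]
        have hmemN : ω.out.out ∈ N := by
          have := mul_mem hg (Subgroup.le_normalizer hq)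
          rwa [mul_inv_cancel_left] at this
        refine ⟨⟨ω, Finset.mem_filter.2 ⟨Finset.mem_univ _, hmemN⟩⟩, QuotientGroup.eq.2 ?_⟩
        show ω.out.out⁻¹ * g ∈ Q
        simpa using inv_mem hq
    rw [hmN]
    exact fun hd => P.not_dvd_index (hd.trans (Subgroup.relIndex_dvd_index_of_le Subgroup.le_normalizer))
  apply huT
  rw [← hmem u huQ, ← orderOf_eq_one_iff]
  obtain ⟨i, hi⟩ := IsPGroup.iff_orderOf.1 P.2 (⟨u, huQ⟩ : Q)
  refine Nat.eq_one_of_dvd_coprimes (Nat.Coprime.pow_left i (hp.coprime_iff_not_dvd.2 hm))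
    (hi ▸ orderOf_map_dvd φ _) (orderOf_dvd_of_pow_eq_one hprod)

end Cfsg.Agent.S4216
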