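import Cfsg.Statements.S0508
import Cfsg.Agent.S3282
import Cfsg.Agent.S0514
import Cfsg.Agent.BSW.Recognition
import Cfsg.Agent.BSW.DihedralLocal

set_option autoImplicit false
set_option linter.style.haveILetI false
open Cfsg

namespace Cfsg.Agent.S0508

open Subgroup

/-- The join with a normalised subgroup is a product. -/
theorem mul_normal_subgroup' {G : Type*} [Group G] (A B : Subgroup G) (h : B ≤ Subgroup.normalizer (A : Set G))
    (g : G) (hg : g ∈ A ⊔ B) : ∃ x ∈ A, ∃ w ∈ B, x * w = g := by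
  have h' : g ∈ ((A ⊔ B : Subgroup G) : Set G) := hg
  rw [Subgroup.coe_mul_of_right_le_normalizer_left A B h] at h'
  exact Set.mem_mul.1 h'

/-- The theorem of Brauer, Suzuki and Wall for dihedral Sylow 2-subgroups. -/
theorem result {G : Type*} [Group G] [Finite G] [IsSimpleGroup G] (S : Sylow 2 G) (n : ℕ)
    (hn : 2 ≤ n) (hS : Nonempty ((S : Subgroup G) ≃* DihedralGroup n)) (t : G) (ht : orderOf t = 2)
    (htS : t ∈ (S : Subgroup G))
    (htZ : ∀ s ∈ (S : Subgroup G), s * t = t * s) (O : Subgroup G)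
    (hO : O = (Cfsg.oddCore (Subgroup.centralizer ({t} : Set G))).map (Subgroup.centralizer ({t} : Set G)).subtype)
    (ha : O ≠ ⊥ → IsCyclic ((S : Subgroup G) ⊓ Subgroup.centralizer (O : Set G) : Subgroup G) ∧
      ((S : Subgroup G) ⊓ Subgroup.centralizer (O : Set G)).relIndex (S : Subgroup G) = 2)
    (hb : ∀ s ∈ (S : Subgroup G), s ∉ Subgroup.centralizer (O : Set G) → ∀ y ∈ O, s * y * s⁻¹ = y⁻¹)
    (hc : ∀ Y : Subgroup G, Y ≤ O → Y ≠ ⊥ → Subgroup.normalizer (Y : Set G) ≤ Subgroup.centralizer ({t} : Set G)) :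
    ∃ (F : Type) (_ : Field F) (_ : Fintype F), Odd (Fintype.card F) ∧ Nonempty (G ≃* Matrix.ProjectiveSpecialLinearGroup (Fin 2) F) := by
  classical
  haveI : Fact (Nat.Prime 2) := ⟨Nat.prime_two⟩
  obtain ⟨e⟩ := hS
  haveI : NeZero n := ⟨by omega⟩
  set C := centralizer ({t} : Set G) with hCdef
  have hSC : (S : Subgroup G) ≤ C := fun s hs => mem_centralizer_singleton_iff.2 (htZ s hs)
  have hSc : Nat.card (S : Subgroup G) = 2 * n := by rw [Nat.card_congr e.toEquiv, DihedralGroup.nat_card]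
  -- `O` is odd and normalised by `C`
  have hOC : O ≤ C := hO ▸ map_subtype_le _
  have hOn : ∀ c ∈ C, ∀ x ∈ O, c * x * c⁻¹ ∈ O := by
    intro c hcC x hx
    rw [hO] at hx ⊢
    obtain ⟨y, hy, rfl⟩ := hx
    have hn' : (Cfsg.oddCore C).Normal := inferInstance
    exact ⟨(⟨c, hcC⟩ : C) * y * (⟨c, hcC⟩ : C)⁻¹, hn'.conj_mem y hy _, rfl⟩
  have hOodd : Odd (Nat.card O) := by
    rw [hO, card_map_of_injective C.subtype_injective]
    exact Nat.coprime_two_right.1 (Cfsg.Lib.Components.coprime_card_pPrimeCore (G := C) 2)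
  -- the centraliser is `O` times the Sylow subgroup
  have hCO : C = O ⊔ (S : Subgroup G) := by
    obtain ⟨N, hN, hNodd, k, hk⟩ := Cfsg.Agent.S0514.result S n hn ⟨e⟩ t ht
    have hNO : N.map C.subtype ≤ O := hO ▸ map_mono (le_sSup ⟨hN, Nat.coprime_two_right.2 hNodd⟩)
    refine le_antisymm ?_ (sup_le hOC hSC)
    intro x hx
    set U := (O ⊔ (S : Subgroup G)).subgroupOf C with hU
    have hNU : N ≤ U := fun y hy => mem_subgroupOf.2 (mem_sup_left (hNO ⟨y, hy, rfl⟩))
    have hSU : (S : Subgroup G).subgroupOf C ≤ U := fun y hy => mem_subgroupOf.2 (mem_sup_right hy)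
    have h1 : U.index ∣ 2 ^ k := hk ▸ index_dvd_of_le hNU
    have h2 : U.index ∣ (S : Subgroup G).relIndex C := index_dvd_of_le hSU
    have h3 : ¬ 2 ∣ (S : Subgroup G).relIndex C := fun h => S.not_dvd_index (h.trans (relIndex_dvd_index_of_le hSC))
    have h4 : U.index = 1 := by
      obtain ⟨j, -, hj⟩ := (Nat.dvd_prime_pow Nat.prime_two).1 h1
      rcases Nat.eq_zero_or_pos j with rfl | hj0
      · exact hj
      · exact absurd ((hj ▸ dvd_pow_self 2 (by omega) : 2 ∣ U.index).trans h2) h3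
    have : (⟨x, hx⟩ : C) ∈ U := (index_eq_one.1 h4).symm ▸ mem_top _
    exact mem_subgroupOf.1 this
  -- the cyclic subgroup
  obtain ⟨A, hAS, hAc, hAi, htA, hAO, hsO⟩ : ∃ A : Subgroup G, A ≤ (S : Subgroup G) ∧ IsCyclic A ∧
      A.relIndex (S : Subgroup G) = 2 ∧ t ∈ A ∧ A ≤ centralizer (O : Set G) ∧
      ∀ s ∈ (S : Subgroup G), s ∉ A → ∀ y ∈ O, s * y * s⁻¹ = y⁻¹ := by
    by_cases hO1 : O = ⊥
    · obtain ⟨A, h1, h2, h3, h4⟩ := Cfsg.Lib.BSW.exists_dihedral_cyclic (S : Subgroup G) hn e ht htS htZ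
      refine ⟨A, h1, h2, h3, h4, fun a _ => mem_centralizer_iff.2 fun y hy => ?_, fun s _ _ y hy => ?_⟩
      · rw [hO1, coe_bot, Set.mem_singleton_iff] at hy; simp [hy]
      · rw [hO1, mem_bot] at hy; simp [hy]
    · obtain ⟨h2, h3⟩ := ha hO1
      refine ⟨_, inf_le_left, h2, h3, ⟨htS, ?_⟩, inf_le_right, fun s hs hsA => hb s hs fun h => hsA ⟨hs, h⟩⟩
      exact mem_centralizer_iff.2 fun y hy => mem_centralizer_singleton_iff.1 (hOC hy)
  obtain ⟨hout, huniq⟩ := Cfsg.Lib.BSW.dihedral_cyclic (S : Subgroup G) hn e ht A hAS hAc hAi htA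
  have hA2 : ∀ a ∈ A, ∃ k : ℕ, orderOf a = 2 ^ k := fun a ha' => by
    obtain ⟨k, hk⟩ := (IsPGroup.iff_orderOf.1 S.isPGroup') ⟨a, hAS ha'⟩
    exact ⟨k, by rw [← orderOf_mk a (hAS ha')]; exact hk⟩
  -- the reflection
  obtain ⟨s, hsS, hsA⟩ : ∃ s ∈ (S : Subgroup G), s ∉ A := by
    by_contra h
    push Not at h
    rw [relIndex_eq_one.2 (fun x hx => h x hx)] at hAi
    exact absurd hAi (by norm_num)
  obtain ⟨hso, hsinvA⟩ := hout s hsS hsA
  have hOS : ∀ x ∈ O, x ∈ (S : Subgroup G) → x = 1 := fun x hxO hxS => by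
    obtain ⟨k, hk⟩ := (IsPGroup.iff_orderOf.1 S.isPGroup') ⟨x, hxS⟩
    rw [orderOf_mk] at hk
    have h1 : orderOf x ∣ Nat.card O := orderOf_dvd_natCard _ hxO
    rcases Nat.eq_zero_or_pos k with rfl | hk0
    · exact orderOf_eq_one_iff.1 hk
    · exact absurd ((hk ▸ dvd_pow_self 2 (by omega) : 2 ∣ orderOf x).trans h1)
        hOodd.not_two_dvd_nat
  have hOab : ∀ x ∈ O, ∀ y ∈ O, x * y = y * x := fun x hx y hy => by
    have h1 := hsO s hsS hsA _ (O.mul_mem hx hy)
    have h2 : s * (x * y) * s⁻¹ = (s * x * s⁻¹) * (s * y * s⁻¹) := by group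
    rw [h1, hsO s hsS hsA x hx, hsO s hsS hsA y hy, ← mul_inv_rev] at h2
    exact inv_injective h2
  have hcomm : ∀ x ∈ O, ∀ a ∈ A, x * a = a * x := fun x hx a ha' => mem_centralizer_iff.1 (hAO ha') x hx
  let K : Subgroup G :=
    { carrier := {k | ∃ x ∈ O, ∃ a ∈ A, x * a = k}
      one_mem' := ⟨1, O.one_mem, 1, A.one_mem, mul_one 1⟩
      mul_mem' := by
        rintro _ _ ⟨x, hx, a, ha', rfl⟩ ⟨y, hy, b, hb', rfl⟩
        exact ⟨x * y, O.mul_mem hx hy, a * b, A.mul_mem ha' hb', by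
          calc x * y * (a * b) = x * (y * a) * b := by group
            _ = x * (a * y) * b := by rw [hcomm y hy a ha']
            _ = x * a * (y * b) := by group⟩
      inv_mem' := by
        rintro _ ⟨x, hx, a, ha', rfl⟩
        exact ⟨x⁻¹, O.inv_mem hx, a⁻¹, A.inv_mem ha', by
          rw [mul_inv_rev, ← hcomm _ (O.inv_mem hx) _ (A.inv_mem ha')]⟩ }
  have memK : ∀ k, k ∈ K ↔ ∃ x ∈ O, ∃ a ∈ A, x * a = k := fun k => Iff.rfl
  have hKab : ∀ k ∈ K, ∀ l ∈ K, k * l = l * k := by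
    rintro _ ⟨x, hx, a, ha', rfl⟩ _ ⟨y, hy, b, hb', rfl⟩
    have hab : a * b = b * a := by
      haveI := hAc
      exact congrArg Subtype.val (IsMulCommutative.is_comm.comm (⟨a, ha'⟩ : A) ⟨b, hb'⟩)
    calc x * a * (y * b) = x * (a * y) * b := by group
      _ = x * y * (a * b) := by rw [← hcomm y hy a ha']; group
      _ = y * x * (b * a) := by rw [hOab x hx y hy, hab]
      _ = y * (x * b) * a := by group
      _ = y * (b * x) * a := by rw [hcomm x hx b hb']
      _ = y * b * (x * a) := by group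
  have huniqK : ∀ k ∈ K, k * k = 1 → k = 1 ∨ k = t := by
    rintro _ ⟨x, hx, a, ha', rfl⟩ h
    have h1 : x * x = (a * a)⁻¹ := by
      refine eq_inv_of_mul_eq_one_left ?_
      calc x * x * (a * a) = x * (x * a) * a := by group
        _ = x * (a * x) * a := by rw [hcomm x hx a ha']
        _ = x * a * (x * a) := by group
        _ = 1 := h
    have h2 : x * x = 1 := hOS _ (O.mul_mem hx hx) (h1 ▸ hAS (A.inv_mem (A.mul_mem ha' ha')))
    have h3 : x = 1 := by
      have h4 : orderOf x ∣ 2 := orderOf_dvd_of_pow_eq_one (by rw [pow_two]; exact h2)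
      exact orderOf_eq_one_iff.1 (Nat.eq_one_of_dvd_coprimes (Nat.coprime_two_left.2 hOodd) h4
        (orderOf_dvd_natCard _ hx))
    rw [h3, one_mul] at h ⊢
    by_cases ha1 : a = 1
    · exact Or.inl ha1
    · exact Or.inr (huniq a ha' (orderOf_eq_prime (by rw [pow_two]; exact h) ha1))
  have hinv : ∀ k ∈ K, s * k * s⁻¹ = k⁻¹ := by
    rintro _ ⟨x, hx, a, ha', rfl⟩
    rw [show s * (x * a) * s⁻¹ = (s * x * s⁻¹) * (s * a * s⁻¹) by group, hsO s hsS hsA x hx, hsinvA a ha',
      ← mul_inv_rev, ← hcomm x hx a ha']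
  have hKC : K ≤ C := by rintro _ ⟨x, hx, a, ha', rfl⟩; exact C.mul_mem (hOC hx) (hSC (hAS ha'))
  have htK : t ∈ K := ⟨1, O.one_mem, t, htA, one_mul t⟩
  have hsK : s ∉ K := by
    rintro ⟨x, hx, a, ha', hxa⟩
    have : x = 1 := hOS x hx (by rw [show x = s * a⁻¹ by rw [← hxa]; group]; exact (S : Subgroup G).mul_mem hsS ((S : Subgroup G).inv_mem (hAS ha')))
    exact hsA (by rw [← hxa, this, one_mul]; exact ha')
  have hA_S : ∀ w ∈ (S : Subgroup G), w ∉ A → w * s ∈ A := fun w hw hwA => by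
    have h := (Subgroup.mul_mem_iff_of_index_two (H := A.subgroupOf (S : Subgroup G)) hAi
      (a := ⟨w, hw⟩) (b := ⟨s, hsS⟩)).2 (iff_of_false hwA hsA)
    exact mem_subgroupOf.1 h
  have hH : K ⊔ zpowers s = C := by
    refine le_antisymm (sup_le hKC (zpowers_le.2 (hSC hsS))) (hCO.le.trans (sup_le ?_ ?_))
    · exact fun x hx => mem_sup_left ⟨x, hx, 1, A.one_mem, mul_one x⟩
    · intro w hw
      by_cases hwA : w ∈ A
      · exact mem_sup_left ⟨1, O.one_mem, w, hwA, one_mul w⟩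
      · have := mul_mem (mem_sup_left (T := zpowers s) (show w * s ∈ K from ⟨1, O.one_mem, _, hA_S w hw hwA, one_mul _⟩))
          (mem_sup_right (inv_mem (mem_zpowers s)))
        rwa [mul_inv_cancel_right] at this
  have hCK : K ⊓ centralizer ({s} : Set G) = zpowers t := by
    refine le_antisymm (fun k hk => ?_) (zpowers_le.2 ⟨htK, mem_centralizer_singleton_iff.2 (htZ s hsS).symm⟩)
    have h1 : k * s = s * k := mem_centralizer_singleton_iff.1 hk.2
    have h2 : k = k⁻¹ := by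
      rw [← hinv k hk.1]
      rw [← h1]; group
    rcases huniqK k hk.1 (by nth_rw 2 [h2]; exact mul_inv_cancel k) with rfl | rfl
    · exact one_mem _
    · exact mem_zpowers k
  -- the only elements of the centraliser of `t` centralising a nontrivial element of `O` lie in `K`
  have hcent : ∀ y ∈ O, y ≠ 1 → centralizer ({y} : Set G) = K := by
    intro y hy hy1
    refine le_antisymm (fun g hg => ?_) (fun k hk => mem_centralizer_singleton_iff.2
      (hKab k hk y ⟨y, hy, 1, A.one_mem, mul_one y⟩))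
    have hgy : g * y = y * g := mem_centralizer_singleton_iff.1 hg
    have hgC : g ∈ C := by
      refine hc (zpowers y) (zpowers_le.2 hy) (zpowers_ne_bot.2 hy1) ?_
      refine centralizer_le_normalizer _ ?_
      exact mem_centralizer_iff.2 fun z hz => by
        obtain ⟨j, rfl⟩ := mem_zpowers_iff.1 hz
        exact ((show Commute g y from hgy).zpow_right j).symm.eq
    rw [hCO] at hgC
    obtain ⟨x, hx, w, hw, rfl⟩ : ∃ x ∈ O, ∃ w ∈ (S : Subgroup G), x * w = g := by
      have := mul_normal_subgroup' O (S : Subgroup G) (fun w hw => mem_normalizer_fintype fun x hx => hOn w (hSC hw) x hx)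
      exact this g hgC
    by_cases hwA : w ∈ A
    · exact ⟨x, hx, w, hwA, rfl⟩
    · exfalso
      have h1 : w * y * w⁻¹ = y⁻¹ := hsO w hw hwA y hy
      have h2 : w * y * w⁻¹ = y := by
        calc w * y * w⁻¹ = x⁻¹ * (x * w * y) * w⁻¹ := by group
          _ = x⁻¹ * (y * (x * w)) * w⁻¹ := by rw [hgy]
          _ = x⁻¹ * (y * x) := by group
          _ = y := by rw [hOab y hy x hx]; group
      rw [h1] at h2
      have h4 : orderOf y ∣ 2 := orderOf_dvd_of_pow_eq_one (by rw [pow_two]; nth_rw 1 [← h2]; exact inv_mul_cancel y)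
      exact hy1 (orderOf_eq_one_iff.1 (Nat.eq_one_of_dvd_coprimes (Nat.coprime_two_left.2 hOodd) h4
        (orderOf_dvd_natCard _ hy)))
  have htuniq : ∀ g : G, g * t * g⁻¹ ∈ K → g ∈ C := fun g hg => by
    refine mem_centralizer_singleton_iff.2 ?_
    have h2 : g * t * g⁻¹ * (g * t * g⁻¹) = 1 := by
      have tt : t * t = 1 := by rw [← pow_two, ← ht, pow_orderOf_eq_one]
      calc g * t * g⁻¹ * (g * t * g⁻¹) = g * (t * t) * g⁻¹ := by group
        _ = 1 := by rw [tt]; group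
    rcases huniqK _ hg h2 with h | h
    · exact absurd (conj_eq_one_iff.1 h) (fun h' => by rw [h', orderOf_one] at ht; omega)
    · exact mul_inv_eq_iff_eq_mul.1 h
  have hTI : ∀ g : G, g ∉ C → K ⊓ K.map (MulAut.conj g).toMonoidHom = ⊥ := by
    intro g hg
    rw [eq_bot_iff]
    intro x hx
    by_contra hx1
    rw [mem_bot] at hx1
    obtain ⟨p, hp, hpd⟩ := Nat.exists_prime_and_dvd (fun h => hx1 (orderOf_eq_one_iff.1 h) : orderOf x ≠ 1)
    set y := x ^ (orderOf x / p) with hy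
    have hyo : orderOf y = p := by
      rw [hy, orderOf_pow_of_dvd (Nat.div_ne_zero_iff_of_dvd hpd |>.2 ⟨(orderOf_pos x).ne', hp.ne_zero⟩) (Nat.div_dvd_of_dvd hpd),
        Nat.div_div_self hpd (orderOf_pos x).ne']
    have hy1 : y ≠ 1 := fun h => by rw [h, orderOf_one] at hyo; exact hp.ne_one hyo.symm
    have hyK : y ∈ K ⊓ K.map (MulAut.conj g).toMonoidHom := Subgroup.pow_mem _ hx _
    obtain ⟨hyK1, y', hy'K, hy'⟩ := hyK
    change g * y' * g⁻¹ = y at hy'
    have hy'o : orderOf y' = p := by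
      rw [← hyo, ← hy', ← MulAut.conj_apply, MulEquiv.orderOf_eq]
    rcases hp.eq_two_or_odd' with rfl | hpodd
    · have e1 : ∀ z ∈ K, orderOf z = 2 → z = t := fun z hz hz2 => by
        refine (huniqK z hz (by rw [← pow_two, ← hz2, pow_orderOf_eq_one])).resolve_left ?_
        rintro rfl; rw [orderOf_one] at hz2; omega
      rw [e1 y' hy'K hy'o, e1 y hyK1 hyo] at hy'
      exact hg (mem_centralizer_singleton_iff.2 (mul_inv_eq_iff_eq_mul.1 hy'))
    · have e1 : ∀ z ∈ K, orderOf z = p → z ∈ O := by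
        rintro _ ⟨u, hu, a, ha', rfl⟩ hz
        obtain ⟨k, hk⟩ := hA2 a ha'
        have hpow : u ^ p * a ^ p = 1 := by
          rw [← (show Commute u a from hcomm u hu a ha').mul_pow, ← hz, pow_orderOf_eq_one]
        have hap : a ^ p = 1 := by
          have := hOS _ (O.pow_mem hu p) (by rw [eq_inv_of_mul_eq_one_left hpow]; exact hAS (A.inv_mem (A.pow_mem ha' p)))
          rwa [this, one_mul] at hpow
        have ha1 : a = 1 := orderOf_eq_one_iff.1 (Nat.eq_one_of_dvd_coprimes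
          ((Nat.coprime_two_left.2 hpodd).pow_left k) (dvd_of_eq hk) (orderOf_dvd_of_pow_eq_one hap))
        rw [ha1, mul_one]
        exact hu
      have h1 := hcent y (e1 y hyK1 hyo) hy1
      have hy'1 : y' ≠ 1 := fun h => by rw [h, orderOf_one] at hy'o; exact hp.ne_one hy'o.symm
      have h2 := hcent y' (e1 y' hy'K hy'o) hy'1
      refine hg (htuniq g ?_)
      rw [← h1, mem_centralizer_singleton_iff, ← hy']
      have ht' : t * y' = y' * t := mem_centralizer_singleton_iff.1 (h2.symm ▸ htK : t ∈ centralizer ({y'} : Set G))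
      calc g * t * g⁻¹ * (g * y' * g⁻¹) = g * (t * y') * g⁻¹ := by group
        _ = g * (y' * t) * g⁻¹ := by rw [ht']
        _ = g * y' * g⁻¹ * (g * t * g⁻¹) := by group
  have hna : ¬ IsMulCommutative G := fun h => by
    haveI := h
    letI : CommGroup G := { (inferInstance : Group G) with mul_comm := fun a b => IsMulCommutative.is_comm.comm a b }
    have hc2 : (Nat.card G).Prime := IsSimpleGroup.prime_card
    have h4 : 2 * n ∣ Nat.card G := hSc ▸ card_subgroup_dvd_card _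
    rcases hc2.eq_one_or_self_of_dvd 2 ((dvd_mul_right 2 n).trans h4) with h' | h'
    · omega
    · have := Nat.le_of_dvd Nat.card_pos h4; omega
  -- one class of involutions
  have hone : ∀ u : G, orderOf u = 2 → IsConj t u := by
    intro u hu
    by_contra hno
    have hAidx : A.index = 2 * (S : Subgroup G).index := by rw [← relIndex_mul_index hAS, hAi]
    obtain ⟨M, hMn, hMi, huM⟩ := Cfsg.Lib.Transfer.exists_index_two_not_mem A
      (Nat.not_even_iff_odd.1 fun h => S.not_dvd_index h.two_dvd) hAidx hu fun g hg => by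
        refine hno (isConj_iff.2 ⟨g, ?_⟩)
        rw [← huniq _ hg (by rw [show g⁻¹ * u * g = MulAut.conj g⁻¹ u by simp, MulEquiv.orderOf_eq, hu])]
        group
    rcases hMn.eq_bot_or_eq_top with h | h
    · rw [h, index_bot] at hMi
      have := Nat.le_of_dvd Nat.card_pos (hSc ▸ card_subgroup_dvd_card (S : Subgroup G))
      omega
    · exact huM (h ▸ mem_top u)
  obtain ⟨Q, D, hG, hQ, -, hD, hQD, hN, -⟩ := Cfsg.Agent.S3282.result t ht K ⟨⟨fun a b => Subtype.ext (hKab a a.2 b b.2)⟩⟩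
    hKC htK s hso (hSC hsS) hsK hH hCK hinv hTI fun x y hx hy => (hone x hx).symm.trans (hone y hy)
  refine Cfsg.Lib.BSW.exists_psl_of_self_centralizing hna Q hD hG hQ ?_
  have hDN : D ≤ normalizer (Q : Set G) := hN ▸ le_sup_right
  let f : Q × D → normalizer (Q : Set G) := fun p => ⟨(p.1 : G) * p.2, mul_mem (le_normalizer p.1.2) (hDN p.2.2)⟩
  have hinj : Function.Injective f := by
    intro p p' h
    have h' : (p.1 : G) * p.2 = p'.1 * p'.2 := congrArg Subtype.val h
    exact Prod.ext_iff.2 (by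
      have e1 : (p'.1 : G)⁻¹ * p.1 = p'.2 * (p.2 : G)⁻¹ := by
        calc (p'.1 : G)⁻¹ * p.1 = (p'.1 : G)⁻¹ * (p.1 * p.2) * (p.2 : G)⁻¹ := by group
          _ = _ := by rw [h']; group
      have hm : (p'.1 : G)⁻¹ * p.1 ∈ Q ⊓ D := ⟨Q.mul_mem (Q.inv_mem p'.1.2) p.1.2, e1 ▸ D.mul_mem p'.2.2 (D.inv_mem p.2.2)⟩
      rw [hQD, mem_bot, inv_mul_eq_one] at hm
      refine ⟨Subtype.ext hm.symm, Subtype.ext ?_⟩
      rw [hm] at h'
      exact mul_left_cancel h')
  have hsurj : Function.Surjective f := by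
    rintro ⟨g, hg⟩
    obtain ⟨x, hx, w, hw, rfl⟩ := mul_normal_subgroup' Q D hDN g (hN ▸ hg)
    exact ⟨(⟨x, hx⟩, ⟨w, hw⟩), rfl⟩
  rw [← Nat.card_eq_of_bijective f ⟨hinj, hsurj⟩, Nat.card_prod]

end Cfsg.Agent.S0508
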