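import Cfsg.Statements.S0001
import Cfsg.Agent.Coprime.SchurZassenhaus

set_option autoImplicit false
open Pointwise
open Cfsg

namespace Cfsg.Agent.S0001

/-- Conjugacy half of the Schur–Zassenhaus Theorem, under a solvability assumption on the normal Hall subgroup or on its quotient. -/
theorem result {G : Type*} [Group G] [Finite G] (N : Subgroup G) [N.Normal]
    (hN : (Nat.card N).Coprime N.index) (hsolv : Group.IsSolvable N ∨ Group.IsSolvable (G ⧸ N))
    (H K : Subgroup G) (hH : Subgroup.IsComplement' N H) (hK : Subgroup.IsComplement' N K) :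
    ∃ g : G, MulAut.conj g • H = K := by
  have hi : Nat.card H = N.index := hH.symm.index_eq_card.symm
  have hsolv' : Group.IsSolvable N ∨ Group.IsSolvable H :=
    hsolv.imp_right fun h => by
      haveI := h
      refine Group.isSolvable_of_isSolvable_injective (f := (QuotientGroup.mk' N).comp H.subtype) ?_
      rw [← MonoidHom.ker_eq_bot_iff, eq_bot_iff]
      intro x hx
      have hxN : (x : G) ∈ N := (QuotientGroup.eq_one_iff _).mp hx
      exact Subtype.ext (Subgroup.disjoint_def.mp hH.disjoint hxN x.2)
  obtain ⟨x, -, hx⟩ := Cfsg.Lib.Coprime.exists_conj_eq_of_coprime (N := N) (H := H) (K := K)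
    Subgroup.le_normalizer_of_normal (by rw [hi]; exact hN) hsolv'
    (by rw [hH.sup_eq_top]; exact le_top) (by rw [hi, hK.symm.index_eq_card])
  exact ⟨x, by rw [Cfsg.Lib.Coprime.conj_smul_eq, hx]⟩

end Cfsg.Agent.S0001
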