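import Cfsg.Statements.S0340
import Cfsg.Agent.ZTGroups.Main
import Cfsg.Agent.OddChar.Zassenhaus.Feit
import Cfsg.Agent.RankOne.SharpThree
import Cfsg.Agent.S0344
import Cfsg.Agent.S0731
import Cfsg.Agent.S4702

set_option autoImplicit false
open Cfsg

namespace Cfsg.Agent.S0340

/-- Classification of Zassenhaus groups, simple case, order-level form: a finite simple Zassenhaus group is
isomorphic to `PSL₂(F)` for some finite field `F` or is simple of Suzuki order. -/
theorem result {G Ω : Type*} [Group G] [Finite G] [MulAction G Ω]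
    [Finite Ω] (hZ : Cfsg.IsZassenhausGroup G Ω) [IsSimpleGroup G] :
    (∃ (F : Type) (_ : Field F) (_ : Fintype F), Nonempty (G ≃* Matrix.ProjectiveSpecialLinearGroup (Fin 2) F)) ∨ Cfsg.IsSuzuki G := by
  classical
  haveI := Fintype.ofFinite Ω
  obtain ⟨g, -, a, b, hab, -, -⟩ := hZ.2.2.2.1
  set E := Cfsg.Lib.OddChar.Zassenhaus.stab₂ G a b with hE
  rcases Nat.even_or_odd (Nat.card E) with hev | hodd
  · obtain ⟨F, iF, iFF, -, hiso⟩ := Cfsg.Agent.S0344.result hZ hab hev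
    exact Or.inl ⟨F, iF, iFF, hiso⟩
  obtain ⟨h, hh⟩ : ∃ h, Fintype.card Ω = h + 1 :=
    ⟨_, (Nat.sub_add_cancel (Fintype.card_pos_iff.mpr ⟨a⟩)).symm⟩
  obtain ⟨H, hHa, hHc, hHf⟩ := Cfsg.Lib.OddChar.Zassenhaus.exists_kernel hZ hab
  have hh2 := Cfsg.Lib.OddChar.Zassenhaus.two_le hZ hab hh
  by_cases hcomm : ∀ u v : H, u * v = v * u
  swap
  · push Not at hcomm
    rcases Cfsg.Lib.OddChar.Zassenhaus.feit_inequality hZ hab hh rfl hodd hHa hHc hHf with h1 | ⟨h2, -, -⟩
    · obtain ⟨u, v, huv⟩ := hcomm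
      exact absurd ((Cfsg.Lib.RankOne.kernel_elementary hZ hab (by
        have h1' : h - 1 ≤ 2 * Nat.card (Cfsg.Lib.OddChar.Zassenhaus.stab₂ G a b) := h1
        omega) hHa hHc hHf).1.is_comm.comm u v) huv
    · exact Or.inr (Cfsg.Lib.ZTGroups.core_of_kernel hZ hab hHa hHc hHf h2 hcomm).isSuzuki
  left
  have hn := Cfsg.Lib.OddChar.Zassenhaus.kernel_normal hZ hab hh hHa hHc hHf
  have hreg : ∀ y z : Ω, y ≠ a → z ≠ a → ∃! u : H, (u : G) • y = z := by
    intro y z hy hz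
    obtain ⟨u, hu, huy⟩ := Cfsg.Lib.OddChar.Zassenhaus.exists_kernel_map hHa hHc hHf hy hz
    refine ⟨⟨u, hu⟩, huy, fun v hv => Subtype.ext ?_⟩
    by_contra hne
    exact hy (hHf (u⁻¹ * v) (mul_mem (inv_mem hu) v.2) (fun h' => hne (inv_mul_eq_one.mp h').symm) y (by
      rw [mul_smul, show (v : G) • y = z from hv, ← huy, inv_smul_smul]))
  rcases Cfsg.Agent.S0731.result hZ a H hHa ⟨fun u hu g => hn g g.2 u hu⟩ ⟨⟨hcomm⟩⟩ hreg with
    ⟨h3, hsharp⟩ | ⟨K, iK, iKK, -, hiso⟩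
  swap
  · exact ⟨K, iK, iKK, hiso⟩
  have h3c : 3 ≤ Fintype.card Ω := by omega
  -- pass to the permutation group on the points
  haveI := hZ.1
  set ψ := MulAction.toPermHom G Ω with hψ
  let eP : G ≃* ψ.range := MonoidHom.ofInjective MulAction.toPerm_injective
  have hsmul : ∀ (g : G) (c : Ω), eP g • c = g • c := fun _ _ => rfl
  have hP3 : MulAction.IsMultiplyPretransitive ψ.range Ω 3 := by
    refine ⟨fun s t => ?_⟩
    obtain ⟨g, hg⟩ := h3.exists_smul_eq s t
    exact ⟨eP g, Function.Embedding.ext fun i => DFunLike.congr_fun hg i⟩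
  have hPsharp : ∀ x : Fin 3 ↪ Ω, MulAction.stabilizer ψ.range x = ⊥ := fun x => by
    rw [Subgroup.eq_bot_iff_forall]
    intro p hp
    obtain ⟨g, rfl⟩ := eP.surjective p
    have h1 : g ∈ MulAction.stabilizer G x := Function.Embedding.ext fun i => DFunLike.congr_fun hp i
    rw [hsharp, Subgroup.mem_bot] at h1
    rw [h1, map_one]
  have heE : Nat.card E + 2 = Fintype.card Ω := by
    rw [← Cfsg.Lib.RankOne.sharp_card_stab₂ hP3 hPsharp h3c hab]
    congr 1
    exact Nat.card_congr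
      { toFun := fun g => ⟨eP g, g.2.1, g.2.2⟩
        invFun := fun p => ⟨eP.symm p, (hsmul _ a).symm.trans (by rw [eP.apply_symm_apply]; exact p.2.1),
          (hsmul _ b).symm.trans (by rw [eP.apply_symm_apply]; exact p.2.2)⟩
        left_inv := fun g => Subtype.ext (eP.symm_apply_apply _)
        right_inv := fun p => Subtype.ext (eP.apply_symm_apply _) }
  have hoddΩ : Odd (Fintype.card Ω) := by
    obtain ⟨k, hk⟩ := hodd
    exact ⟨k + 1, by omega⟩
  obtain ⟨F, iF, iFF, -, hch, ⟨e0⟩⟩ := Cfsg.Lib.RankOne.sharp_odd hP3 hPsharp h3c hoddΩ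
  have e1 := eP.trans e0
  obtain ⟨e2⟩ := Cfsg.Lib.RankOne.pgl_mulEquiv_sl hch
  refine ⟨F, iF, iFF, ⟨(e1.trans e2).trans ?_⟩⟩
  haveI : CharP F 2 := hch ▸ ringChar.charP F
  have hbot : Subgroup.center (Matrix.SpecialLinearGroup (Fin 2) F) = ⊥ := by
    rw [Subgroup.eq_bot_iff_forall]
    intro M hM
    obtain ⟨r, hr, hM'⟩ := Matrix.SpecialLinearGroup.mem_center_iff.1 hM
    rw [Fintype.card_fin] at hr
    have hr1 : r = 1 := by
      have h4 : (r - 1) * (r - 1) = 0 := by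
        have h5 : (2 : F) = 0 := CharTwo.two_eq_zero
        linear_combination hr - (r - 1) * h5
      exact sub_eq_zero.1 (mul_self_eq_zero.1 h4)
    ext i k
    rw [← hM', hr1]
    simp [Matrix.scalar_apply]
  exact (QuotientGroup.quotientBot (G := Matrix.SpecialLinearGroup (Fin 2) F)).symm.trans
    (QuotientGroup.quotientMulEquivOfEq hbot.symm)

end Cfsg.Agent.S0340
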