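import Cfsg.Statements.S2739

set_option autoImplicit false
open scoped Pointwise
open Cfsg

namespace Cfsg.Agent.S2739

open Matrix Polynomial

theorem cube_eq_one {F : Type*} [Field F] [Fintype F] (hF : Fintype.card F = 4) {u : F} (hu : u ≠ 0) :
    u ^ 3 = 1 := by
  have := FiniteField.pow_card_sub_one_eq_one u hu
  rwa [hF] at this

theorem pow_three_eq_one {F : Type*} [Field F] [Fintype F] (hF : Fintype.card F = 4)
    (g : Matrix.SpecialLinearGroup (Fin 3) F) (hg : g ^ 3 ∈ Subgroup.center _) : g ^ 3 = 1 := by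
  obtain ⟨r, hr, hr'⟩ := Matrix.SpecialLinearGroup.mem_center_iff.1 hg
  rw [Fintype.card_fin] at hr
  by_cases h1 : r = 1
  · ext i j
    rw [← hr', h1]
    simp
  exfalso
  have hr0 : r ≠ 0 := by intro e; rw [e] at hr; simp at hr
  set G : Matrix (Fin 3) (Fin 3) F := (g : Matrix (Fin 3) (Fin 3) F) with hG
  have hG3 : G ^ 3 = Matrix.scalar (Fin 3) r := by rw [hr', hG]; simp
  have hmon : (X ^ 3 - C r : F[X]).Monic := monic_X_pow_sub_C r (by norm_num)
  have hdeg : (X ^ 3 - C r : F[X]).natDegree = 3 := natDegree_X_pow_sub_C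
  have hirr : Irreducible (X ^ 3 - C r : F[X]) := by
    rw [hmon.irreducible_iff_roots_eq_zero_of_degree_le_three (by omega) (by omega)]
    refine Multiset.eq_zero_of_forall_notMem fun u hu => ?_
    rw [mem_roots hmon.ne_zero, IsRoot, eval_sub, eval_pow, eval_X, eval_C, sub_eq_zero] at hu
    rcases eq_or_ne u 0 with rfl | hu0
    · simp at hu; exact hr0 hu.symm
    · rw [cube_eq_one hF hu0] at hu; exact h1 hu.symm
  have hae : aeval G (X ^ 3 - C r : F[X]) = 0 := by
    rw [map_sub, map_pow, aeval_X, aeval_C, hG3, sub_eq_zero]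
    rfl
  have hmin : X ^ 3 - C r = minpoly F G := minpoly.eq_of_irreducible_of_monic hirr hae hmon
  have hch : X ^ 3 - C r = G.charpoly :=
    (eq_of_monic_of_dvd_of_natDegree_le hmon G.charpoly_monic
      (hmin ▸ Matrix.minpoly_dvd_charpoly G) (by rw [charpoly_natDegree_eq_dim, hdeg]; simp)).symm
  have hd : G.det = r := by
    rw [det_eq_sign_charpoly_coeff, ← hch]
    simp [coeff_X_pow, Fintype.card_fin]
    ring
  rw [g.2] at hd
  exact h1 hd.symm

theorem exists_diag {F : Type*} [Field F] [Fintype F] (hF : Fintype.card F = 4)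
    (g : Matrix.SpecialLinearGroup (Fin 3) F) (hg : g ^ 3 = 1) :
    ∃ (B : Matrix (Fin 3) (Fin 3) F) (d : Fin 3 → Fˣ), IsUnit B ∧
      (g : Matrix (Fin 3) (Fin 3) F) * B = B * Matrix.diagonal (fun i => (d i : F)) := by
  classical
  set G : Matrix (Fin 3) (Fin 3) F := (g : Matrix (Fin 3) (Fin 3) F) with hG
  have hG3 : G ^ 3 = 1 := by rw [hG, ← Matrix.SpecialLinearGroup.coe_pow, hg]; rfl
  let E : Set (Fin 3 → F) := {v | ∃ u : Fˣ, G *ᵥ v = (u : F) • v}
  have hspan : Submodule.span F E = ⊤ := by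
    rw [Submodule.eq_top_iff']
    intro v
    let P : Fˣ → (Fin 3 → F) := fun u => v + (u : F) ^ 2 • (G *ᵥ v) + (u : F) ^ 1 • (G *ᵥ (G *ᵥ v))
    have hP : ∀ u : Fˣ, P u ∈ E := by
      intro u
      refine ⟨u, ?_⟩
      have h3 : (u : F) ^ 3 = 1 := cube_eq_one hF u.ne_zero
      have hv : G *ᵥ (G *ᵥ (G *ᵥ v)) = v := by
        rw [mulVec_mulVec, mulVec_mulVec, show G * G * G = G ^ 3 by noncomm_ring, hG3, one_mulVec]
      simp only [P, mulVec_add, mulVec_smul, hv, smul_add, smul_smul]
      rw [show (u : F) * (u : F) ^ 2 = 1 by rw [← h3]; ring,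
        show (u : F) * (u : F) ^ 1 = (u : F) ^ 2 by ring]
      simp only [one_smul, pow_one]
      abel
    have hsum : ∑ u : Fˣ, P u = (3 : ℕ) • v := by
      have hk : ∀ k : ℕ, ¬ (3 ∣ k) → ∑ u : Fˣ, (u : F) ^ k = 0 := by
        intro k hk
        have := FiniteField.sum_pow_units (K := F) k
        rw [hF, if_neg hk] at this
        simpa using this
      simp only [P, Finset.sum_add_distrib, ← Finset.sum_smul, hk 2 (by norm_num), hk 1 (by norm_num),
        zero_smul, add_zero, Finset.sum_const, Finset.card_univ, Fintype.card_units, hF]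
    have h4 : (4 : ℕ) • v = 0 := by
      rw [← Nat.cast_smul_eq_nsmul F, ← hF, Nat.cast_card_eq_zero, zero_smul]
    have hmem : (3 : ℕ) • v ∈ Submodule.span F E :=
      hsum ▸ Submodule.sum_mem _ (fun u _ => Submodule.subset_span (hP u))
    have : v = -((3 : ℕ) • v) := by
      rw [eq_neg_iff_add_eq_zero, ← h4, succ_nsmul' v 3]
    rw [this]
    exact Submodule.neg_mem _ hmem
  obtain ⟨b, hbE, hbspan, hbli⟩ := exists_linearIndependent F E
  haveI : Fintype b := Fintype.ofFinite b
  let bas : Module.Basis b F (Fin 3 → F) := Module.Basis.mk hbli (by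
    rw [Subtype.range_coe_subtype, Set.setOf_mem_eq, hbspan, hspan])
  have hcard : Fintype.card b = 3 := by
    rw [← Module.finrank_eq_card_basis bas, Module.finrank_fin_fun]
  let e := Fintype.equivFinOfCardEq hcard
  choose d hd using fun i : Fin 3 => hbE (e.symm i).2
  refine ⟨Matrix.of (fun i j => (e.symm j : Fin 3 → F) i), d, ?_, ?_⟩
  · rw [← Matrix.linearIndependent_cols_iff_isUnit]
    exact hbli.comp _ e.symm.injective
  · ext i j
    rw [mul_diagonal]
    show (G *ᵥ (e.symm j : Fin 3 → F)) i = _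
    rw [hd j]
    simp [mul_comm]

theorem exists_diag_injective {F : Type*} [Field F] [Fintype F] (hF : Fintype.card F = 4)
    (g : Matrix.SpecialLinearGroup (Fin 3) F) (hg : g ^ 3 = 1) (hnc : g ∉ Subgroup.center _) :
    ∃ (B : Matrix (Fin 3) (Fin 3) F) (d : Fin 3 → Fˣ), IsUnit B ∧ Function.Bijective d ∧
      (g : Matrix (Fin 3) (Fin 3) F) * B = B * Matrix.diagonal (fun i => (d i : F)) := by
  classical
  obtain ⟨B, d, hB, he⟩ := exists_diag hF g hg
  refine ⟨B, d, hB, ?_, he⟩
  have hBdet : B.det ≠ 0 := (Matrix.isUnit_iff_isUnit_det B).1 hB |>.ne_zero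
  have hprod : (d 0 : F) * d 1 * d 2 = 1 := by
    have := congrArg Matrix.det he
    rw [det_mul, det_mul, g.2, one_mul, det_diagonal, Fin.prod_univ_three] at this
    exact (mul_left_cancel₀ hBdet ((mul_one _).trans this)).symm
  have h3 : ∀ i, (d i : F) ^ 3 = 1 := fun i => cube_eq_one hF (d i).ne_zero
  rw [Fintype.bijective_iff_injective_and_card]
  refine ⟨?_, by rw [Fintype.card_fin, Fintype.card_units, hF]⟩
  by_contra hni
  apply hnc
  have hall : ∀ i, (d i : F) = d 0 := by
    have key : ∀ a b c : F, a ^ 3 = 1 → a * a * c = 1 → c = a := by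
      intro a b c ha h
      linear_combination (-c) * ha + a * h
    have c01 : (d 0 : F) = d 1 → (d 2 : F) = d 0 := fun e =>
      key (d 0) 0 _ (h3 0) (by rw [← hprod, ← e])
    have c02 : (d 0 : F) = d 2 → (d 1 : F) = d 0 := fun e =>
      key (d 0) 0 _ (h3 0) (by rw [← hprod, ← e]; ring)
    have c12 : (d 1 : F) = d 2 → (d 0 : F) = d 1 := fun e =>
      key (d 1) 0 _ (h3 1) (by rw [← hprod, ← e]; ring)
    have any : (d 0 : F) = d 1 ∨ (d 0 : F) = d 2 ∨ (d 1 : F) = d 2 := by
      by_contra hcon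
      push Not at hcon
      obtain ⟨n01, n02, n12⟩ := hcon
      apply hni
      intro i j hij
      have hij' : (d i : F) = d j := congrArg Units.val hij
      fin_cases i <;> fin_cases j <;> first
        | rfl
        | exact absurd hij' n01
        | exact absurd hij'.symm n01
        | exact absurd hij' n02
        | exact absurd hij'.symm n02
        | exact absurd hij' n12
        | exact absurd hij'.symm n12
    have both : (d 1 : F) = d 0 ∧ (d 2 : F) = d 0 := by
      rcases any with e | e | e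
      · exact ⟨e.symm, c01 e⟩
      · exact ⟨c02 e, e.symm⟩
      · exact ⟨(c12 e).symm, e.symm.trans (c12 e).symm⟩
    intro k
    fin_cases k
    · rfl
    · exact both.1
    · exact both.2
  refine Matrix.SpecialLinearGroup.mem_center_iff.2 ⟨d 0, by simpa using h3 0, ?_⟩
  obtain ⟨Bu, rfl⟩ := hB
  simp only [hall] at he
  have hs : Matrix.scalar (Fin 3) (d 0 : F) = Matrix.diagonal (fun _ : Fin 3 => (d 0 : F)) := rfl
  rw [← hs, ← (Matrix.scalar_commute (d 0 : F) (fun r' => mul_comm _ _) (Bu : Matrix (Fin 3) (Fin 3) F)).eq] at he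
  exact ((Units.mul_left_inj Bu).1 he).symm

theorem isConj_of_order_three {F : Type*} [Field F] [Fintype F] (hF : Fintype.card F = 4)
    (x y : Matrix.ProjectiveSpecialLinearGroup (Fin 3) F) (hx : orderOf x = 3) (hy : orderOf y = 3) :
    IsConj x y := by
  classical
  obtain ⟨g, rfl⟩ := QuotientGroup.mk_surjective x
  obtain ⟨k, rfl⟩ := QuotientGroup.mk_surjective y
  have pre : ∀ g : Matrix.SpecialLinearGroup (Fin 3) F,
      orderOf (g : Matrix.ProjectiveSpecialLinearGroup (Fin 3) F) = 3 →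
      g ^ 3 = 1 ∧ g ∉ Subgroup.center _ := by
    intro g hg
    constructor
    · apply pow_three_eq_one hF
      rw [← QuotientGroup.eq_one_iff, QuotientGroup.mk_pow]
      simpa [hg] using pow_orderOf_eq_one (g : Matrix.ProjectiveSpecialLinearGroup (Fin 3) F)
    · intro hc
      rw [(QuotientGroup.eq_one_iff g).2 hc, orderOf_one] at hg
      norm_num at hg
  obtain ⟨B, d, hB, hd, he⟩ := exists_diag_injective hF g (pre g hx).1 (pre g hx).2
  obtain ⟨C, e, hC, hebij, he'⟩ := exists_diag_injective hF k (pre k hy).1 (pre k hy).2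
  let π : Fin 3 ≃ Fin 3 := (Equiv.ofBijective e hebij).trans (Equiv.ofBijective d hd).symm
  have hπ : ∀ i, d (π i) = e i := fun i => (Equiv.ofBijective d hd).apply_symm_apply _
  -- a conjugating matrix
  let B' : Matrix (Fin 3) (Fin 3) F := B.submatrix id π
  have hB' : (g : Matrix (Fin 3) (Fin 3) F) * B' = B' * Matrix.diagonal (fun i => (e i : F)) := by
    ext i j
    have := congrFun (congrFun he i) (π j)
    simp only [mul_diagonal, hπ] at this
    simp only [mul_diagonal]
    exact this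
  have hB'det : B'.det ≠ 0 := by
    show (B.submatrix id π).det ≠ 0
    rw [det_permute', mul_ne_zero_iff]
    refine ⟨?_, (Matrix.isUnit_iff_isUnit_det B).1 hB |>.ne_zero⟩
    rcases Int.units_eq_one_or (Equiv.Perm.sign π) with h | h <;> simp [h]
  have hCdet : C.det ≠ 0 := (Matrix.isUnit_iff_isUnit_det C).1 hC |>.ne_zero
  let Δ : Matrix (Fin 3) (Fin 3) F := Matrix.diagonal ![B'.det / C.det, 1, 1]
  have hΔ : Δ * Matrix.diagonal (fun i => (e i : F)) = Matrix.diagonal (fun i => (e i : F)) * Δ := by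
    simp only [Δ, diagonal_mul_diagonal, mul_comm]
  have hΔdet : (C * Δ).det = B'.det := by
    rw [det_mul, det_diagonal, Fin.prod_univ_three]
    simp
    field_simp
  let T : Matrix (Fin 3) (Fin 3) F := (C * Δ) * B'⁻¹
  have hTdet : T.det = 1 := by
    rw [det_mul, hΔdet, det_nonsing_inv, Ring.inverse_eq_inv', mul_inv_cancel₀ hB'det]
  have hTB : T * B' = C * Δ := by
    rw [Matrix.mul_assoc, nonsing_inv_mul _ (isUnit_iff_ne_zero.2 hB'det), Matrix.mul_one]
  have key : T * (g : Matrix (Fin 3) (Fin 3) F) = (k : Matrix (Fin 3) (Fin 3) F) * T := by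
    have e1 : T * (g : Matrix (Fin 3) (Fin 3) F) * B' = (k : Matrix (Fin 3) (Fin 3) F) * T * B' := by
      rw [Matrix.mul_assoc, hB', ← Matrix.mul_assoc, hTB, Matrix.mul_assoc C, hΔ, ← Matrix.mul_assoc,
        ← he', Matrix.mul_assoc _ T, hTB, Matrix.mul_assoc]
    have hu : IsUnit B' := (Matrix.isUnit_iff_isUnit_det B').2 (isUnit_iff_ne_zero.2 hB'det)
    exact hu.mul_right_cancel e1
  let T' : Matrix.SpecialLinearGroup (Fin 3) F := ⟨T, hTdet⟩
  have key' : T' * g = k * T' := Subtype.ext key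
  have hconj : IsConj g k := isConj_iff.2 ⟨T', mul_inv_eq_iff_eq_mul.2 key'⟩
  exact MonoidHom.map_isConj (QuotientGroup.mk' (Subgroup.center _)) hconj


/-- In the projective special linear group PSL(3, 4) all subgroups of order 3 are conjugate. -/
theorem result (F : Type*) [Field F] [Fintype F] (hF : Fintype.card F = 4) (X Y : Subgroup (Matrix.ProjectiveSpecialLinearGroup (Fin 3) F)) (hX : Nat.card ↥X = 3) (hY : Nat.card ↥Y = 3) : ∃ g : Matrix.ProjectiveSpecialLinearGroup (Fin 3) F, MulAut.conj g • X = Y := by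
  haveI : Fact (Nat.Prime 3) := ⟨Nat.prime_three⟩
  haveI : IsCyclic X := isCyclic_of_prime_card hX
  haveI : IsCyclic Y := isCyclic_of_prime_card hY
  have gen : ∀ (Z : Subgroup (Matrix.ProjectiveSpecialLinearGroup (Fin 3) F)), Nat.card ↥Z = 3 →
      ∃ z, orderOf z = 3 ∧ Subgroup.zpowers z = Z := by
    intro Z hZ
    haveI : IsCyclic Z := isCyclic_of_prime_card hZ
    obtain ⟨z, hz⟩ := IsCyclic.exists_generator (α := Z)
    have hzp : Subgroup.zpowers (z : Matrix.ProjectiveSpecialLinearGroup (Fin 3) F) = Z := by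
      ext w
      constructor
      · rintro ⟨m, rfl⟩; exact Z.zpow_mem z.2 m
      · intro hw
        obtain ⟨m, hm⟩ := hz ⟨w, hw⟩
        exact ⟨m, by simpa using congrArg Subtype.val hm⟩
    exact ⟨z, by rw [← Nat.card_zpowers, hzp, hZ], hzp⟩
  obtain ⟨x, hx, rfl⟩ := gen X hX
  obtain ⟨y, hy, rfl⟩ := gen Y hY
  obtain ⟨g, hg⟩ := isConj_iff.1 (isConj_of_order_three hF x y hx hy)
  refine ⟨g, ?_⟩
  show (Subgroup.zpowers x).map (MulAut.conj g).toMonoidHom = _
  rw [MonoidHom.map_zpowers, ← hg]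
  rfl

end Cfsg.Agent.S2739
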