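import Cfsg.Statements.S1489
import Cfsg.Agent.Chars.Inertia

set_option autoImplicit false
open Cfsg

namespace Cfsg.Agent.S1489

/-- Let H be a normal subgroup of the finite group G, θ an irreducible character of H, and T the inertia group of θ (the elements g with θ(g h g⁻¹) = θ(h) for all h ∈ H). If ψ and ψ' are irreducible characters of T having nonzero inner product with the function induced from θ to T, then the function induced from ψ to G is an irreducible character of G, and it equals the one induced from ψ' only if ψ = ψ'. -/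
theorem result {G : Type*} [Group G] [Fintype G] (H T : Subgroup G) [hN : H.Normal] [Fintype T] (θ : H → ℂ) (hθ : Cfsg.IsIrrCharacter H θ) (hT : ∀ g : G, g ∈ T ↔ ∀ h : H, θ ⟨g * h * g⁻¹, hN.conj_mem h h.2 g⟩ = θ h) (hHT : H ≤ T) (ψ ψ' : T → ℂ) (hψ : Cfsg.IsIrrCharacter T ψ) (hψ' : Cfsg.IsIrrCharacter T ψ') (hc : Cfsg.classInner (Cfsg.indFun (H.subgroupOf T) (fun x => θ ⟨(x : T), Subgroup.mem_subgroupOf.mp x.2⟩)) ψ ≠ 0) (hc' : Cfsg.classInner (Cfsg.indFun (H.subgroupOf T) (fun x => θ ⟨(x : T), Subgroup.mem_subgroupOf.mp x.2⟩)) ψ' ≠ 0) : Cfsg.IsIrrCharacter G (Cfsg.indFun T ψ) ∧ (Cfsg.indFun T ψ = Cfsg.indFun T ψ' → ψ = ψ') := by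
  classical
  have hTe : T = Cfsg.Lib.Chars.inertia H θ := by
    ext g
    rw [hT, Cfsg.Lib.Chars.mem_inertia, funext_iff]
    rfl
  have hover : ∀ φ : T → ℂ, Cfsg.IsIrrCharacter T φ →
      Cfsg.classInner (Cfsg.indFun (H.subgroupOf T) (fun x => θ ⟨(x : T), Subgroup.mem_subgroupOf.mp x.2⟩)) φ ≠ 0 →
      Cfsg.classInner (fun n : H => φ ⟨n, hHT n.2⟩) θ ≠ 0 := by
    intro φ hφ h h0
    apply h
    rw [← Cfsg.Lib.Chars.classInner_conj_symm, Cfsg.Lib.Chars.frobenius_reciprocity' _ _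
      (Cfsg.Lib.Chars.isClassFunction_isChar (Cfsg.Lib.Chars.isCharacter_of_irr hφ)),
      show Cfsg.classInner (fun x : H.subgroupOf T => φ x) (fun x => θ ⟨(x : T), Subgroup.mem_subgroupOf.mp x.2⟩) =
        Cfsg.classInner (fun n : H => φ ⟨n, hHT n.2⟩) θ from
        Cfsg.Lib.Chars.classInner_comp_equiv (Subgroup.subgroupOfEquivOfLe hHT).toEquiv
          (fun n : H => φ ⟨n, hHT n.2⟩) θ, h0, map_zero]
  have key : ∀ φ : T → ℂ, Cfsg.IsIrrCharacter T φ →
      Cfsg.classInner (fun n : H => φ ⟨n, hHT n.2⟩) θ ≠ 0 →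
      Cfsg.IsIrrCharacter G (Cfsg.indFun T φ) ∧ ∀ φ' : T → ℂ, Cfsg.IsIrrCharacter T φ' →
        Cfsg.classInner (fun n : H => φ' ⟨n, hHT n.2⟩) θ ≠ 0 →
        Cfsg.indFun T φ' = Cfsg.indFun T φ → φ' = φ := by
    intro φ hφ hφc
    obtain ⟨χ, hχ, hχc⟩ : ∃ χ : G → ℂ, Cfsg.IsIrrCharacter G χ ∧
        Cfsg.classInner (fun t : T => χ t) φ ≠ 0 := by
      by_contra hh
      push Not at hh
      have h0 := Cfsg.Lib.Chars.eq_zero_of_classInner_eq_zero
        (Cfsg.Lib.Chars.isClassFunction_indFun (G := G) T φ) fun χ => by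
          rw [Cfsg.Lib.Chars.frobenius_reciprocity T φ (Cfsg.Lib.Chars.isClassFunction_irr χ),
            ← Cfsg.Lib.Chars.classInner_conj_symm, hh χ χ.2, map_zero]
      have h1 := congrFun h0 1
      rw [Cfsg.Lib.Chars.indFun_one, Pi.zero_apply, mul_eq_zero, Nat.cast_eq_zero] at h1
      exact h1.elim T.index_ne_zero_of_finite (Cfsg.Lib.Chars.IsIrrCharacter.apply_one_ne_zero hφ)
    obtain ⟨h1, -, h3⟩ := Cfsg.Lib.Chars.clifford_correspondence hθ T hTe hHT hχ hφ hχc hφc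
    refine ⟨h1 ▸ hχ, fun φ' hφ' hφ'c heq => h3 φ' hφ' ?_ hφ'c⟩
    rw [← Cfsg.Lib.Chars.frobenius_reciprocity' T φ' (Cfsg.Lib.Chars.isClassFunction_isChar
      (Cfsg.Lib.Chars.isCharacter_of_irr hχ)), heq, h1, Cfsg.Lib.Chars.classInner_self_irr hχ]
    exact one_ne_zero
  refine ⟨(key ψ hψ (hover ψ hψ hc)).1, fun h => ?_⟩
  exact ((key ψ hψ (hover ψ hψ hc)).2 ψ' hψ' (hover ψ' hψ' hc') h.symm).symm

end Cfsg.Agent.S1489
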