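import Cfsg.Statements.S4755
import Cfsg.Agent.Chars.Sums
import Cfsg.Agent.Chars.Construct
-- import your own Cfsg.Agent.* helpers here

set_option autoImplicit false
open Cfsg

namespace Cfsg.Agent.S4755

set_option linter.unusedSectionVars false

open Cfsg.Lib.Chars
open scoped commutatorElement

/-- Let x, y be non-identity elements of the finite group G such that χ(x' y') = χ(x') χ(y') for all conjugates x' of x, y' of y and every irreducible character χ. Then the conjugacy class of x y is the set of all products of a conjugate of x with a conjugate of y; every irreducible character of degree greater than 1 vanishes at x y; and the conjugacy class of x y is the coset of the commutator subgroup containing x y. -/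
theorem result {G : Type*} [Group G] [Finite G] (x y : G) (hx : x ≠ 1) (hy : y ≠ 1) (h : ∀ (a b : G) (χ : Cfsg.IrrCharacter G), (χ : G → ℂ) (a * x * a⁻¹ * (b * y * b⁻¹)) = (χ : G → ℂ) (a * x * a⁻¹) * (χ : G → ℂ) (b * y * b⁻¹)) : (∀ z : G, IsConj (x * y) z ↔ ∃ a b : G, z = a * x * a⁻¹ * (b * y * b⁻¹)) ∧ (∀ χ : Cfsg.IrrCharacter G, (χ : G → ℂ) 1 ≠ 1 → (χ : G → ℂ) (x * y) = 0) ∧ (∀ z : G, IsConj (x * y) z ↔ (x * y)⁻¹ * z ∈ commutator G) := by
  classical
  haveI := Fintype.ofFinite G
  have hconjchar : ∀ (χ : Cfsg.IrrCharacter G) (u a : G), (χ : G → ℂ) (a * u * a⁻¹) = (χ : G → ℂ) u :=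
    fun χ u a => isClassFunction_irr χ u a
  have hval : ∀ (a b : G) (χ : Cfsg.IrrCharacter G),
      (χ : G → ℂ) (a * x * a⁻¹ * (b * y * b⁻¹)) = (χ : G → ℂ) x * (χ : G → ℂ) y := fun a b χ => by
    rw [h a b χ, hconjchar, hconjchar]
  have hxy : ∀ χ : Cfsg.IrrCharacter G, (χ : G → ℂ) (x * y) = (χ : G → ℂ) x * (χ : G → ℂ) y := fun χ => by
    simpa using hval 1 1 χ
  have hzero : ∀ χ : Cfsg.IrrCharacter G, (χ : G → ℂ) 1 ≠ 1 → (χ : G → ℂ) (x * y) = 0 := by
    intro χ hne
    have hsum := sum_class_products χ.2 x y 1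
    have hterm : ∀ u ∈ Finset.univ.filter (IsConj x), ∀ v ∈ Finset.univ.filter (IsConj y),
        (χ : G → ℂ) (u * v * 1) = (χ : G → ℂ) (x * y) := by
      intro u hu v hv
      obtain ⟨a', rfl⟩ := isConj_iff.1 (Finset.mem_filter.1 hu).2
      obtain ⟨b', rfl⟩ := isConj_iff.1 (Finset.mem_filter.1 hv).2
      rw [mul_one, hval a' b' χ, hxy]
    rw [Finset.sum_congr rfl fun u hu => Finset.sum_congr rfl fun v hv => hterm u hu v hv,
      Finset.sum_const, Finset.sum_const, smul_smul, nsmul_eq_mul] at hsum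
    have hx' : (Finset.univ.filter (IsConj x)).card = Nat.card {u : G // IsConj x u} := by
      rw [Nat.card_eq_fintype_card, Fintype.card_subtype]
    have hy' : (Finset.univ.filter (IsConj y)).card = Nat.card {u : G // IsConj y u} := by
      rw [Nat.card_eq_fintype_card, Fintype.card_subtype]
    rw [hx', hy', Nat.cast_mul, hxy] at hsum
    have h1 : (χ : G → ℂ) 1 ≠ 0 := IsIrrCharacter.apply_one_ne_zero χ.2
    have hcx : ((Nat.card {u : G // IsConj x u} : ℕ) : ℂ) ≠ 0 := Nat.cast_ne_zero.2 (card_isConj_pos x).ne'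
    have hcy : ((Nat.card {u : G // IsConj y u} : ℕ) : ℂ) ≠ 0 := Nat.cast_ne_zero.2 (card_isConj_pos y).ne'
    field_simp at hsum
    rw [hxy]
    by_contra h0
    refine hne (mul_left_cancel₀ h0 ?_)
    linear_combination hsum
  have hfirst : ∀ z : G, IsConj (x * y) z ↔ ∃ a b : G, z = a * x * a⁻¹ * (b * y * b⁻¹) := by
    intro z
    constructor
    · intro hz
      obtain ⟨c, rfl⟩ := isConj_iff.1 hz
      exact ⟨c, c, by group⟩
    · rintro ⟨a, b, rfl⟩
      exact (isConj_iff_forall_irr _ _).2 fun χ => by rw [hval, hxy]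
  refine ⟨hfirst, hzero, fun z => ?_⟩
  constructor
  · intro hz
    obtain ⟨c, rfl⟩ := isConj_iff.1 hz
    have := Subgroup.commutator_mem_commutator (Subgroup.mem_top (x * y)⁻¹) (Subgroup.mem_top c)
    rw [commutatorElement_def, inv_inv] at this
    rw [commutator_def]
    simpa [mul_assoc] using this
  · intro hz
    by_contra hn
    have h2 := second_orthogonality (x * y) z
    rw [if_neg hn] at h2
    have h3 := second_orthogonality (x * y) (x * y)
    rw [if_pos (IsConj.refl _)] at h3
    have heq : ∀ χ : Cfsg.IrrCharacter G,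
        (χ : G → ℂ) (x * y) * (starRingEnd ℂ) ((χ : G → ℂ) z) =
          (χ : G → ℂ) (x * y) * (starRingEnd ℂ) ((χ : G → ℂ) (x * y)) := by
      intro χ
      by_cases h1 : (χ : G → ℂ) 1 = 1
      · obtain ⟨l, hl⟩ := exists_hom_of_deg_one (isCharacter_of_irr χ.2) h1
        have hle : commutator G ≤ l.ker := Abelianization.commutator_subset_ker l
        have h4 : l z = l (x * y) := by
          have := hle hz
          rw [MonoidHom.mem_ker, map_mul, map_inv, inv_mul_eq_one] at this
          exact this.symm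
        rw [hl]
        simp only [h4]
      · rw [hzero χ h1, zero_mul, zero_mul]
    rw [Finset.sum_congr rfl fun χ _ => heq χ] at h2
    rw [h2] at h3
    exact Nat.card_pos.ne' (Nat.cast_eq_zero.1 h3.symm)

end Cfsg.Agent.S4755
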