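import Cfsg.Agent.Presentations.BinaryIcosahedral
import Mathlib
import Cfsg.Statements.S3378
-- import your own Cfsg.Agent.* helpers here

set_option autoImplicit false
open Cfsg

namespace Cfsg.Agent.S3378

/-- Every non-solvable group of order 120 whose Sylow 2-subgroups are quaternion of order 8 is isomorphic to SL(2,5), and SL(2,5) has the presentation ⟨x, y, z | x³ = y⁵ = z² = 1, z⁻¹xz = x, z⁻¹yz = y, (xy)² = z⟩. -/
theorem result :
    (∀ (G : Type*) [Group G] [Finite G], Nat.card G = 120 → ¬ Group.IsSolvable G →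
      (∀ P : Sylow 2 G, Nonempty ((P : Subgroup G) ≃* QuaternionGroup 2)) →
      Nonempty (G ≃* Matrix.SpecialLinearGroup (Fin 2) (ZMod 5))) ∧
    Nonempty (PresentedGroup ({FreeGroup.of (0 : Fin 3) ^ 3, FreeGroup.of (1 : Fin 3) ^ 5, FreeGroup.of (2 : Fin 3) ^ 2,
        (FreeGroup.of (2 : Fin 3))⁻¹ * FreeGroup.of 0 * FreeGroup.of 2 * (FreeGroup.of (0 : Fin 3))⁻¹,
        (FreeGroup.of (2 : Fin 3))⁻¹ * FreeGroup.of 1 * FreeGroup.of 2 * (FreeGroup.of (1 : Fin 3))⁻¹,
        (FreeGroup.of (0 : Fin 3) * FreeGroup.of 1) ^ 2 * (FreeGroup.of (2 : Fin 3))⁻¹} : Set (FreeGroup (Fin 3)))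
      ≃* Matrix.SpecialLinearGroup (Fin 2) (ZMod 5)) := by
  have main : Nonempty (PresentedGroup Cfsg.Lib.Presentations.binaryRels ≃* Matrix.SpecialLinearGroup (Fin 2) (ZMod 5)) := by
    let A : Matrix.SpecialLinearGroup (Fin 2) (ZMod 5) := ⟨!![0, 4; 1, 4], by decide +kernel⟩
    let B : Matrix.SpecialLinearGroup (Fin 2) (ZMod 5) := ⟨!![1, 1; 0, 1], by decide +kernel⟩
    let C : Matrix.SpecialLinearGroup (Fin 2) (ZMod 5) := ⟨!![4, 0; 0, 4], by decide +kernel⟩
    have h1 : A ^ 3 = 1 := by decide +kernel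
    have h2 : B ^ 5 = 1 := by decide +kernel
    have h3 : C ^ 2 = 1 := by decide +kernel
    have h4 : C⁻¹ * A * C * A⁻¹ = 1 := by decide +kernel
    have h5 : C⁻¹ * B * C * B⁻¹ = 1 := by decide +kernel
    have h6 : (A * B) ^ 2 * C⁻¹ = 1 := by decide +kernel
    have hrels : ∀ r ∈ Cfsg.Lib.Presentations.binaryRels, FreeGroup.lift ![A, B, C] r = 1 := by
      intro r hr
      simp only [Cfsg.Lib.Presentations.binaryRels, Set.mem_insert_iff, Set.mem_singleton_iff] at hr
      rcases hr with rfl | rfl | rfl | rfl | rfl | rfl <;>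
        simp only [map_pow, map_mul, map_inv, FreeGroup.lift_apply_of, Matrix.cons_val, Matrix.cons_val_zero, Matrix.cons_val_one]
      exacts [h1, h2, h3, h4, h5, h6]
    let φ := PresentedGroup.toGroup hrels
    have hc120 : Nat.card (Matrix.SpecialLinearGroup (Fin 2) (ZMod 5)) = 120 := by
      rw [Nat.card_congr (show Matrix.SpecialLinearGroup (Fin 2) (ZMod 5) ≃ {v : ZMod 5 × ZMod 5 × ZMod 5 × ZMod 5 // v.1 * v.2.2.2 - v.2.1 * v.2.2.1 = 1} from
        { toFun := fun M => ⟨((M : Matrix (Fin 2) (Fin 2) (ZMod 5)) 0 0, (M : Matrix (Fin 2) (Fin 2) (ZMod 5)) 0 1, (M : Matrix (Fin 2) (Fin 2) (ZMod 5)) 1 0, (M : Matrix (Fin 2) (Fin 2) (ZMod 5)) 1 1), (Matrix.det_fin_two _).symm.trans M.2⟩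
          invFun := fun v => ⟨!![v.1.1, v.1.2.1; v.1.2.2.1, v.1.2.2.2], by rw [Matrix.det_fin_two_of]; exact v.2⟩
          left_inv := fun M => Subtype.ext (Matrix.eta_fin_two _).symm
          right_inv := fun v => by simp }), Nat.card_eq_fintype_card]
      decide +kernel
    have h1' : A ≠ 1 := fun h => absurd (congrArg Subtype.val h) (by decide +kernel)
    have h2' : B ≠ 1 := fun h => absurd (congrArg Subtype.val h) (by decide +kernel)
    have h4a : ¬ (A * B) ^ 2 ^ 1 = 1 := by decide +kernel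
    have h4b : (A * B) ^ 2 ^ (1 + 1) = 1 := by decide +kernel
    let S : Bool → Matrix.SpecialLinearGroup (Fin 2) (ZMod 5) := fun s => ⟨Cfsg.Lib.Frobenius.SLTwoFive.gen s, Cfsg.Lib.Frobenius.SLTwoFive.det_gen s⟩
    have h5g : ∀ s : Bool, S s ^ 5 = 1 := fun s => by cases s <;> decide +kernel
    have hsur : Function.Surjective φ := by
      haveI := Fact.mk (show Nat.Prime 3 by norm_num)
      haveI := Fact.mk (show Nat.Prime 5 by norm_num)
      haveI := Fact.mk Nat.prime_two
      rw [← MonoidHom.range_eq_top]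
      have hA : A ∈ φ.range := ⟨PresentedGroup.of 0, PresentedGroup.toGroup.of hrels⟩
      have hB : B ∈ φ.range := ⟨PresentedGroup.of 1, PresentedGroup.toGroup.of hrels⟩
      have d3 : 3 ∣ Nat.card φ.range := by
        have h := Subgroup.orderOf_dvd_natCard φ.range hA
        rwa [orderOf_eq_prime h1 h1'] at h
      have d5 : 5 ∣ Nat.card φ.range := by
        have h := Subgroup.orderOf_dvd_natCard φ.range hB
        rwa [orderOf_eq_prime h2 h2'] at h
      have d4 : 4 ∣ Nat.card φ.range := by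
        have h := Subgroup.orderOf_dvd_natCard φ.range (mul_mem hA hB)
        rwa [orderOf_eq_prime_pow (p := 2) (n := 1) h4a h4b] at h
      obtain ⟨k, hk⟩ : 60 ∣ Nat.card φ.range := Nat.Coprime.mul_dvd_of_dvd_of_dvd (show Nat.Coprime 15 4 by norm_num)
        (Nat.Coprime.mul_dvd_of_dvd_of_dvd (show Nat.Coprime 3 5 by norm_num) d3 d5) d4
      have hm := φ.range.card_mul_index
      rw [hc120, hk] at hm
      have hidx : φ.range.index = 1 ∨ φ.range.index = 2 := by
        have h2' : k * φ.range.index = 2 := by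
          have : 60 * (k * φ.range.index) = 60 * 2 := by rw [← mul_assoc, hm]
          omega
        exact (Nat.dvd_prime Nat.prime_two).mp (Dvd.intro_left k h2')
      rcases hidx with hi | hi
      · exact Subgroup.index_eq_one.mp hi
      have hgen : ∀ s : Bool, S s ∈ φ.range := fun s => by
        have h6' := Subgroup.sq_mem_of_index_two hi (S s ^ 3)
        rwa [← pow_mul, show 3 * 2 = 5 + 1 from rfl, pow_succ, h5g s, one_mul] at h6'
      refine eq_top_iff.mpr fun M _ => ?_
      have hword : ∀ (n bits i : ℕ), ∃ X ∈ φ.range, (X : Matrix (Fin 2) (Fin 2) (ZMod 5)) = Cfsg.Lib.Frobenius.SLTwoFive.wordProd bits i n := by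
        intro n
        induction n with
        | zero => exact fun bits i => ⟨1, one_mem _, rfl⟩
        | succ n ih =>
          intro bits i
          obtain ⟨X, hX, hXe⟩ := ih bits (i + 1)
          refine ⟨_, mul_mem (hgen (bits.testBit i)) hX, ?_⟩
          show Cfsg.Lib.Frobenius.SLTwoFive.gen (bits.testBit i) * (X : Matrix (Fin 2) (Fin 2) (ZMod 5)) = _
          rw [hXe]
          rfl
      obtain ⟨X, hX, hXe⟩ := hword (Cfsg.Lib.Frobenius.SLTwoFive.entry M.1).2.2.2 (Cfsg.Lib.Frobenius.SLTwoFive.entry M.1).2.2.1 0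
      rw [(Cfsg.Lib.Frobenius.SLTwoFive.check' _ M.2).1] at hXe
      rw [← show X = M from Subtype.ext hXe]
      exact hX
    obtain ⟨hfin, hle⟩ := Cfsg.Lib.Presentations.binary_card
    haveI := hfin
    exact ⟨MulEquiv.ofBijective φ (hsur.bijective_of_nat_card_le (hc120.symm ▸ hle))⟩
  refine ⟨fun G _ _ hG hns hQ => ?_, main⟩
  obtain ⟨e⟩ := main
  obtain ⟨f⟩ := Cfsg.Lib.Presentations.iso_binary hG hns hQ
  exact ⟨f.symm.trans e⟩

end Cfsg.Agent.S3378
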