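import Cfsg.Statements.S0850
import Cfsg.Agent.Chars.TI

set_option autoImplicit false
open Cfsg

namespace Cfsg.Agent.S0850

/-- Let K be a subgroup of the finite group G that meets each conjugate by an element outside its normalizer N trivially, is properly contained in N, and contains the centralizer of each of its non-identity elements (a T.I. subgroup with Frobenius normalizer). Then no element of N outside K is conjugate in G to an element of K, and for every class function ϑ of N that vanishes on N away from K and at the identity, the function induced from ϑ to G agrees with ϑ on all of N. -/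
theorem result {G : Type*} [Group G] [Fintype G] (K : Subgroup G) (hTI : ∀ g : G, g ∉ Subgroup.normalizer (K : Set G) → ∀ k ∈ K, g * k * g⁻¹ ∈ K → k = 1) (hlt : K < Subgroup.normalizer (K : Set G)) (hC : ∀ k ∈ K, k ≠ 1 → Subgroup.centralizer ({k} : Set G) ≤ K) : (∀ x ∈ Subgroup.normalizer (K : Set G), x ∉ K → ∀ g : G, g * x * g⁻¹ ∉ K) ∧ ∀ (ϑ : Subgroup.normalizer (K : Set G) → ℂ), Cfsg.IsClassFunction (Subgroup.normalizer (K : Set G)) ϑ → (∀ x : Subgroup.normalizer (K : Set G), (x : G) ∉ K → ϑ x = 0) → ϑ 1 = 0 → ∀ x : Subgroup.normalizer (K : Set G), Cfsg.indFun (Subgroup.normalizer (K : Set G)) ϑ x = ϑ x := by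
  classical
  set N := Subgroup.normalizer (K : Set G) with hN
  let K' : Subgroup N := K.subgroupOf N
  have hn : K'.Normal := Subgroup.normal_in_normalizer
  have hC' : ∀ n ∈ K', n ≠ 1 → Subgroup.centralizer ({n} : Set N) ≤ K' := by
    intro n hn hn1 y hy
    refine hC n hn (fun h => hn1 (Subtype.ext h)) ?_
    rw [Subgroup.mem_centralizer_singleton_iff] at hy ⊢
    exact congrArg Subtype.val hy
  have hcop := Cfsg.Lib.Chars.coprime_of_centralizer_le K' hC'
  have hKN : K ≤ N := Subgroup.le_normalizer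
  have hout : ∀ x ∈ N, x ∉ K → ∀ g : G, g * x * g⁻¹ ∉ K := by
    intro x hx hxK g hg
    have h1 : (g * x * g⁻¹) ^ Nat.card K = 1 := by
      calc (g * x * g⁻¹) ^ Nat.card K = (((⟨_, hg⟩ : K) ^ Nat.card K : K) : G) := rfl
        _ = 1 := by rw [pow_card_eq_one', OneMemClass.coe_one]
    rw [conj_pow, conj_eq_one_iff] at h1
    have h2 : (⟨x, hx⟩ : N) ^ Nat.card K' = 1 := by
      apply Subtype.ext
      rw [Nat.card_congr (Subgroup.subgroupOfEquivOfLe hKN).toEquiv]
      exact h1
    have h3 := congrArg (QuotientGroup.mk' K') h2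
    rw [map_pow, map_one] at h3
    have h4 : (QuotientGroup.mk' K' ⟨x, hx⟩) ^ K'.index = 1 := by
      rw [Subgroup.index_eq_card]; exact pow_card_eq_one'
    have h5 := (pow_gcd_eq_one (m := Nat.card K') (n := K'.index)).mpr ⟨h3, h4⟩
    rw [show Nat.gcd (Nat.card K') K'.index = 1 from hcop, pow_one] at h5
    exact hxK ((QuotientGroup.eq_one_iff (N := K') _).mp h5)
  refine ⟨hout, fun ϑ hϑ hϑK hϑ1 x => ?_⟩
  by_cases hx : (x : G) ∈ K
  · by_cases h1 : x = 1
    · subst h1
      rw [OneMemClass.coe_one, Cfsg.Lib.Chars.indFun_one, hϑ1, mul_zero]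
    · exact Cfsg.Lib.Chars.indFun_TI_apply (K : Set G) hTI hϑ hϑK x hx h1
  · rw [hϑK x hx, Cfsg.Lib.Chars.indFun_apply, Finset.sum_eq_zero, mul_zero]
    intro g _
    by_cases hm : g⁻¹ * x * g ∈ N
    · rw [Cfsg.Lib.Chars.extendByZero_mem _ hm]
      refine hϑK _ ?_
      have := hout x x.2 hx g⁻¹
      rwa [inv_inv] at this
    · rw [Cfsg.Lib.Chars.extendByZero_not_mem _ hm]

end Cfsg.Agent.S0850
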