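import Cfsg.Statements.S0841
import Cfsg.Agent.Chars.Basic

set_option autoImplicit false
open Cfsg

namespace Cfsg.Agent.S0841

/-- If the commutator subgroup of G lies in the centre, then for all x, y in G and every natural number n one has (x * y) ^ n = x ^ n * y ^ n * c ^ (n * (n - 1) / 2) with c = y⁻¹ * x⁻¹ * y * x. -/
theorem result {G : Type*} [Group G] (hG : commutator G ≤ Subgroup.center G) (x y : G) (n : ℕ) : (x * y) ^ n = x ^ n * y ^ n * (y⁻¹ * x⁻¹ * y * x) ^ (n * (n - 1) / 2) := by
  have hc : ∀ a : G, Commute a (y⁻¹ * x⁻¹ * y * x) := fun a => by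
    have h1 : y⁻¹ * x⁻¹ * y * x ∈ commutator G := by
      have h2 := Subgroup.commutator_mem_commutator (Subgroup.mem_top y⁻¹) (Subgroup.mem_top x⁻¹)
      rwa [commutatorElement_def, inv_inv, inv_inv] at h2
    exact Subgroup.mem_center_iff.mp (hG h1) a
  set c := y⁻¹ * x⁻¹ * y * x with hcdef
  have hyx : y * x = x * y * c := by rw [hcdef]; group
  have hpow : ∀ n : ℕ, y ^ n * x = x * y ^ n * c ^ n := by
    intro n
    induction n with
    | zero => simp
    | succ n ih =>
      calc y ^ (n + 1) * x = y ^ n * (y * x) := by rw [pow_succ]; group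
        _ = (y ^ n * x) * y * c := by rw [hyx]; group
        _ = x * y ^ n * (c ^ n * y) * c := by rw [ih]; group
        _ = x * y ^ n * (y * c ^ n) * c := by rw [((hc y).pow_right n).eq]
        _ = _ := by rw [pow_succ, pow_succ]; group
  induction n with
  | zero => simp
  | succ n ih =>
    have hdiv : (n + 1) * (n + 1 - 1) / 2 = n * (n - 1) / 2 + n := by
      obtain ⟨t, ht⟩ : 2 ∣ n * (n - 1) := by
        rcases Nat.eq_zero_or_pos n with h | h
        · simp [h]
        · obtain ⟨m, rfl⟩ : ∃ m, n = m + 1 := ⟨n - 1, by omega⟩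
          rw [Nat.add_sub_cancel, mul_comm]
          exact Nat.two_dvd_mul_add_one m
      have h2 : (n + 1) * (n + 1 - 1) = n * (n - 1) + 2 * n := by
        rcases Nat.eq_zero_or_pos n with h | h
        · simp [h]
        · obtain ⟨m, rfl⟩ : ∃ m, n = m + 1 := ⟨n - 1, by omega⟩
          simp only [Nat.add_sub_cancel]; ring
      rw [h2, ht]; omega
    rw [hdiv, pow_succ (x * y), ih]
    set e := n * (n - 1) / 2
    calc x ^ n * y ^ n * c ^ e * (x * y) = x ^ n * y ^ n * (c ^ e * (x * y)) := by group
      _ = x ^ n * y ^ n * ((x * y) * c ^ e) := by rw [((hc (x * y)).pow_right e).eq]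
      _ = x ^ n * (y ^ n * x) * y * c ^ e := by group
      _ = x ^ n * x * y ^ n * (c ^ n * y) * c ^ e := by rw [hpow]; group
      _ = x ^ n * x * y ^ n * (y * c ^ n) * c ^ e := by rw [((hc y).pow_right n).eq]
      _ = x ^ (n + 1) * y ^ (n + 1) * c ^ (e + n) := by rw [pow_succ, pow_succ, add_comm e, pow_add]; group

end Cfsg.Agent.S0841
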