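import Cfsg.Statements.S1054
import Cfsg.Agent.Chev.Simple

set_option autoImplicit false
open Cfsg
open Cfsg.Lib.Chev Cfsg.Lie

namespace Cfsg.Agent.S1054

/-- The Chevalley groups of types D₄, F₄, E₆, E₇, E₈ are simple over every field. -/
theorem result {F : Type*} [Field F] (D : Cfsg.Lie.ChevalleyDatum)
    (hD : D ∈ [Cfsg.Lie.chevD4, Cfsg.Lie.chevF4, Cfsg.Lie.chevE6, Cfsg.Lie.chevE7, Cfsg.Lie.chevE8]) :
    IsSimpleGroup ↥(D.group F) ∧ ¬ IsMulCommutative ↥(D.group F) := by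
  simp only [List.mem_cons, List.not_mem_nil, or_false] at hD
  rcases hD with rfl | rfl | rfl | rfl | rfl
  · exact (⟨D4.ok, D4.okChain_, D4.okBase_all, okOrder_D4⟩ : Struct chevD4 D4.cert).simple okNeg_D4 D4.irr opp_D4 ((⟨D4.ok, D4.okChain_, D4.okBase_all, okOrder_D4⟩ : Struct chevD4 D4.cert).commutator_eq_top D4.perfect (by simp)) (by decide)
  · exact (⟨F4.ok, F4.okChain_, F4.okBase_all, okOrder_F4⟩ : Struct chevF4 F4.cert).simple okNeg_F4 F4.irr opp_F4 ((⟨F4.ok, F4.okChain_, F4.okBase_all, okOrder_F4⟩ : Struct chevF4 F4.cert).commutator_eq_top F4.perfect (by simp)) (by decide)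
  · exact (⟨E6.ok, E6.okChain_, E6.okBase_all, okOrder_E6⟩ : Struct chevE6 E6.cert).simple okNeg_E6 E6.irr opp_E6 ((⟨E6.ok, E6.okChain_, E6.okBase_all, okOrder_E6⟩ : Struct chevE6 E6.cert).commutator_eq_top E6.perfect (by simp)) (by decide)
  · exact (⟨E7.ok, E7.okChain_, E7.okBase_all, okOrder_E7⟩ : Struct chevE7 E7.cert).simple okNeg_E7 E7.irr opp_E7 ((⟨E7.ok, E7.okChain_, E7.okBase_all, okOrder_E7⟩ : Struct chevE7 E7.cert).commutator_eq_top E7.perfect (by simp)) (by decide)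
  · exact (⟨E8.ok, E8.okChain_, E8.okBase_all, okOrder_E8⟩ : Struct chevE8 E8.cert).simple okNeg_E8 E8.irr opp_E8 ((⟨E8.ok, E8.okChain_, E8.okBase_all, okOrder_E8⟩ : Struct chevE8 E8.cert).commutator_eq_top E8.perfect (by simp)) (by decide)

end Cfsg.Agent.S1054
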