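import Cfsg.Statements.S2455
import Cfsg.Agent.Known.SLTwo.Products

set_option autoImplicit false
open Cfsg

namespace Cfsg.Agent.S2455

/-- A strong covering result in the direction of Thompson's conjecture (non-identity elements) for PSL(2,q), q odd: let F be a finite field of odd characteristic p with at least 5 elements and let x ∈ PSL(2,F) have order greater than 2 and not divisible by p (so x is not unipotent). Then every non-identity element of PSL(2,F) is a product of two conjugates of x. -/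
theorem result {F : Type*} [Field F] [Fintype F] (p : ℕ) [Fact p.Prime] [CharP F p] (hp : p ≠ 2) (h5 : 5 ≤ Fintype.card F)
    (x : Matrix.ProjectiveSpecialLinearGroup (Fin 2) F) (hx2 : 2 < orderOf x) (hxp : ¬ p ∣ orderOf x) : ∀ g : Matrix.ProjectiveSpecialLinearGroup (Fin 2) F, g ≠ 1 → ∃ u v : Matrix.ProjectiveSpecialLinearGroup (Fin 2) F, g = (u * x * u⁻¹) * (v * x * v⁻¹) := by
  obtain ⟨s, rfl⟩ := QuotientGroup.mk'_surjective (Subgroup.center (Matrix.SpecialLinearGroup (Fin 2) F)) x
  have hns : Cfsg.Lib.GLTwo.NonScalar (s : Matrix (Fin 2) (Fin 2) F) := by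
    by_contra h
    rw [(QuotientGroup.eq_one_iff s).2 ((Cfsg.Lib.GLTwo.mem_center_iff s).2 h) |> fun e => (show QuotientGroup.mk' _ s = 1 from e), orderOf_one] at hx2
    omega
  have ht0 : (s : Matrix (Fin 2) (Fin 2) F).trace ≠ 0 := by
    intro ht
    have hsq : s * s = -1 := by
      refine Subtype.ext ?_
      rw [Matrix.trace_fin_two] at ht
      have hd := (Matrix.det_fin_two (s : Matrix (Fin 2) (Fin 2) F)).symm.trans s.2
      rw [Matrix.SpecialLinearGroup.coe_mul, Matrix.SpecialLinearGroup.coe_neg, Matrix.SpecialLinearGroup.coe_one]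
      ext i j; fin_cases i <;> fin_cases j <;> simp [Matrix.mul_apply, Fin.sum_univ_two]
      · linear_combination ((s : Matrix (Fin 2) (Fin 2) F) 0 0) * ht - hd
      · linear_combination ((s : Matrix (Fin 2) (Fin 2) F) 0 1) * ht
      · linear_combination ((s : Matrix (Fin 2) (Fin 2) F) 1 0) * ht
      · linear_combination ((s : Matrix (Fin 2) (Fin 2) F) 1 1) * ht - hd
    have h1 : (Cfsg.Lib.GLTwo.prj s) ^ 2 = 1 := by
      rw [← map_pow, sq, hsq, Cfsg.Lib.GLTwo.prj_eq_one_iff]; exact .inr rfl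
    have : orderOf (QuotientGroup.mk' (Subgroup.center (Matrix.SpecialLinearGroup (Fin 2) F)) s) ≤ 2 := Nat.le_of_dvd two_pos (orderOf_dvd_of_pow_eq_one h1)
    omega
  have h2 : (2 : F) ≠ 0 := Ring.two_ne_zero (by rw [ringChar.eq F p]; exact hp)
  refine Cfsg.Lib.GLTwo.covers hns ht0 (fun r hr e => ?_) (fun h => absurd h h2)
  have h := Cfsg.Lib.GLTwo.pow_char_of_trace p hr e
  have h1 : (Cfsg.Lib.GLTwo.prj s) ^ p = 1 := by
    rw [← map_pow]
    refine (QuotientGroup.eq_one_iff _).2 ((Cfsg.Lib.GLTwo.mem_center_iff _).2 ?_)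
    rw [h]; exact Cfsg.Lib.GLTwo.not_nonScalar_smul _
  rcases (Nat.dvd_prime (Fact.out : p.Prime)).1 (orderOf_dvd_of_pow_eq_one h1) with e1 | e1
  · exact absurd hx2 (by rw [show orderOf (Cfsg.Lib.GLTwo.prj s) = orderOf (QuotientGroup.mk' _ s) from rfl] at e1; omega)
  · exact hxp (e1 ▸ dvd_rfl)

end Cfsg.Agent.S2455
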