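import Cfsg.Statements.S0190
import Cfsg.Agent.Chars.Induced

set_option autoImplicit false
open Cfsg

namespace Cfsg.Agent.S0190

/-- For a transitive action of a finite group on X, the permutation character g ↦ (number of fixed points of g) is the function induced from the principal character of the stabilizer of any point. -/
theorem result {G : Type*} [Group G] [Fintype G] (X : Type*) [MulAction G X] [Finite X] [MulAction.IsPretransitive G X] (x : X) : (fun g : G => (Nat.card (MulAction.fixedBy X g) : ℂ)) = Cfsg.indFun (MulAction.stabilizer G x) (fun _ => 1) := by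
  classical
  funext g
  rw [Cfsg.Lib.Chars.indFun_apply]
  have := Fintype.ofFinite X
  have hx : ∀ y : X, ∃ c : G, c • x = y := fun y => MulAction.exists_smul_eq G x y
  have hterm : ∀ c : G, Cfsg.extendByZero (MulAction.stabilizer G x) (fun _ => (1 : ℂ)) (c⁻¹ * g * c) =
      if g • (c • x) = c • x then 1 else 0 := by
    intro c
    by_cases h : g • (c • x) = c • x
    · have hm : c⁻¹ * g * c ∈ MulAction.stabilizer G x := by
        rw [MulAction.mem_stabilizer_iff, mul_smul, mul_smul, h, inv_smul_smul]
      rw [if_pos h, Cfsg.Lib.Chars.extendByZero_mem _ hm]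
    · rw [if_neg h, Cfsg.Lib.Chars.extendByZero_not_mem]
      intro hm
      apply h
      rw [MulAction.mem_stabilizer_iff, mul_smul, mul_smul, inv_smul_eq_iff] at hm
      exact hm
  rw [Finset.sum_congr rfl fun c _ => hterm c,
    ← Finset.sum_fiberwise Finset.univ (fun c : G => c • x)]
  have hfib : ∀ y : X, (Finset.univ.filter (fun c : G => c • x = y)).card =
      Nat.card (MulAction.stabilizer G x) := by
    intro y
    obtain ⟨a, rfl⟩ := hx y
    rw [← Fintype.card_subtype, ← Nat.card_eq_fintype_card]
    exact Nat.card_congr ((Equiv.mulLeft a⁻¹).subtypeEquiv fun c => by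
      rw [Equiv.coe_mulLeft, MulAction.mem_stabilizer_iff, mul_smul, inv_smul_eq_iff])
  rw [Finset.sum_congr rfl (g := fun y : X => (Nat.card (MulAction.stabilizer G x) : ℂ) *
    (if g • y = y then 1 else 0)) (fun y _ => ?_), ← Finset.mul_sum, Finset.sum_boole, ← mul_assoc,
    inv_mul_cancel₀ (by exact_mod_cast Nat.card_pos.ne'), one_mul, Nat.card_eq_fintype_card,
    ← Set.toFinset_card]
  · congr 2
    ext y
    simp [MulAction.mem_fixedBy]
  · rw [Finset.sum_congr rfl (g := fun _ => if g • y = y then (1 : ℂ) else 0) (fun c hc => by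
      rw [(Finset.mem_filter.mp hc).2]), Finset.sum_const, hfib, nsmul_eq_mul]

end Cfsg.Agent.S0190
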