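import Cfsg.Statements.S4037
import Cfsg.Agent.Blocks.Averages
import Cfsg.Agent.Blocks.Roots
import Cfsg.Agent.Blocks.Feit3
import Cfsg.Agent.Chars.Burnside
import Cfsg.Agent.Components.Signalizer.Basic
import Cfsg.Agent.Components.Local

set_option autoImplicit false
open Cfsg

namespace Cfsg.Agent.S4037

open Subgroup Cfsg.Lib.Chars Cfsg.Lib.Blocks
open scoped ComplexConjugate

universe u

theorem small_index_unit {M : Ideal Cfsg.AlgInt} {r : ℕ} (hM : Cfsg.IsPModular r M) {c : ℕ}
    (hc : ¬ r ∣ c) {z : ℂ} (hz : z ∈ place M) (hs : Small M ((c : ℂ) * z)) : Small M z := by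
  have hu := (isUnitAt_natCast hM hc)
  have h1 := hs.mem_mul hu.inv.mem_place
  rwa [← mul_assoc, inv_mul_cancel₀ hu.ne_zero, one_mul] at h1

/-- a group generated by the conjugates of a primary element with class of prime power size is solvable -/
theorem solvable_of_closure_top {G : Type u} [Group G] [Finite G] {p q j k : ℕ} (hp : p.Prime) (hq : q.Prime)
    {x : G} (hx : orderOf x = q ^ j) (hk : (centralizer ({x} : Set G)).index ∣ p ^ k)
    (htop : normalClosure ({x} : Set G) = ⊤) : Group.IsSolvable G := by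
  classical
  letI := Fintype.ofFinite G
  by_contra hns
  obtain ⟨r, hr, hrd, hrp, hrq⟩ : ∃ r : ℕ, r.Prime ∧ r ∣ Nat.card G ∧ r ≠ p ∧ r ≠ q := by
    by_contra hno
    push Not at hno
    refine hns (burnside_isSolvable p q hp hq G ?_)
    obtain ⟨a, m, hm, ham⟩ := Nat.exists_eq_pow_mul_and_not_dvd (Nat.card_pos (α := G)).ne' p hp.ne_one
    refine ⟨a, m.primeFactorsList.length, ham.trans (congrArg (p ^ a * ·) ?_)⟩
    refine Nat.eq_prime_pow_of_unique_prime_dvd (fun h => hm (h ▸ dvd_zero p)) fun {d} hd hdm => ?_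
    exact hno d hd (ham ▸ dvd_mul_of_dvd_right hdm _) fun h => hm (h ▸ hdm)
  haveI := Fact.mk hr
  obtain ⟨M, hM⟩ := exists_isPModular hr
  obtain ⟨s, hs⟩ := exists_prime_orderOf_dvd_card' (G := G) r hrd
  set c := (centralizer ({x} : Set G)).index with hc
  have hrc : ¬ r ∣ c := fun h => hrp ((Nat.prime_dvd_prime_iff_eq hr hp).mp (hr.dvd_of_dvd_pow (h.trans hk)))
  have hrm : ¬ r ∣ q ^ j := fun h => hrq ((Nat.prime_dvd_prime_iff_eq hr hq).mp (hr.dvd_of_dvd_pow h))
  set B := blockOf M ((principal G : Cfsg.IrrCharacter G) : G → ℂ) with hB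
  have h1r : ¬ r ∣ orderOf (1 : G) := by rw [orderOf_one]; exact hr.not_dvd_one
  have horth := block_orthogonality_regular hM (isPBlock_blockOf (M := M) (principal G))
    (g := (1 : G)) (h := s) h1r (hs ▸ dvd_rfl)
  rw [← Finset.add_sum_erase _ _ (Finset.mem_filter.mpr ⟨Finset.mem_univ _, mem_blockOf_self hM (principal G)⟩),
    show ((principal G : Cfsg.IrrCharacter G) : G → ℂ) 1 = 1 from rfl,
    show ((principal G : Cfsg.IrrCharacter G) : G → ℂ) s = 1 from rfl, map_one, one_mul] at horth
  obtain ⟨χ, hχB, hχ1, hχp⟩ : ∃ χ, χ ∈ B ∧ χ ≠ principal G ∧ ¬ p ∣ deg (χ : G → ℂ) := by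
    by_contra hno
    push Not at hno
    have hint : IsIntegral ℤ ((1 : ℂ) / (p : ℂ)) := by
      have he := eq_neg_of_add_eq_zero_left horth
      rw [he, neg_div, Finset.sum_div]
      refine (IsIntegral.sum _ fun χ hχ => ?_).neg
      obtain ⟨hχ1, hχB⟩ := Finset.mem_erase.mp hχ
      obtain ⟨d, hd⟩ := hno χ (Finset.mem_filter.mp hχB).2 hχ1
      rw [irr_apply_one_eq_deg, hd, Nat.cast_mul, mul_assoc, mul_div_cancel_left₀ _ (by exact_mod_cast hp.ne_zero)]
      exact (isIntegral_algebraMap (R := ℤ) (x := (d : ℤ))).mul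
        ((IsCharacter.isIntegral (isCharacter_of_irr χ.2) s).map (starRingEnd ℂ).toIntAlgHom)
    exact hp.not_dvd_one (dvd_of_isIntegral_div (a := 1) hp.ne_zero (by simpa using hint))
  have hsame := (sameBlock_iff hM (principal G) χ).mp hχB x
  have hne := IsIrrCharacter.apply_one_ne_zero χ.2
  rw [Cfsg.centralChar, Cfsg.centralChar, show ((principal G : Cfsg.IrrCharacter G) : G → ℂ) x = 1 from rfl,
    show ((principal G : Cfsg.IrrCharacter G) : G → ℂ) 1 = 1 from rfl, div_one, ← hc, mul_div_assoc,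
    ← mul_sub] at hsame
  have hcop : (deg (χ : G → ℂ)).Coprime (Nat.card {y : G // IsConj x y}) := by
    rw [card_isConj, ← hc]
    exact Nat.Coprime.coprime_dvd_right hk ((hp.coprime_iff_not_dvd.mpr hχp).symm.pow_right k)
  obtain ⟨n, ρ, hρ, hchar⟩ := χ.2
  rcases burnside_zero_or_max χ.2 x hcop with h0 | hnorm
  · rw [h0, zero_div, sub_zero, mul_one] at hsame
    exact (isUnitAt_natCast hM hrc).not_small hsame
  rw [← hchar, ρ.char_one, Complex.natCast_re] at hnorm
  obtain ⟨ω, hω, -⟩ := scalar_of_norm_character_eq ρ x hnorm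
  have hval : (χ : G → ℂ) x = ω * (χ : G → ℂ) 1 := by
    rw [← hchar, ρ.char_one, Representation.character, hω, map_smul, smul_eq_mul, LinearMap.trace_id]
  rw [hval, mul_div_assoc, div_self hne, mul_one] at hsame
  have hn0 : 0 < Module.finrank ℂ (Fin n → ℂ) := by
    refine Nat.pos_of_ne_zero fun h => hne ?_
    rw [← hchar, ρ.char_one, h, Nat.cast_zero]
  have hωm : ω ^ (q ^ j) = 1 := by
    have h1 : ρ x ^ (q ^ j) = 1 := by rw [← map_pow, ← hx, pow_orderOf_eq_one, map_one]
    rw [hω, smul_pow, show (LinearMap.id : Module.End ℂ (Fin n → ℂ)) = 1 from rfl, one_pow] at h1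
    have h2 := congrArg (LinearMap.trace ℂ (Fin n → ℂ)) h1
    rw [map_smul, LinearMap.trace_one, smul_eq_mul] at h2
    exact (mul_eq_right₀ (by exact_mod_cast hn0.ne')).mp h2
  have hω1 : ω = 1 := by
    refine eq_one_of_small_sub_one hM hrm hωm ?_
    have hωp : ω ∈ place M := (isUnitAt_of_pow_eq_one hM (pow_ne_zero j hq.ne_zero) hωm).mem_place
    have h1 := (small_index_unit hM hrc (sub_mem (one_mem _) hωp) hsame).neg
    rwa [neg_sub] at h1
  have hxker : x ∈ ρ.ker := by
    show ρ x = 1
    rw [hω, hω1, one_smul]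
    rfl
  have hker : ρ.ker = ⊤ := top_unique (htop ▸ normalClosure_le_normal (Set.singleton_subset_iff.mpr hxker))
  apply hχ1
  have htriv : ∀ y, ρ y = 1 := fun y => by
    have : y ∈ ρ.ker := hker ▸ Subgroup.mem_top y
    exact this
  have h1 : Cfsg.classInner (χ : G → ℂ) χ = 1 := classInner_irr_self χ
  have hv : ∀ y, (χ : G → ℂ) y = (Module.finrank ℂ (Fin n → ℂ) : ℂ) := fun y => by
    rw [← hchar, Representation.character, htriv, LinearMap.trace_one]
  rw [classInner_def] at h1
  simp only [hv, map_natCast, Finset.sum_const, Finset.card_univ, nsmul_eq_mul] at h1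
  rw [← mul_assoc, Nat.card_eq_fintype_card,
    inv_mul_cancel₀ (by exact_mod_cast Fintype.card_ne_zero), one_mul] at h1
  have h2 : Module.finrank ℂ (Fin n → ℂ) = 1 := by
    have : Module.finrank ℂ (Fin n → ℂ) * Module.finrank ℂ (Fin n → ℂ) = 1 := by exact_mod_cast h1
    exact Nat.eq_one_of_mul_eq_one_right this
  exact Subtype.ext (funext fun y => by rw [hv, h2]; simp [principal])

theorem exists_radical (G : Type u) [Group G] [Finite G] :
    ∃ R : Subgroup G, R.Normal ∧ Group.IsSolvable R ∧
      ∀ N : Subgroup G, N.Normal → Group.IsSolvable N → N ≤ R := by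
  obtain ⟨R, hR⟩ := (Set.toFinite {N : Subgroup G | N.Normal ∧ Group.IsSolvable N}).exists_maximal
    ⟨⊥, inferInstance, inferInstance⟩
  refine ⟨R, hR.prop.1, hR.prop.2, fun N hN hNs => ?_⟩
  haveI := hR.prop.1
  haveI := hN
  exact le_sup_right.trans (hR.2 ⟨inferInstance,
    Cfsg.Lib.Signalizer.isSolvable_sup (by rw [normalizer_eq_top]; exact le_top) hR.prop.2 hNs⟩ le_sup_left)

theorem solvable_normalClosure {p q : ℕ} (hp : p.Prime) (hq : q.Prime) : ∀ (n : ℕ) (G : Type u) [Group G] [Finite G],
    Nat.card G = n → ∀ (x : G) (j k : ℕ), orderOf x = q ^ j → (centralizer ({x} : Set G)).index ∣ p ^ k →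
    Group.IsSolvable (normalClosure ({x} : Set G)) := by
  intro n
  induction n using Nat.strong_induction_on with
  | _ n ih =>
    intro G _ _ hn x j k hx hk
    set D := normalClosure ({x} : Set G) with hD
    by_cases htop : D = ⊤
    · haveI := solvable_of_closure_top hp hq hx hk htop
      infer_instance
    have hlt : Nat.card D < n :=
      hn ▸ lt_of_le_of_ne (card_le_card_group D) fun e => htop (eq_top_of_card_eq D e)
    obtain ⟨R, hRn, hRs, hR⟩ := exists_radical D
    haveI := hRn
    have hconj : ∀ g : G, g * x * g⁻¹ ∈ D := fun g => normalClosure_normal.conj_mem x (subset_normalClosure (Set.mem_singleton x)) g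
    have hmem : ∀ g : G, (⟨g * x * g⁻¹, hconj g⟩ : D) ∈ R := by
      intro g
      set y : D := ⟨g * x * g⁻¹, hconj g⟩ with hy
      refine hR _ normalClosure_normal (ih _ hlt D rfl y j k ?_ ?_) (subset_normalClosure rfl)
      · rw [← Subgroup.orderOf_coe]
        show orderOf (g * x * g⁻¹) = _
        rw [← MulAut.conj_apply, MulEquiv.orderOf_eq, hx]
      · refine (dvd_trans ?_ (Cfsg.Lib.Components.relIndex_dvd_index_of_normal_right
          (centralizer ({g * x * g⁻¹} : Set G)) D)).trans ?_
        · exact index_dvd_of_le fun c hc => mem_centralizer_singleton_iff.mpr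
            (Subtype.ext (mem_centralizer_singleton_iff.mp hc))
        · have : Nat.card {z : G // IsConj (g * x * g⁻¹) z} = Nat.card {z : G // IsConj x z} := by
            refine Nat.card_congr (Equiv.subtypeEquivRight fun z => ?_)
            exact ⟨(isConj_iff.mpr ⟨g, rfl⟩).trans, (isConj_iff.mpr ⟨g, rfl⟩).symm.trans⟩
          rw [card_isConj, card_isConj] at this
          rwa [this]
    have hle : D ≤ R.map D.subtype := by
      refine (closure_le _).mpr fun z hz => ?_
      obtain ⟨a, ha, hza⟩ := Group.mem_conjugatesOfSet_iff.mp hz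
      rw [Set.mem_singleton_iff.mp ha] at hza
      obtain ⟨g, hg⟩ := isConj_iff.mp hza
      exact ⟨_, hmem g, hg⟩
    have : R = ⊤ := top_unique fun z _ => by
      obtain ⟨w, hw, hwz⟩ := hle z.2
      rwa [← Subtype.ext hwz]
    rw [this] at hRs
    exact Group.isSolvable_of_surjective (f := (⊤ : Subgroup D).subtype) fun z => ⟨⟨z, mem_top z⟩, rfl⟩


/-- If an element x of a finite group G has a conjugacy class of prime-power size, then the normal closure of x in G (the subgroup generated by the conjugacy class of x) is solvable. -/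
theorem result {G : Type*} [Group G] [Finite G]
    (x : G) {p : ℕ} (hp : p.Prime) (k : ℕ) (hx : (ConjClasses.mk x).carrier.ncard = p ^ k) :
    Group.IsSolvable ↥(Subgroup.normalClosure ({x} : Set G)) := by
  classical
  obtain ⟨R, hRn, hRs, hR⟩ := exists_radical G
  haveI := hRn
  have hidx : (centralizer ({x} : Set G)).index ∣ p ^ k := by
    rw [← hx, ← card_isConj, ← Nat.card_coe_set_eq]
    exact dvd_of_eq (Nat.card_congr (Equiv.subtypeEquivRight fun y =>
      (ConjClasses.mem_carrier_iff_mk_eq.trans (ConjClasses.mk_eq_mk_iff_isConj.trans ⟨IsConj.symm, IsConj.symm⟩)).symm))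
  have key : ∀ n : ℕ, ∀ y : G, orderOf y = n → centralizer ({x} : Set G) ≤ centralizer ({y} : Set G) → y ∈ R := by
    intro n
    induction n using Nat.recOnPrimeCoprime with
    | zero => exact fun y hy _ => absurd hy (orderOf_pos y).ne'
    | prime_pow q m hq =>
      intro y hy hC
      exact hR _ normalClosure_normal (solvable_normalClosure hp hq _ G rfl y m k hy ((index_dvd_of_le hC).trans hidx))
        (subset_normalClosure rfl)
    | coprime a b ha hb hab iha ihb =>
      intro y hy hC
      have hpw : ∀ i : ℕ, centralizer ({x} : Set G) ≤ centralizer ({y ^ i} : Set G) := fun i c hc =>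
        mem_centralizer_singleton_iff.mpr
          (Commute.pow_right (mem_centralizer_singleton_iff.mp (hC hc) : Commute c y) i).eq
      have h1 : y ^ b ∈ R := iha _ (by
        rw [orderOf_pow, hy, Nat.gcd_eq_right (dvd_mul_left b a), Nat.mul_div_cancel _ (by omega)]) (hpw b)
      have h2 : y ^ a ∈ R := ihb _ (by
        rw [orderOf_pow, hy, Nat.gcd_eq_right (dvd_mul_right a b), Nat.mul_div_cancel_left _ (by omega)]) (hpw a)
      have hb' := Nat.gcd_eq_gcd_ab a b
      rw [Nat.coprime_iff_gcd_eq_one.mp hab] at hb'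
      have h3 : y = (y ^ a) ^ (Nat.gcdA a b) * (y ^ b) ^ (Nat.gcdB a b) := by
        rw [← zpow_natCast, ← zpow_natCast y b, ← zpow_mul, ← zpow_mul, ← zpow_add, ← hb', Nat.cast_one, zpow_one]
      rw [h3]
      exact mul_mem (zpow_mem h2 _) (zpow_mem h1 _)
  haveI := hRs
  exact Cfsg.Lib.Coprime.isSolvable_of_le (normalClosure_le_normal (Set.singleton_subset_iff.mpr (key _ x rfl le_rfl))) hRs

end Cfsg.Agent.S4037
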