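import Cfsg.Statements.S4035
import Cfsg.Agent.SolvStruct.Basics
import Cfsg.Agent.Chars.Count
import Cfsg.Agent.Transfer.Basic
import Cfsg.Agent.Coprime.Sylow

set_option autoImplicit false
open Cfsg

namespace Cfsg.Agent.S4035

open Subgroup


/-- Let G be a finite group and p a prime such that p divides the size of no conjugacy class of p-regular elements (elements of order prime to p). Then G is the internal direct product of a Sylow p-subgroup P and a normal subgroup H of order prime to p: P is normal, P ⊓ H = 1 and PH = G. -/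
theorem result {G : Type*} [Group G] [Finite G] {p : ℕ} [Fact p.Prime]
    (h : ∀ x : G, (orderOf x).Coprime p → ¬ p ∣ (ConjClasses.mk x).carrier.ncard) (P : Sylow p G) :
    (P : Subgroup G).Normal ∧ ∃ H : Subgroup G, H.Normal ∧ ¬ p ∣ Nat.card H ∧
      (P : Subgroup G) ⊓ H = ⊥ ∧ (P : Subgroup G) ⊔ H = ⊤ := by
  classical
  have hp : p.Prime := Fact.out
  have hcl : ∀ b : G, (orderOf b).Coprime p → ¬ p ∣ (centralizer ({b} : Set G)).index := fun b hb hd => by
    refine h b hb ?_
    have e : (ConjClasses.mk b).carrier.ncard = (centralizer ({b} : Set G)).index := by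
      rw [← Cfsg.Lib.Chars.card_isConj, ← Nat.card_coe_set_eq]
      exact Nat.card_congr (Equiv.subtypeEquivRight fun y =>
        ConjClasses.mem_carrier_iff_mk_eq.trans (ConjClasses.mk_eq_mk_iff_isConj.trans ⟨IsConj.symm, IsConj.symm⟩))
    rwa [e]
  have hcent : ∀ b : G, (orderOf b).Coprime p → ∀ a : G, a * b = b * a → (∃ k, orderOf a = p ^ k) →
      ∃ R : Sylow p G, a ∈ (R : Subgroup G) ∧ (R : Subgroup G) ≤ centralizer ({b} : Set G) := by
    intro b hb a hab hak
    obtain ⟨k, hk⟩ := hak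
    set C := centralizer ({b} : Set G)
    have haC : a ∈ C := mem_centralizer_singleton_iff.2 hab
    obtain ⟨S, hS⟩ := (IsPGroup.of_card (p := p) (n := k)
      (show Nat.card (zpowers (⟨a, haC⟩ : C)) = p ^ k by rw [Nat.card_zpowers, Subgroup.orderOf_mk, hk])).exists_le_sylow
    have hi : ¬ p ∣ ((S : Subgroup C).map C.subtype).index := by
      rw [index_map_subtype]; exact hp.not_dvd_mul S.not_dvd_index (hcl b hb)
    exact ⟨(S.2.map C.subtype).toSylow hi, ⟨⟨a, haC⟩, hS (mem_zpowers _), rfl⟩, map_subtype_le _⟩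
  set M := (P : Subgroup G) ⊔ centralizer ((P : Subgroup G) : Set G)
  have hM : M = ⊤ := by
    by_contra hne
    obtain ⟨g, hg⟩ := Cfsg.Lib.SolvStruct.exists_not_mem_conj M hne
    obtain ⟨a, b, hag, hbg, hab, hak, hb⟩ := Cfsg.Lib.Transfer.exists_pPart (G := G) p g
    obtain ⟨i, rfl⟩ := mem_zpowers_iff.1 hag
    obtain ⟨j, rfl⟩ := mem_zpowers_iff.1 hbg
    obtain ⟨R, haR, hR⟩ := hcent (g ^ j) hb (g ^ i) (Commute.zpow_zpow_self g i j).eq hak
    obtain ⟨c, rfl⟩ := MulAction.exists_smul_eq G P R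
    rw [Cfsg.Lib.Transfer.sylow_smul_coe] at haR hR
    refine hg c ?_
    have e : c⁻¹ * g * c = (c⁻¹ * g ^ i * c) * (c⁻¹ * g ^ j * c) := by
      conv_lhs => rw [← hab]
      group
    rw [e]
    refine mul_mem (mem_sup_left ?_) (mem_sup_right (mem_centralizer_iff.2 fun y hy => ?_))
    · obtain ⟨y, hy, hye⟩ := haR
      have hye' : c * y * c⁻¹ = g ^ i := hye
      rwa [← hye', show c⁻¹ * (c * y * c⁻¹) * c = y by group]
    · have h1 := mem_centralizer_singleton_iff.1 (hR ⟨y, hy, rfl⟩ : c * y * c⁻¹ ∈ centralizer ({g ^ j} : Set G))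
      generalize g ^ j = B at h1 ⊢
      calc y * (c⁻¹ * B * c) = c⁻¹ * ((c * y * c⁻¹) * B) * c := by group
        _ = _ := by rw [h1]; group
  have hPn : (P : Subgroup G).Normal := by
    rw [← normalizer_eq_top_iff, eq_top_iff, ← hM]
    refine sup_le le_normalizer fun x hx => ?_
    exact Cfsg.Lib.Coprime.mem_normalizer_of_conj_mem
        (fun y hy => by rwa [← mem_centralizer_iff.1 hx y hy, mul_inv_cancel_right])
        (fun y hy => by rwa [mul_assoc, mem_centralizer_iff.1 hx y hy, inv_mul_cancel_left])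
  refine ⟨hPn, ?_⟩
  haveI := hPn
  obtain ⟨H, hH⟩ := exists_right_complement'_of_coprime P.card_coprime_index
  have hHp : ¬ p ∣ Nat.card H := by rw [← hH.symm.index_eq_card]; exact P.not_dvd_index
  have hHC : ∀ x ∈ H, ∀ y ∈ (P : Subgroup G), y * x = x * y := by
    intro x hx y hy
    obtain ⟨R, -, hR⟩ := hcent x ((hp.coprime_iff_not_dvd.2 fun hd => hHp (hd.trans (Subgroup.orderOf_dvd_natCard H hx))).symm) 1 (by simp) ⟨0, by simp⟩
    letI := Sylow.unique_of_normal P hPn
    exact mem_centralizer_singleton_iff.1 (hR (Subsingleton.elim P R ▸ hy))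
  refine ⟨H, ?_, hHp, hH.disjoint.eq_bot, hH.sup_eq_top⟩
  rw [← normalizer_eq_top_iff, eq_top_iff, ← hH.sup_eq_top]
  exact sup_le (fun y hy => Cfsg.Lib.Coprime.mem_normalizer_of_conj_mem
        (fun x hx => by rwa [hHC x hx y hy, mul_inv_cancel_right])
        (fun x hx => by rwa [mul_assoc, ← hHC x hx y hy, inv_mul_cancel_left])) le_normalizer

end Cfsg.Agent.S4035
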