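import Cfsg.Statements.S3761
import Cfsg.Agent.PGroups.CyclicMaximal

set_option autoImplicit false
open Cfsg

namespace Cfsg.Agent.S3761


open Cfsg.Lib

variable {G : Type*} [Group G] [Finite G] {p : ℕ} [hp : Fact p.Prime]

/-- the facts about the action on the cyclic normal subgroup -/
structure Setup (a : G) (p m : ℕ) : Prop where
  ord : orderOf a = p ^ (m + 2)
  conj : ∀ g : G, ∃ r : ℤ, g * a * g⁻¹ = a ^ r
  self : ∀ g : G, Commute g a → g ∈ Subgroup.zpowers a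
  isP : IsPGroup p G

theorem zpow_eq_one' {a : G} {m : ℕ} (S : Setup a p m) (i : ℤ) : a ^ i = 1 ↔ (p : ℤ) ^ (m + 2) ∣ i := by
  rw [← orderOf_dvd_iff_zpow_eq_one, S.ord]; push_cast; rfl

theorem conj_pow' {a g : G} {r : ℤ} (h : g * a * g⁻¹ = a ^ r) : ∀ k : ℕ, g ^ k * a * (g ^ k)⁻¹ = a ^ (r ^ k) := by
  intro k
  induction k with
  | zero => simp
  | succ k ih =>
    calc g ^ (k + 1) * a * (g ^ (k + 1))⁻¹ = g * (g ^ k * a * (g ^ k)⁻¹) * g⁻¹ := by rw [pow_succ']; group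
      _ = (g * a * g⁻¹) ^ (r ^ k) := by rw [ih, conj_zpow]
      _ = a ^ (r ^ (k + 1)) := by rw [h, ← zpow_mul, pow_succ']

theorem r_one {a g : G} {m : ℕ} {r : ℤ} (S : Setup a p m) (h : g * a * g⁻¹ = a ^ r) : (p : ℤ) ∣ r - 1 := by
  obtain ⟨k, hk⟩ := S.isP g
  have h1 := conj_pow' h (p ^ k)
  rw [hk, inv_one, mul_one, one_mul] at h1
  have h2 : a ^ (r ^ (p ^ k) - 1) = 1 := by rw [zpow_sub_one, ← h1, mul_inv_cancel]
  have h3 : (p : ℤ) ∣ r ^ (p ^ k) - 1 := (dvd_pow_self _ (by omega)).trans ((zpow_eq_one' S _).1 h2)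
  rw [← ZMod.intCast_zmod_eq_zero_iff_dvd] at h3 ⊢
  push_cast at h3 ⊢
  rwa [ZMod.pow_card_pow] at h3

theorem z_central {a : G} {m : ℕ} (S : Setup a p m) (j : ℤ) (g : G) : Commute g (a ^ ((p : ℤ) ^ (m + 1) * j)) := by
  obtain ⟨r, hr⟩ := S.conj g
  obtain ⟨q, hq⟩ := r_one S hr
  refine mul_inv_eq_iff_eq_mul.1 ?_
  rw [← conj_zpow, hr, ← zpow_mul, ← mul_inv_eq_one, ← zpow_neg, ← zpow_add, zpow_eq_one' S]
  exact ⟨q * j, by rw [show (r : ℤ) = 1 + (p : ℤ) * q by linarith]; ring⟩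

/-- if `h a h⁻¹ = a w` with `w` central then the class two formula holds -/
theorem pow_formula {a h w : G} (hw : ∀ g, Commute g w) (hh : h * a * h⁻¹ = a * w) (x : ℤ) :
    ∀ k : ℕ, (a ^ x * h) ^ k = a ^ (x * k) * h ^ k * w ^ (x * (k.choose 2 : ℕ)) := by
  have hk : ∀ k : ℕ, h ^ k * a ^ x = a ^ x * h ^ k * w ^ (x * k) := by
    intro k
    induction k with
    | zero => simp
    | succ k ih =>
      have h1 : h * a ^ x = a ^ x * h * w ^ x := by
        have h2 : (h * a * h⁻¹) ^ x = a ^ x * w ^ x := by rw [hh, (hw a).mul_zpow]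
        rw [conj_zpow, mul_inv_eq_iff_eq_mul] at h2
        rw [h2, mul_assoc, mul_assoc, ((hw h).zpow_right x).eq]
      calc h ^ (k + 1) * a ^ x = h * (h ^ k * a ^ x) := by rw [pow_succ', mul_assoc]
        _ = (h * a ^ x) * (h ^ k * w ^ (x * k)) := by rw [ih]; simp only [mul_assoc]
        _ = a ^ x * h * (w ^ x * h ^ k) * w ^ (x * k) := by rw [h1]; simp only [mul_assoc]
        _ = a ^ x * (h * h ^ k) * (w ^ x * w ^ (x * k)) := by rw [← ((hw (h ^ k)).zpow_right x).eq]; simp only [mul_assoc]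
        _ = _ := by rw [← pow_succ', ← zpow_add]; congr 2; push_cast; ring
  intro k
  induction k with
  | zero => simp
  | succ k ih =>
    have hc : ((k + 1).choose 2 : ℕ) = k + k.choose 2 := by rw [Nat.choose_succ_succ', Nat.choose_one_right]
    calc (a ^ x * h) ^ (k + 1) = a ^ (x * k) * h ^ k * (w ^ (x * (k.choose 2 : ℕ)) * (a ^ x * h)) := by
          rw [pow_succ, ih, mul_assoc]
      _ = a ^ (x * k) * (h ^ k * a ^ x) * h * w ^ (x * (k.choose 2 : ℕ)) := by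
          rw [← ((hw (a ^ x * h)).zpow_right _).eq]; simp only [mul_assoc]
      _ = a ^ (x * k) * a ^ x * h ^ k * (w ^ (x * k) * h) * w ^ (x * (k.choose 2 : ℕ)) := by rw [hk]; simp only [mul_assoc]
      _ = (a ^ (x * k) * a ^ x) * (h ^ k * h) * (w ^ (x * k) * w ^ (x * (k.choose 2 : ℕ))) := by
          rw [← ((hw h).zpow_right _).eq]; simp only [mul_assoc]
      _ = _ := by
          rw [← zpow_add, ← pow_succ, ← zpow_add, hc]
          congr 2
          · congr 1; push_cast; ring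
          · push_cast; ring

/-- the centraliser of `a ^ p` acts on `a` through the central subgroup of order `p` -/
theorem mem_M {a h : G} {m : ℕ} (S : Setup a p m) (hh : Commute h (a ^ p)) :
    ∃ k : ℤ, h * a * h⁻¹ = a * a ^ ((p : ℤ) ^ (m + 1) * k) := by
  obtain ⟨r, hr⟩ := S.conj h
  have h1 : a ^ ((p : ℤ) * (r - 1)) = 1 := by
    have : a ^ (r * (p : ℤ)) = a ^ (p : ℤ) := by
      rw [zpow_mul, ← hr, conj_zpow, zpow_natCast, hh.eq, mul_inv_cancel_right]
    rw [show (p : ℤ) * (r - 1) = r * (p : ℤ) - (p : ℤ) by ring, zpow_sub, this, mul_inv_cancel]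
  rw [zpow_eq_one' S, pow_succ', mul_dvd_mul_iff_left (Nat.cast_ne_zero.2 hp.out.ne_zero)] at h1
  obtain ⟨k, hk⟩ := h1
  refine ⟨k, ?_⟩
  rw [hr, ← hk, ← zpow_one_add]
  congr 1
  ring

theorem add_pow_dvd_aux (y : ℤ) (k : ℕ) : y ^ 2 ∣ (1 + y) ^ k - (1 + k * y) := by
  induction k with
  | zero => simp
  | succ k ih =>
    obtain ⟨q, hq⟩ := ih
    refine ⟨q * (1 + y) + k, ?_⟩
    have : (1 + y) ^ (k + 1) = (1 + y) ^ k * (1 + y) := pow_succ _ _
    rw [this, show (1 + y) ^ k = 1 + k * y + y ^ 2 * q by linarith]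
    push_cast; ring

theorem omit_pow {b : G} (hbp : b ^ p = 1) (j : ℕ) : b ^ j = b ^ (j % p) := pow_eq_pow_mod j hbp

theorem omega_part {a : G} {m : ℕ} (S : Setup a p m) (hex : ¬ (p = 2 ∧ m = 0)) (g : G) (hg : Commute g (a ^ p))
    (hgU : g ∉ Subgroup.zpowers a) :
    ∃ E : Subgroup G, (∀ h : G, h ∈ E ↔ Commute h (a ^ p) ∧ h ^ p = 1) ∧ IsMulCommutative E ∧ Nat.card E = p ^ 2 := by
  have hp0 : (p : ℤ) ≠ 0 := Nat.cast_ne_zero.2 hp.out.ne_zero
  have hpp : Prime (p : ℤ) := Nat.prime_iff_prime_int.1 hp.out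
  set e : ℤ := (p.choose 2 : ℕ) * (p : ℤ) ^ m with he
  have hpe : (p : ℤ) ∣ e := by
    rcases hp.out.eq_two_or_odd with h2 | hodd
    · have hm : m ≠ 0 := fun h => hex ⟨h2, h⟩
      exact (dvd_pow_self _ hm).mul_left _
    · refine (Int.natCast_dvd_natCast.2 (hp.out.dvd_choose_self (by norm_num) ?_)).mul_right _
      rcases Nat.lt_or_ge 2 p with h | h
      · exact h
      · have := hp.out.two_le; omega
  -- units
  have hunit : ∀ y : ℤ, ¬ (p : ℤ) ∣ y → ∃ v, (p : ℤ) ^ (m + 2) ∣ y * v - 1 := by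
    intro y hy
    obtain ⟨u, v, huv⟩ := ((hpp.coprime_iff_not_dvd).2 hy).pow_left (m := m + 2)
    exact ⟨v, -u, by linarith⟩
  obtain ⟨c, hc⟩ := mem_M S hg
  have hc0 : ¬ (p : ℤ) ∣ c := by
    rintro ⟨d, rfl⟩
    refine hgU (S.self g ?_)
    have h1 : a ^ ((p : ℤ) ^ (m + 1) * (p * d)) = 1 := (zpow_eq_one' S _).2 ⟨d, by ring⟩
    rw [h1, mul_one, mul_inv_eq_iff_eq_mul] at hc
    exact hc
  -- formula for the `p`-th powers
  have hform : ∀ (x : ℤ) (h : G) (k : ℤ), h * a * h⁻¹ = a * a ^ ((p : ℤ) ^ (m + 1) * k) →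
      (a ^ x * h) ^ p = a ^ ((p : ℤ) * (x * (1 + k * e))) * h ^ p := by
    intro x h k hk
    rw [pow_formula (z_central S k) hk x p, mul_assoc, (((z_central S k) (h ^ p)).zpow_right _).eq, ← mul_assoc,
      ← zpow_mul, ← zpow_add]
    congr 2
    rw [he]; ring
  have hgp : g ^ p ∈ Subgroup.zpowers a := by
    refine S.self _ ?_
    have h1 : (1 * g) ^ p = a ^ ((p : ℤ) * (0 * (1 + c * e))) * g ^ p := by simpa using hform 0 g c hc
    obtain ⟨r, hr⟩ : ∃ r, r = 1 + (p : ℤ) ^ (m + 1) * c := ⟨_, rfl⟩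
    have h2 := conj_pow' (g := g) (a := a) (r := r) (by rw [hc, hr, zpow_one_add]) p
    have h3 : a ^ (r ^ p) = a := by
      rw [← mul_inv_eq_one, ← zpow_sub_one, zpow_eq_one' S, hr]
      obtain ⟨q, hq⟩ := add_pow_dvd_aux ((p : ℤ) ^ (m + 1) * c) p
      refine ⟨c + (p : ℤ) ^ m * c ^ 2 * q, ?_⟩
      linear_combination hq
    rw [h3, mul_inv_eq_iff_eq_mul] at h2
    exact h2
  obtain ⟨t, ht⟩ := Subgroup.mem_zpowers_iff.1 hgp
  have htp : (p : ℤ) ∣ t := by
    have h1 : g * a ^ t * g⁻¹ = a ^ t := by rw [ht]; group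
    rw [← conj_zpow, hc, (z_central S c a).mul_zpow, mul_eq_left, ← zpow_mul, zpow_eq_one' S, pow_succ, mul_assoc,
      mul_dvd_mul_iff_left (pow_ne_zero _ hp0)] at h1
    exact (hpp.dvd_or_dvd h1).resolve_left hc0
  obtain ⟨t', rfl⟩ := htp
  obtain ⟨v, hv⟩ := hunit (1 + c * e) (fun hd => by
    have : (p : ℤ) ∣ 1 := by
      have := dvd_sub hd (hpe.mul_left c)
      simpa using this
    exact hpp.not_dvd_one this)
  set b := a ^ (-(t' * v)) * g with hb
  have hbU : b ∉ Subgroup.zpowers a := fun h =>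
    hgU (by simpa [hb] using mul_mem (zpow_mem (Subgroup.mem_zpowers a) (t' * v)) h)
  have hbp : b ^ p = 1 := by
    rw [hb, hform _ g c hc, ← ht, ← zpow_add, zpow_eq_one' S]
    obtain ⟨q, hq⟩ := hv
    refine ⟨-((p : ℤ) * t' * q), ?_⟩
    linear_combination (-(p : ℤ) * t') * hq
  have hbc : b * a * b⁻¹ = a * a ^ ((p : ℤ) ^ (m + 1) * c) := by
    calc b * a * b⁻¹ = a ^ (-(t' * v)) * (g * a * g⁻¹) * (a ^ (-(t' * v)))⁻¹ := by rw [hb]; group
      _ = _ := by rw [hc]; group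
  have hbM : Commute b (a ^ p) := by
    refine Commute.mul_left ?_ hg
    rw [← zpow_natCast]
    exact (Commute.refl a).zpow_zpow _ _
  have hbj : ∀ j : ℕ, b ^ j * a * (b ^ j)⁻¹ = a * a ^ ((p : ℤ) ^ (m + 1) * (c * j)) := by
    intro j
    induction j with
    | zero => simp
    | succ j ih =>
      calc b ^ (j + 1) * a * (b ^ (j + 1))⁻¹ = b * (b ^ j * a * (b ^ j)⁻¹) * b⁻¹ := by rw [pow_succ']; group
        _ = b * a * b⁻¹ * (b * a ^ ((p : ℤ) ^ (m + 1) * (c * j)) * b⁻¹) := by rw [ih]; group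
        _ = _ := by
          rw [hbc, (z_central S (c * j) b).eq, mul_inv_cancel_right, mul_assoc, ← zpow_add]
          congr 2; push_cast; ring
  -- every element
  have hall : ∀ h : G, Commute h (a ^ p) → ∃ (i : ℤ) (j : ℕ), h = a ^ i * b ^ j := by
    intro h hh
    obtain ⟨k, hk⟩ := mem_M S hh
    obtain ⟨v', hv'⟩ := hunit c hc0
    obtain ⟨j, hj⟩ : ∃ j : ℕ, (p : ℤ) ∣ (j : ℤ) - k * v' := by
      obtain ⟨j, hj⟩ := Int.eq_ofNat_of_zero_le (Int.emod_nonneg (k * v') hp0)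
      exact ⟨j, by rw [← hj]; exact Int.dvd_emod_sub_self⟩
    have hmem : h⁻¹ * b ^ j ∈ Subgroup.zpowers a := by
      refine S.self _ ?_
      have h1 : b ^ j * a * (b ^ j)⁻¹ = h * a * h⁻¹ := by
        rw [hbj, hk, mul_right_inj, ← mul_inv_eq_one, ← zpow_neg, ← zpow_add, zpow_eq_one' S, pow_succ _ (m + 1)]
        rw [show (p : ℤ) ^ (m + 1) * (c * j) + -((p : ℤ) ^ (m + 1) * k) = (p : ℤ) ^ (m + 1) * (c * j - k) by ring]
        refine mul_dvd_mul_left _ ?_
        rw [show c * (j : ℤ) - k = c * ((j : ℤ) - k * v') + k * (c * v' - 1) by ring]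
        exact dvd_add (hj.mul_left _) (((dvd_pow_self _ (by omega)).trans hv').mul_left _)
      show h⁻¹ * b ^ j * a = a * (h⁻¹ * b ^ j)
      calc h⁻¹ * b ^ j * a = h⁻¹ * (b ^ j * a * (b ^ j)⁻¹) * b ^ j := by group
        _ = _ := by rw [h1]; group
    have hbjU : b ^ j * h⁻¹ ∈ Subgroup.zpowers a := by
      refine S.self _ ?_
      have h1 : h⁻¹ * b ^ j * a = a * (h⁻¹ * b ^ j) := by
        obtain ⟨i, hi⟩ := Subgroup.mem_zpowers_iff.1 hmem
        rw [← hi]; exact ((Commute.refl a).zpow_left i).eq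
      have h2 : h * a * h⁻¹ = b ^ j * a * (b ^ j)⁻¹ := by
        calc h * a * h⁻¹ = h * (a * (h⁻¹ * b ^ j)) * (b ^ j)⁻¹ := by group
          _ = _ := by rw [← h1]; group
      have h3 : ∃ i : ℤ, h⁻¹ * a * h = a ^ i := by
        obtain ⟨i, hi⟩ := S.conj h⁻¹
        exact ⟨i, by rw [← hi, inv_inv]⟩
      obtain ⟨i, hi⟩ := h3
      show b ^ j * h⁻¹ * a = a * (b ^ j * h⁻¹)
      calc b ^ j * h⁻¹ * a = b ^ j * (h⁻¹ * a * h) * (b ^ j)⁻¹ * (b ^ j * h⁻¹) := by group
        _ = _ := by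
          rw [hi, ← conj_zpow, ← h2, conj_zpow, ← hi]; group
    obtain ⟨i, hi⟩ := Subgroup.mem_zpowers_iff.1 hbjU
    exact ⟨-i, j, by rw [zpow_neg, hi]; group⟩
  have hE : ∀ h : G, (Commute h (a ^ p) ∧ h ^ p = 1) ↔ ∃ (l : ℤ) (j : ℕ), h = a ^ ((p : ℤ) ^ (m + 1) * l) * b ^ j := by
    intro h
    constructor
    · rintro ⟨hh, hhp⟩
      obtain ⟨i, j, rfl⟩ := hall h hh
      rw [hform i (b ^ j) (c * j) (hbj j), ← pow_mul, mul_comm j p, pow_mul, hbp, one_pow, mul_one, zpow_eq_one' S,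
        pow_succ', mul_dvd_mul_iff_left hp0] at hhp
      have hcop : IsCoprime ((p : ℤ) ^ (m + 1)) (1 + c * j * e) := by
        refine IsCoprime.pow_left ((hpp.coprime_iff_not_dvd).2 fun hd => hpp.not_dvd_one ?_)
        have := dvd_sub hd (hpe.mul_left (c * j))
        simpa using this
      obtain ⟨l, hl⟩ := hcop.dvd_of_dvd_mul_right hhp
      exact ⟨l, j, by rw [hl]⟩
    · rintro ⟨l, j, rfl⟩
      refine ⟨Commute.mul_left (z_central S l _).symm (hbM.pow_left _), ?_⟩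
      rw [((z_central S l (b ^ j)).symm).mul_pow, ← pow_mul, mul_comm j p, pow_mul, hbp, one_pow, mul_one,
        ← zpow_natCast, ← zpow_mul, zpow_eq_one' S]
      exact ⟨l, by ring⟩
  have hcomm : ∀ x y : G, (Commute x (a ^ p) ∧ x ^ p = 1) → (Commute y (a ^ p) ∧ y ^ p = 1) → Commute x y := by
    intro x y hx hy
    obtain ⟨l, j, rfl⟩ := (hE x).1 hx
    obtain ⟨l', j', rfl⟩ := (hE y).1 hy
    exact Commute.mul_left (z_central S l _).symm ((z_central S l' _).mul_right ((Commute.refl b).pow_pow j j'))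
  let E : Subgroup G :=
  { carrier := {h | Commute h (a ^ p) ∧ h ^ p = 1}
    mul_mem' := fun {x y} hx hy => ⟨hx.1.mul_left hy.1, by rw [(hcomm x y hx hy).mul_pow, hx.2, hy.2, one_mul]⟩
    one_mem' := ⟨Commute.one_left _, one_pow _⟩
    inv_mem' := fun {x} hx => ⟨hx.1.inv_left, by rw [inv_pow, hx.2, inv_one]⟩ }
  refine ⟨E, fun h => Iff.rfl, ⟨⟨fun x y => Subtype.ext (hcomm x y x.2 y.2).eq⟩⟩, ?_⟩
  let f : Fin p × Fin p → E := fun q => ⟨a ^ ((p : ℤ) ^ (m + 1) * (q.1 : ℕ)) * b ^ (q.2 : ℕ), (hE _).2 ⟨_, _, rfl⟩⟩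
  have hf : Function.Bijective f := by
    constructor
    · rintro ⟨l, j⟩ ⟨l', j'⟩ h
      have h1 : a ^ ((p : ℤ) ^ (m + 1) * (l : ℕ)) * b ^ (j : ℕ) = a ^ ((p : ℤ) ^ (m + 1) * (l' : ℕ)) * b ^ (j' : ℕ) :=
        congrArg Subtype.val h
      have hob : orderOf b = p := orderOf_eq_prime hbp fun e => hbU (by rw [e]; exact one_mem _)
      have hj : j = j' := by
        by_contra hne
        have h2 : b ^ ((j : ℤ) - (j' : ℤ)) ∈ Subgroup.zpowers a := by
          have h3 : b ^ ((j : ℤ) - (j' : ℤ)) =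
              (a ^ ((p : ℤ) ^ (m + 1) * (l : ℕ)))⁻¹ * a ^ ((p : ℤ) ^ (m + 1) * (l' : ℕ)) := by
            rw [zpow_sub, zpow_natCast, zpow_natCast, eq_inv_mul_iff_mul_eq, ← mul_assoc, h1, mul_inv_cancel_right]
          rw [h3]
          exact mul_mem (inv_mem (zpow_mem (Subgroup.mem_zpowers a) _)) (zpow_mem (Subgroup.mem_zpowers a) _)
        have hco : IsCoprime ((j : ℤ) - (j' : ℤ)) (p : ℤ) := by
          refine ((hpp.coprime_iff_not_dvd).2 fun hd => hne (Fin.ext ?_)).symm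
          have hz := Int.eq_zero_of_dvd_of_natAbs_lt_natAbs hd (by have := j.2; have := j'.2; omega)
          omega
        obtain ⟨u, w, huw⟩ := hco
        refine hbU ?_
        have h4 : b ^ (u * ((j : ℤ) - (j' : ℤ)) + w * (p : ℤ)) = b := by rw [huw, zpow_one]
        rw [← h4, zpow_add, mul_comm u, mul_comm w, zpow_mul, zpow_mul, zpow_natCast, hbp, one_zpow, mul_one]
        exact zpow_mem h2 u
      subst hj
      have h2 := mul_right_cancel h1
      rw [← mul_inv_eq_one, ← zpow_sub, zpow_eq_one' S, ← mul_sub, pow_succ _ (m + 1),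
        mul_dvd_mul_iff_left (pow_ne_zero _ hp0)] at h2
      have hz := Int.eq_zero_of_dvd_of_natAbs_lt_natAbs h2 (by have := l.2; have := l'.2; omega)
      exact Prod.ext (Fin.ext (by simp only; omega)) rfl
    · rintro ⟨h, hh⟩
      obtain ⟨l, j, rfl⟩ := (hE h).1 hh
      obtain ⟨l', hl'⟩ := Int.eq_ofNat_of_zero_le (Int.emod_nonneg l hp0)
      refine ⟨(⟨l', ?_⟩, ⟨j % p, Nat.mod_lt _ hp.out.pos⟩), Subtype.ext ?_⟩
      · have := Int.emod_lt_of_pos l (by exact_mod_cast hp.out.pos : (0 : ℤ) < p)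
        omega
      · show a ^ ((p : ℤ) ^ (m + 1) * (l' : ℕ)) * b ^ (j % p) = _
        rw [← omit_pow hbp, ← hl']
        congr 1
        rw [← mul_inv_eq_one, ← zpow_sub, zpow_eq_one' S, ← mul_sub, pow_succ _ (m + 1)]
        exact mul_dvd_mul_left _ Int.dvd_emod_sub_self
  rw [← Nat.card_eq_of_bijective f hf, Nat.card_prod, Nat.card_fin, pow_two]


/-- Let G be a finite non-abelian p-group with a cyclic normal subgroup U of order p^n such that C_G(U) = U. Then either p = 2 and G is dihedral, generalized quaternion or semidihedral of order 2^(n+1); or, writing U₁ for the subgroup generated by the p-th powers of elements of U and M = C_G(U₁), the subgroup U has index p in M and the subgroup Ω₁(M) generated by the elements of M of order dividing p is elementary abelian of order p² and characteristic in G. -/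
theorem result {G : Type*} [Group G] [Finite G] {p : ℕ} [Fact p.Prime] (hG : IsPGroup p G) (hna : ¬ IsMulCommutative G) (U : Subgroup G) [U.Normal] (hU : IsCyclic U) (n : ℕ) (hUn : Nat.card U = p ^ n) (hC : Subgroup.centralizer (U : Set G) = U) : (p = 2 ∧ Nat.card G = 2 ^ (n + 1) ∧ ((∃ m : ℕ, Nonempty (G ≃* DihedralGroup m)) ∨ (∃ m : ℕ, Nonempty (G ≃* QuaternionGroup m)) ∨ Cfsg.IsQuasiDihedral G)) ∨ (U.relIndex (Subgroup.centralizer (Cfsg.powerClosure p 1 U : Set G)) = p ∧ Cfsg.IsElementaryAbelian p (Cfsg.omegaOne p (Subgroup.centralizer (Cfsg.powerClosure p 1 U : Set G))) ∧ Nat.card ↥(Cfsg.omegaOne p (Subgroup.centralizer (Cfsg.powerClosure p 1 U : Set G))) = p ^ 2 ∧ (Cfsg.omegaOne p (Subgroup.centralizer (Cfsg.powerClosure p 1 U : Set G))).Characteristic) := by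
  have hp : Fact p.Prime := inferInstance
  obtain ⟨a, rfl⟩ : ∃ a, Subgroup.zpowers a = U := by
    obtain ⟨⟨a, haC⟩, hgen⟩ := hU.exists_generator
    refine ⟨a, le_antisymm (Subgroup.zpowers_le.2 haC) fun y hy => ?_⟩
    obtain ⟨i, hi⟩ := Subgroup.mem_zpowers_iff.1 (hgen ⟨y, hy⟩)
    exact ⟨i, by simpa using congrArg Subtype.val hi⟩
  have hord : orderOf a = p ^ n := by rw [← Nat.card_zpowers]; exact hUn
  have hself : ∀ g : G, Commute g a → g ∈ Subgroup.zpowers a := by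
    intro g hg
    refine (le_of_eq hC) (Subgroup.mem_centralizer_iff.2 fun x hx => ?_)
    obtain ⟨i, rfl⟩ := Subgroup.mem_zpowers_iff.1 hx
    exact (hg.zpow_right i).eq.symm
  have hconj : ∀ g : G, ∃ r : ℤ, g * a * g⁻¹ = a ^ r := fun g => by
    obtain ⟨r, hr⟩ := Subgroup.mem_zpowers_iff.1 (‹(Subgroup.zpowers a).Normal›.conj_mem a (Subgroup.mem_zpowers a) g)
    exact ⟨r, hr.symm⟩
  have hnotall : ∃ g, g ∉ Subgroup.zpowers a := by
    by_contra h
    push Not at h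
    refine hna ⟨⟨fun x y => ?_⟩⟩
    obtain ⟨i, rfl⟩ := Subgroup.mem_zpowers_iff.1 (h x)
    obtain ⟨j, rfl⟩ := Subgroup.mem_zpowers_iff.1 (h y)
    exact ((Commute.refl a).zpow_zpow i j).eq
  have hn2 : 2 ≤ n := by
    by_contra hn
    obtain ⟨g, hg⟩ := hnotall
    refine hg (hself g ?_)
    obtain ⟨r, hr⟩ := hconj g
    obtain ⟨k, hk⟩ := hG g
    have h1 := conj_pow' hr (p ^ k)
    rw [hk, inv_one, mul_one, one_mul] at h1
    have h2 : ((p ^ n : ℕ) : ℤ) ∣ r ^ (p ^ k) - 1 := by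
      rw [← hord, orderOf_dvd_iff_zpow_eq_one, zpow_sub_one, ← h1, mul_inv_cancel]
    rcases Nat.eq_zero_or_pos n with rfl | hn0
    · rw [pow_zero, orderOf_eq_one_iff] at hord
      rw [hord]; exact Commute.one_right g
    obtain rfl : n = 1 := by omega
    rw [pow_one, ← ZMod.intCast_zmod_eq_zero_iff_dvd] at h2
    push_cast at h2
    rw [ZMod.pow_card_pow] at h2
    have h3 : a ^ (r - 1) = 1 := by
      rw [← orderOf_dvd_iff_zpow_eq_one, hord, pow_one, ← ZMod.intCast_zmod_eq_zero_iff_dvd]; push_cast; exact h2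
    rw [zpow_sub_one, mul_inv_eq_one] at h3
    rw [h3, mul_inv_eq_iff_eq_mul] at hr
    exact hr
  obtain ⟨m, rfl⟩ : ∃ m, n = m + 2 := ⟨n - 2, by omega⟩
  have S : Setup a p m := ⟨hord, hconj, hself, hG⟩
  have hM : ∀ h : G, h ∈ Subgroup.centralizer (Cfsg.powerClosure p 1 (Subgroup.zpowers a) : Set G) ↔ Commute h (a ^ p) := by
    intro h
    unfold Cfsg.powerClosure
    rw [Subgroup.centralizer_closure, Subgroup.mem_centralizer_iff]
    constructor
    · intro H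
      exact (H (a ^ p) ⟨a, Subgroup.mem_zpowers a, by rw [pow_one]⟩).symm
    · rintro H y ⟨x, hx, rfl⟩
      obtain ⟨i, rfl⟩ := Subgroup.mem_zpowers_iff.1 hx
      rw [pow_one, ← zpow_natCast (a ^ i), ← zpow_mul, mul_comm, zpow_mul, zpow_natCast]
      exact ((H.zpow_right i).eq).symm
  -- the first alternative from a subgroup of index two
  have hfirst : (Subgroup.zpowers a).index = 2 → p = 2 → (∀ h, Commute h (a ^ p) → h ∈ Subgroup.zpowers a) ∨ m = 0 →
      (p = 2 ∧ Nat.card G = 2 ^ (m + 2 + 1) ∧ ((∃ k : ℕ, Nonempty (G ≃* DihedralGroup k)) ∨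
        (∃ k : ℕ, Nonempty (G ≃* QuaternionGroup k)) ∨ Cfsg.IsQuasiDihedral G)) := by
    intro hidx hp2 hor
    subst hp2
    have hcard : Nat.card G = 2 ^ (m + 2 + 1) := by
      rw [← (Subgroup.zpowers a).card_mul_index, hidx, hUn, pow_succ (2 : ℕ) (m + 2)]
    obtain ⟨g, hg⟩ := hnotall
    obtain ⟨a', b, hCa, h⟩ := CyclicMax.classify (m + 3) (by omega) hcard (Subgroup.zpowers a) hU hidx
      ⟨g, a, fun e => hg (hself g e)⟩
    refine ⟨rfl, hcard, ?_⟩
    rcases h with h | h | ⟨hm, h⟩ | ⟨hm, h⟩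
    · exact Or.inl ⟨_, CyclicMax.toDihedral h (by omega)⟩
    · exact Or.inr (Or.inl ⟨_, CyclicMax.toQuaternion (m := m + 3 - 1)
        (by rwa [show m + 3 - 2 = m + 3 - 1 - 1 by omega] at h) (by omega)⟩)
    · exfalso
      have hor' := hor.resolve_right (by omega)
      refine h.notMem ?_
      rw [hCa]
      refine hor' b ?_
      obtain ⟨k, hk⟩ := Subgroup.mem_zpowers_iff.1 (hCa.symm ▸ Subgroup.mem_zpowers a : a ∈ Subgroup.zpowers a')
      show b * a ^ 2 = a ^ 2 * b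
      rw [← hk, ← zpow_natCast (a' ^ k), ← zpow_mul, CyclicMax.conj_b h, CyclicMax.b_eq_iff h]
      refine ⟨-k, ?_⟩
      rw [show m + 3 - 1 = (m + 3 - 2) + 1 by omega, pow_succ]
      push_cast; ring
    · refine Or.inr (Or.inr (CyclicMax.quasiDihedral_of_twoGen (a := a') (b := b) (m := m + 3 - 1) (by omega) ?_))
      rwa [show m + 3 - 2 = m + 3 - 1 - 1 by omega] at h
  by_cases hMU : ∀ h, Commute h (a ^ p) → h ∈ Subgroup.zpowers a
  · left
    -- an element of order `p` modulo `U`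
    have hpar : ∀ g : G, ∃ (i : ℕ), g ^ p ^ i ∈ Subgroup.zpowers a := fun g => by
      obtain ⟨k, hk⟩ := hG g
      exact ⟨k, by rw [hk]; exact one_mem _⟩
    have hsq : ∀ g, g ∉ Subgroup.zpowers a → ∀ r : ℤ, g * a * g⁻¹ = a ^ r → g ^ p ∈ Subgroup.zpowers a →
        p = 2 ∧ 1 ≤ m ∧ ((2 : ℤ) ^ (m + 2) ∣ r + 1 ∨ (2 : ℤ) ^ (m + 2) ∣ r - (2 ^ (m + 1) - 1)) := by
      intro g hg r hr hgp
      have h1 : a ^ (r ^ p - 1) = 1 := by
        obtain ⟨i, hi⟩ := Subgroup.mem_zpowers_iff.1 hgp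
        rw [zpow_sub_one, mul_inv_eq_one, ← conj_pow' hr p, ← hi, ((Commute.refl a).zpow_left i).eq, mul_inv_cancel_right]
      rw [zpow_eq_one' S] at h1
      have hnot : ¬ (p : ℤ) ^ (m + 1) ∣ r - 1 := by
        rintro ⟨q, hq⟩
        refine hg (hMU g (mul_inv_eq_iff_eq_mul.1 ?_))
        rw [← zpow_natCast, ← conj_zpow, hr, ← zpow_mul, ← mul_inv_eq_one, ← zpow_sub, zpow_eq_one' S]
        exact ⟨q, by linear_combination (p : ℤ) * hq⟩
      rcases hp.out.eq_two_or_odd' with rfl | hodd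
      · rcases Nat.eq_zero_or_pos m with rfl | hm
        · exfalso
          exact hnot (by simpa using r_one S hr)
        refine ⟨rfl, hm, ?_⟩
        push_cast at h1 hnot
        rcases CyclicMax.sq_one_cases (show 1 ≤ m + 2 by omega) (by rw [← pow_two]; exact h1) with h | h | ⟨-, h | h⟩
        · exact absurd ((pow_dvd_pow _ (by omega)).trans h) hnot
        · exact Or.inl h
        · refine absurd ?_ hnot
          have h2 := dvd_add ((pow_dvd_pow (2 : ℤ) (show m + 1 ≤ m + 2 by omega)).trans h)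
            (dvd_refl ((2 : ℤ) ^ (m + 1)))
          rw [show m + 2 - 1 = m + 1 by omega] at h2
          rwa [show r - (2 ^ (m + 1) + 1) + (2 : ℤ) ^ (m + 1) = r - 1 by ring] at h2
        · exact Or.inr h
      · exfalso
        refine hnot ?_
        have hpd : (p : ℤ) ∣ r - 1 := r_one S hr
        have hpn : ¬ (p : ℤ) ∣ r := fun hd => (Nat.prime_iff_prime_int.1 hp.out).not_dvd_one
          (by simpa using dvd_sub hd hpd)
        rcases eq_or_ne r 1 with rfl | hr1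
        · simp
        have h2 : emultiplicity (p : ℤ) (r ^ p - 1 ^ p) = emultiplicity (p : ℤ) (r - 1) + emultiplicity p p :=
          Int.emultiplicity_pow_sub_pow hp.out hodd hpd hpn p
        rw [one_pow, (Nat.finiteMultiplicity_iff.2 ⟨hp.out.ne_one, hp.out.pos⟩).emultiplicity_self] at h2
        have h3 : ((m + 2 : ℕ) : ℕ∞) ≤ emultiplicity (p : ℤ) (r - 1) + 1 := h2 ▸ le_emultiplicity_of_pow_dvd h1
        refine pow_dvd_of_le_emultiplicity ?_
        rw [Nat.cast_add, show ((2 : ℕ) : ℕ∞) = 1 + 1 by rfl, ← add_assoc] at h3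
        rw [Nat.cast_succ]
        exact (ENat.add_le_add_iff_right ENat.one_ne_top).1 h3
    have hev : ∀ g, g ∉ Subgroup.zpowers a → g ^ p ∈ Subgroup.zpowers a := by
      intro g hg
      classical
      set i := Nat.find (hpar g) with hi
      have h1 : g ^ p ^ i ∈ Subgroup.zpowers a := Nat.find_spec (hpar g)
      obtain ⟨j, hj⟩ : ∃ j, i = j + 1 := ⟨i - 1, by
        rcases Nat.eq_zero_or_pos i with h | h
        · rw [h, pow_zero, pow_one] at h1
          exact absurd h1 hg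
        · omega⟩
      have h2 : g ^ p ^ j ∉ Subgroup.zpowers a := Nat.find_min (hpar g) (by omega)
      rw [hj, pow_succ, pow_mul] at h1
      rcases Nat.eq_zero_or_pos j with rfl | hj0
      · simpa using h1
      exfalso
      obtain ⟨r, hr⟩ := hconj g
      obtain ⟨hp2, hm, hcase⟩ := hsq _ h2 _ (conj_pow' hr (p ^ j)) h1
      subst hp2
      obtain ⟨s, hs⟩ : ∃ s, s = r ^ (2 ^ (j - 1)) := ⟨_, rfl⟩
      have hss : r ^ (2 ^ j) = s * s := by
        rw [hs, ← pow_add, ← two_mul, ← pow_succ', show j - 1 + 1 = j by omega]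
      rw [hss] at hcase
      have h4 : (4 : ℤ) ∣ s * s + 1 := by
        rcases hcase with h | h
        · exact (show (4 : ℤ) ∣ 2 ^ (m + 2) from pow_dvd_pow 2 (show 2 ≤ m + 2 by omega)).trans h
        · have h5 := dvd_add ((show (4 : ℤ) ∣ 2 ^ (m + 2) from pow_dvd_pow 2 (show 2 ≤ m + 2 by omega)).trans h)
            (show (4 : ℤ) ∣ 2 ^ (m + 1) from pow_dvd_pow 2 (show 2 ≤ m + 1 by omega))
          rwa [show s * s - (2 ^ (m + 1) - 1) + (2 : ℤ) ^ (m + 1) = s * s + 1 by ring] at h5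
      rcases Int.even_or_odd' s with ⟨q, rfl | rfl⟩
      · have : (4 : ℤ) ∣ 1 := by
          have := dvd_sub h4 (Dvd.intro (q * q) rfl : (4 : ℤ) ∣ 4 * (q * q))
          rwa [show 2 * q * (2 * q) + 1 - 4 * (q * q) = 1 by ring] at this
        norm_num at this
      · have : (4 : ℤ) ∣ 2 := by
          have := dvd_sub h4 (Dvd.intro (q * q + q) rfl : (4 : ℤ) ∣ 4 * (q * q + q))
          rwa [show (2 * q + 1) * (2 * q + 1) + 1 - 4 * (q * q + q) = 2 by ring] at this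
        norm_num at this
    obtain ⟨g, hg⟩ := hnotall
    obtain ⟨r, hr⟩ := hconj g
    obtain ⟨hp2, hm, hrc⟩ := hsq g hg r hr (hev g hg)
    refine hfirst ?_ hp2 (Or.inl hMU)
    rw [Subgroup.index_eq_two_iff]
    refine ⟨g, fun h => ?_⟩
    subst hp2
    by_cases hh : h ∈ Subgroup.zpowers a
    · exact Or.inr ⟨hh, fun H => hg (by simpa using mul_mem (inv_mem hh) H)⟩
    · refine Or.inl ⟨hMU _ (mul_inv_eq_iff_eq_mul.1 ?_), hh⟩
      obtain ⟨s, hs⟩ := hconj h
      obtain ⟨-, -, hsc⟩ := hsq h hh s hs (hev h hh)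
      have h1 : h * g * a * (h * g)⁻¹ = a ^ (s * r) := by
        calc h * g * a * (h * g)⁻¹ = h * (g * a * g⁻¹) * h⁻¹ := by group
          _ = _ := by rw [hr, ← conj_zpow, hs, ← zpow_mul]
      rw [← conj_pow, h1, ← zpow_natCast, ← zpow_natCast a, ← zpow_mul, ← mul_inv_eq_one, ← zpow_sub,
        zpow_eq_one' S]
      push_cast
      rw [show s * r * 2 - 2 = 2 * (s * r - 1) by ring, pow_succ' (2 : ℤ) (m + 1)]
      refine mul_dvd_mul_left 2 ?_
      have key : ∀ y : ℤ, ((2 : ℤ) ^ (m + 2) ∣ y + 1 ∨ (2 : ℤ) ^ (m + 2) ∣ y - (2 ^ (m + 1) - 1)) →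
          (2 : ℤ) ^ (m + 1) ∣ y + 1 := by
        rintro y (h | h)
        · exact (pow_dvd_pow _ (by omega)).trans h
        · have h2 := dvd_add ((pow_dvd_pow (2 : ℤ) (show m + 1 ≤ m + 2 by omega)).trans h) (dvd_refl ((2 : ℤ) ^ (m + 1)))
          rwa [show y - (2 ^ (m + 1) - 1) + (2 : ℤ) ^ (m + 1) = y + 1 by ring] at h2
      rw [show s * r - 1 = s * (r + 1) - (s + 1) by ring]
      exact dvd_sub ((key r hrc).mul_left _) (key s hsc)
  push Not at hMU
  obtain ⟨g, hgc, hgU⟩ := hMU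
  set M := Subgroup.centralizer (Cfsg.powerClosure p 1 (Subgroup.zpowers a) : Set G) with hMdef
  have hrel : (Subgroup.zpowers a).relIndex M = p := by
    have hch : ∀ x : M, ∃ k : Fin p, (x : G) * a * (x : G)⁻¹ = a * a ^ ((p : ℤ) ^ (m + 1) * (k : ℕ)) := by
      intro x
      obtain ⟨k, hk⟩ := mem_M S ((hM x).1 x.2)
      obtain ⟨k', hk'⟩ := Int.eq_ofNat_of_zero_le (Int.emod_nonneg k (Nat.cast_ne_zero.2 hp.out.ne_zero : (p : ℤ) ≠ 0))
      refine ⟨⟨k', ?_⟩, ?_⟩
      · have := Int.emod_lt_of_pos k (by exact_mod_cast hp.out.pos : (0 : ℤ) < p)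
        omega
      · rw [hk, mul_right_inj, ← mul_inv_eq_one, ← zpow_sub, zpow_eq_one' S, ← mul_sub, pow_succ _ (m + 1)]
        exact mul_dvd_mul_left _ (by rw [← hk']; exact Int.dvd_self_sub_emod)
    choose φ hφ using hch
    have hle : (Subgroup.zpowers a).relIndex M ≤ p := by
      have hinj : Function.Injective (fun q : M ⧸ (Subgroup.zpowers a).subgroupOf M => φ q.out) := by
        intro q q' h
        have h1 : ((q.out : M) : G) * a * ((q.out : M) : G)⁻¹ = ((q'.out : M) : G) * a * ((q'.out : M) : G)⁻¹ := by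
          simp only at h
          rw [hφ, hφ, h]
        rw [← QuotientGroup.out_eq' q, ← QuotientGroup.out_eq' q', QuotientGroup.eq, Subgroup.mem_subgroupOf]
        refine hself _ ?_
        push_cast
        show ((q.out : M) : G)⁻¹ * ((q'.out : M) : G) * a = a * (((q.out : M) : G)⁻¹ * ((q'.out : M) : G))
        calc ((q.out : M) : G)⁻¹ * ((q'.out : M) : G) * a
            = ((q.out : M) : G)⁻¹ * (((q'.out : M) : G) * a * ((q'.out : M) : G)⁻¹) * ((q'.out : M) : G) := by group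
          _ = _ := by rw [← h1]; group
      have := Nat.card_le_card_of_injective _ hinj
      rwa [Nat.card_fin] at this
    obtain ⟨k, hk⟩ := (hG.to_subgroup M).index ((Subgroup.zpowers a).subgroupOf M)
    change (Subgroup.zpowers a).relIndex M = p ^ k at hk
    rcases k with _ | _ | k
    · exfalso
      rw [pow_zero, Subgroup.relIndex_eq_one] at hk
      exact hgU (hk ((hM g).2 hgc))
    · rw [hk, pow_one]
    · exfalso
      rw [hk] at hle
      have : p ^ 2 ≤ p ^ (k + 1 + 1) := Nat.pow_le_pow_right hp.out.pos (by omega)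
      have := hp.out.two_le
      nlinarith
  by_cases hex : p = 2 ∧ m = 0
  · left
    obtain ⟨hp2, hm0⟩ := hex
    refine hfirst ?_ hp2 (Or.inr hm0)
    have hMtop : M = ⊤ := by
      refine (Subgroup.eq_top_iff' _).2 fun h => (hM h).2 (mul_inv_eq_iff_eq_mul.1 ?_)
      obtain ⟨r, hr⟩ := hconj h
      obtain ⟨q, hq⟩ := r_one S hr
      rw [← conj_pow, hr, ← zpow_natCast, ← zpow_natCast a, ← zpow_mul, ← mul_inv_eq_one, ← zpow_sub, zpow_eq_one' S]
      subst hm0; subst hp2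
      exact ⟨q, by push_cast at hq ⊢; linear_combination 2 * hq⟩
    rw [hMtop, Subgroup.relIndex_top_right, hp2] at hrel
    exact hrel
  right
  obtain ⟨E, hEm, hEc, hEcard⟩ := omega_part S hex g hgc hgU
  have hΩ : Cfsg.omegaOne p M = E := by
    unfold Cfsg.omegaOne
    rw [show {x : G | x ∈ M ∧ x ^ p = 1} = (E : Set G) from Set.ext fun x => by
      rw [Set.mem_setOf_eq, SetLike.mem_coe, hEm, hM], Subgroup.closure_eq]
  rw [hΩ]
  refine ⟨hrel, ⟨hEc, fun x hx => ((hEm x).1 hx).2⟩, hEcard, Subgroup.characteristic_iff_map_le.2 fun φ => ?_⟩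
  have hnorm : ∀ x ∈ E, ∀ h : G, h * x * h⁻¹ ∈ E := by
    intro x hx h
    obtain ⟨h1, h2⟩ := (hEm x).1 hx
    refine (hEm _).2 ⟨?_, by rw [conj_pow, h2, mul_one, mul_inv_cancel]⟩
    obtain ⟨i, hi⟩ := hconj h⁻¹
    rw [inv_inv] at hi
    have h3 : h⁻¹ * a ^ p * h = (a ^ p) ^ i := by
      rw [← zpow_natCast, ← zpow_mul, mul_comm, zpow_mul, ← hi, zpow_natCast]
      simpa using (conj_pow (a := h⁻¹) (b := a) (i := p)).symm
    show h * x * h⁻¹ * a ^ p = a ^ p * (h * x * h⁻¹)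
    calc h * x * h⁻¹ * a ^ p = h * (x * (h⁻¹ * a ^ p * h)) * h⁻¹ := by group
      _ = h * ((h⁻¹ * a ^ p * h) * x) * h⁻¹ := by rw [h3, (h1.zpow_right i).eq]
      _ = _ := by group
  rintro _ ⟨x, hx, rfl⟩
  set v : G := φ x with hv
  refine (hEm _).2 ⟨?_, by rw [MulEquiv.coe_toMonoidHom, ← map_pow, ((hEm x).1 hx).2, map_one]⟩
  show Commute v (a ^ p)
  obtain ⟨r, hr⟩ := hconj v
  obtain ⟨a₀, ha₀⟩ := φ.surjective a
  have hyp : (a ^ (r - 1)) ^ p = 1 := by
    have h1 : a ^ (r - 1) = φ (x * (a₀ * x⁻¹ * a₀⁻¹)) := by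
      rw [map_mul, map_mul, map_mul, map_inv, map_inv, ha₀, ← hv, zpow_sub_one, ← hr]; group
    rw [h1, ← map_pow, ((hEm _).1 (mul_mem hx (hnorm _ (inv_mem hx) a₀))).2, map_one]
  refine mul_inv_eq_iff_eq_mul.1 ?_
  rw [← conj_pow, hr, ← mul_inv_eq_one, ← inv_pow, ← ((Commute.refl a).inv_right.zpow_left r).mul_pow,
    ← zpow_sub_one, hyp]

end Cfsg.Agent.S3761
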