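import Cfsg.Statements.S0519
import Cfsg.Agent.S3761
import Cfsg.Agent.PGroups.Bounds

set_option autoImplicit false
open Cfsg

namespace Cfsg.Agent.S0519


open Cfsg.Lib

/-- the Klein four-subgroup of the dihedral group of order 8 -/
def klein : Subgroup (DihedralGroup 4) where
  carrier := {x | x ∈ ({1, .r 2, .sr 0, .sr 2} : Finset (DihedralGroup 4))}
  mul_mem' := fun {x y} hx hy => by revert x y; decide
  one_mem' := by decide
  inv_mem' := fun {x} hx => by revert x; decide

theorem klein_props : klein.Normal ∧ IsMulCommutative klein ∧ ¬ IsCyclic klein := by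
  have h1 : ∀ x g : DihedralGroup 4, x ∈ ({1, .r 2, .sr 0, .sr 2} : Finset (DihedralGroup 4)) →
      g * x * g⁻¹ ∈ ({1, .r 2, .sr 0, .sr 2} : Finset (DihedralGroup 4)) := by decide
  have h2 : ∀ x y : DihedralGroup 4, x ∈ ({1, .r 2, .sr 0, .sr 2} : Finset (DihedralGroup 4)) →
      y ∈ ({1, .r 2, .sr 0, .sr 2} : Finset (DihedralGroup 4)) → x * y = y * x ∧ x * x = 1 := by decide
  refine ⟨⟨fun x hx g => h1 x g hx⟩, ⟨⟨fun x y => Subtype.ext (h2 x y x.2 y.2).1⟩⟩, fun hc => ?_⟩
  obtain ⟨⟨x, hx⟩, hgen⟩ := hc.exists_generator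
  have h3 : ∀ y ∈ klein, y = 1 ∨ y = x := by
    intro y hy
    obtain ⟨i, hi⟩ := Subgroup.mem_zpowers_iff.1 (hgen ⟨y, hy⟩)
    have hi' : x ^ i = y := congrArg Subtype.val hi
    have hxx : x ^ (2 : ℤ) = 1 := by rw [zpow_two]; exact (h2 x x hx hx).2
    rw [← hi']
    rcases Int.even_or_odd' i with ⟨q, rfl | rfl⟩
    · exact Or.inl (by rw [zpow_mul, hxx, one_zpow])
    · exact Or.inr (by rw [zpow_add, zpow_mul, hxx, one_zpow, one_mul, zpow_one])
  have h4 : ∀ x : DihedralGroup 4, (((DihedralGroup.r 2 : DihedralGroup 4) = 1) ∨ DihedralGroup.r 2 = x) →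
      ((DihedralGroup.sr 0 = (1 : DihedralGroup 4)) ∨ DihedralGroup.sr 0 = x) → False := by decide
  exact h4 x (h3 (.r 2) (show _ ∈ ({1, .r 2, .sr 0, .sr 2} : Finset (DihedralGroup 4)) by decide))
    (h3 (.sr 0) (show _ ∈ ({1, .r 2, .sr 0, .sr 2} : Finset (DihedralGroup 4)) by decide))


/-- Let P be a finite p-group in which every abelian normal subgroup is cyclic, but which has a non-cyclic abelian
subgroup. Then p = 2 and P is generalized quaternion, dihedral of order at least 16, or quasi-dihedral. -/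
theorem result {P : Type*} [Group P] [Finite P] (p : ℕ) [Fact p.Prime]
    (hP : IsPGroup p P) (hn : ∀ A : Subgroup P, A.Normal → IsMulCommutative A → IsCyclic A)
    (hm : ∃ B : Subgroup P, IsMulCommutative B ∧ ¬ IsCyclic B) :
    p = 2 ∧ ((∃ n : ℕ, Nonempty (P ≃* QuaternionGroup n)) ∨ (∃ n : ℕ, 8 ≤ n ∧ Nonempty (P ≃* DihedralGroup n)) ∨
      Cfsg.IsQuasiDihedral P) := by
  obtain ⟨A, ⟨hAn, hAc⟩, hmax⟩ : ∃ A : Subgroup P, (A.Normal ∧ IsMulCommutative A) ∧
      ∀ B : Subgroup P, B.Normal → IsMulCommutative B → A ≤ B → B = A := by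
    obtain ⟨A, hA⟩ := (Set.toFinite {A : Subgroup P | A.Normal ∧ IsMulCommutative A}).exists_maximal
      ⟨⊥, inferInstance, ⟨⟨fun x y => by rw [Subsingleton.elim x y]⟩⟩⟩
    exact ⟨A, hA.prop, fun B h1 h2 h3 => le_antisymm (hA.2 ⟨h1, h2⟩ h3) h3⟩
  haveI := hAn
  have hC : Subgroup.centralizer (A : Set P) = A :=
    PGroups.centralizer_eq_self_of_maximal_normal_abelian hP A hAc hmax
  have hcy := hn A hAn hAc
  have hna : ¬ IsMulCommutative P := by
    intro hc
    haveI := hc
    obtain ⟨B, hB, hBc⟩ := hm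
    haveI : IsCyclic (⊤ : Subgroup P) := hn ⊤ inferInstance ⟨⟨fun x y => Subtype.ext (hc.is_comm.comm (x : P) y)⟩⟩
    exact hBc (isCyclic_of_injective (Subgroup.inclusion le_top) (Subgroup.inclusion_injective le_top))
  obtain ⟨n, hAcard⟩ := IsPGroup.iff_card.1 (hP.to_subgroup A)
  rcases Cfsg.Agent.S3761.result hP hna A hcy n hAcard hC with ⟨hp2, hcard, h⟩ | ⟨-, hel, hΩ, hch⟩
  · subst hp2
    refine ⟨rfl, ?_⟩
    rcases h with ⟨m, ⟨e⟩⟩ | ⟨m, he⟩ | h
    · refine Or.inr (Or.inl ⟨m, ?_, ⟨e⟩⟩)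
      have h1 := Nat.card_congr e.toEquiv
      rw [hcard, DihedralGroup.nat_card, pow_succ'] at h1
      have h2 : m = 2 ^ n := (Nat.eq_of_mul_eq_mul_left two_pos h1).symm
      subst h2
      rcases Nat.lt_or_ge n 3 with hlt | hge
      swap
      · exact Nat.pow_le_pow_right two_pos hge
      exfalso
      interval_cases n
      · haveI := isCyclic_of_prime_card (α := P) (p := 2) (by rw [hcard]; rfl)
        exact hna inferInstance
      · exact hna (IsPGroup.isMulCommutative_of_card_eq_prime_sq (p := 2) (G := P) hcard)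
      · obtain ⟨hk1, hk2, hk3⟩ := klein_props
        have hd : ∀ x : DihedralGroup (2 ^ 2), x = x := fun _ => rfl
        let f : P ≃* DihedralGroup 4 := e
        haveI := hk2
        haveI := hn (klein.comap f.toMonoidHom) (hk1.comap _)
          ⟨⟨fun x y => Subtype.ext (f.injective (by
            rw [Subgroup.coe_mul, Subgroup.coe_mul, map_mul, map_mul]
            exact congrArg Subtype.val (hk2.is_comm.comm ⟨f x, x.2⟩ ⟨f y, y.2⟩)))⟩⟩
        exact hk3 (isCyclic_of_surjective (f.toMonoidHom.subgroupComap klein)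
          (MonoidHom.subgroupComap_surjective_of_surjective _ _ f.surjective))
    · exact Or.inl ⟨m, he⟩
    · exact Or.inr (Or.inr h)
  · exfalso
    haveI := hch
    haveI : IsCyclic (Cfsg.omegaOne p (Subgroup.centralizer (Cfsg.powerClosure p 1 A : Set P))) :=
      hn _ inferInstance hel.1
    obtain ⟨g, hg⟩ := IsCyclic.exists_generator
      (α := ↥(Cfsg.omegaOne p (Subgroup.centralizer (Cfsg.powerClosure p 1 A : Set P))))
    have h1 := orderOf_eq_card_of_forall_mem_zpowers hg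
    have h2 : orderOf g ∣ p := orderOf_dvd_of_pow_eq_one (Subtype.ext (hel.2 g g.2))
    rw [h1, hΩ] at h2
    have h3 := Nat.le_of_dvd (Fact.out : p.Prime).pos h2
    have := (Fact.out : p.Prime).two_le
    nlinarith

end Cfsg.Agent.S0519
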