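import Cfsg.Statements.S4364
import Cfsg.Agent.S4037
import Cfsg.Agent.Coprime.Fitting
import Cfsg.Agent.Components.Local
import Cfsg.Agent.Chars.Count

set_option autoImplicit false
open Cfsg

namespace Cfsg.Agent.S4364

open Subgroup Cfsg.Lib.Components

theorem carrier_ncard {G : Type*} [Group G] [Finite G] (b : G) :
    (ConjClasses.mk b).carrier.ncard = (centralizer ({b} : Set G)).index := by
  rw [← Cfsg.Lib.Chars.card_isConj, ← Nat.card_coe_set_eq]
  exact Nat.card_congr (Equiv.subtypeEquivRight fun y =>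
    ConjClasses.mem_carrier_iff_mk_eq.trans (ConjClasses.mk_eq_mk_iff_isConj.trans ⟨IsConj.symm, IsConj.symm⟩))

/-- with trivial `p`-core the conjugates of `x` commute -/
theorem commute_of_core {G : Type*} [Group G] [Finite G] (p : ℕ) [hp : Fact p.Prime] (hcore : Cfsg.pCore p G = ⊥)
    (x : G) (a : ℕ) (ha : (centralizer ({x} : Set G)).index ∣ p ^ a) (g h : G) :
    Commute (g * x * g⁻¹) (h * x * h⁻¹) := by
  set C := centralizer ({x} : Set G) with hC
  have hF : Cfsg.fittingSubgroup G ≤ C := by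
    rw [fitting_eq_iSup_pCore]
    refine iSup_le fun q => ?_
    by_cases hq : q.1 = p
    · rw [hq, hcore]; exact bot_le
    haveI := Fact.mk q.2
    haveI : (Cfsg.pCore q.1 G).Normal := pCore_normal' q.1
    obtain ⟨k, hk⟩ := IsPGroup.iff_card.mp (isPGroup_pCore (G := G) q.1)
    rw [← relIndex_eq_one]
    refine Nat.eq_one_of_dvd_coprimes (((Nat.coprime_primes q.2 hp.out).mpr hq).pow k a) ?_
      ((relIndex_dvd_index_of_normal_right C _).trans ha)
    rw [← hk]
    exact relIndex_dvd_card _ _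
  haveI hFn : (Cfsg.fittingSubgroup G).Normal := normal_of_mem_sSup_normal fun _ hN => hN.1
  set N := normalClosure ({x} : Set G) with hN
  obtain ⟨i, -, hi⟩ := (Nat.dvd_prime_pow hp.out).mp ha
  haveI hsol : Group.IsSolvable N := Cfsg.Agent.S4037.result x hp.out i (by rw [carrier_ncard, ← hC, hi])
  have hFN : (Cfsg.fittingSubgroup N).map N.subtype ≤ Cfsg.fittingSubgroup G := by
    haveI : (Cfsg.fittingSubgroup N).Characteristic := fitting_characteristic
    exact le_fitting ((Group.isNilpotent_congr ((Cfsg.fittingSubgroup N).equivMapOfInjective _ N.subtype_injective)).mp isNilpotent_fitting)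
  have hconj : ∀ c : G, c * x * c⁻¹ ∈ Cfsg.fittingSubgroup G ∧ ∀ f ∈ Cfsg.fittingSubgroup G, Commute f (c * x * c⁻¹) := by
    intro c
    have h2 : ∀ f ∈ Cfsg.fittingSubgroup G, Commute f (c * x * c⁻¹) := fun f hf => by
      have h3 : Commute (c⁻¹ * f * c) x := by
        have := mem_centralizer_singleton_iff.mp (hF (hFn.conj_mem f hf c⁻¹))
        rw [inv_inv] at this; exact this
      have h4 := h3.map (MulAut.conj c).toMonoidHom
      simpa [mul_assoc] using h4
    have hmem : c * x * c⁻¹ ∈ N := normalClosure_normal.conj_mem x (subset_normalClosure (Set.mem_singleton x)) c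
    refine ⟨?_, h2⟩
    have h5 := Cfsg.Lib.Coprime.centralizer_fitting_le (G := N) (x := (⟨_, hmem⟩ : N))
      (mem_centralizer_iff.mpr fun f hf => Subtype.ext (h2 f (hFN ⟨f, hf, rfl⟩)).eq)
    exact hFN ⟨_, h5, rfl⟩
  exact (hconj h).2 _ (hconj g).1


/-- Let G be a finite group, p a prime and x an element whose conjugacy class has p-power size. Then for any two conjugates y and z of x, the commutator y z y⁻¹ z⁻¹ lies in O_p(G), the largest normal p-subgroup of G. -/
theorem result {G : Type*} [Group G] [Finite G] (p : ℕ) [Fact p.Prime]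
    (x : G) (hx : ∃ a : ℕ, (Subgroup.centralizer ({x} : Set G)).index = p ^ a) (g h : G) :
    (g * x * g⁻¹) * (h * x * h⁻¹) * (g * x * g⁻¹)⁻¹ * (h * x * h⁻¹)⁻¹ ∈ Cfsg.pCore p G := by
  obtain ⟨a, ha⟩ := hx
  haveI hn : (Cfsg.pCore p G).Normal := Cfsg.Lib.Components.pCore_normal' p
  set O := Cfsg.pCore p G with hO
  set π := QuotientGroup.mk' O with hπ
  have hbar : Cfsg.pCore p (G ⧸ O) = ⊥ := by
    set T := Cfsg.pCore p (G ⧸ O) with hT
    haveI : T.Normal := Cfsg.Lib.Components.pCore_normal' p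
    have hp1 : IsPGroup p (T.comap π) := by
      obtain ⟨i, hi⟩ := IsPGroup.iff_card.mp (Cfsg.Lib.Components.isPGroup_pCore (G := G ⧸ O) p)
      obtain ⟨j, hj⟩ := IsPGroup.iff_card.mp (Cfsg.Lib.Components.isPGroup_pCore (G := G) p)
      refine IsPGroup.of_card (n := j + i) ?_
      rw [hπ, Cfsg.Lib.Coprime.card_comap_mk', hi, show Nat.card O = p ^ j from hj, pow_add]
    have hle : T.comap π ≤ O := le_sSup ⟨Subgroup.Normal.comap inferInstance π, hp1⟩
    rw [← map_comap_eq_self_of_surjective (QuotientGroup.mk'_surjective O) T, ← hπ, Subgroup.map_eq_bot_iff,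
      hπ, QuotientGroup.ker_mk']
    exact hle
  have hd : (centralizer ({π x} : Set (G ⧸ O))).index ∣ p ^ a := by
    refine ((index_dvd_of_le ?_).trans (index_map_dvd _ (QuotientGroup.mk'_surjective O))).trans (dvd_of_eq ha)
    rintro _ ⟨c, hc, rfl⟩
    rw [mem_centralizer_singleton_iff, ← map_mul, ← map_mul]
    exact congrArg _ (mem_centralizer_singleton_iff.mp hc)
  have key := commute_of_core p hbar (π x) a hd (π g) (π h)
  rw [← QuotientGroup.eq_one_iff]
  simp only [QuotientGroup.mk_mul, QuotientGroup.mk_inv]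
  change π g * π x * (π g)⁻¹ * (π h * π x * (π h)⁻¹) * (π g * π x * (π g)⁻¹)⁻¹ * (π h * π x * (π h)⁻¹)⁻¹ = 1
  rw [key.eq, mul_inv_cancel_right, mul_inv_cancel]

end Cfsg.Agent.S4364
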