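import Cfsg.Statements.S3762
import Cfsg.Agent.S3761
import Cfsg.Agent.PGroups.Bounds
import Cfsg.Agent.SolvStruct.PGroupBasics
import Cfsg.Agent.Coprime.Generation
import Cfsg.Agent.PGroups.SpecialCoprime

set_option autoImplicit false
open Cfsg

namespace Cfsg.Agent.S3762

open scoped commutatorElement
open Cfsg.Lib

theorem classify {R : Type*} [Group R] [Finite R] {p : ℕ} [Fact p.Prime] (hR : IsPGroup p R)
    (hno : ∀ U : Subgroup R, U.Normal → Nat.card U = p ^ 2 → (∀ u ∈ U, u ^ p = 1) → False) :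
    IsCyclic R ∨ (p = 2 ∧ ¬ IsMulCommutative R ∧
      ((∃ m : ℕ, Nonempty (R ≃* DihedralGroup m)) ∨ (∃ m : ℕ, Nonempty (R ≃* QuaternionGroup m)) ∨
        Cfsg.IsQuasiDihedral R)) := by
  classical
  have hp := (Fact.out : p.Prime)
  have habcyc : ∀ A : Subgroup R, A.Normal → IsMulCommutative A → IsCyclic A := by
    intro A hAn hAc
    haveI := hAn
    haveI := hAc
    letI : CommGroup A := { (inferInstance : Group A) with mul_comm := mul_comm' }
    by_contra hA
    obtain ⟨q, u, v, hq, hu, hv, huv⟩ := Cfsg.Lib.Coprime.exists_root_pair_of_not_cyclic hA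
    have hqp : q = p := by
      obtain ⟨j, hj⟩ := IsPGroup.iff_orderOf.mp (hR.to_subgroup A) u
      rw [hu] at hj
      exact (Nat.prime_dvd_prime_iff_eq hq hp).mp (hq.dvd_of_dvd_pow hj.dvd)
    subst hqp
    let K : Subgroup R :=
      { carrier := {x | x ∈ A ∧ x ^ q = 1}
        one_mem' := ⟨one_mem _, one_pow _⟩
        mul_mem' := fun {x y} ⟨hx, hx'⟩ ⟨hy, hy'⟩ => ⟨mul_mem hx hy, by
          rw [(show Commute x y from congrArg Subtype.val (mul_comm' (⟨x, hx⟩ : A) ⟨y, hy⟩)).mul_pow,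
            hx', hy', one_mul]⟩
        inv_mem' := fun {x} ⟨hx, hx'⟩ => ⟨inv_mem hx, by rw [inv_pow, hx', inv_one]⟩ }
    haveI : K.Normal := ⟨fun x ⟨hx, hx'⟩ g => ⟨hAn.conj_mem x hx g, by rw [conj_pow, hx']; group⟩⟩
    have hu' : (u : R) ∈ K := ⟨u.2, by rw [← hu, ← Subgroup.orderOf_coe, pow_orderOf_eq_one]⟩
    have hv' : (v : R) ∈ K := ⟨v.2, by rw [← hv, ← Subgroup.orderOf_coe, pow_orderOf_eq_one]⟩
    have h2 : q ^ 2 ≤ Nat.card K := by
      obtain ⟨k, hk⟩ := (hR.to_subgroup K).exists_card_eq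
      rw [hk]
      refine Nat.pow_le_pow_right hp.pos ?_
      by_contra hlt
      have hKu : Subgroup.zpowers (u : R) = K := Subgroup.eq_of_le_of_card_ge (Subgroup.zpowers_le.2 hu') (by
        rw [Nat.card_zpowers, Subgroup.orderOf_coe, hu, hk]
        exact (Nat.pow_le_pow_right hp.pos (show k ≤ 1 by omega)).trans (pow_one _).le)
      rw [← hKu] at hv'
      obtain ⟨z, hz⟩ := Subgroup.mem_zpowers_iff.1 hv'
      exact huv ⟨z, Subtype.ext (by simpa using hz)⟩
    obtain ⟨U, hUn, ⟨-, hUe⟩, hUc⟩ := Cfsg.Lib.SolvStruct.exists_normal_card_sq hR K h2 (fun x hx => hx.2)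
    exact hno U hUn hUc hUe
  obtain ⟨U, ⟨hUn, hUc⟩, hmax⟩ := WellFounded.has_min
    (IsWellFounded.wf (r := ((· > ·) : Subgroup R → Subgroup R → Prop)))
    {A | A.Normal ∧ IsMulCommutative A} ⟨⊥, inferInstance, inferInstance⟩
  haveI := hUn
  have hC := Cfsg.Lib.PGroups.centralizer_eq_self_of_maximal_normal_abelian hR U hUc
    fun B hB hB' hAB => (eq_of_le_of_not_lt hAB fun hlt => hmax B ⟨hB, hB'⟩ hlt).symm
  by_cases hab : IsMulCommutative R
  · left
    haveI := hab
    have htop : U = ⊤ := by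
      rw [← hC, eq_top_iff]
      exact fun g _ u _ => mul_comm' u g
    haveI : IsCyclic (⊤ : Subgroup R) := htop ▸ habcyc U hUn hUc
    exact isCyclic_of_surjective (⊤ : Subgroup R).subtype (fun r => ⟨⟨r, trivial⟩, rfl⟩)
  right
  obtain ⟨n, hn⟩ := (hR.to_subgroup U).exists_card_eq
  rcases Cfsg.Agent.S3761.result hR hab U (habcyc U hUn hUc) n hn hC with ⟨h2, -, h⟩ | ⟨-, hel, hcard, hchar⟩
  · exact ⟨h2, hab, h⟩
  · exfalso
    haveI := hchar
    exact hno _ inferInstance hcard hel.2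


/-- Let G be a finite p-group of symplectic type: every characteristic abelian subgroup of G is cyclic. Then G = E ∗ R is a central product of subgroups E and R (they commute elementwise and generate G) where E is extraspecial or trivial, and R is cyclic, or p = 2 and R is dihedral, semidihedral or generalized quaternion of order at least 16. -/
theorem result {G : Type*} [Group G] [Finite G] {p : ℕ} [Fact p.Prime] (hG : IsPGroup p G) (hsymp : ∀ A : Subgroup G, A.Characteristic → IsMulCommutative A → IsCyclic A) : ∃ E R : Subgroup G, (∀ e ∈ E, ∀ r ∈ R, e * r = r * e) ∧ E ⊔ R = ⊤ ∧ (E = ⊥ ∨ Cfsg.IsExtraspecial p ↥E) ∧ (IsCyclic R ∨ (p = 2 ∧ 16 ≤ Nat.card R ∧ ((∃ m : ℕ, Nonempty (↥R ≃* DihedralGroup m)) ∨ (∃ m : ℕ, Nonempty (↥R ≃* QuaternionGroup m)) ∨ Cfsg.IsQuasiDihedral ↥R))) := by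
  classical
  haveI : Fintype G := Fintype.ofFinite G
  have hp := (Fact.out : p.Prime)
  by_cases hsub : Subsingleton G
  · exact ⟨⊥, ⊥, by simp, Subsingleton.elim _ _, Or.inl rfl, Or.inl inferInstance⟩
  haveI : Nontrivial G := not_subsingleton_iff_nontrivial.1 hsub
  haveI := hG.center_nontrivial
  have hZcyc : IsCyclic ↥(Subgroup.center G) := hsymp _ inferInstance inferInstance
  obtain ⟨z₀, hz₀⟩ := exists_prime_orderOf_dvd_card' (G := ↥(Subgroup.center G)) p <| by
    obtain ⟨n, hn0, hn⟩ := (hG.to_subgroup (Subgroup.center G)).nontrivial_iff_card.1 inferInstance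
    rw [hn]; exact dvd_pow_self p (by omega)
  rw [← Subgroup.orderOf_coe] at hz₀
  set Z0 := Subgroup.zpowers (z₀ : G) with hZ0def
  have hZ0c : Z0 ≤ Subgroup.center G := Subgroup.zpowers_le.2 z₀.2
  have hZ0card : Nat.card Z0 = p := by rw [hZ0def, Nat.card_zpowers, hz₀]
  haveI hZ0n : Z0.Normal := ⟨fun n hn g => by
    have := Subgroup.mem_center_iff.1 (hZ0c hn) g
    rw [this, mul_inv_cancel_right]; exact hn⟩
  -- the only subgroup of order `p` in the centre
  have huniq : ∀ z ∈ Subgroup.center G, z ^ p = 1 → z ∈ Z0 := by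
    intro z hz hzp
    haveI := hZcyc
    have h := (IsCyclic.card_pow_eq_one_le (α := ↥(Subgroup.center G)) hp.pos)
    by_contra hzn
    let S : Finset ↥(Subgroup.center G) := insert ⟨z, hz⟩ ((Finset.range p).image fun i => z₀ ^ i)
    have hS : S ⊆ Finset.univ.filter (fun a : ↥(Subgroup.center G) => a ^ p = 1) := by
      intro a ha
      rw [Finset.mem_filter]
      refine ⟨Finset.mem_univ _, ?_⟩
      rcases Finset.mem_insert.1 ha with rfl | ha
      · exact Subtype.ext (by simpa using hzp)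
      · obtain ⟨i, -, rfl⟩ := Finset.mem_image.1 ha
        rw [← pow_mul, mul_comm, pow_mul, ← hz₀, Subgroup.orderOf_coe, pow_orderOf_eq_one, one_pow]
    have hcard : S.card = p + 1 := by
      rw [Finset.card_insert_of_notMem, Finset.card_image_of_injOn, Finset.card_range]
      · intro i hi j hj hij
        rw [Finset.mem_coe, Finset.mem_range] at hi hj
        rw [Subgroup.orderOf_coe] at hz₀
        exact pow_injOn_Iio_orderOf (by simpa [hz₀] using hi) (by simpa [hz₀] using hj) hij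
      · rw [Finset.mem_image]
        rintro ⟨i, -, hi⟩
        exact hzn ⟨(i : ℤ), by simpa using congrArg Subtype.val hi⟩
    have h2 := (Finset.card_le_card hS).trans (h)
    omega
  have hZ0char : ∀ φ : G ≃* G, ∀ z ∈ Z0, φ z ∈ Z0 := by
    intro φ z hz
    refine huniq _ ?_ ?_
    · rw [Subgroup.mem_center_iff]
      intro g
      obtain ⟨g', rfl⟩ := φ.surjective g
      rw [← map_mul, ← map_mul, Subgroup.mem_center_iff.1 (hZ0c hz) g']
    · have : z ^ p = 1 := by
        rw [← hZ0card]; exact congrArg Subtype.val (pow_card_eq_one' (x := (⟨z, hz⟩ : Z0)))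
      rw [← map_pow, this, map_one]
  -- `W` is the preimage of `Ω₁` of the centre of `G / Z0`
  let Ω : Subgroup (G ⧸ Z0) :=
    { carrier := {y | y ∈ Subgroup.center (G ⧸ Z0) ∧ y ^ p = 1}
      one_mem' := ⟨one_mem _, one_pow _⟩
      mul_mem' := fun {x y} hx hy => ⟨mul_mem hx.1 hy.1, by
        rw [(show Commute x y from (Subgroup.mem_center_iff.1 hy.1 x)).mul_pow, hx.2, hy.2, one_mul]⟩
      inv_mem' := fun {x} hx => ⟨inv_mem hx.1, by rw [inv_pow, hx.2, inv_one]⟩ }
  set W : Subgroup G := Ω.comap (QuotientGroup.mk' Z0) with hWdef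
  have hWmem : ∀ g, g ∈ W ↔ (∀ x : G, ⁅x, g⁆ ∈ Z0) ∧ g ^ p ∈ Z0 := by
    intro g
    show (QuotientGroup.mk' Z0 g ∈ Subgroup.center (G ⧸ Z0) ∧ (QuotientGroup.mk' Z0 g) ^ p = 1) ↔ _
    rw [Subgroup.mem_center_iff, ← map_pow]
    refine and_congr ⟨fun h x => ?_, fun h y => ?_⟩ (QuotientGroup.eq_one_iff _)
    · rw [← QuotientGroup.eq_one_iff]
      show QuotientGroup.mk' Z0 ⁅x, g⁆ = 1
      rw [map_commutatorElement, commutatorElement_eq_one_iff_mul_comm]
      exact h _
    · obtain ⟨x, rfl⟩ := QuotientGroup.mk'_surjective Z0 y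
      have h1 : QuotientGroup.mk' Z0 ⁅x, g⁆ = 1 := (QuotientGroup.eq_one_iff _).2 (h x)
      rw [map_commutatorElement, commutatorElement_eq_one_iff_mul_comm] at h1
      exact h1
  have hWc : W.Characteristic := by
    refine Subgroup.characteristic_iff_le_comap.2 fun φ g hg => ?_
    rw [Subgroup.mem_comap]
    show φ g ∈ W
    obtain ⟨h1, h2⟩ := (hWmem g).1 hg
    refine (hWmem _).2 ⟨fun x => ?_, ?_⟩
    · obtain ⟨x', rfl⟩ := φ.surjective x
      rw [← map_commutatorElement φ x' g]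
      exact hZ0char φ _ (h1 x')
    · rw [← map_pow]; exact hZ0char φ _ h2
  have hZ0W : Z0 ≤ W := fun z hz => (hWmem z).2 ⟨fun x => by
    rw [commutatorElement_eq_one_iff_mul_comm.2 (Subgroup.mem_center_iff.1 (hZ0c hz) x)]
    exact one_mem _, pow_mem hz p⟩
  set Z := W ⊓ Subgroup.centralizer (W : Set G) with hZdef
  have hZch : Z.Characteristic := by
    haveI := hWc
    refine Subgroup.characteristic_iff_le_comap.2 fun φ g hg => ?_
    rw [Subgroup.mem_comap]
    refine ⟨(Subgroup.characteristic_iff_le_comap.1 hWc φ) hg.1, fun w hw => ?_⟩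
    obtain ⟨w', rfl⟩ := φ.surjective w
    have hw' : w' ∈ W := by
      have := (Subgroup.characteristic_iff_le_comap.1 hWc φ.symm) hw
      rwa [Subgroup.mem_comap, MulEquiv.coe_toMonoidHom, MulEquiv.symm_apply_apply] at this
    show φ w' * φ g = φ g * φ w'
    rw [← map_mul, ← map_mul, hg.2 w' hw']
  have hZcyc' : IsCyclic Z := hsymp Z hZch ⟨⟨fun a b => Subtype.ext (b.2.2 a a.2.1)⟩⟩
  have hbetween : ∀ K : Subgroup G, Z0 ≤ K → K ≤ W → K.Normal := fun K h0 hK => ⟨fun k hk g => by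
    have h1 := mul_mem (h0 (((hWmem k).1 (hK hk)).1 g)) hk
    rw [show g * k * g⁻¹ = ⁅g, k⁆ * k by rw [commutatorElement_def]; group]
    exact h1⟩
  -- `E` is a complement of `Z` in `W` over `Z0`
  obtain ⟨E, ⟨hE0, hEW, hEZ⟩, hEmax⟩ := WellFounded.has_min
    (IsWellFounded.wf (r := ((· > ·) : Subgroup G → Subgroup G → Prop)))
    {K | Z0 ≤ K ∧ K ≤ W ∧ K ⊓ Z ≤ Z0} ⟨Z0, le_rfl, hZ0W, inf_le_left⟩
  haveI hEn : E.Normal := hbetween E hE0 hEW
  have hZ0Z : Z0 ≤ Z := le_inf hZ0W fun z hz w _ => Subgroup.mem_center_iff.1 (hZ0c hz) w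
  have hEZW : E ⊔ Z = W := by
    refine le_antisymm (sup_le hEW inf_le_left) fun w hw => ?_
    by_contra hwn
    refine hEmax (E ⊔ Subgroup.zpowers w) ⟨hE0.trans le_sup_left, sup_le hEW (Subgroup.zpowers_le.2 hw), ?_⟩ ?_
    · intro y hy
      obtain ⟨e, he, v, hv, rfl⟩ := Subgroup.mem_sup_of_normal_left.1 hy.1
      obtain ⟨k, rfl⟩ := Subgroup.mem_zpowers_iff.1 hv
      have hwk : w ^ k ∈ E ⊔ Z := by
        rw [show w ^ k = e⁻¹ * (e * w ^ k) by group]
        exact Subgroup.mul_mem_sup (inv_mem he) hy.2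
      have hwp : w ^ (p : ℤ) ∈ E ⊔ Z := by
        rw [zpow_natCast]; exact Subgroup.mem_sup_left (hE0 ((hWmem w).1 hw).2)
      by_cases hk : (p : ℤ) ∣ k
      · obtain ⟨m, rfl⟩ := hk
        have hm : w ^ ((p : ℤ) * m) ∈ E := by
          rw [zpow_mul, zpow_natCast]; exact zpow_mem (hE0 ((hWmem w).1 hw).2) m
        exact hEZ ⟨mul_mem he hm, hy.2⟩
      · exfalso
        refine hwn ?_
        have hcop : IsCoprime k (p : ℤ) :=
          ((Int.prime_iff_natAbs_prime.2 (by simpa using hp)).coprime_iff_not_dvd.2 hk).symm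
        obtain ⟨a, b, hab⟩ := hcop
        rw [← zpow_one w, ← hab, zpow_add, mul_comm a, mul_comm b, zpow_mul, zpow_mul]
        exact mul_mem (zpow_mem hwk a) (zpow_mem hwp b)
    · exact lt_of_le_of_ne le_sup_left fun h => hwn <| Subgroup.mem_sup_left
        (h ▸ Subgroup.mem_sup_right (Subgroup.mem_zpowers w) : w ∈ E)
  set R := Subgroup.centralizer (E : Set G) with hRdef
  have hEc : ∀ a ∈ E, ∀ g : G, ⁅g, a⁆ ∈ Z0 := fun a ha g => ((hWmem a).1 (hEW ha)).1 g
  have hcenE : (Subgroup.center ↥E).map E.subtype = Z0 := by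
    refine le_antisymm ?_ fun z hz => ⟨⟨z, hE0 hz⟩, Subgroup.mem_center_iff.2 fun e =>
      Subtype.ext (Subgroup.mem_center_iff.1 (hZ0c hz) e), rfl⟩
    rintro _ ⟨c, hc, rfl⟩
    refine hEZ ⟨c.2, hEW c.2, fun w hw => ?_⟩
    have hle : E ⊔ Z ≤ Subgroup.centralizer ({(c : G)} : Set G) := sup_le
      (fun e he => Subgroup.mem_centralizer_singleton_iff.2 (congrArg Subtype.val (Subgroup.mem_center_iff.1 hc ⟨e, he⟩)))
      (fun u hu => Subgroup.mem_centralizer_singleton_iff.2 (hu.2 c (hEW c.2)).symm)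
    rw [hEZW] at hle
    exact (Subgroup.mem_centralizer_singleton_iff.1 (hle hw))
  have hEp : IsPGroup p ↥E := hG.to_subgroup E
  obtain ⟨hER, E', hE', hE'R, hsup⟩ : E ⊔ R = ⊤ ∧ ∃ E' : Subgroup G, (E' = ⊥ ∨ Cfsg.IsExtraspecial p ↥E') ∧
      (∀ e ∈ E', ∀ r ∈ R, e * r = r * e) ∧ E' ⊔ R = ⊤ := by
    by_cases hEab : E ≤ Z
    · have hR : R = ⊤ := eq_top_iff.2 fun g _ e he => by
        have : e ∈ Z0 := hEZ ⟨he, hEab he⟩
        exact (Subgroup.mem_center_iff.1 (hZ0c this) g).symm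
      refine ⟨by rw [hR, sup_top_eq], ⊥, Or.inl rfl, fun e he r _ => ?_, by rw [hR, sup_top_eq]⟩
      rw [Subgroup.mem_bot] at he; rw [he, one_mul, mul_one]
    · have hcomle : (commutator ↥E).map E.subtype ≤ Z0 := by
        rw [Subgroup.map_subtype_commutator]
        exact Subgroup.commutator_le.2 fun a _ b hb => hEc b hb a
      have hcomE : (commutator ↥E).map E.subtype = Z0 := by
        refine Subgroup.eq_of_le_of_card_ge hcomle ?_
        rcases (Nat.dvd_prime hp).1 (hZ0card ▸ Subgroup.card_dvd_of_le hcomle) with h | h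
        · exfalso
          refine hEab fun a ha => ⟨hEW ha, fun w hw => ?_⟩
          have hbot := Subgroup.eq_bot_of_card_eq _ h
          rw [Subgroup.map_subtype_commutator, Subgroup.commutator_eq_bot_iff_le_centralizer] at hbot
          have hle : E ⊔ Z ≤ Subgroup.centralizer ({a} : Set G) := sup_le
            (fun e he => Subgroup.mem_centralizer_singleton_iff.2 (hbot he a ha).symm)
            (fun u hu => Subgroup.mem_centralizer_singleton_iff.2 (hu.2 a (hEW ha)).symm)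
          rw [hEZW] at hle
          exact Subgroup.mem_centralizer_singleton_iff.1 (hle hw)
        · rw [hZ0card, h]
      have hex : Cfsg.IsExtraspecial p ↥E := by
        have hcc : commutator ↥E = Subgroup.center ↥E := Subgroup.map_injective E.subtype_injective (hcomE.trans hcenE.symm)
        refine ⟨⟨hEp, le_antisymm (Cfsg.Lib.PGroups.SpecialCoprime.frattini_le_of_elementary (p := p) _ (fun g => ?_) hcc.le)
          (hcc ▸ Cfsg.Lib.PGroups.commutator_le_frattini hEp), hcc⟩, ?_⟩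
        · obtain ⟨c, hc, hce⟩ := hcenE.ge (((hWmem g).1 (hEW g.2)).2)
          rwa [show g ^ p = c from Subtype.ext (by simpa using hce.symm)]
        · rw [← hZ0card, ← hcenE, Subgroup.card_subtype]
      have h := Cfsg.Lib.PGroups.extraspecial_sup_centralizer hG E hex (Subgroup.commutator_le.2 fun g _ b hb =>
        ⟨hE0 (hEc b hb g), fun e _ => Subgroup.mem_center_iff.1 (hZ0c (hEc b hb g)) e⟩)
      exact ⟨h, E, Or.inr hex, fun e he r hr => hr e he, h⟩
  -- elements of `R ∩ W` lie in `Z`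
  have hRW : ∀ r ∈ R, r ∈ W → r ∈ Z := fun r hr hrW => ⟨hrW, fun w hw => by
    have hle : E ⊔ Z ≤ Subgroup.centralizer ({r} : Set G) := sup_le
      (fun e he => Subgroup.mem_centralizer_singleton_iff.2 (hr e he))
      (fun u hu => Subgroup.mem_centralizer_singleton_iff.2 (hu.2 r hrW).symm)
    rw [hEZW] at hle
    exact Subgroup.mem_centralizer_singleton_iff.1 (hle hw)⟩
  -- conjugation by `G` of elements of `R` reduces to conjugation by `R`
  have hred : ∀ g : G, ∀ r ∈ R, ∃ s ∈ R, g * r * g⁻¹ = s * r * s⁻¹ := by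
    intro g r hr
    have hg : g ∈ E ⊔ R := by rw [hER]; exact Subgroup.mem_top g
    obtain ⟨e, he, s, hs, rfl⟩ := Subgroup.mem_sup_of_normal_left.1 hg
    refine ⟨s, hs, ?_⟩
    have h1 : e * (s * r * s⁻¹) = (s * r * s⁻¹) * e := (mul_mem (mul_mem hs hr) (inv_mem hs)) e he
    rw [show e * s * r * (e * s)⁻¹ = e * (s * r * s⁻¹) * e⁻¹ by group, h1, mul_inv_cancel_right]
  have hno : ∀ U : Subgroup ↥R, U.Normal → Nat.card U = p ^ 2 → (∀ u ∈ U, u ^ p = 1) → False := by
    intro U hUn hUc hUe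
    set V := U.map R.subtype with hVdef
    have hVc : Nat.card V = p ^ 2 := by rw [hVdef, Subgroup.card_subtype, hUc]
    haveI hVn : V.Normal := ⟨by
      rintro _ ⟨u, hu, rfl⟩ g
      obtain ⟨s, hs, e⟩ := hred g u u.2
      exact ⟨⟨s, hs⟩ * u * ⟨s, hs⟩⁻¹, hUn.conj_mem u hu _, by rw [Subgroup.coe_subtype]; simpa using e.symm⟩⟩
    obtain ⟨z, hzV, hzZ, hz⟩ := Cfsg.Lib.PGroups.exists_mem_center_of_normal_ne_bot hG (N := V) (fun h => by
      rw [h, Subgroup.card_bot] at hVc
      exact (Nat.one_lt_pow two_ne_zero hp.one_lt).ne hVc)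
    have hzZ0 : z ∈ Z0 := huniq z hzZ (by rw [← hz]; exact pow_orderOf_eq_one z)
    have hz0 : Subgroup.zpowers z = Z0 := Subgroup.eq_of_le_of_card_ge (Subgroup.zpowers_le.2 hzZ0)
      (by rw [hZ0card, Nat.card_zpowers, hz])
    have h0V : Z0 ≤ V := hz0 ▸ Subgroup.zpowers_le.2 hzV
    have hVq : Nat.card ↥(V.map (QuotientGroup.mk' Z0)) = p := by
      have h1 := Subgroup.relIndex_mul_relIndex (⊥ : Subgroup G) Z0 V bot_le h0V
      rw [Subgroup.relIndex_bot_left, Subgroup.relIndex_bot_left, hVc, hZ0card, sq] at h1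
      have h2 := Nat.eq_of_mul_eq_mul_left hp.pos h1
      conv_rhs => rw [← h2, show Z0 = (QuotientGroup.mk' Z0).ker from (QuotientGroup.ker_mk' Z0).symm]
      rw [Subgroup.relIndex_ker]
    haveI : (V.map (QuotientGroup.mk' Z0)).Normal := hVn.map _ (QuotientGroup.mk'_surjective _)
    have hVcen := Cfsg.Lib.PGroups.le_center_of_card_eq_prime (hG.to_quotient Z0) hVq
    have hVexp : ∀ v ∈ V, v ^ p = 1 := by
      rintro _ ⟨u, hu, rfl⟩
      rw [← map_pow, hUe u hu, map_one]
    have hVW : V ≤ W := fun v hv => (hWmem v).2 ⟨fun x => by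
      rw [← QuotientGroup.eq_one_iff]
      show QuotientGroup.mk' Z0 ⁅x, v⁆ = 1
      rw [map_commutatorElement, commutatorElement_eq_one_iff_mul_comm]
      exact Subgroup.mem_center_iff.1 (hVcen ⟨v, hv, rfl⟩) _, by rw [hVexp v hv]; exact one_mem _⟩
    have hVZ : V ≤ Z := fun v hv => hRW v ((Subgroup.map_subtype_le U) hv) (hVW hv)
    haveI := hZcyc'
    haveI : IsCyclic ↥(V.subgroupOf Z) := Subgroup.isCyclic _
    obtain ⟨⟨⟨v, hvZ⟩, hvV⟩, hgen⟩ := (inferInstance : IsCyclic ↥(V.subgroupOf Z)).exists_ofOrder_eq_natCard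
    rw [Nat.card_congr (Subgroup.subgroupOfEquivOfLe hVZ).toEquiv, hVc, Subgroup.orderOf_mk, Subgroup.orderOf_mk] at hgen
    have hd := orderOf_dvd_of_pow_eq_one (hVexp v hvV)
    rw [hgen] at hd
    have hle := Nat.le_of_dvd hp.pos hd
    nlinarith [hp.two_le]
  refine ⟨E', R, hE'R, hsup, hE', ?_⟩
  rcases classify (hG.to_subgroup R) hno with h | ⟨h2, hna, h⟩
  · exact Or.inl h
  refine Or.inr ⟨h2, ?_, h⟩
  subst h2
  obtain ⟨k, hk⟩ := (hG.to_subgroup R).exists_card_eq
  rcases Nat.lt_or_ge k 3 with hk3 | hk3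
  · exfalso
    apply hna
    interval_cases k
    · haveI : Subsingleton ↥R := (Nat.card_eq_one_iff_unique.1 (by simpa using hk)).1
      exact ⟨⟨fun a b => Subsingleton.elim _ _⟩⟩
    · haveI := isCyclic_of_prime_card (α := ↥R) (p := 2) (by simpa using hk)
      exact IsCyclic.isMulCommutative
    · exact ⟨⟨fun a b => IsPGroup.commutative_of_card_eq_prime_sq (p := 2) hk a b⟩⟩
  rcases Nat.eq_or_lt_of_le hk3 with hk3 | hk4
  swap
  · rw [hk]; exact le_trans (by norm_num) (Nat.pow_le_pow_right (by norm_num) hk4)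
  exfalso
  subst hk3
  -- a group of order `8` lies in `W`
  have hZR : ∀ c : ↥R, c ∈ Subgroup.center ↥R → (c : G) ∈ Subgroup.center G := by
    intro c hc
    rw [Subgroup.mem_center_iff]
    intro g
    obtain ⟨s, hs, e⟩ := hred g c c.2
    have h1 : s * (c : G) = c * s := congrArg Subtype.val (Subgroup.mem_center_iff.1 hc ⟨s, hs⟩)
    rw [h1, mul_inv_cancel_right] at e
    exact mul_inv_eq_iff_eq_mul.1 e
  have hRW8 : ∀ r ∈ R, r ∈ W := by
    have hq : Nat.card (↥R ⧸ Subgroup.center ↥R) ∣ 8 := by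
      have := (Subgroup.center ↥R).index_dvd_card
      rwa [Subgroup.index_eq_card, hk] at this
    have hqne : ¬ IsCyclic (↥R ⧸ Subgroup.center ↥R) := fun hc => hna <| by
      exact (commutative_of_cyclic_center_quotient (QuotientGroup.mk' (Subgroup.center ↥R)) (by simp)) |> fun h => ⟨⟨h⟩⟩
    have hcp : Nat.card (↥R ⧸ Subgroup.center ↥R) = 4 := by
      obtain ⟨j, hj, hje⟩ := (Nat.dvd_prime_pow Nat.prime_two).1 (show Nat.card (↥R ⧸ Subgroup.center ↥R) ∣ 2 ^ 3 from hq)
      interval_cases j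
      · exfalso; apply hqne
        haveI : Subsingleton (↥R ⧸ Subgroup.center ↥R) := (Nat.card_eq_one_iff_unique.1 (by simpa using hje)).1
        exact isCyclic_of_subsingleton
      · exact absurd (isCyclic_of_prime_card (p := 2) (by simpa using hje)) hqne
      · simpa using hje
      · exfalso
        have h1 := Subgroup.card_mul_index (Subgroup.center ↥R)
        rw [Subgroup.index_eq_card, hje, hk] at h1
        haveI : Nontrivial ↥R := Finite.one_lt_card_iff_nontrivial.1 (by rw [hk]; norm_num)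
        have h2 := Finite.one_lt_card_iff_nontrivial.2 (hG.to_subgroup R).center_nontrivial
        omega
    have hsq : ∀ y : ↥R ⧸ Subgroup.center ↥R, y ^ 2 = 1 := by
      intro y
      have hd : orderOf y ∣ 2 ^ 2 := by
        have := orderOf_dvd_natCard y
        rw [hcp] at this
        simpa using this
      obtain ⟨j, hj, hje⟩ := (Nat.dvd_prime_pow Nat.prime_two).1 hd
      interval_cases j
      · exact orderOf_dvd_iff_pow_eq_one.1 (by rw [hje]; norm_num)
      · exact orderOf_dvd_iff_pow_eq_one.1 (by rw [hje]; norm_num)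
      · exact absurd (isCyclic_of_orderOf_eq_card y (by rw [hje, hcp]; norm_num)) hqne
    have hcenZ0 : ∀ c : ↥R, c ∈ Subgroup.center ↥R → (c : G) ∈ Z0 := by
      intro c hc
      refine huniq _ (hZR c hc) ?_
      have h1 := Subgroup.card_mul_index (Subgroup.center ↥R)
      rw [Subgroup.index_eq_card, hcp, hk] at h1
      have h2 : Nat.card (Subgroup.center ↥R) = 2 := by omega
      have h3 : (⟨c, hc⟩ : Subgroup.center ↥R) ^ Nat.card (Subgroup.center ↥R) = 1 := pow_card_eq_one'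
      rw [h2] at h3
      simpa using congrArg (fun x : ↥(Subgroup.center ↥R) => ((x : ↥R) : G)) h3
    intro r hr
    refine (hWmem r).2 ⟨fun x => ?_, ?_⟩
    · obtain ⟨s, hs, e⟩ := hred x r hr
      rw [commutatorElement_def, e]
      have h1 : QuotientGroup.mk' (Subgroup.center ↥R) (⟨s, hs⟩ * ⟨r, hr⟩ * ⟨s, hs⟩⁻¹ * ⟨r, hr⟩⁻¹) = 1 := by
        simp only [map_mul, map_inv]
        have hab : ∀ a b : ↥R ⧸ Subgroup.center ↥R, a * b = b * a := fun a b => by
          have ha : ∀ y : ↥R ⧸ Subgroup.center ↥R, y⁻¹ = y := fun y => inv_eq_of_mul_eq_one_right (by rw [← sq]; exact hsq y)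
          calc a * b = (a * b)⁻¹ := (ha _).symm
            _ = b * a := by rw [mul_inv_rev, ha, ha]
        rw [hab (QuotientGroup.mk' _ _) (QuotientGroup.mk' _ _), mul_inv_cancel_right, mul_inv_cancel]
      exact hcenZ0 _ ((QuotientGroup.eq_one_iff _).1 h1)
    · exact hcenZ0 (⟨r, hr⟩ ^ 2) ((QuotientGroup.eq_one_iff _).1 (by rw [QuotientGroup.mk_pow]; exact hsq _))
  apply hna
  exact ⟨⟨fun a b => Subtype.ext ((hRW b b.2 (hRW8 b b.2)).2 a (hRW8 a a.2))⟩⟩

end Cfsg.Agent.S3762
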