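import Cfsg.Statements.S0756
import Mathlib

set_option autoImplicit false
set_option linter.style.haveILetI false
open Cfsg

namespace Cfsg.Agent.S0756

theorem isSquare_div {F : Type*} [Field F] [Finite F] (h2 : (2 : F) ≠ 0) {a α : F} (ha : ¬ IsSquare a)
    (hα : ¬ IsSquare α) : IsSquare (a / α) := by
  classical
  letI : Fintype F := Fintype.ofFinite F
  have hc : ringChar F ≠ 2 := fun h => h2 (by
    haveI : CharP F 2 := h ▸ ringChar.charP F
    exact CharTwo.two_eq_zero)
  have hα0 : α ≠ 0 := fun h => hα (h ▸ IsSquare.zero)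
  have ha0 : a ≠ 0 := fun h => ha (h ▸ IsSquare.zero)
  rw [← quadraticChar_one_iff_isSquare (div_ne_zero ha0 hα0)]
  have e : quadraticChar F (a / α) * quadraticChar F α = quadraticChar F a := by
    rw [← map_mul, div_mul_cancel₀ _ hα0]
  rw [quadraticChar_neg_one_iff_not_isSquare.mpr hα, quadraticChar_neg_one_iff_not_isSquare.mpr ha] at e
  linarith

theorem exists_unit {F : Type*} [Field F] [Finite F] {V : Type*} [AddCommGroup V] [Module F V]
    [FiniteDimensional F V] (h2 : (2 : F) ≠ 0) (B : LinearMap.BilinForm F V) (hS : B.IsSymm) (hB : B.Nondegenerate)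
    (hd : 2 ≤ Module.finrank F V) : ∃ v, B v v = 1 := by
  classical
  letI : Fintype F := Fintype.ofFinite F
  haveI : Invertible (2 : F) := invertibleOfNonzero h2
  obtain ⟨e, he⟩ := LinearMap.BilinForm.exists_orthogonal_basis (LinearMap.BilinForm.isSymm_iff.mp hS)
  have hne : ∀ i, B (e i) (e i) ≠ 0 := fun i => he.not_isOrtho_basis_self_of_separatingLeft hB.1 i
  set i : Fin (Module.finrank F V) := ⟨0, by omega⟩
  set j : Fin (Module.finrank F V) := ⟨1, by omega⟩
  have hij : i ≠ j := by simp [i, j]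
  have hodd : Fintype.card F % 2 = 1 := FiniteField.odd_card_of_char_ne_two fun h => h2 (by
    haveI : CharP F 2 := h ▸ ringChar.charP F
    exact CharTwo.two_eq_zero)
  obtain ⟨p, q, hpq⟩ := FiniteField.exists_root_sum_quadratic
    (f := Polynomial.C (B (e i) (e i)) * Polynomial.X ^ 2)
    (g := Polynomial.C (B (e j) (e j)) * Polynomial.X ^ 2 + Polynomial.C (-1))
    (Polynomial.degree_C_mul_X_pow 2 (hne i))
    (by rw [Polynomial.degree_add_C (by rw [Polynomial.degree_C_mul_X_pow 2 (hne j)]; decide),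
      Polynomial.degree_C_mul_X_pow 2 (hne j)]; rfl) hodd
  simp only [Polynomial.eval_mul, Polynomial.eval_add, Polynomial.eval_C, Polynomial.eval_pow,
    Polynomial.eval_X] at hpq
  refine ⟨p • e i + q • e j, ?_⟩
  simp only [map_add, map_smul, LinearMap.add_apply, LinearMap.smul_apply, smul_eq_mul,
    show B (e i) (e j) = 0 from he hij, show B (e j) (e i) = 0 from he hij.symm]
  linear_combination hpq

universe u v in
theorem aux {F : Type u} [Field F] [Finite F] (h2 : (2 : F) ≠ 0) (α : F) (hα : ¬ IsSquare α) :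
    ∀ (n : ℕ) {V : Type v} [AddCommGroup V] [Module F V] [FiniteDimensional F V] (B : LinearMap.BilinForm F V),
      B.IsSymm → B.Nondegenerate → Module.finrank F V = n + 1 →
      ∃ b : Module.Basis (Fin (n + 1)) F V, (∀ i j, i ≠ j → B (b i) (b j) = 0) ∧
        (∀ i, i ≠ Fin.last n → B (b i) (b i) = 1) ∧
        (B (b (Fin.last n)) (b (Fin.last n)) = 1 ∨ B (b (Fin.last n)) (b (Fin.last n)) = α) := by
  intro n
  induction n with
  | zero =>
    intro V _ _ _ B hS hB hn
    let e := Module.finBasisOfFinrankEq F V hn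
    have ha0 : B (e 0) (e 0) ≠ 0 := fun h => e.ne_zero 0 (hB.1 _ fun y => by
      rw [← e.sum_repr y]; simp [h])
    have key : ∃ c : F, c ≠ 0 ∧ (c * c * B (e 0) (e 0) = 1 ∨ c * c * B (e 0) (e 0) = α) := by
      set a := B (e 0) (e 0)
      by_cases h : IsSquare a
      · obtain ⟨r, hr⟩ := h
        have hr0 : r ≠ 0 := fun h => ha0 (by rw [hr, h, mul_zero])
        exact ⟨r⁻¹, inv_ne_zero hr0, Or.inl (by rw [hr]; field_simp)⟩
      · obtain ⟨r, hr⟩ := isSquare_div h2 hα h
        refine ⟨r, fun h0 => ?_, Or.inr (by rw [← hr, div_mul_cancel₀ _ ha0])⟩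
        rw [h0, mul_zero, div_eq_zero_iff] at hr
        exact hr.elim (fun h1 => hα (h1 ▸ IsSquare.zero)) ha0
    obtain ⟨c, hc, hca⟩ := key
    refine ⟨e.unitsSMul fun _ => Units.mk0 c hc, fun i j hij => absurd (Fin.ext (by omega)) hij,
      fun i hi => absurd (Fin.ext (by simp)) hi, ?_⟩
    simpa [Module.Basis.unitsSMul_apply, ← mul_assoc] using hca
  | succ n ih =>
    intro V _ _ _ B hS hB hn
    obtain ⟨v, hv⟩ := exists_unit h2 B hS hB (by omega)
    have hv0 : v ≠ 0 := fun h => by rw [h, map_zero] at hv; exact zero_ne_one hv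
    set W := LinearMap.BilinForm.orthogonal B (F ∙ v)
    have hr : B.IsRefl := hS.isRefl
    have hvW : ∀ w ∈ W, B v w = 0 := fun w hw => hw v (Submodule.mem_span_singleton_self v)
    have hc : IsCompl (F ∙ v) W := LinearMap.BilinForm.isCompl_span_singleton_orthogonal (by
      change B v v ≠ 0
      rw [hv]; exact one_ne_zero)
    have hW : Module.finrank F W = n + 1 := by
      have := Submodule.finrank_add_eq_of_isCompl hc
      rw [finrank_span_singleton hv0, hn] at this
      omega
    have hn1 : (B.restrict W).Nondegenerate := by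
      have key : ∀ w : W, (∀ z : W, B w z = 0) → w = 0 := fun w hw => Subtype.ext (hB.1 w fun x => by
        obtain ⟨p, hp, q, hq, rfl⟩ := Submodule.mem_sup.mp
          (hc.sup_eq_top ▸ Submodule.mem_top : x ∈ (F ∙ v) ⊔ W)
        obtain ⟨a, rfl⟩ := Submodule.mem_span_singleton.mp hp
        rw [map_add, map_smul, show B (w : V) q = 0 from hw ⟨q, hq⟩, hr _ _ (hvW w w.2), smul_zero, add_zero])
      exact ⟨key, fun w hw => key w fun z => hr _ _ (hw z)⟩
    obtain ⟨b, hb1, hb2, hb3⟩ := ih (B.restrict W) (hS.restrict W) hn1 hW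
    let w : Fin (n + 1 + 1) → V := Fin.cons v fun i => (b i : V)
    have hspan : ⊤ ≤ Submodule.span F (Set.range w) := by
      rw [← hc.sup_eq_top, sup_le_iff]
      refine ⟨(Submodule.span_singleton_le_iff_mem _ _).mpr (Submodule.subset_span ⟨0, rfl⟩), fun z hz => ?_⟩
      rw [show z = ((⟨z, hz⟩ : W) : V) from rfl, ← b.sum_repr ⟨z, hz⟩]
      simp only [Submodule.coe_sum, Submodule.coe_smul]
      exact Submodule.sum_mem _ fun i _ => Submodule.smul_mem _ _ (Submodule.subset_span ⟨i.succ, rfl⟩)
    refine ⟨basisOfTopLeSpanOfCardEqFinrank w hspan (by rw [Fintype.card_fin, hn]), ?_⟩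
    simp only [coe_basisOfTopLeSpanOfCardEqFinrank, ← Fin.succ_last]
    refine ⟨?_, ?_, by simpa [w] using hb3⟩
    · intro i j
      refine Fin.cases ?_ (fun i => ?_) i <;> refine Fin.cases ?_ (fun j => ?_) j <;> intro hij
      · exact absurd rfl hij
      · simpa [w] using hvW _ (b j).2
      · simpa [w] using hr _ _ (hvW _ (b i).2)
      · simpa [w] using hb1 i j fun h => hij (h ▸ rfl)
    · intro i
      refine Fin.cases ?_ (fun i => ?_) i <;> intro hi
      · simpa [w] using hv
      · simpa [w] using hb2 i fun h => hi (h ▸ rfl)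

/-- Classification of symmetric bilinear forms over finite fields of odd characteristic: if B is non-degenerate symmetric on V of dimension n + 1 and α is a fixed non-square of F, there is an orthogonal basis b_0, ..., b_n with B(b_i, b_i) = 1 for i < n and B(b_n, b_n) ∈ {1, α}. -/
theorem result {F V : Type*} [Field F] [Finite F] [AddCommGroup V] [Module F V] [FiniteDimensional F V] (h2 : (2 : F) ≠ 0) (B : LinearMap.BilinForm F V) (hS : B.IsSymm) (hB : B.Nondegenerate) {n : ℕ} (hn : Module.finrank F V = n + 1) (α : F) (hα : ¬ IsSquare α) : ∃ b : Module.Basis (Fin (n + 1)) F V, (∀ i j, i ≠ j → B (b i) (b j) = 0) ∧ (∀ i, i ≠ Fin.last n → B (b i) (b i) = 1) ∧ (B (b (Fin.last n)) (b (Fin.last n)) = 1 ∨ B (b (Fin.last n)) (b (Fin.last n)) = α) := by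
  exact aux h2 α hα n B hS hB hn

end Cfsg.Agent.S0756
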