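import Cfsg.Statements.S2390
import Cfsg.Agent.Known.UnitarySemisimple

set_option autoImplicit false
open Cfsg

namespace Cfsg.Agent.S2390

open Cfsg.Lib Cfsg.Lib.Classical Cfsg.Lib.UnitaryConj

/-- In the special unitary group `SU_n(q)` (inside `SL_n` over the field with `q²` elements), `q` a power of the prime `p`, two elements of order prime to `p` with the same characteristic polynomial are conjugate in `SU_n(q)`. -/
theorem result {F : Type*} [Field F] [Fintype F] {q : ℕ} (hF : Fintype.card F = q ^ 2) (p : ℕ) [Fact p.Prime] [CharP F p] (n : ℕ)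
    (g h : ↥(Cfsg.SU n F q)) (hg : (orderOf g).Coprime p) (hh : (orderOf h).Coprime p)
    (hc : ((g : Matrix.SpecialLinearGroup (Fin n) F) : Matrix (Fin n) (Fin n) F).charpoly =
      ((h : Matrix.SpecialLinearGroup (Fin n) F) : Matrix (Fin n) (Fin n) F).charpoly) : IsConj g h := by
  classical
  have hinv := UnitaryConj.invol hF
  have hne := UnitaryConj.exists_moved hF
  rcases Nat.eq_zero_or_pos n with rfl | hn
  · have : g = h := Subtype.ext (Subtype.ext (Subsingleton.elim _ _))
    rw [this]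
  have hss : ∀ s : Cfsg.SU n F q, (orderOf s).Coprime p →
      UnitarySemisimple.SS p ((s : Matrix.SpecialLinearGroup (Fin n) F) : Matrix (Fin n) (Fin n) F) := fun s hs =>
    ⟨orderOf s, hs, by
      have := congrArg (fun t : Cfsg.SU n F q => ((t : Matrix.SpecialLinearGroup (Fin n) F) : Matrix (Fin n) (Fin n) F))
        (pow_orderOf_eq_one s)
      simpa only [SubmonoidClass.coe_pow, Matrix.SpecialLinearGroup.coe_pow, OneMemClass.coe_one,
        Matrix.SpecialLinearGroup.coe_one] using this⟩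
  set G : Matrix (Fin n) (Fin n) F := ((g : Matrix.SpecialLinearGroup (Fin n) F) : Matrix (Fin n) (Fin n) F) with hG
  set H : Matrix (Fin n) (Fin n) F := ((h : Matrix.SpecialLinearGroup (Fin n) F) : Matrix (Fin n) (Fin n) F) with hH
  have hGu := (mem_SU hF _).1 g.2
  have hHu := (mem_SU hF _).1 h.2
  obtain ⟨T, hT, hTG⟩ := UnitarySemisimple.similar (hss g hg) (hss h hh) hc
  obtain ⟨R, hR, hRG⟩ := UnitaryConj.exists_conj hinv hne G H T hGu hHu hT hTG
  have hRd : powConj hF R.det * R.det = 1 := by rw [← det_cst, ← Matrix.det_mul, hR, Matrix.det_one]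
  have hRd0 : R.det ≠ 0 := fun e => by rw [e, mul_zero] at hRd; exact zero_ne_one hRd
  obtain ⟨y, hy, hyG, hyd⟩ := UnitarySemisimple.exists_det hinv hne hn (hss g hg) hGu R.det⁻¹
    (by rw [map_inv₀, ← mul_inv, hRd, inv_one])
  have hdet : (R * y).det = 1 := by rw [Matrix.det_mul, hyd, mul_inv_cancel₀ hRd0]
  have hmem : cst (powConj hF) (R * y) * (R * y) = 1 := by
    rw [cst_mul, mul_assoc, ← mul_assoc (cst (powConj hF) R), hR, one_mul, hy]
  refine isConj_iff.2 ⟨⟨⟨R * y, hdet⟩, (mem_SU hF _).2 hmem⟩, mul_inv_eq_iff_eq_mul.2 (Subtype.ext (Subtype.ext ?_))⟩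
  show R * y * G = H * (R * y)
  rw [mul_assoc, hyG, ← mul_assoc, hRG, mul_assoc]

end Cfsg.Agent.S2390
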