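import Cfsg.Statements.S5664
import Cfsg.Agent.Classical.ExtFieldSp.Field
import Cfsg.Agent.Classical.MaxBridge

set_option autoImplicit false
open Cfsg

namespace Cfsg.Agent.S5664

open Matrix Module Cfsg.Lib.Classical Cfsg.Lib.Classical.ExtFieldSp

theorem maximal_of_field {F : Type*} [Field F] [Fintype F] {m : ℕ} (hm : 3 ≤ m)
    {K : Subalgebra F (Matrix (Fin m ⊕ Fin m) (Fin m ⊕ Fin m) F)} {L : Type*} [Field L] [Algebra F L]
    [Module L (Fin m ⊕ Fin m → F)] (hfd : FiniteDimensional F L) (hT : IsScalarTower F L (Fin m ⊕ Fin m → F))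
    (ι : L → Matrix (Fin m ⊕ Fin m) (Fin m ⊕ Fin m) F)
    (hι : ∀ (a : L) (z : Fin m ⊕ Fin m → F), a • z = ι a *ᵥ z) (hmemι : ∀ a, ι a ∈ K)
    (hsurj : ∀ k ∈ K, ∃ a, ι a = k) (hr : (finrank F L).Prime)
    (hsa : Cfsg.Geo.IsSelfAdjointFor (Cfsg.sympForm m F) K)
    (halt : ∀ k ∈ K, ∀ v : (Fin m ⊕ Fin m → F), Cfsg.sympForm m F (Matrix.mulVec k v) v = 0) :
    Cfsg.Geo.IsMaximalIn (Cfsg.spGL m F) (Cfsg.Geo.subalgebraNormalizer K ⊓ Cfsg.spGL m F) := by
  classical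
  have hf := sympBilin_isAlt m F
  have hfn := sympBilin_nondegenerate m F
  have hV : 6 ≤ finrank F (Fin m ⊕ Fin m → F) := by
    rw [finrank_pi, Fintype.card_sum, Fintype.card_fin]
    omega
  obtain ⟨G, hG, hGn, htr⟩ := exists_trace_form (L := L) hfn
    (fun c u v => by
      rw [hι, hι, sympBilin_eq_sympForm, sympBilin_eq_sympForm]
      exact hsa _ (hmemι c) u v)
    (fun c v => by
      rw [hι, sympBilin_eq_sympForm]
      exact halt _ (hmemι c) v)
  refine isMaximalIn_of_isCoatom_comap (sympToGL m F) (range_sympToGL m) ?_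
  have hconj : ∀ g : BilinIsom (sympBilin m F), Semi L (g : (Fin m ⊕ Fin m → F) ≃ₗ[F] _) → ∀ k ∈ K,
      ((sympToGL m F g : GL (Fin m ⊕ Fin m) F) : Matrix (Fin m ⊕ Fin m) (Fin m ⊕ Fin m) F) * k *
        (((sympToGL m F g)⁻¹ : GL (Fin m ⊕ Fin m) F) : Matrix (Fin m ⊕ Fin m) (Fin m ⊕ Fin m) F) ∈ K := by
    intro g hg k hk
    obtain ⟨a, rfl⟩ := hsurj k hk
    obtain ⟨b, hb⟩ := hg a
    have h : ((sympToGL m F g : GL (Fin m ⊕ Fin m) F) : Matrix (Fin m ⊕ Fin m) (Fin m ⊕ Fin m) F) * ι a =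
        ι b * (sympToGL m F g : GL (Fin m ⊕ Fin m) F) := by
      refine Matrix.toLin'.injective (LinearMap.ext fun z => ?_)
      have := hb z
      rw [hι, hι, ← sympToGL_mulVec, ← sympToGL_mulVec g z, mulVec_mulVec, mulVec_mulVec] at this
      simpa using this
    rw [h, mul_assoc, ← Units.val_mul, mul_inv_cancel, Units.val_one, mul_one]
    exact hmemι b
  have hsemi : ∀ g : BilinIsom (sympBilin m F), g ∈ (Cfsg.Geo.subalgebraNormalizer K).comap (sympToGL m F) ↔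
      Semi L (g : (Fin m ⊕ Fin m → F) ≃ₗ[F] _) := by
    intro g
    constructor
    · intro hg a
      obtain ⟨b, hb⟩ := hsurj _ ((hg (ι a)).mp (hmemι a))
      refine ⟨b, fun z => ?_⟩
      rw [hι, hι, hb, ← sympToGL_mulVec, ← sympToGL_mulVec g z, mulVec_mulVec, mulVec_mulVec,
        mul_assoc _ _ ((sympToGL m F g : GL (Fin m ⊕ Fin m) F) : Matrix (Fin m ⊕ Fin m) (Fin m ⊕ Fin m) F),
        ← Units.val_mul, inv_mul_cancel, Units.val_one, mul_one]
    · intro hg k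
      refine ⟨hconj g hg k, fun h => ?_⟩
      have h' := hconj g⁻¹ (ExtField.Semi.inv hg) _ h
      rw [map_inv, inv_inv] at h'
      simpa [← mul_assoc, mul_assoc _ _ ((sympToGL m F g : GL (Fin m ⊕ Fin m) F) :
        Matrix (Fin m ⊕ Fin m) (Fin m ⊕ Fin m) F), ← Units.val_mul] using h'
  refine isCoatom_of_forall ?_ fun H hH g hg hgn => ?_
  · obtain ⟨g, hg⟩ := exists_isom_not_semi hr.two_le hG hGn hf htr (by omega)
    exact fun e => hg ((hsemi g).mp (e ▸ Subgroup.mem_top g))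
  · exact Over.eq_top (G := G) ⟨hr, hG, hGn, hf, hfn, htr, fun x hx => hH ((hsemi x).mpr hx),
      ⟨g, hg, fun h => hgn ((hsemi g).mpr h)⟩, hV⟩

/-- For a finite field F and m ≥ 7, let K be a subfield of the algebra of 2m × 2m matrices over F containing the scalars, of prime degree r over F, whose elements k are self-adjoint for the standard alternating form f on F^(2m) (f(k u, v) = f(u, k v)) and satisfy f(k v, v) = 0 for all v. Then the elements of Sp_2m(F) normalising K form a maximal subgroup of Sp_2m(F). -/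
theorem result {F : Type*} [Field F] [Fintype F] (m : ℕ) (hm : 7 ≤ m) (r : ℕ) (hr : r.Prime) (K : Subalgebra F (Matrix (Fin m ⊕ Fin m) (Fin m ⊕ Fin m) F)) (hK : Cfsg.Geo.IsFieldSubalgebra r K) (hsa : Cfsg.Geo.IsSelfAdjointFor (Cfsg.sympForm m F) K) (halt : ∀ k ∈ K, ∀ v : (Fin m ⊕ Fin m → F), Cfsg.sympForm m F (Matrix.mulVec k v) v = 0) : Cfsg.Geo.IsMaximalIn (Cfsg.spGL m F) (Cfsg.Geo.subalgebraNormalizer K ⊓ Cfsg.spGL m F) := by
  classical
  have hfield : IsField K :=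
    ⟨⟨0, 1, fun h => by
      have h' := congrFun (congrFun (congrArg Subtype.val h) (Sum.inl ⟨0, by omega⟩)) (Sum.inl ⟨0, by omega⟩)
      simp at h'⟩, fun a b => Subtype.ext (hK.comm a a.2 b b.2), fun {a} ha => by
      obtain ⟨b, hb, hab⟩ := hK.inv a a.2 (fun h => ha (Subtype.ext h))
      exact ⟨⟨b, hb⟩, Subtype.ext hab⟩⟩
  let : Field K := hfield.toField
  let : Module K (Fin m ⊕ Fin m → F) :=
    Module.compHom (Fin m ⊕ Fin m → F) ((Matrix.toLinAlgEquiv'.toAlgHom.comp K.val).toRingHom)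
  have hsmul : ∀ (k : K) (z : Fin m ⊕ Fin m → F),
      k • z = (k : Matrix (Fin m ⊕ Fin m) (Fin m ⊕ Fin m) F) *ᵥ z := fun k z => rfl
  have hT : IsScalarTower F K (Fin m ⊕ Fin m → F) :=
    ⟨fun l k z => by rw [hsmul, hsmul, SetLike.val_smul, smul_mulVec]⟩
  have hrk : finrank F K = r := hK.finrank_eq
  have hfd : FiniteDimensional F K := .of_finrank_pos (by rw [hrk]; exact hr.pos)
  exact maximal_of_field (L := K) (by omega) hfd hT (fun k => (k : Matrix (Fin m ⊕ Fin m) (Fin m ⊕ Fin m) F)) hsmul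
    (fun k => k.2) (fun k hk => ⟨⟨k, hk⟩, rfl⟩) (hrk ▸ hr) hsa halt

end Cfsg.Agent.S5664
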