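import Cfsg.Statements.S0814
import Cfsg.Agent.Classical.AutOrders.PSpAut
import Cfsg.Agent.Classical.AutOrders.SpFour
import Cfsg.Agent.Classical.AutOrders.RangeB2
import Cfsg.Agent.Known.ChevAut.OutCard
import Cfsg.Agent.Classical.Misc.AutCard

set_option autoImplicit false
set_option linter.style.haveILetI false
open Cfsg

namespace Cfsg.Agent.S0814

open Cfsg.Lie Cfsg.Lib.Known.ChevAut Cfsg.Lib.Classical.AutOrders

/-- |Aut(PSp_2m(q))| = gcd(2, q−1) · f · |PSp_2m(q)| for q = p^f, m ≥ 2, (m, q) ≠ (2, 2), with an extra factor 2 exactly when m = 2 and p = 2. -/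
theorem result {F : Type*} [Field F] [Fintype F] (p f : ℕ) [Fact p.Prime] (hf : 1 ≤ f) (hF : Fintype.card F = p ^ f) (m : ℕ) (hm : 2 ≤ m) (h22 : m = 2 → 3 ≤ p ^ f) : Nat.card (MulAut (Cfsg.PSp m F)) = (if m = 2 ∧ p = 2 then 2 else 1) * Nat.gcd 2 (p ^ f - 1) * f * Nat.card (Cfsg.PSp m F) := by
  classical
  haveI : CharP F p := charP_of_card_eq_prime_pow hF
  by_cases h : m = 2 ∧ p = 2
  · obtain ⟨rfl, rfl⟩ := h
    rw [if_pos ⟨rfl, rfl⟩]
    have hq : 3 ≤ Fintype.card F := hF ▸ h22 rfl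
    have hgcd : Nat.gcd 2 (2 ^ f - 1) = 1 := by
      have h2 : 2 ∣ 2 ^ f := dvd_pow_self 2 (by omega)
      have h3 : 1 ≤ 2 ^ f := Nat.one_le_two_pow
      exact Nat.prime_two.coprime_iff_not_dvd.mpr (by omega)
    have hex : ∃ a : F, a ≠ 0 ∧ a ≠ 1 := by
      by_contra hc
      push Not at hc
      have hle : Fintype.card F ≤ ({0, 1} : Finset F).card :=
        Finset.card_le_card fun a _ => by
          by_cases h0 : a = 0
          · simp [h0]
          · simp [hc a h0]
      have h2 := Finset.card_le_two (a := (0 : F)) (b := 1)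
      omega
    obtain ⟨e⟩ := chevB2_iso_PSp (F := F) hq
    obtain ⟨C, L, T, hT⟩ := tabs_of_mem (D := chevB2) (by simp)
    haveI := (Cfsg.Agent.S1056.result hex).1
    have hS := Cfsg.Agent.S1060.result (F := F) hF
    rw [hgcd] at hS
    haveI : Finite ↥(chevB2.group F) := Finite.of_equiv _ e.symm.toEquiv
    have hout := card_out (F := F) 2 f hF hT (by decide)
    rw [range_B2_two hT, index_torusVal b2Coker, hF, hgcd] at hout
    have hA := Cfsg.Lib.Classical.AutCard.card_mulAut (P := ↥(chevB2.group F)) (p := 2) (k := f * 4) (a := 1)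
      (b := ((2 ^ f) ^ 2 - 1) * ((2 ^ f) ^ 4 - 1)) Nat.prime_two (by omega) (Nat.coprime_one_right 2)
      (by rw [hS, ← pow_mul, mul_assoc])
    rw [← Nat.card_congr e.toEquiv, ← Nat.card_congr (MulAut.congr e).toEquiv, hA, hout, hgcd]
  · rw [if_neg h, one_mul]
    refine card_mulAut_PSp p f hF hm ?_
    by_cases h2 : (2 : F) = 0
    · have hp : p = 2 := by
        have hd : p ∣ 2 := (CharP.cast_eq_zero_iff F p 2).1 (by exact_mod_cast h2)
        exact (Nat.prime_dvd_prime_iff_eq Fact.out Nat.prime_two).1 hd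
      subst hp
      have hm3 : 3 ≤ m := by
        rcases Nat.lt_or_ge m 3 with h3 | h3
        · exact absurd ⟨by omega, rfl⟩ h
        · exact h3
      exact fun α => Cfsg.Lib.Sympl.exists_decomp_of_R hm (fun β _ hv => Cfsg.Lib.Sympl.R_map_aut_two hm3 β hv) α
    · exact fun α => Cfsg.Lib.Sympl.exists_decomp_aut p hm h2 α

end Cfsg.Agent.S0814
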