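import Cfsg.Statements.S1527
import Cfsg.Agent.Chars.Basic

set_option autoImplicit false
open Cfsg

namespace Cfsg.Agent.S1527

/-- Let G be a finite group and H i (i in a finite index type) subgroups of pairwise coprime orders, each of whose underlying sets is a TI-subset of G, such that every non-identity element of G is conjugate to an element of some H i. Then Nat.card G − 1 = Σ_i [G : N_G(H i)] · (Nat.card (H i) − 1). -/
theorem result {G : Type*} [Group G] [Finite G] {ι : Type*} [Fintype ι] (H : ι → Subgroup G) (hcop : ∀ i j, i ≠ j → Nat.Coprime (Nat.card (H i)) (Nat.card (H j))) (hTI : ∀ i, Cfsg.IsTISubset (H i : Set G)) (hcover : ∀ g : G, g ≠ 1 → ∃ i, ∃ x : G, x * g * x⁻¹ ∈ H i) : Nat.card G - 1 = ∑ i, (Subgroup.normalizer (H i : Set G)).index * (Nat.card (H i) - 1) := by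
  classical
  have := Fintype.ofFinite G
  let N : ι → Subgroup G := fun i => Subgroup.normalizer (H i : Set G)
  let X : Type _ := Σ i, (G ⧸ N i) × {h : H i // h ≠ 1}
  let f : X → {g : G // g ≠ 1} := fun t =>
    ⟨t.2.1.out * ((t.2.2 : H t.1) : G) * t.2.1.out⁻¹, fun h =>
      t.2.2.2 (Subtype.ext (conj_eq_one_iff.mp h))⟩
  have hpow : ∀ i (h : H i), (h : G) ^ Nat.card (H i) = 1 := fun i h => by
    rw [← SubmonoidClass.coe_pow, pow_card_eq_one', OneMemClass.coe_one]
  have hinj : Function.Injective f := by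
    rintro ⟨i, q, h, hh⟩ ⟨j, q', h', hh'⟩ he
    have he' : q.out * (h : G) * q.out⁻¹ = q'.out * (h' : G) * q'.out⁻¹ := congrArg Subtype.val he
    have hc : (q'.out⁻¹ * q.out) * (h : G) * (q'.out⁻¹ * q.out)⁻¹ = h' := by
      calc _ = q'.out⁻¹ * (q.out * (h : G) * q.out⁻¹) * q'.out := by group
        _ = _ := by rw [he']; group
    have hij : i = j := by
      by_contra hij
      have h1 : (h' : G) ^ Nat.card (H i) = 1 := by rw [← hc, conj_pow, hpow i h, mul_one, mul_inv_cancel]
      have h2 := (pow_gcd_eq_one (m := Nat.card (H i)) (n := Nat.card (H j))).mpr ⟨h1, hpow j h'⟩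
      rw [show Nat.gcd (Nat.card (H i)) (Nat.card (H j)) = 1 from hcop i j hij, pow_one] at h2
      exact hh' (Subtype.ext h2)
    subst hij
    have hN : q'.out⁻¹ * q.out ∈ N i := by
      by_contra hn
      exact hh (Subtype.ext (hTI i _ hn h h.2 (by rw [hc]; exact h'.2)))
    have hq : q = q' := by
      rw [← QuotientGroup.out_eq' q, ← QuotientGroup.out_eq' q']
      exact (QuotientGroup.eq.mpr hN).symm
    subst hq
    have hhh : h = h' := Subtype.ext (by simpa using hc)
    subst hhh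
    rfl
  have hsurj : Function.Surjective f := by
    rintro ⟨g, hg⟩
    obtain ⟨i, x, hx⟩ := hcover g hg
    obtain ⟨n, hn⟩ := QuotientGroup.mk_out_eq_mul (N i) x⁻¹
    have hm : (n : G)⁻¹ * (x * g * x⁻¹) * n ∈ H i :=
      (Subgroup.mem_normalizer_iff''.mp n.2 _).mp hx
    refine ⟨⟨i, (QuotientGroup.mk x⁻¹ : G ⧸ N i), ⟨⟨_, hm⟩, fun h => hg ?_⟩⟩, Subtype.ext ?_⟩
    · have h1 : (n : G)⁻¹ * (x * g * x⁻¹) * n = 1 := congrArg Subtype.val h
      calc g = x⁻¹ * n * ((n : G)⁻¹ * (x * g * x⁻¹) * n) * (n : G)⁻¹ * x := by group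
        _ = 1 := by rw [h1]; group
    · show (QuotientGroup.mk x⁻¹ : G ⧸ N i).out * ((n : G)⁻¹ * (x * g * x⁻¹) * n) * (QuotientGroup.mk x⁻¹ : G ⧸ N i).out⁻¹ = g
      rw [hn]; group
  have hcard : ∀ (α : Type _) [Finite α] (a : α), Nat.card {x : α // x ≠ a} = Nat.card α - 1 := fun α _ a => by
    have := Fintype.ofFinite α
    rw [Nat.card_eq_fintype_card, Nat.card_eq_fintype_card, Fintype.card_subtype_compl,
      Fintype.card_subtype_eq]
  rw [← hcard G 1, ← Nat.card_congr (Equiv.ofBijective f ⟨hinj, hsurj⟩), Nat.card_sigma]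
  refine Finset.sum_congr rfl fun i _ => ?_
  rw [Nat.card_prod, hcard (H i) 1]
  rfl

end Cfsg.Agent.S1527
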