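import Cfsg.Statements.S0721
import Cfsg.Agent.Classical.Misc.CharSimple

set_option autoImplicit false
open Cfsg

namespace Cfsg.Agent.S0721

/-- A minimal normal subgroup of a finite group is isomorphic to a direct power `T ^ m` of a simple group `T` (possibly of prime order). -/
theorem result {H : Type*} [Group H] [Finite H] (N : Subgroup H) [N.Normal] (hN : N ≠ ⊥) (hmin : ∀ M : Subgroup H, M.Normal → M ≤ N → M = ⊥ ∨ M = N) : ∃ (T : Type) (_ : Group T) (m : ℕ), IsSimpleGroup T ∧ 0 < m ∧ Nonempty (N ≃* (Fin m → T)) := by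
  have : Nontrivial N := N.nontrivial_iff_ne_bot.2 hN
  have hcs : ∀ K : Subgroup N, K.Characteristic → K = ⊥ ∨ K = ⊤ := fun K hK => by
    rcases hmin (K.map N.subtype) inferInstance (Subgroup.map_subtype_le K) with h | h
    · exact Or.inl ((Subgroup.map_eq_bot_iff_of_injective K N.subtype_injective).1 h)
    · refine Or.inr (Subgroup.map_injective N.subtype_injective ?_)
      rw [h, ← MonoidHom.range_eq_map, Subgroup.range_subtype]
  obtain ⟨S, n, hn, hs, ⟨e⟩⟩ := Cfsg.Lib.Classical.CharSimple.exists_power hcs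
  have : Small.{0} S := inferInstance
  let fe : S ≃* Shrink.{0} S := Shrink.mulEquiv.symm
  have : IsSimpleGroup (Shrink.{0} S) := fe.isSimpleGroup_congr.mp hs
  exact ⟨Shrink.{0} S, inferInstance, n, inferInstance, hn, ⟨e.trans (MulEquiv.piCongrRight fun _ => fe)⟩⟩

end Cfsg.Agent.S0721
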