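import Cfsg.Statements.S0722

set_option autoImplicit false
open Cfsg

namespace Cfsg.Agent.S0722

/-- In a primitive group `H`, with `N` a minimal normal subgroup and `K` a point stabiliser, `K ⊓ N` is maximal among proper `K`-invariant subgroups of `N`. -/
theorem result {α : Type*} [Finite α] (H : Subgroup (Equiv.Perm α)) [MulAction.IsPreprimitive H α] (N : Subgroup H) [N.Normal] (hN : N ≠ ⊥) (hmin : ∀ M : Subgroup H, M.Normal → M ≤ N → M = ⊥ ∨ M = N) (a : α) (X : Subgroup H) (hX : X ≤ N) (hKX : MulAction.stabilizer H a ⊓ N ≤ X) (hinv : MulAction.stabilizer H a ≤ Subgroup.normalizer (X : Set H)) : X = MulAction.stabilizer H a ⊓ N ∨ X = N := by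
  have : Nontrivial α := by
    by_contra hc
    rw [not_nontrivial_iff_subsingleton] at hc
    exact hN ((Subgroup.eq_bot_iff_forall _).2 fun g _ => Subtype.ext (Equiv.ext fun x => Subsingleton.elim _ _))
  have hco := (MulAction.isCoatom_stabilizer_iff_preprimitive H a).2 ‹_›
  rcases hco.le_iff.1 (le_sup_left : MulAction.stabilizer H a ≤ MulAction.stabilizer H a ⊔ X) with h | h
  · refine Or.inr (le_antisymm hX fun n hn => ?_)
    obtain ⟨k, hk, x, hx, rfl⟩ : ∃ k ∈ MulAction.stabilizer H a, ∃ x ∈ X, k * x = n := by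
      have hn' : n ∈ ((MulAction.stabilizer H a ⊔ X : Subgroup H) : Set H) := by rw [h]; trivial
      rw [Subgroup.coe_mul_of_left_le_normalizer_right _ _ hinv] at hn'
      exact Set.mem_mul.1 hn'
    refine X.mul_mem (hKX ⟨hk, ?_⟩) hx
    simpa using N.mul_mem hn (N.inv_mem (hX hx))
  · exact Or.inl (le_antisymm (le_inf ((le_sup_right : X ≤ _).trans h.le) hX) hKX)

end Cfsg.Agent.S0722
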