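import Cfsg.Statements.S0723
import Cfsg.Agent.S0721
import Cfsg.Agent.S0722
import Cfsg.Agent.Subdirect.SimplePower

set_option autoImplicit false
open Cfsg

namespace Cfsg.Agent.S0723

/-- The core of the O'Nan–Scott Theorem. Let `H` be a primitive permutation group on a finite set whose unique minimal normal subgroup `N` is non-abelian, and `K` a point stabiliser. Then there are a non-abelian simple group `T` and an isomorphism `N ≃* T^m` (`m ≥ 1`) under which `K ⊓ N` becomes either a product `∏ K_i` of proper subgroups `K_i < T`, or the set of functions constant on each block of a partition of the index set into blocks of one common size `k ≥ 2`. -/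
theorem result {α : Type*} [Finite α] (H : Subgroup (Equiv.Perm α)) [MulAction.IsPreprimitive H α] (N : Subgroup H) [N.Normal] (hN : N ≠ ⊥) (hmin : ∀ M : Subgroup H, M.Normal → M ≤ N → M = ⊥ ∨ M = N) (huniq : ∀ L : Subgroup H, L.Normal → L ≠ ⊥ → (∀ M : Subgroup H, M.Normal → M ≤ L → M = ⊥ ∨ M = L) → L = N) (hnab : ¬ IsMulCommutative N) (a : α) : ∃ (T : Type) (_ : Group T) (m : ℕ) (e : N ≃* (Fin m → T)), IsSimpleGroup T ∧ ¬ IsMulCommutative T ∧ 0 < m ∧ ((∃ K : Fin m → Subgroup T, (∀ i, K i ≠ ⊤) ∧ ∀ n : N, (n : H) ∈ MulAction.stabilizer H a ↔ ∀ i, e n i ∈ K i) ∨ (∃ (k : ℕ) (c : Fin m → Fin m), 2 ≤ k ∧ (∀ j : Fin m, Nat.card {i : Fin m // c i = j} = k ∨ Nat.card {i : Fin m // c i = j} = 0) ∧ ∀ n : N, (n : H) ∈ MulAction.stabilizer H a ↔ ∀ i j : Fin m, c i = c j → e n i = e n j)) := by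
  classical
  obtain ⟨T, iT, m, hsimp, hm, ⟨e⟩⟩ := Cfsg.Agent.S0721.result N hN hmin
  haveI : Finite T := Finite.of_injective (fun t : T => e.symm (Pi.mulSingle (⟨0, hm⟩ : Fin m) t))
    (e.symm.injective.comp (Pi.mulSingle_injective (M := fun _ : Fin m => T) _))
  have hT : ∃ x y : T, x * y ≠ y * x := by
    by_contra h
    push Not at h
    exact hnab ⟨⟨fun p q => e.injective (by rw [map_mul, map_mul]; funext i; exact h _ _)⟩⟩
  have hnT : ¬ IsMulCommutative T := fun h => hT.elim fun x hx => hx.elim fun y hy => hy (h.is_comm.comm x y)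
  haveI : Nontrivial T := hT.elim fun x hx => hx.elim fun y hy => ⟨⟨x * y, y * x, hy⟩⟩
  set K := MulAction.stabilizer H a with hK
  -- `N` is not inside the point stabiliser
  have hNK : ¬ N ≤ K := by
    intro hle
    refine hN ((Subgroup.eq_bot_iff_forall _).2 fun g hg => Subtype.ext (Equiv.ext fun x => ?_))
    obtain ⟨h, rfl⟩ := MulAction.exists_smul_eq H a x
    have h1 := hle ((inferInstance : N.Normal).conj_mem g hg h⁻¹)
    rw [inv_inv, hK, MulAction.mem_stabilizer_iff, mul_smul, mul_smul, inv_smul_eq_iff] at h1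
    exact h1
  haveI : Nontrivial α := by
    by_contra hc
    rw [not_nontrivial_iff_subsingleton] at hc
    exact hNK fun g _ => MulAction.mem_stabilizer_iff.2 (Subsingleton.elim _ _)
  have htop : ∀ h : H, ∃ k ∈ K, ∃ n ∈ N, k * n = h := by
    intro h
    have h1 : K ⊔ N = ⊤ := (((MulAction.isCoatom_stabilizer_iff_preprimitive H a).2 ‹_›).le_iff.1
      (le_sup_left : K ≤ K ⊔ N)).resolve_right fun h => hNK (le_sup_right.trans h.le)
    have h2 : h ∈ ((K ⊔ N : Subgroup H) : Set H) := by rw [h1]; trivial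
    rw [Subgroup.mul_normal K N] at h2
    exact Set.mem_mul.1 h2
  let αh : H → ((Fin m → T) ≃* (Fin m → T)) := fun h => (e.symm.trans (MulAut.conjNormal h)).trans e
  have hα : ∀ h x, ((e.symm (αh h x) : N) : H) = h * (e.symm x : N) * h⁻¹ := fun h x => by
    simp only [αh, MulEquiv.trans_apply, MulEquiv.symm_apply_apply, MulAut.conjNormal_apply]
  choose σ hσ using fun h => Cfsg.Lib.SimplePower.exists_perm hT (αh h)
  have htrans : ∀ i j : Fin m, ∃ k ∈ K, σ k i = j := by
    intro i j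
    obtain ⟨t, ht⟩ := exists_ne (1 : T)
    set u : N := e.symm (Pi.mulSingle i t)
    by_contra hcon
    push Not at hcon
    let Z : Subgroup H := Subgroup.normalClosure {(u : H)}
    have hZN : Z ≤ N := Subgroup.normalClosure_le_normal (Set.singleton_subset_iff.2 u.2)
    have hZ1 : Z ≠ ⊥ := fun h => by
      have h1 : (u : H) ∈ Z := Subgroup.subset_normalClosure (Set.mem_singleton _)
      rw [h, Subgroup.mem_bot] at h1
      have h2 := congrArg e (show u = 1 from Subtype.ext h1)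
      rw [MulEquiv.apply_symm_apply, map_one] at h2
      exact ht (by simpa using congrFun h2 i)
    have hZ := (hmin Z Subgroup.normalClosure_normal hZN).resolve_left hZ1
    let W : Subgroup H := (((Pi.evalMonoidHom (fun _ : Fin m => T) j).comp e.toMonoidHom).ker).map N.subtype
    have hW : Z ≤ W := by
      refine (Subgroup.closure_le _).2 fun z hz => ?_
      obtain ⟨_, hu, hz⟩ := Group.mem_conjugatesOfSet_iff.1 hz
      rw [Set.mem_singleton_iff.1 hu] at hz
      obtain ⟨h, rfl⟩ := isConj_iff.1 hz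
      obtain ⟨k, hk, n, hn, rfl⟩ := htop h
      refine ⟨⟨k * n * (u : H) * (k * n)⁻¹, (inferInstance : N.Normal).conj_mem _ u.2 _⟩, ?_, rfl⟩
      show e _ j = 1
      have h1 : e ⟨k * n * (u : H) * (k * n)⁻¹, (inferInstance : N.Normal).conj_mem _ u.2 _⟩ =
          αh k (e ⟨n, hn⟩ * Pi.mulSingle i t * (e ⟨n, hn⟩)⁻¹) := by
        apply e.symm.injective
        refine Subtype.ext ?_
        rw [hα, MulEquiv.symm_apply_apply, map_mul, map_mul, map_inv, MulEquiv.symm_apply_apply]
        show _ = k * (n * (u : H) * n⁻¹) * k⁻¹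
        group
      rw [h1]
      refine (Cfsg.Lib.SimplePower.mem_factor hT).1 ((hσ k i).2 _ ?_) j fun hj => hcon k hk hj.symm
      exact (Cfsg.Lib.SimplePower.factor_normal hT i).conj_mem _ ⟨t, rfl⟩ _
    obtain ⟨w, hw, hwe⟩ := hW (hZ.ge (e.symm (Pi.mulSingle j t)).2)
    have h2 : w = e.symm (Pi.mulSingle j t) := Subtype.ext hwe
    rw [h2] at hw
    have h3 : e (e.symm (Pi.mulSingle j t)) j = 1 := hw
    rw [MulEquiv.apply_symm_apply, Pi.mulSingle_eq_same] at h3
    exact ht h3
  -- the point stabiliser in the power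
  let M : Subgroup (Fin m → T) := (K.subgroupOf N).comap e.symm.toMonoidHom
  have hM : ∀ x, x ∈ M ↔ ((e.symm x : N) : H) ∈ K := fun _ => Iff.rfl
  have hαM : ∀ k ∈ K, ∀ x ∈ M, αh k x ∈ M := fun k hk x hx => by
    rw [hM, hα]
    exact mul_mem (mul_mem hk ((hM x).1 hx)) (inv_mem hk)
  have hαM' : ∀ k ∈ K, ∀ y ∈ M, ∃ x ∈ M, αh k x = y := fun k hk y hy => by
    refine ⟨(αh k).symm y, ?_, MulEquiv.apply_symm_apply _ _⟩
    have h1 := hα k ((αh k).symm y)
    rw [MulEquiv.apply_symm_apply] at h1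
    rw [hM]
    have h2 := mul_mem (mul_mem (inv_mem hk) ((hM y).1 hy)) hk
    rw [h1] at h2
    simpa [mul_assoc] using h2
  refine ⟨T, iT, m, ?_⟩
  by_cases hsur : ∀ i, ∀ t : T, ∃ x ∈ M, x i = t
  · -- diagonal case
    obtain ⟨c, f, hc, hf⟩ := Cfsg.Lib.SimplePower.subdirect hT hsur
    refine ⟨e.trans (MulEquiv.piCongrRight f), hsimp, hnT, hm, Or.inr ?_⟩
    let i₀ : Fin m := ⟨0, hm⟩
    have hsize : ∀ i, Nat.card {l : Fin m // c l = c i} = Nat.card {l : Fin m // c l = c i₀} := by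
      intro i
      obtain ⟨k, hk, rfl⟩ := htrans i₀ i
      refine (Nat.card_congr ((σ k).subtypeEquiv fun l => ?_)).symm
      rw [hc, hc]
      constructor
      · intro h y hy
        obtain ⟨x, hx, rfl⟩ := hαM' k hk y hy
        rw [(hσ k l).1, (hσ k i₀).1]
        exact h x hx
      · intro h x hx
        rw [← (hσ k l).1, ← (hσ k i₀).1]
        exact h _ (hαM k hk x hx)
    refine ⟨Nat.card {l : Fin m // c l = c i₀}, c, ?_, fun j => ?_, fun n => ?_⟩
    · by_contra hlt
      refine hNK fun n hn => ?_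
      have hinj : Function.Injective c := fun p q h => by
        haveI : Nonempty {l : Fin m // c l = c p} := ⟨⟨p, rfl⟩⟩
        have h1 : Nat.card {l : Fin m // c l = c p} ≤ 1 := by rw [hsize p]; omega
        haveI := Finite.card_le_one_iff_subsingleton.1 h1
        exact congrArg Subtype.val (Subsingleton.elim (⟨p, rfl⟩ : {l : Fin m // c l = c p}) ⟨q, h.symm⟩)
      have h1 : e ⟨n, hn⟩ ∈ M := (hf _).2 fun p q h => by rw [hinj h]
      rw [hM, MulEquiv.symm_apply_apply] at h1
      exact h1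
    · by_cases hj : ∃ i, c i = j
      · obtain ⟨i, rfl⟩ := hj
        exact Or.inl (hsize i)
      · push Not at hj
        haveI : IsEmpty {l : Fin m // c l = j} := ⟨fun l => hj l.1 l.2⟩
        exact Or.inr Nat.card_of_isEmpty
    · have h := (hM (e n)).symm.trans (hf (e n))
      rw [MulEquiv.symm_apply_apply] at h
      exact h
  · -- product case
    let Kf : Fin m → Subgroup T := fun i => M.map (Pi.evalMonoidHom (fun _ : Fin m => T) i)
    have hKf : ∀ i, Kf i ≠ ⊤ := by
      push Not at hsur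
      obtain ⟨j, t, hjt⟩ := hsur
      intro i hi
      obtain ⟨k, hk, rfl⟩ := htrans i j
      let Xj : Subgroup T := Kf (σ k i)
      have hne : Xj ≠ ⊤ := fun h => by
        obtain ⟨x, hx, he⟩ := (h ▸ Subgroup.mem_top t : t ∈ Xj)
        exact hjt x hx he
      have hsec : ∀ s : T, ∃ x ∈ M, x i = s := fun s => (hi ▸ Subgroup.mem_top s : s ∈ Kf i)
      choose x hxM hxs using hsec
      let g : T → Xj := fun s => ⟨αh k (x s) (σ k i), αh k (x s), hαM k hk _ (hxM s), rfl⟩
      have hg : Function.Injective g := fun s s' h => by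
        have h1 : αh k (x s * (x s')⁻¹) (σ k i) = 1 := by
          rw [map_mul, map_inv, Pi.mul_apply, Pi.inv_apply, show αh k (x s) (σ k i) = αh k (x s') (σ k i) from
            congrArg Subtype.val h, mul_inv_cancel]
        rw [(hσ k i).1, Pi.mul_apply, Pi.inv_apply, mul_inv_eq_one, hxs, hxs] at h1
        exact h1
      exact hne (Subgroup.eq_top_of_le_card _ (Nat.card_le_card_of_injective g hg))
    refine ⟨e, hsimp, hnT, hm, Or.inl ⟨Kf, hKf, ?_⟩⟩
    let P : Subgroup (Fin m → T) := Subgroup.pi Set.univ Kf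
    have hP : ∀ x, x ∈ P ↔ ∀ i, x i ∈ Kf i := fun x => by simp [P, Subgroup.mem_pi]
    let X : Subgroup H := (P.comap e.toMonoidHom).map N.subtype
    have hmemX : ∀ n : N, (n : H) ∈ X ↔ ∀ i, e n i ∈ Kf i := fun n => by
      rw [← hP]
      exact ⟨fun ⟨y, hy, he⟩ => (Subtype.ext he : y = n) ▸ hy, fun h => ⟨n, h, rfl⟩⟩
    have hXN : X ≤ N := Subgroup.map_subtype_le _
    have hKX : K ⊓ N ≤ X := fun g hg => (hmemX ⟨g, hg.2⟩).2 fun i => by
      refine ⟨e ⟨g, hg.2⟩, ?_, rfl⟩
      rw [SetLike.mem_coe, hM, MulEquiv.symm_apply_apply]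
      exact hg.1
    have hconj : ∀ k ∈ K, ∀ g ∈ X, k * g * k⁻¹ ∈ X := by
      rintro k hk _ ⟨n, hn, rfl⟩
      have hn' : ∀ i, e n i ∈ Kf i := (hmemX n).1 ⟨n, hn, rfl⟩
      have h1 : (⟨k * (n : H) * k⁻¹, (inferInstance : N.Normal).conj_mem _ n.2 _⟩ : N) = e.symm (αh k (e n)) := by
        refine Subtype.ext ?_
        rw [hα, MulEquiv.symm_apply_apply]
      show ((⟨k * (n : H) * k⁻¹, (inferInstance : N.Normal).conj_mem _ n.2 _⟩ : N) : H) ∈ X
      rw [hmemX, h1, MulEquiv.apply_symm_apply]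
      intro j
      obtain ⟨i, rfl⟩ := (σ k).surjective j
      obtain ⟨y, hy, he⟩ := hn' i
      have h2 : αh k (e n * y⁻¹) (σ k i) = 1 := ((hσ k i).1 _).2 (by
        rw [Pi.mul_apply, Pi.inv_apply, show y i = e n i from he, mul_inv_cancel])
      rw [map_mul, map_inv, Pi.mul_apply, Pi.inv_apply, mul_inv_eq_one] at h2
      exact ⟨αh k y, hαM k hk y hy, h2.symm⟩
    have hinv : K ≤ Subgroup.normalizer (X : Set H) := fun k hk => Subgroup.mem_normalizer_iff.2 fun g =>
      ⟨hconj k hk g, fun h => by simpa [mul_assoc] using hconj k⁻¹ (inv_mem hk) _ h⟩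
    rcases Cfsg.Agent.S0722.result H N hN hmin a X hXN hKX hinv with h | h
    · intro n
      rw [← hmemX, h, Subgroup.mem_inf]
      exact ⟨fun hn => ⟨hn, n.2⟩, fun hn => hn.1⟩
    · exfalso
      refine hKf ⟨0, hm⟩ (eq_top_iff.2 fun t _ => ?_)
      have h1 := (hmemX (e.symm (Pi.mulSingle ⟨0, hm⟩ t))).1 (h.ge (SetLike.coe_mem _)) ⟨0, hm⟩
      rwa [MulEquiv.apply_symm_apply, Pi.mulSingle_eq_same] at h1

end Cfsg.Agent.S0723
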