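import Cfsg.Statements.S2821
import Cfsg.Agent.Components.Reduced.Sub
import Cfsg.Agent.Transfer.IndexPrimeTo

set_option autoImplicit false
open Cfsg

namespace Cfsg.Agent.S2821

/-- Let H be a finite group, p a prime, T a Sylow p-subgroup and L a subgroup of characteristic p containing T; let Y_L be the largest p-reduced normal subgroup of L (the join of the normal elementary abelian p-subgroups V of L with O_p(L/C_L(V)) = 1). Then T₀ := C_T(Y_L) is a Sylow p-subgroup of C_H(Y_L); moreover O_p(L) ≤ T₀ ≤ C_L(Y_L) and Ω₁(Z(T)) ≤ Z_L ≤ Y_L ≤ Ω₁(Z(O_p(L))), where Z_L is generated by the Ω₁(Z(S)) over the Sylow p-subgroups S of L. -/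
theorem result {H : Type*} [Group H] [Finite H] {p : ℕ} [Fact p.Prime] (T : Sylow p H) (L : Subgroup H) (hTL : (T : Subgroup H) ≤ L) (hL : Subgroup.centralizer (Cfsg.pCore p ↥L : Set ↥L) ≤ Cfsg.pCore p ↥L) (T₀ : Subgroup H) (hT₀ : T₀ = (T : Subgroup H) ⊓ Subgroup.centralizer (((Cfsg.largestPReducedOf p L) : Subgroup H) : Set H)) : (∃ P : Sylow p ↥(Subgroup.centralizer (((Cfsg.largestPReducedOf p L) : Subgroup H) : Set H)), (P : Subgroup ↥(Subgroup.centralizer (((Cfsg.largestPReducedOf p L) : Subgroup H) : Set H))) = T₀.subgroupOf (Subgroup.centralizer (((Cfsg.largestPReducedOf p L) : Subgroup H) : Set H))) ∧ (Cfsg.pCoreOf p L) ≤ T₀ ∧ T₀ ≤ L ⊓ Subgroup.centralizer (((Cfsg.largestPReducedOf p L) : Subgroup H) : Set H) ∧ (Cfsg.omegaOne p ((T : Subgroup H) ⊓ Subgroup.centralizer (((T : Subgroup H) : Subgroup H) : Set H))) ≤ Cfsg.sylowCenterClosure p L ∧ Cfsg.sylowCenterClosure p L ≤ (Cfsg.largestPReducedOf p L) ∧ (Cfsg.largestPReducedOf p L) ≤ (Cfsg.omegaOne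 p ((Cfsg.pCoreOf p L) ⊓ Subgroup.centralizer (((Cfsg.pCoreOf p L) : Subgroup H) : Set H))) := by
  subst hT₀
  set Y := largestPReducedOf p L with hY
  set C := Subgroup.centralizer (Y : Set H) with hC
  have hYT : Y ≤ (T : Subgroup H) :=
    (Cfsg.Lib.Reduced.largestOf_le_pCoreOf L).trans (Cfsg.Lib.Reduced.pCoreOf_le_sylow T hTL)
  set K := Subgroup.normalizer (Y : Set H) with hK
  have hTK : (T : Subgroup H) ≤ K := hTL.trans (Cfsg.Lib.Reduced.normalizer_largestOf L)
  have hCK : C ≤ K := Subgroup.centralizer_le_normalizer _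
  haveI : (C.subgroupOf K).Normal :=
    Subgroup.normal_subgroupOf_of_le_normalizer (Cfsg.Lib.Reduced.normalizer_centralizer le_rfl)
  refine ⟨?_, ?_, ?_, ?_, ?_, ?_⟩
  · obtain ⟨A, hA⟩ := Cfsg.Lib.Transfer.exists_sylow_subgroupOf (T.subtype hTK) (C.subgroupOf K)
    have h1 : ¬ p ∣ (((T : Subgroup H) ⊓ C).subgroupOf C).index := by
      have h2 := A.not_dvd_index
      rw [hA] at h2
      change ¬ p ∣ ((T : Subgroup H).subgroupOf K).relIndex (C.subgroupOf K) at h2
      rw [Subgroup.relIndex_subgroupOf hCK] at h2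
      show ¬ p ∣ ((T : Subgroup H) ⊓ C).relIndex C
      rw [Subgroup.inf_relIndex_right]
      exact h2
    exact ⟨((T.isPGroup'.to_le inf_le_left).comap_subtype).toSylow h1, rfl⟩
  · exact le_inf (Cfsg.Lib.Reduced.pCoreOf_le_sylow T hTL) (Cfsg.Lib.Reduced.pCoreOf_le_centralizer L)
  · exact le_inf (inf_le_left.trans hTL) inf_le_right
  · rw [Cfsg.Lib.Reduced.sylowCenterClosure_eq]
    refine le_trans ?_ (Subgroup.map_mono
      (le_iSup (fun S : Sylow p L => Cfsg.Lib.Reduced.omegaZ p (S : Subgroup L)) (T.subtype hTL)))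
    rw [Cfsg.Lib.Reduced.map_omegaZ L.subtype (Subgroup.subtype_injective L), Sylow.coe_subtype,
      Subgroup.map_subgroupOf_eq_of_le hTL]
  · rw [Cfsg.Lib.Reduced.sylowCenterClosure_eq]
    exact Subgroup.map_mono (Cfsg.Lib.Reduced.zClosure_le_largest hL)
  · exact (Subgroup.map_mono (Cfsg.Lib.Reduced.le_omegaZ_pCore
      Cfsg.Lib.Reduced.largest_isReduced)).trans
      (Cfsg.Lib.Reduced.map_omegaZ L.subtype (Subgroup.subtype_injective L) _).le

end Cfsg.Agent.S2821
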