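import Cfsg.Statements.S2824
import Cfsg.Agent.Components.Reduced.Sub

set_option autoImplicit false
open Cfsg

namespace Cfsg.Agent.S2824

/-- Let H be a finite group, p a prime, T a Sylow p-subgroup, L and M subgroups of characteristic p containing T, Y_L the largest p-reduced normal subgroup of L and T₀ = C_T(Y_L). If M·C_H(Y_L) = L·C_H(Y_L), then L* := N_M(T₀) has Y_{L*} = Y_L and L·C_H(Y_L) = L*·C_H(Y_L). -/
theorem result {H : Type*} [Group H] [Finite H] {p : ℕ} [Fact p.Prime] (T : Sylow p H) (L M : Subgroup H) (hTL : (T : Subgroup H) ≤ L) (hTM : (T : Subgroup H) ≤ M) (hL : Subgroup.centralizer (Cfsg.pCore p ↥L : Set ↥L) ≤ Cfsg.pCore p ↥L) (hM : Subgroup.centralizer (Cfsg.pCore p ↥M : Set ↥M) ≤ Cfsg.pCore p ↥M) (T₀ : Subgroup H) (hT₀ : T₀ = (T : Subgroup H) ⊓ Subgroup.centralizer (((Cfsg.largestPReducedOf p L) : Subgroup H) : Set H)) (hfac : M ⊔ Subgroup.centralizer (((Cfsg.largestPReducedOf p L) : Subgroup H) : Set H) = L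 ⊔ Subgroup.centralizer (((Cfsg.largestPReducedOf p L) : Subgroup H) : Set H)) (Ls : Subgroup H) (hLs : Ls = M ⊓ Subgroup.normalizer ((T₀ : Subgroup H) : Set H)) : (Cfsg.largestPReducedOf p Ls) = (Cfsg.largestPReducedOf p L) ∧ L ⊔ Subgroup.centralizer (((Cfsg.largestPReducedOf p L) : Subgroup H) : Set H) = Ls ⊔ Subgroup.centralizer (((Cfsg.largestPReducedOf p L) : Subgroup H) : Set H) := by
  subst hT₀
  subst hLs
  set Y := largestPReducedOf p L with hY
  set C := Subgroup.centralizer (Y : Set H) with hC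
  set T₀ := (T : Subgroup H) ⊓ C with hT₀
  set N := Subgroup.normalizer (T₀ : Set H) with hN
  have hLY := Cfsg.Lib.Reduced.normalizer_largestOf (p := p) L
  have hMY : M ≤ Subgroup.normalizer (Y : Set H) :=
    (le_sup_left.trans hfac.le).trans (sup_le hLY (Subgroup.centralizer_le_normalizer _))
  have hMC := Cfsg.Lib.Reduced.normalizer_centralizer hMY
  haveI : (C.subgroupOf M).Normal := Subgroup.normal_subgroupOf_of_le_normalizer hMC
  have hTN : (T : Subgroup H) ≤ N := by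
    intro t ht
    refine Subgroup.mem_normalizer_iff.2 fun x => ⟨fun hx => Subgroup.mem_inf.2
      ⟨mul_mem (mul_mem ht hx.1) (inv_mem ht), (Subgroup.mem_normalizer_iff.1 (hMC (hTM ht)) x).1 hx.2⟩,
      fun hx => Subgroup.mem_inf.2 ⟨?_, (Subgroup.mem_normalizer_iff.1 (hMC (hTM ht)) x).2 hx.2⟩⟩
    simpa [mul_assoc] using mul_mem (mul_mem (inv_mem ht) hx.1) ht
  have hTLs : (T : Subgroup H) ≤ M ⊓ N := le_inf hTM hTN
  have hMle : M ≤ (M ⊓ N) ⊔ C := by
    intro m hm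
    obtain ⟨a, ha, c, hc, hac⟩ :=
      Cfsg.Lib.Reduced.exists_frattini (T.subtype hTM) (C.subgroupOf M) ⟨m, hm⟩
    have haN : (a : H) ∈ N := by
      have h1 := Subgroup.mem_normalizer_iff.1 ha
      refine Subgroup.mem_normalizer_iff.2 fun x => ?_
      by_cases hx : x ∈ M
      · exact h1 ⟨x, hx⟩
      · constructor
        · exact fun h => absurd (hTM h.1) hx
        · intro h
          refine absurd ?_ hx
          simpa [mul_assoc] using mul_mem (mul_mem (inv_mem a.2) (hTM h.1)) a.2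
    rw [show m = (a : H) * c from congrArg Subtype.val hac]
    exact mul_mem (Subgroup.mem_sup_left ⟨a.2, haN⟩) (Subgroup.mem_sup_right hc)
  have hfac2 : (M ⊓ N) ⊔ C = L ⊔ C := by
    rw [← hfac]
    exact le_antisymm (sup_le_sup_right inf_le_left _) (sup_le hMle le_sup_right)
  refine ⟨le_antisymm ?_ (Cfsg.Lib.Reduced.largest_transfer T (M ⊓ N) L hTLs hTL hfac2), hfac2.symm⟩
  have hT₀L : T₀ ≤ M ⊓ N := inf_le_left.trans hTLs
  have hT₀core : T₀ ≤ pCoreOf p (M ⊓ N) := by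
    intro x hx
    refine ⟨⟨x, hT₀L hx⟩, ?_, rfl⟩
    exact le_sSup (show T₀.subgroupOf (M ⊓ N) ∈
      {V : Subgroup ↥(M ⊓ N) | V.Normal ∧ IsPGroup p V} from
      ⟨Subgroup.normal_subgroupOf_of_le_normalizer inf_le_right,
        (T.isPGroup'.to_le inf_le_left).comap_subtype⟩) hx
  intro y hy
  have hyc : ∀ z ∈ T₀, y * z = z * y := fun z hz =>
    Subgroup.mem_centralizer_iff.1 (Cfsg.Lib.Reduced.pCoreOf_le_centralizer _ (hT₀core hz)) y hy
  have hyT : y ∈ (T : Subgroup H) :=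
    Cfsg.Lib.Reduced.pCoreOf_le_sylow T hTLs (Cfsg.Lib.Reduced.largestOf_le_pCoreOf _ hy)
  have hYT₀ : Y ≤ T₀ := le_inf
    ((Cfsg.Lib.Reduced.largestOf_le_pCoreOf L).trans (Cfsg.Lib.Reduced.pCoreOf_le_sylow T hTL))
    (fun u hu => Subgroup.mem_centralizer_iff.2 fun w hw =>
      Cfsg.Lib.Reduced.commute_of_elem (Cfsg.Lib.Reduced.largestOf_elem L) hw hu)
  have hyC : y ∈ C := Subgroup.mem_centralizer_iff.2 fun z hz => (hyc z (hYT₀ hz)).symm
  refine ⟨⟨y, hTL hyT⟩, Cfsg.Lib.Reduced.omegaZ_inf_le hL (T.subtype hTL) ?_, rfl⟩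
  have hcent : ∀ x : L, x ∈ Subgroup.centralizer (largestPReduced p L : Set L) ↔ (x : H) ∈ C := by
    intro x
    constructor
    · intro hx
      refine Subgroup.mem_centralizer_iff.2 ?_
      rintro _ ⟨u, hu, rfl⟩
      exact congrArg Subtype.val (Subgroup.mem_centralizer_iff.1 hx u hu)
    · exact fun hx => Subgroup.mem_centralizer_iff.2 fun u hu =>
        Subtype.ext (Subgroup.mem_centralizer_iff.1 hx u ⟨u, hu, rfl⟩)
  refine Subgroup.subset_closure ⟨Subgroup.mem_inf.2 ⟨Subgroup.mem_inf.2 ⟨hyT, (hcent _).2 hyC⟩,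
    Subgroup.mem_centralizer_iff.2 fun z hz => Subtype.ext ?_⟩,
    Subtype.ext ((Cfsg.Lib.Reduced.largestOf_elem (M ⊓ N)).2 y hy)⟩
  exact (hyc z ⟨hz.1, (hcent z).1 hz.2⟩).symm

end Cfsg.Agent.S2824
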