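import Cfsg.Statements.S3888
import Mathlib
import Cfsg.Agent.PGroups.RankTwoOddPres

set_option autoImplicit false
open Cfsg

namespace Cfsg.Agent.S3888

/-- The classification of the p-groups of rank at most two for odd p. Let p be an odd prime and G a group of order p^n with no elementary abelian subgroup of order p³. Then one of the following holds: G is metacyclic; n ≥ 3 and G is generated by elements x, y, z with x^p = y^p = z^(p^(n−2)) = 1, z commuting with x and y, and x⁻¹yx = y z^(p^(n−3)); n ≥ 4 and G is generated by elements x, y, z with x^p = y^p = z^(p^(n−2)) = 1, yz = zy, x⁻¹yx = y z^(s p^(n−3)) and x⁻¹zx = yz, where s = 1 or s is a quadratic non-residue modulo p; or p = 3 and G has maximal class (nilpotency class n − 1). -/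
theorem result {G : Type*} [Group G] [Finite G] {p : ℕ} [Fact p.Prime] (hp : p ≠ 2) (n : ℕ) (hG : Nat.card G = p ^ n)
    (hrk : Cfsg.PRankLE p 2 G) :
    Cfsg.IsMetacyclic G ∨
    (3 ≤ n ∧ ∃ x y z : G, Subgroup.closure ({x, y, z} : Set G) = ⊤ ∧ x ^ p = 1 ∧ y ^ p = 1 ∧ z ^ p ^ (n - 2) = 1 ∧
        x * z = z * x ∧ y * z = z * y ∧ x⁻¹ * y * x = y * z ^ p ^ (n - 3)) ∨
    (4 ≤ n ∧ ∃ (s : ℕ) (x y z : G), (s = 1 ∨ ¬ IsSquare (s : ZMod p)) ∧ Subgroup.closure ({x, y, z} : Set G) = ⊤ ∧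
        x ^ p = 1 ∧ y ^ p = 1 ∧ z ^ p ^ (n - 2) = 1 ∧ y * z = z * y ∧ x⁻¹ * y * x = y * z ^ (s * p ^ (n - 3)) ∧
        x⁻¹ * z * x = y * z) ∨
    (p = 3 ∧ 2 ≤ n ∧ (⊤ : Subgroup G).lowerCentralSeries (n - 2) ≠ ⊥) := by
  have hG' : IsPGroup p G := IsPGroup.of_card hG
  haveI : Group.IsNilpotent G := hG'.isNilpotent
  by_cases hcyc : IsCyclic G
  · left
    obtain ⟨g, hg⟩ := hcyc
    refine Cfsg.Lib.PGroups.RankTwoOdd.meta_of_index hG' g ?_
    rw [Subgroup.index_eq_one.mpr ((Subgroup.eq_top_iff' (Subgroup.zpowers g)).mpr hg)]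
    exact one_dvd p
  obtain ⟨A, hAn, hAe, hAc⟩ := Cfsg.Lib.SolvStruct.exists_normal_elementary_sq hp hG' hcyc
  haveI := hAn
  have hmax : ∀ u ∈ Subgroup.centralizer (A : Set G), u ^ p = 1 → u ∈ A := by
    intro u hu hup
    set E := A ⊔ Subgroup.zpowers u with hE
    have hAu : ∀ v ∈ A, Commute v u := fun v hv => Subgroup.mem_centralizer_iff.mp hu v hv
    have hexp : ∀ w ∈ E, w ^ p = 1 := by
      intro w hw
      obtain ⟨v, hv, w', hw', rfl⟩ := Subgroup.mem_sup_of_normal_left.mp hw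
      obtain ⟨i, rfl⟩ := Subgroup.mem_zpowers_iff.mp hw'
      rw [((hAu v hv).zpow_right i).mul_pow, hAe.2 v hv, one_mul, ← zpow_natCast, ← zpow_mul, mul_comm,
        zpow_mul, zpow_natCast, hup, one_zpow]
    have hcomm : IsMulCommutative E := by
      refine ⟨⟨fun a b => Subtype.ext ?_⟩⟩
      obtain ⟨v, hv, w, hw, hva⟩ := Subgroup.mem_sup_of_normal_left.mp a.2
      obtain ⟨v', hv', w', hw', hvb⟩ := Subgroup.mem_sup_of_normal_left.mp b.2
      obtain ⟨i, rfl⟩ := Subgroup.mem_zpowers_iff.mp hw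
      obtain ⟨j, rfl⟩ := Subgroup.mem_zpowers_iff.mp hw'
      show (a : G) * b = b * a
      rw [← hva, ← hvb]
      have hvv : Commute v v' := congrArg Subtype.val (hAe.1.is_comm.comm (⟨v, hv⟩ : A) ⟨v', hv'⟩)
      exact ((hvv.mul_right ((hAu v hv).zpow_right j)).mul_left
        (((hAu v' hv').zpow_right i).symm.mul_right (Commute.zpow_zpow_self u i j))).eq
    have h1 : A = E := Subgroup.eq_of_le_of_card_ge le_sup_left (by rw [hAc]; exact hrk E hcomm hexp)
    exact h1.ge (Subgroup.mem_sup_right (Subgroup.mem_zpowers u))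
  by_cases hout : ∀ x : G, x ^ p = 1 → x ∈ A
  · by_cases hp3 : p = 3
    · rcases Cfsg.Lib.PGroups.RankTwoOdd.omega_two hp n G hG ⟨A, hAc.le, hout⟩ with h | ⟨h4, hcl⟩
      · exact Or.inl h
      · refine Or.inr (Or.inr (Or.inr ⟨hp3, by omega, fun h => ?_⟩))
        have h5 := Subgroup.lowerCentralSeries_eq_bot_iff_nilpotencyClass_le.mp h
        omega
    · left
      have h3 : 3 < p := lt_of_le_of_ne (by
        have := (Fact.out : p.Prime).two_le; omega) (fun e => hp3 e.symm)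
      exact Cfsg.Lib.PGroups.OmegaQuotient.isMetacyclic_of_omega h3 _ G le_rfl hG'
        ((Subgroup.card_le_of_le ((Subgroup.closure_le _).mpr fun x hx => hout x hx.2)).trans hAc.le)
  push Not at hout
  obtain ⟨x, hxp, hxA⟩ := hout
  have hxC : x ∉ Subgroup.centralizer (A : Set G) := fun h => hxA (hmax x h hxp)
  rcases Cfsg.Lib.PGroups.RankTwoOdd.outside_or_class hp hG A hAc hAe.2 hmax x hxC hxp with hq | ⟨hp3, hcl⟩
  · rcases Cfsg.Lib.PGroups.RankTwoOdd.presentation hp hG A hAc hAe.2 hmax x hxC hxp hq with h | h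
    · exact Or.inr (Or.inl h)
    · exact Or.inr (Or.inr (Or.inl h))
  · have hn2 : 2 ≤ n := by
      have h1 : p ^ 2 ∣ p ^ n := by rw [← hG, ← hAc]; exact Subgroup.card_subgroup_dvd_card A
      exact (Nat.pow_dvd_pow_iff_le_right (Fact.out : p.Prime).one_lt).mp h1
    refine Or.inr (Or.inr (Or.inr ⟨hp3, hn2, fun h => ?_⟩))
    have h5 := Subgroup.lowerCentralSeries_eq_bot_iff_nilpotencyClass_le.mp h
    rcases Nat.lt_or_ge 2 n with h6 | h6
    · omega
    · refine hxA ?_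
      have h7 : A = ⊤ := Subgroup.eq_top_of_card_eq A (by rw [hAc, hG, show n = 2 by omega])
      rw [h7]
      exact Subgroup.mem_top x

end Cfsg.Agent.S3888
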