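import Cfsg.Statements.S1946
import Cfsg.Agent.Components.Misc.SmallOrder

set_option autoImplicit false
open Cfsg

namespace Cfsg.Agent.S1946

/-- Let P be a Sylow p-subgroup of the finite group G. Then G has a normal p-complement if and only if P controls the fusion of its elements of order dividing p (dividing 4 when p = 2): whenever such an element a of P has a G-conjugate g a g⁻¹ in P, that conjugate is already x a x⁻¹ for some x in P. -/
theorem result {G : Type*} [Group G] [Finite G] {p : ℕ} [Fact p.Prime] (P : Sylow p G) :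
    Cfsg.HasNormalPComplement p G ↔
      ∀ a ∈ (P : Subgroup G), (a ^ p = 1 ∨ (p = 2 ∧ a ^ 4 = 1)) → ∀ g : G, g * a * g⁻¹ ∈ (P : Subgroup G) →
        ∃ x ∈ (P : Subgroup G), g * a * g⁻¹ = x * a * x⁻¹ := by
  open Subgroup in
  exact by
    constructor
    · intro hG a ha _ g hga
      obtain ⟨N, hN, hc⟩ := Cfsg.Lib.Transfer.exists_complement_of_hasNormalPComplement hG P
      obtain ⟨⟨⟨n, hn⟩, ⟨v, hv⟩⟩, e⟩ := hc.2 g
      dsimp only at e
      subst e
      have hb : v * a * v⁻¹ ∈ (P : Subgroup G) :=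
        (P : Subgroup G).mul_mem ((P : Subgroup G).mul_mem hv ha) ((P : Subgroup G).inv_mem hv)
      have h1 : n * (v * a * v⁻¹) * n⁻¹ * (v * a * v⁻¹)⁻¹ ∈ N := by
        rw [show n * (v * a * v⁻¹) * n⁻¹ * (v * a * v⁻¹)⁻¹ = n * ((v * a * v⁻¹) * n⁻¹ * (v * a * v⁻¹)⁻¹) by group]
        exact mul_mem hn (hN.conj_mem _ (inv_mem hn) _)
      have h2 : n * (v * a * v⁻¹) * n⁻¹ * (v * a * v⁻¹)⁻¹ ∈ (P : Subgroup G) := by
        refine (P : Subgroup G).mul_mem ?_ ((P : Subgroup G).inv_mem hb)
        rw [show n * (v * a * v⁻¹) * n⁻¹ = n * v * a * (n * v)⁻¹ by group]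
        exact hga
      have h3 := disjoint_def.1 hc.disjoint h1 h2
      refine ⟨v, hv, ?_⟩
      rw [show n * v * a * (n * v)⁻¹ = n * (v * a * v⁻¹) * n⁻¹ by group]
      exact mul_inv_eq_one.1 h3
    · intro h
      refine Cfsg.Lib.SmallOrder.complement_of_small P fun Q hQP hQ g hg hco => ?_
      obtain ⟨m, hm⟩ := (isNilpotent_iff_lowerCentralSeries (P : Subgroup G)).1 P.2.isNilpotent
      have key : ∀ d i, i + d = m → ∀ a ∈ Q, a ∈ (P : Subgroup G).lowerCentralSeries i → g * a * g⁻¹ = a := by
        intro d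
        induction d with
        | zero =>
          intro i hi a _ hL
          rw [show i = m by omega, hm, mem_bot] at hL
          simp [hL]
        | succ d ih =>
          intro i hi a ha hL
          have hgQ : g * a * g⁻¹ ∈ Q := (mem_normalizer_iff.1 hg a).1 ha
          obtain ⟨x, hx, hxa⟩ := h a (hQP ha) (hQ a ha) g (hQP hgQ)
          have ht : g * a * g⁻¹ * a⁻¹ ∈ Q := mul_mem hgQ (inv_mem ha)
          have hL' : g * a * g⁻¹ * a⁻¹ ∈ (P : Subgroup G).lowerCentralSeries (i + 1) := by
            rw [hxa, Subgroup.lowerCentralSeries_succ, commutator_comm, ← commutatorElement_def]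
            exact commutator_mem_commutator hx hL
          obtain ⟨k, hk⟩ := P.2 ⟨_, hQP ht⟩
          exact Cfsg.Lib.SmallOrder.fixed_of_shift (by group) (ih (i + 1) (by omega) _ ht hL')
            ((hco.pow_right k).coprime_dvd_right (orderOf_dvd_of_pow_eq_one (congrArg Subtype.val hk)))
      exact mem_centralizer_iff.2 fun q hq =>
        (mul_inv_eq_iff_eq_mul.1 (key m 0 (Nat.zero_add m) q hq (hQP hq))).symm

end Cfsg.Agent.S1946
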