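import Cfsg.Statements.S0223
import Cfsg.Agent.InvolCalc.StronglyEmbedded

set_option autoImplicit false
open Cfsg

namespace Cfsg.Agent.S0223

open Cfsg.Lib.StrongEmb

/-- Let H be a proper subgroup of even order of the finite group G. Then H is strongly embedded if and only if (i) C_G(t) ≤ H for every involution t of H and (ii) H controls fusion of its involutions: involutions of H conjugate in G are conjugate in H. -/
theorem result {G : Type*} [Group G] [Finite G] (H : Subgroup G) (hH : H ≠ ⊤) (heven : Even (Nat.card H)) : Cfsg.IsStronglyEmbedded H ↔ ((∀ t ∈ H, orderOf t = 2 → Subgroup.centralizer ({t} : Set G) ≤ H) ∧ (∀ t ∈ H, ∀ s ∈ H, orderOf t = 2 → orderOf s = 2 → IsConj t s → ∃ h ∈ H, h * t * h⁻¹ = s)) := by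
  refine ⟨fun h => ⟨fun t ht hto => centralizer_le h hto ht, fun t ht s hs hto _ hc => ?_⟩, fun h => of_conditions hH heven h.1 h.2⟩
  obtain ⟨g, hg⟩ := isConj_iff.1 hc
  exact ⟨g, conj_eq h hto ht (hg ▸ hs), hg⟩

end Cfsg.Agent.S0223
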