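import Cfsg.Statements.S1314

set_option autoImplicit false
open Cfsg

namespace Cfsg.Agent.S1314

/-- Let x be an involution of a group G and L a perfect subgroup with ⁅L, x L x⁻¹⁆ = 1. Then l ↦ l (x l x⁻¹) is a group homomorphism π from L to G whose kernel is central in L and whose image lies in C_G(x); and the commutator subgroup of C_{L ⊔ xLx⁻¹}(x) equals the image of π. -/
theorem result {G : Type*} [Group G] [Finite G] (x : G) (hx : orderOf x = 2) (L : Subgroup G) (hperf : ⁅L, L⁆ = L) (hcomm : ⁅L, L.map (MulAut.conj x).toMonoidHom⁆ = ⊥) : ∃ π : ↥L →* G, (∀ l : ↥L, π l = (l : G) * (x * (l : G) * x⁻¹)) ∧ π.ker ≤ Subgroup.center ↥L ∧ π.range ≤ Subgroup.centralizer ({x} : Set G) ∧ ⁅(L ⊔ L.map (MulAut.conj x).toMonoidHom) ⊓ Subgroup.centralizer ({x} : Set G), (L ⊔ L.map (MulAut.conj x).toMonoidHom) ⊓ Subgroup.centralizer ({x} : Set G)⁆ = π.range := by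
  open Subgroup in
  open scoped commutatorElement in
  exact by
    set L' := L.map (MulAut.conj x).toMonoidHom with hL'
    have hxx : x * x = 1 := by rw [← pow_two, ← hx, pow_orderOf_eq_one]
    have hxi : x⁻¹ = x := inv_eq_of_mul_eq_one_right hxx
    have hmem : ∀ l ∈ L, x * l * x⁻¹ ∈ L' := fun l hl => ⟨l, hl, rfl⟩
    have hc : ∀ l ∈ L, ∀ m ∈ L', Commute l m := fun l hl m hm =>
      commutatorElement_eq_one_iff_commute.1 (by
        rw [← mem_bot, ← hcomm]; exact commutator_mem_commutator hl hm)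
    have hxmul : ∀ u v : G, x * (u * v) * x⁻¹ = (x * u * x⁻¹) * (x * v * x⁻¹) := fun u v => by group
    have hinv : ∀ u : G, x * (x * u * x⁻¹) * x⁻¹ = u := fun u => by
      rw [show x * (x * u * x⁻¹) * x⁻¹ = (x * x) * u * (x * x)⁻¹ by group, hxx]; group
    refine ⟨MonoidHom.mk' (fun l => (l : G) * (x * l * x⁻¹)) (fun l m => ?_), fun l => rfl, ?_, ?_, ?_⟩
    · show ((l : G) * m) * (x * (l * m) * x⁻¹) = (l * (x * l * x⁻¹)) * (m * (x * m * x⁻¹))
      rw [hxmul]
      calc (l : G) * m * (x * l * x⁻¹ * (x * m * x⁻¹))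
          = l * (m * (x * l * x⁻¹)) * (x * m * x⁻¹) := by group
        _ = l * ((x * l * x⁻¹) * m) * (x * m * x⁻¹) := by rw [(hc m m.2 _ (hmem l l.2)).eq]
        _ = l * (x * l * x⁻¹) * (m * (x * m * x⁻¹)) := by group
    · intro l hl
      have h : (l : G) * (x * l * x⁻¹) = 1 := hl
      have hl' : (l : G) ∈ L' := by
        rw [eq_inv_of_mul_eq_one_left h]; exact inv_mem (hmem l l.2)
      exact mem_center_iff.2 fun m => Subtype.ext (hc m m.2 l hl').eq
    · rintro _ ⟨l, rfl⟩
      refine mem_centralizer_singleton_iff.2 ?_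
      show (l : G) * (x * l * x⁻¹) * x = x * ((l : G) * (x * l * x⁻¹))
      have h : x * ((l : G) * (x * l * x⁻¹)) * x⁻¹ = l * (x * l * x⁻¹) := by
        rw [hxmul, hinv, (hc l l.2 _ (hmem l l.2)).symm.eq]
      exact (mul_inv_eq_iff_eq_mul.1 h).symm
    · set π : ↥L →* G := MonoidHom.mk' (fun l => (l : G) * (x * l * x⁻¹)) _ with hπ
      set M := (L ⊔ L') ⊓ centralizer ({x} : Set G) with hM
      have hL'n : L' ≤ normalizer (L : Set G) := fun m hm => mem_normalizer_iff.2 fun y => by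
        constructor
        · intro hy
          rw [← (hc y hy m hm).eq, mul_inv_cancel_right]; exact hy
        · intro hy
          have := hc _ hy m hm
          have e : y = m * y * m⁻¹ := by
            calc y = m⁻¹ * (m * y * m⁻¹ * m) := by group
              _ = m⁻¹ * (m * (m * y * m⁻¹)) := by rw [this.eq]
              _ = m * y * m⁻¹ := by group
          rw [e]; exact hy
      have hdec : ∀ z ∈ M, ∃ (m : L) (c : G), c ∈ L ∧ c ∈ L' ∧ z = π m * c := by
        intro z hz
        have hz' : z ∈ ((L ⊔ L' : Subgroup G) : Set G) := (mem_inf.1 hz).1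
        rw [coe_mul_of_right_le_normalizer_left _ _ hL'n] at hz'
        obtain ⟨l, hl, _, ⟨m, hm, rfl⟩, rfl⟩ := hz'
        have hfix : x * (l * (x * m * x⁻¹)) * x⁻¹ = l * (x * m * x⁻¹) :=
          mul_inv_eq_iff_eq_mul.2 (mem_centralizer_singleton_iff.1 (mem_inf.1 hz).2).symm
        rw [hxmul, hinv, (hc m hm _ (hmem l hl)).symm.eq] at hfix
        have e : m⁻¹ * l = (x * l * x⁻¹) * (x * m * x⁻¹)⁻¹ := by
          calc m⁻¹ * l = m⁻¹ * (l * (x * m * x⁻¹)) * (x * m * x⁻¹)⁻¹ := by group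
            _ = m⁻¹ * (m * (x * l * x⁻¹)) * (x * m * x⁻¹)⁻¹ := by rw [hfix]
            _ = _ := by group
        have hcL' : m⁻¹ * l ∈ L' := by
          rw [e]; exact mul_mem (hmem l hl) (inv_mem (hmem m hm))
        refine ⟨⟨m, hm⟩, m⁻¹ * l, mul_mem (inv_mem hm) hl, hcL', ?_⟩
        show l * (x * m * x⁻¹) = m * (x * m * x⁻¹) * (m⁻¹ * l)
        rw [mul_assoc m, ← (hc _ (mul_mem (inv_mem hm) hl) _ (hmem m hm)).eq]
        group
      have hrange : π.range ≤ M := by
        rintro _ ⟨l, rfl⟩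
        refine ⟨mul_mem_sup l.2 (hmem l l.2), mem_centralizer_singleton_iff.2 ?_⟩
        show (l : G) * (x * l * x⁻¹) * x = x * ((l : G) * (x * l * x⁻¹))
        have h : x * ((l : G) * (x * l * x⁻¹)) * x⁻¹ = l * (x * l * x⁻¹) := by
          rw [hxmul, hinv, (hc l l.2 _ (hmem l l.2)).symm.eq]
        exact (mul_inv_eq_iff_eq_mul.1 h).symm
      refine le_antisymm (commutator_le.2 fun z hz w hw => ?_) ?_
      · obtain ⟨m, c, hcL, hcL', rfl⟩ := hdec z hz
        obtain ⟨n, d, hdL, hdL', rfl⟩ := hdec w hw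
        have cen : ∀ c, c ∈ L → c ∈ L' → ∀ n : L, Commute c (π n) := fun c h1 h2 n =>
          ((hc n n.2 c h2).symm).mul_right (hc c h1 _ (hmem n n.2))
        have e1 := cen c hcL hcL' n
        have e2 := cen d hdL hdL' m
        have e3 : Commute c d := hc c hcL d hdL'
        refine ⟨⁅m, n⁆, ?_⟩
        rw [map_commutatorElement, commutatorElement_def, commutatorElement_def]
        calc π m * π n * (π m)⁻¹ * (π n)⁻¹
            = π m * π n * (c * d) * (c * d)⁻¹ * (π m)⁻¹ * (π n)⁻¹ := by group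
          _ = π m * c * (π n * d) * ((π m * c)⁻¹ * (π n * d)⁻¹) := by
              rw [show π m * c * (π n * d) = π m * (c * π n) * d by group, e1.eq]
              have h4 : (π m * c)⁻¹ * (π n * d)⁻¹ = (c * d)⁻¹ * (π m)⁻¹ * (π n)⁻¹ := by
                rw [mul_inv_rev, mul_inv_rev, mul_inv_rev, e3.inv_inv.symm.eq]
                calc c⁻¹ * (π m)⁻¹ * (d⁻¹ * (π n)⁻¹) = c⁻¹ * ((π m)⁻¹ * d⁻¹) * (π n)⁻¹ := by group
                  _ = c⁻¹ * (d⁻¹ * (π m)⁻¹) * (π n)⁻¹ := by rw [e2.inv_inv.symm.eq]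
                  _ = _ := by group
              rw [h4]; group
          _ = _ := by group
      · have hp : ⁅(⊤ : Subgroup L), (⊤ : Subgroup L)⁆ = ⊤ := by
          apply Subgroup.map_injective L.subtype_injective
          rw [map_commutator, ← MonoidHom.range_eq_map, range_subtype, hperf]
        rw [MonoidHom.range_eq_map, ← hp, map_commutator, ← MonoidHom.range_eq_map]
        exact commutator_mono hrange hrange

end Cfsg.Agent.S1314
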