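import Cfsg.Statements.S3277
import Cfsg.Agent.InvolCalc.FoursCent.Count
import Cfsg.Agent.InvolCalc.FoursCent.Small

set_option autoImplicit false
open Cfsg

namespace Cfsg.Agent.S3277

open Subgroup Cfsg.FoursCent

theorem big_false {G : Type*} [Group G] [Finite G] (x : G) (hx : orderOf x = 2)
    (hC4 : Nat.card ↥(Subgroup.centralizer ({x} : Set G)) = 4)
    (hCe : ∀ c ∈ Subgroup.centralizer ({x} : Set G), c ^ 2 = 1)
    (hnc : ¬ Cfsg.HasNormalPComplement 2 G)
    (hne : ∀ E : Subgroup G, E.Normal → Cfsg.IsElementaryAbelian 2 E → Nat.card ↥E ≠ 2 ∧ Nat.card ↥E ≠ 4)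
    (S : Sylow 2 G) (hVS : Subgroup.centralizer ({x} : Set G) ≤ (S : Subgroup G))
    (hbig : Subgroup.centralizer ({x} : Set G) ≠ (S : Subgroup G)) : False := by
  classical
  haveI : Fact (Nat.Prime 2) := ⟨Nat.prime_two⟩
  set V := centralizer ({x} : Set G) with hV
  have hxV : x ∈ V := mem_centralizer_singleton_iff.2 rfl
  have hx1 : x ≠ 1 := fun h => by rw [h, orderOf_one] at hx; omega
  have hxx : x * x = 1 := by rw [← pow_two, ← hx, pow_orderOf_eq_one]
  have hsq : ∀ v ∈ V, v * v = 1 := fun v hv => by rw [← pow_two]; exact hCe v hv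
  have hVc : ∀ a ∈ V, ∀ b ∈ V, a * b = b * a := fun a ha b hb => by
    rw [← inv_eq_of_mul_eq_one_right (hsq _ (mul_mem ha hb)), mul_inv_rev,
      inv_eq_of_mul_eq_one_right (hsq _ hb), inv_eq_of_mul_eq_one_right (hsq _ ha)]
  have hCS : ∀ s ∈ (S : Subgroup G), s * x = x * s → s ∈ V := fun s _ h =>
    mem_centralizer_singleton_iff.2 h
  obtain ⟨K, hKn, hKi, hxK⟩ := Cfsg.Lib.KleinCent.index_two_cyclic S hVS hC4 hVc hx hxV hCS
    (fun R _ hR => hC4 ▸ card_le_of_le hR) hbig
  obtain ⟨n, hn⟩ := IsPGroup.iff_card.1 S.isPGroup'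
  have hlt : 4 < 2 ^ n := by
    rw [← hn, ← hC4]
    exact lt_of_le_of_ne (card_le_of_le hVS) fun h => hbig (eq_of_le_of_card_ge hVS h.ge)
  have hn3 : 3 ≤ n := by
    by_contra h
    have : 2 ^ n ≤ 2 ^ 2 := Nat.pow_le_pow_right two_pos (by omega)
    omega
  have : Group.IsNilpotent (S : Subgroup G) := S.isPGroup'.isNilpotent
  set A : Subgroup (S : Subgroup G) := V.subgroupOf S with hA
  have hAcard : Nat.card A = 2 ^ 2 := by
    rw [hA, Nat.card_congr (subgroupOfEquivOfLe hVS).toEquiv, hC4]; norm_num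
  have hAC : centralizer (A : Set (S : Subgroup G)) = A := by
    ext s
    constructor
    · intro hs
      have h := mem_centralizer_iff.1 hs ⟨x, hVS hxV⟩ (mem_subgroupOf.2 hxV)
      exact mem_subgroupOf.2 (hCS s s.2 (congrArg Subtype.val h).symm)
    · intro hs
      exact mem_centralizer_iff.2 fun a ha =>
        Subtype.ext (hVc _ (mem_subgroupOf.1 ha) _ (mem_subgroupOf.1 hs))
  have hcl := Cfsg.Lib.MaxClass.of_self_centralizing n (S : Subgroup G) hn A hAcard hAC
  obtain ⟨M, hM, hMi⟩ := Cfsg.Lib.MaxClass.exists_cyclic_index_two n (S : Subgroup G) hn hn3 hcl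
  obtain ⟨r₀, hr₀⟩ := (Subgroup.isCyclic_iff_exists_zpowers_eq_top M).1 hM
  set r : G := (r₀ : G) with hr
  have hmemr : ∀ a : (S : Subgroup G), a ∈ M ↔ (a : G) ∈ zpowers r := by
    intro a
    rw [← hr₀, mem_zpowers_iff, mem_zpowers_iff]
    constructor
    · rintro ⟨i, hi⟩
      exact ⟨i, by rw [hr, ← hi, SubgroupClass.coe_zpow]⟩
    · rintro ⟨i, hi⟩
      exact ⟨i, Subtype.ext (by rw [SubgroupClass.coe_zpow]; exact hi)⟩
  have hrS : r ∈ (S : Subgroup G) := r₀.2
  have hMcard : orderOf r * 2 = 2 ^ n := by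
    rw [← hn, ← M.card_mul_index, hMi, ← hr₀, Nat.card_zpowers, hr, orderOf_coe]
  have hN4 : 4 ≤ orderOf r := by
    have : 2 ^ 3 ≤ 2 ^ n := Nat.pow_le_pow_right two_pos hn3
    omega
  have hxS : x ∈ (S : Subgroup G) := hVS hxV
  have hcomm : ∀ a ∈ zpowers r, ∀ b ∈ zpowers r, a * b = b * a := by
    intro a ha b hb
    obtain ⟨i, rfl⟩ := mem_zpowers_iff.1 ha
    obtain ⟨j, rfl⟩ := mem_zpowers_iff.1 hb
    rw [← zpow_add, ← zpow_add, add_comm]
  have hxr : x ∉ zpowers r := by
    intro h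
    have h1 := Subgroup.card_le_of_le (show zpowers r ≤ V from fun a ha =>
      mem_centralizer_singleton_iff.2 (hcomm a ha x h))
    rw [Nat.card_zpowers, hC4] at h1
    have h4 := hCe r (mem_centralizer_singleton_iff.2 (hcomm r (mem_zpowers r) x h))
    have := Nat.le_of_dvd two_pos (orderOf_dvd_of_pow_eq_one h4)
    omega
  have hcover : ∀ s ∈ (S : Subgroup G), s ∈ zpowers r ∨ x * s ∈ zpowers r := by
    intro s hs
    by_cases h : (⟨s, hs⟩ : (S : Subgroup G)) ∈ M
    · exact Or.inl ((hmemr _).1 h)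
    · refine Or.inr ((hmemr (⟨x, hxS⟩ * ⟨s, hs⟩)).1 ?_)
      rw [Subgroup.mul_mem_iff_of_index_two hMi]
      exact iff_of_false (fun h' => hxr ((hmemr _).1 h')) h
  have hxinv : x⁻¹ = x := inv_eq_of_mul_eq_one_right hxx
  have hnorm : ∀ a ∈ zpowers r, x * a * x ∈ zpowers r := by
    intro a ha
    have haS : a ∈ (S : Subgroup G) := (zpowers_le.2 hrS) ha
    have h := (Subgroup.normal_of_index_eq_two hMi).conj_mem ⟨a, haS⟩ ((hmemr _).2 ha) ⟨x, hxS⟩
    have h' := (hmemr _).1 h
    simpa [hxinv] using h'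
  have hfix : ∀ a ∈ zpowers r, x * a * x = a → a * a = 1 := fun a _ h =>
    hsq a (mem_centralizer_singleton_iff.2 (by
      calc a * x = x * a * x * x := by rw [h]
        _ = x * a := by rw [mul_assoc, hxx, mul_one]))
  haveI := hKn
  by_cases hrK : r ∈ K
  · -- cyclic Sylow subgroup in `K`
    obtain ⟨O, h1, h2, h3, -⟩ := odd_normal_of_cyclic K ⟨1, by rw [hKi, pow_one]⟩ (fun R hR hRK => by
      obtain ⟨T, hT⟩ := hR.exists_le_sylow
      obtain ⟨g, hg⟩ := MulAction.exists_smul_eq G T S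
      have hle : R.map (MulAut.conj g).toMonoidHom ≤ zpowers r := by
        rintro _ ⟨a, ha, rfl⟩
        have haS : g * a * g⁻¹ ∈ (S : Subgroup G) := by
          rw [← hg, Sylow.coe_subgroup_smul]
          exact ⟨a, hT ha, rfl⟩
        show g * a * g⁻¹ ∈ zpowers r
        refine (hcover _ haS).resolve_right fun hx' => hxK ?_
        have haK : g * a * g⁻¹ ∈ K := hKn.conj_mem a (hRK ha) g
        have := (zpowers_le.2 hrK) hx'
        rwa [K.mul_mem_cancel_right haK] at this
      haveI : IsCyclic (R.map (MulAut.conj g).toMonoidHom) :=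
        isCyclic_of_injective _ (Subgroup.inclusion_injective hle)
      exact isCyclic_of_surjective _
        (R.equivMapOfInjective (MulAut.conj g).toMonoidHom (MulAut.conj g).injective).symm.surjective)
    exact hnc (hasComplement_of O h1 h2 h3)
  · obtain ⟨k, hk⟩ : ∃ k, orderOf r = 2 ^ k := ⟨n - 1, by
      have : 2 ^ n = 2 ^ (n - 1) * 2 := by rw [← pow_succ, Nat.sub_add_cancel (by omega)]
      omega⟩
    let D : BigData G :=
      { S := S, K := K, hK := hKn, hKi := hKi, x := x, hx := hx, hxS := hxS, hxK := hxK, hC := hC4,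
        r := r, hrS := hrS, hrK := hrK, hcover := hcover, hxr := hxr, N := orderOf r, hN := rfl,
        hN4 := hN4, hNpow := ⟨k, hk⟩, hnorm := hnorm, hfix := hfix }
    rcases D.w_cases with hw | hw
    · obtain ⟨E, h1, h2, h3⟩ := D.dihedral_case hw hnc
      exact (hne E h1 h2).2 h3
    · have h1 := D.quaternion_case hw
      refine (hne _ h1 ⟨⟨⟨fun u v => ?_⟩⟩, fun a ha => ?_⟩).1 (by rw [Nat.card_zpowers, D.order_z])
      · exact (IsCyclic.isMulCommutative (α := zpowers D.z)).is_comm.comm u v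
      · obtain ⟨i, rfl⟩ := mem_zpowers_iff.1 ha
        rw [← zpow_natCast, ← zpow_mul, mul_comm, zpow_mul, zpow_natCast, pow_two, D.z_sq, one_zpow]

/-- Let G be a finite group containing an involution whose centralizer is elementary abelian of order 4. If G has no normal 2-complement and no normal elementary abelian 2-subgroup of order 2 or 4, then G is isomorphic to the alternating group of degree 5 (that is, to PSL(2, 5)). -/
theorem result {G : Type*} [Group G] [Finite G] (x : G) (hx : orderOf x = 2)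
    (hC4 : Nat.card ↥(Subgroup.centralizer ({x} : Set G)) = 4) (hCe : ∀ c ∈ Subgroup.centralizer ({x} : Set G), c ^ 2 = 1)
    (hnc : ¬ Cfsg.HasNormalPComplement 2 G)
    (hne : ∀ E : Subgroup G, E.Normal → Cfsg.IsElementaryAbelian 2 E → Nat.card ↥E ≠ 2 ∧ Nat.card ↥E ≠ 4) :
    Nonempty (G ≃* ↥(alternatingGroup (Fin 5))) := by
  haveI : Fact (Nat.Prime 2) := ⟨Nat.prime_two⟩
  obtain ⟨S, hS⟩ := (IsPGroup.of_card (n := 2) (show Nat.card ↥(Subgroup.centralizer ({x} : Set G)) = 2 ^ 2 by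
    rw [hC4]; norm_num)).exists_le_sylow
  by_cases h : Subgroup.centralizer ({x} : Set G) = (S : Subgroup G)
  · exact small_case x hx hC4 hCe S h.symm hnc hne
  · exact (big_false x hx hC4 hCe hnc hne S hS h).elim

end Cfsg.Agent.S3277
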