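import Cfsg.Statements.S0019
import Cfsg.Agent.Coprime.Hall
import Cfsg.Agent.Coprime.SolvableBasics

set_option autoImplicit false
open Cfsg

namespace Cfsg.Agent.S0019

/-- A finite group that factorises as H₁H₂ and as H₁H₃ with all three subgroups solvable and the indices of H₂ and H₃ coprime is solvable. -/
theorem result {G : Type*} [Group G] [Finite G] (H₁ H₂ H₃ : Subgroup G)
    (h₁ : Group.IsSolvable H₁) (h₂ : Group.IsSolvable H₂) (h₃ : Group.IsSolvable H₃)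
    (h12 : ∀ g : G, ∃ x ∈ H₁, ∃ y ∈ H₂, g = x * y) (h13 : ∀ g : G, ∃ x ∈ H₁, ∃ y ∈ H₃, g = x * y)
    (hcop : H₂.index.Coprime H₃.index) : Group.IsSolvable G := by
  revert G
  suffices key : ∀ (n : ℕ) (G : Type u_1) [Group G] [Finite G] (H₁ H₂ H₃ : Subgroup G), Nat.card G ≤ n →
      Group.IsSolvable H₁ → Group.IsSolvable H₂ → Group.IsSolvable H₃ →
      (∀ g : G, ∃ x ∈ H₁, ∃ y ∈ H₂, g = x * y) → (∀ g : G, ∃ x ∈ H₁, ∃ y ∈ H₃, g = x * y) →
      H₂.index.Coprime H₃.index → Group.IsSolvable G by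
    intro G _ _ H₁ H₂ H₃ h1 h2 h3 h12 h13 hcop
    exact key _ G H₁ H₂ H₃ le_rfl h1 h2 h3 h12 h13 hcop
  intro n
  induction n with
  | zero => intro G _ _ _ _ _ h; exact absurd Nat.card_pos (not_lt.mpr h)
  | succ n ih =>
    intro G _ _ H₁ H₂ H₃ hn h1 h2 h3 h12 h13 hcop
    by_cases hbot : H₁ = ⊥
    · have htop : H₂ = ⊤ := Subgroup.eq_top_iff' _ |>.mpr fun g => by
        obtain ⟨x, hx, y, hy, rfl⟩ := h12 g
        rw [hbot, Subgroup.mem_bot] at hx
        rw [hx, one_mul]; exact hy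
      subst htop
      exact solvable_of_surjective (f := (⊤ : Subgroup G).subtype) (fun g => ⟨⟨g, Subgroup.mem_top g⟩, rfl⟩)
    have hntH : Nontrivial H₁ := (Subgroup.nontrivial_iff_ne_bot H₁).mpr hbot
    obtain ⟨M₀, -, hM₀, hM₀ne, hmin⟩ := Cfsg.Lib.Coprime.exists_minimal_normal (G := H₁)
      (K := ⊤) inferInstance top_ne_bot
    obtain ⟨-, q, hq, hMq, -⟩ := Cfsg.Lib.Coprime.minimal_normal_solvable (N := M₀)
      inferInstance hM₀ne hmin
    have := Fact.mk hq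
    set M := M₀.map H₁.subtype
    have hMq' : IsPGroup q M := hMq.map _
    have main : ∀ (K : Subgroup G), (∀ g : G, ∃ x ∈ H₁, ∃ y ∈ K, g = x * y) → ¬ q ∣ K.index →
        Group.IsSolvable K → ∃ N : Subgroup G, N.Normal ∧ N ≠ ⊥ ∧ Group.IsSolvable N := by
      intro K hK hqK hKs
      obtain ⟨Q⟩ := (inferInstance : Nonempty (Sylow q K))
      obtain ⟨S, hS⟩ := (Q.2.map K.subtype).exists_le_sylow
      have hSK : (S : Subgroup G) ≤ K := by
        refine (Subgroup.eq_of_le_of_card_ge hS ?_).ge.trans (Subgroup.map_subtype_le _)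
        rw [Subgroup.card_map_of_injective K.subtype_injective, S.card_eq_multiplicity,
          Q.card_eq_multiplicity, ← K.card_mul_index, Nat.factorization_mul Nat.card_pos.ne'
            Subgroup.index_ne_zero_of_finite, Finsupp.add_apply,
          Nat.factorization_eq_zero_of_not_dvd hqK, add_zero]
      obtain ⟨T, hT⟩ := hMq'.exists_le_sylow
      obtain ⟨g, hg⟩ := MulAction.exists_smul_eq G S T
      obtain ⟨x, hx, y, hy, rfl⟩ := hK g
      have hMK : M ≤ K := by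
        intro m hm
        obtain ⟨m₀, hm₀, rfl⟩ := hm
        have hm' : x * (m₀ : G) * x⁻¹ ∈ ((T : Sylow q G) : Subgroup G) :=
          hT ⟨⟨x, hx⟩ * m₀ * (⟨x, hx⟩ : H₁)⁻¹, hM₀.conj_mem _ hm₀ _, rfl⟩
        rw [← hg] at hm'
        obtain ⟨s, hs, e⟩ := hm'
        have e' : (m₀ : G) = y * s * y⁻¹ := by
          have e2 : x * y * s * (x * y)⁻¹ = x * (m₀ : G) * x⁻¹ := e
          calc (m₀ : G) = x⁻¹ * (x * (m₀ : G) * x⁻¹) * x := by group
            _ = x⁻¹ * (x * y * s * (x * y)⁻¹) * x := by rw [e2]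
            _ = _ := by group
        show (m₀ : G) ∈ K
        rw [e']
        exact K.mul_mem (K.mul_mem hy (hSK hs)) (K.inv_mem hy)
      refine ⟨Subgroup.normalClosure (M : Set G), inferInstance, fun e => hM₀ne ?_,
        Cfsg.Lib.Coprime.isSolvable_of_le ?_ hKs⟩
      · have h := le_bot_iff.mp ((Subgroup.le_normalClosure (H := M)).trans e.le)
        exact (Subgroup.map_eq_bot_iff_of_injective _ H₁.subtype_injective).mp h
      · rw [Subgroup.normalClosure, Subgroup.closure_le]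
        intro w hw
        obtain ⟨m, hm, hmw⟩ := Group.mem_conjugatesOfSet_iff.mp hw
        obtain ⟨c, rfl⟩ := isConj_iff.mp hmw
        obtain ⟨x', hx', y', hy', e⟩ := hK c⁻¹
        obtain ⟨m₀, hm₀, rfl⟩ := hm
        have hc : c = y'⁻¹ * x'⁻¹ := by rw [← mul_inv_rev, ← e, inv_inv]
        rw [SetLike.mem_coe, hc, show y'⁻¹ * x'⁻¹ * H₁.subtype m₀ * (y'⁻¹ * x'⁻¹)⁻¹ =
          y'⁻¹ * (x'⁻¹ * H₁.subtype m₀ * x') * y' by group]
        refine K.mul_mem (K.mul_mem (K.inv_mem hy') (hMK ?_)) hy'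
        exact ⟨⟨x', hx'⟩⁻¹ * m₀ * ⟨x', hx'⟩, by simpa using hM₀.conj_mem _ hm₀ (⟨x', hx'⟩ : H₁)⁻¹, by simp⟩
    obtain ⟨N, hN, hNne, hNs⟩ : ∃ N : Subgroup G, N.Normal ∧ N ≠ ⊥ ∧ Group.IsSolvable N := by
      by_cases hq2 : q ∣ H₂.index
      · exact main H₃ h13 (fun hd => hq.ne_one (Nat.eq_one_of_dvd_coprimes hcop hq2 hd)) h3
      · exact main H₂ h12 hq2 h2
    set π := QuotientGroup.mk' N
    have hlift : ∀ K : Subgroup G, (∀ g : G, ∃ x ∈ H₁, ∃ y ∈ K, g = x * y) →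
        ∀ g : G ⧸ N, ∃ x ∈ H₁.map π, ∃ y ∈ K.map π, g = x * y := by
      intro K hK g
      obtain ⟨g, rfl⟩ := QuotientGroup.mk'_surjective N g
      obtain ⟨x, hx, y, hy, rfl⟩ := hK g
      exact ⟨π x, ⟨x, hx, rfl⟩, π y, ⟨y, hy, rfl⟩, map_mul _ _ _⟩
    have hQ : Group.IsSolvable (G ⧸ N) := ih (G ⧸ N) (H₁.map π) (H₂.map π) (H₃.map π)
      (by have := Cfsg.Lib.Coprime.card_quotient_lt hNne; omega)
      (Cfsg.Lib.Coprime.isSolvable_map h1 π) (Cfsg.Lib.Coprime.isSolvable_map h2 π)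
      (Cfsg.Lib.Coprime.isSolvable_map h3 π) (hlift _ h12) (hlift _ h13)
      ((hcop.coprime_dvd_left (Subgroup.index_map_dvd H₂ (QuotientGroup.mk'_surjective N))).coprime_dvd_right
        (Subgroup.index_map_dvd H₃ (QuotientGroup.mk'_surjective N)))
    exact solvable_of_ker_le_range N.subtype π (by rw [QuotientGroup.ker_mk', Subgroup.range_subtype])

end Cfsg.Agent.S0019
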