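import Cfsg.Statements.S0006
import Cfsg.Agent.S0019
import Cfsg.Agent.Chars.Burnside
import Cfsg.Agent.Coprime.SolvableBasics

set_option autoImplicit false
open Cfsg

namespace Cfsg.Agent.S0006

universe u

open Subgroup in
theorem aux : ∀ (N : ℕ) (G : Type u) [Group G] [Finite G], Nat.card G = N →
    (∀ p : ℕ, p.Prime → ∃ H : Subgroup G, H.index = p ^ (Nat.card G).factorization p) →
    Group.IsSolvable G := by
  intro N
  induction N using Nat.strong_induction_on with
  | _ N ih =>
    intro G _ _ hN h
    by_cases h3 : 2 < (Nat.card G).primeFactors.card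
    · obtain ⟨p, hp, q, hq, r, hr, hpq, hpr, hqr⟩ := Finset.two_lt_card.1 h3
      choose H hH using h
      have solv : ∀ (s : ℕ) (hs : s.Prime), s ∣ Nat.card G → Group.IsSolvable (H s hs) := by
        intro s hs hdvd
        have hne : (H s hs).index ≠ 1 := by
          rw [hH s hs]
          exact (Nat.one_lt_pow (hs.factorization_pos_of_dvd Nat.card_pos.ne' hdvd).ne' hs.one_lt).ne'
        have hmul := (H s hs).card_mul_index
        refine ih _ ?_ (H s hs) rfl fun t ht => ?_
        · rw [← hN, ← hmul]
          exact lt_mul_of_one_lt_right Nat.card_pos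
            (lt_of_le_of_ne (Nat.one_le_iff_ne_zero.2 index_ne_zero_of_finite) (Ne.symm hne))
        by_cases hts : t = s
        · subst hts
          refine ⟨⊤, ?_⟩
          have h0 := congrArg (fun n => n.factorization t) hmul
          simp only [Nat.factorization_mul Nat.card_pos.ne' index_ne_zero_of_finite, Finsupp.add_apply] at h0
          rw [hH t hs, ht.factorization_pow, Finsupp.single_eq_same] at h0
          rw [index_top, show (Nat.card (H t hs)).factorization t = 0 by omega, pow_zero]
        · refine ⟨(H s hs ⊓ H t ht).subgroupOf (H s hs), ?_⟩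
          have hcop : (H s hs).index.Coprime (H t ht).index := by
            rw [hH s hs, hH t ht]
            exact Nat.Coprime.pow _ _ ((Nat.coprime_primes hs ht).2 (Ne.symm hts))
          have e1 := (Cfsg.Lib.Coprime.inf_index_of_coprime _ _ hcop).1
          have e2 := relIndex_mul_index (inf_le_left : H s hs ⊓ H t ht ≤ H s hs)
          rw [e1, mul_comm (H s hs).index] at e2
          have e3 : (H s hs ⊓ H t ht).relIndex (H s hs) = (H t ht).index :=
            Nat.eq_of_mul_eq_mul_right (Nat.pos_of_ne_zero index_ne_zero_of_finite) e2
          refine e3.trans ?_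
          rw [hH t ht]
          congr 1
          have h0 := congrArg (fun n => n.factorization t) hmul
          simp only [Nat.factorization_mul Nat.card_pos.ne' index_ne_zero_of_finite, Finsupp.add_apply] at h0
          rw [hH s hs, hs.factorization_pow, Finsupp.single_eq_of_ne hts, add_zero] at h0
          exact h0.symm
      obtain ⟨hp1, hp2, -⟩ := Nat.mem_primeFactors.1 hp
      obtain ⟨hq1, hq2, -⟩ := Nat.mem_primeFactors.1 hq
      obtain ⟨hr1, hr2, -⟩ := Nat.mem_primeFactors.1 hr
      have cop : ∀ (s : ℕ) (hs : s.Prime) (t : ℕ) (ht : t.Prime), s ≠ t →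
          (H s hs).index.Coprime (H t ht).index := fun s hs t ht hne => by
        rw [hH s hs, hH t ht]
        exact Nat.Coprime.pow _ _ ((Nat.coprime_primes hs ht).2 hne)
      exact Cfsg.Agent.S0019.result (H p hp1) (H q hq1) (H r hr1) (solv p hp1 hp2) (solv q hq1 hq2)
        (solv r hr1 hr2) (Cfsg.Lib.Coprime.inf_index_of_coprime _ _ (cop p hp1 q hq1 hpq)).2
        (Cfsg.Lib.Coprime.inf_index_of_coprime _ _ (cop p hp1 r hr1 hpr)).2 (cop q hq1 r hr1 hqr)
    · obtain ⟨p, q, hp, hq, hsub⟩ : ∃ p q : ℕ, p.Prime ∧ q.Prime ∧
          (Nat.card G).primeFactors ⊆ {p, q} := by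
        have hc : (Nat.card G).primeFactors.card = 0 ∨ (Nat.card G).primeFactors.card = 1 ∨
            (Nat.card G).primeFactors.card = 2 := by omega
        rcases hc with hc | hc | hc
        · exact ⟨2, 2, Nat.prime_two, Nat.prime_two, by rw [Finset.card_eq_zero.1 hc]; simp⟩
        · obtain ⟨a, ha⟩ := Finset.card_eq_one.1 hc
          have : a.Prime := Nat.prime_of_mem_primeFactors (ha ▸ Finset.mem_singleton_self a)
          exact ⟨a, a, this, this, by rw [ha]; simp⟩
        · obtain ⟨a, b, -, hab⟩ := Finset.card_eq_two.1 hc
          exact ⟨a, b, Nat.prime_of_mem_primeFactors (hab ▸ Finset.mem_insert_self a _),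
            Nat.prime_of_mem_primeFactors (hab ▸ Finset.mem_insert_of_mem (Finset.mem_singleton_self b)),
            by rw [hab]⟩
      refine Cfsg.Lib.Chars.burnside_isSolvable p q hp hq G
        ⟨(Nat.card G).factorization p, if q = p then 0 else (Nat.card G).factorization q, ?_⟩
      refine Nat.eq_of_factorization_eq Nat.card_pos.ne'
        (mul_ne_zero (pow_ne_zero _ hp.ne_zero) (pow_ne_zero _ hq.ne_zero)) fun x => ?_
      rw [Nat.factorization_mul (pow_ne_zero _ hp.ne_zero) (pow_ne_zero _ hq.ne_zero), Finsupp.add_apply,
        hp.factorization_pow, hq.factorization_pow, Finsupp.single_apply, Finsupp.single_apply]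
      by_cases hx : x ∈ (Nat.card G).primeFactors
      · have := hsub hx
        simp only [Finset.mem_insert, Finset.mem_singleton] at this
        rcases this with h | h <;> subst h <;> split_ifs <;> first | omega | (subst_vars; omega)
      · have h0 : (Nat.card G).factorization x = 0 := by
          rw [← Nat.support_factorization] at hx
          exact Finsupp.notMem_support_iff.1 hx
        split_ifs <;> simp_all


/-- Converse of Hall's Theorem: if for every prime p a finite group has a subgroup of index equal to the p-part of the group order (a Hall p-complement), then the group is solvable. -/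
theorem result {G : Type*} [Group G] [Finite G]
    (h : ∀ p : ℕ, p.Prime → ∃ H : Subgroup G, H.index = p ^ (Nat.card G).factorization p) :
    Group.IsSolvable G := by
  exact aux _ G rfl h

end Cfsg.Agent.S0006
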