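import Cfsg.Statements.S0021
import Cfsg.Agent.S0006

set_option autoImplicit false
open Pointwise
open Cfsg

namespace Cfsg.Agent.S0021

open scoped Pointwise

theorem exists_prod {G : Type*} [Group G] [Finite G] (S : (p : Nat.Primes) → Sylow (p : ℕ) G)
    (hS : ∀ p q : Nat.Primes, (S p : Set G) * (S q : Set G) = (S q : Set G) * (S p : Set G))
    (s : Finset Nat.Primes) :
    ∃ Q : Subgroup G, Nat.card Q = ∏ q ∈ s, Nat.card (S q : Subgroup G) ∧
      ∀ r : Nat.Primes, (Q : Set G) * (S r : Set G) = (S r : Set G) * (Q : Set G) := by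
  induction s using Finset.induction_on with
  | empty => exact ⟨⊥, by simp, fun r => by simp⟩
  | insert a s ha ih =>
    obtain ⟨Q, hc, hQ⟩ := ih
    set A : Subgroup G := (S a : Subgroup G)
    have hcomm : (A : Set G) * (Q : Set G) = (Q : Set G) * (A : Set G) := (hQ a).symm
    let T : Subgroup G :=
      { carrier := (A : Set G) * (Q : Set G)
        one_mem' := ⟨1, one_mem A, 1, one_mem Q, one_mul 1⟩
        mul_mem' := by
          intro x y hx hy
          have h : x * y ∈ ((A : Set G) * Q) * ((A : Set G) * Q) := Set.mul_mem_mul hx hy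
          rwa [← mul_assoc, mul_assoc (A : Set G) (Q : Set G) (A : Set G), ← hcomm,
            ← mul_assoc, coe_mul_coe, mul_assoc, coe_mul_coe] at h
        inv_mem' := by
          intro x hx
          have h : x⁻¹ ∈ ((A : Set G) * Q)⁻¹ := Set.inv_mem_inv.2 hx
          rwa [mul_inv_rev, inv_coe_set, inv_coe_set, ← hcomm] at h }
    have hT : (T : Set G) = (A : Set G) * (Q : Set G) := rfl
    have hcop : (Nat.card A).Coprime (Nat.card Q) := by
      rw [hc]
      refine Nat.Coprime.prod_right fun q hq => ?_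
      haveI := Fact.mk a.2
      haveI := Fact.mk q.2
      rw [(S a).card_eq_multiplicity, (S q).card_eq_multiplicity]
      exact Nat.Coprime.pow _ _ ((Nat.coprime_primes a.2 q.2).2 fun e => ha (Subtype.ext e ▸ hq))
    have hAT : A ≤ T := fun x hx => ⟨x, hx, 1, one_mem Q, mul_one x⟩
    have hQT : Q ≤ T := fun x hx => ⟨1, one_mem A, x, hx, one_mul x⟩
    refine ⟨T, ?_, fun r => ?_⟩
    · rw [Finset.prod_insert ha, ← hc]
      refine le_antisymm ?_ (Nat.le_of_dvd Nat.card_pos
        (hcop.mul_dvd_of_dvd_of_dvd (Subgroup.card_dvd_of_le hAT) (Subgroup.card_dvd_of_le hQT)))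
      show Nat.card ((A : Set G) * (Q : Set G) : Set G) ≤ _
      exact Set.natCard_mul_le
    · show (A : Set G) * (Q : Set G) * (S r : Set G) = (S r : Set G) * ((A : Set G) * (Q : Set G))
      rw [mul_assoc, hQ r, ← mul_assoc, show (A : Set G) * (S r : Set G) = (S r : Set G) * A from hS a r,
        mul_assoc]


/-- A finite group with a family of pairwise permuting Sylow subgroups, one for each prime, is solvable (this direction rests on Burnside's two-prime Theorem). -/
theorem result {G : Type*} [Group G] [Finite G]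
    (S : (p : Nat.Primes) → Sylow (p : ℕ) G)
    (hS : ∀ p q : Nat.Primes, (S p : Set G) * (S q : Set G) = (S q : Set G) * (S p : Set G)) :
    Group.IsSolvable G := by
  refine Cfsg.Agent.S0006.result fun p hp => ?_
  let s : Finset Nat.Primes :=
    ((Nat.card G).primeFactors.attach.image fun x => (⟨x.1, Nat.prime_of_mem_primeFactors x.2⟩ : Nat.Primes)).filter
      fun q => (q : ℕ) ≠ p
  obtain ⟨Q, hQ, -⟩ := exists_prod S hS s
  refine ⟨Q, Nat.eq_of_factorization_eq Q.index_ne_zero_of_finite (pow_ne_zero _ hp.ne_zero) fun r => ?_⟩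
  rw [hp.factorization_pow, Finsupp.single_apply]
  by_cases hr : r.Prime
  swap
  · rw [Nat.factorization_eq_zero_of_not_prime _ hr, if_neg (fun e : p = r => hr (e ▸ hp))]
  have hmul := congrArg (fun n => n.factorization r) Q.card_mul_index
  simp only [Nat.factorization_mul Nat.card_pos.ne' Q.index_ne_zero_of_finite, Finsupp.add_apply] at hmul
  split_ifs with e
  · subst e
    have h0 : (Nat.card Q).factorization p = 0 := by
      refine Nat.factorization_eq_zero_of_not_dvd fun h => ?_
      rw [hQ] at h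
      obtain ⟨q, hq, hd⟩ := hp.prime.exists_mem_finset_dvd h
      haveI := Fact.mk q.2
      rw [(S q).card_eq_multiplicity] at hd
      exact (Finset.mem_filter.1 hq).2 ((Nat.prime_dvd_prime_iff_eq hp q.2).1 (hp.dvd_of_dvd_pow hd)).symm
    omega
  · by_cases hd : r ∣ Nat.card G
    · have hmem : (⟨r, hr⟩ : Nat.Primes) ∈ s := Finset.mem_filter.2 ⟨Finset.mem_image.2
        ⟨⟨r, Nat.mem_primeFactors.2 ⟨hr, hd, Nat.card_pos.ne'⟩⟩, Finset.mem_attach _ _, rfl⟩, Ne.symm e⟩
      have hle : Nat.card (S ⟨r, hr⟩ : Subgroup G) ∣ Nat.card Q := hQ ▸ Finset.dvd_prod_of_mem _ hmem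
      haveI : Fact (Nat.Prime r) := ⟨hr⟩
      rw [(S ⟨r, hr⟩).card_eq_multiplicity] at hle
      have := (hr.pow_dvd_iff_le_factorization Nat.card_pos.ne').1 hle
      dsimp only at this
      omega
    · have := Nat.factorization_eq_zero_of_not_dvd hd
      omega

end Cfsg.Agent.S0021
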