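import Cfsg.Statements.S1465
import Cfsg.Agent.OddLocal.PLengthBasic

set_option autoImplicit false
set_option linter.style.haveILetI false
open Cfsg

namespace Cfsg.Agent.S1465

/-- Let p be an odd prime, G a solvable group of odd order, P a normal p-subgroup of G, and X the subgroup generated by a family of abelian p-subgroups of G each normalized by P. Then the image of X in G/C_G(P) lies in O_p(G/C_G(P)); and if O_{p'}(G) = 1 and O_p(G) ∩ C_G(P) ≤ P then X ≤ O_p(G). -/
theorem result {G : Type*} [Group G] [Finite G] [Group.IsSolvable G] (hodd : Odd (Nat.card G)) (p : ℕ) [Fact p.Prime] (hp : p ≠ 2) (P : Subgroup G) [P.Normal] (hP : IsPGroup p P)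
    (S : Set (Subgroup G)) (hS : ∀ B ∈ S, IsMulCommutative B ∧ IsPGroup p B ∧ P ≤ Subgroup.normalizer (B : Set G)) :
    (sSup S).map (QuotientGroup.mk' (Subgroup.centralizer (P : Set G))) ≤ Cfsg.pCore p (G ⧸ Subgroup.centralizer (P : Set G)) ∧
      (Cfsg.pPrimeCore p G = ⊥ → Cfsg.pCore p G ⊓ Subgroup.centralizer (P : Set G) ≤ P → sSup S ≤ Cfsg.pCore p G) := by
  classical
  set C := Subgroup.centralizer (P : Set G) with hCdef
  set π := QuotientGroup.mk' C
  have hst := Cfsg.Lib.CN.stable_of_odd hodd hp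
  have h1 : (sSup S).map π ≤ Cfsg.pCore p (G ⧸ C) := by
    rw [Subgroup.map_le_iff_le_comap]
    refine sSup_le fun B hB b hb => ?_
    obtain ⟨hBc, hBp, hBN⟩ := hS B hB
    haveI := hBc
    exact hst P hP b (hBp.to_le (Subgroup.zpowers_le.mpr hb))
      (Cfsg.Lib.OddP.quad_of_abelian hBN hb)
  refine ⟨h1, fun hO hTC => ?_⟩
  set T := Cfsg.pCore p G with hTdef
  have hTp : IsPGroup p T := Cfsg.Lib.Components.isPGroup_pCore p
  have hcT : Subgroup.centralizer (T : Set G) ≤ T := Cfsg.Lib.Coprime.centralizer_pCore_le p hO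
  -- `C` is a `p`-group
  have hCp : IsPGroup p C := by
    intro c
    obtain ⟨n, m, hm, hc⟩ := Nat.exists_eq_pow_mul_and_not_dvd (orderOf_pos c).ne' p
      (Fact.out : p.Prime).ne_one
    refine ⟨n, ?_⟩
    set d := c ^ p ^ n
    have hd : orderOf d = m := by
      rw [orderOf_pow_of_dvd (pow_ne_zero _ (Fact.out : p.Prime).ne_zero) (hc ▸ Dvd.intro m rfl), hc,
        Nat.mul_div_cancel_left _ (pow_pos (Fact.out : p.Prime).pos _)]
    have hdcop : (Nat.card (Subgroup.zpowers (d : G))).Coprime p := by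
      rw [Nat.card_zpowers, Subgroup.orderOf_coe, hd]
      exact ((Fact.out : p.Prime).coprime_iff_not_dvd.mpr hm).symm
    have hdT : (d : G) ∈ Subgroup.centralizer (T : Set G) := by
      rw [Subgroup.mem_centralizer_iff]
      intro t ht
      have hcop : (Nat.card (Subgroup.zpowers (d : G))).Coprime (Nat.card P) := by
        obtain ⟨j, hj⟩ := IsPGroup.iff_card.mp hP
        rw [hj]; exact hdcop.pow_right j
      have := Cfsg.Lib.Coprime.centralizes_of_coprime_chain hcop (Subgroup.zpowers_le.mpr d.2)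
        (k := t) (fun a ha => hTC ⟨?_, ?_⟩)
      · exact (Subgroup.mem_centralizer_iff.mp this d (Subgroup.mem_zpowers _)).symm
      · show t⁻¹ * a * t * a⁻¹ ∈ T
        rw [show t⁻¹ * a * t * a⁻¹ = t⁻¹ * (a * t * a⁻¹) by group]
        exact mul_mem (inv_mem ht) ((inferInstance : T.Normal).conj_mem t ht a)
      · have haC : a ∈ C := (Subgroup.zpowers_le.mpr d.2) ha
        have hn : C.Normal := inferInstance
        simpa using mul_mem (hn.conj_mem a haC t⁻¹) (inv_mem haC)
    have hdT' := hcT hdT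
    obtain ⟨j, hj⟩ := IsPGroup.iff_card.mp hTp
    have h3 : orderOf (d : G) ∣ p ^ j := hj ▸ Subgroup.orderOf_dvd_natCard _ hdT'
    have h4 : orderOf (d : G) = 1 := Nat.eq_one_of_dvd_coprimes (hdcop.pow_right j)
      (by rw [Nat.card_zpowers]) h3
    exact Subtype.ext (orderOf_eq_one_iff.mp h4)
  have hLp : IsPGroup p ((Cfsg.pCore p (G ⧸ C)).comap π) :=
    (Cfsg.Lib.Components.isPGroup_pCore p).comap_of_ker_isPGroup π
      (by rw [QuotientGroup.ker_mk']; exact hCp)
  exact (Subgroup.map_le_iff_le_comap.mp h1).trans (Cfsg.Lib.Components.le_pCore hLp)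

end Cfsg.Agent.S1465
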