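import Cfsg.Statements.S3839
import Mathlib
import Cfsg.Prelude
import Cfsg.Agent.Transfer.Frobenius
import Cfsg.Agent.Components.ZJ.Reduce
import Cfsg.Agent.Thompson.PComplement
import Cfsg.Agent.OddLocal.FittingUniqueness
import Cfsg.Agent.PGroups.Regular
import Cfsg.Agent.Coprime.Fitting

set_option autoImplicit false
open Cfsg

namespace Cfsg.Agent.S3839

set_option linter.style.haveILetI false
set_option linter.unusedSectionVars false
set_option linter.unusedVariables false

open Subgroup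

universe u

variable {p : ℕ} [hp : Fact p.Prime]

/-- the hypothesis on `D` -/
def Hyp (p : ℕ) {G : Type u} [Group G] (D : Subgroup G) : Prop :=
  ∀ U : Subgroup G, U ≤ D → D ⊓ centralizer (U : Set G) ≤ U →
    Cfsg.HasNormalPComplement p ↥(normalizer (U : Set G))

theorem mem_normalizer_sup {G : Type u} [Group G] {V U : Subgroup G} {g : G}
    (h1 : g ∈ normalizer (V : Set G)) (h2 : g ∈ normalizer (U : Set G)) :
    g ∈ normalizer ((V ⊔ U : Subgroup G) : Set G) := by
  rw [mem_normalizer_iff_map_conj_eq] at h1 h2 ⊢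
  rw [Subgroup.map_sup, h1, h2]

theorem normal_subgroupOf_norm {G : Type u} [Group G] (U : Subgroup G) :
    (U.subgroupOf (normalizer (U : Set G))).Normal :=
  ⟨fun x hx k => (mem_normalizer_iff.1 k.2 _).1 hx⟩

theorem normal_centralizer_norm {G : Type u} [Group G] (U : Subgroup G) :
    ((centralizer (U : Set G)).subgroupOf (normalizer (U : Set G))).Normal := by
  refine ⟨fun x hx k => mem_subgroupOf.2 (mem_centralizer_iff.2 fun y hy => ?_)⟩
  have h1 : ((k : G)⁻¹ * y * k) * (x : G) = (x : G) * ((k : G)⁻¹ * y * k) := mem_centralizer_iff.1 hx ((k : G)⁻¹ * y * k)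
    ((mem_normalizer_iff.1 k.2 _).2 (by simpa [mul_assoc] using hy))
  simp only [Subgroup.coe_mul, Subgroup.coe_inv]
  calc y * ((k : G) * x * (k : G)⁻¹) = k * ((k : G)⁻¹ * y * k * x) * (k : G)⁻¹ := by group
    _ = k * (x * ((k : G)⁻¹ * y * k)) * (k : G)⁻¹ := by rw [h1]
    _ = _ := by group

theorem transport {G : Type u} [Group G] [Finite G] (S S' : Sylow p G) (D : Subgroup G)
    (hD : Cfsg.IsStronglyClosed D (S : Subgroup G)) (h : Hyp p D) :
    ∃ D' : Subgroup G, Cfsg.IsStronglyClosed D' (S' : Subgroup G) ∧ Hyp p D' ∧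
      (∀ x ∈ D, x ∈ (S' : Subgroup G) → x ∈ D') ∧ (∀ x ∈ D', x ∈ (S : Subgroup G) → x ∈ D) ∧
      (D ≠ ⊥ → D' ≠ ⊥) := by
  obtain ⟨g, rfl⟩ := MulAction.exists_smul_eq G S S'
  rw [Cfsg.Lib.Transfer.sylow_smul_coe]
  refine ⟨D.map (MulAut.conj g).toMonoidHom, ⟨Subgroup.map_mono hD.1, ?_⟩, ?_, ?_, ?_, ?_⟩
  · intro x hx k hk
    rw [Cfsg.Lib.Transfer.mem_map_conj] at hx hk ⊢
    have := hD.2 _ hx (g⁻¹ * k * g) (by convert hk using 1; group)
    convert this using 1; group
  · intro U hU hUc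
    set f : G ≃* G := MulAut.conj g with hf
    set V := U.comap f.toMonoidHom with hV
    have hVU : V.map f.toMonoidHom = U := map_comap_eq_self_of_surjective f.surjective U
    have hVD : V ≤ D := fun v hv => by
      obtain ⟨w, hw, he⟩ := hU (mem_comap.1 hv)
      exact f.injective he ▸ hw
    have hN := h V hVD fun v hv => by
      refine mem_comap.2 (hUc ⟨mem_map_of_mem _ hv.1, mem_centralizer_iff.2 fun w hw => ?_⟩)
      rw [← hVU] at hw
      obtain ⟨w', hw', rfl⟩ := hw
      rw [← map_mul, ← map_mul, mem_centralizer_iff.1 hv.2 w' hw']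
    refine (Cfsg.Lib.Transfer.hasNormalPComplement_congr ?_).1 hN
    refine (f.subgroupMap (normalizer (V : Set G))).trans (MulEquiv.subgroupCongr ?_)
    exact (map_equiv_normalizer_eq V f).trans (by rw [hVU])
  · intro x hx hxS
    rw [Cfsg.Lib.Transfer.mem_map_conj] at hxS ⊢
    have := hD.2 x hx g⁻¹ (by rwa [inv_inv])
    rwa [inv_inv] at this
  · rintro _ ⟨y, hy, rfl⟩ hS
    exact hD.2 y hy g hS
  · intro hne e
    exact hne ((map_eq_bot_iff_of_injective _ (MulAut.conj g).injective).1 e)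

theorem exists_sylow_inter {G : Type u} [Group G] [Finite G] (H : Subgroup G) :
    ∃ (S' : Sylow p G) (T : Sylow p H), (T : Subgroup H).map H.subtype = (S' : Subgroup G) ⊓ H := by
  obtain ⟨T⟩ : Nonempty (Sylow p H) := inferInstance
  obtain ⟨S', hS'⟩ := (T.2.map H.subtype).exists_le_sylow
  refine ⟨S', T, le_antisymm (le_inf hS' (map_subtype_le _)) fun x hx => ?_⟩
  have h1 : ((S' : Subgroup G).subgroupOf H) = (T : Subgroup H) :=
    T.3 (S'.2.comap_subtype) fun t ht => hS' (mem_map_of_mem _ ht)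
  exact ⟨⟨x, hx.2⟩, h1.le hx.1, rfl⟩

theorem main : ∀ (n : ℕ) (G : Type u) [Group G] [Finite G], Nat.card G = n → ∀ (S : Sylow p G)
    (D : Subgroup G), Cfsg.IsStronglyClosed D (S : Subgroup G) → Hyp p D →
    Cfsg.HasNormalPComplement p G := by
  intro n
  induction n using Nat.strong_induction_on with
  | _ n ih =>
  intro G _ _ hn S₀ D₀ hD₀ h₀
  -- `ih` for a subgroup meeting a strongly closed group
  have hsub : ∀ (H : Subgroup G) (S : Sylow p G) (T : Sylow p H) (D : Subgroup G),
      (T : Subgroup H).map H.subtype = (S : Subgroup G) ⊓ H → Cfsg.IsStronglyClosed D (S : Subgroup G) →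
      H ≠ ⊤ → (∀ U ≤ D ⊓ H, D ⊓ H ⊓ centralizer (U : Set G) ≤ U →
        Cfsg.HasNormalPComplement p ↥(normalizer (U : Set G) ⊓ H)) →
      Cfsg.HasNormalPComplement p H := by
    intro H S T D hT hD hH hU
    have hmemT : ∀ x : H, x ∈ (T : Subgroup H) ↔ (x : G) ∈ (S : Subgroup G) := fun x => by
      constructor
      · exact fun hx => (hT.le (mem_map_of_mem _ hx)).1
      · intro hx
        obtain ⟨y, hy, he⟩ := hT.ge ⟨hx, x.2⟩
        exact Subtype.ext he ▸ hy
    refine ih _ (hn ▸ lt_of_le_of_ne (card_le_card_group H) fun e => hH (eq_top_of_card_eq H e)) H rfl T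
      (D.subgroupOf H) ⟨fun x hx => (hmemT x).2 (hD.1 hx), fun x hx k hk =>
        hD.2 _ hx k ((hmemT _).1 hk)⟩ fun U hUD hUc => ?_
    have h1 := hU (U.map H.subtype) (by rintro _ ⟨u, hu, rfl⟩; exact ⟨hUD hu, u.2⟩) fun x hx => by
      refine ⟨⟨x, hx.1.2⟩, hUc ⟨hx.1.1, mem_centralizer_iff.2 fun u hu => Subtype.ext ?_⟩, rfl⟩
      exact mem_centralizer_iff.1 hx.2 u (mem_map_of_mem _ hu)
    let f : normalizer (U : Set H) →* ↥(normalizer ((U.map H.subtype : Subgroup G) : Set G) ⊓ H) :=
      (H.subtype.comp (normalizer (U : Set H)).subtype).codRestrict _ fun x => by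
        exact ⟨le_normalizer_map H.subtype (mem_map_of_mem _ x.2), (x : H).2⟩
    exact Cfsg.Lib.Transfer.hasNormalPComplement_of_injective f
      (fun a b hab => Subtype.ext (Subtype.ext
        (congrArg (fun z : ↥(normalizer ((U.map H.subtype : Subgroup G) : Set G) ⊓ H) => (z : G)) hab))) h1
  by_cases hI : ∃ L : Subgroup G, L.Normal ∧ L ≠ ⊥ ∧ L ≤ D₀
  · obtain ⟨L, hLn, hLb, hLD⟩ := hI
    haveI := hLn
    by_cases hLc : D₀ ⊓ centralizer (L : Set G) ≤ L
    · have h1 := h₀ L hLD hLc
      rw [normalizer_eq_top_iff.2 hLn] at h1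
      exact (Cfsg.Lib.Transfer.hasNormalPComplement_congr Subgroup.topEquiv).1 h1
    set C := centralizer (L : Set G) ⊔ L with hC
    haveI : C.Normal := inferInstance
    by_cases hCt : C = ⊤
    · -- `G/L`
      set π := QuotientGroup.mk' L
      have hπ : Function.Surjective π := QuotientGroup.mk'_surjective L
      have hlt : Nat.card (G ⧸ L) < n := by
        rw [← hn, card_eq_card_quotient_mul_card_subgroup L]
        exact lt_mul_of_one_lt_right Nat.card_pos ((one_lt_card_iff_ne_bot _).mpr hLb)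
      have hLp : IsPGroup p L := S₀.2.to_le (hLD.trans hD₀.1)
      have hq : Cfsg.HasNormalPComplement p (G ⧸ L) := by
        refine ih _ hlt _ rfl (S₀.mapSurjective hπ) (D₀.map π) ⟨map_mono hD₀.1, ?_⟩ fun U hU hUc => ?_
        · rintro _ ⟨x, hx, rfl⟩ q hq
          obtain ⟨k, rfl⟩ := hπ q
          rw [← map_inv, ← map_mul, ← map_mul] at hq ⊢
          obtain ⟨y, hy, he⟩ := hq
          refine mem_map_of_mem _ (hD₀.2 x hx k ?_)
          have h2 : y⁻¹ * (k * x * k⁻¹) ∈ L := QuotientGroup.eq.1 he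
          have h3 := mul_mem hy ((hLD.trans hD₀.1) h2)
          rwa [mul_inv_cancel_left] at h3
        · set V := U.comap π with hV
          have hVmap : V.map π = U := map_comap_eq_self_of_surjective hπ U
          have hLV : L ≤ V := fun l hl => by
            rw [hV, mem_comap, show π l = 1 from (QuotientGroup.eq_one_iff l).2 hl]; exact one_mem U
          have hVD : V ≤ D₀ := fun v hv => by
            obtain ⟨d, hd, he⟩ := hU (mem_comap.1 hv)
            have h2 : d⁻¹ * v ∈ L := QuotientGroup.eq.1 he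
            have h3 := mul_mem hd (hLD h2)
            rwa [mul_inv_cancel_left] at h3
          have hN := h₀ V hVD fun v hv => by
            refine mem_comap.2 (hUc ⟨mem_map_of_mem _ hv.1, mem_centralizer_iff.2 fun w hw => ?_⟩)
            rw [← hVmap] at hw
            obtain ⟨w', hw', rfl⟩ := hw
            rw [← map_mul, ← map_mul, mem_centralizer_iff.1 hv.2 w' hw']
          have himg : (normalizer (V : Set G)).map π = normalizer (U : Set (G ⧸ L)) := by
            refine le_antisymm ((le_normalizer_map π).trans (hVmap ▸ le_rfl)) fun q hq => ?_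
            obtain ⟨k, rfl⟩ := hπ q
            refine mem_map_of_mem _ (mem_normalizer_iff.2 fun v => ?_)
            simp only [hV, mem_comap, map_mul, map_inv]
            exact mem_normalizer_iff.1 hq (π v)
          rw [← himg]
          exact Cfsg.Lib.Transfer.hasNormalPComplement_of_surjective (π.subgroupMap _)
            (π.subgroupMap_surjective _) hN
      refine Cfsg.Lib.Transfer.hasNormalPComplement_of_frobenius fun Q hQ g hg hcop => ?_
      have hgL : ∀ l ∈ L, Commute g l := by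
        obtain ⟨k, hk⟩ := IsPGroup.iff_card.1 hLp
        obtain ⟨t, ht⟩ := exists_pow_eq_self_of_coprime (x := g) (n := p ^ k) (hcop.symm.pow_left k)
        have hgC : g ^ p ^ k ∈ centralizer (L : Set G) := by
          have h1 : (centralizer (L : Set G)).relIndex C ∣ p ^ k := by
            rw [hC, ← hk, sup_comm, relIndex_sup_right]
            exact relIndex_dvd_card _ _
          rw [hCt, relIndex_top_right] at h1
          obtain ⟨m, hm⟩ := h1
          rw [hm, pow_mul]
          exact pow_mem (pow_index_mem _ g) m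
        intro l hl
        rw [← ht]
        exact (mem_centralizer_iff.1 (pow_mem hgC t) l hl).symm
      have hc := Cfsg.Lib.Transfer.centralize_of_hasNormalPComplement hq (Q.map π) (hQ.map π) (π g)
        (le_normalizer_map π (mem_map_of_mem _ hg)) (Nat.Coprime.coprime_dvd_left (orderOf_map_dvd π g) hcop)
      intro q hq'
      have h1 : π q * π g = π g * π q := hc _ (mem_map_of_mem _ hq')
      rw [← map_mul, ← map_mul] at h1
      have h2 : q⁻¹ * (g⁻¹ * q * g) ∈ L := by
        have h2' := QuotientGroup.eq.1 h1.symm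
        convert inv_mem (inv_mem h2') using 1
        group
      set l := q⁻¹ * (g⁻¹ * q * g) with hl
      have hiter : ∀ m : ℕ, (g ^ m)⁻¹ * q * g ^ m = q * l ^ m := by
        intro m
        induction m with
        | zero => simp
        | succ m ihm =>
          rw [pow_succ g, mul_inv_rev, show g⁻¹ * (g ^ m)⁻¹ * q * (g ^ m * g) =
            g⁻¹ * ((g ^ m)⁻¹ * q * g ^ m) * g by group, ihm]
          calc g⁻¹ * (q * l ^ m) * g = g⁻¹ * q * (l ^ m * g) := by group
            _ = g⁻¹ * q * (g * l ^ m) := by rw [((hgL l h2).pow_right m).eq]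
            _ = (g⁻¹ * q * g) * l ^ m := by group
            _ = q * (q⁻¹ * (g⁻¹ * q * g)) * l ^ m := by group
            _ = q * (l * l ^ m) := by rw [← hl, mul_assoc]
            _ = q * l ^ (m + 1) := by rw [pow_succ']
      have h3 := hiter (orderOf g)
      rw [pow_orderOf_eq_one, inv_one, one_mul, mul_one] at h3
      have h4 : l = 1 := by
        obtain ⟨i, hi⟩ := IsPGroup.iff_orderOf.1 hLp ⟨l, h2⟩
        rw [Subgroup.orderOf_mk] at hi
        exact orderOf_eq_one_iff.1 (Nat.eq_one_of_dvd_coprimes (hcop.pow_right i)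
          (orderOf_dvd_of_pow_eq_one (mul_eq_left.1 h3.symm)) hi.dvd)
      rw [hl, inv_mul_eq_one] at h4
      calc q * g = g * (g⁻¹ * q * g) := by group
        _ = g * q := by rw [← h4]
    -- the normal subgroup `C(L)L`
    have hnd : ¬ p ∣ ((S₀ : Subgroup G).subgroupOf C).index := fun h => S₀.not_dvd_index
      (h.trans (Cfsg.Lib.Components.relIndex_dvd_index_of_normal_right (S₀ : Subgroup G) C))
    let T : Sylow p C := (S₀.2.comap_of_injective C.subtype C.subtype_injective).toSylow hnd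
    have hT : (T : Subgroup C).map C.subtype = (S₀ : Subgroup G) ⊓ C := subgroupOf_map_subtype _ _
    have hCp : Cfsg.HasNormalPComplement p C := by
      refine hsub C S₀ T D₀ hT hD₀ hCt fun U hU hUc => ?_
      have hUn : U ≤ normalizer (L : Set G) := by rw [normalizer_eq_top_iff.2 hLn]; exact le_top
      have h1 := h₀ (U ⊔ L) (sup_le (hU.trans inf_le_left) hLD) fun x hx => by
        have hxL : x ∈ centralizer (L : Set G) := centralizer_le (le_sup_right : L ≤ U ⊔ L) hx.2
        exact mem_sup_left (hUc ⟨⟨hx.1, mem_sup_left hxL⟩, centralizer_le (le_sup_left : U ≤ U ⊔ L) hx.2⟩)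
      refine Cfsg.Lib.Thompson.hasNormalPComplement_of_le (fun g hg => ?_) h1
      exact mem_normalizer_sup hg.1 (by rw [normalizer_eq_top_iff.2 hLn]; trivial)
    set E := D₀ ⊓ C with hE
    have hEn : normalizer ((((S₀ : Subgroup G) ⊓ C : Subgroup G)) : Set G) ≤ normalizer (E : Set G) := by
      have key : ∀ g ∈ normalizer ((((S₀ : Subgroup G) ⊓ C : Subgroup G)) : Set G), ∀ x ∈ E, g * x * g⁻¹ ∈ E :=
        fun g hg x hx => by
          have h1 := (mem_normalizer_iff.1 hg x).1 ⟨hD₀.1 hx.1, hx.2⟩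
          exact ⟨hD₀.2 x hx.1 g h1.1, h1.2⟩
      intro g hg
      exact mem_normalizer_iff.2 fun x => ⟨key g hg x, fun hx => by
        simpa [mul_assoc] using key g⁻¹ (inv_mem hg) _ hx⟩
    have hN := h₀ E inf_le_left fun x hx => by
      refine ⟨hx.1, mem_sup_left (mem_centralizer_iff.2 fun l hl => mem_centralizer_iff.1 hx.2 l ⟨hLD hl, ?_⟩)⟩
      exact mem_sup_right hl
    obtain ⟨K, hK, hKc, k, hKi⟩ := Cfsg.Lib.Transfer.hasNormalPComplement_iff.1 hCp
    haveI := hK
    haveI : K.Characteristic := by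
      rw [Cfsg.Lib.Transfer.eq_pResidual_of_complement hKc hKi]; infer_instance
    set M := K.map C.subtype with hM
    haveI hMn : M.Normal := ConjAct.normal_of_characteristic_of_normal
    have hMc : (Nat.card M).Coprime p := by rwa [hM, card_map_of_injective C.subtype_injective]
    have hfr := Cfsg.Lib.ZJ.sup_normalizer_inf_eq_top C S₀
    have hCMT : C ≤ M ⊔ ((S₀ : Subgroup G) ⊓ C) := by
      intro x hx
      have h1 := (Cfsg.Lib.Transfer.isComplement'_sylow_of_coprime_index hKc hKi T).sup_eq_top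
      have h2 : (⟨x, hx⟩ : C) ∈ K ⊔ (T : Subgroup C) := h1 ▸ mem_top _
      have h3 := mem_map_of_mem C.subtype h2
      rw [Subgroup.map_sup, hT] at h3
      exact h3
    have htop : M ⊔ normalizer (E : Set G) = ⊤ := by
      rw [eq_top_iff, ← hfr]
      refine sup_le (hCMT.trans (sup_le le_sup_left ?_)) (hEn.trans le_sup_right)
      exact (le_normalizer.trans hEn).trans le_sup_right
    set π := QuotientGroup.mk' M
    have hsurj : Function.Surjective (π.comp (normalizer (E : Set G)).subtype) := by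
      intro q
      obtain ⟨g, rfl⟩ := QuotientGroup.mk'_surjective M q
      have hg : g ∈ M ⊔ normalizer (E : Set G) := htop ▸ mem_top g
      obtain ⟨m, hm, t, ht, rfl⟩ := mem_sup_of_normal_left.1 hg
      exact ⟨⟨t, ht⟩, by
        show π t = π (m * t)
        rw [map_mul, show π m = 1 from (QuotientGroup.eq_one_iff m).2 hm, one_mul]⟩
    obtain ⟨K', hK', hK'c, k', hK'i⟩ := Cfsg.Lib.Transfer.hasNormalPComplement_iff.1
      (Cfsg.Lib.Transfer.hasNormalPComplement_of_surjective _ hsurj hN)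
    refine Cfsg.Lib.Transfer.hasNormalPComplement_iff.2 ⟨K'.comap π, inferInstance, ?_, k', ?_⟩
    · have h1 : Nat.card (K'.comap π) = Nat.card M * Nat.card K' := Cfsg.Lib.Coprime.card_comap_mk' K'
      rw [h1]
      exact Nat.Coprime.mul_left hMc hK'c
    · rw [index_comap_of_surjective _ (QuotientGroup.mk'_surjective M), hK'i]
  -- all local subgroups inside `D` are proper
  push Not at hI
  by_cases hD1 : D₀ = ⊥
  · have h1 := h₀ ⊥ bot_le (by rw [hD1]; exact inf_le_left)
    rw [normalizer_eq_top_iff.2 inferInstance] at h1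
    exact (Cfsg.Lib.Transfer.hasNormalPComplement_congr Subgroup.topEquiv).1 h1
  have hloc : ∀ (S : Sylow p G) (D : Subgroup G), Cfsg.IsStronglyClosed D (S : Subgroup G) → Hyp p D →
      (∀ x ∈ D, x ∈ (S₀ : Subgroup G) → x ∈ D₀) →
      ∀ U : Subgroup G, U ≤ D → U ≠ ⊥ → Cfsg.HasNormalPComplement p ↥(normalizer (U : Set G)) := by
    intro S D hD hh hback U hUD hU1
    set H := normalizer (U : Set G) with hH
    have hHt : H ≠ ⊤ := fun e => by
      haveI : U.Normal := normalizer_eq_top_iff.1 e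
      -- `U` lies in `S₀` as a normal p-subgroup, hence in the strongly closed `D₀`
      have hUS : U ≤ (S₀ : Subgroup G) :=
        Cfsg.Lib.Thompson.le_sylow_of_normal (S.2.to_le (hUD.trans hD.1)) S₀
      refine hI U inferInstance hU1 fun x hx => ?_
      exact hback x (hUD hx) (hUS hx)
    obtain ⟨S', T, hT⟩ := exists_sylow_inter (p := p) H
    obtain ⟨D', hD', hh', hmem, -, -⟩ := transport S S' D hD hh
    have hUS' : U ≤ (S' : Subgroup G) ⊓ H := by
      have h1 : U.subgroupOf H ≤ (T : Subgroup H) := by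
        haveI : (U.comap H.subtype).Normal := normal_subgroupOf_norm U
        exact Cfsg.Lib.Thompson.le_sylow_of_normal (S.2.to_le (hUD.trans hD.1)).comap_subtype T
      rw [← hT]
      exact fun x hx => ⟨⟨x, le_normalizer hx⟩, h1 hx, rfl⟩
    have hUD' : U ≤ D' := fun x hx => hmem x (hUD hx) (hUS' hx).1
    refine hsub H S' T D' hT hD' hHt fun V hV hVc => ?_
    have h1 := hh' (V ⊔ U) (sup_le (hV.trans inf_le_left) hUD') fun x hx => by
      have hxU : x ∈ centralizer (U : Set G) := centralizer_le (le_sup_right : U ≤ V ⊔ U) hx.2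
      have hxH : x ∈ H := centralizer_le_normalizer (U : Set G) hxU
      exact mem_sup_left (hVc ⟨⟨hx.1, hxH⟩, centralizer_le (le_sup_left : V ≤ V ⊔ U) hx.2⟩)
    refine Cfsg.Lib.Thompson.hasNormalPComplement_of_le (fun g hg => ?_) h1
    exact mem_normalizer_sup hg.1 hg.2
  refine Cfsg.Lib.Transfer.hasNormalPComplement_of_frobenius fun Q hQ => ?_
  suffices key : ∀ m : ℕ, ∀ Q : Subgroup G, IsPGroup p Q → Q ≠ ⊥ → Nat.card G - Nat.card Q ≤ m →
      ∀ g ∈ normalizer (Q : Set G), (orderOf g).Coprime p → g ∈ centralizer (Q : Set G) by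
    intro g hg hcop
    by_cases hQ1 : Q = ⊥
    · subst hQ1
      intro x hx
      rw [SetLike.mem_coe, mem_bot] at hx
      simp [hx]
    exact key _ Q hQ hQ1 le_rfl g hg hcop
  intro m
  induction m using Nat.strong_induction_on with
  | _ m ihm =>
  intro Q hQ hQ1 hm g hg hcop
  set N := normalizer (Q : Set G) with hNdef
  obtain ⟨S, T, hT⟩ := exists_sylow_inter (p := p) N
  obtain ⟨D, hD, hh, -, hback, hne⟩ := transport S₀ S D₀ hD₀ h₀
  have hQS : Q ≤ (S : Subgroup G) ⊓ normalizer (Q : Set G) := by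
    have h1 : Q.subgroupOf (normalizer (Q : Set G)) ≤ (T : Subgroup _) := by
      haveI : (Q.comap (normalizer (Q : Set G)).subtype).Normal := normal_subgroupOf_norm Q
      exact Cfsg.Lib.Thompson.le_sylow_of_normal hQ.comap_subtype T
    rw [← hT]
    exact fun x hx => ⟨⟨x, le_normalizer hx⟩, h1 hx, rfl⟩
  by_cases hQD : Q ⊓ D = ⊥
  swap
  · have hgU : g ∈ normalizer ((Q ⊓ D : Subgroup G) : Set G) := by
      have key' : ∀ k ∈ normalizer (Q : Set G), ∀ x ∈ Q ⊓ D, k * x * k⁻¹ ∈ Q ⊓ D := fun k hk x hx => by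
        have h1 := (mem_normalizer_iff.1 hk x).1 hx.1
        exact ⟨h1, hD.2 x hx.2 k (hQS h1).1⟩
      exact mem_normalizer_iff.2 fun x => ⟨key' g hg x, fun hx => by
        simpa [mul_assoc] using key' g⁻¹ (inv_mem hg) _ hx⟩
    have hN := hloc S D hD hh hback _ inf_le_right hQD
    have hQN : Q ≤ normalizer ((Q ⊓ D : Subgroup G) : Set G) := by
      intro q hq
      have key' : ∀ k ∈ Q, ∀ x ∈ Q ⊓ D, k * x * k⁻¹ ∈ Q ⊓ D := fun k hk x hx =>
        ⟨Q.mul_mem (Q.mul_mem hk hx.1) (Q.inv_mem hk), hD.2 x hx.2 k (hQS (Q.mul_mem (Q.mul_mem hk hx.1) (Q.inv_mem hk))).1⟩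
      exact mem_normalizer_iff.2 fun x => ⟨key' q hq x, fun hx => by
        simpa [mul_assoc] using key' q⁻¹ (inv_mem hq) _ hx⟩
    have h1 := Cfsg.Lib.Transfer.centralize_of_hasNormalPComplement hN
      (Q.subgroupOf _) hQ.comap_subtype ⟨g, hgU⟩
      (by rw [mem_normalizer_iff]; intro y; exact mem_normalizer_iff.1 hg y)
      (by rwa [Subgroup.orderOf_mk])
    intro q hq
    exact congrArg Subtype.val (h1 ⟨q, hQN hq⟩ hq)
  -- `D` meets `N(Q)` outside `Q`, centralising it
  have hSD : (S : Subgroup G) ≤ normalizer (D : Set G) := by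
    have key' : ∀ k ∈ (S : Subgroup G), ∀ x ∈ D, k * x * k⁻¹ ∈ D := fun k hk x hx =>
      hD.2 x hx k ((S : Subgroup G).mul_mem ((S : Subgroup G).mul_mem hk (hD.1 hx)) ((S : Subgroup G).inv_mem hk))
    exact fun k hk => mem_normalizer_iff.2 fun x => ⟨key' k hk x, fun hx => by
      simpa [mul_assoc] using key' k⁻¹ (inv_mem hk) _ hx⟩
  have hDne : D ≠ ⊥ := hne hD1
  obtain ⟨d, hdD, hdN, hd1⟩ : ∃ d ∈ D, d ∈ normalizer (Q : Set G) ∧ d ≠ 1 := by
    by_cases hDQ : D ≤ normalizer (Q : Set G)
    · obtain ⟨d, hd⟩ := (Subgroup.ne_bot_iff_exists_ne_one).1 hDne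
      exact ⟨d, d.2, hDQ d.2, fun e => hd (Subtype.ext e)⟩
    set X := D ⊔ Q
    have hXS : X ≤ (S : Subgroup G) := sup_le hD.1 (hQS.trans inf_le_left)
    have hlt : Q < X := lt_of_le_of_ne le_sup_right fun e => hDQ ((le_sup_left.trans e.ge).trans le_normalizer)
    obtain ⟨y, hy, hyQ⟩ := SetLike.exists_of_lt (Cfsg.Lib.OddLocal.FittingUniqueness.lt_inf_normalizer (S.2.to_le hXS) hlt)
    have hQnD : Q ≤ normalizer (D : Set G) := (hQS.trans inf_le_left).trans hSD
    have hyX : y ∈ ((D ⊔ Q : Subgroup G) : Set G) := hy.1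
    rw [Subgroup.coe_mul_of_right_le_normalizer_left D Q hQnD] at hyX
    obtain ⟨d, hd, q, hq, rfl⟩ := Set.mem_mul.1 hyX
    refine ⟨d, hd, ?_, fun e => hyQ (by rw [e, one_mul]; exact hq)⟩
    have h2 := (normalizer (Q : Set G)).mul_mem hy.2 ((normalizer (Q : Set G)).inv_mem (le_normalizer hq))
    rwa [mul_inv_cancel_right] at h2
  have hdC : d ∈ centralizer (Q : Set G) := mem_centralizer_iff.2 fun q hq => by
    have h1 : d * q * d⁻¹ * q⁻¹ ∈ Q ⊓ D := by
      refine ⟨Q.mul_mem ((mem_normalizer_iff.1 hdN q).1 hq) (Q.inv_mem hq), ?_⟩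
      rw [show d * q * d⁻¹ * q⁻¹ = d * (q * d⁻¹ * q⁻¹) by group]
      exact mul_mem hdD ((mem_normalizer_iff.1 (hSD (hQS hq).1) _).1 (inv_mem hdD))
    rw [hQD, mem_bot] at h1
    exact (mul_inv_eq_iff_eq_mul.1 (mul_inv_eq_one.1 h1)).symm
  set C := (centralizer (Q : Set G) ⊔ Q).subgroupOf N with hC
  haveI : C.Normal := by
    rw [hC, subgroupOf_sup (centralizer_le_normalizer (Q : Set G)) le_normalizer]
    haveI : ((centralizer (Q : Set G)).subgroupOf N).Normal := normal_centralizer_norm Q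
    haveI : (Q.subgroupOf N).Normal := normal_subgroupOf_norm Q
    infer_instance
  have hfr := Cfsg.Lib.ZJ.sup_normalizer_inf_eq_top C T
  set W := ((T : Subgroup N) ⊓ C).map N.subtype with hW
  have hWp : IsPGroup p W := (T.2.to_le inf_le_left).map _
  have hQW : Q < W := by
    refine lt_of_le_of_ne (fun q hq => ⟨⟨q, le_normalizer hq⟩, ⟨?_, mem_sup_right hq⟩, rfl⟩) fun e => ?_
    · obtain ⟨y, hy, he⟩ := hT.ge ⟨(hQS hq).1, le_normalizer hq⟩
      obtain rfl : y = ⟨q, le_normalizer hq⟩ := Subtype.ext he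
      exact hy
    · have hdW : d ∈ W := by
        refine ⟨⟨d, hdN⟩, ⟨?_, mem_sup_left hdC⟩, rfl⟩
        obtain ⟨y, hy, he⟩ := hT.ge ⟨hD.1 hdD, hdN⟩
        obtain rfl : y = ⟨d, hdN⟩ := Subtype.ext he
        exact hy
      exact hd1 (mem_bot.1 (hQD ▸ (⟨e.ge hdW, hdD⟩ : d ∈ Q ⊓ D)))
  obtain ⟨c, hc, t, ht, hct⟩ := mem_sup_of_normal_left.1 (hfr ▸ mem_top (⟨g, hg⟩ : N) :
    (⟨g, hg⟩ : N) ∈ C ⊔ normalizer (((T : Subgroup N) ⊓ C : Subgroup N) : Set N))
  obtain ⟨a, r, hr, har⟩ := Nat.exists_eq_pow_mul_and_not_dvd (orderOf_pos (t : G)).ne' p hp.out.ne_one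
  have hcard : Nat.card G - Nat.card W < m := by
    have h1 := Cfsg.Lib.PGroups.Regular.card_lt_of_lt hQW
    have h2 : Nat.card W ≤ Nat.card G := card_le_card_group W
    omega
  have htW : ((t : G) ^ p ^ a) ∈ centralizer (W : Set G) := by
    refine ihm _ hcard W hWp (ne_bot_of_gt hQW) le_rfl _ (pow_mem (le_normalizer_map N.subtype (mem_map_of_mem _ ht)) _) ?_
    refine Nat.Coprime.coprime_dvd_left (orderOf_dvd_of_pow_eq_one ?_) (hp.out.coprime_iff_not_dvd.2 hr).symm
    rw [← pow_mul, ← har, pow_orderOf_eq_one]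
  have htC : (t ^ p ^ a : N) ∈ C :=
    mem_sup_left (centralizer_le (SetLike.coe_subset_coe.2 hQW.le) (by simpa using htW))
  have hgC : (⟨g, hg⟩ : N) ∈ C := by
    rw [← QuotientGroup.eq_one_iff]
    have h1 : (QuotientGroup.mk' C ⟨g, hg⟩) ^ p ^ a = 1 := by
      rw [← hct, map_mul, show QuotientGroup.mk' C c = 1 from (QuotientGroup.eq_one_iff c).2 hc, one_mul,
        ← map_pow]
      exact (QuotientGroup.eq_one_iff _).2 htC
    refine orderOf_eq_one_iff.1 (Nat.eq_one_of_dvd_coprimes ((hcop.pow_right a)) ?_ (orderOf_dvd_of_pow_eq_one h1))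
    exact (orderOf_map_dvd (QuotientGroup.mk' C) (⟨g, hg⟩ : N)).trans (Subgroup.orderOf_mk g hg).dvd
  obtain ⟨k, hk⟩ := IsPGroup.iff_card.1 hQ
  have hgQ : g ∈ ((centralizer (Q : Set G) ⊔ Q : Subgroup G) : Set G) := hgC
  rw [Subgroup.coe_mul_of_left_le_normalizer_right] at hgQ
  · obtain ⟨e, he, q, hq, heq⟩ := Set.mem_mul.1 hgQ
    obtain ⟨i, hi⟩ := exists_pow_eq_self_of_coprime (x := g) (n := p ^ k) (hcop.symm.pow_left k)
    have hq1 : q ^ p ^ k = 1 := by
      rw [← hk]
      exact congrArg Subtype.val (pow_card_eq_one' (x := (⟨q, hq⟩ : Q)))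
    rw [← hi, ← heq, ((show Commute e q from (mem_centralizer_iff.1 he q hq).symm)).mul_pow, hq1, mul_one]
    exact pow_mem (pow_mem he _) i
  · exact centralizer_le_normalizer (Q : Set G)


/-- A Frobenius normal p-complement criterion relative to a strongly closed subgroup. Let G be a finite group, S a Sylow p-subgroup and D a subgroup of S strongly closed in S with respect to G. Then G has a normal p-complement if and only if N_G(U) has a normal p-complement for every subgroup U of D with C_D(U) ≤ U. -/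
theorem result {G : Type*} [Group G] [Finite G] {p : ℕ} [Fact p.Prime] (S : Sylow p G) (D : Subgroup G) (hD : Cfsg.IsStronglyClosed D (S : Subgroup G)) : Cfsg.HasNormalPComplement p G ↔ ∀ U : Subgroup G, U ≤ D → D ⊓ Subgroup.centralizer (U : Set G) ≤ U → Cfsg.HasNormalPComplement p ↥(Subgroup.normalizer (U : Set G)) := by
  constructor
  · intro h U _ _
    exact Cfsg.Lib.Transfer.hasNormalPComplement_subgroup h _
  · intro h
    exact main _ G rfl S D hD h

end Cfsg.Agent.S3839
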