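import Cfsg.Statements.S3995
import Cfsg.Agent.Counting.Frobenius
import Cfsg.Agent.Frobenius.UniqueSubgroup
import Cfsg.Agent.Transfer.ThompsonTransfer

set_option autoImplicit false
open Cfsg

namespace Cfsg.Agent.S3995

theorem totient_dvd_card (G : Type*) [Group G] [Finite G] (m : ℕ) :
    m.totient ∣ Nat.card {g : G // orderOf g = m} := by
  classical
  haveI := Fintype.ofFinite G
  haveI := Fintype.ofFinite (Subgroup G)
  rcases isEmpty_or_nonempty {g : G // orderOf g = m} with he | ⟨⟨g₀, hg₀⟩⟩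
  · rw [Nat.card_of_isEmpty]; exact dvd_zero _
  rw [Nat.card_eq_fintype_card, Fintype.card_subtype,
    Finset.card_eq_sum_card_image (fun g : G => Subgroup.zpowers g)]
  refine Finset.dvd_sum fun C hC => ?_
  obtain ⟨g, hg, rfl⟩ := Finset.mem_image.1 hC
  have hgm := (Finset.mem_filter.1 hg).2
  have h1 := IsCyclic.card_orderOf_eq_totient (α := Subgroup.zpowers g) (d := m)
    (by rw [← Nat.card_eq_fintype_card, Nat.card_zpowers, hgm])
  rw [← h1, ← Finset.card_map (Function.Embedding.subtype _)]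
  refine dvd_of_eq (congrArg Finset.card ?_)
  ext x
  simp only [Finset.mem_map, Finset.mem_filter, Finset.mem_univ, true_and, Function.Embedding.subtype_apply]
  constructor
  · rintro ⟨y, hy, rfl⟩
    have hym : orderOf (y : G) = m := (Subgroup.orderOf_coe y).trans hy
    refine ⟨hym, Subgroup.eq_of_le_of_card_ge (Subgroup.zpowers_le.2 y.2) ?_⟩
    rw [Nat.card_zpowers, Nat.card_zpowers, hgm, hym]
  · rintro ⟨hx, hxg⟩
    exact ⟨⟨x, hxg ▸ Subgroup.mem_zpowers x⟩, by rw [Subgroup.orderOf_mk]; exact hx, rfl⟩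

theorem mem_image_of_squarefree {N : ℕ} (T : Finset ℕ) (hT : ∀ q ∈ N.primeFactors, q ∈ T) [NeZero N] (m : ℕ)
    (hm : m ∣ N) (hsq : ∀ q ∈ T, ¬ q ^ 2 ∣ m) : m ∈ T.powerset.image fun U => ∏ q ∈ U, q := by
  have hm0 : m ≠ 0 := ne_zero_of_dvd_ne_zero (NeZero.ne N) hm
  have hsub : ∀ q ∈ m.primeFactors, q ∈ T := fun q hq => hT q (Nat.primeFactors_mono hm (NeZero.ne N) hq)
  refine Finset.mem_image.2 ⟨m.primeFactors, Finset.mem_powerset.2 hsub, Nat.prod_primeFactors_of_squarefree ?_⟩
  rw [Nat.squarefree_iff_prime_squarefree]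
  intro q hq hd
  exact hsq q (hsub q (Nat.mem_primeFactors.2 ⟨hq, (dvd_mul_right q q).trans hd, hm0⟩)) (by rwa [pow_two])



/-- Let G be a finite group such that the numbers of elements of each order that occurs in G (the numbers #{g : o(g) = m}, m ranging over the element orders of G) take exactly two values, 1 and some n ≠ 1. Then either G is a p-group of exponent p and order at least 3 for some prime p, or G is the quaternion group of order 8, or G is cyclic of order 4, or G ≅ Z₂ × P for a p-group P of exponent p with p an odd prime. -/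
theorem result {G : Type*} [Group G] [Finite G] (n : ℕ) (hn : n ≠ 1) (h : ((fun m : ℕ => Nat.card {g : G // orderOf g = m}) '' Set.range (orderOf : G → ℕ)) = {1, n}) :
    (∃ p : ℕ, p.Prime ∧ IsPGroup p G ∧ 3 ≤ Nat.card G ∧ Monoid.exponent G = p) ∨
      Nonempty (G ≃* QuaternionGroup 2) ∨ (IsCyclic G ∧ Nat.card G = 4) ∨
      (∃ (p : ℕ) (P : Type) (_ : Group P) (_ : Finite P), p.Prime ∧ p ≠ 2 ∧ IsPGroup p P ∧ Monoid.exponent P = p ∧
        Nonempty (G ≃* Multiplicative (ZMod 2) × P)) := by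
  classical
  haveI := Fintype.ofFinite G
  set Sp : Finset ℕ := Finset.univ.image (orderOf : G → ℕ) with hSp
  set c : ℕ → ℕ := fun m => Nat.card {g : G // orderOf g = m} with hc
  have hmem : ∀ m, m ∈ Sp ↔ ∃ g : G, orderOf g = m := fun m => by simp [hSp]
  have hone : (1 : ℕ) ∈ Sp := (hmem 1).2 ⟨1, orderOf_one⟩
  have hc1 : c 1 = 1 := by
    rw [Nat.card_eq_one_iff_unique]
    exact ⟨⟨fun a b => Subtype.ext ((orderOf_eq_one_iff.1 a.2).trans (orderOf_eq_one_iff.1 b.2).symm)⟩, ⟨⟨1, orderOf_one⟩⟩⟩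
  have hdown : ∀ m ∈ Sp, ∀ d, d ∣ m → d ∈ Sp := by
    intro m hm d hd
    obtain ⟨g, rfl⟩ := (hmem m).1 hm
    obtain ⟨e, he⟩ := hd
    refine (hmem d).2 ⟨g ^ e, ?_⟩
    have he0 : e ≠ 0 := fun h0 => (orderOf_pos g).ne' (by rw [he, h0, mul_zero])
    rw [orderOf_pow' g he0, he, Nat.gcd_mul_left_left, Nat.mul_div_cancel _ (Nat.pos_of_ne_zero he0)]
  have hval : ∀ m ∈ Sp, c m = 1 ∨ c m = n := by
    intro m hm
    obtain ⟨g, hg⟩ := (hmem m).1 hm
    have h1 : c m ∈ ({1, n} : Set ℕ) := h ▸ ⟨m, ⟨g, hg⟩, rfl⟩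
    exact h1
  obtain ⟨m₀, hm₀, hm₀n⟩ : ∃ m ∈ Sp, c m = n := by
    have h1 : n ∈ ((fun m : ℕ => Nat.card {g : G // orderOf g = m}) '' Set.range (orderOf : G → ℕ)) := by rw [h]; simp
    obtain ⟨m, ⟨g, hg⟩, hm⟩ := h1
    exact ⟨m, (hmem m).2 ⟨g, hg⟩, hm⟩
  have hphi : ∀ m, m.totient ∣ c m := totient_dvd_card G
  have hsmall : ∀ m ∈ Sp, c m = 1 → m = 1 ∨ m = 2 := fun m hm h1 =>
    Nat.totient_eq_one_iff.1 (Nat.eq_one_of_dvd_one (h1 ▸ hphi m))
  have hsum : Nat.card G = ∑ m ∈ Sp, c m := by
    rw [Nat.card_eq_fintype_card, ← Finset.card_univ,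
      Finset.card_eq_sum_card_fiberwise (f := (orderOf : G → ℕ)) (t := Sp) (fun g _ => (hmem _).2 ⟨g, rfl⟩)]
    refine Finset.sum_congr rfl fun m _ => ?_
    simp only [hc]
    rw [Nat.card_eq_fintype_card, Fintype.card_subtype]
  have hpr : ∀ q : ℕ, q.Prime → q ∣ Nat.card G → q ∈ Sp := fun q hq hd => by
    haveI := Fact.mk hq
    exact (hmem q).2 (exists_prime_orderOf_dvd_card' q hd)
  have hfrob : ∀ q : ℕ, q.Prime → q ∣ Nat.card G → q ∣ 1 + c q := by
    intro q hq hd
    have h1 := Cfsg.Lib.Counting.dvd_card_pow_eq_one _ (G := G) rfl q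
    rw [Nat.gcd_eq_left hd] at h1
    have h2 : Nat.card {g : G // g ^ q = 1} = 1 + c q := by
      haveI := Fact.mk hq
      simp only [hc]
      rw [Nat.card_eq_fintype_card, Fintype.card_subtype, Nat.card_eq_fintype_card, Fintype.card_subtype,
        ← Finset.card_singleton (1 : G), ← Finset.card_union_of_disjoint (by simp [orderOf_one, hq.one_lt.ne])]
      congr 1
      ext g
      simp only [Finset.mem_filter, Finset.mem_univ, true_and, Finset.mem_union, Finset.mem_singleton]
      refine ⟨fun hg => (em (g = 1)).imp_right fun h1 => orderOf_eq_prime hg h1, ?_⟩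
      rintro (rfl | hg)
      · exact one_pow q
      · exact hg ▸ pow_orderOf_eq_one g
    exact h2 ▸ h1
  have hprimes : ∀ m ∈ Sp, m ∣ Nat.card G := fun m hm => by
    obtain ⟨g, rfl⟩ := (hmem m).1 hm
    exact orderOf_dvd_natCard g
  by_cases h2 : 2 ∈ Sp ∧ c 2 = 1
  swap
  · -- all non-trivial orders occur `n` times
    have hn' : ∀ m ∈ Sp, m ≠ 1 → c m = n := fun m hm hm1 => (hval m hm).resolve_left fun h1 => by
      rcases hsmall m hm h1 with e | e
      · exact hm1 e
      · exact h2 ⟨e ▸ hm, e ▸ h1⟩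
    set k := (Sp.erase 1).card with hk
    have hG : Nat.card G = 1 + k * n := by
      rw [hsum, ← Finset.add_sum_erase _ _ hone, hc1, Finset.sum_congr rfl (fun m hm =>
        hn' m (Finset.mem_of_mem_erase hm) (Finset.ne_of_mem_erase hm)), Finset.sum_const, smul_eq_mul]
    have hk1 : 1 ≤ k := by
      refine Finset.card_pos.2 ⟨m₀, Finset.mem_erase.2 ⟨fun e => hn ?_, hm₀⟩⟩
      rw [← hm₀n, e, hc1]
    set T := (Nat.card G).primeFactors with hT
    have hdiv : ∀ q ∈ T, q.Prime ∧ q ∣ k - 1 ∧ ∀ m ∈ Sp, ¬ q ^ 2 ∣ m := by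
      intro q hq
      rw [hT, Nat.mem_primeFactors] at hq
      have h1 : q ∣ 1 + n := hn' q (hpr q hq.1 hq.2.1) hq.1.ne_one ▸ hfrob q hq.1 hq.2.1
      have h3 : ¬ q ∣ n := fun hd => hq.1.not_dvd_one ((Nat.dvd_add_left hd).1 h1)
      refine ⟨hq.1, ?_, fun m hm hd => h3 ?_⟩
      · have h4 : q ∣ 1 + k * n := hG ▸ hq.2.1
        obtain ⟨j, hj⟩ : ∃ j, k = j + 1 := ⟨k - 1, by omega⟩
        rw [hj, add_mul, one_mul, ← add_assoc, add_comm 1, add_assoc] at h4
        rw [hj, Nat.add_sub_cancel]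
        exact (hq.1.dvd_mul.1 ((Nat.dvd_add_left h1).1 h4)).resolve_right h3
      · have h5 := hn' (q ^ 2) (hdown m hm _ hd) (Nat.one_lt_pow two_ne_zero hq.1.one_lt).ne'
        refine Dvd.dvd.trans ?_ (h5 ▸ hphi (q ^ 2))
        rw [Nat.totient_prime_pow hq.1 (by norm_num)]
        exact Dvd.intro (q - 1) (by rw [pow_one])
    have hk : k = 1 := by
      by_contra hk'
      have h1 : (∏ q ∈ T, q) ≤ k - 1 := Nat.le_of_dvd (by omega)
        (Finset.prod_primes_dvd _ (fun q hq => (hdiv q hq).1.prime) fun q hq => (hdiv q hq).2.1)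
      have h3 : Sp.card ≤ 2 ^ T.card := by
        refine le_trans (Finset.card_le_card (t := T.powerset.image fun U => ∏ q ∈ U, q) fun m hm => ?_)
          (Finset.card_image_le.trans (Finset.card_powerset T).le)
        exact mem_image_of_squarefree T (fun q hq => hq) m (hprimes m hm) fun q hq => (hdiv q hq).2.2 m hm
      have h4 : 2 ^ T.card ≤ ∏ q ∈ T, q := by
        rw [← Finset.prod_const]
        exact Finset.prod_le_prod' fun q hq => (hdiv q hq).1.two_le
      have h5 : k + 1 = Sp.card := Finset.card_erase_add_one hone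
      omega
    obtain ⟨w, hw⟩ := Finset.card_eq_one.1 hk
    haveI : Nontrivial G := by
      obtain ⟨g, hg⟩ := (hmem m₀).1 hm₀
      exact ⟨⟨g, 1, fun e => hn (by rw [← hm₀n, ← hg, e, orderOf_one, hc1])⟩⟩
    obtain ⟨q, hq, hqG⟩ := Nat.exists_prime_and_dvd (Finite.one_lt_card (α := G)).ne'
    have hqw : q = w := Finset.mem_singleton.1 (hw ▸ Finset.mem_erase.2 ⟨hq.ne_one, hpr q hq hqG⟩)
    have hall : ∀ g : G, g ^ q = 1 := fun g => by
      by_cases h1 : orderOf g = 1
      · rw [orderOf_eq_one_iff.1 h1, one_pow]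
      · have : orderOf g = q := hqw ▸ Finset.mem_singleton.1 (hw ▸ Finset.mem_erase.2 ⟨h1, (hmem _).2 ⟨g, rfl⟩⟩)
        exact this ▸ pow_orderOf_eq_one g
    refine Or.inl ⟨q, hq, fun g => ⟨1, by rw [pow_one]; exact hall g⟩, ?_, ?_⟩
    · have hn0 : 0 < n := by
        obtain ⟨g, hg⟩ := (hmem m₀).1 hm₀
        rw [← hm₀n]
        haveI : Nonempty {g : G // orderOf g = m₀} := ⟨⟨g, hg⟩⟩
        exact Nat.card_pos
      rw [hG, hk, one_mul]; omega
    · exact ((Nat.dvd_prime hq).1 (Monoid.exponent_dvd_of_forall_pow_eq_one hall)).resolve_left fun h1 => by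
        obtain ⟨g, hg⟩ := exists_ne (1 : G)
        exact hg (by simpa [h1] using Monoid.pow_exponent_eq_one g)
  -- a single involution
  obtain ⟨h2S, hc2⟩ := h2
  obtain ⟨z, hz⟩ := (hmem 2).1 h2S
  have huz : ∀ g : G, orderOf g = 2 → g = z := fun g hg => by
    obtain ⟨hs, -⟩ := Nat.card_eq_one_iff_unique.1 hc2
    exact congrArg Subtype.val (hs.elim (⟨g, hg⟩ : {g : G // orderOf g = 2}) ⟨z, hz⟩)
  have hzc : ∀ g : G, Commute g z := fun g => by
    have h1 := huz (g * z * g⁻¹) (by rw [← hz]; exact (MulAut.conj g).orderOf_eq z)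
    exact mul_inv_eq_iff_eq_mul.1 h1
  have hn' : ∀ m ∈ Sp, m ≠ 1 → m ≠ 2 → c m = n := fun m hm h1 h2 => (hval m hm).resolve_left fun hh => by
    rcases hsmall m hm hh with e | e
    · exact h1 e
    · exact h2 e
  set R := (Sp.erase 1).erase 2 with hR
  set k := R.card with hk
  have h2R : (2 : ℕ) ∈ Sp.erase 1 := Finset.mem_erase.2 ⟨by norm_num, h2S⟩
  have hmemR : ∀ m, m ∈ R ↔ m ∈ Sp ∧ m ≠ 1 ∧ m ≠ 2 := fun m => by
    simp only [hR, Finset.mem_erase]
    exact ⟨fun h => ⟨h.2.2, h.2.1, h.1⟩, fun h => ⟨h.2.2, h.2.1, h.1⟩⟩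
  have hG : Nat.card G = 2 + k * n := by
    rw [hsum, ← Finset.add_sum_erase _ _ hone, ← Finset.add_sum_erase _ _ h2R, hc1, hc2, ← add_assoc,
      Finset.sum_congr rfl (fun m hm => hn' m ((hmemR m).1 hm).1 ((hmemR m).1 hm).2.1 ((hmemR m).1 hm).2.2),
      Finset.sum_const, smul_eq_mul]
  have hk1 : 1 ≤ k := by
    refine Finset.card_pos.2 ⟨m₀, (hmemR m₀).2 ⟨hm₀, fun e => hn ?_, fun e => hn ?_⟩⟩
    · rw [← hm₀n, e, hc1]
    · rw [← hm₀n, e, hc2]
  have hphiR : ∀ m ∈ R, m.totient ∣ n := fun m hm => hn' m ((hmemR m).1 hm).1 ((hmemR m).1 hm).2.1 ((hmemR m).1 hm).2.2 ▸ hphi m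
  have hzmul : ∀ m ∈ Sp, Odd m → 2 * m ∈ Sp := fun m hm hodd => by
    obtain ⟨g, rfl⟩ := (hmem _).1 hm
    refine (hmem _).2 ⟨g * z, ?_⟩
    rw [(hzc g).orderOf_mul_eq_mul_orderOf_of_coprime (by rw [hz]; exact hodd.coprime_two_right), hz, mul_comm]
  -- the odd primes
  set T := (Nat.card G).primeFactors.erase 2 with hT
  have hTR : ∀ q ∈ T, q.Prime ∧ q ≠ 2 ∧ q ∈ R ∧ q ∣ 1 + n ∧ ¬ q ∣ n ∧ (q : ℤ) ∣ 2 - (k : ℤ) := by
    intro q hq
    rw [hT, Finset.mem_erase, Nat.mem_primeFactors] at hq
    obtain ⟨hq2, hqp, hqG, -⟩ := hq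
    have hqR : q ∈ R := (hmemR q).2 ⟨hpr q hqp hqG, hqp.ne_one, hq2⟩
    have h1 : q ∣ 1 + n := hn' q (hpr q hqp hqG) hqp.ne_one hq2 ▸ hfrob q hqp hqG
    refine ⟨hqp, hq2, hqR, h1, fun hd => hqp.not_dvd_one ((Nat.dvd_add_left hd).1 h1), ?_⟩
    have h3 : (q : ℤ) ∣ ((2 + k * n : ℕ) : ℤ) := Int.natCast_dvd_natCast.2 (hG ▸ hqG)
    have h4 : (q : ℤ) ∣ ((1 + n : ℕ) : ℤ) := Int.natCast_dvd_natCast.2 h1
    have h5 := dvd_sub h3 (h4.mul_left (k : ℤ))
    push_cast at h5
    rwa [show (2 + (k : ℤ) * n - k * (1 + n)) = 2 - k by ring] at h5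
  have hpT : ∀ q : ℕ, q.Prime → q ≠ 2 → q ∣ Nat.card G → q ∈ T := fun q hq h2 hd =>
    Finset.mem_erase.2 ⟨h2, Nat.mem_primeFactors.2 ⟨hq, hd, Nat.card_pos.ne'⟩⟩
  have hsq : ∀ m ∈ Sp, ∀ q ∈ T, ¬ q ^ 2 ∣ m := by
    intro m hm q hq hd
    obtain ⟨hqp, hq2, -, h1, h3, -⟩ := hTR q hq
    refine h3 (Dvd.dvd.trans ?_ (hphiR (q ^ 2) ((hmemR _).2 ⟨hdown m hm _ hd,
      (Nat.one_lt_pow two_ne_zero hqp.one_lt).ne', fun e => ?_⟩)))
    · rw [Nat.totient_prime_pow hqp (by norm_num)]
      exact Dvd.intro (q - 1) (by rw [pow_one])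
    · have : 2 ^ 2 ≤ q ^ 2 := Nat.pow_le_pow_left hqp.two_le 2
      omega
  by_cases h4 : 4 ∈ Sp
  · have h4R : (4 : ℕ) ∈ R := (hmemR 4).2 ⟨h4, by norm_num, by norm_num⟩
    have hn2 : 2 ∣ n := by
      have := hphiR 4 h4R
      rwa [show Nat.totient 4 = 2 from rfl] at this
    have hn4 : ¬ 4 ∣ n := fun hd => by
      have h1 : 4 ∣ 2 + k * n := hG ▸ hprimes 4 h4
      have h2 : 4 ∣ 2 := (Nat.dvd_add_left (hd.mul_left k)).1 h1
      norm_num at h2
    have hR' : ∀ m ∈ R, m = 4 ∨ ∃ q ∈ T, m = q ∨ m = 2 * q := by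
      intro m hm
      obtain ⟨hmS, hm1, hm2⟩ := (hmemR m).1 hm
      by_cases hodd : ∃ q ∈ T, q ∣ m
      · obtain ⟨q, hq, hqm⟩ := hodd
        obtain ⟨hqp, hq2, -⟩ := hTR q hq
        refine Or.inr ⟨q, hq, ?_⟩
        obtain ⟨j, rfl⟩ := hqm
        have hqodd : Odd q := hqp.odd_of_ne_two hq2
        have hqj : Nat.Coprime q j := hqp.coprime_iff_not_dvd.2 fun hd => hsq _ hmS q hq (by
          obtain ⟨i, rfl⟩ := hd; exact ⟨i, by ring⟩)
        have hj : j.totient ∣ 1 := by
          have h1 := hphiR _ hm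
          rw [Nat.totient_mul hqj, Nat.totient_prime hqp] at h1
          rcases Nat.eq_zero_or_pos j with rfl | hj0
          · simp at hm hmS; exact absurd ((hmem 0).1 hmS) fun ⟨g, hg⟩ => (orderOf_pos g).ne' hg
          by_contra hne
          have hev : 2 ∣ j.totient := by
            rcases Nat.lt_or_ge 2 j with h3 | h3
            · exact (Nat.totient_even h3).two_dvd
            · exfalso; apply hne; interval_cases j <;> simp
          exact hn4 (Dvd.dvd.trans (Nat.mul_dvd_mul (Nat.even_iff.mpr (by have := Nat.odd_iff.1 hqodd; omega) |>.two_dvd) hev : 2 * 2 ∣ _) h1)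
        rcases Nat.totient_eq_one_iff.1 (Nat.eq_one_of_dvd_one hj) with rfl | rfl
        · exact Or.inl (mul_one q)
        · exact Or.inr (mul_comm q 2)
      · left
        push Not at hodd
        have h1 : ∀ q : ℕ, q.Prime → q ∣ m → q = 2 := fun q hq hd =>
          by_contra fun h2 => hodd q (hpT q hq h2 (hd.trans (hprimes m hmS))) hd
        obtain ⟨g, rfl⟩ := (hmem m).1 hmS
        obtain ⟨i, hi⟩ : ∃ i, orderOf g = 2 ^ i :=
          ⟨_, Nat.eq_prime_pow_of_unique_prime_dvd (orderOf_pos g).ne' fun {d} hd hdd => h1 d hd hdd⟩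
        rw [hi] at hm1 hm2 ⊢
        rcases i with _ | _ | _ | i
        · exact absurd rfl hm1
        · exact absurd rfl hm2
        · rfl
        · exfalso
          have h8 : (8 : ℕ) ∈ R := (hmemR 8).2 ⟨hdown _ hmS 8 (hi ▸ Dvd.intro (2 ^ i) (by ring)), by norm_num, by norm_num⟩
          have := hphiR 8 h8
          rw [show Nat.totient 8 = 4 from rfl] at this
          exact hn4 this
    by_cases hT0 : T = ∅
    · -- a 2-group of exponent four
      have h2g : IsPGroup 2 G := by
        intro g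
        refine ⟨(orderOf g).factorization 2, ?_⟩
        have h1 : orderOf g = 2 ^ (orderOf g).factorization 2 := by
          obtain ⟨i, hi⟩ : ∃ i, orderOf g = 2 ^ i := ⟨_, Nat.eq_prime_pow_of_unique_prime_dvd (orderOf_pos g).ne'
            fun {d} hd hdd => by_contra fun hne => by
              have := hpT d hd hne (hdd.trans (orderOf_dvd_natCard g))
              rw [hT0] at this
              exact Finset.notMem_empty d this⟩
          rw [hi, Nat.Prime.factorization_pow Nat.prime_two, Finsupp.single_eq_same]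
        rw [← h1]; exact pow_orderOf_eq_one g
      have hexp : ∀ g : G, orderOf g = 1 ∨ orderOf g = 2 ∨ orderOf g = 4 := fun g => by
        by_cases h1 : orderOf g = 1; · exact Or.inl h1
        by_cases h2 : orderOf g = 2; · exact Or.inr (Or.inl h2)
        rcases hR' _ ((hmemR _).2 ⟨(hmem _).2 ⟨g, rfl⟩, h1, h2⟩) with h3 | ⟨q, hq, -⟩
        · exact Or.inr (Or.inr h3)
        · rw [hT0] at hq; exact absurd hq (Finset.notMem_empty q)
      have hcyc4 : IsCyclic G → IsCyclic G ∧ Nat.card G = 4 := fun hG' => by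
        refine ⟨hG', Nat.dvd_antisymm ?_ (hprimes 4 h4)⟩
        rw [← IsCyclic.exponent_eq_card]
        refine Monoid.exponent_dvd_of_forall_pow_eq_one fun g => orderOf_dvd_iff_pow_eq_one.1 ?_
        rcases hexp g with e | e | e <;> rw [e] <;> norm_num
      haveI : Fact (Nat.Prime 2) := ⟨Nat.prime_two⟩
      rcases Cfsg.Lib.UniqueSub.isCyclic_or_quaternion h2g (fun x y hx hy => by
          rw [huz y hy, ← huz x hx]; exact Subgroup.mem_zpowers x) with hG' | ⟨-, a, ⟨e⟩⟩
      · exact Or.inr (Or.inr (Or.inl (hcyc4 hG')))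
      · have ha : a ≤ 1 := by
          have h1 := hexp (e.symm (QuaternionGroup.a 1))
          rw [MulEquiv.orderOf_eq, QuaternionGroup.orderOf_a_one] at h1
          have h2 : 2 * 2 ^ a ≤ 4 := by omega
          by_contra hne
          have : 2 ^ 2 ≤ 2 ^ a := Nat.pow_le_pow_right (by norm_num) (by omega)
          omega
        interval_cases a
        · haveI : IsCyclic (QuaternionGroup (2 ^ 0)) := QuaternionGroup.quaternionGroup_one_isCyclic
          exact Or.inr (Or.inr (Or.inl (hcyc4 (e.isCyclic.2 inferInstance))))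
        · exact Or.inr (Or.inl ⟨e⟩)
    · exfalso
      have hTR2 : R = insert 4 (T ∪ T.image fun q => 2 * q) := by
        ext m
        constructor
        · intro hm
          rcases hR' m hm with rfl | ⟨q, hq, rfl | rfl⟩
          · exact Finset.mem_insert_self _ _
          · exact Finset.mem_insert_of_mem (Finset.mem_union_left _ hq)
          · exact Finset.mem_insert_of_mem (Finset.mem_union_right _ (Finset.mem_image.2 ⟨q, hq, rfl⟩))
        · intro hm
          rcases Finset.mem_insert.1 hm with rfl | hm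
          · exact h4R
          rcases Finset.mem_union.1 hm with hm | hm
          · exact (hTR m hm).2.2.1
          · obtain ⟨q, hq, rfl⟩ := Finset.mem_image.1 hm
            obtain ⟨hqp, hq2, hqR, -⟩ := hTR q hq
            exact (hmemR _).2 ⟨hzmul q ((hmemR q).1 hqR).1 (hqp.odd_of_ne_two hq2), by omega, by have := hqp.two_le; omega⟩
      have hodd : ∀ q ∈ T, Odd q := fun q hq => (hTR q hq).1.odd_of_ne_two (hTR q hq).2.1
      have hk' : k = 1 + 2 * T.card := by
        rw [hk, hTR2, Finset.card_insert_of_notMem, Finset.card_union_of_disjoint, Finset.card_image_of_injective]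
        · ring
        · exact fun a b hab => by simpa using hab
        · rw [Finset.disjoint_right]
          intro m hm hmT
          obtain ⟨q, -, rfl⟩ := Finset.mem_image.1 hm
          have := Nat.odd_iff.1 (hodd _ hmT)
          omega
        · intro h
          rcases Finset.mem_union.1 h with hm | hm
          · have := Nat.odd_iff.1 (hodd _ hm); omega
          · obtain ⟨q, hq, hq4⟩ := Finset.mem_image.1 hm
            have := Nat.odd_iff.1 (hodd _ hq); omega
      have h1 : (∏ q ∈ T, q) ∣ 2 * T.card - 1 := by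
        refine Finset.prod_primes_dvd _ (fun q hq => (hTR q hq).1.prime) fun q hq => ?_
        have h2 := (hTR q hq).2.2.2.2.2
        have h0 : 0 < T.card := Finset.card_pos.2 ⟨q, hq⟩
        rw [← Int.natCast_dvd_natCast]
        rw [← dvd_neg] at h2
        have : ((2 * T.card - 1 : ℕ) : ℤ) = -(2 - (k : ℤ)) := by omega
        rw [this]; exact h2
      have hpos : 0 < T.card := Finset.card_pos.2 (Finset.nonempty_iff_ne_empty.2 hT0)
      have h3 : 3 ^ T.card ≤ ∏ q ∈ T, q := by
        rw [← Finset.prod_const]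
        exact Finset.prod_le_prod' fun q hq => by
          have := (hTR q hq).1.two_le; have := (hTR q hq).2.1; omega
      have h4 := Nat.le_of_dvd (by omega) h1
      have h5 : ∀ t : ℕ, 2 * t ≤ 3 ^ t := fun t => by
        induction t with
        | zero => simp
        | succ t ih => rw [pow_succ]; have := Nat.one_le_pow t 3 (by norm_num); omega
      have := h5 T.card
      omega
  · -- Sylow `2`-subgroup of order two
    haveI : Fact (Nat.Prime 2) := ⟨Nat.prime_two⟩
    have h4n : ¬ 4 ∣ Nat.card G := fun hd => by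
      obtain ⟨K, hK⟩ := Sylow.exists_subgroup_card_pow_prime (G := G) 2 (n := 2) (by simpa using hd)
      have h1 : ∀ y ∈ K, y = 1 ∨ y = z := fun y hy => by
        by_contra hne
        push Not at hne
        have hd := Subgroup.orderOf_dvd_natCard K hy
        rw [hK] at hd
        obtain ⟨i, hi, hio⟩ := (Nat.dvd_prime_pow Nat.prime_two).1 hd
        interval_cases i
        · exact hne.1 (orderOf_eq_one_iff.1 (by simpa using hio))
        · exact hne.2 (huz y (by simpa using hio))
        · exact h4 ((hmem 4).2 ⟨y, by simpa using hio⟩)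
      have h2 : Nat.card K ≤ 2 := by
        rw [Nat.card_eq_fintype_card, Fintype.card_subtype]
        refine (Finset.card_le_card (t := ({1, z} : Finset G)) fun y hy => ?_).trans (Finset.card_le_two)
        simpa using h1 y (Finset.mem_filter.1 hy).2
      rw [hK] at h2; norm_num at h2
    have hodd2 : ∀ m ∈ Sp, ¬ 4 ∣ m := fun m hm hd => h4n (hd.trans (hprimes m hm))
    set O := (Sp.erase 1).filter (fun m => Odd m) with hO
    have hmemO : ∀ m, m ∈ O ↔ m ∈ Sp ∧ m ≠ 1 ∧ Odd m := fun m => by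
      simp only [hO, Finset.mem_filter, Finset.mem_erase]
      exact ⟨fun h => ⟨h.1.2, h.1.1, h.2⟩, fun h => ⟨⟨h.2.1, h.1⟩, h.2.2⟩⟩
    have hRO : R = O ∪ O.image fun m => 2 * m := by
      ext m
      rw [Finset.mem_union, hmemO, hmemR]
      constructor
      · rintro ⟨hm, h1, h2⟩
        rcases Nat.even_or_odd m with he | ho
        · obtain ⟨j, rfl⟩ := he.two_dvd
          refine Or.inr (Finset.mem_image.2 ⟨j, (hmemO j).2 ⟨hdown _ hm j (dvd_mul_left j 2), by omega, ?_⟩, rfl⟩)
          rw [Nat.odd_iff]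
          by_contra hj
          exact hodd2 _ hm ⟨j / 2, by omega⟩
        · exact Or.inl ⟨hm, h1, ho⟩
      · rintro (⟨hm, h1, ho⟩ | hm)
        · refine ⟨hm, h1, fun e => ?_⟩
          subst e
          exact absurd ho (by decide)
        · obtain ⟨j, hj, rfl⟩ := Finset.mem_image.1 hm
          obtain ⟨hj1, hj2, hj3⟩ := (hmemO j).1 hj
          exact ⟨hzmul j hj1 hj3, by omega, by omega⟩
    set s := O.card with hs
    have hks : k = 2 * s := by
      rw [hk, hRO, Finset.card_union_of_disjoint, Finset.card_image_of_injective]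
      · ring
      · exact fun a b hab => by simpa using hab
      · rw [Finset.disjoint_right]
        intro m hm hmO
        obtain ⟨j, -, rfl⟩ := Finset.mem_image.1 hm
        have := Nat.odd_iff.1 ((hmemO _).1 hmO).2.2
        omega
    have hdiv : (∏ q ∈ T, q) ∣ s - 1 := by
      refine Finset.prod_primes_dvd _ (fun q hq => (hTR q hq).1.prime) fun q hq => ?_
      obtain ⟨hqp, hq2, -, -, -, h2⟩ := hTR q hq
      rw [hks] at h2
      have h3 : (q : ℤ) ∣ 2 * ((s - 1 : ℕ) : ℤ) := by
        rw [← dvd_neg] at h2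
        have : 2 * ((s - 1 : ℕ) : ℤ) = -(2 - ((2 * s : ℕ) : ℤ)) := by omega
        rw [this]; exact h2
      have h4 : q ∣ 2 * (s - 1) := by exact_mod_cast h3
      exact (hqp.dvd_mul.1 h4).resolve_left fun h => hq2 ((Nat.prime_dvd_prime_iff_eq hqp Nat.prime_two).1 h)
    have hs1 : s = 1 := by
      by_contra hs'
      have h3 : (insert 1 O).card ≤ 2 ^ T.card := by
        refine le_trans (Finset.card_le_card (t := T.powerset.image fun U => ∏ q ∈ U, q) fun m hm => ?_)
          (Finset.card_image_le.trans (Finset.card_powerset T).le)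
        rcases Finset.mem_insert.1 hm with rfl | hm
        · exact Finset.mem_image.2 ⟨∅, Finset.empty_mem_powerset T, Finset.prod_empty⟩
        · obtain ⟨hm1, -, hm3⟩ := (hmemO m).1 hm
          have hsub : ∀ q ∈ m.primeFactors, q ∈ T := fun q hq => by
            rw [Nat.mem_primeFactors] at hq
            refine hpT q hq.1 ?_ (hq.2.1.trans (hprimes m hm1))
            rintro rfl
            exact (Nat.not_even_iff_odd.2 hm3) (even_iff_two_dvd.2 hq.2.1)
          refine Finset.mem_image.2 ⟨m.primeFactors, Finset.mem_powerset.2 hsub, ?_⟩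
          refine Nat.prod_primeFactors_of_squarefree ?_
          rw [Nat.squarefree_iff_prime_squarefree]
          intro q hq hd
          refine hsq m hm1 q (hsub q (Nat.mem_primeFactors.2 ⟨hq, (dvd_mul_right q q).trans hd, ?_⟩)) (by rwa [pow_two])
          intro e; subst e; exact absurd hm3 (by decide)
      rw [Finset.card_insert_of_notMem (fun h => ((hmemO 1).1 h).2.1 rfl)] at h3
      have h4 : 2 ^ T.card ≤ ∏ q ∈ T, q := by
        rw [← Finset.prod_const]
        exact Finset.prod_le_prod' fun q hq => (hTR q hq).1.two_le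
      have h5 := Nat.le_of_dvd (by omega) hdiv
      omega
    obtain ⟨q, hq⟩ := Finset.card_eq_one.1 hs1
    obtain ⟨hqS, hq1, hqodd⟩ := (hmemO q).1 (hq ▸ Finset.mem_singleton_self q)
    obtain ⟨r, hr, hrq⟩ := Nat.exists_prime_and_dvd hq1
    have hrO : r ∈ O := (hmemO r).2 ⟨hdown q hqS r hrq, hr.ne_one, hqodd.of_dvd_nat hrq⟩
    obtain rfl : r = q := by rw [hq] at hrO; exact Finset.mem_singleton.1 hrO
    obtain ⟨m, hm⟩ : 2 ∣ Nat.card G := hprimes 2 h2S
    have hmodd : Odd m := Nat.odd_iff.2 (by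
      by_contra hne; exact h4n ⟨m / 2, by omega⟩)
    obtain ⟨M, hMn, hMi, hzM⟩ := Cfsg.Lib.Transfer.exists_index_two_not_mem (⊥ : Subgroup G) hmodd
      (by rw [Subgroup.index_bot, hm]) hz (fun g hg => by
        rw [Subgroup.mem_bot] at hg
        have : z = 1 := by
          have := congrArg (fun w => g * w * g⁻¹) hg
          simpa [mul_assoc] using this
        rw [this, orderOf_one] at hz; norm_num at hz)
    have hMcard : Nat.card M = m := by
      have := M.card_mul_index
      rw [hMi, hm, mul_comm] at this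
      omega
    have hMexp : ∀ y : M, y ^ r = 1 := fun y => by
      have hyodd : Odd (orderOf (y : G)) := hmodd.of_dvd_nat (hMcard ▸ Subgroup.orderOf_dvd_natCard M y.2)
      by_cases h1 : orderOf (y : G) = 1
      · exact Subtype.ext (by simp [orderOf_eq_one_iff.1 h1])
      · have : orderOf (y : G) ∈ O := (hmemO _).2 ⟨(hmem _).2 ⟨_, rfl⟩, h1, hyodd⟩
        rw [hq, Finset.mem_singleton] at this
        exact Subtype.ext (this ▸ pow_orderOf_eq_one (y : G))
    have hrM : ∃ y : M, y ≠ 1 := by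
      haveI : Nontrivial M := by
        rw [← Finite.one_lt_card_iff_nontrivial, hMcard]
        have : r ∣ 2 * m := hm ▸ hprimes r hqS
        have := ((Nat.coprime_primes hr Nat.prime_two).2 fun e => by subst e; exact absurd hqodd (by decide)).dvd_of_dvd_mul_left this
        exact lt_of_lt_of_le hr.one_lt (Nat.le_of_dvd hmodd.pos this)
      exact exists_ne 1
    have hexpM : Monoid.exponent M = r := ((Nat.dvd_prime hr).1 (Monoid.exponent_dvd_of_forall_pow_eq_one hMexp)).resolve_left
      fun h1 => by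
        obtain ⟨y, hy⟩ := hrM
        exact hy (by simpa [h1] using Monoid.pow_exponent_eq_one y)
    let eM : Shrink.{0} M ≃* M := Shrink.mulEquiv
    refine Or.inr (Or.inr (Or.inr ⟨r, Shrink.{0} M, inferInstance, inferInstance, hr,
      fun e => by subst e; exact absurd hqodd (by decide), ?_, ?_, ?_⟩))
    · intro y
      refine ⟨1, eM.injective ?_⟩
      rw [map_pow, pow_one, map_one, hMexp]
    · rw [Monoid.exponent_eq_of_mulEquiv eM, hexpM]
    · have hz2 : z * z = 1 := by rw [← pow_two, ← hz]; exact pow_orderOf_eq_one z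
      let f : Multiplicative (ZMod 2) × M →* G :=
        { toFun := fun x => z ^ (Multiplicative.toAdd x.1).val * x.2
          map_one' := by simp
          map_mul' := fun a b => by
            have h1 : z ^ (Multiplicative.toAdd (a.1 * b.1)).val = z ^ (Multiplicative.toAdd a.1).val * z ^ (Multiplicative.toAdd b.1).val := by
              rw [← pow_add, toAdd_mul, ZMod.val_add]
              exact (pow_eq_pow_iff_modEq.2 (by rw [hz]; exact Nat.mod_modEq _ _))
            simp only [Prod.fst_mul, Prod.snd_mul, Subgroup.coe_mul, h1]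
            rw [mul_assoc, mul_assoc, ← mul_assoc (z ^ (Multiplicative.toAdd b.1).val),
              ← ((hzc (a.2 : G)).pow_right _).eq, mul_assoc]}
      have hinj : Function.Injective f := by
        rw [injective_iff_map_eq_one]
        rintro ⟨a, y⟩ hay
        have hay' : z ^ (Multiplicative.toAdd a).val * (y : G) = 1 := hay
        obtain ⟨t, ht, rfl⟩ : ∃ t : ℕ, t < 2 ∧ Multiplicative.ofAdd (t : ZMod 2) = a :=
          ⟨(Multiplicative.toAdd a).val, ZMod.val_lt _, Multiplicative.toAdd.injective (by simp)⟩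
        interval_cases t
        · simp at hay'
          exact Prod.ext (by simp) hay'
        · exfalso
          apply hzM
          have h1 : z = (y : G)⁻¹ := eq_inv_of_mul_eq_one_left (by simpa [ZMod.val_one] using hay')
          rw [h1]; exact M.inv_mem y.2
      have hcard : Nat.card (Multiplicative (ZMod 2) × M) = Nat.card G := by
        rw [Nat.card_prod, hMcard, hm, Nat.card_congr Multiplicative.toAdd, Nat.card_zmod]
      refine ⟨(MulEquiv.ofBijective f ((Nat.bijective_iff_injective_and_card f).2 ⟨hinj, hcard⟩)).symm.trans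
        ((MulEquiv.refl _).prodCongr eM.symm)⟩

end Cfsg.Agent.S3995
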