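import Cfsg.Statements.S1624
import Cfsg.Agent.Spor.J2.U33Unitary
import Cfsg.Agent.Spor.J2.U33Orbits

set_option autoImplicit false
open Quaternion
open Cfsg

namespace Cfsg.Agent.S1624

open Cfsg.Lib.J2 Cfsg.Lib.J2.Unitary

/-- transport of orbit sizes along an isomorphism -/
theorem orbit_transport {G K : Type*} [Group G] [Group K] (e : G ≃* K) (U : Subgroup K) (c : K ⧸ U) :
    ∃ d : G ⧸ U.comap e.toMonoidHom,
      (MulAction.orbit ↥(U.comap e.toMonoidHom) d).ncard = (MulAction.orbit ↥U c).ncard := by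
  have hmk : ∀ a b : G, (a : G ⧸ U.comap e.toMonoidHom) = b ↔ ((e a : K) : K ⧸ U) = e b := by
    intro a b
    rw [QuotientGroup.eq, QuotientGroup.eq, Subgroup.mem_comap]
    show e (a⁻¹ * b) ∈ U ↔ _
    rw [map_mul, map_inv]
  let φ : G ⧸ U.comap e.toMonoidHom → K ⧸ U :=
    Quotient.lift (fun a : G => ((e a : K) : K ⧸ U)) fun a b h => (hmk a b).1 (Quotient.sound h)
  have hφ : Function.Injective φ := by
    intro x y h
    induction x using Quotient.inductionOn with
    | h a =>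
      induction y using Quotient.inductionOn with
      | h b => exact (hmk a b).2 h
  induction c using Quotient.inductionOn' with
  | h k =>
    refine ⟨((e.symm k : G) : G ⧸ U.comap e.toMonoidHom), ?_⟩
    rw [← Set.ncard_image_of_injective _ hφ]
    congr 1
    ext y
    constructor
    · rintro ⟨-, ⟨⟨a, ha⟩, rfl⟩, rfl⟩
      refine ⟨⟨e a, ha⟩, ?_⟩
      show ((e a * k : K) : K ⧸ U) = ((e (a * e.symm k) : K) : K ⧸ U)
      rw [map_mul, e.apply_symm_apply]
    · rintro ⟨⟨b, hb⟩, rfl⟩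
      refine ⟨_, ⟨⟨e.symm b, Subgroup.mem_comap.2 ((e.apply_symm_apply b).symm ▸ hb)⟩, rfl⟩, ?_⟩
      show ((e (e.symm b * e.symm k) : K) : K ⧸ U) = ((b * k : K) : K ⧸ U)
      rw [map_mul, e.apply_symm_apply, e.apply_symm_apply]

/-- The Hall–Janko group contains PSU(3, 3) with index 100 and acts on the 100 cosets with rank 3 and subdegrees 1, 36, 63. -/
theorem result : ∃ H : Subgroup Cfsg.Spor.J2, H.index = 100 ∧ (∃ (F : Type) (_ : Field F) (_ : Fintype F), Fintype.card F = 9 ∧ Nonempty (↥H ≃* Cfsg.PSU 3 F 3)) ∧ ∃ c₁ c₂ : Cfsg.Spor.J2 ⧸ H, (MulAction.orbit ↥H c₁).ncard = 36 ∧ (MulAction.orbit ↥H c₂).ncard = 63 := by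
  refine ⟨sub.comap j2Equiv.toMonoidHom, ?_, ?_, ?_⟩
  · rw [Subgroup.index_comap_of_surjective _ j2Equiv.surjective]
    exact index_u33
  · haveI : Fact (Nat.Prime 3) := ⟨Nat.prime_three⟩
    letI := Fintype.ofFinite (GaloisField 3 2)
    have hF : Fintype.card (GaloisField 3 2) = 9 := by
      rw [← Nat.card_eq_fintype_card, GaloisField.card 3 2 two_ne_zero]; norm_num
    obtain ⟨ψ⟩ := u33_equiv hF
    exact ⟨GaloisField 3 2, inferInstance, inferInstance, hF,
      ⟨(((j2Equiv.subgroupMap (sub.comap j2Equiv.toMonoidHom)).trans (MulEquiv.subgroupCongr (Subgroup.map_comap_eq_self_of_surjective j2Equiv.surjective _))).trans (Subgroup.subgroupOfEquivOfLe u33_le)).trans ψ⟩⟩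
  · obtain ⟨c1, c2, h1, h2⟩ := orbits
    obtain ⟨d1, e1⟩ := orbit_transport j2Equiv sub c1
    obtain ⟨d2, e2⟩ := orbit_transport j2Equiv sub c2
    exact ⟨d1, d2, e1.trans h1, e2.trans h2⟩

end Cfsg.Agent.S1624
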