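import Cfsg.Statements.S1708
-- import your own Cfsg.Agent.* helpers here
import Cfsg.Agent.HNPres.Main

set_option autoImplicit false
open Cfsg

namespace Cfsg.Agent.S1708

open Cfsg.Lib.HNPres in
theorem double_cover_hs : ∃ K : Subgroup (homN0 hn_rels).range, K.Normal ∧ K.index = 2 ∧
    Cfsg.IsNonsplitDoubleCover K Cfsg.Spor.HS := by
  haveI := card_N0.1
  set e : N0 ≃* (homN0 hn_rels).range := MonoidHom.ofInjective homN0_injective
  refine ⟨K0.map e.toMonoidHom, ?_, ?_, ?_⟩
  · haveI : K0.Normal := MonoidHom.normal_ker _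
    exact Subgroup.Normal.map inferInstance _ e.surjective
  · rw [show (K0.map e.toMonoidHom).index = K0.index from Subgroup.index_map_equiv K0 e]
    rw [K0, Subgroup.index_ker]
    have hsur : par0.range = ⊤ := by
      rw [eq_top_iff]
      intro u _
      rcases Int.units_eq_one_or u with rfl | rfl
      · exact one_mem _
      · refine ⟨n0 2, ?_⟩
        rcases Int.units_eq_one_or (par0 (n0 2)) with h | h
        · exact absurd h gens_K0.2.2
        · exact h
    rw [hsur, Subgroup.card_top, Nat.card_eq_fintype_card]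
    rfl
  · obtain ⟨hc, ⟨q⟩, hn⟩ := cover_K0
    have j : ↥K0 ≃* ↥(K0.map e.toMonoidHom) := K0.equivMapOfInjective e.toMonoidHom e.injective
    have hmap : (Subgroup.center K0).map j.toMonoidHom = Subgroup.center ↥(K0.map e.toMonoidHom) := by
      ext g
      constructor
      · rintro ⟨a, ha, rfl⟩
        rw [Subgroup.mem_center_iff]
        intro b
        obtain ⟨b, rfl⟩ := j.surjective b
        show j b * j a = j a * j b
        rw [← map_mul, ← map_mul, Subgroup.mem_center_iff.1 ha b]
      · intro hg
        refine ⟨j.symm g, Subgroup.mem_center_iff.2 fun b => j.injective ?_, j.apply_symm_apply g⟩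
        rw [map_mul, map_mul, j.apply_symm_apply, Subgroup.mem_center_iff.1 hg (j b)]
    refine ⟨?_, ⟨(QuotientGroup.congr _ _ j hmap).symm.trans q⟩, fun L hL => ?_⟩
    · rw [← hmap, Nat.card_congr (Subgroup.equivMapOfInjective _ j.toMonoidHom j.injective).toEquiv.symm, hc]
    · refine hn (L.comap j.toMonoidHom) ?_
      refine Subgroup.isComplement'_of_disjoint_and_mul_eq_univ ?_ ?_
      · rw [Subgroup.disjoint_def]
        intro a ha hb
        refine j.injective ?_
        rw [map_one]
        exact Subgroup.disjoint_def.1 hL.disjoint (hmap ▸ ⟨a, ha, rfl⟩) hb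
      · refine Set.eq_univ_of_forall fun a => ?_
        obtain ⟨⟨c, l⟩, hcl⟩ := hL.2 (j a)
        refine ⟨j.symm c.1, ?_, j.symm l.1, ?_, ?_⟩
        · have hc' : c.1 ∈ (Subgroup.center K0).map j.toMonoidHom := by
            rw [hmap]
            exact c.2
          obtain ⟨b, hb, hbc⟩ := hc'
          rw [← hbc, MulEquiv.coe_toMonoidHom, j.symm_apply_apply]
          exact hb
        · show j (j.symm l.1) ∈ L
          rw [j.apply_symm_apply]
          exact l.2
        · show j.symm c.1 * j.symm l.1 = a
          rw [← map_mul]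
          exact (congrArg j.symm hcl).trans (j.symm_apply_apply a)

/-- In the presented Harada–Norton group, the subgroup N generated by the images of x, y, z has a normal subgroup of index 2 which is a non-split double cover of the Higman–Sims group. -/
theorem result : ∃ K : Subgroup (((Subgroup.closure ({Cfsg.Spor.HN.x, Cfsg.Spor.HN.y, Cfsg.Spor.HN.z} : Set (FreeGroup Cfsg.Spor.HN.Gen))).map (PresentedGroup.mk (Cfsg.Spor.coxRelators Cfsg.Spor.HN.edges ∪ {r | r ∈ Cfsg.Spor.HN.extra})))), K.Normal ∧ K.index = 2 ∧ Cfsg.IsNonsplitDoubleCover K Cfsg.Spor.HS := by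
  rw [← Cfsg.Lib.HNPres.range_homN0]
  exact double_cover_hs

end Cfsg.Agent.S1708
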