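import Cfsg.Statements.S1711
-- import your own Cfsg.Agent.* helpers here
import Cfsg.Agent.J4Pres.Main
import Cfsg.Agent.J4Rep.Basic

set_option autoImplicit false
open Cfsg

namespace Cfsg.Agent.S1711

open Cfsg.Lib.J4Pres in
theorem gens_rels : ∀ r ∈ relSet, FreeGroup.lift (fun b : Bool => (PresentedGroup.mk (Cfsg.Spor.coxRelators
    Cfsg.Spor.J4.edges ∪ {r | r ∈ Cfsg.Spor.J4.extra})) (if b then Cfsg.Spor.J4.x else Cfsg.Spor.J4.y)) r = 1 := by
  intro r hr
  have hm := List.mem_map_of_mem (f := (FreeGroup.lift (fun b : Bool => (PresentedGroup.mk (Cfsg.Spor.coxRelators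
    Cfsg.Spor.J4.edges ∪ {r | r ∈ Cfsg.Spor.J4.extra})) (if b then Cfsg.Spor.J4.x else Cfsg.Spor.J4.y))))
    (show r ∈ relExprs (FreeGroup.of true) (FreeGroup.of false) from hr)
  rw [map_relExprs, FreeGroup.lift_apply_of, FreeGroup.lift_apply_of, if_pos rfl, if_neg Bool.false_ne_true,
    ← map_relExprs, List.mem_map] at hm
  obtain ⟨q, hq, e⟩ := hm
  rw [← e]
  refine PresentedGroup.one_of_mem (Or.inr ?_)
  simp only [relExprs, List.mem_cons, List.not_mem_nil, or_false] at hq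
  show q ∈ Cfsg.Spor.J4.extra
  rcases hq with rfl | rfl | rfl | rfl | rfl | rfl | rfl <;>
    simp [Cfsg.Spor.J4.extra]

/-- The map of the group on two generators into the presented J4. -/
def toJ4 : Cfsg.Lib.J4Pres.P →* Cfsg.Spor.J4 := PresentedGroup.toGroup gens_rels

theorem toJ4_of (b : Bool) : toJ4 (PresentedGroup.of b) = PresentedGroup.mk _
    (if b then Cfsg.Spor.J4.x else Cfsg.Spor.J4.y) := PresentedGroup.toGroup.of gens_rels

theorem toJ4_injective : Function.Injective toJ4 := by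
  haveI := Cfsg.Lib.J4Pres.simple_P
  rw [← MonoidHom.ker_eq_bot_iff]
  refine (IsSimpleGroup.eq_bot_or_eq_top_of_normal toJ4.ker inferInstance).resolve_right fun h => ?_
  have hx : toJ4 (PresentedGroup.of true) = 1 := by
    rw [← MonoidHom.mem_ker, h]
    exact Subgroup.mem_top _
  rw [toJ4_of, if_pos rfl] at hx
  let ψ : Cfsg.Spor.J4 →* Equiv.Perm Cfsg.Lib.J4Rep.Vec :=
    PresentedGroup.toGroup (f := Cfsg.Lib.J4Rep.genPerm) Cfsg.Lib.J4Rep.relators_ok
  have h1 := congrArg ψ hx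
  rw [map_one] at h1
  refine Cfsg.Lib.J4Rep.x_ne_one ?_
  rw [← h1]
  exact ((PresentedGroup.toGroup.of Cfsg.Lib.J4Rep.relators_ok).trans (FreeGroup.lift_apply_of (f := Cfsg.Lib.J4Rep.genPerm)).symm).symm

theorem range_toJ4 : toJ4.range = (Subgroup.closure ({Cfsg.Spor.J4.x, Cfsg.Spor.J4.y} :
    Set (FreeGroup Cfsg.Spor.J4.Gen))).map (PresentedGroup.mk (Cfsg.Spor.coxRelators Cfsg.Spor.J4.edges ∪
      {r | r ∈ Cfsg.Spor.J4.extra})) := by
  rw [MonoidHom.range_eq_map, ← PresentedGroup.closure_range_of Cfsg.Lib.J4Pres.relSet, MonoidHom.map_closure,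
    MonoidHom.map_closure]
  refine congrArg Subgroup.closure (Set.ext fun g => ?_)
  constructor
  · rintro ⟨_, ⟨b, rfl⟩, rfl⟩
    exact ⟨if b then Cfsg.Spor.J4.x else Cfsg.Spor.J4.y, by cases b <;> simp, (toJ4_of b).symm⟩
  · rintro ⟨_, rfl | rfl, rfl⟩
    · exact ⟨_, ⟨true, rfl⟩, toJ4_of true⟩
    · exact ⟨_, ⟨false, rfl⟩, toJ4_of false⟩

/-- In the presented fourth Janko group (generators x, y, t), the subgroup generated by the images of x and y is isomorphic to the Mathieu group M₂₄. -/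
theorem result : Nonempty ((((Subgroup.closure ({Cfsg.Spor.J4.x, Cfsg.Spor.J4.y} : Set (FreeGroup Cfsg.Spor.J4.Gen))).map (PresentedGroup.mk (Cfsg.Spor.coxRelators Cfsg.Spor.J4.edges ∪ {r | r ∈ Cfsg.Spor.J4.extra})))) ≃* Cfsg.M24) := by
  exact ⟨((MonoidHom.ofInjective toJ4_injective).trans (MulEquiv.subgroupCongr range_toJ4)).symm.trans
    Cfsg.Lib.J4Pres.equivM24⟩

end Cfsg.Agent.S1711
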