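import Cfsg.Statements.S0101
import Cfsg.Agent.PGroups.Basic

set_option autoImplicit false
open Cfsg

namespace Cfsg.Agent.S0101

/-- In a perfect central extension, the kernel meets each Sylow p-subgroup P inside the Frattini subgroup of P. -/
theorem result {H : Type*} {G : Type*} [Group H] [Group G] [Finite H] (σ : H →* G) (hσ : Function.Surjective σ) (hc : σ.ker ≤ Subgroup.center H) (hH : commutator H = ⊤) {p : ℕ} [Fact p.Prime] (P : Sylow p H) : σ.ker ⊓ (P : Subgroup H) ≤ (frattini P).map (P : Subgroup H).subtype := by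
  rintro z ⟨hzk, hzP⟩
  refine ⟨⟨z, hzP⟩, ?_, rfl⟩
  simp only [frattini, Order.radical, SetLike.mem_coe, Subgroup.mem_iInf]
  intro M hM
  obtain ⟨hN, hi⟩ := Cfsg.Lib.PGroups.coatom_normal_index P.2 hM
  haveI := hN
  haveI : IsCyclic ((P : Subgroup H) ⧸ M) := isCyclic_of_prime_card (p := p) (by rw [← M.index_eq_card, hi])
  letI : CommGroup ((P : Subgroup H) ⧸ M) := IsCyclic.commGroup
  set φ := QuotientGroup.mk' M
  have h0 : MonoidHom.transfer φ z = 1 :=
    Abelianization.commutator_subset_ker _ (hH.symm ▸ Subgroup.mem_top z)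
  have hkey : ∀ (k : ℕ) (g₀ : H), g₀⁻¹ * z ^ k * g₀ ∈ (P : Subgroup H) → g₀⁻¹ * z ^ k * g₀ = z ^ k := by
    intro k g₀ _
    rw [mul_assoc, ← Subgroup.mem_center_iff.1 (pow_mem (hc hzk) k) g₀, inv_mul_cancel_left]
  rw [MonoidHom.transfer_eq_pow φ z hkey] at h0
  have h1 : φ ⟨z, hzP⟩ ^ (P : Subgroup H).index = 1 := by
    rw [← map_pow]
    exact Eq.trans (congrArg φ (Subtype.ext rfl)) h0
  have h2 : φ ⟨z, hzP⟩ ^ p = 1 := by
    have h3 := pow_card_eq_one' (x := φ ⟨z, hzP⟩)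
    rwa [← M.index_eq_card, hi] at h3
  refine (QuotientGroup.eq_one_iff _).1 (?_ : φ ⟨z, hzP⟩ = 1)
  rw [← orderOf_eq_one_iff]
  exact Nat.eq_one_of_dvd_coprimes ((Fact.out : p.Prime).coprime_iff_not_dvd.2 P.not_dvd_index)
    (orderOf_dvd_of_pow_eq_one h2) (orderOf_dvd_of_pow_eq_one h1)

end Cfsg.Agent.S0101
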