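import Cfsg.Statements.S0102
import Cfsg.Agent.S0101
import Cfsg.Agent.Transfer.Abelian

set_option autoImplicit false
open Cfsg
open scoped commutatorElement

namespace Cfsg.Agent.S0102

/-- A finite perfect group with cyclic Sylow p-subgroups has no perfect central extension whose kernel has order divisible by p. -/
theorem result {G : Type*} {H : Type*} [Group G] [Group H] [Finite G] [Finite H] (hG : commutator G = ⊤) {p : ℕ} [Fact p.Prime] (hcyc : ∀ P : Sylow p G, IsCyclic P) (σ : H →* G) (hσ : Function.Surjective σ) (hz : σ.ker ≤ Subgroup.center H) (hH : commutator H = ⊤) : ¬ p ∣ Nat.card σ.ker := by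
  intro hd
  obtain ⟨a, ha⟩ := exists_prime_orderOf_dvd_card' p hd
  obtain ⟨P⟩ : Nonempty (Sylow p H) := inferInstance
  set z : H := (a : H)
  have hzo : orderOf z = p := by rw [Subgroup.orderOf_coe]; exact ha
  have hzC : z ∈ Subgroup.center H := hz a.2
  -- `z` lies in every Sylow subgroup
  have hzP : z ∈ (P : Subgroup H) := by
    have h1 : IsPGroup p (Subgroup.zpowers z) :=
      IsPGroup.of_card (n := 1) (by rw [Nat.card_zpowers, hzo, pow_one])
    obtain ⟨S, hS⟩ := h1.exists_le_sylow
    obtain ⟨g, hg⟩ := MulAction.exists_smul_eq H S P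
    rw [← hg]
    rw [Cfsg.Lib.Transfer.sylow_smul_coe]
    refine ⟨z, hS (Subgroup.mem_zpowers z), ?_⟩
    show g * z * g⁻¹ = z
    rw [Subgroup.mem_center_iff.1 hzC g, mul_inv_cancel_right]
  have hF := Cfsg.Agent.S0101.result σ hσ hz hH P
  -- `σ P` is cyclic
  obtain ⟨Q, hQ⟩ := (P.2.map σ).exists_le_sylow
  haveI := hcyc Q
  haveI : IsCyclic ((P : Subgroup H).map σ) := Subgroup.isCyclic_of_le hQ
  obtain ⟨⟨_, x, hx, rfl⟩, hgen⟩ := IsCyclic.exists_generator (α := (P : Subgroup H).map σ)
  have htop : Subgroup.zpowers (⟨x, hx⟩ : (P : Subgroup H)) ⊔ frattini (P : Subgroup H) = ⊤ := by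
    rw [eq_top_iff]
    rintro ⟨y, hy⟩ -
    obtain ⟨i, hi⟩ := Subgroup.mem_zpowers_iff.1 (hgen ⟨σ y, y, hy, rfl⟩)
    have hi' : σ x ^ i = σ y := by simpa using congrArg Subtype.val hi
    have hk : (x ^ i)⁻¹ * y ∈ σ.ker ⊓ (P : Subgroup H) := by
      refine Subgroup.mem_inf.2 ⟨?_, mul_mem (inv_mem (zpow_mem hx i)) hy⟩
      show σ ((x ^ i)⁻¹ * y) = 1
      rw [map_mul, map_inv, map_zpow, hi', inv_mul_cancel]
    obtain ⟨f, hf, hfy⟩ := hF hk
    have hy' : (⟨y, hy⟩ : (P : Subgroup H)) = ⟨x, hx⟩ ^ i * f := Subtype.ext (by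
      rw [Subgroup.coe_mul, Subgroup.coe_zpow, show (f : H) = (x ^ i)⁻¹ * y from hfy, mul_inv_cancel_left])
    rw [hy']
    exact Subgroup.mul_mem_sup (zpow_mem (Subgroup.mem_zpowers _) i) hf
  haveI : IsCyclic (P : Subgroup H) := by
    have h2 := frattini_nongenerating htop
    exact ⟨⟨_, fun y => Subgroup.mem_zpowers_iff.1 (h2 ▸ Subgroup.mem_top y)⟩⟩
  -- decompose `P` inside its normaliser
  set M := Subgroup.normalizer ((P : Subgroup H) : Set H)
  set A := (P : Subgroup H).subgroupOf M
  haveI : IsCyclic A := (Subgroup.subgroupOfEquivOfLe Subgroup.le_normalizer).isCyclic.2 inferInstance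
  letI := IsCyclic.commGroup (α := A)
  haveI : IsMulCommutative A := ⟨⟨fun u v => mul_comm u v⟩⟩
  have hHall : (Nat.card A).Coprime A.index := by
    have hdvd : A.index ∣ (P : Subgroup H).index :=
      Subgroup.relIndex_dvd_index_of_le Subgroup.le_normalizer
    refine Nat.Coprime.coprime_dvd_right hdvd ?_
    rw [Nat.card_congr (Subgroup.subgroupOfEquivOfLe Subgroup.le_normalizer).toEquiv]
    exact P.card_coprime_index
  obtain ⟨h1, h2, -⟩ := Cfsg.Lib.Transfer.normal_abelian_hall_decomp A hHall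
  have hbot : commutator M ⊓ A = ⊥ := by
    by_contra hne
    have hp1 : IsPGroup p A := P.2.comap_subtype
    have hdc : p ∣ Nat.card (commutator M ⊓ A : Subgroup M) := by
      rcases (hp1.to_le (inf_le_right : commutator M ⊓ A ≤ A)).card_eq_or_dvd with h | h
      · exact absurd (Subgroup.card_eq_one.1 h) hne
      · exact h
    obtain ⟨w, hw⟩ := exists_prime_orderOf_dvd_card' p hdc
    let wA : A := ⟨w, w.2.2⟩
    let zA : A := ⟨⟨z, Subgroup.le_normalizer hzP⟩, hzP⟩
    have hwo : orderOf wA = p := by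
      rw [← Subgroup.orderOf_coe]; show orderOf (w : M) = p; rw [Subgroup.orderOf_coe]; exact hw
    classical
    haveI := Fintype.ofFinite A
    have hsub : (Subgroup.zpowers wA : Set A).toFinset ⊆ Finset.univ.filter (fun t : A => t ^ p = 1) := by
      intro t ht
      rw [Set.mem_toFinset] at ht
      simp only [Finset.mem_filter, Finset.mem_univ, true_and]
      exact orderOf_dvd_iff_pow_eq_one.1 (hwo ▸ orderOf_dvd_of_mem_zpowers ht)
    have heq := Finset.eq_of_subset_of_card_le hsub (by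
      refine le_trans (IsCyclic.card_pow_eq_one_le (Fact.out : p.Prime).pos) (le_of_eq ?_)
      rw [Set.toFinset_card, ← Nat.card_eq_fintype_card]
      exact (hwo ▸ Nat.card_zpowers wA).symm)
    have hzw : zA ∈ Subgroup.zpowers wA := by
      rw [← SetLike.mem_coe, ← Set.mem_toFinset, heq]
      simp only [Finset.mem_filter, Finset.mem_univ, true_and]
      refine Subtype.ext (Subtype.ext ?_)
      show z ^ p = 1
      rw [← hzo, pow_orderOf_eq_one]
    obtain ⟨i, hi⟩ := hzw
    have hzmem : (⟨z, Subgroup.le_normalizer hzP⟩ : M) ∈ (commutator M ⊓ A) ⊓ (Subgroup.center M ⊓ A) := by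
      refine Subgroup.mem_inf.2 ⟨?_, Subgroup.mem_inf.2 ⟨?_, hzP⟩⟩
      · rw [show (⟨z, Subgroup.le_normalizer hzP⟩ : M) = ((wA ^ i : A) : M) from
          (congrArg Subtype.val hi).symm, Subgroup.coe_zpow]
        exact zpow_mem w.2 i
      · rw [Subgroup.mem_center_iff]
        exact fun g => Subtype.ext (Subgroup.mem_center_iff.1 hzC g)
    rw [h2, Subgroup.mem_bot] at hzmem
    rw [show z = 1 from congrArg Subtype.val hzmem, orderOf_one] at hzo
    exact (Fact.out : p.Prime).ne_one hzo.symm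
  have hNC : M ≤ Subgroup.centralizer ((P : Subgroup H) : Set H) := by
    intro g hg y hy
    have h3 : ⁅(⟨y, Subgroup.le_normalizer hy⟩ : M), (⟨g, hg⟩ : M)⁆ = 1 := by
      rw [← Subgroup.mem_bot, ← hbot, ← h1]
      exact Subgroup.commutator_mem_commutator hy (Subgroup.mem_top _)
    exact congrArg Subtype.val (commutatorElement_eq_one_iff_mul_comm.1 h3)
  have hcomp := MonoidHom.ker_transferSylow_isComplement' P hNC
  have hker : (MonoidHom.transferSylow P hNC).ker = ⊤ := by
    rw [eq_top_iff, ← hH]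
    rw [commutator_eq_closure, Subgroup.closure_le]
    rintro _ ⟨u, v, rfl⟩
    show MonoidHom.transferSylow P hNC ⁅u, v⁆ = 1
    rw [map_commutatorElement, commutatorElement_eq_one_iff_mul_comm]
    exact Subtype.ext (congrArg Subtype.val (IsCyclic.commGroup.mul_comm _ _))
  rw [hker] at hcomp
  have hPbot := Subgroup.isComplement'_top_left.1 hcomp
  rw [hPbot, Subgroup.mem_bot] at hzP
  rw [hzP, orderOf_one] at hzo
  exact (Fact.out : p.Prime).ne_one hzo.symm

end Cfsg.Agent.S0102
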