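import Cfsg.Statements.S0547
import Cfsg.Agent.Coprime.Hall
import Cfsg.Agent.Simplicity.PrimeCriterion

set_option autoImplicit false
open Cfsg

namespace Cfsg.Agent.S0547

/-- Let a finite solvable group G act faithfully and primitively on a set, and let M be a minimal normal subgroup of G. Then M is transitive with trivial point stabilizers, and the number of points equals the order of M, which is a prime power p ^ d with d ≥ 1. -/
theorem result {G : Type*} [Group G] [Finite G] [Group.IsSolvable G] {Ω : Type*} [Nonempty Ω] [MulAction G Ω] [FaithfulSMul G Ω] (hprim : MulAction.IsPreprimitive G Ω) (M : Subgroup G) [M.Normal] (hM : M ≠ ⊥) (hmin : ∀ K : Subgroup G, K.Normal → K ≤ M → K = ⊥ ∨ K = M) : MulAction.IsPretransitive M Ω ∧ (∀ ω : Ω, MulAction.stabilizer M ω = ⊥) ∧ ∃ p d : ℕ, p.Prime ∧ 0 < d ∧ Nat.card Ω = p ^ d ∧ Nat.card M = p ^ d := by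
  haveI := hprim
  haveI htr := Cfsg.Lib.Simplicity.normal_pretransitive (α := Ω) hM
  obtain ⟨hc, p, hp, hMp, -⟩ := Cfsg.Lib.Coprime.minimal_normal_solvable (N := M) inferInstance hM hmin
  haveI := Fact.mk hp
  haveI := hc
  have hst : ∀ ω : Ω, MulAction.stabilizer M ω = ⊥ := by
    intro ω
    rw [Subgroup.eq_bot_iff_forall]
    intro m hm
    refine Subtype.ext (FaithfulSMul.eq_of_smul_eq_smul (α := Ω) fun a => ?_)
    obtain ⟨n, rfl⟩ := MulAction.exists_smul_eq M ω a
    show m • (n • ω) = (1 : G) • (n • ω)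
    rw [one_smul, smul_smul, mul_comm' m n, ← smul_smul, MulAction.mem_stabilizer_iff.1 hm]
  obtain ⟨ω⟩ := ‹Nonempty Ω›
  obtain ⟨d, hd⟩ := hMp.exists_card_eq
  refine ⟨htr, hst, p, d, hp, Nat.pos_of_ne_zero ?_, ?_, hd⟩
  · rintro rfl
    rw [pow_zero] at hd
    exact hM (Subgroup.card_eq_one.1 hd)
  · rw [← MulAction.index_stabilizer_of_transitive M ω, hst ω, Subgroup.index_bot, hd]

end Cfsg.Agent.S0547
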