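import Cfsg.Statements.S0548
import Cfsg.Agent.S0547
import Cfsg.Agent.Simplicity.PrimeCriterion

set_option autoImplicit false
open Cfsg

namespace Cfsg.Agent.S0548

/-- Let a finite solvable group G act faithfully and primitively on a set, let M be a minimal normal subgroup and H the stabilizer of a point. Then H is a complement to M, no non-identity element of H centralizes M, and the only subgroups of M normalized by H are the trivial subgroup and M. -/
theorem result {G : Type*} [Group G] [Finite G] [Group.IsSolvable G] {Ω : Type*} [MulAction G Ω] [FaithfulSMul G Ω] (hprim : MulAction.IsPreprimitive G Ω) (M : Subgroup G) [M.Normal] (hM : M ≠ ⊥) (hmin : ∀ K : Subgroup G, K.Normal → K ≤ M → K = ⊥ ∨ K = M) (ω : Ω) : Subgroup.IsComplement' M (MulAction.stabilizer G ω) ∧ MulAction.stabilizer G ω ⊓ Subgroup.centralizer (M : Set G) = ⊥ ∧ ∀ K : Subgroup G, K ≤ M → MulAction.stabilizer G ω ≤ Subgroup.normalizer (K : Set G) → K = ⊥ ∨ K = M := by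
  haveI : Nonempty Ω := ⟨ω⟩
  obtain ⟨htr, hst, -⟩ := Cfsg.Agent.S0547.result hprim M hM hmin
  haveI := htr
  haveI hc : IsMulCommutative M :=
    (Cfsg.Lib.Coprime.minimal_normal_solvable (N := M) inferInstance hM hmin).1
  set H := MulAction.stabilizer G ω
  have hsup : ∀ g : G, ∃ m ∈ M, ∃ h ∈ H, g = m * h := by
    intro g
    obtain ⟨m, hm⟩ := MulAction.exists_smul_eq M ω (g • ω)
    refine ⟨m, m.2, (m : G)⁻¹ * g, ?_, by group⟩
    rw [MulAction.mem_stabilizer_iff, mul_smul, ← hm]
    exact inv_smul_smul (m : G) ω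
  refine ⟨?_, ?_, ?_⟩
  · refine Subgroup.isComplement'_of_disjoint_and_mul_eq_univ ?_ ?_
    · rw [disjoint_iff, Subgroup.eq_bot_iff_forall]
      rintro x ⟨hxM, hxH⟩
      have h1 : (⟨x, hxM⟩ : M) ∈ MulAction.stabilizer M ω := hxH
      rw [hst, Subgroup.mem_bot] at h1
      exact congrArg Subtype.val h1
    · rw [Set.eq_univ_iff_forall]
      intro g
      obtain ⟨m, hm, h, hh, rfl⟩ := hsup g
      exact Set.mul_mem_mul hm hh
  · rw [Subgroup.eq_bot_iff_forall]
    rintro x ⟨hxH, hxC⟩
    refine FaithfulSMul.eq_of_smul_eq_smul (α := Ω) fun a => ?_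
    obtain ⟨n, rfl⟩ := MulAction.exists_smul_eq M ω a
    rw [one_smul]
    show x • ((n : G) • ω) = (n : G) • ω
    rw [smul_smul, ← hxC n n.2, ← smul_smul, MulAction.mem_stabilizer_iff.1 hxH]
  · intro K hK hHK
    refine hmin K ?_ hK
    refine Subgroup.normalizer_eq_top_iff.1 (eq_top_iff.2 fun g _ => ?_)
    obtain ⟨m, hm, h, hh, rfl⟩ := hsup g
    refine mul_mem ?_ (hHK hh)
    rw [Subgroup.mem_normalizer_iff]
    intro y
    have hcy : ∀ z ∈ M, m * z * m⁻¹ = z := fun z hz => by
      rw [show m * z = z * m from congrArg Subtype.val (mul_comm' (⟨m, hm⟩ : M) ⟨z, hz⟩), mul_inv_cancel_right]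
    constructor
    · intro hy; rwa [hcy y (hK hy)]
    · intro hy
      have h1 : y = m * y * m⁻¹ := by
        have h2 := hcy _ (hK hy)
        have h3 := mul_left_cancel (mul_right_cancel (h2 : m * (m * y * m⁻¹) * m⁻¹ = m * y * m⁻¹))
        exact h3.symm
      rwa [h1]

end Cfsg.Agent.S0548
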