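import Cfsg.Statements.S0601
import Cfsg.Agent.Thompson.ElemToolkit

set_option autoImplicit false
open Cfsg

namespace Cfsg.Agent.S0601

open scoped commutatorElement
open Cfsg.Lib.ElemToolkit

/-- When O_p(G) contains its centralizer, the normal closure of Ω₁(Z(S)) is elementary abelian and G has no nontrivial normal p-subgroup modulo its centralizer. -/
theorem result {G : Type*} [Group G] [Finite G] {p : ℕ} [Fact p.Prime] (hc : Subgroup.centralizer (Cfsg.pCore p G : Set G) ≤ Cfsg.pCore p G) : (⨆ S : Sylow p G, Cfsg.omegaOne p (((S : Subgroup G)) ⊓ Subgroup.centralizer ((S : Subgroup G) : Set G))).Normal ∧ Cfsg.IsElementaryAbelian p (⨆ S : Sylow p G, Cfsg.omegaOne p (((S : Subgroup G)) ⊓ Subgroup.centralizer ((S : Subgroup G) : Set G))) ∧ ∀ D : Subgroup G, D.Normal → Subgroup.centralizer ((⨆ S : Sylow p G, Cfsg.omegaOne p (((S : Subgroup G)) ⊓ Subgroup.centralizer ((S : Subgroup G) : Set G)) : Subgroup G) : Set G) ≤ D → (∃ k : ℕ, (Subgroup.centralizer ((⨆ S : Sylow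 p G, Cfsg.omegaOne p (((S : Subgroup G)) ⊓ Subgroup.centralizer ((S : Subgroup G) : Set G)) : Subgroup G) : Set G)).relIndex D = p ^ k) → D = Subgroup.centralizer ((⨆ S : Sylow p G, Cfsg.omegaOne p (((S : Subgroup G)) ⊓ Subgroup.centralizer ((S : Subgroup G) : Set G)) : Subgroup G) : Set G) := by
  set V := ⨆ S : Sylow p G, Cfsg.omegaOne p (((S : Subgroup G)) ⊓ Subgroup.centralizer ((S : Subgroup G) : Set G)) with hVdef
  have hO : ∀ S : Sylow p G, Cfsg.pCore p G ≤ (S : Subgroup G) := fun S =>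
    sup_eq_left.1 (S.is_maximal' (S.isPGroup'.to_sup_of_normal_right (Cfsg.Lib.Components.isPGroup_pCore p)) le_sup_left)
  have hsmall : ∀ S : Sylow p G,
      Cfsg.omegaOne p ((S : Subgroup G) ⊓ Subgroup.centralizer ((S : Subgroup G) : Set G)) ≤
        (S : Subgroup G) ⊓ Subgroup.centralizer ((S : Subgroup G) : Set G) :=
    fun S => (Subgroup.closure_le _).2 fun x hx => hx.1
  have hcen : ∀ S : Sylow p G,
      Cfsg.omegaOne p ((S : Subgroup G) ⊓ Subgroup.centralizer ((S : Subgroup G) : Set G)) ≤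
        Cfsg.pCore p G ⊓ Subgroup.centralizer (Cfsg.pCore p G : Set G) := fun S => by
    have h1 := ((hsmall S).trans inf_le_right).trans (Subgroup.centralizer_le (hO S))
    exact le_inf (h1.trans hc) h1
  have hZc : ∀ x y : G, x ∈ V → y ∈ V → x * y = y * x := fun x y hx hy => by
    have hx' := (iSup_le hcen : V ≤ _) hx
    have hy' := (iSup_le hcen : V ≤ _) hy
    exact (Subgroup.mem_centralizer_iff.1 hy'.2 x hx'.1)
  have hel : Cfsg.IsElementaryAbelian p V := by
    refine ⟨⟨⟨fun x y => Subtype.ext (hZc x y x.2 y.2)⟩⟩, fun x hx => ?_⟩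
    have hgen : V ≤ Subgroup.closure {x : G | x ∈ V ∧ x ^ p = 1} := iSup_le fun S =>
      Subgroup.closure_mono fun x hx => ⟨Subgroup.mem_iSup_of_mem S (Subgroup.subset_closure hx), hx.2⟩
    have hx' := hgen hx
    suffices ∀ y ∈ Subgroup.closure {x : G | x ∈ V ∧ x ^ p = 1}, y ∈ V ∧ y ^ p = 1 from (this x hx').2
    intro y hy
    induction hy using Subgroup.closure_induction with
    | mem w hw => exact hw
    | one => exact ⟨one_mem _, one_pow _⟩
    | mul u v _ _ ihu ihv =>
      exact ⟨mul_mem ihu.1 ihv.1, by rw [(show Commute u v from hZc u v ihu.1 ihv.1).mul_pow, ihu.2, ihv.2, one_mul]⟩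
    | inv u _ ih => exact ⟨inv_mem ih.1, by rw [inv_pow, ih.2, inv_one]⟩
  have hn : V.Normal := by
    refine ⟨fun x hx g => ?_⟩
    suffices h : V ≤ V.comap (MulAut.conj g).toMonoidHom from h hx
    refine iSup_le fun S => (Subgroup.closure_le _).2 fun z ⟨⟨hzS, hzC⟩, hzp⟩ => ?_
    show g * z * g⁻¹ ∈ V
    refine Subgroup.mem_iSup_of_mem (g • S) (Subgroup.subset_closure ⟨⟨?_, ?_⟩, by rw [conj_pow, hzp]; group⟩)
    · rw [Sylow.coe_subgroup_smul]
      exact ⟨z, hzS, rfl⟩
    · refine Subgroup.mem_centralizer_iff.2 fun w hw => ?_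
      rw [Sylow.coe_subgroup_smul] at hw
      obtain ⟨u, hu, rfl⟩ := hw
      show g * u * g⁻¹ * (g * z * g⁻¹) = g * z * g⁻¹ * (g * u * g⁻¹)
      calc g * u * g⁻¹ * (g * z * g⁻¹) = g * (u * z) * g⁻¹ := by group
        _ = _ := by rw [Subgroup.mem_centralizer_iff.1 hzC u hu]; group
  refine ⟨hn, hel, fun D hD hle hk => ?_⟩
  obtain ⟨k, hk⟩ := hk
  haveI := hn
  haveI := hD
  set C := Subgroup.centralizer (V : Set G) with hCdef
  have hgen : V = ⨆ S : Sylow p G, V ⊓ Subgroup.centralizer ((S : Subgroup G) : Set G) :=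
    le_antisymm (iSup_mono fun S => le_inf (le_iSup (fun T : Sylow p G =>
      Cfsg.omegaOne p ((T : Subgroup G) ⊓ Subgroup.centralizer ((T : Subgroup G) : Set G))) S)
      ((hsmall S).trans inf_le_right)) (iSup_le fun S => inf_le_left)
  have hcard : Nat.card ↥(D.map (QuotientGroup.mk' C)) = p ^ k := by
    rw [← hk, Subgroup.relIndex]
    let φ := (QuotientGroup.mk' C).subgroupMap D
    rw [Subgroup.index_eq_card]
    refine (Nat.card_congr ((QuotientGroup.quotientMulEquivOfEq (M := φ.ker) (N := C.subgroupOf D) ?_).symm.trans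
      (QuotientGroup.quotientKerEquivOfSurjective φ ((QuotientGroup.mk' C).subgroupMap_surjective D))).toEquiv).symm
    ext x
    rw [MonoidHom.mem_ker, Subgroup.mem_subgroupOf, ← QuotientGroup.eq_one_iff]
    exact Subtype.ext_iff
  haveI : (D.map (QuotientGroup.mk' C)).Normal := hD.map _ (QuotientGroup.mk'_surjective C)
  have h1 := Cfsg.Lib.Components.le_pCore (IsPGroup.of_card hcard)
  rw [pCore_eq_bot V hgen, le_bot_iff, Subgroup.map_eq_bot_iff, QuotientGroup.ker_mk'] at h1
  exact le_antisymm h1 hle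

end Cfsg.Agent.S0601
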