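import Cfsg.Statements.S0606
import Cfsg.Agent.Thompson.ElemToolkit

set_option autoImplicit false
open Cfsg

namespace Cfsg.Agent.S0606

open scoped commutatorElement
open Cfsg.Lib.ElemToolkit

/-- Elementary abelian p-subgroups of maximal order are best offenders on any normal elementary abelian p-subgroup. -/
theorem result {G : Type*} [Group G] [Finite G] {p : ℕ} [Fact p.Prime] (V : Subgroup G) [V.Normal] (hV : Cfsg.IsElementaryAbelian p V) (A : Subgroup G) (hA : A ∈ Cfsg.maxElementaryAbelianSubgroups p G) : Cfsg.IsBestOffenderOn p V A := by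
  refine ⟨fun B hB => ?_, ?_, fun a ha => ?_⟩
  · set C := V ⊓ Subgroup.centralizer (B : Set G) with hC
    have hel : Cfsg.IsElementaryAbelian p (B ⊔ C) :=
      elementary_sup (elementary_mono hB hA.1) (elementary_mono inf_le_left hV)
        fun b hb c hc => Subgroup.mem_centralizer_iff.1 hc.2 b hb
    have hle : B ⊓ C ≤ V ⊓ Subgroup.centralizer (A : Set G) :=
      le_inf (inf_le_right.trans inf_le_left) fun x hx => Subgroup.mem_centralizer_iff.2 fun a ha =>
        (comm_of hA.1.1 (hB hx.1) ha).symm
    exact (mul_card_le B C).trans (Nat.mul_le_mul (hA.2 _ hel) (card_le_card_of_le hle))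
  · refine (Subgroup.commutator_le.2 fun a ha b hb => ?_)
    rw [commutatorElement_eq_one_iff_mul_comm.2 (comm_of hA.1.1 ha hb)]
    exact one_mem _
  · rw [hA.1.2 a ha]; exact one_mem _

end Cfsg.Agent.S0606
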