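import Cfsg.Statements.S5357
import Cfsg.Agent.Classical.Misc.Reflections

set_option autoImplicit false
open scoped MatrixGroups
open Cfsg

namespace Cfsg.Agent.S5357


open QuadraticMap Matrix

variable {n : ℕ} (Q : QuadraticForm (ZMod 3) (Fin n → ZMod 3))

local notation "𝔅" => QuadraticMap.polarBilin Q

theorem bil (x y : Fin n → ZMod 3) : polar (⇑Q) x y = 𝔅 x y := rfl

/-- an anisotropic vector orthogonal to fewer than `n` orthogonal anisotropic vectors -/
theorem exists_aniso (hQ : (QuadraticMap.polarBilin Q).Nondegenerate) {k : ℕ} (hk : k < n)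
    (S : Fin k → (Fin n → ZMod 3)) (hS : ∀ i, Q (S i) ≠ 0) (horth : ∀ i j, i ≠ j → 𝔅 (S i) (S j) = 0) :
    ∃ x, Q x ≠ 0 ∧ ∀ i, 𝔅 x (S i) = 0 := by
  classical
  by_contra hcon
  push Not at hcon
  let φ : (Fin n → ZMod 3) →ₗ[ZMod 3] (Fin k → ZMod 3) := LinearMap.pi fun i => (𝔅).flip (S i)
  obtain ⟨w, hw, hw0⟩ : ∃ w, φ w = 0 ∧ w ≠ 0 := by
    by_contra h
    push Not at h
    have hi : Function.Injective φ := (injective_iff_map_eq_zero φ).mpr h
    have := LinearMap.finrank_le_finrank_of_injective hi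
    simp only [Module.finrank_pi, Fintype.card_fin] at this
    omega
  have hwS : ∀ i, 𝔅 w (S i) = 0 := fun i => congrFun hw i
  have hW : ∀ x, (∀ i, 𝔅 x (S i) = 0) → Q x = 0 := fun x hx => by
    by_contra h
    obtain ⟨i, hi⟩ := hcon x h
    exact hi (hx i)
  apply hw0
  refine hQ.1 w fun x => ?_
  set x' := x - ∑ i, ((Q (S i))⁻¹ * (2 * 𝔅 x (S i))) • S i with hx'
  have hx'S : ∀ j, 𝔅 x' (S j) = 0 := by
    intro j
    rw [hx', map_sub, LinearMap.sub_apply, map_sum, LinearMap.sum_apply,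
      Finset.sum_eq_single j (fun i _ hij => by
        rw [map_smul, LinearMap.smul_apply, horth i j hij, smul_zero])
        (fun h => absurd (Finset.mem_univ j) h),
      map_smul, LinearMap.smul_apply, ← bil Q (S j) (S j), polar_self, smul_eq_mul]
    have key : ∀ q t : ZMod 3, q ≠ 0 → t - q⁻¹ * (2 * t) * (2 • q) = 0 := by decide +kernel
    exact key _ _ (hS j)
  have h1 : 𝔅 w x' = 0 := by
    have e1 := hW (w + x') (fun i => by rw [map_add, LinearMap.add_apply, hwS, hx'S, add_zero])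
    rw [QuadraticMap.map_add (f := Q), hW w hwS, hW x' hx'S, zero_add, zero_add] at e1
    exact e1
  have h2 : 𝔅 w x = 𝔅 w x' + 𝔅 w (∑ i, ((Q (S i))⁻¹ * (2 * 𝔅 x (S i))) • S i) := by
    rw [← map_add, hx', sub_add_cancel]
  rw [h2, h1, zero_add, map_sum]
  exact Finset.sum_eq_zero fun i _ => by rw [map_smul, hwS, smul_zero]

theorem exists_orth_val (hQ : (QuadraticMap.polarBilin Q).Nondegenerate) {k : ℕ} (hk : k + 1 < n)
    (S : Fin k → (Fin n → ZMod 3)) (hS : ∀ i, Q (S i) ≠ 0) (horth : ∀ i j, i ≠ j → 𝔅 (S i) (S j) = 0)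
    {t : ZMod 3} (ht : t ≠ 0) : ∃ x, Q x = t ∧ ∀ i, 𝔅 x (S i) = 0 := by
  obtain ⟨a, ha, haS⟩ := exists_aniso Q hQ (by omega) S hS horth
  have hsym : ∀ x y, 𝔅 x y = 𝔅 y x := fun x y => polar_comm (⇑Q) x y
  obtain ⟨b, hb, hbS⟩ := exists_aniso Q hQ hk (Fin.cons a S)
    (fun i => Fin.cases ha hS i) (fun i j hij => by
      induction i using Fin.cases with
      | zero =>
        induction j using Fin.cases with
        | zero => exact absurd rfl hij
        | succ j => simpa using haS j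
      | succ i =>
        induction j using Fin.cases with
        | zero => simpa [hsym (S i) a] using haS i
        | succ j => simpa using horth i j fun h => hij (by rw [h]))
  have hba : 𝔅 b a = 0 := by simpa using hbS 0
  have hbS' : ∀ i, 𝔅 b (S i) = 0 := fun i => by simpa using hbS i.succ
  have key : ∀ x y t : ZMod 3, x ≠ 0 → y ≠ 0 → t ≠ 0 → x = t ∨ y = t ∨ y + x = t := by decide +kernel
  rcases key _ _ _ ha hb ht with h | h | h
  · exact ⟨a, h, haS⟩
  · exact ⟨b, h, hbS'⟩
  · refine ⟨b + a, ?_, fun i => by rw [map_add, LinearMap.add_apply, hbS', haS, add_zero]⟩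
    rw [QuadraticMap.map_add (f := Q), bil, hba, add_zero]
    exact h


/-- Let Q be a non-degenerate quadratic form on the n-dimensional coordinate space over the field with three elements, n ≥ 5, and c a non-zero scalar. In the subgroup of the isometry group of Q generated by the reflections in vectors v with Q(v) = c, these reflections form a single conjugacy class of 3-transpositions generating that subgroup. -/
theorem result (n : ℕ) (hn : 5 ≤ n) (Q : QuadraticForm (ZMod 3) (Fin n → ZMod 3)) (hQ : (QuadraticMap.polarBilin Q).Nondegenerate) (c : ZMod 3) (hc : c ≠ 0) : Cfsg.IsThreeTranspositionClass {g : ↥(Cfsg.reflectionSubgroup (⇑Q) c) | (g : ↥(Cfsg.isometryGroup (ZMod 3) (⇑Q))) ∈ Cfsg.reflectionsOfNorm (⇑Q) c} := by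
  classical
  set K := Cfsg.reflectionSubgroup (⇑Q) c
  let B := QuadraticMap.polarBilin Q
  obtain ⟨R, hR⟩ : ∃ R : (v : Fin n → ZMod 3) → Q v = c → K, R = fun v hv =>
      ⟨Cfsg.Lib.Classical.Refl.refl Q v (hv ▸ hc), Subgroup.subset_closure ⟨v, hv, rfl⟩⟩ := ⟨_, rfl⟩
  set D : Set K := {g | (g : ↥(Cfsg.isometryGroup (ZMod 3) (⇑Q))) ∈ Cfsg.reflectionsOfNorm (⇑Q) c}
  let M : K → Matrix (Fin n) (Fin n) (ZMod 3) := fun g =>
    (((g : Cfsg.isometryGroup (ZMod 3) (⇑Q)) : Matrix.GeneralLinearGroup (Fin n) (ZMod 3)) :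
      Matrix (Fin n) (Fin n) (ZMod 3))
  have hM : ∀ g h, M g = M h → g = h := fun g h e => Subtype.ext (Subtype.ext (Units.ext e))
  have hMm : ∀ g h, M (g * h) = M g * M h := fun g h => rfl
  have hD : ∀ g, g ∈ D ↔ ∃ v hv, g = R v hv := fun g =>
    ⟨fun ⟨v, hv, e⟩ => ⟨v, hv, hM _ _ (by rw [hR]; exact e)⟩, fun ⟨v, hv, e⟩ => ⟨v, hv, by rw [e, hR]; rfl⟩⟩
  have happ : ∀ v hv x, M (R v hv) *ᵥ x = x - (c⁻¹ * B v x) • v := fun v hv x => by
    rw [hR]
    show Cfsg.reflectionMatrix (⇑Q) v *ᵥ x = _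
    rw [Cfsg.Lib.Classical.Refl.mulVec_eq, hv]; rfl
  have hiso : ∀ (g : K) x, Q (M g *ᵥ x) = Q x := fun g =>
    (Cfsg.Lib.Classical.Refl.mem_iff Q).mp (g : Cfsg.isometryGroup (ZMod 3) (⇑Q)).2
  have hB : ∀ (g : K) x y, B (M g *ᵥ x) (M g *ᵥ y) = B x y := fun g x y => by
    show QuadraticMap.polar (⇑Q) _ _ = QuadraticMap.polar (⇑Q) _ _
    simp only [QuadraticMap.polar, ← Matrix.mulVec_add, hiso]
  have hconj : ∀ (g : K) v hv, g * R v hv = R (M g *ᵥ v) ((hiso g v).trans hv) * g := by
    intro g v hv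
    refine hM _ _ (Matrix.toLin'.injective (LinearMap.ext fun x => ?_))
    simp only [Matrix.toLin'_apply, hMm, ← Matrix.mulVec_mulVec, happ, Matrix.mulVec_sub,
      Matrix.mulVec_smul, hB]
  have hinv : ∀ v hv, R v hv * R v hv = 1 := by
    intro v hv
    refine hM _ _ (Matrix.toLin'.injective (LinearMap.ext fun x => ?_))
    have e : M (R v hv) *ᵥ v = -v := by rw [hR]; exact Cfsg.Lib.Classical.Refl.self Q v (hv ▸ hc)
    rw [Matrix.toLin'_apply, Matrix.toLin'_apply, hMm, ← Matrix.mulVec_mulVec, happ v hv x,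
      Matrix.mulVec_sub, Matrix.mulVec_smul, e, happ v hv x]
    show _ = (1 : Matrix (Fin n) (Fin n) (ZMod 3)) *ᵥ x
    rw [Matrix.one_mulVec]
    module
  have hord : ∀ v hv, orderOf (R v hv) = 2 := fun v hv => by
    refine orderOf_eq_prime (by rw [pow_two, hinv]) fun h => ?_
    have e : M (R v hv) *ᵥ v = -v := by rw [hR]; exact Cfsg.Lib.Classical.Refl.self Q v (hv ▸ hc)
    rw [h, show M 1 = 1 from rfl, Matrix.one_mulVec] at e
    apply hc
    have hv0 : v = 0 := funext fun i => by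
      have key : ∀ x : ZMod 3, x = -x → x = 0 := by decide +kernel
      exact key _ (congrFun e i)
    rw [← hv, hv0, map_zero]
  have hneg : ∀ v hv hv', R (-v) hv' = R v hv := fun v hv hv' => by
    refine hM _ _ (Matrix.toLin'.injective (LinearMap.ext fun x => ?_))
    simp only [Matrix.toLin'_apply, happ, map_neg, LinearMap.neg_apply]
    module
  have hext : ∀ u v hu hv, u = v → R u hu = R v hv := fun u v hu hv e => by subst e; rfl
  have hcj : ∀ u hu v hv, R u hu * R v hv * R u hu =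
      R (M (R u hu) *ᵥ v) ((hiso _ v).trans hv) := fun u hu v hv => by
    rw [hconj (R u hu) v hv, mul_assoc, hinv, mul_one]
  have hbraid : ∀ u hu v hv, B u v ≠ 0 → R u hu * R v hv * R u hu = R v hv * R u hu * R v hv := by
    intro u hu v hv huv
    rw [hcj, hcj]
    have key : ∀ c b : ZMod 3, c ≠ 0 → b ≠ 0 → c⁻¹ * b = 1 ∨ c⁻¹ * b = -1 := by decide +kernel
    have hs : B v u = B u v := QuadraticMap.polar_comm (⇑Q) v u
    rcases key c (B u v) hc huv with h | h
    · have e : M (R u hu) *ᵥ v = -(M (R v hv) *ᵥ u) := by rw [happ, happ, hs, h]; module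
      rw [hext _ _ _ (by rw [QuadraticMap.map_neg]; exact (hiso _ u).trans hu) e, hneg _ ((hiso _ u).trans hu)]
    · exact hext _ _ _ _ (by rw [happ, happ, hs, h]; module)
  have hclass : ∀ u hu v hv, ∃ g : K, g * R u hu * g⁻¹ = R v hv := by
    have step : ∀ u hu v hv, B u v ≠ 0 → ∃ g : K, g * R u hu * g⁻¹ = R v hv := by
      intro u hu v hv huv
      refine ⟨R u hu * R v hv, ?_⟩
      rw [mul_inv_eq_iff_eq_mul, hbraid u hu v hv huv, ← mul_assoc]
    intro u hu v hv
    by_cases huv : B u v = 0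
    swap
    · exact step u hu v hv huv
    have hvu : B v u = 0 := (QuadraticMap.polar_comm (⇑Q) v u).trans huv
    obtain ⟨x, hx, hxS⟩ := exists_orth_val Q hQ (k := 2) (by omega) ![u, v]
      (fun i => by fin_cases i <;> simp [hu, hv, hc])
      (fun i j hij => by
        fin_cases i <;> fin_cases j
        · exact absurd rfl hij
        · exact huv
        · exact hvu
        · exact absurd rfl hij) (neg_ne_zero.mpr hc)
    have hxu : B x u = 0 := hxS 0
    have hxv : B x v = 0 := hxS 1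
    have hw : Q (u + v + x) = c := by
      rw [QuadraticMap.map_add (f := Q), QuadraticMap.map_add (f := Q), QuadraticMap.polar_add_left,
        QuadraticMap.polar_comm (⇑Q) u x, QuadraticMap.polar_comm (⇑Q) v x]
      change Q u + Q v + B u v + Q x + (B x u + B x v) = c
      rw [huv, hxu, hxv, hu, hv, hx]; ring
    have hcc : c + c ≠ 0 := by
      have key : ∀ c : ZMod 3, c ≠ 0 → c + c ≠ 0 := by decide +kernel
      exact key c hc
    obtain ⟨g, hg⟩ := step u hu (u + v + x) hw (by
      rw [map_add, map_add, huv, show B u x = 0 from (QuadraticMap.polar_comm (⇑Q) u x).trans hxu,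
        show B u u = c + c from by
          show QuadraticMap.polar (⇑Q) u u = _
          rw [QuadraticMap.polar_self, hu, two_nsmul], add_zero, add_zero]
      exact hcc)
    obtain ⟨k, hk⟩ := step (u + v + x) hw v hv (by
      rw [map_add, map_add, LinearMap.add_apply, LinearMap.add_apply, huv, hxv,
        show B v v = c + c from by
          show QuadraticMap.polar (⇑Q) v v = _
          rw [QuadraticMap.polar_self, hv, two_nsmul], zero_add, add_zero]
      exact hcc)
    exact ⟨k * g, by rw [← hk, ← hg]; group⟩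
  refine ⟨⟨?_, ?_⟩, ?_, ?_⟩
  · rintro g hg
    obtain ⟨v, hv, rfl⟩ := (hD g).mp hg
    exact hord v hv
  · rintro g hg h hh
    obtain ⟨u, hu, rfl⟩ := (hD g).mp hg
    obtain ⟨v, hv, rfl⟩ := (hD h).mp hh
    by_cases huv : B u v = 0
    · left
      have e : R u hu * R v hv * R u hu = R v hv := by
        rw [hcj]
        exact hext _ _ _ _ (by rw [happ, huv, mul_zero, zero_smul, sub_zero])
      rw [pow_two, ← mul_assoc, e, hinv]
    · right
      have e : (R u hu * R v hv) ^ 3 = (R u hu * R v hv * R u hu) * (R v hv * R u hu * R v hv) := by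
        simp only [pow_succ, pow_zero, one_mul, mul_assoc]
      rw [e, ← hbraid u hu v hv huv, hcj, hinv]
  · obtain ⟨u, hu, -⟩ := exists_orth_val Q hQ (k := 0) (by omega) (fun i => i.elim0) (fun i => i.elim0)
      (fun i => i.elim0) hc
    refine ⟨R u hu, (hD _).mpr ⟨u, hu, rfl⟩, Set.ext fun g => ⟨fun hg => ?_, fun hg => ?_⟩⟩
    · obtain ⟨v, hv, rfl⟩ := (hD g).mp hg
      exact isConj_iff.mpr (hclass u hu v hv)
    · obtain ⟨h, rfl⟩ := isConj_iff.mp hg
      refine (hD _).mpr ⟨_, (hiso h u).trans hu, ?_⟩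
      rw [hconj, mul_inv_cancel_right]
  · have e : D = K.subtype ⁻¹' Cfsg.reflectionsOfNorm (⇑Q) c := rfl
    rw [e]
    exact Subgroup.closure_closure_coe_preimage

end Cfsg.Agent.S5357
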