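import Mathlib
import Cfsg.Statements.S5358
-- import your own Cfsg.Agent.* helpers here

set_option autoImplicit false
open scoped MatrixGroups
open Cfsg

namespace Cfsg.Agent.S5358

/-- Let Q be a non-degenerate quadratic form on the n-dimensional coordinate space over the field with three elements and u, v vectors of the same non-zero norm Q(u) = Q(v) spanning different lines (v ≠ u and v ≠ −u). Then the reflection matrices of u and v commute if and only if u and v are orthogonal for the polar form of Q. -/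
theorem result (n : ℕ) (Q : QuadraticForm (ZMod 3) (Fin n → ZMod 3)) (hQ : (QuadraticMap.polarBilin Q).Nondegenerate) (u v : Fin n → ZMod 3) (hu : Q u ≠ 0) (huv : Q u = Q v) (h1 : v ≠ u) (h2 : v ≠ -u) : Commute (Cfsg.reflectionMatrix (⇑Q) u) (Cfsg.reflectionMatrix (⇑Q) v) ↔ QuadraticMap.polar (⇑Q) u v = 0 := by
  set R := Cfsg.reflectionMatrix (⇑Q) with hR
  have hf : ∀ w x : Fin n → ZMod 3, (Cfsg.polarVec (⇑Q) w) ⬝ᵥ x = QuadraticMap.polar (⇑Q) w x := fun w x => by
    have hlin : ∀ y, QuadraticMap.polar (⇑Q) w y = QuadraticMap.polarBilin Q w y := fun y => rfl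
    rw [hlin]
    conv_rhs => rw [pi_eq_sum_univ' x, map_sum]
    simp only [dotProduct, Cfsg.polarVec, map_smul, smul_eq_mul, hlin, mul_comm]
  have hf' : ∀ w x : Fin n → ZMod 3, x ⬝ᵥ (Cfsg.polarVec (⇑Q) w) = QuadraticMap.polar (⇑Q) w x := fun w x => by
    rw [dotProduct_comm, hf]
  have hrw : ∀ a b : Fin n → ZMod 3, R a * R b - R b * R a =
      ((Q a)⁻¹ * (Q b)⁻¹ * QuadraticMap.polar (⇑Q) a b) •
        (Matrix.vecMulVec a (Cfsg.polarVec (⇑Q) b) - Matrix.vecMulVec b (Cfsg.polarVec (⇑Q) a)) := fun a b => by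
    simp only [hR, Cfsg.reflectionMatrix]
    simp only [sub_mul, mul_sub, one_mul, mul_one, smul_mul_assoc, mul_smul_comm, smul_smul,
      Matrix.vecMulVec_mul_vecMulVec, hf, Matrix.vecMulVec_smul]
    rw [show QuadraticMap.polar (⇑Q) b a = QuadraticMap.polar (⇑Q) a b from QuadraticMap.polar_comm _ _ _]
    module
  constructor
  · intro hc
    by_contra hB
    have h0 := hrw u v
    rw [hc.eq, sub_self] at h0
    have hq : Q v ≠ 0 := huv ▸ hu
    have h0' := (smul_eq_zero.mp h0.symm).resolve_left (mul_ne_zero (mul_ne_zero (inv_ne_zero hu) (inv_ne_zero hq)) hB)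
    have h3 := congrArg (fun M : Matrix (Fin n) (Fin n) (ZMod 3) => M.mulVec u) h0'
    simp only [Matrix.sub_mulVec, Matrix.vecMulVec_mulVec, Matrix.zero_mulVec, hf, op_smul_eq_smul,
      QuadraticMap.polar_self, QuadraticMap.polar_comm (⇑Q) v u, sub_eq_zero] at h3
    have h22 : 2 • Q u ≠ 0 := by rw [nsmul_eq_mul]; exact mul_ne_zero (by decide) hu
    have hc' : v = ((2 • Q u)⁻¹ * QuadraticMap.polar (⇑Q) u v) • u := by
      rw [← smul_smul, h3, smul_smul, inv_mul_cancel₀ h22, one_smul]
    have hall : ∀ c : ZMod 3, c = 0 ∨ c = 1 ∨ c = -1 := by decide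
    rcases hall ((2 • Q u)⁻¹ * QuadraticMap.polar (⇑Q) u v) with e | e | e <;> rw [e] at hc'
    · rw [zero_smul] at hc'; exact hq (by rw [hc', map_zero])
    · exact h1 (by rw [hc', one_smul])
    · exact h2 (by rw [hc', neg_one_smul])
  · intro hB
    have h0 := hrw u v
    rw [hB, mul_zero, zero_smul, sub_eq_zero] at h0
    exact h0

end Cfsg.Agent.S5358
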