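import Cfsg.Statements.S5360
import Cfsg.Agent.S5357
import Cfsg.Agent.S5358
import Cfsg.Agent.Classical.Misc.SquareClass
import Cfsg.Agent.ThreeTransposition.Primitive

set_option autoImplicit false
open scoped MatrixGroups
open Cfsg

namespace Cfsg.Agent.S5360

open Cfsg.Lib.Classical.Refl in
theorem val_decomp' {n : ℕ} (Q : QuadraticForm (ZMod 3) (Fin n → ZMod 3)) (h2 : (2 : ZMod 3) ≠ 0) {u : Fin n → ZMod 3}
    (hu : Q u ≠ 0) (v : Fin n → ZMod 3) :
    ∃ (t : ZMod 3) (y : Fin n → ZMod 3), t * (2 * Q u) = QuadraticMap.polar (⇑Q) u v ∧ v = t • u + y ∧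
      QuadraticMap.polar (⇑Q) u y = 0 ∧ Q v = t * t * Q u + Q y := val_decomp Q (v := v) h2 hu


/-- Let Q be a non-degenerate quadratic form on the n-dimensional coordinate space over the field with three elements, n ≥ 5, c a non-zero scalar, and R the subgroup of the isometry group generated by the reflections of norm c. Then the commutator subgroup of R is quasisimple of index at most 2, the generalized Fitting subgroup of R is the product of the centre and the commutator subgroup, and R acts primitively by conjugation on its reflections of norm c. -/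
theorem result (n : ℕ) (hn : 5 ≤ n) (Q : QuadraticForm (ZMod 3) (Fin n → ZMod 3)) (hQ : (QuadraticMap.polarBilin Q).Nondegenerate) (c : ZMod 3) (hc : c ≠ 0) : Cfsg.IsQuasisimple (commutator ↥(Cfsg.reflectionSubgroup (⇑Q) c)) ∧ (commutator ↥(Cfsg.reflectionSubgroup (⇑Q) c)).index ≤ 2 ∧ Cfsg.generalizedFittingSubgroup ↥(Cfsg.reflectionSubgroup (⇑Q) c) = Subgroup.center ↥(Cfsg.reflectionSubgroup (⇑Q) c) ⊔ commutator ↥(Cfsg.reflectionSubgroup (⇑Q) c) ∧ Cfsg.IsPrimitiveUnderConj {g : ↥(Cfsg.reflectionSubgroup (⇑Q) c) | (g : ↥(Cfsg.isometryGroup (ZMod 3) (⇑Q))) ∈ Cfsg.reflectionsOfNorm (⇑Q) c} := by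
  open Cfsg.Lib.ThreeTr in
  open Cfsg.Lib.Classical.Refl in
  classical
  set K := Cfsg.reflectionSubgroup (⇑Q) c
  haveI : Finite (Cfsg.isometryGroup (ZMod 3) (⇑Q)) := inferInstance
  set D : Set K := {g | (g : ↥(Cfsg.isometryGroup (ZMod 3) (⇑Q))) ∈ Cfsg.reflectionsOfNorm (⇑Q) c} with hDdef
  have hD : Cfsg.IsThreeTranspositionClass D := Cfsg.Agent.S5357.result n hn Q hQ c hc
  have h2 : (2 : ZMod 3) ≠ 0 := by decide
  have h5 : 5 ≤ Fintype.card (Fin n) := by rw [Fintype.card_fin]; exact hn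
  let R : (v : Fin n → ZMod 3) → Q v = c → K := fun v hv =>
    ⟨refl Q v (hv ▸ hc), Subgroup.subset_closure ⟨v, hv, rfl⟩⟩
  have hRD : ∀ v hv, R v hv ∈ D := fun v hv => ⟨v, hv, rfl⟩
  have hDR : ∀ g ∈ D, ∃ v hv, g = R v hv := fun g ⟨v, hv, e⟩ => ⟨v, hv, Subtype.ext (Subtype.ext (Units.ext e))⟩
  have hself : ∀ v, Q v = c → QuadraticMap.polar (⇑Q) v v ≠ 0 := fun v hv => by
    rw [polar_self_two, hv]; exact mul_ne_zero h2 hc
  have hne : ∀ u hu v hv, QuadraticMap.polar (⇑Q) u v = 0 → R u hu ≠ R v hv := by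
    intro u hu v hv huv e
    have e1 : Cfsg.reflectionMatrix (⇑Q) u = Cfsg.reflectionMatrix (⇑Q) v :=
      congrArg (fun g : K => (((g : Cfsg.isometryGroup (ZMod 3) (⇑Q)) : Matrix.GeneralLinearGroup (Fin n) (ZMod 3)) :
        Matrix (Fin n) (Fin n) (ZMod 3))) e
    have e2 := congrArg (fun M => Matrix.mulVec M u) e1
    simp only [self Q u (hu ▸ hc), fix Q v u (by rw [QuadraticMap.polar_comm]; exact huv)] at e2
    apply hc
    rw [← hu, show u = 0 from funext fun i => by
      have key : ∀ x : ZMod 3, -x = x → x = 0 := by decide +kernel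
      exact key _ (congrFun e2 i), map_zero]
  have hcomm : ∀ u hu v hv, Commute (R u hu) (R v hv) → QuadraticMap.polar (⇑Q) u v = 0 ∨ R u hu = R v hv := by
    intro u hu v hv hC
    by_cases h1 : v = u
    · subst h1; exact Or.inr rfl
    by_cases h1' : v = -u
    · refine Or.inr (Subtype.ext ?_)
      exact (refl_congr Q (hu ▸ hc) (hv ▸ hc) (t := -1) (by rw [h1', neg_one_smul])).symm
    refine Or.inl ((Cfsg.Agent.S5358.result n Q hQ u v (hu ▸ hc) (hu.trans hv.symm) h1 h1').mp ?_)
    exact congrArg (fun g : K => (((g : Cfsg.isometryGroup (ZMod 3) (⇑Q)) : Matrix.GeneralLinearGroup (Fin n) (ZMod 3)) :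
        Matrix (Fin n) (Fin n) (ZMod 3))) hC
  have hperp : ∀ u hu v hv, QuadraticMap.polar (⇑Q) u v = 0 → Commute (R u hu) (R v hv) := by
    intro u hu v hv huv
    by_cases h1 : v = u
    · subst h1; exact Commute.refl _
    by_cases h1' : v = -u
    · exfalso
      rw [h1', QuadraticMap.polar_neg_right, neg_eq_zero] at huv
      exact hself u hu huv
    exact Subtype.ext (Subtype.ext (Units.ext
      ((Cfsg.Agent.S5358.result n Q hQ u v (hu ▸ hc) (hu.trans hv.symm) h1 h1').mpr huv).eq))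
  have hproj : ∀ u, Q u = c → ∀ x, ∃ (t : ZMod 3) (r : Fin n → ZMod 3),
      x = t • u + r ∧ QuadraticMap.polar (⇑Q) u r = 0 ∧ Q x = t * t * Q u + Q r := fun u hu x => by
    obtain ⟨t, r, -, h1, h3, h4⟩ := val_decomp' Q h2 (hu ▸ hc) x
    exact ⟨t, r, h1, h3, h4⟩
  have hlink : ∀ a ∈ D, ∀ b ∈ D, Linked D a b := by
    intro a ha b hb
    obtain ⟨u, hu, rfl⟩ := hDR a ha
    obtain ⟨v, hv, rfl⟩ := hDR b hb
    obtain ⟨t, r, hvr, hur, -⟩ := hproj u hu v
    obtain ⟨w, huw, hrw, hw⟩ := exists_norm_perp Q h2 hQ h5 (hu ▸ hc) hur c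
    have hvw : QuadraticMap.polar (⇑Q) w v = 0 := by
      rw [QuadraticMap.polar_comm, hvr, QuadraticMap.polar_add_left, QuadraticMap.polar_smul_left, huw, hrw, smul_zero, add_zero]
    exact .trans (.single ⟨hRD u hu, hRD w hw, hperp u hu w hw huw⟩) (.single ⟨hRD w hw, hRD v hv, hperp w hw v hv hvw⟩)
  obtain ⟨a, ha, -⟩ := hD.2.1
  have hD2 : ∃ a ∈ D, ∃ b ∈ D, a ≠ b := by
    obtain ⟨u, hu, rfl⟩ := hDR a ha
    obtain ⟨w, huw, -, hw⟩ := exists_norm_perp Q h2 hQ h5 (hu ▸ hc) (QuadraticMap.polar_zero_right _ u) c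
    exact ⟨_, ha, _, hRD w hw, hne u hu w hw huw⟩
  have moved : ∀ p : ℕ, ¬ Cfsg.pCore p K ≤ Subgroup.center K →
      ∃ u hu v hv, R u hu ≠ R v hv ∧ (R u hu)⁻¹ * R v hv ∈ Cfsg.pCore p K := by
    intro p h
    haveI := (Cfsg.Lib.Components.pCore_normal_and_isPGroup (G := K) p).1
    obtain ⟨g, hg, hgd⟩ := exists_moved hD h ha
    obtain ⟨u, hu, hau⟩ := hDR a ha
    obtain ⟨v, hv, hgv⟩ := hDR _ (conj_mem hD g ha)
    exact ⟨u, hu, v, hv, by rw [← hau, ← hgv]; exact hgd.symm, by rw [← hau, ← hgv]; exact moved_diff_mem hg⟩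
  have hp2 : Cfsg.pCore 2 K ≤ Subgroup.center K := by
    by_contra h
    obtain ⟨u, hu, v, hv, huv, hm⟩ := moved 2 h
    have hR := vRel_of_mem_pCore hD (hRD u hu) (hRD v hv) hm
    have h0 := (hcomm u hu v hv (hR.commute (hRD u hu)).symm).resolve_right huv
    obtain ⟨x, hx, hxS⟩ := Cfsg.Agent.S5357.exists_orth_val Q hQ (k := 2) (by omega) ![u, v]
      (fun i => by fin_cases i <;> simp [hu, hv, hc])
      (fun i j hij => by
        fin_cases i <;> fin_cases j
        · exact absurd rfl hij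
        · exact h0
        · exact (QuadraticMap.polar_comm (⇑Q) v u).trans h0
        · exact absurd rfl hij) hc
    have hxu : QuadraticMap.polar (⇑Q) x u = 0 := hxS 0
    have hxv : QuadraticMap.polar (⇑Q) x v = 0 := hxS 1
    obtain ⟨y, hy, hyS⟩ := Cfsg.Agent.S5357.exists_orth_val Q hQ (k := 3) (by omega) ![u, v, x]
      (fun i => by fin_cases i <;> simp [hu, hv, hx, hc])
      (fun i j hij => by
        fin_cases i <;> fin_cases j
        · exact absurd rfl hij
        · exact h0
        · exact (QuadraticMap.polar_comm (⇑Q) u x).trans hxu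
        · exact (QuadraticMap.polar_comm (⇑Q) v u).trans h0
        · exact absurd rfl hij
        · exact (QuadraticMap.polar_comm (⇑Q) v x).trans hxv
        · exact hxu
        · exact hxv
        · exact absurd rfl hij) (neg_ne_zero.mpr hc)
    have hyu : QuadraticMap.polar (⇑Q) y u = 0 := hyS 0
    have hyv : QuadraticMap.polar (⇑Q) y v = 0 := hyS 1
    have hyx : QuadraticMap.polar (⇑Q) y x = 0 := hyS 2
    have hw : Q (v + x + y) = c := by
      simp only [QuadraticMap.map_add (f := Q), QuadraticMap.polar_add_left, QuadraticMap.polar_comm (⇑Q) v x,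
        QuadraticMap.polar_comm (⇑Q) v y, QuadraticMap.polar_comm (⇑Q) x y, hxv, hyv, hyx, hv, hx, hy]
      ring
    have huw : QuadraticMap.polar (⇑Q) u (v + x + y) = 0 := by
      simp [QuadraticMap.polar_add_right, h0, QuadraticMap.polar_comm (⇑Q) u x, QuadraticMap.polar_comm (⇑Q) u y, hxu, hyu]
    rcases hcomm v hv _ hw ((hR _ (hRD _ hw)).mpr (hperp u hu _ hw huw)) with e | e
    · rw [QuadraticMap.polar_add_right, QuadraticMap.polar_add_right, QuadraticMap.polar_comm (⇑Q) v x,
        QuadraticMap.polar_comm (⇑Q) v y, hxv, hyv, add_zero, add_zero] at e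
      exact hself v hv e
    · rcases hcomm x hx _ hw (e ▸ hperp x hx v hv hxv) with e' | e'
      · rw [QuadraticMap.polar_add_right, QuadraticMap.polar_add_right, hxv, QuadraticMap.polar_comm (⇑Q) x y, hyx,
          zero_add, add_zero] at e'
        exact hself x hx e'
      · exact hne x hx v hv hxv (e'.trans e.symm)
  have hp3 : Cfsg.pCore 3 K ≤ Subgroup.center K := by
    by_contra h
    obtain ⟨u, hu, v, hv, huv, hm⟩ := moved 3 h
    have hR := wRel_of_mem_pCore hD (hRD u hu) (hRD v hv) hm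
    have hnp : QuadraticMap.polar (⇑Q) u v ≠ 0 := fun h0 =>
      ((hR _ (hRD v hv)).mp ⟨huv.symm, hperp u hu v hv h0⟩).1 rfl
    obtain ⟨t, r, hvr, hur, -⟩ := hproj u hu v
    have hr : r ≠ 0 := by
      rintro rfl
      rw [add_zero] at hvr
      exact huv (Subtype.ext (refl_congr Q (hu ▸ hc) (hv ▸ hc) hvr).symm)
    obtain ⟨x, hrx⟩ : ∃ x, QuadraticMap.polar (⇑Q) r x ≠ 0 := by
      by_contra hh
      push Not at hh
      exact hr (hQ.1 r hh)
    obtain ⟨s, x', rfl, hux', -⟩ := hproj u hu x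
    rw [QuadraticMap.polar_add_right, QuadraticMap.polar_smul_right, QuadraticMap.polar_comm (⇑Q) r u, hur, smul_zero,
      zero_add] at hrx
    have hQr : t * t * c + Q r = c := by
      have := congrArg Q hvr
      rw [hv, QuadraticMap.map_add (f := Q), QuadraticMap.map_smul, QuadraticMap.polar_smul_left, hur, hu, smul_zero,
        add_zero, smul_eq_mul] at this
      exact this.symm
    have ht : t ≠ 0 := by
      rintro rfl
      rw [zero_smul, zero_add] at hvr
      exact hnp (hvr ▸ hur)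
    have hQr0 : Q r = 0 := by
      have key : ∀ t c q : ZMod 3, t ≠ 0 → t * t * c + q = c → q = 0 := by decide +kernel
      exact key _ _ _ ht hQr
    set p := QuadraticMap.polar (⇑Q) r x'
    set y := x' + ((c - Q x') / p) • r
    have hy : Q y = c := by
      simp only [y, QuadraticMap.map_add (f := Q), QuadraticMap.map_smul, QuadraticMap.polar_smul_right,
        QuadraticMap.polar_comm (⇑Q) x' r, hQr0, smul_eq_mul]
      field_simp
      ring
    have huy : QuadraticMap.polar (⇑Q) u y = 0 := by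
      simp [y, QuadraticMap.polar_add_right, QuadraticMap.polar_smul_right, hux', hur]
    have hvy := (hR _ (hRD y hy)).mp ⟨(hne u hu y hy huy).symm, hperp u hu y hy huy⟩
    have e := (hcomm v hv y hy hvy.2).resolve_right (Ne.symm hvy.1)
    apply hrx
    rw [hvr, QuadraticMap.polar_add_left, QuadraticMap.polar_smul_left, huy, smul_zero, zero_add] at e
    simpa [y, p, QuadraticMap.polar_add_right, QuadraticMap.polar_smul_right, polar_self_two, hQr0] using e
  have hS : Semisimple D := ⟨hD, hD2, hp2, hp3⟩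
  have hi := hS.index_le_two_of_linked hlink
  have hG' : commutator K = Cfsg.layer K := commutator_eq_of_index_le_two hD Cfsg.Lib.Components.layer_perfect hi
  rw [hG']
  exact ⟨hS.layer_comp.2, hi, hS.genFitting_eq.trans (sup_comm _ _), hS.primitive hi⟩

end Cfsg.Agent.S5360
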