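import Cfsg.Statements.S5361
import Cfsg.Agent.ThreeTransposition.Primitive

set_option autoImplicit false
open Cfsg

namespace Cfsg.Agent.S5361

/-- Let D be a conjugacy class of 3-transpositions generating the finite group G, and suppose the centre of G is trivial and some two different members of D commute. Then the following are equivalent: (1) the commutator subgroup of G is simple (possibly of prime order); (2) G acts primitively on D by conjugation; (3) the largest normal 2-subgroup and the largest normal 3-subgroup of G are trivial and the commuting graph of D is connected. -/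
theorem result {G : Type*} [Group G] [Finite G] {D : Set G} (hD : Cfsg.IsThreeTranspositionClass D) (hZ : Subgroup.center G = ⊥) (hw : ∃ a ∈ D, ∃ b ∈ D, a ≠ b ∧ Commute a b) : (IsSimpleGroup (commutator G) ↔ Cfsg.IsPrimitiveUnderConj D) ∧ (Cfsg.IsPrimitiveUnderConj D ↔ (Cfsg.pCore 2 G = ⊥ ∧ Cfsg.pCore 3 G = ⊥ ∧ (Cfsg.commutingGraph D).Connected)) := by
  open Cfsg.Lib.ThreeTr in
  obtain ⟨a, ha, b, hb, hab, hc⟩ := hw
  have hD2 : ∃ a ∈ D, ∃ b ∈ D, a ≠ b := ⟨a, ha, b, hb, hab⟩
  have hw : ∃ a ∈ D, ∃ b ∈ D, a ≠ b ∧ Commute a b := ⟨a, ha, b, hb, hab, hc⟩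
  have hmove : ∀ p : ℕ, p.Prime → ¬ Cfsg.pCore p G ≤ Subgroup.center G →
      ∃ u ∈ D, ∃ v ∈ D, u ≠ v ∧ u⁻¹ * v ∈ Cfsg.pCore p G := by
    intro p hp h
    haveI := (Cfsg.Lib.Components.pCore_normal_and_isPGroup (G := G) p).1
    obtain ⟨g, hg, hgd⟩ := exists_moved hD h ha
    exact ⟨a, ha, _, conj_mem hD g ha, hgd.symm, moved_diff_mem hg⟩
  have hprim3 : Cfsg.IsPrimitiveUnderConj D → Cfsg.pCore 2 G = ⊥ ∧ Cfsg.pCore 3 G = ⊥ ∧ (Cfsg.commutingGraph D).Connected := by
    intro hP
    refine ⟨?_, ?_, (linked_iff_connected hD).2 fun x hx y hy => linked_of_primitive hP hD hw hx hy⟩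
    · rw [eq_bot_iff, ← hZ]
      by_contra h
      obtain ⟨u, hu, v, hv, huv, hm⟩ := hmove 2 Nat.prime_two h
      exact huv.symm (eq_of_vRel_of_primitive hP hD hv hu (vRel_of_mem_pCore hD hu hv hm))
    · rw [eq_bot_iff, ← hZ]
      by_contra h
      obtain ⟨u, hu, v, hv, huv, hm⟩ := hmove 3 Nat.prime_three h
      exact huv (eq_of_wRel_of_primitive hP hD hw hu hv (wRel_of_mem_pCore hD hu hv hm))
  have h31 : Cfsg.pCore 2 G = ⊥ ∧ Cfsg.pCore 3 G = ⊥ ∧ (Cfsg.commutingGraph D).Connected →
      Cfsg.IsPrimitiveUnderConj D ∧ IsSimpleGroup (commutator G) := by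
    rintro ⟨h2, h3, hconn⟩
    have hS : Semisimple D := ⟨hD, hD2, h2 ▸ bot_le, h3 ▸ bot_le⟩
    have hi := hS.index_le_two_of_linked ((linked_iff_connected hD).1 hconn)
    refine ⟨hS.primitive hi, ?_⟩
    have hG' : commutator G = Cfsg.layer G := commutator_eq_of_index_le_two hD Cfsg.Lib.Components.layer_perfect hi
    rw [hG']
    have hcz : Subgroup.center (Cfsg.layer G) = ⊥ := by
      rw [eq_bot_iff]
      intro x hx
      have : (x : G) ∈ Subgroup.centralizer (Cfsg.layer G : Set G) := Subgroup.mem_centralizer_iff.2 fun y hy =>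
        congrArg Subtype.val (Subgroup.mem_center_iff.1 hx ⟨y, hy⟩)
      have := hS.centralizer_le_center this
      rw [hZ, Subgroup.mem_bot] at this
      exact Subgroup.mem_bot.2 (Subtype.ext this)
    haveI := hS.layer_comp.2.2
    exact isSimpleGroup_of_quotient_bot hcz inferInstance
  have h13 : IsSimpleGroup (commutator G) → Cfsg.IsPrimitiveUnderConj D := by
    intro hs
    have hS : Semisimple D := semisimple_of_simple_commutator hD hw hs
    exact hS.primitive (index_le_two_of_simple_commutator hS hs)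
  exact ⟨⟨h13, fun h => (h31 (hprim3 h)).2⟩, hprim3, fun h => (h31 h).1⟩

end Cfsg.Agent.S5361
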