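import Cfsg.Statements.S0815
import Cfsg.Agent.Classical.Misc.AutCard
import Cfsg.Agent.S0280
import Cfsg.Agent.S0283
import Cfsg.Agent.S2603

set_option autoImplicit false
open Cfsg

namespace Cfsg.Agent.S0815

/-- |Aut(PSU_n(q))| = gcd(n, q+1) · 2f · |PSU_n(q)| for q = p^f, n ≥ 3, (n, q) ≠ (3, 2); the form is realised over F with |F| = q². -/
theorem result {F : Type*} [Field F] [Fintype F] (p f : ℕ) [Fact p.Prime] (hf : 1 ≤ f) {q : ℕ} (hq : q = p ^ f) (hF : Fintype.card F = q ^ 2) (n : ℕ) (hn : 3 ≤ n) (h32 : ¬ (n = 3 ∧ q = 2)) : Nat.card (MulAut (Cfsg.PSU n F q)) = Nat.gcd n (q + 1) * (2 * f) * Nat.card (Cfsg.PSU n F q) := by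
  classical
  haveI := Cfsg.Agent.S0283.result hF n hn h32
  haveI : NeZero (2 * f) := ⟨by omega⟩
  have hp : p.Prime := Fact.out
  have hcop : Nat.Coprime p (Nat.gcd n (q + 1) * (q + 1)) := by
    have h1 : Nat.Coprime p (q + 1) := by
      rw [hp.coprime_iff_not_dvd]
      intro hd
      have : p ∣ q := hq ▸ dvd_pow_self p (by omega)
      exact hp.not_dvd_one ((Nat.dvd_add_right this).mp hd)
    exact Nat.Coprime.mul_right (h1.coprime_dvd_right (Nat.gcd_dvd_right _ _)) h1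
  have hk : 3 ≤ n * (n - 1) / 2 := by
    rw [Nat.le_div_iff_mul_le (by norm_num)]
    calc 3 * 2 = 3 * (3 - 1) := rfl
      _ ≤ n * (n - 1) := Nat.mul_le_mul hn (by omega)
  have hcard := Cfsg.Agent.S0280.result hF n (by omega)
  rw [← mul_assoc, hq, ← pow_mul, ← hq] at hcard
  rw [Cfsg.Lib.Classical.AutCard.card_mulAut (k := f * (n * (n - 1) / 2)) hp
    (le_trans (by omega) (Nat.le_mul_of_pos_left _ (by omega))) hcop hcard]
  obtain ⟨φ, hφ, -, hk'⟩ := Cfsg.Agent.S2603.result hf hq hF hn h32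
  rw [← Subgroup.card_mul_index φ.ker, hk', Subgroup.index_ker, MonoidHom.range_eq_top.mpr hφ, Subgroup.card_top,
    Nat.card_congr Multiplicative.toAdd, Nat.card_zmod]

end Cfsg.Agent.S0815
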