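import Cfsg.Statements.S1185
import Cfsg.Agent.InvolCalc.Isolated

set_option autoImplicit false
open Cfsg

namespace Cfsg.Agent.S1185

/-- Let z be an isolated involution of the finite group G with centralizer C. Then for every g ∈ G there is exactly one element k in the coset gC that has odd order and is inverted by z. -/
theorem result {G : Type*} [Group G] [Finite G] (z : G) (hz : Cfsg.IsIsolatedInvolution z) (g : G) : ∃! k : G, (Odd (orderOf k) ∧ z * k * z⁻¹ = k⁻¹) ∧ g⁻¹ * k ∈ Subgroup.centralizer ({z} : Set G) := by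
  obtain ⟨k, hk, hk', hk''⟩ := Cfsg.Lib.Isolated.exists_inverted hz g
  have key : ∀ a : G, g⁻¹ * a ∈ Subgroup.centralizer ({z} : Set G) ↔ a * z * a⁻¹ = g * z * g⁻¹ := by
    intro a
    rw [Subgroup.mem_centralizer_singleton_iff]
    constructor
    · intro h
      calc a * z * a⁻¹ = g * ((g⁻¹ * a) * z) * a⁻¹ := by group
        _ = g * (z * (g⁻¹ * a)) * a⁻¹ := by rw [h]
        _ = g * z * g⁻¹ := by group
    · intro h
      calc g⁻¹ * a * z = g⁻¹ * (a * z * a⁻¹) * a := by group
        _ = g⁻¹ * (g * z * g⁻¹) * a := by rw [h]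
        _ = z * (g⁻¹ * a) := by group
  refine ⟨k, ⟨⟨hk, hk'⟩, (key k).2 hk''⟩, fun a ha => ?_⟩
  exact Cfsg.Lib.Isolated.inverted_unique hz ha.1.1 hk ha.1.2 hk' (((key a).1 ha.2).trans hk''.symm)

end Cfsg.Agent.S1185
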