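import Cfsg.Statements.S5599
import Cfsg.Agent.Golay.Subgroups
import Cfsg.Agent.Golay.Transfer
import Cfsg.Agent.Golay.Weights

set_option autoImplicit false
open scoped Pointwise
open Cfsg

namespace Cfsg.Agent.S5599

open Cfsg.Lib.Golay
open scoped Pointwise


/-- In the automorphism group of the length-24 code, the two-point Mathieu group (permutations of the code's group fixing the extra point and the residue 0) has index 2 in the setwise stabiliser of that pair of points, and an element of the code's group interchanging the two points normalises the two-point group and induces on it, by conjugation, an automorphism that is not inner. -/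
theorem result (g : Equiv.Perm Cfsg.GolayPt) (hg : g ∈ Cfsg.M24) (h₁ : g none = some 0) (h₂ : g (some 0) = none) : Cfsg.Spor.M22.relIndex (Cfsg.M24 ⊓ MulAction.stabilizer (Equiv.Perm Cfsg.GolayPt) ({none, some 0} : Finset Cfsg.GolayPt)) = 2 ∧ (∀ x ∈ Cfsg.Spor.M22, g * x * g⁻¹ ∈ Cfsg.Spor.M22) ∧ ¬ ∃ h ∈ Cfsg.Spor.M22, ∀ x ∈ Cfsg.Spor.M22, g * x * g⁻¹ = h * x * h⁻¹ := by
  set a : Cfsg.GolayPt := none with ha
  set b : Cfsg.GolayPt := some 0 with hb
  have hab : a ≠ b := by simp [ha, hb]
  have m22 : ∀ x, x ∈ Cfsg.Spor.M22 ↔ x ∈ Cfsg.M24 ∧ x a = a ∧ x b = b := by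
    intro x
    simp only [Cfsg.Spor.M22, Cfsg.Spor.M23, Subgroup.mem_inf]
    exact ⟨fun ⟨⟨h1, h2⟩, h3⟩ => ⟨h1, h2, h3⟩, fun ⟨h1, h2, h3⟩ => ⟨⟨h1, h2⟩, h3⟩⟩
  set P : Subgroup (Equiv.Perm Cfsg.GolayPt) :=
    Cfsg.M24 ⊓ MulAction.stabilizer (Equiv.Perm Cfsg.GolayPt) ({a, b} : Finset Cfsg.GolayPt) with hP
  have pair : ∀ x ∈ P, (x a = a ∧ x b = b) ∨ (x a = b ∧ x b = a) := by
    intro x hx
    have hs : x • ({a, b} : Finset Cfsg.GolayPt) = {a, b} := MulAction.mem_stabilizer_iff.mp hx.2
    have hxa : x a ∈ ({a, b} : Finset Cfsg.GolayPt) := by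
      rw [← hs]; exact Finset.smul_mem_smul_finset (by simp)
    have hxb : x b ∈ ({a, b} : Finset Cfsg.GolayPt) := by
      rw [← hs]; exact Finset.smul_mem_smul_finset (by simp)
    simp only [Finset.mem_insert, Finset.mem_singleton] at hxa hxb
    rcases hxa with e | e <;> rcases hxb with f | f
    · exact absurd (x.injective (e.trans f.symm)) hab
    · exact Or.inl ⟨e, f⟩
    · exact Or.inr ⟨e, f⟩
    · exact absurd (x.injective (e.trans f.symm)) hab
  refine ⟨?_, ?_, ?_⟩
  · rw [Subgroup.relIndex, Subgroup.index_eq_two_iff]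
    have hgP : g ∈ P := Subgroup.mem_inf.mpr ⟨hg, by
      rw [MulAction.mem_stabilizer_iff, Finset.smul_finset_insert, Finset.smul_finset_singleton, Equiv.Perm.smul_def,
        Equiv.Perm.smul_def, h₁, h₂, Finset.pair_comm]⟩
    refine ⟨⟨g, hgP⟩, fun x => ?_⟩
    simp only [Subgroup.mem_subgroupOf, Subgroup.coe_mul, m22, Equiv.Perm.mul_apply, h₁, h₂]
    rcases pair x x.2 with ⟨e, f⟩ | ⟨e, f⟩
    · exact Or.inr ⟨⟨x.2.1, e, f⟩, fun h => hab (by rw [← f]; exact h.2.1.symm)⟩
    · exact Or.inl ⟨⟨mul_mem x.2.1 hg, f, e⟩, fun h => hab (by rw [← e]; exact h.2.1.symm)⟩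
  · intro x hx
    obtain ⟨h0, hxa, hxb⟩ := (m22 x).mp hx
    have ga : g⁻¹ a = b := by rw [Equiv.Perm.inv_eq_iff_eq]; exact h₂.symm
    have gb : g⁻¹ b = a := by rw [Equiv.Perm.inv_eq_iff_eq]; exact h₁.symm
    refine (m22 _).mpr ⟨mul_mem (mul_mem hg h0) (inv_mem hg), ?_, ?_⟩
    · rw [Equiv.Perm.mul_apply, Equiv.Perm.mul_apply, ga, hxb, h₂]
    · rw [Equiv.Perm.mul_apply, Equiv.Perm.mul_apply, gb, hxa, h₁]
  · rintro ⟨h, hh, hconj⟩
    obtain ⟨hh0, hha, hhb⟩ := (m22 h).mp hh
    set c := h⁻¹ * g with hc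
    have hc0 : c ∈ Cfsg.M24 := mul_mem (inv_mem hh0) hg
    have hca : c a = b := by rw [hc, Equiv.Perm.mul_apply, h₁, Equiv.Perm.inv_eq_iff_eq]; exact hhb.symm
    have hcb : c b = a := by rw [hc, Equiv.Perm.mul_apply, h₂, Equiv.Perm.inv_eq_iff_eq]; exact hha.symm
    have hcomm : ∀ x ∈ Cfsg.Spor.M22, c * x = x * c := by
      intro x hx
      calc c * x = h⁻¹ * (g * x * g⁻¹) * g := by rw [hc]; group
        _ = h⁻¹ * (h * x * h⁻¹) * g := by rw [hconj x hx]
        _ = x * c := by rw [hc]; group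
    have hrest : ∀ p, p ≠ a → p ≠ b → c p = p := by
      intro p hpa hpb
      by_contra hne
      have hqa : c p ≠ a := fun e => hpb (c.injective (e.trans hcb.symm))
      have hqb : c p ≠ b := fun e => hpa (c.injective (e.trans hca.symm))
      obtain ⟨r, hr⟩ := Finset.card_pos.mp (show 0 < ((({a, b, p, c p} : Finset Cfsg.GolayPt))ᶜ).card by
        have hle : ({a, b, p, c p} : Finset Cfsg.GolayPt).card ≤ 4 := Finset.card_le_four
        have hu : Fintype.card Cfsg.GolayPt = 24 := by decide +kernel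
        rw [Finset.card_compl, hu]; omega)
      simp only [Finset.mem_compl, Finset.mem_insert, Finset.mem_singleton, not_or] at hr
      obtain ⟨hra, hrb, hrp, hrq⟩ := hr
      haveI := M24_five_transitive
      haveI : MulAction.IsMultiplyPretransitive Cfsg.M24 Cfsg.GolayPt 4 :=
        MulAction.isMultiplyPretransitive_of_le (n := 5) (by norm_num) (by
          rw [Nat.card_eq_fintype_card]; exact (by decide +kernel : 5 ≤ Fintype.card Cfsg.GolayPt))
      have i1 : Function.Injective ![a, b, p, c p] := by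
        intro i j hij
        fin_cases i <;> fin_cases j <;> first | rfl | exact absurd hij hab | exact absurd hij hab.symm | exact absurd hij hpa | exact absurd hij hpa.symm | exact absurd hij hpb | exact absurd hij hpb.symm | exact absurd hij hqa | exact absurd hij hqa.symm | exact absurd hij hqb | exact absurd hij hqb.symm | exact absurd hij hne | exact absurd hij (Ne.symm hne) | exact absurd hij hra | exact absurd hij (Ne.symm hra) | exact absurd hij hrb | exact absurd hij (Ne.symm hrb) | exact absurd hij hrp | exact absurd hij (Ne.symm hrp)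
      have i2 : Function.Injective ![a, b, p, r] := by
        intro i j hij
        fin_cases i <;> fin_cases j <;> first | rfl | exact absurd hij hab | exact absurd hij hab.symm | exact absurd hij hpa | exact absurd hij hpa.symm | exact absurd hij hpb | exact absurd hij hpb.symm | exact absurd hij hqa | exact absurd hij hqa.symm | exact absurd hij hqb | exact absurd hij hqb.symm | exact absurd hij hne | exact absurd hij (Ne.symm hne) | exact absurd hij hra | exact absurd hij (Ne.symm hra) | exact absurd hij hrb | exact absurd hij (Ne.symm hrb) | exact absurd hij hrp | exact absurd hij (Ne.symm hrp)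
      obtain ⟨x, hx⟩ := MulAction.exists_smul_eq Cfsg.M24 (⟨_, i1⟩ : Fin 4 ↪ Cfsg.GolayPt) ⟨_, i2⟩
      have e := fun i => DFunLike.congr_fun hx i
      have hxa : (x : Equiv.Perm Cfsg.GolayPt) a = a := e 0
      have hxb : (x : Equiv.Perm Cfsg.GolayPt) b = b := e 1
      have hxp : (x : Equiv.Perm Cfsg.GolayPt) p = p := e 2
      have hxq : (x : Equiv.Perm Cfsg.GolayPt) (c p) = r := e 3
      have := congrArg (fun s : Equiv.Perm Cfsg.GolayPt => s p) (hcomm x ((m22 _).mpr ⟨x.2, hxa, hxb⟩))
      simp only [Equiv.Perm.mul_apply, hxp, hxq] at this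
      exact hrq this.symm
    have hswap : c = Equiv.swap a b := by
      ext p
      by_cases h1 : p = a
      · rw [h1, hca, Equiv.swap_apply_left]
      by_cases h2 : p = b
      · rw [h2, hcb, Equiv.swap_apply_right]
      rw [hrest p h1 h2, Equiv.swap_apply_of_ne_of_ne h1 h2]
    obtain ⟨m, -, hm1, hm2, hm3⟩ : ∃ m ∈ octMasks, inCode m = true ∧ (pts m).card = 8 ∧
        inCode (mk (Equiv.swap a b • pts m)) = false ∧ m < 2 ^ 24 := by decide +kernel
    have ho : pts m ∈ Cfsg.octads := (mem_octads_iff _).mpr ⟨by rw [mk_pts hm3.2]; exact hm1, hm2⟩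
    have := ((mem_octads_iff _).mp (smul_mem_octads hc0 ho)).1
    rw [hswap, hm3.1] at this
    exact Bool.false_ne_true this

end Cfsg.Agent.S5599
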