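import Cfsg.Statements.S0817
import Cfsg.Agent.Classical.AutOrders.POmegaAut
import Cfsg.Agent.Classical.AutOrders.D4Iso
import Cfsg.Agent.Classical.AutOrders.TorusD4
import Cfsg.Agent.Known.ChevAut.D4
import Cfsg.Agent.Known.ChevAut.Tables
import Cfsg.Agent.Classical.Misc.AutCard
import Cfsg.Agent.S1054
import Cfsg.Agent.S1061

set_option autoImplicit false
set_option linter.style.haveILetI false
open Cfsg

namespace Cfsg.Agent.S0817

open Cfsg.Lie Cfsg.Lib.Known.ChevAut Cfsg.Lib.Classical.AutOrders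

/-- |Aut(PΩ⁺_2m(q))| for q = p^f, m ≥ 4: |PΩ⁺_2m(q)| times f, times 3 when m = 4, times 2 if p = 2, and times 8 or 4 if p is odd according as m(q−1)/2 is even or odd. -/
theorem result {F : Type*} [Field F] [Fintype F] (p f : ℕ) [Fact p.Prime] (hf : 1 ≤ f) (hF : Fintype.card F = p ^ f) (m : ℕ) (hm : 4 ≤ m) : Nat.card (MulAut (Cfsg.POmega F (Cfsg.quadFormPlus m F))) = (if m = 4 then 3 else 1) * (if p = 2 then 2 else (if Even (m * (p ^ f - 1) / 2) then 8 else 4)) * f * Nat.card (Cfsg.POmega F (Cfsg.quadFormPlus m F)) := by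
  classical
  by_cases h4 : m = 4
  · subst h4
    haveI : CharP F p := charP_of_card_eq_prime_pow hF
    rw [if_pos rfl]
    obtain ⟨e⟩ := chevD4_iso_POmega (F := F)
    obtain ⟨C, L, T, hT⟩ := tabs_of_mem (D := chevD4) (by simp)
    haveI := (Cfsg.Agent.S1054.result (F := F) chevD4 (by simp)).1
    haveI : Finite ↥(chevD4.group F) := Finite.of_equiv _ e.symm.toEquiv
    have hout := card_out (F := F) p f hF hT (by decide)
    rw [(card_range_D4 (F := F) hT).1, index_torusVal_D4, hF] at hout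
    have hS := Cfsg.Agent.S1061.result (F := F) hF
    have hpr : p.Prime := Fact.out
    have hcop : Nat.Coprime p (Nat.gcd 2 (p ^ f - 1) ^ 2) := by
      have h1 : ¬ p ∣ p ^ f - 1 := by
        intro h
        have h2 : p ∣ p ^ f := dvd_pow_self p (by omega)
        have h3 : 1 ≤ p ^ f := Nat.one_le_pow _ _ hpr.pos
        have h4 := Nat.dvd_sub h2 h
        rw [show p ^ f - (p ^ f - 1) = 1 by omega] at h4
        exact hpr.not_dvd_one h4
      exact ((hpr.coprime_iff_not_dvd.2 h1).coprime_dvd_right (Nat.gcd_dvd_right _ _)).pow_right 2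
    have hA := Cfsg.Lib.Classical.AutCard.card_mulAut (P := ↥(chevD4.group F)) (p := p) (k := f * 12)
      (a := Nat.gcd 2 (p ^ f - 1) ^ 2)
      (b := ((p ^ f) ^ 2 - 1) * ((p ^ f) ^ 4 - 1) * ((p ^ f) ^ 4 - 1) * ((p ^ f) ^ 6 - 1))
      hpr (by omega) hcop (by rw [hS, ← pow_mul]; ring)
    rw [← Nat.card_congr e.toEquiv, ← Nat.card_congr (MulAut.congr e).toEquiv, hA, hout]
    congr 2
    have hd : 2 ∣ p → p = 2 := fun h => ((Nat.prime_dvd_prime_iff_eq Nat.prime_two hpr).1 h).symm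
    by_cases h2 : p = 2
    · subst h2
      rw [if_pos rfl]
      have hg : Nat.gcd 2 (2 ^ f - 1) = 1 := Nat.prime_two.coprime_iff_not_dvd.2 (by
        have h2 : 2 ∣ 2 ^ f := dvd_pow_self 2 (by omega)
        have h3 : 1 ≤ 2 ^ f := Nat.one_le_two_pow
        omega)
      rw [hg]
      norm_num
    · obtain ⟨t, ht⟩ := (hpr.odd_of_ne_two h2).pow (n := f)
      have hev : Even (4 * (p ^ f - 1) / 2) := ⟨2 * t, by omega⟩
      have hg : Nat.gcd 2 (p ^ f - 1) = 2 := Nat.gcd_eq_left (by omega)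
      rw [if_neg h2, if_pos hev, hg]
      norm_num
  · rw [if_neg h4, one_mul]
    exact card_mulAut_POmegaPlus p f hf hF m (by omega)

end Cfsg.Agent.S0817
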