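import Cfsg.Statements.S2623
import Cfsg.Agent.Known.FormNormal

set_option autoImplicit false
open Cfsg

namespace Cfsg.Agent.S2623

/-- Over a finite field of odd order, two quadratic forms on F^n with non-degenerate polar forms are isometric (related by an invertible linear change of variables) if and only if their discriminants (determinants of the Gram matrices of their polar forms) lie in the same square class. -/
theorem result {F : Type*} [Field F] [Fintype F] (h2 : (2 : F) ≠ 0) {n : ℕ} (Q₁ Q₂ : QuadraticForm F (Fin n → F)) (h₁ : (QuadraticMap.polarBilin Q₁).Nondegenerate) (h₂ : (QuadraticMap.polarBilin Q₂).Nondegenerate) : (∃ g : (Fin n → F) ≃ₗ[F] (Fin n → F), ∀ v, Q₂ (g v) = Q₁ v) ↔ IsSquare ((Matrix.of (fun i j : Fin n => QuadraticMap.polar ⇑Q₁ (Pi.single i 1) (Pi.single j 1))).det * (Matrix.of (fun i j : Fin n => QuadraticMap.polar ⇑Q₂ (Pi.single i 1) (Pi.single j 1))).det) := by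
  classical
  rcases n with - | n
  · exact iff_of_true ⟨LinearEquiv.refl _ _, fun v => by rw [Subsingleton.elim v 0, LinearEquiv.refl_apply, QuadraticMap.map_zero, QuadraticMap.map_zero]⟩ ⟨1, by simp⟩
  let gram : QuadraticForm F (Fin (n + 1) → F) → Matrix (Fin (n + 1)) (Fin (n + 1)) F := fun Q =>
    Matrix.of fun i j => QuadraticMap.polar ⇑Q (Pi.single i 1) (Pi.single j 1)
  have hgram : ∀ (Q : QuadraticForm F (Fin (n + 1) → F)) (b : Module.Basis (Fin (n + 1)) F (Fin (n + 1) → F)),
      ((Pi.basisFun F (Fin (n + 1))).toMatrix b).det * ((Pi.basisFun F (Fin (n + 1))).toMatrix b).det * (gram Q).det =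
        (Matrix.of fun i j => QuadraticMap.polar (⇑Q) (b i) (b j)).det := by
    intro Q b
    have hM : gram Q = LinearMap.toMatrix₂ (Pi.basisFun F (Fin (n + 1))) (Pi.basisFun F (Fin (n + 1))) (QuadraticMap.polarBilin Q) := by
      ext i j; simp [gram, LinearMap.toMatrix₂_apply]
    have hN : LinearMap.toMatrix₂ b b (QuadraticMap.polarBilin Q) = Matrix.of fun i j => QuadraticMap.polar (⇑Q) (b i) (b j) := by
      ext i j; simp [LinearMap.toMatrix₂_apply]
    rw [← hN, ← LinearMap.toMatrix₂_mul_basis_toMatrix (Pi.basisFun F (Fin (n + 1))) (Pi.basisFun F (Fin (n + 1))) b b,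
      Matrix.det_mul, Matrix.det_mul, Matrix.det_transpose, ← hM]
    ring
  change _ ↔ IsSquare ((gram Q₁).det * (gram Q₂).det)
  have diag : ∀ (Q : QuadraticForm F (Fin (n + 1) → F)), (QuadraticMap.polarBilin Q).Nondegenerate →
      ∃ (b : Module.Basis (Fin (n + 1)) F (Fin (n + 1) → F)) (d : F), d ≠ 0 ∧ Q (b (Fin.last n)) = d ∧
        (∀ i, i ≠ Fin.last n → Q (b i) = 1) ∧ (∀ i j, i ≠ j → QuadraticMap.polar (⇑Q) (b i) (b j) = 0) ∧
        ∃ r : F, r ≠ 0 ∧ (gram Q).det = r * r * ((2 : F) ^ (n + 1) * d) := by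
    intro Q hQ
    obtain ⟨f, -, h1, hl, ho⟩ := Cfsg.Lib.FormNormal.exists_diag Q h2 n ⊤ (by rw [finrank_top, Module.finrank_fin_fun])
      (Cfsg.Lib.FormNormal.nd_top Q hQ)
    have hli : LinearIndependent F f := by
      rw [Fintype.linearIndependent_iff]
      intro c hc i
      have hne : Q (f i) ≠ 0 := by
        by_cases hi : i = Fin.last n
        · rw [hi]; exact hl
        · rw [h1 i hi]; exact one_ne_zero
      have e := congrArg (QuadraticMap.polarBilin Q (f i)) hc
      rw [map_sum, map_zero, Finset.sum_eq_single i (fun j _ hji => by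
        rw [map_smul, QuadraticMap.polarBilin_apply_apply, ho i j (Ne.symm hji), smul_zero]) (by simp), map_smul,
        QuadraticMap.polarBilin_apply_apply, Cfsg.Lib.FormNormal.polar_self', smul_eq_mul] at e
      exact (mul_eq_zero.1 e).resolve_right (mul_ne_zero h2 hne)
    let b := basisOfLinearIndependentOfCardEqFinrank hli (by simp)
    have hb : ∀ i, b i = f i := fun i => by simp [b]
    refine ⟨b, Q (f (Fin.last n)), hl, by rw [hb], fun i hi => by rw [hb]; exact h1 i hi,
      fun i j hij => by rw [hb, hb]; exact ho i j hij, ((Pi.basisFun F (Fin (n + 1))).toMatrix b).det⁻¹,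
      inv_ne_zero ((Pi.basisFun F (Fin (n + 1))).isUnit_det b).ne_zero, ?_⟩
    have hP : ((Pi.basisFun F (Fin (n + 1))).toMatrix b).det ≠ 0 := ((Pi.basisFun F (Fin (n + 1))).isUnit_det b).ne_zero
    have hdiag : (Matrix.of fun i j => QuadraticMap.polar (⇑Q) (b i) (b j)) = Matrix.diagonal fun i => 2 * Q (b i) := by
      ext i j
      rcases eq_or_ne i j with rfl | hij
      · rw [Matrix.of_apply, Matrix.diagonal_apply_eq, Cfsg.Lib.FormNormal.polar_self']
      · rw [Matrix.of_apply, Matrix.diagonal_apply_ne _ hij, hb, hb, ho i j hij]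
    have e := hgram Q b
    rw [hdiag, Matrix.det_diagonal, Finset.prod_mul_distrib, Finset.prod_const, Finset.card_univ, Fintype.card_fin,
      Finset.prod_eq_single (Fin.last n) (fun i _ hi => by rw [hb]; exact h1 i hi) (by simp), hb] at e
    rw [← e]
    field_simp
  constructor
  · rintro ⟨g, hg⟩
    have e := hgram Q₂ ((Pi.basisFun F (Fin (n + 1))).map g)
    have e2 : (Matrix.of fun i j => QuadraticMap.polar (⇑Q₂) ((Pi.basisFun F (Fin (n + 1))).map g i)
        ((Pi.basisFun F (Fin (n + 1))).map g j)) = gram Q₁ := by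
      ext i j
      simp [gram, QuadraticMap.polar, ← map_add, hg]
    rw [e2] at e
    rw [← e]
    exact ⟨((Pi.basisFun F (Fin (n + 1))).toMatrix ((Pi.basisFun F (Fin (n + 1))).map g)).det * (gram Q₂).det, by ring⟩
  · intro hsq
    obtain ⟨b₁, d₁, hd₁, hl₁, h11, ho₁, r₁, hr₁, e₁⟩ := diag Q₁ h₁
    obtain ⟨b₂, d₂, hd₂, hl₂, h12, ho₂, r₂, hr₂, e₂⟩ := diag Q₂ h₂
    rw [e₁, e₂] at hsq
    obtain ⟨s, hs⟩ := hsq
    set u := s / (r₁ * r₂ * (2 : F) ^ (n + 1) * d₂) with hu
    have hu' : u * u * d₂ = d₁ := by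
      rw [hu]; field_simp; linear_combination -hs
    have hu0 : u ≠ 0 := fun h => hd₁ (by rw [← hu', h]; ring)
    let w : Fin (n + 1) → Fˣ := Function.update 1 (Fin.last n) (Units.mk0 u hu0)
    let φ := b₁.equiv (b₂.unitsSMul w) (Equiv.refl _)
    have hφ : ∀ i, φ (b₁ i) = (w i : F) • b₂ i := fun i => by
      rw [show φ (b₁ i) = b₂.unitsSMul w i from Module.Basis.equiv_apply _ _ _ _, Module.Basis.unitsSMul_apply]
      rfl
    refine ⟨φ, fun v => ?_⟩
    have := Cfsg.Lib.FormNormal.eq_of_basis Q₁ (Q₂.comp (φ : (Fin (n + 1) → F) →ₗ[F] (Fin (n + 1) → F))) b₁ ?_ ?_ v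
    · simpa using this.symm
    · intro i
      rw [QuadraticMap.comp_apply, LinearEquiv.coe_coe, hφ, QuadraticMap.map_smul, smul_eq_mul]
      by_cases hi : i = Fin.last n
      · subst hi; rw [hl₁, hl₂]; simp [w, hu']
      · rw [h11 i hi, h12 i hi]; simp [w, hi]
    · intro i j
      have : QuadraticMap.polar (⇑(Q₂.comp (φ : (Fin (n + 1) → F) →ₗ[F] (Fin (n + 1) → F)))) (b₁ i) (b₁ j) =
          QuadraticMap.polar (⇑Q₂) (φ (b₁ i)) (φ (b₁ j)) := by simp [QuadraticMap.polar]
      rw [this, hφ, hφ, QuadraticMap.polar_smul_left, QuadraticMap.polar_smul_right, smul_eq_mul, smul_eq_mul]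
      rcases eq_or_ne i j with rfl | hij
      · rw [Cfsg.Lib.FormNormal.polar_self', Cfsg.Lib.FormNormal.polar_self']
        by_cases hi : i = Fin.last n
        · subst hi; rw [hl₁, hl₂]; simp [w]; linear_combination -(2 : F) * hu'
        · rw [h11 i hi, h12 i hi]; simp [w, hi]
      · rw [ho₁ i j hij, ho₂ i j hij]; simp

end Cfsg.Agent.S2623
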