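import Cfsg.Statements.S5359
import Cfsg.Agent.Classical.Misc.SquareClass

set_option autoImplicit false
open scoped MatrixGroups
open Cfsg

namespace Cfsg.Agent.S5359

open Cfsg.Lib.Classical.Refl Matrix

universe u

variable {F : Type u} [Field F] {ι : Type} [Fintype ι] [DecidableEq ι] (Q : QuadraticForm F (ι → F))

theorem square_class_index_five [Fintype F] [DecidableEq F] (h2 : (2 : F) ≠ 0)
    (hQ : (QuadraticMap.polarBilin Q).Nondegenerate) (h5 : 5 ≤ Fintype.card ι) {c : F} (hc : c ≠ 0) :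
    (Subgroup.closure {g : Cfsg.isometryGroup F (⇑Q) | ∃ (v : ι → F) (t : F), t ≠ 0 ∧ Q v = c * t ^ 2 ∧
      ((g : Matrix.GeneralLinearGroup ι F) : Matrix ι ι F) = Cfsg.reflectionMatrix (⇑Q) v}).index = 2 := by
  have hn : 2 ≤ Fintype.card ι := by omega
  have hc2 : ringChar F ≠ 2 := fun h => h2 (by haveI := ringChar.of_eq h; exact CharTwo.two_eq_zero)
  set S := {g : Cfsg.isometryGroup F (⇑Q) | ∃ (v : ι → F) (t : F), t ≠ 0 ∧ Q v = c * t ^ 2 ∧
      ((g : Matrix.GeneralLinearGroup ι F) : Matrix ι ι F) = Cfsg.reflectionMatrix (⇑Q) v}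
  set K := Subgroup.closure S
  have memS : ∀ v (hv : Q v ≠ 0), IsSquare (Q v * c) → refl Q v hv ∈ K := by
    rintro v hv ⟨r, hr⟩
    refine Subgroup.subset_closure ⟨v, r / c, div_ne_zero (fun h => mul_ne_zero hv hc (by rw [hr, h, zero_mul])) hc,
      ?_, rfl⟩
    field_simp
    linear_combination hr
  have toRefl : ∀ g ∈ S, ∃ (v : ι → F) (hv : Q v ≠ 0), IsSquare (Q v * c) ∧ g = refl Q v hv := by
    rintro g ⟨v, t, ht, hQv, e⟩
    refine ⟨v, by rw [hQv]; exact mul_ne_zero hc (pow_ne_zero _ ht), ⟨c * t, by rw [hQv]; ring⟩,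
      Subtype.ext (Units.ext e)⟩
  haveI hK : K.Normal := by
    refine ⟨fun a ha g => ?_⟩
    induction ha using Subgroup.closure_induction with
    | mem x hx =>
      obtain ⟨v, hv, hsq, rfl⟩ := toRefl x hx
      rw [refl_conj]
      exact memS _ _ (by rw [(mem_iff Q).mp g.2]; exact hsq)
    | one => simp
    | mul a b _ _ iha ihb =>
      rw [show g * (a * b) * g⁻¹ = (g * a * g⁻¹) * (g * b * g⁻¹) by group]
      exact mul_mem iha ihb
    | inv a _ iha =>
      rw [show g * a⁻¹ * g⁻¹ = (g * a * g⁻¹)⁻¹ by group]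
      exact inv_mem iha
  set π := QuotientGroup.mk' K
  have pinv : ∀ v (hv : Q v ≠ 0), π (refl Q v hv) * π (refl Q v hv) = 1 := fun v hv => by
    rw [← map_mul, refl_mul_self, map_one]
  obtain ⟨e₁, e₂, he₁, he₂, he⟩ := exists_orth_pair Q h2 hQ hn
  obtain ⟨ν, hν⟩ := FiniteField.exists_nonsquare hc2
  have hν0 : ν ≠ 0 := fun h => hν (h ▸ IsSquare.zero)
  obtain ⟨x₁, x₂, hγ⟩ := exists_nonsquare_norm Q h2 he₁ he₂ he c
  obtain ⟨y₁, y₂, hδ⟩ := exists_nonsquare_norm Q h2 he₁ he₂ he (c * ν)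
  set γ := x₁ • e₁ + x₂ • e₂
  set δ := y₁ • e₁ + y₂ • e₂
  have hγ0 : Q γ ≠ 0 := hγ ▸ hc
  have hδ0 : Q δ ≠ 0 := hδ ▸ mul_ne_zero hc hν0
  have hns : ¬ IsSquare (Q δ * c) := by
    rintro ⟨r, hr⟩
    rw [hδ] at hr
    exact hν ⟨r / c, by field_simp; linear_combination hr⟩
  have nondeg : ∀ u v (hu : Q u ≠ 0) (hv : Q v ≠ 0), Q u = Q v →
      QuadraticMap.polar (⇑Q) u v ^ 2 ≠ (2 * Q u) ^ 2 → π (refl Q u hu) = π (refl Q v hv) := by
    intro u v hu hv huv hne
    obtain ⟨t, y, ht, hvy, huy, hQv⟩ := val_decomp Q (v := v) h2 hu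
    have hy : Q y ≠ 0 := by
      intro h0
      apply hne
      rw [← ht]
      linear_combination (2 * Q u) ^ 2 * (mul_right_cancel₀ hu (by linear_combination -hQv - huv - h0 :
        t * t * Q u = 1 * Q u))
    obtain ⟨a, b, hab⟩ := exists_nonsquare_norm Q h2 hu hy huy c
    set z := a • u + b • y
    have hz : Q z ≠ 0 := hab ▸ hc
    set g := refl Q u hu * refl Q v hv * refl Q z hz with hg
    obtain ⟨w, hw, hgw⟩ := plane_refl Q h2 hQ hu hy huy g (fun x h3 h4 => by
      rw [hg, mat, mulVec_mul, mulVec_mul, coe_refl, coe_refl, coe_refl,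
        fix Q z x (by simp [z, QuadraticMap.polar_add_left, QuadraticMap.polar_smul_left, h3, h4]),
        fix Q v x (by rw [hvy, QuadraticMap.polar_add_left, QuadraticMap.polar_smul_left, h3, h4]; simp),
        fix Q u x h3]) (by
      rw [hg, mat, Subgroup.coe_mul, Subgroup.coe_mul, Units.val_mul, Units.val_mul, Matrix.det_mul, Matrix.det_mul,
        coe_refl, coe_refl, coe_refl, det_eq Q u hu, det_eq Q v hv, det_eq Q z hz]
      ring)
    have hs : spin Q (refl Q w hw) = spin Q (refl Q z hz) := by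
      rw [← hgw, hg, map_mul, map_mul, refl_same_class Q hQ (spin Q) hu hv ⟨Q v, by rw [huv]⟩, ← map_mul,
        refl_mul_self, map_one, one_mul]
    have hwc : IsSquare (Q w * c) := hab ▸ (spin_eq_iff Q h2 hQ hn hw hz).mp hs
    have hzc : IsSquare (Q z * c) := ⟨c, by rw [hab]⟩
    have h1 : π g = 1 := by rw [hgw]; exact (QuotientGroup.eq_one_iff _).mpr (memS w hw hwc)
    rw [hg, map_mul, map_mul, show π (refl Q z hz) = 1 from (QuotientGroup.eq_one_iff _).mpr (memS z hz hzc),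
      mul_one] at h1
    rw [eq_inv_of_mul_eq_one_left h1, ← eq_inv_of_mul_eq_one_left (pinv v hv)]
  have conn : ∀ u v (hu : Q u ≠ 0) (hv : Q v ≠ 0), Q u = Q v → π (refl Q u hu) = π (refl Q v hv) := by
    intro u v hu hv huv
    obtain ⟨t, y, ht, hvy, huy, hQv⟩ := val_decomp Q (v := v) h2 hu
    by_cases hne : QuadraticMap.polar (⇑Q) u v ^ 2 ≠ (2 * Q u) ^ 2
    · exact nondeg u v hu hv huv hne
    push Not at hne
    have htt : t * t = 1 := by
      rw [← ht] at hne
      exact mul_right_cancel₀ (pow_ne_zero 2 (mul_ne_zero h2 hu)) (by linear_combination hne)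
    have hQy : Q y = 0 := by rw [htt] at hQv; linear_combination -hQv - huv
    set r := t • y
    have hr : Q r = 0 := by rw [QuadraticMap.map_smul, hQy, smul_zero]
    have hur : QuadraticMap.polar (⇑Q) u r = 0 := by rw [QuadraticMap.polar_smul_right, huy, smul_zero]
    have hvr : v = t • (u + r) := by rw [smul_add, smul_smul, htt, one_smul]; exact hvy
    by_cases hr0 : r = 0
    · exact (congrArg π (refl_congr Q hu hv (t := t) (by rw [hvr, hr0, add_zero]))).symm
    obtain ⟨w, huw, hQw, hrw⟩ : ∃ w, QuadraticMap.polar (⇑Q) u w = 0 ∧ Q w = Q u ∧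
        QuadraticMap.polar (⇑Q) r w ^ 2 ≠ (2 * Q u) ^ 2 := by
      obtain ⟨w, h3, h4, h6⟩ := exists_norm_perp Q h2 hQ h5 hu hur (Q u)
      exact ⟨w, h3, h6, by rw [h4, zero_pow two_ne_zero]; exact (pow_ne_zero 2 (mul_ne_zero h2 hu)).symm⟩
    have hw : Q w ≠ 0 := hQw ▸ hu
    rw [nondeg u w hu hw hQw.symm (by rw [huw, zero_pow two_ne_zero]; exact (pow_ne_zero 2 (mul_ne_zero h2 hu)).symm)]
    refine nondeg w v hw hv (hQw.trans huv) ?_
    have hp : QuadraticMap.polar (⇑Q) w v = t * QuadraticMap.polar (⇑Q) r w := by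
      rw [hvr, QuadraticMap.polar_smul_right, QuadraticMap.polar_add_right, QuadraticMap.polar_comm (⇑Q) w u, huw,
        zero_add, QuadraticMap.polar_comm (⇑Q) w r, smul_eq_mul]
    rw [hp, hQw, mul_pow, show t ^ 2 = 1 by rw [pow_two, htt], one_mul]
    exact hrw
  have classes : ∀ v (hv : Q v ≠ 0), π (refl Q v hv) = 1 ∨ π (refl Q v hv) = π (refl Q δ hδ0) := by
    intro v hv
    by_cases h : IsSquare (Q v * c)
    · exact Or.inl ((QuotientGroup.eq_one_iff _).mpr (memS v hv h))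
    · right
      obtain ⟨r, hr⟩ := isSquare_trans h2 hδ0 hv hc hns (by rwa [mul_comm])
      set s := r / Q v
      have hQs : Q (s • v) = Q δ := by
        rw [QuadraticMap.map_smul, smul_eq_mul]
        simp only [s]
        field_simp
        linear_combination -hr
      rw [conn δ (s • v) hδ0 (hQs ▸ hδ0) hQs.symm]
      exact congrArg π (refl_congr Q hv (hQs ▸ hδ0) rfl).symm
  have cover : ∀ g, π g = 1 ∨ π g = π (refl Q δ hδ0) := by
    intro g
    induction mem_closure_refl Q hQ (Or.inl (card_ne_two h2)) g using Subgroup.closure_induction with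
    | mem x hx => obtain ⟨v, hv, rfl⟩ := hx; exact classes v hv
    | one => exact Or.inl (map_one π)
    | mul a b _ _ iha ihb =>
      rw [map_mul]
      rcases iha with h | h <;> rcases ihb with h' | h' <;> rw [h, h']
      · exact Or.inl (mul_one 1)
      · exact Or.inr (one_mul _)
      · exact Or.inr (mul_one _)
      · exact Or.inl (pinv δ hδ0)
    | inv a _ iha =>
      rw [map_inv]
      rcases iha with h | h <;> rw [h]
      · exact Or.inl inv_one
      · exact Or.inr (inv_eq_of_mul_eq_one_left (pinv δ hδ0))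
  obtain ⟨ψ, hψγ, hψδ⟩ : ∃ ψ : Cfsg.isometryGroup F (⇑Q) →* ℤˣ,
      ψ (refl Q γ hγ0) = 1 ∧ ψ (refl Q δ hδ0) = -1 := by
    have hne : spin Q (refl Q δ hδ0) ≠ spin Q (refl Q γ hγ0) := fun h =>
      hns (hγ ▸ (spin_eq_iff Q h2 hQ hn hδ0 hγ0).mp h)
    rcases Int.units_eq_one_or (spin Q (refl Q γ hγ0)) with h | h
    · exact ⟨spin Q, h, (Int.units_eq_one_or _).resolve_left (h ▸ hne)⟩
    · exact ⟨dickson Q hQ * spin Q, by simp [dickson_refl, h],
        by simp [dickson_refl, (Int.units_eq_one_or _).resolve_right (h ▸ hne)]⟩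
  have hle : K ≤ ψ.ker := by
    rw [Subgroup.closure_le]
    intro x hx
    obtain ⟨v, hv, hsq, rfl⟩ := toRefl x hx
    show ψ (refl Q v hv) = 1
    rw [refl_same_class Q hQ ψ hv hγ0 (by rw [hγ]; exact hsq), hψγ]
  rw [Subgroup.index_eq_two_iff]
  refine ⟨refl Q δ hδ0, fun b => ?_⟩
  rcases cover b with h | h
  · refine Or.inr ⟨(QuotientGroup.eq_one_iff b).mp h, fun hb => ?_⟩
    have h1 : ψ (b * refl Q δ hδ0) = 1 := hle hb
    rw [map_mul, hψδ, show ψ b = 1 from hle ((QuotientGroup.eq_one_iff b).mp h)] at h1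
    simp at h1
  · refine Or.inl ⟨(QuotientGroup.eq_one_iff _).mp (show π (b * refl Q δ hδ0) = 1 by rw [map_mul, h, pinv]), fun hb => ?_⟩
    have hb' : π b = 1 := (QuotientGroup.eq_one_iff b).mpr hb
    have h1 : ψ (refl Q δ hδ0) = 1 := hle ((QuotientGroup.eq_one_iff _).mp (h.symm.trans hb'))
    rw [hψδ] at h1
    simp at h1



/-- Let Q be a non-degenerate quadratic form on the n-dimensional coordinate space over the field with three elements, n odd and at least 5, and c a non-zero scalar. Then the subgroup of the isometry group of Q generated by the reflections in vectors of norm c has index 2 in the isometry group. -/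
theorem result (n : ℕ) (hn : 5 ≤ n) (hodd : Odd n) (Q : QuadraticForm (ZMod 3) (Fin n → ZMod 3)) (hQ : (QuadraticMap.polarBilin Q).Nondegenerate) (c : ZMod 3) (hc : c ≠ 0) : (Cfsg.reflectionSubgroup (⇑Q) c).index = 2 := by
  have key : ∀ x t : ZMod 3, t ≠ 0 → x * t ^ 2 = x := by decide +kernel
  have hset : Cfsg.reflectionsOfNorm (⇑Q) c = {g : Cfsg.isometryGroup (ZMod 3) (⇑Q) | ∃ (v : Fin n → ZMod 3) (t : ZMod 3),
      t ≠ 0 ∧ Q v = c * t ^ 2 ∧ ((g : Matrix.GeneralLinearGroup (Fin n) (ZMod 3)) : Matrix (Fin n) (Fin n) (ZMod 3)) = Cfsg.reflectionMatrix (⇑Q) v} := by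
    ext g
    exact ⟨fun ⟨v, hv, e⟩ => ⟨v, 1, one_ne_zero, by rw [hv]; ring, e⟩,
      fun ⟨v, t, ht, hv, e⟩ => ⟨v, by rw [hv, key c t ht], e⟩⟩
  rw [Cfsg.reflectionSubgroup, hset]
  exact square_class_index_five Q (by decide) hQ (by rw [Fintype.card_fin]; exact hn) hc

end Cfsg.Agent.S5359
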