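import Cfsg.Statements.S2607
import Cfsg.Agent.Known.OrthOut.Plus
import Cfsg.Agent.Known.OrthOut.PlusEight

set_option autoImplicit false
open Cfsg

namespace Cfsg.Agent.S2607

/-- Outer automorphism group of PΩ⁺_2m(q), q = 2^f: for m ≥ 5 it is the direct product of a group of order 2 (graph automorphism, an orthogonal transvection) and a cyclic group of order f (field automorphisms); for m = 4 triality enlarges it to S_3 × C_f. -/
theorem result {F : Type*} [Field F] [Fintype F] {f m : ℕ} (hf : 1 ≤ f) (hF : Fintype.card F = 2 ^ f) (hm : 4 ≤ m) : if m = 4 then Nonempty (Cfsg.Out (Cfsg.POmega F (Cfsg.quadFormPlus m F)) ≃* Equiv.Perm (Fin 3) × Multiplicative (ZMod f)) else Nonempty (Cfsg.Out (Cfsg.POmega F (Cfsg.quadFormPlus m F)) ≃* Multiplicative (ZMod 2 × ZMod f)) := by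
  classical
  haveI : Fact (Nat.Prime 2) := ⟨Nat.prime_two⟩
  haveI : CharP F 2 := charP_of_card_eq_prime_pow hF
  split_ifs with h4
  · subst h4
    haveI : CharP F 2 := charP_of_card_eq_prime_pow hF
    obtain ⟨C, L, T, hT⟩ := Cfsg.Lib.Known.ChevAut.tabs_of_mem (D := Cfsg.Lie.chevD4) (by simp)
    obtain ⟨e⟩ := Cfsg.Lib.Classical.AutOrders.chevD4_iso_POmega_any (F := F)
    have he : Nat.gcd 2 (Fintype.card F - 1) = 1 := Nat.prime_two.coprime_iff_not_dvd.2 (by
      rw [hF]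
      have h2 : 2 ∣ 2 ^ f := dvd_pow_self 2 (by omega)
      have h3 : 1 ≤ 2 ^ f := Nat.one_le_two_pow
      omega)
    obtain ⟨e'⟩ := Cfsg.Lib.OrthOut.Eight.out_even hF hT hf he
    exact ⟨(Cfsg.Lib.OrthOut.Eight.outEquiv e.symm).trans e'⟩
  · exact Cfsg.Lib.OrthOut.out_plus_two (p := 2) (show 5 ≤ m by omega) CharTwo.two_eq_zero hF _
      Cfsg.Lib.OrthSim.plus_coe

end Cfsg.Agent.S2607
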