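import Cfsg.Statements.S2608
import Cfsg.Agent.Known.OrthOut.Plus
import Cfsg.Agent.Known.OrthOut.PlusEight

set_option autoImplicit false
open Cfsg

namespace Cfsg.Agent.S2608

/-- Outer automorphism group of PΩ⁺_2m(q), q = p^f odd: for m = 4 it is S_4 × C_f (triality); for m ≥ 5 it is C_2 × C_2 × C_f when q ≡ 3 (mod 4) and m is odd, and D_8 × C_f otherwise. -/
theorem result {F : Type*} [Field F] [Fintype F] {p f m : ℕ} [Fact p.Prime] (hf : 1 ≤ f) (hF : Fintype.card F = p ^ f) (hp : p ≠ 2) (hm : 4 ≤ m) : if m = 4 then Nonempty (Cfsg.Out (Cfsg.POmega F (Cfsg.quadFormPlus m F)) ≃* Equiv.Perm (Fin 4) × Multiplicative (ZMod f)) else if p ^ f % 4 = 3 ∧ Odd m then Nonempty (Cfsg.Out (Cfsg.POmega F (Cfsg.quadFormPlus m F)) ≃* Multiplicative (ZMod 2 × ZMod 2 × ZMod f)) else Nonempty (Cfsg.Out (Cfsg.POmega F (Cfsg.quadFormPlus m F)) ≃* DihedralGroup 4 × Multiplicative (ZMod f)) := by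
  classical
  haveI : CharP F p := charP_of_card_eq_prime_pow hF
  have hodd : Odd (Fintype.card F) := hF ▸ ((Fact.out : p.Prime).odd_of_ne_two hp).pow
  split_ifs with h4 h34
  · subst h4
    haveI : CharP F p := charP_of_card_eq_prime_pow hF
    obtain ⟨C, L, T, hT⟩ := Cfsg.Lib.Known.ChevAut.tabs_of_mem (D := Cfsg.Lie.chevD4) (by simp)
    obtain ⟨e⟩ := Cfsg.Lib.Classical.AutOrders.chevD4_iso_POmega_any (F := F)
    obtain ⟨e'⟩ := Cfsg.Lib.OrthOut.Eight.out_odd hF hT hf hodd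
    exact ⟨(Cfsg.Lib.OrthOut.Eight.outEquiv e.symm).trans e'⟩
  all_goals
    have h2 : (2 : F) ≠ 0 := Cfsg.Lib.Classical.Refl.two_ne_zero_of_odd hodd
    have h := Cfsg.Lib.OrthOut.out_plus_odd (p := p) (show 5 ≤ m by omega) h2 hf hF _
      (Cfsg.Lib.OrthSim.plus_coe (F := F) (m := m))
    rw [hF] at h
  · rwa [if_pos h34] at h
  · rwa [if_neg h34] at h

end Cfsg.Agent.S2608
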