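import Cfsg.Statements.S5354
import Cfsg.Agent.ThreeTransposition.RankThree

set_option autoImplicit false
open Cfsg

namespace Cfsg.Agent.S5354

open Cfsg.Lib.ThreeTr


/-- Let D be a conjugation-invariant generating set of 3-transpositions of the finite group G on which G acts primitively by conjugation, and suppose two different members of D commute (width at least 2). Then G has a quasisimple normal subgroup L of index at most 2 with the generalized Fitting subgroup of G equal to L times the centre, the commuting graph of D is connected, and for d in D the subgroup generated by the members of D commuting with d is a maximal D-subgroup: it is proper, and every subgroup generated by members of D that contains it is either it or G. -/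
theorem result {G : Type*} [Group G] [Finite G] {D : Set G} (hD : Cfsg.IsThreeTranspositionGroup D) (hprim : Cfsg.IsPrimitiveUnderConj D) (hw : ∃ a ∈ D, ∃ b ∈ D, a ≠ b ∧ Commute a b) : (∃ L : Subgroup G, L.Normal ∧ Cfsg.IsQuasisimple L ∧ L.index ≤ 2 ∧ Cfsg.generalizedFittingSubgroup G = L ⊔ Subgroup.center G) ∧ (Cfsg.commutingGraph D).Connected ∧ ∀ d ∈ D, Subgroup.closure {y : G | y ∈ D ∧ Commute d y} ≠ ⊤ ∧ ∀ H : Subgroup G, Cfsg.IsDSubgroup D H → Subgroup.closure {y : G | y ∈ D ∧ Commute d y} ≤ H → H = Subgroup.closure {y : G | y ∈ D ∧ Commute d y} ∨ H = ⊤ := by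
  classical
  obtain ⟨d₀, hd₀, -⟩ := hprim.2.1
  have hcls : IsThreeTranspositionClass D := by
    refine ⟨hD.1, ⟨d₀, hd₀, Set.ext fun x => ⟨fun hx => ?_, fun hx => ?_⟩⟩, hD.2.2⟩
    · obtain ⟨g, hg⟩ := hprim.1 d₀ hd₀ x hx
      exact mem_conjugatesOf'.2 (isConj_iff.2 ⟨g, hg⟩)
    · obtain ⟨g, hg⟩ := isConj_iff.1 (mem_conjugatesOf'.1 hx)
      exact hg ▸ hD.2.1 g _ hd₀
  have hcen : ∀ p, (∀ a ∈ D, ∀ b ∈ D, a⁻¹ * b ∈ Cfsg.pCore p G → a = b) → Cfsg.pCore p G ≤ Subgroup.center G := by
    intro p hp x hx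
    haveI := (Cfsg.Lib.Components.pCore_normal_and_isPGroup (G := G) p).1
    have hle : (⊤ : Subgroup G) ≤ Subgroup.centralizer ({x} : Set G) := by
      rw [← hD.2.2, Subgroup.closure_le]
      intro a ha
      have h := hp a ha _ (hD.2.1 x a ha) (moved_diff_mem hx)
      refine Subgroup.mem_centralizer_singleton_iff.2 ?_
      calc a * x = (x * a * x⁻¹) * x := by rw [← h]
        _ = x * a := by group
    exact Subgroup.mem_center_iff.2 fun g => Subgroup.mem_centralizer_singleton_iff.1 (hle (Subgroup.mem_top g))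
  have hS : Semisimple D := by
    refine ⟨hcls, hprim.2.1, hcen 2 fun a ha b hb h => ?_, hcen 3 fun a ha b hb h => ?_⟩
    · exact (eq_of_vRel_of_primitive hprim hcls hb ha (vRel_of_mem_pCore hcls ha hb h)).symm
    · exact eq_of_wRel_of_primitive hprim hcls hw ha hb (wRel_of_mem_pCore hcls ha hb h)
  have hl : ∀ a ∈ D, ∀ b ∈ D, Linked D a b := fun a ha b hb => linked_of_primitive hprim hcls hw ha hb
  have hR : Rich D := ⟨hcls, hprim, hw⟩
  refine ⟨⟨Cfsg.layer G, inferInstance, hS.layer_comp.2, hS.index_le_two_of_linked hl, hS.genFitting_eq⟩,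
    (linked_iff_connected hcls).2 hl, fun d hd => ⟨?_, fun H hH hle => ?_⟩⟩
  · intro htop
    obtain ⟨e, he, hne⟩ := exists_not_commute hcls hprim.2.1 hd
    apply hne
    have : Subgroup.closure {y : G | y ∈ D ∧ Commute d y} ≤ Subgroup.centralizer ({d} : Set G) :=
      (Subgroup.closure_le _).2 fun y hy => Subgroup.mem_centralizer_singleton_iff.2 hy.2.eq.symm
    rw [htop] at this
    exact (Subgroup.mem_centralizer_singleton_iff.1 (this (Subgroup.mem_top e))).symm
  rw [or_iff_not_imp_left]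
  intro hne
  obtain ⟨z, hzD, hzH, hzd⟩ : ∃ z ∈ D, z ∈ H ∧ ¬ Commute d z := by
    by_contra hcon
    push Not at hcon
    refine hne (le_antisymm ?_ hle)
    rw [← hH]
    exact Subgroup.closure_mono fun y hy => ⟨hy.1, hcon y hy.1 hy.2⟩
  have hperp : perp D d ⊆ H := fun y hy => hle (Subgroup.subset_closure ⟨hy.1, hy.2.2⟩)
  have hdH : d ∈ H := hle (Subgroup.subset_closure ⟨hd, Commute.refl d⟩)
  obtain ⟨u₀, hu₀, hzu⟩ : ∃ u ∈ perp D d, ¬ Commute z u := by
    by_contra hcon
    push Not at hcon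
    have hsub : perp D d ⊆ perp D z := fun x hx =>
      ⟨hx.1, fun h => hzd (h ▸ hx.2.2), hcon x hx⟩
    have heq : perp D d = perp D z :=
      Set.eq_of_subset_of_ncard_le hsub (ncard_perp_eq hcls hzD hd).le (Set.toFinite _)
    have hW : WRel D d z := fun y hy => by
      have := Set.ext_iff.1 heq y
      simpa [perp, hy] using this
    exact hzd (eq_of_wRel_of_primitive hprim hcls hw hd hzD hW ▸ Commute.refl d)
  have hh₀ : ∃ h ∈ H, h * d * h⁻¹ = u₀ := by
    refine ⟨(z * u₀) * (d * z), mul_mem (mul_mem hzH (hperp hu₀)) (mul_mem hdH hzH), ?_⟩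
    have e : (z * u₀) * (d * z) * d * ((z * u₀) * (d * z))⁻¹ =
        (z * u₀) * ((d * z) * d * (d * z)⁻¹) * (z * u₀)⁻¹ := by group
    rw [e, mul_conj_eq hcls.1 hd hzD hzd, mul_conj_eq hcls.1 hzD hu₀.1 hzu]
  have hstep : ∀ u ∈ perp D d, ∃ h ∈ H, h * d * h⁻¹ = u := by
    intro u hu
    obtain ⟨h, hh, he⟩ := hh₀
    obtain ⟨g, hg, hgu⟩ := hR.perp_transitive hd hu₀ hu
    refine ⟨g * h, mul_mem ((Subgroup.closure_le _).2 hperp hg) hh, ?_⟩
    rw [← hgu, ← he]; group
  have hall : ∀ e, Linked D d e → ∃ h ∈ H, h * d * h⁻¹ = e := by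
    intro e he
    induction he with
    | refl => exact ⟨1, one_mem _, by group⟩
    | @tail b c _ hbc ih =>
      obtain ⟨h, hh, rfl⟩ := ih
      by_cases hcb : c = h * d * h⁻¹
      · exact ⟨h, hh, hcb.symm⟩
      have hc : c ∈ perp D (h * d * h⁻¹) := ⟨hbc.2.1, hcb, hbc.2.2⟩
      rw [← conj_image_perp hcls h d] at hc
      obtain ⟨u, hu, rfl⟩ := hc
      obtain ⟨k, hk, rfl⟩ := hstep u hu
      exact ⟨h * k, mul_mem hh hk, by group⟩
  rw [eq_top_iff, ← hD.2.2, Subgroup.closure_le]
  intro e he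
  obtain ⟨h, hh, rfl⟩ := hall e (hl d hd e he)
  exact mul_mem (mul_mem hh hdH) (inv_mem hh)

end Cfsg.Agent.S5354
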