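import Cfsg.Statements.S1452
import Cfsg.Agent.OddLocal.SmallStructure

set_option autoImplicit false
set_option linter.style.haveILetI false
open Cfsg

namespace Cfsg.Agent.S1452

/-- Let p be an odd prime and R a finite p-group containing an elementary abelian subgroup of order p ^ 3. If E is a normal elementary abelian subgroup of R of order p ^ 2, then E ≤ A for some normal subgroup A of R with C_R(A) = A that contains an elementary abelian subgroup of order p ^ 3. -/
theorem result {R : Type*} [Group R] [Finite R] (p : ℕ) [Fact p.Prime] (hp : p ≠ 2) (hR : IsPGroup p R) (hr : ¬ Cfsg.PRankLE p 2 R)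
    (E : Subgroup R) [E.Normal] (hE : Cfsg.IsElementaryAbelian p E) (hE2 : Nat.card E = p ^ 2) :
    ∃ A : Subgroup R, E ≤ A ∧ A.Normal ∧ Subgroup.centralizer (A : Set R) = A ∧ ¬ Cfsg.PRankLE p 2 A := by
  obtain ⟨A₀, hA₀n, hEA₀, hA₀, hself⟩ := Cfsg.Lib.OddP.exists_normal_elementary_ge hR hp E hE
  haveI := hA₀n
  have h3 := Cfsg.Lib.OddP.cube_le_card hR hr hA₀ hself
  obtain ⟨A, ⟨hAn, hA₀A, hAc⟩, hmax⟩ := exists_maximal_of_wellFoundedGT
    (fun A : Subgroup R => A.Normal ∧ A₀ ≤ A ∧ IsMulCommutative A) ⟨A₀, hA₀n, le_rfl, hA₀.1⟩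
  haveI := hAn
  refine ⟨A, hEA₀.trans hA₀A, hAn, Cfsg.Lib.PGroups.centralizer_eq_self_of_maximal_normal_abelian hR A hAc
    (fun B hB hBc hAB => le_antisymm (hmax ⟨hB, hA₀A.trans hAB, hBc⟩ hAB) hAB), fun hrank => ?_⟩
  have h2 := Cfsg.Lib.OddP.pRankLE_of_injective (p := p) (Subgroup.inclusion hA₀A)
    (Subgroup.inclusion_injective hA₀A) hrank ⊤ (by haveI := hA₀.1; infer_instance)
    (fun a _ => Subtype.ext (hA₀.2 a a.2))
  rw [Subgroup.card_top] at h2
  exact absurd (h3.trans h2) (not_le.mpr (Nat.pow_lt_pow_right (Fact.out : p.Prime).one_lt (by norm_num)))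

end Cfsg.Agent.S1452
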