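import Cfsg.Statements.S0501
import Cfsg.Agent.PGroups.FourGenerator.Main

set_option autoImplicit false
open Cfsg

namespace Cfsg.Agent.S0501

/-- A finite 2-group in which every normal elementary abelian subgroup has order at most 4 has sectional rank at most
4: every quotient of every subgroup has no elementary abelian subgroup of order exceeding 16. -/
theorem result {P : Type*} [Group P] [Finite P] (hP : IsPGroup 2 P)
    (h : ∀ A : Subgroup P, A.Normal → IsMulCommutative A → (∀ a ∈ A, a ^ 2 = 1) → Nat.card A ≤ 4) :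
    Cfsg.SectionalPRankLE 2 4 P := by
  obtain ⟨S⟩ := Cfsg.Lib.FourGen.Setup.exists' hP (fun B hn hc he => h B hn ⟨⟨fun a b =>
    Subtype.ext (hc a.1 a.2 b.1 b.2)⟩⟩ (fun a ha => by rw [pow_two]; exact he a ha))
  intro H N _ B _ hexp
  have e : (B.comap (QuotientGroup.mk' N)).map (QuotientGroup.mk' N) = B :=
    Subgroup.map_comap_eq_self_of_surjective (QuotientGroup.mk'_surjective N) B
  have hN : (⊥ : Subgroup (H ⧸ N)).comap (QuotientGroup.mk' N) = N := by
    rw [MonoidHom.comap_bot, QuotientGroup.ker_mk']
  have hNle : N ≤ B.comap (QuotientGroup.mk' N) := by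
    conv_lhs => rw [← hN]
    exact Subgroup.comap_mono bot_le
  have hb := S.bound (Subgroup.map_mono (f := H.subtype) hNle) (by
    rintro x ⟨y, hy, rfl⟩
    refine ⟨y * y, (QuotientGroup.eq_one_iff _).1 ?_, map_mul _ y y⟩
    rw [← QuotientGroup.mk'_apply, map_mul, ← pow_two]
    exact hexp _ hy)
  rw [Subgroup.relIndex_map_map_of_injective _ _ H.subtype_injective] at hb
  have hcard : N.relIndex (B.comap (QuotientGroup.mk' N)) = Nat.card B := by
    nth_rewrite 1 [← hN]
    rw [Subgroup.relIndex_comap, e, Subgroup.relIndex_bot_left]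
  rw [← hcard]
  exact hb.trans (by norm_num)

end Cfsg.Agent.S0501
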