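import Cfsg.Statements.S1234
import Cfsg.Agent.TwoFusion.EightMain

set_option autoImplicit false
open Cfsg

namespace Cfsg.Agent.S1234

/-- Let S be a finite 2-group and Q ≤ S a subgroup of order 32 having an elementary abelian subgroup E of order 16 and an involution s ∉ E whose centralizer in E has order 4 (so Q ≅ (Z₂ × Z₂) ≀ Z₂). If C_S(Z(Q)) = Q, then every section of S has 2-rank at most 4. -/
theorem result {S : Type*} [Group S] [Finite S] (hS : IsPGroup 2 S) (Q E : Subgroup S) (hEQ : E ≤ Q) (hE : Cfsg.IsElementaryAbelian 2 E) (hE16 : Nat.card E = 16) (hQ32 : Nat.card Q = 32) (s : S) (hsQ : s ∈ Q) (hsE : s ∉ E) (hs : orderOf s = 2) (hfix : Nat.card ↥(E ⊓ Subgroup.centralizer ({s} : Set S)) = 4) (hC : Subgroup.centralizer (((Subgroup.center Q).map Q.subtype : Subgroup S) : Set S) = Q) : Cfsg.SectionalPRankLE 2 4 S := by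
  classical
  haveI := Fact.mk Nat.prime_two
  have hEm : IsMulCommutative E := hE.1
  have hE2 : ∀ x ∈ E, x * x = 1 := fun x hx => by simpa [pow_two] using hE.2 x hx
  have hss : s * s = 1 := by rw [← pow_two, ← hs]; exact pow_orderOf_eq_one s
  have hEi : (E.subgroupOf Q).index = 2 := by
    have h1 := Subgroup.card_mul_index (E.subgroupOf Q)
    rw [Nat.card_congr (Subgroup.subgroupOfEquivOfLe hEQ).toEquiv, hE16, hQ32] at h1
    omega
  let A : Subgroup S := Q ⊓ Subgroup.centralizer ({s} : Set S)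
  let F : Subgroup S := E ⊓ Subgroup.centralizer ({s} : Set S)
  have hFA : F ≤ A := inf_le_inf_right _ hEQ
  have hsA : s ∈ A := ⟨hsQ, Subgroup.mem_centralizer_singleton_iff.2 rfl⟩
  have hsF : s ∉ F := fun h => hsE h.1
  have hmul : ∀ x ∈ A, x ∉ E → x * s ∈ F := fun x hx hxE =>
    ⟨(Subgroup.mul_mem_iff_of_index_two hEi (a := (⟨x, hx.1⟩ : Q)) (b := ⟨s, hsQ⟩)).2 (iff_of_false hxE hsE),
      mul_mem hx.2 hsA.2⟩
  have hA2 : ∀ x ∈ A, x * x = 1 := by
    intro x hx
    by_cases hxE : x ∈ E
    · exact hE2 x hxE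
    have h1 := hE2 _ (hmul x hx hxE).1
    have hc : x * s = s * x := Subgroup.mem_centralizer_singleton_iff.1 hx.2
    calc x * x = x * x * (s * s) := by rw [hss, mul_one]
      _ = x * (x * s) * s := by group
      _ = x * (s * x) * s := by rw [hc]
      _ = x * s * (x * s) := by group
      _ = 1 := h1
  have hA8 : Nat.card A = 8 := by
    have h1 := Cfsg.Lib.SelfCentEight.two_mul_card_le_of_not_mem hFA hsA hsF
    have h2 : Nat.card A ≤ Nat.card (F × Bool) := by
      refine Nat.card_le_card_of_injective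
        (fun x : A => if h : (x : S) ∈ E then ((⟨x, h, x.2.2⟩ : F), false) else (⟨(x : S) * s, hmul x x.2 h⟩, true)) ?_
      intro x y hxy
      by_cases hx : (x : S) ∈ E <;> by_cases hy : (y : S) ∈ E <;>
        simp only [hx, hy, dif_pos, dif_neg, not_false_eq_true, Prod.mk.injEq] at hxy
      · exact Subtype.ext (congrArg (fun f : F => (f : S)) hxy.1)
      · exact absurd hxy.2 Bool.false_ne_true
      · exact absurd hxy.2.symm Bool.false_ne_true
      · exact Subtype.ext (mul_right_cancel (congrArg (fun f : F => (f : S)) hxy.1))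
    rw [Nat.card_prod, Nat.card_eq_fintype_card (α := Bool), Fintype.card_bool] at h2
    have h3 : Nat.card F = 4 := hfix
    omega
  refine Cfsg.Lib.SelfCentEight.sectional_of_bound hS (Cfsg.Lib.SelfCentEight.bound_main hS A hA8 hA2 fun g hg => ?_)
  have hgQ : g ∈ Q := by
    rw [← hC]
    refine Subgroup.mem_centralizer_iff.2 ?_
    rintro z ⟨w, hw, rfl⟩
    refine (hg _ ⟨w.2, Subgroup.mem_centralizer_singleton_iff.2 ?_⟩).symm
    have h1 := congrArg Subtype.val (Subgroup.mem_center_iff.1 hw ⟨s, hsQ⟩)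
    exact h1.symm
  exact ⟨hgQ, Subgroup.mem_centralizer_singleton_iff.2 (hg s hsA)⟩

end Cfsg.Agent.S1234
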