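import Cfsg.Statements.S3224
import Cfsg.Agent.PGroups.MetacyclicTwo
import Cfsg.Agent.PGroups.MaxClass

set_option autoImplicit false
open Cfsg

namespace Cfsg.Agent.S3224

/-- A finite 2-group containing an involution whose centralizer has order 4 is dihedral, quasi-dihedral (semidihedral), or of order 4. -/
theorem result {S : Type*} [Group S] [Finite S] (hS : IsPGroup 2 S)
    (x : S) (hx : orderOf x = 2) (hC : Nat.card ↥(Subgroup.centralizer ({x} : Set S)) = 4) :
    (∃ n : ℕ, Nonempty (S ≃* DihedralGroup n)) ∨ Cfsg.IsQuasiDihedral S ∨ Nat.card S = 4 := by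
  classical
  have : Fact (Nat.Prime 2) := ⟨Nat.prime_two⟩
  obtain ⟨n, hn⟩ := IsPGroup.iff_card.1 hS
  set A := Subgroup.centralizer ({x} : Set S)
  by_cases h4 : Nat.card S = 4
  · exact Or.inr (Or.inr h4)
  have hn3 : 3 ≤ n := by
    have hle := Subgroup.card_le_card_group A
    rw [hC, hn] at hle
    by_contra h
    interval_cases n <;> simp_all
  have hxA : x ∈ A := Subgroup.mem_centralizer_iff.2 fun y hy => by rw [Set.mem_singleton_iff.1 hy]
  have hcomm : IsMulCommutative A := by
    have : Nat.card A = 2 ^ 2 := hC
    exact IsPGroup.isMulCommutative_of_card_eq_prime_sq this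
  have hcc : Subgroup.centralizer (A : Set S) = A := by
    refine le_antisymm (fun y hy => ?_) (fun y hy => ?_)
    · exact Subgroup.mem_centralizer_iff.2 fun w hw => by
        rw [Set.mem_singleton_iff.1 hw]; exact Subgroup.mem_centralizer_iff.1 hy x hxA
    · exact Subgroup.mem_centralizer_iff.2 fun w hw => congrArg Subtype.val (hcomm.is_comm.comm ⟨w, hw⟩ ⟨y, hy⟩)
  have : Group.IsNilpotent S := hS.isNilpotent
  have hcl := Cfsg.Lib.MaxClass.of_self_centralizing (p := 2) n S hn A hC hcc
  rcases Cfsg.Lib.MetaTwo.shape_of_maxClass hn hn3 hcl with ⟨m, -, h⟩ | h | ⟨m, hm, ⟨e⟩⟩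
  · exact Or.inl ⟨m, h⟩
  · exact Or.inr (Or.inl h)
  · exfalso
    have : NeZero m := ⟨by omega⟩
    -- the only involution of a quaternion group is central
    have hx1 : e x ≠ 1 := fun h => by
      rw [MulEquiv.map_eq_one_iff] at h
      simp [h] at hx
    have hx2 : e x * e x = 1 := by rw [← map_mul, ← pow_two, ← hx, pow_orderOf_eq_one, map_one]
    have hcent : ∀ y : QuaternionGroup m, e x * y = y * e x := by
      rcases hq : e x with i | i
      · rw [hq, QuaternionGroup.a_mul_a, ← QuaternionGroup.a_zero] at hx2
        injection hx2 with hi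
        have hneg : -i = i := neg_eq_of_add_eq_zero_left hi
        intro y
        cases y with
        | a j => rw [QuaternionGroup.a_mul_a, QuaternionGroup.a_mul_a, add_comm]
        | xa j => rw [QuaternionGroup.a_mul_xa, QuaternionGroup.xa_mul_a, sub_eq_add_neg, hneg]
      · exfalso
        rw [hq, QuaternionGroup.xa_mul_xa, ← QuaternionGroup.a_zero] at hx2
        injection hx2 with hi
        rw [add_sub_cancel_right] at hi
        have : (m : ZMod (2 * m)) ≠ 0 := fun h0 => by
          rw [ZMod.natCast_eq_zero_iff] at h0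
          have := Nat.le_of_dvd (by omega) h0
          omega
        exact this hi
    have htop : A = ⊤ := eq_top_iff.2 fun y _ => Subgroup.mem_centralizer_iff.2 fun w hw => by
      rw [Set.mem_singleton_iff.1 hw]
      exact e.injective (by rw [map_mul, map_mul]; exact hcent (e y))
    rw [htop, Subgroup.card_top, hn] at hC
    have := Nat.pow_le_pow_right two_pos hn3
    omega

end Cfsg.Agent.S3224
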