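import Cfsg.Statements.S0071
import Cfsg.Agent.Transfer.Frobenius

set_option autoImplicit false
open Cfsg
open Cfsg.Lib.Transfer
open scoped commutatorElement

namespace Cfsg.Agent.S0071

/-- The Frobenius normal p-complement Theorem states that a Sylow p-subgroup has a normal complement exactly when, for each of its subgroups Q, every element of the normalizer of Q of order prime to p centralizes Q. -/
theorem result {G : Type*} [Group G] [Finite G] {p : ℕ} [Fact p.Prime] (P : Sylow p G) : (∃ N : Subgroup G, N.Normal ∧ N.IsComplement' (P : Subgroup G)) ↔ ∀ Q : Subgroup G, Q ≤ (P : Subgroup G) → ∀ g ∈ Subgroup.normalizer (Q : Set G), Nat.Coprime (orderOf g) p → g ∈ Subgroup.centralizer (Q : Set G) := by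
  constructor
  · rintro ⟨N, hN, hc⟩ Q hQ g hg hcop
    haveI := hN
    exact centralize_of_hasNormalPComplement (hasNormalPComplement_of_isComplement' hc) Q
      (P.2.to_le hQ) g hg hcop
  · intro h
    refine exists_complement_of_hasNormalPComplement (hasNormalPComplement_of_frobenius ?_) P
    intro Q hQ g hg hcop
    obtain ⟨R, hR⟩ := hQ.exists_le_sylow
    obtain ⟨t, ht⟩ := MulAction.exists_smul_eq G R P
    have hle : Q.map (MulAut.conj t).toMonoidHom ≤ (P : Subgroup G) := by
      rw [← ht, sylow_smul_coe]
      exact Subgroup.map_mono hR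
    have h1 : t * g * t⁻¹ ∈
        Subgroup.normalizer ((Q.map (MulAut.conj t).toMonoidHom : Subgroup G) : Set G) := by
      rw [← map_conj_eq_self_iff, map_conj_map_conj, inv_mul_cancel_right, ← map_conj_map_conj,
        map_conj_eq_self_iff.2 hg]
    have h2 := h _ hle _ h1 (by
      have := (MulAut.conj t).orderOf_eq g
      simp only [MulAut.conj_apply] at this
      rwa [this])
    intro x hx
    have h3 := h2 (t * x * t⁻¹) ⟨x, hx, rfl⟩
    calc x * g = t⁻¹ * (t * x * t⁻¹ * (t * g * t⁻¹)) * t := by group
      _ = t⁻¹ * (t * g * t⁻¹ * (t * x * t⁻¹)) * t := by rw [h3]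
      _ = g * x := by group

end Cfsg.Agent.S0071
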