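import Cfsg.Statements.S5148
import Cfsg.Agent.Fusion.InnerSubsystem
import Cfsg.Agent.Fusion.FactorHyperfocal

set_option autoImplicit false
open Cfsg
open Cfsg.Lib.Fusion

namespace Cfsg.Agent.S5148

/-- A quasisimple fusion system over a finite p-group S (saturated, equal to its p-residual subsystem, with simple — in particular nontrivial — factor system modulo its centre) has S nonabelian. -/
theorem result {Ω : Type*} [Group Ω] {S : Subgroup Ω} [Finite S] (p : ℕ) [Fact p.Prime] (hS : IsPGroup p S) (F : Cfsg.FusionSystem S) (hq : F.Quasisimple p) : ¬ IsMulCommutative S := by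
  intro hab'
  obtain ⟨hF, hperf, hfac⟩ := hq
  set Z := F.center
  have hZS : Z ≤ S := (isCentral_center (F := F)).1
  have hZsc : F.StronglyClosed Z := stronglyClosed_of_apply hZS fun P f hf x hx hxZ => by
    rw [apply_of_mem_center hxZ hf hx]
    exact hxZ
  set θ := QuotientGroup.mk' (Z.subgroupOf S)
  have hker : ∀ s : S, θ s = 1 ↔ (s : Ω) ∈ Z := fun s =>
    (QuotientGroup.eq_one_iff s).trans Subgroup.mem_subgroupOf
  obtain ⟨E, hE⟩ := exists_factor_of_range (kerClosed_of_stronglyClosed hZsc hker) hZS hker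
    (MonoidHom.range_eq_top.mpr (QuotientGroup.mk'_surjective (Z.subgroupOf S)))
  have hsim := hfac E hE
  haveI : Finite (⊤ : Subgroup (S ⧸ Z.subgroupOf S)) := finite_of_range hE.2.2.1
  have hTp : IsPGroup p (⊤ : Subgroup (S ⧸ Z.subgroupOf S)) :=
    (hS.to_quotient _).of_injective (Subgroup.subtype _) Subtype.val_injective
  have hqab : ∀ x ∈ (⊤ : Subgroup (S ⧸ Z.subgroupOf S)), ∀ y ∈ (⊤ : Subgroup (S ⧸ Z.subgroupOf S)),
      x * y = y * x := by
    intro x _ y _
    obtain ⟨a, rfl⟩ := QuotientGroup.mk'_surjective (Z.subgroupOf S) x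
    obtain ⟨b, rfl⟩ := QuotientGroup.mk'_surjective (Z.subgroupOf S) y
    rw [← map_mul, ← map_mul, hab'.is_comm.comm a b]
  obtain ⟨-, hinner⟩ := (isSimple_abelian_iff hTp hsim.1 hqab).mp hsim
  have hbot : E.hyperfocalSubgroup p ≤ ⊥ := hyperfocal_le_of_coprime fun P hP α hα _ x hx => by
    obtain ⟨g, hg, e⟩ := hinner P _ ((isMap_autFun hP).mpr hα)
    rw [Subgroup.mem_bot, e x hx, hqab g hg x (hP hx), mul_inv_cancel_right, inv_mul_cancel]
  rw [hyperfocal_factor hS hF hZsc hE, hperf] at hbot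
  refine hsim.2.1 (le_bot_iff.mp fun q _ => ?_)
  obtain ⟨s, rfl⟩ := QuotientGroup.mk'_surjective (Z.subgroupOf S) q
  exact hbot ⟨s, s.2, rfl⟩

end Cfsg.Agent.S5148
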