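import Cfsg.Statements.S0120
import Cfsg.Agent.GaschutzYen.Omega

set_option autoImplicit false
open Cfsg

namespace Cfsg.Agent.S0120

/-- For odd p, a p'-automorphism of a p-group acting trivially on the elements of order dividing p is trivial. -/
theorem result {G : Type*} [Group G] [Finite G] {p : ℕ} [Fact p.Prime] (hp : p ≠ 2) (hG : IsPGroup p G) (a : MulAut G) (ha : Nat.Coprime (orderOf a) p) (h : ∀ x : G, x ^ p = 1 → a x = x) : a = 1 := by
  classical
  let A := Subgroup.zpowers a
  let X := G ⋊[A.subtype] A
  haveI : Finite X := Finite.of_equiv _ SemidirectProduct.equivProd.symm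
  haveI hQn : (SemidirectProduct.inl : G →* X).range.Normal := by
    rw [SemidirectProduct.range_inl_eq_ker_rightHom]; infer_instance
  have hQp : IsPGroup p (SemidirectProduct.inl : G →* X).range :=
    hG.of_surjective (SemidirectProduct.inl : G →* X).rangeRestrict (MonoidHom.rangeRestrict_surjective _)
  have hconj : ∀ x : G, (SemidirectProduct.inr ⟨a, Subgroup.mem_zpowers a⟩ : X) * SemidirectProduct.inl x
      = SemidirectProduct.inl (a x) * SemidirectProduct.inr ⟨a, Subgroup.mem_zpowers a⟩ := fun x => by
    have h := SemidirectProduct.inl_aut (φ := A.subtype) (⟨a, Subgroup.mem_zpowers a⟩ : A) x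
    rw [map_inv, eq_mul_inv_iff_mul_eq] at h
    exact h.symm
  have hc := Cfsg.Lib.GaschutzYen.le_centralizer_of_omega hp
    (R := Subgroup.zpowers (SemidirectProduct.inr ⟨a, Subgroup.mem_zpowers a⟩ : X)) _ rfl hQp
    (fun r _ => by rw [Subgroup.normalizer_eq_top]; exact Subgroup.mem_top r)
    (by
      rw [Nat.card_zpowers, orderOf_injective _ SemidirectProduct.inr_injective,
        show orderOf (⟨a, Subgroup.mem_zpowers a⟩ : A) = orderOf a from Subgroup.orderOf_mk a _]
      exact ha)
    (by
      rintro _ ⟨x, rfl⟩ hx r hr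
      have hx' : x ^ p = 1 := SemidirectProduct.inl_injective (φ := A.subtype) (by rw [map_pow, hx, map_one])
      obtain ⟨i, rfl⟩ := Subgroup.mem_zpowers_iff.mp hr
      refine (Commute.zpow_left ?_ i).eq
      show (SemidirectProduct.inr ⟨a, _⟩ : X) * SemidirectProduct.inl x = _
      rw [hconj, h x hx'])
  refine MulEquiv.ext fun x => ?_
  have h2 := Subgroup.mem_centralizer_iff.mp (hc (Subgroup.mem_zpowers _)) (SemidirectProduct.inl x) ⟨x, rfl⟩
  rw [hconj] at h2
  exact (SemidirectProduct.inl_injective (mul_right_cancel h2)).symm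

end Cfsg.Agent.S0120
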