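import Cfsg.Statements.S5241
import Mathlib
import Cfsg.Agent.Fusion.QdFusion

set_option autoImplicit false
open Cfsg Cfsg.FusionSystem Cfsg.Lib.Fusion

namespace Cfsg.Agent.S5241

/-- Let F be a saturated fusion system over a finite p-group S, Q a subgroup of S normal in F (so F is the normalizer system of Q), and suppose F is Qd(p)-free (Qd(p) is not involved in any model of the normalizer system of a fully normalized centric subgroup). Then every factor system F/Q is Qd(p)-free. -/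
theorem result {Ω : Type*} [Group Ω] {S : Subgroup Ω} [Finite S] (p : ℕ) [Fact p.Prime] (hS : IsPGroup p S) (F : Cfsg.FusionSystem S) (hF : F.IsSaturated p) (Q : Subgroup Ω) (hQ : F.IsNormal Q) (hfree : F.IsSectionFree p ↥(Cfsg.qd p)) {Ω' : Type*} [Group Ω'] {S' : Subgroup Ω'} (θ : ↥S →* Ω') (E : Cfsg.FusionSystem S') (hE : F.IsFactorSystem Q θ E) : E.IsSectionFree p ↥(Cfsg.qd p) := by
  intro R _ _ M hM L _ ι hmod hinv
  obtain ⟨hQS, hker, hrange, hmaps⟩ := hE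
  haveI : Finite S' := by
    rw [← hrange]
    exact Finite.of_surjective θ.rangeRestrict θ.rangeRestrict_surjective
  obtain ⟨Q0, π, hQ0, hπ, hrel⟩ := hasQd_of_model hM hmod hinv
  have hP : preimageAlong θ Q0 ≤ S := Subgroup.map_subtype_le _
  have hmem : ∀ x : preimageAlong θ Q0, θ ⟨x, hP x.2⟩ ∈ Q0 := by
    rintro ⟨_, y, hy, rfl⟩
    exact hy
  let π' : preimageAlong θ Q0 →* V2 p := π.comp
    ((θ.comp (Subgroup.inclusion hP)).codRestrict Q0 hmem)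
  have hπ' : Function.Surjective π' := by
    intro v
    obtain ⟨x, rfl⟩ := hπ v
    obtain ⟨s, hs⟩ : (x : Ω') ∈ θ.range := hrange.ge (hQ0 x.2)
    have hmem' : (s : Ω) ∈ preimageAlong θ Q0 :=
      ⟨s, show θ s ∈ Q0 from hs.symm ▸ x.2, rfl⟩
    exact ⟨⟨(s : Ω), hmem'⟩, congrArg π (Subtype.ext hs)⟩
  refine (isSectionFree_qd_iff hS hF).mp hfree ⟨_, π', hP, hπ', fun A => ?_⟩
  obtain ⟨f, ⟨φ', hφ', e⟩, hfrel⟩ := hrel A
  obtain ⟨-, φ, hφ, hP1, hv, hP', hind⟩ := (hmaps Q0 φ').mp hφ'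
  refine ⟨toFun' φ, isMap_of_mem hφ, fun x => ?_⟩
  obtain ⟨y, hy, hyπ⟩ := hfrel ⟨_, hmem x⟩
  have hx : θ ⟨φ x, hv x⟩ = y := by
    rw [hy, ← hind x, e]
  refine ⟨⟨φ x, ⟨⟨φ x, hv x⟩, show θ ⟨φ x, hv x⟩ ∈ Q0 from hx.symm ▸ y.2, rfl⟩⟩,
    (toFun'_apply φ x).symm, ?_⟩
  exact (congrArg π (Subtype.ext hx)).trans hyπ

end Cfsg.Agent.S5241
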