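import Cfsg.Statements.S0115
import Cfsg.Agent.PGroups.MaxClass

set_option autoImplicit false
open Cfsg

namespace Cfsg.Agent.S0115

universe u

open Subgroup in
open scoped commutatorElement in
/-- a `2`-group with commutator quotient of order `4` has maximal class -/
theorem of_index_four [Fact (Nat.Prime 2)] : ∀ (n : ℕ) (X : Type u) [Group X] [Finite X] [Group.IsNilpotent X],
    Nat.card X = 2 ^ n → 3 ≤ n → (_root_.commutator X).index = 4 → Group.nilpotencyClass X = n - 1 := by
  intro n
  induction n using Nat.strong_induction_on with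
  | _ n ih =>
  intro X _ _ _ hX hn hi
  have hP : IsPGroup 2 X := IsPGroup.of_card hX
  have hnc : ¬ ∀ a b : X, a * b = b * a := fun h => by
    rw [(_root_.commutator_def X).trans ((commutator_eq_bot_iff_le_centralizer (H₁ := (⊤ : Subgroup X)) (H₂ := ⊤)).2
      fun a _ => mem_centralizer_iff.2 fun b _ => h b a), index_bot, hX] at hi
    have := Nat.pow_le_pow_right (n := 2) two_pos hn
    omega
  have hle := Cfsg.Lib.MaxClass.class_le n X hX (by omega)
  have h1 : ¬ Group.nilpotencyClass X ≤ 1 := fun h => hnc fun a b => by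
    have h' := (Subgroup.lowerCentralSeries_eq_bot_iff_nilpotencyClass_le (G := X) (n := 1)).2 h
    rw [top_lowerCentralSeries_one] at h'
    have h2 : ⁅a, b⁆ ∈ _root_.commutator X := commutator_mem_commutator (mem_top a) (mem_top b)
    rw [h', mem_bot] at h2
    exact commutatorElement_eq_one_iff_mul_comm.1 h2
  rcases Nat.lt_or_ge n 4 with h | h
  · omega
  have hne : _root_.commutator X ≠ ⊥ := fun hb => hnc fun a b => by
    have h2 : ⁅a, b⁆ ∈ _root_.commutator X := commutator_mem_commutator (mem_top a) (mem_top b)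
    rw [hb, mem_bot] at h2
    exact commutatorElement_eq_one_iff_mul_comm.1 h2
  obtain ⟨z, hz', hzZ, hzo⟩ := Cfsg.Lib.PGroups.exists_mem_center_of_normal_ne_bot hP hne
  set Z₁ := zpowers z with hZ1
  haveI : Z₁.Normal := ⟨fun w hw g => by
    rw [mem_center_iff.1 (zpowers_le.2 hzZ hw) g, mul_inv_cancel_right]; exact hw⟩
  set π := QuotientGroup.mk' Z₁ with hπ
  have hf : Function.Surjective π := QuotientGroup.mk'_surjective _
  have hq : Nat.card (X ⧸ Z₁) = 2 ^ (n - 1) := by
    have h2 := card_eq_card_quotient_mul_card_subgroup Z₁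
    rw [hX, hZ1, Nat.card_zpowers, hzo, show n = n - 1 + 1 by omega, pow_succ] at h2
    exact (Nat.eq_of_mul_eq_mul_right two_pos h2).symm
  have hqi : (_root_.commutator (X ⧸ Z₁)).index = 4 := by
    rw [← hi, ← index_map_eq (_root_.commutator X) hf (by rw [hπ, QuotientGroup.ker_mk']; exact zpowers_le.2 hz'), _root_.commutator_def,
      _root_.commutator_def, map_commutator, map_top_of_surjective _ hf]
  have hcq := ih (n - 1) (by omega) (X ⧸ Z₁) hq (by omega) hqi
  -- the centre has order two
  obtain ⟨C', hC', hCi⟩ := Cfsg.Lib.MaxClass.exists_cyclic_index_two (n - 1) (X ⧸ Z₁) hq (by omega) hcq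
  set A := C'.comap π with hA
  have hAi : A.index = 2 := by rw [hA, index_comap_of_surjective _ hf, hCi]
  haveI : A.Normal := normal_of_index_eq_two hAi
  have hAc : ∀ a ∈ A, ∀ b ∈ A, a * b = b * a := by
    intro a ha b hb
    let g : A →* C' := (π.subgroupComap C')
    haveI := MonoidHom.isMulCommutative_of_isCyclic_of_ker_le_center g (fun k hk => by
      refine mem_center_iff.2 fun y => Subtype.ext ?_
      have h2 : (k : X) ∈ center X := zpowers_le.2 hzZ (by
        rw [← hZ1, ← QuotientGroup.ker_mk' Z₁]
        exact congrArg Subtype.val hk)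
      exact mem_center_iff.1 h2 y)
    exact congrArg Subtype.val (mul_comm' (⟨a, ha⟩ : A) ⟨b, hb⟩)
  obtain ⟨x, hx⟩ : ∃ x : X, x ∉ A := by
    by_contra h'
    push Not at h'
    rw [(eq_top_iff' A).2 h', index_top] at hAi
    norm_num at hAi
  have htop := Cfsg.Lib.MaxClass.sup_zpowers_eq_top hAi hx
  have hZA : center X ≤ A := by
    intro w hw
    by_contra hwA
    refine hnc fun a b => ?_
    obtain ⟨a₁, ha₁, u, hu, rfl⟩ := mem_sup_of_normal_left.1 (show a ∈ A ⊔ zpowers w by
      rw [Cfsg.Lib.MaxClass.sup_zpowers_eq_top hAi hwA]; exact mem_top a)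
    obtain ⟨b₁, hb₁, v, hv, rfl⟩ := mem_sup_of_normal_left.1 (show b ∈ A ⊔ zpowers w by
      rw [Cfsg.Lib.MaxClass.sup_zpowers_eq_top hAi hwA]; exact mem_top b)
    have hu' := mem_center_iff.1 (zpowers_le.2 hw hu)
    have hv' := mem_center_iff.1 (zpowers_le.2 hw hv)
    exact (((show Commute a₁ b₁ from hAc a₁ ha₁ b₁ hb₁).mul_right (hv' a₁)).mul_left
      ((show Commute b₁ u from hu' b₁).symm.mul_right (hv' u))).eq
  have hmul := Cfsg.Lib.MaxClass.card_commutator_mul_card_center A hAc x htop hZA
  have hA2 := A.card_mul_index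
  rw [hAi, hX] at hA2
  have hC2 := (_root_.commutator X).card_mul_index
  rw [hi, hX] at hC2
  have hZc : Nat.card (center X) = 2 := by
    have h4 : Nat.card (_root_.commutator X) * Nat.card (center X) = Nat.card (_root_.commutator X) * 2 := by omega
    exact Nat.eq_of_mul_eq_mul_left Nat.card_pos h4
  have hZeq : Z₁ = center X := eq_of_le_of_card_ge (zpowers_le.2 hzZ) (by rw [hZc, Nat.card_zpowers, hzo])
  haveI : Nontrivial X := Finite.one_lt_card_iff_nontrivial.1 (hX ▸ Nat.one_lt_pow (by omega) (by norm_num))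
  have heq : Group.nilpotencyClass (X ⧸ center X) = n - 1 - 1 := by
    refine le_antisymm ?_ ?_
    · exact Cfsg.Lib.MaxClass.class_le (p := 2) (n - 1) _ (by
        have h2 := card_eq_card_quotient_mul_card_subgroup (center X)
        rw [hX, hZc, show n = n - 1 + 1 by omega, pow_succ] at h2
        exact (Nat.eq_of_mul_eq_mul_right two_pos h2).symm) (by omega)
    · rw [← hcq]
      exact Group.nilpotencyClass_le_of_surjective (QuotientGroup.quotientMulEquivOfEq hZeq.symm).toMonoidHom
        (MulEquiv.surjective _)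
  rw [Group.nilpotencyClass_eq_quotient_center_plus_one, heq]
  omega


/-- A 2-group of order 2^n, n ≥ 3, is of maximal class exactly when its commutator quotient is a Klein four-group. -/
theorem result {X : Type*} [Group X] [Finite X] (n : ℕ) (hn : 3 ≤ n) (hX : Nat.card X = 2 ^ n) : Group.nilpotencyClass X = n - 1 ↔ IsKleinFour (X ⧸ commutator X) := by
  haveI : Fact (Nat.Prime 2) := ⟨Nat.prime_two⟩
  haveI : Group.IsNilpotent X := (IsPGroup.of_card hX).isNilpotent
  constructor
  · intro hc
    have hi := Cfsg.Lib.MaxClass.commutator_index n X hX (by omega) hc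
    have hΦ := Cfsg.Lib.MaxClass.frattini_eq_commutator n X hX hn hc
    have hcard : Nat.card (X ⧸ commutator X) = 4 := by rw [← Subgroup.index_eq_card, hi]; rfl
    refine ⟨hcard, ?_⟩
    have hsq : ∀ q : X ⧸ commutator X, q ^ 2 = 1 := by
      intro q
      obtain ⟨g, rfl⟩ := QuotientGroup.mk'_surjective (commutator X) q
      rw [← map_pow]
      exact (QuotientGroup.eq_one_iff _).2 (hΦ ▸ Cfsg.Lib.PGroups.pow_mem_frattini (IsPGroup.of_card hX) g)
    haveI : Nontrivial (X ⧸ commutator X) := Finite.one_lt_card_iff_nontrivial.1 (by omega)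
    exact ((Nat.dvd_prime Nat.prime_two).1 (Monoid.exponent_dvd_of_forall_pow_eq_one hsq)).resolve_left
      fun h => by
        obtain ⟨q, hq⟩ := exists_ne (1 : X ⧸ commutator X)
        have := Monoid.pow_exponent_eq_one q
        rw [h, pow_one] at this
        exact hq this
  · intro hk
    exact of_index_four n X hX hn ((Subgroup.index_eq_card (commutator X)).trans hk.card_four)

end Cfsg.Agent.S0115
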