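import Cfsg.Statements.S5236
import Cfsg.Agent.Fusion.ChainStab

set_option autoImplicit false
open Cfsg

namespace Cfsg.Agent.S5236

/-- Let p be an odd prime, F a saturated fusion system over a finite p-group S and P a subgroup of S strongly closed in F. Then P is normal in F if and only if Ω₁(P) (the subgroup generated by the elements of order p of P) has a chain of subgroups 1 = Q₀ ≤ Q₁ ≤ ⋯ ≤ Qₙ = Ω₁(P), each strongly closed in F, with [Qᵢ₊₁, P] ≤ Qᵢ for all i. -/
theorem result {Ω : Type*} [Group Ω] {S : Subgroup Ω} [Finite S] (p : ℕ) [Fact p.Prime] (hS : IsPGroup p S) (F : Cfsg.FusionSystem S) (hF : F.IsSaturated p) (hp : p ≠ 2) (P : Subgroup Ω) (hP : F.StronglyClosed P) : F.IsNormal P ↔ ∃ (n : ℕ) (Q : Fin (n + 1) → Subgroup Ω), Q 0 = ⊥ ∧ Q (Fin.last n) = Cfsg.omegaOne p P ∧ Monotone Q ∧ (∀ i : Fin (n + 1), F.StronglyClosed (Q i)) ∧ ∀ i : Fin n, ⁅Q i.succ, P⁆ ≤ Q i.castSucc := by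
  open Cfsg.Lib.Fusion in
  set W := Cfsg.omegaOne p P with hWdef
  haveI := finite_of_le hP.1
  have hWP : W ≤ P := (Subgroup.closure_le _).mpr fun x hx => hx.1
  constructor
  · intro hn
    have hWn : F.IsNormal W := by
      refine isNormal_of_characteristic hn hWP (Subgroup.characteristic_iff_map_le.mpr fun φ => ?_)
      rw [Subgroup.map_le_iff_le_comap]
      have hle : W ≤ ((W.subgroupOf P).comap φ.toMonoidHom).map P.subtype :=
        (Subgroup.closure_le _).mpr fun x hx => by
          refine ⟨⟨x, hx.1⟩, ?_, rfl⟩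
          show ((φ ⟨x, hx.1⟩ : P) : Ω) ∈ W
          refine Subgroup.subset_closure ⟨(φ ⟨x, hx.1⟩).2, ?_⟩
          have hxp : (⟨x, hx.1⟩ : P) ^ p = 1 := Subtype.ext hx.2
          rw [← Subgroup.coe_pow, ← map_pow, hxp, map_one, Subgroup.coe_one]
      intro y hy
      obtain ⟨z, hz, e⟩ := hle hy
      exact (Subtype.ext e : z = y) ▸ hz
    obtain ⟨n, C, hC0, hCn, hmono, hCnorm, hcomm⟩ := exists_chain_of_isNormal hS hn
    refine ⟨n, fun i => C i ⊓ W, by simp [hC0], by simp [hCn, inf_eq_right.mpr hWP],
      fun i j hij => inf_le_inf_right _ (hmono hij), fun i => ?_, fun i => ?_⟩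
    · exact stronglyClosed_of_apply (inf_le_right.trans hWn.1) fun Q f hf x hx hxi =>
        ⟨stronglyClosed_apply (stronglyClosed_of_isNormal (hCnorm i)) hf hx hxi.1,
          stronglyClosed_apply (stronglyClosed_of_isNormal hWn) hf hx hxi.2⟩
    · refine le_inf ((Subgroup.commutator_mono inf_le_left le_rfl).trans (hcomm i)) ?_
      refine Subgroup.commutator_le.mpr fun w hw g hg => ?_
      rw [commutatorElement_def]
      have := W.mul_mem hw.2 (conj_mem_of_mem_normalizer
        (normalizes_of_stronglyClosed (stronglyClosed_of_isNormal hWn) (hP.1 hg)) (W.inv_mem hw.2))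
      convert this using 1
      group
  · rintro ⟨n, Q, h0, hn, -, hQc, hQcomm⟩
    have hSc : F.StronglyClosed S := stronglyClosed_of_apply le_rfl fun P f hf x hx _ => hf.mem_S hx
    refine isNormal_of_sections hS hF hP (J := Option (Fin n))
      (fun j => j.elim S fun i => Q i.succ) (fun j => j.elim P fun i => Q i.castSucc) ?_ ?_ ?_ ?_
    · rintro (_ | i)
      · exact hSc
      · exact hQc _
    · rintro (_ | i)
      · exact hP
      · exact hQc _
    · rintro (_ | i)
      · intro x hx g hg
        show x⁻¹ * (g * x * g⁻¹) ∈ P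
        have := P.mul_mem (conj_mem_of_mem_normalizer (normalizes_of_stronglyClosed hP (S.inv_mem hx)) hg)
          (P.inv_mem hg)
        simpa [mul_assoc] using this
      · exact conj_diff_mem (hQcomm i)
    intro R hRn hRc hRr α hα hcop h
    have hR := hRn.1
    haveI := finite_of_le hR
    have hfix : ∀ i : Fin (n + 1), ∀ y : R, (y : Ω) ∈ Q i → α y = y := by
      intro i
      induction i using Fin.induction with
      | zero =>
        intro y hy
        rw [h0, Subgroup.mem_bot] at hy
        rw [show y = 1 from Subtype.ext hy, map_one]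
      | succ i ih => exact fun y hy => fix_of_fix_mem hS hR hcop (h (some i) y hy) ih
    have hfixP : ∀ y : R, (y : Ω) ∈ P → α y = y := by
      refine fun y hy => fix_of_small (hS.of_injective _ (Subgroup.inclusion_injective hR))
        (P.subgroupOf R) α hcop (fun x hx => aut_mem_of_stronglyClosed hP hR hα hx) (fun x hx hs => ?_)
        y hy
      rcases hs with hp' | ⟨h2, -⟩
      · refine hfix (Fin.last n) x ?_
        rw [hn]
        exact Subgroup.subset_closure ⟨hx, congrArg Subtype.val hp'⟩
      · exact absurd h2 hp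
    exact MulEquiv.ext fun x => fix_of_fix_mem hS hR hcop (h none x (hR x.2)) hfixP

end Cfsg.Agent.S5236
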