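import Cfsg.Statements.S5234
import Cfsg.Agent.Fusion.SmallOmega
import Cfsg.Agent.Fusion.Metacyclic
import Cfsg.Agent.S5236


set_option autoImplicit false
open Cfsg

namespace Cfsg.Agent.S5234

/-- Let p be an odd prime, F a saturated fusion system over a finite p-group S and P a metacyclic subgroup of S strongly closed in F. Then P is normal in F. -/
theorem result {Ω : Type*} [Group Ω] {S : Subgroup Ω} [Finite S] (p : ℕ) [Fact p.Prime] (hS : IsPGroup p S) (F : Cfsg.FusionSystem S) (hF : F.IsSaturated p) (P : Subgroup Ω) (hP : F.StronglyClosed P) (hp : p ≠ 2) (hm : Cfsg.IsMetacyclic ↥P) : F.IsNormal P := by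
  open Cfsg.Lib.Fusion in
  haveI := finite_of_le hP.1
  have hPg : IsPGroup p P := hS.of_injective _ (Subgroup.inclusion_injective hP.1)
  obtain ⟨E, hEc, hEe, hEall⟩ := exists_small_omega_of_metacyclic hPg hp hm
  set W := Cfsg.omegaOne p P with hW
  have hWE : W = E.map P.subtype := by
    refine le_antisymm ((Subgroup.closure_le _).mpr fun x hx => ⟨⟨x, hx.1⟩, hEall _ (Subtype.ext hx.2), rfl⟩) ?_
    rintro _ ⟨e, he, rfl⟩
    exact Subgroup.subset_closure ⟨e.2, congrArg Subtype.val (hEe e he)⟩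
  have hWP : W ≤ P := (Subgroup.closure_le _).mpr fun x hx => hx.1
  have hexp : ∀ w ∈ W, w ^ p = 1 := by
    rw [hWE]; rintro _ ⟨e, he, rfl⟩; exact congrArg Subtype.val (hEe e he)
  have hall : ∀ x ∈ P, x ^ p = 1 → x ∈ W := fun x hx hxp => Subgroup.subset_closure ⟨hx, hxp⟩
  have hcard : Nat.card W ≤ p ^ 2 := by
    rw [hWE, Subgroup.card_map_of_injective P.subtype_injective]; exact hEc
  have hWc := stronglyClosed_omegaOne hP hWP hexp hall
  have hbot : F.StronglyClosed ⊥ := stronglyClosed_of_apply bot_le fun R f hf x hx hx1 => by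
    rw [Subgroup.mem_bot] at hx1 ⊢; rw [hx1, hf.map_one]
  refine (Cfsg.Agent.S5236.result p hS F hF hp P hP).mpr ?_
  by_cases hne : ∃ a ∈ P, ∃ w ∈ W, a * w * a⁻¹ ≠ w
  · obtain ⟨a, ha, hne⟩ := hne
    obtain ⟨hZc, hd⟩ := stronglyClosed_inf_centralizer hS hF hp hP hWP hexp hall hcard ha hne
    refine ⟨2, ![⊥, W ⊓ Subgroup.centralizer (P : Set Ω), W], rfl, rfl, ?_, ?_, ?_⟩
    · refine Fin.monotone_iff_le_succ.mpr fun i => ?_
      fin_cases i
      · exact bot_le
      · exact inf_le_left
    · intro i; fin_cases i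
      · exact hbot
      · exact hZc
      · exact hWc
    · intro i; fin_cases i
      · show ⁅W ⊓ Subgroup.centralizer (P : Set Ω), P⁆ ≤ ⊥
        refine Subgroup.commutator_le.mpr fun z hz g hg => Subgroup.mem_bot.mpr ?_
        exact commutatorElement_eq_one_iff_mul_comm.mpr (Subgroup.mem_centralizer_iff.mp hz.2 g hg).symm
      · show ⁅W, P⁆ ≤ W ⊓ Subgroup.centralizer (P : Set Ω)
        refine Subgroup.commutator_le.mpr fun w hw g hg => ?_
        have := Subgroup.inv_mem _ (hd w⁻¹ (W.inv_mem hw) g hg)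
        rw [inv_inv] at this
        convert Subgroup.inv_mem _ (Subgroup.inv_mem _ (hd w⁻¹ (W.inv_mem hw) g hg)) using 1
        rw [commutatorElement_def]; group
  · push_neg at hne
    refine ⟨1, ![⊥, W], rfl, rfl, ?_, ?_, ?_⟩
    · refine Fin.monotone_iff_le_succ.mpr fun i => ?_
      fin_cases i
      exact bot_le
    · intro i; fin_cases i
      · exact hbot
      · exact hWc
    · intro i; fin_cases i
      show ⁅W, P⁆ ≤ ⊥
      refine Subgroup.commutator_le.mpr fun w hw g hg => Subgroup.mem_bot.mpr ?_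
      exact commutatorElement_eq_one_iff_mul_comm.mpr (mul_inv_eq_iff_eq_mul.mp (hne g hg w hw)).symm


end Cfsg.Agent.S5234
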