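import Cfsg.Statements.S5134
import Cfsg.Agent.Fusion.ModClosed
import Cfsg.Agent.Fusion.Factor

set_option autoImplicit false
open Cfsg
open Cfsg.Lib.Fusion

namespace Cfsg.Agent.S5134

/-- Let F be a saturated fusion system over a finite p-group S, S₀ a subgroup strongly closed in F, and E the factor system of F modulo S₀ read through θ (a homomorphism on S with kernel S₀ and image the group of E). Then θ is a surjective morphism of fusion systems from F onto E: in particular every map of F, and not only the maps whose source contains S₀, induces along θ a map of E. -/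
theorem result {Ω : Type*} [Group Ω] {S : Subgroup Ω} [Finite S] (p : ℕ) [Fact p.Prime] (hS : IsPGroup p S) (F : Cfsg.FusionSystem S) (hF : F.IsSaturated p) (S₀ : Subgroup Ω) (hS₀ : F.StronglyClosed S₀) {Ω' : Type*} [Group Ω'] {S' : Subgroup Ω'} (θ : S →* Ω') (E : Cfsg.FusionSystem S') (hE : F.IsFactorSystem S₀ θ E) : F.IsSurjectiveMorphism E θ := by
  obtain ⟨-, hker, hrange, hmaps⟩ := id hE
  have h := isQuot_of_isFactorSystem hS₀ hE
  refine ⟨⟨fun s => hrange.le ⟨s, rfl⟩, fun P φ hφ => ?_⟩, hrange,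
    fun P' hP' φ' hφ' => ((hmaps P' φ').mp hφ').2⟩
  have hf := isMap_of_mem hφ
  have hPS := hf.le
  obtain ⟨g, hg, hgx⟩ := liftsMod hS hF hS₀ hf
  set P' := FusionSystem.imageAlong θ P with hP'
  have hpre : FusionSystem.preimageAlong θ P' = P ⊔ S₀ := by
    refine le_antisymm ?_ (sup_le (fun x hx => ⟨⟨x, hPS hx⟩, ⟨⟨x, hPS hx⟩, hx, rfl⟩, rfl⟩) ?_)
    · rintro _ ⟨s, ⟨x, hx, e⟩, rfl⟩
      have h1 : ((x⁻¹ * s : S) : Ω) ∈ S₀ := (hker _).mp (by rw [map_mul, map_inv, e, inv_mul_cancel])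
      have := Subgroup.mul_mem _ (Subgroup.mem_sup_left (T := S₀) hx) (Subgroup.mem_sup_right (S := P) h1)
      simpa using this
    · intro x hx
      exact ⟨⟨x, hS₀.1 hx⟩, show θ ⟨x, hS₀.1 hx⟩ ∈ P' from ((hker ⟨x, hS₀.1 hx⟩).mpr hx).symm ▸ P'.one_mem, rfl⟩
  have hg' : IsMap F (FusionSystem.preimageAlong θ P') g := hpre ▸ hg
  have hP'S : P' ≤ S' := by
    rintro _ ⟨s, -, rfl⟩
    exact hrange.le ⟨s, rfl⟩
  obtain ⟨φ', hφ', e'⟩ := h.isMap_pushMap hP'S hg'
  refine ⟨φ', hφ', hPS, fun x => (F.le_of_mem hφ).2 x,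
    fun x => ⟨⟨x, hPS x.2⟩, x.2, rfl⟩, fun x => ?_⟩
  rw [e']
  have hxS : (x : Ω) ∈ P ⊔ S₀ := Subgroup.mem_sup_left x.2
  have h1 := h.pushMap_apply hg' (hpre.ge hxS)
  rw [qmap_apply (hPS x.2)] at h1
  show pushMap θ g (θ ⟨x, hPS x.2⟩) = _
  rw [h1, qmap_apply (hg.mem_S hxS)]
  have h2 := hgx x x.2
  rw [toFun'_apply φ x] at h2
  refine (inv_mul_eq_one.mp ?_).symm
  rw [← map_inv, ← map_mul]
  exact (hker _).mpr h2

end Cfsg.Agent.S5134
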