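import Cfsg.Statements.S5187
import Cfsg.Agent.PGroups.HomocyclicRankTwo


set_option autoImplicit false
universe u
open Cfsg

namespace Cfsg.Agent.S5187

/-- Let F be a saturated fusion system over a finite p-group S and H an abelian essential subgroup that can be generated by two elements (its Frattini quotient has order at most p²). Then H is elementary abelian of order p², or p ≤ 3 and H is homocyclic of rank two, that is isomorphic to C_{pᵏ} × C_{pᵏ} for some k. -/
theorem result {Ω : Type u} [Group Ω] {S : Subgroup Ω} [Finite S] (p : ℕ) [Fact p.Prime] (hS : IsPGroup p S)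
    (F : Cfsg.FusionSystem S) (hF : F.IsSaturated p) (H : Subgroup Ω) (hH : F.IsEssential p H) (hab : IsMulCommutative ↥H) (hrk : (frattini ↥H).index ≤ p ^ 2) :
    (Cfsg.IsElementaryAbelian p H ∧ Nat.card H = p ^ 2) ∨
      (p ≤ 3 ∧ ∃ k : ℕ, Nonempty (↥H ≃* Multiplicative (ZMod (p ^ k) × ZMod (p ^ k)))) := by
  classical
  have hfin : Finite ↥H := Cfsg.Lib.Fusion.finite_of_le hH.1.1
  haveI : Finite (MulAut ↥H) :=
    Finite.of_injective (fun f : MulAut ↥H => (f : ↥H → ↥H)) DFunLike.coe_injective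
  haveI := hab
  letI : CommGroup ↥H := { (inferInstance : Group ↥H) with
    mul_comm := fun a b => hab.is_comm.comm a b }
  set A := F.autGroup H with hA
  obtain ⟨R₁, R₂, hR⟩ : ∃ R₁ R₂ : Sylow p ↥A, R₁ ≠ R₂ :=
    Cfsg.Lib.Fusion.exists_two_sylow_of_essential hS hH
  have hp : p.Prime := Fact.out
  have hHp : IsPGroup p ↥H := (hS.of_injective (Subgroup.inclusion hH.1.1)
    (Subgroup.inclusion_injective hH.1.1))
  have hnocyc : ¬ IsCyclic ↥H := fun h => by
    haveI := h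
    exact hR (@Subsingleton.elim _ (Cfsg.Lib.Fusion.subsingleton_sylow_aut_of_cyclic (p := p) _) R₁ R₂)
  obtain ⟨i, hi, hic⟩ : ∃ i, i ≤ 2 ∧ (frattini ↥H).index = p ^ i := by
    obtain ⟨n, hn⟩ := IsPGroup.iff_card.1 hHp
    obtain ⟨i, -, hi⟩ := (Nat.dvd_prime_pow hp).1 (hn ▸ (frattini ↥H).index_dvd_card)
    exact ⟨i, (Nat.pow_le_pow_iff_right hp.one_lt).1 (hi ▸ hrk), hi⟩
  have hr : (frattini ↥H).index = p ^ 2 := by
    by_contra hne
    refine hnocyc ?_
    haveI : IsCyclic (↥H ⧸ frattini ↥H) := by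
      rcases (show i = 0 ∨ i = 1 by
        rcases Nat.lt_or_ge i 2 with h | h
        · omega
        · exact absurd (by rw [hic, show i = 2 by omega]) hne) with h | h
      · haveI : Subsingleton (↥H ⧸ frattini ↥H) := (Nat.card_eq_one_iff_unique.1 (by
          rw [← Subgroup.index_eq_card, hic, h, pow_zero])).1
        exact isCyclic_of_subsingleton
      · exact isCyclic_of_prime_card (p := p) (by rw [← Subgroup.index_eq_card, hic, h, pow_one])
    exact Cfsg.Lib.PGroups.isCyclic_of_isCyclic_quotient_frattini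
  rcases Cfsg.Lib.PGroups.char_index_or_homocyclic hHp hr with ⟨M, hM, hinv⟩ | ⟨k, hk, hexp, ⟨e⟩⟩
  · exact absurd (@Subsingleton.elim _ (Cfsg.Lib.Fusion.subsingleton_sylow_aut_of_char hHp
      (hr ▸ dvd_rfl) M hM A fun a _ => hinv a) R₁ R₂) hR
  have hcard : Nat.card ↥H = p ^ k * p ^ k := by
    rw [Nat.card_congr e.toEquiv, Nat.card_congr Multiplicative.toAdd, Nat.card_prod, Nat.card_zmod]
  rcases eq_or_lt_of_le hk with hk1 | hk2
  · refine Or.inl ⟨⟨hab, fun a ha => ?_⟩, ?_⟩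
    · have := congrArg Subtype.val (hexp ⟨a, ha⟩)
      rw [← hk1, pow_one] at this
      exact this
    · rw [hcard, ← hk1, pow_one, pow_two]
  refine Or.inr ⟨?_, k, ⟨e⟩⟩
  by_contra hp3
  have hp5 : 5 ≤ p := by
    have h4 : p ≠ 4 := fun h => by rw [h] at hp; norm_num at hp
    omega
  obtain ⟨r, hr1⟩ := (Subgroup.ne_bot_iff_exists_ne_one).1 (Cfsg.Lib.Fusion.sylow_ne_bot_of_ne hR)
  obtain ⟨l, hl⟩ := R₁.2 r
  -- an element of order `p`
  obtain ⟨g, hg1, hgp⟩ : ∃ g : ↥A, g ≠ 1 ∧ g ^ p = 1 := by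
    have hd : orderOf r ∣ p ^ l := orderOf_dvd_of_pow_eq_one hl
    obtain ⟨j, -, hj⟩ := (Nat.dvd_prime_pow hp).1 hd
    have hj0 : j ≠ 0 := fun h0 => hr1 (orderOf_eq_one_iff.1 (by rw [hj, h0, pow_zero]))
    refine ⟨((r ^ p ^ (j - 1) : ↥(R₁ : Subgroup ↥A)) : ↥A), ?_, ?_⟩
    · intro h
      have h' : r ^ p ^ (j - 1) = 1 := Subtype.ext h
      have := orderOf_dvd_of_pow_eq_one h'
      rw [hj, Nat.pow_dvd_pow_iff_le_right hp.one_lt] at this
      omega
    · rw [← SubmonoidClass.coe_pow, ← pow_mul, ← pow_succ, Nat.sub_add_cancel (by omega), ← hj,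
        pow_orderOf_eq_one, OneMemClass.coe_one]
  have hgΦ : ∀ x, (g : MulAut ↥H) x * x⁻¹ ∈ frattini ↥H :=
    Cfsg.Lib.PGroups.trivial_on_frattini_of_order_p hHp hp5 hk2 hexp hr hcard _
      (congrArg Subtype.val hgp)
  have hΦc : ∀ (a : MulAut ↥H), ∀ q ∈ frattini ↥H, a q ∈ frattini ↥H := fun a q hq => by
    have hc : (frattini ↥H).Characteristic := inferInstance
    rw [Subgroup.characteristic_iff_map_le] at hc
    exact hc a ⟨q, hq, rfl⟩
  let St : Subgroup (MulAut ↥H) :=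
    { carrier := {c | ∀ x, c x * x⁻¹ ∈ frattini ↥H}
      one_mem' := fun x => by simp
      mul_mem' := fun {c d} hc hd x => by
        have h := Subgroup.mul_mem _ (hc (d x)) (hd x)
        simpa [MulAut.mul_apply, mul_assoc] using h
      inv_mem' := fun {c} hc x => by simpa using Subgroup.inv_mem _ (hc (c⁻¹ x)) }
  have hStp : IsPGroup p St := by
    obtain ⟨n, hn⟩ := IsPGroup.iff_card.1 hHp
    obtain ⟨j, -, hj⟩ := (Nat.dvd_prime_pow hp).1
      (Cfsg.Lib.PGroups.card_stabilizing_dvd hn hr St fun c hc x => hc x)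
    exact IsPGroup.of_card hj
  haveI hN : (St.subgroupOf A).Normal := ⟨fun c hc a x => by
    have h := hΦc (a : MulAut ↥H) _ (hc ((a : MulAut ↥H)⁻¹ x))
    simpa using h⟩
  have hle : St.subgroupOf A ≤ Cfsg.pCore p ↥A :=
    le_sSup ⟨hN, hStp.comap_of_injective A.subtype A.subtype_injective⟩
  have hrad := Cfsg.Lib.Fusion.radical_of_stronglyEmbedded hS hH
  have hmem : (g : MulAut ↥H) ∈ Cfsg.Inn ↥H := by
    rw [← hrad.2]
    exact Subgroup.mem_map_of_mem _ (hle (show g ∈ St.subgroupOf A from hgΦ))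
  obtain ⟨q, hq⟩ := hmem
  refine hg1 (Subtype.ext (MulEquiv.ext fun x => ?_))
  rw [← hq]
  show q * x * q⁻¹ = x
  rw [mul_comm q x, mul_inv_cancel_right]

end Cfsg.Agent.S5187
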