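import Cfsg.Statements.S1055
import Cfsg.Agent.Chev.Simple

set_option autoImplicit false
open Cfsg
open Cfsg.Lib.Chev Cfsg.Lie

namespace Cfsg.Agent.S1055

/-- G₂(F) is simple for every field `F` other than the field with two elements. -/
theorem result {F : Type*} [Field F] (hF : ∃ a : F, a ≠ 0 ∧ a ≠ 1) : IsSimpleGroup ↥(Cfsg.Lie.chevG2.group F) ∧ ¬ IsMulCommutative ↥(Cfsg.Lie.chevG2.group F) := by
  exact (⟨G2.ok, G2.okChain_, G2.okBase_all, okOrder_G2⟩ : Struct chevG2 G2.cert).simple okNeg_G2 G2.irr opp_G2 ((⟨G2.ok, G2.okChain_, G2.okBase_all, okOrder_G2⟩ : Struct chevG2 G2.cert).commutator_eq_top G2.perfect fun _ => hF) (by decide)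

end Cfsg.Agent.S1055
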