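import Cfsg.Statements.S0107
import Cfsg.Agent.Transfer.ThompsonTransfer
import Mathlib.GroupTheory.SpecificGroups.Dihedral

set_option autoImplicit false
open Cfsg

namespace Cfsg.Agent.S0107

/-- A finite group with no nontrivial 2-group quotient and dihedral Sylow 2-subgroups of order at least 8 has a single class of involutions. -/
theorem result {G : Type*} [Group G] [Finite G] (T : Sylow 2 G) (n : ℕ) (hn : 2 ≤ n) (hT : Nonempty ((T : Subgroup G) ≃* DihedralGroup (2 ^ n))) (hO : Cfsg.pResidual 2 G = ⊤) (x y : G) (hx : orderOf x = 2) (hy : orderOf y = 2) : ∃ g : G, g * x * g⁻¹ = y := by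
  haveI : Fact (Nat.Prime 2) := ⟨Nat.prime_two⟩
  obtain ⟨e⟩ := hT
  have hm0 : 2 ^ n ≠ 0 := by positivity
  haveI : NeZero (2 ^ n) := ⟨hm0⟩
  let φ : DihedralGroup (2 ^ n) →* G := (T : Subgroup G).subtype.comp e.symm.toMonoidHom
  have hφ : Function.Injective φ := Subtype.val_injective.comp e.symm.injective
  set z : G := φ (DihedralGroup.r ((2 ^ (n - 1) : ℕ) : ZMod (2 ^ n))) with hz
  have hn2 : 2 ^ n = 2 * 2 ^ (n - 1) := by rw [← pow_succ', Nat.sub_add_cancel (by omega)]
  -- an involution among the rotations is `z`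
  have hrot : ∀ i : ZMod (2 ^ n), orderOf (φ (DihedralGroup.r i)) = 2 → φ (DihedralGroup.r i) = z := by
    intro i hi
    rw [orderOf_injective φ hφ] at hi
    obtain ⟨k, rfl⟩ := ZMod.natCast_zmod_surjective i
    have h2 : ((2 * k : ℕ) : ZMod (2 ^ n)) = 0 := by
      have h := pow_orderOf_eq_one (DihedralGroup.r (k : ZMod (2 ^ n)))
      rw [hi, pow_two, DihedralGroup.r_mul_r, DihedralGroup.one_def, DihedralGroup.r.injEq] at h
      rw [Nat.cast_mul, Nat.cast_ofNat, two_mul]
      exact h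
    rw [ZMod.natCast_eq_zero_iff, hn2, Nat.mul_dvd_mul_iff_left (by norm_num)] at h2
    obtain ⟨c, rfl⟩ := h2
    rw [hz]
    congr 2
    rcases Nat.even_or_odd c with ⟨d, hd⟩ | ⟨d, hd⟩
    · exfalso
      have h0 : ((2 ^ (n - 1) * c : ℕ) : ZMod (2 ^ n)) = 0 := by
        rw [ZMod.natCast_eq_zero_iff, hn2, hd]
        exact ⟨d, by ring⟩
      rw [h0, ← DihedralGroup.one_def, orderOf_one] at hi
      omega
    · rw [hd, mul_add, mul_one, ← mul_assoc, mul_comm _ 2, ← hn2, Nat.cast_add, Nat.cast_mul, ZMod.natCast_self,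
        zero_mul, zero_add]
  -- the rotations form a subgroup of index twice an odd number
  let C : Subgroup G := (Subgroup.zpowers (DihedralGroup.r (1 : ZMod (2 ^ n)))).map φ
  have hC : ∀ g ∈ C, ∃ i, g = φ (DihedralGroup.r i) := by
    rintro _ ⟨w, hw, rfl⟩
    obtain ⟨k, rfl⟩ := Subgroup.mem_zpowers_iff.1 hw
    exact ⟨_, by rw [DihedralGroup.r_one_zpow]⟩
  have hCi : C.index = 2 * (T : Subgroup G).index := by
    have h1 : Nat.card C = 2 ^ n := by
      rw [Subgroup.card_map_of_injective hφ, Nat.card_zpowers, DihedralGroup.orderOf_r_one]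
    have h2 : Nat.card (T : Subgroup G) = 2 * 2 ^ n := by
      rw [Nat.card_congr e.toEquiv, DihedralGroup.nat_card]
    have h3 := Subgroup.card_mul_index C
    rw [← Subgroup.card_mul_index (T : Subgroup G), h1, h2] at h3
    exact Nat.eq_of_mul_eq_mul_left (Nat.pos_of_ne_zero hm0) (by rw [h3]; ring)
  have hodd : Odd (T : Subgroup G).index := Nat.not_even_iff_odd.1 fun h => T.not_dvd_index h.two_dvd
  have key : ∀ u : G, orderOf u = 2 → ∃ g : G, g * u * g⁻¹ = z := by
    intro u hu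
    by_contra hno
    push Not at hno
    obtain ⟨M, hMn, hMi, huM⟩ := Cfsg.Lib.Transfer.exists_index_two_not_mem C hodd hCi hu fun g hg => by
      obtain ⟨i, hi⟩ := hC _ hg
      refine hno g⁻¹ ?_
      rw [inv_inv, hi]
      refine hrot i ?_
      rw [← hi, show g⁻¹ * u * g = MulAut.conj g⁻¹ u by simp, MulEquiv.orderOf_eq, hu]
    haveI := hMn
    have hle : Cfsg.pResidual 2 G ≤ M := by
      refine (Subgroup.closure_le M).2 fun a ha => ?_
      have h1 : (a : G ⧸ M) ^ orderOf a = 1 := by rw [← QuotientGroup.mk_pow, pow_orderOf_eq_one, QuotientGroup.mk_one]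
      have h2 : (a : G ⧸ M) ^ 2 = 1 := by
        rw [← hMi, Subgroup.index_eq_card]; exact pow_card_eq_one'
      exact (QuotientGroup.eq_one_iff a).1 (orderOf_eq_one_iff.1 (Nat.eq_one_of_dvd_coprimes ha
        (orderOf_dvd_of_pow_eq_one h1) (orderOf_dvd_of_pow_eq_one h2)))
    rw [hO] at hle
    exact huM (hle (Subgroup.mem_top u))
  obtain ⟨g, hg⟩ := key x hx
  obtain ⟨h, hh⟩ := key y hy
  refine ⟨h⁻¹ * g, ?_⟩
  rw [show h⁻¹ * g * x * (h⁻¹ * g)⁻¹ = h⁻¹ * (g * x * g⁻¹) * h by group, hg, ← hh]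
  group

end Cfsg.Agent.S0107
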