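import Cfsg.Statements.S4482
import Cfsg.Agent.Blocks.DihedralOrder
-- import your own Cfsg.Agent.* helpers here

set_option autoImplicit false
open Cfsg

namespace Cfsg.Agent.S4482

/-- An order formula for groups with dihedral Sylow 2-subgroups and one class of involutions. Let G be a finite group whose Sylow 2-subgroup P = ⟨σ, τ⟩ is dihedral of order 2^n ≥ 8 (σ of order 2^(n−1), τ an involution inverting σ), let J be the central involution σ^(2^(n−2)), and suppose J, τ and στ are conjugate in G. Fix M over 2 and let χ₁ be an irreducible character in the principal 2-block taking one constant value δ₁ = ±1 at every non-identity power of σ, with χ₁ ≠ 1. Then, with x₁ = χ₁(1) and c(·) denoting orders of centralizers, x₁ ≠ δ₁ and #G · (x₁ − δ₁)² = 2·x₁(x₁ + δ₁)·c(J)³·(1/c(J, τ) + 1/c(J, στ))², where c(J, y) is the order of the joint centralizer of J and y. -/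
theorem result {G : Type*} [Group G] [Finite G] (M : Ideal Cfsg.AlgInt) (hM : Cfsg.IsPModular 2 M) (n : ℕ) (hn : 3 ≤ n) (P : Sylow 2 G) (σ τ : G) (hσ : σ ∈ (P : Subgroup G)) (hτ : τ ∈ (P : Subgroup G)) (hσo : orderOf σ = 2 ^ (n - 1)) (hτo : orderOf τ = 2) (hrel : τ * σ * τ⁻¹ = σ⁻¹) (hgen : Subgroup.closure ({σ, τ} : Set G) = (P : Subgroup G)) (hconj : IsConj (σ ^ (2 ^ (n - 2))) τ ∧ IsConj (σ ^ (2 ^ (n - 2))) (σ * τ)) (χ₁ : Cfsg.IrrCharacter G) (hχ₁ : χ₁ ∈ Cfsg.principalBlock M G) (h1 : (χ₁ : G → ℂ) ≠ (fun _ => 1)) (δ₁ : ℤ) (hδ₁ : δ₁ = 1 ∨ δ₁ = -1) (hval : ∀ l : ℕ, 0 < l → l < 2 ^ (n - 1) → (χ₁ : G → ℂ) (σ ^ l) = δ₁) : (Cfsg.charDegree (χ₁ : G → ℂ) : ℤ) ≠ δ₁ ∧ (Nat.card G : ℚ) * ((Cfsg.charDegree (χ₁ : G → ℂ) : ℚ) - δ₁) ^ 2 = 2 * (Cfsg.charDegree (χ₁ : G → ℂ) : ℚ) * ((Cfsg.charDegree (χ₁ : G → ℂ) : ℚ) + δ₁) * (Nat.card (Subgroup.centralizer ({σ ^ (2 ^ (n - 2))} : Set G)) : ℚ) ^ 3 * (1 / (Nat.card (Subgroup.centralizer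 ({σ ^ (2 ^ (n - 2)), τ} : Set G)) : ℚ) + 1 / (Nat.card (Subgroup.centralizer ({σ ^ (2 ^ (n - 2)), σ * τ} : Set G)) : ℚ)) ^ 2 := by
  classical
  haveI : Fintype G := Fintype.ofFinite G
  obtain ⟨m, rfl⟩ : ∃ m, n = m + 1 := ⟨n - 1, by omega⟩
  simp only [Nat.add_sub_cancel, show m + 1 - 2 = m - 1 from by omega] at hσo hconj hval ⊢
  have hτ2 : τ * τ = 1 := by rw [← pow_two, ← hτo]; exact pow_orderOf_eq_one τ
  have hτi : τ⁻¹ = τ := inv_eq_of_mul_eq_one_right hτ2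
  have hz : ∀ i : ℤ, τ * σ ^ i * τ⁻¹ = (σ ^ i)⁻¹ := fun i => by rw [← conj_zpow, hrel, inv_zpow]
  have hswap : ∀ i : ℤ, τ * σ ^ i = (σ ^ i)⁻¹ * τ := fun i => by rw [← hz i, inv_mul_cancel_right]
  have hz' : ∀ w, w ∈ Subgroup.zpowers σ → τ * w * τ ∈ Subgroup.zpowers σ := by
    rintro w ⟨i, rfl⟩
    show τ * σ ^ i * τ ∈ _
    rw [hswap, mul_assoc, hτ2, mul_one]
    exact inv_mem (Subgroup.zpow_mem_zpowers σ i)
  have d : Cfsg.Lib.Dihedral.Data P σ τ m := by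
    refine ⟨by omega, hσ, hτ, hσo, hτ2, hrel, fun u hu => ?_⟩
    rw [← hgen] at hu
    induction hu using Subgroup.closure_induction with
    | mem x hx =>
      rcases hx with rfl | rfl
      · exact Or.inl (Subgroup.mem_zpowers x)
      · exact Or.inr (by rw [hτ2]; exact one_mem _)
    | one => exact Or.inl (one_mem _)
    | mul a b _ _ ha hb =>
      rcases ha with ha | ha <;> rcases hb with hb | hb
      · exact Or.inl (mul_mem ha hb)
      · exact Or.inr (by rw [mul_assoc]; exact mul_mem ha hb)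
      · refine Or.inr ?_
        rw [show a * b * τ = (a * τ) * (τ⁻¹ * b * τ) by group, hτi]
        exact mul_mem ha (hz' b hb)
      · refine Or.inl ?_
        rw [show a * b = (a * τ) * (τ⁻¹ * (b * τ) * τ⁻¹) by group, hτi]
        exact mul_mem ha (hz' _ hb)
    | inv a _ ha =>
      rcases ha with ha | ha
      · exact Or.inl (inv_mem ha)
      · refine Or.inr ?_
        rw [show a⁻¹ * τ = τ * (a * τ)⁻¹ * τ by rw [mul_inv_rev, hτi, ← mul_assoc, hτ2, one_mul]]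
        exact hz' _ (inv_mem ha)
  obtain ⟨e1, e2⟩ := d.order_formula hM hconj.1 hconj.2 hχ₁ (fun h => h1 (by rw [h]; rfl)) hδ₁ hval
  refine ⟨fun h => e1 ?_, ?_⟩
  · exact_mod_cast h
  · apply Rat.cast_injective (α := ℂ)
    push_cast
    exact e2

end Cfsg.Agent.S4482
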