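import Cfsg.Statements.S1215
import Cfsg.Agent.InvolCalc.ZStarApps
import Cfsg.Agent.Fusion.GroupSystem

set_option autoImplicit false
open Cfsg

namespace Cfsg.Agent.S1215

/-- Let H be a finite group with quasi-dihedral or wreathed Sylow 2-subgroup S such that H has a normal subgroup K of index a power of 2 with no subgroup of index 2 and with generalized quaternion Sylow 2-subgroups, and such that every subgroup of Z(S) is weakly closed in S with respect to H. Then H = O(H) C_H(Z(S)): every element of H is the product of an element of the largest normal odd-order subgroup and an element centralizing Z(S). -/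
theorem result {H : Type*} [Group H] [Finite H] (S : Sylow 2 H) (hS : Cfsg.IsQuasiDihedral (S : Subgroup H) ∨ Cfsg.IsWreathed (S : Subgroup H)) (hQ : (∃ K : Subgroup H, K.Normal ∧ (∃ a : ℕ, K.index = 2 ^ a) ∧ (∀ M : Subgroup ↥K, M.index ≠ 2) ∧ (∀ P : Sylow 2 ↥K, ∃ m : ℕ, 1 ≤ m ∧ Nonempty ((P : Subgroup ↥K) ≃* QuaternionGroup (2 ^ m)))) ∧ (∀ Z₀ : Subgroup H, Z₀ ≤ ((Subgroup.center (S : Subgroup H)).map (S : Subgroup H).subtype) → Cfsg.IsWeaklyClosed Z₀ (S : Subgroup H))) (h : H) : ∃ o ∈ Cfsg.oddCore H, ∃ c ∈ Subgroup.centralizer (((Subgroup.center (S : Subgroup H)).map (S : Subgroup H).subtype : Subgroup H) : Set H), h = o * c := by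
  open Cfsg.Lib.Fusion in
  have : Fact (Nat.Prime 2) := ⟨Nat.prime_two⟩
  set Z : Subgroup H := (Subgroup.center (S : Subgroup H)).map (S : Subgroup H).subtype with hZdef
  have hZS : Z ≤ (S : Subgroup H) := Subgroup.map_subtype_le _
  have hcomm : ∀ x ∈ Z, ∀ s ∈ (S : Subgroup H), s * x = x * s := by
    rintro _ ⟨x, hx, rfl⟩ s hs
    exact congrArg Subtype.val (Subgroup.mem_center_iff.mp hx ⟨s, hs⟩)
  obtain ⟨k, hk⟩ := IsPGroup.iff_card.mp S.isPGroup'
  have hiso : ∀ x ∈ Z, ∀ g : H, g * x * g⁻¹ ∈ (S : Subgroup H) → g * x * g⁻¹ = x := by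
    intro x hx g hg
    set C := Subgroup.zpowers x
    set N := Subgroup.normalizer (C : Set H)
    have hgN : g ∈ N := by
      refine mem_normalizer_of_maps_finite fun y hy => ?_
      have hle : C.map (MulAut.conj g).toMonoidHom ≤ (S : Subgroup H) := by
        rintro _ ⟨y, ⟨i, rfl⟩, rfl⟩
        show g * x ^ i * g⁻¹ ∈ _
        rw [← conj_zpow]
        exact Subgroup.zpow_mem _ hg i
      rw [← (hQ.2 C (Subgroup.zpowers_le.mpr hx)).2 g hle]
      exact ⟨y, hy, rfl⟩
    let φ : N →* MulAut C := Subgroup.normalizerMonoidHom C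
    have hSN : (S : Subgroup H) ≤ N := fun s hs => mem_normalizer_of_maps_finite fun y hy => by
      obtain ⟨i, rfl⟩ := hy
      show s * x ^ i * s⁻¹ ∈ C
      rw [← conj_zpow, hcomm x hx s hs, mul_inv_cancel_right]
      exact ⟨i, rfl⟩
    have hφS : (S : Subgroup H).subgroupOf N ≤ φ.ker := fun s hs => by
      rw [MonoidHom.mem_ker]
      refine MulEquiv.ext fun y => Subtype.ext ?_
      obtain ⟨i, hi⟩ := y.2
      show (s : H) * y * (s : H)⁻¹ = y
      rw [← hi, show (s : H) * x ^ i * (s : H)⁻¹ = ((s : H) * x * (s : H)⁻¹) ^ i from conj_zpow.symm,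
        show (s : H) * x = x * s from hcomm x hx _ hs, mul_inv_cancel_right]
    have hp : IsPGroup 2 φ.range := by
      have hC : IsPGroup 2 C := S.isPGroup'.to_le (Subgroup.zpowers_le.mpr (hZS hx))
      obtain ⟨m, hm⟩ := IsPGroup.iff_card.mp hC
      refine IsPGroup.to_subgroup (IsPGroup.of_card (n := m - 1) ?_) φ.range
      rw [IsCyclic.card_mulAut, hm]
      rcases Nat.eq_zero_or_pos m with rfl | hm0
      · rfl
      · rw [Nat.totient_prime_pow Nat.prime_two hm0]; ring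
    obtain ⟨r, hr⟩ := IsPGroup.iff_card.mp hp
    have h1 : Nat.card φ.range ∣ (S : Subgroup H).index := by
      rw [← Subgroup.index_ker]
      refine (Subgroup.index_dvd_of_le hφS).trans ?_
      rw [← Subgroup.relIndex_mul_index hSN]
      exact Dvd.intro _ rfl
    have hr0 : r = 0 := by
      by_contra h0
      exact S.not_dvd_index ((dvd_pow_self 2 h0).trans (hr ▸ h1))
    have hbot : φ.range = ⊥ := Subgroup.eq_bot_of_card_eq _ (by rw [hr, hr0, pow_zero])
    have h3 : φ ⟨g, hgN⟩ = 1 := by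
      rw [← Subgroup.mem_bot, ← hbot]
      exact ⟨_, rfl⟩
    exact congrArg Subtype.val (MulEquiv.congr_fun h3 ⟨x, Subgroup.mem_zpowers x⟩)
  set O := Cfsg.oddCore H
  have hord : ∀ x ∈ Z, orderOf x ∣ 2 ^ k := fun x hx => by
    rw [← hk, ← Subgroup.orderOf_mk x (hZS hx)]; exact orderOf_dvd_natCard _
  have hc : ∀ x ∈ Z, ∀ g : H, g * x * g⁻¹ * x⁻¹ ∈ O := fun x hx g =>
    Cfsg.Lib.ZStarApps.central_of_isolated2 k x (hord x hx) ⟨S, hZS hx, hiso x hx⟩ g
  have hZp : IsPGroup 2 Z := S.isPGroup'.to_le hZS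
  have hmax : IsMaxPIn 2 Z (O ⊔ Z) := by
    refine ⟨le_sup_right, hZp, fun U hU hUp hle => (Subgroup.eq_of_le_of_card_ge hle ?_).symm⟩
    obtain ⟨j, hj⟩ := IsPGroup.iff_card.mp hUp
    have h1 : Nat.card U ∣ Nat.card O * Nat.card Z :=
      (Subgroup.card_dvd_of_le hU).trans (Cfsg.Lib.Components.card_sup_dvd_mul O Z)
    refine Nat.le_of_dvd Nat.card_pos (Nat.Coprime.dvd_of_dvd_mul_left ?_ h1)
    rw [hj]
    exact ((Cfsg.Lib.Components.coprime_card_pPrimeCore (G := H) 2).pow_right j).symm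
  obtain ⟨m, hm, hmZ⟩ := hmax.exists_conj_le (U := Z.map (MulAut.conj h).toMonoidHom) (by
    rintro _ ⟨x, hx, rfl⟩
    rw [show (MulAut.conj h).toMonoidHom x = (h * x * h⁻¹ * x⁻¹) * x by simp]
    exact Subgroup.mul_mem _ (Subgroup.mem_sup_left (hc x hx h)) (Subgroup.mem_sup_right hx)) (hZp.map _)
  obtain ⟨o, ho, z, hz, rfl⟩ : ∃ o ∈ O, ∃ z ∈ Z, o * z = m := by
    rw [← SetLike.mem_coe, Subgroup.normal_mul] at hm
    exact Set.mem_mul.mp hm
  have hfix : ∀ x ∈ Z, o * z * h * x = x * (o * z * h) := fun x hx => by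
    have h1 : o * z * (h * x * h⁻¹) * (o * z)⁻¹ ∈ Z := hmZ _ ⟨x, hx, rfl⟩
    have h2 := hiso x hx (o * z * h) (by
      have := hZS h1
      convert this using 1
      group)
    exact mul_inv_eq_iff_eq_mul.mp h2
  refine ⟨z⁻¹ * o⁻¹ * z, ?_, z⁻¹ * (o * z * h), Subgroup.mem_centralizer_iff.mpr fun x hx => ?_, by group⟩
  · simpa using (inferInstance : O.Normal).conj_mem _ (Subgroup.inv_mem _ ho) z⁻¹
  · rw [mul_assoc (z⁻¹), hfix x hx, ← mul_assoc x z⁻¹, ← mul_assoc (z⁻¹) x,
      ((Commute.inv_left (show Commute z x from hcomm x hx z (hZS hz))).eq)]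

end Cfsg.Agent.S1215
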