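import Cfsg.Statements.S1256
import Mathlib


set_option autoImplicit false
open Cfsg

namespace Cfsg.Agent.S1256

open Subgroup DihedralGroup

theorem two_torsion {m : ℕ} [NeZero m] {i : ZMod m} (h : i + i = 0) : i = 0 ∨ i = ((m / 2 : ℕ) : ZMod m) := by
  have hlt := ZMod.val_lt i
  have h' : (((i.val + i.val : ℕ) : ZMod m)) = 0 := by rw [Nat.cast_add, ZMod.natCast_zmod_val]; exact h
  rw [ZMod.natCast_eq_zero_iff] at h'
  obtain ⟨c, hc⟩ := h'
  rcases Nat.lt_or_ge c 1 with hc0 | hc1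
  · left
    rw [← ZMod.natCast_zmod_val i, show i.val = 0 by nlinarith, Nat.cast_zero]
  · right
    have hc2 : c = 1 := by nlinarith
    rw [← ZMod.natCast_zmod_val i, show i.val = m / 2 by subst hc2; omega]

theorem parity_ne : ∀ b : ZMod 2, ¬ (0 - (b + b) = 1) := by decide

/-- the four-group `{1, z, sr i, sr (i + m/2)}` -/
def four (m q : ℕ) (hm : m = 4 * q) (i : ZMod m) : Subgroup (DihedralGroup m) where
  carrier := {g | g = 1 ∨ g = r ((2 * q : ℕ) : ZMod m) ∨ g = sr i ∨ g = sr (i + ((2 * q : ℕ) : ZMod m))}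
  one_mem' := Or.inl rfl
  mul_mem' := by
    intro a b ha hb
    have hz : ((2 * q : ℕ) : ZMod m) + ((2 * q : ℕ) : ZMod m) = 0 := by
      rw [← Nat.cast_add, ZMod.natCast_eq_zero_iff, hm]; exact ⟨1, by omega⟩
    have hn : -((2 * q : ℕ) : ZMod m) = ((2 * q : ℕ) : ZMod m) := neg_eq_of_add_eq_zero_right hz
    simp only [Set.mem_setOf_eq] at ha hb ⊢
    generalize ((2 * q : ℕ) : ZMod m) = z at hz hn ha hb ⊢
    rcases ha with rfl | rfl | rfl | rfl <;> rcases hb with rfl | rfl | rfl | rfl <;>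
      simp [-r_zero, one_def, hz, hn, sub_eq_add_neg, add_assoc]
  inv_mem' := by
    intro a ha
    have hn : -((2 * q : ℕ) : ZMod m) = ((2 * q : ℕ) : ZMod m) := by
      apply neg_eq_of_add_eq_zero_right
      rw [← Nat.cast_add, ZMod.natCast_eq_zero_iff, hm]; exact ⟨1, by omega⟩
    simp only [Set.mem_setOf_eq] at ha ⊢
    generalize ((2 * q : ℕ) : ZMod m) = z at hn ha ⊢
    rcases ha with rfl | rfl | rfl | rfl <;> simp [-r_zero, one_def, hn]

theorem mem_four {m q : ℕ} (hm : m = 4 * q) {i : ZMod m} {g : DihedralGroup m} :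
    g ∈ four m q hm i ↔ g = 1 ∨ g = r ((2 * q : ℕ) : ZMod m) ∨ g = sr i ∨ g = sr (i + ((2 * q : ℕ) : ZMod m)) :=
  Iff.rfl

theorem conj_four {m q : ℕ} (hm : m = 4 * q) (i j : ZMod m) {g : DihedralGroup m} (hg : g ∈ four m q hm i) :
    r j * g * (r j)⁻¹ ∈ four m q hm (i - (j + j)) := by
  rw [mem_four] at hg ⊢
  rcases hg with rfl | rfl | rfl | rfl <;> simp [-r_zero, one_def, sub_eq_add_neg, add_assoc, add_comm, add_left_comm]

variable {X : Type*} [Group X] [Finite X]

theorem main (S : Sylow 2 X) (m q : ℕ) (hm : m = 4 * q) (hq : 0 < q) (ι : DihedralGroup m →* X)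
    (hinj : Function.Injective ι) (hrange : ι.range = (S : Subgroup X)) :
    ∃ U₁ U₂ : Subgroup X, IsKleinFour U₁ ∧ IsKleinFour U₂ ∧ ¬ (∃ x : X, U₁.map (MulAut.conj x).toMonoidHom = U₂) ∧
      ∀ V : Subgroup X, IsKleinFour V →
        (∃ x : X, V.map (MulAut.conj x).toMonoidHom = U₁) ∨ (∃ x : X, V.map (MulAut.conj x).toMonoidHom = U₂) := by
  classical
  haveI : Fact (Nat.Prime 2) := ⟨Nat.prime_two⟩
  haveI : NeZero m := ⟨by omega⟩
  set h2 : ZMod m := ((2 * q : ℕ) : ZMod m) with hh2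
  set h1 : ZMod m := ((q : ℕ) : ZMod m) with hh1
  have hne : h2 ≠ 0 := by
    rw [hh2, Ne, ZMod.natCast_eq_zero_iff]
    exact fun h => by have := Nat.le_of_dvd (by omega) h; omega
  have h11 : h1 + h1 = h2 := by rw [hh1, hh2, ← Nat.cast_add, two_mul]
  have h22 : h2 + h2 = 0 := by rw [hh2, ← Nat.cast_add, ZMod.natCast_eq_zero_iff, hm]; exact ⟨1, by omega⟩
  have hn2 : -h2 = h2 := neg_eq_of_add_eq_zero_right h22
  have hhalf : ((m / 2 : ℕ) : ZMod m) = h2 := by rw [hh2]; congr 1; omega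
  let U : ZMod m → Subgroup X := fun i => (four m q hm i).map ι
  -- fours
  have hklein : ∀ i, IsKleinFour (U i) := by
    intro i
    have hsq : ∀ g ∈ four m q hm i, g * g = 1 := by
      intro g hg
      rw [mem_four, ← hh2] at hg
      rcases hg with rfl | rfl | rfl | rfl <;> simp [-r_zero, one_def]
      exact h22
    have hc : Nat.card (four m q hm i) = 4 := by
      have he : ((four m q hm i : Subgroup _) : Set (DihedralGroup m)) =
          (({1, r h2, sr i, sr (i + h2)} : Finset _) : Set (DihedralGroup m)) := by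
        ext g
        simp only [SetLike.mem_coe, mem_four, Finset.coe_insert, Finset.coe_singleton, Set.mem_insert_iff,
          Set.mem_singleton_iff]
        rfl
      rw [← SetLike.coe_sort_coe, he, Nat.card_coe_set_eq, Set.ncard_coe_finset, Finset.card_insert_of_notMem,
        Finset.card_insert_of_notMem, Finset.card_insert_of_notMem, Finset.card_singleton]
      · simpa using hne
      · simp
      · simpa [-r_zero, one_def] using hne.symm
    haveI : Nontrivial (four m q hm i) := Finite.one_lt_card_iff_nontrivial.1 (by rw [hc]; norm_num)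
    have hk : IsKleinFour (four m q hm i) :=
      { card_four := hc
        exponent_two := Monoid.exponent_eq_prime_iff Nat.prime_two |>.2 fun g hg =>
          orderOf_eq_prime (Subtype.ext (by rw [pow_two]; exact hsq g g.2)) hg }
    haveI : Nontrivial (U i) :=
      (equivMapOfInjective (four m q hm i) ι hinj).symm.toEquiv.nontrivial
    exact
      { card_four := by rw [← hc]; exact (Nat.card_congr (equivMapOfInjective _ ι hinj).toEquiv).symm
        exponent_two := by
          rw [← hk.exponent_two]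
          exact (Monoid.exponent_eq_of_mulEquiv (equivMapOfInjective _ ι hinj)).symm }
  have hUmem : ∀ i (g : DihedralGroup m), g ∈ four m q hm i → ι g ∈ U i := fun i g hg => ⟨g, hg, rfl⟩
  have hUconj : ∀ i j, (U i).map (MulAut.conj (ι (r j))).toMonoidHom = U (i - (j + j)) := by
    intro i j
    refine eq_of_le_of_card_ge ?_ ?_
    · rintro _ ⟨_, ⟨g, hg, rfl⟩, rfl⟩
      show ι (r j) * ι g * (ι (r j))⁻¹ ∈ _
      rw [← map_inv, ← map_mul, ← map_mul]
      exact hUmem _ _ (conj_four hm i j hg)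
    · rw [card_map_of_injective (f := (MulAut.conj (ι (r j))).toMonoidHom) (MulAut.conj _).injective, (hklein _).card_four,
        (hklein _).card_four]
  -- parity
  let par : ZMod m →+* ZMod 2 := ZMod.castHom ⟨2 * q, by omega⟩ (ZMod 2)
  have hpar2 : par h2 = 0 := by rw [hh2, map_natCast, ZMod.natCast_eq_zero_iff]; exact ⟨q, rfl⟩
  have hclass : ∀ i : ZMod m, ∃ j : ZMod m, i - (j + j) = 0 ∨ i - (j + j) = 1 := by
    intro i
    rcases Nat.even_or_odd i.val with ⟨c, hc⟩ | ⟨c, hc⟩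
    · exact ⟨c, Or.inl (by rw [← Nat.cast_add, ← hc, ZMod.natCast_zmod_val, sub_self])⟩
    · refine ⟨c, Or.inr ?_⟩
      conv_lhs => arg 1; rw [← ZMod.natCast_zmod_val i, hc, Nat.cast_add, Nat.cast_one, two_mul, Nat.cast_add]
      abel
  -- the four-groups inside the Sylow subgroup
  have hinS : ∀ V : Subgroup X, IsKleinFour V → V ≤ (S : Subgroup X) → ∃ i, V = U i := by
    intro V hV hVS
    have hsq : ∀ v ∈ V, v * v = 1 := fun v hv => congrArg Subtype.val (IsKleinFour.mul_self (G := V) ⟨v, hv⟩)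
    have hcases : ∀ v ∈ V, ∃ g, ι g = v ∧ g * g = 1 := by
      intro v hv
      obtain ⟨g, rfl⟩ : v ∈ ι.range := hrange.symm ▸ hVS hv
      exact ⟨g, rfl, hinj (by rw [map_mul, map_one, hsq _ hv])⟩
    obtain ⟨i, hi⟩ : ∃ i, ι (sr i) ∈ V := by
      by_contra hno
      push Not at hno
      have hsub : (V : Set X) ⊆ (({1, ι (r h2)} : Finset X) : Set X) := by
        intro v hv
        obtain ⟨g, rfl, hg⟩ := hcases v hv
        rcases g with a | a
        · rw [r_mul_r, one_def] at hg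
          rcases two_torsion (r.inj hg) with e | e
          · subst e; simp [← one_def]
          · rw [e, hhalf]; simp
        · exact absurd hv (hno a)
      have h3 := Set.ncard_le_ncard hsub (Finset.finite_toSet _)
      rw [Set.ncard_coe_finset, ← Nat.card_coe_set_eq, SetLike.coe_sort_coe, hV.card_four] at h3
      have h5 : ({1, ι (r h2)} : Finset X).card ≤ 2 := Finset.card_le_two
      omega
    refine ⟨i, eq_of_le_of_card_ge ?_ (by rw [hV.card_four, (hklein i).card_four])⟩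
    intro v hv
    obtain ⟨g, rfl, hg⟩ := hcases v hv
    have hcomm : g * sr i = sr i * g := hinj (by
      rw [map_mul, map_mul]
      exact congrArg Subtype.val (mul_comm_of_exponent_two hV.exponent_two (⟨_, hv⟩ : V) ⟨_, hi⟩))
    refine hUmem i g ?_
    rw [mem_four]
    rcases g with a | a
    · rw [r_mul_r, one_def] at hg
      rcases two_torsion (r.inj hg) with e | e
      · exact Or.inl (by rw [e, one_def])
      · exact Or.inr (Or.inl (by rw [e, hhalf]))
    · rw [sr_mul_sr, sr_mul_sr] at hcomm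
      have h0 : (a - i) + (a - i) = 0 := by
        have := r.inj hcomm
        calc (a - i) + (a - i) = (a - i) - (i - a) := by abel
          _ = 0 := by rw [← this, sub_self]
      rcases two_torsion h0 with e | e
      · exact Or.inr (Or.inr (Or.inl (by rw [sub_eq_zero.1 e])))
      · refine Or.inr (Or.inr (Or.inr ?_))
        rw [hhalf] at e
        rw [← hh2, ← e]; congr 1; abel
  -- order four
  set w : X := ι (r h1) with hwdef
  have hw2 : w * w = ι (r h2) := by rw [hwdef, ← map_mul, r_mul_r, h11]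
  have hw4 : ∀ v ∈ (S : Subgroup X), orderOf v = 4 → v = w ∨ v = w⁻¹ := by
    intro v hv hvo
    obtain ⟨g, rfl⟩ : v ∈ ι.range := hrange.symm ▸ hv
    rw [orderOf_injective ι hinj] at hvo
    rcases g with a | a
    · have h4 : (r a : DihedralGroup m) ^ 4 = 1 := hvo ▸ pow_orderOf_eq_one _
      have h2' : (r a : DihedralGroup m) ^ 2 ≠ 1 := fun h => by
        have := orderOf_le_of_pow_eq_one (by norm_num) h; omega
      rw [show 4 = 2 * 2 from rfl, pow_mul, pow_two, pow_two, r_mul_r, r_mul_r, one_def] at h4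
      rw [pow_two, r_mul_r, one_def] at h2'
      have ha2 : a + a = h2 := by
        rcases two_torsion (r.inj h4) with e | e
        · exact absurd (by rw [e]) h2'
        · rw [e, hhalf]
      have h0 : (a - h1) + (a - h1) = 0 := by
        calc (a - h1) + (a - h1) = (a + a) - (h1 + h1) := by abel
          _ = 0 := by rw [ha2, h11, sub_self]
      rcases two_torsion h0 with e | e
      · exact Or.inl (by rw [hwdef, sub_eq_zero.1 e])
      · refine Or.inr ?_
        rw [hwdef, ← map_inv, inv_r]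
        refine congrArg (fun t => ι (r t)) ?_
        rw [hhalf] at e
        rw [eq_neg_iff_add_eq_zero, show a + h1 = (a - h1) + (h1 + h1) by abel, e, h11, h22]
    · rw [orderOf_sr] at hvo
      omega
  have hwo : orderOf w = 4 := by
    rw [hwdef, orderOf_injective ι hinj]
    refine orderOf_eq_prime_pow (p := 2) (n := 1) ?_ ?_
    · rw [pow_one, pow_two, r_mul_r, h11, one_def]
      exact fun h => hne (r.inj h)
    · rw [show (2 : ℕ) ^ (1 + 1) = 2 * 2 by norm_num, pow_mul, pow_two, pow_two, r_mul_r, r_mul_r, h11, h22, one_def]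
  refine ⟨U 0, U 1, hklein 0, hklein 1, ?_, fun V hV => ?_⟩
  swap
  · obtain ⟨T, hT⟩ := (IsPGroup.of_card (p := 2) (n := 2) hV.card_four).exists_le_sylow
    obtain ⟨x, hx⟩ := MulAction.exists_smul_eq X T S
    have hV'S : V.map (MulAut.conj x).toMonoidHom ≤ (S : Subgroup X) := by
      rw [← hx, Sylow.coe_subgroup_smul]; exact map_mono hT
    let e := equivMapOfInjective V (MulAut.conj x).toMonoidHom (MulAut.conj x).injective
    have hV' : IsKleinFour (V.map (MulAut.conj x).toMonoidHom) :=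
      { card_four := (Nat.card_congr e.toEquiv).symm.trans hV.card_four
        exponent_two := (Monoid.exponent_eq_of_mulEquiv e).symm.trans hV.exponent_two }
    obtain ⟨i, hi⟩ := hinS _ hV' hV'S
    obtain ⟨j, hj⟩ := hclass i
    have hmap : V.map (MulAut.conj (ι (r j) * x)).toMonoidHom = U (i - (j + j)) := by
      rw [← hUconj i j, ← hi, Subgroup.map_map]
      congr 1
      ext y
      simp [mul_assoc]
    rcases hj with hj | hj <;> rw [hj] at hmap
    · exact Or.inl ⟨_, hmap⟩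
    · exact Or.inr ⟨_, hmap⟩
  -- the two classes are not fused
  rintro ⟨g₀, hg₀⟩
  have hwN : ∀ i, w ∈ normalizer (U i : Set X) := by
    intro i
    refine mem_normalizer_fintype fun u hu => ?_
    have : (U i).map (MulAut.conj w).toMonoidHom = U (i - h2) := by rw [hwdef, hUconj, h11]
    have hu' : w * u * w⁻¹ ∈ U (i - h2) := this ▸ ⟨u, hu, rfl⟩
    obtain ⟨g, hg, he⟩ := hu'
    refine ⟨g, ?_, he⟩
    change g ∈ four m q hm (i - h2) at hg
    show g ∈ four m q hm i
    rw [mem_four] at hg ⊢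
    rw [← hh2, show i - h2 = i + h2 by rw [sub_eq_add_neg, hn2], add_assoc, h22, add_zero] at hg
    rcases hg with e | e | e | e
    · exact Or.inl e
    · exact Or.inr (Or.inl e)
    · exact Or.inr (Or.inr (Or.inr e))
    · exact Or.inr (Or.inr (Or.inl e))
  have hord : ∀ (a v : X), orderOf (a * v * a⁻¹) = orderOf v := fun a v => (MulAut.conj a).orderOf_eq v
  -- move the conjugating element into the normaliser of `w`
  obtain ⟨g, hgU, hgw⟩ : ∃ g : X, (U 0).map (MulAut.conj g).toMonoidHom = U 1 ∧ (g * w * g⁻¹ = w ∨ g * w * g⁻¹ = w⁻¹) := by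
    set N := normalizer (U 1 : Set X) with hN
    set v := g₀ * w * g₀⁻¹ with hv
    have hvN : v ∈ N := by
      refine mem_normalizer_fintype fun u hu => ?_
      rw [← hg₀] at hu
      obtain ⟨u0, hu0, rfl⟩ := hu
      show v * (g₀ * u0 * g₀⁻¹) * v⁻¹ ∈ _
      rw [show v * (g₀ * u0 * g₀⁻¹) * v⁻¹ = g₀ * (w * u0 * w⁻¹) * g₀⁻¹ by rw [hv]; group, ← hg₀]
      exact ⟨_, (mem_normalizer_iff.1 (hwN 0) u0).1 hu0, rfl⟩
    obtain ⟨T, hT⟩ := (IsPGroup.of_card (p := 2) (n := 2) (show Nat.card (zpowers (⟨w, hwN 1⟩ : N)) = 2 ^ 2 by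
      rw [Nat.card_zpowers, Subgroup.orderOf_mk, hwo]; rfl)).exists_le_sylow
    obtain ⟨T', hT'⟩ := (IsPGroup.of_card (p := 2) (n := 2) (show Nat.card (zpowers (⟨v, hvN⟩ : N)) = 2 ^ 2 by
      rw [Nat.card_zpowers, Subgroup.orderOf_mk, hv, hord, hwo]; rfl)).exists_le_sylow
    obtain ⟨n, hn⟩ := MulAction.exists_smul_eq N T' T
    obtain ⟨R, hR⟩ := (T.isPGroup'.map N.subtype).exists_le_sylow
    obtain ⟨x, hx⟩ := MulAction.exists_smul_eq X R S
    have hTS : ∀ t : N, t ∈ (T : Subgroup N) → x * (t : X) * x⁻¹ ∈ (S : Subgroup X) := by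
      intro t ht
      rw [← hx, Sylow.coe_subgroup_smul]
      exact ⟨t, hR ⟨t, ht, rfl⟩, rfl⟩
    have h1 : x * w * x⁻¹ = w ∨ x * w * x⁻¹ = w⁻¹ :=
      hw4 _ (hTS _ (hT (mem_zpowers _))) (by rw [hord, hwo])
    have h2' : n * ⟨v, hvN⟩ * n⁻¹ ∈ (T : Subgroup N) := by
      rw [← hn, Sylow.coe_subgroup_smul]; exact ⟨_, hT' (mem_zpowers _), rfl⟩
    have h2 : x * ((n : X) * v * (n : X)⁻¹) * x⁻¹ = w ∨ x * ((n : X) * v * (n : X)⁻¹) * x⁻¹ = w⁻¹ :=
      hw4 _ (hTS _ h2') (by rw [hord, hord, hv, hord, hwo])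
    have hcan : ∀ a b : X, x * a * x⁻¹ = b → a = x⁻¹ * b * x := fun a b h => by rw [← h]; group
    refine ⟨(n : X) * g₀, ?_, ?_⟩
    · refine eq_of_le_of_card_ge ?_ ?_
      · rintro _ ⟨u, hu, rfl⟩
        show (n : X) * g₀ * u * ((n : X) * g₀)⁻¹ ∈ _
        rw [show (n : X) * g₀ * u * ((n : X) * g₀)⁻¹ = (n : X) * (g₀ * u * g₀⁻¹) * (n : X)⁻¹ by group]
        exact (mem_normalizer_iff.1 n.2 _).1 (hg₀ ▸ ⟨u, hu, rfl⟩)
      · rw [card_map_of_injective (f := (MulAut.conj _).toMonoidHom) (MulAut.conj _).injective, (hklein _).card_four,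
          (hklein _).card_four]
    · rw [show (n : X) * g₀ * w * ((n : X) * g₀)⁻¹ = (n : X) * v * (n : X)⁻¹ by rw [hv]; group]
      rcases h1 with h1 | h1 <;> rcases h2 with h2 | h2
      · exact Or.inl ((hcan _ _ h2).trans (hcan _ _ h1).symm)
      · refine Or.inr ((hcan _ _ h2).trans ?_)
        conv_rhs => rw [hcan _ _ h1]
        group
      · refine Or.inr ((hcan _ _ h2).trans ?_)
        conv_rhs => rw [hcan _ _ h1]
        group
      · exact Or.inl ((hcan _ _ h2).trans (hcan _ _ h1).symm)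
  set A : Subgroup X := centralizer ({w} : Set X) with hA
  have hflip : ι (sr 0) * w * (ι (sr 0))⁻¹ = w⁻¹ := by
    rw [hwdef, ← map_inv, ← map_mul, ← map_mul, ← map_inv]
    congr 1
    simp
  obtain ⟨g', hg'A, hg'U⟩ : ∃ g' ∈ A, g' * ι (sr 0) * g'⁻¹ ∈ U 1 := by
    have hu0 : ι (sr 0) ∈ U 0 := hUmem 0 _ ((mem_four hm).2 (Or.inr (Or.inr (Or.inl rfl))))
    have hgu : g * ι (sr 0) * g⁻¹ ∈ U 1 := hgU ▸ ⟨_, hu0, rfl⟩
    rcases hgw with h | h
    · exact ⟨g, mem_centralizer_singleton_iff.2 (mul_inv_eq_iff_eq_mul.1 h), hgu⟩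
    · refine ⟨g * ι (sr 0), mem_centralizer_singleton_iff.2 (mul_inv_eq_iff_eq_mul.1 ?_), ?_⟩
      · calc g * ι (sr 0) * w * (g * ι (sr 0))⁻¹ = g * (ι (sr 0) * w * (ι (sr 0))⁻¹) * g⁻¹ := by group
          _ = g * w⁻¹ * g⁻¹ := by rw [hflip]
          _ = (g * w * g⁻¹)⁻¹ := by group
          _ = w := by rw [h, inv_inv]
      · rwa [show g * ι (sr 0) * ι (sr 0) * (g * ι (sr 0))⁻¹ = g * ι (sr 0) * g⁻¹ by group]
  -- the centraliser of `w` has a cyclic Sylow 2-subgroup
  set Rot : Subgroup X := zpowers (ι (r 1)) with hRot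
  have hrot : ∀ a : ZMod m, ι (r a) ∈ Rot := fun a => by
    refine ⟨(a.val : ℤ), ?_⟩
    show ι (r 1) ^ (a.val : ℤ) = ι (r a)
    rw [zpow_natCast, ← map_pow, r_one_pow, ZMod.natCast_zmod_val]
  have hRcard : Nat.card Rot = m := by rw [hRot, Nat.card_zpowers, orderOf_injective ι hinj, orderOf_r_one]
  have hRA : Rot ≤ A := by
    rw [hRot, zpowers_le, hA, mem_centralizer_singleton_iff, hwdef, ← map_mul, ← map_mul, r_mul_r, r_mul_r, add_comm]
  have hRp : IsPGroup 2 Rot := by
    refine S.isPGroup'.to_le ?_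
    rw [hRot, zpowers_le, ← hrange]
    exact ⟨_, rfl⟩
  obtain ⟨T, hT⟩ := (hRp.of_equiv (subgroupOfEquivOfLe hRA).symm).exists_le_sylow
  have hTR : (T : Subgroup A).map A.subtype = Rot := by
    refine (Subgroup.eq_of_le_of_card_ge (H := Rot) (K := (T : Subgroup A).map A.subtype) (fun x hx => ⟨⟨x, hRA hx⟩, hT hx, rfl⟩) ?_).symm
    obtain ⟨R, hR⟩ := (T.isPGroup'.map A.subtype).exists_le_sylow
    obtain ⟨x, hx⟩ := MulAction.exists_smul_eq X R S
    have hTS : ∀ t ∈ (T : Subgroup A).map A.subtype, x * t * x⁻¹ ∈ (S : Subgroup X) := fun t ht => by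
      rw [← hx, Sylow.coe_subgroup_smul]; exact ⟨t, hR ht, rfl⟩
    have hwT : w ∈ (T : Subgroup A).map A.subtype := ⟨⟨w, hRA (hrot h1)⟩, hT (hrot h1), rfl⟩
    have hxw := hw4 _ (hTS w hwT) (by rw [hord, hwo])
    rw [← card_map_of_injective (f := (MulAut.conj x).toMonoidHom) (MulAut.conj x).injective]
    refine card_le_of_le ?_
    rintro _ ⟨t, ht, rfl⟩
    show x * t * x⁻¹ ∈ Rot
    obtain ⟨d, hd⟩ : x * t * x⁻¹ ∈ ι.range := hrange.symm ▸ hTS t ht
    rw [← hd]
    rcases d with a | a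
    · exact hrot a
    · exfalso
      obtain ⟨s, hs, rfl⟩ := ht
      have hcm : (s : X) * w = w * s := mem_centralizer_singleton_iff.1 s.2
      have hc : ι (sr a) * (x * w * x⁻¹) = x * w * x⁻¹ * ι (sr a) := by
        rw [hd]
        simp only [Subgroup.coe_subtype]
        calc x * (s : X) * x⁻¹ * (x * w * x⁻¹) = x * ((s : X) * w) * x⁻¹ := by group
          _ = x * (w * s) * x⁻¹ := by rw [hcm]
          _ = _ := by group
      have hh : sr a * r h1 = r h1 * sr a := by
        rcases hxw with e | e <;> rw [e, hwdef] at hc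
        · exact hinj (by rw [map_mul, map_mul]; exact hc)
        · have h' : sr a * (r h1)⁻¹ = (r h1)⁻¹ * sr a := hinj (by rw [map_mul, map_mul, map_inv]; exact hc)
          exact (Commute.inv_right_iff.1 h').eq
      rw [sr_mul_r, r_mul_sr] at hh
      exact hne (by rw [← h11]; have h3 := sr.inj hh; calc h1 + h1 = (a + h1) - (a - h1) := by abel
                                                             _ = 0 := by rw [h3, sub_self])
  haveI hTcyc : IsCyclic (T : Subgroup A) := by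
    have e := (equivMapOfInjective (T : Subgroup A) A.subtype A.subtype_injective).trans (MulEquiv.subgroupCongr hTR)
    haveI : IsCyclic Rot := isCyclic_zpowers _
    exact e.symm.isCyclic.1 inferInstance
  have hAeven : (Nat.card A).minFac = 2 := by
    rw [Nat.minFac_eq_two_iff]
    exact dvd_trans (show 2 ∣ Nat.card Rot by rw [hRcard, hm]; exact ⟨2 * q, by ring⟩) (card_dvd_of_le hRA)
  have hcompl := MonoidHom.ker_transferSylow_isComplement' T (IsCyclic.normalizer_le_centralizer hAeven hTcyc)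
  set O := (MonoidHom.transferSylow T (IsCyclic.normalizer_le_centralizer hAeven hTcyc)).ker with hO
  have hOodd : ∀ o : A, o ∈ O → ¬ 2 ∣ orderOf o := fun o ho h =>
    MonoidHom.not_dvd_card_ker_transferSylow T (IsCyclic.normalizer_le_centralizer hAeven hTcyc)
      (h.trans (orderOf_dvd_natCard _ ho))
  have hOmem : ∀ o : A, ¬ 2 ∣ orderOf o → o ∈ O := by
    intro o ho
    obtain ⟨j, hj⟩ := (IsPGroup.iff_orderOf.1 T.isPGroup')
      (MonoidHom.transferSylow T (IsCyclic.normalizer_le_centralizer hAeven hTcyc) o)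
    rw [hO, MonoidHom.mem_ker, ← orderOf_eq_one_iff, hj]
    rcases Nat.eq_zero_or_pos j with rfl | hj0
    · rfl
    · exact absurd ((dvd_pow_self 2 hj0.ne').trans (hj ▸ orderOf_map_dvd _ o)) ho
  obtain ⟨⟨⟨o, hoO⟩, ⟨t, htT⟩⟩, hot⟩ := hcompl.2 ⟨g', hg'A⟩
  have hot' : (o : X) * (t : X) = g' := congrArg Subtype.val hot
  obtain ⟨c, hc⟩ : ∃ c : ZMod m, (t : X) = ι (r c) := by
    have ht : (t : X) ∈ Rot := hTR ▸ ⟨t, htT, rfl⟩
    obtain ⟨i, hi⟩ := ht
    refine ⟨(i : ℤ), ?_⟩
    rw [← hi]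
    show ι (r 1) ^ i = _
    rw [← map_zpow, r_one_zpow]
  set u := ι (sr (0 - (c + c))) with hu
  have htu : (t : X) * ι (sr 0) * (t : X)⁻¹ = u := by
    rw [hc, ← map_inv, ← map_mul, ← map_mul, hu]
    congr 1
    simp [sub_eq_add_neg, add_comm]
  have hv : (o : X) * u * (o : X)⁻¹ ∈ U 1 := by
    rw [← htu, show (o : X) * ((t : X) * ι (sr 0) * (t : X)⁻¹) * (o : X)⁻¹ = ((o : X) * t) * ι (sr 0) * ((o : X) * t)⁻¹ by group,
      hot']
    exact hg'U
  have huw : u * w * u⁻¹ = w⁻¹ := by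
    rw [hu, hwdef, ← map_inv, ← map_mul, ← map_mul, ← map_inv]
    congr 1
    simp
  have huA : ∀ y : A, u * (y : X) * u⁻¹ ∈ A := by
    intro y
    have hy : Commute (y : X) w⁻¹ := (show Commute (y : X) w from mem_centralizer_singleton_iff.1 y.2).inv_right
    show u * (y : X) * u⁻¹ ∈ centralizer ({w} : Set X)
    rw [mem_centralizer_singleton_iff]
    have h1 : u * (y : X) * u⁻¹ * (u * w⁻¹ * u⁻¹) = u * w⁻¹ * u⁻¹ * (u * (y : X) * u⁻¹) := by
      calc u * (y : X) * u⁻¹ * (u * w⁻¹ * u⁻¹) = u * ((y : X) * w⁻¹) * u⁻¹ := by group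
        _ = u * (w⁻¹ * y) * u⁻¹ := by rw [hy.eq]
        _ = _ := by group
    rwa [show u * w⁻¹ * u⁻¹ = (u * w * u⁻¹)⁻¹ by group, huw, inv_inv] at h1
  have huO : (⟨_, huA o⁻¹⟩ : A) ∈ O := by
    refine hOmem _ ?_
    rw [Subgroup.orderOf_mk, hord, orderOf_coe, orderOf_inv]
    exact hOodd o hoO
  set d : A := o * ⟨_, huA o⁻¹⟩ with hd
  have hdO : d ∈ O := mul_mem hoO huO
  have hdeq : (d : X) = (o : X) * u * (o : X)⁻¹ * u⁻¹ := by
    show (o : X) * (u * ((o⁻¹ : A) : X) * u⁻¹) = _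
    rw [Subgroup.coe_inv]; group
  have hdS : (d : X) ∈ (S : Subgroup X) := by
    rw [hdeq, ← hrange]
    obtain ⟨e, -, he⟩ := hv
    exact mul_mem ⟨e, he⟩ (inv_mem ⟨_, rfl⟩)
  have hd1 : (d : X) = 1 := by
    obtain ⟨j, hj⟩ := (IsPGroup.iff_orderOf.1 S.isPGroup') ⟨_, hdS⟩
    rw [Subgroup.orderOf_mk, orderOf_coe] at hj
    have h := hOodd d hdO
    rcases Nat.eq_zero_or_pos j with rfl | hj0
    · rw [pow_zero, orderOf_eq_one_iff] at hj
      rw [hj, Subgroup.coe_one]
    · exact absurd (hj ▸ dvd_pow_self 2 hj0.ne') h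
  rw [hdeq, mul_inv_eq_one] at hd1
  rw [hd1, hu] at hv
  obtain ⟨e, he, hee⟩ := hv
  have he' := hinj hee
  subst he'
  rcases (mem_four hm).1 he with h | h | h | h
  · rw [one_def] at h; exact absurd h (by simp [-r_zero])
  · exact absurd h (by simp [-r_zero])
  · have h' := congrArg par (sr.inj h)
    simp only [map_sub, map_add, map_zero, map_one] at h'
    exact parity_ne _ h'
  · have h' := congrArg par (sr.inj h)
    simp only [map_sub, map_add, map_zero, map_one, ← hh2, hpar2, add_zero] at h'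
    exact parity_ne _ h'


/-- Let X be a finite group whose Sylow 2-subgroup S is dihedral of order 2m ≥ 4. If |S| = 4, any two Klein four-subgroups of X are conjugate; if |S| > 4, there are Klein four-subgroups U₁, U₂ of X that are not conjugate, and every Klein four-subgroup of X is conjugate to U₁ or to U₂. -/
theorem result {X : Type*} [Group X] [Finite X] (S : Sylow 2 X) (m : ℕ) (hm : 2 ≤ m) (eS : (S : Subgroup X) ≃* DihedralGroup m) : (Nat.card S = 4 → ∀ U V : Subgroup X, IsKleinFour U → IsKleinFour V → (∃ x : X, U.map (MulAut.conj x).toMonoidHom = V)) ∧ (4 < Nat.card S → ∃ U₁ U₂ : Subgroup X, IsKleinFour U₁ ∧ IsKleinFour U₂ ∧ ¬ (∃ x : X, U₁.map (MulAut.conj x).toMonoidHom = U₂) ∧ ∀ V : Subgroup X, IsKleinFour V → (∃ x : X, V.map (MulAut.conj x).toMonoidHom = U₁) ∨ (∃ x : X, V.map (MulAut.conj x).toMonoidHom = U₂)) := by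
  haveI : Fact (Nat.Prime 2) := ⟨Nat.prime_two⟩
  constructor
  · intro h4 U V hU hV
    have key : ∀ W : Subgroup X, IsKleinFour W → ∃ T : Sylow 2 X, (T : Subgroup X) = W := by
      intro W hW
      obtain ⟨T, hT⟩ := (IsPGroup.of_card (p := 2) (n := 2) (hW.card_four)).exists_le_sylow
      refine ⟨T, (Subgroup.eq_of_le_of_card_ge hT ?_).symm⟩
      obtain ⟨x, hx⟩ := MulAction.exists_smul_eq X T S
      rw [hW.card_four, ← h4, ← hx]
      rw [Sylow.coe_subgroup_smul]
      exact (Nat.card_congr (Subgroup.equivSMul (MulAut.conj x) (T : Subgroup X)).toEquiv).le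
    obtain ⟨TU, rfl⟩ := key U hU
    obtain ⟨TV, rfl⟩ := key V hV
    obtain ⟨x, hx⟩ := MulAction.exists_smul_eq X TU TV
    exact ⟨x, by rw [← hx, Sylow.coe_subgroup_smul]; rfl⟩
  · intro h4
    have hcS : Nat.card S = 2 * m := by rw [Nat.card_congr eS.toEquiv, DihedralGroup.nat_card]
    obtain ⟨k, hk⟩ := S.isPGroup'.exists_card_eq
    rw [hcS] at hk h4
    obtain ⟨q, hmq⟩ : 4 ∣ m := by
      have hk3 : 3 ≤ k := by
        by_contra hlt
        have := Nat.pow_le_pow_right (show 1 ≤ 2 by norm_num) (show k ≤ 2 by omega)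
        obtain ⟨j, hj⟩ : ∃ j, j ≤ 2 ∧ 2 ^ k = 2 ^ j := ⟨k, by omega, rfl⟩
        omega
      obtain ⟨j, rfl⟩ : ∃ j, k = j + 3 := ⟨k - 3, by omega⟩
      exact ⟨2 ^ j, by rw [pow_add] at hk; omega⟩
    haveI : NeZero m := ⟨by omega⟩
    set ι : DihedralGroup m →* X := (S : Subgroup X).subtype.comp eS.symm.toMonoidHom with hι
    have hinj : Function.Injective ι := (Subgroup.subtype_injective _).comp eS.symm.injective
    have hrange : ι.range = (S : Subgroup X) := by
      rw [hι, MonoidHom.range_comp, MonoidHom.range_eq_top.2 eS.symm.surjective, ← MonoidHom.range_eq_map,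
        Subgroup.range_subtype]
    exact main S m q hmq (by omega) ι hinj hrange

end Cfsg.Agent.S1256
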