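import Cfsg.Statements.S1997
import Cfsg.Agent.Components.Functor.TripleFactor

set_option autoImplicit false
universe u
open Cfsg

namespace Cfsg.Agent.S1997

/-- Let p be a prime, G a finite group with Sylow p-subgroup S, and W₁, W₂ two isomorphism-invariant p-group functors (W assigns to every group Q a subgroup W(Q), nontrivial whenever Q is a nontrivial finite p-group, and every isomorphism from a finite p-group Q onto a group R carries W(Q) onto W(R)). Suppose that G* = C_{G*}(Ω₁Z(S*)) N_{G*}(W₁(S*)) = C_{G*}(Ω₁Z(S*)) N_{G*}(W₂(S*)) = N_{G*}(W₁(S*)) N_{G*}(W₂(S*)) whenever G* = K/R is a section of G with C_{G*}(O_p(G*)) ≤ O_p(G*) and S* is a Sylow p-subgroup of G*, where Ω₁Z denotes the subgroup generated by the elements of order dividing p in the centre. Suppose also Ω₁Z(S) ≤ W₁(S) ∩ W₂(S), and let A be the normal closure of Ω₁Z(S) in N_G(W₁(S)). Then A is an elementary abelian subgroup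 of S, strongly closed in S with respect to G, and A controls strong fusion in G. -/
theorem result {G : Type u} [Group G] [Finite G] {p : ℕ} [Fact p.Prime] (S : Sylow p G) (W₁ W₂ : ∀ (Q : Type u) [Group Q], Subgroup Q) (hW₁ : Cfsg.IsCharPFunctor.{u} p W₁) (hW₂ : Cfsg.IsCharPFunctor.{u} p W₂) (hfac : ∀ (K R : Subgroup G) [hR : (R.subgroupOf K).Normal], Subgroup.centralizer ((Cfsg.pCore p (↥K ⧸ R.subgroupOf K) : Subgroup (↥K ⧸ R.subgroupOf K)) : Set (↥K ⧸ R.subgroupOf K)) ≤ Cfsg.pCore p (↥K ⧸ R.subgroupOf K) → ∀ T : Sylow p (↥K ⧸ R.subgroupOf K), (∀ x : (↥K ⧸ R.subgroupOf K), ∃ a ∈ Subgroup.centralizer ((Cfsg.omegaOne p ((T : Subgroup (↥K ⧸ R.subgroupOf K)) ⊓ Subgroup.centralizer (((T : Subgroup (↥K ⧸ R.subgroupOf K)) : Subgroup (↥K ⧸ R.subgroupOf K)) : Set (↥K ⧸ R.subgroupOf K))) : Subgroup (↥K ⧸ R.subgroupOf K)) : Set (↥K ⧸ R.subgroupOf K)), ∃ b ∈ Subgroup.normalizer ((Cfsg.inducedFunctor (G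 := (↥K ⧸ R.subgroupOf K)) W₁ (T : Subgroup (↥K ⧸ R.subgroupOf K)) : Subgroup (↥K ⧸ R.subgroupOf K)) : Set (↥K ⧸ R.subgroupOf K)), x = a * b) ∧ (∀ x : (↥K ⧸ R.subgroupOf K), ∃ a ∈ Subgroup.centralizer ((Cfsg.omegaOne p ((T : Subgroup (↥K ⧸ R.subgroupOf K)) ⊓ Subgroup.centralizer (((T : Subgroup (↥K ⧸ R.subgroupOf K)) : Subgroup (↥K ⧸ R.subgroupOf K)) : Set (↥K ⧸ R.subgroupOf K))) : Subgroup (↥K ⧸ R.subgroupOf K)) : Set (↥K ⧸ R.subgroupOf K)), ∃ b ∈ Subgroup.normalizer ((Cfsg.inducedFunctor (G := (↥K ⧸ R.subgroupOf K)) W₂ (T : Subgroup (↥K ⧸ R.subgroupOf K)) : Subgroup (↥K ⧸ R.subgroupOf K)) : Set (↥K ⧸ R.subgroupOf K)), x = a * b) ∧ (∀ x : (↥K ⧸ R.subgroupOf K), ∃ a ∈ Subgroup.normalizer ((Cfsg.inducedFunctor (G := (↥K ⧸ R.subgroupOf K)) W₁ (T : Subgroup (↥K ⧸ R.subgroupOf K)) : Subgroup (↥K ⧸ R.subgroupOf K)) : Set (↥K ⧸ R.subgroupOf K)), ∃ b ∈ Subgroup.normalizer ((Cfsg.inducedFunctor (G :=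 (↥K ⧸ R.subgroupOf K)) W₂ (T : Subgroup (↥K ⧸ R.subgroupOf K)) : Subgroup (↥K ⧸ R.subgroupOf K)) : Set (↥K ⧸ R.subgroupOf K)), x = a * b)) (hZ : Cfsg.omegaOne p ((S : Subgroup G) ⊓ Subgroup.centralizer (((S : Subgroup G) : Subgroup G) : Set G)) ≤ Cfsg.inducedFunctor (G := G) W₁ (S : Subgroup G) ⊓ Cfsg.inducedFunctor (G := G) W₂ (S : Subgroup G)) (N₁ : Subgroup G) (hN₁ : N₁ = Subgroup.normalizer ((Cfsg.inducedFunctor (G := G) W₁ (S : Subgroup G) : Subgroup G) : Set G)) (A : Subgroup G) (hA : A = (Subgroup.normalClosure (((Cfsg.omegaOne p ((S : Subgroup G) ⊓ Subgroup.centralizer (((S : Subgroup G) : Subgroup G) : Set G))).subgroupOf N₁ : Subgroup ↥N₁) : Set ↥N₁)).map N₁.subtype) : A ≤ (S : Subgroup G) ∧ Cfsg.IsElementaryAbelian p A ∧ Cfsg.IsStronglyClosed A (S : Subgroup G) ∧ Cfsg.ControlsStrongFusion p A := by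
  open Subgroup Cfsg.Lib.Functor in
  exact by
    set Z := Cfsg.Lib.Triple.omZ p (S : Subgroup G) with hZdef
    set X₁ := Cfsg.inducedFunctor (G := G) W₁ (S : Subgroup G)
    set X₂ := Cfsg.inducedFunctor (G := G) W₂ (S : Subgroup G)
    set N₂ := normalizer (X₂ : Set G) with hN₂
    have hX₁ : X₁ ≤ (S : Subgroup G) := induced_le _
    have hX₂ : X₂ ≤ (S : Subgroup G) := induced_le _
    have hS₁ : (S : Subgroup G) ≤ N₁ := hN₁ ▸ le_normalizer.trans (Cfsg.Lib.Triple.le_normalizer_induced hW₁ S.2)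
    have hS₂ : (S : Subgroup G) ≤ N₂ := le_normalizer.trans (Cfsg.Lib.Triple.le_normalizer_induced hW₂ S.2)
    have hQ₁ : X₁ ≤ Cfsg.pCoreOf p N₁ := Cfsg.Lib.Triple.le_pCoreOf (hX₁.trans hS₁) (S.2.to_le hX₁) hN₁.le
    have hQ₂ : X₂ ≤ Cfsg.pCoreOf p N₂ := Cfsg.Lib.Triple.le_pCoreOf (hX₂.trans hS₂) (S.2.to_le hX₂) le_rfl
    have h1 := Cfsg.Lib.Triple.local_factor hW₂ S (fun K R _ hc T x => (hfac K R hc T).2.1 x) N₁ hS₁
      ((le_trans hZ inf_le_left).trans hQ₁)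
    have h2 := Cfsg.Lib.Triple.local_factor hW₁ S (fun K R _ hc T x => (hfac K R hc T).1 x) N₂ hS₂
      ((le_trans hZ inf_le_right).trans hQ₂)
    set N := N₁ ⊓ N₂
    set S₀ : Set G := {g | ∃ k ∈ N, ∃ z ∈ Z, g = k * z * k⁻¹}
    have moves : ∀ n, (n ∈ N₁ ∨ n ∈ N₂) → ∃ k ∈ N, ∀ z ∈ Z, n * z * n⁻¹ = k * z * k⁻¹ := by
      intro n hn
      have hab : ∃ a ∈ centralizer (Z : Set G), ∃ b ∈ N, n⁻¹ = a * b := by
        rcases hn with hn | hn
        · obtain ⟨a, ha, b, hb, e⟩ := h1 n⁻¹ (inv_mem hn)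
          exact ⟨a, (mem_inf.1 ha).2, b, mem_inf.2 ⟨(mem_inf.1 hb).1, (mem_inf.1 hb).2⟩, e⟩
        · obtain ⟨a, ha, b, hb, e⟩ := h2 n⁻¹ (inv_mem hn)
          exact ⟨a, (mem_inf.1 ha).2, b, mem_inf.2 ⟨hN₁ ▸ (mem_inf.1 hb).2, (mem_inf.1 hb).1⟩, e⟩
      obtain ⟨a, ha, b, hb, e⟩ := hab
      refine ⟨b⁻¹, inv_mem hb, fun z hz => ?_⟩
      have hn' : n = b⁻¹ * a⁻¹ := by rw [← mul_inv_rev, ← e, inv_inv]
      rw [hn']
      calc b⁻¹ * a⁻¹ * z * (b⁻¹ * a⁻¹)⁻¹ = b⁻¹ * a⁻¹ * (z * a) * b := by group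
        _ = b⁻¹ * a⁻¹ * (a * z) * b := by rw [mem_centralizer_iff.1 ha z hz]
        _ = b⁻¹ * z * b⁻¹⁻¹ := by group
    have hN₁n : N₁ ≤ normalizer (closure S₀ : Set G) := Cfsg.Lib.Triple.norm_closure fun n hn x hx => by
      obtain ⟨k, hk, z, hz, rfl⟩ := hx
      obtain ⟨k', hk', e⟩ := moves (n * k) (Or.inl (mul_mem hn (mem_inf.1 hk).1))
      exact subset_closure ⟨k', hk', z, hz, by rw [← e z hz]; group⟩
    have hN₂n : N₂ ≤ normalizer (closure S₀ : Set G) := Cfsg.Lib.Triple.norm_closure fun n hn x hx => by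
      obtain ⟨k, hk, z, hz, rfl⟩ := hx
      obtain ⟨k', hk', e⟩ := moves (n * k) (Or.inr (mul_mem hn (mem_inf.1 hk).2))
      exact subset_closure ⟨k', hk', z, hz, by rw [← e z hz]; group⟩
    have hZN : Z ≤ N₁ := (le_trans hZ inf_le_left).trans (hX₁.trans hS₁)
    have hAeq : A = closure S₀ := by
      rw [hA]
      refine le_antisymm ?_ ((closure_le _).2 ?_)
      · haveI : ((closure S₀).subgroupOf N₁).Normal := normal_subgroupOf_of_le_normalizer hN₁n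
        refine le_trans (map_mono (normalClosure_le_normal (N := (closure S₀).subgroupOf N₁) ?_)) ?_
        · intro z hz
          exact mem_subgroupOf.2 (subset_closure ⟨1, one_mem N, _, mem_subgroupOf.1 hz, by group⟩)
        · exact subgroupOf_map_subtype _ _ |>.le.trans inf_le_left
      · rintro _ ⟨k, hk, z, hz, rfl⟩
        refine ⟨⟨k, (mem_inf.1 hk).1⟩ * ⟨z, hZN hz⟩ * (⟨k, (mem_inf.1 hk).1⟩ : ↥N₁)⁻¹, ?_, rfl⟩
        exact (inferInstance : (normalClosure _).Normal).conj_mem _ (subset_normalClosure (mem_subgroupOf.2 hz)) _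
    subst hAeq
    have hAX : closure S₀ ≤ X₁ := (closure_le _).2 fun x hx => by
      obtain ⟨k, hk, z, hz, rfl⟩ := hx
      exact (mem_normalizer_iff.1 (hN₁ ▸ (mem_inf.1 hk).1) z).1 (le_trans hZ inf_le_left hz)
    have hAS : closure S₀ ≤ (S : Subgroup G) := hAX.trans hX₁
    have hAc : closure S₀ ≤ centralizer (closure S₀ : Set G) := (closure_le _).2 fun x hx => by
      obtain ⟨k, hk, z, hz, rfl⟩ := hx
      refine mem_centralizer_iff.2 fun w hw => ?_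
      have hw' : k⁻¹ * w * k⁻¹⁻¹ ∈ closure S₀ := (mem_normalizer_iff.1 (hN₁n (inv_mem (mem_inf.1 hk).1)) w).1 hw
      have := mem_centralizer_iff.1 (Cfsg.Lib.Triple.omZ_le _ hz).2 _ (hAS hw')
      calc w * (k * z * k⁻¹) = k * ((k⁻¹ * w * k⁻¹⁻¹) * z) * k⁻¹ := by group
        _ = k * (z * (k⁻¹ * w * k⁻¹⁻¹)) * k⁻¹ := by rw [this]
        _ = k * z * k⁻¹ * w := by group
    have hel : Cfsg.IsElementaryAbelian p (closure S₀) := by
      refine ⟨⟨⟨fun u v => Subtype.ext (mem_centralizer_iff.1 (hAc v.2) u u.2)⟩⟩, fun x hx => ?_⟩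
      induction hx using Subgroup.closure_induction with
      | mem x hx =>
        obtain ⟨k, -, z, hz, rfl⟩ := hx
        rw [conj_pow, Cfsg.Lib.Triple.omZ_pow _ hz]; group
      | one => exact one_pow p
      | mul x y hx hy ha hb =>
        have hc : Commute x y := (mem_centralizer_iff.1 (hAc hx) y hy).symm
        rw [hc.mul_pow, ha, hb, one_mul]
      | inv x _ ha => rw [inv_pow, ha, inv_one]
    have hctl : CtrlAll p {W₁, W₂} G := by
      have h𝒲 : ∀ W ∈ ({W₁, W₂} : Set (∀ (Q : Type u) [Group Q], Subgroup Q)), Cfsg.IsCharPFunctor.{u} p W := by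
        rintro W (rfl | rfl)
        exacts [hW₁, hW₂]
      exact ctrl_main h𝒲 _ G rfl (crit_of_sections h𝒲 fun K R _ hc =>
        Cfsg.Lib.Triple.ctrlAll_of_factor hW₁ hW₂ fun T x => (hfac K R hc T).2.2 x)
    have hfus : ∀ (B : Set G) (g : G), B ⊆ (S : Subgroup G) → Cfsg.Lib.Control.img g B ⊆ (S : Subgroup G) →
        ∃ c ∈ normalizer (closure S₀ : Set G), ∀ b ∈ B, c * b * c⁻¹ = g * b * g⁻¹ := by
      intro B g hB hgB
      obtain ⟨c, hc, hcg⟩ := hctl S B g hB hgB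
      refine ⟨c, ?_, hcg⟩
      clear hcg hgB
      induction hc with
      | one => exact one_mem _
      | mul _ hst ihc =>
        refine mul_mem ?_ ihc
        obtain ⟨⟨W, hW', hx⟩, -, -⟩ := hst
        obtain ⟨W₀, hW₀, rfl⟩ := hW'
        rcases hW₀ with rfl | rfl
        · exact hN₁n (hN₁ ▸ (mem_inf.1 hx).2)
        · exact hN₂n (mem_inf.1 hx).2
    refine ⟨hAS, hel, ⟨hAS, fun x hx g hg => ?_⟩, ⟨S, hAS, fun B hB => ⟨hB, fun g hg => ?_⟩⟩⟩
    · obtain ⟨c, hc, e⟩ := hfus {x} g (Set.singleton_subset_iff.2 (hAS hx)) (by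
        rintro _ ⟨y, rfl, rfl⟩; exact hg)
      rw [← e x rfl]
      exact (mem_normalizer_iff.1 hc x).1 hx
    · obtain ⟨c, hc, e⟩ := hfus B g hB hg
      exact ⟨c, hc, fun b hb => (e b hb).symm⟩

end Cfsg.Agent.S1997
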