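import Cfsg.Statements.S2126
import Cfsg.Agent.Suz.Aut

set_option autoImplicit false
open Cfsg

namespace Cfsg.Agent.S2126

/-- Outer automorphisms of the Suzuki groups: for q = 2^(2m+1) with m ≥ 1 the outer automorphism group of Sz(q) has order 2m + 1 (field automorphisms only). -/
theorem result {F : Type*} [Field F] [Fintype F] {m : ℕ} (hm : 1 ≤ m) (hF : Fintype.card F = 2 ^ (2 * m + 1)) : Nat.card (Cfsg.Out ↥(Cfsg.Lie.Sz F (2 ^ (m + 1)))) = 2 * m + 1 := by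
  have Q : Cfsg.Lib.Suz.Par F m := ⟨hm, hF⟩
  have key : (Cfsg.Inn ↥(Cfsg.Sz F m)).map (MulAut.congr (Cfsg.Lib.Suz.lieEquiv Q)).toMonoidHom =
      Cfsg.Inn ↥(Cfsg.Lie.Sz F (2 ^ (m + 1))) := by
    have hc : ∀ g, MulAut.congr (Cfsg.Lib.Suz.lieEquiv Q) (MulAut.conj g) =
        MulAut.conj (Cfsg.Lib.Suz.lieEquiv Q g) := fun g =>
      MulEquiv.ext fun x => by simp [MulAut.congr]
    rw [Cfsg.Inn, Cfsg.Inn, MonoidHom.map_range]
    ext φ
    constructor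
    · rintro ⟨g, rfl⟩
      exact ⟨_, (hc g).symm⟩
    · rintro ⟨g, rfl⟩
      exact ⟨(Cfsg.Lib.Suz.lieEquiv Q).symm g, by simp [hc]⟩
  rw [← Cfsg.Lib.Suz.card_out Q]
  exact (Nat.card_congr (QuotientGroup.congr _ _ (MulAut.congr (Cfsg.Lib.Suz.lieEquiv Q)) key).toEquiv).symm

end Cfsg.Agent.S2126
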