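import Mathlib
import Cfsg.Statements.S0445
-- import your own Cfsg.Agent.* helpers here

set_option autoImplicit false
open Cfsg

namespace Cfsg.Agent.S0445

/-- In the special linear group of dimension 5 over the field with two elements, the centraliser of a transvection has order 21504 = 2 ^ 7 · 168 (it is an extension of an extraspecial group of order 2 ^ 7 by the simple group of order 168). -/
theorem result (s : Matrix.SpecialLinearGroup (Fin 5) (ZMod 2)) (hs : (s : Matrix (Fin 5) (Fin 5) (ZMod 2)) = Matrix.transvection 0 1 1) : Nat.card (Subgroup.centralizer ({s} : Set (Matrix.SpecialLinearGroup (Fin 5) (ZMod 2)))) = 21504 := by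
  classical
  have h01 : ∀ c : ZMod 2, c ≠ 0 → c = 1 := by decide
  haveI : Fact (Nat.Prime 2) := ⟨Nat.prime_two⟩
  -- a matrix is in the centralizer iff it fixes a column and a row
  have hmem : ∀ g : Matrix.SpecialLinearGroup (Fin 5) (ZMod 2),
      g ∈ Subgroup.centralizer ({s} : Set (Matrix.SpecialLinearGroup (Fin 5) (ZMod 2))) ↔
        ((∀ i, (g : Matrix (Fin 5) (Fin 5) (ZMod 2)) i 0 = if i = 0 then 1 else 0) ∧
          ∀ j, (g : Matrix (Fin 5) (Fin 5) (ZMod 2)) 1 j = if j = 1 then 1 else 0) := by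
    intro g
    set M := (g : Matrix (Fin 5) (Fin 5) (ZMod 2)) with hM
    have hiff : g ∈ Subgroup.centralizer ({s} : Set (Matrix.SpecialLinearGroup (Fin 5) (ZMod 2))) ↔
        M * Matrix.single (0 : Fin 5) 1 (1 : ZMod 2) = Matrix.single (0 : Fin 5) 1 (1 : ZMod 2) * M := by
      rw [Subgroup.mem_centralizer_singleton_iff]
      have hinj : Function.Injective (fun x : Matrix.SpecialLinearGroup (Fin 5) (ZMod 2) =>
          (x : Matrix (Fin 5) (Fin 5) (ZMod 2))) := fun a b h => Subtype.ext h
      refine hinj.eq_iff.symm.trans ?_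
      simp only [Matrix.SpecialLinearGroup.coe_mul, hs, Matrix.transvection, mul_add, add_mul, mul_one, one_mul,
        add_right_inj, hM]
    rw [hiff]
    constructor
    · intro h
      have hc : ∀ i, i ≠ 0 → M i 0 = 0 := fun i hi => by
        have := congrFun (congrFun h i) 1
        rwa [Matrix.mul_single_apply_same, mul_one, Matrix.single_mul_apply_of_ne _ _ _ _ _ hi] at this
      have hr : ∀ j, j ≠ 1 → M 1 j = 0 := fun j hj => by
        have := congrFun (congrFun h 0) j
        rwa [Matrix.mul_single_apply_of_ne _ _ _ _ _ hj, Matrix.single_mul_apply_same, one_mul, eq_comm] at this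
      have h00 : M 0 0 = 1 := h01 _ fun e => by
        have := g.2
        rw [Matrix.det_eq_zero_of_column_eq_zero 0 fun i => if hi : i = 0 then hi ▸ e else hc i hi] at this
        exact zero_ne_one this
      have h11 : M 1 1 = 1 := by
        have := congrFun (congrFun h 0) 1
        rwa [Matrix.mul_single_apply_same, mul_one, Matrix.single_mul_apply_same, one_mul, h00, eq_comm] at this
      refine ⟨fun i => ?_, fun j => ?_⟩
      · split_ifs with hi
        · exact hi ▸ h00
        · exact hc i hi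
      · split_ifs with hj
        · exact hj ▸ h11
        · exact hr j hj
    · rintro ⟨hc, hr⟩
      ext i j
      rw [Matrix.mul_apply, Matrix.mul_apply]
      simp only [Matrix.single_apply, mul_ite, mul_one, mul_zero, ite_mul, one_mul, zero_mul]
      fin_cases i <;> fin_cases j <;> simp [Fin.sum_univ_five, hc, hr]
  -- the shape and its determinant
  let mk : ZMod 2 → (Fin 3 → ZMod 2) → (Fin 3 → ZMod 2) → Matrix (Fin 3) (Fin 3) (ZMod 2) →
      Matrix (Fin 5) (Fin 5) (ZMod 2) := fun a b c A =>
    !![1, a, b 0, b 1, b 2; 0, 1, 0, 0, 0; 0, c 0, A 0 0, A 0 1, A 0 2; 0, c 1, A 1 0, A 1 1, A 1 2;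
      0, c 2, A 2 0, A 2 1, A 2 2]
  have hdet : ∀ a b c A, (mk a b c A).det = A.det := by
    intro a b c A
    rw [Matrix.det_succ_column_zero, Fin.sum_univ_five]
    simp [mk, Matrix.det_succ_row_zero, Fin.sum_univ_succ, Fin.succAbove]
  let e : (ZMod 2 × (Fin 3 → ZMod 2) × (Fin 3 → ZMod 2) × Matrix.GeneralLinearGroup (Fin 3) (ZMod 2)) ≃
      Subgroup.centralizer ({s} : Set (Matrix.SpecialLinearGroup (Fin 5) (ZMod 2))) :=
    { toFun := fun p => ⟨⟨mk p.1 p.2.1 p.2.2.1 (p.2.2.2 : Matrix (Fin 3) (Fin 3) (ZMod 2)), by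
          rw [hdet]; exact h01 _ (Matrix.GeneralLinearGroup.det_ne_zero _)⟩, (hmem _).mpr ⟨fun i => by
            fin_cases i <;> simp [mk], fun j => by fin_cases j <;> simp [mk]⟩⟩
      invFun := fun g => ⟨g.1.1 0 1, fun j => g.1.1 0 (j.natAdd 2), fun i => g.1.1 (i.natAdd 2) 1,
        Matrix.GeneralLinearGroup.mkOfDetNeZero (Matrix.of fun i j => g.1.1 (Fin.natAdd 2 i) (Fin.natAdd 2 j)) (by
          obtain ⟨hc, hr⟩ := (hmem g.1).mp g.2
          have hg : g.1.1 = mk (g.1.1 0 1) (fun j => g.1.1 0 (j.natAdd 2)) (fun i => g.1.1 (i.natAdd 2) 1)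
              (Matrix.of fun i j => g.1.1 (Fin.natAdd 2 i) (Fin.natAdd 2 j)) := by
            ext i j; fin_cases i <;> fin_cases j <;> simp [mk, hc, hr]
          rw [← hdet (g.1.1 0 1) (fun j => g.1.1 0 (j.natAdd 2)) (fun i => g.1.1 (i.natAdd 2) 1), ← hg, g.1.2]
          exact one_ne_zero)⟩
      left_inv := fun p => by
        obtain ⟨a, b, c, A⟩ := p
        refine Prod.ext rfl (Prod.ext (funext fun j => ?_) (Prod.ext (funext fun i => ?_) (Units.ext ?_)))
        · fin_cases j <;> rfl
        · fin_cases i <;> rfl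
        · ext i j; fin_cases i <;> fin_cases j <;> rfl
      right_inv := fun g => by
        obtain ⟨hc, hr⟩ := (hmem g.1).mp g.2
        apply Subtype.ext; apply Subtype.ext
        ext i j
        fin_cases i <;> fin_cases j <;> simp [mk, hc, hr] }
  rw [← Nat.card_congr e]
  simp only [Nat.card_prod, Nat.card_fun, Nat.card_zmod, Matrix.card_GL_field, Fin.prod_univ_three]
  simp [Nat.card_eq_fintype_card]

end Cfsg.Agent.S0445
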