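import Cfsg.Statements.S5608
import Cfsg.Agent.Golay.ElementFix

set_option autoImplicit false
open scoped Pointwise
open Cfsg

namespace Cfsg.Agent.S5608

open Cfsg.Lib.Golay Cfsg.Lib.PermCert MulAction
open scoped Pointwise


/-- If an element of order 3 and an involution of the group of the length-24 code commute, then either the element of order 3 has exactly 6 fixed points and the involution exactly 8, or both are fixed-point-free. -/
theorem result (x s : Equiv.Perm Cfsg.GolayPt) (hx : x ∈ Cfsg.M24) (hs : s ∈ Cfsg.M24) (h₃ : orderOf x = 3) (h₂ : orderOf s = 2) (hc : Commute x s) : ((Finset.univ.filter fun p => x p = p).card = 6 ∧ (Finset.univ.filter fun p => s p = p).card = 8) ∨ ((Finset.univ.filter fun p => x p = p).card = 0 ∧ (Finset.univ.filter fun p => s p = p).card = 0) := by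
  have main : ∀ (g : Cfsg.Lib.PermCert.PP) (K : CG) (r : Equiv.Perm Cfsg.GolayPt) (y : Cfsg.Lib.PermCert.PP) (n : ℕ),
      r ∈ Cfsg.M24 → s = r * toP g * r⁻¹ → K.ok = true →
      (∀ c, (c ∈ Cfsg.M24 ∧ c * toP g = toP g * c) → c ∈ K.grp) →
      valid 24 y = true → sift 24 K.chain [y] = true →
      (List.range 24).all (fun i => ap y.1 (ap y.1 (ap y.1 i)) == i) = true → nfix y = n → n ≠ 24 →
      ¬ 9 ∣ size K.chain → fixCard x = n := by
    intro g K r y n hr e hK hle hv hsift hy3 hn hn24 h9
    have hyK : toP y ∈ K.grp := ⟨perm 24 y,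
      by simpa using mem_grp_of_sift (CG.ok_spec hK).1 (w := [y]) (by simpa using hv) hsift, rfl⟩
    have hyo : orderOf (toP y) = 3 := by
      haveI : Fact (Nat.Prime 3) := ⟨Nat.prime_three⟩
      refine orderOf_eq_prime (Equiv.ext fun p => pidx_injective ?_) fun e1 => hn24 ?_
      · simp only [List.all_eq_true, List.mem_range, beq_iff_eq] at hy3
        rw [pow_succ, pow_two, Equiv.Perm.mul_apply, Equiv.Perm.mul_apply, pidx_toP hv, pidx_toP hv, pidx_toP hv]
        exact hy3 _ (pidx_lt p)
      · rw [← hn, ← fixCard_toP hv, e1]; decide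
    have hxK : r⁻¹ * x * r ∈ K.grp := hle _ ⟨mul_mem (mul_mem (inv_mem hr) hx) hr, by
      have h := hc.eq
      rw [e] at h
      calc r⁻¹ * x * r * toP g = r⁻¹ * (x * (r * toP g * r⁻¹)) * r := by group
        _ = r⁻¹ * (r * toP g * r⁻¹ * x) * r := by rw [h]
        _ = toP g * (r⁻¹ * x * r) := by group⟩
    have hxo : orderOf (r⁻¹ * x * r) = 3 := by
      rw [show r⁻¹ * x * r = MulAut.conj r⁻¹ x by simp, MulEquiv.orderOf_eq, h₃]
    rw [← hn, ← fixCard_toP hv, ← fixCard_three hyK hyo (by rw [CG.card_grp hK]; exact h9) hxK hxo]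
    have := fixCard_conj r⁻¹ x
    rw [inv_inv] at this
    exact this.symm
  obtain ⟨r, hr, ⟨e, h8⟩ | ⟨e, h0⟩⟩ := involution_classes hs h₂
  · exact Or.inl ⟨main invA.1 cgInvA r triInA 6 hr e cgInvA_ok (fun c h => centralizer_invA.mp h) (by decide +kernel)
      (by decide +kernel) (by decide +kernel) (by decide +kernel) (by norm_num) (by decide +kernel), h8⟩
  · exact Or.inr ⟨main invB.1 cgInvB r triInB 0 hr e cgInvB_ok (fun c h => centralizer_invB.mp h) (by decide +kernel)
      (by decide +kernel) (by decide +kernel) (by decide +kernel) (by norm_num) (by decide +kernel), h0⟩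

end Cfsg.Agent.S5608
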