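import Cfsg.Agent.Elementary.UniqueFixedCoset
import Mathlib
import Cfsg.Statements.S5438
-- import your own Cfsg.Agent.* helpers here

set_option autoImplicit false
open Cfsg

namespace Cfsg.Agent.S5438

/-- Let z be a 2-central involution of the finite group G (an involution central in some Sylow 2-subgroup) and H a subgroup containing z such that the coset H is the only coset of H fixed by z (in the action of G on the cosets of H). Then H has odd index in G, and for every 2-element x of H the conjugates of x lying in H form a single H-class. -/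
theorem result {G : Type*} [Group G] [Finite G] (z : G) (hz : Cfsg.IsTwoCentralInvolution z) (H : Subgroup G) (hzH : z ∈ H) (hfix : ∀ g : G, g⁻¹ * z * g ∈ H → g ∈ H) : Odd H.index ∧ ∀ x ∈ H, (∃ k : ℕ, orderOf x = 2 ^ k) → ∀ g : G, g * x * g⁻¹ ∈ H → ∃ h ∈ H, h * x * h⁻¹ = g * x * g⁻¹ := by
  haveI : Fact (Nat.Prime 2) := ⟨Nat.prime_two⟩
  obtain ⟨hz2, P, hzP, hzC⟩ := hz
  have hu : ∃! c : G ⧸ H, z • c = c := by
    refine ⟨QuotientGroup.mk 1, Cfsg.Lib.UniqueFixedCoset.fixed_iff.mpr (by simpa using hzH), fun c hc => ?_⟩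
    induction c using QuotientGroup.induction_on with
    | _ g =>
      rw [Cfsg.Lib.UniqueFixedCoset.fixed_iff] at hc
      rw [QuotientGroup.eq, mul_one, inv_mem_iff]
      exact hfix g hc
  have hC : ∀ w : G, w * z = z * w → w ∈ H := fun w hw =>
    hfix w (by rw [mul_assoc, ← hw, inv_mul_cancel_left]; exact hzH)
  have hPH : (P : Subgroup G) ≤ H := fun w hw => hC w (hzC w hw)
  refine ⟨Cfsg.Lib.UniqueFixedCoset.odd_index hz2 hu, fun x hx hx2 g hg => ?_⟩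
  have hintoP : ∀ y ∈ H, (∃ k : ℕ, orderOf y = 2 ^ k) → ∃ a ∈ H, a * y * a⁻¹ ∈ P := by
    intro y hy hy2
    obtain ⟨k, hk⟩ := hy2
    have hzp : IsPGroup 2 (Subgroup.zpowers (⟨y, hy⟩ : H)) :=
      IsPGroup.of_card (n := k) (by rw [Nat.card_zpowers, Subgroup.orderOf_mk, hk])
    obtain ⟨S, hS⟩ := hzp.exists_le_sylow
    obtain ⟨a, ha⟩ := MulAction.exists_smul_eq H S (P.subtype hPH)
    refine ⟨a, a.2, ?_⟩
    have : (a * ⟨y, hy⟩ * a⁻¹ : H) ∈ (P.subtype hPH : Subgroup H) := by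
      rw [← ha, Sylow.coe_subgroup_smul]
      exact ⟨⟨y, hy⟩, hS (Subgroup.mem_zpowers _), rfl⟩
    exact this
  obtain ⟨h1, hh1, hx1⟩ := hintoP x hx hx2
  have hord : ∃ k : ℕ, orderOf (g * x * g⁻¹) = 2 ^ k := by
    obtain ⟨k, hk⟩ := hx2
    exact ⟨k, by rw [← hk]; exact (MulAut.conj g).orderOf_eq x⟩
  obtain ⟨h2, hh2, hx2'⟩ := hintoP _ hg hord
  set a := h2 * g * h1⁻¹ with ha
  set x2 := h2 * (g * x * g⁻¹) * h2⁻¹ with hx2def
  have hax : a * (h1 * x * h1⁻¹) * a⁻¹ = x2 := by rw [ha, hx2def]; group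
  set C := Subgroup.centralizer ({x2} : Set G)
  have hzC2 : z ∈ C := Subgroup.mem_centralizer_singleton_iff.mpr (hzC _ hx2').symm
  have huC : a * z * a⁻¹ ∈ C := Subgroup.mem_centralizer_singleton_iff.mpr (by
    rw [← hax]
    exact ((show Commute z (h1 * x * h1⁻¹) from (hzC _ hx1).symm).map (MulAut.conj a).toMonoidHom).eq)
  have hzc2 : orderOf (⟨z, hzC2⟩ : C) = 2 := by rw [Subgroup.orderOf_mk, hz2]
  have huniq : ∃! c : C ⧸ H.subgroupOf C, (⟨z, hzC2⟩ : C) • c = c := by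
    refine ⟨QuotientGroup.mk 1, Cfsg.Lib.UniqueFixedCoset.fixed_iff.mpr (by simpa [Subgroup.mem_subgroupOf] using hzH),
      fun c hc => ?_⟩
    induction c using QuotientGroup.induction_on with
    | _ c =>
      rw [Cfsg.Lib.UniqueFixedCoset.fixed_iff, Subgroup.mem_subgroupOf] at hc
      rw [QuotientGroup.eq, mul_one, inv_mem_iff, Subgroup.mem_subgroupOf]
      exact hfix _ hc
  have hodd := Cfsg.Lib.UniqueFixedCoset.odd_index hzc2 huniq
  haveI : Fintype (C ⧸ H.subgroupOf C) := Fintype.ofFinite _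
  have hu2 : orderOf (⟨a * z * a⁻¹, huC⟩ : C) = 2 := by
    rw [Subgroup.orderOf_mk, ← hz2]; exact (MulAut.conj a).orderOf_eq z
  have hPu : IsPGroup 2 (Subgroup.zpowers (⟨a * z * a⁻¹, huC⟩ : C)) :=
    IsPGroup.of_card (n := 1) (by rw [Nat.card_zpowers, hu2, pow_one])
  obtain ⟨c, hc⟩ := hPu.nonempty_fixed_point_of_prime_not_dvd_card (C ⧸ H.subgroupOf C) (by
    rw [← Subgroup.index]
    exact Nat.two_dvd_ne_zero.mpr (Nat.odd_iff.mp hodd))
  induction c using QuotientGroup.induction_on with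
  | _ c =>
    have hcH := hc ⟨_, Subgroup.mem_zpowers (⟨a * z * a⁻¹, huC⟩ : C)⟩
    change (⟨a * z * a⁻¹, huC⟩ : C) • (c : C ⧸ H.subgroupOf C) = c at hcH
    rw [Cfsg.Lib.UniqueFixedCoset.fixed_iff, Subgroup.mem_subgroupOf] at hcH
    have hb : a⁻¹ * (c : G) ∈ H := hfix _ (by
      simp only [Subgroup.coe_mul, Subgroup.coe_inv] at hcH
      rw [show (a⁻¹ * (c : G))⁻¹ * z * (a⁻¹ * c) = (c : G)⁻¹ * (a * z * a⁻¹) * c by group]
      exact hcH)
    refine ⟨h2⁻¹ * (a⁻¹ * (c : G))⁻¹ * h1, mul_mem (mul_mem (inv_mem hh2) (inv_mem hb)) hh1, ?_⟩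
    have hc2 : (c : G) * x2 = x2 * c := Subgroup.mem_centralizer_singleton_iff.mp c.2
    calc h2⁻¹ * (a⁻¹ * (c : G))⁻¹ * h1 * x * (h2⁻¹ * (a⁻¹ * (c : G))⁻¹ * h1)⁻¹
        = h2⁻¹ * ((c : G)⁻¹ * (a * (h1 * x * h1⁻¹) * a⁻¹) * c) * h2 := by group
      _ = h2⁻¹ * ((c : G)⁻¹ * (x2 * c)) * h2 := by rw [hax]; group
      _ = g * x * g⁻¹ := by rw [← hc2, hx2def]; group

end Cfsg.Agent.S5438
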