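import Cfsg.Statements.S0743
import Mathlib
import Cfsg.Agent.PermGroups.Moves

set_option autoImplicit false
open Cfsg

namespace Cfsg.Agent.S0743

/-- Gleason's Lemma: let `p` be a prime and `1 ≤ k < n`; if every `k`-subset of the `n` points is exactly the fixed-point set of some `p`-subgroup of `G`, then `G` is `k`-transitive. -/
theorem result {α : Type*} [Fintype α] [DecidableEq α] (G : Subgroup (Equiv.Perm α)) {p k : ℕ} (hp : p.Prime) (hk : 1 ≤ k) (hkn : k < Fintype.card α) (h : ∀ s : Finset α, s.card = k → ∃ P : Subgroup G, IsPGroup p P ∧ MulAction.fixedPoints P α = (s : Set α)) : MulAction.IsMultiplyPretransitive G α k := by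
  have : Fact p.Prime := ⟨hp⟩
  refine Cfsg.Lib.PermGroups.isMultiplyPretransitive_of_moves hkn fun x i b hb => ?_
  let F : Set α := {z | ∃ j, j ≠ i ∧ x j = z}
  have hFT : ∀ g ∈ fixingSubgroup G F, ∀ z ∈ Fᶜ, g • z ∈ Fᶜ := fun g hg z hz hgz => hz (by
    have := (mem_fixingSubgroup_iff G).1 ((fixingSubgroup G F).inv_mem hg) (g • z) hgz
    rw [inv_smul_smul] at this
    rwa [this])
  obtain ⟨g, hg, hgab⟩ := Cfsg.Lib.PermGroups.transitive_on_of_congr (fixingSubgroup G F) Fᶜ hFT (d := p) hp.ne_one
    (fun c hc => by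
      let s : Finset α := insert c ((Finset.univ.erase i).map x)
      have hcs : c ∉ (Finset.univ.erase i).map x := fun h => hc (by
        obtain ⟨j, hj, e⟩ := Finset.mem_map.1 h
        exact ⟨j, (Finset.mem_erase.1 hj).1, e⟩)
      have hs : s.card = k := by
        rw [Finset.card_insert_of_notMem hcs, Finset.card_map, Finset.card_erase_of_mem (Finset.mem_univ i), Finset.card_univ, Fintype.card_fin]
        omega
      obtain ⟨P, hP, hPs⟩ := h s hs
      refine ⟨P, fun q hq => (mem_fixingSubgroup_iff G).2 fun z hz => ?_, fun q hq => ?_, fun z hz hzc => ?_⟩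
      · have hz' : z ∈ MulAction.fixedPoints P α := by
          rw [hPs]; obtain ⟨j, hj, rfl⟩ := hz; simp [s, hj]
        exact hz' ⟨q, hq⟩
      · have hc' : c ∈ MulAction.fixedPoints P α := by rw [hPs]; simp [s]
        exact hc' ⟨q, hq⟩
      · obtain ⟨n, hn⟩ := hP.card_orbit z
        rw [hn]
        refine dvd_pow_self p fun h0 => ?_
        rw [h0, pow_zero] at hn
        have hfix : z ∈ MulAction.fixedPoints P α := by
          have := Nat.card_eq_one_iff_unique.1 hn
          exact fun q => congrArg Subtype.val (this.1.elim ⟨q • z, MulAction.mem_orbit z q⟩ ⟨z, MulAction.mem_orbit_self z⟩)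
        rw [hPs] at hfix
        rcases Finset.mem_insert.1 (Finset.mem_coe.1 hfix) with e | e
        · exact hzc e
        · obtain ⟨j, hj, e⟩ := Finset.mem_map.1 e
          exact hz ⟨j, (Finset.mem_erase.1 hj).1, e⟩)
    (a := x i) (b := b) (fun ⟨j, hj, e⟩ => hj (x.injective e)) (fun ⟨j, _, e⟩ => hb ⟨j, e⟩)
  exact ⟨g, hgab, fun j hj => (mem_fixingSubgroup_iff G).1 hg (x j) ⟨j, hj, rfl⟩⟩

end Cfsg.Agent.S0743
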