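import Cfsg.Statements.S0744
import Mathlib
import Cfsg.Agent.PermGroups.Moves

set_option autoImplicit false
open Cfsg

namespace Cfsg.Agent.S0744

/-- If for some `k > 1` the pointwise stabilisers of all `(k-1)`-subsets have the same order `> 1` and those of all `k`-subsets have the same order, then the group is `(k-1)`-transitive. -/
theorem result {α : Type*} [Fintype α] [DecidableEq α] (G : Subgroup (Equiv.Perm α)) {k : ℕ} (hk : 1 < k) (hkn : k ≤ Fintype.card α) (l m : ℕ) (hl : 1 < l) (hkm1 : ∀ s : Finset α, s.card = k - 1 → Nat.card (fixingSubgroup G (s : Set α)) = l) (hkm : ∀ s : Finset α, s.card = k → Nat.card (fixingSubgroup G (s : Set α)) = m) : MulAction.IsMultiplyPretransitive G α (k - 1) := by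
  have hl0 : l ≠ 0 := by omega
  have orb : ∀ (A : Finset α), A.card = k - 1 → ∀ z, z ∉ A →
      m * Nat.card (MulAction.orbit (fixingSubgroup G (A : Set α)) z) = l := fun A hA z hz => by
    set K := fixingSubgroup G (A : Set α)
    have h1 := (MulAction.stabilizer K z).card_mul_index
    rw [MulAction.index_stabilizer, hkm1 A hA] at h1
    have e : (MulAction.stabilizer K z).map K.subtype = fixingSubgroup G ((insert z A : Finset α) : Set α) := by
      ext g
      simp only [Subgroup.mem_map, mem_fixingSubgroup_iff, Finset.coe_insert, Set.mem_insert_iff]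
      constructor
      · rintro ⟨q, hq, rfl⟩ w (rfl | hw)
        · exact hq
        · exact (mem_fixingSubgroup_iff G).1 q.2 w hw
      · intro hg
        exact ⟨⟨g, (mem_fixingSubgroup_iff G).2 fun w hw => hg w (Or.inr hw)⟩, hg z (Or.inl rfl), rfl⟩
    have h2 : Nat.card (MulAction.stabilizer K z) = m := by
      rw [← hkm (insert z A) (by rw [Finset.card_insert_of_notMem hz, hA]; omega), ← e]
      exact Nat.card_congr ((MulAction.stabilizer K z).equivMapOfInjective K.subtype (Subgroup.subtype_injective _)).toEquiv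
    rw [h2, ← Nat.card_coe_set_eq] at h1
    exact h1
  refine Cfsg.Lib.PermGroups.isMultiplyPretransitive_of_moves (by omega) fun x i b hb => ?_
  have hm0 : m ≠ 0 := fun h0 => by
    obtain ⟨A, -, hA⟩ := Finset.exists_subset_card_eq (s := (Finset.univ : Finset α)) (n := k - 1) (by rw [Finset.card_univ]; omega)
    obtain ⟨z, -, hz⟩ := Finset.exists_mem_notMem_of_card_lt_card (t := (Finset.univ : Finset α)) (s := A) (by rw [Finset.card_univ]; omega)
    have := orb A hA z hz
    simp [h0] at this
    omega
  have hd : ∀ (A : Finset α), A.card = k - 1 → ∀ z, z ∉ A → Nat.card (MulAction.orbit (fixingSubgroup G (A : Set α)) z) = l / m :=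
    fun A hA z hz => by rw [← orb A hA z hz, Nat.mul_div_cancel_left _ (Nat.pos_of_ne_zero hm0)]
  let F : Set α := {z | ∃ j, j ≠ i ∧ x j = z}
  have hFT : ∀ g ∈ fixingSubgroup G F, ∀ z ∈ Fᶜ, g • z ∈ Fᶜ := fun g hg z hz hgz => hz (by
    have := (mem_fixingSubgroup_iff G).1 ((fixingSubgroup G F).inv_mem hg) (g • z) hgz
    rw [inv_smul_smul] at this
    rwa [this])
  have hne : l / m ≠ 1 := fun h1 => by
    obtain ⟨A, -, hA⟩ := Finset.exists_subset_card_eq (s := (Finset.univ : Finset α)) (n := k - 1) (by rw [Finset.card_univ]; omega)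
    have hbot : fixingSubgroup G (A : Set α) = ⊥ := by
      refine (Subgroup.eq_bot_iff_forall _).2 fun g hg => Subtype.ext (Equiv.ext fun z => ?_)
      by_cases hz : z ∈ A
      · exact (mem_fixingSubgroup_iff G).1 hg z hz
      · have h := Nat.card_eq_one_iff_unique.1 ((hd A hA z hz).trans h1)
        exact congrArg Subtype.val (h.1.elim ⟨_, MulAction.mem_orbit z (⟨g, hg⟩ : fixingSubgroup G (A : Set α))⟩ ⟨z, MulAction.mem_orbit_self z⟩)
    have := hkm1 A hA
    rw [hbot, Subgroup.card_bot] at this
    omega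
  obtain ⟨g, hg, hgab⟩ := Cfsg.Lib.PermGroups.transitive_on_of_congr (fixingSubgroup G F) Fᶜ hFT (d := l / m) hne
    (fun c hc => by
      let s : Finset α := insert c ((Finset.univ.erase i).map x)
      have hcs : c ∉ (Finset.univ.erase i).map x := fun h => hc (by
        obtain ⟨j, hj, e⟩ := Finset.mem_map.1 h
        exact ⟨j, (Finset.mem_erase.1 hj).1, e⟩)
      have hs : s.card = k - 1 := by
        rw [Finset.card_insert_of_notMem hcs, Finset.card_map, Finset.card_erase_of_mem (Finset.mem_univ i), Finset.card_univ, Fintype.card_fin]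
        have := i.isLt
        omega
      refine ⟨fixingSubgroup G (s : Set α), fun q hq => (mem_fixingSubgroup_iff G).2 fun z hz => ?_, fun q hq => ?_, fun z hz hzc => ?_⟩
      · obtain ⟨j, hj, rfl⟩ := hz
        exact (mem_fixingSubgroup_iff G).1 hq _ (by simp [s, hj])
      · exact (mem_fixingSubgroup_iff G).1 hq c (by simp [s])
      · rw [hd s hs z]
        intro hzs
        rcases Finset.mem_insert.1 hzs with e | e
        · exact hzc e
        · obtain ⟨j, hj, e⟩ := Finset.mem_map.1 e
          exact hz ⟨j, (Finset.mem_erase.1 hj).1, e⟩)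
    (a := x i) (b := b) (fun ⟨j, hj, e⟩ => hj (x.injective e)) (fun ⟨j, _, e⟩ => hb ⟨j, e⟩)
  exact ⟨g, hgab, fun j hj => (mem_fixingSubgroup_iff G).1 hg (x j) ⟨j, hj, rfl⟩⟩

end Cfsg.Agent.S0744
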