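import Cfsg.Statements.S0736
import Mathlib

set_option autoImplicit false
open Cfsg
open scoped Pointwise

namespace Cfsg.Agent.S0736

/-- A `k`-homogeneous permutation group of degree `n`, `k ≥ 2`, with `k + q - 1 ≤ n` for every prime power `q` dividing `k`, is `(k-1)`-homogeneous. -/
theorem result {α : Type*} [Fintype α] [DecidableEq α] (G : Subgroup (Equiv.Perm α)) {k : ℕ} (hk : 2 ≤ k) (hG : MulAction.IsPretransitive G (Set.powersetCard α k)) (hq : ∀ q : ℕ, IsPrimePow q → q ∣ k → k + q - 1 ≤ Fintype.card α) : MulAction.IsPretransitive G (Set.powersetCard α (k - 1)) := by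
  classical
  set n := Fintype.card α
  -- a binomial coefficient prime to a given prime
  have lucas : ∀ p : ℕ, p.Prime → ∀ e t : ℕ, (p ^ e * (t + 1) - 1).choose (p ^ e) ≡ t [MOD p] := by
    intro p hp
    have : Fact p.Prime := ⟨hp⟩
    intro e t
    induction e with
    | zero => simp [Nat.ModEq]
    | succ e ih =>
      have hpos : 1 ≤ p ^ e * (t + 1) := Nat.one_le_iff_ne_zero.2 (Nat.mul_ne_zero (pow_ne_zero _ hp.ne_zero) (Nat.succ_ne_zero t))
      have h1 : p ^ (e + 1) * (t + 1) - 1 = p * (p ^ e * (t + 1) - 1) + (p - 1) := by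
        obtain ⟨u, hu⟩ := Nat.exists_eq_add_of_le hpos
        have hp1 := hp.one_le
        rw [pow_succ', mul_assoc, hu, Nat.add_sub_cancel_left, mul_add, mul_one]
        omega
      have h2 := Choose.choose_modEq_choose_mod_mul_choose_div_nat (p := p) (n := p ^ (e + 1) * (t + 1) - 1) (k := p ^ (e + 1))
      have hlt : p - 1 < p := Nat.sub_lt hp.pos one_pos
      rw [h1, Nat.mul_add_mod, Nat.mod_eq_of_lt hlt, Nat.mul_add_div hp.pos, Nat.div_eq_of_lt hlt, add_zero,
        pow_succ', Nat.mul_mod_right, Nat.mul_div_cancel_left _ hp.pos, Nat.choose_zero_right, one_mul] at h2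
      rw [h1, pow_succ']
      exact h2.trans ih
  refine ⟨fun A B => ?_⟩
  let O : Set (Set.powersetCard α (k - 1)) := MulAction.orbit G A
  let inO : Finset α → Prop := fun S => ∃ h : S.card = k - 1, (⟨S, h⟩ : Set.powersetCard α (k - 1)) ∈ O
  suffices h : inO B.1 by
    obtain ⟨_, g, hg⟩ := h
    exact ⟨g, hg⟩
  have hk0 : 0 < k := by omega
  by_cases hkn : k ≤ n
  swap
  · -- only one set of size `k - 1` at most
    have hA : A.1 = Finset.univ := Finset.eq_univ_of_card _ (le_antisymm (Finset.card_le_univ _) (by rw [A.2]; omega))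
    have hB : B.1 = Finset.univ := Finset.eq_univ_of_card _ (le_antisymm (Finset.card_le_univ _) (by rw [B.2]; omega))
    exact ⟨B.2, by rw [show (⟨B.1, B.2⟩ : Set.powersetCard α (k - 1)) = A from Subtype.ext (hB.trans hA.symm)]; exact MulAction.mem_orbit_self A⟩
  have himg : ∀ (g : G) (S : Finset α), inO S → inO (S.image fun z => g • z) := fun g S ⟨h, hS⟩ => by
    obtain ⟨f, hf⟩ := hS
    exact ⟨(Finset.card_image_of_injective _ (MulAction.injective g)).trans h, g * f, by
      show (g * f) • A = _
      rw [mul_smul, show f • A = _ from hf]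
      exact Subtype.ext rfl⟩
  have hiff : ∀ (g : G) (S : Finset α), inO (S.image fun z => g • z) ↔ inO S := fun g S => ⟨fun h => by
    have := himg g⁻¹ _ h
    rwa [Finset.image_image, show ((fun z => g⁻¹ • z) ∘ fun z => g • z) = id from funext (inv_smul_smul g), Finset.image_id] at this, himg g S⟩
  let cnt : Finset α → ℕ := fun M => ((M.powersetCard (k - 1)).filter inO).card
  obtain ⟨K0, -, hK0⟩ := Finset.exists_subset_card_eq (s := (Finset.univ : Finset α)) (n := k) (by rw [Finset.card_univ]; exact hkn)
  have hsame : ∀ K : Finset α, K.card = k → cnt K = cnt K0 := by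
    intro K hK
    obtain ⟨g, hg⟩ := MulAction.exists_smul_eq G (⟨K0, hK0⟩ : Set.powersetCard α k) ⟨K, hK⟩
    have e : K0.image (fun z => g • z) = K := congrArg Subtype.val hg
    symm
    refine Finset.card_bij (fun S _ => S.image fun z => g • z) (fun S hS => ?_) (fun S _ T _ h => Finset.image_injective (MulAction.injective g) h) (fun T hT => ?_)
    · simp only [Finset.mem_filter, Finset.mem_powersetCard] at hS ⊢
      exact ⟨⟨e ▸ Finset.image_subset_image hS.1.1, (Finset.card_image_of_injective _ (MulAction.injective g)).trans hS.1.2⟩, himg g S hS.2⟩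
    · simp only [Finset.mem_filter, Finset.mem_powersetCard] at hT
      refine ⟨T.image fun z => g⁻¹ • z, ?_, ?_⟩
      · simp only [Finset.mem_filter, Finset.mem_powersetCard]
        refine ⟨⟨?_, (Finset.card_image_of_injective _ (MulAction.injective _)).trans hT.1.2⟩, himg g⁻¹ T hT.2⟩
        intro z hz
        obtain ⟨w, hw, rfl⟩ := Finset.mem_image.1 hz
        have hw' := hT.1.1 hw
        rw [← e] at hw'
        obtain ⟨u, hu, rfl⟩ := Finset.mem_image.1 hw'
        rw [inv_smul_smul]; exact hu
      · rw [Finset.image_image, show ((fun z => g • z) ∘ fun z => g⁻¹ • z) = id from funext (smul_inv_smul g), Finset.image_id]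
  have dc : ∀ M : Finset α, k ≤ M.card → k * cnt M = cnt K0 * M.card.choose (k - 1) := by
    intro M hM
    have h1 := Finset.sum_card_bipartiteAbove_eq_sum_card_bipartiteBelow (fun (K S : Finset α) => S ⊆ K ∧ inO S) (s := M.powersetCard k) (t := M.powersetCard (k - 1))
    have hl : ∀ K ∈ M.powersetCard k, ((M.powersetCard (k - 1)).bipartiteAbove (fun (K S : Finset α) => S ⊆ K ∧ inO S) K).card = cnt K0 := by
      intro K hK
      rw [Finset.mem_powersetCard] at hK
      rw [← hsame K hK.2]
      refine congrArg Finset.card ?_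
      ext S
      simp only [Finset.bipartiteAbove, Finset.mem_filter, Finset.mem_powersetCard]
      exact ⟨fun ⟨⟨_, a⟩, b, c⟩ => ⟨⟨b, a⟩, c⟩, fun ⟨⟨b, a⟩, c⟩ => ⟨⟨b.trans hK.1, a⟩, b, c⟩⟩
    have hr : ∀ S ∈ M.powersetCard (k - 1), ((M.powersetCard k).bipartiteBelow (fun (K S : Finset α) => S ⊆ K ∧ inO S) S).card = if inO S then M.card - (k - 1) else 0 := by
      intro S hS
      rw [Finset.mem_powersetCard] at hS
      split_ifs with ho
      · have e : (M.powersetCard k).bipartiteBelow (fun (K S : Finset α) => S ⊆ K ∧ inO S) S = (M \ S).image fun z => insert z S := by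
          ext K
          simp only [Finset.bipartiteBelow, Finset.mem_filter, Finset.mem_powersetCard, Finset.mem_image, Finset.mem_sdiff]
          constructor
          · rintro ⟨⟨hKM, hKc⟩, hSK, -⟩
            obtain ⟨z, hz⟩ := Finset.card_eq_one.1 (show (K \ S).card = 1 by rw [Finset.card_sdiff_of_subset hSK]; omega)
            have hzm : z ∈ K \ S := hz ▸ Finset.mem_singleton_self z
            rw [Finset.mem_sdiff] at hzm
            exact ⟨z, ⟨hKM hzm.1, hzm.2⟩, Finset.eq_of_subset_of_card_le (Finset.insert_subset hzm.1 hSK) (by rw [Finset.card_insert_of_notMem hzm.2]; omega)⟩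
          · rintro ⟨z, ⟨hzM, hzS⟩, rfl⟩
            exact ⟨⟨Finset.insert_subset hzM hS.1, by rw [Finset.card_insert_of_notMem hzS]; omega⟩, Finset.subset_insert _ _, ho⟩
        rw [e, Finset.card_image_of_injOn, Finset.card_sdiff_of_subset hS.1, hS.2]
        intro z hz w hw h
        simp only [Finset.coe_sdiff, Set.mem_diff, Finset.mem_coe] at hz hw
        have : z ∈ insert w S := by
          rw [← show insert z S = insert w S from h]
          exact Finset.mem_insert_self z S
        exact (Finset.mem_insert.1 this).resolve_right hz.2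
      · rw [Finset.card_eq_zero]
        ext K
        simp [Finset.bipartiteBelow, ho]
    rw [Finset.sum_congr rfl hl, Finset.sum_congr rfl hr, ← Finset.sum_filter, Finset.sum_const, Finset.sum_const, Finset.card_powersetCard, smul_eq_mul, smul_eq_mul] at h1
    -- `C(m, k) k = C(m, k - 1) (m - k + 1)`
    have h2 := Nat.choose_succ_right_eq M.card (k - 1)
    rw [show k - 1 + 1 = k by omega] at h2
    have hpos : 0 < M.card - (k - 1) := by omega
    refine Nat.eq_of_mul_eq_mul_right hpos ?_
    calc k * cnt M * (M.card - (k - 1)) = k * (cnt M * (M.card - (k - 1))) := by ring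
      _ = k * (M.card.choose k * cnt K0) := by rw [h1]
      _ = cnt K0 * (M.card.choose k * k) := by ring
      _ = cnt K0 * M.card.choose (k - 1) * (M.card - (k - 1)) := by rw [h2]; ring
  have hdvd : k ∣ cnt K0 := by
    rw [← Nat.factorization_prime_le_iff_dvd hk0.ne'] <;> try assumption
    · intro p hp
      by_cases hpk : p ∣ k
      swap
      · simp [Nat.factorization_eq_zero_of_not_dvd hpk]
      set e := k.factorization p
      have hqk : p ^ e ∣ k := Nat.ordProj_dvd k p
      obtain ⟨t, ht⟩ := hqk
      have he : 0 < e := hp.factorization_pos_of_dvd hk0.ne' hpk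
      have hkq := hq (p ^ e) (hp.isPrimePow.pow he.ne') ⟨t, ht⟩
      obtain ⟨M, -, hM⟩ := Finset.exists_subset_card_eq (s := (Finset.univ : Finset α)) (n := k + p ^ e - 1) (by rw [Finset.card_univ]; exact hkq)
      have hppos : 0 < p ^ e := pow_pos hp.pos _
      have h1 := dc M (by rw [hM]; omega)
      have h2 : (k + p ^ e - 1).choose (k - 1) = (p ^ e * (t + 1) - 1).choose (p ^ e) := by
        rw [← Nat.choose_symm (by omega), show k + p ^ e - 1 - (k - 1) = p ^ e by omega]
        congr 1
        rw [mul_add, mul_one, ← ht]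
      have htp : ¬ p ∣ t := fun h => by
        have : p ^ (e + 1) ∣ k := by rw [ht, pow_succ]; exact Nat.mul_dvd_mul_left _ h
        exact Nat.pow_succ_factorization_not_dvd hk0.ne' hp this
      have hco : Nat.Coprime (p ^ e) ((k + p ^ e - 1).choose (k - 1)) := by
        refine Nat.Coprime.pow_left _ ((Nat.Prime.coprime_iff_not_dvd hp).2 fun h => htp ?_)
        rw [h2] at h
        exact Nat.modEq_zero_iff_dvd.1 ((lucas p hp e t).symm.trans (Nat.modEq_zero_iff_dvd.2 h))
      have h3 : p ^ e ∣ cnt K0 := hco.dvd_of_dvd_mul_right ⟨t * cnt M, by rw [← mul_assoc, ← ht, h1, hM]⟩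
      exact (hp.pow_dvd_iff_le_factorization (fun h0 => by
        have := dc Finset.univ (by rw [Finset.card_univ]; exact hkn)
        rw [h0, zero_mul, mul_eq_zero] at this
        have h4 : A.1 ∈ (Finset.univ.powersetCard (k - 1)).filter inO := by
          simp only [Finset.mem_filter, Finset.mem_powersetCard]
          exact ⟨⟨Finset.subset_univ _, A.2⟩, A.2, MulAction.mem_orbit_self A⟩
        rcases this with h | h
        · omega
        · exact (Finset.card_pos.2 ⟨_, h4⟩).ne' h)).1 h3
    · intro h0
      have := dc Finset.univ (by rw [Finset.card_univ]; exact hkn)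
      rw [h0, zero_mul, mul_eq_zero] at this
      have h4 : A.1 ∈ (Finset.univ.powersetCard (k - 1)).filter inO := by
        simp only [Finset.mem_filter, Finset.mem_powersetCard]
        exact ⟨⟨Finset.subset_univ _, A.2⟩, A.2, MulAction.mem_orbit_self A⟩
      rcases this with h | h
      · omega
      · exact (Finset.card_pos.2 ⟨_, h4⟩).ne' h
  obtain ⟨c, hc⟩ := hdvd
  have hle : cnt K0 ≤ k := (Finset.card_filter_le _ _).trans (by
    rw [Finset.card_powersetCard, hK0, ← Nat.choose_symm (by omega), show k - (k - 1) = 1 by omega, Nat.choose_one_right])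
  have hall := dc Finset.univ (by rw [Finset.card_univ]; exact hkn)
  have hc1 : c ≤ 1 := by
    by_contra h
    have : k * 2 ≤ k * c := Nat.mul_le_mul_left _ (by omega)
    omega
  have hfull : cnt (Finset.univ : Finset α) = ((Finset.univ : Finset α).powersetCard (k - 1)).card := by
    rw [Finset.card_powersetCard]
    refine Nat.eq_of_mul_eq_mul_left hk0 (hall.trans ?_)
    rcases Nat.le_one_iff_eq_zero_or_eq_one.1 hc1 with rfl | rfl
    · exfalso
      rw [hc, mul_zero, zero_mul, mul_eq_zero] at hall
      rcases hall with h | h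
      · omega
      · refine (Finset.card_pos.2 ⟨A.1, ?_⟩).ne' h
        simp only [Finset.mem_filter, Finset.mem_powersetCard]
        exact ⟨⟨Finset.subset_univ _, A.2⟩, A.2, MulAction.mem_orbit_self A⟩
    · rw [hc, mul_one]
  have := (Finset.filter_eq_self.1 (Finset.eq_of_subset_of_card_le (Finset.filter_subset _ _) hfull.ge)) (x := B.1)
    (Finset.mem_powersetCard.2 ⟨Finset.subset_univ _, B.2⟩)
  exact this

end Cfsg.Agent.S0736
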