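import Cfsg.Statements.S0068
import Cfsg.Agent.Frobenius.Complement

set_option autoImplicit false
open Cfsg

namespace Cfsg.Agent.S0068

/-- Frobenius complements of even order: if H complements a nontrivial normal subgroup K, each nonidentity element of H has trivial centraliser in K, and H has even order, then H contains a unique involution s, K is abelian, and s inverts every element of K. -/
theorem result {G : Type*} [Group G] [Finite G] (K H : Subgroup G) [K.Normal]
    (hc : Subgroup.IsComplement' K H) (hK : K ≠ ⊥) (hfpf : ∀ h ∈ H, h ≠ 1 → K ⊓ Subgroup.centralizer {h} = ⊥)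
    (heven : 2 ∣ Nat.card H) :
    (∃ s ∈ H, orderOf s = 2 ∧ (∀ t ∈ H, orderOf t = 2 → t = s) ∧ ∀ k ∈ K, s * k * s⁻¹ = k⁻¹) ∧ IsMulCommutative K := by
  obtain ⟨⟨s, hsH⟩, hs⟩ := @exists_prime_orderOf_dvd_card' H _ _ 2 ⟨Nat.prime_two⟩ heven
  rw [← Subgroup.orderOf_coe] at hs
  replace hs : orderOf s = 2 := hs
  have hs1 : s ≠ 1 := fun h => by simp [h] at hs
  have hs2 : s * s = 1 := by rw [← pow_two, ← hs, pow_orderOf_eq_one]
  have hH : H ≠ ⊥ := fun h => hs1 (Subgroup.mem_bot.mp (h ▸ hsH))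
  have hF := (Cfsg.Lib.Frobenius.isFrobeniusComplement_iff_fpf hc hK hH).mpr hfpf
  have hker := Cfsg.Lib.Frobenius.normal_eq_kernel hF hc
  obtain ⟨hinv, -, huniq⟩ := Cfsg.Lib.Frobenius.involution_inverts hF (a := 1)
    (by rwa [Cfsg.Lib.Coprime.conjMap_one]) hs1 hs2
  have hinv' : ∀ k ∈ K, s * k * s⁻¹ = k⁻¹ := fun k hk => hinv k (by rw [← hker]; exact hk)
  refine ⟨⟨s, hsH, hs, fun t ht ht2 => huniq t (by rwa [Cfsg.Lib.Coprime.conjMap_one])
    (fun h => by simp [h] at ht2) (by rw [← pow_two, ← ht2, pow_orderOf_eq_one]), hinv'⟩, ?_⟩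
  refine ⟨⟨fun a b => Subtype.ext ?_⟩⟩
  show (a : G) * b = b * a
  have h := hinv' ((a : G) * b) (mul_mem a.2 b.2)
  rw [show s * ((a : G) * b) * s⁻¹ = s * a * s⁻¹ * (s * b * s⁻¹) by group, hinv' a a.2, hinv' b b.2,
    mul_inv_rev] at h
  have := congrArg Inv.inv h
  simpa using this.symm

end Cfsg.Agent.S0068
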