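import Cfsg.Statements.S4248
import Cfsg.Agent.Partitions.Embedded
import Cfsg.Agent.RankOne.SharpThree

set_option autoImplicit false
open Cfsg

namespace Cfsg.Agent.S4248

/-- Let G be a finite group admitting a nontrivial partition: a family of at least two nontrivial subgroups such that every non-identity element of G lies in exactly one member. Then G is isomorphic to the symmetric group of degree 4; or, for some prime p, the Hughes subgroup generated by the elements g with g^p ≠ 1 is proper (G a p-group or a group of Hughes–Thompson type); or G is a Frobenius group; or G is isomorphic to PSL(2, q) with q ≥ 4, to PGL(2, q) with q ≥ 5 odd, or to a Suzuki group. -/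
theorem result {G : Type*} [Group G] [Finite G] (S : Set (Subgroup G)) (hS2 : ∃ H ∈ S, ∃ K ∈ S, H ≠ K)
    (hS1 : ∀ H ∈ S, H ≠ ⊥) (hpart : ∀ g : G, g ≠ 1 → ∃! H : Subgroup G, H ∈ S ∧ g ∈ H) :
    Nonempty (G ≃* Equiv.Perm (Fin 4)) ∨
    (∃ p : ℕ, p.Prime ∧ Subgroup.closure {g : G | g ^ p ≠ 1} ≠ ⊤) ∨
    (∃ H : Subgroup G, Cfsg.IsFrobeniusComplement H) ∨
    (∃ (F : Type) (_ : Field F) (_ : Fintype F), 4 ≤ Fintype.card F ∧
        Nonempty (G ≃* Matrix.ProjectiveSpecialLinearGroup (Fin 2) F)) ∨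
    (∃ (F : Type) (_ : Field F) (_ : Fintype F), 5 ≤ Fintype.card F ∧ Odd (Fintype.card F) ∧
        Nonempty (G ≃* (GL (Fin 2) F ⧸ Subgroup.center (GL (Fin 2) F)))) ∨
    Cfsg.Lie.IsoSuzuki G := by
  classical
  obtain ⟨P⟩ := Cfsg.Lib.Partitions.exists_part S hS2 hS1 hpart
  by_cases hself : ∃ a : G, a ≠ 1 ∧ Subgroup.normalizer (P.comp a : Set G) = P.comp a
  · obtain ⟨a, ha, h⟩ := hself
    exact Or.inr (Or.inr (Or.inl ⟨_, P.complement_of_self ha h⟩))
  simp only [not_exists, not_and] at hself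
  have hnil : ∀ a : G, a ≠ 1 → Group.IsNilpotent (P.comp a) := fun a ha => P.nilpotent_comp ha (hself a ha)
  by_cases hR : ∃ R : Subgroup G, R.Normal ∧ Group.IsSolvable R ∧ R ≠ ⊥
  · rcases Cfsg.Lib.Partitions.radical P hnil hR with h | h | h
    · exact Or.inl h
    · exact Or.inr (Or.inl h)
    · exact Or.inr (Or.inr (Or.inl h))
  have hss : Cfsg.Lib.Partitions.NoRadical G := fun N hN hs => by
    by_contra hne
    exact hR ⟨N, hN, hs, hne⟩
  by_cases hA : ∀ x : G, Even (orderOf x) → 2 < orderOf x → ∀ a ∈ P.comp x, ∀ b ∈ P.comp x,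
      orderOf a = 2 → orderOf b = 2 → a = b
  · haveI : Nontrivial G := by
      obtain ⟨H, hH, -⟩ := hS2
      obtain ⟨g, -, hg⟩ := (Subgroup.bot_or_exists_ne_one H).resolve_left (hS1 H hH)
      exact ⟨⟨g, 1, hg⟩⟩
    obtain ⟨F, iF, iFF, hF, h | ⟨⟨e⟩⟩⟩ :=
      Cfsg.Lib.CyclicNorm.psl_or_pgl_of_hyp hss (Cfsg.Lib.Partitions.cycNorm P hss hA)
    · exact Or.inr (Or.inr (Or.inr (Or.inl ⟨F, iF, iFF, hF, h⟩)))
    by_cases h2 : ringChar F = 2
    · obtain ⟨e'⟩ := Cfsg.Lib.RankOne.pgl_mulEquiv_sl (F := F) h2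
      haveI : CharP F 2 := h2 ▸ ringChar.charP F
      have hc : Subgroup.center (Matrix.SpecialLinearGroup (Fin 2) F) = ⊥ := by
        rw [Subgroup.eq_bot_iff_forall]
        intro M hM
        obtain ⟨r, hr, hM'⟩ := Matrix.SpecialLinearGroup.mem_center_iff.1 hM
        rw [Fintype.card_fin] at hr
        have hr1 : r = 1 := by
          have h4 : (r - 1) * (r - 1) = 0 := by
            have h5 : (2 : F) = 0 := CharTwo.two_eq_zero
            linear_combination hr - (r - 1) * h5
          exact sub_eq_zero.1 (mul_self_eq_zero.1 h4)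
        ext i k
        rw [← hM', hr1]
        simp [Matrix.scalar_apply]
      exact Or.inr (Or.inr (Or.inr (Or.inl ⟨F, iF, iFF, hF,
        ⟨e.trans (e'.trans (QuotientGroup.quotientBot.symm.trans (QuotientGroup.quotientMulEquivOfEq hc.symm)))⟩⟩)))
    · have hodd : Odd (Fintype.card F) := by
        rw [Nat.odd_iff]
        exact FiniteField.odd_card_of_char_ne_two h2
      have h5 : 5 ≤ Fintype.card F := by
        obtain ⟨k, hk⟩ := hodd
        omega
      exact Or.inr (Or.inr (Or.inr (Or.inr (Or.inl ⟨F, iF, iFF, h5, hodd, ⟨e⟩⟩))))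
  · simp only [not_forall] at hA
    obtain ⟨x, -, hx2, a, ha, b, hb, ha2, hb2, hab⟩ := hA
    have hx1 : x ≠ 1 := fun e => by rw [e, orderOf_one] at hx2; omega
    have B : Cfsg.Lib.Partitions.Big P x a b :=
      ⟨hss, hnil x hx1, hx2, ha, hb, ha2, hb2, hab, hself x hx1⟩
    rcases B.classify with h | h
    · exact Or.inr (Or.inr (Or.inr (Or.inl h)))
    · exact Or.inr (Or.inr (Or.inr (Or.inr (Or.inr h))))

end Cfsg.Agent.S4248
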