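import Cfsg.Statements.S4249
import Cfsg.Agent.SolvStruct.Hughes

set_option autoImplicit false
open Cfsg

namespace Cfsg.Agent.S4249

/-- Let G be a finite group and p a prime such that G is not a p-group, and suppose the Hughes subgroup H_p(G), generated by all elements g with g^p ≠ 1, is a proper subgroup. Then H_p(G) is nilpotent and has index p in G. -/
theorem result {G : Type*} [Group G] [Finite G] (p : ℕ) (hp : p.Prime) (hG : ¬ IsPGroup p G)
    (hH : Subgroup.closure {g : G | g ^ p ≠ 1} ≠ ⊤) :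
    Group.IsNilpotent (Subgroup.closure {g : G | g ^ p ≠ 1}) ∧ (Subgroup.closure {g : G | g ^ p ≠ 1}).index = p := by
  haveI := Fact.mk hp
  haveI hn : (Subgroup.closure {g : G | g ^ p ≠ 1}).Normal := Subgroup.normalizer_eq_top_iff.1 (eq_top_iff.2 fun g _ => by
    refine Subgroup.normalizer_le_normalizer_closure _ ?_
    rw [Subgroup.mem_set_normalizer_iff]
    intro h
    show h ^ p ≠ 1 ↔ (g * h * g⁻¹) ^ p ≠ 1
    rw [conj_pow, ne_eq, ne_eq, conj_eq_one_iff])
  have hex : ∀ g : G, g ∉ Subgroup.closure {g : G | g ^ p ≠ 1} → g ^ p = 1 := fun g hg => by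
    by_contra h
    exact hg (Subgroup.subset_closure h)
  exact ⟨Cfsg.Lib.SolvStruct.isNilpotent_hughes hn hH hex, Cfsg.Lib.SolvStruct.index_hughes hH hex hG⟩

end Cfsg.Agent.S4249
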