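import Cfsg.Statements.S3861
import Cfsg.Agent.Quadratic.BaerSuzuki
import Cfsg.Agent.Coprime.SchurZassenhaus
import Cfsg.Agent.SolvStruct.Zipper

set_option autoImplicit false
open Cfsg

namespace Cfsg.Agent.S3861

open Subgroup

theorem odd_orderOf {G : Type*} [Group G] [Finite G] (h : ¬ 2 ∣ Nat.card G) (g : G) : Odd (orderOf g) :=
  Nat.not_even_iff_odd.1 fun he => h ((even_iff_two_dvd.1 he).trans (orderOf_dvd_natCard g))

theorem exists_real_of_even {Q : Type*} [Group Q] [Finite Q] (h2 : 2 ∣ Nat.card Q)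
    (hN : ∀ N : Subgroup Q, N.Normal → IsPGroup 2 N → N = ⊥) :
    ∃ x : Q, x ≠ 1 ∧ Odd (orderOf x) ∧ ∃ t : Q, t * x * t⁻¹ = x⁻¹ := by
  haveI := Fact.mk Nat.prime_two
  obtain ⟨t, ht⟩ := exists_prime_orderOf_dvd_card' 2 h2
  have htt : t * t = 1 := by rw [← sq, ← ht]; exact pow_orderOf_eq_one t
  have htp : IsPGroup 2 (zpowers t) := IsPGroup.of_card (n := 1) (by rw [Nat.card_zpowers, ht, pow_one])
  obtain ⟨g, hg⟩ : ∃ g : Q, ¬ IsPGroup 2 ↥(zpowers t ⊔ (zpowers t).map (MulAut.conj g).toMonoidHom) := by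
    by_contra hno
    push Not at hno
    obtain ⟨N, hNn, hNp, hle⟩ := Cfsg.Lib.BaerSuzuki.baer_suzuki (zpowers t) hno
    have h1 : t = 1 := by
      have := hle (mem_zpowers t)
      rwa [hN N hNn hNp, mem_bot] at this
    rw [h1, orderOf_one] at ht
    omega
  set s := g * t * g⁻¹ with hs
  have hss : s * s = 1 := by
    rw [hs, show g * t * g⁻¹ * (g * t * g⁻¹) = g * (t * t) * g⁻¹ by group, htt]; group
  set u := t * s with hu
  have htu : t * u * t⁻¹ = u⁻¹ := by
    rw [hu, show t⁻¹ = t from inv_eq_of_mul_eq_one_left htt, ← mul_assoc, htt, one_mul, mul_inv_rev,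
      inv_eq_of_mul_eq_one_left hss, inv_eq_of_mul_eq_one_left htt]
  obtain ⟨k, m, hm, hkm⟩ := Nat.exists_eq_pow_mul_and_not_dvd (orderOf_pos u).ne' 2 (by norm_num)
  have hm1 : m ≠ 1 := fun e => hg (by
    have hup : IsPGroup 2 (zpowers u) := IsPGroup.of_card (n := k) (by rw [Nat.card_zpowers, hkm, e, mul_one])
    refine (hup.to_sup_of_normal_left' htp ?_).to_le ?_
    · rw [zpowers_le]
      refine Cfsg.Lib.SolvStruct.mem_normalizer_of_conj_smul_le ?_
      rintro _ ⟨a, ⟨i, rfl⟩, rfl⟩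
      refine ⟨-i, ?_⟩
      show u ^ (-i) = t * u ^ i * t⁻¹
      rw [← conj_zpow, htu, inv_zpow']
    · refine sup_le le_sup_right ?_
      rw [MonoidHom.map_zpowers, zpowers_le]
      have : s = t * u := by rw [hu, ← mul_assoc, htt, one_mul]
      show g * t * g⁻¹ ∈ _
      rw [← hs, this]
      exact mul_mem (mem_sup_right (mem_zpowers t)) (mem_sup_left (mem_zpowers u)))
  refine ⟨u ^ (2 ^ k), ?_, ?_, t, ?_⟩
  · intro e
    have := Nat.le_of_dvd (pow_pos (by norm_num) k) (orderOf_dvd_of_pow_eq_one e)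
    rw [hkm] at this
    have hm0 : m ≠ 0 := fun e0 => hm (e0 ▸ dvd_zero 2)
    nlinarith [Nat.one_le_iff_ne_zero.2 (pow_ne_zero k (two_ne_zero : (2:ℕ) ≠ 0)), show 2 ≤ m by omega]
  · rw [orderOf_pow_of_dvd (pow_ne_zero _ two_ne_zero) (hkm ▸ Dvd.intro m rfl), hkm,
      Nat.mul_div_cancel_left _ (pow_pos (by norm_num) k)]
    exact Nat.not_even_iff_odd.1 fun he => hm (even_iff_two_dvd.1 he)
  · rw [← conj_pow, htu, inv_pow]


/-- A finite group G has no non-identity element of odd order that is conjugate to its inverse if and only if the Sylow 2-subgroups of G are normal. -/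
theorem result {G : Type*} [Group G] [Finite G] (P : Sylow 2 G) : (∀ x : G, x ≠ 1 → Odd (orderOf x) → ¬ IsConj x x⁻¹) ↔ (P : Subgroup G).Normal := by
  haveI := Fact.mk Nat.prime_two
  constructor
  · intro h
    obtain ⟨N, -, hNmax⟩ := Finite.exists_le_maximal (p := fun N : Subgroup G => N.Normal ∧ IsPGroup 2 N)
      (a := ⊥) ⟨inferInstance, IsPGroup.of_bot⟩
    obtain ⟨hNn, hNp⟩ := hNmax.prop
    haveI := hNn
    have hodd : ¬ 2 ∣ Nat.card (G ⧸ N) := by
      intro h2
      obtain ⟨x, hx1, hxodd, t, hxt⟩ := exists_real_of_even h2 (fun M hM hMp => by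
        haveI := hM
        have h1 : IsPGroup 2 ↥(M.comap (QuotientGroup.mk' N)) :=
          hMp.comap_of_ker_isPGroup _ (by rw [QuotientGroup.ker_mk']; exact hNp)
        have h2' : N ≤ M.comap (QuotientGroup.mk' N) := fun n hn => by
          show QuotientGroup.mk' N n ∈ M
          rw [show QuotientGroup.mk' N n = 1 from (QuotientGroup.eq_one_iff n).2 hn]; exact one_mem M
        have h3 := hNmax.le_of_ge ⟨hM.comap _, h1⟩ h2'
        rw [eq_bot_iff]
        intro m hm
        obtain ⟨m, rfl⟩ := QuotientGroup.mk'_surjective N m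
        exact Subgroup.mem_bot.2 ((QuotientGroup.eq_one_iff m).2 (h3 hm)))
      -- lift `x` to an element of odd order
      obtain ⟨y, rfl⟩ := QuotientGroup.mk'_surjective N x
      obtain ⟨τ, rfl⟩ := QuotientGroup.mk'_surjective N t
      obtain ⟨a, m, hm, ham⟩ := Nat.exists_eq_pow_mul_and_not_dvd (orderOf_pos y).ne' 2 (by norm_num)
      set φ := QuotientGroup.mk' N
      have hcop : (orderOf (φ y)).Coprime (2 ^ a) :=
        Nat.Coprime.pow_right a (Nat.coprime_two_right.2 hxodd)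
      obtain ⟨i, hi⟩ := exists_pow_eq_self_of_coprime hcop.symm
      set z := (y ^ (2 ^ a)) ^ i with hz
      have hzx : φ z = φ y := by rw [hz, map_pow, map_pow, hi]
      have hzodd : ¬ 2 ∣ orderOf z := by
        intro hd
        refine hm (hd.trans ((orderOf_pow_dvd i).trans ?_))
        rw [orderOf_pow_of_dvd (pow_ne_zero _ two_ne_zero) (ham ▸ Dvd.intro m rfl), ham,
          Nat.mul_div_cancel_left _ (pow_pos (by norm_num) a)]
      set H := Subgroup.zpowers z
      have hcN : (Nat.card N).Coprime (Nat.card H) := by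
        obtain ⟨k, hk⟩ := hNp.exists_card_eq
        rw [hk, Nat.card_zpowers]
        exact Nat.Coprime.pow_left k ((Nat.prime_two.coprime_iff_not_dvd).2 hzodd)
      haveI : Group.IsNilpotent N := hNp.isNilpotent
      have hrel : τ * z * τ⁻¹ * z ∈ N := by
        refine (QuotientGroup.eq_one_iff _).1 ?_
        show φ (τ * z * τ⁻¹ * z) = 1
        simp only [map_mul, map_inv, hzx, hxt, inv_mul_cancel]
      obtain ⟨n, hn, hK⟩ := Cfsg.Lib.Coprime.exists_conj_eq_of_solvable_left (N := N) (H := H)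
        (K := H.map (MulAut.conj τ).toMonoidHom) (by rw [Subgroup.normalizer_eq_top_iff.2 hNn]; exact le_top)
        hcN inferInstance (by
          rw [MonoidHom.map_zpowers, Subgroup.zpowers_le]
          show τ * z * τ⁻¹ ∈ N ⊔ H
          rw [show τ * z * τ⁻¹ = (τ * z * τ⁻¹ * z) * z⁻¹ by group]
          exact mul_mem (Subgroup.mem_sup_left hrel) (Subgroup.mem_sup_right (inv_mem (Subgroup.mem_zpowers z))))
        (Subgroup.card_map_of_injective (MulEquiv.injective _))
      have h1 : τ * z * τ⁻¹ ∈ Cfsg.Lib.Coprime.conjMap n H := hK ▸ ⟨z, Subgroup.mem_zpowers z, rfl⟩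
      obtain ⟨w, hw, hwe⟩ := h1
      have hwe' : n * w * n⁻¹ = τ * z * τ⁻¹ := hwe
      have hwN : w * z ∈ N := by
        refine (QuotientGroup.eq_one_iff _).1 ?_
        show φ (w * z) = 1
        have := congrArg φ hwe'
        simp only [map_mul, map_inv, show φ n = 1 from (QuotientGroup.eq_one_iff n).2 hn, one_mul, inv_one,
          mul_one] at this
        rw [map_mul, this]
        simp only [hzx, hxt, inv_mul_cancel]
      have hw1 : w * z = 1 := Subgroup.mem_bot.1
        ((Subgroup.inf_eq_bot_of_coprime hcN).le ⟨hwN, mul_mem hw (Subgroup.mem_zpowers z)⟩)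
      refine h z (fun e => hx1 (by rw [← hzx, e, map_one])) (Nat.not_even_iff_odd.1 fun he => hzodd (even_iff_two_dvd.1 he)) ?_
      refine isConj_iff.2 ⟨n⁻¹ * τ, ?_⟩
      rw [← eq_inv_of_mul_eq_one_left hw1]
      calc n⁻¹ * τ * z * (n⁻¹ * τ)⁻¹ = n⁻¹ * (τ * z * τ⁻¹) * n := by group
        _ = w := by rw [← hwe']; group
    have hPN : (P : Subgroup G) ≤ N := by
      intro g hg
      refine (QuotientGroup.eq_one_iff g).1 ?_
      obtain ⟨k, hk⟩ := P.2 ⟨g, hg⟩
      have hk' : g ^ 2 ^ k = 1 := by simpa using congrArg Subtype.val hk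
      have h1 : orderOf (g : G ⧸ N) ∣ 2 ^ k := orderOf_dvd_of_pow_eq_one (by
        rw [← QuotientGroup.mk_pow, hk', QuotientGroup.mk_one])
      have h2 : (orderOf (g : G ⧸ N)).Coprime (2 ^ k) :=
        Nat.Coprime.pow_right k (Nat.coprime_two_right.2 (odd_orderOf hodd _))
      exact orderOf_eq_one_iff.1 (Nat.eq_one_of_dvd_coprimes h2 dvd_rfl h1)
    rwa [← P.3 hNp hPN]
  · intro hP x hx hodd hconj
    haveI := hP
    obtain ⟨g, hg⟩ := isConj_iff.1 hconj
    have hoddQ : ¬ 2 ∣ Nat.card (G ⧸ (P : Subgroup G)) := by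
      rw [← Subgroup.index_eq_card]; exact P.not_dvd_index
    set φ := QuotientGroup.mk' (P : Subgroup G)
    have h1 : φ g * φ x * (φ g)⁻¹ = (φ x)⁻¹ := by rw [← map_inv, ← map_mul, ← map_mul, hg, map_inv]
    have h2 : Commute (φ g ^ 2) (φ x) := by
      have : φ g ^ 2 * φ x * (φ g ^ 2)⁻¹ = φ x := by
        rw [sq, show φ g * φ g * φ x * (φ g * φ g)⁻¹ = φ g * (φ g * φ x * (φ g)⁻¹) * (φ g)⁻¹ by group, h1,
          show φ g * (φ x)⁻¹ * (φ g)⁻¹ = (φ g * φ x * (φ g)⁻¹)⁻¹ by group, h1, inv_inv]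
      exact mul_inv_eq_iff_eq_mul.1 this
    obtain ⟨j, hj⟩ := exists_pow_eq_self_of_coprime
      (Nat.coprime_two_left.2 (odd_orderOf hoddQ (φ g)))
    have h3 : Commute (φ g) (φ x) := hj ▸ h2.pow_left j
    rw [h3.eq, mul_inv_cancel_right] at h1
    have h4 : φ x ^ 2 = 1 := by rw [sq]; nth_rewrite 1 [h1]; rw [inv_mul_cancel]
    have h5 : φ x = 1 := orderOf_eq_one_iff.1 (Nat.eq_one_of_dvd_coprimes
      (Nat.coprime_two_right.2 (odd_orderOf hoddQ (φ x))) dvd_rfl (orderOf_dvd_of_pow_eq_one h4))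
    have hxP : x ∈ (P : Subgroup G) := (QuotientGroup.eq_one_iff x).1 h5
    obtain ⟨k, hk⟩ := P.2 ⟨x, hxP⟩
    exact hx (orderOf_eq_one_iff.1 (Nat.eq_one_of_dvd_coprimes
      (Nat.Coprime.pow_right k (Nat.coprime_two_right.2 hodd)) dvd_rfl
      (orderOf_dvd_of_pow_eq_one (by simpa using congrArg Subtype.val hk))))

end Cfsg.Agent.S3861
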