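import Cfsg.Statements.S4034
import Mathlib
import Cfsg.Agent.Coprime.Hall
import Cfsg.Agent.Coprime.Fitting
import Cfsg.Agent.SolvStruct.PrimePowerIndex
import Cfsg.Agent.SolvStruct.NilpotentHall
import Cfsg.Agent.Chars.Count
import Cfsg.Agent.Components.Local

set_option autoImplicit false
open Cfsg

namespace Cfsg.Agent.S4034

set_option linter.style.haveILetI false
set_option linter.unusedSectionVars false

open Subgroup Cfsg.Lib.Coprime

universe u

variable {p : ℕ}

/-- the classes of `p`-regular elements have `p`-power size -/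
def Reg (p : ℕ) (G : Type*) [Group G] : Prop :=
  ∀ x : G, (orderOf x).Coprime p → ∃ k : ℕ, (centralizer ({x} : Set G)).index ∣ p ^ k

theorem carrier_ncard {G : Type*} [Group G] [Finite G] (b : G) :
    (ConjClasses.mk b).carrier.ncard = (centralizer ({b} : Set G)).index := by
  rw [← Cfsg.Lib.Chars.card_isConj, ← Nat.card_coe_set_eq]
  exact Nat.card_congr (Equiv.subtypeEquivRight fun y =>
    ConjClasses.mem_carrier_iff_mk_eq.trans (ConjClasses.mk_eq_mk_iff_isConj.trans ⟨IsConj.symm, IsConj.symm⟩))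

theorem reg_quotient {G : Type*} [Group G] [Finite G] [hp : Fact p.Prime] (h : Reg p G) (N : Subgroup G)
    [N.Normal] : Reg p (G ⧸ N) := by
  intro y hy
  obtain ⟨x, rfl⟩ := QuotientGroup.mk'_surjective N y
  obtain ⟨a, m, hm, ham⟩ := Nat.exists_eq_pow_mul_and_not_dvd (orderOf_pos x).ne' p hp.out.ne_one
  obtain ⟨t, ht⟩ := exists_pow_eq_self_of_coprime (x := QuotientGroup.mk' N x) (n := p ^ a)
    (hy.symm.pow_left a)
  obtain ⟨k, hk⟩ := h ((x ^ p ^ a) ^ t) (by
    refine Nat.Coprime.coprime_dvd_left (orderOf_dvd_of_pow_eq_one (n := m) ?_)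
      ((hp.out.coprime_iff_not_dvd.mpr hm).symm)
    rw [← pow_mul, ← pow_mul, mul_comm t m, ← mul_assoc, ← ham, pow_mul, pow_orderOf_eq_one, one_pow])
  refine ⟨k, ((index_dvd_of_le ?_).trans (index_map_dvd _ (QuotientGroup.mk'_surjective N))).trans hk⟩
  rintro _ ⟨c, hc, rfl⟩
  rw [mem_centralizer_singleton_iff]
  nth_rewrite 1 [← ht]
  nth_rewrite 2 [← ht]
  rw [← map_pow, ← map_pow, ← map_mul, ← map_mul]
  exact congrArg _ (mem_centralizer_singleton_iff.mp hc)

theorem reg_normal {G : Type*} [Group G] [Finite G] (h : Reg p G) (N : Subgroup G)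
    [N.Normal] : Reg p N := by
  intro y hy
  obtain ⟨k, hk⟩ := h (y : G) (by rwa [Subgroup.orderOf_coe])
  refine ⟨k, (dvd_trans ?_ (Cfsg.Lib.Components.relIndex_dvd_index_of_normal_right _ N)).trans hk⟩
  refine index_dvd_of_le fun c hc => ?_
  rw [mem_subgroupOf, mem_centralizer_singleton_iff] at hc
  exact mem_centralizer_singleton_iff.mpr (Subtype.ext hc)

theorem solvable_aux (hp : p.Prime) : ∀ n : ℕ, ∀ (G : Type u) [Group G] [Finite G],
    Nat.card G = n → Reg p G → Group.IsSolvable G := by
  haveI := Fact.mk hp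
  intro n
  induction n using Nat.strong_induction_on with
  | _ n ih =>
    intro G _ _ hn h
    by_cases hex : ∃ N : Subgroup G, N.Normal ∧ N ≠ ⊥ ∧ N ≠ ⊤
    · obtain ⟨N, hN, hNb, hNt⟩ := hex
      haveI := hN
      haveI : Group.IsSolvable N := ih (Nat.card N)
        (hn ▸ lt_of_le_of_ne (card_le_card_group N) fun e => hNt (eq_top_of_card_eq N e)) N rfl (reg_normal h N)
      haveI : Group.IsSolvable (G ⧸ N) := ih (Nat.card (G ⧸ N)) (hn ▸ card_quotient_lt hNb) _ rfl
        (reg_quotient h N)
      exact Group.isSolvable_of_ker_le_range N.subtype (QuotientGroup.mk' N) (by simp)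
    push Not at hex
    rcases subsingleton_or_nontrivial G with hs | hnt
    · exact Group.isSolvable_of_comm fun a b => Subsingleton.elim _ _
    haveI : IsSimpleGroup G := ⟨fun N hN => or_iff_not_imp_left.mpr (hex N hN)⟩
    by_cases hpg : IsPGroup p G
    · haveI := hpg.isNilpotent
      infer_instance
    obtain ⟨q, hq, hqd, hqp⟩ : ∃ q : ℕ, q.Prime ∧ q ∣ Nat.card G ∧ q ≠ p := by
      by_contra hno
      push Not at hno
      exact hpg (IsPGroup.of_card (n := (Nat.card G).primeFactorsList.length)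
        (Nat.eq_prime_pow_of_unique_prime_dvd Nat.card_pos.ne' fun {d} hd hdd => hno d hd hdd))
    haveI := Fact.mk hq
    obtain ⟨x, hx⟩ := exists_prime_orderOf_dvd_card' (G := G) q hqd
    obtain ⟨k, hk⟩ := h x (hx ▸ (Nat.coprime_primes hq hp).mpr hqp)
    exact Cfsg.Lib.SolvStruct.isSolvable_of_class_prime_pow hp
      (fun h1 => hq.ne_one (by rw [← hx, h1, orderOf_one])) le_rfl hk

/-- in a solvable group with trivial `p`-core the Hall `p'`-subgroups are commutative -/
theorem comm_of_core {G : Type*} [Group G] [Finite G] [Group.IsSolvable G] [hp : Fact p.Prime]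
    (hcore : Cfsg.pCore p G = ⊥) (h : Reg p G) {H : Subgroup G} (hH : IsPiHall {q | q ≠ p} H) :
    ∀ a ∈ H, ∀ b ∈ H, a * b = b * a := by
  set F := Cfsg.fittingSubgroup G with hF
  haveI hFn : F.Normal := Cfsg.Lib.Components.normal_of_mem_sSup_normal fun _ hN => hN.1
  have hFpi : ∀ q : ℕ, q.Prime → q ∣ Nat.card F → q ∈ ({q | q ≠ p} : Set ℕ) := by
    rintro q hq hqd rfl
    haveI := Fact.mk hq
    obtain ⟨P⟩ : Nonempty (Sylow q F) := inferInstance
    haveI hFnil : Group.IsNilpotent F := Cfsg.Lib.Components.isNilpotent_fitting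
    have hT := (Group.isNilpotent_of_finite_tfae (G := F)).out 0 3
    haveI := hT.1 hFnil q inferInstance P
    haveI : (P : Subgroup F).Characteristic := P.characteristic_of_normal inferInstance
    have hle : (P : Subgroup F).map F.subtype ≤ Cfsg.pCore q G := le_sSup ⟨inferInstance, P.2.map _⟩
    rw [hcore, le_bot_iff, Subgroup.map_eq_bot_iff_of_injective _ F.subtype_injective] at hle
    exact P.ne_bot_of_dvd_card hqd hle
  have hCF := centralizer_fitting_le (G := G)
  have key : ∀ a ∈ H, a ∈ F ∧ ∃ g : G, conjMap g H ≤ centralizer ({a} : Set G) := by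
    intro a ha
    have hacop : (orderOf a).Coprime p := by
      refine ((hp.out.coprime_iff_not_dvd).mpr fun hd => ?_).symm
      exact hH.1 p hp.out (hd.trans (H.orderOf_dvd_natCard ha)) rfl
    obtain ⟨k, hk⟩ := h a hacop
    set C := centralizer ({a} : Set G) with hC
    obtain ⟨K, hK⟩ := exists_piHall (G := C) {q : ℕ | q ≠ p}
    have hKG : IsPiHall {q : ℕ | q ≠ p} (K.map C.subtype) := by
      refine ⟨fun q hq hqd => hK.1 q hq (by rwa [card_map_of_injective C.subtype_injective] at hqd),
        fun q hq hqp hqd => ?_⟩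
      rw [index_map_subtype] at hqd
      rcases hq.dvd_mul.mp hqd with hd | hd
      · exact hK.2 q hq hqp hd
      · exact hqp ((Nat.prime_dvd_prime_iff_eq hq hp.out).mp (hq.dvd_of_dvd_pow (hd.trans hk)))
    obtain ⟨g, hg⟩ := piHall_conj hH hKG
    obtain ⟨g', hg'⟩ := le_conj_piHall hKG (K := F) hFpi
    have hFK : F ≤ K.map C.subtype := by
      intro x hx
      have h1 := hg' (hFn.conj_mem x hx g')
      rw [mem_conjMap] at h1
      simpa [mul_assoc] using h1
    refine ⟨hCF (mem_centralizer_iff.mpr fun f hf => ?_), g, hg ▸ map_subtype_le _⟩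
    exact mem_centralizer_singleton_iff.mp (map_subtype_le _ (hFK hf))
  intro a ha b hb
  obtain ⟨-, g, hg⟩ := key a ha
  have hHF : H ≤ F := fun x hx => (key x hx).1
  obtain ⟨g', hg'⟩ := le_conj_piHall hH (K := F) hFpi
  have hFH : F ≤ H := by
    intro x hx
    have h1 := hg' (hFn.conj_mem x hx g')
    rw [mem_conjMap] at h1
    simpa [mul_assoc] using h1
  have hbC : b ∈ centralizer ({a} : Set G) := hg (mem_conjMap.mpr (hFH (hFn.conj_mem' b (hHF hb) g)))
  exact (mem_centralizer_singleton_iff.mp hbC).symm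


/-- Let G be a finite group and p a prime. Every conjugacy class of p-regular elements of G (elements of order prime to p) has p-power size if and only if G has an abelian p-complement, i.e. an abelian subgroup of order prime to p and p-power index. -/
theorem result {G : Type*} [Group G] [Finite G] {p : ℕ} (hp : p.Prime) :
    (∀ x : G, (orderOf x).Coprime p → ∃ k : ℕ, (ConjClasses.mk x).carrier.ncard = p ^ k) ↔
    (∃ H : Subgroup G, IsMulCommutative H ∧ ¬ p ∣ Nat.card H ∧ ∃ k : ℕ, H.index = p ^ k) := by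
  haveI := Fact.mk hp
  constructor
  · intro h
    have hR : Reg p G := fun x hx => by
      obtain ⟨k, hk⟩ := h x hx
      exact ⟨k, by rw [← carrier_ncard, hk]⟩
    haveI := solvable_aux hp _ G rfl hR
    obtain ⟨H, hH⟩ := exists_piHall (G := G) {q : ℕ | q ≠ p}
    have hHp : ¬ p ∣ Nat.card H := fun hd => hH.1 p hp hd rfl
    refine ⟨H, ?_, hHp, ?_⟩
    · set N := Cfsg.pCore p G with hN
      haveI : N.Normal := Cfsg.Lib.Components.pCore_normal' p
      set π := QuotientGroup.mk' N with hπ
      haveI : Group.IsSolvable (G ⧸ N) := Group.isSolvable_of_surjective (QuotientGroup.mk'_surjective N)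
      have hbar : Cfsg.pCore p (G ⧸ N) = ⊥ := by
        set T := Cfsg.pCore p (G ⧸ N) with hT
        haveI : T.Normal := Cfsg.Lib.Components.pCore_normal' p
        have hp1 : IsPGroup p (T.comap π) := by
          obtain ⟨i, hi⟩ := IsPGroup.iff_card.mp (Cfsg.Lib.Components.isPGroup_pCore (G := G ⧸ N) p)
          obtain ⟨j, hj⟩ := IsPGroup.iff_card.mp (Cfsg.Lib.Components.isPGroup_pCore (G := G) p)
          refine IsPGroup.of_card (n := j + i) ?_
          rw [hπ, card_comap_mk', hi, show Nat.card N = p ^ j from hj, pow_add]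
        have hle : T.comap π ≤ N := le_sSup ⟨Subgroup.Normal.comap inferInstance π, hp1⟩
        rw [← map_comap_eq_self_of_surjective (QuotientGroup.mk'_surjective N) T, ← hπ, Subgroup.map_eq_bot_iff,
          hπ, QuotientGroup.ker_mk']
        exact hle
      have hcomm := comm_of_core hbar (reg_quotient hR N)
        (isPiHall_map hH (QuotientGroup.mk'_surjective N))
      refine ⟨⟨fun a b => Subtype.ext ?_⟩⟩
      have h1 := hcomm _ (mem_map_of_mem π a.2) _ (mem_map_of_mem π b.2)
      rw [← map_mul, ← map_mul] at h1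
      have h2 : ((a : G) * b)⁻¹ * (b * a) ∈ N := QuotientGroup.eq.mp h1
      have h3 : ((a : G) * b)⁻¹ * (b * a) ∈ H := mul_mem (inv_mem (mul_mem a.2 b.2)) (mul_mem b.2 a.2)
      obtain ⟨j, hj⟩ := IsPGroup.iff_card.mp (Cfsg.Lib.Components.isPGroup_pCore (G := G) p)
      have h4 : orderOf (((a : G) * b)⁻¹ * (b * a)) = 1 := Nat.eq_one_of_dvd_coprimes
        ((hp.coprime_iff_not_dvd.mpr hHp).pow_left j) (hj ▸ N.orderOf_dvd_natCard h2)
        (H.orderOf_dvd_natCard h3)
      exact inv_mul_eq_one.mp (orderOf_eq_one_iff.mp h4)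
    · refine ⟨H.index.primeFactorsList.length, Nat.eq_prime_pow_of_unique_prime_dvd index_ne_zero_of_finite
        fun {d} hd hdd => ?_⟩
      by_contra hne
      exact hH.2 d hd hne hdd
  · rintro ⟨H, hab, hHp, k, hk⟩ x hx
    haveI := hab
    haveI : Group.IsNilpotent H := by
      letI : CommGroup H := { mul_comm := mul_comm' }
      infer_instance
    have hHall : (Nat.card H).Coprime H.index := by
      rw [hk]; exact ((hp.coprime_iff_not_dvd.mpr hHp).symm).pow_right k
    obtain ⟨g, hg⟩ := Cfsg.Lib.SolvStruct.exists_conj_ge inferInstance hHall (zpowers x) (fun q hq hqd => by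
      rw [Nat.card_zpowers] at hqd
      have h1 : q ∣ Nat.card H * H.index := by
        rw [H.card_mul_index]; exact hqd.trans (_root_.orderOf_dvd_natCard x)
      refine (hq.dvd_mul.mp h1).resolve_right fun h2 => ?_
      rw [hk] at h2
      have h3 := (Nat.prime_dvd_prime_iff_eq hq hp).mp (hq.dvd_of_dvd_pow h2)
      exact hp.coprime_iff_not_dvd.mp hx.symm (h3 ▸ hqd))
    rw [conj_smul_eq] at hg
    have hle : conjMap g H ≤ centralizer ({x} : Set G) := by
      intro c hc
      rw [mem_centralizer_singleton_iff]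
      have hcx := mem_conjMap.mp hc
      have hxx := mem_conjMap.mp (hg (mem_zpowers x))
      have h2 : g⁻¹ * c * g * (g⁻¹ * x * g) = g⁻¹ * x * g * (g⁻¹ * c * g) :=
        congrArg Subtype.val (mul_comm' (⟨_, hcx⟩ : H) ⟨_, hxx⟩)
      calc c * x = g * (g⁻¹ * c * g * (g⁻¹ * x * g)) * g⁻¹ := by group
        _ = g * (g⁻¹ * x * g * (g⁻¹ * c * g)) * g⁻¹ := by rw [h2]
        _ = x * c := by group
    have hidx : (centralizer ({x} : Set G)).index ∣ p ^ k := by
      refine (index_dvd_of_le hle).trans (dvd_of_eq ?_)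
      rw [← hk]
      have h1 := (conjMap g H).index_mul_card
      rw [card_conjMap, ← H.index_mul_card] at h1
      exact Nat.eq_of_mul_eq_mul_right Nat.card_pos h1
    obtain ⟨i, -, hi⟩ := (Nat.dvd_prime_pow hp).mp hidx
    exact ⟨i, by rw [carrier_ncard, hi]⟩

end Cfsg.Agent.S4034
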