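import Cfsg.Statements.S4033
import Cfsg.Agent.SolvStruct.TwoRegularSizes
import Cfsg.Agent.S4034

set_option autoImplicit false
open Cfsg
set_option linter.style.haveILetI false

namespace Cfsg.Agent.S4033

open Subgroup Cfsg.Lib.SolvStruct.TwoRegular

/-- if all `l`-elements with `l ≠ p, q` are central then `G` is a `{p, q}`-group times a central subgroup -/
theorem product_case {G : Type*} [Group G] [Finite G] {p q : ℕ} [hp : Fact p.Prime] [hq : Fact q.Prime]
    (hqp : q ≠ p)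
    (hcen : ∀ l : ℕ, l.Prime → l ≠ p → l ≠ q → ∀ x : G, (∃ i, x ^ l ^ i = 1) → x ∈ center G) :
    ∃ (P : Sylow p G) (Q : Sylow q G) (A : Subgroup G),
        A ≤ Subgroup.center G ∧ Nat.card ↥((P : Subgroup G) ⊔ (Q : Subgroup G)) = Nat.card P * Nat.card Q ∧
        ((P : Subgroup G) ⊔ (Q : Subgroup G)).Normal ∧
        ((P : Subgroup G) ⊔ (Q : Subgroup G)) ⊓ A = ⊥ ∧ ((P : Subgroup G) ⊔ (Q : Subgroup G)) ⊔ A = ⊤ := by
  let A : Subgroup G :=
    { carrier := {z | z ∈ center G ∧ (orderOf z).Coprime (p * q)}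
      one_mem' := ⟨one_mem _, by simp⟩
      mul_mem' := fun {a b} ha hb => ⟨mul_mem ha.1 hb.1,
        Nat.Coprime.coprime_dvd_left ((show Commute a b from mem_center_iff.mp hb.1 a).orderOf_mul_dvd_mul_orderOf)
          (ha.2.mul_left hb.2)⟩
      inv_mem' := fun {a} ha => ⟨inv_mem ha.1, by rw [orderOf_inv]; exact ha.2⟩ }
  have hAc : A ≤ center G := fun z hz => hz.1
  haveI : A.Normal := ⟨fun n hn g => by
    rw [mem_center_iff.mp (hAc hn) g, mul_inv_cancel_right]; exact hn⟩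
  have hAp : ∀ l : ℕ, l.Prime → l ∣ Nat.card A → l ≠ p ∧ l ≠ q := by
    intro l hl hd
    haveI := Fact.mk hl
    obtain ⟨a, ha⟩ := exists_prime_orderOf_dvd_card' (G := A) l hd
    have h1 := a.2.2
    rw [Subgroup.orderOf_coe, ha] at h1
    constructor <;> rintro rfl
    · exact hl.coprime_iff_not_dvd.mp h1 (dvd_mul_right _ _)
    · exact hl.coprime_iff_not_dvd.mp h1 (dvd_mul_left _ _)
  have hAi : ∀ l : ℕ, l.Prime → l ≠ p → l ≠ q → ¬ l ∣ A.index := by
    intro l hl hlp hlq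
    haveI := Fact.mk hl
    obtain ⟨S⟩ : Nonempty (Sylow l G) := inferInstance
    refine fun hd => S.not_dvd_index (hd.trans (index_dvd_of_le fun x hx => ?_))
    obtain ⟨i, hi⟩ := S.2 ⟨x, hx⟩
    have hxi : x ^ l ^ i = 1 := congrArg Subtype.val hi
    exact ⟨hcen l hl hlp hlq x ⟨i, hxi⟩, (coprime_p_of_pow_eq hl hp.out hlp ⟨i, hxi⟩).mul_right
      (coprime_p_of_pow_eq hl hq.out hlq ⟨i, hxi⟩)⟩
  have hcop : (Nat.card A).Coprime A.index := Nat.coprime_of_dvd fun l hl hd hd' =>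
    hAi l hl (hAp l hl hd).1 (hAp l hl hd).2 hd'
  obtain ⟨K, hK⟩ := Subgroup.exists_right_complement'_of_coprime hcop
  haveI hKn : K.Normal := by
    rw [← normalizer_eq_top_iff, eq_top_iff, ← hK.sup_eq_top]
    exact sup_le (hAc.trans (center_le_normalizer _)) le_normalizer
  have hKcard : Nat.card K = A.index := hK.symm.index_eq_card.symm
  have hKidx : ∀ s : ℕ, s.Prime → (s = p ∨ s = q) → ¬ s ∣ K.index := by
    intro s hs hsm hd
    rw [hK.index_eq_card] at hd
    rcases hsm with rfl | rfl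
    · exact (hAp s hs hd).1 rfl
    · exact (hAp s hs hd).2 rfl
  have hin : ∀ {s : ℕ}, s.Prime → (s = p ∨ s = q) → ∀ S : Sylow s G, (S : Subgroup G) ≤ K := by
    intro s hs hsm S x hx
    haveI := Fact.mk hs
    obtain ⟨i, hi⟩ := S.2 ⟨x, hx⟩
    refine (QuotientGroup.eq_one_iff (N := K) x).mp (orderOf_eq_one_iff.mp (Nat.eq_one_of_dvd_coprimes
      ((hs.coprime_iff_not_dvd.mpr (hKidx s hs hsm)).pow_left i)
      (orderOf_dvd_of_pow_eq_one ?_) ?_))
    · rw [← QuotientGroup.mk_pow, show x ^ s ^ i = 1 from congrArg Subtype.val hi, QuotientGroup.mk_one]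
    · rw [Subgroup.index_eq_card]; exact _root_.orderOf_dvd_natCard _
  obtain ⟨P⟩ : Nonempty (Sylow p G) := inferInstance
  obtain ⟨Q⟩ : Nonempty (Sylow q G) := inferInstance
  have hle : (P : Subgroup G) ⊔ (Q : Subgroup G) ≤ K :=
    sup_le (hin hp.out (Or.inl rfl) P) (hin hq.out (Or.inr rfl) Q)
  have hPQ : (Nat.card P).Coprime (Nat.card Q) := by
    obtain ⟨a, ha⟩ := IsPGroup.iff_card.mp P.2
    obtain ⟨b, hb⟩ := IsPGroup.iff_card.mp Q.2
    rw [ha, hb]
    exact ((Nat.coprime_primes hp.out hq.out).mpr hqp.symm).pow a b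
  have hdvd : Nat.card P * Nat.card Q ∣ Nat.card ↥((P : Subgroup G) ⊔ (Q : Subgroup G)) :=
    hPQ.mul_dvd_of_dvd_of_dvd (card_dvd_of_le le_sup_left) (card_dvd_of_le le_sup_right)
  have hKdvd : Nat.card K ∣ Nat.card P * Nat.card Q := by
    rw [Nat.dvd_iff_prime_pow_dvd_dvd]
    intro s k hs hk
    rcases k.eq_zero_or_pos with rfl | hk0
    · simp
    have hsm : s = p ∨ s = q := by
      by_contra hcon
      push Not at hcon
      exact hAi s hs hcon.1 hcon.2 (hKcard ▸ (dvd_pow_self s hk0.ne').trans hk)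
    have hkG : s ^ k ∣ Nat.card G := hk.trans (card_subgroup_dvd_card K)
    rcases hsm with rfl | rfl
    · exact (P.pow_dvd_card_of_pow_dvd_card hkG).trans (dvd_mul_right _ _)
    · exact (Q.pow_dvd_card_of_pow_dvd_card hkG).trans (dvd_mul_left _ _)
  have heq : (P : Subgroup G) ⊔ (Q : Subgroup G) = K :=
    eq_of_le_of_card_ge hle (Nat.le_of_dvd Nat.card_pos (hKdvd.trans hdvd))
  refine ⟨P, Q, A, hAc, Nat.dvd_antisymm ?_ hdvd, heq ▸ hKn, ?_, ?_⟩
  · rw [heq]; exact hKdvd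
  · rw [heq]; exact disjoint_iff.mp hK.disjoint.symm
  · rw [heq, sup_comm]; exact hK.sup_eq_top

/-- Let G be a finite group and p a prime, and suppose the conjugacy classes of p-regular elements of G (elements of order prime to p) have exactly two distinct sizes. Then either G has an abelian p-complement (an abelian subgroup of order prime to p and p-power index), or there are a prime q ≠ p, a Sylow p-subgroup P, a Sylow q-subgroup Q and a central subgroup A such that PQ is a normal subgroup of order #P·#Q and G is the internal direct product PQ × A. -/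
theorem result {G : Type*} [Group G] [Finite G] {p : ℕ} (hp : p.Prime)
    (h2 : Set.ncard (Set.range fun x : {x : G // (orderOf x).Coprime p} => (ConjClasses.mk (x : G)).carrier.ncard) = 2) :
    (∃ H : Subgroup G, IsMulCommutative H ∧ ¬ p ∣ Nat.card H ∧ ∃ k : ℕ, H.index = p ^ k) ∨
    (∃ (q : ℕ) (_ : Fact q.Prime) (P : Sylow p G) (Q : Sylow q G) (A : Subgroup G), q ≠ p ∧
        A ≤ Subgroup.center G ∧ Nat.card ↥((P : Subgroup G) ⊔ (Q : Subgroup G)) = Nat.card P * Nat.card Q ∧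
        ((P : Subgroup G) ⊔ (Q : Subgroup G)).Normal ∧
        ((P : Subgroup G) ⊔ (Q : Subgroup G)) ⊓ A = ⊥ ∧ ((P : Subgroup G) ⊔ (Q : Subgroup G)) ⊔ A = ⊤) := by
  haveI := Fact.mk hp
  set f := fun x : {x : G // (orderOf x).Coprime p} => (ConjClasses.mk (x : G)).carrier.ncard with hf
  obtain ⟨a, b, hab, hr⟩ := Set.ncard_eq_two.mp h2
  have hsize : ∀ x : G, (ConjClasses.mk x).carrier.ncard = 1 ↔ x ∈ center G := by
    intro x
    rw [Cfsg.Agent.S4034.carrier_ncard, index_eq_one, centralizer_eq_top_iff_subset, Set.singleton_subset_iff,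
      SetLike.mem_coe]
  have h1 : (1 : ℕ) ∈ ({a, b} : Set ℕ) := hr ▸ ⟨⟨1, by simp⟩, (hsize 1).mpr (one_mem _)⟩
  obtain ⟨m, hm1, hm⟩ : ∃ m : ℕ, m ≠ 1 ∧ Set.range f = {1, m} := by
    rcases h1 with rfl | h1
    · exact ⟨b, hab.symm, hr⟩
    · rw [Set.mem_singleton_iff] at h1
      subst h1
      exact ⟨a, hab, hr.trans (Set.pair_comm _ _)⟩
  have htwo : Two p m G := by
    intro x hx hxn
    have h3 : f ⟨x, hx⟩ ∈ Set.range f := ⟨_, rfl⟩
    rw [hm] at h3
    rcases h3 with h3 | h3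
    · exact absurd ((hsize x).mp h3) hxn
    · rw [← Cfsg.Agent.S4034.carrier_ncard]; exact h3
  obtain ⟨x0, hx0, hx0n⟩ : ∃ x : G, (orderOf x).Coprime p ∧ x ∉ center G := by
    obtain ⟨⟨x, hx⟩, hxm⟩ : m ∈ Set.range f := hm ▸ Or.inr rfl
    exact ⟨x, hx, fun h => hm1 (hxm.symm.trans ((hsize x).mpr h))⟩
  obtain ⟨q0, y0, hy0⟩ : ∃ l, ∃ y : G, NC p l y := by
    by_contra hno
    push Not at hno
    refine hx0n (mem_of_prime_parts _ x0 fun l hl hld y hy hyi => ?_)
    by_contra hyn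
    exact hno l y ⟨hl, fun e => hl.coprime_iff_not_dvd.mp (e ▸ hx0 : (orderOf x0).Coprime l).symm hld, hyn, hyi⟩
  by_cases hall : ∀ l : ℕ, ∃ l', l' ≠ l ∧ ∃ y : G, NC p l' y
  · left
    refine (Cfsg.Agent.S4034.result hp).mp fun x hx => ?_
    by_cases hxn : x ∈ center G
    · exact ⟨0, by rw [(hsize x).mpr hxn, pow_zero]⟩
    refine ⟨m.primeFactorsList.length, ?_⟩
    rw [Cfsg.Agent.S4034.carrier_ncard, htwo x hx hxn]
    refine Nat.eq_prime_pow_of_unique_prime_dvd (by rw [← htwo x hx hxn]; exact index_ne_zero_of_finite) ?_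
    intro d hd hdm
    by_contra hdp
    refine not_case htwo hall hd hdp hdm fun l hl hlm => ?_
    by_cases hlp : l = p
    · exact Or.inl hlp
    · exact Or.inr (eq_of_prime_dvd htwo hall hl hlp hlm hd hdp hdm)
  · right
    push Not at hall
    obtain ⟨q, hq⟩ := hall
    have hqq : q0 = q := by
      by_contra hne
      exact hq q0 hne y0 hy0
    subst hqq
    haveI := Fact.mk hy0.1
    obtain ⟨P, Q, A, h⟩ := product_case (G := G) (p := p) (q := q0) hy0.2.1 fun l hl hlp hlq x hx => by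
      by_contra hxn
      exact hq l hlq x ⟨hl, hlp, hxn, hx⟩
    exact ⟨q0, inferInstance, P, Q, A, hy0.2.1, h⟩

end Cfsg.Agent.S4033
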