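import Cfsg.Statements.S5567
-- import your own Cfsg.Agent.* helpers here
import Cfsg.Agent.JankoFour.Split

set_option autoImplicit false
open Cfsg

namespace Cfsg.Agent.S5567

/-- Let G be a finite non-abelian simple group of Janko-four type (an involution z whose centralizer H has an extraspecial largest normal 2-subgroup E of order 2^13 containing its centralizer in H, a normal subgroup N ≥ E of H with N/E of order 3 and H/N the automorphism group of M₂₂, and a subgroup P ≤ N of order 3 with C_E(P) = ⟨z⟩, N_H(P) ≠ C_H(P) and P ≤ C_H(P)′). Then every elementary abelian subgroup V of G of order 2^11 contains its centralizer, and its normalizer is a split extension of V by a complement isomorphic to the Mathieu group M₂₄. -/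
theorem result {G : Type*} [Group G] [Finite G] [IsSimpleGroup G] (hG : ¬ IsMulCommutative G) (hJ : Cfsg.IsOfJankoFourType G) (V : Subgroup G) (hV : Cfsg.IsElementaryAbelian 2 V) (hcard : Nat.card ↥V = 2 ^ 11) :
    Subgroup.centralizer (V : Set G) ≤ V ∧ ∃ K : Subgroup G, K ≤ Subgroup.normalizer (V : Set G) ∧ K ⊓ V = ⊥ ∧ K ⊔ V = Subgroup.normalizer (V : Set G) ∧ Cfsg.Spor.IsoM24 ↥K := by
  obtain ⟨z, P, hP⟩ := hJ
  obtain ⟨C⟩ := Cfsg.Lib.JankoFour.exists_ctx hP
  obtain ⟨g, rfl⟩ := C.conj_V hV hcard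
  obtain ⟨K, hKN, hKV, hsup, ⟨e⟩⟩ := C.exists_complement hG
  refine ⟨?_, K.map (MulAut.conj g).toMonoidHom, ?_, ?_, ?_, ⟨(K.equivMapOfInjective _ (MulAut.conj g).injective).symm.trans e⟩⟩
  · intro x hx
    refine ⟨g⁻¹ * x * g, C.centralizer_V (Subgroup.mem_centralizer_iff.mpr fun v hv => ?_), ?_⟩
    · have h := Subgroup.mem_centralizer_iff.mp hx (g * v * g⁻¹) ⟨v, hv, rfl⟩
      calc v * (g⁻¹ * x * g) = g⁻¹ * (g * v * g⁻¹ * x) * g := by group
        _ = g⁻¹ * (x * (g * v * g⁻¹)) * g := by rw [h]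
        _ = g⁻¹ * x * g * v := by group
    · show g * (g⁻¹ * x * g) * g⁻¹ = x
      group
  · rw [← Subgroup.map_equiv_normalizer_eq]
    exact Subgroup.map_mono hKN
  · rw [← Subgroup.map_inf _ _ _ (MulAut.conj g).injective, hKV, Subgroup.map_bot]
  · rw [← Subgroup.map_sup, hsup, Subgroup.map_equiv_normalizer_eq]


end Cfsg.Agent.S5567
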