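import Cfsg.Statements.S5572
-- import your own Cfsg.Agent.* helpers here
import Cfsg.Agent.JankoFour.FiveFrobenius

set_option autoImplicit false
open Cfsg

namespace Cfsg.Agent.S5572

/-- Let G be a finite non-abelian simple group of Janko-four type (an involution z whose centralizer H has an extraspecial largest normal 2-subgroup E of order 2^13 containing its centralizer in H, a normal subgroup N ≥ E of H with N/E of order 3 and H/N the automorphism group of M₂₂, and a subgroup P ≤ N of order 3 with C_E(P) = ⟨z⟩, N_H(P) ≠ C_H(P) and P ≤ C_H(P)′). Let Q ≤ H have order 5. Then Q is a Sylow 5-subgroup of G; its centralizer is Q × J with J a non-split extension of an elementary abelian group of order 8 by L₃(2); its normalizer contains a subgroup of order 20 containing Q in which Q is self-centralizing (a Frobenius group of order 20); and the normalizer of Q has order 2^8·3·5·7. -/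
theorem result {G : Type*} [Group G] [Finite G] [IsSimpleGroup G] (hG : ¬ IsMulCommutative G) (z : G) (hJ : Cfsg.IsOfJankoFourTypeAt z) (Q : Subgroup G) (hQ : Nat.card ↥Q = 5) (hQz : Q ≤ Subgroup.centralizer ({z} : Set G)) :
    ¬ (25 ∣ Nat.card G) ∧
    (∃ J : Subgroup G, Cfsg.IsInternalDirectProduct Q J (Subgroup.centralizer (Q : Set G)) ∧
      ∃ (E : Subgroup ↥J) (_ : E.Normal), Cfsg.IsElementaryAbelian 2 E ∧ Nat.card ↥E = 8 ∧
        Nonempty (↥J ⧸ E ≃* Matrix.SpecialLinearGroup (Fin 3) (ZMod 2)) ∧ ∀ K : Subgroup ↥J, ¬ E.IsComplement' K) ∧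
    (∃ R : Subgroup G, Q ≤ R ∧ R ≤ Subgroup.normalizer (Q : Set G) ∧ Nat.card ↥R = 20 ∧ R ⊓ Subgroup.centralizer (Q : Set G) = Q) ∧
    Nat.card ↥(Subgroup.normalizer (Q : Set G)) = 2 ^ 8 * 3 * 5 * 7 := by
  classical
  obtain ⟨P, hP⟩ := hJ
  obtain ⟨C⟩ := Cfsg.Lib.JankoFour.exists_ctx hP
  obtain ⟨F⟩ := C.exists_five
  haveI : Fact (Nat.Prime 5) := ⟨by norm_num⟩
  obtain ⟨h, -, hh⟩ := Cfsg.Lib.JankoFour.conj_of_prime_card (Subgroup.zpowers_le.mpr F.sH) hQz
    (Cfsg.Lib.JankoFour.Ctx.Five.card_s F) hQ (C.fac_five (IsConj.refl z))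
  set Q₀ := Subgroup.zpowers F.s with hQ₀
  set f : G ≃* G := MulAut.conj h with hf
  have hQf : Q = Q₀.map f.toMonoidHom := hh.symm
  have hC : Subgroup.centralizer (Q : Set G) = (Subgroup.centralizer (Q₀ : Set G)).map f.toMonoidHom := by
    rw [hQf, hf]
    exact Cfsg.Lib.JankoFour.LocalCount.map_centralizer_conj _ _
  have hN : Subgroup.normalizer (Q : Set G) = (Subgroup.normalizer (Q₀ : Set G)).map f.toMonoidHom := by
    rw [hQf, ← Subgroup.map_equiv_normalizer_eq]
  refine ⟨F.not_sq_dvd hG, ?_, ?_, ?_⟩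
  · obtain ⟨J, ⟨h1, h2, h3, h4, h5⟩, E, hEn, ⟨hEc, hE2⟩, hE8, ⟨e⟩, hK⟩ := F.structure_five hG
    let eJ : ↥J ≃* ↥(J.map f.toMonoidHom) := J.equivMapOfInjective _ f.injective
    haveI := hEn
    haveI hEn' : (E.map eJ.toMonoidHom).Normal := hEn.map _ eJ.surjective
    refine ⟨J.map f.toMonoidHom, ⟨?_, ?_, ?_, ?_, ?_⟩, E.map eJ.toMonoidHom, hEn',
      ⟨⟨⟨?_⟩⟩, ?_⟩, ?_, ⟨(QuotientGroup.congr E (E.map eJ.toMonoidHom) eJ rfl).symm.trans e⟩, ?_⟩
    · rw [hC, hQf]; exact Subgroup.map_mono h1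
    · rw [hC]; exact Subgroup.map_mono h2
    · rw [hQf]
      rintro _ ⟨a, ha, rfl⟩ _ ⟨b, hb, rfl⟩
      rw [← map_mul, ← map_mul, h3 a ha b hb]
    · rw [hQf, ← Subgroup.map_inf _ _ _ f.injective, h4, Subgroup.map_bot]
    · rw [hC, hQf, ← Subgroup.map_sup, h5]
    · rintro ⟨_, a, ha, rfl⟩ ⟨_, b, hb, rfl⟩
      refine Subtype.ext ?_
      show eJ.toMonoidHom a * eJ.toMonoidHom b = eJ.toMonoidHom b * eJ.toMonoidHom a
      rw [← map_mul, ← map_mul]
      exact congrArg _ (congrArg Subtype.val (hEc.is_comm.comm (⟨a, ha⟩ : ↥E) ⟨b, hb⟩))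
    · rintro _ ⟨a, ha, rfl⟩
      rw [← map_pow, hE2 a ha, map_one]
    · rw [Subgroup.card_map_of_injective (f := eJ.toMonoidHom) eJ.injective, hE8]
    · intro K hKc
      refine hK (K.map eJ.symm.toMonoidHom) (Subgroup.isComplement'_of_card_mul_and_disjoint ?_ ?_)
      · rw [Subgroup.card_map_of_injective (f := eJ.symm.toMonoidHom) eJ.symm.injective, Nat.card_congr eJ.toEquiv,
          ← hKc.card_mul_card, Subgroup.card_map_of_injective (f := eJ.toMonoidHom) eJ.injective]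
      · rw [Subgroup.disjoint_def]
        rintro x hx ⟨k, hk, rfl⟩
        have hk' : k ∈ E.map eJ.toMonoidHom := ⟨_, hx, eJ.apply_symm_apply k⟩
        rw [Subgroup.disjoint_def.mp hKc.disjoint hk' hk, map_one]
  · obtain ⟨R, r1, r2, r3, r4⟩ := F.exists_frobenius hG
    refine ⟨R.map f.toMonoidHom, ?_, ?_, ?_, ?_⟩
    · rw [hQf]; exact Subgroup.map_mono r1
    · rw [hN]; exact Subgroup.map_mono r2
    · rw [Subgroup.card_map_of_injective (f := f.toMonoidHom) f.injective, r3]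
    · rw [hC, ← Subgroup.map_inf _ _ _ f.injective, r4, ← hQf]
  · rw [hN, Subgroup.card_map_of_injective (f := f.toMonoidHom) f.injective, (F.counts hG).1]
    norm_num

end Cfsg.Agent.S5572
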