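import Cfsg.Statements.S5573
-- import your own Cfsg.Agent.* helpers here
import Cfsg.Agent.JankoFour.SevenStructure


set_option autoImplicit false
open Cfsg

namespace Cfsg.Agent.S5573

/-- Let G be a finite non-abelian simple group of Janko-four type (an involution z whose centralizer H has an extraspecial largest normal 2-subgroup E of order 2^13 containing its centralizer in H, a normal subgroup N ≥ E of H with N/E of order 3 and H/N the automorphism group of M₂₂, and a subgroup P ≤ N of order 3 with C_E(P) = ⟨z⟩, N_H(P) ≠ C_H(P) and P ≤ C_H(P)′). Let S ≤ H have order 7. Then S is a Sylow 7-subgroup of G, its centralizer is S × I with I isomorphic to the symmetric group of degree 5, and its normalizer has order three times that of its centralizer, namely 2^3·3^2·5·7. -/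
theorem result {G : Type*} [Group G] [Finite G] [IsSimpleGroup G] (hG : ¬ IsMulCommutative G) (z : G) (hJ : Cfsg.IsOfJankoFourTypeAt z) (S : Subgroup G) (hS : Nat.card ↥S = 7) (hSz : S ≤ Subgroup.centralizer ({z} : Set G)) :
    ¬ (49 ∣ Nat.card G) ∧
    (∃ I : Subgroup G, Cfsg.IsInternalDirectProduct S I (Subgroup.centralizer (S : Set G)) ∧ Nonempty (↥I ≃* Equiv.Perm (Fin 5))) ∧
    Nat.card ↥(Subgroup.normalizer (S : Set G)) = 3 * Nat.card ↥(Subgroup.centralizer (S : Set G)) ∧
    Nat.card ↥(Subgroup.normalizer (S : Set G)) = 2 ^ 3 * 3 ^ 2 * 5 * 7 := by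
  classical
  obtain ⟨P, hP⟩ := hJ
  obtain ⟨C⟩ := Cfsg.Lib.JankoFour.exists_ctx hP
  obtain ⟨Z⟩ := C.exists_sec hG
  obtain ⟨T⟩ := Z.exists_Trio
  haveI : Fact (Nat.Prime 7) := ⟨by norm_num⟩
  obtain ⟨g₀, hg₀⟩ := isConj_iff.mp (Z.σ7_z hG).symm
  set Q₀ := Subgroup.zpowers Z.s7 with hQ₀
  have hle₀ : Q₀.map (MulAut.conj g₀).toMonoidHom ≤ Subgroup.centralizer ({z} : Set G) := by
    rw [← hg₀, Cfsg.Lib.JankoFour.LocalCount.map_centralizer_elem]
    exact Subgroup.map_mono (Subgroup.zpowers_le.mpr (Subgroup.mem_centralizer_singleton_iff.mpr Z.σ7_commute.symm.eq))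
  obtain ⟨h, -, hh⟩ := Cfsg.Lib.JankoFour.conj_of_prime_card hle₀ hSz
    ((Subgroup.card_map_of_injective (MulAut.conj g₀).injective).trans (Cfsg.Lib.JankoFour.Ctx.Sec.s7_card Z)) hS
    (Cfsg.Lib.JankoFour.Ctx.Sec.fac_z C (IsConj.refl z))
  set f : G ≃* G := MulAut.conj (h * g₀) with hf
  have hSf : S = Q₀.map f.toMonoidHom := by
    rw [← hh, Subgroup.map_map, hf]
    congr 1
    ext x
    simp [mul_assoc]
  have hC : Subgroup.centralizer (S : Set G) = (Subgroup.centralizer (Q₀ : Set G)).map f.toMonoidHom := by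
    rw [hSf, hf]
    exact Cfsg.Lib.JankoFour.LocalCount.map_centralizer_conj _ _
  have hN : Nat.card ↥(Subgroup.normalizer (S : Set G)) = 2520 := by
    rw [hSf, ← Subgroup.map_equiv_normalizer_eq, Subgroup.card_map_of_injective f.injective, (T.counts hG).1]
  have hCc : Nat.card ↥(Subgroup.centralizer (S : Set G)) = 840 := by
    rw [hC, Subgroup.card_map_of_injective f.injective, T.centralizer_card hG]
  refine ⟨T.not_sq_dvd hG, ?_, by rw [hN, hCc], by rw [hN]; norm_num⟩
  obtain ⟨I, ⟨h1, h2, h3, h4, h5⟩, ⟨e⟩⟩ := T.structure_seven hG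
  refine ⟨I.map f.toMonoidHom, ⟨?_, ?_, ?_, ?_, ?_⟩, ⟨(I.equivMapOfInjective _ f.injective).symm.trans e⟩⟩
  · rw [hC, hSf]; exact Subgroup.map_mono h1
  · rw [hC]; exact Subgroup.map_mono h2
  · rw [hSf]
    rintro _ ⟨a, ha, rfl⟩ _ ⟨b, hb, rfl⟩
    rw [← map_mul, ← map_mul, h3 a ha b hb]
  · rw [hSf, ← Subgroup.map_inf _ _ _ f.injective, h4, Subgroup.map_bot]
  · rw [hC, hSf, ← Subgroup.map_sup, h5]

end Cfsg.Agent.S5573
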