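import Cfsg.Statements.S5569
-- import your own Cfsg.Agent.* helpers here
import Cfsg.Agent.JankoFour.Involutions
import Cfsg.Agent.JankoFour.DuadStab

set_option autoImplicit false
open Cfsg
open scoped Pointwise

namespace Cfsg.Agent.S5569

/-- Let G be a finite non-abelian simple group of Janko-four type (an involution z whose centralizer H has an extraspecial largest normal 2-subgroup E of order 2^13 containing its centralizer in H, a normal subgroup N ≥ E of H with N/E of order 3 and H/N the automorphism group of M₂₂, and a subgroup P ≤ N of order 3 with C_E(P) = ⟨z⟩, N_H(P) ≠ C_H(P) and P ≤ C_H(P)′). Then the centralizer of an involution t of G that is not conjugate to z is a split extension of an elementary abelian normal subgroup of order 2^11 by a complement isomorphic to the automorphism group of M₂₂. -/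
theorem result {G : Type*} [Group G] [Finite G] [IsSimpleGroup G] (hG : ¬ IsMulCommutative G) (z : G) (hJ : Cfsg.IsOfJankoFourTypeAt z) (t : G) (ht : orderOf t = 2) (hnc : ¬ IsConj z t) :
    ∃ V K : Subgroup G, V ≤ Subgroup.centralizer ({t} : Set G) ∧ K ≤ Subgroup.centralizer ({t} : Set G) ∧
    Subgroup.centralizer ({t} : Set G) ≤ Subgroup.normalizer (V : Set G) ∧ Cfsg.IsElementaryAbelian 2 V ∧ Nat.card ↥V = 2 ^ 11 ∧
    K ⊓ V = ⊥ ∧ K ⊔ V = Subgroup.centralizer ({t} : Set G) ∧ Nonempty (↥K ≃* MulAut ↥Cfsg.Spor.M22) := by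
  classical
  obtain ⟨P, hP⟩ := hJ
  obtain ⟨C⟩ := Cfsg.Lib.JankoFour.exists_ctx hP
  have ht2 : t * t = 1 := by rw [← pow_two, ← ht, pow_orderOf_eq_one]
  have ht1 : t ≠ 1 := fun e => by rw [e, orderOf_one] at ht; norm_num at ht
  obtain ⟨v, hv, hconj⟩ := C.to_V hG ht2
  obtain ⟨g, hg⟩ := isConj_iff.mp hconj.symm
  set D := C.sextet hG with hD
  have hvT : v ∈ D.T := ⟨hv, fun e => ht1 (by rw [← hg, e]; group), fun h => hnc (h.trans hconj.symm)⟩
  have hcen := C.centralizer_T hG hvT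
  obtain ⟨K, hKN, hKV, hsup, -⟩ := C.exists_complement hG
  obtain ⟨φ, hφs, hker, hst⟩ := D.exists_hom C.large hvT
  set Cv := Subgroup.centralizer ({v} : Set G) with hCv
  have hVC : C.V ≤ Cv := fun x hx => Subgroup.mem_centralizer_singleton_iff.mpr (C.V_comm hx hv).eq
  set L := K ⊓ Cv with hL
  have hLV : L ⊓ C.V = ⊥ := le_bot_iff.mp (le_trans (inf_le_inf_right _ inf_le_left) hKV.le)
  have hdec : ∀ x ∈ Subgroup.normalizer (C.V : Set G), ∃ a ∈ C.V, ∃ k ∈ K, x = a * k := by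
    intro x hx
    rw [← hsup, sup_comm] at hx
    have hx' : x ∈ ((C.V ⊔ K : Subgroup G) : Set G) := hx
    rw [Subgroup.coe_mul_of_right_le_normalizer_left C.V K hKN] at hx'
    obtain ⟨a, ha, k, hk, rfl⟩ := Set.mem_mul.mp hx'
    exact ⟨a, ha, k, hk, rfl⟩
  have hsupL : L ⊔ C.V = Cv := by
    refine le_antisymm (sup_le inf_le_right hVC) fun x hx => ?_
    obtain ⟨a, ha, k, hk, rfl⟩ := hdec x (hcen hx)
    have hkC : k ∈ Cv := by
      have := mul_mem (inv_mem (hVC ha)) hx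
      rwa [inv_mul_cancel_left] at this
    rw [sup_comm]
    exact Subgroup.mul_mem_sup ha (Subgroup.mem_inf.mpr ⟨hk, hkC⟩)
  obtain ⟨e⟩ : Nonempty (↥L ≃* MulAut ↥Cfsg.Spor.M22) := by
    obtain ⟨e22⟩ := Cfsg.Lib.JankoFour.duadStab_aut
    have hfix : ∀ x : G, x * v * x⁻¹ = v ↔ x ∈ Cv := fun x => by
      rw [hCv, Subgroup.mem_centralizer_singleton_iff, mul_inv_eq_iff_eq_mul]
    let inc : ↥L →* ↥(Subgroup.normalizer (C.V : Set G)) := Subgroup.inclusion (le_trans inf_le_left hKN)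
    let ψ : ↥L →* ↥(Cfsg.M24 ⊓ MulAction.stabilizer (Equiv.Perm Cfsg.GolayPt) ({none, some 0} : Set Cfsg.GolayPt)) :=
      (Cfsg.M24.subtype.comp (φ.comp inc)).codRestrict _ fun x => Subgroup.mem_inf.mpr
        ⟨(φ (inc x)).2, (hst (inc x)).mp ((hfix _).mpr (Subgroup.mem_inf.mp x.2).2)⟩
    refine ⟨(MulEquiv.ofBijective ψ ⟨?_, ?_⟩).trans e22⟩
    · rw [← MonoidHom.ker_eq_bot_iff, Subgroup.eq_bot_iff_forall]
      intro x hx
      have h1 : φ (inc x) = 1 := Subtype.ext (congrArg Subtype.val (MonoidHom.mem_ker.mp hx) :)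
      have h2 : (x : G) ∈ C.V := Subgroup.mem_subgroupOf.mp (show inc x ∈ D.A.subgroupOf _ from hker ▸ h1)
      exact Subtype.ext (Subgroup.mem_bot.mp (hLV ▸ Subgroup.mem_inf.mpr ⟨x.2, h2⟩))
    · rintro ⟨m, hm⟩
      obtain ⟨n, hn⟩ := hφs ⟨m, (Subgroup.mem_inf.mp hm).1⟩
      have hnC : (n : G) ∈ Cv := (hfix _).mp ((hst n).mpr (by rw [hn]; exact (Subgroup.mem_inf.mp hm).2))
      obtain ⟨a, ha, k, hk, hnk⟩ := hdec n n.2
      have hkC : k ∈ Cv := by
        have := mul_mem (inv_mem (hVC ha)) hnC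
        rwa [hnk, inv_mul_cancel_left] at this
      refine ⟨⟨k, Subgroup.mem_inf.mpr ⟨hk, hkC⟩⟩, Subtype.ext ?_⟩
      show ((φ ⟨k, hKN hk⟩ : ↥Cfsg.M24) : Equiv.Perm Cfsg.GolayPt) = m
      have hA : φ ⟨a, Subgroup.le_normalizer ha⟩ = 1 := by
        rw [← MonoidHom.mem_ker, hker, Subgroup.mem_subgroupOf]
        exact ha
      have hsplit : n = ⟨a, Subgroup.le_normalizer ha⟩ * ⟨k, hKN hk⟩ := Subtype.ext hnk
      have hm' : ((φ n : ↥Cfsg.M24) : Equiv.Perm Cfsg.GolayPt) = m := congrArg Subtype.val hn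
      rw [← hm', hsplit]
      show _ = ((φ (⟨a, Subgroup.le_normalizer ha⟩ * ⟨k, hKN hk⟩) : ↥Cfsg.M24) : Equiv.Perm Cfsg.GolayPt)
      rw [map_mul, hA, one_mul]
  set f : G ≃* G := MulAut.conj g with hf
  have hfC : Cv.map f.toMonoidHom = Subgroup.centralizer ({t} : Set G) := by
    ext x
    constructor
    · rintro ⟨y, hy, rfl⟩
      refine Subgroup.mem_centralizer_singleton_iff.mpr ?_
      show f y * t = t * f y
      rw [← show f v = t from hg, ← map_mul, ← map_mul, Subgroup.mem_centralizer_singleton_iff.mp hy]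
    · intro hx
      refine ⟨f.symm x, Subgroup.mem_centralizer_singleton_iff.mpr (f.injective ?_), f.apply_symm_apply x⟩
      rw [map_mul, map_mul, f.apply_symm_apply, show f v = t from hg]
      exact Subgroup.mem_centralizer_singleton_iff.mp hx
  refine ⟨C.V.map f.toMonoidHom, L.map f.toMonoidHom, ?_, ?_, ?_, ⟨⟨⟨fun a b => Subtype.ext ?_⟩⟩, ?_⟩, ?_, ?_, ?_,
    ⟨(L.equivMapOfInjective _ f.injective).symm.trans e⟩⟩
  · rw [← hfC]; exact Subgroup.map_mono hVC
  · rw [← hfC]; exact Subgroup.map_mono inf_le_right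
  · rw [← hfC, ← Subgroup.map_equiv_normalizer_eq]; exact Subgroup.map_mono hcen
  · obtain ⟨x, hx, ex⟩ := a.2
    obtain ⟨y, hy, ey⟩ := b.2
    show (a : G) * b = b * a
    rw [← ex, ← ey, ← map_mul, ← map_mul, (C.V_comm hx hy).eq]
  · rintro _ ⟨x, hx, rfl⟩
    rw [← map_pow, pow_two, C.V_sq hx, map_one]
  · exact (Subgroup.card_map_of_injective f.injective).trans C.V_spec.2.1
  · rw [← Subgroup.map_inf _ _ _ f.injective, hLV, Subgroup.map_bot]
  · rw [← Subgroup.map_sup, hsupL, hfC]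

end Cfsg.Agent.S5569
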