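import Cfsg.Statements.S2402
import Cfsg.Agent.Classical.Misc.SLTwoGenerators
-- import your own Cfsg.Agent.* helpers here

set_option autoImplicit false
open Cfsg

namespace Cfsg.Agent.S2402

/-- Explicit two-element generation of `PSL_{n+1}(K)` for a finite field `K` with more than three elements: let `k` generate the multiplicative group of `K`, `h = diag(k, k⁻¹, 1, …, 1)`, `x = 1 + E₁₂` (the elementary transvection) and `w` the monomial matrix with entries `1` in positions `(i, i+1)` and `(−1)^n` in position `(n+1, 1)`. Then `h` and `x·w` generate `SL_{n+1}(K)` modulo its centre: the subgroup they generate together with the centre is everything. -/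
theorem result {K : Type*} [Field K] [Fintype K] (hK : 3 < Fintype.card K) (n : ℕ) (hn : 1 ≤ n)
    (k : Kˣ) (hk : ∀ u : Kˣ, u ∈ Subgroup.zpowers k)
    (h x w : Matrix.SpecialLinearGroup (Fin (n + 1)) K)
    (hh : (h : Matrix (Fin (n + 1)) (Fin (n + 1)) K) =
      Matrix.diagonal (fun i => if i.val = 0 then (k : K) else if i.val = 1 then ((k⁻¹ : Kˣ) : K) else 1))
    (hx : (x : Matrix (Fin (n + 1)) (Fin (n + 1)) K) = Matrix.transvection (0 : Fin (n + 1)) (1 : Fin (n + 1)) 1)
    (hw : (w : Matrix (Fin (n + 1)) (Fin (n + 1)) K) =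
      Matrix.of (fun i j => if j.val = i.val + 1 then 1 else if i.val = n ∧ j.val = 0 then (-1) ^ n else 0)) :
    Subgroup.closure ({h, x * w} : Set (Matrix.SpecialLinearGroup (Fin (n + 1)) K)) ⊔
      Subgroup.center (Matrix.SpecialLinearGroup (Fin (n + 1)) K) = ⊤ := by
  suffices hH : Subgroup.closure ({h, x * w} : Set (Matrix.SpecialLinearGroup (Fin (n + 1)) K)) = ⊤ by
    rw [hH, top_sup_eq]
  set H := Subgroup.closure ({h, x * w} : Set (Matrix.SpecialLinearGroup (Fin (n + 1)) K)) with hH
  have hhH : h ∈ H := Subgroup.subset_closure (by simp)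
  have hyH : x * w ∈ H := Subgroup.subset_closure (by simp)
  have hne : (0 : Fin (n + 1)) ≠ 1 := fun e => by
    have := congrArg Fin.val e
    rw [Fin.val_one', Fin.val_zero, Nat.mod_eq_of_lt (by omega)] at this
    omega
  let T : K → Matrix.SpecialLinearGroup (Fin (n + 1)) K := Matrix.SpecialLinearGroup.transvection hne
  have hT : ∀ s, (T s : Matrix (Fin (n + 1)) (Fin (n + 1)) K) = Matrix.transvection 0 1 s := fun s => rfl
  set d : Fin (n + 1) → K := fun i => if i.val = 0 then (k : K) else if i.val = 1 then ((k⁻¹ : Kˣ) : K) else 1 with hd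
  -- a diagonal matrix conjugates the transvection to a scaled one
  have hdiag : ∀ (D : Matrix.SpecialLinearGroup (Fin (n + 1)) K) (e : Fin (n + 1) → K),
      (D : Matrix (Fin (n + 1)) (Fin (n + 1)) K) = Matrix.diagonal e → ∀ s, D * T s = T (s * (e 0 / e 1)) * D := by
    intro D e hD s
    refine Subtype.ext ?_
    rw [Matrix.SpecialLinearGroup.coe_mul, Matrix.SpecialLinearGroup.coe_mul, hT, hT, hD]
    have h1 : e 1 ≠ 0 := fun h0 => by
      have := D.2
      rw [hD, Matrix.det_diagonal, Finset.prod_eq_zero (Finset.mem_univ (1 : Fin (n + 1))) h0] at this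
      exact zero_ne_one this
    ext a b
    simp only [Matrix.diagonal_mul, Matrix.mul_diagonal, Matrix.transvection, Matrix.add_apply, Matrix.one_apply,
      Matrix.single_apply]
    by_cases hab : (0 : Fin (n + 1)) = a ∧ (1 : Fin (n + 1)) = b
    · obtain ⟨rfl, rfl⟩ := hab
      simp [hne]
      field_simp
    · simp only [if_neg hab, add_zero, mul_zero, zero_mul]
      by_cases hab' : a = b <;> simp [hab', mul_comm]
  -- the conjugate of the diagonal element by the cycle
  have hw' := Cfsg.Lib.SLTwoGen.w_apply hw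
  set D' := w * h * w⁻¹ with hD'
  have hD'm : (D' : Matrix (Fin (n + 1)) (Fin (n + 1)) K) = Matrix.diagonal (fun i => d (i + 1)) := by
    have e : (w : Matrix (Fin (n + 1)) (Fin (n + 1)) K) * h = Matrix.diagonal (fun i => d (i + 1)) * w := by
      ext r s
      rw [hh, Matrix.mul_diagonal, Matrix.diagonal_mul, hw']
      split_ifs with hs
      · subst hs; exact mul_comm _ _
      · rw [zero_mul, mul_zero]
    rw [hD', Matrix.SpecialLinearGroup.coe_mul, Matrix.SpecialLinearGroup.coe_mul, e, Matrix.mul_assoc,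
      ← Matrix.SpecialLinearGroup.coe_mul, mul_inv_cancel, Matrix.SpecialLinearGroup.coe_one, Matrix.mul_one]
  have hk1 : (k : K) ^ 2 ≠ 1 := fun e => by
    have h1 : k ^ 2 = 1 := Units.ext (by simpa using e)
    have h2 := Nat.le_of_dvd (by norm_num) (orderOf_dvd_of_pow_eq_one h1)
    rw [orderOf_eq_card_of_forall_mem_zpowers hk, Nat.card_units, Nat.card_eq_fintype_card] at h2
    omega
  set a : K := d (0 + 1) / d (1 + 1) with ha
  have ha1 : a ≠ 1 := by
    intro e
    apply hk1
    have v1 : ((1 : Fin (n + 1)) : ℕ) = 1 := by rw [Fin.val_one', Nat.mod_eq_of_lt (by omega)]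
    have v2 : ((1 + 1 : Fin (n + 1)) : ℕ) = if n = 1 then 0 else 2 := by
      rw [Fin.val_add, v1]
      split_ifs with h1
      · subst h1; norm_num
      · exact Nat.mod_eq_of_lt (by omega)
    have hd1 : d (0 + 1) = (k : K)⁻¹ := by
      simp [hd, zero_add, v1, show n ≠ 0 by omega, show 0 < n by omega]
    have hd2 : d (1 + 1) = if n = 1 then (k : K) else 1 := by
      show (if ((1 + 1 : Fin (n + 1)) : ℕ) = 0 then (k : K) else if ((1 + 1 : Fin (n + 1)) : ℕ) = 1 then ((k⁻¹ : Kˣ) : K) else 1) = _
      rw [v2]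
      by_cases h1 : n = 1
      · rw [if_pos h1, if_pos h1, if_pos rfl]
      · rw [if_neg h1, if_neg h1, if_neg (by omega), if_neg (by omega)]
    rw [ha, hd1, hd2] at e
    have hk0 : (k : K) ≠ 0 := k.ne_zero
    split_ifs at e with h1
    · field_simp at e
      linear_combination -e
    · rw [div_one, inv_eq_one] at e
      rw [e, one_pow]
  have hd01 : d 0 / d 1 = (k : K) ^ 2 := by
    have v1 : ((1 : Fin (n + 1)) : ℕ) = 1 := by rw [Fin.val_one', Nat.mod_eq_of_lt (by omega)]
    simp [hd, v1, show n ≠ 0 by omega, show 0 < n by omega]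
    ring
  have hxT : x = T 1 := Subtype.ext hx
  have hA : T (1 - a) * D' ∈ H := by
    have h1 := mul_mem (mul_mem hyH hhH) (inv_mem hyH)
    have e : x * w * h * (x * w)⁻¹ = T (1 - a) * D' := by
      have e2 : x * w * h * (x * w)⁻¹ = x * D' * x⁻¹ := by rw [hD']; group
      rw [e2, hxT, mul_inv_eq_iff_eq_mul, mul_assoc (T (1 - a)), hdiag D' _ hD'm 1, ← mul_assoc (T (1 - a)),
        Cfsg.Lib.SLTwoGen.transvection_mul]
      congr 2
      rw [ha]; ring
    rwa [e] at h1
  have hcomm : h * D' = D' * h := Subtype.ext (by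
    show (h : Matrix (Fin (n + 1)) (Fin (n + 1)) K) * (D' : Matrix (Fin (n + 1)) (Fin (n + 1)) K) =
      (D' : Matrix (Fin (n + 1)) (Fin (n + 1)) K) * (h : Matrix (Fin (n + 1)) (Fin (n + 1)) K)
    rw [hh, hD'm, Matrix.diagonal_mul_diagonal, Matrix.diagonal_mul_diagonal]
    exact congrArg _ (funext fun i => mul_comm _ _))
  have hs : T (((k : K) ^ 2 - 1) * (1 - a)) ∈ H := by
    have h1 := mul_mem (mul_mem (mul_mem hhH hA) (inv_mem hhH)) (inv_mem hA)
    have e : h * (T (1 - a) * D') * h⁻¹ * (T (1 - a) * D')⁻¹ = T (((k : K) ^ 2 - 1) * (1 - a)) := by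
      rw [mul_inv_eq_iff_eq_mul, mul_inv_eq_iff_eq_mul, ← mul_assoc h, hdiag h d hh, mul_assoc _ h, hcomm,
        ← mul_assoc (T (((k : K) ^ 2 - 1) * (1 - a))), Cfsg.Lib.SLTwoGen.transvection_mul, ← mul_assoc]
      congr 3
      rw [hd01]; ring
    rwa [e] at h1
  set s := ((k : K) ^ 2 - 1) * (1 - a) with hsdef
  have hs0 : s ≠ 0 := mul_ne_zero (sub_ne_zero.2 hk1) (sub_ne_zero.2 (Ne.symm ha1))
  let A : AddSubgroup K :=
    { carrier := {u | T u ∈ H}
      zero_mem' := by
        show T 0 ∈ H
        rw [show T 0 = 1 from Subtype.ext (Matrix.transvection_zero _ _)]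
        exact one_mem H
      add_mem' := fun {u v} hu hv => by
        show T (u + v) ∈ H
        have e : T u * T v = T (u + v) := Cfsg.Lib.SLTwoGen.transvection_mul hne u v
        rw [← e]
        exact mul_mem hu hv
      neg_mem' := fun {u} hu => by
        show T (-u) ∈ H
        have e : T (-u) = (T u)⁻¹ := (Matrix.SpecialLinearGroup.transvection_inv hne u).symm
        rw [e]
        exact inv_mem hu }
  have hsq : ∀ u : K, s * u ^ 2 ∈ A := by
    intro u
    by_cases hu : u = 0
    · subst hu; simp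
    · obtain ⟨z, hz⟩ := hk (Units.mk0 u hu)
      have hpow : ∀ j : ℕ, T (s * ((k : K) ^ 2) ^ j) ∈ H := by
        intro j
        induction j with
        | zero => rwa [pow_zero, mul_one]
        | succ j ih =>
          have e : T (s * ((k : K) ^ 2) ^ (j + 1)) = h * T (s * ((k : K) ^ 2) ^ j) * h⁻¹ := by
            rw [eq_mul_inv_iff_mul_eq, hdiag h d hh, hd01]
            congr 2
            ring
          rw [e]
          exact mul_mem (mul_mem hhH ih) (inv_mem hhH)
      obtain ⟨j, hj⟩ : Units.mk0 u hu ∈ Submonoid.powers k :=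
        mem_powers_iff_mem_zpowers.2 (hk _)
      show T (s * u ^ 2) ∈ H
      have : u = (k : K) ^ j := by
        have := congrArg Units.val hj
        simpa using this.symm
      rw [this, ← pow_mul, mul_comm j 2, pow_mul]
      exact hpow j
  have hall : ∀ t, T t ∈ H := fun t => Cfsg.Lib.SLTwoGen.eq_univ_of_squares hs0 hsq t
  refine Cfsg.Lib.SLTwoGen.eq_top hn ?_ hw fun _ t => hall t
  have := mul_mem (inv_mem (hall 1)) hyH
  rwa [hxT, inv_mul_cancel_left] at this

end Cfsg.Agent.S2402
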