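import Cfsg.Statements.S2403
import Cfsg.Agent.Classical.Misc.SLTwoGenerators
-- import your own Cfsg.Agent.* helpers here

set_option autoImplicit false
open Cfsg

namespace Cfsg.Agent.S2403

/-- Explicit two-element generation of `PSL_{n+1}(K)` over the fields with two or three elements: with `x = 1 + E₁₂` and `w` the monomial matrix with entries `1` in positions `(i, i+1)` and `(−1)^n` in position `(n+1, 1)`, the elements `x` and `w` generate `SL_{n+1}(K)` modulo its centre. -/
theorem result {K : Type*} [Field K] [Fintype K] (hK : Fintype.card K ≤ 3) (n : ℕ) (hn : 1 ≤ n)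
    (x w : Matrix.SpecialLinearGroup (Fin (n + 1)) K)
    (hx : (x : Matrix (Fin (n + 1)) (Fin (n + 1)) K) = Matrix.transvection (0 : Fin (n + 1)) (1 : Fin (n + 1)) 1)
    (hw : (w : Matrix (Fin (n + 1)) (Fin (n + 1)) K) =
      Matrix.of (fun i j => if j.val = i.val + 1 then 1 else if i.val = n ∧ j.val = 0 then (-1) ^ n else 0)) :
    Subgroup.closure ({x, w} : Set (Matrix.SpecialLinearGroup (Fin (n + 1)) K)) ⊔
      Subgroup.center (Matrix.SpecialLinearGroup (Fin (n + 1)) K) = ⊤ := by
  suffices h : Subgroup.closure ({x, w} : Set (Matrix.SpecialLinearGroup (Fin (n + 1)) K)) = ⊤ by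
    rw [h, top_sup_eq]
  refine Cfsg.Lib.SLTwoGen.eq_top hn (Subgroup.subset_closure (by simp)) hw fun hne t => ?_
  obtain ⟨p, hp⟩ := CharP.exists K
  haveI : Fact p.Prime := ⟨CharP.char_is_prime K p⟩
  obtain ⟨e, -, he⟩ := FiniteField.card K p
  have he1 : (e : ℕ) = 1 := by
    by_contra hne1
    have h2 := e.pos
    have : 2 ^ 2 ≤ p ^ (e : ℕ) := (Nat.pow_le_pow_left (Fact.out : p.Prime).two_le 2).trans (Nat.pow_le_pow_right (Fact.out : p.Prime).pos (by omega))
    omega
  rw [he1, pow_one] at he
  obtain ⟨k, hk⟩ : ∃ k : ℕ, (k : K) = t := by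
    have hinj : Function.Injective (fun i : Fin p => ((i : ℕ) : K)) := fun i j hij =>
      Fin.ext (CharP.natCast_injOn_Iio K p (by simpa using i.isLt) (by simpa using j.isLt) hij)
    obtain ⟨i, hi⟩ := ((Fintype.bijective_iff_injective_and_card _).2
      ⟨hinj, by rw [Fintype.card_fin, he]⟩).2 t
    exact ⟨i, hi⟩
  have hxt : x = Matrix.SpecialLinearGroup.transvection hne 1 := Subtype.ext hx
  have : Matrix.SpecialLinearGroup.transvection hne t = x ^ k := by
    subst hk
    induction k with
    | zero =>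
      rw [pow_zero, Nat.cast_zero]
      exact Subtype.ext (Matrix.transvection_zero _ _)
    | succ k ih => rw [pow_succ, ← ih, hxt, Cfsg.Lib.SLTwoGen.transvection_mul, Nat.cast_succ]
  rw [this]
  exact pow_mem (Subgroup.subset_closure (by simp)) k

end Cfsg.Agent.S2403
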