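import Cfsg.Statements.S0617
import Cfsg.Agent.FFModule.Summary

set_option autoImplicit false
open Cfsg Cfsg.Lib.FF

namespace Cfsg.Agent.S0617

/-- Structure Theorem for failure of factorization: a faithful group generated by best offenders, with self-centralizing p'-core, is a direct product of copies of SL(2, p) (p = 2 or 3), each acting on its own plane in V, which is the direct product of these planes and C_V(H). -/
theorem result {G : Type*} [Group G] [Finite G] {p : ℕ} [Fact p.Prime] (V H : Subgroup G) (hV : Cfsg.IsElementaryAbelian p V) (hHV : H ≤ Subgroup.normalizer (V : Set G)) (hf : H ⊓ Subgroup.centralizer (V : Set G) = ⊥) (hS1 : Subgroup.centralizer (Cfsg.pPrimeCore p ↥H : Set ↥H) ≤ Cfsg.pPrimeCore p ↥H) (hS3 : H = ⨆ A : {A : Subgroup G // A ≤ H ∧ Cfsg.IsBestOffenderOn p V A}, (A : Subgroup G)) (hH1 : H ≠ ⊥) : (p = 2 ∨ p = 3) ∧ (∀ E : {E : Subgroup G // ∃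 A : Subgroup G, A ≤ H ∧ Cfsg.IsBestOffenderOn p V A ∧ ⁅V, A⁆ ≠ ⊥ ∧ (∀ B : Subgroup G, B ≤ A → Cfsg.IsBestOffenderOn p V B → ⁅V, B⁆ ≠ ⊥ → B = A) ∧ E = ⁅((Cfsg.pPrimeCore p ↥H).map H.subtype), A⁆ ⊔ A}, H ≤ Subgroup.normalizer ((E : Subgroup G) : Set G) ∧ Nonempty (↥(E : Subgroup G) ≃* Matrix.SpecialLinearGroup (Fin 2) (ZMod p)) ∧ Nat.card ↥(⁅V, (E : Subgroup G)⁆) = p ^ 2) ∧ iSupIndep (fun E : {E : Subgroup G // ∃ A : Subgroup G, A ≤ H ∧ Cfsg.IsBestOffenderOn p V A ∧ ⁅V, A⁆ ≠ ⊥ ∧ (∀ B : Subgroup G, B ≤ A → Cfsg.IsBestOffenderOn p V B → ⁅V, B⁆ ≠ ⊥ → B = A) ∧ E = ⁅((Cfsg.pPrimeCore p ↥H).map H.subtype), A⁆ ⊔ A} => (E : Subgroup G)) ∧ (⨆ E : {E : Subgroup G // ∃ A : Subgroup G, A ≤ H ∧ Cfsg.IsBestOffenderOn p V A ∧ ⁅V, A⁆ ≠ ⊥ ∧ (∀ B : Subgroup G, B ≤ A → Cfsg.IsBestOffenderOn p V B → ⁅V, B⁆ ≠ ⊥ → B = A) ∧ E = ⁅((Cfsg.pPrimeCore p ↥H).map H.subtype), A⁆ ⊔ A}, (E : Subgroup G))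 = H ∧ iSupIndep (fun o : Option {E : Subgroup G // ∃ A : Subgroup G, A ≤ H ∧ Cfsg.IsBestOffenderOn p V A ∧ ⁅V, A⁆ ≠ ⊥ ∧ (∀ B : Subgroup G, B ≤ A → Cfsg.IsBestOffenderOn p V B → ⁅V, B⁆ ≠ ⊥ → B = A) ∧ E = ⁅((Cfsg.pPrimeCore p ↥H).map H.subtype), A⁆ ⊔ A} => o.elim (V ⊓ Subgroup.centralizer (H : Set G)) (fun E => ⁅V, (E : Subgroup G)⁆)) ∧ (V ⊓ Subgroup.centralizer (H : Set G)) ⊔ (⨆ E : {E : Subgroup G // ∃ A : Subgroup G, A ≤ H ∧ Cfsg.IsBestOffenderOn p V A ∧ ⁅V, A⁆ ≠ ⊥ ∧ (∀ B : Subgroup G, B ≤ A → Cfsg.IsBestOffenderOn p V B → ⁅V, B⁆ ≠ ⊥ → B = A) ∧ E = ⁅((Cfsg.pPrimeCore p ↥H).map H.subtype), A⁆ ⊔ A}, ⁅V, (E : Subgroup G)⁆) = V := by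
  have hs := setup_mk hV hHV hf hS1
  have hgen := gen_isTv hs hS3
  obtain ⟨c₀, hc₀⟩ : ∃ c, IsTv p V H c := by
    by_contra hno
    push Not at hno
    refine hH1 (eq_bot_iff.2 (hgen.trans ?_))
    rw [Subgroup.closure_le]
    exact fun c hc => absurd hc (hno c)
  set ι := {E : Subgroup G // ∃ A : Subgroup G, A ≤ H ∧ Cfsg.IsBestOffenderOn p V A ∧ ⁅V, A⁆ ≠ ⊥ ∧
    (∀ B : Subgroup G, B ≤ A → Cfsg.IsBestOffenderOn p V B → ⁅V, B⁆ ≠ ⊥ → B = A) ∧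
    E = ⁅((Cfsg.pPrimeCore p ↥H).map H.subtype), A⁆ ⊔ A}
  have hex : ∀ E : ι, ∃ a, IsTv p V H a ∧ (E : Subgroup G) = epl p H a := by
    rintro ⟨_, A, hAH, hA, hAV, hmin, rfl⟩
    obtain ⟨a, ha, rfl⟩ := exists_tv_of_minimal hs hAH hA hAV hmin
    exact ⟨a, ha, rfl⟩
  choose f hf hfE using hex
  have hall : ∀ c, IsTv p V H c → ∃ E : ι, c ∈ epl p H (f E) := fun c hc => by
    refine ⟨⟨epl p H c, Subgroup.zpowers c, Subgroup.zpowers_le.2 hc.mem, best_of_isTv hs hc,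
      fun e => hc.ne (Subgroup.zpowers_eq_bot.1 ((commutator_eq_bot_iff_eq_bot hs
        (Subgroup.zpowers_le.2 hc.mem)).1 e)),
      fun C hC _ hCne => (eq_bot_or_eq_of_le_zpowers hc.pow hC).resolve_left fun e => hCne (by
        rw [e, Subgroup.commutator_bot_right]), rfl⟩, ?_⟩
    rw [← hfE]
    exact Subgroup.mem_sup_right (Subgroup.mem_zpowers c)
  have hinj : Function.Injective fun E : ι => epl p H (f E) := fun E E' h =>
    Subtype.ext ((hfE E).trans (h.trans (hfE E').symm))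
  obtain ⟨-, hind⟩ := iSupIndep_factors hs f hf hinj
  obtain ⟨hmod, hsup⟩ := iSupIndep_modules hs hgen f hf hinj hall
  refine ⟨(epl_data hs hc₀).small, fun E => ?_, ?_, le_antisymm (iSup_le fun E => ?_) (hgen.trans ?_), ?_, ?_⟩
  · rw [hfE E]
    exact ⟨(split_group hs hgen (hf E)).1, (epl_data hs (hf E)).iso, (epl_data hs (hf E)).card_W⟩
  · rw [show (fun E : ι => (E : Subgroup G)) = fun E => epl p H (f E) from funext hfE]
    exact hind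
  · rw [hfE E]; exact epl_le hs (hf E)
  · refine (Subgroup.closure_le _).2 fun c hc => ?_
    obtain ⟨E, hE⟩ := hall c hc
    exact Subgroup.mem_iSup_of_mem E (by rw [hfE E]; exact hE)
  · rw [show (fun o : Option ι => o.elim (V ⊓ Subgroup.centralizer (H : Set G)) (fun E => ⁅V, (E : Subgroup G)⁆)) =
      fun o => o.elim (fx V H) (fun E => pl p V H (f E)) from funext fun o => by
        cases o with
        | none => rfl
        | some E => simp only [Option.elim]; rw [hfE E]; rfl]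
    exact hmod
  · rw [show (fun E : ι => ⁅V, (E : Subgroup G)⁆) = fun E => pl p V H (f E) from funext fun E => by
      rw [hfE E]; rfl]
    exact hsup

end Cfsg.Agent.S0617
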