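import Cfsg.Statements.S1039
import Cfsg.Agent.Chev.Cox

set_option autoImplicit false
open Cfsg

namespace Cfsg.Agent.S1039

/-- `N/H ≅ W`: there is a surjective homomorphism from `N` onto the Coxeter group of the type (Mathlib's Coxeter matrix G₂, B₂, F₄, E₆, E₇, E₈, nodes numbered as the fundamental roots) with kernel `H`, mapping each `n_{p_i}` to the `i`-th simple reflection. -/
theorem result {F : Type*} [Field F]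
    (p : Cfsg.Lie.ChevalleyDatum × (Σ n : ℕ, CoxeterMatrix (Fin n)))
    (hp : p ∈ [(Cfsg.Lie.chevG2, ⟨2, CoxeterMatrix.G₂⟩), (Cfsg.Lie.chevB2, ⟨2, CoxeterMatrix.B 2⟩), (Cfsg.Lie.chevD4, ⟨4, Cfsg.Lie.coxeterD4⟩), (Cfsg.Lie.chevF4, ⟨4, CoxeterMatrix.F₄⟩),
      (Cfsg.Lie.chevE6, ⟨6, CoxeterMatrix.E₆⟩), (Cfsg.Lie.chevE7, ⟨7, CoxeterMatrix.E₇⟩), (Cfsg.Lie.chevE8, ⟨8, CoxeterMatrix.E₈⟩)]) :
    ∃ φ : ↥(p.1.monomialSubgroup F) →* p.2.2.Group, Function.Surjective φ ∧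
      φ.ker = (p.1.diagonalSubgroup F).subgroupOf (p.1.monomialSubgroup F) ∧
      ∀ (i : Fin p.2.1) (g : ↥(p.1.monomialSubgroup F)),
        ((g : GL p.1.Idx F) : Matrix p.1.Idx p.1.Idx F) = p.1.nMat F (p.1.simple i) 1 → φ g = p.2.2.simple i := by
  simp only [List.mem_cons, List.not_mem_nil, or_false] at hp
  rcases hp with rfl | rfl | rfl | rfl | rfl | rfl | rfl
  · exact Cfsg.Lib.Chev.Struct.exists_weylHom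
      ⟨Cfsg.Lib.Chev.G2.ok, Cfsg.Lib.Chev.G2.okChain_, Cfsg.Lib.Chev.G2.okBase_all, Cfsg.Lib.Chev.okOrder_G2⟩
      Cfsg.Lib.Chev.okNeg_G2 rfl _ Cfsg.Lib.Chev.cox_G2
  · exact Cfsg.Lib.Chev.Struct.exists_weylHom
      ⟨Cfsg.Lib.Chev.B2.ok, Cfsg.Lib.Chev.B2.okChain_, Cfsg.Lib.Chev.B2.okBase_all, Cfsg.Lib.Chev.okOrder_B2⟩
      Cfsg.Lib.Chev.okNeg_B2 rfl _ Cfsg.Lib.Chev.cox_B2
  · exact Cfsg.Lib.Chev.Struct.exists_weylHom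
      ⟨Cfsg.Lib.Chev.D4.ok, Cfsg.Lib.Chev.D4.okChain_, Cfsg.Lib.Chev.D4.okBase_all, Cfsg.Lib.Chev.okOrder_D4⟩
      Cfsg.Lib.Chev.okNeg_D4 rfl _ Cfsg.Lib.Chev.cox_D4
  · exact Cfsg.Lib.Chev.Struct.exists_weylHom
      ⟨Cfsg.Lib.Chev.F4.ok, Cfsg.Lib.Chev.F4.okChain_, Cfsg.Lib.Chev.F4.okBase_all, Cfsg.Lib.Chev.okOrder_F4⟩
      Cfsg.Lib.Chev.okNeg_F4 rfl _ Cfsg.Lib.Chev.cox_F4
  · exact Cfsg.Lib.Chev.Struct.exists_weylHom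
      ⟨Cfsg.Lib.Chev.E6.ok, Cfsg.Lib.Chev.E6.okChain_, Cfsg.Lib.Chev.E6.okBase_all, Cfsg.Lib.Chev.okOrder_E6⟩
      Cfsg.Lib.Chev.okNeg_E6 rfl _ Cfsg.Lib.Chev.cox_E6
  · exact Cfsg.Lib.Chev.Struct.exists_weylHom
      ⟨Cfsg.Lib.Chev.E7.ok, Cfsg.Lib.Chev.E7.okChain_, Cfsg.Lib.Chev.E7.okBase_all, Cfsg.Lib.Chev.okOrder_E7⟩
      Cfsg.Lib.Chev.okNeg_E7 rfl _ Cfsg.Lib.Chev.cox_E7
  · exact Cfsg.Lib.Chev.Struct.exists_weylHom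
      ⟨Cfsg.Lib.Chev.E8.ok, Cfsg.Lib.Chev.E8.okChain_, Cfsg.Lib.Chev.E8.okBase_all, Cfsg.Lib.Chev.okOrder_E8⟩
      Cfsg.Lib.Chev.okNeg_E8 rfl _ Cfsg.Lib.Chev.cox_E8

end Cfsg.Agent.S1039
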