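import Cfsg.Statements.S1077
import Cfsg.Agent.Chev.St.Present

set_option autoImplicit false
open Cfsg
open Cfsg.Lib.Chev Cfsg.Lib.Chev.St

namespace Cfsg.Agent.S1077

/-- Steinberg's Theorem: there is a homomorphism `x̄_r(t) ↦ x_r(t)` from the presented group onto the Chevalley group whose kernel is precisely the centre; hence `L(K) ≅ Ḡ/Z(Ḡ)`. -/
theorem result {K : Type*} [Field K] (D : Cfsg.Lie.ChevalleyDatum) (hD : D ∈ [Cfsg.Lie.chevG2, Cfsg.Lie.chevB2, Cfsg.Lie.chevD4, Cfsg.Lie.chevF4, Cfsg.Lie.chevE6, Cfsg.Lie.chevE7, Cfsg.Lie.chevE8]) :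
    ∃ θ : D.SteinbergGroup K →* ↥(D.group K), Function.Surjective θ ∧ θ.ker = Subgroup.center (D.SteinbergGroup K) ∧
      ∀ (r : ℕ) (t : K), r < D.nroots → ((θ (D.stGen K r t) : GL D.Idx K) : Matrix D.Idx D.Idx K) = D.x K r t := by
  obtain ⟨C, S, hN, ok⟩ := Cfsg.Lib.Chev.St.exists_okSt hD
  have hθ : ∀ r < D.nroots, ∀ t, toChev S (subset_refl (D.steinbergRels K)) (pgen (D.steinbergRels K) r t) =
      S.ok.xG r t := fun r hr t => toChev_pgen S _ hr t
  set P := presentedPres S hN ok ab_subset (toChev S (subset_refl (D.steinbergRels K))) hθ with hP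
  have hgen := presentedPres_gen_top S hN ok ab_subset (toChev S (subset_refl (D.steinbergRels K))) hθ
  have hran := range_eq_group P hgen
  refine ⟨(toChev S (subset_refl (D.steinbergRels K))).codRestrict (D.group K) fun g => hran ▸ ⟨g, rfl⟩, ?_, ?_,
    fun r t hr => ?_⟩
  · rintro ⟨y, hy⟩
    rw [← hran] at hy
    obtain ⟨g, rfl⟩ := hy
    exact ⟨g, rfl⟩
  · rw [MonoidHom.ker_codRestrict]
    exact ker_eq_center _ hran (center_group_bot hD) fun g hg => (P.kernel hgen hg).2
  · exact congrArg Units.val (hθ r hr t)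

end Cfsg.Agent.S1077
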