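import Cfsg.Statements.S2352
import Mathlib
import Cfsg.Agent.Known.FreeWords

set_option autoImplicit false
open Cfsg

namespace Cfsg.Agent.S2352

/-- A non-trivial law holds in only finitely many alternating groups: for every non-trivial element w of the free group on countably many generators there is N such that for all n ≥ N some substitution of elements of the alternating group of degree n into w is not the identity. -/
theorem result (w : FreeGroup ℕ) (hw : w ≠ 1) :
    ∃ N : ℕ, ∀ n : ℕ, N ≤ n → ∃ f : ℕ → alternatingGroup (Fin n), FreeGroup.lift f w ≠ 1 := by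
  classical
  obtain ⟨N, hN⟩ := Cfsg.Lib.Known.exists_word_value_ne w hw
  obtain ⟨p, hp, hpp⟩ := Nat.exists_infinite_primes N
  have := Fact.mk hpp
  obtain ⟨f, hf⟩ := hN (ZMod p) (by rw [ZMod.card]; exact hp)
  refine ⟨Fintype.card (Matrix.SpecialLinearGroup (Fin 2) (ZMod p)) + 2, fun n hn => ?_⟩
  obtain ⟨e, he⟩ := Cfsg.Lib.Known.exists_hom_alternating (Matrix.SpecialLinearGroup (Fin 2) (ZMod p)) n hn
  let φ : Matrix.SpecialLinearGroup (Fin 2) (ZMod p) →* alternatingGroup (Fin n) :=
    e.comp (MulAction.toPermHom (Matrix.SpecialLinearGroup (Fin 2) (ZMod p)) (Matrix.SpecialLinearGroup (Fin 2) (ZMod p)))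
  have hφ : Function.Injective φ := he.comp MulAction.toPerm_injective
  refine ⟨fun i => φ (f i), fun h => hf ?_⟩
  have hl : (φ.comp (FreeGroup.lift f)) = FreeGroup.lift (fun i => φ (f i)) := FreeGroup.ext_hom _ _ (by simp)
  have h1 : φ (FreeGroup.lift f w) = φ 1 := by
    rw [map_one, ← h, ← hl]; rfl
  rw [hφ h1]
  exact Subgroup.one_mem _
end Cfsg.Agent.S2352
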