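import Cfsg.Statements.S1072
import Cfsg.Agent.Chev.Ree.F4.Simple

set_option autoImplicit false
open Cfsg

namespace Cfsg.Agent.S1072

/-- ²F₄(2^(2m+1)) is simple for `m ≥ 1`. -/
theorem result {K : Type*} [Field K] [Fintype K] {m : ℕ} (hm : 1 ≤ m) (hK : Fintype.card K = 2 ^ (2 * m + 1)) :
    IsSimpleGroup ↥(Cfsg.Lie.twistedF4 K (2 ^ m)) ∧ ¬ IsMulCommutative ↥(Cfsg.Lie.twistedF4 K (2 ^ m)) := by
  obtain ⟨X, hm'⟩ := Cfsg.Lib.Chev.ReeF.exists_rf hK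
  have e : X.G1 = Cfsg.Lie.twistedF4 K (2 ^ m) := by rw [Cfsg.Lib.Chev.ReeF.RF.G1, Cfsg.Lib.Chev.ReeF.RF.e, hm']
  rw [← e]
  exact X.simple (hm' ▸ hm)

end Cfsg.Agent.S1072
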