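import Cfsg.Statements.S2544
import Cfsg.Agent.Known.SLBorelPair
import Cfsg.Agent.Chars.IrrTools
import Cfsg.Agent.Chars.Construct

set_option autoImplicit false
open Cfsg

namespace Cfsg.Agent.S2544

/-- Let F be a finite field of characteristic p and consider the projective special linear group PSL_n(F) with n ≥ 2. This group has an irreducible complex character χ whose degree equals the order of a Sylow p-subgroup (namely q^(n(n−1)/2) when #F = q) and whose restriction to any Sylow p-subgroup P is the regular character of P: χ vanishes on the non-identity elements of P. (This is the Steinberg character.) -/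
theorem result {F : Type*} [Field F] [Fintype F] (p : ℕ) [Fact p.Prime] [CharP F p] (n : ℕ) (hn : 2 ≤ n) : ∃ χ : Matrix.ProjectiveSpecialLinearGroup (Fin n) F → ℂ, Cfsg.IsIrrCharacter (Matrix.ProjectiveSpecialLinearGroup (Fin n) F) χ ∧ ∀ P : Sylow p (Matrix.ProjectiveSpecialLinearGroup (Fin n) F), χ 1 = Nat.card P ∧ ∀ x : Matrix.ProjectiveSpecialLinearGroup (Fin n) F, x ∈ P → x ≠ 1 → χ x = 0 := by
  classical
  set π := QuotientGroup.mk' (Subgroup.center (Matrix.SpecialLinearGroup (Fin n) F)) with hπ
  have hsplit := Cfsg.Lib.SLBN.split (n := n) (F := F) p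
  have hopp := Cfsg.Lib.SLBN.opp (n := n) (F := F)
  set P0 := Cfsg.Lib.SLBN.pair n F with hP0
  have hirr := Cfsg.Lib.Steinberg.isIrr_st hsplit hopp
  have hZB : Subgroup.center (Matrix.SpecialLinearGroup (Fin n) F) ≤ P0.B := by
    intro z hz
    obtain ⟨r, -, hr⟩ := Matrix.SpecialLinearGroup.mem_center_iff.1 hz
    refine Cfsg.Lib.SLBN.mem_B.2 fun i j hij => ?_
    rw [← hr, Matrix.scalar_apply, Matrix.diagonal_apply_ne _ hij.ne']
  have hcst : ∀ z ∈ π.ker, Cfsg.Lib.Steinberg.st P0 z = Cfsg.Lib.Steinberg.st P0 1 := by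
    intro z hz
    rw [hπ, QuotientGroup.ker_mk'] at hz
    refine Finset.sum_congr rfl fun K _ => ?_
    congr 1
    unfold Cfsg.fixedPointCharacter
    congr 1
    apply Nat.card_congr
    refine Equiv.subtypeEquivRight fun x => ?_
    induction x using QuotientGroup.induction_on with
    | _ y =>
      simp only [MulAction.mem_fixedBy, one_smul, iff_true]
      show (QuotientGroup.mk (z * y) : Matrix.SpecialLinearGroup (Fin n) F ⧸ P0.parabolic (K : Set _)) = QuotientGroup.mk y
      rw [← Subgroup.mem_center_iff.1 hz y, QuotientGroup.mk_mul_of_mem]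
      exact Subgroup.mem_sup_left (hZB hz)
  obtain ⟨χ, hχ, hfac⟩ := Cfsg.Lib.Chars.exists_factor π (QuotientGroup.mk'_surjective _)
    (Cfsg.Lib.Chars.isCharacter_of_irr hirr) hcst
  refine ⟨χ, Cfsg.Lib.Chars.IsIrrCharacter.descend hχ π (QuotientGroup.mk'_surjective _) (hfac ▸ hirr), ?_⟩
  intro P
  have hZc : ¬ p ∣ Nat.card (Subgroup.center (Matrix.SpecialLinearGroup (Fin n) F)) := by
    intro hd
    refine hsplit.coprime (hd.trans (Subgroup.card_dvd_of_le (le_inf hZB ?_)))
    intro z hz
    obtain ⟨r, -, hr⟩ := Matrix.SpecialLinearGroup.mem_center_iff.1 hz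
    exact ⟨1, fun i j hij => by rw [← hr, Matrix.scalar_apply, Matrix.diagonal_apply_ne _ (by simpa using hij)]⟩
  have hcardP : Nat.card P = Nat.card (Cfsg.Lib.SLBN.U n F) := by
    rw [P.card_eq_multiplicity, ← Cfsg.Lib.Steinberg.factorization_eq hsplit]
    congr 1
    have h := Subgroup.card_eq_card_quotient_mul_card_subgroup (Subgroup.center (Matrix.SpecialLinearGroup (Fin n) F))
    rw [h, Nat.factorization_mul Nat.card_pos.ne' Nat.card_pos.ne', Finsupp.add_apply,
      Nat.factorization_eq_zero_of_not_dvd hZc, add_zero]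
  constructor
  · rw [hcardP, ← Cfsg.Lib.Steinberg.st_one hsplit hopp, hfac]
    simp [π]
  · intro x hx hx1
    obtain ⟨g, rfl⟩ := QuotientGroup.mk_surjective x
    have h2 : p ∣ orderOf (π g) := by
      obtain ⟨k, hk⟩ := IsPGroup.iff_orderOf.1 P.2 ⟨π g, hx⟩
      rw [← Subgroup.orderOf_coe] at hk
      rcases k with _ | k
      · exact absurd (orderOf_eq_one_iff.1 (by rw [hk, pow_zero]) : π g = 1) hx1
      · exact hk ▸ dvd_pow_self p k.succ_ne_zero
    have h0 := Cfsg.Lib.Steinberg.st_eq_zero hsplit hopp (h2.trans (orderOf_map_dvd π g))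
    rw [hfac] at h0
    exact h0

end Cfsg.Agent.S2544
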