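import Cfsg.Statements.S2566
import Cfsg.Agent.Classical.Orth.Orders

set_option autoImplicit false
open Cfsg

namespace Cfsg.Agent.S2566

open Matrix

/-- the three non-zero vectors of the plane over `ZMod 2` -/
def vec3 : Fin 3 → Fin 2 → ZMod 2 := ![![1, 0], ![0, 1], ![1, 1]]

/-- the linear map of the plane inducing a permutation of its non-zero vectors -/
def plane (σ : Equiv.Perm (Fin 3)) (a b : Fin 2) : ZMod 2 := vec3 (σ (if b = 0 then 0 else 1)) a

/-- coordinates as a two by two matrix -/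
def coord : Fin 2 ⊕ Fin 2 → Fin 2 × Fin 2 :=
  Sum.elim ![(0, 0), (0, 1)] ![(1, 1), (1, 0)]

/-- left action -/
def lMat (σ : Equiv.Perm (Fin 3)) : Matrix (Fin 2 ⊕ Fin 2) (Fin 2 ⊕ Fin 2) (ZMod 2) :=
  fun i j => if (coord i).2 = (coord j).2 then plane σ (coord i).1 (coord j).1 else 0

/-- right action -/
def rMat (σ : Equiv.Perm (Fin 3)) : Matrix (Fin 2 ⊕ Fin 2) (Fin 2 ⊕ Fin 2) (ZMod 2) :=
  fun i j => if (coord i).1 = (coord j).1 then plane σ (coord i).2 (coord j).2 else 0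

/-- the transposition -/
def tMat : Matrix (Fin 2 ⊕ Fin 2) (Fin 2 ⊕ Fin 2) (ZMod 2) :=
  fun i j => if coord i = ((coord j).2, (coord j).1) then 1 else 0

theorem lMat_one : lMat 1 = 1 := by decide +kernel
theorem rMat_one : rMat 1 = 1 := by decide +kernel
theorem lMat_mul : ∀ a b : Equiv.Perm (Fin 3), lMat (a * b) = lMat a * lMat b := by decide +kernel
theorem rMat_mul : ∀ a b : Equiv.Perm (Fin 3), rMat (a * b) = rMat a * rMat b := by decide +kernel
theorem comm_lr : ∀ a b : Equiv.Perm (Fin 3), lMat a * rMat b = rMat b * lMat a := by decide +kernel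
theorem disjoint_lr : ∀ a b : Equiv.Perm (Fin 3), lMat a = rMat b → a = 1 ∧ b = 1 := by decide +kernel
theorem lMat_inj : ∀ a b : Equiv.Perm (Fin 3), lMat a = lMat b → a = b := by decide +kernel
theorem rMat_inj : ∀ a b : Equiv.Perm (Fin 3), rMat a = rMat b → a = b := by decide +kernel
theorem tMat_sq : tMat * tMat = 1 := by decide +kernel
theorem tMat_conj : ∀ a : Equiv.Perm (Fin 3), tMat * lMat a * tMat = rMat a := by decide +kernel
theorem lMat_form : ∀ (a : Equiv.Perm (Fin 3)) (v : Fin 2 ⊕ Fin 2 → ZMod 2),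
    Cfsg.quadFormPlus 2 (ZMod 2) (lMat a *ᵥ v) = Cfsg.quadFormPlus 2 (ZMod 2) v := by
  unfold Cfsg.quadFormPlus; decide +kernel
theorem rMat_form : ∀ (a : Equiv.Perm (Fin 3)) (v : Fin 2 ⊕ Fin 2 → ZMod 2),
    Cfsg.quadFormPlus 2 (ZMod 2) (rMat a *ᵥ v) = Cfsg.quadFormPlus 2 (ZMod 2) v := by
  unfold Cfsg.quadFormPlus; decide +kernel
theorem tMat_form : ∀ v : Fin 2 ⊕ Fin 2 → ZMod 2,
    Cfsg.quadFormPlus 2 (ZMod 2) (tMat *ᵥ v) = Cfsg.quadFormPlus 2 (ZMod 2) v := by
  unfold Cfsg.quadFormPlus; decide +kernel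


/-- The full orthogonal group of the plus-type form x₁y₁ + x₂y₂ in dimension 4 over the field of two elements has order 72 and is isomorphic to the wreath product of the symmetric group of degree 3 by a group of order 2: it has a normal subgroup isomorphic to the direct product of two symmetric groups of degree 3, of index 2, whose two direct factors are interchanged by conjugation by some element. -/
theorem result :
    Nat.card ↥(Cfsg.isometryGroup (ZMod 2) (Cfsg.quadFormPlus 2 (ZMod 2))) = 72 ∧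
    ∃ (A B : Subgroup ↥(Cfsg.isometryGroup (ZMod 2) (Cfsg.quadFormPlus 2 (ZMod 2)))),
      Nonempty (↥A ≃* Equiv.Perm (Fin 3)) ∧ Nonempty (↥B ≃* Equiv.Perm (Fin 3)) ∧ A ⊓ B = ⊥ ∧ (∀ a ∈ A, ∀ b ∈ B, a * b = b * a) ∧
      (A ⊔ B).index = 2 ∧ ∃ g : ↥(Cfsg.isometryGroup (ZMod 2) (Cfsg.quadFormPlus 2 (ZMod 2))), A.map (MulAut.conj g).toMonoidHom = B := by
  have hcard : Nat.card ↥(Cfsg.isometryGroup (ZMod 2) (Cfsg.quadFormPlus 2 (ZMod 2))) = 72 := by
    haveI : Fact (Nat.Prime 2) := ⟨Nat.prime_two⟩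
    have h := Cfsg.Lib.Classical.OrthCard.card_plus (F := ZMod 2) 1
    rw [h]
    simp [Cfsg.Lib.Classical.OrthCard.prodQ]
  have main : ∀ [Fact (Nat.Prime 2)],
      ∃ (A B : Subgroup ↥(Cfsg.isometryGroup (ZMod 2) (Cfsg.quadFormPlus 2 (ZMod 2)))),
      Nonempty (↥A ≃* Equiv.Perm (Fin 3)) ∧ Nonempty (↥B ≃* Equiv.Perm (Fin 3)) ∧ A ⊓ B = ⊥ ∧ (∀ a ∈ A, ∀ b ∈ B, a * b = b * a) ∧
      (A ⊔ B).index = 2 ∧ ∃ g : ↥(Cfsg.isometryGroup (ZMod 2) (Cfsg.quadFormPlus 2 (ZMod 2))), A.map (MulAut.conj g).toMonoidHom = B := by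
    intro _
    let l0 : Equiv.Perm (Fin 3) →* Matrix (Fin 2 ⊕ Fin 2) (Fin 2 ⊕ Fin 2) (ZMod 2) :=
      { toFun := lMat, map_one' := lMat_one, map_mul' := lMat_mul }
    let r0 : Equiv.Perm (Fin 3) →* Matrix (Fin 2 ⊕ Fin 2) (Fin 2 ⊕ Fin 2) (ZMod 2) :=
      { toFun := rMat, map_one' := rMat_one, map_mul' := rMat_mul }
    let l : Equiv.Perm (Fin 3) →* ↥(Cfsg.isometryGroup (ZMod 2) (Cfsg.quadFormPlus 2 (ZMod 2))) :=
      l0.toHomUnits.codRestrict _ (fun a u _ => lMat_form a u)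
    let r : Equiv.Perm (Fin 3) →* ↥(Cfsg.isometryGroup (ZMod 2) (Cfsg.quadFormPlus 2 (ZMod 2))) :=
      r0.toHomUnits.codRestrict _ (fun a u _ => rMat_form a u)
    have hl : ∀ a, ((l a).1 : Matrix (Fin 2 ⊕ Fin 2) (Fin 2 ⊕ Fin 2) (ZMod 2)) = lMat a := fun a => rfl
    have hr : ∀ a, ((r a).1 : Matrix (Fin 2 ⊕ Fin 2) (Fin 2 ⊕ Fin 2) (ZMod 2)) = rMat a := fun a => rfl
    have linj : Function.Injective l := fun a b e => lMat_inj a b (by rw [← hl, ← hl, e])
    have rinj : Function.Injective r := fun a b e => rMat_inj a b (by rw [← hr, ← hr, e])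
    have hcomm : ∀ a b, Commute (l a) (r b) := fun a b =>
      Subtype.ext (Units.ext (comm_lr a b))
    have hdis : l.range ⊓ r.range = ⊥ := by
      rw [eq_bot_iff]
      rintro x ⟨⟨a, rfl⟩, ⟨b, hb⟩⟩
      rw [Subgroup.mem_bot, (disjoint_lr a b (by rw [← hl, ← hr, hb])).1, map_one]
    refine ⟨l.range, r.range, ⟨(MonoidHom.ofInjective linj).symm⟩, ⟨(MonoidHom.ofInjective rinj).symm⟩,
      hdis, ?_, ?_, ?_⟩
    · rintro _ ⟨a, rfl⟩ _ ⟨b, rfl⟩
      exact (hcomm a b).eq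
    · let φ := MonoidHom.noncommCoprod l r hcomm
      have hinj : Function.Injective φ := by
        rw [injective_iff_map_eq_one]
        rintro ⟨a, b⟩ hab
        change l a * r b = 1 at hab
        have e : l a = r b⁻¹ := by rw [map_inv]; exact eq_inv_of_mul_eq_one_left hab
        obtain ⟨ha, hb⟩ := disjoint_lr a b⁻¹ (by rw [← hl, ← hr, e])
        rw [inv_eq_one] at hb
        rw [ha, hb]; rfl
      have hc : Nat.card ↥(l.range ⊔ r.range) = 36 := by
        rw [← MonoidHom.noncommCoprod_range l r hcomm,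
          ← Nat.card_congr (MonoidHom.ofInjective hinj).toEquiv, Nat.card_prod, Nat.card_perm,
          Nat.card_fin]
        decide
      have := Subgroup.card_mul_index (l.range ⊔ r.range)
      rw [hc, hcard] at this
      omega
    · let t : ↥(Cfsg.isometryGroup (ZMod 2) (Cfsg.quadFormPlus 2 (ZMod 2))) :=
        ⟨⟨tMat, tMat, tMat_sq, tMat_sq⟩, fun u _ => tMat_form u⟩
      refine ⟨t, ?_⟩
      have ht : ∀ a, t * l a * t⁻¹ = r a := fun a => Subtype.ext (Units.ext (tMat_conj a))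
      rw [MonoidHom.map_range]
      congr 1
      ext a : 1
      exact ht a
  haveI : Fact (Nat.Prime 2) := ⟨Nat.prime_two⟩
  exact ⟨hcard, main⟩

end Cfsg.Agent.S2566
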