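import Cfsg.Statements.S2469
import Cfsg.Agent.Classical.Misc.SylowLargeSymp
import Cfsg.Agent.Classical.Misc.PrimeOrbitSymp
import Cfsg.Agent.Known.SLTwo.Torus

set_option autoImplicit false
open Cfsg

namespace Cfsg.Agent.S2469

open Matrix

theorem exists_sp_element {F : Type*} [Field F] [Fintype F] (p : ℕ) [Fact p.Prime] [CharP F p] (e N : ℕ) (he : 1 ≤ e)
    (heN : e ≤ N) (m : ℕ)
    (hm : m ∣ Fintype.card F ^ e - 1 ∨ m ∣ Fintype.card F ^ e + 1) :
    ∃ x : Matrix.symplecticGroup (Fin N) F, orderOf x = m := by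
  haveI : NeZero e := ⟨by omega⟩
  let K := FiniteField.Extension F p e
  have hcK : Nat.card K = Fintype.card F ^ e := by rw [FiniteField.natCard_extension, Nat.card_eq_fintype_card]
  haveI : Finite K := Nat.finite_of_card_ne_zero (by rw [hcK]; exact pow_ne_zero _ Fintype.card_pos.ne')
  haveI := Fintype.ofFinite K
  rw [Nat.card_eq_fintype_card] at hcK
  obtain ⟨t, ht⟩ := Cfsg.Lib.SylowLarge.exists_sp_embedding (F := F) K N 1 (by
    rw [FiniteField.finrank_extension, one_mul]; exact heN)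
  suffices h : ∃ s : Matrix.SpecialLinearGroup (Fin 2) K, orderOf s = m by
    obtain ⟨s, hs⟩ := h
    refine ⟨t (fun _ => s), ?_⟩
    rw [orderOf_injective t ht]
    exact (orderOf_injective (MonoidHom.pi fun _ : Fin 1 => MonoidHom.id _)
      (fun a b h => congrFun h 0) s).trans hs
  rcases hm with hm | hm
  · obtain ⟨s, hs⟩ := Cfsg.Lib.GLTwo.exists_orderOf_sub_one (F := K)
    rw [← hcK] at hm
    exact ⟨s ^ (orderOf s / m), orderOf_pow_orderOf_div (orderOf_pos s).ne' (hs.symm ▸ hm)⟩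
  · obtain ⟨s, hs⟩ := Cfsg.Lib.GLTwo.exists_orderOf_add_one (F := K)
    rw [← hcK] at hm
    exact ⟨s ^ (orderOf s / m), orderOf_pow_orderOf_div (orderOf_pos s).ne' (hs.symm ▸ hm)⟩

/-- `q^η ≡ ±1` modulo `t` -/
theorem half_facts {q t d η : ℕ} [Fact t.Prime] (hq : 1 ≤ q) (hd : d = orderOf (q : ZMod t)) (hd0 : 0 < d)
    (hη : (Odd d ∧ η = d) ∨ (Even d ∧ 2 * η = d)) :
    (Odd d → t ∣ q ^ η - 1) ∧ (Even d → (q : ZMod t) ^ η = -1 ∧ t ∣ q ^ η + 1) := by
  constructor
  · intro hodd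
    rcases hη with ⟨-, rfl⟩ | ⟨he, -⟩
    · rw [← ZMod.natCast_eq_zero_iff, Nat.cast_sub (Nat.one_le_pow _ _ hq), Nat.cast_pow, Nat.cast_one, hd,
        pow_orderOf_eq_one, sub_self]
    · exact absurd he (Nat.not_even_iff_odd.2 hodd)
  · intro he
    rcases hη with ⟨hodd, -⟩ | ⟨-, hη⟩
    · exact absurd he (Nat.not_even_iff_odd.2 hodd)
    · have h1 : ((q : ZMod t) ^ η) * ((q : ZMod t) ^ η) = 1 := by
        rw [← pow_add, ← two_mul, hη, hd, pow_orderOf_eq_one]
      have h2 : (q : ZMod t) ^ η ≠ 1 := fun h => by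
        have := Nat.le_of_dvd (by omega) (orderOf_dvd_of_pow_eq_one h)
        omega
      have h3 := (mul_self_eq_one_iff.1 h1).resolve_left h2
      refine ⟨h3, ?_⟩
      rw [← ZMod.natCast_eq_zero_iff, Nat.cast_add, Nat.cast_pow, Nat.cast_one, h3, neg_add_cancel]

/-- Adjacency of two odd primes in the prime graph of PSp(2n,q): let F be a finite field of characteristic p with q elements, n ≥ 2 with PSp(2n,F) simple, and let r ≠ s be odd primes different from p dividing the order of PSp(2n,F). Let k, l be the multiplicative orders of q modulo r and s, put η(m) = m for odd m and η(m) = m/2 for even m, and suppose η(k) ≤ η(l). Then PSp(2n,F) has NO element of order r·s if and only if η(k) + η(l) > n and l/k is not an odd integer. -/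
theorem result {F : Type*} [Field F] [Fintype F] (p : ℕ) [Fact p.Prime] [CharP F p] (n : ℕ) (hn : 2 ≤ n) (hsmall : n = 2 → 3 ≤ Fintype.card F)
    (r s : ℕ) (hr : r.Prime) (hs : s.Prime) (hr2 : r ≠ 2) (hs2 : s ≠ 2) (hrp : r ≠ p) (hsp : s ≠ p) (hrs : r ≠ s)
    (hrG : r ∣ Nat.card (Cfsg.PSp n F)) (hsG : s ∣ Nat.card (Cfsg.PSp n F))
    (k l ηk ηl : ℕ) (hk : k = orderOf ((Fintype.card F : ℕ) : ZMod r)) (hl : l = orderOf ((Fintype.card F : ℕ) : ZMod s))
    (hηk : (Odd k ∧ ηk = k) ∨ (Even k ∧ 2 * ηk = k)) (hηl : (Odd l ∧ ηl = l) ∨ (Even l ∧ 2 * ηl = l)) (hkl : ηk ≤ ηl) :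
    (r * s ∉ Set.range (orderOf : Cfsg.PSp n F → ℕ)) ↔ (n < ηk + ηl ∧ ¬ ∃ t : ℕ, Odd t ∧ l = k * t) := by
  classical
  haveI := Fact.mk hr
  haveI := Fact.mk hs
  have hp : p.Prime := Fact.out
  have hq1 : 1 ≤ Fintype.card F := Fintype.card_pos
  have hnd : ∀ t : ℕ, t.Prime → t ≠ p → ¬ t ∣ Fintype.card F := fun t ht htp hd => by
    obtain ⟨j, -, hj⟩ := FiniteField.card F p
    rw [hj] at hd
    exact htp ((Nat.prime_dvd_prime_iff_eq ht hp).1 (ht.dvd_of_dvd_pow hd))
  have hpos : ∀ (t : ℕ), t.Prime → t ≠ p → 0 < orderOf ((Fintype.card F : ℕ) : ZMod t) := fun t ht htp => by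
    haveI := Fact.mk ht
    exact orderOf_pos_iff.2 (isOfFinOrder_iff_pow_eq_one.2 ⟨t - 1, by have := ht.two_le; omega,
      ZMod.pow_card_sub_one_eq_one fun h => hnd t ht htp ((ZMod.natCast_eq_zero_iff _ t).1 h)⟩)
  have hk0 : 0 < k := hk ▸ hpos r hr hrp
  have hl0 : 0 < l := hl ▸ hpos s hs hsp
  have hcZ : (Nat.card (Subgroup.center (Matrix.symplecticGroup (Fin n) F))).Coprime (r * s) := by
    rw [Cfsg.Lib.Classical.card_center_symplecticGroup (by omega)]
    refine Nat.Coprime.coprime_dvd_left (Nat.gcd_dvd_left _ _) ?_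
    exact Nat.Coprime.mul_right ((Nat.coprime_primes Nat.prime_two hr).2 hr2.symm)
      ((Nat.coprime_primes Nat.prime_two hs).2 hs2.symm)
  have hln : ηl ≤ n := by
    have hsSp : s ∣ Nat.card (Matrix.symplecticGroup (Fin n) F) := hsG.trans (Subgroup.card_quotient_dvd_card _)
    rw [Cfsg.Lib.Classical.card_symplecticGroup, Nat.card_eq_fintype_card] at hsSp
    rcases hs.dvd_mul.1 hsSp with h | h
    · exact absurd (hs.dvd_of_dvd_pow h) (hnd s hs hsp)
    obtain ⟨i, hi, hd⟩ := (Prime.dvd_finsetProd_iff hs.prime _).1 h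
    rw [Finset.mem_range] at hi
    have h2 : l ∣ 2 * (i + 1) := by
      rw [hl, orderOf_dvd_iff_pow_eq_one]
      rw [← ZMod.natCast_eq_zero_iff, Nat.cast_sub (Nat.one_le_pow _ _ hq1), Nat.cast_pow, Nat.cast_one,
        sub_eq_zero] at hd
      exact hd
    rcases hηl with ⟨hodd, rfl⟩ | ⟨-, hη⟩
    · have := Nat.le_of_dvd (by omega) ((Nat.coprime_two_right.2 hodd).dvd_of_dvd_mul_left h2)
      omega
    · have := Nat.le_of_dvd (by omega) h2
      omega
  have hrs2 : 1 < r * s := by have := hr.two_le; have := hs.two_le; nlinarith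
  have hηk0 : 1 ≤ ηk := by rcases hηk with ⟨-, h⟩ | ⟨-, h⟩ <;> omega
  have hηl0 : 1 ≤ ηl := by omega
  obtain ⟨fk1, fk2⟩ := half_facts hq1 hk hk0 hηk
  obtain ⟨fl1, fl2⟩ := half_facts hq1 hl hl0 hηl
  have hcop : Nat.Coprime r s := (Nat.coprime_primes hr hs).2 hrs
  constructor
  · intro hno
    by_contra hc
    apply hno
    suffices h : ∃ X : Matrix.symplecticGroup (Fin n) F, orderOf X = r * s by
      obtain ⟨X, hX⟩ := h
      exact ⟨_, Cfsg.Lib.PrimeOrbit.orderOf_mk_of_coprime hcZ X hX⟩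
    by_cases hsum : ηk + ηl ≤ n
    · obtain ⟨x, hx⟩ := exists_sp_element (F := F) p ηk ηk hηk0 le_rfl r
        ((Nat.even_or_odd k).elim (fun h => Or.inr (fk2 h).2) (fun h => Or.inl (fk1 h)))
      obtain ⟨m, rfl⟩ : ∃ m, n = ηk + m := ⟨n - ηk, by omega⟩
      obtain ⟨y, hy⟩ := exists_sp_element (F := F) p ηl m hηl0 (by omega) s
        ((Nat.even_or_odd l).elim (fun h => Or.inr (fl2 h).2) (fun h => Or.inl (fl1 h)))
      refine ⟨Cfsg.Lib.PrimeOrbitSymp.blockSp ηk m (x, y), ?_⟩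
      rw [orderOf_injective _ (Cfsg.Lib.PrimeOrbitSymp.blockSp_injective ηk m), Prod.orderOf, hx, hy]
      exact hcop.lcm_eq_mul
    · obtain ⟨t, htodd, hlt⟩ : ∃ t, Odd t ∧ l = k * t := by
        by_contra h
        exact hc ⟨by omega, h⟩
      refine exists_sp_element (F := F) p ηl n hηl0 hln (r * s) ?_
      rcases Nat.even_or_odd l with he | ho
      · right
        have hke : Even k := by
          by_contra h
          rw [hlt] at he
          exact Nat.not_odd_iff_even.2 he ((Nat.not_even_iff_odd.1 h).mul htodd)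
        refine hcop.mul_dvd_of_dvd_of_dvd ?_ (fl2 he).2
        rw [← ZMod.natCast_eq_zero_iff, Nat.cast_add, Nat.cast_pow, Nat.cast_one]
        have h1 : ηl = ηk * t := by
          rcases hηk with ⟨h, -⟩ | ⟨-, h⟩
          · exact absurd hke (Nat.not_even_iff_odd.2 h)
          rcases hηl with ⟨h', -⟩ | ⟨-, h'⟩
          · exact absurd he (Nat.not_even_iff_odd.2 h')
          rw [← h, ← h', mul_assoc] at hlt
          omega
        rw [h1, pow_mul, (fk2 hke).1, htodd.neg_one_pow, neg_add_cancel]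
      · left
        have hle : ηl = l := by
          rcases hηl with ⟨-, h⟩ | ⟨h, -⟩
          · exact h
          · exact absurd h (Nat.not_even_iff_odd.2 ho)
        refine hcop.mul_dvd_of_dvd_of_dvd ?_ (fl1 ho)
        rw [hle, ← ZMod.natCast_eq_zero_iff, Nat.cast_sub (Nat.one_le_pow _ _ hq1), Nat.cast_pow, Nat.cast_one,
          hlt, pow_mul, hk, pow_orderOf_eq_one, one_pow, sub_self]
  · rintro ⟨hlt, hnt⟩ ⟨g, hg⟩
    obtain ⟨X, -, hX⟩ := Cfsg.Lib.PrimeOrbit.exists_lift_coprime hrs2 hcZ g hg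
    have hM : orderOf (X : Matrix (Fin n ⊕ Fin n) (Fin n ⊕ Fin n) F) = r * s := by
      rw [← hX]
      exact orderOf_injective (Matrix.symplecticGroup (Fin n) F).subtype Subtype.val_injective X
    have hinv : ∀ z : AlgebraicClosure F, z ≠ 0 →
        ((X : Matrix (Fin n ⊕ Fin n) (Fin n ⊕ Fin n) F).map (algebraMap F (AlgebraicClosure F))).charpoly.IsRoot z →
        ((X : Matrix (Fin n ⊕ Fin n) (Fin n ⊕ Fin n) F).map (algebraMap F (AlgebraicClosure F))).charpoly.IsRoot z⁻¹ := by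
      refine Cfsg.Lib.PrimeOrbitSymp.isRoot_inv _ ?_
      have hJ : (Matrix.J (Fin n) F).map (algebraMap F (AlgebraicClosure F)) = Matrix.J (Fin n) (AlgebraicClosure F) := by
        ext (i | i) (j | j) <;> simp [Matrix.J, Matrix.one_apply] <;> split <;> simp_all
      rw [← hJ, ← Matrix.transpose_map, ← Matrix.map_mul, ← Matrix.map_mul, SymplecticGroup.mem_iff.1 X.2]
    have hk2 : k ≤ 2 * ηk := by rcases hηk with ⟨-, h⟩ | ⟨-, h⟩ <;> omega
    have hl2 : l ≤ 2 * ηl ∧ ηl ≤ l := by rcases hηl with ⟨-, h⟩ | ⟨-, h⟩ <;> omega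
    rcases Cfsg.Lib.PrimeOrbitSymp.orbit_bound (p := p) (N := n + n) (by simp) hr hs hr2 hs2 hrp hsp hrs _ hM hinv
      hk hl hηk hηl with h | ⟨h1, h2⟩
    · omega
    obtain ⟨c, hc⟩ := Nat.dvd_lcm_right k l
    have hc0 : c ≠ 0 := fun h => by
      rw [h, mul_zero, Nat.lcm_eq_zero_iff] at hc
      omega
    by_cases hno : ∀ i, ¬ (((Fintype.card F : ℕ) : ZMod r) ^ i = -1 ∧ ((Fintype.card F : ℕ) : ZMod s) ^ i = -1)
    · have h3 := h2 hno
      have hc1 : c = 1 := by
        by_contra hne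
        have := Nat.mul_le_mul_left l (show 2 ≤ c by omega)
        omega
      rw [hc1, mul_one] at hc
      obtain ⟨t, ht⟩ : k ∣ l := hc ▸ Nat.dvd_lcm_left k l
      refine hnt ⟨t, ?_, ht⟩
      by_contra hto
      obtain ⟨u, rfl⟩ := Nat.not_odd_iff_even.1 hto
      have hle : Even l := ⟨k * u, by rw [ht]; ring⟩
      have hl2' : 2 * ηl = l := by
        rcases hηl with ⟨h, -⟩ | ⟨-, h⟩
        · exact absurd hle (Nat.not_even_iff_odd.2 h)
        · exact h
      omega
    · push Not at hno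
      obtain ⟨i, hir, his⟩ := hno
      have heven : ∀ (t d η : ℕ), t.Prime → t ≠ 2 → d = orderOf ((Fintype.card F : ℕ) : ZMod t) →
          ((Fintype.card F : ℕ) : ZMod t) ^ i = -1 → ((Odd d ∧ η = d) ∨ (Even d ∧ 2 * η = d)) →
          2 * η = d ∧ ¬ d ∣ i ∧ d ∣ 2 * i := by
        intro t d η ht ht2 hd hi hη
        haveI := Fact.mk ht
        have hd2 : d ∣ 2 * i := by
          rw [hd, orderOf_dvd_iff_pow_eq_one, mul_comm, pow_mul, hi, neg_one_sq]
        have hnd' : ¬ d ∣ i := fun h => by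
          rw [hd, orderOf_dvd_iff_pow_eq_one, hi] at h
          have h6 : ((2 : ℕ) : ZMod t) = 0 := by push_cast; linear_combination -h
          rw [ZMod.natCast_eq_zero_iff] at h6
          exact ht2 ((Nat.prime_dvd_prime_iff_eq ht Nat.prime_two).1 h6)
        rcases hη with ⟨hodd, -⟩ | ⟨-, h⟩
        · exact absurd ((Nat.coprime_two_right.2 hodd).dvd_of_dvd_mul_left hd2) hnd'
        · exact ⟨h, hnd', hd2⟩
      obtain ⟨hk3, hki, -⟩ := heven r k ηk hr hr2 hk hir hηk
      obtain ⟨hl3, -, hli⟩ := heven s l ηl hs hs2 hl his hηl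
      have hc1 : c = 1 := by
        by_contra hne
        have := Nat.mul_le_mul_left l (show 2 ≤ c by omega)
        omega
      rw [hc1, mul_one] at hc
      obtain ⟨t, ht⟩ : k ∣ l := hc ▸ Nat.dvd_lcm_left k l
      refine hnt ⟨t, ?_, ht⟩
      by_contra hto
      obtain ⟨u, rfl⟩ := Nat.not_odd_iff_even.1 hto
      apply hki
      obtain ⟨w, hw⟩ := hli
      have hiw : i = k * (u * w) := by
        have : 2 * i = 2 * (k * (u * w)) := by rw [hw, ht]; ring
        omega
      exact ⟨u * w, hiw⟩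

end Cfsg.Agent.S2469
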