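import Cfsg.Statements.S2420

set_option autoImplicit false
open scoped MatrixGroups
open Cfsg

namespace Cfsg.Agent.S2420

open Matrix

theorem two_sum_range (m : ℕ) : 2 * (∑ i ∈ Finset.range m, i) + m = m * m := by
  have := Finset.sum_range_id_mul_two m
  rcases m with _ | m
  · simp
  · simp only [Nat.add_sub_cancel] at this
    nlinarith [this]

theorem gl_formula {F : Type*} [Field F] [Fintype F] (m : ℕ) :
    ∏ i : Fin m, (Fintype.card F ^ m - Fintype.card F ^ (i : ℕ)) =
      Fintype.card F ^ (∑ i ∈ Finset.range m, i) * (Fintype.card F - 1) ^ m *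
        ∏ j ∈ Finset.range m, ∑ l ∈ Finset.range (j + 1), Fintype.card F ^ l := by
  rw [Fin.prod_univ_eq_prod_range (fun i => Fintype.card F ^ m - Fintype.card F ^ i) m]
  have h1 : 1 ≤ Fintype.card F := Fintype.card_pos
  have e : ∀ i ∈ Finset.range m, Fintype.card F ^ m - Fintype.card F ^ i =
      Fintype.card F ^ i * (Fintype.card F ^ (m - 1 - i + 1) - 1) := by
    intro i hi
    rw [Finset.mem_range] at hi
    rw [Nat.mul_sub_one, ← pow_add, show i + (m - 1 - i + 1) = m by omega]
  rw [Finset.prod_congr rfl e, Finset.prod_mul_distrib, Finset.prod_pow_eq_pow_sum,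
    Finset.prod_range_reflect (fun k => Fintype.card F ^ (k + 1) - 1) m, mul_assoc]
  congr 1
  rw [show (Fintype.card F - 1) ^ m = ∏ _j ∈ Finset.range m, (Fintype.card F - 1) by simp,
    ← Finset.prod_mul_distrib]
  refine Finset.prod_congr rfl fun j _ => ?_
  rw [mul_comm, geom_sum_mul_of_one_le h1]

theorem card_det_ne_zero {F : Type*} [Field F] [Fintype F] {ι : Type*} [Fintype ι] [DecidableEq ι] :
    Nat.card {A : Matrix ι ι F // A.det ≠ 0} =
      ∏ i : Fin (Fintype.card ι), (Fintype.card F ^ Fintype.card ι - Fintype.card F ^ (i : ℕ)) := by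
  have e : {A : Matrix ι ι F // A.det ≠ 0} ≃ GL (Fin (Fintype.card ι)) F :=
    { toFun := fun A => Matrix.GeneralLinearGroup.mkOfDetNeZero
        (Matrix.reindex (Fintype.equivFin ι) (Fintype.equivFin ι) A.1)
        (by rw [Matrix.det_reindex_self]; exact A.2)
      invFun := fun g => ⟨Matrix.reindex (Fintype.equivFin ι).symm (Fintype.equivFin ι).symm g.1,
        by rw [Matrix.det_reindex_self]; exact g.det_ne_zero⟩
      left_inv := fun A => by apply Subtype.ext; ext i j; simp [Matrix.GeneralLinearGroup.mkOfDetNeZero]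
      right_inv := fun g => by apply Units.ext; ext i j; simp [Matrix.GeneralLinearGroup.mkOfDetNeZero] }
  rw [Nat.card_congr e, Matrix.card_GL_field]

/-- block-diagonal entries of a glued matrix -/
def glue {ι κ F : Type*} [Zero F] [DecidableEq κ] [LinearOrder κ] (lab : ι → κ)
    (D : ∀ t : κ, Matrix {i // lab i = t} {i // lab i = t} F)
    (U : {p : ι × ι // lab p.1 < lab p.2} → F) : Matrix ι ι F :=
  fun i j => if h : lab i = lab j then D (lab j) ⟨i, h⟩ ⟨j, rfl⟩
    else if h' : lab i < lab j then U ⟨(i, j), h'⟩ else 0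

theorem glue_same {ι κ F : Type*} [Zero F] [LinearOrder κ] (lab : ι → κ)
    (D : ∀ t : κ, Matrix {i // lab i = t} {i // lab i = t} F)
    (U : {p : ι × ι // lab p.1 < lab p.2} → F) (t : κ) :
    (glue lab D U).toSquareBlock lab t = D t := by
  ext ⟨i, hi⟩ ⟨j, hj⟩
  subst hj
  show glue lab D U i j = _
  rw [glue, dif_pos hi]

theorem glue_tri {ι κ F : Type*} [Zero F] [LinearOrder κ] (lab : ι → κ)
    (D : ∀ t : κ, Matrix {i // lab i = t} {i // lab i = t} F)
    (U : {p : ι × ι // lab p.1 < lab p.2} → F) : (glue lab D U).BlockTriangular lab := by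
  intro i j hij
  rw [glue, dif_neg hij.ne', dif_neg hij.not_gt]

theorem card_blockTriangular {F : Type*} [Field F] [Fintype F] {ι κ : Type*} [Fintype ι] [DecidableEq ι]
    [Fintype κ] [LinearOrder κ] (lab : ι → κ) :
    Nat.card {M : Matrix ι ι F // M.BlockTriangular lab ∧ M.det ≠ 0} =
      (∏ t : κ, Nat.card {A : Matrix {i // lab i = t} {i // lab i = t} F // A.det ≠ 0}) *
        Fintype.card F ^ Nat.card {p : ι × ι // lab p.1 < lab p.2} := by
  classical
  have hdet : ∀ {M : Matrix ι ι F}, M.BlockTriangular lab → (M.det ≠ 0 ↔ ∀ t, (M.toSquareBlock lab t).det ≠ 0) := by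
    intro M hM
    rw [hM.det_fintype, Finset.prod_ne_zero_iff]
    simp
  have e : {M : Matrix ι ι F // M.BlockTriangular lab ∧ M.det ≠ 0} ≃
      (∀ t : κ, {A : Matrix {i // lab i = t} {i // lab i = t} F // A.det ≠ 0}) ×
        ({p : ι × ι // lab p.1 < lab p.2} → F) :=
    { toFun := fun M => (fun t => ⟨M.1.toSquareBlock lab t, (hdet M.2.1).1 M.2.2 t⟩, fun p => M.1 p.1.1 p.1.2)
      invFun := fun D => ⟨glue lab (fun t => (D.1 t).1) D.2, glue_tri lab (fun t => (D.1 t).1) D.2,
        (hdet (glue_tri lab (fun t => (D.1 t).1) D.2)).2 (fun t => by rw [glue_same]; exact (D.1 t).2)⟩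
      left_inv := fun M => by
        apply Subtype.ext
        ext i j
        show glue lab (fun t => M.1.toSquareBlock lab t) (fun p => M.1 p.1.1 p.1.2) i j = M.1 i j
        rw [glue]
        split_ifs with h h'
        · rfl
        · rfl
        · exact (M.2.1 (lt_of_le_of_ne (not_lt.1 h') (Ne.symm h))).symm
      right_inv := fun D => by
        refine Prod.ext (funext fun t => Subtype.ext (glue_same lab (fun t => (D.1 t).1) D.2 t)) (funext fun p => ?_)
        show glue lab (fun t => (D.1 t).1) D.2 p.1.1 p.1.2 = D.2 p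
        rw [glue, dif_neg p.2.ne, dif_pos p.2] }
  rw [Nat.card_congr e, Nat.card_prod, Nat.card_pi, Nat.card_fun]
  simp [Nat.card_eq_fintype_card]

theorem pairs_count {ι κ : Type*} [Fintype ι] [Fintype κ] [LinearOrder κ] (lab : ι → κ) :
    2 * Nat.card {p : ι × ι // lab p.1 < lab p.2} + ∑ t : κ, Nat.card {i // lab i = t} * Nat.card {i // lab i = t} =
      Nat.card ι * Nat.card ι := by
  classical
  have h1 : Nat.card {p : ι × ι // lab p.1 < lab p.2} = Nat.card {p : ι × ι // lab p.2 < lab p.1} :=
    Nat.card_congr ((Equiv.prodComm ι ι).subtypeEquiv (fun p => Iff.rfl))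
  have h2 : Nat.card {p : ι × ι // lab p.1 = lab p.2} =
      ∑ t : κ, Nat.card {i // lab i = t} * Nat.card {i // lab i = t} := by
    have e : {p : ι × ι // lab p.1 = lab p.2} ≃ Σ t : κ, {i // lab i = t} × {i // lab i = t} :=
      { toFun := fun p => ⟨lab p.1.2, ⟨p.1.1, p.2⟩, ⟨p.1.2, rfl⟩⟩
        invFun := fun q => ⟨(q.2.1.1, q.2.2.1), q.2.1.2.trans q.2.2.2.symm⟩
        left_inv := fun p => rfl
        right_inv := by rintro ⟨t, ⟨i, hi⟩, ⟨j, hj⟩⟩; subst hj; rfl }
    rw [Nat.card_congr e, Nat.card_sigma]
    simp [Nat.card_prod]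
  rw [← h2, two_mul]
  conv_lhs => arg 1; arg 2; rw [h1]
  rw [← Nat.card_prod]
  simp only [Nat.card_eq_fintype_card, Fintype.card_subtype]
  rw [← Finset.card_union_of_disjoint, ← Finset.card_union_of_disjoint]
  · rw [← Finset.card_univ]
    congr 1
    ext p
    rcases lt_trichotomy (lab p.1) (lab p.2) with h | h | h <;> simp [h]
  all_goals
    rw [Finset.disjoint_left]
    intro p hp hq
    simp only [Finset.mem_filter, Finset.mem_union, Finset.mem_univ, true_and] at hp hq
    rcases lt_trichotomy (lab p.1) (lab p.2) with h | h | h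
    · simp [h, h.ne, h.not_gt] at hp hq
    · simp [h] at hp hq
    · simp [h, h.ne', h.not_gt] at hp hq


/-- The number of partial flags of a given type: for a composition `μ` of `n` (with `n` parts, zeros allowed) and a field with `q` elements, the index of the standard parabolic subgroup `P_μ` in `GL_n(q)` times `∏_i {μ_i}` equals `{n}`, where `{r}` denotes the product over `k = 1, …, r` of the q-integers `1 + q + ⋯ + q^(k−1)`. -/
theorem result {F : Type*} [Field F] [Fintype F] {q : ℕ} (hq : Fintype.card F = q) {n : ℕ} (μ : Fin n → ℕ) (hμ : ∑ i, μ i = n) :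
    Nat.card (GL (Fin n) F ⧸ Cfsg.parabolicGL n F μ) * ∏ i : Fin n, ∏ j ∈ Finset.range (μ i), ∑ l ∈ Finset.range (j + 1), q ^ l =
      ∏ j ∈ Finset.range n, ∑ l ∈ Finset.range (j + 1), q ^ l := by
  classical
  subst hq
  -- labels
  let S : Fin n → ℕ := fun t => ∑ k ∈ Finset.univ.filter (fun k : Fin n => k ≤ t), μ k
  have hS : Monotone S := fun a b hab => Finset.sum_le_sum_of_subset (fun k hk => by
    simp only [Finset.mem_filter, Finset.mem_univ, true_and] at hk ⊢; exact hk.trans hab)
  have hle : ∀ (i : Fin n) (t : Fin n), Cfsg.compLabel μ i ≤ t.val ↔ i.val < S t := by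
    intro i t
    constructor
    · intro h
      by_contra hc
      rw [not_lt] at hc
      have : Finset.Iic t ⊆ Finset.univ.filter (fun j : Fin n => S j ≤ i.val) := fun j hj => by
        simp only [Finset.mem_filter, Finset.mem_univ, true_and]
        exact (hS (Finset.mem_Iic.1 hj)).trans hc
      have h' := Finset.card_le_card this
      rw [Fin.card_Iic] at h'
      exact absurd (h'.trans h) (by omega)
    · intro h
      have : Finset.univ.filter (fun j : Fin n => S j ≤ i.val) ⊆ Finset.Iio t := fun j hj => by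
        simp only [Finset.mem_filter, Finset.mem_univ, true_and] at hj
        rw [Finset.mem_Iio]
        by_contra hc
        rw [not_lt] at hc
        exact absurd ((hS hc).trans hj) (by omega)
      have h' := Finset.card_le_card this
      rwa [Fin.card_Iio] at h'
  have hSn : ∀ t, S t ≤ n := fun t => le_trans
    (Finset.sum_le_sum_of_subset (Finset.filter_subset _ _)) hμ.le
  have hlt : ∀ i : Fin n, Cfsg.compLabel μ i < n := by
    intro i
    have hn : 0 < n := i.pos
    have h := (hle i ⟨n - 1, by omega⟩).2 (by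
      have : S ⟨n - 1, by omega⟩ = n := by
        refine (Finset.sum_congr (Finset.filter_true_of_mem fun k _ => ?_) (fun _ _ => rfl)).trans hμ
        rw [Fin.le_def]; show k.val ≤ n - 1; omega
      rw [this]; exact i.isLt)
    change _ ≤ n - 1 at h
    omega
  let lab : Fin n → Fin n := fun i => ⟨Cfsg.compLabel μ i, hlt i⟩
  have hfib : ∀ t : Fin n, (Finset.univ.filter (fun i => lab i = t)).card = μ t := by
    intro t
    induction' hk : t.val using Nat.strong_induction_on with k ih generalizing t
    have h1 : (Finset.univ.filter (fun i => lab i ≤ t)).card = S t := by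
      have e : Finset.univ.filter (fun i => lab i ≤ t) =
          Finset.univ.filter (fun i : Fin n => i.val < S t) := by
        ext i
        simp only [Finset.mem_filter, Finset.mem_univ, true_and]
        exact hle i t
      rw [e, Fin.card_filter_val_lt, min_eq_right (hSn t)]
    rw [Finset.card_eq_sum_card_fiberwise (f := lab) (t := Finset.Iic t)
      (fun i hi => Finset.mem_Iic.2 (Finset.mem_filter.1 hi).2)] at h1
    have h2 : ∀ u ∈ Finset.Iic t, ((Finset.univ.filter (fun i => lab i ≤ t)).filter (fun i => lab i = u)).card =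
        (Finset.univ.filter (fun i => lab i = u)).card := by
      intro u hu
      congr 1
      ext i
      simp only [Finset.mem_filter, Finset.mem_univ, true_and, and_iff_right_iff_imp]
      intro h; rw [h]; exact Finset.mem_Iic.1 hu
    rw [Finset.sum_congr rfl h2] at h1
    have hI : Finset.univ.filter (fun k : Fin n => k ≤ t) = Finset.Iic t := by ext; simp
    simp only [S, hI] at h1
    rw [← Finset.Iio_insert, Finset.sum_insert (by simp), Finset.sum_insert (by simp)] at h1
    rw [Finset.sum_congr rfl (fun u hu => ih u.val (by rw [← hk]; exact Fin.lt_def.1 (Finset.mem_Iio.1 hu)) u rfl)] at h1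
    exact Nat.add_right_cancel h1
  have hfib' : ∀ t : Fin n, Fintype.card {i // lab i = t} = μ t := fun t => by
    rw [Fintype.card_subtype]; exact hfib t
  -- the order of the parabolic subgroup
  have hP : Nat.card (Cfsg.parabolicGL n F μ) =
      Nat.card {M : Matrix (Fin n) (Fin n) F // M.BlockTriangular lab ∧ M.det ≠ 0} :=
    Nat.card_congr
      { toFun := fun g => ⟨g.1.1, fun i j h => g.2 h, g.1.det_ne_zero⟩
        invFun := fun M => ⟨Matrix.GeneralLinearGroup.mkOfDetNeZero M.1 M.2.2, fun i j h => M.2.1 h⟩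
        left_inv := fun g => Subtype.ext (Units.ext rfl)
        right_inv := fun M => Subtype.ext rfl }
  have hB : ∀ t : Fin n, Nat.card {A : Matrix {i // lab i = t} {i // lab i = t} F // A.det ≠ 0} =
      Fintype.card F ^ (∑ i ∈ Finset.range (μ t), i) * (Fintype.card F - 1) ^ μ t *
        ∏ j ∈ Finset.range (μ t), ∑ l ∈ Finset.range (j + 1), Fintype.card F ^ l := by
    intro t
    rw [card_det_ne_zero, gl_formula, hfib']
  rw [card_blockTriangular, Finset.prod_congr rfl (fun t _ => hB t), Finset.prod_mul_distrib,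
    Finset.prod_mul_distrib, Finset.prod_pow_eq_pow_sum, Finset.prod_pow_eq_pow_sum, hμ] at hP
  have hexp : (∑ t, ∑ i ∈ Finset.range (μ t), i) + Nat.card {p : Fin n × Fin n // lab p.1 < lab p.2} =
      ∑ i ∈ Finset.range n, i := by
    have h := pairs_count lab
    simp only [fun t => (Nat.card_eq_fintype_card (α := {i // lab i = t})).trans (hfib' t),
      ← two_sum_range, Finset.sum_add_distrib, ← Finset.mul_sum, hμ, Nat.card_fin] at h
    omega
  have hG : Nat.card (GL (Fin n) F) = Fintype.card F ^ (∑ i ∈ Finset.range n, i) *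
      (Fintype.card F - 1) ^ n * ∏ j ∈ Finset.range n, ∑ l ∈ Finset.range (j + 1), Fintype.card F ^ l := by
    rw [Matrix.card_GL_field, gl_formula]
  have h := Subgroup.index_mul_card (Cfsg.parabolicGL n F μ)
  rw [hP, hG, ← hexp, pow_add] at h
  have hpos : 0 < Fintype.card F ^ (∑ t, ∑ i ∈ Finset.range (μ t), i) *
      Fintype.card F ^ Nat.card {p : Fin n × Fin n // lab p.1 < lab p.2} * (Fintype.card F - 1) ^ n := by
    have h1 : 1 < Fintype.card F := Fintype.one_lt_card
    have h2 : 0 < Fintype.card F - 1 := by omega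
    positivity
  apply Nat.eq_of_mul_eq_mul_left hpos
  rw [← h, Subgroup.index]
  ring

end Cfsg.Agent.S2420
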