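import Cfsg.Statements.S5402
import Cfsg.Agent.M23Rec.Main

set_option autoImplicit false
open Cfsg

namespace Cfsg.Agent.S5402

/-- Let G be a finite group with an involution d whose centralizer C is quasisimple, such that C modulo the subgroup generated by d is of type M(22) with respect to some conjugacy class of 3-transpositions generating it, and also has an involution whose own centralizer is quasisimple with quotient by it isomorphic to the projective special unitary group of dimension 6 over the field with four elements and which is not weakly closed in its centralizer; and suppose some conjugate of d other than d commutes with d. Then the conjugacy class of d is a class of 3-transpositions generating G, and G with this class is of type M(23). -/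
theorem result {G : Type*} [Group G] [Finite G] (d : G) (hd : orderOf d = 2) (hq : Cfsg.IsQuasisimple (Subgroup.centralizer ({d} : Set G))) [((Subgroup.zpowers d).subgroupOf (Subgroup.centralizer ({d} : Set G))).Normal] (htype : ∃ E : Set ((Subgroup.centralizer ({d} : Set G)) ⧸ (Subgroup.zpowers d).subgroupOf (Subgroup.centralizer ({d} : Set G))), Cfsg.IsThreeTranspositionClass E ∧ Cfsg.IsOfTypeM22 _ E) (hinvol : ∃ d' : (Subgroup.centralizer ({d} : Set G)) ⧸ (Subgroup.zpowers d).subgroupOf (Subgroup.centralizer ({d} : Set G)), orderOf d' = 2 ∧ Cfsg.IsQuasisimple (Subgroup.centralizer ({d'} : Set _)) ∧ (∃ (K : Type) (_ : Field K) (_ : Fintype K), Fintype.card K = 4 ∧ ∃ _ : ((Subgroup.zpowers d').subgroupOf (Subgroup.centralizer ({d'} : Set _))).Normal, Nonempty ((Subgroup.centralizer ({d'} : Set _)) ⧸ (Subgroup.zpowers d').subgroupOf (Subgroup.centralizer ({d'} : Set _)) ≃* Cfsg.PSU 6 K 2)) ∧ ∃ g, g * d' * g⁻¹ ∈ Subgroup.centralizer ({d'} : Set _) ∧ g * d' * g⁻¹ ≠ d') (hnwc : ∃ g : G, g * d * g⁻¹ ∈ Subgroup.centralizer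 ({d} : Set G) ∧ g * d * g⁻¹ ≠ d) : Cfsg.IsThreeTranspositionClass (conjugatesOf d) ∧ Cfsg.IsOfTypeM23 G (conjugatesOf d) := by
  obtain ⟨d', hd', hq', ⟨K, _, _, hK, hn', ⟨e'⟩⟩, hw'⟩ := hinvol
  haveI := hn'
  obtain ⟨⟨hset, ⟨a, ha, haD⟩, hgen⟩, hprim, ht⟩ := Cfsg.Lib.M22Rec.recognition d' hd' hq' K hK e' hw'
  have hgrp : Cfsg.IsThreeTranspositionGroup (conjugatesOf d') :=
    ⟨hset, fun g x hx => IsConj.trans hx (isConj_iff.2 ⟨g, rfl⟩), hgen⟩
  obtain ⟨ψ, -⟩ := Cfsg.Lib.ThreeTr.Y332.exists_iso (Cfsg.Lib.ThreeTr.M22.mk' hgrp hprim ht)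
  obtain ⟨e, he⟩ := Cfsg.Lib.M23Rec.recognition d hd hq ψ.symm hnwc
  exact Cfsg.Lib.M23Rec.type_of_iso e he

end Cfsg.Agent.S5402
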