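import Cfsg.Statements.S4399
import Cfsg.Agent.PGroups.QuasiDihedral
import Cfsg.Agent.S0115

set_option autoImplicit false
open Cfsg

namespace Cfsg.Agent.S4399

/-- Let S be a finite 2-group whose commutator quotient S/[S,S] is a Klein four-group (order 4 and exponent 2). Then S itself has order 4, or S is dihedral of order at least 8, semidihedral of order at least 16 (order 2^(k+4) with an element a of order 2^(k+3) and an involution b with b a b⁻¹ = a^(2^(k+2)−1)), or generalized quaternion of order at least 8. -/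
theorem result {S : Type*} [Group S] [Finite S] (h2 : IsPGroup 2 S) (hab : Nat.card (Abelianization S) = 4)
    (hexp : ∀ x : Abelianization S, x ^ 2 = 1) :
    Nat.card S = 4 ∨
    ((∃ k : ℕ, Nonempty (S ≃* DihedralGroup (2 ^ (k + 2)))) ∨
      (∃ k : ℕ, Nat.card S = 2 ^ (k + 4) ∧ ∃ a b : S, orderOf a = 2 ^ (k + 3) ∧ orderOf b = 2 ∧ b * a * b⁻¹ = a ^ (2 ^ (k + 2) - 1)) ∨
      (∃ k : ℕ, Nonempty (S ≃* QuaternionGroup (2 ^ (k + 1))))) := by
  haveI : Fact (Nat.Prime 2) := ⟨Nat.prime_two⟩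
  obtain ⟨n, hn⟩ := IsPGroup.iff_card.1 h2
  have hi : (commutator S).index = 4 := (Subgroup.index_eq_card (commutator S)).trans hab
  have hn2 : 2 ≤ n := by
    have h1 := (commutator S).index_dvd_card
    rw [hi, hn, show (4 : ℕ) = 2 ^ 2 from rfl] at h1
    exact (Nat.pow_dvd_pow_iff_le_right one_lt_two).1 h1
  rcases Nat.lt_or_ge n 3 with h3 | h3
  · exact Or.inl (by rw [hn, show n = 2 by omega]; rfl)
  refine Or.inr ?_
  haveI : Group.IsNilpotent S := h2.isNilpotent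
  have hc := Cfsg.Agent.S0115.of_index_four n S hn h3 hi
  obtain ⟨C, hC, hCi⟩ := Cfsg.Lib.MaxClass.exists_cyclic_index_two n S hn h3 hc
  have hna : ∃ x y : S, x * y ≠ y * x := by
    by_contra h
    push Not at h
    exact Cfsg.Lib.MaxClass.not_comm h3 hc h
  obtain ⟨a, b, -, h | h | ⟨h4, h⟩ | ⟨h4, h⟩⟩ := Cfsg.Lib.CyclicMax.classify n h3 hn C hC hCi hna
  · obtain ⟨e⟩ := Cfsg.Lib.CyclicMax.toDihedral h (by omega)
    exact Or.inl ⟨n - 3, by rw [show n - 3 + 2 = n - 1 by omega]; exact ⟨e⟩⟩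
  · rw [show n - 2 = n - 1 - 1 by omega] at h
    obtain ⟨e⟩ := Cfsg.Lib.CyclicMax.toQuaternion h (by omega)
    exact Or.inr (Or.inr ⟨n - 3, by rw [show n - 3 + 1 = n - 1 - 1 by omega]; exact ⟨e⟩⟩)
  · exfalso
    obtain ⟨k, rfl⟩ : ∃ k, n = k + 4 := ⟨n - 4, by omega⟩
    rw [show k + 4 - 1 = k + 3 by omega, show k + 4 - 2 = k + 2 by omega] at h
    obtain ⟨hz, ho⟩ := Cfsg.Lib.CyclicMax.sq_mem_center_of_modular h
    have hle := Subgroup.orderOf_dvd_natCard (Subgroup.center S) hz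
    rw [(Cfsg.Lib.MaxClass.center_facts (k + 4) S hn h3 hc).1, show a ^ (2 : ℤ) = a ^ (2 : ℕ) by rw [← zpow_natCast]; rfl, ho] at hle
    have := Nat.le_of_dvd two_pos hle
    have : 2 ^ 2 ≤ 2 ^ (k + 2) := Nat.pow_le_pow_right two_pos (by omega)
    omega
  · obtain ⟨k, rfl⟩ : ∃ k, n = k + 4 := ⟨n - 4, by omega⟩
    rw [show k + 4 - 1 = k + 3 by omega, show k + 4 - 2 = k + 2 by omega] at h
    refine Or.inr (Or.inl ⟨k, hn, a, b, h.ord, Cfsg.Lib.CyclicMax.orderOf_two_of_mul_self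
      (by rw [h.sq, zpow_zero]) (fun e => h.notMem (by rw [e]; exact one_mem _)), h.conj.trans ?_⟩)
    rw [← zpow_natCast, Cfsg.Lib.CyclicMax.natCast_two_pow_sub_one]

end Cfsg.Agent.S4399
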