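import Cfsg.Statements.S4273
import Cfsg.Agent.Small.Order175560.Cent
import Cfsg.Agent.JankoOne.Iso.Main

set_option autoImplicit false
open Cfsg

namespace Cfsg.Agent.S4273

/-- Uniqueness of the simple group of order 175560: any two finite simple groups of order 175560 are isomorphic. -/
theorem result {G : Type*} {H : Type*} [Group G] [Finite G] [IsSimpleGroup G] [Group H] [Finite H] [IsSimpleGroup H] (hG : Nat.card G = 175560) (hH : Nat.card H = 175560) : Nonempty (G ≃* H) := by
  have hncG := Cfsg.Lib.Small.not_comm_of_isSimple (G := G) (by rw [hG]; norm_num)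
  have hncH := Cfsg.Lib.Small.not_comm_of_isSimple (G := H) (by rw [hH]; norm_num)
  obtain ⟨u, hu, hu'⟩ := Cfsg.Lib.Small.Order175560.exists_card_centralizer hncG hG
  obtain ⟨v, hv, hv'⟩ := Cfsg.Lib.Small.Order175560.exists_card_centralizer hncH hH
  obtain ⟨e⟩ := Cfsg.Lib.Small.Order175560.exists_equiv hncG hG hu hu'
  obtain ⟨f⟩ := Cfsg.Lib.Small.Order175560.exists_equiv hncH hH hv hv'
  exact Cfsg.Lib.JankoOne.Iso.uniqueness u v
    (Cfsg.Lib.JankoOne.Iso.two_central hu hu' (by rw [hG]; norm_num) (by rw [hG]; norm_num))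
    (Cfsg.Lib.JankoOne.Iso.two_central hv hv' (by rw [hH]; norm_num) (by rw [hH]; norm_num)) e f

end Cfsg.Agent.S4273
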