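import Cfsg.Statements.S5265
import Cfsg.Agent.Fusion.CenterIndexEnd


set_option autoImplicit false
open Cfsg

namespace Cfsg.Agent.S5265

/-- Let p be a prime, S a nontrivial finite p-group whose centre has index at most p², and F a saturated fusion system over S with no nontrivial normal subgroup and with hyperfocal subgroup equal to S. Then S is extraspecial of order p³; for odd p it has exponent p, and for p = 2 it is dihedral of order 8. -/
theorem result {Ω : Type*} [Group Ω] {S : Subgroup Ω} [Finite S] (p : ℕ) [Fact p.Prime] (hS : IsPGroup p ↥S) (F : Cfsg.FusionSystem S) (hF : F.IsSaturated p) (hS1 : S ≠ ⊥) (hcore : F.core = ⊥) (hhyp : F.hyperfocalSubgroup p = S) (hZ : (Subgroup.center ↥S).index ≤ p ^ 2) : Cfsg.IsExtraspecial p ↥S ∧ Nat.card S = p ^ 3 ∧ (p ≠ 2 → Monoid.exponent ↥S = p) ∧ (p = 2 → Nonempty (↥S ≃* DihedralGroup 4)) := by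
  open Cfsg.Lib.Fusion in
  obtain ⟨a, b, hab⟩ := SqCenter.exists_noncomm hS1 hS hF hcore
  have h := sqCenter_of_index hS hF hZ ⟨a, b, hab⟩
  obtain ⟨Q, hQ⟩ := h.exists_site hS1 hcore
  rcases eq_or_ne p 2 with rfl | hp2
  · obtain ⟨R₁, R₂, hR₁, hR₂, hne, hb, -⟩ := h.cores_two hS1 hcore hhyp
    have hz := (h.small_of_bot hR₁ hb).1
    exact ⟨h.isExtraspecial_of_eq hz, h.card_cube hz, fun h2 => absurd rfl h2,
      fun _ => h.dihedral_two hcore hz hR₁ hR₂ hne⟩
  · have hz := (h.small_of_bot hQ (h.siteCore_eq_bot_odd hp2 hcore hQ)).1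
    exact ⟨h.isExtraspecial_of_eq hz, h.card_cube hz, fun _ => h.exponent_odd hp2 hS1 hcore,
      fun h2 => absurd h2 hp2⟩


end Cfsg.Agent.S5265
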