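import Cfsg.Statements.S0499
import Cfsg.Agent.S0073
import Cfsg.Agent.Transfer.Frobenius

set_option autoImplicit false
open Cfsg

namespace Cfsg.Agent.S0499

theorem fiveKey' : ∀ a b : Fin 9, a.val ∣ 8 → b.val ∣ a.val → b.val ≠ a.val → ¬ 5 ∣ a.val - b.val := by decide +kernel

theorem fiveKey (a : ℕ) (ha : a < 9) (b : ℕ) (hb : b < 9) : a ∣ 8 → b ∣ a → b ≠ a → ¬ 5 ∣ a - b :=
  fiveKey' ⟨a, ha⟩ ⟨b, hb⟩

/-- A non-abelian finite simple group of even order has order divisible by 12, 16 or 56. -/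
theorem result {G : Type*} [Group G] [Finite G] [IsSimpleGroup G]
    (hG : ¬ IsMulCommutative G) (h2 : Even (Nat.card G)) :
    12 ∣ Nat.card G ∨ 16 ∣ Nat.card G ∨ 56 ∣ Nat.card G := by
  classical
  have hxy : ∃ x y : G, x * y ≠ y * x := by
    by_contra hc
    push_neg at hc
    exact hG ⟨⟨hc⟩⟩
  have hn1 : Nat.card G ≠ 1 := fun h => by rw [h] at h2; exact Nat.not_even_one h2
  have hmin : (Nat.card G).minFac = 2 := (Nat.minFac_eq_two_iff _).2 (even_iff_two_dvd.1 h2)
  have h73 := Cfsg.Agent.S0073.result (G := G) hxy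
  rw [hmin] at h73
  rcases h73 with h8 | h12
  swap
  · exact Or.inl h12
  by_cases h16 : 16 ∣ Nat.card G
  · exact Or.inr (Or.inl h16)
  by_cases h3 : 3 ∣ Nat.card G
  · exact Or.inl ((dvd_trans (by norm_num) (Nat.Coprime.mul_dvd_of_dvd_of_dvd (by norm_num) h8 h3)) : 12 ∣ Nat.card G)
  refine Or.inr (Or.inr ?_)
  haveI : Fact (Nat.Prime 2) := ⟨Nat.prime_two⟩
  have hno : ¬ Cfsg.HasNormalPComplement 2 G := by
    rintro ⟨P, N, hN, hc⟩
    haveI := hN
    rcases hN.eq_bot_or_eq_top with h | h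
    · rw [h, Subgroup.isComplement'_bot_left] at hc
      have hG2 : IsPGroup 2 G := fun g => by
        obtain ⟨k, hk⟩ := P.2 ⟨g, by rw [hc]; exact Subgroup.mem_top g⟩
        exact ⟨k, by simpa [Subtype.ext_iff] using hk⟩
      haveI : Nontrivial G := IsSimpleGroup.toNontrivial
      haveI := hG2.center_nontrivial
      rcases (inferInstance : (Subgroup.center G).Normal).eq_bot_or_eq_top with h' | h'
      · exact (Subgroup.nontrivial_iff_ne_bot _).1 inferInstance h'
      · obtain ⟨x, y, hne⟩ := hxy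
        exact hne (Subgroup.mem_center_iff.1 (by rw [h']; exact Subgroup.mem_top y) x)
    · rw [h, Subgroup.isComplement'_top_left] at hc
      have h1 : 2 ∣ Nat.card (P : Subgroup G) := P.dvd_card_of_dvd_card (even_iff_two_dvd.1 h2)
      rw [hc, Subgroup.card_bot] at h1
      norm_num at h1
  have hex : ∃ Q : Subgroup G, IsPGroup 2 Q ∧ ∃ g : G, g ∈ Subgroup.normalizer (Q : Set G) ∧
      (orderOf g).Coprime 2 ∧ g ∉ Subgroup.centralizer (Q : Set G) := by
    by_contra hc
    push_neg at hc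
    exact hno (Cfsg.Lib.Transfer.hasNormalPComplement_of_frobenius fun Q hQ g hg hcop => hc Q hQ g hg hcop)
  obtain ⟨Q, hQ, g₀, hg₀⟩ := hex
  obtain ⟨g, ⟨hgN, hgc, hgC⟩, hgmin⟩ := WellFounded.has_min (InvImage.wf orderOf wellFounded_lt)
    {g : G | g ∈ Subgroup.normalizer (Q : Set G) ∧ (orderOf g).Coprime 2 ∧ g ∉ Subgroup.centralizer (Q : Set G)}
    ⟨g₀, hg₀⟩
  have hg1 : orderOf g ≠ 1 := fun e => hgC (by rw [orderOf_eq_one_iff.1 e]; exact one_mem _)
  obtain ⟨r, hr, hrd⟩ := Nat.exists_prime_and_dvd hg1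
  haveI := Fact.mk hr
  have hgr : g ^ r ∈ Subgroup.centralizer (Q : Set G) := by
    by_contra hc
    have hlt : orderOf (g ^ r) < orderOf g := by
      rw [orderOf_pow_of_dvd hr.ne_zero hrd]
      exact Nat.div_lt_self (orderOf_pos g) hr.one_lt
    exact hgmin (g ^ r) ⟨pow_mem hgN r, Nat.Coprime.coprime_dvd_left (orderOf_pow_dvd r) hgc, hc⟩ hlt
  let φ : MulAut Q := Q.normalizerMonoidHom ⟨g, hgN⟩
  have happ : ∀ x : Q, ((φ x : Q) : G) = g * x * g⁻¹ := fun x => rfl
  have hφr : φ ^ r = 1 := by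
    have e : φ ^ r = Q.normalizerMonoidHom (⟨g, hgN⟩ ^ r) := (map_pow _ _ r).symm
    rw [e]
    ext x
    have := Subgroup.mem_centralizer_iff.1 hgr x x.2
    change g ^ r * (x : G) * (g ^ r)⁻¹ = x
    rw [← this, mul_inv_cancel_right]
  have hφ1 : φ ≠ 1 := fun e => hgC (Subgroup.mem_centralizer_iff.2 fun x hx => by
    have h' := happ ⟨x, hx⟩
    rw [e] at h'
    exact (mul_inv_eq_iff_eq_mul.1 h'.symm).symm)
  have hord : orderOf φ = r := orderOf_eq_prime hφr hφ1
  have hK : IsPGroup r (Subgroup.zpowers φ) := IsPGroup.of_card (n := 1) (by rw [Nat.card_zpowers, hord, pow_one])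
  let F : Subgroup Q := MonoidHom.eqLocus φ.toMonoidHom (MonoidHom.id Q)
  have hfix : MulAction.fixedPoints (Subgroup.zpowers φ) Q = (F : Set Q) := by
    ext x
    constructor
    · intro hx
      exact hx ⟨φ, Subgroup.mem_zpowers φ⟩
    · rintro hx ⟨ψ, hψ⟩
      have hst : Subgroup.zpowers φ ≤ MulAction.stabilizer (MulAut Q) x :=
        Subgroup.zpowers_le.2 (hx : φ x = x)
      exact hst hψ
  have hmod := hK.card_modEq_card_fixedPoints (α := Q)
  rw [hfix] at hmod
  change Nat.card Q ≡ Nat.card F [MOD r] at hmod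
  have hFne : Nat.card F ≠ Nat.card Q := fun e => hφ1 (MulEquiv.ext fun x => by
    have : x ∈ F := by rw [Subgroup.eq_top_of_card_eq F e]; exact Subgroup.mem_top x
    exact this)
  have hQ8 : Nat.card Q ∣ 8 := by
    obtain ⟨k, hk⟩ := IsPGroup.iff_card.1 hQ
    have hdvd := Subgroup.card_subgroup_dvd_card Q
    rw [hk] at hdvd ⊢
    have hk3 : k ≤ 3 := by
      by_contra hlt
      exact h16 ((pow_dvd_pow 2 (show 4 ≤ k by omega)).trans hdvd)
    exact (pow_dvd_pow 2 hk3).trans (by norm_num)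
  have hFd : Nat.card F ∣ Nat.card Q := Subgroup.card_subgroup_dvd_card F
  have hrG : r ∣ Nat.card G := hrd.trans (orderOf_dvd_natCard g)
  have hr2 : r ≠ 2 := by
    rintro rfl
    exact absurd (Nat.Coprime.coprime_dvd_left hrd hgc) (by norm_num)
  have hFle : Nat.card F ≤ Nat.card Q := Nat.le_of_dvd Nat.card_pos hFd
  have hdiff : r ∣ Nat.card Q - Nat.card F := (Nat.modEq_iff_dvd' hFle).1 hmod.symm
  have hr7 : r = 7 := by
    have hQle : Nat.card Q ≤ 8 := Nat.le_of_dvd (by norm_num) hQ8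
    have hFpos : 0 < Nat.card F := Nat.card_pos
    have hrle : r ≤ 8 := (Nat.le_of_dvd (by omega) hdiff).trans (by omega)
    have h5 : ¬ (r = 5) := by
      rintro rfl
      exact fiveKey _ (by omega) _ (by omega) hQ8 hFd hFne hdiff
    have h3' : r ≠ 3 := fun e => h3 (e ▸ hrG)
    have h2' := hr.two_le
    interval_cases r <;> first | rfl | omega | (exact absurd hr (by norm_num))
  exact Nat.Coprime.mul_dvd_of_dvd_of_dvd (show Nat.Coprime 8 7 by norm_num) h8 (hr7 ▸ hrG)

end Cfsg.Agent.S0499
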