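import Cfsg.Statements.S0496
import Cfsg.Agent.Small.OrderSieve

set_option autoImplicit false
open Cfsg

namespace Cfsg.Agent.S0496

/-- A non-abelian finite simple group of order at most 1092 has order 60, 168, 360, 504, 660 or 1092. -/
theorem result {G : Type*} [Group G] [Finite G] [IsSimpleGroup G]
    (hG : ¬ IsMulCommutative G) (h : Nat.card G ≤ 1092) :
    Nat.card G = 60 ∨ Nat.card G = 168 ∨ Nat.card G = 360 ∨ Nat.card G = 504 ∨ Nat.card G = 660 ∨
      Nat.card G = 1092 := by
  have hnc : ¬ ∀ a b : G, a * b = b * a := fun hc => hG ⟨⟨hc⟩⟩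
  have hc : ((List.range 1093).all fun i => Cfsg.Lib.Small.Sieve.kill [(120, 3), (132, 3), (180, 5), (240, 5), (252, 7), (264, 3), (280, 5), (336, 7), (396, 11), (420, 3), (480, 3), (528, 3), (540, 5), (552, 3), (560, 5), (612, 17), (616, 7), (672, 7), (720, 5), (756, 7), (792, 11), (840, 5), (924, 3), (960, 5), (1008, 7), (1040, 5), (1056, 3), (1080, 5)] [(900, 5)] (0 + i) ||
      [60, 168, 360, 504, 660, 1092].contains (0 + i)) = true := by decide +kernel
  simpa using Cfsg.Lib.Small.Sieve.mem_of_all hnc hc (Nat.zero_le _) (by omega)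

end Cfsg.Agent.S0496
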