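import Cfsg.Statements.S0904
import Cfsg.Agent.Blocks.PPowerPrincipal
import Cfsg.Agent.Blocks.Orth2
import Cfsg.Agent.Blocks.Feit3
import Cfsg.Agent.Chars.DefectZero
import Cfsg.Agent.Chars.Count
-- import your own Cfsg.Agent.* helpers here

set_option autoImplicit false
open Cfsg

namespace Cfsg.Agent.S0904

set_option linter.unusedSectionVars false

open Cfsg.Lib.Chars Cfsg.Lib.Blocks in
lemma false_of_two_primes {G : Type*} [Group G] [Fintype G] [IsSimpleGroup G]
    (hZ : Subgroup.center G = ⊥) {ℓ q r a b : ℕ} (hℓ : ℓ.Prime) (hq : q.Prime) (hr : r.Prime)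
    (hℓr : ℓ ≠ r) (hqr : q ≠ r) (hcard : Nat.card G = ℓ ^ a * q ^ b * r) {z : G}
    (hzℓ : ℓ ∣ orderOf z) (hzr : r ∣ orderOf z) : False := by
  classical
  haveI := Fact.mk hℓ
  obtain ⟨M, hM⟩ := exists_isPModular hℓ
  have hB : IsPBlock M (principalBlock M G) := isPBlock_blockOf (principal G)
  have h1 : ¬ ℓ ∣ orderOf (1 : G) := by rw [orderOf_one]; exact hℓ.not_dvd_one
  have h0 := block_orthogonality_regular hM hB h1 hzℓ
  have hp1 : principal G ∈ Finset.univ.filter (· ∈ principalBlock M G) :=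
    Finset.mem_filter.2 ⟨Finset.mem_univ _, mem_blockOf_self hM (principal G)⟩
  rw [← Finset.add_sum_erase _ _ hp1] at h0
  have hr2 : ¬ r ^ (1 + 1) ∣ Nat.card G := by
    rw [hcard, pow_two]
    intro h
    have h' := (Nat.mul_dvd_mul_iff_right hr.pos).1 h
    rcases (Nat.Prime.dvd_mul hr).1 h' with e | e
    · exact hℓr ((Nat.prime_dvd_prime_iff_eq hr hℓ).1 (hr.dvd_of_dvd_pow e)).symm
    · exact hqr ((Nat.prime_dvd_prime_iff_eq hr hq).1 (hr.dvd_of_dvd_pow e)).symm
  refine hq.ne_one (Nat.dvd_one.1 (dvd_of_isIntegral_div (a := 1) hq.ne_zero ?_))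
  have e1 : ((principal G : IrrCharacter G) : G → ℂ) 1 *
      (starRingEnd ℂ) (((principal G : IrrCharacter G) : G → ℂ) z) = 1 := by
    rw [show ∀ g : G, ((principal G : IrrCharacter G) : G → ℂ) g = 1 from fun _ => rfl,
      show ∀ g : G, ((principal G : IrrCharacter G) : G → ℂ) g = 1 from fun _ => rfl, map_one, one_mul]
  rw [e1] at h0
  have hs : ((1 : ℕ) : ℂ) / (q : ℂ) = -∑ χ ∈ (Finset.univ.filter (· ∈ principalBlock M G)).erase (principal G),
      (χ : G → ℂ) 1 / (q : ℂ) * (starRingEnd ℂ) ((χ : G → ℂ) z) := by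
    rw [eq_neg_iff_add_eq_zero, Finset.sum_congr rfl (g := fun χ : IrrCharacter G =>
      (χ : G → ℂ) 1 * (starRingEnd ℂ) ((χ : G → ℂ) z) / (q : ℂ)) (fun χ _ => by ring),
      ← Finset.sum_div, ← add_div, Nat.cast_one, h0, zero_div]
  rw [hs]
  refine (IsIntegral.sum _ fun χ hχ => ?_).neg
  obtain ⟨hne, hχB⟩ := Finset.mem_erase.1 hχ
  by_cases hqd : q ∣ deg (χ : G → ℂ)
  · obtain ⟨d, hd⟩ := hqd
    rw [irr_apply_one_eq_deg, hd, Nat.cast_mul, mul_div_cancel_left₀ _ (Nat.cast_ne_zero.2 hq.ne_zero)]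
    exact (isIntegral_algebraMap (R := ℤ) (x := (d : ℤ))).mul
      ((IsCharacter.isIntegral (isCharacter_of_irr χ.2) z).map (starRingEnd ℂ).toIntAlgHom)
  by_cases hrd : r ∣ deg (χ : G → ℂ)
  · rw [eq_zero_of_defect_zero χ.2 hr (n := 1) (by rw [pow_one, hcard]; exact dvd_mul_left _ _) hr2
      (by rwa [pow_one]) hzr, map_zero, mul_zero]
    exact isIntegral_zero
  exfalso
  have hd : deg (χ : G → ℂ) ∣ ℓ ^ a := by
    have := IsIrrCharacter.deg_dvd χ.2
    rw [hcard] at this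
    exact (((hq.coprime_iff_not_dvd).2 hqd).symm.pow_right b).dvd_of_dvd_mul_right
      ((((hr.coprime_iff_not_dvd).2 hrd).symm).dvd_of_dvd_mul_right this)
  obtain ⟨k, -, hk⟩ := (Nat.dvd_prime_pow hℓ).1 hd
  exact hne (eq_principal_of_pow_degree hM hZ (Finset.mem_filter.1 hχB).2 hk)

/-- Let G be a finite simple group of order p ^ a * q ^ b * r with p, q, r distinct primes. Then every Sylow r-subgroup S of G satisfies C_G(S) = S. -/
theorem result {G : Type*} [Group G] [Finite G] [IsSimpleGroup G] (p q r a b : ℕ) (hp : p.Prime) (hq : q.Prime) [Fact r.Prime] (hpq : p ≠ q) (hpr : p ≠ r) (hqr : q ≠ r) (hcard : Nat.card G = p ^ a * q ^ b * r) (S : Sylow r G) : Subgroup.centralizer (S : Set G) = (S : Subgroup G) := by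
  classical
  letI := Fintype.ofFinite G
  have hr : r.Prime := Fact.out
  have hScard : Nat.card (S : Subgroup G) = r := by
    rw [S.card_eq_multiplicity, hcard,
      Nat.factorization_mul (mul_ne_zero (pow_ne_zero _ hp.ne_zero) (pow_ne_zero _ hq.ne_zero)) hr.ne_zero,
      Nat.factorization_mul (pow_ne_zero _ hp.ne_zero) (pow_ne_zero _ hq.ne_zero), Finsupp.add_apply,
      Finsupp.add_apply, hp.factorization_pow, hq.factorization_pow, hr.factorization,
      Finsupp.single_eq_of_ne (Ne.symm hpr), Finsupp.single_eq_of_ne (Ne.symm hqr),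
      Finsupp.single_eq_same]
    simp
  haveI : IsCyclic (S : Subgroup G) := isCyclic_of_prime_card hScard
  let _ : CommGroup (S : Subgroup G) := IsCyclic.commGroup
  have hSC : (S : Subgroup G) ≤ Subgroup.centralizer (S : Set G) := fun u hu v hv =>
    congrArg Subtype.val (mul_comm (⟨v, hv⟩ : (S : Subgroup G)) ⟨u, hu⟩)
  refine le_antisymm ?_ hSC
  by_cases habel : ∀ u v : G, u * v = v * u
  · letI : CommGroup G := { mul_comm := habel }
    have hG : (Nat.card G).Prime := IsSimpleGroup.prime_card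
    have hdv : r ∣ Nat.card G := hcard ▸ dvd_mul_left _ _
    have htop : (S : Subgroup G) = ⊤ := Subgroup.eq_top_of_card_eq _
      (hScard.trans ((Nat.prime_dvd_prime_iff_eq hr hG).1 hdv))
    rw [htop]; exact le_top
  push Not at habel
  obtain ⟨u, v, huv⟩ := habel
  have hZ : Subgroup.center G = ⊥ :=
    (IsSimpleGroup.eq_bot_or_eq_top_of_normal (Subgroup.center G) inferInstance).resolve_right
      fun h => huv (Subgroup.mem_center_iff.1 (h ▸ Subgroup.mem_top v) u)
  by_contra hle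
  have hrel : (S : Subgroup G).relIndex (Subgroup.centralizer (S : Set G)) ≠ 1 :=
    fun h => hle (Subgroup.relIndex_eq_one.1 h)
  obtain ⟨ℓ, hℓ, hℓd⟩ := Nat.exists_prime_and_dvd hrel
  have hℓr : ℓ ≠ r := by
    rintro rfl
    exact S.not_dvd_index (hℓd.trans (Dvd.intro _ (Subgroup.relIndex_mul_index hSC)))
  haveI := Fact.mk hℓ
  have hdC : ℓ ∣ Nat.card (Subgroup.centralizer (S : Set G)) := hℓd.trans (Subgroup.relIndex_dvd_card _ _)
  obtain ⟨⟨y, hyC⟩, hy⟩ := exists_prime_orderOf_dvd_card' ℓ hdC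
  rw [Subgroup.orderOf_mk] at hy
  obtain ⟨⟨x, hxS⟩, hx⟩ := exists_prime_orderOf_dvd_card' r (G := (S : Subgroup G)) (by rw [hScard])
  rw [Subgroup.orderOf_mk] at hx
  have hord : orderOf (x * y) = r * ℓ := by
    rw [Commute.orderOf_mul_eq_mul_orderOf_of_coprime (hyC x hxS)
      (by rw [hx, hy]; exact (Nat.coprime_primes hr hℓ).2 (Ne.symm hℓr)), hx, hy]
  have hℓG : ℓ ∣ p ^ a * q ^ b * r := hcard ▸ hdC.trans (Subgroup.card_subgroup_dvd_card _)
  rcases (Nat.Prime.dvd_mul hℓ).1 hℓG with e | e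
  · rcases (Nat.Prime.dvd_mul hℓ).1 e with e | e
    · obtain rfl := (Nat.prime_dvd_prime_iff_eq hℓ hp).1 (hℓ.dvd_of_dvd_pow e)
      exact false_of_two_primes hZ hℓ hq hr hℓr hqr hcard (hord ▸ dvd_mul_left _ _) (hord ▸ dvd_mul_right _ _)
    · obtain rfl := (Nat.prime_dvd_prime_iff_eq hℓ hq).1 (hℓ.dvd_of_dvd_pow e)
      exact false_of_two_primes hZ hℓ hp hr hℓr hpr (by rw [hcard, mul_comm (p ^ a)])
        (hord ▸ dvd_mul_left _ _) (hord ▸ dvd_mul_right _ _)
  · exact hℓr ((Nat.prime_dvd_prime_iff_eq hℓ hr).1 e)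

end Cfsg.Agent.S0904
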