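import Cfsg.Statements.S0678
import Mathlib
import Cfsg.Agent.S0675
import Cfsg.Agent.S0676
import Cfsg.Agent.PermGroups.PrimeDegree

set_option autoImplicit false
open Cfsg
open scoped Pointwise

namespace Cfsg.Agent.S0678

variable {α : Type*} [Fintype α] [DecidableEq α]

open Cfsg.Lib.PermGroups.PrimeDegree

/-- the Sylow normaliser of the full cycle in the symmetric group, intersected with `H` -/
theorem local_data {e : ZMod 7 ≃ α} {τ : Equiv.Perm α} (hα : Fintype.card α = 7)
    (hτe : ∀ i, τ (e i) = e (i + 1)) (H : Subgroup (Equiv.Perm α)) (hτ : τ ∈ H) :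
    (∃ d, d ∣ 6 ∧ Nat.card (H ⊓ Subgroup.normalizer ((Subgroup.zpowers τ : Subgroup (Equiv.Perm α)) : Set (Equiv.Perm α)) : Subgroup _) = 7 * d ∧
      ∃ m, m % 7 = 1 ∧ Nat.card H = 7 * d * m ∧ (d = 1 → m = 1 ∨ ∃ W : Subgroup H, W.Normal ∧ Nat.card W = m)) := by
  classical
  have : Fact (Nat.Prime 7) := ⟨by norm_num⟩
  set A := Subgroup.normalizer ((Subgroup.zpowers τ : Subgroup (Equiv.Perm α)) : Set (Equiv.Perm α)) with hA
  have haff : ∀ g : (H ⊓ A : Subgroup _), ∃ c k : ZMod 7, ∀ i, e.symm (g.1 (e i)) = c + k * i := fun g =>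
    affine_of_conj hτe ((Subgroup.mem_normalizer_iff.1 g.2.2 _).1 (Subgroup.mem_zpowers τ))
  choose c k hck using haff
  have hg : ∀ (g : (H ⊓ A : Subgroup _)) (i : ZMod 7), g.1 (e i) = e (c g + k g * i) := fun g i => by
    rw [← hck g i, Equiv.apply_symm_apply]
  have huniq : ∀ (g : (H ⊓ A : Subgroup _)) (c' k' : ZMod 7), (∀ i, g.1 (e i) = e (c' + k' * i)) → k g = k' := fun g c' k' h => by
    have h0 := e.injective ((hg g 0).symm.trans (h 0))
    have h1 := e.injective ((hg g 1).symm.trans (h 1))
    linear_combination h1 - h0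
  let ψ : (H ⊓ A : Subgroup _) →* ZMod 7 :=
    { toFun := k
      map_one' := huniq 1 0 1 fun i => by simp
      map_mul' := fun g g' => huniq (g * g') (c g + k g * c g') (k g * k g') fun i => by
        show g.1 (g'.1 (e i)) = _
        rw [hg, hg]; congr 1; ring }
  set t : (H ⊓ A : Subgroup _) := ⟨τ, hτ, Subgroup.le_normalizer (Subgroup.mem_zpowers τ)⟩ with ht
  have hker : ψ.toHomUnits.ker = Subgroup.zpowers t := by
    refine le_antisymm (fun g hg' => ?_) ?_
    · have h1 : k g = 1 := congrArg Units.val hg'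
      refine ⟨((c g).val : ℤ), Subtype.ext (Equiv.ext fun z => ?_)⟩
      obtain ⟨i, rfl⟩ := e.surjective z
      show ((t ^ ((c g).val : ℤ) : (H ⊓ A : Subgroup _)) : Equiv.Perm α) (e i) = g.1 (e i)
      rw [zpow_natCast, SubmonoidClass.coe_pow, pow_apply_coord hτe, hg, h1, ZMod.natCast_zmod_val, one_mul, add_comm]
    · rw [Subgroup.zpowers_le]
      exact Units.ext (huniq t 1 1 fun i => by show τ (e i) = _; rw [hτe, one_mul, add_comm])
  have hd6 : Nat.card ψ.toHomUnits.range ∣ 6 := by
    refine (Subgroup.card_subgroup_dvd_card _).trans (dvd_of_eq ?_)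
    rw [Nat.card_eq_fintype_card, ZMod.card_units]
  have hcard : Nat.card (H ⊓ A : Subgroup _) = 7 * Nat.card ψ.toHomUnits.range := by
    rw [← ψ.toHomUnits.ker.card_mul_index, Subgroup.index_ker, hker, Nat.card_zpowers, ← Subgroup.orderOf_coe]
    show orderOf τ * _ = _
    rw [orderOf_coord hτe]
  refine ⟨_, hd6, hcard, ?_⟩
  obtain ⟨P, hP⟩ := sylow_coord hα H hτ hτe
  have hN : (Subgroup.normalizer ((P : Subgroup H) : Set H)).map H.subtype = H ⊓ A := by
    ext g
    constructor
    · rintro ⟨⟨g, hgH⟩, hgN, rfl⟩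
      refine ⟨hgH, Subgroup.mem_normalizer_iff.2 fun x => ?_⟩
      replace hgN : (⟨g, hgH⟩ : H) ∈ Subgroup.normalizer ((P : Subgroup H) : Set H) := hgN
      rw [hP, Subgroup.mem_normalizer_iff] at hgN
      constructor
      · rintro ⟨n, rfl⟩
        obtain ⟨n', hn'⟩ := (hgN _).1 ⟨n, rfl⟩
        exact ⟨n', congrArg Subtype.val hn'⟩
      · rintro ⟨n, hn⟩
        have hx : x ∈ H := by
          have hn' : τ ^ n = g * x * g⁻¹ := hn
          have : g * x * g⁻¹ ∈ H := by rw [← hn']; exact H.zpow_mem hτ n
          simpa [mul_assoc] using H.mul_mem (H.mul_mem (H.inv_mem hgH) this) hgH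
        obtain ⟨n', hn'⟩ := (hgN ⟨x, hx⟩).2 ⟨n, Subtype.ext hn⟩
        exact ⟨n', congrArg Subtype.val hn'⟩
    · rintro ⟨hgH, hgA⟩
      refine ⟨⟨g, hgH⟩, ?_, rfl⟩
      show _ ∈ Subgroup.normalizer ((P : Subgroup H) : Set H)
      rw [hP, Subgroup.mem_normalizer_iff]
      intro x
      have := Subgroup.mem_normalizer_iff.1 hgA x.1
      constructor
      · rintro ⟨n, rfl⟩
        obtain ⟨n', hn'⟩ := this.1 ⟨n, rfl⟩
        exact ⟨n', Subtype.ext hn'⟩
      · rintro ⟨n, hn⟩
        obtain ⟨n', hn'⟩ := this.2 ⟨n, congrArg Subtype.val hn⟩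
        exact ⟨n', Subtype.ext hn'⟩
  have hNc : Nat.card (Subgroup.normalizer ((P : Subgroup H) : Set H)) = 7 * Nat.card ψ.toHomUnits.range := by
    rw [← hcard, ← hN, Subgroup.card_map_of_injective H.subtype_injective]
  have hHc : Nat.card H = 7 * Nat.card ψ.toHomUnits.range * Nat.card (Sylow 7 H) := by
    rw [← hNc, P.card_eq_index_normalizer]
    exact (Subgroup.card_mul_index _).symm
  refine ⟨_, card_sylow_modEq_one 7 H, hHc, fun hd => Or.inr ?_⟩
  rw [hd, mul_one] at hNc hHc
  have hPc : Nat.card P = 7 := by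
    show Nat.card (P : Subgroup H) = 7
    rw [hP, Nat.card_zpowers, ← Subgroup.orderOf_coe]; exact orderOf_coord hτe
  have hNP : Subgroup.normalizer ((P : Subgroup H) : Set H) = (P : Subgroup H) :=
    (Subgroup.eq_of_le_of_card_ge Subgroup.le_normalizer (hNc.trans hPc.symm).le).symm
  have hPC : Subgroup.normalizer ((P : Subgroup H) : Set H) ≤ Subgroup.centralizer ((P : Subgroup H) : Set H) := by
    rw [hNP, hP]
    rintro _ ⟨n, rfl⟩ _ ⟨m, rfl⟩
    exact zpow_mul_comm _ _ _
  refine ⟨(MonoidHom.transferSylow P hPC).ker, inferInstance, ?_⟩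
  have h1 := (MonoidHom.ker_transferSylow_isComplement' P hPC).card_mul
  have h2 : Nat.card (P : Subgroup H) = 7 := hPc
  rw [h2, hHc, mul_comm] at h1
  exact Nat.eq_of_mul_eq_mul_left (by norm_num) h1

/-- A transitive group of degree 7 with self-normalising Sylow subgroup has order 7. -/
theorem seven_dvd_of_normal (hα : Fintype.card α = 7) (H : Subgroup (Equiv.Perm α)) [MulAction.IsPretransitive H α]
    (W : Subgroup H) [W.Normal] (hW : W ≠ ⊥) : 7 ∣ Nat.card W := by
  have : MulAction.IsPreprimitive H α := MulAction.IsPreprimitive.of_prime_card (by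
    rw [Nat.card_eq_fintype_card, hα]; norm_num)
  have : MulAction.IsPretransitive W α := MulAction.IsQuasiPreprimitive.isPretransitive_of_normal (G := H) (fun h => hW (by
    rw [eq_bot_iff]
    intro w hw
    refine Subgroup.mem_bot.2 (Subtype.ext (Equiv.ext fun z => ?_))
    exact MulAction.mem_fixedPoints.1 (h.symm ▸ Set.mem_univ z : z ∈ MulAction.fixedPoints W α) ⟨w, hw⟩))
  obtain ⟨a⟩ : Nonempty α := Fintype.card_pos_iff.1 (by omega)
  have h := (MulAction.stabilizer W a).index_dvd_card
  rwa [MulAction.index_stabilizer_of_transitive, Nat.card_eq_fintype_card (α := α), hα] at h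

omit [DecidableEq α] in
theorem descFactorial_dvd {M : Type*} [Group M] [MulAction M α] {k : ℕ} (hk : k ≤ Fintype.card α)
    (h : MulAction.IsMultiplyPretransitive M α k) : (Fintype.card α).descFactorial k ∣ Nat.card M := by
  classical
  obtain ⟨a⟩ : Nonempty (Fin k ↪ α) := Function.Embedding.nonempty_of_card_le (by rwa [Fintype.card_fin])
  have h2 := (MulAction.stabilizer M a).index_dvd_card
  rwa [MulAction.index_stabilizer_of_transitive, Nat.card_eq_fintype_card, Fintype.card_embedding_eq, Fintype.card_fin] at h2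

/-- A non-solvable transitive permutation group on 7 points that does not contain the alternating group is a simple group of order 168. -/
theorem result {α : Type*} [Fintype α] [DecidableEq α] (hα : Fintype.card α = 7) (G : Subgroup (Equiv.Perm α)) [MulAction.IsPretransitive G α] (hG : ¬ Group.IsSolvable G) (hA : ¬ alternatingGroup α ≤ G) : Nat.card G = 168 ∧ IsSimpleGroup G := by
  classical
  have : Fact (Nat.Prime 7) := ⟨by norm_num⟩
  obtain ⟨e, τ, hτ, hτe⟩ := exists_coord hα G
  set A := Subgroup.normalizer ((Subgroup.zpowers τ : Subgroup (Equiv.Perm α)) : Set (Equiv.Perm α))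
  have h2t : MulAction.IsMultiplyPretransitive G α 2 :=
    (Cfsg.Agent.S0675.result (α := α) (hα ▸ (by norm_num : Nat.Prime 7)) G).resolve_left hG
  -- orders
  have hS : Nat.card (Equiv.Perm α) = 5040 := by rw [Nat.card_perm, Nat.card_eq_fintype_card, hα]; rfl
  have : Nontrivial α := Fintype.one_lt_card_iff_nontrivial.1 (by omega)
  have hAi : (alternatingGroup α).index = 2 := alternatingGroup.index_eq_two
  have hAc : Nat.card (alternatingGroup α) = 2520 := by
    have := (alternatingGroup α).card_mul_index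
    rw [hAi, hS] at this; omega
  have hK : Nat.card (G ⊓ alternatingGroup α : Subgroup _) ≤ 360 := by
    have : IsSimpleGroup (alternatingGroup α) := alternatingGroup.isSimpleGroup (by rw [Nat.card_eq_fintype_card, hα]; norm_num)
    set K := (G ⊓ alternatingGroup α).subgroupOf (alternatingGroup α)
    have hKc : Nat.card K = Nat.card (G ⊓ alternatingGroup α : Subgroup _) :=
      Nat.card_congr (Subgroup.subgroupOfEquivOfLe inf_le_right).toEquiv
    have hKb : K.normalCore = ⊥ := by
      refine (Subgroup.normalCore_normal K).eq_bot_or_eq_top.resolve_right fun h => hA fun x hx => ?_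
      exact ((h ▸ K.normalCore_le : (⊤ : Subgroup (alternatingGroup α)) ≤ K) (Subgroup.mem_top ⟨x, hx⟩)).1
    have hinj : Function.Injective (MulAction.toPermHom (alternatingGroup α) (alternatingGroup α ⧸ K)) :=
      (MonoidHom.ker_eq_bot_iff _).1 (K.normalCore_eq_ker ▸ hKb)
    have hle := Nat.card_le_card_of_injective _ hinj
    rw [Nat.card_perm, hAc, ← Subgroup.index_eq_card] at hle
    have hi : 7 ≤ K.index := by
      by_contra h
      exact absurd (hle.trans (Nat.factorial_le (show K.index ≤ 6 by omega))) (by decide)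
    have := K.card_mul_index
    rw [hAc, hKc] at this
    nlinarith
  have hG2 : Nat.card G ≤ 2 * Nat.card (G ⊓ alternatingGroup α : Subgroup _) := by
    have h1 := Subgroup.index_inf_le (H := G) (K := alternatingGroup α)
    rw [hAi] at h1
    have h2 := G.card_mul_index
    have h3 := (G ⊓ alternatingGroup α).card_mul_index
    have h4 := Nat.mul_le_mul_left (Nat.card (G ⊓ alternatingGroup α : Subgroup _)) h1
    rw [h3, ← h2] at h4
    exact Nat.le_of_mul_le_mul_right (h4.trans_eq (by ring)) (Nat.pos_of_ne_zero Subgroup.index_ne_zero_of_finite)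
  have h42 : 42 ∣ Nat.card G := by
    have h := descFactorial_dvd (k := 2) (by omega) h2t
    rwa [hα] at h
  have hdvd : Nat.card G ∣ 5040 := hS ▸ Subgroup.card_subgroup_dvd_card G
  -- a normal subgroup of the alternating part is transitive
  have hτA : τ ∈ alternatingGroup α := by
    rw [Equiv.Perm.mem_alternatingGroup]
    have h := congrArg Equiv.Perm.sign (pow_orderOf_eq_one τ)
    rw [orderOf_coord hτe, map_pow, map_one] at h
    rcases Int.units_eq_one_or (Equiv.Perm.sign τ) with h' | h'
    · exact h'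
    · rw [h'] at h; exact absurd h (by decide)
  obtain ⟨d, hd, hGA, m, hm, hc, hd1⟩ := local_data hα hτe G hτ
  have hmain : d = 3 ∧ m = 8 := by
    have hdle : d ≤ 6 := Nat.le_of_dvd (by norm_num) hd
    have hmle : 7 * d * m ≤ 720 := by omega
    have hm1 : m ≠ 1 := fun h => by
      refine hG (solvable_of_affine G e fun g hg i => ?_)
      have hgA : g ∈ G ⊓ A := (Subgroup.eq_of_le_of_card_ge (inf_le_left : G ⊓ A ≤ G)
        (by rw [hc, hGA, h, mul_one])).symm ▸ hg
      obtain ⟨c, k, hck⟩ := affine_of_conj hτe ((Subgroup.mem_normalizer_iff.1 hgA.2 _).1 (Subgroup.mem_zpowers τ))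
      rw [hck, hck, hck]; ring
    have hd1' : d ≠ 1 := fun h => by
      obtain ⟨W, hWn, hWc⟩ := (hd1 h).resolve_left hm1
      have hWb : W ≠ ⊥ := fun hb => hm1 (by rw [← hWc, hb, Subgroup.card_bot])
      have := seven_dvd_of_normal hα G W hWb
      omega
    have h210 : Even d → 210 ∣ Nat.card G := fun hev => by
      obtain ⟨P, hP⟩ := sylow_coord hα G hτ hτe
      have h3t := Cfsg.Agent.S0676.result hα G hG P (by
        have hPN : Nat.card G = Nat.card (Subgroup.normalizer ((P : Subgroup G) : Set G)) * Nat.card (Sylow 7 G) := by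
          rw [P.card_eq_index_normalizer]
          exact (Subgroup.card_mul_index _).symm
        have hodd : Nat.card G % 2 = 0 := by omega
        by_contra hne
        rw [Nat.not_even_iff_odd] at hne
        have hle : G ⊓ A ≤ (Subgroup.normalizer ((P : Subgroup G) : Set G)).map G.subtype := by
          rintro g ⟨hgG, hgA⟩
          refine ⟨⟨g, hgG⟩, ?_, rfl⟩
          show _ ∈ Subgroup.normalizer ((P : Subgroup G) : Set G)
          rw [hP, Subgroup.mem_normalizer_iff]
          intro x
          have := Subgroup.mem_normalizer_iff.1 hgA x.1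
          constructor
          · rintro ⟨n, rfl⟩
            obtain ⟨n', hn'⟩ := this.1 ⟨n, rfl⟩
            exact ⟨n', Subtype.ext hn'⟩
          · rintro ⟨n, hn⟩
            obtain ⟨n', hn'⟩ := this.2 ⟨n, congrArg Subtype.val hn⟩
            exact ⟨n', Subtype.ext hn'⟩
        have hdd := Subgroup.card_dvd_of_le hle
        rw [Subgroup.card_map_of_injective G.subtype_injective, hGA] at hdd
        obtain ⟨r, hr⟩ := hev
        have h2 : 2 ∣ 7 * d := ⟨7 * r, by omega⟩
        exact absurd (h2.trans hdd) (by have := Nat.odd_iff.1 hne; omega))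
      have h := descFactorial_dvd (k := 3) (by omega) h3t
      rwa [hα] at h
    obtain ⟨j, hj⟩ := h42
    rcases (show d = 2 ∨ d = 3 ∨ d = 6 by interval_cases d <;> omega) with rfl | rfl | rfl
    · obtain ⟨r, hr⟩ := h210 even_two
      have : m = 15 := by omega
      subst this
      refine absurd ?_ hG
      have : IsZGroup G := IsZGroup.of_squarefree (by rw [hc]; decide +kernel)
      infer_instance
    · refine ⟨rfl, ?_⟩
      have h34 : m ≤ 34 := by omega
      interval_cases m <;> first | omega | (rw [hc] at hdvd; norm_num at hdvd)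
    · obtain ⟨r, hr⟩ := h210 (by decide)
      have : m = 15 := by omega
      subst this
      exfalso
      -- `G` has order 630, its even part has order 315 and is solvable
      set K := G ⊓ alternatingGroup α
      have hK1 : Nat.card K ∣ 630 := by rw [show 630 = Nat.card G from by rw [hc]]; exact Subgroup.card_dvd_of_le inf_le_left
      have hK2 : Nat.card K = 315 := by
        obtain ⟨s, hs⟩ := hK1
        have : 315 ≤ Nat.card K := by omega
        have : s ≤ 2 := by
          by_contra hh
          have := Nat.mul_le_mul_left (Nat.card K) (show 3 ≤ s by omega)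
          omega
        interval_cases s <;> omega
      have : MulAction.IsPretransitive K α := by
        refine MulAction.IsPretransitive.mk fun a b => ?_
        obtain ⟨i, rfl⟩ := e.surjective a
        obtain ⟨j, rfl⟩ := e.surjective b
        refine ⟨⟨τ ^ (j - i).val, K.pow_mem ⟨hτ, hτA⟩ _⟩, ?_⟩
        show (τ ^ (j - i).val) (e i) = e j
        rw [pow_apply_coord hτe, ZMod.natCast_zmod_val, add_sub_cancel]
      rcases Cfsg.Agent.S0675.result (α := α) (hα ▸ (by norm_num : Nat.Prime 7)) K with hs | hs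
      · refine hG ?_
        let π : G →* ℤˣ := Equiv.Perm.sign.comp G.subtype
        have : Group.IsSolvable π.ker := by
          have hle : π.ker.map G.subtype ≤ K := by
            rintro _ ⟨g, hg, rfl⟩
            exact ⟨g.2, Equiv.Perm.mem_alternatingGroup.2 hg⟩
          exact Group.isSolvable_of_ker_le_range (1 : Unit →* π.ker) ((Subgroup.inclusion hle).comp (π.ker.equivMapOfInjective G.subtype G.subtype_injective).toMonoidHom)
            (((MonoidHom.ker_eq_bot_iff ((Subgroup.inclusion hle).comp (π.ker.equivMapOfInjective G.subtype G.subtype_injective).toMonoidHom)).2 ((Subgroup.inclusion_injective hle).comp (MulEquiv.injective _))).le.trans bot_le)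
        have : Group.IsSolvable ℤˣ := Group.isSolvable_of_comm mul_comm
        exact Group.isSolvable_of_ker_le_range π.ker.subtype π (by simp)
      · have h := descFactorial_dvd (k := 2) (by omega) hs
        rw [hα, hK2] at h
        norm_num [Nat.descFactorial] at h
  obtain ⟨rfl, rfl⟩ := hmain
  have h168 : Nat.card G = 168 := by rw [hc]
  refine ⟨h168, ?_⟩
  have : Nontrivial G := Finite.one_lt_card_iff_nontrivial.1 (by omega)
  refine { eq_bot_or_eq_top_of_normal := fun M hM => ?_ }
  refine or_iff_not_imp_left.2 fun hMb => ?_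
  -- `M` contains every element of order 7
  have h7 := seven_dvd_of_normal hα G M hMb
  have hMc : Nat.card M ∣ 168 := h168 ▸ Subgroup.card_subgroup_dvd_card M
  obtain ⟨u, hu⟩ := exists_prime_orderOf_dvd_card' (G := M) 7 h7
  have hτM : (⟨τ, hτ⟩ : G) ∈ M := by
    obtain ⟨P, hP⟩ := sylow_coord hα G hτ hτe
    obtain ⟨Q, hQ⟩ := (IsPGroup.of_card (p := 7) (n := 1) (G := Subgroup.zpowers (u : G)) (by
      rw [Nat.card_zpowers, Subgroup.orderOf_coe, hu, pow_one])).exists_le_sylow
    have hQc : Nat.card Q = 7 := by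
      obtain ⟨g, hg⟩ := MulAction.exists_smul_eq G P Q
      rw [← hg]
      rw [Sylow.coe_subgroup_smul, ← Nat.card_congr (Subgroup.equivSMul (MulAut.conj g) (P : Subgroup G)).toEquiv, hP, Nat.card_zpowers,
        ← Subgroup.orderOf_coe]
      exact orderOf_coord hτe
    have hQM : (Q : Subgroup G) ≤ M := by
      have heq : Subgroup.zpowers (u : G) = (Q : Subgroup G) := Subgroup.eq_of_le_of_card_ge hQ (by
        rw [Nat.card_zpowers, Subgroup.orderOf_coe, hu]; exact hQc.le)
      rw [← heq, Subgroup.zpowers_le]; exact u.2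
    obtain ⟨g, hg⟩ := MulAction.exists_smul_eq G Q P
    have hτP : (⟨τ, hτ⟩ : G) ∈ (P : Subgroup G) := hP ▸ Subgroup.mem_zpowers _
    rw [← hg] at hτP
    obtain ⟨x, hx, hxe⟩ := hτP
    rw [← hxe]
    exact hM.conj_mem x (hQM hx) g
  set H := M.map G.subtype
  have hτH : τ ∈ H := ⟨_, hτM, rfl⟩
  have hHc : Nat.card H = Nat.card M := Subgroup.card_map_of_injective G.subtype_injective
  have hHG : H ≤ G := Subgroup.map_subtype_le M
  have : MulAction.IsPretransitive H α := by
    refine MulAction.IsPretransitive.mk fun a b => ?_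
    obtain ⟨i, rfl⟩ := e.surjective a
    obtain ⟨j, rfl⟩ := e.surjective b
    refine ⟨⟨τ ^ (j - i).val, H.pow_mem hτH _⟩, ?_⟩
    show (τ ^ (j - i).val) (e i) = e j
    rw [pow_apply_coord hτe, ZMod.natCast_zmod_val, add_sub_cancel]
  obtain ⟨d', hd', hHA, m', hm', hc', hd1''⟩ := local_data hα hτe H hτH
  have hd3 : 7 * d' ∣ 21 := by
    rw [← hHA, show 21 = Nat.card (G ⊓ A : Subgroup _) from hGA.symm]
    exact Subgroup.card_dvd_of_le (inf_le_inf_right _ hHG)
  have hM168 : 7 * d' * m' ≤ 168 := by rw [← hc', hHc]; exact Nat.le_of_dvd (by norm_num) hMc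
  have hd'3 : d' = 1 ∨ d' = 3 := (Nat.dvd_prime (by norm_num)).1 (Nat.dvd_of_mul_dvd_mul_left (by norm_num : 0 < 7) hd3)
  -- `M` is not inside the Sylow normaliser
  have hm'1 : m' ≠ 1 := fun h => by
    have hHA' : H ⊓ A = H := Subgroup.eq_of_le_of_card_ge inf_le_left (by rw [hc', hHA, h, mul_one])
    have hall : ∀ g ∈ G, g ∈ A := fun g hg => by
      have hconj : ∀ g ∈ G, g * τ * g⁻¹ ∈ Subgroup.zpowers τ := fun g hg => by
        have hmem : g * τ * g⁻¹ ∈ H := ⟨_, hM.conj_mem _ hτM ⟨g, hg⟩, rfl⟩
        rw [← hHA'] at hmem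
        set x := g * τ * g⁻¹ with hx
        obtain ⟨c, k, hck⟩ := affine_of_conj hτe ((Subgroup.mem_normalizer_iff.1 hmem.2 _).1 (Subgroup.mem_zpowers τ))
        have hx7 : x ^ 7 = 1 := by
          rw [hx, conj_pow, show τ ^ 7 = 1 from by rw [← orderOf_coord hτe]; exact pow_orderOf_eq_one τ]; group
        have hxi : ∀ i, x (e i) = e (c + k * i) := fun i => by rw [← hck i, Equiv.apply_symm_apply]
        have hiter : ∀ n : ℕ, ∀ i j, e.symm ((x ^ n) (e i)) - e.symm ((x ^ n) (e j)) = k ^ n * (i - j) := fun n => by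
          induction n with
          | zero => intro i j; simp
          | succ n ih =>
            intro i j
            rw [pow_succ, Equiv.Perm.coe_mul, Function.comp_apply, Function.comp_apply, hxi, hxi, ih]
            ring
        have hk : k = 1 := by
          have := hiter 7 1 0
          rw [hx7, ZMod.pow_card] at this
          simpa using this.symm
        refine ⟨((c.val : ℕ) : ℤ), Equiv.ext fun z => ?_⟩
        obtain ⟨i, rfl⟩ := e.surjective z
        show (τ ^ ((c.val : ℕ) : ℤ)) (e i) = x (e i)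
        rw [zpow_natCast, pow_apply_coord hτe, hxi, hk, ZMod.natCast_zmod_val, one_mul, add_comm]
      refine Subgroup.mem_normalizer_iff.2 fun y => ⟨?_, fun hy => ?_⟩
      · rintro ⟨n, rfl⟩
        show g * τ ^ n * g⁻¹ ∈ _
        rw [← conj_zpow]
        exact Subgroup.zpow_mem _ (hconj g hg) n
      · obtain ⟨n, hn⟩ := hy
        have h2 : g⁻¹ * τ ^ n * g⁻¹⁻¹ = y := by rw [show τ ^ n = g * y * g⁻¹ from hn]; group
        rw [← h2, ← conj_zpow]
        exact Subgroup.zpow_mem _ (hconj g⁻¹ (G.inv_mem hg)) n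
    have := Subgroup.card_dvd_of_le (show G ≤ G ⊓ A from le_inf le_rfl hall)
    rw [h168, hGA] at this
    norm_num at this
  rcases hd'3 with rfl | rfl
  · exfalso
    obtain ⟨W, hWn, hWc⟩ := (hd1'' rfl).resolve_left hm'1
    have := seven_dvd_of_normal hα H W fun hb => hm'1 (by rw [← hWc, hb, Subgroup.card_bot])
    omega
  · refine Subgroup.eq_top_of_le_card _ ?_
    rw [h168, ← hHc, hc']
    omega

end Cfsg.Agent.S0678
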