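import Cfsg.Statements.S4005
import Cfsg.Agent.Chars.Burnside
import Cfsg.Agent.Frobenius.FpfGroups
import Cfsg.Agent.Components.Cores

set_option autoImplicit false
open Cfsg

namespace Cfsg.Agent.S4005

theorem exists_pCore_ne_bot (G : Type*) [Group G] [Finite G] [Group.IsSolvable G] [Nontrivial G] :
    ∃ r : ℕ, r.Prime ∧ Cfsg.pCore r G ≠ ⊥ := by
  classical
  obtain ⟨M, -, hM⟩ := exists_minimal_le_of_wellFoundedLT
    (fun M : Subgroup G => M.Normal ∧ M ≠ ⊥) ⊤ ⟨inferInstance, top_ne_bot⟩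
  haveI := hM.1.1
  have hd : ⁅M, M⁆ = ⊥ := by
    by_contra hne
    have h1 : M ≤ ⁅M, M⁆ := hM.2 ⟨inferInstance, hne⟩ (Subgroup.commutator_le_left M M)
    refine hM.1.2 ?_
    obtain ⟨k, hk⟩ := (inferInstance : Group.IsSolvable G).solvable
    have : ∀ i, M ≤ derivedSeries G i := by
      intro i
      induction i with
      | zero => exact le_top
      | succ i ih => exact h1.trans (Subgroup.commutator_mono ih ih)
    exact le_bot_iff.1 (hk ▸ this k)
  rw [Subgroup.commutator_eq_bot_iff_le_centralizer] at hd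
  haveI : Nontrivial M := (Subgroup.nontrivial_iff_ne_bot M).2 hM.1.2
  obtain ⟨r, hr, hdr⟩ := Nat.exists_prime_and_dvd (Finite.one_lt_card (α := M)).ne'
  haveI := Fact.mk hr
  obtain ⟨z, hz⟩ := exists_prime_orderOf_dvd_card' (G := M) r hdr
  rw [← Subgroup.orderOf_coe] at hz
  let E : Subgroup G :=
    { carrier := {a | a ∈ M ∧ a ^ r = 1}
      one_mem' := ⟨M.one_mem, one_pow _⟩
      mul_mem' := fun {a b} ha hb => ⟨M.mul_mem ha.1 hb.1, by
        have hc : Commute a b := Subgroup.mem_centralizer_iff.1 (hd hb.1) a ha.1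
        rw [hc.mul_pow, ha.2, hb.2, one_mul]⟩
      inv_mem' := fun {a} ha => ⟨M.inv_mem ha.1, by rw [inv_pow, ha.2, inv_one]⟩ }
  haveI : E.Normal := ⟨fun a ha g => ⟨hM.1.1.conj_mem a ha.1 g, by rw [conj_pow, ha.2]; group⟩⟩
  have hE : IsPGroup r E := fun a => ⟨1, Subtype.ext (by rw [pow_one]; exact a.2.2)⟩
  refine ⟨r, hr, fun hb => ?_⟩
  have h1 : (z : G) ∈ Cfsg.pCore r G := Cfsg.Lib.Components.le_pCore hE ⟨z.2, hz ▸ pow_orderOf_eq_one _⟩
  rw [hb, Subgroup.mem_bot] at h1
  rw [h1, orderOf_one] at hz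
  exact hr.one_lt.ne hz



/-- A finite group whose set of element orders is exactly {1, 2, 3} has either a normal elementary abelian 3-subgroup of index 2 or a normal elementary abelian 2-subgroup of index 3. -/
theorem result {G : Type*} [Group G] [Finite G] (h : Set.range (orderOf : G → ℕ) = {k : ℕ | 1 ≤ k ∧ k ≤ 3}) :
    (∃ N : Subgroup G, N.Normal ∧ Cfsg.IsElementaryAbelian 3 N ∧ N.index = 2) ∨
      (∃ N : Subgroup G, N.Normal ∧ Cfsg.IsElementaryAbelian 2 N ∧ N.index = 3) := by
  classical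
  have hord : ∀ g : G, orderOf g = 1 ∨ orderOf g = 2 ∨ orderOf g = 3 := fun g => by
    have h1 : orderOf g ∈ {k : ℕ | 1 ≤ k ∧ k ≤ 3} := h ▸ Set.mem_range_self g
    obtain ⟨h2, h3⟩ := h1
    omega
  have hprime : ∀ q : ℕ, q.Prime → q ∣ Nat.card G → q = 2 ∨ q = 3 := fun q hq hd => by
    haveI := Fact.mk hq
    obtain ⟨g, hg⟩ := exists_prime_orderOf_dvd_card' q hd
    rcases hord g with h1 | h1 | h1
    · exact absurd (hg.symm.trans h1) hq.one_lt.ne'
    · exact Or.inl (hg.symm.trans h1)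
    · exact Or.inr (hg.symm.trans h1)
  have hexp : ∀ (r : ℕ), r.Prime → ∀ (g : G) (k : ℕ), orderOf g = r ^ k → g ^ r = 1 := by
    intro r hr g k hg
    rcases Nat.eq_zero_or_pos k with rfl | hk
    · rw [pow_zero, orderOf_eq_one_iff] at hg; rw [hg, one_pow]
    · have h1 : r ∣ orderOf g := hg ▸ dvd_pow_self r hk.ne'
      rcases hord g with h2 | h2 | h2 <;> rw [h2] at h1
      · exact absurd h1 hr.not_dvd_one
      · rw [(Nat.prime_dvd_prime_iff_eq hr Nat.prime_two).1 h1]; exact h2 ▸ pow_orderOf_eq_one g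
      · rw [(Nat.prime_dvd_prime_iff_eq hr Nat.prime_three).1 h1]; exact h2 ▸ pow_orderOf_eq_one g
  obtain ⟨m, -, hm⟩ : ∃ m, True ∧ ∃ b, Nat.card G = 2 ^ m * 3 ^ b := ⟨(Nat.card G).factorization 2, trivial,
    (Nat.card G).factorization 3, by
      conv_lhs => rw [← Nat.prod_factorization_pow_eq_self (n := Nat.card G) Nat.card_pos.ne']
      rw [Finsupp.prod_of_support_subset _ (s := ({2, 3} : Finset ℕ)) ?_ _ (by simp), Finset.prod_pair (by norm_num)]
      intro q hq
      rw [Nat.support_factorization, Nat.mem_primeFactors] at hq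
      simpa using hprime q hq.1 hq.2.1⟩
  haveI hsol : Group.IsSolvable G := Cfsg.Lib.Chars.burnside_isSolvable 2 3 Nat.prime_two Nat.prime_three G ⟨m, hm⟩
  obtain ⟨g2, hg2⟩ : (2 : ℕ) ∈ Set.range (orderOf : G → ℕ) := by rw [h]; exact ⟨by norm_num, by norm_num⟩
  obtain ⟨g3, hg3⟩ : (3 : ℕ) ∈ Set.range (orderOf : G → ℕ) := by rw [h]; exact ⟨by norm_num, by norm_num⟩
  haveI : Nontrivial G := ⟨⟨g2, 1, fun e => by rw [e, orderOf_one] at hg2; norm_num at hg2⟩⟩
  obtain ⟨r, hr, hN⟩ := exists_pCore_ne_bot G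
  obtain ⟨s, hs, hrs, hcases⟩ : ∃ s : ℕ, s.Prime ∧ r ≠ s ∧ ((r = 2 ∧ s = 3) ∨ (r = 3 ∧ s = 2)) := by
    haveI := Fact.mk hr
    obtain ⟨k, hk⟩ := IsPGroup.iff_card.1 (Cfsg.Lib.Components.isPGroup_pCore (G := G) r)
    have hk0 : k ≠ 0 := fun e => hN (Subgroup.card_eq_one.1 (by rw [hk, e, pow_zero]))
    rcases hprime r hr ((hk ▸ dvd_pow_self r hk0).trans (Subgroup.card_subgroup_dvd_card _)) with rfl | rfl
    · exact ⟨3, Nat.prime_three, by norm_num, Or.inl ⟨rfl, rfl⟩⟩
    · exact ⟨2, Nat.prime_two, by norm_num, Or.inr ⟨rfl, rfl⟩⟩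
  haveI := Fact.mk hr
  haveI := Fact.mk hs
  have hno : ∀ g : G, ¬ (r * s ∣ orderOf g) := fun g hd => by
    rcases hord g with h1 | h1 | h1 <;> rw [h1] at hd <;> rcases hcases with ⟨rfl, rfl⟩ | ⟨rfl, rfl⟩ <;> norm_num at hd
  set N := Cfsg.pCore r G with hNdef
  have hNr : IsPGroup r N := Cfsg.Lib.Components.isPGroup_pCore r
  have hNexp : ∀ v ∈ N, v ^ r = 1 := fun v hv => by
    obtain ⟨k, hk⟩ := IsPGroup.iff_orderOf.1 hNr ⟨v, hv⟩
    rw [Subgroup.orderOf_mk] at hk
    exact hexp r hr v k hk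
  -- the other Sylow subgroup has prime order
  obtain ⟨S⟩ := (inferInstance : Nonempty (Sylow s G))
  have hfpf : Cfsg.Lib.Frobenius.Fpf (S : Subgroup G) N := by
    intro a ha ha1
    rw [Subgroup.eq_bot_iff_forall]
    rintro v ⟨hv, hva⟩
    by_contra hv1
    obtain ⟨k, hk⟩ := IsPGroup.iff_orderOf.1 S.2 ⟨a, ha⟩
    rw [Subgroup.orderOf_mk] at hk
    have hoa := orderOf_eq_prime (hexp s hs a k hk) ha1
    have hov := orderOf_eq_prime (hNexp v hv) hv1
    refine hno (v * a) ?_
    rw [(show Commute v a from Subgroup.mem_centralizer_singleton_iff.1 hva).orderOf_mul_eq_mul_orderOf_of_coprime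
      (by rw [hoa, hov]; exact (Nat.coprime_primes hr hs).2 hrs), hoa, hov]
  have hsG : s ∣ Nat.card G := by
    rcases hcases with ⟨-, rfl⟩ | ⟨-, rfl⟩
    · exact hg3 ▸ orderOf_dvd_natCard g3
    · exact hg2 ▸ orderOf_dvd_natCard g2
  have hScard : Nat.card (S : Subgroup G) = s := by
    obtain ⟨x, hx⟩ := exists_prime_orderOf_dvd_card' (G := (S : Subgroup G)) s (S.dvd_card_of_dvd_card hsG)
    have htop : ∀ y : (S : Subgroup G), y ∈ Subgroup.zpowers x := by
      intro y
      by_cases hy : y = 1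
      · exact hy ▸ one_mem _
      · obtain ⟨k, hk⟩ := IsPGroup.iff_orderOf.1 S.2 y
        refine hfpf.unique (by rw [Subgroup.normalizer_eq_top N]; exact le_top) hN S.2 x y hx ?_
        refine orderOf_eq_prime (Subtype.ext ?_) hy
        rw [← Subgroup.orderOf_coe] at hk
        simpa using hexp s hs (y : G) k hk
    exact (Nat.card_congr (Equiv.subtypeUnivEquiv htop).symm).trans ((Nat.card_zpowers x).trans hx)
  -- index of a Sylow `r`-subgroup
  obtain ⟨P⟩ := (inferInstance : Nonempty (Sylow r G))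
  have hPidx : (P : Subgroup G).index = s := by
    have h1 : Nat.card (P : Subgroup G) * Nat.card (S : Subgroup G) = Nat.card G := by
      rw [P.card_eq_multiplicity, S.card_eq_multiplicity]
      conv_rhs => rw [← Nat.prod_factorization_pow_eq_self (n := Nat.card G) Nat.card_pos.ne']
      rw [Finsupp.prod_of_support_subset _ (s := ({r, s} : Finset ℕ)) ?_ _ (by simp), Finset.prod_pair hrs]
      intro q hq
      rw [Nat.support_factorization, Nat.mem_primeFactors] at hq
      rcases hprime q hq.1 hq.2.1 with rfl | rfl <;> rcases hcases with ⟨rfl, rfl⟩ | ⟨rfl, rfl⟩ <;> simp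
    rw [hScard, ← (P : Subgroup G).card_mul_index] at h1
    exact (Nat.eq_of_mul_eq_mul_left Nat.card_pos h1).symm
  have hmax : (P : Subgroup G).Normal → N = P := fun hn => le_antisymm
    (by
      haveI := Sylow.unique_of_normal P hn
      obtain ⟨Q, hQ⟩ := hNr.exists_le_sylow
      exact Subsingleton.elim Q P ▸ hQ)
    (Cfsg.Lib.Components.le_pCore P.2)
  rcases hcases with ⟨rfl, rfl⟩ | ⟨rfl, rfl⟩
  · -- elementary abelian `2`-group of index `3`
    refine Or.inr ⟨N, inferInstance, ⟨⟨⟨fun a b => Subtype.ext ?_⟩⟩, hNexp⟩, ?_⟩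
    · have h1 := hNexp _ (N.mul_mem a.2 b.2)
      have ha := hNexp _ a.2
      have hb := hNexp _ b.2
      rw [pow_two] at h1 ha hb
      calc (a : G) * b = (a : G) * ((a * b) * (a * b)) * b := by rw [h1, mul_one]
        _ = ((a : G) * a) * (b * a) * ((b : G) * b) := by group
        _ = (b : G) * a := by rw [ha, hb, one_mul, mul_one]
    suffices hPn : (P : Subgroup G).Normal by rw [hmax hPn, hPidx]
    by_contra hPn
    obtain ⟨y, hyP, hyN⟩ : ∃ y ∈ (P : Subgroup G), y ∉ N := by
      by_contra hall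
      push Not at hall
      refine hPn ?_
      rw [show (P : Subgroup G) = N from (P.3 hNr hall).symm]
      infer_instance
    haveI : Nontrivial (G ⧸ N) := ⟨⟨(y : G ⧸ N), 1, fun e => hyN ((QuotientGroup.eq_one_iff y).1 e)⟩⟩
    obtain ⟨t, ht, hR⟩ := exists_pCore_ne_bot (G ⧸ N)
    haveI := Fact.mk ht
    have ht3 : t = 3 := by
      obtain ⟨k, hk⟩ := IsPGroup.iff_card.1 (Cfsg.Lib.Components.isPGroup_pCore (G := G ⧸ N) t)
      have hk0 : k ≠ 0 := fun e => hR (Subgroup.card_eq_one.1 (by rw [hk, e, pow_zero]))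
      have hd : t ∣ Nat.card G := ((hk ▸ dvd_pow_self t hk0).trans (Subgroup.card_subgroup_dvd_card _)).trans
        (Subgroup.card_quotient_dvd_card N)
      rcases hprime t ht hd with rfl | h3
      · exfalso
        refine hR ((Subgroup.eq_bot_iff_forall _).2 fun z hz => ?_)
        obtain ⟨g, rfl⟩ := QuotientGroup.mk_surjective z
        refine (QuotientGroup.eq_one_iff g).2 ?_
        haveI : ((Cfsg.pCore 2 (G ⧸ N)).comap (QuotientGroup.mk' N)).Normal := Subgroup.Normal.comap inferInstance _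
        refine Cfsg.Lib.Components.le_pCore (N := (Cfsg.pCore 2 (G ⧸ N)).comap (QuotientGroup.mk' N)) ?_
          (show g ∈ (Cfsg.pCore 2 (G ⧸ N)).comap (QuotientGroup.mk' N) from hz)
        intro w
        obtain ⟨a, ha⟩ := (Cfsg.Lib.Components.isPGroup_pCore (G := G ⧸ N) 2) ⟨_, w.2⟩
        have hw : (w : G) ^ 2 ^ a ∈ N := (QuotientGroup.eq_one_iff _).1 (congrArg Subtype.val ha)
        obtain ⟨b, hb⟩ := hNr ⟨_, hw⟩
        refine ⟨a + b, Subtype.ext ?_⟩
        show (w : G) ^ 2 ^ (a + b) = 1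
        rw [pow_add, pow_mul]
        exact congrArg Subtype.val hb
      · exact h3
    subst ht3
    set R := Cfsg.pCore 3 (G ⧸ N) with hRdef
    have hRcard : Nat.card R = 3 := by
      obtain ⟨k, hk⟩ := IsPGroup.iff_card.1 (Cfsg.Lib.Components.isPGroup_pCore (G := G ⧸ N) 3)
      have hd := ((Subgroup.card_subgroup_dvd_card R).trans (Subgroup.card_quotient_dvd_card N))
      rw [← (P : Subgroup G).card_mul_index, hPidx, P.card_eq_multiplicity, hk] at hd
      have h3 : 3 ^ k ∣ 3 := ((Nat.Coprime.pow _ _ (by norm_num)).dvd_of_dvd_mul_left hd)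
      rcases k with _ | _ | k
      · exact absurd (Subgroup.card_eq_one.1 (by rw [hk, pow_zero])) hR
      · rw [hk, pow_one]
      · exact absurd (Nat.le_of_dvd (by norm_num) h3) (by rw [pow_succ, pow_succ]; have := Nat.one_le_pow k 3 (by norm_num); omega)
    obtain ⟨⟨z, hzR⟩, hz⟩ := exists_prime_orderOf_dvd_card' (G := R) 3 (hRcard ▸ dvd_rfl)
    rw [Subgroup.orderOf_mk] at hz
    obtain ⟨x, rfl⟩ := QuotientGroup.mk_surjective z
    have hy2 : y ^ 2 = 1 := by
      obtain ⟨k, hk⟩ := IsPGroup.iff_orderOf.1 P.2 ⟨y, hyP⟩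
      rw [Subgroup.orderOf_mk] at hk
      exact hexp 2 hr y k hk
    -- `x` and its conjugate agree modulo `N`
    have hall : ∀ w ∈ R, w = 1 ∨ w = (x : G ⧸ N) ∨ w = (x : G ⧸ N) * (x : G ⧸ N) := by
      intro w hw
      have h1 : Subgroup.zpowers (x : G ⧸ N) = R := Subgroup.eq_of_le_of_card_ge (Subgroup.zpowers_le.2 hzR)
        (by rw [Nat.card_zpowers, hz, hRcard])
      rw [← h1] at hw
      obtain ⟨i, rfl⟩ := hw
      show (x : G ⧸ N) ^ i = _ ∨ (x : G ⧸ N) ^ i = _ ∨ (x : G ⧸ N) ^ i = _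
      rw [← zpow_mod_orderOf, hz]
      have hlt : i % 3 < 3 := Int.emod_lt_of_pos i (by norm_num)
      have hge : 0 ≤ i % 3 := Int.emod_nonneg i (by norm_num)
      interval_cases (i % 3)
      · exact Or.inl (zpow_zero _)
      · exact Or.inr (Or.inl (zpow_one _))
      · exact Or.inr (Or.inr (zpow_two _))
    have hyb : (y : G ⧸ N) ≠ 1 := fun e => hyN ((QuotientGroup.eq_one_iff y).1 e)
    have hyo : orderOf (y : G ⧸ N) = 2 := orderOf_eq_prime (by rw [← QuotientGroup.mk_pow, hy2, QuotientGroup.mk_one]) hyb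
    rcases hall _ ((inferInstance : R.Normal).conj_mem _ hzR (y : G ⧸ N)) with h1 | h1 | h1
    · rw [mul_inv_eq_one, mul_eq_left] at h1
      rw [h1, orderOf_one] at hz
      norm_num at hz
    · have hc : Commute (y : G ⧸ N) (x : G ⧸ N) := mul_inv_eq_iff_eq_mul.1 h1
      refine hno (y * x) ?_
      have h2 := orderOf_map_dvd (QuotientGroup.mk' N) (y * x)
      rw [map_mul] at h2
      rwa [show orderOf ((QuotientGroup.mk' N) y * (QuotientGroup.mk' N) x) = 2 * 3 from by
        rw [QuotientGroup.mk'_apply, QuotientGroup.mk'_apply, hc.orderOf_mul_eq_mul_orderOf_of_coprime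
          (by rw [hyo, hz]; norm_num), hyo, hz]] at h2
    · -- `y` centralizes `N`, so `x` does
      have hNc : ∀ a ∈ N, ∀ b ∈ N, a * b = b * a := fun a ha b hb => by
        have h1 := hNexp _ (N.mul_mem ha hb)
        have hA := hNexp _ ha
        have hB := hNexp _ hb
        rw [pow_two] at h1 hA hB
        calc a * b = a * ((a * b) * (a * b)) * b := by rw [h1, mul_one]
          _ = (a * a) * (b * a) * (b * b) := by group
          _ = b * a := by rw [hA, hB, one_mul, mul_one]
      have hNP : N ≤ (P : Subgroup G) := by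
        obtain ⟨Q, hQ⟩ := hNr.exists_le_sylow
        obtain ⟨c, rfl⟩ := MulAction.exists_smul_eq G P Q
        intro n hn
        have h2 := hQ ((inferInstance : N.Normal).conj_mem n hn c)
        rw [Sylow.coe_subgroup_smul] at h2
        obtain ⟨w, hw, hwe⟩ := h2
        have : w = n := (MulAut.conj c).injective hwe
        exact this ▸ hw
      have hyc : ∀ n ∈ N, y * n = n * y := by
        intro n hn
        obtain ⟨k, hk⟩ := IsPGroup.iff_orderOf.1 P.2 ⟨y * n, mul_mem hyP (hNP hn)⟩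
        rw [Subgroup.orderOf_mk] at hk
        have h2 := hexp 2 hr _ k hk
        have hn2 := hNexp n hn
        rw [pow_two] at h2 hn2 hy2
        calc y * n = y * ((y * n) * (y * n)) * n := by rw [h2, mul_one]
          _ = (y * y) * (n * y) * (n * n) := by group
          _ = n * y := by rw [hy2, hn2, one_mul, mul_one]
      have hx3 : x ∉ N := fun hx => by
        rw [(QuotientGroup.eq_one_iff x).2 hx, orderOf_one] at hz
        norm_num at hz
      have hxo : x ^ 3 = 1 := by
        rcases hord x with e | e | e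
        · rw [orderOf_eq_one_iff] at e; exact absurd (e ▸ N.one_mem) hx3
        · exfalso
          have := orderOf_map_dvd (QuotientGroup.mk' N) x
          rw [QuotientGroup.mk'_apply, hz, e] at this
          norm_num at this
        · exact e ▸ pow_orderOf_eq_one x
      obtain ⟨w, hw, hwe⟩ : ∃ w ∈ N, y * x * y⁻¹ = x * x * w := by
        refine ⟨(x * x)⁻¹ * (y * x * y⁻¹), QuotientGroup.eq.1 ?_, by group⟩
        rw [QuotientGroup.mk_mul, QuotientGroup.mk_mul, QuotientGroup.mk_mul, QuotientGroup.mk_inv]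
        exact h1.symm
      obtain ⟨n, hn, hn1⟩ := (N.bot_or_exists_ne_one).resolve_left hN
      have hconj := (inferInstance : N.Normal).conj_mem
      have e1 : (y * x * y⁻¹) * n * (y * x * y⁻¹)⁻¹ = x * n * x⁻¹ := by
        have ha : y⁻¹ * n * y = n := by
          rw [mul_assoc, ← hyc n hn, ← mul_assoc, inv_mul_cancel, one_mul]
        calc (y * x * y⁻¹) * n * (y * x * y⁻¹)⁻¹ = y * (x * (y⁻¹ * n * y) * x⁻¹) * y⁻¹ := by group
          _ = y * (x * n * x⁻¹) * y⁻¹ := by rw [ha]
          _ = x * n * x⁻¹ := by rw [hyc _ (hconj n hn x), mul_inv_cancel_right]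
      have e2 : (x * x * w) * n * (x * x * w)⁻¹ = x * (x * n * x⁻¹) * x⁻¹ := by
        have ha : w * n * w⁻¹ = n := by rw [hNc w hw n hn, mul_inv_cancel_right]
        calc (x * x * w) * n * (x * x * w)⁻¹ = x * x * (w * n * w⁻¹) * (x * x)⁻¹ := by group
          _ = _ := by rw [ha]; group
      rw [hwe, e2] at e1
      have hc : Commute x n := by
        have h3 : x * n * x⁻¹ = n := by
          have := congrArg (fun z => x⁻¹ * z * x) e1
          simpa [mul_assoc] using this
        exact mul_inv_eq_iff_eq_mul.1 h3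
      refine hno (n * x) ?_
      rw [hc.symm.orderOf_mul_eq_mul_orderOf_of_coprime, orderOf_eq_prime (hNexp n hn) hn1,
        orderOf_eq_prime hxo (fun e => hx3 (e ▸ N.one_mem))]
      rw [orderOf_eq_prime (hNexp n hn) hn1, orderOf_eq_prime hxo (fun e => hx3 (e ▸ N.one_mem))]
      norm_num
  · -- elementary abelian `3`-group of index `2`
    have hPn : (P : Subgroup G).Normal := Subgroup.normal_of_index_eq_two hPidx
    have hNP := hmax hPn
    obtain ⟨t, ht⟩ : ∃ t : G, orderOf t = 2 := ⟨g2, hg2⟩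
    have ht2 : t * t = 1 := by rw [← pow_two, ← ht]; exact pow_orderOf_eq_one t
    have htN : t ∉ N := fun htN => by
      have h1 := hNexp t htN
      rw [← orderOf_dvd_iff_pow_eq_one, ht] at h1
      norm_num at h1
    have hinv : ∀ n ∈ N, t * n * t = n⁻¹ := by
      intro n hn
      have htn : t * n ∉ N := fun hh => htN (by simpa using N.mul_mem hh (N.inv_mem hn))
      rcases hord (t * n) with e | e | e
      · rw [orderOf_eq_one_iff] at e; exact absurd (e ▸ N.one_mem) htn
      · have h1 : (t * n) ^ 2 = 1 := e ▸ pow_orderOf_eq_one _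
        rw [pow_two, ← mul_assoc] at h1
        exact eq_inv_of_mul_eq_one_left h1
      · exfalso
        have hidx : N.index = 2 := hNP ▸ hPidx
        have h2 : ((t * n) * (t * n)) ∈ N := Subgroup.mul_self_mem_of_index_two hidx _
        have h3 : (t * n) ^ 3 = 1 := e ▸ pow_orderOf_eq_one _
        have h4 : t * n = ((t * n) * (t * n))⁻¹ := eq_inv_of_mul_eq_one_left (by rw [← h3]; simp [pow_succ, mul_assoc])
        exact htn (h4 ▸ N.inv_mem h2)
    refine Or.inl ⟨N, inferInstance, ⟨⟨⟨fun a b => Subtype.ext ?_⟩⟩, hNexp⟩, hNP ▸ hPidx⟩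
    have h1 := hinv _ (N.mul_mem b.2 a.2)
    have h2 : ((b : G) * a)⁻¹ = (b : G)⁻¹ * (a : G)⁻¹ := by
      rw [← h1, ← hinv b b.2, ← hinv a a.2]
      calc t * ((b : G) * a) * t = t * b * 1 * a * t := by group
        _ = t * b * (t * t) * a * t := by rw [ht2]
        _ = _ := by group
    have h3 := congrArg (·⁻¹) h2
    simp only [inv_inv, mul_inv_rev] at h3
    exact h3.symm

end Cfsg.Agent.S4005
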