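import Cfsg.Statements.S2530
import Cfsg.Agent.Known.CoxeterSymm

set_option autoImplicit false
open Cfsg

namespace Cfsg.Agent.S2530

/-- The Coxeter presentation of the symmetric group: for every n, the symmetric group on n+1 letters is the Coxeter group of type A_n with the adjacent transpositions (i, i+1) as simple reflections; that is, it is presented by generators r_1, …, r_n subject to r_i² = 1, (r_i r_j)² = 1 for |i − j| > 1 and (r_i r_{i+1})³ = 1, with r_i mapping to (i, i+1). -/
theorem result (n : ℕ) :
    ∃ cs : CoxeterSystem (CoxeterMatrix.A n) (Equiv.Perm (Fin (n + 1))), ∀ i : Fin n, cs.simple i = Equiv.swap i.castSucc i.succ := by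
  classical
  set M := CoxeterMatrix.A n with hM
  let c := M.toCoxeterSystem
  have hval : ∀ i j : Fin n, M i j = if i = j then 1 else if (j : ℕ) + 1 = i ∨ (i : ℕ) + 1 = j then 3 else 2 := fun i j => rfl
  have hrel : ∀ i j : Fin n, (c.simple i * c.simple j) ^ M i j = 1 := fun i j => c.simple_mul_simple_pow i j
  let f : Fin n → Equiv.Perm (Fin (n + 1)) := fun i => Equiv.swap i.castSucc i.succ
  have hf : M.IsLiftable f := by
    intro i j
    rw [hval]
    split_ifs with h1 h2
    · subst h1; rw [pow_one]; exact Equiv.swap_mul_self _ _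
    · rcases h2 with h2 | h2
      · have e : i.castSucc = j.succ := Fin.ext (by simpa using h2.symm)
        have h3 : (f i * f j).IsThreeCycle := by
          show (Equiv.swap i.castSucc i.succ * Equiv.swap j.castSucc j.succ).IsThreeCycle
          rw [← e, Equiv.swap_comm j.castSucc i.castSucc]
          exact Equiv.Perm.isThreeCycle_swap_mul_swap_same (by simp [Fin.ext_iff]) (by simp [Fin.ext_iff]; omega) (by simp [Fin.ext_iff]; omega)
        rw [← h3.orderOf, pow_orderOf_eq_one]
      · have e : i.succ = j.castSucc := Fin.ext (by simpa using h2)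
        have h3 : (f i * f j).IsThreeCycle := by
          show (Equiv.swap i.castSucc i.succ * Equiv.swap j.castSucc j.succ).IsThreeCycle
          rw [← e, Equiv.swap_comm i.castSucc i.succ]
          exact Equiv.Perm.isThreeCycle_swap_mul_swap_same (by simp [Fin.ext_iff]) (by simp [Fin.ext_iff]; omega) (by simp [Fin.ext_iff]; omega)
        rw [← h3.orderOf, pow_orderOf_eq_one]
    · have hd : (f i).Disjoint (f j) := by
        intro x
        by_cases hx : x = i.castSucc ∨ x = i.succ
        · right
          refine Equiv.swap_apply_of_ne_of_ne ?_ ?_ <;> rcases hx with rfl | rfl <;> simp [Fin.ext_iff] <;> omega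
        · left
          push Not at hx
          exact Equiv.swap_apply_of_ne_of_ne hx.1 hx.2
      rw [hd.commute.mul_pow, sq, sq, Equiv.swap_mul_self, Equiv.swap_mul_self, one_mul]
  let φ : M.Group →* Equiv.Perm (Fin (n + 1)) := c.lift ⟨f, hf⟩
  have hφ : ∀ i, φ (c.simple i) = f i := fun i => c.lift_apply_simple hf i
  have hsurj : Function.Surjective φ := by
    rw [← MonoidHom.range_eq_top, eq_top_iff]
    rintro x -
    have hx : x ∈ Submonoid.closure (Set.range fun i : Fin n => Equiv.swap i.castSucc i.succ) := by
      rw [Equiv.Perm.mclosure_swap_castSucc_succ n]; trivial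
    induction hx using Submonoid.closure_induction with
    | mem y hy => obtain ⟨i, rfl⟩ := hy; exact ⟨c.simple i, hφ i⟩
    | one => exact one_mem _
    | mul y z _ _ hy hz => exact mul_mem hy hz
  let s : ℕ → M.Group := fun i => if h : i < n then c.simple ⟨i, h⟩ else 1
  have hs : ∀ i (h : i < n), s i = c.simple ⟨i, h⟩ := fun i h => dif_pos h
  have h2 : ∀ i < n, s i * s i = 1 := fun i h => by rw [hs i h]; exact c.simple_mul_simple_self _
  have hinv : ∀ i < n, (s i)⁻¹ = s i := fun i h => inv_eq_of_mul_eq_one_right (h2 i h)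
  obtain ⟨hfin, hcard⟩ := Cfsg.Lib.CoxeterSymm.bound n h2 (fun i hi j hj hij => by
      have h := hrel ⟨i, hi⟩ ⟨j, hj⟩
      rw [hval, if_neg (by simp [Fin.ext_iff]; omega), if_neg (by simp only; omega), sq, ← hs i hi, ← hs j hj] at h
      have e := eq_inv_of_mul_eq_one_left h
      rw [mul_inv_rev, hinv i hi, hinv j hj] at e
      exact e)
    (fun i hi => by
      have h := hrel ⟨i, by omega⟩ ⟨i + 1, hi⟩
      rw [hval, if_neg (by simp [Fin.ext_iff]), if_pos (by right; rfl), ← hs i (by omega), ← hs (i + 1) hi,
        show (3 : ℕ) = 2 + 1 from rfl, pow_succ, sq] at h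
      have h' : (s i * s (i + 1) * s i) * (s (i + 1) * s i * s (i + 1)) = 1 := by
        simpa only [mul_assoc] using h
      have e := eq_inv_of_mul_eq_one_left h'
      simp only [mul_inv_rev, hinv i (by omega), hinv (i + 1) hi, ← mul_assoc] at e
      exact e)
  have htop : (Subgroup.closure (s '' Set.Iio n) : Set M.Group) = Set.univ := by
    rw [show s '' Set.Iio n = Set.range c.simple by
      ext x; constructor
      · rintro ⟨i, hi, rfl⟩; exact ⟨⟨i, hi⟩, (hs i hi).symm⟩
      · rintro ⟨i, rfl⟩; exact ⟨i, i.isLt, hs i i.isLt⟩, c.subgroup_closure_range_simple]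
    rfl
  rw [htop] at hfin hcard
  haveI : Finite M.Group := Set.finite_univ_iff.1 hfin
  rw [Set.ncard_univ] at hcard
  have hbij : Function.Bijective φ := by
    refine (Nat.bijective_iff_surjective_and_card φ).2 ⟨hsurj, le_antisymm ?_ (Nat.card_le_card_of_surjective φ hsurj)⟩
    rw [Nat.card_perm, Nat.card_fin]; exact hcard
  refine ⟨⟨(MulEquiv.ofBijective φ hbij).symm⟩, fun i => ?_⟩
  show (MulEquiv.ofBijective φ hbij).symm.symm (PresentedGroup.of i) = _
  rw [MulEquiv.symm_symm]
  exact hφ i

end Cfsg.Agent.S2530
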