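import Cfsg.Statements.S3805
import Cfsg.Agent.LocalThree.Order9.Klein
import Cfsg.Agent.LocalThree.Order9.Coords

set_option autoImplicit false
open Cfsg

namespace Cfsg.Agent.S3805

/-- Let G be a finite group whose Sylow 3-subgroup T is elementary abelian of order 9 and self-centralizing, with N_G(T)/T a Klein four-group, and suppose that the centralizer of every nonidentity element of T lies in N_G(T). Then T is normal in G. -/
theorem result {G : Type*} [Group G] [Finite G]
    (T : Sylow 3 G) (hT : Cfsg.IsElementaryAbelian 3 (T : Subgroup G)) (hcard : Nat.card T = 9)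
    (hC : Subgroup.centralizer ((T : Subgroup G) : Set G) = T)
    [hn : ((T : Subgroup G).subgroupOf (Subgroup.normalizer ((T : Subgroup G) : Set G))).Normal]
    (hK : IsKleinFour (↥(Subgroup.normalizer ((T : Subgroup G) : Set G)) ⧸
      (T : Subgroup G).subgroupOf (Subgroup.normalizer ((T : Subgroup G) : Set G))))
    (hloc : ∀ t ∈ (T : Subgroup G), t ≠ 1 →
      Subgroup.centralizer ({t} : Set G) ≤ Subgroup.normalizer ((T : Subgroup G) : Set G)) :
    Subgroup.normalizer ((T : Subgroup G) : Set G) = ⊤ := by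
  obtain ⟨-, h3⟩ := hT
  obtain ⟨e⟩ : Nonempty ((↥(Subgroup.normalizer ((T : Subgroup G) : Set G)) ⧸
      (T : Subgroup G).subgroupOf (Subgroup.normalizer ((T : Subgroup G) : Set G))) ≃* DihedralGroup 2) :=
    IsKleinFour.nonempty_mulEquiv
  obtain ⟨j, hj, hjP⟩ := Cfsg.Lib.Order9.exists_lift (T : Subgroup G) hn
    (by rw [show Nat.card (T : Subgroup G) = 9 from hcard, DihedralGroup.nat_card]; decide) e
  have hN : Nat.card (Subgroup.normalizer ((T : Subgroup G) : Set G)) = 36 :=
    Cfsg.Lib.Order9.card_norm_of (T : Subgroup G) (m := 4) hcard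
      (by rw [Subgroup.index, Nat.card_congr e.toEquiv, DihedralGroup.nat_card])
  obtain ⟨S, hS⟩ := Cfsg.Lib.Order9.setup4 T hcard
    (fun a ha => by rw [← pow_two, ← pow_succ']; exact h3 a ha) hloc hC j hj hjP hN
  by_contra hne
  exact Cfsg.Lib.Order9.klein_false S (hS ▸ hne)

end Cfsg.Agent.S3805
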