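import Cfsg.Statements.S5607
import Cfsg.Agent.Golay.ElementFix

set_option autoImplicit false
open scoped Pointwise
open Cfsg

namespace Cfsg.Agent.S5607

open Cfsg.Lib.Golay Cfsg.Lib.PermCert MulAction
open scoped Pointwise


/-- For a fixed-point-free involution t of the group of the length-24 code: its centraliser in that group has order 7680, is transitive on the 24 points, and is contained, together with t, in the stabiliser of some sextet. -/
theorem result (t : Equiv.Perm Cfsg.GolayPt) (ht : t ∈ Cfsg.M24) (h₂ : orderOf t = 2) (h₀ : ∀ p, t p ≠ p) : Nat.card {c : Equiv.Perm Cfsg.GolayPt // c ∈ Cfsg.M24 ∧ c * t = t * c} = 7680 ∧ (∀ p q : Cfsg.GolayPt, ∃ c ∈ Cfsg.M24, c * t = t * c ∧ c p = q) ∧ ∃ S ∈ Cfsg.sextets, t • S = S ∧ ∀ c ∈ Cfsg.M24, c * t = t * c → c • S = S := by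
  obtain ⟨r, hr, ⟨-, h8⟩ | ⟨e, -⟩⟩ := involution_classes ht h₂
  · rw [fixCard_eq_zero.mpr h₀] at h8
    simp at h8
  have hC : ∀ c, (c ∈ Cfsg.M24 ∧ c * t = t * c) ↔ r⁻¹ * c * r ∈ cgInvB.grp := by
    intro c
    rw [← centralizer_invB]
    refine and_congr ⟨fun h => mul_mem (mul_mem (inv_mem hr) h) hr, fun h => ?_⟩ ?_
    · simpa [mul_assoc] using mul_mem (mul_mem hr h) (inv_mem hr)
    · rw [e]
      constructor <;> intro h
      · calc r⁻¹ * c * r * toP invB.1 = r⁻¹ * (c * (r * toP invB.1 * r⁻¹)) * r := by group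
          _ = r⁻¹ * (r * toP invB.1 * r⁻¹ * c) * r := by rw [h]
          _ = toP invB.1 * (r⁻¹ * c * r) := by group
      · calc c * (r * toP invB.1 * r⁻¹) = r * (r⁻¹ * c * r * toP invB.1) * r⁻¹ := by group
          _ = r * (toP invB.1 * (r⁻¹ * c * r)) * r⁻¹ := by rw [h]
          _ = r * toP invB.1 * r⁻¹ * c := by group
  refine ⟨?_, fun p q => ?_, r • famOf codeSext, smul_mem_sextets hr famSext_mem, ?_, fun c hc hct => ?_⟩
  · rw [Nat.card_congr (Equiv.subtypeEquiv (MulAut.conj r⁻¹).toEquiv (q := fun k => k ∈ cgInvB.grp)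
      (fun c => (hC c).trans (by simp)))]
    exact (CG.card_grp cgInvB_ok).trans (by decide +kernel)
  · have hb : ∀ u : Cfsg.GolayPt, ∃ k ∈ cgInvB.grp, k (ptAt cgInvBL0.b) = u := by
      intro u
      have hch : check 24 cgInvB.chain = true := (CG.ok_spec cgInvB_ok).1
      have hall : (List.range 24).all (fun i => decide (i ∈ cgInvBL0.tr.map (·.1))) = true := by decide +kernel
      simp only [List.all_eq_true, List.mem_range, decide_eq_true_eq] at hall
      obtain ⟨g, hg, hgu⟩ := orbit_top (L := cgInvBL0) (r := [cgInvBL1, cgInvBL2]) hch (ptEquiv u) (hall _ (pidx_lt u))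
      refine ⟨permHom g, ⟨g, hg, rfl⟩, pidx_injective ?_⟩
      rw [show pidx u = (ptEquiv u : ℕ) from rfl, ← hgu]
      show ((ptEquiv (ptEquiv.symm (g (ptEquiv (ptAt cgInvBL0.b))))) : ℕ) = _
      rw [Equiv.apply_symm_apply]
      congr 2
    obtain ⟨k, hk, hkp⟩ := hb (r⁻¹ p)
    obtain ⟨l, hl, hlq⟩ := hb (r⁻¹ q)
    obtain ⟨h1, h2⟩ := (hC (r * (l * k⁻¹) * r⁻¹)).mpr (by simpa [mul_assoc] using mul_mem hl (inv_mem hk))
    refine ⟨_, h1, h2, ?_⟩
    simp only [Equiv.Perm.mul_apply]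
    rw [← hkp, Equiv.Perm.inv_def k, Equiv.symm_apply_apply, hlq]
    exact r.apply_symm_apply q
  · have h1 : (cgInvB.grp : Subgroup (Equiv.Perm Cfsg.GolayPt)) ≤ stabilizer (Equiv.Perm Cfsg.GolayPt) (famOf codeSext) :=
      le_stabilizer_of_gensFix famCoding cgInvB_ok (E := codeSext) (encFam_famOf (by decide +kernel)) (by decide +kernel)
    have h2 := (hC t).mp ⟨ht, rfl⟩
    have h3 := mem_stabilizer_iff.mp (h1 h2)
    rw [mul_smul, mul_smul, inv_smul_eq_iff] at h3
    exact h3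
  · have h1 : (cgInvB.grp : Subgroup (Equiv.Perm Cfsg.GolayPt)) ≤ stabilizer (Equiv.Perm Cfsg.GolayPt) (famOf codeSext) :=
      le_stabilizer_of_gensFix famCoding cgInvB_ok (E := codeSext) (encFam_famOf (by decide +kernel)) (by decide +kernel)
    have h3 := mem_stabilizer_iff.mp (h1 ((hC c).mp ⟨hc, hct⟩))
    rw [mul_smul, mul_smul, inv_smul_eq_iff] at h3
    exact h3

end Cfsg.Agent.S5607
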