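-- Proof of statement S0659.
import Cfsg.Statements.S0659
import Cfsg.Agent.Fusion.GTApply
import Cfsg.Agent.Transfer.Frobenius

set_option autoImplicit false
open Cfsg

namespace Cfsg.Agent.S0659

open Cfsg.Lib.Fusion

/-- Glauberman's normal p-complement Theorem with the abelian-version Thompson subgroup: for odd p, G has a normal p-complement whenever the normalizer of Z(J(P)) does. -/
theorem result {G : Type*} [Group G] [Finite G] {p : ℕ} [Fact p.Prime] (hp : p ≠ 2) (P : Sylow p G) (hN : Cfsg.HasNormalPComplement p ↥(Subgroup.normalizer (Cfsg.centerThompsonAOf ((P : Subgroup G)) : Set G))) : Cfsg.HasNormalPComplement p G := by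
  have hF := saturated_group P
  set F := groupFusionSystem (P : Subgroup G)
  have hfam := isGTFamily_maxAb F hp P.2
  have hZ := centerThompsonAOf_eq (P : Subgroup G)
  rw [hZ] at hN
  set Z : Subgroup G := ⨅ A ∈ maxAb (P : Subgroup G), A
  obtain ⟨hPZ, -⟩ := hfam.inter_props
  set M := Subgroup.normalizer (Z : Set G)
  -- the normalizer system is inner
  have hinner : IsInner (normalizerSystem F hfam.inter_le) := by
    rw [isInner_normalizerSystem_iff]
    rintro Q f hf hQ hv ⟨k, hk, hkf, hki⟩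
    obtain ⟨hQP, hkv, g, hg⟩ := isMap_group_iff.mp hk
    have hgM : g ∈ M := mem_normalizer_of_maps_finite fun x hx => by
      rw [← hg x (Subgroup.mem_sup_right hx)]
      exact IsMap.img_le_iff.mp hki.le x hx
    obtain ⟨K, hK, hc, j, hj⟩ := Cfsg.Lib.Transfer.hasNormalPComplement_iff.mp hN
    have hcomp := Cfsg.Lib.Transfer.isComplement'_sylow_of_coprime_index hc hj (P.subtype hPZ)
    obtain ⟨⟨⟨a, ha⟩, ⟨s, hs⟩⟩, he⟩ := hcomp.2 ⟨g, hgM⟩
    have hsP : (s : G) ∈ (P : Subgroup G) := by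
      rw [SetLike.mem_coe, Sylow.coe_subtype, Subgroup.mem_subgroupOf] at hs
      exact hs
    have he' : g = (a : G) * s := (congrArg Subtype.val he).symm
    refine ⟨s, ⟨hsP, hPZ hsP⟩, fun x hx => ?_⟩
    have hxP : x ∈ (P : Subgroup G) := hQP (Subgroup.mem_sup_left hx)
    set y := (s : G) * x * (s : G)⁻¹ with hy
    have hyP : y ∈ (P : Subgroup G) :=
      Subgroup.mul_mem _ (Subgroup.mul_mem _ hsP hxP) (Subgroup.inv_mem _ hsP)
    have e1 : f x = (a : G) * y * (a : G)⁻¹ := by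
      rw [← hkf x hx, hg x (Subgroup.mem_sup_left hx), he', hy]
      group
    -- the commutator lies in both factors
    set c : M := a * ⟨y, hPZ hyP⟩ * a⁻¹ * ⟨y, hPZ hyP⟩⁻¹
    have hcK : c ∈ K := by
      have h1 := K.mul_mem ha (hK.conj_mem _ (K.inv_mem ha) ⟨y, hPZ hyP⟩)
      rwa [show a * (⟨y, hPZ hyP⟩ * a⁻¹ * ⟨y, hPZ hyP⟩⁻¹) = c by
        simp only [c, mul_assoc]] at h1
    have hcP : c ∈ ((P.subtype hPZ : Sylow p M) : Subgroup M) := by
      rw [Sylow.coe_subtype, Subgroup.mem_subgroupOf]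
      show (a : G) * y * (a : G)⁻¹ * y⁻¹ ∈ (P : Subgroup G)
      rw [← e1]
      exact Subgroup.mul_mem _ (hv x hx).1 (Subgroup.inv_mem _ hyP)
    have hc1 : c = 1 := Subgroup.mem_bot.mp (hcomp.disjoint.le_bot ⟨hcK, hcP⟩)
    have e2 : (a : G) * y * (a : G)⁻¹ * y⁻¹ = 1 := congrArg Subtype.val hc1
    rw [e1, mul_inv_eq_one.mp e2]
  have hFinner := isInner_of_normalizer hp P.2 hF hfam hinner
  obtain ⟨N, hN', hc'⟩ := Cfsg.Lib.Transfer.exists_complement_of_fusion (P : Subgroup G)
    P.2.isNilpotent P.card_coprime_index fun x hx g hgx => by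
      obtain ⟨v, hv, e⟩ := hFinner (Subgroup.zpowers x) (fun y => g * y * g⁻¹)
        (isMap_group_iff.mpr ⟨Subgroup.zpowers_le.mpr hx, fun y hy => by
          obtain ⟨i, rfl⟩ := hy
          show g * x ^ i * g⁻¹ ∈ (P : Subgroup G)
          rw [← conj_zpow]
          exact Subgroup.zpow_mem _ hgx i, g, fun _ _ => rfl⟩)
      exact ⟨v, hv, e x (Subgroup.mem_zpowers x)⟩
  exact ⟨P, N, hN', hc'⟩

end Cfsg.Agent.S0659
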