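import Mathlib
import Cfsg.Agent.S0659
import Cfsg.Agent.S0086
import Cfsg.Agent.Fusion.InvSylow
import Cfsg.Agent.Components.ZJ.Reduce
import Cfsg.Agent.Splitting.Basic

/-!
Normal subgroups whose noncentral elements have maximal centralisers.
-/

set_option autoImplicit false

namespace Cfsg.Lib.MaxCent

open Subgroup

variable {G : Type*} [Group G] [Finite G]

theorem exists_parts (p : ℕ) [hp : Fact p.Prime] (g : G) :
    ∃ a b : G, a ∈ zpowers g ∧ b ∈ zpowers g ∧ g = a * b ∧ (∃ k : ℕ, a ^ p ^ k = 1) ∧ (orderOf b).Coprime p := by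
  set n := orderOf g
  have hn : 0 < n := orderOf_pos g
  set k := n.factorization p
  set m := n / p ^ k
  have hnm : p ^ k * m = n := Nat.ordProj_mul_ordCompl_eq_self n p
  have hcop : p.Coprime m := Nat.coprime_ordCompl hp.out hn.ne'
  obtain ⟨u, v, huv⟩ := ((Nat.isCoprime_iff_coprime).2 (hcop.pow_left k))
  have hnz : g ^ (n : ℤ) = 1 := by rw [zpow_natCast, pow_orderOf_eq_one]
  refine ⟨g ^ (v * (m : ℤ)), g ^ (u * ((p ^ k : ℕ) : ℤ)), zpow_mem (mem_zpowers g) _, zpow_mem (mem_zpowers g) _, ?_, ⟨k, ?_⟩, ?_⟩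
  · rw [← zpow_add, add_comm, huv, zpow_one]
  · rw [← zpow_natCast, ← zpow_mul, show v * (m : ℤ) * ((p ^ k : ℕ) : ℤ) = ((n : ℕ) : ℤ) * v by rw [← hnm]; push_cast; ring,
      zpow_mul, hnz, one_zpow]
  · refine Nat.Coprime.coprime_dvd_left (orderOf_dvd_of_pow_eq_one (n := m) ?_) hcop.symm
    rw [← zpow_natCast, ← zpow_mul, show u * ((p ^ k : ℕ) : ℤ) * (m : ℤ) = ((n : ℕ) : ℤ) * u by rw [← hnm]; push_cast; ring,
      zpow_mul, hnz, one_zpow]

theorem coprime_of_pow {p : ℕ} [hp : Fact p.Prime] {a b : G} (ha : ∃ k : ℕ, a ^ p ^ k = 1)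
    (hb : (orderOf b).Coprime p) : (orderOf a).Coprime (orderOf b) := by
  obtain ⟨k, hk⟩ := ha
  exact Nat.Coprime.coprime_dvd_left (orderOf_dvd_of_pow_eq_one hk) (hb.symm.pow_left k)

theorem mem_zpowers_mul {x y : G} (h : Commute x y) (hcop : (orderOf x).Coprime (orderOf y)) :
    x ∈ zpowers (x * y) := by
  obtain ⟨u, v, huv⟩ := (Nat.isCoprime_iff_coprime).2 hcop
  refine mem_zpowers_iff.2 ⟨v * (orderOf y : ℤ), ?_⟩
  have hy1 : y ^ (v * (orderOf y : ℤ)) = 1 := by
    rw [mul_comm, zpow_mul, zpow_natCast, pow_orderOf_eq_one, one_zpow]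
  have hx1 : x ^ (u * (orderOf x : ℤ)) = 1 := by
    rw [mul_comm, zpow_mul, zpow_natCast, pow_orderOf_eq_one, one_zpow]
  rw [h.mul_zpow, hy1, mul_one]
  calc x ^ (v * (orderOf y : ℤ)) = x ^ (u * (orderOf x : ℤ)) * x ^ (v * (orderOf y : ℤ)) := by rw [hx1, one_mul]
    _ = x := by rw [← zpow_add, huv, zpow_one]

variable (N : Subgroup G)

/-- noncentral element of `N` -/
def NC (x : G) : Prop := x ∈ N ∧ x ∉ centralizer (N : Set G)

/-- the hypothesis -/
def Hyp : Prop := ∀ x : G, x ∈ N → x ∉ centralizer (N : Set G) → IsCoatom (centralizer ({x} : Set G))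

variable {N}
variable [hN : N.Normal] (H : Hyp N)
include hN H

theorem sup_top {x : G} (hx : NC N x) : N ⊔ centralizer ({x} : Set G) = ⊤ := by
  refine (H x hx.1 hx.2).2 _ (lt_of_le_of_ne le_sup_right fun e => hx.2 ?_)
  rw [mem_centralizer_iff]
  intro n hn
  exact mem_centralizer_singleton_iff.1 (e.ge (mem_sup_left hn))

theorem eq_cent {x y : G} (hx : NC N x) (hy : NC N y) (hc : x * y = y * x)
    (hcop : (orderOf x).Coprime (orderOf y)) : centralizer ({x} : Set G) = centralizer ({y} : Set G) := by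
  have hxw : x ∈ zpowers (x * y) := mem_zpowers_mul hc hcop
  have hyw : y ∈ zpowers (x * y) := hc ▸ mem_zpowers_mul (x := y) (y := x) hc.symm hcop.symm
  have hw : x * y ∉ centralizer (N : Set G) := fun h => hx.2 (zpowers_le.2 h hxw)
  have hle : ∀ u ∈ zpowers (x * y), centralizer ({x * y} : Set G) ≤ centralizer ({u} : Set G) := by
    rintro u hu g hg
    rw [mem_centralizer_singleton_iff] at hg ⊢
    obtain ⟨i, rfl⟩ := mem_zpowers_iff.1 hu
    exact ((show Commute g (x * y) from hg).zpow_right i).eq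
  have hco := H (x * y) (mul_mem hx.1 hy.1) hw
  have key : ∀ u ∈ zpowers (x * y), NC N u → centralizer ({x * y} : Set G) = centralizer ({u} : Set G) :=
    fun u hu hun => ((hle u hu).lt_or_eq).resolve_left fun hlt => (H u hun.1 hun.2).1 (hco.2 _ hlt)
  rw [← key x hxw hx, key y hyw hy]

theorem normal_of_invariant {L : Subgroup G} (hLN : L ≤ N) (hinv : ∀ n ∈ N, ∀ l ∈ L, n * l * n⁻¹ ∈ L)
    (hnc : ¬ L ≤ centralizer (N : Set G)) : L.Normal := by
  obtain ⟨l, hl, hlc⟩ := SetLike.not_le_iff_exists.1 hnc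
  have key : ∀ z ∈ L, z ∉ centralizer (N : Set G) → ∀ g : G, g * z * g⁻¹ ∈ L := by
    intro z hz hzc g
    have hg : g ∈ N ⊔ centralizer ({z} : Set G) := (sup_top H ⟨hLN hz, hzc⟩).ge (mem_top g)
    obtain ⟨n, hn, m, hm, rfl⟩ := mem_sup_of_normal_left.1 hg
    rw [mem_centralizer_singleton_iff] at hm
    have : n * m * z * (n * m)⁻¹ = n * z * n⁻¹ := by
      rw [mul_assoc n m z, hm]; group
    exact this ▸ hinv n hn z hz
  refine ⟨fun z hz g => ?_⟩
  by_cases hzc : z ∈ centralizer (N : Set G)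
  · have h1 : z * l ∉ centralizer (N : Set G) := fun h => hlc (by simpa using mul_mem (inv_mem hzc) h)
    have h2 := mul_mem (key _ (mul_mem hz hl) h1 g) (inv_mem (key l hl hlc g))
    simpa [mul_assoc] using h2
  · exact key z hz hzc g

/-- noncentral normal subgroups of coprime orders do not occur -/
theorem two_normal {p q : ℕ} [hp : Fact p.Prime] [hq : Fact q.Prime] (hpq : p ≠ q) {P Q : Subgroup G}
    [P.Normal] [Q.Normal] (hPN : P ≤ N) (hQN : Q ≤ N) (hP : IsPGroup p P) (hQ : IsPGroup q Q)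
    (hPc : ¬ P ≤ centralizer (N : Set G)) : Q ≤ centralizer (N : Set G) := by
  by_contra hQc
  obtain ⟨a, ha, hac⟩ := SetLike.not_le_iff_exists.1 hPc
  obtain ⟨b, hb, hbc⟩ := SetLike.not_le_iff_exists.1 hQc
  have hdis : Disjoint P Q := IsPGroup.disjoint_of_ne p q hpq P Q hP hQ
  have hcomm : ∀ u ∈ P, ∀ v ∈ Q, Commute u v := fun u hu v hv =>
    Subgroup.commute_of_normal_of_disjoint P Q inferInstance inferInstance hdis u v hu hv
  have hord : ∀ u ∈ P, (orderOf u).Coprime (orderOf b) := by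
    intro u hu
    obtain ⟨i, hi⟩ := IsPGroup.iff_orderOf.1 hP ⟨u, hu⟩
    obtain ⟨j, hj⟩ := IsPGroup.iff_orderOf.1 hQ ⟨b, hb⟩
    rw [Subgroup.orderOf_mk] at hi hj
    rw [hi, hj]
    exact Nat.coprime_pow_primes _ _ hp.out hq.out hpq
  have hM := eq_cent H ⟨hPN ha, hac⟩ ⟨hQN hb, hbc⟩ (hcomm a ha b hb) (hord a ha)
  obtain ⟨g, hg, hgb⟩ : ∃ g ∈ N, g * b ≠ b * g := by
    by_contra h
    push Not at h
    exact hbc (mem_centralizer_iff.2 fun n hn => h n hn)
  have hgnc : NC N g := ⟨hg, fun h => hgb (mem_centralizer_iff.1 h b (hQN hb)).symm⟩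
  have hag : a ∉ centralizer ({g} : Set G) := fun h => hgb (by
    have h1 : g ∈ centralizer ({a} : Set G) :=
      mem_centralizer_singleton_iff.2 (mem_centralizer_singleton_iff.1 h).symm
    rw [hM] at h1
    exact mem_centralizer_singleton_iff.1 h1)
  have htop : P ⊔ centralizer ({g} : Set G) = ⊤ :=
    (H g hg hgnc.2).2 _ (lt_of_le_of_ne le_sup_right fun e => hag (e.ge (mem_sup_left ha)))
  obtain ⟨u, hu, c, hc, huc⟩ := mem_sup_of_normal_left.1 (htop.ge (mem_top b))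
  have hc' : c = b * u⁻¹ := by
    rw [((hcomm u hu b hb).inv_left).symm.eq, ← huc, inv_mul_cancel_left]
  have hbc' : b ∈ zpowers c := by
    rw [hc']
    exact mem_zpowers_mul (hcomm u hu b hb).inv_left.symm (by rw [orderOf_inv]; exact (hord u hu).symm)
  exact hgb (mem_centralizer_singleton_iff.1 (zpowers_le.2 hc hbc')).symm

/-- an element of order prime to `p` centralising a noncentral normal `p`-subgroup -/
theorem star {p : ℕ} [hp : Fact p.Prime] {L : Subgroup G} [L.Normal] (hLN : L ≤ N) (hL : IsPGroup p L)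
    (hLc : ¬ L ≤ centralizer (N : Set G)) {q : ℕ} [hq : Fact q.Prime] (hpq : p ≠ q) {y : G} (hy : NC N y)
    (hyq : ∃ k : ℕ, y ^ q ^ k = 1) : ¬ L ≤ centralizer ({y} : Set G) := by
  intro hLy
  obtain ⟨b, hb, hbc⟩ := SetLike.not_le_iff_exists.1 hLc
  have hcopg : ∀ g : G, (orderOf (g * b * g⁻¹)).Coprime (orderOf y) := by
    intro g
    obtain ⟨i, hi⟩ := IsPGroup.iff_orderOf.1 hL ⟨g * b * g⁻¹, (inferInstance : L.Normal).conj_mem b hb g⟩
    obtain ⟨j, hj⟩ := hyq
    rw [Subgroup.orderOf_mk] at hi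
    rw [hi]
    exact Nat.Coprime.coprime_dvd_right (orderOf_dvd_of_pow_eq_one hj) (Nat.coprime_pow_primes _ _ hp.out hq.out hpq)
  have hconjnc : ∀ g : G, g * b * g⁻¹ ∈ L ∧ g * b * g⁻¹ ∉ centralizer (N : Set G) := by
    intro g
    refine ⟨(inferInstance : L.Normal).conj_mem b hb g, fun h => hbc ?_⟩
    haveI : (centralizer (N : Set G)).Normal := Subgroup.normal_centralizer
    simpa [mul_assoc] using (inferInstance : (centralizer (N : Set G)).Normal).conj_mem _ h g⁻¹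
  have hM : ∀ g : G, centralizer ({g * b * g⁻¹} : Set G) = centralizer ({y} : Set G) := fun g =>
    eq_cent H ⟨hLN (hconjnc g).1, (hconjnc g).2⟩ hy
      (mem_centralizer_singleton_iff.1 (hLy (hconjnc g).1)) (hcopg g)
  have hb1 := hM 1
  simp only [one_mul, inv_one, mul_one] at hb1
  haveI hMn : (centralizer ({y} : Set G)).Normal := ⟨fun m hm g => by
    have h1 : g * m * g⁻¹ ∈ centralizer ({g * b * g⁻¹} : Set G) := by
      rw [← hb1, mem_centralizer_singleton_iff] at hm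
      rw [mem_centralizer_singleton_iff]
      calc g * m * g⁻¹ * (g * b * g⁻¹) = g * (m * b) * g⁻¹ := by group
        _ = g * (b * m) * g⁻¹ := by rw [hm]
        _ = _ := by group
    rwa [hM g] at h1⟩
  set D := N ⊓ centralizer ({y} : Set G) with hD
  haveI : D.Normal := Subgroup.normal_inf_normal _ _
  have hcommD : ∀ u ∈ D, ∀ v ∈ D, (∃ k : ℕ, u ^ q ^ k = 1) → (∃ k : ℕ, v ^ q ^ k = 1) → Commute u v := by
    intro u hu v hv hu' _
    by_cases huc : u ∈ centralizer (N : Set G)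
    · exact (mem_centralizer_iff.1 huc v hv.1).symm
    · have hub : u * b = b * u := by
        have := hu.2
        rw [← hb1] at this
        exact mem_centralizer_singleton_iff.1 this
      obtain ⟨k, hk⟩ := hu'
      have h1 := eq_cent H ⟨hu.1, huc⟩ ⟨hLN hb, hbc⟩ hub (by
        refine Nat.Coprime.coprime_dvd_left (orderOf_dvd_of_pow_eq_one hk) ?_
        obtain ⟨i, hi⟩ := IsPGroup.iff_orderOf.1 hL ⟨b, hb⟩
        rw [Subgroup.orderOf_mk] at hi
        rw [hi]
        exact Nat.coprime_pow_primes _ _ hq.out hp.out hpq.symm)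
      have hvu : v ∈ centralizer ({u} : Set G) := by rw [h1, hb1]; exact hv.2
      exact (mem_centralizer_singleton_iff.1 hvu).symm
  let S1 : Subgroup G :=
    { carrier := {u | u ∈ D ∧ ∃ k : ℕ, u ^ q ^ k = 1}
      one_mem' := ⟨one_mem _, 0, one_pow _⟩
      mul_mem' := by
        rintro u v ⟨hu, i, hi⟩ ⟨hv, j, hj⟩
        refine ⟨mul_mem hu hv, i + j, ?_⟩
        rw [(hcommD u hu v hv ⟨i, hi⟩ ⟨j, hj⟩).mul_pow, pow_add, pow_mul, hi, one_pow, one_mul,
          mul_comm (q ^ i), pow_mul, hj, one_pow]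
      inv_mem' := by
        rintro u ⟨hu, i, hi⟩
        exact ⟨inv_mem hu, i, by rw [inv_pow, hi, inv_one]⟩ }
  haveI : S1.Normal := ⟨fun u (hu : u ∈ D ∧ ∃ k : ℕ, u ^ q ^ k = 1) g =>
    ⟨(inferInstance : D.Normal).conj_mem u hu.1 g, hu.2.choose, by rw [conj_pow, hu.2.choose_spec, mul_one, mul_inv_cancel]⟩⟩
  have hS1 : IsPGroup q S1 := fun u => ⟨u.2.2.choose, Subtype.ext u.2.2.choose_spec⟩
  have hyS : y ∈ S1 := ⟨⟨hy.1, mem_centralizer_singleton_iff.2 rfl⟩, hyq⟩
  exact hy.2 (two_normal H hpq hLN (fun u (hu : u ∈ D ∧ ∃ k : ℕ, u ^ q ^ k = 1) => hu.1.1) hL hS1 hLc hyS)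

/-- centralisers of noncentral `p`-elements are nilpotent within `N` -/
theorem nilpotent_inf {p : ℕ} [hp : Fact p.Prime] {x : G} (hx : NC N x) (hxp : ∃ k : ℕ, x ^ p ^ k = 1) :
    Group.IsNilpotent ↥(N ⊓ centralizer ({x} : Set G)) := by
  set C := N ⊓ centralizer ({x} : Set G) with hC
  have hcent : ∀ g : C, ∀ b : G, b ∈ zpowers (g : G) → (orderOf b).Coprime p → ∀ u ∈ C, u * b = b * u := by
    intro g b hbg hbp u hu
    have hbC : b ∈ C := zpowers_le.2 g.2 hbg
    by_cases hbc : b ∈ centralizer (N : Set G)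
    · exact mem_centralizer_iff.1 hbc u hu.1
    · have h1 := eq_cent H hx ⟨hbC.1, hbc⟩ (mem_centralizer_singleton_iff.1 hbC.2).symm (coprime_of_pow hxp hbp)
      have := hu.2
      rw [h1] at this
      exact mem_centralizer_singleton_iff.1 this
  have hq : IsPGroup p (C ⧸ center C) := by
    intro q
    obtain ⟨g, rfl⟩ := QuotientGroup.mk_surjective q
    obtain ⟨a, b, ha, hb, hab, ⟨k, hk⟩, hbp⟩ := exists_parts p (g : G)
    refine ⟨k, ?_⟩
    rw [← QuotientGroup.mk_pow, QuotientGroup.eq_one_iff, mem_center_iff]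
    intro u
    apply Subtype.ext
    have hcab : Commute a b := by
      obtain ⟨i, rfl⟩ := mem_zpowers_iff.1 ha
      obtain ⟨j, rfl⟩ := mem_zpowers_iff.1 hb
      exact Commute.zpow_zpow (Commute.refl _) i j
    show (u : G) * (g : G) ^ p ^ k = (g : G) ^ p ^ k * u
    rw [hab, hcab.mul_pow, hk, one_mul]
    exact ((show Commute (u : G) b from hcent g b hb hbp u u.2).pow_right _).eq
  haveI := hq.isNilpotent
  exact Subgroup.isNilpotent_of_ker_le_center (QuotientGroup.mk' (center C)) (by rw [QuotientGroup.ker_mk'])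

/-- a noncentral element of prime power order gives a normal subgroup of that kind, or the complements -/
theorem complement_of_no_normal {p : ℕ} [hp : Fact p.Prime] (hp2 : p ≠ 2)
    (hno : ∀ R : Subgroup G, R.Normal → R ≤ N → IsPGroup p R → R ≤ centralizer (N : Set G))
    {x : G} (hx : NC N x) (hxp : ∃ k : ℕ, x ^ p ^ k = 1) : Cfsg.HasNormalPComplement p N := by
  set M := centralizer ({x} : Set G) with hM
  set C := N ⊓ M with hCdef
  haveI hnil : Group.IsNilpotent C := nilpotent_inf H hx hxp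
  obtain ⟨P0⟩ : Nonempty (Sylow p C) := inferInstance
  have hP0n : (P0 : Subgroup C).Normal := Sylow.normal_of_normalizerCondition Group.normalizerCondition_of_isNilpotent P0
  set Q := (P0 : Subgroup C).map C.subtype with hQdef
  have hQp : IsPGroup p Q := P0.2.map C.subtype
  have hQmem : ∀ u ∈ C, (∃ k : ℕ, u ^ p ^ k = 1) → u ∈ Q := by
    rintro u hu ⟨k, hk⟩
    have hz : IsPGroup p (zpowers (⟨u, hu⟩ : C)) := by
      rintro ⟨w, hw⟩
      obtain ⟨i, rfl⟩ := mem_zpowers_iff.1 hw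
      refine ⟨k, Subtype.ext ?_⟩
      show ((⟨u, hu⟩ : C) ^ i) ^ p ^ k = 1
      rw [← zpow_natCast, ← zpow_mul, mul_comm, zpow_mul, zpow_natCast]
      rw [show (⟨u, hu⟩ : C) ^ p ^ k = 1 from Subtype.ext hk, one_zpow]
    obtain ⟨T, hT⟩ := hz.exists_le_sylow
    haveI := hP0n
    haveI := Sylow.unique_of_normal P0 hP0n
    rw [Subsingleton.elim T P0] at hT
    exact ⟨⟨u, hu⟩, hT (mem_zpowers _), rfl⟩
  have hQC : Q ≤ C := map_subtype_le _
  have hQC' : ∀ u ∈ Q, ∃ k : ℕ, u ^ p ^ k = 1 := fun u hu =>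
    (hQp ⟨u, hu⟩).imp fun k hk => congrArg Subtype.val hk
  have hMQ : M ≤ normalizer (Q : Set G) := fun m hm => by
    have hc : ∀ u ∈ Q, ∀ g ∈ M, g * u * g⁻¹ ∈ Q := by
      intro u hu g hg
      refine hQmem _ ⟨hN.conj_mem u (hQC hu).1 g, M.mul_mem (M.mul_mem hg (hQC hu).2) (M.inv_mem hg)⟩ ?_
      obtain ⟨k, hk⟩ := hQC' u hu
      exact ⟨k, by rw [conj_pow, hk, mul_one, mul_inv_cancel]⟩
    exact (Subgroup.mem_normalizer_iff).2 fun u => ⟨fun hu => hc u hu m hm, fun hu => by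
      have := hc _ hu m⁻¹ (M.inv_mem hm)
      simpa [mul_assoc] using this⟩
  have hxQ : x ∈ Q := hQmem x ⟨hx.1, mem_centralizer_singleton_iff.2 rfl⟩ hxp
  have hnorm : ∀ R : Subgroup G, R ≤ N → IsPGroup p R → x ∈ R → M ≤ normalizer (R : Set G) →
      normalizer (R : Set G) = M := by
    intro R hR hRp hxR hMR
    refine ((hMR.lt_or_eq).resolve_left fun hlt => hx.2 ?_).symm
    have htop := (H x hx.1 hx.2).2 _ hlt
    exact hno R (normalizer_eq_top_iff.1 htop) hR hRp hxR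
  have hNQ : normalizer (Q : Set G) = M := hnorm Q (hQC.trans inf_le_left) hQp hxQ hMQ
  obtain ⟨P, hP⟩ : ∃ P : Sylow p N, Q.subgroupOf N ≤ P :=
    (hQp.comap_of_injective N.subtype Subtype.val_injective).exists_le_sylow
  set PG := (P : Subgroup N).map N.subtype
  have hPG : IsPGroup p PG := P.2.map N.subtype
  have hQPG : Q ≤ PG := fun u hu => ⟨⟨u, (hQC hu).1⟩, hP hu, rfl⟩
  have hPQ : PG = Q := by
    refine le_antisymm ?_ hQPG
    by_contra hle
    haveI : Group.IsNilpotent PG := hPG.isNilpotent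
    have hlt : Q.subgroupOf PG < ⊤ := lt_top_iff_ne_top.2 fun e => hle (by rwa [subgroupOf_eq_top] at e)
    obtain ⟨u, hu, hu'⟩ := SetLike.exists_of_lt (Group.normalizerCondition_of_isNilpotent _ hlt)
    have huM : (u : G) ∈ M := by
      rw [← hNQ, Subgroup.mem_normalizer_iff]
      intro w
      rw [Subgroup.mem_normalizer_iff] at hu
      constructor
      · intro hw
        exact (hu ⟨w, hQPG hw⟩).1 hw
      · intro hw
        have hwP : w ∈ PG := by
          have := PG.mul_mem (PG.mul_mem (PG.inv_mem u.2) (hQPG hw)) u.2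
          simpa [mul_assoc] using this
        exact (hu ⟨w, hwP⟩).2 hw
    exact hu' (hQmem _ ⟨map_subtype_le _ u.2, huM⟩ ((hPG u).imp fun k hk => congrArg Subtype.val hk))
  set ZJ := Cfsg.centerThompsonAOf PG with hZJ
  have hxcent : ∀ u ∈ PG, u * x = x * u := fun u hu => by
    rw [hPQ] at hu
    exact mem_centralizer_singleton_iff.1 (hQC hu).2
  have hxPG : x ∈ PG := hQPG hxQ
  have hxJ : x ∈ Cfsg.thompsonSubgroupAOf PG := by
    refine ⟨⟨x, hxPG⟩, ?_, rfl⟩
    classical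
    haveI := Fintype.ofFinite (Subgroup PG)
    obtain ⟨A, hAm, hmax⟩ := Finset.exists_max_image (Finset.univ.filter fun A : Subgroup PG => IsMulCommutative A)
      (fun A => Nat.card A) ⟨⊥, Finset.mem_filter.2 ⟨Finset.mem_univ _, inferInstance⟩⟩
    have hAc : IsMulCommutative A := (Finset.mem_filter.1 hAm).2
    have hc : ∀ u : PG, u * ⟨x, hxPG⟩ = ⟨x, hxPG⟩ * u := fun u => Subtype.ext (hxcent u u.2)
    have hAmem : A ∈ Cfsg.maxAbelianSubgroups PG :=
      ⟨hAc, fun B hB => hmax B (Finset.mem_filter.2 ⟨Finset.mem_univ _, hB⟩)⟩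
    set A' := closure ((A : Set PG) ∪ {⟨x, hxPG⟩}) with hA'
    have hA'c : IsMulCommutative A' := by
      refine Subgroup.isMulCommutative_closure ?_
      rintro u (hu | hu) v (hv | hv)
      · exact congrArg Subtype.val (mul_comm' (⟨u, hu⟩ : A) ⟨v, hv⟩)
      · rw [Set.mem_singleton_iff] at hv; subst hv; exact hc u
      · rw [Set.mem_singleton_iff] at hu; subst hu; exact (hc v).symm
      · rw [Set.mem_singleton_iff] at hu hv; subst hu; subst hv; rfl
    have hle : A ≤ A' := fun u hu => subset_closure (Or.inl hu)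
    have hAA : A = A' := eq_of_le_of_card_ge hle (hAmem.2 A' hA'c)
    exact (le_sSup hAmem : A ≤ Cfsg.thompsonSubgroupA PG) (hAA.ge (subset_closure (Or.inr rfl)))
  have hJle : Cfsg.thompsonSubgroupAOf PG ≤ PG := map_subtype_le _
  have hxZJ : x ∈ ZJ := ⟨hxJ, mem_centralizer_iff.2 fun u hu => hxcent u (hJle hu)⟩
  have hMZ : M ≤ normalizer (ZJ : Set G) := by
    refine le_trans ?_ (Cfsg.Lib.InvSylow.normalizer_le_normalizer_centerThompsonAOf PG)
    rw [hPQ]; exact hMQ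
  have hZJle : ZJ ≤ PG := inf_le_left.trans hJle
  have hNZ : normalizer (ZJ : Set G) = M :=
    hnorm ZJ (hZJle.trans (map_subtype_le _)) (hPG.to_le hZJle) hxZJ hMZ
  refine Cfsg.Agent.S0659.result hp2 P ?_
  have hmapZJ : (Cfsg.centerThompsonAOf (P : Subgroup N)).map N.subtype = ZJ :=
    Cfsg.Lib.ZJ.centerThompsonAOf_map_injOn (f := N.subtype) (D := (P : Subgroup N)) N.subtype_injective.injOn
  set K := normalizer (Cfsg.centerThompsonAOf (P : Subgroup N) : Set N)
  have hKC : ∀ u ∈ K, (u : G) ∈ C := fun u hu => by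
    refine ⟨u.2, ?_⟩
    rw [← hNZ, ← hmapZJ]
    exact le_normalizer_map N.subtype (mem_map_of_mem N.subtype hu)
  let ι : K →* C := MonoidHom.mk' (fun u => ⟨(u : N), hKC u u.2⟩) fun a b => rfl
  have hι : Function.Injective ι := fun a b h => Subtype.ext (Subtype.ext (congrArg Subtype.val h :))
  haveI : Group.IsNilpotent K := Subgroup.isNilpotent_of_ker_le_center ι (by rw [(MonoidHom.ker_eq_bot_iff ι).2 hι]; exact bot_le)
  exact Cfsg.Lib.Splitting.hasNormalPComplement_of_nilpotent p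

theorem exists_normal {p₀ : ℕ} [hp₀ : Fact p₀.Prime] {x₀ : G} (hx₀ : NC N x₀) (hxp₀ : ∃ k : ℕ, x₀ ^ p₀ ^ k = 1) :
    ∃ (r : ℕ) (_ : Fact r.Prime) (R : Subgroup G), R.Normal ∧ R ≤ N ∧ IsPGroup r R ∧ ¬ R ≤ centralizer (N : Set G) := by
  classical
  by_contra hno
  push Not at hno
  -- work at the prime two if it has a noncentral element
  obtain ⟨p, hp, x, hx, hxp, h2⟩ : ∃ (p : ℕ) (_ : Fact p.Prime) (x : G), NC N x ∧ (∃ k : ℕ, x ^ p ^ k = 1) ∧
      (p ≠ 2 → ∀ y : G, NC N y → ∀ k : ℕ, y ^ 2 ^ k ≠ 1) := by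
    by_cases h : ∃ y : G, NC N y ∧ ∃ k : ℕ, y ^ 2 ^ k = 1
    · obtain ⟨y, hy, hyk⟩ := h
      exact ⟨2, ⟨Nat.prime_two⟩, y, hy, hyk, fun h => absurd rfl h⟩
    · push Not at h
      exact ⟨p₀, hp₀, x₀, hx₀, hxp₀, fun _ => h⟩
  have key : ∀ q : ℕ, q.Prime → q ≠ 2 → ∀ y : G, NC N y → (∃ k : ℕ, y ^ q ^ k = 1) → Cfsg.HasNormalPComplement q N :=
    fun q hq hq2 y hy hyq => by
      haveI := Fact.mk hq
      exact complement_of_no_normal H hq2 (fun R h1 h2 h3 => hno q ⟨hq⟩ R h1 h2 h3) hy hyq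
  let S : Set ℕ := {q | q.Prime ∧ q ≠ 2 ∧ q ≠ p ∧ ∃ y : G, NC N y ∧ ∃ k : ℕ, y ^ q ^ k = 1}
  let K : Subgroup N :=
    { carrier := {u | ∀ q ∈ S, (orderOf u).Coprime q}
      one_mem' := fun q _ => by simp
      mul_mem' := fun {u v} hu hv q hq => by
        obtain ⟨hq1, hq2, -, y, hy, hyq⟩ := id hq
        haveI := Fact.mk hq1
        obtain ⟨T, W, hW, hWc⟩ := key q hq1 hq2 y hy hyq
        haveI := hW
        rw [← Cfsg.Agent.S0086.result T W hWc]
        exact mul_mem ((Cfsg.Agent.S0086.result T W hWc u).2 (hu q hq)) ((Cfsg.Agent.S0086.result T W hWc v).2 (hv q hq))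
      inv_mem' := fun {u} hu q hq => by rw [orderOf_inv]; exact hu q hq }
  haveI hKn : K.Normal := ⟨fun u hu g q hq => by
    rw [show orderOf (g * u * g⁻¹) = orderOf u from orderOf_injective (MulAut.conj g).toMonoidHom (MulAut.conj g).injective u]
    exact hu q hq⟩
  -- each element of `K` is a `p`-element modulo the centre
  have hcent : ∀ u : K, ∀ r : ℕ, r.Prime → r ≠ p → ∀ b : G, b ∈ zpowers ((u : N) : G) →
      (∃ k : ℕ, b ^ r ^ k = 1) → b ∈ centralizer (N : Set G) := by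
    intro u r hr hrp b hb hbr
    have hbN : b ∈ N := zpowers_le.2 (u : N).2 hb
    by_contra hbc
    obtain ⟨k, hk⟩ := hbr
    have hr2 : r ≠ 2 := fun e => h2 (e ▸ hrp.symm) b ⟨hbN, hbc⟩ k (e ▸ hk)
    have hrS : r ∈ S := ⟨hr, hr2, hrp, b, ⟨hbN, hbc⟩, k, hk⟩
    have h1 := u.2 r hrS
    have h2 : orderOf b ∣ orderOf ((u : N) : G) := by
      exact orderOf_dvd_of_mem_zpowers hb
    rw [Subgroup.orderOf_coe] at h2
    have h3 : orderOf b = 1 := Nat.eq_one_of_dvd_coprimes (h1.pow_right k) h2 (orderOf_dvd_of_pow_eq_one hk)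
    exact hbc (by rw [orderOf_eq_one_iff.1 h3]; exact one_mem _)
  have hK2 : ∀ u : K, ∀ b : G, b ∈ zpowers ((u : N) : G) → (orderOf b).Coprime p →
      b ∈ centralizer (N : Set G) := by
    intro u b
    induction h : orderOf b using Nat.strong_induction_on generalizing b with
    | _ n ih =>
    intro hb hbp
    rcases eq_or_ne n 1 with h1 | h1
    · rw [h1] at h; rw [orderOf_eq_one_iff.1 h]; exact one_mem _
    obtain ⟨r, hr, hrn⟩ := Nat.exists_prime_and_dvd h1
    haveI := Fact.mk hr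
    obtain ⟨a, c, ha, hc, hac, hak, hcr⟩ := exists_parts r b
    have hrp : r ≠ p := fun e => hr.ne_one (Nat.eq_one_of_dvd_coprimes hbp hrn (e ▸ dvd_rfl))
    have hsub : zpowers b ≤ zpowers ((u : N) : G) := zpowers_le.2 hb
    have hdvd : orderOf c ∣ orderOf b := by
      exact orderOf_dvd_of_mem_zpowers hc
    have hlt : orderOf c < n := by
      refine lt_of_le_of_ne (h ▸ Nat.le_of_dvd (orderOf_pos b) hdvd) fun e => hr.ne_one ?_
      exact Nat.eq_one_of_dvd_coprimes (hcr.symm) dvd_rfl (e.symm ▸ hrn)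
    rw [hac]
    exact mul_mem (hcent u r hr hrp a (hsub ha) hak)
      (ih _ hlt c rfl (hsub hc) (hbp.coprime_dvd_left (h ▸ hdvd)))
  have hq : IsPGroup p (K ⧸ center K) := by
    intro w
    obtain ⟨g, rfl⟩ := QuotientGroup.mk_surjective w
    obtain ⟨a, b, ha, hb, hab, ⟨k, hk⟩, hbp⟩ := exists_parts p ((g : N) : G)
    refine ⟨k, ?_⟩
    rw [← QuotientGroup.mk_pow, QuotientGroup.eq_one_iff, mem_center_iff]
    intro u
    apply Subtype.ext; apply Subtype.ext
    show ((u : N) : G) * ((g : N) : G) ^ p ^ k = ((g : N) : G) ^ p ^ k * ((u : N) : G)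
    have hcab : Commute a b := by
      obtain ⟨i, rfl⟩ := mem_zpowers_iff.1 ha
      obtain ⟨j, rfl⟩ := mem_zpowers_iff.1 hb
      exact Commute.zpow_zpow (Commute.refl _) i j
    rw [hab, hcab.mul_pow, hk, one_mul]
    exact mem_centralizer_iff.1 (pow_mem (hK2 g b hb hbp) _) _ (u : N).2
  haveI := hq.isNilpotent
  haveI : Group.IsNilpotent K := Subgroup.isNilpotent_of_ker_le_center (QuotientGroup.mk' (center K))
    (by rw [QuotientGroup.ker_mk'])
  obtain ⟨T⟩ : Nonempty (Sylow p K) := inferInstance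
  haveI hTn : (T : Subgroup K).Normal := Sylow.normal_of_normalizerCondition Group.normalizerCondition_of_isNilpotent T
  haveI : (T : Subgroup K).Characteristic := T.characteristic_of_normal hTn
  set R := ((T : Subgroup K).map K.subtype).map N.subtype
  have hRN : R ≤ N := map_subtype_le _
  have hxR : x ∈ R := by
    obtain ⟨k, hk⟩ := hxp
    have hxK : (⟨x, hx.1⟩ : N) ∈ K := fun q hq => by
      have hd : orderOf (⟨x, hx.1⟩ : N) ∣ p ^ k := orderOf_dvd_of_pow_eq_one (Subtype.ext hk)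
      exact (((Nat.coprime_primes hp.out hq.1).2 hq.2.2.1.symm).pow_left k).coprime_dvd_left hd
    have hz : IsPGroup p (zpowers (⟨⟨x, hx.1⟩, hxK⟩ : K)) := by
      rintro ⟨w, hw⟩
      obtain ⟨i, rfl⟩ := mem_zpowers_iff.1 hw
      refine ⟨k, Subtype.ext ?_⟩
      show ((⟨⟨x, hx.1⟩, hxK⟩ : K) ^ i) ^ p ^ k = 1
      rw [← zpow_natCast, ← zpow_mul, mul_comm, zpow_mul, zpow_natCast,
        show (⟨⟨x, hx.1⟩, hxK⟩ : K) ^ p ^ k = 1 from Subtype.ext (Subtype.ext hk), one_zpow]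
    obtain ⟨T', hT'⟩ := hz.exists_le_sylow
    haveI := Sylow.unique_of_normal T hTn
    rw [Subsingleton.elim T' T] at hT'
    exact ⟨⟨x, hx.1⟩, ⟨⟨⟨x, hx.1⟩, hxK⟩, hT' (mem_zpowers _), rfl⟩, rfl⟩
  haveI hR' : ((T : Subgroup K).map K.subtype).Normal := inferInstance
  have hRn : R.Normal := normal_of_invariant H hRN (by
    rintro n hn _ ⟨u, hu, rfl⟩
    exact ⟨⟨n, hn⟩ * u * ⟨n, hn⟩⁻¹, hR'.conj_mem u hu _, rfl⟩) (fun h => hx.2 (h hxR))
  exact hx.2 (hno p hp R hRn hRN ((T.2.map _).map _) hxR)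

end Cfsg.Lib.MaxCent
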