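import Cfsg.Statements.S2542
import Cfsg.Agent.Classical.Misc.Icosian
import Cfsg.Agent.Classical.Misc.SmallPSL
import Cfsg.Agent.S0675
import Cfsg.Agent.Classical.SL

set_option autoImplicit false
open Cfsg

namespace Cfsg.Agent.S2542

/-- Let F be a field with 11 elements. PSL_2(F) has a subgroup H of index 11 isomorphic to the alternating group A_5, and the action of PSL_2(F) on the cosets of H is 2-transitive (of degree 11). -/
theorem result {F : Type*} [Field F] [Fintype F] (hF : Fintype.card F = 11) : ∃ H : Subgroup (Matrix.ProjectiveSpecialLinearGroup (Fin 2) F), H.index = 11 ∧ Nonempty (H ≃* alternatingGroup (Fin 5)) ∧ MulAction.IsMultiplyPretransitive (Matrix.ProjectiveSpecialLinearGroup (Fin 2) F) ((Matrix.ProjectiveSpecialLinearGroup (Fin 2) F) ⧸ H) 2 := by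
  classical
  let G := Matrix.ProjectiveSpecialLinearGroup (Fin 2) F
  haveI : Finite G := inferInstanceAs (Finite (Matrix.SpecialLinearGroup (Fin 2) F ⧸ _))
  obtain ⟨H, ⟨ψ⟩⟩ := (Cfsg.Lib.Classical.Icosian.iff_A5 hF).2 (by norm_num)
  have hG : Nat.card G = 660 := by
    have h := Cfsg.Lib.Classical.SmallPSL.card_psl hF
    rw [show Nat.gcd 2 (11 - 1) = 2 from rfl] at h
    have h' : 2 * Nat.card G = 11 * (11 ^ 2 - 1) := h
    norm_num at h'
    rw [Nat.card_eq_fintype_card]; omega
  have hH : Nat.card H = 60 := by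
    rw [Nat.card_congr ψ.toEquiv, nat_card_alternatingGroup, Nat.card_fin]; rfl
  have hidx : H.index = 11 := by
    have := H.index_mul_card
    rw [hH, hG] at this
    linarith
  haveI : IsSimpleGroup G := Cfsg.Lib.Classical.isSimpleGroup_PSL_fin le_rfl (fun _ => by
    rw [Nat.card_eq_fintype_card, hF]; norm_num)
  refine ⟨H, hidx, ⟨ψ⟩, ?_⟩
  let φ := MulAction.toPermHom G (G ⧸ H)
  have hinj : Function.Injective φ := by
    rw [← MonoidHom.ker_eq_bot_iff]
    refine ((IsSimpleGroup.eq_bot_or_eq_top_of_normal φ.ker inferInstance)).resolve_right fun htop => ?_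
    have : H = ⊤ := by
      rw [eq_top_iff]
      intro g _
      have h1 : φ g = 1 := by rw [← MonoidHom.mem_ker, htop]; trivial
      have h2 := congrArg (fun e : Equiv.Perm (G ⧸ H) => e ((1 : G) : G ⧸ H)) h1
      simp only [φ, MulAction.toPermHom_apply, MulAction.toPerm_apply, Equiv.Perm.one_apply] at h2
      change ((g * 1 : G) : G ⧸ H) = ((1 : G) : G ⧸ H) at h2
      rw [mul_one, QuotientGroup.eq, mul_one, inv_mem_iff] at h2
      exact h2
    rw [this, Subgroup.index_top] at hidx
    omega
  haveI : Fintype (G ⧸ H) := Fintype.ofFinite _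
  haveI : MulAction.IsPretransitive φ.range (G ⧸ H) := ⟨fun a b => by
    obtain ⟨g, hg⟩ := MulAction.exists_smul_eq G a b
    exact ⟨⟨φ g, g, rfl⟩, hg⟩⟩
  have hp : (Fintype.card (G ⧸ H)).Prime := by
    rw [← Nat.card_eq_fintype_card, show Nat.card (G ⧸ H) = H.index from rfl, hidx]; norm_num
  rcases Cfsg.Agent.S0675.result hp φ.range with hs | h2
  · exfalso
    haveI := hs
    haveI : Group.IsSolvable G := Group.isSolvable_of_isSolvable_injective (MonoidHom.ofInjective hinj).injective
    haveI : Group.IsSolvable H := inferInstance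
    haveI : Group.IsSolvable (alternatingGroup (Fin 5)) := Group.isSolvable_of_surjective (f := ψ.toMonoidHom) ψ.surjective
    haveI := alternatingGroup.isSimpleGroup (α := Fin 5) (by simp)
    obtain ⟨a, b, hab⟩ : ∃ a b : alternatingGroup (Fin 5), a * b ≠ b * a := by decide +kernel
    exact hab (IsSimpleGroup.comm_iff_isSolvable.2 inferInstance a b)
  · rw [MulAction.is_two_pretransitive_iff] at h2 ⊢
    intro a b c d hab hcd
    obtain ⟨⟨_, g, rfl⟩, h1, h2'⟩ := h2 hab hcd
    exact ⟨g, h1, h2'⟩

end Cfsg.Agent.S2542
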