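import Cfsg.Statements.S1197
import Cfsg.Agent.Wreathed.Facts

set_option autoImplicit false
open Cfsg
open Cfsg.Lib.Wreathed

namespace Cfsg.Agent.S1197

/-- Let S be a wreathed 2-group of order 2^(2n+1). Then Z(S) is cyclic of order 2^n, the derived subgroup S' is cyclic of order 2^n, and S/Z(S) is isomorphic to the dihedral group of order 2^(n+1). -/
theorem result {S : Type*} [Group S] [Finite S] (hS : Cfsg.IsWreathed S) (n : ℕ) (hn : Nat.card S = 2 ^ (2 * n + 1)) : IsCyclic (Subgroup.center S) ∧ Nat.card (Subgroup.center S) = 2 ^ n ∧ IsCyclic (commutator S) ∧ Nat.card (commutator S) = 2 ^ n ∧ Nonempty (S ⧸ Subgroup.center S ≃* DihedralGroup (2 ^ n)) := by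
  obtain ⟨hn2, ⟨e⟩⟩ := exponent_eq hS n hn
  have hz : (Subgroup.center (Wr n)).map e.toMonoidHom = Subgroup.center S := by
    ext s
    obtain ⟨p, rfl⟩ := e.surjective s
    rw [Subgroup.mem_center_iff]
    constructor
    · rintro ⟨q, hq, hqe⟩ g
      obtain rfl := e.injective hqe
      obtain ⟨g, rfl⟩ := e.surjective g
      show e g * e q = e q * e g
      rw [← map_mul, ← map_mul, Subgroup.mem_center_iff.mp hq g]
    · intro h
      refine ⟨p, Subgroup.mem_center_iff.mpr fun g => e.injective ?_, rfl⟩
      rw [map_mul, map_mul, h]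
  have hc : (commutator (Wr n)).map e.toMonoidHom = commutator S := by
    rw [_root_.commutator_def, _root_.commutator_def, Subgroup.map_commutator,
      Subgroup.map_top_of_surjective e.toMonoidHom e.surjective]
  have ez := (Subgroup.center (Wr n)).equivMapOfInjective e.toMonoidHom e.injective
  have ec := (commutator (Wr n)).equivMapOfInjective e.toMonoidHom e.injective
  rw [hz] at ez
  rw [hc] at ec
  haveI := isCyclic_center hn2
  haveI := isCyclic_commutator n
  refine ⟨isCyclic_of_surjective ez ez.surjective, ?_, isCyclic_of_surjective ec ec.surjective, ?_, ?_⟩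
  · rw [← Nat.card_congr ez.toEquiv, card_center hn2]
  · rw [← Nat.card_congr ec.toEquiv, commutator_eq, card_antidiag]
  · haveI : ((Subgroup.center (Wr n)).map e.toMonoidHom).Normal := by rw [hz]; infer_instance
    exact ⟨(QuotientGroup.congr (Subgroup.center (Wr n)) (Subgroup.center S) e hz).symm.trans
      ((QuotientGroup.quotientMulEquivOfEq (toDihedral_ker hn2).symm).trans
        (QuotientGroup.quotientKerEquivOfSurjective _ (toDihedral_surjective n)))⟩

end Cfsg.Agent.S1197
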