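import Cfsg.Statements.S4479
import Mathlib
import Cfsg.Agent.Blocks.KleinFourOrder
-- import your own Cfsg.Agent.* helpers here

set_option autoImplicit false
open Cfsg

namespace Cfsg.Agent.S4479

set_option linter.unusedSectionVars false

open Cfsg.Lib.Chars Cfsg.Lib.Blocks
open scoped ComplexConjugate

/-- An order formula from the principal 2-block. Let G be a finite group of order 4·g₀ with g₀ odd having no normal 2-complement (no normal subgroup of order g₀); let P be a Sylow 2-subgroup, J an involution of P, and fix a maximal ideal M of the algebraic integers containing 2. Suppose the principal 2-block consists of the principal character and three further distinct characters χ₁, χ₂, χ₃ of degrees x₁, x₂, x₃, with χ_i(J) = ε_i = ±1. Then, writing c(J) and c(P) for the orders of the centralizers of J and of P, the order of G equals 8·α·c(J)³/c(P)² with α = x₁x₂x₃ / ((x₁ + ε₁)(x₂ + ε₂)(x₃ + ε₃)). -/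
theorem result {G : Type*} [Group G] [Finite G] (M : Ideal Cfsg.AlgInt) (hM : Cfsg.IsPModular 2 M) (g₀ : ℕ) (hg₀ : Odd g₀) (hG : Nat.card G = 4 * g₀) (hnc : ¬ ∃ N : Subgroup G, N.Normal ∧ Nat.card N = g₀) (P : Sylow 2 G) (J : G) (hJ : J ∈ (P : Subgroup G)) (hJ2 : orderOf J = 2) (χ₁ χ₂ χ₃ : Cfsg.IrrCharacter G) (ε₁ ε₂ ε₃ : ℤ) (hB : Cfsg.principalBlock M G = {χ : Cfsg.IrrCharacter G | (χ : G → ℂ) = (fun _ => 1) ∨ χ = χ₁ ∨ χ = χ₂ ∨ χ = χ₃}) (hdist : (χ₁ : G → ℂ) ≠ (fun _ => 1) ∧ (χ₂ : G → ℂ) ≠ (fun _ => 1) ∧ (χ₃ : G → ℂ) ≠ (fun _ => 1) ∧ χ₁ ≠ χ₂ ∧ χ₁ ≠ χ₃ ∧ χ₂ ≠ χ₃) (hε : (ε₁ = 1 ∨ ε₁ = -1) ∧ (ε₂ = 1 ∨ ε₂ = -1) ∧ (ε₃ = 1 ∨ ε₃ = -1)) (hval : (χ₁ : G → ℂ) J = ε₁ ∧ (χ₂ : G → ℂ) J = ε₂ ∧ (χ₃ : G → ℂ) J = ε₃) : (Nat.card G : ℚ) = 8 * (((Cfsg.charDegree (χ₁ : G → ℂ) : ℚ) * Cfsg.charDegree (χ₂ : G → ℂ) * Cfsg.charDegree (χ₃ : G → ℂ)) / ((Cfsg.charDegree (χ₁ : G → ℂ) + ε₁) * (Cfsg.charDegree (χ₂ : G → ℂ) + ε₂) * (Cfsg.charDegree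 (χ₃ : G → ℂ) + ε₃))) * (Nat.card (Subgroup.centralizer ({J} : Set G)) : ℚ) ^ 3 / (Nat.card (Subgroup.centralizer ((P : Subgroup G) : Set G)) : ℚ) ^ 2 := by
  classical
  letI := Fintype.ofFinite G
  haveI : Fact (Nat.Prime 2) := ⟨Nat.prime_two⟩
  have hg0 : g₀ ≠ 0 := fun h => by simp [h] at hg₀
  have hg2 : ¬ 2 ∣ g₀ := fun h => Nat.not_even_iff_odd.2 hg₀ (even_iff_two_dvd.2 h)
  have hP4 : Nat.card (P : Subgroup G) = 4 := by
    rw [P.card_eq_multiplicity, hG, Nat.factorization_mul (by norm_num) hg0, Finsupp.add_apply,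
      Nat.factorization_eq_zero_of_not_dvd hg2, show (4 : ℕ) = 2 ^ 2 by norm_num,
      Nat.prime_two.factorization_pow, Finsupp.single_eq_same]
  have hPab : ∀ a ∈ (P : Subgroup G), ∀ b ∈ (P : Subgroup G), Commute a b := fun a ha b hb =>
    congrArg Subtype.val (IsPGroup.commutative_of_card_eq_prime_sq (p := 2)
      (by rw [hP4]; norm_num) (⟨a, ha⟩ : (P : Subgroup G)) ⟨b, hb⟩)
  obtain ⟨n, hn, a, haP, hna⟩ : ∃ n ∈ Subgroup.normalizer ((P : Subgroup G) : Set G),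
      ∃ a ∈ (P : Subgroup G), ¬ Commute n a := by
    by_contra h
    push Not at h
    have hNC : Subgroup.normalizer (P : Set G) ≤ Subgroup.centralizer (P : Set G) :=
      fun n hn => Subgroup.mem_centralizer_iff.2 fun a ha => (h n hn a ha).symm.eq
    refine hnc ⟨(MonoidHom.transferSylow P hNC).ker, inferInstance, ?_⟩
    have h1 := (MonoidHom.ker_transferSylow_isComplement' P hNC).card_mul
    rw [hG, hP4, mul_comm 4] at h1
    exact Nat.eq_of_mul_eq_mul_right (by norm_num) h1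
  set b := n * a * n⁻¹ with hb
  have hbP : b ∈ (P : Subgroup G) := (Subgroup.mem_set_normalizer_iff.1 hn a).1 haP
  have hba : b ≠ a := fun h => hna (mul_inv_eq_iff_eq_mul.1 h)
  set c := n * b * n⁻¹ with hc
  have hcP : c ∈ (P : Subgroup G) := (Subgroup.mem_set_normalizer_iff.1 hn b).1 hbP
  have hcb : c ≠ b := fun h => hba (mul_left_cancel (mul_right_cancel h))
  have hca : c ≠ a := fun h => by
    refine hna (commute_of_sq hPab hn haP ?_)
    have e : (n * n) * a * (n * n)⁻¹ = a := by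
      refine Eq.trans ?_ h
      rw [hc, hb]
      group
    exact mul_inv_eq_iff_eq_mul.1 e
  have hord : ∀ x : G, orderOf (n * x * n⁻¹) = orderOf x := fun x => by
    rw [show n * x * n⁻¹ = MulAut.conj n x from rfl, MulEquiv.orderOf_eq]
  have ha1 : a ≠ 1 := fun h => hna (h ▸ Commute.one_right n)
  have hb1 : b ≠ 1 := fun h => ha1 (conj_eq_one_iff.1 h)
  have hc1 : c ≠ 1 := fun h => hb1 (conj_eq_one_iff.1 h)
  have hall : ∀ u ∈ (P : Subgroup G), u = 1 ∨ u = a ∨ u = b ∨ u = c := by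
    intro u hu
    have hs : ({1, a, b, c} : Finset G) = Finset.univ.filter (fun g => g ∈ (P : Subgroup G)) := by
      refine Finset.eq_of_subset_of_card_le (fun g hg => ?_) ?_
      · simp only [Finset.mem_insert, Finset.mem_singleton] at hg
        refine Finset.mem_filter.2 ⟨Finset.mem_univ _, ?_⟩
        rcases hg with rfl | rfl | rfl | rfl
        exacts [one_mem _, haP, hbP, hcP]
      · rw [Finset.card_eq_four.2 ⟨1, a, b, c, ha1.symm, hb1.symm, hc1.symm, hba.symm, hca.symm,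
          hcb.symm, rfl⟩, ← Fintype.card_subtype, ← Nat.card_eq_fintype_card]
        exact hP4.le
    have := hs ▸ (Finset.mem_filter.2 ⟨Finset.mem_univ u, hu⟩)
    simpa using this
  have hoa : orderOf a = 2 := by
    rcases hall J hJ with h | h | h | h
    · rw [h, orderOf_one] at hJ2; omega
    · rw [← h, hJ2]
    · rw [← hord a, ← hb, ← h, hJ2]
    · rw [← hord a, ← hb, ← hord b, ← hc, ← h, hJ2]
  have hexp : ∀ u ∈ (P : Subgroup G), u * u = 1 := by
    intro u hu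
    have key : ∀ x : G, orderOf x = 2 → x * x = 1 := fun x hx => by
      rw [← pow_two, ← hx, pow_orderOf_eq_one]
    rcases hall u hu with h | h | h | h <;> subst h
    · exact one_mul 1
    · exact key _ hoa
    · exact key _ ((hord a).trans hoa)
    · exact key _ ((hord b).trans ((hord a).trans hoa))
  have hone : ∀ s t : G, orderOf s = 2 → orderOf t = 2 → IsConj s t := by
    have key : ∀ s : G, orderOf s = 2 → IsConj s a := by
      intro s hs
      have hsp : IsPGroup 2 (Subgroup.zpowers s) :=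
        IsPGroup.of_card (n := 1) (by rw [Nat.card_zpowers, hs, pow_one])
      obtain ⟨Q, hQ⟩ := hsp.exists_le_sylow
      obtain ⟨g, hg⟩ := MulAction.exists_smul_eq G P Q
      have hsQ := hQ (Subgroup.mem_zpowers s)
      rw [← hg, Sylow.coe_subgroup_smul, Subgroup.mem_pointwise_smul_iff_inv_smul_mem] at hsQ
      simp only [MulAut.smul_def, MulAut.inv_def, MulAut.conj_symm_apply] at hsQ
      have h1 : IsConj s (g⁻¹ * s * g) := isConj_iff.2 ⟨g⁻¹, by rw [inv_inv]⟩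
      have h2 : IsConj a b := isConj_iff.2 ⟨n, rfl⟩
      have h3 : IsConj b c := isConj_iff.2 ⟨n, rfl⟩
      rcases hall _ hsQ with h | h | h | h <;> rw [h] at h1
      · rw [isConj_one_left.1 h1, orderOf_one] at hs; omega
      · exact h1
      · exact h1.trans h2.symm
      · exact h1.trans (h2.trans h3).symm
    exact fun s t hs ht => (key s hs).trans (key t ht).symm
  have hF := klein_order_formula hP4 hexp hM hone hJ hJ2
  obtain ⟨d1, d2, d3, d12, d13, d23⟩ := hdist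
  have hne : ∀ χ : IrrCharacter G, (χ : G → ℂ) ≠ (fun _ => 1) → principal G ≠ χ := fun χ h e =>
    h (e ▸ rfl)
  have hset : Finset.univ.filter (fun φ : IrrCharacter G => φ ∈ principalBlock M G) =
      {principal G, χ₁, χ₂, χ₃} := by
    ext φ
    simp only [hB, Finset.mem_filter, Finset.mem_univ, true_and, Finset.mem_insert,
      Finset.mem_singleton, Set.mem_ofPred_eq]
    exact or_congr_left ⟨fun h => Subtype.ext h, fun h => by rw [h]; rfl⟩
  rw [hset, Finset.sum_insert (by simp [hne χ₁ d1, hne χ₂ d2, hne χ₃ d3]),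
    Finset.sum_insert (by simp [d12, d13]), Finset.sum_pair d23, hval.1, hval.2.1, hval.2.2] at hF
  simp only [irr_apply_one_eq_deg] at hF
  have hB' : IsPBlock M (principalBlock M G) := isPBlock_blockOf (principal G)
  have hrel : (1 : ℂ) + ε₁ * deg (χ₁ : G → ℂ) + ε₂ * deg (χ₂ : G → ℂ) + ε₃ * deg (χ₃ : G → ℂ) = 0 := by
    have h := block_orthogonality_regular hM hB' (show ¬ 2 ∣ orderOf (1 : G) by
      rw [orderOf_one]; norm_num) (dvd_of_eq hJ2.symm : 2 ∣ orderOf J)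
    rw [hset, Finset.sum_insert (by simp [hne χ₁ d1, hne χ₂ d2, hne χ₃ d3]),
      Finset.sum_insert (by simp [d12, d13]), Finset.sum_pair d23, hval.1, hval.2.1, hval.2.2] at h
    simp only [irr_apply_one_eq_deg, map_intCast] at h
    change (deg (fun _ : G => (1 : ℂ)) : ℂ) * conj (1 : ℂ) + _ = 0 at h
    rw [show deg (fun _ : G => (1 : ℂ)) = 1 from charDegree_one (H := G), map_one, mul_one, Nat.cast_one] at h
    linear_combination h
  change 8 * _ = _ * _ * ((1 : ℂ) / ((deg (fun _ : G => (1 : ℂ)) : ℕ) : ℂ) + _) at hF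
  rw [show deg (fun _ : G => (1 : ℂ)) = 1 from charDegree_one (H := G), Nat.cast_one, div_one] at hF
  rw [charDegree_eq_deg, charDegree_eq_deg, charDegree_eq_deg]
  have p1 : (deg (χ₁ : G → ℂ) : ℂ) ≠ 0 := Nat.cast_ne_zero.2 (deg_irr_pos χ₁).ne'
  have p2 : (deg (χ₂ : G → ℂ) : ℂ) ≠ 0 := Nat.cast_ne_zero.2 (deg_irr_pos χ₂).ne'
  have p3 : (deg (χ₃ : G → ℂ) : ℂ) ≠ 0 := Nat.cast_ne_zero.2 (deg_irr_pos χ₃).ne'
  have hC : (Nat.card (Subgroup.centralizer ({J} : Set G)) : ℂ) ≠ 0 :=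
    Nat.cast_ne_zero.2 Nat.card_pos.ne'
  have hP' : (Nat.card (Subgroup.centralizer ((P : Subgroup G) : Set G)) : ℂ) ≠ 0 :=
    Nat.cast_ne_zero.2 Nat.card_pos.ne'
  set x₁ := deg (χ₁ : G → ℂ)
  set x₂ := deg (χ₂ : G → ℂ)
  set x₃ := deg (χ₃ : G → ℂ)
  set c' := Nat.card (Subgroup.centralizer ({J} : Set G))
  set cP := Nat.card (Subgroup.centralizer ((P : Subgroup G) : Set G))
  have hprod : (1 : ℂ) + ((ε₁ : ℂ) / x₁ + ((ε₂ : ℂ) / x₂ + (ε₃ : ℂ) / x₃)) =
      ((x₁ : ℂ) + ε₁) * ((x₂ : ℂ) + ε₂) * ((x₃ : ℂ) + ε₃) / ((x₁ : ℂ) * x₂ * x₃) := by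
    have q1 : (ε₁ : ℂ) * ε₁ = 1 := by rcases hε.1 with h | h <;> rw [h] <;> norm_num
    have q2 : (ε₂ : ℂ) * ε₂ = 1 := by rcases hε.2.1 with h | h <;> rw [h] <;> norm_num
    have q3 : (ε₃ : ℂ) * ε₃ = 1 := by rcases hε.2.2 with h | h <;> rw [h] <;> norm_num
    field_simp
    linear_combination (-(ε₁ : ℂ) * ε₂ * ε₃) * hrel + ((ε₂ : ℂ) * ε₃ * x₁) * q1 +
      ((ε₁ : ℂ) * ε₃ * x₂) * q2 + ((ε₁ : ℂ) * ε₂ * x₃) * q3
  rw [hprod] at hF
  have hne' : ((x₁ : ℂ) + ε₁) * ((x₂ : ℂ) + ε₂) * ((x₃ : ℂ) + ε₃) ≠ 0 := fun h => by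
    rw [h, zero_div, mul_zero] at hF
    exact mul_ne_zero (by norm_num) (pow_ne_zero 3 hC) hF
  have goal : (Nat.card G : ℂ) = 8 * (((x₁ : ℂ) * x₂ * x₃) /
      (((x₁ : ℂ) + ε₁) * ((x₂ : ℂ) + ε₂) * ((x₃ : ℂ) + ε₃))) * (c' : ℂ) ^ 3 / (cP : ℂ) ^ 2 := by
    field_simp at hF
    rw [eq_div_iff (pow_ne_zero 2 hP'), mul_assoc 8, div_mul_eq_mul_div, ← mul_div_assoc,
      eq_div_iff hne']
    linear_combination -hF
  exact Rat.cast_injective (α := ℂ) (by push_cast; exact goal)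

end Cfsg.Agent.S4479
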