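import Cfsg.Statements.S1248
import Cfsg.Agent.SuzukiTwo.Unitary
import Cfsg.Agent.SuzukiTwo.Setup
import Cfsg.Agent.SuzukiTwo.ClassTwo

set_option autoImplicit false
open Cfsg
open scoped commutatorElement

namespace Cfsg.Agent.S1248

/-- Let F be a field with 16 elements and S a Sylow 2-subgroup of PSU(3) over F (the unitary group U₃(4)). Then |S| = 64; the centre Z(S) is a Klein four-group and coincides with the subgroup generated by the involutions of S and with the derived subgroup; and every element of S ⧸ Z(S) squares to the identity, S ⧸ Z(S) having order 16. -/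
theorem result {F : Type*} [Field F] [Fintype F] (hF : Fintype.card F = 16) (S : Sylow 2 (Cfsg.PSU 3 F 4)) : Nat.card S = 64 ∧ IsKleinFour (Subgroup.center (S : Subgroup (Cfsg.PSU 3 F 4))) ∧ Subgroup.center (S : Subgroup (Cfsg.PSU 3 F 4)) = Subgroup.closure {x : (S : Subgroup (Cfsg.PSU 3 F 4)) | orderOf x = 2} ∧ Subgroup.center (S : Subgroup (Cfsg.PSU 3 F 4)) = commutator (S : Subgroup (Cfsg.PSU 3 F 4)) ∧ Nat.card ((S : Subgroup (Cfsg.PSU 3 F 4)) ⧸ Subgroup.center (S : Subgroup (Cfsg.PSU 3 F 4))) = 16 ∧ ∀ x : (S : Subgroup (Cfsg.PSU 3 F 4)) ⧸ Subgroup.center (S : Subgroup (Cfsg.PSU 3 F 4)), x ^ 2 = 1 := by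
  open Cfsg.Lib.SuzukiTwo in
  obtain ⟨h64, hzcard, hsz⟩ := psu_three (n := 2) le_rfl (by rw [hF]; norm_num) S
  obtain ⟨hfin, h2, hnab, htwo, K, iK, ρ, h⟩ := exists_involTrans hsz
  have hiff := involution_iff hsz
  have hsq := sq_mem_center h2 h hnab htwo
  have hz4 : Nat.card (Subgroup.center (S : Subgroup (Cfsg.PSU 3 F 4))) = 4 := hzcard
  have hs64 : Nat.card (S : Subgroup (Cfsg.PSU 3 F 4)) = 64 := h64
  refine ⟨h64, ⟨hz4, ?_⟩, ?_, ?_, ?_, fun x => ?_⟩
  · haveI : Nontrivial (Subgroup.center (S : Subgroup (Cfsg.PSU 3 F 4))) :=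
      Finite.one_lt_card_iff_nontrivial.mp (by rw [hz4]; norm_num)
    refine Monoid.exponent_eq_prime_iff Nat.prime_two |>.mpr fun g hg => ?_
    refine orderOf_eq_prime ?_ hg
    rw [pow_two]
    exact Subtype.ext ((hiff g).mpr g.2)
  · refine le_antisymm (fun x hx => ?_) ((Subgroup.closure_le _).mpr fun x hx => ?_)
    · by_cases hx1 : x = 1
      · rw [hx1]; exact one_mem _
      · exact Subgroup.subset_closure (orderOf_eq_prime (by rw [pow_two]; exact (hiff x).mpr hx) hx1)
    · refine (hiff x).mp ?_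
      have hx2 : orderOf x = 2 := hx
      rw [← pow_two]
      exact (congrArg (x ^ ·) hx2.symm).trans (pow_orderOf_eq_one x)
  · refine le_antisymm (fun x hx => ?_) ?_
    · obtain ⟨a, b, hab⟩ := hnab
      have hcz : ∀ c d, ⁅c, d⁆ ∈ Subgroup.center (S : Subgroup (Cfsg.PSU 3 F 4)) := fun c d => by
        rw [comm_eq_squares]
        exact mul_mem (mul_mem (hsq _) (hsq _)) (hsq _)
      by_cases hx1 : x = 1
      · rw [hx1]; exact one_mem _
      obtain ⟨k, hk⟩ := h.trans ⁅a, b⁆ x (fun e => hab (commutatorElement_eq_one_iff_commute.mp e))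
        ((hiff _).mpr (hcz a b)) hx1 ((hiff x).mpr hx)
      rw [← hk, map_commutatorElement]
      exact Subgroup.commutator_mem_commutator (Subgroup.mem_top _) (Subgroup.mem_top _)
    · rw [commutator_def, Subgroup.commutator_le]
      intro c _ d _
      rw [comm_eq_squares]
      exact mul_mem (mul_mem (hsq _) (hsq _)) (hsq _)
  · have h1 := Subgroup.card_eq_card_quotient_mul_card_subgroup (Subgroup.center (S : Subgroup (Cfsg.PSU 3 F 4)))
    rw [hs64, hz4] at h1
    omega
  · obtain ⟨y, rfl⟩ := QuotientGroup.mk_surjective x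
    rw [pow_two, ← QuotientGroup.mk_mul]
    exact (QuotientGroup.eq_one_iff _).mpr (hsq y)

end Cfsg.Agent.S1248
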