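import Cfsg.Statements.S1386
import Cfsg.Agent.Coprime.Action

set_option autoImplicit false
open Cfsg

namespace Cfsg.Agent.S1386

/-- Let G be a finite group, W₁, W₂ subgroups forming a self-normalizing cyclic pair, S a subgroup with W₂ ≤ S and W₁ a complement to S' in S, and (W₁, U, W₂') type-P data for S. Then W₂' = W₂ (that is, C_{S'}(W₁) = W₂). -/
theorem result {G : Type*} [Group G] [Finite G] (W₁ W₂ S U W₂' : Subgroup G) (hW : Cfsg.IsSelfNormalizingCyclic W₁ W₂)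
    (hSW : Cfsg.IsComplIn ⁅S, S⁆ W₁ S) (hW₂S : W₂ ≤ S) (hP : Cfsg.IsTypePWith S W₁ U W₂') :
    W₂' = W₂ := by
  obtain ⟨hW₁, hW₂, hinf, hcomm, hcyc, hN⟩ := hW
  obtain ⟨-, hW₂', hinf', hcomm', hcyc', -⟩ := hP.selfNormalizing
  obtain ⟨x, hx, hx1⟩ := (Subgroup.bot_or_exists_ne_one W₁).resolve_left hW₁
  obtain ⟨a, ha, b, hb, hab⟩ : ∃ a ∈ W₁, ∃ b ∈ W₂, a ≠ 1 ∧ b ≠ 1 := by
    obtain ⟨b, hb, hb1⟩ := (Subgroup.bot_or_exists_ne_one W₂).resolve_left hW₂
    exact ⟨x, hx, b, hb, hx1, hb1⟩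
  have hcomW : ∀ u ∈ W₁ ⊔ W₂, ∀ v ∈ W₁ ⊔ W₂, u * v = v * u := fun u hu v hv => by
    haveI := hcyc
    letI := IsCyclic.commGroup (α := ↥(W₁ ⊔ W₂))
    exact congrArg Subtype.val (mul_comm (⟨u, hu⟩ : ↥(W₁ ⊔ W₂)) ⟨v, hv⟩)
  have hcomW' : ∀ u ∈ W₁ ⊔ W₂', ∀ v ∈ W₁ ⊔ W₂', u * v = v * u := fun u hu v hv => by
    haveI := hcyc'
    letI := IsCyclic.commGroup (α := ↥(W₁ ⊔ W₂'))
    exact congrArg Subtype.val (mul_comm (⟨u, hu⟩ : ↥(W₁ ⊔ W₂')) ⟨v, hv⟩)
  have hW₂W' : W₂ ≤ W₁ ⊔ W₂' := by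
    intro v hv
    obtain ⟨-, -, -, hprod⟩ := hP.W₁_compl
    obtain ⟨s, hs, t, ht, rfl⟩ := hprod v (hW₂S hv)
    have hxt : x * t = t * x := hcomW x (Subgroup.mem_sup_left hx) t (Subgroup.mem_sup_left ht)
    have hxst : x * (s * t) = s * t * x := hcomm x hx _ hv
    have hxs : x * s = s * x := by
      apply mul_right_cancel (b := t)
      rw [mul_assoc, hxst, mul_assoc, ← hxt, mul_assoc]
    have hs' : s ∈ W₂' := by
      rw [← hP.W₂_centralizer x hx hx1]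
      exact ⟨hs, Subgroup.mem_centralizer_singleton_iff.mpr hxs.symm⟩
    exact Subgroup.mul_mem_sup hs' ht |> fun h => by rwa [sup_comm] at h
  have hle : W₁ ⊔ W₂ ≤ W₁ ⊔ W₂' := sup_le le_sup_left hW₂W'
  have heq : W₁ ⊔ W₂' = W₁ ⊔ W₂ := by
    refine le_antisymm ?_ hle
    have hw : a * b ∈ W₁ ⊔ W₂ := Subgroup.mul_mem_sup ha hb
    have hwn : a * b ∈ (↑(W₁ ⊔ W₂) : Set G) \ (↑W₁ ∪ ↑W₂) := by
      refine ⟨hw, ?_⟩
      rintro (h | h)
      · have hb' : b ∈ W₁ := by simpa using mul_mem (inv_mem ha) h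
        exact hab.2 (Subgroup.mem_bot.mp (hinf ▸ ⟨hb', hb⟩))
      · have ha' : a ∈ W₂ := by simpa using mul_mem h (inv_mem hb)
        exact hab.1 (Subgroup.mem_bot.mp (hinf ▸ ⟨ha, ha'⟩))
    rw [← hN {a * b} (Set.singleton_subset_iff.mpr hwn) (Set.singleton_nonempty _)]
    intro g hg
    rw [Subgroup.mem_set_normalizer_iff]
    intro y
    simp only [Set.mem_singleton_iff]
    constructor
    · rintro rfl
      rw [hcomW' g hg _ (hle hw), mul_inv_cancel_right]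
    · intro h
      rw [mul_inv_eq_iff_eq_mul, ← hcomW' g hg _ (hle hw)] at h
      exact mul_left_cancel h
  -- equal orders inside the cyclic group
  have hn : ∀ V : Subgroup G, (∀ u ∈ W₁, ∀ v ∈ V, u * v = v * u) →
      V ≤ Subgroup.normalizer (W₁ : Set G) := fun V hV v hv =>
    Cfsg.Lib.Coprime.mem_normalizer_of_conj_mem
      (fun u hu => by rwa [← hV u hu v hv, mul_inv_cancel_right])
      (fun u hu => by rwa [mul_assoc, hV u hu v hv, inv_mul_cancel_left])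
  have h1 := Cfsg.Lib.Coprime.card_sup_of_inf_eq_bot (hn W₂ hcomm) hinf
  have h2 := Cfsg.Lib.Coprime.card_sup_of_inf_eq_bot (hn W₂' hcomm') hinf'
  rw [heq, h1] at h2
  have hcard : Nat.card W₂ = Nat.card W₂' := Nat.eq_of_mul_eq_mul_left Nat.card_pos h2
  haveI := hcyc'
  classical
  haveI := Fintype.ofFinite ↥(W₁ ⊔ W₂')
  set n := Nat.card W₂ with hn'
  set T := (Finset.univ : Finset ↥(W₁ ⊔ W₂')).filter (fun z => z ^ n = 1) with hT
  have hTle : T.card ≤ n := IsCyclic.card_pow_eq_one_le Nat.card_pos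
  set A := (Finset.univ : Finset ↥(W₁ ⊔ W₂')).filter (fun z : ↥(W₁ ⊔ W₂') => (z : G) ∈ W₂) with hA
  have hAT : A ⊆ T := by
    intro z hz
    have hzm : (z : G) ∈ W₂ := by
      rw [hA] at hz
      exact (Finset.mem_filter.mp hz).2
    rw [hT]
    simp only [Finset.mem_filter, Finset.mem_univ, true_and]
    apply Subtype.ext
    rw [Subgroup.coe_pow, Subgroup.coe_one, hn']
    exact congrArg Subtype.val (pow_card_eq_one' (x := (⟨z, hzm⟩ : W₂)))
  have hAcard : A.card = n := by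
    rw [hn', ← Nat.card_eq_finsetCard]
    refine Nat.card_congr ((Equiv.subtypeEquivRight fun z => ?_).trans
      (Subgroup.subgroupOfEquivOfLe hW₂W').toEquiv)
    simp [hA, Subgroup.mem_subgroupOf]
  have hAT' : A = T := Finset.eq_of_subset_of_card_le hAT (hTle.trans hAcard.ge)
  refine Subgroup.eq_of_le_of_card_ge (fun z hz => ?_) hcard.le
  have hzT : (⟨z, Subgroup.mem_sup_right hz⟩ : ↥(W₁ ⊔ W₂')) ∈ T := by
    rw [hT]
    simp only [Finset.mem_filter, Finset.mem_univ, true_and]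
    apply Subtype.ext
    rw [Subgroup.coe_pow, Subgroup.coe_one, hcard]
    exact congrArg Subtype.val (pow_card_eq_one' (x := (⟨z, hz⟩ : W₂')))
  rw [← hAT', hA] at hzT
  exact (Finset.mem_filter.mp hzT).2

end Cfsg.Agent.S1386
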