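import Cfsg.Statements.S1460
import Cfsg.Agent.Coprime.SchurZassenhaus

set_option autoImplicit false
open Cfsg

namespace Cfsg.Agent.S1460

/-- Let G be a finite solvable group, K a normal subgroup and U a subgroup with G = KU, and H ≤ U a subgroup whose order is coprime to that of K. Then H ∩ G' = H ∩ U'; N_G(H) is generated by K ∩ C_G(H) and U ∩ N_G(H); and if gHg⁻¹ ≤ U for some g ∈ G then g = u c with u ∈ U and c ∈ K ∩ C_G(H). -/
theorem result {G : Type*} [Group G] [Finite G] [Group.IsSolvable G] (K U H : Subgroup G) [K.Normal] (hKU : K ⊔ U = ⊤) (hH : H ≤ U) (hcop : (Nat.card H).Coprime (Nat.card K)) :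
    H ⊓ commutator G = H ⊓ ⁅U, U⁆ ∧
      Subgroup.normalizer (H : Set G) = (K ⊓ Subgroup.centralizer (H : Set G)) ⊔ (U ⊓ Subgroup.normalizer (H : Set G)) ∧
      ∀ g : G, H.map (MulAut.conj g).toMonoidHom ≤ U → ∃ u ∈ U, ∃ c ∈ K ⊓ Subgroup.centralizer (H : Set G), g = u * c := by
  classical
  have hN : ∀ S : Subgroup G, S ≤ Subgroup.normalizer ((K : Subgroup G) : Set G) := fun S => by
    rw [Subgroup.normalizer_eq_top]; exact le_top
  have hdec : ∀ x : G, ∃ a ∈ K, ∃ b ∈ U, a * b = x := fun x =>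
    (Cfsg.Lib.Coprime.mem_sup_of_le_normalizer (hN U)).mp (hKU ▸ Subgroup.mem_top x)
  have hfus : ∀ g : G, Cfsg.Lib.Coprime.conjMap g H ≤ U →
      ∃ u ∈ U, ∃ c ∈ K ⊓ Subgroup.centralizer (H : Set G), g = u * c := by
    intro g hg
    obtain ⟨a, ha, b, hb, hab⟩ := hdec g
    set k := b⁻¹ * a * b with hk
    have hkK : k ∈ K := by simpa using (inferInstance : K.Normal).conj_mem a ha b⁻¹
    have hgk : g = b * k := by rw [hk, ← hab]; group
    have hHk : Cfsg.Lib.Coprime.conjMap k H ≤ U := by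
      have h1 := Cfsg.Lib.Coprime.conjMap_mono (g := b⁻¹) hg
      rw [Cfsg.Lib.Coprime.conjMap_mul, hgk, inv_mul_cancel_left] at h1
      exact h1.trans (le_of_eq (Cfsg.Lib.Coprime.conjMap_eq_self
        (Subgroup.le_normalizer (inv_mem hb))))
    have hHN : H ≤ Subgroup.normalizer ((K ⊓ U : Subgroup G) : Set G) :=
      Cfsg.Lib.Coprime.le_normalizer_inf (hN H) (hH.trans Subgroup.le_normalizer)
    have hle : Cfsg.Lib.Coprime.conjMap k H ≤ (K ⊓ U) ⊔ H := by
      rintro x ⟨h, hh, rfl⟩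
      have hx : k * h * k⁻¹ ∈ U := hHk ⟨h, hh, rfl⟩
      have h1 : k * h * k⁻¹ * h⁻¹ ∈ K ⊓ U := ⟨by
        have := (inferInstance : K.Normal).conj_mem k⁻¹ (inv_mem hkK) h
        simpa [mul_assoc] using mul_mem hkK this, U.mul_mem hx (U.inv_mem (hH hh))⟩
      have := Subgroup.mul_mem_sup h1 hh
      simpa [mul_assoc] using this
    obtain ⟨v, hv, hve⟩ := Cfsg.Lib.Coprime.exists_conj_eq_of_coprime (K := Cfsg.Lib.Coprime.conjMap k H)
      hHN ((hcop.coprime_dvd_right (Subgroup.card_dvd_of_le inf_le_left)).symm) (Or.inl inferInstance) hle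
      (Cfsg.Lib.Coprime.card_conjMap k H)
    have hvK : v ∈ K := hv.1
    have hvU : v ∈ U := hv.2
    have hc : v⁻¹ * k ∈ K := mul_mem (inv_mem hvK) hkK
    refine ⟨b * v, mul_mem hb hvU, v⁻¹ * k, ⟨hc, ?_⟩, by rw [hgk]; group⟩
    have hn : Cfsg.Lib.Coprime.conjMap (v⁻¹ * k) H = H := by
      rw [← Cfsg.Lib.Coprime.conjMap_mul, hve, Cfsg.Lib.Coprime.conjMap_inv_conjMap]
    show v⁻¹ * k ∈ Subgroup.centralizer (H : Set G)
    rw [Subgroup.mem_centralizer_iff]
    intro h hh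
    set c := v⁻¹ * k
    have hm : c * h * c⁻¹ ∈ H := hn.le ⟨h, hh, rfl⟩
    have h1 : c * h * c⁻¹ * h⁻¹ = 1 :=
      Cfsg.Lib.Coprime.eq_one_of_coprime hcop.symm (by
        have := (inferInstance : K.Normal).conj_mem c⁻¹ (inv_mem hc) h
        simpa [mul_assoc] using mul_mem hc this) (mul_mem hm (inv_mem hh))
    exact (mul_inv_eq_iff_eq_mul.mp (mul_inv_eq_one.mp h1)).symm
  refine ⟨le_antisymm ?_ ?_, le_antisymm ?_ ?_, hfus⟩
  · rintro h ⟨hh, hc⟩
    refine ⟨hh, ?_⟩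
    have hf : ∀ x : G, ∃ u ∈ U, (QuotientGroup.mk' K u) = QuotientGroup.mk' K x := fun x => by
      obtain ⟨a, ha, b, hb, rfl⟩ := hdec x
      refine ⟨b, hb, ?_⟩
      rw [map_mul, show QuotientGroup.mk' K a = 1 from (QuotientGroup.eq_one_iff a).mpr ha, one_mul]
    have hUtop : U.map (QuotientGroup.mk' K) = ⊤ := eq_top_iff.mpr fun y _ => by
      obtain ⟨x, rfl⟩ := QuotientGroup.mk'_surjective K y
      exact hf x
    have hc' : QuotientGroup.mk' K h ∈ (⁅U, U⁆).map (QuotientGroup.mk' K) := by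
      rw [Subgroup.map_commutator, hUtop]
      have := Subgroup.mem_map_of_mem (QuotientGroup.mk' K) hc
      rw [commutator_def, Subgroup.map_commutator] at this
      exact Subgroup.commutator_mono le_top le_top this
    obtain ⟨d, hd, hdh⟩ := hc'
    have hdU : d ∈ U := Subgroup.commutator_le_self U hd
    have hk : d⁻¹ * h ∈ K := QuotientGroup.eq.mp hdh
    have hkU : d⁻¹ * h ∈ U := mul_mem (inv_mem hdU) (hH hh)
    let π := QuotientGroup.mk' (commutator ↥U)
    have hπd : π ⟨d, hdU⟩ = 1 := by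
      refine (QuotientGroup.eq_one_iff _).mpr ?_
      rw [← Subgroup.map_subtype_commutator] at hd
      obtain ⟨y, hy, hyd⟩ := hd
      rwa [show (⟨d, hdU⟩ : ↥U) = y from Subtype.ext hyd.symm]
    have heq : π ⟨h, hH hh⟩ = π ⟨d⁻¹ * h, hkU⟩ := by
      rw [show (⟨h, hH hh⟩ : ↥U) = ⟨d, hdU⟩ * ⟨d⁻¹ * h, hkU⟩ from Subtype.ext (by simp), map_mul,
        hπd, one_mul]
    have o1 : orderOf (π ⟨h, hH hh⟩) ∣ Nat.card H :=
      (orderOf_map_dvd π _).trans (by rw [Subgroup.orderOf_mk]; exact Subgroup.orderOf_dvd_natCard _ hh)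
    have o2 : orderOf (π ⟨h, hH hh⟩) ∣ Nat.card K := by
      rw [heq]
      exact (orderOf_map_dvd π _).trans
        (by rw [Subgroup.orderOf_mk]; exact Subgroup.orderOf_dvd_natCard _ hk)
    have h1 := orderOf_eq_one_iff.mp (Nat.eq_one_of_dvd_coprimes hcop o1 o2)
    rw [← Subgroup.map_subtype_commutator]
    exact ⟨⟨h, hH hh⟩, (QuotientGroup.eq_one_iff _).mp h1, rfl⟩
  · exact inf_le_inf_left _ (Subgroup.commutator_mono le_top le_top)
  · intro g hg
    obtain ⟨u, hu, c, hc, rfl⟩ := hfus g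
      ((le_of_eq (Cfsg.Lib.Coprime.conjMap_eq_self hg)).trans hH)
    have hcn : c ∈ Subgroup.normalizer (H : Set G) :=
      Subgroup.centralizer_le_normalizer _ hc.2
    have hun : u ∈ Subgroup.normalizer (H : Set G) := by
      simpa using mul_mem hg (inv_mem hcn)
    exact mul_mem (Subgroup.mem_sup_right ⟨hu, hun⟩) (Subgroup.mem_sup_left hc)
  · exact sup_le (inf_le_right.trans (Subgroup.centralizer_le_normalizer _)) inf_le_right

end Cfsg.Agent.S1460
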