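import Cfsg.Statements.S1461
import Cfsg.Agent.OddLocal.PLengthOne
import Cfsg.Agent.S1460

set_option autoImplicit false
set_option linter.style.haveILetI false
open Cfsg

namespace Cfsg.Agent.S1461

/-- Let G be a finite solvable group, p a prime with G = O_{p',p,p'}(G), and S a Sylow p-subgroup. Then: if S ≤ G' then S ≤ [N_G(S), N_G(S)]; if Y ⊆ S and xYx⁻¹ ⊆ S then x = g c for some g ∈ N_G(S) and c centralizing Y; and for every p-subgroup Q there is x ∈ C_G(Q ∩ S) with xQx⁻¹ ≤ S. -/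
theorem result {G : Type*} [Group G] [Finite G] [Group.IsSolvable G] (p : ℕ) [Fact p.Prime] (hpl : Cfsg.PLengthLE p 1 G) (S : Sylow p G) :
    ((S : Subgroup G) ≤ commutator G → (S : Subgroup G) ≤ ⁅Subgroup.normalizer ((S : Subgroup G) : Set G), Subgroup.normalizer ((S : Subgroup G) : Set G)⁆) ∧
      (∀ (Y : Set G) (x : G), Y ⊆ (S : Subgroup G) → (fun y => x * y * x⁻¹) '' Y ⊆ (S : Subgroup G) →
        ∃ g ∈ Subgroup.normalizer ((S : Subgroup G) : Set G), ∃ c ∈ Subgroup.centralizer Y, g * c = x) ∧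
      ∀ Q : Subgroup G, IsPGroup p Q → ∃ x ∈ Subgroup.centralizer ((Q ⊓ (S : Subgroup G) : Subgroup G) : Set G), Q.map (MulAut.conj x).toMonoidHom ≤ (S : Subgroup G) := by
  set N := Cfsg.pPrimeCore p G
  set U := Subgroup.normalizer ((S : Subgroup G) : Set G)
  have hSU : (S : Subgroup G) ≤ U := Subgroup.le_normalizer
  have hKU : N ⊔ U = ⊤ := Cfsg.Lib.OddP.pPrimeCore_sup_normalizer hpl S
  have hcop : ∀ {H : Subgroup G}, H ≤ (S : Subgroup G) → (Nat.card H).Coprime (Nat.card N) := by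
    intro H hH
    obtain ⟨j, hj⟩ := IsPGroup.iff_card.mp (S.2.to_le hH)
    rw [hj]
    exact ((Cfsg.Lib.Components.coprime_card_pPrimeCore p).pow_right j).symm
  refine ⟨fun hS => ?_, fun Y x hY hxY => ?_, fun Q hQ => Cfsg.Lib.OddP.exists_conj_le_sylow hpl S hQ⟩
  · have h := (Cfsg.Agent.S1460.result N U (S : Subgroup G) hKU hSU (hcop le_rfl)).1
    rw [inf_eq_left.mpr hS] at h
    exact h.le.trans inf_le_right
  · have hHS : Subgroup.closure Y ≤ (S : Subgroup G) := (Subgroup.closure_le _).mpr hY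
    obtain ⟨u, hu, c, hc, he⟩ := (Cfsg.Agent.S1460.result N U (Subgroup.closure Y) hKU
      (hHS.trans hSU) (hcop hHS)).2.2 x (by
        rw [MonoidHom.map_closure, Subgroup.closure_le]
        exact hxY.trans hSU)
    exact ⟨u, hu, c, Subgroup.centralizer_le Subgroup.subset_closure hc.2, he.symm⟩

end Cfsg.Agent.S1461
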