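import Cfsg.Statements.S1412
import Cfsg.Agent.PGroups.BlackburnCoprime
import Cfsg.Agent.OddLocal.SylowNormalizerFusion

set_option autoImplicit false
set_option linter.style.haveILetI false
open Cfsg

namespace Cfsg.Agent.S1412

/-- Let G be a minimal simple group of odd order, p a prime and P a Sylow p-subgroup of G with no elementary abelian subgroup of order p ^ 3. Then either P is abelian, or P is generated by two elementwise-commuting subgroups P₁, P₂ with P₁ nonabelian of order p ^ 3 and exponent p, P₂ cyclic, and the elements of P₂ of order dividing p generating exactly the centre of P₁. -/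
theorem result {G : Type*} [Group G] [Finite G] (hG : Cfsg.IsMinSimpleOddOrder G) (p : ℕ) [Fact p.Prime] (P : Sylow p G) (hr : Cfsg.PRankLE p 2 (P : Subgroup G)) :
    IsMulCommutative (P : Subgroup G) ∨ ∃ P₁ P₂ : Subgroup G, P₁ ⊔ P₂ = (P : Subgroup G) ∧ (∀ a ∈ P₁, ∀ b ∈ P₂, a * b = b * a) ∧
        ¬ IsMulCommutative P₁ ∧ Nat.card P₁ = p ^ 3 ∧ Monoid.exponent P₁ = p ∧ IsCyclic P₂ ∧
        Subgroup.closure {x : G | x ∈ P₂ ∧ x ^ p = 1} = P₁ ⊓ Subgroup.centralizer (P₁ : Set G) := by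
  classical
  have hodd : Odd (Nat.card G) := hG.1
  by_cases hP : (P : Subgroup G) = ⊥
  · exact Or.inl ⟨⟨fun a b => Subtype.ext (by
      rw [Subgroup.coe_mul, Subgroup.coe_mul, Subgroup.mem_bot.mp (hP.le a.2), one_mul, mul_one])⟩⟩
  have hp2 : p ≠ 2 := fun h => by
    obtain ⟨k, hk⟩ := IsPGroup.iff_card.mp P.2
    have h1 : 1 < Nat.card (P : Subgroup G) := (Subgroup.one_lt_card_iff_ne_bot _).mpr hP
    have h2 : p ∣ Nat.card G := (dvd_pow_self p (fun h0 => by rw [hk, h0, pow_zero] at h1; omega)).trans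
      (hk ▸ Subgroup.card_subgroup_dvd_card _)
    exact Nat.not_even_iff_odd.mpr hodd (even_iff_two_dvd.mpr (h ▸ h2))
  set N := Subgroup.normalizer ((P : Subgroup G) : Set G) with hN
  have hPN : (P : Subgroup G) ≤ N := Subgroup.le_normalizer
  set H := (P : Subgroup G).subgroupOf N with hH
  haveI : H.Normal := Subgroup.normal_subgroupOf_of_le_normalizer le_rfl
  have hcop : (Nat.card H).Coprime H.index := by
    obtain ⟨j, hj⟩ := IsPGroup.iff_card.mp P.2
    rw [Nat.card_congr (Subgroup.subgroupOfEquivOfLe hPN).toEquiv, hj]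
    refine (((Fact.out : p.Prime).coprime_iff_not_dvd).mpr fun hd => P.not_dvd_index ?_).pow_left j
    exact hd.trans (Subgroup.relIndex_dvd_index_of_le hPN)
  obtain ⟨K, hK⟩ := Subgroup.exists_right_complement'_of_coprime hcop
  have hV : Cfsg.IsComplIn (P : Subgroup G) (K.map N.subtype) N := by
    refine ⟨hPN, Subgroup.map_subtype_le K, ?_, fun m hm => ?_⟩
    · refine eq_bot_iff.mpr ?_
      rintro x ⟨hx, ⟨y, hy, rfl⟩⟩
      have h1 : y ∈ H ⊓ K := ⟨hx, hy⟩
      rw [disjoint_iff.mp hK.disjoint, Subgroup.mem_bot] at h1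
      exact Subgroup.mem_bot.mpr (by rw [h1, map_one])
    · obtain ⟨⟨a, b⟩, hab⟩ := hK.surjective ⟨m, hm⟩
      exact ⟨a.1, a.2, b.1, Subgroup.mem_map_of_mem N.subtype b.2, (congrArg Subtype.val hab).symm⟩
  have hPA := Cfsg.Lib.OddLocal.Sigma.eq_commutator_compl hG P hV
  have hcard : Nat.card ↥(K.map N.subtype) = Nat.card K := Subgroup.card_subtype N K
  have hKd : Nat.card ↥(K.map N.subtype) ∣ Nat.card G := Subgroup.card_subgroup_dvd_card _
  obtain ⟨-, h⟩ := Cfsg.Lib.PGroups.BlackburnCoprime.structure_of_displacements hp2 P.2 hP hr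
    (Subgroup.map_subtype_le K) (by
      have h2 : 1 < Nat.card (P : Subgroup G) := (Subgroup.one_lt_card_iff_ne_bot _).mpr hP
      obtain ⟨j, hj⟩ := IsPGroup.iff_card.mp P.2
      have hj0 : 0 < j := Nat.pos_of_ne_zero fun h0 => by rw [hj, h0, pow_zero] at h2; omega
      have h3 := hcop
      rw [Nat.card_congr (Subgroup.subgroupOfEquivOfLe hPN).toEquiv, hj, Nat.coprime_pow_left_iff hj0] at h3
      rw [hcard, ← Subgroup.IsComplement'.index_eq_card hK.symm]
      exact h3.symm)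
    (Odd.of_dvd_nat hodd hKd) hPA.symm
  refine h.imp id ?_
  rintro ⟨P₁, P₂, h1, h2, h3, h4, h5, h6, h7⟩
  refine ⟨P₁, P₂, h1, h2, h3, h4, h5, h6, h7.trans ?_⟩
  have hexp : ∀ x : P₁, x ^ p = 1 := fun x => h5 ▸ Monoid.pow_exponent_eq_one x
  have hp3 : 3 < p := (Cfsg.Lib.PGroups.BlackburnCoprime.structure_of_displacements hp2 P.2 hP hr
    (Subgroup.map_subtype_le K) (by
      have h2 : 1 < Nat.card (P : Subgroup G) := (Subgroup.one_lt_card_iff_ne_bot _).mpr hP
      obtain ⟨j, hj⟩ := IsPGroup.iff_card.mp P.2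
      have hj0 : 0 < j := Nat.pos_of_ne_zero fun h0 => by rw [hj, h0, pow_zero] at h2; omega
      have h3 := hcop
      rw [Nat.card_congr (Subgroup.subgroupOfEquivOfLe hPN).toEquiv, hj, Nat.coprime_pow_left_iff hj0] at h3
      rw [hcard, ← Subgroup.IsComplement'.index_eq_card hK.symm]
      exact h3.symm)
    (Odd.of_dvd_nat hodd hKd) hPA.symm).1
  have B : Cfsg.Lib.PGroups.BlackburnCoprime.Base p (⊤ : Subgroup P₁) :=
    ⟨hp3, IsPGroup.of_card h4, fun x => ⟨fun _ => hexp x, fun _ => Subgroup.mem_top x⟩,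
      by rw [Subgroup.card_top, h4], fun hc => h3 ⟨⟨fun a b => congrArg Subtype.val
        (hc.is_comm.comm (⟨a, Subgroup.mem_top a⟩ : (⊤ : Subgroup P₁)) ⟨b, Subgroup.mem_top b⟩)⟩⟩⟩
  have e1 := congrArg (Subgroup.map P₁.subtype) B.comm_eq_Z
  rw [Subgroup.map_commutator, ← MonoidHom.range_eq_map, Subgroup.range_subtype] at e1
  rw [e1]
  ext x
  simp only [Subgroup.mem_map, Subgroup.mem_inf, Subgroup.mem_top, true_and, Subgroup.coe_subtype,
    Subgroup.mem_centralizer_iff, Subgroup.coe_top, Set.mem_univ, forall_true_left, SetLike.mem_coe]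
  constructor
  · rintro ⟨y, hy, rfl⟩
    exact ⟨y.2, fun z hz => congrArg Subtype.val (hy ⟨z, hz⟩)⟩
  · rintro ⟨hx, hx'⟩
    exact ⟨⟨x, hx⟩, fun z => Subtype.ext (hx' z z.2), rfl⟩

end Cfsg.Agent.S1412
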