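import Cfsg.Statements.S1513
import Cfsg.Agent.Chars.FixedClasses
import Cfsg.Agent.Chars.Inertia

set_option autoImplicit false
set_option linter.style.haveILetI false
open Cfsg

namespace Cfsg.Agent.S1513

/-- Let L be a finite group with K normal with complement W₁ ≠ 1 a cyclic Hall subgroup, and W₂ ≠ 1 a cyclic subgroup of K equal to C_K(x) for every non-identity x ∈ W₁, with W₁W₂ of odd order. For an irreducible character θ of K: if θ is not fixed under conjugation by some element of W₁, then the function induced from θ to L is an irreducible character of L; and the irreducible characters of K fixed by all of W₁ are exactly Nat.card W₂ in number, each inducing to the sum of Nat.card W₁ pairwise distinct irreducible characters of L. -/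
theorem result {L : Type*} [Group L] [Fintype L] (K W₁ W₂ : Subgroup L) [hK : K.Normal] (hKW₁ : K ⊓ W₁ = ⊥) (hKW₁' : K ⊔ W₁ = ⊤) (hW₁ : W₁ ≠ ⊥) (hW₁c : IsCyclic W₁) (hHall : Nat.Coprime (Nat.card W₁) W₁.index) (hW₂ : W₂ ≠ ⊥) (hW₂c : IsCyclic W₂) (hW₂K : W₂ ≤ K) (hC : ∀ x ∈ W₁, x ≠ 1 → K ⊓ Subgroup.centralizer ({x} : Set L) = W₂) (hodd : Odd (Nat.card ↥(W₁ ⊔ W₂))) : (∀ θ : K → ℂ, Cfsg.IsIrrCharacter K θ → (∃ x ∈ W₁, (fun k : K => θ ⟨x * k * x⁻¹, hK.conj_mem (k : L) k.2 x⟩) ≠ θ) → Cfsg.IsIrrCharacter L (Cfsg.indFun K θ)) ∧ Nat.card {θ : Cfsg.IrrCharacter K // ∀ x ∈ W₁, (fun k : K => (θ : K → ℂ) ⟨x * k * x⁻¹, hK.conj_mem (k : L) k.2 x⟩) = θ} = Nat.card W₂ ∧ (∀ θ : K → ℂ, Cfsg.IsIrrCharacter K θ → (∀ x ∈ W₁, (fun k : K => θ ⟨x * k * x⁻¹, hK.conj_mem (k : L) k.2 x⟩) = θ) → ∃ C : Finset (L → ℂ), C.card = Nat.card W₁ ∧ (∀ μ ∈ C, Cfsg.IsIrrCharacter L μ) ∧ Cfsg.indFun K θ = ∑ μ ∈ C, μ) := by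
  classical
  have hab : ∀ a ∈ W₂, ∀ b ∈ W₂, a * b = b * a := fun a ha b hb =>
    congrArg Subtype.val (IsCyclic.isMulCommutative.is_comm.comm (⟨a, ha⟩ : W₂) ⟨b, hb⟩)
  have hindex : K.index = Nat.card W₁ := by
    refine Subgroup.IsComplement'.index_eq_card (Subgroup.IsComplement'.symm ?_)
    exact Subgroup.isComplement'_of_disjoint_and_mul_eq_univ (disjoint_iff.mpr hKW₁)
      (by rw [← Subgroup.normal_mul, hKW₁', Subgroup.coe_top])
  have hindex' : W₁.index = Nat.card K := by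
    refine Subgroup.IsComplement'.index_eq_card ?_
    exact Subgroup.isComplement'_of_disjoint_and_mul_eq_univ (disjoint_iff.mpr hKW₁)
      (by rw [← Subgroup.normal_mul, hKW₁', Subgroup.coe_top])
  rw [hindex'] at hHall
  have hcopy : ∀ y ∈ W₁, (Nat.card K).Coprime (orderOf y) := fun y hy =>
    hHall.symm.coprime_dvd_right (Subgroup.orderOf_dvd_natCard W₁ hy)
  have hfix : ∀ y ∈ W₁, y ≠ 1 →
      Nat.card {θ : Cfsg.IrrCharacter K // Cfsg.Lib.Chars.conjN K y (θ : K → ℂ) = θ} = Nat.card W₂ :=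
    fun y hy hy1 => Cfsg.Lib.Chars.card_fixed_irr K W₂ (hcopy y hy) hW₂K (hC y hy hy1) hab
  obtain ⟨g, hg⟩ := hW₁c.exists_generator
  have hg1 : (g : L) ≠ 1 := fun h => hW₁ (eq_bot_iff.mpr fun x hx => by
    obtain ⟨m, hm⟩ := Subgroup.mem_zpowers_iff.mp (hg ⟨x, hx⟩)
    rw [Subgroup.mem_bot, ← show ((g ^ m : W₁) : L) = x from congrArg Subtype.val hm, Subgroup.coe_zpow, h, one_zpow])
  have hgen : ∀ θ : K → ℂ, Cfsg.Lib.Chars.conjN K (g : L) θ = θ →
      ∀ x ∈ W₁, Cfsg.Lib.Chars.conjN K x θ = θ := by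
    intro θ hθ x hx
    have h1 : Subgroup.zpowers (g : L) ≤ Cfsg.Lib.Chars.inertia K θ := Subgroup.zpowers_le.mpr hθ
    obtain ⟨m, hm⟩ := Subgroup.mem_zpowers_iff.mp (hg ⟨x, hx⟩)
    exact h1 ⟨m, by rw [← show ((g ^ m : W₁) : L) = x from congrArg Subtype.val hm]; simp⟩
  have hcard : Nat.card {θ : Cfsg.IrrCharacter K //
      ∀ x ∈ W₁, (fun k : K => (θ : K → ℂ) ⟨x * k * x⁻¹, hK.conj_mem (k : L) k.2 x⟩) = θ} = Nat.card W₂ := by
    rw [← hfix g g.2 hg1]
    exact Nat.card_congr (Equiv.subtypeEquivRight fun θ => ⟨fun h => h g g.2, fun h x hx => hgen θ h x hx⟩)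
  refine ⟨fun θ hθ ⟨x, hx, hne⟩ => ?_, hcard, fun θ hθ hinv => ?_⟩
  · -- only `K` fixes `θ`
    have hfree : ∀ y ∈ W₁, Cfsg.Lib.Chars.conjN K y θ = θ → y = 1 := by
      intro y hy hyθ
      by_contra hy1
      let S := {φ : Cfsg.IrrCharacter K // ∀ z ∈ W₁, Cfsg.Lib.Chars.conjN K z (φ : K → ℂ) = φ}
      let T := {φ : Cfsg.IrrCharacter K // Cfsg.Lib.Chars.conjN K y (φ : K → ℂ) = φ}
      let i : S → T := fun φ => ⟨φ.1, φ.2 y hy⟩
      have hi : Function.Bijective i := by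
        refine (Nat.bijective_iff_injective_and_card i).mpr ⟨fun a b h => Subtype.ext (congrArg Subtype.val h :), ?_⟩
        exact hcard.trans (hfix y hy hy1).symm
      obtain ⟨φ, hφ⟩ := hi.2 ⟨⟨θ, hθ⟩, hyθ⟩
      have h2 := φ.2 x hx
      rw [show (φ.1 : K → ℂ) = θ from congrArg (fun t : T => (t.1 : K → ℂ)) hφ] at h2
      exact hne h2
    refine Cfsg.Lib.Chars.isIrrCharacter_of_norm_one
      (Cfsg.Lib.Chars.IsCharacter.indFun (Cfsg.Lib.Chars.isCharacter_of_irr hθ)) ?_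
    haveI : Fintype K := Fintype.ofFinite K
    have h1 := Cfsg.Lib.Chars.classInner_indFun_eq_card (N := K) hθ hθ
    have h2 : Nat.card {z : L // Cfsg.Lib.Chars.conjN K z θ = θ} = Nat.card K := by
      refine Nat.card_congr (Equiv.subtypeEquivRight fun z => ⟨fun hz => ?_, fun hz =>
        Cfsg.Lib.Chars.conjN_of_mem (Cfsg.Lib.Chars.isClassFunction_irr ⟨θ, hθ⟩) ⟨z, hz⟩⟩)
      have hz' : z ∈ K ⊔ W₁ := hKW₁'.ge (Subgroup.mem_top z)
      obtain ⟨k, hk, w, hw, rfl⟩ := Subgroup.mem_sup_of_normal_left.mp hz'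
      have h3 : Cfsg.Lib.Chars.conjN K w θ = θ := by
        have hkI := Cfsg.Lib.Chars.le_inertia (Cfsg.Lib.Chars.isClassFunction_irr ⟨θ, hθ⟩) hk
        have := mul_mem (inv_mem hkI) (show k * w ∈ Cfsg.Lib.Chars.inertia K θ from hz)
        rw [inv_mul_cancel_left] at this
        exact this
      rw [hfree w hw h3, mul_one]
      exact hk
    rw [h2] at h1
    exact mul_left_cancel₀ (Nat.cast_ne_zero.mpr Nat.card_pos.ne') (h1.trans (mul_one _).symm)
  · haveI : Fintype K := Fintype.ofFinite K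
    have hinv' : ∀ z : L, Cfsg.Lib.Chars.conjN K z θ = θ := by
      intro z
      obtain ⟨k, hk, w, hw, rfl⟩ := Subgroup.mem_sup_of_normal_left.mp (hKW₁'.ge (Subgroup.mem_top z))
      exact mul_mem (Cfsg.Lib.Chars.le_inertia (Cfsg.Lib.Chars.isClassFunction_irr ⟨θ, hθ⟩) hk)
        (show w ∈ Cfsg.Lib.Chars.inertia K θ from hinv w hw)
    have habq : ∀ a b : L, a * b * a⁻¹ * b⁻¹ ∈ K := by
      intro a b
      obtain ⟨k, hk, w, hw, rfl⟩ := Subgroup.mem_sup_of_normal_left.mp (hKW₁'.ge (Subgroup.mem_top a))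
      obtain ⟨k', hk', w', hw', rfl⟩ := Subgroup.mem_sup_of_normal_left.mp (hKW₁'.ge (Subgroup.mem_top b))
      rw [← QuotientGroup.eq_one_iff]
      have e1 : (QuotientGroup.mk k : L ⧸ K) = 1 := (QuotientGroup.eq_one_iff k).mpr hk
      have e2 : (QuotientGroup.mk k' : L ⧸ K) = 1 := (QuotientGroup.eq_one_iff k').mpr hk'
      have e3 : w * w' = w' * w :=
        congrArg Subtype.val (IsCyclic.isMulCommutative.is_comm.comm (⟨w, hw⟩ : W₁) ⟨w', hw'⟩)
      simp only [QuotientGroup.mk_mul, QuotientGroup.mk_inv, e1, e2, one_mul]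
      rw [← QuotientGroup.mk_mul, e3, QuotientGroup.mk_mul]
      group
    obtain ⟨χ, hχ, hχθ⟩ := Cfsg.Lib.Chars.exists_extension_of_coprime_index (N := K) hθ hinv'
      (hindex ▸ hHall.symm)
    obtain ⟨e, C, he, hC', hcardC, hind, hres, hmem⟩ :=
      Cfsg.Lib.Chars.indFun_abelian_quotient (N := K) habq hθ hinv'
    have hχC : χ ∈ C := hmem χ hχ (by
      rw [show (fun n : K => χ n) = θ from funext hχθ, Cfsg.Lib.Chars.classInner_self_irr hθ]
      exact one_ne_zero)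
    have he1 : e = 1 := by
      have h := congrFun (hres χ hχC) 1
      simp only [Pi.smul_apply, smul_eq_mul, hχθ] at h
      have h1 : θ 1 ≠ 0 := Cfsg.Lib.Chars.IsIrrCharacter.apply_one_ne_zero hθ
      have h2 : (e : ℂ) = 1 := mul_right_cancel₀ h1 (h.symm.trans (one_mul _).symm)
      exact_mod_cast h2
    subst he1
    refine ⟨C, ?_, hC', ?_⟩
    · rw [← hindex, ← hcardC, one_pow, one_mul]
    · rw [hind, Nat.cast_one, one_smul]

end Cfsg.Agent.S1513
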