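import Cfsg.Statements.S1525
import Cfsg.Agent.OddChar.Dade

set_option autoImplicit false
open Cfsg

namespace Cfsg.Agent.S1525

/-- Under the Dade hypothesis for (A, L, H), let χ be a class function of G and let ψ be a function on L whose value at each a ∈ A is the average of χ over the coset a·H(a). Then (1/|G|) Σ |χ g|² over the elements g of G conjugate into some coset a·H(a) with a ∈ A is at least (1/|L|) Σ_{a ∈ A ∩ L} |ψ a|². -/
theorem result {G : Type*} [Group G] [Fintype G] (A : Set G) (L : Subgroup G) [Fintype L] (H : G → Subgroup G) (hD : Cfsg.DadeHypothesis A L H) (χ : G → ℂ) (hχ : Cfsg.IsClassFunction G χ) (ψ : L → ℂ) (hψ : ∀ a : L, (a : G) ∈ A → ψ a = (Nat.card (H a) : ℂ)⁻¹ * ∑ᶠ u ∈ (H a : Set G), χ (a * u)) : (Nat.card L : ℝ)⁻¹ * ∑ᶠ a ∈ {a : L | (a : G) ∈ A}, ‖ψ a‖ ^ 2 ≤ (Nat.card G : ℝ)⁻¹ * ∑ᶠ g ∈ {g : G | ∃ a ∈ A, ∃ u ∈ H a, ∃ x : G, x * g * x⁻¹ = a * u}, ‖χ g‖ ^ 2 := by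
  classical
  set φ : L → ℂ := fun a => if (a : G) ∈ A then ψ a else 0 with hφdef
  have hmap : ∀ (x a : L), (a : G) ∈ A →
      ((x * a * x⁻¹ : L) : G) ∈ A ∧
      (H a).map (MulAut.conj (x : G)).toMonoidHom = H ((x * a * x⁻¹ : L) : G) := by
    intro x a ha
    have hb : ((x * a * x⁻¹ : L) : G) ∈ A := by simpa using hD.conj_mem x x.2 a ha
    refine ⟨hb, ?_⟩
    ext u
    rw [Subgroup.mem_map]
    constructor
    · rintro ⟨v, hv, rfl⟩
      exact Cfsg.Lib.Dade.conj_mem_H' hD ha hb (y := (x : G)) (by simp) hv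
    · intro hu
      refine ⟨(x : G)⁻¹ * u * x, ?_, by simp [mul_assoc]⟩
      have := Cfsg.Lib.Dade.conj_mem_H' hD hb ha (y := (x : G)⁻¹) (by simp [mul_assoc]) hu
      simpa using this
  have hφc : Cfsg.IsClassFunction L φ := by
    intro a x
    by_cases ha : (a : G) ∈ A
    · obtain ⟨hb, hH⟩ := hmap x a ha
      simp only [hφdef]
      rw [if_pos ha, if_pos hb, hψ _ hb, hψ a ha, ← hH,
        Subgroup.card_map_of_injective (MulAut.conj (x : G)).injective]
      congr 1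
      rw [Subgroup.coe_map, MulEquiv.coe_toMonoidHom, finsum_mem_image (MulAut.conj (x : G)).injective.injOn]
      refine finsum_mem_congr rfl fun u _ => ?_
      rw [← hχ ((a : G) * u) (x : G)]
      simp [mul_assoc]
    · have hb : ((x * a * x⁻¹ : L) : G) ∉ A := fun hb => ha (by
        obtain ⟨h, -⟩ := hmap x⁻¹ (x * a * x⁻¹) hb
        simpa [mul_assoc] using h)
      simp only [hφdef]
      rw [if_neg ha, if_neg hb]
  have hφA : ∀ a : L, (a : G) ∉ A → φ a = 0 := fun a ha => if_neg ha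
  set τ := Cfsg.dadeIsometry A L H φ with hτ
  set supp : Set G := {g : G | ∃ a ∈ A, ∃ u ∈ H a, ∃ x : G, x * g * x⁻¹ = a * u} with hsupp
  set χs : G → ℂ := fun g => if g ∈ supp then χ g else 0 with hχs
  set q : ℝ := (Nat.card L : ℝ)⁻¹ * ∑ᶠ a ∈ {a : L | (a : G) ∈ A}, ‖ψ a‖ ^ 2 with hq
  have hq' : Cfsg.classInner φ φ = (q : ℂ) ∧ Cfsg.classInner φ ψ = (q : ℂ) := by
    have hs : (∑ᶠ a ∈ {a : L | (a : G) ∈ A}, ‖ψ a‖ ^ 2) =
        ∑ a : L, if (a : G) ∈ A then ‖ψ a‖ ^ 2 else 0 := by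
      rw [finsum_mem_eq_finite_toFinset_sum _ (Set.toFinite _), ← Finset.sum_filter]
      exact Finset.sum_congr (by ext; simp) fun _ _ => rfl
    rw [hq, hs]
    constructor <;>
    · rw [Cfsg.Lib.Chars.classInner_def]
      push_cast
      congr 1
      refine Finset.sum_congr rfl fun a _ => ?_
      simp only [hφdef]
      split_ifs <;> simp [Complex.mul_conj, Complex.normSq_eq_norm_sq]
  have h1 : Cfsg.classInner τ χs = (q : ℂ) := by
    rw [← hq'.2, ← Cfsg.Lib.Dade.classInner_dade hD hφc hφA hχ hψ, Cfsg.Lib.Chars.classInner_def,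
      Cfsg.Lib.Chars.classInner_def, hτ]
    congr 1
    refine Finset.sum_congr rfl fun g _ => ?_
    by_cases hg : g ∈ supp
    · simp only [hχs]; rw [if_pos hg]
    · rw [Cfsg.Lib.Dade.dade_eq_zero φ (g := g) (fun a ha x u hu he =>
        hg ⟨a, ha, u, hu, x, he⟩)]
      simp
  have h2 : Cfsg.classInner τ τ = (q : ℂ) := by
    rw [hτ, Cfsg.Lib.Dade.classInner_dade_dade hD hφc hφA hφc, hq'.1]
  have h3 : Cfsg.classInner χs χs =
      (((Nat.card G : ℝ)⁻¹ * ∑ᶠ g ∈ supp, ‖χ g‖ ^ 2 : ℝ) : ℂ) := by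
    rw [Cfsg.Lib.Chars.classInner_self, finsum_mem_eq_finite_toFinset_sum _ (Set.toFinite _)]
    congr 2
    rw [show (Set.toFinite supp).toFinset = Finset.univ.filter (· ∈ supp) by ext; simp [hsupp],
      Finset.sum_filter]
    refine Finset.sum_congr rfl fun g _ => ?_
    simp only [hχs]
    split_ifs <;> simp
  have h0 := Cfsg.Lib.Chars.classInner_self (τ - χs)
  rw [Cfsg.Lib.Chars.classInner_sub_left, Cfsg.Lib.Chars.classInner_sub_right,
    Cfsg.Lib.Chars.classInner_sub_right, h1, h2, h3,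
    ← Cfsg.Lib.Chars.classInner_conj_symm τ χs, h1, Complex.conj_ofReal] at h0
  have h4 := congrArg Complex.re h0
  have h5 : 0 ≤ (Nat.card G : ℝ)⁻¹ * ∑ g : G, ‖(τ - χs) g‖ ^ 2 := by positivity
  simp only [Complex.sub_re, Complex.ofReal_re] at h4
  linarith

end Cfsg.Agent.S1525
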