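import Cfsg.Statements.S1487
import Cfsg.Agent.Chars.Core

set_option autoImplicit false
open Cfsg

namespace Cfsg.Agent.S1487

/-- Let A ≤ H be normal subgroups of the finite group G and θ an irreducible character of H. Then θ takes the value θ 1 on all of A if and only if the function induced from θ to G takes its value at 1 on all of A. -/
theorem result {G : Type*} [Group G] [Fintype G] (A H : Subgroup G) [A.Normal] [H.Normal] (hAH : A ≤ H) (θ : H → ℂ) (hθ : Cfsg.IsIrrCharacter H θ) : (∀ a : H, (a : G) ∈ A → θ a = θ 1) ↔ (∀ a : G, a ∈ A → Cfsg.indFun H θ a = Cfsg.indFun H θ 1) := by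
  classical
  have hθc := Cfsg.Lib.Chars.isCharacter_of_irr hθ
  have hH1 : Cfsg.indFun H θ 1 = (Nat.card H : ℂ)⁻¹ * ((Nat.card G : ℂ) * θ 1) := by
    rw [show (1 : G) = ((1 : H) : G) from rfl, Cfsg.Lib.Chars.indFun_normal_mem]
    congr 1
    rw [Finset.sum_congr rfl (g := fun _ => θ 1) (fun g _ => congrArg θ (Subtype.ext (by simp))),
      Finset.sum_const, Finset.card_univ, nsmul_eq_mul, Nat.card_eq_fintype_card]
  constructor
  · intro h a ha
    rw [hH1, show a = ((⟨a, hAH ha⟩ : H) : G) from rfl, Cfsg.Lib.Chars.indFun_normal_mem]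
    congr 1
    rw [Finset.sum_congr rfl (g := fun _ => θ 1) (fun g _ => h _ (Subgroup.Normal.conj_mem inferInstance a ha g)),
      Finset.sum_const, Finset.card_univ, nsmul_eq_mul, Nat.card_eq_fintype_card]
  · intro h a ha
    have h1 := h a ha
    rw [hH1, Cfsg.Lib.Chars.indFun_normal_mem] at h1
    have h2 := mul_left_cancel₀ (inv_ne_zero (by exact_mod_cast Nat.card_pos.ne')) h1
    have h3 := congrArg Complex.re h2
    obtain ⟨d, -, hd⟩ := Cfsg.Lib.Chars.IsIrrCharacter.apply_one hθ
    rw [Complex.re_sum, hd, Complex.mul_re, Complex.natCast_im, zero_mul, sub_zero, Complex.natCast_re, Complex.natCast_re] at h3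
    have hle : ∀ x : H, (θ x).re ≤ (d : ℝ) := fun x => by
      refine (Complex.re_le_norm _).trans ((Cfsg.Lib.Chars.IsCharacter.norm_le hθc x).trans (le_of_eq ?_))
      rw [hd]; simp
    have h4 : ∑ g : G, ((d : ℝ) - (θ ⟨g * a * g⁻¹, Subgroup.Normal.conj_mem inferInstance (a : G) a.2 g⟩).re) = 0 := by
      rw [Finset.sum_sub_distrib, h3, Finset.sum_const, Finset.card_univ, nsmul_eq_mul, Nat.card_eq_fintype_card, sub_self]
    have h5 := (Finset.sum_eq_zero_iff_of_nonneg (fun g _ => sub_nonneg.mpr (hle _))).mp h4 1 (Finset.mem_univ _)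
    have e : (⟨(1 : G) * a * (1 : G)⁻¹, Subgroup.Normal.conj_mem inferInstance (a : G) a.2 1⟩ : H) = a :=
      Subtype.ext (by simp)
    rw [e, sub_eq_zero] at h5
    have hn : ‖θ a‖ ≤ (d : ℝ) := (Cfsg.Lib.Chars.IsCharacter.norm_le hθc a).trans (le_of_eq (by rw [hd]; simp))
    have him : (θ a).im = 0 := by
      have h6 := Complex.sq_norm (θ a)
      rw [Complex.normSq_apply, ← h5] at h6
      nlinarith [norm_nonneg (θ a), mul_self_nonneg (θ a).im]
    rw [hd]
    exact Complex.ext (by rw [← h5]; simp) (by rw [him]; simp)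

end Cfsg.Agent.S1487
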