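import Cfsg.Statements.S1519
import Cfsg.Agent.OddChar.InducedFamily

set_option autoImplicit false
set_option linter.style.haveILetI false
open Cfsg

namespace Cfsg.Agent.S1519

/-- Let K be a solvable normal subgroup of the finite group L and (S, τ, R) a coherence system from L to G where S is the set of functions induced from non-principal irreducible characters of K; write S(A) for those induced from characters whose kernel contains A. Let A, B, C, D be normal subgroups of L with A < K, B < K, B ≤ D ≤ C ≤ K and every commutator of D with C in B. If S(A) is coherent and 4 * [L:C]^2 * [C:D] < ([K:A] − 1)^2, then S(B) is coherent. -/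
theorem result {L : Type*} [Group L] [Fintype L] {G : Type*} [Group G] [Fintype G] (K : Subgroup L) [hK : K.Normal] (hsolv : Group.IsSolvable K) (τ : (L → ℂ) → (G → ℂ)) (R : (L → ℂ) → Finset (G → ℂ)) (hS : Cfsg.IsCoherenceSystem (Cfsg.inducedIrrAbove K ⊥) τ R) (A B C D : Subgroup L) [A.Normal] [B.Normal] [C.Normal] [D.Normal] (hAK : A < K) (hBK : B < K) (hBD : B ≤ D) (hDC : D ≤ C) (hCK : C ≤ K) (hcent : ∀ x ∈ D, ∀ y ∈ C, x * y * x⁻¹ * y⁻¹ ∈ B) (hA : Cfsg.IsCoherent (Cfsg.inducedIrrAbove K A) {1}ᶜ τ) (hlt : 4 * C.index ^ 2 * D.relIndex C < (A.relIndex K - 1) ^ 2) : Cfsg.IsCoherent (Cfsg.inducedIrrAbove K B) {1}ᶜ τ := by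
  classical
  have hfa := Cfsg.Lib.InducedFamily.finite_above (K := K) A
  have hfb := Cfsg.Lib.InducedFamily.finite_above (K := K) B
  obtain ⟨χ₁, hχ₁, hd₁⟩ := Cfsg.Lib.InducedFamily.exists_minimal hsolv A hAK
  set T₀ := hfa.toFinset
  set T := hfa.toFinset ∪ hfb.toFinset
  have hsub : (↑T : Set (L → ℂ)) ⊆ Cfsg.inducedIrrAbove K ⊥ := by
    intro φ hφ
    rcases Finset.mem_union.mp hφ with h | h
    · exact Cfsg.Lib.InducedFamily.above_subset A (hfa.mem_toFinset.mp h)
    · exact Cfsg.Lib.InducedFamily.above_subset B (hfb.mem_toFinset.mp h)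
  have hcoh := Cfsg.Lib.InducedFamily.coherent_extend hS (T₀ := T₀) (T := T) Finset.subset_union_left hsub
    (fun φ hφ => hfa.mem_toFinset.mpr (Cfsg.Lib.InducedFamily.conj_mem_above A (hfa.mem_toFinset.mp hφ)))
    (fun φ hφ => by
      rcases Finset.mem_union.mp hφ with h | h
      · exact Finset.mem_union_left _
          (hfa.mem_toFinset.mpr (Cfsg.Lib.InducedFamily.conj_mem_above A (hfa.mem_toFinset.mp h)))
      · exact Finset.mem_union_right _
          (hfb.mem_toFinset.mpr (Cfsg.Lib.InducedFamily.conj_mem_above B (hfb.mem_toFinset.mp h))))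
    (by rwa [hfa.coe_toFinset]) (χ₁ := χ₁) (hfa.mem_toFinset.mpr hχ₁) (by
      intro χ hχ hχ0
      obtain ⟨θ, hθ, -, hker, rfl⟩ :=
        hfb.mem_toFinset.mp ((Finset.mem_union.mp hχ).resolve_left hχ0)
      rw [Cfsg.Lib.InducedFamily.deg_indFun (Cfsg.Lib.Chars.isCharacter_of_irr hθ), hd₁]
      refine ⟨dvd_mul_right _ _, ?_⟩
      rw [Cfsg.Lib.InducedFamily.sum_ratio]
      letI : Fintype K := Fintype.ofFinite _
      haveI : (C.subgroupOf K).Normal := inferInstance
      have hb := Cfsg.Lib.InducedFamily.deg_sq_le_of_section hθ (C.subgroupOf K) (D.subgroupOf K)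
        (Subgroup.comap_mono hDC) (fun x hx y hy => hker _ (by
          simpa using hcent (x : L) (Subgroup.mem_subgroupOf.mp hx) (y : L) (Subgroup.mem_subgroupOf.mp hy)))
      have hrel : (D.subgroupOf K).relIndex (C.subgroupOf K) = D.relIndex C := by
        rw [Subgroup.subgroupOf, Subgroup.subgroupOf, Subgroup.relIndex_comap, Subgroup.map_comap_eq, Subgroup.range_subtype,
          inf_eq_right.mpr hCK]
      rw [hrel] at hb
      have hC : C.index = (C.subgroupOf K).index * K.index := (Subgroup.relIndex_mul_index hCK).symm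
      set a := A.relIndex K
      set e := K.index
      have hsq : (2 * (e * Cfsg.Lib.Chars.deg θ)) ^ 2 < (a - 1) ^ 2 := by
        refine lt_of_le_of_lt ?_ hlt
        calc (2 * (e * Cfsg.Lib.Chars.deg θ)) ^ 2 = 4 * e ^ 2 * Cfsg.Lib.Chars.deg θ ^ 2 := by ring
          _ ≤ 4 * e ^ 2 * ((C.subgroupOf K).index ^ 2 * D.relIndex C) := Nat.mul_le_mul_left _ hb
          _ = _ := by rw [hC]; ring
      have h2 := lt_of_pow_lt_pow_left₀ 2 (Nat.zero_le _) hsq
      have ha : (((a - 1 : ℕ)) : ℝ) = (a : ℝ) - 1 := by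
        rw [Nat.cast_sub (by omega), Nat.cast_one]
      have he : (0 : ℝ) < e := by exact_mod_cast Nat.pos_of_ne_zero K.index_ne_zero_of_finite
      rw [← ha]
      have h3 : ((2 * (e * Cfsg.Lib.Chars.deg θ) : ℕ) : ℝ) < ((a - 1 : ℕ) : ℝ) := by exact_mod_cast h2
      push_cast at h3 ⊢
      nlinarith)
  obtain ⟨-, τ₁, hτ₁, hag⟩ := hcoh
  have hBT : Cfsg.inducedIrrAbove K B ⊆ ↑T := fun φ hφ => Finset.mem_union_right _ (hfb.mem_toFinset.mpr hφ)
  obtain ⟨χ₂, hχ₂, -⟩ := Cfsg.Lib.InducedFamily.exists_minimal hsolv B hBK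
  refine ⟨⟨χ₂ - Cfsg.conjFun χ₂, Cfsg.Lib.Coherence.mem_one.mpr
      ⟨(Submodule.span ℤ _).sub_mem (Cfsg.Lib.Coherence.subset_zspan hχ₂)
        (Cfsg.Lib.Coherence.subset_zspan (Cfsg.Lib.InducedFamily.conj_mem_above B hχ₂)), by
        simp [Cfsg.Lib.Coherence.conj_apply_one
          (hS.isCharacter _ (Cfsg.Lib.InducedFamily.above_subset B hχ₂))]⟩,
      sub_ne_zero.mpr (hS.conj_ne _ (Cfsg.Lib.InducedFamily.above_subset B hχ₂)).symm⟩, τ₁, ?_, ?_⟩
  · exact ⟨fun α hα β hβ => hτ₁.1 α (Cfsg.Lib.Coherence.zspan_mono hBT hα) β (Cfsg.Lib.Coherence.zspan_mono hBT hβ),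
      fun α hα => hτ₁.2.1 α (Cfsg.Lib.Coherence.zspan_mono hBT hα),
      fun α hα β hβ => hτ₁.2.2.1 α (Cfsg.Lib.Coherence.zspan_mono hBT hα) β
        (Cfsg.Lib.Coherence.zspan_mono hBT hβ),
      fun α hα => hτ₁.2.2.2 α (Cfsg.Lib.Coherence.zspan_mono hBT hα)⟩
  · exact fun α hα => hag α (Cfsg.Lib.Coherence.zspanOn_mono hBT hα)

end Cfsg.Agent.S1519
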