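import Cfsg.Statements.S1524
import Cfsg.Agent.OddChar.FrobeniusTICoherence

set_option autoImplicit false
set_option linter.style.haveILetI false
open Cfsg

namespace Cfsg.Agent.S1524

/-- Let G be a finite group and H ≤ L subgroups with L of odd order, H ≠ ⊥ nilpotent and normal in L with a nontrivial complement W₁ in L (H ⊓ W₁ = ⊥, H ⊔ W₁ = L) acting on H without non-identity fixed points (L is a Frobenius group with kernel H), and suppose the underlying set of H is a TI-subset of G whose normaliser is L. Let S be the set of functions on L induced from the non-principal irreducible characters of H. Then (S, L minus 1, induction to G) is coherent. -/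
theorem result {G : Type*} [Group G] [Fintype G] (H L W₁ : Subgroup G) [Fintype L] (hodd : Odd (Nat.card L)) (hHL : H ≤ L) (hW₁L : W₁ ≤ L) (hH1 : H ≠ ⊥) (hW1 : W₁ ≠ ⊥) (hnil : Group.IsNilpotent H) (hHn : ∀ x ∈ L, ∀ h ∈ H, x * h * x⁻¹ ∈ H) (hinf : H ⊓ W₁ = ⊥) (hsup : H ⊔ W₁ = L) (hfpf : ∀ w ∈ W₁, w ≠ 1 → ∀ h ∈ H, w * h = h * w → h = 1) (hTI : Cfsg.IsTISubset (H : Set G)) (hN : Subgroup.normalizer (H : Set G) = L) : Cfsg.IsCoherent (Cfsg.inducedIrrAbove (H.subgroupOf L) ⊥) {1}ᶜ (fun α : L → ℂ => Cfsg.indFun L α) := by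
  classical
  subst hN
  have hTI' : ∀ g : G, g ∉ Subgroup.normalizer (H : Set G) → ∀ k ∈ H, g * k * g⁻¹ ∈ H → k = 1 := hTI
  -- the centralisers of the non-identity elements lie in `H`
  have hC : ∀ k ∈ H, k ≠ 1 → Subgroup.centralizer ({k} : Set G) ≤ H := by
    intro k hk hk1 g hg
    have hgk : g * k = k * g := Subgroup.mem_centralizer_singleton_iff.mp hg
    have hgL : g ∈ Subgroup.normalizer (H : Set G) := by
      by_contra h
      exact hk1 (hTI' g h k hk (by rwa [hgk, mul_inv_cancel_right]))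
    have hW : W₁ ≤ Subgroup.normalizer (H : Set G) := hW₁L
    rw [← hsup, ← SetLike.mem_coe, Subgroup.coe_mul_of_right_le_normalizer_left H W₁ hW] at hgL
    obtain ⟨a, ha, w, hw, rfl⟩ := hgL
    by_cases hw1 : w = 1
    · simpa [hw1] using ha
    exfalso
    have hmem : ∀ y : H, (y : G)⁻¹ * (w * y * w⁻¹) ∈ H := fun y =>
      H.mul_mem (H.inv_mem y.2) (hHn w (hW hw) y y.2)
    obtain ⟨⟨y, hy⟩, hye⟩ := (Finite.injective_iff_surjective
      (f := fun y : H => (⟨_, hmem y⟩ : H))).mp (fun y z hyz => by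
        have h := congrArg Subtype.val hyz
        simp only at h
        have hc : w * ((y : G) * (z : G)⁻¹) = ((y : G) * (z : G)⁻¹) * w := by
          calc w * ((y : G) * (z : G)⁻¹) = y * ((y : G)⁻¹ * (w * y * w⁻¹)) * (w * (z : G)⁻¹) := by group
            _ = y * ((z : G)⁻¹ * (w * z * w⁻¹)) * (w * (z : G)⁻¹) := by rw [h]
            _ = ((y : G) * (z : G)⁻¹) * w := by group
        exact Subtype.ext (mul_inv_eq_one.mp (hfpf w hw hw1 _ (H.mul_mem y.2 (H.inv_mem z.2)) hc)))
      ⟨a, ha⟩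
    have hye' : y⁻¹ * (w * y * w⁻¹) = a := congrArg Subtype.val hye
    have hgw : a * w = y⁻¹ * w * y := by rw [← hye']; group
    simp only at hgk
    rw [hgw] at hgk
    refine hk1 ?_
    have := hfpf w hw hw1 (y * k * y⁻¹) (H.mul_mem (H.mul_mem hy hk) (H.inv_mem hy)) (by
      calc w * (y * k * y⁻¹) = y * (y⁻¹ * w * y * k) * y⁻¹ := by group
        _ = y * (k * (y⁻¹ * w * y)) * y⁻¹ := by rw [hgk]
        _ = y * k * y⁻¹ * w := by group)
    exact conj_eq_one_iff.mp this
  haveI : (H.subgroupOf (Subgroup.normalizer (H : Set G))).Normal := Subgroup.normal_in_normalizer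
  have hlt : H < Subgroup.normalizer (H : Set G) := by
    refine lt_of_le_of_ne hHL fun he => hW1 ?_
    have hWH : W₁ ≤ H := he ▸ hW₁L
    exact le_bot_iff.mp (hinf ▸ le_inf hWH le_rfl)
  have hL2 : ¬ 2 ∣ Nat.card ↥(Subgroup.normalizer (H : Set G)) := hodd.not_two_dvd_nat
  rcases Cfsg.Lib.FrobCoherence.trichotomy H hH1 hTI hlt hC with h | ⟨h, -⟩ | h
  · exfalso
    have h1 : Odd (Nat.card H) := hodd.of_dvd_nat (Subgroup.card_dvd_of_le hHL)
    have h2 : Odd (H.subgroupOf (Subgroup.normalizer (H : Set G))).index :=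
      hodd.of_dvd_nat (Subgroup.index_dvd_card _)
    rw [h, Nat.odd_add_one] at h1
    exact h1 h2
  · exfalso
    haveI : Nontrivial H := (Subgroup.nontrivial_iff_ne_bot H).mpr hH1
    have h1 : 1 < Nat.card H := Finite.one_lt_card
    have h0 : (Nat.card G).factorization 2 ≠ 0 := fun h0 => by rw [h, h0, pow_zero] at h1; omega
    exact hL2 ((h ▸ dvd_pow_self 2 h0).trans (Subgroup.card_dvd_of_le hHL))
  · exact h

end Cfsg.Agent.S1524
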