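import Cfsg.Statements.S1494
import Cfsg.Agent.Chars.Galois

set_option autoImplicit false
open Cfsg

namespace Cfsg.Agent.S1494

/-- Let χ be a generalized character of the finite group G, p a prime, x an element of order p and y an element commuting with x. Then χ(x * y) − χ(y) = (1 − ε) * ω for some algebraic integer ω, where ε = exp(2πi/p). -/
theorem result {G : Type*} [Group G] [Finite G] (χ : G → ℂ) (hχ : Cfsg.IsGeneralizedCharacter G χ) (p : ℕ) (hp : p.Prime) (x y : G) (hx : orderOf x = p) (hxy : x * y = y * x) : ∃ ω : ℂ, IsIntegral ℤ ω ∧ χ (x * y) - χ y = (1 - Complex.exp (2 * Real.pi * Complex.I / p)) * ω := by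
  classical
  obtain ⟨a, b, ha, hb, rfl⟩ := hχ
  set ζ := Complex.exp (2 * Real.pi * Complex.I / p)
  have hp0 : NeZero p := ⟨hp.pos.ne'⟩
  have hζ : IsPrimitiveRoot ζ p := Complex.isPrimitiveRoot_exp p hp0.out
  suffices key : ∀ φ : G → ℂ, Cfsg.IsCharacter G φ →
      ∃ ω : ℂ, IsIntegral ℤ ω ∧ φ (x * y) - φ y = (1 - ζ) * ω by
    obtain ⟨w1, hw1, h1⟩ := key a ha
    obtain ⟨w2, hw2, h2⟩ := key b hb
    exact ⟨w1 - w2, hw1.sub hw2, by simp only [Pi.sub_apply]; linear_combination h1 - h2⟩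
  intro φ hφ
  let A : Subgroup G := Subgroup.closure {x, y}
  have hx' : x ∈ A := Subgroup.subset_closure (by simp)
  have hy' : y ∈ A := Subgroup.subset_closure (by simp)
  have : Std.Commutative (α := A) (· * ·) := by
    refine ⟨fun u v => ?_⟩
    have hc : ∀ g ∈ A, ∀ k ∈ A, g * k = k * g := by
      have hle : A ≤ Subgroup.centralizer (A : Set G) := by
        rw [Subgroup.le_centralizer_iff]
        refine (Subgroup.closure_le _).mpr fun g hg => ?_
        rw [SetLike.mem_coe, Subgroup.mem_centralizer_iff]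
        intro k hk
        have hxyc : A ≤ Subgroup.centralizer ({g} : Set G) := by
          refine (Subgroup.closure_le _).mpr fun t ht => ?_
          rw [SetLike.mem_coe, Subgroup.mem_centralizer_singleton_iff]
          simp only [Set.mem_insert_iff, Set.mem_singleton_iff] at hg ht
          rcases hg with rfl | rfl <;> rcases ht with rfl | rfl <;> first | rfl | exact hxy | exact hxy.symm
        exact Subgroup.mem_centralizer_singleton_iff.mp (hxyc hk)
      exact fun g hg k hk => (Subgroup.mem_centralizer_iff.mp (hle hk) g hg)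
    exact Subtype.ext (hc u u.2 v v.2)
  obtain ⟨m, hm⟩ := Cfsg.Lib.Chars.IsCharacter.exists_decomp
    (Cfsg.Lib.Chars.IsCharacter.restrict hφ A)
  have hstep : ∀ ψ : Cfsg.IrrCharacter A, ∃ ω : ℂ, IsIntegral ℤ ω ∧
      (ψ : A → ℂ) (⟨x, hx'⟩ * ⟨y, hy'⟩) - (ψ : A → ℂ) ⟨y, hy'⟩ = (1 - ζ) * ω := by
    intro ψ
    obtain ⟨f, hf⟩ := Cfsg.Lib.Chars.exists_hom_of_deg_one (Cfsg.Lib.Chars.isCharacter_of_irr ψ.2)
      (Cfsg.Lib.Chars.irr_deg_one_of_comm (fun u v => Std.Commutative.comm u v) ψ.2)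
    rw [hf]
    have hxp : (f ⟨x, hx'⟩ : ℂ) ^ p = 1 := by
      rw [← Units.val_pow_eq_pow_val, ← map_pow, show (⟨x, hx'⟩ : A) ^ p = 1 from
        Subtype.ext (hx ▸ pow_orderOf_eq_one x), map_one, Units.val_one]
    obtain ⟨j, -, hj⟩ := hζ.eq_pow_of_pow_eq_one hxp
    refine ⟨-(∑ i ∈ Finset.range j, ζ ^ i) * (f ⟨y, hy'⟩ : ℂ), ?_, ?_⟩
    · refine ((IsIntegral.sum _ fun i _ => (hζ.isIntegral hp.pos).pow i).neg).mul ?_
      exact Cfsg.Lib.Chars.isIntegral_of_pow_eq_one (m := Nat.card A) Nat.card_pos (by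
        rw [← Units.val_pow_eq_pow_val, ← map_pow, pow_card_eq_one', map_one, Units.val_one])
    · show (f (⟨x, hx'⟩ * ⟨y, hy'⟩) : ℂ) - (f ⟨y, hy'⟩ : ℂ) = _
      rw [map_mul, Units.val_mul, ← hj]
      linear_combination (f ⟨y, hy'⟩ : ℂ) * mul_neg_geom_sum ζ j
  choose w hw hweq using hstep
  refine ⟨∑ ψ, (m ψ : ℂ) * w ψ, IsIntegral.sum _ fun ψ _ => (isIntegral_algebraMap (R := ℤ) (x := (m ψ : ℤ))).mul (hw ψ), ?_⟩
  have e1 : φ (x * y) = (fun t : A => φ t) (⟨x, hx'⟩ * ⟨y, hy'⟩) := rfl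
  have e2 : φ y = (fun t : A => φ t) ⟨y, hy'⟩ := rfl
  rw [e1, e2, hm, Finset.sum_apply, Finset.sum_apply, ← Finset.sum_sub_distrib, Finset.mul_sum]
  refine Finset.sum_congr rfl fun ψ _ => ?_
  simp only [Pi.smul_apply, nsmul_eq_mul]
  rw [← mul_sub, hweq]
  ring

end Cfsg.Agent.S1494
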