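import Cfsg.Statements.S1495
import Cfsg.Agent.Chars.Galois

set_option autoImplicit false
open Cfsg

namespace Cfsg.Agent.S1495

/-- Let p be a prime, ε = exp(2πi/p), and n an integer such that n = (1 − ε) * ω for some algebraic integer ω. Then p divides n. -/
theorem result (p : ℕ) (hp : p.Prime) (n : ℤ) (ω : ℂ) (hω : IsIntegral ℤ ω) (h : (n : ℂ) = (1 - Complex.exp (2 * Real.pi * Complex.I / p)) * ω) : (p : ℤ) ∣ n := by
  classical
  have hp0 : NeZero p := ⟨hp.pos.ne'⟩
  have : Fact p.Prime := ⟨hp⟩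
  set ζ := Complex.exp (2 * Real.pi * Complex.I / p) with hζdef
  have hζ : IsPrimitiveRoot ζ p := Complex.isPrimitiveRoot_exp p hp0.out
  have hint : ∀ z : ℂ, z ∈ primitiveRoots p ℂ → ∃ w : ℂ, IsIntegral ℤ w ∧ (n : ℂ) = (1 - z) * w := by
    intro z hz
    have hz' := (mem_primitiveRoots hp.pos).mp hz
    obtain ⟨i, -, hcop, hi⟩ := (hζ.isPrimitiveRoot_iff).mp hz'
    obtain ⟨σ, hσ⟩ := Cfsg.Lib.Chars.exists_galConj_auto (m := p) hcop
    refine ⟨σ ω, hω.map (σ.toRingHom.toIntAlgHom), ?_⟩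
    have := congrArg σ h
    rw [map_intCast, map_mul, map_sub, map_one, hσ ζ hζ.pow_eq_one, hi] at this
    exact this
  choose w hwi hw using hint
  have hprod : (n : ℂ) ^ (primitiveRoots p ℂ).card =
      (p : ℂ) * ∏ z ∈ (primitiveRoots p ℂ).attach, w z.1 z.2 := by
    rw [← Finset.card_attach, ← Finset.prod_const, Finset.prod_congr rfl fun z _ => hw z.1 z.2,
      Finset.prod_mul_distrib, Finset.prod_attach (primitiveRoots p ℂ) (fun z => 1 - z)]
    congr 1
    have h2 := congrArg (Polynomial.eval 1) (Polynomial.cyclotomic_eq_prod_X_sub_primitiveRoots hζ)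
    rw [Polynomial.eval_one_cyclotomic_prime, Polynomial.eval_prod] at h2
    simpa using h2.symm
  obtain ⟨z, hz⟩ := Cfsg.Lib.Chars.int_of_isIntegral_rat
    (q := ((n : ℚ) ^ (primitiveRoots p ℂ).card) / p) (by
      push_cast
      rw [hprod, mul_div_assoc, mul_comm, div_mul_cancel_of_imp (fun h0 => absurd h0 (by exact_mod_cast hp0.out))]
      exact IsIntegral.prod _ fun x _ => hwi x.1 x.2)
  rw [div_eq_iff (by exact_mod_cast hp0.out)] at hz
  have h3 : n ^ (primitiveRoots p ℂ).card = z * p := by exact_mod_cast hz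
  exact Int.Prime.dvd_pow' hp ⟨z, h3.trans (mul_comm _ _)⟩

end Cfsg.Agent.S1495
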