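import Cfsg.Statements.S1536
import Cfsg.Agent.Chars.Frob

set_option autoImplicit false
open Cfsg

namespace Cfsg.Agent.S1536

/-- Let H be a normal subgroup of the finite group M whose order is coprime to its index. For x ∈ M: some non-principal irreducible character of H is unchanged under h ↦ θ(x h x⁻¹) if and only if some non-identity element of H commutes with x. -/
theorem result {M : Type*} [Group M] [Finite M] (H : Subgroup M) [hN : H.Normal] (hHall : Nat.Coprime (Nat.card H) H.index) (x : M) : (∃ θ : H → ℂ, Cfsg.IsIrrCharacter H θ ∧ θ ≠ (fun _ => 1) ∧ (fun h : H => θ ⟨x * h * x⁻¹, hN.conj_mem h h.2 x⟩) = θ) ↔ ∃ h ∈ H, h ≠ 1 ∧ x * h = h * x := by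
  classical
  have := Fintype.ofFinite M
  have h1 : Cfsg.IsIrrCharacter H (fun _ => (1 : ℂ)) := by
    simpa using Cfsg.Lib.Chars.isIrrCharacter_linear (1 : H →* ℂˣ)
  have hnorm : ∀ z : M, z ∈ Subgroup.normalizer (H : Set M) := fun z =>
    Subgroup.mem_normalizer_iff.mpr fun n => ⟨fun hn => hN.conj_mem n hn z,
      fun hn => by simpa [mul_assoc] using hN.conj_mem _ hn z⁻¹⟩
  have hcls : 2 ≤ Nat.card {C : ConjClasses H // ConjClasses.map
      (MulEquiv.toMonoidHom (MulAut.conjNormal x : MulAut H)) C = C} ↔ ∃ h ∈ H, h ≠ 1 ∧ x * h = h * x := by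
    have hone : ConjClasses.map (MulEquiv.toMonoidHom (MulAut.conjNormal x : MulAut H))
        (ConjClasses.mk 1) = ConjClasses.mk 1 := congrArg ConjClasses.mk (map_one _)
    constructor
    · intro h2
      have : ∃ C : ConjClasses H, ConjClasses.map
          (MulEquiv.toMonoidHom (MulAut.conjNormal x : MulAut H)) C = C ∧ C ≠ ConjClasses.mk 1 := by
        by_contra hno
        push Not at hno
        have : Nat.card {C : ConjClasses H // ConjClasses.map
            (MulEquiv.toMonoidHom (MulAut.conjNormal x : MulAut H)) C = C} ≤ 1 := by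
          rw [Finite.card_le_one_iff_subsingleton]
          exact ⟨fun ⟨C, hC⟩ ⟨D, hD⟩ => Subtype.ext ((hno C hC).trans (hno D hD).symm)⟩
        omega
      obtain ⟨C, hC, hC1⟩ := this
      obtain ⟨k, rfl⟩ := ConjClasses.exists_rep C
      -- split off the part of `x` in `H`
      obtain ⟨e, he1, he2⟩ := Nat.chineseRemainder hHall.symm 1 0
      by_cases hz : x ^ e = x
      · have hcop : Nat.Coprime (orderOf x) (Nat.card H) := by
          obtain ⟨j, hj⟩ := Nat.modEq_zero_iff_dvd.mp he2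
          refine Nat.Coprime.coprime_dvd_left ?_ hHall.symm
          refine orderOf_dvd_of_pow_eq_one ?_
          rw [← hz, ← pow_mul]
          refine orderOf_dvd_iff_pow_eq_one.mp ((orderOf_dvd_natCard x).trans ?_)
          rw [← H.card_mul_index, hj]
          exact ⟨j, by ring⟩
        obtain ⟨c, hc⟩ := isConj_iff.mp (ConjClasses.mk_eq_mk_iff_isConj.mp hC).symm
        have h0 : (c : M) * k * (c : M)⁻¹ = x * k * x⁻¹ := by
          simpa [MulAut.conjNormal_apply] using congrArg Subtype.val hc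
        obtain ⟨d, hd, hdx⟩ := Cfsg.Lib.Chars.exists_fixed_conj H (hnorm x) hcop k.2 c.2 h0.symm
        refine ⟨_, hN.conj_mem _ k.2 d, fun h => hC1 ?_, hdx⟩
        rw [conj_eq_one_iff] at h
        rw [show k = 1 from Subtype.ext h]
      · refine ⟨x ^ e * x⁻¹, ?_, fun h => hz (mul_inv_eq_one.mp h), ?_⟩
        · rw [← QuotientGroup.eq_one_iff, QuotientGroup.mk_mul, QuotientGroup.mk_inv, QuotientGroup.mk_pow,
            mul_inv_eq_one]
          conv_rhs => rw [← pow_one (QuotientGroup.mk x : M ⧸ H)]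
          rw [pow_eq_pow_iff_modEq]
          exact he1.of_dvd ((orderOf_dvd_natCard (QuotientGroup.mk x : M ⧸ H)).trans
            (Subgroup.index_eq_card H).symm.dvd)
        · exact (((Commute.refl x).pow_right _).mul_right ((Commute.refl x).inv_right)).eq
    · rintro ⟨h, hh, hh1, hx⟩
      have hfix : ConjClasses.map (MulEquiv.toMonoidHom (MulAut.conjNormal x : MulAut H))
          (ConjClasses.mk ⟨h, hh⟩) = ConjClasses.mk ⟨h, hh⟩ :=
        congrArg ConjClasses.mk (Subtype.ext ((MulAut.conjNormal_apply x _).trans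
          (mul_inv_eq_iff_eq_mul.mpr hx)))
      have : Nontrivial {C : ConjClasses H // ConjClasses.map
          (MulEquiv.toMonoidHom (MulAut.conjNormal x : MulAut H)) C = C} :=
        ⟨⟨⟨_, hfix⟩, ⟨_, hone⟩, fun he => by
          have h2 : IsConj (⟨h, hh⟩ : H) 1 := ConjClasses.mk_eq_mk_iff_isConj.mp (congrArg Subtype.val he)
          obtain ⟨c, hc⟩ := isConj_iff.mp h2
          exact hh1 (congrArg Subtype.val (conj_eq_one_iff.mp hc))⟩⟩
      exact Finite.one_lt_card
  rw [← hcls, ← Cfsg.Lib.Chars.card_fixed_irr_conjN]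
  constructor
  · rintro ⟨θ, hθ, hθ1, hfix⟩
    have : Nontrivial {θ : Cfsg.IrrCharacter H // Cfsg.Lib.Chars.conjN H x (θ : H → ℂ) = θ} :=
      ⟨⟨⟨⟨θ, hθ⟩, hfix⟩, ⟨⟨_, h1⟩, funext fun _ => rfl⟩, fun he => hθ1 (congrArg (fun t : {θ : Cfsg.IrrCharacter H // Cfsg.Lib.Chars.conjN H x (θ : H → ℂ) = θ} => (t.1 : H → ℂ)) he)⟩⟩
    exact Finite.one_lt_card
  · intro h2
    by_contra hno
    push Not at hno
    have : Nat.card {θ : Cfsg.IrrCharacter H // Cfsg.Lib.Chars.conjN H x (θ : H → ℂ) = θ} ≤ 1 := by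
      rw [Finite.card_le_one_iff_subsingleton]
      refine ⟨fun ⟨⟨a, ha⟩, hfa⟩ ⟨⟨b, hb⟩, hfb⟩ => Subtype.ext (Subtype.ext ?_)⟩
      have key : ∀ θ : H → ℂ, Cfsg.IsIrrCharacter H θ → Cfsg.Lib.Chars.conjN H x θ = θ → θ = fun _ => 1 :=
        fun θ hθ hf => by
          by_contra hne
          exact hno θ hθ hne hf
      exact (key a ha hfa).trans (key b hb hfb).symm
    omega

end Cfsg.Agent.S1536
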