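import Cfsg.Statements.S1526
import Cfsg.Agent.OddChar.FrobeniusCover
import Cfsg.Agent.Frobenius.Kernel

set_option autoImplicit false
set_option linter.style.haveILetI false
open Cfsg

namespace Cfsg.Agent.S1526

/-- Let G be a finite group of odd order and (L i, H i), i in a finite index type with at least two elements, pairs of subgroups with H i a nontrivial proper normal subgroup of L i such that every non-identity element of H i has its centraliser within L i contained in H i (L i is a Frobenius group with kernel H i), the orders of the H i pairwise coprime, and the underlying set of each H i a TI-subset of G with normaliser L i. If every non-identity element of G is conjugate to an element of some H i, we reach a contradiction. -/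
theorem result {G : Type*} [Group G] [Finite G] (hodd : Odd (Nat.card G)) {ι : Type*} [Fintype ι] (hι : 2 ≤ Fintype.card ι) (L H : ι → Subgroup G) (hHL : ∀ i, H i < L i) (hH1 : ∀ i, H i ≠ ⊥) (hHn : ∀ i, ∀ x ∈ L i, ∀ h ∈ H i, x * h * x⁻¹ ∈ H i) (hfrob : ∀ i, ∀ h ∈ H i, h ≠ 1 → L i ⊓ Subgroup.centralizer ({h} : Set G) ≤ H i) (hcop : ∀ i j, i ≠ j → Nat.Coprime (Nat.card (H i)) (Nat.card (H j))) (hTI : ∀ i, Cfsg.IsTISubset (H i : Set G) ∧ Subgroup.normalizer (H i : Set G) = L i) (hcover : ∀ g : G, g ≠ 1 → ∃ i, ∃ x : G, x * g * x⁻¹ ∈ H i) : False := by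
  classical
  haveI := Fintype.ofFinite G
  have hN : ∀ i, Subgroup.normalizer (H i : Set G) = L i := fun i => (hTI i).2
  have hC : ∀ i, ∀ k ∈ H i, k ≠ 1 → Subgroup.centralizer ({k} : Set G) ≤ H i := by
    intro i k hk hk1 g hg
    have hgN : g ∈ Subgroup.normalizer (H i : Set G) := by
      by_contra hgN
      refine hk1 ((hTI i).1 g hgN k hk ?_)
      have h1 : g * k = k * g := Subgroup.mem_centralizer_singleton_iff.mp hg
      rw [h1, mul_inv_cancel_right]
      exact hk
    exact hfrob i k hk hk1 ⟨(hN i).le hgN, hg⟩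
  have hlt : ∀ i, H i < Subgroup.normalizer (H i : Set G) := fun i => (hN i).symm ▸ hHL i
  have hnil : ∀ i, Group.IsNilpotent (H i) := by
    intro i
    set N := Subgroup.normalizer (H i : Set G)
    let K : Subgroup N := (H i).subgroupOf N
    haveI : K.Normal := Subgroup.normal_in_normalizer
    have hCK : ∀ n ∈ K, n ≠ 1 → Subgroup.centralizer ({n} : Set N) ≤ K := by
      intro n hn hn1 y hy
      refine hC i n hn (fun h => hn1 (Subtype.ext h)) ?_
      rw [Subgroup.mem_centralizer_singleton_iff] at hy ⊢
      exact congrArg Subtype.val hy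
    obtain ⟨E, hE⟩ := Subgroup.exists_right_complement'_of_coprime
      (Cfsg.Lib.Chars.coprime_of_centralizer_le K hCK)
    have hK1 : K ≠ ⊥ := fun h => hH1 i (by
      rw [← Subgroup.map_subgroupOf_eq_of_le (hlt i).le]
      show K.map _ = _
      rw [h, Subgroup.map_bot])
    have hE1 : E ≠ ⊥ := fun h => (hlt i).not_ge (by
      have h1 : K = ⊤ := by
        have := hE.sup_eq_top
        rwa [h, sup_bot_eq] at this
      exact Subgroup.subgroupOf_eq_top.mp h1)
    have hF : Cfsg.IsFrobeniusComplement E :=
      (Cfsg.Lib.Frobenius.isFrobeniusComplement_iff_fpf hE hK1 hE1).mpr fun e he he1 => by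
        rw [eq_bot_iff]
        rintro x ⟨hxK, hxC⟩
        rw [Subgroup.mem_bot]
        by_contra hx1
        have : e ∈ K := hCK x hxK hx1 (Subgroup.mem_centralizer_singleton_iff.mpr
          (Subgroup.mem_centralizer_singleton_iff.mp hxC).symm)
        exact he1 (Subgroup.disjoint_def.mp hE.disjoint this he)
    haveI := Cfsg.Lib.Frobenius.isNilpotent_kernel hF (Cfsg.Lib.Frobenius.normal_eq_kernel hF hE)
    exact Group.nilpotent_of_mulEquiv (Subgroup.subgroupOfEquivOfLe (hlt i).le : K ≃* H i)
  exact Cfsg.Lib.FrobCover.cover_false hodd hι H hH1 hnil (fun i => (hTI i).1) hlt hC hcop hcover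

end Cfsg.Agent.S1526
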