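import Cfsg.Statements.S4444
import Cfsg.Agent.Blocks.GlaubermanApi
-- import your own Cfsg.Agent.* helpers here

set_option autoImplicit false
open Cfsg

namespace Cfsg.Agent.S4444

set_option linter.unusedSectionVars false

open Cfsg.Lib.Blocks Cfsg.Lib.Chars Cfsg.Lib.Glauberman

/-- The Glauberman correspondence for a p-group of operators. Inside a finite group Γ let S normalise G with the orders of G and S coprime, S a p-group, and let C = G ⊓ C(S) be the fixed points. Call an irreducible character χ of G S-invariant when χ(s g s⁻¹) = χ(g) for s ∈ S, g ∈ G. Then: (i) for every S-invariant χ there is exactly one irreducible character β of C whose multiplicity [χ_C, β] in the restriction of χ is not divisible by p; (ii) that multiplicity is ≡ 1 or ≡ −1 (mod p); (iii) distinct S-invariant χ give distinct β; (iv) every irreducible character of C arises in this way. So χ ↦ β is a bijection from the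 S-invariant irreducible characters of G onto the irreducible characters of C. -/
theorem result {Γ : Type*} [Group Γ] [Fintype Γ] (G S : Subgroup Γ) [Fintype G] (hnorm : ∀ s ∈ S, ∀ g ∈ G, s * g * s⁻¹ ∈ G) (hcop : (Nat.card G).Coprime (Nat.card S)) (p : ℕ) (hp : p.Prime) (hS : IsPGroup p S) (C : Subgroup Γ) [Fintype C] (hC : C = G ⊓ Subgroup.centralizer (S : Set Γ)) (hCG : C ≤ G) : (∀ χ : Cfsg.IrrCharacter G, (∀ s ∈ S, ∀ g g' : G, (g' : Γ) = s * g * s⁻¹ → (χ : G → ℂ) g' = (χ : G → ℂ) g) → ∃! β : Cfsg.IrrCharacter C, ∃ m : ℕ, Cfsg.classInner (fun c : C => (χ : G → ℂ) ⟨c, hCG c.2⟩) (β : C → ℂ) = (m : ℂ) ∧ ¬ p ∣ m) ∧ (∀ χ : Cfsg.IrrCharacter G, (∀ s ∈ S, ∀ g g' : G, (g' : Γ) = s * g * s⁻¹ → (χ : G → ℂ) g' = (χ : G → ℂ) g) → ∀ β : Cfsg.IrrCharacter C, ∀ m : ℕ, Cfsg.classInner (fun c : C => (χ : G → ℂ) ⟨c, hCG c.2⟩) (β : C → ℂ) = (m : ℂ) → ¬ p ∣ m → ((m : ℤ) ≡ 1 [ZMOD p] ∨ (m : ℤ) ≡ -1 [ZMOD p])) ∧ (∀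 χ χ' : Cfsg.IrrCharacter G, (∀ s ∈ S, ∀ g g' : G, (g' : Γ) = s * g * s⁻¹ → (χ : G → ℂ) g' = (χ : G → ℂ) g) → (∀ s ∈ S, ∀ g g' : G, (g' : Γ) = s * g * s⁻¹ → (χ' : G → ℂ) g' = (χ' : G → ℂ) g) → ∀ β : Cfsg.IrrCharacter C, ∀ m m' : ℕ, Cfsg.classInner (fun c : C => (χ : G → ℂ) ⟨c, hCG c.2⟩) (β : C → ℂ) = (m : ℂ) → ¬ p ∣ m → Cfsg.classInner (fun c : C => (χ' : G → ℂ) ⟨c, hCG c.2⟩) (β : C → ℂ) = (m' : ℂ) → ¬ p ∣ m' → χ = χ') ∧ (∀ β : Cfsg.IrrCharacter C, ∃ χ : Cfsg.IrrCharacter G, (∀ s ∈ S, ∀ g g' : G, (g' : Γ) = s * g * s⁻¹ → (χ : G → ℂ) g' = (χ : G → ℂ) g) ∧ ∃ m : ℕ, Cfsg.classInner (fun c : C => (χ : G → ℂ) ⟨c, hCG c.2⟩) (β : C → ℂ) = (m : ℂ) ∧ ¬ p ∣ m) := by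
  classical
  haveI := Fact.mk hp
  by_cases hG : p ∣ Nat.card G
  · -- then `S` is trivial and `C = G`
    have hS1 : S = ⊥ := by
      obtain ⟨n, hn⟩ := hS.exists_card_eq
      rcases n with _ | n
      · exact Subgroup.eq_bot_of_card_eq _ (by rw [hn, pow_zero])
      · exfalso
        exact Nat.not_coprime_of_dvd_of_dvd hp.one_lt hG (hn ▸ dvd_pow_self p n.succ_ne_zero) hcop
    have hCG' : C = G := by
      rw [hC, hS1, show Subgroup.centralizer ((⊥ : Subgroup Γ) : Set Γ) = ⊤ from ?_, inf_top_eq]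
      rw [eq_top_iff]
      intro x _
      rw [Subgroup.mem_centralizer_iff]
      intro y hy
      rw [Subgroup.mem_bot.1 hy, one_mul, mul_one]
    subst hCG'
    rename_i f0 f1 f2
    obtain rfl := Subsingleton.elim f1 f2
    letI : DecidableEq (Cfsg.IrrCharacter C) := Classical.decEq _
    have hid : ∀ χ β : Cfsg.IrrCharacter C,
        Cfsg.classInner (fun c : C => (χ : C → ℂ) ⟨(c : Γ), hCG c.2⟩) (β : C → ℂ) =
          ((if χ = β then 1 else 0 : ℕ) : ℂ) := fun χ β => by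
      rw [show (fun c : C => (χ : C → ℂ) ⟨(c : Γ), hCG c.2⟩) = (χ : C → ℂ) from rfl]
      convert classInner_irrCharacter χ β using 2
      split_ifs <;> simp
    have hinv : ∀ χ : Cfsg.IrrCharacter C, ∀ s ∈ S, ∀ g g' : C, (g' : Γ) = s * g * s⁻¹ →
        (χ : C → ℂ) g' = (χ : C → ℂ) g := fun χ s hs g g' he => by
      rw [hS1, Subgroup.mem_bot] at hs
      rw [hs, one_mul, inv_one, mul_one] at he
      rw [Subtype.ext he]
    have key : ∀ χ β : Cfsg.IrrCharacter C, ∀ m : ℕ,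
        Cfsg.classInner (fun c : C => (χ : C → ℂ) ⟨(c : Γ), hCG c.2⟩) (β : C → ℂ) = (m : ℂ) →
          ¬ p ∣ m → χ = β ∧ m = 1 := fun χ β m hm hd => by
      rw [hid, Nat.cast_inj] at hm
      subst hm
      by_cases h : χ = β
      · exact ⟨h, if_pos h⟩
      · rw [if_neg h] at hd; exact absurd (dvd_zero p) hd
    have hone : ∀ χ : Cfsg.IrrCharacter C, ∃ m : ℕ,
        Cfsg.classInner (fun c : C => (χ : C → ℂ) ⟨(c : Γ), hCG c.2⟩) (χ : C → ℂ) = (m : ℂ) ∧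
          ¬ p ∣ m := fun χ => ⟨1, by rw [hid, if_pos rfl], hp.not_dvd_one⟩
    exact ⟨fun χ _ => ⟨χ, hone χ, fun β ⟨m, hm, hd⟩ => (key χ β m hm hd).1.symm⟩,
      fun χ _ β m hm hd => Or.inl (by rw [(key χ β m hm hd).2, Nat.cast_one]),
      fun χ χ' _ _ β m m' hm hd hm' hd' => (key χ β m hm hd).1.trans (key χ' β m' hm' hd').1.symm,
      fun β => ⟨β, hinv β, hone β⟩⟩
  have hfix := isFixed_opHom hnorm hC hCG
  exact ⟨fun χ h => existsUnique_corr hS hG hfix ((inv_opHom_iff hnorm _).2 h),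
    fun χ h β m hm hd => corr_mult hS hG hfix ((inv_opHom_iff hnorm _).2 h) hm hd,
    fun χ χ' h h' β m m' hm hd hm' hd' => corr_injective hS hG hfix
      ((inv_opHom_iff hnorm _).2 h) ((inv_opHom_iff hnorm _).2 h') ⟨m, hm, hd⟩ ⟨m', hm', hd'⟩,
    fun β => by
      obtain ⟨χ, hχ, hc⟩ := corr_surjective hS hG hfix β
      exact ⟨χ, (inv_opHom_iff hnorm _).1 hχ, hc⟩⟩

end Cfsg.Agent.S4444
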