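import Cfsg.Agent.Chars.Constituent
import Cfsg.Agent.Chars.DegreeTools
import Cfsg.Agent.Chars.RealOddDegree
import Cfsg.Agent.Transfer.Tate
import Cfsg.Agent.Fusion.Tate
import Cfsg.Agent.S4444

/-!
# Sum of the squares of the odd character degrees

For `P` a Sylow `2`-subgroup with normalizer `N`, every irreducible character of `N` trivial on
`P'` lies under an irreducible character of odd degree of `G`.  Equality of the sums of squares
forces every odd degree character to restrict irreducibly to `N`; then the normal closure of `P`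
meets `N` in `P` and Burnside and Tate give a normal complement of `N`.
-/

set_option autoImplicit false
set_option linter.unusedSectionVars false

namespace Cfsg.Lib.OddSq

open Cfsg.Lib.Chars Cfsg.Lib.Chars.RealOdd Subgroup
open scoped ComplexConjugate commutatorElement

universe u

variable {G : Type u} [Group G] [Fintype G]

/-- Trivial on the subgroup `K`. -/
def TrivOn (K : Subgroup G) (χ : G → ℂ) : Prop := ∀ k ∈ K, χ k = χ 1

/-- Column orthogonality inside the characters trivial on a normal subgroup. -/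
theorem kernel_sum (K : Subgroup G) [K.Normal] [DecidablePred fun χ : Cfsg.IrrCharacter G => TrivOn K (χ : G → ℂ)]
    (x : G) [Decidable (x ∈ K)] :
    ∑ χ ∈ Finset.univ.filter (fun χ : Cfsg.IrrCharacter G => TrivOn K (χ : G → ℂ)),
      (deg (χ : G → ℂ) : ℂ) * (χ : G → ℂ) x = if x ∈ K then (K.index : ℂ) else 0 := by
  classical
  have := Fintype.ofFinite (G ⧸ K)
  set π := QuotientGroup.mk' K with hπ
  have hπs : Function.Surjective π := QuotientGroup.mk'_surjective K
  let inf : Cfsg.IrrCharacter (G ⧸ K) → Cfsg.IrrCharacter G := fun φ =>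
    ⟨fun g => (φ : G ⧸ K → ℂ) (π g), IsIrrCharacter.comp_surjective φ.2 π hπs⟩
  have h := sum_deg_mul (G := G ⧸ K) (π x)
  rw [show ((if π x = 1 then (Nat.card (G ⧸ K) : ℂ) else 0) : ℂ) =
    if x ∈ K then (K.index : ℂ) else 0 from if_congr (QuotientGroup.eq_one_iff x)
      (by rw [Subgroup.index_eq_card]) rfl] at h
  rw [← h]
  symm
  refine Finset.sum_bij (fun φ _ => inf φ) ?_ ?_ ?_ ?_
  · intro φ _
    refine Finset.mem_filter.2 ⟨Finset.mem_univ _, fun k hk => ?_⟩
    show (φ : G ⧸ K → ℂ) (π k) = (φ : G ⧸ K → ℂ) (π 1)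
    rw [map_one, show π k = 1 from (QuotientGroup.eq_one_iff k).2 hk]
  · intro φ _ φ' _ he
    apply Subtype.ext
    funext q
    obtain ⟨g, rfl⟩ := hπs q
    exact congrFun (congrArg Subtype.val he) g
  · intro χ hχ
    obtain ⟨b, hb, hbe⟩ := exists_factor π hπs (isCharacter_of_irr χ.2) fun k hk =>
      (Finset.mem_filter.1 hχ).2 k (by rwa [hπ, QuotientGroup.ker_mk'] at hk)
    have hbi : Cfsg.IsIrrCharacter (G ⧸ K) b := IsIrrCharacter.descend hb π hπs (hbe ▸ χ.2)
    exact ⟨⟨b, hbi⟩, Finset.mem_univ _, Subtype.ext hbe.symm⟩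
  · intro φ _
    show (φ : G ⧸ K → ℂ) 1 * _ = (deg (inf φ : G → ℂ) : ℂ) * _
    rw [← irr_apply_one_eq_deg]
    show (φ : G ⧸ K → ℂ) 1 * _ = (φ : G ⧸ K → ℂ) (π 1) * _
    rw [map_one]

/-- The characters trivial on a normal subgroup separate it from its outside. -/
theorem mem_of_forall_trivOn (K : Subgroup G) [K.Normal] {x : G}
    (h : ∀ χ : Cfsg.IrrCharacter G, TrivOn K (χ : G → ℂ) → (χ : G → ℂ) x = (χ : G → ℂ) 1) :
    x ∈ K := by
  classical
  by_contra hx
  have h1 := kernel_sum K x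
  have h2 := kernel_sum K (1 : G)
  rw [if_neg hx] at h1
  rw [if_pos K.one_mem] at h2
  rw [Finset.sum_congr rfl fun χ hχ => by rw [h χ (Finset.mem_filter.1 hχ).2]] at h1
  rw [h1] at h2
  exact K.index_ne_zero_of_finite (by exact_mod_cast h2.symm)

/-- Sum of squares of the degrees of the characters trivial on a normal subgroup. -/
theorem kernel_sum_sq (K : Subgroup G) [K.Normal]
    [DecidablePred fun χ : Cfsg.IrrCharacter G => TrivOn K (χ : G → ℂ)] :
    ∑ χ ∈ Finset.univ.filter (fun χ : Cfsg.IrrCharacter G => TrivOn K (χ : G → ℂ)),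
      deg (χ : G → ℂ) ^ 2 = K.index := by
  classical
  apply Nat.cast_injective (R := ℂ)
  have h := kernel_sum K (1 : G)
  rw [if_pos K.one_mem] at h
  rw [← h, Nat.cast_sum]
  refine Finset.sum_congr rfl fun χ _ => ?_
  rw [irr_apply_one_eq_deg]
  push_cast
  ring

/-- With a normal `2`-subgroup of odd index, odd degree means trivial on its commutator group. -/
theorem odd_iff_trivOn (A : Subgroup G) [A.Normal] (hA : IsPGroup 2 A) (hodd : Odd A.index)
    (θ : Cfsg.IrrCharacter G) :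
    Odd (deg (θ : G → ℂ)) ↔ TrivOn ⁅A, A⁆ (θ : G → ℂ) := by
  classical
  have := Fintype.ofFinite A
  have hθc := isCharacter_of_irr θ.2
  constructor
  · intro hd
    obtain ⟨l, hl, hc⟩ := exists_constituent A hθc (IsIrrCharacter.apply_one_ne_zero θ.2)
    obtain ⟨m, hm, -⟩ := deg_over A θ.2 hl hc
    obtain ⟨f, hf⟩ := exists_linear_of_odd hA ⟨l, hl⟩ (Nat.Odd.of_mul_right (hm ▸ hd))
    have hle : ⁅A, A⁆ ≤ kerSubgroup (θ : G → ℂ) hθc := by
      rw [Subgroup.commutator_le]
      intro a ha b hb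
      rw [mem_kerSubgroup]
      have hcl := clifford A θ.2 hl hc
      set c : A := ⁅(⟨a, ha⟩ : A), ⟨b, hb⟩⁆ with hcdef
      have h1 := congrFun hcl c
      have h2 := congrFun hcl 1
      have hsum : (∑ ψ ∈ conjOrbit A l, ψ) c = (∑ ψ ∈ conjOrbit A l, ψ) 1 := by
        simp only [Finset.sum_apply]
        refine Finset.sum_congr rfl fun ψ hψ => ?_
        obtain ⟨g, rfl⟩ := (mem_conjOrbit A).1 hψ
        have hlf : l = fun x => (f x : ℂ) := hf
        rw [conjN_eq_comp, hlf]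
        have hφ : (f.comp (MulAut.conjNormal g : MulAut A).toMonoidHom) c = 1 := by
          rw [hcdef, map_commutatorElement, commutatorElement_eq_one_iff_mul_comm]
          exact mul_comm _ _
        have hφ1 : (f.comp (MulAut.conjNormal g : MulAut A).toMonoidHom) 1 = 1 := map_one _
        exact congrArg Units.val (hφ.trans hφ1.symm)
      simp only [Pi.smul_apply, smul_eq_mul] at h1 h2
      rw [hsum, ← h2] at h1
      exact h1
    exact fun k hk => (mem_kerSubgroup hθc k).1 (hle hk)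
  · intro ht
    set π := QuotientGroup.mk' (commutator A) with hπ
    have hπs : Function.Surjective π := QuotientGroup.mk'_surjective _
    have := Fintype.ofFinite (A ⧸ commutator A)
    have hres : Cfsg.IsCharacter A (fun a : A => (θ : G → ℂ) a) := IsCharacter.restrict hθc A
    obtain ⟨b, hb, hbe⟩ := exists_factor π hπs hres fun k hk => by
      rw [hπ, QuotientGroup.ker_mk'] at hk
      refine ht (k : G) ?_
      rw [← Subgroup.map_subtype_commutator]
      exact Subgroup.mem_map_of_mem _ hk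
    have hb1 : b 1 ≠ 0 := by
      have := congrFun hbe 1
      rw [map_one] at this
      rw [← this]
      exact IsIrrCharacter.apply_one_ne_zero θ.2
    have hab : ∀ x y : A ⧸ commutator A, x * y = y * x := fun x y => mul_comm (G := Abelianization A) x y
    obtain ⟨lam, hlam⟩ := exists_linear_constituent hab hb hb1
    have hl := isIrrCharacter_linear (lam.comp π)
    have hc : Cfsg.classInner (fun a : A => (θ : G → ℂ) a) (fun a => ((lam.comp π) a : ℂ)) ≠ 0 := by
      rw [hbe]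
      show Cfsg.classInner (fun a => b (π a)) (fun a => (fun q => (lam q : ℂ)) (π a)) ≠ 0
      rw [classInner_comp_surjective π hπs b (fun q => (lam q : ℂ))]
      exact hlam
    obtain ⟨m, hm, hmd⟩ := deg_over A θ.2 hl hc
    have h1 : deg (fun a => ((lam.comp π) a : ℂ)) = 1 := by
      apply Nat.cast_injective (R := ℂ)
      rw [← IsCharacter.apply_one_eq_deg (isCharacter_of_irr hl)]
      simp
    rw [hm, h1, mul_one]
    exact Odd.of_dvd_nat hodd hmd

/-- The restriction of a character to a subgroup has the same degree. -/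
theorem deg_restrict {χ : G → ℂ} (hχ : Cfsg.IsCharacter G χ) (H : Subgroup G) :
    deg (fun n : H => χ n) = deg χ := by
  apply Nat.cast_injective (R := ℂ)
  rw [← IsCharacter.apply_one_eq_deg (IsCharacter.restrict hχ H),
    ← IsCharacter.apply_one_eq_deg hχ]
  rfl

/-- Above an odd degree character of a subgroup of odd index lies one of odd degree. -/
theorem exists_odd_over (H : Subgroup G) [Fintype H] (hodd : Odd H.index) (θ : Cfsg.IrrCharacter H)
    (hθ : Odd (deg (θ : H → ℂ))) :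
    ∃ χ : Cfsg.IrrCharacter G, Odd (deg (χ : G → ℂ)) ∧
      Cfsg.classInner (fun n : H => (χ : G → ℂ) n) (θ : H → ℂ) ≠ 0 := by
  classical
  have hI := IsCharacter.indFun (G := G) (isCharacter_of_irr θ.2)
  obtain ⟨m, -, hm, hdeg⟩ := exists_degree_decomp hI
  have hd : deg (Cfsg.indFun H (θ : H → ℂ)) = H.index * deg (θ : H → ℂ) := by
    apply Nat.cast_injective (R := ℂ)
    rw [← IsCharacter.apply_one_eq_deg hI, indFun_one, irr_apply_one_eq_deg, Nat.cast_mul]
  have hne : (∑ φ : Cfsg.IrrCharacter G, ((m φ * deg (φ : G → ℂ) : ℕ) : ZMod 2)) ≠ 0 := by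
    rw [← Nat.cast_sum, ← hdeg, hd, ne_eq, ZMod.natCast_eq_zero_iff_even, Nat.not_even_iff_odd]
    exact hodd.mul hθ
  obtain ⟨φ, -, hφ⟩ := Finset.exists_ne_zero_of_sum_ne_zero hne
  rw [ne_eq, ZMod.natCast_eq_zero_iff_even, Nat.not_even_iff_odd, Nat.odd_mul] at hφ
  refine ⟨φ, hφ.2, fun h0 => ?_⟩
  have h1 := hm φ
  rw [frobenius_reciprocity H (θ : H → ℂ) (isClassFunction_irr φ), ← classInner_conj_symm, h0,
    map_zero] at h1
  have : m φ = 0 := by exact_mod_cast h1.symm
  rw [this] at hφ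
  simp at hφ

open Classical in
/-- The irreducible characters of odd degree. -/
noncomputable def oddIrr (G : Type u) [Group G] [Fintype G] : Finset (Cfsg.IrrCharacter G) :=
  Finset.univ.filter fun χ => Odd (deg (χ : G → ℂ))

theorem mem_oddIrr {χ : Cfsg.IrrCharacter G} : χ ∈ oddIrr G ↔ Odd (deg (χ : G → ℂ)) := by
  simp [oddIrr]

theorem finsum_eq : (∑ᶠ χ : {χ : Cfsg.IrrCharacter G // ¬ 2 ∣ Cfsg.charDegree (χ : G → ℂ)},
    Cfsg.charDegree (χ.1 : G → ℂ) ^ 2) = ∑ χ ∈ oddIrr G, deg (χ : G → ℂ) ^ 2 := by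
  classical
  rw [finsum_eq_sum_of_fintype, ← Finset.sum_subtype (oddIrr G) (fun χ => ?_)
    (fun χ : Cfsg.IrrCharacter G => Cfsg.charDegree (χ : G → ℂ) ^ 2)]
  · exact Finset.sum_congr rfl fun χ _ => by rw [charDegree_eq_deg χ.2]
  · rw [mem_oddIrr, charDegree_eq_deg χ.2, Nat.odd_iff, Nat.two_dvd_ne_zero]

/-- The sum of squares over a nonempty finite set equals the square of the sum only for singletons. -/
theorem single_of_sq_le {ι : Type*} (s : Finset ι) (d : ι → ℕ) (hd : ∀ i ∈ s, 0 < d i) {X : ℕ}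
    (hle : ∑ i ∈ s, d i ≤ X) : ∑ i ∈ s, d i ^ 2 ≤ X ^ 2 ∧
      (∑ i ∈ s, d i ^ 2 = X ^ 2 → 0 < X → ∃ i, s = {i} ∧ d i = X) := by
  classical
  have h1 : ∀ i ∈ s, d i ^ 2 ≤ d i * X := fun i hi => by
    rw [sq]
    exact Nat.mul_le_mul_left _ ((Finset.single_le_sum (fun j _ => Nat.zero_le (d j)) hi).trans hle)
  have h2 : ∑ i ∈ s, d i * X ≤ X ^ 2 := by
    rw [← Finset.sum_mul, sq]
    exact Nat.mul_le_mul_right _ hle
  refine ⟨(Finset.sum_le_sum h1).trans h2, fun he hX => ?_⟩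
  have h3 := (Finset.sum_eq_sum_iff_of_le h1).1 (le_antisymm (Finset.sum_le_sum h1) (h2.trans he.ge))
  have h4 : ∀ i ∈ s, d i = X := fun i hi => by
    have := h3 i hi
    rw [sq] at this
    exact Nat.eq_of_mul_eq_mul_left (hd i hi) this
  rcases s.eq_empty_or_nonempty with rfl | ⟨i, hi⟩
  · simp only [Finset.sum_empty] at he
    exact absurd he.symm (pow_pos hX 2).ne' 
  refine ⟨i, Finset.eq_singleton_iff_unique_mem.2 ⟨hi, fun j hj => ?_⟩, h4 i hi⟩
  by_contra hne
  have h5 : d i + d j ≤ ∑ k ∈ s, d k := by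
    rw [← Finset.sum_pair (Ne.symm hne)]
    exact Finset.sum_le_sum_of_subset (by intro k hk; simp at hk; rcases hk with rfl | rfl <;> assumption)
  have := h4 i hi
  have := h4 j hj
  omega

/-- The inequality, and what equality means. -/
theorem sum_sq_le (H : Subgroup G) [Fintype H] (hodd : Odd H.index) :
    (∑ θ ∈ oddIrr H, deg (θ : H → ℂ) ^ 2) ≤ ∑ χ ∈ oddIrr G, deg (χ : G → ℂ) ^ 2 ∧
    ((∑ θ ∈ oddIrr H, deg (θ : H → ℂ) ^ 2) = ∑ χ ∈ oddIrr G, deg (χ : G → ℂ) ^ 2 →
      (∀ θ ∈ oddIrr H, ∃ χ ∈ oddIrr G, (fun n : H => (χ : G → ℂ) n) = (θ : H → ℂ)) ∧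
      ∀ χ ∈ oddIrr G, ∃ θ ∈ oddIrr H, (fun n : H => (χ : G → ℂ) n) = (θ : H → ℂ)) := by
  classical
  haveI : Nonempty (Cfsg.IrrCharacter G) := ⟨⟨_, isIrrCharacter_one⟩⟩
  choose! f hf1 hf2 using fun θ : Cfsg.IrrCharacter H => exists_odd_over H hodd θ
  have hmaps : ∀ θ ∈ oddIrr H, f θ ∈ oddIrr G := fun θ hθ => mem_oddIrr.2 (hf1 θ (mem_oddIrr.1 hθ))
  rw [← Finset.sum_fiberwise_of_maps_to hmaps]
  have hfib : ∀ χ : Cfsg.IrrCharacter G,
      ∑ θ ∈ (oddIrr H).filter (fun θ => f θ = χ), deg (θ : H → ℂ) ≤ deg (χ : G → ℂ) := by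
    intro χ
    obtain ⟨m, -, hm, hdeg⟩ :=
      exists_degree_decomp (IsCharacter.restrict (isCharacter_of_irr χ.2) H)
    rw [← deg_restrict (isCharacter_of_irr χ.2) H, hdeg]
    refine le_trans (Finset.sum_le_sum fun θ hθ => Nat.le_mul_of_pos_left _ ?_)
      (Finset.sum_le_sum_of_subset (Finset.subset_univ _))
    obtain ⟨hθ1, hθ2⟩ := Finset.mem_filter.1 hθ
    refine Nat.pos_of_ne_zero fun h0 => hf2 θ (mem_oddIrr.1 hθ1) ?_
    rw [hθ2, hm θ, h0, Nat.cast_zero]
  have hpos : ∀ χ : Cfsg.IrrCharacter G, ∀ θ ∈ (oddIrr H).filter (fun θ => f θ = χ),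
      0 < deg (θ : H → ℂ) := fun _ θ _ => deg_irr_pos θ
  have hle : ∀ χ ∈ oddIrr G, ∑ θ ∈ (oddIrr H).filter (fun θ => f θ = χ), deg (θ : H → ℂ) ^ 2 ≤
      deg (χ : G → ℂ) ^ 2 := fun χ _ => (single_of_sq_le _ _ (hpos χ) (hfib χ)).1
  refine ⟨Finset.sum_le_sum hle, fun heq => ?_⟩
  have hone : ∀ χ ∈ oddIrr G, ∃ i ∈ oddIrr H, (oddIrr H).filter (fun θ => f θ = χ) = {i} ∧
      (fun n : H => (χ : G → ℂ) n) = (i : H → ℂ) := by
    intro χ hχ
    have h := (Finset.sum_eq_sum_iff_of_le hle).1 heq χ hχ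
    obtain ⟨i, hi, hdi⟩ := (single_of_sq_le _ _ (hpos χ) (hfib χ)).2 h (deg_irr_pos _)
    obtain ⟨hi1, hi2⟩ := Finset.mem_filter.1 (hi ▸ Finset.mem_singleton_self i :
      i ∈ (oddIrr H).filter (fun θ => f θ = χ))
    refine ⟨i, hi1, hi, (constituent_le (IsCharacter.restrict (isCharacter_of_irr χ.2) H) i.2
      (hi2 ▸ hf2 i (mem_oddIrr.1 hi1))).2 ?_⟩
    rw [deg_restrict (isCharacter_of_irr χ.2) H, hdi]
  refine ⟨fun θ hθ => ?_, fun χ hχ => ?_⟩
  · obtain ⟨i, -, hi, he⟩ := hone (f θ) (hmaps θ hθ)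
    have hθi : θ ∈ (oddIrr H).filter (fun θ' => f θ' = f θ) := Finset.mem_filter.2 ⟨hθ, rfl⟩
    rw [hi, Finset.mem_singleton] at hθi
    exact ⟨f θ, hmaps θ hθ, hθi ▸ he⟩
  · obtain ⟨i, hi1, -, he⟩ := hone χ hχ
    exact ⟨i, hi1, he⟩

section Sylow

variable (P : Sylow 2 G)

local notation "NP" => Subgroup.normalizer ((P : Subgroup G) : Set G)

theorem odd_index_normalizer : Odd (NP).index :=
  Nat.not_even_iff_odd.1 fun h => P.not_dvd_index
    ((even_iff_two_dvd.1 h).trans (Subgroup.index_dvd_of_le Subgroup.le_normalizer))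

theorem map_PN : ((P : Subgroup G).subgroupOf NP).map (NP).subtype = (P : Subgroup G) :=
  map_subgroupOf_eq_of_le Subgroup.le_normalizer

instance normal_PN : ((P : Subgroup G).subgroupOf NP).Normal := Subgroup.normal_in_normalizer

theorem isPGroup_PN : IsPGroup 2 ((P : Subgroup G).subgroupOf NP) :=
  P.2.of_equiv (subgroupOfEquivOfLe Subgroup.le_normalizer).symm

theorem odd_index_PN : Odd ((P : Subgroup G).subgroupOf NP).index :=
  Nat.not_even_iff_odd.1 fun h => P.not_dvd_index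
    ((even_iff_two_dvd.1 h).trans ((P : Subgroup G).relIndex_dvd_index_of_le Subgroup.le_normalizer))

theorem map_derived :
    (⁅(P : Subgroup G).subgroupOf NP, (P : Subgroup G).subgroupOf NP⁆).map (NP).subtype =
      ⁅(P : Subgroup G), (P : Subgroup G)⁆ := by
  rw [Subgroup.map_commutator, map_PN]

theorem card_derived :
    Nat.card (commutator ↥P) =
      Nat.card ↥⁅(P : Subgroup G).subgroupOf NP, (P : Subgroup G).subgroupOf NP⁆ := by
  rw [← Subgroup.card_map_of_injective (K := ⁅(P : Subgroup G).subgroupOf NP,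
      (P : Subgroup G).subgroupOf NP⁆) (f := (NP).subtype) (NP).subtype_injective, map_derived,
    ← Subgroup.map_subtype_commutator, Subgroup.card_map_of_injective (P : Subgroup G).subtype_injective]
  rfl

theorem sum_normalizer [Fintype (NP)] :
    Nat.card NP = Nat.card (commutator ↥P) * ∑ θ ∈ oddIrr (NP), deg (θ : NP → ℂ) ^ 2 := by
  classical
  rw [card_derived, ← Subgroup.card_mul_index
    ⁅(P : Subgroup G).subgroupOf NP, (P : Subgroup G).subgroupOf NP⁆]
  congr 1
  rw [← kernel_sum_sq ⁅(P : Subgroup G).subgroupOf NP, (P : Subgroup G).subgroupOf NP⁆]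
  refine Finset.sum_congr ?_ fun _ _ => rfl
  ext θ
  rw [mem_oddIrr, Finset.mem_filter, odd_iff_trivOn _ (isPGroup_PN P) (odd_index_PN P)]
  simp

/-- Equality gives the normal complement. -/
theorem complement_of_extend [Fintype (NP)]
    (h : ∀ θ ∈ oddIrr (NP), ∃ χ ∈ oddIrr G, (fun n : NP => (χ : G → ℂ) n) = (θ : NP → ℂ))
    (h' : ∀ χ ∈ oddIrr G, ∃ θ ∈ oddIrr (NP), (fun n : NP => (χ : G → ℂ) n) = (θ : NP → ℂ)) :
    ∃ K : Subgroup G, K.Normal ∧ K ⊓ NP = ⊥ ∧ K ⊔ NP = ⊤ := by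
  classical
  set PN := (P : Subgroup G).subgroupOf NP with hPN
  set QN := ⁅PN, PN⁆ with hQN
  haveI : Fact (Nat.Prime 2) := ⟨Nat.prime_two⟩
  set P' := ⁅(P : Subgroup G), (P : Subgroup G)⁆ with hP'
  have hQP : QN ≤ PN := Subgroup.commutator_le_self PN
  -- the kernel of all odd degree characters
  set K₀ : Subgroup G := ⨅ χ : {χ : Cfsg.IrrCharacter G // χ ∈ oddIrr G},
    kerSubgroup (χ.1 : G → ℂ) (isCharacter_of_irr χ.1.2) with hK₀
  have hmem : ∀ x : G, x ∈ K₀ ↔ ∀ χ ∈ oddIrr G, (χ : G → ℂ) x = (χ : G → ℂ) 1 := fun x => by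
    simp only [hK₀, Subgroup.mem_iInf, mem_kerSubgroup, Subtype.forall]
  haveI hK₀n : K₀.Normal := ⟨fun x hx g => (hmem _).2 fun χ hχ => by
    rw [isClassFunction_irr χ x g]
    exact (hmem x).1 hx χ hχ⟩
  have hoddQ : ∀ θ : Cfsg.IrrCharacter NP, Odd (deg (θ : NP → ℂ)) ↔ TrivOn QN (θ : NP → ℂ) :=
    odd_iff_trivOn PN (isPGroup_PN P) (odd_index_PN P)
  have hP'K : P' ≤ K₀ := by
    intro x hx
    rw [hP', ← map_derived P] at hx
    obtain ⟨y, hy, rfl⟩ := hx
    refine (hmem _).2 fun χ hχ => ?_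
    obtain ⟨θ, hθ, he⟩ := h' χ hχ
    have h1 : (θ : NP → ℂ) y = (θ : NP → ℂ) 1 := (hoddQ θ).1 (mem_oddIrr.1 hθ) y hy
    rw [← he] at h1
    exact h1
  have hK₀N : ∀ x ∈ K₀, x ∈ NP → x ∈ P' := by
    intro x hx hxN
    have hq : (⟨x, hxN⟩ : NP) ∈ QN := mem_of_forall_trivOn QN fun θ hθ => by
      obtain ⟨χ, hχ, he⟩ := h θ (mem_oddIrr.2 ((hoddQ θ).2 hθ))
      rw [← he]
      exact (hmem x).1 hx χ hχ
    rw [hP', ← map_derived P]
    exact ⟨_, hq, rfl⟩
  -- the normal closure of `P`, enlarged by the kernel, meets the normalizer in `P`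
  set M : Subgroup G := normalClosure ((P : Subgroup G) : Set G) ⊔ K₀ with hM
  haveI hMn : M.Normal := Subgroup.sup_normal _ _
  have hPM : (P : Subgroup G) ≤ M := le_sup_of_le_left le_normalClosure
  have hMN : ∀ x ∈ M, x ∈ NP → x ∈ (P : Subgroup G) := by
    intro x hx hxN
    have hp : (⟨x, hxN⟩ : NP) ∈ PN := mem_of_forall_trivOn PN fun θ hθ => by
      obtain ⟨χ, hχ, he⟩ := h θ (mem_oddIrr.2 ((hoddQ θ).2 fun k hk => hθ k (hQP hk)))
      haveI := kerSubgroup_normal (isCharacter_of_irr χ.2)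
      have hMle : M ≤ kerSubgroup (χ : G → ℂ) (isCharacter_of_irr χ.2) := by
        refine sup_le (normalClosure_le_normal fun y hy => ?_) fun y hy =>
          (mem_kerSubgroup _ y).2 ((hmem y).1 hy χ hχ)
        have h1 := hθ ⟨y, Subgroup.le_normalizer hy⟩ hy
        rw [← he] at h1
        exact (mem_kerSubgroup _ y).2 h1
      rw [← he]
      exact (mem_kerSubgroup _ x).1 (hMle hx)
    exact hp
  -- Burnside modulo `K₀`
  set PM : Sylow 2 M := P.subtype hPM with hPMd
  have hPMc : (PM : Subgroup M) = (P : Subgroup G).subgroupOf M := rfl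
  have hPMmap : (PM : Subgroup M).map M.subtype = (P : Subgroup G) :=
    map_subgroupOf_eq_of_le hPM
  set K0M : Subgroup M := K₀.subgroupOf M with hK0M
  set π := QuotientGroup.mk' K0M with hπ
  have hπs : Function.Surjective π := QuotientGroup.mk'_surjective _
  set Pb : Sylow 2 (M ⧸ K0M) := PM.mapSurjective hπs with hPb
  have hPbc : (Pb : Subgroup (M ⧸ K0M)) = (PM : Subgroup M).map π := rfl
  have habel : ∀ a ∈ (Pb : Subgroup (M ⧸ K0M)), ∀ b ∈ (Pb : Subgroup (M ⧸ K0M)),
      a * b = b * a := by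
    intro a ha b hb
    rw [hPbc] at ha hb
    obtain ⟨a, ha, rfl⟩ := ha
    obtain ⟨b, hb, rfl⟩ := hb
    rw [← commutatorElement_eq_one_iff_mul_comm, ← map_commutatorElement]
    refine (QuotientGroup.eq_one_iff _).2 ?_
    show ((⁅a, b⁆ : M) : G) ∈ K₀
    apply hP'K
    show ((⁅a, b⁆ : M) : G) ∈ ⁅(P : Subgroup G), (P : Subgroup G)⁆
    rw [← Subgroup.coe_subtype, map_commutatorElement]
    exact Subgroup.commutator_mem_commutator (ha : (a : G) ∈ (P : Subgroup G))
      (hb : (b : G) ∈ (P : Subgroup G))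
  have hburn : Subgroup.normalizer ((Pb : Subgroup (M ⧸ K0M)) : Set (M ⧸ K0M)) ≤
      Subgroup.centralizer ((Pb : Subgroup (M ⧸ K0M)) : Set (M ⧸ K0M)) := by
    intro q hq
    have hqP : q ∈ (Pb : Subgroup (M ⧸ K0M)) := by
      obtain ⟨m, rfl⟩ := hπs q
      set U : Subgroup M := (Pb : Subgroup (M ⧸ K0M)).comap π with hU
      have hPU : (PM : Subgroup M) ≤ U := fun x hx => ⟨x, hx, rfl⟩
      have hPU' : ((m • PM : Sylow 2 M) : Subgroup M) ≤ U := by
        intro x hx
        rw [Sylow.coe_subgroup_smul] at hx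
        obtain ⟨y, hy, rfl⟩ := hx
        show π (m * y * m⁻¹) ∈ (Pb : Subgroup (M ⧸ K0M))
        rw [map_mul, map_mul, map_inv]
        exact (Subgroup.mem_normalizer_iff.1 hq _).1 ⟨y, hy, rfl⟩
      obtain ⟨u, hu⟩ := MulAction.exists_smul_eq U ((m • PM).subtype hPU') (PM.subtype hPU)
      rw [Sylow.smul_subtype] at hu
      have hu' : ((u : M) * m) • PM = PM := by
        rw [mul_smul]
        exact Sylow.subtype_injective hu
      have hN : (((u : M) * m : M) : G) ∈ NP := by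
        have h1 := Sylow.smul_eq_iff_mem_normalizer.1 hu'
        replace h1 := (Subgroup.mem_normalizer_iff (H := (PM : Subgroup M))).1 h1
        refine Subgroup.mem_normalizer_iff.2 ?_
        intro y
        constructor
        · intro hy
          exact (h1 ⟨y, hPM hy⟩).1 hy
        · intro hy
          have hyM : y ∈ M := by
            have h2 := hMn.conj_mem _ (hPM hy) ((((u : M) * m : M) : G))⁻¹
            simpa [mul_assoc] using h2
          exact (h1 ⟨y, hyM⟩).2 hy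
      have h3 : (u : M) * m ∈ (PM : Subgroup M) := hMN _ ((u : M) * m).2 hN
      have h4 : m ∈ U := by
        have h5 := U.mul_mem (U.inv_mem u.2) (hPU h3)
        rwa [inv_mul_cancel_left] at h5
      exact h4
    rw [Subgroup.mem_centralizer_iff]
    exact fun x hx => habel x hx q hqP
  have hcompl := MonoidHom.ker_transferSylow_isComplement' Pb hburn
  set T : Subgroup M := (MonoidHom.transferSylow Pb hburn).ker.comap π with hT
  haveI : T.Normal := Subgroup.normal_comap _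
  have hTP : T ⊓ (PM : Subgroup M) ≤ (frattini (PM : Subgroup M)).map (PM : Subgroup M).subtype := by
    intro x hx
    obtain ⟨hx1, hx2⟩ := Subgroup.mem_inf.1 hx
    have h1 : π x = 1 := Subgroup.mem_bot.1
      (hcompl.disjoint.le_bot ⟨hx1, ⟨x, hx2, rfl⟩⟩)
    have h2 : (x : G) ∈ P' := hK₀N _ ((QuotientGroup.eq_one_iff x).1 h1 : x ∈ K0M)
      (Subgroup.le_normalizer (hx2 : (x : G) ∈ (P : Subgroup G)))
    rw [hP', ← hPMmap, ← Subgroup.map_commutator] at h2
    obtain ⟨z, hz, hzx⟩ := h2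
    rw [Subtype.ext hzx] at hz
    exact Cfsg.Lib.Fusion.commutator_le_frattini PM.2 hz
  have hTc := Cfsg.Lib.Transfer.hasNormalPComplement_of_le_frattini PM T hTP
  have hMc : Cfsg.HasNormalPComplement 2 M := by
    obtain ⟨R, hRn, hRc, i, hi⟩ := Cfsg.Lib.Transfer.hasNormalPComplement_iff.1 hTc
    have hRres := Cfsg.Lib.Transfer.eq_pResidual_of_complement hRc hi
    haveI : R.Characteristic := hRres ▸ inferInstance
    refine Cfsg.Lib.Transfer.hasNormalPComplement_iff.2
      ⟨R.map T.subtype, ConjAct.normal_of_characteristic_of_normal, ?_, ?_⟩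
    · rwa [Subgroup.card_map_of_injective T.subtype_injective]
    · obtain ⟨j, hj⟩ := Pb.2.exists_card_eq
      refine ⟨i + j, ?_⟩
      rw [Subgroup.index_map_subtype, hi, hT, Subgroup.index_comap_of_surjective _ hπs,
        hcompl.symm.index_eq_card, hj, pow_add]
  obtain hres := Cfsg.Lib.Transfer.hasNormalPComplement_iff_pResidual.1 hMc
  refine ⟨(Cfsg.pResidual 2 M).map M.subtype, ConjAct.normal_of_characteristic_of_normal, ?_, ?_⟩
  · rw [eq_bot_iff]
    intro x hx
    obtain ⟨⟨y, hy, rfl⟩, hxN⟩ := Subgroup.mem_inf.1 hx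
    have hyP : y ∈ (PM : Subgroup M) := hMN _ y.2 hxN
    obtain ⟨j, hj⟩ := PM.2.exists_card_eq
    have h1 : orderOf y ∣ 2 ^ j := hj ▸ Subgroup.orderOf_dvd_natCard _ hyP
    have h2 : orderOf y ∣ Nat.card (Cfsg.pResidual 2 M) := Subgroup.orderOf_dvd_natCard _ hy
    have h3 := Nat.eq_one_of_dvd_coprimes (hres.pow_right j) h2 h1
    rw [orderOf_eq_one_iff.1 h3, map_one]
    exact Subgroup.one_mem _
  · rw [eq_top_iff]
    have h1 : NP ⊔ M = ⊤ := by
      have h2 := Sylow.normalizer_sup_eq_top PM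
      rwa [hPMmap] at h2
    rw [← h1]
    refine sup_le le_sup_right ?_
    have h3 := congrArg (Subgroup.map M.subtype) (Cfsg.Lib.Transfer.pResidual_sup_sylow (p := 2) PM)
    rw [Subgroup.map_sup, hPMmap, ← MonoidHom.range_eq_map, Subgroup.range_subtype] at h3
    exact h3.ge.trans (sup_le le_sup_left (Subgroup.le_normalizer.trans le_sup_right))

/-- A normal complement of the normalizer gives equality. -/
theorem eq_of_complement [Fintype (NP)] (K : Subgroup G) [K.Normal] (hKN : K ⊓ NP = ⊥)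
    (hsup : K ⊔ NP = ⊤) :
    ∑ χ ∈ oddIrr G, deg (χ : G → ℂ) ^ 2 ≤ ∑ θ ∈ oddIrr (NP), deg (θ : NP → ℂ) ^ 2 := by
  classical
  haveI : Fact (Nat.Prime 2) := ⟨Nat.prime_two⟩
  have := Fintype.ofFinite K
  have hcompl : K.IsComplement' NP := Subgroup.isComplement'_of_disjoint_and_mul_eq_univ
    (disjoint_iff.2 hKN) (by rw [← Subgroup.normal_mul, hsup]; rfl)
  have hKodd : Odd (Nat.card K) := hcompl.index_eq_card ▸ odd_index_normalizer P
  -- odd characters are trivial on `K`
  have htriv : ∀ χ ∈ oddIrr G, ∀ k ∈ K, (χ : G → ℂ) k = (χ : G → ℂ) 1 := by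
    intro χ hχ
    obtain ⟨φ₀, hφ₀, hc₀⟩ := exists_constituent K (isCharacter_of_irr χ.2)
      (IsIrrCharacter.apply_one_ne_zero χ.2)
    set O := conjOrbit K φ₀ with hO
    have hOodd : Odd O.card := Odd.of_dvd_nat (mem_oddIrr.1 hχ) (card_conjOrbit_dvd K χ.2 hφ₀ hc₀)
    have hconjO : ∀ (g : G), ∀ ψ ∈ O, conjN K g ψ ∈ O := by
      intro g ψ hψ
      obtain ⟨a, rfl⟩ := (mem_conjOrbit K).1 hψ
      refine (mem_conjOrbit K).2 ⟨a * g, ?_⟩
      funext n
      simp [conjN_eq_comp, mul_assoc]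
    letI : MulAction P O :=
      { smul := fun a ψ => ⟨conjN K ((a : G)⁻¹) ψ.1, hconjO _ _ ψ.2⟩
        one_smul := fun ψ => Subtype.ext (by
          show conjN K (((1 : P) : G)⁻¹) ψ.1 = ψ.1
          rw [OneMemClass.coe_one, inv_one, conjN_one])
        mul_smul := fun a b ψ => Subtype.ext (by
          show conjN K (((a * b : P) : G)⁻¹) ψ.1 = conjN K ((a : G)⁻¹) (conjN K ((b : G)⁻¹) ψ.1)
          funext n
          simp [conjN_eq_comp, mul_assoc]) }
    obtain ⟨⟨φ, hφO⟩, hfix⟩ := P.2.nonempty_fixed_point_of_prime_not_dvd_card O (by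
      rw [Nat.card_eq_fintype_card, Fintype.card_coe]
      exact fun h => (Nat.not_even_iff_odd.2 hOodd) (even_iff_two_dvd.2 h))
    obtain ⟨a, rfl⟩ := (mem_conjOrbit K).1 hφO
    have hφ : Cfsg.IsIrrCharacter K (conjN K a φ₀) := IsIrrCharacter.conjN hφ₀ a
    have hc : Cfsg.classInner (fun n : K => (χ : G → ℂ) n) (conjN K a φ₀) ≠ 0 := by
      rw [classInner_restrict_conjN K (isClassFunction_irr χ)]
      exact hc₀
    obtain ⟨m, hm, -⟩ := deg_over K χ.2 hφ hc
    have hdφ : Odd (deg (conjN K a φ₀)) := Nat.Odd.of_mul_right (hm ▸ mem_oddIrr.1 hχ)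
    set C : Subgroup G := K ⊓ Subgroup.centralizer ((P : Subgroup G) : Set G) with hC
    have hCbot : C = ⊥ := le_bot_iff.1 (hKN ▸ inf_le_inf_left K
      (Subgroup.centralizer_le_normalizer _))
    have := Fintype.ofFinite C
    have hsub : ∀ c : C, c = 1 := fun c => Subtype.ext (Subgroup.mem_bot.1 (hCbot ▸ c.2))
    have hinner : ∀ F : K → ℂ, Cfsg.classInner (fun c : C => F ⟨(c : G), (inf_le_left : C ≤ K) c.2⟩)
        (fun _ : C => (1 : ℂ)) = F 1 := by
      intro F
      haveI : Subsingleton C := ⟨fun a b => (hsub a).trans (hsub b).symm⟩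
      rw [classInner_def, Fintype.sum_subsingleton _ (1 : C), Nat.card_unique]
      simp
      rfl
    have hkey := (Cfsg.Agent.S4444.result K (P : Subgroup G)
      (fun s _ g hg => Subgroup.Normal.conj_mem ‹K.Normal› g hg s) (by
        obtain ⟨j, hj⟩ := P.2.exists_card_eq
        rw [hj]
        exact (Nat.coprime_two_right.2 hKodd).pow_right j) 2 Nat.prime_two P.2 C hC inf_le_left).2.2.1
      ⟨_, hφ⟩ ⟨fun _ => 1, isIrrCharacter_one⟩ (fun s hs g g' he => by
        have h1 := congrFun (congrArg Subtype.val (hfix ⟨s⁻¹, inv_mem hs⟩)) g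
        have h2 : g' = MulAut.conjNormal s g := Subtype.ext (by rw [MulAut.conjNormal_apply]; exact he)
        change conjN K (((⟨s⁻¹, inv_mem hs⟩ : P) : G)⁻¹) (conjN K a φ₀) g = conjN K a φ₀ g at h1
        rw [h2]
        refine Eq.trans ?_ h1
        simp [conjN_eq_comp]) (fun _ _ _ _ _ => rfl)
      ⟨fun _ => 1, isIrrCharacter_one⟩ (deg (conjN K a φ₀)) 1
      (by rw [hinner]; exact IsCharacter.apply_one_eq_deg (isCharacter_of_irr hφ))
      (fun hd => Nat.not_even_iff_odd.2 hdφ (even_iff_two_dvd.2 hd))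
      (by rw [hinner (fun _ => 1)]; simp) (by norm_num)
    rw [show conjN K a φ₀ = fun _ => 1 from congrArg Subtype.val hkey] at hc
    obtain ⟨e, -, he⟩ := restrict_eq_mult_of_invariant K χ.2 isIrrCharacter_one
      (fun g => funext fun n => rfl) hc
    intro k hk
    have h1 := congrFun he ⟨k, hk⟩
    have h2 := congrFun he 1
    simp only [Pi.smul_apply, OneMemClass.coe_one] at h1 h2
    rw [h1, h2]
  -- restriction is injective with irreducible values
  have hπN : Function.Surjective ((QuotientGroup.mk' K).comp (NP).subtype) := by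
    intro q
    obtain ⟨g, rfl⟩ := QuotientGroup.mk'_surjective K q
    obtain ⟨k, hk, n, hn, rfl⟩ := Subgroup.mem_sup_of_normal_left.1
      (hsup ▸ Subgroup.mem_top g : g ∈ K ⊔ NP)
    refine ⟨⟨n, hn⟩, ?_⟩
    rw [map_mul, show QuotientGroup.mk' K k = 1 from (QuotientGroup.eq_one_iff k).2 hk, one_mul]
    rfl
  have := Fintype.ofFinite (G ⧸ K)
  choose! b hb hbe using fun χ (hχ : χ ∈ oddIrr G) => exists_factor (QuotientGroup.mk' K)
    (QuotientGroup.mk'_surjective K) (isCharacter_of_irr χ.2) fun k hk =>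
      htriv χ hχ k (by rwa [QuotientGroup.ker_mk'] at hk)
  have hres : ∀ χ ∈ oddIrr G, Cfsg.IsIrrCharacter NP (fun n : NP => (χ : G → ℂ) n) := by
    intro χ hχ
    have hbi : Cfsg.IsIrrCharacter (G ⧸ K) (b χ) :=
      IsIrrCharacter.descend (hb χ hχ) _ (QuotientGroup.mk'_surjective K) (hbe χ hχ ▸ χ.2)
    have h1 := IsIrrCharacter.comp_surjective hbi _ hπN
    rw [show (fun n : NP => (χ : G → ℂ) n) =
      fun n => b χ (((QuotientGroup.mk' K).comp (NP).subtype) n) from
        funext fun n => congrFun (hbe χ hχ) n]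
    exact h1
  let r : Cfsg.IrrCharacter G → Cfsg.IrrCharacter NP := fun χ =>
    if hχ : χ ∈ oddIrr G then ⟨_, hres χ hχ⟩ else ⟨_, isIrrCharacter_one⟩
  have hr : ∀ χ ∈ oddIrr G, (r χ : NP → ℂ) = fun n : NP => (χ : G → ℂ) n := fun χ hχ => by
    simp only [r, dif_pos hχ]
  have hdeg : ∀ χ ∈ oddIrr G, deg (r χ : NP → ℂ) = deg (χ : G → ℂ) := fun χ hχ => by
    rw [hr χ hχ, deg_restrict (isCharacter_of_irr χ.2)]
  rw [Finset.sum_congr rfl fun χ hχ => by rw [← hdeg χ hχ],
    ← Finset.sum_image (g := r) (f := fun θ : Cfsg.IrrCharacter NP => deg (θ : NP → ℂ) ^ 2)]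
  · refine Finset.sum_le_sum_of_subset fun θ hθ => ?_
    obtain ⟨χ, hχ, rfl⟩ := Finset.mem_image.1 hθ
    rw [mem_oddIrr, hdeg χ hχ]
    exact mem_oddIrr.1 hχ
  · intro χ hχ χ' hχ' he
    have h1 := congrArg Subtype.val he
    rw [hr χ hχ, hr χ' hχ'] at h1
    apply Subtype.ext
    funext g
    obtain ⟨n, hn⟩ := hπN (QuotientGroup.mk' K g)
    rw [congrFun (hbe χ hχ) g, congrFun (hbe χ' hχ') g, ← hn]
    exact ((congrFun (hbe χ hχ) n).symm.trans (congrFun h1 n)).trans (congrFun (hbe χ' hχ') n)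

end Sylow

end Cfsg.Lib.OddSq
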