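import Cfsg.Agent.Known.AutPSL2
import Cfsg.Statements.S2602
import Mathlib

set_option autoImplicit false
open Cfsg

namespace Cfsg.Agent.S2602

/-- Structure of the outer automorphism group of PSL_2(q), q = p^f ≥ 4: it has a normal cyclic subgroup of order gcd(2, q − 1) (diagonal automorphisms) with cyclic quotient of order f (field automorphisms); there is no graph automorphism in dimension 2. -/
theorem result {F : Type*} [Field F] [Fintype F] {p f : ℕ} [Fact p.Prime] (hf : 1 ≤ f) (hF : Fintype.card F = p ^ f) (h4 : 4 ≤ p ^ f) : ∃ φ : Cfsg.Out (Matrix.ProjectiveSpecialLinearGroup (Fin 2) F) →* Multiplicative (ZMod f), Function.Surjective φ ∧ IsCyclic φ.ker ∧ Nat.card φ.ker = Nat.gcd 2 (p ^ f - 1) := by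
  have : CharP F p := by
    obtain ⟨k, hk, hk'⟩ := FiniteField.card F (ringChar F)
    have : ringChar F = p := (Nat.prime_dvd_prime_iff_eq hk Fact.out).1
      (hk.dvd_of_dvd_pow (hF ▸ hk' ▸ dvd_pow_self _ k.pos.ne' : ringChar F ∣ p ^ f))
    exact this ▸ ringChar.charP F
  let _ : Algebra (ZMod p) F := ZMod.algebra F p
  exact Cfsg.Lib.Known.AutPSL2.exists_hom_out p hf hF

end Cfsg.Agent.S2602
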