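import Cfsg.Statements.S2159
import Cfsg.Agent.Known.ChevAut.D4

set_option autoImplicit false
open Cfsg Cfsg.Lie Cfsg.Lib.Chev Cfsg.Lib.Known.ChevAut

namespace Cfsg.Agent.S2159

/-- Structure of the outer automorphism group of the Chevalley group `G` of type G₂, B₂, D₄, F₄, E₆, E₇ or E₈ over a finite field. Let `D̄` be the image in `Out(G)` of the subgroup generated by the diagonal automorphisms and `F̄` the image of the subgroup generated by the field automorphisms. Then `D̄` is a normal abelian subgroup of `Out(G)`, `F̄` is cyclic, `D̄F̄` is a normal subgroup, and the quotient of `Out(G)` by `D̄F̄` is trivial, of order 2, or non-abelian of order 6 (so isomorphic to the symmetric group on three letters): its index is 1 or 2, or it is 6 with the commutator subgroup of `Out(G)` not inside `D̄F̄`. -/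
theorem result {F : Type*} [Field F] [Finite F] (D : Cfsg.Lie.ChevalleyDatum) (hD : D ∈ [Cfsg.Lie.chevG2, Cfsg.Lie.chevB2, Cfsg.Lie.chevD4, Cfsg.Lie.chevF4, Cfsg.Lie.chevE6, Cfsg.Lie.chevE7, Cfsg.Lie.chevE8])
    (Dbar Fbar : Subgroup (Cfsg.Out ↥(D.group F)))
    (hDbar : Dbar = (Subgroup.closure {φ : MulAut ↥(D.group F) | D.IsDiagonalAut φ}).map (QuotientGroup.mk' (Cfsg.Inn ↥(D.group F))))
    (hFbar : Fbar = (Subgroup.closure {φ : MulAut ↥(D.group F) | D.IsFieldAut φ}).map (QuotientGroup.mk' (Cfsg.Inn ↥(D.group F)))) :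
    Dbar.Normal ∧ IsMulCommutative ↥Dbar ∧ IsCyclic ↥Fbar ∧ (Dbar ⊔ Fbar).Normal ∧
      ((Dbar ⊔ Fbar).index = 1 ∨ (Dbar ⊔ Fbar).index = 2 ∨
        ((Dbar ⊔ Fbar).index = 6 ∧ ¬ commutator (Cfsg.Out ↥(D.group F)) ≤ Dbar ⊔ Fbar)) := by
  obtain ⟨C, L, T, hT⟩ := tabs_of_mem hD
  subst hDbar hFbar
  obtain ⟨p, hp⟩ := CharP.exists F
  haveI := hp
  haveI : Fact p.Prime := ⟨CharP.char_is_prime F p⟩
  haveI := Fintype.ofFinite F
  set q := QuotientGroup.mk' (Cfsg.Inn ↥(D.group F))
  obtain ⟨hnorm, hidx⟩ := index_eq hT (ker_diagHom (F := F) hT)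
  refine ⟨diag_normal hT, ?_, ?_, hnorm, ?_⟩
  · haveI := Subgroup.isMulCommutative_closure (k := {φ : MulAut ↥(D.group F) | D.IsDiagonalAut φ})
      fun x hx y hy => diag_comm hT.str hT.chr hx hy
    refine ⟨⟨fun a b => ?_⟩⟩
    obtain ⟨x, hx, ex⟩ := a.2
    obtain ⟨y, hy, ey⟩ := b.2
    refine Subtype.ext ?_
    rw [Subgroup.coe_mul, Subgroup.coe_mul, ← ex, ← ey, ← map_mul, ← map_mul]
    exact congrArg q (setLike_mul_comm hx hy)
  · rw [closure_field hT.str, MonoidHom.map_range]
    obtain ⟨n, hn, -⟩ := FiniteField.card F p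
    obtain ⟨hcyc, -⟩ := ringAut_facts (F := F) p (Nat.log p (Fintype.card F)) (by
      obtain ⟨k, -, hk⟩ := FiniteField.card F p
      rw [hk, Nat.log_pow (Fact.out : p.Prime).one_lt])
    exact isCyclic_of_surjective _ (q.comp (fieldHom hT.str F)).rangeRestrict_surjective
  · unfold diagGrp at hidx
    rw [hidx]
    have hsym : ∀ π ∈ (diagHom (F := F) hT).range, D.IsDiagramSymmetry π := by
      rintro π ⟨θ, rfl⟩
      exact diagHom_symmetry hT θ
    have hpos : 0 < Nat.card ↥(diagHom (F := F) hT).range := Nat.card_pos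
    simp only [List.mem_cons, List.not_mem_nil, or_false] at hD
    rcases hD with rfl | rfl | rfl | rfl | rfl | rfl | rfl
    · have := card_sym_le sym_G2 _ hsym; omega
    · have := card_sym_le sym_B2 _ hsym; omega
    · obtain ⟨h6, hne⟩ := card_range_D4 (F := F) hT
      refine Or.inr (Or.inr ⟨h6, fun hle => hne fun θ η => ?_⟩)
      rw [← MonoidHom.mem_ker, ker_diagHom hT, Subgroup.mem_comap, map_mul, map_mul, map_mul, map_inv, map_inv]
      exact hle (Subgroup.commutator_mem_commutator (Subgroup.mem_top _) (Subgroup.mem_top _))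
    · have := card_sym_le sym_F4 _ hsym; omega
    · have := card_sym_le sym_E6 _ hsym; omega
    · have := card_sym_le sym_E7 _ hsym; omega
    · have := card_sym_le sym_E8 _ hsym; omega

end Cfsg.Agent.S2159
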