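import Cfsg.Statements.S2062
import Cfsg.Agent.Golay.AutM22
import Cfsg.Agent.Golay.OuterMathieu

set_option autoImplicit false
open Cfsg

namespace Cfsg.Agent.S2062

/-- The outer automorphism group of the Mathieu group M₂₂ (the permutations in the automorphism group of the length-24 binary code that fix each of two given points) has order 2. -/
theorem result : Nat.card (Cfsg.Out ↥Cfsg.Spor.M22) = 2 := by
  refine le_antisymm ?_ Cfsg.Lib.Golay.two_le_card_out_M22
  rw [Cfsg.Lib.Golay.M22_eq]
  exact Cfsg.Lib.Golay.card_out_le_M22.1

end Cfsg.Agent.S2062
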