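import Cfsg.Statements.S2069
import Cfsg.Agent.Leech.OutCo1.Descent

set_option autoImplicit false
open Cfsg

namespace Cfsg.Agent.S2069

/-- The outer automorphism group of the Conway group Co₁ (the automorphism group of the rank-24 lattice modulo its centre) is trivial: every automorphism is inner. -/
theorem result : Nat.card (Cfsg.Out Cfsg.Spor.Co1) = 1 := by
  haveI : Subsingleton (Cfsg.Out Cfsg.Spor.Co1) := by
    refine ⟨fun a b => ?_⟩
    have h : ∀ x : Cfsg.Out Cfsg.Spor.Co1, x = 1 := fun x => by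
      obtain ⟨φ, rfl⟩ := QuotientGroup.mk_surjective x
      rw [QuotientGroup.eq_one_iff]
      obtain ⟨ψ, hψ⟩ := Cfsg.Lib.Leech.OutCo1.exists_lift φ
      obtain ⟨B, hB⟩ := Cfsg.Lib.Leech.OutCo1.exists_conj ψ
      refine ⟨QuotientGroup.mk B, MulEquiv.ext fun x => ?_⟩
      obtain ⟨g, rfl⟩ := QuotientGroup.mk_surjective x
      rw [← hψ g, hB g]
      rfl
    rw [h a, h b]
  exact Nat.card_eq_one_iff_unique.mpr ⟨inferInstance, inferInstance⟩

end Cfsg.Agent.S2069
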