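import Cfsg.Statements.S2081
import Cfsg.Agent.FiFour.Outer
import Cfsg.Agent.FiFour.TranspType

set_option autoImplicit false
open Cfsg

namespace Cfsg.Agent.S2081

/-- The outer automorphism group of the Fischer group Fi₂₄′ (the commutator subgroup of the presented group Fi₂₄) has order 2. -/
theorem result : Nat.card (Cfsg.Out Cfsg.Spor.Fi24') = 2 := by
  have key : ∀ H : Subgroup Cfsg.Spor.Fi24, H = Cfsg.Lib.FiFour.evenPart → Nat.card (Cfsg.Out ↥H) = 2 := by
    rintro _ rfl
    exact Cfsg.Lib.FiFour.card_out_even Cfsg.Lib.FiFour.transp_type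
  exact key _ Cfsg.Lib.FiFour.commutator_eq

end Cfsg.Agent.S2081
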