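import Cfsg.Statements.S4018
import Cfsg.Agent.S0948
import Cfsg.Agent.Blocks.KleinFourOrder
import Cfsg.Agent.Chars.Construct
import Cfsg.Agent.Blocks.Feit3

set_option autoImplicit false
open Cfsg

namespace Cfsg.Agent.S4018

open Subgroup Cfsg.Lib.Chars Cfsg.Lib.Blocks

universe u

variable {G : Type u} [Group G] [Finite G]

/-- what is needed of the centralizer `N` of the involution `t` and of the counting -/
structure Local (G : Type u) [Group G] (P : Sylow 3 G) (t : G) : Prop where
  ot : orderOf t = 2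
  tC : t ∈ centralizer (P : Set G)
  uniq : ∀ y ∈ centralizer (P : Set G), orderOf y = 2 → y = t
  cent : centralizer ({t} : Set G) = normalizer ((P : Subgroup G) : Set G)
  sq : ∀ y ∈ normalizer ((P : Subgroup G) : Set G), y ∉ centralizer (P : Set G) → y * y = 1
  fix : ∀ y ∈ normalizer (centralizer (P : Set G) : Set G), y * t * y⁻¹ = t
  noFour : ∀ y : G, y ^ 4 = 1 → y * y = 1
  one : ∀ s : G, orderOf s = 2 → IsConj t s

/-- bound on the number of involutions -/
theorem card_invol_le (P : Sylow 3 G) (hab : IsMulCommutative P) {t : G} (L : Local G P t)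
    (hTI : Cfsg.IsTISubset (Subgroup.centralizer (P : Set G) : Set G))
    (hN : Nat.card (Subgroup.normalizer ((P : Subgroup G) : Set G)) = 4 * Nat.card P)
    (hC : Nat.card (Subgroup.centralizer (P : Set G)) = 2 * Nat.card P)
    (heven : ∀ H : Subgroup G, H ≠ ⊤ → 2 ∣ Nat.card H → Nat.card H ∣ 4 * Nat.card P)
    (hcyc : ∀ x : G, zpowers x ≠ ⊤) (hsimple : IsSimpleGroup G) :
    Nat.card {s : G // orderOf s = 2} ≤ 4 * Nat.card P + 2 * Nat.card P * (2 * Nat.card P) := by
  classical
  letI := Fintype.ofFinite G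
  haveI := hsimple
  set n := Nat.card P with hn
  set C := centralizer (P : Set G) with hCdef
  set N := normalizer ((P : Subgroup G) : Set G) with hNdef
  have hPC : (P : Subgroup G) ≤ C := fun a ha => mem_centralizer_iff.mpr fun b hb =>
    congrArg Subtype.val (mul_comm' (⟨b, hb⟩ : P) ⟨a, ha⟩)
  have hcard : ∀ K : Subgroup G, (Finset.univ.filter fun y : G => y ∈ K).card = Nat.card K := fun K => by
    rw [← Fintype.card_subtype, ← Nat.card_eq_fintype_card]
  set D : G → Finset G := fun z => Finset.univ.filter fun x => x * x ≠ 1 ∧ Commute z x with hD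
  set Z := Finset.univ.filter fun y : G => y ∈ N ∧ y ∉ C ∧ orderOf y = 2 with hZ
  have hDle : ∀ z ∈ Z, (D z).card ≤ 2 * n := by
    intro z hz
    obtain ⟨g, hg⟩ := isConj_iff.mp (L.one z (Finset.mem_filter.mp hz).2.2.2)
    rw [← hC, ← hcard C]
    refine Finset.card_le_card_of_injOn (fun x => g⁻¹ * x * g) (fun x hx => ?_)
      (fun a _ b _ h => mul_left_cancel (mul_right_cancel h))
    obtain ⟨hx2, hxz⟩ := (Finset.mem_filter.mp hx).2
    refine Finset.mem_filter.mpr ⟨Finset.mem_univ _, ?_⟩
    by_contra hnC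
    have h1 : g⁻¹ * x * g ∈ N := by
      rw [hNdef, ← L.cent, mem_centralizer_singleton_iff]
      calc g⁻¹ * x * g * t = g⁻¹ * (x * (g * t * g⁻¹)) * g := by group
        _ = g⁻¹ * ((g * t * g⁻¹) * x) * g := by rw [hg, hxz.eq]
        _ = t * (g⁻¹ * x * g) := by group
    refine hx2 ?_
    have h2 := L.sq _ h1 hnC
    calc x * x = g * ((g⁻¹ * x * g) * (g⁻¹ * x * g)) * g⁻¹ := by group
      _ = 1 := by rw [h2]; group
  have hZle : Z.card ≤ 2 * n := by
    have h1 : Z ⊆ (Finset.univ.filter fun y : G => y ∈ N) \ (Finset.univ.filter fun y : G => y ∈ C) := by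
      intro y hy
      have := (Finset.mem_filter.mp hy).2
      simp [this.1, this.2.1]
    refine (Finset.card_le_card h1).trans ?_
    rw [Finset.card_sdiff_of_subset (fun y hy => ?_), hcard, hcard, hN, hC]
    · omega
    · exact Finset.mem_filter.mpr ⟨Finset.mem_univ _,
        Subgroup.centralizer_le_normalizer _ (Finset.mem_filter.mp hy).2⟩
  have hsub : (Finset.univ.filter fun s : G => orderOf s = 2) ⊆
      (Finset.univ.filter fun y : G => y ∈ N) ∪ Z.biUnion fun z => (D z).image (t * ·) := by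
    intro s hs
    have hs2 : orderOf s = 2 := (Finset.mem_filter.mp hs).2
    rw [Finset.mem_union]
    by_cases hsN : s ∈ N
    · exact Or.inl (Finset.mem_filter.mpr ⟨Finset.mem_univ _, hsN⟩)
    refine Or.inr ?_
    have htt : t * t = 1 := by rw [← pow_two, ← L.ot, pow_orderOf_eq_one]
    have hss : s * s = 1 := by rw [← pow_two, ← hs2, pow_orderOf_eq_one]
    have hti : t⁻¹ = t := inv_eq_of_mul_eq_one_right htt
    have hsi : s⁻¹ = s := inv_eq_of_mul_eq_one_right hss
    set x := t * s with hx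
    have hxx : x * x ≠ 1 := by
      intro h
      refine hsN ?_
      rw [hNdef, ← L.cent, mem_centralizer_singleton_iff]
      have h1 : x = x⁻¹ := eq_inv_of_mul_eq_one_left h
      rw [hx, mul_inv_rev, hti, hsi] at h1
      exact h1.symm
    have hinv : t * x * t⁻¹ = x⁻¹ := by
      rw [hx, mul_inv_rev, hsi, hti, ← mul_assoc, htt, one_mul]
    -- the dihedral group
    have hnorm : zpowers t ≤ normalizer ((zpowers x : Subgroup G) : Set G) := by
      rw [zpowers_le, mem_set_normalizer_iff]
      intro h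
      have hc : ∀ k : ℤ, t * x ^ k * t⁻¹ = x ^ (-k) := fun k => by rw [← conj_zpow, hinv, inv_zpow']
      constructor
      · rintro ⟨k, rfl⟩
        exact ⟨-k, (hc k).symm⟩
      · rintro ⟨k, hk⟩
        refine ⟨-k, ?_⟩
        show x ^ (-k) = h
        rw [← hc k, show x ^ k = t * h * t⁻¹ from hk, hti]
        simp only [mul_assoc, htt, mul_one]
        rw [← mul_assoc, htt, one_mul]
    have htop : zpowers x ⊔ zpowers t ≠ ⊤ := by
      intro h
      have hnx : normalizer ((zpowers x : Subgroup G) : Set G) = ⊤ :=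
        top_unique (h ▸ sup_le le_normalizer hnorm)
      haveI := normalizer_eq_top_iff.mp hnx
      rcases IsSimpleGroup.eq_bot_or_eq_top_of_normal (zpowers x) inferInstance with h1 | h1
      · exact hxx (by rw [zpowers_eq_bot.mp h1, one_mul])
      · exact hcyc x h1
    have hord : orderOf x ∣ 4 * n := by
      refine dvd_trans ?_ (heven _ htop ?_)
      · rw [← Nat.card_zpowers]; exact card_dvd_of_le le_sup_left
      · rw [← L.ot, ← Nat.card_zpowers]; exact card_dvd_of_le le_sup_right
    have h3 : 3 ∣ orderOf x := by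
      by_contra h3
      obtain ⟨a, ha⟩ := IsPGroup.iff_card.mp P.2
      have : (orderOf x).Coprime n := by
        rw [hn, ha]
        exact (Nat.Coprime.pow_right a ((Nat.prime_three.coprime_iff_not_dvd.mpr h3).symm))
      exact hxx (L.noFour x (orderOf_dvd_iff_pow_eq_one.mp (this.dvd_of_dvd_mul_right hord)))
    set c := x ^ (orderOf x / 3) with hc
    have hc3 : orderOf c = 3 := orderOf_pow_orderOf_div (orderOf_pos x).ne' h3
    have hct : t * c * t⁻¹ = c⁻¹ := by rw [hc, ← conj_pow, hinv, inv_pow]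
    haveI : Fact (Nat.Prime 3) := ⟨Nat.prime_three⟩
    obtain ⟨Q, hQ⟩ := (IsPGroup.of_card (G := zpowers c) (p := 3) (n := 1)
      (by rw [Nat.card_zpowers, hc3, pow_one])).exists_le_sylow
    obtain ⟨g, hg⟩ := MulAction.exists_smul_eq G P Q
    set c0 := g⁻¹ * c * g with hc0
    have hc0P : c0 ∈ (P : Subgroup G) := by
      have h1 : c ∈ (↑(g • P) : Subgroup G) := hg ▸ hQ (mem_zpowers c)
      rw [Sylow.coe_subgroup_smul, Subgroup.mem_pointwise_smul_iff_inv_smul_mem] at h1
      rw [hc0]; simpa [MulAut.smul_def, mul_assoc] using h1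
    have hc01 : c0 ≠ 1 := by
      intro h
      have : c = 1 := by
        have e : c = g * c0 * g⁻¹ := by rw [hc0]; group
        rw [e, h]; group
      rw [this, orderOf_one] at hc3
      omega
    have hnor : ∀ y : G, y * c * y⁻¹ ∈ zpowers c → g⁻¹ * y * g ∈ normalizer (C : Set G) := by
      intro y hy
      by_contra hcon
      refine hc01 (hTI _ hcon c0 (hPC hc0P) (hPC ?_))
      have e : g⁻¹ * y * g * c0 * (g⁻¹ * y * g)⁻¹ = g⁻¹ * (y * c * y⁻¹) * g := by rw [hc0]; group
      rw [e]
      obtain ⟨k, hk⟩ : ∃ k : ℤ, c ^ k = y * c * y⁻¹ := hy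
      rw [← hk, show g⁻¹ * c ^ k * g = c0 ^ k by
        rw [hc0]; have e := conj_zpow (a := g⁻¹) (b := c) (i := k); rw [inv_inv] at e; exact e.symm]
      exact zpow_mem hc0P k
    have hcomm : ∀ y : G, y * c * y⁻¹ ∈ zpowers c → Commute (g * t * g⁻¹) y := by
      intro y hy
      have h1 := L.fix _ (hnor y hy)
      have h2 : g⁻¹ * y * g * t = t * (g⁻¹ * y * g) := mul_inv_eq_iff_eq_mul.mp h1
      calc g * t * g⁻¹ * y = g * (t * (g⁻¹ * y * g)) * g⁻¹ := by group
        _ = g * (g⁻¹ * y * g * t) * g⁻¹ := by rw [h2]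
        _ = y * (g * t * g⁻¹) := by group
    set z := g * t * g⁻¹ with hz
    have hzx : Commute z x := hcomm x (by
      rw [show x * c * x⁻¹ = c by rw [hc, (Commute.self_pow x _).eq, mul_inv_cancel_right]]
      exact mem_zpowers c)
    have hzt : Commute z t := hcomm t (by rw [hct]; exact inv_mem (mem_zpowers c))
    have hoz : orderOf z = 2 := by rw [hz, ← MulAut.conj_apply, MulEquiv.orderOf_eq, L.ot]
    refine Finset.mem_biUnion.mpr ⟨z, Finset.mem_filter.mpr ⟨Finset.mem_univ _, ?_, ?_, hoz⟩,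
      Finset.mem_image.mpr ⟨x, Finset.mem_filter.mpr ⟨Finset.mem_univ _, hxx, hzx⟩, ?_⟩⟩
    · rw [hNdef, ← L.cent, mem_centralizer_singleton_iff]
      exact hzt.eq
    · intro hzC
      have h1 := L.uniq z hzC hoz
      have hgN : g ∈ N := by
        rw [hNdef, ← L.cent, mem_centralizer_singleton_iff]
        exact mul_inv_eq_iff_eq_mul.mp h1
      have hcP : c ∈ (P : Subgroup G) := by
        have := (mem_set_normalizer_iff.mp hgN c0).mp hc0P
        rwa [show g * c0 * g⁻¹ = c by rw [hc0]; group] at this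
      have h2 : t * c * t⁻¹ = c := by
        rw [← mem_centralizer_iff.mp L.tC c hcP, mul_inv_cancel_right]
      have h3 : c ^ 2 = 1 := by rw [pow_two]; nth_rw 1 [← h2]; rw [hct, inv_mul_cancel]
      have := orderOf_dvd_of_pow_eq_one h3
      rw [hc3] at this
      norm_num at this
    · show t * x = s
      rw [hx, ← mul_assoc, htt, one_mul]
  rw [Nat.card_eq_fintype_card, Fintype.card_subtype]
  refine (Finset.card_le_card hsub).trans ((Finset.card_union_le _ _).trans ?_)
  refine Nat.add_le_add (le_of_eq ((hcard N).trans hN)) ?_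
  refine (Finset.card_biUnion_le_card_mul _ _ _ fun z hz => Finset.card_image_le.trans (hDle z hz)).trans ?_
  exact Nat.mul_le_mul_right _ hZle


/-- Let G be a finite group with an abelian Sylow 3-subgroup P such that the normalizer of P has order 4·#P, the centralizer C of P has order 2·#P, C meets each of its conjugates by elements outside its normalizer trivially, and every proper subgroup of G of even order has order dividing 4·#P. Then G is not simple. -/
theorem result {G : Type*} [Group G] [Finite G]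
    (P : Sylow 3 G) (hab : IsMulCommutative P)
    (hN : Nat.card (Subgroup.normalizer ((P : Subgroup G) : Set G)) = 4 * Nat.card P)
    (hC : Nat.card (Subgroup.centralizer (P : Set G)) = 2 * Nat.card P)
    (hTI : Cfsg.IsTISubset (Subgroup.centralizer (P : Set G) : Set G))
    (heven : ∀ H : Subgroup G, H ≠ ⊤ → 2 ∣ Nat.card H → Nat.card H ∣ 4 * Nat.card P) :
    ¬ IsSimpleGroup G := by
  classical
  intro hsimple
  haveI := hsimple
  letI := Fintype.ofFinite G
  haveI : Fact (Nat.Prime 2) := ⟨Nat.prime_two⟩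
  haveI : Fact (Nat.Prime 3) := ⟨Nat.prime_three⟩
  haveI := hab
  set n := Nat.card P with hn
  set C := centralizer (P : Set G) with hCdef
  set N := normalizer ((P : Subgroup G) : Set G) with hNdef
  obtain ⟨a, ha⟩ := IsPGroup.iff_card.mp P.2
  have hnodd : Odd n := by rw [hn, ha]; exact (by decide : Odd 3).pow
  have hn3 : 3 ≤ n := by
    rcases Nat.eq_zero_or_pos a with rfl | h
    · exfalso
      have hb : (P : Subgroup G) = ⊥ := Subgroup.card_eq_one.mp (by rw [ha, pow_zero])
      have h1 : C = ⊤ := top_unique fun y _ => mem_centralizer_iff.mpr fun b hb' => by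
        have : b ∈ (P : Subgroup G) := hb'
        rw [hb, mem_bot] at this
        rw [this, one_mul, mul_one]
      have h2 : N = ⊤ := top_unique (h1 ▸ Subgroup.centralizer_le_normalizer _)
      have h1' : Nat.card C = Nat.card G := by rw [h1, Subgroup.card_top]
      have h2' : Nat.card N = Nat.card G := by rw [h2, Subgroup.card_top]
      omega
    · rw [hn, ha]
      calc 3 = 3 ^ 1 := by norm_num
        _ ≤ 3 ^ a := Nat.pow_le_pow_right (by norm_num) h
  have hna : ∃ x y : G, x * y ≠ y * x := by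
    by_contra hc
    push Not at hc
    have h1 : C = ⊤ := top_unique fun y _ => mem_centralizer_iff.mpr fun b _ => hc b y
    have h2 : N = ⊤ := top_unique (h1 ▸ Subgroup.centralizer_le_normalizer _)
    have h1' : Nat.card C = Nat.card G := by rw [h1, Subgroup.card_top]
    have h2' : Nat.card N = Nat.card G := by rw [h2, Subgroup.card_top]
    omega
  have hZ : ∀ z : G, z ≠ 1 → centralizer ({z} : Set G) ≠ ⊤ := by
    intro z hz htop
    have hzc : z ∈ center G := mem_center_iff.mpr fun y =>
      mem_centralizer_singleton_iff.mp (htop ▸ mem_top y)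
    rcases IsSimpleGroup.eq_bot_or_eq_top_of_normal (center G) inferInstance with h | h
    · exact hz (mem_bot.mp (h ▸ hzc))
    · obtain ⟨x, y, hxy⟩ := hna
      exact hxy (mem_center_iff.mp (h ▸ mem_top y) x)
  have hcyc : ∀ x : G, zpowers x ≠ ⊤ := by
    intro x h
    obtain ⟨u, v, huv⟩ := hna
    obtain ⟨i, rfl⟩ : ∃ i : ℤ, x ^ i = u := (h ▸ mem_top u : u ∈ zpowers x)
    obtain ⟨j, rfl⟩ : ∃ j : ℤ, x ^ j = v := (h ▸ mem_top v : v ∈ zpowers x)
    exact huv (zpow_mul_comm x i j)
  have hPC : (P : Subgroup G) ≤ C := fun a ha => mem_centralizer_iff.mpr fun b hb =>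
    congrArg Subtype.val (mul_comm' (⟨b, hb⟩ : P) ⟨a, ha⟩)
  have hCN : C ≤ N := Subgroup.centralizer_le_normalizer _
  -- the involution
  obtain ⟨⟨t, htC⟩, ht⟩ := exists_prime_orderOf_dvd_card' (G := C) 2 ⟨n, hC⟩
  rw [Subgroup.orderOf_mk] at ht
  have hidxP : ((P : Subgroup G).subgroupOf C).index = 2 := by
    have h1 := ((P : Subgroup G).subgroupOf C).card_mul_index
    rw [Nat.card_congr (subgroupOfEquivOfLe hPC).toEquiv, hC, mul_comm 2] at h1
    exact Nat.eq_of_mul_eq_mul_left (by omega : 0 < n) h1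
  have hodd1 : ∀ p ∈ (P : Subgroup G), p * p = 1 → p = 1 := by
    intro p hp h
    have h1 : orderOf p ∣ 2 := orderOf_dvd_of_pow_eq_one (by rw [pow_two, h])
    have h2 : orderOf p ∣ n := (P : Subgroup G).orderOf_dvd_natCard hp
    exact orderOf_eq_one_iff.mp (Nat.eq_one_of_dvd_coprimes (Nat.coprime_two_left.mpr hnodd) h1 h2)
  have htP : t ∉ (P : Subgroup G) := fun h => by
    have := hodd1 t h (by rw [← pow_two, ← ht, pow_orderOf_eq_one])
    rw [this, orderOf_one] at ht
    omega
  have hsplit : ∀ y ∈ C, y ∈ (P : Subgroup G) ∨ t * y ∈ (P : Subgroup G) := by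
    intro y hy
    by_cases h : y ∈ (P : Subgroup G)
    · exact Or.inl h
    refine Or.inr ?_
    have := (Subgroup.mul_mem_iff_of_index_two hidxP (a := (⟨t, htC⟩ : C)) (b := ⟨y, hy⟩))
    simp only [mem_subgroupOf] at this
    exact this.mpr (iff_of_false htP h)
  have htt : t * t = 1 := by rw [← pow_two, ← ht, pow_orderOf_eq_one]
  have htcomm : ∀ p ∈ (P : Subgroup G), Commute p t := fun p hp => mem_centralizer_iff.mp htC p hp
  have huniq : ∀ y ∈ C, orderOf y = 2 → y = t := by
    intro y hy hy2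
    have hyy : y * y = 1 := by rw [← pow_two, ← hy2, pow_orderOf_eq_one]
    rcases hsplit y hy with h | h
    · rw [hodd1 y h hyy, orderOf_one] at hy2
      omega
    · have hc := htcomm _ h
      have hyt : Commute y t := by
        have := (Commute.refl t).mul_left hc
        rwa [← mul_assoc, htt, one_mul] at this
      have h1 := hodd1 _ h (by
        calc t * y * (t * y) = t * (y * t) * y := by group
          _ = (t * t) * (y * y) := by rw [hyt.eq]; group
          _ = 1 := by rw [htt, hyy, mul_one])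
      rw [eq_inv_of_mul_eq_one_right h1]
      exact inv_eq_of_mul_eq_one_right htt
  have hCn : ∀ g ∈ N, ∀ y ∈ C, g * y * g⁻¹ ∈ C := by
    intro g hg y hy
    refine mem_centralizer_iff.mpr fun p hp => ?_
    have h1 : g⁻¹ * p * g ∈ (P : Subgroup G) := (mem_set_normalizer_iff''.mp hg p).mp hp
    have h2 := mem_centralizer_iff.mp hy _ h1
    calc p * (g * y * g⁻¹) = g * (g⁻¹ * p * g * y) * g⁻¹ := by group
      _ = g * (y * (g⁻¹ * p * g)) * g⁻¹ := by rw [h2]
      _ = g * y * g⁻¹ * p := by group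
  have hfix : ∀ y ∈ normalizer (C : Set G), y * t * y⁻¹ = t := by
    intro y hy
    exact huniq _ ((mem_set_normalizer_iff.mp hy t).mp htC) (by rw [← MulAut.conj_apply, MulEquiv.orderOf_eq, ht])
  have htne : t ≠ 1 := fun h => by rw [h, orderOf_one] at ht; omega
  have hNt : N ≤ centralizer ({t} : Set G) := by
    intro g hg
    rw [mem_centralizer_singleton_iff]
    exact mul_inv_eq_iff_eq_mul.mp (huniq _ (hCn g hg t htC) (by rw [← MulAut.conj_apply, MulEquiv.orderOf_eq, ht]))
  have hNle : ∀ z : G, z ≠ 1 → z * z = 1 → Nat.card (centralizer ({z} : Set G)) ∣ 4 * n := by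
    intro z hz hzz
    refine heven _ (hZ z hz) ?_
    rw [← orderOf_eq_prime (p := 2) (by rw [pow_two, hzz]) hz]
    exact Subgroup.orderOf_dvd_natCard _ (mem_centralizer_singleton_iff.mpr rfl)
  have hcent : centralizer ({t} : Set G) = N := (Subgroup.eq_of_le_of_card_ge hNt
    ((Nat.le_of_dvd (by omega) (hNle t htne htt)).trans hN.ge)).symm
  -- a Sylow 2-subgroup
  obtain ⟨S, hS⟩ := (IsPGroup.of_card (G := zpowers t) (p := 2) (n := 1)
    (by rw [Nat.card_zpowers, ht, pow_one])).exists_le_sylow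
  have htS : t ∈ (S : Subgroup G) := hS (mem_zpowers t)
  have hS4 : Nat.card (S : Subgroup G) = 4 := by
    obtain ⟨e, he⟩ := IsPGroup.iff_card.mp S.2
    have h4 : 2 ^ 2 ∣ Nat.card (S : Subgroup G) := by
      refine S.pow_dvd_card_of_pow_dvd_card ?_
      exact dvd_trans ⟨n, by rw [hN]; ring⟩ N.card_subgroup_dvd_card
    haveI : Nontrivial (S : Subgroup G) := nontrivial_iff.mpr ⟨⟨t, htS⟩, 1, fun h => htne (congrArg Subtype.val h)⟩
    have := S.2.center_nontrivial
    obtain ⟨⟨w, hw⟩, hw1⟩ := exists_ne (1 : center (S : Subgroup G))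
    have hwG : (w : G) ≠ 1 := fun h => hw1 (Subtype.ext (Subtype.ext h))
    obtain ⟨i, hi⟩ := IsPGroup.iff_orderOf.mp S.2 w
    have hi0 : i ≠ 0 := fun h => hw1 (Subtype.ext (orderOf_eq_one_iff.mp (by rw [hi, h, pow_zero])))
    set z := (w : G) ^ (2 ^ (i - 1)) with hz
    have hz1 : z ≠ 1 := by
      intro h
      have h1 := orderOf_dvd_of_pow_eq_one h
      rw [Subgroup.orderOf_coe, hi, Nat.pow_dvd_pow_iff_le_right (by norm_num)] at h1
      omega
    have hzz : z * z = 1 := by
      rw [hz, ← pow_add, ← two_mul, ← pow_succ', show i - 1 + 1 = i by omega, ← hi, ← Subgroup.orderOf_coe,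
        pow_orderOf_eq_one]
    have hle : (S : Subgroup G) ≤ centralizer ({z} : Set G) := fun y hy => by
      rw [mem_centralizer_singleton_iff, hz]
      exact (Commute.pow_right (congrArg Subtype.val (mem_center_iff.mp hw ⟨y, hy⟩) : Commute y (w : G)) _).eq
    have h5 := (card_dvd_of_le hle).trans (hNle z hz1 hzz)
    rw [he] at h4 h5 ⊢
    have h6 : 2 ^ e ∣ 2 ^ 2 := (Nat.Coprime.pow_left e (Nat.coprime_two_left.mpr hnodd)).dvd_of_dvd_mul_right h5
    exact Nat.dvd_antisymm h6 h4
  obtain ⟨g₀, hg₀⟩ : 4 ∣ Nat.card G := hS4 ▸ (S : Subgroup G).card_subgroup_dvd_card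
  have hnc : ¬ ∃ K : Subgroup G, K.Normal ∧ Nat.card K = g₀ := by
    rintro ⟨K, hK, hKc⟩
    have hlt : 4 < Nat.card G := by
      have h1 : 4 * n ≤ Nat.card G := hN ▸ N.card_le_card_group
      omega
    rcases IsSimpleGroup.eq_bot_or_eq_top_of_normal K hK with h | h
    · rw [h, Subgroup.card_bot] at hKc; omega
    · rw [h, Subgroup.card_top] at hKc; omega
  obtain ⟨hexp, hone⟩ := klein_of_no_complement hg₀ hnc S hS4 htS ht
  have hScomm : ∀ b ∈ (S : Subgroup G), ∀ c ∈ (S : Subgroup G), Commute b c :=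
    fun b hb c hc => commute_of_sq_eq_one hexp hb hc
  have hSN : (S : Subgroup G) ≤ N := fun y hy => hcent ▸ mem_centralizer_singleton_iff.mpr (hScomm y hy t htS).eq
  have hSC : ∀ y ∈ (S : Subgroup G), y ∈ C → y = 1 ∨ y = t := by
    intro y hy hyC
    by_cases h1 : y = 1
    · exact Or.inl h1
    · exact Or.inr (huniq y hyC (orderOf_eq_prime (by rw [pow_two, hexp y hy]) h1))
  obtain ⟨u, huS, hu1, hut⟩ : ∃ u ∈ (S : Subgroup G), u ≠ 1 ∧ u ≠ t := by
    by_contra h
    push Not at h
    have hsub : Finset.univ.filter (fun g => g ∈ (S : Subgroup G)) ⊆ {1, t} := fun g hg => by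
      by_cases hg1 : g = 1
      · simp [hg1]
      · simp [h g (Finset.mem_filter.1 hg).2 hg1]
    have := (Finset.card_le_card hsub).trans Finset.card_le_two
    rw [← Fintype.card_subtype, ← Nat.card_eq_fintype_card] at this
    omega
  have huC : u ∉ C := fun h => (hSC u huS h).elim hu1 hut
  have huu : u * u = 1 := hexp u huS
  have hui : u⁻¹ = u := inv_eq_of_mul_eq_one_right huu
  have hu2 : orderOf u = 2 := orderOf_eq_prime (by rw [pow_two, huu]) hu1
  obtain ⟨g, hg⟩ : ∃ g ∈ normalizer ((S : Subgroup G) : Set G), g * t * g⁻¹ = u := by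
    obtain ⟨h, hh⟩ := isConj_iff.mp (hone t u ht hu2)
    have hcS : ∀ y ∈ (S : Subgroup G), y ∈ centralizer ((S : Subgroup G) : Set G) := fun y hy =>
      mem_centralizer_iff.mpr fun b hb => (hScomm b hb y hy).eq
    have e : (h⁻¹)⁻¹ * t * h⁻¹ = u := by rw [inv_inv, hh]
    obtain ⟨m, hm, hm'⟩ := S.conj_eq_normalizer_conj_of_mem_centralizer t h⁻¹ (hcS t htS) (e ▸ hcS u huS)
    exact ⟨m⁻¹, inv_mem hm, by rw [inv_inv, ← hm', e]⟩
  -- `u` inverts `P`
  have hPN : ∀ y ∈ N, ∀ k : ℕ, orderOf y = 3 ^ k → y ∈ (P : Subgroup G) := by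
    intro y hy k hk
    have h1 : IsPGroup 3 (zpowers y) := IsPGroup.of_card (n := k) (by rw [Nat.card_zpowers, hk])
    have hle := h1.to_sup_of_normal_right' P.2 (zpowers_le.2 hy)
    exact (P.3 hle le_sup_right) ▸ (le_sup_left : _ ≤ zpowers y ⊔ (P : Subgroup G)) (mem_zpowers y)
  have hfp : ∀ c ∈ (P : Subgroup G), Commute u c → c = 1 := by
    intro c hc huc
    by_contra hc1
    have hcS : ∀ y ∈ (S : Subgroup G), Commute c y := by
      intro y hy
      by_cases hy1 : y = 1
      · rw [hy1]; exact Commute.one_right c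
      by_cases hyC : y ∈ C
      · exact mem_centralizer_iff.mp hyC c hc
      by_cases hyu : y * u ∈ C
      · have h1 : Commute c (y * u) := mem_centralizer_iff.mp hyu c hc
        have := h1.mul_right huc.symm
        rwa [mul_assoc, huu, mul_one] at this
      · exfalso
        have hy' := hSC _ (mul_mem (mul_mem hy huS) htS)
        have hidx2 : (C.subgroupOf N).index = 2 := by
          have h1 := (C.subgroupOf N).card_mul_index
          rw [Nat.card_congr (subgroupOfEquivOfLe hCN).toEquiv, hN, hC,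
            show 4 * n = 2 * n * 2 by ring] at h1
          exact Nat.eq_of_mul_eq_mul_left (by omega : 0 < 2 * n) h1
        have := (Subgroup.mul_mem_iff_of_index_two hidx2 (a := (⟨y, hSN hy⟩ : N)) (b := ⟨u, hSN huS⟩))
        simp only [mem_subgroupOf] at this
        exact hyu (this.mpr (iff_of_false hyC huC))
    have hgc : g * c * g⁻¹ ∈ centralizer ({t} : Set G) := by
      rw [mem_centralizer_singleton_iff]
      have h1 : g⁻¹ * t * g ∈ (S : Subgroup G) := (mem_set_normalizer_iff''.mp hg.1 t).mp htS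
      calc g * c * g⁻¹ * t = g * (c * (g⁻¹ * t * g)) * g⁻¹ := by group
        _ = g * ((g⁻¹ * t * g) * c) * g⁻¹ := by rw [(hcS _ h1).eq]
        _ = t * (g * c * g⁻¹) := by group
    obtain ⟨k, hk⟩ := IsPGroup.iff_orderOf.mp P.2 ⟨c, hc⟩
    rw [Subgroup.orderOf_mk] at hk
    have hgP := hPN _ (hcent ▸ hgc) k (by rw [← MulAut.conj_apply, MulEquiv.orderOf_eq, hk])
    by_cases hgn : g ∈ normalizer (C : Set G)
    · exact hut (hg.2.symm.trans (hfix g hgn))
    · exact hc1 (hTI g hgn c (hPC hc) (hPC hgP))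
  have huN : u ∈ N := hSN huS
  have hinvert : ∀ c ∈ (P : Subgroup G), u * c * u = c⁻¹ := by
    intro c hc
    have hc' : u * c * u ∈ (P : Subgroup G) := by
      have := (mem_set_normalizer_iff.mp huN c).mp hc
      rwa [hui] at this
    have h := hfp _ (mul_mem hc hc') (mul_inv_eq_iff_eq_mul.mp (show u * (c * (u * c * u)) * u⁻¹ = c * (u * c * u) by
      rw [hui]
      calc u * (c * (u * c * u)) * u = (u * c * u) * c * (u * u) := by group
        _ = (u * c * u) * c := by rw [huu, mul_one]
        _ = c * (u * c * u) := congrArg Subtype.val (mul_comm' (⟨_, hc'⟩ : P) ⟨c, hc⟩)))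
    exact eq_inv_of_mul_eq_one_right h
  have hidxN : (C.subgroupOf N).index = 2 := by
    have h1 := (C.subgroupOf N).card_mul_index
    rw [Nat.card_congr (subgroupOfEquivOfLe hCN).toEquiv, hN, hC, show 4 * n = 2 * n * 2 by ring] at h1
    exact Nat.eq_of_mul_eq_mul_left (by omega : 0 < 2 * n) h1
  have hut' : u * t * u = t := by rw [(hScomm u huS t htS).eq, mul_assoc, huu, mul_one]
  have hsq : ∀ y ∈ N, y ∉ C → y * y = 1 := by
    intro y hy hyC
    have h1 : u * y ∈ C := by
      have := (Subgroup.mul_mem_iff_of_index_two hidxN (a := (⟨u, huN⟩ : N)) (b := ⟨y, hy⟩))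
      simp only [mem_subgroupOf] at this
      exact this.mpr (iff_of_false huC hyC)
    set d := u * y with hd
    have hy' : y = u * d := by rw [hd, ← mul_assoc, huu, one_mul]
    have hdd : u * d * u * d = 1 := by
      rcases hsplit d h1 with h | h
      · rw [hinvert d h, inv_mul_cancel]
      · have e : d = t * (t * d) := by rw [← mul_assoc, htt, one_mul]
        have e2 := (htcomm _ h).eq
        calc u * d * u * d = (u * t * u) * (u * (t * d) * u) * (t * (t * d)) := by
              rw [← e]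
              simp only [mul_assoc]
              rw [show u * (u * (t * (d * (u * d)))) = t * (d * (u * d)) by rw [← mul_assoc, huu, one_mul],
                show t * (t * (d * (u * d))) = d * (u * d) by rw [← mul_assoc, htt, one_mul]]
          _ = t * ((t * d)⁻¹ * t) * (t * d) := by rw [hut', hinvert _ h]; group
          _ = t * (t * (t * d)⁻¹) * (t * d) := by rw [((htcomm _ h).inv_left).eq]
          _ = 1 := by rw [← mul_assoc t t, htt, one_mul, inv_mul_cancel]
    rw [hy', ← mul_assoc, hdd]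
  have hL : Local G P t := by
    refine ⟨ht, htC, huniq, hcent, hsq, hfix, fun y hy => ?_, fun s hs => hone t s ht hs⟩
    have h1 : IsPGroup 2 (zpowers y) := by
      obtain ⟨i, -, hi⟩ := (Nat.dvd_prime_pow Nat.prime_two).1 (orderOf_dvd_of_pow_eq_one (show y ^ 2 ^ 2 = 1 from hy))
      exact IsPGroup.of_card (n := i) (by rw [Nat.card_zpowers, hi])
    obtain ⟨Q, hQ⟩ := h1.exists_le_sylow
    obtain ⟨h, hh⟩ := MulAction.exists_smul_eq G Q S
    have h2 : h * y * h⁻¹ ∈ (S : Subgroup G) := by
      rw [← hh]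
      exact Subgroup.smul_mem_pointwise_smul y (MulAut.conj h) _ (hQ (mem_zpowers y))
    calc y * y = h⁻¹ * (h * y * h⁻¹ * (h * y * h⁻¹)) * h := by group
      _ = 1 := by rw [hexp _ h2]; group
  have hCS : centralizer ((S : Subgroup G) : Set G) = (S : Subgroup G) := by
    refine le_antisymm (fun y hy => ?_) fun y hy => mem_centralizer_iff.mpr fun b hb => (hScomm b hb y hy).eq
    have hyu : Commute u y := mem_centralizer_iff.mp hy u huS
    have hyN : y ∈ N := hcent ▸ mem_centralizer_singleton_iff.mpr (mem_centralizer_iff.mp hy t htS).symm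
    have key : ∀ d ∈ C, Commute u d → d ∈ (S : Subgroup G) := by
      intro d hd hdu
      rcases hsplit d hd with h | h
      · rw [hfp d h hdu]; exact one_mem _
      · have := hfp _ h ((hScomm u huS t htS).mul_right hdu)
        rw [eq_inv_of_mul_eq_one_right this]
        exact inv_mem htS
    by_cases hyC : y ∈ C
    · exact key y hyC hyu
    · have h1 : u * y ∈ C := by
        have := (Subgroup.mul_mem_iff_of_index_two hidxN (a := (⟨u, huN⟩ : N)) (b := ⟨y, hyN⟩))
        simp only [mem_subgroupOf] at this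
        exact this.mpr (iff_of_false huC hyC)
      have := mul_mem huS (key _ h1 ((Commute.refl u).mul_right hyu))
      rwa [← mul_assoc, huu, one_mul] at this
  -- counting
  have hm := card_invol_le P hab hL hTI hN hC heven hcyc hsimple
  rw [← hn] at hm
  have hmG : Nat.card G = 4 * n * Nat.card {s : G // orderOf s = 2} := by
    rw [← hN, ← hcent, show Nat.card {s : G // orderOf s = 2} = Nat.card {s : G // IsConj t s} from
      Nat.card_congr (Equiv.subtypeEquivRight fun s => ⟨hone t s ht, fun hc => by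
        obtain ⟨c, rfl⟩ := isConj_iff.mp hc
        rw [← MulAut.conj_apply, MulEquiv.orderOf_eq, ht]⟩), card_isConj, Subgroup.card_mul_index]
  set m := Nat.card {s : G // orderOf s = 2}
  -- the principal block
  obtain ⟨M, hM⟩ := exists_isPModular Nat.prime_two
  have hK4 : IsKleinFour (S : Subgroup G) := by
    haveI : Nontrivial (S : Subgroup G) := Finite.one_lt_card_iff_nontrivial.mp (by omega)
    refine ⟨hS4, (Nat.dvd_prime Nat.prime_two).mp (Monoid.exponent_dvd_of_forall_pow_eq_one fun y => ?_)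
      |>.resolve_left ?_⟩
    · exact Subtype.ext (by rw [Subgroup.coe_pow, pow_two, hexp y y.2]; rfl)
    · rw [Monoid.exp_eq_one_iff]; exact not_subsingleton _
  obtain ⟨ζ₂, ζ₃, ζ₄, ε, hε, d2, d3, d23, d24, d34, hB, hval, c2, c3, c4, -⟩ :=
    Cfsg.Agent.S0948.result M hM S hK4 hone
  obtain ⟨v2, v3, v4⟩ := hval t ht
  have d4 : (ζ₄ : G → ℂ) ≠ fun _ => 1 := fun h => by
    rw [h] at v4
    norm_num at v4
  have hne : ∀ χ : Cfsg.IrrCharacter G, (χ : G → ℂ) ≠ (fun _ => 1) → principal G ≠ χ := fun χ h e =>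
    h (e ▸ rfl)
  have hset : Finset.univ.filter (fun φ : Cfsg.IrrCharacter G => φ ∈ principalBlock M G) =
      {principal G, ζ₂, ζ₃, ζ₄} := by
    ext φ
    simp only [hB, Finset.mem_filter, Finset.mem_univ, true_and, Finset.mem_insert,
      Finset.mem_singleton, Set.mem_ofPred_eq]
    exact or_congr_left ⟨fun h => Subtype.ext h, fun h => by rw [h]; rfl⟩
  have hdeg : ∀ χ : Cfsg.IrrCharacter G, (χ : G → ℂ) ≠ (fun _ => 1) → deg (χ : G → ℂ) ≠ 1 := by
    intro χ hχ h1
    obtain ⟨f, hf⟩ := exists_hom_of_deg_one (isCharacter_of_irr χ.2)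
      (by rw [irr_apply_one_eq_deg, h1, Nat.cast_one])
    refine hχ ?_
    obtain ⟨x, y, hxy⟩ := hna
    have hker : f.ker = ⊤ := (IsSimpleGroup.eq_bot_or_eq_top_of_normal f.ker inferInstance).resolve_left
      fun h => hxy ((MonoidHom.ker_eq_bot_iff f).mp h (by rw [map_mul, map_mul, mul_comm]))
    rw [hf]
    funext y'
    have : f y' = 1 := MonoidHom.mem_ker.mp (hker ▸ mem_top y')
    rw [this, Units.val_one]
  have hform := klein_order_formula hS4 hexp hM hone (J := t) htS ht
  rw [hset, Finset.sum_insert (by simp [hne ζ₂ d2, hne ζ₃ d3, hne ζ₄ d4]),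
    Finset.sum_insert (by simp [d23, d24]), Finset.sum_pair d34, v2, v3, v4, hcent, hN, hmG, hCS, hS4,
    irr_apply_one_eq_deg, irr_apply_one_eq_deg, irr_apply_one_eq_deg, irr_apply_one_eq_deg,
    show deg ((principal G : Cfsg.IrrCharacter G) : G → ℂ) = 1 from charDegree_one (H := G),
    show ((principal G : Cfsg.IrrCharacter G) : G → ℂ) t = 1 from rfl] at hform
  set a2 := deg (ζ₂ : G → ℂ) with ha2
  set a3 := deg (ζ₃ : G → ℂ) with ha3
  set a4 := deg (ζ₄ : G → ℂ) with ha4
  have hreal : 8 * ((4 * n : ℕ) : ℝ) ^ 3 =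
      ((4 * n * m : ℕ) : ℝ) * ((4 : ℕ) : ℝ) ^ 2 * (1 + (1 / (a2 : ℝ) + ((ε : ℝ) / a3 + (-1) / a4))) := by
    apply Complex.ofReal_injective
    push_cast at hform ⊢
    simpa using hform
  rw [charDegree_eq_deg, ← ha2] at c2
  rw [charDegree_eq_deg, ← ha3] at c3
  have p2 : 0 < a2 := deg_irr_pos ζ₂
  have p3 : 0 < a3 := deg_irr_pos ζ₃
  have h2 : 5 ≤ a2 := by
    have := hdeg ζ₂ d2
    rw [← ha2] at this
    omega
  have q2 : (1 : ℝ) / a2 ≤ 1 / 5 := one_div_le_one_div_of_le (by norm_num) (by exact_mod_cast h2)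
  have q3 : (ε : ℝ) / a3 ≤ 1 / 5 := by
    rcases hε with h | h
    · rw [h] at c3 ⊢
      have : 5 ≤ a3 := by
        have := hdeg ζ₃ d3
        rw [← ha3] at this
        omega
      rw [Int.cast_one]
      exact one_div_le_one_div_of_le (by norm_num) (by exact_mod_cast this)
    · rw [h]
      refine le_trans (div_nonpos_of_nonpos_of_nonneg (by norm_num) (Nat.cast_nonneg _)) (by norm_num)
  have q4 : (-1 : ℝ) / a4 ≤ 0 := div_nonpos_of_nonpos_of_nonneg (by norm_num) (Nat.cast_nonneg _)
  have hS' : (1 + (1 / (a2 : ℝ) + ((ε : ℝ) / a3 + (-1) / a4))) ≤ 7 / 5 := by linarith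
  have hmR : (m : ℝ) ≤ 4 * n + 2 * n * (2 * n) := by exact_mod_cast hm
  have hnR : (3 : ℝ) ≤ n := by exact_mod_cast hn3
  push_cast at hreal
  have h9 : (n : ℝ) * (512 * (n : ℝ) ^ 2) ≤ (n : ℝ) * (64 * (4 * n + 2 * n * (2 * n)) * (7 / 5)) := by
    have hm0 : (0 : ℝ) ≤ m := Nat.cast_nonneg _
    calc (n : ℝ) * (512 * (n : ℝ) ^ 2) = 8 * (4 * (n : ℝ)) ^ 3 := by ring
      _ = 4 * n * m * 4 ^ 2 * (1 + (1 / (a2 : ℝ) + ((ε : ℝ) / a3 + (-1) / a4))) := hreal
      _ ≤ 4 * n * m * 4 ^ 2 * (7 / 5) := mul_le_mul_of_nonneg_left hS' (by positivity)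
      _ = (n : ℝ) * (64 * m * (7 / 5)) := by ring
      _ ≤ _ := by gcongr
  have h10 := le_of_mul_le_mul_left h9 (by linarith)
  nlinarith

end Cfsg.Agent.S4018
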