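import Cfsg.Statements.S0700
import Cfsg.Agent.PermGroups.BurnsideMinimal

set_option autoImplicit false
open Cfsg
open scoped Pointwise

namespace Cfsg.Agent.S0700

/-- Burnside's Theorem on doubly transitive groups: a minimal normal subgroup of a finite doubly transitive permutation group is elementary abelian and regular, or simple and primitive. -/
theorem result {α : Type*} [Fintype α] [DecidableEq α] (G : Subgroup (Equiv.Perm α)) (hG : MulAction.IsMultiplyPretransitive G α 2) (N : Subgroup G) [N.Normal] (hN : N ≠ ⊥) (hmin : ∀ M : Subgroup G, M.Normal → M ≤ N → M = ⊥ ∨ M = N) : (IsMulCommutative N ∧ (∃ p : ℕ, p.Prime ∧ ∀ n ∈ N, n ^ p = 1) ∧ ∀ a : α, MulAction.stabilizer N a = ⊥) ∨ (IsSimpleGroup N ∧ MulAction.IsPreprimitive N α) := by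
  classical
  have h2 : ∀ a b c d : α, a ≠ b → c ≠ d → ∃ g : G, g • a = c ∧ g • b = d :=
    fun a b c d hab hcd => (MulAction.is_two_pretransitive_iff.1 hG) hab hcd
  obtain ⟨n₀, hn₀, hn₀1⟩ := (Subgroup.bot_or_exists_ne_one N).resolve_left hN
  obtain ⟨a, ha⟩ : ∃ a : α, n₀ • a ≠ a := by
    by_contra! h
    exact hn₀1 (Subtype.ext (Equiv.ext h))
  have : Nontrivial α := ⟨⟨_, _, ha⟩⟩
  have hprim : MulAction.IsPreprimitive G α := MulAction.isPreprimitive_of_is_two_pretransitive hG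
  have htr : MulAction.IsPretransitive N α := MulAction.IsQuasiPreprimitive.isPretransitive_of_normal (G := G)
    fun h => ha ((h.symm ▸ Set.mem_univ a : a ∈ MulAction.fixedPoints N α) ⟨n₀, hn₀⟩)
  have h2' : ∀ b c : α, b ≠ a → c ≠ a → ∃ g : G, g • a = a ∧ g • b = c := fun b c hb hc =>
    h2 a b a c hb.symm hc.symm
  have hfaith : ∀ x : G, (∀ c : α, x • c = c) → x = 1 := fun x h => Subtype.ext (Equiv.ext h)
  have hfree_bot : ∀ (M : Subgroup G), (∀ x ∈ M, x • a = a → x = 1) → MulAction.IsPretransitive M α →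
      ∀ c : α, ∀ x ∈ M, x • c = c → x = 1 := fun M hM hMt c x hx hxc => by
    obtain ⟨m, rfl⟩ := MulAction.exists_smul_eq M a c
    have h := hM ((m : G)⁻¹ * x * m) (M.mul_mem (M.mul_mem (M.inv_mem m.2) hx) m.2) (by
      rw [mul_smul, mul_smul]
      show (m : G)⁻¹ • x • m • a = a
      rw [hxc]
      exact inv_smul_smul (m : G) a)
    calc x = (m : G) * ((m : G)⁻¹ * x * m) * (m : G)⁻¹ := by group
      _ = 1 := by rw [h, mul_one, mul_inv_cancel]
  by_cases hreg : ∀ x ∈ N, x • a = a → x = 1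
  · -- regular
    left
    obtain ⟨p, hp, hpow⟩ := Cfsg.Lib.PermGroups.BurnsideMinimal.exponent_prime N htr a hreg h2' (fun g hga x hx y hy hyx => by
      have hyeq : y = g * x * g⁻¹ := by
        have h := hreg (y⁻¹ * (g * x * g⁻¹)) (N.mul_mem (N.inv_mem hy) (Subgroup.Normal.conj_mem inferInstance x hx g)) (by
          rw [mul_smul, mul_smul, mul_smul, inv_smul_eq_iff.2 hga.symm, inv_smul_eq_iff, hyx])
        exact inv_mul_eq_one.1 h
      rw [hyeq]
      exact orderOf_injective (MulAut.conj g).toMonoidHom (MulAut.conj g).injective x)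
    have : Fact p.Prime := ⟨hp⟩
    have hpg : IsPGroup p N := fun x => ⟨1, Subtype.ext (by rw [pow_one]; exact hpow x x.2)⟩
    have : Nontrivial N := ⟨⟨⟨n₀, hn₀⟩, 1, fun e => hn₀1 (congrArg Subtype.val e)⟩⟩
    have hZ : (Subgroup.center N).map N.subtype = N := by
      refine ((hmin _ ?_ (Subgroup.map_subtype_le _)).resolve_left ?_)
      · exact ⟨fun x hx g => by
          obtain ⟨z, hz, rfl⟩ := hx
          refine ⟨⟨g * z * g⁻¹, Subgroup.Normal.conj_mem inferInstance z.1 z.2 g⟩, Subgroup.mem_center_iff.2 fun w => Subtype.ext ?_, rfl⟩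
          have h := congrArg Subtype.val (Subgroup.mem_center_iff.1 hz ⟨g⁻¹ * w * g, by simpa using Subgroup.Normal.conj_mem inferInstance w.1 w.2 g⁻¹⟩)
          simp only [Subgroup.coe_mul] at h ⊢
          calc (w : G) * (g * z * g⁻¹) = g * ((g⁻¹ * w * g) * z) * g⁻¹ := by group
            _ = g * (z * (g⁻¹ * w * g)) * g⁻¹ := by rw [h]
            _ = g * z * g⁻¹ * w := by group⟩
      · intro h
        have := hpg.center_nontrivial
        obtain ⟨z, hz⟩ := exists_ne (1 : Subgroup.center N)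
        refine hz (Subtype.ext (Subtype.ext ?_))
        have h3 : ((z : N) : G) ∈ (Subgroup.center N).map N.subtype := ⟨z, z.2, rfl⟩
        rw [h, Subgroup.mem_bot] at h3
        exact h3
    refine ⟨⟨⟨fun x y => ?_⟩⟩, ⟨p, hp, hpow⟩, fun c => ?_⟩
    · obtain ⟨z, hz, hzy⟩ : (y : G) ∈ (Subgroup.center N).map N.subtype := by rw [hZ]; exact y.2
      rw [show y = z from (Subtype.ext hzy).symm]
      exact Subgroup.mem_center_iff.1 hz x
    · exact (Subgroup.eq_bot_iff_forall _).2 fun x hx => Subtype.ext (hfree_bot N hreg htr c x x.2 hx)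
  right
  have hNprim : MulAction.IsPreprimitive N α := by
    refine { toIsPretransitive := htr, isTrivialBlock_of_isBlock := fun {B} hB => ?_ }
    by_contra hBt
    simp only [MulAction.IsTrivialBlock, not_or] at hBt
    have hF := Cfsg.Lib.PermGroups.BurnsideMinimal.frobenius_of_imprimitive h2 N B hB hBt.1 hBt.2
    set H := MulAction.stabilizer N a
    have hH : Cfsg.IsFrobeniusComplement H := by
      refine ⟨fun h => hreg fun x hx hxa => congrArg Subtype.val ((Subgroup.eq_bot_iff_forall _).1 h ⟨x, hx⟩ hxa), fun h => ?_, fun k hk => ?_⟩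
      · have : (⟨n₀, hn₀⟩ : N) ∈ H := h ▸ trivial
        exact ha this
      · refine (Subgroup.eq_bot_iff_forall _).2 fun x hx => ?_
        obtain ⟨hx1, hx2⟩ := Subgroup.mem_inf.1 hx
        obtain ⟨w, hw, hwx⟩ := hx2
        refine hF a (k • a) (fun e => hk (e.symm : k • a = a)) x hx1 ?_
        rw [← hwx]
        show (k * w * k⁻¹) • k • a = k • a
        rw [mul_smul, inv_smul_smul, mul_smul, show w • a = a from hw]
    obtain ⟨K, hK, hKn, hKc⟩ := Cfsg.Lib.Frobenius.exists_kernel hH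
    have hmemK : ∀ x : N, x ∈ K ↔ x = 1 ∨ ∀ c : α, x • c ≠ c := fun x => by
      rw [← SetLike.mem_coe, hK, Cfsg.Lib.Frobenius.mem_kernel_iff]
      refine or_congr_right ⟨fun h c hc => ?_, fun h k hk => ?_⟩
      · obtain ⟨k, rfl⟩ := MulAction.exists_smul_eq N a c
        refine h k ⟨k⁻¹ * x * k, ?_, by show k * (k⁻¹ * x * k) * k⁻¹ = x; group⟩
        show (k⁻¹ * x * k) • a = a
        rw [mul_smul, mul_smul, hc, inv_smul_smul]
      · obtain ⟨w, hw, hwx⟩ := hk
        refine h (k • a) ?_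
        rw [← hwx]
        show (k * w * k⁻¹) • k • a = k • a
        rw [mul_smul, inv_smul_smul, mul_smul, show w • a = a from hw]
    rcases hmin (K.map N.subtype) ⟨fun x hx g => by
        obtain ⟨z, hz, rfl⟩ := hx
        refine ⟨⟨g * z * g⁻¹, Subgroup.Normal.conj_mem inferInstance z.1 z.2 g⟩, (hmemK _).2 ?_, rfl⟩
        rcases (hmemK z).1 hz with h | h
        · left; refine Subtype.ext ?_; rw [h]; simp
        · right
          intro c hc
          refine h (g⁻¹ • c) ?_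
          have hc' : (g * z * g⁻¹) • c = c := hc
          show (z : G) • g⁻¹ • c = g⁻¹ • c
          rw [mul_smul, mul_smul, ← eq_inv_smul_iff] at hc'
          exact hc'⟩
      (Subgroup.map_subtype_le _) with h | h
    · rw [Subgroup.map_eq_bot_iff_of_injective _ N.subtype_injective] at h
      rw [h] at hKc
      exact hH.2.1 (Subgroup.isComplement'_bot_left.1 hKc)
    · have hKtop : K = ⊤ := Subgroup.map_injective N.subtype_injective (h.trans (by rw [← MonoidHom.range_eq_map, Subgroup.range_subtype]))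
      rw [hKtop] at hKc
      exact hH.1 (Subgroup.isComplement'_top_left.1 hKc)
  refine ⟨?_, hNprim⟩
  have hnt : Nontrivial N := ⟨⟨⟨n₀, hn₀⟩, 1, fun e => hn₀1 (congrArg Subtype.val e)⟩⟩
  refine ⟨fun L hL => ?_⟩
  by_contra hne
  push Not at hne
  obtain ⟨M, hMn, hML, hM0, hMmin⟩ : ∃ M : Subgroup N, M.Normal ∧ M ≤ L ∧ M ≠ ⊥ ∧ ∀ M' : Subgroup N, M'.Normal → M' ≤ M → M' = ⊥ ∨ M' = M := by
    obtain ⟨M, ⟨h1, h2a, h3⟩, hm⟩ := (wellFounded_lt (α := Subgroup N)).has_min
      {M | M.Normal ∧ M ≤ L ∧ M ≠ ⊥} ⟨L, hL, le_rfl, hne.1⟩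
    refine ⟨M, h1, h2a, h3, fun M' h4 h5 => ?_⟩
    by_contra! h6
    exact hm M' ⟨h4, h5.trans h2a, h6.1⟩ (lt_of_le_of_ne h5 h6.2)
  have hMtop : M ≠ ⊤ := fun e => hne.2 (top_le_iff.1 (e ▸ hML))
  let cN : G → (N →* N) := fun g =>
    { toFun := fun x => ⟨g * x * g⁻¹, Subgroup.Normal.conj_mem inferInstance x.1 x.2 g⟩
      map_one' := Subtype.ext (by simp)
      map_mul' := fun x y => Subtype.ext (by
        show g * ((x : G) * y) * g⁻¹ = g * x * g⁻¹ * (g * y * g⁻¹)
        group) }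
  have hcN : ∀ g, Function.Bijective (cN g) := fun g => Function.bijective_iff_has_inverse.2 ⟨cN g⁻¹,
    fun x => Subtype.ext (by show g⁻¹ * (g * x * g⁻¹) * g⁻¹⁻¹ = x; group),
    fun x => Subtype.ext (by show g * (g⁻¹ * x * g⁻¹⁻¹) * g⁻¹ = x; group)⟩
  have hconjn : ∀ g, (M.map (cN g)).Normal := fun g => hMn.map _ (hcN g).2
  have hconjmin : ∀ g (M' : Subgroup N), M'.Normal → M' ≤ M.map (cN g) → M' = ⊥ ∨ M' = M.map (cN g) := fun g M' h1 h2a => by
    rcases hMmin (M'.comap (cN g)) inferInstance (fun x hx => by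
      obtain ⟨y, hy, hxy⟩ := h2a hx
      exact (hcN g).1 hxy ▸ hy) with h | h
    · left; rw [← Subgroup.map_comap_eq_self_of_surjective (hcN g).2 M', h, Subgroup.map_bot]
    · right; rw [← Subgroup.map_comap_eq_self_of_surjective (hcN g).2 M', h]
  have htrM : ∀ M' : Subgroup N, M'.Normal → M' ≠ ⊥ → MulAction.IsPretransitive M' α := fun M' h1 h2a =>
    MulAction.IsQuasiPreprimitive.isPretransitive_of_normal (G := N) fun h =>
      h2a ((Subgroup.eq_bot_iff_forall _).2 fun x hx => Subtype.ext (hfaith x.1 fun c =>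
        (h.symm ▸ Set.mem_univ c : c ∈ MulAction.fixedPoints M' α) ⟨x, hx⟩))
  have hcommute : ∀ M₁ M₂ : Subgroup N, M₁.Normal → M₂.Normal → M₁ ⊓ M₂ = ⊥ → ∀ x ∈ M₁, ∀ y ∈ M₂, x * y = y * x :=
    fun M₁ M₂ h1 h2a h3 x hx y hy => Subgroup.commute_of_normal_of_disjoint M₁ M₂ h1 h2a (disjoint_iff.2 h3) x y hx hy
  have hsemi : ∀ M₁ M₂ : Subgroup N, M₁.Normal → M₁ ≠ ⊥ → (∀ x ∈ M₁, ∀ y ∈ M₂, x * y = y * x) →
      ∀ y ∈ M₂, ∀ c : α, y • c = c → y = 1 := fun M₁ M₂ h1 h2a h3 y hy c hc => by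
    refine Subtype.ext (hfaith y.1 fun d => ?_)
    exact Cfsg.Lib.PermGroups.BurnsideMinimal.fixes_all_of_commute (htrM M₁ h1 h2a) (fun m hm => h3 m hm y hy) hc d
  obtain ⟨g₀, hg₀⟩ : ∃ g, M.map (cN g) ≠ M := by
    by_contra! h
    rcases hmin (M.map N.subtype) ⟨fun x hx g => by
        obtain ⟨z, hz, rfl⟩ := hx
        exact ⟨cN g z, h g ▸ ⟨z, hz, rfl⟩, rfl⟩⟩ (Subgroup.map_subtype_le _) with h' | h'
    · exact hM0 ((Subgroup.map_eq_bot_iff_of_injective _ N.subtype_injective).1 h')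
    · exact hMtop (Subgroup.map_injective N.subtype_injective (h'.trans (by rw [← MonoidHom.range_eq_map, Subgroup.range_subtype])))
  set M' := M.map (cN g₀) with hM'
  have hM'0 : M' ≠ ⊥ := fun e => hM0 ((Subgroup.map_eq_bot_iff_of_injective _ (hcN g₀).1).1 e)
  have hdist : ∀ g, M.map (cN g) ≠ M → M ⊓ M.map (cN g) = ⊥ := fun g hg => by
    have := hconjn g
    rcases hMmin (M ⊓ M.map (cN g)) inferInstance inf_le_left with h | h
    · exact h
    · rcases hconjmin g M hMn (inf_eq_left.1 h) with h' | h'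
      · exact absurd h' hM0
      · exact absurd h'.symm hg
  have hMM' := hcommute M M' hMn (hconjn g₀) (hdist g₀ hg₀)
  have hfreeM : ∀ x ∈ M, ∀ c : α, x • c = c → x = 1 := hsemi M' M (hconjn g₀) hM'0 fun x hx y hy => (hMM' y hy x hx).symm
  have hfreeM' : ∀ x ∈ M', ∀ c : α, x • c = c → x = 1 := hsemi M M' hMn hM0 hMM'
  have htrM' := htrM M' (hconjn g₀) hM'0
  have htrMM := htrM M hMn hM0
  -- everything commuting with `M` lies in `M'`
  have hcent : ∀ y : N, (∀ x ∈ M, x * y = y * x) → y ∈ M' := fun y hy => by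
    obtain ⟨w, hw⟩ := MulAction.exists_smul_eq M' a (y • a)
    have h : (w : N)⁻¹ * y = 1 := hsemi M (Subgroup.closure {(w : N)⁻¹ * y}) hMn hM0 (fun x hx z hz => by
        refine Subgroup.closure_induction (fun u hu => ?_) (by simp) (fun u v _ _ hu hv => (show Commute x u from hu).mul_right hv)
          (fun u _ hu => (show Commute x u from hu).inv_right) hz
        rw [Set.mem_singleton_iff] at hu
        rw [hu]
        exact ((show Commute x (w : N) from hMM' x hx w w.2).inv_right).mul_right (show Commute x y from hy x hx))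
      _ (Subgroup.subset_closure rfl) a (by rw [mul_smul, inv_smul_eq_iff]; exact hw.symm)
    rw [← inv_mul_eq_one.1 h]
    exact w.2
  have honly : ∀ g, M.map (cN g) = M ∨ M.map (cN g) = M' := fun g => by
    by_cases h : M.map (cN g) = M
    · exact Or.inl h
    · right
      refine (hconjmin g₀ _ (hconjn g) fun y hy => hcent y fun x hx => hcommute M _ hMn (hconjn g) (hdist g h) x hx y hy).resolve_left fun e => hM0 ((Subgroup.map_eq_bot_iff_of_injective _ (hcN g).1).1 e)
  set MG := M.map N.subtype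
  set MG' := M'.map N.subtype
  have hfG : ∀ x ∈ MG, x • a = a → x = 1 := by
    rintro _ ⟨z, hz, rfl⟩ hza
    rw [hfreeM z hz a hza, map_one]
  have hfG' : ∀ x ∈ MG', x • a = a → x = 1 := by
    rintro _ ⟨z, hz, rfl⟩ hza
    rw [hfreeM' z hz a hza, map_one]
  have htrG : MulAction.IsPretransitive MG α := ⟨fun x y => by
    obtain ⟨z, hz⟩ := MulAction.exists_smul_eq M x y
    exact ⟨⟨_, z.1, z.2, rfl⟩, hz⟩⟩
  obtain ⟨p, hp, hpow⟩ := Cfsg.Lib.PermGroups.BurnsideMinimal.exponent_prime MG htrG a hfG h2' (fun g hga x hx y hy hyx => by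
    obtain ⟨z, hz, rfl⟩ := hx
    have hsame : y • a = (g * (z : G) * g⁻¹) • a := by
      rw [hyx, mul_smul, mul_smul, inv_smul_eq_iff.2 hga.symm]; rfl
    have hord : orderOf (g * (z : G) * g⁻¹) = orderOf (N.subtype z) :=
      orderOf_injective (MulAut.conj g).toMonoidHom (MulAut.conj g).injective _
    have hmem : cN g z ∈ M.map (cN g) := ⟨z, hz, rfl⟩
    rcases honly g with h | h <;> rw [h] at hmem
    · have h3 : (g * (z : G) * g⁻¹) ∈ MG := ⟨cN g z, hmem, rfl⟩
      have h4 := hfG (y⁻¹ * (g * (z : G) * g⁻¹)) (MG.mul_mem (MG.inv_mem hy) h3) (by rw [mul_smul, inv_smul_eq_iff]; exact hsame.symm)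
      rw [inv_mul_eq_one.1 h4, hord]
    · rw [Cfsg.Lib.PermGroups.BurnsideMinimal.orderOf_eq_of_agree hfG hfG' (fun u hu v hv => by
        obtain ⟨u', hu', rfl⟩ := hu
        obtain ⟨v', hv', rfl⟩ := hv
        exact congrArg Subtype.val (hMM' u' hu' v' hv')) hy ⟨cN g z, hmem, rfl⟩ hsame]
      exact hord)
  have : Fact p.Prime := ⟨hp⟩
  have hpg : IsPGroup p M := fun x => ⟨1, Subtype.ext (Subtype.ext (by rw [pow_one]; exact hpow _ ⟨x.1, x.2, rfl⟩))⟩
  have hMnt : Nontrivial M := (Subgroup.nontrivial_iff_ne_bot M).2 hM0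
  rcases hMmin ((Subgroup.center M).map M.subtype) inferInstance (Subgroup.map_subtype_le _) with h | h
  · have := hpg.center_nontrivial
    obtain ⟨z, hz⟩ := exists_ne (1 : Subgroup.center M)
    refine hz (Subtype.ext (Subtype.ext ?_))
    have h3 : ((z : M) : N) ∈ (Subgroup.center M).map M.subtype := ⟨z, z.2, rfl⟩
    rw [h, Subgroup.mem_bot] at h3
    exact h3
  · refine hM0 ((Subgroup.eq_bot_iff_forall _).2 fun y hy => ?_)
    have hyM' : y ∈ M' := hcent y fun x hx => by
      obtain ⟨z, hz, hzy⟩ : y ∈ (Subgroup.center M).map M.subtype := h.symm ▸ hy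
      rw [← hzy]
      exact congrArg Subtype.val (Subgroup.mem_center_iff.1 hz ⟨x, hx⟩)
    have h3 : y ∈ M ⊓ M' := ⟨hy, hyM'⟩
    rw [hdist g₀ hg₀, Subgroup.mem_bot] at h3
    exact h3

end Cfsg.Agent.S0700
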