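import Cfsg.Statements.S3225
import Mathlib

set_option autoImplicit false
open Cfsg

namespace Cfsg.Agent.S3225

/-- Let G be a finite group of even order with no subgroup of index 2, S a Sylow 2-subgroup of G and M a subgroup of index 2 in S such that, for some n ≥ 1, every element of S outside M has order greater than 2^(n−1). Then every element of S of order 2ⁿ is conjugate in G to an element of M. -/
theorem result {G : Type*} [Group G] [Finite G] (hev : Even (Nat.card G))
    (hG : ∀ H : Subgroup G, H.index ≠ 2) (S : Sylow 2 G) (M : Subgroup G) (hMS : M ≤ (S : Subgroup G)) (hM : M.relIndex (S : Subgroup G) = 2)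
    (n : ℕ) (hn : 1 ≤ n) (hord : ∀ y ∈ (S : Subgroup G), y ∉ M → 2 ^ (n - 1) < orderOf y)
    (x : G) (hx : x ∈ (S : Subgroup G)) (hxn : orderOf x = 2 ^ n) :
    ∃ g : G, g * x * g⁻¹ ∈ M := by
  classical
  have : Fact (Nat.Prime 2) := ⟨Nat.prime_two⟩
  by_contra hno
  push Not at hno
  let φ := Subgroup.subgroupOf M (S : Subgroup G)
  have hφ : φ.index = 2 := hM
  have : φ.Normal := Subgroup.normal_of_index_eq_two hφ
  have hcard : Nat.card (↥(S : Subgroup G) ⧸ φ) = 2 := hφ
  have : IsCyclic (↥(S : Subgroup G) ⧸ φ) := isCyclic_of_prime_card hcard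
  let : CommGroup (↥(S : Subgroup G) ⧸ φ) := IsCyclic.commGroup
  let π : ↥(S : Subgroup G) →* ↥(S : Subgroup G) ⧸ φ := QuotientGroup.mk' φ
  let τ := MonoidHom.transfer π
  let : Fintype (Quotient (MulAction.orbitRel (Subgroup.zpowers x) (G ⧸ (S : Subgroup G)))) := Fintype.ofFinite _
  obtain ⟨z, hz⟩ := (isCyclic_of_prime_card hcard).exists_generator
  have hz2 : ∀ w : ↥(S : Subgroup G) ⧸ φ, w ≠ 1 → w = z := fun w hw => by
    have hz1 : z ≠ 1 := fun e => by
      obtain ⟨i, hi⟩ := Subgroup.mem_zpowers_iff.1 (hz w)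
      rw [e, one_zpow] at hi
      exact hw hi.symm
    obtain ⟨a, b, -, hab⟩ := Nat.card_eq_two_iff.1 hcard
    have h1 : ∀ v, v = a ∨ v = b := fun v => by
      have : v ∈ ({a, b} : Set _) := hab ▸ Set.mem_univ v
      simpa using this
    rcases h1 w with rfl | rfl <;> rcases h1 z with rfl | rfl <;> rcases h1 1 with h | h <;>
      first | rfl | exact absurd h.symm hw | exact absurd h.symm hz1
  have hfac : ∀ q : Quotient (MulAction.orbitRel (Subgroup.zpowers x) (G ⧸ (S : Subgroup G))),
      π ⟨q.out.out⁻¹ * x ^ Function.minimalPeriod (x • ·) q.out * q.out.out,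
        QuotientGroup.out_conj_pow_minimalPeriod_mem (S : Subgroup G) x q.out⟩ =
      z ^ (Function.minimalPeriod (x • ·) q.out % 2) := by
    intro q
    have hdvd : Function.minimalPeriod (x • ·) q.out ∣ 2 ^ n := by
      rw [← hxn]
      refine Function.IsPeriodicPt.minimalPeriod_dvd ?_
      show (x • ·)^[orderOf x] q.out = q.out
      rw [smul_iterate, pow_orderOf_eq_one]; exact one_smul _ _
    obtain ⟨j, hjn, hj⟩ := (Nat.dvd_prime_pow Nat.prime_two).1 hdvd
    rcases Nat.eq_zero_or_pos j with rfl | hj0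
    · rw [show Function.minimalPeriod (x • ·) q.out % 2 = 1 by rw [hj]; rfl, pow_one]
      refine hz2 _ fun h => hno q.out.out⁻¹ ?_
      rw [inv_inv]
      have h' := (QuotientGroup.eq_one_iff _).1 h
      rw [Subgroup.mem_subgroupOf] at h'
      simpa [hj] using h'
    · rw [show Function.minimalPeriod (x • ·) q.out % 2 = 0 by rw [hj, Nat.pow_mod, Nat.mod_self, zero_pow hj0.ne', Nat.zero_mod], pow_zero]
      refine (QuotientGroup.eq_one_iff _).2 ?_
      rw [Subgroup.mem_subgroupOf]
      by_contra hout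
      simp only [hj] at hout
      set y := q.out.out⁻¹ * x ^ (2 ^ j) * q.out.out
      have hy : y ∈ (S : Subgroup G) := by
        have := QuotientGroup.out_conj_pow_minimalPeriod_mem (S : Subgroup G) x q.out
        rwa [show Function.minimalPeriod (x • ·) q.out = 2 ^ j from hj] at this
      have hoy : orderOf y = 2 ^ (n - j) := by
        have e := (MulAut.conj q.out.out⁻¹).orderOf_eq (x ^ 2 ^ j)
        rw [MulAut.conj_apply, inv_inv, orderOf_pow_of_dvd (by positivity) (hxn ▸ pow_dvd_pow 2 hjn), hxn, Nat.pow_div hjn two_pos] at e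
        exact e
      have := hord y hy hout
      rw [hoy] at this
      have := (Nat.pow_lt_pow_iff_right one_lt_two).1 this
      omega
  have hsum : (S : Subgroup G).index = ∑ q : Quotient (MulAction.orbitRel (Subgroup.zpowers x) (G ⧸ (S : Subgroup G))), Function.minimalPeriod (x • ·) q.out := by
    have e := Nat.card_congr (Subgroup.quotientEquivSigmaZMod (S : Subgroup G) x)
    rw [Nat.card_sigma] at e
    simp only [Nat.card_zmod] at e
    exact e
  have hodd : Odd (S : Subgroup G).index := by
    rw [← Nat.not_even_iff_odd, even_iff_two_dvd]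
    exact S.not_dvd_index
  have hτx : τ x = z := by
    show MonoidHom.transfer π x = z
    rw [MonoidHom.transfer_eq_prod_quotient_orbitRel_zpowers_quot, Finset.prod_congr rfl fun q _ => hfac q,
      Finset.prod_pow_eq_pow_sum]
    have hz2' : z ^ 2 = 1 := by
      have h := pow_card_eq_one' (x := z)
      rwa [hcard] at h
    rw [pow_eq_pow_mod _ hz2', ← Finset.sum_nat_mod, ← hsum, Nat.odd_iff.1 hodd, pow_one]
  have hsurj : τ.range = ⊤ := by
    refine eq_top_iff.2 fun w _ => ?_
    obtain ⟨i, rfl⟩ := Subgroup.mem_zpowers_iff.1 (hz w)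
    exact ⟨x ^ i, by rw [map_zpow, hτx]⟩
  refine hG τ.ker ?_
  rw [Subgroup.index_ker, hsurj, Subgroup.card_top, hcard]

end Cfsg.Agent.S3225
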