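import Cfsg.Statements.S3269
import Cfsg.Agent.S0215
import Cfsg.Agent.Transfer.Fusion
import Cfsg.Agent.Coprime.Sylow

set_option autoImplicit false
open Cfsg

namespace Cfsg.Agent.S3269


open Subgroup
open scoped commutatorElement

section Quat

open QuaternionGroup

theorem quat_unique (n : ℕ) (x : QuaternionGroup (2 ^ n)) (hx : x * x = 1) (hx1 : x ≠ 1) :
    x = a ((2 ^ n : ℕ) : ZMod (2 * 2 ^ n)) := by
  have hne : ((2 ^ n : ℕ) : ZMod (2 * 2 ^ n)) ≠ 0 := by
    rw [Ne, ZMod.natCast_eq_zero_iff]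
    intro h
    have := Nat.le_of_dvd (by positivity) h
    have : 0 < 2 ^ n := by positivity
    omega
  cases x with
  | a i =>
    rw [a_mul_a, one_def] at hx
    have h2 : i + i = 0 := by injection hx
    obtain ⟨j, hj, rfl⟩ : ∃ j : ℕ, j < 2 * 2 ^ n ∧ (j : ZMod (2 * 2 ^ n)) = i :=
      ⟨i.val, ZMod.val_lt i, ZMod.natCast_zmod_val i⟩
    rw [← Nat.cast_add, ZMod.natCast_eq_zero_iff] at h2
    obtain ⟨c, hc⟩ := h2
    have hj0 : j ≠ 0 := fun h => hx1 (by rw [h, Nat.cast_zero, one_def])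
    have hc1 : c = 1 := by
      have h0 : c ≠ 0 := fun h => hj0 (by rw [h, mul_zero] at hc; omega)
      have h2 : c < 2 := by
        by_contra hc2
        push Not at hc2
        have := Nat.mul_le_mul_left (2 * 2 ^ n) hc2
        omega
      omega
    rw [hc1] at hc
    congr 2
    omega
  | xa i =>
    rw [xa_mul_xa, add_sub_cancel_right, one_def] at hx
    injection hx with h
    exact absurd h hne

theorem quat_commutator (n : ℕ) (hn : 1 ≤ n) :
    ∃ u v : QuaternionGroup (2 ^ n), ⁅u, v⁆ = a ((2 ^ n : ℕ) : ZMod (2 * 2 ^ n)) := by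
  refine ⟨xa 0, a ((2 ^ (n - 1) : ℕ) : ZMod (2 * 2 ^ n)), ?_⟩
  rw [commutatorElement_def, mul_inv_eq_iff_eq_mul, mul_inv_eq_iff_eq_mul, xa_mul_a, a_mul_a,
    a_mul_xa, zero_add, zero_sub]
  congr 1
  rw [eq_neg_iff_add_eq_zero, ← Nat.cast_add, ← Nat.cast_add,
    ZMod.natCast_eq_zero_iff]
  obtain ⟨k, rfl⟩ : ∃ k, n = k + 1 := ⟨n - 1, by omega⟩
  rw [Nat.add_sub_cancel, pow_succ]
  exact ⟨1, by ring⟩

end Quat

variable {T : Type*} [Group T] [Finite T]

/-- An involution of a direct factor isomorphic to a given quaternion group. -/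
def IsFactorInvol (n : ℕ) (v : T) : Prop :=
  ∃ Q R : Subgroup T, Cfsg.IsInternalDirectProduct Q R ⊤ ∧
    Nonempty (↥Q ≃* QuaternionGroup (2 ^ n)) ∧ v ∈ Q ∧ orderOf v = 2

theorem sq_of_two {v : T} (hv : orderOf v = 2) : v * v = 1 := by
  rw [← pow_two, ← hv, pow_orderOf_eq_one]

theorem unique_in {n : ℕ} {Q : Subgroup T} (e : ↥Q ≃* QuaternionGroup (2 ^ n)) {u v : T}
    (hu : u ∈ Q) (hv : v ∈ Q) (hu2 : u * u = 1) (hv2 : v * v = 1) (hu1 : u ≠ 1) (hv1 : v ≠ 1) :
    u = v := by
  have h : ∀ {w : T} (hw : w ∈ Q), w * w = 1 → w ≠ 1 →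
      e ⟨w, hw⟩ = QuaternionGroup.a ((2 ^ n : ℕ) : ZMod (2 * 2 ^ n)) := fun {w} hw hw2 hw1 => by
    refine quat_unique n _ ?_ fun h => hw1 ?_
    · rw [← map_mul, ← map_one e]
      congr 1
      exact Subtype.ext hw2
    · exact congrArg Subtype.val (e.injective (h.trans (map_one e).symm))
  exact congrArg Subtype.val (e.injective ((h hu hu2 hu1).trans (h hv hv2 hv1).symm))

theorem factor_central {n : ℕ} {v : T} (hv : IsFactorInvol n v) : v ∈ center T := by
  obtain ⟨Q, R, ⟨-, -, hcomm, -, hsup⟩, ⟨e⟩, hvQ, hv2⟩ := hv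
  have hle : Q ⊔ R ≤ centralizer ({v} : Set T) := by
    refine sup_le (fun q hq => mem_centralizer_singleton_iff.2 ?_)
      (fun r hr => mem_centralizer_singleton_iff.2 (hcomm v hvQ r hr).symm)
    have hv1 : v ≠ 1 := fun h => by rw [h, orderOf_one] at hv2; omega
    have h := unique_in e (mul_mem (mul_mem hq hvQ) (inv_mem hq)) hvQ
      (by rw [show q * v * q⁻¹ * (q * v * q⁻¹) = q * (v * v) * q⁻¹ by group, sq_of_two hv2]; group)
      (sq_of_two hv2) (fun h => hv1 (by simpa using h)) hv1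
    calc q * v = q * v * q⁻¹ * q := by group
      _ = v * q := by rw [h]
  exact mem_center_iff.2 fun t =>
    mem_centralizer_singleton_iff.1 (hle (hsup.symm ▸ mem_top t))

theorem mem_other {n : ℕ} (hn : 1 ≤ n) {Q R Q' R' : Subgroup T}
    (h : Cfsg.IsInternalDirectProduct Q R ⊤) (e : ↥Q ≃* QuaternionGroup (2 ^ n))
    (h' : Cfsg.IsInternalDirectProduct Q' R' ⊤) (e' : ↥Q' ≃* QuaternionGroup (2 ^ n))
    {v v' : T} (hv : v ∈ Q) (hv2 : orderOf v = 2) (hv' : v' ∈ Q') (hv2' : orderOf v' = 2)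
    (hne : v' ≠ v) : v' ∈ R := by
  classical
  obtain ⟨-, -, hcomm, hinf, hsup⟩ := h
  obtain ⟨-, -, hcomm', hinf', hsup'⟩ := h'
  let f : Q × R →* T := MonoidHom.noncommCoprod Q.subtype R.subtype fun q r => hcomm q q.2 r r.2
  have hf : Function.Bijective f := by
    refine ⟨?_, ?_⟩
    · rw [injective_iff_map_eq_one]
      rintro ⟨q, r⟩ hqr
      have h1 : (q : T) * r = 1 := hqr
      have hq : (q : T) ∈ Q ⊓ R := ⟨q.2, by rw [eq_inv_of_mul_eq_one_left h1]; exact R.inv_mem r.2⟩
      rw [hinf, mem_bot] at hq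
      rw [hq, one_mul] at h1
      exact Prod.ext (Subtype.ext hq) (Subtype.ext h1)
    · rw [← MonoidHom.range_eq_top, eq_top_iff, ← hsup]
      exact sup_le (fun q hq => ⟨(⟨q, hq⟩, 1), mul_one q⟩) fun r hr => ⟨(1, ⟨r, hr⟩), one_mul r⟩
  let ψ := MulEquiv.ofBijective f hf
  let π : T →* Q := (MonoidHom.fst Q R).comp ψ.symm.toMonoidHom
  let ρ : T →* R := (MonoidHom.snd Q R).comp ψ.symm.toMonoidHom
  have hsplit : ∀ t, (π t : T) * ρ t = t := fun t => ψ.apply_symm_apply t
  by_contra hR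
  have hπ : π v' ≠ 1 := fun h1 => hR (by
    have := hsplit v'
    rw [h1, OneMemClass.coe_one, one_mul] at this
    exact this ▸ (ρ v').2)
  have hv1' : v' ≠ 1 := fun h => by rw [h, orderOf_one] at hv2'; omega
  have hcQ : Nat.card Q = 2 ^ (n + 2) := by
    rw [Nat.card_congr e.toEquiv, Nat.card_eq_fintype_card, QuaternionGroup.card, pow_add]; ring
  have hcQ' : Nat.card Q' = Nat.card Q := Nat.card_congr (e'.trans e.symm).toEquiv
  let α : Q' →* Q := π.comp Q'.subtype
  have hinj : Function.Injective α := by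
    rw [← MonoidHom.ker_eq_bot_iff]
    by_contra hk
    have hd : 2 ∣ Nat.card α.ker := by
      have h1 : Nat.card α.ker ∣ 2 ^ (n + 2) := hcQ ▸ hcQ' ▸ card_subgroup_dvd_card _
      obtain ⟨i, -, hi⟩ := (Nat.dvd_prime_pow Nat.prime_two).1 h1
      rcases Nat.eq_zero_or_pos i with rfl | hi0
      · exact absurd (card_eq_one.1 (by simpa using hi)) hk
      · rw [hi]; exact dvd_pow_self 2 hi0.ne'
    haveI := Fact.mk Nat.prime_two
    obtain ⟨⟨⟨y, hyQ⟩, hy⟩, hy2⟩ := exists_prime_orderOf_dvd_card' (G := α.ker) 2 hd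
    rw [Subgroup.orderOf_mk, Subgroup.orderOf_mk] at hy2
    have hy1 : y ≠ 1 := fun h => by rw [h, orderOf_one] at hy2; omega
    have := unique_in e' hyQ hv' (sq_of_two hy2) (sq_of_two hv2') hy1 hv1'
    subst this
    exact hπ hy
  have hQn : ∀ A B : Subgroup T, (∀ a ∈ A, ∀ b ∈ B, a * b = b * a) → A ⊔ B = ⊤ → A.Normal := by
    intro A B hc hs
    rw [← normalizer_eq_top_iff, eq_top_iff, ← hs]
    refine sup_le le_normalizer fun b hb => ?_
    exact (le_centralizer_iff.1 fun a ha => mem_centralizer_iff.2 fun b hb => (hc a ha b hb).symm).trans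
      (centralizer_le_normalizer _) hb
  have hRn : R.Normal := hQn R Q (fun r hr q hq => (hcomm q hq r hr).symm) (by rw [sup_comm, hsup])
  have hdisj : Disjoint Q' R := by
    rw [disjoint_iff, eq_bot_iff]
    rintro x ⟨hxQ, hxR⟩
    have h1 : ψ.symm x = (1, ⟨x, hxR⟩) := ψ.symm_apply_eq.2 (one_mul x).symm
    have h2 : α ⟨x, hxQ⟩ = 1 := congrArg Prod.fst h1
    exact congrArg Subtype.val (hinj (h2.trans (map_one α).symm))
  have hQR : ∀ q ∈ Q', ∀ r ∈ R, q * r = r * q := fun q hq r hr =>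
    (commute_of_normal_of_disjoint Q' R (hQn Q' R' hcomm' hsup') hRn hdisj q r hq hr).eq
  have hρc : ∀ q ∈ Q', ∀ r ∈ R, Commute ((ρ q : R) : T) r := fun q hq r hr => by
    have h1 : ((ρ q : R) : T) = ((π q : Q) : T)⁻¹ * q := eq_inv_mul_of_mul_eq (hsplit q)
    rw [h1]
    exact (Commute.inv_left (hcomm _ (π q).2 r hr)).mul_left (hQR q hq r hr)
  obtain ⟨u, w, huw⟩ := quat_commutator n hn
  have hv'c : v' = ((⁅e'.symm u, e'.symm w⁆ : Q') : T) := by
    rw [← map_commutatorElement, huw]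
    have h2 := e'.symm_apply_apply ⟨v', hv'⟩
    rw [quat_unique n (e' ⟨v', hv'⟩) (by rw [← map_mul, ← map_one e']; congr 1; exact Subtype.ext (sq_of_two hv2'))
      (fun h => hv1' (congrArg Subtype.val (e'.injective (h.trans (map_one e').symm))))] at h2
    rw [h2]
  have hρ1 : ρ v' = 1 := by
    rw [hv'c, ← Subgroup.coe_subtype, ← MonoidHom.comp_apply, map_commutatorElement,
      commutatorElement_eq_one_iff_mul_comm]
    exact Subtype.ext (hρc _ (e'.symm u).2 _ (ρ _).2).eq
  have hv'Q : v' ∈ Q := by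
    have := hsplit v'
    rw [hρ1, OneMemClass.coe_one, mul_one] at this
    exact this ▸ (π v').2
  exact hne (unique_in e hv'Q hv (sq_of_two hv2') (sq_of_two hv2) hv1'
    (fun h => by rw [h, orderOf_one] at hv2; omega))

theorem exists_canonical {n : ℕ} (hn : 1 ≤ n) {Q R : Subgroup T}
    (h : Cfsg.IsInternalDirectProduct Q R ⊤) (e : ↥Q ≃* QuaternionGroup (2 ^ n)) :
    ∃ w : T, w ∈ center T ∧ orderOf w = 2 ∧ ∀ φ : T ≃* T, φ w = w := by
  classical
  haveI := Fintype.ofFinite (center T)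
  haveI := Fact.mk Nat.prime_two
  have hd : 2 ∣ Nat.card Q := by
    rw [Nat.card_congr e.toEquiv, Nat.card_eq_fintype_card, QuaternionGroup.card]; omega
  obtain ⟨⟨v, hvQ⟩, hv2⟩ := exists_prime_orderOf_dvd_card' (G := Q) 2 hd
  rw [Subgroup.orderOf_mk] at hv2
  have hv : IsFactorInvol n v := ⟨Q, R, h, ⟨e⟩, hvQ, hv2⟩
  letI : CommGroup (center T) := { (inferInstance : Group (center T)) with mul_comm := fun a b => Subtype.ext (mem_center_iff.1 b.2 (a : T)) }
  set Z : Finset (center T) := Finset.univ.filter fun (c : center T) => IsFactorInvol n (c : T) with hZ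
  set w : center T := ∏ c ∈ Z, c with hw
  set vc : center T := ⟨v, factor_central hv⟩ with hvc
  have hvZ : vc ∈ Z := Finset.mem_filter.2 ⟨Finset.mem_univ _, hv⟩
  have hw2 : w ^ 2 = 1 := by
    rw [hw, ← Finset.prod_pow]
    refine Finset.prod_eq_one fun c hc => Subtype.ext ?_
    obtain ⟨-, -, -, -, -, hc2⟩ := (Finset.mem_filter.1 hc).2
    rw [Subgroup.coe_pow, OneMemClass.coe_one, pow_two]
    exact sq_of_two hc2
  have hw1 : w ≠ 1 := by
    intro h1
    have hrest : (∏ c ∈ Z.erase vc, c) ∈ R.subgroupOf (center T) := by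
      refine prod_mem fun c hc => ?_
      rw [Finset.mem_erase] at hc
      obtain ⟨Q', R', h', ⟨e'⟩, hc', hc2⟩ := (Finset.mem_filter.1 hc.2).2
      exact mem_subgroupOf.2 (mem_other hn h e h' e' hvQ hv2 hc' hc2 fun e => hc.1 (Subtype.ext e))
    rw [hw, ← Finset.mul_prod_erase Z _ hvZ] at h1
    rw [eq_inv_of_mul_eq_one_right h1, inv_mem_iff, mem_subgroupOf] at hrest
    have : v ∈ Q ⊓ R := ⟨hvQ, hrest⟩
    rw [h.2.2.2.1, mem_bot] at this
    rw [this, orderOf_one] at hv2
    omega
  refine ⟨w, w.2, ?_, fun φ => ?_⟩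
  · rw [Subgroup.orderOf_coe]
    exact orderOf_eq_prime hw2 hw1
  · have key : ∀ (φ : T ≃* T) (x : T), IsFactorInvol n x → IsFactorInvol n (φ x) := by
      rintro φ x ⟨A, B, ⟨-, -, hc, hi, hs⟩, ⟨eA⟩, hxA, hx2⟩
      refine ⟨A.map φ.toMonoidHom, B.map φ.toMonoidHom, ⟨le_top, le_top, ?_, ?_, ?_⟩,
        ⟨((A.equivMapOfInjective _ φ.injective).symm.trans eA)⟩, ⟨x, hxA, rfl⟩,
        (orderOf_injective φ.toMonoidHom φ.injective x).trans hx2⟩
      · rintro _ ⟨a, ha, rfl⟩ _ ⟨b, hb, rfl⟩
        rw [← map_mul, hc a ha b hb, map_mul]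
      · rw [← Subgroup.map_inf _ _ _ φ.injective, hi, Subgroup.map_bot]
      · rw [← Subgroup.map_sup, hs, Subgroup.map_top_of_surjective _ φ.surjective]
    have : Subgroup.centerCongr φ w = w := by
      rw [hw, map_prod]
      refine Finset.prod_equiv (Subgroup.centerCongr φ).toEquiv (fun c => ?_) fun c _ => rfl
      simp only [hZ, Finset.mem_filter, Finset.mem_univ, true_and]
      refine ⟨fun hc => key φ _ hc, fun hc => ?_⟩
      have h2 := key φ.symm _ hc
      have he : φ.symm ((Subgroup.centerCongr φ c : center T) : T) = (c : T) := φ.symm_apply_apply _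
      exact he ▸ h2
    exact congrArg Subtype.val this


/-- Let G be a finite group whose Sylow 2-subgroup S is an internal direct product Q × R with Q generalized quaternion (of order at least 8) and R a subgroup all of whose involutions are central in R. Then G is not simple. In particular no finite simple group has a Sylow 2-subgroup that is a direct product of one or more generalized quaternion groups. -/
theorem result {G : Type*} [Group G] [Finite G]
    (S : Sylow 2 G) (Q R : Subgroup G) (hQR : Cfsg.IsInternalDirectProduct Q R (S : Subgroup G))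
    (n : ℕ) (hn : 1 ≤ n) (eQ : ↥Q ≃* QuaternionGroup (2 ^ n))
    (hR : ∀ r ∈ R, orderOf r = 2 → ∀ s ∈ R, r * s = s * r) :
    ¬ IsSimpleGroup G := by
  classical
  intro hs
  haveI := hs
  haveI := Fact.mk Nat.prime_two
  obtain ⟨hQS, hRS, hcomm, hinf, hsup⟩ := hQR
  set Q' := Q.subgroupOf (S : Subgroup G)
  set R' := R.subgroupOf (S : Subgroup G)
  have hdp : Cfsg.IsInternalDirectProduct Q' R' ⊤ := by
    refine ⟨le_top, le_top, fun a ha b hb => Subtype.ext (hcomm a ha b hb), ?_, ?_⟩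
    · rw [eq_bot_iff]
      intro x hx
      have : (x : G) ∈ Q ⊓ R := hx
      rw [hinf, Subgroup.mem_bot] at this
      exact Subtype.ext this
    · rw [← Subgroup.subgroupOf_sup hQS hRS, hsup, Subgroup.subgroupOf_self]
  obtain ⟨⟨w, hwS⟩, hwc, hw2, hwfix⟩ :=
    exists_canonical hn hdp ((Subgroup.subgroupOfEquivOfLe hQS).trans eQ)
  rw [Subgroup.orderOf_mk] at hw2
  have hcen : ∀ x ∈ (S : Subgroup G), orderOf x = 2 → ∀ s ∈ (S : Subgroup G), s * x = x * s := by
    intro x hx hx2 s hs'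
    have hsplit : ∀ y ∈ (S : Subgroup G), ∃ q ∈ Q, ∃ r ∈ R, q * r = y := fun y hy => by
      have hle : R ≤ Subgroup.normalizer (Q : Set G) :=
        (Subgroup.le_centralizer_iff.1 fun q hq => Subgroup.mem_centralizer_iff.2 fun r hr =>
          (hcomm q hq r hr).symm).trans (Subgroup.centralizer_le_normalizer _)
      rw [← hsup] at hy
      exact (Cfsg.Lib.Coprime.mem_sup_of_le_normalizer hle).1 hy
    obtain ⟨q, hq, r, hr, rfl⟩ := hsplit x hx
    obtain ⟨q', hq', r', hr', rfl⟩ := hsplit s hs'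
    have hsq : q * q * (r * r) = 1 := by
      rw [← sq_of_two hx2, show q * r * (q * r) = q * (r * q) * r by group, ← hcomm q hq r hr]
      group
    have hqq : q * q ∈ Q ⊓ R := ⟨mul_mem hq hq, by
      rw [eq_inv_of_mul_eq_one_left hsq]; exact R.inv_mem (mul_mem hr hr)⟩
    rw [hinf, Subgroup.mem_bot] at hqq
    rw [hqq, one_mul] at hsq
    have hqc : q' * q = q * q' := by
      by_cases hq1 : q = 1
      · simp [hq1]
      have h := unique_in eQ (mul_mem (mul_mem hq' hq) (inv_mem hq')) hq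
        (by rw [show q' * q * q'⁻¹ * (q' * q * q'⁻¹) = q' * (q * q) * q'⁻¹ by group, hqq]; group)
        hqq (fun h => hq1 (by simpa using h)) hq1
      calc q' * q = q' * q * q'⁻¹ * q' := by group
        _ = q * q' := by rw [h]
    have hrc : r' * r = r * r' := by
      by_cases hr1 : r = 1
      · simp [hr1]
      exact (hR r hr (orderOf_eq_prime (by rw [pow_two, hsq]) hr1) r' hr').symm
    calc q' * r' * (q * r) = q' * (r' * q) * r := by group
      _ = q' * (q * r') * r := by rw [hcomm q hq r' hr']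
      _ = (q' * q) * (r' * r) := by group
      _ = (q * q') * (r * r') := by rw [hqc, hrc]
      _ = q * (q' * r) * r' := by group
      _ = q * (r * q') * r' := by rw [hcomm q' hq' r hr]
      _ = q * r * (q' * r') := by group
  have hiso : ∀ g : G, g * w * g⁻¹ ∈ S → g * w * g⁻¹ = w := by
    intro g hg
    have hle : ∀ x ∈ (S : Subgroup G), orderOf x = 2 →
        (S : Subgroup G) ≤ Subgroup.normalizer ({x} : Set G) := fun x hx hx2 s hs' => by
      rw [Subgroup.mem_set_normalizer_iff]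
      intro y
      rw [Set.mem_singleton_iff, Set.mem_singleton_iff]
      have h1 : s * x * s⁻¹ = x := by rw [hcen x hx hx2 s hs']; group
      constructor
      · rintro rfl; exact h1
      · intro h2
        have : y = x := by
          rw [← h1] at h2
          exact mul_left_cancel (mul_right_cancel h2)
        exact this
    have ho : orderOf (g * w * g⁻¹) = 2 := by
      rw [← MulAut.conj_apply, MulEquiv.orderOf_eq, hw2]
    obtain ⟨m, hm, hm'⟩ := Cfsg.Lib.Transfer.burnside_fusion_set S {w} {g * w * g⁻¹}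
      (hle w hwS hw2) (hle _ hg ho) g (by simp)
    rw [Set.image_singleton, Set.singleton_eq_singleton_iff] at hm'
    rw [← hm']
    let φ : ↥(S : Subgroup G) ≃* ↥(S : Subgroup G) := (S : Subgroup G).normalizerMonoidHom ⟨m, hm⟩
    exact congrArg Subtype.val (hwfix φ)
  obtain ⟨N, hN, hNo, hNc⟩ := Cfsg.Agent.S0215.result S w hw2 hwS hiso
  have hcard : 2 ∣ Nat.card G := hw2 ▸ _root_.orderOf_dvd_natCard w
  rcases IsSimpleGroup.eq_bot_or_eq_top_of_normal N hN with h | h
  · have hwZ : w ∈ Subgroup.center G := Subgroup.mem_center_iff.2 fun g => by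
      have := hNc g
      rw [h, Subgroup.mem_bot, ← commutatorElement_def, commutatorElement_eq_one_iff_mul_comm] at this
      exact this.symm
    rcases IsSimpleGroup.eq_bot_or_eq_top_of_normal (Subgroup.center G) inferInstance with hc | hc
    · rw [hc, Subgroup.mem_bot] at hwZ
      rw [hwZ, orderOf_one] at hw2
      omega
    · obtain ⟨u, v, huv⟩ := quat_commutator n hn
      have h1 : ⁅eQ.symm u, eQ.symm v⁆ = 1 := by
        rw [commutatorElement_eq_one_iff_mul_comm]
        exact Subtype.ext ((Subgroup.mem_center_iff.1 (hc ▸ Subgroup.mem_top (eQ.symm v : G)) _))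
      rw [← map_commutatorElement, huv, ← map_one eQ.symm] at h1
      have h2 := eQ.symm.injective h1
      rw [QuaternionGroup.one_def] at h2
      injection h2 with h3
      rw [ZMod.natCast_eq_zero_iff] at h3
      have := Nat.le_of_dvd (by positivity) h3
      have : 0 < 2 ^ n := by positivity
      omega
  · rw [h, Subgroup.card_top] at hNo
    exact hNo.not_two_dvd_nat hcard

end Cfsg.Agent.S3269
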