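import Cfsg.Statements.S4201
import Mathlib

set_option autoImplicit false
open Cfsg

namespace Cfsg.Agent.S4201

/-- If N is a normal subgroup of the finite group X then k(X) ≤ k(N)·k(X ⧸ N), where k denotes the number of conjugacy classes. -/
theorem result {X : Type*} [Group X] [Finite X] (N : Subgroup X) [N.Normal] : Nat.card (ConjClasses X) ≤ Nat.card (ConjClasses N) * Nat.card (ConjClasses (X ⧸ N)) := by
  classical
  set π := QuotientGroup.mk' N
  apply Nat.le_of_mul_le_mul_right (c := Nat.card X) ?_ Nat.card_pos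
  rw [← card_comm_eq_card_conjClasses_mul_card]
  let f : {p : X × X // Commute p.1 p.2} → {p : (X ⧸ N) × (X ⧸ N) // Commute p.1 p.2} :=
    fun z => ⟨(π z.1.1, π z.1.2), z.2.map π⟩
  haveI := Fintype.ofFinite X
  haveI := Fintype.ofFinite (X ⧸ N)
  haveI := Fintype.ofFinite N
  rw [← Nat.card_congr (Equiv.sigmaFiberEquiv f), Nat.card_sigma]
  have hfib : ∀ b : {p : (X ⧸ N) × (X ⧸ N) // Commute p.1 p.2},
      Nat.card {z // f z = b} ≤ Nat.card {p : N × N // Commute p.1 p.2} := by
    intro b
    obtain ⟨x0, hx0⟩ := QuotientGroup.mk'_surjective N b.1.1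
    -- lifts of the first coordinate
    have h1 : Nat.card {z // f z = b} ≤ ∑ n : N, Nat.card {m : N // Commute (x0 * (n : X)) (m : X)} := by
      rw [← Nat.card_sigma]
      have hsel : ∀ n : N, ∃ y0 : X, ∀ y : X, π y = b.1.2 → Commute (x0 * (n : X)) y →
          π y0 = b.1.2 ∧ Commute (x0 * (n : X)) y0 := fun n => by
        by_cases h : ∃ y, π y = b.1.2 ∧ Commute (x0 * (n : X)) y
        · obtain ⟨y, hy⟩ := h; exact ⟨y, fun _ _ _ => hy⟩
        · exact ⟨1, fun y h1 h2 => absurd ⟨y, h1, h2⟩ h⟩
      choose y0 hy0 using hsel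
      have hmem : ∀ z : {z // f z = b}, x0⁻¹ * z.1.1.1 ∈ N := fun z => by
        refine QuotientGroup.eq.1 ?_
        show π x0 = π z.1.1.1
        rw [hx0]; exact (congrArg (fun w => w.1.1) z.2).symm
      have hsnd : ∀ z : {z // f z = b}, π z.1.1.2 = b.1.2 := fun z => congrArg (fun w => w.1.2) z.2
      have hcm : ∀ z : {z // f z = b}, Commute (x0 * ((⟨_, hmem z⟩ : N) : X)) z.1.1.2 := fun z => by
        show Commute (x0 * (x0⁻¹ * z.1.1.1)) z.1.1.2
        rw [mul_inv_cancel_left]; exact z.1.2
      refine Nat.card_le_card_of_injective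
        (fun z => ⟨⟨_, hmem z⟩, ⟨(y0 ⟨_, hmem z⟩)⁻¹ * z.1.1.2, QuotientGroup.eq.1
            ((hy0 _ _ (hsnd z) (hcm z)).1.trans (hsnd z).symm)⟩,
          ((hy0 _ _ (hsnd z) (hcm z)).2.inv_right).mul_right (hcm z)⟩) ?_
      rintro ⟨⟨⟨a, c⟩, hac⟩, hz⟩ ⟨⟨⟨a', c'⟩, hac'⟩, hz'⟩ he
      obtain ⟨e1, e2⟩ := Sigma.mk.inj_iff.1 he
      have ha : a = a' := mul_left_cancel (congrArg Subtype.val e1)
      subst ha
      have h3 := congrArg (fun w => ((w.1 : N) : X)) (eq_of_heq e2)
      simp only [mul_right_inj] at h3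
      subst h3
      rfl
    refine h1.trans ?_
    -- exchange the two coordinates
    calc ∑ n : N, Nat.card {m : N // Commute (x0 * (n : X)) (m : X)}
        = Nat.card (Σ n : N, {m : N // Commute (x0 * (n : X)) (m : X)}) := Nat.card_sigma.symm
      _ = Nat.card (Σ m : N, {n : N // Commute (x0 * (n : X)) (m : X)}) :=
          Nat.card_congr
            { toFun := fun w => ⟨w.2.1, w.1, w.2.2⟩
              invFun := fun w => ⟨w.2.1, w.1, w.2.2⟩
              left_inv := fun w => rfl
              right_inv := fun w => rfl }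
      _ = ∑ m : N, Nat.card {n : N // Commute (x0 * (n : X)) (m : X)} := Nat.card_sigma
      _ ≤ ∑ m : N, Nat.card {n : N // Commute n m} := by
          refine Finset.sum_le_sum fun m _ => ?_
          by_cases h : Nonempty {n : N // Commute (x0 * (n : X)) (m : X)}
          · obtain ⟨⟨n0, hn0⟩⟩ := h
            refine Nat.card_le_card_of_injective (fun n => ⟨n0⁻¹ * n.1, ?_⟩) ?_
            · have h4 := hn0.inv_left.mul_left n.2
              rw [mul_inv_rev, mul_assoc, inv_mul_cancel_left] at h4
              exact Subtype.ext h4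
            · intro a c he
              exact Subtype.ext (mul_left_cancel (congrArg Subtype.val he))
          · haveI := not_nonempty_iff.1 h
            rw [Nat.card_of_isEmpty]; exact Nat.zero_le _
      _ = Nat.card {p : N × N // Commute p.1 p.2} := by
          rw [← Nat.card_sigma]
          exact Nat.card_congr
            { toFun := fun w => ⟨(w.2.1, w.1), w.2.2⟩
              invFun := fun w => ⟨w.1.2, w.1.1, w.2⟩
              left_inv := fun w => rfl
              right_inv := fun w => rfl }
  calc ∑ b, Nat.card {z // f z = b}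
      ≤ ∑ _b : {p : (X ⧸ N) × (X ⧸ N) // Commute p.1 p.2}, Nat.card {p : N × N // Commute p.1 p.2} :=
        Finset.sum_le_sum fun b _ => hfib b
    _ = Nat.card {p : (X ⧸ N) × (X ⧸ N) // Commute p.1 p.2} * Nat.card {p : N × N // Commute p.1 p.2} := by
        rw [Finset.sum_const, Finset.card_univ, smul_eq_mul, ← Nat.card_eq_fintype_card]
    _ = _ := by
        rw [card_comm_eq_card_conjClasses_mul_card, card_comm_eq_card_conjClasses_mul_card,
          Subgroup.card_eq_card_quotient_mul_card_subgroup N]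
        ring

end Cfsg.Agent.S4201
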