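import Cfsg.Statements.S3783
import Mathlib
import Cfsg.Prelude
import Cfsg.Agent.SolvStruct.PLengthSeries
import Cfsg.Agent.HallHigman.Abelian
import Cfsg.Agent.HallHigman.Drop
import Cfsg.Agent.GaschutzYen.Basic
import Cfsg.Agent.S4748

set_option autoImplicit false
open Cfsg

namespace Cfsg.Agent.S3783

open Subgroup

universe u

variable {p : ℕ} [hp : Fact p.Prime]

/-- Abelian Sylow subgroups for the primes other than `p`. -/
def AbHyp (p : ℕ) (G : Type*) [Group G] : Prop :=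
  ∀ (q : ℕ) [Fact q.Prime], q ≠ p → ∀ Q : Sylow q G, IsMulCommutative (Q : Subgroup G)

theorem AbHyp.map {G H : Type*} [Group G] [Group H] [Finite G] (h : AbHyp p G) (f : G →* H) (hf : Function.Surjective f) :
    AbHyp p H := by
  intro q _ hq Q
  obtain ⟨S, rfl⟩ := Sylow.mapSurjective_surjective hf q Q
  haveI := h q hq S
  exact Subgroup.map_isMulCommutative _ f

theorem exp_map {G H : Type*} [Group G] [Group H] [Finite G] {n : ℕ} (f : G →* H) (hf : Function.Surjective f)
    (h : ∀ (P : Sylow p G), ∀ x ∈ (P : Subgroup G), x ^ p ^ n = 1) :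
    ∀ (P : Sylow p H), ∀ x ∈ (P : Subgroup H), x ^ p ^ n = 1 := by
  intro P x hx
  obtain ⟨S, rfl⟩ := Sylow.mapSurjective_surjective hf p P
  obtain ⟨y, hy, rfl⟩ := hx
  rw [← map_pow, h S y hy, map_one]

theorem exp_drop {H : Type u} [Group H] [Finite H] (hab : AbHyp p H) (hsol : Cfsg.IsPSolvable p H)
    (hO : Cfsg.pCore p H = ⊥) {V : Type u} [AddCommGroup V] [Module (ZMod p) V] [Finite V]
    (ρ : H →* Module.End (ZMod p) V) (hρ : Function.Injective ρ) (n : ℕ) (x : H) (hx : x ^ p ^ (n + 1) = 1)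
    (hker : (ρ x - 1) ^ (p ^ (n + 1) - 1) = 0) : x ^ p ^ n = 1 := by
  by_contra hy
  set y := x ^ p ^ n with hydef
  set R := Cfsg.pPrimeCore p H
  have hyp : orderOf y = p := orderOf_eq_prime (by rw [hydef, ← pow_mul, ← pow_succ, hx]) hy
  have hRcop := Cfsg.Lib.Components.coprime_card_pPrimeCore (G := H) p
  have hyR : y ∉ R := by
    intro hh
    have h1 : orderOf (⟨y, hh⟩ : R) ∣ Nat.card R := orderOf_dvd_natCard _
    rw [Subgroup.orderOf_mk, hyp] at h1
    exact hp.out.ne_one (Nat.eq_one_of_dvd_coprimes hRcop h1 dvd_rfl)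
  haveI : R.Normal := Cfsg.Lib.Components.pPrimeCore_normal' p
  have hxR : zpowers x ≤ normalizer (R : Set H) := by rw [normalizer_eq_top_iff.2 inferInstance]; exact le_top
  have hcopA : (Nat.card (zpowers x)).Coprime (Nat.card R) := by
    rw [Nat.card_zpowers]
    exact Nat.Coprime.coprime_dvd_left (orderOf_dvd_of_pow_eq_one hx) (hRcop.symm.pow_left _)
  set C := (centralizer ({y} : Set H)).subgroupOf R
  refine hyR (Cfsg.Agent.S4748.centralizer_pPrimeCore_le p hsol hO (mem_centralizer_iff.2 fun r hr => ?_))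
  suffices hC : C = ⊤ by
    have h1 : (⟨r, hr⟩ : R) ∈ C := hC ▸ mem_top _
    exact mem_centralizer_singleton_iff.1 h1
  rw [← index_eq_one, Nat.eq_one_iff_not_exists_prime_dvd]
  intro q hq hdvd
  haveI := Fact.mk hq
  obtain ⟨T, hT⟩ := Cfsg.Lib.Coprime.exists_invariant_sylow hxR hcopA (Or.inl inferInstance) q
  refine T.not_dvd_index (hdvd.trans (index_dvd_of_le ?_))
  set T₀ := (T : Subgroup R).map R.subtype
  have hTC : ∀ a ∈ T₀, a * y = y * a := by
    by_contra hh
    push Not at hh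
    obtain ⟨a, ha, hne⟩ := hh
    have hTp : IsPGroup q T₀ := T.2.map _
    have hqp : q ≠ p := by
      rintro rfl
      have h1 : (Nat.card T₀).Coprime q := Nat.Coprime.coprime_dvd_left (card_dvd_of_le (map_subtype_le _)) hRcop
      obtain ⟨k, hk⟩ := IsPGroup.iff_card.1 hTp
      rw [hk] at h1
      rcases Nat.eq_zero_or_pos k with rfl | hpos
      · rw [pow_zero] at hk
        rw [eq_bot_of_card_eq T₀ hk, mem_bot] at ha
        exact hne (by rw [ha, one_mul, mul_one])
      · exact hq.ne_one (Nat.eq_one_of_dvd_coprimes h1 (dvd_pow_self q hpos.ne') dvd_rfl)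
    obtain ⟨S, hS⟩ := hTp.exists_le_sylow
    have hab' := hab q hqp S
    haveI hc : IsMulCommutative T₀ := ⟨⟨fun a b => Subtype.ext
      (congrArg (fun w : (S : Subgroup H) => (w : H)) (hab'.is_comm.comm (⟨a, hS a.2⟩ : (S : Subgroup H)) ⟨b, hS b.2⟩))⟩⟩
    obtain ⟨k, hk⟩ := IsPGroup.iff_card.1 hTp
    exact Cfsg.Lib.HallHigman.abelian_core_zmod ρ hρ T₀ hc
      (by rw [hk]; exact ((Nat.coprime_primes hq hp.out).2 hqp).pow_left k) x (hT (mem_zpowers x)) n hx ⟨a, ha, hne⟩ hker
  intro t ht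
  exact mem_centralizer_singleton_iff.2 (hTC _ (mem_map_of_mem _ ht))

theorem main : ∀ (n : ℕ) (G : Type u) [Group G] [Finite G], Cfsg.IsPSolvable p G → AbHyp p G →
    (∀ (P : Sylow p G), ∀ x ∈ (P : Subgroup G), x ^ p ^ n = 1) → Cfsg.PLengthLE p n G := by
  intro n
  induction n with
  | zero =>
    intro G _ _ _ _ hexp
    rw [Cfsg.Lib.PLengthSeries.pLengthLE_zero_iff]
    refine (hp.out.coprime_iff_not_dvd.2 fun hd => ?_).symm
    obtain ⟨x, hx⟩ := exists_prime_orderOf_dvd_card' (G := G) p hd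
    obtain ⟨P, hP⟩ := (IsPGroup.of_card (n := 1) (show Nat.card (zpowers x) = p ^ 1 by
      rw [Nat.card_zpowers, hx, pow_one])).exists_le_sylow
    have h1 := hexp P x (hP (mem_zpowers x))
    rw [pow_zero, pow_one] at h1
    exact hp.out.ne_one (by rw [← hx, h1, orderOf_one])
  | succ n ih =>
    intro G _ _ hsol hab hexp
    set π := QuotientGroup.mk' (Cfsg.pPrimeCore p G)
    have hπ : Function.Surjective π := QuotientGroup.mk'_surjective _
    have hO : Cfsg.pPrimeCore p (G ⧸ Cfsg.pPrimeCore p G) = ⊥ := Cfsg.Lib.Coprime.pPrimeCore_quotient_eq_bot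
    have hsol1 := Cfsg.Lib.GaschutzYen.isPSolvable_quotient (p := p) (Cfsg.pPrimeCore p G) hsol
    have hexp1 := exp_map π hπ hexp
    set ρ := QuotientGroup.mk' (Cfsg.pCore p (G ⧸ Cfsg.pPrimeCore p G))
    have hρ : Function.Surjective ρ := QuotientGroup.mk'_surjective _
    obtain ⟨V, iA, iM, iF, σ, hσ, hnorm⟩ := Cfsg.Lib.HallHigman.exists_faithful_module hsol1 hO (n + 1) hexp1
    have h3 := ih _ (Cfsg.Lib.GaschutzYen.isPSolvable_quotient (p := p) _ hsol1) ((hab.map π hπ).map ρ hρ)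
      (fun P x hx => by
        have hx' := exp_map ρ hρ hexp1 P x hx
        refine exp_drop ((hab.map π hπ).map ρ hρ) (Cfsg.Lib.GaschutzYen.isPSolvable_quotient (p := p) _ hsol1)
          Cfsg.Lib.HallHigman.pCore_quotient_pCore σ hσ n x hx' (hnorm x ?_)
        obtain ⟨k, -, hk⟩ := (Nat.dvd_prime_pow hp.out).1 (orderOf_dvd_of_pow_eq_one hx')
        exact ⟨k, hk⟩)
    have h1 : Cfsg.PLengthLE p 0 π.ker := by
      rw [Cfsg.Lib.PLengthSeries.pLengthLE_zero_iff, QuotientGroup.ker_mk']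
      exact Cfsg.Lib.Components.coprime_card_pPrimeCore p
    have h2 : Cfsg.PLengthLE p 1 ρ.ker := Cfsg.Lib.PLengthSeries.pLengthLE_one_of_isPGroup (by
      rw [QuotientGroup.ker_mk']; exact Cfsg.Lib.Components.isPGroup_pCore p)
    have h4 := Cfsg.Lib.PLengthSeries.pLengthLE_extend π h1 (Cfsg.Lib.PLengthSeries.pLengthLE_extend ρ h2 h3)
    rw [show n + 1 = 0 + (1 + n) by ring]
    exact h4


/-- Let G be a finite p-soluble group in which, for every prime q ≠ p, the Sylow q-subgroups are abelian. If the Sylow p-subgroups of G have exponent dividing p^n, then G has p-length at most n. -/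
theorem result {G : Type*} [Group G] [Finite G] {p : ℕ} [Fact p.Prime] (hG : Cfsg.IsPSolvable p G) (hab : ∀ (q : ℕ) [Fact q.Prime], q ≠ p → ∀ Q : Sylow q G, IsMulCommutative (Q : Subgroup G)) (n : ℕ) (hexp : ∀ (P : Sylow p G), ∀ x ∈ (P : Subgroup G), x ^ p ^ n = 1) : Cfsg.PLengthLE p n G := by
  exact main n G hG (fun q _ hq Q => hab q hq Q) hexp

end Cfsg.Agent.S3783
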