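import Cfsg.Statements.S2412
import Cfsg.Agent.Known.SUTwoGen.Main
import Cfsg.Agent.Classical.Unitary.Matrix

set_option autoImplicit false
open Cfsg

namespace Cfsg.Agent.S2412

/-- The projective special unitary group `PSU_n(q)` with `n ≥ 3`, realised over the field with `q²` elements, `(n, q) ≠ (3, 2)`, is generated by two of its elements. -/
theorem result {F : Type*} [Field F] [Fintype F] {q : ℕ} (hq : IsPrimePow q) (hF : Fintype.card F = q ^ 2) (n : ℕ) (hn : 3 ≤ n) (h32 : n = 3 → q ≠ 2) :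
    ∃ a b : Cfsg.PSU n F q, Subgroup.closure ({a, b} : Set (Cfsg.PSU n F q)) = ⊤ := by
  classical
  obtain ⟨l, rfl⟩ : ∃ l, n = l + 3 := ⟨n - 3, by omega⟩
  obtain ⟨P⟩ := Cfsg.Lib.SUTwoGen.exists_frame (Cfsg.Lib.Classical.stdHerm (l + 3) hF)
    (l := l) (by rw [Module.finrank_fin_fun])
  obtain ⟨a, b, h⟩ := Cfsg.Lib.SUTwoGen.two_gen P fun hl => by
    by_contra hne
    push Not at hne
    have hcard : Nat.card (Cfsg.Lib.Classical.fixedField (Cfsg.Lib.Classical.stdHerm (l + 3) hF).σ) = q :=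
      Cfsg.Lib.Classical.stdHerm_q hF
    have hle : Nat.card (Cfsg.Lib.Classical.fixedField (Cfsg.Lib.Classical.stdHerm (l + 3) hF).σ) ≤
        Nat.card Bool := Nat.card_le_card_of_injective (fun x => decide (x.1 = 0)) fun x y e => by
      have e' : x.1 = 0 ↔ y.1 = 0 := decide_eq_decide.1 e
      refine Subtype.ext ?_
      by_cases hx : x.1 = 0
      · rw [hx, e'.1 hx]
      · rw [hne x.1 x.2 hx, hne y.1 y.2 (fun e => hx (e'.2 e))]
    rw [hcard, Nat.card_eq_fintype_card, Fintype.card_bool] at hle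
    have := hq.two_le
    exact h32 (by omega) (by omega)
  let φ := Cfsg.Lib.Classical.suEquiv (l + 3) hF
  refine ⟨QuotientGroup.mk (φ a), QuotientGroup.mk (φ b), ?_⟩
  have h' := congrArg (Subgroup.map ((QuotientGroup.mk'
    (Subgroup.center (Cfsg.SU (l + 3) F q))).comp φ.toMonoidHom)) h
  rw [MonoidHom.map_closure, Set.image_pair] at h'
  rw [Subgroup.map_top_of_surjective _
    (show Function.Surjective ((QuotientGroup.mk' (Subgroup.center (Cfsg.SU (l + 3) F q))).comp
      φ.toMonoidHom) from (QuotientGroup.mk'_surjective _).comp φ.surjective)] at h'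
  exact h'

end Cfsg.Agent.S2412
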