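import Cfsg.Statements.S0989
import Mathlib
import Cfsg.Agent.Coprime.Basic

set_option autoImplicit false
open Cfsg

namespace Cfsg.Agent.S0989

/-- In the symmetric group on p or p + 1 letters, p a prime, the normalizer of a Sylow p-subgroup has order p * (p - 1). -/
theorem result {α : Type*} [Fintype α] [DecidableEq α] (p : ℕ) [Fact p.Prime] (hα : Fintype.card α = p ∨ Fintype.card α = p + 1) (P : Sylow p (Equiv.Perm α)) : Nat.card ↥(Subgroup.normalizer ((P : Subgroup (Equiv.Perm α)) : Set (Equiv.Perm α))) = p * (p - 1) := by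
  classical
  have hp : p.Prime := Fact.out
  have hfac : p ∣ (Fintype.card α).factorial ∧ ¬ p ^ 2 ∣ (Fintype.card α).factorial := by
    have h0 : ¬ p ∣ (p - 1).factorial := fun h => by
      have h' := hp.dvd_factorial.mp h
      have := hp.two_le
      omega
    have hpf : p.factorial = p * (p - 1).factorial := (Nat.mul_factorial_pred hp.ne_zero).symm
    have h1 : ∀ k, ¬ p ∣ k → p ∣ k * p.factorial ∧ ¬ p ^ 2 ∣ k * p.factorial := by
      intro k hk
      rw [hpf, pow_two, show k * (p * (p - 1).factorial) = p * (k * (p - 1).factorial) by ring]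
      exact ⟨dvd_mul_right _ _, fun h => (hp.not_dvd_mul hk h0) (Nat.dvd_of_mul_dvd_mul_left hp.pos h)⟩
    rcases hα with h | h <;> rw [h]
    · simpa using h1 1 hp.not_dvd_one
    · rw [Nat.factorial_succ]
      exact h1 _ (fun hd => hp.not_dvd_one ((Nat.dvd_add_right (dvd_refl p)).mp hd))
  have hPc : Nat.card (P : Subgroup (Equiv.Perm α)) = p := by
    obtain ⟨k, hk⟩ := IsPGroup.iff_card.mp P.2
    have hd := Subgroup.card_subgroup_dvd_card (P : Subgroup (Equiv.Perm α))
    rw [Nat.card_perm, Nat.card_eq_fintype_card (α := α), hk] at hd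
    have h1 : p ∣ Nat.card (P : Subgroup (Equiv.Perm α)) := P.dvd_card_of_dvd_card (by
      rw [Nat.card_perm, Nat.card_eq_fintype_card (α := α)]; exact hfac.1)
    rcases lt_or_ge k 2 with h2 | h2
    · interval_cases k
      · rw [hk] at h1; exact absurd h1 (by simpa using hp.ne_one)
      · rw [hk, pow_one]
    · exact absurd ((pow_dvd_pow p h2).trans hd) hfac.2
  haveI : IsCyclic (P : Subgroup (Equiv.Perm α)) := isCyclic_of_prime_card hPc
  have hlt : Fintype.card α < 2 * p := by
    have := hp.two_le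
    rcases hα with h | h <;> omega
  have htype : ∀ g : Equiv.Perm α, orderOf g = p → g.cycleType = {p} := by
    intro g hg
    have hg' : (orderOf g).Prime := hg ▸ hp
    obtain ⟨n, hn⟩ := Equiv.Perm.cycleType_prime_order hg'
    have hsum := g.sum_cycleType ▸ g.support.card_le_univ
    rw [hn, Multiset.sum_replicate, hg, smul_eq_mul] at hsum
    have hn0 : n = 0 := by
      by_contra h0
      have : 2 * p ≤ (n + 1) * p := Nat.mul_le_mul_right p (by omega)
      omega
    rw [hn, hn0, hg]; rfl
  obtain ⟨⟨y, hyP⟩, hy⟩ := exists_prime_orderOf_dvd_card' (G := (P : Subgroup (Equiv.Perm α))) p (by rw [hPc])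
  rw [Subgroup.orderOf_mk] at hy
  have hPy : Subgroup.zpowers y = (P : Subgroup (Equiv.Perm α)) :=
    Subgroup.eq_of_le_of_card_ge (Subgroup.zpowers_le.mpr hyP) (by rw [hPc, Nat.card_zpowers, hy])
  have hC : Nat.card (Subgroup.centralizer ({y} : Set (Equiv.Perm α))) = p := by
    rw [Equiv.Perm.nat_card_centralizer, htype y hy]
    rcases hα with h | h <;> simp [h]
  set N := Subgroup.normalizer ((P : Subgroup (Equiv.Perm α)) : Set (Equiv.Perm α)) with hN
  set f := (P : Subgroup (Equiv.Perm α)).normalizerMonoidHom with hf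
  have hker : Nat.card f.ker = p := by
    rw [hf, Subgroup.normalizerMonoidHom_ker,
      Nat.card_congr (Subgroup.subgroupOfEquivOfLe (Subgroup.centralizer_le_normalizer _)).toEquiv,
      ← hPy, Subgroup.zpowers_eq_closure, Subgroup.centralizer_closure, hC]
  have hsurj : Function.Surjective f := by
    intro a
    have hao : orderOf ((a ⟨y, hyP⟩ : (P : Subgroup (Equiv.Perm α))) : Equiv.Perm α) = p := by
      rw [Subgroup.orderOf_coe, MulEquiv.orderOf_eq, Subgroup.orderOf_mk, hy]
    obtain ⟨c, hc⟩ := isConj_iff.mp (Equiv.Perm.isConj_iff_cycleType_eq.mpr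
      ((htype y hy).trans (htype _ hao).symm))
    have hcN : c ∈ N := by
      refine Cfsg.Lib.Coprime.conjMap_eq_self_iff.mp ?_
      rw [← hPy]
      show (Subgroup.zpowers y).map (MulAut.conj c).toMonoidHom = _
      rw [MonoidHom.map_zpowers, show (MulAut.conj c).toMonoidHom y = c * y * c⁻¹ from rfl, hc, hPy]
      exact Subgroup.eq_of_le_of_card_ge (Subgroup.zpowers_le.mpr (a ⟨y, hyP⟩).2)
        (by rw [hPc, Nat.card_zpowers, hao])
    refine ⟨⟨c, hcN⟩, MulEquiv.ext fun z => Subtype.ext ?_⟩
    obtain ⟨i, hi⟩ := Subgroup.mem_zpowers_iff.mp (hPy.ge z.2)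
    have hz : z = ⟨y, hyP⟩ ^ i := Subtype.ext (by rw [← hi]; rfl)
    show c * (z : Equiv.Perm α) * c⁻¹ = ((a z : (P : Subgroup (Equiv.Perm α))) : Equiv.Perm α)
    rw [← hi, ← conj_zpow, hc, hz, map_zpow]
    rfl
  have h1 := f.ker.card_mul_index
  rw [Subgroup.index_ker, MonoidHom.range_eq_top.mpr hsurj, Subgroup.card_top, IsCyclic.card_mulAut, hPc,
    Nat.totient_prime hp, hker] at h1
  exact h1.symm

end Cfsg.Agent.S0989
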