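import Cfsg.Statements.S2472
import Cfsg.Agent.S2469
import Cfsg.Agent.Classical.Misc.SylowLargeSymp
import Cfsg.Agent.Classical.Misc.CommutingUnipotent
import Cfsg.Agent.Classical.Misc.UnitaryCommutingUnipotent
import Cfsg.Agent.Classical.Misc.PrimeOrbitSymp

set_option autoImplicit false
open Cfsg

namespace Cfsg.Agent.S2472

/-- Adjacency of a prime and the characteristic in the prime graph of PSp(2n,q): let F be a finite field of characteristic p with q elements, n ≥ 2 with PSp(2n,F) simple, and let r ≠ p be an odd prime dividing the order of PSp(2n,F), with k the multiplicative order of q modulo r and η(k) = k for odd k, k/2 for even k. Then PSp(2n,F) has NO element of order r·p if and only if η(k) > n − 1. -/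
theorem result {F : Type*} [Field F] [Fintype F] (p : ℕ) [Fact p.Prime] [CharP F p] (n : ℕ) (hn : 2 ≤ n) (hsmall : n = 2 → 3 ≤ Fintype.card F)
    (r : ℕ) (hr : r.Prime) (hr2 : r ≠ 2) (hrp : r ≠ p) (hrG : r ∣ Nat.card (Cfsg.PSp n F))
    (k ηk : ℕ) (hk : k = orderOf ((Fintype.card F : ℕ) : ZMod r)) (hηk : (Odd k ∧ ηk = k) ∨ (Even k ∧ 2 * ηk = k)) :
    (r * p ∉ Set.range (orderOf : Cfsg.PSp n F → ℕ)) ↔ n - 1 < ηk := by
  classical
  haveI := Fact.mk hr
  have hp : p.Prime := Fact.out
  have hq1 : 1 ≤ Fintype.card F := Fintype.card_pos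
  obtain ⟨e, -, he⟩ := FiniteField.card F p
  have hnd : ¬ r ∣ Fintype.card F := fun hd => by
    rw [he] at hd
    exact hrp ((Nat.prime_dvd_prime_iff_eq hr hp).1 (hr.dvd_of_dvd_pow hd))
  have hk0 : 0 < k := hk ▸ orderOf_pos_iff.2 (isOfFinOrder_iff_pow_eq_one.2
    ⟨r - 1, by have := hr.two_le; omega, ZMod.pow_card_sub_one_eq_one fun h => hnd ((ZMod.natCast_eq_zero_iff _ r).1 h)⟩)
  have hηk0 : 1 ≤ ηk := by rcases hηk with ⟨-, h⟩ | ⟨-, h⟩ <;> omega
  have hcZ : (Nat.card (Subgroup.center (Matrix.symplecticGroup (Fin n) F))).Coprime (r * p) := by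
    rw [Cfsg.Lib.Classical.card_center_symplecticGroup (by omega), Nat.card_eq_fintype_card]
    refine Nat.Coprime.mul_right ?_ ?_
    · exact Nat.Coprime.coprime_dvd_left (Nat.gcd_dvd_left _ _) ((Nat.coprime_primes Nat.prime_two hr).2 hr2.symm)
    · refine Nat.Coprime.coprime_dvd_left (Nat.gcd_dvd_right _ _) ?_
      rw [Nat.coprime_comm, hp.coprime_iff_not_dvd]
      intro hd
      have h1 : p ∣ Fintype.card F := he ▸ dvd_pow_self p e.ne_zero
      have h2 := Nat.dvd_sub h1 hd
      rw [Nat.sub_sub_self hq1, Nat.dvd_one] at h2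
      exact hp.ne_one h2
  have hrp2 : 1 < r * p := by have := hr.two_le; have := hp.two_le; nlinarith
  constructor
  · intro hno
    by_contra hc
    apply hno
    obtain ⟨fk1, fk2⟩ := Cfsg.Agent.S2469.half_facts hq1 hk hk0 hηk
    obtain ⟨x, hx⟩ := Cfsg.Agent.S2469.exists_sp_element (F := F) p ηk ηk hηk0 le_rfl r
      ((Nat.even_or_odd k).elim (fun h => Or.inr (fk2 h).2) (fun h => Or.inl (fk1 h)))
    obtain ⟨m, rfl⟩ : ∃ m, n = ηk + m := ⟨n - ηk, by omega⟩
    obtain ⟨t, ht⟩ := Cfsg.Lib.SylowLarge.exists_sp_embedding (F := F) F m 1 (by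
      rw [Module.finrank_self]; omega)
    obtain ⟨u, hu⟩ := exists_prime_orderOf_dvd_card' p
      (Cfsg.Lib.CommUnipotent.prime_dvd_card_SL (F := F) (p := p) (n := 2) le_rfl)
    obtain ⟨y, hy⟩ : ∃ y : Matrix.symplecticGroup (Fin m) F, orderOf y = p := ⟨t (fun _ => u), by
      rw [orderOf_injective t ht]
      exact (orderOf_injective (MonoidHom.pi fun _ : Fin 1 => MonoidHom.id _)
        (fun a b h => congrFun h 0) u).trans hu⟩
    refine ⟨_, Cfsg.Lib.PrimeOrbit.orderOf_mk_of_coprime hcZ (Cfsg.Lib.PrimeOrbitSymp.blockSp ηk m (x, y)) ?_⟩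
    rw [orderOf_injective _ (Cfsg.Lib.PrimeOrbitSymp.blockSp_injective ηk m), Prod.orderOf, hx, hy]
    exact ((Nat.coprime_primes hr hp).2 hrp).lcm_eq_mul
  · rintro hlt ⟨g, hg⟩
    obtain ⟨X, -, hX⟩ := Cfsg.Lib.PrimeOrbit.exists_lift_coprime hrp2 hcZ g hg
    let e' : Fin n ⊕ Fin n ≃ Fin (n + n) := finSumFinEquiv
    let φ : Matrix.symplecticGroup (Fin n) F →* Matrix (Fin (n + n)) (Fin (n + n)) F :=
      ((Matrix.reindexAlgEquiv F F e').toMonoidHom).comp (Matrix.symplecticGroup (Fin n) F).subtype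
    have hφ : Function.Injective φ := (Matrix.reindexAlgEquiv F F e').injective.comp Subtype.val_injective
    have hR : orderOf (X ^ p) = r := by
      rw [orderOf_pow' X hp.ne_zero, hX, Nat.gcd_mul_left_left, Nat.mul_div_cancel _ hp.pos]
    have hU : orderOf (X ^ r) = p := by
      rw [orderOf_pow' X hr.ne_zero, hX, Nat.gcd_mul_right_left, Nat.mul_div_cancel_left _ hr.pos]
    have hnod := Cfsg.Lib.PrimeOrbitSymp.roots_nodup_of_long (p := p) (N := n + n) (ι := Fin n ⊕ Fin n) (by simp) hr hr2 hrp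
      ((X ^ p : Matrix.symplecticGroup (Fin n) F) : Matrix (Fin n ⊕ Fin n) (Fin n ⊕ Fin n) F)
      (by rw [← SubmonoidClass.coe_pow, ← hR, pow_orderOf_eq_one]; rfl)
      (fun h => hr.one_lt.ne (by rw [← hR, show X ^ p = 1 from Subtype.ext h, orderOf_one]))
      (by
        refine Cfsg.Lib.PrimeOrbitSymp.isRoot_inv _ ?_
        have hJ : (Matrix.J (Fin n) F).map (algebraMap F (AlgebraicClosure F)) =
            Matrix.J (Fin n) (AlgebraicClosure F) := by
          ext (i | i) (j | j) <;> simp [Matrix.J, Matrix.one_apply] <;> split <;> simp_all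
        rw [← hJ, ← Matrix.transpose_map, ← Matrix.map_mul, ← Matrix.map_mul, SymplecticGroup.mem_iff.1 (X ^ p).2])
      hk hηk (by omega)
    have hnod' : ((φ (X ^ p)).map (algebraMap F (AlgebraicClosure F))).charpoly.roots.Nodup := by
      have h1 : (φ (X ^ p)).charpoly =
          ((X ^ p : Matrix.symplecticGroup (Fin n) F) : Matrix (Fin n ⊕ Fin n) (Fin n ⊕ Fin n) F).charpoly :=
        Matrix.charpoly_reindex e' _
      rw [Matrix.charpoly_map, h1, ← Matrix.charpoly_map]
      exact hnod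
    haveI : Nonempty (Fin (n + n)) := ⟨⟨0, by omega⟩⟩
    haveI : CharP (Matrix (Fin (n + n)) (Fin (n + n)) F) p := inferInstance
    have hN : IsNilpotent (φ (X ^ r) - 1) := ⟨p, by
      rw [sub_pow_char_of_commute p (Commute.one_right _), one_pow, ← map_pow]
      have h := pow_orderOf_eq_one (X ^ r)
      rw [hU] at h
      rw [h, map_one, sub_self]⟩
    have hc : Commute (φ (X ^ p)) (φ (X ^ r) - 1) :=
      (((Commute.refl X).pow_pow p r).map φ).sub_right (Commute.one_right _)
    have h0 := Cfsg.Lib.UnitaryCommUnipotent.nilpotent_eq_zero_of_nodup _ _ hnod'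
      (hc.map (algebraMap F (AlgebraicClosure F)).mapMatrix) (hN.map (algebraMap F (AlgebraicClosure F)).mapMatrix)
    have h1 : φ (X ^ r) - 1 = 0 := Matrix.map_injective (algebraMap F (AlgebraicClosure F)).injective
      (h0.trans (Matrix.map_zero _ (map_zero _)).symm)
    have h2 : X ^ r = 1 := hφ ((sub_eq_zero.1 h1).trans (map_one φ).symm)
    rw [h2, orderOf_one] at hU
    exact hp.one_lt.ne hU

end Cfsg.Agent.S2472
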