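import Cfsg.Statements.S0602
import Cfsg.Agent.Thompson.ElemToolkit

set_option autoImplicit false
open Cfsg

namespace Cfsg.Agent.S0602

open scoped commutatorElement
open Cfsg.Lib.ElemToolkit

/-- The Thompson subgroup is characteristic, and nontrivial as soon as p divides the group order. -/
theorem result {G : Type*} [Group G] [Finite G] {p : ℕ} [Fact p.Prime] : (Cfsg.thompsonSubgroup p G).Characteristic ∧ (p ∣ Nat.card G → Cfsg.thompsonSubgroup p G ≠ ⊥) := by
  have hmap : ∀ φ : G ≃* G, ∀ A ∈ Cfsg.maxElementaryAbelianSubgroups p G,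
      A.map φ.toMonoidHom ∈ Cfsg.maxElementaryAbelianSubgroups p G := fun φ A hA =>
    ⟨(Cfsg.Lib.Thompson.isElementaryAbelian_map_iff φ.injective.injOn).2 hA.1, fun B hB => by
      rw [Subgroup.card_map_of_injective φ.injective]; exact hA.2 B hB⟩
  refine ⟨Subgroup.characteristic_iff_map_le.2 fun φ => ?_, fun hp h0 => ?_⟩
  · rw [Cfsg.thompsonSubgroup, (Subgroup.gc_map_comap _).l_sSup]
    exact iSup₂_le fun A hA => le_sSup (hmap φ A hA)
  · obtain ⟨x, hx⟩ := exists_prime_orderOf_dvd_card' p hp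
    obtain ⟨A, -, hA, hmax⟩ := Cfsg.Lib.Thompson.exists_isMaxElem (p := p) (⊤ : Subgroup G)
    have h1 : Nat.card (Subgroup.zpowers x) ≤ Nat.card A := hmax _ le_top ⟨inferInstance, fun a ha => by
      obtain ⟨i, rfl⟩ := Subgroup.mem_zpowers_iff.1 ha
      rw [← zpow_natCast (x ^ i), ← zpow_mul, mul_comm, zpow_mul, zpow_natCast, ← hx, pow_orderOf_eq_one, one_zpow]⟩
    have h2 : A ≤ Cfsg.thompsonSubgroup p G := le_sSup ⟨hA, fun B hB => hmax B le_top hB⟩
    rw [h0, le_bot_iff] at h2
    rw [h2, Subgroup.card_bot, Nat.card_zpowers, hx] at h1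
    have := (Fact.out : p.Prime).two_le
    omega

end Cfsg.Agent.S0602
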