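import Cfsg.Statements.S3774
import Mathlib

set_option autoImplicit false
open Cfsg

namespace Cfsg.Agent.S3774

set_option linter.style.haveILetI false


/-- Let G be a nontrivial finite 2-group whose automorphism group permutes the involutions of G transitively. Then every involution of G is central, so that the involutions together with 1 form the subgroup Ω₁(Z(G)), and if this subgroup has order q then |G| is a power of q. -/
theorem result {G : Type*} [Group G] [Finite G] [Nontrivial G] (hG : IsPGroup 2 G) (htrans : ∀ x y : G, x ≠ 1 → x ^ 2 = 1 → y ≠ 1 → y ^ 2 = 1 → ∃ a : MulAut G, a x = y) : (∀ x : G, x ^ 2 = 1 → x ∈ Subgroup.center G) ∧ ∃ m : ℕ, Nat.card G = Nat.card {z : G // z ^ 2 = 1} ^ m := by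
  classical
  haveI := Fintype.ofFinite G
  haveI := hG.center_nontrivial
  obtain ⟨k0, hk0, hk⟩ := (hG.to_subgroup (Subgroup.center G)).nontrivial_iff_card.mp inferInstance
  obtain ⟨z, hz⟩ := exists_prime_orderOf_dvd_card' (G := Subgroup.center G) 2
    (by rw [hk]; exact dvd_pow_self 2 (by omega))
  have hz2 : ((z : G)) ^ 2 = 1 := by rw [← hz, ← Subgroup.orderOf_coe, pow_orderOf_eq_one]
  have hz1 : (z : G) ≠ 1 := fun h => by
    rw [← Subgroup.orderOf_coe, h, orderOf_one] at hz; omega
  have hcen : ∀ x : G, x ^ 2 = 1 → x ∈ Subgroup.center G := fun x hx => by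
    by_cases hx1 : x = 1
    · exact hx1 ▸ one_mem _
    obtain ⟨a, ha⟩ := htrans z x hz1 hz2 hx1 hx
    rw [← ha, Subgroup.mem_center_iff]
    intro g
    obtain ⟨g, rfl⟩ := a.surjective g
    rw [← map_mul, ← map_mul, Subgroup.mem_center_iff.mp z.2 g]
  refine ⟨hcen, ?_⟩
  -- the involutions and the identity form a subgroup
  let Ω : Subgroup G :=
    { carrier := {x | x ^ 2 = 1}
      one_mem' := one_pow 2
      mul_mem' := fun {x y} hx hy => by
        show (x * y) ^ 2 = 1
        rw [(show Commute x y from (Subgroup.mem_center_iff.mp (hcen x hx) y).symm).mul_pow, hx, hy, one_mul]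
      inv_mem' := fun {x} hx => by
        show x⁻¹ ^ 2 = 1
        rw [inv_pow, hx, inv_one] }
  obtain ⟨n, hn⟩ := IsPGroup.iff_card.mp (hG.to_subgroup Ω)
  obtain ⟨M, hM⟩ := IsPGroup.iff_card.mp hG
  have hq : Nat.card {z : G // z ^ 2 = 1} = 2 ^ n := hn
  -- every nonidentity element determines an involution
  let f : G → G := fun x => x ^ (orderOf x / 2)
  have heq : ∀ (a : MulAut G) x, f (a x) = a (f x) := fun a x => by
    simp only [f, MulEquiv.orderOf_eq, map_pow]
  have hf : ∀ x : G, x ≠ 1 → f x ≠ 1 ∧ f x ^ 2 = 1 := fun x hx => by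
    have hd : 2 ∣ orderOf x := by
      obtain ⟨k, hk⟩ := IsPGroup.iff_orderOf.mp hG x
      rcases Nat.eq_zero_or_pos k with h0 | h0
      · exact absurd (orderOf_eq_one_iff.mp (by rw [hk, h0, pow_zero])) hx
      · rw [hk]; exact dvd_pow_self 2 h0.ne'
    have ho : orderOf (f x) = 2 := orderOf_pow_orderOf_div (orderOf_pos x).ne' hd
    exact ⟨fun h => by rw [h, orderOf_one] at ho; omega, by rw [← ho, pow_orderOf_eq_one]⟩
  let S : Finset G := Finset.univ.filter fun x => x ≠ 1
  let T : Finset G := Finset.univ.filter fun x => x ≠ 1 ∧ x ^ 2 = 1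
  have hmaps : ∀ x ∈ S, f x ∈ T := fun x hx => by
    simpa [T] using hf x (by simpa [S] using hx)
  have hfib : ∀ y ∈ T, (S.filter fun x => f x = y).card = (S.filter fun x => f x = (z : G)).card := by
    intro y hy
    simp only [T, Finset.mem_filter, Finset.mem_univ, true_and] at hy
    obtain ⟨a, ha⟩ := htrans z y hz1 hz2 hy.1 hy.2
    refine (Finset.card_bij (fun x _ => a x) (fun x hx => ?_) (fun x _ y _ h => a.injective h)
      (fun w hw => ⟨a.symm w, ?_, a.apply_symm_apply w⟩)).symm
    · simp only [S, Finset.mem_filter, Finset.mem_univ, true_and] at hx ⊢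
      exact ⟨fun h => hx.1 (a.map_eq_one_iff.mp h), by rw [heq, hx.2, ha]⟩
    · simp only [S, Finset.mem_filter, Finset.mem_univ, true_and] at hw ⊢
      refine ⟨fun h => hw.1 (a.symm.map_eq_one_iff.mp h), a.injective ?_⟩
      rw [← heq, a.apply_symm_apply, hw.2, ha]
  have hcount := Finset.card_eq_sum_card_fiberwise hmaps
  rw [Finset.sum_congr rfl hfib, Finset.sum_const, smul_eq_mul] at hcount
  have hS : S.card = 2 ^ M - 1 := by
    rw [← hM, Nat.card_eq_fintype_card]
    simp only [S, Finset.filter_ne', Finset.card_erase_of_mem (Finset.mem_univ _), Finset.card_univ]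
  have hT : T.card = 2 ^ n - 1 := by
    rw [← hq, Nat.card_eq_fintype_card, Fintype.card_subtype]
    rw [show T = (Finset.univ.filter fun x : G => x ^ 2 = 1).erase 1 by ext x; simp [T],
      Finset.card_erase_of_mem (by simp)]
  have hdvd : 2 ^ n - 1 ∣ 2 ^ M - 1 := by
    rw [← hS, ← hT]; exact ⟨_, hcount⟩
  obtain ⟨m, hm⟩ : n ∣ M := by
    have h1 := Nat.gcd_eq_left hdvd
    rw [Nat.pow_sub_one_gcd_pow_sub_one] at h1
    have h2 : 2 ^ (n.gcd M) = 2 ^ n := by
      have := Nat.one_le_two_pow (n := n.gcd M)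
      have := Nat.one_le_two_pow (n := n)
      omega
    rw [← Nat.pow_right_injective le_rfl h2]
    exact Nat.gcd_dvd_right n M
  exact ⟨m, by rw [hq, hM, hm, pow_mul]⟩

end Cfsg.Agent.S3774
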