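import Cfsg.Statements.S3776
import Cfsg.Agent.S3774
import Cfsg.Agent.SuzukiSolv.ClassTwo
import Cfsg.Agent.PGroups.SpecialCoprime

set_option autoImplicit false
open Cfsg
open scoped commutatorElement

namespace Cfsg.Agent.S3776

/-- Let G be a finite non-abelian 2-group with more than one involution admitting a solvable group of automorphisms that permutes its involutions transitively. Then the derived subgroup, the Frattini subgroup and the centre of G coincide and consist exactly of the elements x with x² = 1. -/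
theorem result {G : Type*} [Group G] [Finite G] (hG : IsPGroup 2 G) (hna : ¬ IsMulCommutative G) (htwo : ∃ x y : G, x ≠ y ∧ x ≠ 1 ∧ x ^ 2 = 1 ∧ y ≠ 1 ∧ y ^ 2 = 1) (hY : ∃ Y : Subgroup (MulAut G), Group.IsSolvable Y ∧ ∀ x y : G, x ≠ 1 → x ^ 2 = 1 → y ≠ 1 → y ^ 2 = 1 → ∃ a ∈ Y, a x = y) : commutator G = frattini G ∧ frattini G = Subgroup.center G ∧ ∀ x : G, x ∈ Subgroup.center G ↔ x ^ 2 = 1 := by
  obtain ⟨Y, hsol, htrY⟩ := hY
  obtain ⟨x₁, x₂, hne, hx₁, hx₁', hx₂, hx₂'⟩ := htwo
  haveI : Fact (Nat.Prime 2) := ⟨Nat.prime_two⟩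
  haveI : Nontrivial G := ⟨⟨x₁, x₂, hne⟩⟩
  haveI : Finite (MulAut G) := Finite.of_injective (fun e => (e : G → G)) DFunLike.coe_injective
  have hnab : ∃ x y : G, x * y ≠ y * x := by
    by_contra hno
    push Not at hno
    exact hna ⟨⟨hno⟩⟩
  have hinv : Cfsg.Lib.SuzukiSolv.InvolTrans Y.subtype := by
    refine ⟨fun x hx => ?_, fun x y hx hx2 hy hy2 => ?_⟩
    · exact (Cfsg.Agent.S3774.result hG fun x y h1 h2 h3 h4 =>
        (htrY x y h1 h2 h3 h4).imp fun a ha => ha.2).1 x (by rw [pow_two]; exact hx)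
    · obtain ⟨a, ha, hax⟩ := htrY x y hx (by rw [pow_two]; exact hx2) hy (by rw [pow_two]; exact hy2)
      exact ⟨⟨a, ha⟩, hax⟩
  have hZ2 := Cfsg.Lib.SuzukiSolv.center_sq_eq_one hsol hG hinv hnab
  have hsq := Cfsg.Lib.SuzukiSolv.sq_mem_center hsol hG hinv hnab
    ⟨x₁, x₂, hne, hx₁, by rw [← pow_two]; exact hx₁', hx₂, by rw [← pow_two]; exact hx₂'⟩
  have hcomZ : commutator G ≤ Subgroup.center G := by
    rw [commutator_def, Subgroup.commutator_le]
    intro a _ b _
    rw [Cfsg.Lib.SuzukiSolv.comm_eq_squares]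
    exact mul_mem (mul_mem (hsq a) (hsq _)) (hsq b⁻¹)
  have hZcom : Subgroup.center G ≤ commutator G := by
    intro x hx
    by_cases hx1 : x = 1
    · exact hx1 ▸ one_mem _
    obtain ⟨a, b, hab⟩ := hnab
    have hc : ⁅a, b⁆ ∈ commutator G := by
      rw [commutator_def]
      exact Subgroup.commutator_mem_commutator (Subgroup.mem_top a) (Subgroup.mem_top b)
    obtain ⟨k, hk⟩ := hinv.trans ⁅a, b⁆ x (fun e => hab (commutatorElement_eq_one_iff_mul_comm.mp e))
      (hZ2 _ (hcomZ hc)) hx1 (hZ2 x hx)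
    rw [← hk, map_commutatorElement, commutator_def]
    exact Subgroup.commutator_mem_commutator (Subgroup.mem_top _) (Subgroup.mem_top _)
  have hfr : frattini G = Subgroup.center G :=
    le_antisymm (Cfsg.Lib.PGroups.SpecialCoprime.frattini_le_of_elementary (p := 2) _
      (fun g => by rw [pow_two]; exact hsq g) hcomZ)
      (hZcom.trans (Cfsg.Lib.PGroups.commutator_le_frattini hG))
  refine ⟨le_antisymm (hcomZ.trans hfr.ge) (hfr.le.trans hZcom), hfr, fun x => ⟨fun hx => ?_, fun hx => ?_⟩⟩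
  · rw [pow_two]
    exact hZ2 x hx
  · exact hinv.central x (by rw [← pow_two]; exact hx)

end Cfsg.Agent.S3776
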