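import Cfsg.Statements.S1824
import Cfsg.Agent.QTKE.Qrc.Final

set_option autoImplicit false
open Cfsg

namespace Cfsg.Agent.S1824

/-- The qrc-lemma in the form used for simple QTKE-groups. Let G be a non-abelian finite simple QTKE-group, T a Sylow 2-subgroup of G and M a maximal 2-local subgroup of G containing T. Let T ≤ M₀ ≤ M, let H be a minimal member of the set of subgroups of G with nontrivial 2-core that contain T and are not contained in M, and let V be a 2-reduced elementary abelian normal 2-subgroup of M₀ with O₂(M₀) = C_T(V). Suppose H ∩ M normalizes O²(M₀) or normalizes V. Then one of the following holds: (1) some nontrivial subgroup of O₂(M₀) is normalized by both M₀ and H; (2) V ≰ O₂(H) and q̂(M₀/C_{M₀}(V), V) ≤ 2; (3) q(M₀/C_{M₀}(V), V) ≤ 2. Here q (resp. q̂) ≤ 2 means that some subgroup of M₀ inducing a nontrivial elementary abelian 2-group A on V acts quadratically (resp. cubically) on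 V with |V : C_V(A)| ≤ |A|². -/
theorem result {G : Type*} [Group G] [Finite G] [IsSimpleGroup G]
    (hG : ¬ IsMulCommutative G) (hQ : Cfsg.IsQTKE G) (T : Sylow 2 G) (M M₀ H V : Subgroup G)
    (hM : M ∈ Cfsg.maxTwoLocalsContaining (T : Subgroup G))
    (hTM₀ : (T : Subgroup G) ≤ M₀) (hM₀M : M₀ ≤ M) (hH : H ∈ Cfsg.calHMin (T : Subgroup G) M)
    (hV : V ∈ Cfsg.calR2 M₀)
    (hR : (Cfsg.pCore 2 ↥M₀).map M₀.subtype = (T : Subgroup G) ⊓ Subgroup.centralizer (V : Set G))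
    (hI : H ⊓ M ≤ Subgroup.normalizer (Cfsg.oddGenerated M₀ : Set G) ∨
      H ⊓ M ≤ Subgroup.normalizer (V : Set G)) :
    (∃ R₀ : Subgroup G, R₀ ≠ ⊥ ∧ R₀ ≤ (Cfsg.pCore 2 ↥M₀).map M₀.subtype ∧
        M₀ ⊔ H ≤ Subgroup.normalizer (R₀ : Set G)) ∨
      (¬ V ≤ (Cfsg.pCore 2 ↥H).map H.subtype ∧ Cfsg.CubicParamLE M₀ V 2) ∨
      Cfsg.QuadParamLE M₀ V 2 := by
  haveI : Fact (Nat.Prime 2) := ⟨Nat.prime_two⟩
  by_cases h1 : ∃ R₀ : Subgroup G, R₀ ≠ ⊥ ∧ R₀ ≤ Cfsg.pCoreOf 2 M₀ ∧ M₀ ⊔ H ≤ Subgroup.normalizer (R₀ : Set G)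
  · exact Or.inl h1
  by_cases h3 : Cfsg.QuadParamLE M₀ V 2
  · exact Or.inr (Or.inr h3)
  have hTH : (T : Subgroup G) ≤ H := hH.1.1.2
  have hQT : Cfsg.pCoreOf 2 H ≤ (T : Subgroup G) := by
    refine (Subgroup.map_mono (Cfsg.Lib.Coprime.pCore_le_sylow 2 (T.subtype hTH))).trans ?_
    rw [Sylow.coe_subtype, Subgroup.subgroupOf_map_subtype]
    exact inf_le_left
  have hmax : ∀ X : Subgroup G, X ≤ H → (T : Subgroup G) ≤ X → X ≠ H → X ≤ H ⊓ M := by
    intro X hXH hTX hne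
    refine le_inf hXH (not_not.1 fun hnot => hne (hH.2 X ⟨⟨fun h0 => hH.1.1.1 ?_, hTX⟩, hnot⟩ hXH))
    have hle : Cfsg.pCoreOf 2 H ≤ Cfsg.pCoreOf 2 X := Cfsg.Lib.Large.le_pCoreOf (hQT.trans hTX)
      (T.2.to_le hQT) (hXH.trans (Subgroup.le_normalizer.trans (Cfsg.Lib.Large.normalizer_pCoreOf_le H)))
    refine (Subgroup.map_eq_bot_iff_of_injective _ H.subtype_injective).1 (le_bot_iff.1 (hle.trans ?_))
    rw [Cfsg.pCoreOf, h0, Subgroup.map_bot]
  have d : Cfsg.Lib.Qrc.Setup T M₀ H (H ⊓ M) V :=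
    { hev := hQ.2.2, hTM := hTM₀, hTH := hTH, hcore := hH.1.1.1, hKH := inf_le_left,
      hKne := fun h => hH.1.2 (h.ge.trans inf_le_right), hTK := le_inf hTH (hTM₀.trans hM₀M), hmax := hmax,
      hVM := hV.1, hMV := hV.2.1, hV := hV.2.2.1, hred := hV.2.2.2, hR := hR, hI := hI, hn1 := h1, hn3 := h3 }
  exact Or.inr (Or.inl d.conclusion)

end Cfsg.Agent.S1824
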