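import Cfsg.Statements.S0740
import Cfsg.Agent.OddChar.Zassenhaus.Results

set_option autoImplicit false
open Cfsg

namespace Cfsg.Agent.S0740

/-- In a finite Zassenhaus group any two points `a ≠ b` are swapped by an involution; every such involution has exactly one fixed point when the degree is odd and 0 or 2 fixed points when the degree is even; and if the two-point stabiliser has even order, some such involution has exactly 2 fixed points. -/
theorem result {G Ω : Type*} [Group G] [Finite G] [MulAction G Ω] [Fintype Ω] (hZ : Cfsg.IsZassenhausGroup G Ω) {a b : Ω} (hab : a ≠ b) : (∃ s : G, orderOf s = 2 ∧ s • a = b ∧ s • b = a) ∧ (∀ s : G, orderOf s = 2 → s • a = b → s • b = a → (Odd (Fintype.card Ω) → Nat.card (MulAction.fixedBy Ω s) = 1) ∧ (Even (Fintype.card Ω) → Nat.card (MulAction.fixedBy Ω s) = 0 ∨ Nat.card (MulAction.fixedBy Ω s) = 2)) ∧ (Even (Fintype.card Ω) → Even (Nat.card ↥(MulAction.stabilizer G a ⊓ MulAction.stabilizer G b)) → ∃ s : G, orderOf s = 2 ∧ s • a = b ∧ s • b = a ∧ Nat.card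 (MulAction.fixedBy Ω s) = 2) := by
  classical
  have := hZ.1
  have : Fact (Nat.Prime 2) := ⟨Nat.prime_two⟩
  -- an involution moving a point has a conjugate interchanging `a` and `b`, with as many fixed points
  have move : ∀ u : G, orderOf u = 2 → ∀ a b : Ω, a ≠ b → ∃ s : G, orderOf s = 2 ∧ s • a = b ∧ s • b = a ∧
      Nat.card (MulAction.fixedBy Ω s) = Nat.card (MulAction.fixedBy Ω u) := by
    intro u hu a b hab
    obtain ⟨c, hc⟩ : ∃ c : Ω, u • c ≠ c := by
      by_contra h
      push Not at h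
      have : u = 1 := eq_of_smul_eq_smul fun c : Ω => (h c).trans (one_smul G c).symm
      rw [this, orderOf_one] at hu
      omega
    have huc : u • u • c = c := by rw [← mul_smul, ← pow_two, ← hu, pow_orderOf_eq_one, one_smul]
    obtain ⟨g, hga, hgb⟩ := (MulAction.is_two_pretransitive_iff.1 hZ.2.1) hab (Ne.symm hc)
    refine ⟨g⁻¹ * u * g, ?_, ?_, ?_, ?_⟩
    · rw [← hu]
      have := (MulAut.conj g⁻¹).orderOf_eq u
      rwa [MulAut.conj_apply, inv_inv] at this
    · rw [mul_smul, mul_smul, hga, inv_smul_eq_iff, hgb]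
    · rw [mul_smul, mul_smul, hgb, huc, inv_smul_eq_iff, hga]
    · refine Nat.card_congr ((MulAction.toPerm g).subtypeEquiv fun x => ?_)
      show (g⁻¹ * u * g) • x = x ↔ u • g • x = g • x
      rw [mul_smul, mul_smul, inv_smul_eq_iff]
  refine ⟨?_, fun s hs _ _ => ?_, fun hev hE => ?_⟩
  · obtain ⟨w, hwa, hwb⟩ := (MulAction.is_two_pretransitive_iff.1 hZ.2.1) hab hab.symm
    have h2 : 2 ∣ orderOf w := by
      by_contra h
      obtain ⟨k, hk⟩ : Odd (orderOf w) := by rw [← Nat.not_even_iff_odd, even_iff_two_dvd]; exact h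
      have hpow : ∀ j : ℕ, (w ^ (2 * j)) • a = a := fun j => by
        induction j with
        | zero => simp
        | succ j ih => rw [show 2 * (j + 1) = 2 * j + 1 + 1 by ring, pow_succ, pow_succ, mul_smul, mul_smul, hwa, hwb, ih]
      have h1 : (w ^ (2 * k + 1)) • a = a := by rw [← hk, pow_orderOf_eq_one, one_smul]
      rw [pow_succ', mul_smul, hpow, hwa] at h1
      exact hab h1.symm
    obtain ⟨u, hu⟩ := exists_prime_orderOf_dvd_card' 2 (h2.trans (orderOf_dvd_natCard w))
    obtain ⟨s, h1, h2, h3, -⟩ := move u hu a b hab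
    exact ⟨s, h1, h2, h3⟩
  · have hs1 : s ≠ 1 := fun h => by simp [h] at hs
    have := Fintype.ofFinite G
    have hle := Cfsg.Lib.OddChar.Zassenhaus.nfix_le hZ hs1
    have e : Cfsg.Lib.OddChar.Zassenhaus.nfix (Ω := Ω) s = Nat.card (MulAction.fixedBy Ω s) := by
      rw [Cfsg.Lib.OddChar.Zassenhaus.nfix, Nat.card_eq_fintype_card, ← Fintype.card_subtype]
      rfl
    rw [e] at hle
    have hp : IsPGroup 2 (Subgroup.zpowers s) := IsPGroup.of_card (n := 1) (by rw [Nat.card_zpowers, hs, pow_one])
    have hmod := hp.card_modEq_card_fixedPoints Ω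
    have e2 : Nat.card (MulAction.fixedPoints (Subgroup.zpowers s) Ω) = Nat.card (MulAction.fixedBy Ω s) := by
      refine Nat.card_congr (Equiv.subtypeEquivRight fun c => ⟨fun h => h ⟨s, Subgroup.mem_zpowers s⟩, fun h g => ?_⟩)
      obtain ⟨i, hi⟩ := Subgroup.mem_zpowers_iff.1 g.2
      show (g : G) • c = c
      rw [← hi]
      exact MulAction.mem_stabilizer_iff.1 (Subgroup.zpow_mem _ (MulAction.mem_stabilizer_iff.2 h) i)
    rw [e2, Nat.card_eq_fintype_card (α := Ω), Nat.ModEq] at hmod
    constructor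
    · rintro ⟨k, hk⟩; omega
    · rintro ⟨k, hk⟩; omega
  · obtain ⟨⟨u, hua, hub⟩, hu⟩ := exists_prime_orderOf_dvd_card' 2 hE.two_dvd
    rw [← Subgroup.orderOf_coe] at hu
    have hu1 : u ≠ 1 := fun h => by simp [h] at hu
    obtain ⟨s, h1, h2, h3, h4⟩ := move u hu a b hab
    refine ⟨s, h1, h2, h3, ?_⟩
    rw [h4]
    have e : (MulAction.fixedBy Ω u : Set Ω) = {a, b} := by
      ext c
      constructor
      · intro hc
        by_contra h
        simp only [Set.mem_insert_iff, Set.mem_singleton_iff, not_or] at h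
        exact hu1 (hZ.2.2.1 u a b c hab (Ne.symm h.2) (Ne.symm h.1) hua hub hc)
      · rintro (rfl | rfl)
        · exact hua
        · exact hub
    rw [Nat.card_coe_set_eq, e, Set.ncard_pair hab]

end Cfsg.Agent.S0740
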