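import Cfsg.Statements.S4143
import Cfsg.Agent.PGroups.MaxClass

set_option autoImplicit false
open Cfsg

namespace Cfsg.Agent.S4143

open scoped commutatorElement


/-- Let X be a finite p-group of order p^n containing a non-abelian subgroup B of order p³ with C_X(B) ≤ B. Then X has nilpotency class n − 1 (maximal class). -/
theorem result {X : Type*} [Group X] [Finite X] {p : ℕ} [Fact p.Prime] (n : ℕ) (hX : Nat.card X = p ^ n)
    (B : Subgroup X) (hB : Nat.card B = p ^ 3) (hBna : ¬ IsMulCommutative B) (hC : Subgroup.centralizer (B : Set X) ≤ B) :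
    Group.nilpotencyClass X = n - 1 := by
  haveI : Group.IsNilpotent X := (IsPGroup.of_card hX).isNilpotent
  have hP : IsPGroup p X := IsPGroup.of_card hX
  have hp : p.Prime := Fact.out
  obtain ⟨b₁, hb₁, b₂, hb₂, hne⟩ : ∃ b₁ ∈ B, ∃ b₂ ∈ B, b₁ * b₂ ≠ b₂ * b₁ := by
    by_contra h
    push Not at h
    exact hBna ⟨⟨fun a b => Subtype.ext (h a a.2 b b.2)⟩⟩
  have hgen : Subgroup.closure ({b₁, b₂} : Set X) = B := by
    refine Subgroup.eq_of_le_of_card_ge ((Subgroup.closure_le B).2 (by rintro _ (rfl | rfl) <;> assumption)) ?_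
    obtain ⟨j, hj⟩ := IsPGroup.iff_card.1 (hP.to_subgroup (Subgroup.closure ({b₁, b₂} : Set X)))
    rw [hB, hj]
    refine Nat.pow_le_pow_right hp.pos ?_
    by_contra h3
    refine hne ?_
    have hcomm : IsMulCommutative (Subgroup.closure ({b₁, b₂} : Set X)) := by
      have h' : j ≤ 2 := by omega
      interval_cases j
      · haveI : Subsingleton (Subgroup.closure ({b₁, b₂} : Set X)) := (Nat.card_eq_one_iff_unique.1 (by simpa using hj)).1
        exact ⟨⟨fun a b => Subsingleton.elim _ _⟩⟩
      · haveI := isCyclic_of_prime_card (show Nat.card _ = p by simpa using hj)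
        letI : CommGroup (Subgroup.closure ({b₁, b₂} : Set X)) := IsCyclic.commGroup
        exact ⟨⟨fun a b => mul_comm a b⟩⟩
      · exact IsPGroup.isMulCommutative_of_card_eq_prime_sq (p := p) hj
    exact congrArg Subtype.val (hcomm.is_comm.comm ⟨b₁, Subgroup.subset_closure (Or.inl rfl)⟩ ⟨b₂, Subgroup.subset_closure (Or.inr rfl)⟩)
  set Z := Subgroup.center X with hZdef
  have hZB : Z ≤ B := (Subgroup.center_le_centralizer _).trans hC
  have hZlt : Z < B := lt_of_le_of_ne hZB fun e => hne ((Subgroup.mem_center_iff.1 (e ▸ hb₂ : b₂ ∈ Z)) b₁)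
  haveI : Nontrivial X := ⟨⟨b₁ * b₂, b₂ * b₁, hne⟩⟩
  -- the centre of `X` has order `p`
  have hZc : Nat.card Z = p := by
    obtain ⟨j, hj⟩ := IsPGroup.iff_card.1 (hP.to_subgroup Z)
    have h1 : Nat.card Z < Nat.card B := lt_of_le_of_ne (Nat.le_of_dvd Nat.card_pos (Subgroup.card_dvd_of_le hZB))
      fun e => hZlt.ne (Subgroup.eq_of_le_of_card_ge hZB e.ge)
    rw [hj, hB] at h1
    have hj3 := (Nat.pow_lt_pow_iff_right hp.one_lt).1 h1
    interval_cases j
    · exfalso
      haveI := hP.center_nontrivial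
      have := Finite.one_lt_card (α := Z)
      rw [hj] at this
      simp at this
    · simpa using hj
    · exfalso
      -- a central subgroup of index `p` makes `B` abelian
      haveI : (Z.subgroupOf B).Normal := inferInstance
      have hq : Nat.card (B ⧸ Z.subgroupOf B) = p := by
        have h2 := Subgroup.card_eq_card_quotient_mul_card_subgroup (Z.subgroupOf B)
        rw [Nat.card_congr (Subgroup.subgroupOfEquivOfLe hZB).toEquiv, hj, hB, pow_succ'] at h2
        exact (Nat.eq_of_mul_eq_mul_right (pow_pos hp.pos 2) h2).symm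
      haveI := isCyclic_of_prime_card hq
      haveI := MonoidHom.isMulCommutative_of_isCyclic_of_ker_le_center (QuotientGroup.mk' (Z.subgroupOf B)) (by
        rw [QuotientGroup.ker_mk']
        intro k hk
        exact Subgroup.mem_center_iff.2 fun y => Subtype.ext (Subgroup.mem_center_iff.1 hk y))
      exact hBna inferInstance
  set π := QuotientGroup.mk' Z with hπ
  have hf : Function.Surjective π := QuotientGroup.mk'_surjective _
  set C0 := (Subgroup.centralizer (B.map π : Set (X ⧸ Z))).comap π with hC0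
  have hmem : ∀ g ∈ C0, ∀ b ∈ B, ⁅g, b⁆ ∈ Z := fun g hg b hb => by
    rw [← QuotientGroup.ker_mk' Z, MonoidHom.mem_ker, map_commutatorElement]
    exact commutatorElement_eq_one_iff_mul_comm.2 (Subgroup.mem_centralizer_iff.1 hg _ (Subgroup.mem_map_of_mem π hb)).symm
  have hmul : ∀ g ∈ C0, ∀ h ∈ C0, ∀ b ∈ B, ⁅g * h, b⁆ = ⁅g, b⁆ * ⁅h, b⁆ := by
    intro g hg h hh b hb
    calc ⁅g * h, b⁆ = g * ⁅h, b⁆ * g⁻¹ * ⁅g, b⁆ := by simp only [commutatorElement_def]; group
      _ = ⁅h, b⁆ * ⁅g, b⁆ := by rw [Subgroup.mem_center_iff.1 (hmem h hh b hb) g, mul_inv_cancel_right]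
      _ = _ := (Subgroup.mem_center_iff.1 (hmem h hh b hb) _).symm
  let ψ : C0 →* Z × Z :=
    { toFun := fun g => (⟨⁅(g : X), b₁⁆, hmem g g.2 b₁ hb₁⟩, ⟨⁅(g : X), b₂⁆, hmem g g.2 b₂ hb₂⟩)
      map_one' := Prod.ext (Subtype.ext (commutatorElement_one_left _)) (Subtype.ext (commutatorElement_one_left _))
      map_mul' := fun g h => Prod.ext (Subtype.ext (hmul g g.2 h h.2 b₁ hb₁)) (Subtype.ext (hmul g g.2 h h.2 b₂ hb₂)) }
  have hker : Nat.card ψ.ker ≤ p := by
    rw [← hZc]
    have hk : ∀ g : C0, ψ g = 1 → (g : X) ∈ Subgroup.centralizer (B : Set X) := fun g hg => by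
      rw [← hgen, Subgroup.centralizer_closure]
      refine Subgroup.mem_centralizer_iff.2 ?_
      rintro _ (rfl | rfl)
      · exact (commutatorElement_eq_one_iff_mul_comm.1 (congrArg Subtype.val (congrArg Prod.fst hg))).symm
      · exact (commutatorElement_eq_one_iff_mul_comm.1 (congrArg Subtype.val (congrArg Prod.snd hg))).symm
    have hCZ : Subgroup.centralizer (B : Set X) ≤ Z := by
      intro g hg
      -- `C(B) = Z(B)` is central of order at most `p`
      have hle : Z ≤ Subgroup.centralizer (B : Set X) := Subgroup.center_le_centralizer _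
      rcases eq_or_lt_of_le hle with h | h
      · exact h ▸ hg
      · exfalso
        set K := Subgroup.centralizer (B : Set X)
        have hKb : K < B := lt_of_le_of_ne hC fun e => hne ((Subgroup.mem_centralizer_iff.1 (e.ge hb₂) b₁ hb₁))
        obtain ⟨j, hj⟩ := IsPGroup.iff_card.1 (hP.to_subgroup K)
        have l1 : Nat.card Z < Nat.card K := lt_of_le_of_ne (Nat.le_of_dvd Nat.card_pos (Subgroup.card_dvd_of_le h.le))
          fun e => h.ne (Subgroup.eq_of_le_of_card_ge h.le e.ge)
        have l2 : Nat.card K < Nat.card B := lt_of_le_of_ne (Nat.le_of_dvd Nat.card_pos (Subgroup.card_dvd_of_le hKb.le))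
          fun e => hKb.ne (Subgroup.eq_of_le_of_card_ge hKb.le e.ge)
        rw [hZc, hj] at l1
        rw [hB, hj] at l2
        have hj2 : j = 2 := by
          have a1 := (Nat.pow_lt_pow_iff_right hp.one_lt).1 ((pow_one p).symm ▸ l1 : p ^ 1 < p ^ j)
          have a2 := (Nat.pow_lt_pow_iff_right hp.one_lt).1 l2
          omega
        haveI : (K.subgroupOf B).Normal := ⟨fun k hk g => by
          have h3 : (g : X) * k * (g : X)⁻¹ = k := by
            rw [show (g : X) * k = k * g from Subgroup.mem_centralizer_iff.1 hk g g.2, mul_inv_cancel_right]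
          show (g : X) * k * (g : X)⁻¹ ∈ K
          rw [h3]; exact hk⟩
        have hq : Nat.card (B ⧸ K.subgroupOf B) = p := by
          have h2 := Subgroup.card_eq_card_quotient_mul_card_subgroup (K.subgroupOf B)
          rw [Nat.card_congr (Subgroup.subgroupOfEquivOfLe hKb.le).toEquiv, hj, hj2, hB, pow_succ'] at h2
          exact (Nat.eq_of_mul_eq_mul_right (pow_pos hp.pos 2) h2).symm
        haveI := isCyclic_of_prime_card hq
        haveI := MonoidHom.isMulCommutative_of_isCyclic_of_ker_le_center (QuotientGroup.mk' (K.subgroupOf B)) (by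
          rw [QuotientGroup.ker_mk']
          intro k hk
          exact Subgroup.mem_center_iff.2 fun y => Subtype.ext (Subgroup.mem_centralizer_iff.1 hk y y.2))
        exact hBna inferInstance
    exact Nat.card_le_card_of_injective (fun g : ψ.ker => (⟨((g : C0) : X), hCZ (hk g.1 g.2)⟩ : Z))
      (fun g h e => Subtype.ext (Subtype.ext (congrArg Subtype.val e :)))
  have hBC0 : B ≤ C0 := by
    intro b hb
    refine Subgroup.mem_comap.2 (Subgroup.mem_centralizer_iff.2 ?_)
    rintro _ ⟨c, hc, rfl⟩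
    -- the quotient `B / Z` has order `p ^ 2`
    haveI hZn : (Z.subgroupOf B).Normal := inferInstance
    have hq : Nat.card (B ⧸ Z.subgroupOf B) = p ^ 2 := by
      have h2 := Subgroup.card_eq_card_quotient_mul_card_subgroup (Z.subgroupOf B)
      rw [Nat.card_congr (Subgroup.subgroupOfEquivOfLe hZB).toEquiv, hZc, hB, pow_succ] at h2
      exact (Nat.eq_of_mul_eq_mul_right hp.pos h2).symm
    haveI := IsPGroup.isMulCommutative_of_card_eq_prime_sq (p := p) hq
    have h3 := mul_comm' (QuotientGroup.mk' (Z.subgroupOf B) ⟨c, hc⟩) (QuotientGroup.mk' (Z.subgroupOf B) ⟨b, hb⟩)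
    rw [← map_mul, ← map_mul] at h3
    rw [← map_mul, ← map_mul]
    exact QuotientGroup.eq.2 (Subgroup.mem_subgroupOf.1 (QuotientGroup.eq.1 h3))
  have hC0c : C0 = B := by
    refine (Subgroup.eq_of_le_of_card_ge hBC0 ?_).symm
    have h := ψ.ker.card_mul_index
    rw [Subgroup.index_ker] at h
    have h2 : Nat.card ψ.range ≤ p ^ 2 := by
      refine (Subgroup.card_le_card_group _).trans ?_
      rw [Nat.card_prod, hZc, pow_two]
    rw [← h, hB]
    calc Nat.card ψ.ker * Nat.card ψ.range ≤ p * p ^ 2 := Nat.mul_le_mul hker h2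
      _ = p ^ 3 := (pow_succ' p 2).symm
  have hBq : Nat.card (B.map π) = p ^ 2 := by
    have h1 := (B.map π).card_mul_index
    rw [Subgroup.index_map_eq _ hf (by rw [hπ, QuotientGroup.ker_mk']; exact hZB)] at h1
    have h2 := Subgroup.card_eq_card_quotient_mul_card_subgroup Z
    rw [hZc] at h2
    have h3 := B.card_mul_index
    rw [hB] at h3
    have h4 : Nat.card (B.map π) * p * B.index = p ^ 3 * B.index := by rw [h3, h2, ← h1]; ring
    exact Nat.eq_of_mul_eq_mul_right hp.pos
      ((Nat.eq_of_mul_eq_mul_right (Nat.pos_of_ne_zero B.index_ne_zero_of_finite) h4).trans (pow_succ p 2))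
  have hcen : Subgroup.centralizer (B.map π : Set (X ⧸ Z)) = B.map π := by
    rw [← Subgroup.map_comap_eq_self_of_surjective hf (Subgroup.centralizer (B.map π : Set (X ⧸ Z))), ← hC0, hC0c]
  obtain ⟨i, hi⟩ := IsPGroup.iff_card.1 (hP.to_quotient Z)
  have hin : i + 1 = n := by
    have h2 := Subgroup.card_eq_card_quotient_mul_card_subgroup Z
    rw [hX, hi, hZc, ← pow_succ] at h2
    exact (Nat.pow_right_injective hp.two_le h2).symm
  have hi2 : 2 ≤ i := by
    have h2 := (B.map π).card_subgroup_dvd_card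
    rw [hBq, hi] at h2
    exact (Nat.pow_dvd_pow_iff_le_right hp.one_lt).1 h2
  rw [Group.nilpotencyClass_eq_quotient_center_plus_one, Cfsg.Lib.MaxClass.of_self_centralizing i (X ⧸ Z) hi _ hBq hcen]
  omega

end Cfsg.Agent.S4143
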