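import Cfsg.Statements.S3304
import Cfsg.Agent.PGroups.AutCyclicIndexTwo
import Cfsg.Agent.Coprime.SolvableBasics
import Cfsg.Agent.Coprime.Fitting
import Cfsg.Agent.Fusion.CyclicIndexTwoAut
import Cfsg.Agent.InvolCalc.QuatCore

set_option autoImplicit false
open Cfsg

namespace Cfsg.Agent.S3304

open scoped Pointwise

/-- a normal Sylow subgroup, when the automorphism group of a self-centralising normal `2`-subgroup is a `2`-group -/
theorem normal_sylow_of_aut {Q : Type*} [Group Q] [Finite Q] {R : Subgroup Q} [R.Normal]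
    (hcR : Subgroup.centralizer (R : Set Q) ≤ R) (hRp : IsPGroup 2 R) (hA : IsPGroup 2 (MulAut R)) :
    ∃ P : Sylow 2 Q, (P : Subgroup Q).Normal := by
  haveI := Fact.mk Nat.prime_two
  have hQ : IsPGroup 2 Q := by
    intro x
    let φ : Q →* MulAut R := MulAut.conjNormal
    obtain ⟨i, hi⟩ := hA (φ x)
    have hmem : x ^ 2 ^ i ∈ R := hcR (Subgroup.mem_centralizer_iff.2 fun y hy => by
      have h1 := congrArg Subtype.val (DFunLike.congr_fun ((map_pow φ x (2 ^ i)).trans hi) (⟨y, hy⟩ : R))
      simp only [φ, MulAut.conjNormal_apply, MulAut.one_apply] at h1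
      exact (mul_inv_eq_iff_eq_mul.1 h1).symm)
    obtain ⟨l, hl⟩ := hRp ⟨_, hmem⟩
    refine ⟨i + l, ?_⟩
    rw [pow_add, pow_mul]
    exact congrArg Subtype.val hl
  obtain ⟨P⟩ : Nonempty (Sylow 2 Q) := inferInstance
  refine ⟨P, ?_⟩
  rw [(P.3 (hQ.to_subgroup ⊤) le_top).symm]
  infer_instance

/-- a group of `2`-rank at most 1 has no two commuting involutions -/
theorem eq_of_commute {T : Type*} [Group T] [Finite T] (h : Cfsg.PRankLE 2 1 T) {x y : T}
    (hx : x ^ 2 = 1) (hy : y ^ 2 = 1) (hx1 : x ≠ 1) (hy1 : y ≠ 1) (hc : x * y = y * x) : x = y := by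
  classical
  by_contra hne
  have hA : IsMulCommutative (Subgroup.closure ({x, y} : Set T)) :=
    Subgroup.isMulCommutative_closure (by
      rintro a (rfl | rfl) b (rfl | rfl)
      exacts [rfl, hc, hc.symm, rfl])
  have hexp : ∀ a ∈ Subgroup.closure ({x, y} : Set T), a ^ 2 = 1 := by
    intro a ha
    induction ha using Subgroup.closure_induction with
    | mem a ha => rcases ha with rfl | rfl <;> assumption
    | one => exact one_pow 2
    | mul a b ha hb iha ihb =>
      have hab : Commute a b := congrArg Subtype.val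
        (hA.is_comm.comm (⟨a, ha⟩ : Subgroup.closure ({x, y} : Set T)) ⟨b, hb⟩)
      rw [hab.mul_pow, iha, ihb, one_mul]
    | inv a _ iha => rw [inv_pow, iha, inv_one]
  have h2 := h _ hA hexp
  let ι : Fin 3 → Subgroup.closure ({x, y} : Set T) :=
    ![1, ⟨x, Subgroup.subset_closure (by simp)⟩, ⟨y, Subgroup.subset_closure (by simp)⟩]
  have h3 : Nat.card (Fin 3) ≤ Nat.card (Subgroup.closure ({x, y} : Set T)) :=
    Nat.card_le_card_of_injective ι (by
      intro i j hij
      fin_cases i <;> fin_cases j <;> simp [ι, Subtype.ext_iff] at hij ⊢ <;>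
        first
          | exact hx1 hij | exact hx1 hij.symm | exact hy1 hij | exact hy1 hij.symm
          | exact hne hij | exact hne hij.symm)
  rw [Nat.card_fin] at h3
  omega

/-- Let G be a finite solvable group in which the intersection of any two distinct Sylow 2-subgroups has 2-rank at most 1 (contains no Klein four-group). Write Q = G/O(G), O(G) the largest normal subgroup of odd order. Then Q has a normal Sylow 2-subgroup; or Q is isomorphic to GL(2,3); or Q has order 48, centre of order 2 with central quotient isomorphic to the symmetric group of degree 4, and generalized quaternion Sylow 2-subgroups of order 16 (the binary octahedral group). The last two are the two representation groups of the symmetric group of degree 4. -/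
theorem result {G : Type*} [Group G] [Finite G] (hs : Group.IsSolvable G)
    (hI : ∀ S T : Sylow 2 G, S ≠ T → Cfsg.PRankLE 2 1 ↥((S : Subgroup G) ⊓ (T : Subgroup G))) :
    (∃ P : Sylow 2 (G ⧸ Cfsg.oddCore G), (P : Subgroup (G ⧸ Cfsg.oddCore G)).Normal) ∨
    Nonempty ((G ⧸ Cfsg.oddCore G) ≃* GL (Fin 2) (ZMod 3)) ∨
    (Nat.card (G ⧸ Cfsg.oddCore G) = 48 ∧ Nat.card ↥(Subgroup.center (G ⧸ Cfsg.oddCore G)) = 2 ∧
      Nonempty ((G ⧸ Cfsg.oddCore G) ⧸ Subgroup.center (G ⧸ Cfsg.oddCore G) ≃* Equiv.Perm (Fin 4)) ∧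
      ∀ P : Sylow 2 (G ⧸ Cfsg.oddCore G), Nonempty (↥(P : Subgroup (G ⧸ Cfsg.oddCore G)) ≃* QuaternionGroup 4)) := by
  haveI := Fact.mk Nat.prime_two
  haveI := hs
  set O := Cfsg.pPrimeCore 2 G with hO
  haveI hOn : O.Normal := by rw [hO]; infer_instance
  set f := QuotientGroup.mk' O with hf
  have hfs : Function.Surjective f := QuotientGroup.mk'_surjective O
  obtain ⟨S0⟩ : Nonempty (Sylow 2 (G ⧸ O)) := inferInstance
  by_cases hno : ∃ P : Sylow 2 (G ⧸ O), (P : Subgroup (G ⧸ O)).Normal
  · exact Or.inl hno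
  push Not at hno
  set R := Cfsg.pCore 2 (G ⧸ O) with hR
  haveI hRn : R.Normal := by rw [hR]; infer_instance
  have hcR : Subgroup.centralizer (R : Set (G ⧸ O)) ≤ R :=
    Cfsg.Lib.Coprime.centralizer_pCore_le 2 Cfsg.Lib.Coprime.pPrimeCore_quotient_eq_bot
  have hRp : IsPGroup 2 R := S0.2.to_le (Cfsg.Lib.Coprime.pCore_le_sylow 2 S0)
  -- a `2`-subgroup over `R`
  set N := R.comap f with hN
  haveI : N.Normal := hRn.comap f
  obtain ⟨R0⟩ : Nonempty (Sylow 2 N) := inferInstance
  set P0 := (R0 : Subgroup N).map N.subtype with hP0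
  have hN0 : (R0 : Subgroup N).map (f.comp N.subtype) = R := by
    have hg : Function.Surjective (f.subgroupComap R) := f.subgroupComap_surjective_of_surjective R hfs
    have h1 : ((R0.mapSurjective hg : Sylow 2 R) : Subgroup R) = ⊤ := ((R0.mapSurjective hg).3 (hRp.to_subgroup ⊤) le_top).symm
    rw [Sylow.coe_mapSurjective] at h1
    have h2 := congrArg (Subgroup.map R.subtype) h1
    rw [Subgroup.map_map, ← MonoidHom.range_eq_map, Subgroup.range_subtype] at h2
    exact h2
  obtain ⟨S, hS⟩ := (R0.2.map N.subtype : IsPGroup 2 P0).exists_le_sylow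
  -- two Sylow subgroups over `P0` with different images
  obtain ⟨x, hx⟩ : ∃ x : G ⧸ O, x • S.mapSurjective hfs ≠ S.mapSurjective hfs := by
    by_contra h
    push Not at h
    refine hno (S.mapSurjective hfs) ⟨fun a ha g => ?_⟩
    have hg := Sylow.smul_eq_iff_mem_normalizer.1 (h g)
    exact (Subgroup.mem_normalizer_iff.1 hg a).1 ha
  obtain ⟨g, rfl⟩ := hfs x
  obtain ⟨m, hm, k, hk, rfl⟩ : ∃ m ∈ Subgroup.normalizer (P0 : Set G), ∃ k ∈ N, g = m * k := by
    have hfr := Sylow.normalizer_sup_eq_top R0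
    have hg : g ∈ Subgroup.normalizer (P0 : Set G) ⊔ N := hfr.symm ▸ Subgroup.mem_top g
    obtain ⟨m, hm, k, hk, h⟩ := Subgroup.mem_sup_of_normal_right.1 hg
    exact ⟨m, hm, k, hk, h.symm⟩
  have hkS : f k • S.mapSurjective hfs = S.mapSurjective hfs := by
    refine Sylow.smul_eq_iff_mem_normalizer.2 (Subgroup.le_normalizer ?_)
    exact Cfsg.Lib.Coprime.pCore_le_sylow 2 (S.mapSurjective hfs) hk
  rw [map_mul, mul_smul, hkS] at hx
  have hST : S ≠ m • S := fun e => hx (Sylow.smul_eq_iff_mem_normalizer.2 (Subgroup.mem_normalizer_fintype fun a ha => by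
    have hm2 := Sylow.smul_eq_iff_mem_normalizer.1 e.symm
    obtain ⟨b, hb, rfl⟩ := ha
    exact ⟨m * b * m⁻¹, (Subgroup.mem_normalizer_iff.1 hm2 b).1 hb, by simp⟩))
  have hP0S : P0 ≤ (S : Subgroup G) ⊓ ((m • S : Sylow 2 G) : Subgroup G) := fun a ha => ⟨hS ha, by
    show a ∈ ((m • S : Sylow 2 G) : Subgroup G)
    rw [Sylow.coe_subgroup_smul, Subgroup.mem_pointwise_smul_iff_inv_smul_mem, ← map_inv, MulAut.smul_def, MulAut.conj_apply]
    exact hS ((Subgroup.mem_normalizer_iff.1 (Subgroup.inv_mem _ hm) a).1 ha)⟩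
  have hP0f : P0.map f = R := by rw [hP0, Subgroup.map_map]; exact hN0
  have hfker : ∀ a ∈ P0, f a = 1 → a = 1 := by
    intro a ha hfa
    have haO : a ∈ O := (QuotientGroup.eq_one_iff a).1 hfa
    have hp : IsPGroup 2 P0 := R0.2.map N.subtype
    obtain ⟨i, hi⟩ := hp ⟨a, ha⟩
    have hi' : a ^ 2 ^ i = 1 := congrArg Subtype.val hi
    have hodd := Cfsg.Lib.Components.coprime_card_pPrimeCore (G := G) 2
    have h1 : orderOf a ∣ Nat.card O := Subgroup.orderOf_dvd_natCard O haO
    have h2 : orderOf a ∣ 2 ^ i := orderOf_dvd_of_pow_eq_one hi'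
    exact orderOf_eq_one_iff.1 (Nat.eq_one_of_dvd_coprimes (Nat.Coprime.pow_right i hodd) h1 h2)
  have hone : ∀ r s : R, orderOf r = 2 → orderOf s = 2 → r * s = s * r → r = s := by
    intro r s hr hs' hrs
    obtain ⟨a, ha, hfa⟩ : (r : G ⧸ O) ∈ P0.map f := hP0f.symm ▸ r.2
    obtain ⟨b, hb, hfb⟩ : (s : G ⧸ O) ∈ P0.map f := hP0f.symm ▸ s.2
    have hr2 : (r : G ⧸ O) ^ 2 = 1 := by
      have h := pow_orderOf_eq_one r
      rw [hr] at h
      exact_mod_cast congrArg Subtype.val h
    have hs2 : (s : G ⧸ O) ^ 2 = 1 := by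
      have h := pow_orderOf_eq_one s
      rw [hs'] at h
      exact_mod_cast congrArg Subtype.val h
    have hab := eq_of_commute (hI S (m • S) hST) (x := ⟨a, hP0S ha⟩) (y := ⟨b, hP0S hb⟩)
      (Subtype.ext (by push_cast; exact hfker _ (pow_mem ha 2) (by rw [map_pow, hfa, hr2])))
      (Subtype.ext (by push_cast; exact hfker _ (pow_mem hb 2) (by rw [map_pow, hfb, hs2])))
      (fun h => by
        have h1 : a = 1 := congrArg Subtype.val h
        have h2 : r = 1 := Subtype.ext (by rw [← hfa, h1, map_one]; rfl)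
        simp [h2] at hr)
      (fun h => by
        have h1 : b = 1 := congrArg Subtype.val h
        have h2 : s = 1 := Subtype.ext (by rw [← hfb, h1, map_one]; rfl)
        simp [h2] at hs')
      (Subtype.ext (by push_cast; exact mul_inv_eq_one.1 (hfker _ (mul_mem (mul_mem ha hb) (inv_mem (mul_mem hb ha)))
        (by
          rw [map_mul, map_inv, map_mul, map_mul, hfa, hfb]
          exact mul_inv_eq_one.2 (congrArg Subtype.val hrs)))))
    have h1 : a = b := congrArg Subtype.val hab
    exact Subtype.ext (by rw [← hfa, ← hfb, h1])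
  have huniq : ∀ r s : R, orderOf r = 2 → orderOf s = 2 → s ∈ Subgroup.zpowers r := by
    intro r s hr hs'
    haveI : Nontrivial R := ⟨r, 1, fun h => by simp [h] at hr⟩
    haveI : Nontrivial (Subgroup.center R) := hRp.center_nontrivial
    obtain ⟨c, hc⟩ := exists_prime_orderOf_dvd_card' (G := Subgroup.center R) 2
      ((IsPGroup.card_eq_or_dvd (hRp.to_subgroup _)).resolve_left (Finite.one_lt_card (α := Subgroup.center R)).ne')
    have hc2 : orderOf (c : R) = 2 := by rw [Subgroup.orderOf_coe, hc]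
    have h1 := hone r c hr hc2 (Subgroup.mem_center_iff.1 c.2 r)
    have h2 := hone s c hs' hc2 (Subgroup.mem_center_iff.1 c.2 s)
    rw [h2, ← h1]
    exact Subgroup.mem_zpowers r
  have hcyc : IsCyclic R → ∃ P : Sylow 2 (G ⧸ O), (P : Subgroup (G ⧸ O)).Normal := fun h => by
    haveI := h
    exact normal_sylow_of_aut hcR hRp (Cfsg.Lib.AutCyclicIndexTwo.aut_two_group_of_cyclic hRp)
  rcases Cfsg.Lib.UniqueSub.isCyclic_or_quaternion hRp huniq with h | ⟨-, n, ⟨e⟩⟩
  · exact Or.inl (hcyc h)
  rcases n with _ | _ | n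
  · haveI : IsCyclic (QuaternionGroup (2 ^ 0)) := QuaternionGroup.quaternionGroup_one_isCyclic
    exact Or.inl (hcyc (isCyclic_of_surjective e.symm.toMonoidHom e.symm.surjective))
  · exact Cfsg.Lib.QuatCore.structure_of_quaternion_core R hcR e
  · exact Or.inl (normal_sylow_of_aut hcR hRp
      ((Cfsg.Lib.Fusion.isPGroup_mulAut_quaternion (n := n + 2) (by omega)).of_equiv (MulAut.congr e.symm)))

end Cfsg.Agent.S3304
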