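import Cfsg.Statements.S4195
import Cfsg.Agent.SolvStruct.Basics

set_option autoImplicit false
open Cfsg

namespace Cfsg.Agent.S4195

/-- Let x be a non-identity element of a finite group G whose centralizer contains a Sylow 2-subgroup of G. If x is conjugate to its inverse, then x has order 2. -/
theorem result {G : Type*} [Group G] [Finite G] (x : G) (hx : x ≠ 1) (P : Sylow 2 G) (hP : (P : Subgroup G) ≤ Subgroup.centralizer ({x} : Set G)) (hreal : IsConj x x⁻¹) : orderOf x = 2 := by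
  have hpow2 : x⁻¹ = x → orderOf x = 2 := fun h => orderOf_eq_prime
    (by rw [pow_two]; nth_rewrite 1 [← h]; exact inv_mul_cancel x) hx
  obtain ⟨g, hg⟩ := isConj_iff.1 hreal
  obtain ⟨j, m, hm, hgm⟩ := Nat.exists_eq_two_pow_mul_odd (orderOf_pos g).ne'
  set t := g ^ m
  have hpow : ∀ i : ℕ, g ^ i * x * (g ^ i)⁻¹ = if Even i then x else x⁻¹ := by
    intro i
    induction i with
    | zero => simp
    | succ i ih =>
      rw [pow_succ', show g * g ^ i * x * (g * g ^ i)⁻¹ = g * (g ^ i * x * (g ^ i)⁻¹) * g⁻¹ by group, ih]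
      by_cases he : Even i
      · rw [if_pos he, if_neg (by simp [Nat.even_add_one, he]), hg]
      · rw [if_neg he, if_pos (by simp [Nat.even_add_one, he]),
          show g * x⁻¹ * g⁻¹ = (g * x * g⁻¹)⁻¹ by group, hg, inv_inv]
  have htx : t * x * t⁻¹ = x⁻¹ := by
    rw [hpow, if_neg (Nat.not_even_iff_odd.2 hm)]
  set C := Subgroup.centralizer ({x} : Set G)
  have htN : t ∈ Subgroup.normalizer (C : Set G) := by
    refine Subgroup.mem_normalizer_iff.2 fun c => ?_
    simp only [C, Subgroup.mem_centralizer_singleton_iff]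
    have htx' : t * x⁻¹ * t⁻¹ = x := by
      rw [show t * x⁻¹ * t⁻¹ = (t * x * t⁻¹)⁻¹ by group, htx, inv_inv]
    constructor
    · intro hc
      have hc' : c * x⁻¹ = x⁻¹ * c := Commute.inv_right hc
      calc t * c * t⁻¹ * x = t * c * t⁻¹ * (t * x⁻¹ * t⁻¹) := by rw [htx']
        _ = t * (c * x⁻¹) * t⁻¹ := by group
        _ = t * (x⁻¹ * c) * t⁻¹ := by rw [hc']
        _ = (t * x⁻¹ * t⁻¹) * (t * c * t⁻¹) := by group
        _ = x * (t * c * t⁻¹) := by rw [htx']
    · intro hc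
      have hc' : t * c * t⁻¹ * x⁻¹ = x⁻¹ * (t * c * t⁻¹) := Commute.inv_right hc
      calc c * x = t⁻¹ * (t * c * t⁻¹ * (t * x * t⁻¹)) * t := by group
        _ = t⁻¹ * (t * c * t⁻¹ * x⁻¹) * t := by rw [htx]
        _ = t⁻¹ * (x⁻¹ * (t * c * t⁻¹)) * t := by rw [hc']
        _ = t⁻¹ * ((t * x * t⁻¹) * (t * c * t⁻¹)) * t := by rw [htx]
        _ = x * c := by group
  set N := Subgroup.normalizer (C : Set G)
  have hodd : Odd (C.subgroupOf N).index := by
    rw [Nat.odd_iff, ← Nat.two_dvd_ne_zero]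
    exact fun hd => P.not_dvd_index (hd.trans ((Subgroup.relIndex_dvd_index_of_le Subgroup.le_normalizer).trans
      (Subgroup.index_dvd_of_le hP)))
  have h1 := (C.subgroupOf N).pow_index_mem ⟨t, htN⟩
  have h2 : t ^ 2 ^ j = 1 := by rw [← pow_mul, mul_comm, ← hgm, pow_orderOf_eq_one]
  have htC : t ∈ C := by
    have hcop : (2 ^ j).Coprime (C.subgroupOf N).index :=
      Nat.Coprime.pow_left j ((Nat.Prime.coprime_iff_not_dvd Nat.prime_two).2
        (Nat.two_dvd_ne_zero.2 (Nat.odd_iff.1 hodd)))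
    have hbez : ((2 ^ j).gcd (C.subgroupOf N).index : ℤ) =
        ((2 ^ j : ℕ) : ℤ) * Nat.gcdA (2 ^ j) (C.subgroupOf N).index +
        ((C.subgroupOf N).index : ℤ) * Nat.gcdB (2 ^ j) (C.subgroupOf N).index := Nat.gcd_eq_gcd_ab _ _
    rw [hcop.gcd_eq_one, Nat.cast_one] at hbez
    rw [← zpow_one t, hbez, zpow_add, zpow_mul, zpow_mul, zpow_natCast, h2, one_zpow, one_mul,
      zpow_natCast]
    exact zpow_mem (show t ^ (C.subgroupOf N).index ∈ C from h1) _
  refine hpow2 ?_
  rw [← htx, Subgroup.mem_centralizer_singleton_iff.1 htC]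
  group

end Cfsg.Agent.S4195
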