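import Cfsg.Statements.S0228
import Cfsg.Agent.InvolCalc.Dihedral

set_option autoImplicit false
open Cfsg

namespace Cfsg.Agent.S0228

/-- A group of order 12 in which no involution is central is isomorphic to the alternating group on four letters. -/
theorem result {G : Type*} [Group G] [Finite G] (hG : Nat.card G = 12) (hz : ∀ z : G, orderOf z = 2 → z ∉ Subgroup.center G) : Nonempty (G ≃* alternatingGroup (Fin 4)) := by
  classical
  haveI : Fact (Nat.Prime 3) := ⟨Nat.prime_three⟩
  haveI : Fact (Nat.Prime 2) := ⟨Nat.prime_two⟩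
  obtain ⟨P⟩ : Nonempty (Sylow 3 G) := inferInstance
  have hP : Nat.card (P : Subgroup G) = 3 := by
    rw [P.card_eq_multiplicity, hG, Nat.factorization_def _ Nat.prime_three]
    rw [show (12 : ℕ) = 3 * 4 by norm_num, padicValNat.mul (by norm_num) (by norm_num),
      padicValNat.self (by norm_num), padicValNat.eq_zero_of_not_dvd (by norm_num : ¬ 3 ∣ 4)]
    norm_num
  obtain ⟨T⟩ : Nonempty (Sylow 2 G) := inferInstance
  have hT : Nat.card (T : Subgroup G) = 4 := by
    rw [T.card_eq_multiplicity, hG, Nat.factorization_def _ Nat.prime_two]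
    rw [show (12 : ℕ) = 2 ^ 2 * 3 by norm_num, padicValNat.mul (by norm_num) (by norm_num),
      padicValNat.prime_pow, padicValNat.eq_zero_of_not_dvd (by norm_num : ¬ 2 ∣ 3)]
    norm_num
  have hn : Nat.card (Sylow 3 G) ∣ 4 := by
    have h := P.card_dvd_index
    have h2 := (P : Subgroup G).card_mul_index
    rw [hP, hG] at h2
    rwa [show (P : Subgroup G).index = 4 by omega] at h
  have h1 : Nat.card (Sylow 3 G) % 3 = 1 := card_sylow_modEq_one 3 G
  have hcard : Nat.card (Sylow 3 G) = 4 := by
    by_contra hne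
    have hle := Nat.le_of_dvd (by norm_num) hn
    have h11 : Nat.card (Sylow 3 G) = 1 := by omega
    haveI : Subsingleton (Sylow 3 G) := (Nat.card_eq_one_iff_unique.mp h11).1
    have hPn : (P : Subgroup G).Normal := Sylow.normal_of_subsingleton P
    let c : (T : Subgroup G) →* MulAut (P : Subgroup G) :=
      (MulAut.conjNormal (H := (P : Subgroup G))).comp (T : Subgroup G).subtype
    have hker : c.ker ≠ ⊥ := by
      intro h
      haveI : Fintype (P : Subgroup G) := Fintype.ofFinite _
      have hinj := (MonoidHom.ker_eq_bot_iff c).mp h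
      have hle := Nat.card_le_card_of_injective c hinj
      rw [hT] at hle
      haveI : IsCyclic (P : Subgroup G) := isCyclic_of_prime_card hP
      rw [Nat.card_congr (IsCyclic.mulAutMulEquiv (P : Subgroup G)).toEquiv, hP, Nat.card_eq_fintype_card,
        ZMod.card_units 3] at hle
      omega
    obtain ⟨k, hk⟩ := exists_prime_orderOf_dvd_card' (G := c.ker) 2 (by
      have h2 := Subgroup.card_subgroup_dvd_card c.ker
      rw [hT] at h2
      have h3 : Nat.card c.ker ≠ 1 := fun h => hker (Subgroup.card_eq_one.mp h)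
      have h4 := Nat.le_of_dvd (by norm_num) h2
      interval_cases Nat.card c.ker <;> simp_all)
    rw [← Subgroup.orderOf_coe, ← Subgroup.orderOf_coe] at hk
    refine hz _ hk ?_
    haveI : IsMulCommutative (T : Subgroup G) :=
      IsPGroup.isMulCommutative_of_card_eq_prime_sq (p := 2) (by rw [hT]; norm_num)
    have hfix : ∀ q ∈ (P : Subgroup G), Commute ((k : (T : Subgroup G)) : G) q := fun q hq => by
      have h := congrArg (fun e : MulAut (P : Subgroup G) => ((e ⟨q, hq⟩ : (P : Subgroup G)) : G)) (MonoidHom.mem_ker.mp k.2)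
      simp only [MulAut.one_apply] at h
      exact mul_inv_eq_iff_eq_mul.mp h
    have hle : (P : Subgroup G) ⊔ (T : Subgroup G) ≤ Subgroup.centralizer ({((k : (T : Subgroup G)) : G)} : Set G) :=
      sup_le (fun q hq => Subgroup.mem_centralizer_singleton_iff.mpr (hfix q hq).eq.symm) fun t ht =>
        Subgroup.mem_centralizer_singleton_iff.mpr
          (congrArg Subtype.val (IsMulCommutative.is_comm.comm (⟨t, ht⟩ : (T : Subgroup G)) k.1))
    have htop : (P : Subgroup G) ⊔ (T : Subgroup G) = ⊤ := by
      refine Subgroup.eq_top_of_card_eq _ (Nat.dvd_antisymm ((P : Subgroup G) ⊔ T).card_subgroup_dvd_card ?_)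
      rw [hG, show (12 : ℕ) = 3 * 4 by norm_num]
      refine Nat.Coprime.mul_dvd_of_dvd_of_dvd (by norm_num) ?_ ?_
      · exact (dvd_of_eq hP.symm).trans (Subgroup.card_dvd_of_le le_sup_left)
      · exact (dvd_of_eq hT.symm).trans (Subgroup.card_dvd_of_le le_sup_right)
    refine Subgroup.mem_center_iff.mpr fun g => ?_
    exact Subgroup.mem_centralizer_singleton_iff.mp (hle (htop.ge (Subgroup.mem_top g)))
  let φ := MulAction.toPermHom G (Sylow 3 G)
  have hinj : Function.Injective φ := by
    rw [← MonoidHom.ker_eq_bot_iff, Subgroup.eq_bot_iff_forall]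
    intro g hg
    have hn : ∀ Q : Sylow 3 G, g ∈ Subgroup.normalizer ((Q : Subgroup G) : Set G) := fun Q =>
      Sylow.smul_eq_iff_mem_normalizer.mp (congrArg (fun e : Equiv.Perm (Sylow 3 G) => e Q) (MonoidHom.mem_ker.mp hg))
    have hN : ∀ Q : Sylow 3 G, Subgroup.normalizer ((Q : Subgroup G) : Set G) = (Q : Subgroup G) := fun Q => by
      refine (Subgroup.eq_of_le_of_card_ge Subgroup.le_normalizer ?_).symm
      have h2 := (Subgroup.normalizer ((Q : Subgroup G) : Set G)).card_mul_index
      rw [show (Subgroup.normalizer ((Q : Subgroup G) : Set G)).index = 4 from hcard ▸ (Sylow.card_eq_index_normalizer Q).symm, hG] at h2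
      have hQ : Nat.card (Q : Subgroup G) = 3 := by
        exact (Q.card_eq_multiplicity.trans P.card_eq_multiplicity.symm).trans hP
      omega
    haveI : Nontrivial (Sylow 3 G) := Finite.one_lt_card_iff_nontrivial.mp (by omega)
    obtain ⟨Q, hQ⟩ := exists_ne P
    by_contra hg1
    refine hQ (Sylow.ext ?_)
    have hz1 : ∀ R : Sylow 3 G, Subgroup.zpowers g = (R : Subgroup G) := fun R => by
      refine Subgroup.eq_of_le_of_card_ge (Subgroup.zpowers_le.mpr (hN R ▸ hn R)) ?_
      have hR : Nat.card (R : Subgroup G) = 3 := by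
        exact (R.card_eq_multiplicity.trans P.card_eq_multiplicity.symm).trans hP
      have h3 := Subgroup.card_dvd_of_le (Subgroup.zpowers_le.mpr (hN R ▸ hn R))
      rw [hR] at h3 ⊢
      rcases (Nat.dvd_prime Nat.prime_three).mp h3 with h | h
      · exact absurd (orderOf_eq_one_iff.mp ((Nat.card_zpowers g).symm.trans h)) hg1
      · exact h.ge
    rw [← hz1 Q, ← hz1 P]
  haveI : Fintype (Sylow 3 G) := Fintype.ofFinite _
  let e : Sylow 3 G ≃ Fin 4 := Fintype.equivFinOfCardEq (by rw [← Nat.card_eq_fintype_card, hcard])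
  let ψ : G →* Equiv.Perm (Fin 4) := (Equiv.permCongrHom e).toMonoidHom.comp φ
  have hψ : Function.Injective ψ := (Equiv.permCongrHom e).injective.comp hinj
  have hidx : ψ.range.index = 2 := by
    have h := ψ.range.card_mul_index
    rw [Nat.card_congr (MonoidHom.ofInjective hψ).toEquiv.symm, hG, Nat.card_perm, Nat.card_fin] at h
    simp [Nat.factorial] at h
    omega
  exact ⟨(MonoidHom.ofInjective hψ).trans
    (MulEquiv.subgroupCongr (Equiv.Perm.eq_alternatingGroup_of_index_eq_two hidx))⟩

end Cfsg.Agent.S0228
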