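import Cfsg.Statements.S0013
import Cfsg.Agent.PGroups.Basic

set_option autoImplicit false
open Cfsg

namespace Cfsg.Agent.S0013

/-- In a finite p-group the Frattini subgroup is the smallest normal subgroup with elementary abelian quotient: it lies below any normal subgroup containing all commutators and all p-th powers. -/
theorem result {G : Type*} [Group G] [Finite G] (p : ℕ) [Fact p.Prime]
    (hG : IsPGroup p G) (N : Subgroup G) [N.Normal] (hcomm : commutator G ≤ N) (hpow : ∀ x : G, x ^ p ∈ N) :
    frattini G ≤ N := by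
  intro x hx
  by_contra hxN
  obtain ⟨M, ⟨hNM, hxM⟩, hmax⟩ := WellFounded.has_min (wellFounded_gt (α := Subgroup G))
    {M | N ≤ M ∧ x ∉ M} ⟨N, le_rfl, hxN⟩
  have hn : ∀ g : G, g ∉ M → x ∈ M ⊔ Subgroup.zpowers g := fun g hg => by
    by_contra hxg
    exact hmax _ ⟨hNM.trans le_sup_left, hxg⟩ (lt_of_le_of_ne le_sup_left
      fun h => hg (h ▸ Subgroup.mem_sup_right (Subgroup.mem_zpowers g)))
  haveI hMn : M.Normal := ⟨fun m hm g => by
    have h1 : g * m * g⁻¹ * m⁻¹ ∈ M :=
      hNM (hcomm (by
        rw [← commutatorElement_def, commutator_def]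
        exact Subgroup.commutator_mem_commutator (Subgroup.mem_top g) (Subgroup.mem_top m)))
    simpa using M.mul_mem h1 hm⟩
  have hcard : ∀ g : G, g ∉ M → M ⊔ Subgroup.zpowers g = M ⊔ Subgroup.zpowers x := by
    intro g hg
    have key : ∀ y : G, y ∉ M → M.relIndex (M ⊔ Subgroup.zpowers y) = p := by
      intro y hy
      rw [Subgroup.relIndex_sup_left]
      have hne : M.relIndex (Subgroup.zpowers y) ≠ 1 := fun h =>
        hy (Subgroup.relIndex_eq_one.mp h (Subgroup.mem_zpowers y))
      have hle : Subgroup.zpowers (y ^ p) ≤ M ⊓ Subgroup.zpowers y :=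
        le_inf (Subgroup.zpowers_le.mpr (hNM (hpow y)))
          (Subgroup.zpowers_le.mpr (pow_mem (Subgroup.mem_zpowers y) p))
      have hd : M.relIndex (Subgroup.zpowers y) ∣ p := by
        rw [← Subgroup.inf_relIndex_right]
        refine dvd_trans (Subgroup.relIndex_dvd_of_le_left _ hle) ?_
        have he : Subgroup.zpowers (y ^ p) ≤ Subgroup.zpowers y :=
          Subgroup.zpowers_le.mpr (pow_mem (Subgroup.mem_zpowers y) p)
        have hm := Subgroup.relIndex_mul_relIndex ⊥ _ _ bot_le he
        rw [Subgroup.relIndex_bot_left, Subgroup.relIndex_bot_left, Nat.card_zpowers, Nat.card_zpowers,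
          orderOf_pow] at hm
        have hg' : orderOf y / (orderOf y).gcd p * (orderOf y).gcd p = orderOf y :=
          Nat.div_mul_cancel (Nat.gcd_dvd_left _ _)
        have hpos : 0 < orderOf y / (orderOf y).gcd p :=
          Nat.div_pos (Nat.le_of_dvd (orderOf_pos y) (Nat.gcd_dvd_left _ _))
            (Nat.gcd_pos_of_pos_left _ (orderOf_pos y))
        rw [Nat.eq_of_mul_eq_mul_left hpos (hm.trans hg'.symm)]
        exact Nat.gcd_dvd_right _ _
      exact ((Nat.dvd_prime Fact.out).mp hd).resolve_left hne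
    refine (Subgroup.eq_of_le_of_card_ge (sup_le le_sup_left (Subgroup.zpowers_le.mpr (hn g hg))) ?_).symm
    have h1 := Subgroup.relIndex_mul_relIndex ⊥ M (M ⊔ Subgroup.zpowers g) bot_le le_sup_left
    have h2 := Subgroup.relIndex_mul_relIndex ⊥ M (M ⊔ Subgroup.zpowers x) bot_le le_sup_left
    rw [Subgroup.relIndex_bot_left, Subgroup.relIndex_bot_left, key g hg] at h1
    rw [Subgroup.relIndex_bot_left, Subgroup.relIndex_bot_left, key x hxM] at h2
    exact le_of_eq (h1.symm.trans h2)
  have hco : IsCoatom M := by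
    refine ⟨fun h => hxM (h ▸ Subgroup.mem_top x), fun K hK => eq_top_iff.mpr fun g _ => ?_⟩
    obtain ⟨k, hk, hkM⟩ := SetLike.exists_of_lt hK
    by_cases hg : g ∈ M
    · exact hK.le hg
    · have h1 : g ∈ M ⊔ Subgroup.zpowers k := by
        rw [hcard k hkM, ← hcard g hg]; exact Subgroup.mem_sup_right (Subgroup.mem_zpowers g)
      exact (sup_le hK.le (Subgroup.zpowers_le.mpr hk)) h1
  exact hxM (frattini_le_coatom hco hx)

end Cfsg.Agent.S0013
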