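import Cfsg.Statements.S0014
import Cfsg.Agent.PGroups.Basic

set_option autoImplicit false
open Cfsg

namespace Cfsg.Agent.S0014

/-- Burnside's basis Theorem: in a finite p-group whose Frattini quotient has order p ^ n, every generating set contains n elements that already generate, and no set with fewer than n elements generates. -/
theorem result {G : Type*} [Group G] [Finite G] (p n : ℕ) [Fact p.Prime]
    (hG : IsPGroup p G) (hn : (frattini G).index = p ^ n) :
    (∀ S : Finset G, Subgroup.closure (S : Set G) = ⊤ → ∃ T : Finset G, T ⊆ S ∧ T.card = n ∧ Subgroup.closure (T : Set G) = ⊤) ∧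
    (∀ T : Finset G, Subgroup.closure (T : Set G) = ⊤ → n ≤ T.card) := by
  classical
  have hp : Fact p.Prime := inferInstance
  set Φ := frattini G with hΦ
  have hstep : ∀ (K : Subgroup G) (x : G), Φ ≤ K →
      (x ∈ K ∧ K ⊔ Subgroup.zpowers x = K) ∨ K.relIndex (K ⊔ Subgroup.zpowers x) = p := by
    intro K x hK
    by_cases hx : x ∈ K
    · exact Or.inl ⟨hx, sup_eq_left.mpr (Subgroup.zpowers_le.mpr hx)⟩
    right
    haveI : K.Normal := ⟨fun m hm g => by
      have h1 : g * m * g⁻¹ * m⁻¹ ∈ K :=
        hK (Cfsg.Lib.PGroups.commutator_le_frattini hG (by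
          rw [← commutatorElement_def, commutator_def]
          exact Subgroup.commutator_mem_commutator (Subgroup.mem_top g) (Subgroup.mem_top m)))
      simpa using K.mul_mem h1 hm⟩
    rw [Subgroup.relIndex_sup_left]
    have hne : K.relIndex (Subgroup.zpowers x) ≠ 1 := fun h =>
      hx (Subgroup.relIndex_eq_one.mp h (Subgroup.mem_zpowers x))
    obtain ⟨j, hj⟩ := (hG.to_subgroup (Subgroup.zpowers x)).index (K.subgroupOf (Subgroup.zpowers x))
    have hdvd : K.relIndex (Subgroup.zpowers x) ∣ p := by
      haveI : (K.subgroupOf (Subgroup.zpowers x)).Normal := inferInstance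
      have hcyc : IsCyclic (↥(Subgroup.zpowers x) ⧸ K.subgroupOf (Subgroup.zpowers x)) :=
        isCyclic_of_surjective (QuotientGroup.mk' _) (QuotientGroup.mk'_surjective _)
      show (K.subgroupOf (Subgroup.zpowers x)).index ∣ p
      rw [Subgroup.index_eq_card, ← IsCyclic.exponent_eq_card]
      refine Monoid.exponent_dvd_of_forall_pow_eq_one fun q => ?_
      obtain ⟨⟨y, hy⟩, rfl⟩ := QuotientGroup.mk_surjective q
      rw [← QuotientGroup.mk_pow, QuotientGroup.eq_one_iff]
      exact hK (Cfsg.Lib.PGroups.pow_mem_frattini hG y)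
    exact ((Nat.dvd_prime Fact.out).mp hdvd).resolve_left hne
  set L : Finset G → Subgroup G := fun T => Φ ⊔ Subgroup.closure (T : Set G) with hL
  have hins : ∀ T x, L (insert x T) = L T ⊔ Subgroup.zpowers x := fun T x => by
    simp only [hL, Finset.coe_insert, ← Set.union_singleton, Subgroup.closure_union,
      ← Subgroup.zpowers_eq_closure, sup_assoc]
  have hupper : ∀ T : Finset G, Φ.relIndex (L T) ≤ p ^ T.card := by
    intro T
    induction T using Finset.induction_on with
    | empty => simp [hL]
    | @insert x T hx ih =>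
      rw [hins, Finset.card_insert_of_notMem hx, pow_succ]
      rcases hstep (L T) x le_sup_left with ⟨-, h⟩ | h
      · rw [h]; exact ih.trans (Nat.le_mul_of_pos_right _ hp.out.pos)
      · rw [← Subgroup.relIndex_mul_relIndex Φ (L T) _ le_sup_left le_sup_left, h]
        exact Nat.mul_le_mul_right _ ih
  have hlower : ∀ T : Finset G, Subgroup.closure (T : Set G) = ⊤ → p ^ n ≤ Φ.relIndex (L T) := by
    intro T hT
    have : L T = ⊤ := by simp [hL, hT]
    rw [this, Subgroup.relIndex_top_right, hn]
  refine ⟨fun S hS => ?_, fun T hT => (Nat.pow_le_pow_iff_right hp.out.one_lt).mp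
    ((hlower T hT).trans (hupper T))⟩
  obtain ⟨T, ⟨hTS, hT⟩, hmin⟩ := WellFounded.has_min (wellFounded_lt (α := Finset G))
    {T | T ⊆ S ∧ Subgroup.closure (T : Set G) = ⊤} ⟨S, subset_rfl, hS⟩
  have hgrow : ∀ U : Finset G, U ⊆ T → p ^ U.card ≤ Φ.relIndex (L U) := by
    intro U
    induction U using Finset.induction_on with
    | empty => simp [hL]
    | @insert x U hx ih =>
      intro hU
      have hUT := (Finset.subset_insert x U).trans hU
      rw [hins, Finset.card_insert_of_notMem hx, pow_succ]
      rcases hstep (L U) x le_sup_left with ⟨hxU, -⟩ | h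
      · exfalso
        refine hmin (T.erase x) ⟨(Finset.erase_subset x T).trans hTS, ?_⟩
          (Finset.erase_ssubset (hU (Finset.mem_insert_self x U)))
        refine frattini_nongenerating ?_
        rw [eq_top_iff, ← hT, Subgroup.closure_le]
        intro y hy
        by_cases hyx : y = x
        · subst hyx
          have hsub : L U ≤ Subgroup.closure ((T.erase y : Finset G) : Set G) ⊔ frattini G :=
            sup_le le_sup_right ((Subgroup.closure_mono (fun u hu => Finset.mem_erase.mpr
              ⟨by rintro rfl; exact hx hu, hUT hu⟩)).trans le_sup_left)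
          exact hsub hxU
        · exact Subgroup.mem_sup_left (Subgroup.subset_closure (Finset.mem_erase.mpr ⟨hyx, hy⟩))
      · rw [← Subgroup.relIndex_mul_relIndex Φ (L U) _ le_sup_left le_sup_left, h]
        exact Nat.mul_le_mul_right _ (ih hUT)
  refine ⟨T, hTS, ?_, hT⟩
  have hTtop : Φ.relIndex (L T) = p ^ n := by
    have : L T = ⊤ := by simp [hL, hT]
    rw [this, Subgroup.relIndex_top_right, hn]
  exact le_antisymm ((Nat.pow_le_pow_iff_right hp.out.one_lt).mp (hTtop ▸ hgrow T subset_rfl))
    ((Nat.pow_le_pow_iff_right hp.out.one_lt).mp (hTtop ▸ hupper T))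

end Cfsg.Agent.S0014
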