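import Cfsg.Statements.S0020
import Cfsg.Agent.SolvStruct.SystemNormalizer

set_option autoImplicit false
open Pointwise
open Cfsg

namespace Cfsg.Agent.S0020

open Cfsg.Lib.Systems

theorem card_iInf_system {G : Type*} [Group G] [Finite G] {K : Nat.Primes → Subgroup G}
    (hK : Cfsg.IsComplementSystem K) (p : Nat.Primes) :
    Nat.card (⨅ r : Nat.Primes, ⨅ (_ : r ≠ p), K r : Subgroup G) =
      (p : ℕ) ^ (Nat.card G).factorization p := by
  set P : Subgroup G := ⨅ r : Nat.Primes, ⨅ (_ : r ≠ p), K r with hP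
  refine Nat.eq_of_factorization_eq Nat.card_pos.ne' (pow_ne_zero _ p.2.ne_zero) fun r => ?_
  rw [p.2.factorization_pow, Finsupp.single_apply]
  by_cases hr : r.Prime
  swap
  · rw [Nat.factorization_eq_zero_of_not_prime _ hr, if_neg (fun e : (p : ℕ) = r => hr (e ▸ p.2))]
  split_ifs with e
  · subst e
    have hidx : ¬ (p : ℕ) ∣ P.index := by
      intro h
      let s : Finset Nat.Primes :=
        ((Nat.card G).primeFactors.attach.image
          fun x => (⟨x.1, Nat.prime_of_mem_primeFactors x.2⟩ : Nat.Primes)).filter fun q => q ≠ p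
      have hle : (⨅ r ∈ s, K r : Subgroup G) ≤ P := by
        refine le_iInf₂ fun q hq => ?_
        by_cases hd : (q : ℕ) ∣ Nat.card G
        · exact iInf₂_le q (Finset.mem_filter.2 ⟨Finset.mem_image.2
            ⟨⟨q, Nat.mem_primeFactors.2 ⟨q.2, hd, Nat.card_pos.ne'⟩⟩, Finset.mem_attach _ _, rfl⟩, hq⟩)
        · rw [system_eq_top hK q hd]
          exact le_top
      obtain ⟨q, hq, he⟩ := dvd_index_iInf hK s p p.2 (h.trans (Subgroup.index_dvd_of_le hle))
      exact (Finset.mem_filter.1 hq).2 (Subtype.ext he)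
    have hmul := congrArg (fun n => n.factorization (p : ℕ)) P.card_mul_index
    simp only [Nat.factorization_mul Nat.card_pos.ne' P.index_ne_zero_of_finite, Finsupp.add_apply,
      Nat.factorization_eq_zero_of_not_dvd hidx, add_zero] at hmul
    exact hmul
  · exact Nat.factorization_eq_zero_of_not_dvd fun h => not_dvd_card hK ⟨r, hr⟩
      (h.trans (Subgroup.card_dvd_of_le (iInf₂_le (⟨r, hr⟩ : Nat.Primes)
        fun e' => e (congrArg Subtype.val e').symm)))


/-- A finite solvable group admits a Sylow system: Sylow subgroups, one for each prime, that pairwise permute as sets. -/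
theorem result {G : Type*} [Group G] [Finite G] [Group.IsSolvable G] :
    ∃ S : (p : Nat.Primes) → Sylow (p : ℕ) G,
      ∀ p q : Nat.Primes, (S p : Set G) * (S q : Set G) = (S q : Set G) * (S p : Set G) := by
  obtain ⟨K, hK⟩ := exists_system G
  haveI : ∀ p : Nat.Primes, Fact (p : ℕ).Prime := fun p => ⟨p.2⟩
  refine ⟨fun p => Sylow.ofCard _ (card_iInf_system hK p), fun p q => ?_⟩
  show ((⨅ r : Nat.Primes, ⨅ (_ : r ≠ p), K r : Subgroup G) : Set G) * ((⨅ r : Nat.Primes, ⨅ (_ : r ≠ q), K r : Subgroup G) : Set G) =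
    ((⨅ r : Nat.Primes, ⨅ (_ : r ≠ q), K r : Subgroup G) : Set G) * ((⨅ r : Nat.Primes, ⨅ (_ : r ≠ p), K r : Subgroup G) : Set G)
  set A : Subgroup G := ⨅ r : Nat.Primes, ⨅ (_ : r ≠ p), K r with hA
  set B : Subgroup G := ⨅ r : Nat.Primes, ⨅ (_ : r ≠ q), K r with hB
  by_cases hpq : p = q
  · subst hpq
    rfl
  let D : Subgroup G := ⨅ r : Nat.Primes, ⨅ (_ : r ≠ p ∧ r ≠ q), K r
  have hAD : A ≤ D := le_iInf₂ fun r hr => iInf₂_le r hr.1
  have hBD : B ≤ D := le_iInf₂ fun r hr => iInf₂_le r hr.2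
  have hcop : (A.subgroupOf D).index.Coprime (B.subgroupOf D).index := by
    refine Nat.coprime_of_dvd fun r hr h1 h2 => ?_
    have e1 : r ≠ p := fun e => by
      have := h1.trans (Subgroup.relIndex_dvd_index_of_le hAD)
      rw [e] at this
      exact (Sylow.ofCard _ (card_iInf_system hK p)).not_dvd_index this
    have e2 : r ≠ q := fun e => by
      have := h2.trans (Subgroup.relIndex_dvd_index_of_le hBD)
      rw [e] at this
      exact (Sylow.ofCard _ (card_iInf_system hK q)).not_dvd_index this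
    exact not_dvd_card hK ⟨r, hr⟩ ((h1.trans (Subgroup.index_dvd_card _)).trans (Subgroup.card_dvd_of_le
      (iInf₂_le (⟨r, hr⟩ : Nat.Primes) ⟨fun e => e1 (congrArg Subtype.val e), fun e => e2 (congrArg Subtype.val e)⟩)))
  have h1 := (Cfsg.Lib.Coprime.inf_index_of_coprime _ _ hcop).2
  have h2 := (Cfsg.Lib.Coprime.inf_index_of_coprime _ _ hcop.symm).2
  have e : ∀ (X Y : Subgroup G), X ≤ D → Y ≤ D →
      (∀ g : D, ∃ x ∈ X.subgroupOf D, ∃ y ∈ Y.subgroupOf D, g = x * y) →
      (X : Set G) * (Y : Set G) = (D : Set G) := by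
    intro X Y hX hY h
    ext g
    constructor
    · rintro ⟨x, hx, y, hy, rfl⟩
      exact mul_mem (hX hx) (hY hy)
    · intro hg
      obtain ⟨x, hx, y, hy, he⟩ := h ⟨g, hg⟩
      exact ⟨x, hx, y, hy, (congrArg Subtype.val he).symm⟩
  rw [e A B hAD hBD h1, e B A hBD hAD h2]

end Cfsg.Agent.S0020
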