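import Cfsg.Statements.S0031
import Cfsg.Agent.Coprime.Basic
import Mathlib.GroupTheory.FixedPointFree

set_option autoImplicit false
open Cfsg

namespace Cfsg.Agent.S0031

/-- A fixed-point-free automorphism of a finite group maps some Sylow p-subgroup to itself. -/
theorem result {G : Type*} [Group G] [Finite G] (φ : G ≃* G)
    (hφ : MonoidHom.FixedPointFree (φ : G →* G)) (p : ℕ) [Fact p.Prime] :
    ∃ P : Sylow p G, (P : Subgroup G).map (φ : G →* G) = P := by
  obtain ⟨P⟩ := (inferInstance : Nonempty (Sylow p G))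
  obtain ⟨g, hg⟩ := MulAction.exists_smul_eq G P (P.mapSurjective (f := (φ : G →* G)) φ.surjective)
  obtain ⟨y, hy⟩ := hφ.commutatorMap_surjective g⁻¹
  refine ⟨y⁻¹ • P, ?_⟩
  have hPg : (P : Subgroup G).map (φ : G →* G) = Cfsg.Lib.Coprime.conjMap g (P : Subgroup G) := by
    rw [← Cfsg.Lib.Coprime.conj_smul_eq, ← Sylow.coe_subgroup_smul, hg]
    rfl
  rw [Sylow.coe_subgroup_smul, Cfsg.Lib.Coprime.conj_smul_eq, Cfsg.Lib.Coprime.map_conjMap, hPg,
    Cfsg.Lib.Coprime.conjMap_mul]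
  congr 1
  have hy' : y / φ y = g⁻¹ := hy
  rw [div_eq_mul_inv] at hy'
  show φ y⁻¹ * g = y⁻¹
  rw [map_inv, eq_inv_iff_mul_eq_one, mul_assoc, inv_mul_eq_one]
  have := congrArg (fun z => g * (z * φ y)) hy'
  simpa [mul_assoc] using this.symm

end Cfsg.Agent.S0031
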