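import Cfsg.Statements.S0032
import Mathlib

set_option autoImplicit false
open Cfsg

namespace Cfsg.Agent.S0032

/-- If an automorphism of a finite group fixes only the identity and maps a normal subgroup N into itself, then the only cosets of N it fixes are those in N: a fixed coset xN forces x ∈ N. -/
theorem result {G : Type*} [Group G] [Finite G] (φ : G ≃* G)
    (hφ : MonoidHom.FixedPointFree (φ : G →* G)) (N : Subgroup G) [N.Normal] (hN : ∀ n ∈ N, φ n ∈ N)
    (x : G) (hx : (φ x)⁻¹ * x ∈ N) : x ∈ N := by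
  let f : N → N := fun m => ⟨(φ m)⁻¹ * m, mul_mem (inv_mem (hN m m.2)) m.2⟩
  have hinj : Function.Injective f := by
    intro a b hab
    have hab' : (φ (a : G))⁻¹ * a = (φ (b : G))⁻¹ * b := congrArg Subtype.val hab
    have h : φ ((a : G) * (b : G)⁻¹) = a * (b : G)⁻¹ := by
      rw [map_mul, map_inv]
      have := congrArg (fun z => φ (a : G) * z * (b : G)⁻¹) hab'
      simpa [mul_assoc] using this.symm
    exact Subtype.ext (mul_inv_eq_one.mp (hφ _ h))
  obtain ⟨m, hm⟩ := (Finite.injective_iff_surjective.mp hinj) ⟨_, hx⟩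
  have hm' : (φ (m : G))⁻¹ * m = (φ x)⁻¹ * x := congrArg Subtype.val hm
  have h : φ (x * (m : G)⁻¹) = x * (m : G)⁻¹ := by
    rw [map_mul, map_inv]
    have := congrArg (fun z => φ x * z * (m : G)⁻¹) hm'
    simpa [mul_assoc] using this
  rw [mul_inv_eq_one.mp (hφ _ h)]
  exact m.2

end Cfsg.Agent.S0032
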