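import Cfsg.Statements.S0038
import Cfsg.Agent.Frobenius.Kernel
import Cfsg.Agent.Components.Cores
import Cfsg.Agent.Coprime.SolvableBasics

set_option autoImplicit false
open Pointwise
open Cfsg

namespace Cfsg.Agent.S0038

theorem fitting_eq_kernel {G : Type*} [Group G] [Finite G] {H : Subgroup G}
    (hH : Cfsg.IsFrobeniusComplement H) {K : Subgroup G} [K.Normal]
    (hK : (K : Set G) = Cfsg.frobeniusKernel H) : Cfsg.fittingSubgroup G = K := by
  have hKnil := Cfsg.Lib.Frobenius.isNilpotent_kernel hH hK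
  obtain ⟨K', hK', -, hKc'⟩ := Cfsg.Lib.Frobenius.exists_kernel hH
  obtain rfl : K' = K := SetLike.coe_injective (hK'.trans hK.symm)
  have hle : K' ≤ Cfsg.fittingSubgroup G := Cfsg.Lib.Components.le_fitting hKnil
  refine le_antisymm (fun x hx => ?_) hle
  by_contra hxK
  have hx1 : x ≠ 1 := fun h => hxK (h ▸ one_mem _)
  have hxk : x ∉ Cfsg.frobeniusKernel H := fun h => hxK (by rw [← SetLike.mem_coe, hK]; exact h)
  simp only [Cfsg.frobeniusKernel, Set.mem_setOf_eq, not_or, not_forall, not_not] at hxk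
  obtain ⟨-, a, ha⟩ := hxk
  have hy : a⁻¹ * x * a ∈ H := Cfsg.Lib.Coprime.mem_conjMap.mp ha
  set F := Cfsg.fittingSubgroup G with hF
  haveI hFn : F.Normal := Subgroup.sSup_normal _ fun _ h => h.1
  have hyF : a⁻¹ * x * a ∈ F := by simpa using hFn.conj_mem x hx a⁻¹
  have hy1 : a⁻¹ * x * a ≠ 1 := fun h => hx1 (by
    have := congrArg (fun z => a * z * a⁻¹) h
    simpa [mul_assoc] using this)
  haveI : Group.IsNilpotent F := Cfsg.Lib.Components.isNilpotent_fitting
  have hKne : K' ≠ ⊥ := fun h => hH.2.1 (Subgroup.eq_top_of_card_eq H (by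
    rw [← hKc'.card_mul, h, Subgroup.card_bot, one_mul]))
  have hne : K'.subgroupOf F ≠ ⊥ := by
    rw [Ne, Subgroup.subgroupOf_eq_bot, disjoint_iff, inf_eq_left.mpr hle]
    exact hKne
  obtain ⟨z, hz, hz1⟩ : ∃ z ∈ K'.subgroupOf F ⊓ Subgroup.center F, z ≠ 1 := by
    by_contra h
    push Not at h
    exact Cfsg.Lib.Coprime.inf_center_ne_bot _ hne ((Subgroup.eq_bot_iff_forall _).mpr h)
  have hcomm := congrArg Subtype.val (Subgroup.mem_center_iff.mp hz.2 ⟨_, hyF⟩)
  have hzH : (z : G) ∈ H :=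
    Cfsg.Lib.Frobenius.mem_of_commute hH hy hy1 hcomm.symm
  refine hz1 (Subtype.ext (Cfsg.Lib.Frobenius.eq_one_of_mem_kernel (H := H) (g := 1) ?_
    (by rwa [Cfsg.Lib.Coprime.conjMap_one])))
  rw [← hK]
  exact hz.1


/-- All Frobenius complements of a finite group are conjugate to one another. -/
theorem result {G : Type*} [Group G] [Finite G] (H H₀ : Subgroup G)
    (hH : Cfsg.IsFrobeniusComplement H) (hH₀ : Cfsg.IsFrobeniusComplement H₀) :
    ∃ g : G, MulAut.conj g • H₀ = H := by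
  obtain ⟨K, hK, hKn, hKc⟩ := Cfsg.Lib.Frobenius.exists_kernel hH
  obtain ⟨K₀, hK₀, hK₀n, hK₀c⟩ := Cfsg.Lib.Frobenius.exists_kernel hH₀
  haveI := hKn
  haveI := hK₀n
  have hcard : Nat.card H₀ = Nat.card H := by
    have h1 : K₀ = K := (fitting_eq_kernel hH₀ hK₀).symm.trans (fitting_eq_kernel hH hK)
    subst h1
    exact Nat.eq_of_mul_eq_mul_left (Nat.card_pos (α := K₀)) (hK₀c.card_mul.trans hKc.card_mul.symm)
  obtain ⟨g, hg⟩ := Cfsg.Lib.Frobenius.exists_conj_le hH hH₀ hcard.le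
  refine ⟨g, ?_⟩
  rw [Cfsg.Lib.Coprime.conj_smul_eq]
  exact Subgroup.eq_of_le_of_card_ge hg (by rw [Cfsg.Lib.Coprime.card_conjMap, hcard])

end Cfsg.Agent.S0038
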