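import Cfsg.Statements.S0046
import Cfsg.Agent.SolvStruct.Schmidt

set_option autoImplicit false
open Cfsg

namespace Cfsg.Agent.S0046

/-- Schmidt's Theorem on minimal non-nilpotent groups: a finite group in which every maximal subgroup is nilpotent is solvable. -/
theorem result {G : Type*} [Group G] [Finite G]
    (h : ∀ M : Subgroup G, IsCoatom M → Group.IsNilpotent M) : Group.IsSolvable G := by
  by_cases hn : Group.IsNilpotent G
  · infer_instance
  have hG : Cfsg.IsMinimalNonNilpotent G := ⟨hn, fun H hH => by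
    obtain ⟨M, hM, hHM⟩ := (eq_top_or_exists_le_coatom H).resolve_left hH
    haveI := h M hM
    exact Group.nilpotent_of_mulEquiv (Subgroup.subgroupOfEquivOfLe hHM)⟩
  obtain ⟨p, q, hp, hq, -, P, Q, hP, hQn, hsup⟩ := Cfsg.Lib.Schmidt.schmidt hG
  haveI := hQn
  haveI := Fact.mk hq
  haveI := hP
  haveI : Group.IsNilpotent (Q : Subgroup G) := Q.2.isNilpotent
  haveI : Group.IsSolvable (P : Subgroup G) := Group.isSolvable_of_comm fun a b => (IsCyclic.isMulCommutative (α := (P : Subgroup G))).is_comm.comm a b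
  haveI : Group.IsSolvable (G ⧸ (Q : Subgroup G)) := by
    refine Group.isSolvable_of_surjective (f := (QuotientGroup.mk' (Q : Subgroup G)).comp (P : Subgroup G).subtype) fun y => ?_
    obtain ⟨g, rfl⟩ := QuotientGroup.mk'_surjective _ y
    obtain ⟨a, ha, b, hb, rfl⟩ := Subgroup.mem_sup_of_normal_right.1 (hsup.ge (Subgroup.mem_top g))
    refine ⟨⟨a, ha⟩, ?_⟩
    show QuotientGroup.mk' (Q : Subgroup G) a = _
    rw [map_mul, show QuotientGroup.mk' (Q : Subgroup G) b = 1 from (QuotientGroup.eq_one_iff b).2 hb, mul_one]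
  exact Group.isSolvable_of_ker_le_range (Q : Subgroup G).subtype (QuotientGroup.mk' (Q : Subgroup G)) (by simp)

end Cfsg.Agent.S0046
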