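import Cfsg.Statements.S0047
import Mathlib


set_option autoImplicit false
open Cfsg
open scoped commutatorElement

namespace Cfsg.Agent.S0047

/-- A finite group which is the product AB of two abelian subgroups A and B is solvable. -/
theorem result {G : Type*} [Group G] [Finite G] (A B : Subgroup G)
    [IsMulCommutative A] [IsMulCommutative B] (hAB : ∀ g : G, ∃ a ∈ A, ∃ b ∈ B, g = a * b) :
    Group.IsSolvable G := by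
  haveI hcA : ∀ x ∈ A, ∀ y ∈ A, x * y = y * x := fun x hx y hy =>
    congrArg Subtype.val (mul_comm' (⟨x, hx⟩ : A) ⟨y, hy⟩)
  have hcB : ∀ x ∈ B, ∀ y ∈ B, x * y = y * x := fun x hx y hy =>
    congrArg Subtype.val (mul_comm' (⟨x, hx⟩ : B) ⟨y, hy⟩)
  have hBA : ∀ g : G, ∃ b ∈ B, ∃ a ∈ A, g = b * a := fun g => by
    obtain ⟨a, ha, b, hb, h⟩ := hAB g⁻¹
    exact ⟨b⁻¹, inv_mem hb, a⁻¹, inv_mem ha, by rw [← mul_inv_rev, ← h, inv_inv]⟩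
  -- conjugating a commutator by an element of `A`, of `B`
  have hA1 : ∀ a ∈ A, ∀ b ∈ B, ∀ a₁ ∈ A, ∀ b₂ ∈ B, ∀ a₂ ∈ A, a₁ * b * a₁⁻¹ = b₂ * a₂ →
      a₁ * ⁅a, b⁆ * a₁⁻¹ = ⁅a, b₂⁆ := by
    intro a ha b _ a₁ ha₁ b₂ _ a₂ ha₂ h
    have h1 : a₁ * a * a₁⁻¹ = a := by rw [hcA a₁ ha₁ a ha, mul_inv_cancel_right]
    have h2 : a₁ * ⁅a, b⁆ * a₁⁻¹ = ⁅a₁ * a * a₁⁻¹, a₁ * b * a₁⁻¹⁆ := by
      simp only [commutatorElement_def]; group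
    have h3 : ⁅a, b₂ * a₂⁆ = a * b₂ * (a₂ * a⁻¹) * a₂⁻¹ * b₂⁻¹ := by
      simp only [commutatorElement_def]; group
    rw [h2, h1, h, h3, hcA a₂ ha₂ a⁻¹ (inv_mem ha)]
    simp only [commutatorElement_def]; group
  have hB1 : ∀ a ∈ A, ∀ b ∈ B, ∀ b₁ ∈ B, ∀ a₃ ∈ A, ∀ b₃ ∈ B, b₁ * a * b₁⁻¹ = a₃ * b₃ →
      b₁ * ⁅a, b⁆ * b₁⁻¹ = ⁅a₃, b⁆ := by
    intro a _ b hb b₁ hb₁ a₃ _ b₃ hb₃ h
    have h1 : b₁ * b * b₁⁻¹ = b := by rw [hcB b₁ hb₁ b hb, mul_inv_cancel_right]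
    have h2 : b₁ * ⁅a, b⁆ * b₁⁻¹ = ⁅b₁ * a * b₁⁻¹, b₁ * b * b₁⁻¹⁆ := by
      simp only [commutatorElement_def]; group
    have h3 : ⁅a₃ * b₃, b⁆ = a₃ * (b₃ * b) * b₃⁻¹ * a₃⁻¹ * b⁻¹ := by
      simp only [commutatorElement_def]; group
    rw [h2, h1, h, h3, hcB b₃ hb₃ b hb]
    simp only [commutatorElement_def]; group
  set S : Set G := {g | ∃ a ∈ A, ∃ b ∈ B, g = ⁅a, b⁆} with hS
  set C := Subgroup.closure S with hC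
  have hSC : ∀ a ∈ A, ∀ b ∈ B, ⁅a, b⁆ ∈ C := fun a ha b hb =>
    Subgroup.subset_closure ⟨a, ha, b, hb, rfl⟩
  haveI hCc : IsMulCommutative C := by
    refine Subgroup.isMulCommutative_closure ?_
    rintro _ ⟨a, ha, b, hb, rfl⟩ _ ⟨a₁, ha₁, b₁, hb₁, rfl⟩
    have key : ∀ a₁ ∈ A, ∀ b₁ ∈ B, ∀ t : G, (a₁ * b₁) * t * (a₁ * b₁)⁻¹ = (b₁ * a₁) * t * (b₁ * a₁)⁻¹ →
        t * ((b₁ * a₁)⁻¹ * (a₁ * b₁)) = ((b₁ * a₁)⁻¹ * (a₁ * b₁)) * t := by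
      intro a₁ _ b₁ _ t ht
      calc t * ((b₁ * a₁)⁻¹ * (a₁ * b₁))
          = (b₁ * a₁)⁻¹ * ((b₁ * a₁) * t * (b₁ * a₁)⁻¹) * (a₁ * b₁) := by group
        _ = _ := by rw [← ht]; group
    -- both orders of the four conjugating elements give the same conjugate
    obtain ⟨b₂', hb₂', a₂', ha₂', h2'⟩ := hBA (a₁⁻¹ * b * a₁⁻¹⁻¹)
    obtain ⟨a₃', ha₃', b₃', hb₃', h3'⟩ := hAB (b₁⁻¹ * a * b₁⁻¹⁻¹)
    have e1' : (a₁⁻¹ * b₁⁻¹) * ⁅a, b⁆ * (a₁⁻¹ * b₁⁻¹)⁻¹ = ⁅a₃', b₂'⁆ := by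
      rw [← hA1 a₃' ha₃' b hb a₁⁻¹ (inv_mem ha₁) b₂' hb₂' a₂' ha₂' h2',
        ← hB1 a ha b hb b₁⁻¹ (inv_mem hb₁) a₃' ha₃' b₃' hb₃' h3']
      group
    have e2' : (b₁⁻¹ * a₁⁻¹) * ⁅a, b⁆ * (b₁⁻¹ * a₁⁻¹)⁻¹ = ⁅a₃', b₂'⁆ := by
      rw [← hB1 a ha b₂' hb₂' b₁⁻¹ (inv_mem hb₁) a₃' ha₃' b₃' hb₃' h3',
        ← hA1 a ha b hb a₁⁻¹ (inv_mem ha₁) b₂' hb₂' a₂' ha₂' h2']
      group
    have := key a₁⁻¹ (inv_mem ha₁) b₁⁻¹ (inv_mem hb₁) ⁅a, b⁆ (e1'.trans e2'.symm)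
    simpa [commutatorElement_def, mul_assoc] using this
  have hconjA : ∀ a₁ ∈ A, ∀ x ∈ C, a₁ * x * a₁⁻¹ ∈ C := fun a₁ ha₁ => by
    have : C ≤ C.comap (MulAut.conj a₁).toMonoidHom := (Subgroup.closure_le _).mpr (by
      rintro _ ⟨a, ha, b, hb, rfl⟩
      obtain ⟨b₂, hb₂, a₂, ha₂, h⟩ := hBA (a₁ * b * a₁⁻¹)
      show a₁ * ⁅a, b⁆ * a₁⁻¹ ∈ C
      rw [hA1 a ha b hb a₁ ha₁ b₂ hb₂ a₂ ha₂ h]
      exact hSC a ha b₂ hb₂)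
    exact fun x hx => this hx
  have hconjB : ∀ b₁ ∈ B, ∀ x ∈ C, b₁ * x * b₁⁻¹ ∈ C := fun b₁ hb₁ => by
    have : C ≤ C.comap (MulAut.conj b₁).toMonoidHom := (Subgroup.closure_le _).mpr (by
      rintro _ ⟨a, ha, b, hb, rfl⟩
      obtain ⟨a₃, ha₃, b₃, hb₃, h⟩ := hAB (b₁ * a * b₁⁻¹)
      show b₁ * ⁅a, b⁆ * b₁⁻¹ ∈ C
      rw [hB1 a ha b hb b₁ hb₁ a₃ ha₃ b₃ hb₃ h]
      exact hSC a₃ ha₃ b hb)
    exact fun x hx => this hx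
  haveI hCn : C.Normal := ⟨fun x hx g => by
    obtain ⟨a, ha, b, hb, rfl⟩ := hAB g
    have := hconjA a ha _ (hconjB b hb x hx)
    simpa [mul_assoc] using this⟩
  haveI : Group.IsSolvable C := Group.isSolvable_of_comm fun u v => mul_comm' u v
  haveI : Group.IsSolvable (G ⧸ C) := by
    refine Group.isSolvable_of_comm fun u v => ?_
    obtain ⟨g, rfl⟩ := QuotientGroup.mk'_surjective C u
    obtain ⟨k, rfl⟩ := QuotientGroup.mk'_surjective C v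
    obtain ⟨a, ha, b, hb, rfl⟩ := hAB g
    obtain ⟨c, hc, d, hd, rfl⟩ := hAB k
    set π := QuotientGroup.mk' C
    have hab : ∀ x ∈ A, ∀ y ∈ B, Commute (π x) (π y) := fun x hx y hy => by
      rw [← commutatorElement_eq_one_iff_commute, ← map_commutatorElement]
      exact (QuotientGroup.eq_one_iff _).mpr (hSC x hx y hy)
    have h1 : Commute (π a) (π c * π d) :=
      Commute.mul_right (by rw [Commute, SemiconjBy, ← map_mul, ← map_mul, hcA a ha c hc]) (hab a ha d hd)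
    have h2 : Commute (π b) (π c * π d) :=
      Commute.mul_right (hab c hc b hb).symm (by rw [Commute, SemiconjBy, ← map_mul, ← map_mul, hcB b hb d hd])
    rw [map_mul, map_mul]
    exact (h1.mul_left h2).eq
  exact Group.isSolvable_of_ker_le_range (G' := C) C.subtype (QuotientGroup.mk' C) (by simp)

end Cfsg.Agent.S0047
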