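import Cfsg.Statements.S0048
import Cfsg.Agent.Coprime.Hall

set_option autoImplicit false
open Cfsg

namespace Cfsg.Agent.S0048

/-- In a finite solvable group every maximal subgroup has index a prime power. -/
theorem result {G : Type*} [Group G] [Finite G] [Group.IsSolvable G]
    (M : Subgroup G) (hM : IsCoatom M) : IsPrimePow M.index := by
  obtain ⟨k, hk⟩ : ∃ k, Nat.card G = k := ⟨_, rfl⟩
  induction k using Nat.strong_induction_on generalizing G with
  | _ k ih =>
    haveI : Nontrivial G := by
      by_contra h
      haveI := not_nontrivial_iff_subsingleton.mp h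
      exact hM.1 (Subsingleton.elim _ _)
    obtain ⟨N, -, hNn, hNb, hmin⟩ := Cfsg.Lib.Coprime.exists_minimal_normal
      (inferInstance : (⊤ : Subgroup G).Normal) (fun h => (bot_ne_top (α := Subgroup G)) h.symm)
    obtain ⟨hab, p, hp, hNp, -⟩ := Cfsg.Lib.Coprime.minimal_normal_solvable
      (inferInstance : Group.IsSolvable N) hNb hmin
    by_cases hle : N ≤ M
    · have hs := QuotientGroup.mk'_surjective N
      have hidx : (M.map (QuotientGroup.mk' N)).index = M.index :=
        M.index_map_eq hs (by rwa [QuotientGroup.ker_mk'])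
      rw [← hidx]
      refine ih _ ?_ _ ?_ rfl
      · rw [← hk]; exact Cfsg.Lib.Coprime.card_quotient_lt hNb
      · have hcomap : (M.map (QuotientGroup.mk' N)).comap (QuotientGroup.mk' N) = M :=
          Subgroup.comap_map_eq_self (by rwa [QuotientGroup.ker_mk'])
        refine ⟨fun h => hM.1 (by rw [← hcomap, h, Subgroup.comap_top]), fun L hL => ?_⟩
        have h2 : M < L.comap (QuotientGroup.mk' N) := by
          rw [← hcomap]; exact Subgroup.comap_lt_comap_of_surjective hs |>.mpr hL
        rw [← Subgroup.map_comap_eq_self_of_surjective hs L, hM.2 _ h2,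
          Subgroup.map_top_of_surjective _ hs]
    · have hsup : N ⊔ M = ⊤ := hM.2 _ (lt_of_le_of_ne le_sup_right fun h => hle (h ▸ le_sup_left))
      have hinf : N ⊓ M = ⊥ := by
        refine (hmin (N ⊓ M) ?_ inf_le_left).resolve_right fun h => hle (h ▸ inf_le_right)
        refine Subgroup.normalizer_eq_top_iff.mp (eq_top_iff.mpr (hsup.ge.trans (sup_le ?_ ?_)))
        · intro n hn
          rw [Subgroup.mem_normalizer_iff]
          intro x
          constructor
          · intro hx
            rwa [show n * x = x * n from congrArg Subtype.val (mul_comm' (⟨n, hn⟩ : N) ⟨x, hx.1⟩),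
              mul_inv_cancel_right]
          · intro hx
            have h2 := congrArg Subtype.val (mul_comm' (⟨n, hn⟩ : N) ⟨_, hx.1⟩)
            simp only [Subgroup.coe_mul] at h2
            have h3 : x = n * x * n⁻¹ := by
              have := congrArg (fun z => n⁻¹ * z) h2
              simpa [mul_assoc] using this.symm
            rwa [h3]
        · exact Cfsg.Lib.Coprime.le_normalizer_inf Subgroup.le_normalizer_of_normal Subgroup.le_normalizer
      obtain ⟨j, hj⟩ := @IsPGroup.exists_card_eq p N _ ⟨hp⟩ _ hNp
      rcases j with _ | j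
      · exact absurd (Subgroup.card_eq_one.mp (by simpa using hj)) hNb
      rw [isPrimePow_nat_iff]
      refine ⟨p, j + 1, hp, j.succ_pos, ?_⟩
      have hc := Cfsg.Lib.Coprime.card_sup_of_inf_eq_bot
        (Subgroup.le_normalizer_of_normal (H := N) (K := M)) hinf
      rw [hsup, Subgroup.card_top, ← M.index_mul_card, hj] at hc
      exact (Nat.eq_of_mul_eq_mul_right Nat.card_pos hc).symm

end Cfsg.Agent.S0048
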