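import Cfsg.Statements.S0050
import Cfsg.Agent.Coprime.Hall

set_option autoImplicit false
open Cfsg

namespace Cfsg.Agent.S0050

/-- Frattini argument for Hall subgroups: if L is a solvable normal subgroup and H a subgroup of L of order coprime to its index in L, then L together with the normaliser of H generates the whole group. -/
theorem result {G : Type*} [Group G] [Finite G] (L : Subgroup G) [L.Normal] (hL : Group.IsSolvable L)
    (H : Subgroup G) (hHL : H ≤ L) (hHall : (Nat.card H).Coprime (H.relIndex L)) :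
    L ⊔ Subgroup.normalizer (H : Set G) = ⊤ := by
  haveI := hL
  rw [eq_top_iff]
  intro g _
  have hgH : Cfsg.Lib.Coprime.conjMap g H ≤ L := by
    have := Cfsg.Lib.Coprime.conjMap_mono (g := g) hHL
    rwa [Cfsg.Lib.Coprime.conjMap_eq_self (H := L) (by rw [L.normalizer_eq_top]; exact Subgroup.mem_top g)] at this
  have hhall : ∀ J : Subgroup G, J ≤ L → Nat.card J = Nat.card H →
      Cfsg.IsPiHall {q | q ∣ Nat.card H} (J.subgroupOf L) := fun J hJ hc =>
    Cfsg.Lib.Coprime.isPiHall_of_card_eq
      (by rw [← (H.subgroupOf L).card_mul_index, Nat.card_congr (Subgroup.subgroupOfEquivOfLe hHL).toEquiv]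
          rfl) hHall
      (by rw [Nat.card_congr (Subgroup.subgroupOfEquivOfLe hJ).toEquiv, hc])
  obtain ⟨l, hl⟩ := Cfsg.Lib.Coprime.piHall_conj (hhall H hHL rfl)
    (hhall _ hgH (Cfsg.Lib.Coprime.card_conjMap g H))
  have h2 := congrArg (Subgroup.map L.subtype) hl
  rw [Cfsg.Lib.Coprime.map_conjMap, Subgroup.map_subgroupOf_eq_of_le hgH,
    Subgroup.map_subgroupOf_eq_of_le hHL] at h2
  have h3 : (l : G)⁻¹ * g ∈ Subgroup.normalizer (H : Set G) := by
    rw [← Cfsg.Lib.Coprime.conjMap_eq_self_iff, ← Cfsg.Lib.Coprime.conjMap_mul, h2]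
    exact Cfsg.Lib.Coprime.conjMap_inv_conjMap _ _
  rw [show g = (l : G) * ((l : G)⁻¹ * g) by group]
  exact Subgroup.mul_mem_sup l.2 h3

end Cfsg.Agent.S0050
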