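import Cfsg.Statements.S0053
import Cfsg.Agent.Coprime.Basic

set_option autoImplicit false
open Cfsg

namespace Cfsg.Agent.S0053

/-- An abelian minimal normal subgroup N of a finite group is complemented exactly when N is not inside the Frattini subgroup. -/
theorem result {G : Type*} [Group G] [Finite G]
    (N : Subgroup G) [N.Normal] [IsMulCommutative N] (hN : N ≠ ⊥)
    (hmin : ∀ M : Subgroup G, M.Normal → M ≤ N → M = ⊥ ∨ M = N) :
    (∃ H : Subgroup G, Subgroup.IsComplement' N H) ↔ ¬ N ≤ frattini G := by
  constructor
  · rintro ⟨H, hH⟩ hle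
    refine hN ?_
    have htop : H = ⊤ := frattini_nongenerating (eq_top_iff.mpr
      (hH.sup_eq_top.ge.trans (sup_le (hle.trans le_sup_right) le_sup_left)))
    have := hH.disjoint.eq_bot
    rwa [htop, inf_top_eq] at this
  · intro h
    obtain ⟨M, hM, hNM⟩ : ∃ M, IsCoatom M ∧ ¬ N ≤ M := by
      by_contra hcon
      push Not at hcon
      exact h (by simp only [frattini, Order.radical]; exact le_iInf₂ fun M hM => hcon M hM)
    have hsup : N ⊔ M = ⊤ := hM.2 _ (lt_of_le_of_ne le_sup_right fun h => hNM (h ▸ le_sup_left))
    have hinf : N ⊓ M = ⊥ := by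
      refine (hmin (N ⊓ M) ?_ inf_le_left).resolve_right fun h => hNM (h ▸ inf_le_right)
      refine Subgroup.normalizer_eq_top_iff.mp (eq_top_iff.mpr (hsup.ge.trans (sup_le ?_ ?_)))
      · intro n hn
        rw [Subgroup.mem_normalizer_iff]
        intro x
        constructor
        · intro hx
          rwa [show n * x = x * n from congrArg Subtype.val (mul_comm' (⟨n, hn⟩ : N) ⟨x, hx.1⟩),
            mul_inv_cancel_right]
        · intro hx
          have h2 := congrArg Subtype.val (mul_comm' (⟨n, hn⟩ : N) ⟨_, hx.1⟩)
          simp only [Subgroup.coe_mul] at h2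
          have h3 : x = n * x * n⁻¹ := by
            have := congrArg (fun z => n⁻¹ * z) h2
            simpa [mul_assoc] using this.symm
          rwa [h3]
      · exact Cfsg.Lib.Coprime.le_normalizer_inf Subgroup.le_normalizer_of_normal Subgroup.le_normalizer
    refine ⟨M, Subgroup.isComplement'_of_disjoint_and_mul_eq_univ (disjoint_iff.mpr hinf) ?_⟩
    rw [← Subgroup.normal_mul, hsup, Subgroup.coe_top]

end Cfsg.Agent.S0053
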