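import Cfsg.Statements.S0054
import Mathlib


set_option autoImplicit false
open Cfsg

namespace Cfsg.Agent.S0054

/-- A regular normal subgroup of a finite 2-transitive group is elementary abelian: it is commutative and all its elements have order dividing one prime. -/
theorem result {G : Type*} [Group G] [Finite G]
    {X : Type*} [Nonempty X] [MulAction G X] (h2 : MulAction.IsMultiplyPretransitive G X 2)
    (N : Subgroup G) [N.Normal] (htrans : MulAction.IsPretransitive N X) (hreg : ∀ x : X, MulAction.stabilizer N x = ⊥) :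
    IsMulCommutative N ∧ ∃ p : ℕ, p.Prime ∧ ∀ n ∈ N, n ^ p = 1 := by
  classical
  obtain ⟨x₀⟩ := ‹Nonempty X›
  rw [MulAction.is_two_pretransitive_iff] at h2
  have hinj : ∀ n m : N, n • x₀ = m • x₀ → n = m := fun n m h => by
    have : m⁻¹ * n ∈ MulAction.stabilizer N x₀ := by
      rw [MulAction.mem_stabilizer_iff, mul_smul, h, inv_smul_smul]
    rw [hreg x₀, Subgroup.mem_bot] at this
    exact (inv_mul_eq_one.mp this).symm
  have hconj : ∀ n m : N, n ≠ 1 → m ≠ 1 → ∃ g : G, g * n * g⁻¹ = (m : G) := by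
    intro n m hn hm
    have hn' : x₀ ≠ n • x₀ := fun h => hn (hinj n 1 (by rw [one_smul]; exact h.symm))
    have hm' : x₀ ≠ m • x₀ := fun h => hm (hinj m 1 (by rw [one_smul]; exact h.symm))
    obtain ⟨g, hg1, hg2⟩ := h2 hn' hm'
    refine ⟨g, congrArg Subtype.val
      (hinj ⟨g * n * g⁻¹, (inferInstance : N.Normal).conj_mem n n.2 g⟩ m ?_)⟩
    show (g * (n : G) * g⁻¹) • x₀ = m • x₀
    conv_lhs => rw [mul_smul, mul_smul, ← hg1, inv_smul_smul]
    exact hg2
  by_cases hN : Nontrivial N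
  swap
  · rw [not_nontrivial_iff_subsingleton] at hN
    exact ⟨⟨⟨fun a b => Subsingleton.elim _ _⟩⟩, 2, Nat.prime_two, fun n hn => by
      rw [show n = 1 from congrArg Subtype.val (Subsingleton.elim (⟨n, hn⟩ : N) 1), one_pow]⟩
  obtain ⟨p, hp, hpd⟩ := Nat.exists_prime_and_dvd (Finite.one_lt_card (α := N)).ne'
  haveI := Fact.mk hp
  obtain ⟨a, ha⟩ := exists_prime_orderOf_dvd_card' (G := N) p hpd
  have ha1 : a ≠ 1 := fun h => hp.one_lt.ne (by rw [← ha, h, orderOf_one])
  have hpow : ∀ n : N, n ^ p = 1 := fun n => by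
    by_cases hn : n = 1
    · rw [hn, one_pow]
    obtain ⟨g, hg⟩ := hconj a n ha1 hn
    refine Subtype.ext ?_
    rw [Subgroup.coe_pow, ← hg, conj_pow, ← Subgroup.coe_pow, ← ha, pow_orderOf_eq_one]
    simp
  have hpg : IsPGroup p N := fun n => ⟨1, by rw [pow_one, hpow]⟩
  refine ⟨⟨⟨fun u v => ?_⟩⟩, p, hp, fun n hn => congrArg Subtype.val (hpow ⟨n, hn⟩)⟩
  haveI := hpg.center_nontrivial
  obtain ⟨⟨z, hz⟩, hz1⟩ := exists_ne (1 : Subgroup.center N)
  by_cases hu : u = 1
  · rw [hu, one_mul, mul_one]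
  obtain ⟨g, hg⟩ := hconj z u (fun h => hz1 (Subtype.ext h)) hu
  have hv : g⁻¹ * (v : G) * g ∈ N := by
    simpa using (inferInstance : N.Normal).conj_mem v v.2 g⁻¹
  have hc := congrArg Subtype.val (Subgroup.mem_center_iff.mp hz ⟨_, hv⟩)
  simp only [Subgroup.coe_mul] at hc
  refine Subtype.ext ?_
  show (u : G) * v = v * u
  rw [← hg]
  calc g * z * g⁻¹ * (v : G) = g * ((z : G) * (g⁻¹ * v * g)) * g⁻¹ := by group
    _ = g * (g⁻¹ * v * g * (z : G)) * g⁻¹ := by rw [hc]
    _ = (v : G) * (g * z * g⁻¹) := by group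

end Cfsg.Agent.S0054
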