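import Cfsg.Statements.S0056
import Cfsg.Agent.Coprime.Sylow

set_option autoImplicit false
open Cfsg

namespace Cfsg.Agent.S0056

/-- A coprime action on an abelian group that fixes all elements of prime order is trivial. -/
theorem result {G : Type*} [Group G] [Finite G] (A V : Subgroup G) [IsMulCommutative V]
    (hAV : A ≤ Subgroup.normalizer (V : Set G)) (hcop : (Nat.card A).Coprime (Nat.card V))
    (hΩ : ∀ v ∈ V, (orderOf v).Prime → ∀ a ∈ A, a * v = v * a) : A ≤ Subgroup.centralizer (V : Set G) := by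
  obtain ⟨hbot, hsup⟩ := Cfsg.Lib.Coprime.abelian_coprime_decomp hAV hcop
  have hle := Cfsg.Lib.Coprime.commutator_le_of_le_normalizer hAV
  have hc : (⁅V, A⁆ : Subgroup G) = ⊥ := by
    by_contra hne
    have hp : (Nat.card (⁅V, A⁆ : Subgroup G)).minFac.Prime :=
      Nat.minFac_prime fun h => hne (Subgroup.card_eq_one.mp h)
    obtain ⟨x, hx⟩ := @exists_prime_orderOf_dvd_card' _ _ _ _ ⟨hp⟩ (Nat.minFac_dvd (Nat.card (⁅V, A⁆ : Subgroup G)))
    rw [← Subgroup.orderOf_coe] at hx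
    have hmem : (x : G) ∈ (V ⊓ Subgroup.centralizer (A : Set G)) ⊓ ⁅V, A⁆ :=
      ⟨⟨hle x.2, Subgroup.mem_centralizer_iff.mpr fun a ha => hΩ x (hle x.2) (hx ▸ hp) a ha⟩, x.2⟩
    rw [hbot, Subgroup.mem_bot] at hmem
    rw [hmem, orderOf_one] at hx
    exact hp.one_lt.ne hx
  rwa [Subgroup.commutator_comm, Subgroup.commutator_eq_bot_iff_le_centralizer] at hc

end Cfsg.Agent.S0056
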