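import Cfsg.Statements.S0057
import Cfsg.Agent.Coprime.Sylow
import Cfsg.Agent.PGroups.Basic

set_option autoImplicit false
open Cfsg
open scoped commutatorElement

namespace Cfsg.Agent.S0057

/-- Under coprime action, if the centraliser of A in K has prime index p in K then the commutator subgroup [K, A] has order exactly p. -/
theorem result {G : Type*} [Group G] [Finite G] (A K : Subgroup G) (hAK : A ≤ Subgroup.normalizer (K : Set G))
    (hcop : (Nat.card A).Coprime (Nat.card K)) (hsolv : Group.IsSolvable A ∨ Group.IsSolvable K)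
    (p : ℕ) (hp : p.Prime) (hidx : (K ⊓ Subgroup.centralizer (A : Set G)).relIndex K = p) :
    Nat.card (⁅K, A⁆ : Subgroup G) = p := by
  haveI := Fact.mk hp
  set C := K ⊓ Subgroup.centralizer (A : Set G) with hC
  have hpK : p ∣ Nat.card K := hidx ▸ C.relIndex_dvd_card K
  obtain ⟨P', hP'⟩ := Cfsg.Lib.Coprime.exists_invariant_sylow hAK hcop hsolv p
  set P := (P' : Subgroup K).map K.subtype with hP
  have hPK : P ≤ K := Subgroup.map_subtype_le _
  have hPp : IsPGroup p P := P'.2.map _
  have hcopP : (Nat.card A).Coprime (Nat.card P) := Cfsg.Lib.Coprime.coprime_of_le hPK hcop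
  have hsolP : Group.IsSolvable P := by haveI := hPp.isNilpotent; infer_instance
  set M := P ⊓ Subgroup.centralizer (A : Set G) with hM
  have hMC : P ⊓ C = M := by rw [hC, hM, ← inf_assoc, inf_eq_left.mpr hPK]
  have hMidx : M.relIndex P = p := by
    obtain ⟨j, hj⟩ := IsPGroup.iff_card.mp hPp
    obtain ⟨i, -, hi⟩ := (Nat.dvd_prime_pow hp).mp (hj ▸ M.relIndex_dvd_card P)
    have hle : M.relIndex P ≤ p := by
      rw [← hMC, Subgroup.inf_relIndex_left, ← hidx]
      exact Subgroup.relIndex_le_of_le_right hPK (by rw [hidx]; exact hp.ne_zero)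
    have hne : M.relIndex P ≠ 1 := by
      intro h
      rw [← hMC, Subgroup.inf_relIndex_left, Subgroup.relIndex_eq_one] at h
      have h1 : C.relIndex K ∣ P.relIndex K :=
        ⟨P.relIndex C, by rw [mul_comm, Subgroup.relIndex_mul_relIndex P C K h inf_le_left]⟩
      have h2 : P.relIndex K = (P' : Subgroup K).index := by
        rw [Subgroup.relIndex, hP, Subgroup.subgroupOf, Subgroup.comap_map_eq_self_of_injective K.subtype_injective]
      rw [hidx, h2] at h1
      exact P'.not_dvd_index h1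
    rw [hi] at hle hne ⊢
    rcases i with _ | _ | i
    · simp at hne
    · simp
    · exact absurd hle (not_le.mpr (lt_self_pow₀ hp.one_lt (by omega)))
  have hMn : P ≤ Subgroup.normalizer (M : Set G) := by
    rw [← Subgroup.normal_subgroupOf_iff_le_normalizer inf_le_left]
    refine (Cfsg.Lib.PGroups.coatom_normal_index hPp ⟨fun h => ?_, fun L hL => ?_⟩).1
    · rw [← hM] at h
      rw [Subgroup.relIndex, h, Subgroup.index_top] at hMidx
      exact hp.ne_one hMidx.symm
    · rw [← hM] at hL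
      refine Subgroup.index_eq_one.mp ?_
      have h1 := Subgroup.relIndex_mul_index hL.le
      rw [show (M.subgroupOf P).index = p from hMidx] at h1
      rcases (Nat.dvd_prime hp).mp (Dvd.intro_left _ h1) with h | h
      · exact h
      · rw [h] at h1
        exact absurd (Subgroup.relIndex_eq_one.mp (Nat.eq_of_mul_eq_mul_right hp.pos (h1.trans (one_mul p).symm))) hL.not_ge
  set R := ⁅P, A⁆ with hR
  have hRP : R ≤ P := Cfsg.Lib.Coprime.commutator_le_of_le_normalizer hP'
  have hRM : R ≤ Subgroup.centralizer (M : Set G) := by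
    rw [hR, Subgroup.commutator_le]
    intro r hr a ha
    refine Subgroup.mem_centralizer_iff.mpr fun m hm => ?_
    have hm1 : ∀ x ∈ M, a * x * a⁻¹ = x := fun x hx => by
      rw [Subgroup.mem_centralizer_iff.mp hx.2 a ha, mul_inv_cancel_right]
    set m₁ := a⁻¹ * r⁻¹ * a * m * (a⁻¹ * r⁻¹ * a)⁻¹ with hm₁
    have hmem : r⁻¹ * m * r ∈ M := (Subgroup.mem_normalizer_iff''.mp (hMn hr) m).mp hm
    have e1 : a⁻¹ * (r⁻¹ * m * r) * a = r⁻¹ * m * r := by
      have := hm1 _ hmem
      calc a⁻¹ * (r⁻¹ * m * r) * a = a⁻¹ * (a * (r⁻¹ * m * r) * a⁻¹) * a := by rw [this]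
        _ = _ := by group
    have e2 : a * m * a⁻¹ = m := hm1 m hm
    rw [commutatorElement_def]
    calc m * (r * a * r⁻¹ * a⁻¹) = r * ((r⁻¹ * m * r) * a) * r⁻¹ * a⁻¹ := by group
      _ = r * (a * (a⁻¹ * (r⁻¹ * m * r) * a)) * r⁻¹ * a⁻¹ := by group
      _ = r * (a * (r⁻¹ * m * r)) * r⁻¹ * a⁻¹ := by rw [e1]
      _ = r * a * r⁻¹ * a⁻¹ * (a * m * a⁻¹) := by group
      _ = r * a * r⁻¹ * a⁻¹ * m := by rw [e2]
  have hRA : A ≤ Subgroup.normalizer (R : Set G) := Cfsg.Lib.Coprime.le_normalizer_commutator_right A P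
  have hRR : ⁅R, A⁆ = R := Cfsg.Lib.Coprime.commutator_commutator_eq hP' hcopP (Or.inr hsolP)
  have hMR : (M.subgroupOf R).relIndex ⊤ ∣ p := by
    rw [Subgroup.relIndex_top_right]
    show M.relIndex R ∣ p
    haveI := (Subgroup.normal_subgroupOf_iff_le_normalizer (inf_le_left : M ≤ P)).mpr hMn
    have h1 := Subgroup.relIndex_dvd_index_of_normal (M.subgroupOf P) (R.subgroupOf P)
    rw [Subgroup.relIndex_subgroupOf hRP] at h1
    exact hMidx ▸ h1
  haveI : IsMulCommutative R := by
    have hcen : M.subgroupOf R ≤ Subgroup.center R := fun x hx => Subgroup.mem_center_iff.mpr fun y =>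
      Subtype.ext (Subgroup.mem_centralizer_iff.mp (hRM y.2) x hx).symm
    haveI : (M.subgroupOf R).Normal := ⟨fun n hn g => by
      rw [Subgroup.mem_center_iff.mp (hcen hn) g, mul_inv_cancel_right]; exact hn⟩
    haveI : IsCyclic (↥R ⧸ M.subgroupOf R) := by
      rw [Subgroup.relIndex_top_right] at hMR
      rcases (Nat.dvd_prime hp).mp hMR with h | h
      · haveI : Subsingleton (↥R ⧸ M.subgroupOf R) := (Nat.card_eq_one_iff_unique.mp h).1
        infer_instance
      · exact isCyclic_of_prime_card (p := p) h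
    exact ⟨⟨commutative_of_cyclic_center_quotient (QuotientGroup.mk' (M.subgroupOf R))
      (by rw [QuotientGroup.ker_mk']; exact hcen)⟩⟩
  obtain ⟨hdec, -⟩ := Cfsg.Lib.Coprime.abelian_coprime_decomp hRA (Cfsg.Lib.Coprime.coprime_of_le hRP hcopP)
  rw [hRR, inf_comm] at hdec
  have hRM1 : R ⊓ M = ⊥ := le_antisymm (fun x hx => by
    rw [← hdec]; exact ⟨hx.1, hx.1, hx.2.2⟩) bot_le
  have hRdvd : Nat.card R ∣ p := by
    rw [Subgroup.relIndex_top_right] at hMR
    have h1 : M.subgroupOf R = ⊥ := by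
      rw [Subgroup.subgroupOf_eq_bot, disjoint_iff, inf_comm, hRM1]
    rwa [h1, Subgroup.index_bot] at hMR
  have hle : ⁅K, A⁆ ≤ R := by
    rw [Subgroup.commutator_le]
    intro k hk a ha
    obtain ⟨u, hu, c, hc, rfl⟩ : ∃ u ∈ P, ∃ c ∈ C, k = u * c := by
      let f : ↥P ⧸ M.subgroupOf P → ↥K ⧸ C.subgroupOf K :=
        Quotient.map' (Subgroup.inclusion hPK) fun x y hxy => by
          rw [QuotientGroup.leftRel_apply, Subgroup.mem_subgroupOf] at hxy ⊢
          rw [← hMC] at hxy
          exact hxy.2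
      have hf : Function.Injective f := by
        rintro ⟨x⟩ ⟨y⟩ h
        refine Quotient.sound' ?_
        have h' := Quotient.exact' h
        rw [QuotientGroup.leftRel_apply, Subgroup.mem_subgroupOf] at h' ⊢
        rw [← hMC]
        exact Subgroup.mem_inf.mpr ⟨mul_mem (inv_mem x.2) y.2, h'⟩
      have hfb : Function.Bijective f := (Nat.bijective_iff_injective_and_card f).mpr
        ⟨hf, hMidx.trans hidx.symm⟩
      obtain ⟨⟨u⟩, hu⟩ := hfb.2 (QuotientGroup.mk (⟨k, hk⟩ : K))
      have h' := Quotient.exact' hu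
      rw [QuotientGroup.leftRel_apply, Subgroup.mem_subgroupOf] at h'
      exact ⟨u, u.2, (u : G)⁻¹ * k, h', (mul_inv_cancel_left _ _).symm⟩
    have hca : a * c⁻¹ = c⁻¹ * a := Subgroup.mem_centralizer_iff.mp (inv_mem hc.2) a ha
    have he : ⁅u * c, a⁆ = ⁅u, a⁆ := by
      calc ⁅u * c, a⁆ = u * c * (a * c⁻¹) * u⁻¹ * a⁻¹ := by simp only [commutatorElement_def]; group
        _ = _ := by rw [hca]; simp only [commutatorElement_def]; group
    rw [he]
    exact Subgroup.commutator_mem_commutator hu ha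
  have hne : ⁅K, A⁆ ≠ ⊥ := fun h => by
    rw [Subgroup.commutator_eq_bot_iff_le_centralizer] at h
    rw [hC, inf_eq_left.mpr h, Subgroup.relIndex_self] at hidx
    exact hp.one_lt.ne hidx
  rcases (Nat.dvd_prime hp).mp ((Subgroup.card_dvd_of_le hle).trans hRdvd) with h | h
  · exact absurd (Subgroup.card_eq_one.mp h) hne
  · exact h

end Cfsg.Agent.S0057
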