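import Cfsg.Statements.S0059
import Cfsg.Agent.Coprime.Sylow

set_option autoImplicit false
open Cfsg

namespace Cfsg.Agent.S0059

/-- Let a finite group act on a set on which a normal subgroup K of coprime order and index is transitive, with K or the quotient solvable. Then any complement H of K has a fixed point, and any two H-fixed points are interchanged by an element of K centralising H. -/
theorem result {G : Type*} [Group G] [Finite G] {X : Type*} [Nonempty X] [MulAction G X]
    (K H : Subgroup G) [K.Normal] (hc : Subgroup.IsComplement' K H) (hcop : (Nat.card K).Coprime K.index)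
    (hsolv : Group.IsSolvable K ∨ Group.IsSolvable (G ⧸ K)) (htrans : MulAction.IsPretransitive K X) :
    (∃ x : X, ∀ h ∈ H, h • x = x) ∧
    ∀ x y : X, (∀ h ∈ H, h • x = x) → (∀ h ∈ H, h • y = y) → ∃ k ∈ K ⊓ Subgroup.centralizer (H : Set G), k • x = y := by
  have hH : Group.IsSolvable K ∨ Group.IsSolvable H := hsolv.imp_right fun h => by
    haveI := h
    refine Group.isSolvable_of_isSolvable_injective (f := (QuotientGroup.mk' K).comp H.subtype) ?_
    rw [← MonoidHom.ker_eq_bot_iff, eq_bot_iff]
    intro x hx
    have hxK : (x : G) ∈ K := (QuotientGroup.eq_one_iff _).mp hx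
    exact Subtype.ext (Subgroup.disjoint_def.mp hc.disjoint hxK x.2)
  have htr : ∀ x y : X, ∃ k ∈ K, k • x = y := fun x y => by
    obtain ⟨k, hk⟩ := htrans.exists_smul_eq x y
    exact ⟨k, k.2, hk⟩
  refine ⟨Cfsg.Lib.Coprime.exists_fixed_point hc hcop hH htr (Classical.arbitrary X), fun x y hx hy => ?_⟩
  exact Cfsg.Lib.Coprime.fixed_point_conj (by rw [← hc.symm.index_eq_card]; exact hcop.symm) hH.symm htr hx hy

end Cfsg.Agent.S0059
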