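import Cfsg.Statements.S0060
import Cfsg.Agent.Small.Brodkey
import Cfsg.Agent.Coprime.Fitting

set_option autoImplicit false
open Pointwise
open Cfsg

namespace Cfsg.Agent.S0060

/-- Brodkey's Theorem: in a finite group with abelian Sylow p-subgroups and no nontrivial normal p-subgroup, some conjugate of a Sylow p-subgroup meets it trivially. -/
theorem result {G : Type*} [Group G] [Finite G] (p : ℕ) [Fact p.Prime]
    (S : Sylow p G) (hS : IsMulCommutative S) (hOp : Cfsg.pCore p G = ⊥) :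
    ∃ g : G, (S : Subgroup G) ⊓ MulAut.conj g • (S : Subgroup G) = ⊥ := by
  have hab : ∀ P : Sylow p G, IsMulCommutative ↥(P : Subgroup G) := fun P => by
    haveI := hS
    exact ⟨⟨fun a b => (S.equiv P).symm.injective (by rw [map_mul, map_mul]; exact mul_comm' _ _)⟩⟩
  obtain ⟨P, Q, hPQ⟩ := Cfsg.Lib.Small.exists_inf_eq_iInf p hab
  rw [← Cfsg.Lib.Coprime.pCore_eq_iInf p, hOp] at hPQ
  obtain ⟨a, rfl⟩ := MulAction.exists_smul_eq G S P
  obtain ⟨b, rfl⟩ := MulAction.exists_smul_eq G S Q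
  refine ⟨a⁻¹ * b, ?_⟩
  have h := congrArg (fun X => MulAut.conj a⁻¹ • X) hPQ
  simp only [Sylow.coe_subgroup_smul, Subgroup.smul_inf, smul_smul, ← map_mul, inv_mul_cancel, map_one,
    one_smul, Subgroup.smul_bot] at h
  exact h

end Cfsg.Agent.S0060
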