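import Cfsg.Statements.S0063
import Mathlib

set_option autoImplicit false
open Cfsg

namespace Cfsg.Agent.S0063

/-- A finite group of prime-power order p ^ m with m > 1 is nilpotent of class at most m - 1. -/
theorem result {G : Type*} [Group G] [Finite G] (p m : ℕ) [Fact p.Prime]
    (hG : Nat.card G = p ^ m) (hm : 1 < m) : Group.nilpotencyClass G ≤ m - 1 := by
  obtain ⟨k, hk⟩ : ∃ k, m = k := ⟨_, rfl⟩
  induction k using Nat.strong_induction_on generalizing G m with
  | _ k ih =>
    subst hk
    haveI : Group.IsNilpotent G := (IsPGroup.of_card hG).isNilpotent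
    haveI : Nontrivial G := Finite.one_lt_card_iff_nontrivial.mp
      (hG ▸ Nat.one_lt_pow (by omega) (Fact.out : p.Prime).one_lt)
    rw [Group.nilpotencyClass_eq_quotient_center_plus_one]
    by_cases hab : ∀ a b : G, a * b = b * a
    · have : Group.nilpotencyClass (G ⧸ Subgroup.center G) = 0 := by
        haveI : Subsingleton (G ⧸ Subgroup.center G) := by
          rw [QuotientGroup.subsingleton_iff, eq_top_iff]
          exact fun x _ => Subgroup.mem_center_iff.mpr fun y => hab y x
        exact Group.nilpotencyClass_zero_iff_subsingleton.mpr this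
      omega
    have hne : ¬ IsCyclic (G ⧸ Subgroup.center G) := fun h => by
      haveI := h
      exact hab fun a b => ((MonoidHom.isMulCommutative_of_isCyclic_of_ker_le_center
        (QuotientGroup.mk' (Subgroup.center G)) (by rw [QuotientGroup.ker_mk'])).is_comm.comm a b)
    obtain ⟨c, hc⟩ := IsPGroup.iff_card.mp ((IsPGroup.of_card hG).to_quotient (Subgroup.center G))
    have hlt : c < m := by
      have hZ : (Subgroup.center G) ≠ ⊥ := (IsPGroup.of_card hG).bot_lt_center.ne'
      have h1 := Subgroup.card_eq_card_quotient_mul_card_subgroup (Subgroup.center G)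
      rw [hG, hc] at h1
      refine (Nat.pow_lt_pow_iff_right (Fact.out : p.Prime).one_lt).mp ?_
      rw [h1]
      exact lt_mul_of_one_lt_right (pow_pos (Fact.out : p.Prime).pos c)
        ((Subgroup.one_lt_card_iff_ne_bot _).mpr hZ)
    have h2 : 1 < c := by
      by_contra h
      apply hne
      rcases Nat.eq_zero_or_pos c with rfl | h0
      · haveI : Subsingleton (G ⧸ Subgroup.center G) :=
          (Nat.card_eq_one_iff_unique.mp (by simpa using hc)).1
        infer_instance
      · exact isCyclic_of_prime_card (p := p) (by rw [hc, show c = 1 by omega, pow_one])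
    have := ih c hlt c hc h2 rfl
    omega

end Cfsg.Agent.S0063
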