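import Cfsg.Statements.S0064
import Mathlib

set_option autoImplicit false
open Cfsg

namespace Cfsg.Agent.S0064

/-- A finite group is nilpotent exactly when each of its subgroups is subnormal. -/
theorem result {G : Type*} [Group G] [Finite G] :
    Group.IsNilpotent G ↔ ∀ H : Subgroup G, H.IsSubnormal := by
  constructor
  · intro h
    haveI := h
    intro H
    obtain ⟨k, hk⟩ : ∃ k, H.index = k := ⟨_, rfl⟩
    induction k using Nat.strong_induction_on generalizing H with
    | _ k ih =>
      by_cases ht : H = ⊤
      · subst ht; exact Subgroup.IsSubnormal.top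
      have hgrow := Group.normalizerCondition_of_isNilpotent (G := G) H (lt_top_iff_ne_top.mpr ht)
      refine Subgroup.IsSubnormal.step H _ hgrow.le (ih _ ?_ _ rfl) Subgroup.normal_in_normalizer
      rw [← hk]
      exact Subgroup.index_strictAnti hgrow
  · intro h
    refine ((Group.isNilpotent_of_finite_tfae (G := G)).out 0 2 rfl rfl).mpr fun M hM => ?_
    rcases (h M).lt_normal with rfl | ⟨N, hNn, hMN, hNt⟩
    · exact absurd rfl hM.1
    · rcases hMN.lt_or_eq with hlt | heq
      · exact absurd (hM.2 N hlt) hNt.ne
      · exact heq ▸ hNn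

end Cfsg.Agent.S0064
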