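import Cfsg.Statements.S0069
import Cfsg.Agent.Frobenius.Kernel
import Cfsg.Agent.Frobenius.FpfGroups
import Cfsg.Agent.Coprime.Sylow
import Cfsg.Agent.Coprime.SolvableBasics

set_option autoImplicit false
open Cfsg

namespace Cfsg.Agent.S0069

open Subgroup Cfsg.Lib.Frobenius


/-- A Frobenius complement has nontrivial centre: if H ≠ 1 complements a nontrivial normal subgroup K and every nonidentity element of H has trivial centraliser in K, then the centre of H is nontrivial. -/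
theorem result {G : Type*} [Group G] [Finite G] (K H : Subgroup G) [K.Normal]
    (hc : Subgroup.IsComplement' K H) (hK : K ≠ ⊥) (hH : H ≠ ⊥) (hfpf : ∀ h ∈ H, h ≠ 1 → K ⊓ Subgroup.centralizer {h} = ⊥) :
    Subgroup.center H ≠ ⊥ := by
  classical
  have hF : Cfsg.IsFrobeniusComplement H := (Cfsg.Lib.Frobenius.isFrobeniusComplement_iff_fpf hc hK hH).2 hfpf
  suffices hex : ∃ a : G, a ∈ H ∧ a ≠ 1 ∧ ∀ h ∈ H, h * a = a * h by
    obtain ⟨a, ha, ha1, hcom⟩ := hex
    intro e
    have h1 : (⟨a, ha⟩ : H) ∈ center H := mem_center_iff.2 fun h => Subtype.ext (hcom h h.2)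
    rw [e, mem_bot] at h1
    exact ha1 (congrArg Subtype.val h1)
  by_cases h2 : 2 ∣ Nat.card H
  · obtain ⟨⟨t, htH⟩, ht⟩ := exists_prime_orderOf_dvd_card' (G := H) 2 h2
    rw [Subgroup.orderOf_mk] at ht
    have ht1 : t ≠ 1 := fun e => by rw [e, orderOf_one] at ht; omega
    have htt : t * t = 1 := by rw [← sq, ← ht]; exact pow_orderOf_eq_one t
    have hmem : ∀ x ∈ H, x ∈ Cfsg.Lib.Coprime.conjMap 1 H := fun x hx => by rwa [Cfsg.Lib.Coprime.conjMap_one]
    obtain ⟨-, -, huniq⟩ := Cfsg.Lib.Frobenius.involution_inverts hF (hmem t htH) ht1 htt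
    refine ⟨t, htH, ht1, fun h hh => ?_⟩
    have h3 := huniq (h * t * h⁻¹) (hmem _ (mul_mem (mul_mem hh htH) (inv_mem hh)))
      (by simpa using ht1) (by rw [show h * t * h⁻¹ * (h * t * h⁻¹) = h * (t * t) * h⁻¹ by group, htt]; group)
    exact mul_inv_eq_iff_eq_mul.1 h3
  have hnilK : Group.IsNilpotent K :=
    Cfsg.Lib.Frobenius.isNilpotent_kernel hF (Cfsg.Lib.Frobenius.normal_eq_kernel hF hc)
  haveI := hnilK
  haveI : Nontrivial K := (nontrivial_iff_ne_bot K).2 hK
  set V := (center K).map K.subtype with hVdef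
  haveI : IsMulCommutative V := ⟨⟨fun x y => by
    obtain ⟨u, hu, hux⟩ := x.2
    obtain ⟨w, hw, hwy⟩ := y.2
    refine Subtype.ext ?_
    show (x : G) * y = y * x
    rw [← hux, ← hwy, ← map_mul, ← map_mul, (mem_center_iff.1 hu w)]⟩⟩
  have hV : V ≠ ⊥ := by
    rw [Ne, hVdef, (center K).map_eq_bot_iff_of_injective K.subtype_injective]
    have h := Cfsg.Lib.Coprime.inf_center_ne_bot (G := K) ⊤ top_ne_bot
    rwa [top_inf_eq] at h
  have hVn : ∀ A : Subgroup G, A ≤ normalizer (V : Set G) := fun A => le_normalizer_of_normal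
  have hfV : ∀ A : Subgroup G, A ≤ H → Fpf A V := fun A hA a ha ha1 =>
    le_bot_iff.1 ((inf_le_inf_right _ (map_subtype_le _)).trans (hfpf a (hA ha) ha1).le)
  have hne : Nat.card H ≠ 1 := fun h => hH (card_eq_one.1 h)
  have hp : (Nat.card H).minFac.Prime := Nat.minFac_prime hne
  set p := (Nat.card H).minFac with hpdef
  haveI := Fact.mk hp
  have hodd : ∀ r, r ∣ Nat.card H → r ≠ 2 := fun r hr e => h2 (e ▸ hr)
  have cyc : ∀ (r : ℕ) [Fact r.Prime] (R : Subgroup G), R ≤ H → IsPGroup r R → r ∣ Nat.card H → IsCyclic R := by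
    intro r _ R hR hRp hr
    rcases (hfV R hR).isCyclic_or_quaternion (hVn R) hV hRp with h | ⟨h, -⟩
    · exact h
    · exact absurd h (hodd r hr)
  obtain ⟨P⟩ : Nonempty (Sylow p H) := inferInstance
  have hPc : IsCyclic (P : Subgroup H) := by
    haveI := cyc p ((P : Subgroup H).map H.subtype) (map_subtype_le _) (P.2.map _) (Nat.minFac_dvd _)
    exact ((P : Subgroup H).equivMapOfInjective H.subtype H.subtype_injective).isCyclic.2 this
  have hN : normalizer (P : Set H) ≤ centralizer (P : Set H) := IsCyclic.normalizer_le_centralizer hpdef.symm hPc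
  have hcompl := MonoidHom.ker_transferSylow_isComplement' P hN
  set N' := (MonoidHom.transferSylow P hN).ker
  obtain ⟨a, haP, hao⟩ : ∃ a ∈ (P : Subgroup H), orderOf a = p := by
    obtain ⟨⟨a, ha⟩, hao⟩ := exists_prime_orderOf_dvd_card' (G := (P : Subgroup H)) p
      (P.dvd_card_of_dvd_card (Nat.minFac_dvd _))
    exact ⟨a, ha, by rwa [Subgroup.orderOf_mk] at hao⟩
  have hao' : orderOf (a : G) = p := (Subgroup.orderOf_coe a).trans hao
  refine ⟨a, a.2, fun e => hp.one_lt.ne (by rw [← hao', e, orderOf_one]), ?_⟩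
  set NG := N'.map H.subtype with hNG
  have hNH : NG ≤ H := map_subtype_le _
  have hpN : ¬ p ∣ Nat.card NG := by
    rw [hNG, card_map_of_injective H.subtype_injective, ← hcompl.index_eq_card]
    exact P.not_dvd_index
  set A := zpowers (a : G)
  have hAH : A ≤ H := zpowers_le.2 a.2
  haveI : IsMulCommutative A := ⟨⟨fun x y => mul_comm' x y⟩⟩
  have hAN : A ≤ normalizer (NG : Set G) := fun x hx =>
    le_normalizer_map H.subtype ⟨⟨x, hAH hx⟩, by rw [normalizer_eq_top_iff.2 (inferInstance : N'.Normal)]; exact mem_top _, rfl⟩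
  have hAsol : Group.IsSolvable A := Group.isSolvable_of_comm fun x y => mul_comm' x y
  have hcopA : (Nat.card A).Coprime (Nat.card NG) := by
    rw [Nat.card_zpowers, hao']; exact hp.coprime_iff_not_dvd.2 hpN
  have hNC : NG ≤ centralizer (A : Set G) := Cfsg.Lib.Coprime.le_of_forall_sylow fun r hr => by
    haveI := Fact.mk hr
    obtain ⟨R₀, hAR⟩ := Cfsg.Lib.Coprime.exists_invariant_sylow hAN hcopA (Or.inl hAsol) r
    refine ⟨R₀, ?_⟩
    set R := (R₀ : Subgroup NG).map NG.subtype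
    have hRN : R ≤ NG := map_subtype_le _
    by_cases hR : R = ⊥
    · rw [hR]; exact bot_le
    have hRp : IsPGroup r R := R₀.2.map _
    have hrR : r ∣ Nat.card R := (hRp.card_eq_or_dvd).resolve_left fun h => hR (card_eq_one.1 h)
    haveI := cyc r R (hRN.trans hNH) hRp (hrR.trans (card_dvd_of_le (hRN.trans hNH)))
    haveI : IsMulCommutative R := IsCyclic.isMulCommutative
    obtain ⟨⟨x, hxR⟩, hxo⟩ := exists_prime_orderOf_dvd_card' (G := R) r hrR
    have hxo' : orderOf x = r := (Subgroup.orderOf_mk x hxR).symm.trans hxo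
    have huni : ∀ y ∈ R, orderOf y = r → y ∈ zpowers x := by
      intro y hy hyo
      obtain ⟨i, hi⟩ := mem_zpowers_iff.1 ((hfV R (hRN.trans hNH)).unique (hVn R) hV hRp ⟨x, hxR⟩ ⟨y, hy⟩ hxo
        ((Subgroup.orderOf_mk y hy).trans hyo))
      exact mem_zpowers_iff.2 ⟨i, by simpa using congrArg Subtype.val hi⟩
    have hax : (a : G) * x = x * a :=
      (hfV H le_rfl).commute_of_normalizes (hVn H) hV hp hr a.2 (hNH (hRN hxR)) hao' hxo'
        (huni _ ((mem_normalizer_iff.1 (hAR (mem_zpowers _)) x).1 hxR)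
          (by rw [← hxo']; exact (MulAut.conj (a : G)).orderOf_eq x))
    have hxC : x ∈ centralizer (A : Set G) := by
      rw [Cfsg.Lib.Coprime.centralizer_zpowers, mem_centralizer_singleton_iff]
      exact hax.symm
    obtain ⟨hd1, hd2⟩ := Cfsg.Lib.Coprime.abelian_coprime_decomp hAR (Cfsg.Lib.Coprime.coprime_of_le hRN hcopA)
    have hb : ⁅R, A⁆ = ⊥ := by
      by_contra hne
      have hle := Cfsg.Lib.Coprime.commutator_le_of_le_normalizer hAR
      have hdd : r ∣ Nat.card ↥⁅R, A⁆ :=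
        ((hRp.to_le hle).card_eq_or_dvd).resolve_left fun h => hne (card_eq_one.1 h)
      obtain ⟨⟨y, hy⟩, hyo⟩ := exists_prime_orderOf_dvd_card' (G := ↥⁅R, A⁆) r hdd
      have hyo' : orderOf y = r := (Subgroup.orderOf_mk y hy).symm.trans hyo
      have h1 : y ∈ zpowers x := huni y (hle hy) hyo'
      have h2 : y ∈ (R ⊓ centralizer (A : Set G)) ⊓ ⁅R, A⁆ :=
        ⟨⟨hle hy, zpowers_le.2 hxC h1⟩, hy⟩
      rw [hd1, mem_bot] at h2
      rw [h2, orderOf_one] at hyo'
      exact hr.one_lt.ne hyo'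
    exact commutator_eq_bot_iff_le_centralizer.1 hb
  intro h hh
  obtain ⟨n, hn, u, hu, hnu⟩ := hcompl.mul_eq.ge (Set.mem_univ (⟨h, hh⟩ : H))
  haveI := hPc
  haveI : IsMulCommutative (P : Subgroup H) := IsCyclic.isMulCommutative
  have h1 : (n : G) * a = a * n := (mem_centralizer_iff.1 (hNC ⟨n, hn, rfl⟩) a (mem_zpowers _)).symm
  have h2' : (u : G) * a = a * u :=
    congrArg Subtype.val (congrArg Subtype.val (mul_comm' (⟨u, hu⟩ : (P : Subgroup H)) ⟨a, haP⟩))
  have h3 : h = (n : G) * u := (congrArg Subtype.val hnu).symm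
  rw [h3, mul_assoc, h2', ← mul_assoc, h1, mul_assoc]

end Cfsg.Agent.S0069
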