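import Cfsg.Statements.S0078
import Cfsg.Agent.Transfer.Iterate
import Cfsg.Agent.Transfer.Basic

set_option autoImplicit false
open Cfsg

namespace Cfsg.Agent.S0078

/-- In a p-normal group, a Sylow p-subgroup P meets O^p(G) exactly where it meets O^p(V), for any subgroup V containing the normalizer of the centre of P. -/
theorem result {G : Type*} [Group G] [Finite G] {p : ℕ} [Fact p.Prime] (P : Sylow p G) (hn : ∀ Q : Sylow p G, (P : Subgroup G) ⊓ Subgroup.centralizer (P : Set G) ≤ (Q : Subgroup G) → (Q : Subgroup G) ⊓ Subgroup.centralizer (Q : Set G) = (P : Subgroup G) ⊓ Subgroup.centralizer (P : Set G)) (V : Subgroup G) (hV : Subgroup.normalizer (((P : Subgroup G) ⊓ Subgroup.centralizer (P : Set G) : Subgroup G) : Set G) ≤ V) : (P : Subgroup G) ⊓ Cfsg.pResidual p G = (P : Subgroup G) ⊓ (Cfsg.pResidual p V).map V.subtype := by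
  classical
  set Z := (P : Subgroup G) ⊓ Subgroup.centralizer (P : Set G) with hZdef
  have hW : Cfsg.IsWeaklyClosed Z (P : Subgroup G) := by
    refine ⟨inf_le_left, fun g hg => ?_⟩
    have hmem : ∀ z ∈ Z, g * z * g⁻¹ ∈ (P : Subgroup G) := fun z hz => hg ⟨z, hz, rfl⟩
    have hle : Z ≤ ((g⁻¹ • P : Sylow p G) : Subgroup G) := fun z hz => by
      rw [Cfsg.Lib.Transfer.sylow_smul_coe, Cfsg.Lib.Transfer.mem_map_conj]
      simpa using hmem z hz
    have hQ := hn _ hle
    have hsub : ∀ z ∈ Z, g⁻¹ * z * g ∈ Z := by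
      intro z hz
      obtain ⟨hzP, hzC⟩ := Subgroup.mem_inf.1 hz
      rw [← hQ]
      refine Subgroup.mem_inf.2 ⟨?_, fun y hy => ?_⟩
      · rw [Cfsg.Lib.Transfer.sylow_smul_coe, Cfsg.Lib.Transfer.mem_map_conj]
        simpa [mul_assoc] using hzP
      · have hy' : g * y * g⁻¹ ∈ (P : Subgroup G) := by
          have hy2 : y ∈ ((g⁻¹ • P : Sylow p G) : Subgroup G) := hy
          rw [Cfsg.Lib.Transfer.sylow_smul_coe, Cfsg.Lib.Transfer.mem_map_conj] at hy2
          simpa using hy2
        calc y * (g⁻¹ * z * g) = g⁻¹ * ((g * y * g⁻¹) * z) * g := by group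
          _ = g⁻¹ * (z * (g * y * g⁻¹)) * g := by rw [hzC _ hy']
          _ = _ := by group
    refine (Subgroup.eq_of_le_of_card_ge ?_ (Cfsg.Lib.Transfer.card_map_conj Z g).le).symm
    intro z hz
    exact ⟨g⁻¹ * z * g, hsub z hz, by simp [mul_assoc]⟩
  have hPC : (P : Subgroup G) ≤ Subgroup.centralizer (Z : Set G) := fun x hx z hz => by
    obtain ⟨-, hzC⟩ := Subgroup.mem_inf.1 hz
    exact (hzC x hx).symm
  have hPV : (P : Subgroup G) ≤ V := (hPC.trans (Subgroup.centralizer_le_normalizer _)).trans hV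
  let f := fun K : Subgroup G => Subgroup.focalSubgroup K
  have hfle := Cfsg.Lib.Transfer.iterate_focal_le (P : Subgroup G)
  have hctrl : ∀ n, f^[n + 1] (P : Subgroup G) ≤ ⁅f^[n] (P : Subgroup G), V⁆ := fun n => by
    rw [Function.iterate_succ_apply']
    refine Cfsg.Lib.Transfer.focalSubgroup_le_of_control _ _ fun x hx g hg => ?_
    obtain ⟨m, hm, hm'⟩ := Cfsg.Lib.Transfer.weaklyClosed_fusion P Z hW x g (hPC (hfle n hx)) (hPC (hfle n hg))
    exact ⟨m, hV hm, hm'⟩
  obtain ⟨M', hM'⟩ : ∃ K : Subgroup V, K = Cfsg.pResidual p V := ⟨_, rfl⟩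
  haveI : (Cfsg.pResidual p V).Normal := by
    refine ⟨fun x hx v => ?_⟩
    exact Cfsg.Lib.Transfer.pResidual_map_le (MulAut.conj v).toMonoidHom ⟨x, hx, rfl⟩
  haveI hnil : Group.IsNilpotent (V ⧸ Cfsg.pResidual p V) :=
    (Cfsg.Lib.Transfer.isPGroup_quotient_pResidual (G := V)).isNilpotent
  refine le_antisymm (fun x hx => ?_) (inf_le_inf_left _ ?_)
  · obtain ⟨hxP, hxR⟩ := Subgroup.mem_inf.1 hx
    refine Subgroup.mem_inf.2 ⟨hxP, ?_⟩
    have hmem : ∀ n, x ∈ f^[n] (P : Subgroup G) := by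
      intro n
      obtain ⟨M, hKM, hcard, hM⟩ := Cfsg.Lib.Transfer.exists_iterate_focal_complement (P : Subgroup G) P.card_coprime_index n
      have hres : Cfsg.pResidual p G ≤ M := (Subgroup.closure_le M).2 fun y hy => hM y (by
        obtain ⟨k, hk⟩ := P.2.exists_card_eq
        rw [hk]; exact Nat.Coprime.pow_right k hy)
      have hle : M ⊓ (P : Subgroup G) ≤ f^[n] (P : Subgroup G) := by
        obtain ⟨i, hi⟩ := (P.2.to_le (inf_le_right : M ⊓ (P : Subgroup G) ≤ P)).exists_card_eq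
        refine (Subgroup.eq_of_le_of_card_ge (le_inf hKM (hfle n)) ?_).ge
        have hd : Nat.card ↥(M ⊓ (P : Subgroup G)) ∣ (P : Subgroup G).index * Nat.card ↥(f^[n] (P : Subgroup G)) :=
          hcard ▸ Subgroup.card_dvd_of_le inf_le_left
        rw [hi] at hd ⊢
        exact Nat.le_of_dvd Nat.card_pos ((Nat.Coprime.pow_left i
          ((Fact.out : p.Prime).coprime_iff_not_dvd.2 P.not_dvd_index)).dvd_of_dvd_mul_left hd)
      exact hle ⟨hres hxR, hxP⟩
    -- descend in the nilpotent quotient of `V`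
    let q := QuotientGroup.mk' (Cfsg.pResidual p V)
    have hdesc : ∀ n, ((f^[n] (P : Subgroup G)).subgroupOf V).map q ≤ (⊤ : Subgroup _).lowerCentralSeries n := by
      intro n
      induction n with
      | zero => simp
      | succ n ih =>
        rw [Subgroup.lowerCentralSeries_succ]
        refine le_trans (Subgroup.map_mono (f := q) (?_ : (f^[n + 1] (P : Subgroup G)).subgroupOf V ≤ ⁅(f^[n] (P : Subgroup G)).subgroupOf V, (⊤ : Subgroup V)⁆)) (le_trans (Subgroup.map_commutator _ _ _).le (Subgroup.commutator_mono ih le_top))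
        intro y hy
        have h1 : V.subtype y ∈ (⁅(f^[n] (P : Subgroup G)).subgroupOf V, (⊤ : Subgroup V)⁆).map V.subtype := by
          rw [Subgroup.map_commutator, Subgroup.subgroupOf_map_subtype, inf_eq_left.2 ((hfle n).trans hPV),
            ← MonoidHom.range_eq_map, Subgroup.range_subtype]
          exact hctrl n hy
        obtain ⟨y', hy', he⟩ := h1
        exact (Subtype.ext he : y' = y) ▸ hy'
    obtain ⟨N, hN⟩ := (Subgroup.isNilpotent_iff_lowerCentralSeries (⊤ : Subgroup (V ⧸ Cfsg.pResidual p V))).1 inferInstance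
    have h := hdesc N ⟨⟨x, hPV hxP⟩, hmem N, rfl⟩
    rw [hN, Subgroup.mem_bot] at h
    exact ⟨⟨x, hPV hxP⟩, (QuotientGroup.eq_one_iff _).1 h, rfl⟩
  · exact Cfsg.Lib.Transfer.pResidual_map_le V.subtype

end Cfsg.Agent.S0078
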