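import Cfsg.Statements.S0079
import Cfsg.Agent.Transfer.Frobenius

set_option autoImplicit false
open Cfsg

namespace Cfsg.Agent.S0079

/-- A nilpotent Hall subgroup has a normal complement exactly when elements of it that are conjugate in the whole group are already conjugate inside it. -/
theorem result {G : Type*} [Group G] [Finite G] (H : Subgroup G) (hH : Group.IsNilpotent H) (hHall : Nat.Coprime (Nat.card H) H.index) : (∃ N : Subgroup G, N.Normal ∧ N.IsComplement' H) ↔ ∀ x ∈ H, ∀ y ∈ H, (∃ g : G, g * x * g⁻¹ = y) → ∃ h ∈ H, h * x * h⁻¹ = y := by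
  constructor
  · rintro ⟨N, hN, hc⟩ x hx y hy ⟨g, rfl⟩
    obtain ⟨⟨n, t⟩, hnt⟩ := hc.2 g
    simp only at hnt
    have hnN : (n : G) ∈ N := n.2
    have htH : (t : G) ∈ H := t.2
    refine ⟨t, htH, ?_⟩
    have h1 : (t : G) * x * (t : G)⁻¹ ∈ H := mul_mem (mul_mem htH hx) (inv_mem htH)
    have h2 : g * x * g⁻¹ * ((t : G) * x * (t : G)⁻¹)⁻¹ ∈ N ⊓ H := by
      refine Subgroup.mem_inf.2 ⟨?_, mul_mem hy (inv_mem h1)⟩
      have : g * x * g⁻¹ * ((t : G) * x * (t : G)⁻¹)⁻¹ =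
          (n : G) * (((t : G) * x * (t : G)⁻¹) * (n : G)⁻¹ * ((t : G) * x * (t : G)⁻¹)⁻¹) := by
        rw [← hnt]; group
      rw [this]
      exact mul_mem hnN (hN.conj_mem _ (inv_mem hnN) _)
    rw [hc.disjoint.eq_bot, Subgroup.mem_bot, mul_inv_eq_one] at h2
    exact h2.symm
  · intro h
    exact Cfsg.Lib.Transfer.exists_complement_of_fusion H hH hHall fun x hx g hg => by
      obtain ⟨v, hv, hv'⟩ := h x hx _ hg ⟨g, rfl⟩
      exact ⟨v, hv, hv'.symm⟩

end Cfsg.Agent.S0079
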