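import Cfsg.Statements.S0080
import Cfsg.Agent.Transfer.Fusion

set_option autoImplicit false
open Cfsg
open scoped commutatorElement
open Cfsg.Lib.Transfer

namespace Cfsg.Agent.S0080

/-- When the index of H is prime to the order of H/H', the focal subgroup of H is G' ∩ H, and H/(G' ∩ H) has a normal complement. -/
theorem result {G : Type*} [Group G] [Finite G] (H : Subgroup G) (h : Nat.Coprime H.index (⁅H, H⁆.relIndex H)) : Subgroup.focalSubgroup H = commutator G ⊓ H ∧ ∃ N : Subgroup G, N.Normal ∧ N ⊓ H = commutator G ⊓ H ∧ N ⊔ H = ⊤ := by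
  have hd : (Subgroup.focalSubgroup H).relIndex H ∣ (⁅H, H⁆ : Subgroup G).relIndex H :=
    Subgroup.relIndex_dvd_of_le_left H (Subgroup.commutator_le_focalSubgroup H)
  have hc := Nat.Coprime.coprime_dvd_right hd h
  have hf := commutator_inf_eq_focal H hc
  obtain ⟨N, hN, h1, h2, -, -⟩ :=
    exists_normal_inf_eq H _ (Subgroup.focalSubgroup_le H) le_rfl hc
  exact ⟨hf.symm, N, hN, h1.trans hf.symm, h2⟩

end Cfsg.Agent.S0080
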