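import Cfsg.Statements.S0082
import Cfsg.Agent.Transfer.Control

set_option autoImplicit false
open Cfsg
open scoped commutatorElement
open Cfsg.Lib.Transfer

namespace Cfsg.Agent.S0082

/-- With a cyclic Sylow p-subgroup, either there is a normal p-complement or the elements of order prime to p generate the whole group. -/
theorem result {G : Type*} [Group G] [Finite G] {p : ℕ} [Fact p.Prime] (P : Sylow p G) (hP : IsCyclic P) : Cfsg.HasNormalPComplement p G ∨ Cfsg.pResidual p G = ⊤ := by
  by_cases hD : Cfsg.pResidual p G ⊓ (P : Subgroup G) = (P : Subgroup G)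
  · right
    rw [← pResidual_sup_sylow P, sup_of_le_left (inf_eq_right.1 hD)]
  left
  haveI : IsCyclic (P : Subgroup G) := hP
  have hcomm : IsMulCommutative (P : Subgroup G) :=
    ⟨⟨fun a b => IsCyclic.commGroup.mul_comm a b⟩⟩
  have hN : Subgroup.normalizer (P : Set G) ≤ Subgroup.centralizer (P : Set G) := by
    refine centralizer_of_normalizer_cyclic P _ (lt_of_le_of_ne inf_le_right hD) ?_
    rw [pResidual_inf_eq_commutator_inf P hcomm, Subgroup.commutator_inf_eq_focalSubgroup P,
      focal_eq_commutator_normalizer P hcomm]
  exact hasNormalPComplement_of_isComplement' (MonoidHom.ker_transferSylow_isComplement' P hN)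

end Cfsg.Agent.S0082
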