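import Cfsg.Statements.S0083
import Cfsg.Agent.Transfer.Control
import Cfsg.Agent.Transfer.Abelian

set_option autoImplicit false
open Cfsg
open scoped commutatorElement
open Cfsg.Lib.Transfer

namespace Cfsg.Agent.S0083

/-- For an abelian Sylow p-subgroup P, a normal p-complement exists exactly when the normalizer of P is an internal direct product of P with some subgroup. -/
theorem result {G : Type*} [Group G] [Finite G] {p : ℕ} [Fact p.Prime] (P : Sylow p G) (hP : IsMulCommutative P) : Cfsg.HasNormalPComplement p G ↔ ∃ Q : Subgroup G, Q ≤ Subgroup.centralizer (P : Set G) ∧ Q ⊓ (P : Subgroup G) = ⊥ ∧ Q ⊔ (P : Subgroup G) = Subgroup.normalizer (P : Set G) := by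
  constructor
  · intro h
    obtain ⟨N, hN, hc⟩ := exists_complement_of_hasNormalPComplement h P
    haveI := hN
    obtain ⟨hcop, k, hk⟩ := complement_props hc
    have hG : commutator G ≤ N := by
      rw [eq_pResidual_of_complement hcop hk]
      exact commutator_le_pResidual_of_abelian P hP
    refine ⟨N ⊓ Subgroup.normalizer (P : Set G), ?_, ?_, ?_⟩
    · rintro q ⟨hqN, hqP⟩ x hx
      have h1 : ⁅x, q⁆ ∈ N ⊓ (P : Subgroup G) := by
        refine ⟨hG (Subgroup.commutator_mem_commutator (Subgroup.mem_top _) (Subgroup.mem_top _)), ?_⟩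
        rw [commutatorElement_def, mul_assoc x q, mul_assoc x]
        exact mul_mem hx ((Subgroup.mem_normalizer_iff.1 hqP _).1 (inv_mem hx))
      rw [hc.disjoint.eq_bot, Subgroup.mem_bot, commutatorElement_eq_one_iff_mul_comm] at h1
      exact h1
    · exact le_bot_iff.1 (le_trans (inf_le_inf_right _ inf_le_left) hc.disjoint.eq_bot.le)
    · refine le_antisymm (sup_le inf_le_right Subgroup.le_normalizer) ?_
      intro g hg
      obtain ⟨n, hn, x, hx, rfl⟩ := Subgroup.mem_sup_of_normal_left.1
        (show g ∈ N ⊔ (P : Subgroup G) by rw [hc.sup_eq_top]; exact Subgroup.mem_top g)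
      refine Subgroup.mul_mem_sup ⟨hn, ?_⟩ hx
      simpa using mul_mem hg (inv_mem (Subgroup.le_normalizer hx))
  · rintro ⟨Q, hQ, -, hQP⟩
    haveI : IsMulCommutative (P : Subgroup G) := hP
    have hN : Subgroup.normalizer (P : Set G) ≤ Subgroup.centralizer (P : Set G) := by
      rw [← hQP]
      exact sup_le hQ (P : Subgroup G).le_centralizer
    exact hasNormalPComplement_of_isComplement' (MonoidHom.ker_transferSylow_isComplement' P hN)

end Cfsg.Agent.S0083
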