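import Cfsg.Statements.S0084
import Cfsg.Agent.Transfer.FrobeniusApps

set_option autoImplicit false
open Cfsg
open Cfsg.Lib.Transfer
open scoped commutatorElement

namespace Cfsg.Agent.S0084

/-- A group whose Sylow 2-subgroups are Klein four-groups and whose order is prime to 3 has a normal 2-complement. -/
theorem result {G : Type*} [Group G] [Finite G] (T : Sylow 2 G) (hT : IsKleinFour T) (h3 : ¬ 3 ∣ Nat.card G) : Cfsg.HasNormalPComplement 2 G := by
  haveI := hT
  haveI : IsMulCommutative (T : Subgroup G) := IsKleinFour.isMulCommutative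
  refine hasNormalPComplement_two_of_small T (n := 2) (IsKleinFour.card_four.trans rfl)
    fun r hr h2 hd j hj hmod => ?_
  have hle : 2 ^ j ≤ 2 ^ 2 := Nat.pow_le_pow_right (by norm_num) hj.le
  have hdvd := (Nat.modEq_iff_dvd' hle).1 hmod.symm
  interval_cases j <;> norm_num at hdvd
  · exact h3 ((Nat.prime_dvd_prime_iff_eq hr (by norm_num)).1 hdvd ▸ hd)
  · exact h2 ((Nat.prime_dvd_prime_iff_eq hr (by norm_num)).1 hdvd)

end Cfsg.Agent.S0084
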