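import Cfsg.Statements.S0085
import Cfsg.Agent.Transfer.FrobeniusApps

set_option autoImplicit false
open Cfsg
open Cfsg.Lib.Transfer
open scoped commutatorElement

namespace Cfsg.Agent.S0085

/-- A group whose Sylow 2-subgroups are elementary abelian of order 8 and whose order is prime to 3 and to 7 has a normal 2-complement. -/
theorem result {G : Type*} [Group G] [Finite G] (T : Sylow 2 G) (h8 : Nat.card T = 8) (he : ∀ x : T, x * x = 1) (h3 : ¬ 3 ∣ Nat.card G) (h7 : ¬ 7 ∣ Nat.card G) : Cfsg.HasNormalPComplement 2 G := by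
  haveI : IsMulCommutative (T : Subgroup G) := by
    refine ⟨⟨fun a b => ?_⟩⟩
    calc a * b = (b * b) * (a * b) * (a * a) := by rw [he, he, one_mul, mul_one]
      _ = b * ((b * a) * (b * a)) * a := by group
      _ = b * a := by rw [he, mul_one]
  refine hasNormalPComplement_two_of_small T (n := 3) (h8.trans rfl) fun r hr h2 hd j hj hmod => ?_
  have hle : 2 ^ j ≤ 2 ^ 3 := Nat.pow_le_pow_right (by norm_num) hj.le
  have hdvd := (Nat.modEq_iff_dvd' hle).1 hmod.symm
  interval_cases j <;> norm_num at hdvd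
  · exact h7 ((Nat.prime_dvd_prime_iff_eq hr (by norm_num)).1 hdvd ▸ hd)
  · rw [show (6 : ℕ) = 2 * 3 from rfl] at hdvd
    rcases hr.dvd_mul.1 hdvd with h | h
    · exact h2 ((Nat.prime_dvd_prime_iff_eq hr (by norm_num)).1 h)
    · exact h3 ((Nat.prime_dvd_prime_iff_eq hr (by norm_num)).1 h ▸ hd)
  · exact h2 ((Nat.prime_dvd_prime_iff_eq hr Nat.prime_two).1
      (hr.dvd_of_dvd_pow (show r ∣ 2 ^ 2 by norm_num; exact hdvd)))

end Cfsg.Agent.S0085
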