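import Cfsg.Statements.S0089
import Cfsg.Agent.Transfer.Control
import Cfsg.Agent.Transfer.Abelian

set_option autoImplicit false
open Cfsg
open scoped commutatorElement
open Cfsg.Lib.Transfer

namespace Cfsg.Agent.S0089

/-- When all Sylow subgroups are abelian, the derived subgroup meets the centre trivially. -/
theorem result {G : Type*} [Group G] [Finite G] (h : ∀ p : ℕ, p.Prime → ∀ P : Sylow p G, IsMulCommutative P) : commutator G ⊓ Subgroup.center G = ⊥ := by
  rw [eq_bot_iff]
  intro x hx
  obtain ⟨hxG, hxZ⟩ := hx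
  rw [Subgroup.mem_bot, ← orderOf_eq_one_iff]
  by_contra hne
  obtain ⟨p, hp, hdvd⟩ := Nat.exists_prime_and_dvd hne
  haveI := Fact.mk hp
  have hy : orderOf (x ^ (orderOf x / p)) = p := orderOf_pow_orderOf_div (orderOf_pos x).ne' hdvd
  obtain ⟨P, hP⟩ := (IsPGroup.of_card (n := 1)
    (by rw [Nat.card_zpowers, hy, pow_one] :
      Nat.card (Subgroup.zpowers (x ^ (orderOf x / p))) = p ^ 1)).exists_le_sylow
  haveI : IsMulCommutative (P : Subgroup G) := h p hp P
  have := eq_one_of_mem_commutator_of_central (P : Subgroup G) P.card_coprime_index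
    (hP (Subgroup.mem_zpowers _)) (pow_mem hxG _) (pow_mem hxZ _)
  rw [this, orderOf_one] at hy
  exact hp.ne_one hy.symm

end Cfsg.Agent.S0089
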