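import Cfsg.Statements.S0091
import Cfsg.Agent.Transfer.Control
import Cfsg.Agent.Transfer.Abelian

set_option autoImplicit false
open Cfsg
open scoped commutatorElement
open Cfsg.Lib.Transfer

namespace Cfsg.Agent.S0091

/-- If a nontrivial Sylow p-subgroup controls its own fusion then it is not contained in the derived subgroup. -/
theorem result {G : Type*} [Group G] [Finite G] {p : ℕ} [Fact p.Prime] (P : Sylow p G) (hp : p ∣ Nat.card G) (h : ∀ x ∈ P, ∀ y ∈ P, (∃ g : G, g * x * g⁻¹ = y) → ∃ z ∈ P, z * x * z⁻¹ = y) : ¬ (P : Subgroup G) ≤ commutator G := by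
  intro hle
  have h1 : (P : Subgroup G) ≤ ⁅(P : Subgroup G), (P : Subgroup G)⁆ := by
    refine le_trans ?_ (focalSubgroup_le_of_control _ (P : Subgroup G) fun x hx g hy =>
      let ⟨z, hz, hz'⟩ := h x hx _ hy ⟨g, rfl⟩
      ⟨z, hz, hz'.symm⟩)
    rw [← Subgroup.commutator_inf_eq_focalSubgroup P]
    exact le_inf hle le_rfl
  haveI : Nontrivial (P : Subgroup G) :=
    (Subgroup.nontrivial_iff_ne_bot _).2 (P.ne_bot_of_dvd_card hp)
  haveI : Group.IsNilpotent (P : Subgroup G) := P.2.isNilpotent
  refine (IsSolvable.commutator_lt_top_of_nontrivial (G := (P : Subgroup G))).ne ?_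
  apply Subgroup.map_injective (P : Subgroup G).subtype_injective
  rw [Subgroup.map_subtype_commutator, ← MonoidHom.range_eq_map, Subgroup.range_subtype]
  exact le_antisymm (Subgroup.commutator_le_self _) h1

end Cfsg.Agent.S0091
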