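import Cfsg.Statements.S0094
import Cfsg.Agent.PGroups.Basic
import Cfsg.Agent.PGroups.Commutators

set_option autoImplicit false
open Cfsg
open scoped commutatorElement

namespace Cfsg.Agent.S0094

/-- In a special p-group every central element has order dividing p. -/
theorem result {P : Type*} [Group P] [Finite P] {p : ℕ} [Fact p.Prime] (h : Cfsg.IsSpecial p P) (z : P) (hz : z ∈ Subgroup.center P) : z ^ p = 1 := by
  obtain ⟨hP, hF, hD⟩ := h
  rw [← hD, commutator_eq_closure] at hz
  have key : z ∈ Subgroup.center P ∧ z ^ p = 1 := by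
    induction hz using Subgroup.closure_induction with
    | mem c hc =>
      obtain ⟨x, y, rfl⟩ := hc
      have hc : ⁅x, y⁆ ∈ Subgroup.center P :=
        hD ▸ Subgroup.commutator_mem_commutator (Subgroup.mem_top x) (Subgroup.mem_top y)
      refine ⟨hc, ?_⟩
      rw [← Cfsg.Lib.PGroups.commutator_pow_left_of_commute (Subgroup.mem_center_iff.1 hc x).symm,
        commutatorElement_eq_one_iff_mul_comm]
      exact (Subgroup.mem_center_iff.1 (hF ▸ Cfsg.Lib.PGroups.pow_mem_frattini hP x) y).symm
    | one => simp [Subgroup.one_mem]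
    | mul a b _ _ ha hb =>
      refine ⟨mul_mem ha.1 hb.1, ?_⟩
      have hab : Commute a b := (Subgroup.mem_center_iff.1 ha.1 b).symm
      rw [hab.mul_pow, ha.2, hb.2, one_mul]
    | inv a _ ha => exact ⟨inv_mem ha.1, by rw [inv_pow, ha.2, inv_one]⟩
  exact key.2

end Cfsg.Agent.S0094
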