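import Cfsg.Statements.S0097
import Cfsg.Agent.PGroups.Basic
import Cfsg.Agent.PGroups.Commutators

set_option autoImplicit false
open Cfsg
open scoped commutatorElement

namespace Cfsg.Agent.S0097

/-- For odd p and E extraspecial, the subgroup generated by the elements of order dividing p has exponent dividing p and index at most p. -/
theorem result {E : Type*} [Group E] [Finite E] {p : ℕ} [Fact p.Prime] (hp : p ≠ 2) (h : Cfsg.IsExtraspecial p E) : (Subgroup.closure {x : E | x ^ p = 1}).index ≤ p ∧ ∀ g ∈ Subgroup.closure {x : E | x ^ p = 1}, g ^ p = 1 := by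
  obtain ⟨⟨hP, hF, hD⟩, hZ⟩ := h
  have hc : ⁅commutator E, (⊤ : Subgroup E)⁆ = ⊥ := by
    rw [Subgroup.commutator_eq_bot_iff_le_centralizer, Subgroup.coe_top, Subgroup.centralizer_univ, hD]
  refine ⟨?_, fun g hg => Cfsg.Lib.PGroups.pow_eq_one_of_mem_closure_class_two Fact.out hp hc hg⟩
  have hpow : ∀ x : E, x ^ p ∈ Subgroup.center E :=
    fun x => hF ▸ Cfsg.Lib.PGroups.pow_mem_frattini hP x
  let f : E →* Subgroup.center E := MonoidHom.mk' (fun x => ⟨x ^ p, hpow x⟩) fun x y => by
    refine Subtype.ext ?_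
    show (x * y) ^ p = x ^ p * y ^ p
    have hcen := Cfsg.Lib.PGroups.commutator_mem_center_of_class_two hc y x
    obtain ⟨k, hk⟩ := Cfsg.Lib.PGroups.dvd_choose_two (Fact.out : p.Prime) hp
    have hp1 : ⁅y, x⁆ ^ p = 1 := by
      rw [← Cfsg.Lib.PGroups.commutator_pow_left_of_commute (Subgroup.mem_center_iff.1 hcen y).symm,
        commutatorElement_eq_one_iff_mul_comm]
      exact (Subgroup.mem_center_iff.1 (hpow y) x).symm
    rw [Cfsg.Lib.PGroups.mul_pow_of_central hcen, hk, pow_mul, hp1, one_pow, mul_one]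
  refine le_trans (Nat.le_of_dvd (Nat.pos_of_ne_zero Subgroup.index_ne_zero_of_finite)
    (Subgroup.index_dvd_of_le (H := f.ker) fun x hx => Subgroup.subset_closure
      (congrArg Subtype.val hx : x ^ p = 1))) ?_
  rw [Subgroup.index_ker, ← hZ]
  exact Subgroup.card_le_card_group _

end Cfsg.Agent.S0097
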