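import Cfsg.Statements.S0099
import Cfsg.Agent.PGroups.ExtraspecialIso

set_option autoImplicit false
open Cfsg

namespace Cfsg.Agent.S0099

/-- Among three extraspecial 2-groups of equal order, some two are isomorphic. -/
theorem result {E₁ : Type*} {E₂ : Type*} {E₃ : Type*} [Group E₁] [Group E₂] [Group E₃] [Finite E₁] [Finite E₂] [Finite E₃] (h₁ : Cfsg.IsExtraspecial 2 E₁) (h₂ : Cfsg.IsExtraspecial 2 E₂) (h₃ : Cfsg.IsExtraspecial 2 E₃) (h12 : Nat.card E₁ = Nat.card E₂) (h23 : Nat.card E₂ = Nat.card E₃) : Nonempty (E₁ ≃* E₂) ∨ Nonempty (E₂ ≃* E₃) ∨ Nonempty (E₁ ≃* E₃) := by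
  haveI : Fact (Nat.Prime 2) := ⟨Nat.prime_two⟩
  obtain ⟨z₁, hz₁, hz₁'⟩ := Cfsg.Lib.PGroups.ExtraspecialIso.exists_z h₁
  obtain ⟨z₂, hz₂, hz₂'⟩ := Cfsg.Lib.PGroups.ExtraspecialIso.exists_z h₂
  obtain ⟨z₃, hz₃, hz₃'⟩ := Cfsg.Lib.PGroups.ExtraspecialIso.exists_z h₃
  have e₁ := Cfsg.Lib.PGroups.ExtraspecialIso.ES.of_isExtraspecial h₁ hz₁ hz₁'
  have e₂ := Cfsg.Lib.PGroups.ExtraspecialIso.ES.of_isExtraspecial h₂ hz₂ hz₂'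
  have e₃ := Cfsg.Lib.PGroups.ExtraspecialIso.ES.of_isExtraspecial h₃ hz₃ hz₃'
  obtain ⟨m₁, c₁, i₁⟩ := Cfsg.Lib.PGroups.ExtraspecialIso.numInv_values _ E₁ z₁ le_rfl e₁
  obtain ⟨m₂, c₂, i₂⟩ := Cfsg.Lib.PGroups.ExtraspecialIso.numInv_values _ E₂ z₂ le_rfl e₂
  obtain ⟨m₃, c₃, i₃⟩ := Cfsg.Lib.PGroups.ExtraspecialIso.numInv_values _ E₃ z₃ le_rfl e₃
  have p12 := h12
  have p23 := h23
  rw [c₁, c₂] at p12
  rw [c₂, c₃] at p23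
  have a12 := Nat.pow_right_injective le_rfl p12
  have a23 := Nat.pow_right_injective le_rfl p23
  obtain rfl : m₁ = m₂ := by omega
  obtain rfl : m₁ = m₃ := by omega
  by_cases j12 : Cfsg.Lib.PGroups.ExtraspecialIso.numInv E₁ = Cfsg.Lib.PGroups.ExtraspecialIso.numInv E₂
  · obtain ⟨f, -⟩ := Cfsg.Lib.PGroups.ExtraspecialIso.iso_two _ E₁ z₁ E₂ z₂ le_rfl e₁ e₂ h12 j12
    exact Or.inl ⟨f⟩
  by_cases j23 : Cfsg.Lib.PGroups.ExtraspecialIso.numInv E₂ = Cfsg.Lib.PGroups.ExtraspecialIso.numInv E₃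
  · obtain ⟨f, -⟩ := Cfsg.Lib.PGroups.ExtraspecialIso.iso_two _ E₂ z₂ E₃ z₃ le_rfl e₂ e₃ h23 j23
    exact Or.inr (Or.inl ⟨f⟩)
  obtain ⟨f, -⟩ := Cfsg.Lib.PGroups.ExtraspecialIso.iso_two _ E₁ z₁ E₃ z₃ le_rfl e₁ e₃ (h12.trans h23) (by omega)
  exact Or.inr (Or.inr ⟨f⟩)

end Cfsg.Agent.S0099
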