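import Cfsg.Statements.S0104
import Cfsg.Agent.Transfer.Control
import Cfsg.Agent.Transfer.Abelian

set_option autoImplicit false
open Cfsg
open scoped commutatorElement
open Cfsg.Lib.Transfer

namespace Cfsg.Agent.S0104

/-- A subgroup Z of a Sylow p-subgroup P that is normalized by N_G(P) is weakly closed in P exactly when it is normal in every Sylow p-subgroup containing it. -/
theorem result {G : Type*} [Group G] [Finite G] {p : ℕ} [Fact p.Prime] (P : Sylow p G) (Z : Subgroup G) (hZP : Z ≤ (P : Subgroup G)) (hZN : Subgroup.normalizer (P : Set G) ≤ Subgroup.normalizer (Z : Set G)) : Cfsg.IsWeaklyClosed Z P ↔ ∀ R : Sylow p G, Z ≤ (R : Subgroup G) → (R : Subgroup G) ≤ Subgroup.normalizer (Z : Set G) := by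
  constructor
  · intro h R hR
    obtain ⟨g, hg⟩ := MulAction.exists_smul_eq G R P
    have hgZ : Z.map (MulAut.conj g).toMonoidHom ≤ (P : Subgroup G) := by
      rw [← hg, sylow_smul_coe]
      exact Subgroup.map_mono hR
    have hg' := map_conj_eq_self_iff.1 (h.2 g hgZ)
    intro r hr
    have h1 : g * r * g⁻¹ ∈ (P : Subgroup G) := by
      rw [← hg, sylow_smul_coe]
      exact ⟨r, hr, rfl⟩
    have h2 := mul_mem (mul_mem (inv_mem hg') (hZN (Subgroup.le_normalizer h1))) hg'
    simpa [mul_assoc] using h2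
  · intro h
    refine ⟨hZP, fun g hg => map_conj_eq_self_iff.2 ?_⟩
    have hR : Z ≤ ((g⁻¹ • P : Sylow p G) : Subgroup G) := by
      intro z hz
      rw [sylow_smul_coe, mem_map_conj, inv_inv]
      exact hg ⟨z, hz, rfl⟩
    obtain ⟨c, hc, hcP⟩ := exists_conj_mem_of_sylow_le _ P (g⁻¹ • P)
      (Subgroup.le_normalizer.trans hZN) (h _ hR)
    have : g * c ∈ Subgroup.normalizer (P : Set G) := by
      refine Sylow.smul_eq_iff_mem_normalizer.1 ?_
      rw [mul_smul, hcP, smul_inv_smul]
    simpa using mul_mem (hZN this) (inv_mem hc)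

end Cfsg.Agent.S0104
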