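import Cfsg.Statements.S0105
import Cfsg.Agent.Transfer.Control
import Cfsg.Agent.Transfer.Abelian

set_option autoImplicit false
open Cfsg
open scoped commutatorElement
open Cfsg.Lib.Transfer

namespace Cfsg.Agent.S0105

/-- With an abelian Sylow p-subgroup P, some quotient of G is isomorphic to the part of P central in N_G(P). -/
theorem result {G : Type*} [Group G] [Finite G] {p : ℕ} [Fact p.Prime] (P : Sylow p G) (hP : IsMulCommutative P) : ∃ (N : Subgroup G) (hN : N.Normal), Nonempty (G ⧸ N ≃* ((P : Subgroup G) ⊓ Subgroup.centralizer (Subgroup.normalizer (P : Set G) : Set G) : Subgroup G)) := by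
  haveI : IsMulCommutative (P : Subgroup G) := hP
  set M := Subgroup.normalizer (P : Set G)
  have hPM : (P : Subgroup G) ≤ M := Subgroup.le_normalizer
  haveI : ((P : Subgroup G).subgroupOf M).Normal := Subgroup.normal_in_normalizer
  haveI : IsMulCommutative ↥((P : Subgroup G).subgroupOf M) :=
    ⟨⟨fun a b => by
      apply Subtype.ext; apply Subtype.ext
      have h := congrArg Subtype.val
        (hP.is_comm.comm (⟨((a : M) : G), a.2⟩ : (P : Subgroup G)) ⟨((b : M) : G), b.2⟩)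
      simpa using h⟩⟩
  have hHall : (Nat.card ((P : Subgroup G).subgroupOf M)).Coprime
      ((P : Subgroup G).subgroupOf M).index := by
    rw [Nat.card_congr (Subgroup.subgroupOfEquivOfLe hPM).toEquiv]
    exact Nat.Coprime.coprime_dvd_right
      (Dvd.intro _ (Subgroup.relIndex_mul_index hPM)) P.card_coprime_index
  obtain ⟨h1, h2, h3⟩ := normal_abelian_hall_decomp _ hHall
  have hfoc := focal_eq_commutator_normalizer P hP
  have hd : (Subgroup.focalSubgroup (P : Subgroup G)).relIndex P ∣ Nat.card P :=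
    Subgroup.relIndex_dvd_card _ _
  obtain ⟨N, hN, hNP, hsup, -, -⟩ := exists_normal_inf_eq (P : Subgroup G) _
    (Subgroup.focalSubgroup_le _) le_rfl
    (Nat.Coprime.coprime_dvd_right hd P.card_coprime_index.symm)
  refine ⟨N, hN, ?_⟩
  set C := (P : Subgroup G) ⊓ Subgroup.centralizer (M : Set G)
  have hcomm : (⁅(P : Subgroup G).subgroupOf M, (⊤ : Subgroup M)⁆).map M.subtype =
      ⁅(P : Subgroup G), M⁆ := by
    rw [Subgroup.map_commutator, Subgroup.subgroupOf_map_subtype, inf_eq_left.2 hPM,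
      ← MonoidHom.range_eq_map, Subgroup.range_subtype]
  have hinf : C ⊓ N = ⊥ := by
    rw [eq_bot_iff]
    rintro x ⟨⟨hxP, hxC⟩, hxN⟩
    have hx1 : x ∈ ⁅(P : Subgroup G), M⁆ := by rw [← hfoc, ← hNP]; exact ⟨hxN, hxP⟩
    rw [← hcomm] at hx1
    obtain ⟨y, hy, rfl⟩ := hx1
    rw [SetLike.mem_coe, h1] at hy
    have hyZ : y ∈ Subgroup.center M :=
      Subgroup.mem_center_iff.2 fun m => Subtype.ext (hxC m m.2)
    have : y ∈ (⊥ : Subgroup M) := by
      rw [← h2]
      exact ⟨hy, hyZ, hy.2⟩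
    rw [Subgroup.mem_bot] at this ⊢
    rw [this]; rfl
  have hP' : (P : Subgroup G) ≤ C ⊔ N := by
    intro x hx
    have hx' : (⟨x, hPM hx⟩ : M) ∈ (P : Subgroup G).subgroupOf M := hx
    rw [← h3, ← h1] at hx'
    have hx'' := Subgroup.mem_map_of_mem M.subtype hx'
    rw [Subgroup.map_sup, hcomm] at hx''
    refine (sup_le (le_trans ?_ le_sup_right) (le_trans ?_ le_sup_left) : _ ≤ C ⊔ N) hx''
    · rw [← hfoc, ← hNP]; exact inf_le_left
    · rintro _ ⟨y, ⟨hyZ, hyP⟩, rfl⟩
      exact ⟨hyP, fun m hm =>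
        congrArg Subtype.val (Subgroup.mem_center_iff.1 hyZ ⟨m, hm⟩)⟩
  refine ⟨(MulEquiv.ofBijective ((QuotientGroup.mk' N).comp C.subtype) ⟨?_, ?_⟩).symm⟩
  · rw [injective_iff_map_eq_one]
    intro x hx
    have hmem : (x : G) ∈ C ⊓ N := ⟨x.2, (QuotientGroup.eq_one_iff (x : G)).1 hx⟩
    rw [hinf, Subgroup.mem_bot] at hmem
    exact Subtype.ext hmem
  · intro q
    obtain ⟨g, rfl⟩ := QuotientGroup.mk_surjective q
    have hg : g ∈ C ⊔ N :=
      (hsup.ge.trans (sup_le le_sup_right hP')) (Subgroup.mem_top g)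
    obtain ⟨c, hc, n, hn, rfl⟩ := Subgroup.mem_sup_of_normal_right.1 hg
    refine ⟨⟨c, hc⟩, ?_⟩
    simp [(QuotientGroup.eq_one_iff n).2 hn]

end Cfsg.Agent.S0105
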