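import Cfsg.Statements.S0114
import Cfsg.Agent.PGroups.MaxClass
import Cfsg.Agent.InvolCalc.Classes

set_option autoImplicit false
open Cfsg

namespace Cfsg.Agent.S0114

/-- The central quotient of a 2-group of maximal class is dihedral. -/
theorem result {X : Type*} [Group X] [Finite X] (n : ℕ) (hn : 3 ≤ n) (hX : Nat.card X = 2 ^ n) (hc : Group.nilpotencyClass X = n - 1) : Nonempty (X ⧸ Subgroup.center X ≃* DihedralGroup (2 ^ (n - 2))) := by
  haveI : Fact (Nat.Prime 2) := ⟨Nat.prime_two⟩
  haveI : Group.IsNilpotent X := (IsPGroup.of_card hX).isNilpotent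
  obtain ⟨hZ, hq, -⟩ := Cfsg.Lib.MaxClass.center_facts n X hX hn hc
  obtain ⟨A, hA, hi⟩ := Cfsg.Lib.MaxClass.exists_cyclic_index_two n X hX hn hc
  obtain ⟨hZA, hout⟩ := Cfsg.Lib.MaxClass.outside hX hn hc hA hi
  set π := QuotientGroup.mk' (Subgroup.center X) with hπ
  have hf : Function.Surjective π := QuotientGroup.mk'_surjective _
  have hπA : ∀ y : X, π y ∈ A.map π → y ∈ A := fun y hy => by
    have : y ∈ (A.map π).comap π := hy
    rwa [Subgroup.comap_map_eq, hπ, QuotientGroup.ker_mk', sup_eq_left.2 hZA] at this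
  obtain ⟨⟨a, ha⟩, hgen⟩ := hA.exists_generator
  obtain ⟨x, hx⟩ : ∃ x : X, x ∉ A := by
    by_contra h
    push Not at h
    rw [(Subgroup.eq_top_iff' A).2 h, Subgroup.index_top] at hi
    norm_num at hi
  have hxa : x * a ∉ A := fun h => hx (by simpa using mul_mem h (inv_mem ha))
  have hinv : ∀ y : X, y ∉ A → orderOf (π y) = 2 := fun y hy => orderOf_eq_prime
    (by rw [← map_pow, hπ]; exact (QuotientGroup.eq_one_iff _).2 (hout y hy).1)
    fun h => hy (hπA y (by rw [h]; exact one_mem _))
  have hne : π x ≠ π (x * a) := by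
    intro h
    rw [map_mul, left_eq_mul] at h
    have haZ : a ∈ Subgroup.center X := by
      rw [← QuotientGroup.ker_mk' (Subgroup.center X), MonoidHom.mem_ker]; exact h
    have hle : Nat.card A ≤ Nat.card (Subgroup.center X) := by
      refine Nat.card_le_card_of_injective _ (Subgroup.inclusion_injective (show A ≤ Subgroup.center X from fun y hy => ?_))
      obtain ⟨i, hi'⟩ := Subgroup.mem_zpowers_iff.1 (hgen ⟨y, hy⟩)
      have := congrArg Subtype.val hi'
      rw [Subgroup.coe_zpow] at this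
      exact (show a ^ i = y from this) ▸ zpow_mem haZ i
    have h2 := A.card_mul_index
    rw [hi, hX] at h2
    rw [hZ] at hle
    have h3 : 2 ^ 3 ≤ 2 ^ n := Nat.pow_le_pow_right two_pos hn
    omega
  obtain ⟨e⟩ := Cfsg.Lib.InvolCalc.exists_dihedral_equiv (hinv x hx) (hinv _ hxa) hne
  have htop : Subgroup.closure ({π x, π (x * a)} : Set (X ⧸ Subgroup.center X)) = ⊤ := by
    rw [← MonoidHom.map_closure π {x, x * a} |>.trans (congrArg Subgroup.closure (Set.image_pair π x (x * a))),
      ← Subgroup.map_top_of_surjective π hf]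
    congr 1
    refine top_le_iff.1 ?_
    rw [← Cfsg.Lib.MaxClass.sup_zpowers_eq_top hi hx]
    have hxm : x ∈ Subgroup.closure ({x, x * a} : Set X) := Subgroup.subset_closure (Or.inl rfl)
    have ham : a ∈ Subgroup.closure ({x, x * a} : Set X) := by
      simpa using mul_mem (inv_mem hxm) (Subgroup.subset_closure (Or.inr rfl) : x * a ∈ Subgroup.closure ({x, x * a} : Set X))
    refine sup_le (fun y hy => ?_) (Subgroup.zpowers_le.2 hxm)
    obtain ⟨i, hi'⟩ := Subgroup.mem_zpowers_iff.1 (hgen ⟨y, hy⟩)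
    have := congrArg Subtype.val hi'
    rw [Subgroup.coe_zpow] at this
    exact (show a ^ i = y from this) ▸ zpow_mem ham i
  let E : X ⧸ Subgroup.center X ≃* DihedralGroup (orderOf (π x * π (x * a))) :=
    ((MulEquiv.subgroupCongr htop).trans Subgroup.topEquiv).symm.trans e
  have hcard := Nat.card_congr E.toEquiv
  rw [hq, DihedralGroup.nat_card, show n - 1 = (n - 2) + 1 by omega, pow_succ'] at hcard
  rw [Nat.eq_of_mul_eq_mul_left two_pos hcard]
  exact ⟨E⟩

end Cfsg.Agent.S0114
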