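import Cfsg.Statements.S0123
import Cfsg.Agent.PGroups.ClassThree

set_option autoImplicit false
open Cfsg
open scoped commutatorElement

namespace Cfsg.Agent.S0123

/-- For a p-group of small class relative to p (class ≤ 2 with p odd, or class ≤ 3 with p > 3) whose derived subgroup is generated by elements of order dividing p, the p-th power map is multiplicative. -/
theorem result {R : Type*} [Group R] [Finite R] {p : ℕ} [Fact p.Prime] (hR : IsPGroup p R) (hcl : (p ≠ 2 ∧ ⁅commutator R, (⊤ : Subgroup R)⁆ = ⊥) ∨ (3 < p ∧ ⁅⁅commutator R, (⊤ : Subgroup R)⁆, (⊤ : Subgroup R)⁆ = ⊥)) (hder : commutator R ≤ Subgroup.closure {x : R | x ^ p = 1}) (x y : R) : (x * y) ^ p = x ^ p * y ^ p := by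
  have hpp : p.Prime := Fact.out
  have hp2 : p ≠ 2 := hcl.elim (·.1) fun h => by omega
  have hexp : ∀ g ∈ Subgroup.closure {x : R | x ^ p = 1}, g ^ p = 1 := fun g hg => hcl.elim
    (fun h => Cfsg.Lib.PGroups.pow_eq_one_of_mem_closure_class_two hpp h.1 h.2 hg)
    (fun h => Cfsg.Lib.PGroups.pow_eq_one_of_mem_closure_class_three hpp h.1 h.2 hg)
  have hder' : ∀ a b : R, ⁅a, b⁆ ^ p = 1 := fun a b =>
    hexp _ (hder (Subgroup.commutator_mem_commutator (Subgroup.mem_top a) (Subgroup.mem_top b)))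
  have h3 : ⁅⁅commutator R, (⊤ : Subgroup R)⁆, (⊤ : Subgroup R)⁆ = ⊥ := hcl.elim
    (fun h => by rw [h.2, Subgroup.commutator_bot_left]) (·.2)
  obtain ⟨-, -, h⟩ := Cfsg.Lib.PGroups.mul_pow_class_three
    (Cfsg.Lib.PGroups.commutator_three_mem_center h3 x y x)
    (Cfsg.Lib.PGroups.commutator_three_mem_center h3 y y x) p
  obtain ⟨k, hk⟩ := Cfsg.Lib.PGroups.dvd_choose_two hpp hp2
  have hD : ⁅y, ⁅y, x⁆⁆ ^ p.choose 3 = 1 ∧ ⁅x, ⁅y, x⁆⁆ ^ p.choose 3 = 1 := by
    rcases hcl with ⟨-, h2⟩ | ⟨h4, -⟩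
    · have hc := Cfsg.Lib.PGroups.commutator_mem_center_of_class_two h2 y x
      constructor <;>
        rw [commutatorElement_eq_one_iff_mul_comm.2 (Subgroup.mem_center_iff.1 hc _), one_pow]
    · obtain ⟨l, hl⟩ := Cfsg.Lib.PGroups.dvd_choose_three hpp h4
      constructor <;> rw [hl, pow_mul, hder', one_pow]
  rw [h, hD.1, pow_add, mul_comm 2, pow_mul, hD.2, one_pow, hk, pow_mul, pow_mul, hder', hder']
  simp

end Cfsg.Agent.S0123
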