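import Cfsg.Statements.S0125
import Cfsg.Agent.Transfer.IndexPrimeTo

set_option autoImplicit false
open Cfsg

namespace Cfsg.Agent.S0125

/-- The centralizer of a self-centralizing normal subgroup A of a Sylow p-subgroup is the direct product of A with a normal p'-subgroup. -/
theorem result {G : Type*} [Group G] [Finite G] {p : ℕ} [Fact p.Prime] (R : Sylow p G) (A : Subgroup G) (hAR : A ≤ (R : Subgroup G)) (hAn : (R : Subgroup G) ≤ Subgroup.normalizer (A : Set G)) (hC : (R : Subgroup G) ⊓ Subgroup.centralizer (A : Set G) = A) : ∃ H : Subgroup G, H ≤ Subgroup.centralizer (A : Set G) ∧ Nat.Coprime (Nat.card H) p ∧ Subgroup.centralizer (A : Set G) ≤ Subgroup.normalizer (H : Set G) ∧ H ⊓ A = ⊥ ∧ H ⊔ A = Subgroup.centralizer (A : Set G) := by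
  set C := Subgroup.centralizer (A : Set G) with hCdef
  set M := Subgroup.normalizer (A : Set G) with hMdef
  have hAC : A ≤ C := hC.ge.trans inf_le_right
  have hCM : C ≤ M := fun c hc => Subgroup.mem_normalizer_iff.2 fun a => by
    constructor
    · intro ha
      rwa [← hc a ha, mul_inv_cancel_right]
    · intro ha
      have h1 := hc _ ha
      have h2 : c * a * c⁻¹ = a := by
        calc c * a * c⁻¹ = c⁻¹ * (c * (c * a * c⁻¹)) * 1 := by group
          _ = c⁻¹ * (c * a * c⁻¹ * c) * 1 := by rw [h1]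
          _ = a := by group
      rwa [h2] at ha
  haveI : (C.subgroupOf M).Normal := ⟨fun c hc g a ha => by
    have h1 : (g : G)⁻¹ * a * g ∈ A := (Subgroup.mem_normalizer_iff''.1 g.2 a).1 ha
    have h2 : (g : G)⁻¹ * a * g * (c : G) = (c : G) * ((g : G)⁻¹ * a * g) := hc _ h1
    show a * ((g : G) * c * (g : G)⁻¹) = (g : G) * c * (g : G)⁻¹ * a
    calc a * ((g : G) * c * (g : G)⁻¹) = g * (((g : G)⁻¹ * a * g) * c) * (g : G)⁻¹ := by group
      _ = g * (c * ((g : G)⁻¹ * a * g)) * (g : G)⁻¹ := by rw [h2]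
      _ = _ := by group⟩
  obtain ⟨S, hS⟩ := Cfsg.Lib.Transfer.exists_sylow_subgroupOf (R.subtype hAn) (C.subgroupOf M)
  have hidx : ¬ p ∣ (A.subgroupOf C).index := by
    have h1 := S.not_dvd_index
    rw [hS, Sylow.coe_subtype] at h1
    change ¬ p ∣ ((R : Subgroup G).subgroupOf M).relIndex (C.subgroupOf M) at h1
    rw [Subgroup.relIndex_subgroupOf hCM, ← Subgroup.inf_relIndex_right, hC] at h1
    exact h1
  let T : Sylow p C := ((R.2.to_le hAR).comap_subtype (K := C)).toSylow hidx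
  have hT : (T : Subgroup C) = A.subgroupOf C := rfl
  have hN : Subgroup.normalizer ((T : Subgroup C) : Set C) ≤
      Subgroup.centralizer ((T : Subgroup C) : Set C) := by
    intro c _ a ha
    exact Subtype.ext (c.2 _ ha)
  set N := (MonoidHom.transferSylow T hN).ker
  have hc : N.IsComplement' (A.subgroupOf C) := MonoidHom.ker_transferSylow_isComplement' T hN
  have hNn : N.Normal := MonoidHom.normal_ker _
  refine ⟨N.map C.subtype, Subgroup.map_subtype_le N, ?_, ?_, ?_, ?_⟩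
  · rw [Subgroup.card_subtype, ← hc.index_eq_card]
    exact ((Fact.out : p.Prime).coprime_iff_not_dvd.2 hidx).symm
  · intro c hcC
    rw [Subgroup.mem_normalizer_iff]
    intro x
    constructor
    · rintro ⟨y, hy, rfl⟩
      exact ⟨(⟨c, hcC⟩ : C) * y * (⟨c, hcC⟩ : C)⁻¹, hNn.conj_mem y hy _, rfl⟩
    · rintro ⟨y, hy, hyx⟩
      refine ⟨(⟨c, hcC⟩ : C)⁻¹ * y * ((⟨c, hcC⟩ : C)⁻¹)⁻¹, hNn.conj_mem y hy _, ?_⟩
      show c⁻¹ * y * (c⁻¹)⁻¹ = x
      rw [show ((y : C) : G) = c * x * c⁻¹ from hyx]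
      group
  · rw [eq_bot_iff]
    rintro x ⟨⟨y, hy, rfl⟩, hxA⟩
    have h2 : y ∈ N ⊓ A.subgroupOf C := ⟨hy, hxA⟩
    rw [hc.disjoint.eq_bot, Subgroup.mem_bot] at h2
    simp [h2]
  · refine le_antisymm (sup_le (Subgroup.map_subtype_le N) hAC) fun x hx => ?_
    obtain ⟨⟨n, a⟩, hna⟩ := hc.2 (⟨x, hx⟩ : C)
    simp only at hna
    rw [show x = ((n : C) : G) * ((a : C) : G) from (congrArg Subtype.val hna).symm]
    exact Subgroup.mul_mem_sup ⟨n, n.2, rfl⟩ a.2

end Cfsg.Agent.S0125
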