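import Cfsg.Statements.S0138
import Cfsg.Agent.Chars.Core

set_option autoImplicit false
open Cfsg

namespace Cfsg.Agent.S0138

/-- A character value has absolute value equal to the degree exactly when the group element acts by a scalar. -/
theorem result {G : Type*} [Group G] [Finite G] {V : Type*} [AddCommGroup V] [Module ℂ V] [FiniteDimensional ℂ V] (ρ : Representation ℂ G V) (g : G) : ‖ρ.character g‖ = (Module.finrank ℂ V : ℝ) ↔ ∃ ω : ℂ, ρ g = ω • (LinearMap.id : V →ₗ[ℂ] V) := by
  constructor
  · intro h
    obtain ⟨ω, hω, -⟩ := Cfsg.Lib.Chars.scalar_of_norm_character_eq ρ g h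
    exact ⟨ω, hω⟩
  · rintro ⟨ω, hω⟩
    rcases Nat.eq_zero_or_pos (Module.finrank ℂ V) with h0 | hpos
    · rw [Representation.character, hω, map_smul, LinearMap.trace_id, h0]; simp
    have : Nontrivial V := Module.finrank_pos_iff.mp hpos
    obtain ⟨v, hv⟩ := exists_ne (0 : V)
    have h1 : ∀ k : ℕ, (ρ g ^ k) v = ω ^ k • v := by
      intro k
      induction k with
      | zero => simp
      | succ k ih => rw [pow_succ', Module.End.mul_apply, ih, map_smul, hω]; simp [smul_smul, pow_succ]
    have h2 := h1 (orderOf g)
    rw [← map_pow ρ, pow_orderOf_eq_one, map_one, Module.End.one_apply] at h2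
    have h3 : ω ^ orderOf g = 1 := by
      have : (ω ^ orderOf g - 1) • v = 0 := by rw [sub_smul, one_smul, ← h2, sub_self]
      exact sub_eq_zero.mp ((smul_eq_zero.mp this).resolve_right hv)
    rw [Representation.character, hω, map_smul, LinearMap.trace_id, smul_eq_mul, norm_mul,
      Complex.norm_eq_one_of_pow_eq_one h3 (orderOf_pos g).ne', Complex.norm_natCast, one_mul]

end Cfsg.Agent.S0138
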