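import Cfsg.Statements.S0162
import Cfsg.Agent.Chars.Real

set_option autoImplicit false
open Cfsg

namespace Cfsg.Agent.S0162

/-- If a finite group has odd order, its order is congruent to its number of conjugacy classes modulo 16. -/
theorem result {G : Type*} [Group G] [Finite G] (hodd : Odd (Nat.card G)) : Nat.card G ≡ Nat.card (ConjClasses G) [MOD 16] := by
  classical
  have := Fintype.ofFinite G
  rw [← (ZMod.natCast_eq_natCast_iff _ _ 16)]
  rw [← Cfsg.Lib.Chars.sum_deg_sq_nat (G := G), ← Cfsg.Lib.Chars.card_irrCharacter, ← sub_eq_zero,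
    Nat.card_eq_fintype_card, ← Finset.card_univ, Finset.card_eq_sum_ones, Nat.cast_sum, Nat.cast_sum,
    ← Finset.sum_sub_distrib]
  have hconj : ∀ χ : Cfsg.IrrCharacter G, Cfsg.Lib.Chars.deg (Cfsg.Lib.Chars.conjIrr χ : G → ℂ) =
      Cfsg.Lib.Chars.deg (χ : G → ℂ) := fun χ => by
    apply Nat.cast_injective (R := ℂ)
    rw [← Cfsg.Lib.Chars.irr_apply_one_eq_deg, ← Cfsg.Lib.Chars.irr_apply_one_eq_deg]
    show (starRingEnd ℂ) ((χ : G → ℂ) 1) = _
    rw [Cfsg.Lib.Chars.irr_apply_one_eq_deg, Complex.conj_natCast]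
  have key : ∀ k : ℕ, Odd k → ((((k ^ 2 : ℕ) : ZMod 16) - ((1 : ℕ) : ZMod 16)) +
      (((k ^ 2 : ℕ) : ZMod 16) - ((1 : ℕ) : ZMod 16))) = 0 := by
    rintro k ⟨j, rfl⟩
    obtain ⟨t, ht⟩ := Nat.two_dvd_mul_add_one j
    have h16 : (16 : ZMod 16) = 0 := by decide
    have ht' : ((j : ZMod 16) * ((j : ZMod 16) + 1)) = 2 * (t : ZMod 16) := by exact_mod_cast congrArg (Nat.cast (R := ZMod 16)) ht
    push_cast
    linear_combination (8 : ZMod 16) * ht' + (t : ZMod 16) * h16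
  refine Finset.sum_involution (fun χ _ => Cfsg.Lib.Chars.conjIrr χ) ?_ ?_ (fun χ _ => Finset.mem_univ _) ?_
  · intro χ _
    rw [hconj]
    refine key _ (hodd.of_dvd_nat (Cfsg.Lib.Chars.IsIrrCharacter.deg_dvd χ.2))
  · intro χ _ hne heq
    apply hne
    rw [Cfsg.Lib.Chars.eq_principal_of_real hodd χ ((Cfsg.Lib.Chars.conjIrr_eq_self_iff χ).mp heq)]
    have : Cfsg.Lib.Chars.deg ((Cfsg.Lib.Chars.principal G : Cfsg.IrrCharacter G) : G → ℂ) = 1 := by
      apply Nat.cast_injective (R := ℂ)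
      rw [← Cfsg.Lib.Chars.irr_apply_one_eq_deg, Nat.cast_one]
      rfl
    rw [this]; simp
  · intro χ _
    apply Subtype.ext
    funext g
    exact Complex.conj_conj _

end Cfsg.Agent.S0162
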