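import Cfsg.Statements.S0166
import Cfsg.Agent.S0163
import Cfsg.Agent.Chars.Construct
import Cfsg.Agent.Chars.Induced
import Cfsg.Agent.Chars.Equivalence

set_option autoImplicit false
open Cfsg

namespace Cfsg.Agent.S0166

open Module Cfsg.Lib.Chars

universe u

variable {G : Type u} [Group G]

section General

variable {k : Type} [Field k] [CharZero k] [Finite G]
  {V : Type*} [AddCommGroup V] [Module k V]

/-- A model on a coordinate space. -/
theorem exists_model [FiniteDimensional k V] (ρ : Representation k G V) :
    ∃ σ : Representation k G (Fin (finrank k V) → k), σ.character = ρ.character := by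
  let e := (Module.finBasis k V).equivFun
  let σ : Representation k G (Fin (finrank k V) → k) :=
    { toFun := fun g => e.conj (ρ g)
      map_one' := by ext; simp
      map_mul' := fun g h => by ext; simp }
  exact ⟨σ, (Representation.char_iso
    (Representation.Equiv.mk e fun g => by ext; simp [σ] : ρ.Equiv σ)).symm⟩

/-- Maschke. -/
theorem exists_compl (ρ : Representation k G V) (S : Subrepresentation ρ) :
    ∃ T : Subrepresentation ρ, IsCompl S.toSubmodule T.toSubmodule := by
  have : NeZero (Nat.card G : k) := ⟨by exact_mod_cast Nat.card_pos.ne'⟩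
  obtain ⟨T, hT⟩ := exists_isCompl S
  refine ⟨T, disjoint_iff.2 ?_, codisjoint_iff.2 ?_⟩
  · have h := congrArg Subrepresentation.toSubmodule hT.inf_eq_bot
    rw [Subrepresentation.toSubmodule_inf] at h
    exact h
  · have h := congrArg Subrepresentation.toSubmodule hT.sup_eq_top
    rw [Subrepresentation.toSubmodule_sup] at h
    exact h

omit [CharZero k] [Finite G] in
/-- The character of a representation split by complementary subrepresentations. -/
theorem character_split [FiniteDimensional k V] (ρ : Representation k G V) (S T : Subrepresentation ρ)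
    (h : IsCompl S.toSubmodule T.toSubmodule) :
    ρ.character = S.toRepresentation.character + T.toRepresentation.character := by
  have e : (S.toRepresentation.prod T.toRepresentation).Equiv ρ :=
    Representation.Equiv.mk (Submodule.prodEquivOfIsCompl _ _ h) fun g => by
      apply LinearMap.ext
      rintro ⟨x, y⟩
      simp only [LinearMap.comp_apply, LinearEquiv.coe_coe, Representation.prod_apply_apply,
        Submodule.coe_prodEquivOfIsCompl', map_add]
      rfl
  rw [← Representation.char_iso e]
  funext g
  exact LinearMap.trace_prodMap' _ _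

end General

section Extension

variable {K : IntermediateField ℚ ℂ}

/-- The complex representation given by the same matrices. -/
noncomputable def extend {n : ℕ} (ρ : Representation K G (Fin n → K)) :
    Representation ℂ G (Fin n → ℂ) where
  toFun g := Matrix.toLin' ((LinearMap.toMatrix' (ρ g)).map (algebraMap K ℂ))
  map_one' := by
    rw [map_one, LinearMap.toMatrix'_one, Matrix.map_one _ (map_zero _) (map_one _), Matrix.toLin'_one]
    rfl
  map_mul' g h := by
    rw [map_mul, LinearMap.toMatrix'_mul, Matrix.map_mul, Matrix.toLin'_mul]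
    rfl

theorem toMatrix_extend {n : ℕ} (ρ : Representation K G (Fin n → K)) (g : G) :
    LinearMap.toMatrix' (extend ρ g) = (LinearMap.toMatrix' (ρ g)).map (algebraMap K ℂ) :=
  LinearMap.toMatrix'_toLin' _

theorem character_extend {n : ℕ} (ρ : Representation K G (Fin n → K)) (g : G) :
    (extend ρ).character g = algebraMap K ℂ (ρ.character g) := by
  change LinearMap.trace ℂ _ (extend ρ g) = algebraMap K ℂ (LinearMap.trace K _ (ρ g))
  rw [LinearMap.trace_eq_matrix_trace ℂ (Pi.basisFun ℂ (Fin n)),
    LinearMap.trace_eq_matrix_trace K (Pi.basisFun K (Fin n)), LinearMap.toMatrix_eq_toMatrix',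
    LinearMap.toMatrix_eq_toMatrix', toMatrix_extend]
  simp [Matrix.trace, map_sum]

variable (K) in
/-- A difference of two characters realised over `K`. -/
def IsDiff (f : G → ℂ) : Prop :=
  ∃ (a b : ℕ) (ρ : Representation K G (Fin a → K)) (σ : Representation K G (Fin b → K)),
    ∀ g, f g = algebraMap K ℂ (ρ.character g) - algebraMap K ℂ (σ.character g)

variable [Finite G]

theorem isDiff_of_rep {V : Type*} [AddCommGroup V] [Module K V] [FiniteDimensional K V]
    (ρ : Representation K G V) : IsDiff K (fun g => algebraMap K ℂ (ρ.character g)) := by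
  obtain ⟨σ, hσ⟩ := exists_model ρ
  refine ⟨_, 0, σ, 1, fun g => ?_⟩
  rw [hσ]
  simp [Representation.character, LinearMap.trace_one]

theorem isDiff_zero : IsDiff K (0 : G → ℂ) :=
  ⟨0, 0, 1, 1, fun g => by simp [Representation.character, LinearMap.trace_one]⟩

theorem isDiff_neg {f : G → ℂ} (hf : IsDiff K f) : IsDiff K (-f) := by
  obtain ⟨a, b, ρ, σ, h⟩ := hf
  exact ⟨b, a, σ, ρ, fun g => by rw [Pi.neg_apply, h, neg_sub]⟩

theorem isDiff_add {f f' : G → ℂ} (hf : IsDiff K f) (hf' : IsDiff K f') : IsDiff K (f + f') := by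
  obtain ⟨a, b, ρ, σ, h⟩ := hf
  obtain ⟨a', b', ρ', σ', h'⟩ := hf'
  obtain ⟨ρ2, hρ2⟩ := exists_model (ρ.prod ρ')
  obtain ⟨σ2, hσ2⟩ := exists_model (σ.prod σ')
  refine ⟨_, _, ρ2, σ2, fun g => ?_⟩
  rw [Pi.add_apply, h, h', hρ2, hσ2,
    show (ρ.prod ρ').character g = ρ.character g + ρ'.character g from LinearMap.trace_prodMap' _ _,
    show (σ.prod σ').character g = σ.character g + σ'.character g from LinearMap.trace_prodMap' _ _]
  rw [map_add, map_add]
  ring

theorem isDiff_zsmul {f : G → ℂ} (hf : IsDiff K f) (z : ℤ) : IsDiff K ((z : ℂ) • f) := by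
  have hnat : ∀ m : ℕ, IsDiff K ((m : ℂ) • f) := fun m => by
    induction m with
    | zero => simpa using isDiff_zero
    | succ m ih =>
      rw [Nat.cast_succ, add_smul, one_smul]
      exact isDiff_add ih hf
  rcases Int.eq_nat_or_neg z with ⟨m, rfl | rfl⟩
  · simpa using hnat m
  · simpa using isDiff_neg (hnat m)

omit [Finite G] in
/-- An induced linear character is realised over `K`. -/
theorem isDiff_indFun [Fintype G] (E : Subgroup G) (lam : E →* ℂˣ) (hlam : ∀ e, (lam e : ℂ) ∈ K) :
    IsDiff K (Cfsg.indFun E (fun e => (lam e : ℂ))) := by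
  classical
  let mk : G → G ⧸ E := QuotientGroup.mk
  have hmem : ∀ (g : G) (q : G ⧸ E), (g • q).out⁻¹ * g * q.out ∈ E := fun g q => by
    rw [mul_assoc, ← QuotientGroup.eq, QuotientGroup.out_eq']
    conv_lhs => rw [← QuotientGroup.out_eq' q]
    rfl
  let c : G → G ⧸ E → K := fun g q => ⟨(lam ⟨_, hmem g q⟩ : ℂ), hlam _⟩
  have hc : ∀ g h q, c (g * h) q = c g (h • q) * c h q := fun g h q => by
    apply Subtype.ext
    change (lam ⟨_, _⟩ : ℂ) = (lam ⟨_, _⟩ : ℂ) * (lam ⟨_, _⟩ : ℂ)
    rw [← Units.val_mul, ← map_mul]
    refine congrArg (fun x => (lam x : ℂ)) (Subtype.ext ?_)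
    simp only [Subgroup.coe_mul, mul_smul]
    group
  let M : G → Matrix (G ⧸ E) (G ⧸ E) K := fun g => Matrix.of fun i j => if i = g • j then c g j else 0
  have hone : M 1 = 1 := by
    ext i j
    by_cases hij : i = j
    · subst hij
      have : c 1 i = 1 := by
        apply Subtype.ext
        have h1 : (⟨_, hmem 1 i⟩ : E) = 1 := Subtype.ext (by simp)
        change (lam ⟨_, hmem 1 i⟩ : ℂ) = 1
        rw [h1, map_one, Units.val_one]
      simp [M, this]
    · simp [M, hij]
  have hmul : ∀ g h, M (g * h) = M g * M h := fun g h => by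
    ext i j
    rw [Matrix.mul_apply, Finset.sum_eq_single (h • j)]
    · by_cases hi : i = g • h • j
      · simp [M, hi, hc, mul_smul]
      · simp [M, hi, mul_smul]
    · intro b _ hb
      simp [M, hb]
    · simp
  let ρ : Representation K G (G ⧸ E → K) :=
    { toFun := fun g => Matrix.toLin' (M g)
      map_one' := by rw [hone, Matrix.toLin'_one]; rfl
      map_mul' := fun g h => by rw [hmul, Matrix.toLin'_mul]; rfl }
  convert isDiff_of_rep ρ using 2 with g
  have htr : ρ.character g = ∑ q : G ⧸ E, M g q q := by
    change LinearMap.trace K _ (Matrix.toLin' (M g)) = _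
    rw [Matrix.trace_toLin'_eq]
    rfl
  have hconst : ∀ x : G, Cfsg.extendByZero E (fun e => (lam e : ℂ)) (x⁻¹ * g * x) =
      algebraMap K ℂ (M g (mk x) (mk x)) := by
    intro x
    obtain ⟨⟨e, he⟩, hxe⟩ : ∃ e : E, x = (mk x).out * e :=
      ⟨⟨(mk x).out⁻¹ * x, QuotientGroup.eq.1 (QuotientGroup.out_eq' (mk x))⟩, by simp⟩
    by_cases hq : mk x = g • mk x
    · have hm := hmem g (mk x)
      rw [← hq] at hm
      have hmem' : x⁻¹ * g * x ∈ E := by
        rw [hxe]
        have := E.mul_mem (E.mul_mem (E.inv_mem he) hm) he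
        convert this using 1
        simp [mul_assoc]
      rw [extendByZero_mem _ hmem']
      simp only [M, Matrix.of_apply, if_pos hq]
      change (lam ⟨_, hmem'⟩ : ℂ) = (lam ⟨_, hmem g (mk x)⟩ : ℂ)
      have h1 : (⟨x⁻¹ * g * x, hmem'⟩ : E) =
          (⟨e, he⟩ : E)⁻¹ * ⟨_, hmem g (mk x)⟩ * ⟨e, he⟩ := Subtype.ext (by
        simp only [Subgroup.coe_mul, Subgroup.coe_inv, ← hq]
        conv_lhs => rw [hxe]
        simp [mul_assoc])
      rw [h1, map_mul, map_mul, map_inv]
      simp [mul_comm, mul_left_comm]
    · rw [extendByZero_not_mem _ fun h => hq ?_]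
      · simp [M, hq]
      · change mk x = g • ((x : G) : G ⧸ E)
        rw [MulAction.Quotient.smul_coe]
        exact QuotientGroup.eq.2 (by simpa [mul_assoc] using h)
  rw [indFun_apply, Finset.sum_congr rfl fun x _ => hconst x, htr, map_sum,
    ← Finset.sum_fiberwise Finset.univ mk]
  have hfib : ∀ q : G ⧸ E, (Finset.univ.filter fun x => mk x = q).card = Nat.card E := fun q => by
    rw [← Fintype.card_subtype, ← Nat.card_eq_fintype_card]
    refine Nat.card_congr
      { toFun := fun x => ⟨q.out⁻¹ * x.1, QuotientGroup.eq.1 (by rw [QuotientGroup.out_eq']; exact x.2.symm)⟩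
        invFun := fun e => ⟨q.out * e, by
          change ((q.out * e : G) : G ⧸ E) = q
          conv_rhs => rw [← QuotientGroup.out_eq' q]
          exact QuotientGroup.eq.2 (by simp)⟩
        left_inv := fun x => by simp
        right_inv := fun e => by simp }
  rw [Finset.mul_sum]
  refine Finset.sum_congr rfl fun q _ => ?_
  rw [Finset.sum_congr rfl (g := fun _ => algebraMap K ℂ (M g q q)) fun x hx => by
    rw [(Finset.mem_filter.1 hx).2], Finset.sum_const, hfib, nsmul_eq_mul, ← mul_assoc,
    inv_mul_cancel₀ (by exact_mod_cast Nat.card_pos.ne'), one_mul]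

set_option maxHeartbeats 1000000 in
/-- A character which is a difference of characters realised over `K` is realised over `K`. -/
theorem realised_of_isDiff [Fintype G] {n : ℕ} (ρ : Representation ℂ G (Fin n → ℂ))
    (h : IsDiff K ρ.character) :
    ∃ σ : Representation K G (Fin n → K), (extend σ).character = ρ.character := by
  classical
  have hex : ∃ m a b, a + b = m ∧ ∃ (ρ₁ : Representation K G (Fin a → K))
      (ρ₂ : Representation K G (Fin b → K)),
      ∀ g, ρ.character g = algebraMap K ℂ (ρ₁.character g) - algebraMap K ℂ (ρ₂.character g) := by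
    obtain ⟨a, b, ρ₁, ρ₂, hd⟩ := h
    exact ⟨_, a, b, rfl, ρ₁, ρ₂, hd⟩
  obtain ⟨a, b, hab, ρ₁, ρ₂, hd⟩ := Nat.find_spec hex
  -- no nonzero intertwining map
  have hzero : finrank K (ρ₁.linHom ρ₂).invariants = 0 := by
    rw [Submodule.finrank_eq_zero, Submodule.eq_bot_iff]
    intro f hf
    by_contra hne
    have hcomm : ∀ g v, f (ρ₁ g v) = ρ₂ g (f v) := fun g v => by
      have h1 := LinearMap.congr_fun (hf g) (ρ₁ g v)
      simp only [Representation.linHom_apply, LinearMap.comp_apply] at h1
      rw [← Module.End.mul_apply, ← map_mul, inv_mul_cancel, map_one, Module.End.one_apply] at h1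
      exact h1.symm
    let S : Subrepresentation ρ₁ :=
      { toSubmodule := LinearMap.ker f
        apply_mem_toSubmodule := fun g v hv => by
          rw [LinearMap.mem_ker] at hv ⊢
          rw [hcomm, hv, map_zero] }
    let R : Subrepresentation ρ₂ :=
      { toSubmodule := LinearMap.range f
        apply_mem_toSubmodule := fun g v hv => by
          obtain ⟨w, rfl⟩ := hv
          exact ⟨ρ₁ g w, hcomm g w⟩ }
    obtain ⟨T₁, hT₁⟩ := exists_compl ρ₁ S
    obtain ⟨T₂, hT₂⟩ := exists_compl ρ₂ R
    have hbij : Function.Bijective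
        ((f.comp T₁.toSubmodule.subtype).codRestrict R.toSubmodule fun v => ⟨_, rfl⟩) := by
      constructor
      · rw [← LinearMap.ker_eq_bot, Submodule.eq_bot_iff]
        intro v hv
        have h1 : (v : Fin a → K) ∈ S.toSubmodule := congrArg Subtype.val (LinearMap.mem_ker.1 hv)
        exact Subtype.ext ((Submodule.disjoint_def.1 hT₁.disjoint) v h1 v.2)
      · rintro ⟨_, w, rfl⟩
        have hw : w ∈ S.toSubmodule ⊔ T₁.toSubmodule := by
          rw [hT₁.sup_eq_top]
          trivial
        obtain ⟨s, hs, t, ht, rfl⟩ := Submodule.mem_sup.1 hw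
        refine ⟨⟨t, ht⟩, Subtype.ext ?_⟩
        change f t = f (s + t)
        rw [map_add, show f s = 0 from hs, zero_add]
    let e := LinearEquiv.ofBijective _ hbij
    have hiso : T₁.toRepresentation.character = R.toRepresentation.character :=
      Representation.char_iso (Representation.Equiv.mk e fun g => by
        apply LinearMap.ext
        intro v
        exact Subtype.ext (hcomm g v))
    obtain ⟨σ₁, hσ₁⟩ := exists_model S.toRepresentation
    obtain ⟨σ₂, hσ₂⟩ := exists_model T₂.toRepresentation
    have hlt : finrank K S.toSubmodule + finrank K T₂.toSubmodule < Nat.find hex := by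
      have h1 : finrank K S.toSubmodule < a := by
        have h := Submodule.finrank_lt (s := S.toSubmodule) fun e => hne (LinearMap.ker_eq_top.1 e)
        rwa [Module.finrank_fin_fun] at h
      have h2 : finrank K T₂.toSubmodule ≤ b :=
        (Submodule.finrank_le _).trans (le_of_eq (Module.finrank_fin_fun K))
      omega
    refine Nat.find_min hex hlt ⟨_, _, rfl, σ₁, σ₂, fun g => ?_⟩
    rw [hd, character_split ρ₁ S T₁ hT₁, character_split ρ₂ R T₂ hT₂, hσ₁, hσ₂, Pi.add_apply,
      Pi.add_apply, hiso, map_add, map_add]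
    ring
  -- orthogonality
  have hinv : Invertible (Nat.card G : K) := invertibleOfNonzero (by exact_mod_cast Nat.card_pos.ne')
  have hsum : ∑ g, (extend ρ₂).character g * (extend ρ₁).character g⁻¹ = 0 := by
    have h1 := Representation.card_inv_mul_sum_char_eq_finrank (ρ₁.linHom ρ₂)
    rw [hzero, Nat.cast_zero, mul_eq_zero] at h1
    have h2 : ∑ g, (ρ₁.linHom ρ₂).character g = 0 :=
      h1.resolve_left (inv_ne_zero (by exact_mod_cast Nat.card_pos.ne'))
    simp only [character_extend, ← map_mul, ← map_sum]
    rw [← map_zero (algebraMap K ℂ)]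
    refine congrArg _ ((Finset.sum_congr rfl fun g _ => ?_).trans h2)
    rw [Representation.char_linHom, mul_comm]
  have hinvC : Invertible (Nat.card G : ℂ) := invertibleOfNonzero (by exact_mod_cast Nat.card_pos.ne')
  have hadd : ∀ g, (extend ρ₁).character g = ρ.character g + (extend ρ₂).character g := fun g => by
    rw [character_extend, character_extend, hd]
    ring
  have h12 : ((finrank ℂ (ρ.linHom (extend ρ₂)).invariants : ℂ) +
      (finrank ℂ ((extend ρ₂).linHom (extend ρ₂)).invariants : ℂ)) = 0 := by
    rw [← Representation.card_inv_mul_sum_char_eq_finrank,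
      ← Representation.card_inv_mul_sum_char_eq_finrank, ← mul_add, ← Finset.sum_add_distrib]
    refine mul_eq_zero_of_right _ ((Finset.sum_congr rfl fun g _ => ?_).trans hsum)
    rw [Representation.char_linHom, Representation.char_linHom, hadd]
    ring
  have hb : b = 0 := by
    by_contra hb
    have h3 : finrank ℂ ((extend ρ₂).linHom (extend ρ₂)).invariants = 0 := by
      have : finrank ℂ (ρ.linHom (extend ρ₂)).invariants +
          finrank ℂ ((extend ρ₂).linHom (extend ρ₂)).invariants = 0 := by exact_mod_cast h12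
      omega
    rw [Submodule.finrank_eq_zero, Submodule.eq_bot_iff] at h3
    have h4 := h3 LinearMap.id fun g => by
      rw [Representation.linHom_apply, LinearMap.id_comp, ← Module.End.mul_eq_comp, ← map_mul,
        mul_inv_cancel, map_one]
      rfl
    have : Nontrivial (Fin b → ℂ) := by
      have : Nonempty (Fin b) := ⟨⟨0, Nat.pos_of_ne_zero hb⟩⟩
      infer_instance
    obtain ⟨v, hv⟩ := exists_ne (0 : Fin b → ℂ)
    exact hv (LinearMap.congr_fun h4 v)
  subst hb
  have hchar : ∀ g, ρ.character g = algebraMap K ℂ (ρ₁.character g) := fun g => by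
    rw [hd]
    simp [Representation.character, Subsingleton.elim (ρ₂ g) 0]
  have hn : a = n := by
    have h1 := hchar 1
    rw [Representation.char_one, Representation.char_one, Module.finrank_fin_fun, Module.finrank_fin_fun,
      map_natCast] at h1
    exact (Nat.cast_injective h1).symm
  subst hn
  exact ⟨ρ₁, funext fun g => by rw [character_extend, hchar]⟩

end Extension

/-- Brauer's splitting field Theorem: a complex representation of a finite group of exponent m is equivalent to a representation by matrices with entries in ℚ adjoined exp(2πi/m). -/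
theorem result {G : Type*} [Group G] [Finite G] (n : ℕ) (ρ : Representation ℂ G (Fin n → ℂ)) : ∃ σ : Representation ℂ G (Fin n → ℂ), Nonempty (ρ.Equiv σ) ∧ ∀ g : G, ∀ i j : Fin n, LinearMap.toMatrix' (σ g) i j ∈ Algebra.adjoin ℚ ({Complex.exp (2 * Real.pi * Complex.I / (Monoid.exponent G : ℂ))} : Set ℂ) := by
  have := Fintype.ofFinite G
  classical
  let ζ : ℂ := Complex.exp (2 * Real.pi * Complex.I / (Monoid.exponent G : ℂ))
  let K : IntermediateField ℚ ℂ := IntermediateField.adjoin ℚ {ζ}
  have hN : Monoid.exponent G ≠ 0 := Monoid.exponent_ne_zero_of_finite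
  have hζ : IsPrimitiveRoot ζ (Monoid.exponent G) := Complex.isPrimitiveRoot_exp _ hN
  have hroot : ∀ (E : Subgroup G) (lam : E →* ℂˣ) (e : E), (lam e : ℂ) ∈ K := by
    intro E lam e
    have : NeZero (Monoid.exponent G) := ⟨hN⟩
    obtain ⟨i, -, hi⟩ := hζ.eq_pow_of_pow_eq_one (ξ := (lam e : ℂ)) (by
      rw [← Units.val_pow_eq_pow_val, ← map_pow, show e ^ Monoid.exponent G = 1 from
        Subtype.ext (by simp [Monoid.pow_exponent_eq_one]), map_one, Units.val_one])
    rw [← hi]
    exact pow_mem (IntermediateField.mem_adjoin_simple_self ℚ ζ) i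
  obtain ⟨l, -, hl⟩ := Cfsg.Agent.S0163.result ρ.character ⟨n, ρ, rfl⟩
  have hdiff : IsDiff K ρ.character := by
    rw [hl]
    clear hl
    induction l with
    | nil => exact isDiff_zero
    | cons t l ih =>
      rw [List.map_cons, List.sum_cons]
      exact isDiff_add (isDiff_zsmul (isDiff_indFun t.1 t.2.1 (hroot _ _)) _) ih
  obtain ⟨σ, hσ⟩ := realised_of_isDiff ρ hdiff
  refine ⟨extend σ, nonempty_equiv_of_character_eq _ _ _ _ hσ.symm, fun g i j => ?_⟩
  rw [toMatrix_extend]
  have hint : IsIntegral ℚ ζ := (hζ.isIntegral (Nat.pos_of_ne_zero hN)).tower_top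
  rw [← IntermediateField.adjoin_simple_toSubalgebra_of_isAlgebraic hint.isAlgebraic]
  exact (LinearMap.toMatrix' (σ g) i j).2
end Cfsg.Agent.S0166
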