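import Cfsg.Statements.S0168
import Cfsg.Agent.Chars.Core

set_option autoImplicit false
open Cfsg

namespace Cfsg.Agent.S0168

/-- The Burnside–Brauer Theorem. Let χ be the character of a faithful complex representation of a finite group, taking m distinct values. Then every irreducible character has nonzero inner product with χ ^ i for some i < m. -/
theorem result {G : Type*} [Group G] [Fintype G] {V : Type*} [AddCommGroup V] [Module ℂ V] [FiniteDimensional ℂ V] (ρ : Representation ℂ G V) (hfaithful : Function.Injective ρ) (ψ : G → ℂ) (hψ : Cfsg.IsIrrCharacter G ψ) : ∃ i : ℕ, i < Nat.card (Set.range ρ.character) ∧ Cfsg.classInner (fun g => ρ.character g ^ i) ψ ≠ 0 := by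
  classical
  by_contra hno
  push Not at hno
  set S : Finset ℂ := (Finset.univ.image ρ.character).erase (ρ.character 1)
  have hcard : S.card < Nat.card (Set.range ρ.character) := by
    rw [show Nat.card (Set.range ρ.character) = (Finset.univ.image ρ.character).card from by
      rw [Nat.card_eq_fintype_card, ← Set.toFinset_card, Set.toFinset_range]]
    exact Finset.card_erase_lt_of_mem (Finset.mem_image.mpr ⟨1, Finset.mem_univ _, rfl⟩)
  set P : Polynomial ℂ := ∏ a ∈ S, (Polynomial.X - Polynomial.C a)
  have hdeg : P.natDegree < Nat.card (Set.range ρ.character) := by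
    rw [Polynomial.natDegree_finset_prod_X_sub_C_eq_card]; exact hcard
  have h0 : ∑ g, P.eval (ρ.character g) * (starRingEnd ℂ) (ψ g) = 0 := by
    simp only [Polynomial.eval_eq_sum_range, Finset.sum_mul]
    rw [Finset.sum_comm]
    refine Finset.sum_eq_zero fun i hi => ?_
    have hi' : i < Nat.card (Set.range ρ.character) :=
      lt_of_le_of_lt (Nat.lt_succ_iff.mp (Finset.mem_range.mp hi)) hdeg
    have := hno i hi'
    rw [Cfsg.Lib.Chars.classInner_def, mul_eq_zero] at this
    simp only [mul_assoc, ← Finset.mul_sum]
    rw [this.resolve_left (inv_ne_zero (by exact_mod_cast Nat.card_pos.ne')), mul_zero]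
  rw [Finset.sum_eq_single (1 : G)] at h0
  · rcases mul_eq_zero.mp h0 with h | h
    · rw [Polynomial.eval_prod, Finset.prod_eq_zero_iff] at h
      obtain ⟨a, ha, h⟩ := h
      rw [Polynomial.eval_sub, Polynomial.eval_X, Polynomial.eval_C, sub_eq_zero] at h
      exact (Finset.mem_erase.mp ha).1 h.symm
    · exact Cfsg.Lib.Chars.IsIrrCharacter.apply_one_ne_zero hψ (by simpa using h)
  · intro g _ hg
    rw [Polynomial.eval_prod, Finset.prod_eq_zero (i := ρ.character g), zero_mul]
    · refine Finset.mem_erase.mpr ⟨fun h => hg (hfaithful ?_), Finset.mem_image.mpr ⟨g, Finset.mem_univ _, rfl⟩⟩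
      rw [map_one]
      rw [ρ.char_one] at h
      exact (Cfsg.Lib.Chars.eq_id_of_character_eq_finrank ρ g).mp h
    · simp
  · simp

end Cfsg.Agent.S0168
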