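import Cfsg.Statements.S0170
import Cfsg.Agent.Chars.NormTwo
import Cfsg.Agent.Chars.TI

set_option autoImplicit false
open Cfsg

namespace Cfsg.Agent.S0170

/-- Exceptional characters. Let S be a subset of a finite group contained in its normalizer N and meeting its conjugates by elements outside N only in the identity. Given n ≥ 2 distinct irreducible characters of N of equal degree that vanish on N away from S, there exist a sign ε and n distinct irreducible characters θ_i of G such that inducing χ_i − χ_j to G gives ε (θ_i − θ_j) for all i, j. -/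
theorem result {G : Type*} [Group G] [Fintype G] (S : Set G) (hSN : S ⊆ Subgroup.normalizer S) (hTI : ∀ g : G, g ∉ Subgroup.normalizer S → ∀ s ∈ S, g * s * g⁻¹ ∈ S → s = 1) (n : ℕ) (hn : 2 ≤ n) (χ : Fin n → (Subgroup.normalizer S → ℂ)) (hirr : ∀ i, Cfsg.IsIrrCharacter (Subgroup.normalizer S) (χ i)) (hinj : Function.Injective χ) (hvan : ∀ i, ∀ x : Subgroup.normalizer S, (x : G) ∉ S → χ i x = 0) (hdeg : ∀ i j, χ i 1 = χ j 1) : ∃ ε : ℂ, (ε = 1 ∨ ε = -1) ∧ ∃ θ : Fin n → (G → ℂ), (∀ i, Cfsg.IsIrrCharacter G (θ i)) ∧ Function.Injective θ ∧ ∀ i j, Cfsg.indFun (Subgroup.normalizer S) (χ i) - Cfsg.indFun (Subgroup.normalizer S) (χ j) = ε • (θ i - θ j) := by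
  classical
  have := Fintype.ofFinite (Subgroup.normalizer S)
  let i₀ : Fin n := ⟨0, by omega⟩
  let τ : Fin n → (G → ℂ) := fun i => Cfsg.indFun (Subgroup.normalizer S) (χ i - χ i₀)
  have hc : ∀ i, Cfsg.IsCharacter _ (χ i) := fun i => Cfsg.Lib.Chars.isCharacter_of_irr (hirr i)
  have hcl : ∀ i, Cfsg.IsClassFunction _ (χ i - χ i₀) := fun i g h => by
    simp only [Pi.sub_apply]
    rw [Cfsg.Lib.Chars.isClassFunction_isChar (hc i) g h, Cfsg.Lib.Chars.isClassFunction_isChar (hc i₀) g h]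
  have hv : ∀ i, ∀ x : Subgroup.normalizer S, (x : G) ∉ S → (χ i - χ i₀) x = 0 := fun i x hx => by
    simp [hvan i x hx, hvan i₀ x hx]
  have h1 : ∀ i, (χ i - χ i₀) 1 = 0 := fun i => by simp [hdeg i i₀]
  have hinner : ∀ i j, Cfsg.classInner (χ i) (χ j) = if i = j then 1 else 0 := fun i j => by
    rw [Cfsg.Lib.Chars.classInner_irrChar (hirr i) (hirr j)]
    simp [hinj.eq_iff]
  obtain ⟨ε, hε, μ, hμ, hμinj, hμτ⟩ := Cfsg.Lib.Chars.exists_star i₀ τ
    (by simp only [τ, sub_self]; exact Cfsg.Lib.Chars.indFun_zero _)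
    (fun i => Cfsg.Lib.Chars.IsGeneralizedCharacter.indFun ⟨_, _, hc i, hc i₀, rfl⟩)
    (fun i => by simp only [τ]; rw [Cfsg.Lib.Chars.indFun_one, h1, mul_zero])
    (fun i j hi hj => by
      simp only [τ]
      rw [Cfsg.Lib.Chars.classInner_indFun_TI S hTI (hv i) (h1 i) (hcl j) (hv j),
        Cfsg.Lib.Chars.classInner_sub_left, Cfsg.Lib.Chars.classInner_sub_right,
        Cfsg.Lib.Chars.classInner_sub_right, hinner, hinner, hinner, hinner, if_neg hi,
        if_neg (Ne.symm hj), if_pos rfl]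
      refine ⟨fun h => by rw [if_pos h]; norm_num, fun h => by rw [if_neg h]; norm_num⟩)
  refine ⟨ε, hε, μ, hμ, hμinj, fun i j => ?_⟩
  have hi := hμτ i
  have hj := hμτ j
  simp only [τ, Cfsg.Lib.Chars.indFun_sub] at hi hj
  rw [show Cfsg.indFun (Subgroup.normalizer S) (χ i) - Cfsg.indFun (Subgroup.normalizer S) (χ j) =
    (Cfsg.indFun (Subgroup.normalizer S) (χ i) - Cfsg.indFun (Subgroup.normalizer S) (χ i₀)) -
    (Cfsg.indFun (Subgroup.normalizer S) (χ j) - Cfsg.indFun (Subgroup.normalizer S) (χ i₀)) by abel,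
    hi, hj, ← smul_sub, sub_sub_sub_cancel_right]

end Cfsg.Agent.S0170
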