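import Cfsg.Statements.S0172
import Cfsg.Agent.Chars.Frob

set_option autoImplicit false
open Cfsg

namespace Cfsg.Agent.S0172

/-- Class number of a Frobenius group: if G = K H with K normal, K ⊓ H trivial and no non-identity element of H commuting with a non-identity element of K, then |H| * k(G) + 1 = |H| * k(H) + k(K), where k denotes the number of conjugacy classes. -/
theorem result {G : Type*} [Group G] [Finite G] (K H : Subgroup G) [K.Normal] (hKH : K ⊓ H = ⊥) (hKH' : K ⊔ H = ⊤) (hfpf : ∀ h ∈ H, h ≠ 1 → ∀ k ∈ K, h * k = k * h → k = 1) : Nat.card H * Nat.card (ConjClasses G) + 1 = Nat.card H * Nat.card (ConjClasses H) + Nat.card (ConjClasses K) := by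
  classical
  have := Fintype.ofFinite G
  have := Fintype.ofFinite K
  obtain ⟨hC, key⟩ := Cfsg.Lib.Chars.centralizer_le_of_fpf K H hKH' hfpf
  have hcp : ∀ (X : Type _) [Group X] [Fintype X], Nat.card (ConjClasses X) * Nat.card X =
      ∑ a : X, Nat.card (Subgroup.centralizer ({a} : Set X)) := by
    intro X _ _
    rw [← card_comm_eq_card_conjClasses_mul_card,
      Nat.card_congr (Equiv.subtypeProdEquivSigmaSubtype fun a b : X => Commute a b), Nat.card_sigma]
    refine Finset.sum_congr rfl fun a _ => Nat.card_congr (Equiv.subtypeEquivRight fun b => ?_)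
    rw [Subgroup.mem_centralizer_singleton_iff, commute_iff_eq, eq_comm]
  have := Fintype.ofFinite H
  have hG := hcp G
  have hK := hcp K
  have hH := hcp H
  have hcard : Nat.card G = Nat.card K * Nat.card H := by
    rw [← (Subgroup.isComplement'_of_disjoint_and_mul_eq_univ (disjoint_iff.mpr hKH)
      (by rw [← Subgroup.normal_mul K H, hKH', Subgroup.coe_top])).card_mul]
  -- centralisers inside the kernel
  have h1 : ∀ a : K, a ≠ 1 → Nat.card (Subgroup.centralizer ({(a : G)} : Set G)) =
      Nat.card (Subgroup.centralizer ({a} : Set K)) := by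
    intro a ha
    refine Nat.card_congr
      { toFun := fun g => ⟨⟨g, hC a a.2 (fun h => ha (Subtype.ext h)) g.2⟩, ?_⟩
        invFun := fun g => ⟨((g : K) : G), ?_⟩
        left_inv := fun g => rfl
        right_inv := fun g => rfl }
    · rw [Subgroup.mem_centralizer_singleton_iff]
      exact Subtype.ext (Subgroup.mem_centralizer_singleton_iff.mp g.2)
    · rw [Subgroup.mem_centralizer_singleton_iff]
      exact congrArg Subtype.val (Subgroup.mem_centralizer_singleton_iff.mp g.2)
  -- centralisers outside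
  have h2 : ∀ (c : G) (h : H), c ∈ K → h ≠ 1 → Nat.card (Subgroup.centralizer ({c * h * c⁻¹} : Set G)) =
      Nat.card (Subgroup.centralizer ({h} : Set H)) := by
    intro c h hc hh
    have hh' : (h : G) ≠ 1 := fun e => hh (Subtype.ext e)
    have hin : ∀ g : G, g * h = h * g → g ∈ H := by
      intro g hg
      obtain ⟨k, hk, m, hm, rfl⟩ := Subgroup.mem_sup_of_normal_left.mp (hKH' ▸ Subgroup.mem_top g)
      have hmh : (h : G) * m * (h : G)⁻¹ * m⁻¹ ∈ K := by
        have e0 : k = (h : G) * k * m * (h : G)⁻¹ * m⁻¹ := by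
          calc k = k * m * h * (h : G)⁻¹ * m⁻¹ := by group
            _ = (h : G) * (k * m) * (h : G)⁻¹ * m⁻¹ := by rw [← hg]
            _ = _ := by group
        have e : (h : G) * m * (h : G)⁻¹ * m⁻¹ = ((h : G) * k⁻¹ * (h : G)⁻¹) * k := by
          conv_rhs => enter [2]; rw [e0]
          group
        rw [e]
        exact K.mul_mem (Subgroup.Normal.conj_mem inferInstance _ (K.inv_mem hk) _) hk
      have hmh' : (h : G) * m * (h : G)⁻¹ * m⁻¹ = 1 := by
        have : (h : G) * m * (h : G)⁻¹ * m⁻¹ ∈ K ⊓ H := ⟨hmh,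
          H.mul_mem (H.mul_mem (H.mul_mem h.2 hm) (H.inv_mem h.2)) (H.inv_mem hm)⟩
        rwa [hKH, Subgroup.mem_bot] at this
      have hcm : (h : G) * m = m * h := by
        calc (h : G) * m = ((h : G) * m * (h : G)⁻¹ * m⁻¹) * (m * h) := by group
          _ = m * h := by rw [hmh', one_mul]
      have hk1 : k = 1 := hfpf h h.2 hh' k hk (by
        calc (h : G) * k = (h : G) * (k * m) * m⁻¹ := by group
          _ = k * m * h * m⁻¹ := by rw [← hg]
          _ = k * (h * m) * m⁻¹ := by rw [hcm]; group
          _ = k * h := by group)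
      rw [hk1, one_mul]; exact hm
    refine Nat.card_congr
      { toFun := fun g => ⟨⟨c⁻¹ * g * c, hin _ ?_⟩, ?_⟩
        invFun := fun m => ⟨c * ((m : H) : G) * c⁻¹, ?_⟩
        left_inv := fun g => by
          apply Subtype.ext
          show c * (c⁻¹ * (g : G) * c) * c⁻¹ = g
          group
        right_inv := fun m => by
          apply Subtype.ext; apply Subtype.ext
          show c⁻¹ * (c * ((m : H) : G) * c⁻¹) * c = m
          group }
    · have hg := Subgroup.mem_centralizer_singleton_iff.mp g.2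
      calc c⁻¹ * g * c * h = c⁻¹ * (g * (c * h * c⁻¹)) * c := by group
        _ = h * (c⁻¹ * g * c) := by rw [hg]; group
    · rw [Subgroup.mem_centralizer_singleton_iff]
      apply Subtype.ext
      have hg := Subgroup.mem_centralizer_singleton_iff.mp g.2
      show c⁻¹ * g * c * h = h * (c⁻¹ * g * c)
      calc c⁻¹ * g * c * h = c⁻¹ * (g * (c * h * c⁻¹)) * c := by group
        _ = h * (c⁻¹ * g * c) := by rw [hg]; group
    · rw [Subgroup.mem_centralizer_singleton_iff]
      have hm : ((m : H) : G) * h = h * ((m : H) : G) :=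
        congrArg Subtype.val (Subgroup.mem_centralizer_singleton_iff.mp m.2)
      calc c * ((m : H) : G) * c⁻¹ * (c * h * c⁻¹) = c * (((m : H) : G) * h) * c⁻¹ := by group
        _ = c * h * c⁻¹ * (c * ((m : H) : G) * c⁻¹) := by rw [hm]; group
  -- the outside is parametrised by `K × (H \ 1)`
  let f : G → ℕ := fun a => Nat.card (Subgroup.centralizer ({a} : Set G))
  have hout : ∑ a ∈ Finset.univ.filter (fun a => a ∉ K), f a =
      ∑ p ∈ (Finset.univ ×ˢ Finset.univ.filter (fun h : H => h ≠ 1) : Finset (K × H)),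
        Nat.card (Subgroup.centralizer ({p.2} : Set H)) := by
    symm
    refine Finset.sum_bij (fun p _ => (p.1 : G) * p.2 * (p.1 : G)⁻¹) ?_ ?_ ?_ ?_
    · rintro ⟨c, h⟩ hp
      simp only [Finset.mem_product, Finset.mem_filter, Finset.mem_univ, true_and] at hp ⊢
      intro hm
      apply hp
      apply Subtype.ext
      have : (h : G) ∈ K ⊓ H := ⟨by
        have := Subgroup.Normal.conj_mem (inferInstance : K.Normal) _ hm (c : G)⁻¹
        rwa [show (c : G)⁻¹ * ((c : G) * h * (c : G)⁻¹) * ((c : G)⁻¹)⁻¹ = h by group] at this, h.2⟩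
      rwa [hKH, Subgroup.mem_bot] at this
    · rintro ⟨c, h⟩ hp ⟨c', h'⟩ hp' heq
      simp only [Finset.mem_product, Finset.mem_filter, Finset.mem_univ, true_and] at hp hp'
      have heq' : (c : G) * h * (c : G)⁻¹ = c' * h' * (c' : G)⁻¹ := heq
      set y : G := (c' : G)⁻¹ * c with hy
      have hyK : y ∈ K := K.mul_mem (K.inv_mem c'.2) c.2
      have h3 : y * h * y⁻¹ = h' := by
        calc y * h * y⁻¹ = (c' : G)⁻¹ * ((c : G) * h * (c : G)⁻¹) * c' := by rw [hy]; group
          _ = h' := by rw [heq']; group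
      have h4 : (h' : G) * (h : G)⁻¹ = 1 := by
        have : (h' : G) * (h : G)⁻¹ ∈ K ⊓ H := ⟨by
          rw [← h3, show y * h * y⁻¹ * (h : G)⁻¹ = y * (h * y⁻¹ * (h : G)⁻¹) by group]
          exact K.mul_mem hyK (Subgroup.Normal.conj_mem inferInstance _ (K.inv_mem hyK) _),
          H.mul_mem h'.2 (H.inv_mem h.2)⟩
        rwa [hKH, Subgroup.mem_bot] at this
      have h5 : h' = h := Subtype.ext (mul_inv_eq_one.mp h4)
      subst h5
      have h6 : y = 1 := hfpf h' h'.2 (fun e => hp' (Subtype.ext e)) y hyK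
        (mul_inv_eq_iff_eq_mul.mp h3).symm
      rw [hy, inv_mul_eq_one] at h6
      rw [Subtype.ext h6.symm]
    · intro g hg
      simp only [Finset.mem_filter, Finset.mem_univ, true_and] at hg
      obtain ⟨c, hc, h, hh, hh1, rfl⟩ := key g hg
      exact ⟨(⟨c, hc⟩, ⟨h, hh⟩), Finset.mem_product.mpr ⟨Finset.mem_univ _, Finset.mem_filter.mpr
        ⟨Finset.mem_univ _, fun e => hh1 (congrArg Subtype.val e)⟩⟩, rfl⟩
    · rintro ⟨c, h⟩ hp
      simp only [Finset.mem_product, Finset.mem_filter, Finset.mem_univ, true_and] at hp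
      exact (h2 c h c.2 hp).symm
  have hin' : ∑ a ∈ Finset.univ.filter (fun a => a ∈ K), f a = ∑ a : K, f a :=
    (Finset.sum_subtype _ (by simp) f)
  have hsplit := Finset.sum_filter_add_sum_filter_not Finset.univ (fun a => a ∈ K) f
  have hKsum : ∑ a : K, f a + Nat.card K = Nat.card G + Nat.card (ConjClasses K) * Nat.card K := by
    rw [hK, ← Finset.add_sum_erase _ _ (Finset.mem_univ (1 : K)),
      ← Finset.add_sum_erase _ (fun a : K => Nat.card (Subgroup.centralizer ({a} : Set K))) (Finset.mem_univ (1 : K)),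
      Finset.sum_congr rfl fun a ha => h1 a (Finset.mem_erase.mp ha).1]
    have e1 : f ((1 : K) : G) = Nat.card G := by
      refine Nat.card_congr (Equiv.subtypeUnivEquiv fun g => ?_)
      rw [Subgroup.mem_centralizer_singleton_iff]; simp
    have e2 : Nat.card (Subgroup.centralizer ({(1 : K)} : Set K)) = Nat.card K := by
      refine Nat.card_congr (Equiv.subtypeUnivEquiv fun g => ?_)
      rw [Subgroup.mem_centralizer_singleton_iff]; simp
    rw [e1, e2]; ring
  have hHsum : (∑ h ∈ Finset.univ.filter (fun h : H => h ≠ 1), Nat.card (Subgroup.centralizer ({h} : Set H))) +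
      Nat.card H = Nat.card (ConjClasses H) * Nat.card H := by
    rw [hH, ← Finset.sum_filter_add_sum_filter_not Finset.univ (fun h : H => h ≠ 1)]
    congr 1
    rw [Finset.sum_eq_single (1 : H)]
    · refine (Nat.card_congr (Equiv.subtypeUnivEquiv fun g => ?_)).symm
      rw [Subgroup.mem_centralizer_singleton_iff]; simp
    · intro b hb hb1; simp [hb1] at hb
    · simp
  simp only [Finset.sum_product, Finset.sum_const, Finset.card_univ, smul_eq_mul] at hout
  rw [← Nat.card_eq_fintype_card] at hout
  rw [hin', hout, ← hG, hcard] at hsplit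
  rw [hcard] at hKsum
  have hpos : 0 < Nat.card K := Nat.card_pos
  apply Nat.eq_of_mul_eq_mul_left hpos
  nlinarith [hsplit, hKsum, hHsum]

end Cfsg.Agent.S0172
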