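import Cfsg.Statements.S0173
import Cfsg.Agent.Chars.Perm

set_option autoImplicit false
open Cfsg

namespace Cfsg.Agent.S0173

/-- Brauer's permutation lemma for a single automorphism: the number of conjugacy classes mapped to themselves equals the number of irreducible complex characters χ with χ ∘ α = χ. -/
theorem result {G : Type*} [Group G] [Finite G] (α : G ≃* G) : Nat.card {C : ConjClasses G // ConjClasses.map α.toMonoidHom C = C} = Nat.card {χ : Cfsg.IrrCharacter G // (χ : G → ℂ) ∘ α = (χ : G → ℂ)} := by
  classical
  have h := Cfsg.Lib.Chars.brauer_permutation (G := G)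
    (fun χ => ⟨fun g => (χ : G → ℂ) (α.symm g),
      Cfsg.Lib.Chars.IsIrrCharacter.comp_mulEquiv χ.2 α.symm⟩)
    { toFun := ConjClasses.map α.toMonoidHom, invFun := ConjClasses.map α.symm.toMonoidHom
      left_inv := fun C => by
        obtain ⟨g, rfl⟩ := ConjClasses.exists_rep C
        exact congrArg ConjClasses.mk (α.symm_apply_apply g)
      right_inv := fun C => by
        obtain ⟨g, rfl⟩ := ConjClasses.exists_rep C
        exact congrArg ConjClasses.mk (α.apply_symm_apply g) }
    (fun χ g g' hg => by
      have h1 : IsConj g' (α g) := ConjClasses.mk_eq_mk_iff_isConj.mp hg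
      have h2 := Cfsg.Lib.Chars.classFunction_eq_of_isConj
        (Cfsg.Lib.Chars.isClassFunction_irr χ) (α.symm.toMonoidHom.map_isConj h1)
      simpa using h2)
  refine h.symm.trans (Nat.card_congr (Equiv.subtypeEquivRight fun χ => ?_))
  rw [Subtype.ext_iff]
  constructor
  · intro hχ
    funext g
    have := congrFun hχ (α g)
    simp at this
    exact this.symm
  · intro hχ
    funext g
    have := congrFun hχ (α.symm g)
    simpa using this.symm

end Cfsg.Agent.S0173
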