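import Cfsg.Statements.S0175
import Cfsg.Agent.Chars.Induced
import Cfsg.Agent.Chars.Count

set_option autoImplicit false
open Cfsg
open scoped commutatorElement

namespace Cfsg.Agent.S0175

/-- Taketa's Theorem on M-groups: if every irreducible complex character of a finite group is induced from a linear character (a homomorphism to ℂˣ) of some subgroup, the group is solvable. -/
theorem result {G : Type*} [Group G] [Fintype G] (hM : ∀ χ : G → ℂ, Cfsg.IsIrrCharacter G χ → ∃ (H : Subgroup G) (lam : H →* ℂˣ), χ = Cfsg.indFun H (fun h => (lam h : ℂ))) : Group.IsSolvable G := by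
  classical
  by_contra hns
  obtain ⟨N, hNn, hNb, hNN⟩ : ∃ N : Subgroup G, N.Normal ∧ N ≠ ⊥ ∧ ⁅N, N⁆ = N := by
    have hex : ∃ k, ∃ n, Nat.card (derivedSeries G n) = k := ⟨_, 0, rfl⟩
    obtain ⟨n, hn⟩ := Nat.find_spec hex
    refine ⟨derivedSeries G n, inferInstance, fun h => hns ⟨⟨n, h⟩⟩, ?_⟩
    refine Subgroup.eq_of_le_of_card_ge (Subgroup.commutator_le_self _) ?_
    rw [← derivedSeries_succ, hn]
    exact Nat.find_le ⟨n + 1, rfl⟩
  haveI := hNn
  have hex : ∃ d : ℕ, ∃ χ : Cfsg.IrrCharacter G, Cfsg.Lib.Chars.deg (χ : G → ℂ) = d ∧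
      ∃ n ∈ N, (χ : G → ℂ) n ≠ (χ : G → ℂ) 1 := by
    obtain ⟨n, hn, hn1⟩ := (Subgroup.bot_or_exists_ne_one N).resolve_left hNb
    by_contra hcon
    push Not at hcon
    have hconj : IsConj (1 : G) n := (Cfsg.Lib.Chars.isConj_iff_forall_irr 1 n).mpr fun χ =>
      (hcon _ χ rfl n hn).symm
    exact hn1 (isConj_one_right.mp hconj)
  obtain ⟨χ, hdeg, n₀, hn₀, hne⟩ := Nat.find_spec hex
  obtain ⟨H, lam, hχ⟩ := hM χ χ.2
  have hχ1 : (χ : G → ℂ) 1 = (H.index : ℂ) := by
    rw [hχ, Cfsg.Lib.Chars.indFun_one]; simp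
  have hdi : Cfsg.Lib.Chars.deg (χ : G → ℂ) = H.index := by
    have h := Cfsg.Lib.Chars.irr_apply_one_eq_deg χ
    rw [hχ1] at h
    exact_mod_cast h.symm
  haveI := Fintype.ofFinite H
  set π := Cfsg.indFun H (fun _ => (1 : ℂ)) with hπdef
  have hπ : Cfsg.IsCharacter G π :=
    Cfsg.Lib.Chars.IsCharacter.indFun Cfsg.Lib.Chars.isCharacter_one
  obtain ⟨m, hm⟩ := Cfsg.Lib.Chars.IsCharacter.exists_decomp hπ
  have hm1 : 1 ≤ m (Cfsg.Lib.Chars.principal G) := by
    have h := Cfsg.Lib.Chars.classInner_irrSum (fun ψ => (m ψ : ℂ)) (Cfsg.Lib.Chars.principal G)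
    have hm' : (∑ ψ, (m ψ : ℂ) • (ψ : G → ℂ)) = π := by simp [hm, Nat.cast_smul_eq_nsmul]
    rw [hm', hπdef, Cfsg.Lib.Chars.frobenius_reciprocity H _
      (Cfsg.Lib.Chars.isClassFunction_irr _)] at h
    rw [show (fun h : H => (Cfsg.Lib.Chars.principal G : G → ℂ) h) = fun _ => 1 from rfl,
      Cfsg.Lib.Chars.classInner_self_irr Cfsg.Lib.Chars.isIrrCharacter_one] at h
    have h' : m (Cfsg.Lib.Chars.principal G) = 1 := by exact_mod_cast h.symm
    omega
  have hπ1 : π 1 = (H.index : ℂ) := by rw [hπdef, Cfsg.Lib.Chars.indFun_one, mul_one]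
  have hsum : ∑ ψ : Cfsg.IrrCharacter G, m ψ * Cfsg.Lib.Chars.deg (ψ : G → ℂ) = H.index := by
    have h := congrFun hm 1
    rw [hπ1, Finset.sum_apply] at h
    simp only [Pi.smul_apply, nsmul_eq_mul, Cfsg.Lib.Chars.irr_apply_one_eq_deg] at h
    exact_mod_cast h.symm
  have hπN : ∀ n ∈ N, π n = π 1 := by
    intro n hn
    rw [hm, Finset.sum_apply, Finset.sum_apply]
    refine Finset.sum_congr rfl fun ψ _ => ?_
    by_cases h0 : m ψ = 0
    · simp [h0]
    suffices (ψ : G → ℂ) n = (ψ : G → ℂ) 1 by simp [this]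
    by_cases hp : ψ = Cfsg.Lib.Chars.principal G
    · subst hp; rfl
    have hlt : Cfsg.Lib.Chars.deg (ψ : G → ℂ) < H.index := by
      have hle := Finset.sum_le_sum_of_subset (f := fun x => m x * Cfsg.Lib.Chars.deg (x : G → ℂ))
        (Finset.subset_univ {ψ, Cfsg.Lib.Chars.principal G})
      rw [Finset.sum_pair hp, hsum] at hle
      have h1 : Cfsg.Lib.Chars.deg (ψ : G → ℂ) ≤ m ψ * Cfsg.Lib.Chars.deg (ψ : G → ℂ) :=
        Nat.le_mul_of_pos_left _ (Nat.pos_of_ne_zero h0)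
      have h2 := Cfsg.Lib.Chars.deg_irr_pos (Cfsg.Lib.Chars.principal G)
      have h3 : 0 < m (Cfsg.Lib.Chars.principal G) *
        Cfsg.Lib.Chars.deg (Cfsg.Lib.Chars.principal G : G → ℂ) := Nat.mul_pos hm1 h2
      omega
    by_contra hne'
    exact Nat.find_min hex (m := Cfsg.Lib.Chars.deg (ψ : G → ℂ)) (by omega)
      ⟨ψ, rfl, n, hn, hne'⟩
  have hNH : N ≤ H := by
    intro n hn
    by_contra hnH
    have h := hπN n hn
    rw [hπdef, Cfsg.Lib.Chars.indFun_apply, Cfsg.Lib.Chars.indFun_apply] at h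
    have h' := mul_left_cancel₀ (inv_ne_zero (Nat.cast_ne_zero.mpr Nat.card_pos.ne')) h
    have hv : ∀ g : G, Cfsg.extendByZero H (fun _ => (1 : ℂ)) g = if g ∈ H then 1 else 0 := fun g => by
      split_ifs with hg
      · rw [Cfsg.Lib.Chars.extendByZero_mem _ hg]
      · rw [Cfsg.Lib.Chars.extendByZero_not_mem _ hg]
    simp only [hv, Finset.sum_boole, mul_one, inv_mul_cancel, one_mem, Finset.filter_true] at h'
    have h'' : (Finset.univ.filter fun x : G => x⁻¹ * n * x ∈ H).card =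
        (Finset.univ : Finset G).card := by exact_mod_cast h'
    have hall := Finset.eq_univ_of_card _ (h''.trans Finset.card_univ)
    have h1 := Finset.mem_univ (1 : G)
    rw [← hall] at h1
    simp at h1
    exact hnH h1
  have hker : N ≤ lam.ker.map H.subtype := by
    rw [← hNN, Subgroup.commutator_le]
    intro a ha b hb
    refine ⟨⁅(⟨a, hNH ha⟩ : H), ⟨b, hNH hb⟩⁆, ?_, rfl⟩
    rw [SetLike.mem_coe, MonoidHom.mem_ker, map_commutatorElement, commutatorElement_eq_one_iff_mul_comm,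
      mul_comm]
  apply hne
  rw [hχ, Cfsg.Lib.Chars.indFun_apply, Cfsg.Lib.Chars.indFun_apply]
  congr 1
  refine Finset.sum_congr rfl fun x _ => ?_
  obtain ⟨y, hy, hye⟩ := hker (show x⁻¹ * n₀ * x ∈ N by
    simpa using hNn.conj_mem n₀ hn₀ x⁻¹)
  rw [← hye, mul_one, inv_mul_cancel,
    show Cfsg.extendByZero H (fun h => (lam h : ℂ)) 1 = 1 by
      rw [Cfsg.Lib.Chars.extendByZero_mem _ H.one_mem]
      exact congrArg Units.val (map_one lam),
    show (H.subtype y) = (y : G) from rfl, Cfsg.Lib.Chars.extendByZero_apply]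
  exact congrArg Units.val (MonoidHom.mem_ker.mp hy)

end Cfsg.Agent.S0175
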