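import Cfsg.Statements.S0177
import Cfsg.Agent.Chars.Artin
import Cfsg.Agent.Chars.Gallagher

set_option autoImplicit false
open Cfsg

namespace Cfsg.Agent.S0177

/-- The Artin induction Theorem: for a character χ of a finite group, |G| • χ is a ℤ-linear combination of functions induced from homomorphisms of cyclic subgroups into ℂˣ. -/
theorem result {G : Type*} [Group G] [Fintype G] (χ : G → ℂ) (hχ : Cfsg.IsCharacter G χ) : ∃ l : List ((A : Subgroup G) × ((A →* ℂˣ) × ℤ)), (∀ t ∈ l, IsCyclic t.1) ∧ (Nat.card G : ℂ) • χ = (l.map fun t => (t.2.2 : ℂ) • Cfsg.indFun t.1 (fun a => (t.2.1 a : ℂ))).sum := by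
  classical
  have hterm : ∀ C : Subgroup G, ∃ l : List ((A : Subgroup G) × ((A →* ℂˣ) × ℤ)),
      (∀ t ∈ l, IsCyclic t.1) ∧
        Cfsg.indFun C ((fun c : C => χ c) * Cfsg.Lib.Chars.artinFun C) =
          (l.map fun t => (t.2.2 : ℂ) • Cfsg.indFun t.1 (fun a => (t.2.1 a : ℂ))).sum := by
    intro C
    by_cases hC : IsCyclic C
    · have := Fintype.ofFinite C
      have hgen := Cfsg.Lib.Chars.IsGeneralizedCharacter.mul
        (Cfsg.Lib.Chars.IsCharacter.isGeneralized (Cfsg.Lib.Chars.IsCharacter.restrict hχ C))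
        (Cfsg.Lib.Chars.isGeneralized_artinFun (Nat.card C) C rfl)
      obtain ⟨a, ha⟩ := Cfsg.Lib.Chars.exists_int_decomp hgen
      have hlin : ∀ θ : Cfsg.IrrCharacter C, ∃ f : C →* ℂˣ, (θ : C → ℂ) = fun x => (f x : ℂ) :=
        fun θ => Cfsg.Lib.Chars.exists_hom_of_deg_one (Cfsg.Lib.Chars.isCharacter_of_irr θ.2)
          (Cfsg.Lib.Chars.irr_deg_one_of_comm
            (fun x y => @mul_comm' C _ IsCyclic.isMulCommutative x y) θ.2)
      choose f hf using hlin
      refine ⟨(Finset.univ : Finset (Cfsg.IrrCharacter C)).toList.map fun θ => ⟨C, f θ, a θ⟩,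
        fun t ht => ?_, ?_⟩
      · obtain ⟨θ, -, rfl⟩ := List.mem_map.mp ht
        exact hC
      · rw [List.map_map, Finset.sum_map_toList, ha, Cfsg.Lib.Chars.indFun_sum]
        refine Finset.sum_congr rfl fun θ _ => ?_
        rw [Cfsg.Lib.Chars.indFun_smul, hf θ]
        rfl
    · exact ⟨[], by simp, by
        rw [Cfsg.Lib.Chars.artinFun_eq_zero C hC, mul_zero, Cfsg.Lib.Chars.indFun_zero]; simp⟩
  choose l hl1 hl2 using hterm
  refine ⟨(Finset.univ : Finset (Subgroup G)).toList.flatMap l, fun t ht => ?_, ?_⟩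
  · obtain ⟨C, -, hC⟩ := List.mem_flatMap.mp ht
    exact hl1 C t hC
  · rw [List.map_flatMap, List.flatMap, List.sum_flatten, List.map_map, Finset.sum_map_toList]
    have hid : (Nat.card G : ℂ) • χ =
        (∑ C : Subgroup G, Cfsg.indFun C (Cfsg.Lib.Chars.artinFun C)) * χ := by
      rw [← Cfsg.Lib.Chars.artin_identity]
      rfl
    rw [hid, Finset.sum_mul]
    refine Finset.sum_congr rfl fun C _ => ?_
    rw [Function.comp_apply, ← hl2 C, mul_comm _ (Cfsg.Lib.Chars.artinFun C),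
      Cfsg.Lib.Chars.indFun_mul_restrict C _ (Cfsg.Lib.Chars.isClassFunction_isChar hχ)]

end Cfsg.Agent.S0177
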