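import Cfsg.Statements.S0178
import Cfsg.Agent.Chars.Galois
import Cfsg.Agent.Chars.Induced

set_option autoImplicit false
open Cfsg

namespace Cfsg.Agent.S0178

/-- The degree of an irreducible complex representation of a finite group is at most the index of any abelian subgroup. -/
theorem result {G : Type*} [Group G] [Finite G] {V : Type*} [AddCommGroup V] [Module ℂ V] [FiniteDimensional ℂ V] (ρ : Representation ℂ G V) [ρ.IsIrreducible] (A : Subgroup G) (hA : ∀ a ∈ A, ∀ b ∈ A, a * b = b * a) : Module.finrank ℂ V ≤ A.index := by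
  classical
  have := Fintype.ofFinite G
  have := Fintype.ofFinite A
  have hirr := Cfsg.Lib.Chars.isIrrCharacter_character ρ
  have hc := Cfsg.Lib.Chars.isCharacter_of_irr hirr
  obtain ⟨ψ, hψ⟩ : ∃ ψ : Cfsg.IrrCharacter A,
      Cfsg.classInner (fun a : A => ρ.character a) ψ ≠ 0 := by
    by_contra h
    push Not at h
    have := congrFun (Cfsg.Lib.Chars.eq_zero_of_classInner_eq_zero
      (Cfsg.Lib.Chars.isClassFunction_isChar (Cfsg.Lib.Chars.IsCharacter.restrict hc A)) h) 1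
    rw [show ρ.character ((1 : A) : G) = _ from ρ.char_one, Pi.zero_apply, Nat.cast_eq_zero] at this
    exact (Cfsg.Lib.Chars.finrank_pos_of_irreducible ρ).ne' this
  have hψ1 : (ψ : A → ℂ) 1 = 1 := Cfsg.Lib.Chars.irr_deg_one_of_comm
    (fun a b => Subtype.ext (hA a a.2 b b.2)) ψ.2
  obtain ⟨m, hm⟩ := Cfsg.Lib.Chars.IsCharacter.exists_decomp
    (Cfsg.Lib.Chars.IsCharacter.indFun (G := G) (Cfsg.Lib.Chars.isCharacter_of_irr ψ.2))
  have hpos : 0 < m ⟨_, hirr⟩ := by
    refine Nat.pos_of_ne_zero fun h => hψ ?_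
    rw [← Cfsg.Lib.Chars.frobenius_reciprocity' A (ψ : A → ℂ)
      (Cfsg.Lib.Chars.isClassFunction_isChar hc), ← Cfsg.Lib.Chars.classInner_conj_symm, hm]
    simp only [← Nat.cast_smul_eq_nsmul ℂ]
    rw [Cfsg.Lib.Chars.classInner_irrSum (fun χ => (m χ : ℂ)) ⟨_, hirr⟩, h, Nat.cast_zero, map_zero]
  have h1 : A.index = ∑ χ, m χ * Cfsg.Lib.Chars.deg (χ : G → ℂ) := by
    apply Nat.cast_injective (R := ℂ)
    have h := congrFun hm 1
    rw [Cfsg.Lib.Chars.indFun_one, hψ1, mul_one] at h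
    rw [h]
    simp [Finset.sum_apply, Cfsg.Lib.Chars.irr_apply_one_eq_deg]
  rw [h1, ← Cfsg.Lib.Chars.deg_character ρ]
  exact (Nat.le_mul_of_pos_left _ hpos).trans (Finset.single_le_sum
    (f := fun χ : Cfsg.IrrCharacter G => m χ * Cfsg.Lib.Chars.deg (χ : G → ℂ))
    (fun _ _ => Nat.zero_le _) (Finset.mem_univ (⟨_, hirr⟩ : Cfsg.IrrCharacter G)))

end Cfsg.Agent.S0178
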