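import Cfsg.Statements.S0180
import Cfsg.Agent.Chars.Galois

set_option autoImplicit false
open Cfsg

namespace Cfsg.Agent.S0180

/-- Every irreducible complex character of a finite group takes only rational values if and only if g is conjugate to g ^ m for every element g and every m coprime to the group order. -/
theorem result {G : Type*} [Group G] [Finite G] : (∀ χ : Cfsg.IrrCharacter G, ∀ g : G, ∃ q : ℚ, (χ : G → ℂ) g = (q : ℂ)) ↔ ∀ m : ℕ, m.Coprime (Nat.card G) → ∀ g : G, IsConj g (g ^ m) := by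
  classical
  have : NeZero (Nat.card G) := ⟨Nat.card_pos.ne'⟩
  constructor
  · intro h m hm g
    rw [Cfsg.Lib.Chars.isConj_iff_forall_irr]
    intro χ
    obtain ⟨σ, hσ⟩ := Cfsg.Lib.Chars.exists_galConj_auto (m := Nat.card G) hm
    rw [← hσ.apply_character (Cfsg.Lib.Chars.isCharacter_of_irr χ.2) (orderOf_dvd_natCard g)]
    obtain ⟨q, hq⟩ := h χ g
    rw [hq, map_ratCast]
  · intro h χ g
    refine Cfsg.Lib.Chars.rat_of_galConj_fixed (m := Nat.card G)
      (Cfsg.Lib.Chars.IsCharacter.mem_cycField (Cfsg.Lib.Chars.isCharacter_of_irr χ.2)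
        (orderOf_dvd_natCard g)) fun σ k hk hσ => ?_
    rw [hσ.apply_character (Cfsg.Lib.Chars.isCharacter_of_irr χ.2) (orderOf_dvd_natCard g)]
    exact (Cfsg.Lib.Chars.classFunction_eq_of_isConj
      (Cfsg.Lib.Chars.isClassFunction_irr χ) (h k hk g)).symm

end Cfsg.Agent.S0180
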