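import Cfsg.Statements.S0181
import Cfsg.Agent.Chars.Core

set_option autoImplicit false
open Cfsg

namespace Cfsg.Agent.S0181

/-- Let H be a normal subgroup of a finite group G and ρ an irreducible complex representation whose kernel does not contain H. If g commutes with no non-identity element of H, then the character of ρ vanishes at g. -/
theorem result {G : Type*} [Group G] [Finite G] {V : Type*} [AddCommGroup V] [Module ℂ V] [FiniteDimensional ℂ V] (ρ : Representation ℂ G V) [ρ.IsIrreducible] (H : Subgroup G) [H.Normal] (hker : ∃ h ∈ H, ρ h ≠ LinearMap.id) (g : G) (hg : ∀ h ∈ H, h * g = g * h → h = 1) : ρ.character g = 0 := by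
  classical
  have := Fintype.ofFinite G
  have := Fintype.ofFinite H
  obtain ⟨h0, hh0, hne⟩ := hker
  obtain ⟨c, hc⟩ := Cfsg.Lib.Chars.schur_scalar ρ (∑ h : H, ρ (h : G)) fun a v => by
    simp only [LinearMap.sum_apply, map_sum]
    refine Fintype.sum_equiv (MulAut.conjNormal a⁻¹).toEquiv _ _ fun h => ?_
    rw [← Module.End.mul_apply, ← Module.End.mul_apply, ← map_mul, ← map_mul]
    congr 2
    simp only [MulEquiv.toEquiv_eq_coe, MulEquiv.coe_toEquiv, MulAut.conjNormal_apply]
    group
  have hc0 : c = 0 := by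
    by_contra hc0
    refine hne ?_
    have h1 : ρ h0 * (∑ h : H, ρ (h : G)) = ∑ h : H, ρ (h : G) := by
      rw [Finset.mul_sum]
      refine Fintype.sum_equiv (Equiv.mulLeft ⟨h0, hh0⟩) _ _ fun h => ?_
      rw [← map_mul]; rfl
    rw [hc, mul_smul_comm, show ρ h0 * LinearMap.id = ρ h0 from mul_one _] at h1
    exact smul_right_injective _ hc0 h1
  let f : H → H := fun h => ⟨h * (g * (h : G)⁻¹ * g⁻¹),
    H.mul_mem h.2 (Subgroup.Normal.conj_mem inferInstance _ (H.inv_mem h.2) g)⟩
  have hinj : Function.Injective f := by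
    intro a b hab
    have h1 : (a : G) * (g * (a : G)⁻¹ * g⁻¹) = (b : G) * (g * (b : G)⁻¹ * g⁻¹) :=
      congrArg Subtype.val hab
    have h2 : ((b : G)⁻¹ * a) * g = g * ((b : G)⁻¹ * a) := by
      calc ((b : G)⁻¹ * a) * g
          = (b : G)⁻¹ * ((a : G) * (g * (a : G)⁻¹ * g⁻¹)) * g * a := by group
        _ = (b : G)⁻¹ * ((b : G) * (g * (b : G)⁻¹ * g⁻¹)) * g * a := by rw [h1]
        _ = g * ((b : G)⁻¹ * a) := by group
    exact Subtype.ext (inv_mul_eq_one.mp (hg _ (H.mul_mem (H.inv_mem b.2) a.2) h2)).symm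
  have hconst : ∀ h : H, ρ.character ((h : G) * g) = ρ.character g := by
    intro h
    obtain ⟨a, rfl⟩ := Finite.injective_iff_surjective.mp hinj h
    rw [show ((f a : H) : G) * g = (a : G) * g * (a : G)⁻¹ by show (a : G) * (g * (a : G)⁻¹ * g⁻¹) * g = _; group,
      ρ.char_conj]
  have h3 := congrArg (fun T => LinearMap.trace ℂ V (T * ρ g)) hc
  simp only [Finset.sum_mul, map_sum, ← map_mul ρ, hc0, zero_smul, zero_mul, map_zero] at h3
  replace h3 : ∑ h : H, ρ.character ((h : G) * g) = 0 := h3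
  rw [Finset.sum_congr rfl (g := fun _ => ρ.character g) fun h _ => hconst h, Finset.sum_const,
    smul_eq_zero] at h3
  exact h3.resolve_left (by simp)

end Cfsg.Agent.S0181
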