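import Cfsg.Statements.S0184
import Cfsg.Agent.Chars.Values
import Cfsg.Agent.Chars.Construct
import Cfsg.Agent.Coprime.SolvableBasics

set_option autoImplicit false
open Cfsg

namespace Cfsg.Agent.S0184

/-- A finite p-group admits a faithful irreducible complex representation if and only if its centre is cyclic. -/
theorem result {G : Type*} [Group G] [Finite G] (p : ℕ) [Fact p.Prime] (hG : IsPGroup p G) : (∃ (n : ℕ) (ρ : Representation ℂ G (Fin n → ℂ)), ρ.IsIrreducible ∧ Function.Injective ρ) ↔ IsCyclic (Subgroup.center G) := by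
  classical
  constructor
  · rintro ⟨n, ρ, hρ, hinj⟩
    have := Cfsg.Lib.Chars.nontrivial_of_irreducible ρ
    obtain ⟨v, hv⟩ := exists_ne (0 : Fin n → ℂ)
    have hs : ∀ z : Subgroup.center G, ∃ c : ℂ, ρ (z : G) = c • LinearMap.id := fun z =>
      Cfsg.Lib.Chars.schur_scalar ρ _ fun g w => by
        rw [← Module.End.mul_apply, ← Module.End.mul_apply, ← map_mul, ← map_mul,
          Subgroup.mem_center_iff.mp z.2 g]
    choose c hc using hs
    have key : ∀ {a b : ℂ}, a • v = b • v → a = b := fun h => smul_left_injective ℂ hv h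
    have happ : ∀ z : Subgroup.center G, ρ (z : G) v = c z • v := fun z => by
      rw [hc z]; rfl
    let f : Subgroup.center G →* ℂ :=
      { toFun := c
        map_one' := key (by rw [← happ, one_smul, Subgroup.coe_one, map_one]; rfl)
        map_mul' := fun x y => key (by
          rw [← happ, Subgroup.coe_mul, map_mul, Module.End.mul_apply, happ, map_smul, happ,
            smul_smul, mul_comm (c x)]) }
    exact isCyclic_of_subgroup_isDomain f fun x y hxy => Subtype.ext (hinj (by
      rw [hc, hc, show c x = c y from hxy]))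
  · intro hcyc
    rcases subsingleton_or_nontrivial G with hs | hnt
    · obtain ⟨n, ρ, hρ, -⟩ := Cfsg.Lib.Chars.isIrrCharacter_one (G := G)
      exact ⟨n, ρ, hρ, Function.injective_of_subsingleton _⟩
    have := hG.isNilpotent
    have hpc : IsPGroup p (Subgroup.center G) := hG.to_subgroup _
    have hcnt : Subgroup.center G ≠ ⊥ := (Subgroup.nontrivial_iff_ne_bot _).mp hG.center_nontrivial
    have hdvd : p ∣ Nat.card (Subgroup.center G) :=
      hpc.card_eq_or_dvd.resolve_left fun h => hcnt (Subgroup.card_eq_one.mp h)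
    obtain ⟨z, hz⟩ := exists_prime_orderOf_dvd_card' p hdvd
    have hz1 : (z : G) ≠ 1 := fun h => (Fact.out : p.Prime).ne_one (by
      rw [← hz, show z = 1 from Subtype.ext h, orderOf_one])
    obtain ⟨χ, hχ⟩ : ∃ χ : Cfsg.IrrCharacter G, (χ : G → ℂ) z ≠ (χ : G → ℂ) 1 := by
      by_contra h
      push Not at h
      exact hz1 (isConj_one_left.mp ((Cfsg.Lib.Chars.isConj_iff_forall_irr (z : G) 1).mpr h))
    obtain ⟨n, ρ, hρ, hρc⟩ := χ.2
    refine ⟨n, ρ, hρ, (MonoidHom.ker_eq_bot_iff ρ).mp ?_⟩
    by_contra hker
    have h1 := Cfsg.Lib.Coprime.inf_center_ne_bot ρ.ker hker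
    obtain ⟨⟨x, hxN⟩, hx⟩ := (Subgroup.ne_bot_iff_exists_ne_one).mp h1
    set N := (ρ.ker ⊓ Subgroup.center G).subgroupOf (Subgroup.center G) with hN
    have hdvdN : p ∣ Nat.card N :=
      (hpc.to_subgroup N).card_eq_or_dvd.resolve_left fun h => hx (Subtype.ext (by
        have h2 : (⟨x, hxN.2⟩ : Subgroup.center G) ∈ N := Subgroup.mem_subgroupOf.mpr hxN
        rw [Subgroup.card_eq_one.mp h, Subgroup.mem_bot] at h2
        exact congrArg (Subtype.val : Subgroup.center G → G) h2))
    obtain ⟨y, hy⟩ := exists_prime_orderOf_dvd_card' p hdvdN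
    have hy' : orderOf (y : Subgroup.center G) = p := by rw [Subgroup.orderOf_coe, hy]
    have := Fintype.ofFinite (Subgroup.center G)
    have hle := IsCyclic.card_pow_eq_one_le (α := Subgroup.center G) (Fact.out : p.Prime).pos
    have hsub : (Subgroup.zpowers (y : Subgroup.center G) : Set (Subgroup.center G)).toFinset ⊆
        Finset.univ.filter fun a => a ^ p = 1 := fun a ha => by
      rw [Set.mem_toFinset] at ha
      simp only [Finset.mem_filter, Finset.mem_univ, true_and]
      exact orderOf_dvd_iff_pow_eq_one.mp (hy' ▸ orderOf_dvd_of_mem_zpowers ha)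
    have heq := Finset.eq_of_subset_of_card_le hsub (hle.trans (by
      rw [Set.toFinset_card, ← Nat.card_eq_fintype_card]
      exact (hy'.symm.trans (Nat.card_zpowers _).symm).le))
    have hzy : z ∈ Subgroup.zpowers (y : Subgroup.center G) := by
      have : z ∈ Finset.univ.filter fun a : Subgroup.center G => a ^ p = 1 := by
        simp [← hz, pow_orderOf_eq_one]
      rw [← heq, Set.mem_toFinset] at this
      exact this
    have hzN : z ∈ N := Subgroup.zpowers_le.mpr y.2 hzy
    apply hχ
    rw [← hρc]
    have : ρ (z : G) = 1 := (Subgroup.mem_subgroupOf.mp hzN).1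
    unfold Representation.character
    simp only [this, map_one]

end Cfsg.Agent.S0184
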