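import Cfsg.Statements.S0185
import Cfsg.Agent.Chars.SmallDeg

set_option autoImplicit false
open Cfsg

namespace Cfsg.Agent.S0185

/-- If a finite group has a faithful complex representation of degree less than the smallest prime dividing its order, the group is abelian. -/
theorem result {G : Type*} [Group G] [Finite G] {V : Type*} [AddCommGroup V] [Module ℂ V] [FiniteDimensional ℂ V] (ρ : Representation ℂ G V) (hfaithful : Function.Injective ρ) (hdeg : ∀ p : ℕ, p.Prime → p ∣ Nat.card G → Module.finrank ℂ V < p) (a b : G) : a * b = b * a := by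
  have h := Cfsg.Lib.Chars.commutator_mem_ker_of_small (Cfsg.Lib.Chars.isCharacter_character ρ)
    (fun q hq hqd => by rw [Cfsg.Lib.Chars.deg_character]; exact hdeg q hq hqd) a b
  rw [ρ.char_one, Cfsg.Lib.Chars.eq_id_of_character_eq_finrank] at h
  have h1 := hfaithful (h.trans (map_one ρ).symm)
  calc a * b = (a * b * a⁻¹ * b⁻¹) * (b * a) := by group
    _ = b * a := by rw [h1, one_mul]

end Cfsg.Agent.S0185
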