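import Cfsg.Statements.S0186
import Cfsg.Agent.Chars.SmallDeg

set_option autoImplicit false
open Cfsg

namespace Cfsg.Agent.S0186

/-- Let G be a finite simple group of order n and p a prime dividing n. If G has more than n / p^2 conjugacy classes, then every Sylow p-subgroup of G is abelian. -/
theorem result {G : Type*} [Group G] [Finite G] [IsSimpleGroup G] (p : ℕ) [Fact p.Prime] (hp : p ∣ Nat.card G) (hmany : Nat.card G < p ^ 2 * Nat.card (ConjClasses G)) (P : Sylow p G) (a b : G) (ha : a ∈ P) (hb : b ∈ P) : a * b = b * a := by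
  classical
  by_contra hne
  let a' : P := ⟨a, ha⟩
  let b' : P := ⟨b, hb⟩
  have hne' : a' * b' ≠ b' * a' := fun h => hne (congrArg Subtype.val h)
  set c : G := a * b * a⁻¹ * b⁻¹ with hc
  have hc1 : c ≠ 1 := fun h => hne (by
    calc a * b = c * (b * a) := by rw [hc]; group
      _ = b * a := by rw [h, one_mul])
  obtain ⟨k, hk⟩ := IsPGroup.iff_card.mp P.isPGroup'
  have hk3 : 3 ≤ k := by
    by_contra h
    apply hne'
    have h2 : IsMulCommutative (P : Subgroup G) := by
      rcases Nat.lt_or_ge k 2 with h' | h'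
      · have : IsCyclic (P : Subgroup G) := by
          rcases Nat.eq_zero_or_pos k with rfl | hk0
          · have : Subsingleton (P : Subgroup G) := (Nat.card_eq_one_iff_unique.mp (by rw [hk, pow_zero])).1
            exact isCyclic_of_subsingleton
          · exact isCyclic_of_prime_card (p := p) (by rw [hk, show k = 1 by omega, pow_one])
        exact IsCyclic.isMulCommutative
      · exact IsPGroup.isMulCommutative_of_card_eq_prime_sq (p := p) (by rw [hk, show k = 2 by omega])
    exact mul_comm' a' b'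
  have hdeg : ∀ χ : Cfsg.IrrCharacter G, χ ≠ Cfsg.Lib.Chars.principal G →
      p ≤ Cfsg.Lib.Chars.deg (χ : G → ℂ) := by
    intro χ hχ
    by_contra hlt
    have hχc := Cfsg.Lib.Chars.isCharacter_of_irr χ.2
    have h1 := Cfsg.Lib.Chars.commutator_mem_ker_of_small
      (Cfsg.Lib.Chars.IsCharacter.restrict hχc (P : Subgroup G)) (fun q hq hqd => by
        rw [hk] at hqd
        rw [(Nat.prime_dvd_prime_iff_eq hq Fact.out).mp (hq.dvd_of_dvd_pow hqd)]
        exact not_le.mp hlt) a' b'
    have hker : (Cfsg.Lib.Chars.kerSubgroup (χ : G → ℂ) hχc) = ⊤ :=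
      ((Cfsg.Lib.Chars.kerSubgroup_normal hχc).eq_bot_or_eq_top).resolve_left fun h => hc1 (by
        have hmem : c ∈ Cfsg.Lib.Chars.kerSubgroup (χ : G → ℂ) hχc := h1
        rwa [h, Subgroup.mem_bot] at hmem)
    have hconst : ∀ g, (χ : G → ℂ) g = (χ : G → ℂ) 1 := fun g =>
      (Cfsg.Lib.Chars.mem_kerSubgroup hχc g).mp (hker ▸ Subgroup.mem_top g)
    apply hχ
    have := Fintype.ofFinite G
    refine Subtype.ext ?_
    by_contra h
    have h2 := Cfsg.Lib.Chars.classInner_irr_ne (χ := χ) (ψ := Cfsg.Lib.Chars.principal G)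
      (fun h' => h (congrArg Subtype.val h'))
    rw [Cfsg.Lib.Chars.classInner_def] at h2
    simp only [Cfsg.Lib.Chars.principal, hconst, map_one, mul_one, Finset.sum_const, Finset.card_univ,
      nsmul_eq_mul] at h2
    simp [Cfsg.Lib.Chars.IsIrrCharacter.apply_one_ne_zero χ.2] at h2
  have hsq := Cfsg.Lib.Chars.sum_deg_sq_nat (G := G)
  rw [← Finset.add_sum_erase _ _ (Finset.mem_univ (Cfsg.Lib.Chars.principal G))] at hsq
  have hge : (Finset.univ.erase (Cfsg.Lib.Chars.principal G)).card * p ^ 2 ≤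
      ∑ χ ∈ Finset.univ.erase (Cfsg.Lib.Chars.principal G), Cfsg.Lib.Chars.deg (χ : G → ℂ) ^ 2 := by
    rw [← smul_eq_mul]
    exact Finset.card_nsmul_le_sum _ _ _ fun χ hχ =>
      Nat.pow_le_pow_left (hdeg χ (Finset.ne_of_mem_erase hχ)) 2
  rw [Finset.card_erase_of_mem (Finset.mem_univ _), Finset.card_univ, Fintype.card_eq_nat_card,
    Cfsg.Lib.Chars.card_irrCharacter] at hge
  have h1 : Cfsg.Lib.Chars.deg (Cfsg.Lib.Chars.principal G : G → ℂ) = 1 := by
    simp [Cfsg.Lib.Chars.deg, Cfsg.Lib.Chars.principal]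
  obtain ⟨m, hm⟩ : p ^ 2 ∣ Nat.card G :=
    (pow_dvd_pow p (by omega)).trans (hk ▸ Subgroup.card_subgroup_dvd_card (P : Subgroup G))
  rw [h1] at hsq
  have hmk : p ^ 2 * m < p ^ 2 * Nat.card (ConjClasses G) := hm ▸ hmany
  have hmk' : m ≤ Nat.card (ConjClasses G) - 1 := by
    have := lt_of_mul_lt_mul_left' hmk
    omega
  have := Nat.mul_le_mul_left (p ^ 2) hmk'
  rw [Nat.mul_comm (Nat.card (ConjClasses G) - 1)] at hge
  omega

end Cfsg.Agent.S0186
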