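import Cfsg.Statements.S0187
import Cfsg.Agent.Chars.Galois

set_option autoImplicit false
open Cfsg

namespace Cfsg.Agent.S0187

/-- A finite group is commutative if and only if every irreducible complex character has degree 1. -/
theorem result {G : Type*} [Group G] [Finite G] : (∀ a b : G, a * b = b * a) ↔ ∀ χ : Cfsg.IrrCharacter G, (χ : G → ℂ) 1 = 1 := by
  constructor
  · intro h χ
    exact Cfsg.Lib.Chars.irr_deg_one_of_comm h χ.2
  · intro h a b
    have hc : IsConj (a * b * a⁻¹ * b⁻¹) 1 := by
      rw [Cfsg.Lib.Chars.isConj_iff_forall_irr]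
      intro χ
      obtain ⟨f, hf⟩ := Cfsg.Lib.Chars.exists_hom_of_deg_one
        (Cfsg.Lib.Chars.isCharacter_of_irr χ.2) (h χ)
      rw [hf]
      simp [mul_comm, mul_left_comm]
    have h1 := isConj_one_left.mp hc
    have h2 : a * b * a⁻¹ * b⁻¹ * (b * a) = 1 * (b * a) := by rw [h1]
    simpa [mul_assoc] using h2

end Cfsg.Agent.S0187
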