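import Cfsg.Statements.S0191
import Cfsg.Agent.Chars.Galois

set_option autoImplicit false
open Cfsg

namespace Cfsg.Agent.S0191

/-- An irreducible complex representation of a finite group of degree greater than 1 has a character that vanishes somewhere. -/
theorem result {G : Type*} [Group G] [Finite G] {V : Type*} [AddCommGroup V] [Module ℂ V] [FiniteDimensional ℂ V] (ρ : Representation ℂ G V) [ρ.IsIrreducible] (hdeg : 1 < Module.finrank ℂ V) : ∃ g : G, ρ.character g = 0 := by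
  classical
  have := Fintype.ofFinite G
  by_contra hno
  push Not at hno
  set χ := ρ.character with hχdef
  have hχ : Cfsg.IsIrrCharacter G χ := Cfsg.Lib.Chars.isIrrCharacter_character ρ
  have hχc := Cfsg.Lib.Chars.isCharacter_of_irr hχ
  set S : Finset G := Finset.univ.erase 1
  have hsum : ∑ g : G, ‖χ g‖ ^ 2 = (Nat.card G : ℝ) := by
    have h := Cfsg.Lib.Chars.classInner_self_irr hχ
    rw [Cfsg.Lib.Chars.classInner_def, inv_mul_eq_iff_eq_mul₀ (by exact_mod_cast Nat.card_pos.ne'),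
      mul_one] at h
    simp only [Complex.mul_conj, Complex.normSq_eq_norm_sq] at h
    exact_mod_cast h
  have hS : ∑ g ∈ S, (‖χ g‖ ^ 2 - 1) < 0 := by
    have h1 : ‖χ 1‖ = (Module.finrank ℂ V : ℝ) := by rw [hχdef, ρ.char_one, Complex.norm_natCast]
    rw [Finset.sum_erase_eq_sub (Finset.mem_univ _), Finset.sum_sub_distrib, hsum, h1,
      Finset.sum_const, Finset.card_univ, nsmul_eq_mul, mul_one, ← Nat.card_eq_fintype_card]
    have : (1 : ℝ) < (Module.finrank ℂ V : ℝ) ^ 2 := by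
      have h2 : (2 : ℝ) ≤ (Module.finrank ℂ V : ℝ) := by exact_mod_cast hdeg
      nlinarith
    linarith
  have hprod1 : ∏ g ∈ S, ‖χ g‖ ^ 2 < 1 :=
    calc ∏ g ∈ S, ‖χ g‖ ^ 2 ≤ ∏ g ∈ S, Real.exp (‖χ g‖ ^ 2 - 1) :=
          Finset.prod_le_prod (fun g _ => by positivity) fun g _ => by
            have := Real.add_one_le_exp (‖χ g‖ ^ 2 - 1); linarith
      _ = Real.exp (∑ g ∈ S, (‖χ g‖ ^ 2 - 1)) := (Real.exp_sum _ _).symm
      _ < 1 := Real.exp_lt_one_iff.mpr hS
  have : NeZero (Nat.card G) := ⟨Nat.card_pos.ne'⟩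
  set P : ℂ := ∏ g ∈ S, χ g * χ g⁻¹ with hP
  have hPr : P = ((∏ g ∈ S, ‖χ g‖ ^ 2 : ℝ) : ℂ) := by
    rw [hP, Complex.ofReal_prod]
    refine Finset.prod_congr rfl fun g _ => ?_
    rw [Cfsg.Lib.Chars.IsCharacter.conj_inv hχc, Complex.mul_conj, Complex.normSq_eq_norm_sq]
  have hfix : ∀ (σ : ℂ ≃+* ℂ) (k : ℕ), k.Coprime (Nat.card G) →
      Cfsg.Lib.Chars.IsGalConj σ (Nat.card G) k → σ P = P := by
    intro σ k hk hσ
    rw [hP, map_prod]
    refine Finset.prod_equiv (powCoprime hk.symm) (fun g => ?_) fun g _ => ?_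
    · simp only [S, Finset.mem_erase, Finset.mem_univ, and_true]
      exact ((powCoprime hk.symm).injective.ne_iff' (by simp [powCoprime])).symm
    · rw [map_mul, hσ.apply_character hχc (orderOf_dvd_natCard _),
        hσ.apply_character hχc (orderOf_dvd_natCard _), inv_pow]
      rfl
  obtain ⟨q, hq⟩ := Cfsg.Lib.Chars.rat_of_galConj_fixed (m := Nat.card G)
    (by
      rw [hP]
      exact prod_mem fun g _ => mul_mem
        (Cfsg.Lib.Chars.IsCharacter.mem_cycField hχc (orderOf_dvd_natCard g))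
        (Cfsg.Lib.Chars.IsCharacter.mem_cycField hχc (orderOf_dvd_natCard g⁻¹))) hfix
  have hint : IsIntegral ℤ P := by
    rw [hP]
    exact IsIntegral.prod _ fun g _ => (Cfsg.Lib.Chars.IsCharacter.isIntegral hχc g).mul
      (Cfsg.Lib.Chars.IsCharacter.isIntegral hχc g⁻¹)
  obtain ⟨z, hz⟩ := Cfsg.Lib.Chars.int_of_isIntegral_rat (q := q) (hq ▸ hint)
  have hpos : 0 < ∏ g ∈ S, ‖χ g‖ ^ 2 := Finset.prod_pos fun g _ => by
    have := norm_pos_iff.mpr (hno g); positivity
  have hz2 : (z : ℝ) = ∏ g ∈ S, ‖χ g‖ ^ 2 := by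
    have : ((z : ℝ) : ℂ) = P := by rw [hq, hz]; norm_num
    rw [hPr] at this
    exact_mod_cast this
  rw [← hz2] at hpos hprod1
  have hz0 : 0 < z := by exact_mod_cast hpos
  have hz1 : z < 1 := by exact_mod_cast hprod1
  omega

end Cfsg.Agent.S0191
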