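import Cfsg.Statements.S0192
import Cfsg.Agent.Chars.Core

set_option autoImplicit false
open Cfsg

namespace Cfsg.Agent.S0192

/-- Brauer's generation criterion. Let G be a finite simple group, H₁ and H₂ subgroups, and χ a non-principal irreducible character. If the multiplicity of the principal character in χ restricted to H₁ ⊓ H₂ is less than the sum of the corresponding multiplicities for H₁ and H₂, then H₁ and H₂ do not generate G. -/
theorem result {G : Type*} [Group G] [Fintype G] [IsSimpleGroup G] (H₁ H₂ : Subgroup G) [Fintype H₁] [Fintype H₂] [Fintype ↥(H₁ ⊓ H₂)] (χ : G → ℂ) (hχ : Cfsg.IsIrrCharacter G χ) (hχ1 : χ ≠ fun _ => 1) (hlt : (Cfsg.classInner (fun x : ↥(H₁ ⊓ H₂) => χ x) (fun _ => 1)).re < (Cfsg.classInner (fun x : H₁ => χ x) (fun _ => 1)).re + (Cfsg.classInner (fun x : H₂ => χ x) (fun _ => 1)).re) : H₁ ⊔ H₂ ≠ ⊤ := by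
  classical
  intro htop
  obtain ⟨n, ρ, hρ, rfl⟩ := hχ
  have key : ∀ (K : Subgroup G) [Fintype K],
      (Cfsg.classInner (fun x : K => ρ.character x) (fun _ => 1)).re =
        (Module.finrank ℂ (Representation.invariants (MonoidHom.comp ρ K.subtype : Representation ℂ K _)) : ℝ) := by
    intro K _
    have : Invertible (Nat.card K : ℂ) := invertibleOfNonzero (by exact_mod_cast Nat.card_pos.ne')
    have h := Representation.card_inv_mul_sum_char_eq_finrank (MonoidHom.comp ρ K.subtype : Representation ℂ K _)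
    rw [Cfsg.Lib.Chars.classInner_def]
    simp only [map_one, mul_one]
    exact (congrArg Complex.re h).trans (Complex.natCast_re _)
  rw [key, key, key] at hlt
  set W₁ := Representation.invariants (MonoidHom.comp ρ H₁.subtype : Representation ℂ H₁ _)
  set W₂ := Representation.invariants (MonoidHom.comp ρ H₂.subtype : Representation ℂ H₂ _)
  set W := Representation.invariants (MonoidHom.comp ρ (H₁ ⊓ H₂).subtype : Representation ℂ ↥(H₁ ⊓ H₂) _)
  have hle : W₁ ⊔ W₂ ≤ W := sup_le
    (fun v hv x => (Representation.mem_invariants _ v).mp hv ⟨x, (Subgroup.mem_inf.mp x.2).1⟩)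
    (fun v hv x => (Representation.mem_invariants _ v).mp hv ⟨x, (Subgroup.mem_inf.mp x.2).2⟩)
  have h1 := Submodule.finrank_mono hle
  have h2 := Submodule.finrank_sup_add_finrank_inf_eq W₁ W₂
  have hlt' : Module.finrank ℂ W < Module.finrank ℂ W₁ + Module.finrank ℂ W₂ := by exact_mod_cast hlt
  have hne : W₁ ⊓ W₂ ≠ ⊥ := fun hb => by
    rw [hb, finrank_bot] at h2
    omega
  obtain ⟨v, hv, hv0⟩ := Submodule.exists_mem_ne_zero_of_ne_bot hne
  have hfix : ∀ g : G, ρ g v = v := by
    intro g
    have hg : g ∈ H₁ ⊔ H₂ := htop ▸ Subgroup.mem_top g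
    let K : Subgroup G :=
      { carrier := {g | ρ g v = v}
        one_mem' := by simp
        mul_mem' := fun {a b} ha hb => by
          show ρ (a * b) v = v
          rw [map_mul, Module.End.mul_apply, hb, ha]
        inv_mem' := fun {a} ha => by
          show ρ a⁻¹ v = v
          conv_lhs => rw [← ha]
          exact ρ.inv_self_apply a v }
    exact (sup_le (fun x hx => (Representation.mem_invariants _ v).mp (Submodule.mem_inf.mp hv).1 ⟨x, hx⟩)
      (fun x hx => (Representation.mem_invariants _ v).mp (Submodule.mem_inf.mp hv).2 ⟨x, hx⟩) :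
      H₁ ⊔ H₂ ≤ K) hg
  apply hχ1
  let S : Subrepresentation ρ := ⟨Submodule.span ℂ {v}, fun g w hw => by
    obtain ⟨c, rfl⟩ := Submodule.mem_span_singleton.mp hw
    rw [map_smul, hfix]
    exact Submodule.smul_mem _ c (Submodule.mem_span_singleton_self v)⟩
  have hS : S = ⊤ := (IsSimpleOrder.eq_bot_or_eq_top S).resolve_left fun hb => hv0 (by
    have : v ∈ S.toSubmodule := Submodule.mem_span_singleton_self v
    rw [hb] at this
    exact (Submodule.mem_bot ℂ).mp this)
  have hspan : Submodule.span ℂ {v} = ⊤ := congrArg Subrepresentation.toSubmodule hS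
  have hn : Module.finrank ℂ (Fin n → ℂ) = 1 := by
    rw [← finrank_top (R := ℂ) (M := Fin n → ℂ), ← hspan, finrank_span_singleton hv0]
  funext g
  have hid : ρ g = LinearMap.id := by
    apply LinearMap.ext
    intro w
    obtain ⟨c, rfl⟩ := Submodule.mem_span_singleton.mp (hspan ▸ Submodule.mem_top : w ∈ Submodule.span ℂ {v})
    rw [map_smul, hfix]; rfl
  rw [(Cfsg.Lib.Chars.eq_id_of_character_eq_finrank ρ g).mpr hid, hn, Nat.cast_one]

end Cfsg.Agent.S0192
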