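import Cfsg.Statements.S0196
import Cfsg.Agent.Chars.Basic

set_option autoImplicit false
open Cfsg

namespace Cfsg.Agent.S0196

/-- Let A be a subgroup of a finite group G that equals the centralizer of each of its non-identity elements, and let N be its normalizer. Then the index of A in N divides |A| − 1 (N/A permutes the non-identity elements of A in orbits of full length). -/
theorem result {G : Type*} [Group G] [Finite G] (A : Subgroup G) (hA : ∀ x ∈ A, x ≠ 1 → Subgroup.centralizer ({x} : Set G) = A) : (A.subgroupOf (Subgroup.normalizer (A : Set G))).index ∣ Nat.card A - 1 := by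
  classical
  set N := Subgroup.normalizer (A : Set G) with hN
  let X : Type _ := {a : A // a ≠ 1}
  let _ : MulAction N X :=
    { smul := fun g a => ⟨⟨g * (a.1 : G) * (g : G)⁻¹, (Subgroup.mem_normalizer_iff.mp g.2 _).mp a.1.2⟩,
        fun h => a.2 (Subtype.ext (conj_eq_one_iff.mp (congrArg Subtype.val h)))⟩
      one_smul := fun a => by
        apply Subtype.ext; apply Subtype.ext
        show ((1 : N) : G) * (a.1 : G) * ((1 : N) : G)⁻¹ = a.1
        simp
      mul_smul := fun g g' a => by
        apply Subtype.ext; apply Subtype.ext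
        show ((g * g' : N) : G) * (a.1 : G) * ((g * g' : N) : G)⁻¹ =
          g * (g' * (a.1 : G) * (g' : G)⁻¹) * (g : G)⁻¹
        simp [mul_assoc] }
  have hstab : ∀ a : X, MulAction.stabilizer N a = A.subgroupOf N := by
    intro a
    ext g
    rw [MulAction.mem_stabilizer_iff, Subgroup.mem_subgroupOf]
    have hC := hA a.1 a.1.2 (fun h => a.2 (Subtype.ext h))
    have hiff : (g : G) ∈ A ↔ (g : G) * (a.1 : G) = (a.1 : G) * g := by
      conv_lhs => rw [← hC]
      rw [Subgroup.mem_centralizer_singleton_iff]
    rw [hiff]
    constructor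
    · intro h
      exact mul_inv_eq_iff_eq_mul.mp (congrArg (fun t : X => ((t.1 : A) : G)) h)
    · intro h
      exact Subtype.ext (Subtype.ext (mul_inv_eq_iff_eq_mul.mpr h))
  have hcard : Nat.card X = Nat.card A - 1 := by
    have := Fintype.ofFinite A
    rw [Nat.card_eq_fintype_card, Nat.card_eq_fintype_card, Fintype.card_subtype,
      Finset.filter_ne', Finset.card_erase_of_mem (Finset.mem_univ _), Finset.card_univ]
  have := Fintype.ofFinite (MulAction.orbitRel.Quotient N X)
  rw [← hcard, Nat.card_congr (MulAction.selfEquivSigmaOrbitsQuotientStabilizer N X), Nat.card_sigma]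
  refine Finset.dvd_sum fun ω _ => ?_
  rw [hstab]
  rfl

end Cfsg.Agent.S0196
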