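import Cfsg.Statements.S0197
import Cfsg.Agent.TwoFusion.GLTwoThree.Order

set_option autoImplicit false
open Cfsg
open scoped commutatorElement

namespace Cfsg.Agent.S0197

/-- If a finite simple group has an involution whose centralizer is isomorphic to the general linear group GL(2, 3), then the group has order 5616 or 7920. -/
theorem result {G : Type*} [Group G] [Finite G] [IsSimpleGroup G] (t : G) (ht : orderOf t = 2) (e : Subgroup.centralizer ({t} : Set G) ≃* Matrix.GeneralLinearGroup (Fin 2) (ZMod 3)) : Nat.card G = 5616 ∨ Nat.card G = 7920 := by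
  have hcomm : _root_.commutator G = ⊤ := by
    rcases (inferInstance : (_root_.commutator G).Normal).eq_bot_or_eq_top with h | h
    · exfalso
      have hab : ∀ a b : G, a * b = b * a := fun a b => commutatorElement_eq_one_iff_mul_comm.1 (by
        have : ⁅a, b⁆ ∈ _root_.commutator G := by
          rw [commutator_def]; exact Subgroup.commutator_mem_commutator trivial trivial
        rwa [h, Subgroup.mem_bot] at this)
      obtain ⟨e'⟩ := Cfsg.Lib.GLTwoThree.exists_iso
      have : ∀ a b : Cfsg.Lib.GLTwoThree.K48, a * b = b * a := fun a b =>
        (e'.trans e.symm).injective (by rw [map_mul, map_mul]; exact Subtype.ext (hab _ _))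
      exact absurd this (by decide +kernel)
    · exact h
  obtain ⟨S, -⟩ := Cfsg.Lib.GLTwoThree.exists_setup (fun r _ => hcomm ▸ Subgroup.mem_top r) t ht ⟨e⟩
  exact S.order

end Cfsg.Agent.S0197
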