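import Cfsg.Statements.S0203
import Cfsg.Agent.InvolCalc.KleinSylow

set_option autoImplicit false
open Cfsg

namespace Cfsg.Agent.S0203

/-- If a Sylow 2-subgroup P of a finite group G is a Klein four-group, then G has three classes of involutions if and only if P has a normal complement in G. -/
theorem result {G : Type*} [Group G] [Finite G] (P : Sylow 2 G) (hP : IsKleinFour (P : Subgroup G)) : Nat.card {C : ConjClasses G // ∃ t : G, orderOf t = 2 ∧ ConjClasses.mk t = C} = 3 ↔ ∃ N : Subgroup G, N.Normal ∧ Subgroup.IsComplement' N (P : Subgroup G) := by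
  haveI : Fact (Nat.Prime 2) := ⟨Nat.prime_two⟩
  constructor
  · intro h3
    rcases Cfsg.Lib.KleinSylow.dichotomy P hP with h | h
    · exact ⟨_, inferInstance, MonoidHom.ker_transferSylow_isComplement' P h.1⟩
    · exact absurd (h.2.symm.trans h3) (by decide)
  · rintro ⟨N, hN, hc⟩
    have hcomm := Cfsg.Lib.KleinSylow.comm_of_klein P hP
    have h1 : Subgroup.normalizer ((P : Subgroup G) : Set G) ≤ Subgroup.centralizer ((P : Subgroup G) : Set G) := by
      intro n hn x hx
      have hy : n * x * n⁻¹ ∈ (P : Subgroup G) := (Subgroup.mem_normalizer_iff.1 hn x).1 hx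
      obtain ⟨⟨a, b⟩, hab⟩ := hc.2 n
      have hab' : (a : G) * b = n := hab
      have hbx : (b : G) * x = x * b :=
        congrArg Subtype.val (hcomm.is_comm.comm (⟨b, b.2⟩ : (P : Subgroup G)) ⟨x, hx⟩)
      have hd : x⁻¹ * (n * x * n⁻¹) ∈ N := by
        have e : x⁻¹ * (n * x * n⁻¹) = (x⁻¹ * (a : G) * x) * (a : G)⁻¹ := by
          rw [← hab', show (a : G) * b * x * ((a : G) * b)⁻¹ = (a : G) * ((b : G) * x) * (b : G)⁻¹ * (a : G)⁻¹ by group, hbx]
          group
        rw [e]
        exact mul_mem (hN.conj_mem' _ a.2 x) (inv_mem a.2)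
      have he : x⁻¹ * (n * x * n⁻¹) = 1 :=
        Subgroup.disjoint_def.1 (Subgroup.IsComplement'.disjoint hc) hd (mul_mem (inv_mem hx) hy)
      rw [inv_mul_eq_one] at he
      exact (eq_mul_inv_iff_mul_eq.1 he)
    rcases Cfsg.Lib.KleinSylow.dichotomy P hP with h | h
    · exact h.2
    · exact absurd h1 h.1

end Cfsg.Agent.S0203
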