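import Cfsg.Statements.S0212
import Cfsg.Agent.InvolCalc.BrauerFowler
import Cfsg.Agent.PermGen.AltPair
import Cfsg.Agent.Small.Toolkit

set_option autoImplicit false
open Cfsg

namespace Cfsg.Agent.S0212

open Cfsg.Lib Cfsg.Lib.Small Cfsg.Lib.PermGen

/-- The Brauer–Fowler bound: if G is a finite simple group and t an involution of G whose centralizer has order n, then |G| ≤ (2n^2)!. -/
theorem result {G : Type*} [Group G] [Finite G] [IsSimpleGroup G] (t : G) (ht : orderOf t = 2) : Nat.card G ≤ Nat.factorial (2 * (Nat.card (Subgroup.centralizer ({t} : Set G))) ^ 2) := by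
  haveI : Fact (Nat.Prime 2) := ⟨Nat.prime_two⟩
  set c := Nat.card (Subgroup.centralizer ({t} : Set G)) with hc
  have htC : t ∈ Subgroup.centralizer ({t} : Set G) := Subgroup.mem_centralizer_singleton_iff.2 rfl
  have hc2 : 2 ≤ c := Nat.le_of_dvd Nat.card_pos (ht ▸ Subgroup.orderOf_dvd_natCard _ htC)
  have heven : Even (Nat.card G) := even_iff_two_dvd.2 (ht ▸ orderOf_dvd_natCard t)
  by_cases hab : ∀ a b : G, a * b = b * a
  · have h1 : Subgroup.centralizer ({t} : Set G) = ⊤ :=
      (Subgroup.eq_top_iff' _).2 fun g => Subgroup.mem_centralizer_singleton_iff.2 (hab g t)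
    have h2 : c = Nat.card G := by rw [hc, h1, Subgroup.card_top]
    calc Nat.card G = c := h2.symm
      _ ≤ 2 * c ^ 2 := by nlinarith
      _ ≤ _ := Nat.self_le_factorial _
  have hZ : Subgroup.center G = ⊥ := center_eq_bot_of_not_comm hab
  obtain ⟨H, hH, hcase⟩ := Cfsg.Lib.BrauerFowler.exists_small_index heven (by rw [hZ, Subgroup.card_bot]; exact odd_one)
  have hbound := Nat.le_of_dvd (Nat.factorial_pos _) (card_dvd_factorial_index H hH)
  rcases hcase with h2 | h
  · rw [h2] at hbound
    refine hbound.trans (Nat.factorial_le ?_)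
    nlinarith
  set n := Nat.card {t : G // orderOf t = 2}
  set g := Nat.card G with hg
  -- the class of `t` gives many involutions
  have hcl : g ≤ c * n := by
    have h1 := Subgroup.card_mul_index (Subgroup.centralizer ({t} : Set G))
    rw [hg, ← h1, ← hc]
    refine Nat.mul_le_mul_left _ ?_
    rw [Subgroup.index_eq_card]
    refine Nat.card_le_card_of_injective
      (fun q => (⟨q.out * t * q.out⁻¹, by rw [show q.out * t * q.out⁻¹ = MulAut.conj q.out t from rfl, MulEquiv.orderOf_eq, ht]⟩ :
        {t : G // orderOf t = 2})) ?_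
    intro a b hab'
    have e : a.out * t * a.out⁻¹ = b.out * t * b.out⁻¹ := congrArg Subtype.val hab'
    rw [← QuotientGroup.out_eq' a, ← QuotientGroup.out_eq' b, QuotientGroup.eq, Subgroup.mem_centralizer_singleton_iff]
    calc a.out⁻¹ * b.out * t = a.out⁻¹ * (b.out * t * b.out⁻¹) * b.out := by group
      _ = _ := by rw [← e]; group
  refine hbound.trans (Nat.factorial_le ?_)
  have hn0 : 0 < n := by
    rcases Nat.eq_zero_or_pos n with h0 | h0
    · rw [h0, mul_zero] at hcl
      have : 0 < g := Nat.card_pos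
      omega
    · exact h0
  have h3 : 2 * H.index * n ^ 2 < 2 * (2 * c ^ 2) * n ^ 2 := by
    calc 2 * H.index * n ^ 2 < g * (g + n) := h
      _ ≤ (c * n) * (c * n + n) := Nat.mul_le_mul hcl (Nat.add_le_add_right hcl n)
      _ ≤ 2 * (2 * c ^ 2) * n ^ 2 := by nlinarith [Nat.mul_le_mul_right (n ^ 2) (show c ≤ c * c by nlinarith)]
  exact le_of_lt (Nat.lt_of_mul_lt_mul_left (Nat.lt_of_mul_lt_mul_right h3))

end Cfsg.Agent.S0212
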