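import Cfsg.Statements.S0213
import Cfsg.Agent.InvolCalc.Dihedral
import Cfsg.Agent.Chars.Count

set_option autoImplicit false
open Cfsg

namespace Cfsg.Agent.S0213

/-- Thompson Order Formula, two-class case: if every involution of the finite group G is conjugate to exactly one of the non-conjugate involutions x₁, x₂, and nᵢ is the number of pairs (u, v) with u conjugate to x₁, v conjugate to x₂ and xᵢ in the cyclic group generated by uv, then |G| = |C(x₂)| n₁ + |C(x₁)| n₂. -/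
theorem result {G : Type*} [Group G] [Finite G] (x₁ x₂ : G) (h₁ : orderOf x₁ = 2) (h₂ : orderOf x₂ = 2) (hnc : ¬ IsConj x₁ x₂) (hall : ∀ t : G, orderOf t = 2 → IsConj x₁ t ∨ IsConj x₂ t) : Nat.card G = Nat.card (Subgroup.centralizer ({x₂} : Set G)) * Nat.card {p : G × G // IsConj x₁ p.1 ∧ IsConj x₂ p.2 ∧ x₁ ∈ Subgroup.zpowers (p.1 * p.2)} + Nat.card (Subgroup.centralizer ({x₁} : Set G)) * Nat.card {p : G × G // IsConj x₁ p.1 ∧ IsConj x₂ p.2 ∧ x₂ ∈ Subgroup.zpowers (p.1 * p.2)} := by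
  classical
  set C₁ := {u : G // IsConj x₁ u} with hC₁
  set C₂ := {u : G // IsConj x₂ u} with hC₂
  let P : G → Type _ := fun z => {p : G × G // IsConj x₁ p.1 ∧ IsConj x₂ p.2 ∧ z ∈ Subgroup.zpowers (p.1 * p.2)}
  have hord : ∀ {a b : G}, IsConj a b → orderOf a = 2 → orderOf b = 2 := by
    intro a b h ha
    obtain ⟨g, rfl⟩ := isConj_iff.1 h
    rw [show g * a * g⁻¹ = MulAut.conj g a from rfl, MulEquiv.orderOf_eq, ha]
  have hev : ∀ u v, IsConj x₁ u → IsConj x₂ v → Even (orderOf (u * v)) := by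
    intro u v hu hv
    by_contra ho
    obtain ⟨d, -, hd⟩ := Cfsg.Lib.InvolCalc.conj_of_odd (hord hu h₁) (hord hv h₂) (Nat.not_even_iff_odd.1 ho)
    exact hnc ((hu.trans (isConj_iff.2 ⟨d, hd⟩)).trans hv.symm)
  have huniq : ∀ u v z, IsConj x₁ u → IsConj x₂ v → orderOf z = 2 → z ∈ Subgroup.zpowers (u * v) →
      z = (u * v) ^ (orderOf (u * v) / 2) := by
    intro u v z hu hv hz hmem
    obtain ⟨i, rfl⟩ := Subgroup.mem_zpowers_iff.1 hmem
    obtain ⟨h, hh⟩ := hev u v hu hv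
    have h2 : (u * v) ^ (2 * i) = 1 := by rw [two_mul, zpow_add]; exact Cfsg.Lib.InvolCalc.sq_of_order_two hz
    rw [← orderOf_dvd_iff_zpow_eq_one, hh] at h2
    obtain ⟨q, hq⟩ := h2
    rw [show ((h + h : ℕ) : ℤ) * q = 2 * ((h : ℤ) * q) by push_cast; ring] at hq
    have hi : i = (h : ℤ) * q := by omega
    rw [show orderOf (u * v) / 2 = h by omega, ← zpow_natCast]
    rcases Int.even_or_odd' q with ⟨s, rfl | rfl⟩
    · exfalso
      refine Cfsg.Lib.InvolCalc.ne_one_of_order_two hz ?_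
      rw [← orderOf_dvd_iff_zpow_eq_one, hh, hi]
      exact ⟨s, by push_cast; ring⟩
    · rw [← mul_inv_eq_one, ← zpow_neg, ← zpow_add, ← orderOf_dvd_iff_zpow_eq_one, hh, hi]
      exact ⟨s, by push_cast; ring⟩
  have hPeq : ∀ x z, IsConj x z → Nat.card (P z) = Nat.card (P x) := by
    intro x z hxz
    obtain ⟨g, rfl⟩ := isConj_iff.1 hxz
    refine (Nat.card_congr ((Equiv.prodCongr (MulAut.conj g).toEquiv (MulAut.conj g).toEquiv).subtypeEquiv fun p => ?_)).symm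
    have hc : ∀ a b : G, IsConj a b ↔ IsConj a (g * b * g⁻¹) := fun a b =>
      ⟨fun h => h.trans (isConj_iff.2 ⟨g, rfl⟩), fun h => h.trans (isConj_iff.2 ⟨g, rfl⟩ : IsConj b (g * b * g⁻¹)).symm⟩
    show IsConj x₁ p.1 ∧ IsConj x₂ p.2 ∧ x ∈ Subgroup.zpowers (p.1 * p.2) ↔
      IsConj x₁ (g * p.1 * g⁻¹) ∧ IsConj x₂ (g * p.2 * g⁻¹) ∧ g * x * g⁻¹ ∈ Subgroup.zpowers (g * p.1 * g⁻¹ * (g * p.2 * g⁻¹))
    rw [← hc, ← hc, show g * p.1 * g⁻¹ * (g * p.2 * g⁻¹) = g * (p.1 * p.2) * g⁻¹ by group]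
    refine and_congr_right fun _ => and_congr_right fun _ => ?_
    constructor
    · rintro ⟨i, hi⟩
      have hi' : (p.1 * p.2) ^ i = x := hi
      exact ⟨i, by show (g * (p.1 * p.2) * g⁻¹) ^ i = _; rw [conj_zpow, hi']⟩
    · rintro ⟨i, hi⟩
      have hi' : (g * (p.1 * p.2) * g⁻¹) ^ i = g * x * g⁻¹ := hi
      rw [conj_zpow] at hi'
      exact ⟨i, mul_left_cancel (mul_right_cancel hi')⟩
  let F : (Σ z : C₁, P z.1) ⊕ (Σ z : C₂, P z.1) → C₁ × C₂ := Sum.elim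
    (fun q => (⟨q.2.1.1, q.2.2.1⟩, ⟨q.2.1.2, q.2.2.2.1⟩)) (fun q => (⟨q.2.1.1, q.2.2.1⟩, ⟨q.2.1.2, q.2.2.2.1⟩))
  have hF : Function.Bijective F := by
    constructor
    · rintro (⟨⟨z, hz⟩, ⟨⟨u, v⟩, hu, hv, hm⟩⟩ | ⟨⟨z, hz⟩, ⟨⟨u, v⟩, hu, hv, hm⟩⟩)
        (⟨⟨z', hz'⟩, ⟨⟨u', v'⟩, hu', hv', hm'⟩⟩ | ⟨⟨z', hz'⟩, ⟨⟨u', v'⟩, hu', hv', hm'⟩⟩) h
      all_goals
        obtain rfl : u = u' := congrArg (fun w : C₁ × C₂ => w.1.1) h
        obtain rfl : v = v' := congrArg (fun w : C₁ × C₂ => w.2.1) h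
      · obtain rfl : z = z' := (huniq u v z hu hv (hord hz h₁) hm).trans (huniq u v z' hu hv (hord hz' h₁) hm').symm
        rfl
      · exact absurd (hz.trans ((huniq u v z hu hv (hord hz h₁) hm).trans
          (huniq u v z' hu hv (hord hz' h₂) hm').symm ▸ hz'.symm : IsConj z x₂)) hnc
      · exact absurd (hz'.trans ((huniq u v z' hu hv (hord hz' h₁) hm').trans
          (huniq u v z hu hv (hord hz h₂) hm).symm ▸ hz.symm : IsConj z' x₂)) hnc
      · obtain rfl : z = z' := (huniq u v z hu hv (hord hz h₂) hm).trans (huniq u v z' hu hv (hord hz' h₂) hm').symm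
        rfl
    · rintro ⟨⟨u, hu⟩, ⟨v, hv⟩⟩
      obtain ⟨hz, -, -⟩ := Cfsg.Lib.InvolCalc.central_spec (hord hu h₁) (hord hv h₂) (hev u v hu hv)
      rcases hall _ hz with h | h
      · exact ⟨Sum.inl ⟨⟨_, h⟩, ⟨(u, v), hu, hv, Subgroup.npow_mem_zpowers _ _⟩⟩, rfl⟩
      · exact ⟨Sum.inr ⟨⟨_, h⟩, ⟨(u, v), hu, hv, Subgroup.npow_mem_zpowers _ _⟩⟩, rfl⟩
  haveI : Fintype C₁ := Fintype.ofFinite _
  haveI : Fintype C₂ := Fintype.ofFinite _
  haveI : ∀ z, Finite (P z) := fun z => inferInstanceAs (Finite {p : G × G // _})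
  have e := Nat.card_eq_of_bijective F hF
  have s₁ : Nat.card (Σ z : C₁, P z.1) = Nat.card C₁ * Nat.card (P x₁) := by
    rw [Nat.card_sigma, Finset.sum_congr rfl (fun (z : C₁) _ => hPeq x₁ z.1 z.2), Finset.sum_const, smul_eq_mul,
      Finset.card_univ, ← Nat.card_eq_fintype_card]
  have s₂ : Nat.card (Σ z : C₂, P z.1) = Nat.card C₂ * Nat.card (P x₂) := by
    rw [Nat.card_sigma, Finset.sum_congr rfl (fun (z : C₂) _ => hPeq x₂ z.1 z.2), Finset.sum_const, smul_eq_mul,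
      Finset.card_univ, ← Nat.card_eq_fintype_card]
  rw [Nat.card_prod, Nat.card_sum, s₁, s₂] at e
  have k₁ : Nat.card C₁ * Nat.card (Subgroup.centralizer ({x₁} : Set G)) = Nat.card G := Cfsg.Lib.Chars.card_isConj_mul x₁
  have k₂ : Nat.card C₂ * Nat.card (Subgroup.centralizer ({x₂} : Set G)) = Nat.card G := Cfsg.Lib.Chars.card_isConj_mul x₂
  show Nat.card G = Nat.card (Subgroup.centralizer ({x₂} : Set G)) * Nat.card (P x₁) +
    Nat.card (Subgroup.centralizer ({x₁} : Set G)) * Nat.card (P x₂)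
  refine Nat.eq_of_mul_eq_mul_left (Nat.card_pos : 0 < Nat.card G) ?_
  calc Nat.card G * Nat.card G = (Nat.card C₁ * Nat.card C₂) *
        (Nat.card (Subgroup.centralizer ({x₁} : Set G)) * Nat.card (Subgroup.centralizer ({x₂} : Set G))) := by
        nth_rw 1 [← k₁]; rw [← k₂]; ring
    _ = (Nat.card C₁ * Nat.card (P x₁) + Nat.card C₂ * Nat.card (P x₂)) *
        (Nat.card (Subgroup.centralizer ({x₁} : Set G)) * Nat.card (Subgroup.centralizer ({x₂} : Set G))) := by rw [e]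
    _ = (Nat.card C₁ * Nat.card (Subgroup.centralizer ({x₁} : Set G))) * (Nat.card (Subgroup.centralizer ({x₂} : Set G)) * Nat.card (P x₁)) +
        (Nat.card C₂ * Nat.card (Subgroup.centralizer ({x₂} : Set G))) * (Nat.card (Subgroup.centralizer ({x₁} : Set G)) * Nat.card (P x₂)) := by ring
    _ = _ := by rw [k₁, k₂]; ring

end Cfsg.Agent.S0213
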