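import Cfsg.Statements.S0214
import Cfsg.Agent.InvolCalc.StronglyEmbedded

set_option autoImplicit false
open Cfsg

namespace Cfsg.Agent.S0214

open Cfsg.Lib.StrongEmb

/-- Let H be a proper subgroup of the finite group G and P a nontrivial Sylow 2-subgroup of H. Then H is strongly embedded in G if and only if N_G(X) ≤ H for every nontrivial subgroup X of P. -/
theorem result {G : Type*} [Group G] [Finite G] (H : Subgroup G) (hH : H ≠ ⊤) (P : Sylow 2 ↥H) (hP : (P : Subgroup ↥H) ≠ ⊥) : Cfsg.IsStronglyEmbedded H ↔ (∀ X : Subgroup ↥H, X ≤ (P : Subgroup ↥H) → X ≠ ⊥ → Subgroup.normalizer ((X.map H.subtype : Subgroup G) : Set G) ≤ H) := by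
  haveI : Fact (Nat.Prime 2) := ⟨Nat.prime_two⟩
  refine ⟨fun h X hX hne => normalizers_of h (Subgroup.map_subtype_le X) ((P.isPGroup'.to_le hX).map _) ?_, of_normalizers hH P hP⟩
  rw [Ne, Subgroup.map_eq_bot_iff_of_injective _ H.subtype_injective]
  exact hne

end Cfsg.Agent.S0214
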