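import Cfsg.Statements.S0216
import Cfsg.Agent.InvolCalc.Dihedral

set_option autoImplicit false
open Cfsg

namespace Cfsg.Agent.S0216

/-- For an involution u in a Sylow 2-subgroup P of a finite group G, the following are equivalent: no G-conjugate of u other than u lies in P; every commutator of u with an element of G has odd order. -/
theorem result {G : Type*} [Group G] [Finite G] (P : Sylow 2 G) (u : G) (hu : orderOf u = 2) (huP : u ∈ P) : (∀ g : G, g * u * g⁻¹ ∈ P → g * u * g⁻¹ = u) ↔ (∀ g : G, Odd (orderOf (u * g * u⁻¹ * g⁻¹))) := by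
  haveI : Fact (Nat.Prime 2) := ⟨Nat.prime_two⟩
  have hui : u⁻¹ = u := Cfsg.Lib.InvolCalc.inv_of_order_two hu
  have hrw : ∀ g : G, u * g * u⁻¹ * g⁻¹ = u * (g * u * g⁻¹) := fun g => by rw [hui]; group
  have hord : ∀ g : G, orderOf (g * u * g⁻¹) = 2 := fun g => by
    rw [show g * u * g⁻¹ = MulAut.conj g u from rfl, MulEquiv.orderOf_eq, hu]
  constructor
  · intro hiso g
    rw [hrw]
    set v := g * u * g⁻¹ with hv
    have hvo : orderOf v = 2 := hord g
    rw [← Nat.not_even_iff_odd]
    intro heven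
    obtain ⟨hzo, hzu, -⟩ := Cfsg.Lib.InvolCalc.central_spec hu hvo heven
    set z := (u * v) ^ (orderOf (u * v) / 2) with hz
    -- the involution `u * z` is a conjugate of `u`
    have hconj : ∃ h : G, h * u * h⁻¹ = u * z := by
      by_cases h4 : 4 ∣ orderOf (u * v)
      · obtain ⟨d, -, hd⟩ := (Cfsg.Lib.InvolCalc.conj_mul_central_iff hu hvo heven).2 h4
        exact ⟨d, hd⟩
      · have hodd : Odd (orderOf (u * v) / 2) := by
          obtain ⟨t, ht⟩ := heven
          rw [show orderOf (u * v) / 2 = t by omega]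
          rcases Nat.even_or_odd t with ⟨s, hs⟩ | h
          · exact absurd ⟨s, by omega⟩ h4
          · exact h
        obtain ⟨t, ht⟩ := hodd
        -- `u * (u * v) ^ (2 * t + 1)` is conjugate to `v`
        have hvz : ((u * v) ^ (t : ℤ))⁻¹ * v * (u * v) ^ (t : ℤ) = u * z := by
          have h1 : u * (u * v) ^ (t : ℤ) = ((u * v) ^ (t : ℤ))⁻¹ * u := by
            rw [← zpow_neg]
            exact Cfsg.Lib.InvolCalc.flip_zpow hu hvo (t : ℤ)
          rw [hz, ht]
          calc ((u * v) ^ (t : ℤ))⁻¹ * v * (u * v) ^ (t : ℤ)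
              = (((u * v) ^ (t : ℤ))⁻¹ * u) * ((u⁻¹ * v) * (u * v) ^ (t : ℤ)) := by group
            _ = u * ((u * v) ^ (t : ℤ) * ((u * v) * (u * v) ^ (t : ℤ))) := by rw [← h1, hui]; simp only [mul_assoc]
            _ = _ := by rw [← zpow_natCast, ← zpow_one_add, ← zpow_add]; congr 2; push_cast; ring
        refine ⟨((u * v) ^ (t : ℤ))⁻¹ * g, ?_⟩
        rw [← hvz, hv]; group
    obtain ⟨h, hh⟩ := hconj
    have hcomm : Commute u (u * z) := (Commute.refl u).mul_right hzu.symm
    set Q := Subgroup.closure ({u, u * z} : Set G) with hQ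
    haveI : IsMulCommutative Q := Subgroup.isMulCommutative_closure (by
      rintro a (rfl | rfl) b (rfl | rfl)
      exacts [rfl, hcomm.eq, hcomm.eq.symm, rfl])
    have hQp : IsPGroup 2 Q := by
      intro q
      refine ⟨1, Subtype.ext ?_⟩
      suffices hsq : ∀ x ∈ Q, x ^ 2 = 1 by simpa using hsq q q.2
      intro x hx
      induction hx using Subgroup.closure_induction with
      | mem w hw =>
        rcases hw with rfl | rfl
        · rw [← hu, pow_orderOf_eq_one]
        · rw [← hh, conj_pow, ← hu, pow_orderOf_eq_one]; group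
      | one => exact one_pow _
      | mul a b ha hb iha ihb =>
        rw [(show Commute a b from congrArg Subtype.val (mul_comm' (⟨a, ha⟩ : Q) ⟨b, hb⟩)).mul_pow, iha, ihb, one_mul]
      | inv a _ ih => rw [inv_pow, ih, inv_one]
    obtain ⟨R, hR⟩ := hQp.exists_le_sylow
    obtain ⟨k, hk⟩ := MulAction.exists_smul_eq G R P
    have hmem : ∀ x ∈ R, k * x * k⁻¹ ∈ P := fun x hx => by
      show k * x * k⁻¹ ∈ (P : Subgroup G)
      rw [← hk, Sylow.coe_subgroup_smul]
      exact ⟨x, hx, rfl⟩
    have e1 := hiso k (hmem u (hR (Subgroup.subset_closure (Or.inl rfl))))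
    have e2 := hiso (k * h) (by
      have := hmem (u * z) (hR (Subgroup.subset_closure (Or.inr rfl)))
      rwa [← hh, show k * (h * u * h⁻¹) * k⁻¹ = k * h * u * (k * h)⁻¹ by group] at this)
    have e3 : k * (u * z) * k⁻¹ = k * u * k⁻¹ := by
      rw [e1, ← hh]
      exact (by group : k * (h * u * h⁻¹) * k⁻¹ = k * h * u * (k * h)⁻¹).trans e2
    have e4 : u * z = u * 1 := by rw [mul_one]; exact mul_left_cancel (mul_right_cancel e3)
    exact Cfsg.Lib.InvolCalc.ne_one_of_order_two hzo (mul_left_cancel e4)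
  · intro hodd g hg
    have h := hodd g
    rw [hrw] at h
    obtain ⟨j, hj⟩ := IsPGroup.iff_orderOf.mp P.isPGroup' (⟨_, mul_mem huP hg⟩ : (P : Subgroup G))
    rw [Subgroup.orderOf_mk] at hj
    rcases j with _ | j
    · rw [pow_zero, orderOf_eq_one_iff] at hj
      exact (eq_inv_of_mul_eq_one_right hj).trans hui
    · exfalso
      rw [hj, ← Nat.not_even_iff_odd] at h
      exact h (even_iff_two_dvd.2 (dvd_pow_self 2 (Nat.succ_ne_zero j)))

end Cfsg.Agent.S0216
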