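import Cfsg.Statements.S0220
import Cfsg.Agent.S0219
import Mathlib.GroupTheory.Nilpotent

set_option autoImplicit false
open Cfsg

namespace Cfsg.Agent.S0220

/-- If x is an involution of a finite group G and a Sylow 2-subgroup of the centralizer of x is cyclic, then G has a subgroup of index 2; in particular G is not simple unless it has order 2. -/
theorem result {G : Type*} [Group G] [Finite G] (x : G) (hx : orderOf x = 2) (S : Sylow 2 ↥(Subgroup.centralizer ({x} : Set G))) (hS : IsCyclic (S : Subgroup ↥(Subgroup.centralizer ({x} : Set G)))) : ∃ H : Subgroup G, H.index = 2 := by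
  haveI : Fact (Nat.Prime 2) := ⟨Nat.prime_two⟩
  revert hS S
  set C := Subgroup.centralizer ({x} : Set G) with hC
  intro S hS
  have heven : Even (Nat.card G) := even_iff_two_dvd.2 (hx ▸ orderOf_dvd_natCard x)
  set S' := (S : Subgroup C).map C.subtype with hS'
  have hS'c : IsCyclic S' := by
    haveI : IsCyclic (S : Subgroup C) := hS
    exact isCyclic_of_surjective (C.subtype.subgroupMap (S : Subgroup C)) (C.subtype.subgroupMap_surjective _)
  have hS'p : IsPGroup 2 S' := S.isPGroup'.map _
  have hxC : x ∈ C := Subgroup.mem_centralizer_singleton_iff.2 rfl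
  have hS'C : S' ≤ C := Subgroup.map_subtype_le _
  have hmax : ∀ R : Subgroup G, IsPGroup 2 R → S' ≤ R → R ≤ C → R = S' := by
    intro R hR hle hRC
    have h1 : (S : Subgroup C) ≤ R.subgroupOf C := fun s hs => hle (Subgroup.mem_map_of_mem _ hs)
    have h2 := S.is_maximal' (hR.of_equiv (Subgroup.subgroupOfEquivOfLe hRC).symm) h1
    rw [hS', ← h2, Subgroup.map_subgroupOf_eq_of_le hRC]
  have hxS : x ∈ S' := by
    have hz : Subgroup.zpowers x ≤ Subgroup.normalizer (S' : Set G) := Subgroup.zpowers_le.2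
      (Subgroup.centralizer_le_normalizer _ (Subgroup.mem_centralizer_iff.2 fun s hs =>
        (Subgroup.mem_centralizer_singleton_iff.1 (hS'C hs))))
    have hp2 : IsPGroup 2 (Subgroup.zpowers x) := IsPGroup.of_card (n := 1) (by rw [Nat.card_zpowers, hx, pow_one])
    have h := hmax _ (hS'p.to_sup_of_normal_left' hp2 hz) le_sup_left (sup_le hS'C (Subgroup.zpowers_le.2 hxC))
    exact h ▸ Subgroup.mem_sup_right (Subgroup.mem_zpowers x)
  obtain ⟨T, hT⟩ := hS'p.exists_le_sylow
  have hTS : (T : Subgroup G) = S' := by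
    refine le_antisymm ?_ hT
    by_contra hnot
    haveI := T.isPGroup'.isNilpotent
    have hlt : S'.subgroupOf (T : Subgroup G) < ⊤ := lt_top_iff_ne_top.2 fun h => hnot (Subgroup.subgroupOf_eq_top.1 h)
    have hn := Group.normalizerCondition_of_isNilpotent (G := (T : Subgroup G)) _ hlt
    obtain ⟨⟨n, hnT⟩, hn1, hn2⟩ := SetLike.exists_of_lt hn
    have hnorm : ∀ s ∈ S', n * s * n⁻¹ ∈ S' := fun s hs => by
      have := (Subgroup.mem_normalizer_iff.1 hn1 ⟨s, hT hs⟩).1 hs
      exact this
    have hnx : n * x * n⁻¹ = x := by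
      have hxinv : ∀ s : S', orderOf s = 2 → (s : G) = x := by
        intro s hs
        haveI := hS'c
        classical
        haveI : Fintype S' := Fintype.ofFinite _
        have hcard := IsCyclic.card_orderOf_eq_totient (α := S') (d := 2) (by
          have := orderOf_dvd_card (x := s); rwa [hs] at this)
        rw [show Nat.totient 2 = 1 by decide, Finset.card_eq_one] at hcard
        obtain ⟨u, hu⟩ := hcard
        have e1 : s ∈ ({u} : Finset S') := hu ▸ Finset.mem_filter.2 ⟨Finset.mem_univ _, hs⟩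
        have e2 : (⟨x, hxS⟩ : S') ∈ ({u} : Finset S') := hu ▸ Finset.mem_filter.2 ⟨Finset.mem_univ _, by
          rw [Subgroup.orderOf_mk]; exact hx⟩
        rw [Finset.mem_singleton] at e1 e2
        rw [e1, ← e2]
      refine hxinv ⟨_, hnorm x hxS⟩ ?_
      rw [Subgroup.orderOf_mk, show n * x * n⁻¹ = MulAut.conj n x from rfl, MulEquiv.orderOf_eq, hx]
    have hnC : n ∈ C := Subgroup.mem_centralizer_singleton_iff.2 (mul_inv_eq_iff_eq_mul.1 hnx)
    have h := hmax ((T : Subgroup G) ⊓ C) (T.isPGroup'.to_le inf_le_left) (le_inf hT hS'C) inf_le_right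
    exact hn2 (h ▸ Subgroup.mem_inf.2 ⟨hnT, hnC⟩ : n ∈ S')
  exact Cfsg.Agent.S0219.result heven T (hTS ▸ hS'c)

end Cfsg.Agent.S0220
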