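import Cfsg.Statements.S0221
import Cfsg.Agent.Transfer.ThompsonTransfer
import Cfsg.Agent.PGroups.NormalFour

set_option autoImplicit false
open Cfsg

namespace Cfsg.Agent.S0221

open Subgroup

/-- An elementary abelian four group centralised by an involution outside it gives rank three. -/
lemma exists_eight {G : Type*} [Group G] [Finite G] (y : G) (hy : orderOf y = 2) (K : Subgroup G)
    (hK4 : Nat.card K = 4) (hK2 : ∀ k ∈ K, k * k = 1) (hyK : ∀ k ∈ K, k * y = y * k) (hy' : y ∉ K) :
    ∃ E : Subgroup G, E ≤ centralizer ({y} : Set G) ∧ Nat.card E = 8 ∧ ∀ e ∈ E, e ^ 2 = 1 := by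
  have hyy : y * y = 1 := by rw [← pow_two, ← hy]; exact pow_orderOf_eq_one y
  have hcz : ∀ (k : K) (m : zpowers y), Commute (K.subtype k) ((zpowers y).subtype m) := by
    rintro k ⟨m, i, rfl⟩
    exact (show Commute (k : G) y from hyK k k.2).zpow_right i
  let f := MonoidHom.noncommCoprod K.subtype (zpowers y).subtype hcz
  have hym : ∀ m ∈ zpowers y, m = 1 ∨ m = y := by
    rintro _ ⟨i, rfl⟩
    show y ^ i = 1 ∨ y ^ i = y
    rw [← zpow_mod_orderOf, hy]
    rcases Int.emod_two_eq_zero_or_one i with h | h <;> rw [Nat.cast_ofNat, h]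
    · exact Or.inl (zpow_zero y)
    · exact Or.inr (zpow_one y)
  have hf : Function.Injective f := by
    refine (injective_iff_map_eq_one f).2 ?_
    rintro ⟨⟨k, hk⟩, ⟨m, hm⟩⟩ h
    have h' : k * m = 1 := h
    rcases hym m hm with rfl | rfl
    · rw [mul_one] at h'; subst h'; rfl
    · exact absurd (by rw [← inv_eq_of_mul_eq_one_right h']; exact inv_mem hk) hy'
  refine ⟨f.range, ?_, ?_, ?_⟩
  · rintro _ ⟨⟨k, m⟩, rfl⟩
    rw [mem_centralizer_singleton_iff]
    show (k : G) * m * y = y * ((k : G) * m)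
    rcases hym m m.2 with h | h <;> rw [h]
    · rw [mul_one, hyK k k.2]
    · rw [← mul_assoc, ← hyK k k.2]
  · rw [← Nat.card_congr (MonoidHom.ofInjective hf).toEquiv, Nat.card_prod, hK4, Nat.card_zpowers, hy]
  · rintro _ ⟨⟨k, m⟩, rfl⟩
    rw [← map_pow, show (k, m) ^ 2 = 1 from ?_, map_one]
    refine Prod.ext (Subtype.ext ?_) (Subtype.ext ?_)
    · show (k : G) ^ 2 = 1
      rw [pow_two]; exact hK2 k k.2
    · show (m : G) ^ 2 = 1
      rcases hym m m.2 with h | h <;> rw [h]
      · exact one_pow 2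
      · rw [pow_two]; exact hyy

/-- Let G be a finite group with no subgroup of index 2 whose 2-rank is at least 3 (it contains an elementary abelian subgroup of order 8). Then the centralizer of every involution of G also contains an elementary abelian subgroup of order 8. -/
theorem result {G : Type*} [Group G] [Finite G] (hno : ∀ H : Subgroup G, H.index ≠ 2) (hrank : ∃ E : Subgroup G, Nat.card E = 8 ∧ ∀ e ∈ E, e ^ 2 = 1) (x : G) (hx : orderOf x = 2) : ∃ E : Subgroup G, E ≤ Subgroup.centralizer ({x} : Set G) ∧ Nat.card E = 8 ∧ ∀ e ∈ E, e ^ 2 = 1 := by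
  classical
  haveI : Fact (Nat.Prime 2) := ⟨Nat.prime_two⟩
  obtain ⟨E, hE8, hE2⟩ := hrank
  obtain ⟨S, hES⟩ := (IsPGroup.of_card (n := 3) (show Nat.card E = 2 ^ 3 by rw [hE8]; norm_num)).exists_le_sylow
  obtain ⟨U₀, hU₀n, hU₀⟩ := Cfsg.Lib.PGroups.exists_normal_four S.isPGroup' (E.subgroupOf S)
    (by rw [Nat.card_congr (subgroupOfEquivOfLe hES).toEquiv, hE8])
    (fun e he => Subtype.ext (by
      show (e : G) * e = 1
      rw [← pow_two]
      exact hE2 e he))
  haveI := hU₀n
  -- a central involution `z` in `U₀`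
  obtain ⟨z, hzU, hzc, hz1⟩ : ∃ z ∈ U₀, z ∈ center (S : Subgroup G) ∧ z ≠ 1 := by
    haveI : Nontrivial U₀ := Finite.one_lt_card_iff_nontrivial.1 (by rw [hU₀.card_four]; norm_num)
    obtain ⟨K, hK, -, hKU, hi⟩ := Cfsg.Lib.PGroups.exists_normal_relIndex_prime S.isPGroup'
      (N := ⊥) (M := U₀) (bot_lt_iff_ne_bot.2 ((nontrivial_iff_ne_bot _).1 inferInstance))
    rw [relIndex_bot_left] at hi
    haveI : Nontrivial K := Finite.one_lt_card_iff_nontrivial.1 (by omega)
    obtain ⟨⟨z, hz⟩, hne⟩ := exists_ne (1 : K)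
    refine ⟨z, hKU hz, mem_center_iff.2 fun g => mul_inv_eq_iff_eq_mul.1 ?_,
      fun h => hne (Subtype.ext h)⟩
    by_contra hcon
    have hc := Nat.card_eq_two_iff.1 hi
    obtain ⟨a, b, -, hab⟩ := hc
    have hmem : ∀ y : K, y = a ∨ y = b := fun y => by
      have := Set.mem_univ y; rw [← hab] at this; simpa using this
    have h1 : (⟨g * z * g⁻¹, hK.conj_mem z hz g⟩ : K) ≠ ⟨z, hz⟩ := fun h => hcon (congrArg Subtype.val h)
    have h2 : (⟨g * z * g⁻¹, hK.conj_mem z hz g⟩ : K) ≠ 1 := fun h => hne (Subtype.ext (by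
      show z = 1
      exact conj_eq_one_iff.1 (congrArg Subtype.val h)))
    rcases hmem ⟨g * z * g⁻¹, hK.conj_mem z hz g⟩ with e1 | e1 <;> rcases hmem ⟨z, hz⟩ with e2 | e2 <;>
      rcases hmem 1 with e3 | e3
    all_goals first
      | exact h1 (e1.trans e2.symm)
      | exact h2 (e1.trans e3.symm)
      | exact hne (e2.trans e3.symm)
  have hUsq : ∀ w ∈ U₀, w * w = 1 := fun w hw => by
    have := Monoid.pow_exponent_eq_one (⟨w, hw⟩ : U₀)
    rw [hU₀.exponent_two, pow_two] at this
    exact congrArg Subtype.val this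
  obtain ⟨u, huU, hu1, huz⟩ : ∃ u ∈ U₀, u ≠ 1 ∧ u ≠ z := by
    by_contra hall
    push Not at hall
    have h : (U₀ : Set (S : Subgroup G)) ⊆ {1, z} := fun w hw => by
      by_cases h1 : w = 1
      · simp [h1]
      · simp [hall w hw h1]
    have := (Set.ncard_le_ncard h).trans (Set.ncard_insert_le _ _)
    rw [Set.ncard_singleton, show (U₀ : Set (S : Subgroup G)).ncard = 4 from hU₀.card_four] at this
    omega
  have hzz := hUsq z hzU
  have hzu : z * u ∈ U₀ := mul_mem hzU huU
  have hfour : ∀ w ∈ U₀, w = 1 ∨ w = z ∨ w = u ∨ w = z * u := by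
    have hne1 : z * u ≠ 1 := fun h => huz (by
      rw [← inv_eq_of_mul_eq_one_right h, inv_eq_of_mul_eq_one_right hzz])
    have hsub : ({1, z, u, z * u} : Set (S : Subgroup G)) ⊆ U₀ := by
      rintro w (rfl | rfl | rfl | rfl)
      exacts [one_mem _, hzU, huU, hzu]
    have heq := Set.eq_of_subset_of_ncard_le hsub (by
      rw [show (U₀ : Set (S : Subgroup G)).ncard = 4 from hU₀.card_four]
      rw [Set.ncard_insert_of_notMem, Set.ncard_insert_of_notMem, Set.ncard_pair]
      · exact fun h => hz1 (mul_right_cancel (h.symm.trans (one_mul u).symm))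
      · simp only [Set.mem_insert_iff, Set.mem_singleton_iff, not_or]
        exact ⟨huz.symm, fun h => hu1 (mul_left_cancel (h.symm.trans (mul_one z).symm))⟩
      · simp only [Set.mem_insert_iff, Set.mem_singleton_iff, not_or]
        exact ⟨hz1.symm, hu1.symm, hne1.symm⟩)
    intro w hw
    have : w ∈ ({1, z, u, z * u} : Set (S : Subgroup G)) := heq.symm ▸ hw
    simpa using this
  -- the centraliser of `u` in `S`
  set A := centralizer ({u} : Set (S : Subgroup G)) with hAdef
  have hAU : ∀ a ∈ A, ∀ w ∈ U₀, a * w = w * a := by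
    intro a ha w hw
    have hau := mem_centralizer_singleton_iff.1 ha
    have haz : a * z = z * a := mem_center_iff.1 hzc a
    rcases hfour w hw with rfl | rfl | rfl | rfl
    · simp
    · exact haz
    · exact hau
    · rw [← mul_assoc, haz, mul_assoc, hau, mul_assoc]
  have hconj : ∀ s : (S : Subgroup G), s ∉ A → s * u * s⁻¹ = z * u := by
    intro s hs
    rcases hfour _ (hU₀n.conj_mem u huU s) with h | h | h | h
    · exact absurd (conj_eq_one_iff.1 h) hu1
    · refine absurd ?_ huz
      have h' := congrArg (fun w => s⁻¹ * w * s) h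
      rw [show s⁻¹ * (s * u * s⁻¹) * s = u by group] at h'
      rw [h', mul_assoc, ← mem_center_iff.1 hzc s]
      group
    · exact absurd (mem_centralizer_singleton_iff.2 (mul_inv_eq_iff_eq_mul.1 h)) hs
    · exact h
  have hAidx : A.index ≤ 2 := by
    rcases eq_or_ne A ⊤ with h | h
    · rw [h, index_top]; omega
    obtain ⟨s₀, -, hs₀⟩ := SetLike.exists_of_lt (lt_top_iff_ne_top.2 h)
    refine (le_of_eq ?_)
    rw [index_eq_two_iff]
    refine ⟨s₀, fun s => ?_⟩
    by_cases hs : s ∈ A
    · exact Or.inr ⟨hs, fun hc => hs₀ ((mul_mem_cancel_left hs).1 hc)⟩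
    · refine Or.inl ⟨?_, hs⟩
      refine mem_centralizer_singleton_iff.2 (mul_inv_eq_iff_eq_mul.1 ?_)
      calc s * s₀ * u * (s * s₀)⁻¹ = s * (s₀ * u * s₀⁻¹) * s⁻¹ := by group
        _ = s * z * s⁻¹ * (s * u * s⁻¹) := by rw [hconj s₀ hs₀]; group
        _ = z * (z * u) := by rw [hconj s hs, mem_center_iff.1 hzc s, mul_inv_cancel_right]
        _ = u := by rw [← mul_assoc, hzz, one_mul]
  set A' := A.map (S : Subgroup G).subtype with hA'
  -- `x` is conjugate to an element of `A'`
  obtain ⟨g, hg⟩ : ∃ g : G, g⁻¹ * x * g ∈ A' := by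
    by_contra hall
    push Not at hall
    have hSx : ∃ g : G, g⁻¹ * x * g ∈ (S : Subgroup G) := by
      obtain ⟨R, hR⟩ := (IsPGroup.of_card (n := 1)
        (show Nat.card (zpowers x) = 2 ^ 1 by rw [Nat.card_zpowers, hx, pow_one])).exists_le_sylow
      obtain ⟨g, hg⟩ := MulAction.exists_smul_eq G R S
      refine ⟨g⁻¹, ?_⟩
      rw [inv_inv, ← hg, Sylow.coe_subgroup_smul]
      exact ⟨x, hR (mem_zpowers x), rfl⟩
    have h2 : A.index = 2 := by
      rcases Nat.lt_or_eq_of_le hAidx with h | h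
      · have h1 : A.index = 1 := by
          have := A.index_ne_zero_of_finite
          omega
        rw [index_eq_one] at h1
        obtain ⟨g, hg⟩ := hSx
        exact absurd ⟨⟨_, hg⟩, h1 ▸ mem_top _, rfl⟩ (hall g)
      · exact h
    obtain ⟨m, hm⟩ : Odd (S : Subgroup G).index := by
      rw [← Nat.not_even_iff_odd, even_iff_two_dvd]
      exact S.not_dvd_index
    obtain ⟨M, -, hMi, -⟩ := Cfsg.Lib.Transfer.exists_index_two_not_mem A' (m := (S : Subgroup G).index)
      ⟨m, hm⟩ (by rw [hA', index_map_subtype, h2]) hx hall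
    exact hno M hMi
  -- it suffices to treat the conjugate
  suffices h : ∃ E : Subgroup G, E ≤ centralizer ({g⁻¹ * x * g} : Set G) ∧ Nat.card E = 8 ∧ ∀ e ∈ E, e ^ 2 = 1 by
    obtain ⟨E', h1, h2, h3⟩ := h
    refine ⟨E'.map (MulAut.conj g).toMonoidHom, ?_, ?_, ?_⟩
    · rintro _ ⟨e, he, rfl⟩
      rw [mem_centralizer_singleton_iff]
      show g * e * g⁻¹ * x = x * (g * e * g⁻¹)
      calc g * e * g⁻¹ * x = g * (e * (g⁻¹ * x * g)) * g⁻¹ := by group
        _ = g * ((g⁻¹ * x * g) * e) * g⁻¹ := by rw [mem_centralizer_singleton_iff.1 (h1 he)]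
        _ = x * (g * e * g⁻¹) := by group
    · rw [card_map_of_injective (MulAut.conj g).injective, h2]
    · rintro _ ⟨e, he, rfl⟩
      rw [← map_pow, h3 e he, map_one]
  set y := g⁻¹ * x * g with hydef
  have hy : orderOf y = 2 := by
    rw [hydef, show g⁻¹ * x * g = MulAut.conj g⁻¹ x by simp, MulEquiv.orderOf_eq, hx]
  obtain ⟨ys, hysA, hyse⟩ := hg
  set U := U₀.map (S : Subgroup G).subtype with hUdef
  by_cases hyU : y ∈ U
  · -- `y` in `U`
    by_cases hyE : y ∈ E
    · refine ⟨E, fun e he => mem_centralizer_singleton_iff.2 ?_, hE8, hE2⟩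
      have h2 : ∀ a ∈ E, a⁻¹ = a := fun a ha =>
        inv_eq_of_mul_eq_one_right (by rw [← pow_two]; exact hE2 a ha)
      calc e * y = (e * y)⁻¹ := (h2 _ (mul_mem he hyE)).symm
        _ = y * e := by rw [mul_inv_rev, h2 e he, h2 y hyE]
    have h4 : 2 ^ 2 ∣ Nat.card ↥(E ⊓ A') := by
      have e1 : A'.relIndex E ≤ 2 := by
        refine le_trans ?_ (show A'.relIndex (S : Subgroup G) ≤ 2 by
          rw [hA', relIndex, show (A.map (S : Subgroup G).subtype).subgroupOf (S : Subgroup G) = A from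
            comap_map_eq_self_of_injective (S : Subgroup G).subtype_injective A]
          exact hAidx)
        exact Nat.le_of_dvd (Nat.pos_of_ne_zero index_ne_zero_of_finite) (by
          haveI : (A'.subgroupOf (S : Subgroup G)).Normal := by
            rw [show A'.subgroupOf (S : Subgroup G) = A from
              comap_map_eq_self_of_injective (S : Subgroup G).subtype_injective A]
            rcases Nat.lt_or_eq_of_le hAidx with h | h
            · have h1 : A.index = 1 := by
                have := A.index_ne_zero_of_finite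
                omega
              rw [index_eq_one.1 h1]; infer_instance
            · exact normal_of_index_eq_two h
          have h5 := relIndex_dvd_index_of_normal (A'.subgroupOf (S : Subgroup G)) (E.subgroupOf S)
          rwa [relIndex_subgroupOf hES] at h5)
      have e2 := relIndex_mul_relIndex (⊥ : Subgroup G) (E ⊓ A') E bot_le inf_le_left
      rw [relIndex_bot_left, relIndex_bot_left, inf_relIndex_left, hE8] at e2
      have e3 : A'.relIndex E ≠ 0 := index_ne_zero_of_finite
      rcases Nat.lt_or_eq_of_le e1 with h | h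
      · rw [show A'.relIndex E = 1 by omega, mul_one] at e2; rw [e2]; norm_num
      · rw [h] at e2; exact ⟨1, by omega⟩
    obtain ⟨K, hK4⟩ := Sylow.exists_subgroup_card_pow_prime (G := ↥(E ⊓ A')) 2 h4
    refine exists_eight y hy (K.map (E ⊓ A').subtype) ?_ ?_ ?_ ?_
    · rw [card_map_of_injective (E ⊓ A').subtype_injective, hK4]; norm_num
    · rintro _ ⟨k, -, rfl⟩
      rw [← pow_two]; exact hE2 _ k.2.1
    · rintro _ ⟨k, -, rfl⟩
      obtain ⟨a, ha, hae⟩ := k.2.2
      obtain ⟨w, hw, hwe⟩ := hyU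
      show (k : G) * y = y * k
      rw [← hae, ← hwe]
      exact congrArg Subtype.val (hAU a ha w hw)
    · rintro ⟨k, -, hk⟩
      exact hyE (hk ▸ k.2.1)
  · -- `y` outside `U`
    refine exists_eight y hy U ?_ ?_ ?_ hyU
    · rw [hUdef, card_map_of_injective (S : Subgroup G).subtype_injective, hU₀.card_four]
    · rintro _ ⟨w, hw, rfl⟩
      exact congrArg Subtype.val (hUsq w hw)
    · rintro _ ⟨w, hw, rfl⟩
      rw [← hyse]
      exact (congrArg Subtype.val (hAU ys hysA w hw)).symm

end Cfsg.Agent.S0221
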