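import Cfsg.Statements.S0224
import Cfsg.Agent.InvolCalc.StronglyEmbedded

set_option autoImplicit false
open Cfsg

namespace Cfsg.Agent.S0224

open Cfsg.Lib.StrongEmb

/-- Let H be a proper subgroup of even order of the finite group G. Then H is strongly embedded if and only if each involution of H fixes exactly one point (namely the coset H) in the action of G on the cosets of H. -/
theorem result {G : Type*} [Group G] [Finite G] (H : Subgroup G) (hH : H ≠ ⊤) (heven : Even (Nat.card H)) : Cfsg.IsStronglyEmbedded H ↔ ∀ t ∈ H, orderOf t = 2 → Nat.card {c : G ⧸ H // t • c = c} = 1 := by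
  refine ⟨fun h t _ ht => card_fixed h ht, fun hfix => ⟨hH, heven, fun g hg => ?_⟩⟩
  rw [← Nat.not_even_iff_odd]
  intro he
  obtain ⟨t, htm, ht⟩ := exists_involution_of_even he
  obtain ⟨htH, htg⟩ := Subgroup.mem_inf.1 htm
  rw [mem_conj_iff] at htg
  haveI := (Nat.card_eq_one_iff_unique.1 (hfix t htH ht)).1
  have h1 : t • (QuotientGroup.mk g : G ⧸ H) = QuotientGroup.mk g := by
    rw [MulAction.Quotient.smul_mk, smul_eq_mul, QuotientGroup.eq]
    simpa [mul_assoc] using inv_mem htg
  have h2 : t • (QuotientGroup.mk 1 : G ⧸ H) = QuotientGroup.mk 1 := by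
    rw [MulAction.Quotient.smul_mk, smul_eq_mul, QuotientGroup.eq]
    simpa using inv_mem htH
  have h3 : (QuotientGroup.mk g : G ⧸ H) = QuotientGroup.mk 1 :=
    congrArg Subtype.val (Subsingleton.elim (⟨_, h1⟩ : {c : G ⧸ H // t • c = c}) ⟨_, h2⟩)
  rw [QuotientGroup.eq, mul_one, inv_mem_iff] at h3
  exact hg h3

end Cfsg.Agent.S0224
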