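import Cfsg.Statements.S0226
import Mathlib

set_option autoImplicit false
open Cfsg

namespace Cfsg.Agent.S0226

/-- A finite group of even order has an odd number of involutions. -/
theorem result {G : Type*} [Group G] [Finite G] (heven : Even (Nat.card G)) : Odd (Nat.card {t : G // orderOf t = 2}) := by
  classical
  have := Fintype.ofFinite G
  rw [Nat.card_eq_fintype_card, Fintype.card_subtype]
  rw [Nat.card_eq_fintype_card] at heven
  have hfix : Even (Finset.univ.filter (fun t : G => t * t ≠ 1)).card := by
    have h : ((Finset.univ.filter (fun t : G => t * t ≠ 1)).card : ZMod 2) = 0 := by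
      rw [Finset.card_eq_sum_ones, Nat.cast_sum]
      apply Finset.sum_involution (fun t _ => t⁻¹)
      · intro a _; norm_num; rfl
      · intro a ha _ hc
        simp only [Finset.mem_filter] at ha
        exact ha.2 (by simpa using (congrArg (fun z => a * z) hc).symm)
      · intro a _; exact inv_inv a
      · intro a ha
        simp only [Finset.mem_filter, Finset.mem_univ, true_and] at ha ⊢
        intro hc; apply ha
        have := congrArg (·⁻¹) hc
        simpa using this
    exact ZMod.natCast_eq_zero_iff_even.mp h
  have hsplit := Finset.card_filter_add_card_filter_not (s := (Finset.univ : Finset G)) (fun t : G => t * t = 1)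
  have hins : (Finset.univ.filter (fun t : G => t * t = 1)) = insert 1 (Finset.univ.filter (fun t : G => orderOf t = 2)) := by
    ext t
    simp only [Finset.mem_filter, Finset.mem_univ, true_and, Finset.mem_insert]
    constructor
    · intro h
      by_cases h1 : t = 1
      · exact Or.inl h1
      · exact Or.inr (orderOf_eq_prime (by rw [pow_two]; exact h) h1)
    · rintro (rfl | h)
      · simp
      · have := pow_orderOf_eq_one t
        rw [h, pow_two] at this; exact this
  rw [hins, Finset.card_insert_of_notMem (by simp)] at hsplit
  rw [Finset.card_univ] at hsplit
  simp only [ne_eq] at hfix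
  grind

end Cfsg.Agent.S0226
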