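import Cfsg.Statements.S0227
import Cfsg.Agent.InvolCalc.SylowCentralizingAut
import Cfsg.Agent.S0205

set_option autoImplicit false
open Cfsg

namespace Cfsg.Agent.S0227

/-- Let G be a finite group with no nontrivial normal subgroup of odd order, S a Sylow 2-subgroup, and C the group of automorphisms of G that fix every element of S. Then every Sylow 2-subgroup of C is abelian and has a normal complement in C; in particular C is solvable. -/
theorem result {G : Type*} [Group G] [Finite G] (hO : ∀ N : Subgroup G, N.Normal → Odd (Nat.card N) → N = ⊥) (S : Sylow 2 G) (C : Subgroup (MulAut G)) (hC : ∀ φ : MulAut G, φ ∈ C ↔ ∀ s : G, s ∈ S → φ s = s) : (∀ T : Sylow 2 ↥C, (∀ a b : ↥T, a * b = b * a) ∧ ∃ N : Subgroup ↥C, N.Normal ∧ Subgroup.IsComplement' N (T : Subgroup ↥C)) ∧ Group.IsSolvable ↥C := by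
  haveI : Finite (MulAut G) := Finite.of_injective (fun e => (e : G → G)) (fun e f h => MulEquiv.ext (congrFun h))
  have key := fun T => Cfsg.Lib.SylowCentralizingAut.sylow_centralizing_structure hO S C
    (fun s hs q hq => (hC q).1 hq s hs) T
  refine ⟨fun T => ⟨(key T).1, ?_⟩, ?_⟩
  · obtain ⟨-, N, hN, -, hc⟩ := key T
    exact ⟨N, hN, hc⟩
  · haveI : Fact (Nat.Prime 2) := ⟨Nat.prime_two⟩
    obtain ⟨T⟩ : Nonempty (Sylow 2 ↥C) := inferInstance
    obtain ⟨-, N, hN, hodd, hc⟩ := key T
    haveI := hN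
    haveI : Group.IsSolvable N := Cfsg.Agent.S0205.result hodd
    obtain ⟨k, hk⟩ := T.isPGroup'.exists_card_eq
    haveI : Group.IsNilpotent (↥C ⧸ N) :=
      (IsPGroup.of_card (p := 2) (n := k) (by rw [← Subgroup.index_eq_card, hc.symm.index_eq_card, hk])).isNilpotent
    exact Group.isSolvable_of_ker_le_range N.subtype (QuotientGroup.mk' N) (by simp)

end Cfsg.Agent.S0227
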