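import Cfsg.Statements.S0232
import Cfsg.Agent.InvolCalc.BrauerFowler

set_option autoImplicit false
open Cfsg

namespace Cfsg.Agent.S0232

open Subgroup

universe u

theorem cube_lt {g n c : ℕ} (hc : g ≤ c * n) (hn : n ^ 3 < g ^ 2) : g < c ^ 3 := by
  have h1 : g ^ 3 ≤ c ^ 3 * n ^ 3 := by
    calc g ^ 3 ≤ (c * n) ^ 3 := Nat.pow_le_pow_left hc 3
      _ = _ := by ring
  by_contra h
  push Not at h
  have h2 : c ^ 3 * n ^ 3 ≤ g * n ^ 3 := Nat.mul_le_mul_right _ h
  rcases Nat.eq_zero_or_pos g with rfl | hg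
  · simp at hn
  have h3 : g * n ^ 3 < g * g ^ 2 := Nat.mul_lt_mul_of_pos_left hn hg
  rw [show g * g ^ 2 = g ^ 3 by ring] at h3
  omega

theorem cube_lt' {g n h : ℕ} (hng : n ≤ g) (hlt : 2 * n ^ 2 < h * (g + n)) (hn : g ^ 2 ≤ n ^ 3) : g < h ^ 3 := by
  have h1 : n ^ 2 < h * g := by
    have : h * (g + n) ≤ 2 * (h * g) := by nlinarith
    omega
  by_contra h0
  push Not at h0
  have h2 : (n ^ 2) ^ 3 < (h * g) ^ 3 := Nat.pow_lt_pow_left h1 (by norm_num)
  have h3 : (h * g) ^ 3 ≤ g * g ^ 3 := by rw [mul_pow]; exact Nat.mul_le_mul_right _ h0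
  have h4 : (g ^ 2) ^ 2 ≤ (n ^ 3) ^ 2 := Nat.pow_le_pow_left hn 2
  rw [show (n ^ 2) ^ 3 = (n ^ 3) ^ 2 by ring] at h2
  rw [show g * g ^ 3 = (g ^ 2) ^ 2 by ring] at h3
  omega

theorem of_index_two {G : Type u} [Group G] [Finite G] (hgt : 2 < Nat.card G) (H : Subgroup G) (h : H.index = 2) :
    H ≠ ⊤ ∧ Nat.card G < Nat.card H ^ 3 := by
  refine ⟨fun e => by rw [e, index_top] at h; omega, ?_⟩
  have := H.card_mul_index
  rw [h] at this
  have h2 : 2 ≤ Nat.card H := by omega
  nlinarith [Nat.mul_le_mul h2 h2]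

theorem aux : ∀ (g : ℕ) (G : Type u) [Group G] [Finite G], Nat.card G = g → Even g → 2 < g →
    ∃ H : Subgroup G, H ≠ ⊤ ∧ g < (Nat.card H) ^ 3 := by
  intro g
  induction g using Nat.strong_induction_on with
  | _ g ih =>
  intro G _ _ hG heven hgt
  haveI : Fact (Nat.Prime 2) := ⟨Nat.prime_two⟩
  subst hG
  rcases Nat.even_or_odd (Nat.card (center G)) with hZ | hZ
  · -- a central involution
    obtain ⟨⟨z, hzc⟩, hz⟩ := exists_prime_orderOf_dvd_card' (G := center G) 2 hZ.two_dvd
    rw [orderOf_mk] at hz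
    haveI : (zpowers z).Normal := ⟨fun x hx g => by
      obtain ⟨i, rfl⟩ := mem_zpowers_iff.1 hx
      rw [← (Commute.zpow_left (mem_center_iff.1 hzc g).symm i).eq, mul_inv_cancel_right]
      exact zpow_mem (mem_zpowers z) i⟩
    have hcard := (zpowers z).card_mul_index
    rw [Nat.card_zpowers, hz] at hcard
    have hq : Nat.card (G ⧸ zpowers z) = (zpowers z).index := (index_eq_card _).symm
    rcases Nat.even_or_odd (zpowers z).index with hm | hm
    · by_cases hm2 : (zpowers z).index = 2
      · exact ⟨_, of_index_two hgt _ hm2⟩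
      obtain ⟨K, hK, hlt⟩ := ih _ (by omega) (G ⧸ zpowers z) hq hm (by obtain ⟨k, hk⟩ := hm; omega)
      refine ⟨K.comap (QuotientGroup.mk' _), fun e => hK ?_, ?_⟩
      · rw [← map_comap_eq_self_of_surjective (QuotientGroup.mk'_surjective _) K, e,
          map_top_of_surjective _ (QuotientGroup.mk'_surjective _)]
      · have h1 := index_comap_of_surjective K (QuotientGroup.mk'_surjective (zpowers z))
        have h2 := (K.comap (QuotientGroup.mk' (zpowers z))).card_mul_index
        have h3 := K.card_mul_index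
        rw [h1] at h2
        have h4 : Nat.card (K.comap (QuotientGroup.mk' (zpowers z))) = 2 * Nat.card K := by
          refine Nat.eq_of_mul_eq_mul_right (Nat.pos_of_ne_zero K.index_ne_zero_of_finite) ?_
          rw [h2, mul_assoc, h3, hq, hcard]
        rw [h4, mul_pow]
        omega
    · obtain ⟨K, hK⟩ := exists_right_complement'_of_coprime (N := zpowers z) (by
        rw [Nat.card_zpowers, hz]; exact Nat.coprime_two_left.2 hm)
      refine ⟨K, of_index_two hgt K ?_⟩
      rw [Subgroup.IsComplement'.index_eq_card hK, Nat.card_zpowers, hz]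
  · obtain ⟨H, hH, h2 | hlt⟩ := Cfsg.Lib.BrauerFowler.exists_small_index heven hZ
    · exact ⟨H, of_index_two hgt H h2⟩
    set n := Nat.card {t : G // orderOf t = 2} with hn
    have hng : n ≤ Nat.card G := Nat.card_le_card_of_injective Subtype.val Subtype.val_injective
    rcases lt_or_ge (n ^ 3) (Nat.card G ^ 2) with hlt' | hge
    · obtain ⟨t, ht⟩ := exists_prime_orderOf_dvd_card' (G := G) 2 heven.two_dvd
      refine ⟨centralizer {t}, fun h => ?_, cube_lt ?_ hlt'⟩
      · have hc : t ∈ center G := mem_center_iff.2 fun y =>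
          mem_centralizer_singleton_iff.1 (h ▸ mem_top y : y ∈ centralizer ({t} : Set G))
        exact (Nat.not_even_iff_odd.2 hZ) (even_iff_two_dvd.2 (ht ▸ Subgroup.orderOf_dvd_natCard _ hc))
      · have h1 := (centralizer ({t} : Set G)).card_mul_index
        refine h1.ge.trans (Nat.mul_le_mul_left _ ?_)
        rw [index_eq_card, hn]
        refine Nat.card_le_card_of_injective (Quotient.lift (fun a => (⟨a * t * a⁻¹, by
          rw [show a * t * a⁻¹ = MulAut.conj a t from rfl, MulEquiv.orderOf_eq, ht]⟩ : {x : G // orderOf x = 2})) ?_) ?_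
        · intro a b hab
          rw [← Quotient.eq_iff_equiv] at hab
          have hab' : a⁻¹ * b ∈ centralizer ({t} : Set G) := QuotientGroup.eq.1 hab
          refine Subtype.ext ?_
          show a * t * a⁻¹ = b * t * b⁻¹
          calc a * t * a⁻¹ = a * (t * (a⁻¹ * b)) * b⁻¹ := by group
            _ = a * (a⁻¹ * b * t) * b⁻¹ := by rw [mem_centralizer_singleton_iff.1 hab']
            _ = _ := by group
        · intro a b
          induction a using Quotient.inductionOn with | h a => ?_
          induction b using Quotient.inductionOn with | h b => ?_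
          intro h
          have h' : a * t * a⁻¹ = b * t * b⁻¹ := congrArg Subtype.val h
          refine QuotientGroup.eq.2 (mem_centralizer_singleton_iff.2 ?_)
          calc a⁻¹ * b * t = a⁻¹ * (b * t * b⁻¹) * b := by group
            _ = a⁻¹ * (a * t * a⁻¹) * b := by rw [h']
            _ = _ := by group
    · refine ⟨H, hH, cube_lt' hng ?_ hge⟩
      have h1 := H.card_mul_index
      have h2 : 0 < H.index := Nat.pos_of_ne_zero H.index_ne_zero_of_finite
      refine Nat.lt_of_mul_lt_mul_left (a := H.index) ?_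
      calc H.index * (2 * n ^ 2) = 2 * H.index * n ^ 2 := by ring
        _ < Nat.card G * (Nat.card G + n) := hlt
        _ = _ := by nth_rw 1 [← h1]; ring


/-- A finite group G of even order greater than 2 has a proper subgroup H with |G| < |H|^3. -/
theorem result {G : Type*} [Group G] [Finite G] (heven : Even (Nat.card G)) (hgt : 2 < Nat.card G) : ∃ H : Subgroup G, H ≠ ⊤ ∧ Nat.card G < (Nat.card H) ^ 3 := by
  exact aux (Nat.card G) G rfl heven hgt

end Cfsg.Agent.S0232
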