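import Cfsg.Statements.S0234
import Cfsg.Agent.InvolCalc.BrauerFowler
import Cfsg.Agent.Small.Toolkit
import Cfsg.Agent.PermGen.AltPair

set_option autoImplicit false
open Cfsg

namespace Cfsg.Agent.S0234

open Cfsg.Lib Cfsg.Lib.Small Cfsg.Lib.PermGen

/-- In a finite simple group G of even order greater than 2, the number n of involutions satisfies 3n < |G|. -/
theorem result {G : Type*} [Group G] [Finite G] [IsSimpleGroup G] (heven : Even (Nat.card G)) (hgt : 2 < Nat.card G) : 3 * Nat.card {t : G // orderOf t = 2} < Nat.card G := by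
  haveI : Fact (Nat.Prime 2) := ⟨Nat.prime_two⟩
  have hnc : ¬ ∀ a b : G, a * b = b * a := by
    refine not_comm_of_isSimple ?_
    intro hp
    have := (Nat.prime_dvd_prime_iff_eq Nat.prime_two hp).1 heven.two_dvd
    omega
  by_contra hlt
  rw [not_lt] at hlt
  obtain ⟨H, hH, hcase⟩ := Cfsg.Lib.BrauerFowler.exists_small_index heven
    (by rw [center_eq_bot_of_not_comm hnc, Subgroup.card_bot]; exact odd_one)
  set n := Nat.card {t : G // orderOf t = 2} with hn
  set g := Nat.card G with hg
  have hdvd := two_mul_card_dvd_index_factorial hnc H hH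
  have hidx : H.index ≤ 5 := by
    rcases hcase with h | h
    · omega
    · have h1 : 2 * H.index * n ^ 2 < 2 * 6 * n ^ 2 := by
        calc 2 * H.index * n ^ 2 < g * (g + n) := h
          _ ≤ (3 * n) * (3 * n + n) := Nat.mul_le_mul hlt (Nat.add_le_add_right hlt n)
          _ = _ := by ring
      have := Nat.lt_of_mul_lt_mul_left (Nat.lt_of_mul_lt_mul_right h1)
      omega
  -- small simple groups
  obtain ⟨f, hf⟩ := exists_hom_alternating_index hnc H hH
  have hidx2 : 2 ≤ H.index := by
    have h0 : H.index ≠ 0 := Subgroup.index_ne_zero_of_finite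
    have h1 : H.index ≠ 1 := fun e => hH (Subgroup.index_eq_one.1 e)
    omega
  have hsmall : g ≤ 12 → False := by
    intro h12
    have hnp : ∀ p k : ℕ, p.Prime → g ≠ p ^ k := fun p k hp he => by
      haveI : Fact p.Prime := ⟨hp⟩
      haveI : Nontrivial G := IsSimpleGroup.toNontrivial
      haveI := (IsPGroup.of_card (p := p) he).center_nontrivial
      exact (Subgroup.nontrivial_iff_ne_bot _).1 inferInstance (center_eq_bot_of_not_comm hnc)
    have hsy : ∀ (p : ℕ) [Fact p.Prime] (m : ℕ), g = p ^ (g.factorization p) * m → 1 < m → ¬ 2 * g ∣ m.factorial → False := by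
      intro p _ m hm hm1 hd
      obtain ⟨P⟩ : Nonempty (Sylow p G) := inferInstance
      have hi : (P : Subgroup G).index = m := by
        have := (P : Subgroup G).card_mul_index
        rw [P.card_eq_multiplicity, ← hg] at this
        nth_rw 2 [hm] at this
        exact Nat.eq_of_mul_eq_mul_left (pow_pos (Fact.out : p.Prime).pos _) this
      refine hd (hi ▸ two_mul_card_dvd_index_factorial hnc _ ?_)
      intro h
      rw [h, Subgroup.index_top] at hi
      omega
    haveI : Fact (Nat.Prime 3) := ⟨by norm_num⟩
    haveI : Fact (Nat.Prime 5) := ⟨by norm_num⟩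
    obtain ⟨k, hk⟩ := heven
    rcases (show g = 4 ∨ g = 6 ∨ g = 8 ∨ g = 10 ∨ g = 12 by omega) with h | h | h | h | h
    · exact hnp 2 2 Nat.prime_two h
    · have h32 : g.factorization 3 = 1 := by
        rw [h, show (6 : ℕ) = 3 * 2 by norm_num, Nat.factorization_mul (by norm_num) (by norm_num)]
        simp [Nat.Prime.factorization (show Nat.Prime 3 by norm_num), Nat.Prime.factorization Nat.prime_two]
      exact hsy 3 2 (by rw [h32, h]; norm_num) (by norm_num) (by rw [h]; decide)
    · exact hnp 2 3 Nat.prime_two h
    · have h52 : g.factorization 5 = 1 := by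
        rw [h, show (10 : ℕ) = 5 * 2 by norm_num, Nat.factorization_mul (by norm_num) (by norm_num)]
        simp [Nat.Prime.factorization (show Nat.Prime 5 by norm_num), Nat.Prime.factorization Nat.prime_two]
      exact hsy 5 2 (by rw [h52, h]; norm_num) (by norm_num) (by rw [h]; decide)
    · have h22 : g.factorization 2 = 2 := by
        rw [h, show (12 : ℕ) = 2 ^ 2 * 3 by norm_num, Nat.factorization_mul (by norm_num) (by norm_num),
          Nat.Prime.factorization_pow Nat.prime_two, Nat.Prime.factorization (show Nat.Prime 3 by norm_num)]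
        simp
      exact hsy 2 3 (by rw [h22, h]; norm_num) (by norm_num) (by rw [h]; decide)
  rcases Nat.lt_or_ge H.index 5 with h4 | h5
  · refine hsmall ?_
    have h24 : H.index.factorial ≤ 24 := le_trans (Nat.factorial_le (show H.index ≤ 4 by omega)) (by decide)
    have := (Nat.le_of_dvd (Nat.factorial_pos _) hdvd).trans h24
    omega
  obtain h5' : H.index = 5 := by omega
  rw [h5'] at hdvd
  have hA : ∃ f : G →* alternatingGroup (Fin 5), Function.Injective f := h5' ▸ ⟨f, hf⟩
  obtain ⟨f', hf'⟩ := hA
  by_cases htop : f'.range = ⊤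
  · have hcard : g = 60 := by
      have e : Nat.card G = Nat.card (alternatingGroup (Fin 5)) :=
        Nat.card_eq_of_bijective f' ⟨hf', MonoidHom.range_eq_top.1 htop⟩
      rw [← hg] at e
      have e2 := two_mul_nat_card_alternatingGroup (α := Fin 5)
      rw [Nat.card_perm, Nat.card_fin, ← e] at e2
      simp [Nat.factorial] at e2
      omega
    have hle : n ≤ Nat.card {s : Equiv.Perm (Fin 5) // Equiv.Perm.sign s = 1 ∧ s * s = 1 ∧ s ≠ 1} := by
      refine Nat.card_le_card_of_injective (fun t => ⟨(f' t.1 : Equiv.Perm (Fin 5)), ?_, ?_, ?_⟩) ?_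
      · exact Equiv.Perm.mem_alternatingGroup.1 (f' t.1).2
      · rw [← Subgroup.coe_mul, ← map_mul, Cfsg.Lib.InvolCalc.sq_of_order_two t.2, map_one, Subgroup.coe_one]
      · intro h
        exact Cfsg.Lib.InvolCalc.ne_one_of_order_two t.2 (hf' (by rw [map_one]; exact Subtype.ext h))
      · intro a b h
        simp only [Subtype.mk.injEq] at h
        exact Subtype.ext (hf' (Subtype.ext h))
    have h15 : Nat.card {s : Equiv.Perm (Fin 5) // Equiv.Perm.sign s = 1 ∧ s * s = 1 ∧ s ≠ 1} = 15 := by
      rw [Nat.card_eq_fintype_card]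
      decide +kernel
    omega
  · refine hsmall ?_
    haveI : IsSimpleGroup (alternatingGroup (Fin 5)) := alternatingGroup.isSimpleGroup (by simp)
    have h1 := card_dvd_factorial_index f'.range htop
    have h2 := f'.range.card_mul_index
    have h3 : Nat.card f'.range = g := (Nat.card_congr (MonoidHom.ofInjective hf').toEquiv).symm
    have e2 := two_mul_nat_card_alternatingGroup (α := Fin 5)
    rw [Nat.card_perm, Nat.card_fin] at e2
    rw [show Nat.factorial 5 = 120 by decide] at e2
    rw [h3] at h2
    have e3 : Nat.card (alternatingGroup (Fin 5)) = 60 := by omega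
    rw [e3] at h1 h2
    have h5i : 5 ≤ f'.range.index := by
      by_contra hlt5
      have : f'.range.index.factorial ≤ 24 := le_trans (Nat.factorial_le (show f'.range.index ≤ 4 by omega)) (by decide)
      have := Nat.le_of_dvd (Nat.factorial_pos _) h1
      omega
    nlinarith

end Cfsg.Agent.S0234
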