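import Cfsg.Statements.S0244
import Mathlib

set_option autoImplicit false
open Cfsg

namespace Cfsg.Agent.S0244

/-- Sp_2 = SL_2: a matrix on Fin 1 ⊕ Fin 1 lies in Mathlib's symplectic group iff its determinant is 1. -/
theorem result {R : Type*} [CommRing R] (A : Matrix (Fin 1 ⊕ Fin 1) (Fin 1 ⊕ Fin 1) R) : A ∈ Matrix.symplecticGroup (Fin 1) R ↔ A.det = 1 := by
  rw [SymplecticGroup.mem_iff]
  have hdet : A.det = A (Sum.inl 0) (Sum.inl 0) * A (Sum.inr 0) (Sum.inr 0) - A (Sum.inl 0) (Sum.inr 0) * A (Sum.inr 0) (Sum.inl 0) := by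
    rw [← Matrix.det_submatrix_equiv_self finSumFinEquiv.symm, Matrix.det_fin_two]
    rfl
  have he : ∀ x y, (A * Matrix.J (Fin 1) R * A.transpose) x y =
      A x (Sum.inr 0) * A y (Sum.inl 0) - A x (Sum.inl 0) * A y (Sum.inr 0) := by
    intro x y
    simp [Matrix.mul_apply, Matrix.J, Fintype.sum_sum_type]
    ring
  rw [hdet]
  constructor
  · intro h
    have h1 := congrFun (congrFun h (Sum.inl 0)) (Sum.inr 0)
    rw [he] at h1
    simp [Matrix.J] at h1
    linear_combination -h1
  · intro h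
    ext (i | i) (j | j) <;> rw [he] <;> fin_cases i <;> fin_cases j <;> simp [Matrix.J] <;>
      first | ring1 | linear_combination h | linear_combination -h

end Cfsg.Agent.S0244
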