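import Cfsg.Statements.S0261
import Mathlib
import Cfsg.Agent.Classical.Misc.SLTwoTori

set_option autoImplicit false
open Cfsg

namespace Cfsg.Agent.S0261

/-- For q odd, the Sylow 2-subgroups of SL_2(q) are generalised quaternion. -/
theorem result {F : Type*} [Field F] [Fintype F] (hF : Odd (Fintype.card F)) (P : Sylow 2 (Matrix.SpecialLinearGroup (Fin 2) F)) : ∃ k : ℕ, 1 ≤ k ∧ Nonempty ((P : Subgroup (Matrix.SpecialLinearGroup (Fin 2) F)) ≃* QuaternionGroup (2 ^ k)) := by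
  obtain ⟨p, hp⟩ := CharP.exists F
  haveI := Fact.mk (CharP.char_is_prime F p)
  have hp2 : p ≠ 2 := by
    rintro rfl
    obtain ⟨e, -, he⟩ := FiniteField.card F 2
    rw [he, Nat.odd_iff] at hF
    have : 2 ∣ 2 ^ (e : ℕ) := dvd_pow_self 2 e.pos.ne'
    omega
  exact Cfsg.Lib.Classical.SLTwoTori.sylow_two_quaternion p hp2 P

end Cfsg.Agent.S0261
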