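import Cfsg.Statements.S0268
import Mathlib
import Cfsg.Agent.Classical.Misc.SLTwoTori

set_option autoImplicit false
open Cfsg

namespace Cfsg.Agent.S0268

/-- For q odd, -1 is the unique involution of SL_2(q). -/
theorem result {F : Type*} [Field F] [Fintype F] (hF : Odd (Fintype.card F)) (g : Matrix.SpecialLinearGroup (Fin 2) F) (h1 : g ≠ 1) (h2 : g * g = 1) : (g : Matrix (Fin 2) (Fin 2) F) = -1 := by
  obtain ⟨p, hp⟩ := CharP.exists F
  haveI := Fact.mk (CharP.char_is_prime F p)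
  have hp2 : p ≠ 2 := by
    rintro rfl
    obtain ⟨e, -, he⟩ := FiniteField.card F 2
    rw [he, Nat.odd_iff] at hF
    have : 2 ∣ 2 ^ (e : ℕ) := dvd_pow_self 2 e.pos.ne'
    omega
  rw [Cfsg.Lib.Classical.SLTwoTori.eq_neg_one p hp2 h1 h2]
  simp

end Cfsg.Agent.S0268
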