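import Cfsg.Statements.S0313
import Mathlib
import Cfsg.Agent.BN.Basic

set_option autoImplicit false
open Cfsg

namespace Cfsg.Agent.S0313

/-- Two standard parabolic subgroups of a group with a (B,N)-pair which are conjugate in `G` coincide. -/
theorem result {G : Type*} [Group G] (P : Cfsg.BNPair G) {J K : Set G}
    (hJ : J ⊆ P.S) (hK : K ⊆ P.S) (g : G)
    (h : (P.parabolic J).map (MulAut.conj g).toMonoidHom = P.parabolic K) :
    P.parabolic J = P.parabolic K := by
  have hg : g ∈ P.parabolic K := Cfsg.Lib.BN.mem_of_conj_le (P := P) (M := P.parabolic J) (K := P.parabolic K) le_sup_left le_sup_left fun x hx => by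
    rw [← h]; exact ⟨x, hx, by simp⟩
  apply le_antisymm
  · intro x hx
    have h1 : g * x * g⁻¹ ∈ P.parabolic K := by rw [← h]; exact ⟨x, hx, by simp⟩
    simpa [mul_assoc] using mul_mem (mul_mem (inv_mem hg) h1) hg
  · intro x hx
    have h1 : g * x * g⁻¹ ∈ (P.parabolic J).map (MulAut.conj g).toMonoidHom := by
      rw [h]; exact mul_mem (mul_mem hg hx) (inv_mem hg)
    obtain ⟨y, hy, e⟩ := h1
    simp at e
    exact e ▸ hy

end Cfsg.Agent.S0313
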