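import Cfsg.Statements.S0316
import Mathlib
import Cfsg.Agent.BN.Basic

set_option autoImplicit false
open Cfsg

namespace Cfsg.Agent.S0316

/-- The map `J ↦ P_J` is a lattice isomorphism from the power set of the set of distinguished generators onto the
subgroups containing `B`. -/
theorem result {G : Type*} [Group G] (P : Cfsg.BNPair G) :
    ∃ e : Set P.S ≃o {M : Subgroup G // P.B ≤ M},
      ∀ J : Set P.S, ((e J : {M : Subgroup G // P.B ≤ M}) : Subgroup G) = P.parabolic (Subtype.val '' J) := by
  refine ⟨{ toFun := fun J => ⟨P.parabolic (Subtype.val '' J), le_sup_left⟩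
            invFun := fun M => {s : P.S | (s : G) ∈ M.1}
            left_inv := fun J => ?_
            right_inv := fun M => ?_
            map_rel_iff' := ?_ }, fun J => rfl⟩
  · ext s
    refine ⟨fun h => ?_, fun h => Subgroup.mem_sup_right (Subgroup.subset_closure ⟨s, h, rfl⟩)⟩
    obtain ⟨t, ht, e⟩ := Cfsg.Lib.BN.mem_of_mem_parabolic (Subtype.coe_image_subset _ _) s.2 h
    exact (Subtype.ext e) ▸ ht
  · apply Subtype.ext
    refine Eq.trans (congrArg P.parabolic ?_) (Cfsg.Lib.BN.eq_parabolic M.2).symm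
    ext x; simp [and_comm]
  · intro J K
    refine ⟨fun h s hs => ?_, fun h => Cfsg.Lib.BN.parabolic_mono (Set.image_mono h)⟩
    obtain ⟨t, ht, e⟩ := Cfsg.Lib.BN.mem_of_mem_parabolic (Subtype.coe_image_subset _ _) s.2
      (h (Subgroup.mem_sup_right (Subgroup.subset_closure ⟨s, hs, rfl⟩)))
    exact (Subtype.ext e) ▸ ht

end Cfsg.Agent.S0316
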