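import Cfsg.Statements.S0345
import Cfsg.Agent.RankOne.SharpEven
import Cfsg.Agent.RankOne.HalfStab

set_option autoImplicit false
open Cfsg

namespace Cfsg.Agent.S0345

/-- In a finite simple Zassenhaus group the stabiliser `H` of two points `a ≠ b` is cyclic, and some involution
interchanging `a` and `b` inverts every element of `H`. -/
theorem result {G Ω : Type*} [Group G] [Finite G] [MulAction G Ω] [Finite Ω]
    (hZ : Cfsg.IsZassenhausGroup G Ω) [IsSimpleGroup G]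
    {a b : Ω} (hab : a ≠ b) :
    IsCyclic ↥(MulAction.stabilizer G a ⊓ MulAction.stabilizer G b) ∧
      ∃ v : G, orderOf v = 2 ∧ v • a = b ∧ v • b = a ∧ ∀ h ∈ MulAction.stabilizer G a ⊓ MulAction.stabilizer G b, v * h * v⁻¹ = h⁻¹ := by
  classical
  have := Fintype.ofFinite Ω
  obtain ⟨h, hh⟩ : ∃ h, Fintype.card Ω = h + 1 :=
    ⟨_, (Nat.sub_add_cancel (Fintype.card_pos_iff.mpr ⟨a⟩)).symm⟩
  have hh2 := Cfsg.Lib.OddChar.Zassenhaus.two_le hZ hab hh
  obtain ⟨H, hHa, hHc, hHf⟩ := Cfsg.Lib.OddChar.Zassenhaus.exists_kernel hZ hab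
  have hn := Cfsg.Lib.OddChar.Zassenhaus.kernel_normal hZ hab hh hHa hHc hHf
  have hfpf := Cfsg.Lib.OddChar.Zassenhaus.fpf hab hZ hHa hHf
  set E := Cfsg.Lib.OddChar.Zassenhaus.stab₂ G a b with hE
  have hEN : E ≤ Subgroup.normalizer (H : Set G) :=
    fun x hx => Subgroup.mem_normalizer_fintype fun u hu => hn x hx.1 u hu
  have key : (∀ x ∈ E, ∀ y ∈ E, x * y = y * x) ∧ ∀ w : G, w • a = b → w • b = a →
      w * w = 1 ∧ ∀ u ∈ E, w * u * w = u⁻¹ := by
    rcases Nat.even_or_odd (Nat.card E) with hev | hodd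
    · obtain ⟨k, hk⟩ := hfpf.card_dvd hEN
      have hle := Cfsg.Lib.RankOne.le_two_mul_of_even hZ hab hev
      have hpos := Cfsg.Lib.OddChar.Zassenhaus.stab₂_ne_bot hZ hab
      change Fintype.card Ω - 2 ≤ 2 * Nat.card E at hle
      change 1 < Nat.card E at hpos
      have hk2 : k ≤ 2 := by
        by_contra hc
        have := Nat.mul_le_mul (le_refl (Nat.card E)) (show 3 ≤ k by omega)
        omega
      interval_cases k
      · omega
      · exact (Cfsg.Lib.RankOne.no_sharp_even hZ hab hev (by change Nat.card E + 2 = _; omega)).elim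
      · obtain ⟨h1, h2⟩ := Cfsg.Lib.RankOne.half_stab_facts hZ hab (by change 2 * Nat.card E + 2 = _; omega)
          hHa hHc hHf (Cfsg.Lib.RankOne.kernel_elementary hZ hab (by change _ ≤ 2 * Nat.card E; omega) hHa hHc hHf).1
        exact ⟨h1, fun w hwa hwb => ⟨(h2 w hwa hwb).1, (h2 w hwa hwb).2.1⟩⟩
    · obtain ⟨h1, h2⟩ := Cfsg.Lib.OddChar.Zassenhaus.structure₂ hZ hab hh hodd hHa hHc hHf
      refine ⟨h1, fun w hwa hwb => ?_⟩
      obtain ⟨hw2, hw⟩ := h2 w hwa hwb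
      refine ⟨hw2, fun u hu => ?_⟩
      have := hw u hu
      rwa [inv_eq_of_mul_eq_one_right hw2] at this
  obtain ⟨hcomm, hinv⟩ := key
  have : IsMulCommutative E := ⟨⟨fun x y => Subtype.ext (hcomm x x.2 y y.2)⟩⟩
  have hHne : H ≠ ⊥ := fun h' => by rw [h', Subgroup.card_bot] at hHc; omega
  obtain ⟨w, hwa, hwb⟩ := Cfsg.Lib.OddChar.Zassenhaus.exists_map hZ hab hab.symm
  obtain ⟨hw2, hw⟩ := hinv w hwa hwb
  refine ⟨hfpf.isCyclic_of_comm hEN hHne, w, ?_, hwa, hwb, fun u hu => ?_⟩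
  · exact orderOf_eq_prime (by rw [sq]; exact hw2) fun h' => hab (by rw [h', one_smul] at hwa; exact hwa)
  · rw [inv_eq_of_mul_eq_one_right hw2]
    exact hw u hu

end Cfsg.Agent.S0345
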