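import Cfsg.Agent.Steiner.Counting
import Mathlib
import Cfsg.Statements.S0355
-- import your own Cfsg.Agent.* helpers here

set_option autoImplicit false
open Cfsg

namespace Cfsg.Agent.S0355

/-- In a Steiner system S(4, 7, 23), two distinct blocks intersect in 1 or 3 points. -/
theorem result {α : Type*} [Fintype α] [DecidableEq α] (hα : Fintype.card α = 23) {B : Set (Finset α)} (hB : Cfsg.IsSteinerSystem 4 7 B) {b c : Finset α} (hb : b ∈ B) (hc : c ∈ B) (hbc : b ≠ c) : (b ∩ c).card = 1 ∨ (b ∩ c).card = 3 := by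
  obtain ⟨e0, -, e2, -⟩ := Cfsg.Lib.Steiner.meet_s4723 hα hB hb
  have := Cfsg.Lib.Steiner.meetCount_eq_zero hc hbc.symm e0
  have := Cfsg.Lib.Steiner.meetCount_eq_zero hc hbc.symm e2
  have : (b ∩ c).card < 4 := by
    by_contra h; exact hbc (Cfsg.Lib.Steiner.eq_of_le_inter hB hb hc (by omega))
  omega

end Cfsg.Agent.S0355
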