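import Cfsg.Agent.ThreeTransposition.Dihedral
import Mathlib
import Cfsg.Statements.S0442
-- import your own Cfsg.Agent.* helpers here

set_option autoImplicit false
open Cfsg

namespace Cfsg.Agent.S0442

/-- A standard trick for producing elements of an involution centraliser: for an involution a and an element g, let b be the conjugate g⁻¹ * a * g. If a * b has odd order 2m + 1 then g * (a * b) ^ m commutes with a; if a * b has even order 2m then (a * b) ^ m and (a * (g * a * g⁻¹)) ^ m commute with a. -/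
theorem result {G : Type*} [Group G] (a g : G) (ha : orderOf a = 2) : (∀ m : ℕ, orderOf (a * (g⁻¹ * a * g)) = 2 * m + 1 → Commute (g * (a * (g⁻¹ * a * g)) ^ m) a) ∧ (∀ m : ℕ, orderOf (a * (g⁻¹ * a * g)) = 2 * m → Commute ((a * (g⁻¹ * a * g)) ^ m) a ∧ Commute ((a * (g * a * g⁻¹)) ^ m) a) := by
  have ha2 := Lib.ThreeTr.mul_self_of_orderOf_two ha
  have hb2 : ∀ c : G, (c⁻¹ * a * c) * (c⁻¹ * a * c) = 1 := fun c => by
    calc (c⁻¹ * a * c) * (c⁻¹ * a * c) = c⁻¹ * (a * a) * c := by group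
      _ = 1 := by rw [ha2, mul_one, inv_mul_cancel]
  refine ⟨fun m hm => ?_, fun m hm => ?_⟩
  · have h := Lib.ThreeTr.conj_of_odd ha2 (hb2 g) hm
    generalize (a * (g⁻¹ * a * g)) ^ m = q at h ⊢
    show g * q * a = a * (g * q)
    calc g * q * a = g * (q * a * q⁻¹) * q := by group
      _ = g * (g⁻¹ * a * g) * q := by rw [h]
      _ = a * (g * q) := by group
  · refine ⟨Lib.ThreeTr.commute_half ha2 (hb2 g) hm, ?_⟩
    have h' : orderOf (a * (g * a * g⁻¹)) = 2 * m := by
      have e : a * (g * a * g⁻¹) = (g * (a * (g⁻¹ * a * g)) * g⁻¹)⁻¹ := by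
        rw [show g * (a * (g⁻¹ * a * g)) * g⁻¹ = g * a * g⁻¹ * a by group, mul_inv_rev, mul_inv_rev, mul_inv_rev,
          Lib.ThreeTr.inv_eq_self_of_mul_self ha2, inv_inv, mul_assoc g a]
      rw [e, orderOf_inv, Lib.ThreeTr.orderOf_conj_eq, hm]
    have := hb2 g⁻¹
    rw [inv_inv] at this
    exact Lib.ThreeTr.commute_half ha2 this h' 

end Cfsg.Agent.S0442
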