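import Cfsg.Statements.S0447
import Cfsg.Agent.Recognition.AltCoverInvolutions
-- import your own Cfsg.Agent.* helpers here

set_option autoImplicit false
open Cfsg

namespace Cfsg.Agent.S0447

/-- Involutions in double covers of alternating groups: for n ≤ 7, a finite non-split double cover of the alternating group of degree n has exactly one element of order 2 (the central one); for degree 8 there is a non-split double cover with two distinct involutions. -/
theorem result : (∀ (n : ℕ) (H : Type) (_ : Group H) (_ : Finite H), n ≤ 7 → Cfsg.IsNonsplitDoubleCover H (alternatingGroup (Fin n)) → ∀ x y : H, orderOf x = 2 → orderOf y = 2 → x = y) ∧ ∃ (H : Type) (_ : Group H) (_ : Finite H), Cfsg.IsNonsplitDoubleCover H (alternatingGroup (Fin 8)) ∧ ∃ x y : H, x ≠ y ∧ orderOf x = 2 ∧ orderOf y = 2 := by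
  refine ⟨fun n H _ _ hn hH x y hx hy => ?_, Cfsg.Lib.AltCoverInvolutions.two_involutions⟩
  have hxz := Cfsg.Lib.AltCoverInvolutions.no_involution hn hH x hx
  have hyz := Cfsg.Lib.AltCoverInvolutions.no_involution hn hH y hy
  obtain ⟨a, b, hab, huniv⟩ := Nat.card_eq_two_iff.mp hH.1
  have hx1 : x ≠ 1 := fun h => by rw [h, orderOf_one] at hx; omega
  have hy1 : y ≠ 1 := fun h => by rw [h, orderOf_one] at hy; omega
  have hmem : ∀ c : Subgroup.center H, c = a ∨ c = b := fun c => by
    have : c ∈ ({a, b} : Set (Subgroup.center H)) := huniv ▸ Set.mem_univ c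
    exact this
  rcases hmem ⟨x, hxz⟩ with hxa | hxa <;> rcases hmem ⟨y, hyz⟩ with hya | hya <;> rcases hmem 1 with h1 | h1
  all_goals first
    | exact congrArg Subtype.val (hxa.trans hya.symm)
    | exact absurd (congrArg Subtype.val (hxa.trans h1.symm)) hx1
    | exact absurd (congrArg Subtype.val (hya.trans h1.symm)) hy1

end Cfsg.Agent.S0447
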