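import Cfsg.Statements.S0460
import Cfsg.Agent.ONPres.Copies

set_option autoImplicit false
open Cfsg

namespace Cfsg.Agent.S0460

/-- The O'Nan group exists as a transitive permutation group of degree 122760: simple of order 460815505920, point stabiliser of order 3753792, and containing simple subgroups of orders 175560 and 7920. -/
theorem result : ∃ H : Subgroup (Equiv.Perm (Fin 122760)), Cfsg.IsON H ∧ MulAction.IsPretransitive H (Fin 122760) ∧ Nat.card (MulAction.stabilizer H (0 : Fin 122760)) = 3753792 ∧ (∃ K : Subgroup H, Cfsg.IsJ1 K) ∧ (∃ K : Subgroup H, Cfsg.IsM11 K) := by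
  open Cfsg.Lib.ONPres in
  have hinj : Function.Injective tabHom := (injective_iff_map_eq_one _).2 fun g hg =>
    fix_all_eq_one g fun i => by rw [smul_def, hg]; rfl
  open Cfsg.Lib.ONPres in
  let e : Cfsg.Spor.ON ≃* tabHom.range := MonoidHom.ofInjective hinj
  open Cfsg.Lib.ONPres in
  refine ⟨tabHom.range, ⟨?_, ?_⟩, ?_, ?_, ?_, ?_⟩
  · haveI := Cfsg.Lib.ONPres.on_simple
    exact e.symm.isSimpleGroup
  · rw [← Nat.card_congr e.toEquiv]; exact Cfsg.Lib.ONPres.on_card
  · refine ⟨fun x y => ?_⟩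
    obtain ⟨g, hg⟩ := MulAction.exists_smul_eq Cfsg.Spor.ON x y
    exact ⟨e g, hg⟩
  · rw [← Cfsg.Lib.ONPres.subH_card, ← Cfsg.Lib.ONPres.stab_eq]
    exact (Nat.card_congr (e.toEquiv.subtypeEquiv fun g => Iff.rfl)).symm
  · obtain ⟨K, h1, h2⟩ := Cfsg.Lib.ONPres.exists_J1
    let f := K.equivMapOfInjective e.toMonoidHom e.injective
    exact ⟨K.map e.toMonoidHom, f.symm.isSimpleGroup, by rw [← Nat.card_congr f.toEquiv]; exact h2⟩
  · obtain ⟨K, h1, h2⟩ := Cfsg.Lib.ONPres.exists_M11
    let f := K.equivMapOfInjective e.toMonoidHom e.injective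
    exact ⟨K.map e.toMonoidHom, f.symm.isSimpleGroup, by rw [← Nat.card_congr f.toEquiv]; exact h2⟩

end Cfsg.Agent.S0460
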