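import Cfsg.Statements.S0461
import Cfsg.Agent.J4Cert.Linear
import Cfsg.Agent.J4Cert.Simple

set_option autoImplicit false
open Cfsg

namespace Cfsg.Agent.S0461

/-- Janko's fourth group exists as a group of 112 × 112 matrices over the field with two elements: GL(112, 2) has a simple subgroup of order 86775571046077562880. -/
theorem result : ∃ H : Subgroup (GL (Fin 112) (ZMod 2)), Cfsg.IsJ4 H := by
  refine ⟨Cfsg.Lib.J4Cert.toGL.range, ?_, ?_⟩
  · haveI := Cfsg.Lib.J4Cert.simple_J4
    have e := MonoidHom.ofInjective Cfsg.Lib.J4Cert.toGL_injective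
    haveI : Nontrivial Cfsg.Lib.J4Cert.toGL.range := e.symm.toEquiv.nontrivial
    exact IsSimpleGroup.isSimpleGroup_of_surjective e.toMonoidHom e.surjective
  · rw [← Nat.card_congr (MonoidHom.ofInjective Cfsg.Lib.J4Cert.toGL_injective).toEquiv]
    exact Cfsg.Lib.J4Cert.card_J4.1

end Cfsg.Agent.S0461
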