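import Cfsg.Statements.S0462
import Cfsg.Agent.S1695

set_option autoImplicit false
open Cfsg

namespace Cfsg.Agent.S0462

/-- The Held group exists as a transitive permutation group of degree 2058: simple of order 4030387200, with point stabiliser containing, with index 2, a copy of the 4-dimensional symplectic group over the field with four elements. -/
theorem result : ∃ H : Subgroup (Equiv.Perm (Fin 2058)), Cfsg.IsHe H ∧ MulAction.IsPretransitive H (Fin 2058) ∧ ∃ (F : Type) (_ : Field F) (_ : Fintype F), Fintype.card F = 4 ∧ ∃ N : Subgroup (MulAction.stabilizer H (0 : Fin 2058)), N.index = 2 ∧ Nonempty (N ≃* Matrix.symplecticGroup (Fin 2) F) := by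
  haveI := Cfsg.Lib.HePres.transitive
  let e : Cfsg.Spor.He ≃* Cfsg.Lib.HePres.psi.range := MonoidHom.ofInjective Cfsg.Lib.HePres.psi_injective
  refine ⟨Cfsg.Lib.HePres.psi.range, ?_, ?_, ?_⟩
  · haveI := Cfsg.Lib.HePres.simple_he
    haveI : Nontrivial Cfsg.Lib.HePres.psi.range := e.symm.toEquiv.nontrivial
    exact ⟨IsSimpleGroup.isSimpleGroup_of_surjective e.toMonoidHom e.surjective,
      (Nat.card_congr e.toEquiv).symm.trans Cfsg.Lib.HePres.card_he⟩
  · refine ⟨fun x y => ?_⟩
    obtain ⟨g, hg⟩ := MulAction.exists_smul_eq Cfsg.Spor.He x y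
    exact ⟨e g, hg⟩
  · have hst : ∀ g : Cfsg.Spor.He, e g ∈ MulAction.stabilizer Cfsg.Lib.HePres.psi.range (0 : Fin 2058) ↔
        g ∈ Cfsg.Lib.HePres.stab := by
      intro g
      rw [← Cfsg.Lib.HePres.stabilizer_zero]
      rfl
    have hmap : Cfsg.Lib.HePres.stab.map e.toMonoidHom =
        MulAction.stabilizer Cfsg.Lib.HePres.psi.range (0 : Fin 2058) := by
      ext x
      obtain ⟨g, rfl⟩ := e.surjective x
      exact Iff.trans (Subgroup.mem_map_iff_mem e.injective) (hst g).symm
    let f := (e.subgroupMap Cfsg.Lib.HePres.stab).trans (MulEquiv.subgroupCongr hmap)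
    refine ⟨Cfsg.Lib.PrimeGraph.KQuad, inferInstance, inferInstance, Cfsg.Lib.PrimeGraph.KQuad.card_eq,
      Cfsg.Lib.HePres.inner.map f.toMonoidHom, ?_, ⟨(f.subgroupMap _).symm.trans Cfsg.Lib.HePres.innerIso⟩⟩
    rw [← Cfsg.Lib.HePres.index_inner]
    exact Subgroup.index_map_of_bijective f.bijective _

end Cfsg.Agent.S0462
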