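import Cfsg.Statements.S0478
import Cfsg.Agent.Spor.J3.InSU

set_option autoImplicit false
open Cfsg

namespace Cfsg.Agent.S0478

/-- A triple cover of Janko's third group inside a unitary group: for a field F with four elements, the special unitary group of dimension 9 (with respect to the form with q = 2) has a subgroup whose centre has order 3 and whose quotient by its centre is simple of order 50232960. -/
theorem result : ∃ (F : Type) (_ : Field F) (_ : Fintype F), Fintype.card F = 4 ∧ ∃ H : Subgroup (Cfsg.SU 9 F 2), Nat.card (Subgroup.center H) = 3 ∧ Cfsg.IsJ3 (H ⧸ Subgroup.center H) := by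
  obtain ⟨F, iF, iT, ω, hF, hω⟩ := Cfsg.Lib.Spor.J3.exists_field_four
  haveI := Cfsg.Lib.Spor.J3.charP_two_of_card_four hF
  refine ⟨F, iF, iT, hF, ?_⟩
  let φ : Cfsg.Spor.threeJ3 F ω →* Cfsg.SU 9 F 2 :=
    (Cfsg.Lib.Spor.J3.toSL hω hF).codRestrict _ fun g => Cfsg.Lib.Spor.J3.hermForm_toSL hω hF g
  have hφ : Function.Injective φ := fun g h e =>
    Cfsg.Lib.Spor.J3.toSL_injective hω hF (congrArg Subtype.val e)
  let e : Cfsg.Spor.threeJ3 F ω ≃* φ.range := MonoidHom.ofInjective hφ
  have hc : (Subgroup.center (Cfsg.Spor.threeJ3 F ω)).map e.toMonoidHom = Subgroup.center φ.range := by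
    ext y
    obtain ⟨x, rfl⟩ := e.surjective y
    rw [show e x ∈ (Subgroup.center (Cfsg.Spor.threeJ3 F ω)).map e.toMonoidHom ↔ x ∈ Subgroup.center _ from
      Subgroup.mem_map_iff_mem e.injective, Subgroup.mem_center_iff, Subgroup.mem_center_iff]
    constructor
    · intro h b
      obtain ⟨b, rfl⟩ := e.surjective b
      rw [← map_mul, ← map_mul, h b]
    · intro h b
      exact e.injective (by rw [map_mul, map_mul, h (e b)])
  refine ⟨φ.range, ?_, ?_, ?_⟩
  · rw [← hc, Subgroup.card_map_of_injective (f := e.toMonoidHom) e.injective]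
    exact Cfsg.Lib.Spor.J3.card_center hω hF
  · haveI := Cfsg.Lib.Spor.J3.isSimpleGroup_J3 hω hF
    exact (QuotientGroup.congr _ _ e hc).symm.isSimpleGroup
  · rw [← Nat.card_congr (QuotientGroup.congr _ _ e hc).toEquiv]
    exact Cfsg.Lib.Spor.J3.card_J3 hω hF

end Cfsg.Agent.S0478
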