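import Cfsg.Statements.S0498
import Cfsg.Agent.Components.Recognition.PSLUnique
import Cfsg.Agent.Small.Order168
-- import your own Cfsg.Agent.* helpers here

set_option autoImplicit false
open Cfsg

namespace Cfsg.Agent.S0498

local instance factPrime11 : Fact (Nat.Prime 11) := ⟨by norm_num⟩

local instance factPrime13 : Fact (Nat.Prime 13) := ⟨by norm_num⟩

/-- A simple group of order 660, respectively 1092, is isomorphic to the projective special linear group of dimension 2
over the field with 11, respectively 13, elements. -/
theorem result {G : Type*} [Group G] [Finite G] [IsSimpleGroup G] (p : ℕ)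
    (hp : p = 11 ∨ p = 13) (h : 2 * Nat.card G = p * (p ^ 2 - 1)) {F : Type*} [Field F] [Fintype F]
    (hF : Fintype.card F = p) : Nonempty (G ≃* Matrix.ProjectiveSpecialLinearGroup (Fin 2) F) := by
  have hnc : ¬ ∀ a b : G, a * b = b * a := Cfsg.Lib.Small.not_comm_of_isSimple (by
    rcases hp with rfl | rfl <;> intro hpr
    · rw [show Nat.card G = 660 by norm_num at h; omega] at hpr; norm_num at hpr
    · rw [show Nat.card G = 1092 by norm_num at h; omega] at hpr; norm_num at hpr)
  rcases hp with rfl | rfl
  · have hc : Nat.card G = 660 := by norm_num at h; omega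
    skip
    have hn : Nat.card (Sylow 11 G) = 11 + 1 := by
      obtain ⟨P⟩ : Nonempty (Sylow 11 G) := inferInstance
      obtain ⟨h1, h2⟩ := Cfsg.Lib.Small.sylow_facts P (a := 1) (m := 60) (by rw [hc]; norm_num) (by norm_num)
      have h3 := Cfsg.Lib.Small.card_sylow_ne_one (p := 11) hnc (by rw [hc]; norm_num)
      have hle : Nat.card (Sylow 11 G) ≤ 60 := Nat.le_of_dvd (by norm_num) h1
      generalize Nat.card (Sylow 11 G) = n at h1 h2 h3 hle
      interval_cases n <;> omega
    exact Cfsg.Lib.Components.PSLUnique.exists_iso (p := 11) 2 4 2 false (by norm_num)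
      (by decide +kernel) (by decide +kernel) (by rw [Nat.card_eq_fintype_card]; decide)
      (by decide) (by decide) (by decide) (by decide) hnc
      (by rw [hc]) hn (fun h' => Bool.noConfusion h') hF
  · have hc : Nat.card G = 1092 := by norm_num at h; omega
    skip
    have hn : Nat.card (Sylow 13 G) = 13 + 1 := by
      obtain ⟨P⟩ : Nonempty (Sylow 13 G) := inferInstance
      obtain ⟨h1, h2⟩ := Cfsg.Lib.Small.sylow_facts P (a := 1) (m := 84) (by rw [hc]; norm_num) (by norm_num)
      have h3 := Cfsg.Lib.Small.card_sylow_ne_one (p := 13) hnc (by rw [hc]; norm_num)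
      have hle : Nat.card (Sylow 13 G) ≤ 84 := Nat.le_of_dvd (by norm_num) h1
      generalize Nat.card (Sylow 13 G) = n at h1 h2 h3 hle
      interval_cases n <;> omega
    exact Cfsg.Lib.Components.PSLUnique.exists_iso (p := 13) 2 4 2 false (by norm_num)
      (by decide +kernel) (by decide +kernel) (by rw [Nat.card_eq_fintype_card]; decide)
      (by decide) (by decide) (by decide) (by decide) hnc
      (by rw [hc]) hn (fun h' => Bool.noConfusion h') hF

end Cfsg.Agent.S0498
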