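import Cfsg.Statements.S0505
import Cfsg.Agent.Components.Local
import Cfsg.Agent.PGroups.Basic
import Cfsg.Agent.Components.CharP
import Cfsg.Agent.Components.Layer
import Cfsg.Agent.Coprime.Fitting

set_option autoImplicit false
open Cfsg

namespace Cfsg.Agent.S0505

/-- Let G be a finite group of even order in which the centralizer of every involution is solvable and has trivial
core (no nontrivial normal subgroup of odd order). Then G is of characteristic 2 type. -/
theorem result {G : Type*} [Group G] [Finite G]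
    (h2 : Even (Nat.card G))
    (hs : ∀ t : G, orderOf t = 2 → Group.IsSolvable (Subgroup.centralizer ({t} : Set G)))
    (hc : ∀ t : G, orderOf t = 2 → Cfsg.oddCore (Subgroup.centralizer ({t} : Set G)) = ⊥) :
    Cfsg.IsCharacteristicTwoType G := by
  refine ⟨h2, fun T hT hTne => ?_⟩
  haveI : Fact (Nat.Prime 2) := ⟨Nat.prime_two⟩
  set N := Subgroup.normalizer (T : Set G) with hN
  have hTN : T ≤ N := Subgroup.le_normalizer
  haveI hTn : (T.subgroupOf N).Normal := Subgroup.normal_subgroupOf_of_le_normalizer le_rfl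
  have hTp : IsPGroup 2 (T.subgroupOf N) := hT.comap_subtype
  obtain ⟨z, hzT, hzC, hz⟩ : ∃ z : G, z ∈ T ∧ (∀ y ∈ T, y * z = z * y) ∧ orderOf z = 2 := by
    obtain ⟨w, -, hwc, hwo⟩ := Cfsg.Lib.PGroups.exists_mem_center_of_normal_ne_bot hT (N := (⊤ : Subgroup T))
      (by
        intro h
        apply hTne
        rw [eq_bot_iff]
        intro y hy
        have := h ▸ Subgroup.mem_top (⟨y, hy⟩ : T)
        rw [Subgroup.mem_bot] at this
        exact congrArg Subtype.val this)
    exact ⟨w, w.2, fun y hy => congrArg Subtype.val (Subgroup.mem_center_iff.1 hwc ⟨y, hy⟩),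
      by rw [Subgroup.orderOf_coe, hwo]⟩
  set L := Subgroup.centralizer ({z} : Set G) with hL
  haveI := hs z hz
  have hTL : T ≤ L := fun y hy => Subgroup.mem_centralizer_singleton_iff.2 (hzC y hy)
  have hcentT : ∀ x : N, x ∈ Subgroup.centralizer (T.subgroupOf N : Set N) → (x : G) ∈ L := fun x hx =>
    Subgroup.mem_centralizer_singleton_iff.2
      (congrArg Subtype.val (Subgroup.mem_centralizer_iff.1 hx ⟨z, hTN hzT⟩ hzT)).symm
  show Cfsg.Lib.Components.CharPGroup 2 ↥N
  rw [Cfsg.Lib.Components.charP_iff]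
  constructor
  · set D := (pPrimeCore 2 N).map N.subtype with hD
    have hcomm : ⁅pPrimeCore 2 N, T.subgroupOf N⁆ = ⊥ := by
      rw [eq_bot_iff, ← Cfsg.Lib.Components.pPrimeCore_commute_pCore (G := N) (p := 2)]
      exact Subgroup.commutator_mono le_rfl (Cfsg.Lib.Components.le_pCore hTp)
    have hDL : D ≤ L := by
      rintro _ ⟨x, hx, rfl⟩
      exact hcentT x (Subgroup.commutator_eq_bot_iff_le_centralizer.1 hcomm hx)
    set T' := T.subgroupOf L with hT'
    set N' := Subgroup.normalizer (T' : Set L) with hN'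
    have hN'N : ∀ x : N', ((x : L) : G) ∈ N := by
      intro x
      refine Subgroup.mem_normalizer_iff.2 fun y => ⟨fun hy => ?_, fun hy => ?_⟩
      · exact (Subgroup.mem_normalizer_iff.1 x.2 ⟨y, hTL hy⟩).1 hy
      · have hyL : y ∈ L := by
          have := mul_mem (mul_mem (inv_mem (x : L).2) (hTL hy)) (x : L).2
          simpa [mul_assoc] using this
        exact (Subgroup.mem_normalizer_iff.1 x.2 ⟨y, hyL⟩).2 hy
    have hDN' : ∀ d ∈ D, ∃ x : N', ((x : L) : G) = d := by
      intro d hd
      obtain ⟨x, hx, rfl⟩ := hd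
      refine ⟨⟨⟨x, hDL ⟨x, hx, rfl⟩⟩, Subgroup.mem_normalizer_iff.2 fun y => ?_⟩, rfl⟩
      exact Subgroup.mem_normalizer_iff.1 x.2 (y : G)
    set D' := (D.subgroupOf L).subgroupOf N' with hD'
    haveI : D'.Normal := by
      refine ⟨fun y hy x => ?_⟩
      obtain ⟨d, hd, hde⟩ := hy
      refine ⟨(⟨_, hN'N x⟩ : N) * d * (⟨_, hN'N x⟩ : N)⁻¹,
        (Cfsg.Lib.Components.pPrimeCore_normal' 2).conj_mem d hd _, ?_⟩
      change (d : G) = ((y : L) : G) at hde
      show ((x : L) : G) * d * ((x : L) : G)⁻¹ = _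
      rw [hde]
      rfl
    have hle : D' ≤ pPrimeCore 2 N' := by
      refine Cfsg.Lib.Components.le_pPrimeCore
        (Nat.Coprime.coprime_dvd_left ?_ (Cfsg.Lib.Components.coprime_card_pPrimeCore (G := N) 2))
      rw [hD', hD]
      refine dvd_trans ?_ (Subgroup.card_map_dvd _ N.subtype)
      refine (Subgroup.card_comap_dvd_of_injective _ _ N'.subtype_injective).trans ?_
      exact Subgroup.card_comap_dvd_of_injective _ _ L.subtype_injective
    have hW : IsPGroup 2 (pCore 2 L) := Cfsg.Lib.Components.isPGroup_pCore 2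
    haveI : (pCore 2 L).Normal := Cfsg.Lib.Components.pCore_normal' 2
    have h1 : (pPrimeCore 2 N').map N'.subtype ≤ pCore 2 L :=
      (Cfsg.Lib.Components.local_pPrimeCore_centralizes hT.comap_subtype hW).trans
        (Cfsg.Lib.Coprime.centralizer_pCore_le 2 (hc z hz))
    have h2 : (pPrimeCore 2 N').map N'.subtype = ⊥ := by
      have hcop : (Nat.card ((pPrimeCore 2 N').map N'.subtype)).Coprime 2 :=
        Nat.Coprime.coprime_dvd_left (Subgroup.card_map_dvd _ _) (Cfsg.Lib.Components.coprime_card_pPrimeCore 2)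
      rw [eq_bot_iff, ← Cfsg.Lib.Components.coprime_pGroup_disjoint hW hcop]
      exact le_inf h1 le_rfl
    rw [eq_bot_iff]
    intro y hy
    obtain ⟨x, hxy⟩ := hDN' (y : G) ⟨y, hy, rfl⟩
    have hxD : x ∈ D' := by
      show ((x : L) : G) ∈ D
      rw [hxy]; exact ⟨y, hy, rfl⟩
    have hx1 : (x : L) ∈ (pPrimeCore 2 N').map N'.subtype := ⟨x, hle hxD, rfl⟩
    rw [h2, Subgroup.mem_bot] at hx1
    rw [hx1] at hxy
    exact Subgroup.mem_bot.2 (Subtype.ext hxy.symm)
  · by_contra hne
    have hall : ∀ K : Subgroup N, IsComponent K → False := by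
      intro K hK
      haveI := (hTp.isNilpotent : Group.IsNilpotent (T.subgroupOf N))
      have hKc : K ≤ Subgroup.centralizer (T.subgroupOf N : Set N) :=
        (Cfsg.Lib.Components.comp_le_layer hK).trans
          (Cfsg.Lib.Components.layer_le_centralizer_solvable_normal inferInstance)
      refine Cfsg.Lib.Components.comp_not_isSolvable hK ?_
      let f : K →* L := MonoidHom.mk' (fun k => ⟨((k : N) : G), hcentT k (hKc k.2)⟩) fun a b => rfl
      exact solvable_of_solvable_injective (f := f) fun a b h =>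
        Subtype.ext (Subtype.ext (congrArg (fun w : L => (w : G)) h))
    exact hne (le_bot_iff.1 (sSup_le fun K hK => (hall K hK).elim))

end Cfsg.Agent.S0505
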