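import Cfsg.Statements.S0527
import Cfsg.Agent.SolvStruct.Supersolvable

set_option autoImplicit false
open Cfsg

namespace Cfsg.Agent.S0527

/-- In a finite supersolvable group the index of any maximal subgroup is a prime number. -/
theorem result {G : Type*} [Group G] [Finite G] (hG : Cfsg.IsSupersolvable G) (M : Subgroup G) (hM : IsCoatom M) : M.index.Prime := by
  obtain ⟨k, hk⟩ : ∃ k, Nat.card G = k := ⟨_, rfl⟩
  induction k using Nat.strong_induction_on generalizing G with
  | _ k ih =>
    have hne : Nontrivial G := by
      by_contra hc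
      rw [not_nontrivial_iff_subsingleton] at hc
      exact hM.1 (Subgroup.eq_top_of_card_eq M (by rw [Nat.card_unique, Nat.card_unique]))
    obtain ⟨C, hC, hCp⟩ := Cfsg.Lib.Supersolvable.exists_normal_prime_card hG
    haveI := hC
    by_cases hCM : C ≤ M
    · have hlt : Nat.card (G ⧸ C) < k := by
        rw [← hk, Subgroup.card_eq_card_quotient_mul_card_subgroup C]
        exact lt_mul_of_one_lt_right Nat.card_pos hCp.one_lt
      have hs := QuotientGroup.mk'_surjective C
      have hcomap : (M.map (QuotientGroup.mk' C)).comap (QuotientGroup.mk' C) = M := by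
        rw [Subgroup.comap_map_eq, QuotientGroup.ker_mk', sup_eq_left.2 hCM]
      have hco : IsCoatom (M.map (QuotientGroup.mk' C)) := by
        refine ⟨fun he => hM.1 (by rw [← hcomap, he, Subgroup.comap_top]), fun K hK => ?_⟩
        have h1 : M < K.comap (QuotientGroup.mk' C) := by
          rw [← hcomap]
          exact (Subgroup.comap_lt_comap_of_surjective hs).2 hK
        rw [← Subgroup.map_comap_eq_self_of_surjective hs K, hM.2 _ h1, Subgroup.map_top_of_surjective _ hs]
      have h2 := ih _ hlt (Cfsg.Lib.SolvStruct.isSupersolvable_of_surjective hG _ hs) _ hco rfl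
      rwa [← (M.map (QuotientGroup.mk' C)).index_comap_of_surjective hs, hcomap] at h2
    · haveI := Fact.mk hCp
      have hsup : M ⊔ C = ⊤ := hM.2 _ (lt_of_le_of_ne le_sup_left fun he => hCM (he ▸ le_sup_right))
      have hinf : M ⊓ C = ⊥ := by
        rcases hCp.eq_one_or_self_of_dvd _ (Subgroup.card_dvd_of_le (inf_le_right : M ⊓ C ≤ C)) with h | h
        · exact Subgroup.card_eq_one.1 h
        · exact absurd (Subgroup.eq_of_le_of_card_ge inf_le_right h.ge ▸ inf_le_left) hCM
      have hc : Subgroup.IsComplement' M C := Subgroup.isComplement'_of_disjoint_and_mul_eq_univ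
        (disjoint_iff.2 hinf) (by rw [← Subgroup.mul_normal, hsup, Subgroup.coe_top])
      rw [hc.symm.index_eq_card]
      exact hCp

end Cfsg.Agent.S0527
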