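import Cfsg.Statements.S0529
import Cfsg.Agent.SolvStruct.Supersolvable

set_option autoImplicit false
open Cfsg

namespace Cfsg.Agent.S0529

/-- A finite supersolvable group has a chain of normal subgroups, from the trivial subgroup to the whole group, in which every step has prime index and the primes occurring are non-increasing as one goes up the chain. -/
theorem result {G : Type*} [Group G] [Finite G] (hG : Cfsg.IsSupersolvable G) : ∃ (n : ℕ) (H : Fin (n + 1) → Subgroup G), H 0 = ⊥ ∧ H (Fin.last n) = ⊤ ∧ (∀ i, (H i).Normal) ∧ (∀ i : Fin n, H i.castSucc ≤ H i.succ ∧ ((H i.castSucc).relIndex (H i.succ)).Prime) ∧ ∀ i j : Fin n, i ≤ j → (H j.castSucc).relIndex (H j.succ) ≤ (H i.castSucc).relIndex (H i.succ) := by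
  suffices key : ∃ (n : ℕ) (H : Fin (n + 1) → Subgroup G), H 0 = ⊥ ∧ H (Fin.last n) = ⊤ ∧ (∀ i, (H i).Normal) ∧
      (∀ i : Fin n, H i.castSucc ≤ H i.succ ∧ ((H i.castSucc).relIndex (H i.succ)).Prime ∧
        (H i.castSucc).relIndex (H i.succ) ∣ Nat.card G) ∧
      ∀ i j : Fin n, i ≤ j → (H j.castSucc).relIndex (H j.succ) ≤ (H i.castSucc).relIndex (H i.succ) by
    obtain ⟨n, H, h0, hl, hn, hs, hmono⟩ := key
    exact ⟨n, H, h0, hl, hn, fun i => ⟨(hs i).1, (hs i).2.1⟩, hmono⟩
  obtain ⟨k, hk⟩ : ∃ k, Nat.card G = k := ⟨_, rfl⟩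
  induction k using Nat.strong_induction_on generalizing G with
  | _ k ih =>
    rcases subsingleton_or_nontrivial G with hsub | hnt
    · exact ⟨0, fun _ => ⊥, rfl, Subsingleton.elim _ _, fun _ => inferInstance, fun i => i.elim0, fun i => i.elim0⟩
    classical
    set ps := (Nat.card G).primeFactors
    have hpne : ps.Nonempty := Nat.nonempty_primeFactors.2 Finite.one_lt_card
    set p := ps.max' hpne
    have hp : p.Prime := Nat.prime_of_mem_primeFactors (ps.max'_mem hpne)
    have hpG : p ∣ Nat.card G := Nat.dvd_of_mem_primeFactors (ps.max'_mem hpne)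
    have hmax : ∀ r, r.Prime → r ∣ Nat.card G → r ≤ p := fun r hr hd =>
      ps.le_max' r (Nat.mem_primeFactors.2 ⟨hr, hd, Nat.card_pos.ne'⟩)
    obtain ⟨N, hN, hN1, hN2⟩ := Cfsg.Lib.Supersolvable.exists_normal_hall_ge hG p
    have hNne : N ≠ ⊥ := fun he => by
      rw [he, Subgroup.index_bot] at hN2
      exact lt_irrefl _ (hN2 p hp hpG)
    haveI := hN
    obtain ⟨C, hC, hCN, hCp⟩ := Cfsg.Lib.SolvStruct.exists_normal_prime_le hG N hNne
    haveI := hC
    have hCeq : Nat.card C = p :=
      le_antisymm (hmax _ hCp (Subgroup.card_subgroup_dvd_card C)) (hN1 _ hCp (Subgroup.card_dvd_of_le hCN))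
    have hlt : Nat.card (G ⧸ C) < k := by
      rw [← hk, Subgroup.card_eq_card_quotient_mul_card_subgroup C]
      exact lt_mul_of_one_lt_right Nat.card_pos hCp.one_lt
    have hs := QuotientGroup.mk'_surjective C
    obtain ⟨n, H, h0, hl, hn, hsteps, hmono⟩ :=
      ih _ hlt (Cfsg.Lib.SolvStruct.isSupersolvable_of_surjective hG _ hs) rfl
    set π := QuotientGroup.mk' C
    have hrel : ∀ i : Fin n, ((H i.castSucc).comap π).relIndex ((H i.succ).comap π) =
        (H i.castSucc).relIndex (H i.succ) := fun i => by
      rw [Subgroup.relIndex_comap, Subgroup.map_comap_eq_self_of_surjective hs]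
    let K : Fin (n + 2) → Subgroup G := Fin.cons ⊥ fun i => (H i).comap π
    have hK0 : K (0 : Fin (n + 1)).castSucc = ⊥ := rfl
    have hK1 : K (0 : Fin (n + 1)).succ = C := by
      simp only [K, Fin.cons_succ]
      rw [h0, MonoidHom.comap_bot, QuotientGroup.ker_mk']
    have hKs : ∀ j : Fin n, K (j.succ).castSucc = (H j.castSucc).comap π ∧ K (j.succ).succ = (H j.succ).comap π := by
      intro j
      constructor
      · simp only [K, ← Fin.succ_castSucc, Fin.cons_succ]
      · simp only [K, Fin.cons_succ]
    refine ⟨n + 1, K, rfl, ?_, ?_, ?_, ?_⟩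
    · simp only [K, ← Fin.succ_last, Fin.cons_succ, hl, Subgroup.comap_top]
    · intro i
      induction i using Fin.cases with
      | zero => exact Subgroup.normal_bot
      | succ j =>
        simp only [K, Fin.cons_succ]
        exact (hn j).comap π
    · intro i
      induction i using Fin.cases with
      | zero =>
        rw [hK0, hK1, Subgroup.relIndex_bot_left, hCeq]
        exact ⟨bot_le, hp, hpG⟩
      | succ j =>
        obtain ⟨h1, h2⟩ := hKs j
        rw [h1, h2, hrel]
        exact ⟨Subgroup.comap_mono (hsteps j).1, (hsteps j).2.1,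
          (hsteps j).2.2.trans (Subgroup.card_quotient_dvd_card C)⟩
    · intro i
      induction i using Fin.cases with
      | zero =>
        intro j _
        rw [hK0, hK1, Subgroup.relIndex_bot_left, hCeq]
        induction j using Fin.cases with
        | zero => rw [hK0, hK1, Subgroup.relIndex_bot_left, hCeq]
        | succ l =>
          obtain ⟨h1, h2⟩ := hKs l
          rw [h1, h2, hrel]
          exact hmax _ (hsteps l).2.1 ((hsteps l).2.2.trans (Subgroup.card_quotient_dvd_card C))
      | succ l =>
        intro j hj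
        induction j using Fin.cases with
        | zero => exact absurd hj (by simp [Fin.le_def])
        | succ m =>
          obtain ⟨h1, h2⟩ := hKs l
          obtain ⟨h3, h4⟩ := hKs m
          rw [h1, h2, h3, h4, hrel, hrel]
          exact hmono l m (Fin.succ_le_succ_iff.1 hj)

end Cfsg.Agent.S0529
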