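import Cfsg.Statements.S0530
import Cfsg.Agent.SolvStruct.Supersolvable

set_option autoImplicit false
open Cfsg

namespace Cfsg.Agent.S0530

/-- A finite group whose order is twice a prime power is supersolvable. -/
theorem result {G : Type*} [Group G] [Finite G] (p n : ℕ) (hp : p.Prime) (hG : Nat.card G = 2 * p ^ n) : Cfsg.IsSupersolvable G := by
  haveI := Fact.mk hp
  induction n generalizing G with
  | zero =>
    rw [pow_zero, mul_one] at hG
    haveI := Fact.mk Nat.prime_two
    haveI : IsCyclic G := isCyclic_of_prime_card hG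
    haveI : IsCyclic (⊤ : Subgroup G) := Subgroup.topEquiv.isCyclic.2 inferInstance
    haveI : Subsingleton (G ⧸ (⊤ : Subgroup G)) := QuotientGroup.subsingleton_quotient_top
    exact Cfsg.Lib.SolvStruct.isSupersolvable_of_quotient (⊤ : Subgroup G)
      ⟨0, fun _ => ⊥, rfl, Subsingleton.elim _ _, fun _ => inferInstance, fun i => i.elim0⟩
  | succ n ih =>
    obtain ⟨P, hP⟩ := Sylow.exists_subgroup_card_pow_prime (G := G) p (n := n + 1) (by rw [hG]; exact Dvd.intro_left _ rfl)
    have hPi : P.index = 2 := by
      have h1 := P.card_mul_index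
      rw [hP, hG, mul_comm 2] at h1
      exact Nat.eq_of_mul_eq_mul_left (pow_pos hp.pos _) h1
    haveI : P.Normal := Subgroup.normal_of_index_eq_two hPi
    obtain ⟨t, htP⟩ : ∃ t, t ∉ P := by
      by_contra hall
      push Not at hall
      rw [(Subgroup.eq_top_iff' P).2 hall, Subgroup.index_top] at hPi
      omega
    haveI : Nontrivial P := by
      rw [← Finite.one_lt_card_iff_nontrivial, hP]
      exact Nat.one_lt_pow (Nat.succ_ne_zero n) hp.one_lt
    have hPp : IsPGroup p P := IsPGroup.of_card hP
    haveI := hPp.center_nontrivial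
    obtain ⟨z, hz⟩ := exists_prime_orderOf_dvd_card' (G := Subgroup.center P) p (by
      rcases (hPp.to_subgroup (Subgroup.center P)).card_eq_or_dvd with h | h
      · exact absurd h Finite.one_lt_card.ne'
      · exact h)
    set a : G := ((z : P) : G)
    have haP : a ∈ P := (z : P).2
    have hao : orderOf a = p := by
      show orderOf ((z : P) : G) = p
      rw [Subgroup.orderOf_coe, Subgroup.orderOf_coe, hz]
    have hac : ∀ x ∈ P, x * a = a * x := fun x hx =>
      congrArg Subtype.val (Subgroup.mem_center_iff.1 z.2 (⟨x, hx⟩ : P))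
    -- choose an element of order `p`, central in `P`, whose span is stable under `t`
    obtain ⟨c, hco, hcP, hct⟩ : ∃ c : G, orderOf c = p ∧ (∀ x ∈ P, x * c = c * x) ∧
        (t * c * t⁻¹ = c ∨ t * c * t⁻¹ = c⁻¹) := by
      set a' := t * a * t⁻¹
      have ha'P : a' ∈ P := Subgroup.Normal.conj_mem inferInstance a haP t
      have hac' : ∀ x ∈ P, x * a' = a' * x := by
        intro x hx
        have h1 := hac (t⁻¹ * x * t) (by simpa using Subgroup.Normal.conj_mem inferInstance x hx t⁻¹)
        calc x * (t * a * t⁻¹) = t * ((t⁻¹ * x * t) * a) * t⁻¹ := by group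
          _ = t * (a * (t⁻¹ * x * t)) * t⁻¹ := by rw [h1]
          _ = t * a * t⁻¹ * x := by group
      by_cases hb : a * a' = 1
      · exact ⟨a, hao, hac, Or.inr (eq_inv_of_mul_eq_one_right hb)⟩
      · refine ⟨a * a', ?_, fun x hx => ((show Commute x a from hac x hx).mul_right (show Commute x a' from hac' x hx)).eq, Or.inl ?_⟩
        · have hpow : (a * a') ^ p = 1 := by
            rw [(show Commute a a' from hac' a haP).mul_pow, ← hao, pow_orderOf_eq_one]
            show 1 * (t * a * t⁻¹) ^ orderOf a = 1
            rw [conj_pow, pow_orderOf_eq_one]; group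
          exact orderOf_eq_prime hpow hb
        · have ht2 : t * t ∈ P := Subgroup.mul_self_mem_of_index_two hPi t
          have h2 : t * a' * t⁻¹ = a := by
            show t * (t * a * t⁻¹) * t⁻¹ = a
            calc t * (t * a * t⁻¹) * t⁻¹ = (t * t) * a * (t * t)⁻¹ := by group
              _ = a := by rw [hac _ ht2, mul_inv_cancel_right]
          calc t * (a * a') * t⁻¹ = a' * (t * a' * t⁻¹) := by simp only [a']; group
            _ = a * a' := by rw [h2]; exact (hac' a haP).symm
    haveI : (Subgroup.zpowers c).Normal := by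
      refine Subgroup.normalizer_eq_top_iff.1 (eq_top_iff.2 fun g _ => ?_)
      have hgen : ∀ g : G, g * c * g⁻¹ = c ∨ g * c * g⁻¹ = c⁻¹ := by
        intro g
        by_cases hg : g ∈ P
        · exact Or.inl (by rw [hcP g hg, mul_inv_cancel_right])
        · have h1 : g * t⁻¹ ∈ P := (Subgroup.mul_mem_iff_of_index_two hPi).2
            (iff_of_false hg fun h => htP (inv_mem_iff.1 h))
          rcases hct with h | h
          · left
            calc g * c * g⁻¹ = (g * t⁻¹) * (t * c * t⁻¹) * (g * t⁻¹)⁻¹ := by group
              _ = c := by rw [h, hcP _ h1, mul_inv_cancel_right]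
          · right
            calc g * c * g⁻¹ = (g * t⁻¹) * (t * c * t⁻¹) * (g * t⁻¹)⁻¹ := by group
              _ = c⁻¹ := by
                rw [h, show g * t⁻¹ * c⁻¹ = c⁻¹ * (g * t⁻¹) from Commute.inv_right (hcP _ h1), mul_inv_cancel_right]
      have key : ∀ g : G, ∀ x ∈ Subgroup.zpowers c, g * x * g⁻¹ ∈ Subgroup.zpowers c := by
        intro g x hx
        obtain ⟨i, rfl⟩ := Subgroup.mem_zpowers_iff.1 hx
        rw [← conj_zpow]
        rcases hgen g with h | h <;> rw [h]
        · exact zpow_mem (Subgroup.mem_zpowers c) i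
        · exact zpow_mem (inv_mem (Subgroup.mem_zpowers c)) i
      refine Subgroup.mem_normalizer_iff.2 fun x => ⟨key g x, fun h => ?_⟩
      simpa [mul_assoc] using key g⁻¹ _ h
    refine Cfsg.Lib.SolvStruct.isSupersolvable_of_quotient (Subgroup.zpowers c) (ih ?_)
    have h1 := Subgroup.card_eq_card_quotient_mul_card_subgroup (Subgroup.zpowers c)
    rw [Nat.card_zpowers, hco, hG, pow_succ, ← mul_assoc] at h1
    exact (Nat.eq_of_mul_eq_mul_right hp.pos h1).symm

end Cfsg.Agent.S0530
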