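import Cfsg.Statements.S0531
import Cfsg.Agent.SolvStruct.Supersolvable

set_option autoImplicit false
open Cfsg

namespace Cfsg.Agent.S0531

/-- A finite supersolvable group has a subgroup of each order dividing its order. -/
theorem result {G : Type*} [Group G] [Finite G] (hG : Cfsg.IsSupersolvable G) : Cfsg.HasSubgroupOfEveryOrder G := by
  obtain ⟨k, hk⟩ : ∃ k, Nat.card G = k := ⟨_, rfl⟩
  induction k using Nat.strong_induction_on generalizing G with
  | _ k ih =>
    intro d hd
    rcases subsingleton_or_nontrivial G with hsub | hnt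
    · rw [Nat.card_unique, Nat.dvd_one] at hd
      exact ⟨⊥, by rw [hd, Subgroup.card_bot]⟩
    obtain ⟨C, hC, hCp⟩ := Cfsg.Lib.Supersolvable.exists_normal_prime_card hG
    haveI := hC
    have hs := QuotientGroup.mk'_surjective C
    have hcard := Subgroup.card_eq_card_quotient_mul_card_subgroup C
    have hlt : Nat.card (G ⧸ C) < k := by
      rw [← hk, hcard]
      exact lt_mul_of_one_lt_right Nat.card_pos hCp.one_lt
    have hq := ih _ hlt (Cfsg.Lib.SolvStruct.isSupersolvable_of_surjective hG _ hs) rfl
    have hpre : ∀ K : Subgroup (G ⧸ C),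
        Nat.card (K.comap (QuotientGroup.mk' C)) = Nat.card K * Nat.card C := by
      intro K
      have h1 := (K.comap (QuotientGroup.mk' C)).card_mul_index
      rw [K.index_comap_of_surjective hs, hcard, ← K.card_mul_index, mul_right_comm] at h1
      exact Nat.eq_of_mul_eq_mul_right (Nat.pos_of_ne_zero K.index_ne_zero_of_finite) h1
    by_cases hdc : Nat.card C ∣ d
    · obtain ⟨e, rfl⟩ := hdc
      obtain ⟨K, hK⟩ := hq e (by
        rw [hcard, mul_comm] at hd
        exact (Nat.mul_dvd_mul_iff_right hCp.pos).1 (by rwa [mul_comm e, mul_comm (Nat.card (G ⧸ C))] at *))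
      exact ⟨K.comap (QuotientGroup.mk' C), by rw [hpre, hK, mul_comm]⟩
    · have hcop : d.Coprime (Nat.card C) := (hCp.coprime_iff_not_dvd.2 hdc).symm
      obtain ⟨K, hK⟩ := hq d (hcop.dvd_of_dvd_mul_right (hcard ▸ hd))
      set L := K.comap (QuotientGroup.mk' C)
      have hCL : C ≤ L := fun x hx => by
        rw [Subgroup.mem_comap, QuotientGroup.mk'_apply, (QuotientGroup.eq_one_iff x).2 hx]
        exact one_mem K
      have hC' : Nat.card (C.subgroupOf L) = Nat.card C :=
        Nat.card_congr (Subgroup.subgroupOfEquivOfLe hCL).toEquiv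
      have hidx : (C.subgroupOf L).index = d := by
        have h1 := (C.subgroupOf L).card_mul_index
        rw [hC', hpre, hK, mul_comm d] at h1
        exact Nat.eq_of_mul_eq_mul_left hCp.pos h1
      obtain ⟨D, hD⟩ := Subgroup.exists_right_complement'_of_coprime (N := C.subgroupOf L)
        (by rw [hC', hidx]; exact hcop.symm)
      exact ⟨D.map L.subtype, by rw [Subgroup.card_subtype, ← hidx, hD.symm.index_eq_card]⟩

end Cfsg.Agent.S0531
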