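import Cfsg.Statements.S0532
import Cfsg.Agent.SolvStruct.Supersolvable

set_option autoImplicit false
open Cfsg
open scoped Pointwise

namespace Cfsg.Agent.S0532

/-- If each subgroup of a finite group satisfies the converse of Lagrange's theorem, then a Sylow subgroup for the largest prime dividing the group order is normal. -/
theorem result {G : Type*} [Group G] [Finite G] (h : ∀ H : Subgroup G, Cfsg.HasSubgroupOfEveryOrder H) (p : ℕ) [Fact p.Prime] (hdvd : p ∣ Nat.card G) (hmax : ∀ q : ℕ, q.Prime → q ∣ Nat.card G → q ≤ p) (P : Sylow p G) : (P : Subgroup G).Normal := by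
  obtain ⟨k, hk⟩ : ∃ k, Nat.card G = k := ⟨_, rfl⟩
  induction k using Nat.strong_induction_on generalizing G with
  | _ k ih =>
    set q := (Nat.card G).minFac
    have hG1 : Nat.card G ≠ 1 := fun h1 => (Fact.out : p.Prime).ne_one (Nat.dvd_one.1 (h1 ▸ hdvd))
    have hq : q.Prime := Nat.minFac_prime hG1
    haveI := Fact.mk hq
    rcases eq_or_ne q p with hqp | hqp
    · have hpg : ∀ r : ℕ, r.Prime → r ∣ Nat.card G → r = p := fun r hr hd =>
        le_antisymm (hmax r hr hd) (hqp ▸ Nat.minFac_le_of_dvd hr.two_le hd)
      have hGp : IsPGroup p G := IsPGroup.of_card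
        (Nat.eq_prime_pow_of_unique_prime_dvd Nat.card_pos.ne' fun {r} hr hd => hpg r hr hd)
      have htop : IsPGroup p (⊤ : Subgroup G) := hGp.to_subgroup ⊤
      rw [← P.3 htop le_top]
      infer_instance
    · obtain ⟨e, hm⟩ : q ∣ Nat.card G := Nat.minFac_dvd _
      obtain ⟨H', hH'⟩ := h ⊤ e (by rw [Subgroup.card_top, hm]; exact Dvd.intro_left _ rfl)
      set H := H'.map (⊤ : Subgroup G).subtype
      have hHcard : Nat.card H = e := by rw [Subgroup.card_subtype, hH']
      have he : 0 < e := hHcard ▸ Nat.card_pos
      have hHi : H.index = q := by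
        have h1 := H.card_mul_index
        rw [hHcard, hm, mul_comm q] at h1
        exact Nat.eq_of_mul_eq_mul_left he h1
      haveI : H.Normal := Subgroup.normal_of_index_eq_minFac_card hHi
      have hlt : Nat.card H < k := by
        rw [← hk, hHcard, hm]
        exact lt_mul_of_one_lt_left he hq.one_lt
      have hpH : p ∣ Nat.card H := by
        rcases (Fact.out : p.Prime).dvd_mul.1 (hm ▸ hdvd) with h2 | h2
        · exact absurd ((Nat.prime_dvd_prime_iff_eq Fact.out hq).1 h2).symm hqp
        · exact hHcard ▸ h2
      obtain ⟨R⟩ : Nonempty (Sylow p H) := inferInstance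
      have hR : (R : Subgroup H).Normal := by
        refine ih _ hlt (fun K d hd => ?_) hpH
          (fun r hr hd => hmax r hr (hd.trans (Subgroup.card_subgroup_dvd_card H))) R rfl
        obtain ⟨L, hL⟩ := h (K.map H.subtype) d (by rwa [Subgroup.card_subtype])
        refine ⟨L.map ((K.equivMapOfInjective H.subtype H.subtype_injective).symm.toMonoidHom), ?_⟩
        rw [Subgroup.card_map_of_injective (MulEquiv.injective _), hL]
      haveI := hR
      haveI : (R : Subgroup H).Characteristic := R.characteristic_of_normal inferInstance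
      set S := (R : Subgroup H).map H.subtype
      haveI : S.Normal := ConjAct.normal_of_characteristic_of_normal
      have hidx : ¬ p ∣ S.index := by
        rw [Subgroup.index_map_subtype, hHi]
        exact (Fact.out : p.Prime).not_dvd_mul R.not_dvd_index
          fun h2 => hqp ((Nat.prime_dvd_prime_iff_eq Fact.out hq).1 h2).symm
      obtain ⟨g, hg⟩ := MulAction.exists_smul_eq G ((R.2.map H.subtype).toSylow hidx) P
      rw [← hg, Sylow.coe_subgroup_smul]
      have : (MulAut.conj g • S : Subgroup G) = S := Subgroup.Normal.conjAct inferInstance (ConjAct.toConjAct g) |> fun h2 => h2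
      show (MulAut.conj g • S : Subgroup G).Normal
      rw [this]
      infer_instance

end Cfsg.Agent.S0532
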