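import Cfsg.Statements.S0549
import Cfsg.Agent.SolvStruct.Basics

set_option autoImplicit false
open Cfsg

namespace Cfsg.Agent.S0549

/-- Let U be a maximal subgroup of a finite group G whose normal core is trivial, and N a nontrivial normal subgroup with centralizer C. Then C ∩ U = 1, and either C = 1 or C is a minimal normal subgroup of G. -/
theorem result {G : Type*} [Group G] [Finite G] (U : Subgroup G) (hU : IsCoatom U) (hcore : U.normalCore = ⊥) (N : Subgroup G) [N.Normal] (hN : N ≠ ⊥) : Subgroup.centralizer (N : Set G) ⊓ U = ⊥ ∧ (Subgroup.centralizer (N : Set G) = ⊥ ∨ (Subgroup.centralizer (N : Set G) ≠ ⊥ ∧ ∀ K : Subgroup G, K.Normal → K ≤ Subgroup.centralizer (N : Set G) → K = ⊥ ∨ K = Subgroup.centralizer (N : Set G))) := by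
  set C := Subgroup.centralizer (N : Set G)
  haveI : C.Normal := inferInstance
  have hNU : ¬ N ≤ U := fun h => hN (le_bot_iff.1 (hcore ▸ (Subgroup.normal_le_normalCore.2 h)))
  have hsup : N ⊔ U = ⊤ := hU.2 _ (lt_of_le_of_ne le_sup_right fun he => hNU (he ▸ le_sup_left))
  have hCU : C ⊓ U = ⊥ := by
    suffices hn : (C ⊓ U).Normal by
      haveI := hn
      exact le_bot_iff.1 (hcore ▸ (Subgroup.normal_le_normalCore.2 inf_le_right : C ⊓ U ≤ U.normalCore))
    refine ⟨fun x hx g => ?_⟩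
    obtain ⟨n, hn, u, hu, rfl⟩ := Subgroup.mem_sup_of_normal_left.1 (hsup.ge (Subgroup.mem_top g))
    have h1 : u * x * u⁻¹ ∈ C ⊓ U :=
      Subgroup.mem_inf.2 ⟨Subgroup.Normal.conj_mem inferInstance x hx.1 u, mul_mem (mul_mem hu hx.2) (inv_mem hu)⟩
    rw [show n * u * x * (n * u)⁻¹ = n * (u * x * u⁻¹) * n⁻¹ by group, h1.1 n hn, mul_inv_cancel_right]
    exact h1
  refine ⟨hCU, (eq_or_ne C ⊥).imp id fun hne => ⟨hne, fun K hK hKC => or_iff_not_imp_left.2 fun hK1 => ?_⟩⟩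
  haveI := hK
  have hKU : ¬ K ≤ U := fun h => hK1 (le_bot_iff.1 (hcore ▸ Subgroup.normal_le_normalCore.2 h))
  have hsup' : K ⊔ U = ⊤ := hU.2 _ (lt_of_le_of_ne le_sup_right fun he => hKU (he ▸ le_sup_left))
  refine le_antisymm hKC fun c hc => ?_
  obtain ⟨k, hk, u, hu, hku⟩ := Subgroup.mem_sup_of_normal_left.1 (hsup'.ge (Subgroup.mem_top c))
  have h1 : u ∈ C ⊓ U := Subgroup.mem_inf.2 ⟨by
    rw [show u = k⁻¹ * c by rw [← hku]; group]; exact mul_mem (inv_mem (hKC hk)) hc, hu⟩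
  rw [hCU, Subgroup.mem_bot] at h1
  rw [← hku, h1, mul_one]
  exact hk

end Cfsg.Agent.S0549
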