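import Cfsg.Statements.S0550
import Cfsg.Agent.S0549

set_option autoImplicit false
open Cfsg

namespace Cfsg.Agent.S0550

/-- Let U be a maximal subgroup with trivial normal core in a finite group G, and A ≠ B two minimal normal subgroups. Then A is the centralizer of B and B that of A, U complements each of them, A and B are non-abelian, and A, B and (A ⊔ B) ∩ U are pairwise isomorphic. -/
theorem result {G : Type*} [Group G] [Finite G] (U : Subgroup G) (hU : IsCoatom U) (hcore : U.normalCore = ⊥) (A B : Subgroup G) [A.Normal] [B.Normal] (hA : A ≠ ⊥) (hB : B ≠ ⊥) (hAmin : ∀ K : Subgroup G, K.Normal → K ≤ A → K = ⊥ ∨ K = A) (hBmin : ∀ K : Subgroup G, K.Normal → K ≤ B → K = ⊥ ∨ K = B) (hAB : A ≠ B) : Subgroup.centralizer (B : Set G) = A ∧ Subgroup.centralizer (A : Set G) = B ∧ Subgroup.IsComplement' A U ∧ Subgroup.IsComplement' B U ∧ ¬ IsMulCommutative A ∧ Nonempty (A ≃* B) ∧ Nonempty (A ≃* ↥((A ⊔ B) ⊓ U)) := by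
  obtain ⟨hBU, hCB⟩ := Cfsg.Agent.S0549.result U hU hcore B hB
  obtain ⟨hAU, hCA⟩ := Cfsg.Agent.S0549.result U hU hcore A hA
  have hAB' : A ⊓ B = ⊥ := by
    rcases hAmin (A ⊓ B) inferInstance inf_le_left with h | h
    · exact h
    · rcases hBmin (A ⊓ B) inferInstance inf_le_right with h' | h'
      · exact h'
      · exact absurd (h.symm.trans h') hAB
  have hcomm : ∀ a ∈ A, ∀ b ∈ B, a * b = b * a := fun a ha b hb =>
    Subgroup.commute_of_normal_of_disjoint A B inferInstance inferInstance (disjoint_iff.2 hAB') a b ha hb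
  have hAle : A ≤ Subgroup.centralizer (B : Set G) := fun a ha b hb => (hcomm a ha b hb).symm
  have hBle : B ≤ Subgroup.centralizer (A : Set G) := fun b hb a ha => hcomm a ha b hb
  have hCBA : Subgroup.centralizer (B : Set G) = A := by
    rcases hCB with h | ⟨-, h⟩
    · exact absurd (le_bot_iff.1 (h ▸ hAle)) hA
    · exact ((h A inferInstance hAle).resolve_left hA).symm
  have hCAB : Subgroup.centralizer (A : Set G) = B := by
    rcases hCA with h | ⟨-, h⟩
    · exact absurd (le_bot_iff.1 (h ▸ hBle)) hB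
    · exact ((h B inferInstance hBle).resolve_left hB).symm
  have hcomp : ∀ N : Subgroup G, N.Normal → N ≠ ⊥ → N ⊓ U = ⊥ → Subgroup.IsComplement' N U := by
    intro N hN hN1 hNU
    haveI := hN
    have hle : ¬ N ≤ U := fun h => hN1 (le_bot_iff.1 (hcore ▸ Subgroup.normal_le_normalCore.2 h))
    have hsup : N ⊔ U = ⊤ := hU.2 _ (lt_of_le_of_ne le_sup_right fun he => hle (he ▸ le_sup_left))
    exact Subgroup.isComplement'_of_disjoint_and_mul_eq_univ (disjoint_iff.2 hNU)
      (by rw [← Subgroup.normal_mul, hsup, Subgroup.coe_top])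
  have hcA := hcomp A inferInstance hA (hCBA ▸ hBU)
  have hcB := hcomp B inferInstance hB (hCAB ▸ hAU)
  -- projection of either factor on the diagonal `(A ⊔ B) ⊓ U`
  have hiso : ∀ (X Y : Subgroup G), X ⊓ Y = ⊥ → (∀ x ∈ X, ∀ y ∈ Y, x * y = y * x) → Subgroup.IsComplement' Y U →
      Subgroup.IsComplement' X U → Nonempty (X ≃* ↥((X ⊔ Y) ⊓ U)) := by
    intro X Y hXY hXYc hY hX
    have hex : ∀ x : X, ∃ u : U, ∃ y : Y, (y : G) * u = x := fun x => by
      obtain ⟨⟨y, u⟩, h⟩ := hY.2 (x : G)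
      exact ⟨u, y, h⟩
    choose f y hfy using hex
    have huniq : ∀ (x : X) (u : U) (z : Y), (z : G) * u = x → f x = u := fun x u z h =>
      (congrArg Prod.snd (hY.1 (a₁ := ⟨y x, f x⟩) (a₂ := ⟨z, u⟩) ((hfy x).trans h.symm)))
    have hmem : ∀ x : X, (f x : G) ∈ (X ⊔ Y) ⊓ U := fun x => Subgroup.mem_inf.2 ⟨by
      rw [show (f x : G) = (y x : G)⁻¹ * x by rw [← hfy x]; group]
      exact mul_mem (Subgroup.mem_sup_right (inv_mem (y x).2)) (Subgroup.mem_sup_left x.2), (f x).2⟩
    let g : X →* ↥((X ⊔ Y) ⊓ U) := MonoidHom.mk' (fun x => ⟨f x, hmem x⟩) fun a b => Subtype.ext (by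
      have hya : (f a : G) = (y a : G)⁻¹ * a := by rw [← hfy a]; group
      have hyb : (f b : G) = (y b : G)⁻¹ * b := by rw [← hfy b]; group
      have h := huniq (a * b) (f a * f b) (y b * y a) (by
        rw [Subgroup.coe_mul, Subgroup.coe_mul, Subgroup.coe_mul, hya, hyb,
          show (y b : G) * (y a) * ((y a : G)⁻¹ * a * ((y b : G)⁻¹ * b)) = (y b : G) * ((a : G) * (y b : G)⁻¹) * b by group,
          hXYc a a.2 _ (inv_mem (y b).2)]
        group)
      exact congrArg (fun u : U => (u : G)) h)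
    refine ⟨MulEquiv.ofBijective g ⟨?_, ?_⟩⟩
    · rw [injective_iff_map_eq_one]
      intro x hx
      have hf1 : (f x : G) = 1 := congrArg Subtype.val hx
      have h1 := hfy x
      rw [hf1, mul_one] at h1
      have h2 : (x : G) ∈ X ⊓ Y := Subgroup.mem_inf.2 ⟨x.2, h1 ▸ (y x).2⟩
      rw [hXY, Subgroup.mem_bot] at h2
      exact Subtype.ext h2
    · rintro ⟨w, hwXY, hwU⟩
      have hYn : X ≤ Subgroup.normalizer (Y : Set G) := fun x hx => Subgroup.mem_normalizer_iff.2 fun z => by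
        constructor
        · intro hz; rwa [hXYc x hx z hz, mul_inv_cancel_right]
        · intro hz
          have h1 := hXYc x hx _ hz
          have h2 : x * z = x * z * x⁻¹ * x := by group
          rw [← h1] at h2
          rwa [mul_left_cancel h2]
      have hw : w ∈ ((X ⊔ Y : Subgroup G) : Set G) := hwXY
      rw [Subgroup.coe_mul_of_left_le_normalizer_right _ _ hYn] at hw
      obtain ⟨x, hx, z, hz, rfl⟩ := hw
      have h1 := huniq ⟨x, hx⟩ ⟨x * z, hwU⟩ ⟨z⁻¹, inv_mem hz⟩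
        (show z⁻¹ * (x * z) = x by rw [hXYc x hx z hz, inv_mul_cancel_left])
      exact ⟨⟨x, hx⟩, Subtype.ext (congrArg (fun u : U => (u : G)) h1)⟩
  obtain ⟨e1⟩ := hiso A B hAB' hcomm hcB hcA
  obtain ⟨e2⟩ := hiso B A (by rwa [inf_comm]) (fun b hb a ha => (hcomm a ha b hb).symm) hcA hcB
  refine ⟨hCBA, hCAB, hcA, hcB, fun hc => ?_, ⟨e1.trans (((MulEquiv.subgroupCongr (by rw [sup_comm])).trans e2.symm))⟩, ⟨e1⟩⟩
  haveI := hc
  exact hA (le_bot_iff.1 ((le_inf le_rfl (hCAB ▸ Subgroup.le_centralizer A)).trans hAB'.le))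

end Cfsg.Agent.S0550
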