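import Cfsg.Statements.S0552
import Cfsg.Agent.Coprime.Fitting
import Cfsg.Agent.Components.Cores

set_option autoImplicit false
open Cfsg

namespace Cfsg.Agent.S0552

/-- Let σ be an automorphism of a finite solvable group G fixing every element of the Fitting subgroup. If σ is not the identity then the order of σ and the order of G have a common prime factor. -/
theorem result {G : Type*} [Group G] [Finite G] [Group.IsSolvable G] (σ : G ≃* G) (hσ : ∀ x ∈ Cfsg.fittingSubgroup G, σ x = x) (hne : σ ≠ MulEquiv.refl G) : ¬ (orderOf σ).Coprime (Nat.card G) := by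
  intro hcop
  have hFn : (Cfsg.fittingSubgroup G).Normal := Cfsg.Lib.Components.fittingSubgroup_normal'
  refine hne (MulEquiv.ext fun g => ?_)
  have hd : g⁻¹ * σ g ∈ Cfsg.fittingSubgroup G := by
    refine Cfsg.Lib.Coprime.centralizer_fitting_le (Subgroup.mem_centralizer_iff.2 fun f hf => ?_)
    have h1 := hσ _ (hFn.conj_mem f hf g)
    rw [map_mul, map_mul, map_inv, hσ f hf] at h1
    calc f * (g⁻¹ * σ g) = g⁻¹ * (g * f * g⁻¹) * σ g := by group
      _ = g⁻¹ * (σ g * f * (σ g)⁻¹) * σ g := by rw [h1]
      _ = _ := by group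
  set d := g⁻¹ * σ g
  have hpow : ∀ n : ℕ, (σ ^ n : G ≃* G) g = g * d ^ n := by
    intro n
    induction n with
    | zero => simp
    | succ n ih =>
      rw [pow_succ', show (σ * σ ^ n : G ≃* G) g = σ ((σ ^ n : G ≃* G) g) from rfl, ih, map_mul, map_pow,
        hσ d hd, pow_succ', ← mul_assoc, show g * d = σ g from mul_inv_cancel_left g (σ g)]
  have h1 := hpow (orderOf σ)
  rw [pow_orderOf_eq_one] at h1
  have h2 : d ^ orderOf σ = 1 := by simpa using h1
  have h3 : d = 1 := orderOf_eq_one_iff.1
    (Nat.eq_one_of_dvd_coprimes hcop (orderOf_dvd_of_pow_eq_one h2) (orderOf_dvd_natCard d))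
  show σ g = g
  rw [show σ g = g * d from (mul_inv_cancel_left g (σ g)).symm, h3, mul_one]

end Cfsg.Agent.S0552
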