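import Cfsg.Statements.S0555
import Cfsg.Agent.SolvStruct.Basics

set_option autoImplicit false
open Cfsg
open scoped commutatorElement

namespace Cfsg.Agent.S0555

/-- Let i ≥ 1. If in the derived series of a group the quotient of the i-th term by the (i+1)-st and the quotient of the (i+1)-st by the (i+2)-nd are both cyclic, then the (i+1)-st and (i+2)-nd terms coincide. -/
theorem result {G : Type*} [Group G] (i : ℕ) (hi : 1 ≤ i) (h₁ : IsCyclic (↥(derivedSeries G i) ⧸ (derivedSeries G (i + 1)).subgroupOf (derivedSeries G i))) (h₂ : IsCyclic (↥(derivedSeries G (i + 1)) ⧸ (derivedSeries G (i + 2)).subgroupOf (derivedSeries G (i + 1)))) : derivedSeries G (i + 1) = derivedSeries G (i + 2) := by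
  set A := derivedSeries G i
  set B := derivedSeries G (i + 1) with hBdef
  set C := derivedSeries G (i + 2) with hCdef
  haveI hBn : B.Normal := derivedSeries_normal G (i + 1)
  haveI hCn : C.Normal := derivedSeries_normal G (i + 2)
  have hBA : B ≤ A := derivedSeries_antitone G (Nat.le_succ i)
  have hCB : C ≤ B := derivedSeries_antitone G (Nat.le_succ (i + 1))
  refine le_antisymm ?_ hCB
  set π := QuotientGroup.mk' C
  set Bb := B.map π
  haveI : Bb.Normal := hBn.map π (QuotientGroup.mk'_surjective C)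
  obtain ⟨qb, hqb⟩ := IsCyclic.exists_generator (α := B ⧸ C.subgroupOf B)
  obtain ⟨b, rfl⟩ := QuotientGroup.mk_surjective qb
  have hgenB : ∀ y ∈ B, ∃ k : ℤ, π y = π (b : G) ^ k := by
    intro y hy
    obtain ⟨k, hk⟩ := Subgroup.mem_zpowers_iff.1 (hqb ((⟨y, hy⟩ : B) : B ⧸ C.subgroupOf B))
    refine ⟨k, ?_⟩
    rw [← QuotientGroup.mk_zpow, QuotientGroup.eq, Subgroup.mem_subgroupOf] at hk
    rw [← map_zpow]
    exact (QuotientGroup.eq.2 (by simpa using hk)).symm
  -- the derived subgroup centralises `Bb`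
  have hcent : ∀ a ∈ A, ∀ y ∈ B, Commute (π a) (π y) := by
    let φ : G →* MulAut Bb := (MulAut.conjNormal).comp π
    have hbmem : π (b : G) ∈ Bb := ⟨b, b.2, rfl⟩
    have hval : ∀ g : G, ∃ k : ℤ, φ g ⟨π b, hbmem⟩ = (⟨π b, hbmem⟩ : Bb) ^ k := by
      intro g
      obtain ⟨k, hk⟩ := hgenB (g * b * g⁻¹) (hBn.conj_mem _ b.2 g)
      refine ⟨k, Subtype.ext ?_⟩
      rw [Subgroup.coe_zpow]
      show π g * π b * (π g)⁻¹ = π b ^ k
      rw [← hk, map_mul, map_mul, map_inv]
    have hcommφ : ∀ g h : G, φ g * φ h = φ h * φ g := by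
      intro g h
      ext ⟨_, y, hy, rfl⟩
      obtain ⟨j, hj⟩ := hgenB y hy
      obtain ⟨m, hm⟩ := hval g
      obtain ⟨n, hn⟩ := hval h
      have hy' : (⟨π y, y, hy, rfl⟩ : Bb) = (⟨π b, hbmem⟩ : Bb) ^ j := Subtype.ext (by rw [Subgroup.coe_zpow]; exact hj)
      rw [hy']
      simp only [MulAut.mul_apply, map_zpow, hm, hn, ← zpow_mul]
      congr 2
      ring
    have hker : commutator G ≤ φ.ker := by
      rw [commutator_def, Subgroup.commutator_le]
      intro g _ h _
      rw [MonoidHom.mem_ker, map_commutatorElement, commutatorElement_eq_one_iff_mul_comm]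
      exact hcommφ g h
    intro a ha y hy
    have ha' : a ∈ commutator G := derivedSeries_one (G := G) ▸ derivedSeries_antitone G hi ha
    have h3 := congrArg Subtype.val (DFunLike.congr_fun (hker ha') (⟨π y, y, hy, rfl⟩ : Bb))
    have h4 : π a * π y * (π a)⁻¹ = π y := h3
    exact mul_inv_eq_iff_eq_mul.1 h4
  obtain ⟨qa, hqa⟩ := IsCyclic.exists_generator (α := A ⧸ B.subgroupOf A)
  obtain ⟨a, rfl⟩ := QuotientGroup.mk_surjective qa
  have hgenA : ∀ x ∈ A, ∃ (k : ℤ) (u : G), u ∈ B ∧ x = (a : G) ^ k * u := by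
    intro x hx
    obtain ⟨k, hk⟩ := Subgroup.mem_zpowers_iff.1 (hqa ((⟨x, hx⟩ : A) : A ⧸ B.subgroupOf A))
    rw [← QuotientGroup.mk_zpow, QuotientGroup.eq, Subgroup.mem_subgroupOf] at hk
    exact ⟨k, ((a : G) ^ k)⁻¹ * x, by simpa using hk, by group⟩
  rw [hBdef, derivedSeries_succ, Subgroup.commutator_le]
  intro x hx y hy
  obtain ⟨k, u, hu, rfl⟩ := hgenA x hx
  obtain ⟨l, v, hv, rfl⟩ := hgenA y hy
  rw [← QuotientGroup.eq_one_iff]
  show π ⁅(a : G) ^ k * u, (a : G) ^ l * v⁆ = 1
  rw [map_commutatorElement, commutatorElement_eq_one_iff_commute, map_mul, map_mul, map_zpow, map_zpow]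
  have h1 : Commute (π a) (π u) := hcent a a.2 u hu
  have h2 : Commute (π a) (π v) := hcent a a.2 v hv
  have h3 : Commute (π u) (π v) := hcent u (hBA hu) v hv
  exact ((((Commute.refl (π (a : G))).zpow_zpow k l).mul_right (h2.zpow_left k))).mul_left
    (((h1.symm).zpow_right l).mul_right h3)

end Cfsg.Agent.S0555
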