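import Cfsg.Statements.S0558
import Cfsg.Agent.Transfer.FrobeniusApps

set_option autoImplicit false
open Cfsg
open Cfsg.Lib.Transfer
open scoped commutatorElement

namespace Cfsg.Agent.S0558

/-- Let H be a subgroup of a finite group G that is not a Sylow subgroup of G for any prime, and suppose that for every prime p dividing the order of H and every Sylow p-subgroup P of H the normalizer of P in G is exactly H. Then some normal subgroup of G is a complement to H. -/
theorem result {G : Type*} [Group G] [Finite G] (H : Subgroup G) (hnot : ∀ p : ℕ, p.Prime → ∀ P : Sylow p G, (P : Subgroup G) ≠ H) (hnorm : ∀ p : ℕ, p.Prime → p ∣ Nat.card H → ∀ P : Sylow p H, Subgroup.normalizer (((P : Subgroup H).map H.subtype : Subgroup G) : Set G) = H) : ∃ N : Subgroup G, N.Normal ∧ Subgroup.IsComplement' N H := by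
  -- a Sylow subgroup of `H` is one of `G`
  have hsyl : ∀ p : ℕ, ∀ hp : p.Prime, p ∣ Nat.card H →
      ∃ P : Sylow p G, (P : Subgroup G) ≤ H ∧ Subgroup.normalizer (P : Set G) = H := by
    intro p hp hd
    haveI := Fact.mk hp
    obtain ⟨P0⟩ : Nonempty (Sylow p H) := inferInstance
    have hn := hnorm p hp hd P0
    obtain ⟨S, hS⟩ := (P0.2.map H.subtype).exists_le_sylow
    have heq : (P0 : Subgroup H).map H.subtype = (S : Subgroup G) := by
      by_contra hne
      have hlt := lt_inf_normalizer_of_lt S (lt_of_le_of_ne hS hne)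
      rw [hn] at hlt
      have h1 := P0.3 ((S.2.to_le (inf_le_left : (S : Subgroup G) ⊓ H ≤ S)).comap_subtype)
        (fun x hx => ⟨hS ⟨x, hx, rfl⟩, x.2⟩)
      obtain ⟨y, hy, hy'⟩ := SetLike.exists_of_lt hlt
      refine hy' ⟨⟨y, hy.2⟩, ?_, rfl⟩
      show (⟨y, hy.2⟩ : H) ∈ (P0 : Subgroup H)
      rw [← h1]
      exact hy
    exact ⟨S, heq ▸ Subgroup.map_subtype_le _, by
      rw [← Sylow.coe_coe, ← heq]; exact hn⟩
  have hHall : (Nat.card H).Coprime H.index := by
    refine Nat.coprime_of_dvd' fun p hp hd hi => ?_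
    haveI := Fact.mk hp
    obtain ⟨P, hP, -⟩ := hsyl p hp hd
    exact absurd (hi.trans (Subgroup.index_dvd_of_le hP)) P.not_dvd_index
  refine exists_complement_of_forall_prime H hHall fun p hp hd => ?_
  haveI := Fact.mk hp
  obtain ⟨P, hPH, hPN⟩ := hsyl p hp hd
  obtain ⟨q, hq, hqd, hqp⟩ : ∃ q : ℕ, q.Prime ∧ q ∣ Nat.card H ∧ q ≠ p := by
    by_contra hcon
    push Not at hcon
    have hHp : IsPGroup p H := IsPGroup.of_card (n := (Nat.card H).primeFactorsList.length)
      (Nat.eq_prime_pow_of_unique_prime_dvd Nat.card_pos.ne' fun {d} hd' hdd => hcon d hd' hdd)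
    exact hnot p hp P (P.3 hHp hPH).symm
  haveI := Fact.mk hq
  obtain ⟨Q, hQH, hQN⟩ := hsyl q hq hqd
  -- `P` and `Q` commute
  have hPQ : ∀ x ∈ (P : Subgroup G), ∀ y ∈ (Q : Subgroup G), x * y = y * x := by
    intro x hx y hy
    have h1 : x ∈ Subgroup.normalizer (Q : Set G) := hQN ▸ hPH hx
    have h2 : y ∈ Subgroup.normalizer (P : Set G) := hPN ▸ hQH hy
    have h3 : ⁅x, y⁆ ∈ (P : Subgroup G) ⊓ (Q : Subgroup G) := by
      rw [commutatorElement_def, Subgroup.mem_inf]
      refine ⟨?_, mul_mem ((Subgroup.mem_normalizer_iff.1 h1 _).1 hy) (inv_mem hy)⟩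
      rw [mul_assoc x y, mul_assoc x]
      exact mul_mem hx ((Subgroup.mem_normalizer_iff.1 h2 _).1 (inv_mem hx))
    rw [disjoint_iff.1 (IsPGroup.disjoint_of_ne p q (Ne.symm hqp) _ _ P.2 Q.2), Subgroup.mem_bot,
      commutatorElement_eq_one_iff_mul_comm] at h3
    exact h3
  apply hasNormalPComplement_of_frobenius
  intro R hR g hg hcop
  obtain ⟨S, hS⟩ := hR.exists_le_sylow
  obtain ⟨t, ht⟩ := MulAction.exists_smul_eq G P S
  -- move to `t • Q`, which centralises `R`
  set C := Subgroup.centralizer (R : Set G)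
  have hQC : ((t • Q : Sylow q G) : Subgroup G) ≤ C := by
    intro y hy x hx
    rw [sylow_smul_coe, mem_map_conj] at hy
    have hx' := hS hx
    rw [← ht, sylow_smul_coe, mem_map_conj] at hx'
    have := hPQ _ hx' _ hy
    calc x * y = t * ((t⁻¹ * x * t) * (t⁻¹ * y * t)) * t⁻¹ := by group
      _ = t * ((t⁻¹ * y * t) * (t⁻¹ * x * t)) * t⁻¹ := by rw [this]
      _ = y * x := by group
  have hgQ : ((g • t • Q : Sylow q G) : Subgroup G) ≤ C := by
    intro y hy
    rw [sylow_smul_coe, mem_map_conj] at hy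
    intro x hx
    have hgx : g⁻¹ * x * g ∈ R := by
      have := (Subgroup.mem_normalizer_iff.1 (inv_mem hg) x).1 hx
      simpa using this
    have := hQC hy _ hgx
    calc x * y = g * ((g⁻¹ * x * g) * (g⁻¹ * y * g)) * g⁻¹ := by group
      _ = g * ((g⁻¹ * y * g) * (g⁻¹ * x * g)) * g⁻¹ := by rw [this]
      _ = y * x := by group
  obtain ⟨c, hc, hcQ⟩ := exists_conj_mem_of_sylow_le C (g • t • Q) (t • Q) hgQ hQC
  have hm : t⁻¹ * (c * g) * t ∈ Subgroup.normalizer (Q : Set G) :=
    Sylow.smul_eq_iff_mem_normalizer.1 (by rw [mul_smul, mul_smul, mul_smul, hcQ, inv_smul_smul])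
  rw [hQN, ← hPN] at hm
  set m := t⁻¹ * (c * g) * t with hmdef
  obtain ⟨a, b, ha, hb, hab, ⟨k, hk⟩, hbc⟩ := exists_pPart p m
  have haN : a ∈ Subgroup.normalizer (P : Set G) := (Subgroup.zpowers_le.2 hm) ha
  have hbH : b ∈ H := hPN ▸ (Subgroup.zpowers_le.2 hm) hb
  -- the `p'`-part of an element of `H` centralises `P`
  have hbP : ∀ x ∈ (P : Subgroup G), x * b = b * x := by
    intro x hx
    have hbP' : b ∈ Subgroup.centralizer ((P : Subgroup G) : Set G) := by
      refine le_of_forall_prime_pow (M := Subgroup.zpowers b) (fun w hw r i hr hi => ?_)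
        (Subgroup.mem_zpowers b)
      haveI := Fact.mk hr
      have hwH : w ∈ H := (Subgroup.zpowers_le.2 hbH) hw
      rcases Nat.eq_zero_or_pos i with rfl | hi0
      · rw [pow_zero, orderOf_eq_one_iff] at hi
        subst hi
        exact one_mem _
      have hrd : r ∣ Nat.card H := by
        refine (dvd_pow_self r hi0.ne').trans ?_
        rw [← hi, ← Subgroup.orderOf_mk w hwH]
        exact _root_.orderOf_dvd_natCard _
      have hrp : r ≠ p := by
        rintro rfl
        exact hr.coprime_iff_not_dvd.1 hbc.symm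
          (((dvd_pow_self r hi0.ne').trans hi.symm.dvd).trans (orderOf_dvd_of_mem_zpowers hw))
      obtain ⟨W, -, hWN⟩ := hsyl r hr hrd
      have hwW : w ∈ (W : Subgroup G) := by
        have h1 := (IsPGroup.of_card (p := r) ((Nat.card_zpowers w).trans hi)).inf_normalizer_sylow W
        have h2 : w ∈ Subgroup.zpowers w ⊓ Subgroup.normalizer (W : Set G) :=
          ⟨Subgroup.mem_zpowers w, hWN.symm ▸ hwH⟩
        rw [h1] at h2
        exact h2.2
      intro z hz
      have h1 : z ∈ Subgroup.normalizer (W : Set G) := hWN.symm ▸ hPH hz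
      have h2 : w ∈ Subgroup.normalizer (P : Set G) := hPN.symm ▸ hwH
      have h3 : ⁅z, w⁆ ∈ (P : Subgroup G) ⊓ (W : Subgroup G) := by
        rw [commutatorElement_def, Subgroup.mem_inf]
        refine ⟨?_, mul_mem ((Subgroup.mem_normalizer_iff.1 h1 _).1 hwW) (inv_mem hwW)⟩
        rw [mul_assoc z w, mul_assoc z]
        exact mul_mem hz ((Subgroup.mem_normalizer_iff.1 h2 _).1 (inv_mem hz))
      rw [disjoint_iff.1 (IsPGroup.disjoint_of_ne p r (Ne.symm hrp) _ _ P.2 W.2), Subgroup.mem_bot,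
        commutatorElement_eq_one_iff_mul_comm] at h3
      exact h3
    exact hbP' x hx
  -- so `g` acts on `R` as the `p`-element `t a t⁻¹`
  have hu : (t * a * t⁻¹)⁻¹ * g ∈ C := by
    have hbC : t * b * t⁻¹ ∈ C := by
      intro x hx
      have hx' := hS hx
      rw [← ht, sylow_smul_coe, mem_map_conj] at hx'
      have := hbP _ hx'
      calc x * (t * b * t⁻¹) = t * ((t⁻¹ * x * t) * b) * t⁻¹ := by group
        _ = t * (b * (t⁻¹ * x * t)) * t⁻¹ := by rw [this]
        _ = t * b * t⁻¹ * x := by group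
    have hgN : Subgroup.centralizer (R : Set G) ≤ Subgroup.normalizer (R : Set G) :=
      Subgroup.centralizer_le_normalizer _
    haveI := Subgroup.normal_subgroupOf_centralizer_normalizer (R : Set G)
    have hcg : c * g = t * a * t⁻¹ * (t * b * t⁻¹) := by
      rw [hmdef] at hab
      calc c * g = t * (t⁻¹ * (c * g) * t) * t⁻¹ := by group
        _ = t * (a * b) * t⁻¹ := by rw [hab]
        _ = _ := by group
    have hu' : (t * a * t⁻¹)⁻¹ * g = t * b * t⁻¹ * (g⁻¹ * c⁻¹ * g) := by
      have h' : (t * a * t⁻¹)⁻¹ = t * b * t⁻¹ * (c * g)⁻¹ := by rw [hcg]; group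
      rw [h']; group
    rw [hu']
    refine mul_mem hbC ?_
    have := (inferInstance : (C.subgroupOf (Subgroup.normalizer (R : Set G))).Normal).conj_mem
      ⟨c⁻¹, hgN (inv_mem hc)⟩ (inv_mem hc) ⟨g⁻¹, inv_mem hg⟩
    simpa [Subgroup.mem_subgroupOf] using this
  have hgN : Subgroup.centralizer (R : Set G) ≤ Subgroup.normalizer (R : Set G) :=
    Subgroup.centralizer_le_normalizer _
  have huN : t * a * t⁻¹ ∈ Subgroup.normalizer (R : Set G) := by
    have h' := mul_mem hg (inv_mem (hgN hu))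
    simpa [mul_assoc] using h'
  haveI := Subgroup.normal_subgroupOf_centralizer_normalizer (R : Set G)
  set π := QuotientGroup.mk' (C.subgroupOf (Subgroup.normalizer (R : Set G)))
  have heq : π ⟨g, hg⟩ = π ⟨_, huN⟩ :=
    ((QuotientGroup.eq (s := C.subgroupOf (Subgroup.normalizer (R : Set G)))
      (a := ⟨t * a * t⁻¹, huN⟩) (b := ⟨g, hg⟩)).2 hu).symm
  have hone : π ⟨g, hg⟩ = 1 := by
    rw [← orderOf_eq_one_iff]
    refine Nat.eq_one_of_dvd_coprimes (hcop.pow_right k) ?_ ?_
    · exact (orderOf_map_dvd π _).trans (Subgroup.orderOf_mk g hg).dvd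
    · rw [heq]
      refine (orderOf_map_dvd π _).trans ?_
      rw [Subgroup.orderOf_mk, show t * a * t⁻¹ = MulAut.conj t a from rfl, MulEquiv.orderOf_eq, hk]
  exact (QuotientGroup.eq_one_iff (⟨g, hg⟩ : Subgroup.normalizer (R : Set G))).1 hone

end Cfsg.Agent.S0558
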