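import Cfsg.Statements.S0562
import Cfsg.Agent.SolvStruct.Basics

set_option autoImplicit false
open Cfsg

namespace Cfsg.Agent.S0562

/-- Let the finite group G be the product HK of subgroups, A normal in H, B normal in K, and L the normalizer of the subgroup generated by A and B. Then every element of L is a product of an element of L ∩ H and an element of L ∩ K. -/
theorem result {G : Type*} [Group G] [Finite G] (H K A B : Subgroup G) (hHK : ∀ g : G, ∃ h ∈ H, ∃ k ∈ K, g = h * k) (hA : A ≤ H) (hAn : (A.subgroupOf H).Normal) (hB : B ≤ K) (hBn : (B.subgroupOf K).Normal) : ∀ g ∈ Subgroup.normalizer ((A ⊔ B : Subgroup G) : Set G), ∃ h ∈ Subgroup.normalizer ((A ⊔ B : Subgroup G) : Set G) ⊓ H, ∃ k ∈ Subgroup.normalizer ((A ⊔ B : Subgroup G) : Set G) ⊓ K, g = h * k := by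
  intro g hg
  obtain ⟨h, hh, k, hk, rfl⟩ := hHK g
  set J := A ⊔ B
  rw [Subgroup.normal_subgroupOf_iff_le_normalizer hA] at hAn
  rw [Subgroup.normal_subgroupOf_iff_le_normalizer hB] at hBn
  set X : Subgroup G := J.map (MulAut.conj k).toMonoidHom
  have hXh : X = J.map (MulAut.conj h⁻¹).toMonoidHom := by
    have h1 : J.map (MulAut.conj (h * k)).toMonoidHom = J := by
      ext z
      constructor
      · rintro ⟨y, hy, rfl⟩
        exact (Subgroup.mem_normalizer_iff.1 hg y).1 hy
      · intro hz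
        exact ⟨(h * k)⁻¹ * z * (h * k), (Subgroup.mem_normalizer_iff''.1 hg z).1 hz, by simp [mul_assoc]⟩
    conv_rhs => rw [← h1, Subgroup.map_map]
    show J.map _ = _
    congr 1
    ext z; simp [mul_assoc]
  have hJX : J ≤ X := by
    refine sup_le (fun a ha => ?_) fun b hb => ?_
    · rw [hXh]
      refine ⟨h * a * h⁻¹, Subgroup.mem_sup_left ((Subgroup.mem_normalizer_iff.1 (hAn hh) a).1 ha), ?_⟩
      simp [mul_assoc]
    · refine ⟨k⁻¹ * b * k, Subgroup.mem_sup_right ((Subgroup.mem_normalizer_iff''.1 (hBn hk) b).1 hb), ?_⟩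
      simp [mul_assoc]
  have hXJ : X = J := (Subgroup.eq_of_le_of_card_ge hJX (le_of_eq
    (Subgroup.card_map_of_injective (MulAut.conj k).injective))).symm
  have hkN : k ∈ Subgroup.normalizer (J : Set G) := Subgroup.mem_normalizer_iff.2 fun y => by
    constructor
    · intro hy; rw [← hXJ]; exact ⟨y, hy, rfl⟩
    · intro hy
      rw [← hXJ] at hy
      obtain ⟨z, hz, hzy⟩ := hy
      rwa [← (MulAut.conj k).injective hzy]
  refine ⟨h, ⟨?_, hh⟩, k, ⟨hkN, hk⟩, rfl⟩
  simpa using mul_mem hg (inv_mem hkN)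

end Cfsg.Agent.S0562
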