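import Cfsg.Statements.S0567
import Cfsg.Agent.SolvStruct.Basics

set_option autoImplicit false
open Cfsg
open scoped commutatorElement

namespace Cfsg.Agent.S0567

/-- A subgroup H of a group G is subnormal exactly when, for some m, the subgroup obtained from G by taking the commutator with H m times in succession is contained in H. -/
theorem result {G : Type*} [Group G] (H : Subgroup G) : H.IsSubnormal ↔ ∃ m : ℕ, (fun K : Subgroup G => ⁅K, H⁆)^[m] ⊤ ≤ H := by
  constructor
  · intro hH
    induction hH with
    | top => exact ⟨0, le_rfl⟩
    | step H K hle _ hN ih =>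
      obtain ⟨m, hm⟩ := ih
      refine ⟨m + 1, ?_⟩
      rw [Subgroup.normal_subgroupOf_iff_le_normalizer hle] at hN
      rw [Function.iterate_succ_apply']
      have hmono : ∀ i, (fun X : Subgroup G => ⁅X, H⁆)^[i] ⊤ ≤ (fun X : Subgroup G => ⁅X, K⁆)^[i] ⊤ := by
        intro i
        induction i with
        | zero => exact le_rfl
        | succ i ih2 =>
          rw [Function.iterate_succ_apply', Function.iterate_succ_apply']
          exact Subgroup.commutator_mono ih2 hle
      refine (Subgroup.commutator_mono ((hmono m).trans hm) le_rfl).trans ?_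
      exact Subgroup.le_normalizer_iff_commutator_le_right.1 hN
  · rintro ⟨m, hm⟩
    set f : Subgroup G → Subgroup G := fun X => ⁅X, H⁆
    have hnorm : ∀ i, H ≤ Subgroup.normalizer (f^[i] ⊤ : Set G) := by
      intro i
      induction i with
      | zero => intro x _; rw [Function.iterate_zero_apply]; exact Subgroup.le_normalizer (Subgroup.mem_top x)
      | succ i ih =>
        rw [Function.iterate_succ_apply']
        exact Subgroup.normalizer_commutator_ge_right _ H
    have hsub : ∀ i, (f^[i] ⊤ ⊔ H).IsSubnormal := by
      intro i
      induction i with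
      | zero => simp
      | succ i ih =>
        have hle1 : f^[i + 1] ⊤ ≤ f^[i] ⊤ := by
          rw [Function.iterate_succ_apply']
          exact Subgroup.le_normalizer_iff_commutator_le_left.1 (hnorm i)
        refine Subgroup.IsSubnormal.step _ _ (sup_le_sup_right hle1 H) ih ?_
        rw [Subgroup.normal_subgroupOf_iff_le_normalizer (sup_le_sup_right hle1 H)]
        refine sup_le (fun k hk => ?_) (Subgroup.le_normalizer.trans' le_sup_right)
        have h1 : f^[i] ⊤ ≤ Subgroup.normalizer (f^[i + 1] ⊤ : Set G) := by
          rw [Function.iterate_succ_apply']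
          exact Subgroup.normalizer_commutator_ge_left _ H
        have hconj : ∀ k ∈ f^[i] ⊤, ∀ y ∈ f^[i + 1] ⊤ ⊔ H, k * y * k⁻¹ ∈ f^[i + 1] ⊤ ⊔ H := by
          intro k hk
          suffices hle2 : f^[i + 1] ⊤ ⊔ H ≤ (f^[i + 1] ⊤ ⊔ H).comap (MulAut.conj k).toMonoidHom from
            fun y hy => hle2 hy
          refine sup_le (fun z hz => ?_) fun z hz => ?_
          · exact Subgroup.mem_sup_left ((Subgroup.mem_normalizer_iff.1 (h1 hk) z).1 hz)
          · rw [Subgroup.mem_comap]
            show k * z * k⁻¹ ∈ f^[i + 1] ⊤ ⊔ H
            rw [show k * z * k⁻¹ = ⁅k, z⁆ * z by rw [commutatorElement_def]; group]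
            refine Subgroup.mul_mem_sup ?_ hz
            rw [Function.iterate_succ_apply']
            exact Subgroup.commutator_mem_commutator hk hz
        refine Subgroup.mem_normalizer_iff.2 fun y => ⟨hconj k hk y, fun hy => ?_⟩
        have := hconj k⁻¹ (inv_mem hk) _ hy
        simpa [mul_assoc] using this
    have := hsub m
    rwa [sup_eq_right.2 hm] at this

end Cfsg.Agent.S0567
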