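import Cfsg.Statements.S0572
import Cfsg.Agent.SolvStruct.Basics

set_option autoImplicit false
open Cfsg
open scoped commutatorElement

namespace Cfsg.Agent.S0572

/-- Itô's Theorem: if a group G is the product AB of two abelian subgroups, then the commutator subgroup of G is abelian, i.e. the second term of the derived series is trivial. -/
theorem result {G : Type*} [Group G] (A B : Subgroup G) [IsMulCommutative A] [IsMulCommutative B] (hAB : ∀ g : G, ∃ a ∈ A, ∃ b ∈ B, g = a * b) : derivedSeries G 2 = ⊥ := by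
  have hBA : ∀ g : G, ∃ b ∈ B, ∃ a ∈ A, g = b * a := fun g => by
    obtain ⟨a, ha, b, hb, h⟩ := hAB g⁻¹
    exact ⟨b⁻¹, inv_mem hb, a⁻¹, inv_mem ha, by rw [← mul_inv_rev, ← h, inv_inv]⟩
  have hcA : ∀ x ∈ A, ∀ y ∈ A, x * y = y * x := fun x hx y hy =>
    congrArg Subtype.val (IsMulCommutative.is_comm.comm (⟨x, hx⟩ : A) ⟨y, hy⟩)
  have hcB : ∀ x ∈ B, ∀ y ∈ B, x * y = y * x := fun x hx y hy =>
    congrArg Subtype.val (IsMulCommutative.is_comm.comm (⟨x, hx⟩ : B) ⟨y, hy⟩)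
  set S : Set G := {c | ∃ a ∈ A, ∃ b ∈ B, c = ⁅a, b⁆}
  set C := Subgroup.closure S
  -- the generators commute
  have hcomm : ∀ x ∈ S, ∀ y ∈ S, x * y = y * x := by
    rintro _ ⟨a1, ha1, b1, hb1, rfl⟩ _ ⟨a2, ha2, b2, hb2, rfl⟩
    obtain ⟨b, hb, a, ha, hba⟩ := hBA (a2 * b1 * a2⁻¹)
    obtain ⟨a', ha', b', hb', hab'⟩ := hAB (b2 * a1 * b2⁻¹)
    have hL : ∀ u ∈ A, ∀ v ∈ B, ∀ w ∈ A, ⁅u, v * w⁆ = ⁅u, v⁆ := by
      intro u hu v hv w hw
      rw [show ⁅u, v * w⁆ = ⁅u, v⁆ * (v * ⁅u, w⁆ * v⁻¹) by simp only [commutatorElement_def]; group,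
        commutatorElement_eq_one_iff_mul_comm.2 (hcA u hu w hw)]
      group
    have hR : ∀ u ∈ A, ∀ u' ∈ B, ∀ v ∈ B, ⁅u * u', v⁆ = ⁅u, v⁆ := by
      intro u hu u' hu' v hv
      rw [show ⁅u * u', v⁆ = u * ⁅u', v⁆ * u⁻¹ * ⁅u, v⁆ by simp only [commutatorElement_def]; group,
        commutatorElement_eq_one_iff_mul_comm.2 (hcB u' hu' v hv)]
      group
    have e1 : a2 * ⁅a1, b1⁆ * a2⁻¹ = ⁅a1, b⁆ := by
      rw [show a2 * ⁅a1, b1⁆ * a2⁻¹ = ⁅a2 * a1 * a2⁻¹, a2 * b1 * a2⁻¹⁆ by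
        simp only [commutatorElement_def]; group, hcA a2 ha2 a1 ha1, mul_inv_cancel_right, hba, hL a1 ha1 b hb a ha]
    have e2 : ∀ v ∈ B, b2 * ⁅a1, v⁆ * b2⁻¹ = ⁅a', v⁆ := by
      intro v hv
      rw [show b2 * ⁅a1, v⁆ * b2⁻¹ = ⁅b2 * a1 * b2⁻¹, b2 * v * b2⁻¹⁆ by
        simp only [commutatorElement_def]; group, hcB b2 hb2 v hv, mul_inv_cancel_right, hab',
        hR a' ha' b' hb' v hv]
    have e3 : a2 * ⁅a', b1⁆ * a2⁻¹ = ⁅a', b⁆ := by
      rw [show a2 * ⁅a', b1⁆ * a2⁻¹ = ⁅a2 * a' * a2⁻¹, a2 * b1 * a2⁻¹⁆ by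
        simp only [commutatorElement_def]; group, hcA a2 ha2 a' ha', mul_inv_cancel_right, hba, hL a' ha' b hb a ha]
    have e4 : a2 * (b2 * ⁅a1, b1⁆ * b2⁻¹) * a2⁻¹ = b2 * (a2 * ⁅a1, b1⁆ * a2⁻¹) * b2⁻¹ := by
      rw [e2 b1 hb1, e1, e2 b hb, e3]
    set d := ⁅a1, b1⁆ with hd
    calc d * ⁅a2, b2⁆
        = a2 * b2 * ((b2⁻¹ * a2⁻¹) * d * (a2 * b2)) * (a2⁻¹ * b2⁻¹) := by
          rw [commutatorElement_def]; group
      _ = ⁅a2, b2⁆ * d := by
          have h5 : (b2⁻¹ * a2⁻¹) * d * (a2 * b2) = (a2⁻¹ * b2⁻¹) * d * (b2 * a2) := by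
            -- conjugation by `a2 * b2` and `b2 * a2` agree on all such generators
            obtain ⟨bx, hbx, ax, hax, hx⟩ := hBA (a2⁻¹ * b1 * a2)
            obtain ⟨ay, hay, by', hby, hy⟩ := hAB (b2⁻¹ * a1 * b2)
            have f1 : a2⁻¹ * ⁅a1, b1⁆ * a2 = ⁅a1, bx⁆ := by
              rw [show a2⁻¹ * ⁅a1, b1⁆ * a2 = ⁅a2⁻¹ * a1 * a2, a2⁻¹ * b1 * a2⁆ by
                simp only [commutatorElement_def]; group, hcA a2⁻¹ (inv_mem ha2) a1 ha1,
                inv_mul_cancel_right, hx, hL a1 ha1 bx hbx ax hax]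
            have f2 : ∀ v ∈ B, b2⁻¹ * ⁅a1, v⁆ * b2 = ⁅ay, v⁆ := by
              intro v hv
              rw [show b2⁻¹ * ⁅a1, v⁆ * b2 = ⁅b2⁻¹ * a1 * b2, b2⁻¹ * v * b2⁆ by
                simp only [commutatorElement_def]; group, hcB b2⁻¹ (inv_mem hb2) v hv,
                inv_mul_cancel_right, hy, hR ay hay by' hby v hv]
            have f3 : a2⁻¹ * ⁅ay, b1⁆ * a2 = ⁅ay, bx⁆ := by
              rw [show a2⁻¹ * ⁅ay, b1⁆ * a2 = ⁅a2⁻¹ * ay * a2, a2⁻¹ * b1 * a2⁆ by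
                simp only [commutatorElement_def]; group, hcA a2⁻¹ (inv_mem ha2) ay hay,
                inv_mul_cancel_right, hx, hL ay hay bx hbx ax hax]
            calc (b2⁻¹ * a2⁻¹) * d * (a2 * b2) = b2⁻¹ * (a2⁻¹ * d * a2) * b2 := by group
              _ = ⁅ay, bx⁆ := by rw [hd, f1, f2 bx hbx]
              _ = a2⁻¹ * (b2⁻¹ * d * b2) * a2 := by rw [hd, f2 b1 hb1, f3]
              _ = _ := by group
          rw [h5, commutatorElement_def]
          group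
  haveI hCn : C.Normal := by
    refine ⟨fun x hx g => ?_⟩
    obtain ⟨a, ha, b, hb, rfl⟩ := hAB g
    have key : ∀ g : G, (∀ s ∈ S, g * s * g⁻¹ ∈ C) → ∀ x ∈ C, g * x * g⁻¹ ∈ C := by
      intro g hg x hx
      have hle : C ≤ C.comap (MulAut.conj g).toMonoidHom := (Subgroup.closure_le _).2 hg
      exact hle hx
    have h1 : ∀ s ∈ S, a * s * a⁻¹ ∈ C := by
      rintro _ ⟨u, hu, v, hv, rfl⟩
      rw [show a * ⁅u, v⁆ * a⁻¹ = ⁅a * u, v⁆ * ⁅a, v⁆⁻¹ by simp only [commutatorElement_def]; group]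
      exact mul_mem (Subgroup.subset_closure ⟨a * u, mul_mem ha hu, v, hv, rfl⟩)
        (inv_mem (Subgroup.subset_closure ⟨a, ha, v, hv, rfl⟩))
    have h2 : ∀ s ∈ S, b * s * b⁻¹ ∈ C := by
      rintro _ ⟨u, hu, v, hv, rfl⟩
      rw [show b * ⁅u, v⁆ * b⁻¹ = ⁅u, b⁆⁻¹ * ⁅u, b * v⁆ by simp only [commutatorElement_def]; group]
      exact mul_mem (inv_mem (Subgroup.subset_closure ⟨u, hu, b, hb, rfl⟩))
        (Subgroup.subset_closure ⟨u, hu, b * v, mul_mem hb hv, rfl⟩)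
    have := key a h1 _ (key b h2 x hx)
    simpa [mul_assoc] using this
  have hle : derivedSeries G 1 ≤ C := by
    rw [derivedSeries_one]
    refine Subgroup.Normal.quotient_commutative_iff_commutator_le.1 ⟨⟨fun u v => ?_⟩⟩
    obtain ⟨u, rfl⟩ := QuotientGroup.mk_surjective u
    obtain ⟨v, rfl⟩ := QuotientGroup.mk_surjective v
    obtain ⟨a, ha, b, hb, rfl⟩ := hAB u
    obtain ⟨c, hc, d, hd, rfl⟩ := hAB v
    have hab : ∀ x ∈ A, ∀ y ∈ B, Commute (x : G ⧸ C) (y : G ⧸ C) := fun x hx y hy => by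
      rw [← commutatorElement_eq_one_iff_commute]
      have := map_commutatorElement (QuotientGroup.mk' C) x y
      simp only [QuotientGroup.mk'_apply] at this
      rw [← this, QuotientGroup.eq_one_iff]
      exact Subgroup.subset_closure ⟨x, hx, y, hy, rfl⟩
    have hAA : Commute (a : G ⧸ C) (c : G ⧸ C) := (show Commute a c from hcA a ha c hc).map (QuotientGroup.mk' C)
    have hBB : Commute (b : G ⧸ C) (d : G ⧸ C) := (show Commute b d from hcB b hb d hd).map (QuotientGroup.mk' C)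
    rw [QuotientGroup.mk_mul, QuotientGroup.mk_mul]
    exact (((hAA.mul_right (hab a ha d hd))).mul_left (((hab c hc b hb).symm).mul_right hBB)).eq
  rw [derivedSeries_succ, Subgroup.commutator_eq_bot_iff_le_centralizer]
  refine hle.trans ((Subgroup.closure_le _).2 fun s hs => ?_)
  intro x hx
  have hle2 : C ≤ Subgroup.centralizer {s} := (Subgroup.closure_le _).2 fun t ht =>
    Subgroup.mem_centralizer_singleton_iff.2 (hcomm t ht s hs)
  exact Subgroup.mem_centralizer_singleton_iff.1 (hle2 (hle hx))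

end Cfsg.Agent.S0572
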