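import Cfsg.Statements.S0575
import Cfsg.Agent.SolvStruct.Basics

set_option autoImplicit false
open Cfsg

namespace Cfsg.Agent.S0575

/-- If H is a normal subgroup of a finite group G, then the Frattini subgroup of H, viewed in G, lies in the Frattini subgroup of G. -/
theorem result {G : Type*} [Group G] [Finite G] (H : Subgroup G) [H.Normal] : (frattini ↥H).map H.subtype ≤ frattini G := by
  show _ ≤ Order.radical _
  simp only [Order.radical, le_iInf_iff]
  intro M hM
  by_contra hle
  have htop : M ⊔ (frattini H).map H.subtype = ⊤ :=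
    hM.2 _ (lt_of_le_of_ne le_sup_left fun he => hle (he ▸ le_sup_right))
  haveI : ((frattini H).map H.subtype).Normal := ConjAct.normal_of_characteristic_of_normal
  have h2 : M.subgroupOf H ⊔ frattini H = ⊤ := by
    rw [eq_top_iff]
    rintro ⟨x, hx⟩ -
    obtain ⟨m, hm, f, ⟨f', hf', rfl⟩, hmf⟩ :=
      Subgroup.mem_sup_of_normal_right.1 (htop.ge (Subgroup.mem_top x))
    have hmH : m ∈ H := by
      rw [show m = x * ((f' : G))⁻¹ by rw [← hmf]; simp]
      exact mul_mem hx (inv_mem f'.2)
    rw [show (⟨x, hx⟩ : H) = ⟨m, hmH⟩ * f' from Subtype.ext hmf.symm]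
    exact Subgroup.mul_mem_sup (show (⟨m, hmH⟩ : H) ∈ M.subgroupOf H from hm) hf'
  exact hle ((Subgroup.map_subtype_le _).trans (Subgroup.subgroupOf_eq_top.1 (frattini_nongenerating h2)))

end Cfsg.Agent.S0575
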