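import Cfsg.Statements.S0576
import Cfsg.Agent.SolvStruct.Basics

set_option autoImplicit false
open Cfsg

namespace Cfsg.Agent.S0576

/-- Let H be a normal subgroup of a finite group G with H contained in the Frattini subgroup of G. Then the group of inner automorphisms of H is contained in the Frattini subgroup of the automorphism group of H. -/
theorem result {G : Type*} [Group G] [Finite G] (H : Subgroup G) [H.Normal] (hH : H ≤ frattini G) : (MulAut.conj : ↥H →* MulAut ↥H).range ≤ frattini (MulAut ↥H) := by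
  show _ ≤ Order.radical _
  simp only [Order.radical, le_iInf_iff]
  intro M hM
  by_contra hle
  set I := (MulAut.conj : ↥H →* MulAut ↥H).range
  haveI : I.Normal := by
    refine ⟨?_⟩
    rintro _ ⟨y, rfl⟩ a
    refine ⟨a y, ?_⟩
    ext z
    simp
  have htop : M ⊔ I = ⊤ := hM.2 _ (lt_of_le_of_ne le_sup_left fun he => hle (he ▸ le_sup_right))
  let φ : G →* MulAut H := MulAut.conjNormal
  have hφ : ∀ y : H, φ (y : G) = MulAut.conj y := fun y => by
    ext z
    simp [φ]
  have hX : M.comap φ ⊔ H = ⊤ := by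
    rw [eq_top_iff]
    intro g _
    obtain ⟨m, hm, _, ⟨y, rfl⟩, hmy⟩ := Subgroup.mem_sup_of_normal_right.1 (htop.ge (Subgroup.mem_top (φ g)))
    have h1 : g * (y : G)⁻¹ ∈ M.comap φ := by
      rw [Subgroup.mem_comap, map_mul, map_inv, hφ, ← hmy, mul_inv_cancel_right]
      exact hm
    simpa using Subgroup.mul_mem_sup h1 y.2
  have hXtop : M.comap φ = ⊤ :=
    frattini_nongenerating (top_le_iff.1 (hX.ge.trans (sup_le_sup_left hH _)))
  apply hle
  rintro _ ⟨y, rfl⟩
  rw [← hφ]
  exact (hXtop.ge (Subgroup.mem_top (y : G)) : (y : G) ∈ M.comap φ)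

end Cfsg.Agent.S0576
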