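import Cfsg.Statements.S0578
import Cfsg.Agent.Transfer.FrobeniusApps
import Cfsg.Agent.Transfer.Control
import Cfsg.Agent.Transfer.IndexPrimeTo

set_option autoImplicit false
open Cfsg
open Cfsg.Lib.Transfer
open scoped commutatorElement

namespace Cfsg.Agent.S0578

/-- If in a finite group the normalizer of each abelian subgroup coincides with its centralizer, then the group is abelian. -/
theorem result {G : Type*} [Group G] [Finite G] (h : ∀ A : Subgroup G, IsMulCommutative A → Subgroup.normalizer (A : Set G) = Subgroup.centralizer (A : Set G)) : IsMulCommutative G := by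
  have key : ∀ p : ℕ, p.Prime → ∀ P : Sylow p G, commutator G ⊓ (P : Subgroup G) = ⊥ := by
    intro p hp P
    haveI := Fact.mk hp
    obtain ⟨A, ⟨hAP, hA⟩, hmax⟩ := WellFounded.has_min
      (IsWellFounded.wf (r := ((· > ·) : Subgroup G → Subgroup G → Prop)))
      {A | A ≤ (P : Subgroup G) ∧ IsMulCommutative A} ⟨⊥, bot_le, inferInstance⟩
    have hAeq : A = (P : Subgroup G) := by
      by_contra hne
      have hlt := lt_inf_normalizer_of_lt P (lt_of_le_of_ne hAP hne)
      obtain ⟨x, hx, hxA⟩ := SetLike.exists_of_lt hlt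
      have hxC : x ∈ Subgroup.centralizer (A : Set G) := h A hA ▸ hx.2
      have hle : A < A ⊔ Subgroup.zpowers x :=
        lt_of_le_of_ne le_sup_left fun he => hxA (he ▸ Subgroup.mem_sup_right (Subgroup.mem_zpowers x))
      refine hmax _ ⟨sup_le hAP (Subgroup.zpowers_le.2 hx.1), ?_⟩ hle
      haveI := hA
      refine Subgroup.le_centralizer_iff_isMulCommutative.1 ?_
      refine sup_le (Subgroup.le_centralizer_iff.1 (sup_le A.le_centralizer ?_))
        (Subgroup.le_centralizer_iff.1 (sup_le ?_ (Subgroup.zpowers x).le_centralizer))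
      · exact Subgroup.zpowers_le.2 hxC
      · exact Subgroup.le_centralizer_iff.1 (Subgroup.zpowers_le.2 hxC)
    have hP : IsMulCommutative (P : Subgroup G) := hAeq ▸ hA
    rw [Subgroup.commutator_inf_eq_focalSubgroup P, focal_eq_commutator_normalizer P hP,
      Subgroup.commutator_eq_bot_iff_le_centralizer, Subgroup.le_centralizer_iff]
    exact (h _ hP).le
  have h1 : commutator G = ⊥ := by
    rw [← Subgroup.card_eq_one]
    by_contra hne
    obtain ⟨p, hp, hdvd⟩ := Nat.exists_prime_and_dvd hne
    haveI := Fact.mk hp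
    obtain ⟨P⟩ : Nonempty (Sylow p G) := inferInstance
    obtain ⟨A, hA⟩ := exists_sylow_subgroupOf P (commutator G)
    refine A.ne_bot_of_dvd_card hdvd ?_
    rw [hA, Subgroup.subgroupOf_eq_bot, disjoint_iff, inf_comm, key p hp P]
  refine ⟨⟨fun a b => ?_⟩⟩
  have : ⁅a, b⁆ ∈ commutator G := Subgroup.commutator_mem_commutator (Subgroup.mem_top a) (Subgroup.mem_top b)
  rw [h1, Subgroup.mem_bot, commutatorElement_eq_one_iff_mul_comm] at this
  exact this

end Cfsg.Agent.S0578
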