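import Cfsg.Statements.S0583
import Cfsg.Agent.Components.Cores

set_option autoImplicit false
open Cfsg

namespace Cfsg.Agent.S0583

/-- In a finite group the Fitting subgroup is contained in the centralizer of each minimal normal subgroup. -/
theorem result {G : Type*} [Group G] [Finite G] (M : Subgroup G) [M.Normal] (hM : M ≠ ⊥) (hmin : ∀ K : Subgroup G, K.Normal → K ≤ M → K = ⊥ ∨ K = M) : Cfsg.fittingSubgroup G ≤ Subgroup.centralizer (M : Set G) := by
  set F := Cfsg.fittingSubgroup G
  haveI : F.Normal := Cfsg.Lib.Components.normal_of_mem_sSup_normal fun N hN => hN.1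
  haveI : ⁅M, F⁆.Normal := inferInstance
  have hMF : ⁅M, F⁆ ≤ M ⊓ F := le_inf (Subgroup.commutator_le_left M F) (Subgroup.commutator_le_right M F)
  rcases hmin ⁅M, F⁆ inferInstance (hMF.trans inf_le_left) with h | h
  · rw [Subgroup.commutator_comm] at h
    exact Subgroup.commutator_eq_bot_iff_le_centralizer.1 h
  · exfalso
    obtain ⟨n, hn⟩ := (Subgroup.isNilpotent_iff_lowerCentralSeries F).1 Cfsg.Lib.Components.isNilpotent_fitting
    have hle : ∀ k, M ≤ F.lowerCentralSeries k := by
      intro k
      induction k with
      | zero => exact h.ge.trans (hMF.trans inf_le_right)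
      | succ k ih =>
        rw [Subgroup.lowerCentralSeries_succ]
        exact h.ge.trans (Subgroup.commutator_mono ih le_rfl)
    exact hM (le_bot_iff.1 (hn ▸ hle n))

end Cfsg.Agent.S0583
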