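import Cfsg.Statements.S0584
import Cfsg.Agent.Coprime.SolvableBasics

set_option autoImplicit false
open Cfsg

namespace Cfsg.Agent.S0584

/-- Let B ≤ A be normal subgroups of a finite group G with B contained in the Frattini subgroup of G. If A modulo B is nilpotent then A is nilpotent. -/
theorem result {G : Type*} [Group G] [Finite G] (A B : Subgroup G) [A.Normal] [B.Normal] (hBA : B ≤ A) (hB : B ≤ frattini G) (h : Group.IsNilpotent (↥A ⧸ B.subgroupOf A)) : Group.IsNilpotent A := by
  set Φ := frattini G
  set f := QuotientGroup.mk' Φ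
  set M := A ⊔ Φ
  have hMmap : M.map f = A.map f := by
    rw [Subgroup.map_sup, QuotientGroup.map_mk'_self, sup_bot_eq]
  haveI := h
  let g : ↥A ⧸ B.subgroupOf A →* (A.map f) :=
    QuotientGroup.lift (B.subgroupOf A) (f.subgroupMap A) fun x hx => by
      rw [MonoidHom.mem_ker]
      exact Subtype.ext ((QuotientGroup.eq_one_iff _).2 (hB hx))
  have hsurj : Function.Surjective g := by
    intro y
    obtain ⟨x, rfl⟩ := f.subgroupMap_surjective A y
    exact ⟨(x : A ⧸ B.subgroupOf A), rfl⟩
  have hnil : Group.IsNilpotent (M.map f) := by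
    rw [hMmap]
    exact Group.nilpotent_of_surjective g hsurj
  haveI := Cfsg.Lib.Coprime.nilpotent_of_quotient_frattini M le_sup_right hnil
  exact Group.nilpotent_of_mulEquiv (Subgroup.subgroupOfEquivOfLe (le_sup_left : A ≤ M))

end Cfsg.Agent.S0584
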