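import Cfsg.Statements.S0585
import Cfsg.Agent.SolvStruct.Basics

set_option autoImplicit false
open Cfsg

namespace Cfsg.Agent.S0585

/-- If the Frattini subgroup of a finite group G is trivial, then every abelian normal subgroup of G has a complement in G. -/
theorem result {G : Type*} [Group G] [Finite G] (hΦ : frattini G = ⊥) (A : Subgroup G) [A.Normal] [IsMulCommutative A] : ∃ H : Subgroup G, Subgroup.IsComplement' A H := by
  obtain ⟨H, hH, hmin⟩ := WellFounded.has_min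
    (IsWellFounded.wf (r := ((· < ·) : Subgroup G → Subgroup G → Prop))) {H | A ⊔ H = ⊤} ⟨⊤, sup_top_eq A⟩
  refine ⟨H, Subgroup.isComplement'_of_disjoint_and_mul_eq_univ ?_ ?_⟩
  · rw [disjoint_iff, ← le_bot_iff, ← hΦ]
    show _ ≤ Order.radical _
    simp only [Order.radical, le_iInf_iff]
    intro M hM
    haveI : (A ⊓ H).Normal := by
      refine ⟨fun x hx g => ?_⟩
      obtain ⟨a, ha, h, hh, rfl⟩ := Subgroup.mem_sup_of_normal_left.1 ((hH : A ⊔ H = ⊤).ge (Subgroup.mem_top g))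
      have h1 : h * x * h⁻¹ ∈ A ⊓ H :=
        Subgroup.mem_inf.2 ⟨Subgroup.Normal.conj_mem inferInstance x hx.1 h, mul_mem (mul_mem hh hx.2) (inv_mem hh)⟩
      have h2 : a * (h * x * h⁻¹) * a⁻¹ = h * x * h⁻¹ := by
        rw [show a * (h * x * h⁻¹) = h * x * h⁻¹ * a from
          congrArg Subtype.val (IsMulCommutative.is_comm.comm (⟨a, ha⟩ : A) ⟨_, h1.1⟩), mul_inv_cancel_right]
      rw [show a * h * x * (a * h)⁻¹ = a * (h * x * h⁻¹) * a⁻¹ by group, h2]
      exact h1
    by_contra hle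
    have htop : M ⊔ A ⊓ H = ⊤ := hM.2 _ (lt_of_le_of_ne le_sup_left fun he => hle (he ▸ le_sup_right))
    have hHle : H ≤ (H ⊓ M) ⊔ (A ⊓ H) := by
      intro x hx
      obtain ⟨m, hm, y, hy, rfl⟩ := Subgroup.mem_sup_of_normal_right.1 (htop.ge (Subgroup.mem_top x))
      have hmH : m ∈ H := by simpa using mul_mem hx (inv_mem hy.2)
      exact Subgroup.mul_mem_sup (Subgroup.mem_inf.2 ⟨hmH, hm⟩) hy
    have hlt : H ⊓ M < H := lt_of_le_of_ne inf_le_left fun he => hle (inf_le_right.trans (inf_eq_left.1 he))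
    refine hmin _ ?_ hlt
    show A ⊔ H ⊓ M = ⊤
    rw [eq_top_iff, ← (hH : A ⊔ H = ⊤)]
    refine sup_le le_sup_left (hHle.trans (sup_le le_sup_right (inf_le_left.trans le_sup_left)))
  · rw [← Subgroup.normal_mul, (hH : A ⊔ H = ⊤), Subgroup.coe_top]

end Cfsg.Agent.S0585
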