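import Cfsg.Statements.S0586
import Mathlib
import Cfsg.Agent.S0585
import Cfsg.Agent.S0575
import Cfsg.Agent.Components.Cores
import Cfsg.Agent.Coprime.Hall

set_option autoImplicit false
open Cfsg

namespace Cfsg.Agent.S0586

/-- If the Frattini subgroup of a finite group G is trivial, then the Fitting subgroup of G equals the join of all abelian minimal normal subgroups of G. -/
theorem result {G : Type*} [Group G] [Finite G] (hΦ : frattini G = ⊥) : Cfsg.fittingSubgroup G = sSup {N : Subgroup G | N.Normal ∧ N ≠ ⊥ ∧ IsMulCommutative N ∧ ∀ K : Subgroup G, K.Normal → K ≤ N → K = ⊥ ∨ K = N} := by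
  set S := sSup {N : Subgroup G | N.Normal ∧ N ≠ ⊥ ∧ IsMulCommutative N ∧ ∀ K : Subgroup G, K.Normal → K ≤ N → K = ⊥ ∨ K = N}
  set F := Cfsg.fittingSubgroup G
  haveI : F.Normal := Cfsg.Lib.Components.normal_of_mem_sSup_normal fun N hN => hN.1
  haveI hFn : Group.IsNilpotent F := Cfsg.Lib.Components.isNilpotent_fitting
  have hΦF : frattini F = ⊥ := by
    have h1 := Cfsg.Agent.S0575.result F
    rw [hΦ, le_bot_iff, Subgroup.map_eq_bot_iff, Subgroup.ker_subtype, le_bot_iff] at h1
    exact h1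
  haveI hFc : IsMulCommutative F := by
    have h2 : commutator F ≤ frattini F := by
      simp only [frattini, Order.radical, le_iInf_iff]
      intro M hM
      haveI : M.Normal := Subgroup.NormalizerCondition.normal_of_coatom M normalizerCondition_of_isNilpotent hM
      refine Subgroup.Normal.quotient_commutative_iff_commutator_le.mp ?_
      have hs := QuotientGroup.mk'_surjective M
      have hsub : ∀ K : Subgroup (F ⧸ M), K = ⊥ ∨ K = ⊤ := by
        intro K
        have hMK : M ≤ K.comap (QuotientGroup.mk' M) := fun x hx => by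
          rw [Subgroup.mem_comap, QuotientGroup.mk'_apply, (QuotientGroup.eq_one_iff x).2 hx]
          exact one_mem K
        rcases hMK.lt_or_eq with hlt | heq
        · right
          rw [← Subgroup.map_comap_eq_self_of_surjective hs K, hM.2 _ hlt, Subgroup.map_top_of_surjective _ hs]
        · left
          rw [← Subgroup.map_comap_eq_self_of_surjective hs K, ← heq, QuotientGroup.map_mk'_self]
      refine ⟨⟨fun a b => ?_⟩⟩
      rcases eq_or_ne a 1 with rfl | ha
      · rw [one_mul, mul_one]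
      · have htop : Subgroup.zpowers a = ⊤ :=
          (hsub _).resolve_left (fun h0 => ha (Subgroup.zpowers_eq_bot.1 h0))
        obtain ⟨i, rfl⟩ := Subgroup.mem_zpowers_iff.1 (htop.ge (Subgroup.mem_top b))
        exact (Commute.refl a).zpow_right i
    rw [hΦF, le_bot_iff, commutator_def, Subgroup.commutator_eq_bot_iff_le_centralizer] at h2
    exact ⟨⟨fun a b => (Subgroup.mem_centralizer_iff.1 (h2 (Subgroup.mem_top b)) a (Subgroup.mem_top a))⟩⟩
  have hSF : S ≤ F := sSup_le fun N hN => by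
    obtain ⟨hn, -, hc, -⟩ := hN
    haveI := hn
    haveI := hc
    letI : CommGroup N := { mul_comm := mul_comm' }
    exact Cfsg.Lib.Components.le_fitting (inferInstance : Group.IsNilpotent N)
  have hcommF : ∀ x ∈ F, ∀ y ∈ F, x * y = y * x := fun x hx y hy =>
    congrArg Subtype.val (hFc.is_comm.comm (⟨x, hx⟩ : F) ⟨y, hy⟩)
  haveI hScomm : IsMulCommutative S := ⟨⟨fun a b => Subtype.ext (hcommF _ (hSF a.2) _ (hSF b.2))⟩⟩
  haveI : S.Normal := Cfsg.Lib.Components.normal_of_mem_sSup_normal fun N hN => hN.1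
  obtain ⟨H, hH⟩ := Cfsg.Agent.S0585.result hΦ S
  refine le_antisymm (fun f hf => ?_) hSF
  haveI hD : (F ⊓ H).Normal := by
    refine ⟨fun x hx g => ?_⟩
    obtain ⟨⟨s, h⟩, rfl⟩ := hH.2 g
    have h1 : (h : G) * x * (h : G)⁻¹ ∈ F ⊓ H :=
      Subgroup.mem_inf.2 ⟨Subgroup.Normal.conj_mem inferInstance x hx.1 _, mul_mem (mul_mem h.2 hx.2) (inv_mem h.2)⟩
    show (s : G) * (h : G) * x * ((s : G) * (h : G))⁻¹ ∈ F ⊓ H
    rw [show (s : G) * (h : G) * x * ((s : G) * (h : G))⁻¹ = (s : G) * ((h : G) * x * (h : G)⁻¹) * (s : G)⁻¹ by group,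
      hcommF _ (hSF s.2) _ h1.1, mul_inv_cancel_right]
    exact h1
  have hbot : F ⊓ H = ⊥ := by
    by_contra hne
    obtain ⟨N, hN, hNn, hNne, hmin⟩ := Cfsg.Lib.Coprime.exists_minimal_normal hD hne
    have hNc : IsMulCommutative N := ⟨⟨fun a b => Subtype.ext (hcommF _ (hN a.2).1 _ (hN b.2).1)⟩⟩
    have hNS : N ≤ S := le_sSup ⟨hNn, hNne, hNc, hmin⟩
    exact hNne (le_bot_iff.1 ((le_inf hNS (hN.trans inf_le_right)).trans hH.disjoint.eq_bot.le))
  obtain ⟨⟨s, h⟩, hsh⟩ := hH.2 f
  simp only at hsh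
  have hmem : (h : G) ∈ F ⊓ H := by
    refine Subgroup.mem_inf.2 ⟨?_, h.2⟩
    rw [show (h : G) = (s : G)⁻¹ * f by rw [← hsh]; group]
    exact mul_mem (inv_mem (hSF s.2)) hf
  rw [hbot, Subgroup.mem_bot] at hmem
  rw [← hsh, hmem, mul_one]
  exact s.2

end Cfsg.Agent.S0586
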