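import Cfsg.Statements.S0587
import Cfsg.Agent.Components.Cores
import Cfsg.Agent.Coprime.Hall
import Cfsg.Agent.Coprime.SolvableBasics

set_option autoImplicit false
open Cfsg
open scoped Pointwise


namespace Cfsg.Agent.S0587

/-- Let G be a finite group whose largest normal p-subgroup L is nontrivial, and M a maximal subgroup of G with trivial normal core. Then L is elementary abelian, M is a complement to L, L is a minimal normal subgroup of G, the centralizer of L is L, and for every prime q such that the largest normal q-subgroup of M is nontrivial, the order of L is congruent to 1 modulo q and q ≠ p. -/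
theorem result {G : Type*} [Group G] [Finite G] (p : ℕ) [Fact p.Prime] (hL : Cfsg.pCore p G ≠ ⊥) (M : Subgroup G) (hM : IsCoatom M) (hcore : M.normalCore = ⊥) : Cfsg.IsElementaryAbelian p (Cfsg.pCore p G) ∧ Subgroup.IsComplement' (Cfsg.pCore p G) M ∧ (∀ K : Subgroup G, K.Normal → K ≤ Cfsg.pCore p G → K = ⊥ ∨ K = Cfsg.pCore p G) ∧ Subgroup.centralizer ((Cfsg.pCore p G : Subgroup G) : Set G) = Cfsg.pCore p G ∧ ∀ (q : ℕ) [Fact q.Prime], Cfsg.pCore q ↥M ≠ ⊥ → Nat.card (Cfsg.pCore p G) % q = 1 % q ∧ q ≠ p := by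
  classical
  set L := Cfsg.pCore p G with hLdef
  have hLp : IsPGroup p L := Cfsg.Lib.Components.isPGroup_pCore p
  haveI : L.Normal := inferInstance
  have hcoreM : ∀ N : Subgroup G, N.Normal → N ≤ M → N = ⊥ := fun N hN h => by
    haveI := hN
    exact le_bot_iff.1 (hcore ▸ Subgroup.normal_le_normalCore.2 h)
  obtain ⟨A, hAL, hAn, hAb, hAmin⟩ := Cfsg.Lib.Coprime.exists_minimal_normal (inferInstance : L.Normal) hL
  haveI := hAn
  have hAp : IsPGroup p A := hLp.to_le hAL
  haveI : Nontrivial A := (Subgroup.nontrivial_iff_ne_bot _).2 hAb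
  -- `A` is abelian
  have hAab : ∀ a ∈ A, ∀ b ∈ A, a * b = b * a := by
    haveI : Group.IsNilpotent A := hAp.isNilpotent
    have hne : Subgroup.center A ≠ ⊥ := (Subgroup.nontrivial_iff_ne_bot _).1 hAp.center_nontrivial
    rcases eq_or_ne ((Subgroup.center A).map A.subtype) A with h | h
    · intro a ha b hb
      obtain ⟨z, hz, e⟩ := h.ge hb
      rw [← e]
      exact congrArg Subtype.val (Subgroup.mem_center_iff.1 hz ⟨a, ha⟩)
    · exfalso
      refine ((hAmin _ inferInstance (Subgroup.map_subtype_le _)).resolve_left ?_ |> h)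
      rw [Subgroup.map_eq_bot_iff_of_injective _ A.subtype_injective]
      exact hne
  have hAM : ¬ A ≤ M := fun h => hAb (hcoreM A hAn h)
  have hAMtop : A ⊔ M = ⊤ := hM.2 _ (lt_of_le_of_ne le_sup_right fun e => hAM (e ▸ le_sup_left))
  have hsplit : ∀ g : G, ∃ a ∈ A, ∃ m ∈ M, g = a * m := fun g => by
    have : g ∈ A ⊔ M := hAMtop ▸ Subgroup.mem_top g
    rw [Subgroup.mem_sup_of_normal_left] at this
    obtain ⟨a, ha, m, hm, e⟩ := this
    exact ⟨a, ha, m, hm, e.symm⟩
  -- a subgroup of `M` normalised by `M` and centralised by `A` is trivial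
  have hbot : ∀ N : Subgroup G, N ≤ M → (∀ m ∈ M, ∀ n ∈ N, m * n * m⁻¹ ∈ N) → (∀ a ∈ A, ∀ n ∈ N, a * n = n * a) → N = ⊥ := by
    intro N hNM h1 h2
    refine hcoreM N ⟨fun n hn g => ?_⟩ hNM
    obtain ⟨a, ha, m, hm, rfl⟩ := hsplit g
    rw [show a * m * n * (a * m)⁻¹ = a * (m * n * m⁻¹) * a⁻¹ by group, h2 a ha _ (h1 m hm n hn), mul_inv_cancel_right]
    exact h1 m hm n hn
  set C := Subgroup.centralizer (A : Set G) with hC
  haveI : C.Normal := Subgroup.normal_centralizer
  have hCM : C ⊓ M = ⊥ := hbot _ inf_le_right (fun m hm n hn => ⟨‹C.Normal›.conj_mem n hn.1 m, mul_mem (mul_mem hm hn.2) (M.inv_mem hm)⟩)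
    (fun a ha n hn => Subgroup.mem_centralizer_iff.1 hn.1 a ha)
  have hCA : C = A := by
    refine le_antisymm (fun c hc => ?_) (fun a ha => Subgroup.mem_centralizer_iff.2 fun b hb => hAab b hb a ha)
    obtain ⟨a, ha, m, hm, rfl⟩ := hsplit c
    have h1 : m ∈ C ⊓ M := ⟨by
      have h2 : a ∈ C := Subgroup.mem_centralizer_iff.2 fun b hb => hAab b hb a ha
      simpa using mul_mem (inv_mem h2) hc, hm⟩
    rw [hCM, Subgroup.mem_bot] at h1
    simpa [h1] using ha
  have hLA : L = A := by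
    refine le_antisymm ?_ hAL
    rw [← hCA]
    -- `A` meets the centre of `L`, hence lies in it
    haveI : Group.IsNilpotent L := hLp.isNilpotent
    set Z := (Subgroup.center L).map L.subtype
    haveI : Z.Normal := inferInstance
    have h1 : A ⊓ Z ≠ ⊥ := by
      haveI : (A.subgroupOf L).Normal := inferInstance
      have hne : A.subgroupOf L ≠ ⊥ := by
        rw [Ne, Subgroup.subgroupOf_eq_bot, disjoint_iff, inf_eq_left.2 hAL]
        exact hAb
      intro e
      refine Cfsg.Lib.Coprime.inf_center_ne_bot (A.subgroupOf L) hne (eq_bot_iff.2 fun x hx => ?_)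
      have : (x : G) ∈ A ⊓ Z := ⟨hx.1, x, hx.2, rfl⟩
      rw [e, Subgroup.mem_bot] at this
      exact Subgroup.mem_bot.2 (Subtype.ext this)
    have h2 : A ⊓ Z = A := (hAmin _ inferInstance inf_le_left).resolve_left h1
    intro l hl
    refine Subgroup.mem_centralizer_iff.2 fun a ha => ?_
    obtain ⟨z, hz, e⟩ := ((h2.ge ha).2 : a ∈ Z)
    rw [← e]
    exact (congrArg Subtype.val (Subgroup.mem_center_iff.1 hz ⟨l, hl⟩)).symm
  have hexp : ∀ a ∈ A, a ^ p = 1 := by
    let E : Subgroup G :=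
      { carrier := {a | a ∈ A ∧ a ^ p = 1}
        one_mem' := ⟨one_mem A, one_pow p⟩
        mul_mem' := fun {a b} ha hb => ⟨mul_mem ha.1 hb.1, by
          rw [(show Commute a b from hAab a ha.1 b hb.1).mul_pow, ha.2, hb.2, one_mul]⟩
        inv_mem' := fun {a} ha => ⟨inv_mem ha.1, by rw [inv_pow, ha.2, inv_one]⟩ }
    haveI : E.Normal := ⟨fun a ha g => ⟨hAn.conj_mem a ha.1 g, by rw [conj_pow, ha.2, mul_one, mul_inv_cancel]⟩⟩
    have hE : E ≠ ⊥ := by
      obtain ⟨k, hk, hkA⟩ := hAp.nontrivial_iff_card.1 inferInstance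
      obtain ⟨a, ha⟩ := exists_prime_orderOf_dvd_card' (G := A) p (hkA ▸ dvd_pow_self p (by omega))
      intro e
      have h1 : (a : G) ∈ E := ⟨a.2, by rw [← ha, ← Subgroup.orderOf_coe]; exact pow_orderOf_eq_one _⟩
      rw [e, Subgroup.mem_bot] at h1
      rw [← Subgroup.orderOf_coe, h1, orderOf_one] at ha
      exact (Fact.out : p.Prime).ne_one ha.symm
    intro a ha
    exact (((hAmin E inferInstance fun x hx => hx.1).resolve_left hE).ge ha).2
  rw [hLA]
  have hdisj : A ⊓ M = ⊥ := by rw [← hCA]; exact hCM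
  refine ⟨⟨⟨⟨fun a b => Subtype.ext (hAab a a.2 b b.2)⟩⟩, hexp⟩, ?_, fun K hK hKA => ?_, ?_, fun q hq hQ => ?_⟩
  · exact Subgroup.isComplement'_of_disjoint_and_mul_eq_univ (disjoint_iff.2 hdisj) (Set.eq_univ_of_forall fun g => by
      obtain ⟨a, ha, m, hm, e⟩ := hsplit g
      exact ⟨a, ha, m, hm, e.symm⟩)
  · exact hAmin K hK hKA
  · exact hCA
  · haveI : Fact q.Prime := hq
    set Q := (Cfsg.pCore q ↥M).map M.subtype with hQdef
    have hQM : Q ≤ M := Subgroup.map_subtype_le _
    have hQb : Q ≠ ⊥ := by rw [Ne, hQdef, Subgroup.map_eq_bot_iff_of_injective _ M.subtype_injective]; exact hQ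
    have hQn : ∀ m ∈ M, ∀ x ∈ Q, m * x * m⁻¹ ∈ Q := by
      rintro m hm _ ⟨x, hx, rfl⟩
      exact ⟨⟨m, hm⟩ * x * ⟨m, hm⟩⁻¹, (inferInstance : (Cfsg.pCore q ↥M).Normal).conj_mem x hx ⟨m, hm⟩, rfl⟩
    have hQp : IsPGroup q Q := (Cfsg.Lib.Components.isPGroup_pCore q).map _
    have hqp : q ≠ p := by
      rintro rfl
      haveI : (A ⊔ Q).Normal := ⟨fun x hx g => by
        obtain ⟨a, ha, m, hm, rfl⟩ := hsplit g
        have h1 : m * x * m⁻¹ ∈ A ⊔ Q := by
          rw [Subgroup.mem_sup_of_normal_left] at hx ⊢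
          obtain ⟨b, hb, y, hy, rfl⟩ := hx
          exact ⟨m * b * m⁻¹, hAn.conj_mem b hb m, m * y * m⁻¹, hQn m hm y hy, by group⟩
        rw [show a * m * x * (a * m)⁻¹ = a * (m * x * m⁻¹) * a⁻¹ by group]
        exact mul_mem (mul_mem (Subgroup.mem_sup_left ha) h1) (inv_mem (Subgroup.mem_sup_left ha))⟩
      have h2 : A ⊔ Q ≤ A := by
        conv_rhs => rw [← hLA]
        exact Cfsg.Lib.Components.le_pCore (hAp.to_sup_of_normal_left hQp)
      exact hQb (le_bot_iff.1 (hdisj ▸ le_inf (le_sup_right.trans h2) hQM))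
    refine ⟨?_, hqp⟩
    letI : MulAction Q A :=
      { smul := fun x a => ⟨(x : G) * a * (x : G)⁻¹, hAn.conj_mem _ a.2 _⟩
        one_smul := fun a => Subtype.ext (show (1 : G) * a * (1 : G)⁻¹ = a by simp)
        mul_smul := fun x y a => Subtype.ext (show (x * y : G) * a * (x * y : G)⁻¹ = x * ((y : G) * a * (y : G)⁻¹) * (x : G)⁻¹ by group) }
    have hfix : MulAction.fixedPoints Q A = {1} := by
      let F : Subgroup G := A ⊓ Subgroup.centralizer (Q : Set G)
      have hF : F.Normal := ⟨fun f hf g => by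
        obtain ⟨a, ha, m, hm, rfl⟩ := hsplit g
        have hf' : m * f * m⁻¹ ∈ A := hAn.conj_mem f hf.1 m
        rw [show a * m * f * (a * m)⁻¹ = a * (m * f * m⁻¹) * a⁻¹ by group, hAab a ha _ hf', mul_inv_cancel_right]
        refine ⟨hf', Subgroup.mem_centralizer_iff.2 fun x hx => ?_⟩
        have h1 := Subgroup.mem_centralizer_iff.1 hf.2 _ (hQn m⁻¹ (inv_mem hm) x hx)
        rw [inv_inv] at h1
        calc x * (m * f * m⁻¹) = m * (m⁻¹ * x * m * f) * m⁻¹ := by group
          _ = m * (f * (m⁻¹ * x * m)) * m⁻¹ := by rw [h1]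
          _ = _ := by group⟩
      have hFbot : F = ⊥ := by
        by_contra h
        have h1 : F = A := (hAmin F hF inf_le_left).resolve_left h
        refine hQb (le_bot_iff.1 (hCM ▸ le_inf (fun x hx => ?_) hQM))
        exact Subgroup.mem_centralizer_iff.2 fun a ha => ((Subgroup.mem_centralizer_iff.1 (h1.ge ha).2) x hx).symm
      ext a
      constructor
      · intro ha
        have h1 : (a : G) ∈ F := ⟨a.2, Subgroup.mem_centralizer_iff.2 fun x hx =>
          mul_inv_eq_iff_eq_mul.1 (congrArg Subtype.val (ha ⟨x, hx⟩))⟩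
        rw [hFbot, Subgroup.mem_bot] at h1
        exact Subtype.ext h1
      · rintro rfl x
        exact Subtype.ext (show (x : G) * 1 * (x : G)⁻¹ = 1 by simp)
    have h := hQp.card_modEq_card_fixedPoints A
    rw [hfix] at h
    simpa [Nat.ModEq] using h

end Cfsg.Agent.S0587
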