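import Cfsg.Statements.S0588
import Cfsg.Agent.SolvStruct.Basics

set_option autoImplicit false
open Cfsg

namespace Cfsg.Agent.S0588

/-- If a subgroup H of a finite group G contains the centralizer of every non-identity element of H, then the order of H is coprime to its index. -/
theorem result {G : Type*} [Group G] [Finite G] (H : Subgroup G) (h : ∀ x ∈ H, x ≠ 1 → Subgroup.centralizer ({x} : Set G) ≤ H) : (Nat.card H).Coprime H.index := by
  refine Nat.coprime_of_dvd fun p hp hpH hpi => ?_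
  haveI := Fact.mk hp
  obtain ⟨R⟩ : Nonempty (Sylow p H) := inferInstance
  obtain ⟨S, hS⟩ := (R.2.map H.subtype).exists_le_sylow
  have hRne : (R : Subgroup H) ≠ ⊥ := R.ne_bot_of_dvd_card hpH
  obtain ⟨r, hr, hr1⟩ := (R : Subgroup H).ne_bot_iff_exists_ne_one.1 hRne |> fun ⟨r, hr⟩ =>
    (⟨(r : H), r.2, fun h => hr (Subtype.ext h)⟩ : ∃ r : H, r ∈ (R : Subgroup H) ∧ r ≠ 1)
  have hrS : (r : G) ∈ (S : Subgroup G) := hS ⟨r, hr, rfl⟩
  haveI : Nontrivial (S : Subgroup G) :=
    ⟨⟨⟨r, hrS⟩, 1, fun he => hr1 (Subtype.ext (congrArg (fun t : (S : Subgroup G) => (t : G)) he))⟩⟩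
  haveI := S.2.center_nontrivial
  obtain ⟨z, hz⟩ := exists_ne (1 : Subgroup.center (S : Subgroup G))
  have hzH : (((z : (S : Subgroup G)) : G)) ∈ H := h r r.2 (fun he => hr1 (Subtype.ext he))
    (Subgroup.mem_centralizer_singleton_iff.2
      (congrArg Subtype.val (Subgroup.mem_center_iff.1 z.2 ⟨r, hrS⟩)).symm)
  have hSH : (S : Subgroup G) ≤ H := fun s hs => h _ hzH (fun he => hz (Subtype.ext (Subtype.ext he)))
    (Subgroup.mem_centralizer_singleton_iff.2
      (congrArg Subtype.val (Subgroup.mem_center_iff.1 z.2 ⟨s, hs⟩)))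
  exact S.not_dvd_index (hpi.trans (Subgroup.index_dvd_of_le hSH))

end Cfsg.Agent.S0588
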