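import Cfsg.Statements.S4253
import Cfsg.Agent.SolvStruct.Basics

set_option autoImplicit false
open Cfsg
open scoped Pointwise

namespace Cfsg.Agent.S4253

/-- Let H be a Frobenius complement in a finite group G (a nontrivial proper subgroup meeting each conjugate gHg⁻¹ with g outside H trivially). Then in the action of G on the left cosets of H by left multiplication, no non-identity element of G fixes two distinct cosets. -/
theorem result {G : Type*} [Group G] [Finite G] (H : Subgroup G) (hH : Cfsg.IsFrobeniusComplement H)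
    (g : G) (hg : g ≠ 1) (a b : G ⧸ H) (ha : g • a = a) (hb : g • b = b) : a = b := by
  obtain ⟨x, rfl⟩ := QuotientGroup.mk_surjective a
  obtain ⟨y, rfl⟩ := QuotientGroup.mk_surjective b
  rw [MulAction.Quotient.smul_mk, QuotientGroup.eq, smul_eq_mul] at ha hb
  rw [QuotientGroup.eq]
  by_contra hne
  have h1 : x⁻¹ * g * x ∈ H := by simpa [mul_assoc] using inv_mem ha
  have h2 : y⁻¹ * g * y ∈ H := by simpa [mul_assoc] using inv_mem hb
  have h3 : x⁻¹ * g * x ∈ H ⊓ MulAut.conj (x⁻¹ * y) • H := by
    refine Subgroup.mem_inf.2 ⟨h1, ?_⟩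
    rw [Subgroup.mem_pointwise_smul_iff_inv_smul_mem, MulAut.smul_def, MulAut.conj_inv_apply]
    simpa [mul_assoc] using h2
  rw [hH.2.2 _ hne, Subgroup.mem_bot] at h3
  apply hg
  calc g = x * (x⁻¹ * g * x) * x⁻¹ := by group
    _ = 1 := by rw [h3]; group

end Cfsg.Agent.S4253
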