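import Cfsg.Statements.S0589
import Cfsg.Agent.S0588
import Cfsg.Agent.S4253

set_option autoImplicit false
open Pointwise
open Cfsg
open scoped Pointwise

namespace Cfsg.Agent.S0589

/-- Let H be a Frobenius complement in a finite group G and L a subgroup of G whose order divides the order of H. Then L is contained in some conjugate of H. -/
theorem result {G : Type*} [Group G] [Finite G] (H : Subgroup G) (hH : Cfsg.IsFrobeniusComplement H) (L : Subgroup G) (hL : Nat.card L ∣ Nat.card H) : ∃ x : G, L ≤ MulAut.conj x • H := by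
  classical
  have hHall : (Nat.card H).Coprime H.index := by
    refine Cfsg.Agent.S0588.result H fun x hx hx1 c hc => ?_
    by_contra hcH
    refine hx1 (Subgroup.mem_bot.1 (hH.2.2 c hcH ▸ Subgroup.mem_inf.2 ⟨hx, ?_⟩))
    rw [Subgroup.mem_pointwise_smul_iff_inv_smul_mem, MulAut.smul_def, MulAut.conj_inv_apply]
    have hc' := Subgroup.mem_centralizer_singleton_iff.1 hc
    rwa [mul_assoc, ← hc', inv_mul_cancel_left]
  rcases eq_or_ne L ⊥ with rfl | hL1
  · exact ⟨1, bot_le⟩
  haveI := Fintype.ofFinite L
  haveI := Fintype.ofFinite (G ⧸ H)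
  have hcop : (Nat.card L).Coprime H.index := Nat.Coprime.coprime_dvd_left hL hHall
  suffices hfix : ∃ q : G ⧸ H, MulAction.stabilizer L q = ⊤ by
    obtain ⟨q, hq⟩ := hfix
    obtain ⟨x, rfl⟩ := QuotientGroup.mk_surjective q
    refine ⟨x, fun l hl => ?_⟩
    have h1 : (⟨l, hl⟩ : L) • (x : G ⧸ H) = x := MulAction.mem_stabilizer_iff.1 (hq ▸ Subgroup.mem_top _)
    have h2 : ((l * x : G) : G ⧸ H) = x := h1
    rw [QuotientGroup.eq] at h2
    rw [Subgroup.mem_pointwise_smul_iff_inv_smul_mem, MulAut.smul_def, MulAut.conj_inv_apply]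
    simpa [mul_assoc] using inv_mem h2
  have huniq : ∀ (l : L) (q q' : G ⧸ H), l ≠ 1 → l • q = q → l • q' = q' → q = q' := fun l q q' hl h1 h2 =>
    Cfsg.Agent.S4253.result H hH (l : G) (fun he => hl (Subtype.ext he)) q q' h1 h2
  have hcs : ∀ q : G ⧸ H, Nat.card (MulAction.orbit L q) * Nat.card (MulAction.stabilizer L q) = Nat.card L := by
    intro q
    rw [← Nat.card_prod]
    exact Nat.card_congr (MulAction.orbitProdStabilizerEquivGroup L q)
  let T : G ⧸ H → Finset L := fun q => Finset.univ.filter fun l => l ≠ 1 ∧ l • q = q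
  have hT : ∀ q, (T q).card + 1 = Nat.card (MulAction.stabilizer L q) := by
    intro q
    have h1 : T q = (Finset.univ.filter fun l : L => l • q = q).erase 1 := by
      ext l; simp [T, and_comm]
    rw [h1, Finset.card_erase_add_one (by simp), Nat.card_eq_fintype_card, ← Fintype.card_subtype]
    exact Fintype.card_congr (Equiv.refl _)
  -- at most one orbit with non-trivial stabilisers
  have hone : ∀ q q' : G ⧸ H, MulAction.stabilizer L q ≠ ⊥ → MulAction.stabilizer L q' ≠ ⊥ →
      q' ∈ MulAction.orbit L q := by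
    intro q q' hq hq'
    by_contra hne
    haveI := Fintype.ofFinite (MulAction.orbit L q)
    haveI := Fintype.ofFinite (MulAction.orbit L q')
    set O := (MulAction.orbit L q).toFinset
    set O' := (MulAction.orbit L q').toFinset
    have hdisj : Disjoint O O' := by
      rw [Finset.disjoint_left]
      intro r hr hr'
      rw [Set.mem_toFinset] at hr hr'
      exact hne (by rw [← MulAction.orbit_eq_iff.2 hr, MulAction.orbit_eq_iff.2 hr']; exact MulAction.mem_orbit_self q')
    have hsum : (O ∪ O').sum (fun r => (T r).card) < Nat.card L := by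
      rw [← Finset.card_biUnion (fun r _ r' _ hrr' => by
        show Disjoint (T r) (T r')
        rw [Finset.disjoint_left]
        intro l hl hl'
        simp only [T, Finset.mem_filter] at hl hl'
        exact hrr' (huniq l r r' hl.2.1 hl.2.2 hl'.2.2))]
      refine lt_of_le_of_lt (Finset.card_le_card (t := Finset.univ.erase 1) fun l hl => ?_) ?_
      · simp only [T, Finset.mem_biUnion, Finset.mem_filter] at hl
        obtain ⟨r, -, -, hl1, -⟩ := hl
        simpa using hl1
      · rw [Finset.card_erase_of_mem (Finset.mem_univ _), Finset.card_univ, ← Nat.card_eq_fintype_card]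
        exact Nat.sub_lt Nat.card_pos one_pos
    have hhalf : ∀ s : G ⧸ H, MulAction.stabilizer L s ≠ ⊥ → ∀ [Fintype (MulAction.orbit L s)],
        Nat.card L ≤ 2 * ((MulAction.orbit L s).toFinset.sum fun r => (T r).card) := by
      intro s hs _
      have hconst : ∀ r ∈ (MulAction.orbit L s).toFinset, (T r).card = Nat.card (MulAction.stabilizer L s) - 1 := by
        intro r hr
        rw [Set.mem_toFinset] at hr
        have h1 := hcs r
        rw [MulAction.orbit_eq_iff.2 hr, ← hcs s] at h1
        have := hT r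
        rw [Nat.eq_of_mul_eq_mul_left (Nat.card_pos_iff.2 ⟨⟨⟨s, MulAction.mem_orbit_self s⟩⟩, inferInstance⟩) h1] at this
        omega
      rw [Finset.sum_congr rfl hconst, Finset.sum_const, smul_eq_mul, Set.toFinset_card, ← Nat.card_eq_fintype_card,
        ← hcs s, mul_left_comm]
      refine Nat.mul_le_mul_left _ ?_
      have : 1 < Nat.card (MulAction.stabilizer L s) := Finite.one_lt_card_iff_nontrivial.2 ((Subgroup.nontrivial_iff_ne_bot _).2 hs)
      omega
    have h1 : Nat.card L ≤ 2 * O.sum (fun r => (T r).card) := by convert hhalf q hq using 4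
    have h2 : Nat.card L ≤ 2 * O'.sum (fun r => (T r).card) := by convert hhalf q' hq' using 4
    rw [Finset.sum_union hdisj] at hsum
    omega
  by_cases hfree : ∀ q : G ⧸ H, MulAction.stabilizer L q = ⊥
  · exfalso
    have hcard := Nat.card_congr (MulAction.selfEquivOrbitsQuotientProd hfree)
    rw [Nat.card_prod, ← H.index_eq_card] at hcard
    exact hL1 (Subgroup.card_eq_one.1 (Nat.eq_one_of_dvd_coprimes hcop dvd_rfl ⟨_, hcard.trans (mul_comm _ _)⟩))
  push Not at hfree
  obtain ⟨q, hq⟩ := hfree
  refine ⟨q, ?_⟩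
  have hdvd : Nat.card (MulAction.orbit L q) ∣ H.index := by
    haveI := Fintype.ofFinite (MulAction.orbitRel.Quotient L (G ⧸ H))
    rw [H.index_eq_card, Nat.card_congr (MulAction.selfEquivSigmaOrbits L (G ⧸ H)), Nat.card_sigma]
    refine Finset.dvd_sum fun ω _ => ?_
    by_cases hw : MulAction.stabilizer L ω.out = ⊥
    · have h1 := hcs ω.out
      rw [hw, Subgroup.card_bot, mul_one] at h1
      rw [h1]
      exact Dvd.intro _ (hcs q)
    · rw [← MulAction.orbit_eq_iff.2 (hone q ω.out hq hw)]
  have hr : Nat.card (MulAction.orbit L q) = 1 := Nat.eq_one_of_dvd_coprimes hcop (Dvd.intro _ (hcs q)) hdvd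
  have hs := hcs q
  rw [hr, one_mul] at hs
  exact Subgroup.eq_top_of_card_eq _ hs

end Cfsg.Agent.S0589
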