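import Cfsg.Statements.S0590
import Cfsg.Agent.Thompson.ElemToolkit

set_option autoImplicit false
open Cfsg

namespace Cfsg.Agent.S0590

open scoped commutatorElement
open Cfsg.Lib.ElemToolkit

/-- Quadratic action on an elementary abelian p-group forces the acting group modulo the kernel of the action to be elementary abelian. -/
theorem result {G : Type*} [Group G] [Finite G] {p : ℕ} [Fact p.Prime] (V H : Subgroup G) (hV : Cfsg.IsElementaryAbelian p V) (hHV : H ≤ Subgroup.normalizer (V : Set G)) (hq : ⁅⁅V, H⁆, H⁆ = ⊥) : ⁅H, H⁆ ≤ Subgroup.centralizer (V : Set G) ∧ ∀ a ∈ H, a ^ p ∈ Subgroup.centralizer (V : Set G) := by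
  have hmem : ∀ a ∈ H, ∀ v ∈ V, ⁅a, v⁆ ∈ ⁅V, H⁆ := fun a ha v hv => by
    rw [Subgroup.commutator_comm]; exact Subgroup.commutator_mem_commutator ha hv
  refine ⟨?_, fun a ha => Subgroup.mem_centralizer_iff.2 fun v hv => ?_⟩
  · rw [← Subgroup.commutator_eq_bot_iff_le_centralizer]
    exact Subgroup.commutator_commutator_eq_bot_of_rotate (by rw [Subgroup.commutator_comm H V]; exact hq) hq
  · set w := ⁅a, v⁆ with hw
    have hwa : w * a = a * w := by
      have h := Subgroup.commutator_mem_commutator (hmem a ha v hv) ha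
      rw [hq, Subgroup.mem_bot, commutatorElement_eq_one_iff_mul_comm] at h
      exact h
    have hwV : w ∈ V := by
      rw [hw, commutatorElement_def]
      exact mul_mem (conj_mem_of_le_normalizer hHV ha hv) (inv_mem hv)
    have hk : ∀ k : ℕ, a ^ k * v * (a ^ k)⁻¹ = w ^ k * v := by
      intro k
      induction k with
      | zero => simp
      | succ k ih =>
        calc a ^ (k + 1) * v * (a ^ (k + 1))⁻¹ = a * (a ^ k * v * (a ^ k)⁻¹) * a⁻¹ := by rw [pow_succ']; group
          _ = a * w ^ k * (v * a⁻¹) := by rw [ih]; group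
          _ = w ^ k * (a * v * a⁻¹ * v⁻¹) * v := by
            rw [← ((show Commute w a from hwa).pow_left k).eq]; group
          _ = _ := by rw [← commutatorElement_def, ← hw, pow_succ]
    have h := hk p
    rw [hV.2 w hwV, one_mul, mul_inv_eq_iff_eq_mul] at h
    exact h.symm

end Cfsg.Agent.S0590
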