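import Cfsg.Statements.S0591
import Cfsg.Agent.Thompson.ElemToolkit

set_option autoImplicit false
open Cfsg

namespace Cfsg.Agent.S0591

open scoped commutatorElement
open Cfsg.Lib.ElemToolkit

/-- For a quadratically acting element a on an elementary abelian p-group V, the fixed points C_V(a) have order at least the square root of the order of V. -/
theorem result {G : Type*} [Group G] [Finite G] {p : ℕ} [Fact p.Prime] (V : Subgroup G) (hV : Cfsg.IsElementaryAbelian p V) (a : G) (ha : a ∈ Subgroup.normalizer (V : Set G)) (hq : ⁅⁅V, Subgroup.zpowers a⁆, Subgroup.zpowers a⁆ = ⊥) : Nat.card V ≤ Nat.card ↥(V ⊓ Subgroup.centralizer (Subgroup.zpowers a : Set G)) ^ 2 := by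
  classical
  set C := V ⊓ Subgroup.centralizer (Subgroup.zpowers a : Set G) with hC
  have haN : Subgroup.zpowers a ≤ Subgroup.normalizer (V : Set G) := Subgroup.zpowers_le.2 ha
  have hfC : ∀ v ∈ V, ⁅v, a⁆ ∈ C := by
    intro v hv
    refine ⟨comm_mem haN hv (Subgroup.mem_zpowers a), ?_⟩
    have h := Subgroup.commutator_mem_commutator (Subgroup.commutator_mem_commutator hv (Subgroup.mem_zpowers a) :
      ⁅v, a⁆ ∈ ⁅V, Subgroup.zpowers a⁆) (Subgroup.mem_zpowers a)
    rw [hq, Subgroup.mem_bot, commutatorElement_eq_one_iff_mul_comm] at h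
    refine Subgroup.mem_centralizer_iff.2 fun z hz => ?_
    obtain ⟨i, rfl⟩ := Subgroup.mem_zpowers_iff.1 hz
    exact (((show Commute ⁅v, a⁆ a from h).zpow_right i).eq).symm
  let f : V → C := fun v => ⟨⁅(v : G), a⁆, hfC v v.2⟩
  let r : C → V := fun c => if h : ∃ v, f v = c then h.choose else 1
  have hr : ∀ v, f (r (f v)) = f v := fun v => by
    simp only [r]; rw [dif_pos ⟨v, rfl⟩]; exact (⟨v, rfl⟩ : ∃ w, f w = f v).choose_spec
  have hdiff : ∀ v : V, (r (f v) : G)⁻¹ * v ∈ C := by
    intro v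
    have h1 : ⁅(r (f v) : G), a⁆ = ⁅(v : G), a⁆ := congrArg Subtype.val (hr v)
    set w := (r (f v) : G) with hw
    have hwV : w ∈ V := (r (f v)).2
    have h2 : w * a * w⁻¹ = v * a * (v : G)⁻¹ := by
      simp only [commutatorElement_def] at h1
      exact mul_right_cancel h1
    have h3 : Commute (w⁻¹ * v) a := by
      show w⁻¹ * v * a = a * (w⁻¹ * v)
      calc w⁻¹ * v * a = w⁻¹ * (v * a * (v : G)⁻¹) * v := by group
        _ = _ := by rw [← h2]; group
    refine Subgroup.mem_inf.2 ⟨mul_mem (inv_mem hwV) v.2, Subgroup.mem_centralizer_iff.2 fun z hz => ?_⟩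
    obtain ⟨i, rfl⟩ := Subgroup.mem_zpowers_iff.1 hz
    exact ((h3.zpow_right i).eq).symm
  have hinj : Function.Injective (fun v : V => ((f v, ⟨_, hdiff v⟩) : C × C)) := by
    intro v v' h
    simp only [Prod.mk.injEq, Subtype.mk.injEq] at h
    rw [h.1] at h
    exact Subtype.ext (mul_left_cancel h.2)
  have := Nat.card_le_card_of_injective _ hinj
  rwa [Nat.card_prod, ← pow_two] at this

end Cfsg.Agent.S0591
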