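import Cfsg.Statements.S0592
import Cfsg.Agent.Quadratic.LinearPair
-- import your own Cfsg.Agent.* helpers here

set_option autoImplicit false
open Cfsg Matrix Polynomial

namespace Cfsg.Agent.S0592

theorem mem_range_of_pow_card {K k : Type*} [Field K] [Fintype K] [Field k] (f : K →+* k) {x : k}
    (h : x ^ Fintype.card K = x) : x ∈ f.range := by
  classical
  set P : k[X] := X ^ Fintype.card K - X
  have hq : 1 < Fintype.card K := Fintype.one_lt_card
  have hdeg : P.natDegree = Fintype.card K := FiniteField.X_pow_card_sub_X_natDegree_eq k hq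
  have hP : P ≠ 0 := FiniteField.X_pow_card_sub_X_ne_zero k hq
  have hsub : (Finset.univ.image f) ⊆ P.roots.toFinset := by
    intro y hy
    obtain ⟨z, -, rfl⟩ := Finset.mem_image.1 hy
    rw [Multiset.mem_toFinset, Polynomial.mem_roots hP]
    simp [P, Polynomial.IsRoot, ← map_pow, FiniteField.pow_card]
  have heq := Finset.eq_of_subset_of_card_le hsub (by
    rw [Finset.card_image_of_injective _ f.injective, Finset.card_univ]
    exact ((Multiset.toFinset_card_le _).trans (Polynomial.card_roots' P)).trans hdeg.le)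
  have hx : x ∈ P.roots.toFinset := by
    rw [Multiset.mem_toFinset, Polynomial.mem_roots hP]
    simp [P, Polynomial.IsRoot, h]
  rw [← heq, Finset.mem_image] at hx
  obtain ⟨z, -, rfl⟩ := hx
  exact ⟨z, rfl⟩

/-- Two quadratically acting generators of a linear group that is not a p-group, with the p'-part of the order of their product dividing q - 1, give a homomorphism onto a subgroup of SL(2, q) that is not a p-group. -/
theorem result {K : Type*} [Field K] [Fintype K] {p : ℕ} [Fact p.Prime] [CharP K p] {W : Type*} [AddCommGroup W] [Module K W] [FiniteDimensional K W] [Finite W] [Nontrivial W] (H : Subgroup (W ≃ₗ[K] W)) (a b : W ≃ₗ[K] W) (hH : H = Subgroup.closure {a, b}) (ha : ∀ w : W, a (a w - w) = a w - w) (hb : ∀ w : W, b (b w - w) = b w - w) (hnp : ¬ IsPGroup p H) (hk : ∃ e k : ℕ, orderOf (a * b) = p ^ e * k ∧ k ∣ Fintype.card K - 1) : ∃ φ : H →* Matrix.SpecialLinearGroup (Fin 2) K, ¬ IsPGroup p φ.range := by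
  classical
  have hfin : Finite (W ≃ₗ[K] W) := Finite.of_injective (fun e : W ≃ₗ[K] W => (e : W → W)) DFunLike.coe_injective
  let bb := Module.finBasis K W
  let F := AlgebraicClosure K
  have : CharP F p := charP_of_injective_algebraMap (algebraMap K F).injective p
  let ρ : H →* Matrix (Fin (Module.finrank K W)) (Fin (Module.finrank K W)) F :=
    (algebraMap K F).mapMatrix.toMonoidHom.comp
      ((LinearMap.toMatrixAlgEquiv bb).toRingEquiv.toRingHom.toMonoidHom.comp
        ((LinearEquiv.automorphismGroup.toLinearMapMonoidHom (R := K) (M := W)).comp H.subtype))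
  have hρ : Function.Injective ρ :=
    (Matrix.map_injective (algebraMap K F).injective).comp ((LinearMap.toMatrixAlgEquiv bb).injective.comp
      (fun g h e => Subtype.ext (LinearEquiv.toLinearMap_injective e)))
  have hquad : ∀ g : H, (∀ w : W, (g : W ≃ₗ[K] W) ((g : W ≃ₗ[K] W) w - w) = (g : W ≃ₗ[K] W) w - w) →
      (ρ g - 1) * (ρ g - 1) = 0 := by
    intro g hg
    have h0 : ((g : W ≃ₗ[K] W).toLinearMap - 1) * ((g : W ≃ₗ[K] W).toLinearMap - 1) = 0 :=
      LinearMap.ext fun w => by simp [hg w]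
    show ((algebraMap K F).mapMatrix (LinearMap.toMatrixAlgEquiv bb (g : W ≃ₗ[K] W).toLinearMap) - 1) *
      ((algebraMap K F).mapMatrix (LinearMap.toMatrixAlgEquiv bb (g : W ≃ₗ[K] W).toLinearMap) - 1) = 0
    rw [← map_one (algebraMap K F).mapMatrix, ← map_one (LinearMap.toMatrixAlgEquiv bb), ← map_sub, ← map_sub,
      ← map_mul, ← map_mul, h0, map_zero, map_zero]
  subst hH
  set a' : Subgroup.closure ({a, b} : Set (W ≃ₗ[K] W)) := ⟨a, Subgroup.subset_closure (Set.mem_insert _ _)⟩
  set b' : Subgroup.closure ({a, b} : Set (W ≃ₗ[K] W)) := ⟨b, Subgroup.subset_closure (Set.mem_insert_of_mem _ rfl)⟩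
  have hgen : Subgroup.closure ({a', b'} : Set (Subgroup.closure ({a, b} : Set (W ≃ₗ[K] W)))) = ⊤ := by
    refine eq_top_iff.mpr ((Subgroup.closure_closure_coe_preimage (k := ({a, b} : Set (W ≃ₗ[K] W)))).ge.trans
      (Subgroup.closure_mono ?_))
    rintro ⟨z, hz⟩ hz'
    rcases hz' with hz'' | hz''
    · exact Or.inl (Subtype.ext hz'')
    · exact Or.inr (Subtype.ext hz'')
  have ha' := hquad a' ha
  have hb' := hquad b' hb
  obtain ⟨μ, ψ, -, -, hμ, hψa, hψb, -, -⟩ := Cfsg.Lib.QuadPair.exists_planeHom ρ hgen ha' hb' fun hnil =>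
    hnp (Cfsg.Lib.QuadPair.isPGroup_of_nilpotent ρ hρ hgen ha' hb' hnil)
  obtain ⟨e, k, hord, hk⟩ := hk
  -- the eigenvalue of the product
  obtain ⟨r, hr⟩ := IsAlgClosed.exists_root (C 1 * X ^ 2 + C (-(2 + μ)) * X + C (1 : F))
    (by rw [Polynomial.degree_quadratic one_ne_zero]; decide)
  simp only [Polynomial.IsRoot, eval_add, eval_mul, eval_C, eval_pow, eval_X, one_mul] at hr
  have hM : (ψ (a' * b')).1 = !![1 + μ, μ; 1, 1] := by
    rw [map_mul, Matrix.SpecialLinearGroup.coe_mul, hψa, hψb, Matrix.mul_fin_two]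
    simp
  have hpow : ∀ i : ℕ, (ψ (a' * b') ^ i).1 *ᵥ ![r - 1, 1] = r ^ i • ![r - 1, 1] := by
    intro i
    induction i with
    | zero => simp
    | succ i ih =>
      rw [pow_succ', Matrix.SpecialLinearGroup.coe_mul, ← Matrix.mulVec_mulVec, ih, Matrix.mulVec_smul, hM,
        pow_succ, mul_smul]
      congr 1
      ext j
      fin_cases j <;> simp [Matrix.mulVec, dotProduct, Fin.sum_univ_two] <;> linear_combination (-1 : F) * hr
  have hN : (ψ (a' * b')) ^ (p ^ e * k) = 1 := by
    rw [← map_pow, show (a' * b') ^ (p ^ e * k) = 1 from Subtype.ext (by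
      push_cast; rw [← hord]; exact pow_orderOf_eq_one (a * b)), map_one]
  have hr1 : r ^ (p ^ e * k) = 1 := by
    have h := congrFun (hpow (p ^ e * k)) 1
    rw [hN] at h
    simpa using h.symm
  rw [mul_comm, pow_mul] at hr1
  have hrk : r ^ k = 1 := by
    have h0 : (r ^ k - 1) ^ p ^ e = 0 := by
      rw [sub_pow_char_pow_of_commute p e (Commute.one_right _), hr1, one_pow, sub_self]
    exact sub_eq_zero.1 (eq_zero_of_pow_eq_zero h0)
  obtain ⟨c, hc⟩ := hk
  have hrq : r ^ Fintype.card K = r := by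
    rw [show Fintype.card K = k * c + 1 by have := Fintype.one_lt_card (α := K); omega, pow_succ, pow_mul, hrk,
      one_pow, one_mul]
  obtain ⟨r₀, hr₀⟩ := mem_range_of_pow_card (algebraMap K F) hrq
  have hr0 : r ≠ 0 := fun h => by rw [h] at hr; norm_num at hr
  obtain ⟨μ₀, hμ₀⟩ : ∃ μ₀ : K, algebraMap K F μ₀ = μ := by
    refine ⟨r₀ + r₀⁻¹ - 2, ?_⟩
    rw [map_sub, map_add, map_inv₀, hr₀, map_ofNat]
    refine mul_left_cancel₀ hr0 ?_
    rw [mul_sub, mul_add, mul_inv_cancel₀ hr0]
    linear_combination hr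
  let ι : Matrix.SpecialLinearGroup (Fin 2) K →* Matrix.SpecialLinearGroup (Fin 2) F :=
    Matrix.SpecialLinearGroup.map (algebraMap K F)
  have hι : Function.Injective ι := fun x y h => Subtype.ext
    (Matrix.map_injective (algebraMap K F).injective (congrArg Subtype.val h))
  have hrange : ∀ g, ψ g ∈ ι.range := by
    suffices (⊤ : Subgroup _) ≤ ι.range.comap ψ from fun g => this (Subgroup.mem_top g)
    rw [← hgen, Subgroup.closure_le]
    intro z hz
    rcases hz with rfl | rfl
    · refine ⟨⟨!![1, μ₀; 0, 1], by simp [det_fin_two]⟩, Subtype.ext ?_⟩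
      rw [hψa, ← hμ₀]
      show (!![1, μ₀; 0, 1] : Matrix (Fin 2) (Fin 2) K).map (algebraMap K F) = _
      ext i j
      fin_cases i <;> fin_cases j <;> simp
    · refine ⟨⟨!![1, 0; 1, 1], by simp [det_fin_two]⟩, Subtype.ext ?_⟩
      rw [hψb]
      show (!![1, 0; 1, 1] : Matrix (Fin 2) (Fin 2) K).map (algebraMap K F) = _
      ext i j
      fin_cases i <;> fin_cases j <;> simp
  let φ := (MonoidHom.ofInjective hι).symm.toMonoidHom.comp (ψ.codRestrict ι.range hrange)
  refine ⟨φ, fun hP => hμ ?_⟩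
  obtain ⟨j, hj⟩ := hP ⟨φ (a' * b'), a' * b', rfl⟩
  have hφ : ι (φ (a' * b')) = ψ (a' * b') :=
    congrArg Subtype.val ((MonoidHom.ofInjective hι).apply_symm_apply ⟨ψ (a' * b'), hrange _⟩)
  have h2 := Cfsg.Lib.SLTwoSub.tr_of_pow (p := p) (k := j) (x := ψ (a' * b')) (by
    rw [← hφ, ← map_pow, show φ (a' * b') ^ p ^ j = 1 from congrArg Subtype.val hj, map_one])
  unfold Cfsg.Lib.SLTwoSub.tr at h2
  rw [hM] at h2
  simp at h2
  linear_combination h2

end Cfsg.Agent.S0592
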