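import Cfsg.Statements.S0594
import Cfsg.Agent.Quadratic.SLTwoSeparable
import Cfsg.Agent.Components.Cores
-- import your own Cfsg.Agent.* helpers here

set_option autoImplicit false
set_option linter.style.haveILetI false
open Cfsg
open scoped commutatorElement

namespace Cfsg.Agent.S0594

/-- For odd p, two quadratic generators of a faithful group that is not a p-group, one of which acts nontrivially on a normal subgroup of order prime to p, force p = 3 and a section isomorphic to SL(2,3). -/
theorem result {G : Type*} [Group G] [Finite G] {p : ℕ} [Fact p.Prime] (hp : p ≠ 2) (V H : Subgroup G) (hV : Cfsg.IsElementaryAbelian p V) (hHV : H ≤ Subgroup.normalizer (V : Set G)) (hf : H ⊓ Subgroup.centralizer (V : Set G) = ⊥) (a b : G) (hab : H = Subgroup.closure {a, b}) (ha : ⁅⁅V, Subgroup.zpowers a⁆, Subgroup.zpowers a⁆ = ⊥) (hb : ⁅⁅V, Subgroup.zpowers b⁆, Subgroup.zpowers b⁆ = ⊥) (hnp : ¬ IsPGroup p H) (Q : Subgroup G) (hQH : Q ≤ H) (hQn : H ≤ Subgroup.normalizer (Q : Set G)) (hQ : (Nat.card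 Q).Coprime p) (hQa : ⁅Q, Subgroup.zpowers a⁆ ≠ ⊥) : p = 3 ∧ ∃ (K L : Subgroup G) (hL : (L.subgroupOf K).Normal), K ≤ H ∧ Nonempty ((K ⧸ L.subgroupOf K) ≃* Matrix.SpecialLinearGroup (Fin 2) (ZMod 3)) := by
  have haH : a ∈ H := hab ▸ Subgroup.subset_closure (Set.mem_insert a {b})
  have hap := Cfsg.Lib.QuadPair.pow_prime_eq_one hV hHV hf haH ha
  set H' := Q ⊔ Subgroup.zpowers a
  have hle : H' ≤ H := sup_le hQH (Subgroup.zpowers_le.2 haH)
  have hn : H' ≤ Subgroup.normalizer (Q : Set G) := hle.trans hQn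
  haveI hQ' : (Q.subgroupOf H').Normal := Subgroup.normal_subgroupOf_of_le_normalizer hn
  have hQcard : Nat.card (Q.subgroupOf H') = Nat.card Q :=
    Nat.card_congr (Subgroup.subgroupOfEquivOfLe le_sup_left).toEquiv
  have hpz : IsPGroup p (Subgroup.zpowers a) := fun x => ⟨1, Subtype.ext (by
    obtain ⟨i, hi⟩ := Subgroup.mem_zpowers_iff.1 x.2
    rw [pow_one]
    push_cast
    rw [← hi, ← zpow_natCast, ← zpow_mul, mul_comm, zpow_mul, zpow_natCast, hap, one_zpow])⟩
  have hsep : Cfsg.IsPSolvable p H' := by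
    refine ⟨2, ![⊥, Q.subgroupOf H', ⊤], rfl, rfl, ?_, ?_, ?_⟩
    · intro i j hij; fin_cases i <;> fin_cases j <;> simp at hij ⊢
    · intro i; fin_cases i <;> simp <;> infer_instance
    · intro i
      fin_cases i
      · right
        show ((⊥ : Subgroup H').relIndex (Q.subgroupOf H')).Coprime p
        rw [Subgroup.relIndex_bot_left, hQcard]
        exact hQ
      · left
        show ∃ m : ℕ, (Q.subgroupOf H').relIndex ⊤ = p ^ m
        rw [Subgroup.relIndex_top_right]
        have hsurj : Function.Surjective ((QuotientGroup.mk' (Q.subgroupOf H')).comp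
            (Subgroup.inclusion (le_sup_right : Subgroup.zpowers a ≤ H'))) := by
          intro z
          induction z using QuotientGroup.induction_on with
          | H z =>
            have hz : (z : G) ∈ Subgroup.zpowers a ⊔ Q := by rw [sup_comm]; exact z.2
            rw [← SetLike.mem_coe, Subgroup.coe_mul_of_left_le_normalizer_right _ _
              (le_sup_right.trans hn), Set.mem_mul] at hz
            obtain ⟨y, hy, x, hx, hxy⟩ := hz
            refine ⟨⟨y, hy⟩, (QuotientGroup.eq).2 ?_⟩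
            rw [Subgroup.mem_subgroupOf]
            push_cast
            rw [← hxy, Subgroup.coe_inclusion, inv_mul_cancel_left]
            exact hx
        obtain ⟨m, hm⟩ := IsPGroup.iff_card.1 (hpz.of_surjective _ hsurj)
        exact ⟨m, by rw [Subgroup.index_eq_card, hm]⟩
  have hna : a ∉ (Cfsg.pCore p H').map H'.subtype := by
    intro ha'
    refine hQa (eq_bot_iff.2 (Subgroup.commutator_le.2 fun x hx y hy => ?_))
    obtain ⟨c, hc, hca⟩ := ha'
    haveI := Cfsg.Lib.Components.pCore_normal' (G := ↥H') p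
    obtain ⟨i, rfl⟩ := Subgroup.mem_zpowers_iff.1 hy
    have h1 : ⁅(⟨x, Subgroup.mem_sup_left hx⟩ : H'), c ^ i⁆ ∈ Q.subgroupOf H' ⊓ Cfsg.pCore p H' := by
      refine Subgroup.mem_inf.2 ⟨?_, ?_⟩
      · rw [commutatorElement_def, mul_assoc, mul_assoc]
        refine mul_mem (Subgroup.mem_subgroupOf.2 hx) ?_
        rw [← mul_assoc]
        exact Subgroup.Normal.conj_mem hQ' _ (inv_mem (Subgroup.mem_subgroupOf.2 hx)) _
      · rw [commutatorElement_def]
        exact mul_mem (Subgroup.Normal.conj_mem inferInstance _ (zpow_mem hc i) _) (inv_mem (zpow_mem hc i))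
    obtain ⟨k, hk⟩ := IsPGroup.iff_card.1 (Cfsg.Lib.Components.isPGroup_pCore (G := ↥H') p)
    rw [Subgroup.inf_eq_bot_of_coprime (Nat.Coprime.symm (hk ▸ Nat.Coprime.pow_left k (hQcard ▸ hQ).symm)),
      Subgroup.mem_bot] at h1
    rw [Subgroup.mem_bot]
    have h2 := congrArg Subtype.val h1
    rw [← hca]
    simpa [commutatorElement_def] using h2
  have hf' : H' ⊓ Subgroup.centralizer (V : Set G) = ⊥ := le_bot_iff.1 (hf ▸ inf_le_inf_right _ hle)
  obtain ⟨h3, K, L, hL, hK, e⟩ := Cfsg.Lib.QuadPair.section_of_pSolvable hp hV (hle.trans hHV) hf' hsep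
    (Subgroup.mem_sup_right (Subgroup.mem_zpowers a)) ha hna
  exact ⟨h3, K, L, hL, hK.trans hle, e⟩

end Cfsg.Agent.S0594
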