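import Cfsg.Statements.S0597
import Cfsg.Agent.Components.Supplement
import Cfsg.Agent.SolvStruct.Subnormal

set_option autoImplicit false
open Cfsg

namespace Cfsg.Agent.S0597

open scoped commutatorElement

/-- If two subnormal subgroups of a faithful group on an elementary abelian p-group satisfy [V, E₁, E₂] = 1, then their commutator lies in the largest normal p-subgroup. -/
theorem result {G : Type*} [Group G] [Finite G] {p : ℕ} [Fact p.Prime] (V H : Subgroup G) (hV : Cfsg.IsElementaryAbelian p V) (hHV : H ≤ Subgroup.normalizer (V : Set G)) (hf : H ⊓ Subgroup.centralizer (V : Set G) = ⊥) (E₁ E₂ : Subgroup G) (h₁ : E₁ ≤ H) (h₂ : E₂ ≤ H) (hs₁ : (E₁.subgroupOf H).IsSubnormal) (hs₂ : (E₂.subgroupOf H).IsSubnormal) (hc : ⁅⁅V, E₁⁆, E₂⁆ = ⊥) : ⁅E₁, E₂⁆ ≤ (Cfsg.pCore p H).map H.subtype := by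
  set W := ⁅V, E₁⁆ with hW
  have hWV : W ≤ V := Subgroup.commutator_le.2 fun v hv e he => by
    rw [commutatorElement_def, mul_assoc, mul_assoc]
    refine mul_mem hv ?_
    rw [← mul_assoc]
    exact (Subgroup.mem_normalizer_iff.1 (hHV (h₁ he)) _).1 (inv_mem hv)
  have hW2 : E₂ ≤ Subgroup.centralizer (W : Set G) := by
    rw [Subgroup.le_centralizer_iff, ← Subgroup.commutator_eq_bot_iff_le_centralizer]
    exact hc
  have hconjV : ∀ e ∈ H, ∀ v ∈ V, e * v * e⁻¹ ∈ V := fun e he v hv => (Subgroup.mem_normalizer_iff.1 (hHV he) v).1 hv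
  -- elements of `E₁` normalise `W`
  have hconjW : ∀ e ∈ E₁, ∀ w ∈ W, e * w * e⁻¹ ∈ W := by
    intro e he w hw
    have hwV : w ∈ V := hWV hw
    have h : ⁅w⁻¹, e⁆ ∈ W := Subgroup.commutator_mem_commutator (inv_mem hwV) he
    rw [show e * w * e⁻¹ = w * ⁅w⁻¹, e⁆ by rw [commutatorElement_def]; group]
    exact mul_mem hw h
  have hcen : ∀ e ∈ E₂, ∀ w ∈ W, e * w = w * e := fun e he w hw => (Subgroup.mem_centralizer_iff.1 (hW2 he) w hw).symm
  have hP : IsPGroup p ↥⁅E₁, E₂⁆ := by
    have key : ∀ x ∈ ⁅E₁, E₂⁆, x ∈ H ∧ (∀ w ∈ W, x * w = w * x) ∧ ∀ v ∈ V, ⁅x, v⁆ ∈ W := by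
      intro x hx
      rw [Subgroup.commutator_def] at hx
      induction hx using Subgroup.closure_induction with
      | one => exact ⟨one_mem _, fun w _ => by simp, fun v _ => by simp⟩
      | inv a _ ih =>
        refine ⟨inv_mem ih.1, fun w hw => ((show Commute a w from ih.2.1 w hw).inv_left).eq, fun v hv => ?_⟩
        have h := ih.2.2 (a⁻¹ * v * a⁻¹⁻¹) (hconjV _ (inv_mem ih.1) v hv)
        rw [inv_inv] at h
        rw [show ⁅a⁻¹, v⁆ = (⁅a, a⁻¹ * v * a⁆)⁻¹ by simp only [commutatorElement_def]; group]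
        exact inv_mem h
      | mul a b _ _ iha ihb =>
        refine ⟨mul_mem iha.1 ihb.1, fun w hw => ((show Commute a w from iha.2.1 w hw).mul_left (ihb.2.1 w hw)).eq, fun v hv => ?_⟩
        have h1 : a * ⁅b, v⁆ * a⁻¹ = ⁅b, v⁆ := by rw [iha.2.1 _ (ihb.2.2 v hv), mul_inv_cancel_right]
        rw [show ⁅a * b, v⁆ = (a * ⁅b, v⁆ * a⁻¹) * ⁅a, v⁆ by simp only [commutatorElement_def]; group, h1]
        exact mul_mem (ihb.2.2 v hv) (iha.2.2 v hv)
      | mem _ h =>
        obtain ⟨e, he, f, hf', rfl⟩ := h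
        refine ⟨?_, fun w hw => ?_, fun v hv => ?_⟩
        · rw [commutatorElement_def]
          exact mul_mem (mul_mem (mul_mem (h₁ he) (h₂ hf')) (inv_mem (h₁ he))) (inv_mem (h₂ hf'))
        · have h1 := hcen f hf' (e⁻¹ * w * e⁻¹⁻¹) (hconjW _ (inv_mem he) w hw)
          rw [inv_inv] at h1
          have h3 : Commute (e * f * e⁻¹) w := by
            show e * f * e⁻¹ * w = w * (e * f * e⁻¹)
            calc e * f * e⁻¹ * w = e * (f * (e⁻¹ * w * e)) * e⁻¹ := by group
              _ = _ := by rw [h1]; group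
          rw [commutatorElement_def]
          exact (h3.mul_left (show Commute f w from hcen f hf' w hw).inv_left).eq
        · -- `e` moves `v` and `f * v * f⁻¹` only inside `W`
          have hef : ∀ u ∈ V, e * u * e⁻¹ * u⁻¹ ∈ W := fun u hu => by
            rw [← commutatorElement_def, ← commutatorElement_inv]
            exact inv_mem (Subgroup.commutator_mem_commutator hu he)
          set u := f⁻¹ * v * f⁻¹⁻¹ with hu
          have huV : u ∈ V := hconjV _ (inv_mem (h₂ hf')) v hv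
          set s := e⁻¹ * u * e⁻¹⁻¹ with hs
          have hsV : s ∈ V := hconjV _ (inv_mem (h₁ he)) u huV
          set w₁ := s * u⁻¹ with hw₁
          have hw₁W : w₁ ∈ W := by
            have h := hef s hsV
            have e1 : w₁ = (e * s * e⁻¹ * s⁻¹)⁻¹ := by rw [hw₁, hs]; group
            rw [e1]; exact inv_mem h
          set w₂ := e * v * e⁻¹ * v⁻¹ with hw₂
          have e2 : ⁅⁅e, f⁆, v⁆ = e * w₁ * e⁻¹ * w₂ := by
            have hfw : f * w₁ * f⁻¹ = w₁ := by rw [hcen f hf' w₁ hw₁W, mul_inv_cancel_right]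
            calc ⁅⁅e, f⁆, v⁆ = e * (f * w₁ * f⁻¹) * e⁻¹ * w₂ := by
                  rw [hw₁, hw₂, hs, hu]; simp only [commutatorElement_def]; group
              _ = _ := by rw [hfw]
          rw [e2]
          exact mul_mem (hconjW e he w₁ hw₁W) (hef v hv)
    intro x
    refine ⟨1, Subtype.ext ?_⟩
    obtain ⟨hxH, hxW, hxV⟩ := key x x.2
    have h1 : ((x : G) ^ p) ∈ H ⊓ Subgroup.centralizer (V : Set G) := by
      refine ⟨pow_mem hxH p, Subgroup.mem_centralizer_iff.2 fun v hv => ?_⟩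
      set w := ⁅(x : G), v⁆ with hw
      have hk : ∀ k : ℕ, (x : G) ^ k * v * ((x : G) ^ k)⁻¹ = w ^ k * v := by
        intro k
        induction k with
        | zero => simp
        | succ k ih =>
          calc (x : G) ^ (k + 1) * v * ((x : G) ^ (k + 1))⁻¹ = x * ((x : G) ^ k * v * ((x : G) ^ k)⁻¹) * (x : G)⁻¹ := by
                rw [pow_succ']; group
            _ = (x : G) * w ^ k * (v * (x : G)⁻¹) := by rw [ih]; group
            _ = w ^ k * ((x : G) * v * (x : G)⁻¹ * v⁻¹) * v := by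
                rw [hxW _ (pow_mem (hxV v hv) k)]; simp [mul_assoc, hw]
            _ = _ := by rw [← commutatorElement_def, ← hw, pow_succ]
      have h := hk p
      rw [hV.2 w (hWV (hxV v hv)), one_mul, mul_inv_eq_iff_eq_mul] at h
      exact h.symm
    rw [hf, Subgroup.mem_bot] at h1
    simpa using h1
  -- subnormality
  set F₁ := E₁.subgroupOf H
  set F₂ := E₂.subgroupOf H
  have hmap : (⁅F₁, F₂⁆).map H.subtype = ⁅E₁, E₂⁆ := by
    rw [Subgroup.map_commutator, Subgroup.map_subgroupOf_eq_of_le h₁, Subgroup.map_subgroupOf_eq_of_le h₂]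
  rw [← hmap]
  refine Subgroup.map_mono (Cfsg.Lib.Components.le_pCore_of_subnormal ?_ ?_)
  · have hle : ⁅F₁, F₂⁆ ≤ F₁ ⊔ F₂ := Subgroup.commutator_le.2 fun a ha b hb => by
      rw [commutatorElement_def]
      exact mul_mem (mul_mem (mul_mem (Subgroup.mem_sup_left ha) (Subgroup.mem_sup_right hb))
        (inv_mem (Subgroup.mem_sup_left ha))) (inv_mem (Subgroup.mem_sup_right hb))
    refine Subgroup.IsSubnormal.step _ (F₁ ⊔ F₂) hle (Cfsg.Lib.SolvStruct.isSubnormal_sup hs₁ hs₂) ?_
    exact Subgroup.normal_subgroupOf_commutator_sup _ _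
  · refine (hP.comap_of_injective H.subtype H.subtype_injective).to_le ?_
    rw [← hmap, Subgroup.comap_map_eq_self_of_injective H.subtype_injective]

end Cfsg.Agent.S0597
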