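import Cfsg.Statements.S0599
import Cfsg.Agent.Thompson.ElemToolkit

set_option autoImplicit false
open Cfsg

namespace Cfsg.Agent.S0599

open scoped commutatorElement
open Cfsg.Lib.ElemToolkit

/-- The Timmesfeld replacement Theorem: replacing a best offender A by C_A([U, A]) gives a best offender with fixed points [U, A]C_V(A), still nontrivial on V if A was. -/
theorem result {G : Type*} [Group G] [Finite G] {p : ℕ} [Fact p.Prime] (V A : Subgroup G) (hV : Cfsg.IsElementaryAbelian p V) (hAV : A ≤ Subgroup.normalizer (V : Set G)) (hA : Cfsg.IsBestOffenderOn p V A) (U : Subgroup G) (hU : U ≤ V) : Cfsg.IsBestOffenderOn p V (A ⊓ Subgroup.centralizer ((⁅U, A⁆ : Subgroup G) : Set G)) ∧ V ⊓ Subgroup.centralizer ((A ⊓ Subgroup.centralizer ((⁅U, A⁆ : Subgroup G) : Set G) : Subgroup G) : Set G) = ⁅U, A⁆ ⊔ (V ⊓ Subgroup.centralizer (A : Set G)) ∧ (⁅V, A⁆ ≠ ⊥ → ⁅V, A ⊓ Subgroup.centralizer ((⁅U, A⁆ : Subgroup G) : Set G)⁆ ≠ ⊥) := by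
  have hX : ⁅U, A⁆ = commSpan (U : Set G) A := Subgroup.commutator_def U A
  have hU' : (U : Set G) ⊆ (V : Set G) := hU
  obtain ⟨h1, h2⟩ := replacement hV hAV (opt_of_best hA) hU'
  rw [hX]
  refine ⟨⟨fun D hD => ?_, ?_, fun a ha => hA.2.2 a ha.1⟩, h2, fun hne h0 => hne ?_⟩
  · refine (hA.1 D (hD.trans inf_le_left)).trans ?_
    exact h1.ge
  · exact (Subgroup.commutator_mono inf_le_left inf_le_left).trans hA.2.1
  · refine comm_lt Fact.out hV hAV hA ?_
    rw [Subgroup.commutator_eq_bot_iff_le_centralizer] at h0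
    have h3 : V ≤ commSpan (U : Set G) A ⊔ (V ⊓ Subgroup.centralizer (A : Set G)) := h2 ▸ le_inf le_rfl h0
    refine h3.trans (sup_le_sup ?_ le_rfl)
    rw [← hX]
    exact Subgroup.commutator_mono hU le_rfl

end Cfsg.Agent.S0599
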