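import Cfsg.Statements.S0603
import Cfsg.Agent.Thompson.ElemToolkit

set_option autoImplicit false
open Cfsg

namespace Cfsg.Agent.S0603

open scoped commutatorElement
open Cfsg.Lib.ElemToolkit

/-- The Thompson subgroup of any subgroup containing J(G) is J(G) itself. -/
theorem result {G : Type*} [Group G] [Finite G] {p : ℕ} [Fact p.Prime] (U : Subgroup G) (hU : Cfsg.thompsonSubgroup p G ≤ U) : Cfsg.thompsonSubgroupOf p U = Cfsg.thompsonSubgroup p G := by
  rw [Cfsg.Lib.Thompson.thompsonSubgroupOf_eq, Cfsg.thompsonSubgroup]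
  have hle : ∀ A ∈ Cfsg.maxElementaryAbelianSubgroups p G, A ≤ U := fun A hA => (le_sSup hA).trans hU
  obtain ⟨A₀, -, hA₀, hmax⟩ := Cfsg.Lib.Thompson.exists_isMaxElem (p := p) (⊤ : Subgroup G)
  have h0 : A₀ ∈ Cfsg.maxElementaryAbelianSubgroups p G := ⟨hA₀, fun B hB => hmax B le_top hB⟩
  congr 1
  ext A
  exact ⟨fun h => ⟨h.2.1, fun B hB => (hmax B le_top hB).trans (h.2.2 A₀ (hle A₀ h0) hA₀)⟩,
    fun h => ⟨hle A h, h.1, fun B _ hB => h.2 B hB⟩⟩

end Cfsg.Agent.S0603
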