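import Cfsg.Statements.S0604
import Cfsg.Agent.Thompson.ElemToolkit

set_option autoImplicit false
open Cfsg

namespace Cfsg.Agent.S0604

open scoped commutatorElement
open Cfsg.Lib.ElemToolkit

/-- The Thompson subgroup of G is the join of the Thompson subgroups of its Sylow p-subgroups. -/
theorem result {G : Type*} [Group G] [Finite G] {p : ℕ} [Fact p.Prime] : Cfsg.thompsonSubgroup p G = ⨆ S : Sylow p G, Cfsg.thompsonSubgroupOf p (S : Subgroup G) := by
  obtain ⟨A₀, -, hA₀, hmax⟩ := Cfsg.Lib.Thompson.exists_isMaxElem (p := p) (⊤ : Subgroup G)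
  have hpA : ∀ A : Subgroup G, Cfsg.IsElementaryAbelian p A → IsPGroup p A := fun A hA a =>
    ⟨1, Subtype.ext (by rw [pow_one]; push_cast; exact hA.2 a a.2)⟩
  refine le_antisymm (sSup_le fun A hA => ?_) (iSup_le fun S => ?_)
  · obtain ⟨S, hS⟩ := (hpA A hA.1).exists_le_sylow
    refine le_trans ?_ (le_iSup _ S)
    rw [Cfsg.Lib.Thompson.thompsonSubgroupOf_eq]
    exact le_sSup ⟨hS, hA.1, fun B _ hB => hA.2 B hB⟩
  · rw [Cfsg.Lib.Thompson.thompsonSubgroupOf_eq]
    refine sSup_le fun A hA => le_sSup ⟨hA.2.1, fun B hB => ?_⟩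
    obtain ⟨T, hT⟩ := (hpA B hB).exists_le_sylow
    obtain ⟨g, hg⟩ := MulAction.exists_smul_eq G T S
    have hB' : B.map (MulAut.conj g).toMonoidHom ≤ (S : Subgroup G) := by
      rw [← hg, Sylow.coe_subgroup_smul]
      exact Subgroup.map_mono hT
    have := hA.2.2 _ hB' ((Cfsg.Lib.Thompson.isElementaryAbelian_map_iff (MulAut.conj g).injective.injOn).2 hB)
    rwa [Subgroup.card_map_of_injective (MulAut.conj g).injective] at this

end Cfsg.Agent.S0604
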