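import Cfsg.Statements.S0605
import Cfsg.Agent.Thompson.ElemToolkit

set_option autoImplicit false
open Cfsg

namespace Cfsg.Agent.S0605

open scoped commutatorElement
open Cfsg.Lib.ElemToolkit

/-- Elements of order p in the centralizer of the Thompson subgroup belong to the Thompson subgroup (so to its centre). -/
theorem result {G : Type*} [Group G] [Finite G] {p : ℕ} [Fact p.Prime] (x : G) (hx : x ∈ Subgroup.centralizer (Cfsg.thompsonSubgroup p G : Set G)) (ho : orderOf x = p) : x ∈ Cfsg.thompsonSubgroup p G := by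
  obtain ⟨A, -, hA, hmax⟩ := Cfsg.Lib.Thompson.exists_isMaxElem (p := p) (⊤ : Subgroup G)
  have hAJ : A ≤ Cfsg.thompsonSubgroup p G := le_sSup ⟨hA, fun B hB => hmax B le_top hB⟩
  have hz : Cfsg.IsElementaryAbelian p (Subgroup.zpowers x) := ⟨inferInstance, fun a ha => by
    obtain ⟨i, rfl⟩ := Subgroup.mem_zpowers_iff.1 ha
    rw [← zpow_natCast (x ^ i), ← zpow_mul, mul_comm, zpow_mul, zpow_natCast, ← ho, pow_orderOf_eq_one, one_zpow]⟩
  have hel := elementary_sup hA hz fun a ha b hb => by
    obtain ⟨i, rfl⟩ := Subgroup.mem_zpowers_iff.1 hb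
    exact (((show Commute a x from Subgroup.mem_centralizer_iff.1 hx a (hAJ ha)).zpow_right i)).eq
  have heq : A = A ⊔ Subgroup.zpowers x := Subgroup.eq_of_le_of_card_ge le_sup_left (hmax _ le_top hel)
  exact hAJ (heq ▸ Subgroup.mem_sup_right (Subgroup.mem_zpowers x))

end Cfsg.Agent.S0605
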