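import Cfsg.Statements.S0607
import Cfsg.Agent.S0606
import Cfsg.Agent.S0599

set_option autoImplicit false
open Cfsg

namespace Cfsg.Agent.S0607

open scoped commutatorElement
open Cfsg.Lib.ElemToolkit
open scoped Pointwise

/-- The replacement Theorem for the Thompson subgroup: from A of maximal order among elementary abelian p-subgroups one obtains A₀ = [V, A] C_A([V, A]) of the same kind, quadratic on V and nontrivial on V when A is. -/
theorem result {G : Type*} [Group G] [Finite G] {p : ℕ} [Fact p.Prime] (V : Subgroup G) [V.Normal] (hV : Cfsg.IsElementaryAbelian p V) (A : Subgroup G) (hA : A ∈ Cfsg.maxElementaryAbelianSubgroups p G) : (⁅V, A⁆ ⊔ (A ⊓ Subgroup.centralizer ((⁅V, A⁆ : Subgroup G) : Set G))) ∈ Cfsg.maxElementaryAbelianSubgroups p G ∧ ⁅⁅V, ⁅V, A⁆ ⊔ (A ⊓ Subgroup.centralizer ((⁅V, A⁆ : Subgroup G) : Set G))⁆, ⁅V, A⁆ ⊔ (A ⊓ Subgroup.centralizer ((⁅V, A⁆ : Subgroup G) : Set G))⁆ = ⊥ ∧ (⁅V, A⁆ ≠ ⊥ → ⁅V, ⁅V, A⁆ ⊔ (A ⊓ Subgroup.centralizer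 ((⁅V, A⁆ : Subgroup G) : Set G))⁆ ≠ ⊥) := by
  have hAV : A ≤ Subgroup.normalizer (V : Set G) := fun a _ => by rw [Subgroup.normalizer_eq_top]; trivial
  obtain ⟨h1, h2, h3⟩ := Cfsg.Agent.S0599.result V A hV hAV (Cfsg.Agent.S0606.result V hV A hA) V le_rfl
  set X := ⁅V, A⁆ with hX
  set A' := A ⊓ Subgroup.centralizer (X : Set G) with hA'
  set C := V ⊓ Subgroup.centralizer (A : Set G) with hC
  have hXV : X ≤ V := Subgroup.commutator_le.2 fun v hv a ha => comm_mem hAV hv ha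
  have hel : Cfsg.IsElementaryAbelian p (X ⊔ A') :=
    elementary_sup (elementary_mono hXV hV) (elementary_mono inf_le_left hA.1)
      fun x hx a ha => Subgroup.mem_centralizer_iff.1 ha.2 x hx
  have hCA : C ≤ A := by
    have h : Cfsg.IsElementaryAbelian p (A ⊔ C) :=
      elementary_sup hA.1 (elementary_mono inf_le_left hV) fun a ha c hc => Subgroup.mem_centralizer_iff.1 hc.2 a ha
    have heq : A = A ⊔ C := Subgroup.eq_of_le_of_card_ge le_sup_left (hA.2 _ h)
    rw [heq]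
    exact le_sup_right
  have hinf : X ⊓ C = X ⊓ A' := by
    refine le_antisymm (fun x hx => ⟨hx.1, hCA hx.2, Subgroup.mem_centralizer_iff.2 fun y hy =>
      comm_of hV.1 (hXV hy) (hXV hx.1)⟩) (fun x hx => ⟨hx.1, hXV hx.1, Subgroup.mem_centralizer_iff.2 fun a ha =>
      comm_of hA.1.1 ha hx.2.1⟩)
  have hcard : Nat.card A ≤ Nat.card ↥(X ⊔ A') := by
    have e1 : Nat.card A * Nat.card C ≤ Nat.card A' * Nat.card ↥(X ⊔ C) := by
      have hXs : commSpan (V : Set G) A = X := (Subgroup.commutator_def V A).symm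
      obtain ⟨r1, -⟩ := replacement hV hAV (opt_of_best (Cfsg.Agent.S0606.result V hV A hA)) (S := (V : Set G)) (Set.Subset.refl _)
      rw [hXs] at r1
      rw [← h2]
      exact r1.ge
    have e2 : Nat.card ↥(X ⊔ C) * Nat.card ↥(X ⊓ C) = Nat.card X * Nat.card C :=
      Cfsg.Lib.Coprime.card_sup_mul_card_inf ((inf_le_left : C ≤ V).trans
        (fun v hv => Subgroup.centralizer_le_normalizer _ (Subgroup.mem_centralizer_iff.2 fun x hx => comm_of hV.1 (hXV hx) hv)))
    have e3 := mul_card_le X A'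
    rw [hinf] at e2
    have key : Nat.card A * Nat.card C * Nat.card ↥(X ⊓ A') ≤ Nat.card ↥(X ⊔ A') * Nat.card C * Nat.card ↥(X ⊓ A') := by
      calc Nat.card A * Nat.card C * Nat.card ↥(X ⊓ A')
          ≤ Nat.card A' * Nat.card ↥(X ⊔ C) * Nat.card ↥(X ⊓ A') := Nat.mul_le_mul_right _ e1
        _ = Nat.card X * Nat.card A' * Nat.card C := by rw [mul_assoc, e2]; ring
        _ ≤ Nat.card ↥(X ⊔ A') * Nat.card ↥(X ⊓ A') * Nat.card C := Nat.mul_le_mul_right _ e3
        _ = _ := by ring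
    exact Nat.le_of_mul_le_mul_right (Nat.le_of_mul_le_mul_right key Nat.card_pos) Nat.card_pos
  have hA'c : ∀ v ∈ V, ∀ d ∈ X ⊔ A', ⁅v, d⁆ ∈ X := by
    intro v hv d hd
    have hn : X ≤ Subgroup.normalizer (A' : Set G) := fun x hx => Subgroup.centralizer_le_normalizer _
      (Subgroup.mem_centralizer_iff.2 fun a ha => (Subgroup.mem_centralizer_iff.1 (Subgroup.mem_inf.1 ha).2 x hx).symm)
    rw [← SetLike.mem_coe, Subgroup.coe_mul_of_left_le_normalizer_right X A' hn, Set.mem_mul] at hd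
    obtain ⟨x, hx, a, ha, rfl⟩ := hd
    have e : ⁅v, x * a⁆ = x * ⁅v, a⁆ * x⁻¹ := by
      have hvx : v * x = x * v := comm_of hV.1 hv (hXV hx)
      calc ⁅v, x * a⁆ = (v * x) * a * v⁻¹ * a⁻¹ * x⁻¹ := by simp only [commutatorElement_def]; group
        _ = _ := by rw [hvx, commutatorElement_def]; group
    rw [e]
    exact mul_mem (mul_mem hx (Subgroup.commutator_mem_commutator hv ha.1)) (inv_mem hx)
  refine ⟨⟨hel, fun B hB => (hA.2 B hB).trans hcard⟩, ?_, fun hne h0 => h3 hne ?_⟩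
  · rw [Subgroup.commutator_eq_bot_iff_le_centralizer]
    refine (Subgroup.commutator_le.2 hA'c).trans (Subgroup.le_centralizer_iff.2 (sup_le ?_ inf_le_right))
    exact fun x hx => Subgroup.mem_centralizer_iff.2 fun y hy => comm_of hV.1 (hXV hy) (hXV hx)
  · exact le_bot_iff.1 ((Subgroup.commutator_mono le_rfl le_sup_right).trans h0.le)

end Cfsg.Agent.S0607
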