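import Cfsg.Statements.S0608
import Cfsg.Agent.Thompson.FactorBasics

set_option autoImplicit false
open Cfsg

namespace Cfsg.Agent.S0608

/-- With trivial p'-core, Thompson factorizability is equivalent to J(G) centralizing the subgroup generated by all Ω₁(Z(S)), S Sylow. -/
theorem result {G : Type*} [Group G] [Finite G] {p : ℕ} [Fact p.Prime] (hO : Cfsg.pPrimeCore p G = ⊥) : Cfsg.IsThompsonFactorizable p G ↔ Cfsg.thompsonSubgroup p G ≤ Subgroup.centralizer ((⨆ S : Sylow p G, Cfsg.omegaOne p (((S : Subgroup G)) ⊓ Subgroup.centralizer ((S : Subgroup G) : Set G)) : Subgroup G) : Set G) := by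
  open Cfsg.Lib.ThompsonFactor in
  open Subgroup in
  exact by
    set V : Subgroup G := ⨆ S : Sylow p G, omegaZ p (S : Subgroup G) with hV
    show Cfsg.IsThompsonFactorizable p G ↔ Cfsg.thompsonSubgroup p G ≤ centralizer (V : Set G)
    constructor
    · intro hT
      refine thompsonSubgroup_le fun S => le_centralizer_iff.1 (iSup_le fun R => ?_)
      obtain ⟨g, hg⟩ := MulAction.exists_smul_eq G S R
      obtain ⟨x, hx, c, hc, n, hn, he⟩ := hT S g⁻¹
      rw [hO, mem_bot] at hx
      rw [hx, one_mul] at he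
      rw [← hg, ← map_conj_omegaZ]
      rintro _ ⟨z, hz, rfl⟩ j hj
      have hge : g = n⁻¹ * c⁻¹ := by rw [← inv_inv g, he, mul_inv_rev]
      have hcz : z * c = c * z := hc z hz
      have e1 : g * z * g⁻¹ = n⁻¹ * z * n := by
        calc g * z * g⁻¹ = n⁻¹ * (c⁻¹ * z * c) * n := by rw [hge]; group
          _ = _ := by rw [mul_assoc c⁻¹, hcz, inv_mul_cancel_left]
      show j * (g * z * g⁻¹) = g * z * g⁻¹ * j
      rw [e1]
      have hnj : n * j * n⁻¹ ∈ Cfsg.thompsonSubgroupOf p (S : Subgroup G) := (mem_normalizer_iff.1 hn j).1 hj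
      have h2 : (n * j * n⁻¹) * z = z * (n * j * n⁻¹) :=
        (mem_inf.1 (omegaZ_le _ hz)).2 _ (Cfsg.Lib.Thompson.thompsonSubgroupOf_le _ hnj)
      calc j * (n⁻¹ * z * n) = n⁻¹ * ((n * j * n⁻¹) * z) * n := by group
        _ = n⁻¹ * (z * (n * j * n⁻¹)) * n := by rw [h2]
        _ = _ := by group
    · intro hJ S g
      set C : Subgroup G := centralizer (V : Set G) with hC
      have hVn : V.Normal := by
        refine ⟨fun v hv g => ?_⟩
        have : V.map (MulAut.conj g).toMonoidHom ≤ V := by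
          rw [hV, Subgroup.map_iSup]
          exact iSup_le fun R => (map_conj_omegaZ g R).le.trans (le_iSup (fun T : Sylow p G => omegaZ p (T : Subgroup G)) _)
        exact this ⟨v, hv, rfl⟩
      haveI : C.Normal := by rw [hC]; infer_instance
      have hJC : Cfsg.thompsonSubgroupOf p (S : Subgroup G) ≤ (S : Subgroup G) ⊓ C :=
        le_inf (Cfsg.Lib.Thompson.thompsonSubgroupOf_le _) ((thompsonSubgroupOf_le_thompsonSubgroup S).trans hJ)
      have hJeq : Cfsg.thompsonSubgroupOf p ((S : Subgroup G) ⊓ C) = Cfsg.thompsonSubgroupOf p (S : Subgroup G) := by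
        rw [Cfsg.Lib.Thompson.thompsonSubgroupOf_eq, Cfsg.Lib.Thompson.thompsonSubgroupOf_eq]
        obtain ⟨A₀, hA₀⟩ := Cfsg.Lib.Thompson.exists_isMaxElem (p := p) (S : Subgroup G)
        have h0 : A₀ ≤ (S : Subgroup G) ⊓ C :=
          le_trans (by rw [Cfsg.Lib.Thompson.thompsonSubgroupOf_eq]; exact le_sSup hA₀) hJC
        congr 1
        ext A
        constructor
        · exact fun hA => ⟨hA.1.trans inf_le_left, hA.2.1, fun B hB hBe =>
            (hA₀.2.2 B hB hBe).trans (hA.2.2 A₀ h0 hA₀.2.1)⟩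
        · exact fun hA => ⟨le_trans (by rw [Cfsg.Lib.Thompson.thompsonSubgroupOf_eq]; exact le_sSup hA) hJC, hA.2.1,
            fun B hB hBe => hA.2.2 B (hB.trans inf_le_left) hBe⟩
      obtain ⟨T, hT⟩ : ∃ T : Sylow p C, (T : Subgroup C).map C.subtype = (S : Subgroup G) ⊓ C := by
        obtain ⟨T, hT⟩ := (S.isPGroup'.comap_subtype (K := C)).exists_le_sylow
        refine ⟨T, le_antisymm ?_ ?_⟩
        · have hTp : IsPGroup p ((T : Subgroup C).map C.subtype) := T.isPGroup'.map _
          refine le_inf ?_ (map_subtype_le _)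
          obtain ⟨R, hR⟩ := hTp.exists_le_sylow
          obtain ⟨a, ha⟩ := MulAction.exists_smul_eq G R S
          have hcard : Nat.card ((T : Subgroup C).map C.subtype) ≤ Nat.card ↥((S : Subgroup G) ⊓ C) := by
            refine (card_map_of_injective (f := (MulAut.conj a).toMonoidHom) (MulAut.conj a).injective).symm.le.trans
              (Subgroup.card_le_of_le (le_inf ?_ ?_))
            · rw [← ha, Sylow.coe_subgroup_smul]; exact map_mono hR
            · rintro _ ⟨x, hx, rfl⟩
              exact (inferInstance : C.Normal).conj_mem _ (map_subtype_le _ hx) a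
          have hle : (S : Subgroup G) ⊓ C ≤ (T : Subgroup C).map C.subtype := fun x hx =>
            ⟨⟨x, hx.2⟩, hT hx.1, rfl⟩
          exact (eq_of_le_of_card_ge hle hcard) ▸ inf_le_left
        · exact fun x hx => ⟨⟨x, hx.2⟩, hT hx.1, rfl⟩
      have hfr := Sylow.normalizer_sup_eq_top T
      rw [hT, sup_comm] at hfr
      obtain ⟨c, hc, n, hn, he⟩ := Subgroup.mem_sup_of_normal_left.1 (hfr ▸ mem_top g :
        g ∈ C ⊔ normalizer (((S : Subgroup G) ⊓ C : Subgroup G) : Set G))
      refine ⟨1, one_mem _, c, ?_, n, ?_, by rw [one_mul, he]⟩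
      · exact centralizer_le (le_iSup (fun R : Sylow p G => omegaZ p (R : Subgroup G)) S) hc
      · rw [← hJeq]
        exact Cfsg.Lib.Thompson.normalizer_le_normalizer_thompson _ hn

end Cfsg.Agent.S0608
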