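import Cfsg.Statements.S0609
import Cfsg.Agent.Thompson.FactorBasics
import Cfsg.Agent.Thompson.Factor
import Cfsg.Agent.OddLocal.PLengthBasic

set_option autoImplicit false
open Cfsg

namespace Cfsg.Agent.S0609

/-- Thompson factorizability passes to and from the quotient by the largest normal subgroup of order prime to p. -/
theorem result {G : Type*} [Group G] [Finite G] {p : ℕ} [Fact p.Prime] : Cfsg.IsThompsonFactorizable p G ↔ Cfsg.IsThompsonFactorizable p (G ⧸ Cfsg.pPrimeCore p G) := by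
  open Cfsg.Lib.ThompsonFactor in
  open Subgroup in
  exact by
    set N := Cfsg.pPrimeCore p G with hN
    set f : G →* G ⧸ N := QuotientGroup.mk' N with hf
    have hsurj : Function.Surjective f := QuotientGroup.mk'_surjective N
    have hcop := Cfsg.Lib.Components.coprime_card_pPrimeCore (G := G) p
    constructor
    · intro hT S' q
      obtain ⟨S, hS⟩ := Sylow.mapSurjective_surjective hsurj p S'
      subst hS
      rw [Sylow.coe_mapSurjective]
      obtain ⟨g, rfl⟩ := hsurj q
      obtain ⟨x, hx, c, hc, n, hn, he⟩ := hT S g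
      have hinj : Set.InjOn f (S : Subgroup G) := Cfsg.Lib.OddP.injOn_pPrimeCore S.isPGroup'
      refine ⟨1, one_mem _, f c, ?_, f n, ?_, ?_⟩
      · show f c ∈ centralizer (omegaZ p ((S : Subgroup G).map f) : Set (G ⧸ N))
        rw [← map_omegaZ hinj]
        rintro _ ⟨z, hz, rfl⟩
        rw [← map_mul, ← map_mul, hc z hz]
      · rw [← Cfsg.Lib.Thompson.map_thompsonSubgroupOf hinj]
        refine le_normalizer_map f ⟨n, hn, rfl⟩
      · rw [he, map_mul, map_mul, show f x = 1 from (QuotientGroup.eq_one_iff x).2 hx]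
    · intro hT S g
      have hinj : Set.InjOn f (S : Subgroup G) := Cfsg.Lib.OddP.injOn_pPrimeCore S.isPGroup'
      obtain ⟨x, hx, c', hc, n', hn, he⟩ := hT (S.mapSurjective hsurj) (f g)
      rw [Cfsg.Lib.OddP.quotient_pPrimeCore_eq_bot, mem_bot] at hx
      rw [hx, one_mul] at he
      rw [Sylow.coe_mapSurjective] at hc hn
      have lift : ∀ Q : Subgroup G, Q ≤ (S : Subgroup G) → ∀ a : G,
          f a ∈ normalizer ((Q.map f : Subgroup (G ⧸ N)) : Set (G ⧸ N)) →
          ∃ m ∈ N, m * a ∈ normalizer (Q : Set G) := by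
        intro Q hQ a ha
        refine lift_normalizer hcop (S.isPGroup'.to_le hQ) fun x hx => ?_
        have h1 : f a * f x * (f a)⁻¹ ∈ Q.map f := (mem_normalizer_iff.1 ha _).1 ⟨x, hx, rfl⟩
        rw [← map_mul, ← map_inv, ← map_mul] at h1
        have h2 : a * x * a⁻¹ ∈ (Q.map f).comap f := h1
        rw [comap_map_eq, hf, QuotientGroup.ker_mk'] at h2
        exact h2
      obtain ⟨c₀, rfl⟩ := hsurj c'
      obtain ⟨n₀, rfl⟩ := hsurj n'
      rw [← Cfsg.Lib.Thompson.map_thompsonSubgroupOf hinj] at hn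
      obtain ⟨m₂, hm₂, hn'⟩ := lift _ (Cfsg.Lib.Thompson.thompsonSubgroupOf_le _) n₀ hn
      change f c₀ ∈ centralizer (omegaZ p ((S : Subgroup G).map f) : Set (G ⧸ N)) at hc
      rw [← map_omegaZ hinj] at hc
      have hZS : omegaZ p (S : Subgroup G) ≤ (S : Subgroup G) := (omegaZ_le _).trans inf_le_left
      obtain ⟨m₁, hm₁, hc'⟩ := lift _ hZS c₀ (centralizer_le_normalizer _ hc)
      have hcz : m₁ * c₀ ∈ centralizer (omegaZ p (S : Subgroup G) : Set G) := by
        intro z hz
        have hy : m₁ * c₀ * z * (m₁ * c₀)⁻¹ ∈ omegaZ p (S : Subgroup G) := (mem_normalizer_iff.1 hc' z).1 hz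
        have hfe : f (m₁ * c₀ * z * (m₁ * c₀)⁻¹) = f z := by
          simp only [map_mul, map_inv, show f m₁ = 1 from (QuotientGroup.eq_one_iff m₁).2 hm₁, one_mul]
          rw [← hc _ ⟨z, hz, rfl⟩, mul_inv_cancel_right]
        have := hinj (hZS hy) (hZS hz) hfe
        exact (mul_inv_eq_iff_eq_mul.1 this).symm
      refine ⟨g * ((m₁ * c₀) * (m₂ * n₀))⁻¹, ?_, m₁ * c₀, hcz, m₂ * n₀, hn', by group⟩
      refine (QuotientGroup.eq_one_iff _).1 (show f (g * ((m₁ * c₀) * (m₂ * n₀))⁻¹) = 1 from ?_)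
      simp only [map_mul, map_inv, show f m₁ = 1 from (QuotientGroup.eq_one_iff m₁).2 hm₁,
        show f m₂ = 1 from (QuotientGroup.eq_one_iff m₂).2 hm₂, one_mul, he, mul_inv_cancel]

end Cfsg.Agent.S0609
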