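import Cfsg.Statements.S0615
import Cfsg.Agent.FFModule.Subnormal
-- import your own Cfsg.Agent.* helpers here

set_option autoImplicit false
open Cfsg
open scoped commutatorElement

namespace Cfsg.Agent.S0615

/-- Two subnormal subgroups acting irreducibly on their incomparable commutator modules, in a faithful group with trivial largest normal p-subgroup, generate their direct product, and the commutator module splits accordingly. -/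
theorem result {G : Type*} [Group G] [Finite G] {p : ℕ} [Fact p.Prime] (V E E₁ E₂ : Subgroup G) (hV : Cfsg.IsElementaryAbelian p V) (hEV : E ≤ Subgroup.normalizer (V : Set G)) (hf : E ⊓ Subgroup.centralizer (V : Set G) = ⊥) (hgen : E = E₁ ⊔ E₂) (hs₁ : (E₁.subgroupOf E).IsSubnormal) (hs₂ : (E₂.subgroupOf E).IsSubnormal) (hOp : Cfsg.pCore p ↥E = ⊥) (hirr₁ : (∀ U : Subgroup G, U ≤ ⁅V, E₁⁆ → E₁ ≤ Subgroup.normalizer (U : Set G) → U = ⊥ ∨ U = ⁅V, E₁⁆)) (hirr₂ : (∀ U : Subgroup G, U ≤ ⁅V, E₂⁆ → E₂ ≤ Subgroup.normalizer (U : Set G) → U = ⊥ ∨ U = ⁅V, E₂⁆)) (h12 : ¬ ⁅V, E₁⁆ ≤ ⁅V, E₂⁆) (h21 : ¬ ⁅V, E₂⁆ ≤ ⁅V, E₁⁆) (hc₁ : 2 < Nat.card E₁) (hc₂ : 2 < Nat.card E₂) : ⁅E₁, E₂⁆ = ⊥ ∧ E₁ ⊓ E₂ = ⊥ ∧ ⁅V, E₁⁆ ⊓ ⁅V, E₂⁆ = ⊥ ∧ ⁅V, E⁆ = ⁅V, E₁⁆ ⊔ ⁅V, E₂⁆ := by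
  have hE1 : E₁ ≤ E := hgen ▸ le_sup_left
  have hE2 : E₂ ≤ E := hgen ▸ le_sup_right
  have hfaith : ∀ x ∈ E, (∀ v ∈ V, x * v = v * x) → x = 1 := fun x hx h =>
    Subgroup.mem_bot.1 (hf ▸ Subgroup.mem_inf.2 ⟨hx, Subgroup.mem_centralizer_iff.2 fun v hv => (h v hv).symm⟩)
  have hfac : ∀ X : Subgroup G, X ≤ E → (X.subgroupOf E).IsSubnormal →
      (∀ U : Subgroup G, U ≤ ⁅V, X⁆ → X ≤ Subgroup.normalizer (U : Set G) → U = ⊥ ∨ U = ⁅V, X⁆) →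
      2 < Nat.card X → Cfsg.Lib.FF.Factor p V X := by
    refine fun X hXE hs hirr hc => ⟨hXE.trans hEV, fun x hx => hfaith x (hXE hx), hirr, ?_, hc⟩
    intro P hPX hn hP
    have hle : P.subgroupOf E ≤ X.subgroupOf E := Subgroup.comap_mono hPX
    have hnP : ((P.subgroupOf E).subgroupOf (X.subgroupOf E)).Normal := by
      rw [Subgroup.normal_subgroupOf_iff_le_normalizer hle]
      exact (Subgroup.comap_mono hn).trans (Subgroup.le_normalizer_comap _)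
    have hsP : (P.subgroupOf E).IsSubnormal := Subgroup.IsSubnormal.step _ _ hle hs hnP
    have h := Cfsg.Lib.Components.le_pCore_of_subnormal hsP
      (hP.of_equiv (Subgroup.subgroupOfEquivOfLe (hPX.trans hXE)).symm)
    rw [hOp, le_bot_iff] at h
    exact (Subgroup.subgroupOf_eq_bot.1 h).eq_bot_of_le (hPX.trans hXE)
  have h1 := hfac E₁ hE1 hs₁ hirr₁ hc₁
  have h2 := hfac E₂ hE2 hs₂ hirr₂ hc₂
  obtain ⟨a, b, c⟩ := Cfsg.Lib.FF.commute_aux hV _ E E₁ E₂ rfl hgen hs₁ hs₂ h1 h2 hfaith h12 h21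
  refine ⟨a, b, c, le_antisymm (Subgroup.commutator_le.2 fun v hv x hx => ?_)
    (sup_le (Subgroup.commutator_mono le_rfl hE1) (Subgroup.commutator_mono le_rfl hE2))⟩
  suffices key : ∀ x ∈ E, ∀ v ∈ V, ⁅v, x⁆ ∈ ⁅V, E₁⁆ ⊔ ⁅V, E₂⁆ from key x hx v hv
  intro x hx
  have hx' : x ∈ Subgroup.closure ((E₁ : Set G) ∪ E₂) := by
    rwa [← Subgroup.sup_eq_closure, ← hgen]
  clear hx
  induction hx' using Subgroup.closure_induction with
  | mem x hx =>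
    intro v hv
    rcases hx with hx | hx
    · exact Subgroup.mem_sup_left (Subgroup.commutator_mem_commutator hv hx)
    · exact Subgroup.mem_sup_right (Subgroup.commutator_mem_commutator hv hx)
  | one => intro v _; rw [commutatorElement_one_right]; exact one_mem _
  | mul x y hx hy hX hY =>
    intro v hv
    have hle : ⁅V, E₁⁆ ⊔ ⁅V, E₂⁆ ≤ V :=
      sup_le (Cfsg.Lib.FF.commutator_le_V h1.norm) (Cfsg.Lib.FF.commutator_le_V h2.norm)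
    have hw : ⁅⁅v, y⁆, x⁆ ∈ ⁅V, E₁⁆ ⊔ ⁅V, E₂⁆ := hX _ (hle (hY v hv))
    rw [show ⁅v, x * y⁆ = ⁅v, x⁆ * (⁅⁅v, y⁆, x⁆⁻¹ * ⁅v, y⁆) by simp only [commutatorElement_def]; group]
    exact mul_mem (hX v hv) (mul_mem (inv_mem hw) (hY v hv))
  | inv x hx hX =>
    intro v hv
    have hxN : x ∈ Subgroup.normalizer (V : Set G) := hEV (by rwa [hgen, Subgroup.sup_eq_closure])
    have hu : x⁻¹ * v * x ∈ V := by
      have := Cfsg.Lib.FF.conj_mem (inv_mem hxN) hv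
      rwa [inv_inv] at this
    rw [show ⁅v, x⁻¹⁆ = ⁅x⁻¹ * v * x, x⁆⁻¹ by simp only [commutatorElement_def]; group]
    exact inv_mem (hX _ hu)

end Cfsg.Agent.S0615
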