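import Cfsg.Statements.S0618
import Cfsg.Agent.FFModule.Model
import Cfsg.Agent.S0601
import Cfsg.Agent.S0606
import Cfsg.Agent.S0608
-- import your own Cfsg.Agent.* helpers here

set_option autoImplicit false
set_option linter.style.haveILetI false
open Cfsg Cfsg.Lib.FF Subgroup
open scoped commutatorElement

namespace Cfsg.Agent.S0618

/-- A p-separable group with trivial p'-core in which the Thompson factorization fails has p = 2 or 3, and J(G) induces on the normal closure of Ω₁(Z(S)) a group containing a normal SL(2, p). -/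
theorem result {G : Type*} [Group G] [Finite G] {p : ℕ} [Fact p.Prime] (hsep : Cfsg.IsPSolvable p G) (hO : Cfsg.pPrimeCore p G = ⊥) (hnf : ¬ Cfsg.IsThompsonFactorizable p G) : (p = 2 ∨ p = 3) ∧ ∃ E : Subgroup G, Subgroup.centralizer ((⨆ S : Sylow p G, Cfsg.omegaOne p ((S : Subgroup G) ⊓ Subgroup.centralizer ((S : Subgroup G) : Set G))) : Set G) ≤ E ∧ E ≤ Cfsg.thompsonSubgroup p G ⊔ Subgroup.centralizer ((⨆ S : Sylow p G, Cfsg.omegaOne p ((S : Subgroup G) ⊓ Subgroup.centralizer ((S : Subgroup G) : Set G))) : Set G) ∧ Cfsg.thompsonSubgroup p G ⊔ Subgroup.centralizer ((⨆ S : Sylow p G, Cfsg.omegaOne p ((S : Subgroup G) ⊓ Subgroup.centralizer ((S : Subgroup G) : Set G))) : Set G) ≤ Subgroup.normalizer (E : Set G) ∧ ∃ hn : ((Subgroup.centralizer ((⨆ S : Sylow p G, Cfsg.omegaOne p ((S : Subgroup G) ⊓ Subgroup.centralizer ((S : Subgroup G) : Set G))) : Set G)).subgroupOf E).Normal, Nonempty ((↥E ⧸ (Subgroup.centralizer ((⨆ S : Sylow p G, Cfsg.omegaOne p ((S : Subgroup G) ⊓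 Subgroup.centralizer ((S : Subgroup G) : Set G))) : Set G)).subgroupOf E) ≃* Matrix.SpecialLinearGroup (Fin 2) (ZMod p)) := by
  have hun : centralizer ((⨆ S : Sylow p G, (Cfsg.omegaOne p ((S : Subgroup G) ⊓
      centralizer ((S : Subgroup G) : Set G)) : Set G)) : Set G) =
      centralizer ((⨆ S : Sylow p G, Cfsg.omegaOne p ((S : Subgroup G) ⊓
        centralizer ((S : Subgroup G) : Set G)) : Subgroup G) : Set G) := by
    rw [Subgroup.iSup_eq_closure, centralizer_closure]
    rfl
  set V := ⨆ S : Sylow p G, Cfsg.omegaOne p ((S : Subgroup G) ⊓ centralizer ((S : Subgroup G) : Set G)) with hVdef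
  obtain ⟨hVn, hV, -⟩ := Cfsg.Agent.S0601.result (G := G) (p := p)
    (Cfsg.Lib.StableClosure.centralizer_pCore_le_of_pSolvable hsep hO)
  haveI := hVn
  have hOC : Cfsg.pCore p (G ⧸ centralizer (V : Set G)) = ⊥ := by
    refine Cfsg.Lib.ElemToolkit.pCore_eq_bot V (le_antisymm ?_ (iSup_le fun S => inf_le_left))
    rw [hVdef]
    refine iSup_le fun S => le_iSup_of_le S (le_inf ?_ ?_)
    · exact le_iSup (fun T : Sylow p G =>
        Cfsg.omegaOne p ((T : Subgroup G) ⊓ centralizer ((T : Subgroup G) : Set G))) S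
    · exact (closure_le _).2 fun x hx => hx.1.2
  haveI := thompson_normal (G := G) (p := p)
  have hs := setup_model V hsep hV hOC (Cfsg.thompsonSubgroup p G)
  have hgen := gen_isTv hs (thompson_gen V fun A hA => Cfsg.Agent.S0606.result V hV A hA)
  obtain ⟨a, ha⟩ : ∃ a, IsTv p (vx V) ((Cfsg.thompsonSubgroup p G).map (rho V)) a := by
    by_contra hno
    push Not at hno
    refine hnf ((Cfsg.Agent.S0608.result hO).2 fun x hx => ?_)
    have h1 := hgen (mem_map_of_mem _ hx)
    rw [show {a | IsTv p (vx V) ((Cfsg.thompsonSubgroup p G).map (rho V)) a} = ∅ from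
      Set.eq_empty_iff_forall_notMem.2 hno, Subgroup.closure_empty, mem_bot, ← MonoidHom.mem_ker, ker_rho] at h1
    exact h1
  have hd := epl_data hs ha
  obtain ⟨θ⟩ := hd.iso
  have hle : epl p ((Cfsg.thompsonSubgroup p G).map (rho V)) a ≤ (Cfsg.thompsonSubgroup p G).map (rho V) :=
    epl_le hs ha
  refine ⟨hd.small, (epl p ((Cfsg.thompsonSubgroup p G).map (rho V)) a).comap (rho V), ?_, ?_, ?_, ?_⟩
  · rw [hun, ← ker_rho]
    intro x hx
    rw [mem_comap, MonoidHom.mem_ker.1 hx]
    exact one_mem _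
  · rw [hun, ← ker_rho, ← comap_map_eq]
    exact comap_mono hle
  · rw [hun, ← ker_rho, ← comap_map_eq]
    exact (comap_mono (split_group hs hgen ha).1).trans (le_normalizer_comap _)
  · obtain ⟨hn, ⟨e⟩⟩ := quot_iso (rho V) (hle.trans (map_le_range _ _)) (hun.trans (ker_rho V).symm)
    exact ⟨hn, ⟨e.trans θ⟩⟩

end Cfsg.Agent.S0618
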