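import Cfsg.Statements.S0619
import Cfsg.Agent.FFModule.Model
import Cfsg.Agent.S0606
-- import your own Cfsg.Agent.* helpers here

set_option autoImplicit false
open Cfsg Cfsg.Lib.FF Subgroup
open scoped commutatorElement

namespace Cfsg.Agent.S0619

/-- For a p-separable group and a normal elementary abelian p-subgroup V with no nontrivial normal p-subgroup modulo its centralizer C, the Thompson subgroup J(G) moves Ω₁(Z(J(C))) only inside V. -/
theorem result {G : Type*} [Group G] [Finite G] {p : ℕ} [Fact p.Prime] (hsep : Cfsg.IsPSolvable p G) (V : Subgroup G) [V.Normal] (hV : Cfsg.IsElementaryAbelian p V) (hO : Cfsg.pCore p (G ⧸ Subgroup.centralizer (V : Set G)) = ⊥) : ⁅Cfsg.omegaOne p (Cfsg.centerThompsonOf p (Subgroup.centralizer (V : Set G))), Cfsg.thompsonSubgroup p G⁆ ≤ V := by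
  set C := centralizer (V : Set G) with hC
  set W := Cfsg.omegaOne p (Cfsg.centerThompsonOf p C) with hW
  have hWle : W ≤ Cfsg.centerThompsonOf p C := (closure_le _).2 fun x hx => hx.1
  have hJC : Cfsg.centerThompsonOf p C ≤ centralizer (Cfsg.thompsonSubgroupOf p C : Set G) := inf_le_right
  have hWJ : W ≤ Cfsg.thompsonSubgroupOf p C := hWle.trans inf_le_left
  have hWc : ∀ x ∈ W, ∀ y ∈ W, x * y = y * x := fun x hx y hy =>
    mem_centralizer_iff.1 (hJC (hWle hy)) x (hWJ hx)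
  have hWe : Cfsg.IsElementaryAbelian p W := by
    refine ⟨⟨⟨fun x y => Subtype.ext (hWc x x.2 y y.2)⟩⟩, fun x hx => ?_⟩
    suffices ∀ y ∈ W, y ∈ W ∧ y ^ p = 1 from (this x hx).2
    intro y hy
    induction hy using Subgroup.closure_induction with
    | mem w hw => exact ⟨subset_closure hw, hw.2⟩
    | one => exact ⟨one_mem _, one_pow _⟩
    | mul u v _ _ hu hv =>
      exact ⟨mul_mem hu.1 hv.1, by rw [(show Commute u v from hWc u hu.1 v hv.1).mul_pow, hu.2, hv.2, one_mul]⟩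
    | inv u _ hu => exact ⟨inv_mem hu.1, by rw [inv_pow, hu.2, inv_one]⟩
  have hWV : ∀ x ∈ W, ∀ v ∈ V, x * v = v * x := fun x hx v hv => by
    have hxC : x ∈ C := map_subtype_le _ (hWJ hx)
    exact (mem_centralizer_iff.1 hxC v hv).symm
  suffices key : ∀ A ∈ Cfsg.maxElementaryAbelianSubgroups p G, ∀ w ∈ W, ∀ a ∈ A, ⁅w, a⁆ ∈ V by
    refine commutator_le.2 fun w hw j hj => ?_
    have hle : Cfsg.thompsonSubgroup p G ≤
        (centralizer ({QuotientGroup.mk' V w} : Set (G ⧸ V))).comap (QuotientGroup.mk' V) := by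
      refine sSup_le fun A hA a ha => ?_
      rw [mem_comap, mem_centralizer_singleton_iff]
      refine (commutatorElement_eq_one_iff_mul_comm.1 ?_).symm
      rw [← map_commutatorElement]
      exact (QuotientGroup.eq_one_iff _).2 (key A hA w hw a ha)
    have h1 := mem_centralizer_singleton_iff.1 (mem_comap.1 (hle hj))
    refine (QuotientGroup.eq_one_iff _).1 ?_
    show QuotientGroup.mk' V ⁅w, j⁆ = 1
    rw [map_commutatorElement]
    exact commutatorElement_eq_one_iff_mul_comm.2 h1.symm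
  intro A hA w hw a ha
  have hs := setup_model V hsep hV hO ⊤
  have heq := card_mul_fx_eq hs (map_mono le_top) (best_map V (Cfsg.Agent.S0606.result V hV A hA))
  rw [card_fx_map, show Nat.card (vx V) = Nat.card V from
    (Nat.card_congr (MonoidHom.ofInjective SemidirectProduct.inl_injective).toEquiv).symm] at heq
  have hcard := card_eq_map_mul (rho V) A
  rw [ker_rho] at hcard
  set A₀ := A ⊓ C
  have hA₀c : ∀ x ∈ A₀, ∀ v ∈ V, x * v = v * x := fun x hx v hv =>
    (mem_centralizer_iff.1 (mem_inf.1 hx).2 v hv).symm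
  have hU : Cfsg.IsElementaryAbelian p (A₀ ⊔ V) :=
    Cfsg.Lib.ElemToolkit.elementary_sup (Cfsg.Lib.ElemToolkit.elementary_mono inf_le_left hA.1) hV hA₀c
  have hint : A₀ ⊓ V ≤ fx V A := fun x hx => mem_fx.2 ⟨(mem_inf.1 hx).2, fun b hb =>
    Cfsg.Lib.ElemToolkit.comm_of hA.1.1 hb (mem_inf.1 (mem_inf.1 hx).1).1⟩
  have hsize : Nat.card A ≤ Nat.card ↥(A₀ ⊔ V) := by
    refine Nat.le_of_mul_le_mul_right (c := Nat.card (fx V A)) ?_ Nat.card_pos
    calc Nat.card A * Nat.card (fx V A) = Nat.card A₀ * Nat.card V := by rw [hcard, ← heq]; ring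
      _ ≤ Nat.card ↥(A₀ ⊔ V) * Nat.card ↥(A₀ ⊓ V) := Cfsg.Lib.ElemToolkit.mul_card_le _ _
      _ ≤ _ := Nat.mul_le_mul_left _ (card_le_of_le hint)
  have hVC : V ≤ C := fun v hv => mem_centralizer_iff.2 fun u hu => comm_elem hV hu hv
  have hUC : A₀ ⊔ V ≤ C := sup_le inf_le_right hVC
  have hUJ : A₀ ⊔ V ≤ Cfsg.thompsonSubgroupOf p C := by
    rw [Cfsg.Lib.Thompson.thompsonSubgroupOf_eq]
    exact le_sSup ⟨hUC, hU, fun B _ hB => (hA.2 B hB).trans hsize⟩
  have hWU : ∀ x ∈ W, ∀ y ∈ A₀ ⊔ V, x * y = y * x := fun x hx y hy =>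
    (mem_centralizer_iff.1 (hJC (hWle hx)) y (hUJ hy)).symm
  have hmax := hA.2 _ (Cfsg.Lib.ElemToolkit.elementary_sup hWe hU hWU)
  have hWle' : W ≤ A₀ ⊔ V := by
    have := eq_of_le_of_card_ge (le_sup_right : A₀ ⊔ V ≤ W ⊔ (A₀ ⊔ V)) (hmax.trans hsize)
    exact le_sup_left.trans this.ge
  have hw' := hWle' hw
  obtain ⟨x, hx, v, hv, rfl⟩ := mem_sup_of_normal_right.1 hw'
  have hxa : x * a = a * x := Cfsg.Lib.ElemToolkit.comm_of hA.1.1 (mem_inf.1 hx).1 ha
  rw [show ⁅x * v, a⁆ = x * ⁅v, a⁆ * x⁻¹ * ⁅x, a⁆ by simp only [commutatorElement_def]; group,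
    commutatorElement_eq_one_iff_mul_comm.2 hxa, mul_one]
  refine (inferInstance : V.Normal).conj_mem _ ?_ x
  rw [commutatorElement_def, mul_assoc, mul_assoc]
  refine mul_mem hv ?_
  rw [← mul_assoc]
  exact (inferInstance : V.Normal).conj_mem _ (inv_mem hv) a

end Cfsg.Agent.S0619
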