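import Cfsg.Statements.S0620
import Cfsg.Agent.FFModule.CoprimeModel
-- import your own Cfsg.Agent.* helpers here

set_option autoImplicit false
set_option linter.style.haveILetI false
open Cfsg Cfsg.Lib.FF Subgroup
open scoped commutatorElement

namespace Cfsg.Agent.S0620

/-- Under coprime action of an elementary abelian q-group X on a p-separable group K with trivial p'-core, K is generated by the normalizer of J(S), the centralizer of Ω₁(Z(S)) and the fixed points of X. -/
theorem result {G : Type*} [Group G] [Finite G] {p : ℕ} [Fact p.Prime] {q : ℕ} [Fact q.Prime] (K X : Subgroup G) (hXK : X ≤ Subgroup.normalizer (K : Set G)) (hX : Cfsg.IsElementaryAbelian q X) (hq : ¬ q ∣ Nat.card K) (hsep : Cfsg.IsPSolvable p ↥K) (hO : Cfsg.pPrimeCore p ↥K = ⊥) (S : Sylow p ↥K) : (Subgroup.normalizer (Cfsg.thompsonSubgroupOf p (S : Subgroup ↥K) : Set ↥K) ⊔ Subgroup.centralizer (Cfsg.omegaOne p ((S : Subgroup ↥K) ⊓ Subgroup.centralizer ((S : Subgroup ↥K) : Set ↥K))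 : Set ↥K) ⊔ (Subgroup.centralizer (X : Set G)).subgroupOf K) = ⊤ := by
  obtain ⟨hV, hJ, hs, hgen⟩ := thompson_setup hsep hO
  haveI := hJ
  set V := zClosure p ↥K with hVdef
  set J := Cfsg.thompsonSubgroup p ↥K
  set H := J.map (rho V)
  set L := normalizer (Cfsg.thompsonSubgroupOf p (S : Subgroup ↥K) : Set ↥K) ⊔
    centralizer (Cfsg.omegaOne p ((S : Subgroup ↥K) ⊓ centralizer ((S : Subgroup ↥K) : Set ↥K)) : Set ↥K) ⊔
    (centralizer (X : Set G)).subgroupOf K
  have hCL : centralizer (V : Set ↥K) ≤ L :=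
    le_trans (le_trans (centralizer_le (le_iSup (fun T : Sylow p ↥K => Cfsg.omegaOne p ((T : Subgroup ↥K) ⊓
      centralizer ((T : Subgroup ↥K) : Set ↥K))) S)) le_sup_right) le_sup_left
  have hNL : normalizer (Cfsg.thompsonSubgroupOf p (S : Subgroup ↥K) : Set ↥K) ≤ L :=
    le_trans le_sup_left le_sup_left
  have hXL : (centralizer (X : Set G)).subgroupOf K ≤ L := le_sup_right
  have hSL : (S : Subgroup ↥K) ≤ L :=
    le_trans (le_trans le_normalizer (Cfsg.Lib.Thompson.normalizer_le_normalizer_thompson _)) hNL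
  suffices hJL : J ≤ L by
    refine top_le_iff.1 ((frattini_thompson J S
      (Cfsg.Lib.ThompsonFactor.thompsonSubgroupOf_le_thompsonSubgroup S)).ge.trans (sup_le hJL hNL))
  have hback : (L.map (rho V)).comap (rho V) ≤ L := by
    rw [comap_map_eq, ker_rho]
    exact sup_le le_rfl hCL
  refine (map_le_iff_le_comap.1 ?_).trans hback
  refine hgen.trans ((Subgroup.closure_le _).2 fun b hb => ?_)
  obtain ⟨T, hT⟩ := frattini_thompson.map_sylow_inf S J
  set T' := T.mapSurjective ((rho V).subgroupMap_surjective J)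
  obtain ⟨R, hR⟩ := (IsPGroup.of_card (p := p) (n := 1) (by
    rw [Nat.card_zpowers, pow_one]
    exact orderOf_eq_prime (Subtype.ext (by push_cast; exact hb.pow))
      (fun e => hb.ne (congrArg Subtype.val e))) : IsPGroup p (zpowers (⟨b, hb.mem⟩ : H))).exists_le_sylow
  obtain ⟨h, hh⟩ := MulAction.exists_smul_eq H R T'
  have hbT : h * ⟨b, hb.mem⟩ * h⁻¹ ∈ (T' : Subgroup H) := by
    rw [← hh, Sylow.coe_subgroup_smul]
    exact ⟨_, hR (mem_zpowers _), rfl⟩
  rw [Sylow.coe_mapSurjective] at hbT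
  obtain ⟨t, ht, hte⟩ := hbT
  set a := (h : Amb V) * b * (h : Amb V)⁻¹
  have haL : a ∈ L.map (rho V) := by
    refine ⟨t, hSL ?_, congrArg Subtype.val hte⟩
    have : (t : ↥K) ∈ (T : Subgroup J).map J.subtype := ⟨t, ht, rfl⟩
    rw [hT] at this
    exact (mem_inf.1 this).1
  have hhV : (h : Amb V) ∈ normalizer (vx V : Set (Amb V)) := hs.norm h.2
  have ha : IsTv p (vx V) H a := isTv_conj hs hb hhV (le_normalizer h.2)
  have hE : epl p H a = epl p H b := by
    rw [← epl_conj (le_normalizer h.2), map_conj_eq ((split_group hs hgen hb).1 h.2)]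
  have hd := epl_data hs ha
  obtain ⟨r, hr, hra⟩ : ∃ r ∈ rad p H a, r * a ≠ a * r := by
    by_contra hno
    push Not at hno
    obtain ⟨x, hx, hxa⟩ := exists_mover hs ha
    have hcent : epl p H a ≤ centralizer ({a} : Set (Amb V)) :=
      (epl_le_rad_sup hs ha hd.mem ha).trans (sup_le (fun r hr => mem_centralizer_singleton_iff.2 (hno r hr))
        (zpowers_le.2 (mem_centralizer_singleton_iff.2 rfl)))
    have hc : Commute (x * a * x⁻¹) a := mem_centralizer_singleton_iff.1 (hcent (conj_a_mem hx))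
    have hpow : (x * a * x⁻¹ * a⁻¹) ^ p = 1 := by
      rw [hc.inv_right.mul_pow, conj_pow, inv_pow, ha.pow]; group
    have hmem : x * a * x⁻¹ * a⁻¹ ∈ core p H := comm_core_mem ha hx (mem_zpowers a)
    have h1 := eq_one_of_core (p := p) (A := zpowers (x * a * x⁻¹ * a⁻¹)) (fun z => ⟨1, Subtype.ext (by
      obtain ⟨i, hi⟩ := mem_zpowers_iff.1 z.2
      rw [pow_one]
      push_cast
      rw [← hi, ← zpow_natCast, ← zpow_mul, mul_comm, zpow_mul, zpow_natCast, hpow, one_zpow])⟩)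
      (mem_zpowers _) hmem
    exact hxa (mul_inv_eq_iff_eq_mul.1 (mul_inv_eq_one.1 h1))
  obtain ⟨hr1, hr2⟩ := mem_inf.1 hr
  obtain ⟨δ, hδX, -, hδH, hδM⟩ := exists_fixed_pair hXK V hX hq J hs hgen ha
  set g := δ ⟨r, mem_sup_right hr1⟩
  obtain ⟨k, -, hk⟩ := hδH ⟨r, mem_sup_right hr1⟩ (epl_le hs ha hr1)
  have hkfix : ∀ x : ↥X, xi hXK V x * rho V k = rho V k * xi hXK V x := fun x => by rw [hk]; exact hδX x _
  obtain ⟨k', hk', hk'X⟩ := lift_fixed hXK V hX hq k hkfix
  have hgL : g ∈ L.map (rho V) := ⟨k', hXL hk'X, hk'.trans hk⟩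
  have hrar : r * a * r⁻¹ ∈ L.map (rho V) := by
    have hc := hδM ⟨r, mem_sup_right hr1⟩
    have hmM : r * a * r⁻¹ ∈ pl p (vx V) H a ⊔ epl p H a := mem_sup_right (conj_a_mem hr2)
    have h2 : g * a * g⁻¹ = r * a * r⁻¹ := by
      calc g * a * g⁻¹ = g * r⁻¹ * (r * a * r⁻¹) * (g * r⁻¹)⁻¹ := by group
        _ = _ := by rw [← mem_centralizer_iff.1 hc _ hmM, mul_inv_cancel_right]
    rw [← h2]
    exact mul_mem (mul_mem hgL haL) (inv_mem hgL)
  obtain ⟨-, -, hcl⟩ := epl_eq_closure hs ha hr2 hra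
  have hle : epl p H a ≤ L.map (rho V) := by
    rw [← hcl, Subgroup.closure_le]
    rintro y (rfl | rfl)
    · exact haL
    · exact hrar
  exact hle (hE.ge (epl_data hs hb).mem)

end Cfsg.Agent.S0620
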