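import Cfsg.Statements.S0621
import Cfsg.Agent.FFModule.CoprimeModel
import Cfsg.Agent.S0608
-- import your own Cfsg.Agent.* helpers here

set_option autoImplicit false
set_option linter.style.haveILetI false
open Cfsg Cfsg.Lib.FF Subgroup
open scoped commutatorElement

namespace Cfsg.Agent.S0621

/-- Let K be p-separable with O_p'(K) = 1, normalized by an elementary abelian q-group X for a prime q not dividing the order of K. If the Thompson factorization fails in K, then p is 2 or 3 and the fixed points of X contain a plane W of order p² and a subgroup inducing SL(2, p) on it. -/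
theorem result {G : Type*} [Group G] [Finite G] {p : ℕ} [Fact p.Prime] {q : ℕ} [Fact q.Prime] (K X : Subgroup G) (hXK : X ≤ Subgroup.normalizer (K : Set G)) (hX : Cfsg.IsElementaryAbelian q X) (hq : ¬ q ∣ Nat.card K) (hsep : Cfsg.IsPSolvable p ↥K) (hO : Cfsg.pPrimeCore p ↥K = ⊥) (hnf : ¬ Cfsg.IsThompsonFactorizable p ↥K) : (p = 2 ∨ p = 3) ∧ ∃ W D : Subgroup G, W ≤ K ⊓ Subgroup.centralizer (X : Set G) ∧ D ≤ K ⊓ Subgroup.centralizer (X : Set G) ∧ Cfsg.IsElementaryAbelian p W ∧ Nat.card W = p ^ 2 ∧ D ≤ Subgroup.normalizer (W : Set G) ∧ ∃ hn : ((Subgroup.centralizer (W : Set G)).subgroupOf D).Normal, Nonempty ((↥D ⧸ (Subgroup.centralizer (W : Set G)).subgroupOf D) ≃* Matrix.SpecialLinearGroup (Fin 2) (ZMod p)) := by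
  obtain ⟨hV, hJ, hs, hgen⟩ := thompson_setup hsep hO
  haveI := hJ
  set V := zClosure p ↥K with hVdef
  set H := (Cfsg.thompsonSubgroup p ↥K).map (rho V)
  obtain ⟨a, ha⟩ : ∃ a, IsTv p (vx V) H a := by
    by_contra hno
    push Not at hno
    refine hnf ((Cfsg.Agent.S0608.result hO).2 fun x hx => ?_)
    have h1 := hgen (mem_map_of_mem _ hx)
    rw [show {a | IsTv p (vx V) H a} = ∅ from Set.eq_empty_iff_forall_notMem.2 hno, Subgroup.closure_empty,
      mem_bot, ← MonoidHom.mem_ker, ker_rho] at h1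
    exact h1
  have hd := epl_data hs ha
  set M := pl p (vx V) H a ⊔ epl p H a
  obtain ⟨δ, hδX, hδV, hδH, hδM⟩ : ∃ δ : ↥M →* Amb V, (∀ x : ↥X, ∀ m, xi hXK V x * δ m = δ m * xi hXK V x) ∧
      (∀ m : ↥M, (m : Amb V) ∈ vx V → δ m ∈ vx V) ∧ (∀ m : ↥M, (m : Amb V) ∈ H → δ m ∈ H) ∧
      (∀ m : ↥M, δ m * (m : Amb V)⁻¹ ∈ centralizer (M : Set (Amb V))) :=
    exists_fixed_pair hXK V hX hq (Cfsg.thompsonSubgroup p ↥K) hs hgen ha
  have hker : ∀ m : M, δ m = 1 → ∀ n ∈ M, n * (m : Amb V) = m * n := by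
    intro m hm n hn
    have h := hδM m
    rw [hm, one_mul] at h
    have h' := (show Commute n (m : Amb V)⁻¹ from mem_centralizer_iff.1 h n hn).inv_right
    rw [inv_inv] at h'
    exact h'.eq
  set δP := δ.comp (inclusion (le_sup_left : pl p (vx V) H a ≤ M))
  set δE := δ.comp (inclusion (le_sup_right : epl p H a ≤ M))
  have hPinj : Function.Injective δP := (injective_iff_map_eq_one _).2 fun u hu => Subtype.ext (by
    have h := hker _ hu
    have : (u : Amb V) ∈ pl p (vx V) H a ⊓ fx (vx V) (epl p H a) :=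
      mem_inf.2 ⟨u.2, mem_fx.2 ⟨hd.W_le u.2, fun d hd' => h d (mem_sup_right hd')⟩⟩
    rw [hd.inf_fx, mem_bot] at this
    exact this)
  have hEinj : Function.Injective δE := (injective_iff_map_eq_one _).2 fun u hu => Subtype.ext (by
    have h := hker _ hu
    have : (u : Amb V) ∈ epl p H a ⊓ centralizer (pl p (vx V) H a : Set (Amb V)) :=
      mem_inf.2 ⟨u.2, mem_centralizer_iff.2 fun w hw => h w (mem_sup_left hw)⟩
    rw [hd.faith, mem_bot] at this
    exact this)
  -- the plane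
  set emb : ↥V →* G := K.subtype.comp V.subtype
  have hemb : Function.Injective emb := K.subtype_injective.comp V.subtype_injective
  set W₀ : Subgroup ↥V := δP.range.comap SemidirectProduct.inl
  have hPV : δP.range ≤ vx V := by
    rintro _ ⟨u, rfl⟩
    exact hδV _ (hd.W_le u.2)
  have hW₀ : W₀.map SemidirectProduct.inl = δP.range := map_comap_eq_self hPV
  have hmemW : ∀ v : ↥V, v ∈ W₀ ↔ (SemidirectProduct.inl v : Amb V) ∈ δP.range := fun v => mem_comap
  have hWX : ∀ v ∈ W₀, emb v ∈ centralizer (X : Set G) := by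
    intro v hv
    obtain ⟨u, hu⟩ := (hmemW v).1 hv
    refine mem_centralizer_iff.2 fun x hx => ?_
    have h : xi hXK V ⟨x, hx⟩ * SemidirectProduct.inl v = SemidirectProduct.inl v * xi hXK V ⟨x, hx⟩ := by
      rw [← hu]; exact hδX ⟨x, hx⟩ _
    have h2 : SemidirectProduct.inl (restrictAut V (cj hXK ⟨x, hx⟩) v) = (SemidirectProduct.inl v : Amb V) := by
      refine (SemidirectProduct.inl_aut (φ := MonoidHom.id (MulAut ↥V)) (restrictAut V (cj hXK ⟨x, hx⟩)) v).trans ?_
      rw [map_inv]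
      show xi hXK V ⟨x, hx⟩ * SemidirectProduct.inl v * (xi hXK V ⟨x, hx⟩)⁻¹ = _
      rw [h, mul_inv_cancel_right]
    have h3 : x * emb v * x⁻¹ = emb v :=
      congrArg (fun w : ↥V => ((w : ↥K) : G)) (SemidirectProduct.inl_injective h2)
    exact mul_inv_eq_iff_eq_mul.1 h3
  set W := W₀.map emb
  -- the group inducing `SL(2, p)` on it
  set D₀ : Subgroup ↥K := δE.range.comap (rho V) ⊓ (centralizer (X : Set G)).subgroupOf K
  set D := D₀.map K.subtype
  have hER : δE.range ≤ (rho V).range := by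
    rintro _ ⟨e, rfl⟩
    exact map_le_range _ _ (hδH _ (epl_le hs ha e.2))
  let φ : D₀ →* δE.range := ((rho V).domRestrict D₀).codRestrict δE.range fun k => (mem_inf.1 k.2).1
  have hφ : Function.Surjective φ := by
    rintro ⟨_, e, rfl⟩
    obtain ⟨k, hk⟩ := hER ⟨e, rfl⟩
    obtain ⟨k', hk', hk'X⟩ := lift_fixed hXK V hX hq k fun x => by rw [hk]; exact hδX x _
    exact ⟨⟨k', mem_inf.2 ⟨by rw [mem_comap, hk', hk]; exact ⟨e, rfl⟩, hk'X⟩⟩, Subtype.ext (hk'.trans hk)⟩
  obtain ⟨θ⟩ := hd.iso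
  set eD := D₀.equivMapOfInjective K.subtype K.subtype_injective
  set ψ : ↥D →* Matrix.SpecialLinearGroup (Fin 2) (ZMod p) :=
    (θ.toMonoidHom.comp (MonoidHom.ofInjective hEinj).symm.toMonoidHom).comp (φ.comp eD.symm.toMonoidHom)
  have hψ : Function.Surjective ψ :=
    (θ.surjective.comp (MonoidHom.ofInjective hEinj).symm.surjective).comp (hφ.comp eD.symm.surjective)
  have hconj : ∀ k ∈ D₀, ∀ v ∈ W₀, ∃ e : epl p H a, ∃ u : pl p (vx V) H a, rho V k = δE e ∧
      SemidirectProduct.inl v = δP u ∧ rho V k * SemidirectProduct.inl v * (rho V k)⁻¹ =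
        δP ⟨(e : Amb V) * u * (e : Amb V)⁻¹, hd.D_norm _ e.2 _ u.2⟩ := by
    intro k hk v hv
    obtain ⟨e, he⟩ := (mem_inf.1 hk).1
    obtain ⟨u, hu⟩ := (hmemW v).1 hv
    refine ⟨e, u, he.symm, hu.symm, ?_⟩
    rw [← he, ← hu]
    simp only [δE, δP, MonoidHom.comp_apply, ← map_inv, ← map_mul]
    rfl
  have hDW : D ≤ Subgroup.normalizer (W : Set G) := by
    rintro _ ⟨k, hk, rfl⟩
    refine mem_normalizer_of_map ?_
    rintro _ ⟨_, ⟨v, hv, rfl⟩, rfl⟩
    obtain ⟨e, u, -, -, h⟩ := hconj k hk v hv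
    rw [rho_conj] at h
    exact ⟨_, (hmemW _).2 ⟨_, h.symm⟩, rfl⟩
  have hkψ : ψ.ker = (Subgroup.centralizer (W : Set G)).subgroupOf D := by
    ext z
    obtain ⟨k, rfl⟩ := eD.surjective z
    rw [MonoidHom.mem_ker, mem_subgroupOf]
    have h1 : ψ (eD k) = 1 ↔ rho V (k : ↥K) = 1 := by
      simp only [ψ, MonoidHom.comp_apply, MulEquiv.coe_toMonoidHom, MulEquiv.symm_apply_apply,
        MulEquiv.map_eq_one_iff]
      exact Subtype.ext_iff
    rw [h1]
    constructor
    · intro h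
      refine mem_centralizer_iff.2 ?_
      rintro _ ⟨v, hv, rfl⟩
      have h2 := (rho_commute_iff V (k : ↥K) v).1 (by rw [h, one_mul, mul_one])
      exact (congrArg Subtype.val h2).symm
    · intro h
      obtain ⟨e, he⟩ := (mem_inf.1 k.2).1
      have he1 : (e : Amb V) ∈ epl p H a ⊓ centralizer (pl p (vx V) H a : Set (Amb V)) := by
        refine mem_inf.2 ⟨e.2, mem_centralizer_iff.2 fun u hu => ?_⟩
        obtain ⟨v, hv⟩ := hPV ⟨⟨u, hu⟩, rfl⟩
        have hvW : v ∈ W₀ := (hmemW v).2 ⟨⟨u, hu⟩, hv.symm⟩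
        have h2 : ((k : ↥K) : G) * emb v = emb v * ((k : ↥K) : G) :=
          (mem_centralizer_iff.1 h _ ⟨v, hvW, rfl⟩).symm
        obtain ⟨e', u', he', hu', h3⟩ := hconj k k.2 v hvW
        rw [(rho_commute_iff V (k : ↥K) v).2 (Subtype.ext h2), mul_inv_cancel_right, hu'] at h3
        rw [show e' = e from hEinj (he'.symm.trans he.symm)] at h3
        rw [show u' = ⟨u, hu⟩ from hPinj (hu'.symm.trans hv)] at h3
        have h4 : u = (e : Amb V) * u * (e : Amb V)⁻¹ := congrArg Subtype.val (hPinj h3)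
        exact eq_mul_inv_iff_mul_eq.1 h4
      rw [hd.faith, mem_bot] at he1
      rw [← he, show e = 1 from Subtype.ext he1, map_one]
  haveI hn : ((Subgroup.centralizer (W : Set G)).subgroupOf D).Normal := hkψ ▸ ψ.normal_ker
  refine ⟨hd.small, W, D, ?_, ?_, ?_, ?_, hDW, hn, ⟨(QuotientGroup.quotientMulEquivOfEq hkψ.symm).trans
    (QuotientGroup.quotientKerEquivOfSurjective ψ hψ)⟩⟩
  · rintro _ ⟨v, hv, rfl⟩
    exact mem_inf.2 ⟨(v : ↥K).2, hWX v hv⟩
  · rintro _ ⟨k, hk, rfl⟩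
    exact mem_inf.2 ⟨k.2, (mem_inf.1 hk).2⟩
  · refine ⟨⟨⟨?_⟩⟩, ?_⟩
    · rintro ⟨_, v, -, rfl⟩ ⟨_, w, -, rfl⟩
      exact Subtype.ext (congrArg K.subtype (comm_elem hV v.2 w.2))
    · rintro _ ⟨v, -, rfl⟩
      rw [← map_pow, show v ^ p = 1 from Subtype.ext (by push_cast; exact hV.2 v v.2), map_one]
  · rw [card_map_of_injective hemb, ← card_map_of_injective (f := (SemidirectProduct.inl : ↥V →* Amb V))
      SemidirectProduct.inl_injective, hW₀, ← Nat.card_congr (MonoidHom.ofInjective hPinj).toEquiv, hd.card_W]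

end Cfsg.Agent.S0621
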