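import Cfsg.Statements.S0633
import Mathlib
import Cfsg.Prelude
import Cfsg.Agent.HallHigman.TheoremB

set_option autoImplicit false
open Cfsg

namespace Cfsg.Agent.S0633

/-- Theorem B of Hall and Higman on the minimal polynomial of a p-element of order p^n in a p-solvable linear group on a nonzero vector space in characteristic p with no nontrivial normal p-subgroup: its degree is p^n, except when some p^n₀ - 1 (n₀ ≤ n) is a power of a prime q for which the Sylow q-subgroups are non-abelian, in which case the degree is at least p^(n-n₀)(p^n₀ - 1). -/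
theorem result {F : Type*} [Field F] {p : ℕ} [Fact p.Prime] [CharP F p] {V : Type*} [AddCommGroup V] [Module F V] [FiniteDimensional F V] [Nontrivial V] (H : Subgroup (V ≃ₗ[F] V)) [Finite H] (hsol : Cfsg.IsPSolvable p H) (hOp : Cfsg.pCore p H = ⊥) (x : V ≃ₗ[F] V) (hx : x ∈ H) (n : ℕ) (hn : orderOf x = p ^ n) (r : ℕ) (hr : minpoly F (x : Module.End F V) = (Polynomial.X - 1) ^ r) : r = p ^ n ∨ ∃ n₀ q m : ℕ, 1 ≤ n₀ ∧ n₀ ≤ n ∧ q.Prime ∧ 1 ≤ m ∧ p ^ n₀ - 1 = q ^ m ∧ (∀ Q : Sylow q H, ¬ IsMulCommutative Q) ∧ p ^ (n - n₀) * (p ^ n₀ - 1) ≤ r := by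
  classical
  let b := Module.finBasis F V
  let K := AlgebraicClosure F
  haveI : CharP K p := charP_of_injective_algebraMap (algebraMap F K).injective p
  let Φ : Module.End F V →+* Module.End K (Fin (Module.finrank F V) → K) :=
    ((Matrix.toLinAlgEquiv' : Matrix _ _ K ≃ₐ[K] _).toRingEquiv.toRingHom.comp
      (algebraMap F K).mapMatrix).comp (LinearMap.toMatrixAlgEquiv b).toRingEquiv.toRingHom
  have hΦ : Function.Injective Φ := by
    intro f g e
    exact (LinearMap.toMatrixAlgEquiv b).injective
      (Matrix.map_injective (algebraMap F K).injective (Matrix.toLinAlgEquiv'.injective e))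
  haveI : Nonempty (Fin (Module.finrank F V)) := ⟨⟨0, Module.finrank_pos⟩⟩
  let c : H →* Module.End F V :=
    { toFun := fun g => ((g : V ≃ₗ[F] V) : V →ₗ[F] V)
      map_one' := rfl
      map_mul' := fun g k => rfl }
  have hc : Function.Injective c := fun g k e => Subtype.ext (LinearEquiv.toLinearMap_injective e)
  set θ : Module.End F V := (x : Module.End F V) with hθ
  have h0 : (θ - 1) ^ r = 0 := by
    have h := minpoly.aeval F θ
    rw [hr] at h
    simpa using h
  have hxn : θ ^ p ^ n = 1 := by
    have h : (⟨x, hx⟩ : H) ^ p ^ n = 1 := Subtype.ext (by rw [Subgroup.coe_pow, ← hn]; exact pow_orderOf_eq_one x)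
    have h' := congrArg c h
    rw [map_pow, map_one] at h'
    exact h'
  have hle : r ≤ p ^ n := by
    haveI : CharP (Module.End F V) p := charP_of_injective_algebraMap (algebraMap F (Module.End F V)).injective p
    haveI : ExpChar (Module.End F V) p := ExpChar.prime Fact.out
    haveI : CharP (Polynomial F) p := inferInstance
    have hd : minpoly F θ ∣ ((Polynomial.X : Polynomial F) - 1) ^ p ^ n := minpoly.dvd F θ (by
      simp [sub_pow_expChar_pow_of_commute (p := p) _ (Commute.one_right θ), hxn])
    rw [hr] at hd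
    have h1 := Polynomial.natDegree_le_of_dvd hd (pow_ne_zero _ (Polynomial.X_sub_C_ne_zero 1))
    rwa [← Polynomial.C_1, Polynomial.natDegree_pow, Polynomial.natDegree_pow, Polynomial.natDegree_X_sub_C, mul_one,
      mul_one] at h1
  rcases Cfsg.Lib.HallHigman.theorem_B (K := K) hsol hOp (Φ.toMonoidHom.comp c) (hΦ.comp hc) ⟨x, hx⟩ n
      (by rw [Subgroup.orderOf_mk, hn]) r
      (by show (Φ θ - 1) ^ r = 0; rw [← map_one Φ, ← map_sub, ← map_pow, h0, map_zero]) with h | h
  · exact Or.inl (le_antisymm hle h)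
  · exact Or.inr h

end Cfsg.Agent.S0633
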