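import Cfsg.Statements.S0635
import Mathlib
import Cfsg.Prelude
import Cfsg.Agent.SolvStruct.PLengthSeries
import Cfsg.Agent.Blocks.FongFullDefect
import Cfsg.Agent.GaschutzYen.Basic
import Cfsg.Agent.HallHigman.Drop

set_option autoImplicit false
open Cfsg

namespace Cfsg.Agent.S0635

open Subgroup

universe u

theorem main {p : ℕ} [hp : Fact p.Prime] : ∀ (c : ℕ) (G : Type u) [Group G] [Finite G], Cfsg.IsPSolvable p G →
    ∀ S : Sylow p G, Group.nilpotencyClass (S : Subgroup G) ≤ c → Cfsg.PLengthLE p c G := by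
  intro c
  induction c with
  | zero =>
    intro G _ _ _ S hS
    haveI : Group.IsNilpotent (S : Subgroup G) := S.2.isNilpotent
    haveI := nilpotencyClass_zero_iff_subsingleton.1 (Nat.le_zero.1 hS)
    rw [Cfsg.Lib.PLengthSeries.pLengthLE_zero_iff]
    refine (hp.out.coprime_iff_not_dvd.2 fun hd => S.ne_bot_of_dvd_card hd (eq_bot_of_card_eq _ ?_)).symm
    exact Nat.card_eq_one_iff_unique.2 ⟨inferInstance, inferInstance⟩
  | succ c ih =>
    intro G _ _ hsol S hS
    set π := QuotientGroup.mk' (Cfsg.pPrimeCore p G)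
    have hπ : Function.Surjective π := QuotientGroup.mk'_surjective _
    have hO : Cfsg.pPrimeCore p (G ⧸ Cfsg.pPrimeCore p G) = ⊥ := Cfsg.Lib.Coprime.pPrimeCore_quotient_eq_bot
    have hsol1 := Cfsg.Lib.GaschutzYen.isPSolvable_quotient (p := p) (Cfsg.pPrimeCore p G) hsol
    set ρ := QuotientGroup.mk' (Cfsg.pCore p (G ⧸ Cfsg.pPrimeCore p G))
    have hρ : Function.Surjective ρ := QuotientGroup.mk'_surjective _
    set S1 := Sylow.mapSurjective hπ S
    haveI : Group.IsNilpotent (S : Subgroup G) := S.2.isNilpotent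
    haveI : Group.IsNilpotent (S1 : Subgroup (G ⧸ Cfsg.pPrimeCore p G)) := S1.2.isNilpotent
    have hc1 : Group.nilpotencyClass (S1 : Subgroup (G ⧸ Cfsg.pPrimeCore p G)) ≤ c + 1 :=
      le_trans (Group.nilpotencyClass_le_of_surjective (G' := (S1 : Subgroup (G ⧸ Cfsg.pPrimeCore p G)))
        (π.subgroupMap (S : Subgroup G)) (π.subgroupMap_surjective (S : Subgroup G))) hS
    set S2 := Sylow.mapSurjective hρ S1
    have hc2 : Group.nilpotencyClass (S2 : Subgroup ((G ⧸ Cfsg.pPrimeCore p G) ⧸ Cfsg.pCore p (G ⧸ Cfsg.pPrimeCore p G))) ≤ c := by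
      haveI : Group.IsNilpotent (S2 : Subgroup ((G ⧸ Cfsg.pPrimeCore p G) ⧸ Cfsg.pCore p (G ⧸ Cfsg.pPrimeCore p G))) := S2.2.isNilpotent
      refine le_trans (Group.nilpotencyClass_le_of_surjective
        (QuotientGroup.lift (center (S1 : Subgroup (G ⧸ Cfsg.pPrimeCore p G))) (ρ.subgroupMap (S1 : Subgroup (G ⧸ Cfsg.pPrimeCore p G))) ?_) ?_) ?_
      · intro z hz
        refine Subtype.ext ((QuotientGroup.eq_one_iff _).2 ?_)
        refine Cfsg.Lib.Blocks.centralizer_pCore_le_of_isPSolvable p hsol1 hO (mem_centralizer_iff.2 fun w hw => ?_)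
        have hwS : w ∈ (S1 : Subgroup (G ⧸ Cfsg.pPrimeCore p G)) := by
          haveI := Cfsg.Lib.Components.pCore_normal' (G := G ⧸ Cfsg.pPrimeCore p G) p
          exact (Cfsg.Lib.Components.isPGroup_pCore p).le_sylow_of_normal S1 hw
        exact congrArg Subtype.val (mem_center_iff.1 hz ⟨w, hwS⟩)
      · exact fun y => by
          obtain ⟨x, hx⟩ := ρ.subgroupMap_surjective (S1 : Subgroup (G ⧸ Cfsg.pPrimeCore p G)) y
          exact ⟨QuotientGroup.mk x, hx⟩
      · rw [nilpotencyClass_quotient_center]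
        omega
    have h3 := ih _ (Cfsg.Lib.GaschutzYen.isPSolvable_quotient (p := p) _ hsol1) S2 hc2
    have h1 : Cfsg.PLengthLE p 0 π.ker := by
      rw [Cfsg.Lib.PLengthSeries.pLengthLE_zero_iff, QuotientGroup.ker_mk']
      exact Cfsg.Lib.Components.coprime_card_pPrimeCore p
    have h2 : Cfsg.PLengthLE p 1 ρ.ker := Cfsg.Lib.PLengthSeries.pLengthLE_one_of_isPGroup (by
      rw [QuotientGroup.ker_mk']; exact Cfsg.Lib.Components.isPGroup_pCore p)
    have h4 := Cfsg.Lib.PLengthSeries.pLengthLE_extend π h1 (Cfsg.Lib.PLengthSeries.pLengthLE_extend ρ h2 h3)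
    rw [show c + 1 = 0 + (1 + c) by ring]
    exact h4


/-- The p-length of a p-soluble group is at most the nilpotency class of its Sylow p-subgroups. -/
theorem result {G : Type*} [Group G] [Finite G] {p : ℕ} [Fact p.Prime] (hsol : Cfsg.IsPSolvable p G) (S : Sylow p G) : Cfsg.PLengthLE p (Group.nilpotencyClass ↥(S : Subgroup G)) G := by
  exact main _ G hsol S le_rfl

end Cfsg.Agent.S0635
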