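import Cfsg.Statements.S0636
import Cfsg.Agent.OddLocal.RankTwo

set_option autoImplicit false
open Cfsg

namespace Cfsg.Agent.S0636

/-- For odd p, every non-cyclic normal subgroup of a p-group contains a normal elementary abelian subgroup of the whole group of order p². -/
theorem result {R : Type*} [Group R] [Finite R] {p : ℕ} [Fact p.Prime] (hp : p ≠ 2) (hR : IsPGroup p R) (S : Subgroup R) [S.Normal] (hS : ¬ IsCyclic S) : ∃ A : Subgroup R, A ≤ S ∧ A.Normal ∧ Cfsg.IsElementaryAbelian p A ∧ Nat.card A = p ^ 2 := by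
  haveI hpF := (inferInstance : Fact p.Prime)
  have hSp := hR.to_subgroup S
  obtain ⟨A₀, hA₀n, hA₀e, hA₀c⟩ := Cfsg.Lib.SolvStruct.exists_normal_elementary_sq hp hSp hS
  haveI := hA₀n
  have hA₀ : A₀ ≤ Subgroup.upperCentralSeries S 2 := by
    set Z := Subgroup.center S with hZ
    set q := QuotientGroup.mk' Z with hq
    haveI : (A₀.map q).Normal := hA₀n.map q (QuotientGroup.mk'_surjective Z)
    obtain ⟨j, hj⟩ := IsPGroup.iff_card.1 ((hSp.to_subgroup A₀).map q)
    have hcen : A₀.map q ≤ Subgroup.center (S ⧸ Z) := by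
      rcases Nat.lt_or_ge j 2 with hj2 | hj2
      · interval_cases j
        · rw [pow_zero, Subgroup.card_eq_one] at hj
          rw [hj]; exact bot_le
        · exact Cfsg.Lib.PGroups.le_center_of_card_eq_prime (hSp.to_quotient Z) (hj.trans (pow_one p))
      · exfalso
        haveI : Nontrivial A₀ := (Subgroup.nontrivial_iff_ne_bot _).2 fun e => by
          rw [e, Subgroup.card_bot] at hA₀c
          have := Nat.one_lt_pow two_ne_zero (Fact.out : p.Prime).one_lt
          omega
        obtain ⟨z, hzA, hzZ, hz1⟩ : ∃ z, z ∈ A₀ ∧ z ∈ Z ∧ z ≠ 1 := by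
          obtain ⟨z, h1, h2, h3⟩ := Cfsg.Lib.PGroups.exists_mem_center_of_normal_ne_bot hSp (N := A₀)
            ((Subgroup.nontrivial_iff_ne_bot _).1 inferInstance)
          exact ⟨z, h1, h2, fun e => by rw [e, orderOf_one] at h3; exact (Fact.out : p.Prime).ne_one h3.symm⟩
        have hinj : Function.Injective (q.subgroupMap A₀) := by
          have hsurj := q.subgroupMap_surjective A₀
          refine (hsurj.bijective_of_nat_card_le ?_).1
          rw [hj, hA₀c]
          exact Nat.pow_le_pow_right (Fact.out : p.Prime).pos hj2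
        exact hz1 (congrArg Subtype.val (hinj (a₁ := ⟨z, hzA⟩) (a₂ := 1)
          (Subtype.ext (by rw [map_one]; exact (QuotientGroup.eq_one_iff z).2 hzZ))))
    intro a ha
    rw [Subgroup.mem_upperCentralSeries_succ_iff]
    intro y
    rw [Subgroup.upperCentralSeries_one, ← QuotientGroup.eq_one_iff]
    have h := Subgroup.mem_center_iff.1 (hcen (Subgroup.mem_map_of_mem q ha)) (q y)
    show q (a * y * a⁻¹ * y⁻¹) = 1
    rw [map_mul, map_mul, map_mul, map_inv, map_inv, ← h]
    group
  set K₀ := Subgroup.closure {y : S | y ∈ Subgroup.upperCentralSeries S 2 ∧ y ^ p = 1} with hK₀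
  haveI : K₀.Characteristic := Cfsg.Lib.OddP.closure_characteristic
  set K := K₀.map S.subtype with hK
  haveI : K.Normal := inferInstance
  have hexp : ∀ x ∈ K, x ^ p = 1 := by
    rintro _ ⟨y, hy, rfl⟩
    rw [← map_pow, (Cfsg.Lib.OddP.mem_closure_secondCenter hp hy).2, map_one]
  have hAK : A₀.map S.subtype ≤ K := Subgroup.map_mono fun a ha => Subgroup.subset_closure ⟨hA₀ ha, hA₀e.2 a ha⟩
  have hKc : p ^ 2 ≤ Nat.card K := by
    rw [← hA₀c, ← Subgroup.card_map_of_injective S.subtype_injective]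
    exact Nat.card_le_card_of_injective _ (Subgroup.inclusion_injective hAK)
  have hp1 := (Fact.out : p.Prime).one_lt
  obtain ⟨A1, hA1, -, hA1K, hi1⟩ := Cfsg.Lib.PGroups.exists_normal_relIndex_prime hR (N := ⊥) (M := K)
    (bot_lt_iff_ne_bot.2 fun e => by
      rw [e, Subgroup.card_bot] at hKc
      have := Nat.one_lt_pow two_ne_zero hp1
      omega)
  rw [Subgroup.relIndex_bot_left] at hi1
  haveI := hA1
  have hlt : A1 < K := hA1K.lt_of_ne fun e => by
    rw [← e, hi1] at hKc
    nlinarith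
  obtain ⟨A2, hA2, h12, hA2K, hi2⟩ := Cfsg.Lib.PGroups.exists_normal_relIndex_prime hR hlt
  have hc : Nat.card A2 = p ^ 2 := by
    have := Subgroup.relIndex_mul_relIndex (⊥ : Subgroup R) A1 A2 bot_le h12
    rw [Subgroup.relIndex_bot_left, Subgroup.relIndex_bot_left, hi1, hi2] at this
    rw [← this, sq]
  exact ⟨A2, hA2K.trans (Subgroup.map_subtype_le K₀), hA2, ⟨⟨⟨fun a b => IsPGroup.commutative_of_card_eq_prime_sq hc a b⟩⟩,
    fun x hx => hexp x (hA2K hx)⟩, hc⟩

end Cfsg.Agent.S0636
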