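import Cfsg.Statements.S0638
import Cfsg.Agent.Fusion.Metacyclic
import Cfsg.Agent.SolvStruct.PGroupBasics

set_option autoImplicit false
open Cfsg

namespace Cfsg.Agent.S0638

/-- For odd p, in a non-cyclic metacyclic p-group the elements of order dividing p generate an elementary abelian subgroup of order p². -/
theorem result {R : Type*} [Group R] [Finite R] {p : ℕ} [Fact p.Prime] (hp : p ≠ 2) (hR : IsPGroup p R) (hm : Cfsg.IsMetacyclic R) (hnc : ¬ IsCyclic R) : Cfsg.IsElementaryAbelian p (Cfsg.omegaOne p (⊤ : Subgroup R)) ∧ Nat.card ↥(Cfsg.omegaOne p (⊤ : Subgroup R)) = p ^ 2 := by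
  obtain ⟨A, -, hAe, hAc⟩ := Cfsg.Lib.SolvStruct.exists_normal_elementary_sq hp hR hnc
  obtain ⟨E, hEc, hEp, hall⟩ := Cfsg.Lib.Fusion.exists_small_omega_of_metacyclic hR hp hm
  have hAE : A ≤ E := fun a ha => hall a (hAe.2 a ha)
  have hEA : A = E := Subgroup.eq_of_le_of_card_ge hAE (hAc ▸ hEc)
  have hO : Cfsg.omegaOne p (⊤ : Subgroup R) = A := by
    refine le_antisymm ((Subgroup.closure_le _).2 fun x hx => hEA.ge (hall x hx.2)) fun a ha =>
      Subgroup.subset_closure ⟨Subgroup.mem_top a, hAe.2 a ha⟩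
  rw [hO]
  exact ⟨hAe, hAc⟩

end Cfsg.Agent.S0638
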