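import Cfsg.Statements.S0640
import Cfsg.Agent.OddLocal.SmallAction

set_option autoImplicit false
set_option linter.style.haveILetI false
open Cfsg

namespace Cfsg.Agent.S0640

/-- For odd p, a prime q ≠ p dividing the order of the automorphism group of a p-group of rank at most 2 divides p² - 1 and is less than p. -/
theorem result {R : Type*} [Group R] [Finite R] {p : ℕ} [Fact p.Prime] (hp : p ≠ 2) (hR : IsPGroup p R) (hrk : Cfsg.PRankLE p 2 R) (q : ℕ) (hq : q.Prime) (hqp : q ≠ p) (hdvd : q ∣ Nat.card (MulAut R)) : q ∣ p ^ 2 - 1 ∧ q < p := by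
  haveI : Finite (MulAut R) := Finite.of_injective (fun e => (e : R → R)) DFunLike.coe_injective
  haveI : Fact q.Prime := ⟨hq⟩
  obtain ⟨α, hα⟩ := exists_prime_orderOf_dvd_card' q hdvd
  let G := SemidirectProduct R (MulAut R) (MonoidHom.id _)
  haveI : Finite G := Finite.of_equiv _ SemidirectProduct.equivProd.symm
  let ι : R →* G := SemidirectProduct.inl
  have hι : Function.Injective ι := SemidirectProduct.inl_injective
  set U : Subgroup G := ι.range
  have hUp : IsPGroup p U := hR.of_surjective ι.rangeRestrict ι.rangeRestrict_surjective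
  have hrU : Cfsg.PRankLE p 2 U :=
    Cfsg.Lib.OddP.pRankLE_of_injective (MonoidHom.ofInjective hι).symm.toMonoidHom (MulEquiv.injective _) hrk
  set x : G := SemidirectProduct.inr α
  have hxo : orderOf x = q := by rw [orderOf_injective _ SemidirectProduct.inr_injective, hα]
  have hxq : x ^ q = 1 := by rw [← hxo, pow_orderOf_eq_one]
  have haut : ∀ (β : MulAut R) (r : R), ι (β r) =
      (SemidirectProduct.inr β : G) * ι r * (SemidirectProduct.inr β : G)⁻¹ := fun β r => by
    rw [← map_inv]
    exact SemidirectProduct.inl_aut (φ := MonoidHom.id (MulAut R)) β r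
  have hxN : x ∈ Subgroup.normalizer (U : Set G) := by
    refine Cfsg.Lib.Coprime.mem_normalizer_of_conj_mem ?_ ?_
    · rintro _ ⟨r, rfl⟩
      exact ⟨α r, haut α r⟩
    · rintro _ ⟨r, rfl⟩
      exact ⟨α⁻¹ r, (haut α⁻¹ r).trans (by simp [x])⟩
  have hxC : x ∉ Subgroup.centralizer (U : Set G) := fun h => by
    have hα1 : α = 1 := MulEquiv.ext fun r => hι (by
      have h1 := Subgroup.mem_centralizer_iff.mp h (ι r) ⟨r, rfl⟩
      rw [show ι (α r) = x * ι r * x⁻¹ from haut α r,
        ← h1, mul_inv_cancel_right]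
      rfl)
    rw [hα1, orderOf_one] at hα
    exact hq.ne_one hα.symm
  have h := Cfsg.Lib.OddP.prime_dvd_sq_sub_one hp hUp hrU hxN
    (hxo ▸ (Nat.coprime_primes hq Fact.out).mpr hqp) hq hqp (by rw [hxq]; exact one_mem _) hxC
  refine ⟨h, ?_⟩
  by_cases hq2 : q = 2
  · have := (Fact.out : p.Prime).two_le
    omega
  · exact Cfsg.Lib.OddP.prime_le_of_dvd_sq_sub_one hq hq2 hp h

end Cfsg.Agent.S0640
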