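import Cfsg.Statements.S0641


set_option autoImplicit false
open Cfsg

namespace Cfsg.Agent.S0641

open scoped commutatorElement

/-- Regularity of a p-group passes to quotient groups. -/
theorem result {G : Type*} [Group G] {p : ℕ} [Fact p.Prime] (hG : Cfsg.IsRegularPGroup p G) (N : Subgroup G) [N.Normal] : Cfsg.IsRegularPGroup p (G ⧸ N) := by
  refine ⟨hG.1.to_quotient N, fun a b n => ?_⟩
  induction a using QuotientGroup.induction_on with
  | H a =>
  induction b using QuotientGroup.induction_on with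
  | H b =>
  obtain ⟨c, hc, he⟩ := hG.2 a b n
  refine ⟨QuotientGroup.mk' N c, ?_, by simpa using congrArg (QuotientGroup.mk' N) he⟩
  have h1 : (Subgroup.closure ({a, b} : Set G)).map (QuotientGroup.mk' N) =
      Subgroup.closure ({(a : G ⧸ N), (b : G ⧸ N)} : Set (G ⧸ N)) := by
    rw [MonoidHom.map_closure, Set.image_pair]; rfl
  rw [← h1, ← Subgroup.map_commutator]
  have h2 := Subgroup.mem_map_of_mem (QuotientGroup.mk' N) hc
  unfold Cfsg.powerClosure at h2 ⊢
  rw [MonoidHom.map_closure] at h2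
  refine Subgroup.closure_mono ?_ h2
  rintro _ ⟨y, ⟨x, hx, rfl⟩, rfl⟩
  exact ⟨QuotientGroup.mk' N x, Subgroup.mem_map_of_mem _ hx, map_pow _ _ _⟩

end Cfsg.Agent.S0641
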