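import Cfsg.Statements.S0642
import Cfsg.Agent.PGroups.Basic

set_option autoImplicit false
open Cfsg

namespace Cfsg.Agent.S0642

open scoped commutatorElement

/-- Among finite 2-groups the regular ones are exactly the abelian ones. -/
theorem result {G : Type*} [Group G] [Finite G] (hG : IsPGroup 2 G) : Cfsg.IsRegularPGroup 2 G ↔ ∀ a b : G, a * b = b * a := by
  constructor
  swap
  · intro hc
    refine ⟨hG, fun a b n => ⟨1, one_mem _, ?_⟩⟩
    rw [mul_one, (show Commute a b from hc a b).mul_pow]
  intro hreg a b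
  set H := Subgroup.closure ({a, b} : Set G) with hH
  set D : Subgroup H := commutator H with hD
  have hDmap : D.map H.subtype = ⁅H, H⁆ := Subgroup.map_subtype_commutator H
  have hDp : IsPGroup 2 D := (hG.to_subgroup H).to_subgroup D
  haveI : Fact (Nat.Prime 2) := ⟨Nat.prime_two⟩
  -- the subgroup generated by the squares of the derived group
  set M : Subgroup H := Subgroup.closure {y | ∃ x ∈ D, y = x ^ 2} with hM
  haveI hMn : M.Normal := by
    refine ⟨fun z hz g => ?_⟩
    suffices h : M ≤ M.comap (MulAut.conj g).toMonoidHom from h hz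
    refine (Subgroup.closure_le _).2 ?_
    rintro _ ⟨x, hx, rfl⟩
    refine Subgroup.subset_closure ⟨g * x * g⁻¹, (inferInstance : D.Normal).conj_mem x hx g, ?_⟩
    show g * x ^ 2 * g⁻¹ = _
    rw [conj_pow]
  obtain ⟨c, hc, he⟩ := hreg.2 a b 1
  rw [pow_one] at he
  set a' : H := ⟨a, Subgroup.subset_closure (Or.inl rfl)⟩
  set b' : H := ⟨b, Subgroup.subset_closure (Or.inr rfl)⟩
  have hab : a' * b' * (b' * a')⁻¹ ∈ M := by
    have hcM : c ∈ M.map H.subtype := by
      unfold Cfsg.powerClosure at hc
      rw [hM, MonoidHom.map_closure]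
      refine Subgroup.closure_mono ?_ hc
      rintro _ ⟨x, hx, rfl⟩
      rw [← hDmap] at hx
      obtain ⟨x', hx', rfl⟩ := hx
      exact ⟨x' ^ 2, ⟨x', hx', rfl⟩, by rw [map_pow, pow_one]⟩
    obtain ⟨c', hc', hce⟩ := hcM
    have h1 : (a' * b') ^ 2 = a' ^ 2 * b' ^ 2 * c' := Subtype.ext (by
      push_cast; rw [he]; exact congrArg _ hce.symm)
    have h2 : b' * a' = a' * b' * (b' * c' * b'⁻¹) := by
      rw [pow_two, pow_two, pow_two] at h1
      calc b' * a' = a'⁻¹ * ((a' * b') * (a' * b')) * b'⁻¹ := by group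
        _ = _ := by rw [h1]; group
    have h3 : (a' * b')⁻¹ * (b' * a') ∈ M := by
      rw [h2, inv_mul_cancel_left]
      exact hMn.conj_mem c' hc' b'
    have h4 := hMn.conj_mem _ (inv_mem h3) (a' * b')
    simpa [mul_assoc] using h4
  have hDM : D ≤ M := by
    have hq : ∀ x y : H ⧸ M, x * y = y * x := by
      have htop : Subgroup.closure ({a', b'} : Set H) = ⊤ := by
        rw [eq_top_iff]
        rintro ⟨x, hx⟩ -
        suffices ∀ x (hx : x ∈ H), (⟨x, hx⟩ : H) ∈ Subgroup.closure ({a', b'} : Set H) from this x hx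
        intro x hx
        induction hx using Subgroup.closure_induction with
        | mem w hw => rcases hw with rfl | rfl <;> exact Subgroup.subset_closure (by simp [a', b'])
        | one => exact one_mem _
        | mul u v _ _ ihu ihv => exact mul_mem ihu ihv
        | inv u _ ih => exact inv_mem ih
      have hgen : Subgroup.closure ({(a' : H ⧸ M), (b' : H ⧸ M)} : Set (H ⧸ M)) = ⊤ := by
        have := congrArg (Subgroup.map (QuotientGroup.mk' M)) htop
        rw [MonoidHom.map_closure, Set.image_pair, Subgroup.map_top_of_surjective _ (QuotientGroup.mk'_surjective M)] at this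
        exact this
      haveI : IsMulCommutative (Subgroup.closure ({(a' : H ⧸ M), (b' : H ⧸ M)} : Set (H ⧸ M))) := by
        have e : (a' : H ⧸ M) * b' = b' * a' := by
          rw [← QuotientGroup.mk_mul, ← QuotientGroup.mk_mul, ← mul_inv_eq_one, ← QuotientGroup.mk_inv, ← QuotientGroup.mk_mul,
            QuotientGroup.eq_one_iff]
          exact hab
        refine Subgroup.isMulCommutative_closure ?_
        rintro u (rfl | rfl) v (rfl | rfl)
        exacts [rfl, e, e.symm, rfl]
      intro x y
      exact congrArg Subtype.val (mul_comm' (⟨x, hgen ▸ Subgroup.mem_top x⟩ :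
        Subgroup.closure ({(a' : H ⧸ M), (b' : H ⧸ M)} : Set (H ⧸ M))) ⟨y, hgen ▸ Subgroup.mem_top y⟩)
    rw [hD, commutator_def, Subgroup.commutator_le]
    intro x _ y _
    rw [← QuotientGroup.eq_one_iff, ← QuotientGroup.mk'_apply, map_commutatorElement, commutatorElement_eq_one_iff_mul_comm]
    exact hq _ _
  have hDbot : D = ⊥ := by
    by_contra hne
    haveI : Nontrivial D := (Subgroup.nontrivial_iff_ne_bot _).2 hne
    have hsub : M ≤ (frattini D).map D.subtype := (Subgroup.closure_le _).2 (by
      rintro _ ⟨x, hx, rfl⟩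
      exact ⟨(⟨x, hx⟩ : D) ^ 2, Cfsg.Lib.PGroups.pow_mem_frattini hDp _, by simp⟩)
    obtain ⟨K, hK, -⟩ := (eq_top_or_exists_le_coatom (⊥ : Subgroup D)).resolve_left bot_ne_top
    refine hK.1 (top_le_iff.1 fun x _ => ?_)
    obtain ⟨y, hy, hyx⟩ := hsub (hDM x.2)
    rw [← (Subtype.ext hyx : y = x)]
    exact frattini_le_coatom hK hy
  have h5 : ⁅a', b'⁆ ∈ D := Subgroup.commutator_mem_commutator (Subgroup.mem_top _) (Subgroup.mem_top _)
  rw [hDbot, Subgroup.mem_bot, commutatorElement_eq_one_iff_mul_comm] at h5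
  exact congrArg Subtype.val h5

end Cfsg.Agent.S0642
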