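import Cfsg.Statements.S0643
import Cfsg.Agent.PGroups.Regular


set_option autoImplicit false
open Cfsg

namespace Cfsg.Agent.S0643

/-- Kemhadze's criterion: a finite p-group is regular exactly when (ab)^p = a^p b^p c^p always holds for some c in the derived subgroup of the subgroup generated by a and b. -/
theorem result {G : Type*} [Group G] [Finite G] {p : ℕ} [Fact p.Prime] (hG : IsPGroup p G) : Cfsg.IsRegularPGroup p G ↔ ∀ a b : G, ∃ c ∈ ⁅Subgroup.closure ({a, b} : Set G), Subgroup.closure ({a, b} : Set G)⁆, (a * b) ^ p = a ^ p * b ^ p * c ^ p := by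
  open scoped commutatorElement in
  classical
  constructor
  · intro hreg
    have hp1 : ∀ a : G, a ^ p ^ 1 = a ^ p := fun a => by rw [pow_one]
    have hset : ∀ K : Subgroup G, ∀ y ∈ Cfsg.powerClosure p 1 K, ∃ x ∈ K, y = x ^ p := by
      suffices h : ∀ (m : ℕ) (K : Subgroup G), Nat.card K ≤ m → ∀ y ∈ Cfsg.powerClosure p 1 K, ∃ x ∈ K, y = x ^ p from
        fun K => h _ K le_rfl
      intro m
      induction m with
      | zero => intro K hK; exact absurd hK (Nat.not_le.mpr Nat.card_pos)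
      | succ m ih =>
        intro K hK
        have hprod : ∀ a ∈ K, ∀ b ∈ K, ∃ z ∈ K, a ^ p * b ^ p = z ^ p := by
          intro a ha b hb
          obtain ⟨c, hc, he⟩ := hreg.2 a b 1
          have hXK : Subgroup.closure ({a, b} : Set G) ≤ K :=
            (Subgroup.closure_le _).mpr (Set.insert_subset ha (Set.singleton_subset_iff.mpr hb))
          have hc' : c ∈ Cfsg.powerClosure p 1 ⁅K, K⁆ := by
            refine Subgroup.closure_mono ?_ hc
            rintro _ ⟨d, hd, rfl⟩
            exact ⟨d, Subgroup.commutator_mono hXK hXK hd, rfl⟩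
          by_cases hcom : ∀ x ∈ K, ∀ y ∈ K, x * y = y * x
          · exact ⟨a * b, mul_mem ha hb, ((show Commute a b from hcom a ha b hb).mul_pow p).symm⟩
          have hDK : ⁅K, K⁆ ≤ K := Subgroup.commutator_le.mpr fun x hx y hy => by
            rw [commutatorElement_def]; exact mul_mem (mul_mem (mul_mem hx hy) (inv_mem hx)) (inv_mem hy)
          have hlt : Subgroup.zpowers (a * b) ⊔ ⁅K, K⁆ < K :=
            lt_of_le_of_ne (sup_le (Subgroup.zpowers_le.mpr (mul_mem ha hb)) hDK) fun e => hcom fun x hx y hy => by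
              have h := Cfsg.Lib.PGroups.Regular.eq_of_sup_commutator hreg.1
                (Subgroup.zpowers_le.mpr (mul_mem ha hb)) e
              obtain ⟨i, rfl⟩ := Subgroup.mem_zpowers_iff.mp (h.ge hx)
              obtain ⟨j, rfl⟩ := Subgroup.mem_zpowers_iff.mp (h.ge hy)
              exact (Commute.zpow_zpow_self _ i j).eq
          have hmem : (a * b) ^ p * c⁻¹ ∈ Cfsg.powerClosure p 1 (Subgroup.zpowers (a * b) ⊔ ⁅K, K⁆) := by
            refine mul_mem (Subgroup.subset_closure ⟨a * b, Subgroup.mem_sup_left (Subgroup.mem_zpowers _),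
              (hp1 _).symm⟩) (inv_mem ?_)
            refine Subgroup.closure_mono ?_ hc'
            rintro _ ⟨d, hd, rfl⟩
            exact ⟨d, Subgroup.mem_sup_right hd, rfl⟩
          obtain ⟨z, hz, hze⟩ := ih _ (by have := Cfsg.Lib.PGroups.Regular.card_lt_of_lt hlt; omega) _ hmem
          refine ⟨z, hlt.le hz, ?_⟩
          rw [hp1, hp1, hp1] at he
          rw [← hze, he, mul_inv_cancel_right]
        intro y hy
        unfold Cfsg.powerClosure at hy
        induction hy using Subgroup.closure_induction with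
        | mem y hy =>
          obtain ⟨x, hx, rfl⟩ := hy
          exact ⟨x, hx, hp1 x⟩
        | one => exact ⟨1, one_mem _, (one_pow p).symm⟩
        | mul y y' _ _ e e' =>
          obtain ⟨u, hu, rfl⟩ := e
          obtain ⟨u', hu', rfl⟩ := e'
          exact hprod u hu u' hu'
        | inv y _ e =>
          obtain ⟨u, hu, rfl⟩ := e
          exact ⟨u⁻¹, inv_mem hu, (inv_pow u p).symm⟩
    intro a b
    obtain ⟨c, hc, he⟩ := hreg.2 a b 1
    obtain ⟨d, hd, rfl⟩ := hset _ c hc
    exact ⟨d, hd, by simpa [hp1] using he⟩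
  intro hk
  refine ⟨hG, ?_⟩
  have hp1 : ∀ a : G, a ^ p ^ 1 = a ^ p := fun a => by rw [pow_one]
  have hset : ∀ K : Subgroup G, ∀ y ∈ Cfsg.powerClosure p 1 K, ∃ x ∈ K, y = x ^ p := by
    suffices h : ∀ (m : ℕ) (K : Subgroup G), Nat.card K ≤ m → ∀ a ∈ K, ∀ b ∈ K, ∃ z ∈ K, a ^ p * b ^ p = z ^ p by
      intro K y hy
      unfold Cfsg.powerClosure at hy
      induction hy using Subgroup.closure_induction with
      | mem y hy =>
        obtain ⟨x, hx, rfl⟩ := hy
        exact ⟨x, hx, hp1 x⟩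
      | one => exact ⟨1, one_mem _, (one_pow p).symm⟩
      | mul y y' _ _ e e' =>
        obtain ⟨u, hu, rfl⟩ := e
        obtain ⟨u', hu', rfl⟩ := e'
        exact h _ K le_rfl u hu u' hu'
      | inv y _ e =>
        obtain ⟨u, hu, rfl⟩ := e
        exact ⟨u⁻¹, inv_mem hu, (inv_pow u p).symm⟩
    intro m
    induction m with
    | zero => intro K hK; exact absurd hK (Nat.not_le.mpr Nat.card_pos)
    | succ m ih =>
      intro K hK a ha b hb
      obtain ⟨c, hc, he⟩ := hk a b
      have hXK : Subgroup.closure ({a, b} : Set G) ≤ K :=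
        (Subgroup.closure_le _).mpr (Set.insert_subset ha (Set.singleton_subset_iff.mpr hb))
      have hc' : c ∈ ⁅K, K⁆ := Subgroup.commutator_mono hXK hXK hc
      by_cases hcom : ∀ x ∈ K, ∀ y ∈ K, x * y = y * x
      · exact ⟨a * b, mul_mem ha hb, ((show Commute a b from hcom a ha b hb).mul_pow p).symm⟩
      have hDK : ⁅K, K⁆ ≤ K := Subgroup.commutator_le.mpr fun x hx y hy => by
        rw [commutatorElement_def]; exact mul_mem (mul_mem (mul_mem hx hy) (inv_mem hx)) (inv_mem hy)
      have hlt : Subgroup.zpowers (a * b) ⊔ ⁅K, K⁆ < K :=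
        lt_of_le_of_ne (sup_le (Subgroup.zpowers_le.mpr (mul_mem ha hb)) hDK) fun e => hcom fun x hx y hy => by
          have h := Cfsg.Lib.PGroups.Regular.eq_of_sup_commutator hG (Subgroup.zpowers_le.mpr (mul_mem ha hb)) e
          obtain ⟨i, rfl⟩ := Subgroup.mem_zpowers_iff.mp (h.ge hx)
          obtain ⟨j, rfl⟩ := Subgroup.mem_zpowers_iff.mp (h.ge hy)
          exact (Commute.zpow_zpow_self _ i j).eq
      obtain ⟨z, hz, hze⟩ := ih _ (by have := Cfsg.Lib.PGroups.Regular.card_lt_of_lt hlt; omega)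
        (a * b) (Subgroup.mem_sup_left (Subgroup.mem_zpowers _)) c⁻¹ (Subgroup.mem_sup_right (inv_mem hc'))
      exact ⟨z, hlt.le hz, by rw [← hze, he, inv_pow, mul_inv_cancel_right]⟩
  -- p-th powers commute modulo the p-th powers of the derived group
  have hcm : ∀ X : Subgroup G, ⁅Cfsg.powerClosure p 1 X, Cfsg.powerClosure p 1 X⁆ ≤ Cfsg.powerClosure p 1 ⁅X, X⁆ := by
    intro X
    refine Subgroup.commutator_le.mpr fun u hu v hv => ?_
    obtain ⟨x, hx, rfl⟩ := hset X u hu
    have hvX : v ∈ X := by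
      obtain ⟨w, hw, rfl⟩ := hset X v hv
      exact pow_mem hw p
    set c := x⁻¹ * (v * x * v⁻¹) with hcdef
    have hcD : c ∈ ⁅X, X⁆ := by
      have := Subgroup.commutator_mem_commutator (inv_mem hx) hvX (H₁ := X) (H₂ := X)
      rw [commutatorElement_def, inv_inv] at this
      simpa [hcdef, mul_assoc] using this
    obtain ⟨e, he, hee⟩ := hk x c
    have hle : Subgroup.closure ({x, c} : Set G) ≤ X := (Subgroup.closure_le _).mpr
      (Set.insert_subset hx (Set.singleton_subset_iff.mpr (by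
        show c ∈ X
        exact mul_mem (inv_mem hx) (mul_mem (mul_mem hvX hx) (inv_mem hvX)))))
    have hsub : e ∈ ⁅X, X⁆ := Subgroup.commutator_mono hle hle he
    obtain ⟨d, hd, hde⟩ := hset ⁅X, X⁆ (c ^ p * e ^ p)
      (mul_mem (Subgroup.subset_closure ⟨c, hcD, (hp1 c).symm⟩) (Subgroup.subset_closure ⟨e, hsub, (hp1 e).symm⟩))
    have hnorm : x ^ p * d⁻¹ * (x ^ p)⁻¹ ∈ ⁅X, X⁆ := by
      have hx' : X.map (MulAut.conj (x ^ p)).toMonoidHom = X :=
        Subgroup.mem_normalizer_iff_map_conj_eq.1 (Subgroup.le_normalizer (pow_mem hx p))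
      have hD : (⁅X, X⁆).map (MulAut.conj (x ^ p)).toMonoidHom = ⁅X, X⁆ := by rw [Subgroup.map_commutator, hx']
      exact hD.le ⟨d⁻¹, inv_mem hd, rfl⟩
    refine Subgroup.subset_closure ⟨_, hnorm, ?_⟩
    rw [hp1, commutatorElement_def, conj_pow, inv_pow]
    have hconj : v * x ^ p * v⁻¹ = x ^ p * d ^ p := by
      rw [← conj_pow, show v * x * v⁻¹ = x * c by rw [hcdef, mul_inv_cancel_left], hee, mul_assoc, hde]
    calc x ^ p * v * (x ^ p)⁻¹ * v⁻¹ = x ^ p * (v * x ^ p * v⁻¹)⁻¹ := by group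
      _ = _ := by rw [hconj, mul_inv_rev, ← mul_assoc]
  intro a b n
  induction n generalizing a b with
  | zero => exact ⟨1, one_mem _, by simp⟩
  | succ n ih =>
    set X := Subgroup.closure ({a, b} : Set G) with hX
    have haX : a ∈ X := Subgroup.subset_closure (Set.mem_insert a _)
    have hbX : b ∈ X := Subgroup.subset_closure (Set.mem_insert_of_mem a rfl)
    obtain ⟨c, hc, he⟩ := hk a b
    rw [← hX] at hc
    have hcX : c ∈ X := by
      refine (Subgroup.commutator_le.mpr fun x hx y hy => ?_) hc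
      rw [commutatorElement_def]; exact mul_mem (mul_mem (mul_mem hx hy) (inv_mem hx)) (inv_mem hy)
    obtain ⟨e1, he1, hq1⟩ := ih (a ^ p) (b ^ p * c ^ p)
    obtain ⟨e2, he2, hq2⟩ := ih (b ^ p) (c ^ p)
    have hgen : ∀ y ∈ X, y ^ p ∈ Cfsg.powerClosure p 1 X := fun y hy =>
      Subgroup.subset_closure ⟨y, hy, (hp1 y).symm⟩
    have hlift : ∀ u v : G, u ∈ Cfsg.powerClosure p 1 X → v ∈ Cfsg.powerClosure p 1 X →
        ∀ e ∈ Cfsg.powerClosure p n ⁅Subgroup.closure ({u, v} : Set G), Subgroup.closure ({u, v} : Set G)⁆,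
          e ∈ Cfsg.powerClosure p (n + 1) ⁅X, X⁆ := by
      intro u v hu hv e hee
      have hle : Subgroup.closure ({u, v} : Set G) ≤ Cfsg.powerClosure p 1 X :=
        (Subgroup.closure_le _).mpr (Set.insert_subset hu (Set.singleton_subset_iff.mpr hv))
      refine (Subgroup.closure_le _).mpr ?_ hee
      rintro _ ⟨z, hz, rfl⟩
      obtain ⟨w, hw, rfl⟩ := hset _ z (hcm X (Subgroup.commutator_mono hle hle hz))
      exact Subgroup.subset_closure ⟨w, hw, by rw [← pow_mul, ← pow_succ']⟩
    refine ⟨(c ^ p) ^ p ^ n * e2 * e1, mul_mem (mul_mem (Subgroup.subset_closure ⟨c, hc,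
      by rw [← pow_mul, ← pow_succ']⟩) (hlift _ _ (hgen b hbX) (hgen c hcX) e2 he2))
      (hlift _ _ (hgen a haX) (mul_mem (hgen b hbX) (hgen c hcX)) e1 he1), ?_⟩
    rw [pow_succ', pow_mul, pow_mul, pow_mul, he, mul_assoc (a ^ p), hq1, hq2]
    simp [mul_assoc]


end Cfsg.Agent.S0643
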