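import Cfsg.Statements.S0644
import Cfsg.Agent.PGroups.Regular


set_option autoImplicit false
open Cfsg

namespace Cfsg.Agent.S0644

/-- In a regular p-group the p^n-th powers of the elements of any subgroup H form a subgroup, whose derived subgroup is contained in the subgroup generated by the p^n-th powers of elements of the derived subgroup of H. -/
theorem result {G : Type*} [Group G] [Finite G] {p : ℕ} [Fact p.Prime] (hG : Cfsg.IsRegularPGroup p G) (H : Subgroup G) (n : ℕ) : {y : G | ∃ x ∈ H, y = x ^ (p ^ n)} = (Cfsg.powerClosure p n H : Set G) ∧ ⁅Cfsg.powerClosure p n H, Cfsg.powerClosure p n H⁆ ≤ Cfsg.powerClosure p n ⁅H, H⁆ := by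
  open scoped commutatorElement in
  classical
  set q := p ^ n
  have hprod : ∀ (m : ℕ) (K : Subgroup G), Nat.card K ≤ m → ∀ a ∈ K, ∀ b ∈ K, ∃ z ∈ K, a ^ q * b ^ q = z ^ q := by
    intro m
    induction m with
    | zero => intro K hK; exact absurd hK (Nat.not_le.mpr Nat.card_pos)
    | succ m ih =>
      intro K hK a ha b hb
      set X := Subgroup.closure ({a, b} : Set G) with hX
      have hXK : X ≤ K := (Subgroup.closure_le _).mpr (Set.insert_subset ha (Set.singleton_subset_iff.mpr hb))
      by_cases hlt : X < K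
      · obtain ⟨z, hz, he⟩ := ih X (by have := Cfsg.Lib.PGroups.Regular.card_lt_of_lt hlt; omega) a
          (Subgroup.subset_closure (Set.mem_insert a _)) b (Subgroup.subset_closure (Set.mem_insert_of_mem a rfl))
        exact ⟨z, hXK hz, he⟩
      have hXeq : X = K := hXK.lt_or_eq.resolve_left hlt
      by_cases hcyc : Subgroup.zpowers (a * b) = K
      · refine ⟨a * b, mul_mem ha hb, ?_⟩
        obtain ⟨i, hi⟩ := Subgroup.mem_zpowers_iff.mp (hcyc.ge ha)
        obtain ⟨j, hj⟩ := Subgroup.mem_zpowers_iff.mp (hcyc.ge hb)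
        have hcom : Commute a b := by
          have h := Commute.zpow_zpow_self (a * b) i j
          rwa [hi, hj] at h
        rw [hcom.mul_pow]
      obtain ⟨c, hc, he⟩ := hG.2 a b n
      rw [← hX, hXeq] at hc
      set D := ⁅K, K⁆
      have hDK : D ≤ K := Subgroup.commutator_le.mpr fun x hx y hy => by
        rw [commutatorElement_def]; exact mul_mem (mul_mem (mul_mem hx hy) (inv_mem hx)) (inv_mem hy)
      have hlt' : Subgroup.zpowers (a * b) ⊔ D < K :=
        lt_of_le_of_ne (sup_le (Subgroup.zpowers_le.mpr (mul_mem ha hb)) hDK) fun e =>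
          hcyc (Cfsg.Lib.PGroups.Regular.eq_of_sup_commutator hG.1 (Subgroup.zpowers_le.mpr (mul_mem ha hb)) e)
      have hsmall := ih _ (by have := Cfsg.Lib.PGroups.Regular.card_lt_of_lt hlt'; omega :
        Nat.card (Subgroup.zpowers (a * b) ⊔ D : Subgroup G) ≤ m)
      obtain ⟨d, hd, hdc⟩ : ∃ d ∈ D, c = d ^ q := by
        have hDlt : Nat.card D ≤ m := by
          have := Cfsg.Lib.PGroups.Regular.card_lt_of_lt (lt_of_le_of_lt le_sup_right hlt')
          omega
        unfold Cfsg.powerClosure at hc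
        clear he
        induction hc using Subgroup.closure_induction with
        | mem y hy => exact hy
        | one => exact ⟨1, one_mem _, (one_pow q).symm⟩
        | mul y y' _ _ e e' =>
          obtain ⟨u, hu, rfl⟩ := e
          obtain ⟨u', hu', rfl⟩ := e'
          exact ih D hDlt u hu u' hu'
        | inv y _ e =>
          obtain ⟨u, hu, rfl⟩ := e
          exact ⟨u⁻¹, inv_mem hu, (inv_pow u q).symm⟩
      obtain ⟨z, hz, hze⟩ := hsmall (a * b) (Subgroup.mem_sup_left (Subgroup.mem_zpowers _)) d⁻¹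
        (Subgroup.mem_sup_right (inv_mem hd))
      refine ⟨z, hlt'.le hz, ?_⟩
      rw [← hze, he, hdc, inv_pow, mul_inv_cancel_right]
  have hset : ∀ K : Subgroup G, ∀ y ∈ Cfsg.powerClosure p n K, ∃ x ∈ K, y = x ^ q := by
    intro K y hy
    unfold Cfsg.powerClosure at hy
    induction hy using Subgroup.closure_induction with
    | mem y hy => exact hy
    | one => exact ⟨1, one_mem _, (one_pow q).symm⟩
    | mul y y' _ _ e e' =>
      obtain ⟨u, hu, rfl⟩ := e
      obtain ⟨u', hu', rfl⟩ := e'
      exact hprod _ K le_rfl u hu u' hu'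
    | inv y _ e =>
      obtain ⟨u, hu, rfl⟩ := e
      exact ⟨u⁻¹, inv_mem hu, (inv_pow u q).symm⟩
  refine ⟨?_, Subgroup.commutator_le.mpr fun u hu v hv => ?_⟩
  · ext y
    exact ⟨fun hy => Subgroup.subset_closure hy, hset H y⟩
  obtain ⟨x, hx, rfl⟩ := hset H u hu
  have hvH : v ∈ H := by
    obtain ⟨w, hw, rfl⟩ := hset H v hv
    exact pow_mem hw q
  set D := ⁅H, H⁆
  set c := x⁻¹ * (v * x * v⁻¹) with hcdef
  have hcD : c ∈ D := by
    have := Subgroup.commutator_mem_commutator (inv_mem hx) hvH (H₁ := H) (H₂ := H)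
    rw [commutatorElement_def, inv_inv] at this
    simpa [hcdef, mul_assoc] using this
  obtain ⟨e, he, hee⟩ := hG.2 x c n
  have hdn : ∀ d ∈ D, x * d * x⁻¹ ∈ D := fun d hd => by
    have hmap : D.map (MulAut.conj x).toMonoidHom = D := by
      show (⁅H, H⁆).map _ = _
      have hx' : H.map (MulAut.conj x).toMonoidHom = H :=
        Subgroup.mem_normalizer_iff_map_conj_eq.1 (Subgroup.le_normalizer hx)
      rw [Subgroup.map_commutator, hx']
    exact hmap.le ⟨d, hd, rfl⟩
  have hsub : e ∈ Cfsg.powerClosure p n D := by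
    refine Subgroup.closure_mono ?_ he
    rintro _ ⟨d, hd, rfl⟩
    refine ⟨d, ?_, rfl⟩
    have hle : Subgroup.closure ({x, c} : Set G) ≤ H := (Subgroup.closure_le _).mpr
      (Set.insert_subset hx (Set.singleton_subset_iff.mpr (by
        show c ∈ H
        exact mul_mem (inv_mem hx) (mul_mem (mul_mem hvH hx) (inv_mem hvH)))))
    exact Subgroup.commutator_mono hle hle hd
  have hw : c ^ q * e ∈ Cfsg.powerClosure p n D :=
    mul_mem (Subgroup.subset_closure ⟨c, hcD, rfl⟩) hsub
  obtain ⟨d, hd, hde⟩ := hset D _ hw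
  have hd' : ((x ^ q) * d⁻¹ * (x ^ q)⁻¹) ∈ D := by
    have hpow : ∀ k : ℕ, ∀ d ∈ D, x ^ k * d * (x ^ k)⁻¹ ∈ D := by
      intro k
      induction k with
      | zero => intro d hd; simpa using hd
      | succ k ih =>
        intro d hd
        have := hdn _ (ih d hd)
        simpa [pow_succ', mul_assoc] using this
    exact hpow q _ (inv_mem hd)
  refine Subgroup.subset_closure ⟨_, hd', ?_⟩
  have hconj : v * x ^ q * v⁻¹ = x ^ q * d ^ q := by
    rw [← conj_pow, show v * x * v⁻¹ = x * c by rw [hcdef, mul_inv_cancel_left], hee, mul_assoc, hde]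
  rw [commutatorElement_def, conj_pow, inv_pow]
  calc x ^ q * v * (x ^ q)⁻¹ * v⁻¹ = x ^ q * (v * x ^ q * v⁻¹)⁻¹ := by group
    _ = _ := by rw [hconj, mul_inv_rev, ← mul_assoc]


end Cfsg.Agent.S0644
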