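import Cfsg.Statements.S0645
import Cfsg.Agent.Frobenius.UniqueSubgroup
import Cfsg.Agent.PGroups.Basic

set_option autoImplicit false
open Cfsg

namespace Cfsg.Agent.S0645

/-- Classification of p-groups with a cyclic maximal subgroup, odd p: a non-abelian one of order p^n has generators a of order p^(n-1) and b of order p, b outside the cyclic subgroup generated by a, with b a b⁻¹ = a^(1 + p^(n-2)). -/
theorem result {G : Type*} [Group G] [Finite G] {p : ℕ} [Fact p.Prime] (hp : p ≠ 2) (n : ℕ) (hn : 3 ≤ n) (hG : Nat.card G = p ^ n) (C : Subgroup G) (hC : IsCyclic C) (hCi : C.index = p) (hna : ∃ x y : G, x * y ≠ y * x) : ∃ a b : G, orderOf a = p ^ (n - 1) ∧ orderOf b = p ∧ b ∉ Subgroup.zpowers a ∧ b * a * b⁻¹ = a ^ (1 + p ^ (n - 2)) := by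
  have hpp : p.Prime := Fact.out
  have hP : IsPGroup p G := IsPGroup.of_card hG
  obtain ⟨m, rfl⟩ : ∃ m, n = m + 3 := ⟨n - 3, by omega⟩
  simp only [show m + 3 - 1 = m + 2 by omega, show m + 3 - 2 = m + 1 by omega]
  have hCcoatom : IsCoatom C := by
    refine ⟨fun e => ?_, fun K hK => ?_⟩
    · rw [e, Subgroup.index_top] at hCi; exact hpp.ne_one hCi.symm
    · have h1 := Subgroup.index_dvd_of_le hK.le
      rw [hCi] at h1
      rcases (Nat.dvd_prime hpp).1 h1 with h | h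
      · exact Subgroup.index_eq_one.1 h
      · exfalso
        have h2 := C.card_mul_index
        rw [hCi, ← K.card_mul_index, h] at h2
        exact hK.ne (Subgroup.eq_of_le_of_card_ge hK.le (Nat.eq_of_mul_eq_mul_right hpp.pos h2).ge)
  haveI hCn : C.Normal := (Cfsg.Lib.PGroups.coatom_normal_index hP hCcoatom).1
  obtain ⟨⟨a, haC⟩, hgen⟩ := hC.exists_generator
  have hCa : Subgroup.zpowers a = C := by
    refine le_antisymm (Subgroup.zpowers_le.2 haC) fun y hy => ?_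
    obtain ⟨i, hi⟩ := Subgroup.mem_zpowers_iff.1 (hgen ⟨y, hy⟩)
    exact ⟨i, by simpa using congrArg Subtype.val hi⟩
  have ha : orderOf a = p ^ (m + 2) := by
    rw [← Nat.card_zpowers, hCa]
    have h1 := C.card_mul_index
    rw [hCi, hG, pow_succ] at h1
    exact Nat.eq_of_mul_eq_mul_right hpp.pos h1
  have hone : ∀ z : ℤ, a ^ z = 1 ↔ ((p : ℤ) ^ (m + 2)) ∣ z := fun z => by
    rw [← orderOf_dvd_iff_zpow_eq_one, ha, Nat.cast_pow]
  have heq : ∀ x y : ℤ, (p : ℤ) ^ (m + 2) ∣ x - y → a ^ x = a ^ y := fun x y h => by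
    rw [← mul_inv_eq_one, ← zpow_sub, hone]; exact h
  obtain ⟨b, hb⟩ : ∃ b : G, b ∉ C := by
    by_contra h
    push Not at h
    exact hCcoatom.1 ((Subgroup.eq_top_iff' C).2 h)
  obtain ⟨r, hr⟩ := Subgroup.mem_zpowers_iff.1 (hCa ▸ hCn.conj_mem a haC b : b * a * b⁻¹ ∈ Subgroup.zpowers a)
  obtain ⟨s, hs⟩ := Subgroup.mem_zpowers_iff.1 (show b ^ p ∈ Subgroup.zpowers a by rw [hCa]; exact hCi ▸ Subgroup.pow_index_mem C b)
  have hconj : ∀ (c : G) (t : ℤ), c * a * c⁻¹ = a ^ t → ∀ z : ℤ, c * a ^ z * c⁻¹ = a ^ (t * z) := fun c t hc z => by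
    rw [← conj_zpow, hc, zpow_mul]
  have hiter : ∀ (c : G) (t : ℤ), c * a * c⁻¹ = a ^ t → ∀ j : ℕ, c ^ j * a * (c ^ j)⁻¹ = a ^ (t ^ j) := fun c t hc j => by
    induction j with
    | zero => simp
    | succ j ih =>
      calc c ^ (j + 1) * a * (c ^ (j + 1))⁻¹ = c * (c ^ j * a * (c ^ j)⁻¹) * c⁻¹ := by rw [pow_succ']; group
        _ = a ^ (t ^ (j + 1)) := by rw [ih, hconj c t hc, pow_succ']
  have hr1 : ¬ (p : ℤ) ^ (m + 2) ∣ r - 1 := by
    intro h
    have hab : b * a = a * b := by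
      rw [← mul_inv_eq_iff_eq_mul, ← hr, heq r 1 h, zpow_one]
    obtain ⟨x, y, hxy⟩ := hna
    refine hxy ?_
    have hall : ∀ g : G, g ∈ Subgroup.closure ({a, b} : Set G) := by
      intro g
      have : Subgroup.closure ({a, b} : Set G) = ⊤ := hCcoatom.2 _ (lt_of_le_of_ne (by
        rw [← hCa]; exact Subgroup.zpowers_le.2 (Subgroup.subset_closure (Or.inl rfl)))
        fun e => hb (e ▸ Subgroup.subset_closure (Or.inr rfl)))
      rw [this]; exact Subgroup.mem_top g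
    haveI hcm : IsMulCommutative (Subgroup.closure ({a, b} : Set G)) := Subgroup.isMulCommutative_closure (by
      rintro u (rfl | rfl) v (rfl | rfl) <;> first | rfl | exact hab | exact hab.symm)
    exact congrArg Subtype.val (hcm.is_comm.comm ⟨x, hall x⟩ ⟨y, hall y⟩)
  have hkp : (p : ℤ) ^ (m + 2) ∣ r ^ p - 1 := by
    rw [← hone, zpow_sub, zpow_one, ← hiter b r hr.symm p, ← hs, mul_inv_eq_one]
    group
  have hmod : (p : ℤ) ∣ r - 1 := by
    have h1 : (p : ℤ) ∣ r ^ p - 1 := (dvd_pow_self _ (by omega)).trans hkp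
    rw [← ZMod.intCast_zmod_eq_zero_iff_dvd] at h1 ⊢
    push_cast at h1 ⊢
    rwa [ZMod.pow_card] at h1
  obtain ⟨c, hc⟩ := Cfsg.Lib.UniqueSub.geom_sum_sq_congr hmod hp
  have hS : (∑ i ∈ Finset.range p, r ^ i) = p * (1 + p * c) := by linear_combination hc
  have hpZ : Prime (p : ℤ) := Nat.prime_iff_prime_int.mp hpp
  have hu : ∀ l : ℕ, IsCoprime ((p : ℤ) ^ l) (1 + p * c) := fun l => IsCoprime.pow_left ⟨-c, 1, by ring⟩
  obtain ⟨k, hk⟩ : (p : ℤ) ^ (m + 1) ∣ r - 1 := by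
    rw [← geom_sum_mul, hS, pow_succ', mul_assoc] at hkp
    exact (hu _).dvd_of_dvd_mul_left ((mul_dvd_mul_iff_left hpZ.ne_zero).1 hkp)
  have hkn : ¬ (p : ℤ) ∣ k := fun ⟨e, he⟩ => hr1 ⟨e, by rw [hk, he, pow_succ (p : ℤ) (m + 1)]; ring⟩
  obtain ⟨s', hs'⟩ : (p : ℤ) ∣ s := by
    have h := hconj b r hr.symm s
    rw [hs, show b * b ^ p * b⁻¹ = b ^ p by group, ← hs] at h
    have h2 : (p : ℤ) ^ (m + 2) ∣ s * (r - 1) := by
      rw [show s * (r - 1) = r * s - s by ring, ← hone, zpow_sub, ← h, mul_inv_cancel]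
    rw [hk, show (p : ℤ) ^ (m + 2) = p ^ (m + 1) * p by rw [pow_succ], show s * ((p : ℤ) ^ (m + 1) * k) = p ^ (m + 1) * (s * k) by ring] at h2
    exact (hpZ.dvd_or_dvd ((mul_dvd_mul_iff_left (pow_ne_zero _ hpZ.ne_zero)).1 h2)).resolve_right hkn
  obtain ⟨u, v, huv⟩ := hu (m + 1)
  set x : ℤ := -s' * v with hx
  have hpow : ∀ j : ℕ, (a ^ x * b) ^ j = a ^ (x * ∑ l ∈ Finset.range j, r ^ l) * b ^ j := fun j => by
    induction j with
    | zero => simp
    | succ j ih =>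
      rw [pow_succ', ih, geom_sum_succ, pow_succ' b,
        show a ^ x * b * (a ^ (x * ∑ l ∈ Finset.range j, r ^ l) * b ^ j) =
          a ^ x * (b * a ^ (x * ∑ l ∈ Finset.range j, r ^ l) * b⁻¹) * (b * b ^ j) by group,
        hconj b r hr.symm, ← zpow_add]
      congr 2
      ring
  set b₁ := a ^ x * b with hb₁
  have hb1p : b₁ ^ p = 1 := by
    rw [hpow, ← hs, ← zpow_add, hone, hS, hs', hx]
    exact ⟨s' * u, by rw [pow_succ (p : ℤ) (m + 1)]; linear_combination (-(p : ℤ) * s') * huv⟩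
  have hb1C : b₁ ∉ C := fun h => hb (by
    have := mul_mem (zpow_mem haC (-x)) h
    rwa [hb₁, ← mul_assoc, ← zpow_add, neg_add_cancel, zpow_zero, one_mul] at this)
  have hb1conj : b₁ * a * b₁⁻¹ = a ^ r := by
    rw [hb₁, show a ^ x * b * a * (a ^ x * b)⁻¹ = a ^ x * (b * a * b⁻¹) * (a ^ x)⁻¹ by group, ← hr, ← zpow_neg, ← zpow_add, ← zpow_add]
    congr 1
    ring
  -- raise to the power inverting `k` modulo `p`
  haveI : NeZero p := ⟨hpp.ne_zero⟩
  obtain ⟨j, hj⟩ : ∃ j : ℕ, (p : ℤ) ∣ (j : ℤ) * k - 1 := by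
    refine ⟨((k : ZMod p)⁻¹).val, ?_⟩
    rw [← ZMod.intCast_zmod_eq_zero_iff_dvd]
    push_cast
    rw [ZMod.natCast_zmod_val, inv_mul_cancel₀ (by rwa [Ne, ZMod.intCast_zmod_eq_zero_iff_dvd]), sub_self]
  have hrj : ∀ l : ℕ, (p : ℤ) ^ (m + 2) ∣ r ^ l - (1 + l * k * p ^ (m + 1)) := by
    intro l
    induction l with
    | zero => simp
    | succ l ih =>
      obtain ⟨w, hw⟩ := ih
      refine ⟨w * r + l * k * k * p ^ m, ?_⟩
      have h2 : r ^ l = (p : ℤ) ^ (m + 2) * w + (1 + l * k * p ^ (m + 1)) := by linarith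
      rw [pow_succ, h2, show r = 1 + (p : ℤ) ^ (m + 1) * k by linarith]
      push_cast
      ring
  refine ⟨a, b₁ ^ j, ha, ?_, ?_, ?_⟩
  · refine orderOf_eq_prime (by rw [← pow_mul, mul_comm, pow_mul, hb1p, one_pow]) fun h => ?_
    have h1 : orderOf b₁ = p := orderOf_eq_prime hb1p fun e => hb1C (e ▸ one_mem C)
    have h2 : (p : ℤ) ∣ (j : ℤ) := Int.natCast_dvd_natCast.2 (h1 ▸ orderOf_dvd_of_pow_eq_one h)
    exact hpZ.not_dvd_one (by simpa using dvd_sub (h2.mul_right k) hj)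
  · intro h
    rw [hCa] at h
    refine hb1C ?_
    have h1 : orderOf b₁ = p := orderOf_eq_prime hb1p fun e => hb1C (e ▸ one_mem C)
    have hco : Nat.Coprime j (orderOf b₁) := by
      rw [h1, Nat.coprime_comm, hpp.coprime_iff_not_dvd]
      intro hd
      exact hpZ.not_dvd_one (by simpa using dvd_sub ((Int.natCast_dvd_natCast.2 hd).mul_right k) hj)
    obtain ⟨l, hl⟩ := exists_pow_eq_self_of_coprime hco
    exact hl ▸ pow_mem h l
  · rw [hiter b₁ r hb1conj, ← zpow_natCast a]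
    refine heq _ _ ?_
    obtain ⟨w, hw⟩ := hrj j
    obtain ⟨e, he⟩ := hj
    exact ⟨w + e, by push_cast; rw [pow_succ (p : ℤ) (m + 1)] at hw ⊢; linear_combination hw + (p : ℤ) ^ (m + 1) * he⟩

end Cfsg.Agent.S0645
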