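import Cfsg.Statements.S0647


set_option autoImplicit false
open Cfsg

namespace Cfsg.Agent.S0647

/-- For a nonempty family of maximal abelian subgroups of a finite group, the intersection of the family is the centre of the subgroup it generates, which is also the full centralizer of that subgroup. -/
theorem result {S : Type*} [Group S] [Finite S] (𝒜 : Set (Subgroup S)) (hne : 𝒜.Nonempty) (hab : ∀ A ∈ 𝒜, IsMulCommutative A) (hmax : ∀ A ∈ 𝒜, ∀ B : Subgroup S, IsMulCommutative B → A ≤ B → B = A) : sInf 𝒜 = sSup 𝒜 ⊓ Subgroup.centralizer ((sSup 𝒜 : Subgroup S) : Set S) ∧ sInf 𝒜 = Subgroup.centralizer ((sSup 𝒜 : Subgroup S) : Set S) := by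
  have key : sInf 𝒜 = Subgroup.centralizer ((sSup 𝒜 : Subgroup S) : Set S) := by
    refine le_antisymm ?_ (le_sInf fun A hA x hx => ?_)
    · rw [Subgroup.le_centralizer_iff]
      refine sSup_le fun A hA x hx => Subgroup.mem_centralizer_iff.2 fun y hy => ?_
      exact congrArg Subtype.val ((hab A hA).is_comm.comm (⟨y, sInf_le hA hy⟩ : A) ⟨x, hx⟩)
    · have hB : IsMulCommutative (Subgroup.closure ((A : Set S) ∪ {x})) := by
        refine Subgroup.isMulCommutative_closure ?_
        have hc : ∀ a ∈ A, a * x = x * a := fun a ha => Subgroup.mem_centralizer_iff.1 hx a (le_sSup hA ha)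
        rintro a (ha | rfl) b (hb | rfl)
        exacts [congrArg Subtype.val ((hab A hA).is_comm.comm (⟨a, ha⟩ : A) ⟨b, hb⟩), hc a ha, (hc b hb).symm, rfl]
      rw [← hmax A hA _ hB ((Set.subset_union_left).trans Subgroup.subset_closure)]
      exact Subgroup.subset_closure (Or.inr rfl)
  refine ⟨?_, key⟩
  obtain ⟨A, hA⟩ := hne
  exact le_antisymm (le_inf ((sInf_le hA).trans (le_sSup hA)) key.le) (inf_le_right.trans key.ge)

end Cfsg.Agent.S0647
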