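import Cfsg.Statements.S0648


set_option autoImplicit false
open Cfsg
open scoped commutatorElement

namespace Cfsg.Agent.S0648

/-- If A acts on B centralizing [B, B], then [B, A] has derived subgroup central in B, and for abelian A and b ∈ B with [[b, A], A, A] = 1 the derived subgroup of the subgroup [b, A] generated by the commutators of b with A has exponent dividing 2. -/
theorem result {G : Type*} [Group G] [Finite G] (A B : Subgroup G) (hAB : A ≤ Subgroup.normalizer (B : Set G)) (hc : ⁅⁅B, B⁆, A⁆ = ⊥) : ⁅⁅B, A⁆, ⁅B, A⁆⁆ ≤ B ⊓ Subgroup.centralizer (B : Set G) ∧ (IsMulCommutative A → ∀ b ∈ B, ⁅⁅(Subgroup.closure {g : G | ∃ a ∈ A, g = b⁻¹ * a * b * a⁻¹}), A⁆, A⁆ = ⊥ → ∀ w ∈ ⁅(Subgroup.closure {g : G | ∃ a ∈ A, g = b⁻¹ * a * b * a⁻¹}), (Subgroup.closure {g : G | ∃ a ∈ A, g = b⁻¹ * a * b * a⁻¹})⁆, w ^ 2 = 1) := by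
  classical
  have hn : ∀ a ∈ A, ∀ x ∈ B, a * x * a⁻¹ ∈ B := fun a ha x hx =>
    (Subgroup.mem_normalizer_iff.1 (hAB ha) x).1 hx
  have hza : ∀ z ∈ ⁅B, B⁆, ∀ a ∈ A, Commute z a := fun z hz a ha =>
    commutatorElement_eq_one_iff_mul_comm.1 (by
      rw [← Subgroup.mem_bot, ← hc]; exact Subgroup.commutator_mem_commutator hz ha)
  have hXB : ⁅B, A⁆ ≤ B := Subgroup.commutator_le.2 fun x hx a ha => by
    rw [commutatorElement_def, show x * a * x⁻¹ * a⁻¹ = x * (a * x⁻¹ * a⁻¹) by group]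
    exact B.mul_mem hx (hn a ha _ (B.inv_mem hx))
  have hBB : ⁅B, B⁆ ≤ B := Subgroup.commutator_le.2 fun x hx y hy => by
    rw [commutatorElement_def]
    exact B.mul_mem (B.mul_mem (B.mul_mem hx hy) (B.inv_mem hx)) (B.inv_mem hy)
  have hconj : ∀ z ∈ ⁅B, B⁆, ∀ x ∈ B, x * z * x⁻¹ ∈ ⁅B, B⁆ := fun z hz x hx => by
    rw [show x * z * x⁻¹ = ⁅x, z⁆ * z by simp [commutatorElement_def]]
    exact Subgroup.mul_mem _ (Subgroup.commutator_mem_commutator hx (hBB hz)) hz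
  have hXz : ⁅B, A⁆ ≤ Subgroup.centralizer ((⁅B, B⁆ : Subgroup G) : Set G) := by
    refine Subgroup.commutator_le.2 fun x hx a ha => Subgroup.mem_centralizer_iff.2 fun z hz => ?_
    have h1 : Commute z a := hza z hz a ha
    have h2 : Commute (x⁻¹ * z * x) a :=
      hza _ (by simpa using hconj z hz x⁻¹ (B.inv_mem hx)) a ha
    rw [commutatorElement_def]
    calc z * (x * a * x⁻¹ * a⁻¹) = x * ((x⁻¹ * z * x) * a) * x⁻¹ * a⁻¹ := by group
      _ = x * (a * (x⁻¹ * z * x)) * x⁻¹ * a⁻¹ := by rw [h2.eq]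
      _ = x * a * x⁻¹ * (z * a⁻¹) := by group
      _ = x * a * x⁻¹ * (a⁻¹ * z) := by rw [h1.inv_right.eq]
      _ = _ := by group
  have hXc : ⁅⁅B, A⁆, ⁅B, A⁆⁆ ≤ B ⊓ Subgroup.centralizer (B : Set G) := by
    refine le_inf ((Subgroup.commutator_mono hXB hXB).trans hBB) ?_
    rw [← Subgroup.commutator_eq_bot_iff_le_centralizer]
    have h1 : ⁅⁅⁅B, A⁆, B⁆, ⁅B, A⁆⁆ = ⊥ := by
      rw [Subgroup.commutator_eq_bot_iff_le_centralizer]
      intro u hu
      rw [Subgroup.mem_centralizer_iff]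
      intro v hv
      exact (Subgroup.mem_centralizer_iff.1 (hXz hv) u
        ((Subgroup.commutator_mono hXB le_rfl) hu)).symm
    refine Subgroup.commutator_commutator_eq_bot_of_rotate h1 ?_
    rw [Subgroup.commutator_comm B ⁅B, A⁆]
    exact h1
  refine ⟨hXc, fun hA b hb hbA => ?_⟩
  have hAc : ∀ x ∈ A, ∀ y ∈ A, x * y = y * x := fun x hx y hy =>
    congrArg Subtype.val (Std.Commutative.comm (op := (· * · : A → A → A)) ⟨x, hx⟩ ⟨y, hy⟩)
  set H := Subgroup.closure {g : G | ∃ a ∈ A, g = b⁻¹ * a * b * a⁻¹} with hH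
  let c : G → G := fun a => b⁻¹ * a * b * a⁻¹
  have hcH : ∀ a ∈ A, c a ∈ H := fun a ha => Subgroup.subset_closure ⟨a, ha, rfl⟩
  have hHX : H ≤ ⁅B, A⁆ := by
    rw [hH, Subgroup.closure_le]
    rintro _ ⟨a, ha, rfl⟩
    simpa [commutatorElement_def] using
      Subgroup.commutator_mem_commutator (B.inv_mem hb) ha
  have hHB : H ≤ B := hHX.trans hXB
  have hzH : ∀ z ∈ ⁅B, B⁆, ∀ x ∈ H, Commute z x := fun z hz x hx =>
    Subgroup.mem_centralizer_iff.1 (hXz (hHX hx)) z hz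
  let e : G → G → G := fun a a' => ⁅a, c a'⁆
  have hprod : ∀ a ∈ A, ∀ a' ∈ A, c (a * a') = c a * (a * c a' * a⁻¹) := fun a _ a' _ => by
    simp only [c]; group
  have heH : ∀ a ∈ A, ∀ a' ∈ A, e a a' ∈ H := fun a ha a' ha' => by
    have : e a a' = (c a)⁻¹ * c (a * a') * (c a')⁻¹ := by
      rw [hprod a ha a' ha']
      simp only [e, commutatorElement_def]; group
    rw [this]
    exact H.mul_mem (H.mul_mem (H.inv_mem (hcH a ha)) (hcH _ (A.mul_mem ha ha')))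
      (H.inv_mem (hcH a' ha'))
  have heA : ∀ a ∈ A, ∀ a' ∈ A, ∀ a'' ∈ A, Commute (e a a') a'' := fun a ha a' ha' a'' ha'' =>
    commutatorElement_eq_one_iff_mul_comm.1 (by
      rw [← Subgroup.mem_bot, ← hbA]
      refine Subgroup.commutator_mem_commutator ?_ ha''
      rw [Subgroup.commutator_comm]
      exact Subgroup.commutator_mem_commutator ha (hcH a' ha'))
  -- the commutators with `A` are central in `H`
  have hec : ∀ a ∈ A, ∀ a' ∈ A, ∀ y ∈ A, Commute (e a a') (c y) := by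
    intro a ha a' ha' y hy
    set f := e a a'
    have hf : f ∈ B := hHB (heH a ha a' ha')
    have hz : ⁅f, b⁻¹⁆ ∈ ⁅B, B⁆ := Subgroup.commutator_mem_commutator hf (B.inv_mem hb)
    have h1 := heA a ha a' ha' y hy
    have h2 := hzH _ hz _ (hcH y hy)
    have h3 := hza _ hz y hy
    show f * c y = c y * f
    calc f * c y = ⁅f, b⁻¹⁆ * b⁻¹ * (f * y * f⁻¹) * b * ((b⁻¹ * f * b) * y⁻¹) := by
          simp only [c, commutatorElement_def]; group
      _ = ⁅f, b⁻¹⁆ * b⁻¹ * y * b * ((⁅f, b⁻¹⁆⁻¹ * f) * y⁻¹) := by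
          rw [h1.eq, mul_inv_cancel_right]; simp only [commutatorElement_def]; group
      _ = ⁅f, b⁻¹⁆ * b⁻¹ * y * b * (⁅f, b⁻¹⁆⁻¹ * (y⁻¹ * f)) := by
          rw [mul_assoc _ f, h1.inv_right.eq]
      _ = ⁅f, b⁻¹⁆ * b⁻¹ * y * b * (y⁻¹ * ⁅f, b⁻¹⁆⁻¹ * f) := by
          rw [← mul_assoc (⁅f, b⁻¹⁆⁻¹) y⁻¹ f, h3.inv_inv.eq]
      _ = ⁅f, b⁻¹⁆ * c y * ⁅f, b⁻¹⁆⁻¹ * f := by simp only [c]; group
      _ = c y * f := by rw [h2.eq, mul_inv_cancel_right]
  have key : ∀ a ∈ A, ∀ a' ∈ A, ⁅c a, c a'⁆ ^ 2 = 1 := by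
    intro a ha a' ha'
    have hw : ∀ x ∈ A, ∀ y ∈ A, b⁻¹ * e x y * b = e x y * ⁅c x, c y⁆ := by
      intro x hx y hy
      have hz : ⁅b⁻¹, c y⁆ ∈ ⁅B, B⁆ :=
        Subgroup.commutator_mem_commutator (B.inv_mem hb) (hHB (hcH y hy))
      have hzc : Commute ⁅b⁻¹, c y⁆ (c x * x) := (hzH _ hz _ (hcH x hx)).mul_right (hza _ hz x hx)
      calc b⁻¹ * e x y * b = ⁅c x * x, ⁅b⁻¹, c y⁆ * c y⁆ := by
            show b⁻¹ * ⁅x, c y⁆ * b = ⁅b⁻¹ * x * b * x⁻¹ * x, ⁅b⁻¹, c y⁆ * c y⁆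
            generalize c y = w
            simp [commutatorElement_def, mul_assoc]
        _ = (c x * x) * ⁅b⁻¹, c y⁆ * c y * (c x * x)⁻¹ * (c y)⁻¹ * ⁅b⁻¹, c y⁆⁻¹ := by
            simp only [commutatorElement_def]; group
        _ = ⁅b⁻¹, c y⁆ * ((c x * x) * c y * (c x * x)⁻¹ * (c y)⁻¹) * ⁅b⁻¹, c y⁆⁻¹ := by
            rw [← hzc.eq]; group
        _ = ⁅b⁻¹, c y⁆ * (c x * e x y * (c x)⁻¹ * ⁅c x, c y⁆) * ⁅b⁻¹, c y⁆⁻¹ := by
            simp only [e, commutatorElement_def]; group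
        _ = ⁅b⁻¹, c y⁆ * (e x y * ⁅c x, c y⁆) * ⁅b⁻¹, c y⁆⁻¹ := by
            rw [← (hec x hx y hy x hx).eq, mul_inv_cancel_right]
        _ = e x y * ⁅c x, c y⁆ := by
            have : Commute ⁅b⁻¹, c y⁆ (e x y * ⁅c x, c y⁆) :=
              (hzH _ hz _ (heH x hx y hy)).mul_right
                (by
                  have u := hzH _ hz _ (hcH x hx)
                  have v := hzH _ hz _ (hcH y hy)
                  rw [commutatorElement_def]
                  exact ((Commute.mul_right u v).mul_right (Commute.inv_right u)).mul_right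
                    (Commute.inv_right v))
            rw [this.eq, mul_inv_cancel_right]
    have hsym : c a * c a' * e a a' = c a' * c a * e a' a := by
      have h1 : c (a * a') = c (a' * a) := by rw [hAc a ha a' ha']
      rw [hprod a ha a' ha', hprod a' ha' a ha] at h1
      have e1 : a * c a' * a⁻¹ = e a a' * c a' := by simp [e, commutatorElement_def]
      have e2 : a' * c a * a'⁻¹ = e a' a * c a := by simp [e, commutatorElement_def]
      rw [e1, e2, (hec a ha a' ha' a' ha').eq, (hec a' ha' a ha a ha).eq] at h1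
      simpa [mul_assoc] using h1
    have hd : ⁅c a, c a'⁆ = e a' a * (e a a')⁻¹ := by
      have hc1 : Commute (e a' a) (c a' * c a) :=
        (hec a' ha' a ha a' ha').mul_right (hec a' ha' a ha a ha)
      have hc2 : Commute (e a a') (c a' * c a) :=
        (hec a ha a' ha' a' ha').mul_right (hec a ha a' ha' a ha)
      calc ⁅c a, c a'⁆ = (c a * c a' * e a a') * (e a a')⁻¹ * (c a' * c a)⁻¹ := by
            simp only [commutatorElement_def]; group
        _ = (e a' a * (c a' * c a)) * (e a a')⁻¹ * (c a' * c a)⁻¹ := by rw [hsym, hc1.eq]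
        _ = e a' a * ((c a' * c a) * (e a a')⁻¹) * (c a' * c a)⁻¹ := by group
        _ = e a' a * ((e a a')⁻¹ * (c a' * c a)) * (c a' * c a)⁻¹ := by rw [hc2.inv_left.eq]
        _ = _ := by group
    have hdc : ∀ x ∈ B, Commute x ⁅c a, c a'⁆ := fun x hx =>
      Subgroup.mem_centralizer_iff.1 (hXc (Subgroup.commutator_mem_commutator
        (hHX (hcH a ha)) (hHX (hcH a' ha')))).2 x hx
    have h1 := hw a ha a' ha'
    have h2 := hw a' ha' a ha
    have h3 : b⁻¹ * ⁅c a, c a'⁆ * b = ⁅c a, c a'⁆ := by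
      rw [(hdc b⁻¹ (B.inv_mem hb)).eq, inv_mul_cancel_right]
    set d := ⁅c a, c a'⁆ with hdd
    rw [← commutatorElement_inv (c a) (c a'), ← hdd] at h2
    have h4 : b⁻¹ * d * b = e a' a * d⁻¹ * (e a a' * d)⁻¹ := by
      rw [← h2, ← h1, hd]; group
    rw [h3] at h4
    have hcd : Commute (e a' a) d⁻¹ := (hdc _ (hHB (heH a' ha' a ha))).inv_right
    have hcd' : Commute ((e a a')⁻¹) d⁻¹ := (hdc _ (hHB (heH a ha a' ha'))).inv_right.inv_left
    have h5 : d = d⁻¹ * d⁻¹ * d := by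
      calc d = e a' a * d⁻¹ * (e a a' * d)⁻¹ := h4
        _ = e a' a * (d⁻¹ * d⁻¹) * (e a a')⁻¹ := by group
        _ = (d⁻¹ * d⁻¹) * (e a' a * (e a a')⁻¹) := by
          rw [(hcd.mul_right hcd).eq, mul_assoc]
        _ = d⁻¹ * d⁻¹ * d := by rw [← hd]
    have h6 : d⁻¹ * d⁻¹ = 1 := mul_right_cancel (h5.symm.trans (one_mul d).symm)
    rw [pow_two, ← inv_eq_one, mul_inv_rev]
    exact h6
  let K : Subgroup G :=
    { carrier := {w | w ∈ Subgroup.centralizer (B : Set G) ∧ w ∈ B ∧ w ^ 2 = 1}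
      one_mem' := ⟨Subgroup.one_mem _, B.one_mem, one_pow _⟩
      mul_mem' := fun {u v} hu hv => ⟨Subgroup.mul_mem _ hu.1 hv.1, B.mul_mem hu.2.1 hv.2.1, by
        rw [(show Commute u v from
          (Subgroup.mem_centralizer_iff.1 hv.1 u hu.2.1)).mul_pow, hu.2.2, hv.2.2, one_mul]⟩
      inv_mem' := fun {u} hu => ⟨Subgroup.inv_mem _ hu.1, B.inv_mem hu.2.1, by
        rw [inv_pow, hu.2.2, inv_one]⟩ }
  have hmulL : ∀ x ∈ H, ∀ x' ∈ H, ∀ y ∈ H, ⁅x', y⁆ ∈ K → ⁅x * x', y⁆ = ⁅x', y⁆ * ⁅x, y⁆ := by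
    intro x hx x' _ y _ hk
    have h1 : x * ⁅x', y⁆ * x⁻¹ = ⁅x', y⁆ := by
      rw [Subgroup.mem_centralizer_iff.1 hk.1 x (hHB hx), mul_inv_cancel_right]
    calc ⁅x * x', y⁆ = (x * ⁅x', y⁆ * x⁻¹) * ⁅x, y⁆ := by simp only [commutatorElement_def]; group
      _ = _ := by rw [h1]
  have hinvL : ∀ x ∈ H, ∀ y : G, ⁅x, y⁆ ∈ K → ⁅x⁻¹, y⁆ = ⁅x, y⁆⁻¹ := by
    intro x hx y hk
    have h1 := Subgroup.mem_centralizer_iff.1 (Subgroup.inv_mem _ hk.1) x⁻¹ (B.inv_mem (hHB hx))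
    calc ⁅x⁻¹, y⁆ = x⁻¹ * ⁅x, y⁆⁻¹ * x := by simp [commutatorElement_def, mul_assoc]
      _ = _ := by rw [h1, inv_mul_cancel_right]
  have step1 : ∀ a' ∈ A, ∀ x ∈ H, ⁅x, c a'⁆ ∈ K := by
    intro a' ha' x hx
    induction hx using Subgroup.closure_induction with
    | mem g hg =>
      obtain ⟨a, ha, rfl⟩ := hg
      have hm := hXc (Subgroup.commutator_mem_commutator (hHX (hcH a ha)) (hHX (hcH a' ha')))
      exact ⟨hm.2, hm.1, key a ha a' ha'⟩
    | one => rw [commutatorElement_one_left]; exact K.one_mem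
    | mul u v hu hv ihu ihv =>
      rw [hmulL u hu v hv _ (hcH a' ha') ihv]; exact K.mul_mem ihv ihu
    | inv u hu ihu => rw [hinvL u hu _ ihu]; exact K.inv_mem ihu
  have step2 : ∀ x ∈ H, ∀ y ∈ H, ⁅x, y⁆ ∈ K := by
    intro x hx y hy
    have h : ⁅y, x⁆ ∈ K := by
      induction hy using Subgroup.closure_induction with
      | mem g hg =>
        obtain ⟨a, ha, rfl⟩ := hg
        rw [← commutatorElement_inv]
        exact K.inv_mem (step1 a ha x hx)
      | one => rw [commutatorElement_one_left]; exact K.one_mem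
      | mul u v hu hv ihu ihv => rw [hmulL u hu v hv x hx ihv]; exact K.mul_mem ihv ihu
      | inv u hu ihu => rw [hinvL u hu _ ihu]; exact K.inv_mem ihu
    rw [← commutatorElement_inv]
    exact K.inv_mem h
  exact fun w hw => (Subgroup.commutator_le.2 step2 hw).2.2

end Cfsg.Agent.S0648
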