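import Cfsg.Statements.S0649


set_option autoImplicit false
open Cfsg

namespace Cfsg.Agent.S0649

open scoped Pointwise

/-- In the Glauberman replacement situation, if B does not normalize A then some element of B normalizes N_S(A) without normalizing A. -/
theorem result {S : Type*} [Group S] [Finite S] {p : ℕ} [Fact p.Prime] (hS : IsPGroup p S) (B : Subgroup S) [B.Normal] (hB2 : p = 2 → IsMulCommutative B) (A : Subgroup S) (hA : IsMulCommutative A) (hBA : ⁅B, B⁆ ≤ A) (hnot : ¬ B ≤ Subgroup.normalizer (A : Set S)) : ∃ b ∈ B, b ∈ Subgroup.normalizer ((Subgroup.normalizer (A : Set S)) : Set S) ∧ b ∉ Subgroup.normalizer (A : Set S) := by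
  haveI := hS.isNilpotent
  set N := Subgroup.normalizer (A : Set S) with hN
  have hlt : N.subgroupOf (N ⊔ B) < ⊤ := lt_top_iff_ne_top.2 fun h =>
    hnot (le_sup_right.trans (Subgroup.subgroupOf_eq_top.1 h))
  have hn := Group.normalizerCondition_of_isNilpotent (G := ↥(N ⊔ B)) _ hlt
  obtain ⟨⟨m, hm⟩, hm1, hm2⟩ := SetLike.exists_of_lt hn
  have hmem : m ∈ (((N : Subgroup S) : Set S) * (B : Set S)) := by
    rw [← Subgroup.mul_normal]; exact hm
  obtain ⟨n, hnN, b, hb, hnb⟩ := hmem
  have hnb : n * b = m := hnb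
  subst hnb
  refine ⟨b, hb, ?_, fun hbN => hm2 (Subgroup.mem_subgroupOf.2 (mul_mem hnN hbN))⟩
  have h1 : n * b ∈ Subgroup.normalizer ((N : Subgroup S) : Set S) := Subgroup.mem_normalizer_iff.2 fun z => by
    constructor
    · intro hz
      exact (Subgroup.mem_normalizer_iff.1 hm1 ⟨z, Subgroup.mem_sup_left hz⟩).1 hz
    · intro hz
      have hzJ : z ∈ N ⊔ B := by
        have := mul_mem (mul_mem (inv_mem hm) (Subgroup.mem_sup_left hz : (n * b) * z * (n * b)⁻¹ ∈ N ⊔ B)) hm
        simpa [mul_assoc] using this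
      exact (Subgroup.mem_normalizer_iff.1 hm1 ⟨z, hzJ⟩).2 hz
  have h2 : n ∈ Subgroup.normalizer ((N : Subgroup S) : Set S) := Subgroup.le_normalizer hnN
  simpa using mul_mem (inv_mem h2) h1

end Cfsg.Agent.S0649
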