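import Cfsg.Statements.S0650
import Cfsg.Agent.Fusion.ReplacementExtra


set_option autoImplicit false
open Cfsg

namespace Cfsg.Agent.S0650

/-- The Glauberman replacement Theorem: from an abelian A ⊇ [B, B] not normalized by the normal subgroup B and a suitable b ∈ B one gets the abelian subgroup A* = (A ∩ b⁻¹Ab)[A, b] of the same order, containing [B, B], meeting B strictly more than A does but not containing B, mutually normalizing with A, with strictly larger normalizer containing b, and (p odd) of no larger exponent. -/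
theorem result {S : Type*} [Group S] [Finite S] {p : ℕ} [Fact p.Prime] (hS : IsPGroup p S) (B : Subgroup S) [B.Normal] (hB2 : p = 2 → IsMulCommutative B) (A : Subgroup S) (hA : IsMulCommutative A) (hBA : ⁅B, B⁆ ≤ A) (hnot : ¬ B ≤ Subgroup.normalizer (A : Set S)) (b : S) (hb : b ∈ B) (hbN : b ∈ Subgroup.normalizer ((Subgroup.normalizer (A : Set S)) : Set S)) (hbA : b ∉ Subgroup.normalizer (A : Set S)) : Nat.card ↥((A ⊓ A.map (MulAut.conj (b⁻¹)).toMonoidHom) ⊔ Subgroup.closure {g : S | ∃ a ∈ A, g = a * b⁻¹ * a⁻¹ * b}) = Nat.card A ∧ IsMulCommutative ↥((A ⊓ A.map (MulAut.conj (b⁻¹)).toMonoidHom) ⊔ Subgroup.closure {g : S | ∃ a ∈ A, g = a * b⁻¹ * a⁻¹ * b}) ∧ ⁅B, B⁆ ≤ ((A ⊓ A.map (MulAut.conj (b⁻¹)).toMonoidHom) ⊔ Subgroup.closure {g : S | ∃ a ∈ A, g = a * b⁻¹ * a⁻¹ * b}) ∧ A ⊓ B < ((A ⊓ A.map (MulAut.conj (b⁻¹)).toMonoidHom) ⊔ Subgroup.closure {g : S | ∃ a ∈ A, g = a * b⁻¹ * a⁻¹ * b}) ⊓ B ∧ ((A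 ⊓ A.map (MulAut.conj (b⁻¹)).toMonoidHom) ⊔ Subgroup.closure {g : S | ∃ a ∈ A, g = a * b⁻¹ * a⁻¹ * b}) ⊓ B < B ∧ A ≤ Subgroup.normalizer (((A ⊓ A.map (MulAut.conj (b⁻¹)).toMonoidHom) ⊔ Subgroup.closure {g : S | ∃ a ∈ A, g = a * b⁻¹ * a⁻¹ * b} : Subgroup S) : Set S) ∧ ((A ⊓ A.map (MulAut.conj (b⁻¹)).toMonoidHom) ⊔ Subgroup.closure {g : S | ∃ a ∈ A, g = a * b⁻¹ * a⁻¹ * b}) ≤ Subgroup.normalizer (A : Set S) ∧ b ∈ Subgroup.normalizer (((A ⊓ A.map (MulAut.conj (b⁻¹)).toMonoidHom) ⊔ Subgroup.closure {g : S | ∃ a ∈ A, g = a * b⁻¹ * a⁻¹ * b} : Subgroup S) : Set S) ∧ Subgroup.normalizer (A : Set S) < Subgroup.normalizer (((A ⊓ A.map (MulAut.conj (b⁻¹)).toMonoidHom) ⊔ Subgroup.closure {g : S | ∃ a ∈ A, g = a * b⁻¹ * a⁻¹ * b} : Subgroup S) : Set S) ∧ (p ≠ 2 → Monoid.exponent ↥((A ⊓ A.map (MulAut.conj (b⁻¹)).toMonoidHom) ⊔ Subgroup.closure {g : S | ∃ a ∈ A, g = a * b⁻¹ * a⁻¹ * b}) ∣ Monoid.exponent A) :=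 by
  classical
  rw [Cfsg.Lib.Fusion.replaceBy_inv_eq]
  obtain ⟨k, hk⟩ := hS b⁻¹
  have hbN' := Subgroup.inv_mem _ hbN
  have h : Cfsg.Lib.Fusion.ReplSetup p A B b⁻¹ :=
    { comm := hA
      normB := by rw [Subgroup.normalizer_eq_top]; exact le_top
      derived := hBA
      mem := B.inv_mem hb
      prime := Fact.out
      pA := hS.to_subgroup A
      pow := ⟨k, hk⟩
      odd := (eq_or_ne p 2).elim (fun e => Or.inr (hB2 e)) Or.inl
      conjN := fun a ha =>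
        (Subgroup.mem_normalizer_iff.mp hbN' a).mp (Subgroup.le_normalizer ha) }
  have hb' : b⁻¹ ∉ Subgroup.normalizer (A : Set S) := fun e => hbA (inv_mem_iff.1 e)
  have hle := h.normalizer_le hbN'
  have hbR : b ∈ Subgroup.normalizer (Cfsg.Lib.Fusion.replaceBy A b⁻¹ : Set S) := by
    simpa using Subgroup.inv_mem _ h.mem_normalizer_replaceBy_self
  refine ⟨h.card_replaceBy, h.isMulCommutative_replaceBy, h.derived_le.trans le_sup_left,
    h.inf_lt_replaceBy hb', ?_, Subgroup.le_normalizer.trans hle, h.replaceBy_le_normalizer,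
    hbR, lt_of_le_of_ne hle ?_, h.exponent_dvd⟩
  · refine lt_of_le_of_ne inf_le_right fun e => hbA ?_
    exact h.replaceBy_le_normalizer (inf_eq_right.1 e hb)
  · intro e
    exact hbA (e ▸ hbR)

end Cfsg.Agent.S0650
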