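import Cfsg.Statements.S0652
import Cfsg.Agent.Fusion.ReplacementExtra


set_option autoImplicit false
open Cfsg

namespace Cfsg.Agent.S0652

/-- For odd p and D normal in the p-group S, the elementary abelian subgroups of D of largest order satisfy the replacement property for class-2 normal subgroups of S. -/
theorem result {S : Type*} [Group S] [Finite S] {p : ℕ} [Fact p.Prime] (hS : IsPGroup p S) (hp : p ≠ 2) (D : Subgroup S) [D.Normal] : ∀ (B : Subgroup S) [B.Normal], ⁅⁅B, B⁆, B⁆ = ⊥ → (∃ U ∈ (Set.image (fun A : Subgroup ↥D => A.map D.subtype) (Cfsg.maxElementaryAbelianSubgroups p ↥D)), ⁅B, B⁆ ≤ U ∧ ¬ B ≤ U) → ∃ A ∈ (Set.image (fun A : Subgroup ↥D => A.map D.subtype) (Cfsg.maxElementaryAbelianSubgroups p ↥D)), ⁅B, B⁆ ≤ A ∧ ¬ B ≤ A ∧ B ≤ Subgroup.normalizer (A : Set S) := by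
  classical
  have hmap : ∀ A : Subgroup ↥D, Cfsg.IsElementaryAbelian p (A.map D.subtype) ↔
      Cfsg.IsElementaryAbelian p A := by
    intro A
    constructor
    · rintro ⟨h1, h2⟩
      exact ⟨⟨⟨fun x y => (A.equivMapOfInjective D.subtype D.subtype_injective).injective
        (by simp only [map_mul]; exact Std.Commutative.comm _ _)⟩⟩,
        fun x hx => Subtype.ext (h2 _ (Subgroup.mem_map_of_mem D.subtype hx))⟩
    · rintro ⟨h1, h2⟩
      refine ⟨⟨⟨fun x y => (A.equivMapOfInjective D.subtype D.subtype_injective).symm.injective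
        (by simp only [map_mul]; exact Std.Commutative.comm _ _)⟩⟩, ?_⟩
      rintro _ ⟨x, hx, rfl⟩
      rw [← map_pow, h2 x hx, map_one]
  intro B hBn _hcl hU
  have conv : ∀ A : Subgroup S, A ∈ Set.image (fun A : Subgroup ↥D => A.map D.subtype) (Cfsg.maxElementaryAbelianSubgroups p ↥D) ↔
      A ∈ Cfsg.Lib.Fusion.maxP (fun A : Subgroup S => Cfsg.IsElementaryAbelian p A) D := by
    intro A
    constructor
    · rintro ⟨A₀, ⟨hA₀, hmax⟩, rfl⟩
      refine ⟨Subgroup.map_subtype_le A₀, (hmap A₀).2 hA₀, fun A' hA' hP' => ?_⟩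
      rw [Subgroup.card_subtype, ← Subgroup.map_subgroupOf_eq_of_le hA', Subgroup.card_subtype]
      exact hmax _ ((hmap _).1 (by rw [Subgroup.map_subgroupOf_eq_of_le hA']; exact hP'))
    · rintro ⟨hAD, hPA, hmax⟩
      refine ⟨A.subgroupOf D, ⟨(hmap _).1 (by rw [Subgroup.map_subgroupOf_eq_of_le hAD]; exact hPA),
        fun A₁ hA₁ => ?_⟩, Subgroup.map_subgroupOf_eq_of_le hAD⟩
      rw [← Subgroup.card_subtype D A₁, ← Subgroup.card_subtype D (A.subgroupOf D),
        Subgroup.map_subgroupOf_eq_of_le hAD]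
      exact hmax _ (Subgroup.map_subtype_le A₁) ((hmap A₁).2 hA₁)
  obtain ⟨U, hU1, hU2, hU3⟩ := hU
  obtain ⟨A, hA1, hA2, hA3, hA4⟩ := Cfsg.Lib.Fusion.exists_maxP_normalized (p := p) (T := ⊤) (D := D)
    (B := B) (fun A : Subgroup S => Cfsg.IsElementaryAbelian p A) (fun _ h => h.1) (fun A b h hA => ⟨h.isMulCommutative_replaceBy, fun x hx => orderOf_dvd_iff_pow_eq_one.1 ((Subgroup.orderOf_mk x hx).symm.dvd.trans ((Monoid.order_dvd_exponent (⟨x, hx⟩ : ↥(Cfsg.Lib.Fusion.replaceBy A b))).trans ((h.exponent_dvd hp).trans (Monoid.exponent_dvd_iff_forall_pow_eq_one.2 (fun y => Subtype.ext (hA.2 _ y.2))))))⟩) (Or.inl hp) (hS.to_subgroup ⊤) le_top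
    (by rw [Subgroup.normalizer_eq_top]) le_top (by rw [Subgroup.normalizer_eq_top])
    ⟨U, (conv U).1 hU1, hU2, hU3⟩
  exact ⟨A, (conv A).2 hA1, hA2, hA3, hA4⟩

end Cfsg.Agent.S0652
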