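import Cfsg.Statements.S0655
import Cfsg.Agent.Thompson.ElemToolkit

set_option autoImplicit false
open Cfsg

namespace Cfsg.Agent.S0655

open scoped commutatorElement
open Cfsg.Lib.ElemToolkit

/-- In a p-group the intersection of all elementary abelian subgroups of largest order is the subgroup generated by the elements of order dividing p in the centre (equivalently the centralizer) of the elementary-version Thompson subgroup. -/
theorem result {S : Type*} [Group S] [Finite S] {p : ℕ} [Fact p.Prime] (hS : IsPGroup p S) : sInf (Cfsg.maxElementaryAbelianSubgroups p S) = Cfsg.omegaCenterThompson p S ∧ Cfsg.omegaCenterThompson p S = Cfsg.omegaOne p (Subgroup.centralizer (Cfsg.thompsonSubgroup p S : Set S)) := by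
  set J := Cfsg.thompsonSubgroup p S with hJ
  set 𝒜 := Cfsg.maxElementaryAbelianSubgroups p S with h𝒜
  obtain ⟨A₀, -, hA₀, hmax⟩ := Cfsg.Lib.Thompson.exists_isMaxElem (p := p) (⊤ : Subgroup S)
  have h0 : A₀ ∈ 𝒜 := ⟨hA₀, fun B hB => hmax B le_top hB⟩
  have hJA : ∀ A ∈ 𝒜, A ≤ J := fun A hA => le_sSup hA
  have hin : ∀ x, (∀ y ∈ J, y * x = x * y) → x ^ p = 1 → ∀ A ∈ 𝒜, x ∈ A := by
    intro x hc hxp A hA
    have hz : Cfsg.IsElementaryAbelian p (Subgroup.zpowers x) := ⟨inferInstance, fun a ha => by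
      obtain ⟨i, rfl⟩ := Subgroup.mem_zpowers_iff.1 ha
      rw [← zpow_natCast (x ^ i), ← zpow_mul, mul_comm, zpow_mul, zpow_natCast, hxp, one_zpow]⟩
    have hel := elementary_sup hA.1 hz fun a ha b hb => by
      obtain ⟨i, rfl⟩ := Subgroup.mem_zpowers_iff.1 hb
      exact (((show Commute a x from hc a (hJA A hA ha)).zpow_right i)).eq
    have heq : A = A ⊔ Subgroup.zpowers x := Subgroup.eq_of_le_of_card_ge le_sup_left (hA.2 _ hel)
    exact heq ▸ Subgroup.mem_sup_right (Subgroup.mem_zpowers x)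
  have hK : Cfsg.omegaOne p (Subgroup.centralizer (J : Set S)) ≤ sInf 𝒜 :=
    (Subgroup.closure_le _).2 fun x hx => Subgroup.mem_sInf.2 (hin x (fun y hy => Subgroup.mem_centralizer_iff.1 hx.1 y hy) hx.2)
  have hI : sInf 𝒜 ≤ Cfsg.omegaCenterThompson p S := fun x hx => Subgroup.subset_closure
    ⟨⟨hJA A₀ h0 (Subgroup.mem_sInf.1 hx A₀ h0), by
      have h1 : J ≤ Subgroup.centralizer ({x} : Set S) := sSup_le fun A hA a ha =>
        Subgroup.mem_centralizer_singleton_iff.2 (comm_of hA.1.1 ha (Subgroup.mem_sInf.1 hx A hA))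
      exact Subgroup.mem_centralizer_iff.2 fun y hy => Subgroup.mem_centralizer_singleton_iff.1 (h1 hy)⟩,
      hA₀.2 x (Subgroup.mem_sInf.1 hx A₀ h0)⟩
  have hO : Cfsg.omegaCenterThompson p S ≤ Cfsg.omegaOne p (Subgroup.centralizer (J : Set S)) :=
    Subgroup.closure_mono fun x hx => ⟨hx.1.2, hx.2⟩
  exact ⟨le_antisymm hI (hO.trans hK), le_antisymm hO (hK.trans hI)⟩

end Cfsg.Agent.S0655
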