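import Cfsg.Statements.S0658
import Cfsg.Agent.Components.ZJ.Functor

set_option autoImplicit false
open Cfsg

namespace Cfsg.Agent.S0658

/-- In a group of characteristic p type all of whose p-locals are p-stable (p odd), the normalizer of Z(J(P)) contains the normalizer of every nontrivial subgroup of the Sylow p-subgroup P. -/
theorem result {G : Type*} [Group G] [Finite G] {p : ℕ} [Fact p.Prime] (hp : p ≠ 2) (hloc : ∀ Q : Subgroup G, IsPGroup p Q → Q ≠ ⊥ → Cfsg.pPrimeCore p ↥(Subgroup.normalizer (Q : Set G)) = ⊥ ∧ Cfsg.IsPConstrained p ↥(Subgroup.normalizer (Q : Set G)) ∧ Cfsg.IsPStable p ↥(Subgroup.normalizer (Q : Set G))) (P : Sylow p G) (Q : Subgroup G) (hQP : Q ≤ (P : Subgroup G)) (hQ1 : Q ≠ ⊥) : Subgroup.normalizer (Q : Set G) ≤ Subgroup.normalizer (Cfsg.centerThompsonAOf ((P : Subgroup G)) : Set G) := by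
  refine Cfsg.Lib.ZJ.normalizer_le (fun T => Cfsg.centerThompsonAOf T)
    (fun g T => Cfsg.Lib.ZJ.centerThompsonAOf_map (MulAut.conj g) T) (fun T hT => ⟨?_, fun hne h0 => ?_⟩) ?_ P Q hQP hQ1
  · exact inf_le_left.trans (Subgroup.map_subtype_le _)
  · apply Cfsg.Lib.Thompson.center_ne_bot hT hne
    refine le_bot_iff.mp (le_trans ?_ h0.le)
    rw [Cfsg.Lib.Fusion.centerThompsonAOf_eq]
    exact le_iInf₂ fun A hA => Cfsg.Lib.Fusion.centralizerIn_self_le_maxAb hA
  · intro Q T hQ1 hQ hTN hT hTnd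
    obtain ⟨h1, hc, hs⟩ := hloc Q hQ hQ1
    set H := Subgroup.normalizer (Q : Set G)
    let S : Sylow p H := (hT.comap_subtype (K := H)).toSylow hTnd
    have hn := Cfsg.Lib.ZJ.centerThompsonA_normal (S := S) hp (Cfsg.Lib.ZJ.stable_of_isPStable h1 hs)
      (Cfsg.Lib.ZJ.charP_of_isPConstrained h1 hc) (Cfsg.Lib.ZJ.stronglyClosed_self _)
    have hmap := Cfsg.Lib.ZJ.centerThompsonAOf_map_injOn (f := H.subtype) (D := (S : Subgroup H))
      H.subtype_injective.injOn
    rw [show (S : Subgroup H).map H.subtype = T by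
      show (T.subgroupOf H).map H.subtype = T
      rw [Subgroup.subgroupOf_map_subtype, inf_eq_left.mpr hTN]] at hmap
    show H ≤ Subgroup.normalizer (Cfsg.centerThompsonAOf T : Set G)
    rw [← hmap]
    intro x hx
    exact Subgroup.le_normalizer_map H.subtype
      ⟨⟨x, hx⟩, (Subgroup.normalizer_eq_top_iff.mpr hn).ge (Subgroup.mem_top _), rfl⟩

end Cfsg.Agent.S0658
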