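import Cfsg.Statements.S0660


set_option autoImplicit false
open Cfsg

namespace Cfsg.Agent.S0660

open scoped Pointwise

/-- Under a coprime action on an abelian group, an invariant subgroup that is complemented admits an invariant complement. -/
theorem result {G : Type*} [Group G] [Finite G] (V A U : Subgroup G) (hVab : IsMulCommutative V) (hAV : A ≤ Subgroup.normalizer (V : Set G)) (hcop : (Nat.card A).Coprime (Nat.card V)) (hUV : U ≤ V) (hAU : A ≤ Subgroup.normalizer (U : Set G)) (W : Subgroup G) (hWV : W ≤ V) (hUW : U ⊓ W = ⊥) (hUWV : U ⊔ W = V) : ∃ W' : Subgroup G, W' ≤ V ∧ A ≤ Subgroup.normalizer (W' : Set G) ∧ U ⊓ W' = ⊥ ∧ U ⊔ W' = V := by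
  classical
  haveI : Fintype A := Fintype.ofFinite A
  letI : CommGroup V := { (inferInstance : Group V) with mul_comm := hVab.is_comm.comm }
  set U₁ := U.subgroupOf V with hU₁
  set W₁ := W.subgroupOf V with hW₁
  have hmemU : ∀ u : V, u ∈ U₁ ↔ (u : G) ∈ U := fun u => Subgroup.mem_subgroupOf
  let m : U₁ × W₁ →* V := MonoidHom.coprod U₁.subtype W₁.subtype
  have hm : Function.Bijective m := by
    constructor
    · rw [injective_iff_map_eq_one]
      rintro ⟨u, w⟩ h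
      have h1 : (u : G) * w = 1 := congrArg Subtype.val (show (u : V) * w = 1 from h)
      have h2 : ((u : V) : G) ∈ U ⊓ W := Subgroup.mem_inf.2 ⟨(hmemU u).1 u.2, by rw [eq_inv_of_mul_eq_one_left h1]; exact inv_mem (Subgroup.mem_subgroupOf.1 w.2)⟩
      rw [hUW, Subgroup.mem_bot] at h2
      rw [h2, one_mul] at h1
      exact Prod.ext (Subtype.ext (Subtype.ext h2)) (Subtype.ext (Subtype.ext h1))
    · intro v
      have hn : U ≤ Subgroup.normalizer (W : Set G) := fun u hu => Subgroup.centralizer_le_normalizer _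
        (Subgroup.mem_centralizer_iff.2 fun w hw =>
          congrArg Subtype.val (hVab.is_comm.comm (⟨w, hWV hw⟩ : V) ⟨u, hUV hu⟩))
      have hv : (v : G) ∈ ((U ⊔ W : Subgroup G) : Set G) := hUWV.symm ▸ v.2
      rw [Subgroup.coe_mul_of_left_le_normalizer_right U W hn, Set.mem_mul] at hv
      obtain ⟨u, hu, w, hw, he⟩ := hv
      exact ⟨(⟨⟨u, hUV hu⟩, hu⟩, ⟨⟨w, hWV hw⟩, hw⟩), Subtype.ext he⟩
  let π : V →* V := (U₁.subtype.comp ((MonoidHom.fst _ _).comp (MulEquiv.ofBijective m hm).symm.toMonoidHom))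
  have hπU : ∀ v, π v ∈ U₁ := fun v => ((MulEquiv.ofBijective m hm).symm v).1.2
  have hπid : ∀ u ∈ U₁, π u = u := by
    intro u hu
    have h : (MulEquiv.ofBijective m hm).symm u = (⟨u, hu⟩, 1) := by
      rw [MulEquiv.symm_apply_eq]
      show u = u * ((1 : W₁) : V)
      rw [Subgroup.coe_one, mul_one]
    show (((MulEquiv.ofBijective m hm).symm u).1 : V) = u
    rw [h]
  have hconjV : ∀ (a : A) (v : V), (a : G) * v * (a : G)⁻¹ ∈ V := fun a v => (Subgroup.mem_normalizer_iff.1 (hAV a.2) _).1 v.2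
  let φ : A → (V →* V) := fun a =>
    { toFun := fun v => ⟨(a : G) * v * (a : G)⁻¹, hconjV a v⟩
      map_one' := Subtype.ext (by simp)
      map_mul' := fun x y => Subtype.ext (by
        show (a : G) * (x * y) * (a : G)⁻¹ = (a * x * (a : G)⁻¹) * (a * y * (a : G)⁻¹)
        group) }
  have hφU : ∀ a u, u ∈ U₁ → φ a u ∈ U₁ := fun a u hu => (hmemU _).2 ((Subgroup.mem_normalizer_iff.1 (hAU a.2) _).1 ((hmemU u).1 hu))
  let ψ : V →* V := ∏ a : A, (φ a).comp (π.comp (φ a⁻¹))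
  have hψ : ∀ v, ψ v = ∏ a : A, φ a (π (φ a⁻¹ v)) := fun v => MonoidHom.finsetProd_apply _ _ _
  have hφφ : ∀ (a b : A) (v : V), φ a (φ b v) = φ (a * b) v := fun a b v => Subtype.ext (by
    show (a : G) * ((b : G) * v * (b : G)⁻¹) * (a : G)⁻¹ = ((a : G) * b) * v * ((a : G) * b)⁻¹
    group)
  have hψU : ∀ v, ψ v ∈ U₁ := fun v => by rw [hψ]; exact prod_mem fun a _ => hφU _ _ (hπU _)
  have hψid : ∀ u ∈ U₁, ψ u = u ^ Nat.card A := by
    intro u hu
    rw [hψ, Finset.prod_congr rfl (fun a _ => ?_), Finset.prod_const, Finset.card_univ, Nat.card_eq_fintype_card]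
    rw [hπid _ (hφU _ _ hu), hφφ, mul_inv_cancel]
    exact Subtype.ext (by simp [φ])
  have hψb : ∀ (b : A) v, ψ (φ b v) = φ b (ψ v) := by
    intro b v
    rw [hψ, hψ, map_prod, ← Equiv.prod_comp (Equiv.mulLeft b)]
    refine Finset.prod_congr rfl fun a _ => ?_
    rw [Equiv.coe_mulLeft, hφφ, hφφ, show (b * a)⁻¹ * b = a⁻¹ by group]
  refine ⟨ψ.ker.map V.subtype, Subgroup.map_subtype_le _, ?_, ?_, ?_⟩
  · intro b hb
    rw [Subgroup.mem_normalizer_iff]
    intro x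
    constructor
    · rintro ⟨v, hv, rfl⟩
      refine ⟨φ ⟨b, hb⟩ v, ?_, rfl⟩
      show ψ _ = 1
      rw [hψb, (hv : ψ v = 1), map_one]
    · rintro ⟨v, hv, hve⟩
      refine ⟨φ ⟨b, hb⟩⁻¹ v, ?_, ?_⟩
      · show ψ _ = 1
        rw [hψb, (hv : ψ v = 1), map_one]
      · show b⁻¹ * (v : G) * (b⁻¹)⁻¹ = x
        rw [show (v : G) = b * x * b⁻¹ from hve]; group
  · rw [Subgroup.eq_bot_iff_forall]
    rintro x ⟨hxU, v, hv, rfl⟩
    have h1 : v ^ Nat.card A = 1 := by rw [← hψid v ((hmemU v).2 hxU)]; exact hv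
    have h2 : orderOf v ∣ Nat.gcd (Nat.card A) (Nat.card V) := Nat.dvd_gcd (orderOf_dvd_of_pow_eq_one h1) (orderOf_dvd_natCard v)
    rw [hcop.gcd_eq_one, Nat.dvd_one, orderOf_eq_one_iff] at h2
    simp [h2]
  · refine le_antisymm (sup_le hUV (Subgroup.map_subtype_le _)) fun x hx => ?_
    obtain ⟨⟨k, hkU⟩, hk⟩ := (powCoprime (G := U₁) (hcop.symm.coprime_dvd_left (Subgroup.card_subgroup_dvd_card U₁))).surjective
      ⟨ψ ⟨x, hx⟩, hψU _⟩
    have hk' : k ^ Nat.card A = ψ ⟨x, hx⟩ := congrArg Subtype.val hk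
    have hw : k⁻¹ * ⟨x, hx⟩ ∈ ψ.ker := by
      show ψ _ = 1
      rw [map_mul, map_inv, hψid k hkU, hk', inv_mul_cancel]
    have : x = (k : G) * ((k⁻¹ * ⟨x, hx⟩ : V) : G) := by push_cast; group
    rw [this]
    exact mul_mem (Subgroup.mem_sup_left ((hmemU k).1 hkU)) (Subgroup.mem_sup_right (Subgroup.mem_map_of_mem _ hw))

end Cfsg.Agent.S0660
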