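import Cfsg.Statements.S0662
import Cfsg.Agent.PGroups.MaxClass

set_option autoImplicit false
open Cfsg

namespace Cfsg.Agent.S0662

theorem count_lines {V : Type*} [Group V] [Finite V] {p : ℕ} [Fact p.Prime] (hV : Nat.card V = p ^ 2)
    (hexp : ∀ v : V, v ^ p = 1) : Nat.card {K : Subgroup V // Nat.card K = p} = p + 1 := by
  classical
  have hp : p.Prime := Fact.out
  haveI : Fintype {K : Subgroup V // Nat.card K = p} := Fintype.ofFinite _
  have e : (Σ K : {K : Subgroup V // Nat.card K = p}, {k : K.1 // k ≠ 1}) ≃ {v : V // v ≠ 1} :=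
    { toFun := fun x => ⟨x.2.1, fun h => x.2.2 (Subtype.ext h)⟩
      invFun := fun v => ⟨⟨Subgroup.zpowers v.1, by rw [Nat.card_zpowers]; exact orderOf_eq_prime (hexp _) v.2⟩,
        ⟨⟨v.1, Subgroup.mem_zpowers _⟩, fun h => v.2 (congrArg Subtype.val h)⟩⟩
      left_inv := by
        rintro ⟨⟨K, hK⟩, ⟨⟨k, hk⟩, hk1⟩⟩
        have h1 : Subgroup.zpowers k = K := Subgroup.eq_of_le_of_card_ge (Subgroup.zpowers_le.2 hk) (by
          rw [hK, Nat.card_zpowers, orderOf_eq_prime (hexp k) fun h => hk1 (Subtype.ext h)])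
        subst h1
        rfl
      right_inv := fun v => rfl }
  have hsub : ∀ {A : Type _} [Group A] [Finite A], Nat.card {a : A // a ≠ 1} = Nat.card A - 1 := by
    intro A _ _
    haveI : Fintype A := Fintype.ofFinite A
    rw [Nat.card_eq_fintype_card, Nat.card_eq_fintype_card, Fintype.card_subtype_compl, Fintype.card_subtype_eq]
  have h := Nat.card_congr e
  rw [Nat.card_sigma, hsub, hV] at h
  have h2 : ∀ K : {K : Subgroup V // Nat.card K = p}, Nat.card {k : K.1 // k ≠ 1} = p - 1 := fun K => by
    rw [hsub, K.2]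
  rw [Finset.sum_congr rfl (fun K _ => h2 K), Finset.sum_const, Finset.card_univ, smul_eq_mul, ← Nat.card_eq_fintype_card] at h
  have h3 : p ^ 2 - 1 = (p + 1) * (p - 1) := by rw [← Nat.sq_sub_sq p 1, one_pow]
  rw [h3] at h
  exact Nat.eq_of_mul_eq_mul_right (by have := hp.two_le; omega) h


/-- In a p-group of maximal class of order at least p³ the normal subgroups of index at least p² are exactly the terms of the lower central series, and there are exactly p + 1 normal subgroups of index p. -/
theorem result {G : Type*} [Group G] [Finite G] {p : ℕ} [Fact p.Prime] (n : ℕ) (hG : Nat.card G = p ^ n) (hcl : Group.nilpotencyClass G = n - 1) (hn : 3 ≤ n) : (∀ (N : Subgroup G) [N.Normal] (r : ℕ), 2 ≤ r → N.index = p ^ r → N = (⊤ : Subgroup G).lowerCentralSeries (r - 1)) ∧ Nat.card {N : Subgroup G // N.Normal ∧ N.index = p} = p + 1 := by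
  haveI : Group.IsNilpotent G := (IsPGroup.of_card hG).isNilpotent
  have hp : p.Prime := Fact.out
  have hP : IsPGroup p G := IsPGroup.of_card hG
  refine ⟨fun N _ r hr hN => Cfsg.Lib.MaxClass.normal_eq_lcs n G hG (by omega) hcl N r hr hN, ?_⟩
  have hΦ := Cfsg.Lib.MaxClass.frattini_eq_commutator n G hG hn hcl
  set π := QuotientGroup.mk' (commutator G) with hπ
  have hf : Function.Surjective π := QuotientGroup.mk'_surjective _
  have hV : Nat.card (G ⧸ commutator G) = p ^ 2 := by
    rw [← Subgroup.index_eq_card]; exact Cfsg.Lib.MaxClass.commutator_index n G hG (by omega) hcl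
  have hexp : ∀ q : G ⧸ commutator G, q ^ p = 1 := fun q => by
    obtain ⟨g, rfl⟩ := hf q
    rw [← map_pow]
    exact (QuotientGroup.eq_one_iff _).2 (hΦ ▸ Cfsg.Lib.PGroups.pow_mem_frattini hP g)
  haveI : IsMulCommutative (G ⧸ commutator G) := IsPGroup.isMulCommutative_of_card_eq_prime_sq (p := p) hV
  have hidx : ∀ K : Subgroup (G ⧸ commutator G), K.index = p ↔ Nat.card K = p := fun K => by
    have h := K.card_mul_index
    rw [hV, pow_two] at h
    constructor <;> intro hK <;> rw [hK] at h
    · exact Nat.eq_of_mul_eq_mul_right hp.pos h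
    · exact Nat.eq_of_mul_eq_mul_left hp.pos h
  have hcomm : ∀ N : Subgroup G, N.Normal → N.index = p → commutator G ≤ N := by
    intro N hN hNi
    rw [← hΦ]
    refine frattini_le_coatom ⟨fun e => ?_, fun b hb => ?_⟩
    · rw [e, Subgroup.index_top] at hNi
      exact hp.ne_one hNi.symm
    · have h1 := Subgroup.index_dvd_of_le hb.le
      rw [hNi] at h1
      rcases (Nat.dvd_prime hp).1 h1 with h | h
      · exact Subgroup.index_eq_one.1 h
      · exfalso
        have h2 := N.card_mul_index
        rw [hNi, ← b.card_mul_index, h] at h2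
        exact hb.ne (Subgroup.eq_of_le_of_card_ge hb.le (Nat.eq_of_mul_eq_mul_right hp.pos h2).ge)
  have e1 : {N : Subgroup G // N.Normal ∧ N.index = p} ≃ {K : Subgroup (G ⧸ commutator G) // Nat.card K = p} :=
    { toFun := fun N => ⟨N.1.map π, (hidx _).1 (by
        rw [Subgroup.index_map_eq _ hf (by rw [hπ, QuotientGroup.ker_mk']; exact hcomm N.1 N.2.1 N.2.2), N.2.2])⟩
      invFun := fun K => ⟨K.1.comap π, Subgroup.Normal.comap inferInstance π, by
        rw [Subgroup.index_comap_of_surjective _ hf]; exact (hidx _).2 K.2⟩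
      left_inv := fun N => Subtype.ext (by
        show (N.1.map π).comap π = N.1
        rw [Subgroup.comap_map_eq, hπ, QuotientGroup.ker_mk', sup_eq_left.2 (hcomm N.1 N.2.1 N.2.2)])
      right_inv := fun K => Subtype.ext (Subgroup.map_comap_eq_self_of_surjective hf K.1) }
  rw [Nat.card_congr e1]
  exact Cfsg.Agent.S0662.count_lines hV hexp

end Cfsg.Agent.S0662
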