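import Cfsg.Statements.S0663
import Cfsg.Agent.Components.PxQ


set_option autoImplicit false
open Cfsg
open scoped commutatorElement

namespace Cfsg.Agent.S0663

/-- A p-group acts uniserially on a p-group N of order p^n exactly when the iterated commutator chain from N has length n; in that case the chain terms are all the invariant subgroups of N and they are normal in N. -/
theorem result {L : Type*} [Group L] [Finite L] {p : ℕ} [Fact p.Prime] (N G : Subgroup L) (hN : IsPGroup p N) (hG : IsPGroup p G) (hGN : G ≤ Subgroup.normalizer (N : Set L)) (n : ℕ) (hn : Nat.card N = p ^ n) : ((∀ H : Subgroup L, H ≤ N → G ≤ Subgroup.normalizer (H : Set L) → H ≠ ⊥ → (⁅H, G⁆).relIndex H = p) ↔ Cfsg.iterCommutator N G (n - 1) ≠ ⊥ ∨ n = 0) ∧ ((∀ H : Subgroup L, H ≤ N → G ≤ Subgroup.normalizer (H : Set L) → H ≠ ⊥ → (⁅H, G⁆).relIndex H = p) → ∀ H : Subgroup L, H ≤ N → G ≤ Subgroup.normalizer (H : Set L) → (∃ i ≤ n, H = Cfsg.iterCommutator N G i) ∧ N ≤ Subgroup.normalizer (H : Set L)) := by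
  classical
  open Cfsg.Lib.Components in
  set c : ℕ → Subgroup L := fun i => Cfsg.iterCommutator N G i with hc
  have hc0 : c 0 = N := rfl
  have hcs : ∀ i, c (i + 1) = ⁅c i, G⁆ := fun i => rfl
  have hp : p.Prime := Fact.out
  set P := G ⊔ N with hP
  have hPp : IsPGroup p P := hG.to_sup_of_normal_right' hN hGN
  have hGc : ∀ i, G ≤ Subgroup.normalizer (c i : Set L) := by
    intro i
    induction i with
    | zero => exact hGN
    | succ i ih => rw [hcs]; exact Subgroup.normalizer_commutator_ge_right (c i) G
  have hcN : ∀ i, c i ≤ N := by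
    intro i
    induction i with
    | zero => exact le_rfl
    | succ i ih => rw [hcs]; exact (Subgroup.le_normalizer_iff_commutator_le_left.1 (hGc i)).trans ih
  have hlt : ∀ i, c i ≠ ⊥ → c (i + 1) < c i := fun i hi =>
    hcs i ▸ Cfsg.Lib.Components.commutator_pGroup_lt (hN.to_le (hcN i)) hG (hGc i) hi
  have hanti : ∀ i j, i ≤ j → c j ≤ c i := by
    intro i j hij
    induction hij with
    | refl => exact le_rfl
    | step _ ih =>
      exact le_trans (by rw [hcs]; exact Subgroup.le_normalizer_iff_commutator_le_left.1 (hGc _)) ih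
  -- a proper inclusion of `p`-groups loses a factor `p`
  have hstep : ∀ A B : Subgroup L, A < B → B ≤ N → Nat.card A * p ≤ Nat.card B := by
    intro A B hAB hB
    obtain ⟨a, ha⟩ := IsPGroup.iff_card.1 (hN.to_le (hAB.le.trans hB))
    obtain ⟨b, hb⟩ := IsPGroup.iff_card.1 (hN.to_le hB)
    rw [ha, hb, ← pow_succ]
    refine Nat.pow_le_pow_right hp.pos ?_
    by_contra h
    exact hAB.ne (Subgroup.eq_of_le_of_card_ge hAB.le
      (by rw [ha, hb]; exact Nat.pow_le_pow_right hp.pos (by omega)))
  set A := ∀ H : Subgroup L, H ≤ N → G ≤ Subgroup.normalizer (H : Set L) → H ≠ ⊥ →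
    (⁅H, G⁆).relIndex H = p with hA
  -- the chain condition
  set B := ∀ i, c i ≠ ⊥ → (c (i + 1)).relIndex (c i) = p with hB
  have hAB : A → B := fun h i hi => hcs i ▸ h (c i) (hcN i) (hGc i) hi
  have hcard : B → ∀ i, i ≤ n → Nat.card (c i) = p ^ (n - i) := by
    intro h i
    induction i with
    | zero => intro _; rw [hc0, hn, Nat.sub_zero]
    | succ i ih =>
      intro hi
      have h1 := ih (by omega)
      have hne : c i ≠ ⊥ := fun e => by
        rw [e, Subgroup.card_bot] at h1
        exact absurd h1.symm (Nat.one_lt_pow (by omega) hp.one_lt).ne'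
      have h2 := Subgroup.relIndex_mul_relIndex ⊥ (c (i + 1)) (c i) bot_le (hlt i hne).le
      rw [Subgroup.relIndex_bot_left, Subgroup.relIndex_bot_left, h i hne, h1,
        show n - i = n - (i + 1) + 1 by omega, pow_succ] at h2
      exact Nat.eq_of_mul_eq_mul_right hp.pos h2
  have hbot : B → c n = ⊥ := fun h => by
    rw [← Subgroup.card_eq_one, hcard h n le_rfl, Nat.sub_self, pow_zero]
  -- the chain condition makes the chain normal
  have hPc : B → ∀ i, P ≤ Subgroup.normalizer (c i : Set L) := by
    intro h i
    induction i with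
    | zero => exact sup_le hGN Subgroup.le_normalizer
    | succ i ih =>
      by_cases hne : c i = ⊥
      · have : c (i + 1) = ⊥ := le_bot_iff.1 (hne ▸ hanti i (i + 1) (Nat.le_succ i))
        rw [this, Subgroup.normalizer_eq_top]
        exact le_top
      have hle : c (i + 1) ≤ ⁅c i, P⁆ := hcs i ▸ Subgroup.commutator_mono le_rfl le_sup_left
      have hlt' := Cfsg.Lib.Components.commutator_pGroup_lt (hN.to_le (hcN i)) hPp ih hne
      have e : ⁅c i, P⁆ = c (i + 1) := by
        have h1 := Subgroup.relIndex_mul_relIndex ⊥ (c (i + 1)) (c i) bot_le (hlt i hne).le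
        rw [Subgroup.relIndex_bot_left, Subgroup.relIndex_bot_left, h i hne] at h1
        have h2 := hstep _ _ hlt' (hcN i)
        exact (Subgroup.eq_of_le_of_card_ge hle (Nat.le_of_mul_le_mul_right (h2.trans h1.ge) hp.pos)).symm
      rw [← e]
      exact Subgroup.normalizer_commutator_ge_right (c i) P
  -- uniseriality
  have huni : B → ∀ H : Subgroup L, H ≤ N → G ≤ Subgroup.normalizer (H : Set L) →
      ∃ i ≤ n, H = c i := by
    intro h H
    induction H using WellFoundedLT.induction with
    | _ H ih =>
      intro hH hGH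
      by_cases hH1 : H = ⊥
      · exact ⟨n, le_rfl, by rw [hH1, hbot h]⟩
      have hHlt := Cfsg.Lib.Components.commutator_pGroup_lt (hN.to_le hH) hG hGH hH1
      obtain ⟨j, hjn, hj⟩ := ih _ hHlt (hHlt.le.trans hH) (Subgroup.normalizer_commutator_ge_right H G)
      -- the last member of the chain containing `H`
      obtain ⟨k, hk, hkmax⟩ : ∃ k, H ≤ c k ∧ ¬ H ≤ c (k + 1) := by
        by_contra hno
        push Not at hno
        have : ∀ k, H ≤ c k := fun k => by
          induction k with
          | zero => exact hH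
          | succ k ihk => exact hno k ihk
        exact hH1 (le_bot_iff.1 (hbot h ▸ this n))
      have hkne : c k ≠ ⊥ := fun e => hH1 (le_bot_iff.1 (e ▸ hk))
      have hkn : k < n := by
        by_contra hh
        exact hkne (le_bot_iff.1 (hbot h ▸ hanti n k (not_lt.1 hh)))
      have hk1 : c (k + 1) ≤ c k := hanti k (k + 1) (Nat.le_succ k)
      -- `c k = H c (k + 1)`
      have hsup : H ⊔ c (k + 1) = c k := by
        have hle : H ⊔ c (k + 1) ≤ c k := sup_le hk hk1
        refine Subgroup.eq_of_le_of_card_ge hle ?_
        have hlt'' : c (k + 1) < H ⊔ c (k + 1) := lt_of_le_of_ne le_sup_right fun e => hkmax (e ▸ le_sup_left)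
        have h1 := hstep _ _ hlt'' (hle.trans (hcN k))
        have h2 := hcard h k hkn.le
        rw [hcard h (k + 1) hkn, ← pow_succ, show n - (k + 1) + 1 = n - k by omega] at h1
        rw [h2]; exact h1
      have hnk : c k ≤ Subgroup.normalizer (c (k + 1) : Set L) :=
        ((hcN k).trans le_sup_right).trans (hPc h (k + 1))
      have hnk2 : c k ≤ Subgroup.normalizer (c (k + 2) : Set L) :=
        ((hcN k).trans le_sup_right).trans (hPc h (k + 2))
      have hjk : c (k + 1) ≤ c j ⊔ c (k + 2) := by
        rw [hcs k, Subgroup.commutator_le]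
        intro x hx g hg
        have hx' : x ∈ ((H ⊔ c (k + 1) : Subgroup L) : Set L) := by rw [hsup]; exact hx
        rw [Subgroup.coe_mul_of_left_le_normalizer_right H _ (hk.trans hnk)] at hx'
        obtain ⟨u, hu, v, hv, rfl⟩ := hx'
        have e : ⁅u * v, g⁆ = (u * ⁅v, g⁆ * u⁻¹) * ⁅u, g⁆ := by
          simp only [commutatorElement_def]; group
        rw [e]
        refine Subgroup.mul_mem _ (Subgroup.mem_sup_right ?_) (Subgroup.mem_sup_left ?_)
        · refine (Subgroup.mem_normalizer_iff.1 (hnk2 (hk hu)) _).1 ?_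
          rw [hcs (k + 1)]
          exact Subgroup.commutator_mem_commutator hv hg
        · rw [← hj]
          exact Subgroup.commutator_mem_commutator hu hg
      have hj1 : j ≤ k + 1 := by
        by_contra hh
        have hle : c (k + 1) ≤ c (k + 2) :=
          hjk.trans (sup_le (hanti (k + 2) j (by omega)) le_rfl)
        have hne : c (k + 1) ≠ ⊥ := fun e => by
          have h1 : c j ≤ c (k + 1) := hanti _ _ (by omega)
          have hlast : n = k + 1 := by
            have h2 := hcard h (k + 1) hkn
            rw [e, Subgroup.card_bot] at h2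
            by_contra hne'
            exact absurd h2.symm (Nat.one_lt_pow (by omega) hp.one_lt).ne'
          omega
        exact (hlt (k + 1) hne).not_ge hle
      refine ⟨k, hkn.le, le_antisymm hk ?_⟩
      rw [← hsup]
      exact sup_le le_rfl ((hanti j (k + 1) hj1).trans (hj.symm.le.trans hHlt.le))
  have hBA : B → A := fun h H hH hGH hH1 => by
    obtain ⟨i, -, rfl⟩ := huni h H hH hGH
    rw [← hcs i]
    exact h i hH1
  refine ⟨⟨fun h => ?_, fun h => ?_⟩, fun h H hH hGH => ?_⟩
  · rcases Nat.eq_zero_or_pos n with h0 | hpos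
    · exact Or.inr h0
    refine Or.inl fun e => ?_
    have h1 := hcard (hAB h) (n - 1) (by omega)
    change Nat.card (c (n - 1)) = _ at h1
    rw [show c (n - 1) = ⊥ from e, Subgroup.card_bot, show n - (n - 1) = 1 by omega, pow_one] at h1
    exact hp.ne_one h1.symm
  · refine hBA ?_
    rcases h with h | h0
    · intro i hi
      have hlast : c (n - 1) ≠ ⊥ := h
      -- the chain loses exactly one factor `p` at each step
      have hn0 : 1 ≤ n := by
        by_contra h0
        have hN1 : N = ⊥ := Subgroup.card_eq_one.1 (by rw [hn, show n = 0 by omega, pow_zero])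
        exact hi (le_bot_iff.1 (hN1 ▸ hcN i))
      have hnb : ∀ m, m ≤ n - 1 → c m ≠ ⊥ := fun m hm e =>
        hlast (le_bot_iff.1 (e ▸ hanti m (n - 1) hm))
      have hup : ∀ m, m ≤ n → Nat.card (c m) * p ^ m ≤ p ^ n := by
        intro m
        induction m with
        | zero => intro _; rw [hc0, hn, pow_zero, mul_one]
        | succ m ih =>
          intro hm
          refine le_trans ?_ (ih (by omega))
          rw [pow_succ', ← mul_assoc]
          exact Nat.mul_le_mul_right _ (hstep _ _ (hlt m (hnb m (by omega))) (hcN m))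
      have hlow : ∀ d, ∀ m, m + d = n → p ^ d ≤ Nat.card (c m) := by
        intro d
        induction d with
        | zero => intro m _; rw [pow_zero]; exact Nat.card_pos
        | succ d ih =>
          intro m hm
          rw [pow_succ]
          exact (Nat.mul_le_mul_right p (ih (m + 1) (by omega))).trans
            (hstep _ _ (hlt m (hnb m (by omega))) (hcN m))
      have hex : ∀ m, m ≤ n → Nat.card (c m) = p ^ (n - m) := by
        intro m hm
        refine le_antisymm ?_ (hlow (n - m) m (by omega))
        refine Nat.le_of_mul_le_mul_right ?_ (pow_pos hp.pos m)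
        rw [← pow_add, Nat.sub_add_cancel hm]
        exact hup m hm
      have hin : i < n := by
        by_contra hh
        refine hi (le_bot_iff.1 ?_)
        have hn' : c n = ⊥ := Subgroup.card_eq_one.1 (by rw [hex n le_rfl, Nat.sub_self, pow_zero])
        exact hn' ▸ hanti n i (not_lt.1 hh)
      have h1 := Subgroup.relIndex_mul_relIndex ⊥ (c (i + 1)) (c i) bot_le (hlt i hi).le
      rw [Subgroup.relIndex_bot_left, Subgroup.relIndex_bot_left, hex i hin.le, hex (i + 1) hin,
        show n - i = n - (i + 1) + 1 by omega, pow_succ] at h1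
      exact Nat.eq_of_mul_eq_mul_left (pow_pos hp.pos _) h1
    · intro i hi
      have hN1 : N = ⊥ := Subgroup.card_eq_one.1 (by rw [hn, h0, pow_zero])
      exact absurd (le_bot_iff.1 (hN1 ▸ hcN i)) hi
  · obtain ⟨i, hin, rfl⟩ := huni (hAB h) H hH hGH
    exact ⟨⟨i, hin, rfl⟩, le_sup_right.trans (hPc (hAB h) i)⟩

end Cfsg.Agent.S0663
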