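import Cfsg.Statements.S0666
import Cfsg.Agent.Frobenius.Kernel


set_option autoImplicit false
open Cfsg

namespace Cfsg.Agent.S0666

/-- A Frobenius group acting on a nontrivial abelian group of order prime to that of its kernel, with the kernel acting without nontrivial fixed points, has a complement with a nontrivial fixed point. -/
theorem result {G : Type*} [Group G] [Finite G] (V F : Subgroup G) (hVab : IsMulCommutative V) (hV1 : V ≠ ⊥) (hFV : F ≤ Subgroup.normalizer (V : Set G)) (H : Subgroup ↥F) (hH : Cfsg.IsFrobeniusComplement H) (hcop : (Nat.card V).Coprime (Nat.card (Cfsg.frobeniusKernel H))) (hCK : V ⊓ Subgroup.centralizer (Subtype.val '' Cfsg.frobeniusKernel H : Set G) = ⊥) : V ⊓ Subgroup.centralizer ((H.map F.subtype : Subgroup G) : Set G) ≠ ⊥ := by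
  classical
  haveI := hVab
  obtain ⟨N, hN, hNn, hNH⟩ := Cfsg.Lib.Frobenius.exists_kernel hH
  intro hHV
  let _ : CommGroup ↥V := { (inferInstance : Group ↥V) with
    mul_comm := fun a b => Std.Commutative.comm a b }
  let φ : ↥F →* MulAut ↥V := (Subgroup.normalizerMonoidHom V).comp (Subgroup.inclusion hFV)
  have hφ : ∀ (f : ↥F) (v : ↥V), ((φ f v : ↥V) : G) = (f : G) * v * (f : G)⁻¹ := fun f v => rfl
  have hfixmem : ∀ (P : Subgroup ↥F) (w : ↥V), (∀ p ∈ P, φ p w = w) →
      (w : G) ∈ V ⊓ Subgroup.centralizer ((P.map F.subtype : Subgroup G) : Set G) := by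
    intro P w hw
    refine Subgroup.mem_inf.2 ⟨w.2, Subgroup.mem_centralizer_iff.2 ?_⟩
    rintro _ ⟨p, hp, rfl⟩
    have h := congrArg (fun x : ↥V => (x : G)) (hw p hp)
    simp only [hφ] at h
    show (p : G) * w = w * p
    calc (p : G) * w = ((p : G) * w * (p : G)⁻¹) * p := by group
      _ = w * p := by rw [h]
  haveI := Fintype.ofFinite ↥F
  haveI := Fintype.ofFinite ↥H
  haveI := Fintype.ofFinite ↥N
  have hfixH : ∀ w : ↥V, (∀ p ∈ H, φ p w = w) → w = 1 := by
    intro w hw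
    have h := hfixmem H w hw
    rw [hHV, Subgroup.mem_bot] at h
    exact Subtype.ext h
  have hfixN : ∀ w : ↥V, (∀ p ∈ N, φ p w = w) → w = 1 := by
    intro w hw
    have h := hfixmem N w hw
    have e : ((N.map F.subtype : Subgroup G) : Set G) =
        (Subtype.val '' Cfsg.frobeniusKernel H : Set G) := by
      rw [Subgroup.coe_map, hN]; rfl
    rw [e, hCK, Subgroup.mem_bot] at h
    exact Subtype.ext h
  have hprodH : ∀ v : ↥V, ∏ h : ↥H, φ (h : ↥F) v = 1 := by
    intro v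
    apply hfixH
    intro p hp
    rw [map_prod]
    exact Fintype.prod_equiv (Equiv.mulLeft (⟨p, hp⟩ : ↥H)) _ _
      (fun h => by simp [map_mul])
  have hprodN : ∀ v : ↥V, ∏ n : ↥N, φ (n : ↥F) v = 1 := by
    intro v
    apply hfixN
    intro p hp
    rw [map_prod]
    exact Fintype.prod_equiv (Equiv.mulLeft (⟨p, hp⟩ : ↥N)) _ _
      (fun h => by simp [map_mul])
  have hprodF : ∀ v : ↥V, ∏ f : ↥F, φ f v = 1 := by
    intro v
    apply hfixN
    intro p hp
    rw [map_prod]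
    exact Fintype.prod_equiv (Equiv.mulLeft p) _ _ (fun h => by simp [map_mul])
  apply hV1
  rw [Subgroup.eq_bot_iff_forall]
  intro v0 hv0
  let v : ↥V := ⟨v0, hv0⟩
  suffices hv : v = 1 from congrArg (fun x : ↥V => (x : G)) hv
  have hinner : ∀ n : ↥N,
      ∏ h ∈ Finset.univ.erase (1 : ↥H), φ ((n : ↥F) * h * (n : ↥F)⁻¹) v = v⁻¹ := by
    intro n
    have h1 : ∏ h : ↥H, φ ((n : ↥F) * h * (n : ↥F)⁻¹) v = 1 := by
      have e : ∀ h : ↥H, φ ((n : ↥F) * h * (n : ↥F)⁻¹) v =
          φ (n : ↥F) (φ (h : ↥F) (φ (n : ↥F)⁻¹ v)) := fun h => by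
        simp only [map_mul, MulAut.mul_apply]
      simp only [e, ← map_prod, hprodH, map_one]
    rw [← Finset.mul_prod_erase Finset.univ _ (Finset.mem_univ (1 : ↥H))] at h1
    simp only [OneMemClass.coe_one, mul_one, mul_inv_cancel, map_one, MulAut.one_apply] at h1
    exact eq_inv_of_mul_eq_one_right h1
  have hNotN : ∀ (n : ↥N) (h : ↥H), h ≠ 1 → (n : ↥F) * h * (n : ↥F)⁻¹ ∉ N := by
    intro n h hne hmem
    have hh : (h : ↥F) ∈ N := by
      have := hNn.conj_mem _ hmem (n : ↥F)⁻¹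
      simpa [mul_assoc] using this
    have hm : (h : ↥F) ∈ N ⊓ H := ⟨hh, h.2⟩
    rw [hNH.isCompl.inf_eq_bot, Subgroup.mem_bot] at hm
    exact hne (Subtype.ext hm)
  have hbij : ∏ x ∈ (Finset.univ : Finset ↥N) ×ˢ Finset.univ.erase (1 : ↥H),
      φ ((x.1 : ↥F) * x.2 * (x.1 : ↥F)⁻¹) v =
      ∏ f ∈ Finset.univ.filter (fun f : ↥F => ¬ f ∈ N), φ f v := by
    refine Finset.prod_bij (fun x _ => (x.1 : ↥F) * x.2 * (x.1 : ↥F)⁻¹) ?_ ?_ ?_ ?_
    · intro x hx
      simp only [Finset.mem_product, Finset.mem_erase] at hx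
      simp [hNotN x.1 x.2 hx.2.1]
    · rintro ⟨n, h⟩ hx ⟨n', h'⟩ hx' he
      simp only [Finset.mem_product, Finset.mem_erase] at hx hx'
      dsimp only at he
      -- modulo the kernel the two complement components agree
      have hk : (h : ↥F) * (h' : ↥F)⁻¹ ∈ N := by
        have e : (h : ↥F) * (h' : ↥F)⁻¹ =
            (n : ↥F)⁻¹ * n' * (h' * ((n' : ↥F)⁻¹ * n) * (h' : ↥F)⁻¹) := by
          have : (h : ↥F) = (n : ↥F)⁻¹ * ((n' : ↥F) * h' * (n' : ↥F)⁻¹) * n := by
            rw [← he]; group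
          rw [this]; group
        rw [e]
        exact N.mul_mem (N.mul_mem (N.inv_mem n.2) n'.2)
          (hNn.conj_mem _ (N.mul_mem (N.inv_mem n'.2) n.2) _)
      have hm : (h : ↥F) * (h' : ↥F)⁻¹ ∈ N ⊓ H := ⟨hk, H.mul_mem h.2 (H.inv_mem h'.2)⟩
      rw [hNH.isCompl.inf_eq_bot, Subgroup.mem_bot, mul_inv_eq_one] at hm
      obtain rfl : h = h' := Subtype.ext hm
      have hc : (h : ↥F) * ((n : ↥F)⁻¹ * n') = ((n : ↥F)⁻¹ * n') * h := by
        calc (h : ↥F) * ((n : ↥F)⁻¹ * n') = (n : ↥F)⁻¹ * ((n : ↥F) * h * (n : ↥F)⁻¹) * n' := by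
              group
          _ = (n : ↥F)⁻¹ * ((n' : ↥F) * h * (n' : ↥F)⁻¹) * n' := by rw [he]
          _ = _ := by group
      have hne : (h : ↥F) ≠ 1 := fun e => hx.2.1 (Subtype.ext e)
      have hH' : (n : ↥F)⁻¹ * n' ∈ H :=
        Cfsg.Lib.Frobenius.mem_of_commute hH h.2 hne hc.symm
      have hm' : (n : ↥F)⁻¹ * n' ∈ N ⊓ H := ⟨N.mul_mem (N.inv_mem n.2) n'.2, hH'⟩
      rw [hNH.isCompl.inf_eq_bot, Subgroup.mem_bot, inv_mul_eq_one] at hm'
      rw [Subtype.ext hm']
    · intro f hf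
      simp only [Finset.mem_filter, Finset.mem_univ, true_and] at hf
      have hf' : f ∉ Cfsg.frobeniusKernel H := by rwa [← hN]
      simp only [Cfsg.frobeniusKernel, Set.mem_setOf_eq, not_or, not_forall, not_not] at hf'
      obtain ⟨hf1, g, hg⟩ := hf'
      rw [Subgroup.mem_pointwise_smul_iff_inv_smul_mem, MulAut.smul_def] at hg
      simp only [MulAut.conj_inv_apply] at hg
      obtain ⟨⟨n, h0⟩, hnh⟩ := hNH.2 g
      have hg' : (h0 : ↥F) * (g⁻¹ * f * g) * (h0 : ↥F)⁻¹ ∈ H :=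
        H.mul_mem (H.mul_mem h0.2 hg) (H.inv_mem h0.2)
      refine ⟨⟨n, ⟨_, hg'⟩⟩, ?_, ?_⟩
      · simp only [Finset.mem_product, Finset.mem_erase, Finset.mem_univ, ne_eq, true_and,
          and_true]
        intro e
        apply hf1
        have e' := congrArg (fun x : ↥H => (x : ↥F)) e
        simp only [OneMemClass.coe_one, mul_inv_eq_one] at e'
        have e2 : g⁻¹ * f * g = 1 := mul_left_cancel (e'.trans (mul_one _).symm)
        rw [mul_assoc, inv_mul_eq_iff_eq_mul, mul_one] at e2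
        exact mul_right_cancel (e2.trans (one_mul g).symm)
      · dsimp only at hnh ⊢
        rw [← hnh]; group
    · intro x _; rfl
  have hsplit : (∏ f ∈ Finset.univ.filter (fun f : ↥F => f ∈ N), φ f v) *
      ∏ f ∈ Finset.univ.filter (fun f : ↥F => ¬ f ∈ N), φ f v = 1 := by
    rw [Finset.prod_filter_mul_prod_filter_not, hprodF]
  have hNsum : ∏ f ∈ Finset.univ.filter (fun f : ↥F => f ∈ N), φ f v = 1 := by
    rw [← hprodN v]
    exact Finset.prod_subtype _ (by simp) _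
  rw [hNsum, one_mul, ← hbij, Finset.prod_product,
    Finset.prod_congr rfl (fun n _ => hinner n), Finset.prod_const, Finset.card_univ,
    inv_pow, inv_eq_one, ← Nat.card_eq_fintype_card] at hsplit
  have hc : (Nat.card ↥V).Coprime (Nat.card ↥N) := by
    have : Nat.card (Cfsg.frobeniusKernel H) = Nat.card ↥N := by
      rw [← hN]; rfl
    rwa [this] at hcop
  exact orderOf_eq_one_iff.1 (Nat.eq_one_of_dvd_coprimes hc (orderOf_dvd_natCard v)
    (orderOf_dvd_of_pow_eq_one hsplit))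

end Cfsg.Agent.S0666
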