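import Cfsg.Statements.S0668
import Mathlib

set_option autoImplicit false
open Cfsg

namespace Cfsg.Agent.S0668

/-- The equivariant linear maps between the permutation modules of two finite `G`-sets form a space whose dimension is the number of `G`-orbits on the product of the two sets. -/
theorem result {G : Type*} [Group G] {K : Type*} [Field K] {Ω₁ Ω₂ : Type*} [Fintype Ω₁] [Fintype Ω₂] [MulAction G Ω₁] [MulAction G Ω₂] : Module.finrank K ((Cfsg.permRep K G Ω₁).linHom (Cfsg.permRep K G Ω₂)).invariants = Nat.card (MulAction.orbitRel.Quotient G (Ω₁ × Ω₂)) := by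
  classical
  let Q := MulAction.orbitRel.Quotient G (Ω₁ × Ω₂)
  let V := ((Cfsg.permRep K G Ω₁).linHom (Cfsg.permRep K G Ω₂)).invariants
  have hinv : ∀ (f : (Ω₁ → K) →ₗ[K] (Ω₂ → K)), f ∈ V ↔
      ∀ (g : G) (a : Ω₁) (b : Ω₂), f (Pi.single (g • a) 1) (g • b) = f (Pi.single a 1) b := fun f => by
    have hs : ∀ (g : G) (a : Ω₁), Cfsg.permRep K G Ω₁ g (Pi.single a 1) = Pi.single (g • a) 1 := fun g a => by
      funext z
      show (Pi.single a 1 : Ω₁ → K) (g⁻¹ • z) = _
      simp only [Pi.single_apply, inv_smul_eq_iff]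
    constructor
    · intro h g a b
      have h1 := congrFun (LinearMap.congr_fun (h g) (Pi.single (g • a) 1)) (g • b)
      simp only [Representation.linHom_apply, LinearMap.comp_apply] at h1
      rw [hs g⁻¹, inv_smul_smul] at h1
      change f (Pi.single a 1) (g⁻¹ • g • b) = _ at h1
      rw [inv_smul_smul] at h1
      exact h1.symm
    · intro h g
      refine (Pi.basisFun K Ω₁).ext fun a => funext fun b => ?_
      simp only [Representation.linHom_apply, LinearMap.comp_apply, Pi.basisFun_apply]
      rw [hs g⁻¹]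
      show f (Pi.single (g⁻¹ • a) 1) (g⁻¹ • b) = _
      rw [h]
  let e : V ≃ₗ[K] (Q → K) :=
    LinearEquiv.ofBijective
      { toFun := fun f q => f.1 (Pi.single q.out.1 1) q.out.2
        map_add' := fun f f' => rfl
        map_smul' := fun c f => rfl } (by
    have key : ∀ (f : V) (a : Ω₁) (b : Ω₂), f.1 (Pi.single (Quotient.out (Quotient.mk'' (a, b) : Q)).1 1)
        (Quotient.out (Quotient.mk'' (a, b) : Q)).2 = f.1 (Pi.single a 1) b := fun f a b => by
      obtain ⟨g, hg⟩ := MulAction.orbitRel_apply.1 (Quotient.mk_out (s := MulAction.orbitRel G (Ω₁ × Ω₂)) (a, b))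
      have e : (g • a, g • b) = Quotient.out (Quotient.mk'' (a, b) : Q) := hg
      rw [← e]
      exact (hinv f.1).1 f.2 g a b
    constructor
    · intro f f' h
      refine Subtype.ext ((Pi.basisFun K Ω₁).ext fun a => funext fun b => ?_)
      have := congrFun h (Quotient.mk'' (a, b))
      simp only [LinearMap.coe_mk, AddHom.coe_mk, key] at this
      rw [Pi.basisFun_apply]; exact this
    · intro φ
      let F : (Ω₁ → K) →ₗ[K] (Ω₂ → K) := (Pi.basisFun K Ω₁).constr K fun a b => φ (Quotient.mk'' (a, b))
      have hF : ∀ a b, F (Pi.single a 1) b = φ (Quotient.mk'' (a, b)) := fun a b => by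
        rw [← Pi.basisFun_apply, Module.Basis.constr_basis]
      refine ⟨⟨F, (hinv F).2 fun g a b => ?_⟩, funext fun q => ?_⟩
      · rw [hF, hF]
        exact congrArg φ (Quotient.sound' (MulAction.orbitRel_apply.2 ⟨g, rfl⟩))
      · show F (Pi.single q.out.1 1) q.out.2 = φ q
        rw [hF]
        exact congrArg φ q.out_eq')
  let : Fintype Q := Fintype.ofFinite Q
  rw [e.finrank_eq, Module.finrank_fintype_fun_eq_card, Nat.card_eq_fintype_card]

end Cfsg.Agent.S0668
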