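import Cfsg.Statements.S0670
import Mathlib
import Cfsg.Agent.Classical.Misc.FixFree

set_option autoImplicit false
open Cfsg

namespace Cfsg.Agent.S0670

/-- In characteristic `p`, the permutation module of a transitive action of degree `p ^ f` has the line of constant functions as its only irreducible submodule: every non-zero subrepresentation contains it. -/
theorem result {G : Type*} [Group G] [Finite G] {K : Type*} [Field K] {p f : ℕ} [Fact p.Prime] [CharP K p] {Ω : Type*} [Fintype Ω] [MulAction G Ω] [MulAction.IsPretransitive G Ω] (hf : 1 ≤ f) (hcard : Fintype.card Ω = p ^ f) (W : Subrepresentation (Cfsg.permRep K G Ω)) (hW : W.toSubmodule ≠ ⊥) : (Cfsg.permConstants K G Ω).toSubmodule ≤ W.toSubmodule := by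
  classical
  let : Algebra (ZMod p) K := ZMod.algebra K p
  obtain ⟨w, hw, hw0⟩ := Submodule.exists_mem_ne_zero_of_ne_bot hW
  obtain ⟨P⟩ : Nonempty (Sylow p G) := inferInstance
  let S : Submodule (ZMod p) (Ω → K) := Submodule.span (ZMod p) (Set.range fun g : (P : Subgroup G) => Cfsg.permRep K G Ω g w)
  have hSW : ∀ v ∈ S, v ∈ W.toSubmodule := fun v hv => by
    refine (Submodule.span_le (p := W.toSubmodule.restrictScalars (ZMod p))).2 ?_ hv
    rintro _ ⟨g, rfl⟩
    exact W.apply_mem_toSubmodule g hw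
  have hSinv : ∀ (g : (P : Subgroup G)) (v : Ω → K), v ∈ S → Cfsg.permRep K G Ω g v ∈ S := fun g v hv => by
    have : S ≤ S.comap ((Cfsg.permRep K G Ω g).restrictScalars (ZMod p)) := Submodule.span_le.2 (by
      rintro _ ⟨h, rfl⟩
      refine Submodule.subset_span ⟨g * h, ?_⟩
      simp [map_mul])
    exact this hv
  let : MulAction (P : Subgroup G) S :=
    { smul := fun g v => ⟨Cfsg.permRep K G Ω g v, hSinv g v v.2⟩
      one_smul := fun v => Subtype.ext (by show Cfsg.permRep K G Ω (1 : G) v = v; rw [map_one]; rfl)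
      mul_smul := fun g h v => Subtype.ext (by show Cfsg.permRep K G Ω ((g : G) * h) v = _; rw [map_mul]; rfl) }
  have : Module.Finite (ZMod p) S := Module.Finite.span_of_finite _ (Set.finite_range _)
  have : Finite S := Module.finite_of_finite (ZMod p)
  have hwS : w ∈ S := Submodule.subset_span ⟨1, by simp⟩
  have hpS : p ∣ Nat.card S := by
    rw [Module.natCard_eq_pow_finrank (K := ZMod p), Nat.card_zmod]
    refine dvd_pow_self p fun h0 => hw0 ?_
    exact (Submodule.mem_bot _).1 ((Submodule.finrank_eq_zero.1 h0) ▸ hwS)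
  obtain ⟨v, hv, hv0⟩ := P.2.exists_fixed_point_of_prime_dvd_card_of_fixed_point S hpS
    (a := (0 : S)) (fun g => Subtype.ext (map_zero (Cfsg.permRep K G Ω g)))
  have hconst : ∀ x y : Ω, (v : Ω → K) x = (v : Ω → K) y := fun x y => by
    have hfix : ∀ (g : (P : Subgroup G)) (z : Ω), (v : Ω → K) ((g : G)⁻¹ • z) = (v : Ω → K) z := fun g z =>
      congrFun (congrArg Subtype.val (hv g)) z
    have hd := Cfsg.Lib.Classical.FixFreeElt.pow_dvd_orbit (p := p) (c := f) ‹_› (by rw [hcard]) P x
    rw [← (MulAction.stabilizer (P : Subgroup G) x).card_mul_index, MulAction.index_stabilizer, mul_comm] at hd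
    have hle := Nat.le_of_dvd ((Set.ncard_pos (Set.toFinite _)).2 ⟨x, MulAction.mem_orbit_self x⟩) (Nat.dvd_of_mul_dvd_mul_left Nat.card_pos hd)
    have huniv : MulAction.orbit (P : Subgroup G) x = Set.univ :=
      Set.eq_of_subset_of_ncard_le (Set.subset_univ _) (by rw [Set.ncard_univ, Nat.card_eq_fintype_card, hcard]; exact hle)
    obtain ⟨g, hg⟩ : y ∈ MulAction.orbit (P : Subgroup G) x := by rw [huniv]; trivial
    rw [← hfix g y, ← hg]
    show _ = (v : Ω → K) ((g : G)⁻¹ • (g : G) • x)
    rw [inv_smul_smul]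
  obtain ⟨x⟩ : Nonempty Ω := Fintype.card_pos_iff.1 (by rw [hcard]; exact pow_pos (Fact.out : p.Prime).pos _)
  have hfx : (v : Ω → K) x ≠ 0 := fun h => hv0 (Subtype.ext (funext fun y => ((hconst x y).symm.trans h).symm))
  refine Submodule.span_le.2 ?_
  rintro _ rfl
  have := W.toSubmodule.smul_mem ((v : Ω → K) x)⁻¹ (hSW _ v.2)
  show (fun _ => (1 : K)) ∈ W.toSubmodule
  convert this using 1
  funext y
  simp [← hconst x y, inv_mul_cancel₀ hfx]

end Cfsg.Agent.S0670
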