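import Cfsg.Statements.S0671
import Mathlib
import Cfsg.Agent.S0670

set_option autoImplicit false
open Cfsg

namespace Cfsg.Agent.S0671

/-- If the heart of the permutation module in characteristic `p` of a transitive action of degree `p ^ f` has no trivial composition factor, the action is doubly transitive. The hypothesis is phrased without composition series: no invariant subspaces `W < W'` between the constants and the sum-zero functions with trivial action on the quotient. -/
theorem result {G : Type*} [Group G] [Finite G] {K : Type*} [Field K] {p f : ℕ} [Fact p.Prime] [CharP K p] {Ω : Type*} [Fintype Ω] [MulAction G Ω] [MulAction.IsPretransitive G Ω] (hf : 1 ≤ f) (hcard : Fintype.card Ω = p ^ f) (h : ∀ W W' : Subrepresentation (Cfsg.permRep K G Ω), (Cfsg.permConstants K G Ω).toSubmodule ≤ W.toSubmodule → W.toSubmodule < W'.toSubmodule → W'.toSubmodule ≤ (Cfsg.permSumZero K G Ω).toSubmodule → ∃ g : G, ∃ v ∈ W'.toSubmodule, Cfsg.permRep K G Ω g v - v ∉ W.toSubmodule) : MulAction.IsMultiplyPretransitive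 G Ω 2 := by
  classical
  set ρ := Cfsg.permRep K G Ω
  have hρ : ∀ (g : G) (v : Ω → K) (x : Ω), ρ g v x = v (g⁻¹ • x) := fun _ _ _ => rfl
  have hsum : ∀ v : Ω → K, v ∈ (Cfsg.permSumZero K G Ω).toSubmodule ↔ ∑ x, v x = 0 := fun v => Iff.rfl
  -- the sum-zero functions are the only maximal subrepresentation
  have hmax : ∀ U : Subrepresentation ρ, U.toSubmodule ≠ ⊤ → ∀ u ∈ U.toSubmodule, ∑ x, u x = 0 := by
    intro U hU u hu
    let D : Submodule K (Ω → K) :=
      { carrier := {w | ∀ v ∈ U.toSubmodule, ∑ x, w x * v x = 0}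
        add_mem' := fun {a b} ha hb v hv => by simp [add_mul, Finset.sum_add_distrib, ha v hv, hb v hv]
        zero_mem' := fun v hv => by simp
        smul_mem' := fun c {a} ha v hv => by simp [mul_assoc, ← Finset.mul_sum, ha v hv] }
    let D' : Subrepresentation ρ := ⟨D, fun g w hw v hv => by
      have h1 := hw (ρ g⁻¹ v) (U.apply_mem_toSubmodule _ hv)
      rw [← h1]
      refine Fintype.sum_equiv (MulAction.toPerm g⁻¹) _ _ fun x => ?_
      show w (g⁻¹ • x) * v x = w (g⁻¹ • x) * v (g⁻¹⁻¹ • g⁻¹ • x)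
      rw [inv_inv, smul_inv_smul]⟩
    have hne : D'.toSubmodule ≠ ⊥ := by
      obtain ⟨φ, hφ0, hφ⟩ := Submodule.exists_le_ker_of_lt_top _ (lt_top_iff_ne_top.2 hU)
      have hrep : ∀ v, φ v = ∑ x, φ (Pi.single x 1) * v x := fun v => by
        conv_lhs => rw [pi_eq_sum_univ' v]
        simp [map_sum, mul_comm]
      refine (Submodule.ne_bot_iff _).2 ⟨fun x => φ (Pi.single x 1), fun v hv => by rw [← hrep]; exact hφ hv, fun h0 => hφ0 ?_⟩
      refine LinearMap.ext fun v => ?_
      rw [hrep v]
      simp [show ∀ x, φ (Pi.single x 1) = 0 from fun x => congrFun h0 x]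
    have h1 := Cfsg.Agent.S0670.result hf hcard D' hne (Submodule.mem_span_singleton_self _) u hu
    simpa using h1
  have hp0 : (Fintype.card Ω : K) = 0 := by
    rw [hcard, Nat.cast_pow, CharP.cast_eq_zero, zero_pow (by omega)]
  have hCS : (Cfsg.permConstants K G Ω).toSubmodule ≤ (Cfsg.permSumZero K G Ω).toSubmodule := Submodule.span_le.2 (by
    rintro _ rfl; exact (hsum _).2 (by simp [hp0]))
  -- an equivariant map killing the trivial module and landing in sum-zero functions has constant matrix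
  have hT : ∀ T : (Ω → K) →ₗ[K] (Ω → K), (∀ g v, T (ρ g v) = ρ g (T v)) → (∀ v, ∑ x, T v x = 0) → T (fun _ => 1) = 0 →
      ∀ v, T v ∈ (Cfsg.permConstants K G Ω).toSubmodule := by
    intro T hT hTS hT1
    by_contra hne
    push Not at hne
    obtain ⟨v₀, hv₀⟩ := hne
    set C := (Cfsg.permConstants K G Ω).toSubmodule
    set S := (Cfsg.permSumZero K G Ω).toSubmodule
    let W' : Subrepresentation ρ := ⟨LinearMap.range T ⊔ C, fun g w hw => by
      obtain ⟨x, hx, y, hy, rfl⟩ := Submodule.mem_sup.1 hw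
      obtain ⟨z, rfl⟩ := hx
      rw [map_add]
      exact Submodule.add_mem_sup ⟨ρ g z, hT g z⟩ ((Cfsg.permConstants K G Ω).apply_mem_toSubmodule g hy)⟩
    let W : Subrepresentation ρ := ⟨S.map T ⊔ C, fun g w hw => by
      obtain ⟨x, hx, y, hy, rfl⟩ := Submodule.mem_sup.1 hw
      obtain ⟨z, hz, rfl⟩ := hx
      rw [map_add]
      exact Submodule.add_mem_sup ⟨ρ g z, (Cfsg.permSumZero K G Ω).apply_mem_toSubmodule g hz, hT g z⟩ ((Cfsg.permConstants K G Ω).apply_mem_toSubmodule g hy)⟩
    have hle : W.toSubmodule ≤ W'.toSubmodule := sup_le_sup_right (LinearMap.map_le_range) _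
    have heq : W.toSubmodule = W'.toSubmodule := by
      by_contra hlt
      obtain ⟨g, v, hv, hgv⟩ := h W W' le_sup_right (lt_of_le_of_ne hle hlt)
        (sup_le (by rintro _ ⟨z, rfl⟩; exact (hsum _).2 (hTS z)) hCS)
      obtain ⟨x, hx, y, hy, rfl⟩ := Submodule.mem_sup.1 hv
      obtain ⟨z, rfl⟩ := hx
      apply hgv
      rw [map_add, add_sub_add_comm, ← hT, ← map_sub]
      refine Submodule.add_mem_sup ⟨ρ g z - z, (hsum _).2 ?_, rfl⟩ (C.sub_mem ((Cfsg.permConstants K G Ω).apply_mem_toSubmodule g hy) hy)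
      simp only [Pi.sub_apply, Finset.sum_sub_distrib, sub_eq_zero, hρ]
      exact Fintype.sum_equiv (MulAction.toPerm g⁻¹) _ _ fun x => rfl
    let U : Subrepresentation ρ := ⟨C.comap T, fun g v hv => by
      show T (ρ g v) ∈ C
      rw [hT]; exact (Cfsg.permConstants K G Ω).apply_mem_toSubmodule g hv⟩
    have hU := hmax U (fun htop => hv₀ (show v₀ ∈ U.toSubmodule by rw [htop]; trivial))
    obtain ⟨a⟩ : Nonempty Ω := Fintype.card_pos_iff.1 (by rw [hcard]; exact pow_pos (Fact.out : p.Prime).pos _)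
    have hmem : T (Pi.single a 1) ∈ W.toSubmodule := by rw [heq]; exact Submodule.mem_sup_left ⟨_, rfl⟩
    obtain ⟨x, hx, y, hy, hxy⟩ := Submodule.mem_sup.1 hmem
    obtain ⟨z, hz, rfl⟩ := hx
    have h2 := hU (Pi.single a 1 - z) (show T (_ - z) ∈ C by rw [map_sub, ← hxy, add_sub_cancel_left]; exact hy)
    rw [show ∑ x, ((Pi.single a (1 : K) : Ω → K) - z) x = 1 by simp [Finset.sum_sub_distrib, (hsum z).1 hz]] at h2
    exact one_ne_zero h2
  -- every point stabiliser is transitive on the other points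
  rw [MulAction.is_two_pretransitive_iff]
  intro a b c d hab hcd
  by_contra hno
  push Not at hno
  let T : (Ω → K) →ₗ[K] (Ω → K) :=
    { toFun := fun v x => ∑ y, (if ∃ g : G, g • a = y ∧ g • b = x then v y - v x else 0)
      map_add' := fun v w => funext fun x => by
        simp only [Pi.add_apply, ← Finset.sum_add_distrib]
        exact Finset.sum_congr rfl fun y _ => by split_ifs <;> ring
      map_smul' := fun r v => funext fun x => by
        simp only [Pi.smul_apply, smul_eq_mul, RingHom.id_apply, Finset.mul_sum]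
        exact Finset.sum_congr rfl fun y _ => by split_ifs <;> ring }
  have hTG : ∀ g v, T (ρ g v) = ρ g (T v) := fun g v => funext fun x => by
    show ∑ y, _ = ∑ y, _
    refine Fintype.sum_equiv (MulAction.toPerm g⁻¹) _ _ fun y => ?_
    have hiff : (∃ k : G, k • a = y ∧ k • b = x) ↔ ∃ k : G, k • a = g⁻¹ • y ∧ k • b = g⁻¹ • x := by
      constructor
      · rintro ⟨k, h1, h2⟩; exact ⟨g⁻¹ * k, by rw [mul_smul, h1], by rw [mul_smul, h2]⟩
      · rintro ⟨k, h1, h2⟩; exact ⟨g * k, by rw [mul_smul, h1, smul_inv_smul], by rw [mul_smul, h2, smul_inv_smul]⟩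
    simp only [MulAction.toPerm_apply, hρ]
    by_cases hc : ∃ k : G, k • a = y ∧ k • b = x
    · rw [if_pos hc, if_pos (hiff.1 hc)]
    · rw [if_neg hc, if_neg fun h' => hc (hiff.2 h')]
  have hT1 : T (fun _ => 1) = 0 := funext fun x => Finset.sum_eq_zero fun y _ => by simp
  -- in- and out-degree of the orbital agree
  have hout : ∀ y : Ω, (Finset.univ.filter fun x => ∃ g : G, g • a = y ∧ g • b = x).card = (Finset.univ.filter fun x => ∃ g : G, g • a = a ∧ g • b = x).card := fun y => by
    obtain ⟨k, hk⟩ := MulAction.exists_smul_eq G a y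
    symm
    refine Finset.card_equiv (MulAction.toPerm k) fun x => ?_
    simp only [Finset.mem_filter, Finset.mem_univ, true_and, MulAction.toPerm_apply]
    constructor
    · rintro ⟨g, h1, h2⟩; exact ⟨k * g, by rw [mul_smul, h1, hk], by rw [mul_smul, h2]⟩
    · rintro ⟨g, h1, h2⟩; exact ⟨k⁻¹ * g, by rw [mul_smul, h1, inv_smul_eq_iff, hk], by rw [mul_smul, h2, inv_smul_smul]⟩
  have hin : ∀ x : Ω, (Finset.univ.filter fun y => ∃ g : G, g • a = y ∧ g • b = x).card = (Finset.univ.filter fun y => ∃ g : G, g • a = y ∧ g • b = b).card := fun x => by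
    obtain ⟨k, hk⟩ := MulAction.exists_smul_eq G b x
    symm
    refine Finset.card_equiv (MulAction.toPerm k) fun y => ?_
    simp only [Finset.mem_filter, Finset.mem_univ, true_and, MulAction.toPerm_apply]
    constructor
    · rintro ⟨g, h1, h2⟩; exact ⟨k * g, by rw [mul_smul, h1], by rw [mul_smul, h2, hk]⟩
    · rintro ⟨g, h1, h2⟩; exact ⟨k⁻¹ * g, by rw [mul_smul, h1, inv_smul_smul], by rw [mul_smul, h2, inv_smul_eq_iff, hk]⟩
  have hdeg : (Finset.univ.filter fun x => ∃ g : G, g • a = a ∧ g • b = x).card = (Finset.univ.filter fun y => ∃ g : G, g • a = y ∧ g • b = b).card := by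
    have h1 := Finset.sum_card_bipartiteAbove_eq_sum_card_bipartiteBelow (fun y x : Ω => ∃ g : G, g • a = y ∧ g • b = x) (s := Finset.univ) (t := Finset.univ)
    simp only [Finset.bipartiteAbove, Finset.bipartiteBelow, hout, hin, Finset.sum_const, smul_eq_mul, Finset.card_univ] at h1
    exact Nat.eq_of_mul_eq_mul_left (Fintype.card_pos_iff.2 ⟨a⟩) h1
  have hTS : ∀ v, ∑ x, T v x = 0 := fun v => by
    have e : ∀ x, T v x = (∑ y, if ∃ g : G, g • a = y ∧ g • b = x then v y else 0) - ∑ y, if ∃ g : G, g • a = y ∧ g • b = x then v x else 0 := fun x => by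
      rw [← Finset.sum_sub_distrib]
      exact Finset.sum_congr rfl fun y _ => by split_ifs <;> simp
    simp only [e, Finset.sum_sub_distrib]
    rw [Finset.sum_comm, sub_eq_zero]
    refine Finset.sum_congr rfl fun y _ => ?_
    simp only [← Finset.sum_filter, Finset.sum_const, nsmul_eq_mul, hout y, hin y, hdeg]
  obtain ⟨k, hk⟩ := MulAction.exists_smul_eq G c a
  obtain ⟨r, hr⟩ := Submodule.mem_span_singleton.1 (hT T hTG hTS hT1 (Pi.single a 1))
  have val : ∀ x, x ≠ a → T (Pi.single a 1) x = if ∃ g : G, g • a = a ∧ g • b = x then 1 else 0 := fun x hx => by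
    show ∑ y, _ = _
    rw [Finset.sum_eq_single a (fun y _ hy => ?_) (fun h' => absurd (Finset.mem_univ a) h')]
    · simp [hx]
    · simp [hy, hx]
  have e1 : T (Pi.single a 1) b = 1 := by rw [val b hab.symm, if_pos ⟨1, one_smul _ _, one_smul _ _⟩]
  have hkd : k • d ≠ a := fun e => hcd (smul_left_cancel k (hk.trans e.symm))
  have e2 : T (Pi.single a 1) (k • d) = 0 := by
    rw [val _ hkd, if_neg]
    rintro ⟨g, h1, h2⟩
    exact hno (k⁻¹ * g) (by rw [mul_smul, h1, inv_smul_eq_iff, hk]) (by rw [mul_smul, h2, inv_smul_smul])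
  rw [← hr] at e1 e2
  simp only [Pi.smul_apply, smul_eq_mul, mul_one] at e1 e2
  exact one_ne_zero (e1.symm.trans e2)

end Cfsg.Agent.S0671
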