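import Cfsg.Statements.S0677
import Mathlib
import Cfsg.Agent.S0676
import Cfsg.Agent.PermGroups.PrimeDegree

set_option autoImplicit false
open Cfsg

namespace Cfsg.Agent.S0677

/-- In a transitive permutation group of prime degree `p` whose Sylow `p`-normaliser has even order, the point stabilisers are the only subgroups of index `p`. -/
theorem result {α : Type*} [Fintype α] [DecidableEq α] {p : ℕ} [Fact p.Prime] (hα : Fintype.card α = p) (G : Subgroup (Equiv.Perm α)) [MulAction.IsPretransitive G α] (P : Sylow p G) (heven : Even (Nat.card (Subgroup.normalizer ((P : Subgroup G) : Set G)))) (H : Subgroup G) (hH : H.index = p) : ∃ a : α, H = MulAction.stabilizer G a := by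
  classical
  have hp := (Fact.out : p.Prime)
  have : Nonempty α := Fintype.card_pos_iff.1 (hα ▸ hp.pos)
  obtain ⟨a₀⟩ := this
  have hidx : ∀ a : α, (MulAction.stabilizer G a).index = p := fun a => by
    rw [MulAction.index_stabilizer_of_transitive, Nat.card_eq_fintype_card, hα]
  suffices h : ∃ a : α, ∀ g ∈ H, g • a = a by
    obtain ⟨a, ha⟩ := h
    have hle : H ≤ MulAction.stabilizer G a := fun g hg => MulAction.mem_stabilizer_iff.2 (ha g hg)
    refine ⟨a, le_antisymm hle ?_⟩
    rw [← Subgroup.relIndex_eq_one]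
    have h1 := Subgroup.relIndex_mul_index hle
    rw [hidx, hH] at h1
    exact Nat.eq_of_mul_eq_mul_right hp.pos (h1.trans (one_mul p).symm)
  have hpH : ¬ p ∣ Nat.card H := fun h => by
    have h1 : p * p ∣ p.factorial := by
      rw [show p.factorial = Nat.card (Equiv.Perm α) from by rw [Nat.card_perm, Nat.card_eq_fintype_card, hα]]
      refine (mul_dvd_mul h dvd_rfl).trans ?_
      have h2 := H.card_mul_index
      rw [hH] at h2
      rw [h2]
      exact Subgroup.card_subgroup_dvd_card G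
    rw [← Nat.mul_factorial_pred hp.ne_zero] at h1
    have := (hp.dvd_factorial).1 (Nat.dvd_of_mul_dvd_mul_left hp.pos h1)
    have := hp.one_lt
    omega
  by_cases hG : Group.IsSolvable G
  · -- solvable: affine in a coordinate
    have hGne : Nontrivial G := by
      by_contra h
      rw [not_nontrivial_iff_subsingleton] at h
      exact hp.ne_one ((hidx a₀).symm.trans (Subgroup.index_eq_one.2 (Subgroup.eq_top_iff' _ |>.2 fun g => by rw [Subsingleton.elim g 1]; exact one_mem _)))
    obtain ⟨n, hn⟩ := hG.solvable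
    let m := Nat.find (⟨n, hn⟩ : ∃ n, derivedSeries G n = ⊥)
    have hm : derivedSeries G m = ⊥ := Nat.find_spec (⟨n, hn⟩ : ∃ n, derivedSeries G n = ⊥)
    have hm0 : m ≠ 0 := fun h0 => by rw [h0, derivedSeries_zero] at hm; exact top_ne_bot hm
    obtain ⟨m', hm'⟩ := Nat.exists_eq_succ_of_ne_zero hm0
    have hAne : derivedSeries G m' ≠ ⊥ := Nat.find_min (⟨n, hn⟩ : ∃ n, derivedSeries G n = ⊥) (show m' < m by omega)
    set A := derivedSeries G m'
    have hAc : ∀ x y : G, x ∈ A → y ∈ A → x * y = y * x := fun x y hx hy => by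
      rw [hm', derivedSeries_succ, Subgroup.commutator_eq_bot_iff_le_centralizer] at hm
      exact (hm hx y hy).symm
    have : A.Normal := derivedSeries_normal G m'
    have hprim : MulAction.IsPreprimitive G α := MulAction.IsPreprimitive.of_prime_card (by rw [Nat.card_eq_fintype_card, hα]; exact hp)
    have htrA : MulAction.IsPretransitive A α := MulAction.IsQuasiPreprimitive.isPretransitive_of_normal (G := G) fun h => hAne ((Subgroup.eq_bot_iff_forall _).2 fun g hg =>
      Subtype.ext (Equiv.ext fun z => (h.symm ▸ Set.mem_univ z : z ∈ MulAction.fixedPoints A α) ⟨g, hg⟩))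
    have : MulAction.IsPretransitive (A.map G.subtype) α := ⟨fun x y => by
      obtain ⟨g, hg⟩ := MulAction.exists_smul_eq A x y
      exact ⟨⟨_, g.1, g.2, rfl⟩, hg⟩⟩
    obtain ⟨e, τ, hτA, hτe⟩ := Cfsg.Lib.PermGroups.PrimeDegree.exists_coord hα (A.map G.subtype)
    obtain ⟨t, htA, rfl⟩ := hτA
    have hreg : ∀ x : G, x ∈ A → ∀ z, x • z = z → x = 1 := fun x hx z hz => Subtype.ext (Equiv.ext fun w => by
      obtain ⟨g, rfl⟩ := MulAction.exists_smul_eq A z w
      show x • (g : G) • z = (g : G) • z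
      rw [← mul_smul, hAc x g hx g.2, mul_smul, hz])
    have hAz : ∀ x : G, x ∈ A → (x : Equiv.Perm α) ∈ Subgroup.zpowers (t : Equiv.Perm α) := fun x hx => by
      set j := e.symm (x • e 0)
      have h1 : t ^ j.val • e 0 = x • e 0 := by
        show ((t : Equiv.Perm α) ^ j.val) (e 0) = _
        rw [Cfsg.Lib.PermGroups.PrimeDegree.pow_apply_coord (τ := (t : Equiv.Perm α)) hτe, zero_add, ZMod.natCast_zmod_val, Equiv.apply_symm_apply]
      have h2 : (t ^ j.val)⁻¹ * x = 1 := hreg _ (A.mul_mem (A.inv_mem (A.pow_mem htA _)) hx) (e 0) (by rw [mul_smul, ← h1, inv_smul_smul])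
      rw [← inv_mul_eq_one.1 h2]
      exact pow_mem (Subgroup.mem_zpowers _) _
    have haff : ∀ g : G, ∃ c k : ZMod p, ∀ i, e.symm ((g : Equiv.Perm α) (e i)) = c + k * i := fun g =>
      Cfsg.Lib.PermGroups.PrimeDegree.affine_of_conj hτe (hAz _ (Subgroup.Normal.conj_mem inferInstance t htA g))
    choose c k hck using haff
    have hk1 : ∀ g ∈ H, k g = 1 → g = 1 := fun g hg hk => by
      have hgp : g ^ p = 1 := Subtype.ext (Equiv.ext fun z => by
        obtain ⟨i, rfl⟩ := e.surjective z
        have : ∀ n : ℕ, ((g : Equiv.Perm α) ^ n) (e i) = e (i + n * c g) := fun n => by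
          induction n with
          | zero => simp
          | succ n ih =>
            rw [pow_succ', Equiv.Perm.mul_apply, ih, ← Equiv.apply_symm_apply e ((g : Equiv.Perm α) (e _)), hck, hk]
            congr 1; push_cast; ring
        show ((g : Equiv.Perm α) ^ p) (e i) = e i
        rw [this, ZMod.natCast_self, zero_mul, add_zero])
      rcases (Nat.dvd_prime hp).1 (orderOf_dvd_of_pow_eq_one hgp) with h | h
      · exact orderOf_eq_one_iff.1 h
      · refine absurd ?_ hpH
        rw [← h, ← Subgroup.orderOf_mk g hg]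
        exact orderOf_dvd_natCard _
    have happ : ∀ (g : G) (i : ZMod p), (g : Equiv.Perm α) (e i) = e (c g + k g * i) := fun g i => by
      rw [← hck, Equiv.apply_symm_apply]
    have hmul : ∀ g g' : G, k (g * g') = k g * k g' := fun g g' => by
      have h : ∀ i, c (g * g') + k (g * g') * i = c g + k g * (c g' + k g' * i) := fun i => e.injective (by
        rw [← happ, ← happ, ← happ]; rfl)
      have h0 := h 0; have h1 := h 1
      linear_combination h1 - h0
    by_cases hbot : ∀ g ∈ H, g = 1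
    · exact ⟨a₀, fun g hg => by rw [hbot g hg, one_smul]⟩
    push Not at hbot
    obtain ⟨h, hh, hh1⟩ := hbot
    have hkh : 1 - k h ≠ 0 := fun e1 => hh1 (hk1 h hh (sub_eq_zero.1 e1).symm)
    set i₀ := c h / (1 - k h)
    have hfix : h • e i₀ = e i₀ := by
      show (h : Equiv.Perm α) (e i₀) = _
      rw [happ]; congr 1
      have h9 : i₀ * (1 - k h) = c h := div_mul_cancel₀ _ hkh
      linear_combination -h9
    refine ⟨e i₀, fun g hg => ?_⟩
    have hcomm : g * h * g⁻¹ * h⁻¹ = 1 := hk1 _ (H.mul_mem (H.mul_mem (H.mul_mem hg hh) (H.inv_mem hg)) (H.inv_mem hh)) (by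
      have h1 : k 1 = 1 := by
        have h0 := hck 1 0; have h2 := hck 1 1
        rw [OneMemClass.coe_one, Equiv.Perm.one_apply, Equiv.symm_apply_apply] at h0 h2
        linear_combination h0 - h2
      have hinv : ∀ x : G, k x * k x⁻¹ = 1 := fun x => by rw [← hmul, mul_inv_cancel, h1]
      rw [hmul, hmul, hmul]
      calc k g * k h * k g⁻¹ * k h⁻¹ = (k g * k g⁻¹) * (k h * k h⁻¹) := by ring
        _ = 1 := by rw [hinv, hinv, one_mul])
    have hc' : g * h = h * g := by
      calc g * h = g * h * g⁻¹ * h⁻¹ * (h * g) := by group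
        _ = h * g := by rw [hcomm, one_mul]
    set i₁ := e.symm (g • e i₀)
    have hg1 : g • e i₀ = e i₁ := (Equiv.apply_symm_apply e _).symm
    have : h • e i₁ = e i₁ := by rw [← hg1, ← mul_smul, ← hc', mul_smul, hfix]
    change (h : Equiv.Perm α) (e i₁) = e i₁ at this
    rw [happ] at this
    have h3 := e.injective this
    rw [hg1]; congr 1
    exact (eq_div_iff hkh).2 (by linear_combination -h3)
  -- non-solvable: the orbits of `H` give a trivial design
  have h3t := Cfsg.Agent.S0676.result hα G hG P heven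
  by_contra hno
  push Not at hno
  let O : Finset α := Finset.univ.filter fun x => x ∈ MulAction.orbit H a₀
  by_cases hOu : O = Finset.univ
  · -- `H` is transitive: `p` divides its order
    have hm : ∀ x : α, ∃ k : H, k • a₀ = x := fun x => by
      have : x ∈ O := hOu ▸ Finset.mem_univ x
      exact (Finset.mem_filter.1 this).2
    have htr : MulAction.IsPretransitive H α := ⟨fun x y => by
      obtain ⟨k, hk⟩ := hm x
      obtain ⟨l, hl⟩ := hm y
      exact ⟨l * k⁻¹, by rw [mul_smul, ← hk, inv_smul_smul, hl]⟩⟩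
    apply hpH
    have h := (MulAction.stabilizer H a₀).index_dvd_card
    rwa [MulAction.index_stabilizer_of_transitive, Nat.card_eq_fintype_card (α := α), hα] at h
  have hOH : ∀ g ∈ H, ∀ x, g • x ∈ O ↔ x ∈ O := fun g hg x => by
    simp only [O, Finset.mem_filter, Finset.mem_univ, true_and]
    refine ⟨?_, fun ⟨k, hk⟩ => ⟨⟨g, hg⟩ * k, by show (⟨g, hg⟩ * k : H) • a₀ = _; rw [mul_smul, show k • a₀ = x from hk]; rfl⟩⟩
    rintro ⟨k, hk⟩
    exact ⟨⟨g, hg⟩⁻¹ * k, by
      show ((⟨g, hg⟩ : H)⁻¹ * k) • a₀ = x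
      rw [mul_smul, inv_smul_eq_iff]; exact hk⟩
  obtain ⟨z, -, hzO⟩ : ∃ z ∈ Finset.univ, z ∉ O := by
    by_contra! h; exact hOu (Finset.eq_univ_of_forall fun z => h z (Finset.mem_univ z))
  have ha₀ : a₀ ∈ O := Finset.mem_filter.2 ⟨Finset.mem_univ _, MulAction.mem_orbit_self _⟩
  have htwo : 2 ≤ O.card := by
    obtain ⟨g, hg, hga⟩ := hno a₀
    exact Finset.one_lt_card.2 ⟨g • a₀, (hOH g hg a₀).2 ha₀, a₀, ha₀, hga⟩
  have htwo' : O.card + 2 ≤ p := by
    obtain ⟨g, hg, hgz⟩ := hno z
    have : 1 < (Finset.univ \ O).card := Finset.one_lt_card.2 ⟨g • z, by simp [hOH g hg, hzO], z, by simp [hzO], hgz⟩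
    rw [Finset.card_sdiff, Finset.inter_univ, Finset.card_univ, hα] at this
    omega
  let : Fintype (G ⧸ H) := Fintype.ofFinite _
  let B : G ⧸ H → α → Prop := Quotient.lift (fun g x => g⁻¹ • x ∈ O) (fun g g' hgg' => funext fun x => propext (by
    have hm : g⁻¹ * g' ∈ H := QuotientGroup.leftRel_apply.1 hgg'
    rw [← hOH _ hm (g'⁻¹ • x), smul_smul, mul_assoc, mul_inv_cancel, mul_one]))
  have hB : ∀ (g : G) (q : G ⧸ H) (x : α), B (g • q) (g • x) ↔ B q x := fun g q x => by
    induction q using QuotientGroup.induction_on with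
    | _ q => show (g * q)⁻¹ • g • x ∈ O ↔ q⁻¹ • x ∈ O; rw [mul_inv_rev, mul_smul, inv_smul_smul]
  have hBone : ∀ x, B ((1 : G) : G ⧸ H) x ↔ x ∈ O := fun x => by show (1 : G)⁻¹ • x ∈ O ↔ _; rw [inv_one, one_smul]
  -- every point lies in `|O|` blocks
  let r : α → ℕ := fun x => (Finset.univ.filter fun q => B q x).card
  have hr : ∀ (g : G) x, r (g • x) = r x := fun g x =>
    (Finset.card_equiv (MulAction.toPerm g) fun q => by simp [hB]).symm
  have hrk : r a₀ = O.card := by
    have h1 : ∑ x, r x = ∑ q : G ⧸ H, (Finset.univ.filter fun x => B q x).card := by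
      simp only [r, Finset.card_filter]; exact Finset.sum_comm
    have h2 : ∀ q : G ⧸ H, (Finset.univ.filter fun x => B q x).card = O.card := fun q => by
      induction q using QuotientGroup.induction_on with
      | _ g =>
        refine (Finset.card_equiv (MulAction.toPerm g) fun x => ?_).symm
        simp only [Finset.mem_filter, Finset.mem_univ, true_and, MulAction.toPerm_apply]
        show _ ↔ g⁻¹ • g • x ∈ O
        rw [inv_smul_smul]
    rw [Finset.sum_congr rfl (fun x _ => (show r x = r a₀ by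
      obtain ⟨g, rfl⟩ := MulAction.exists_smul_eq G a₀ x; exact hr g a₀)),
      Finset.sum_congr rfl (fun q _ => h2 q), Finset.sum_const, Finset.sum_const, Finset.card_univ, Finset.card_univ, hα,
      ← Nat.card_eq_fintype_card, show Nat.card (G ⧸ H) = p from hH, smul_eq_mul, smul_eq_mul] at h1
    exact Nat.eq_of_mul_eq_mul_left hp.pos h1
  -- Fisher's inequality for the derived design at `a₀`
  have h3t' : ∀ a b c a' b' c' : α, a ≠ b → a ≠ c → b ≠ c → a' ≠ b' → a' ≠ c' → b' ≠ c' →
      ∃ g : G, g • a = a' ∧ g • b = b' ∧ g • c = c' := fun a b c a' b' c' h1 h2 h3 h4 h5 h6 => by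
    have mkE : ∀ a b c : α, a ≠ b → a ≠ c → b ≠ c → Function.Injective ![a, b, c] := by
      intro a b c h1 h2 h3 i j h
      fin_cases i <;> fin_cases j <;>
        first | rfl | exact absurd h h1 | exact absurd h.symm h1 | exact absurd h h2 | exact absurd h.symm h2 |
          exact absurd h h3 | exact absurd h.symm h3
    obtain ⟨g, hg⟩ := h3t.exists_smul_eq ⟨_, mkE a b c h1 h2 h3⟩ ⟨_, mkE a' b' c' h4 h5 h6⟩
    exact ⟨g, DFunLike.congr_fun hg 0, DFunLike.congr_fun hg 1, DFunLike.congr_fun hg 2⟩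
  let ι : α → α → G ⧸ H → ℚ := fun a y q => if B q a ∧ B q y then 1 else 0
  let P2 : α → α → ℚ := fun a y => ∑ q, ι a y q
  let P3 : α → α → α → ℚ := fun a y w => ∑ q, ι a y q * ι a w q
  obtain ⟨y₀, hy₀, hy₀ne⟩ : ∃ y ∈ O, y ≠ a₀ := (Finset.one_lt_card_iff_nontrivial.1 (by omega)).exists_ne a₀
  have hz₀ : z ≠ a₀ := fun e => hzO (e ▸ ha₀)
  have hyz : y₀ ≠ z := fun e => hzO (e ▸ hy₀)
  have hinv : ∀ (g : G) y w, P3 (g • a₀) (g • y) (g • w) = P3 a₀ y w := fun g y w => by
    refine (Fintype.sum_equiv (MulAction.toPerm g) _ _ fun q => ?_).symm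
    simp only [ι, MulAction.toPerm_apply, hB]
  set lam := P3 a₀ y₀ y₀
  set mu := P3 a₀ y₀ z
  have hlam : ∀ y, y ≠ a₀ → P3 a₀ y y = lam := fun y hy => by
    obtain ⟨w, hw⟩ : ∃ w, w ≠ a₀ ∧ w ≠ y := by
      by_cases hyy : y = z
      · exact ⟨y₀, hy₀ne, by rw [hyy]; exact hyz⟩
      · exact ⟨z, hz₀, Ne.symm hyy⟩
    obtain ⟨g, g1, g2, -⟩ := h3t' a₀ y₀ z a₀ y w hy₀ne.symm hz₀.symm hyz hy.symm hw.1.symm hw.2.symm
    have := hinv g y₀ y₀
    rwa [g1, g2] at this
  have hmu : ∀ y w, y ≠ a₀ → w ≠ a₀ → y ≠ w → P3 a₀ y w = mu := fun y w hy hw hyw => by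
    obtain ⟨g, g1, g2, g3⟩ := h3t' a₀ y₀ z a₀ y w hy₀ne.symm hz₀.symm hyz hy.symm hw.symm hyw
    have := hinv g y₀ z
    rwa [g1, g2, g3] at this
  have hnn : ∀ a y q, (0 : ℚ) ≤ ι a y q ∧ ι a y q ≤ 1 := fun a y q => by
    simp only [ι]; split <;> constructor <;> norm_num
  have hgap : mu < lam := by
    refine Finset.sum_lt_sum (fun q _ => ?_) ⟨((1 : G) : G ⧸ H), Finset.mem_univ _, ?_⟩
    · rw [show ι a₀ y₀ q * ι a₀ y₀ q = ι a₀ y₀ q from by simp only [ι]; split <;> norm_num]
      exact mul_le_of_le_one_right (hnn _ _ _).1 (hnn _ _ _).2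
    · simp [ι, hBone, ha₀, hy₀, hzO]
  have hmu0 : 0 ≤ mu := Finset.sum_nonneg fun q _ => mul_nonneg (hnn _ _ _).1 (hnn _ _ _).1
  let I := {y : α // y ≠ a₀}
  let J := {q : G ⧸ H // B q a₀}
  let v : I → J → ℚ := fun y q => if B q.1 y.1 then 1 else 0
  have hdot : ∀ y w : I, ∑ q : J, v y q * v w q = P3 a₀ y.1 w.1 := fun y w => by
    show ∑ q : J, v y q * v w q = ∑ q, ι a₀ y.1 q * ι a₀ w.1 q
    rw [← Finset.sum_filter_of_ne (s := Finset.univ) (p := fun q => B q a₀) (f := fun q => ι a₀ y.1 q * ι a₀ w.1 q)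
      (fun q _ hq => by by_contra h; exact hq (by simp [ι, h]))]
    rw [Finset.sum_subtype (p := fun q => B q a₀) (Finset.univ.filter fun q => B q a₀) (fun q => by simp) (fun q => ι a₀ y.1 q * ι a₀ w.1 q)]
    refine Finset.sum_congr rfl fun q _ => ?_
    simp [v, ι, q.2]
  have hli : LinearIndependent ℚ v := by
    rw [Fintype.linearIndependent_iff]
    intro cf hcf
    have h0 : ∑ y : I, ∑ w : I, cf y * cf w * P3 a₀ y.1 w.1 = 0 := by
      have h1 : ∀ q : J, ∑ y : I, cf y * v y q = 0 := fun q => by simpa using congrFun hcf q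
      calc ∑ y : I, ∑ w : I, cf y * cf w * P3 a₀ y.1 w.1
          = ∑ q : J, (∑ y : I, cf y * v y q) * (∑ w : I, cf w * v w q) := by
            simp only [← hdot, Finset.mul_sum, Finset.sum_mul]
            rw [Finset.sum_comm (s := (Finset.univ : Finset J))]
            refine Finset.sum_congr rfl fun y _ => ?_
            rw [Finset.sum_comm]
            exact Finset.sum_congr rfl fun w _ => Finset.sum_congr rfl fun q _ => by ring
        _ = 0 := by simp [h1]
    have h2 : ∀ y w : I, cf y * cf w * P3 a₀ y.1 w.1 = mu * (cf y * cf w) + (if y = w then (lam - mu) * (cf y * cf y) else 0) := fun y w => by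
      split
      · next h => subst h; rw [hlam _ y.2]; ring
      · next h => rw [hmu _ _ y.2 w.2 fun e => h (Subtype.ext e)]; ring
    simp only [h2, Finset.sum_add_distrib, Finset.sum_ite_eq, Finset.mem_univ, if_true] at h0
    rw [Finset.sum_congr rfl (fun y _ => Finset.sum_eq_single (s := (Finset.univ : Finset I)) (f := fun w => if y = w then (lam - mu) * (cf y * cf y) else 0) y
      (fun w _ hw => if_neg (Ne.symm hw)) (fun h => absurd (Finset.mem_univ y) h))] at h0
    simp only [if_true, ← Finset.mul_sum, ← Finset.sum_mul] at h0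
    have h3 : 0 ≤ ∑ y : I, cf y * cf y := Finset.sum_nonneg fun y _ => mul_self_nonneg _
    have h4 : ∑ y : I, cf y * cf y = 0 := by
      by_contra h5
      have h6 := mul_pos (sub_pos.2 hgap) (lt_of_le_of_ne h3 (Ne.symm h5))
      have h7 := mul_nonneg hmu0 (mul_self_nonneg (∑ y : I, cf y))
      linarith
    exact fun y => mul_self_eq_zero.1 ((Finset.sum_eq_zero_iff_of_nonneg fun y _ => mul_self_nonneg (cf y)).1 h4 y (Finset.mem_univ y))
  have hfin := hli.fintype_card_le_finrank
  rw [Module.finrank_fintype_fun_eq_card, Fintype.card_subtype, Fintype.card_subtype,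
    Finset.filter_ne', Finset.card_erase_of_mem (Finset.mem_univ _), Finset.card_univ, hα] at hfin
  change p - 1 ≤ r a₀ at hfin
  rw [hrk] at hfin
  omega

end Cfsg.Agent.S0677
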