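import Cfsg.Statements.S0680
import Cfsg.Agent.PermGroups.SharplyTwo

set_option autoImplicit false
open Cfsg
open scoped Pointwise

namespace Cfsg.Agent.S0680

/-- A finite sharply doubly transitive permutation group has degree a prime power `p ^ j`; a Sylow `p`-subgroup is normal, elementary abelian and regular, and consists of the identity together with the elements without fixed points. (Frobenius' Theorem is not needed.) -/
theorem result {α : Type*} [Fintype α] [DecidableEq α] (G : Subgroup (Equiv.Perm α)) [MulAction.IsMultiplyPretransitive G α 2] (hsharp : ∀ x : Fin 2 ↪ α, MulAction.stabilizer G x = ⊥) (h2 : 2 ≤ Fintype.card α) : ∃ p j : ℕ, p.Prime ∧ 1 ≤ j ∧ Fintype.card α = p ^ j ∧ ∀ (hp : Fact p.Prime) (P : Sylow p G), (P : Subgroup G).Normal ∧ IsMulCommutative (P : Subgroup G) ∧ (∀ x ∈ (P : Subgroup G), x ^ p = 1) ∧ MulAction.IsPretransitive (P : Subgroup G) α ∧ (∀ a : α, MulAction.stabilizer (P : Subgroup G) a = ⊥) ∧ ∀ g : G, g ∈ (P : Subgroup G) ↔ g = 1 ∨ ∀ a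 : α, g • a ≠ a := by
  obtain ⟨N, p, j, hp, hj, hcard, hcN, hNn, hcG, hN, hNt, hfree, hab, hexp⟩ :=
    Cfsg.Lib.PermGroups.sharp_two_kernel ‹_› hsharp h2
  refine ⟨p, j, hp, hj, hcard, fun hpf P => ?_⟩
  have hNP : IsPGroup p N := IsPGroup.of_card hcN
  have hcop : ¬ p ∣ Fintype.card α - 1 := fun h => hp.one_lt.ne' (Nat.dvd_one.1 (by
    have h1 : p ∣ Fintype.card α := hcard ▸ dvd_pow_self p (by omega)
    have h2' := Nat.dvd_sub h1 h
    rwa [show Fintype.card α - (Fintype.card α - 1) = 1 by omega] at h2'))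
  have hPc : Nat.card (P : Subgroup G) = p ^ j := by
    rw [P.card_eq_multiplicity, hcG, Nat.factorization_mul (by omega) (by omega), Finsupp.add_apply,
      Nat.factorization_eq_zero_of_not_dvd hcop, hcard, Nat.factorization_pow]
    simp [hp.factorization_self]
  obtain ⟨Q, hQ⟩ := hNP.exists_le_sylow
  have : N = (Q : Subgroup G) := Subgroup.eq_of_le_of_card_ge hQ (by
    obtain ⟨g, rfl⟩ := MulAction.exists_smul_eq G P Q
    rw [hcN, ← hPc, Sylow.coe_subgroup_smul]
    exact (Nat.card_congr (Subgroup.equivSMul _ _).toEquiv).symm.le)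
  have hPN : (P : Subgroup G) = N := by
    obtain ⟨g, rfl⟩ := MulAction.exists_smul_eq G Q P
    rw [Sylow.coe_subgroup_smul, ← this]
    exact Subgroup.Normal.conj_smul_eq_self g N (h := hNn)
  rw [hPN]
  exact ⟨hNn, ⟨⟨fun x y => Subtype.ext (hab x x.2 y y.2)⟩⟩, hexp, hNt, hfree, hN⟩

end Cfsg.Agent.S0680
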