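import Cfsg.Statements.S0681

set_option autoImplicit false
open Cfsg

namespace Cfsg.Agent.S0681

/-- The affine maps `x ↦ x * a + b`, `a ≠ 0`, of a near-field form a sharply doubly transitive permutation group. -/
theorem result {F : Type*} [Cfsg.NearField F] : ∃ H : Subgroup (Equiv.Perm F), (∀ σ : Equiv.Perm F, σ ∈ H ↔ ∃ a b : F, a ≠ 0 ∧ ∀ x : F, σ x = x * a + b) ∧ MulAction.IsMultiplyPretransitive H F 2 ∧ ∀ x : Fin 2 ↪ F, MulAction.stabilizer H x = ⊥ := by
  have zm : ∀ a : F, (0 : F) * a = 0 := fun a => by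
    have h := Cfsg.NearField.right_distrib (0 : F) 0 a
    rw [add_zero] at h
    exact left_eq_add.1 h
  have negm : ∀ x a : F, (-x) * a = -(x * a) := fun x a =>
    eq_neg_of_add_eq_zero_left (by rw [← Cfsg.NearField.right_distrib, neg_add_cancel, zm])
  refine ⟨{ carrier := {σ | ∃ a b : F, a ≠ 0 ∧ ∀ x : F, σ x = x * a + b}, one_mem' := ?_, mul_mem' := ?_, inv_mem' := ?_ },
    fun σ => Iff.rfl, ?_, ?_⟩
  · rintro σ τ ⟨a, b, ha, hσ⟩ ⟨c, d, hc, hτ⟩
    refine ⟨c * a, d * a + b, ?_, fun x => ?_⟩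
    · intro h
      obtain ⟨a', ha', -⟩ := Cfsg.NearField.exists_inv a ha
      apply hc
      rw [← mul_one c, ← ha', ← mul_assoc, h, zm]
    · rw [Equiv.Perm.mul_apply, hτ, hσ, Cfsg.NearField.right_distrib, mul_assoc, add_assoc]
  · exact ⟨1, 0, fun h => Cfsg.NearField.zero_ne_one h.symm, fun x => by simp⟩
  · rintro σ ⟨a, b, ha, hσ⟩
    obtain ⟨c, hac, hca⟩ := Cfsg.NearField.exists_inv a ha
    refine ⟨c, -(b * c), fun h => ?_, fun x => σ.injective ?_⟩
    · rw [h, Cfsg.NearField.mul_zero] at hac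
      exact Cfsg.NearField.zero_ne_one hac
    · rw [Equiv.Perm.inv_def, Equiv.apply_symm_apply, hσ, Cfsg.NearField.right_distrib, mul_assoc, hca, mul_one, negm, mul_assoc, hca, mul_one, add_assoc, neg_add_cancel, add_zero]
  · rw [MulAction.is_two_pretransitive_iff]
    intro x y u v hxy huv
    have hd : y + -x ≠ 0 := fun h => hxy (neg_inj.1 ((neg_eq_of_add_eq_zero_right h).symm)).symm.symm
    obtain ⟨c, hc1, hc2⟩ := Cfsg.NearField.exists_inv _ hd
    set a := c * (v + -u)
    have hya : (y + -x) * a = v + -u := by rw [← mul_assoc, hc1, one_mul]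
    have ha : a ≠ 0 := fun h => huv (by
      rw [h, Cfsg.NearField.mul_zero] at hya
      exact (neg_inj.1 (neg_eq_of_add_eq_zero_right hya.symm)).symm)
    obtain ⟨a', ha1, ha2⟩ := Cfsg.NearField.exists_inv a ha
    let σ : Equiv.Perm F := ⟨fun z => (z + -x) * a + u, fun z => (z + -u) * a' + x,
      fun z => by simp [add_assoc, mul_assoc, ha1],
      fun z => by simp [add_assoc, mul_assoc, ha2]⟩
    refine ⟨⟨σ, a, -(x * a) + u, ha, fun z => ?_⟩, ?_, ?_⟩
    · show (z + -x) * a + u = _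
      rw [Cfsg.NearField.right_distrib, negm, add_assoc]
    · show (x + -x) * a + u = u
      rw [add_neg_cancel, zm, zero_add]
    · show (y + -x) * a + u = v
      rw [hya, add_assoc, neg_add_cancel, add_zero]
  · intro x
    rw [Subgroup.eq_bot_iff_forall]
    rintro ⟨σ, a, b, ha, hσ⟩ hs
    have h0 : σ (x 0) = x 0 := DFunLike.congr_fun (MulAction.mem_stabilizer_iff.1 hs) 0
    have h1 : σ (x 1) = x 1 := DFunLike.congr_fun (MulAction.mem_stabilizer_iff.1 hs) 1
    rw [hσ] at h0 h1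
    have e0 : x 0 * a = x 0 + -b := by rw [eq_comm, ← sub_eq_add_neg, sub_eq_iff_eq_add]; exact h0.symm
    have e1 : x 1 * a = x 1 + -b := by rw [eq_comm, ← sub_eq_add_neg, sub_eq_iff_eq_add]; exact h1.symm
    have hd : x 0 + -x 1 ≠ 0 := fun h => zero_ne_one (α := Fin 2) (x.injective (by rw [← sub_eq_add_neg, sub_eq_zero] at h; exact h))
    have e : (x 0 + -x 1) * a = x 0 + -x 1 := by
      rw [Cfsg.NearField.right_distrib, negm, e0, e1, neg_add_rev, neg_neg, add_assoc, neg_add_cancel_left]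
    obtain ⟨c, -, hc⟩ := Cfsg.NearField.exists_inv _ hd
    have ha1 : a = 1 := by rw [← one_mul a, ← hc, mul_assoc, e]
    rw [ha1, mul_one] at h0
    have hb : b = 0 := add_left_cancel (h0.trans (add_zero _).symm)
    exact Subtype.ext (Equiv.ext fun z => by rw [hσ, ha1, hb, mul_one, add_zero]; rfl)

end Cfsg.Agent.S0681
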