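import Cfsg.Statements.S0682
import Mathlib

set_option autoImplicit false
open Cfsg

namespace Cfsg.Agent.S0682

/-- A finite near-field has prime-power order; its additive group is commutative of prime exponent. -/
theorem result {F : Type*} [Cfsg.NearField F] [Finite F] : ∃ p j : ℕ, p.Prime ∧ 1 ≤ j ∧ Nat.card F = p ^ j ∧ (∀ x y : F, x + y = y + x) ∧ ∀ x : F, p • x = 0 := by
  have zm : ∀ a : F, (0 : F) * a = 0 := fun a => by
    have h := Cfsg.NearField.right_distrib (0 : F) 0 a
    rw [add_zero] at h
    exact left_eq_add.1 h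
  let R : F → (Multiplicative F →* Multiplicative F) := fun a =>
    MonoidHom.mk' (fun x => Multiplicative.ofAdd (Multiplicative.toAdd x * a)) fun x y => by
      show Multiplicative.ofAdd ((Multiplicative.toAdd x + Multiplicative.toAdd y) * a) = _
      rw [Cfsg.NearField.right_distrib]; rfl
  have hRbij : ∀ a : F, a ≠ 0 → Function.Bijective (R a) := fun a ha => by
    obtain ⟨c, h1, h2⟩ := Cfsg.NearField.exists_inv a ha
    refine Function.bijective_iff_has_inverse.2 ⟨R c, fun x => ?_, fun x => ?_⟩
    · show Multiplicative.ofAdd (Multiplicative.toAdd x * a * c) = x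
      rw [mul_assoc, h1, mul_one]; rfl
    · show Multiplicative.ofAdd (Multiplicative.toAdd x * c * a) = x
      rw [mul_assoc, h2, mul_one]; rfl
  have htrans : ∀ x y : Multiplicative F, x ≠ 1 → y ≠ 1 → ∃ e : MulAut (Multiplicative F), e x = y := fun x y hx hy => by
    obtain ⟨c, hc, -⟩ := Cfsg.NearField.exists_inv (Multiplicative.toAdd x) hx
    set a := c * Multiplicative.toAdd y
    have hxa : Multiplicative.toAdd x * a = Multiplicative.toAdd y := by rw [← mul_assoc, hc, one_mul]
    have ha : a ≠ 0 := fun h => by rw [h, Cfsg.NearField.mul_zero] at hxa; exact hy hxa.symm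
    exact ⟨MulEquiv.ofBijective (R a) (hRbij a ha), hxa⟩
  have hnt : Nontrivial (Multiplicative F) := ⟨⟨Multiplicative.ofAdd (0 : F), Multiplicative.ofAdd (1 : F), fun h => Cfsg.NearField.zero_ne_one (F := F) h⟩⟩
  obtain ⟨p, hp, hdvd⟩ := Nat.exists_prime_and_dvd (Finite.one_lt_card (α := Multiplicative F)).ne'
  have : Fact p.Prime := ⟨hp⟩
  obtain ⟨x, hx⟩ := exists_prime_orderOf_dvd_card' p hdvd
  have hx1 : x ≠ 1 := fun h => hp.ne_one (by rw [← hx, h, orderOf_one])
  have hexp : ∀ y : Multiplicative F, y ^ p = 1 := fun y => by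
    by_cases hy : y = 1
    · rw [hy, one_pow]
    · obtain ⟨e, rfl⟩ := htrans x y hx1 hy
      rw [← map_pow, ← hx, pow_orderOf_eq_one, map_one]
  have hP : IsPGroup p (Multiplicative F) := fun y => ⟨1, by rw [pow_one]; exact hexp y⟩
  have : Nontrivial (Subgroup.center (Multiplicative F)) := hP.center_nontrivial
  obtain ⟨z, hz⟩ := exists_ne (1 : Subgroup.center (Multiplicative F))
  have hall : ∀ y : Multiplicative F, y ∈ Subgroup.center (Multiplicative F) := fun y => by
    by_cases hy : y = 1
    · rw [hy]; exact one_mem _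
    · obtain ⟨e, he⟩ := htrans z y (fun h => hz (Subtype.ext h)) hy
      rw [← he, Subgroup.mem_center_iff]
      intro g
      have h := congrArg e (Subgroup.mem_center_iff.1 z.2 (e.symm g))
      rwa [map_mul, map_mul, MulEquiv.apply_symm_apply] at h
  obtain ⟨j, hj⟩ := IsPGroup.iff_card.1 hP
  refine ⟨p, j, hp, ?_, hj, fun a b => Multiplicative.ofAdd.injective (Subgroup.mem_center_iff.1 (hall (Multiplicative.ofAdd b)) (Multiplicative.ofAdd a)),
    fun a => Multiplicative.ofAdd.injective ((ofAdd_nsmul p a).trans (hexp _))⟩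
  by_contra h
  have := Finite.one_lt_card (α := Multiplicative F)
  rw [hj, show j = 0 by omega, pow_zero] at this
  omega

end Cfsg.Agent.S0682
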