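import Cfsg.Statements.S0687
import Cfsg.Agent.SolvStruct.Zassenhaus.RegularCore
import Cfsg.Agent.SolvStruct.Zassenhaus.Rep

set_option autoImplicit false
open Cfsg

namespace Cfsg.Agent.S0687

/-- In a linear group over the prime field that is regular on non-zero vectors and has no irreducible cyclic normal subgroup, a normal subgroup `N` minimal among the non-abelian normal subgroups centralising a maximal normal abelian subgroup `A` is irreducible on `V`, and its centraliser is `A`. -/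
theorem result {p : ℕ} [Fact p.Prime] {V : Type*} [AddCommGroup V] [Module (ZMod p) V] [Finite V] (H : Subgroup (V ≃ₗ[ZMod p] V)) (hreg : ∀ v w : V, v ≠ 0 → w ≠ 0 → ∃! h : H, (h : V ≃ₗ[ZMod p] V) v = w) (hI : ∀ A : Subgroup H, A.Normal → IsCyclic A → ∃ W : Submodule (ZMod p) V, W ≠ ⊥ ∧ W ≠ ⊤ ∧ ∀ a ∈ A, ∀ v ∈ W, ((a : H) : V ≃ₗ[ZMod p] V) v ∈ W) (A : Subgroup H) (hAn : A.Normal) (hAc : IsMulCommutative A) (hAmax : ∀ B : Subgroup H, B.Normal → IsMulCommutative B → A ≤ B → B = A) (N : Subgroup H) (hNn : N.Normal) (hNle : N ≤ Subgroup.centralizer (A : Set H)) (hNna : ¬ IsMulCommutative N) (hNmin : ∀ M : Subgroup H, M.Normal → M ≤ N → ¬ IsMulCommutative M → M = N) : (∀ W : Submodule (ZMod p) V, (∀ n ∈ N, ∀ v ∈ W, ((n : H) : V ≃ₗ[ZMod p] V) v ∈ W) → W = ⊥ ∨ W = ⊤) ∧ Subgroup.centralizer (N : Set H) = A := by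
  haveI : Nontrivial H := Cfsg.Lib.SolvStruct.Zassenhaus.nontrivial_of_noncomm hNna
  haveI := Cfsg.Lib.PermGroups.LinearRegular.finite_lin (p := p) (V := V)
  haveI := hNn
  obtain ⟨W, φ, hW, hφ⟩ := Cfsg.Lib.SolvStruct.Zassenhaus.exists_fpf_rep
    (Cfsg.Lib.SolvStruct.Zassenhaus.crit_of_regular hreg)
  haveI := hW
  have h2 := Cfsg.Lib.SolvStruct.Zassenhaus.finrank_eq_two hreg hNna fun hs => by
    haveI := hs
    exact hφ.core_solvable hAn hAc hAmax hNn hNle hNna hNmin inferInstance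
  refine ⟨fun U hU => Cfsg.Lib.SolvStruct.Zassenhaus.irreducible_of_noncomm hreg h2 hNna U hU, ?_⟩
  haveI : Nontrivial V := Module.finrank_pos_iff.1 (by rw [h2]; norm_num)
  obtain ⟨v, hv⟩ := exists_ne (0 : V)
  refine hAmax _ inferInstance ⟨⟨fun a b => Subtype.ext (Cfsg.Lib.SolvStruct.Zassenhaus.comm_of_line hreg hv _
    (fun s hs => Cfsg.Lib.SolvStruct.Zassenhaus.centralizer_scalar hreg h2 hNna hv hs) a a.2 b b.2)⟩⟩ ?_
  exact fun a ha => Subgroup.mem_centralizer_iff.2 fun n hn => (Subgroup.mem_centralizer_iff.1 (hNle hn) a ha).symm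

end Cfsg.Agent.S0687
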