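import Cfsg.Statements.S0688
import Cfsg.Agent.SolvStruct.Zassenhaus.RegularCore
import Cfsg.Agent.SolvStruct.Zassenhaus.Rep
import Cfsg.Agent.S0685

set_option autoImplicit false
open Cfsg

namespace Cfsg.Agent.S0688

/-- Degrees of the soluble exceptional sharply doubly transitive groups: if a solvable linear group over the prime field is regular on the non-zero vectors of `V` and has no irreducible cyclic normal subgroup, then `V` has 25, 49, 121 or 529 elements. -/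
theorem result {p : ℕ} [Fact p.Prime] {V : Type*} [AddCommGroup V] [Module (ZMod p) V] [Finite V] (H : Subgroup (V ≃ₗ[ZMod p] V)) (hreg : ∀ v w : V, v ≠ 0 → w ≠ 0 → ∃! h : H, (h : V ≃ₗ[ZMod p] V) v = w) (hI : ∀ A : Subgroup H, A.Normal → IsCyclic A → ∃ W : Submodule (ZMod p) V, W ≠ ⊥ ∧ W ≠ ⊤ ∧ ∀ a ∈ A, ∀ v ∈ W, ((a : H) : V ≃ₗ[ZMod p] V) v ∈ W) (hsolv : Group.IsSolvable H) : Nat.card V = 25 ∨ Nat.card V = 49 ∨ Nat.card V = 121 ∨ Nat.card V = 529 := by
  classical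
  obtain ⟨W0, hW0, hW1, -⟩ := hI ⊥ inferInstance isCyclic_of_subsingleton
  haveI := Cfsg.Lib.PermGroups.LinearRegular.finite_lin (p := p) (V := V)
  obtain ⟨A, -, ⟨hAn, hAc⟩, hAmax⟩ := Finite.exists_le_maximal
    (p := fun A : Subgroup H => A.Normal ∧ IsMulCommutative A) (a := ⊥) ⟨inferInstance, inferInstance⟩
  have hAmax' : ∀ B : Subgroup H, B.Normal → IsMulCommutative B → A ≤ B → B = A := fun B h1 h2 h3 =>
    le_antisymm (hAmax ⟨h1, h2⟩ h3) h3
  haveI := hAn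
  have hC := (Cfsg.Agent.S0685.result H hreg hI A hAn hAc hAmax').2
  obtain ⟨N, hNle, ⟨hNn, hNna⟩, hNmin⟩ := Finite.exists_le_minimal
    (p := fun N : Subgroup H => N.Normal ∧ ¬ IsMulCommutative N) (a := Subgroup.centralizer (A : Set H)) ⟨inferInstance, hC⟩
  haveI := hNn
  haveI : Nontrivial H := Cfsg.Lib.SolvStruct.Zassenhaus.nontrivial_of_noncomm hNna
  obtain ⟨W, φ, hW, hφ⟩ := Cfsg.Lib.SolvStruct.Zassenhaus.exists_fpf_rep
    (Cfsg.Lib.SolvStruct.Zassenhaus.crit_of_regular hreg)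
  haveI := hW
  obtain ⟨eN⟩ := hφ.core_solvable hAn hAc hAmax' hNn hNle hNna
    (fun M h1 h2 h3 => le_antisymm h2 (hNmin ⟨h1, h3⟩ h2)) inferInstance
  exact Cfsg.Lib.SolvStruct.Zassenhaus.card_solvable hreg hI hNna eN

end Cfsg.Agent.S0688
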