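import Cfsg.Statements.S0691
import Cfsg.Agent.PermGroups.RegularMatrix

set_option autoImplicit false
open Cfsg

namespace Cfsg.Agent.S0691

set_option maxRecDepth 100000

section
open Cfsg.Lib.PermGroups.RegMat

theorem cert_all : certify 5 [(2, 0, 0, 3), (0, 4, 1, 0), (1, 2, 1, 3)] [(2, 0, 0, 3), (0, 4, 1, 0), (1, 2, 1, 3), (4, 0, 0, 4), (0, 2, 2, 0), (2, 1, 2, 4), (0, 3, 3, 0), (2, 4, 3, 4), (4, 2, 1, 2), (3, 3, 4, 1), (3, 0, 0, 2), (0, 1, 4, 0), (4, 3, 4, 2), (3, 1, 2, 1), (1, 4, 3, 3), (1, 3, 4, 3), (3, 2, 1, 1), (3, 4, 3, 1), (1, 1, 2, 3), (2, 2, 1, 4), (2, 3, 4, 4), (4, 4, 3, 2), (4, 1, 2, 2)] [(0, 0), (1, 0), (2, 0), (0, 1), (1, 1), (2, 1), (0, 2), (2, 2), (1, 3), (2, 3), (0, 4), (1, 4), (2, 4), (1, 6), (2, 6), (2, 7), (2, 8), (0, 9), (2, 9), (2, 13), (2, 14), (2, 16), (2, 18)] = true := by decide +kernel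

theorem cert_free : (((1, 0, 0, 1) :: [(2, 0, 0, 3), (0, 4, 1, 0), (1, 2, 1, 3), (4, 0, 0, 4), (0, 2, 2, 0), (2, 1, 2, 4), (0, 3, 3, 0), (2, 4, 3, 4), (4, 2, 1, 2), (3, 3, 4, 1), (3, 0, 0, 2), (0, 1, 4, 0), (4, 3, 4, 2), (3, 1, 2, 1), (1, 4, 3, 3), (1, 3, 4, 3), (3, 2, 1, 1), (3, 4, 3, 1), (1, 1, 2, 3), (2, 2, 1, 4), (2, 3, 4, 4), (4, 4, 3, 2), (4, 1, 2, 2)] : List N4).all (freeN 5 1)) = true := by decide +kernel

end

/-- An exceptional sharply doubly transitive group of degree 5^2: the listed matrices generate a subgroup of GL(2,5) of order 24 acting regularly on the non-zero vectors. -/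
theorem result (A : Matrix.GeneralLinearGroup (Fin 2) (ZMod 5)) (B : Matrix.GeneralLinearGroup (Fin 2) (ZMod 5)) (C : Matrix.GeneralLinearGroup (Fin 2) (ZMod 5)) (hA : (A : Matrix (Fin 2) (Fin 2) (ZMod 5)) = !![2, 0; 0, -2]) (hB : (B : Matrix (Fin 2) (Fin 2) (ZMod 5)) = !![0, -1; 1, 0]) (hC : (C : Matrix (Fin 2) (Fin 2) (ZMod 5)) = !![1, 2; 1, -2]) : Nat.card (Subgroup.closure ({A, B, C} : Set (Matrix.GeneralLinearGroup (Fin 2) (ZMod 5)))) = 24 ∧ ∀ v w : Fin 2 → ZMod 5, v ≠ 0 → w ≠ 0 → ∃! h : Subgroup.closure ({A, B, C} : Set (Matrix.GeneralLinearGroup (Fin 2) (ZMod 5))), Matrix.mulVec ((h : Matrix.GeneralLinearGroup (Fin 2) (ZMod 5)) : Matrix (Fin 2) (Fin 2) (ZMod 5)) v = w := by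
  have : Fact (Nat.Prime 5) := ⟨by norm_num⟩
  open Cfsg.Lib.PermGroups.RegMat in
    have hL : [A, B, C].map toT = ([(2, 0, 0, -2), (0, -1, 1, 0), (1, 2, 1, -2)] : List (T 5)) := by
      simp [toT, hA, hB, hC]
  open Cfsg.Lib.PermGroups.RegMat in
    have hc := of_certify (p := 5) [(2, 0, 0, 3), (0, 4, 1, 0), (1, 2, 1, 3)] [(2, 0, 0, 3), (0, 4, 1, 0), (1, 2, 1, 3), (4, 0, 0, 4), (0, 2, 2, 0), (2, 1, 2, 4), (0, 3, 3, 0), (2, 4, 3, 4), (4, 2, 1, 2), (3, 3, 4, 1), (3, 0, 0, 2), (0, 1, 4, 0), (4, 3, 4, 2), (3, 1, 2, 1), (1, 4, 3, 3), (1, 3, 4, 3), (3, 2, 1, 1), (3, 4, 3, 1), (1, 1, 2, 3), (2, 2, 1, 4), (2, 3, 4, 4), (4, 4, 3, 2), (4, 1, 2, 2)] [(0, 0), (1, 0), (2, 0), (0, 1), (1, 1), (2, 1), (0, 2), (2, 2), (1, 3), (2, 3), (0, 4), (1, 4), (2, 4), (1, 6), (2, 6), (2, 7), (2, 8), (0, 9), (2, 9), (2, 13), (2, 14), (2, 16), (2, 18)] cert_all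
  open Cfsg.Lib.PermGroups.RegMat in
    have hg : [A, B, C].map toT = ([(2, 0, 0, 3), (0, 4, 1, 0), (1, 2, 1, 3)] : List N4).map (cast4 (p := 5)) := by
      rw [hL]; simp [cast4]; and_intros <;> rfl
  open Cfsg.Lib.PermGroups.RegMat in
    have h := card_closure [A, B, C] (([(2, 0, 0, 3), (0, 4, 1, 0), (1, 2, 1, 3), (4, 0, 0, 4), (0, 2, 2, 0), (2, 1, 2, 4), (0, 3, 3, 0), (2, 4, 3, 4), (4, 2, 1, 2), (3, 3, 4, 1), (3, 0, 0, 2), (0, 1, 4, 0), (4, 3, 4, 2), (3, 1, 2, 1), (1, 4, 3, 3), (1, 3, 4, 3), (3, 2, 1, 1), (3, 4, 3, 1), (1, 1, 2, 3), (2, 2, 1, 4), (2, 3, 4, 4), (4, 4, 3, 2), (4, 1, 2, 2)] : List N4).map cast4) [(0, 0), (1, 0), (2, 0), (0, 1), (1, 1), (2, 1), (0, 2), (2, 2), (1, 3), (2, 3), (0, 4), (1, 4), (2, 4), (1, 6), (2, 6), (2, 7), (2, 8), (0, 9), (2, 9), (2, 13), (2, 14), (2, 16), (2, 18)] (by rw [hg]; exact hc.1) hc.2.1 (by rw [hg];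 exact hc.2.2)
  rw [show ({g | g ∈ [A, B, C]} : Set _) = {A, B, C} by ext; simp] at h
  obtain ⟨h1, h2⟩ := h
  have hf := Cfsg.Lib.PermGroups.RegMat.regular (Subgroup.closure ({A, B, C} : Set (Matrix.GeneralLinearGroup (Fin 2) (ZMod 5))))
    (fun g hg => by
      have hm := (h2 g).1 hg
      revert hm
      generalize Cfsg.Lib.PermGroups.RegMat.toT g = x
      intro hx
      rw [show ((1, 0, 0, 1) : Cfsg.Lib.PermGroups.RegMat.T 5) = Cfsg.Lib.PermGroups.RegMat.cast4 (1, 0, 0, 1) by simp [Cfsg.Lib.PermGroups.RegMat.cast4], ← List.map_cons] at hx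
      obtain ⟨y, hy, rfl⟩ := List.mem_map.1 hx
      have := Cfsg.Lib.PermGroups.RegMat.free_of_freeN (p := 5) (List.all_eq_true.1 cert_free y hy)
      simpa [Cfsg.Lib.PermGroups.RegMat.mul] using this) (by rw [h1, List.length_cons, List.length_map]; simp)
  exact ⟨by rw [hf.1]; norm_num, hf.2⟩

end Cfsg.Agent.S0691
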