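import Cfsg.Statements.S0694
import Mathlib

set_option autoImplicit false
open Cfsg

namespace Cfsg.Agent.S0694

theorem sub_one_dvd {q a b : ℕ} (h : a ∣ b) : q ^ a - 1 ∣ q ^ b - 1 := by
  have := Nat.pow_sub_one_gcd_pow_sub_one q a b
  rw [Nat.gcd_eq_left h] at this
  exact this ▸ Nat.gcd_dvd_right _ _

theorem val_two_odd {q i : ℕ} (hq : 1 < q) (hq2 : ¬ 2 ∣ q) (hi : ¬ 2 ∣ i) :
    padicValNat 2 (q ^ i - 1) = padicValNat 2 (q - 1) := by
  haveI := Fact.mk Nat.prime_two
  have hi0 : i ≠ 0 := by omega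
  obtain ⟨c, hc⟩ : q - 1 ∣ q ^ i - 1 := by simpa using sub_one_dvd (q := q) (one_dvd i)
  have hodd : ¬ 2 ∣ c := by
    intro hc2
    have h1 : c = ∑ j ∈ Finset.range i, q ^ j := by
      have := Nat.geomSum_eq (m := q) (by omega) i
      rw [hc, Nat.mul_div_cancel_left _ (by omega)] at this
      exact this.symm
    rw [← ZMod.natCast_eq_zero_iff] at hc2
    rw [h1, Nat.cast_sum] at hc2
    have hq1 : (q : ZMod 2) = 1 := by
      rw [← ZMod.natCast_mod, show q % 2 = 1 by omega, Nat.cast_one]
    simp only [Nat.cast_pow, hq1, one_pow, Finset.sum_const, Finset.card_range, nsmul_one] at hc2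
    rw [ZMod.natCast_eq_zero_iff] at hc2
    exact hi hc2
  rw [hc, padicValNat.mul (by omega) (by rintro rfl; exact hodd (dvd_zero 2)), padicValNat.eq_zero_of_not_dvd hodd, add_zero]


/-- The Dickson pair condition: for a prime power `q` and `n > 1`, (every prime factor of `n` divides `q - 1`, and `4 ∣ n → 4 ∣ q - 1`) holds exactly when `q ^ n ≡ 1` modulo `n * (q - 1)` but `q ^ i` is not, for `0 < i < n`. -/
theorem result (q n : ℕ) (hq : IsPrimePow q) (hn : 1 < n) : ((∀ r : ℕ, r.Prime → r ∣ n → r ∣ q - 1) ∧ (4 ∣ n → 4 ∣ q - 1)) ↔ (q ^ n ≡ 1 [MOD n * (q - 1)] ∧ ∀ i : ℕ, 0 < i → i < n → ¬ q ^ i ≡ 1 [MOD n * (q - 1)]) := by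
  have hq2 : 2 ≤ q := hq.two_le
  have hn0 : n ≠ 0 := by omega
  have hq10 : q - 1 ≠ 0 := by omega
  have hM0 : n * (q - 1) ≠ 0 := Nat.mul_ne_zero hn0 hq10
  have hmod : ∀ i, (q ^ i ≡ 1 [MOD n * (q - 1)]) ↔ n * (q - 1) ∣ q ^ i - 1 := fun i => by
    rw [← Nat.modEq_iff_dvd' (Nat.one_le_pow _ _ (by omega))]
    exact ⟨Nat.ModEq.symm, Nat.ModEq.symm⟩
  have hne : ∀ i, i ≠ 0 → q ^ i - 1 ≠ 0 := fun i hi => by
    have : 1 < q ^ i := Nat.one_lt_pow hi (by omega)
    omega
  constructor
  · rintro ⟨h1, h4⟩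
    have hndvd : ∀ r, r.Prime → r ∣ n → ¬ r ∣ q := fun r hr hrn hrq => by
      have := Nat.dvd_sub hrq (h1 r hr hrn)
      rw [show q - (q - 1) = 1 by omega] at this
      exact hr.ne_one (Nat.dvd_one.1 this)
    refine ⟨(hmod n).2 ((Nat.dvd_iff_prime_pow_dvd_dvd _ _).2 fun r k hr hk => ?_), fun i hi hin hi' => ?_⟩
    · haveI := Fact.mk hr
      have hk' : k ≤ padicValNat r n + padicValNat r (q - 1) := by
        rw [← padicValNat.mul hn0 hq10]
        exact (padicValNat_dvd_iff_le hM0).1 hk
      refine (pow_dvd_pow r hk').trans ?_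
      rw [padicValNat_dvd_iff_le (hne n hn0)]
      by_cases hrn : r ∣ n
      · rcases hr.eq_two_or_odd' with rfl | hodd
        · have h := padicValNat.pow_two_sub_one (x := q) (by omega) (hndvd 2 hr hrn) hn0 (even_iff_two_dvd.2 hrn)
          have h2 : 1 ≤ padicValNat 2 (q + 1) := one_le_padicValNat_of_dvd (by omega) (by
            have := hndvd 2 hr hrn; omega)
          omega
        · have h := padicValNat.pow_sub_pow (p := r) hodd (x := q) (y := 1) (by omega) (h1 r hr hrn) (hndvd r hr hrn) hn0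
          rw [one_pow] at h
          omega
      · rw [padicValNat.eq_zero_of_not_dvd hrn, zero_add]
        exact (padicValNat_dvd_iff_le (hne n hn0)).1 (dvd_trans pow_padicValNat_dvd (by simpa using sub_one_dvd (q := q) (one_dvd n)))
    · have hdiv := (hmod i).1 hi'
      refine absurd (Nat.le_of_dvd hi ?_) (not_le.2 hin)
      refine (Nat.dvd_iff_prime_pow_dvd_dvd _ _).2 fun r k hr hk => ?_
      haveI := Fact.mk hr
      by_cases hrn : r ∣ n
      swap
      · have : k = 0 := by
          by_contra hk0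
          exact hrn ((dvd_pow_self r hk0).trans hk)
        simp [this]
      have hi0 : i ≠ 0 := by omega
      refine (pow_dvd_pow r ((padicValNat_dvd_iff_le hn0).1 hk)).trans ?_
      rw [padicValNat_dvd_iff_le hi0]
      have hle : padicValNat r n + padicValNat r (q - 1) ≤ padicValNat r (q ^ i - 1) := by
        rw [← padicValNat.mul hn0 hq10, ← padicValNat_dvd_iff_le (hne i hi0)]
        exact dvd_trans pow_padicValNat_dvd hdiv
      have hpos : 1 ≤ padicValNat r n := one_le_padicValNat_of_dvd hn0 hrn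
      rcases hr.eq_two_or_odd' with rfl | hodd
      · by_cases hie : 2 ∣ i
        · have h := padicValNat.pow_two_sub_one (x := q) (by omega) (hndvd 2 hr hrn) hi0 (even_iff_two_dvd.2 hie)
          have hi2 : 1 ≤ padicValNat 2 i := one_le_padicValNat_of_dvd hi0 hie
          by_cases hn4 : 4 ∣ n
          · have h2 : padicValNat 2 (q + 1) < 2 := by
              by_contra hh
              push Not at hh
              have : 2 ^ 2 ∣ q + 1 := (padicValNat_dvd_iff_le (by omega)).2 hh
              have := h4 hn4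
              omega
            omega
          · have : padicValNat 2 n < 2 := by
              by_contra hh
              push Not at hh
              exact hn4 ((padicValNat_dvd_iff_le hn0).2 hh)
            omega
        · rw [val_two_odd (by omega) (hndvd 2 hr hrn) hie] at hle
          omega
      · have h := padicValNat.pow_sub_pow (p := r) hodd (x := q) (y := 1) (by omega) (h1 r hr hrn) (hndvd r hr hrn) hi0
        rw [one_pow] at h
        omega
  · rintro ⟨hpow, hmin⟩
    have hdn := (hmod n).1 hpow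
    have hndvd : ∀ r, r.Prime → r ∣ n → ¬ r ∣ q := fun r hr hrn hrq => by
      have h1 : r ∣ q ^ n - 1 := (dvd_mul_of_dvd_left hrn _).trans hdn
      have h2 : r ∣ q ^ n := dvd_pow hrq hn0
      have := Nat.dvd_sub h2 h1
      rw [show q ^ n - (q ^ n - 1) = 1 by have := Nat.one_le_pow n q (by omega); omega] at this
      exact hr.ne_one (Nat.dvd_one.1 this)
    -- no prime `r` can be avoided
    have key : ∀ r, r.Prime → r ∣ n → ¬ ∀ s, s.Prime → ∃ e, s ^ (padicValNat s n + padicValNat s (q - 1)) ∣ q ^ e - 1 ∧ ¬ r ^ padicValNat r n ∣ e := by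
      intro r hr hrn hall
      refine hmin (n / r) (Nat.div_pos (Nat.le_of_dvd (by omega) hrn) hr.pos) (Nat.div_lt_self (by omega) hr.one_lt) ((hmod _).2 ?_)
      refine (Nat.dvd_iff_prime_pow_dvd_dvd _ _).2 fun s k hs hk => ?_
      haveI := Fact.mk hs
      haveI := Fact.mk hr
      obtain ⟨e, he, hre⟩ := hall s hs
      refine (pow_dvd_pow s ?_).trans ((?_ : s ^ (padicValNat s n + padicValNat s (q - 1)) ∣ q ^ (n / r) - 1))
      · rw [← padicValNat.mul hn0 hq10]; exact (padicValNat_dvd_iff_le hM0).1 hk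
      have hd2 : s ^ (padicValNat s n + padicValNat s (q - 1)) ∣ q ^ n - 1 := by
        rw [← padicValNat.mul hn0 hq10]; exact dvd_trans pow_padicValNat_dvd hdn
      have h := Nat.dvd_gcd he hd2
      rw [Nat.pow_sub_one_gcd_pow_sub_one] at h
      refine h.trans (sub_one_dvd ?_)
      obtain ⟨c, hc⟩ := Nat.gcd_dvd_right e n
      have hrc : r ∣ c := by
        by_contra hrc
        refine hre (dvd_trans ?_ (Nat.gcd_dvd_left e n))
        exact (Nat.Coprime.pow_left _ (hr.coprime_iff_not_dvd.2 hrc)).dvd_of_dvd_mul_right (hc ▸ pow_padicValNat_dvd)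
      obtain ⟨c', rfl⟩ := hrc
      refine ⟨c', ?_⟩
      conv_lhs => rw [hc, show Nat.gcd e n * (r * c') = r * (Nat.gcd e n * c') by ring, Nat.mul_div_cancel_left _ hr.pos]
    have base : ∀ s, s.Prime → s ∣ q - 1 → s ^ (padicValNat s n + padicValNat s (q - 1)) ∣ q ^ (s ^ padicValNat s n) - 1 := by
      intro s hs hsq
      haveI := Fact.mk hs
      rcases Nat.eq_zero_or_pos (padicValNat s n) with ha | ha
      · rw [ha, zero_add, pow_zero, pow_one]; exact pow_padicValNat_dvd
      have hsn : s ∣ n := (dvd_pow_self s ha.ne').trans pow_padicValNat_dvd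
      have hne' : s ^ padicValNat s n ≠ 0 := pow_ne_zero _ hs.ne_zero
      rw [padicValNat_dvd_iff_le (hne _ hne')]
      rcases hs.eq_two_or_odd' with rfl | hodd
      · have h := padicValNat.pow_two_sub_one (x := q) (by omega) (hndvd 2 hs hsn) hne' (even_iff_two_dvd.2 (dvd_pow_self 2 ha.ne'))
        rw [padicValNat.prime_pow] at h
        have h2 : 1 ≤ padicValNat 2 (q + 1) := one_le_padicValNat_of_dvd (by omega) (by
          have := hndvd 2 hs hsn; omega)
        omega
      · have h := padicValNat.pow_sub_pow (p := s) hodd (x := q) (y := 1) (by omega) hsq (hndvd s hs hsn) hne'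
        rw [one_pow, padicValNat.prime_pow] at h
        omega
    have hall : ∀ r, r.Prime → r ∣ n → r ∣ q - 1 := by
      by_contra hno
      push Not at hno
      obtain ⟨r0, h0⟩ := hno
      have hfin : {r : ℕ | r.Prime ∧ r ∣ n ∧ ¬ r ∣ q - 1}.Finite :=
        (Set.finite_le_nat n).subset fun r hr => Nat.le_of_dvd (by omega) hr.2.1
      obtain ⟨r, ⟨hr, hrn, hrq⟩, hmaxr⟩ := Set.exists_max_image _ id hfin ⟨r0, h0⟩
      haveI := Fact.mk hr
      have hra : 1 ≤ padicValNat r n := one_le_padicValNat_of_dvd hn0 hrn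
      refine key r hr hrn fun s hs => ?_
      haveI := Fact.mk hs
      by_cases hsq : s ∣ q - 1
      · refine ⟨_, base s hs hsq, fun h => hrq ?_⟩
        have := hr.dvd_of_dvd_pow ((dvd_pow_self r (show padicValNat r n ≠ 0 by omega)).trans h)
        rwa [(Nat.prime_dvd_prime_iff_eq hr hs).1 this]
      · rw [padicValNat.eq_zero_of_not_dvd hsq, add_zero]
        by_cases hsn : s ∣ n
        · refine ⟨Nat.totient (s ^ padicValNat s n), ?_, ?_⟩
          · rw [← Nat.modEq_iff_dvd' (Nat.one_le_pow _ _ (by omega))]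
            exact (Nat.ModEq.pow_totient (Nat.Coprime.pow_right _ ((hs.coprime_iff_not_dvd.2 (hndvd s hs hsn)).symm))).symm
          · rw [Nat.totient_prime_pow hs (one_le_padicValNat_of_dvd hn0 hsn)]
            intro h
            have hle : s ≤ r := hmaxr s ⟨hs, hsn, hsq⟩
            have hcop : (r ^ padicValNat r n).Coprime (s - 1) := Nat.Coprime.pow_left _ (hr.coprime_iff_not_dvd.2 fun h' => by
              have := hs.two_le
              have := Nat.le_of_dvd (by omega) h'
              omega)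
            have h' := hcop.dvd_of_dvd_mul_right h
            rcases eq_or_ne s r with rfl | hne2
            · rw [Nat.pow_dvd_pow_iff_le_right hs.one_lt] at h'
              omega
            · exact hne2 ((Nat.prime_dvd_prime_iff_eq hr hs).1 (hr.dvd_of_dvd_pow ((dvd_pow_self r (show padicValNat r n ≠ 0 by omega)).trans h'))).symm
        · refine ⟨1, by rw [padicValNat.eq_zero_of_not_dvd hsn]; simp, fun h => ?_⟩
          exact hr.ne_one (Nat.dvd_one.1 ((dvd_pow_self r (show padicValNat r n ≠ 0 by omega)).trans h))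
    refine ⟨hall, fun hn4 => ?_⟩
    by_contra hq4
    haveI := Fact.mk Nat.prime_two
    have h2n : 2 ∣ n := dvd_trans (by norm_num) hn4
    have ha : 2 ≤ padicValNat 2 n := (padicValNat_dvd_iff_le hn0).1 (by simpa using hn4)
    refine key 2 Nat.prime_two h2n fun s hs => ?_
    haveI := Fact.mk hs
    by_cases hsn : s ∣ n
    swap
    · refine ⟨1, ?_, fun h => by have := (dvd_pow_self 2 (show padicValNat 2 n ≠ 0 by omega)).trans h; omega⟩
      rw [padicValNat.eq_zero_of_not_dvd hsn, zero_add, pow_one]; exact pow_padicValNat_dvd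
    by_cases hs2 : s = 2
    · subst hs2
      refine ⟨2 ^ (padicValNat 2 n - 1), ?_, fun h => by
        rw [Nat.pow_dvd_pow_iff_le_right Nat.prime_two.one_lt] at h; omega⟩
      have hne' : 2 ^ (padicValNat 2 n - 1) ≠ 0 := pow_ne_zero _ two_ne_zero
      rw [padicValNat_dvd_iff_le (hne _ hne')]
      have hq1 : 2 ∣ q - 1 := hall 2 hs hsn
      have h := padicValNat.pow_two_sub_one (x := q) (by omega) (hndvd 2 hs hsn) hne' (even_iff_two_dvd.2 (dvd_pow_self 2 (by omega)))
      rw [padicValNat.prime_pow] at h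
      have h2 : 2 ≤ padicValNat 2 (q + 1) := (padicValNat_dvd_iff_le (by omega)).1 (by
        norm_num
        omega)
      have h3 : padicValNat 2 (q - 1) < 2 := by
        by_contra hh
        push Not at hh
        exact hq4 ((padicValNat_dvd_iff_le hq10).2 hh)
      omega
    · refine ⟨_, base s hs (hall s hs hsn), fun h => hs2 ?_⟩
      exact ((Nat.prime_dvd_prime_iff_eq Nat.prime_two hs).1 (Nat.prime_two.dvd_of_dvd_pow ((dvd_pow_self 2 (show padicValNat 2 n ≠ 0 by omega)).trans h))).symm

end Cfsg.Agent.S0694
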