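import Cfsg.Statements.S0695
import Mathlib

set_option autoImplicit false
open Cfsg
open scoped Pointwise

namespace Cfsg.Agent.S0695

/-- A regular normal subgroup of a doubly primitive group of finite degree at least 2 is an elementary abelian 2-group (and the degree is a power of 2), unless the degree is 3. -/
theorem result {G : Type*} [Group G] {X : Type*} [Fintype X] [MulAction G X] (hX : 2 ≤ Fintype.card X) (h2 : MulAction.IsMultiplyPreprimitive G X 2) (N : Subgroup G) [N.Normal] (htrans : MulAction.IsPretransitive N X) (hreg : ∀ x : X, MulAction.stabilizer N x = ⊥) : Fintype.card X = 3 ∨ (IsMulCommutative N ∧ (∀ n ∈ N, n ^ 2 = 1) ∧ ∃ m : ℕ, Fintype.card X = 2 ^ m) := by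
  classical
  have hN : N.Normal := inferInstance
  have inj : ∀ (z : X) (n m : G), n ∈ N → m ∈ N → n • z = m • z → n = m := fun z n m hn hm e => by
    have h' : (⟨m, hm⟩⁻¹ * ⟨n, hn⟩ : N) ∈ MulAction.stabilizer N z := by
      rw [MulAction.mem_stabilizer_iff]
      show (m⁻¹ * n) • z = z
      rw [mul_smul, e, inv_smul_smul]
    rw [hreg z, Subgroup.mem_bot] at h'
    exact congrArg Subtype.val (inv_mul_eq_one.1 h').symm
  obtain ⟨a, b, hab⟩ := Fintype.exists_pair_of_one_lt_card (show 1 < Fintype.card X by omega)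
  by_cases h3 : Fintype.card X = 3
  · exact Or.inl h3
  have sq : ∀ n ∈ N, n ^ 2 = 1 := by
    intro n hn
    by_cases hn1 : n = 1
    · rw [hn1, one_pow]
    have := h2.isPreprimitive_ofFixingSubgroup (s := ({a} : Set X)) (by rw [Set.encard_singleton]; norm_num)
    have hna : ∀ m ∈ N, m ≠ 1 → m • a ≠ a := fun m hm hm1 e => hm1 (inj a m 1 hm N.one_mem (by rw [e, one_smul]))
    let B : Set (SubMulAction.ofFixingSubgroup G ({a} : Set X)) := {z | (z : X) = n • a ∨ (z : X) = n⁻¹ • a}
    have hB : MulAction.IsBlock (fixingSubgroup G ({a} : Set X)) B := by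
      rw [MulAction.isBlock_iff_smul_eq_of_nonempty]
      intro g hne
      have hga : (g : G) • a = a := (mem_fixingSubgroup_iff G).1 g.2 a rfl
      have hc : ∀ m : G, (g : G) • m • a = ((g : G) * m * (g : G)⁻¹) • a := fun m => by
        rw [mul_smul, mul_smul, inv_smul_eq_iff.2 hga.symm]
      obtain ⟨_, ⟨z, hz, rfl⟩, hw⟩ := hne
      have hcase : (g : G) * n * (g : G)⁻¹ = n ∨ (g : G) * n * (g : G)⁻¹ = n⁻¹ := by
        have hm := hN.conj_mem n hn g
        have hw' : (g : G) • (z : X) = n • a ∨ (g : G) • (z : X) = n⁻¹ • a := hw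
        rcases hz with hz | hz <;> rcases hw' with hw' | hw' <;> rw [hz, hc] at hw'
        · exact Or.inl (inj a _ _ hm hn hw')
        · exact Or.inr (inj a _ _ hm (N.inv_mem hn) hw')
        · refine Or.inr ?_
          have := inj a _ _ (hN.conj_mem _ (N.inv_mem hn) g) hn hw'
          rw [← conj_inv, inv_eq_iff_eq_inv] at this
          exact this
        · refine Or.inl ?_
          have := inj a _ _ (hN.conj_mem _ (N.inv_mem hn) g) (N.inv_mem hn) hw'
          rw [← conj_inv, inv_inj] at this
          exact this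
      have himg : ∀ y, y ∈ B → g • y ∈ B := fun y hy => by
        show (g : G) • (y : X) = _ ∨ (g : G) • (y : X) = _
        rcases hy with hy | hy <;> rw [hy, hc] <;> rcases hcase with e | e
        · exact Or.inl (by rw [e])
        · exact Or.inr (by rw [e])
        · exact Or.inr (by rw [← conj_inv, e])
        · exact Or.inl (by rw [← conj_inv, e, inv_inv])
      exact Set.eq_of_subset_of_ncard_le (by rintro _ ⟨y, hy, rfl⟩; exact himg y hy)
        (by rw [← Set.image_smul, Set.ncard_image_of_injective _ (MulAction.injective g)]) (Set.toFinite _)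
    have hmem : ∀ m ∈ N, m ≠ 1 → m • a ∈ SubMulAction.ofFixingSubgroup G ({a} : Set X) := fun m hm hm1 e => hna m hm hm1 e
    rcases MulAction.IsPreprimitive.isTrivialBlock_of_isBlock hB with hs | hs
    · have e := congrArg Subtype.val (hs (x := ⟨n • a, hmem n hn hn1⟩) (Or.inl rfl) (y := ⟨n⁻¹ • a, hmem n⁻¹ (N.inv_mem hn) (inv_ne_one.2 hn1)⟩) (Or.inr rfl))
      rw [pow_two, mul_eq_one_iff_eq_inv]
      exact inj a _ _ hn (N.inv_mem hn) e
    · have hcard : Fintype.card X ≤ 3 := by
        have hsub : (Set.univ : Set X) ⊆ {a, n • a, n⁻¹ • a} := fun z _ => by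
          by_cases hz : z = a
          · exact Or.inl hz
          · rcases Set.eq_univ_iff_forall.1 hs ⟨z, hz⟩ with h | h
            · exact Or.inr (Or.inl h)
            · exact Or.inr (Or.inr h)
        have := Set.ncard_le_ncard hsub (Set.toFinite _)
        rw [Set.ncard_univ, Nat.card_eq_fintype_card] at this
        refine this.trans ((Set.ncard_insert_le _ _).trans (Nat.succ_le_succ ((Set.ncard_insert_le _ _).trans (Nat.succ_le_succ ?_))))
        simp
      have h2c : Nat.card N = 2 := by
        rw [Nat.card_congr (Equiv.ofBijective (fun m : N => (m : G) • a) ⟨fun m m' e => Subtype.ext (inj a _ _ m.2 m'.2 e), fun z => MulAction.exists_smul_eq N a z⟩), Nat.card_eq_fintype_card]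
        omega
      have := pow_card_eq_one' (x := (⟨n, hn⟩ : N))
      rw [h2c] at this
      exact congrArg Subtype.val this
  refine Or.inr ⟨⟨⟨fun x y => Subtype.ext ?_⟩⟩, sq, ?_⟩
  · have e : ∀ m ∈ N, m⁻¹ = m := fun m hm => inv_eq_of_mul_eq_one_right (by rw [← pow_two]; exact sq m hm)
    show (x : G) * y = y * x
    rw [← e _ (N.mul_mem x.2 y.2), mul_inv_rev, e _ x.2, e _ y.2]
  · have hcard : Nat.card N = Fintype.card X := by
      rw [Nat.card_congr (Equiv.ofBijective (fun m : N => (m : G) • a) ⟨fun m m' e => Subtype.ext (inj a _ _ m.2 m'.2 e), fun z => MulAction.exists_smul_eq N a z⟩), Nat.card_eq_fintype_card]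
    have hP : IsPGroup 2 N := fun m => ⟨1, Subtype.ext (by rw [pow_one]; exact sq m.1 m.2)⟩
    have : Finite N := Nat.finite_of_card_ne_zero (by rw [hcard]; omega)
    have : Fact (Nat.Prime 2) := ⟨Nat.prime_two⟩
    obtain ⟨m, hm⟩ := IsPGroup.iff_card.1 hP
    exact ⟨m, hcard ▸ hm⟩

end Cfsg.Agent.S0695
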