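import Cfsg.Statements.S0696
import Mathlib
import Cfsg.Agent.S0695

set_option autoImplicit false
open Cfsg
open scoped Pointwise

namespace Cfsg.Agent.S0696

/-- A triply primitive group of degree at least 3 having a regular normal subgroup has degree 3 or 4. -/
theorem result {G : Type*} [Group G] {X : Type*} [Fintype X] [MulAction G X] (hX : 3 ≤ Fintype.card X) (h3 : MulAction.IsMultiplyPreprimitive G X 3) (N : Subgroup G) [N.Normal] (htrans : MulAction.IsPretransitive N X) (hreg : ∀ x : X, MulAction.stabilizer N x = ⊥) : Fintype.card X = 3 ∨ Fintype.card X = 4 := by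
  classical
  have hN : N.Normal := inferInstance
  have inj : ∀ (z : X) (n m : G), n ∈ N → m ∈ N → n • z = m • z → n = m := fun z n m hn hm e => by
    have h' : (⟨m, hm⟩⁻¹ * ⟨n, hn⟩ : N) ∈ MulAction.stabilizer N z := by
      rw [MulAction.mem_stabilizer_iff]
      show (m⁻¹ * n) • z = z
      rw [mul_smul, e, inv_smul_smul]
    rw [hreg z, Subgroup.mem_bot] at h'
    exact congrArg Subtype.val (inv_mul_eq_one.1 h').symm
  by_cases h3' : Fintype.card X = 3
  · exact Or.inl h3'
  refine Or.inr ?_
  have h2' : MulAction.IsMultiplyPreprimitive G X 2 :=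
    MulAction.isMultiplyPreprimitive_of_le G X (n := 3) h3 (by norm_num) (by rw [ENat.card_eq_coe_fintype_card]; exact_mod_cast hX)
  obtain h | ⟨hc, sq, -⟩ := Cfsg.Agent.S0695.result (by omega) h2' N htrans hreg
  · exact absurd h h3'
  obtain ⟨a, b, hab⟩ := Fintype.exists_pair_of_one_lt_card (show 1 < Fintype.card X by omega)
  obtain ⟨⟨n, hn⟩, hnab⟩ := MulAction.exists_smul_eq N a b
  change n • a = b at hnab
  have hnb : n • b = a := by rw [← hnab, ← mul_smul, ← pow_two, sq n hn, one_smul]
  have := h3.isPreprimitive_ofFixingSubgroup (s := ({a, b} : Set X)) (by rw [Set.encard_pair hab]; norm_num)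
  obtain ⟨x, hx⟩ : ∃ x, x ∉ ({a, b} : Set X) := by
    by_contra h
    push Not at h
    have := Set.ncard_le_ncard (fun z (_ : z ∈ Set.univ) => h z) (Set.toFinite _)
    rw [Set.ncard_univ, Nat.card_eq_fintype_card, Set.ncard_pair hab] at this
    omega
  have hnx : n • x ∉ ({a, b} : Set X) := by
    rintro (h | h)
    · exact hx (Or.inr ((smul_left_cancel n) (h.trans hnb.symm)))
    · exact hx (Or.inl ((smul_left_cancel n) ((Set.mem_singleton_iff.1 h).trans hnab.symm)))
  let B : Set (SubMulAction.ofFixingSubgroup G ({a, b} : Set X)) := {z | (z : X) = x ∨ (z : X) = n • x}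
  have hB : MulAction.IsBlock (fixingSubgroup G ({a, b} : Set X)) B := by
    rw [MulAction.isBlock_iff_smul_eq_of_nonempty]
    intro g hne
    have hga : (g : G) • a = a := (mem_fixingSubgroup_iff G).1 g.2 a (Or.inl rfl)
    have hgb : (g : G) • b = b := (mem_fixingSubgroup_iff G).1 g.2 b (Or.inr rfl)
    have hgn : (g : G) * n * (g : G)⁻¹ = n := inj a _ _ (hN.conj_mem n hn g) hn (by
      rw [mul_smul, mul_smul, inv_smul_eq_iff.2 hga.symm, hnab, hgb])
    have hcm : ∀ z : X, (g : G) • n • z = n • (g : G) • z := fun z => by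
      rw [← mul_smul, ← mul_smul, show (g : G) * n = n * g from mul_inv_eq_iff_eq_mul.1 hgn]
    have hnn : ∀ z : X, n • n • z = z := fun z => by rw [← mul_smul, ← pow_two, sq n hn, one_smul]
    obtain ⟨_, ⟨z, hz, rfl⟩, hw⟩ := hne
    have hw' : (g : G) • (z : X) = x ∨ (g : G) • (z : X) = n • x := hw
    have hcase : (g : G) • x = x ∨ (g : G) • x = n • x := by
      rcases hz with hz | hz <;> rw [hz] at hw'
      · exact hw'
      · rw [hcm] at hw'
        rcases hw' with h | h
        · exact Or.inr ((congrArg (n • ·) h).symm.trans (hnn _)).symm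
        · exact Or.inl (smul_left_cancel n h)
    refine Set.eq_of_subset_of_ncard_le ?_ (by rw [← Set.image_smul, Set.ncard_image_of_injective _ (MulAction.injective g)]) (Set.toFinite _)
    rintro _ ⟨y, hy, rfl⟩
    show (g : G) • (y : X) = x ∨ (g : G) • (y : X) = n • x
    rcases hy with hy | hy <;> rw [hy]
    · exact hcase
    · rw [hcm]
      rcases hcase with e | e <;> rw [e]
      · exact Or.inr rfl
      · exact Or.inl (hnn x)
  have hnxx : n • x ≠ x := fun e => by
    have := inj x n 1 hn N.one_mem (by rw [e, one_smul])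
    rw [this, one_smul] at hnab
    exact hab hnab
  rcases MulAction.IsPreprimitive.isTrivialBlock_of_isBlock hB with hs | hs
  · exact absurd (congrArg Subtype.val (hs (x := ⟨n • x, hnx⟩) (Or.inr rfl) (y := ⟨x, hx⟩) (Or.inl rfl))) hnxx
  · have e : (Set.univ : Set X) = {a, b, x, n • x} := (Set.eq_univ_iff_forall.2 fun z => ?_).symm
    · have h4 : ({a, b, x, n • x} : Set X).ncard = 4 := by
        simp only [Set.mem_insert_iff, Set.mem_singleton_iff, not_or] at hx hnx
        rw [Set.ncard_insert_of_notMem (by simp [hab, Ne.symm hx.1, Ne.symm hnx.1]) (Set.toFinite _),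
          Set.ncard_insert_of_notMem (by simp [Ne.symm hx.2, Ne.symm hnx.2]) (Set.toFinite _), Set.ncard_pair hnxx.symm]
      rw [← e, Set.ncard_univ, Nat.card_eq_fintype_card] at h4
      exact h4
    · by_cases hz : z ∈ ({a, b} : Set X)
      · rcases hz with h | h
        · exact Or.inl h
        · exact Or.inr (Or.inl h)
      · rcases Set.eq_univ_iff_forall.1 hs ⟨z, hz⟩ with h | h
        · exact Or.inr (Or.inr (Or.inl h))
        · exact Or.inr (Or.inr (Or.inr h))

end Cfsg.Agent.S0696
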