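import Cfsg.Statements.S0699
import Mathlib

set_option autoImplicit false
open Cfsg

namespace Cfsg.Agent.S0699

/-- Wagner's Theorem: a non-trivial normal subgroup of a triply transitive permutation group of odd degree at least 5 is triply transitive. -/
theorem result {α : Type*} [Fintype α] [DecidableEq α] (G : Subgroup (Equiv.Perm α)) (hodd : Odd (Fintype.card α)) (h5 : 5 ≤ Fintype.card α) (hG : MulAction.IsMultiplyPretransitive G α 3) (N : Subgroup G) [N.Normal] (hN : N ≠ ⊥) : MulAction.IsMultiplyPretransitive N α 3 := by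
  classical
  have g3 : ∀ a b c a' b' c' : α, a ≠ b → a ≠ c → b ≠ c → a' ≠ b' → a' ≠ c' → b' ≠ c' →
      ∃ g : G, g • a = a' ∧ g • b = b' ∧ g • c = c' := fun a b c a' b' c' h1 h2 h3 h4 h5 h6 => by
    have mkE : ∀ a b c : α, a ≠ b → a ≠ c → b ≠ c → Function.Injective ![a, b, c] := by
      intro a b c h1 h2 h3 i j h
      fin_cases i <;> fin_cases j <;>
        first | rfl | exact absurd h h1 | exact absurd h.symm h1 | exact absurd h h2 | exact absurd h.symm h2 |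
          exact absurd h h3 | exact absurd h.symm h3
    obtain ⟨g, hg⟩ := hG.exists_smul_eq ⟨_, mkE a b c h1 h2 h3⟩ ⟨_, mkE a' b' c' h4 h5 h6⟩
    exact ⟨g, DFunLike.congr_fun hg 0, DFunLike.congr_fun hg 1, DFunLike.congr_fun hg 2⟩
  have hthird : ∀ u v : α, ∃ w, w ≠ u ∧ w ≠ v := fun u v => by
    obtain ⟨w, -, hw⟩ := Finset.exists_mem_notMem_of_card_lt_card (s := {u, v}) (t := (Finset.univ : Finset α))
      (by rw [Finset.card_univ]; have := Finset.card_le_two (a := u) (b := v); omega)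
    simp only [Finset.mem_insert, Finset.mem_singleton, not_or] at hw
    exact ⟨w, hw⟩
  have g2 : ∀ a b a' b' : α, a ≠ b → a' ≠ b' → ∃ g : G, g • a = a' ∧ g • b = b' := fun a b a' b' h1 h2 => by
    obtain ⟨c, hca, hcb⟩ := hthird a b
    obtain ⟨c', hca', hcb'⟩ := hthird a' b'
    obtain ⟨g, e1, e2, -⟩ := g3 a b c a' b' c' h1 hca.symm hcb.symm h2 hca'.symm hcb'.symm
    exact ⟨g, e1, e2⟩
  have hconj : ∀ (g : G) (x : G), x ∈ N → g * x * g⁻¹ ∈ N := fun g x hx => Subgroup.Normal.conj_mem inferInstance x hx g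
  obtain ⟨n₀, hn₀, hn₀1⟩ := (Subgroup.bot_or_exists_ne_one N).resolve_left hN
  obtain ⟨a, ha⟩ : ∃ a : α, n₀ • a ≠ a := by
    by_contra! h
    exact hn₀1 (Subtype.ext (Equiv.ext h))
  -- transitive
  have tr1 : ∀ c : α, ∃ x ∈ N, x • a = c := fun c => by
    by_cases hca : c = a
    · exact ⟨1, N.one_mem, by rw [one_smul, hca]⟩
    obtain ⟨g, e1, e2⟩ := g2 a (n₀ • a) a c ha.symm (Ne.symm hca)
    refine ⟨g * n₀ * g⁻¹, hconj g n₀ hn₀, ?_⟩
    rw [mul_smul, mul_smul, inv_smul_eq_iff.2 e1.symm, e2]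
  -- not regular
  obtain ⟨n₁, hn₁, hn₁a, b₁, hb₁⟩ : ∃ x ∈ N, x • a = a ∧ ∃ b, x • b ≠ b := by
    by_contra! hreg
    have hfree : ∀ x ∈ N, x • a = a → x = 1 := fun x hx hxa => Subtype.ext (Equiv.ext (hreg x hx hxa))
    have hcard : Nat.card N = Fintype.card α := by
      rw [← Nat.card_eq_fintype_card]
      refine Nat.card_congr (Equiv.ofBijective (fun x : N => (x : G) • a) ⟨fun x y e => ?_, fun c => ?_⟩)
      · refine Subtype.ext (inv_mul_eq_one.1 (hfree _ (N.mul_mem (N.inv_mem x.2) y.2) ?_))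
        rw [mul_smul, inv_smul_eq_iff]; exact e.symm
      · obtain ⟨x, hx, hxc⟩ := tr1 c; exact ⟨⟨x, hx⟩, hxc⟩
    have hxx : n₀⁻¹ • a ≠ n₀ • a := fun e => by
      have h2 : n₀ * n₀ = 1 := hfree _ (N.mul_mem hn₀ hn₀) (by rw [mul_smul, ← e, smul_inv_smul])
      have ho : orderOf (⟨n₀, hn₀⟩ : N) = 2 := orderOf_eq_prime (Subtype.ext (by rw [sq]; exact h2)) (fun e' => hn₀1 (congrArg Subtype.val e'))
      have h3 := orderOf_dvd_natCard (⟨n₀, hn₀⟩ : N)
      rw [hcard, ho] at h3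
      exact Nat.not_even_iff_odd.2 hodd (even_iff_two_dvd.2 h3)
    have hxa : n₀⁻¹ • a ≠ a := fun e => ha (by conv_lhs => rw [← e, smul_inv_smul])
    obtain ⟨z, -, hz⟩ := Finset.exists_mem_notMem_of_card_lt_card (s := {a, n₀ • a, n₀⁻¹ • a}) (t := (Finset.univ : Finset α))
      (by rw [Finset.card_univ]; have := Finset.card_le_three (a := a) (b := n₀ • a) (c := n₀⁻¹ • a); omega)
    simp only [Finset.mem_insert, Finset.mem_singleton, not_or] at hz
    obtain ⟨g, e1, e2, e3⟩ := g3 a (n₀ • a) (n₀⁻¹ • a) a (n₀ • a) z ha.symm hxa.symm hxx.symm ha.symm (Ne.symm hz.1) (Ne.symm hz.2.1)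
    have h4 : n₀⁻¹ * (g * n₀ * g⁻¹) = 1 := hfree _ (N.mul_mem (N.inv_mem hn₀) (hconj g n₀ hn₀)) (by
      rw [mul_smul, mul_smul, mul_smul, inv_smul_eq_iff.2 e1.symm, e2, inv_smul_smul])
    have h5 : g * n₀⁻¹ * g⁻¹ = n₀⁻¹ := by
      conv_rhs => rw [inv_mul_eq_one.1 h4]
      group
    apply hz.2.2
    rw [← e3]
    conv_rhs => rw [← h5, mul_smul, mul_smul, inv_smul_eq_iff.2 e1.symm]
  -- doubly transitive
  have tr2 : ∀ u v u' v' : α, u ≠ v → u' ≠ v' → ∃ x ∈ N, x • u = u' ∧ x • v = v' := by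
    have hb₁a : b₁ ≠ a := fun e => hb₁ (by rw [e]; exact hn₁a)
    have hsa : ∀ c : α, c ≠ a → ∃ x ∈ N, x • a = a ∧ x • b₁ = c := fun c hca => by
      by_cases hcb : c = b₁
      · exact ⟨1, N.one_mem, one_smul _ _, by rw [one_smul, hcb]⟩
      have h1 : n₁ • b₁ ≠ a := fun e => hb₁a (MulAction.injective n₁ (e.trans hn₁a.symm))
      obtain ⟨g, e1, e2, e3⟩ := g3 a b₁ (n₁ • b₁) a b₁ c hb₁a.symm h1.symm hb₁.symm hb₁a.symm (Ne.symm hca) (Ne.symm hcb)
      refine ⟨g * n₁ * g⁻¹, hconj g n₁ hn₁, ?_, ?_⟩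
      · rw [mul_smul, mul_smul, inv_smul_eq_iff.2 e1.symm, hn₁a, e1]
      · rw [mul_smul, mul_smul, inv_smul_eq_iff.2 e2.symm, e3]
    have from0 : ∀ u v : α, u ≠ v → ∃ x ∈ N, x • a = u ∧ x • b₁ = v := fun u v huv => by
      obtain ⟨x, hx, rfl⟩ := tr1 u
      obtain ⟨y, hy, hya, hyb⟩ := hsa (x⁻¹ • v) (fun e => huv (by rw [← e, smul_inv_smul]))
      exact ⟨x * y, N.mul_mem hx hy, by rw [mul_smul, hya], by rw [mul_smul, hyb, smul_inv_smul]⟩
    intro u v u' v' h h'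
    obtain ⟨x, hx, rfl, rfl⟩ := from0 u v h
    obtain ⟨y, hy, rfl, rfl⟩ := from0 u' v' h'
    exact ⟨y * x⁻¹, N.mul_mem hy (N.inv_mem hx), by rw [mul_smul, inv_smul_smul], by rw [mul_smul, inv_smul_smul]⟩
  obtain ⟨b, hba, -⟩ := hthird a a
  have hab : a ≠ b := hba.symm
  let O : α → Finset α := fun c => Finset.univ.filter fun d => ∃ x ∈ N, x • a = a ∧ x • b = b ∧ x • c = d
  have hO : ∀ c d, d ∈ O c ↔ ∃ x ∈ N, x • a = a ∧ x • b = b ∧ x • c = d := fun c d => by simp [O]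
  have hOrefl : ∀ c, c ∈ O c := fun c => (hO c c).2 ⟨1, N.one_mem, one_smul _ _, one_smul _ _, one_smul _ _⟩
  have hOeq : ∀ c d, d ∈ O c → O d = O c := fun c d hd => by
    obtain ⟨x, hx, xa, xb, rfl⟩ := (hO _ _).1 hd
    ext w
    rw [hO, hO]
    constructor
    · rintro ⟨y, hy, ya, yb, rfl⟩
      exact ⟨y * x, N.mul_mem hy hx, by rw [mul_smul, xa, ya], by rw [mul_smul, xb, yb], mul_smul _ _ _⟩
    · rintro ⟨y, hy, ya, yb, rfl⟩
      exact ⟨y * x⁻¹, N.mul_mem hy (N.inv_mem hx), by rw [mul_smul, inv_smul_eq_iff.2 xa.symm, ya],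
        by rw [mul_smul, inv_smul_eq_iff.2 xb.symm, yb], by rw [mul_smul, inv_smul_smul]⟩
  have hOmove : ∀ (g : G), g • a = a → g • b = b → ∀ c d, g • d ∈ O (g • c) ↔ d ∈ O c := by
    have h1 : ∀ (g : G), g • a = a → g • b = b → ∀ c d, d ∈ O c → g • d ∈ O (g • c) := fun g ga gb c d hd => by
      obtain ⟨x, hx, xa, xb, rfl⟩ := (hO _ _).1 hd
      exact (hO _ _).2 ⟨g * x * g⁻¹, hconj g x hx, by rw [mul_smul, mul_smul, inv_smul_eq_iff.2 ga.symm, xa, ga],
        by rw [mul_smul, mul_smul, inv_smul_eq_iff.2 gb.symm, xb, gb], by rw [mul_smul, mul_smul, inv_smul_smul]⟩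
    intro g ga gb c d
    refine ⟨fun h => ?_, h1 g ga gb c d⟩
    have := h1 g⁻¹ (inv_smul_eq_iff.2 ga.symm) (inv_smul_eq_iff.2 gb.symm) _ _ h
    rwa [inv_smul_smul, inv_smul_smul] at this
  set R := (Finset.univ.erase a).erase b with hR
  have hRmem : ∀ c, c ∈ R ↔ c ≠ b ∧ c ≠ a := fun c => by simp [hR]
  have hRcard : Odd R.card := by
    rw [hR, Finset.card_erase_of_mem (Finset.mem_erase.2 ⟨hab.symm, Finset.mem_univ _⟩),
      Finset.card_erase_of_mem (Finset.mem_univ _), Finset.card_univ]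
    obtain ⟨k, hk⟩ := hodd
    exact ⟨k - 1, by omega⟩
  have hOsub : ∀ c ∈ R, O c ⊆ R := fun c hc d hd => by
    obtain ⟨x, -, xa, xb, rfl⟩ := (hO _ _).1 hd
    obtain ⟨h1, h2⟩ := (hRmem c).1 hc
    exact (hRmem _).2 ⟨fun e => h1 (MulAction.injective x (e.trans xb.symm)), fun e => h2 (MulAction.injective x (e.trans xa.symm))⟩
  by_cases hone : ∀ c ∈ R, ∀ d ∈ R, d ∈ O c
  · obtain ⟨c₀, hc₀a, hc₀b⟩ := hthird a b
    have key : ∀ u v w : α, u ≠ v → u ≠ w → v ≠ w → ∃ x ∈ N, x • a = u ∧ x • b = v ∧ x • c₀ = w := fun u v w h1 h2 h3 => by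
      obtain ⟨x, hx, rfl, rfl⟩ := tr2 a b u v hab h1
      obtain ⟨y, hy, ya, yb, yc⟩ := (hO _ _).1 (hone c₀ ((hRmem _).2 ⟨hc₀b, hc₀a⟩) (x⁻¹ • w)
        ((hRmem _).2 ⟨fun e => h3 (by rw [← e, smul_inv_smul]), fun e => h2 (by rw [← e, smul_inv_smul])⟩))
      exact ⟨x * y, N.mul_mem hx hy, by rw [mul_smul, ya], by rw [mul_smul, yb], by rw [mul_smul, yc, smul_inv_smul]⟩
    refine ⟨fun p q => ?_⟩
    obtain ⟨x, hx, x0, x1, x2⟩ := key (p 0) (p 1) (p 2) (p.injective.ne (by decide)) (p.injective.ne (by decide)) (p.injective.ne (by decide))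
    obtain ⟨y, hy, y0, y1, y2⟩ := key (q 0) (q 1) (q 2) (q.injective.ne (by decide)) (q.injective.ne (by decide)) (q.injective.ne (by decide))
    refine ⟨⟨y * x⁻¹, N.mul_mem hy (N.inv_mem hx)⟩, Function.Embedding.ext fun i => ?_⟩
    rw [Function.Embedding.smul_apply]
    show (y * x⁻¹) • p i = q i
    rw [mul_smul]
    match i with
    | ⟨0, _⟩ => show y • x⁻¹ • p 0 = q 0; rw [← x0, inv_smul_smul, y0]
    | ⟨1, _⟩ => show y • x⁻¹ • p 1 = q 1; rw [← x1, inv_smul_smul, y1]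
    | ⟨2, _⟩ => show y • x⁻¹ • p 2 = q 2; rw [← x2, inv_smul_smul, y2]
  exfalso
  push Not at hone
  obtain ⟨c₁, hc₁, d₁, hd₁, hcd₁⟩ := hone
  have hOsize : ∀ c ∈ R, Odd (O c).card := fun c hc => by
    refine Odd.of_dvd_nat hRcard ?_
    rw [Finset.card_eq_sum_card_image O R]
    refine Finset.dvd_sum fun C hC => ?_
    obtain ⟨d, hd, rfl⟩ := Finset.mem_image.1 hC
    rw [show (R.filter fun z => O z = O d) = O d from Finset.ext fun z => by
      rw [Finset.mem_filter]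
      exact ⟨fun h => h.2 ▸ hOrefl z, fun h => ⟨hOsub d hd h, hOeq d z h⟩⟩]
    obtain ⟨g, ga, gb, rfl⟩ := g3 a b c a b d hab ((hRmem c).1 hc).2.symm ((hRmem c).1 hc).1.symm hab
      ((hRmem d).1 hd).2.symm ((hRmem d).1 hd).1.symm
    exact dvd_of_eq (Finset.card_equiv (MulAction.toPerm g) fun z => (hOmove g ga gb c z).symm)
  -- the setwise stabiliser of the pair
  let S : Subgroup N :=
    { carrier := {x | ((x : G) • a = a ∧ (x : G) • b = b) ∨ ((x : G) • a = b ∧ (x : G) • b = a)}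
      one_mem' := Or.inl ⟨one_smul _ _, one_smul _ _⟩
      mul_mem' := fun {x y} hx hy => by
        simp only [Set.mem_ofPred_eq, Subgroup.coe_mul, mul_smul] at hx hy ⊢
        rcases hx with ⟨h1, h2⟩ | ⟨h1, h2⟩ <;> rcases hy with ⟨h3, h4⟩ | ⟨h3, h4⟩ <;> rw [h3, h4]
        · exact Or.inl ⟨h1, h2⟩
        · exact Or.inr ⟨h2, h1⟩
        · exact Or.inr ⟨h1, h2⟩
        · exact Or.inl ⟨h2, h1⟩
      inv_mem' := fun {x} hx => by
        simp only [Set.mem_ofPred_eq, Subgroup.coe_inv, inv_smul_eq_iff] at hx ⊢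
        rcases hx with ⟨h1, h2⟩ | ⟨h1, h2⟩
        · exact Or.inl ⟨h1.symm, h2.symm⟩
        · exact Or.inr ⟨h2.symm, h1.symm⟩ }
  let St : α → α → Subgroup N := fun u v =>
    MulAction.stabilizer N u ⊓ MulAction.stabilizer N v
  have hSt : St a b ≤ S := fun x hx => Or.inl ⟨hx.1, hx.2⟩
  obtain ⟨w₀, hw₀, hwa, hwb⟩ := tr2 a b b a hab hab.symm
  have hidx : (St a b).relIndex S = 2 := by
    rw [Subgroup.relIndex, Subgroup.index_eq_two_iff]
    refine ⟨⟨⟨w₀, hw₀⟩, Or.inr ⟨hwa, hwb⟩⟩, fun x => ?_⟩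
    simp only [Subgroup.mem_subgroupOf]
    have hmem : ∀ y : N, y ∈ St a b ↔ (y : G) • a = a ∧ (y : G) • b = b := fun y => Iff.rfl
    rw [hmem, hmem]
    rcases x.2 with ⟨h1, h2⟩ | ⟨h1, h2⟩
    · refine Or.inr ⟨⟨h1, h2⟩, fun h => hab ?_⟩
      have h3 : ((x : N) : G) • w₀ • a = a := by rw [← mul_smul]; exact h.1
      rw [hwa, h2] at h3
      exact h3.symm
    · refine Or.inl ⟨⟨?_, ?_⟩, fun h => hab (h.1.symm.trans h1)⟩
      · show (((x : N) : G) * w₀) • a = a; rw [mul_smul, hwa, h2]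
      · show (((x : N) : G) * w₀) • b = b; rw [mul_smul, hwb, h1]
  have : Fact (Nat.Prime 2) := ⟨Nat.prime_two⟩
  obtain ⟨P⟩ : Nonempty (Sylow 2 S) := inferInstance
  obtain ⟨u, huP, hua, hub⟩ : ∃ u : S, u ∈ (P : Subgroup S) ∧ ((u : N) : G) • a = b ∧ ((u : N) : G) • b = a := by
    by_contra! h
    have hle : (P : Subgroup S) ≤ (St a b).subgroupOf S := fun x hx => by
      rcases x.2 with h1 | h1
      · exact h1
      · exact absurd h1.2 (h x hx h1.1)
    have h2 := Subgroup.index_dvd_of_le hle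
    rw [show ((St a b).subgroupOf S).index = 2 from hidx] at h2
    exact P.not_dvd_index h2
  have hfixed : ∀ F : Finset α, Odd F.card → (∀ x : S, x ∈ (P : Subgroup S) → ∀ c ∈ F, ((x : N) : G) • c ∈ F) →
      ∃ c ∈ F, ∀ x : S, x ∈ (P : Subgroup S) → ((x : N) : G) • c = c := fun F hF hinv => by
    let act : MulAction (P : Subgroup S) F :=
      { smul := fun x c => ⟨((x : S) : N).1 • c.1, hinv x.1 x.2 c.1 c.2⟩
        one_smul := fun c => Subtype.ext (one_smul G c.1)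
        mul_smul := fun x y c => Subtype.ext (mul_smul _ _ c.1) }
    obtain ⟨c, hc⟩ := P.isPGroup'.nonempty_fixed_point_of_prime_not_dvd_card F (by
      rw [Nat.card_eq_fintype_card, Fintype.card_coe]
      exact fun h => Nat.not_even_iff_odd.2 hF (even_iff_two_dvd.2 h))
    exact ⟨c.1, c.2, fun x hx => congrArg Subtype.val (hc ⟨x, hx⟩)⟩
  have hSR : ∀ x : S, ∀ c ∈ R, ((x : N) : G) • c ∈ R := fun x c hc => by
    obtain ⟨h1, h2⟩ := (hRmem c).1 hc
    rw [hRmem]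
    rcases x.2 with ⟨e1, e2⟩ | ⟨e1, e2⟩
    · exact ⟨fun e => h1 (MulAction.injective _ (e.trans e2.symm)), fun e => h2 (MulAction.injective _ (e.trans e1.symm))⟩
    · exact ⟨fun e => h2 (MulAction.injective _ (e.trans e1.symm)), fun e => h1 (MulAction.injective _ (e.trans e2.symm))⟩
  obtain ⟨c₀, hc₀, hc₀f⟩ := hfixed R hRcard (fun x _ c hc => hSR x c hc)
  -- every class is invariant under the pair stabiliser
  have hinvO : ∀ c ∈ R, ∀ x : S, ∀ d ∈ O c, ((x : N) : G) • d ∈ O c := by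
    intro c hc x d hd
    have hu : ∀ e ∈ R, ((u : N) : G) • e ∈ O e := fun e he => by
      obtain ⟨g, ga, gb, rfl⟩ := g3 a b c₀ a b e hab ((hRmem _).1 hc₀).2.symm ((hRmem _).1 hc₀).1.symm hab
        ((hRmem e).1 he).2.symm ((hRmem e).1 he).1.symm
      set U : G := ((u : N) : G)
      refine (hO _ _).2 ⟨U * g * U⁻¹ * g⁻¹, ?_, ?_, ?_, ?_⟩
      · rw [show U * g * U⁻¹ * g⁻¹ = U * (g * U⁻¹ * g⁻¹) by group]
        exact N.mul_mem (u : N).2 (hconj g _ (N.inv_mem (u : N).2))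
      · rw [mul_smul, mul_smul, mul_smul, inv_smul_eq_iff.2 ga.symm, inv_smul_eq_iff.2 hub.symm, gb, hub]
      · rw [mul_smul, mul_smul, mul_smul, inv_smul_eq_iff.2 gb.symm, inv_smul_eq_iff.2 hua.symm, ga, hua]
      · rw [mul_smul, mul_smul, mul_smul, inv_smul_smul, inv_smul_eq_iff.2 (hc₀f u huP).symm]
    have hd' : d ∈ R := hOsub c hc hd
    rcases x.2 with ⟨h1, h2⟩ | ⟨h1, h2⟩
    · exact (hOeq c d hd) ▸ (hO _ _).2 ⟨(x : N), (x : N).2, h1, h2, rfl⟩
    · have e1 : ((u : N) : G) • d ∈ O d := hu d hd'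
      set U : G := ((u : N) : G)
      have e2 : ((x : N) : G) • d ∈ O (U • d) := (hO _ _).2 ⟨((x : N) : G) * U⁻¹,
        N.mul_mem (x : N).2 (N.inv_mem (u : N).2), by rw [mul_smul, inv_smul_eq_iff.2 hub.symm, h2],
        by rw [mul_smul, inv_smul_eq_iff.2 hua.symm, h1], by rw [mul_smul, inv_smul_smul]⟩
      rw [hOeq d _ e1, hOeq c d hd] at e2
      exact e2
  obtain ⟨c, hc, hcf⟩ := hfixed (O c₁) (hOsize c₁ hc₁) (fun x _ => hinvO c₁ hc₁ x)
  obtain ⟨d, hd, hdf⟩ := hfixed (O d₁) (hOsize d₁ hd₁) (fun x _ => hinvO d₁ hd₁ x)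
  have hcd : c ≠ d := fun e => hcd₁ (by
    have h1 := hOeq c₁ c hc
    have h2 := hOeq d₁ d hd
    rw [e, h2] at h1
    exact h1 ▸ hOrefl d₁)
  have hle : (P : Subgroup S).map S.subtype ≤ St c d := by
    rintro _ ⟨x, hx, rfl⟩
    exact ⟨hcf x hx, hdf x hx⟩
  have hcards : Nat.card (St c d) = Nat.card (St a b) := by
    obtain ⟨y, hy, ya, yb⟩ := tr2 a b c d hab hcd
    set Y : N := ⟨y, hy⟩
    refine (Nat.card_congr ((MulAut.conj Y).toEquiv.subtypeEquiv fun x => ?_)).symm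
    show x ∈ St a b ↔ Y * x * Y⁻¹ ∈ St c d
    simp only [St, Subgroup.mem_inf, MulAction.mem_stabilizer_iff]
    show (x • a = a ∧ x • b = b) ↔ _
    rw [show c = Y • a from ya.symm, show d = Y • b from yb.symm]
    simp only [mul_smul, inv_smul_smul, smul_left_cancel_iff]
  have h1 := Subgroup.card_dvd_of_le hle
  rw [Subgroup.card_map_of_injective S.subtype_injective, hcards] at h1
  have h2 : Nat.card S = Nat.card (St a b) * 2 := by
    rw [← hidx, Subgroup.relIndex, ← ((St a b).subgroupOf S).card_mul_index, Nat.card_congr (Subgroup.subgroupOfEquivOfLe hSt).toEquiv]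
  have h3 := P.card_eq_multiplicity
  rw [h3, h2, Nat.factorization_mul Nat.card_pos.ne' two_ne_zero, Finsupp.add_apply,
    Nat.Prime.factorization_self Nat.prime_two] at h1
  have := (Nat.Prime.pow_dvd_iff_le_factorization Nat.prime_two Nat.card_pos.ne').1 h1
  omega

end Cfsg.Agent.S0699
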