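import Cfsg.Statements.S0701

set_option autoImplicit false
open Cfsg

namespace Cfsg.Agent.S0701

/-- The centraliser in the full symmetric group of a transitive permutation group `G` is semiregular, and it is transitive if and only if `G` is regular. -/
theorem result {α : Type*} (G : Subgroup (Equiv.Perm α)) [MulAction.IsPretransitive G α] : (∀ c ∈ Subgroup.centralizer (G : Set (Equiv.Perm α)), ∀ a : α, c a = a → c = 1) ∧ (MulAction.IsPretransitive (Subgroup.centralizer (G : Set (Equiv.Perm α))) α ↔ ∀ a : α, MulAction.stabilizer G a = ⊥) := by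
  have semi : ∀ c ∈ Subgroup.centralizer (G : Set (Equiv.Perm α)), ∀ a : α, c a = a → c = 1 := by
    intro c hc a ha
    refine Equiv.ext fun x => ?_
    obtain ⟨g, rfl⟩ := MulAction.exists_smul_eq G a x
    have h := Equiv.congr_fun (Subgroup.mem_centralizer_iff.1 hc g g.2) a
    change (g : Equiv.Perm α) (c a) = c ((g : Equiv.Perm α) a) at h
    rw [ha] at h
    exact h.symm
  refine ⟨semi, fun h a => ?_, fun h => ⟨fun a b => ?_⟩⟩
  · refine (Subgroup.eq_bot_iff_forall _).2 fun g hg => Subtype.ext (Equiv.ext fun x => ?_)
    obtain ⟨c, rfl⟩ := MulAction.exists_smul_eq (Subgroup.centralizer (G : Set (Equiv.Perm α))) a x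
    have h1 := Equiv.congr_fun (Subgroup.mem_centralizer_iff.1 c.2 g g.2) a
    change (g : Equiv.Perm α) ((c : Equiv.Perm α) a) = (c : Equiv.Perm α) ((g : Equiv.Perm α) a) at h1
    exact h1.trans (congrArg (c : Equiv.Perm α) (MulAction.mem_stabilizer_iff.1 hg))
  · have uniq : ∀ (p : α) (g g' : G), g • p = g' • p → g = g' := fun p g g' e => by
      have : g'⁻¹ * g ∈ MulAction.stabilizer G p := by
        rw [MulAction.mem_stabilizer_iff, mul_smul, e, inv_smul_smul]
      rw [h p, Subgroup.mem_bot] at this
      exact (inv_mul_eq_one.1 this).symm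
    choose t ht using fun x => MulAction.exists_smul_eq G a x
    choose u hu using fun x => MulAction.exists_smul_eq G b x
    let c : Equiv.Perm α :=
      ⟨fun x => t x • b, fun y => u y • a,
        fun x => by
          have e : u (t x • b) = t x := uniq b _ _ (hu _)
          show u (t x • b) • a = x
          rw [e, ht],
        fun y => by
          have e : t (u y • a) = u y := uniq a _ _ (ht _)
          show t (u y • a) • b = y
          rw [e, hu]⟩
    refine ⟨⟨c, Subgroup.mem_centralizer_iff.2 fun g hg => Equiv.ext fun x => ?_⟩, ?_⟩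
    · have e : t (g x) = ⟨g, hg⟩ * t x := uniq a _ _ (by rw [ht, mul_smul, ht]; rfl)
      show g (t x • b) = t (g x) • b
      rw [e, mul_smul]; rfl
    · show t a • b = b
      rw [uniq a (t a) 1 (by rw [ht, one_smul]), one_smul]

end Cfsg.Agent.S0701
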