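import Cfsg.Statements.S0702
import Mathlib
import Cfsg.Agent.S0701

set_option autoImplicit false
open Cfsg

namespace Cfsg.Agent.S0702

/-- For a transitive permutation group `G` on a finite set, the centraliser of `G` in the symmetric group is isomorphic to `N_G(G_ω)/G_ω`, and its orbit of `ω` is the set of fixed points of `G_ω`. -/
theorem result {α : Type*} [Finite α] (G : Subgroup (Equiv.Perm α)) [MulAction.IsPretransitive G α] (a : α) : Nonempty (Subgroup.centralizer (G : Set (Equiv.Perm α)) ≃* Subgroup.normalizer ((MulAction.stabilizer G a : Subgroup G) : Set G) ⧸ (MulAction.stabilizer G a).subgroupOf (Subgroup.normalizer ((MulAction.stabilizer G a : Subgroup G) : Set G))) ∧ MulAction.orbit (Subgroup.centralizer (G : Set (Equiv.Perm α))) a = MulAction.fixedPoints (MulAction.stabilizer G a) α := by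
  classical
  have semi := (Cfsg.Agent.S0701.result G).1
  set S := MulAction.stabilizer G a
  set N := Subgroup.normalizer (S : Set G)
  choose t ht using fun x => MulAction.exists_smul_eq G a x
  have hN : ∀ n : N, ∀ h ∈ S, h • (n : G)⁻¹ • a = (n : G)⁻¹ • a := fun n h hh => by
    have h1 : (n : G) * h * (n : G)⁻¹ ∈ S := (Subgroup.mem_normalizer_iff.1 n.2 h).1 hh
    have h2 : ((n : G) * h * (n : G)⁻¹) • a = a := h1
    rw [mul_smul, mul_smul] at h2
    rw [eq_inv_smul_iff]; exact h2
  let f : N → α → α := fun n x => t x • (n : G)⁻¹ • a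
  have hf : ∀ (n : N) (g : G) (x : α), g • a = x → f n x = g • (n : G)⁻¹ • a := fun n g x hg => by
    have hh : g⁻¹ * t x ∈ S := by
      show (g⁻¹ * t x) • a = a
      rw [mul_smul, ht, inv_smul_eq_iff, hg]
    have := hN n _ hh
    rw [mul_smul, inv_smul_eq_iff] at this
    exact this
  have hmul : ∀ (n m : N) (x : α), f (n * m) x = f n (f m x) := fun n m x => by
    rw [hf n (t x * (m : G)⁻¹) (f m x) (mul_smul _ _ _), mul_smul]
    show t x • ((n : G) * m)⁻¹ • a = _
    rw [mul_inv_rev, mul_smul]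
  have hone : ∀ x, f 1 x = x := fun x => by
    show t x • (1 : G)⁻¹ • a = x
    rw [inv_one, one_smul, ht]
  let φ : N →* Subgroup.centralizer (G : Set (Equiv.Perm α)) :=
    MonoidHom.mk' (fun n => ⟨⟨f n, f n⁻¹, fun x => by rw [← hmul, inv_mul_cancel, hone], fun x => by rw [← hmul, mul_inv_cancel, hone]⟩,
      Subgroup.mem_centralizer_iff.2 fun g hg => Equiv.ext fun x => by
        show g (f n x) = f n (g x)
        rw [hf n (⟨g, hg⟩ * t x) (g x) (by rw [mul_smul, ht]; rfl), mul_smul]
        rfl⟩) fun n m => Subtype.ext (Equiv.ext (hmul n m))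
  have hφa : ∀ n : N, ((φ n : Subgroup.centralizer (G : Set (Equiv.Perm α))) : Equiv.Perm α) a = (n : G)⁻¹ • a := fun n => by
    show f n a = _
    rw [hf n 1 a (one_smul _ _), one_smul]
  have hker : φ.ker = S.subgroupOf N := by
    ext n
    rw [MonoidHom.mem_ker, Subgroup.mem_subgroupOf]
    constructor
    · intro h
      have := hφa n
      rw [h] at this
      exact inv_smul_eq_iff.1 this.symm |>.symm
    · intro h
      refine Subtype.ext (semi _ (φ n).2 a ?_)
      rw [hφa, inv_smul_eq_iff]
      exact (show (n : G) • a = a from h).symm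
  have hfix : ∀ x ∈ MulAction.fixedPoints S α, ∃ n : N, (n : G)⁻¹ • a = x := fun x hx => by
    have hsub : ∀ h ∈ S, (t x)⁻¹ * h * t x ∈ S := fun h hh => by
      show ((t x)⁻¹ * h * t x) • a = a
      rw [mul_smul, mul_smul, ht, show h • x = x from hx ⟨h, hh⟩, inv_smul_eq_iff, ht]
    have hn : (t x)⁻¹ ∈ N := by
      have : Finite G := Subtype.finite
      refine Subgroup.mem_normalizer_fintype fun h hh => ?_
      rw [inv_inv]; exact hsub h hh
    exact ⟨⟨_, hn⟩, by rw [inv_inv, ht]⟩
  have hfixc : ∀ c : Subgroup.centralizer (G : Set (Equiv.Perm α)), (c : Equiv.Perm α) a ∈ MulAction.fixedPoints S α := fun c s => by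
    have h1 := Equiv.congr_fun (Subgroup.mem_centralizer_iff.1 c.2 _ (s : G).2) a
    change (s : G) • ((c : Equiv.Perm α) a) = (c : Equiv.Perm α) ((s : G) • a) at h1
    rw [show (s : G) • a = a from s.2] at h1
    exact h1
  have hsurj : Function.Surjective φ := fun c => by
    obtain ⟨n, hn⟩ := hfix _ (hfixc c)
    refine ⟨n, Subtype.ext ?_⟩
    have h := semi _ ((φ n)⁻¹ * c).2 a (by
      show ((φ n)⁻¹ : Subgroup.centralizer (G : Set (Equiv.Perm α))).1 ((c : Equiv.Perm α) a) = a
      rw [← hn, ← hφa, ← Equiv.Perm.mul_apply, ← Subgroup.coe_mul, inv_mul_cancel]; rfl)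
    rw [Subgroup.coe_mul, InvMemClass.coe_inv, inv_mul_eq_one] at h
    exact h
  refine ⟨⟨((QuotientGroup.quotientMulEquivOfEq hker.symm).trans (QuotientGroup.quotientKerEquivOfSurjective φ hsurj)).symm⟩, ?_⟩
  ext x
  constructor
  · rintro ⟨c, rfl⟩
    exact hfixc c
  · intro hx
    obtain ⟨n, hn⟩ := hfix x hx
    exact ⟨φ n, (hφa n).trans hn⟩

end Cfsg.Agent.S0702
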