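import Cfsg.Statements.S0703
import Mathlib
import Cfsg.Agent.S0701

set_option autoImplicit false
open Cfsg

namespace Cfsg.Agent.S0703

/-- An abelian transitive minimal normal subgroup `M` of a permutation group on a finite set is self-centralising in the symmetric group, regular, elementary abelian, and is the unique minimal normal subgroup. -/
theorem result {α : Type*} [Finite α] (G : Subgroup (Equiv.Perm α)) (M : Subgroup G) [M.Normal] (hM : M ≠ ⊥) (hmin : ∀ L : Subgroup G, L.Normal → L ≤ M → L = ⊥ ∨ L = M) (hab : IsMulCommutative M) (htrans : MulAction.IsPretransitive M α) : Subgroup.centralizer ((M.map G.subtype : Subgroup (Equiv.Perm α)) : Set (Equiv.Perm α)) = M.map G.subtype ∧ (∀ a : α, MulAction.stabilizer M a = ⊥) ∧ (∃ p : ℕ, p.Prime ∧ ∀ m ∈ M, m ^ p = 1) ∧ ∀ L : Subgroup G, L.Normal → L ≠ ⊥ → (∀ L' : Subgroup G, L'.Normal → L' ≤ L → L' = ⊥ ∨ L' = L) → L = M := by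
  have comm : ∀ x y : M, x * y = y * x := fun x y => hab.is_comm.comm x y
  have hfree : ∀ a : α, MulAction.stabilizer M a = ⊥ := fun a => by
    refine (Subgroup.eq_bot_iff_forall _).2 fun m hm => ?_
    refine Subtype.ext (Subtype.ext (Equiv.ext fun x => ?_))
    obtain ⟨k, rfl⟩ := MulAction.exists_smul_eq M a x
    show m • k • a = k • a
    rw [← mul_smul, comm, mul_smul, show m • a = a from hm]
  set M' := M.map G.subtype
  have : MulAction.IsPretransitive M' α := ⟨fun x y => by
    obtain ⟨m, hm⟩ := MulAction.exists_smul_eq M x y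
    exact ⟨⟨_, m.1, m.2, rfl⟩, hm⟩⟩
  have semi := (Cfsg.Agent.S0701.result M').1
  have hMC : ∀ m ∈ M', m ∈ Subgroup.centralizer (M' : Set (Equiv.Perm α)) := by
    rintro _ ⟨m, hm, rfl⟩
    refine Subgroup.mem_centralizer_iff.2 ?_
    rintro _ ⟨k, hk, rfl⟩
    exact congrArg (fun z : M => ((z : G) : Equiv.Perm α)) (comm ⟨k, hk⟩ ⟨m, hm⟩)
  have hcent : Subgroup.centralizer (M' : Set (Equiv.Perm α)) = M' := by
    refine le_antisymm (fun c hc => ?_) hMC
    rcases isEmpty_or_nonempty α with h | ⟨⟨a⟩⟩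
    · rw [Subsingleton.elim c 1]; exact one_mem _
    obtain ⟨⟨m, hm⟩, hma⟩ := MulAction.exists_smul_eq M' a (c a)
    have := semi (m⁻¹ * c) (mul_mem (inv_mem (hMC m hm)) hc) a (by
      show m⁻¹ (c a) = a
      rw [← show m a = c a from hma]; exact m.symm_apply_apply a)
    rw [inv_mul_eq_one] at this
    exact this ▸ hm
  refine ⟨hcent, hfree, ?_, fun L hL hL0 hLmin => ?_⟩
  · have : Finite M := Finite.of_injective (fun m : M => ((m : G) : Equiv.Perm α)) fun a b h => Subtype.ext (Subtype.ext h)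
    obtain ⟨p, hp, hdvd⟩ := Nat.exists_prime_and_dvd (Finite.one_lt_card (α := M)
      (h := (Subgroup.nontrivial_iff_ne_bot M).2 hM)).ne'
    have : Fact p.Prime := ⟨hp⟩
    let T : Subgroup G :=
      { carrier := {g | g ∈ M ∧ g ^ p = 1}
        one_mem' := ⟨M.one_mem, one_pow p⟩
        mul_mem' := fun {x y} hx hy => ⟨M.mul_mem hx.1 hy.1, by
          have hc : Commute x y := congrArg Subtype.val (comm ⟨x, hx.1⟩ ⟨y, hy.1⟩)
          rw [hc.mul_pow, hx.2, hy.2, one_mul]⟩
        inv_mem' := fun {x} hx => ⟨M.inv_mem hx.1, by rw [inv_pow, hx.2, inv_one]⟩ }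
    have hT : T.Normal := ⟨fun x hx g => ⟨(inferInstance : M.Normal).conj_mem x hx.1 g, by rw [conj_pow, hx.2, mul_one, mul_inv_cancel]⟩⟩
    rcases hmin T hT (fun x hx => hx.1) with h | h
    · obtain ⟨x, hx⟩ := exists_prime_orderOf_dvd_card' p hdvd
      have hxT : (x : G) ∈ T := ⟨x.2, by rw [← Subgroup.coe_pow, ← hx, pow_orderOf_eq_one]; rfl⟩
      rw [h, Subgroup.mem_bot] at hxT
      rw [show x = 1 from Subtype.ext hxT, orderOf_one] at hx
      exact absurd hx.symm hp.ne_one
    · exact ⟨p, hp, fun m hm => (h.symm ▸ hm : m ∈ T).2⟩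
  · rcases hmin (L ⊓ M) inferInstance inf_le_right with h | h
    · have hLM : L ≤ M := fun l hl => by
        have hl' : (l : Equiv.Perm α) ∈ Subgroup.centralizer (M' : Set (Equiv.Perm α)) := by
          refine Subgroup.mem_centralizer_iff.2 ?_
          rintro _ ⟨m, hm, rfl⟩
          exact congrArg Subtype.val (Subgroup.commute_of_normal_of_disjoint M L inferInstance hL (disjoint_iff.2 (by rw [inf_comm]; exact h)) m l hm hl).eq
        rw [hcent] at hl'
        obtain ⟨m, hm, e⟩ := hl'
        exact Subtype.ext e ▸ hm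
      exact absurd (inf_eq_left.2 hLM ▸ h) hL0
    · rcases hLmin M inferInstance (inf_eq_right.1 h) with h' | h'
      · exact absurd h' hM
      · exact h'.symm

end Cfsg.Agent.S0703
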