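import Cfsg.Statements.S0704
import Mathlib
import Cfsg.Agent.S0701

set_option autoImplicit false
open Cfsg

namespace Cfsg.Agent.S0704

/-- Two distinct transitive minimal normal subgroups `M`, `N` of a permutation group are regular, non-abelian, isomorphic, each other's centraliser in the symmetric group, and the only minimal normal subgroups. -/
theorem result {α : Type*} (G : Subgroup (Equiv.Perm α)) (M N : Subgroup G) [M.Normal] [N.Normal] (hM : M ≠ ⊥) (hN : N ≠ ⊥) (hMmin : ∀ L : Subgroup G, L.Normal → L ≤ M → L = ⊥ ∨ L = M) (hNmin : ∀ L : Subgroup G, L.Normal → L ≤ N → L = ⊥ ∨ L = N) (hMN : M ≠ N) (hMt : MulAction.IsPretransitive M α) (hNt : MulAction.IsPretransitive N α) : (∀ a : α, MulAction.stabilizer M a = ⊥) ∧ (∀ a : α, MulAction.stabilizer N a = ⊥) ∧ ¬ IsMulCommutative M ∧ Nonempty (M ≃* N) ∧ Subgroup.centralizer ((M.map G.subtype : Subgroup (Equiv.Perm α)) : Set (Equiv.Perm α)) = N.map G.subtype ∧ Subgroup.centralizer ((N.map G.subtype : Subgroup (Equiv.Perm α))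 : Set (Equiv.Perm α)) = M.map G.subtype ∧ ∀ L : Subgroup G, L.Normal → L ≠ ⊥ → (∀ L' : Subgroup G, L'.Normal → L' ≤ L → L' = ⊥ ∨ L' = L) → L = M ∨ L = N := by
  have key : ∀ (M N : Subgroup G), M.Normal → N.Normal → M ⊓ N = ⊥ → MulAction.IsPretransitive M α → MulAction.IsPretransitive N α →
      (∀ a : α, MulAction.stabilizer M a = ⊥) ∧
        Subgroup.centralizer ((M.map G.subtype : Subgroup (Equiv.Perm α)) : Set (Equiv.Perm α)) = N.map G.subtype := by
    intro M N hMn hNn hd hMt hNt
    have hc : ∀ m ∈ M, ∀ n ∈ N, m * n = n * m := fun m hm n hn =>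
      (Subgroup.commute_of_normal_of_disjoint M N hMn hNn (disjoint_iff.2 hd) m n hm hn).eq
    have hfree : ∀ a : α, MulAction.stabilizer M a = ⊥ := fun a => by
      refine (Subgroup.eq_bot_iff_forall _).2 fun m hm => Subtype.ext (Subtype.ext (Equiv.ext fun x => ?_))
      obtain ⟨k, rfl⟩ := MulAction.exists_smul_eq N a x
      show (m : G) • (k : G) • a = (k : G) • a
      rw [← mul_smul, hc m m.2 k k.2, mul_smul, show (m : G) • a = a from hm]
    refine ⟨hfree, ?_⟩
    set M' := M.map G.subtype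
    have : MulAction.IsPretransitive M' α := ⟨fun x y => by
      obtain ⟨m, hm⟩ := MulAction.exists_smul_eq M x y
      exact ⟨⟨_, m.1, m.2, rfl⟩, hm⟩⟩
    have semi := (Cfsg.Agent.S0701.result M').1
    have hNC : ∀ n ∈ N.map G.subtype, n ∈ Subgroup.centralizer (M' : Set (Equiv.Perm α)) := by
      rintro _ ⟨n, hn, rfl⟩
      refine Subgroup.mem_centralizer_iff.2 ?_
      rintro _ ⟨m, hm, rfl⟩
      exact congrArg Subtype.val (hc m hm n hn)
    refine le_antisymm (fun c hc => ?_) hNC
    rcases isEmpty_or_nonempty α with h | ⟨⟨a⟩⟩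
    · rw [Subsingleton.elim c 1]; exact one_mem _
    obtain ⟨n, hna⟩ := MulAction.exists_smul_eq N a (c a)
    have := semi ((((n : G) : Equiv.Perm α))⁻¹ * c) (mul_mem (inv_mem (hNC _ ⟨n.1, n.2, rfl⟩)) hc) a (by
      show ((n : G) : Equiv.Perm α).symm (c a) = a
      rw [← hna]; exact Equiv.symm_apply_apply _ a)
    rw [inv_mul_eq_one] at this
    exact this ▸ ⟨n.1, n.2, rfl⟩
  have hdis : M ⊓ N = ⊥ := by
    rcases hMmin (M ⊓ N) inferInstance inf_le_left with h | h
    · exact h
    · rcases hNmin M inferInstance (inf_eq_left.1 h) with h' | h'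
      · exact absurd h' hM
      · exact absurd h' hMN
  obtain ⟨hfM, hCM⟩ := key M N inferInstance inferInstance hdis hMt hNt
  obtain ⟨hfN, hCN⟩ := key N M inferInstance inferInstance (by rw [inf_comm]; exact hdis) hNt hMt
  have hc : ∀ m ∈ M, ∀ n ∈ N, m * n = n * m := fun m hm n hn =>
    (Subgroup.commute_of_normal_of_disjoint M N inferInstance inferInstance (disjoint_iff.2 hdis) m n hm hn).eq
  refine ⟨hfM, hfN, fun hab => ?_, ?_, hCM, hCN, fun L hL hL0 hLmin => ?_⟩
  · apply hMN
    have hle : M ≤ N := fun m hm => by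
      have h : (m : Equiv.Perm α) ∈ Subgroup.centralizer ((M.map G.subtype : Subgroup (Equiv.Perm α)) : Set (Equiv.Perm α)) := by
        refine Subgroup.mem_centralizer_iff.2 ?_
        rintro _ ⟨k, hk, rfl⟩
        exact congrArg (fun z : M => ((z : G) : Equiv.Perm α)) (hab.is_comm.comm ⟨k, hk⟩ ⟨m, hm⟩)
      rw [hCM] at h
      obtain ⟨n, hn, e⟩ := h
      exact Subtype.ext e ▸ hn
    exact (hNmin M inferInstance hle).resolve_left hM
  · rcases isEmpty_or_nonempty α with h | ⟨⟨a⟩⟩
    · exact absurd ((Subgroup.eq_bot_iff_forall _).2 fun g _ => Subtype.ext (Subsingleton.elim _ _)) hM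
    choose φ hφ using fun m : M => MulAction.exists_smul_eq N a (m⁻¹ • a)
    have uniq : ∀ (H : Subgroup G), (∀ a : α, MulAction.stabilizer H a = ⊥) → ∀ x y : H, x • a = y • a → x = y := fun H hH x y e => by
      have : y⁻¹ * x ∈ MulAction.stabilizer H a := by rw [MulAction.mem_stabilizer_iff, mul_smul, e, inv_smul_smul]
      rw [hH a, Subgroup.mem_bot] at this
      exact (inv_mul_eq_one.1 this).symm
    refine ⟨MulEquiv.ofBijective (MonoidHom.mk' φ fun x y => uniq N hfN _ _ ?_) ⟨fun x y e => ?_, fun n => ?_⟩⟩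
    · rw [mul_smul, hφ, hφ y, mul_inv_rev, mul_smul, ← hφ x]
      show (y⁻¹ : M).1 • (φ x : N).1 • a = (φ x : N).1 • (y⁻¹ : M).1 • a
      rw [← mul_smul, ← mul_smul, hc _ (y⁻¹ : M).2 _ (φ x).2]
    · change φ x = φ y at e
      exact inv_injective (uniq M hfM _ _ (by rw [← hφ, ← hφ, e]))
    · obtain ⟨m, hm⟩ := MulAction.exists_smul_eq M a (n • a)
      exact ⟨m⁻¹, uniq N hfN _ _ (by rw [← hm]; show φ m⁻¹ • a = m • a; rw [hφ, inv_inv])⟩
  · rcases hMmin (L ⊓ M) inferInstance inf_le_right with h | h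
    · refine Or.inr ((hNmin L hL fun l hl => ?_).resolve_left hL0)
      have hl' : (l : Equiv.Perm α) ∈ Subgroup.centralizer ((M.map G.subtype : Subgroup (Equiv.Perm α)) : Set (Equiv.Perm α)) := by
        refine Subgroup.mem_centralizer_iff.2 ?_
        rintro _ ⟨m, hm, rfl⟩
        exact congrArg Subtype.val (Subgroup.commute_of_normal_of_disjoint M L inferInstance hL (disjoint_iff.2 (by rw [inf_comm]; exact h)) m l hm hl).eq
      rw [hCM] at hl'
      obtain ⟨n, hn, e⟩ := hl'
      exact Subtype.ext e ▸ hn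
    · exact Or.inl ((hLmin M inferInstance (inf_eq_right.1 h)).resolve_left hM).symm

end Cfsg.Agent.S0704
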