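import Cfsg.Statements.S0705
import Mathlib
import Cfsg.Agent.PermGroups.Moves

set_option autoImplicit false
open scoped Pointwise
open Cfsg
open scoped Pointwise

namespace Cfsg.Agent.S0705

/-- A generously `k`-transitive permutation group (every `(k+1)`-subset has its full symmetric group induced by the setwise stabiliser) of degree greater than `k` is `k`-transitive, and for a `k`-subset the setwise and pointwise stabilisers have the same orbits outside it. -/
theorem result {α : Type*} [Fintype α] [DecidableEq α] (G : Subgroup (Equiv.Perm α)) {k : ℕ} (hk : k < Fintype.card α) (hgen : ∀ s : Finset α, s.card = k + 1 → ∀ σ : Equiv.Perm ↥s, ∃ g ∈ G, ∀ x : ↥s, g (x : α) = σ x) : MulAction.IsMultiplyPretransitive G α k ∧ ∀ s : Finset α, s.card = k → ∀ a b : α, a ∉ s → b ∉ s → (∃ g ∈ G, g • s = s ∧ g a = b) → ∃ g ∈ G, (∀ x ∈ s, g x = x) ∧ g a = b := by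
  refine ⟨Cfsg.Lib.PermGroups.isMultiplyPretransitive_of_moves hk fun x i b hb => ?_, ?_⟩
  · let s : Finset α := insert b (Finset.univ.map x)
    have hbs : b ∉ Finset.univ.map x := fun h => hb (by simpa using h)
    have hs : s.card = k + 1 := by
      rw [Finset.card_insert_of_notMem hbs, Finset.card_map, Finset.card_univ, Fintype.card_fin]
    have hxi : x i ∈ s := Finset.mem_insert_of_mem (Finset.mem_map_of_mem _ (Finset.mem_univ i))
    obtain ⟨g, hg, hgs⟩ := hgen s hs (Equiv.swap ⟨x i, hxi⟩ ⟨b, Finset.mem_insert_self _ _⟩)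
    refine ⟨⟨g, hg⟩, ?_, fun j hj => ?_⟩
    · show g (x i) = b
      rw [hgs ⟨x i, hxi⟩, Equiv.swap_apply_left]
    · show g (x j) = x j
      rw [hgs ⟨x j, Finset.mem_insert_of_mem (Finset.mem_map_of_mem _ (Finset.mem_univ j))⟩, Equiv.swap_apply_of_ne_of_ne]
      · exact fun e => hj (x.injective (congrArg Subtype.val e))
      · exact fun e => hb ⟨j, congrArg Subtype.val e⟩
  · rintro s hs a b ha hb ⟨g, hg, hgs, hgab⟩
    let t : Finset α := insert b s
    have ht : t.card = k + 1 := by rw [Finset.card_insert_of_notMem hb, hs]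
    have hmem : ∀ x, x ∈ s → g x ∈ s := fun x hx => by
      rw [← hgs]; exact Finset.smul_mem_smul_finset hx
    have hiff : ∀ x, g x ∈ s ↔ x ∈ s := fun x => by
      refine ⟨fun hx => ?_, hmem x⟩
      rw [← hgs, Finset.mem_smul_finset] at hx
      obtain ⟨y, hy, e⟩ := hx
      exact g.injective e ▸ hy
    let gs : Equiv.Perm α := Equiv.Perm.ofSubtype (p := fun x => x ∈ s) (g.subtypePerm hiff).symm
    have hgsb : gs b = b := Equiv.Perm.ofSubtype_apply_of_not_mem _ hb
    have hgss : ∀ x, x ∈ t ↔ gs x ∈ t := fun x => by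
      by_cases hx : x ∈ s
      · have : gs x ∈ s := by
          rw [Equiv.Perm.ofSubtype_apply_of_mem _ hx]
          exact Subtype.coe_prop _
        simp [t, hx, this]
      · rw [show gs x = x from Equiv.Perm.ofSubtype_apply_of_not_mem _ hx]
    obtain ⟨h, hh, hht⟩ := hgen t ht (gs.subtypePerm (p := fun x => x ∈ t) (fun x => (hgss x).symm))
    refine ⟨h * g, G.mul_mem hh hg, fun x hx => ?_, ?_⟩
    · show h (g x) = x
      rw [show h (g x) = gs (g x) from hht ⟨g x, Finset.mem_insert_of_mem (hmem x hx)⟩]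
      rw [Equiv.Perm.ofSubtype_apply_of_mem _ (hmem x hx)]
      show (((g.subtypePerm hiff).symm ⟨g x, hmem x hx⟩ : {x // x ∈ s}) : α) = x
      have e : (g.subtypePerm hiff).symm ⟨g x, hmem x hx⟩ = ⟨x, hx⟩ := by
        rw [Equiv.symm_apply_eq]; rfl
      rw [e]
    · show h (g a) = b
      rw [hgab]
      exact (hht ⟨b, Finset.mem_insert_self _ _⟩).trans hgsb

end Cfsg.Agent.S0705
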