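import Cfsg.Statements.S0706
import Mathlib

set_option autoImplicit false
open Cfsg

namespace Cfsg.Agent.S0706

/-- In a generously `k`-transitive permutation group, for a prime `p ≤ k` and a `k`-set `Γ`, there are no `p` points outside `Γ` lying in distinct orbits of the pointwise stabiliser of `Γ` all of length prime to `p` (at most `p - 1` such orbits). -/
theorem result {α : Type*} [Fintype α] [DecidableEq α] (G : Subgroup (Equiv.Perm α)) {k : ℕ} (hk : k < Fintype.card α) (hgen : ∀ s : Finset α, s.card = k + 1 → ∀ σ : Equiv.Perm ↥s, ∃ g ∈ G, ∀ x : ↥s, g (x : α) = σ x) {p : ℕ} (hp : p.Prime) (hpk : p ≤ k) (Γ : Finset α) (hΓ : Γ.card = k) (f : Fin p → α) (hf : ∀ i, f i ∉ Γ) (hdist : ∀ i j, i ≠ j → f j ∉ MulAction.orbit (fixingSubgroup G (Γ : Set α)) (f i)) : ∃ i, p ∣ Nat.card (MulAction.orbit (fixingSubgroup G (Γ : Set α)) (f i)) := by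
  classical
  by_contra hall
  push Not at hall
  have hk1 : 1 ≤ k := le_trans hp.one_le hpk
  set H : Subgroup G := fixingSubgroup G (Γ : Set α)
  have hH : ∀ x : G, x ∈ H ↔ ∀ z ∈ Γ, x • z = z := fun x => mem_fixingSubgroup_iff G
  -- realise a permutation of a `(k+1)`-set
  have hreal : ∀ w, w ∉ Γ → ∀ π : Equiv.Perm α, (∀ z ∈ Γ, π z ∈ Γ) → π w = w →
      ∃ x : G, (∀ z ∈ Γ, x • z = π z) ∧ x • w = w := by
    intro w hw π hπ hπw
    have hmem : ∀ z, z ∈ insert w Γ → π z ∈ insert w Γ := fun z hz => by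
      rcases Finset.mem_insert.1 hz with e | e
      · rw [e, hπw]; exact Finset.mem_insert_self _ _
      · exact Finset.mem_insert_of_mem (hπ z e)
    let σ : Equiv.Perm ↥(insert w Γ) := Equiv.ofBijective (fun z => ⟨π z.1, hmem z.1 z.2⟩)
      (Finite.injective_iff_bijective.1 fun u v e => Subtype.ext (π.injective (congrArg Subtype.val e)))
    obtain ⟨g, hg, hgx⟩ := hgen (insert w Γ) (by rw [Finset.card_insert_of_notMem hw, hΓ]) σ
    exact ⟨⟨g, hg⟩, fun z hz => hgx ⟨z, Finset.mem_insert_of_mem hz⟩, (hgx ⟨w, Finset.mem_insert_self _ _⟩).trans hπw⟩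
  -- `G` is `k`-transitive on sets
  obtain ⟨A, hAΓ, hAc⟩ := Finset.exists_subset_card_eq (show k - p ≤ Γ.card by omega)
  let T : Subgroup G :=
    { carrier := {x | (∀ z ∈ A, x • z = z) ∧ ∀ z, x • z ∈ Γ ↔ z ∈ Γ}
      one_mem' := ⟨fun z _ => one_smul _ z, fun z => by rw [one_smul]⟩
      mul_mem' := fun {x y} hx hy => ⟨fun z hz => by rw [mul_smul, hy.1 z hz, hx.1 z hz], fun z => by rw [mul_smul, hx.2, hy.2]⟩
      inv_mem' := fun {x} hx => ⟨fun z hz => by rw [inv_smul_eq_iff, hx.1 z hz], fun z => by rw [← hx.2 (x⁻¹ • z), smul_inv_smul]⟩ }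
  have hHT : H ≤ T := fun x hx => ⟨fun z hz => (hH x).1 hx z (hAΓ hz), fun z => by
    refine ⟨fun h => ?_, fun h => by rwa [(hH x).1 hx z h]⟩
    have := (hH x).1 hx _ h
    rwa [MulAction.injective x this] at h⟩
  -- `T` fixes every orbit of `H`
  have horb : ∀ x ∈ T, ∀ w, w ∉ Γ → x • w ∈ MulAction.orbit H w := by
    intro x hx w hw
    obtain ⟨π, hπΓ, hπw⟩ : ∃ π : Equiv.Perm α, (∀ z ∈ Γ, π z = (x : Equiv.Perm α) z) ∧ π w = w := by
      by_cases e : x • w = w
      · exact ⟨x, fun z _ => rfl, e⟩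
      refine ⟨Equiv.swap ((x : Equiv.Perm α) w) w * x, fun z hz => ?_, ?_⟩
      · rw [Equiv.Perm.mul_apply, Equiv.swap_apply_of_ne_of_ne (fun e' => hw (by
          have := (x : Equiv.Perm α).injective e'; rwa [this] at hz))
          (fun e' => hw (by have h2 := (hx.2 z).2 hz; rwa [show x • z = w from e'] at h2))]
      · rw [Equiv.Perm.mul_apply, Equiv.swap_apply_left]
    obtain ⟨y, hy, hyw⟩ := hreal w hw π (fun z hz => by rw [hπΓ z hz]; exact (hx.2 z).2 hz) hπw
    have hxy : y⁻¹ * x ∈ H := (hH _).2 fun z hz => by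
      rw [mul_smul, inv_smul_eq_iff, hy z hz, hπΓ z hz]; rfl
    refine ⟨⟨x * y⁻¹, (hH _).2 fun z hz => ?_⟩, ?_⟩
    · rw [mul_smul]
      have h1 : y⁻¹ • z ∈ Γ := by
        have h2 : ∀ u, u ∈ Γ → y • u ∈ Γ := fun u hu => by rw [hy u hu, hπΓ u hu]; exact (hx.2 u).2 hu
        have h3 : (Γ.image fun u => y • u) = Γ := Finset.eq_of_subset_of_card_le
          (fun u hu => by obtain ⟨v, hv, rfl⟩ := Finset.mem_image.1 hu; exact h2 v hv)
          (le_of_eq (Finset.card_image_of_injective _ (MulAction.injective y)).symm)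
        obtain ⟨v, hv, hvz⟩ := Finset.mem_image.1 (h3.symm ▸ hz : z ∈ Γ.image fun u => y • u)
        rw [← hvz, inv_smul_smul]; exact hv
      have h4 := (hH _).1 hxy _ h1
      rw [mul_smul, inv_smul_eq_iff, smul_inv_smul] at h4
      exact h4
    · show (x * y⁻¹) • w = x • w
      rw [mul_smul, inv_smul_eq_iff.2 hyw.symm]
  -- `p` divides `[T : H]`
  have hAB : (Γ \ A).card = p := by rw [Finset.card_sdiff_of_subset hAΓ, hΓ, hAc]; omega
  obtain ⟨w₀, hw₀⟩ : ∃ w, w ∉ Γ := ⟨f ⟨0, hp.pos⟩, hf _⟩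
  obtain ⟨x, hxT, z₁, hz₁, hxz⟩ : ∃ x ∈ T, ∃ z₁ ∈ Γ, ∀ j : ℕ, x ^ j • z₁ = z₁ ↔ p ∣ j := by
    obtain ⟨c, hc, hcs⟩ : ∃ c : Equiv.Perm α, c.IsCycle ∧ c.support = Γ \ A := by
      refine ⟨(Γ \ A).toList.formPerm, ?_, ?_⟩
      · exact List.isCycle_formPerm (Finset.nodup_toList _) (by rw [Finset.length_toList, hAB]; exact hp.two_le)
      · rw [List.support_formPerm_of_nodup _ (Finset.nodup_toList _) (fun z h => by
          have := congrArg List.length h
          rw [Finset.length_toList, hAB, List.length_singleton] at this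
          exact hp.one_lt.ne' this)]
        exact Finset.toList_toFinset _
    have hcΓ : ∀ z ∈ Γ, c z ∈ Γ := fun z hz => by
      by_cases h : c z = z
      · rwa [h]
      · have := Equiv.Perm.apply_mem_support.2 (Equiv.Perm.mem_support.2 h)
        rw [hcs] at this
        exact (Finset.mem_sdiff.1 this).1
    have hcfix : ∀ z, z ∉ Γ \ A → c z = z := fun z hz => Equiv.Perm.notMem_support.1 (hcs.symm ▸ hz)
    obtain ⟨x, hx, hxw⟩ := hreal w₀ hw₀ c hcΓ (hcfix _ fun h => hw₀ (Finset.mem_sdiff.1 h).1)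
    obtain ⟨z₁, hz₁⟩ : (Γ \ A).Nonempty := Finset.card_pos.1 (by rw [hAB]; exact hp.pos)
    have himg : (Γ.image fun u => x • u) = Γ := Finset.eq_of_subset_of_card_le
      (fun u hu => by obtain ⟨v, hv, rfl⟩ := Finset.mem_image.1 hu; rw [hx v hv]; exact hcΓ v hv)
      (le_of_eq (Finset.card_image_of_injective _ (MulAction.injective x)).symm)
    refine ⟨x, ⟨fun z hz => by rw [hx z (hAΓ hz), hcfix z fun h => (Finset.mem_sdiff.1 h).2 hz], fun z => ⟨fun h => ?_, fun h => by rw [hx z h]; exact hcΓ z h⟩⟩,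
      z₁, (Finset.mem_sdiff.1 hz₁).1, fun j => ?_⟩
    · obtain ⟨v, hv, hvz⟩ := Finset.mem_image.1 (himg.symm ▸ h : x • z ∈ Γ.image fun u => x • u)
      rwa [← MulAction.injective x hvz]
    · have hpow : ∀ j : ℕ, x ^ j • z₁ = (c ^ j) z₁ ∧ (c ^ j) z₁ ∈ Γ := fun j => by
        induction j with
        | zero => exact ⟨by simp, by simpa using (Finset.mem_sdiff.1 hz₁).1⟩
        | succ j ih =>
          rw [pow_succ', pow_succ', mul_smul, Equiv.Perm.mul_apply]
          exact ⟨by rw [ih.1, hx _ ih.2], hcΓ _ ih.2⟩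
      rw [(hpow j).1]
      have hz' : c z₁ ≠ z₁ := Equiv.Perm.mem_support.1 (hcs.symm ▸ hz₁)
      rw [← hc.pow_eq_one_iff' hz', ← orderOf_dvd_iff_pow_eq_one, hc.orderOf, hcs, hAB]
  have : Fact p.Prime := ⟨hp⟩
  have hHn : (H.subgroupOf T).Normal := ⟨fun u hu v => (hH _).2 fun z hz => by
    show ((v : G) * (u : G) * (v : G)⁻¹) • z = z
    rw [mul_smul, mul_smul, (hH (u : G)).1 hu _ (by rw [← v.2.2, smul_inv_smul]; exact hz), smul_inv_smul]⟩
  have hpT : p ∣ (H.subgroupOf T).index := by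
    have hord : orderOf (QuotientGroup.mk (⟨x, hxT⟩ : T) : T ⧸ H.subgroupOf T) ∣ (H.subgroupOf T).index := by
      exact orderOf_dvd_natCard _
    refine dvd_trans ?_ hord
    have h1 : ((⟨x, hxT⟩ : T) ^ orderOf (QuotientGroup.mk (⟨x, hxT⟩ : T) : T ⧸ H.subgroupOf T)) ∈ H.subgroupOf T := by
      rw [← QuotientGroup.eq_one_iff, QuotientGroup.mk_pow, pow_orderOf_eq_one]
    exact (hxz _).1 ((hH _).1 h1 z₁ hz₁)
  -- a Sylow subgroup of `T` fixes `k` points
  obtain ⟨Q⟩ : Nonempty (Sylow p T) := inferInstance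
  have hfix : ∀ i, ∃ y ∈ MulAction.orbit H (f i), ∀ u : T, u ∈ (Q : Subgroup T) → (u : G) • y = y := by
    intro i
    let O := MulAction.orbit H (f i)
    have hinv : ∀ u : T, ∀ y ∈ O, (u : G) • y ∈ O := by
      rintro u y ⟨h, rfl⟩
      have hout : ((h : G) • f i) ∉ Γ := fun hm => hf i (((hHT h.2).2 _).1 hm)
      have h1 : (u : G) • (h : G) • f i ∈ MulAction.orbit H ((h : G) • f i) := horb u.1 u.2 _ hout
      rwa [MulAction.orbit_eq_iff.2 (show (h : G) • f i ∈ MulAction.orbit H (f i) from ⟨h, rfl⟩)] at h1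
    let act : MulAction (Q : Subgroup T) O :=
      { smul := fun u y => ⟨((u : T) : G) • y.1, hinv u.1 y.1 y.2⟩
        one_smul := fun y => Subtype.ext (one_smul G y.1)
        mul_smul := fun u v y => Subtype.ext (mul_smul _ _ y.1) }
    obtain ⟨y, hy⟩ := Q.isPGroup'.nonempty_fixed_point_of_prime_not_dvd_card O (hall i)
    exact ⟨y.1, y.2, fun u hu => congrArg Subtype.val (hy ⟨u, hu⟩)⟩
  choose y hy hyf using hfix
  have hyinj : Function.Injective y := fun i j e => by
    by_contra hne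
    refine hdist i j hne ?_
    rw [← MulAction.orbit_eq_iff.2 (hy i), e, MulAction.orbit_eq_iff.2 (hy j)]
    exact MulAction.mem_orbit_self _
  have hyΓ : ∀ i, y i ∉ Γ := fun i hm => by
    obtain ⟨h, hh⟩ := hy i
    have : (h : G) • f i ∈ Γ := by
      have hh' : (h : G) • f i = y i := hh
      rw [hh']; exact hm
    exact hf i (((hHT h.2).2 _).1 this)
  set S := A ∪ Finset.univ.image y
  have hSc : S.card = k := by
    rw [Finset.card_union_of_disjoint (Finset.disjoint_left.2 fun z hz hz' => by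
      obtain ⟨i, -, rfl⟩ := Finset.mem_image.1 hz'; exact hyΓ i (hAΓ hz)),
      Finset.card_image_of_injective _ hyinj, Finset.card_univ, Fintype.card_fin, hAc]
    omega
  -- move `Γ` onto `S`
  obtain ⟨g, hg⟩ : ∃ g : G, ∀ z ∈ Γ, g • z ∈ S := by
    have step : ∀ n, ∀ S : Finset α, S.card = k → (S \ Γ).card = n → ∃ g : G, ∀ z ∈ Γ, g • z ∈ S := by
      intro n
      induction n with
      | zero =>
        intro S hS hn
        have : S = Γ := Finset.eq_of_subset_of_card_le (Finset.sdiff_eq_empty_iff_subset.1 (Finset.card_eq_zero.1 hn)) (by omega)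
        exact ⟨1, fun z hz => by rw [one_smul, this]; exact hz⟩
      | succ n ih =>
        intro S hS hn
        obtain ⟨u, hu⟩ : (S \ Γ).Nonempty := Finset.card_pos.1 (by omega)
        obtain ⟨huS, huΓ⟩ := Finset.mem_sdiff.1 hu
        obtain ⟨v, hvΓ, hvS⟩ := Finset.exists_mem_notMem_of_card_lt_card (s := S.erase u) (t := Γ) (by
          rw [Finset.card_erase_of_mem huS, hS, hΓ]; omega)
        have hvS' : v ∉ S := fun h => hvS (Finset.mem_erase.2 ⟨fun e => huΓ (e ▸ hvΓ), h⟩)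
        set S' := insert v (S.erase u)
        have hS' : S'.card = k := by
          rw [Finset.card_insert_of_notMem hvS, Finset.card_erase_of_mem huS, hS]; omega
        obtain ⟨g, hg⟩ := ih S' hS' (by
          rw [show S' \ Γ = (S \ Γ).erase u from Finset.ext fun z => by
            simp only [S', Finset.mem_sdiff, Finset.mem_insert, Finset.mem_erase]
            constructor
            · rintro ⟨e | ⟨h1, h2⟩, h3⟩
              · exact absurd (e ▸ hvΓ) h3
              · exact ⟨h1, h2, h3⟩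
            · rintro ⟨h1, h2, h3⟩; exact ⟨Or.inr ⟨h1, h2⟩, h3⟩, Finset.card_erase_of_mem hu, hn]
          omega)
        have hsc : (insert v S).card = k + 1 := by rw [Finset.card_insert_of_notMem hvS', hS]
        let σ : Equiv.Perm ↥(insert v S) :=
          Equiv.swap ⟨v, Finset.mem_insert_self _ _⟩ ⟨u, Finset.mem_insert_of_mem huS⟩
        obtain ⟨m, hm, hmx⟩ := hgen (insert v S) hsc σ
        refine ⟨⟨m, hm⟩ * g, fun z hz => ?_⟩
        rw [mul_smul]
        have h1 := hg z hz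
        show m (g • z) ∈ S
        rcases Finset.mem_insert.1 h1 with e | e
        · rw [e, hmx ⟨v, Finset.mem_insert_self _ _⟩]
          simp [σ, huS]
        · obtain ⟨hne, hzS⟩ := Finset.mem_erase.1 e
          rw [hmx ⟨g • z, Finset.mem_insert_of_mem hzS⟩]
          simp only [σ]
          have n1 : (⟨g • z, Finset.mem_insert_of_mem hzS⟩ : ↥(insert v S)) ≠ ⟨v, Finset.mem_insert_self _ _⟩ :=
            fun e' => hvS' (by have he : g • z = v := congrArg Subtype.val e'; rw [← he]; exact hzS)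
          have n2 : (⟨g • z, Finset.mem_insert_of_mem hzS⟩ : ↥(insert v S)) ≠ ⟨u, Finset.mem_insert_of_mem huS⟩ :=
            fun e' => hne (congrArg Subtype.val e')
          rw [Equiv.swap_apply_of_ne_of_ne n1 n2]
          exact hzS
    exact step _ S hSc rfl
  -- the image of `Q` lies in a conjugate of `H`
  have hle : ((Q : Subgroup T).map T.subtype).map (MulAut.conj g⁻¹).toMonoidHom ≤ H := by
    rintro _ ⟨_, ⟨u, hu, rfl⟩, rfl⟩
    refine (hH _).2 fun z hz => ?_
    show (g⁻¹ * (u : G) * g⁻¹⁻¹) • z = z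
    rw [mul_smul, mul_smul, inv_inv, inv_smul_eq_iff]
    rcases Finset.mem_union.1 (hg z hz) with e | e
    · exact u.2.1 _ e
    · obtain ⟨i, -, hi⟩ := Finset.mem_image.1 e
      rw [← hi]; exact hyf i u hu
  have h1 := Subgroup.card_dvd_of_le hle
  rw [Subgroup.card_map_of_injective (MulAut.conj g⁻¹).injective, Subgroup.card_map_of_injective T.subtype_injective,
    Q.card_eq_multiplicity, ← (H.subgroupOf T).card_mul_index, Nat.card_congr (Subgroup.subgroupOfEquivOfLe hHT).toEquiv,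
    Nat.factorization_mul Nat.card_pos.ne' Subgroup.index_ne_zero_of_finite, Finsupp.add_apply] at h1
  have h2 := (Nat.Prime.pow_dvd_iff_le_factorization hp Nat.card_pos.ne').1 h1
  have h3 := hp.factorization_pos_of_dvd Subgroup.index_ne_zero_of_finite hpT
  omega

end Cfsg.Agent.S0706
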