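import Cfsg.Statements.S0707
import Mathlib

set_option autoImplicit false
open Cfsg
open scoped Pointwise

namespace Cfsg.Agent.S0707

/-- In a primitive permutation group, distinct points have distinct stabilisers unless the group is regular of prime degree. -/
theorem result {α : Type*} (G : Subgroup (Equiv.Perm α)) [MulAction.IsPreprimitive G α] (h : ¬ (Nat.card α).Prime ∨ ∃ a : α, MulAction.stabilizer G a ≠ ⊥) {a b : α} (hab : a ≠ b) : MulAction.stabilizer G a ≠ MulAction.stabilizer G b := by
  intro e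
  have hblk : MulAction.IsBlock G {x : α | MulAction.stabilizer G x = MulAction.stabilizer G a} := by
    rw [MulAction.isBlock_iff_smul_eq_or_disjoint]
    intro g
    by_cases hd : Disjoint (g • {x : α | MulAction.stabilizer G x = MulAction.stabilizer G a}) {x : α | MulAction.stabilizer G x = MulAction.stabilizer G a}
    · exact Or.inr hd
    left
    obtain ⟨_, ⟨x, hx, rfl⟩, hy⟩ := Set.not_disjoint_iff.1 hd
    simp only [Set.mem_setOf_eq] at hx hy
    rw [MulAction.stabilizer_smul_eq_stabilizer_map_conj, hx] at hy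
    ext z
    rw [Set.mem_smul_set_iff_inv_smul_mem]
    simp only [Set.mem_setOf_eq]
    constructor
    · intro hz
      rw [← smul_inv_smul g z, MulAction.stabilizer_smul_eq_stabilizer_map_conj, hz, hy]
    · intro hz
      apply Subgroup.map_injective (f := (MulAut.conj g).toMonoidHom) (MulAut.conj g).injective
      rw [← MulAction.stabilizer_smul_eq_stabilizer_map_conj, smul_inv_smul, hz, hy]
  have hall : ∀ x : α, MulAction.stabilizer G x = MulAction.stabilizer G a := by
    rcases (MulAction.IsPreprimitive.isTrivialBlock_of_isBlock hblk) with hs | hs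
    · exact (hab (hs (rfl : MulAction.stabilizer G a = MulAction.stabilizer G a) e.symm)).elim
    · exact fun x => (Set.eq_univ_iff_forall.1 hs x : _)
  have hbot : ∀ x : α, MulAction.stabilizer G x = ⊥ := fun x => by
    refine (Subgroup.eq_bot_iff_forall _).2 fun g hg => eq_of_smul_eq_smul (α := α) fun y => ?_
    rw [hall x, ← hall y] at hg
    rw [one_smul]; exact hg
  have : Nontrivial α := ⟨a, b, hab⟩
  rcases h with h | ⟨c, hc⟩
  swap
  · exact hc (hbot c)
  apply h
  have hco : IsCoatom (⊥ : Subgroup G) := hbot a ▸ (MulAction.isCoatom_stabilizer_iff_preprimitive G a).2 ‹_›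
  have hcard : Nat.card G = Nat.card α := by
    refine Nat.card_congr (Equiv.ofBijective (fun g : G => g • a) ⟨fun g g' (hgg : g • a = g' • a) => ?_, MulAction.surjective_smul G a⟩)
    have : g'⁻¹ * g ∈ MulAction.stabilizer G a := by
      rw [MulAction.mem_stabilizer_iff, mul_smul, hgg, inv_smul_smul]
    rw [hbot a, Subgroup.mem_bot] at this
    exact (inv_mul_eq_one.1 this).symm
  rw [← hcard]
  have htop : ∀ g : G, g ≠ 1 → Subgroup.zpowers g = ⊤ := fun g hg =>
    hco.2 _ (bot_lt_iff_ne_bot.2 fun h0 => hg (Subgroup.zpowers_eq_bot.1 h0))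
  obtain ⟨g, hg⟩ : ∃ g : G, g ≠ 1 := by
    by_contra hne
    push_neg at hne
    exact hco.1 (eq_top_iff.2 fun x _ => Subgroup.mem_bot.2 (hne x))
  have hord : Nat.card G = orderOf g := by rw [← Nat.card_zpowers, htop g hg, Subgroup.card_top]
  rw [hord]
  have hfin : orderOf g ≠ 0 := fun h0 => by
    have hinj := injective_zpow_iff_not_isOfFinOrder.2 (orderOf_eq_zero_iff.1 h0)
    have h2 : g ^ (2 : ℤ) ≠ 1 := fun h2 => absurd (hinj (h2.trans (zpow_zero g).symm)) (by norm_num)
    obtain ⟨k, hk⟩ := Subgroup.mem_zpowers_iff.1 (by rw [htop _ h2]; trivial : g ∈ Subgroup.zpowers (g ^ (2:ℤ)))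
    rw [← zpow_mul] at hk
    have := hinj (hk.trans (zpow_one g).symm)
    omega
  obtain ⟨q, hq, hdvd⟩ := Nat.exists_prime_and_dvd (fun h1 => hg (orderOf_eq_one_iff.1 h1) : orderOf g ≠ 1)
  by_cases hgq : g ^ q = 1
  · exact (Nat.dvd_antisymm (orderOf_dvd_of_pow_eq_one hgq) hdvd).symm ▸ hq
  · exfalso
    have ho : orderOf (g ^ q) = orderOf g := by
      rw [← Nat.card_zpowers, htop _ hgq, Subgroup.card_top, hord]
    rw [orderOf_pow_of_dvd hq.ne_zero hdvd] at ho
    exact (Nat.div_lt_self (Nat.pos_of_ne_zero hfin) hq.one_lt).ne ho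

end Cfsg.Agent.S0707
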