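import Cfsg.Statements.S0708
import Cfsg.Agent.RankOne.SharpJordan

set_option autoImplicit false
open Cfsg

namespace Cfsg.Agent.S0708


/-- Four points in a row. -/
private def four {Ω : Type*} {p q r s : Ω} (h : p ≠ q ∧ p ≠ r ∧ p ≠ s ∧ q ≠ r ∧ q ≠ s ∧ r ≠ s) : Fin 4 ↪ Ω :=
  ⟨![p, q, r, s], by
    obtain ⟨h1, h2, h3, h4, h5, h6⟩ := h
    intro i j hij
    fin_cases i <;> fin_cases j <;> simp_all [eq_comm]⟩

/-- Tits' argument: a sharply 4-transitive group (no finiteness assumed) has finite degree at most 11, and at most 6 when the degree is even. -/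
theorem result {G : Type*} [Group G] {Ω : Type*} [MulAction G Ω] (h4 : MulAction.IsMultiplyPretransitive G Ω 4) (hsharp : ∀ x : Fin 4 ↪ Ω, MulAction.stabilizer G x = ⊥) (hne : Nonempty (Fin 4 ↪ Ω)) : Finite Ω ∧ Nat.card Ω ≤ 11 ∧ (Even (Nat.card Ω) → Nat.card Ω ≤ 6) := by
  classical
  obtain ⟨w⟩ := hne
  have hquad : ∀ {g : G} {p q r s : Ω}, p ≠ q ∧ p ≠ r ∧ p ≠ s ∧ q ≠ r ∧ q ≠ s ∧ r ≠ s →
      g • p = p → g • q = q → g • r = r → g • s = s → g = 1 := by
    intro g p q r s h hp hq hr hs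
    have hm : g ∈ MulAction.stabilizer G (four h) := MulAction.mem_stabilizer_iff.2 (DFunLike.ext _ _ fun i => by
      fin_cases i <;> first | exact hp | exact hq | exact hr | exact hs)
    rwa [hsharp, Subgroup.mem_bot] at hm
  -- an involution with two fixed points
  let y : Fin 4 ↪ Ω := (Equiv.swap (2 : Fin 4) 3).toEmbedding.trans w
  obtain ⟨a, ha⟩ := MulAction.exists_smul_eq G w y
  have hai : ∀ i, a • w i = w (Equiv.swap (2 : Fin 4) 3 i) := fun i => DFunLike.congr_fun ha i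
  have hw : ∀ i j : Fin 4, i ≠ j → w i ≠ w j := fun i j h => w.injective.ne h
  have a0 : a • w 0 = w 0 := by rw [hai]; rfl
  have a1 : a • w 1 = w 1 := by rw [hai]; rfl
  have a2 : a • w 2 = w 3 := by rw [hai]; rfl
  have a3 : a • w 3 = w 2 := by rw [hai]; rfl
  have haa : a * a = 1 := hquad ⟨hw 0 1 (by decide), hw 0 2 (by decide), hw 0 3 (by decide), hw 1 2 (by decide),
    hw 1 3 (by decide), hw 2 3 (by decide)⟩ (by rw [mul_smul, a0, a0]) (by rw [mul_smul, a1, a1])
    (by rw [mul_smul, a2, a3]) (by rw [mul_smul, a3, a2])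
  have ha1 : a ≠ 1 := fun h => hw 2 3 (by decide) (by rw [← a2, h, one_smul])
  set F : Set Ω := {x | a • x = x} with hF
  have hFfin : F.Finite := by
    by_contra hinf
    obtain ⟨T, hT, hTc⟩ := Set.Infinite.exists_subset_card_eq hinf 4
    let e : Fin 4 ↪ Ω := ((T.equivFinOfCardEq hTc).symm.toEmbedding.trans (Function.Embedding.subtype _))
    have hm : a ∈ MulAction.stabilizer G e := MulAction.mem_stabilizer_iff.2 (DFunLike.ext _ _ fun i =>
      hT ((T.equivFinOfCardEq hTc).symm i).2)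
    rw [hsharp, Subgroup.mem_bot] at hm
    exact ha1 hm
  -- the centraliser of `a` fixing a moved point
  set P : Set G := {g | g * a = a * g ∧ g • w 2 = w 2} with hP
  have hmapF : ∀ g ∈ P, ∀ x ∈ F, g • x ∈ F := fun g hg x hx => by
    show a • g • x = g • x
    rw [← mul_smul, ← hg.1, mul_smul, show a • x = x from hx]
  have hPfin : P.Finite := by
    haveI := hFfin.to_subtype
    refine Set.finite_coe_iff.1 (Finite.of_injective (fun g : P =>
      ((⟨(g : G) • w 0, hmapF g g.2 _ a0⟩, ⟨(g : G) • w 1, hmapF g g.2 _ a1⟩) : F × F)) ?_)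
    rintro ⟨g, hg1, hg2⟩ ⟨k, hk1, hk2⟩ h
    simp only [Prod.mk.injEq, Subtype.mk.injEq] at h
    have hg3 : g • w 3 = w 3 := by rw [← a2, ← mul_smul, hg1, mul_smul, hg2]
    have hk3 : k • w 3 = w 3 := by rw [← a2, ← mul_smul, hk1, mul_smul, hk2]
    have he : k⁻¹ * g = 1 := hquad ⟨hw 0 1 (by decide), hw 0 2 (by decide), hw 0 3 (by decide), hw 1 2 (by decide),
      hw 1 3 (by decide), hw 2 3 (by decide)⟩ (by rw [mul_smul, h.1, inv_smul_smul])
      (by rw [mul_smul, h.2, inv_smul_smul]) (by rw [mul_smul, hg2, inv_smul_eq_iff, hk2])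
      (by rw [mul_smul, hg3, inv_smul_eq_iff, hk3])
    exact Subtype.ext (inv_mul_eq_one.1 he).symm
  have hfin : Finite Ω := by
    by_cases hr : ∃ r0 : Ω, a • r0 ≠ r0 ∧ r0 ≠ w 2 ∧ r0 ≠ w 3
    · obtain ⟨r0, h0, h02, h03⟩ := hr
      have hdist : ∀ r : Ω, a • r ≠ r → r ≠ w 2 → r ≠ w 3 →
          w 2 ≠ w 3 ∧ w 2 ≠ r ∧ w 2 ≠ a • r ∧ w 3 ≠ r ∧ w 3 ≠ a • r ∧ r ≠ a • r := fun r h h2 h3 =>
        ⟨hw 2 3 (by decide), h2.symm, fun e => h3 (by rw [← a2, e, ← mul_smul, haa, one_smul]), h3.symm,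
          fun e => h2 (by rw [← a3, e, ← mul_smul, haa, one_smul]), h.symm⟩
      refine Set.finite_univ_iff.1 (((hPfin.image fun g => g • r0).union (hFfin.union
        ((Set.finite_singleton (w 2)).union (Set.finite_singleton (w 3))))).subset fun r _ => ?_)
      by_cases h1 : a • r = r
      · exact Or.inr (Or.inl h1)
      by_cases h2 : r = w 2
      · exact Or.inr (Or.inr (Or.inl h2))
      by_cases h3 : r = w 3
      · exact Or.inr (Or.inr (Or.inr h3))
      obtain ⟨g, hg⟩ := MulAction.exists_smul_eq G (four (hdist r0 h0 h02 h03)) (four (hdist r h1 h2 h3))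
      have g0 : g • w 2 = w 2 := DFunLike.congr_fun hg 0
      have g1 : g • w 3 = w 3 := DFunLike.congr_fun hg 1
      have g2 : g • r0 = r := DFunLike.congr_fun hg 2
      have g3 : g • a • r0 = a • r := DFunLike.congr_fun hg 3
      refine Or.inl ⟨g, ⟨?_, g0⟩, g2⟩
      have he : a⁻¹ * g⁻¹ * a * g = 1 := hquad (hdist r0 h0 h02 h03)
        (by rw [mul_smul, g0, mul_smul, a2, mul_smul, show g⁻¹ • w 3 = w 3 by rw [inv_smul_eq_iff, g1],
          inv_smul_eq_iff, a2])
        (by rw [mul_smul, g1, mul_smul, a3, mul_smul, show g⁻¹ • w 2 = w 2 by rw [inv_smul_eq_iff, g0],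
          inv_smul_eq_iff, a3])
        (by rw [mul_smul, g2, mul_smul, ← g3, mul_smul, inv_smul_smul, inv_smul_smul])
        (by rw [mul_smul, g3, mul_smul, ← mul_smul a a, haa, one_smul, ← g2, mul_smul, inv_smul_smul,
          inv_smul_eq_iff, ← mul_smul, haa, one_smul])
      calc g * a = g * a * (a⁻¹ * g⁻¹ * a * g) := by rw [he, mul_one]
        _ = a * g := by group
    · push Not at hr
      refine Set.finite_univ_iff.1 ((hFfin.union
        ((Set.finite_singleton (w 2)).union (Set.finite_singleton (w 3)))).subset fun r _ => ?_)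
      by_cases h1 : a • r = r
      · exact Or.inl h1
      by_cases h2 : r = w 2
      · exact Or.inr (Or.inl h2)
      exact Or.inr (Or.inr (hr r h1 h2))
  haveI := hfin
  haveI : Fintype Ω := Fintype.ofFinite Ω
  -- the finite case
  set H : Subgroup (Equiv.Perm Ω) := (MulAction.toPermHom G Ω).range
  have h4' : MulAction.IsMultiplyPretransitive H Ω 4 := ⟨fun x z => by
    obtain ⟨g, hg⟩ := MulAction.exists_smul_eq G x z
    exact ⟨⟨_, g, rfl⟩, DFunLike.ext _ _ fun i => DFunLike.congr_fun hg i⟩⟩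
  have hsharp' : ∀ x : Fin 4 ↪ Ω, MulAction.stabilizer H x = ⊥ := by
    intro x
    rw [Subgroup.eq_bot_iff_forall]
    rintro ⟨_, g, rfl⟩ h
    have hg : g ∈ MulAction.stabilizer G x := MulAction.mem_stabilizer_iff.2 (DFunLike.ext _ _ fun i =>
      DFunLike.congr_fun (MulAction.mem_stabilizer_iff.1 h) i)
    rw [hsharp, Subgroup.mem_bot] at hg
    exact Subtype.ext (hg.symm ▸ map_one (MulAction.toPermHom G Ω))
  have hc : 4 ≤ Fintype.card Ω := by simpa using Fintype.card_le_of_embedding w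
  have hd := Cfsg.Lib.SharpJordan.degree_four (G := H) h4' hsharp' hc
  refine ⟨inferInstance, ?_, fun he => ?_⟩
  · rw [Nat.card_eq_fintype_card]; omega
  · rw [Nat.card_eq_fintype_card] at he ⊢
    rcases hd with h | h | h | h <;> rw [h] at he ⊢ <;> first | omega | exact absurd he (by decide)

end Cfsg.Agent.S0708
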