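import Cfsg.Statements.S0709
import Mathlib

set_option autoImplicit false
open Cfsg

namespace Cfsg.Agent.S0709

/-- Witt's Lemma for constructing transitive extensions. Points `q 1, …, q t` (`t ≥ 2`) of a finite set are given; `G` fixes `q i` for `i ≥ 3` and is doubly transitive on the remaining points; `s 1 ∈ G` swaps `q 1, q 2`; for `2 ≤ i ≤ t-1`, `s i` swaps `q i, q (i+1)` and fixes the other `q j`; with `H` the stabiliser of `q 1, q 2` in `G`: `s i ^ 2 ∈ H`, `(s i * s (i+1)) ^ 3 ∈ H`, `(s i * s j) ^ 2 ∈ H` for `j ≥ i + 2`, and `s i` (`i ≥ 2`) normalises the stabiliser of `q 2` in `G`. Then `G` and the `s i` generate a `t`-transitive group whose pointwise stabiliser of the `q`'s is `H`. -/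
theorem result {α : Type*} [Fintype α] [DecidableEq α] (t : ℕ) (ht : 2 ≤ t) (q : ℕ → α) (hq : ∀ i j : ℕ, 1 ≤ i → i ≤ t → 1 ≤ j → j ≤ t → q i = q j → i = j) (G : Subgroup (Equiv.Perm α)) (hfix : ∀ g ∈ G, ∀ i : ℕ, 3 ≤ i → i ≤ t → g (q i) = q i) (h2 : ∀ a b c d : α, (∀ i, 3 ≤ i → i ≤ t → a ≠ q i ∧ b ≠ q i ∧ c ≠ q i ∧ d ≠ q i) → a ≠ b → c ≠ d → ∃ g ∈ G, g a = c ∧ g b = d) (s : ℕ → Equiv.Perm α) (hs1 : s 1 ∈ G) (hs1q : s 1 (q 1) = q 2 ∧ s 1 (q 2) = q 1) (hsq : ∀ i : ℕ, 2 ≤ i → i + 1 ≤ t → s i (q i) = q (i + 1) ∧ s i (q (i + 1)) = q i ∧ ∀ j : ℕ, 1 ≤ j → j ≤ t → j ≠ i → j ≠ i + 1 → s i (q j) = q j) (H : Subgroup (Equiv.Perm α)) (hH : H = G ⊓ MulAction.stabilizer (Equiv.Perm α) (q 1) ⊓ MulAction.stabilizer (Equiv.Perm α) (q 2)) (hsq2 : ∀ i : ℕ, 1 ≤ i → i + 1 ≤ t → s i ^ 2 ∈ H) (hbraid : ∀ i : ℕ, 1 ≤ i → i + 2 ≤ t → (s i * s (i + 1)) ^ 3 ∈ H) (hcomm : ∀ i j : ℕ, 1 ≤ i → i + 2 ≤ j → j + 1 ≤ t → (s i * s j) ^ 2 ∈ H ∧ (s j * s i) ^ 2 ∈ H) (hnorm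 : ∀ i : ℕ, 2 ≤ i → i + 1 ≤ t → ∀ g ∈ G ⊓ MulAction.stabilizer (Equiv.Perm α) (q 2), s i * g * (s i)⁻¹ ∈ G ⊓ MulAction.stabilizer (Equiv.Perm α) (q 2)) : MulAction.IsMultiplyPretransitive ↥(Subgroup.closure ((G : Set (Equiv.Perm α)) ∪ {x | ∃ i : ℕ, 2 ≤ i ∧ i + 1 ≤ t ∧ x = s i})) α t ∧ Subgroup.closure ((G : Set (Equiv.Perm α)) ∪ {x | ∃ i : ℕ, 2 ≤ i ∧ i + 1 ≤ t ∧ x = s i}) ⊓ fixingSubgroup (Equiv.Perm α) {x | ∃ i : ℕ, 1 ≤ i ∧ i ≤ t ∧ x = q i} = H := by
  classical
  set K := Subgroup.closure ((G : Set (Equiv.Perm α)) ∪ {x | ∃ i : ℕ, 2 ≤ i ∧ i + 1 ≤ t ∧ x = s i})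
  let G2 := G ⊓ MulAction.stabilizer (Equiv.Perm α) (q 2)
  let L : ℕ → Subgroup (Equiv.Perm α) := fun i =>
    Subgroup.closure ((G2 : Set (Equiv.Perm α)) ∪ {x | ∃ j : ℕ, 1 ≤ j ∧ j < i ∧ x = s j})
  have hne : ∀ i j : ℕ, 1 ≤ i → i ≤ t → 1 ≤ j → j ≤ t → i ≠ j → q i ≠ q j := fun i j a b c d e h => e (hq i j a b c d h)
  have hHG : ∀ h ∈ H, h ∈ G ∧ h (q 1) = q 1 ∧ h (q 2) = q 2 := fun h hh => by
    rw [hH, Subgroup.mem_inf, Subgroup.mem_inf] at hh; exact ⟨hh.1.1, hh.1.2, hh.2⟩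
  have hHG2 : ∀ h ∈ H, h ∈ G2 := fun h hh => ⟨(hHG h hh).1, (hHG h hh).2.2⟩
  have hGL : ∀ i g, g ∈ G2 → g ∈ L i := fun i g hg => Subgroup.subset_closure (Or.inl hg)
  have hsL : ∀ i j, 1 ≤ j → j < i → s j ∈ L i := fun i j a b => Subgroup.subset_closure (Or.inr ⟨j, a, b, rfl⟩)
  have hmono : ∀ i i', i ≤ i' → L i ≤ L i' := fun i i' h => (Subgroup.closure_le _).2 (by
    rintro x (hx | ⟨j, a, b, rfl⟩)
    · exact hGL _ x hx
    · exact hsL _ j a (by omega))
  have hs1fix : ∀ j, 3 ≤ j → j ≤ t → s 1 (q j) = q j := fun j a b => hfix _ hs1 j a b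
  have hsw : ∀ i, 1 ≤ i → i + 1 ≤ t → s i (q i) = q (i + 1) ∧ s i (q (i + 1)) = q i ∧
      ∀ j, i + 1 < j → j ≤ t → s i (q j) = q j := fun i a b => by
    rcases eq_or_lt_of_le a with e | e
    · subst e; exact ⟨hs1q.1, hs1q.2, fun j c d => hs1fix j (by omega) d⟩
    · exact ⟨(hsq i e b).1, (hsq i e b).2.1, fun j c d => (hsq i e b).2.2 j (by omega) d (by omega) (by omega)⟩
  -- everything in `L i` fixes the later points
  have hLfix : ∀ i, 1 ≤ i → i ≤ t → ∀ x ∈ L i, ∀ j, i < j → j ≤ t → x (q j) = q j := fun i hi hit x hx j hj hjt => by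
    have hle : L i ≤ MulAction.stabilizer (Equiv.Perm α) (q j) := (Subgroup.closure_le _).2 (by
      rintro y (hy | ⟨l, a, b, rfl⟩)
      · rcases eq_or_lt_of_le (show 2 ≤ j by omega) with e | e
        · subst e; exact hy.2
        · exact hfix y hy.1 j e hjt
      · exact (hsw l a (by omega)).2.2 j (by omega) hjt)
    exact hle hx
  -- `s i` normalises `L (i - 1)`
  have hnormL : ∀ i, 2 ≤ i → i + 1 ≤ t → ∀ x ∈ L (i - 1), s i * x * (s i)⁻¹ ∈ L (i - 1) ∧ (s i)⁻¹ * x * s i ∈ L (i - 1) := by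
    intro i hi hit x hx
    have h1 : ∀ y ∈ L (i - 1), s i * y * (s i)⁻¹ ∈ L (i - 1) := by
      intro y hy
      refine Subgroup.closure_induction (fun z hz => ?_) (by rw [mul_one, mul_inv_cancel]; exact one_mem _) (fun z w _ _ hz hw => ?_) (fun z _ hz => ?_) hy
      · rcases hz with hz | ⟨j, a, b, rfl⟩
        · exact hGL _ _ (hnorm i hi hit z hz)
        · have h := (hcomm j i a (by omega) hit).2
          have hb := hsq2 j a (by omega)
          have hI := hsq2 i (by omega) hit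
          have hx1 : (s i * s j) ^ 2 ∈ L (i - 1) := hGL _ _ (hHG2 _ h)
          have hx2 : (s i * s i)⁻¹ ∈ L (i - 1) := hGL _ _ (G2.inv_mem (hHG2 _ (by rw [← sq]; exact hI)))
          have hx3 : (s j)⁻¹ ∈ L (i - 1) := Subgroup.inv_mem _ (hsL _ j a b)
          rw [show s i * s j * (s i)⁻¹ = (s i * s j) ^ 2 * (s j)⁻¹ * (s i * s i)⁻¹ by rw [sq]; group]
          exact Subgroup.mul_mem _ (Subgroup.mul_mem _ hx1 hx3) hx2
      · rw [show s i * (z * w) * (s i)⁻¹ = (s i * z * (s i)⁻¹) * (s i * w * (s i)⁻¹) by group]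
        exact Subgroup.mul_mem _ hz hw
      · rw [show s i * z⁻¹ * (s i)⁻¹ = (s i * z * (s i)⁻¹)⁻¹ by group]
        exact Subgroup.inv_mem _ hz
    refine ⟨h1 x hx, ?_⟩
    have h2 : s i * s i ∈ L (i - 1) := hGL _ _ (hHG2 _ (by rw [← sq]; exact hsq2 i (by omega) hit))
    rw [show (s i)⁻¹ * x * s i = (s i * s i)⁻¹ * (s i * x * (s i)⁻¹) * (s i * s i) by group]
    exact Subgroup.mul_mem _ (Subgroup.mul_mem _ (Subgroup.inv_mem _ h2) (h1 x hx)) h2
  -- double coset decomposition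
  have hdec : ∀ i, 1 ≤ i → i + 1 ≤ t → ∀ x ∈ L (i + 1), x ∈ L i ∨ ∃ a ∈ L i, ∃ b ∈ L i, x = a * s i * b := by
    intro i hi
    induction i, hi using Nat.le_induction with
    | base =>
      intro ht1 x hx
      have hxG : x ∈ G := by
        have hle : L 2 ≤ G := (Subgroup.closure_le _).2 (by
          rintro y (hy | ⟨j, a, b, rfl⟩)
          · exact hy.1
          · rw [show j = 1 by omega]; exact hs1)
        exact hle hx
      by_cases hx2 : x (q 2) = q 2
      · exact Or.inl (hGL _ _ ⟨hxG, hx2⟩)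
      right
      have hout : ∀ g ∈ G, ∀ i, 3 ≤ i → i ≤ t → g (q 2) ≠ q i := fun g hg i a b e =>
        hne 2 i (by omega) (by omega) (by omega) b (by omega) (g.injective (e.trans (hfix g hg i a b).symm))
      obtain ⟨g, hg, hg1, hg2⟩ := h2 (q 2) (q 1) (q 2) (x (q 2)) (fun i a b => ⟨hne 2 i (by omega) (by omega) (by omega) b (by omega),
        hne 1 i (by omega) (by omega) (by omega) b (by omega), hne 2 i (by omega) (by omega) (by omega) b (by omega),
        hout x hxG i a b⟩) (hne 2 1 (by omega) (by omega) (by omega) (by omega) (by omega)) (Ne.symm hx2)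
      refine ⟨g, hGL _ _ ⟨hg, hg1⟩, (g * s 1)⁻¹ * x, hGL _ _ ⟨G.mul_mem (G.inv_mem (G.mul_mem hg hs1)) hxG, ?_⟩, by group⟩
      show ((g * s 1)⁻¹ * x) (q 2) = q 2
      rw [Equiv.Perm.mul_apply, Equiv.Perm.inv_eq_iff_eq, Equiv.Perm.mul_apply, hs1q.2, hg2]
    | succ i hi ih =>
      intro hit x hx
      have hn := hnormL (i + 1) (by omega) hit
      simp only [Nat.add_sub_cancel] at hn
      set S := s (i + 1)
      set S' := s i
      have hSS : S * S ∈ L i := hGL _ _ (hHG2 _ (by rw [← sq]; exact hsq2 (i + 1) (by omega) hit))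
      have hbr : (S' * S) ^ 3 ∈ H := hbraid i hi (by omega)
      have hS' : S' ∈ L (i + 1) := hsL _ i hi (by omega)
      have hup : L i ≤ L (i + 1) := hmono _ _ (by omega)
      -- products `S a S`
      have key : ∀ a ∈ L (i + 1), S * a * S ∈ L (i + 1) ∨ ∃ c ∈ L (i + 1), ∃ d ∈ L (i + 1), S * a * S = c * S * d := by
        intro a ha
        rcases ih (by omega) a ha with ha' | ⟨c, hc, d, hd, rfl⟩
        · left
          rw [show S * a * S = (S * a * S⁻¹) * (S * S) by group]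
          exact hup (Subgroup.mul_mem _ (hn a ha').1 hSS)
        · right
          refine ⟨(S * c * S⁻¹) * S'⁻¹ * (S' * S) ^ 3, Subgroup.mul_mem _ (Subgroup.mul_mem _ (hup (hn c hc).1) (Subgroup.inv_mem _ hS'))
              (hGL _ _ (hHG2 _ hbr)), (S * S)⁻¹ * S'⁻¹ * (S⁻¹ * d * S), Subgroup.mul_mem _ (Subgroup.mul_mem _ (hup (Subgroup.inv_mem _ hSS))
              (Subgroup.inv_mem _ hS')) (hup (hn d hd).2), ?_⟩
          simp only [pow_succ, pow_zero, one_mul]
          group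
      let P : Equiv.Perm α → Prop := fun x => x ∈ L (i + 1) ∨ ∃ a ∈ L (i + 1), ∃ b ∈ L (i + 1), x = a * S * b
      have hPgen : ∀ y ∈ ((G2 : Set (Equiv.Perm α)) ∪ {x | ∃ j : ℕ, 1 ≤ j ∧ j < i + 1 + 1 ∧ x = s j}), P y := by
        rintro y (hy | ⟨j, a, b, rfl⟩)
        · exact Or.inl (hGL _ _ hy)
        · rcases eq_or_lt_of_le (show j ≤ i + 1 by omega) with e | e
          · right; refine ⟨1, one_mem _, 1, one_mem _, ?_⟩; rw [e, one_mul, mul_one]
          · exact Or.inl (hsL _ j a e)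
      have hPmul : ∀ y z, P y → P z → P (y * z) := by
        rintro y z (hy | ⟨a, ha, b, hb, rfl⟩) (hz | ⟨c, hc, d, hd, rfl⟩)
        · exact Or.inl (Subgroup.mul_mem _ hy hz)
        · right; exact ⟨y * c, Subgroup.mul_mem _ hy hc, d, hd, by group⟩
        · right; exact ⟨a, ha, b * z, Subgroup.mul_mem _ hb hz, by group⟩
        · rw [show a * S * b * (c * S * d) = a * (S * (b * c) * S) * d by group]
          rcases key (b * c) (Subgroup.mul_mem _ hb hc) with h | ⟨e, he, f, hf, h⟩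
          · exact Or.inl (Subgroup.mul_mem _ (Subgroup.mul_mem _ ha h) hd)
          · right; rw [h]; exact ⟨a * e, Subgroup.mul_mem _ ha he, f * d, Subgroup.mul_mem _ hf hd, by group⟩
      refine (Subgroup.closure_induction (p := fun y _ => P y) hPgen (Or.inl (one_mem _)) (fun y z _ _ hy hz => hPmul y z hy hz) (fun y _ hy => ?_) hx : P x)
      rcases hy with hy | ⟨a, ha, b, hb, rfl⟩
      · exact Or.inl (Subgroup.inv_mem _ hy)
      · right
        exact ⟨b⁻¹ * (S * S)⁻¹, Subgroup.mul_mem _ (Subgroup.inv_mem _ hb) (hup (Subgroup.inv_mem _ hSS)), a⁻¹, Subgroup.inv_mem _ ha, by group⟩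
  -- stabilisers
  have hstab : ∀ i, 1 ≤ i → i + 1 ≤ t → ∀ x ∈ L (i + 1), x (q (i + 1)) = q (i + 1) → x ∈ L i := by
    intro i hi hit x hx hxq
    refine (hdec i hi hit x hx).resolve_right ?_
    rintro ⟨a, ha, b, hb, rfl⟩
    rw [Equiv.Perm.mul_apply, Equiv.Perm.mul_apply, hLfix i hi (by omega) b hb (i + 1) (by omega) hit, (hsw i hi hit).2.1] at hxq
    exact hne i (i + 1) hi (by omega) (by omega) hit (by omega)
      (a.injective (hxq.trans (hLfix i hi (by omega) a ha (i + 1) (by omega) hit).symm))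
  have hG2 : G ≤ L 2 := by
    intro x hx
    by_cases hx2 : x (q 2) = q 2
    · exact hGL _ _ ⟨hx, hx2⟩
    have hout : ∀ i, 3 ≤ i → i ≤ t → x (q 2) ≠ q i := fun i a b e =>
      hne 2 i (by omega) (by omega) (by omega) b (by omega) (x.injective (e.trans (hfix x hx i a b).symm))
    obtain ⟨g, hg, hg1, hg2⟩ := h2 (q 2) (q 1) (q 2) (x (q 2)) (fun i a b => ⟨hne 2 i (by omega) (by omega) (by omega) b (by omega),
      hne 1 i (by omega) (by omega) (by omega) b (by omega), hne 2 i (by omega) (by omega) (by omega) b (by omega),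
      hout i a b⟩) (hne 2 1 (by omega) (by omega) (by omega) (by omega) (by omega)) (Ne.symm hx2)
    rw [show x = g * s 1 * ((g * s 1)⁻¹ * x) by group]
    refine Subgroup.mul_mem _ (Subgroup.mul_mem _ (hGL _ _ ⟨hg, hg1⟩) (hsL _ 1 le_rfl (by omega))) (hGL _ _ ⟨G.mul_mem (G.inv_mem (G.mul_mem hg hs1)) hx, ?_⟩)
    show ((g * s 1)⁻¹ * x) (q 2) = q 2
    rw [Equiv.Perm.mul_apply, Equiv.Perm.inv_eq_iff_eq, Equiv.Perm.mul_apply, hs1q.2, hg2]
  have hKL : K = L t := le_antisymm ((Subgroup.closure_le _).2 (by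
    rintro y (hy | ⟨j, a, b, rfl⟩)
    · exact hmono 2 t ht (hG2 hy)
    · exact hsL _ j (by omega) (by omega))) ((Subgroup.closure_le _).2 (by
    rintro y (hy | ⟨j, a, b, rfl⟩)
    · exact Subgroup.subset_closure (Or.inl hy.1)
    · rcases eq_or_lt_of_le a with e | e
      · subst e; exact Subgroup.subset_closure (Or.inl hs1)
      · exact Subgroup.subset_closure (Or.inr ⟨j, e, by omega, rfl⟩)))
  have htr : ∀ i, 2 ≤ i → i ≤ t → ∀ x : ℕ → α, (∀ j l, 1 ≤ j → j ≤ i → 1 ≤ l → l ≤ i → x j = x l → j = l) →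
      (∀ j, 1 ≤ j → j ≤ i → ∀ l, i < l → l ≤ t → x j ≠ q l) → ∃ g ∈ L i, ∀ j, 1 ≤ j → j ≤ i → g (q j) = x j := by
    intro i hi
    induction i, hi using Nat.le_induction with
    | base =>
      intro ht2 x hinj hout
      obtain ⟨g, hg, e1, e2⟩ := h2 (q 1) (q 2) (x 1) (x 2) (fun l a b => ⟨hne 1 l (by omega) (by omega) (by omega) b (by omega),
        hne 2 l (by omega) (by omega) (by omega) b (by omega), hout 1 le_rfl (by omega) l (by omega) b, hout 2 (by omega) le_rfl l (by omega) b⟩)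
        (hne 1 2 (by omega) (by omega) (by omega) (by omega) (by omega)) (fun e => absurd (hinj 1 2 (by omega) (by omega) (by omega) le_rfl e) (by omega))
      refine ⟨g, hG2 hg, fun j a b => ?_⟩
      rcases eq_or_lt_of_le a with e | e
      · subst e; exact e1
      · rw [show j = 2 by omega]; exact e2
    | succ i hi ih =>
      intro hit x hinj hout
      -- move `q (i + 1)` to the last prescribed point
      obtain ⟨g₀, hg₀, hg₀q⟩ : ∃ g₀ ∈ L (i + 1), g₀ (q (i + 1)) = x (i + 1) := by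
        by_cases e : x (i + 1) = q (i + 1)
        · exact ⟨1, one_mem _, by rw [e]; rfl⟩
        obtain ⟨σ, hσ⟩ : ∃ σ : Equiv.Perm α, σ (q i) = x (i + 1) ∧ ∀ l, i < l → l ≤ t → σ (q l) = q l := by
          refine ⟨Equiv.swap (q i) (x (i + 1)), Equiv.swap_apply_left _ _, fun l a b => ?_⟩
          refine Equiv.swap_apply_of_ne_of_ne (hne l i (by omega) b (by omega) (by omega) (by omega)) ?_
          rcases eq_or_lt_of_le (show i + 1 ≤ l by omega) with e' | e'
          · subst e'; exact Ne.symm e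
          · exact (hout (i + 1) (by omega) le_rfl l e' b).symm
        obtain ⟨g, hg, hgq⟩ := ih (by omega) (fun j => σ (q j))
          (fun j l a b c d e' => hq j l a (by omega) c (by omega) (σ.injective e'))
          (fun j a b l c d e' => hne j l a (by omega) (by omega) d (by omega) (σ.injective (e'.trans (hσ.2 l c d).symm)))
        refine ⟨g * s i, Subgroup.mul_mem _ (hmono i (i + 1) (by omega) hg) (hsL _ i (by omega) (by omega)), ?_⟩
        rw [Equiv.Perm.mul_apply, (hsw i (by omega) hit).2.1, hgq i (by omega) le_rfl, hσ.1]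
      obtain ⟨g, hg, hgq⟩ := ih (by omega) (fun j => g₀⁻¹ (x j))
        (fun j l a b c d e => hinj j l a (by omega) c (by omega) (g₀⁻¹.injective e))
        (fun j a b l c d e => by
          rw [Equiv.Perm.inv_eq_iff_eq] at e
          rcases eq_or_lt_of_le (show i + 1 ≤ l by omega) with e' | e'
          · subst e'
            exact absurd (hinj j (i + 1) a (by omega) (by omega) le_rfl (e.trans hg₀q)) (by omega)
          · rw [hLfix (i + 1) (by omega) hit g₀ hg₀ l e' d] at e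
            exact hout j a (by omega) l e' d e)
      refine ⟨g₀ * g, Subgroup.mul_mem _ hg₀ (hmono i (i + 1) (by omega) hg), fun j a b => ?_⟩
      rw [Equiv.Perm.mul_apply]
      rcases eq_or_lt_of_le b with e | e
      · subst e; rw [hLfix i (by omega) (by omega) g hg (i + 1) (by omega) hit, hg₀q]
      · rw [hgq j a (by omega)]; exact g₀.apply_symm_apply (x j)
  refine ⟨⟨fun u v => ?_⟩, le_antisymm ?_ ?_⟩
  · have key : ∀ w : Fin t ↪ α, ∃ g ∈ L t, ∀ k : Fin t, g (q (k.1 + 1)) = w k := fun w => by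
      obtain ⟨g, hg, hgq⟩ := htr t ht le_rfl (fun j => if h : j - 1 < t then w ⟨j - 1, h⟩ else q 1)
        (fun j l a b c d e => by
          simp only [dif_pos (show j - 1 < t by omega), dif_pos (show l - 1 < t by omega)] at e
          have := congrArg Fin.val (w.injective e)
          simp only at this
          omega)
        (fun j a b l c d => by omega)
      refine ⟨g, hg, fun k => ?_⟩
      rw [hgq (k.1 + 1) (by omega) k.2]
      simp [k.2]
    obtain ⟨g, hg, hgu⟩ := key u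
    obtain ⟨g', hg', hgv⟩ := key v
    rw [← hKL] at hg hg'
    refine ⟨⟨g' * g⁻¹, K.mul_mem hg' (K.inv_mem hg)⟩, Function.Embedding.ext fun k => ?_⟩
    rw [Function.Embedding.smul_apply]
    show (g' * g⁻¹) (u k) = v k
    rw [← hgu k, Equiv.Perm.mul_apply, Equiv.Perm.inv_def, Equiv.symm_apply_apply, hgv k]
  · intro x hx
    obtain ⟨hxK, hxf⟩ := Subgroup.mem_inf.1 hx
    have hfixq : ∀ j, 1 ≤ j → j ≤ t → x (q j) = q j := fun j a b =>
      (mem_fixingSubgroup_iff _).1 hxf (q j) ⟨j, a, b, rfl⟩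
    have hdown : ∀ d, d + 1 ≤ t → x ∈ L (t - d) := fun d => by
      induction d with
      | zero => intro _; rw [Nat.sub_zero, ← hKL]; exact hxK
      | succ d ih =>
        intro hd
        have h := ih (by omega)
        rw [show t - d = (t - (d + 1)) + 1 by omega] at h
        exact hstab _ (by omega) (by omega) x h (hfixq _ (by omega) (by omega))
    have h1 : x ∈ L 1 := by have := hdown (t - 1) (by omega); rwa [show t - (t - 1) = 1 by omega] at this
    have hle : L 1 ≤ G2 := (Subgroup.closure_le _).2 (by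
      rintro y (hy | ⟨j, a, b, rfl⟩)
      · exact hy
      · omega)
    rw [hH, Subgroup.mem_inf, Subgroup.mem_inf]
    exact ⟨⟨(hle h1).1, hfixq 1 le_rfl (by omega)⟩, (hle h1).2⟩
  · intro x hx
    obtain ⟨hxG, hx1, hx2⟩ := hHG x hx
    refine Subgroup.mem_inf.2 ⟨Subgroup.subset_closure (Or.inl hxG), (mem_fixingSubgroup_iff _).2 ?_⟩
    rintro _ ⟨j, a, b, rfl⟩
    show x (q j) = q j
    by_cases e1 : j = 1
    · subst e1; exact hx1
    by_cases e2 : j = 2
    · subst e2; exact hx2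
    exact hfix x hxG j (by omega) b

end Cfsg.Agent.S0709
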