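import Cfsg.Statements.S0710
import Mathlib

set_option autoImplicit false
open Cfsg

namespace Cfsg.Agent.S0710

/-- No transitive permutation group on 13 points has order `13 * 12 * 11 * 10 * 9 * 8`. -/
theorem result {α : Type*} [Fintype α] [DecidableEq α] (hα : Fintype.card α = 13) (G : Subgroup (Equiv.Perm α)) [MulAction.IsPretransitive G α] : Nat.card G ≠ 13 * 12 * 11 * 10 * 9 * 8 := by
  classical
  intro hG
  have : Fact (Nat.Prime 13) := ⟨by norm_num⟩
  obtain ⟨P⟩ : Nonempty (Sylow 13 G) := inferInstance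
  have hP : Nat.card (P : Subgroup G) = 13 := by
    rw [P.card_eq_multiplicity, hG]
    have e : (13 * 12 * 11 * 10 * 9 * 8).factorization 13 = 1 := by
      rw [show 13 * 12 * 11 * 10 * 9 * 8 = 13 * 95040 by norm_num, Nat.factorization_mul (by norm_num) (by norm_num),
        Finsupp.add_apply, Nat.Prime.factorization_self (by norm_num), Nat.factorization_eq_zero_of_not_dvd (by norm_num)]
    rw [e, pow_one]
  obtain ⟨x, hx⟩ := (isCyclic_of_prime_card hP).exists_generator
  have hox : orderOf ((x : G) : Equiv.Perm α) = 13 := by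
    rw [Subgroup.orderOf_coe, Subgroup.orderOf_coe, orderOf_eq_card_of_forall_mem_zpowers hx, hP]
  have hcyc : ((x : G) : Equiv.Perm α).IsCycle := Equiv.Perm.isCycle_of_prime_order' (by rw [hox]; norm_num) (by rw [hox, hα]; norm_num)
  have hsupp : ((x : G) : Equiv.Perm α).support = Finset.univ := Finset.eq_univ_of_card _ (by rw [← hcyc.orderOf, hox, hα])
  have hC : Subgroup.centralizer ((P : Subgroup G) : Set G) ≤ (P : Subgroup G) := fun c hc => by
    have hcomm : Commute (c : Equiv.Perm α) ((x : G) : Equiv.Perm α) :=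
      congrArg Subtype.val (Subgroup.mem_centralizer_iff.1 hc (x : G) x.2).symm
    obtain ⟨a⟩ : Nonempty α := Fintype.card_pos_iff.1 (by rw [hα]; norm_num)
    obtain ⟨i, hi⟩ := hcyc.exists_zpow_eq (Equiv.Perm.mem_support.1 (hsupp ▸ Finset.mem_univ a)) (Equiv.Perm.mem_support.1 (hsupp ▸ Finset.mem_univ ((c : Equiv.Perm α) a)))
    have : (c : Equiv.Perm α) = ((x : G) : Equiv.Perm α) ^ i := Equiv.ext fun z => by
      obtain ⟨l, hl⟩ := hcyc.exists_zpow_eq (Equiv.Perm.mem_support.1 (hsupp ▸ Finset.mem_univ a)) (Equiv.Perm.mem_support.1 (hsupp ▸ Finset.mem_univ z))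
      rw [← hl]
      have h1 := Equiv.congr_fun (hcomm.zpow_right l).eq a
      simp only [Equiv.Perm.mul_apply] at h1
      rw [h1, ← hi, ← Equiv.Perm.mul_apply, ← zpow_add, add_comm, zpow_add, Equiv.Perm.mul_apply]
    have hc' : c = (x : G) ^ i := Subtype.ext (by rw [this]; rfl)
    rw [hc']
    exact Subgroup.zpow_mem _ x.2 i
  set N := Subgroup.normalizer ((P : Subgroup G) : Set G)
  have hdvd : Nat.card N ∣ 13 * 12 := by
    let f : N →* MulAut (P : Subgroup G) := Subgroup.normalizerMonoidHom (P : Subgroup G)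
    have hk : f.ker ≤ (P : Subgroup G).subgroupOf N := fun c hc => by
      rw [Subgroup.mem_subgroupOf]
      rw [Subgroup.normalizerMonoidHom_ker, Subgroup.mem_subgroupOf] at hc
      exact hC hc
    rw [← f.ker.card_mul_index, Subgroup.index_ker]
    refine Nat.mul_dvd_mul ((Subgroup.card_dvd_of_le hk).trans (dvd_of_eq ?_)) ((Subgroup.card_subgroup_dvd_card f.range).trans (dvd_of_eq ?_))
    · rw [Nat.card_congr (Subgroup.subgroupOfEquivOfLe Subgroup.le_normalizer).toEquiv, hP]
    · have : IsCyclic (P : Subgroup G) := isCyclic_of_prime_card hP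
      rw [Nat.card_congr (IsCyclic.mulAutMulEquiv (P : Subgroup G)).toEquiv, hP, Nat.card_eq_fintype_card, ZMod.card_units_eq_totient]
      decide
  have hS := card_sylow_modEq_one 13 G
  rw [P.card_eq_index_normalizer] at hS
  have hmul := N.card_mul_index
  rw [hG] at hmul
  have h13 : 13 ∣ Nat.card N := hP ▸ Subgroup.card_dvd_of_le Subgroup.le_normalizer
  obtain ⟨r, hr⟩ := h13
  rw [hr] at hdvd hmul
  have hr12 : r ∣ 12 := Nat.dvd_of_mul_dvd_mul_left (by norm_num) hdvd
  have hmul' : r * N.index = 95040 := by linarith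
  have : r ≤ 12 := Nat.le_of_dvd (by norm_num) hr12
  have hS' : N.index % 13 = 1 % 13 := hS
  interval_cases r <;> omega

end Cfsg.Agent.S0710
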