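import Cfsg.Statements.S0711
import Mathlib

set_option autoImplicit false
open Cfsg

namespace Cfsg.Agent.S0711

/-- A `k`-transitive permutation group (`k ≥ 3`) with a non-identity element of support smaller than `2k - 2` contains a non-identity element of support at most 3, and therefore contains the alternating group. -/
theorem result {α : Type*} [Fintype α] [DecidableEq α] (G : Subgroup (Equiv.Perm α)) {k : ℕ} (hk : 3 ≤ k) (hkn : k ≤ Fintype.card α) (hG : MulAction.IsMultiplyPretransitive G α k) (g : Equiv.Perm α) (hg : g ∈ G) (hg1 : g ≠ 1) (hsupp : g.support.card < 2 * k - 2) : (∃ h : Equiv.Perm α, h ∈ G ∧ h ≠ 1 ∧ h.support.card ≤ 3) ∧ alternatingGroup α ≤ G := by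
  classical
  obtain ⟨h, ⟨hh, hh1⟩, hmin⟩ : ∃ h : Equiv.Perm α, (h ∈ G ∧ h ≠ 1) ∧ ∀ f ∈ G, f ≠ 1 → h.support.card ≤ f.support.card := by
    have hne : ((Finset.univ : Finset (Equiv.Perm α)).filter fun h => h ∈ G ∧ h ≠ 1).Nonempty := ⟨g, Finset.mem_filter.2 ⟨Finset.mem_univ _, hg, hg1⟩⟩
    obtain ⟨h, hh, hm⟩ := Finset.exists_min_image _ (fun h : Equiv.Perm α => h.support.card) hne
    exact ⟨h, (Finset.mem_filter.1 hh).2, fun f hf hf1 => hm f (Finset.mem_filter.2 ⟨Finset.mem_univ _, hf, hf1⟩)⟩
  have hext : ∀ (S : Finset α) (φ : α → α), S.card ≤ k → Set.InjOn φ S → ∃ x ∈ G, ∀ z ∈ S, x z = φ z := by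
    intro S φ hS hφ
    have : MulAction.IsMultiplyPretransitive G α S.card := MulAction.isMultiplyPretransitive_of_le hS (by rw [Nat.card_eq_fintype_card]; exact hkn)
    let e1 : Fin S.card ↪ α := S.equivFin.symm.toEmbedding.trans (Function.Embedding.subtype _)
    let e2 : Fin S.card ↪ α := ⟨fun i => φ (S.equivFin.symm i), fun i j h => S.equivFin.symm.injective (Subtype.ext (hφ (S.equivFin.symm i).2 (S.equivFin.symm j).2 h))⟩
    obtain ⟨⟨x, hx⟩, hxe⟩ := this.exists_smul_eq e1 e2
    refine ⟨x, hx, fun z hz => ?_⟩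
    have h := DFunLike.congr_fun hxe (S.equivFin ⟨z, hz⟩)
    change x ((S.equivFin.symm (S.equivFin ⟨z, hz⟩) : S) : α) = φ (S.equivFin.symm (S.equivFin ⟨z, hz⟩)) at h
    rwa [Equiv.symm_apply_apply] at h
  set Γ := h.support with hΓ
  set s := Γ.card
  have hs2k : s < 2 * k - 2 := lt_of_le_of_lt (hmin g hg hg1) hsupp
  have hsn : s ≤ Fintype.card α := Finset.card_le_univ _
  -- `h⁻¹ * conjugate` for `x`
  have hcon : ∀ x ∈ G, x * h * x⁻¹ ≠ h → s ≤ (h⁻¹ * (x * h * x⁻¹)).support.card := fun x hx hne =>
    hmin _ (G.mul_mem (G.inv_mem hh) (G.mul_mem (G.mul_mem hx hh) (G.inv_mem hx))) (fun e => hne (inv_mul_eq_one.1 e).symm)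
  have hagree : ∀ x : Equiv.Perm α, ∀ y, x y = y → x (h y) = h y → (h⁻¹ * (x * h * x⁻¹)) y = y := fun x y h1 h2 => by
    rw [Equiv.Perm.mul_apply, Equiv.Perm.mul_apply, Equiv.Perm.mul_apply, Equiv.Perm.inv_eq_iff_eq.2 h1.symm, h2,
      Equiv.Perm.inv_def, Equiv.symm_apply_apply]
  have hsub : ∀ x : Equiv.Perm α, (h⁻¹ * (x * h * x⁻¹)).support ⊆ Γ ∪ Γ.image x := fun x z hz => by
    rw [Finset.mem_union]
    by_contra! hc
    rw [Equiv.Perm.mem_support] at hz
    apply hz
    have h1 : h (x⁻¹ z) = x⁻¹ z := by
      by_contra e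
      exact hc.2 (Finset.mem_image.2 ⟨x⁻¹ z, Equiv.Perm.mem_support.2 e, by simp⟩)
    have h2 : h z = z := by
      by_contra e
      exact hc.1 (Equiv.Perm.mem_support.2 e)
    rw [Equiv.Perm.mul_apply, Equiv.Perm.mul_apply, Equiv.Perm.mul_apply, h1]
    rw [Equiv.Perm.inv_def x, Equiv.apply_symm_apply, Equiv.Perm.inv_eq_iff_eq]; exact h2.symm
  have hmove : ∀ y, y ∈ Γ ↔ h y ≠ y := fun y => Equiv.Perm.mem_support
  have hmoveh : ∀ y, y ∈ Γ → h y ∈ Γ := fun y hy => Equiv.Perm.apply_mem_support.2 hy
  have hs3 : s ≤ 3 := by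
    by_contra hs
    push Not at hs
    by_cases hn : s = Fintype.card α
    · have hfpf : ∀ y, h y ≠ y := fun y => (hmove y).1 (by rw [Finset.eq_univ_of_card Γ hn]; exact Finset.mem_univ y)
      by_cases hk4 : 4 ≤ k
      swap
      · omega
      obtain ⟨y⟩ : Nonempty α := Fintype.card_pos_iff.1 (by omega)
      obtain ⟨c, -, hc⟩ := Finset.exists_mem_notMem_of_card_lt_card (s := {y, h y, h⁻¹ y}) (t := (Finset.univ : Finset α))
        (by rw [Finset.card_univ]; have := Finset.card_le_three (a := y) (b := h y) (c := h⁻¹ y); omega)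
      simp only [Finset.mem_insert, Finset.mem_singleton, not_or] at hc
      obtain ⟨hcy, hchy, hchi⟩ := hc
      have hc1 : h c ≠ y := fun e => hchi (by rw [← e, Equiv.Perm.inv_def, Equiv.symm_apply_apply])
      have hc2 : h c ≠ h y := fun e => hcy (h.injective e)
      have hy1 := hfpf y
      have hc3 := hfpf c
      by_cases hn4 : 5 ≤ Fintype.card α
      · obtain ⟨e, -, he⟩ := Finset.exists_mem_notMem_of_card_lt_card (s := {y, h y, c, h c}) (t := (Finset.univ : Finset α))
          (by rw [Finset.card_univ]; have := Finset.card_le_four (a := y) (b := h y) (c := c) (d := h c); omega)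
        simp only [Finset.mem_insert, Finset.mem_singleton, not_or] at he
        obtain ⟨he1, he2, he3, he4⟩ := he
        obtain ⟨x, hx, hxv⟩ := hext {y, h y, c, h c} (fun z => if z = h c then e else z)
          (le_trans Finset.card_le_four hk4) (fun u hu v hv huv => by
            simp only [Finset.coe_insert, Finset.coe_singleton, Set.mem_insert_iff, Set.mem_singleton_iff] at hu hv
            by_cases h1 : u = h c <;> by_cases h2 : v = h c <;> simp [h1, h2] at huv
            · rw [h1, h2]
            · rcases hv with rfl | rfl | rfl | rfl <;> simp_all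
            · rcases hu with rfl | rfl | rfl | rfl <;> simp_all
            · exact huv)
        have xy : x y = y := by rw [hxv y (by simp), if_neg hc1.symm]
        have xhy : x (h y) = h y := by rw [hxv _ (by simp), if_neg hc2.symm]
        have xc : x c = c := by rw [hxv c (by simp), if_neg hc3.symm]
        have xhc : x (h c) = e := by rw [hxv _ (by simp), if_pos rfl]
        have h1 := hcon x hx (fun e' => he4 (by
          have := congrFun (congrArg DFunLike.coe e') c
          rw [Equiv.Perm.mul_apply, Equiv.Perm.mul_apply, Equiv.Perm.inv_eq_iff_eq.2 xc.symm, xhc] at this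
          exact this))
        have h2 : (h⁻¹ * (x * h * x⁻¹)).support ⊆ Finset.univ.erase y := fun z hz => Finset.mem_erase.2
          ⟨fun e' => Equiv.Perm.mem_support.1 hz (e' ▸ hagree x y xy xhy), Finset.mem_univ _⟩
        have h3 := Finset.card_le_card h2
        rw [Finset.card_erase_of_mem (Finset.mem_univ y), Finset.card_univ] at h3
        omega
      · -- four points
        obtain ⟨x, hx, hxv⟩ := hext Finset.univ (Equiv.swap y c) (by rw [Finset.card_univ]; omega) (Equiv.injective _).injOn
        have hxs : x = Equiv.swap y c := Equiv.ext fun z => hxv z (Finset.mem_univ z)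
        have := hmin x hx (by rw [hxs, Ne, Equiv.swap_eq_one_iff]; exact Ne.symm hcy)
        rw [hxs, Equiv.Perm.support_swap (Ne.symm hcy), Finset.card_pair (Ne.symm hcy)] at this
        omega
    have hout : ∃ e, e ∉ Γ := by
      by_contra! e
      exact hn (by show Γ.card = _; rw [Finset.eq_univ_of_forall e, Finset.card_univ])
    obtain ⟨e, he⟩ := hout
    by_cases hsk : s ≤ k
    · obtain ⟨z, hz⟩ : Γ.Nonempty := Finset.card_pos.1 (by omega)
      obtain ⟨x, hx, hxv⟩ := hext Γ (fun w => if w = z then e else w) hsk (fun u hu v hv huv => by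
        by_cases h1 : u = z <;> by_cases h2 : v = z <;> simp [h1, h2] at huv
        · rw [h1, h2]
        · exact absurd (huv ▸ hv) he
        · exact absurd (huv ▸ hu) he
        · exact huv)
      have xfix : ∀ w ∈ Γ, w ≠ z → x w = w := fun w hw hne => by rw [hxv w hw, if_neg hne]
      have xz : x z = e := by rw [hxv z hz, if_pos rfl]
      have h1 := hcon x hx (fun e' => by
        have h2 := congrFun (congrArg DFunLike.coe e') e
        rw [Equiv.Perm.mul_apply, Equiv.Perm.mul_apply, Equiv.Perm.inv_eq_iff_eq.2 xz.symm,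
          not_not.1 fun h3 => he ((hmove e).2 h3), ← xz] at h2
        exact (hmove z).1 hz (x.injective h2))
      have h2 : (h⁻¹ * (x * h * x⁻¹)).support ⊆ {z, h⁻¹ z, e} := fun w hw => by
        simp only [Finset.mem_insert, Finset.mem_singleton]
        by_contra! hc
        have hwm := hsub x hw
        rw [Finset.mem_union] at hwm
        have hwΓ : w ∈ Γ := hwm.elim id fun hi => by
          obtain ⟨u, hu, rfl⟩ := Finset.mem_image.1 hi
          by_cases huz : u = z
          · exact absurd (by rw [huz, xz]) hc.2.2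
          · rw [xfix u hu huz]; exact hu
        exact Equiv.Perm.mem_support.1 hw (hagree x w (xfix w hwΓ hc.1)
          (xfix _ (hmoveh w hwΓ) fun e' => hc.2.1 (by rw [← e', Equiv.Perm.inv_def, Equiv.symm_apply_apply])))
      have h3 := (Finset.card_le_card h2).trans Finset.card_le_three
      omega
    -- a set with at most one exit
    obtain ⟨D, hDΓ, hDc, hDexit⟩ : ∃ D : Finset α, D ⊆ Γ ∧ D.card = k - 1 ∧
        ∀ y ∈ D, h y ∉ D → ∀ y' ∈ D, h y' ∉ D → y = y' := by
      have : ∀ m ≤ s, ∃ D : Finset α, D ⊆ Γ ∧ D.card = m ∧ ∀ y ∈ D, h y ∉ D → ∀ y' ∈ D, h y' ∉ D → y = y' := by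
        intro m
        induction m with
        | zero => exact fun _ => ⟨∅, Finset.empty_subset _, Finset.card_empty, fun y hy => absurd hy (Finset.notMem_empty y)⟩
        | succ m ih =>
          intro hm
          obtain ⟨D, hD, hc, hex⟩ := ih (by omega)
          by_cases hx : ∃ y ∈ D, h y ∉ D
          · obtain ⟨y, hy, hyn⟩ := hx
            refine ⟨insert (h y) D, Finset.insert_subset (hmoveh y (hD hy)) hD, by rw [Finset.card_insert_of_notMem hyn, hc], ?_⟩
            have key : ∀ u ∈ insert (h y) D, h u ∉ insert (h y) D → u = h y := fun u hu hun => by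
              rw [Finset.mem_insert, not_or] at hun
              rcases Finset.mem_insert.1 hu with e1 | e1
              · exact e1
              · exact absurd (congrArg h (hex u e1 hun.2 y hy hyn)) hun.1
            exact fun u hu hun v hv hvn => (key u hu hun).trans (key v hv hvn).symm
          · push Not at hx
            obtain ⟨w, hwΓ, hw⟩ := Finset.exists_mem_notMem_of_card_lt_card (s := D) (t := Γ) (by show D.card < s; omega)
            refine ⟨insert w D, Finset.insert_subset hwΓ hD, by rw [Finset.card_insert_of_notMem hw, hc], ?_⟩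
            have key : ∀ u ∈ insert w D, h u ∉ insert w D → u = w := fun u hu hun => by
              rcases Finset.mem_insert.1 hu with e1 | e1
              · exact e1
              · exact absurd (Finset.mem_insert_of_mem (hx u e1)) hun
            exact fun u hu hun v hv hvn => (key u hu hun).trans (key v hv hvn).symm
      exact this (k - 1) (by omega)
    -- support bound for `x` fixing `D`
    have hbound : ∀ x : Equiv.Perm α, (∀ w ∈ D, x w = w) → ∀ A : Finset α, A ⊆ D →
        (∀ w ∈ A, h w ∈ D) → (h⁻¹ * (x * h * x⁻¹)).support.card + A.card ≤ s + (Γ.image x \ Γ).card := fun x hx A hA hA' => by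
      have h1 : (h⁻¹ * (x * h * x⁻¹)).support ⊆ (Γ ∪ Γ.image x) \ A := fun w hw => Finset.mem_sdiff.2
        ⟨hsub x hw, fun hwA => Equiv.Perm.mem_support.1 hw (hagree x w (hx w (hA hwA)) (hx _ (hA' w hwA)))⟩
      have h2 := Finset.card_le_card h1
      have h3 : A ⊆ Γ ∪ Γ.image x := fun w hw => Finset.mem_union_left _ (hDΓ (hA hw))
      rw [Finset.card_sdiff_of_subset h3, ← Finset.union_sdiff_self_eq_union, Finset.card_union_of_disjoint Finset.disjoint_sdiff] at h2
      have h4 := Finset.card_le_card h3
      rw [← Finset.union_sdiff_self_eq_union, Finset.card_union_of_disjoint Finset.disjoint_sdiff] at h4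
      change (h⁻¹ * (x * h * x⁻¹)).support.card ≤ s + _ - A.card at h2
      change A.card ≤ s + _ at h4
      omega
    have houtcard : ∀ x : Equiv.Perm α, ∀ K : Finset α, K ⊆ Γ → (∀ w ∈ K, x w ∈ Γ) → (Γ.image x \ Γ).card + K.card ≤ s := fun x K hK hK' => by
      have h1 : Γ.image x \ Γ ⊆ (Γ \ K).image x := fun w hw => by
        obtain ⟨h2, h3⟩ := Finset.mem_sdiff.1 hw
        obtain ⟨u, hu, rfl⟩ := Finset.mem_image.1 h2
        exact Finset.mem_image_of_mem _ (Finset.mem_sdiff.2 ⟨hu, fun huK => h3 (hK' u huK)⟩)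
      have h2 := (Finset.card_le_card h1).trans Finset.card_image_le
      rw [Finset.card_sdiff_of_subset hK] at h2
      have h4 := Finset.card_le_card hK
      change _ ≤ s - K.card at h2
      change K.card ≤ s at h4
      omega
    by_cases hx : ∃ y ∈ D, h y ∉ D
    · obtain ⟨y, hy, hyn⟩ := hx
      obtain ⟨d, hdΓ, hd⟩ := Finset.exists_mem_notMem_of_card_lt_card (s := insert (h y) D) (t := Γ)
        (by rw [Finset.card_insert_of_notMem hyn, hDc]; show _ < s; omega)
      rw [Finset.mem_insert, not_or] at hd
      obtain ⟨x, hxG, hxv⟩ := hext (insert (h y) D) (fun w => if w = h y then d else w)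
        (by rw [Finset.card_insert_of_notMem hyn, hDc]; omega) (fun u hu v hv huv => by
          simp only [Finset.coe_insert, Set.mem_insert_iff, Finset.mem_coe] at hu hv
          by_cases h1 : u = h y <;> by_cases h2 : v = h y <;> simp [h1, h2] at huv
          · rw [h1, h2]
          · exact absurd (huv ▸ hv.resolve_left h2) hd.2
          · exact absurd (huv ▸ hu.resolve_left h1) hd.2
          · exact huv)
      have xfix : ∀ w ∈ D, x w = w := fun w hw => by
        rw [hxv w (Finset.mem_insert_of_mem hw), if_neg fun e' : w = h y => hyn (e' ▸ hw)]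
      have xhy : x (h y) = d := by rw [hxv _ (Finset.mem_insert_self _ _), if_pos rfl]
      have h1 := hcon x hxG (fun e' => hd.1 (by
        have := congrFun (congrArg DFunLike.coe e') y
        rw [Equiv.Perm.mul_apply, Equiv.Perm.mul_apply, Equiv.Perm.inv_eq_iff_eq.2 (xfix y hy).symm, xhy] at this
        exact this))
      have h2 := hbound x xfix (D.erase y) (Finset.erase_subset _ _) (fun w hw => by
        by_contra hwn
        exact (Finset.mem_erase.1 hw).1 (hDexit w (Finset.mem_erase.1 hw).2 hwn y hy hyn))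
      have h3 := houtcard x (insert (h y) D) (Finset.insert_subset (hmoveh y (hDΓ hy)) hDΓ) (fun w hw => by
        rcases Finset.mem_insert.1 hw with e1 | e1
        · rw [e1, xhy]; exact hdΓ
        · rw [xfix w e1]; exact hDΓ e1)
      rw [Finset.card_erase_of_mem hy, hDc] at h2
      rw [Finset.card_insert_of_notMem hyn, hDc] at h3
      omega
    · push Not at hx
      obtain ⟨c, hcΓ, hc⟩ := Finset.exists_mem_notMem_of_card_lt_card (s := D) (t := Γ) (by show _ < s; omega)
      obtain ⟨x, hxG, hxv⟩ := hext (insert c D) (fun w => if w = c then e else w)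
        (by rw [Finset.card_insert_of_notMem hc, hDc]; omega) (fun u hu v hv huv => by
          simp only [Finset.coe_insert, Set.mem_insert_iff, Finset.mem_coe] at hu hv
          by_cases h1 : u = c <;> by_cases h2 : v = c <;> simp [h1, h2] at huv
          · rw [h1, h2]
          · exact absurd (hDΓ (huv ▸ hv.resolve_left h2)) he
          · exact absurd (hDΓ (huv ▸ hu.resolve_left h1)) he
          · exact huv)
      have xfix : ∀ w ∈ D, x w = w := fun w hw => by
        rw [hxv w (Finset.mem_insert_of_mem hw), if_neg fun e' : w = c => hc (e' ▸ hw)]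
      have xc : x c = e := by rw [hxv _ (Finset.mem_insert_self _ _), if_pos rfl]
      have h1 := hcon x hxG (fun e' => by
        have h2 := congrFun (congrArg DFunLike.coe e') e
        rw [Equiv.Perm.mul_apply, Equiv.Perm.mul_apply, Equiv.Perm.inv_eq_iff_eq.2 xc.symm,
          not_not.1 fun h3 => he ((hmove e).2 h3), ← xc] at h2
        exact (hmove c).1 hcΓ (x.injective h2))
      have h2 := hbound x xfix D (Finset.Subset.refl D) hx
      have h3 := houtcard x D hDΓ (fun w hw => by rw [xfix w hw]; exact hDΓ hw)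
      omega
  refine ⟨⟨h, hh, hh1, hs3⟩, ?_⟩
  have h2t : MulAction.IsMultiplyPretransitive G α 2 :=
    MulAction.isMultiplyPretransitive_of_le (show 2 ≤ k by omega) (by rw [Nat.card_eq_fintype_card]; exact hkn)
  have hprim : MulAction.IsPreprimitive G α := MulAction.isPreprimitive_of_is_two_pretransitive h2t
  have hs1 : h.support.card ≠ 1 := Equiv.Perm.card_support_ne_one h
  have hs0 : h.support.card ≠ 0 := fun e => hh1 (Equiv.Perm.support_eq_empty_iff.1 (Finset.card_eq_zero.1 e))
  have hcase : h.support.card = 2 ∨ h.support.card = 3 := by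
    have : h.support.card ≤ 3 := hs3
    omega
  rcases hcase with e | e
  · rw [Equiv.Perm.subgroup_eq_top_of_isPreprimitive_of_isSwap_mem hprim h (Equiv.Perm.card_support_eq_two.1 e) hh]
    exact le_top
  · exact Equiv.Perm.alternatingGroup_le_of_isPreprimitive_of_isThreeCycle_mem hprim (card_support_eq_three_iff.1 e) hh

end Cfsg.Agent.S0711
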