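import Cfsg.Statements.S0712
import Mathlib

set_option autoImplicit false
open Cfsg
open scoped Pointwise

namespace Cfsg.Agent.S0712

/-- Jordan: a primitive group in which the pointwise stabiliser of a set `s` is doubly transitive on the complement of `s` (which has at least 2 points) is `(|s| + 2)`-transitive. -/
theorem result {α : Type*} [Fintype α] [DecidableEq α] (G : Subgroup (Equiv.Perm α)) (hG : MulAction.IsPreprimitive G α) (s : Set α) {m : ℕ} (hsm : s.ncard = m) (hm : m + 2 ≤ Fintype.card α) (h2 : MulAction.IsMultiplyPretransitive (fixingSubgroup G s) (SubMulAction.ofFixingSubgroup G s) 2) : MulAction.IsMultiplyPretransitive G α (m + 2) := by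
  have hN : Nat.card α = Fintype.card α := Nat.card_eq_fintype_card
  have hpre : MulAction.IsMultiplyPretransitive G α m := by
    rcases Nat.eq_zero_or_pos m with rfl | hpos
    · exact MulAction.is_zero_pretransitive'
    obtain ⟨n, rfl⟩ : ∃ n, m = n + 1 := ⟨m - 1, by omega⟩
    have := MulAction.IsPreprimitive.isMultiplyPreprimitive hG hsm (by omega) (MulAction.isPreprimitive_of_is_two_pretransitive h2)
    have h' : MulAction.IsMultiplyPretransitive G α (n + 2) := MulAction.IsMultiplyPreprimitive.isMultiplyPretransitive G α (n + 2)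
    exact MulAction.isMultiplyPretransitive_of_le (n := n + 2) (by omega) (by omega)
  let ι : Fin m ↪ Fin (m + 2) := Fin.castAddEmb 2
  let κ : Fin 2 ↪ Fin (m + 2) := Fin.natAddEmb m
  have : Fintype s := Fintype.ofFinite s
  let e : Fin m ↪ α := ((Finset.equivFinOfCardEq (s := s.toFinset) (by rw [← hsm, Set.ncard_eq_toFinset_card'])).symm.toEmbedding).trans (Function.Embedding.subtype _)
  have he : Set.range e = s := by
    ext z
    simp only [e, Set.mem_range, Function.Embedding.trans_apply]
    refine ⟨?_, fun hz => ?_⟩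
    · rintro ⟨j, rfl⟩
      exact Set.mem_toFinset.1 (Subtype.coe_prop _)
    · exact ⟨(Finset.equivFinOfCardEq (s := s.toFinset) (n := m) (by rw [← hsm, Set.ncard_eq_toFinset_card'])) ⟨z, Set.mem_toFinset.2 hz⟩, by simp⟩
  rw [MulAction.isMultiplyPretransitive_iff] at hpre h2 ⊢
  intro x y
  obtain ⟨g, hg⟩ := hpre (ι.trans x) e
  obtain ⟨k, hk⟩ := hpre (ι.trans y) e
  have hout : ∀ (z : Fin (m + 2) ↪ α) (g : G), g • ι.trans z = e → ∀ i, g • z (κ i) ∈ SubMulAction.ofFixingSubgroup G s := fun z g hz i h => by
    change g • z (κ i) ∈ s at h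
    rw [← he] at h
    obtain ⟨j, hj⟩ := h
    rw [← hz] at hj
    have := z.injective (smul_left_cancel g hj)
    simp [ι, κ, Fin.ext_iff] at this
    omega
  let u : Fin 2 ↪ SubMulAction.ofFixingSubgroup G s :=
    ⟨fun i => ⟨g • x (κ i), hout x g hg i⟩, fun i j h => κ.injective (x.injective (smul_left_cancel g (congrArg Subtype.val h)))⟩
  let v : Fin 2 ↪ SubMulAction.ofFixingSubgroup G s :=
    ⟨fun i => ⟨k • y (κ i), hout y k hk i⟩, fun i j h => κ.injective (y.injective (smul_left_cancel k (congrArg Subtype.val h)))⟩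
  obtain ⟨f, hf⟩ := h2 u v
  refine ⟨k⁻¹ * f * g, Function.Embedding.ext fun i => ?_⟩
  rw [Function.Embedding.smul_apply, mul_smul, mul_smul, inv_smul_eq_iff]
  refine Fin.addCases (fun j => ?_) (fun j => ?_) i
  · have h1 : g • x (ι j) = e j := DFunLike.congr_fun hg j
    have h2' : k • y (ι j) = e j := DFunLike.congr_fun hk j
    show (f : G) • g • x (ι j) = k • y (ι j)
    rw [h1, h2']
    exact (mem_fixingSubgroup_iff G).1 f.2 _ (he ▸ Set.mem_range_self j)
  · exact congrArg Subtype.val (DFunLike.congr_fun hf j)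

end Cfsg.Agent.S0712
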