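import Cfsg.Statements.S0714
import Mathlib

set_option autoImplicit false
open Cfsg

namespace Cfsg.Agent.S0714

/-- Over any field, the permutation module of the alternating group of degree at least 5 has exactly four invariant subspaces: zero, the constant functions, the functions with coordinate sum zero, and everything. -/
theorem result {α : Type*} [Fintype α] [DecidableEq α] (hα : 5 ≤ Fintype.card α) {K : Type*} [Field K] (W : Subrepresentation (Cfsg.permRep K (alternatingGroup α) α)) : W.toSubmodule = ⊥ ∨ W = Cfsg.permConstants K (alternatingGroup α) α ∨ W = Cfsg.permSumZero K (alternatingGroup α) α ∨ W.toSubmodule = ⊤ := by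
  classical
  let act : Equiv.Perm α → (α → K) → (α → K) := fun σ f x => f (σ.symm x)
  have hinv : ∀ σ : Equiv.Perm α, σ ∈ alternatingGroup α → ∀ f ∈ W.toSubmodule, act σ f ∈ W.toSubmodule := fun σ hσ f hf =>
    W.apply_mem_toSubmodule ⟨σ, hσ⟩ hf
  have dbl : ∀ a b c d : α, a ≠ b → c ≠ d → Equiv.swap a b * Equiv.swap c d ∈ alternatingGroup α := fun a b c d h h' => by
    rw [Equiv.Perm.mem_alternatingGroup, map_mul, Equiv.Perm.sign_swap h, Equiv.Perm.sign_swap h']
    norm_num
  have fifth : ∀ s : Finset α, s.card ≤ 4 → ∃ e, e ∉ s := fun s hs =>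
    (Finset.exists_mem_notMem_of_card_lt_card (t := (Finset.univ : Finset α)) (s := s) (by rw [Finset.card_univ]; omega)).imp fun e he => he.2
  let δ : α → α → (α → K) := fun x y => Pi.single x 1 - Pi.single y 1
  by_cases hconst : ∀ f ∈ W.toSubmodule, ∀ a b, f a = f b
  · by_cases h0 : W.toSubmodule = ⊥
    · exact Or.inl h0
    obtain ⟨f, hf, hf0⟩ := Submodule.exists_mem_ne_zero_of_ne_bot h0
    obtain ⟨a, ha⟩ := Function.ne_iff.1 hf0
    refine Or.inr (Or.inl (Subrepresentation.toSubmodule_injective (le_antisymm (fun g hg => ?_) ?_)))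
    · exact Submodule.mem_span_singleton.2 ⟨g a, funext fun x => by simp [hconst g hg x a]⟩
    · refine Submodule.span_le.2 ?_
      rintro _ rfl
      have h := W.toSubmodule.smul_mem (f a)⁻¹ hf
      have e : (f a)⁻¹ • f = fun _ => (1 : K) := funext fun x => by
        rw [Pi.smul_apply, smul_eq_mul, hconst f hf x a, inv_mul_cancel₀ ha]
      rwa [e] at h
  push Not at hconst
  obtain ⟨f, hf, a, b, hab⟩ := hconst
  have key : ∀ g ∈ W.toSubmodule, ∀ a c b e : α, a ≠ c → a ≠ b → a ≠ e → c ≠ b → c ≠ e → b ≠ e →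
      g a = g c → g b ≠ g e → δ b e ∈ W.toSubmodule := by
    intro g hg a c b e hac habk hae hcb hce hbe hga hgb
    have h := W.toSubmodule.smul_mem (g b - g e)⁻¹ (W.toSubmodule.sub_mem hg (hinv _ (dbl a c b e hac hbe) g hg))
    have e' : (g b - g e)⁻¹ • (g - act (Equiv.swap a c * Equiv.swap b e) g) = δ b e := funext fun x => by
      have hx : act (Equiv.swap a c * Equiv.swap b e) g x = g (Equiv.swap b e (Equiv.swap a c x)) := by
        show g ((Equiv.swap a c * Equiv.swap b e).symm x) = _
        rw [Equiv.Perm.mul_def, Equiv.symm_trans_apply, Equiv.symm_swap, Equiv.symm_swap]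
      simp only [Pi.smul_apply, Pi.sub_apply, smul_eq_mul, hx, δ]
      have hne : g b - g e ≠ 0 := sub_ne_zero.2 hgb
      by_cases h1 : x = a
      · subst h1; simp [Equiv.swap_apply_of_ne_of_ne hcb hce, hga, habk, hae]
      by_cases h2 : x = c
      · subst h2; simp [Equiv.swap_apply_of_ne_of_ne habk hae, hga, hcb, hce]
      rw [Equiv.swap_apply_of_ne_of_ne h1 h2]
      by_cases h3 : x = b
      · subst h3; simp [hbe, inv_mul_cancel₀ hne]
      by_cases h4 : x = e
      · subst h4
        rw [Equiv.swap_apply_right, ← neg_sub (g b) (g x), mul_neg, inv_mul_cancel₀ hne]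
        simp [h3]
      · simp [Equiv.swap_apply_of_ne_of_ne h3 h4, h3, h4]
    rwa [e'] at h
  obtain ⟨x0, y0, hxy0, h0⟩ : ∃ x y : α, x ≠ y ∧ δ x y ∈ W.toSubmodule := by
    obtain ⟨c, hc⟩ := fifth {a, b} (by have := Finset.card_le_two (a := a) (b := b); omega)
    obtain ⟨d, hd⟩ := fifth {a, b, c} (by have := Finset.card_le_three (a := a) (b := b) (c := c); omega)
    obtain ⟨e, he⟩ := fifth {a, b, c, d} (by have := Finset.card_le_four (a := a) (b := b) (c := c) (d := d); omega)
    simp only [Finset.mem_insert, Finset.mem_singleton, not_or] at hc hd he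
    have hab' : a ≠ b := fun h => hab (h ▸ rfl)
    set g := f - act (Equiv.swap a b * Equiv.swap c d) f
    have hg : g ∈ W.toSubmodule := W.toSubmodule.sub_mem hf (hinv _ (dbl a b c d hab' (Ne.symm hd.2.2)) f hf)
    have gv : ∀ x, g x = f x - f (Equiv.swap c d (Equiv.swap a b x)) := fun x => by
      show f x - f ((Equiv.swap a b * Equiv.swap c d).symm x) = _
      rw [Equiv.Perm.mul_def, Equiv.symm_trans_apply, Equiv.symm_swap, Equiv.symm_swap]
    have ga : g a = f a - f b := by rw [gv, Equiv.swap_apply_left, Equiv.swap_apply_of_ne_of_ne (Ne.symm hc.2) (Ne.symm hd.2.1)]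
    have gb : g b = f b - f a := by rw [gv, Equiv.swap_apply_right, Equiv.swap_apply_of_ne_of_ne (Ne.symm hc.1) (Ne.symm hd.1)]
    have gc : g c = f c - f d := by rw [gv, Equiv.swap_apply_of_ne_of_ne hc.1 hc.2, Equiv.swap_apply_left]
    have gd : g d = f d - f c := by rw [gv, Equiv.swap_apply_of_ne_of_ne hd.1 hd.2.1, Equiv.swap_apply_right]
    have ge : g e = 0 := by rw [gv, Equiv.swap_apply_of_ne_of_ne he.1 he.2.1, Equiv.swap_apply_of_ne_of_ne he.2.2.1 he.2.2.2, sub_self]
    by_cases hw : (f a - f b) + (f c - f d) = 0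
    · exact ⟨b, e, Ne.symm he.2.1, key g hg a d b e (Ne.symm hd.1) hab' (Ne.symm he.1) hd.2.1 (Ne.symm he.2.2.2) (Ne.symm he.2.1)
        (by rw [ga, gd]; linear_combination hw) (by rw [gb, ge]; exact sub_ne_zero.2 (Ne.symm hab))⟩
    · set k := g + act (Equiv.swap a c * Equiv.swap b d) g
      have hk : k ∈ W.toSubmodule := W.toSubmodule.add_mem hg (hinv _ (dbl a c b d (Ne.symm hc.1) (Ne.symm hd.2.1)) g hg)
      have kv : ∀ x, k x = g x + g (Equiv.swap b d (Equiv.swap a c x)) := fun x => by
        show g x + g ((Equiv.swap a c * Equiv.swap b d).symm x) = _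
        rw [Equiv.Perm.mul_def, Equiv.symm_trans_apply, Equiv.symm_swap, Equiv.symm_swap]
      refine ⟨b, e, Ne.symm he.2.1, key k hk a c b e (Ne.symm hc.1) hab' (Ne.symm he.1) hc.2 (Ne.symm he.2.2.1) (Ne.symm he.2.1) ?_ ?_⟩
      · rw [kv, kv, Equiv.swap_apply_left, Equiv.swap_apply_right,
          Equiv.swap_apply_of_ne_of_ne hc.2 (Ne.symm hd.2.2), Equiv.swap_apply_of_ne_of_ne hab' (Ne.symm hd.1)]
        ring
      · rw [kv, kv, Equiv.swap_apply_of_ne_of_ne (Ne.symm hab') (Ne.symm hc.2), Equiv.swap_apply_left,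
          Equiv.swap_apply_of_ne_of_ne he.1 he.2.2.1, Equiv.swap_apply_of_ne_of_ne he.2.1 he.2.2.2, gb, gd, ge, add_zero]
        intro h
        exact hw (by linear_combination -h)
  have hall : ∀ x y : α, δ x y ∈ W.toSubmodule := by
    intro x y
    by_cases hxy : x = y
    · simp [δ, hxy]
    obtain ⟨τ, hτ, hτx, hτy⟩ : ∃ τ : Equiv.Perm α, τ ∈ alternatingGroup α ∧ τ x0 = x ∧ τ y0 = y := by
      let π : Equiv.Perm α := Equiv.swap (Equiv.swap x0 x y0) y * Equiv.swap x0 x
      have hne : Equiv.swap x0 x y0 ≠ x := fun h => hxy0 ((Equiv.swap x0 x).injective ((Equiv.swap_apply_left x0 x).trans h.symm))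
      have hπx : π x0 = x := by
        show Equiv.swap _ y (Equiv.swap x0 x x0) = x
        rw [Equiv.swap_apply_left, Equiv.swap_apply_of_ne_of_ne hne.symm hxy]
      have hπy : π y0 = y := by
        show Equiv.swap (Equiv.swap x0 x y0) y (Equiv.swap x0 x y0) = y
        rw [Equiv.swap_apply_left]
      rcases Int.units_eq_one_or (Equiv.Perm.sign π) with h | h
      · exact ⟨π, Equiv.Perm.mem_alternatingGroup.2 h, hπx, hπy⟩
      · obtain ⟨c, hc⟩ := fifth {x, y} (by have := Finset.card_le_two (a := x) (b := y); omega)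
        obtain ⟨d, hd⟩ := fifth {x, y, c} (by have := Finset.card_le_three (a := x) (b := y) (c := c); omega)
        simp only [Finset.mem_insert, Finset.mem_singleton, not_or] at hc hd
        refine ⟨Equiv.swap c d * π, Equiv.Perm.mem_alternatingGroup.2 (by rw [map_mul, h, Equiv.Perm.sign_swap (Ne.symm hd.2.2)]; norm_num), ?_, ?_⟩
        · show Equiv.swap c d (π x0) = x
          rw [hπx, Equiv.swap_apply_of_ne_of_ne (Ne.symm hc.1) (Ne.symm hd.1)]
        · show Equiv.swap c d (π y0) = y
          rw [hπy, Equiv.swap_apply_of_ne_of_ne (Ne.symm hc.2) (Ne.symm hd.2.1)]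
    have h := hinv τ hτ _ h0
    have e' : act τ (δ x0 y0) = δ x y := funext fun z => by
      simp [act, δ, Pi.single_apply, Equiv.symm_apply_eq, hτx, hτy]
    rwa [e'] at h
  have hS : ∀ v : α → K, ∑ x, v x = 0 → v ∈ W.toSubmodule := by
    intro v hv
    have e : v = ∑ x, v x • δ x a := funext fun z => by
      simp only [Finset.sum_apply, Pi.smul_apply, δ, Pi.sub_apply, smul_eq_mul, mul_sub, Finset.sum_sub_distrib]
      rw [← Finset.sum_mul, hv, zero_mul, sub_zero]
      simp [Pi.single_apply]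
    rw [e]
    exact W.toSubmodule.sum_mem fun x _ => W.toSubmodule.smul_mem _ (hall x a)
  by_cases hle : ∀ v ∈ W.toSubmodule, ∑ x, v x = 0
  · exact Or.inr (Or.inr (Or.inl (Subrepresentation.toSubmodule_injective (le_antisymm hle hS))))
  · push Not at hle
    obtain ⟨v, hv, hv0⟩ := hle
    refine Or.inr (Or.inr (Or.inr (eq_top_iff.2 fun w _ => ?_)))
    have h := W.toSubmodule.add_mem (W.toSubmodule.smul_mem ((∑ x, w x) / ∑ x, v x) hv)
      (hS (w - ((∑ x, w x) / ∑ x, v x) • v) (by
        simp [Finset.sum_sub_distrib, ← Finset.mul_sum, div_mul_cancel₀ _ hv0]))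
    rwa [add_sub_cancel] at h

end Cfsg.Agent.S0714
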