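import Cfsg.Statements.S0716
import Cfsg.Agent.PermGroups.Subdegrees
import Cfsg.Agent.S0668
import Cfsg.Agent.S0669

set_option autoImplicit false
open Cfsg

namespace Cfsg.Agent.S0716

/-- (a) If all non-principal irreducible constituents of the permutation character of a transitive group have the same degree `f`, the character is multiplicity-free and all non-trivial subdegrees equal `f`. (b) A transitive group of rank at most 5 has multiplicity-free permutation character. -/
theorem result {G : Type*} [Group G] [Fintype G] {Ω : Type*} [Fintype Ω] [MulAction G Ω] [MulAction.IsPretransitive G Ω] (a : Ω) : ((f : ℕ) → (∀ χ : G → ℂ, Cfsg.IsIrrCharacter G χ → χ ≠ (fun _ => 1) → Cfsg.classInner (fun g : G => (Nat.card (MulAction.fixedBy Ω g) : ℂ)) χ ≠ 0 → χ 1 = f) → (∀ χ : G → ℂ, Cfsg.IsIrrCharacter G χ → Cfsg.classInner (fun g : G => (Nat.card (MulAction.fixedBy Ω g) : ℂ)) χ = 0 ∨ Cfsg.classInner (fun g : G => (Nat.card (MulAction.fixedBy Ω g) : ℂ)) χ = 1) ∧ ∀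 b : Ω, b ≠ a → Nat.card (MulAction.orbit (MulAction.stabilizer G a) b) = f) ∧ (Nat.card (MulAction.orbitRel.Quotient (MulAction.stabilizer G a) Ω) ≤ 5 → ∀ χ : G → ℂ, Cfsg.IsIrrCharacter G χ → Cfsg.classInner (fun g : G => (Nat.card (MulAction.fixedBy Ω g) : ℂ)) χ = 0 ∨ Cfsg.classInner (fun g : G => (Nat.card (MulAction.fixedBy Ω g) : ℂ)) χ = 1) := by
  classical
  let ρ := Cfsg.permRep ℂ G Ω
  let t := Cfsg.Lib.PermGroups.Subdegrees.triv G
  let m : Cfsg.IrrCharacter G → ℕ := Cfsg.Lib.PermGroups.Constituents.mult ρ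
  have hm1 : m t = 1 := by
    show Cfsg.Lib.PermGroups.Constituents.mult ρ t = 1
    rw [Cfsg.Lib.PermGroups.Subdegrees.mult_triv]
    refine finrank_eq_one (⟨fun _ => 1, fun g => funext fun _ => rfl⟩ : ρ.invariants) (fun e => ?_) fun w => ?_
    · exact one_ne_zero (congrFun (congrArg Subtype.val e) a)
    · refine ⟨w.1 a, Subtype.ext (funext fun x => ?_)⟩
      obtain ⟨g, rfl⟩ := MulAction.exists_smul_eq G a x
      have h := congrFun (w.2 g) (g • a)
      change w.1 (g⁻¹ • g • a) = _ at h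
      rw [inv_smul_smul] at h
      show w.1 a * 1 = w.1 (g • a)
      rw [mul_one, h]
  set Q := MulAction.orbitRel.Quotient (MulAction.stabilizer G a) Ω
  let _ : Fintype Q := Fintype.ofFinite Q
  have hrank : Nat.card Q = 1 + ∑ χ ∈ Finset.univ.erase t, m χ ^ 2 := by
    rw [← Cfsg.Agent.S0669.result (G := G) a, ← Cfsg.Agent.S0668.result (K := ℂ),
      Cfsg.Lib.PermGroups.Constituents.finrank_commutant, ← Finset.add_sum_erase _ _ (Finset.mem_univ t)]
    show m t ^ 2 + _ = _
    rw [hm1, one_pow]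
  have hA : ∀ f : ℕ, (∀ χ : G → ℂ, Cfsg.IsIrrCharacter G χ → χ ≠ (fun _ => 1) →
      Cfsg.classInner (fun g : G => (Nat.card (MulAction.fixedBy Ω g) : ℂ)) χ ≠ 0 → χ 1 = f) →
      (∀ χ, m χ ≤ 1) ∧ ∀ b : Ω, b ≠ a → Nat.card (MulAction.orbit (MulAction.stabilizer G a) b) = f := by
    intro f hf
    have hdiv : ∀ b : Ω, b ≠ a → f ∣ Nat.card (MulAction.orbit (MulAction.stabilizer G a) b) := fun b hb =>
      Cfsg.Lib.PermGroups.Subdegrees.dvd_subdegree f (fun χ h1 h2 h3 => ⟨1, by rw [hf χ h1 h2 h3, Nat.cast_one, mul_one]⟩) a b hb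
    have hn : Fintype.card Ω = 1 + f * ∑ χ ∈ Finset.univ.erase t, m χ := by
      have h1 := Cfsg.Lib.PermGroups.Constituents.character_expand ρ 1
      rw [Representation.char_one, Module.finrank_fintype_fun_eq_card, ← Finset.add_sum_erase _ _ (Finset.mem_univ t)] at h1
      rw [Finset.sum_congr rfl (g := fun χ : Cfsg.IrrCharacter G => ((m χ * f : ℕ) : ℂ)) (fun χ hχ => by
        by_cases h0 : m χ = 0
        · show (m χ : ℂ) * _ = _
          rw [h0]; simp
        · show (m χ : ℂ) * _ = _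
          rw [hf χ χ.2 (fun e => (Finset.mem_erase.1 hχ).1 (Subtype.ext e)) (fun e => h0 (by
            have := (Cfsg.Lib.PermGroups.PermModule.mult_eq (G := G) (Ω := Ω) χ).symm.trans e
            exact_mod_cast this)), Nat.cast_mul])] at h1
      change (_ : ℂ) = (m t : ℂ) * 1 + _ at h1
      rw [hm1, Nat.cast_one, mul_one, ← Nat.cast_sum] at h1
      rw [Finset.mul_sum]
      have h2 : Fintype.card Ω = 1 + ∑ χ ∈ Finset.univ.erase t, m χ * f := by exact_mod_cast h1
      rw [h2]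
      exact congrArg _ (Finset.sum_congr rfl fun χ _ => mul_comm _ _)
    let q0 : Q := Quotient.mk'' a
    let sz : Q → ℕ := fun q => Nat.card (MulAction.orbit (MulAction.stabilizer G a) q.out)
    have horb : ∀ b, sz (Quotient.mk'' b) = Nat.card (MulAction.orbit (MulAction.stabilizer G a) b) := fun b => by
      show Nat.card _ = _
      rw [MulAction.orbit_eq_iff.2 (MulAction.orbitRel_apply.1 (Quotient.mk_out (s := MulAction.orbitRel (MulAction.stabilizer G a) Ω) b))]
    have hq0 : sz q0 = 1 := by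
      rw [horb, Nat.card_eq_one_iff_unique]
      exact ⟨⟨fun x y => Subtype.ext (by
        obtain ⟨g, hg⟩ := x.2; obtain ⟨g', hg'⟩ := y.2
        rw [← hg, ← hg']
        exact g.2.trans g'.2.symm)⟩, ⟨⟨a, MulAction.mem_orbit_self a⟩⟩⟩
    have hsum : Fintype.card Ω = 1 + ∑ q ∈ Finset.univ.erase q0, sz q := by
      rw [← Nat.card_eq_fintype_card, Nat.card_congr (MulAction.selfEquivSigmaOrbits (MulAction.stabilizer G a) Ω), Nat.card_sigma,
        ← Finset.add_sum_erase _ _ (Finset.mem_univ q0)]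
      show sz q0 + _ = _
      rw [hq0]
    have hq : ∀ q ∈ Finset.univ.erase q0, f ∣ sz q ∧ 0 < sz q := by
      intro q hq
      obtain ⟨b, rfl⟩ := Quotient.mk''_surjective q
      rw [horb]
      refine ⟨hdiv b fun e => (Finset.mem_erase.1 hq).1 (by rw [e]), ?_⟩
      have : Nonempty (MulAction.orbit (MulAction.stabilizer G a) b) := ⟨⟨b, MulAction.mem_orbit_self b⟩⟩
      exact Nat.card_pos
    have hcQ : Nat.card Q = 1 + (Finset.univ.erase q0).card := by
      rw [Nat.card_eq_fintype_card, Finset.card_erase_of_mem (Finset.mem_univ _), Finset.card_univ]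
      have : 0 < Fintype.card Q := Fintype.card_pos_iff.2 ⟨q0⟩
      omega
    choose! k hk using fun q hq' => (hq q hq').1
    have hs : ∑ q ∈ Finset.univ.erase q0, sz q = f * ∑ χ ∈ Finset.univ.erase t, m χ := by omega
    have hcard : (Finset.univ.erase q0).card = ∑ χ ∈ Finset.univ.erase t, m χ ^ 2 := by omega
    by_cases hf0 : f = 0
    · have hQ : Finset.univ.erase q0 = ∅ := by
        refine Finset.eq_empty_of_forall_notMem fun q hq' => ?_
        have := hk q hq'
        rw [hf0, Nat.zero_mul] at this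
        have := (hq q hq').2
        omega
      rw [hQ, Finset.card_empty] at hcard
      refine ⟨fun χ => ?_, fun b hb => by
        have := hdiv b hb
        rw [hf0] at this ⊢
        exact Nat.eq_zero_of_zero_dvd this⟩
      by_cases hχ : χ = t
      · rw [hχ, hm1]
      · have := (Finset.sum_eq_zero_iff).1 hcard.symm χ (Finset.mem_erase.2 ⟨hχ, Finset.mem_univ _⟩)
        rw [sq, Nat.mul_eq_zero, or_self] at this
        omega
    have hk1 : ∀ q ∈ Finset.univ.erase q0, 1 ≤ k q := fun q hq' => Nat.pos_of_ne_zero fun e => by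
      have := (hq q hq').2
      rw [hk q hq', e, Nat.mul_zero] at this
      omega
    have hsk : ∑ q ∈ Finset.univ.erase q0, k q = ∑ χ ∈ Finset.univ.erase t, m χ := by
      apply Nat.eq_of_mul_eq_mul_left (Nat.pos_of_ne_zero hf0)
      rw [← hs, Finset.mul_sum]
      exact Finset.sum_congr rfl fun q hq' => (hk q hq').symm
    have hge : (Finset.univ.erase q0).card ≤ ∑ q ∈ Finset.univ.erase q0, k q := by
      rw [Finset.card_eq_sum_ones]; exact Finset.sum_le_sum hk1
    have hle : ∀ χ ∈ Finset.univ.erase t, m χ ≤ m χ ^ 2 := fun χ _ => Nat.le_self_pow (by norm_num) _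
    have hle' := Finset.sum_le_sum hle
    refine ⟨fun χ => ?_, fun b hb => ?_⟩
    · by_cases hχ : χ = t
      · rw [hχ, hm1]
      · have := (Finset.sum_eq_sum_iff_of_le hle).1 (by omega) χ (Finset.mem_erase.2 ⟨hχ, Finset.mem_univ _⟩)
        by_contra h2
        have h3 : m χ * 2 ≤ m χ * m χ := Nat.mul_le_mul le_rfl (by omega)
        rw [← sq] at h3
        omega
    · have hb' : (Quotient.mk'' b : Q) ∈ Finset.univ.erase q0 := Finset.mem_erase.2 ⟨fun e => hb (by
        obtain ⟨g, hg⟩ := MulAction.orbitRel_apply.1 (Quotient.exact' e)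
        rw [← hg]; exact g.2), Finset.mem_univ _⟩
      have := (Finset.sum_eq_sum_iff_of_le hk1).1 (by rw [← Finset.card_eq_sum_ones]; omega) _ hb'
      rw [← horb, hk _ hb', ← this, mul_one]
  refine ⟨fun f hf => ⟨Cfsg.Lib.PermGroups.PermModule.multFree_iff.2 (hA f hf).1, (hA f hf).2⟩, fun hr => ?_⟩
  refine Cfsg.Lib.PermGroups.PermModule.multFree_iff.2 fun χ₀ => ?_
  by_contra hgt
  have hgt' : 2 ≤ m χ₀ := Nat.lt_of_not_le hgt
  have hχt : χ₀ ≠ t := fun e => by rw [e, hm1] at hgt'; omega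
  have hs4 : ∑ χ ∈ Finset.univ.erase t, m χ ^ 2 ≤ 4 := by
    change Nat.card Q ≤ 5 at hr
    omega
  have hmem := Finset.mem_erase.2 ⟨hχt, Finset.mem_univ χ₀⟩
  rw [← Finset.add_sum_erase _ _ hmem] at hs4
  have h4 : 4 ≤ m χ₀ ^ 2 := by
    have := Nat.pow_le_pow_left hgt' 2
    omega
  have hz : ∀ χ, χ ≠ t → χ ≠ χ₀ → m χ = 0 := fun χ h1 h2 => by
    have h5 := Finset.single_le_sum (f := fun χ => m χ ^ 2) (fun _ _ => Nat.zero_le _)
      (Finset.mem_erase.2 ⟨h2, Finset.mem_erase.2 ⟨h1, Finset.mem_univ χ⟩⟩)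
    have h6 : m χ ≤ m χ ^ 2 := Nat.le_self_pow (by norm_num) _
    have h7 : m χ ^ 2 ≤ ∑ x ∈ (Finset.univ.erase t).erase χ₀, m x ^ 2 := h5
    omega
  have := (hA (Cfsg.Lib.Chars.deg (χ₀ : G → ℂ)) (fun χ hχ h1 h2 => by
    by_cases e : (⟨χ, hχ⟩ : Cfsg.IrrCharacter G) = χ₀
    · rw [← e]; exact Cfsg.Lib.Chars.irr_apply_one_eq_deg ⟨χ, hχ⟩
    · exfalso
      apply h2
      rw [Cfsg.Lib.PermGroups.PermModule.mult_eq (G := G) (Ω := Ω) ⟨χ, hχ⟩]
      exact_mod_cast hz ⟨χ, hχ⟩ (fun e' => h1 (congrArg Subtype.val e')) e)).1 χ₀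
  omega

end Cfsg.Agent.S0716
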