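import Cfsg.Statements.S0719
import Cfsg.Agent.PermGroups.Subdegrees

set_option autoImplicit false
open Cfsg
open scoped Pointwise

set_option maxHeartbeats 1600000

namespace Cfsg.Agent.S0719

/-- Groups of Wielandt type: if a primitive group of degree `2m` has rank 3 and permutation character `1 + χ₁ + χ₂` with irreducible `χ₁, χ₂` of degrees `m - 1` and `m`, then `m = 2a² + 2a + 1` for some positive integer `a` and the two non-trivial subdegrees are `a(2a+1)` and `(a+1)(2a+1)`. -/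
theorem result {G : Type*} [Group G] [Fintype G] {Ω : Type*} [Fintype Ω] [MulAction G Ω] (hprim : MulAction.IsPreprimitive G Ω) {m : ℕ} (hm : Fintype.card Ω = 2 * m) (a₀ : Ω) (hrank : Nat.card (MulAction.orbitRel.Quotient (MulAction.stabilizer G a₀) Ω) = 3) (χ₁ χ₂ : G → ℂ) (h₁ : Cfsg.IsIrrCharacter G χ₁) (h₂ : Cfsg.IsIrrCharacter G χ₂) (hπ : (fun g : G => (Nat.card (MulAction.fixedBy Ω g) : ℂ)) = fun g => 1 + χ₁ g + χ₂ g) (hd₁ : χ₁ 1 = (m : ℂ) - 1) (hd₂ : χ₂ 1 = m) : ∃ a : ℕ, 0 < a ∧ m = 2 * a ^ 2 + 2 * a + 1 ∧ ∀ b : Ω, b ≠ a₀ → Nat.card (MulAction.orbit (MulAction.stabilizer G a₀) b) = a * (2 * a + 1) ∨ Nat.card (MulAction.orbit (MulAction.stabilizer G a₀) b) = (a + 1) * (2 * a + 1) := by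
  classical
  let ρ := Cfsg.permRep ℂ G Ω
  let T := fun χ : Cfsg.IrrCharacter G => Cfsg.Lib.PermGroups.Constituents.op ρ (fun g => (starRingEnd ℂ) ((χ : G → ℂ) g))
  let X₀ := Cfsg.Lib.PermGroups.Subdegrees.triv G
  let X₁ : Cfsg.IrrCharacter G := ⟨χ₁, h₁⟩
  let X₂ : Cfsg.IrrCharacter G := ⟨χ₂, h₂⟩
  have : MulAction.IsPretransitive G Ω := hprim.toIsPretransitive
  have hm2 : 2 ≤ m := by
    have h1 : m ≠ 1 := fun e => Cfsg.Lib.Chars.IsIrrCharacter.apply_one_ne_zero h₁ (by rw [hd₁, e]; simp)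
    have h0 : m ≠ 0 := fun e => Cfsg.Lib.Chars.IsIrrCharacter.apply_one_ne_zero h₂ (by rw [hd₂, e]; simp)
    omega
  have hmC : (m : ℂ) ≠ 0 := by exact_mod_cast (by omega : m ≠ 0)
  have h12 : X₁ ≠ X₂ := fun e => by
    have := congrFun (congrArg Subtype.val e) 1
    change χ₁ 1 = χ₂ 1 at this
    rw [hd₁, hd₂] at this
    exact one_ne_zero (by linear_combination -this : (1 : ℂ) = 0)
  have hG0 : (Nat.card G : ℂ) ≠ 0 := by exact_mod_cast Nat.card_pos.ne'
  -- multiplicities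
  have hmult : ∀ χ, (Cfsg.Lib.PermGroups.Constituents.mult ρ χ : ℂ) =
      (if X₀ = χ then 1 else 0) + (if X₁ = χ then 1 else 0) + (if X₂ = χ then 1 else 0) := fun χ => by
    rw [← Cfsg.Lib.PermGroups.PermModule.mult_eq]
    show Cfsg.classInner (fun g : G => (Nat.card (MulAction.fixedBy Ω g) : ℂ)) χ = _
    rw [hπ, show (fun g => 1 + χ₁ g + χ₂ g) = (X₀ : G → ℂ) + (X₁ : G → ℂ) + (X₂ : G → ℂ) from rfl,
      Cfsg.Lib.Chars.classInner_add_left, Cfsg.Lib.Chars.classInner_add_left,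
      Cfsg.Lib.Chars.classInner_irrCharacter, Cfsg.Lib.Chars.classInner_irrCharacter, Cfsg.Lib.Chars.classInner_irrCharacter]
  have hrankc : Cfsg.Lib.PermGroups.Constituents.mult ρ X₀ = 1 := by
    by_contra hne
    have h := hmult X₀
    rw [if_pos rfl] at h
    have h01 : X₁ = X₀ ∨ X₂ = X₀ := by
      by_contra! hc
      rw [if_neg hc.1, if_neg hc.2, add_zero, add_zero] at h
      exact hne (by exact_mod_cast h)
    -- the trivial character occurs once, as the action is transitive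
    have h1 := Cfsg.Lib.PermGroups.Subdegrees.mult_triv ρ
    rw [show Module.finrank ℂ ρ.invariants = 1 from finrank_eq_one (⟨fun _ => 1, fun g => funext fun _ => rfl⟩ : ρ.invariants)
      (fun e => one_ne_zero (congrFun (congrArg Subtype.val e) a₀)) fun w => ⟨w.1 a₀, Subtype.ext (funext fun x => by
        obtain ⟨g, rfl⟩ := MulAction.exists_smul_eq G a₀ x
        have h := congrFun (w.2 g) (g • a₀)
        change w.1 (g⁻¹ • g • a₀) = _ at h
        rw [inv_smul_smul] at h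
        show w.1 a₀ * 1 = w.1 (g • a₀)
        rw [mul_one, h])⟩] at h1
    exact hne h1
  have h01 : X₁ ≠ X₀ := fun e => by
    have h := hmult X₀
    rw [hrankc, if_pos rfl, if_pos e, if_neg (fun e' => h12 (e.trans e'.symm))] at h
    norm_num at h
  have h02 : X₂ ≠ X₀ := fun e => by
    have h := hmult X₀
    rw [hrankc, if_pos rfl, if_neg h01, if_pos e] at h
    norm_num at h
  have hm1' : Cfsg.Lib.PermGroups.Constituents.mult ρ X₁ = 1 := by
    have h := hmult X₁
    rw [if_neg h01.symm, if_pos rfl, if_neg h12.symm, zero_add, add_zero] at h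
    exact_mod_cast h
  have hm2' : Cfsg.Lib.PermGroups.Constituents.mult ρ X₂ = 1 := by
    have h := hmult X₂
    rw [if_neg h02.symm, if_neg h12, if_pos rfl, zero_add, zero_add] at h
    exact_mod_cast h
  have hother : ∀ χ, χ ≠ X₀ → χ ≠ X₁ → χ ≠ X₂ → Cfsg.Lib.PermGroups.Constituents.mult ρ χ = 0 := fun χ a b c => by
    have h := hmult χ
    rw [if_neg a.symm, if_neg b.symm, if_neg c.symm, add_zero, add_zero] at h
    exact_mod_cast h
  have hle : ∀ χ, Cfsg.Lib.PermGroups.Constituents.mult ρ χ ≤ 1 := fun χ => by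
    by_cases a : χ = X₀
    · rw [a, hrankc]
    by_cases b : χ = X₁
    · rw [b, hm1']
    by_cases c : χ = X₂
    · rw [c, hm2']
    rw [hother χ a b c]; exact zero_le_one
  -- products of the operators
  have hTT : ∀ χ ψ : Cfsg.IrrCharacter G, T χ ∘ₗ T ψ = (if χ = ψ then (Nat.card G : ℂ) / (χ : G → ℂ) 1 else 0) • T χ := by
    intro χ ψ
    have hconv : ∀ x, ∑ g, (starRingEnd ℂ) ((χ : G → ℂ) g) * (starRingEnd ℂ) ((ψ : G → ℂ) (g⁻¹ * x)) =
        (if χ = ψ then (Nat.card G : ℂ) / (χ : G → ℂ) 1 else 0) * (starRingEnd ℂ) ((χ : G → ℂ) x) := by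
      intro x
      obtain ⟨ψ, n, σ, hσ, rfl⟩ := ψ
      have hcl : Cfsg.IsClassFunction G fun g => (starRingEnd ℂ) ((χ : G → ℂ) g) := fun a b =>
        congrArg _ (Cfsg.Lib.Chars.isClassFunction_irr χ a b)
      have h := Cfsg.Lib.Chars.sum_smul_rep_trace σ hcl x
      have hs : ∑ y, (starRingEnd ℂ) ((χ : G → ℂ) y) * σ.character y = (Nat.card G : ℂ) * Cfsg.classInner σ.character χ := by
        rw [Cfsg.Lib.Chars.classInner_def, mul_inv_cancel_left₀ hG0]
        exact Finset.sum_congr rfl fun y _ => mul_comm _ _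
      rw [hs, Cfsg.Lib.Chars.classInner_irrChar ⟨n, σ, hσ, rfl⟩ χ.2] at h
      have hc : ∀ (φ : Cfsg.IrrCharacter G) (y : G), (starRingEnd ℂ) ((φ : G → ℂ) y) = (φ : G → ℂ) y⁻¹ := fun φ y =>
        (Cfsg.Lib.Chars.IsCharacter.conj_inv (Cfsg.Lib.Chars.isCharacter_of_irr φ.2) y).symm
      have h' := congrArg (starRingEnd ℂ) h
      rw [map_sum] at h'
      rw [Fintype.sum_equiv (Equiv.inv G) _ (fun y => (starRingEnd ℂ) ((starRingEnd ℂ) ((χ : G → ℂ) y) * σ.character (y * x)))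
        (fun g => by
          show _ = (starRingEnd ℂ) ((starRingEnd ℂ) ((χ : G → ℂ) g⁻¹) * σ.character (g⁻¹ * x))
          rw [map_mul, Complex.conj_conj, hc χ g])]
      rw [h', Representation.char_one σ |>.symm]
      split
      · next e =>
        rw [if_pos (Subtype.ext e.symm), map_mul, map_div₀, map_mul, map_natCast, map_one, mul_one, show σ.character = (χ : G → ℂ) from e,
          hc χ 1, inv_one]
      · next e => rw [if_neg (fun e' => e (congrArg Subtype.val e').symm)]; simp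
    refine LinearMap.ext fun v => ?_
    simp only [T, Cfsg.Lib.PermGroups.Constituents.op, LinearMap.comp_apply, LinearMap.sum_apply, LinearMap.smul_apply,
      map_sum, map_smul, Finset.smul_sum, smul_smul, ← hconv, Finset.sum_smul]
    rw [Finset.sum_comm]
    conv_rhs => rw [Finset.sum_comm]
    refine Finset.sum_congr rfl fun g _ => ?_
    refine (Fintype.sum_equiv (Equiv.mulLeft g⁻¹) _ _ fun y => ?_).symm
    show _ = ((starRingEnd ℂ) ((ψ : G → ℂ) (g⁻¹ * y)) * (starRingEnd ℂ) ((χ : G → ℂ) g)) • ρ g (ρ (g⁻¹ * y) v)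
    rw [← Module.End.mul_apply, ← map_mul ρ, mul_inv_cancel_left, mul_comm ((starRingEnd ℂ) ((χ : G → ℂ) g))]
  have htrT : ∀ χ, LinearMap.trace ℂ (Ω → ℂ) (T χ) = (Nat.card G : ℂ) * Cfsg.Lib.PermGroups.Constituents.mult ρ χ := fun χ => by
    have h := Cfsg.Lib.PermGroups.Constituents.trace_op ρ χ 1
    rw [map_one, mul_one] at h
    rw [h, div_mul_cancel₀ _ (Cfsg.Lib.Chars.IsIrrCharacter.apply_one_ne_zero χ.2)]
  have hTne : ∀ χ, Cfsg.Lib.PermGroups.Constituents.mult ρ χ = 1 → T χ ≠ 0 := fun χ h e => by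
    have := htrT χ
    rw [e, map_zero, h, Nat.cast_one, mul_one] at this
    exact hG0 this.symm
  set Q := MulAction.orbitRel.Quotient (MulAction.stabilizer G a₀) Ω
  let sub : Ω → ℕ := fun b => Nat.card (MulAction.orbit (MulAction.stabilizer G a₀) b)
  -- two representatives
  obtain ⟨b₁, b₂, hb₁, hb₂, hb12, hcov⟩ : ∃ b b' : Ω, b ≠ a₀ ∧ b' ≠ a₀ ∧ b' ∉ MulAction.orbit (MulAction.stabilizer G a₀) b ∧
      ∀ z, z ≠ a₀ → z ∈ MulAction.orbit (MulAction.stabilizer G a₀) b ∨ z ∈ MulAction.orbit (MulAction.stabilizer G a₀) b' := by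
    let _ : Fintype Q := Fintype.ofFinite Q
    have hc : (Finset.univ.erase (Quotient.mk'' a₀ : Q)).card = 2 := by
      rw [Finset.card_erase_of_mem (Finset.mem_univ _), Finset.card_univ, ← Nat.card_eq_fintype_card, hrank]
    obtain ⟨q, q', hqq, hE⟩ := Finset.card_eq_two.1 hc
    obtain ⟨b, rfl⟩ := Quotient.mk''_surjective q
    obtain ⟨b', rfl⟩ := Quotient.mk''_surjective q'
    have hnb : ∀ z, (Quotient.mk'' z : Q) ∈ Finset.univ.erase (Quotient.mk'' a₀ : Q) → z ≠ a₀ := fun z hz e =>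
      (Finset.mem_erase.1 hz).1 (by rw [e])
    refine ⟨b, b', hnb b (hE ▸ Finset.mem_insert_self _ _), hnb b' (hE ▸ Finset.mem_insert_of_mem (Finset.mem_singleton_self _)),
      fun h => hqq (Quotient.sound' (MulAction.orbitRel_apply.2 h)).symm, fun z hz => ?_⟩
    have hmem : (Quotient.mk'' z : Q) ∈ Finset.univ.erase (Quotient.mk'' a₀ : Q) := Finset.mem_erase.2 ⟨fun e => hz (by
      obtain ⟨g, hg⟩ := MulAction.orbitRel_apply.1 (Quotient.exact' e)
      rw [← hg]; exact g.2), Finset.mem_univ _⟩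
    rw [hE, Finset.mem_insert, Finset.mem_singleton] at hmem
    exact hmem.imp (fun e => MulAction.orbitRel_apply.1 (Quotient.exact' e)) (fun e => MulAction.orbitRel_apply.1 (Quotient.exact' e))
  have horb : ∀ b z : Ω, z ∈ MulAction.orbit (MulAction.stabilizer G a₀) b ↔ ∃ g : G, g • a₀ = a₀ ∧ g • b = z := fun b z =>
    by
    refine ⟨?_, fun ⟨g, h1, h2⟩ => ⟨⟨g, h1⟩, h2⟩⟩
    rintro ⟨g, hg⟩
    exact ⟨g.1, g.2, hg⟩
  have hsum : sub b₁ + sub b₂ + 1 = 2 * m := by
    rw [← hm, show sub b₁ = (Finset.univ.filter fun z => z ∈ MulAction.orbit (MulAction.stabilizer G a₀) b₁).card by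
        show Nat.card _ = _; rw [Nat.card_eq_fintype_card, Fintype.card_subtype],
      show sub b₂ = (Finset.univ.filter fun z => z ∈ MulAction.orbit (MulAction.stabilizer G a₀) b₂).card by
        show Nat.card _ = _; rw [Nat.card_eq_fintype_card, Fintype.card_subtype],
      ← Finset.card_union_of_disjoint (Finset.disjoint_filter.2 fun z _ h1 h2 => hb12 (by
        rw [← MulAction.orbit_eq_iff.2 h1, MulAction.orbit_eq_iff.2 h2]; exact MulAction.mem_orbit_self _)),
      ← Finset.card_univ, ← Finset.card_erase_add_one (Finset.mem_univ a₀)]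
    congr 2
    ext z
    simp only [Finset.mem_union, Finset.mem_filter, Finset.mem_univ, true_and, Finset.mem_erase, and_true]
    refine ⟨?_, hcov z⟩
    rintro (h | h) rfl
    · exact hb₁ (by obtain ⟨g, h1, h2⟩ := (horb _ _).1 h; exact MulAction.injective g (h2.trans h1.symm))
    · exact hb₂ (by obtain ⟨g, h1, h2⟩ := (horb _ _).1 h; exact MulAction.injective g (h2.trans h1.symm))
  suffices key : ∀ b b' : Ω, b ≠ a₀ → b' ≠ a₀ → b' ∉ MulAction.orbit (MulAction.stabilizer G a₀) b →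
      (∀ z, z ≠ a₀ → z ∈ MulAction.orbit (MulAction.stabilizer G a₀) b ∨ z ∈ MulAction.orbit (MulAction.stabilizer G a₀) b') →
      sub b + sub b' + 1 = 2 * m → sub b < m →
      ∃ a : ℕ, 0 < a ∧ m = 2 * a ^ 2 + 2 * a + 1 ∧ sub b = a * (2 * a + 1) by
    obtain ⟨a, ha, hma, hk⟩ : ∃ a : ℕ, 0 < a ∧ m = 2 * a ^ 2 + 2 * a + 1 ∧ (sub b₁ = a * (2 * a + 1) ∨ sub b₂ = a * (2 * a + 1)) := by
      by_cases hlt : sub b₁ < m
      · obtain ⟨a, h1, h2, h3⟩ := key b₁ b₂ hb₁ hb₂ hb12 hcov hsum hlt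
        exact ⟨a, h1, h2, Or.inl h3⟩
      · obtain ⟨a, h1, h2, h3⟩ := key b₂ b₁ hb₂ hb₁ (fun h => hb12 (MulAction.mem_orbit_symm.1 h))
          (fun z hz => (hcov z hz).symm) (by omega) (by omega)
        exact ⟨a, h1, h2, Or.inr h3⟩
    refine ⟨a, ha, hma, fun b hb => ?_⟩
    have hl : (a + 1) * (2 * a + 1) + a * (2 * a + 1) + 1 = 2 * m := by rw [hma]; ring
    rcases hcov b hb with h | h <;> rw [MulAction.orbit_eq_iff.2 h] <;> rcases hk with hk | hk
    · exact Or.inl hk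
    · right; show sub b₁ = _; omega
    · right; show sub b₂ = _; omega
    · exact Or.inl hk
  intro b b' hb hb' hbb hcv hsm hlt
  set k := sub b
  set A := Cfsg.Lib.PermGroups.PermModule.orbital G a₀ b
  have hAe : ∀ c d, Cfsg.Lib.PermGroups.PermModule.entry A c d = if ∃ g : G, g • a₀ = c ∧ g • b = d then 1 else 0 :=
    fun c d => Cfsg.Lib.PermGroups.PermModule.entry_orbital a₀ b c d
  have hcomm : ∀ g v, A (ρ g v) = ρ g (A v) := Cfsg.Lib.PermGroups.PermModule.orbital_comm a₀ b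
  let R : Ω → Ω → Prop := fun c d => ∃ g : G, g • a₀ = c ∧ g • b = d
  have hRs : ∀ (g : G) c d, R (g • c) (g • d) ↔ R c d := by
    intro g c d
    constructor
    · rintro ⟨h, h1, h2⟩; exact ⟨g⁻¹ * h, by rw [mul_smul, h1, inv_smul_smul], by rw [mul_smul, h2, inv_smul_smul]⟩
    · rintro ⟨h, h1, h2⟩; exact ⟨g * h, by rw [mul_smul, h1], by rw [mul_smul, h2]⟩
  have hR0 : ∀ z, R a₀ z ↔ z ∈ MulAction.orbit (MulAction.stabilizer G a₀) b := fun z => (horb b z).symm
  have hrow : ∀ c, (Finset.univ.filter fun d => R c d).card = k := fun c => by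
    obtain ⟨g, rfl⟩ := MulAction.exists_smul_eq G a₀ c
    show _ = Nat.card _
    rw [Nat.card_eq_fintype_card, Fintype.card_subtype]
    refine (Finset.card_equiv (MulAction.toPerm g) fun z => ?_).symm
    simp only [Finset.mem_filter, Finset.mem_univ, true_and, MulAction.toPerm_apply, hRs, hR0]
  have hdiag : ∀ c, ¬ R c c := fun c ⟨g, h1, h2⟩ => hb (MulAction.injective g (h2.trans h1.symm))
  have hkey2 : ∀ (P : Ω → Prop), (∀ g z, g • a₀ = a₀ → (P (g • z) ↔ P z)) → ¬ P b → ∀ z, P z → z ≠ a₀ →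
      z ∈ MulAction.orbit (MulAction.stabilizer G a₀) b' := fun P hP hPb z hz hza => by
    refine (hcv z hza).resolve_left fun h => hPb ?_
    obtain ⟨g, h1, rfl⟩ := (horb b z).1 h
    exact (hP g b h1).1 hz
  have hsymm : R b a₀ := by
    by_contra hns
    -- the two suborbits are paired, hence of one size
    have hbne : ∀ z, R z a₀ → z ≠ a₀ := fun z hz e => hdiag a₀ (e ▸ hz)
    have hset : ∀ z, R z a₀ → z ∈ MulAction.orbit (MulAction.stabilizer G a₀) b' := fun z hz =>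
      hkey2 (fun z => R z a₀) (fun g z hg => by show R (g • z) a₀ ↔ _; conv_lhs => rw [← hg]; rw [hRs]) hns z hz (hbne z hz)
    have hset' : ∀ z, z ∈ MulAction.orbit (MulAction.stabilizer G a₀) b' → R z a₀ := fun z hz => by
      obtain ⟨g₀, hg₀⟩ : ∃ g : G, g • b = a₀ := MulAction.exists_smul_eq G b a₀
      have h0 : R (g₀ • a₀) a₀ := ⟨g₀, rfl, hg₀⟩
      obtain ⟨g, h1, h2⟩ := (horb _ _).1 (MulAction.orbit_eq_iff.2 (hset _ h0) ▸ hz :
        z ∈ MulAction.orbit (MulAction.stabilizer G a₀) (g₀ • a₀))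
      rw [← h2]
      conv => arg 2; rw [← h1]
      exact (hRs g _ _).2 h0
    have hcol : ∀ c, (Finset.univ.filter fun d => R d c).card = sub b' := fun c => by
      obtain ⟨g, rfl⟩ := MulAction.exists_smul_eq G a₀ c
      show _ = Nat.card _
      rw [Nat.card_eq_fintype_card, Fintype.card_subtype]
      refine (Finset.card_equiv (MulAction.toPerm g) fun z => ?_).symm
      simp only [Finset.mem_filter, Finset.mem_univ, true_and, MulAction.toPerm_apply, hRs]
      exact ⟨hset' z, hset z⟩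
    have h1 : ∑ c, (Finset.univ.filter fun d => R c d).card = ∑ d, (Finset.univ.filter fun c => R c d).card := by
      simp only [Finset.card_filter]; exact Finset.sum_comm
    rw [Finset.sum_congr rfl fun c _ => hrow c, Finset.sum_congr rfl fun c _ => hcol c, Finset.sum_const, Finset.sum_const,
      Finset.card_univ, smul_eq_mul, smul_eq_mul] at h1
    have := Nat.eq_of_mul_eq_mul_left (by omega : 0 < Fintype.card Ω) h1
    omega
  have hRsym : ∀ c d, R c d → R d c := by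
    rintro _ _ ⟨g, rfl, rfl⟩
    exact (hRs g b a₀).2 hsymm
  -- the square of `A`
  let cnt : Ω → Ω → ℕ := fun c d => (Finset.univ.filter fun e => R c e ∧ R e d).card
  have hAA : ∀ c d, Cfsg.Lib.PermGroups.PermModule.entry (A ∘ₗ A) c d = (cnt c d : ℂ) := fun c d => by
    rw [Cfsg.Lib.PermGroups.PermModule.entry_comp]
    simp only [hAe, ite_mul, one_mul, zero_mul]
    show _ = ((Finset.univ.filter fun e => R c e ∧ R e d).card : ℂ)
    rw [← Finset.sum_boole]
    refine Finset.sum_congr rfl fun e _ => ?_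
    by_cases h : R c e
    · by_cases h' : R e d
      · rw [if_pos (show ∃ g : G, g • a₀ = c ∧ g • b = e from h), if_pos (show ∃ g : G, g • a₀ = e ∧ g • b = d from h'), if_pos ⟨h, h'⟩]
      · rw [if_pos (show ∃ g : G, g • a₀ = c ∧ g • b = e from h), if_neg (show ¬ ∃ g : G, g • a₀ = e ∧ g • b = d from h'), if_neg (fun x => h' x.2)]
    · rw [if_neg (show ¬ ∃ g : G, g • a₀ = c ∧ g • b = e from h), if_neg (fun x => h x.1)]
  have hcnts : ∀ (g : G) c d, cnt (g • c) (g • d) = cnt c d := fun g c d =>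
    (Finset.card_equiv (MulAction.toPerm g) fun e => by simp [hRs]).symm
  have hcdiag : ∀ c, cnt c c = k := fun c => by
    rw [← hrow c]
    exact congrArg Finset.card (Finset.filter_congr fun e _ => ⟨fun h => h.1, fun h => ⟨h, hRsym _ _ h⟩⟩)
  obtain ⟨C, hC0, hC⟩ : ∃ C : ℂ, C ≠ 0 ∧ ∀ c d, Cfsg.Lib.PermGroups.PermModule.entry (T X₀) c d = C := by
    refine ⟨((Finset.univ.filter fun g : G => g • a₀ = a₀).card : ℂ), ?_, fun c d => ?_⟩
    · exact_mod_cast (Finset.card_pos.2 ⟨1, by simp⟩).ne'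
    rw [Cfsg.Lib.PermGroups.PermModule.entry_op]
    show (∑ g : G, if g • d = c then (starRingEnd ℂ) 1 else 0) = _
    rw [map_one, Finset.sum_boole]
    obtain ⟨u, hu⟩ := MulAction.exists_smul_eq G a₀ c
    obtain ⟨v, hv⟩ := MulAction.exists_smul_eq G a₀ d
    congr 1
    refine Finset.card_equiv ((Equiv.mulLeft u⁻¹).trans (Equiv.mulRight v)) fun g => ?_
    simp only [Finset.mem_filter, Finset.mem_univ, true_and, Equiv.trans_apply, Equiv.coe_mulLeft, Equiv.coe_mulRight]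
    rw [mul_smul, mul_smul, hv, inv_smul_eq_iff, hu]
  have hrel : A ∘ₗ A = ((k : ℂ) - (cnt a₀ b' : ℂ)) • LinearMap.id + ((cnt a₀ b : ℂ) - (cnt a₀ b' : ℂ)) • A +
      ((cnt a₀ b' : ℂ) / C) • T X₀ := by
    refine Cfsg.Lib.PermGroups.PermModule.ext_entry fun c d => ?_
    rw [hAA]
    show _ = ((k : ℂ) - _) * ((Pi.single d (1 : ℂ) : Ω → ℂ) c) + (_ - _) * Cfsg.Lib.PermGroups.PermModule.entry A c d +
      _ * Cfsg.Lib.PermGroups.PermModule.entry (T X₀) c d
    rw [hC, div_mul_cancel₀ _ hC0, hAe, Pi.single_apply]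
    obtain ⟨u, rfl⟩ := MulAction.exists_smul_eq G a₀ c
    obtain ⟨z, rfl⟩ := MulAction.surjective u d
    by_cases hz : z = a₀
    · rw [hz, hcdiag, if_pos rfl, if_neg (hdiag _)]
      ring
    rw [hcnts, if_neg (fun e => hz (MulAction.injective u e).symm)]
    by_cases hzb : R a₀ z
    · obtain ⟨g, h1, h2⟩ := hzb
      rw [if_pos ((hRs u a₀ z).2 ⟨g, h1, h2⟩), show cnt a₀ z = cnt a₀ b from by conv_lhs => rw [← h1, ← h2, hcnts]]
      ring
    · rw [if_neg (fun h => hzb ((hRs u a₀ z).1 h))]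
      obtain ⟨g, h1, h2⟩ := (horb b' z).1 ((hcv z hz).resolve_left fun h => hzb ((hR0 z).2 h))
      rw [show cnt a₀ z = cnt a₀ b' from by conv_lhs => rw [← h1, ← h2, hcnts]]
      ring
  -- decomposition of `A`
  obtain ⟨c₀, c₁, c₂, hAdec⟩ : ∃ c₀ c₁ c₂ : ℂ, A = c₀ • T X₀ + c₁ • T X₁ + c₂ • T X₂ := by
    have hsp := Cfsg.Lib.PermGroups.Constituents.mem_span_op ρ hle
      ((Cfsg.Lib.PermGroups.Constituents.mem_invariants_iff ρ ρ A).2 hcomm)
    have hsub : Submodule.span ℂ (Set.range fun χ : {χ : Cfsg.IrrCharacter G // Cfsg.Lib.PermGroups.Constituents.mult ρ χ ≠ 0} =>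
        T χ.1) ≤ Submodule.span ℂ {T X₀, T X₁, T X₂} := by
      refine Submodule.span_le.2 ?_
      rintro _ ⟨χ, rfl⟩
      refine Submodule.subset_span ?_
      by_cases a : χ.1 = X₀
      · left; exact congrArg T a
      by_cases b : χ.1 = X₁
      · right; left; exact congrArg T b
      by_cases c : χ.1 = X₂
      · right; right; exact congrArg T c
      exact absurd (hother χ.1 a b c) χ.2
    obtain ⟨c₀, c₁, c₂, h⟩ := Submodule.mem_span_triple.1 (hsub hsp)
    exact ⟨c₀, c₁, c₂, h.symm⟩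
  have hX01 : (X₀ : G → ℂ) 1 = 1 := rfl
  set r := c₁ * (Nat.card G : ℂ) / χ₁ 1 with hr
  set s := c₂ * (Nat.card G : ℂ) / χ₂ 1 with hs
  have hA0 : A ∘ₗ T X₀ = (c₀ * (Nat.card G : ℂ)) • T X₀ := by
    rw [hAdec, LinearMap.add_comp, LinearMap.add_comp, LinearMap.smul_comp, LinearMap.smul_comp, LinearMap.smul_comp,
      hTT, hTT, hTT, if_pos rfl, if_neg h01, if_neg h02, hX01, div_one]
    simp [smul_smul]
  have hA1 : A ∘ₗ T X₁ = r • T X₁ := by
    rw [hAdec, LinearMap.add_comp, LinearMap.add_comp, LinearMap.smul_comp, LinearMap.smul_comp, LinearMap.smul_comp,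
      hTT, hTT, hTT, if_neg h01.symm, if_pos rfl, if_neg h12.symm]
    simp [smul_smul, hr, X₁, mul_div_assoc]
  have hA2 : A ∘ₗ T X₂ = s • T X₂ := by
    rw [hAdec, LinearMap.add_comp, LinearMap.add_comp, LinearMap.smul_comp, LinearMap.smul_comp, LinearMap.smul_comp,
      hTT, hTT, hTT, if_neg h02.symm, if_neg h12, if_pos rfl]
    simp [smul_smul, hs, X₂, mul_div_assoc]
  have hk0 : c₀ * (Nat.card G : ℂ) = k := by
    have h := congrArg (fun S => Cfsg.Lib.PermGroups.PermModule.entry S a₀ a₀) hA0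
    simp only [Cfsg.Lib.PermGroups.PermModule.entry_comp, hC, hAe, ← Finset.sum_mul, Finset.sum_boole] at h
    have h2 : Cfsg.Lib.PermGroups.PermModule.entry ((c₀ * (Nat.card G : ℂ)) • T X₀) a₀ a₀ = c₀ * (Nat.card G : ℂ) * C := by
      show _ * Cfsg.Lib.PermGroups.PermModule.entry (T X₀) a₀ a₀ = _
      rw [hC]
    rw [h2] at h
    rw [← mul_right_cancel₀ hC0 h, ← hrow a₀]
  have hr1 : ((m : ℂ) - 1) * r = c₁ * (Nat.card G : ℂ) := by
    rw [hr, ← hd₁, mul_div_cancel₀ _ (Cfsg.Lib.Chars.IsIrrCharacter.apply_one_ne_zero h₁)]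
  have hs1 : (m : ℂ) * s = c₂ * (Nat.card G : ℂ) := by
    rw [hs, ← hd₂, mul_div_cancel₀ _ (Cfsg.Lib.Chars.IsIrrCharacter.apply_one_ne_zero h₂)]
  have htrace : ∀ S : (Ω → ℂ) →ₗ[ℂ] (Ω → ℂ), LinearMap.trace ℂ (Ω → ℂ) S = ∑ c, Cfsg.Lib.PermGroups.PermModule.entry S c c := fun S => by
    rw [LinearMap.trace_eq_matrix_trace ℂ (Pi.basisFun ℂ Ω)]
    refine Finset.sum_congr rfl fun c _ => ?_
    rw [Matrix.diag_apply, LinearMap.toMatrix_apply, Pi.basisFun_apply, Pi.basisFun_repr]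
    rfl
  have e1 : (k : ℂ) + ((m : ℂ) - 1) * r + (m : ℂ) * s = 0 := by
    have h := htrace A
    rw [Finset.sum_eq_zero (fun c _ => by rw [hAe, if_neg (hdiag c)])] at h
    conv_lhs at h => rw [hAdec]
    rw [map_add, map_add, map_smul, map_smul, map_smul, htrT, htrT, htrT, hrankc, hm1', hm2'] at h
    simp only [Nat.cast_one, mul_one, smul_eq_mul] at h
    rw [hk0, ← hr1, ← hs1] at h
    exact h
  have e2 : (k : ℂ) ^ 2 + ((m : ℂ) - 1) * r ^ 2 + (m : ℂ) * s ^ 2 = 2 * m * k := by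
    have h : LinearMap.trace ℂ (Ω → ℂ) (A ∘ₗ A) = ∑ c, (cnt c c : ℂ) := by
      rw [htrace]; exact Finset.sum_congr rfl fun c _ => hAA c c
    rw [show A ∘ₗ A = c₀ • (A ∘ₗ T X₀) + c₁ • (A ∘ₗ T X₁) + c₂ • (A ∘ₗ T X₂) from by
      conv_lhs => arg 2; rw [hAdec]
      simp only [LinearMap.comp_add, LinearMap.comp_smul], hA0, hA1, hA2] at h
    simp only [map_add, map_smul, htrT, hrankc, hm1', hm2', Nat.cast_one, mul_one, smul_eq_mul, hcdiag, Finset.sum_const,
      Finset.card_univ, hm, nsmul_eq_mul, Nat.cast_mul, Nat.cast_ofNat] at h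
    linear_combination h - (c₀ * (Nat.card G : ℂ) + k) * hk0 + r * hr1 + s * hs1
  -- eigenvalue equations
  have heig : ∀ (t : ℂ) (χ : Cfsg.IrrCharacter G), χ ≠ X₀ → T χ ≠ 0 → A ∘ₗ T χ = t • T χ →
      t ^ 2 = ((k : ℂ) - (cnt a₀ b' : ℂ)) + ((cnt a₀ b : ℂ) - (cnt a₀ b' : ℂ)) * t ∧ ‖t‖ ≤ k := by
    intro t χ hne hT0 hA
    have hzero : T X₀ ∘ₗ T χ = 0 := by rw [hTT, if_neg (fun e => hne e.symm), zero_smul]
    obtain ⟨w, hw⟩ : ∃ w, T χ w ≠ 0 := by
      by_contra! h; exact hT0 (LinearMap.ext h)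
    set v := T χ w
    have hv : A v = t • v := LinearMap.congr_fun hA w
    have hv0 : T X₀ v = 0 := LinearMap.congr_fun hzero w
    have h := LinearMap.congr_fun hrel v
    simp only [LinearMap.comp_apply, LinearMap.add_apply, LinearMap.smul_apply, LinearMap.id_apply, hv, map_smul, hv0,
      smul_zero, add_zero, smul_smul] at h
    obtain ⟨z, hz⟩ := Function.ne_iff.1 hw
    refine ⟨mul_right_cancel₀ hz ?_, ?_⟩
    · have h' := congrFun h z
      simp only [Pi.add_apply, Pi.smul_apply, smul_eq_mul] at h'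
      show t ^ 2 * v z = _
      rw [sq, h']; ring
    obtain ⟨c, -, hc⟩ := Finset.exists_max_image (Finset.univ : Finset Ω) (fun c => ‖v c‖) ⟨z, Finset.mem_univ z⟩
    have hpos : 0 < ‖v c‖ := lt_of_lt_of_le (norm_pos_iff.2 hz) (hc z (Finset.mem_univ z))
    refine le_of_mul_le_mul_right ?_ hpos
    have h' : A v c = t * v c := congrFun hv c
    rw [← norm_mul, ← h', Cfsg.Lib.PermGroups.PermModule.apply_eq_sum A v c]
    calc ‖∑ d, Cfsg.Lib.PermGroups.PermModule.entry A c d * v d‖ ≤ ∑ d, ‖Cfsg.Lib.PermGroups.PermModule.entry A c d * v d‖ := norm_sum_le _ _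
      _ ≤ ∑ d, (if R c d then ‖v c‖ else 0) := Finset.sum_le_sum fun d _ => by
        rw [hAe]
        by_cases h : R c d
        · rw [if_pos h, if_pos h, one_mul]; exact hc d (Finset.mem_univ d)
        · rw [if_neg h, if_neg h, zero_mul, norm_zero]
      _ = k * ‖v c‖ := by rw [← Finset.sum_filter, Finset.sum_const, hrow, nsmul_eq_mul]
  obtain ⟨q1, hrb⟩ := heig r X₁ h01 (hTne _ hm1') hA1
  obtain ⟨q2, -⟩ := heig s X₂ h02 (hTne _ hm2') hA2
  have hk1 : 0 < k := by
    rw [← hrow a₀]; exact Finset.card_pos.2 ⟨b, Finset.mem_filter.2 ⟨Finset.mem_univ _, 1, one_smul _ _, one_smul _ _⟩⟩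
  have hsne : r ≠ s := fun e => by
    -- constant off the diagonal: impossible
    have h1 : (k : ℂ) + (2 * (m : ℂ) - 1) * r = 0 := by linear_combination e1 + (m : ℂ) * e
    have h2 : (k : ℂ) ^ 2 + (2 * (m : ℂ) - 1) * r ^ 2 = 2 * m * k := by linear_combination e2 + (m : ℂ) * (r + s) * e
    have h3 : (2 * (m : ℂ)) * k * ((k : ℂ) - (2 * m - 1)) = 0 := by
      linear_combination (2 * (m : ℂ) - 1) * h2 - ((2 * (m : ℂ) - 1) * r - k) * h1
    rcases mul_eq_zero.1 h3 with h4 | h4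
    · rcases mul_eq_zero.1 h4 with h5 | h5
      · exact hmC ((mul_eq_zero.1 h5).resolve_left two_ne_zero)
      · exact absurd h5 (by exact_mod_cast hk1.ne')
    · have h6 : ((k + 1 : ℕ) : ℂ) = ((2 * m : ℕ) : ℂ) := by push_cast; linear_combination h4
      have : k + 1 = 2 * m := by exact_mod_cast h6
      omega
  have ht : r + s = ((cnt a₀ b : ℂ) - (cnt a₀ b' : ℂ)) := mul_left_cancel₀ (sub_ne_zero.2 hsne) (by linear_combination q1 - q2)
  set T' : ℤ := (cnt a₀ b : ℤ) - (cnt a₀ b' : ℤ)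
  set R' : ℤ := (k : ℤ) + m * T'
  have hrR : r = (R' : ℂ) := by
    simp only [R', T']; push_cast
    linear_combination -e1 + (m : ℂ) * ht
  have hsS : s = ((T' - R' : ℤ) : ℂ) := by
    push_cast; rw [← hrR]; simp only [T']; push_cast
    linear_combination ht
  have hRb : |R'| ≤ k := by
    rw [hrR, Complex.norm_intCast] at hrb
    exact_mod_cast hrb
  have hE : (k : ℤ) ^ 2 + ((m : ℤ) - 1) * R' ^ 2 + m * (T' - R') ^ 2 = 2 * m * k := by
    have h := e2
    rw [hrR, hsS] at h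
    exact_mod_cast h
  obtain ⟨hlo, hhi⟩ := abs_le.1 hRb
  have hmZ : (k : ℤ) < m := by exact_mod_cast hlt
  have hT : T' = 0 ∨ T' = -1 := by
    have h1 : -2 < T' := by nlinarith
    have h2 : T' < 1 := by nlinarith
    omega
  rcases hT with hT | hT
  · exfalso
    have hR' : R' = k := by simp [R', hT]
    rw [hR', hT] at hE
    have hk' : k = 1 := by
      have h3 : (k : ℤ) * k = 1 * k := by nlinarith
      have h4 := Nat.eq_of_mul_eq_mul_right hk1 (by exact_mod_cast h3 : k * k = 1 * k)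
      omega
    -- a subdegree one gives a block `{a₀, b}`
    have hfix : ∀ g : G, g • a₀ = a₀ → g • b = b := fun g hg => by
      have h1 : (Finset.univ.filter fun d => R a₀ d).card ≤ 1 := by rw [hrow, hk']
      exact Finset.card_le_one.1 h1 _ (Finset.mem_filter.2 ⟨Finset.mem_univ _, g, hg, rfl⟩) _
        (Finset.mem_filter.2 ⟨Finset.mem_univ _, 1, one_smul _ _, one_smul _ _⟩)
    obtain ⟨u, hu1, hu2⟩ := hsymm
    have huu : ∀ g : G, g • b = b → g • a₀ = a₀ := fun g hg => by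
      have := hfix (u⁻¹ * g * u) (by rw [mul_smul, mul_smul, hu1, hg, inv_smul_eq_iff, hu1])
      rw [mul_smul, mul_smul, hu2, inv_smul_eq_iff, hu2] at this
      exact this
    have hblock : MulAction.IsBlock G ({a₀, b} : Set Ω) := by
      rw [MulAction.isBlock_iff_smul_eq_smul_of_nonempty]
      have key : ∀ g : G, (g • a₀ ∈ ({a₀, b} : Set Ω) ∨ g • b ∈ ({a₀, b} : Set Ω)) → g • ({a₀, b} : Set Ω) = {a₀, b} := fun g hg => by
        have hpair : g • ({a₀, b} : Set Ω) = {g • a₀, g • b} := by rw [Set.smul_set_insert, Set.smul_set_singleton]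
        rw [hpair]
        have h1 : g • a₀ = b → g • b = a₀ := fun e => by
          have := huu (g * u) (by rw [mul_smul, hu2, e])
          rwa [mul_smul, hu1] at this
        have h2 : g • b = a₀ → g • a₀ = b := fun e => by
          have := hfix (g * u) (by rw [mul_smul, hu1, e])
          rwa [mul_smul, hu2] at this
        simp only [Set.mem_insert_iff, Set.mem_singleton_iff] at hg
        rcases hg with (e | e) | (e | e)
        · rw [e, hfix g e]
        · rw [e, h1 e, Set.pair_comm]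
        · rw [e, h2 e, Set.pair_comm]
        · rw [e, huu g e]
      intro g₁ g₂ hne
      obtain ⟨z, hz1, hz2⟩ := hne
      obtain ⟨y, hy, rfl⟩ := hz2
      have h3 : (g₁⁻¹ * g₂) • y ∈ ({a₀, b} : Set Ω) := by
        rw [mul_smul]; exact Set.mem_smul_set_iff_inv_smul_mem.1 hz1
      have h4 := key (g₁⁻¹ * g₂) (by rcases hy with rfl | rfl; exacts [Or.inl h3, Or.inr h3])
      calc g₁ • ({a₀, b} : Set Ω) = g₁ • (g₁⁻¹ * g₂) • ({a₀, b} : Set Ω) := by rw [h4]
        _ = g₂ • ({a₀, b} : Set Ω) := by rw [mul_smul, smul_inv_smul]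
    rcases hprim.isTrivialBlock_of_isBlock hblock with h | h
    · exact hb (h (Set.mem_insert_of_mem _ rfl) (Set.mem_insert _ _))
    · rcases (h.symm ▸ Set.mem_univ b' : b' ∈ ({a₀, b} : Set Ω)) with e | e
      · exact hb' e
      · exact hbb (e ▸ MulAction.mem_orbit_self _)
  · have hR' : R' = (k : ℤ) - m := by simp [R', hT]; ring
    rw [hR', hT] at hE
    set u : ℤ := (m : ℤ) - k
    have hku : (k : ℤ) = m - u := by simp [u]
    rw [hku] at hE
    have h9 : (m : ℤ) * (m - (2 * u ^ 2 - 2 * u + 1)) = 0 := by linear_combination -hE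
    have hmu : (m : ℤ) = 2 * u ^ 2 - 2 * u + 1 := sub_eq_zero.1 ((mul_eq_zero.1 h9).resolve_left (by omega))
    have hu1 : 2 ≤ u := by
      by_contra h
      have : u = 1 := by simp only [u] at h ⊢; omega
      rw [this] at hmu
      norm_num at hmu
      omega
    obtain ⟨a, ha⟩ : ∃ a : ℕ, u = (a : ℤ) + 1 := ⟨(u - 1).toNat, by omega⟩
    rw [ha] at hmu hku
    refine ⟨a, by omega, by zify; linear_combination hmu, ?_⟩
    zify
    linear_combination hku + hmu

end Cfsg.Agent.S0719
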