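import Cfsg.Statements.S0720
import Cfsg.Agent.PermGroups.TwicePrime.Main
-- import your own Cfsg.Agent.* helpers here

set_option autoImplicit false
open Cfsg

namespace Cfsg.Agent.S0720

/-- Wielandt's Theorem on primitive groups of degree `2p`: such a group is doubly transitive, or it has rank 3, `p = 2a² + 2a + 1`, and subdegrees `a(2a+1)` and `(a+1)(2a+1)`. -/
theorem result {α : Type*} [Fintype α] [DecidableEq α] {p : ℕ} (hp : p.Prime) (hα : Fintype.card α = 2 * p) (G : Subgroup (Equiv.Perm α)) (hG : MulAction.IsPreprimitive G α) (a₀ : α) : MulAction.IsMultiplyPretransitive G α 2 ∨ (Nat.card (MulAction.orbitRel.Quotient (MulAction.stabilizer G a₀) α) = 3 ∧ ∃ a : ℕ, 0 < a ∧ p = 2 * a ^ 2 + 2 * a + 1 ∧ ∀ b : α, b ≠ a₀ → Nat.card (MulAction.orbit (MulAction.stabilizer G a₀) b) = a * (2 * a + 1) ∨ Nat.card (MulAction.orbit (MulAction.stabilizer G a₀) b) = (a + 1) * (2 * a + 1)) := by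
  classical
  haveI := Fact.mk hp
  haveI : Fintype G := Fintype.ofFinite G
  haveI : MulAction.IsPretransitive G α := hG.toIsPretransitive
  have hdvd : p ∣ Nat.card G := by
    refine dvd_trans ?_ (MulAction.stabilizer G a₀).index_dvd_card
    rw [MulAction.index_stabilizer_of_transitive, Nat.card_eq_fintype_card, hα]
    exact dvd_mul_left p 2
  obtain ⟨⟨x, hxG⟩, hx⟩ := exists_prime_orderOf_dvd_card' p hdvd
  rw [Subgroup.orderOf_mk] at hx
  have hxp : x ^ p = 1 := by rw [← hx]; exact pow_orderOf_eq_one x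
  obtain ⟨m, hm⟩ := Equiv.Perm.cycleType_prime_order (hx.symm ▸ hp)
  rw [hx] at hm
  have hsupp : x.support.card = (m + 1) * p := by
    rw [← Equiv.Perm.sum_cycleType, hm, Multiset.sum_replicate, smul_eq_mul]
  have hle : (m + 1) * p ≤ 2 * p := by rw [← hsupp, ← hα]; exact Finset.card_le_univ _
  have hm1 : m + 1 ≤ 2 := Nat.le_of_mul_le_mul_right hle hp.pos
  rcases Nat.eq_zero_or_pos m with rfl | hm0
  · -- a single cycle: Jordan
    left
    have hcyc : x.IsCycle := by
      rw [← Equiv.Perm.card_cycleType_eq_one, hm]; simp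
    have h2 := hp.two_le
    refine MulAction.IsPreprimitive.is_two_pretransitive hG (s := (x.support : Set α)ᶜ) (n := p - 1) ?_ ?_
      (Equiv.Perm.isPretransitive_of_isCycle_mem hcyc hxG)
    · have := Set.ncard_add_ncard_compl (x.support : Set α)
      rw [Set.ncard_coe_finset, hsupp, Nat.card_eq_fintype_card, hα] at this
      omega
    · rw [Nat.card_eq_fintype_card, hα]; omega
  · -- two cycles
    have hfix : ∀ u, x u ≠ u := fun u h => by
      have hall : x.support = Finset.univ := Finset.eq_univ_of_card _ (by rw [hsupp, hα]; congr 1; omega)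
      exact Equiv.Perm.mem_support.1 (hall ▸ Finset.mem_univ u) h
    have hper : ∀ u (n : ℕ), (x ^ n) u = u ↔ p ∣ n := fun u n => by
      constructor
      · intro h
        have h1 : Function.IsPeriodicPt x n u := by
          rw [Function.IsPeriodicPt, Function.IsFixedPt, ← Equiv.Perm.coe_pow]; exact h
        have h2 : Function.IsPeriodicPt x p u := by
          rw [Function.IsPeriodicPt, Function.IsFixedPt, ← Equiv.Perm.coe_pow, hxp]; rfl
        rcases (Nat.dvd_prime hp).1 h2.minimalPeriod_dvd with e | e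
        · exact absurd (Function.minimalPeriod_eq_one_iff_isFixedPt.1 e) (hfix u)
        · exact e ▸ h1.minimalPeriod_dvd
      · rintro ⟨k, rfl⟩
        rw [pow_mul, hxp, one_pow]; rfl
    let f : α → ZMod p → α := fun u a => (x ^ a.val) u
    have hf_add : ∀ u a, x (f u a) = f u (a + 1) := fun u a => by
      show x ((x ^ a.val) u) = (x ^ (a + 1).val) u
      rw [← Equiv.Perm.mul_apply, ← pow_succ', ZMod.val_add, ZMod.val_one, ← pow_mod_orderOf _ (a.val + 1), hx]
    have hinj : ∀ u, Function.Injective (f u) := fun u a b h => by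
      apply ZMod.val_injective p
      wlog hab : a.val ≤ b.val generalizing a b
      · exact (this b a h.symm (Nat.le_of_not_le hab)).symm
      have h' : (x ^ (b.val - a.val)) (f u a) = f u a := by
        show (x ^ (b.val - a.val)) ((x ^ a.val) u) = _
        rw [← Equiv.Perm.mul_apply, ← pow_add, Nat.sub_add_cancel hab]
        exact h.symm
      have h3 := Nat.eq_zero_of_dvd_of_lt ((hper _ _).1 h') (lt_of_le_of_lt (Nat.sub_le _ _) (ZMod.val_lt b))
      omega
    obtain ⟨b, hb⟩ : ∃ b, ∀ a, f a₀ a ≠ b := by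
      by_contra! h
      have := Fintype.card_le_of_surjective (f a₀) h
      rw [ZMod.card, hα] at this
      have := hp.pos
      omega
    let e0 : Fin 2 × ZMod p → α := fun z => f (![a₀, b] z.1) z.2
    have hcross : ∀ a c, f a₀ a ≠ f b c := fun a c h => by
      obtain ⟨k, hk⟩ : ∃ k : ℕ, (x ^ k) (f a₀ a) = b := ⟨p - c.val, by
        rw [h]
        show (x ^ (p - c.val)) ((x ^ c.val) b) = b
        rw [← Equiv.Perm.mul_apply, ← pow_add, Nat.sub_add_cancel (ZMod.val_lt c).le, hxp]; rfl⟩
      refine hb (a + k) ?_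
      rw [← hk]
      show (x ^ (a + k).val) a₀ = (x ^ k) ((x ^ a.val) a₀)
      rw [← Equiv.Perm.mul_apply, ← pow_add, ZMod.val_add, ZMod.val_natCast, Nat.add_mod_mod,
        ← pow_mod_orderOf _ (k + a.val), hx, add_comm k]
    have hbij : Function.Bijective e0 := by
      rw [Fintype.bijective_iff_injective_and_card]
      refine ⟨?_, by rw [Fintype.card_prod, Fintype.card_fin, ZMod.card, hα]⟩
      rintro ⟨i, a⟩ ⟨j, c⟩ h
      fin_cases i <;> fin_cases j <;> simp [e0] at h ⊢
      · exact hinj _ h
      · exact hcross _ _ h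
      · exact hcross _ _ h.symm
      · exact hinj _ h
    let C : Cfsg.Lib.PermGroups.TwicePrime.Cyc G α p :=
      { x := ⟨x, hxG⟩
        e := Equiv.ofBijective e0 hbij
        hx := fun i a => hf_add _ a }
    have ha : C.e (0, 0) = a₀ := by simp [C, e0, f]
    have := C.main hG
    rwa [ha] at this

end Cfsg.Agent.S0720
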