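import Cfsg.Statements.S0724
import Mathlib

set_option autoImplicit false
open Cfsg

namespace Cfsg.Agent.S0724

/-- Blichfeldt's Theorem: if a finite set `L` of natural numbers contains the number of fixed points of every non-identity element of a permutation group `G` of degree `n`, then the order of `G` divides `∏ (n - l)` over `l ∈ L`. -/
theorem result {α : Type*} [Fintype α] [DecidableEq α] (G : Subgroup (Equiv.Perm α)) (L : Finset ℕ) (hL : ∀ g ∈ G, g ≠ 1 → Nat.card (MulAction.fixedBy α g) ∈ L) : Nat.card G ∣ ∏ l ∈ L, (Fintype.card α - l) := by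
  classical
  by_cases hbig : ∃ l ∈ L, Fintype.card α ≤ l
  · obtain ⟨l, hl, hle⟩ := hbig
    rw [Finset.prod_eq_zero hl (Nat.sub_eq_zero_of_le hle)]
    exact dvd_zero _
  push Not at hbig
  let P : Polynomial ℤ := ∏ l ∈ L, (Polynomial.X - Polynomial.C (l : ℤ))
  let θ : G → ℤ := fun g => (Nat.card (MulAction.fixedBy α g) : ℤ)
  have hev : ∀ g : G, P.eval (θ g) = ∏ l ∈ L, (θ g - l) := fun g => by simp [P, Polynomial.eval_prod]
  have hpow : ∀ j : ℕ, (Nat.card G : ℤ) ∣ ∑ g : G, θ g ^ j := fun j => by
    have key : ∀ g : G, Fintype.card (MulAction.fixedBy (Fin j → α) g) = (Nat.card (MulAction.fixedBy α g)) ^ j := fun g => by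
      rw [← Nat.card_eq_fintype_card]
      rw [show (Nat.card (MulAction.fixedBy α g)) ^ j = Nat.card (Fin j → MulAction.fixedBy α g) by rw [Nat.card_fun, Nat.card_fin]]
      exact Nat.card_congr
        { toFun := fun f i => ⟨f.1 i, congrFun f.2 i⟩
          invFun := fun f => ⟨fun i => (f i).1, funext fun i => (f i).2⟩
          left_inv := fun _ => rfl
          right_inv := fun _ => rfl }
    have h := MulAction.sum_card_fixedBy_eq_card_orbits_mul_card_group G (Fin j → α)
    simp only [key] at h
    refine ⟨(Fintype.card (Quotient (MulAction.orbitRel G (Fin j → α))) : ℤ), ?_⟩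
    rw [Nat.card_eq_fintype_card (α := G), mul_comm]
    simp only [θ]
    exact_mod_cast h
  have hsum : (Nat.card G : ℤ) ∣ ∑ g : G, P.eval (θ g) := by
    simp only [Polynomial.eval_eq_sum_range]
    rw [Finset.sum_comm]
    refine Finset.dvd_sum fun i _ => ?_
    rw [← Finset.mul_sum]
    exact dvd_mul_of_dvd_right (hpow i) _
  rw [Finset.sum_eq_single (1 : G) (fun g _ hg => ?_) (fun h => absurd (Finset.mem_univ _) h)] at hsum
  · rw [hev, show θ 1 = (Fintype.card α : ℤ) by
      simp [θ, Nat.card_coe_set_eq, MulAction.fixedBy, Set.ncard_univ]] at hsum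
    rw [← Int.natCast_dvd_natCast, Nat.cast_prod]
    rw [Finset.prod_congr rfl fun l hl => Nat.cast_sub (hbig l hl).le]
    exact hsum
  · rw [hev]
    have hg1 : (g : Equiv.Perm α) ≠ 1 := fun h => hg (Subtype.ext h)
    exact Finset.prod_eq_zero (hL g g.2 hg1) (sub_eq_zero.2 rfl)

end Cfsg.Agent.S0724
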