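import Cfsg.Statements.S0726

set_option autoImplicit false
open Cfsg

namespace Cfsg.Agent.S0726

/-- The left and right regular permutation representations of a group are each other's centralisers in the symmetric group: the centraliser of the left regular image is the right regular image, and a transitive subgroup centralising the left regular image is the whole right regular image. -/
theorem result {G : Type*} [Group G] : Subgroup.centralizer ((MulAction.toPermHom G G).range : Set (Equiv.Perm G)) = (MulAction.toPermHom Gᵐᵒᵖ G).range ∧ ∀ H : Subgroup (Equiv.Perm G), H ≤ Subgroup.centralizer ((MulAction.toPermHom G G).range : Set (Equiv.Perm G)) → MulAction.IsPretransitive H G → H = (MulAction.toPermHom Gᵐᵒᵖ G).range := by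
  have key : ∀ c ∈ Subgroup.centralizer ((MulAction.toPermHom G G).range : Set (Equiv.Perm G)), ∀ x : G, c x = x * c 1 := by
    intro c hc x
    have h := Equiv.congr_fun (Subgroup.mem_centralizer_iff.1 hc (MulAction.toPermHom G G x) ⟨x, rfl⟩) 1
    simp only [Equiv.Perm.mul_apply, MulAction.toPermHom_apply, MulAction.toPerm_apply, smul_eq_mul, mul_one] at h
    exact h.symm
  have heq : Subgroup.centralizer ((MulAction.toPermHom G G).range : Set (Equiv.Perm G)) = (MulAction.toPermHom Gᵐᵒᵖ G).range := by
    apply le_antisymm
    · intro c hc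
      exact ⟨MulOpposite.op (c 1), Equiv.ext fun x => (key c hc x).symm⟩
    · rintro _ ⟨m, rfl⟩
      refine Subgroup.mem_centralizer_iff.2 ?_
      rintro _ ⟨g, rfl⟩
      ext x
      simp [MulAction.toPermHom_apply, mul_assoc]
  refine ⟨heq, fun H hH htr => le_antisymm (heq ▸ hH) ?_⟩
  rintro _ ⟨m, rfl⟩
  obtain ⟨h, hh⟩ := MulAction.exists_smul_eq H (1 : G) m.unop
  have : (h : Equiv.Perm G) = MulAction.toPermHom Gᵐᵒᵖ G m := Equiv.ext fun x => by
    rw [key _ (hH h.2) x, show (h : Equiv.Perm G) 1 = m.unop from hh]
    rfl
  exact this ▸ h.2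

end Cfsg.Agent.S0726
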