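import Cfsg.Statements.S0728
import Mathlib

set_option autoImplicit false
open Cfsg

namespace Cfsg.Agent.S0728

/-- In a sharply triply transitive group of even degree at least 6 (degree `q + 1`, `q` odd), a two-point stabiliser has at most one subgroup of order 3. -/
theorem result {α : Type*} [Fintype α] [DecidableEq α] (heven : Even (Fintype.card α)) (h6 : 6 ≤ Fintype.card α) (G : Subgroup (Equiv.Perm α)) (h3 : MulAction.IsMultiplyPretransitive G α 3) (hsharp : ∀ x : Fin 3 ↪ α, MulAction.stabilizer G x = ⊥) {a b : α} (hab : a ≠ b) (A B : Subgroup G) (hA : A ≤ MulAction.stabilizer G a ⊓ MulAction.stabilizer G b) (hB : B ≤ MulAction.stabilizer G a ⊓ MulAction.stabilizer G b) (hA3 : Nat.card A = 3) (hB3 : Nat.card B = 3) : A = B := by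
  classical
  haveI := h3
  set N := Fintype.card α with hN
  have hthree : ∀ (g : G) (x y z : α), x ≠ y → x ≠ z → y ≠ z → g • x = x → g • y = y → g • z = z → g = 1 := by
    intro g x y z hxy hxz hyz hx hy hz
    let f : Fin 3 ↪ α := ⟨![x, y, z], fun i j h => by fin_cases i <;> fin_cases j <;> simp_all⟩
    have : g ∈ MulAction.stabilizer G f := by
      rw [MulAction.mem_stabilizer_iff]
      ext i
      fin_cases i
      · exact hx
      · exact hy
      · exact hz
    rw [hsharp f] at this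
    exact this
  have hmove : ∀ f f' : Fin 3 ↪ α, ∃ g : G, g • f = f' := fun f f' => MulAction.exists_smul_eq G f f'
  let X := {g : G // g ≠ 1 ∧ g ^ 3 = 1}
  have hpw : ∀ g : X, ∀ x : α, g.1 • g.1 • g.1 • x = x := fun g x => by
    rw [smul_smul, smul_smul, show g.1 * g.1 * g.1 = g.1 ^ 3 by rw [pow_succ, pow_two], g.2.2, one_smul]
  have hA2 : ∀ C : Subgroup G, C ≤ MulAction.stabilizer G a ⊓ MulAction.stabilizer G b → Nat.card C = 3 →
      ∀ g ∈ C, g ≠ 1 → g ^ 3 = 1 ∧ g • a = a ∧ g • b = b := fun C hC hC3 g hg _ =>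
    ⟨by
      have := congrArg Subtype.val (pow_card_eq_one' (x := (⟨g, hg⟩ : C)))
      rwa [hC3] at this, (hC hg).1, (hC hg).2⟩
  -- fixed points of an element of order three
  have hmod : ∀ g : X, (Finset.univ.filter (fun x : α => g.1 • x ≠ x)).card % 3 = 0 := by
    intro g
    have h3' : ((g.1 : G) : Equiv.Perm α) ^ (3 ^ 1) = 1 := by
      rw [pow_one, ← Subgroup.coe_pow, g.2.2, Subgroup.coe_one]
    haveI := Fact.mk Nat.prime_three
    have hc := Equiv.Perm.card_compl_support_modEq (p := 3) (n := 1) (σ := ((g.1 : G) : Equiv.Perm α)) h3'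
    have e : Finset.univ.filter (fun x : α => g.1 • x ≠ x) = ((g.1 : G) : Equiv.Perm α).support := by
      ext x; simp [Equiv.Perm.mem_support, Subgroup.smul_def]
    rw [Finset.card_compl, Nat.ModEq] at hc
    rw [e]
    have := ((g.1 : G) : Equiv.Perm α).support.card_le_univ
    omega
  have hfixle : ∀ g : X, (Finset.univ.filter (fun x : α => g.1 • x = x)).card ≤ 2 := by
    intro g
    by_contra h
    push Not at h
    obtain ⟨x, y, z, hx, hy, hz, hxy, hxz, hyz⟩ := Finset.two_lt_card_iff.1 h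
    exact g.2.1 (hthree g.1 x y z hxy hxz hyz (Finset.mem_filter.1 hx).2 (Finset.mem_filter.1 hy).2 (Finset.mem_filter.1 hz).2)
  have hsplit : ∀ g : X, (Finset.univ.filter (fun x : α => g.1 • x = x)).card + (Finset.univ.filter (fun x : α => g.1 • x ≠ x)).card = N :=
    fun g => by rw [hN, ← Finset.card_univ]; exact Finset.card_filter_add_card_filter_not _
  -- an element from `A` gives the congruence of the degree
  obtain ⟨a1, ha1, ha1'⟩ : ∃ g ∈ A, g ≠ (1 : G) := by
    by_contra h
    push Not at h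
    rw [(Subgroup.eq_bot_iff_forall A).2 h, Subgroup.card_bot] at hA3
    exact absurd hA3 (by norm_num)
  obtain ⟨ha13, ha1a, ha1b⟩ := hA2 A hA hA3 a1 ha1 ha1'
  have hN3 : N % 3 = 2 := by
    have h1 := hmod ⟨a1, ha1', ha13⟩
    have h2 := hfixle ⟨a1, ha1', ha13⟩
    have h4 := hsplit ⟨a1, ha1', ha13⟩
    have h5 : 1 < (Finset.univ.filter (fun x : α => a1 • x = x)).card :=
      Finset.one_lt_card_iff.2 ⟨a, b, Finset.mem_filter.2 ⟨Finset.mem_univ _, ha1a⟩, Finset.mem_filter.2 ⟨Finset.mem_univ _, ha1b⟩, hab⟩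
    dsimp only at h1 h2 h4
    omega
  have hfix2 : ∀ g : X, (Finset.univ.filter (fun x : α => g.1 • x = x)).card = 2 := fun g => by
    have h1 := hmod g
    have h2 := hfixle g
    have h4 := hsplit g
    omega
  -- counting moved points
  have hT : Nat.card {p : X × α // p.1.1 • p.2 ≠ p.2} = Nat.card (Fin 3 ↪ α) := by
    have hd : ∀ p : {p : X × α // p.1.1 • p.2 ≠ p.2}, Function.Injective ![p.1.2, p.1.1.1 • p.1.2, p.1.1.1 • p.1.1.1 • p.1.2] := by
      rintro ⟨⟨g, x⟩, hgx⟩ i j h
      have h0 : g.1 • g.1 • x ≠ g.1 • x := fun e => hgx (smul_left_cancel g.1 e)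
      have h1 : g.1 • g.1 • x ≠ x := fun e => hgx (by
        conv_rhs => rw [← hpw g x, e])
      have h2 : g.1 • x ≠ x := hgx
      fin_cases i <;> fin_cases j <;> first | rfl | exact absurd h h0 | exact absurd h.symm h0 | exact absurd h h1 | exact absurd h.symm h1 | exact absurd h h2 | exact absurd h.symm h2
    refine Nat.card_eq_of_bijective (fun p => ⟨_, hd p⟩) ⟨?_, ?_⟩
    · rintro ⟨⟨g, x⟩, hg⟩ ⟨⟨g', x'⟩, hg'⟩ h
      have e0 : x = x' := congrArg (fun f : Fin 3 ↪ α => f 0) h
      have e1 : g.1 • x = g'.1 • x' := congrArg (fun f : Fin 3 ↪ α => f 1) h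
      have e2 : g.1 • g.1 • x = g'.1 • g'.1 • x' := congrArg (fun f : Fin 3 ↪ α => f 2) h
      subst e0
      have hgg : g'.1⁻¹ * g.1 = 1 := by
        refine hthree _ x (g.1 • x) (g.1 • g.1 • x) (Ne.symm hg) (fun e => hg ?_) (fun e => hg (smul_left_cancel g.1 e).symm) ?_ ?_ ?_
        · conv_rhs => rw [← hpw g x, ← e]
        · rw [mul_smul, e1, inv_smul_smul]
        · rw [mul_smul, e2, inv_smul_smul, e1]
        · rw [mul_smul, hpw, inv_smul_eq_iff, e2, hpw]
      exact Subtype.ext (Prod.ext (Subtype.ext (inv_mul_eq_one.1 hgg).symm) rfl)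
    · intro f
      let f' : Fin 3 ↪ α := (finRotate 3).toEmbedding.trans f
      obtain ⟨g, hg⟩ := hmove f f'
      have h0 : g • f 0 = f 1 := congrArg (fun e : Fin 3 ↪ α => e 0) hg
      have h1 : g • f 1 = f 2 := congrArg (fun e : Fin 3 ↪ α => e 1) hg
      have h2 : g • f 2 = f 0 := congrArg (fun e : Fin 3 ↪ α => e 2) hg
      have hne : g • f 0 ≠ f 0 := by rw [h0]; exact fun e => absurd (f.injective e) (by decide)
      have hg3 : g ^ 3 = 1 := hthree _ (f 0) (f 1) (f 2) (fun e => absurd (f.injective e) (by decide))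
        (fun e => absurd (f.injective e) (by decide)) (fun e => absurd (f.injective e) (by decide))
        (by rw [pow_succ, pow_two, mul_smul, mul_smul, h0, h1, h2])
        (by rw [pow_succ, pow_two, mul_smul, mul_smul, h1, h2, h0])
        (by rw [pow_succ, pow_two, mul_smul, mul_smul, h2, h0, h1])
      refine ⟨⟨(⟨g, fun e => hne (by rw [e, one_smul]), hg3⟩, f 0), hne⟩, ?_⟩
      ext i
      fin_cases i
      · rfl
      · exact h0
      · show g • g • f 0 = f 2
        rw [h0, h1]
  have hX : Nat.card X * (N - 2) = N * (N - 1) * (N - 2) := by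
    have e : Nat.card {p : X × α // p.1.1 • p.2 ≠ p.2} = Nat.card X * (N - 2) := by
      rw [Nat.card_congr (Equiv.subtypeProdEquivSigmaSubtype fun (g : X) (x : α) => g.1 • x ≠ x), Nat.card_sigma]
      rw [Finset.sum_congr rfl fun g _ => (show Nat.card {x : α // g.1 • x ≠ x} = N - 2 by
        rw [Nat.card_eq_fintype_card, Fintype.card_subtype]
        have := hsplit g; have := hfix2 g; omega)]
      simp
    rw [← e, hT, Nat.card_eq_fintype_card, Fintype.card_embedding_eq, Fintype.card_fin, hN]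
    simp [Nat.descFactorial_succ]
    ring
  -- counting ordered fixed pairs
  let K := fun q : α × α => {g : X // g.1 • q.1 = q.1 ∧ g.1 • q.2 = q.2}
  have hconst : ∀ q : {q : α × α // q.1 ≠ q.2}, Nat.card (K q.1) = Nat.card (K (a, b)) := by
    rintro ⟨⟨u, v⟩, huv⟩
    haveI : MulAction.IsMultiplyPretransitive G α 2 :=
      MulAction.isMultiplyPretransitive_of_le' (n := 3) (by norm_num) (by rw [ENat.card_eq_coe_fintype_card]; exact_mod_cast (show 3 ≤ Fintype.card α by omega))
    obtain ⟨w, hwa, hwb⟩ := MulAction.is_two_pretransitive_iff.1 this hab huv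
    have hwu : w⁻¹ • u = a := inv_smul_eq_iff.2 hwa.symm
    have hwv : w⁻¹ • v = b := inv_smul_eq_iff.2 hwb.symm
    refine Nat.card_congr
      { toFun := fun g => ⟨⟨w⁻¹ * g.1.1 * w, fun e => g.1.2.1 (by
          have h9 := congrArg (fun t => w * t * w⁻¹) e
          group at h9
          simpa using h9), by rw [show w⁻¹ * g.1.1 * w = MulAut.conj w⁻¹ g.1.1 by simp, ← map_pow, g.1.2.2, map_one]⟩,
          by show (w⁻¹ * g.1.1 * w) • a = a; rw [mul_smul, mul_smul, hwa, g.2.1, hwu],
          by show (w⁻¹ * g.1.1 * w) • b = b; rw [mul_smul, mul_smul, hwb, g.2.2, hwv]⟩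
        invFun := fun g => ⟨⟨w * g.1.1 * w⁻¹, fun e => g.1.2.1 (by
          have h9 := congrArg (fun t => w⁻¹ * t * w) e
          group at h9
          simpa using h9), by rw [show w * g.1.1 * w⁻¹ = MulAut.conj w g.1.1 from rfl, ← map_pow, g.1.2.2, map_one]⟩,
          by show (w * g.1.1 * w⁻¹) • u = u; rw [mul_smul, mul_smul, hwu, g.2.1, hwa],
          by show (w * g.1.1 * w⁻¹) • v = v; rw [mul_smul, mul_smul, hwv, g.2.2, hwb]⟩
        left_inv := fun g => Subtype.ext (Subtype.ext (show w * (w⁻¹ * g.1.1 * w) * w⁻¹ = g.1.1 by group))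
        right_inv := fun g => Subtype.ext (Subtype.ext (show w⁻¹ * (w * g.1.1 * w⁻¹) * w = g.1.1 by group)) }
  have hpairs : Nat.card X * 2 = N * (N - 1) * Nat.card (K (a, b)) := by
    have e1 : Nat.card {p : X × {q : α × α // q.1 ≠ q.2} // p.1.1 • p.2.1.1 = p.2.1.1 ∧ p.1.1 • p.2.1.2 = p.2.1.2} = Nat.card X * 2 := by
      rw [Nat.card_congr (Equiv.subtypeProdEquivSigmaSubtype fun (g : X) (q : {q : α × α // q.1 ≠ q.2}) => g.1 • q.1.1 = q.1.1 ∧ g.1 • q.1.2 = q.1.2), Nat.card_sigma]
      rw [Finset.sum_congr rfl fun g _ => (show Nat.card {q : {q : α × α // q.1 ≠ q.2} // g.1 • q.1.1 = q.1.1 ∧ g.1 • q.1.2 = q.1.2} = 2 by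
        let F := Finset.univ.filter (fun x : α => g.1 • x = x)
        have : Nat.card {q : {q : α × α // q.1 ≠ q.2} // g.1 • q.1.1 = q.1.1 ∧ g.1 • q.1.2 = q.1.2} = F.offDiag.card := by
          rw [← Fintype.card_coe, ← Nat.card_eq_fintype_card]
          exact Nat.card_congr
            { toFun := fun q => ⟨q.1.1, Finset.mem_offDiag.2 ⟨Finset.mem_filter.2 ⟨Finset.mem_univ _, q.2.1⟩, Finset.mem_filter.2 ⟨Finset.mem_univ _, q.2.2⟩, q.1.2⟩⟩
              invFun := fun q => ⟨⟨q.1, (Finset.mem_offDiag.1 q.2).2.2⟩, (Finset.mem_filter.1 (Finset.mem_offDiag.1 q.2).1).2, (Finset.mem_filter.1 (Finset.mem_offDiag.1 q.2).2.1).2⟩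
              left_inv := fun q => rfl
              right_inv := fun q => rfl }
        rw [this, Finset.offDiag_card, show F.card = 2 from hfix2 g])]
      simp
    rw [← e1]
    refine (Nat.card_congr (β := {p : {q : α × α // q.1 ≠ q.2} × X // p.2.1 • p.1.1.1 = p.1.1.1 ∧ p.2.1 • p.1.1.2 = p.1.1.2})
      { toFun := fun p => ⟨(p.1.2, p.1.1), p.2⟩, invFun := fun p => ⟨(p.1.2, p.1.1), p.2⟩, left_inv := fun p => rfl, right_inv := fun p => rfl }).trans ?_
    rw [Nat.card_congr (Equiv.subtypeProdEquivSigmaSubtype fun (q : {q : α × α // q.1 ≠ q.2}) (g : X) => g.1 • q.1.1 = q.1.1 ∧ g.1 • q.1.2 = q.1.2), Nat.card_sigma]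
    rw [Finset.sum_congr rfl fun q _ => hconst q, Finset.sum_const, Finset.card_univ, smul_eq_mul]
    congr 1
    rw [Fintype.card_subtype]
    have : (Finset.univ.filter (fun q : α × α => q.1 ≠ q.2)) = (Finset.univ : Finset α).offDiag := by ext; simp
    rw [this, Finset.offDiag_card, Finset.card_univ, ← hN, Nat.mul_sub_one]
  have hk : Nat.card (K (a, b)) = 2 := by
    have hpos : 0 < N * (N - 1) := Nat.mul_pos (by omega) (by omega)
    have h1 : Nat.card X = N * (N - 1) := Nat.eq_of_mul_eq_mul_right (by omega) hX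
    rw [h1] at hpairs
    exact (Nat.eq_of_mul_eq_mul_left hpos hpairs).symm
  -- both subgroups consist of these elements
  have key : ∀ C : Subgroup G, C ≤ MulAction.stabilizer G a ⊓ MulAction.stabilizer G b → Nat.card C = 3 →
      (C : Set G) = insert 1 {g : G | g ≠ 1 ∧ g ^ 3 = 1 ∧ g • a = a ∧ g • b = b} := by
    intro C hC hC3
    refine Set.eq_of_subset_of_ncard_le (fun g hg => ?_) ?_ (Set.toFinite _)
    · by_cases h : g = 1
      · exact Or.inl h
      · exact Or.inr ⟨h, hA2 C hC hC3 g hg h⟩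
    · refine (Set.ncard_insert_le _ _).trans ?_
      rw [← Nat.card_coe_set_eq (C : Set G)]
      have e : {g : G | g ≠ 1 ∧ g ^ 3 = 1 ∧ g • a = a ∧ g • b = b}.ncard = 2 := by
        rw [← hk, ← Nat.card_coe_set_eq]
        exact Nat.card_congr
          { toFun := fun g => ⟨⟨g.1, g.2.1, g.2.2.1⟩, g.2.2.2⟩
            invFun := fun g => ⟨g.1.1, g.1.2.1, g.1.2.2, g.2.1, g.2.2⟩
            left_inv := fun g => rfl
            right_inv := fun g => rfl }
      rw [e]
      exact hC3.ge
  exact SetLike.coe_injective ((key A hA hA3).trans (key B hB hB3).symm)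

end Cfsg.Agent.S0728
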