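import Cfsg.Statements.S0729
import Cfsg.Agent.RankOne.SharpThree
import Cfsg.Agent.RankOne.SharpEven
import Cfsg.Agent.RankOne.InvariantIndexTwo

set_option autoImplicit false
open Cfsg

namespace Cfsg.Agent.S0729

/-- In a sharply triply transitive group of even degree at least 6, the two-point stabiliser `H = G_{a,b}` has a normal subgroup of index 2 that is normalised by the element `s` interchanging `a, b` and fixing a third point `c`. -/
theorem result {α : Type*} [Fintype α] [DecidableEq α] (heven : Even (Fintype.card α)) (h6 : 6 ≤ Fintype.card α) (G : Subgroup (Equiv.Perm α)) (h3 : MulAction.IsMultiplyPretransitive G α 3) (hsharp : ∀ x : Fin 3 ↪ α, MulAction.stabilizer G x = ⊥) {a b c : α} (hab : a ≠ b) (hac : a ≠ c) (hbc : b ≠ c) (s : G) (hsa : s • a = b) (hsb : s • b = a) (hsc : s • c = c) : ∃ N : Subgroup G, N ≤ MulAction.stabilizer G a ⊓ MulAction.stabilizer G b ∧ (N.subgroupOf (MulAction.stabilizer G a ⊓ MulAction.stabilizer G b)).Normal ∧ N.relIndex (MulAction.stabilizer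 G a ⊓ MulAction.stabilizer G b) = 2 ∧ ∀ n ∈ N, s * n * s⁻¹ ∈ N := by
  classical
  have hZ := Cfsg.Lib.RankOne.zassenhaus_of_sharp h3 hsharp (by omega)
  have hd := Cfsg.Lib.RankOne.sharp_card_stab₂ h3 hsharp (by omega) hab
  set E := Cfsg.Lib.OddChar.Zassenhaus.stab₂ G a b with hE
  have hev : Even (Nat.card E) := by
    obtain ⟨m, hm⟩ := heven
    exact ⟨m - 1, by omega⟩
  have hs2 : s * s = 1 := Cfsg.Lib.RankOne.sharp_fix_three hsharp _ a b c hab hbc hac
    (by rw [mul_smul, hsa, hsb]) (by rw [mul_smul, hsb, hsa]) (by rw [mul_smul, hsc, hsc])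
  obtain ⟨τ, hτ, hinvol, -, -, hS⟩ := Cfsg.Lib.RankOne.sharpStab_of_swapper hZ hab hev hd hsa hsb hs2 hsc
  have htwo : Cfsg.HasNormalPComplement 2 E := by
    by_contra h
    exact Cfsg.Lib.RankOne.decomposition_false hZ hab hev hd (hS h).decomposition
  obtain ⟨M, hMn, hMi, hMτ⟩ := Cfsg.Lib.RankOne.exists_invariant_index_two τ hinvol htwo hev
  have hback : (M.map E.subtype).subgroupOf E = M := Subgroup.comap_map_eq_self_of_injective E.subtype_injective M
  refine ⟨M.map E.subtype, Subgroup.map_subtype_le M, ?_, ?_, ?_⟩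
  · show ((M.map E.subtype).subgroupOf E).Normal
    rw [hback]
    exact hMn
  · show ((M.map E.subtype).subgroupOf E).index = 2
    rw [hback]
    exact hMi
  · rintro _ ⟨u, hu, rfl⟩
    refine ⟨τ u, hMτ u hu, ?_⟩
    rw [inv_eq_of_mul_eq_one_right hs2]
    exact hτ u

end Cfsg.Agent.S0729
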