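import Cfsg.Statements.S0730
import Cfsg.Agent.RankOne.SharpThree
import Cfsg.Agent.RankOne.OddExponent

set_option autoImplicit false
open Cfsg

namespace Cfsg.Agent.S0730

/-- A sharply triply transitive group of degree `p^f + 1`, `p` an odd prime and `f` odd, is isomorphic to the projective general linear group of degree 2 over the field with `p^f` elements (for even `f` there is a second, twisted, group). -/
theorem result {α : Type*} [Fintype α] [DecidableEq α] {p f : ℕ} (hp : p.Prime) (hp2 : p ≠ 2) (hfo : Odd f) (hα : Fintype.card α = p ^ f + 1) (G : Subgroup (Equiv.Perm α)) (h3 : MulAction.IsMultiplyPretransitive G α 3) (hsharp : ∀ x : Fin 3 ↪ α, MulAction.stabilizer G x = ⊥) : ∃ (F : Type) (_ : Field F) (_ : Fintype F), Fintype.card F = p ^ f ∧ Nonempty (G ≃* Matrix.ProjGenLinGroup (Fin 2) F) := by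
  classical
  have hp3 : 3 ≤ p := by have := hp.two_le; omega
  have hq : 3 ≤ p ^ f := hp3.trans (Nat.le_self_pow (by obtain ⟨m, hm⟩ := hfo; omega) p)
  rcases Nat.lt_or_ge (Fintype.card α) 5 with h5 | h5
  · have : Fact (Nat.Prime 3) := ⟨Nat.prime_three⟩
    have hiso := Cfsg.Lib.RankOne.sharp_small (q := 3) le_rfl (by omega) h3
    refine ⟨ZMod 3, inferInstance, inferInstance, ?_, hiso⟩
    rw [ZMod.card]
    omega
  · obtain ⟨a, b, hab⟩ := Fintype.exists_pair_of_one_lt_card (α := α) (by omega)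
    have hZ := Cfsg.Lib.RankOne.zassenhaus_of_sharp h3 hsharp h5
    have hd := Cfsg.Lib.RankOne.sharp_card_stab₂ h3 hsharp (by omega) hab
    have hcomm := Cfsg.Lib.RankOne.sharp_comm_of_odd_exponent hZ hab hd hp hp2 hfo hα
    obtain ⟨H, hHa, hHc, hHf⟩ := Cfsg.Lib.OddChar.Zassenhaus.exists_kernel hZ hab
    obtain ⟨F, iF, iFF, hF, hiso⟩ := Cfsg.Lib.RankOne.sharp_pgl hZ hab hd hcomm hHa hHc hHf
    refine @Exists.intro _ _ F (@Exists.intro _ _ iF (@Exists.intro _ _ iFF ⟨?_, hiso⟩))
    omega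

end Cfsg.Agent.S0730
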