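import Cfsg.Statements.S0733
import Mathlib

set_option autoImplicit false
open Cfsg
open scoped Pointwise

namespace Cfsg.Agent.S0733

/-- A permutation group of affine type — generated by the translations of a finite vector space `V` over `ZMod p` together with a group `G₀` of linear automorphisms — is primitive on `V` if and only if `G₀` is irreducible on `V`. -/
theorem result {p : ℕ} [Fact p.Prime] {V : Type*} [AddCommGroup V] [Module (ZMod p) V] [Finite V] [Nontrivial V] (G₀ : Subgroup (V ≃ₗ[ZMod p] V)) (G : Subgroup (Equiv.Perm V)) (hG : ∀ σ : Equiv.Perm V, σ ∈ G ↔ ∃ g ∈ G₀, ∃ b : V, ∀ x : V, σ x = (g : V ≃ₗ[ZMod p] V) x + b) : MulAction.IsPreprimitive G V ↔ ∀ W : Submodule (ZMod p) V, (∀ g ∈ G₀, ∀ v ∈ W, (g : V ≃ₗ[ZMod p] V) v ∈ W) → W = ⊥ ∨ W = ⊤ := by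
  have mem_t : ∀ b : V, Equiv.addRight b ∈ G := fun b => (hG _).2 ⟨1, G₀.one_mem, b, fun x => rfl⟩
  have mem_l : ∀ g ∈ G₀, (g : V ≃ₗ[ZMod p] V).toEquiv ∈ G := fun g hg => (hG _).2 ⟨g, hg, 0, fun x => by simp⟩
  have : MulAction.IsPretransitive G V := ⟨fun x y => ⟨⟨_, mem_t (y - x)⟩, add_sub_cancel x y⟩⟩
  constructor
  · intro hp W hW
    have hblk : MulAction.IsBlock G (W : Set V) := by
      rw [MulAction.isBlock_iff_smul_eq_of_nonempty]
      intro σ hne
      obtain ⟨g, hg, b, hb⟩ := (hG _).1 σ.2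
      obtain ⟨_, ⟨v, hv, rfl⟩, hw⟩ := hne
      have hv' : g v + b ∈ W := by rw [← hb]; exact hw
      have hbW : b ∈ W := (W.add_mem_iff_right (hW g hg v hv)).1 hv'
      ext z
      constructor
      · rintro ⟨w, hw', rfl⟩
        show (σ : Equiv.Perm V) w ∈ W
        rw [hb]; exact W.add_mem (hW g hg w hw') hbW
      · intro hz
        refine ⟨g.symm (z - b), hW _ (G₀.inv_mem hg) _ (W.sub_mem hz hbW), ?_⟩
        show (σ : Equiv.Perm V) _ = z
        rw [hb]; simp
    rcases MulAction.IsPreprimitive.isTrivialBlock_of_isBlock hblk with h | h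
    · exact Or.inl ((Submodule.eq_bot_iff W).2 fun w hw => h hw W.zero_mem)
    · exact Or.inr (eq_top_iff.2 fun v _ => (Set.eq_univ_iff_forall.1 h v : _))
  · intro h
    refine MulAction.IsPreprimitive.of_isTrivialBlock_base (G := G) (0 : V) fun {B} h0 hB => ?_
    have hfix : ∀ σ : G, (σ : Equiv.Perm V) 0 ∈ B → ∀ w ∈ B, (σ : Equiv.Perm V) w ∈ B := fun σ hσ w hw => by
      have e := (MulAction.isBlock_iff_smul_eq_of_nonempty.1 hB) (g := σ) ⟨_, ⟨0, h0, rfl⟩, hσ⟩
      rw [← e]; exact ⟨w, hw, rfl⟩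
    have hadd : ∀ a ∈ B, ∀ b ∈ B, a + b ∈ B := fun a ha b hb =>
      hfix ⟨_, mem_t b⟩ (by show 0 + b ∈ B; rwa [zero_add]) a ha
    let M : AddSubmonoid V := ⟨⟨B, fun {a b} ha hb => hadd a ha b hb⟩, h0⟩
    let S : AddSubgroup V := { M with
      neg_mem' := fun {a} ha => by
        have hp0 : p ≠ 0 := (Fact.out : p.Prime).ne_zero
        have e : -a = (p - 1) • a := by
          rw [neg_eq_iff_add_eq_zero, ← succ_nsmul', Nat.sub_add_cancel (Nat.pos_of_ne_zero hp0), ← Nat.cast_smul_eq_nsmul (ZMod p), ZMod.natCast_self, zero_smul]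
        show -a ∈ M
        rw [e]; exact M.nsmul_mem ha _ }
    rcases h (AddSubgroup.toZModSubmodule p S) (fun g hg v hv => hfix ⟨_, mem_l g hg⟩ (by show g 0 ∈ B; rwa [map_zero]) v hv) with hW | hW
    · refine Or.inl fun a ha b hb => ?_
      have ha' : a = 0 := (Submodule.eq_bot_iff _).1 hW a ha
      have hb' : b = 0 := (Submodule.eq_bot_iff _).1 hW b hb
      rw [ha', hb']
    · exact Or.inr (Set.eq_univ_iff_forall.2 fun v => (eq_top_iff.1 hW trivial : v ∈ AddSubgroup.toZModSubmodule p S))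

end Cfsg.Agent.S0733
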