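import Cfsg.Statements.S0734
import Mathlib

set_option autoImplicit false
open Cfsg
open scoped Pointwise

namespace Cfsg.Agent.S0734

/-- Higman's criterion for primitivity: a transitive action on a finite set is primitive if and only if every non-trivial orbital graph (edges = images of a fixed pair of distinct points) is connected. -/
theorem result {G : Type*} [Group G] {Ω : Type*} [Finite Ω] [MulAction G Ω] [MulAction.IsPretransitive G Ω] [Nontrivial Ω] : MulAction.IsPreprimitive G Ω ↔ ∀ a b : Ω, a ≠ b → (SimpleGraph.fromRel fun x y : Ω => ∃ g : G, g • a = x ∧ g • b = y).Connected := by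
  constructor
  · intro hp a b hab
    set Γ := SimpleGraph.fromRel fun x y : Ω => ∃ g : G, g • a = x ∧ g • b = y
    have hmap : ∀ (g : G) (x y : Ω), Γ.Reachable x y → Γ.Reachable (g • x) (g • y) := fun g x y h =>
      h.map ⟨fun z => g • z, fun {u v} huv => by
        refine ⟨fun e => huv.1 ((smul_left_cancel g) e), ?_⟩
        rcases huv.2 with ⟨k, hk1, hk2⟩ | ⟨k, hk1, hk2⟩
        · exact Or.inl ⟨g * k, by rw [mul_smul, hk1], by rw [mul_smul, hk2]⟩
        · exact Or.inr ⟨g * k, by rw [mul_smul, hk1], by rw [mul_smul, hk2]⟩⟩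
    have hblk : MulAction.IsBlock G {x | Γ.Reachable a x} := by
      rw [MulAction.isBlock_iff_smul_eq_of_nonempty]
      intro g hne
      obtain ⟨_, ⟨x, hx, rfl⟩, hy⟩ := hne
      have hga : Γ.Reachable a (g • a) := SimpleGraph.Reachable.trans hy (hmap g _ _ hx).symm
      ext z
      constructor
      · rintro ⟨w, hw, rfl⟩
        exact hga.trans (hmap g _ _ hw)
      · intro hz
        refine ⟨g⁻¹ • z, ?_, smul_inv_smul g z⟩
        have := hmap g⁻¹ _ _ (hga.symm.trans hz)
        rwa [inv_smul_smul] at this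
    rcases MulAction.IsPreprimitive.isTrivialBlock_of_isBlock hblk with h | h
    · exact (hab (h (SimpleGraph.Reachable.refl a) (SimpleGraph.Adj.reachable ⟨hab, Or.inl ⟨1, one_smul G a, one_smul G b⟩⟩))).elim
    · refine ⟨fun x y => ?_⟩
      exact SimpleGraph.Reachable.trans (SimpleGraph.Reachable.symm (Set.eq_univ_iff_forall.1 h x)) (Set.eq_univ_iff_forall.1 h y)
  · intro h
    refine ⟨fun {B} hB => ?_⟩
    by_cases hs : B.Subsingleton
    · exact Or.inl hs
    obtain ⟨a, ha, b, hb, hab⟩ := Set.not_subsingleton_iff.1 hs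
    refine Or.inr (Set.eq_univ_iff_forall.2 fun z => ?_)
    have step : ∀ x y, (SimpleGraph.fromRel fun x y : Ω => ∃ g : G, g • a = x ∧ g • b = y).Adj x y → x ∈ B → y ∈ B := fun x y hxy hx => by
      rcases hxy.2 with ⟨g, hg1, hg2⟩ | ⟨g, hg1, hg2⟩
      · rw [← MulAction.isBlock_iff_smul_eq_of_nonempty.1 hB (g := g) ⟨x, ⟨a, ha, hg1⟩, hx⟩]
        exact ⟨b, hb, hg2⟩
      · rw [← MulAction.isBlock_iff_smul_eq_of_nonempty.1 hB (g := g) ⟨x, ⟨b, hb, hg2⟩, hx⟩]
        exact ⟨a, ha, hg1⟩
    have : ∀ x y, (SimpleGraph.fromRel fun x y : Ω => ∃ g : G, g • a = x ∧ g • b = y).Walk x y → x ∈ B → y ∈ B := fun x y w => by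
      induction w with
      | nil => exact id
      | cons h _ ih => exact fun hx => ih (step _ _ h hx)
    obtain ⟨w⟩ := (h a b hab).preconnected a z
    exact this _ _ w ha

end Cfsg.Agent.S0734
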