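import Cfsg.Statements.S0735
import Mathlib

set_option autoImplicit false
open Cfsg
open scoped Pointwise

namespace Cfsg.Agent.S0735

/-- A 2-homogeneous permutation group (transitive on 2-subsets) of even order is doubly transitive; a non-trivial 2-homogeneous group is primitive. -/
theorem result {α : Type*} [Fintype α] [DecidableEq α] (G : Subgroup (Equiv.Perm α)) (h2 : MulAction.IsPretransitive G (Set.powersetCard α 2)) (hα : 3 ≤ Fintype.card α) : (Even (Nat.card G) → MulAction.IsMultiplyPretransitive G α 2) ∧ (G ≠ ⊥ → MulAction.IsPreprimitive G α) := by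
  have pair : ∀ a b x y : α, a ≠ b → x ≠ y → ∃ g : G, (g • a = x ∧ g • b = y) ∨ (g • a = y ∧ g • b = x) := by
    intro a b x y hab hxy
    obtain ⟨g, hg⟩ := MulAction.exists_smul_eq G (⟨{a, b}, Finset.card_pair hab⟩ : Set.powersetCard α 2) ⟨{x, y}, Finset.card_pair hxy⟩
    have e : ({a, b} : Finset α).image (fun z => g • z) = {x, y} := congrArg Subtype.val hg
    rw [Finset.image_insert, Finset.image_singleton] at e
    have ha : g • a ∈ ({x, y} : Finset α) := e ▸ Finset.mem_insert_self _ _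
    have hb : g • b ∈ ({x, y} : Finset α) := e ▸ Finset.mem_insert_of_mem (Finset.mem_singleton_self _)
    simp only [Finset.mem_insert, Finset.mem_singleton] at ha hb
    have hne : g • a ≠ g • b := fun h => hab ((smul_left_cancel g) h)
    refine ⟨g, ?_⟩
    rcases ha with ha | ha <;> rcases hb with hb | hb
    · exact absurd (ha.trans hb.symm) hne
    · exact Or.inl ⟨ha, hb⟩
    · exact Or.inr ⟨ha, hb⟩
    · exact absurd (ha.trans hb.symm) hne
  have third : ∀ a b : α, ∃ c, c ≠ a ∧ c ≠ b := fun a b => by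
    obtain ⟨c, hc⟩ := Finset.exists_mem_notMem_of_card_lt_card (t := (Finset.univ : Finset α)) (s := {a, b}) (lt_of_le_of_lt Finset.card_le_two (by rw [Finset.card_univ]; omega))
    simp only [Finset.mem_insert, Finset.mem_singleton, not_or] at hc
    exact ⟨c, hc.2⟩
  have htr : MulAction.IsPretransitive G α := ⟨fun a b => by
    by_cases hab : a = b
    · exact ⟨1, by rw [one_smul, hab]⟩
    obtain ⟨c, hca, hcb⟩ := third a b
    obtain ⟨g, ⟨h1, -⟩ | ⟨h1, h2⟩⟩ := pair a c b c hca.symm hcb.symm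
    · exact ⟨g, h1⟩
    · exact ⟨g * g, by rw [mul_smul, h1, h2]⟩⟩
  refine ⟨fun hev => ?_, fun _ => ⟨fun {B} hB => ?_⟩⟩
  · have : Fact (Nat.Prime 2) := ⟨Nat.prime_two⟩
    obtain ⟨t, ht⟩ := exists_prime_orderOf_dvd_card' 2 hev.two_dvd
    have ht1 : t ≠ 1 := fun h => by simp [h] at ht
    obtain ⟨a, ha⟩ : ∃ a, t • a ≠ a := by
      by_contra h
      push_neg at h
      exact ht1 (Subtype.ext (Equiv.ext fun x => h x))
    have htt : t • t • a = a := by rw [← mul_smul, ← pow_two, ← ht, pow_orderOf_eq_one, one_smul]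
    rw [MulAction.is_two_pretransitive_iff]
    intro x y u v hxy huv
    have sw : ∀ x y : α, x ≠ y → ∃ g : G, g • a = x ∧ g • (t • a) = y := fun x y hxy => by
      obtain ⟨g, h | ⟨h1, h2⟩⟩ := pair a (t • a) x y (Ne.symm ha) hxy
      · exact ⟨g, h⟩
      · exact ⟨g * t, by rw [mul_smul, h2], by rw [mul_smul, htt, h1]⟩
    obtain ⟨g, hg1, hg2⟩ := sw x y hxy
    obtain ⟨k, hk1, hk2⟩ := sw u v huv
    exact ⟨k * g⁻¹, by rw [mul_smul, inv_smul_eq_iff.2 hg1.symm, hk1], by rw [mul_smul, inv_smul_eq_iff.2 hg2.symm, hk2]⟩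
  · by_cases hs : B.Subsingleton
    · exact Or.inl hs
    obtain ⟨a, ha, b, hb, hab⟩ := Set.not_subsingleton_iff.1 hs
    refine Or.inr (Set.eq_univ_iff_forall.2 fun c => ?_)
    by_cases hca : c = a
    · exact hca ▸ ha
    obtain ⟨g, ⟨h1, h2⟩ | ⟨h1, h2⟩⟩ := pair a b a c hab (Ne.symm hca)
    · rw [← MulAction.isBlock_iff_smul_eq_of_nonempty.1 hB (g := g) ⟨a, ⟨a, ha, h1⟩, ha⟩]
      exact ⟨b, hb, h2⟩
    · rw [← MulAction.isBlock_iff_smul_eq_of_nonempty.1 hB (g := g) ⟨a, ⟨b, hb, h2⟩, ha⟩]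
      exact ⟨a, ha, h1⟩

end Cfsg.Agent.S0735
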