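import Cfsg.Statements.S0738
import Cfsg.Agent.RankOne.StabOrder

set_option autoImplicit false
open Cfsg
open Cfsg.Lib.OddChar.Zassenhaus MulAction

namespace Cfsg.Agent.S0738

/-- Let a finite Zassenhaus group of degree `n + 1` have two-point stabilisers of order `d` with `2d ≥ n - 1`. Then a normal subgroup of a point stabiliser acting regularly on the remaining points is elementary abelian, and the degree is a prime power plus one. -/
theorem result {G Ω : Type*} [Group G] [Finite G] [MulAction G Ω] [Fintype Ω] (hZ : Cfsg.IsZassenhausGroup G Ω) {a b : Ω} (hab : a ≠ b) (hd : Fintype.card Ω - 2 ≤ 2 * Nat.card ↥(MulAction.stabilizer G a ⊓ MulAction.stabilizer G b)) (F : Subgroup G) (hFle : F ≤ MulAction.stabilizer G a) (hFn : (F.subgroupOf (MulAction.stabilizer G a)).Normal) (hreg : ∀ y z : Ω, y ≠ a → z ≠ a → ∃! u : F, (u : G) • y = z) : IsMulCommutative F ∧ ∃ p f : ℕ, p.Prime ∧ (∀ u ∈ F, u ^ p = 1) ∧ Fintype.card Ω = p ^ f + 1 := by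
  classical
  have hcard : Nat.card F + 1 = Fintype.card Ω := by
    have e : Nat.card F = Nat.card {y : Ω // y ≠ a} := by
      refine Nat.card_eq_of_bijective (fun u : F => (⟨(u : G) • b, fun h => hab.symm
        (smul_left_cancel (u : G) (h.trans (hFle u.2).symm))⟩ : {y : Ω // y ≠ a})) ⟨?_, ?_⟩
      · intro u v huv
        exact (hreg b ((v : G) • b) hab.symm (fun h => hab.symm
          (smul_left_cancel (v : G) (h.trans (hFle v.2).symm)))).unique (congrArg Subtype.val huv) rfl
      · intro y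
        obtain ⟨u, hu, -⟩ := hreg b y hab.symm y.2
        exact ⟨u, Subtype.ext hu⟩
    rw [e, Nat.card_eq_fintype_card, Fintype.card_subtype_compl, Fintype.card_subtype_eq]
    have : 0 < Fintype.card Ω := Fintype.card_pos_iff.2 ⟨a⟩
    omega
  have hfix : ∀ u ∈ F, u ≠ 1 → ∀ c : Ω, u • c = c → c = a := by
    intro u hu hu1 c hc
    by_contra hca
    exact hu1 (congrArg Subtype.val ((hreg c c hca hca).unique (y₁ := ⟨u, hu⟩) (y₂ := 1) hc (one_smul G c)))
  obtain ⟨hc, p, f, hp, -, hexp, hcf⟩ := Cfsg.Lib.RankOne.kernel_elementary hZ hab hd hFle hcard hfix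
  exact ⟨hc, p, f, hp, hexp, by omega⟩

end Cfsg.Agent.S0738
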