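import Cfsg.Statements.S0739
import Cfsg.Agent.RankOne.StabOrder

set_option autoImplicit false
open Cfsg
open Cfsg.Lib.OddChar.Zassenhaus MulAction

namespace Cfsg.Agent.S0739

/-- In a finite Zassenhaus group whose two-point stabiliser `H = G_{a,b}` has odd order `d`, and which has no normal `q`-complement for any prime `q ∣ d`, `H` is cyclic, `C_G(H) = H`, and every element swapping `a` and `b` inverts each element of `H`. -/
theorem result {G Ω : Type*} [Group G] [Finite G] [MulAction G Ω] [Fintype Ω] (hZ : Cfsg.IsZassenhausGroup G Ω) {a b : Ω} (hab : a ≠ b) (hodd : Odd (Nat.card ↥(MulAction.stabilizer G a ⊓ MulAction.stabilizer G b))) (hnil : ∀ q : ℕ, q.Prime → q ∣ Nat.card ↥(MulAction.stabilizer G a ⊓ MulAction.stabilizer G b) → ¬ ∃ N : Subgroup G, N.Normal ∧ N.index = q ^ (Nat.card G).factorization q) : IsCyclic ↥(MulAction.stabilizer G a ⊓ MulAction.stabilizer G b) ∧ Subgroup.centralizer ((MulAction.stabilizer G a ⊓ MulAction.stabilizer G b : Subgroup G) : Set G) =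 MulAction.stabilizer G a ⊓ MulAction.stabilizer G b ∧ ∀ s : G, s • a = b → s • b = a → ∀ h ∈ MulAction.stabilizer G a ⊓ MulAction.stabilizer G b, s * h * s⁻¹ = h⁻¹ := by
  classical
  obtain ⟨h, hh⟩ : ∃ h, Fintype.card Ω = h + 1 :=
    ⟨_, (Nat.sub_add_cancel (Fintype.card_pos_iff.mpr ⟨a⟩)).symm⟩
  have hh2 := two_le hZ hab hh
  obtain ⟨H, hHa, hHc, hHf⟩ := exists_kernel hZ hab
  have hn := kernel_normal hZ hab hh hHa hHc hHf
  obtain ⟨hcomm, hswap⟩ := structure₂_of_mem hZ hab hh hodd hHa hHc hHf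
    (Cfsg.Lib.RankOne.stab₂_le_commutator hZ hab hodd hnil)
  set E : Subgroup G := stabilizer G a ⊓ stabilizer G b with hE
  have hinv : ∀ s : G, s • a = b → s • b = a → ∀ h ∈ E, s * h * s⁻¹ = h⁻¹ := by
    intro s hsa hsb x hx
    obtain ⟨hs2, hs⟩ := hswap s hsa hsb
    have h1 : s⁻¹ = s := inv_eq_of_mul_eq_one_right hs2
    have h2 := hs x hx
    rw [h1] at h2 ⊢
    exact h2
  have : IsMulCommutative E := ⟨⟨fun x y => Subtype.ext (hcomm x x.2 y y.2)⟩⟩
  refine ⟨?_, le_antisymm ?_ fun x hx => Subgroup.mem_centralizer_iff.2 fun y hy => hcomm y hy x hx, hinv⟩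
  · exact (fpf hab hZ hHa hHf).isCyclic_of_comm
      (fun x hx => Subgroup.mem_normalizer_fintype fun u hu => hn x hx.1 u hu)
      (fun h' => by rw [h', Subgroup.card_bot] at hHc; omega)
  · intro x hx
    obtain ⟨g, hg1⟩ : ∃ g : E, g ≠ 1 := by
      have h1 := stab₂_ne_bot hZ hab
      rw [Finite.one_lt_card_iff_nontrivial] at h1
      exact @exists_ne _ h1 1
    have hgne : (g : G) ≠ 1 := fun h' => hg1 (Subtype.ext h')
    have hga : (g : G) • a = a := (Subgroup.mem_inf.1 g.2).1
    have hgb : (g : G) • b = b := (Subgroup.mem_inf.1 g.2).2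
    have hfix : ∀ c : Ω, (g : G) • c = c → c = a ∨ c = b := fun c hc => by
      by_contra hcon
      push Not at hcon
      exact hgne (eq_one_of_three hZ hab hcon.1 hcon.2 hga hgb hc)
    have hcx : (g : G) * x = x * g := Subgroup.mem_centralizer_iff.1 hx g g.2
    have hxa := hfix (x • a) (by rw [← mul_smul, hcx, mul_smul, hga])
    have hxb := hfix (x • b) (by rw [← mul_smul, hcx, mul_smul, hgb])
    rcases hxa with h1 | h1
    · refine Subgroup.mem_inf.2 ⟨h1, ?_⟩
      exact hxb.resolve_left fun h' => hab (smul_left_cancel x (h1.trans h'.symm))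
    · exfalso
      have h2 : x • b = a := hxb.resolve_right fun h' => hab (smul_left_cancel x (h1.trans h'.symm))
      have h3 := hinv x h1 h2 g g.2
      rw [← hcx, mul_inv_cancel_right] at h3
      refine hg1 (orderOf_eq_one_iff.1 (Nat.eq_one_of_dvd_coprimes
        (Nat.prime_two.coprime_iff_not_dvd.mpr hodd.not_two_dvd_nat)
        (orderOf_dvd_of_pow_eq_one (x := g) (n := 2) (Subtype.ext ?_)) (orderOf_dvd_natCard g)))
      show (g : G) ^ 2 = 1
      rw [sq]
      nth_rewrite 2 [h3]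
      exact mul_inv_cancel _

end Cfsg.Agent.S0739
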