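import Cfsg.Statements.S0742
import Cfsg.Agent.RankOne.ZassenhausPSL

set_option autoImplicit false
open Cfsg
open Cfsg.Lib.OddChar.Zassenhaus MulAction

namespace Cfsg.Agent.S0742

/-- A finite Zassenhaus group of degree `n + 1` with two-point stabilisers of even order `d` satisfying `2d ≤ n - 1` has `n = p^f` for an odd prime `p` and is isomorphic to `PSL(2, p^f)`. -/
theorem result {G Ω : Type*} [Group G] [Finite G] [MulAction G Ω] [Fintype Ω] (hZ : Cfsg.IsZassenhausGroup G Ω) {a b : Ω} (hab : a ≠ b) (heven : Even (Nat.card ↥(MulAction.stabilizer G a ⊓ MulAction.stabilizer G b))) (hd : 2 * Nat.card ↥(MulAction.stabilizer G a ⊓ MulAction.stabilizer G b) ≤ Fintype.card Ω - 2) : ∃ (p f : ℕ) (K : Type) (_ : Field K) (_ : Fintype K), p.Prime ∧ p ≠ 2 ∧ Fintype.card K = p ^ f ∧ Fintype.card Ω = p ^ f + 1 ∧ Nonempty (G ≃* Matrix.ProjectiveSpecialLinearGroup (Fin 2) K) := by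
  classical
  obtain ⟨H, hHa, hHc, hHf⟩ := exists_kernel hZ hab
  have hle := Cfsg.Lib.RankOne.le_two_mul_of_even hZ hab heven
  obtain ⟨hc, p, f, hp, hf, -, hcard⟩ := Cfsg.Lib.RankOne.kernel_elementary hZ hab hle hHa hHc hHf
  have hh2 := two_le hZ hab (h := Fintype.card Ω - 1) (by
    have : 0 < Fintype.card Ω := Fintype.card_pos_iff.2 ⟨a⟩
    omega)
  obtain ⟨K, iK, iK', hK, hchar, hiso⟩ := Cfsg.Lib.RankOne.zassenhaus_psl hZ hab (by
    show 2 * Nat.card ↥(stabilizer G a ⊓ stabilizer G b : Subgroup G) + 2 = Fintype.card Ω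
    change Fintype.card Ω - 2 ≤ 2 * Nat.card ↥(stabilizer G a ⊓ stabilizer G b : Subgroup G) at hle
    omega) hHa hHc hHf hc
  refine ⟨p, f, K, iK, iK', hp, ?_, by rw [hK, hcard], by omega, hiso⟩
  rintro rfl
  refine hchar (FiniteField.even_card_iff_char_two.2 ?_)
  rw [hK, hcard, Nat.pow_mod]
  simp [hf.ne']

end Cfsg.Agent.S0742
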