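import Cfsg.Statements.S0751
import Mathlib
import Cfsg.Agent.Classical.Misc.Witt

set_option autoImplicit false
open Cfsg

namespace Cfsg.Agent.S0751

/-- Witt's Lemma for Hermitian forms. Let σ be a non-identity involutive automorphism of a finite field F and B a non-degenerate σ-sesquilinear form on a finite-dimensional F-space V which is conjugate-symmetric (σ (B x y) = B y x). Then every linear equivalence between subspaces X, Y of V preserving B extends to a B-preserving linear automorphism of V. -/
theorem result {F V : Type*} [Field F] [Finite F] [AddCommGroup V] [Module F V] [FiniteDimensional F V] (σ : F →+* F) (hσ : σ ≠ RingHom.id F) (hσ2 : ∀ a : F, σ (σ a) = a) (B : V →ₛₗ[σ] V →ₗ[F] F) (hS : B.IsSymm) (hB : B.Nondegenerate) (X Y : Submodule F V) (φ : X ≃ₗ[F] Y) (hφ : ∀ x x' : X, B (φ x : V) (φ x' : V) = B (x : V) (x' : V)) : ∃ g : V ≃ₗ[F] V, (∀ u v : V, B (g u) (g v) = B u v) ∧ ∀ x : X, g (x : V) = (φ x : V) := by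
  have hne : ∃ a, σ a ≠ a := by
    by_contra hc
    push Not at hc
    exact hσ (RingHom.ext hc)
  let H : Cfsg.Lib.Classical.HermSpace F V :=
    { σ := σ
      h := fun x y => B y x
      conj := ⟨hσ2, hne⟩
      add_left := fun x y z => map_add (B z) x y
      smul_left := fun c x z => map_smul (B z) c x
      symm := fun x y => (hS.eq x y).symm
      nondeg := fun v hv => hB.1 v hv }
  obtain ⟨g, hg⟩ := H.witt X Y φ fun x x' => hφ x' x
  exact ⟨g.1, fun u v => g.2 v u, hg⟩

end Cfsg.Agent.S0751
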