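import Cfsg.Statements.S0753
import Mathlib

set_option autoImplicit false
open Cfsg

namespace Cfsg.Agent.S0753

/-- If σ is a ring endomorphism of the field F other than the identity and B is a σ-sesquilinear conjugate-symmetric form with B v v = 0 for every v, then B = 0. -/
theorem result {F V : Type*} [Field F] [AddCommGroup V] [Module F V] (σ : F →+* F) (hσ : σ ≠ RingHom.id F) (B : V →ₛₗ[σ] V →ₗ[F] F) (hS : B.IsSymm) (h0 : ∀ v : V, B v v = 0) : B = 0 := by
  have hB : ∀ u v, σ (B u v) = B v u := fun u v => hS.eq u v
  have halt : ∀ u v, B v u = - B u v := by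
    intro u v
    have h := h0 (u + v)
    simp only [map_add, LinearMap.add_apply, h0, zero_add, add_zero] at h
    linear_combination h
  ext u v
  by_contra hne
  change B u v ≠ 0 at hne
  apply hσ
  ext c
  have h1 : σ (B u (c • v)) = - B u (c • v) := by rw [hB, halt]
  rw [map_smul, smul_eq_mul, map_mul, hB, halt] at h1
  have : (σ c - c) * B u v = 0 := by linear_combination -h1
  rcases mul_eq_zero.mp this with h | h
  · simpa [sub_eq_zero] using h
  · exact absurd h hne

end Cfsg.Agent.S0753
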