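import Cfsg.Statements.S0754
import Mathlib

set_option autoImplicit false
open Cfsg

namespace Cfsg.Agent.S0754

/-- In a field F with q^2 elements, every non-zero μ with μ^q = μ (that is, μ in the subfield of order q) has exactly q + 1 solutions λ of λ^(q+1) = μ. -/
theorem result {F : Type*} [Field F] [Fintype F] {q : ℕ} (hF : Fintype.card F = q ^ 2) (μ : F) (hμ : μ ≠ 0) (hμq : μ ^ q = μ) : Nat.card {x : F // x ^ (q + 1) = μ} = q + 1 := by
  classical
  have hq0 : q ≠ 0 := by
    rintro rfl
    simp [Fintype.card_ne_zero] at hF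
  have hq2 : 1 < q := by
    by_contra h
    interval_cases q
    · exact hq0 rfl
    · exact absurd hF (Nat.ne_of_gt (by simpa using Fintype.one_lt_card))
  have hcard : Nat.card Fˣ = (q + 1) * (q - 1) := by
    rw [Nat.card_units, Nat.card_eq_fintype_card, hF, ← Nat.sq_sub_sq, one_pow]
  let f : Fˣ →* Fˣ := powMonoidHom (q + 1)
  let g : Fˣ →* Fˣ := powMonoidHom (q - 1)
  have hkf : Nat.card f.ker = q + 1 := by
    rw [IsCyclic.card_powMonoidHom_ker, hcard, Nat.gcd_eq_right (dvd_mul_right _ _)]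
  have hkg : Nat.card g.ker = q - 1 := by
    rw [IsCyclic.card_powMonoidHom_ker, hcard, Nat.gcd_eq_right (dvd_mul_left _ _)]
  have hrf : Nat.card f.range = q - 1 := by
    have h := f.ker.card_mul_index
    rw [Subgroup.index_ker, hkf, hcard] at h
    exact Nat.eq_of_mul_eq_mul_left (by omega) h
  have heq : f.range = g.ker := by
    refine Subgroup.eq_of_le_of_card_ge ?_ (by rw [hrf, hkg])
    rintro _ ⟨x, rfl⟩
    show (x ^ (q + 1)) ^ (q - 1) = 1
    rw [← pow_mul, ← hcard]
    exact pow_card_eq_one'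
  obtain ⟨x₀, hx₀⟩ : Units.mk0 μ hμ ∈ f.range := by
    rw [heq]
    show (Units.mk0 μ hμ) ^ (q - 1) = 1
    apply mul_right_cancel (b := Units.mk0 μ hμ)
    rw [← pow_succ, one_mul, Nat.sub_add_cancel (by omega)]
    exact Units.ext (by simpa using hμq)
  refine (Nat.card_congr ?_).trans hkf
  refine
    { toFun := fun x => ⟨Units.mk0 x.1 (fun h => hμ (by rw [← x.2, h, zero_pow (by omega)])) * x₀⁻¹, ?_⟩
      invFun := fun k => ⟨((k.1 * x₀ : Fˣ) : F), ?_⟩
      left_inv := fun x => Subtype.ext (by simp)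
      right_inv := fun k => Subtype.ext (Units.ext (by simp)) }
  · rw [MonoidHom.mem_ker, map_mul, map_inv, hx₀, mul_inv_eq_one]
    exact Units.ext x.2
  · have := congrArg Units.val (show f (k.1 * x₀) = Units.mk0 μ hμ by rw [map_mul, k.2, one_mul, hx₀])
    simpa [f] using this

end Cfsg.Agent.S0754
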