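import Cfsg.Statements.S0755
import Mathlib
import Cfsg.Agent.Classical.Unitary.Basic

set_option autoImplicit false
open Cfsg

namespace Cfsg.Agent.S0755

/-- Classification of Hermitian forms over finite fields: if σ is a non-identity involutive automorphism of the finite field F and B is a non-degenerate conjugate-symmetric σ-sesquilinear form on the finite-dimensional space V, then V has a B-orthonormal basis. -/
theorem result {F V : Type*} [Field F] [Finite F] [AddCommGroup V] [Module F V] [FiniteDimensional F V] (σ : F →+* F) (hσ : σ ≠ RingHom.id F) (hσ2 : ∀ a : F, σ (σ a) = a) (B : V →ₛₗ[σ] V →ₗ[F] F) (hS : B.IsSymm) (hB : B.Nondegenerate) : ∃ b : Module.Basis (Fin (Module.finrank F V)) F V, ∀ i j, B (b i) (b j) = if i = j then 1 else 0 := by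
  let H : Cfsg.Lib.Classical.HermSpace F V :=
    { σ := σ
      h := fun x y => B y x
      conj := ⟨hσ2, by
        by_contra h
        push Not at h
        exact hσ (RingHom.ext h)⟩
      add_left := fun x y z => map_add (B z) x y
      smul_left := fun c x z => map_smul (B z) c x
      symm := fun x y => (hS.eq x y).symm
      nondeg := fun v hv => hB.1 v hv }
  obtain ⟨b, hb⟩ := H.exists_orthonormal
  refine ⟨b, fun i j => ?_⟩
  rw [show B (b i) (b j) = H.h (b j) (b i) from rfl, hb]
  by_cases h : i = j
  · subst h; simp
  · rw [if_neg h, if_neg (Ne.symm h)]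

end Cfsg.Agent.S0755
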