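import Cfsg.Statements.S0758
import Mathlib

set_option autoImplicit false
open Cfsg

namespace Cfsg.Agent.S0758

/-- For a finite field F of odd order q and a non-square α: the form x² + y² is isotropic iff q ≡ 1 mod 4, and the form x² + α y² is isotropic iff q ≡ 3 mod 4. -/
theorem result {F : Type*} [Field F] [Fintype F] (h2 : (2 : F) ≠ 0) (α : F) (hα : ¬ IsSquare α) : ((∃ x y : F, (x ≠ 0 ∨ y ≠ 0) ∧ x ^ 2 + y ^ 2 = 0) ↔ Fintype.card F % 4 = 1) ∧ ((∃ x y : F, (x ≠ 0 ∨ y ≠ 0) ∧ x ^ 2 + α * y ^ 2 = 0) ↔ Fintype.card F % 4 = 3) := by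
  classical
  have hc : ringChar F ≠ 2 := fun h => h2 (by haveI := ringChar.of_eq h; exact CharTwo.two_eq_zero)
  have hodd : Fintype.card F % 2 = 1 := FiniteField.odd_card_of_char_ne_two hc
  have hα0 : α ≠ 0 := fun h => hα (h ▸ IsSquare.zero)
  have key : ∀ β : F, β ≠ 0 → ((∃ x y : F, (x ≠ 0 ∨ y ≠ 0) ∧ x ^ 2 + β * y ^ 2 = 0) ↔ IsSquare (-β)) := by
    intro β hβ
    constructor
    · rintro ⟨x, y, hxy, h⟩
      have hy : y ≠ 0 := by
        rintro rfl
        simp at h hxy
        exact hxy h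
      exact ⟨x / y, by field_simp; linear_combination -h⟩
    · rintro ⟨r, hr⟩
      exact ⟨r, 1, Or.inr one_ne_zero, by linear_combination -hr⟩
  have hm1 := FiniteField.isSquare_neg_one_iff (F := F)
  refine ⟨?_, ?_⟩
  · have := key 1 one_ne_zero
    simp only [one_mul] at this
    rw [this, hm1]
    omega
  · rw [key α hα0]
    constructor
    · intro hs
      by_contra h
      obtain ⟨r, hr⟩ := hm1.mpr h
      obtain ⟨s, hs⟩ := hs
      apply hα
      refine ⟨r * s, ?_⟩
      have hr0 : r ≠ 0 := fun h => one_ne_zero (α := F) (by rw [h] at hr; simpa using hr)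
      calc α = (-1) * (-α) := by ring
        _ = r * r * (s * s) := by rw [hr, hs]
        _ = r * s * (r * s) := by ring
    · intro h
      have hn1 : ¬ IsSquare (-1 : F) := fun hh => hm1.mp hh h
      have h1 := (quadraticChar_neg_one_iff_not_isSquare).mpr hn1
      have h2' := (quadraticChar_neg_one_iff_not_isSquare).mpr hα
      rw [← quadraticChar_one_iff_isSquare (neg_ne_zero.mpr hα0), ← neg_one_mul, map_mul, h1, h2']
      norm_num

end Cfsg.Agent.S0758
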