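import Cfsg.Statements.S0761
import Mathlib
import Cfsg.Agent.Classical.Symp.Basic

set_option autoImplicit false
open Cfsg

namespace Cfsg.Agent.S0761

/-- Hyperbolic partners: let B be a non-degenerate bilinear form on a finite-dimensional space, either alternating, or symmetric with 2 ≠ 0. If Z is a subspace on which B vanishes, x ∉ Z is isotropic and orthogonal to Z, then there is an isotropic y with B x y = 1 which is orthogonal to Z. -/
theorem result {F V : Type*} [Field F] [AddCommGroup V] [Module F V] [FiniteDimensional F V] (B : LinearMap.BilinForm F V) (hB : B.Nondegenerate) (hform : B.IsAlt ∨ (B.IsSymm ∧ (2 : F) ≠ 0)) (x : V) (Z : Submodule F V) (hxZ : x ∉ Z) (hx : B x x = 0) (hxz : ∀ z ∈ Z, B x z = 0) (hZ : ∀ z ∈ Z, ∀ z' ∈ Z, B z z' = 0) : ∃ y : V, B y y = 0 ∧ B x y = 1 ∧ ∀ z ∈ Z, B z y = 0 := by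
  have hr : B.IsRefl := by
    rcases hform with hA | ⟨hS, -⟩
    · exact hA.isRefl
    · exact hS.isRefl
  obtain ⟨d, hd, hdx⟩ : ∃ d ∈ B.orthogonal Z, B x d ≠ 0 := by
    by_contra hc
    push Not at hc
    apply hxZ
    rw [← LinearMap.BilinForm.orthogonal_orthogonal hB hr Z]
    intro d hd
    exact hr _ _ (hc d hd)
  set u := (B x d)⁻¹ • d with hu
  have hxu : B x u = 1 := by simp [hu, hdx]
  have hzu : ∀ z ∈ Z, B z u = 0 := fun z hz => by
    have hzd : B z d = 0 := hd z hz
    simp [hu, hzd]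
  rcases hform with hA | ⟨hS, h2⟩
  · exact ⟨u, hA u, hxu, hzu⟩
  · refine ⟨u + (-(B u u) / 2) • x, ?_, ?_, fun z hz => ?_⟩
    · have hux : B u x = 1 := by rw [← hxu]; exact hS.eq u x
      simp only [map_add, map_smul, LinearMap.add_apply, LinearMap.smul_apply, smul_eq_mul, hux, hxu, hx]
      field_simp
      ring
    · simp [hxu, hx]
    · simp [hzu z hz, hr _ _ (hxz z hz)]

end Cfsg.Agent.S0761
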