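import Cfsg.Statements.S0762
import Mathlib

set_option autoImplicit false
open Cfsg

namespace Cfsg.Agent.S0762

/-- In characteristic two over a finite field, a quadratic form on a space of dimension at least 3 vanishes on some non-zero vector. -/
theorem result {F V : Type*} [Field F] [Finite F] [CharP F 2] [AddCommGroup V] [Module F V] [FiniteDimensional F V] (Q : QuadraticForm F V) (h3 : 3 ≤ Module.finrank F V) : ∃ v : V, v ≠ 0 ∧ Q v = 0 := by
  classical
  have : FiniteDimensional F V := inferInstance
  obtain ⟨e, he⟩ : ∃ e : V, e ≠ 0 := by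
    haveI : Nontrivial V := Module.nontrivial_of_finrank_pos (R := F) (by omega)
    exact exists_ne 0
  by_cases hQe : Q e = 0
  · exact ⟨e, he, hQe⟩
  let φ : V →ₗ[F] F := QuadraticMap.polarBilin Q e
  have hk : 2 ≤ Module.finrank F (LinearMap.ker φ) := by
    have h1 := φ.finrank_range_add_finrank_ker
    have h2 : Module.finrank F (LinearMap.range φ) ≤ 1 := by
      simpa using Submodule.finrank_le (LinearMap.range φ)
    omega
  obtain ⟨w, hw, hwe⟩ : ∃ w ∈ LinearMap.ker φ, w ∉ Submodule.span F {e} := by
    by_contra hh
    push Not at hh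
    have := Submodule.finrank_mono (s := LinearMap.ker φ) (t := Submodule.span F {e}) hh
    rw [finrank_span_singleton he] at this
    omega
  haveI : Fintype F := Fintype.ofFinite F
  obtain ⟨c, hc⟩ := FiniteField.isSquare_of_char_two (ringChar.eq F 2) (Q w / Q e)
  refine ⟨w + c • e, fun h => hwe ?_, ?_⟩
  · rw [show w = -(c • e) from eq_neg_of_add_eq_zero_left h]
    exact neg_mem (Submodule.smul_mem _ _ (Submodule.subset_span rfl))
  · have hpol : QuadraticMap.polar Q w e = 0 := by
      rw [QuadraticMap.polar_comm]; exact hw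
    rw [QuadraticMap.map_add (f := Q), QuadraticMap.map_smul, QuadraticMap.polar_smul_right, hpol, smul_zero,
      add_zero, smul_eq_mul, ← hc, div_mul_cancel₀ _ hQe, CharTwo.add_self_eq_zero]

end Cfsg.Agent.S0762
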