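import Cfsg.Statements.S0763
import Mathlib

set_option autoImplicit false
open Cfsg

namespace Cfsg.Agent.S0763

/-- Binary quadratic forms in characteristic two over a finite field: if Q is a quadratic form on a 2-dimensional space whose polar form is non-degenerate, then either there are vectors v, w with Q v = Q w = 0 and polar value 1 (Q is xy in these coordinates), or there are v, w and μ with Q v = 1, Q w = μ, polar value 1 and x² + x + μ without roots in F (Q is x² + xy + μy²). -/
theorem result {F V : Type*} [Field F] [Finite F] [CharP F 2] [AddCommGroup V] [Module F V] (Q : QuadraticForm F V) (h2 : Module.finrank F V = 2) (hQ : (QuadraticMap.polarBilin Q).Nondegenerate) : (∃ v w : V, LinearIndependent F ![v, w] ∧ Q v = 0 ∧ Q w = 0 ∧ QuadraticMap.polar Q v w = 1) ∨ (∃ (v w : V) (μ : F), LinearIndependent F ![v, w] ∧ (∀ x : F, x ^ 2 + x + μ ≠ 0) ∧ Q v = 1 ∧ Q w = μ ∧ QuadraticMap.polar Q v w = 1) := by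
  classical
  letI : Fintype F := Fintype.ofFinite F
  haveI : Module.Finite F V := Module.finite_of_finrank_eq_succ (n := 1) h2
  have h20 : (2 : F) = 0 := CharTwo.two_eq_zero
  have hself : ∀ x, QuadraticMap.polar Q x x = 0 := fun x => by
    rw [QuadraticMap.polar_self, two_nsmul, CharTwo.add_self_eq_zero]
  have hval : ∀ (a : F) (v w : V), Q (a • v + w) = a * a * Q v + Q w + a * QuadraticMap.polar Q v w := fun a v w => by
    rw [QuadraticMap.map_add (⇑Q), QuadraticMap.map_smul, QuadraticMap.polar_smul_left, smul_eq_mul, smul_eq_mul]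
  have hpartner : ∀ v : V, v ≠ 0 → ∃ w, QuadraticMap.polar Q v w = 1 := fun v hv => by
    obtain ⟨w, hw⟩ : ∃ w, QuadraticMap.polar Q v w ≠ 0 := by
      by_contra hc
      push Not at hc
      exact hv (hQ.1 v fun y => hc y)
    exact ⟨(QuadraticMap.polar Q v w)⁻¹ • w, by rw [QuadraticMap.polar_smul_right, smul_eq_mul, inv_mul_cancel₀ hw]⟩
  have hli : ∀ v w : V, v ≠ 0 → QuadraticMap.polar Q v w = 1 → LinearIndependent F ![v, w] := fun v w hv h => by
    rw [LinearIndependent.pair_iff]
    intro a b hab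
    have e := congrArg (QuadraticMap.polar Q v) hab
    rw [QuadraticMap.polar_add_right, QuadraticMap.polar_smul_right, QuadraticMap.polar_smul_right, hself, h,
      smul_zero, zero_add, smul_eq_mul, mul_one, QuadraticMap.polar_zero_right] at e
    subst e
    rw [zero_smul, add_zero] at hab
    exact ⟨(smul_eq_zero.mp hab).resolve_right hv, rfl⟩
  by_cases hiso : ∃ v : V, v ≠ 0 ∧ Q v = 0
  · obtain ⟨v, hv, hQv⟩ := hiso
    obtain ⟨w, hw⟩ := hpartner v hv
    refine Or.inl ⟨v, Q w • v + w, hli v _ hv ?_, hQv, ?_, ?_⟩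
    · rw [QuadraticMap.polar_add_right, QuadraticMap.polar_smul_right, hself, smul_zero, zero_add, hw]
    · rw [hval, hQv, hw, mul_zero, zero_add, mul_one, CharTwo.add_self_eq_zero]
    · rw [QuadraticMap.polar_add_right, QuadraticMap.polar_smul_right, hself, smul_zero, zero_add, hw]
  push Not at hiso
  obtain ⟨u, hu⟩ := Module.finrank_pos_iff_exists_ne_zero.mp (show 0 < Module.finrank F V by omega)
  obtain ⟨c, hc⟩ := FiniteField.isSquare_of_char_two (F := F) (ringChar.eq F 2) (Q u)⁻¹
  have hc0 : c ≠ 0 := fun h => by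
    rw [h, mul_zero] at hc
    exact hiso u hu (inv_eq_zero.mp hc)
  obtain ⟨w, hw⟩ := hpartner (c • u) (smul_ne_zero hc0 hu)
  have hv1 : Q (c • u) = 1 := by
    rw [QuadraticMap.map_smul, smul_eq_mul, ← hc, inv_mul_cancel₀ (hiso u hu)]
  refine Or.inr ⟨c • u, w, Q w, hli _ _ (smul_ne_zero hc0 hu) hw, fun x hx => ?_, hv1, rfl, hw⟩
  refine hiso (x • (c • u) + w) (fun h => ?_) ?_
  · exact one_ne_zero ((LinearIndependent.pair_iff.mp (hli _ _ (smul_ne_zero hc0 hu) hw)) x 1 (by rw [one_smul]; exact h)).2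
  · rw [hval, hv1, hw]
    linear_combination hx

end Cfsg.Agent.S0763
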