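import Cfsg.Statements.S0767
import Mathlib
import Cfsg.Agent.Classical.Symp.Matrix

set_option autoImplicit false
open Cfsg

namespace Cfsg.Agent.S0767

/-- The root group of a point: T_v(c) T_v(d) = T_v(c + d), and for A in the symplectic group with A v = a v, the conjugate A T_v(c) A⁻¹ is again some T_v(d). -/
theorem result {F : Type*} [Field F] (m : ℕ) (v : Fin m ⊕ Fin m → F) : (∀ c d : F, Cfsg.sympTransvection m v c * Cfsg.sympTransvection m v d = Cfsg.sympTransvection m v (c + d)) ∧ ∀ (A : Matrix (Fin m ⊕ Fin m) (Fin m ⊕ Fin m) F) (a : F), A ∈ Matrix.symplecticGroup (Fin m) F → A.mulVec v = a • v → ∀ c : F, ∃ d : F, A * Cfsg.sympTransvection m v c * A⁻¹ = Cfsg.sympTransvection m v d := by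
  constructor
  · intro c d
    rw [Cfsg.Lib.Classical.sympTransvection_eq, Cfsg.Lib.Classical.sympTransvection_eq,
      Cfsg.Lib.Classical.sympTransvection_eq, ← Submonoid.coe_mul, ← map_mul,
      ← Cfsg.Lib.Classical.sympT_add]
  · intro A a hA hv c
    refine ⟨a ^ 2 * c, ?_⟩
    have hA' := Cfsg.Lib.Classical.sympT_conj (Cfsg.Lib.Classical.sympBilin_isAlt m F)
      (Cfsg.Lib.Classical.sympEquiv m F ⟨A, hA⟩) v c
    rw [Cfsg.Lib.Classical.sympEquiv_apply, hv, Cfsg.Lib.Classical.sympT_smul] at hA'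
    rw [Cfsg.Lib.Classical.sympTransvection_eq, Cfsg.Lib.Classical.sympTransvection_eq, ← hA',
      map_mul, map_mul, map_inv, MulEquiv.symm_apply_apply, Submonoid.coe_mul, Submonoid.coe_mul,
      SymplecticGroup.coe_inv']

end Cfsg.Agent.S0767
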