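import Cfsg.Statements.S0768
import Mathlib
import Cfsg.Agent.Classical.Symp.Matrix

set_option autoImplicit false
open scoped LinearAlgebra.Projectivization
open Cfsg

namespace Cfsg.Agent.S0768

/-- Primitivity: for m ≥ 1 and F finite, the symplectic group of the form sympForm (as a subgroup of the general linear group) acts primitively on the projective space of F^(2m). -/
theorem result {F : Type*} [Field F] [Finite F] (m : ℕ) (hm : 1 ≤ m) : MulAction.IsPreprimitive ↥(Cfsg.spGL m F) (ℙ F (Fin m ⊕ Fin m → F)) := by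
  haveI : Nontrivial (Fin m ⊕ Fin m → F) := Cfsg.Lib.Classical.nontrivial_sympSpace hm
  have hmem : ∀ g : Cfsg.Lib.Classical.BilinIsom (Cfsg.Lib.Classical.sympBilin m F),
      (Matrix.GeneralLinearGroup.toLin.symm (LinearMap.GeneralLinearGroup.ofLinearEquiv g.1) :
        Matrix.GeneralLinearGroup (Fin m ⊕ Fin m) F) ∈ Cfsg.spGL m F := by
    intro g u v
    have hmul : ∀ w, (Cfsg.glToMat (Fin m ⊕ Fin m) F (Matrix.GeneralLinearGroup.toLin.symm
        (LinearMap.GeneralLinearGroup.ofLinearEquiv g.1))).mulVec w = g.1 w := fun w =>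
      LinearMap.toMatrix'_mulVec _ w
    rw [hmul, hmul, ← Cfsg.Lib.Classical.sympBilin_eq_sympForm, ← Cfsg.Lib.Classical.sympBilin_eq_sympForm,
      Cfsg.Lib.Classical.BilinIsom.map_form]
  haveI := Cfsg.Lib.Classical.bilinIsom_primitive (Cfsg.Lib.Classical.sympBilin_isAlt m F)
    (Cfsg.Lib.Classical.sympBilin_nondegenerate m F)
  let φ : Cfsg.Lib.Classical.BilinIsom (Cfsg.Lib.Classical.sympBilin m F) → Cfsg.spGL m F := fun g => ⟨_, hmem g⟩
  let f : (ℙ F (Fin m ⊕ Fin m → F)) →ₑ[φ] (ℙ F (Fin m ⊕ Fin m → F)) :=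
    { toFun := id
      map_smul' := fun g p => by
        induction p using Projectivization.ind with | h x hx => ?_
        simp only [id_eq]
        rw [Cfsg.Lib.Classical.bilinIsom_smul_mk]
        symm
        change Projectivization.mk F _ _ = _
        rw [Projectivization.mk_eq_mk_iff']
        refine ⟨1, ?_⟩
        rw [one_smul]
        exact (LinearMap.toMatrix'_mulVec _ x).symm }
  exact MulAction.IsPreprimitive.of_surjective (f := f) Function.surjective_id

end Cfsg.Agent.S0768
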