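import Cfsg.Statements.S0770
import Mathlib

set_option autoImplicit false
open Cfsg

namespace Cfsg.Agent.S0770

/-- For a field with at least 3 elements, an invertible matrix normalises the subgroup of invertible diagonal matrices of GL_n if and only if it is monomial (exactly one non-zero entry in each row). -/
theorem result {F : Type*} [Field F] (hF : ∃ a : F, a ≠ 0 ∧ a ≠ 1) (n : ℕ) (g : Matrix.GeneralLinearGroup (Fin n) F) : g ∈ Subgroup.normalizer ((Units.map (Matrix.diagonalRingHom (Fin n) F).toMonoidHom).range : Subgroup (Matrix.GeneralLinearGroup (Fin n) F)) ↔ ∀ i : Fin n, ∃! j : Fin n, (g : Matrix (Fin n) (Fin n) F) i j ≠ 0 := by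
  classical
  set D := ((Units.map (Matrix.diagonalRingHom (Fin n) F).toMonoidHom).range :
    Subgroup (Matrix.GeneralLinearGroup (Fin n) F)) with hD
  set M := (g : Matrix (Fin n) (Fin n) F)
  have hrow : ∀ i, ∃ j, M i j ≠ 0 := fun i => by
    by_contra hc
    push Not at hc
    exact Matrix.GeneralLinearGroup.det_ne_zero g (Matrix.det_eq_zero_of_row_eq_zero i hc)
  have hcol : ∀ j, ∃ i, M i j ≠ 0 := fun j => by
    by_contra hc
    push Not at hc
    exact Matrix.GeneralLinearGroup.det_ne_zero g (Matrix.det_eq_zero_of_column_eq_zero j hc)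
  constructor
  · intro hg i
    obtain ⟨j, hj⟩ := hrow i
    refine ⟨j, hj, fun k hk => ?_⟩
    by_contra hkj
    obtain ⟨a, ha0, ha1⟩ := hF
    let d : (Fin n → F)ˣ :=
      { val := Function.update 1 j a
        inv := Function.update 1 j a⁻¹
        val_inv := funext fun x => by by_cases hx : x = j <;> simp [hx, ha0]
        inv_val := funext fun x => by by_cases hx : x = j <;> simp [hx, ha0] }
    have hmem : g * Units.map (Matrix.diagonalRingHom (Fin n) F).toMonoidHom d * g⁻¹ ∈ D :=
      (Subgroup.mem_normalizer_iff.mp hg _).mp ⟨d, rfl⟩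
    obtain ⟨d', hd'⟩ := hmem
    have e := congrArg Units.val (eq_mul_inv_iff_mul_eq.mp hd')
    change Matrix.diagonal (d' : Fin n → F) * M = M * Matrix.diagonal (Function.update 1 j a) at e
    have e1 := congrFun (congrFun e i) j
    have e2 := congrFun (congrFun e i) k
    rw [Matrix.diagonal_mul, Matrix.mul_diagonal, Function.update_self] at e1
    rw [Matrix.diagonal_mul, Matrix.mul_diagonal, Function.update_of_ne hkj, Pi.one_apply, mul_one,
      mul_left_eq_self₀] at e2
    rw [e2.resolve_right hk, one_mul] at e1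
    exact ha1 (mul_left_cancel₀ hj (by rw [← e1, mul_one]))
  · intro h
    choose σ hσ huniq using h
    have hsurj : Function.Surjective σ := fun j => by
      obtain ⟨i, hi⟩ := hcol j
      exact ⟨i, (huniq i j hi).symm⟩
    let e : Fin n ≃ Fin n := Equiv.ofBijective σ ⟨Finite.injective_iff_surjective.mpr hsurj, hsurj⟩
    have key : ∀ d : (Fin n → F)ˣ, ∀ d' : (Fin n → F)ˣ, (∀ i, (d' : Fin n → F) i = (d : Fin n → F) (σ i)) →
        Units.map (Matrix.diagonalRingHom (Fin n) F).toMonoidHom d' * g =
          g * Units.map (Matrix.diagonalRingHom (Fin n) F).toMonoidHom d := fun d d' hd => Units.ext (by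
      change Matrix.diagonal (d' : Fin n → F) * M = M * Matrix.diagonal (d : Fin n → F)
      ext i j
      rw [Matrix.diagonal_mul, Matrix.mul_diagonal]
      by_cases hij : M i j = 0
      · rw [hij, mul_zero, zero_mul]
      · rw [hd, ← huniq i j hij, mul_comm])
    let P : (Fin n ≃ Fin n) → (Fin n → F)ˣ → (Fin n → F)ˣ := fun f d =>
      { val := fun i => (d : Fin n → F) (f i)
        inv := fun i => (↑d⁻¹ : Fin n → F) (f i)
        val_inv := funext fun i => congrFun d.mul_inv (f i)
        inv_val := funext fun i => congrFun d.inv_mul (f i) }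
    refine Subgroup.mem_normalizer_iff.mpr fun h => ⟨?_, ?_⟩
    · rintro ⟨d, rfl⟩
      exact ⟨P e d, eq_mul_inv_of_mul_eq (key d _ fun i => rfl)⟩
    · rintro ⟨d', hd'⟩
      refine ⟨P e.symm d', ?_⟩
      have h1 := key (P e.symm d') d' fun i => by
        change (d' : Fin n → F) i = (d' : Fin n → F) (e.symm (e i))
        rw [e.symm_apply_apply]
      rw [hd', inv_mul_cancel_right] at h1
      exact (mul_left_cancel h1).symm

end Cfsg.Agent.S0770
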