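import Cfsg.Statements.S0776
import Mathlib
import Cfsg.Agent.Classical.Symp.Standard

set_option autoImplicit false
open Cfsg

namespace Cfsg.Agent.S0776

/-- If W ≤ F^(2m) is a 2k-dimensional subspace on which the symplectic form is non-degenerate, then the stabiliser of W in Sp_2m(F) is isomorphic to Sp_2k(F) × Sp_(2m−2k)(F). -/
theorem result {F : Type*} [Field F] (m k : ℕ) (hk : k ≤ m) (W : Submodule F (Fin m ⊕ Fin m → F)) (hWk : Module.finrank F W = 2 * k) (hW : ∀ u ∈ W, (∀ v ∈ W, Cfsg.sympForm m F u v = 0) → u = 0) : Nonempty (↥(Cfsg.stabilizing (Cfsg.spToMat m F) (W : Set (Fin m ⊕ Fin m → F))) ≃* Matrix.symplecticGroup (Fin k) F × Matrix.symplecticGroup (Fin (m - k)) F) := by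
  have hA := Cfsg.Lib.Classical.sympBilin_isAlt m F
  have hB := Cfsg.Lib.Classical.sympBilin_nondegenerate m F
  have hWn : ((Cfsg.Lib.Classical.sympBilin m F).restrict W).Nondegenerate := by
    refine LinearMap.BilinForm.nondegenerate_restrict_of_disjoint_orthogonal _ hA.isRefl ?_
    rw [Submodule.disjoint_def]
    intro u hu huo
    refine hW u hu fun v hv => ?_
    rw [← Cfsg.Lib.Classical.sympBilin_eq_sympForm, ← hA.neg_eq]
    have : Cfsg.Lib.Classical.sympBilin m F v u = 0 := huo v hv
    rw [this, neg_zero]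
  have hc := LinearMap.BilinForm.isCompl_orthogonal_of_restrict_nondegenerate hA.isRefl hWn
  have hd : Module.finrank F ((Cfsg.Lib.Classical.sympBilin m F).orthogonal W) = 2 * (m - k) := by
    rw [LinearMap.BilinForm.finrank_orthogonal hB, Cfsg.Lib.Classical.finrank_sympSpace, hWk]; omega
  let e := ((Cfsg.Lib.Classical.subStabilizerEquiv hA.isRefl W hc).trans
    (MulEquiv.prodCongr
      (Cfsg.Lib.Classical.bilinIsomStdEquiv (B := (Cfsg.Lib.Classical.sympBilin m F).restrict W) (fun x => hA x) hWn hWk)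
      (Cfsg.Lib.Classical.bilinIsomStdEquiv
        (B := (Cfsg.Lib.Classical.sympBilin m F).restrict ((Cfsg.Lib.Classical.sympBilin m F).orthogonal W)) (fun x => hA x)
        (Cfsg.Lib.Classical.restrict_orthogonal_nondegenerate hA hB hWn) hd)))
  refine ⟨(((Cfsg.Lib.Classical.sympEquiv m F).subgroupMap _).trans (MulEquiv.subgroupCongr ?_)).trans e⟩
  ext g
  constructor
  · rintro ⟨A, hA', rfl⟩
    exact fun x => hA' x
  · intro hg
    refine ⟨(Cfsg.Lib.Classical.sympEquiv m F).symm g, fun x => ?_, MulEquiv.apply_symm_apply _ g⟩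
    rw [SetLike.mem_coe, SetLike.mem_coe, hg x, ← Cfsg.Lib.Classical.sympEquiv_symm_mulVec]
    rfl

end Cfsg.Agent.S0776
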