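import Cfsg.Statements.S0778
import Mathlib

set_option autoImplicit false
open Cfsg

namespace Cfsg.Agent.S0778

/-- The elements of Sp_2m(F) stabilising both W = ⟨e_1..e_m⟩ and U = ⟨f_1..f_m⟩ form a subgroup isomorphic to GL_m(F) (block-diagonal matrices diag(X, X^(−ᵀ)) up to the sign convention of J), for m ≥ 1 or m = 0 alike. -/
theorem result {F : Type*} [Field F] (m : ℕ) : Nonempty (↥(Cfsg.stabilizing (Cfsg.spToMat m F) {v : Fin m ⊕ Fin m → F | ∀ i : Fin m, v (Sum.inr i) = 0} ⊓ Cfsg.stabilizing (Cfsg.spToMat m F) {v : Fin m ⊕ Fin m → F | ∀ i : Fin m, v (Sum.inl i) = 0}) ≃* Matrix.GeneralLinearGroup (Fin m) F) := by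
  let J := Matrix.J (Fin m) F
  let mapX : Matrix.GeneralLinearGroup (Fin m) F → Matrix (Fin m ⊕ Fin m) (Fin m ⊕ Fin m) F := fun X =>
    Matrix.fromBlocks (X : Matrix (Fin m) (Fin m) F) 0 0 ((X⁻¹ : Matrix.GeneralLinearGroup (Fin m) F) : Matrix (Fin m) (Fin m) F).transpose
  have hmem : ∀ X, mapX X ∈ Matrix.symplecticGroup (Fin m) F := fun X => by
    rw [SymplecticGroup.mem_iff, Matrix.J]
    simp only [mapX, Matrix.fromBlocks_transpose, Matrix.fromBlocks_multiply, Matrix.transpose_zero,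
      Matrix.transpose_transpose, Matrix.mul_zero, Matrix.zero_mul, Matrix.mul_neg, Matrix.neg_mul,
      Matrix.mul_one, Matrix.one_mul, zero_add, add_zero, neg_zero]
    rw [← Matrix.transpose_mul, Units.mul_inv, Matrix.transpose_one]
  let φ : Matrix.GeneralLinearGroup (Fin m) F →* Matrix.symplecticGroup (Fin m) F :=
    { toFun := fun X => ⟨mapX X, hmem X⟩
      map_one' := Subtype.ext (by simp [mapX, Matrix.fromBlocks_one])
      map_mul' := fun X Y => Subtype.ext (by
        simp [mapX, Matrix.fromBlocks_multiply, ← Matrix.transpose_mul, Matrix.mul_inv_rev]) }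
  have hinj : Function.Injective φ := fun X Y h => by
    have := congrArg (fun A : Matrix.symplecticGroup (Fin m) F => (A : Matrix (Fin m ⊕ Fin m) (Fin m ⊕ Fin m) F).toBlocks₁₁) h
    exact Units.ext (by simpa [φ, mapX] using this)
  refine ⟨((MonoidHom.ofInjective hinj).trans (MulEquiv.subgroupCongr ?_)).symm⟩
  set S : Set (Fin m ⊕ Fin m → F) := {v | ∀ i : Fin m, v (Sum.inr i) = 0}
  set T : Set (Fin m ⊕ Fin m → F) := {v | ∀ i : Fin m, v (Sum.inl i) = 0}
  have hfwd : ∀ X v, (v ∈ S → (mapX X).mulVec v ∈ S) ∧ (v ∈ T → (mapX X).mulVec v ∈ T) := by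
    intro X v
    constructor <;> intro hv i <;>
      simp only [mapX, Matrix.fromBlocks_mulVec, Sum.elim_inl, Sum.elim_inr, Matrix.zero_mulVec, zero_add, add_zero]
    · have : v ∘ Sum.inr = 0 := funext hv
      simp [this]
    · have : v ∘ Sum.inl = 0 := funext hv
      simp [this]
  ext A
  constructor
  · rintro ⟨X, rfl⟩
    have hback : ∀ v, v = (mapX X⁻¹).mulVec ((mapX X).mulVec v) := fun v => by
      rw [Matrix.mulVec_mulVec]
      simp [mapX, Matrix.fromBlocks_multiply, ← Matrix.transpose_mul, Matrix.fromBlocks_one]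
    refine ⟨fun v => ⟨(hfwd X v).1, fun h => ?_⟩, fun v => ⟨(hfwd X v).2, fun h => ?_⟩⟩
    · rw [hback v]; exact (hfwd X⁻¹ _).1 h
    · rw [hback v]; exact (hfwd X⁻¹ _).2 h
  · rintro ⟨hS, hT⟩
    obtain ⟨a, b, c, d, hA⟩ : ∃ a b c d, (A : Matrix (Fin m ⊕ Fin m) (Fin m ⊕ Fin m) F) = Matrix.fromBlocks a b c d :=
      ⟨_, _, _, _, (Matrix.fromBlocks_toBlocks _).symm⟩
    have hA' : Cfsg.spToMat m F A = Matrix.fromBlocks a b c d := hA
    have hc : c = 0 := by
      ext i j
      have h := (hS (Sum.elim (Pi.single j 1) 0)).mp (fun _ => rfl) i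
      rw [hA'] at h
      simpa [Matrix.fromBlocks_mulVec] using h
    have hb : b = 0 := by
      ext i j
      have h := (hT (Sum.elim 0 (Pi.single j 1))).mp (fun _ => rfl) i
      rw [hA'] at h
      simpa [Matrix.fromBlocks_mulVec] using h
    have hsymp := SymplecticGroup.mem_iff.mp A.2
    rw [hA, hb, hc, Matrix.J] at hsymp
    simp only [Matrix.fromBlocks_transpose, Matrix.fromBlocks_multiply, Matrix.transpose_zero,
      Matrix.mul_zero, Matrix.zero_mul, Matrix.mul_neg, Matrix.neg_mul, Matrix.mul_one,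
      zero_add, add_zero, neg_zero, Matrix.fromBlocks_inj, neg_inj] at hsymp
    obtain ⟨-, h1, -, -⟩ := hsymp
    let X : Matrix.GeneralLinearGroup (Fin m) F := ⟨a, d.transpose, h1, mul_eq_one_comm.mp h1⟩
    refine ⟨X, Subtype.ext ?_⟩
    change mapX X = _
    rw [hA, hb, hc]
    simp [mapX, X, Matrix.inv_eq_right_inv h1]

end Cfsg.Agent.S0778
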