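import Cfsg.Statements.S0779
import Mathlib
import Cfsg.Agent.Classical.Unitary.Matrix

set_option autoImplicit false
open Cfsg

namespace Cfsg.Agent.S0779

/-- Unitary transvections: let |F| = q², h the standard Hermitian form Σ x_i y_i^q and v ≠ 0 with h(v, v) = 0. The linear map x ↦ x + c h(x, v) v is an isometry of h if and only if c = 0 or c^(q−1) = −1. -/
theorem result {F : Type*} [Field F] [Fintype F] {q : ℕ} (hF : Fintype.card F = q ^ 2) (n : ℕ) (v : Fin n → F) (hv : v ≠ 0) (hv0 : Cfsg.hermForm n F q v v = 0) (c : F) : (∀ x y : Fin n → F, Cfsg.hermForm n F q ((Cfsg.unitaryTransvection n q v c).mulVec x) ((Cfsg.unitaryTransvection n q v c).mulVec y) = Cfsg.hermForm n F q x y) ↔ (c = 0 ∨ c ^ (q - 1) = -1) := by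
  set H := Cfsg.Lib.Classical.stdHerm n hF
  have happ : ∀ x, (Cfsg.unitaryTransvection n q v c).mulVec x = x + (c * H.h x v) • v := by
    intro x
    rw [Cfsg.unitaryTransvection, Matrix.add_mulVec, Matrix.one_mulVec, Matrix.smul_mulVec,
      Matrix.vecMulVec_mulVec, op_smul_eq_smul, smul_smul, Cfsg.Lib.Classical.stdHerm_h, Cfsg.hermForm,
      dotProduct]
    congr 3
    exact Finset.sum_congr rfl fun i _ => mul_comm _ _
  have hvv : H.h v v = 0 := by rw [Cfsg.Lib.Classical.stdHerm_h]; exact hv0
  have key : ∀ x y, H.h (x + (c * H.h x v) • v) (y + (c * H.h y v) • v) =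
      H.h x y + (c + H.σ c) * (H.h x v * H.h v y) := fun x y => by
    simp only [H.add_left, H.add_right, H.smul_left, H.smul_right, hvv, map_mul, ← H.symm v y]
    ring
  have hcc : c + H.σ c = 0 ↔ (c = 0 ∨ c ^ (q - 1) = -1) := by
    have hσ : H.σ c = c ^ q := Cfsg.Lib.Classical.powConj_apply hF c
    have hq : 1 ≤ q := by
      by_contra h
      have := Fintype.card_pos (α := F)
      rw [hF, show q = 0 by omega] at this
      simp at this
    rw [hσ, ← Nat.sub_add_cancel hq, pow_succ, Nat.add_sub_cancel]
    constructor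
    · intro h
      by_cases hc : c = 0
      · exact Or.inl hc
      · right
        have h1 : (c ^ (q - 1) + 1) * c = 0 := by linear_combination h
        exact eq_neg_of_add_eq_zero_left ((mul_eq_zero.mp h1).resolve_right hc)
    · rintro (h | h)
      · subst h; simp
      · rw [h]; ring
  rw [← hcc]
  constructor
  · intro h
    obtain ⟨u, hu⟩ := H.exists_partner hv
    have := h u u
    rw [happ, ← Cfsg.Lib.Classical.stdHerm_h hF, ← Cfsg.Lib.Classical.stdHerm_h hF, key, H.symm u v,
      hu, map_one, mul_one, mul_one, add_eq_left] at this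
    exact this
  · intro h x y
    rw [happ, happ, ← Cfsg.Lib.Classical.stdHerm_h hF, ← Cfsg.Lib.Classical.stdHerm_h hF, key, h,
      zero_mul, add_zero]

end Cfsg.Agent.S0779
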