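import Cfsg.Statements.S0780
import Mathlib
import Cfsg.Agent.Classical.Unitary.Matrix
import Cfsg.Agent.Classical.Unitary.Transv

set_option autoImplicit false
open Cfsg

namespace Cfsg.Agent.S0780

/-- Generation of SU_n(q), n ≥ 3, (n, q) ≠ (3, 2), by unitary transvections: the subgroup generated by the elements whose matrix is x ↦ x + c h(x, v) v with v isotropic is all of SU_n(q). -/
theorem result {F : Type*} [Field F] [Fintype F] {q : ℕ} (hF : Fintype.card F = q ^ 2) (n : ℕ) (hn : 3 ≤ n) (h32 : ¬ (n = 3 ∧ q = 2)) : Subgroup.closure {A : ↥(Cfsg.SU n F q) | ∃ (v : Fin n → F) (c : F), Cfsg.hermForm n F q v v = 0 ∧ ((A : Matrix.SpecialLinearGroup (Fin n) F) : Matrix (Fin n) (Fin n) F) = Cfsg.unitaryTransvection n q v c} = ⊤ := by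
  set H := Cfsg.Lib.Classical.stdHerm n hF
  have hd : 4 ≤ Module.finrank F (Fin n → F) ∨ (Module.finrank F (Fin n → F) = 3 ∧ 3 ≤ H.q) := by
    have := H.two_le_q
    rw [Module.finrank_fin_fun]
    have hq : H.q = q := Cfsg.Lib.Classical.stdHerm_q hF
    omega
  rw [eq_top_iff]
  intro A _
  obtain ⟨g, rfl⟩ := (Cfsg.Lib.Classical.suEquiv n hF).surjective A
  set S := Subgroup.closure {A : ↥(Cfsg.SU n F q) | ∃ (v : Fin n → F) (c : F),
    Cfsg.hermForm n F q v v = 0 ∧
      ((A : Matrix.SpecialLinearGroup (Fin n) F) : Matrix (Fin n) (Fin n) F) = Cfsg.unitaryTransvection n q v c}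
  have h : H.transvGroup ≤ (S.comap (Cfsg.Lib.Classical.suEquiv n hF).toMonoidHom).map H.SIsom.subtype := by
    rw [Cfsg.Lib.Classical.HermSpace.transvGroup, Subgroup.closure_le]
    rintro _ ⟨v, hv, c, hc, rfl⟩
    refine ⟨⟨_, H.uT_mem_SIsom hv hc⟩, Subgroup.subset_closure ⟨v, c, ?_, ?_⟩, rfl⟩
    · rw [← Cfsg.Lib.Classical.stdHerm_h hF]; exact hv
    · apply Matrix.toLin'.injective
      refine LinearMap.ext fun x => ?_
      rw [Matrix.toLin'_apply, Matrix.toLin'_apply]
      change (Cfsg.Lib.Classical.unitToGL hF (H.uT hv hc)).val.mulVec x = _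
      rw [Cfsg.Lib.Classical.unitToGL_mulVec, H.uT_apply, Cfsg.unitaryTransvection, Matrix.add_mulVec,
        Matrix.one_mulVec, Matrix.smul_mulVec, Matrix.vecMulVec_mulVec, op_smul_eq_smul, smul_smul,
        Cfsg.Lib.Classical.stdHerm_h, Cfsg.hermForm, dotProduct]
      congr 3
      exact Finset.sum_congr rfl fun i _ => mul_comm _ _
  rw [H.transvGroup_eq_SIsom hd] at h
  obtain ⟨y, hy, hyg⟩ := h g.2
  obtain rfl : y = g := Subtype.ext hyg
  exact hy

end Cfsg.Agent.S0780
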