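import Cfsg.Statements.S0781
import Mathlib
import Cfsg.Agent.Classical.Unitary.Matrix
import Cfsg.Agent.Classical.Unitary.Simple

set_option autoImplicit false
open Cfsg

namespace Cfsg.Agent.S0781

/-- In SU_n(q) with n ≥ 4, or n = 3 and q > 2, every element whose matrix is a unitary transvection x ↦ x + c h(x, v) v (v isotropic) is a commutator ⁅B, C⁆ of two elements of SU_n(q). -/
theorem result {F : Type*} [Field F] [Fintype F] {q : ℕ} (hF : Fintype.card F = q ^ 2) (n : ℕ) (hn : 4 ≤ n ∨ (n = 3 ∧ 3 ≤ q)) (A : ↥(Cfsg.SU n F q)) (v : Fin n → F) (c : F) (hv0 : Cfsg.hermForm n F q v v = 0) (hA : ((A : Matrix.SpecialLinearGroup (Fin n) F) : Matrix (Fin n) (Fin n) F) = Cfsg.unitaryTransvection n q v c) : A ∈ commutatorSet ↥(Cfsg.SU n F q) := by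
  set H := Cfsg.Lib.Classical.stdHerm n hF
  obtain ⟨g, rfl⟩ := (Cfsg.Lib.Classical.suEquiv n hF).surjective A
  rcases eq_or_ne v 0 with rfl | hv
  · refine ⟨1, 1, ?_⟩
    rw [commutatorElement_one_left]
    apply Subtype.ext
    apply Subtype.ext
    rw [hA]
    simp [Cfsg.unitaryTransvection]
  have hvv : H.h v v = 0 := by rw [Cfsg.Lib.Classical.stdHerm_h]; exact hv0
  have happ : ∀ x, g.1.1 x = x + (c * H.h x v) • v := by
    intro x
    rw [← Cfsg.Lib.Classical.unitToGL_mulVec hF, ← Cfsg.Lib.Classical.suEquiv_coe hF g, hA,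
      Cfsg.unitaryTransvection, Matrix.add_mulVec, Matrix.one_mulVec, Matrix.smul_mulVec,
      Matrix.vecMulVec_mulVec, op_smul_eq_smul, smul_smul, Cfsg.Lib.Classical.stdHerm_h, Cfsg.hermForm,
      dotProduct]
    congr 3
    exact Finset.sum_congr rfl fun i _ => mul_comm _ _
  have hc : c + H.σ c = 0 := by
    obtain ⟨u, hu⟩ := H.exists_partner hv
    have := H.map_form g.1 u u
    rw [happ] at this
    simp only [H.add_left, H.add_right, H.smul_left, H.smul_right, hvv, map_mul, H.symm u v, hu, map_one] at this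
    linear_combination this
  obtain ⟨a, ha, b, hb, hab⟩ := H.exists_commutator_eq_uT
    (by rw [Module.finrank_fin_fun]; omega) hvv hc
  refine ⟨Cfsg.Lib.Classical.suEquiv n hF ⟨a, ha⟩, Cfsg.Lib.Classical.suEquiv n hF ⟨b, hb⟩, ?_⟩
  rw [← map_commutatorElement]
  congr 1
  exact Subtype.ext (hab.trans (H.isom_ext fun x => by rw [H.uT_apply, happ]))

end Cfsg.Agent.S0781
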