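import Cfsg.Statements.S0783
import Mathlib
import Cfsg.Agent.Classical.Unitary.Matrix

set_option autoImplicit false
open Cfsg

namespace Cfsg.Agent.S0783

/-- PGU_n(q)/PSU_n(q) is cyclic of order (n, q+1): for n ≥ 2 and |F| = q² there is a surjective homomorphism from GU_n(q) onto the cyclic group of order gcd(n, q + 1) whose kernel is generated by the determinant-one elements together with the centre. -/
theorem result {F : Type*} [Field F] [Fintype F] {q : ℕ} (hF : Fintype.card F = q ^ 2) (n : ℕ) (hn : 2 ≤ n) : ∃ φ : ↥(Cfsg.GU n F q) →* Multiplicative (ZMod (Nat.gcd n (q + 1))), Function.Surjective φ ∧ φ.ker = (Matrix.GeneralLinearGroup.det : Matrix.GeneralLinearGroup (Fin n) F →* Fˣ).ker.subgroupOf (Cfsg.GU n F q) ⊔ Subgroup.center ↥(Cfsg.GU n F q) := by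
  set H := Cfsg.Lib.Classical.stdHerm n hF
  haveI : Nontrivial (Fin n → F) :=
    Module.nontrivial_of_finrank_pos (R := F) (by rw [Module.finrank_fin_fun]; omega)
  set N := (Cfsg.Lib.Classical.normUnits H.σ).ker
  haveI : IsCyclic N := Subgroup.isCyclic _
  set P : Subgroup N := (powMonoidHom n).range with hP
  have hcard : Nat.card (N ⧸ P) = Nat.gcd n (q + 1) := by
    rw [← Subgroup.index_eq_card, hP, IsCyclic.index_powMonoidHom_range, H.conj.card_norm_ker, Nat.gcd_comm]
    congr 2
    exact Cfsg.Lib.Classical.stdHerm_q hF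
  haveI : IsCyclic (N ⧸ P) := isCyclic_of_surjective (QuotientGroup.mk' P) (QuotientGroup.mk'_surjective P)
  let e : N ⧸ P ≃* Multiplicative (ZMod (Nat.gcd n (q + 1))) :=
    (zmodCyclicMulEquiv (inferInstance : IsCyclic (N ⧸ P))).symm.trans (by rw [hcard])
  let g := Cfsg.Lib.Classical.guEquiv n hF
  let d : H.Isom →* N := H.detHom.codRestrict N H.det_mem_norm_ker
  have hd : Function.Surjective d := fun z => by
    obtain ⟨k, hk⟩ : (z : Fˣ) ∈ H.detHom.range := by rw [H.range_detHom]; exact z.2
    exact ⟨k, Subtype.ext hk⟩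
  let φ := e.toMonoidHom.comp ((QuotientGroup.mk' P).comp (d.comp g.symm.toMonoidHom))
  refine ⟨φ, e.surjective.comp ((QuotientGroup.mk'_surjective P).comp (hd.comp g.symm.surjective)), ?_⟩
  have hker : ∀ A, A ∈ φ.ker ↔ ∃ z : N, z ^ n = d (g.symm A) := by
    intro A
    have h1 : φ A = e (QuotientGroup.mk (d (g.symm A))) := rfl
    rw [MonoidHom.mem_ker, h1, MulEquiv.map_eq_one_iff, QuotientGroup.eq_one_iff]
    rfl
  let sc : N → H.Isom := fun z => ⟨LinearEquiv.smulOfUnit z.1, fun x y => by
    change H.h ((z.1 : F) • x) ((z.1 : F) • y) = H.h x y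
    have hz : (z.1 : F) * H.σ z.1 = 1 := congrArg Units.val (MonoidHom.mem_ker.mp z.2)
    rw [H.smul_left, H.smul_right, ← mul_assoc, hz, one_mul]⟩
  have hsc : ∀ z, d (sc z) = z ^ n := fun z => by
    apply Subtype.ext
    apply Units.ext
    change ((LinearEquiv.det (sc z).1 : Fˣ) : F) = _
    rw [LinearEquiv.coe_det]
    change LinearMap.det ((z.1 : F) • (LinearMap.id : (Fin n → F) →ₗ[F] _)) = _
    rw [LinearMap.det_smul, LinearMap.det_id, mul_one, Module.finrank_fin_fun]
    simp
  have hdet : ∀ k, Matrix.GeneralLinearGroup.det (g k : Matrix.GeneralLinearGroup (Fin n) F) = (d k : Fˣ) :=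
    fun k => Cfsg.Lib.Classical.det_unitToGL hF k
  apply le_antisymm
  · intro A hA
    obtain ⟨z, hz⟩ := (hker A).mp hA
    have hc : g (sc z) ∈ Subgroup.center _ := by
      rw [Subgroup.mem_center_iff]
      intro B
      obtain ⟨k, rfl⟩ := g.surjective B
      rw [← map_mul, ← map_mul]
      exact congrArg g (H.isom_ext fun x => map_smul k.1 (z.1 : F) x)
    rw [show A = (A * (g (sc z))⁻¹) * g (sc z) from (inv_mul_cancel_right _ _).symm]
    refine Subgroup.mul_mem_sup ?_ hc
    rw [Subgroup.mem_subgroupOf, MonoidHom.mem_ker]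
    obtain ⟨k, rfl⟩ := g.surjective A
    rw [← map_inv, ← map_mul, hdet, map_mul, map_inv, hsc, hz, MulEquiv.symm_apply_apply, mul_inv_cancel]
    rfl
  · rw [sup_le_iff]
    constructor
    · intro A hA
      rw [hker]
      refine ⟨1, ?_⟩
      rw [one_pow]
      obtain ⟨k, rfl⟩ := g.surjective A
      rw [Subgroup.mem_subgroupOf, MonoidHom.mem_ker, hdet] at hA
      rw [MulEquiv.symm_apply_apply]
      exact Subtype.ext hA.symm
    · intro A hA
      obtain ⟨k, rfl⟩ := g.surjective A
      have hk : ∀ l, l * k = k * l := fun l => g.injective (by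
        rw [map_mul, map_mul]; exact Subgroup.mem_center_iff.mp hA (g l))
      obtain ⟨a, ha, hka⟩ := H.scalar_of_commute_SIsom (by rw [Module.finrank_fin_fun]; exact hn) (fun l _ => hk l)
      have ha0 : a ≠ 0 := fun h => by rw [h, zero_mul] at ha; exact zero_ne_one ha
      rw [hker]
      refine ⟨⟨Units.mk0 a ha0, MonoidHom.mem_ker.mpr (Units.ext ha)⟩, ?_⟩
      rw [MulEquiv.symm_apply_apply, ← hsc]
      congr 1
      exact (H.isom_ext fun x => hka x).symm

end Cfsg.Agent.S0783
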