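import Cfsg.Statements.S0796
import Mathlib

set_option autoImplicit false
open Cfsg

namespace Cfsg.Agent.S0796

/-- If G is finite and acts faithfully and primitively on X, H is the stabiliser of a point, A is a normal subgroup of H whose normal closure in G is G, then for every non-trivial normal subgroup K of G the quotient G ⧸ K is isomorphic to A ⧸ B for some normal subgroup B of A. -/
theorem result {G X : Type*} [Group G] [Finite G] [MulAction G X] [FaithfulSMul G X] (hprim : MulAction.IsPreprimitive G X) (x : X) (A : Subgroup G) (hA : A ≤ MulAction.stabilizer G x) (hAn : (A.subgroupOf (MulAction.stabilizer G x)).Normal) (hgen : Subgroup.normalClosure (A : Set G) = ⊤) (K : Subgroup G) [K.Normal] (hK : K ≠ ⊥) : ∃ (B : Subgroup A) (_ : B.Normal), Nonempty (G ⧸ K ≃* A ⧸ B) := by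
  classical
  haveI := hprim
  rcases subsingleton_or_nontrivial X with hX | hX
  · exfalso
    apply hK
    rw [Subgroup.eq_bot_iff_forall]
    intro g _
    exact FaithfulSMul.eq_of_smul_eq_smul fun a : X => Subsingleton.elim _ _
  have hmax := MulAction.IsPreprimitive.isCoatom_stabilizer_of_isPreprimitive (G := G) x
  have hKS : ¬ K ≤ MulAction.stabilizer G x := by
    intro hle
    apply hK
    rw [Subgroup.eq_bot_iff_forall]
    intro g hg
    refine FaithfulSMul.eq_of_smul_eq_smul fun y : X => ?_
    obtain ⟨h, rfl⟩ := MulAction.exists_smul_eq G x y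
    have h1 : h⁻¹ * g * h ∈ MulAction.stabilizer G x := by
      apply hle
      simpa using Subgroup.Normal.conj_mem inferInstance g hg h⁻¹
    rw [MulAction.mem_stabilizer_iff, mul_smul, mul_smul, inv_smul_eq_iff] at h1
    rw [h1, one_smul]
  have htop : MulAction.stabilizer G x ⊔ K = ⊤ :=
    hmax.2 _ (lt_of_le_of_ne le_sup_left fun h => hKS (h ▸ le_sup_right))
  have hAK : (A ⊔ K).Normal := by
    rw [← Subgroup.normalizer_eq_top_iff, ← top_le_iff, ← htop]
    refine sup_le ?_ (le_sup_right.trans Subgroup.le_normalizer)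
    intro s hs
    have hsA : ∀ a ∈ A, s * a * s⁻¹ ∈ A := fun a ha =>
      hAn.conj_mem ⟨a, hA ha⟩ ha ⟨s, hs⟩
    refine Subgroup.mem_normalizer_fintype ?_
    intro z hz
    obtain ⟨a, ha, k, hk, rfl⟩ := Subgroup.mem_sup_of_normal_right.mp hz
    have : s * (a * k) * s⁻¹ = (s * a * s⁻¹) * (s * k * s⁻¹) := by group
    rw [this]
    exact Subgroup.mul_mem_sup (hsA a ha) (Subgroup.Normal.conj_mem inferInstance k hk s)
  have hfull : A ⊔ K = ⊤ :=
    top_le_iff.mp (hgen ▸ Subgroup.normalClosure_le_normal (SetLike.coe_subset_coe.mpr (le_sup_left : A ≤ A ⊔ K)))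
  let f : A →* G ⧸ K := (QuotientGroup.mk' K).comp A.subtype
  have hf : Function.Surjective f := by
    intro y
    obtain ⟨g, rfl⟩ := QuotientGroup.mk'_surjective K y
    obtain ⟨a, ha, k, hk, rfl⟩ := Subgroup.mem_sup_of_normal_right.mp (hfull ▸ Subgroup.mem_top g : g ∈ A ⊔ K)
    refine ⟨⟨a, ha⟩, ?_⟩
    show QuotientGroup.mk' K a = QuotientGroup.mk' K (a * k)
    rw [map_mul, show QuotientGroup.mk' K k = 1 from (QuotientGroup.eq_one_iff k).mpr hk, mul_one]
  exact ⟨f.ker, inferInstance, ⟨(QuotientGroup.quotientKerEquivOfSurjective f hf).symm⟩⟩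

end Cfsg.Agent.S0796
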