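import Cfsg.Statements.S0816
import Cfsg.Agent.Classical.Misc.AutCard
import Cfsg.Agent.S0292
import Cfsg.Agent.S0295
import Cfsg.Agent.S2604

set_option autoImplicit false
open Cfsg

namespace Cfsg.Agent.S0816

/-- |Aut(PΩ_(2m+1)(q))| = 2 f · |PΩ_(2m+1)(q)| for q = p^f odd and m ≥ 3 (for the form quadFormOdd). -/
theorem result {F : Type*} [Field F] [Fintype F] (p f : ℕ) [Fact p.Prime] (hf : 1 ≤ f) (hF : Fintype.card F = p ^ f) (hodd : Odd p) (m : ℕ) (hm : 3 ≤ m) : Nat.card (MulAut (Cfsg.POmega F (Cfsg.quadFormOdd m F))) = 2 * f * Nat.card (Cfsg.POmega F (Cfsg.quadFormOdd m F)) := by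
  classical
  have hp : p.Prime := Fact.out
  have hp2 : p ≠ 2 := fun e => by subst e; exact absurd hodd (by decide)
  have hFo : Odd (Fintype.card F) := hF ▸ hodd.pow
  haveI := Cfsg.Agent.S0295.result hFo m hm
  haveI : NeZero f := ⟨by omega⟩
  have hcard := Cfsg.Agent.S0292.result hF hodd.pow m hm
  rw [← pow_mul] at hcard
  rw [Cfsg.Lib.Classical.AutCard.card_mulAut (k := f * m ^ 2) hp (by nlinarith)
    ((Nat.coprime_primes hp Nat.prime_two).mpr hp2) hcard]
  obtain ⟨e⟩ := Cfsg.Agent.S2604.result hf hF hp2 hm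
  rw [Nat.card_congr e.toEquiv, Nat.card_congr Multiplicative.toAdd, Nat.card_prod, Nat.card_zmod, Nat.card_zmod]

end Cfsg.Agent.S0816
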