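import Cfsg.Statements.S0818
import Cfsg.Agent.Classical.Misc.AutCard
import Cfsg.Agent.S0294
import Cfsg.Agent.S0297
import Cfsg.Agent.S2605
import Cfsg.Agent.S2606

set_option autoImplicit false
open Cfsg

namespace Cfsg.Agent.S0818

/-- |Aut(PΩ⁻_2m(q))| for q = p^f, m ≥ 4 (form quadFormMinus (m−1) with anisotropic binary part): |PΩ⁻_2m(q)| times f, times 2 if p = 2, and times 4 or 8 if p is odd according as m(q−1)/2 is even or odd. -/
theorem result {F : Type*} [Field F] [Fintype F] (p f : ℕ) [Fact p.Prime] (hf : 1 ≤ f) (hF : Fintype.card F = p ^ f) (m : ℕ) (hm : 4 ≤ m) (a b : F) (hab : ∀ z₁ z₂ : F, z₁ ^ 2 + a * z₁ * z₂ + b * z₂ ^ 2 = 0 → z₁ = 0 ∧ z₂ = 0) : Nat.card (MulAut (Cfsg.POmega F (Cfsg.quadFormMinus (m - 1) F a b))) = (if p = 2 then 2 else (if Even (m * (p ^ f - 1) / 2) then 4 else 8)) * f * Nat.card (Cfsg.POmega F (Cfsg.quadFormMinus (m - 1) F a b)) := by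
  classical
  have hp : p.Prime := Fact.out
  haveI := Cfsg.Agent.S0297.result m hm a b hab
  haveI : NeZero f := ⟨by omega⟩
  haveI : NeZero (2 * f) := ⟨by omega⟩
  have hcard := Cfsg.Agent.S0294.result hF m hm a b hab
  rw [← pow_mul (a := p) (n := m * (m - 1)), mul_assoc] at hcard
  have hcop : Nat.Coprime p (Nat.gcd 4 ((p ^ f) ^ m + 1)) := by
    refine Nat.Coprime.coprime_dvd_right (Nat.gcd_dvd_right _ _) ?_
    rw [hp.coprime_iff_not_dvd]
    intro hd
    exact hp.not_dvd_one ((Nat.dvd_add_right (dvd_pow (dvd_pow_self p (by omega)) (by omega))).mp hd)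
  rw [Cfsg.Lib.Classical.AutCard.card_mulAut (k := f * (m * (m - 1))) hp
    (le_trans (le_trans (by omega : 2 ≤ m - 1) (Nat.le_mul_of_pos_left _ (by omega : 0 < m)))
      (Nat.le_mul_of_pos_left _ (by omega : 0 < f))) hcop hcard]
  congr 1
  by_cases hp2 : p = 2
  · subst hp2
    rw [if_pos rfl]
    exact (Cfsg.Agent.S2605.result hf hF hm a b hab).2
  · rw [if_neg hp2]
    obtain ⟨j, hj⟩ : Odd (p ^ f) := (hp.odd_of_ne_two hp2).pow
    have hev : (p ^ f % 4 = 3 ∧ Odd m) ↔ ¬ Even (m * (p ^ f - 1) / 2) := by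
      rw [show p ^ f - 1 = 2 * j by omega, show m * (2 * j) = 2 * (m * j) by ring,
        Nat.mul_div_cancel_left _ (by norm_num : 0 < 2), Nat.not_even_iff_odd, Nat.odd_mul, hj,
        Nat.odd_iff (n := j)]
      constructor <;> rintro ⟨h1, h2⟩
      · exact ⟨h2, by omega⟩
      · exact ⟨by omega, h1⟩
    have key := Cfsg.Agent.S2606.result hf hF hp2 hm a b hab
    by_cases hc : p ^ f % 4 = 3 ∧ Odd m
    · rw [if_pos hc] at key
      obtain ⟨e⟩ := key
      rw [if_neg (hev.mp hc), Nat.card_congr e.toEquiv, Nat.card_prod, DihedralGroup.nat_card,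
        Nat.card_congr Multiplicative.toAdd, Nat.card_zmod]
    · rw [if_neg hc] at key
      obtain ⟨e⟩ := key
      rw [if_pos (not_not.mp fun h => hc (hev.mpr h)), Nat.card_congr e.toEquiv, Nat.card_congr Multiplicative.toAdd,
        Nat.card_prod, Nat.card_zmod, Nat.card_zmod]
      ring

end Cfsg.Agent.S0818
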