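import Cfsg.Statements.S0828
import Mathlib
import Cfsg.Agent.Classical.Symp.Matrix

set_option autoImplicit false
open Cfsg

namespace Cfsg.Agent.S0828

/-- The symplectic generalised quadrangle over a field with q elements: the number of 2-dimensional subspaces of F^4 on which the symplectic form vanishes is (q + 1)(q² + 1), and every non-zero vector lies in exactly q + 1 of them. -/
theorem result {F : Type*} [Field F] [Fintype F] {q : ℕ} (hF : Fintype.card F = q) : Nat.card {W : Submodule F (Fin 2 ⊕ Fin 2 → F) // Module.finrank F W = 2 ∧ ∀ u ∈ W, ∀ v ∈ W, Cfsg.sympForm 2 F u v = 0} = (q + 1) * (q ^ 2 + 1) ∧ ∀ v : Fin 2 ⊕ Fin 2 → F, v ≠ 0 → Nat.card {W : Submodule F (Fin 2 ⊕ Fin 2 → F) // Module.finrank F W = 2 ∧ v ∈ W ∧ ∀ u ∈ W, ∀ w ∈ W, Cfsg.sympForm 2 F u w = 0} = q + 1 := by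
  classical
  set B := Cfsg.Lib.Classical.sympBilin 2 F
  have hA : B.IsAlt := Cfsg.Lib.Classical.sympBilin_isAlt 2 F
  have hB : B.Nondegenerate := Cfsg.Lib.Classical.sympBilin_nondegenerate 2 F
  have hq : Nat.card F = q := by rw [Nat.card_eq_fintype_card, hF]
  have hq1 : 2 ≤ q := hq ▸ Finite.one_lt_card
  have hcardW : ∀ W : Submodule F (Fin 2 ⊕ Fin 2 → F), Nat.card W = q ^ Module.finrank F W := fun W => by
    rw [Module.natCard_eq_pow_finrank (K := F), hq]
  have hform : ∀ u v, Cfsg.sympForm 2 F u v = B u v := fun u v => (Cfsg.Lib.Classical.sympBilin_eq_sympForm u v).symm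
  have hpt : ∀ v : Fin 2 ⊕ Fin 2 → F, v ≠ 0 → Nat.card {W : Submodule F (Fin 2 ⊕ Fin 2 → F) //
      Module.finrank F W = 2 ∧ v ∈ W ∧ ∀ u ∈ W, ∀ w ∈ W, Cfsg.sympForm 2 F u w = 0} = q + 1 := by
    intro v hv
    set P := Submodule.span F {v}
    set U := B.orthogonal P
    have hP : Module.finrank F P = 1 := finrank_span_singleton hv
    have hU : Module.finrank F U = 3 := by
      rw [LinearMap.BilinForm.finrank_orthogonal hB, Cfsg.Lib.Classical.finrank_sympSpace, hP]
    have hvU : ∀ u, u ∈ U ↔ B v u = 0 := fun u => ⟨fun h => h v (Submodule.mem_span_singleton_self v), fun h z hz => by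
      obtain ⟨r, rfl⟩ := Submodule.mem_span_singleton.mp hz
      simp [h]⟩
    have hPU : P ≤ U := (Submodule.span_singleton_le_iff_mem _ _).mpr ((hvU v).mpr (hA v))
    set L := {W : Submodule F (Fin 2 ⊕ Fin 2 → F) //
      Module.finrank F W = 2 ∧ v ∈ W ∧ ∀ u ∈ W, ∀ w ∈ W, Cfsg.sympForm 2 F u w = 0}
    have hsup : ∀ u, u ∉ P → Module.finrank F (P ⊔ Submodule.span F {u} : Submodule F _) = 2 := by
      intro u hu
      apply le_antisymm
      · have := Submodule.finrank_add_le_finrank_add_finrank P (Submodule.span F {u})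
        rw [hP, finrank_span_singleton (show u ≠ 0 from fun h => hu (by rw [h]; exact P.zero_mem))] at this
        exact this
      · have hlt : P < P ⊔ Submodule.span F {u} := lt_of_le_of_ne le_sup_left fun h =>
          hu (h.symm ▸ Submodule.mem_sup_right (Submodule.mem_span_singleton_self u))
        have := Submodule.finrank_lt_finrank_of_lt hlt
        omega
    let e : {u // u ∈ U ∧ u ∉ P} ≃ Σ W : L, {u // u ∈ W.1 ∧ u ∉ P} :=
      { toFun := fun u => ⟨⟨P ⊔ Submodule.span F {u.1}, hsup u.1 u.2.2,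
            Submodule.mem_sup_left (Submodule.mem_span_singleton_self v), fun x hx y hy => by
              rw [hform]
              obtain ⟨x1, hx1, x2, hx2, rfl⟩ := Submodule.mem_sup.mp hx
              obtain ⟨y1, hy1, y2, hy2, rfl⟩ := Submodule.mem_sup.mp hy
              obtain ⟨a, rfl⟩ := Submodule.mem_span_singleton.mp hx1
              obtain ⟨b, rfl⟩ := Submodule.mem_span_singleton.mp hx2
              obtain ⟨c, rfl⟩ := Submodule.mem_span_singleton.mp hy1
              obtain ⟨d, rfl⟩ := Submodule.mem_span_singleton.mp hy2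
              have h1 : B v u.1 = 0 := (hvU _).mp u.2.1
              have h2 : B u.1 v = 0 := hA.isRefl _ _ h1
              simp [h1, h2, hA v, hA u.1]⟩,
          ⟨u.1, Submodule.mem_sup_right (Submodule.mem_span_singleton_self _), u.2.2⟩⟩
        invFun := fun s => ⟨s.2.1, (hvU _).mpr (by rw [← hform]; exact s.1.2.2.2 v s.1.2.2.1 _ s.2.2.1), s.2.2.2⟩
        left_inv := fun u => rfl
        right_inv := fun s => by
          have : P ⊔ Submodule.span F {s.2.1} = s.1.1 := by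
            apply Submodule.eq_of_le_of_finrank_le
            · exact sup_le ((Submodule.span_singleton_le_iff_mem _ _).mpr s.1.2.2.1)
                ((Submodule.span_singleton_le_iff_mem _ _).mpr s.2.2.1)
            · rw [hsup _ s.2.2.2, s.1.2.1]
          exact Sigma.subtype_ext (Subtype.ext this) rfl }
    have hdiff : ∀ W : Submodule F (Fin 2 ⊕ Fin 2 → F), P ≤ W → Nat.card {u // u ∈ W ∧ u ∉ P} = Nat.card W - q := by
      intro W hW
      rw [← pow_one q, ← hP, ← hcardW P]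
      change Nat.card ↥((W : Set (Fin 2 ⊕ Fin 2 → F)) \ (P : Set (Fin 2 ⊕ Fin 2 → F))) = _
      rw [Nat.card_coe_set_eq, Set.ncard_sdiff (by exact_mod_cast hW)]
      rfl
    have hsum := Nat.card_congr e
    rw [hdiff U hPU, hcardW U, hU, Nat.card_sigma, Finset.sum_congr rfl (fun (W : L) _ => show
      Nat.card {u // u ∈ W.1 ∧ u ∉ P} = q ^ 2 - q by
        rw [hdiff W.1 ((Submodule.span_singleton_le_iff_mem _ _).mpr W.2.2.1), hcardW W.1, W.2.1]),
      Finset.sum_const, Finset.card_univ, smul_eq_mul, ← Nat.card_eq_fintype_card] at hsum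
    refine Nat.eq_of_mul_eq_mul_right (m := q ^ 2 - q) (Nat.sub_pos_of_lt (by nlinarith)) (hsum.symm.trans ?_)
    have e1 : q ≤ q ^ 2 := by nlinarith
    have e2 : q ≤ q ^ 3 := by nlinarith
    zify [e1, e2]
    ring
  refine ⟨?_, hpt⟩
  let S := {W : Submodule F (Fin 2 ⊕ Fin 2 → F) // Module.finrank F W = 2 ∧ ∀ u ∈ W, ∀ v ∈ W, Cfsg.sympForm 2 F u v = 0}
  let e : (Σ W : S, {v : Fin 2 ⊕ Fin 2 → F // v ∈ W.1 ∧ v ≠ 0}) ≃
      Σ v : {v : Fin 2 ⊕ Fin 2 → F // v ≠ 0}, {W : Submodule F (Fin 2 ⊕ Fin 2 → F) //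
        Module.finrank F W = 2 ∧ v.1 ∈ W ∧ ∀ u ∈ W, ∀ w ∈ W, Cfsg.sympForm 2 F u w = 0} :=
    { toFun := fun s => ⟨⟨s.2.1, s.2.2.2⟩, ⟨s.1.1, s.1.2.1, s.2.2.1, s.1.2.2⟩⟩
      invFun := fun s => ⟨⟨s.2.1, s.2.2.1, s.2.2.2.2⟩, ⟨s.1.1, s.2.2.2.1, s.1.2⟩⟩
      left_inv := fun s => rfl
      right_inv := fun s => rfl }
  have hsum := Nat.card_congr e
  rw [Nat.card_sigma, Nat.card_sigma, Finset.sum_congr rfl (fun (v : {v : Fin 2 ⊕ Fin 2 → F // v ≠ 0}) _ => hpt v.1 v.2),
    Finset.sum_congr rfl (fun (W : S) _ => show Nat.card {v // v ∈ W.1 ∧ v ≠ 0} = q ^ 2 - 1 by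
      have hbot : Nat.card {v // v ∈ W.1 ∧ v ≠ 0} = Nat.card W.1 - 1 := by
        change Nat.card ↥((W.1 : Set (Fin 2 ⊕ Fin 2 → F)) \ {0}) = _
        rw [Nat.card_coe_set_eq, Set.ncard_diff_singleton_of_mem W.1.zero_mem]
        rfl
      rw [hbot, hcardW W.1, W.2.1]),
    Finset.sum_const, Finset.sum_const, Finset.card_univ, Finset.card_univ, smul_eq_mul, smul_eq_mul,
    ← Nat.card_eq_fintype_card, Fintype.card_subtype_compl, Fintype.card_subtype_eq,
    ← Nat.card_eq_fintype_card, Module.natCard_eq_pow_finrank (K := F) (V := Fin 2 ⊕ Fin 2 → F), hq,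
    Cfsg.Lib.Classical.finrank_sympSpace] at hsum
  refine Nat.eq_of_mul_eq_mul_right (m := q ^ 2 - 1) (Nat.sub_pos_of_lt (by nlinarith)) (hsum.trans ?_)
  have e1 : 1 ≤ q ^ 2 := by nlinarith
  have e2 : 1 ≤ q ^ (2 * 2) := Nat.one_le_pow _ _ (by omega)
  zify [e1, e2]
  ring

end Cfsg.Agent.S0828
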