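import Cfsg.Statements.S0837
import Mathlib
import Cfsg.Agent.Classical.Unitary.Decomp

set_option autoImplicit false
open Cfsg

namespace Cfsg.Agent.S0837

/-- If W ≤ F^n (|F| = q²) is a k-dimensional subspace on which the Hermitian form Σ x_i y_i^q is non-degenerate, then the stabiliser of W in GU_n(q) is isomorphic to GU_k(q) × GU_(n−k)(q). -/
theorem result {F : Type*} [Field F] [Fintype F] {q : ℕ} (hF : Fintype.card F = q ^ 2) (n k : ℕ) (hk : k ≤ n) (W : Submodule F (Fin n → F)) (hWk : Module.finrank F W = k) (hW : ∀ u ∈ W, (∀ v ∈ W, Cfsg.hermForm n F q u v = 0) → u = 0) : Nonempty (↥((Cfsg.stabilizing (Cfsg.glToMat (Fin n) F) (W : Set (Fin n → F))).subgroupOf (Cfsg.GU n F q)) ≃* ↥(Cfsg.GU k F q) × ↥(Cfsg.GU (n - k) F q)) := by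
  set H := Cfsg.Lib.Classical.stdHerm n hF
  have hWn : H.NondegOn W := fun u hu hux => hW u hu fun v hv => by
    rw [← Cfsg.Lib.Classical.stdHerm_h hF]
    exact H.eq_zero_symm (hux v hv)
  have hd : Module.finrank F (H.orth W) = n - k := by rw [H.finrank_orth, Module.finrank_fin_fun, hWk]
  let e := (H.subStabEquiv W hWn).trans (MulEquiv.prodCongr
    (Cfsg.Lib.Classical.isomStdEquiv (H.restrict W hWn) hF rfl hWk)
    (Cfsg.Lib.Classical.isomStdEquiv (H.restrict _ (H.nondegOn_orth hWn)) hF rfl hd))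
  refine ⟨((MulEquiv.subgroupMap (Cfsg.Lib.Classical.guEquiv n hF) (H.subStab W)).trans
    (MulEquiv.subgroupCongr ?_)).symm.trans e⟩
  ext A
  obtain ⟨g, rfl⟩ := (Cfsg.Lib.Classical.guEquiv n hF).surjective A
  constructor
  · rintro ⟨k, hk, he⟩ x
    obtain rfl := (Cfsg.Lib.Classical.guEquiv n hF).injective he
    change x ∈ W ↔ (Cfsg.Lib.Classical.unitToGL hF k).val.mulVec x ∈ W
    rw [Cfsg.Lib.Classical.unitToGL_mulVec]
    exact hk x
  · intro hA
    refine ⟨g, fun x => ?_, rfl⟩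
    have h := hA x
    change x ∈ W ↔ (Cfsg.Lib.Classical.unitToGL hF g).val.mulVec x ∈ W at h
    rwa [Cfsg.Lib.Classical.unitToGL_mulVec] at h

end Cfsg.Agent.S0837
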