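import Cfsg.Statements.S0838
import Mathlib
import Cfsg.Agent.Classical.Orth.OmegaTwoRank

set_option autoImplicit false
open Cfsg

namespace Cfsg.Agent.S0838

/-- Over a finite field with 2 ≠ 0 and n odd: two quadratic forms Q₁, Q₂ on F^n with non-degenerate polar forms are similar — there are an invertible linear map g and a scalar c ≠ 0 with Q₂ (g v) = c · Q₁ v for all v. -/
theorem result {F : Type*} [Field F] [Fintype F] (h2 : (2 : F) ≠ 0) {n : ℕ} (hn : Odd n) (Q₁ Q₂ : QuadraticForm F (Fin n → F)) (h₁ : (QuadraticMap.polarBilin Q₁).Nondegenerate) (h₂ : (QuadraticMap.polarBilin Q₂).Nondegenerate) : ∃ (g : (Fin n → F) ≃ₗ[F] (Fin n → F)) (c : F), c ≠ 0 ∧ ∀ v, Q₂ (g v) = c * Q₁ v := by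
  classical
  obtain ⟨k, rfl⟩ := hn
  have key : ∀ Q : QuadraticForm F (Fin (2 * k + 1) → F), (QuadraticMap.polarBilin Q).Nondegenerate →
      ∃ (c : F) (b : Module.Basis ((Fin k × Bool) ⊕ Unit) F (Fin (2 * k + 1) → F)), c ≠ 0 ∧
        ∀ v, Q v = ((2 : F)⁻¹ * c) * ∑ i, (b.repr v i) ^ 2 := by
    intro Q hQ
    obtain ⟨c, b, hc, hb⟩ := Cfsg.Lib.Classical.exists_equal_norm_basis h2 (QuadraticMap.polarBilin Q)
      ⟨fun u v => by simp [QuadraticMap.polar_comm]⟩ hQ (m := k) (Module.finrank_fin_fun F)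
    refine ⟨c, b, hc, fun v => ?_⟩
    have hv : QuadraticMap.polarBilin Q v v = 2 * Q v := by
      simp [QuadraticMap.polar_self, two_mul, two_nsmul]
    rw [mul_assoc, eq_inv_mul_iff_mul_eq₀ h2, ← hv, Finset.mul_sum]
    conv_lhs => rw [← b.sum_repr v]
    simp only [map_sum, map_smul, LinearMap.coe_sum, Finset.sum_apply, LinearMap.smul_apply, hb, smul_eq_mul,
      mul_ite, mul_zero, Finset.sum_ite_eq', Finset.mem_univ, if_true]
    exact Finset.sum_congr rfl fun i _ => by ring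
  obtain ⟨c₁, b₁, hc₁, e₁⟩ := key Q₁ h₁
  obtain ⟨c₂, b₂, hc₂, e₂⟩ := key Q₂ h₂
  refine ⟨b₁.repr.trans b₂.repr.symm, c₂ / c₁, div_ne_zero hc₂ hc₁, fun v => ?_⟩
  rw [e₁, e₂, LinearEquiv.trans_apply, LinearEquiv.apply_symm_apply]
  field_simp

end Cfsg.Agent.S0838
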