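import Cfsg.Statements.S0843
import Cfsg.Agent.OddLocal.QuaternionDerived

set_option autoImplicit false
set_option linter.style.haveILetI false
open Cfsg

namespace Cfsg.Agent.S0843

/-- Suppose a Sylow 2-subgroup S of the finite group G is generalized quaternion of order at least 16; let D be the commutator subgroup of S and X the set of elements of the centralizer of D whose order is divisible by the order of D. Then D is contained in the cyclic subgroup generated by any element of X; an element of G conjugating some element of X into the centralizer of D normalizes D; and the normalizer of D maps X to itself under conjugation. -/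
theorem result {G : Type*} [Group G] [Finite G] (S : Sylow 2 G) (n : ℕ) (e : (S : Subgroup G) ≃* QuaternionGroup (2 ^ (n + 2))) (D : Subgroup G) (hD : D = ⁅(S : Subgroup G), (S : Subgroup G)⁆) : (∀ y : G, y ∈ Subgroup.centralizer (D : Set G) → Nat.card D ∣ orderOf y → D ≤ Subgroup.zpowers y) ∧ (∀ g y : G, y ∈ Subgroup.centralizer (D : Set G) → Nat.card D ∣ orderOf y → g * y * g⁻¹ ∈ Subgroup.centralizer (D : Set G) → g ∈ Subgroup.normalizer (D : Set G)) ∧ (∀ g y : G, g ∈ Subgroup.normalizer (D : Set G) → y ∈ Subgroup.centralizer (D : Set G) → Nat.card D ∣ orderOf y → g * y * g⁻¹ ∈ Subgroup.centralizer (D : Set G) ∧ Nat.card D ∣ orderOf (g * y * g⁻¹)) := by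
  have h1 : ∀ y : G, y ∈ Subgroup.centralizer (D : Set G) → Nat.card D ∣ orderOf y →
      D ≤ Subgroup.zpowers y := fun y => Cfsg.Lib.OddLocal.QuatDerived.le_zpowers_of_dvd S n e D hD
  have ho : ∀ g y : G, orderOf (g * y * g⁻¹) = orderOf y := fun g y =>
    orderOf_injective (MulAut.conj g).toMonoidHom (MulAut.conj g).injective y
  refine ⟨h1, fun g y hy hd hgy => ?_, fun g y hg hy hd =>
    ⟨Cfsg.Lib.OddLocal.QuatDerived.conj_mem_centralizer D hg hy, (ho g y).symm ▸ hd⟩⟩
  have hy1 : D ≤ Subgroup.zpowers y := h1 y hy hd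
  have hy2 : D ≤ Subgroup.zpowers (g * y * g⁻¹) := h1 _ hgy ((ho g y).symm ▸ hd)
  set m := Nat.card D
  obtain ⟨l, hl⟩ := hd
  have hm : 0 < m := Nat.card_pos
  have key : ∀ z : G, D ≤ Subgroup.zpowers z → orderOf z = m * l → Subgroup.zpowers (z ^ l) = D := by
    intro z hz hzl
    refine (Subgroup.eq_of_le_of_card_ge ?_ (le_of_eq ?_)).symm
    · intro x hx
      obtain ⟨k, rfl⟩ := Subgroup.mem_zpowers_iff.1 (hz hx)
      have h2 : (z ^ k) ^ (m : ℤ) = 1 := by
        rw [zpow_natCast]
        exact congrArg Subtype.val (pow_card_eq_one' (x := (⟨z ^ k, hx⟩ : D)))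
      rw [← zpow_mul, ← orderOf_dvd_iff_zpow_eq_one, hzl, Nat.cast_mul, mul_comm k] at h2
      obtain ⟨j, rfl⟩ := (mul_dvd_mul_iff_left (by exact_mod_cast hm.ne')).1 h2
      exact Subgroup.mem_zpowers_iff.2 ⟨j, by rw [← zpow_natCast, ← zpow_mul]⟩
    · rw [Nat.card_zpowers, orderOf_pow_of_dvd ?_ (hzl ▸ Dvd.intro_left _ rfl), hzl, Nat.mul_div_cancel]
      · exact Nat.pos_of_ne_zero (fun h => (orderOf_pos z).ne' (by rw [hzl, h, Nat.mul_zero]))
      · exact fun h => (orderOf_pos z).ne' (by rw [hzl, h, Nat.mul_zero])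
  have e1 := key y hy1 hl
  have e2 := key (g * y * g⁻¹) hy2 ((ho g y).trans hl)
  have e3 : D.map (MulAut.conj g).toMonoidHom = D := by
    conv_lhs => rw [← e1]
    rw [MonoidHom.map_zpowers, map_pow, ← e2]
    rfl
  rw [Subgroup.mem_normalizer_iff]
  intro x
  constructor
  · intro hx
    exact e3.le (Subgroup.mem_map.2 ⟨x, hx, rfl⟩)
  · intro hx
    obtain ⟨x', hx', he⟩ := Subgroup.mem_map.1 (e3.ge hx)
    obtain rfl : x' = x := (MulAut.conj g).injective he
    exact hx'

end Cfsg.Agent.S0843
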