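import Cfsg.Statements.S0845
import Cfsg.Agent.OddLocal.QuaternionBrauerSuzuki

set_option autoImplicit false
set_option linter.style.haveILetI false
open Cfsg

namespace Cfsg.Agent.S0845

/-- Suppose a Sylow 2-subgroup S of the finite group G is generalized quaternion of order at least 16. Then G has a normal subgroup M of even order such that G / M is non-abelian, that is, M does not contain the commutator subgroup of G. -/
theorem result {G : Type*} [Group G] [Finite G] (S : Sylow 2 G) (n : ℕ) (e : (S : Subgroup G) ≃* QuaternionGroup (2 ^ (n + 2))) : ∃ M : Subgroup G, M.Normal ∧ Even (Nat.card M) ∧ ¬ commutator G ≤ M := by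
  classical
  haveI := Fintype.ofFinite G
  obtain ⟨μ, ν, -, -, hdeg, -, hinv, -⟩ := Cfsg.Lib.OddLocal.QuatDerived.exists_pair S n e
  have hc := Cfsg.Lib.Chars.isCharacter_of_irr ν.2
  refine ⟨Cfsg.Lib.Chars.kerSubgroup (ν : G → ℂ) hc, Cfsg.Lib.Chars.kerSubgroup_normal hc, ?_, ?_⟩
  · obtain ⟨u, -, hT, hou, -, hcS⟩ :=
      Cfsg.Lib.OddLocal.QuatDerived.data S n e _ rfl
    obtain ⟨x, hx⟩ := exists_prime_orderOf_dvd_card' (G := G) 2
      ((hcS ▸ (dvd_pow_self 2 (by omega) : 2 ∣ 2 ^ (n + 4))).trans (Subgroup.card_subgroup_dvd_card _))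
    rw [even_iff_two_dvd, ← hx]
    exact Subgroup.orderOf_dvd_natCard _ (hinv x hx).2
  · intro hle
    have h1 := Cfsg.Lib.OddLocal.QuatDerived.deg_one_of_commutator ν.2 fun x hx => hle hx
    rw [hdeg] at h1
    have hμ := Cfsg.Lib.Chars.IsIrrCharacter.apply_one_ne_zero μ.2
    exact hμ (by linear_combination h1)

end Cfsg.Agent.S0845
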