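import Cfsg.Statements.S0849
import Cfsg.Agent.Chars.Induced

set_option autoImplicit false
open Cfsg

namespace Cfsg.Agent.S0849

/-- Let H be a subgroup of a finite group G and S a subset of H that is mapped to itself under conjugation by H, is disjoint from its conjugate by any element outside H, and is closed under inverses. Let φ be a class function of H vanishing on H away from S, and let u, v be involutions of G. Then the sum of the induced function of φ over all products a * b with a conjugate to u and b conjugate to v equals the index of H times the sum of φ (a * b) over such pairs with a and b in H. -/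
theorem result {G : Type*} [Group G] [Fintype G] (H : Subgroup G) (S : Set G) (hSH : S ⊆ H) (hHS : ∀ h ∈ H, ∀ s ∈ S, h * s * h⁻¹ ∈ S) (hTI : ∀ g : G, g ∉ H → ∀ s ∈ S, g * s * g⁻¹ ∉ S) (hinv : ∀ s ∈ S, s⁻¹ ∈ S) (φ : H → ℂ) (hφ : Cfsg.IsClassFunction H φ) (hφS : ∀ x : H, (x : G) ∉ S → φ x = 0) (u v : G) (hu : orderOf u = 2) (hv : orderOf v = 2) : ∑ᶠ p ∈ {p : G × G | IsConj u p.1 ∧ IsConj v p.2}, Cfsg.indFun H φ (p.1 * p.2) = (H.index : ℂ) * ∑ᶠ p ∈ {p : H × H | IsConj u (p.1 : G) ∧ IsConj v (p.2 : G)}, φ (p.1 * p.2) := by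
  classical
  simp only [finsum_mem_eq_finite_toFinset_sum _ (Set.toFinite _)]
  set T := (Set.toFinite {p : G × G | IsConj u p.1 ∧ IsConj v p.2}).toFinset with hTdef
  set TH := (Set.toFinite {p : H × H | IsConj u (p.1 : G) ∧ IsConj v (p.2 : G)}).toFinset with hTHdef
  have hmemT : ∀ p : G × G, p ∈ T ↔ IsConj u p.1 ∧ IsConj v p.2 := fun p => by
    simp [hTdef]
  set e := Cfsg.extendByZero H φ with he
  have hconjinv : ∀ x w a : G, IsConj w a → IsConj w (x⁻¹ * a * x) := fun x w a h =>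
    h.trans (isConj_iff.mpr ⟨x⁻¹, by simp⟩)
  have hinner : ∀ x : G, ∑ p ∈ T, e (x⁻¹ * (p.1 * p.2) * x) = ∑ p ∈ T, e (p.1 * p.2) := fun x => by
    refine Finset.sum_nbij' (fun p => (x⁻¹ * p.1 * x, x⁻¹ * p.2 * x))
      (fun p => (x * p.1 * x⁻¹, x * p.2 * x⁻¹)) ?_ ?_ ?_ ?_ ?_
    · intro p hp
      rw [hmemT] at hp
      rw [hmemT]
      exact ⟨hconjinv x u _ hp.1, hconjinv x v _ hp.2⟩
    · intro p hp
      rw [hmemT] at hp
      rw [hmemT]
      exact ⟨by simpa using hconjinv x⁻¹ u _ hp.1, by simpa using hconjinv x⁻¹ v _ hp.2⟩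
    · intro p _; ext <;> simp [mul_assoc]
    · intro p _; ext <;> simp [mul_assoc]
    · intro p _; congr 1; group
  have hsum : ∑ p ∈ T, Cfsg.indFun H φ (p.1 * p.2) = (H.index : ℂ) * ∑ p ∈ T, e (p.1 * p.2) := by
    simp only [Cfsg.Lib.Chars.indFun_apply, ← he]
    rw [← Finset.mul_sum, Finset.sum_comm, Finset.sum_congr rfl (fun x _ => hinner x),
      Finset.sum_const, nsmul_eq_mul, Finset.card_univ, ← Nat.card_eq_fintype_card, ← mul_assoc,
      ← Subgroup.card_mul_index H, Nat.cast_mul, inv_mul_cancel_left₀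
        (Nat.cast_ne_zero.mpr Nat.card_pos.ne')]
  rw [hsum]
  congr 1
  symm
  set T' := T.filter (fun p => p.1 ∈ H ∧ p.2 ∈ H) with hT'
  have hrest : ∑ p ∈ T', e (p.1 * p.2) = ∑ p ∈ T, e (p.1 * p.2) := by
    refine Finset.sum_subset (Finset.filter_subset _ _) fun p hp hp' => ?_
    rw [hmemT] at hp
    by_cases hm : p.1 * p.2 ∈ H
    · rw [he, Cfsg.Lib.Chars.extendByZero_mem _ hm]
      refine hφS _ fun hS => hp' ?_
      have hinvol : ∀ w a : G, orderOf w = 2 → IsConj w a → a * a = 1 := by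
        intro w a hw h
        obtain ⟨c, rfl⟩ := isConj_iff.mp h
        have hw2 : w * w = 1 := by rw [← pow_two, ← hw, pow_orderOf_eq_one]
        calc c * w * c⁻¹ * (c * w * c⁻¹) = c * (w * w) * c⁻¹ := by group
          _ = 1 := by rw [hw2]; group
      have ha := hinvol u p.1 hu hp.1
      have hb := hinvol v p.2 hv hp.2
      have hinvS : p.1 * (p.1 * p.2) * p.1⁻¹ = (p.1 * p.2)⁻¹ := by
        rw [inv_eq_of_mul_eq_one_left ha, mul_inv_rev, inv_eq_of_mul_eq_one_left ha,
          inv_eq_of_mul_eq_one_left hb, ← mul_assoc, ha, one_mul]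
      have h1 : p.1 ∈ H := by
        by_contra h
        exact hTI p.1 h _ hS (hinvS ▸ hinv _ hS)
      have h2 : p.2 ∈ H := by
        have := mul_mem (inv_mem h1) hm
        rwa [inv_mul_cancel_left] at this
      rw [hT']
      exact Finset.mem_filter.mpr ⟨(hmemT p).mpr hp, h1, h2⟩
    · rw [he, Cfsg.Lib.Chars.extendByZero_not_mem _ hm]
  rw [← hrest]
  refine Finset.sum_bij (fun p _ => ((p.1 : G), (p.2 : G))) ?_ ?_ ?_ ?_
  · intro p hp
    rw [hT', Finset.mem_filter, hmemT]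
    simp only [hTHdef, Set.Finite.mem_toFinset, Set.mem_ofPred_eq] at hp
    exact ⟨hp, p.1.2, p.2.2⟩
  · intro p _ q _ h
    obtain ⟨h1, h2⟩ := Prod.mk.inj h
    exact Prod.ext (Subtype.ext h1) (Subtype.ext h2)
  · intro p hp
    rw [hT', Finset.mem_filter, hmemT] at hp
    exact ⟨(⟨p.1, hp.2.1⟩, ⟨p.2, hp.2.2⟩), by simpa [hTHdef] using hp.1, rfl⟩
  · intro p _
    rw [he, ← Cfsg.Lib.Chars.extendByZero_apply H φ]
    rfl

end Cfsg.Agent.S0849
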