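import Cfsg.Statements.S0851
import Cfsg.Agent.Chars.FrobeniusTIExc
import Cfsg.Agent.Chars.Galois
import Cfsg.Agent.Chars.NormTwo

set_option autoImplicit false
open Cfsg

namespace Cfsg.Agent.S0851

/-- Let K be a subgroup of the finite group G that meets each conjugate by an element outside its normalizer N trivially, is properly contained in N, and contains the centralizer of each of its non-identity elements (a T.I. subgroup with Frobenius normalizer). Suppose K is abelian, let e be the index of K in N, and call an irreducible character of N relevant when it takes at some element of K a value different from its degree. Then either there is exactly one relevant character and K is an elementary abelian p-group of order e + 1 for some prime p, or there are a sign ε and an injective map f from the relevant characters to the irreducible characters of G such that inducing χ - ξ to G gives ε (f χ - f ξ) for all relevant χ and ξ. -/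
theorem result {G : Type*} [Group G] [Fintype G] (K : Subgroup G) (hTI : ∀ g : G, g ∉ Subgroup.normalizer (K : Set G) → ∀ k ∈ K, g * k * g⁻¹ ∈ K → k = 1) (hlt : K < Subgroup.normalizer (K : Set G)) (hC : ∀ k ∈ K, k ≠ 1 → Subgroup.centralizer ({k} : Set G) ≤ K) (hab : ∀ a ∈ K, ∀ b ∈ K, a * b = b * a) : (Nat.card {χ : Cfsg.IrrCharacter (Subgroup.normalizer (K : Set G)) // ∃ k : Subgroup.normalizer (K : Set G), (k : G) ∈ K ∧ (χ : ↥(Subgroup.normalizer (K : Set G)) → ℂ) k ≠ (χ : ↥(Subgroup.normalizer (K : Set G)) → ℂ) 1} = 1 ∧ ∃ p : ℕ, p.Prime ∧ Cfsg.IsElementaryAbelian p K ∧ Nat.card K = (K.subgroupOf (Subgroup.normalizer (K : Set G))).index + 1) ∨ ∃ (ε : ℂ) (f : {χ : Cfsg.IrrCharacter (Subgroup.normalizer (K : Set G)) // ∃ k : Subgroup.normalizer (K : Set G), (k : G) ∈ K ∧ (χ : ↥(Subgroup.normalizer (K : Set G)) → ℂ) k ≠ (χ : ↥(Subgroup.normalizer (K : Set G)) → ℂ) 1} → Cfsg.IrrCharacter G), (ε = 1 ∨ ε = -1) ∧ Function.Injective f ∧ ∀ χ ξ, Cfsg.indFun (Subgroup.normalizer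 (K : Set G)) ((χ.1 : ↥(Subgroup.normalizer (K : Set G)) → ℂ) - (ξ.1 : ↥(Subgroup.normalizer (K : Set G)) → ℂ)) = ε • ((f χ : G → ℂ) - (f ξ : G → ℂ)) := by
  classical
  set NK := Subgroup.normalizer (K : Set G)
  set K' := K.subgroupOf NK
  have := Fintype.ofFinite NK
  have := Fintype.ofFinite K'
  have hC' := Cfsg.Lib.FrobTI.centralizer_le K hC
  set ι := {χ : Cfsg.IrrCharacter NK // ∃ k : NK, (k : G) ∈ K ∧ (χ : NK → ℂ) k ≠ (χ : NK → ℂ) 1}
  have := Fintype.ofFinite ι
  have hmem : ∀ i : ι, Cfsg.Lib.FrobTI.NonConst K' (i.1 : NK → ℂ) := fun i => ⟨i.1.2, i.2⟩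
  have hdeg : ∀ i : ι, (i.1 : NK → ℂ) 1 = (K'.index : ℂ) := by
    intro i
    obtain ⟨θ, hθ, hθe⟩ := Cfsg.Lib.FrobTI.exists_induced K' hC' (hmem i)
    rw [← hθe, Cfsg.Lib.Chars.indFun_one, Cfsg.Lib.Chars.irr_deg_one_of_comm (fun a b =>
      Subtype.ext (Subtype.ext (hab _ a.2 _ b.2))) hθ, mul_one]
  by_cases hone : Nat.card ι = 1
  · refine Or.inl ⟨hone, ?_⟩
    obtain ⟨hsub, ⟨i₀⟩⟩ := Nat.card_eq_one_iff_unique.mp hone
    obtain ⟨hd1, hd2⟩ := Cfsg.Lib.FrobTI.sum_deg_data K' hC'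
    have hS : Finset.univ.filter (fun χ : Cfsg.IrrCharacter NK => Cfsg.Lib.FrobTI.NonConst K' χ) =
        {i₀.1} := by
      ext χ
      simp only [Finset.mem_filter, Finset.mem_univ, true_and, Finset.mem_singleton]
      exact ⟨fun h => congrArg Subtype.val (hsub.elim (⟨χ, h.2⟩ : ι) i₀), fun h => h ▸ hmem i₀⟩
    rw [hS, Finset.sum_singleton] at hd1
    have he : (K'.index : ℂ) ≠ 0 := by exact_mod_cast K'.index_ne_zero_of_finite
    have hcard : Nat.card K = K'.index + 1 := by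
      rw [hdeg i₀, sq] at hd1
      have h1 := mul_left_cancel₀ he hd1
      rw [eq_sub_iff_add_eq] at h1
      rw [← Nat.card_congr (Subgroup.subgroupOfEquivOfLe (Subgroup.le_normalizer : K ≤ NK)).toEquiv]
      exact_mod_cast h1.symm
    have hconj : ∀ a ∈ K, a ≠ 1 → ∀ b ∈ K, b ≠ 1 → orderOf a = orderOf b := by
      intro a ha ha1 b hb hb1
      have hKN : K ≤ NK := Subgroup.le_normalizer
      have h1 : IsConj (⟨a, hKN ha⟩ : NK) ⟨b, hKN hb⟩ := by
        refine (Cfsg.Lib.Chars.isConj_iff_forall_irr _ _).mpr fun χ => ?_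
        by_cases hχ : Cfsg.Lib.FrobTI.NonConst K' (χ : NK → ℂ)
        · have h2 : χ = i₀.1 := congrArg Subtype.val (hsub.elim (⟨χ, hχ.2⟩ : ι) i₀)
          subst h2
          have hv : ∀ k : NK, k ∈ K' → k ≠ 1 → (i₀.1 : NK → ℂ) k = -1 := fun k hk hk1 => by
            have h3 := hd2 k hk hk1
            rw [hS, Finset.sum_singleton, hdeg i₀] at h3
            exact mul_left_cancel₀ he (by rw [h3]; ring)
          rw [hv _ ha (fun h => ha1 (congrArg Subtype.val h)),
            hv _ hb (fun h => hb1 (congrArg Subtype.val h))]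
        · rw [Cfsg.Lib.FrobTI.apply_eq_of_not K' χ.2 hχ (k := ⟨a, hKN ha⟩) ha,
            Cfsg.Lib.FrobTI.apply_eq_of_not K' χ.2 hχ (k := ⟨b, hKN hb⟩) hb]
      obtain ⟨g, hg⟩ := isConj_iff.mp h1
      have h2 : orderOf (MulAut.conj (g : G) a) = orderOf a := (MulAut.conj (g : G)).orderOf_eq a
      rw [MulAut.conj_apply, show (g : G) * a * (g : G)⁻¹ = b from congrArg Subtype.val hg] at h2
      exact h2.symm
    obtain ⟨p, hp, hpd⟩ := Nat.exists_prime_and_dvd (show Nat.card K ≠ 1 by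
      rw [hcard]; have := Nat.pos_of_ne_zero K'.index_ne_zero_of_finite; omega)
    have := Fact.mk hp
    obtain ⟨⟨x, hx⟩, hxo⟩ := exists_prime_orderOf_dvd_card' (G := K) p hpd
    rw [Subgroup.orderOf_mk] at hxo
    have hx1 : x ≠ 1 := fun h => by rw [h, orderOf_one] at hxo; exact hp.ne_one hxo.symm
    refine ⟨p, hp, ⟨⟨⟨fun a b => Subtype.ext (hab a a.2 b b.2)⟩⟩, fun a ha => ?_⟩, hcard⟩
    by_cases ha1 : a = 1
    · rw [ha1, one_pow]
    · rw [← hxo, hconj x hx hx1 a ha ha1, pow_orderOf_eq_one]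
  · refine Or.inr ?_
    by_cases hem : IsEmpty ι
    · exact ⟨1, fun i => hem.elim i, Or.inl rfl, fun i => hem.elim i, fun i => hem.elim i⟩
    rw [not_isEmpty_iff] at hem
    obtain ⟨i₀⟩ := hem
    let τ : ι → (G → ℂ) := fun i => Cfsg.indFun NK ((i.1 : NK → ℂ) - (i₀.1 : NK → ℂ))
    have hoff : ∀ i : ι, ∀ x : NK, (x : G) ∉ (K : Set G) → ((i.1 : NK → ℂ) - (i₀.1 : NK → ℂ)) x = 0 :=
      fun i x hx => by
        rw [Pi.sub_apply, Cfsg.Lib.FrobTI.eq_zero_of_not_mem K' hC' (hmem i) hx,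
          Cfsg.Lib.FrobTI.eq_zero_of_not_mem K' hC' (hmem i₀) hx, sub_zero]
    have hzero : ∀ i : ι, ((i.1 : NK → ℂ) - (i₀.1 : NK → ℂ)) 1 = 0 := fun i => by
      rw [Pi.sub_apply, hdeg, hdeg, sub_self]
    have hgen : ∀ i : ι, Cfsg.IsGeneralizedCharacter NK ((i.1 : NK → ℂ) - (i₀.1 : NK → ℂ)) := fun i =>
      ⟨_, _, Cfsg.Lib.Chars.isCharacter_of_irr i.1.2, Cfsg.Lib.Chars.isCharacter_of_irr i₀.1.2, rfl⟩
    obtain ⟨ε, hε, μ, hμ, hinj, hτ⟩ := Cfsg.Lib.Chars.exists_star i₀ τ
      (by simp only [τ, sub_self]; exact Cfsg.Lib.Chars.indFun_zero NK)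
      (fun i => Cfsg.Lib.Chars.IsGeneralizedCharacter.indFun (hgen i))
      (fun i => by simp only [τ, Cfsg.Lib.Chars.indFun_one, hzero, mul_zero])
      (fun i j hi hj => by
        have h1 : Cfsg.classInner (τ i) (τ j) = (if i.1 = j.1 then (1 : ℂ) else 0) + 1 := by
          simp only [τ]
          rw [Cfsg.Lib.Chars.classInner_indFun_TI (K : Set G) hTI (hoff i) (hzero i)
            (Cfsg.Lib.Chars.isClassFunction_generalized (hgen j)) (hoff j),
            Cfsg.Lib.Chars.classInner_sub_left, Cfsg.Lib.Chars.classInner_sub_right,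
            Cfsg.Lib.Chars.classInner_sub_right, Cfsg.Lib.Chars.classInner_irrCharacter,
            Cfsg.Lib.Chars.classInner_irrCharacter, Cfsg.Lib.Chars.classInner_irrCharacter,
            Cfsg.Lib.Chars.classInner_irrCharacter,
            if_neg (fun h : i.1 = i₀.1 => hi (Subtype.ext h)),
            if_neg (fun h : i₀.1 = j.1 => hj (Subtype.ext h.symm)), if_pos rfl]
          ring
        refine ⟨fun h => ?_, fun h => ?_⟩
        · rw [h1, if_pos (congrArg Subtype.val h)]; norm_num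
        · rw [h1, if_neg (fun he => h (Subtype.ext he))]; norm_num)
    refine ⟨ε, fun i => ⟨μ i, hμ i⟩, hε, fun i j h => hinj (congrArg Subtype.val h), fun i j => ?_⟩
    have h1 : Cfsg.indFun NK ((i.1 : NK → ℂ) - (j.1 : NK → ℂ)) = τ i - τ j := by
      simp only [τ]
      rw [← Cfsg.Lib.Chars.indFun_sub]
      congr 1
      abel
    rw [h1, hτ i, hτ j, ← smul_sub]
    congr 1
    abel

end Cfsg.Agent.S0851
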