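import Cfsg.Statements.S0852
import Cfsg.Agent.Chars.FrobeniusTIExc

set_option autoImplicit false
open Cfsg

namespace Cfsg.Agent.S0852

/-- Let K be a subgroup of the finite group G that meets each conjugate by an element outside its normalizer N trivially, is properly contained in N, and contains the centralizer of each of its non-identity elements (a T.I. subgroup with Frobenius normalizer). Let S be the set of irreducible characters of N taking at some element of K a value different from their degree, suppose S has at least two members, and let star be a linear isometry on the integer span of S into the generalized characters of G that agrees with induction on the members vanishing at the identity (so S is coherent, with star as the extending isometry). Then an irreducible character ψ of G is of the form star χ or -star χ for some χ in S if and only if ψ is not constant on the non-identity elements of K. -/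
theorem result {G : Type*} [Group G] [Fintype G] (K : Subgroup G) (hTI : ∀ g : G, g ∉ Subgroup.normalizer (K : Set G) → ∀ k ∈ K, g * k * g⁻¹ ∈ K → k = 1) (hlt : K < Subgroup.normalizer (K : Set G)) (hC : ∀ k ∈ K, k ≠ 1 → Subgroup.centralizer ({k} : Set G) ≤ K) [Fintype ↥(Subgroup.normalizer (K : Set G))] (S : Set (↥(Subgroup.normalizer (K : Set G)) → ℂ)) (hS : S = {χ : ↥(Subgroup.normalizer (K : Set G)) → ℂ | Cfsg.IsIrrCharacter ↥(Subgroup.normalizer (K : Set G)) χ ∧ ∃ k : ↥(Subgroup.normalizer (K : Set G)), (k : G) ∈ K ∧ χ k ≠ χ 1}) (htwo : ∃ χ ∈ S, ∃ ξ ∈ S, χ ≠ ξ) (star : (↥(Subgroup.normalizer (K : Set G)) → ℂ) → (G → ℂ)) (hstar : Cfsg.IsLinearIsometryOn (Cfsg.zspan S) star) (hext : ∀ α ∈ Cfsg.zspanOn S ({1}ᶜ : Set ↥(Subgroup.normalizer (K : Set G))), star α = Cfsg.indFun (Subgroup.normalizer (K : Set G)) α) (ψ : G → ℂ) (hψ : Cfsg.IsIrrCharacter G ψ) : (∃ χ ∈ S, ψ = star χ ∨ ψ = -star χ) ↔ ∃ a ∈ K, ∃ b ∈ K, a ≠ 1 ∧ b ≠ 1 ∧ ψ a ≠ ψ b := by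
  classical
  set K' := K.subgroupOf (Subgroup.normalizer (K : Set G))
  have := Fintype.ofFinite K'
  have hC' := Cfsg.Lib.FrobTI.centralizer_le K hC
  have hS' : S = {χ | Cfsg.Lib.FrobTI.NonConst K' χ} := hS
  have hmem : ∀ φ ∈ S, Cfsg.Lib.FrobTI.NonConst K' φ := fun φ h => by rwa [hS'] at h
  have hKN : K ≤ Subgroup.normalizer (K : Set G) := Subgroup.le_normalizer
  constructor
  · rintro ⟨χ, hχ, hψe⟩
    obtain ⟨c, hc⟩ := Cfsg.Lib.FrobTI.star_sub_const K hTI hlt hC hS' hstar hext hχ
    obtain ⟨x, hx, y, hy, hxy⟩ := htwo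
    have hex : ∃ ξ ∈ S, χ ≠ ξ := by
      by_cases h : χ = x
      · exact ⟨y, hy, h ▸ hxy⟩
      · exact ⟨x, hx, h⟩
    obtain ⟨ξ, hξ, hne⟩ := hex
    obtain ⟨a, ha, b, hb, ha1, hb1, hab⟩ := Cfsg.Lib.FrobTI.exists_apply_ne K' hC' (hmem χ hχ)
      (hmem ξ hξ) hne
    refine ⟨a, ha, b, hb, fun h => ha1 (Subtype.ext h), fun h => hb1 (Subtype.ext h), fun h => hab ?_⟩
    have h1 := hc χ hχ a ha ha1
    have h2 := hc χ hχ b hb hb1
    rcases hψe with rfl | rfl
    · linear_combination h2 - h1 + h
    · simp only [Pi.neg_apply, neg_inj] at h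
      linear_combination h2 - h1 + h
  · rintro ⟨a, ha, b, hb, ha1, hb1, hab⟩
    by_contra hcon
    push Not at hcon
    have hψc := Cfsg.Lib.Chars.isClassFunction_isChar (Cfsg.Lib.Chars.isCharacter_of_irr hψ)
    have horth : ∀ χ ∈ S, Cfsg.classInner ψ (star χ) = 0 := by
      intro χ hχ
      have hn : Cfsg.classInner (star χ) (star χ) = 1 := by
        rw [hstar.2.2.1 χ (Submodule.subset_span hχ) χ (Submodule.subset_span hχ),
          Cfsg.Lib.Chars.classInner_self_irr (hmem χ hχ).1]
      rcases Cfsg.Lib.Chars.isIrr_or_neg_of_norm_one (hstar.2.2.2 χ (Submodule.subset_span hχ)) hn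
        with h | h
      · rw [Cfsg.Lib.Chars.classInner_irrChar hψ h, if_neg (hcon χ hχ).1]
      · have h2 := Cfsg.Lib.Chars.classInner_irrChar hψ h
        rw [if_neg (hcon χ hχ).2, Cfsg.Lib.Chars.classInner_neg_right, neg_eq_zero] at h2
        exact h2
    obtain ⟨x, hx, -⟩ := htwo
    refine hab (Cfsg.Lib.FrobTI.const_of_orth K' hC'
      (f := fun x : Subgroup.normalizer (K : Set G) => ψ x) (fun u v => hψc u v) (hmem x hx)
      (fun χ ξ hχ hξ => ?_) ⟨a, hKN ha⟩ ha (fun h => ha1 (congrArg Subtype.val h)) ⟨b, hKN hb⟩ hb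
        (fun h => hb1 (congrArg Subtype.val h)))
    have hχ' : χ ∈ S := by rw [hS']; exact hχ
    have hξ' : ξ ∈ S := by rw [hS']; exact hξ
    have h1 := Cfsg.Lib.FrobTI.inner_restrict_diff K hC hmem hext hψc hχ' hξ'
    rw [Cfsg.Lib.FrobTI.star_diff K hC hstar hχ' hξ', Cfsg.Lib.Chars.classInner_sub_right,
      Cfsg.Lib.Chars.classInner_zsmul_right, Cfsg.Lib.Chars.classInner_zsmul_right,
      horth χ hχ', horth ξ hξ', mul_zero, mul_zero, sub_self, sub_eq_zero] at h1
    exact h1

end Cfsg.Agent.S0852
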