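import Cfsg.Statements.S0853
import Cfsg.Agent.Chars.FrobeniusTIExc

set_option autoImplicit false
open Cfsg

namespace Cfsg.Agent.S0853

/-- Let K be a subgroup of the finite group G that meets each conjugate by an element outside its normalizer N trivially, is properly contained in N, and contains the centralizer of each of its non-identity elements (a T.I. subgroup with Frobenius normalizer). Let S be the set of irreducible characters of N taking at some element of K a value different from their degree, suppose S has at least two members, and let star be a linear isometry on the integer span of S into the generalized characters of G that agrees with induction on the members vanishing at the identity (so S is coherent, with star as the extending isometry). Then there is a single integer m such that star χ k - χ k = m * χ 1 / e for every χ in S and every non-identity element k of K, where e is the index of K in N. -/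
theorem result {G : Type*} [Group G] [Fintype G] (K : Subgroup G) (hTI : ∀ g : G, g ∉ Subgroup.normalizer (K : Set G) → ∀ k ∈ K, g * k * g⁻¹ ∈ K → k = 1) (hlt : K < Subgroup.normalizer (K : Set G)) (hC : ∀ k ∈ K, k ≠ 1 → Subgroup.centralizer ({k} : Set G) ≤ K) [Fintype ↥(Subgroup.normalizer (K : Set G))] (S : Set (↥(Subgroup.normalizer (K : Set G)) → ℂ)) (hS : S = {χ : ↥(Subgroup.normalizer (K : Set G)) → ℂ | Cfsg.IsIrrCharacter ↥(Subgroup.normalizer (K : Set G)) χ ∧ ∃ k : ↥(Subgroup.normalizer (K : Set G)), (k : G) ∈ K ∧ χ k ≠ χ 1}) (htwo : ∃ χ ∈ S, ∃ ξ ∈ S, χ ≠ ξ) (star : (↥(Subgroup.normalizer (K : Set G)) → ℂ) → (G → ℂ)) (hstar : Cfsg.IsLinearIsometryOn (Cfsg.zspan S) star) (hext : ∀ α ∈ Cfsg.zspanOn S ({1}ᶜ : Set ↥(Subgroup.normalizer (K : Set G))), star α = Cfsg.indFun (Subgroup.normalizer (K : Set G)) α) : ∃ m : ℤ, ∀ χ ∈ S, ∀ k : ↥(Subgroup.normalizer (K : Set G)), (k : G) ∈ K → k ≠ 1 → star χ k - χ k = (m : ℂ) * χ 1 / ((K.subgroupOf (Subgroup.normalizer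 (K : Set G))).index : ℂ) := by
  classical
  set K' := K.subgroupOf (Subgroup.normalizer (K : Set G))
  have := Fintype.ofFinite K'
  have hC' := Cfsg.Lib.FrobTI.centralizer_le K hC
  have hS' : S = {χ | Cfsg.Lib.FrobTI.NonConst K' χ} := hS
  have hmem : ∀ φ ∈ S, Cfsg.Lib.FrobTI.NonConst K' φ := fun φ h => by rwa [hS'] at h
  obtain ⟨χ₀, h₀, -⟩ := htwo
  obtain ⟨c, hc⟩ := Cfsg.Lib.FrobTI.star_sub_const K hTI hlt hC hS' hstar hext h₀
  obtain ⟨k₀, hk₀, hk₀'⟩ := (hmem χ₀ h₀).2
  have hk1 : k₀ ≠ 1 := fun h => hk₀' (by rw [h])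
  have hK2 : 2 ≤ Nat.card K' := Finite.one_lt_card_iff_nontrivial.mpr
    ⟨⟨⟨k₀, hk₀⟩, 1, fun h => hk1 (congrArg Subtype.val h)⟩⟩
  have hK1 : (Nat.card K' : ℂ) - 1 ≠ 0 := by
    rw [sub_ne_zero]; exact_mod_cast (by omega : Nat.card K' ≠ 1)
  have hint : ∀ χ ∈ S, ∃ z : ℤ, c * χ 1 = z := by
    intro χ hχ
    have hχc := Cfsg.Lib.Chars.isCharacter_of_irr (hmem χ hχ).1
    have hsg := hstar.2.2.2 χ (Submodule.subset_span hχ)
    have hval : IsIntegral ℤ (c * χ 1) := by
      rw [← hc χ hχ k₀ hk₀ hk1]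
      exact (Cfsg.Lib.Chars.IsGeneralizedCharacter.isIntegral hsg _).sub
        (Cfsg.Lib.Chars.IsCharacter.isIntegral hχc _)
    obtain ⟨z, hz⟩ := Cfsg.Lib.Coherence.inner_int
      (Cfsg.Lib.Chars.IsGeneralizedCharacter.comp_hom hsg
        ((Subgroup.normalizer (K : Set G)).subtype.comp K'.subtype))
      (Cfsg.Lib.Chars.IsCharacter.isGeneralized (Cfsg.Lib.Chars.isCharacter_one (G := K')))
    obtain ⟨n, hn⟩ := Cfsg.Lib.Chars.IsGeneralizedCharacter.apply_one hsg
    obtain ⟨d, hd⟩ := Cfsg.Lib.Chars.IsGeneralizedCharacter.apply_one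
      (Cfsg.Lib.Chars.IsCharacter.isGeneralized hχc)
    rw [Cfsg.Lib.Chars.classInner_def] at hz
    simp only [map_one, mul_one] at hz
    have hsum : ∑ k : K', star χ ((k : Subgroup.normalizer (K : Set G)) : G) =
        star χ 1 - χ 1 + ((Nat.card K' : ℂ) - 1) * (c * χ 1) := by
      rw [Finset.sum_congr rfl (g := fun k : K' => χ k + c * χ 1 +
        if k = 1 then star χ 1 - χ 1 - c * χ 1 else 0) fun k _ => by
          by_cases h1 : k = 1
          · subst h1; simp
          · rw [if_neg h1, ← hc χ hχ k k.2 (fun h => h1 (Subtype.ext h))]; ring,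
        Finset.sum_add_distrib, Finset.sum_add_distrib, Cfsg.Lib.FrobTI.sum_eq_zero K' hC' (hmem χ hχ)]
      simp [Nat.card_eq_fintype_card]
      ring
    change (Nat.card K' : ℂ)⁻¹ * ∑ k : K', star χ ((k : Subgroup.normalizer (K : Set G)) : G) = z at hz
    rw [hsum, hn, hd, inv_mul_eq_iff_eq_mul₀ (by exact_mod_cast Nat.card_pos.ne')] at hz
    have hq : c * χ 1 = ((((Nat.card K' : ℚ) * z - n + d) / ((Nat.card K' : ℚ) - 1) : ℚ) : ℂ) := by
      push_cast
      rw [hd, eq_div_iff hK1]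
      linear_combination hz
    rw [hq] at hval ⊢
    obtain ⟨y, hy⟩ := Cfsg.Lib.Chars.int_of_isIntegral_rat hval
    exact ⟨y, by rw [hy]; simp⟩
  choose z hz using hint
  have hidx : (K'.index : ℂ) ≠ 0 := by exact_mod_cast K'.index_ne_zero_of_finite
  obtain ⟨hdata, -⟩ := Cfsg.Lib.FrobTI.sum_deg_data K' hC'
  have h1 : ∃ a : ℤ, c * (K'.index : ℂ) * ((Nat.card K' : ℂ) - 1) = a := by
    refine ⟨∑ χ ∈ (Finset.univ.filter (fun χ : Cfsg.IrrCharacter ↥(Subgroup.normalizer (K : Set G)) =>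
      Cfsg.Lib.FrobTI.NonConst K' χ)).attach,
        z χ.1.1 (by rw [hS']; exact (Finset.mem_filter.mp χ.2).2) *
          (Cfsg.Lib.Chars.deg χ.1.1 : ℤ), ?_⟩
    rw [mul_assoc, ← hdata, Finset.mul_sum, ← Finset.sum_attach]
    push_cast
    refine Finset.sum_congr rfl fun χ _ => ?_
    rw [← hz, ← Cfsg.Lib.Chars.irr_apply_one_eq_deg χ.1]
    ring
  obtain ⟨a, ha⟩ := h1
  obtain ⟨θ, hθ, hθe⟩ := Cfsg.Lib.FrobTI.exists_induced K' hC' (hmem χ₀ h₀)
  obtain ⟨l, hl⟩ := Cfsg.Lib.Chars.IsIrrCharacter.deg_dvd hθ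
  have hb : c * (K'.index : ℂ) * (Nat.card K' : ℂ) = ((z χ₀ h₀ * l : ℤ) : ℂ) := by
    push_cast
    rw [← hz, ← hθe, Cfsg.Lib.Chars.indFun_one, hl, Nat.cast_mul,
      Cfsg.Lib.Chars.IsCharacter.apply_one_eq_deg (Cfsg.Lib.Chars.isCharacter_of_irr hθ)]
    ring
  refine ⟨z χ₀ h₀ * l - a, fun χ hχ k hk hk' => ?_⟩
  rw [hc χ hχ k hk hk', eq_div_iff hidx]
  push_cast at hb ⊢
  linear_combination (χ 1) * hb - (χ 1) * ha

end Cfsg.Agent.S0853
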