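import Cfsg.Statements.S0857
import Cfsg.Agent.Chars.AbelianInertia
import Cfsg.Agent.Chars.Inertia
import Cfsg.Agent.Chars.Count

set_option autoImplicit false
open Cfsg

namespace Cfsg.Agent.S0857

/-- Let L < K be normal subgroups of the finite group G with no normal subgroup of G strictly between them and with K / L abelian (the commutator subgroup of K lies in L). Let ϑ be an irreducible character of K invariant under conjugation by G. Then the restriction of ϑ to L is irreducible; or it equals e times an irreducible character of L with e ^ 2 equal to the index of L in K; or it is the sum of a family of pairwise distinct irreducible characters of L indexed by a set whose size is the index of L in K. -/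
theorem result {G : Type*} [Group G] [Fintype G] (K L : Subgroup G) [hK : K.Normal] [L.Normal] (hLK : L < K) (hchief : ∀ M : Subgroup G, M.Normal → L ≤ M → M ≤ K → M = L ∨ M = K) (hab : ⁅K, K⁆ ≤ L) (ϑ : K → ℂ) (hϑ : Cfsg.IsIrrCharacter K ϑ) (hinv : ∀ (g : G) (n : K), ϑ ⟨g * n * g⁻¹, hK.conj_mem (n : G) n.2 g⟩ = ϑ n) : Cfsg.IsIrrCharacter L (fun x : L => ϑ ⟨(x : G), hLK.le x.2⟩) ∨ (∃ (φ : L → ℂ) (e : ℕ), Cfsg.IsIrrCharacter L φ ∧ (fun x : L => ϑ ⟨(x : G), hLK.le x.2⟩) = (e : ℂ) • φ ∧ e ^ 2 = L.relIndex K) ∨ (∃ F : Finset (L → ℂ), (∀ φ ∈ F, Cfsg.IsIrrCharacter L φ) ∧ F.card = L.relIndex K ∧ (fun x : L => ϑ ⟨(x : G), hLK.le x.2⟩) = ∑ φ ∈ F, φ) := by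
  classical
  have hKc := Fintype.ofFinite K
  set L' := L.subgroupOf K
  have := Fintype.ofFinite L'
  have hle : L ≤ K := hLK.le
  set r : L → ℂ := fun x : L => ϑ ⟨(x : G), hle x.2⟩
  let eL := Subgroup.subgroupOfEquivOfLe hle
  have hab' : ∀ x y : K, x * y * x⁻¹ * y⁻¹ ∈ L' := fun x y =>
    Subgroup.mem_subgroupOf.mpr (by
      have h1 : (x : G) * y * (x : G)⁻¹ * (y : G)⁻¹ ∈ L := hab (Subgroup.commutator_mem_commutator x.2 y.2)
      simpa using h1)
  have hϑc := Cfsg.Lib.Chars.isClassFunction_isChar (Cfsg.Lib.Chars.isCharacter_of_irr hϑ)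
  obtain ⟨φ, hφ, hc⟩ := Cfsg.Lib.Chars.exists_constituent L' (Cfsg.Lib.Chars.isCharacter_of_irr hϑ)
    (Cfsg.Lib.Chars.IsIrrCharacter.apply_one_ne_zero hϑ)
  set T := Cfsg.Lib.Chars.inertia L' φ
  have hLT : L' ≤ T := Cfsg.Lib.Chars.le_inertia
    (Cfsg.Lib.Chars.isClassFunction_isChar (Cfsg.Lib.Chars.isCharacter_of_irr hφ))
  -- the inertia group is normal in `G`
  have hLinv : ∀ (g : G) (n : L'), g * ((n : K) : G) * g⁻¹ ∈ L := fun g n =>
    (inferInstance : L.Normal).conj_mem _ n.2 g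
  let cg : G → L' ≃* L' := fun g =>
    { toFun := fun n => ⟨⟨g * ((n : K) : G) * g⁻¹, hle (hLinv g n)⟩, hLinv g n⟩
      invFun := fun n => ⟨⟨g⁻¹ * ((n : K) : G) * g⁻¹⁻¹, hle (hLinv g⁻¹ n)⟩, hLinv g⁻¹ n⟩
      left_inv := fun n => Subtype.ext (Subtype.ext (by group))
      right_inv := fun n => Subtype.ext (Subtype.ext (by group))
      map_mul' := fun a b => Subtype.ext (Subtype.ext (by simp [mul_assoc])) }
  have hTn : ∀ g : G, ∀ t : K, t ∈ T → (⟨g * t * g⁻¹, hK.conj_mem _ t.2 g⟩ : K) ∈ T := by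
    intro g t ht
    -- `φ^g` is a constituent, hence conjugate to `φ` in `K`
    have hirr : Cfsg.IsIrrCharacter L' (φ ∘ cg g) := Cfsg.Lib.Chars.IsIrrCharacter.comp_mulEquiv hφ (cg g)
    have hcon : Cfsg.classInner (fun n : L' => ϑ n) (φ ∘ cg g) ≠ 0 := by
      intro h
      apply hc
      rw [← h, ← Cfsg.Lib.Chars.classInner_comp_equiv (cg g).toEquiv (fun n : L' => ϑ n) φ]
      congr 1
      funext n
      exact hinv g (n : K)
    obtain ⟨k, hk⟩ := Cfsg.Lib.Chars.exists_conjN_of_constituents L' hϑ hφ hirr hc hcon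
    have hk' : φ ∘ cg g = Cfsg.Lib.Chars.conjN L' k φ := hk
    rw [Cfsg.Lib.Chars.mem_inertia] at ht ⊢
    -- transfer
    have hmove : Cfsg.Lib.Chars.conjN L' (⟨g * t * g⁻¹, hK.conj_mem _ t.2 g⟩ : K) φ ∘ cg g =
        Cfsg.Lib.Chars.conjN L' t (φ ∘ cg g) := by
      funext n
      simp only [Cfsg.Lib.Chars.conjN, Function.comp_apply]
      congr 1
      apply Subtype.ext
      apply Subtype.ext
      simp [cg, mul_assoc]
    have hfix : Cfsg.Lib.Chars.conjN L' t (φ ∘ cg g) = φ ∘ cg g := by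
      rw [hk', ← Cfsg.Lib.Chars.conjN_mul]
      set c := k * t * k⁻¹ * t⁻¹
      have hcL : c ∈ L' := hab' k t
      have h1 : Cfsg.Lib.Chars.conjN L' c φ = φ := Cfsg.Lib.Chars.conjN_of_mem
        (Cfsg.Lib.Chars.isClassFunction_isChar (Cfsg.Lib.Chars.isCharacter_of_irr hφ)) ⟨c, hcL⟩
      rw [show k * t = c * (t * k) by simp [c, mul_assoc], Cfsg.Lib.Chars.conjN_mul, h1,
        Cfsg.Lib.Chars.conjN_mul, ht]
    rw [hfix] at hmove
    funext n
    have := congrFun hmove ((cg g).symm n)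
    simpa only [Function.comp_apply, MulEquiv.apply_symm_apply] using this
  have hTM : (T.map K.subtype).Normal := ⟨fun x hx g => by
    obtain ⟨t, ht, rfl⟩ := hx
    exact ⟨_, hTn g t ht, rfl⟩⟩
  have hcase := hchief _ hTM (fun x hx => ⟨⟨x, hle hx⟩, hLT hx, rfl⟩) (Subgroup.map_subtype_le T)
  have hidx : L'.index = L.relIndex K := rfl
  rcases hcase with hT | hT
  · -- `ϑ` is induced
    refine Or.inr (Or.inr ?_)
    have hTL : T = L' := by
      refine le_antisymm (fun t ht => ?_) hLT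
      exact hT.le ⟨t, ht, rfl⟩
    obtain ⟨χ', hχ', hχ'e⟩ : ∃ ψ : L' → ℂ, Cfsg.IsIrrCharacter L' ψ ∧ ψ = φ := ⟨φ, hφ, rfl⟩
    have hind : Cfsg.indFun L' φ = ϑ := by
      have h1 := Cfsg.Lib.Chars.clifford_correspondence hφ L' hTL.symm le_rfl hϑ hφ
        (by simpa using hc) (by rw [Cfsg.Lib.Chars.classInner_self_irr hφ]; exact one_ne_zero)
      exact h1.1
    have hsum := Cfsg.Lib.Chars.clifford L' hϑ hφ hc
    have hone : Cfsg.classInner (fun n : L' => ϑ n) φ = 1 := by
      rw [← Cfsg.Lib.Chars.frobenius_reciprocity' L' φ hϑc, hind, Cfsg.Lib.Chars.classInner_self_irr hϑ]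
    rw [hone, one_smul] at hsum
    have hcardorb : (Cfsg.Lib.Chars.conjOrbit L' φ).card = L'.index := by
      have h2 := Cfsg.Lib.Chars.card_conjOrbit L' φ
      rw [show Cfsg.Lib.Chars.inertia L' φ = L' from hTL, ← L'.index_mul_card] at h2
      exact Nat.eq_of_mul_eq_mul_right Nat.card_pos h2
    refine ⟨(Cfsg.Lib.Chars.conjOrbit L' φ).image (fun ψ => ψ ∘ eL.symm), ?_, ?_, ?_⟩
    · intro ψ hψ
      obtain ⟨ψ', hψ', rfl⟩ := Finset.mem_image.mp hψ
      obtain ⟨g, rfl⟩ := (Cfsg.Lib.Chars.mem_conjOrbit L').mp hψ'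
      exact Cfsg.Lib.Chars.IsIrrCharacter.comp_mulEquiv (Cfsg.Lib.Chars.IsIrrCharacter.conjN hφ g) eL.symm
    · rw [Finset.card_image_of_injective _ (fun a b h => funext fun x => by
        simpa using congrFun h (eL x)), hcardorb, hidx]
    · rw [Finset.sum_image (fun a _ b _ h => funext fun x => by simpa using congrFun h (eL x))]
      funext x
      have := congrFun hsum (eL.symm x)
      simp only [Finset.sum_apply] at this ⊢
      exact this
  · have hTtop : ∀ t : K, t ∈ T := fun t => by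
      have h1 : (t : G) ∈ T.map K.subtype := hT.symm ▸ t.2
      obtain ⟨t', ht', he⟩ := h1
      rwa [show t = t' from Subtype.ext he.symm]
    have hφinv : ∀ t : K, Cfsg.Lib.Chars.conjN L' t φ = φ := fun t =>
      Cfsg.Lib.Chars.mem_inertia.mp (hTtop t)
    obtain ⟨e, C, he, hC, hcard, hsum, hres, hall⟩ :=
      Cfsg.Lib.Chars.indFun_abelian_quotient L' hab' hφ hφinv
    have hϑC := hall ϑ hϑ hc
    have hresϑ := hres ϑ hϑC
    -- the subgroup generated by the support
    set S : Subgroup G := L ⊔ Subgroup.closure {x | ∃ h : x ∈ K, ϑ ⟨x, h⟩ ≠ 0}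
    have hSK : S ≤ K := sup_le hle ((Subgroup.closure_le K).mpr fun x hx => hx.1)
    have hSn : S.Normal := by
      haveI : (Subgroup.closure {x | ∃ h : x ∈ K, ϑ ⟨x, h⟩ ≠ 0}).Normal := by
        refine Subgroup.normalizer_eq_top_iff.mp (eq_top_iff.mpr fun g _ => ?_)
        have hconj : ∀ g : G, ∀ x ∈ Subgroup.closure {x | ∃ h : x ∈ K, ϑ ⟨x, h⟩ ≠ 0},
            g * x * g⁻¹ ∈ Subgroup.closure {x | ∃ h : x ∈ K, ϑ ⟨x, h⟩ ≠ 0} := by
          intro g x hx
          induction hx using Subgroup.closure_induction with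
          | mem x hx =>
            obtain ⟨h, hne⟩ := hx
            exact Subgroup.subset_closure ⟨hK.conj_mem x h g, by rwa [hinv g ⟨x, h⟩]⟩
          | one => simp
          | mul a b _ _ ha hb => simpa [mul_assoc] using mul_mem ha hb
          | inv a _ ha => simpa [mul_assoc] using inv_mem ha
        rw [Subgroup.mem_normalizer_iff]
        exact fun x => ⟨hconj g x, fun hx => by simpa [mul_assoc] using hconj g⁻¹ _ hx⟩
      exact Subgroup.sup_normal _ _
    rcases hchief S hSn le_sup_left hSK with hS | hS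
    · -- fully ramified
      refine Or.inr (Or.inl ⟨φ ∘ eL.symm, e, Cfsg.Lib.Chars.IsIrrCharacter.comp_mulEquiv hφ eL.symm, ?_, ?_⟩)
      · funext x
        exact congrFun hresϑ (eL.symm x)
      · have hzero : ∀ k : K, k ∉ L' → ϑ k = 0 := fun k hk => by
          by_contra hne
          exact hk (hS.le (Subgroup.mem_sup_right (Subgroup.subset_closure ⟨k.2, hne⟩)))
        have h1 := Cfsg.Lib.Chars.classInner_self_irr hϑ
        have h2 := Cfsg.Lib.Chars.classInner_self_irr hφ
        rw [Cfsg.Lib.Chars.classInner_def] at h1 h2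
        rw [← Finset.sum_subset (Finset.subset_univ (Finset.univ.filter fun k : K => k ∈ L'))
            (fun k _ hk => by rw [hzero k (by simpa using hk), zero_mul]),
          Finset.sum_subtype (p := fun k => k ∈ L') _ (fun k => by simp),
          Finset.sum_congr rfl (g := fun n : L' => (e : ℂ) ^ 2 * (φ n * starRingEnd ℂ (φ n))) (fun n _ => by
            rw [show ϑ n = (e : ℂ) * φ n from congrFun hresϑ n, map_mul, Complex.conj_natCast]; ring),
          ← Finset.mul_sum] at h1
        rw [inv_mul_eq_iff_eq_mul₀ (by exact_mod_cast Nat.card_pos.ne'), mul_one] at h1 h2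
        rw [h2, ← L'.index_mul_card, Nat.cast_mul] at h1
        rw [← hidx]
        exact_mod_cast mul_right_cancel₀ (by exact_mod_cast Nat.card_pos.ne') h1
    · -- irreducible restriction
      refine Or.inl ?_
      set π := QuotientGroup.mk' L'
      have hQ : ∀ a b : K ⧸ L', a * b = b * a := by
        intro a b
        obtain ⟨x, rfl⟩ := QuotientGroup.mk'_surjective L' a
        obtain ⟨y, rfl⟩ := QuotientGroup.mk'_surjective L' b
        rw [← map_mul, ← map_mul]
        refine QuotientGroup.eq.mpr ?_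
        simpa [mul_assoc] using hab' y⁻¹ x⁻¹
      have hmap : ∀ l : Cfsg.IrrCharacter (K ⧸ L'), (fun k => (l : K ⧸ L' → ℂ) (π k) * ϑ k) ∈ C := by
        intro l
        obtain ⟨f, hf⟩ := Cfsg.Lib.Chars.exists_hom_of_deg_one (Cfsg.Lib.Chars.isCharacter_of_irr l.2)
          (Cfsg.Lib.Chars.irr_deg_one_of_comm hQ l.2)
        refine hall _ (by rw [hf]; exact Cfsg.Lib.Chars.IsIrrCharacter.mul_linear hϑ (f.comp π)) ?_
        rw [show (fun n : L' => (l : K ⧸ L' → ℂ) (π n) * ϑ n) = fun n : L' => ϑ n from funext fun n => by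
          rw [show π (n : K) = 1 from (QuotientGroup.eq_one_iff _).mpr n.2,
            Cfsg.Lib.Chars.irr_deg_one_of_comm hQ l.2, one_mul]]
        exact hc
      have hinj : Function.Injective fun l : Cfsg.IrrCharacter (K ⧸ L') =>
          fun k => (l : K ⧸ L' → ℂ) (π k) * ϑ k := by
        intro l l' h
        obtain ⟨f, hf⟩ := Cfsg.Lib.Chars.exists_hom_of_deg_one (Cfsg.Lib.Chars.isCharacter_of_irr l.2)
          (Cfsg.Lib.Chars.irr_deg_one_of_comm hQ l.2)
        obtain ⟨f', hf'⟩ := Cfsg.Lib.Chars.exists_hom_of_deg_one (Cfsg.Lib.Chars.isCharacter_of_irr l'.2)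
          (Cfsg.Lib.Chars.irr_deg_one_of_comm hQ l'.2)
        apply Subtype.ext
        rw [hf, hf']
        funext q
        obtain ⟨k, rfl⟩ := QuotientGroup.mk'_surjective L' q
        congr 1
        have hkS : (k : G) ∈ S := hS.symm ▸ k.2
        let E : Subgroup G := ((f.comp π).eqLocus (f'.comp π)).map K.subtype
        have hSE : S ≤ E := by
          refine sup_le (fun x hx => ⟨⟨x, hle hx⟩, ?_, rfl⟩) ((Subgroup.closure_le E).mpr ?_)
          · show f (π ⟨x, hle hx⟩) = f' (π ⟨x, hle hx⟩)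
            rw [show π ⟨x, hle hx⟩ = 1 from (QuotientGroup.eq_one_iff _).mpr hx, map_one, map_one]
          · rintro x ⟨hxK, hne⟩
            refine ⟨⟨x, hxK⟩, ?_, rfl⟩
            have h1 := congrFun h ⟨x, hxK⟩
            simp only at h1
            rw [hf, hf'] at h1
            exact Units.ext (mul_right_cancel₀ hne h1)
        obtain ⟨k', hk', he'⟩ := hSE hkS
        rw [show k = k' from Subtype.ext he'.symm]
        exact hk'
      have hge : Fintype.card (Cfsg.IrrCharacter (K ⧸ L')) ≤ C.card := by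
        rw [← Finset.card_univ]
        exact Finset.card_le_card_of_injOn _ (fun l _ => hmap l) (hinj.injOn)
      have hcQ : Fintype.card (Cfsg.IrrCharacter (K ⧸ L')) = L'.index := by
        have h1 := Cfsg.Lib.Chars.sum_deg_sq_nat (G := K ⧸ L')
        have h2 : ∀ l : Cfsg.IrrCharacter (K ⧸ L'), Cfsg.Lib.Chars.deg (l : K ⧸ L' → ℂ) = 1 := fun l => by
          have h3 := Cfsg.Lib.Chars.irr_deg_one_of_comm hQ l.2
          rw [Cfsg.Lib.Chars.irr_apply_one_eq_deg l] at h3
          exact_mod_cast h3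
        simp only [h2, one_pow, Finset.sum_const, smul_eq_mul, mul_one, Finset.card_univ] at h1
        exact h1
      have he1 : e = 1 := by
        rw [hcQ, ← hcard] at hge
        have hCpos : 0 < C.card := Finset.card_pos.mpr ⟨ϑ, hϑC⟩
        have h2 : e ^ 2 ≤ 1 := Nat.le_of_mul_le_mul_right (by rwa [one_mul]) hCpos
        nlinarith
      have hfin : r = φ ∘ eL.symm := by
        funext x
        have := congrFun hresϑ (eL.symm x)
        simp [he1] at this
        exact this
      show Cfsg.IsIrrCharacter L r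
      rw [hfin]
      exact Cfsg.Lib.Chars.IsIrrCharacter.comp_mulEquiv hφ eL.symm

end Cfsg.Agent.S0857
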