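import Cfsg.Statements.S0858
import Cfsg.Agent.S0857
import Cfsg.Agent.Blocks.BrauerInduction

set_option autoImplicit false
open Cfsg

namespace Cfsg.Agent.S0858

/-- Let N be a normal subgroup of the finite group G with G / N solvable, and suppose that for every subgroup H containing N and all subgroups L < K between N and H that are normal in H with no subgroup normal in H strictly between them, the index of L in K is not a perfect square. Then every irreducible character χ of G is induced from an irreducible character ψ of some subgroup H containing N such that the restriction of ψ to N is irreducible. -/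
theorem result {G : Type*} [Group G] [Fintype G] (N : Subgroup G) [N.Normal] (hsolv : Group.IsSolvable (G ⧸ N)) (hchief : ∀ (H K L : Subgroup G), N ≤ L → L < K → K ≤ H → (∀ h ∈ H, ∀ k ∈ K, h * k * h⁻¹ ∈ K) → (∀ h ∈ H, ∀ l ∈ L, h * l * h⁻¹ ∈ L) → (∀ M : Subgroup G, L ≤ M → M ≤ K → (∀ h ∈ H, ∀ m ∈ M, h * m * h⁻¹ ∈ M) → M = L ∨ M = K) → ¬ IsSquare (L.relIndex K)) (χ : G → ℂ) (hχ : Cfsg.IsIrrCharacter G χ) : ∃ (H : Subgroup G) (hNH : N ≤ H) (ψ : H → ℂ), Cfsg.IsIrrCharacter H ψ ∧ Cfsg.indFun H ψ = χ ∧ Cfsg.IsIrrCharacter N (fun n : N => ψ ⟨(n : G), hNH n.2⟩) := by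
  classical
  obtain ⟨H, ⟨hNH, η, hη, hηχ⟩, hmin⟩ := exists_minimal_of_wellFoundedLT
    (fun H : Subgroup G => N ≤ H ∧ ∃ η : H → ℂ, Cfsg.IsIrrCharacter H η ∧ Cfsg.indFun H η = χ)
    ⟨⊤, le_top, fun x => χ x, Cfsg.Lib.Chars.IsIrrCharacter.comp_mulEquiv hχ Subgroup.topEquiv, by
      rw [Cfsg.Lib.Chars.indFun_top _ (Cfsg.Lib.Chars.isClassFunction_isChar
        (Cfsg.Lib.Chars.IsCharacter.restrict (Cfsg.Lib.Chars.isCharacter_of_irr hχ) ⊤))]⟩
  refine ⟨H, hNH, η, hη, hηχ, ?_⟩
  have := Fintype.ofFinite H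
  set N' := N.subgroupOf H
  have hηc := Cfsg.Lib.Chars.isClassFunction_isChar (Cfsg.Lib.Chars.isCharacter_of_irr hη)
  obtain ⟨K, ⟨hKn, hNK, hKirr⟩, hKmin⟩ := exists_minimal_of_wellFoundedLT
    (fun K : Subgroup H => K.Normal ∧ N' ≤ K ∧ Cfsg.IsIrrCharacter K (fun k : K => η k))
    ⟨⊤, inferInstance, le_top, Cfsg.Lib.Chars.IsIrrCharacter.comp_mulEquiv hη Subgroup.topEquiv⟩
  by_cases hK : K = N'
  · subst hK
    exact Cfsg.Lib.Chars.IsIrrCharacter.comp_mulEquiv hKirr (Subgroup.subgroupOfEquivOfLe hNH).symm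
  exfalso
  haveI := hKn
  obtain ⟨L, ⟨hLn, hNL, hLK⟩, hLmax⟩ := exists_maximal_of_wellFoundedGT
    (fun L : Subgroup H => L.Normal ∧ N' ≤ L ∧ L < K)
    ⟨N', inferInstance, le_rfl, lt_of_le_of_ne hNK (Ne.symm hK)⟩
  haveI := hLn
  have hchiefH : ∀ M : Subgroup H, M.Normal → L ≤ M → M ≤ K → M = L ∨ M = K := by
    intro M hM h1 h2
    by_cases h : M = K
    · exact Or.inr h
    · exact Or.inl (le_antisymm (hLmax ⟨hM, hNL.trans h1, lt_of_le_of_ne h2 h⟩ h1) h1)
  -- abelian chief factor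
  have hab : ⁅K, K⁆ ≤ L := by
    have hsolvH : Group.IsSolvable (H ⧸ N') := by
      refine solvable_of_solvable_injective
        (f := QuotientGroup.map N' N H.subtype (fun x hx => hx)) ?_
      rw [← MonoidHom.ker_eq_bot_iff, eq_bot_iff]
      intro x hx
      obtain ⟨y, rfl⟩ := QuotientGroup.mk'_surjective N' x
      exact (QuotientGroup.eq_one_iff y).mpr ((QuotientGroup.eq_one_iff (y : G)).mp hx)
    have hsolvL : Group.IsSolvable (H ⧸ L) := by
      refine solvable_of_surjective (f := QuotientGroup.map N' L (MonoidHom.id H) (fun x hx => hNL hx)) ?_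
      intro x
      obtain ⟨y, rfl⟩ := QuotientGroup.mk'_surjective L x
      exact ⟨QuotientGroup.mk' N' y, rfl⟩
    have hcK : ⁅K, K⁆ ≤ K := Subgroup.commutator_le_self K
    rcases hchiefH (⁅K, K⁆ ⊔ L) (Subgroup.sup_normal _ _) le_sup_right (sup_le hcK hLK.le) with h | h
    · exact h ▸ le_sup_left
    · exfalso
      set Kb := K.map (QuotientGroup.mk' L)
      have hperf : ⁅Kb, Kb⁆ = Kb := by
        have h1 := congrArg (Subgroup.map (QuotientGroup.mk' L)) h
        rw [Subgroup.map_sup, Subgroup.map_commutator, show L.map (QuotientGroup.mk' L) = ⊥ by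
          rw [Subgroup.map_eq_bot_iff, QuotientGroup.ker_mk'], sup_bot_eq] at h1
        exact h1
      have hne : Kb ≠ ⊥ := by
        rw [Ne, Subgroup.map_eq_bot_iff, QuotientGroup.ker_mk']
        exact fun h => hLK.not_ge h
      haveI : Nontrivial Kb := (Subgroup.nontrivial_iff_ne_bot _).mpr hne
      haveI := hsolvL
      have hlt := Group.IsSolvable.commutator_lt_top_of_nontrivial (G := Kb)
      refine hlt.ne (Subgroup.map_injective Kb.subtype_injective ?_)
      rw [Subgroup.map_subtype_commutator, hperf, ← MonoidHom.range_eq_map, Subgroup.range_subtype]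
  have hnsq : ¬ IsSquare (L.relIndex K) := by
    have h := hchief H (K.map H.subtype) (L.map H.subtype)
      (fun x hx => ⟨⟨x, hNH hx⟩, hNL hx, rfl⟩)
      ((Subgroup.map_lt_map_iff_of_injective H.subtype_injective).mpr hLK)
      (Subgroup.map_subtype_le K)
      (by rintro x hx - ⟨y, hy, rfl⟩; exact ⟨_, hKn.conj_mem y hy ⟨x, hx⟩, rfl⟩)
      (by rintro x hx - ⟨y, hy, rfl⟩; exact ⟨_, hLn.conj_mem y hy ⟨x, hx⟩, rfl⟩)
      (fun M hLM hMK hMn => by
        have hMH : M ≤ H := hMK.trans (Subgroup.map_subtype_le K)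
        rcases hchiefH (M.subgroupOf H) ⟨fun n hn g => hMn g g.2 n hn⟩
          (fun x hx => hLM ⟨x, hx, rfl⟩)
          (fun x hx => by
            obtain ⟨y, hy, he⟩ := hMK hx
            rwa [← Subtype.ext he]) with h | h
        · left; rw [← h, Subgroup.map_subgroupOf_eq_of_le hMH]
        · right; rw [← h, Subgroup.map_subgroupOf_eq_of_le hMH])
    rwa [Subgroup.relIndex_map_map_of_injective _ _ H.subtype_injective] at h
  rcases Cfsg.Agent.S0857.result K L hLK hchiefH hab _ hKirr (fun g n => hηc n g) with h | h | h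
  · exact hLK.not_ge (hKmin ⟨hLn, hNL, h⟩ hLK.le)
  · obtain ⟨φ, e, -, -, he⟩ := h
    exact hnsq ⟨e, by rw [← he, sq]⟩
  · obtain ⟨F, hF, hFc, hFe⟩ := h
    have hFe' : (fun x : L => η x) = ∑ φ ∈ F, φ := hFe
    have := Fintype.ofFinite L
    obtain ⟨φ, hφ⟩ : F.Nonempty := Finset.card_pos.mp (by
      rw [hFc]; exact Nat.pos_of_ne_zero Subgroup.index_ne_zero_of_finite)
    have hmult : ∀ ψ ∈ F, Cfsg.classInner (fun x : L => η x) ψ = 1 := by
      intro ψ hψ
      rw [hFe', Cfsg.Lib.Chars.classInner_sum_left, Finset.sum_eq_single ψ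
        (fun ψ' hψ' hne => by rw [Cfsg.Lib.Chars.classInner_irrChar (hF _ hψ') (hF _ hψ), if_neg hne])
        (fun hn => absurd hψ hn), Cfsg.Lib.Chars.classInner_self_irr (hF _ hψ)]
    have hc : Cfsg.classInner (fun x : L => η x) φ ≠ 0 := by rw [hmult φ hφ]; exact one_ne_zero
    set T := Cfsg.Lib.Chars.inertia L φ
    have hLT : L ≤ T := Cfsg.Lib.Chars.le_inertia
      (Cfsg.Lib.Chars.isClassFunction_isChar (Cfsg.Lib.Chars.isCharacter_of_irr (hF _ hφ)))
    have := Fintype.ofFinite T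
    obtain ⟨ψ, hψ, hψc, hψφ⟩ := Cfsg.Lib.Chars.exists_constituent_over T hLT
      (Cfsg.Lib.Chars.isCharacter_of_irr hη) hc
    have hind := (Cfsg.Lib.Chars.clifford_correspondence (hF _ hφ) T rfl hLT hη hψ hψc hψφ).1
    have hTtop : T ≠ ⊤ := by
      intro hT
      have hF2 : 2 ≤ F.card := by
        rw [hFc]
        rcases Nat.lt_or_ge (L.relIndex K) 2 with h2 | h2
        · exfalso
          have h1 : L.relIndex K = 1 := by
            have : 0 < L.relIndex K := Nat.pos_of_ne_zero Subgroup.index_ne_zero_of_finite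
            omega
          exact hLK.not_ge (Subgroup.relIndex_eq_one.mp h1)
        · exact h2
      obtain ⟨ψ', hψ', hne⟩ := Finset.exists_mem_ne hF2 φ
      obtain ⟨g, hg⟩ := Cfsg.Lib.Chars.exists_conjN_of_constituents L hη (hF _ hφ) (hF _ hψ') hc
        (by rw [hmult ψ' hψ']; exact one_ne_zero)
      have hgT : g ∈ T := hT ▸ Subgroup.mem_top g
      rw [hg, Cfsg.Lib.Chars.mem_inertia.mp hgT] at hne
      exact hne rfl
    have hTle : T.map H.subtype ≤ H := Subgroup.map_subtype_le T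
    have hlt : T.map H.subtype < H := by
      refine lt_of_le_of_ne hTle fun he => hTtop (eq_top_iff.mpr fun x _ => ?_)
      obtain ⟨y, hy, hye⟩ := he.ge x.2
      rwa [← Subtype.ext hye]
    refine hlt.not_ge (hmin ⟨fun x hx => ⟨⟨x, hNH hx⟩, hLT (hNL hx), rfl⟩, _,
      Cfsg.Lib.Chars.IsIrrCharacter.comp_mulEquiv hψ
        (T.equivMapOfInjective H.subtype H.subtype_injective).symm, ?_⟩ hTle)
    rw [← Cfsg.Lib.Blocks.indFun_transport H T ψ, hind, hηχ]

end Cfsg.Agent.S0858
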