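import Cfsg.Statements.S0859
import Cfsg.Agent.S0857
import Cfsg.Agent.Chars.Constituent
import Cfsg.Agent.Chars.ExtAbelianSylow
import Cfsg.Agent.Coprime.Hall
import Cfsg.Agent.Blocks.BrauerInduction

set_option autoImplicit false
open Cfsg
open scoped commutatorElement

namespace Cfsg.Agent.S0859

open Cfsg.Lib.Chars in
theorem monomial_of_irr_restrict.{u} : ∀ (n : ℕ) (G : Type u) [Group G] [Fintype G], Nat.card G = n →
    ∀ (N : Subgroup G) [N.Normal], Group.IsSolvable N →
    (∀ (p : ℕ), p.Prime → ∀ P : Subgroup G, P ≤ N → IsPGroup p P → ∀ a ∈ P, ∀ b ∈ P, a * b = b * a) →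
    ∀ ψ : G → ℂ, Cfsg.IsIrrCharacter G ψ → Cfsg.IsIrrCharacter N (fun x : N => ψ x) →
    ∃ (U : Subgroup G) (lam : U → ℂ), Cfsg.IsCharacter U lam ∧ lam 1 = 1 ∧
      Cfsg.indFun U lam = ψ := by
  intro n
  induction n using Nat.strong_induction_on with
  | _ n ih =>
  intro G _ _ hn N hN hsol hab ψ hψ hψN
  classical
  obtain ⟨K, ⟨hKn, hKN, hKirr⟩, hKmin⟩ := Set.Finite.exists_minimal
    (s := {K : Subgroup G | K.Normal ∧ K ≤ N ∧ Cfsg.IsIrrCharacter K (fun x : K => ψ x)})
    (Set.toFinite _) ⟨N, hN, le_rfl, hψN⟩
  haveI := hKn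
  have := Fintype.ofFinite K
  by_cases hKbot : K = ⊥
  · have h1 : ψ 1 = 1 := by
      have := irr_deg_one_of_comm (G := K) (fun a b => by subst hKbot; exact Subsingleton.elim _ _) hKirr
      simpa using this
    refine ⟨⊤, fun x => ψ x, IsCharacter.restrict (isCharacter_of_irr hψ) ⊤, by simpa using h1, ?_⟩
    rw [indFun_top _ (isClassFunction_isChar (IsCharacter.restrict (isCharacter_of_irr hψ) ⊤))]
  · obtain ⟨L, ⟨hLn, hLK⟩, hLmax⟩ := Set.Finite.exists_maximal
      (s := {L : Subgroup G | L.Normal ∧ L < K}) (Set.toFinite _)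
      ⟨⊥, inferInstance, bot_lt_iff_ne_bot.mpr hKbot⟩
    haveI := hLn
    have hchief : ∀ M : Subgroup G, M.Normal → L ≤ M → M ≤ K → M = L ∨ M = K := fun M hM hLM hMK => by
      rcases eq_or_lt_of_le hMK with h | h
      · exact Or.inr h
      · exact Or.inl (le_antisymm (hLmax ⟨hM, h⟩ hLM) hLM)
    -- the chief factor
    set π := QuotientGroup.mk' L
    set Kb : Subgroup (G ⧸ L) := K.map π
    haveI : Kb.Normal := hKn.map π (QuotientGroup.mk'_surjective L)
    haveI := hsol
    have hKsol : Group.IsSolvable K :=
      Group.isSolvable_of_isSolvable_injective (Subgroup.inclusion_injective hKN)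
    haveI := hKsol
    have hKbsol : Group.IsSolvable Kb :=
      Group.isSolvable_of_surjective (π.subgroupMap_surjective K)
    have hKbne : Kb ≠ ⊥ := by
      intro h
      rw [Subgroup.map_eq_bot_iff, QuotientGroup.ker_mk'] at h
      exact hLK.not_ge h
    obtain ⟨hcomm, p, hp, hpK, -⟩ := Cfsg.Lib.Coprime.minimal_normal_solvable hKbsol hKbne
      (fun M hM hMK => by
        have hle : L ≤ M.comap π := by
          intro x hx
          rw [Subgroup.mem_comap, show π x = 1 from (QuotientGroup.eq_one_iff x).mpr hx]
          exact M.one_mem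
        have hle' : M.comap π ≤ K := by
          refine (Subgroup.comap_mono hMK).trans ?_
          rw [Subgroup.comap_map_eq, QuotientGroup.ker_mk']
          exact sup_le le_rfl hLK.le
        have hMe := Subgroup.map_comap_eq_self_of_surjective (QuotientGroup.mk'_surjective L) M
        rcases hchief _ (hM.comap π) hle hle' with h | h
        · left
          rw [← hMe, h, Subgroup.map_eq_bot_iff, QuotientGroup.ker_mk']
        · right
          rw [← hMe, h])
    haveI : Fact p.Prime := ⟨hp⟩
    have hab' : ⁅K, K⁆ ≤ L := Subgroup.commutator_le.mpr fun a ha b hb => by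
      rw [← QuotientGroup.eq_one_iff]
      have h := congrArg Subtype.val (hcomm.is_comm.comm (⟨π a, a, ha, rfl⟩ : Kb) ⟨π b, b, hb, rfl⟩)
      simp only [Subgroup.coe_mul] at h
      show π ⁅a, b⁆ = 1
      rw [map_commutatorElement, commutatorElement_eq_one_iff_mul_comm]
      exact h
    set L' := L.subgroupOf K
    obtain ⟨k, hk⟩ : ∃ k, L'.index = p ^ k := by
      obtain ⟨k, hk⟩ := IsPGroup.iff_card.mp hpK
      refine ⟨k, ?_⟩
      rw [show L'.index = L.relIndex K from rfl, ← QuotientGroup.ker_mk' L, Subgroup.relIndex_ker]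
      exact hk
    set ϑ : K → ℂ := fun x => ψ x
    have hψc := isClassFunction_isChar (isCharacter_of_irr hψ)
    rcases Cfsg.Agent.S0857.result K L hLK hchief hab' ϑ hKirr (fun g x => hψc (x : G) g) with
      hirr | ⟨φ, e, hφ, hres, he2⟩ | ⟨F, hF, hFc, hFe⟩
    · exact absurd (hKmin ⟨hLn, hLK.le.trans hKN, hirr⟩ hLK.le) hLK.not_ge
    · exfalso
      let eL := Subgroup.subgroupOfEquivOfLe hLK.le
      set φ' : L' → ℂ := fun x => φ (eL x)
      have := Fintype.ofFinite L'
      have hφ' : Cfsg.IsIrrCharacter L' φ' := IsIrrCharacter.comp_mulEquiv hφ eL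
      have hres' : (fun x : L' => ϑ x) = (e : ℂ) • φ' := funext fun x => congrFun hres (eL x)
      have he1 : 1 < e ^ 2 := by
        rw [he2]
        have : L.relIndex K ≠ 1 := fun h => hLK.not_ge (Subgroup.relIndex_eq_one.mp h)
        have : L.relIndex K ≠ 0 := Subgroup.index_ne_zero_of_finite
        omega
      have he0 : (e : ℂ) ≠ 0 := by
        have : e ≠ 0 := fun h => by simp [h] at he1
        exact_mod_cast this
      have hinv : ∀ g : K, conjN L' g φ' = φ' := fun g => funext fun x => by
        refine mul_left_cancel₀ he0 ?_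
        have h1 := congrFun hres' ⟨g * x * g⁻¹, (inferInstance : L'.Normal).conj_mem _ x.2 g⟩
        have h2 := congrFun hres' x
        simp only [Pi.smul_apply, smul_eq_mul] at h1 h2
        show (e : ℂ) * φ' ⟨g * x * g⁻¹, _⟩ = _
        rw [← h1, ← h2]
        exact isClassFunction_isChar (isCharacter_of_irr hKirr) (x : K) g
      obtain ⟨P⟩ := (inferInstance : Nonempty (Sylow p K))
      have hPc : ∀ a ∈ (P : Subgroup K), ∀ b ∈ (P : Subgroup K), a * b = b * a := fun a ha b hb =>
        Subtype.ext (hab p hp ((P : Subgroup K).map K.subtype)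
          ((Subgroup.map_subtype_le _).trans hKN) (P.2.map K.subtype) a ⟨a, ha, rfl⟩ b ⟨b, hb, rfl⟩)
      obtain ⟨χ, hχ, hχe⟩ := exists_extension_central_sylow L' ⟨k, hk⟩ P
        (fun x hx y hy => hPc x hx.1 y hy) (fun lam => by
          let j : ↥(L'.subgroupOf (P : Subgroup K)) →* ↥((P : Subgroup K) ⊓ L') :=
            { toFun := fun y => ⟨(y : ↥(P : Subgroup K)), (y : ↥(P : Subgroup K)).2, y.2⟩
              map_one' := rfl
              map_mul' := fun a b => rfl }
          obtain ⟨μ, hμ⟩ := exists_linear_extension (A := ↥(P : Subgroup K))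
            (fun a b => Subtype.ext (hPc a a.2 b b.2)) (L'.subgroupOf (P : Subgroup K)) (lam.comp j)
          exact ⟨μ, fun x => hμ ⟨⟨(x : K), x.2.1⟩, x.2.2⟩⟩) hφ' hinv
      obtain ⟨e₀, C, -, -, -, -, hCres, hall⟩ := indFun_abelian_quotient L' (fun x y => by
        show ((x * y * x⁻¹ * y⁻¹ : K) : G) ∈ L
        simpa [commutatorElement_def] using hab' (Subgroup.commutator_mem_commutator x.2 y.2)) hφ' hinv
      have hφ1 : φ' 1 ≠ 0 := IsIrrCharacter.apply_one_ne_zero hφ'
      have he₀ : (e₀ : ℂ) = 1 := by
        have h1 : (fun x : L' => χ x) = φ' := funext hχe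
        have h2 := hCres χ (hall χ hχ (by rw [h1, classInner_self_irr hφ']; exact one_ne_zero))
        rw [h1] at h2
        have h3 := congrFun h2 1
        simp only [Pi.smul_apply, smul_eq_mul] at h3
        exact mul_right_cancel₀ hφ1 (h3.symm.trans (one_mul _).symm)
      have h2 := hCres ϑ (hall ϑ hKirr (by
        rw [hres', classInner_smul_left, classInner_self_irr hφ', mul_one]; exact he0))
      have h3 := congrFun (hres'.symm.trans h2) 1
      simp only [Pi.smul_apply, smul_eq_mul, he₀, one_mul] at h3
      have : (e : ℂ) = 1 := mul_right_cancel₀ hφ1 (h3.trans (one_mul _).symm)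
      have : e = 1 := by exact_mod_cast this
      subst this
      norm_num at he1
    · -- induced case
      have := Fintype.ofFinite L
      have hF2 : 2 ≤ F.card := by
        rw [hFc]
        have : L.relIndex K ≠ 1 := fun h => hLK.not_ge (Subgroup.relIndex_eq_one.mp h)
        have : L.relIndex K ≠ 0 := Subgroup.index_ne_zero_of_finite
        omega
      obtain ⟨φ, hφ⟩ : F.Nonempty := Finset.card_pos.mp (by omega)
      have hmult : ∀ ξ ∈ F, Cfsg.classInner (fun x : L => ψ x) ξ = 1 := by
        intro ξ hξ
        rw [show (fun x : L => ψ x) = ∑ φ ∈ F, φ from hFe, classInner_sum_left,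
          Finset.sum_eq_single ξ
            (fun ξ' hξ' hne => by rw [classInner_irrChar (hF _ hξ') (hF _ hξ), if_neg hne])
            (fun hn => absurd hξ hn), classInner_self_irr (hF _ hξ)]
      have hc : Cfsg.classInner (fun x : L => ψ x) φ ≠ 0 := by rw [hmult φ hφ]; exact one_ne_zero
      set T := inertia L φ
      have hLT : L ≤ T := le_inertia (isClassFunction_isChar (isCharacter_of_irr (hF _ hφ)))
      have := Fintype.ofFinite T
      obtain ⟨ψ', hψ', hψc', hψφ⟩ := exists_constituent_over T hLT (isCharacter_of_irr hψ) hc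
      have hind := (clifford_correspondence (hF _ hφ) T rfl hLT hψ hψ' hψc' hψφ).1
      have hTtop : T ≠ ⊤ := by
        intro hT
        obtain ⟨ξ, hξ, hne⟩ := Finset.exists_mem_ne hF2 φ
        obtain ⟨g, hg⟩ := exists_conjN_of_constituents L hψ (hF _ hφ) (hF _ hξ) hc
          (by rw [hmult ξ hξ]; exact one_ne_zero)
        have hgT : g ∈ T := hT ▸ Subgroup.mem_top g
        rw [hg, mem_inertia.mp hgT] at hne
        exact hne rfl
      set NT := N.subgroupOf T
      have := Fintype.ofFinite NT
      have := Fintype.ofFinite N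
      set TN := T.subgroupOf N
      have := Fintype.ofFinite TN
      -- the two descriptions of `T ⊓ N`
      let w : TN ≃* NT :=
        { toFun := fun y => ⟨⟨((y : N) : G), y.2⟩, (y : N).2⟩
          invFun := fun y => ⟨⟨((y : T) : G), y.2⟩, (y : T).2⟩
          left_inv := fun y => rfl
          right_inv := fun y => rfl
          map_mul' := fun a b => rfl }
      obtain ⟨η, hη, hηc⟩ := exists_constituent NT (isCharacter_of_irr hψ')
        (IsIrrCharacter.apply_one_ne_zero hψ')
      have hψ'N : Cfsg.IsIrrCharacter NT (fun x : NT => ψ' x) := by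
        have hres : Cfsg.classInner (fun x : NT => (fun t : T => ψ t) x) η ≠ 0 :=
          classInner_pullback_ne_zero NT.subtype (IsCharacter.restrict (isCharacter_of_irr hψ) T)
            hψ' hψc' hη hηc
        set η' : TN → ℂ := fun y => η (w y)
        have hη' : Cfsg.IsIrrCharacter TN η' := IsIrrCharacter.comp_mulEquiv hη w
        have hNc : Cfsg.classInner (Cfsg.indFun TN η') (fun x : N => ψ x) ≠ 0 := by
          rw [frobenius_reciprocity TN η' (isClassFunction_isChar (isCharacter_of_irr hψN)),
            ← classInner_conj_symm]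
          intro h
          rw [map_eq_zero] at h
          apply hres
          rw [← classInner_comp_equiv w.toEquiv]
          exact h
        have hle := (constituent_le (IsCharacter.indFun (isCharacter_of_irr hη')) hψN hNc).1
        obtain ⟨hηle, heq⟩ := constituent_le (IsCharacter.restrict (isCharacter_of_irr hψ') NT) hη hηc
        have hfin : deg (fun x : NT => ψ' x) ≤ deg η := by
          have h1 : deg (Cfsg.indFun TN η') = TN.index * deg η := by
            apply Nat.cast_injective (R := ℂ)
            rw [← IsCharacter.apply_one_eq_deg (IsCharacter.indFun (isCharacter_of_irr hη')), indFun_one]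
            push_cast
            rw [← IsCharacter.apply_one_eq_deg (isCharacter_of_irr hη)]
            show (TN.index : ℂ) * η (w 1) = _
            rw [map_one]
          have h2 : deg (fun x : N => ψ x) = T.index * deg (fun x : NT => ψ' x) := by
            apply Nat.cast_injective (R := ℂ)
            rw [← IsCharacter.apply_one_eq_deg (isCharacter_of_irr hψN)]
            push_cast
            rw [← IsCharacter.apply_one_eq_deg (IsCharacter.restrict (isCharacter_of_irr hψ') NT)]
            show ψ ((1 : N) : G) = _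
            rw [OneMemClass.coe_one, ← hind, indFun_one]
            rfl
          have h3 : TN.index ≤ T.index := by
            rw [← T.relIndex_top_right]
            exact Subgroup.relIndex_le_of_le_right (H := T) le_top Subgroup.index_ne_zero_of_finite
          rw [h1, h2] at hle
          exact Nat.le_of_mul_le_mul_left (hle.trans (Nat.mul_le_mul_right _ h3))
            (Nat.pos_of_ne_zero T.index_ne_zero_of_finite)
        rw [heq hfin]
        exact hη
      have hlt : Nat.card T < n := by
        rw [← hn]
        exact lt_of_le_of_ne (Nat.le_of_dvd Nat.card_pos T.card_subgroup_dvd_card)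
          (fun h => hTtop (Subgroup.eq_top_of_card_eq _ h))
      haveI : NT.Normal := Subgroup.Normal.comap hN T.subtype
      have hNTsol : Group.IsSolvable NT :=
        Group.isSolvable_of_isSolvable_injective (f := (T.subtype.comp NT.subtype).codRestrict N fun y => y.2)
          (fun a b h => Subtype.ext (Subtype.ext (congrArg (Subtype.val : N → G) h :)))
      obtain ⟨U, lam, hlam, hlam1, hlamψ⟩ := ih _ hlt T rfl NT hNTsol
        (fun q hq P hP hPq a ha b hb => Subtype.ext (hab q hq (P.map T.subtype)
          (by rintro x ⟨y, hy, rfl⟩; exact hP hy) (hPq.map T.subtype) a ⟨a, ha, rfl⟩ b ⟨b, hb, rfl⟩))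
        ψ' hψ' hψ'N
      refine ⟨U.map T.subtype, fun y => lam ((U.equivMapOfInjective T.subtype T.subtype_injective).symm y),
        IsCharacter.comp_hom hlam (U.equivMapOfInjective T.subtype T.subtype_injective).symm.toMonoidHom,
        by simpa using hlam1, ?_⟩
      have := Fintype.ofFinite U
      rw [← Cfsg.Lib.Blocks.indFun_transport T U lam, hlamψ, hind]

/-- Let G be a finite solvable group and N a normal subgroup such that for every prime p every Sylow p-subgroup of N is abelian. Suppose every irreducible character of G is induced from an irreducible character of some subgroup containing N whose restriction to N is irreducible. Then every irreducible character of G is induced from a character of degree 1 of some subgroup. -/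
theorem result {G : Type*} [Group G] [Fintype G] [Group.IsSolvable G] (N : Subgroup G) [N.Normal] (hab : ∀ (p : ℕ) [Fact p.Prime] (P : Sylow p N), ∀ a ∈ P, ∀ b ∈ P, a * b = b * a) (hrel : ∀ χ : G → ℂ, Cfsg.IsIrrCharacter G χ → ∃ (H : Subgroup G) (hNH : N ≤ H) (ψ : H → ℂ), Cfsg.IsIrrCharacter H ψ ∧ Cfsg.indFun H ψ = χ ∧ Cfsg.IsIrrCharacter N (fun n : N => ψ ⟨(n : G), hNH n.2⟩)) (χ : G → ℂ) (hχ : Cfsg.IsIrrCharacter G χ) : ∃ (U : Subgroup G) (lam : U → ℂ), Cfsg.IsCharacter U lam ∧ lam 1 = 1 ∧ Cfsg.indFun U lam = χ := by
  classical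
  obtain ⟨H, hNH, ψ, hψ, hind, hres⟩ := hrel χ hχ
  have := Fintype.ofFinite H
  have hNsol : Group.IsSolvable N :=
    Group.isSolvable_of_isSolvable_injective (f := N.subtype) N.subtype_injective
  obtain ⟨U, lam, hlam, hlam1, hlamψ⟩ := monomial_of_irr_restrict _ H rfl (N.subgroupOf H)
    (Group.isSolvable_of_isSolvable_injective (f := (Subgroup.subgroupOfEquivOfLe hNH).toMonoidHom)
      (Subgroup.subgroupOfEquivOfLe hNH).injective)
    (fun q hq P hP hPq a ha b hb => by
      haveI : Fact q.Prime := ⟨hq⟩
      have hle : P.map H.subtype ≤ N := by rintro x ⟨y, hy, rfl⟩; exact hP hy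
      obtain ⟨S, hS⟩ := ((hPq.map H.subtype).comap_of_injective N.subtype N.subtype_injective).exists_le_sylow
      have := hab q S ⟨a, hle ⟨a, ha, rfl⟩⟩ (hS ⟨a, ha, rfl⟩) ⟨b, hle ⟨b, hb, rfl⟩⟩ (hS ⟨b, hb, rfl⟩)
      exact Subtype.ext (congrArg Subtype.val this :))
    ψ hψ (Cfsg.Lib.Chars.IsIrrCharacter.comp_mulEquiv hres (Subgroup.subgroupOfEquivOfLe hNH))
  refine ⟨U.map H.subtype, fun y => lam ((U.equivMapOfInjective H.subtype H.subtype_injective).symm y),
    Cfsg.Lib.Chars.IsCharacter.comp_hom hlam (U.equivMapOfInjective H.subtype H.subtype_injective).symm.toMonoidHom,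
    by simpa using hlam1, ?_⟩
  have := Fintype.ofFinite U
  rw [← Cfsg.Lib.Blocks.indFun_transport H U lam, hlamψ, hind]

end Cfsg.Agent.S0859
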