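import Cfsg.Statements.S0861
import Cfsg.Agent.Chars.NonVanish
import Cfsg.Agent.S0169

set_option autoImplicit false
open Cfsg

namespace Cfsg.Agent.S0861

/-- Let P be a normal abelian Sylow p-subgroup of the finite group G and suppose some element g of P has centralizer exactly P. Then the number of irreducible characters of G is at most the order of P, and if equality holds then G / P is abelian (the commutator subgroup lies in P). -/
theorem result {G : Type*} [Group G] [Finite G] (p : ℕ) [Fact p.Prime] (P : Sylow p G) [(P : Subgroup G).Normal] (hab : ∀ a ∈ P, ∀ b ∈ P, a * b = b * a) (g : G) (hg : g ∈ P) (hC : Subgroup.centralizer ({g} : Set G) = P) : Nat.card (Cfsg.IrrCharacter G) ≤ Nat.card P ∧ (Nat.card (Cfsg.IrrCharacter G) = Nat.card P → commutator G ≤ P) := by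
  classical
  have := Fintype.ofFinite G
  set m := Nat.card G with hm
  have : NeZero m := ⟨Nat.card_pos.ne'⟩
  obtain ⟨a, ha⟩ : ∃ a, g ^ p ^ a = 1 := by
    obtain ⟨a, ha⟩ := P.isPGroup' ⟨g, hg⟩
    exact ⟨a, congrArg Subtype.val ha⟩
  have hndvd : ∀ χ : Cfsg.IrrCharacter G, ¬ p ∣ Cfsg.Lib.Chars.deg (χ : G → ℂ) := fun χ h => by
    obtain ⟨n, ρ, hρ, hρc⟩ := χ.2
    rw [← hρc, Cfsg.Lib.Chars.deg_character] at h
    exact P.not_dvd_index (h.trans (Cfsg.Agent.S0169.result ρ (P : Subgroup G) hab))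
  have hord : orderOf g ∣ m := orderOf_dvd_natCard g
  have hcen : ∀ k : (ZMod m)ˣ,
      Subgroup.centralizer ({g ^ (k : ZMod m).val} : Set G) = (P : Subgroup G) := by
    intro k
    rw [← hC]
    obtain ⟨u, hu⟩ := exists_pow_eq_self_of_coprime (x := g)
      ((ZMod.val_coe_unit_coprime k).coprime_dvd_right hord)
    ext x
    simp only [Subgroup.mem_centralizer_singleton_iff]
    exact ⟨fun h => hu ▸ (Commute.pow_right (show Commute x (g ^ (k : ZMod m).val) from h) u),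
      fun h => Commute.pow_right (show Commute x g from h) _⟩
  have hne : ∀ (χ : Cfsg.IrrCharacter G) (k : (ZMod m)ˣ),
      (χ : G → ℂ) (g ^ (k : ZMod m).val) ≠ 0 := fun χ k =>
    Cfsg.Lib.Chars.apply_ne_zero_of_not_dvd (Cfsg.Lib.Chars.isCharacter_of_irr χ.2) Fact.out
      (a := a) (by rw [← pow_mul, mul_comm, pow_mul, ha, one_pow]) (hndvd χ)
  have hkey := fun χ : Cfsg.IrrCharacter G => Cfsg.Lib.Chars.card_units_le_sum_norm_sq
    (Cfsg.Lib.Chars.isCharacter_of_irr χ.2) hord (hne χ)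
  have htot : ∑ χ : Cfsg.IrrCharacter G, ∑ k : (ZMod m)ˣ,
      ‖(χ : G → ℂ) (g ^ (k : ZMod m).val)‖ ^ 2 =
        (Fintype.card (ZMod m)ˣ : ℝ) * (Nat.card P : ℝ) := by
    rw [Finset.sum_comm, Finset.sum_congr rfl (g := fun _ => (Nat.card P : ℝ)) fun k _ => by
      rw [Cfsg.Lib.Chars.sum_norm_sq_irr, hcen], Finset.sum_const, Finset.card_univ, nsmul_eq_mul]
  have hmain := Finset.sum_le_sum (s := Finset.univ) fun χ (_ : χ ∈ Finset.univ) => (hkey χ).1
  rw [htot, Finset.sum_const, Finset.card_univ, nsmul_eq_mul, mul_comm] at hmain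
  have hU : (0 : ℝ) < Fintype.card (ZMod m)ˣ := by exact_mod_cast Fintype.card_pos
  refine ⟨?_, fun heq => ?_⟩
  · rw [← Fintype.card_eq_nat_card (α := Cfsg.IrrCharacter G)]
    exact_mod_cast le_of_mul_le_mul_left hmain hU
  have hsum : ∑ _χ : Cfsg.IrrCharacter G, (Fintype.card (ZMod m)ˣ : ℝ) =
      ∑ χ : Cfsg.IrrCharacter G, ∑ k : (ZMod m)ˣ, ‖(χ : G → ℂ) (g ^ (k : ZMod m).val)‖ ^ 2 := by
    rw [htot, Finset.sum_const, Finset.card_univ, nsmul_eq_mul, mul_comm,
      Fintype.card_eq_nat_card (α := Cfsg.IrrCharacter G), heq]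
  have hone : ∀ χ : Cfsg.IrrCharacter G, ‖(χ : G → ℂ) g‖ = 1 := by
    intro χ
    have h1 := (Finset.sum_eq_sum_iff_of_le fun χ _ => (hkey χ).1).mp hsum χ (Finset.mem_univ χ)
    obtain ⟨u, hu⟩ := exists_pow_eq_self_of_coprime (x := g) (Nat.coprime_one_left (orderOf g))
    have h2 := (hkey χ).2 h1 1
    rw [Units.val_one, ZMod.val_one_eq_one_mod] at h2
    rwa [pow_eq_pow_iff_modEq.mpr (show 1 % m ≡ 1 [MOD orderOf g] from
      Nat.ModEq.of_dvd hord (Nat.mod_modEq 1 m)), pow_one] at h2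
  rw [commutator_def, Subgroup.commutator_le]
  intro x _ y _
  have := Fintype.ofFinite (G ⧸ (P : Subgroup G))
  rw [← QuotientGroup.eq_one_iff]
  apply isConj_one_left.mp
  rw [Cfsg.Lib.Chars.isConj_iff_forall_irr]
  intro φ
  have hφg : (φ : G ⧸ (P : Subgroup G) → ℂ) ((g : G) : G ⧸ (P : Subgroup G)) = (φ : G ⧸ (P : Subgroup G) → ℂ) 1 := by
    rw [(QuotientGroup.eq_one_iff g).mpr hg]
  have hφ1 : (φ : G ⧸ (P : Subgroup G) → ℂ) 1 = 1 := by
    have h1 := hone ⟨_, Cfsg.Lib.Chars.IsIrrCharacter.comp_surjective φ.2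
      (QuotientGroup.mk' (P : Subgroup G)) (QuotientGroup.mk'_surjective _)⟩
    simp only [QuotientGroup.mk'_apply] at h1
    rw [hφg, Cfsg.Lib.Chars.irr_apply_one_eq_deg, Complex.norm_natCast] at h1
    rw [Cfsg.Lib.Chars.irr_apply_one_eq_deg]
    exact_mod_cast h1
  obtain ⟨f, hf⟩ := Cfsg.Lib.Chars.exists_hom_of_deg_one
    (Cfsg.Lib.Chars.isCharacter_of_irr φ.2) hφ1
  simp [hf, commutatorElement_def, mul_inv_cancel_comm, mul_assoc]

end Cfsg.Agent.S0861
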