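import Cfsg.Statements.S0864
import Cfsg.Agent.Chars.Gallagher

set_option autoImplicit false
open Cfsg

namespace Cfsg.Agent.S0864

/-- Let N be a normal subgroup of the finite group G and λ a character of N of degree 1 invariant under conjugation by G. Suppose that for every prime p dividing the order of λ (in the group of functions under pointwise multiplication) there is a subgroup H containing N, of index prime to p and with the index of N in H a power of p, together with a character of H of degree 1 restricting to λ. Then λ is the restriction of a character of G of degree 1. -/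
theorem result {G : Type*} [Group G] [Finite G] (N : Subgroup G) [hN : N.Normal] (lam : N → ℂ) (hlam : Cfsg.IsCharacter N lam ∧ lam 1 = 1) (hinv : ∀ (g : G) (n : N), lam ⟨g * n * g⁻¹, hN.conj_mem (n : G) n.2 g⟩ = lam n) (hsyl : ∀ p : ℕ, p.Prime → p ∣ orderOf lam → ∃ (H : Subgroup G) (hNH : N ≤ H) (ν : H → ℂ), Nat.Coprime H.index p ∧ (∃ k : ℕ, N.relIndex H = p ^ k) ∧ Cfsg.IsCharacter H ν ∧ ν 1 = 1 ∧ ∀ n : N, ν ⟨(n : G), hNH n.2⟩ = lam n) : ∃ μ : G → ℂ, Cfsg.IsCharacter G μ ∧ μ 1 = 1 ∧ ∀ n : N, μ n = lam n := by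
  classical
  have := Fintype.ofFinite G
  obtain ⟨f, hf⟩ := Cfsg.Lib.Chars.exists_hom_of_deg_one hlam.1 hlam.2
  have hirr : Cfsg.IsIrrCharacter N lam := hf ▸ Cfsg.Lib.Chars.isIrrCharacter_linear f
  have hdet := Cfsg.Lib.Chars.detChar_of_linear hlam.1 hlam.2
  obtain ⟨m, ρ, hρ, rfl⟩ := hirr
  have hm : Module.finrank ℂ (Fin m → ℂ) = 1 := by
    have h := hlam.2
    rw [Representation.char_one] at h
    exact_mod_cast h
  have hinv' : ∀ g : G, Cfsg.Lib.Chars.conjN N g ρ.character = ρ.character :=
    fun g => funext (hinv g)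
  obtain ⟨R, hR⟩ := Cfsg.Lib.Chars.exists_extension_of_hasSplit N ρ hinv'
    (Cfsg.Lib.Chars.hasSplit_one_of_forall_prime N ρ fun p hp _ => by
      by_cases hpo : p ∣ orderOf ρ.character
      · obtain ⟨H, hNH, ν, hcop, -, hν, -, hres⟩ := hsyl p hp hpo
        obtain ⟨S, hS, -⟩ := Cfsg.Lib.Chars.exists_rep_extending N ρ (Subgroup.inclusion hNH) hν hres
        exact ⟨H.index, fun hd => (hp.coprime_iff_not_dvd.mp hcop.symm) hd,
          Cfsg.Lib.Chars.hasSplit_of_subgroup N ρ hinv' H hNH S hS⟩
      · refine ⟨Module.finrank ℂ (Fin m → ℂ) * orderOf ρ.character, by rwa [hm, one_mul],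
          Cfsg.Lib.Chars.hasSplit_detPow N ρ _ fun n => ?_⟩
        have h := congrFun (pow_orderOf_eq_one ρ.character) n
        rw [Pi.pow_apply] at h
        rw [← Cfsg.Lib.Chars.detChar_character ρ n, hdet]
        exact h)
  exact ⟨R.character, Cfsg.Lib.Chars.isCharacter_character R, by rw [R.char_one, hm, Nat.cast_one],
    fun n => by rw [Representation.character, Representation.character, hR]⟩

end Cfsg.Agent.S0864
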