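import Cfsg.Statements.S0865
import Cfsg.Agent.Chars.Gallagher

set_option autoImplicit false
open Cfsg

namespace Cfsg.Agent.S0865

/-- Let N be a normal subgroup of the finite group G and λ a character of N of degree 1, invariant under conjugation by G, whose order (under pointwise multiplication) is coprime to the index of N. Then there is a character μ of G of degree 1 restricting to λ with the same order as λ, and μ is the only degree-1 character of G restricting to λ whose order is coprime to the index of N. -/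
theorem result {G : Type*} [Group G] [Finite G] (N : Subgroup G) [hN : N.Normal] (lam : N → ℂ) (hlam : Cfsg.IsCharacter N lam ∧ lam 1 = 1) (hinv : ∀ (g : G) (n : N), lam ⟨g * n * g⁻¹, hN.conj_mem (n : G) n.2 g⟩ = lam n) (hcop : Nat.Coprime N.index (orderOf lam)) : ∃ μ : G → ℂ, (Cfsg.IsCharacter G μ ∧ μ 1 = 1 ∧ (∀ n : N, μ n = lam n) ∧ orderOf μ = orderOf lam) ∧ ∀ μ' : G → ℂ, Cfsg.IsCharacter G μ' ∧ μ' 1 = 1 → (∀ n : N, μ' n = lam n) → Nat.Coprime N.index (orderOf μ') → μ' = μ := by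
  obtain ⟨f, hf⟩ := Cfsg.Lib.Chars.exists_hom_of_deg_one hlam.1 hlam.2
  have hirr : Cfsg.IsIrrCharacter N lam := hf ▸ Cfsg.Lib.Chars.isIrrCharacter_linear f
  have hdo : Cfsg.detOrder lam = orderOf lam := by
    rw [Cfsg.detOrder, Cfsg.Lib.Chars.detChar_of_linear hlam.1 hlam.2]
  obtain ⟨μ, ⟨hμ, hμN, hμo⟩, huniq⟩ := Cfsg.Lib.Chars.exists_canonical_extension N hirr
    (fun g => funext (hinv g)) (d := 1) (by simpa using hlam.2) (by rwa [hdo, mul_one])
  have hμ1 : μ 1 = 1 := (hμN 1).trans hlam.2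
  refine ⟨μ, ⟨Cfsg.Lib.Chars.isCharacter_of_irr hμ, hμ1, hμN, ?_⟩, fun μ' hμ' hμ'N hcop' => ?_⟩
  · rw [← hdo, ← hμo, Cfsg.detOrder,
      Cfsg.Lib.Chars.detChar_of_linear (Cfsg.Lib.Chars.isCharacter_of_irr hμ) hμ1]
  · obtain ⟨f', hf'⟩ := Cfsg.Lib.Chars.exists_hom_of_deg_one hμ'.1 hμ'.2
    refine huniq μ' (hf' ▸ Cfsg.Lib.Chars.isIrrCharacter_linear f') hμ'N ?_
    rwa [Cfsg.detOrder, Cfsg.Lib.Chars.detChar_of_linear hμ'.1 hμ'.2]

end Cfsg.Agent.S0865
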