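import Cfsg.Statements.S0869
import Cfsg.Agent.Chars.Basic

set_option autoImplicit false
open Cfsg

namespace Cfsg.Agent.S0869

/-- Let S be a nonempty finite type and R an additive subgroup of the integer-valued functions on S that is closed under pointwise multiplication. If the constant function 1 is not in R, then there exist a point x of S and a prime p such that p divides f x for every f in R. -/
theorem result {S : Type*} [Finite S] [Nonempty S] (R : AddSubgroup (S → ℤ)) (hmul : ∀ f ∈ R, ∀ g ∈ R, f * g ∈ R) (h1 : (1 : S → ℤ) ∉ R) : ∃ (x : S) (p : ℕ), p.Prime ∧ ∀ f ∈ R, (p : ℤ) ∣ f x := by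
  classical
  have := Fintype.ofFinite S
  by_contra hno
  push Not at hno
  have hx : ∀ x : S, ∃ f ∈ R, f x = 1 := by
    intro x
    let φ : R →+ ℤ :=
      { toFun := fun f => (f : S → ℤ) x, map_zero' := rfl, map_add' := fun a b => rfl }
    obtain ⟨d, hd⟩ := Int.subgroup_cyclic φ.range
    have hdvd : ∀ f ∈ R, d ∣ f x := fun f hf => by
      have : f x ∈ AddSubgroup.closure ({d} : Set ℤ) := hd ▸ ⟨⟨f, hf⟩, rfl⟩
      obtain ⟨k, hk⟩ := AddSubgroup.mem_closure_singleton.mp this
      exact ⟨k, by rw [← hk, smul_eq_mul, mul_comm]⟩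
    have hd1 : d.natAbs = 1 := by
      by_contra hne
      obtain ⟨p, hp, hpd⟩ := Nat.exists_prime_and_dvd hne
      obtain ⟨f, hf, hndvd⟩ := hno x p hp
      exact hndvd ((Int.natCast_dvd.mpr hpd).trans (hdvd f hf))
    have : (1 : ℤ) ∈ φ.range := by
      rw [hd, AddSubgroup.mem_closure_singleton]
      exact ⟨d, by rw [smul_eq_mul, ← Int.natAbs_mul_self (a := d), hd1]; rfl⟩
    obtain ⟨f, hf⟩ := this
    exact ⟨f, f.2, hf⟩
  choose f hf hfx using hx
  have key : 1 - ∏ x, (1 - f x) ∈ R :=
    Finset.prod_induction (fun x => 1 - f x) (fun u => 1 - u ∈ R)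
      (fun a b ha hb => by
        rw [show 1 - a * b = (1 - a) + (1 - b) - (1 - a) * (1 - b) by ring]
        exact R.sub_mem (R.add_mem ha hb) (hmul _ ha _ hb))
      (by simp)
      (fun x _ => by rw [sub_sub_cancel]; exact hf x)
  apply h1
  have hzero : ∏ x, (1 - f x) = 0 := by
    funext y
    rw [Finset.prod_apply]
    exact Finset.prod_eq_zero (Finset.mem_univ y) (by simp [hfx y])
  rwa [hzero, sub_zero] at key

end Cfsg.Agent.S0869
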