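import Cfsg.Statements.S0875
import Cfsg.Agent.Blocks.PiSection
-- import your own Cfsg.Agent.* helpers here

set_option autoImplicit false
open Cfsg

namespace Cfsg.Agent.S0875

set_option linter.unusedSectionVars false

/-- Let G be a finite group of order m * n with m and n coprime, and g an element whose order is coprime to m. Every x in G factors uniquely as x = u * v with u, v commuting, the order of u coprime to n and the order of v coprime to m; let ϑ be the function on G equal to n at those x whose factor v is conjugate to g and equal to 0 elsewhere. Then ϑ is a linear combination of the irreducible characters of G with algebraic-integer coefficients. -/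
theorem result {G : Type*} [Group G] [Fintype G] (m n : ℕ) (hmn : Nat.card G = m * n) (hcop : Nat.Coprime m n) (g : G) (hg : Nat.Coprime (orderOf g) m) (ϑ : G → ℂ) (hϑ1 : ∀ x : G, (∃ v : G, IsConj v g ∧ (∃ u : G, x = u * v ∧ Commute u v ∧ Nat.Coprime (orderOf u) n ∧ Nat.Coprime (orderOf v) m)) → ϑ x = n) (hϑ0 : ∀ x : G, (¬ ∃ v : G, IsConj v g ∧ (∃ u : G, x = u * v ∧ Commute u v ∧ Nat.Coprime (orderOf u) n ∧ Nat.Coprime (orderOf v) m)) → ϑ x = 0) : ∃ c : Cfsg.IrrCharacter G → ℂ, (∀ χ, c χ ∈ Cfsg.AlgInt) ∧ ϑ = ∑ᶠ χ : Cfsg.IrrCharacter G, c χ • (χ : G → ℂ) := by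
  classical
  obtain ⟨t, ht0, ht1⟩ := Nat.chineseRemainder hcop 0 1
  have hord : ∀ z : G, orderOf z ∣ m * n := fun z => hmn ▸ orderOf_dvd_natCard z
  have hval : ϑ = fun x => if IsConj (x ^ t) g then (n : ℂ) else 0 := by
    funext x
    by_cases hx : IsConj (x ^ t) g
    · rw [if_pos hx]
      refine hϑ1 x ⟨x ^ t, hx, x * (x ^ t)⁻¹, by group, ?_, ?_, ?_⟩
      · exact (((Commute.refl x).mul_left ((Commute.refl x).pow_left t).inv_left).pow_right t)
      · refine Nat.Coprime.coprime_dvd_left (orderOf_dvd_of_pow_eq_one ?_) hcop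
        rw [((Commute.refl x).pow_right t).inv_right.mul_pow, inv_pow, ← pow_mul, mul_inv_eq_one]
        have h2 := (Nat.ModEq.mul_right' m ht1).symm
        rw [one_mul] at h2
        exact pow_eq_pow_iff_modEq.2 (h2.of_dvd (by rw [mul_comm]; exact hord x))
      · obtain ⟨c, hc⟩ := isConj_iff.1 hx
        have : orderOf (x ^ t) = orderOf g := by
          rw [← hc]
          exact (MulEquiv.orderOf_eq (MulAut.conj c) (x ^ t)).symm
        rw [this]; exact hg
    · rw [if_neg hx]
      refine hϑ0 x fun ⟨v, hv, u, hxe, hcomm, hu, hv'⟩ => hx ?_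
      have hum : orderOf u ∣ m := hu.dvd_of_dvd_mul_right (hord u)
      have hvn : orderOf v ∣ n := hv'.dvd_of_dvd_mul_left (hord v)
      rwa [hxe, hcomm.mul_pow, Cfsg.Lib.Blocks.pow_eq_one_of_modEq_zero hum ht0,
        Cfsg.Lib.Blocks.pow_eq_self_of_modEq_one hvn ht1, one_mul]
  have hcl : Cfsg.IsClassFunction G ϑ := fun a h => by
    rw [hval]
    have h1 : IsConj ((h * a * h⁻¹) ^ t) (a ^ t) := by
      rw [conj_pow]; exact (isConj_iff.2 ⟨h, rfl⟩).symm
    exact if_congr ⟨fun h2 => h1.symm.trans h2, fun h2 => h1.trans h2⟩ rfl rfl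
  refine ⟨fun χ => Cfsg.classInner ϑ χ, fun χ => ?_, ?_⟩
  · rw [hval]
    exact Cfsg.Lib.Blocks.isIntegral_classInner_section hmn hcop ht0 ht1 g
      (Cfsg.Lib.Chars.isCharacter_of_irr χ.2)
  · rw [finsum_eq_sum_of_fintype]
    exact Cfsg.Lib.Chars.classFunction_expand hcl

end Cfsg.Agent.S0875
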