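import Cfsg.Statements.S0876
import Cfsg.Agent.Blocks.RegularCongr

set_option autoImplicit false
open Cfsg

namespace Cfsg.Agent.S0876

/-- Let G be a finite group, p a prime and M a maximal ideal of the ring of algebraic integers containing p. Let x, y be elements with p-parts a and b (so a⁻¹ * x and b⁻¹ * y are their p-regular parts). Then a⁻¹ * x and b⁻¹ * y are conjugate in G if and only if, for every irreducible character χ, the difference χ x - χ y lies in the local ideal at M. -/
theorem result {G : Type*} [Group G] [Finite G] (p : ℕ) (M : Ideal Cfsg.AlgInt) (hM : Cfsg.IsPModular p M) (x y a b : G) (ha : Cfsg.IsPPart p x a) (hb : Cfsg.IsPPart p y b) : IsConj (a⁻¹ * x) (b⁻¹ * y) ↔ ∀ χ : Cfsg.IrrCharacter G, Cfsg.MemLocalIdeal M ((χ : G → ℂ) x - (χ : G → ℂ) y) := by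
  classical
  have hreg : ∀ {g c : G}, Cfsg.IsPPart p g c → ¬ p ∣ orderOf (c⁻¹ * g) := by
    rintro g c ⟨z, rfl, -, -, hz⟩
    rwa [inv_mul_cancel_left]
  constructor
  · intro hc χ
    have hχ := Cfsg.Lib.Chars.isCharacter_of_irr χ.2
    refine Cfsg.Lib.Blocks.memLocalIdeal_of_small hM ?_ ?_
    · exact (((Cfsg.Lib.Chars.IsCharacter.isIntegral hχ x).sub
        (Cfsg.Lib.Chars.IsCharacter.isIntegral hχ y)).tower_top).isAlgebraic
    · have h1 := Cfsg.Lib.Blocks.small_char_sub_regular hM hχ ha
      have h2 := Cfsg.Lib.Blocks.small_char_sub_regular hM hχ hb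
      rw [← Cfsg.Lib.Chars.classFunction_eq_of_isConj (Cfsg.Lib.Chars.isClassFunction_irr χ) hc] at h2
      simpa using h1.sub h2
  · intro h
    refine Cfsg.Lib.Blocks.isConj_of_small hM (hreg ha) (hreg hb) fun χ => ?_
    have hχ := Cfsg.Lib.Chars.isCharacter_of_irr χ.2
    have h1 := Cfsg.Lib.Blocks.small_char_sub_regular hM hχ ha
    have h2 := Cfsg.Lib.Blocks.small_char_sub_regular hM hχ hb
    have h3 := ((Cfsg.Lib.Blocks.small_of_memLocalIdeal hM (h χ)).sub h1).add h2
    convert h3 using 1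
    ring

end Cfsg.Agent.S0876
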