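import Cfsg.Statements.S0877
import Cfsg.Agent.Blocks.BrauerInduction
import Cfsg.Agent.Chars.Values
import Cfsg.Agent.Chars.Count
import Cfsg.Agent.OddChar.Coherence

set_option autoImplicit false
open Cfsg

namespace Cfsg.Agent.S0877

/-- raising to an exponent that is 1 or 0 modulo the coprime parts is multiplicative on nilpotent groups -/
theorem mul_pow_split {E : Type*} [Group E] [Finite E] [Group.IsNilpotent E] {m n s : ℕ}
    (hcop : m.Coprime n) (hdvd : Nat.card E ∣ m * n) (h1 : s ≡ 1 [MOD m]) (h0 : s ≡ 0 [MOD n])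
    (x y : E) : (x * y) ^ s = x ^ s * y ^ s := by
  obtain ⟨e⟩ := ((Group.isNilpotent_of_finite_tfae (G := E)).out 0 4).mp (inferInstance : Group.IsNilpotent E)
  apply e.symm.injective
  rw [map_pow, map_mul, map_mul, map_pow, map_pow]
  refine funext fun q => funext fun P => ?_
  haveI : Fact (q : ℕ).Prime := ⟨Nat.prime_of_mem_primeFactors q.2⟩
  show (e.symm x q P * e.symm y q P) ^ s = e.symm x q P ^ s * e.symm y q P ^ s
  have key : ∀ z : ↥(P : Subgroup E), (¬ (q : ℕ) ∣ n → z ^ s = z) ∧ ((q : ℕ) ∣ n → z ^ s = 1) := by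
    intro z
    obtain ⟨j, hj⟩ := IsPGroup.iff_orderOf.mp P.2 z
    have hd : (q : ℕ) ^ j ∣ m * n :=
      hj ▸ ((orderOf_dvd_natCard z).trans (Subgroup.card_subgroup_dvd_card _)).trans hdvd
    constructor
    · intro hq
      have hqm : (q : ℕ) ^ j ∣ m :=
        (((Fact.out : (q : ℕ).Prime).coprime_iff_not_dvd.mpr hq).pow_left j).dvd_of_dvd_mul_right hd
      conv_rhs => rw [← pow_one z]
      exact pow_eq_pow_iff_modEq.mpr (hj ▸ h1.of_dvd hqm)
    · intro hq
      have hqm : ¬ (q : ℕ) ∣ m := fun h =>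
        (Fact.out : (q : ℕ).Prime).ne_one (Nat.eq_one_of_dvd_coprimes hcop h hq)
      have hqn : (q : ℕ) ^ j ∣ n :=
        (((Fact.out : (q : ℕ).Prime).coprime_iff_not_dvd.mpr hqm).pow_left j).dvd_of_dvd_mul_left hd
      rw [← pow_zero z]
      exact pow_eq_pow_iff_modEq.mpr (hj ▸ h0.of_dvd hqn)
  by_cases hq : (q : ℕ) ∣ n
  · rw [(key _).2 hq, (key _).2 hq, (key _).2 hq, one_mul]
  · rw [(key _).1 hq, (key _).1 hq, (key _).1 hq]

/-- Let H be a subgroup of the finite group G whose order is coprime to its index. Suppose that elements of H conjugate in G are conjugate in H, and that every subgroup E of G that is elementary for some prime (in the sense used for Brauer's characterisation of characters) and whose order divides the order of H is conjugate to a subgroup of H. Then there is a normal subgroup K with K ⊔ H = ⊤ and K ⊓ H trivial. -/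
theorem result {G : Type*} [Group G] [Finite G] (H : Subgroup G) (hHall : Nat.Coprime (Nat.card H) H.index) (hfus : ∀ x ∈ H, ∀ y ∈ H, IsConj x y → ∃ h ∈ H, h * x * h⁻¹ = y) (helem : ∀ (E : Subgroup G) (p : ℕ), p.Prime → Cfsg.IsElementary p E → Nat.card E ∣ Nat.card H → ∃ g : G, E.map (MulAut.conj g).toMonoidHom ≤ H) : ∃ K : Subgroup G, K.Normal ∧ K ⊔ H = ⊤ ∧ K ⊓ H = ⊥ := by
  classical
  have := Fintype.ofFinite G
  have := Fintype.ofFinite H
  set m := Nat.card H with hm
  set n := H.index with hn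
  have hmn : m * n = Nat.card G := H.card_mul_index
  obtain ⟨s, hs1, hs0⟩ := Nat.chineseRemainder hHall 1 0
  have hP1 : ∀ x : G, x ^ m = 1 → x ^ s = x := fun x hx => by
    conv_rhs => rw [← pow_one x]
    exact pow_eq_pow_iff_modEq.mpr (hs1.of_dvd (orderOf_dvd_of_pow_eq_one hx))
  have hH1 : ∀ x ∈ H, x ^ m = 1 := fun x hx =>
    orderOf_dvd_iff_pow_eq_one.mp (Subgroup.orderOf_dvd_natCard _ hx)
  have hPm : ∀ g : G, (g ^ s) ^ m = 1 := fun g => by
    obtain ⟨c, hc⟩ := Nat.modEq_zero_iff_dvd.mp hs0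
    rw [← pow_mul, hc, show n * c * m = m * n * c by ring, hmn, pow_mul, pow_card_eq_one', one_pow]
  have hdvdm : ∀ E : Subgroup G, (∀ x ∈ E, x ^ m = 1) → Nat.card E ∣ m := by
    intro E hE
    refine (?_ : (Nat.card E).Coprime n).dvd_of_dvd_mul_right (hmn ▸ Subgroup.card_subgroup_dvd_card E)
    refine Nat.coprime_of_dvd fun p hp hpE hpn => ?_
    have := Fact.mk hp
    obtain ⟨x, hx⟩ := exists_prime_orderOf_dvd_card' p hpE
    rw [← Subgroup.orderOf_coe] at hx
    exact hp.ne_one (Nat.eq_one_of_dvd_coprimes hHall (hx ▸ orderOf_dvd_of_pow_eq_one (hE x x.2)) hpn)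
  have hconjH : ∀ g : G, ∃ h : H, IsConj (g ^ s) (h : G) := by
    intro g
    obtain ⟨p, hp1, hp⟩ := Nat.exists_infinite_primes (Nat.card G + 1)
    have hcard : Nat.card (Subgroup.zpowers (g ^ s)) ∣ Nat.card G := Subgroup.card_subgroup_dvd_card _
    have helemZ : Cfsg.IsElementary p (Subgroup.zpowers (g ^ s)) := by
      refine ⟨⟨g ^ s, Subgroup.mem_zpowers _⟩, Subgroup.mem_center_iff.mpr fun y => Subtype.ext ?_, ?_, 0, ?_⟩
      · obtain ⟨y, k, rfl⟩ := y
        exact ((Commute.refl (g ^ s)).zpow_left k).eq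
      · rw [Nat.coprime_comm, hp.coprime_iff_not_dvd]
        intro hd
        have h2 := (hd.trans (orderOf_dvd_natCard _)).trans hcard
        have := Nat.le_of_dvd Nat.card_pos h2
        omega
      · rw [pow_zero, Subgroup.index_eq_one, eq_top_iff]
        rintro ⟨y, k, rfl⟩ -
        exact ⟨k, Subtype.ext (by simp)⟩
    obtain ⟨c, hc⟩ := helem _ p hp helemZ (hdvdm _ (by
      rintro x ⟨k, rfl⟩
      rw [← zpow_natCast, ← zpow_mul, mul_comm, zpow_mul, zpow_natCast, hPm, one_zpow]))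
    exact ⟨⟨_, hc ⟨g ^ s, Subgroup.mem_zpowers _, rfl⟩⟩, isConj_iff.mpr ⟨c, rfl⟩⟩
  choose hx hhx using hconjH
  have hfusH : ∀ x y : H, IsConj (x : G) (y : G) → IsConj x y := fun x y h => by
    obtain ⟨c, hc, hce⟩ := hfus x x.2 y y.2 h
    exact isConj_iff.mpr ⟨⟨c, hc⟩, Subtype.ext hce⟩
  have hfusH' : ∀ x y : H, IsConj x y → IsConj (x : G) (y : G) := fun x y h =>
    MonoidHom.map_isConj H.subtype h
  have hxH : ∀ h : H, IsConj (hx h) h := fun h => by
    refine (hfusH _ _ ?_).symm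
    have := hhx (h : G)
    rwa [hP1 _ (hH1 _ h.2)] at this
  -- the lift of a function on `H`
  have hcls : ∀ φ : H → ℂ, Cfsg.IsClassFunction H φ → Cfsg.IsClassFunction G (fun g => φ (hx g)) := by
    intro φ hφ a b
    refine Cfsg.Lib.Chars.classFunction_eq_of_isConj hφ (hfusH _ _ ?_)
    refine (hhx _).symm.trans (IsConj.trans ?_ (hhx a))
    rw [conj_pow]
    exact (isConj_iff.mpr ⟨b, rfl⟩).symm
  have hgen : ∀ φ : H → ℂ, Cfsg.IsGeneralizedCharacter H φ →
      Cfsg.IsGeneralizedCharacter G (fun g => φ (hx g)) := by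
    intro φ hφ
    have hφc := Cfsg.Lib.Chars.isClassFunction_generalized hφ
    refine Cfsg.Lib.Blocks.isGeneralized_of_elementary (hcls φ hφc) fun E hE => ?_
    obtain ⟨q, hq, hel⟩ := hE
    haveI := Cfsg.Lib.Blocks.isNilpotent_of_isElementary hq hel
    let π : E →* E :=
      { toFun := fun e => e ^ s
        map_one' := one_pow s
        map_mul' := fun x y => mul_pow_split hHall (hmn ▸ Subgroup.card_subgroup_dvd_card E) hs1 hs0 x y }
    set E₁ := π.range.map E.subtype
    have hel₁ : Cfsg.IsElementary q E₁ :=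
      Cfsg.Lib.Blocks.isElementary_map _ (Cfsg.Lib.Blocks.isElementary_subgroup hq hel π.range)
    obtain ⟨c, hc⟩ := helem E₁ q hq hel₁ (hdvdm _ (by
      rintro x ⟨y, ⟨z, rfl⟩, rfl⟩
      show ((z ^ s : E) : G) ^ m = 1
      rw [SubmonoidClass.coe_pow, hPm]))
    have hin : ∀ e : E, c * ((π e : E) : G) * c⁻¹ ∈ H := fun e =>
      hc ⟨_, ⟨π e, ⟨e, rfl⟩, rfl⟩, rfl⟩
    let ι : E →* H := (((MulAut.conj c).toMonoidHom.comp E.subtype).comp π).codRestrict H hin
    have heq : (fun e : E => φ (hx (e : G))) = fun e => φ (ι e) := by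
      funext e
      refine Cfsg.Lib.Chars.classFunction_eq_of_isConj hφc (hfusH _ _ ?_)
      refine (hhx _).symm.trans ?_
      exact isConj_iff.mpr ⟨c, by simp [ι, π]⟩
    rw [heq]
    exact Cfsg.Lib.Chars.IsGeneralizedCharacter.comp_hom hφ ι
  -- the weights
  set cH : H → ℕ := fun h => Nat.card {y : H // IsConj h y}
  set w : H → ℕ := fun h => Nat.card {g : G // IsConj (g ^ s) (h : G)}
  set U : H → ℂ := fun h => (m : ℂ) / (Nat.card G : ℂ) * ((w h : ℂ) / (cH h : ℂ))
  have hsum : ∀ φ : H → ℂ, Cfsg.IsClassFunction H φ →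
      (Nat.card G : ℂ)⁻¹ * ∑ g : G, φ (hx g) = (m : ℂ)⁻¹ * ∑ h : H, φ h * U h := by
    intro φ hφ
    have h1 : ∀ g : G, φ (hx g) = ∑ h : H, if IsConj (g ^ s) (h : G) then φ h / (cH h : ℂ) else 0 := by
      intro g
      rw [← Finset.sum_filter, Finset.sum_congr rfl (g := fun _ => φ (hx g) / (cH (hx g) : ℂ)) fun h hh => by
        have hch : IsConj h (hx g) := (hfusH _ _ ((Finset.mem_filter.mp hh).2.symm.trans (hhx g)))
        rw [Cfsg.Lib.Chars.classFunction_eq_of_isConj hφ hch]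
        congr 2
        exact Nat.card_congr (Equiv.subtypeEquivRight fun x =>
          ⟨fun H => hch.symm.trans H, fun H => hch.trans H⟩)]
      rw [Finset.sum_const, nsmul_eq_mul]
      have hcc : (Finset.univ.filter fun h : H => IsConj (g ^ s) (h : G)).card = cH (hx g) := by
        simp only [cH]
        rw [Nat.card_eq_fintype_card, Fintype.card_subtype]
        congr 1
        ext h
        simp only [Finset.mem_filter, Finset.mem_univ, true_and]
        exact ⟨fun H => hfusH _ _ ((hhx g).symm.trans H), fun H => (hhx g).trans (hfusH' _ _ H)⟩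
      rw [hcc, mul_div_cancel₀ _ (by exact_mod_cast (Cfsg.Lib.Chars.card_isConj_pos (hx g)).ne')]
    rw [Finset.sum_congr rfl fun g _ => h1 g, Finset.sum_comm, Finset.mul_sum, Finset.mul_sum]
    refine Finset.sum_congr rfl fun h _ => ?_
    have hm0 : (m : ℂ) ≠ 0 := by exact_mod_cast Nat.card_pos.ne'
    rw [← Finset.sum_filter, Finset.sum_const, nsmul_eq_mul, ← Fintype.card_subtype,
      ← Nat.card_eq_fintype_card]
    simp only [U, w]
    field_simp
  have hUcls : Cfsg.IsClassFunction H U := by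
    intro a b
    have hab : IsConj a (b * a * b⁻¹) := isConj_iff.mpr ⟨b, rfl⟩
    have h1 : w (b * a * b⁻¹) = w a := Nat.card_congr (Equiv.subtypeEquivRight fun g =>
      ⟨fun H => H.trans (hfusH' _ _ hab).symm, fun H => H.trans (hfusH' _ _ hab)⟩)
    have h2 : cH (b * a * b⁻¹) = cH a := Nat.card_congr (Equiv.subtypeEquivRight fun g =>
      ⟨fun H => hab.trans H, fun H => hab.symm.trans H⟩)
    simp only [U, h1, h2]
  have hUreal : ∀ h, starRingEnd ℂ (U h) = U h := fun h => by simp [U]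
  have hUint : ∀ h : H, ∃ z : ℤ, U h = z ∧ 1 ≤ z := by
    intro h
    have hint : IsIntegral ℤ (U h) := by
      rw [Cfsg.Lib.Chars.classFunction_expand_apply hUcls h]
      refine IsIntegral.sum _ fun θ _ => ?_
      obtain ⟨z, hz⟩ := Cfsg.Lib.Coherence.inner_int
        (hgen _ (Cfsg.Lib.Chars.IsCharacter.isGeneralized (Cfsg.Lib.Chars.isCharacter_of_irr θ.2)))
        (Cfsg.Lib.Chars.IsCharacter.isGeneralized (Cfsg.Lib.Chars.isCharacter_one (G := G)))
      have h2 : Cfsg.classInner U (θ : H → ℂ) = z := by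
        rw [← Cfsg.Lib.Chars.classInner_conj_symm]
        rw [Cfsg.Lib.Chars.classInner_def] at hz ⊢
        simp only [map_one, mul_one] at hz
        rw [hsum _ (Cfsg.Lib.Chars.isClassFunction_irr θ)] at hz
        simp only [hUreal]
        rw [hz, map_intCast]
      rw [h2]
      exact isIntegral_algebraMap.mul (Cfsg.Lib.Chars.IsCharacter.isIntegral
        (Cfsg.Lib.Chars.isCharacter_of_irr θ.2) h)
    have hq : U h = (((m : ℚ) / (Nat.card G : ℚ) * ((w h : ℚ) / (cH h : ℚ)) : ℚ) : ℂ) := by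
      simp [U]
    rw [hq] at hint
    obtain ⟨z, hz⟩ := Cfsg.Lib.Chars.int_of_isIntegral_rat hint
    refine ⟨z, by rw [hq, hz]; simp, ?_⟩
    have hw : 0 < w h := Nat.card_pos_iff.mpr ⟨⟨⟨(h : G), by rw [hP1 _ (hH1 _ h.2)]⟩⟩, inferInstance⟩
    have hc : 0 < cH h := Cfsg.Lib.Chars.card_isConj_pos h
    have hm0 : 0 < m := Nat.card_pos
    have hG0 : 0 < Nat.card G := Nat.card_pos
    have : (0 : ℚ) < z := by rw [← hz]; positivity
    exact_mod_cast this
  choose z hz hz1 using hUint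
  have hU1 : ∀ h : H, U h = 1 := by
    have hm0 : (m : ℂ) ≠ 0 := by exact_mod_cast Nat.card_pos.ne'
    have h1 := hsum (fun _ => 1) (fun _ _ => rfl)
    simp only [Finset.sum_const, Finset.card_univ, nsmul_eq_mul, mul_one, one_mul,
      ← Nat.card_eq_fintype_card, hz] at h1
    rw [inv_mul_cancel₀ (by exact_mod_cast Nat.card_pos.ne'), eq_inv_mul_iff_mul_eq₀ hm0, mul_one] at h1
    have h2 : (∑ h : H, (1 : ℤ)) = ∑ h : H, z h := by
      rw [Finset.sum_const, nsmul_eq_mul, mul_one, Finset.card_univ, ← Nat.card_eq_fintype_card]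
      exact_mod_cast h1
    intro h
    rw [hz h, ← (Finset.sum_eq_sum_iff_of_le fun h _ => hz1 h).mp h2 h (Finset.mem_univ h)]
    simp
  have hL : ∀ φ : H → ℂ, Cfsg.IsClassFunction H φ →
      (Nat.card G : ℂ)⁻¹ * ∑ g : G, φ (hx g) = (m : ℂ)⁻¹ * ∑ h : H, φ h := by
    intro φ hφ
    rw [hsum φ hφ]
    simp [hU1]
  have hirr : ∀ θ : Cfsg.IrrCharacter H, Cfsg.IsIrrCharacter G (fun g => (θ : H → ℂ) (hx g)) := by
    intro θ
    have hn : Cfsg.classInner (fun g => (θ : H → ℂ) (hx g)) (fun g => (θ : H → ℂ) (hx g)) = 1 := by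
      rw [← Cfsg.Lib.Chars.classInner_self_irr θ.2, Cfsg.Lib.Chars.classInner_def,
        Cfsg.Lib.Chars.classInner_def, hL (fun h => (θ : H → ℂ) h * starRingEnd ℂ ((θ : H → ℂ) h))
          (fun a b => by simp [Cfsg.Lib.Chars.isClassFunction_irr θ a b])]
    rcases Cfsg.Lib.Chars.isIrr_or_neg_of_norm_one
      (hgen _ (Cfsg.Lib.Chars.IsCharacter.isGeneralized (Cfsg.Lib.Chars.isCharacter_of_irr θ.2))) hn
      with h | h
    · exact h
    · exfalso
      have h1 := Cfsg.Lib.Chars.IsCharacter.apply_one_eq_deg (Cfsg.Lib.Chars.isCharacter_of_irr h)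
      rw [Pi.neg_apply] at h1
      have h2 : hx 1 = 1 := by
        have h3 := hhx 1
        rw [one_pow, isConj_one_right] at h3
        exact Subtype.ext h3
      rw [h2, Cfsg.Lib.Chars.irr_apply_one_eq_deg θ] at h1
      have h4 := Cfsg.Lib.Chars.deg_irr_pos θ
      have h5 : (Cfsg.Lib.Chars.deg (θ : H → ℂ) : ℤ) +
          Cfsg.Lib.Chars.deg (-fun g => (θ : H → ℂ) (hx g)) = 0 := by
        have h6 : ((Cfsg.Lib.Chars.deg (θ : H → ℂ) : ℤ) : ℂ) +
            ((Cfsg.Lib.Chars.deg (-fun g => (θ : H → ℂ) (hx g)) : ℤ) : ℂ) = 0 := by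
          push_cast; rw [← h1]; ring
        exact_mod_cast h6
      omega
  have hx1 : hx 1 = 1 := by
    have h3 := hhx 1
    rw [one_pow, isConj_one_right] at h3
    exact Subtype.ext h3
  let K : Subgroup G := ⨅ θ : Cfsg.IrrCharacter H,
    Cfsg.Lib.Chars.kerSubgroup _ (Cfsg.Lib.Chars.isCharacter_of_irr (hirr θ))
  have hmem : ∀ g : G, g ∈ K ↔ g ^ s = 1 := by
    intro g
    simp only [K, Subgroup.mem_iInf, Cfsg.Lib.Chars.mem_kerSubgroup]
    constructor
    · intro h
      have h1 : IsConj (hx g) 1 := (Cfsg.Lib.Chars.isConj_iff_forall_irr _ _).mpr fun θ => by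
        have := h θ
        rwa [hx1] at this
      have h2 := hhx g
      rw [isConj_one_left.mp h1, Subgroup.coe_one] at h2
      exact isConj_one_left.mp h2
    · intro h θ
      have h2 := hhx g
      rw [h, isConj_one_right] at h2
      rw [Subtype.ext h2 (a1 := hx g) (a2 := 1), hx1]
  refine ⟨K, Subgroup.normal_iInf_normal fun θ => Cfsg.Lib.Chars.kerSubgroup_normal _, ?_, ?_⟩
  swap
  · rw [eq_bot_iff]
    rintro x ⟨hxK, hxH'⟩
    rw [Subgroup.mem_bot, ← hP1 x (hH1 x hxH'), (hmem x).mp hxK]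
  · have hcK : Nat.card K = n := by
      have h1 := hU1 1
      have hw : w 1 = Nat.card K := Nat.card_congr (Equiv.subtypeEquivRight fun g => by
        rw [hmem, Subgroup.coe_one, isConj_one_left])
      have hc : cH 1 = 1 := by
        show Nat.card {y : H // IsConj 1 y} = 1
        rw [Nat.card_congr (Equiv.subtypeEquivRight fun y => isConj_one_right)]
        simp
      simp only [U, hw, hc, Nat.cast_one, div_one] at h1
      have hG : (Nat.card G : ℂ) ≠ 0 := by exact_mod_cast Nat.card_pos.ne'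
      rw [div_mul_eq_mul_div, div_eq_one_iff_eq hG] at h1
      exact Nat.eq_of_mul_eq_mul_left (Nat.card_pos : 0 < m) ((by exact_mod_cast h1 : m * Nat.card K = Nat.card G).trans hmn.symm)
    haveI : K.Normal := Subgroup.normal_iInf_normal fun θ => Cfsg.Lib.Chars.kerSubgroup_normal _
    have hd : m * n ∣ Nat.card ↥(K ⊔ H) := Nat.Coprime.mul_dvd_of_dvd_of_dvd hHall
      (Subgroup.card_dvd_of_le le_sup_right) (hcK ▸ Subgroup.card_dvd_of_le le_sup_left)
    exact Subgroup.eq_top_of_card_eq _ (Nat.dvd_antisymm (Subgroup.card_subgroup_dvd_card _) (hmn ▸ hd))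

end Cfsg.Agent.S0877
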