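import Cfsg.Statements.S0878
import Mathlib.GroupTheory.GroupAction.MultipleTransitivity

set_option autoImplicit false
open Cfsg

namespace Cfsg.Agent.S0878

/-- Let G be a Zassenhaus group on the finite set Ω, a a point, and let H be the subgroup of the stabilizer of a consisting of the identity and the elements fixing no point other than a (given here as a subgroup of the stabilizer of order one less than the number of points whose non-identity elements fix only a; it is the Frobenius kernel of the stabilizer). Then an element outside the stabilizer of a conjugates no non-identity element of H into H, and the normalizer of H is exactly the stabilizer of a. -/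
theorem result {G Ω : Type*} [Group G] [Finite G] [MulAction G Ω] [Fintype Ω] (hZ : Cfsg.IsZassenhausGroup G Ω) (a : Ω) (H : Subgroup G) (hHa : H ≤ MulAction.stabilizer G a) (hHcard : Nat.card H + 1 = Fintype.card Ω) (hHfix : ∀ u ∈ H, u ≠ 1 → ∀ c : Ω, u • c = c → c = a) : (∀ g : G, g ∉ MulAction.stabilizer G a → ∀ u ∈ H, g * u * g⁻¹ ∈ H → u = 1) ∧ Subgroup.normalizer (H : Set G) = MulAction.stabilizer G a := by
  classical
  obtain ⟨hfaith, h2, h3, ⟨g0, hg0, p0, q0, hpq, hp0, hq0⟩, -⟩ := hZ
  haveI := hfaith
  set F := MulAction.stabilizer G a with hF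
  have hfixH : ∀ u ∈ H, u ≠ 1 → ∀ c : Ω, u • c = c → c = a := hHfix
  have hHa' : ∀ u ∈ H, u • a = a := fun u hu => hHa hu
  have part1 : ∀ g : G, g ∉ F → ∀ u ∈ H, g * u * g⁻¹ ∈ H → u = 1 := by
    intro g hg u hu hgu
    by_contra h1
    have hne : g * u * g⁻¹ ≠ 1 := fun h => h1 (conj_eq_one_iff.mp h)
    exact hg (hfixH _ hgu hne (g • a) (by
      rw [← mul_smul, inv_mul_cancel_right, mul_smul, hHa' u hu]))
  have hHne : ∃ u ∈ H, u ≠ 1 := by
    by_contra hcon
    push Not at hcon
    have hH1 : Nat.card H = 1 := Subgroup.card_eq_one.mpr (Subgroup.eq_bot_iff_forall _ |>.mpr hcon)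
    have hO : Fintype.card Ω = 2 := by omega
    refine hg0 (eq_of_smul_eq_smul (α := Ω) fun c => ?_)
    rw [one_smul]
    have huniv : ({p0, q0} : Finset Ω) = Finset.univ :=
      Finset.eq_univ_of_card _ (by rw [Finset.card_pair hpq, hO])
    have hc : c ∈ ({p0, q0} : Finset Ω) := huniv ▸ Finset.mem_univ c
    simp only [Finset.mem_insert, Finset.mem_singleton] at hc
    rcases hc with rfl | rfl <;> assumption
  have hinj : ∀ c : Ω, c ≠ a → ∀ u ∈ H, ∀ v ∈ H, u • c = v • c → u = v := by
    intro c hc u hu v hv h
    by_contra hne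
    refine hc (hfixH (v⁻¹ * u) (mul_mem (inv_mem hv) hu)
      (fun h1 => hne (inv_mul_eq_one.mp h1).symm) c ?_)
    rw [mul_smul, h, inv_smul_smul]
  -- the elements of the stabiliser without further fixed points


  haveI := Fintype.ofFinite G
  set SF : Finset G := Finset.univ.filter (fun g => g ∈ F) with hSF
  set Ω' : Finset Ω := Finset.univ.erase a with hΩ'
  have hmemΩ' : ∀ {u : G}, u ∈ F → ∀ {c : Ω}, c ≠ a → u • c ≠ a := fun {u} hu {c} hc h => by
    have hu' : u • a = a := hu
    exact hc (smul_left_cancel u (h.trans hu'.symm))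
  have hΩcard : Ω'.card = Nat.card H := by
    rw [hΩ', Finset.card_erase_of_mem (Finset.mem_univ a), Finset.card_univ]; omega
  set SH : Finset G := Finset.univ.filter (fun g => g ∈ H) with hSH
  have hSHcard : SH.card = Nat.card H := by
    rw [hSH, ← Fintype.card_subtype, Nat.card_eq_fintype_card]
  have hsurj : ∀ c ∈ Ω', ∀ d ∈ Ω', ∃ u ∈ H, u • c = d := by
    intro c hc d hd
    have hc' : c ≠ a := (Finset.mem_erase.mp hc).1
    have himg : SH.image (fun u => u • c) = Ω' := by
      refine Finset.eq_of_subset_of_card_le (fun x hx => ?_) ?_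
      · obtain ⟨u, hu, rfl⟩ := Finset.mem_image.mp hx
        exact Finset.mem_erase.mpr ⟨hmemΩ' (hHa (Finset.mem_filter.mp hu).2) hc', Finset.mem_univ _⟩
      · rw [Finset.card_image_of_injOn (fun u hu v hv h => hinj c hc' u (Finset.mem_filter.mp hu).2
          v (Finset.mem_filter.mp hv).2 h), hSHcard, hΩcard]
    rw [← himg] at hd
    obtain ⟨u, hu, hue⟩ := Finset.mem_image.mp hd
    exact ⟨u, (Finset.mem_filter.mp hu).2, hue⟩
  have hstab : ∀ c ∈ Ω', Nat.card H * (SF.filter (fun g => g • c = c)).card = SF.card := by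
    intro c hc
    rw [← hSHcard, ← Finset.card_product]
    refine Finset.card_bij (fun x _ => x.1 * x.2) ?_ ?_ ?_
    · intro x hx
      simp only [Finset.mem_product, Finset.mem_filter, hSH, hSF, Finset.mem_univ, true_and] at hx
      simp only [hSF, Finset.mem_filter, Finset.mem_univ, true_and]
      exact mul_mem (hHa hx.1) hx.2.1
    · intro x hx y hy h
      simp only [Finset.mem_product, Finset.mem_filter, hSH, hSF, Finset.mem_univ, true_and] at hx hy
      have h' := congrArg (fun z => z • c) h
      simp only [mul_smul, hx.2.2, hy.2.2] at h'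
      have h1 := hinj c (Finset.mem_erase.mp hc).1 _ hx.1 _ hy.1 h'
      exact Prod.ext h1 (mul_left_cancel (h1 ▸ h))
    · intro g hg
      simp only [hSF, Finset.mem_filter, Finset.mem_univ, true_and] at hg
      obtain ⟨u, hu, hue⟩ := hsurj c hc (g • c)
        (Finset.mem_erase.mpr ⟨hmemΩ' hg (Finset.mem_erase.mp hc).1, Finset.mem_univ _⟩)
      refine ⟨(u, u⁻¹ * g), ?_, by simp⟩
      simp only [Finset.mem_product, Finset.mem_filter, hSH, hSF, Finset.mem_univ, true_and]
      exact ⟨hu, mul_mem (inv_mem (hHa hu)) hg, by rw [mul_smul, ← hue, inv_smul_smul]⟩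
  have hdouble : ∑ g ∈ SF, (Ω'.filter (fun c => g • c = c)).card = SF.card := by
    simp only [Finset.card_filter]
    rw [Finset.sum_comm]
    simp only [← Finset.card_filter]
    have h := Finset.sum_congr rfl (fun c hc => hstab c hc)
    rw [← Finset.mul_sum, Finset.sum_const, hΩcard, smul_eq_mul] at h
    exact Nat.eq_of_mul_eq_mul_left (Nat.card_pos (α := H)) h
  set K : Finset G := SF.filter (fun g => (Ω'.filter (fun c => g • c = c)).card = 0) with hK
  have h1F : (1 : G) ∈ SF := by simp [hSF, one_mem]
  have hterm : ∀ g ∈ SF, (Ω'.filter (fun c => g • c = c)).card +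
      (if (Ω'.filter (fun c => g • c = c)).card = 0 then 1 else 0) + (if g = 1 then 1 else 0) =
      1 + (if g = 1 then Nat.card H else 0) := by
    intro g hg
    by_cases h1 : g = 1
    · subst h1
      have hpos : 0 < Nat.card H := Nat.card_pos
      simp only [one_smul, Finset.filter_true, hΩcard, if_pos, if_neg hpos.ne']
      omega
    · have hle : (Ω'.filter (fun c => g • c = c)).card ≤ 1 := by
        refine Finset.card_le_one.mpr fun c hc d hd => ?_
        by_contra hcd
        simp only [Finset.mem_filter, hΩ', Finset.mem_erase, Finset.mem_univ, and_true] at hc hd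
        simp only [hSF, Finset.mem_filter, Finset.mem_univ, true_and] at hg
        exact h1 (h3 g a c d (Ne.symm hc.1) hcd (Ne.symm hd.1) hg hc.2 hd.2)
      rw [if_neg h1, if_neg h1]
      split_ifs <;> omega
  have hKcard : K.card + 1 = Nat.card H := by
    have h := Finset.sum_congr rfl hterm
    rw [Finset.sum_add_distrib, Finset.sum_add_distrib, Finset.sum_add_distrib, hdouble,
      Finset.sum_ite_eq' SF 1, Finset.sum_ite_eq' SF 1, if_pos h1F, if_pos h1F, Finset.sum_const,
      smul_eq_mul, mul_one, ← Finset.card_filter] at h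
    rw [hK]; omega
  have hsub : SH.erase 1 ⊆ K := by
    intro u hu
    simp only [Finset.mem_erase, hSH, Finset.mem_filter, Finset.mem_univ, true_and] at hu
    rw [hK]
    simp only [Finset.mem_filter, hSF, Finset.mem_univ, true_and, Finset.card_eq_zero]
    refine ⟨hHa hu.2, Finset.filter_eq_empty_iff.mpr fun c hc h => ?_⟩
    exact (Finset.mem_erase.mp hc).1 (hfixH u hu.2 hu.1 c h)
  have hKeq : SH.erase 1 = K := Finset.eq_of_subset_of_card_le hsub (by
    rw [Finset.card_erase_of_mem (by simp [hSH, one_mem]), hSHcard]; omega)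
  refine ⟨part1, le_antisymm (fun g hg => ?_) ?_⟩
  · by_contra hgF
    obtain ⟨u, hu, hu1⟩ := hHne
    exact hu1 (part1 g hgF u hu ((Subgroup.mem_normalizer_iff.mp hg u).mp hu))
  · intro k hk
    have hconj : ∀ m ∈ F, ∀ h ∈ H, m * h * m⁻¹ ∈ H := by
      intro m hm h hh
      by_cases h1 : h = 1
      · simp [h1, one_mem]
      have : m * h * m⁻¹ ∈ K := by
        rw [hK]
        simp only [Finset.mem_filter, hSF, Finset.mem_univ, true_and, Finset.card_eq_zero]
        refine ⟨mul_mem (mul_mem hm (hHa hh)) (inv_mem hm), Finset.filter_eq_empty_iff.mpr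
          fun c hc he => ?_⟩
        have hc' := (Finset.mem_erase.mp hc).1
        refine hmemΩ' (inv_mem hm) hc' (hfixH h hh h1 (m⁻¹ • c) ?_)
        conv_rhs => rw [← he]
        rw [← mul_smul, ← mul_smul]
        group
      rw [← hKeq] at this
      exact (Finset.mem_filter.mp (Finset.mem_of_mem_erase this)).2
    rw [Subgroup.mem_normalizer_iff]
    exact fun h => ⟨hconj k hk h, fun hh => by
      simpa [mul_assoc] using hconj k⁻¹ (inv_mem hk) _ hh⟩

end Cfsg.Agent.S0878
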