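import Cfsg.Statements.S0879
import Mathlib.GroupTheory.GroupAction.MultipleTransitivity

set_option autoImplicit false
open Cfsg

namespace Cfsg.Agent.S0879

/-- Let G be a Zassenhaus group on the finite set Ω and E the stabilizer of two distinct points a, b. Then an element outside the normalizer of E conjugates no non-identity element of E into E, and E has index 2 in its normalizer. -/
theorem result {G Ω : Type*} [Group G] [Finite G] [MulAction G Ω] [Fintype Ω] (hZ : Cfsg.IsZassenhausGroup G Ω) {a b : Ω} (hab : a ≠ b) : (∀ g : G, g ∉ Subgroup.normalizer ((MulAction.stabilizer G a ⊓ MulAction.stabilizer G b : Subgroup G) : Set G) → ∀ x ∈ (MulAction.stabilizer G a ⊓ MulAction.stabilizer G b : Subgroup G), g * x * g⁻¹ ∈ (MulAction.stabilizer G a ⊓ MulAction.stabilizer G b : Subgroup G) → x = 1) ∧ ((MulAction.stabilizer G a ⊓ MulAction.stabilizer G b : Subgroup G).subgroupOf (Subgroup.normalizer ((MulAction.stabilizer G a ⊓ MulAction.stabilizer G b : Subgroup G)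 : Set G))).index = 2 := by
  classical
  obtain ⟨hfaith, h2, h3, ⟨g0, hg0, p0, q0, hpq, hp0, hq0⟩, -⟩ := hZ
  set E := MulAction.stabilizer G a ⊓ MulAction.stabilizer G b with hE
  have hmem : ∀ {x : G}, x ∈ E ↔ x • a = a ∧ x • b = b := fun {x} => Iff.rfl
  have hfix : ∀ x ∈ E, x ≠ 1 → ∀ c : Ω, x • c = c → c = a ∨ c = b := by
    intro x hx hx1 c hc
    by_contra hcon
    push Not at hcon
    exact hx1 (h3 x a b c hab (Ne.symm hcon.2) (Ne.symm hcon.1) (hmem.mp hx).1 (hmem.mp hx).2 hc)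
  have htwo : ∀ {a b c d : Ω}, a ≠ b → c ≠ d → ∃ g : G, g • a = c ∧ g • b = d :=
    MulAction.is_two_pretransitive_iff.mp h2
  obtain ⟨e, he, he1⟩ : ∃ e ∈ E, e ≠ 1 := by
    obtain ⟨g, hga, hgb⟩ := htwo hpq hab
    refine ⟨g * g0 * g⁻¹, ?_, fun h => hg0 (conj_eq_one_iff.mp h)⟩
    rw [hmem, ← hga, ← hgb]
    simp [mul_smul, hp0, hq0]
  -- elements preserving the pair normalise the stabiliser
  have hnorm : ∀ g : G, (g • a = a ∨ g • a = b) → (g • b = a ∨ g • b = b) →
      g ∈ Subgroup.normalizer (E : Set G) := by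
    intro g hga hgb
    have hne : g • a ≠ g • b := fun h => hab (smul_left_cancel g h)
    rw [Subgroup.mem_normalizer_iff]
    intro x
    have hiff : (g * x * g⁻¹ ∈ E) ↔
        (g * x * g⁻¹) • (g • a) = g • a ∧ (g * x * g⁻¹) • (g • b) = g • b := by
      rw [hmem]
      rcases hga with h | h <;> rcases hgb with h' | h' <;> simp only [h, h'] at hne ⊢
      · exact absurd rfl hne
      · exact and_comm
      · exact absurd rfl hne
    rw [hiff, hmem]
    simp only [mul_smul, inv_smul_smul, smul_left_cancel_iff]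
  have hpair : ∀ g : G, ∀ x ∈ E, x ≠ 1 → g * x * g⁻¹ ∈ E →
      (g • a = a ∨ g • a = b) ∧ (g • b = a ∨ g • b = b) := by
    intro g x hx hx1 hgx
    have hy1 : g * x * g⁻¹ ≠ 1 := fun h => hx1 (conj_eq_one_iff.mp h)
    refine ⟨hfix _ hgx hy1 _ ?_, hfix _ hgx hy1 _ ?_⟩
    · rw [← mul_smul, inv_mul_cancel_right, mul_smul, (hmem.mp hx).1]
    · rw [← mul_smul, inv_mul_cancel_right, mul_smul, (hmem.mp hx).2]
  refine ⟨fun g hg x hx hgx => ?_, ?_⟩
  · by_contra hx1
    obtain ⟨ha, hb⟩ := hpair g x hx hx1 hgx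
    exact hg (hnorm g ha hb)
  · obtain ⟨t, hta, htb⟩ := htwo hab (Ne.symm hab)
    have htN : t ∈ Subgroup.normalizer (E : Set G) := hnorm t (Or.inr hta) (Or.inl htb)
    rw [Subgroup.index_eq_two_iff]
    refine ⟨⟨t, htN⟩, fun g => ?_⟩
    obtain ⟨ha, hb⟩ := hpair g e he he1 ((Subgroup.mem_normalizer_iff.mp g.2 e).mp he)
    have hne : (g : G) • a ≠ (g : G) • b := fun h => hab (smul_left_cancel (g : G) h)
    rw [xor_iff_iff_not]
    simp only [Subgroup.mem_subgroupOf, Subgroup.coe_mul, hmem, mul_smul, hta, htb]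
    rcases ha with h | h <;> rcases hb with h' | h' <;> simp [h, h', hab, Ne.symm hab] at hne ⊢

end Cfsg.Agent.S0879
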