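import Cfsg.Statements.S0888
import Cfsg.Agent.Chars.ExtCriteria

set_option autoImplicit false
open Cfsg

namespace Cfsg.Agent.S0888

/-- Let N be a normal subgroup of the finite group G and ϑ an irreducible character of N invariant under conjugation by G. Suppose that for every prime p there are a subgroup P containing N, of index prime to p and with the index of N in P a power of p, and an irreducible character of P restricting to ϑ. Then ϑ is the restriction of an irreducible character of G. -/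
theorem result {G : Type*} [Group G] [Finite G] (N : Subgroup G) [hN : N.Normal] (ϑ : N → ℂ) (hϑ : Cfsg.IsIrrCharacter N ϑ) (hinv : ∀ (g : G) (n : N), ϑ ⟨g * n * g⁻¹, hN.conj_mem (n : G) n.2 g⟩ = ϑ n) (hsyl : ∀ p : ℕ, p.Prime → ∃ (P : Subgroup G) (hNP : N ≤ P) (η : P → ℂ), Nat.Coprime P.index p ∧ (∃ k : ℕ, N.relIndex P = p ^ k) ∧ Cfsg.IsIrrCharacter P η ∧ ∀ n : N, η ⟨(n : G), hNP n.2⟩ = ϑ n) : ∃ χ : G → ℂ, Cfsg.IsIrrCharacter G χ ∧ ∀ n : N, χ n = ϑ n := by
  obtain ⟨m, ρ, hρ, rfl⟩ := hϑ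
  have hinv' : ∀ g : G, Cfsg.Lib.Chars.conjN N g ρ.character = ρ.character := fun g => funext (hinv g)
  obtain ⟨R, hR⟩ := Cfsg.Lib.Chars.exists_extension_of_hasSplit N ρ hinv'
    (Cfsg.Lib.Chars.hasSplit_one_of_forall_prime N ρ fun p hp _ => by
      obtain ⟨P, hNP, η, hcop, -, hη, hres⟩ := hsyl p hp
      obtain ⟨S, hS, -⟩ := Cfsg.Lib.Chars.exists_rep_extending N ρ (Subgroup.inclusion hNP)
        (Cfsg.Lib.Chars.isCharacter_of_irr hη) hres
      exact ⟨P.index, fun hd => (hp.coprime_iff_not_dvd.mp hcop.symm) hd,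
        Cfsg.Lib.Chars.hasSplit_of_subgroup N ρ hinv' P hNP S hS⟩)
  obtain ⟨hirr, hc⟩ := Cfsg.Lib.Chars.exists_irr_ext_of_rep N ρ R hR
  exact ⟨R.character, hirr, hc⟩

end Cfsg.Agent.S0888
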