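import Cfsg.Statements.S0893
import Cfsg.Agent.Chars.Extraspecial

set_option autoImplicit false
open Cfsg

namespace Cfsg.Agent.S0893

/-- Let P be an extraspecial p-group of order p ^ (2 * n + 1), A an abelian subgroup of order p ^ (n + 1), and λ a character of A of degree 1 that is not identically 1 on the elements of A lying in the centre of P. Then the function induced from λ to P is an irreducible character of P and vanishes at every element outside the centre. -/
theorem result {P : Type*} [Group P] [Fintype P] (p n : ℕ) [Fact p.Prime] (hP : Cfsg.IsExtraspecial p P) (hcard : Nat.card P = p ^ (2 * n + 1)) (A : Subgroup P) (hab : ∀ a ∈ A, ∀ b ∈ A, a * b = b * a) (hA : Nat.card A = p ^ (n + 1)) (lam : A → ℂ) (hlam : Cfsg.IsCharacter A lam ∧ lam 1 = 1) (hZ : ∃ a : A, (a : P) ∈ Subgroup.center P ∧ lam a ≠ 1) : Cfsg.IsIrrCharacter P (Cfsg.indFun A lam) ∧ ∀ x : P, x ∉ Subgroup.center P → Cfsg.indFun A lam x = 0 := by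
  classical
  obtain ⟨f, hf⟩ := Cfsg.Lib.Chars.exists_hom_of_deg_one hlam.1 hlam.2
  obtain ⟨a₀, ha₀, ha₀1⟩ := hZ
  have ha₀ne : (a₀ : P) ≠ 1 := fun h => ha₀1 (by
    rw [show a₀ = 1 from Subtype.ext h]; exact hlam.2)
  have hZA : Subgroup.center P ≤ A := by
    rw [← Cfsg.Lib.Chars.zpowers_eq_center hP ha₀ ha₀ne]
    exact Subgroup.zpowers_le.mpr a₀.2
  set χ := Cfsg.indFun A lam with hχdef
  have hcf : Cfsg.IsClassFunction P χ := Cfsg.Lib.Chars.isClassFunction_indFun A lam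
  set ω : P → ℂ := fun z => if h : z ∈ A then lam ⟨z, h⟩ else 1 with hωdef
  have hmul : ∀ z ∈ Subgroup.center P, ∀ x : P, χ (z * x) = ω z * χ x := by
    intro z hz x
    rw [hχdef, Cfsg.Lib.Chars.indFun_apply, Cfsg.Lib.Chars.indFun_apply, mul_left_comm,
      Finset.mul_sum, Finset.mul_sum, Finset.mul_sum]
    refine Finset.sum_congr rfl fun y _ => ?_
    have he : y⁻¹ * (z * x) * y = z * (y⁻¹ * x * y) := by
      rw [← mul_assoc, Subgroup.mem_center_iff.mp hz y⁻¹]; group
    rw [he]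
    by_cases hy : y⁻¹ * x * y ∈ A
    · rw [Cfsg.Lib.Chars.extendByZero_mem _ (mul_mem (hZA hz) hy),
        Cfsg.Lib.Chars.extendByZero_mem _ hy, hωdef]
      simp only [dif_pos (hZA hz)]
      rw [show (⟨z * (y⁻¹ * x * y), mul_mem (hZA hz) hy⟩ : A) = ⟨z, hZA hz⟩ * ⟨_, hy⟩ from rfl]
      simp only [hf, map_mul, Units.val_mul]
    · rw [Cfsg.Lib.Chars.extendByZero_not_mem _ hy, Cfsg.Lib.Chars.extendByZero_not_mem _
        (fun h => hy (by simpa [mul_assoc] using mul_mem (inv_mem (hZA hz)) h))]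
      simp
  have hω1 : ∀ z ∈ Subgroup.center P, z ≠ 1 → ω z ≠ 1 := by
    intro z hz hz1 h
    apply ha₀1
    simp only [hωdef, dif_pos (hZA hz), hf] at h
    have hfz : f ⟨z, hZA hz⟩ = 1 := Units.val_eq_one.mp h
    obtain ⟨k, hk⟩ : (a₀ : P) ∈ Subgroup.zpowers z := by
      rw [Cfsg.Lib.Chars.zpowers_eq_center hP hz hz1]; exact ha₀
    have hk' : (⟨z, hZA hz⟩ : A) ^ k = a₀ := Subtype.ext hk
    simp only [hf]
    rw [← hk', map_zpow, hfz, one_zpow, Units.val_one]
  have hvan : ∀ x : P, x ∉ Subgroup.center P → χ x = 0 := fun x hx =>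
    Cfsg.Lib.Chars.vanish_off_center hP hcf ω (fun z hz hz1 => ⟨hω1 z hz hz1, hmul z hz⟩) hx
  refine ⟨Cfsg.Lib.Chars.isIrrCharacter_of_norm_one
    (Cfsg.Lib.Chars.IsCharacter.indFun hlam.1) ?_, hvan⟩
  have hidx : A.index = p ^ n := by
    have h := Subgroup.card_mul_index A
    rw [hA, hcard, show 2 * n + 1 = (n + 1) + n by ring, pow_add _ (n + 1) n] at h
    exact Nat.eq_of_mul_eq_mul_left (pow_pos (Fact.out : p.Prime).pos _) h
  have hχ1 : χ 1 = ((p ^ n : ℕ) : ℂ) := by
    rw [hχdef, Cfsg.Lib.Chars.indFun_one, hlam.2, mul_one, hidx]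
  have hnorm : ∀ x ∈ Subgroup.center P, χ x * (starRingEnd ℂ) (χ x) = ((p ^ n : ℕ) : ℂ) ^ 2 := by
    intro x hx
    have h := hmul x hx 1
    rw [mul_one, hχ1] at h
    have hu : ω x * (starRingEnd ℂ) (ω x) = 1 := by
      simp only [hωdef, dif_pos (hZA hx)]
      rw [← Cfsg.Lib.Chars.IsCharacter.conj_inv hlam.1]
      simp only [hf]
      rw [← Units.val_mul, ← map_mul, mul_inv_cancel, map_one, Units.val_one]
    rw [h, map_mul, Complex.conj_natCast, mul_mul_mul_comm, hu, one_mul, sq]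
  rw [Cfsg.Lib.Chars.classInner_def, ← Finset.sum_subset
    (Finset.subset_univ (Finset.univ.filter (fun x => x ∈ Subgroup.center P)))
    (fun x _ hx => by
      rw [hvan x (fun h => hx (Finset.mem_filter.mpr ⟨Finset.mem_univ x, h⟩)), zero_mul]),
    Finset.sum_congr rfl (fun x hx => hnorm x (Finset.mem_filter.mp hx).2), Finset.sum_const,
    nsmul_eq_mul, hcard, ← Fintype.card_subtype, ← Nat.card_eq_fintype_card, hP.2]
  push_cast
  have hp : (p : ℂ) ≠ 0 := by exact_mod_cast (Fact.out : p.Prime).ne_zero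
  field_simp
  ring

end Cfsg.Agent.S0893
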