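import Cfsg.Statements.S0894
import Cfsg.Agent.Chars.Extraspecial

set_option autoImplicit false
open Cfsg

namespace Cfsg.Agent.S0894

/-- Let P be an extraspecial p-group of order p ^ (2 * n + 1). Then every irreducible character of P has degree 1 or p ^ n, and exactly p - 1 of them have degree p ^ n. -/
theorem result {P : Type*} [Group P] [Finite P] (p n : ℕ) [Fact p.Prime] (hP : Cfsg.IsExtraspecial p P) (hcard : Nat.card P = p ^ (2 * n + 1)) : (∀ χ : Cfsg.IrrCharacter P, (χ : P → ℂ) 1 = 1 ∨ (χ : P → ℂ) 1 = (p : ℂ) ^ n) ∧ Nat.card {χ : Cfsg.IrrCharacter P // (χ : P → ℂ) 1 = (p : ℂ) ^ n} = p - 1 := by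
  classical
  have := Fintype.ofFinite P
  have hn1 := Cfsg.Lib.Chars.one_le_rank hP hcard
  have hdich := fun χ : Cfsg.IrrCharacter P => Cfsg.Lib.Chars.extraspecial_dichotomy hP hcard χ.2
  refine ⟨fun χ => (hdich χ).imp_right And.left, ?_⟩
  have hne : (1 : ℂ) ≠ (p : ℂ) ^ n := by
    intro h
    have h' : 1 = p ^ n := by exact_mod_cast h
    exact (Nat.one_lt_pow (by omega) (Fact.out : p.Prime).one_lt).ne h'
  obtain ⟨x, hx⟩ : ∃ x : P, x ∉ Subgroup.center P := by
    by_contra hcon
    push Not at hcon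
    have h := hP.2
    rw [(Subgroup.eq_top_iff' _).mpr hcon, Subgroup.card_top, hcard] at h
    have : 2 * n + 1 = 1 := Nat.pow_right_injective (Fact.out : p.Prime).two_le (by simpa using h)
    omega
  have hC : Nat.card (Subgroup.centralizer ({x} : Set P)) = p ^ (2 * n) := by
    have h := Cfsg.Lib.Chars.card_isConj_mul x
    rw [Cfsg.Lib.Chars.card_noncentral_class hP hx, hcard, pow_succ, mul_comm (p ^ (2 * n)) p] at h
    exact Nat.eq_of_mul_eq_mul_left (Fact.out : p.Prime).pos h
  set L := Finset.univ.filter fun χ : Cfsg.IrrCharacter P => (χ : P → ℂ) 1 = 1 with hL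
  set M := Finset.univ.filter fun χ : Cfsg.IrrCharacter P => (χ : P → ℂ) 1 = (p : ℂ) ^ n with hM
  have hMnot : ∀ χ : Cfsg.IrrCharacter P, χ ∈ M ↔ χ ∉ L := fun χ => by
    simp only [hL, hM, Finset.mem_filter, Finset.mem_univ, true_and]
    rcases hdich χ with h | ⟨h, -⟩ <;> simp [h, hne, hne.symm]
  have hterm : ∀ χ : Cfsg.IrrCharacter P, ‖(χ : P → ℂ) x‖ ^ 2 = if χ ∈ L then 1 else 0 := by
    intro χ
    rcases hdich χ with h | ⟨h, hv⟩
    · rw [if_pos (by simp [hL, h])]
      obtain ⟨f, hf⟩ := Cfsg.Lib.Chars.exists_hom_of_deg_one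
        (Cfsg.Lib.Chars.isCharacter_of_irr χ.2) h
      rw [hf]
      have h1 : ‖(f x : ℂ)‖ = 1 := by
        have hpow : (f x : ℂ) ^ Nat.card P = 1 := by
          rw [← Units.val_pow_eq_pow_val, ← map_pow, pow_card_eq_one', map_one, Units.val_one]
        exact Complex.norm_eq_one_of_pow_eq_one hpow Nat.card_pos.ne'
      simp [h1]
    · rw [if_neg (by simp [hL, h, hne.symm]), hv x hx]
      simp
  have hLcard : L.card = p ^ (2 * n) := by
    have h := Cfsg.Lib.Chars.sum_norm_sq_irr (G := P) x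
    rw [Finset.sum_congr rfl (fun χ _ => hterm χ), hC, Finset.sum_boole] at h
    simp only [Finset.filter_univ_mem] at h
    exact_mod_cast h
  have hsum := Cfsg.Lib.Chars.sum_deg_sq_nat (G := P)
  have hdeg : ∀ χ : Cfsg.IrrCharacter P, Cfsg.Lib.Chars.deg (χ : P → ℂ) ^ 2 =
      (if χ ∈ L then 1 else 0) + (if χ ∈ M then p ^ (2 * n) else 0) := by
    intro χ
    have h1 := Cfsg.Lib.Chars.irr_apply_one_eq_deg χ
    by_cases hl : χ ∈ L
    · rw [if_pos hl, if_neg (fun h => (hMnot χ).mp h hl)]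
      simp only [hL, Finset.mem_filter, Finset.mem_univ, true_and] at hl
      rw [hl] at h1
      have : Cfsg.Lib.Chars.deg (χ : P → ℂ) = 1 := by exact_mod_cast h1.symm
      simp [this]
    · have hm := (hMnot χ).mpr hl
      rw [if_neg hl, if_pos hm]
      simp only [hM, Finset.mem_filter, Finset.mem_univ, true_and] at hm
      rw [hm] at h1
      have : Cfsg.Lib.Chars.deg (χ : P → ℂ) = p ^ n := by exact_mod_cast h1.symm
      rw [this, ← pow_mul, mul_comm n 2, zero_add]
  rw [Finset.sum_congr rfl (fun χ _ => hdeg χ), Finset.sum_add_distrib, Finset.sum_boole,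
    ← Finset.sum_filter, Finset.sum_const, smul_eq_mul, Finset.filter_univ_mem,
    Finset.filter_univ_mem, hcard] at hsum
  simp only [Nat.cast_id] at hsum
  rw [hLcard, pow_succ] at hsum
  have hMc : M.card = p - 1 := by
    have hpos : 0 < p ^ (2 * n) := pow_pos (Fact.out : p.Prime).pos _
    have h' : p ^ (2 * n) * (1 + M.card) = p ^ (2 * n) * p := by
      rw [mul_add, mul_one, mul_comm _ M.card]; exact hsum
    have := Nat.eq_of_mul_eq_mul_left hpos h'
    omega
  rw [Nat.card_eq_fintype_card, Fintype.card_subtype]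
  exact hMc

end Cfsg.Agent.S0894
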