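import Cfsg.Statements.S0900
import Cfsg.Agent.Chars.Gallagher

set_option autoImplicit false
open Cfsg

namespace Cfsg.Agent.S0900

/-- Let N be a normal subgroup of the finite group G, χ an irreducible character of G and ϑ an irreducible character of N having nonzero inner product with the restriction of χ. Consider: (a) the restriction of χ to N is e • ϑ for a natural number e with e ^ 2 equal to the index of N; (b) χ vanishes outside N and ϑ is invariant under conjugation by G; (c) ϑ is invariant and every irreducible character of G having nonzero inner product with the function induced from ϑ equals χ. Then (a) ↔ (b) and (a) ↔ (c). -/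
theorem result {G : Type*} [Group G] [Fintype G] (N : Subgroup G) [hN : N.Normal] [Fintype N] (χ : G → ℂ) (hχ : Cfsg.IsIrrCharacter G χ) (ϑ : N → ℂ) (hϑ : Cfsg.IsIrrCharacter N ϑ) (hcon : Cfsg.classInner (fun n : N => χ n) ϑ ≠ 0) : ((∃ e : ℕ, (fun n : N => χ n) = (e : ℂ) • ϑ ∧ e ^ 2 = N.index) ↔ ((∀ g : G, g ∉ N → χ g = 0) ∧ ∀ (g : G) (n : N), ϑ ⟨g * n * g⁻¹, hN.conj_mem (n : G) n.2 g⟩ = ϑ n)) ∧ ((∃ e : ℕ, (fun n : N => χ n) = (e : ℂ) • ϑ ∧ e ^ 2 = N.index) ↔ (∀ (g : G) (n : N), ϑ ⟨g * n * g⁻¹, hN.conj_mem (n : G) n.2 g⟩ = ϑ n ∧ ∀ ψ : G → ℂ, Cfsg.IsIrrCharacter G ψ → Cfsg.classInner (Cfsg.indFun N ϑ) ψ ≠ 0 → ψ = χ)) := by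
  classical
  obtain ⟨e, he⟩ := Cfsg.Lib.Chars.IsCharacter.exists_mult
    (Cfsg.Lib.Chars.IsCharacter.restrict (Cfsg.Lib.Chars.isCharacter_of_irr hχ) N) hϑ
  have he0 : (e : ℂ) ≠ 0 := he ▸ hcon
  have hχcl := Cfsg.Lib.Chars.isClassFunction_isChar (Cfsg.Lib.Chars.isCharacter_of_irr hχ)
  have hres : (∀ (g : G) (n : N), ϑ ⟨g * n * g⁻¹, hN.conj_mem (n : G) n.2 g⟩ = ϑ n) →
      (fun n : N => χ n) = (e : ℂ) • ϑ := by
    intro hinv
    obtain ⟨k, -, hk⟩ := Cfsg.Lib.Chars.restrict_eq_mult_of_invariant N hχ hϑ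
      (fun g => funext fun n => hinv g n) hcon
    rw [hk, Cfsg.Lib.Chars.classInner_smul_left, Cfsg.Lib.Chars.classInner_self_irr hϑ, mul_one] at he
    rw [hk, he]
  have hinvA : ∀ k : ℕ, (fun n : N => χ n) = (k : ℂ) • ϑ → k = e ∧
      ∀ (g : G) (n : N), ϑ ⟨g * n * g⁻¹, hN.conj_mem (n : G) n.2 g⟩ = ϑ n := by
    intro k hk
    have hke : k = e := by
      rw [hk, Cfsg.Lib.Chars.classInner_smul_left, Cfsg.Lib.Chars.classInner_self_irr hϑ, mul_one] at he
      exact_mod_cast he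
    refine ⟨hke, fun g n => ?_⟩
    subst hke
    have h1 := congrFun hk ⟨g * n * g⁻¹, hN.conj_mem (n : G) n.2 g⟩
    have h2 := congrFun hk n
    simp only [Pi.smul_apply, smul_eq_mul] at h1 h2
    exact mul_left_cancel₀ he0 (h1.symm.trans ((hχcl _ _).trans h2))
  have hG : ∑ g : G, ‖χ g‖ ^ 2 = (Nat.card G : ℝ) := by
    have h := Cfsg.Lib.Chars.classInner_self_irr hχ
    rw [Cfsg.Lib.Chars.classInner_self] at h
    have h' : (Nat.card G : ℝ)⁻¹ * ∑ g : G, ‖χ g‖ ^ 2 = 1 := by exact_mod_cast h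
    rwa [inv_mul_eq_iff_eq_mul₀ (by exact_mod_cast Nat.card_pos.ne'), mul_one] at h'
  have hN2 : (fun n : N => χ n) = (e : ℂ) • ϑ →
      ∑ n : N, ‖χ n‖ ^ 2 = (Nat.card N : ℝ) * (e : ℝ) ^ 2 := by
    intro hk
    have h := Cfsg.Lib.Chars.classInner_self (fun n : N => χ n)
    rw [hk, Cfsg.Lib.Chars.classInner_smul_left, Cfsg.Lib.Chars.classInner_smul_right,
      Cfsg.Lib.Chars.classInner_self_irr hϑ, Complex.conj_natCast, mul_one] at h
    have h' : (e : ℝ) * e = (Nat.card N : ℝ)⁻¹ * ∑ n : N, ‖χ n‖ ^ 2 := by exact_mod_cast h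
    rw [pow_two (e : ℝ), h', mul_inv_cancel_left₀ (by exact_mod_cast Nat.card_pos.ne')]
  have hsplit : ∑ g : G, ‖χ g‖ ^ 2 =
      ∑ n : N, ‖χ n‖ ^ 2 + ∑ g ∈ Finset.univ.filter (fun g => g ∉ N), ‖χ g‖ ^ 2 := by
    rw [← Finset.sum_filter_add_sum_filter_not Finset.univ (fun g => g ∈ N)]
    congr 1
    exact (Finset.sum_subtype (Finset.univ.filter fun g => g ∈ N) (fun x => by simp) _)
  have hcard : (Nat.card G : ℝ) = (Nat.card N : ℝ) * (N.index : ℝ) := by
    exact_mod_cast N.card_mul_index.symm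
  have hN0 : (Nat.card N : ℝ) ≠ 0 := by exact_mod_cast Nat.card_pos.ne'
  refine ⟨⟨?_, ?_⟩, ⟨?_, ?_⟩⟩
  · rintro ⟨k, hk, hk2⟩
    obtain ⟨rfl, hinv⟩ := hinvA k hk
    refine ⟨fun g hg => ?_, hinv⟩
    have h0 : ∑ g ∈ Finset.univ.filter (fun g => g ∉ N), ‖χ g‖ ^ 2 = 0 := by
      rw [hN2 hk, hG, hcard, ← hk2, Nat.cast_pow] at hsplit
      linarith
    have h1 := (Finset.sum_eq_zero_iff_of_nonneg fun g _ => sq_nonneg ‖χ g‖).mp h0 g (by simp [hg])
    exact norm_eq_zero.mp (pow_eq_zero_iff two_ne_zero |>.mp h1)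
  · rintro ⟨hvan, hinv⟩
    refine ⟨e, hres hinv, ?_⟩
    have h0 : ∑ g ∈ Finset.univ.filter (fun g => g ∉ N), ‖χ g‖ ^ 2 = 0 :=
      Finset.sum_eq_zero fun g hg => by simp [hvan g (Finset.mem_filter.mp hg).2]
    rw [hN2 (hres hinv), hG, hcard, h0, add_zero] at hsplit
    exact_mod_cast (mul_left_cancel₀ hN0 hsplit).symm
  · rintro ⟨k, hk, hk2⟩ g n
    obtain ⟨rfl, hinv⟩ := hinvA k hk
    refine ⟨hinv g n, fun ψ hψ hne => ?_⟩
    obtain ⟨c, hc⟩ := Cfsg.Lib.Chars.IsCharacter.exists_decomp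
      (Cfsg.Lib.Chars.IsCharacter.indFun (G := G) (Cfsg.Lib.Chars.isCharacter_of_irr hϑ))
    simp only [← Nat.cast_smul_eq_nsmul ℂ] at hc
    have hcv : ∀ t : Cfsg.IrrCharacter G,
        Cfsg.classInner (Cfsg.indFun N ϑ) (t : G → ℂ) = (c t : ℂ) := fun t => by
      rw [hc, Cfsg.Lib.Chars.classInner_irrSum (fun t => (c t : ℂ)) t]
    have hnorm := Cfsg.Lib.Chars.classInner_indFun_self_of_invariant N hϑ
      (fun g => funext fun n => hinv g n)
    rw [hc, Cfsg.Lib.Chars.classInner_self_decomp (fun t => (c t : ℂ))] at hnorm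
    simp only [Complex.conj_natCast] at hnorm
    have hsum : ∑ t, c t * c t = k * k := by
      rw [← pow_two k, hk2]; exact_mod_cast hnorm
    have hχk : c ⟨χ, hχ⟩ = k := by
      have := hcv ⟨χ, hχ⟩
      rw [Cfsg.Lib.Chars.frobenius_reciprocity N ϑ hχcl, ← Cfsg.Lib.Chars.classInner_conj_symm,
        he, Complex.conj_natCast] at this
      exact_mod_cast this.symm
    by_contra hψχ
    rw [hcv ⟨ψ, hψ⟩] at hne
    have h2 := Finset.add_le_sum (f := fun t : Cfsg.IrrCharacter G => c t * c t)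
      (fun _ _ => Nat.zero_le _) (Finset.mem_univ ⟨ψ, hψ⟩) (Finset.mem_univ ⟨χ, hχ⟩)
      (fun h => hψχ (congrArg Subtype.val h))
    rw [hsum, hχk] at h2
    have h3 : c ⟨ψ, hψ⟩ * c ⟨ψ, hψ⟩ = 0 := by omega
    exact hne (by rw [mul_self_eq_zero.mp h3, Nat.cast_zero])
  · intro h
    have hinv := fun g n => (h g n).1
    have hsingle := (h 1 1).2
    refine ⟨e, hres hinv, ?_⟩
    have hnorm := Cfsg.Lib.Chars.classInner_indFun_self_of_invariant N hϑ
      (fun g => funext fun n => hinv g n)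
    have hInd : Cfsg.indFun N ϑ = (e : ℂ) • χ := by
      refine Cfsg.Lib.Chars.classFunction_ext (Cfsg.Lib.Chars.isClassFunction_indFun N ϑ)
        (fun a b => by simp [hχcl a b]) fun ψ hψ => ?_
      rw [Cfsg.Lib.Chars.classInner_smul_left]
      by_cases hψχ : ψ = χ
      · subst hψχ
        rw [Cfsg.Lib.Chars.frobenius_reciprocity N ϑ hχcl, ← Cfsg.Lib.Chars.classInner_conj_symm,
          he, Complex.conj_natCast, Cfsg.Lib.Chars.classInner_self_irr hψ, mul_one]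
      · rw [Cfsg.Lib.Chars.classInner_irrChar hχ hψ, if_neg (Ne.symm hψχ), mul_zero]
        by_contra hc
        exact hψχ (hsingle ψ hψ hc)
    rw [hInd, Cfsg.Lib.Chars.classInner_smul_left, Cfsg.Lib.Chars.classInner_smul_right,
      Cfsg.Lib.Chars.classInner_self_irr hχ, Complex.conj_natCast, mul_one] at hnorm
    rw [pow_two]
    exact_mod_cast hnorm

end Cfsg.Agent.S0900
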