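import Cfsg.Statements.S0901
import Cfsg.Agent.Blocks.Roots
-- import your own Cfsg.Agent.* helpers here

set_option autoImplicit false
open Cfsg

namespace Cfsg.Agent.S0901

set_option linter.unusedSectionVars false

open Cfsg.Lib.Blocks

/-- Let M be a maximal ideal of the ring of algebraic integers containing the prime p, and let U be the set of complex roots of unity of order prime to p. Then reduction modulo M is injective on U, and every algebraic integer not in M is congruent modulo M to an element of U (so U maps bijectively onto the nonzero residues). -/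
theorem result (p : ℕ) [Fact p.Prime] (M : Ideal Cfsg.AlgInt) (hM : Cfsg.IsPModular p M) : (∀ ε₁ ε₂ : Cfsg.AlgInt, (∃ m : ℕ, ¬ p ∣ m ∧ (ε₁ : ℂ) ^ m = 1) → (∃ m : ℕ, ¬ p ∣ m ∧ (ε₂ : ℂ) ^ m = 1) → ε₁ - ε₂ ∈ M → ε₁ = ε₂) ∧ (∀ a : Cfsg.AlgInt, a ∉ M → ∃ ε : Cfsg.AlgInt, (∃ m : ℕ, ¬ p ∣ m ∧ (ε : ℂ) ^ m = 1) ∧ a - ε ∈ M) := by
  refine ⟨?_, fun a ha => Cfsg.Lib.Blocks.exists_root_of_unity_sub_mem hM ha⟩
  rintro ε₁ ε₂ ⟨m, hm, h₁⟩ ⟨k, hk, h₂⟩ hmem
  have hk0 : k ≠ 0 := fun e => hk (e ▸ dvd_zero p)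
  have hu := isUnitAt_of_pow_eq_one hM hk0 h₂
  have hs : Small M ((ε₁ : ℂ) / (ε₂ : ℂ) - 1) := by
    have := ((mem_M_iff_small hM _).1 hmem).mul_mem hu.inv.mem_place
    have hne := hu.ne_zero
    rw [show ((ε₁ : ℂ) / (ε₂ : ℂ) - 1) = ((ε₁ - ε₂ : AlgInt) : ℂ) * (ε₂ : ℂ)⁻¹ by
      push_cast; field_simp]
    exact this
  have h := eq_one_of_small_sub_one hM (m := m * k)
    (fun h => ((Fact.out (p := p.Prime)).dvd_mul.1 h).elim hm hk)
    (by rw [div_pow, pow_mul, h₁, one_pow, mul_comm, pow_mul, h₂, one_pow, div_one]) hs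
  exact Subtype.ext ((div_eq_one_iff_eq hu.ne_zero).1 h)

end Cfsg.Agent.S0901
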