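import Cfsg.Statements.S0903
-- import your own Cfsg.Agent.* helpers here

set_option autoImplicit false
open Cfsg

namespace Cfsg.Agent.S0903

set_option linter.unusedSectionVars false

/-- Let P be a p-subgroup of the finite group G, let c centralize P and let g, h ∈ G. The number of pairs (x, y) with x conjugate to g, y conjugate to h and x * y = c is congruent modulo p to the number of such pairs in which x and y both centralize P. (This is why the Brauer map on class sums is multiplicative.) -/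
theorem result {G : Type*} [Group G] [Finite G] (p : ℕ) [Fact p.Prime] (P : Subgroup G) (hP : IsPGroup p P) (c : G) (hc : c ∈ Subgroup.centralizer (P : Set G)) (g h : G) : Nat.card {xy : G × G // IsConj g xy.1 ∧ IsConj h xy.2 ∧ xy.1 * xy.2 = c} ≡ Nat.card {xy : G × G // IsConj g xy.1 ∧ IsConj h xy.2 ∧ xy.1 * xy.2 = c ∧ xy.1 ∈ Subgroup.centralizer (P : Set G) ∧ xy.2 ∈ Subgroup.centralizer (P : Set G)} [MOD p] := by
  letI act : MulAction P {xy : G × G // IsConj g xy.1 ∧ IsConj h xy.2 ∧ xy.1 * xy.2 = c} :=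
    { smul := fun k xy => ⟨((k : G) * xy.1.1 * (k : G)⁻¹, (k : G) * xy.1.2 * (k : G)⁻¹),
        xy.2.1.trans (isConj_iff.2 ⟨k, rfl⟩), xy.2.2.1.trans (isConj_iff.2 ⟨k, rfl⟩), by
          have hk := Subgroup.mem_centralizer_iff.1 hc (k : G) k.2
          calc (k : G) * xy.1.1 * (k : G)⁻¹ * ((k : G) * xy.1.2 * (k : G)⁻¹)
              = (k : G) * (xy.1.1 * xy.1.2) * (k : G)⁻¹ := by group
            _ = c := by rw [xy.2.2.2, hk]; group⟩
      one_smul := fun xy => by
        apply Subtype.ext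
        show (((1 : P) : G) * xy.1.1 * ((1 : P) : G)⁻¹, ((1 : P) : G) * xy.1.2 * ((1 : P) : G)⁻¹) = _
        simp
      mul_smul := fun k l xy => by
        apply Subtype.ext
        show (((k * l : P) : G) * xy.1.1 * ((k * l : P) : G)⁻¹,
            ((k * l : P) : G) * xy.1.2 * ((k * l : P) : G)⁻¹) =
          ((k : G) * ((l : G) * xy.1.1 * (l : G)⁻¹) * (k : G)⁻¹,
            (k : G) * ((l : G) * xy.1.2 * (l : G)⁻¹) * (k : G)⁻¹)
        simp [mul_assoc] }
  refine (hP.card_modEq_card_fixedPoints _).trans ?_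
  rw [Nat.card_congr (Equiv.mk
    (fun x : MulAction.fixedPoints P
        {xy : G × G // IsConj g xy.1 ∧ IsConj h xy.2 ∧ xy.1 * xy.2 = c} =>
      (⟨x.1.1, x.1.2.1, x.1.2.2.1, x.1.2.2.2,
        Subgroup.mem_centralizer_iff.2 fun k hk => by
          have h' : k * x.1.1.1 * k⁻¹ = x.1.1.1 := congrArg (fun z => z.1.1) (x.2 ⟨k, hk⟩)
          calc k * x.1.1.1 = (k * x.1.1.1 * k⁻¹) * k := by group
            _ = x.1.1.1 * k := by rw [h'],
        Subgroup.mem_centralizer_iff.2 fun k hk => by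
          have h' : k * x.1.1.2 * k⁻¹ = x.1.1.2 := congrArg (fun z => z.1.2) (x.2 ⟨k, hk⟩)
          calc k * x.1.1.2 = (k * x.1.1.2 * k⁻¹) * k := by group
            _ = x.1.1.2 * k := by rw [h']⟩ :
        {xy : G × G // IsConj g xy.1 ∧ IsConj h xy.2 ∧ xy.1 * xy.2 = c ∧
          xy.1 ∈ Subgroup.centralizer (P : Set G) ∧ xy.2 ∈ Subgroup.centralizer (P : Set G)}))
    (fun x => ⟨⟨x.1, x.2.1, x.2.2.1, x.2.2.2.1⟩, fun k => by
      apply Subtype.ext
      show ((k : G) * x.1.1 * (k : G)⁻¹, (k : G) * x.1.2 * (k : G)⁻¹) = x.1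
      rw [Subgroup.mem_centralizer_iff.1 x.2.2.2.2.1 (k : G) k.2,
        Subgroup.mem_centralizer_iff.1 x.2.2.2.2.2 (k : G) k.2]
      simp⟩)
    (fun _ => rfl) (fun _ => rfl))]

end Cfsg.Agent.S0903
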