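import Cfsg.Statements.S0911
import Cfsg.Agent.Blocks.Defect2
import Cfsg.Agent.Blocks.Sub
-- import your own Cfsg.Agent.* helpers here

set_option autoImplicit false
open Cfsg

namespace Cfsg.Agent.S0911

set_option linter.unusedSectionVars false

open Cfsg.Lib.Blocks Cfsg.Lib.Chars

/-- The min–max Theorem for defect classes. Let B be a block of the finite group G relative to a maximal ideal M of the algebraic integers containing the prime p, let g represent a defect class of B and let D be a Sylow p-subgroup of the centralizer of g (viewed in G). For any h: (a) if the idempotent coefficient of B at h is a local integer outside the local ideal, then some conjugate of D contains a Sylow p-subgroup of the centralizer of h; (b) if the central character of some member of B at h is outside the local ideal, then some conjugate of D is contained in a Sylow p-subgroup of the centralizer of h. -/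
theorem result {G : Type*} [Group G] [Finite G] (p : ℕ) [Fact p.Prime] (M : Ideal Cfsg.AlgInt) (hM : Cfsg.IsPModular p M) (B : Set (Cfsg.IrrCharacter G)) (hB : Cfsg.IsPBlock M B) (g : G) (hg : Cfsg.IsDefectClass M B g) (D : Sylow p (Subgroup.centralizer ({g} : Set G))) (h : G) : (Cfsg.MemLocalRing M (Cfsg.blockCoeff B h) → ¬ Cfsg.MemLocalIdeal M (Cfsg.blockCoeff B h) → ∃ (x : G) (Q : Sylow p (Subgroup.centralizer ({h} : Set G))), (Q : Subgroup (Subgroup.centralizer ({h} : Set G))).map (Subgroup.centralizer ({h} : Set G)).subtype ≤ ((D : Subgroup (Subgroup.centralizer ({g} : Set G))).map (Subgroup.centralizer ({g} : Set G)).subtype).map (MulAut.conj x).toMonoidHom) ∧ ((∃ χ ∈ B, ¬ Cfsg.MemLocalIdeal M (Cfsg.centralChar (χ : G → ℂ) h)) → ∃ (x : G) (Q : Sylow p (Subgroup.centralizer ({h} : Set G))), ((D : Subgroup (Subgroup.centralizer ({g} : Set G))).map (Subgroup.centralizer ({g} : Set G)).subtype).map (MulAut.conj x).toMonoidHom ≤ (Q : Subgroup (Subgroup.centralizer ({h} : Set G))).map (Subgroup.centralizer ({h} : Set G)).subtype) := by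
  classical
  have := Fintype.ofFinite G
  have hDD : Cfsg.IsDefectGroup p M B (centSyl D) := ⟨g, hg, D, rfl⟩
  refine ⟨fun _ hh => ?_, fun hh => ?_⟩
  · obtain ⟨a, ha⟩ := exists_le_conj_defectGroup hM hB hDD (isPGroup_centSyl (default : Sylow p _))
      (mem_centralizer_centSyl _) fun h => hh (memLocalIdeal_of_small hM (isAlgebraic_blockCoeff B _) h)
    exact ⟨a, default, ha⟩
  · obtain ⟨χ, hχ, hc⟩ := hh
    obtain ⟨t, ht, htD⟩ := exists_conj_mem_centralizer_defectGroup hM hB hDD hχ
      fun h' => hc (memLocalIdeal_of_small hM (isAlgebraic_centralChar χ h) h')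
    obtain ⟨a, rfl⟩ := isConj_iff.1 ht
    have h1 := conj_le_centralizer htD a⁻¹
    rw [show a⁻¹ * (a * h * a⁻¹) * a⁻¹⁻¹ = h by group] at h1
    obtain ⟨Q, hQ⟩ := exists_sylow_ge ((isPGroup_centSyl D).map (MulAut.conj a⁻¹).toMonoidHom) h1
    exact ⟨a⁻¹, Q, hQ⟩

end Cfsg.Agent.S0911
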