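import Cfsg.Statements.S0912
import Cfsg.Agent.Blocks.Normal
import Cfsg.Agent.Components.Cores
-- import your own Cfsg.Agent.* helpers here

set_option autoImplicit false
open Cfsg

namespace Cfsg.Agent.S0912

set_option linter.unusedSectionVars false

open Cfsg.Lib.Blocks

/-- Let B be a block of the finite group G relative to a maximal ideal M of the algebraic integers containing the prime p. Every defect group of B contains the largest normal p-subgroup O_p(G). -/
theorem result {G : Type*} [Group G] [Finite G] (p : ℕ) [Fact p.Prime] (M : Ideal Cfsg.AlgInt) (hM : Cfsg.IsPModular p M) (B : Set (Cfsg.IrrCharacter G)) (hB : Cfsg.IsPBlock M B) (D : Subgroup G) (hD : Cfsg.IsDefectGroup p M B D) : Cfsg.pCore p G ≤ D := by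
  classical
  letI := Fintype.ofFinite G
  obtain ⟨g, hg, P, rfl⟩ := hD
  have hgB := ((isDefectClass_iff hM hB g).1 hg).1
  refine sSup_le fun N hN => ?_
  obtain ⟨hNn, hNp⟩ := hN
  haveI := hNn
  have hgC : g ∈ Subgroup.centralizer (N : Set G) := by_contra fun h => hgB (by
    rw [blockCoeff_eq_zero_of_not_mem_centralizer hM hNp hB h]; exact small_zero)
  have hle : N ≤ Subgroup.centralizer ({g} : Set G) := fun y hy =>
    Subgroup.mem_centralizer_singleton_iff.2 ((Subgroup.mem_centralizer_iff.1 hgC) y hy)
  set N' : Subgroup (Subgroup.centralizer ({g} : Set G)) := N.subgroupOf _ with hN'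
  haveI : N'.Normal := by rw [hN']; exact hNn.subgroupOf _
  have h1 : N' ≤ (P : Subgroup _) := by
    obtain ⟨Q, hQ⟩ := (hNp.comap_subtype (K := Subgroup.centralizer ({g} : Set G))).exists_le_sylow
    obtain ⟨c, rfl⟩ := MulAction.exists_smul_eq (Subgroup.centralizer ({g} : Set G)) Q P
    intro y hy
    refine ⟨c⁻¹ * y * c, hQ ?_, ?_⟩
    · have := Subgroup.Normal.conj_mem ‹N'.Normal› y hy c⁻¹
      simpa using this
    · simp [mul_assoc]
  intro y hy
  exact ⟨⟨y, hle hy⟩, h1 hy, rfl⟩

end Cfsg.Agent.S0912
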