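import Cfsg.Statements.S0914
import Cfsg.Agent.Blocks.Projective
-- import your own Cfsg.Agent.* helpers here

set_option autoImplicit false
open Cfsg

namespace Cfsg.Agent.S0914

set_option linter.unusedSectionVars false

open Cfsg.Lib.Blocks Cfsg.Lib.Chars

/-- Let χ be an irreducible character of the finite group G, p a prime and M a maximal ideal of the algebraic integers containing p. Then p does not divide the integer (Nat.card G) / χ(1) if and only if the block of χ relative to M consists of χ alone. -/
theorem result {G : Type*} [Group G] [Finite G] (p : ℕ) [Fact p.Prime] (M : Ideal Cfsg.AlgInt) (hM : Cfsg.IsPModular p M) (χ : Cfsg.IrrCharacter G) : ¬ p ∣ Nat.card G / Cfsg.charDegree (χ : G → ℂ) ↔ Cfsg.blockOf M (χ : G → ℂ) = {χ} := by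
  classical
  letI := Fintype.ofFinite G
  have hB : IsPBlock M (blockOf M (χ : G → ℂ)) := isPBlock_blockOf χ
  have hχB := mem_blockOf_self hM χ
  have hd0 : Cfsg.charDegree (χ : G → ℂ) ≠ 0 := (deg_irr_pos χ).ne'
  have hdvd : Cfsg.charDegree (χ : G → ℂ) ∣ Nat.card G := IsIrrCharacter.deg_dvd χ.2
  have hq0 : Nat.card G / Cfsg.charDegree (χ : G → ℂ) ≠ 0 :=
    (Nat.div_pos (Nat.le_of_dvd Nat.card_pos hdvd) (deg_irr_pos χ)).ne'
  have hkey : ¬ p ∣ Nat.card G / Cfsg.charDegree (χ : G → ℂ) ↔
      (Nat.card G).factorization p = (Cfsg.charDegree (χ : G → ℂ)).factorization p := by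
    have hf : (Nat.card G / Cfsg.charDegree (χ : G → ℂ)).factorization p =
        (Nat.card G).factorization p - (Cfsg.charDegree (χ : G → ℂ)).factorization p := by
      rw [Nat.factorization_div hdvd, Finsupp.tsub_apply]
    have hle := (Nat.factorization_le_iff_dvd hd0 Nat.card_pos.ne').2 hdvd p
    constructor
    · intro h
      rw [Nat.factorization_eq_zero_of_not_dvd h] at hf
      omega
    · intro h hd
      have := hM.1.factorization_pos_of_dvd hq0 hd
      omega
  rw [hkey]
  obtain ⟨g, hg⟩ := exists_defectClass hM hB
  constructor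
  · intro h
    have h0 : blockDefect p (blockOf M (χ : G → ℂ)) = 0 := by
      rw [blockDefect_eq hM hB hg]
      have h1 := (degree_bounds hM hB hg).1
      obtain ⟨h2, ψ, hψ, hψd⟩ := degree_bounds hM hB hg
      by_contra hne
      have e1 := congrArg (fun n : ℕ => n.factorization p)
        (Subgroup.card_mul_index (Subgroup.centralizer ({g} : Set G)))
      simp only [Nat.factorization_mul Nat.card_pos.ne' Subgroup.index_ne_zero_of_finite,
        Finsupp.add_apply] at e1
      have hc := defect_le_of_centralChar hM hB hχB (g := 1) ?_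
      · rw [blockDefect_eq hM hB hg] at hc
        -- the degree of a height zero character has the least exponent
        rw [Cfsg.charDegree] at h
        have hge : blockHeight p (blockOf M (χ : G → ℂ)) (χ : G → ℂ) ≤
            blockDefect p (blockOf M (χ : G → ℂ)) - 0 := by
          rw [blockHeight_eq hM hB hg, blockDefect_eq hM hB hg]
          change (deg (χ : G → ℂ)).factorization p - _ ≤ _
          change _ = (deg (χ : G → ℂ)).factorization p at h
          omega
        by_cases hz : blockHeight p (blockOf M (χ : G → ℂ)) (χ : G → ℂ) = 0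
        · rw [blockHeight_eq hM hB hg] at hz
          change _ = (deg (χ : G → ℂ)).factorization p at h
          omega
        · have h5 := height_add_two_le hM hB hχB hz
          rw [blockHeight_eq hM hB hg, blockDefect_eq hM hB hg] at h5
          change _ = (deg (χ : G → ℂ)).factorization p at h
          omega
      · simp only [centralChar, show Subgroup.centralizer ({(1 : G)} : Set G) = ⊤ from
          eq_top_iff.2 fun a _ => by simp [Subgroup.mem_centralizer_singleton_iff],
          Subgroup.index_top, Nat.cast_one, one_mul,
          div_self (IsIrrCharacter.apply_one_ne_zero χ.2)]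
        exact not_small_one
    have h1 := card_eq_one_of_defect_zero hM hB h0
    obtain ⟨hs, ⟨z⟩⟩ := Nat.card_eq_one_iff_unique.1 h1
    ext ψ
    exact ⟨fun hψ => congrArg Subtype.val (hs.allEq ⟨ψ, hψ⟩ ⟨χ, hχB⟩), fun hψ => hψ ▸ hχB⟩
  · intro h
    have h1 : Nat.card (blockOf M (χ : G → ℂ)) = 1 := by rw [h]; simp
    have hl1 := one_le_blockRank (p := p) hM hB
    have hl2 := blockRank_le_card (p := p) (blockOf M (χ : G → ℂ))
    have h0 := defect_zero_of_rank_eq hM hB (by omega)
    have h2 := (degree_bounds hM hB hg).1 χ hχB
    have e1 := congrArg (fun n : ℕ => n.factorization p)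
      (Subgroup.card_mul_index (Subgroup.centralizer ({g} : Set G)))
    simp only [Nat.factorization_mul Nat.card_pos.ne' Subgroup.index_ne_zero_of_finite,
      Finsupp.add_apply] at e1
    rw [blockDefect_eq hM hB hg] at h0
    have hle := (Nat.factorization_le_iff_dvd hd0 Nat.card_pos.ne').2 hdvd p
    change _ ≤ (deg (χ : G → ℂ)).factorization p at h2
    change _ = (deg (χ : G → ℂ)).factorization p
    change (deg (χ : G → ℂ)).factorization p ≤ _ at hle
    omega

end Cfsg.Agent.S0914
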