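import Cfsg.Statements.S0915
import Cfsg.Agent.Blocks.FongFullDefect
import Cfsg.Agent.GaschutzYen.Basic
-- import your own Cfsg.Agent.* helpers here

set_option autoImplicit false
open Cfsg

namespace Cfsg.Agent.S0915

set_option linter.unusedSectionVars false

open Cfsg.Lib.Blocks Cfsg.Lib.Chars

/-- Let G be a finite p-solvable group with trivial largest normal subgroup of order prime to p. Then any two irreducible characters of G lie in the same block relative to every maximal ideal M of the algebraic integers containing p: G has a single p-block. -/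
theorem result {G : Type*} [Group G] [Finite G] (p : ℕ) [Fact p.Prime] (M : Ideal Cfsg.AlgInt) (hM : Cfsg.IsPModular p M) (hsolv : Cfsg.IsPSolvable p G) (hcore : Cfsg.pPrimeCore p G = ⊥) (χ ψ : Cfsg.IrrCharacter G) : Cfsg.SameBlock M (χ : G → ℂ) (ψ : G → ℂ) := by
  classical
  letI := Fintype.ofFinite G
  haveI : (Cfsg.pPrimeCore p G).Normal := Cfsg.Lib.Components.pPrimeCore_normal' p
  set N := Cfsg.pPrimeCore p G with hN
  letI := Fintype.ofFinite N
  have hfix : ∀ g : G, cjIrr N g (principal N) = principal N := fun g =>
    Subtype.ext (by rw [cjIrr_val]; rfl)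
  obtain ⟨B, hB, hiff, -⟩ := pSolvable_block_over hM hsolv N hN (principal N) hfix
    (Cfsg.Lib.GaschutzYen.isPSolvable_quotient N hsolv)
  have hall : ∀ χ : Cfsg.IrrCharacter G, χ ∈ B := by
    intro χ
    refine (hiff χ).2 ?_
    haveI : Subsingleton N := by
      rw [hcore]; infer_instance
    rw [Cfsg.classInner, Fintype.sum_subsingleton _ (1 : N)]
    refine mul_ne_zero (inv_ne_zero (Nat.cast_ne_zero.2 Nat.card_pos.ne')) ?_
    rw [show ((principal N : Cfsg.IrrCharacter N) : N → ℂ) 1 = 1 from rfl, map_one, mul_one,
      OneMemClass.coe_one]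
    exact IsIrrCharacter.apply_one_ne_zero χ.2
  exact IsPBlock.sameBlock hM hB (hall χ) (hall ψ)

end Cfsg.Agent.S0915
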