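import Cfsg.Statements.S0916
import Cfsg.Agent.Transfer.Basic
-- import your own Cfsg.Agent.* helpers here

set_option autoImplicit false
open Cfsg

namespace Cfsg.Agent.S0916

set_option linter.unusedSectionVars false

/-- Let P be a p-subgroup of the finite group G, C its centralizer and N its normalizer. Say that a conjugacy class (of G, or of N) has defect group P when P is a Sylow p-subgroup of the centralizer (in G, respectively in N) of some element of the class. Then: (i) if the class of g in G has defect group P, the elements of that class lying in C form a single N-class, again with defect group P; (ii) every N-class with defect group P arises this way from exactly one G-class with defect group P. -/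
theorem result {G : Type*} [Group G] [Finite G] (p : ℕ) [Fact p.Prime] (P : Subgroup G) (hP : IsPGroup p P) : (∀ g : G, (∃ S : Sylow p (Subgroup.centralizer ({g} : Set G)), (S : Subgroup (Subgroup.centralizer ({g} : Set G))).map (Subgroup.centralizer ({g} : Set G)).subtype = P) → (∃ c : G, IsConj g c ∧ c ∈ Subgroup.centralizer (P : Set G)) ∧ (∀ c₁ c₂ : G, IsConj g c₁ → IsConj g c₂ → c₁ ∈ Subgroup.centralizer (P : Set G) → c₂ ∈ Subgroup.centralizer (P : Set G) → ∃ n ∈ Subgroup.normalizer (P : Set G), n * c₁ * n⁻¹ = c₂)) ∧ (∀ c : G, c ∈ Subgroup.centralizer (P : Set G) → (∃ S : Sylow p (Subgroup.centralizer ({c} : Set G) ⊓ Subgroup.normalizer (P : Set G) : Subgroup G), (S : Subgroup ↥(Subgroup.centralizer ({c} : Set G) ⊓ Subgroup.normalizer (P : Set G))).map (Subgroup.centralizer ({c} : Set G) ⊓ Subgroup.normalizer (P : Set G)).subtype = P) → ∃ S : Sylow p (Subgroup.centralizer ({c} : Set G)), (S : Subgroup (Subgroup.centralizer ({c} : Set G))).map (Subgroup.centralizer ({c} : Set G)).subtype = P) := by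
  classical
  refine ⟨fun g hg => ?_, fun c hc hS => ?_⟩
  · obtain ⟨S, hS⟩ := hg
    have hPg : P ≤ Subgroup.centralizer ({g} : Set G) := hS ▸ Subgroup.map_subtype_le _
    refine ⟨⟨g, IsConj.refl g, fun q hq => (Subgroup.mem_centralizer_singleton_iff.1 (hPg hq))⟩,
      fun c₁ c₂ h1 h2 hc1 hc2 => ?_⟩
    have hle : ∀ c : G, c ∈ Subgroup.centralizer (P : Set G) →
        P ≤ Subgroup.centralizer ({c} : Set G) := fun c hc q hq =>
      Subgroup.mem_centralizer_singleton_iff.2 (hc q hq)
    obtain ⟨y, hy⟩ := isConj_iff.1 (h1.symm.trans h2)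
    obtain ⟨d, hd⟩ := isConj_iff.1 h2
    have hPc : Nat.card P = Nat.card S := by
      rw [← hS, Subgroup.card_map_of_injective (Subgroup.subtype_injective _)]
    have hSy : ∀ (Q : Subgroup G), Q ≤ Subgroup.centralizer ({c₂} : Set G) →
        Nat.card Q = Nat.card P → IsPGroup p Q →
        ∃ T : Sylow p (Subgroup.centralizer ({c₂} : Set G)),
          (T : Subgroup (Subgroup.centralizer ({c₂} : Set G))) =
            Q.subgroupOf (Subgroup.centralizer ({c₂} : Set G)) := by
      intro Q hQ hQc hQp
      obtain ⟨T, hT⟩ := (hQp.comap_subtype (K := Subgroup.centralizer ({c₂} : Set G))).exists_le_sylow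
      refine ⟨T, (Subgroup.eq_of_le_of_card_ge hT ?_).symm⟩
      show _ ≤ Nat.card (Q.subgroupOf (Subgroup.centralizer ({c₂} : Set G)))
      rw [Nat.card_congr (Subgroup.subgroupOfEquivOfLe hQ).toEquiv, hQc, hPc,
        Sylow.card_eq_multiplicity, Sylow.card_eq_multiplicity]
      refine le_of_eq (congrArg (fun n : ℕ => p ^ n.factorization p) ?_)
      refine Nat.card_congr
        { toFun := fun a => ⟨d⁻¹ * (a : G) * d, ?_⟩
          invFun := fun a => ⟨d * (a : G) * d⁻¹, ?_⟩
          left_inv := fun a => Subtype.ext (by simp [mul_assoc])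
          right_inv := fun a => Subtype.ext (by simp [mul_assoc]) }
      · have e : (a : G) * (d * g * d⁻¹) = (d * g * d⁻¹) * (a : G) := by
          simp only [hd]; exact Subgroup.mem_centralizer_singleton_iff.1 a.2
        refine Subgroup.mem_centralizer_singleton_iff.2 ?_
        have h3 := congrArg (fun v => d⁻¹ * v * d) e
        simpa [mul_assoc] using h3
      · have := Subgroup.mem_centralizer_singleton_iff.1 a.2
        refine Subgroup.mem_centralizer_singleton_iff.2 ?_
        rw [← hd]
        have h3 := congrArg (fun v => d * v * d⁻¹) this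
        simpa [mul_assoc] using h3
    obtain ⟨T₁, hT₁⟩ := hSy P (hle c₂ hc2) rfl hP
    obtain ⟨T₂, hT₂⟩ := hSy (P.map (MulAut.conj y).toMonoidHom) (by
        rintro _ ⟨q, hq, rfl⟩
        have h3 := congrArg (fun v => y * v * y⁻¹)
          (Subgroup.mem_centralizer_singleton_iff.1 (hle c₁ hc1 hq))
        refine Subgroup.mem_centralizer_singleton_iff.2 ?_
        rw [← hy]
        simpa [mul_assoc] using h3)
      (Subgroup.card_map_of_injective (MulAut.conj y).injective) (hP.map _)
    obtain ⟨z, hz⟩ := MulAction.exists_smul_eq (Subgroup.centralizer ({c₂} : Set G)) T₂ T₁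
    refine ⟨(z : G) * y, Cfsg.Lib.Transfer.map_conj_eq_self_iff.1 ?_, ?_⟩
    · refine Subgroup.eq_of_le_of_card_ge ?_ (Cfsg.Lib.Transfer.card_map_conj P _).ge
      rintro _ ⟨q, hq, rfl⟩
      have h4 : (y * q * y⁻¹) ∈ Subgroup.centralizer ({c₂} : Set G) := by
        have h3 := congrArg (fun v => y * v * y⁻¹)
          (Subgroup.mem_centralizer_singleton_iff.1 (hle c₁ hc1 hq))
        refine Subgroup.mem_centralizer_singleton_iff.2 ?_
        rw [← hy]
        simpa [mul_assoc] using h3
      have h5 : (⟨y * q * y⁻¹, h4⟩ : Subgroup.centralizer ({c₂} : Set G)) ∈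
          (T₂ : Subgroup (Subgroup.centralizer ({c₂} : Set G))) := by
        rw [hT₂, Subgroup.mem_subgroupOf]
        exact ⟨q, hq, by simp⟩
      have h6 := Subgroup.smul_mem_pointwise_smul _ (MulAut.conj z) _ h5
      rw [← Sylow.coe_subgroup_smul] at h6
      have h7 : MulAut.conj z • (⟨y * q * y⁻¹, h4⟩ : Subgroup.centralizer ({c₂} : Set G)) ∈
          (T₁ : Subgroup (Subgroup.centralizer ({c₂} : Set G))) := hz ▸ h6
      rw [hT₁, Subgroup.mem_subgroupOf] at h7
      simpa [mul_assoc] using h7
    · have h8 := Subgroup.mem_centralizer_singleton_iff.1 z.2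
      calc (z : G) * y * c₁ * ((z : G) * y)⁻¹ = (z : G) * (y * c₁ * y⁻¹) * (z : G)⁻¹ := by group
        _ = c₂ := by rw [hy, h8, mul_assoc, mul_inv_cancel, mul_one]
  · obtain ⟨S, hS⟩ := hS
    have hPC : P ≤ (Subgroup.centralizer ({c} : Set G)) := fun q hq => Subgroup.mem_centralizer_singleton_iff.2 (hc q hq)
    obtain ⟨T, hT⟩ := (hP.comap_subtype (K := (Subgroup.centralizer ({c} : Set G)))).exists_le_sylow
    refine ⟨T, ?_⟩
    have hle : P.subgroupOf (Subgroup.centralizer ({c} : Set G)) = (T : Subgroup (Subgroup.centralizer ({c} : Set G))) := by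
      by_contra hne
      have hlt : P.subgroupOf (Subgroup.centralizer ({c} : Set G)) < (T : Subgroup (Subgroup.centralizer ({c} : Set G))) := lt_of_le_of_ne hT hne
      haveI : Finite (T : Subgroup (Subgroup.centralizer ({c} : Set G))) := inferInstance
      haveI : Group.IsNilpotent (T : Subgroup (Subgroup.centralizer ({c} : Set G))) := IsPGroup.isNilpotent (p := p) T.2
      have hN := Group.normalizerCondition_of_isNilpotent (G := (T : Subgroup (Subgroup.centralizer ({c} : Set G))))
        ((P.subgroupOf (Subgroup.centralizer ({c} : Set G))).subgroupOf (T : Subgroup (Subgroup.centralizer ({c} : Set G)))) (lt_top_iff_ne_top.2 fun h =>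
          hne (le_antisymm hT (Subgroup.subgroupOf_eq_top.1 h)))
      obtain ⟨t, htN, htP⟩ := SetLike.exists_of_lt hN
      have ht : ((t : (Subgroup.centralizer ({c} : Set G))) : G) ∈ Subgroup.normalizer (P : Set G) := by
        rw [Subgroup.mem_normalizer_iff]
        intro q
        constructor
        · intro hq
          have := (Subgroup.mem_normalizer_iff.1 htN ⟨⟨q, hPC hq⟩, hT hq⟩).1 hq
          exact this
        · intro hq
          have hq' : q ∈ (Subgroup.centralizer ({c} : Set G)) := by
            have := mul_mem (mul_mem (inv_mem (t : (Subgroup.centralizer ({c} : Set G))).2) (hPC hq)) (t : (Subgroup.centralizer ({c} : Set G))).2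
            simpa [mul_assoc] using this
          have hmem : (⟨q, hq'⟩ : (Subgroup.centralizer ({c} : Set G))) ∈ (T : Subgroup (Subgroup.centralizer ({c} : Set G))) := by
            have h9 : (t : (Subgroup.centralizer ({c} : Set G))) * ⟨q, hq'⟩ * (t : (Subgroup.centralizer ({c} : Set G)))⁻¹ ∈ (T : Subgroup (Subgroup.centralizer ({c} : Set G))) := hT (show ((t : (Subgroup.centralizer ({c} : Set G))) : G) * q * ((t : (Subgroup.centralizer ({c} : Set G))) : G)⁻¹ ∈ P from hq)
            have := mul_mem (mul_mem (inv_mem t.2) h9) t.2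
            simpa [mul_assoc] using this
          exact (Subgroup.mem_normalizer_iff.1 htN ⟨⟨q, hq'⟩, hmem⟩).2 hq
      let U : Subgroup G := (Subgroup.centralizer ({c} : Set G)) ⊓ Subgroup.normalizer (P : Set G)
      let f : Subgroup G := ((T : Subgroup (Subgroup.centralizer ({c} : Set G))).map (Subgroup.centralizer ({c} : Set G)).subtype) ⊓ U
      have hfP : IsPGroup p f := (T.2.map (Subgroup.centralizer ({c} : Set G)).subtype).to_le inf_le_left
      have hPf : P ≤ f := le_inf (fun q hq => ⟨⟨q, hPC hq⟩, hT hq, rfl⟩) (le_inf hPC Subgroup.le_normalizer)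
      have htf : ((t : (Subgroup.centralizer ({c} : Set G))) : G) ∈ f := ⟨⟨(t : (Subgroup.centralizer ({c} : Set G))), t.2, rfl⟩, (t : (Subgroup.centralizer ({c} : Set G))).2, ht⟩
      have hfU : f ≤ U := inf_le_right
      have hmax := S.3 (hfP.comap_subtype (K := U)) (by
        intro v hv
        exact hPf (hS.le ⟨v, hv, rfl⟩))
      apply htP
      rw [Subgroup.mem_subgroupOf, Subgroup.mem_subgroupOf]
      have h10 : (⟨((t : (Subgroup.centralizer ({c} : Set G))) : G), hfU htf⟩ : U) ∈ (S : Subgroup U) := hmax ▸ htf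
      exact hS.le ⟨⟨((t : (Subgroup.centralizer ({c} : Set G))) : G), hfU htf⟩, h10, rfl⟩
    rw [← hle, Subgroup.subgroupOf_map_subtype, inf_eq_left.2 hPC]

end Cfsg.Agent.S0916
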