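import Cfsg.Statements.S0920
import Cfsg.Agent.Blocks.FirstMain
-- import your own Cfsg.Agent.* helpers here

set_option autoImplicit false
open Cfsg

namespace Cfsg.Agent.S0920

set_option linter.unusedSectionVars false

open Cfsg.Lib.Blocks

/-- Brauer's First Main Theorem. Let D be a p-subgroup of the finite group G with normalizer N, and fix a maximal ideal M of the algebraic integers containing p. Then (i) every block b of N having D as a defect group induces some block B of G having D as a defect group; (ii) every block of G with defect group D is induced by exactly one block of N with defect group D. -/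
theorem result {G : Type*} [Group G] [Finite G] (p : ℕ) [Fact p.Prime] (M : Ideal Cfsg.AlgInt) (hM : Cfsg.IsPModular p M) (D : Subgroup G) (hD : IsPGroup p D) : (∀ b : Set (Cfsg.IrrCharacter (Subgroup.normalizer (D : Set G))), Cfsg.IsPBlock M b → Cfsg.IsDefectGroup p M b (D.subgroupOf (Subgroup.normalizer (D : Set G))) → ∃ B : Set (Cfsg.IrrCharacter G), Cfsg.IsPBlock M B ∧ Cfsg.IsDefectGroup p M B D ∧ Cfsg.IsInducedBlock M (Subgroup.normalizer (D : Set G)) b B) ∧ (∀ B : Set (Cfsg.IrrCharacter G), Cfsg.IsPBlock M B → Cfsg.IsDefectGroup p M B D → ∃! b : Set (Cfsg.IrrCharacter (Subgroup.normalizer (D : Set G))), Cfsg.IsPBlock M b ∧ Cfsg.IsDefectGroup p M b (D.subgroupOf (Subgroup.normalizer (D : Set G))) ∧ Cfsg.IsInducedBlock M (Subgroup.normalizer (D : Set G)) b B) := by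
  classical
  letI := Fintype.ofFinite G
  letI := Fintype.ofFinite (Subgroup.normalizer (D : Set G))
  have hCH : Subgroup.centralizer (D : Set G) ≤ Subgroup.normalizer (D : Set G) :=
    Subgroup.centralizer_le_normalizer _
  have ind : ∀ B : Set (Cfsg.IrrCharacter G), Cfsg.IsPBlock M B → Cfsg.IsDefectGroup p M B D →
      ∀ c : Set (Cfsg.IrrCharacter (Subgroup.normalizer (D : Set G))), Cfsg.IsPBlock M c →
        br D (red M (blockElem B)) = br D (bi M _ c) →
        Cfsg.IsInducedBlock M (Subgroup.normalizer (D : Set G)) c B := by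
    intro B hB hBD c hc hbr
    obtain ⟨e, hmax⟩ := exists_pair_of_defect hM hB hBD
    refine isInducedBlock_of_pair hM Subgroup.le_normalizer hCH hc ?_ hmax.1
    rw [← hbr]; exact ((isBrauerPairOf_iff_br hM B D e).1 hmax.1).2.2
  constructor
  · intro b hb hbD
    obtain ⟨B, hB, hBD, hbr, -⟩ := firstMain_up hM le_rfl hD hb hbD
    exact ⟨B, hB, hBD, ind B hB hBD b hb hbr⟩
  · intro B hB hBD
    obtain ⟨c, hc, hcD, hbr, huniq⟩ := firstMain_down hM le_rfl hB hBD
    refine ⟨c, ⟨hc, hcD, ind B hB hBD c hc hbr⟩, fun b h => ?_⟩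
    obtain ⟨B', hB', hBD', hbr', -⟩ := firstMain_up hM le_rfl hD h.1 h.2.1
    obtain rfl : B = B' := IsInducedBlock.unique hM h.2.2 (ind B' hB' hBD' b h.1 hbr')
    exact huniq b h.1 hbr'

end Cfsg.Agent.S0920
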