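import Cfsg.Statements.S0926
import Cfsg.Agent.Blocks.Defect2
import Cfsg.Agent.Blocks.Sub
-- import your own Cfsg.Agent.* helpers here

set_option autoImplicit false
open Cfsg

namespace Cfsg.Agent.S0926

set_option linter.unusedSectionVars false

open Cfsg.Lib.Blocks Cfsg.Lib.Chars

/-- Let B be a block of the finite group G with defect group D (relative to a maximal ideal M of the algebraic integers containing p), let χ ∈ B have height zero, and let x be a p-element. Then some conjugate of x lies in D if and only if χ does not vanish on the whole p-section of x (the elements whose p-part is conjugate to x). -/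
theorem result {G : Type*} [Group G] [Finite G] (p : ℕ) [Fact p.Prime] (M : Ideal Cfsg.AlgInt) (hM : Cfsg.IsPModular p M) (B : Set (Cfsg.IrrCharacter G)) (hB : Cfsg.IsPBlock M B) (D : Subgroup G) (hD : Cfsg.IsDefectGroup p M B D) (χ : Cfsg.IrrCharacter G) (hχ : χ ∈ B) (h0 : Cfsg.blockHeight p B (χ : G → ℂ) = 0) (x : G) (hx : ∃ k : ℕ, orderOf x = p ^ k) : (∃ g : G, g * x * g⁻¹ ∈ D) ↔ ∃ u : G, (∃ z : G, Cfsg.IsPPart p u z ∧ IsConj x z) ∧ (χ : G → ℂ) u ≠ 0 := by
  classical
  have := Fintype.ofFinite G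
  refine ⟨?_, ?_⟩
  · rintro ⟨a, ha⟩
    obtain ⟨g, hg, S, rfl⟩ := hD
    have hc : Commute (a * x * a⁻¹) g :=
      Subgroup.mem_centralizer_iff.1 (mem_centralizer_centSyl S) _ ha
    have hord : ∃ k : ℕ, orderOf (a * x * a⁻¹) = p ^ k :=
      exists_orderOf_eq_of_mem hM.1 (isPGroup_centSyl S) ha
    refine ⟨a * x * a⁻¹ * g, ⟨a * x * a⁻¹, isPPart_mul hc hord
      (not_dvd_orderOf_of_not_small hM hB ((isDefectClass_iff hM hB g).1 hg).1),
      isConj_iff.2 ⟨a, rfl⟩⟩, ?_⟩
    exact (isUnitAt_apply_mul_defectClass hM hB hg hχ h0 hc hord).ne_zero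
  · rintro ⟨u, ⟨z, hz, hxz⟩, hu⟩
    by_contra hno
    push Not at hno
    refine hu (apply_eq_zero_of_forall_not_mem hM hB hχ hz fun E hE hzE => ?_)
    obtain ⟨c, rfl⟩ := IsDefectGroup.exists_eq_conj hM hB hD hE
    obtain ⟨a, rfl⟩ := isConj_iff.1 hxz
    obtain ⟨d, hd, hde⟩ := hzE
    refine hno (c⁻¹ * a) ?_
    have : c * d * c⁻¹ = a * x * a⁻¹ := hde
    rwa [show c⁻¹ * a * x * (c⁻¹ * a)⁻¹ = d by
      rw [show c⁻¹ * a * x * (c⁻¹ * a)⁻¹ = c⁻¹ * (a * x * a⁻¹) * c by group, ← this]; group]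

end Cfsg.Agent.S0926
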