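import Cfsg.Statements.S0927
import Cfsg.Agent.Blocks.Defect2
import Cfsg.Agent.Blocks.Sub
-- import your own Cfsg.Agent.* helpers here

set_option autoImplicit false
open Cfsg

namespace Cfsg.Agent.S0927

set_option linter.unusedSectionVars false

open Cfsg.Lib.Blocks Cfsg.Lib.Chars

/-- Let B be a block of the finite group G relative to a maximal ideal M of the algebraic integers containing p, let y represent a defect class of B and let P be a Sylow p-subgroup of the centralizer of y. (a) If x ∈ P and χ ∈ B has height zero, then χ (x * y) is not in the local ideal at M. (b) If x lies in the centre of P, then for every χ ∈ B the central character of χ at x * y is not in the local ideal at M. -/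
theorem result {G : Type*} [Group G] [Finite G] (p : ℕ) [Fact p.Prime] (M : Ideal Cfsg.AlgInt) (hM : Cfsg.IsPModular p M) (B : Set (Cfsg.IrrCharacter G)) (hB : Cfsg.IsPBlock M B) (y : G) (hy : Cfsg.IsDefectClass M B y) (P : Sylow p (Subgroup.centralizer ({y} : Set G))) (x : Subgroup.centralizer ({y} : Set G)) (hx : x ∈ (P : Subgroup (Subgroup.centralizer ({y} : Set G)))) : (∀ χ ∈ B, Cfsg.blockHeight p B (χ : G → ℂ) = 0 → ¬ Cfsg.MemLocalIdeal M ((χ : G → ℂ) ((x : G) * y))) ∧ ((∀ w ∈ (P : Subgroup (Subgroup.centralizer ({y} : Set G))), x * w = w * x) → ∀ χ ∈ B, ¬ Cfsg.MemLocalIdeal M (Cfsg.centralChar (χ : G → ℂ) ((x : G) * y))) := by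
  classical
  have := Fintype.ofFinite G
  have hxy : Commute (x : G) y := Subgroup.mem_centralizer_singleton_iff.1 x.2
  obtain ⟨k, hk⟩ := IsPGroup.iff_orderOf.1 P.2 ⟨x, hx⟩
  have hord : ∃ k : ℕ, orderOf (x : G) = p ^ k := ⟨k, by
    rw [Subgroup.orderOf_coe, ← hk]; exact Subgroup.orderOf_coe (⟨x, hx⟩ : (P : Subgroup _))⟩
  refine ⟨fun χ hχ h0 h => (isUnitAt_apply_mul_defectClass hM hB hy hχ h0 hxy hord).not_small
    (small_of_memLocalIdeal hM h), fun hw χ hχ h => ?_⟩
  obtain ⟨φ, hφ, h0⟩ := exists_height_zero hM hB
  have hsm : Small M (Cfsg.centralChar (φ : G → ℂ) ((x : G) * y)) := by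
    have h' := small_of_memLocalIdeal hM h
    rw [← res_eq_zero_iff (centralChar_mem_place hM φ _),
      IsPBlock.res_centralChar_eq hM hB hφ hχ, res_eq_zero_iff (centralChar_mem_place hM χ _)]
    exact h'
  -- the centraliser of `x * y` has the same `p`-part of the index
  have hsub : centSyl P ≤ Subgroup.centralizer ({(x : G) * y} : Set G) := by
    rintro _ ⟨w, hwP, rfl⟩
    rw [Subgroup.mem_centralizer_singleton_iff]
    have h1 : (w : G) * (x : G) = (x : G) * (w : G) := (congrArg Subtype.val (hw w hwP)).symm
    have h2 : (w : G) * y = y * (w : G) := Subgroup.mem_centralizer_singleton_iff.1 w.2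
    show (w : G) * ((x : G) * y) = (x : G) * y * (w : G)
    rw [← mul_assoc, h1, mul_assoc, h2, mul_assoc]
  have hge := defect_le_of_centralChar hM hB hφ
    ((isDefectClass_iff hM hB y).1 hy |>.2 φ hφ)
  have hd := Subgroup.card_dvd_of_le hsub
  rw [card_centSyl, hM.1.pow_dvd_iff_le_factorization Nat.card_pos.ne'] at hd
  have hidx : (Subgroup.centralizer ({(x : G) * y} : Set G)).index.factorization p ≤
      (Subgroup.centralizer ({y} : Set G)).index.factorization p := by
    have hG := Subgroup.card_mul_index (Subgroup.centralizer ({(x : G) * y} : Set G))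
    have h1 := congrArg (fun n : ℕ => n.factorization p) hG
    have h2 := congrArg (fun n : ℕ => n.factorization p)
      (Subgroup.card_mul_index (Subgroup.centralizer ({y} : Set G)))
    simp only [Nat.factorization_mul Nat.card_pos.ne' Subgroup.index_ne_zero_of_finite,
      Finsupp.add_apply] at h1 h2
    omega
  have hdeg : (deg (φ : G → ℂ)).factorization p =
      (Subgroup.centralizer ({y} : Set G)).index.factorization p := by
    rw [blockHeight_eq hM hB hy, Nat.sub_eq_zero_iff_le] at h0
    exact le_antisymm h0 ((degree_bounds hM hB hy).1 φ hφ)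
  have hu := isUnitAt_apply_mul_defectClass hM hB hy hφ h0 hxy hord
  refine absurd hsm (fun hs => ?_)
  have hlt := small_iff.1 hs
  rw [Cfsg.centralChar, irr_apply_one_eq_deg, map_div₀, map_mul, hu, mul_one,
    valuation_natCast hM (deg_irr_pos φ).ne', valuation_natCast hM Subgroup.index_ne_zero_of_finite,
    div_lt_one₀ (pow_pos (valuation_prime_pos hM) _), valuation_prime_pow_lt_iff hM, hdeg] at hlt
  omega

end Cfsg.Agent.S0927
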