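import Cfsg.Statements.S0932
import Cfsg.Agent.Blocks.Sums
import Cfsg.Agent.Chars.Core
-- import your own Cfsg.Agent.* helpers here

set_option autoImplicit false
open Cfsg

namespace Cfsg.Agent.S0932

set_option linter.unusedSectionVars false

open Cfsg.Lib.Blocks Cfsg.Lib.Chars

/-- Let H be a subgroup of the finite group G and ξ a character of H. For every g ∈ G, the sum of ξ h / ξ 1 over the elements h ∈ H that are conjugate in G to g equals the central character at g of the character of G induced from ξ (class size times value divided by degree). -/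
theorem result {G : Type*} [Group G] [Fintype G] (H : Subgroup G) (ξ : H → ℂ) (hξ : Cfsg.IsCharacter H ξ) (g : G) : Cfsg.inducedCentralChar H ξ g = Cfsg.centralChar (Cfsg.indFun H ξ) g := by
  classical
  have hG : (Nat.card G : ℂ) ≠ 0 := Nat.cast_ne_zero.2 Nat.card_pos.ne'
  have hH : (Nat.card H : ℂ) ≠ 0 := Nat.cast_ne_zero.2 Nat.card_pos.ne'
  have hidx : (H.index : ℂ) ≠ 0 := Nat.cast_ne_zero.2 Subgroup.index_ne_zero_of_finite
  have hfin : Cfsg.inducedCentralChar H ξ g
      = (∑ y ∈ Finset.univ.filter (IsConj g), Cfsg.extendByZero H ξ y) / ξ 1 := by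
    unfold Cfsg.inducedCentralChar
    rw [finsum_mem_eq_finite_toFinset_sum _ (Set.toFinite _), ← Finset.sum_div]
    congr 1
    rw [← Finset.sum_filter_of_ne (s := Finset.univ.filter (IsConj g)) (p := fun y => y ∈ H)
      fun y _ hy => by_contra fun h => hy (extendByZero_not_mem ξ h)]
    refine Finset.sum_bij' (fun x _ => (x : G))
      (fun y hy => (⟨y, (Finset.mem_filter.1 hy).2⟩ : H)) ?_ ?_ ?_ ?_ ?_
    · intro x hx
      simp only [Set.Finite.mem_toFinset, Set.mem_setOf_eq] at hx
      exact Finset.mem_filter.2 ⟨Finset.mem_filter.2 ⟨Finset.mem_univ _, hx⟩, x.2⟩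
    · intro y hy
      simp only [Finset.mem_filter, Finset.mem_univ, true_and] at hy
      simp only [Set.Finite.mem_toFinset, Set.mem_setOf_eq]
      exact hy.1
    · simp
    · simp
    · intro x _
      rw [extendByZero_apply]
  rw [hfin, Cfsg.centralChar, indFun_one, indFun_apply, sum_inv_conj_eq, nsmul_eq_mul]
  set A := ∑ y ∈ Finset.univ.filter (IsConj g), Cfsg.extendByZero H ξ y
  rcases eq_or_ne (ξ 1) 0 with h0 | h0
  · simp [h0]
  field_simp
  have h1 := congrArg (Nat.cast : ℕ → ℂ)
    (Subgroup.card_mul_index (Subgroup.centralizer ({g} : Set G)))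
  have h2 := congrArg (Nat.cast : ℕ → ℂ) (Subgroup.card_mul_index H)
  push_cast at h1 h2
  linear_combination A * (h2 - h1)

end Cfsg.Agent.S0932
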