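import Cfsg.Statements.S0938
import Cfsg.Agent.Blocks.Idem
-- import your own Cfsg.Agent.* helpers here

set_option autoImplicit false
open Cfsg

namespace Cfsg.Agent.S0938

set_option linter.unusedSectionVars false

open Cfsg.Lib.Blocks Cfsg.Lib.Chars

/-- Let B be a block of the finite group G relative to a maximal ideal M of the algebraic integers containing the prime p, and let χ ∈ B. Then the kernel of B (the set of g with ψ g = ψ 1 for all ψ ∈ B) is a normal subgroup of order prime to p contained in the kernel of χ, and it contains every normal subgroup of order prime to p on which χ takes the value χ(1); that is, it is O_p' of the kernel of χ. -/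
theorem result {G : Type*} [Group G] [Finite G] (p : ℕ) [Fact p.Prime] (M : Ideal Cfsg.AlgInt) (hM : Cfsg.IsPModular p M) (B : Set (Cfsg.IrrCharacter G)) (hB : Cfsg.IsPBlock M B) (χ : Cfsg.IrrCharacter G) (hχ : χ ∈ B) : ∃ K : Subgroup G, K.Normal ∧ (K : Set G) = Cfsg.blockKer B ∧ ¬ p ∣ Nat.card K ∧ (∀ g ∈ K, (χ : G → ℂ) g = (χ : G → ℂ) 1) ∧ ∀ N : Subgroup G, N.Normal → ¬ p ∣ Nat.card N → (∀ g ∈ N, (χ : G → ℂ) g = (χ : G → ℂ) 1) → N ≤ K := by
  classical
  have := Fintype.ofFinite G
  let K : Subgroup G :=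
    { carrier := Cfsg.blockKer B
      one_mem' := fun ψ _ => rfl
      mul_mem' := fun {a b} ha hb ψ hψ => by
        rw [IsCharacter.ker_mul (isCharacter_of_irr ψ.2) (ha ψ hψ), hb ψ hψ]
      inv_mem' := fun {a} ha ψ hψ => by
        rw [IsCharacter.conj_inv (isCharacter_of_irr ψ.2), ha ψ hψ, irr_apply_one_eq_deg,
          map_natCast] }
  have hKn : K.Normal := ⟨fun a ha g ψ hψ => by rw [isClassFunction_irr ψ a g]; exact ha ψ hψ⟩
  refine ⟨K, hKn, rfl, ?_, fun g hg => hg χ hχ, ?_⟩
  · refine not_dvd_card_of_blockCoeff_invariant hM hB K fun g k hk => ?_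
    rw [blockCoeff_eq_sum, blockCoeff_eq_sum]
    congr 1
    refine Finset.sum_congr rfl fun ψ hψ => ?_
    rw [classFunction_mul_comm (isClassFunction_irr ψ) g k,
      IsCharacter.ker_mul (isCharacter_of_irr ψ.2) (hk ψ (Finset.mem_filter.1 hψ).2)]
  · intro N hN hpN hker
    have hu : IsUnitAt M (Nat.card N : ℂ) := isUnitAt_natCast hM hpN
    have hN0 : (Nat.card N : ℂ) ≠ 0 := hu.ne_zero
    set f : MonoidAlgebra ℂ G :=
      ofFn fun g => if g ∈ N then (Nat.card N : ℂ)⁻¹ else 0 with hf
    have hfc : IsCentralFn f := isCentralFn_ofFn fun g h => by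
      have : h * g * h⁻¹ ∈ N ↔ g ∈ N :=
        ⟨fun hh => by simpa [mul_assoc] using hN.conj_mem _ hh h⁻¹,
          fun hg => hN.conj_mem _ hg h⟩
      simp [this]
    have hfi : Integral M f := fun g => by
      rw [hf, fn_ofFn]; split_ifs
      exacts [hu.inv.mem_place, zero_mem _]
    have hsum : ∀ ψ : Cfsg.IrrCharacter G, omega (ψ : G → ℂ) f
        = (∑ g : N, (ψ : G → ℂ) g) / ((Nat.card N : ℂ) * (ψ : G → ℂ) 1) := by
      intro ψ
      rw [omega, chiEval, hf]
      simp only [fn_ofFn, ite_mul, zero_mul]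
      rw [← Finset.sum_filter, Finset.sum_subtype _ (p := (· ∈ N)) (fun g => by simp),
        ← Finset.mul_sum]
      field_simp
    have hidem : f * f = f := fn_ext fun g => by
      rw [fn_mul, hf]
      simp only [fn_ofFn, ite_mul, zero_mul]
      rw [← Finset.sum_filter,
        Finset.sum_congr rfl (g := fun _ => (Nat.card N : ℂ)⁻¹ *
          if g ∈ N then (Nat.card N : ℂ)⁻¹ else 0) fun h hh => by
          have hh' := (Finset.mem_filter.1 hh).2
          simp only [Subgroup.mul_mem_cancel_left N (N.inv_mem hh')],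
        Finset.sum_const, ← Fintype.card_subtype, ← Nat.card_eq_fintype_card, nsmul_eq_mul,
        ← mul_assoc, mul_inv_cancel₀ hN0, one_mul]
    have hone : omega (χ : G → ℂ) f = 1 := by
      rw [hsum, Finset.sum_congr rfl (g := fun _ => (χ : G → ℂ) 1) (fun (g : N) _ => hker g g.2),
        Finset.sum_const, Finset.card_univ, ← Nat.card_eq_fintype_card, nsmul_eq_mul,
        div_self (mul_ne_zero hN0 (IsIrrCharacter.apply_one_ne_zero χ.2))]
    intro g hg ψ hψ
    have h01 : omega (ψ : G → ℂ) f = 0 ∨ omega (ψ : G → ℂ) f = 1 := by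
      have h := omega_mul ψ hfc f
      rw [hidem] at h
      rcases eq_or_ne (omega (ψ : G → ℂ) f) 0 with h0 | h0
      · exact Or.inl h0
      · exact Or.inr (mul_left_cancel₀ h0 (by rw [mul_one, ← h]))
    have h1 : omega (ψ : G → ℂ) f = 1 := by
      refine h01.resolve_left fun h0 => not_small_one (M := M) ?_
      have hr := res_omega_eq_of_sameBlock hM (IsPBlock.sameBlock hM hB hχ hψ) hfc hfi
      rw [h0, hone, res_eq_iff (one_mem _) (zero_mem _), sub_zero] at hr
      exact hr
    rw [hsum, div_eq_one_iff_eq (mul_ne_zero hN0 (IsIrrCharacter.apply_one_ne_zero ψ.2))] at h1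
    set d : ℝ := ((ψ : G → ℂ) 1).re with hd
    have hnn : ∀ x : N, 0 ≤ d - ((ψ : G → ℂ) x).re := fun x => by
      have := (Complex.re_le_norm _).trans (IsCharacter.norm_le (isCharacter_of_irr ψ.2) (x : G))
      linarith
    have h0 : ∑ x : N, (d - ((ψ : G → ℂ) x).re) = 0 := by
      rw [Finset.sum_sub_distrib, Finset.sum_const, Finset.card_univ, ← Nat.card_eq_fintype_card,
        nsmul_eq_mul, ← Complex.re_sum, h1, Complex.mul_re, Complex.natCast_re, Complex.natCast_im, zero_mul, sub_zero, hd, sub_self]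
    have hre : ((ψ : G → ℂ) g).re = d := by
      have := (Finset.sum_eq_zero_iff_of_nonneg fun x _ => hnn x).1 h0 ⟨g, hg⟩ (Finset.mem_univ _)
      linarith
    have him : ((ψ : G → ℂ) g).im = 0 := by
      have h2 := IsCharacter.norm_le (isCharacter_of_irr ψ.2) g
      exact Complex.abs_re_eq_norm.1 (le_antisymm (Complex.abs_re_le_norm _)
        (h2.trans (by rw [hre, hd]; exact le_abs_self _)))
    refine Complex.ext hre ?_
    rw [him, irr_apply_one_eq_deg, Complex.natCast_im]

end Cfsg.Agent.S0938
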