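import Cfsg.Statements.S0939
import Mathlib
import Cfsg.Agent.Blocks.Covering
import Cfsg.Agent.Blocks.ItoDegrees
-- import your own Cfsg.Agent.* helpers here

set_option autoImplicit false
open Cfsg

namespace Cfsg.Agent.S0939

set_option linter.unusedSectionVars false

open Cfsg.Lib.Chars Cfsg.Lib.Blocks

theorem aux.{v} {G : Type v} [Group G] [Fintype G] {p : ℕ} [Fact p.Prime] {M : Ideal Cfsg.AlgInt}
    (hM : Cfsg.IsPModular p M) (N : Subgroup G) [N.Normal] [Fintype N] (hN : ¬ p ∣ Nat.card N)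
    {k : ℕ} (hidx : N.index = p ^ k) (χ ψ : Cfsg.IrrCharacter G) :
    Cfsg.SameBlock M (χ : G → ℂ) (ψ : G → ℂ) ↔ ∃ θ : Cfsg.IrrCharacter N,
      Cfsg.classInner (fun n : N => (χ : G → ℂ) n) (θ : N → ℂ) ≠ 0 ∧
      Cfsg.classInner (fun n : N => (ψ : G → ℂ) n) (θ : N → ℂ) ≠ 0 := by
  constructor
  · intro h
    obtain ⟨θ, hθ⟩ := exists_irr_constituent N χ
    exact ⟨θ, hθ, constituent_of_sameBlock_pPrime hM N hN h hθ⟩
  · rintro ⟨θ, h1, h2⟩
    obtain ⟨B, -, huniq⟩ := existsUnique_covering hM N hidx (isPBlock_blockOf θ)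
    have e : ∀ φ : Cfsg.IrrCharacter G,
        Cfsg.classInner (fun n : N => (φ : G → ℂ) n) (θ : N → ℂ) ≠ 0 →
        Cfsg.blockOf M (φ : G → ℂ) = B := fun φ hφ =>
      huniq _ ⟨isPBlock_blockOf φ, φ, mem_blockOf_self hM φ, θ, mem_blockOf_self hM θ, hφ⟩
    have hmem : ψ ∈ Cfsg.blockOf M (χ : G → ℂ) := by
      rw [e χ h1, ← e ψ h2]; exact mem_blockOf_self hM ψ
    exact hmem

/-- Let G be a finite group with a normal p-complement (the largest normal subgroup O_p'(G) of order prime to p has p-power index). Then, relative to any maximal ideal M of the algebraic integers containing p, the principal block of G is the set of irreducible characters χ with χ n = χ 1 for every n ∈ O_p'(G). -/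
theorem result {G : Type*} [Group G] [Finite G] (p : ℕ) [Fact p.Prime] (M : Ideal Cfsg.AlgInt) (hM : Cfsg.IsPModular p M) (hnc : ∃ k : ℕ, (Cfsg.pPrimeCore p G).index = p ^ k) : Cfsg.principalBlock M G = {χ : Cfsg.IrrCharacter G | ∀ n ∈ Cfsg.pPrimeCore p G, (χ : G → ℂ) n = (χ : G → ℂ) 1} := by
  classical
  haveI := Fintype.ofFinite G
  obtain ⟨k, hk⟩ := hnc
  haveI : (Cfsg.pPrimeCore p G).Normal := Cfsg.Lib.Components.pPrimeCore_normal' p
  set N := Cfsg.pPrimeCore p G
  letI : Fintype N := Fintype.ofFinite N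
  have hN : ¬ p ∣ Nat.card N := fun h =>
    (Fact.out : p.Prime).one_lt.ne' (Nat.Coprime.eq_one_of_dvd
      (Cfsg.Lib.Components.coprime_card_pPrimeCore p).symm h)
  let one : Cfsg.IrrCharacter G := ⟨fun _ => 1, isIrrCharacter_one⟩
  let oneN : Cfsg.IrrCharacter N := ⟨fun _ => 1, isIrrCharacter_one⟩
  have hinvN : ∀ g : G, conjN N g (oneN : N → ℂ) = (oneN : N → ℂ) := fun g =>
    funext fun n => by simp [conjN, oneN]
  have htriv : ∀ φ : Cfsg.IrrCharacter G, (∀ n ∈ N, (φ : G → ℂ) n = (φ : G → ℂ) 1) →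
      Cfsg.classInner (fun n : N => (φ : G → ℂ) n) (oneN : N → ℂ) ≠ 0 := by
    intro φ hφ
    simp only [classInner_def, oneN, map_one, mul_one]
    rw [Finset.sum_congr rfl fun (n : N) _ => hφ n n.2, Finset.sum_const, nsmul_eq_mul,
      Finset.card_univ, Nat.card_eq_fintype_card, ← mul_assoc,
      inv_mul_cancel₀ (Nat.cast_ne_zero.2 Fintype.card_ne_zero), one_mul]
    exact IsIrrCharacter.apply_one_ne_zero φ.2
  ext χ
  show Cfsg.SameBlock M (one : G → ℂ) (χ : G → ℂ) ↔ _
  rw [aux hM N hN hk one χ, Set.mem_setOf_eq]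
  constructor
  · rintro ⟨θ, h1, h2⟩ n hn
    have hθ : θ = oneN := by
      obtain ⟨e, -, he⟩ := restrict_eq_mult_of_invariant N one.2 oneN.2 hinvN
        (htriv one fun _ _ => rfl)
      by_contra hne
      apply h1
      rw [he, classInner_smul_left, classInner_irr_ne (Ne.symm hne), mul_zero]
    subst hθ
    obtain ⟨e, -, he⟩ := restrict_eq_mult_of_invariant N χ.2 oneN.2 hinvN h2
    have e1 := congrFun he ⟨n, hn⟩
    have e2 := congrFun he 1
    simp only [Pi.smul_apply, smul_eq_mul, oneN, mul_one, OneMemClass.coe_one] at e1 e2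
    rw [e1, e2]
  · intro h
    exact ⟨oneN, htriv one (fun _ _ => rfl), htriv χ h⟩

end Cfsg.Agent.S0939
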