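import Cfsg.Statements.S0946
import Cfsg.Agent.S0945
import Cfsg.Agent.Transfer.Basic
-- import your own Cfsg.Agent.* helpers here

set_option autoImplicit false
open Cfsg

namespace Cfsg.Agent.S0946

set_option linter.unusedSectionVars false

/-- Let P be a Sylow 2-subgroup of the finite group G isomorphic to Z/2^m × Z/2^m with m ≥ 1. Then either P has a normal complement in G, or all involutions of G are conjugate. -/
theorem result {G : Type*} [Group G] [Finite G] (P : Sylow 2 G) (m : ℕ) (hm : 1 ≤ m) (e : (P : Subgroup G) ≃* Multiplicative (ZMod (2 ^ m) × ZMod (2 ^ m))) : (∃ N : Subgroup G, N.Normal ∧ Subgroup.IsComplement' N (P : Subgroup G)) ∨ ∀ s t : G, orderOf s = 2 → orderOf t = 2 → IsConj s t := by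
  classical
  haveI : Fact (Nat.Prime 2) := ⟨Nat.prime_two⟩
  obtain ⟨hidx, hfix⟩ := Cfsg.Agent.S0945.result P m hm e
  set C := Subgroup.centralizer (P : Set G) with hC
  set N := Subgroup.normalizer (P : Set G) with hN
  rcases hidx with h1 | h3
  · left
    have hle : N ≤ C := Subgroup.relIndex_eq_one.1 h1
    exact ⟨(MonoidHom.transferSylow P hle).ker, inferInstance,
      MonoidHom.ker_transferSylow_isComplement' P hle⟩
  · right
    have hfix' := hfix (by omega)
    obtain ⟨n, hnN, hnC⟩ : ∃ n ∈ N, n ∉ C := by
      by_contra hcon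
      push Not at hcon
      have := Subgroup.relIndex_eq_one.2 (show N ≤ C from hcon)
      omega
    haveI hnorm : (C.subgroupOf N).Normal := ⟨fun c hc g => by
      rw [Subgroup.mem_subgroupOf] at hc ⊢
      intro b hb
      have hb' : (g : G)⁻¹ * b * g ∈ (P : Subgroup G) := by
        have := (Subgroup.mem_normalizer_iff.1 (inv_mem g.2) b).1 hb
        simpa using this
      have h1 := congrArg (fun v => (g : G) * v * (g : G)⁻¹) (hc _ hb')
      simpa [mul_assoc] using h1⟩
    have hn3 : n * n * n ∈ C := by
      have := (C.subgroupOf N).pow_index_mem ⟨n, hnN⟩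
      rw [Subgroup.mem_subgroupOf] at this
      change (n : G) ^ (C.subgroupOf N).index ∈ C at this
      rw [show (C.subgroupOf N).index = 3 from h3, pow_succ, pow_two] at this
      exact this
    have hn2 : n * n ∉ C := fun h2 => hnC (by
      have := mul_mem (inv_mem h2) hn3
      simpa [mul_assoc] using this)
    let I := {t : G // t ∈ (P : Subgroup G) ∧ orderOf t = 2}
    have hI : Nat.card I ≤ 3 := by
      let Z := {a : Multiplicative (ZMod (2 ^ m)) // a ^ 2 = 1}
      have hZ : Nat.card Z ≤ 2 := by
        rw [Nat.card_eq_fintype_card, Fintype.card_subtype]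
        exact IsCyclic.card_pow_eq_one_le (by norm_num)
      have hsq : ∀ t : Option I, e (t.elim 1 fun u => ⟨u.1, u.2.1⟩) ^ 2 = 1 := fun t => by
        rw [← map_pow]
        cases t with
        | none => simp
        | some u =>
          exact (congrArg e (Subtype.ext (orderOf_dvd_iff_pow_eq_one.1 u.2.2.dvd) :
            (⟨u.1, u.2.1⟩ : (P : Subgroup G)) ^ 2 = 1)).trans (map_one e)
      let f : Option I → Z × Z := fun t =>
        (⟨Multiplicative.ofAdd (Multiplicative.toAdd (e (t.elim 1 fun u => ⟨u.1, u.2.1⟩))).1,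
          congrArg (fun v => Multiplicative.ofAdd (Multiplicative.toAdd v).1) (hsq t)⟩,
         ⟨Multiplicative.ofAdd (Multiplicative.toAdd (e (t.elim 1 fun u => ⟨u.1, u.2.1⟩))).2,
          congrArg (fun v => Multiplicative.ofAdd (Multiplicative.toAdd v).2) (hsq t)⟩)
      have hf : Function.Injective f := by
        intro a b h
        have h1 := congrArg (fun w : Z × Z => Multiplicative.toAdd w.1.1) h
        have h2 := congrArg (fun w : Z × Z => Multiplicative.toAdd w.2.1) h
        have h3 : (a.elim (1 : (P : Subgroup G)) fun u => ⟨u.1, u.2.1⟩) =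
            b.elim 1 fun u => ⟨u.1, u.2.1⟩ := e.injective (Prod.ext h1 h2)
        cases a with
        | none => cases b with
          | none => rfl
          | some v =>
            exfalso
            have h4 : (1 : G) = v.1 := congrArg Subtype.val h3
            have := v.2.2
            rw [← h4, orderOf_one] at this
            omega
        | some u => cases b with
          | none =>
            exfalso
            have h4 : u.1 = (1 : G) := congrArg Subtype.val h3
            have := u.2.2
            rw [h4, orderOf_one] at this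
            omega
          | some v => exact congrArg some (Subtype.ext (Subtype.mk.inj h3))
      have h := Nat.card_le_card_of_injective f hf
      rw [Finite.card_option, Nat.card_prod] at h
      have := Nat.mul_le_mul hZ hZ
      omega
    have hconjP : ∀ u ∈ (P : Subgroup G), ∀ v ∈ (P : Subgroup G), orderOf u = 2 → orderOf v = 2 →
        IsConj u v := by
      intro u hu v hv hu2 hv2
      have hmem : ∀ g ∈ N, g * u * g⁻¹ ∈ (P : Subgroup G) ∧ orderOf (g * u * g⁻¹) = 2 := fun g hg =>
        ⟨(Subgroup.mem_normalizer_iff.1 hg u).1 hu,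
          (orderOf_injective (MulAut.conj g).toMonoidHom (MulAut.conj g).injective u).trans hu2⟩
      have hu1 : u ≠ 1 := fun h => by rw [h, orderOf_one] at hu2; omega
      have hne : ∀ g ∈ N, g ∉ C → g * u * g⁻¹ ≠ u := fun g hg hgC he => hgC (by
        rw [← hfix' u hu hu1]
        exact ⟨Subgroup.mem_centralizer_singleton_iff.2 (mul_inv_eq_iff_eq_mul.1 he), hg⟩)
      let f : Fin 3 → I := ![⟨u, hu, hu2⟩, ⟨_, hmem n hnN⟩, ⟨_, hmem (n * n) (mul_mem hnN hnN)⟩]
      have e01 : n * u * n⁻¹ ≠ u := hne n hnN hnC
      have e02 : (n * n) * u * (n * n)⁻¹ ≠ u := hne _ (mul_mem hnN hnN) hn2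
      have e12 : (n * n) * u * (n * n)⁻¹ ≠ n * u * n⁻¹ := fun he => e01 (by
        have := congrArg (fun w => n⁻¹ * w * n) he
        simpa [mul_assoc] using this)
      have hinj : Function.Injective f := by
        intro a b hab
        have hv' := congrArg Subtype.val hab
        fin_cases a <;> fin_cases b <;> first
          | rfl | exact absurd hv' e01 | exact absurd hv'.symm e01 | exact absurd hv' e02
          | exact absurd hv'.symm e02 | exact absurd hv' e12 | exact absurd hv'.symm e12
      have hbij := (Nat.bijective_iff_injective_and_card f).2 ⟨hinj, le_antisymm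
        (Nat.card_le_card_of_injective f hinj) (by rw [Nat.card_fin]; exact hI)⟩
      obtain ⟨j, hj⟩ := hbij.2 ⟨v, hv, hv2⟩
      have hj' := congrArg Subtype.val hj
      fin_cases j
      · exact isConj_iff.2 ⟨1, by simpa [f] using hj'⟩
      · exact isConj_iff.2 ⟨n, hj'⟩
      · exact isConj_iff.2 ⟨n * n, hj'⟩
    intro s t hs ht
    have hmove : ∀ s : G, orderOf s = 2 → ∃ u ∈ (P : Subgroup G), IsConj s u := by
      intro s hs
      obtain ⟨Q, hQ⟩ := (IsPGroup.of_card (p := 2) (n := 1)
        (show Nat.card (Subgroup.zpowers s) = 2 ^ 1 by rw [Nat.card_zpowers, hs, pow_one])).exists_le_sylow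
      obtain ⟨c, hc⟩ := MulAction.exists_smul_eq G Q P
      refine ⟨c * s * c⁻¹, ?_, isConj_iff.2 ⟨c, rfl⟩⟩
      have h1 : MulAut.conj c s ∈ ((c • Q : Sylow 2 G) : Subgroup G) := by
        rw [Sylow.coe_subgroup_smul]
        exact Subgroup.smul_mem_pointwise_smul _ _ _ (hQ (Subgroup.mem_zpowers s))
      rw [hc] at h1
      exact h1
    obtain ⟨u, hu, hsu⟩ := hmove s hs
    obtain ⟨v, hv, htv⟩ := hmove t ht
    obtain ⟨a, ha⟩ := isConj_iff.1 hsu
    obtain ⟨b, hb⟩ := isConj_iff.1 htv
    have ho : ∀ (g w : G), orderOf (g * w * g⁻¹) = orderOf w := fun g w =>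
      orderOf_injective (MulAut.conj g).toMonoidHom (MulAut.conj g).injective w
    exact hsu.trans ((hconjP u hu v hv (by rw [← ha, ho, hs]) (by rw [← hb, ho, ht])).trans htv.symm)

end Cfsg.Agent.S0946
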