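import Cfsg.Statements.S0947
import Cfsg.Agent.Blocks.Columns
import Cfsg.Agent.Components.Cores
-- import your own Cfsg.Agent.* helpers here

set_option autoImplicit false
open Cfsg

namespace Cfsg.Agent.S0947

set_option linter.unusedSectionVars false

open Cfsg.Lib.Blocks Cfsg.Lib.Chars
open scoped ComplexConjugate

/-- Let z ≠ 1 be a p-element of the finite group G with centralizer H, and fix a maximal ideal M of the algebraic integers containing p. (i) For every y ∈ H of order prime to p, the sum over ζ in the principal block of G of |ζ (z * y)|² equals the sum over χ in the principal block of H of |χ y|². (ii) If moreover H has a normal p-complement (its largest normal subgroup of order prime to p has p-power index), that common value is the largest power of p dividing the order of H. -/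
theorem result {G : Type*} [Group G] [Finite G] (p : ℕ) [Fact p.Prime] (M : Ideal Cfsg.AlgInt) (hM : Cfsg.IsPModular p M) (z : G) (hz : ∃ k : ℕ, orderOf z = p ^ k) (hz1 : z ≠ 1) (y : Subgroup.centralizer ({z} : Set G)) (hy : ¬ p ∣ orderOf y) : (∑ᶠ ζ ∈ Cfsg.principalBlock M G, ‖(ζ : G → ℂ) (z * (y : G))‖ ^ 2 = ∑ᶠ χ ∈ Cfsg.principalBlock M (Subgroup.centralizer ({z} : Set G)), ‖(χ : Subgroup.centralizer ({z} : Set G) → ℂ) y‖ ^ 2) ∧ ((∃ k : ℕ, (Cfsg.pPrimeCore p (Subgroup.centralizer ({z} : Set G))).index = p ^ k) → ∑ᶠ ζ ∈ Cfsg.principalBlock M G, ‖(ζ : G → ℂ) (z * (y : G))‖ ^ 2 = ((p ^ (Nat.card (Subgroup.centralizer ({z} : Set G))).factorization p : ℕ) : ℝ)) := by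
  classical
  letI := Fintype.ofFinite G
  letI := Fintype.ofFinite (Subgroup.centralizer ({z} : Set G))
  have hH' : (Subgroup.centralizer ({z} : Set G)) = Subgroup.centralizer (Subgroup.zpowers z : Set G) := (centralizer_zpowers z).symm
  have hB : IsPBlock M (principalBlock M G) := isPBlock_blockOf (principal G)
  have hnorm : ∀ {X : Type _} [Group X] [Fintype X] (B : Set (IrrCharacter X)) (a : X),
      ((∑ᶠ χ ∈ B, ‖(χ : X → ℂ) a‖ ^ 2 : ℝ) : ℂ) = colKer B a a := fun B a => by
    rw [finsum_mem_eq_sum_of_inter_support_eq _ (t := Finset.univ.filter (· ∈ B)) (by simp),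
      colKer_eq, Complex.ofReal_sum]
    exact Finset.sum_congr rfl fun χ _ => by rw [Complex.mul_conj']; push_cast; rfl
  have h1 : colKer (principalBlock M G) (z * (y : G)) (z * (y : G)) =
      colKer (principalBlock M (Subgroup.centralizer ({z} : Set G))) y y := by
    rw [colKer_section hM hz hH' hB hy hy, filter_induced_principal hM hz hH',
      Finset.sum_singleton]
  refine ⟨Complex.ofReal_injective (by rw [hnorm, hnorm, h1]), fun hk => ?_⟩
  obtain ⟨k, hk⟩ := hk
  apply Complex.ofReal_injective
  rw [hnorm, h1, Complex.ofReal_natCast]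
  set K := Cfsg.pPrimeCore p (Subgroup.centralizer ({z} : Set G)) with hKdef
  have hK : ¬ p ∣ Nat.card K := fun h =>
    hM.1.ne_one (Nat.eq_one_of_dvd_coprimes (Cfsg.Lib.Components.coprime_card_pPrimeCore p) h dvd_rfl)
  have hyK : y ∈ K := mem_of_pRegular_of_index_eq_pow hM.1 K hk hy
  have hp' : p ^ (Nat.card (Subgroup.centralizer ({z} : Set G))).factorization p = K.index := by
    rw [← K.card_mul_index, Nat.factorization_mul Nat.card_pos.ne'
      Subgroup.index_ne_zero_of_finite, Finsupp.add_apply,
      Nat.factorization_eq_zero_of_not_dvd hK, zero_add, hk, hM.1.factorization_pow,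
      Finsupp.single_eq_same]
  rw [hp', ← sum_sq_trivial_on K, colKer_eq]
  refine Finset.sum_congr (Finset.filter_congr fun χ _ => mem_principalBlock_iff hM K hK hk χ)
    fun χ hχ => ?_
  rw [(Finset.mem_filter.1 hχ).2 y hyK, irr_apply_one_eq_deg, Complex.conj_natCast]

end Cfsg.Agent.S0947
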