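import Cfsg.Statements.S0952
import Cfsg.Agent.Blocks.Orth2
-- import your own Cfsg.Agent.* helpers here

set_option autoImplicit false
open scoped ComplexConjugate
open Cfsg

namespace Cfsg.Agent.S0952

set_option linter.unusedSectionVars false

open Cfsg.Lib.Blocks

/-- Let χ and ψ be irreducible characters of the finite group G lying in different blocks relative to a maximal ideal M of the algebraic integers containing the prime p. Then the sum of χ x * conj (ψ x) over the elements x of order prime to p is zero. -/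
theorem result {G : Type*} [Group G] [Finite G] (p : ℕ) [Fact p.Prime] (M : Ideal Cfsg.AlgInt) (hM : Cfsg.IsPModular p M) (χ ψ : Cfsg.IrrCharacter G) (h : ¬ Cfsg.SameBlock M (χ : G → ℂ) (ψ : G → ℂ)) : ∑ᶠ x ∈ {x : G | ¬ p ∣ orderOf x}, (χ : G → ℂ) x * conj ((ψ : G → ℂ) x) = 0 := by
  classical
  have := Fintype.ofFinite G
  have h0 : Cfsg.classInner (Cfsg.pRegularPart p (χ : G → ℂ)) (ψ : G → ℂ) = 0 :=
    classInner_pRegularPart_eq_zero hM (isPBlock_blockOf χ) (mem_blockOf_self hM χ) h
  have hG : (Nat.card G : ℂ) ≠ 0 := Nat.cast_ne_zero.2 Nat.card_pos.ne'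
  rw [Cfsg.Lib.Chars.classInner_def, mul_eq_zero] at h0
  have h1 := h0.resolve_left (inv_ne_zero hG)
  rw [finsum_mem_eq_sum_of_inter_support_eq _
    (t := Finset.univ.filter (fun x : G => ¬ p ∣ orderOf x)) (by simp), Finset.sum_filter]
  refine Eq.trans ?_ h1
  exact Finset.sum_congr rfl fun x _ => by rw [pRegularPart_apply]; split_ifs <;> simp

end Cfsg.Agent.S0952
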