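import Cfsg.Statements.S0954
import Mathlib
import Cfsg.Agent.Blocks.Covering
import Cfsg.Agent.Blocks.ItoDegrees
-- import your own Cfsg.Agent.* helpers here

set_option autoImplicit false
open Cfsg

namespace Cfsg.Agent.S0954

set_option linter.unusedSectionVars false

open Cfsg.Lib.Chars Cfsg.Lib.Blocks

theorem aux.{v} {G : Type v} [Group G] [Fintype G] {p : ℕ} [Fact p.Prime] {M : Ideal Cfsg.AlgInt}
    (hM : Cfsg.IsPModular p M) (N : Subgroup G) [N.Normal] [Fintype N] (hN : ¬ p ∣ Nat.card N)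
    {k : ℕ} (hidx : N.index = p ^ k) (χ ψ : Cfsg.IrrCharacter G) :
    Cfsg.SameBlock M (χ : G → ℂ) (ψ : G → ℂ) ↔ ∃ θ : Cfsg.IrrCharacter N,
      Cfsg.classInner (fun n : N => (χ : G → ℂ) n) (θ : N → ℂ) ≠ 0 ∧
      Cfsg.classInner (fun n : N => (ψ : G → ℂ) n) (θ : N → ℂ) ≠ 0 := by
  constructor
  · intro h
    obtain ⟨θ, hθ⟩ := exists_irr_constituent N χ
    exact ⟨θ, hθ, constituent_of_sameBlock_pPrime hM N hN h hθ⟩
  · rintro ⟨θ, h1, h2⟩
    obtain ⟨B, -, huniq⟩ := existsUnique_covering hM N hidx (isPBlock_blockOf θ)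
    have e : ∀ φ : Cfsg.IrrCharacter G,
        Cfsg.classInner (fun n : N => (φ : G → ℂ) n) (θ : N → ℂ) ≠ 0 →
        Cfsg.blockOf M (φ : G → ℂ) = B := fun φ hφ =>
      huniq _ ⟨isPBlock_blockOf φ, φ, mem_blockOf_self hM φ, θ, mem_blockOf_self hM θ, hφ⟩
    have hmem : ψ ∈ Cfsg.blockOf M (χ : G → ℂ) := by
      rw [e χ h1, ← e ψ h2]; exact mem_blockOf_self hM ψ
    exact hmem

/-- Let N be a normal subgroup of the finite group G of order prime to p and of p-power index (a normal p-complement), and fix a maximal ideal M of the algebraic integers containing p. Then two irreducible characters χ, ψ of G lie in the same block if and only if some irreducible character of N has nonzero inner product with both the restriction of χ and the restriction of ψ. -/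
theorem result {G : Type*} [Group G] [Fintype G] (p : ℕ) [Fact p.Prime] (M : Ideal Cfsg.AlgInt) (hM : Cfsg.IsPModular p M) (N : Subgroup G) [N.Normal] [Fintype N] (hN : ¬ p ∣ Nat.card N) (hidx : ∃ k : ℕ, N.index = p ^ k) (χ ψ : Cfsg.IrrCharacter G) : Cfsg.SameBlock M (χ : G → ℂ) (ψ : G → ℂ) ↔ ∃ θ : Cfsg.IrrCharacter N, Cfsg.classInner (fun n : N => (χ : G → ℂ) n) (θ : N → ℂ) ≠ 0 ∧ Cfsg.classInner (fun n : N => (ψ : G → ℂ) n) (θ : N → ℂ) ≠ 0 := by
  obtain ⟨k, hk⟩ := hidx
  exact aux hM N hN hk χ ψ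

end Cfsg.Agent.S0954
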