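import Cfsg.Statements.S0955
import Cfsg.Agent.Blocks.FirstMain
import Cfsg.Agent.Components.Cores
import Cfsg.Agent.S0912
-- import your own Cfsg.Agent.* helpers here

set_option autoImplicit false
open Cfsg

namespace Cfsg.Agent.S0955

set_option linter.unusedSectionVars false

open Cfsg.Lib.Blocks

/-- Let D be a defect group of a block of the finite group G relative to a maximal ideal M of the algebraic integers containing the prime p. Then D is the largest normal p-subgroup of its own normalizer: O_p(N_G(D)) = D. -/
theorem result {G : Type*} [Group G] [Finite G] (p : ℕ) [Fact p.Prime] (M : Ideal Cfsg.AlgInt) (hM : Cfsg.IsPModular p M) (B : Set (Cfsg.IrrCharacter G)) (hB : Cfsg.IsPBlock M B) (D : Subgroup G) (hD : Cfsg.IsDefectGroup p M B D) : (Cfsg.pCore p (Subgroup.normalizer (D : Set G))).map (Subgroup.normalizer (D : Set G)).subtype = D := by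
  classical
  letI := Fintype.ofFinite G
  letI := Fintype.ofFinite (Subgroup.normalizer (D : Set G))
  obtain ⟨c, hc, hcD, -⟩ := firstMain_down hM le_rfl hB hD
  refine le_antisymm ?_ ?_
  · rintro _ ⟨x, hx, rfl⟩
    exact Cfsg.Agent.S0912.result p M hM c hc _ hcD hx
  · intro x hx
    haveI : (D.subgroupOf (Subgroup.normalizer (D : Set G))).Normal := Subgroup.normal_in_normalizer
    exact ⟨⟨x, Subgroup.le_normalizer hx⟩,
      Cfsg.Lib.Components.le_pCore (N := D.subgroupOf (Subgroup.normalizer (D : Set G)))
        ((IsDefectGroup.isPGroup hD).comap_subtype) hx, rfl⟩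

end Cfsg.Agent.S0955
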