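import Cfsg.Statements.S0957
-- import your own Cfsg.Agent.* helpers here

set_option autoImplicit false
open Cfsg

namespace Cfsg.Agent.S0957

set_option linter.unusedSectionVars false

/-- Let P be a Sylow p-subgroup of the finite group G, let g, h ∈ G and let p ^ d be the order of a Sylow p-subgroup of the centralizer of g. Then the number of pairs (y, z) with y conjugate to g, z conjugate to h and z * y⁻¹ ∈ P is divisible by the order of P divided by p ^ d. -/
theorem result {G : Type*} [Group G] [Finite G] (p : ℕ) [Fact p.Prime] (P : Sylow p G) (g h : G) (S : Sylow p (Subgroup.centralizer ({g} : Set G))) : Nat.card P / Nat.card S ∣ Nat.card {yz : G × G // IsConj g yz.1 ∧ IsConj h yz.2 ∧ yz.2 * yz.1⁻¹ ∈ (P : Subgroup G)} := by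
  classical
  let X := {yz : G × G // IsConj g yz.1 ∧ IsConj h yz.2 ∧ yz.2 * yz.1⁻¹ ∈ (P : Subgroup G)}
  letI : MulAction (P : Subgroup G) X :=
    { smul := fun a w => ⟨((a : G) * w.1.1 * (a : G)⁻¹, (a : G) * w.1.2 * (a : G)⁻¹),
        w.2.1.trans (isConj_iff.2 ⟨a, rfl⟩), w.2.2.1.trans (isConj_iff.2 ⟨a, rfl⟩), by
          have := mul_mem (mul_mem a.2 w.2.2.2) (inv_mem a.2)
          simpa [mul_assoc] using this⟩
      one_smul := fun w => Subtype.ext (Prod.ext (by
          change ((1 : (P : Subgroup G)) : G) * _ * _ = _; simp) (by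
          change ((1 : (P : Subgroup G)) : G) * _ * _ = _; simp))
      mul_smul := fun a b w => Subtype.ext (Prod.ext (by
          change ((a * b : (P : Subgroup G)) : G) * _ * _ = _ * (_ * _ * _) * _; simp [mul_assoc]) (by
          change ((a * b : (P : Subgroup G)) : G) * _ * _ = _ * (_ * _ * _) * _; simp [mul_assoc])) }
  haveI : Fintype X := Fintype.ofFinite X
  have hS : Nat.card S ∣ Nat.card P := by
    have h1 : IsPGroup p (((S : Subgroup (Subgroup.centralizer ({g} : Set G)))).map
        (Subgroup.centralizer ({g} : Set G)).subtype) := S.2.map _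
    obtain ⟨T, hT⟩ := h1.exists_le_sylow
    have h2 := Subgroup.card_dvd_of_le hT
    rw [Subgroup.card_map_of_injective (Subgroup.subtype_injective _)] at h2
    rwa [show Nat.card P = Nat.card T by rw [Sylow.card_eq_multiplicity, Sylow.card_eq_multiplicity]]
  have horb : ∀ w : X, Nat.card P / Nat.card S ∣ Nat.card (MulAction.orbit (P : Subgroup G) w) := by
    intro w
    obtain ⟨c, hc⟩ := isConj_iff.1 w.2.1
    let f : MulAction.stabilizer (P : Subgroup G) w →* Subgroup.centralizer ({g} : Set G) :=
      { toFun := fun a => ⟨c⁻¹ * ((a : (P : Subgroup G)) : G) * c, by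
          rw [Subgroup.mem_centralizer_singleton_iff]
          have h1 : ((a : (P : Subgroup G)) : G) * w.1.1 * ((a : (P : Subgroup G)) : G)⁻¹ = w.1.1 :=
            congrArg (fun v : X => v.1.1) a.2
          rw [← hc] at h1
          have h2 := congrArg (fun v => c⁻¹ * v * ((a : (P : Subgroup G)) : G) * c) h1
          simpa [mul_assoc] using h2⟩
        map_one' := Subtype.ext (by simp)
        map_mul' := fun a b => Subtype.ext (by simp [mul_assoc]) }
    have hf : Function.Injective f := fun a b hab => by
      simpa [f] using congrArg Subtype.val hab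
    have hr : IsPGroup p f.range :=
      (P.2.to_subgroup (MulAction.stabilizer (P : Subgroup G) w)).of_surjective f.rangeRestrict
        f.rangeRestrict_surjective
    obtain ⟨T, hT⟩ := hr.exists_le_sylow
    have hd : Nat.card (MulAction.stabilizer (P : Subgroup G) w) ∣ Nat.card S := by
      have h2 := Subgroup.card_dvd_of_le hT
      rw [← Nat.card_congr (MonoidHom.ofInjective hf).toEquiv] at h2
      rwa [show Nat.card S = Nat.card T by rw [Sylow.card_eq_multiplicity, Sylow.card_eq_multiplicity]]
    obtain ⟨t, ht⟩ := hS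
    obtain ⟨u, hu⟩ := hd
    have hS0 : 0 < Nat.card S := Nat.card_pos
    have hs0 : 0 < Nat.card (MulAction.stabilizer (P : Subgroup G) w) := Nat.card_pos
    have hmul : Nat.card (MulAction.orbit (P : Subgroup G) w) *
        Nat.card (MulAction.stabilizer (P : Subgroup G) w) = Nat.card (P : Subgroup G) := by
      rw [← Nat.card_prod]
      exact Nat.card_congr (MulAction.orbitProdStabilizerEquivGroup (P : Subgroup G) w)
    change Nat.card (P : Subgroup G) / _ ∣ _
    rw [ht, Nat.mul_div_cancel_left _ hS0]
    refine ⟨u, Nat.eq_of_mul_eq_mul_right hs0 ?_⟩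
    rw [hmul, ht, hu]; ring
  change _ ∣ Nat.card X
  rw [Nat.card_congr (MulAction.selfEquivSigmaOrbits (P : Subgroup G) X), Nat.card_sigma]
  exact Finset.dvd_sum fun o _ => horb _

end Cfsg.Agent.S0957
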