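import Cfsg.Statements.S0968
import Mathlib
import Cfsg.Agent.Blocks.CanonicalCharacter
-- import your own Cfsg.Agent.* helpers here

set_option autoImplicit false
open Cfsg

namespace Cfsg.Agent.S0968

set_option linter.unusedSectionVars false

open Cfsg.Lib.Chars Cfsg.Lib.Blocks

/-- Let P be a p-subgroup of the finite group G with P ⊔ C_G(P) = G, and let B be a block with defect group P relative to a maximal ideal M of the algebraic integers containing p. Then there is exactly one θ ∈ B with θ x = θ 1 for all x ∈ P; for this θ the exponent of p in θ(1) equals the exponent of p in the index of P; and the number of members of B equals the number of conjugacy classes of P. -/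
theorem result {G : Type*} [Group G] [Finite G] (p : ℕ) [Fact p.Prime] (M : Ideal Cfsg.AlgInt) (hM : Cfsg.IsPModular p M) (P : Subgroup G) (hP : IsPGroup p P) (hG : P ⊔ Subgroup.centralizer (P : Set G) = ⊤) (B : Set (Cfsg.IrrCharacter G)) (hB : Cfsg.IsPBlock M B) (hD : Cfsg.IsDefectGroup p M B P) : (∃! θ : Cfsg.IrrCharacter G, θ ∈ B ∧ ∀ x ∈ P, (θ : G → ℂ) x = (θ : G → ℂ) 1) ∧ (∀ θ ∈ B, (∀ x ∈ P, (θ : G → ℂ) x = (θ : G → ℂ) 1) → (Cfsg.charDegree (θ : G → ℂ)).factorization p = P.index.factorization p) ∧ Nat.card B = Nat.card (ConjClasses P) := by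
  classical
  haveI := Fintype.ofFinite G
  haveI hPn : P.Normal := by
    rw [← Subgroup.normalizer_eq_top_iff, eq_top_iff, ← hG]
    exact sup_le Subgroup.le_normalizer (Subgroup.centralizer_le_normalizer _)
  haveI : Fintype (G ⧸ P) := Fintype.ofFinite _
  obtain ⟨φ, hφB, hdeg, huniq⟩ := exists_canonical hM hP hG hB hD
  have hfac : ∀ θ : Cfsg.IrrCharacter G, θ ∈ B → (∀ x ∈ P, (θ : G → ℂ) x = (θ : G → ℂ) 1) →
      θ = inflate P φ := by
    intro θ hθ hker
    obtain ⟨f, hf, hfθ⟩ := exists_factor (QuotientGroup.mk' P) (QuotientGroup.mk'_surjective P)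
      (isCharacter_of_irr θ.2) (fun k hk => hker k (by rwa [QuotientGroup.ker_mk'] at hk))
    have hfi : Cfsg.IsIrrCharacter (G ⧸ P) f :=
      IsIrrCharacter.descend hf _ (QuotientGroup.mk'_surjective P) (hfθ ▸ θ.2)
    have e : θ = inflate P ⟨f, hfi⟩ := Subtype.ext hfθ
    rw [e, huniq ⟨f, hfi⟩ (e ▸ hθ)]
  refine ⟨⟨inflate P φ, ⟨hφB, fun x hx => ?_⟩, fun θ hθ => hfac θ hθ.1 hθ.2⟩, fun θ hθ hker => ?_,
    card_block_eq_card_classes hM hP hG hB hD⟩
  · rw [inflate_val, inflate_val, QuotientGroup.mk_one, (QuotientGroup.eq_one_iff x).2 hx]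
  · rw [hfac θ hθ hker, charDegree_eq_deg]
    have e : deg (inflate P φ : G → ℂ) = deg (φ : G ⧸ P → ℂ) := by
      have h1 := irr_apply_one_eq_deg (inflate P φ)
      rw [inflate_val, QuotientGroup.mk_one, irr_apply_one_eq_deg φ, Nat.cast_inj] at h1
      exact h1.symm
    rw [e, hdeg, Subgroup.index]

end Cfsg.Agent.S0968
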