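import Cfsg.Statements.S0971
import Cfsg.Agent.Blocks.BrauerHom
import Cfsg.Agent.Blocks.Third
import Cfsg.Agent.Blocks.CoveringDefect
-- import your own Cfsg.Agent.* helpers here

set_option autoImplicit false
open Cfsg

namespace Cfsg.Agent.S0971

set_option linter.unusedSectionVars false

open Cfsg.Lib.Blocks Cfsg.Lib.Chars

/-- Let Q be a normal p-subgroup of the finite group G, let N = Q ⊔ C_G(Q) (a normal subgroup) and let b be a block of N relative to a maximal ideal M of the algebraic integers containing p. Then b induces some block of G, and every block B of G containing a character whose restriction to N has a constituent in b is induced by b. -/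
theorem result {G : Type*} [Group G] [Fintype G] (p : ℕ) [Fact p.Prime] (M : Ideal Cfsg.AlgInt) (hM : Cfsg.IsPModular p M) (Q : Subgroup G) [Q.Normal] (hQ : IsPGroup p Q) [Fintype ↥(Q ⊔ Subgroup.centralizer (Q : Set G))] (b : Set (Cfsg.IrrCharacter ↥(Q ⊔ Subgroup.centralizer (Q : Set G)))) (hb : Cfsg.IsPBlock M b) : Cfsg.InducedBlockDefined M (Q ⊔ Subgroup.centralizer (Q : Set G)) b ∧ ∀ B : Set (Cfsg.IrrCharacter G), Cfsg.IsPBlock M B → (∃ χ ∈ B, ∃ θ ∈ b, Cfsg.classInner (fun n : ↥(Q ⊔ Subgroup.centralizer (Q : Set G)) => (χ : G → ℂ) n) (θ : ↥(Q ⊔ Subgroup.centralizer (Q : Set G)) → ℂ) ≠ 0) → Cfsg.IsInducedBlock M (Q ⊔ Subgroup.centralizer (Q : Set G)) b B := by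
  classical
  haveI : (Q ⊔ Subgroup.centralizer (Q : Set G)).Normal := Subgroup.sup_normal _ _
  have hCN : Subgroup.centralizer (Q : Set G) ≤ (Q ⊔ Subgroup.centralizer (Q : Set G)) := le_sup_right
  have hdef : Cfsg.InducedBlockDefined M (Q ⊔ Subgroup.centralizer (Q : Set G)) b := inducedBlockDefined_local hM hQ le_sup_left hCN
    (by rw [Subgroup.normalizer_eq_top]; exact le_top) hb
  refine ⟨hdef, fun B hB hcov => ?_⟩
  obtain ⟨χ, hχ, θ, hθ, hc⟩ := hcov
  obtain ⟨B', hB'⟩ := hdef
  obtain ⟨φ, hφ⟩ := IsPBlock.nonempty hM hB'.2.1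
  have hs : SuppOn (Q ⊔ Subgroup.centralizer (Q : Set G)) (blockElem B) := fun g hg => by
    rw [fn_blockElem, blockCoeff_eq_zero_of_not_mem_centralizer hM hQ hB (fun h => hg (hCN h))]
  have h := res_omega_resElem_of_induced hM (Q ⊔ Subgroup.centralizer (Q : Set G)) hB' hθ hφ (isCentralFn_blockElem B)
    (integral_blockElem hM hB)
  rw [← omega_eq_of_constituent (Q ⊔ Subgroup.centralizer (Q : Set G)) (isCentralFn_blockElem B) hs χ θ hc, omega_blockElem,
    omega_blockElem, if_pos hχ] at h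
  by_cases hφB : φ ∈ B
  · rw [IsPBlock.eq_of_mem_inter hM hB hB'.2.1 hφB hφ]
    exact hB'
  · rw [if_neg hφB, res_one, res_zero] at h
    exact absurd h one_ne_zero

end Cfsg.Agent.S0971
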