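import Cfsg.Statements.S0973
import Cfsg.Agent.Blocks.LocalDefect
-- import your own Cfsg.Agent.* helpers here

set_option autoImplicit false
open Cfsg

namespace Cfsg.Agent.S0973

set_option linter.unusedSectionVars false

open Cfsg.Lib.Blocks

/-- Let B be a block of the finite group G with defect group P (relative to a maximal ideal M of the algebraic integers containing p), and let L = P ⊔ C_G(P). Then (i) some block b of L with defect group P (viewed in L) induces B, and (ii) if b and b' are blocks of L both inducing B, there is n ∈ N_G(P) carrying b to b': for every θ ∈ b there is θ' ∈ b' with θ' x = θ (n x n⁻¹) for all x ∈ L. -/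
theorem result {G : Type*} [Group G] [Finite G] (p : ℕ) [Fact p.Prime] (M : Ideal Cfsg.AlgInt) (hM : Cfsg.IsPModular p M) (B : Set (Cfsg.IrrCharacter G)) (hB : Cfsg.IsPBlock M B) (P : Subgroup G) (hP : Cfsg.IsDefectGroup p M B P) : (∃ b : Set (Cfsg.IrrCharacter ↥(P ⊔ Subgroup.centralizer (P : Set G))), Cfsg.IsDefectGroup p M b (P.subgroupOf (P ⊔ Subgroup.centralizer (P : Set G))) ∧ Cfsg.IsInducedBlock M (P ⊔ Subgroup.centralizer (P : Set G)) b B) ∧ ∀ b b' : Set (Cfsg.IrrCharacter ↥(P ⊔ Subgroup.centralizer (P : Set G))), Cfsg.IsInducedBlock M (P ⊔ Subgroup.centralizer (P : Set G)) b B → Cfsg.IsInducedBlock M (P ⊔ Subgroup.centralizer (P : Set G)) b' B → ∃ n ∈ Subgroup.normalizer (P : Set G), ∀ θ ∈ b, ∃ θ' ∈ b', ∀ x : ↥(P ⊔ Subgroup.centralizer (P : Set G)), ∀ hx : n * (x : G) * n⁻¹ ∈ P ⊔ Subgroup.centralizer (P : Set G), (θ' : ↥(P ⊔ Subgroup.centralizer (P : Set G)) → ℂ) x = (θ : ↥(P ⊔ Subgroup.centralizer (P : Set G)) → ℂ) ⟨n * (x : G) * n⁻¹, hx⟩ := by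
  classical
  letI := Fintype.ofFinite G
  set H : Subgroup G := P ⊔ Subgroup.centralizer (P : Set G) with hH
  letI := Fintype.ofFinite H
  letI := Fintype.ofFinite (Subgroup.centralizer (P : Set G))
  obtain ⟨e, hmax⟩ := exists_pair_of_defect hM hB hP
  have hHN : H ≤ Subgroup.normalizer (P : Set G) :=
    sup_le Subgroup.le_normalizer (Subgroup.centralizer_le_normalizer _)
  have hPH : P ≤ H := le_sup_left
  have hCH : Subgroup.centralizer (P : Set G) ≤ H := le_sup_right
  have hfixH : ∀ f : Set (Cfsg.IrrCharacter (Subgroup.centralizer (P : Set G))),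
      Cfsg.IsPBlock M f → ∀ x ∈ H, Cfsg.StabilizesBlock (Subgroup.centralizer (P : Set G)) f x := by
    intro f hf x hx
    refine (stabilizes_iff_of_normalizer hM hf (hHN hx)).2 ?_
    have hle : H ≤ stabElem (bi M (Subgroup.centralizer (P : Set G)) f) := sup_le
      (fun y hy => cj_eq_self_of_suppOn (suppOn_bi f) hy)
      (fun y hy => invOn_iff.1 (invOn_bi f) y hy)
    exact hle hx
  have hPp : IsPGroup p P := IsDefectGroup.isPGroup hP
  obtain ⟨E, hE, hEe⟩ := exists_block_stabilizer hM hPp hPH hHN hCH hmax.1.1.2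
    (hfixH e hmax.1.1.2)
  have hEb : bi M H E = bi M _ e := by rw [← red_bx, hEe, red_bx]
  refine ⟨⟨E, ?_, ?_⟩, fun b b' hb hb' => ?_⟩
  · obtain ⟨D, hD⟩ := exists_defectGroup hM hE
    rwa [← defect_stab_eq hM hmax hPH hHN (fun x hx => (stabilizes_iff_of_normalizer hM hmax.1.1.2
      (hHN hx)).1 (hfixH e hmax.1.1.2 x hx)) hE hEb hD]
  · refine isInducedBlock_of_pair hM hPH hCH hE ?_ hmax.1
    rw [hEb, br, trunc_eq_self (suppOn_bi e), bi_mul_self hM hmax.1.1.2]
  have hpair : ∀ c : Set (Cfsg.IrrCharacter H), Cfsg.IsInducedBlock M H c B →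
      ∃ x ∈ Subgroup.normalizer (P : Set G), cj x (bi M _ e) = bi M H c := by
    intro c hc
    have hcb := hc.1
    haveI := charP_res hM
    have hsupp : SuppOn (Subgroup.centralizer (P : Set G)) (bi M H c) :=
      suppOn_centralizer_of_idem hPp hPH
        (fun t ht y hy => (Subgroup.mem_normalizer_iff.1 (hHN ht) y).1 hy) (suppOn_bi c)
        (invOn_bi c) (bi_mul_self hM hcb)
    obtain ⟨S, hS, hSe⟩ := exists_eq_sum_bi hM hsupp ((invOn_bi c).mono hCH) (bi_mul_self hM hcb)
    obtain ⟨f, hf⟩ : S.Nonempty := by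
      rw [Finset.nonempty_iff_ne_empty]
      rintro rfl
      exact bi_ne_zero hM hcb (by rw [hSe, Finset.sum_empty])
    have hfb := (mem_blocksFinset hM).1 (hS hf)
    have hcf : bi M H c * bi M _ f = bi M _ f := by
      rw [hSe, Finset.sum_mul, Finset.sum_eq_single f]
      · exact bi_mul_self hM hfb
      · exact fun d hd hne => bi_mul_bi hM ((mem_blocksFinset hM).1 (hS hd)) hfb hne
      · exact fun h => absurd hf h
    obtain ⟨E', hE', hE'f⟩ := exists_block_stabilizer hM hPp hPH hHN hCH hfb (hfixH f hfb)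
    have hcE : c = E' := by
      by_contra hne
      have h0 := bi_mul_bi hM hcb hE' hne
      rw [← red_bx H E', hE'f, red_bx, hcf] at h0
      exact bi_ne_zero hM hfb h0
    obtain ⟨x, hx, hxe⟩ := exists_normalizer_cj hM hmax (pair_of_isInducedBlock hM hPH hCH hcb
      ⟨hPp, hfb⟩ (by rw [br, trunc_eq_self hsupp, hcf]) hc)
    exact ⟨x, hx, by rw [hxe, hcE, ← red_bx, ← red_bx, hE'f]⟩
  obtain ⟨x, hx, hxb⟩ := hpair b hb
  obtain ⟨y, hy, hyb⟩ := hpair b' hb'
  set n : G := x * y⁻¹ with hn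
  have hnN : n ∈ Subgroup.normalizer (P : Set G) := mul_mem hx (inv_mem hy)
  have hnH : ∀ g, g ∈ H → n⁻¹ * g * n ∈ H := by
    intro g hg
    have hmap : H.map (MulAut.conj n⁻¹).toMonoidHom = H := by
      rw [hH, Subgroup.map_sup, map_inf_conj, map_conj_of_mem_normalizer (inv_mem hnN)]
    rw [← hmap]
    exact ⟨g, hg, by simp [mul_assoc]⟩
  have hcs : IsConjSub H H n⁻¹ := by
    intro g
    rw [inv_inv]
    constructor
    · intro hg
      have hmap : H.map (MulAut.conj n).toMonoidHom = H := by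
        rw [hH, Subgroup.map_sup, map_inf_conj, map_conj_of_mem_normalizer hnN]
      rw [← hmap]
      exact ⟨g, hg, by simp [mul_assoc]⟩
    · intro hg
      have h := hnH _ hg
      rwa [show n⁻¹ * (n * g * n⁻¹) * n = g by group] at h
  have hb'eq : b' = conjSet H H n⁻¹ b := bi_injective hM hb'.1 (IsPBlock.conjSet hcs hb.1) (by
    rw [bi_conjSet hcs, ← hxb, ← hyb, cj_cj, hn, mul_inv_rev, inv_inv, inv_mul_cancel_right])
  refine ⟨n, hnN, fun θ hθ => ⟨irrEquiv (conjSubEquiv hcs) θ, ?_, fun g hg => ?_⟩⟩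
  · rw [hb'eq, conjSet_eq_image hcs]; exact ⟨θ, hθ, rfl⟩
  · rw [irrEquiv_apply]
    exact congrArg _ (Subtype.ext (by simp [conjSubEquiv]))

end Cfsg.Agent.S0973
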