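import Cfsg.Statements.S0979
import Cfsg.Agent.S0999
import Cfsg.Agent.Classical.Misc.SmallPSL

set_option autoImplicit false
open Cfsg

namespace Cfsg.Agent.S0979

/-- No finite simple group has order 5472 = 2^5 * 3^2 * 19. -/
theorem result {G : Type*} [Group G] [Finite G] [IsSimpleGroup G] : Nat.card G ≠ 5472 := by
  intro h
  have hG : ¬ IsCyclic G := fun hc => by
    let _ : CommGroup G := IsCyclic.commGroup
    have hp := IsSimpleGroup.prime_card (α := G)
    rw [h] at hp
    norm_num at hp
  rcases Cfsg.Agent.S0999.result hG 19 (by norm_num) (by rw [h]; norm_num) (by rw [h]; norm_num) with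
    ⟨F, i1, i2, hF, -, ⟨e⟩⟩ | ⟨m, F, i1, i2, hF, h19, -, -⟩
  · have hc := Cfsg.Lib.Classical.SmallPSL.card_psl (F := F) hF
    rw [← Nat.card_congr e.toEquiv, h] at hc
    norm_num at hc
  · have hm : m < 5 := by
      by_contra hm
      have := Nat.pow_le_pow_right (show 1 ≤ 2 by norm_num) (not_lt.1 hm)
      omega
    interval_cases m <;> omega

end Cfsg.Agent.S0979
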