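import Cfsg.Statements.S0980
import Cfsg.Agent.Blocks.DegreeEquation.Check

set_option autoImplicit false
open Cfsg

namespace Cfsg.Agent.S0980

/-- No finite simple group has order 5760 = 2^7 * 3^2 * 5. -/
theorem result {G : Type*} [Group G] [Finite G] [IsSimpleGroup G] : Nat.card G ≠ 5760 := by
  intro h
  have : Fact (Nat.Prime 5) := ⟨by norm_num⟩
  refine Cfsg.Lib.Blocks.DegreeEquation.false_of_check (G := G) ?_ 5 1152 76 h (by norm_num)
    (by norm_num) (by decide +kernel)
  intro hc
  let _ : CommGroup G := IsCyclic.commGroup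
  exact (show ¬ Nat.Prime 5760 by norm_num) (h ▸ IsSimpleGroup.prime_card)

end Cfsg.Agent.S0980
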