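import Cfsg.Statements.S5748
import Cfsg.Agent.InvolCalc.CASimple
import Cfsg.Agent.InvolCalc.ElemCentPSL
import Cfsg.Agent.S0182
import Cfsg.Agent.Known.SLTwo.Torus
import Cfsg.Agent.Known.SLTwo.Tori

set_option autoImplicit false
open Cfsg

namespace Cfsg.Agent.S5748

open scoped commutatorElement

/-- A finite non-abelian simple group in which commuting is a transitive relation on the non-identity elements (equivalently, every non-identity element has abelian centraliser) is isomorphic to PSL₂ over a field with 2^f elements for some f ≥ 2; conversely these groups have that property. -/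
theorem result {G : Type*} [Group G] [Finite G] [IsSimpleGroup G] (hG : ¬ IsMulCommutative G) :
    (∀ a b c : G, a ≠ 1 → b ≠ 1 → c ≠ 1 → Commute a b → Commute b c → Commute a c) ↔
    ∃ (F : Type) (_ : Field F) (_ : Fintype F) (f : ℕ), 2 ≤ f ∧ Fintype.card F = 2 ^ f ∧ Nonempty (G ≃* Matrix.ProjectiveSpecialLinearGroup (Fin 2) F) := by
  constructor
  · intro hT
    have hcen : ∀ x : G, x ≠ 1 → ∀ a ∈ Subgroup.centralizer ({x} : Set G), ∀ b ∈ Subgroup.centralizer ({x} : Set G), a * b = b * a := by
      intro x hx a ha b hb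
      by_cases ha1 : a = 1
      · rw [ha1, one_mul, mul_one]
      by_cases hb1 : b = 1
      · rw [hb1, one_mul, mul_one]
      exact (hT a x b ha1 hx hb1 (Subgroup.mem_centralizer_singleton_iff.1 ha) (Subgroup.mem_centralizer_singleton_iff.1 hb).symm).eq
    have heven : 2 ∣ Nat.card G := by
      by_contra hodd
      refine hG ?_
      have hs := Cfsg.Agent.S0182.result (Nat.not_even_iff_odd.1 fun he => hodd he.two_dvd) hcen
      rcases (inferInstance : (commutator G).Normal).eq_bot_or_eq_top with e | e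
      · refine ⟨⟨fun a b => ?_⟩⟩
        have h1 : ⁅a, b⁆ ∈ commutator G := Subgroup.commutator_mem_commutator (Subgroup.mem_top a) (Subgroup.mem_top b)
        rw [e, Subgroup.mem_bot] at h1
        exact commutatorElement_eq_one_iff_mul_comm.1 h1
      · exfalso
        obtain ⟨n, hn⟩ := hs.solvable
        have : ∀ k, derivedSeries G k = ⊤ := fun k => by
          induction k with
          | zero => rfl
          | succ k ih => rw [derivedSeries_succ, ih]; exact e
        rw [this n] at hn
        exact top_ne_bot hn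
    haveI : Fact (Nat.Prime 2) := ⟨Nat.prime_two⟩
    obtain ⟨t, ht⟩ := exists_prime_orderOf_dvd_card' 2 heven
    have ht1 : t ≠ 1 := fun e => by rw [e, orderOf_one] at ht; omega
    have hS : Cfsg.Lib.CASimple.Setup (Subgroup.centralizer ({t} : Set G)) := by
      refine ⟨hcen t ht1, fun y hy hy1 => ?_, ⟨t, Subgroup.mem_centralizer_singleton_iff.2 rfl, ht⟩, fun e => hG ?_⟩
      · have hy' : Commute y t := Subgroup.mem_centralizer_singleton_iff.1 hy
        ext x
        by_cases hx1 : x = 1
        · simp [hx1]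
        rw [Subgroup.mem_centralizer_singleton_iff, Subgroup.mem_centralizer_singleton_iff]
        exact ⟨fun h => (hT x y t hx1 hy1 ht1 h hy').eq, fun h => (hT x t y hx1 ht1 hy1 h hy'.symm).eq⟩
      · exact ⟨⟨fun a b => hcen t ht1 a (e ▸ Subgroup.mem_top a) b (e ▸ Subgroup.mem_top b)⟩⟩
    obtain ⟨F, i1, i2, f, hf, hF, -, hiso⟩ := Cfsg.Lib.CASimple.psl hS
    exact ⟨F, i1, i2, f, hf, hF, hiso⟩
  · rintro ⟨F, _, _, f, hf, hF, ⟨e⟩⟩ a b c ha hb hc hab hbc
    haveI : CharP F 2 := ringChar.eq_iff.1 (FiniteField.even_card_iff_char_two.2 (Nat.mod_eq_zero_of_dvd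
      (hF ▸ dvd_pow_self 2 (by omega))))
    obtain ⟨e2⟩ := Cfsg.Lib.ElemCent.psl_equiv (F := F)
    set φ := e.trans e2.symm
    have hns : Cfsg.Lib.GLTwo.NonScalar ((φ b : Matrix.SpecialLinearGroup (Fin 2) F) : Matrix (Fin 2) (Fin 2) F) := by
      refine Cfsg.Lib.GLTwo.nonScalar_of_ne (fun h => hb (φ.injective (h.trans (map_one φ).symm))) (fun h => hb ?_)
      rw [Cfsg.Lib.GLTwo.neg_one_eq_one] at h
      exact φ.injective (h.trans (map_one φ).symm)
    have h1 := Cfsg.Lib.GLTwo.cent_comm hns (φ a) (Subgroup.mem_centralizer_singleton_iff.2 (by rw [← map_mul, hab.eq, map_mul]))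
      (φ c) (Subgroup.mem_centralizer_singleton_iff.2 (by rw [← map_mul, ← hbc.eq, map_mul]))
    exact φ.injective (by rw [map_mul, map_mul, h1])

end Cfsg.Agent.S5748
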