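import Cfsg.Statements.S0981
import Cfsg.Agent.Small.Order4080
import Cfsg.Agent.S5748
import Cfsg.Agent.Classical.Misc.SmallPSL
import Cfsg.Agent.Classical.Misc.PSLEmbed

set_option autoImplicit false
set_option linter.style.haveILetI false
open Cfsg

namespace Cfsg.Agent.S0981

/-- A simple group of order 4080 is isomorphic to the projective special linear group of dimension 2 over the field with 16 elements. -/
theorem result {G : Type*} [Group G] [Finite G] [IsSimpleGroup G] (h : Nat.card G = 4080) {F : Type*} [Field F] [Fintype F] (hF : Fintype.card F = 16) : Nonempty (G ≃* Matrix.ProjectiveSpecialLinearGroup (Fin 2) F) := by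
  have hnc := Cfsg.Lib.Small.FortyEighty.hnc h
  have hG : ¬ IsMulCommutative G := fun hc => hnc hc.is_comm.comm
  obtain ⟨K, _, _, f, hf, hK, ⟨e⟩⟩ := (Cfsg.Agent.S5748.result hG).1 (fun a b c _ hb _ hab hbc =>
    Cfsg.Lib.Small.FortyEighty.centralizer_comm h hb a (Subgroup.mem_centralizer_singleton_iff.2 hab.eq) c
      (Subgroup.mem_centralizer_singleton_iff.2 hbc.eq.symm))
  have hcard := Cfsg.Lib.Classical.SmallPSL.card_psl (F := K) hK
  have heven : Even (2 ^ f) := Nat.even_pow.2 ⟨even_two, by omega⟩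
  have hodd : ¬ 2 ∣ 2 ^ f - 1 := by
    have := Nat.one_le_two_pow (n := f)
    obtain ⟨r, hr⟩ := heven
    omega
  rw [((Nat.prime_two.coprime_iff_not_dvd).2 hodd).gcd_eq_one, one_mul, ← Nat.card_congr e.toEquiv, h] at hcard
  have hf4 : f = 4 := by
    by_contra hne
    rcases (show f = 2 ∨ f = 3 ∨ 5 ≤ f by omega) with e2 | e3 | h5
    · subst e2; norm_num at hcard
    · subst e3; norm_num at hcard
    · have h32 : 32 ≤ 2 ^ f := (Nat.pow_le_pow_right (by norm_num) h5 : 2 ^ 5 ≤ 2 ^ f)
      have h1023 : 1023 ≤ (2 ^ f) ^ 2 - 1 := by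
        have := Nat.pow_le_pow_left h32 2
        omega
      have := Nat.mul_le_mul h32 h1023
      omega
  subst hf4
  let ρ : K ≃+* F := FiniteField.ringEquivOfCardEq (by rw [hK, hF]; norm_num)
  let g := Cfsg.Lib.Classical.PSLEmbed.pslMap (ρ : K →+* F)
  have hg : Function.Bijective g := (Cfsg.Lib.Classical.PSLEmbed.pslMap_injective (ρ : K →+* F)).bijective_of_nat_card_le
    (Nat.card_le_card_of_injective _ (Cfsg.Lib.Classical.PSLEmbed.pslMap_injective (ρ.symm : F →+* K)))
  exact ⟨e.trans (MulEquiv.ofBijective g hg)⟩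

end Cfsg.Agent.S0981
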