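import Cfsg.Statements.S0983
import Cfsg.Agent.Small.OrderSieve

set_option autoImplicit false
open Cfsg

namespace Cfsg.Agent.S0983

set_option maxHeartbeats 4000000 in
/-- A non-abelian finite simple group of order greater than 3640 and at most 6232 has order 4080, 5616, 6048 or 6072. -/
theorem result {G : Type*} [Group G] [Finite G] [IsSimpleGroup G] (hG : ¬ IsMulCommutative G) (h1 : 3640 < Nat.card G) (h2 : Nat.card G ≤ 6232) : Nat.card G = 4080 ∨ Nat.card G = 5616 ∨ Nat.card G = 6048 ∨ Nat.card G = 6072 := by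
  have hnc : ¬ ∀ a b : G, a * b = b * a := fun hc => hG ⟨⟨hc⟩⟩
  have hc : ((List.range 2592).all fun i =>
      Cfsg.Lib.Small.Sieve.kill [(3648, 3), (3672, 17), (3696, 11), (3744, 13), (3780, 5), (3840, 5), (3864, 7), (3900, 13), (3960, 11), (4032, 7), (4144, 7), (4160, 5), (4200, 7), (4212, 13), (4224, 3), (4284, 7), (4312, 11), (4320, 5), (4368, 7), (4400, 11), (4416, 3), (4455, 5), (4480, 5), (4512, 3), (4536, 7), (4560, 5), (4620, 7), (4680, 5), (4725, 7), (4752, 11), (4760, 5), (4784, 13), (4800, 3), (4896, 17), (4928, 7), (4960, 31), (4968, 23), (5040, 5), (5104, 11), (5112, 71), (5148, 11), (5200, 13), (5220, 29), (5265, 5), (5280, 11), (5320, 5), (5376, 7), (5460, 13), (5472, 19), (5508, 17), (5520, 3), (5544, 7), (5600, 7), (5700, 19), (5724, 53), (5760, 5), (5824, 7), (5880, 5), (5928, 3), (5940, 11), (5952, 31), (6080, 5), (6120, 17), (6156, 19), (6160, 5)] [(4500, 5), (5292, 7), (6000, 5)] (3641 + i) ||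
      [4080, 5400, 5616, 6048, 6072].contains (3641 + i)) = true := by decide +kernel
  have h := Cfsg.Lib.Small.Sieve.mem_of_all hnc hc (by omega) (by omega)
  have h54 := Cfsg.Lib.Small.card_ne_5400 (G := G)
  simp only [List.mem_cons, List.not_mem_nil, or_false] at h
  omega

end Cfsg.Agent.S0983
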