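import Cfsg.Statements.S0986
import Mathlib
import Cfsg.Agent.Coprime.Basic

set_option autoImplicit false
open Cfsg

namespace Cfsg.Agent.S0986

/-- Let P and Q be distinct Sylow p-subgroups of a finite group G chosen so that the order of P ∩ Q is as large as possible among intersections of two distinct Sylow p-subgroups, and let N be the normalizer of P ∩ Q. Then N has more than one Sylow p-subgroup, any two distinct Sylow p-subgroups of N intersect exactly in P ∩ Q, and each Sylow p-subgroup of N lies in exactly one Sylow p-subgroup of G. -/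
theorem result {G : Type*} [Group G] [Finite G] (p : ℕ) [Fact p.Prime] (P Q : Sylow p G) (hPQ : P ≠ Q) (hmax : ∀ P' Q' : Sylow p G, P' ≠ Q' → Nat.card ↥((P' : Subgroup G) ⊓ (Q' : Subgroup G)) ≤ Nat.card ↥((P : Subgroup G) ⊓ (Q : Subgroup G))) : 1 < Nat.card (Sylow p ↥(Subgroup.normalizer (((P : Subgroup G) ⊓ (Q : Subgroup G) : Subgroup G) : Set G))) ∧ (∀ S T : Sylow p ↥(Subgroup.normalizer (((P : Subgroup G) ⊓ (Q : Subgroup G) : Subgroup G) : Set G)), S ≠ T → (S : Subgroup _) ⊓ (T : Subgroup _) = ((P : Subgroup G) ⊓ (Q : Subgroup G)).subgroupOf (Subgroup.normalizer (((P : Subgroup G) ⊓ (Q : Subgroup G) : Subgroup G) : Set G))) ∧ ∀ S : Sylow p ↥(Subgroup.normalizer (((P : Subgroup G) ⊓ (Q : Subgroup G) : Subgroup G) : Set G)), ∃! T : Sylow p G, (S : Subgroup _).map (Subgroup.normalizer (((P : Subgroup G) ⊓ (Q : Subgroup G) : Subgroup G) : Set G)).subtype ≤ (T : Subgroup G) := by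
  classical
  set D := (P : Subgroup G) ⊓ (Q : Subgroup G) with hD
  set N := Subgroup.normalizer (D : Set G) with hN
  have hDp : IsPGroup p D := P.2.to_le inf_le_left
  have hDN : D ≤ N := Subgroup.le_normalizer
  haveI : (D.subgroupOf N).Normal := (Subgroup.normal_subgroupOf_iff_le_normalizer hDN).mpr le_rfl
  have hDNp : IsPGroup p (D.subgroupOf N) := hDp.comap_subtype
  -- growing inside a Sylow subgroup
  have hgrow : ∀ X : Sylow p G, D < (X : Subgroup G) → D < (X : Subgroup G) ⊓ N := by
    intro X hX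
    haveI := X.2.isNilpotent
    have hlt : D.subgroupOf (X : Subgroup G) < Subgroup.normalizer ((D.subgroupOf (X : Subgroup G) : Subgroup _) : Set (X : Subgroup G)) := by
      refine Group.normalizerCondition_of_isNilpotent _ (lt_top_iff_ne_top.mpr fun h => hX.ne ?_)
      exact le_antisymm hX.le (Subgroup.subgroupOf_eq_top.mp h)
    obtain ⟨x, hx, hxD⟩ := SetLike.exists_of_lt hlt
    refine lt_of_le_of_ne (le_inf hX.le hDN) fun he => hxD ?_
    rw [Subgroup.mem_subgroupOf, he]
    refine ⟨x.2, Subgroup.mem_normalizer_iff.mpr fun d => ⟨fun hd => ?_, fun hd => ?_⟩⟩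
    · exact Subgroup.mem_subgroupOf.mp ((Subgroup.mem_normalizer_iff.mp hx ⟨d, hX.le hd⟩).mp hd)
    · have hmem : d ∈ (X : Subgroup G) := by
        have := mul_mem (mul_mem (inv_mem x.2) (hX.le hd)) x.2
        simpa [mul_assoc] using this
      exact Subgroup.mem_subgroupOf.mp ((Subgroup.mem_normalizer_iff.mp hx ⟨d, hmem⟩).mpr hd)
  have hDP : D < (P : Subgroup G) := lt_of_le_of_ne inf_le_left fun h => hPQ (Sylow.ext
    ((P.3 Q.2 (inf_eq_left.mp h)).symm))
  have hDQ : D < (Q : Subgroup G) := lt_of_le_of_ne inf_le_right fun h => hPQ (Sylow.ext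
    (Q.3 P.2 (inf_eq_right.mp h)))
  -- every Sylow subgroup of `N` is bigger than `D`
  have hbig : ∀ (S : Sylow p N) (T : Sylow p G), (S : Subgroup N).map N.subtype ≤ (T : Subgroup G) →
      ∀ T' : Sylow p G, (S : Subgroup N).map N.subtype ≤ (T' : Subgroup G) → T = T' := by
    intro S T hT T' hT'
    by_contra hne
    have h1 := hmax T T' hne
    have hPN : IsPGroup p ((P : Subgroup G).subgroupOf N) := P.2.comap_subtype
    obtain ⟨S', hS'⟩ := hPN.exists_le_sylow
    have h2 : Nat.card ↥((P : Subgroup G) ⊓ N) ≤ Nat.card (S : Subgroup N) := by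
      rw [show Nat.card (S : Subgroup N) = Nat.card (S' : Subgroup N) from Nat.card_congr (Sylow.equiv S S').toEquiv]
      refine le_trans (le_of_eq ?_) (Subgroup.card_le_of_le hS')
      rw [← Subgroup.card_map_of_injective N.subtype_injective, Subgroup.subgroupOf_map_subtype]
    have h3 : Nat.card D < Nat.card ↥((P : Subgroup G) ⊓ N) :=
      lt_of_le_of_ne (Subgroup.card_le_of_le (hgrow P hDP).le) fun h =>
        (hgrow P hDP).ne (Subgroup.eq_of_le_of_card_ge (hgrow P hDP).le h.ge)
    have h4 : Nat.card (S : Subgroup N) ≤ Nat.card ↥((T : Subgroup G) ⊓ (T' : Subgroup G)) := by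
      rw [← Subgroup.card_map_of_injective N.subtype_injective]
      exact Subgroup.card_le_of_le (le_inf hT hT')
    omega
  have hover : ∀ S : Sylow p N, ∃ T : Sylow p G, (S : Subgroup N).map N.subtype ≤ (T : Subgroup G) :=
    fun S => (S.2.map N.subtype).exists_le_sylow
  refine ⟨?_, fun S S' hne => ?_, fun S => ?_⟩
  · by_contra hle
    haveI : Subsingleton (Sylow p N) := Finite.card_le_one_iff_subsingleton.mp (not_lt.mp hle)
    obtain ⟨S⟩ : Nonempty (Sylow p N) := inferInstance
    have hin : ∀ X : Sylow p G, D < (X : Subgroup G) →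
        ∀ T : Sylow p G, (S : Subgroup N).map N.subtype ≤ (T : Subgroup G) → X = T := by
      intro X hX T hT
      obtain ⟨S', hS'⟩ := (X.2.comap_subtype (K := N)).exists_le_sylow
      rw [Subsingleton.elim S' S] at hS'
      by_contra hne
      have h1 := hmax X T hne
      have h2 : (X : Subgroup G) ⊓ N ≤ (X : Subgroup G) ⊓ (T : Subgroup G) := le_inf inf_le_left (by
        have := Subgroup.map_mono (f := N.subtype) hS'
        rw [Subgroup.map_comap_eq, Subgroup.range_subtype] at this
        exact le_trans (le_of_eq (inf_comm _ _)) (this.trans hT))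
      have h3 := Subgroup.card_le_of_le h2
      exact (hgrow X hX).ne (Subgroup.eq_of_le_of_card_ge (hgrow X hX).le (h3.trans h1))
    obtain ⟨T, hT⟩ := hover S
    exact hPQ ((hin P hDP T hT).trans (hin Q hDQ T hT).symm)
  · obtain ⟨T, hT⟩ := hover S
    obtain ⟨T', hT'⟩ := hover S'
    have hTne : T ≠ T' := by
      rintro rfl
      apply hne
      have hp' : IsPGroup p ((T : Subgroup G).subgroupOf N) := T.2.comap_subtype
      have e1 := S.3 hp' (fun x hx => Subgroup.mem_subgroupOf.mpr (hT (Subgroup.mem_map_of_mem _ hx)))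
      have e2 := S'.3 hp' (fun x hx => Subgroup.mem_subgroupOf.mpr (hT' (Subgroup.mem_map_of_mem _ hx)))
      exact Sylow.ext (e1.symm.trans e2)
    have hDS : ∀ X : Sylow p N, D.subgroupOf N ≤ (X : Subgroup N) := fun X => by
      have := X.3 (hDNp.to_sup_of_normal_left X.2) le_sup_right
      exact le_sup_left.trans this.le
    refine (Subgroup.eq_of_le_of_card_ge (le_inf (hDS S) (hDS S')) ?_).symm
    rw [Nat.card_congr (Subgroup.subgroupOfEquivOfLe hDN).toEquiv,
      ← Subgroup.card_map_of_injective N.subtype_injective, Subgroup.map_inf _ _ _ N.subtype_injective]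
    exact (Subgroup.card_le_of_le (inf_le_inf hT hT')).trans (hmax T T' hTne)
  · obtain ⟨T, hT⟩ := hover S
    exact ⟨T, hT, fun T' hT' => (hbig S T hT T' hT').symm⟩

end Cfsg.Agent.S0986
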