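import Cfsg.Statements.S0987
import Mathlib
import Cfsg.Agent.Small.Toolkit

set_option autoImplicit false
open Cfsg

namespace Cfsg.Agent.S0987

/-- If a finite group has order pqr for primes p < q < r, then its Sylow r-subgroups are normal. -/
theorem result {G : Type*} [Group G] [Finite G] (p q r : ℕ) (hp : p.Prime) (hq : q.Prime) [Fact r.Prime] (hpq : p < q) (hqr : q < r) (hG : Nat.card G = p * q * r) (R : Sylow r G) : (R : Subgroup G).Normal := by
  classical
  haveI := Fact.mk hp; haveI := Fact.mk hq
  have hr : r.Prime := Fact.out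
  obtain ⟨P⟩ : Nonempty (Sylow p G) := inferInstance
  have hndp : ¬ p ∣ q * r := fun h => by
    rcases hp.dvd_mul.mp h with h | h
    · exact hpq.ne ((Nat.prime_dvd_prime_iff_eq hp hq).mp h)
    · exact (hpq.trans hqr).ne ((Nat.prime_dvd_prime_iff_eq hp hr).mp h)
  have hPc : Nat.card (P : Subgroup G) = p := by
    rw [Cfsg.Lib.Small.card_sylow_of_factor P (a := 1) (m := q * r) (by rw [hG]; ring) hndp, pow_one]
  have hmin : (Nat.card G).minFac = p := by
    refine le_antisymm (Nat.minFac_le_of_dvd hp.two_le (hG ▸ (dvd_mul_right p q).mul_right r)) ?_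
    have hne : Nat.card G ≠ 1 := by
      rw [hG]; intro h
      exact hr.ne_one (Nat.eq_one_of_mul_eq_one_left h)
    have hm := Nat.minFac_prime hne
    have hd : (Nat.card G).minFac ∣ p * q * r := hG ▸ Nat.minFac_dvd _
    rcases hm.dvd_mul.mp hd with h | h
    · rcases hm.dvd_mul.mp h with h | h
      · exact ((Nat.prime_dvd_prime_iff_eq hm hp).mp h).ge
      · exact ((Nat.prime_dvd_prime_iff_eq hm hq).mp h) ▸ hpq.le
    · exact ((Nat.prime_dvd_prime_iff_eq hm hr).mp h) ▸ (hpq.trans hqr).le
  haveI hc : IsCyclic (P : Subgroup G) := isCyclic_of_prime_card hPc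
  have hcompl := hc.isComplement' hmin
  set K := (MonoidHom.transferSylow P (hc.normalizer_le_centralizer hmin)).ker with hK
  have hKc : Nat.card K = q * r := by
    have h := hcompl.card_mul_card
    rw [hPc, hG] at h
    exact Nat.eq_of_mul_eq_mul_right hp.pos (h.trans (by ring))
  have hRc : Nat.card (R : Subgroup G) = r := by
    rw [Cfsg.Lib.Small.card_sylow_of_factor R (a := 1) (m := p * q) (by rw [hG]; ring) ?_, pow_one]
    intro h
    rcases hr.dvd_mul.mp h with h | h
    · exact (hpq.trans hqr).ne ((Nat.prime_dvd_prime_iff_eq hr hp).mp h).symm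
    · exact hqr.ne ((Nat.prime_dvd_prime_iff_eq hr hq).mp h).symm
  have hRK : (R : Subgroup G) ≤ K := by
    intro x hx
    rw [← QuotientGroup.eq_one_iff]
    refine orderOf_eq_one_iff.mp (Nat.eq_one_of_dvd_coprimes ((Nat.coprime_primes hr hp).mpr
      (hpq.trans hqr).ne') ((orderOf_map_dvd (QuotientGroup.mk' K) x).trans
        (hRc ▸ (R : Subgroup G).orderOf_dvd_natCard hx)) ?_)
    have := _root_.orderOf_dvd_natCard (QuotientGroup.mk' K x)
    rwa [← Subgroup.index_eq_card, hcompl.symm.index_eq_card, hPc] at this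
  let R' : Sylow r K := R.subtype hRK
  have hn := Cfsg.Lib.Small.sylow_facts R' (a := 1) (m := q) (by rw [hKc]; ring)
    (fun h => hqr.ne ((Nat.prime_dvd_prime_iff_eq hr hq).mp h).symm)
  haveI : Subsingleton (Sylow r K) := Finite.card_le_one_iff_subsingleton.mp (by
    rcases (Nat.dvd_prime hq).mp hn.1 with h | h
    · rw [h]
    · have := hn.2
      rw [h, Nat.mod_eq_of_lt hqr] at this
      omega)
  haveI : (R' : Subgroup K).Normal := Sylow.normal_of_subsingleton R'
  haveI : (R' : Subgroup K).Characteristic := R'.characteristic_of_normal inferInstance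
  have hmap : (R' : Subgroup K).map K.subtype = (R : Subgroup G) := by
    rw [show (R' : Subgroup K) = (R : Subgroup G).subgroupOf K from Sylow.coe_subtype ..,
      Subgroup.subgroupOf_map_subtype, inf_eq_left.mpr hRK]
  rw [← hmap]
  infer_instance

end Cfsg.Agent.S0987
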