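import Cfsg.Statements.S0988
import Cfsg.Agent.Small.Toolkit
import Cfsg.Agent.Small.Orders
import Cfsg.Agent.Small.Orders2
import Cfsg.Agent.Small.FixedPoints
import Cfsg.Agent.Chars.Burnside

set_option autoImplicit false
open Cfsg

namespace Cfsg.Agent.S0988

open Cfsg.Lib.Small

variable {G : Type*} [Group G] [Finite G] [IsSimpleGroup G]

theorem not_two_primes (hnc : ¬ ∀ a b : G, a * b = b * a) (p q a b : ℕ) (hp : p.Prime) (hq : q.Prime)
    (h : Nat.card G = p ^ a * q ^ b) : False := by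
  have := Cfsg.Lib.Chars.burnside_isSolvable p q hp hq G ⟨a, b, h⟩
  exact hnc fun x y => IsSimpleGroup.comm_iff_isSolvable.2 this x y

theorem smallest_not_exact (hnc : ¬ ∀ a b : G, a * b = b * a) (s m : ℕ) (hs : s.Prime)
    (h : Nat.card G = s ^ 1 * m) (hm : ¬ s ∣ m)
    (hmin : ∀ t : ℕ, t.Prime → t ∣ Nat.card G → s ≤ t) : False := by
  have : Fact s.Prime := ⟨hs⟩
  obtain ⟨P⟩ : Nonempty (Sylow s G) := Sylow.nonempty
  have hP := card_sylow_of_factor P h hm
  rw [pow_one] at hP
  refine not_normalizer_le_centralizer hnc (Dvd.intro m (by rw [h, pow_one])) P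
    (le_centralizer_of_coprime hP (Nat.coprime_of_dvd fun k hk h1 h2 => ?_))
  have h3 := hmin k hk (h1.trans (Subgroup.card_subgroup_dvd_card _))
  have h5 := hs.two_le
  have h4 := Nat.le_of_dvd (by omega) h2
  omega

theorem main (hnc : ¬ ∀ a b : G, a * b = b * a) (p q r : ℕ) (hp : p.Prime) (hq : q.Prime) (hr : r.Prime)
    (hpq : p < q) (hqr : q < r) (hG : Nat.card G = p ^ 2 * q * r) : Nat.card G = 60 := by
  have : Fact p.Prime := ⟨hp⟩
  have hpnq : ¬ p ∣ q := fun h => hpq.ne ((Nat.prime_dvd_prime_iff_eq hp hq).1 h)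
  have hpnr : ¬ p ∣ r := fun h => (hpq.trans hqr).ne ((Nat.prime_dvd_prime_iff_eq hp hr).1 h)
  obtain ⟨P⟩ : Nonempty (Sylow p G) := Sylow.nonempty
  have hP : Nat.card ↥(P : Subgroup G) = p ^ 2 :=
    card_sylow_of_factor P (m := q * r) (by rw [hG, mul_assoc]) (fun h => (hp.dvd_mul.1 h).elim hpnq hpnr)
  have hnle := not_normalizer_le_centralizer hnc (by rw [hG]; exact ((dvd_pow_self p two_ne_zero).mul_right q).mul_right r) P
  have hPcomm := IsPGroup.commutative_of_card_eq_prime_sq hP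
  set N := Subgroup.normalizer ((P : Subgroup G) : Set G) with hN
  set C := Subgroup.centralizer ((P : Subgroup G) : Set G) with hC
  -- some element of order `q` or `r` normalises but does not centralise `P`
  have hkey : ∃ s, (s = q ∨ s = r) ∧ ∃ y : G, orderOf y = s ∧ y ∈ N ∧ y ∉ C := by
    by_contra hcon
    push Not at hcon
    refine hnle ?_
    have hPC : (P : Subgroup G) ≤ N ⊓ C := le_inf Subgroup.le_normalizer fun x hx =>
      Subgroup.mem_centralizer_iff.2 fun y hy => congrArg Subtype.val (hPcomm (⟨y, hy⟩ : (P : Subgroup G)) ⟨x, hx⟩)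
    have hstep : ∀ s, s.Prime → (s = q ∨ s = r) → (Nat.card N).gcd s ∣ Nat.card ↥(N ⊓ C) := by
      intro s hs hsq
      rcases Nat.coprime_or_dvd_of_prime hs (Nat.card N) with h | h
      · rw [Nat.gcd_comm, h]; exact one_dvd _
      · have : Fact s.Prime := ⟨hs⟩
        obtain ⟨y, hy⟩ := exists_prime_orderOf_dvd_card' (G := N) s h
        rw [← Subgroup.orderOf_coe] at hy
        have hyC := hcon s hsq _ hy y.2
        refine (Nat.gcd_dvd_right _ _).trans ?_
        rw [← hy, ← Subgroup.orderOf_mk (y : G) (show (y : G) ∈ N ⊓ C from ⟨y.2, hyC⟩)]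
        exact orderOf_dvd_natCard _
    have hdvd : Nat.card N ∣ Nat.card ↥(N ⊓ C) := by
      have hcq : (p ^ 2).Coprime q := (((Nat.coprime_primes hp hq).2 hpq.ne).pow_left 2)
      have hcr : (p ^ 2 * q).Coprime r :=
        (((Nat.coprime_primes hp hr).2 (hpq.trans hqr).ne).pow_left 2).mul_left ((Nat.coprime_primes hq hr).2 hqr.ne)
      have h1 : Nat.card N = (Nat.card N).gcd (p ^ 2 * q * r) :=
        (Nat.gcd_eq_left (hG ▸ Subgroup.card_subgroup_dvd_card N)).symm
      rw [h1, hcr.gcd_mul, hcq.gcd_mul]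
      refine Nat.Coprime.mul_dvd_of_dvd_of_dvd ?_ (Nat.Coprime.mul_dvd_of_dvd_of_dvd ?_
        ((Nat.gcd_dvd_right _ _).trans (hP ▸ Subgroup.card_dvd_of_le hPC)) (hstep q hq (Or.inl rfl)))
        (hstep r hr (Or.inr rfl))
      · exact Nat.Coprime.coprime_dvd_right (Nat.gcd_dvd_right _ _)
          (Nat.Coprime.coprime_dvd_left (mul_dvd_mul (Nat.gcd_dvd_right _ _) (Nat.gcd_dvd_right _ _)) hcr)
      · exact Nat.Coprime.coprime_dvd_right (Nat.gcd_dvd_right _ _)
          (Nat.Coprime.coprime_dvd_left (Nat.gcd_dvd_right _ _) hcq)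
    have := Subgroup.eq_of_le_of_card_ge (inf_le_left : N ⊓ C ≤ N) (Nat.le_of_dvd Nat.card_pos hdvd)
    exact inf_eq_left.1 this
  obtain ⟨s, hsq, y, hy, hyN, hyC⟩ := hkey
  have hs : s.Prime := by rcases hsq with h | h <;> subst h <;> assumption
  have hps : p < s := by rcases hsq with h | h <;> subst h <;> omega
  have : Fact s.Prime := ⟨hs⟩
  obtain ⟨K, hKP, hK, hmod⟩ := card_fixed_modEq hy (P : Subgroup G) hyN
  rw [hP] at hmod
  have hs1 : s ∣ p + 1 := by
    have hps' : ¬ s ∣ p := fun h => absurd (Nat.le_of_dvd hp.pos h) (by omega)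
    have hpm : ¬ s ∣ p - 1 := fun h => absurd (Nat.le_of_dvd (by have := hp.two_le; omega) h) (by omega)
    obtain ⟨i, hi, hKc⟩ := (Nat.dvd_prime_pow hp).1 (hP ▸ Subgroup.card_dvd_of_le hKP)
    rw [hKc] at hmod
    have hle : p ^ i ≤ p ^ 2 := Nat.pow_le_pow_right hp.pos hi
    have hd : s ∣ p ^ 2 - p ^ i := (Nat.modEq_iff_dvd' hle).1 hmod.symm
    interval_cases i
    · rw [show p ^ 2 - p ^ 0 = (p + 1) * (p - 1) by
        rw [pow_zero]; simpa using Nat.sq_sub_sq p 1] at hd
      exact (hs.dvd_mul.1 hd).resolve_right hpm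
    · rw [show p ^ 2 - p ^ 1 = p * (p - 1) by rw [Nat.mul_sub, sq, pow_one, mul_one]] at hd
      exact absurd hd fun h => (hs.dvd_mul.1 h).elim hps' hpm
    · exfalso
      apply hyC
      have hKe : K = (P : Subgroup G) := Subgroup.eq_of_le_of_card_ge hKP (by rw [hKc, hP])
      refine Subgroup.mem_centralizer_iff.2 fun z hz => ?_
      exact (((hK z).1 (hKe ▸ hz)).2).symm
  have hse : s = p + 1 := le_antisymm (Nat.le_of_dvd (by omega) hs1) hps
  have hp2 : p = 2 := by
    by_contra h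
    have h2 : 2 ∣ s := by rw [hse]; exact even_iff_two_dvd.1 ((hp.odd_of_ne_two h).add_one)
    have := (Nat.prime_dvd_prime_iff_eq Nat.prime_two hs).1 h2
    have := hp.two_le
    omega
  subst hp2
  have hq3 : q = 3 := by rcases hsq with h | h <;> omega
  subst hq3
  have h5 : 4 ≤ r := hqr
  have : Fact r.Prime := ⟨hr⟩
  have hrn : ¬ r ∣ 12 := fun h => by
    rcases (Nat.Prime.dvd_mul hr).1 (show r ∣ 4 * 3 from h) with h | h
    · have := (Nat.prime_dvd_prime_iff_eq hr Nat.prime_two).1 (hr.dvd_of_dvd_pow (show r ∣ 2 ^ 2 from h))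
      omega
    · have := (Nat.prime_dvd_prime_iff_eq hr Nat.prime_three).1 h
      omega
  have hG' : Nat.card G = r ^ 1 * 12 := by rw [hG]; ring
  have hrd : r ∣ Nat.card G := ⟨12, by rw [hG', pow_one]⟩
  obtain ⟨R, hR, hdvd, hmod, hNR⟩ := exists_sylow_data hG' hrn
  rw [pow_one] at hR hNR
  have hne := card_sylow_ne_one (p := r) hnc hrd
  generalize hj : Nat.card (Sylow r G) = j at hdvd hmod hne hNR
  have hj12 : j ≤ 12 := Nat.le_of_dvd (by norm_num) hdvd
  have hrj : r ∣ j - 1 := by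
    rw [← hmod]
    exact ⟨j / r, by have := Nat.div_add_mod j r; omega⟩
  have hj0 : j ≠ 0 := by rintro rfl; simp at hdvd
  have hrle : r ≤ 11 := (Nat.le_of_dvd (by omega) hrj).trans (by omega)
  interval_cases j
  all_goals interval_cases r
  all_goals first
    | omega
    | (norm_num at hr; done)
    | (exfalso
       refine not_normalizer_le_centralizer hnc hrd R (le_centralizer_of_coprime hR ?_)
       rw [show Nat.card ↥(Subgroup.normalizer ((R : Subgroup G) : Set G)) = 11 by omega]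
       decide)

/-- If a finite simple group has order p^2 * q * r with p, q and r prime, then its order is 60. -/
theorem result {G : Type*} [Group G] [Finite G] [IsSimpleGroup G] (p q r : ℕ) (hp : p.Prime) (hq : q.Prime) (hr : r.Prime) (hG : Nat.card G = p ^ 2 * q * r) : Nat.card G = 60 := by
  have hnc : ¬ ∀ a b : G, a * b = b * a := not_comm_of_isSimple (not_prime_of_eq hG (p ^ 2) (q * r) (mul_assoc _ _ _)
    (by have := hp.two_le; exact fun h => by nlinarith) (fun h => by have := Nat.eq_one_of_mul_eq_one_right h; exact hq.one_lt.ne' this))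
  have hpq : p ≠ q := fun h => not_two_primes hnc p r 3 1 hp hr (by rw [hG, ← h]; ring)
  have hpr : p ≠ r := fun h => not_two_primes hnc p q 3 1 hp hq (by rw [hG, ← h]; ring)
  have hqr : q ≠ r := fun h => not_two_primes hnc p q 2 2 hp hq (by rw [hG, ← h]; ring)
  have hdiv : ∀ t : ℕ, t.Prime → t ∣ Nat.card G → t = p ∨ t = q ∨ t = r := by
    intro t ht h
    rw [hG] at h
    rcases ht.dvd_mul.1 h with h | h
    · rcases ht.dvd_mul.1 h with h | h
      · exact Or.inl ((Nat.prime_dvd_prime_iff_eq ht hp).1 (ht.dvd_of_dvd_pow h))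
      · exact Or.inr (Or.inl ((Nat.prime_dvd_prime_iff_eq ht hq).1 h))
    · exact Or.inr (Or.inr ((Nat.prime_dvd_prime_iff_eq ht hr).1 h))
  have key : ∀ s u : ℕ, s.Prime → u.Prime → s ≠ p → s ≠ u → s < p → s < u →
      Nat.card G = p ^ 2 * s * u → (∀ t : ℕ, t.Prime → t ∣ Nat.card G → t = p ∨ t = s ∨ t = u) → False := by
    intro s u hs hu hsp hsu hlp hlu hc hd
    refine smallest_not_exact hnc s (p ^ 2 * u) hs (by rw [hc]; ring) (fun h => ?_) fun t ht h => ?_
    · rcases hs.dvd_mul.1 h with h | h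
      · exact hsp ((Nat.prime_dvd_prime_iff_eq hs hp).1 (hs.dvd_of_dvd_pow h))
      · exact hsu ((Nat.prime_dvd_prime_iff_eq hs hu).1 h)
    · rcases hd t ht h with h | h | h <;> omega
  have hG2 : Nat.card G = p ^ 2 * r * q := by rw [hG]; ring
  have hdiv2 : ∀ t : ℕ, t.Prime → t ∣ Nat.card G → t = p ∨ t = r ∨ t = q := fun t ht h => by
    rcases hdiv t ht h with h | h | h <;> simp [h]
  have hlq : p < q := by
    by_contra h
    rcases lt_or_gt_of_ne hqr with h' | h'
    · exact key q r hq hr hpq.symm hqr (by omega) h' hG hdiv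
    · exact key r q hr hq hpr.symm hqr.symm (by omega) h' hG2 hdiv2
  have hlr : p < r := by
    by_contra h
    exact key r q hr hq hpr.symm hqr.symm (by omega) (by omega) hG2 hdiv2
  rcases lt_or_gt_of_ne hqr with h' | h'
  · exact main hnc p q r hp hq hr hlq h' hG
  · exact main hnc p r q hp hr hq hlr h' hG2

end Cfsg.Agent.S0988
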