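import Cfsg.Statements.S0990
import Mathlib
import Cfsg.Agent.Coprime.Basic

set_option autoImplicit false
open Cfsg

namespace Cfsg.Agent.S0990

/-- Let p be an odd prime and P a Sylow p-subgroup of the symmetric group on a finite set with at least two elements. Then P is contained in the alternating group, and twice the order of the normalizer of P inside the alternating group equals the order of the normalizer of P in the symmetric group. -/
theorem result {α : Type*} [Fintype α] [DecidableEq α] (hα : 2 ≤ Fintype.card α) (p : ℕ) [Fact p.Prime] (hp : p ≠ 2) (P : Sylow p (Equiv.Perm α)) : (P : Subgroup (Equiv.Perm α)) ≤ alternatingGroup α ∧ 2 * Nat.card ↥(Subgroup.normalizer ((((P : Subgroup (Equiv.Perm α)).subgroupOf (alternatingGroup α) : Subgroup ↥(alternatingGroup α)) : Set ↥(alternatingGroup α)))) = Nat.card ↥(Subgroup.normalizer ((P : Subgroup (Equiv.Perm α)) : Set (Equiv.Perm α))) := by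
  classical
  haveI : Nontrivial α := Fintype.one_lt_card_iff_nontrivial.mp (by omega)
  have hle : (P : Subgroup (Equiv.Perm α)) ≤ alternatingGroup α := by
    intro x hx
    rw [Equiv.Perm.mem_alternatingGroup]
    obtain ⟨k, hk⟩ := IsPGroup.iff_orderOf.mp P.2 ⟨x, hx⟩
    rw [Subgroup.orderOf_mk] at hk
    have h1 : orderOf (Equiv.Perm.sign x) ∣ p ^ k := hk ▸ orderOf_map_dvd Equiv.Perm.sign x
    have h2 : orderOf (Equiv.Perm.sign x) ∣ 2 := orderOf_dvd_of_pow_eq_one (Int.units_sq _)
    exact orderOf_eq_one_iff.mp (Nat.eq_one_of_dvd_coprimes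
      (((Nat.coprime_primes Fact.out Nat.prime_two).mpr hp).pow_left k) h1 h2)
  refine ⟨hle, ?_⟩
  set A := alternatingGroup α with hA
  set N := Subgroup.normalizer ((P : Subgroup (Equiv.Perm α)) : Set (Equiv.Perm α)) with hN
  let P' : Sylow p A := P.subtype hle
  have hFrat : Subgroup.normalizer (((P' : Subgroup A).map A.subtype : Subgroup _) : Set (Equiv.Perm α)) ⊔ A = ⊤ :=
    Sylow.normalizer_sup_eq_top P'
  have hmap : (P' : Subgroup A).map A.subtype = (P : Subgroup (Equiv.Perm α)) := by
    rw [show (P' : Subgroup A) = (P : Subgroup (Equiv.Perm α)).subgroupOf A from Sylow.coe_subtype ..,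
      Subgroup.subgroupOf_map_subtype, inf_eq_left.mpr hle]
  rw [hmap] at hFrat
  set f := (Equiv.Perm.sign (α := α)).comp N.subtype with hf
  have hsurj : Function.Surjective f := by
    intro u
    obtain ⟨g, hg⟩ := Equiv.Perm.sign_surjective α u
    obtain ⟨n, hn, a, ha, hna⟩ := (Cfsg.Lib.Coprime.mem_sup_of_le_normalizer' (N := A)
      Subgroup.le_normalizer_of_normal).mp (show g ∈ A ⊔ N by rw [sup_comm, hFrat]; exact Subgroup.mem_top g)
    refine ⟨⟨n, hn⟩, ?_⟩
    show Equiv.Perm.sign n = u
    rw [← hg, ← hna, map_mul, Equiv.Perm.mem_alternatingGroup.mp ha, mul_one]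
  have h1 := f.ker.card_mul_index
  rw [Subgroup.index_ker, MonoidHom.range_eq_top.mpr hsurj, Subgroup.card_top,
    show Nat.card ℤˣ = 2 by simp] at h1
  rw [← h1, mul_comm 2]
  congr 1
  apply Nat.card_congr
  have hconj : ∀ a : A, a ∈ Subgroup.normalizer ((((P : Subgroup (Equiv.Perm α)).subgroupOf A : Subgroup A)) : Set A) ↔
      (a : Equiv.Perm α) ∈ N := by
    intro a
    rw [hN, Subgroup.mem_normalizer_iff, Subgroup.mem_normalizer_iff]
    constructor
    · intro h x
      constructor
      · intro hx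
        exact Subgroup.mem_subgroupOf.mp ((h ⟨x, hle hx⟩).mp (Subgroup.mem_subgroupOf.mpr hx))
      · intro hx
        have hxA : x ∈ A := by
          have := A.mul_mem (A.mul_mem (A.inv_mem a.2) (hle hx)) a.2
          simpa [mul_assoc] using this
        exact Subgroup.mem_subgroupOf.mp ((h ⟨x, hxA⟩).mpr (Subgroup.mem_subgroupOf.mpr hx))
    · intro h x
      exact ⟨fun hx => (h _).mp hx, fun hx => (h _).mpr hx⟩
  exact
    { toFun := fun a => ⟨⟨a.1.1, (hconj a.1).mp a.2⟩, Equiv.Perm.mem_alternatingGroup.mp a.1.2⟩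
      invFun := fun a => ⟨⟨a.1.1, Equiv.Perm.mem_alternatingGroup.mpr a.2⟩, (hconj _).mpr a.1.2⟩
      left_inv := fun a => rfl
      right_inv := fun a => rfl }

end Cfsg.Agent.S0990
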