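import Cfsg.Statements.S0995
import Mathlib
import Cfsg.Agent.Chars.Count
import Cfsg.Agent.Small.Toolkit

set_option autoImplicit false
open Cfsg

namespace Cfsg.Agent.S0995

/-- Let G be a finite perfect group containing an element z of prime order p whose centralizer is the cyclic group it generates. Let t be the number of conjugacy classes of elements of order p. Then t divides p - 1, the number of Sylow p-subgroups has the form 1 + n * p, and |G| * t = (p - 1) * p * (1 + n * p). -/
theorem result {G : Type*} [Group G] [Finite G] (hperf : commutator G = ⊤) (p : ℕ) [Fact p.Prime] (z : G) (hz : orderOf z = p) (hC : Subgroup.centralizer ({z} : Set G) = Subgroup.zpowers z) : ∃ n t : ℕ, t = Nat.card {c : ConjClasses G // ∃ g : G, ConjClasses.mk g = c ∧ orderOf g = p} ∧ t ∣ p - 1 ∧ Nat.card (Sylow p G) = 1 + n * p ∧ Nat.card G * t = (p - 1) * p * (1 + n * p) := by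
  classical
  haveI := Fintype.ofFinite G
  have hp : p.Prime := Fact.out
  obtain ⟨P, hzP⟩ := (IsPGroup.of_card (n := 1) (by rw [Nat.card_zpowers, hz, pow_one]) :
    IsPGroup p (Subgroup.zpowers z)).exists_le_sylow
  have hzP' : z ∈ (P : Subgroup G) := hzP (Subgroup.mem_zpowers z)
  have hz1 : z ≠ 1 := fun h => hp.ne_one (by rw [← hz, h, orderOf_one])
  have hPeq : (P : Subgroup G) = Subgroup.zpowers z := by
    refine le_antisymm ?_ hzP
    haveI : Nontrivial (P : Subgroup G) := ⟨⟨⟨z, hzP'⟩, 1, fun h => hz1 (congrArg Subtype.val h)⟩⟩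
    haveI := P.2.center_nontrivial
    obtain ⟨⟨⟨c, hcP⟩, hc⟩, hne⟩ := exists_ne (1 : Subgroup.center (P : Subgroup G))
    have hc1 : c ≠ 1 := fun h => hne (Subtype.ext (Subtype.ext h))
    have hcz : c ∈ Subgroup.zpowers z := hC ▸ Subgroup.mem_centralizer_singleton_iff.mpr
      (congrArg Subtype.val (Subgroup.mem_center_iff.mp hc ⟨z, hzP'⟩)).symm
    have hgen : Subgroup.zpowers c = Subgroup.zpowers z := Subgroup.eq_of_le_of_card_ge
      (Subgroup.zpowers_le.mpr hcz) (by
        rw [Nat.card_zpowers, Nat.card_zpowers, hz]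
        rcases (Nat.dvd_prime hp).mp (hz ▸ orderOf_dvd_of_mem_zpowers hcz) with h | h
        · exact absurd (orderOf_eq_one_iff.mp h) hc1
        · exact h.ge)
    intro x hx
    rw [← hC, Subgroup.mem_centralizer_singleton_iff]
    have hxc : Commute x c := congrArg Subtype.val (Subgroup.mem_center_iff.mp hc ⟨x, hx⟩)
    obtain ⟨i, hi⟩ := Subgroup.mem_zpowers_iff.mp (hgen ▸ Subgroup.mem_zpowers z : z ∈ Subgroup.zpowers c)
    rw [← hi]; exact hxc.zpow_right i
  have hPc : Nat.card (P : Subgroup G) = p := by rw [hPeq, Nat.card_zpowers, hz]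
  set T := {c : ConjClasses G // ∃ g : G, ConjClasses.mk g = c ∧ orderOf g = p}
  haveI := Fintype.ofFinite T
  set N := Subgroup.normalizer ((P : Subgroup G) : Set G) with hN
  have hn1 : Nat.card (Sylow p G) % p = 1 := by
    have h1 : Nat.card (Sylow p G) % p = 1 % p := card_sylow_modEq_one p G
    rwa [Nat.mod_eq_of_lt hp.one_lt] at h1
  obtain ⟨n, hn⟩ : ∃ n, Nat.card (Sylow p G) = 1 + n * p :=
    ⟨Nat.card (Sylow p G) / p, by
      have := Nat.mod_add_div (Nat.card (Sylow p G)) p
      rw [mul_comm]; omega⟩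
  -- a centralizer of an element of order p has order p
  have hcent : ∀ g : G, orderOf g = p → Nat.card (Subgroup.centralizer ({g} : Set G)) = p := by
    intro g hg
    obtain ⟨Q, hQ⟩ := (IsPGroup.of_card (n := 1) (by rw [Nat.card_zpowers, hg, pow_one]) :
      IsPGroup p (Subgroup.zpowers g)).exists_le_sylow
    obtain ⟨a, ha⟩ := MulAction.exists_smul_eq G Q P
    have h1 : a * g * a⁻¹ ∈ Subgroup.zpowers z := by
      rw [← hPeq, ← ha, Sylow.coe_subgroup_smul]
      exact ⟨g, hQ (Subgroup.mem_zpowers g), rfl⟩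
    set w := a * g * a⁻¹
    have hw : orderOf w = p := ((MulAut.conj a).orderOf_eq g).trans hg
    have hgen : Subgroup.zpowers w = Subgroup.zpowers z := Subgroup.eq_of_le_of_card_ge
      (Subgroup.zpowers_le.mpr h1) (by rw [Nat.card_zpowers, Nat.card_zpowers, hw, hz])
    have hCw : Subgroup.centralizer ({w} : Set G) = Subgroup.zpowers z := by
      rw [← hC, ← Subgroup.centralizer_closure, ← Subgroup.zpowers_eq_closure, hgen,
        Subgroup.zpowers_eq_closure, Subgroup.centralizer_closure]
    have h2 := Cfsg.Lib.Chars.card_isConj g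
    have h3 := Cfsg.Lib.Chars.card_isConj w
    rw [hCw] at h3
    have h4 : (Subgroup.centralizer ({g} : Set G)).index = (Subgroup.zpowers z).index := by
      rw [← h2, ← h3]
      exact Nat.card_congr (Equiv.subtypeEquivRight fun x =>
        ⟨fun h => (isConj_iff.mpr ⟨a, rfl⟩ : IsConj g w).symm.trans h,
          fun h => (isConj_iff.mpr ⟨a, rfl⟩ : IsConj g w).trans h⟩)
    have h5 := (Subgroup.centralizer ({g} : Set G)).index_mul_card
    rw [h4, ← (Subgroup.zpowers z).index_mul_card, Nat.card_zpowers, hz] at h5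
    exact Nat.eq_of_mul_eq_mul_left (Nat.pos_of_ne_zero Subgroup.index_ne_zero_of_finite) h5
  -- elements of order p by classes
  have hcount1 : Nat.card {g : G // orderOf g = p} * p = Nat.card T * Nat.card G := by
    let F : {g : G // orderOf g = p} → T := fun g => ⟨ConjClasses.mk g.1, g.1, rfl, g.2⟩
    rw [← Nat.card_congr (Equiv.sigmaFiberEquiv F), Nat.card_sigma, Finset.sum_mul,
      Nat.card_eq_fintype_card (α := T)]
    refine Finset.sum_const_nat fun c _ => ?_
    obtain ⟨g, hgc, hg⟩ := c.2
    have hfib : Nat.card {x // F x = c} = Nat.card {x : G // IsConj g x} := Nat.card_congr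
      { toFun := fun x => ⟨x.1.1, ConjClasses.mk_eq_mk_iff_isConj.mp
          (hgc.trans (congrArg Subtype.val x.2).symm)⟩
        invFun := fun x => ⟨⟨x.1, by
          obtain ⟨a, ha⟩ := isConj_iff.mp x.2
          rw [← ha]; exact ((MulAut.conj a).orderOf_eq g).trans hg⟩,
          Subtype.ext ((ConjClasses.mk_eq_mk_iff_isConj.mpr x.2).symm.trans hgc)⟩
        left_inv := fun x => rfl
        right_inv := fun x => rfl }
    rw [hfib, Cfsg.Lib.Chars.card_isConj]
    have := (Subgroup.centralizer ({g} : Set G)).index_mul_card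
    rwa [hcent g hg] at this
  -- elements of order p by Sylow subgroups
  have hcount2 : Nat.card {g : G // orderOf g = p} = Nat.card (Sylow p G) * (p - 1) := by
    let F : (Σ Q : Sylow p G, {x : (Q : Subgroup G) // x ≠ 1}) → {g : G // orderOf g = p} := fun q =>
      ⟨q.2.1, by
        have hQc : Nat.card (q.1 : Subgroup G) = p := (Nat.card_congr (Sylow.equiv q.1 P).toEquiv).trans hPc
        rw [Subgroup.orderOf_coe]
        rcases (Nat.dvd_prime hp).mp (hQc ▸ orderOf_dvd_natCard q.2.1) with h | h
        · exact absurd (orderOf_eq_one_iff.mp h) q.2.2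
        · exact h⟩
    have hF : Function.Bijective F := by
      constructor
      · rintro ⟨Q, ⟨x, hx⟩, hx1⟩ ⟨R, ⟨y, hy⟩, hy1⟩ he
        have hxy : x = y := congrArg Subtype.val he
        subst hxy
        have hx1' : x ≠ 1 := fun h => hx1 (Subtype.ext h)
        have hQR : R = Q := Cfsg.Lib.Small.sylow_fixed_eq
          ((Nat.card_congr (Sylow.equiv Q P).toEquiv).trans hPc) hx hx1'
          (Sylow.smul_eq_iff_mem_normalizer.mpr (Subgroup.le_normalizer hy))
        subst hQR
        rfl
      · rintro ⟨g, hg⟩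
        obtain ⟨Q, hQ⟩ := (IsPGroup.of_card (n := 1) (by rw [Nat.card_zpowers, hg, pow_one]) :
          IsPGroup p (Subgroup.zpowers g)).exists_le_sylow
        exact ⟨⟨Q, ⟨g, hQ (Subgroup.mem_zpowers g)⟩, fun h => hp.ne_one (by
          rw [← hg, show g = 1 from congrArg Subtype.val h, orderOf_one])⟩, rfl⟩
    rw [← Nat.card_congr (Equiv.ofBijective F hF), Nat.card_sigma]
    rw [Finset.sum_const_nat (m := p - 1)]
    · rw [Finset.card_univ, Nat.card_eq_fintype_card (α := Sylow p G)]
    intro Q _
    haveI := Fintype.ofFinite (Q : Subgroup G)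
    rw [Nat.card_eq_fintype_card, Fintype.card_subtype_compl, Fintype.card_subtype_eq,
      ← Nat.card_eq_fintype_card, (Nat.card_congr (Sylow.equiv Q P).toEquiv).trans hPc]
  have hmain : Nat.card G * Nat.card T = (p - 1) * p * (1 + n * p) := by
    rw [mul_comm (Nat.card G), ← hcount1, hcount2, hn]; ring
  refine ⟨n, Nat.card T, rfl, ?_, hn, hmain⟩
  have hNd : p ∣ Nat.card N := hPc ▸ Subgroup.card_dvd_of_le Subgroup.le_normalizer
  obtain ⟨e, he⟩ := hNd
  have hG : Nat.card G = p * e * (1 + n * p) := by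
    rw [← he, ← hn]; exact (Cfsg.Lib.Small.card_normalizer_mul P).symm
  rw [hG] at hmain
  have h6 : Nat.card T * e * (p * (1 + n * p)) = (p - 1) * (p * (1 + n * p)) := by linarith
  exact ⟨e, (Nat.eq_of_mul_eq_mul_right (Nat.mul_pos hp.pos (by omega)) h6).symm⟩

end Cfsg.Agent.S0995
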