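import Cfsg.Statements.S1001
import Cfsg.Agent.S0904
import Cfsg.Agent.Chars.Burnside
-- import your own Cfsg.Agent.* helpers here

set_option autoImplicit false
open Cfsg

namespace Cfsg.Agent.S1001

/-- In a finite simple group whose order has the form p * 3^a * 2^b with p prime, the centralizer of any element of order p is the cyclic group it generates. -/
theorem result {G : Type*} [Group G] [Finite G] [IsSimpleGroup G] (p a b : ℕ) (hp : p.Prime) (hG : Nat.card G = p * 3 ^ a * 2 ^ b) (x : G) (hx : orderOf x = p) : Subgroup.centralizer ({x} : Set G) = Subgroup.zpowers x := by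
  haveI := Fact.mk hp
  have hxx : Subgroup.zpowers x ≤ Subgroup.centralizer ({x} : Set G) := by
    rw [Subgroup.zpowers_le, Subgroup.mem_centralizer_singleton_iff]
  by_cases hab : ∀ u v : G, u * v = v * u
  · letI : CommGroup G := { mul_comm := hab }
    have hprime : (Nat.card G).Prime := IsSimpleGroup.prime_card
    have hpG : p = Nat.card G :=
      (Nat.prime_dvd_prime_iff_eq hp hprime).1 (hx ▸ orderOf_dvd_natCard x)
    rw [Subgroup.eq_top_of_card_eq (Subgroup.zpowers x) (by rw [Nat.card_zpowers, hx, hpG])] at hxx ⊢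
    exact le_antisymm le_top hxx
  have hns : ¬ IsSolvable G := fun h => hab fun u v => (IsSimpleGroup.comm_iff_isSolvable (G := G)).2 h u v
  have hp3 : p ≠ 3 := by
    rintro rfl
    exact hns (Cfsg.Lib.Chars.burnside_isSolvable 3 2 Nat.prime_three Nat.prime_two G ⟨a + 1, b, by rw [hG]; ring⟩)
  have hp2 : p ≠ 2 := by
    rintro rfl
    exact hns (Cfsg.Lib.Chars.burnside_isSolvable 3 2 Nat.prime_three Nat.prime_two G ⟨a, b + 1, by rw [hG]; ring⟩)
  obtain ⟨S, hS⟩ := IsPGroup.exists_le_sylow
    (IsPGroup.of_card (p := p) (n := 1) (by rw [Nat.card_zpowers, hx, pow_one]) : IsPGroup p (Subgroup.zpowers x))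
  have hself := Cfsg.Agent.S0904.result 3 2 p a b Nat.prime_three Nat.prime_two (by norm_num)
    (Ne.symm hp3) (Ne.symm hp2) (by rw [hG]; ring) S
  have hcard : Nat.card (S : Subgroup G) = p := by
    rw [S.card_eq_multiplicity, hG,
      Nat.factorization_mul (mul_ne_zero hp.ne_zero (pow_ne_zero _ (by norm_num))) (pow_ne_zero _ (by norm_num)),
      Nat.factorization_mul hp.ne_zero (pow_ne_zero _ (by norm_num)), Finsupp.add_apply, Finsupp.add_apply,
      Nat.prime_three.factorization_pow, Nat.prime_two.factorization_pow, hp.factorization,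
      Finsupp.single_eq_of_ne hp3, Finsupp.single_eq_of_ne hp2, Finsupp.single_eq_same]
    simp
  have heq : Subgroup.zpowers x = (S : Subgroup G) :=
    Subgroup.eq_of_le_of_card_ge hS (by rw [hcard, Nat.card_zpowers, hx])
  refine le_antisymm (le_trans ?_ (hself.le.trans heq.ge)) hxx
  intro c hc
  rw [Subgroup.mem_centralizer_iff]
  intro y hy
  obtain ⟨k, rfl⟩ := Subgroup.mem_zpowers_iff.1 (heq.ge hy)
  exact ((show Commute x c from (Subgroup.mem_centralizer_singleton_iff.1 hc).symm).zpow_left k).eq

end Cfsg.Agent.S1001
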