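import Cfsg.Statements.S1005
import Mathlib
import Cfsg.Agent.Small.Order168

set_option autoImplicit false
open Cfsg

namespace Cfsg.Agent.S1005

/-- In a simple group of order 168 every element has order 1, 2, 3, 4 or 7; there are exactly 21 elements of order 2, and any two of them are conjugate. -/
theorem result {G : Type*} [Group G] [Finite G] [IsSimpleGroup G] (h : Nat.card G = 168) : (∀ g : G, orderOf g = 1 ∨ orderOf g = 2 ∨ orderOf g = 3 ∨ orderOf g = 4 ∨ orderOf g = 7) ∧ Nat.card {g : G // orderOf g = 2} = 21 ∧ ∀ s t : G, orderOf s = 2 → orderOf t = 2 → IsConj s t := by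
  haveI : Fact (Nat.Prime 2) := ⟨Nat.prime_two⟩
  refine ⟨fun g => ?_, (Cfsg.Lib.Small.Order168.two_structure h).1, fun s t hs ht => Cfsg.Lib.Small.Order168.conj_two h hs ht⟩
  rcases Cfsg.Lib.Small.Order168.orderOf_three_or h g with h1 | h1 | h1
  · simp [h1]
  · simp [h1]
  · have hle := Nat.le_of_dvd (by norm_num) h1
    have h8 : orderOf g ≠ 8 := by
      intro hg
      obtain ⟨T, hT⟩ := (IsPGroup.of_card (n := 3) (by rw [Nat.card_zpowers, hg]; norm_num) :
        IsPGroup 2 (Subgroup.zpowers g)).exists_le_sylow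
      have hz : Subgroup.zpowers g = (T : Subgroup G) :=
        Subgroup.eq_of_le_of_card_ge hT (by rw [Cfsg.Lib.Small.Order168.sylow_two_card h T, Nat.card_zpowers, hg])
      obtain ⟨u, hu, v, hv, huv⟩ := Cfsg.Lib.Small.Order168.not_comm_two h T
      rw [← hz] at hu hv
      obtain ⟨i, rfl⟩ := Subgroup.mem_zpowers_iff.mp hu
      obtain ⟨j, rfl⟩ := Subgroup.mem_zpowers_iff.mp hv
      exact huv (((Commute.refl g).zpow_zpow i j).eq)
    generalize orderOf g = n at h1 hle h8 ⊢
    interval_cases n <;> omega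

end Cfsg.Agent.S1005
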