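import Cfsg.Statements.S1007
import Mathlib
import Cfsg.Agent.Small.Order168

set_option autoImplicit false
open Cfsg

namespace Cfsg.Agent.S1007

/-- Let G be a simple group of order 168 and T a Sylow 2-subgroup. Then T contains exactly two subgroups that are Klein four-groups; they are not conjugate in G; and the normalizer of every Klein four-subgroup of G is isomorphic to the symmetric group of degree 4. -/
theorem result {G : Type*} [Group G] [Finite G] [IsSimpleGroup G] (h : Nat.card G = 168) (T : Sylow 2 G) : Nat.card {U : Subgroup G // U ≤ (T : Subgroup G) ∧ IsKleinFour ↥U} = 2 ∧ (∀ U W : Subgroup G, U ≤ (T : Subgroup G) → W ≤ (T : Subgroup G) → IsKleinFour ↥U → IsKleinFour ↥W → U ≠ W → ∀ g : G, U.map (MulAut.conj g).toMonoidHom ≠ W) ∧ ∀ U : Subgroup G, IsKleinFour ↥U → Nonempty (↥(Subgroup.normalizer (U : Set G)) ≃* Equiv.Perm (Fin 4)) := by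
  haveI : Fact (Nat.Prime 2) := ⟨Nat.prime_two⟩
  obtain ⟨U₁, U₂, hne, h1, h2, hK1, hK2, hall⟩ := Cfsg.Lib.Small.Order168.klein_two h T
  refine ⟨?_, fun U W hU hW hUk hWk hUW g => ?_, fun U hU => ?_⟩
  · have hset : {U : Subgroup G | U ≤ (T : Subgroup G) ∧ IsKleinFour U} = {U₁, U₂} := by
      ext U
      refine ⟨fun hu => hall U hu.1 hu.2, ?_⟩
      rintro (rfl | rfl)
      exacts [⟨h1, hK1⟩, ⟨h2, hK2⟩]
    show Nat.card ↥{U : Subgroup G | U ≤ (T : Subgroup G) ∧ IsKleinFour U} = 2
    rw [Nat.card_coe_set_eq, hset, Set.ncard_pair hne]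
  · haveI := hUk; haveI := hWk
    exact Cfsg.Lib.Small.Order168.klein_not_conj h hU hW hUW g
  · haveI := hU
    exact (Cfsg.Lib.Small.Order168.normalizer_klein h U).2

end Cfsg.Agent.S1007
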