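import Cfsg.Statements.S1008
import Mathlib
import Cfsg.Agent.Small.Order168

set_option autoImplicit false
open Cfsg

namespace Cfsg.Agent.S1008

/-- In a simple group of order 168 every maximal subgroup is either isomorphic to the symmetric group of degree 4 or non-abelian of order 21; the maximal subgroups of order 21 form one conjugacy class and those isomorphic to the symmetric group of degree 4 form exactly two conjugacy classes. -/
theorem result {G : Type*} [Group G] [Finite G] [IsSimpleGroup G] (h : Nat.card G = 168) : (∀ M : Subgroup G, IsCoatom M → Nonempty (↥M ≃* Equiv.Perm (Fin 4)) ∨ (Nat.card ↥M = 21 ∧ ¬ IsMulCommutative ↥M)) ∧ (∀ M M' : Subgroup G, IsCoatom M → IsCoatom M' → Nat.card ↥M = 21 → Nat.card ↥M' = 21 → ∃ g : G, M' = M.map (MulAut.conj g).toMonoidHom) ∧ ∃ M₁ M₂ : Subgroup G, IsCoatom M₁ ∧ IsCoatom M₂ ∧ Nonempty (↥M₁ ≃* Equiv.Perm (Fin 4)) ∧ Nonempty (↥M₂ ≃* Equiv.Perm (Fin 4)) ∧ (∀ g : G, M₂ ≠ M₁.map (MulAut.conj g).toMonoidHom) ∧ ∀ M : Subgroup G, IsCoatom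 M → Nonempty (↥M ≃* Equiv.Perm (Fin 4)) → ∃ g : G, M = M₁.map (MulAut.conj g).toMonoidHom ∨ M = M₂.map (MulAut.conj g).toMonoidHom := by
  haveI : Fact (Nat.Prime 2) := ⟨Nat.prime_two⟩
  haveI : Fact (Nat.Prime 7) := ⟨by norm_num⟩
  have hmap : ∀ (g : G) (H : Subgroup G),
      Subgroup.normalizer ((H.map (MulAut.conj g).toMonoidHom : Subgroup G) : Set G) =
        (Subgroup.normalizer (H : Set G)).map (MulAut.conj g).toMonoidHom := fun g H =>
    Cfsg.Lib.Coprime.normalizer_conjMap g H
  obtain ⟨T⟩ : Nonempty (Sylow 2 G) := inferInstance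
  obtain ⟨U₁, U₂, hne, h1, h2, hK1, hK2, hall⟩ := Cfsg.Lib.Small.Order168.klein_two h T
  haveI := hK1; haveI := hK2
  refine ⟨fun M hM => ?_, fun M M' hM hM' hc hc' => ?_, _, _, Cfsg.Lib.Small.Order168.coatom_klein h U₁, Cfsg.Lib.Small.Order168.coatom_klein h U₂,
    (Cfsg.Lib.Small.Order168.normalizer_klein h U₁).2, (Cfsg.Lib.Small.Order168.normalizer_klein h U₂).2, ?_, ?_⟩
  · rcases Cfsg.Lib.Small.Order168.maximal h hM with ⟨U, hU, rfl⟩ | ⟨hc, hab, -⟩
    · haveI := hU
      exact Or.inl (Cfsg.Lib.Small.Order168.normalizer_klein h U).2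
    · exact Or.inr ⟨hc, hab⟩
  · have aux : ∀ X : Subgroup G, IsCoatom X → Nat.card X = 21 →
        ∃ Q : Sylow 7 G, X = Subgroup.normalizer ((Q : Subgroup G) : Set G) := by
      intro X hX hXc
      rcases Cfsg.Lib.Small.Order168.maximal h hX with ⟨U, hU, rfl⟩ | ⟨-, -, hQ⟩
      · haveI := hU
        rw [(Cfsg.Lib.Small.Order168.normalizer_klein h U).1] at hXc
        omega
      · exact hQ
    obtain ⟨Q, rfl⟩ := aux M hM hc
    obtain ⟨Q', rfl⟩ := aux M' hM' hc'
    obtain ⟨g, hg⟩ := MulAction.exists_smul_eq G Q Q'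
    exact ⟨g, by rw [← hmap, ← hg, Sylow.coe_subgroup_smul, Cfsg.Lib.Coprime.conj_smul_eq]⟩
  · -- the two classes differ
    intro g he
    set N := Subgroup.normalizer (U₂ : Set G) with hN
    set W := U₁.map (MulAut.conj g).toMonoidHom with hW
    have hWN : N ≤ Subgroup.normalizer (W : Set G) := by rw [hW, hmap, ← he]
    have hle2 : U₂ ≤ N := Subgroup.le_normalizer
    have hWle : W ≤ N := by
      rw [he, hW]
      exact Subgroup.map_mono Subgroup.le_normalizer
    have hUW : W ≠ U₂ := Cfsg.Lib.Small.Order168.klein_not_conj h h1 h2 hne g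
    -- the product of two normal four groups would be a normal Sylow subgroup
    have hWc : Nat.card W = 4 := by
      rw [hW, Subgroup.card_map_of_injective (MulAut.conj g).injective, IsKleinFour.card_four (G := U₁)]
    have hW2 : IsPGroup 2 W := IsPGroup.of_card (n := 2) (by rw [hWc]; norm_num)
    have hsup : IsPGroup 2 ↥(W ⊔ U₂) :=
      hW2.to_sup_of_normal_right' (Cfsg.Lib.Small.Order168.klein_isPGroup U₂) hWle
    obtain ⟨R, hR⟩ := hsup.exists_le_sylow
    have hR8 := Cfsg.Lib.Small.Order168.sylow_two_card h R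
    have hlt : 4 < Nat.card ↥(W ⊔ U₂) := by
      rw [← hWc]
      refine lt_of_le_of_ne (Subgroup.card_le_of_le le_sup_left) fun heq => hUW ?_
      have e1 : W ⊔ U₂ = W := (Subgroup.eq_of_le_of_card_ge le_sup_left heq.ge).symm
      exact (Subgroup.eq_of_le_of_card_ge (sup_eq_left.mp e1) (by rw [hWc, IsKleinFour.card_four (G := U₂)])).symm
    have hReq : W ⊔ U₂ = (R : Subgroup G) := by
      refine Subgroup.eq_of_le_of_card_ge hR ?_
      have hd := Subgroup.card_dvd_of_le hR
      rw [hR8] at hd ⊢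
      have hle := Nat.le_of_dvd (by norm_num) hd
      generalize Nat.card ↥(W ⊔ U₂) = n at hd hlt hle ⊢
      interval_cases n <;> omega
    have hnorm : N ≤ Subgroup.normalizer ((R : Subgroup G) : Set G) := by
      rw [← hReq]
      exact Cfsg.Lib.Coprime.le_normalizer_sup hWN le_rfl
    have hcard := Subgroup.card_le_of_le hnorm
    rw [Cfsg.Lib.Small.Order168.normalizer_two h R, hR8, hN, (Cfsg.Lib.Small.Order168.normalizer_klein h U₂).1] at hcard
    omega
  · intro M hM hiso
    rcases Cfsg.Lib.Small.Order168.maximal h hM with ⟨U, hU, rfl⟩ | ⟨hc, -, -⟩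
    · haveI := hU
      obtain ⟨R, hR⟩ := Cfsg.Lib.Small.Order168.exists_sylow_klein U
      obtain ⟨g, hg⟩ := MulAction.exists_smul_eq G R T
      set W := U.map (MulAut.conj g).toMonoidHom with hW
      have hWT : W ≤ (T : Subgroup G) := by
        rw [← hg, Sylow.coe_subgroup_smul, Cfsg.Lib.Coprime.conj_smul_eq]
        exact Subgroup.map_mono hR
      have hWk : IsKleinFour W := by
        let e : U ≃* W := U.equivMapOfInjective _ (MulAut.conj g).injective
        exact ⟨(Nat.card_congr e.toEquiv).symm.trans IsKleinFour.card_four,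
          (Monoid.exponent_eq_of_mulEquiv e).symm.trans IsKleinFour.exponent_two⟩
      have hback : U = W.map (MulAut.conj g⁻¹).toMonoidHom :=
        (Cfsg.Lib.Coprime.conjMap_inv_conjMap g U).symm
      refine ⟨g⁻¹, ?_⟩
      rcases hall W hWT hWk with hw | hw
      · left; rw [hback, hmap, hw]
      · right; rw [hback, hmap, hw]
    · obtain ⟨e⟩ := hiso
      have := Nat.card_congr e.toEquiv
      rw [hc, Nat.card_perm, Nat.card_fin] at this
      norm_num [Nat.factorial] at this

end Cfsg.Agent.S1008
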