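import Cfsg.Statements.S1018
import Mathlib
import Cfsg.Agent.Coprime.Basic

set_option autoImplicit false
open Cfsg

namespace Cfsg.Agent.S1018

/-- Let P be a Sylow p-subgroup of order p of a finite group G, and consider the action of G on the left cosets of the normalizer N of P. Then every element of order p fixes exactly one coset, and an element of N that does not centralize P fixes at most as many cosets as there are orbits of P. -/
theorem result {G : Type*} [Group G] [Finite G] (p : ℕ) [Fact p.Prime] (P : Sylow p G) (hP : Nat.card ↥(P : Subgroup G) = p) : (∀ y : G, orderOf y = p → Nat.card (MulAction.fixedBy (G ⧸ Subgroup.normalizer ((P : Subgroup G) : Set G)) y) = 1) ∧ ∀ x : G, x ∈ Subgroup.normalizer ((P : Subgroup G) : Set G) → x ∉ Subgroup.centralizer ((P : Subgroup G) : Set G) → Nat.card (MulAction.fixedBy (G ⧸ Subgroup.normalizer ((P : Subgroup G) : Set G)) x) ≤ Nat.card (MulAction.orbitRel.Quotient ↥(P : Subgroup G) (G ⧸ Subgroup.normalizer ((P : Subgroup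 G) : Set G))) := by
  classical
  set N := Subgroup.normalizer ((P : Subgroup G) : Set G) with hN
  have hp : p.Prime := Fact.out
  have hfix : ∀ (y g : G), y • (g : G ⧸ N) = (g : G ⧸ N) ↔ g⁻¹ * y * g ∈ N := by
    intro y g
    show ((y * g : G) : G ⧸ N) = _ ↔ _
    rw [eq_comm, QuotientGroup.eq, mul_assoc]
  have hmem : ∀ y : G, orderOf y = p → y ∈ N → y ∈ (P : Subgroup G) := by
    intro y hy hyN
    have hp' : IsPGroup p (Subgroup.zpowers y) :=
      IsPGroup.of_card (n := 1) (by rw [Nat.card_zpowers, hy, pow_one])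
    have h := P.3 (hp'.to_sup_of_normal_right' P.2 (Subgroup.zpowers_le.mpr hyN)) le_sup_right
    exact h ▸ Subgroup.mem_sup_left (Subgroup.mem_zpowers y)
  have hgen : ∀ u : G, u ∈ (P : Subgroup G) → u ≠ 1 → Subgroup.zpowers u = (P : Subgroup G) :=
    fun u hu hu1 => Subgroup.eq_of_le_of_card_ge (Subgroup.zpowers_le.mpr hu) (by
      rw [hP, Nat.card_zpowers]
      rcases (Nat.dvd_prime hp).mp (hP ▸ (P : Subgroup G).orderOf_dvd_natCard hu) with h | h
      · exact absurd (orderOf_eq_one_iff.mp h) hu1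
      · exact h.ge)
  refine ⟨fun y hy => ?_, fun x hx hxC => ?_⟩
  · obtain ⟨T, hT⟩ := (IsPGroup.of_card (n := 1) (by rw [Nat.card_zpowers, hy, pow_one]) :
      IsPGroup p (Subgroup.zpowers y)).exists_le_sylow
    obtain ⟨g, hg⟩ := MulAction.exists_smul_eq G P T
    have hgy : g⁻¹ * y * g ∈ (P : Subgroup G) := by
      have h1 : y ∈ (T : Subgroup G) := hT (Subgroup.mem_zpowers y)
      rw [← hg, Sylow.coe_subgroup_smul, Cfsg.Lib.Coprime.conj_smul_eq] at h1
      exact Cfsg.Lib.Coprime.mem_conjMap.mp h1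
    rw [Nat.card_eq_one_iff_unique]
    refine ⟨⟨?_⟩, ⟨⟨(g : G ⧸ N), (hfix y g).mpr (Subgroup.le_normalizer hgy)⟩⟩⟩
    have key : ∀ b : G ⧸ N, y • b = b → b = (g : G ⧸ N) := by
      intro b hb
      obtain ⟨h, rfl⟩ := QuotientGroup.mk_surjective b
      have hy1 : y ≠ 1 := fun h0 => hp.ne_one (by rw [← hy, h0, orderOf_one])
      have h1 : h⁻¹ * y * h ∈ (P : Subgroup G) := hmem _ (by
        have := (MulAut.conj h⁻¹).orderOf_eq y
        rw [MulAut.conj_apply, inv_inv] at this
        rw [this, hy]) ((hfix y h).mp hb)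
      rw [QuotientGroup.eq]
      have hne : ∀ a : G, a⁻¹ * y * a ≠ 1 := fun a h0 => hy1 (by
        have := congrArg (fun z => a * z * a⁻¹) h0
        simpa [mul_assoc] using this)
      refine Cfsg.Lib.Coprime.conjMap_eq_self_iff.mp ?_
      refine Subgroup.eq_of_le_of_card_ge ?_ (Cfsg.Lib.Coprime.card_conjMap _ _).ge
      intro z hz
      rw [Cfsg.Lib.Coprime.mem_conjMap, ← hgen _ hgy (hne g)] at hz
      obtain ⟨i, hi⟩ := Subgroup.mem_zpowers_iff.mp hz
      have : z = (h⁻¹ * y * h) ^ i := by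
        calc z = h⁻¹ * g * ((h⁻¹ * g)⁻¹ * z * (h⁻¹ * g)) * (h⁻¹ * g)⁻¹ := by group
          _ = h⁻¹ * g * (g⁻¹ * y * g) ^ i * (h⁻¹ * g)⁻¹ := by rw [hi]
          _ = (h⁻¹ * g * (g⁻¹ * y * g) * (h⁻¹ * g)⁻¹) ^ i := conj_zpow.symm
          _ = (h⁻¹ * y * h) ^ i := by group
      rw [this]
      exact zpow_mem h1 i
    exact fun a b => Subtype.ext ((key a a.2).trans (key b b.2).symm)
  · refine Nat.card_le_card_of_injective
      (fun c => Quotient.mk (MulAction.orbitRel (P : Subgroup G) (G ⧸ N)) c.1) fun a b hab => ?_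
    obtain ⟨⟨u, hu⟩, hub⟩ := MulAction.orbitRel_apply.mp (Quotient.exact hab)
    replace hub : u • b.1 = a.1 := hub
    apply Subtype.ext
    rw [← hub]
    by_cases hu1 : u = 1
    · rw [hu1, one_smul]
    set w := u⁻¹ * (x * u * x⁻¹) with hw
    have hwP : w ∈ (P : Subgroup G) := mul_mem (inv_mem hu) ((Subgroup.mem_normalizer_iff.mp hx u).mp hu)
    have hwfix : w • b.1 = b.1 := by
      have hb : x • b.1 = b.1 := b.2
      have ha : x • (u • b.1) = u • b.1 := hub.symm ▸ a.2
      have hb' : x⁻¹ • b.1 = b.1 := by rw [inv_smul_eq_iff, hb]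
      rw [hw, mul_smul, mul_smul, mul_smul, hb', ha, inv_smul_smul]
    have hw1 : w ≠ 1 := by
      intro h
      rw [hw, inv_mul_eq_one, eq_mul_inv_iff_mul_eq] at h
      refine hxC (Subgroup.mem_centralizer_iff.mpr fun z hz => ?_)
      rw [SetLike.mem_coe, ← hgen u hu hu1] at hz
      obtain ⟨i, rfl⟩ := Subgroup.mem_zpowers_iff.mp hz
      exact ((show Commute u x from h).zpow_left i).eq
    have : u ∈ Subgroup.zpowers w := (hgen w hwP hw1).symm ▸ hu
    exact smul_eq_self_of_mem_zpowers this hwfix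

end Cfsg.Agent.S1018
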