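import Cfsg.Agent.Small.FixedPoints
import Cfsg.Statements.S1019
import Mathlib

set_option autoImplicit false
open Cfsg

namespace Cfsg.Agent.S1019

/-- Let H be a subgroup of a finite group G and x an element of H. In the action of G on the left cosets of H, the number of cosets fixed by x, multiplied by the size of the conjugacy class of x, equals the index of H multiplied by the number of conjugates of x that lie in H. -/
theorem result {G : Type*} [Group G] [Finite G] (H : Subgroup G) (x : G) (hx : x ∈ H) : Nat.card (MulAction.fixedBy (G ⧸ H) x) * Nat.card {g : G // IsConj x g} = H.index * Nat.card {g : G // IsConj x g ∧ g ∈ H} := by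
  have h := Cfsg.Lib.Small.card_fixedBy_mul_card_conj (α := G ⧸ H) ((1 : G) : G ⧸ H) x
  rw [h, Subgroup.index]
  congr 1
  refine Nat.card_congr (Equiv.subtypeEquivRight fun g => and_congr_right fun _ => ?_)
  change ((g * 1 : G) : G ⧸ H) = ((1 : G) : G ⧸ H) ↔ g ∈ H
  rw [QuotientGroup.eq]
  simp

end Cfsg.Agent.S1019
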