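import Cfsg.Statements.S1021
import Cfsg.Agent.Components.Recognition.PSLUnique
-- import your own Cfsg.Agent.* helpers here

set_option autoImplicit false
open Cfsg

namespace Cfsg.Agent.S1021

local instance factPrime19 : Fact (Nat.Prime 19) := ⟨by norm_num⟩

theorem check19 : Cfsg.Lib.Components.PSLUnique.check 19 2 4 false = true := by decide +kernel

/-- A simple group of order 3420 is isomorphic to the projective special linear group of dimension 2 over the field with 19 elements. -/
theorem result {G : Type*} [Group G] [Finite G] [IsSimpleGroup G] (h : Nat.card G = 3420) {F : Type*} [Field F] [Fintype F] (hF : Fintype.card F = 19) : Nonempty (G ≃* Matrix.ProjectiveSpecialLinearGroup (Fin 2) F) := by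
  have hnc : ¬ ∀ a b : G, a * b = b * a :=
    Cfsg.Lib.Small.not_comm_of_isSimple (by rw [h]; norm_num)
  have hn : Nat.card (Sylow 19 G) = 19 + 1 := by
    obtain ⟨P⟩ : Nonempty (Sylow 19 G) := inferInstance
    obtain ⟨h1, h2⟩ := Cfsg.Lib.Small.sylow_facts P (a := 1) (m := 180) (by rw [h]; norm_num) (by norm_num)
    have h3 := Cfsg.Lib.Small.card_sylow_ne_one (p := 19) hnc (by rw [h]; norm_num)
    have hle : Nat.card (Sylow 19 G) ≤ 180 := Nat.le_of_dvd (by norm_num) h1
    generalize Nat.card (Sylow 19 G) = n at h1 h2 h3 hle
    interval_cases n <;> omega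
  exact Cfsg.Lib.Components.PSLUnique.exists_iso (p := 19) 2 4 2 false (by norm_num)
    check19 (by decide +kernel) (by rw [Nat.card_eq_fintype_card]; decide +kernel)
    (by decide +kernel) (by decide +kernel) (by decide +kernel) (by decide +kernel) hnc
    (by rw [h]) hn (fun h' => Bool.noConfusion h') hF

end Cfsg.Agent.S1021
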