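import Cfsg.Statements.S1052
import Cfsg.Agent.Chev.Perfect

set_option autoImplicit false
open Cfsg
open Cfsg.Lib.Chev Cfsg.Lie

namespace Cfsg.Agent.S1052

/-- `G = G'` for every type G₂, B₂, D₄, F₄, E₆, E₇, E₈ over every field, except G₂ and B₂ over the field with two elements. -/
theorem result {F : Type*} [Field F] (D : Cfsg.Lie.ChevalleyDatum) (hD : D ∈ [Cfsg.Lie.chevG2, Cfsg.Lie.chevB2, Cfsg.Lie.chevD4, Cfsg.Lie.chevF4, Cfsg.Lie.chevE6, Cfsg.Lie.chevE7, Cfsg.Lie.chevE8]) (h2 : D = Cfsg.Lie.chevG2 ∨ D = Cfsg.Lie.chevB2 → ∃ a : F, a ≠ 0 ∧ a ≠ 1) :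
    commutator ↥(D.group F) = ⊤ := by
  simp only [List.mem_cons, List.not_mem_nil, or_false] at hD
  rcases hD with rfl | rfl | rfl | rfl | rfl | rfl | rfl
  · exact (⟨G2.ok, G2.okChain_, G2.okBase_all, okOrder_G2⟩ : Struct chevG2 G2.cert).commutator_eq_top G2.perfect fun _ => h2 (by simp)
  · exact (⟨B2.ok, B2.okChain_, B2.okBase_all, okOrder_B2⟩ : Struct chevB2 B2.cert).commutator_eq_top B2.perfect fun _ => h2 (by simp)
  · exact (⟨D4.ok, D4.okChain_, D4.okBase_all, okOrder_D4⟩ : Struct chevD4 D4.cert).commutator_eq_top D4.perfect (by simp)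
  · exact (⟨F4.ok, F4.okChain_, F4.okBase_all, okOrder_F4⟩ : Struct chevF4 F4.cert).commutator_eq_top F4.perfect (by simp)
  · exact (⟨E6.ok, E6.okChain_, E6.okBase_all, okOrder_E6⟩ : Struct chevE6 E6.cert).commutator_eq_top E6.perfect (by simp)
  · exact (⟨E7.ok, E7.okChain_, E7.okBase_all, okOrder_E7⟩ : Struct chevE7 E7.cert).commutator_eq_top E7.perfect (by simp)
  · exact (⟨E8.ok, E8.okChain_, E8.okBase_all, okOrder_E8⟩ : Struct chevE8 E8.cert).commutator_eq_top E8.perfect (by simp)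

end Cfsg.Agent.S1052
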