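import Cfsg.Statements.S1058
import Cfsg.Agent.S1060

set_option autoImplicit false
open Cfsg

namespace Cfsg.Agent.S1058

open Cfsg.Lie

/-- an orbit of length six on row vectors -/
def vec6 : Fin 6 → chevB2.Idx → ZMod 2 := fun i => Sum.elim
  (fun a => #[(0 : ZMod 2), 1].getD a.val 0)
  (fun u => (#[#[(0 : ZMod 2), 0, 0, 1, 1, 0, 0, 0], #[0, 0, 0, 1, 1, 0, 0, 1], #[1, 0, 0, 1, 1, 0, 0, 0],
    #[1, 0, 0, 1, 0, 0, 0, 1], #[1, 0, 0, 0, 1, 0, 0, 1], #[1, 0, 0, 0, 0, 0, 0, 1]].getD i.val #[]).getD u.val 0)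

/-- the permutations induced by the root elements -/
def perm6 : Fin chevB2.nroots → Fin 6 → Fin 6 := fun r i =>
  (#[#[(1 : Fin 6), 0, 2, 3, 4, 5], #[1, 0, 3, 2, 5, 4], #[1, 0, 4, 5, 2, 3], #[0, 1, 2, 3, 5, 4],
    #[0, 1, 2, 5, 4, 3], #[2, 3, 0, 1, 5, 4], #[2, 4, 0, 5, 1, 3], #[2, 1, 0, 3, 4, 5]].getD r.val #[]).getD i.val 0

theorem moves : ∀ (r : Fin chevB2.nroots) (i : Fin 6) (u : chevB2.Idx),
    Matrix.vecMul (vec6 i) (chevB2.xMat (ZMod 2) r 1) u = vec6 (perm6 r i) u := by decide +kernel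

theorem still : ∀ (r : Fin chevB2.nroots) (i : Fin 6) (u : chevB2.Idx),
    Matrix.vecMul (vec6 i) (chevB2.xMat (ZMod 2) r 0) u = vec6 i u := by decide +kernel

theorem involutive : ∀ (r : Fin chevB2.nroots) (i : Fin 6), perm6 r (perm6 r i) = i := by decide +kernel

theorem xMat_sq : ∀ r : Fin chevB2.nroots, chevB2.xMat (ZMod 2) r 1 * chevB2.xMat (ZMod 2) r 1 = 1 := by decide +kernel

theorem vec6_injective : Function.Injective vec6 := by
  have h : ∀ i j : Fin 6, (∀ u, vec6 i u = vec6 j u) → i = j := by decide +kernel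
  exact fun i j hij => h i j (congrFun hij)

theorem swaps : ∀ i : Fin 6,
    perm6 ⟨0, by decide⟩ i = Equiv.swap (0 : Fin 6) 1 i ∧
    perm6 ⟨0, by decide⟩ (perm6 ⟨7, by decide⟩ (perm6 ⟨0, by decide⟩ i)) = Equiv.swap (1 : Fin 6) 2 i ∧
    perm6 ⟨0, by decide⟩ (perm6 ⟨1, by decide⟩ (perm6 ⟨3, by decide⟩ i)) = Equiv.swap (2 : Fin 6) 3 i ∧
    perm6 ⟨3, by decide⟩ (perm6 ⟨4, by decide⟩ (perm6 ⟨3, by decide⟩ i)) = Equiv.swap (3 : Fin 6) 4 i ∧
    perm6 ⟨3, by decide⟩ i = Equiv.swap (4 : Fin 6) 5 i := by decide +kernel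

theorem xMat_map {A B : Type*} [Field A] [Field B] (f : A →+* B) (D : ChevalleyDatum) (r : Fin D.nroots) (t : A) :
    (D.xMat A r t).map f = D.xMat B r (f t) := by
  ext a b
  rcases a with a | a <;> rcases b with b | b <;>
    simp [ChevalleyDatum.xMat, map_list_sum, List.map_map, Function.comp_def] <;> split_ifs <;>
    simp [map_list_sum, List.map_map, Function.comp_def]

/-- B₂(2) ≅ S₆. -/
theorem result {F : Type*} [Field F] [Fintype F] (hF : Fintype.card F = 2) :
    Nonempty (↥(Cfsg.Lie.chevB2.group F) ≃* Equiv.Perm (Fin 6)) := by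
  classical
  let e : ZMod 2 ≃+* F := ZMod.ringEquivOfPrime F Nat.prime_two hF
  let v : Fin 6 → chevB2.Idx → F := fun i => e ∘ vec6 i
  have hv : Function.Injective v := fun i j h => vec6_injective (funext fun u => e.injective (congrFun h u))
  have hx : ∀ r s i, Matrix.vecMul (v i) (chevB2.xMat F r (e s)) =
      e ∘ Matrix.vecMul (vec6 i) (chevB2.xMat (ZMod 2) r s) := by
    intro r s i
    funext u
    rw [Function.comp_apply, show chevB2.xMat F r (e s) = (chevB2.xMat (ZMod 2) r s).map e.toRingHom from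
      (xMat_map e.toRingHom _ r s).symm]
    exact ((e.toRingHom).map_vecMul _ _ u).symm
  have hmove : ∀ r i, Matrix.vecMul (v i) (chevB2.xMat F r 1) = v (perm6 r i) := fun r i => by
    rw [← map_one e, hx]
    exact funext fun u => congrArg e (moves r i u)
  have hstill : ∀ r i, Matrix.vecMul (v i) (chevB2.xMat F r 0) = v i := fun r i => by
    rw [← map_zero e, hx]
    exact funext fun u => congrArg e (still r i u)
  have hinvol : ∀ g : GL chevB2.Idx F, (∀ i, ∃ j, Matrix.vecMul (v i) (g : Matrix chevB2.Idx chevB2.Idx F) = v j) →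
      ∀ i, ∃ j, Matrix.vecMul (v i) ((g⁻¹ : GL chevB2.Idx F) : Matrix chevB2.Idx chevB2.Idx F) = v j := by
    intro g hg i
    choose f hf using hg
    have hfi : Function.Injective f := by
      intro a b h
      apply hv
      have h1 := congrArg (fun w => Matrix.vecMul w ((g⁻¹ : GL chevB2.Idx F) : Matrix chevB2.Idx chevB2.Idx F))
        ((hf a).trans (((hf b).trans (congrArg v h).symm).symm))
      simpa [Matrix.vecMul_vecMul, ← Units.val_mul] using h1
    obtain ⟨k, rfl⟩ := (Finite.injective_iff_surjective.1 hfi) i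
    exact ⟨k, by rw [← hf, Matrix.vecMul_vecMul, ← Units.val_mul, mul_inv_cancel, Units.val_one, Matrix.vecMul_one]⟩
  have hperm : ∀ g ∈ chevB2.group F, ∀ i, ∃ j, Matrix.vecMul (v i) (g : Matrix chevB2.Idx chevB2.Idx F) = v j := by
    intro g hg
    induction hg using Subgroup.closure_induction with
    | mem g hg =>
      obtain ⟨r, t, ht⟩ := hg
      intro i
      rw [ht]
      obtain ⟨s, rfl⟩ := e.surjective t
      rw [hx]
      rcases (show ∀ s : ZMod 2, s = 0 ∨ s = 1 by decide) s with h | h <;> subst h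
      · exact ⟨i, funext fun u => congrArg e (still r i u)⟩
      · exact ⟨perm6 r i, funext fun u => congrArg e (moves r i u)⟩
    | one => exact fun i => ⟨i, by rw [Units.val_one, Matrix.vecMul_one]⟩
    | mul a b _ _ iha ihb =>
      intro i
      obtain ⟨j, hj⟩ := iha i
      obtain ⟨k, hk⟩ := ihb j
      exact ⟨k, by rw [Units.val_mul, ← Matrix.vecMul_vecMul, hj, hk]⟩
    | inv a _ iha => exact hinvol a iha
  choose act hact using fun (g : chevB2.group F) (i : Fin 6) => hperm _ (inv_mem g.2) i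
  have hone : ∀ i, act 1 i = i := fun i => hv (by
    rw [← hact, OneMemClass.coe_one, inv_one, Units.val_one, Matrix.vecMul_one])
  have hmul : ∀ g h i, act (g * h) i = act g (act h i) := fun g h i => hv (by
    rw [← hact, ← hact, ← hact, Subgroup.coe_mul, mul_inv_rev, Units.val_mul, Matrix.vecMul_vecMul])
  let _ : MulAction (chevB2.group F) (Fin 6) := { smul := act, one_smul := hone, mul_smul := hmul }
  let σ := MulAction.toPermHom (chevB2.group F) (Fin 6)
  have hgen : ∀ r : Fin chevB2.nroots, ∃ g, ∀ i, σ g i = perm6 r i := by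
    intro r
    have hmem : ∀ g : GL chevB2.Idx F, (g : Matrix chevB2.Idx chevB2.Idx F) = chevB2.xMat F r 1 → g ∈ chevB2.group F :=
      fun g hg => Subgroup.subset_closure ⟨r, 1, hg⟩
    obtain ⟨g, hg⟩ : ∃ g : GL chevB2.Idx F, (g : Matrix chevB2.Idx chevB2.Idx F) = chevB2.xMat F r 1 := by
      have h : chevB2.xMat F r 1 * chevB2.xMat F r 1 = 1 := by
        rw [← map_one e.toRingHom, ← xMat_map, ← Matrix.map_mul, xMat_sq, Matrix.map_one _ (map_zero _) (map_one _)]
      exact ⟨⟨_, _, h, h⟩, rfl⟩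
    refine ⟨⟨g, hmem g hg⟩, fun i => hv ?_⟩
    show v (act _ i) = _
    rw [← hact]
    have h1 := hmove r (perm6 r i)
    rw [involutive] at h1
    rw [← h1, ← hg, Matrix.vecMul_vecMul, ← Units.val_mul, mul_inv_cancel, Units.val_one, Matrix.vecMul_one]
  have hsur : Function.Surjective σ := by
    rw [← MonoidHom.range_eq_top, eq_top_iff]
    choose gen hgen using hgen
    have hsw : ∀ k : Fin 5, Equiv.swap k.castSucc k.succ ∈ σ.range := by
      intro k
      obtain ⟨h0, h7⟩ : True ∧ True := ⟨trivial, trivial⟩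
      fin_cases k
      · exact ⟨gen ⟨0, by decide⟩, Equiv.ext fun i => (hgen _ i).trans (swaps i).1⟩
      · exact ⟨gen ⟨0, by decide⟩ * (gen ⟨7, by decide⟩ * gen ⟨0, by decide⟩), Equiv.ext fun i => by
          rw [map_mul, map_mul, Equiv.Perm.mul_apply, Equiv.Perm.mul_apply, hgen, hgen, hgen]; exact (swaps i).2.1⟩
      · exact ⟨gen ⟨0, by decide⟩ * (gen ⟨1, by decide⟩ * gen ⟨3, by decide⟩), Equiv.ext fun i => by
          rw [map_mul, map_mul, Equiv.Perm.mul_apply, Equiv.Perm.mul_apply, hgen, hgen, hgen]; exact (swaps i).2.2.1⟩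
      · exact ⟨gen ⟨3, by decide⟩ * (gen ⟨4, by decide⟩ * gen ⟨3, by decide⟩), Equiv.ext fun i => by
          rw [map_mul, map_mul, Equiv.Perm.mul_apply, Equiv.Perm.mul_apply, hgen, hgen, hgen]; exact (swaps i).2.2.2.1⟩
      · exact ⟨gen ⟨3, by decide⟩, Equiv.ext fun i => (hgen _ i).trans (swaps i).2.2.2.2⟩
    intro p _
    have hp : p ∈ Submonoid.closure (Set.range fun k : Fin 5 => Equiv.swap k.castSucc k.succ) := by
      rw [Equiv.Perm.mclosure_swap_castSucc_succ]; trivial
    refine (Submonoid.closure_le (S := σ.range.toSubmonoid)).2 ?_ hp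
    rintro _ ⟨k, rfl⟩
    exact hsw k
  have hcard : Nat.card (chevB2.group F) = 720 := by
    have h := Cfsg.Agent.S1060.result hF
    norm_num at h
    simpa [Nat.card_eq_fintype_card] using h
  exact ⟨MulEquiv.ofBijective σ (Nat.bijective_iff_surjective_and_card σ |>.2 ⟨hsur, by
    rw [hcard, Nat.card_perm, Nat.card_fin]; rfl⟩)⟩

end Cfsg.Agent.S1058
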