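import Cfsg.Statements.S1074
import Cfsg.Agent.Known.TitsSimple

set_option autoImplicit false
open Cfsg

namespace Cfsg.Agent.S1074

/-- ²F₄(2)′ has index 2 in ²F₄(2), is simple, and has order `2¹¹ · 3³ · 5² · 13`. -/
theorem result : (commutator ↥(Cfsg.Lie.twistedF4 (ZMod 2) 1)).index = 2 ∧ IsSimpleGroup Cfsg.Lie.TitsGroup ∧ ¬ IsMulCommutative Cfsg.Lie.TitsGroup ∧
    Nat.card Cfsg.Lie.TitsGroup = 2 ^ 11 * 3 ^ 3 * 5 ^ 2 * 13 := by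
  obtain ⟨X, hX⟩ := Cfsg.Lib.Chev.ReeF.exists_rf (K := ZMod 2) (m := 0) (ZMod.card 2)
  have key : ∀ e, X.e = e →
      (commutator ↥(Cfsg.Lie.twistedF4 (ZMod 2) e)).index = 2 ∧
      IsSimpleGroup ↥(commutator ↥(Cfsg.Lie.twistedF4 (ZMod 2) e)) ∧
      ¬ IsMulCommutative ↥(commutator ↥(Cfsg.Lie.twistedF4 (ZMod 2) e)) ∧
      Nat.card ↥(commutator ↥(Cfsg.Lie.twistedF4 (ZMod 2) e)) = 2 ^ 11 * 3 ^ 3 * 5 ^ 2 * 13 := by
    intro e he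
    subst he
    exact ⟨Cfsg.Lib.TitsComm.index_commutator X, (Cfsg.Lib.TitsComm.simple_commutator X).1,
      (Cfsg.Lib.TitsComm.simple_commutator X).2, (Cfsg.Lib.TitsComm.card_commutator X).trans (by norm_num)⟩
  exact key 1 (by simp [Cfsg.Lib.Chev.ReeF.RF.e, hX])

end Cfsg.Agent.S1074
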