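import Cfsg.Statements.S1075
import Cfsg.Agent.Chev.Ree3.Hom
import Cfsg.Agent.Chev.Ree3.Line
import Cfsg.Agent.Classical.Misc.SLTwoTori
import Cfsg.Agent.S1069

set_option autoImplicit false
open Cfsg

namespace Cfsg.Agent.S1075

open Cfsg.Lib.Chev.Ree3 Cfsg.Lie
open scoped MatrixGroups

/-- successive images under the tabulated generators -/
def through (w : List (Bool × ZMod 3 × ZMod 3 × ZMod 3)) (i : Fin 9) : Fin 9 :=
  w.foldl (fun j p => part p.1 p.2.1 p.2.2.1 p.2.2.2 j) i

theorem through_undo {X : Cfsg.Lib.Chev.Ree.Ree (ZMod 3)} (he : X.e = 1)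
    (w : List (Bool × ZMod 3 × ZMod 3 × ZMod 3)) : ∃ g, ∀ i, perm he g (through w i) = i := by
  induction w with
  | nil => exact ⟨1, fun i => by simp [through]⟩
  | cons p w ih =>
    obtain ⟨g, hg⟩ := perm_gen he p.1 p.2.1 p.2.2.1 p.2.2.2
    obtain ⟨g', hg'⟩ := ih
    refine ⟨g * g', fun i => ?_⟩
    rw [map_mul, Equiv.Perm.mul_apply, through, List.foldl_cons]
    exact (congrArg _ (hg' _)).trans (hg i)

/-- generators used in the words -/
def gen6 (k : ℕ) : Bool × ZMod 3 × ZMod 3 × ZMod 3 :=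
  [(false, 1, 0, 0), (false, 0, 1, 0), (false, 0, 0, 1), (true, 1, 0, 0), (true, 0, 1, 0), (true, 0, 0, 1)].getD k
    (false, 0, 0, 0)

theorem words_ok : ∀ i : Fin 9,
    through ([3, 0, 2, 4, 4].map gen6) i = transPerm 1 i ∧ transPerm 1 (transPerm 1 i) = i ∧
    through ([0, 4, 1, 2, 3].map gen6) i = transPerm 2 i ∧ transPerm 2 (transPerm 2 i) = i ∧
    through ([0, 0, 3, 1, 3].map gen6) i = transPerm 4 i ∧ transPerm 4 (transPerm 4 i) = i ∧
    through ([0, 5, 5, 1, 1, 3].map gen6) i = invPerm i ∧ invPerm (invPerm i) = i := by decide +kernel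

theorem frob_ok : through ([1, 2, 2].map gen6) 8 = 8 ∧ through ([1, 2, 2].map gen6) 0 = 0 ∧
    through ([1, 2, 2].map gen6) 1 = 1 ∧ through ([1, 2, 2].map gen6) 2 = 4 := by decide +kernel

theorem perm_ok : (∀ i : Fin 9, ∀ c : Fin 8, i.val < 8 → (transPerm c i).val = i.val ^^^ c.val ∧ i.val ^^^ c.val < 8) ∧
    (∀ i : Fin 9, ∀ c : Fin 8, i.val = 8 → (transPerm c i).val = 8) ∧
    (invPerm 0).val = 8 ∧ (invPerm 8).val = 0 ∧
    ∀ i : Fin 9, i.val ≠ 0 → i.val < 8 → (invPerm i).val = [0, 1, 5, 6, 7, 2, 3, 4].getD i.val 0 ∧ (invPerm i).val < 8 := by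
  decide +kernel

theorem maps_trans {L : Type*} [Field L] [Fintype L] [CharP L 2] {a : L} (g : SL(2, L)) (c : Fin 8)
    (hg : (g : Matrix (Fin 2) (Fin 2) L) = !![1, elt a c.val; 0, 1]) (i : Fin 9) :
    Maps a g i (transPerm c i) := by
  unfold Maps
  rw [hg]
  by_cases hi : i.val < 8
  · obtain ⟨h1, h2⟩ := perm_ok.1 i c hi
    simp [point, hi, h1, h2, cross, Matrix.mulVec, dotProduct, Fin.sum_univ_two]
    rw [elt_xor _ hi _ c.2, sub_self]
  · have h1 := perm_ok.2.1 i c (by omega)
    simp [point, hi, h1, cross, Matrix.mulVec, dotProduct, Fin.sum_univ_two]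

theorem maps_inv {L : Type*} [Field L] [Fintype L] [CharP L 2] {a : L} (ha : a ^ 3 + a + 1 = 0) (g : SL(2, L))
    (hg : (g : Matrix (Fin 2) (Fin 2) L) = !![0, 1; 1, 0]) (i : Fin 9) : Maps a g i (invPerm i) := by
  unfold Maps
  rw [hg]
  have he0 : elt a 0 = 0 := by simp [elt]
  rcases Nat.eq_zero_or_pos i.val with h0 | h0
  · obtain rfl : i = 0 := Fin.ext h0
    simp [point, perm_ok.2.2.1, cross, he0, Matrix.mulVec, dotProduct, Fin.sum_univ_two]
  by_cases hi : i.val < 8
  · obtain ⟨h1, h2⟩ := perm_ok.2.2.2.2 i (by omega) hi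
    have hm := elt_mul_inv ha i.val hi (by omega)
    rw [← h1] at hm
    simp only [point, hi, h2, if_true, cross, Matrix.mulVec, dotProduct, Fin.sum_univ_two]
    simp
    linear_combination -hm
  · obtain rfl : i = 8 := Fin.ext (by show i.val = 8; omega)
    simp [point, perm_ok.2.2.2.1, cross, he0, Matrix.mulVec, dotProduct, Fin.sum_univ_two]

/-- The derived subgroup of ²G₂(3) (θ = identity over the field with three elements) has order 504 = 1512/3 and is isomorphic to PSL₂ over the field with eight elements. -/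
theorem result {L : Type*} [Field L] [Fintype L] (hL : Fintype.card L = 8) :
    Nat.card ↥(commutator ↥(Cfsg.Lie.twistedG2 (ZMod 3) 1)) = 504 ∧
      Nonempty (↥(commutator ↥(Cfsg.Lie.twistedG2 (ZMod 3) 1)) ≃* Matrix.ProjectiveSpecialLinearGroup (Fin 2) L) := by
  classical
  have := charTwo hL
  have h2 : (2 : L) = 0 := CharTwo.two_eq_zero
  obtain ⟨X, hX⟩ := Cfsg.Lib.Chev.Ree.exists_ree (K := ZMod 3) (m := 0) (by simp)
  have he : X.e = 1 := by rw [Cfsg.Lib.Chev.Ree.Ree.e, hX, pow_zero]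
  obtain ⟨a, ha⟩ := exists_root hL
  obtain ⟨ψ, hfix, hψ⟩ := exists_lineHom ha hL
  set σ := perm he
  -- the image of the line group
  have hmem : ∀ (w : List (Bool × ZMod 3 × ZMod 3 × ZMod 3)) (π : Fin 9 → Fin 9),
      (∀ i, through w i = π i) → (∀ i, π (π i) = i) → ∀ g, (∀ i, Maps a g i (π i)) → ψ g ∈ σ.range := by
    intro w π hw hπ g hg
    obtain ⟨x, hx⟩ := through_undo he w
    refine ⟨x, Equiv.ext fun i => ?_⟩
    rw [hψ g i (π i) (hg i)]
    conv_lhs => rw [← hπ i, ← hw]
    exact hx _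
  let H := σ.range.comap ψ
  let u : L → SL(2, L) := fun x => ⟨!![1, x; 0, 1], by simp [Matrix.det_fin_two_of]⟩
  have hadd : ∀ x y, u x ∈ H → u y ∈ H → u (x + y) ∈ H := fun x y hx hy => by
    have : u (x + y) = u x * u y := Subtype.ext (by
      show _ = (!![1, x; 0, 1] : Matrix (Fin 2) (Fin 2) L) * !![1, y; 0, 1]
      ext i j; fin_cases i <;> fin_cases j <;> simp [u, Matrix.mul_apply, Fin.sum_univ_two, add_comm])
    exact this ▸ mul_mem hx hy
  have hu1 : u (elt a 1) ∈ H := hmem _ _ (fun i => (words_ok i).1) (fun i => (words_ok i).2.1) _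
    (fun i => maps_trans _ ⟨1, by norm_num⟩ rfl i)
  have hu2 : u (elt a 2) ∈ H := hmem _ _ (fun i => (words_ok i).2.2.1) (fun i => (words_ok i).2.2.2.1) _
    (fun i => maps_trans _ ⟨2, by norm_num⟩ rfl i)
  have hu4 : u (elt a 4) ∈ H := hmem _ _ (fun i => (words_ok i).2.2.2.2.1) (fun i => (words_ok i).2.2.2.2.2.1) _
    (fun i => maps_trans _ ⟨4, by norm_num⟩ rfl i)
  let w0 : SL(2, L) := ⟨!![0, 1; 1, 0], by rw [Matrix.det_fin_two_of]; linear_combination -h2⟩
  have hw0 : w0 ∈ H := hmem _ _ (fun i => (words_ok i).2.2.2.2.2.2.1) (fun i => (words_ok i).2.2.2.2.2.2.2) _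
    (fun i => maps_inv ha _ rfl i)
  have hu0 : u (elt a 0) ∈ H := by
    rw [show u (elt a 0) = 1 from Subtype.ext (by simp [u, elt, Matrix.one_fin_two])]; exact one_mem _
  have hu : ∀ x, u x ∈ H := by
    intro x
    have hb : Function.Bijective fun i : Fin 8 => elt a i.val := by
      rw [Fintype.bijective_iff_injective_and_card, Fintype.card_fin, hL]
      exact ⟨fun i j h => Fin.ext (elt_injective ha _ i.2 _ j.2 h), rfl⟩
    obtain ⟨i, rfl⟩ := hb.2 x
    have h3 : elt a 3 = elt a 1 + elt a 2 := elt_xor 1 (by norm_num) 2 (by norm_num)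
    have h5 : elt a 5 = elt a 1 + elt a 4 := elt_xor 1 (by norm_num) 4 (by norm_num)
    have h6 : elt a 6 = elt a 2 + elt a 4 := elt_xor 2 (by norm_num) 4 (by norm_num)
    have h7 : elt a 7 = elt a 3 + elt a 4 := elt_xor 3 (by norm_num) 4 (by norm_num)
    fin_cases i
    · exact hu0
    · exact hu1
    · exact hu2
    · show u (elt a 3) ∈ H
      rw [h3]; exact hadd _ _ hu1 hu2
    · exact hu4
    · show u (elt a 5) ∈ H
      rw [h5]; exact hadd _ _ hu1 hu4
    · show u (elt a 6) ∈ H
      rw [h6]; exact hadd _ _ hu2 hu4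
    · show u (elt a 7) ∈ H
      rw [h7, h3]; exact hadd _ _ (hadd _ _ hu1 hu2) hu4
  have hall : ∀ g, g ∈ H := gens_of_SL2 H (fun x g hg => by
    rw [show g = u x from Subtype.ext hg]; exact hu x) w0 rfl hw0 h2
  have hψi : Function.Injective ψ := (injective_iff_map_eq_one ψ).2 fun g hg => hfix g (by rw [hg]; rfl) (by rw [hg]; rfl) (by rw [hg]; rfl)
  -- orders
  have hSL : Nat.card SL(2, L) = 504 := by rw [Cfsg.Lib.Classical.SLTwoTori.card_SL2, hL]; norm_num
  have hG : Nat.card ↥(Cfsg.Lie.twistedG2 (ZMod 3) 1) = 1512 := by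
    have h := Cfsg.Agent.S1069.result (K := ZMod 3) (m := 0) (by simp)
    simpa using h
  have hRdvd : Nat.card σ.range ∣ 1512 := hG ▸ Subgroup.card_range_dvd σ
  have hPcard : Nat.card ψ.range = 504 := by rw [← hSL]; exact (Nat.card_congr (MonoidHom.ofInjective hψi).toEquiv).symm
  have hPR : ψ.range ≤ σ.range := by rintro _ ⟨g, rfl⟩; exact hall g
  have hne : Nat.card σ.range ≠ 504 := by
    intro h
    have heq : ψ.range = σ.range := Subgroup.eq_of_le_of_card_ge hPR (by rw [h, hPcard])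
    obtain ⟨x, hx⟩ := through_undo he ([1, 2, 2].map gen6)
    obtain ⟨f8, f0, f1, f2⟩ := frob_ok
    obtain ⟨g, hg⟩ : σ x ∈ ψ.range := heq ▸ ⟨x, rfl⟩
    have e8 := hx 8
    have e0 := hx 0
    have e1 := hx 1
    have e2 := hx 2
    rw [f8] at e8; rw [f0] at e0; rw [f1] at e1; rw [f2] at e2
    have : g = 1 := hfix g (by rw [hg]; exact e8) (by rw [hg]; exact e0) (by rw [hg]; exact e1)
    rw [this, map_one] at hg
    rw [← hg] at e2
    exact absurd e2 (by decide)
  have hR : Nat.card σ.range = 1512 := by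
    obtain ⟨k, hk⟩ := hPcard ▸ Subgroup.card_dvd_of_le hPR
    have hk3 : k ≤ 3 := by
      have := Nat.le_of_dvd (by norm_num) hRdvd
      omega
    have h0 : Nat.card σ.range ≠ 0 := Nat.card_pos.ne'
    interval_cases k <;> rw [hk] at h0 hne hRdvd ⊢ <;> first | omega | (norm_num at hRdvd; done) | norm_num
  have hinj : Function.Injective σ := by
    have : Function.Bijective σ.rangeRestrict :=
      (Nat.bijective_iff_surjective_and_card _).2 ⟨σ.rangeRestrict_surjective, by rw [hG, hR]⟩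
    exact fun x y h => this.1 (Subtype.ext h)
  -- the subgroup of index three
  let Q := ψ.range.comap σ
  let eQ : Q ≃* Matrix.ProjectiveSpecialLinearGroup (Fin 2) L := by
    have hc : Subgroup.center SL(2, L) = ⊥ := by
      rw [eq_bot_iff]
      intro g hg
      obtain ⟨r, hr, hrg⟩ := Matrix.SpecialLinearGroup.mem_center_iff.1 hg
      refine Subgroup.mem_bot.2 (Subtype.ext ?_)
      have hr1 : r = 1 := by
        simp only [Fintype.card_fin] at hr
        have : (r - 1) ^ 2 = 0 := by linear_combination hr + (1 - r) * h2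
        exact sub_eq_zero.1 (pow_eq_zero_iff two_ne_zero |>.1 this)
      rw [← hrg, hr1]; simp
    exact ((Q.equivMapOfInjective σ hinj).trans (MulEquiv.subgroupCongr (Subgroup.map_comap_eq_self hPR))).trans
      ((MonoidHom.ofInjective hψi).symm.trans
        (QuotientGroup.quotientBot.symm.trans (QuotientGroup.quotientMulEquivOfEq hc.symm)))
  have hsimp : IsSimpleGroup (Matrix.ProjectiveSpecialLinearGroup (Fin 2) L) :=
    Matrix.ProjectiveSpecialLinearGroup.rank_two_simple (by rw [Nat.card_eq_fintype_card, hL]; norm_num)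
  have : IsSimpleGroup Q := MulEquiv.isSimpleGroup eQ
  have hQc : Nat.card Q = 504 := by
    rw [Nat.card_congr ((Q.equivMapOfInjective σ hinj).trans (MulEquiv.subgroupCongr (Subgroup.map_comap_eq_self hPR))).toEquiv, hPcard]
  have hQi : Q.index = 3 := by
    have h := Q.card_mul_index
    rw [hQc, hG] at h
    omega
  have hnab : ¬ ∀ x y : Q, x * y = y * x := by
    intro h
    let _ : CommGroup Q := { (inferInstance : Group Q) with mul_comm := h }
    have := IsSimpleGroup.prime_card (α := Q)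
    rw [hQc] at this
    norm_num at this
  have hQn : Q.Normal := by
    have hcl : Q.normalCore ≤ Q := Subgroup.normalCore_le Q
    rcases (inferInstance : (Q.normalCore.subgroupOf Q).Normal).eq_bot_or_eq_top with h | h
    · exfalso
      rw [Subgroup.subgroupOf_eq_bot, disjoint_iff, inf_of_le_left hcl, Subgroup.normalCore_eq_ker] at h
      have := Subgroup.card_dvd_of_injective _ ((MonoidHom.ker_eq_bot_iff _).1 h)
      rw [hG, Nat.card_perm, show Nat.card (↥(Cfsg.Lie.twistedG2 (ZMod 3) 1) ⧸ Q) = 3 from hQi] at this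
      exact absurd (Nat.le_of_dvd (by decide) this) (by decide)
    · rw [Subgroup.subgroupOf_eq_top] at h
      rw [← le_antisymm hcl h]
      exact Subgroup.normalCore_normal Q
  have hcomm : commutator ↥(Cfsg.Lie.twistedG2 (ZMod 3) 1) = Q := by
    apply le_antisymm
    · have : Fact (Nat.Prime 3) := ⟨Nat.prime_three⟩
      have : IsCyclic (↥(Cfsg.Lie.twistedG2 (ZMod 3) 1) ⧸ Q) := isCyclic_of_prime_card (p := 3) hQi
      let _ := IsCyclic.commGroup (α := ↥(Cfsg.Lie.twistedG2 (ZMod 3) 1) ⧸ Q)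
      have := Abelianization.commutator_subset_ker (QuotientGroup.mk' Q)
      rwa [QuotientGroup.ker_mk'] at this
    · have hperf : commutator Q = ⊤ := by
        rcases (inferInstance : (commutator Q).Normal).eq_bot_or_eq_top with h | h
        · rw [commutator_def, Subgroup.commutator_eq_bot_iff_le_centralizer] at h
          exact absurd (fun x y => Subgroup.mem_centralizer_iff.1 (h (Subgroup.mem_top y)) x (Subgroup.mem_top x)) hnab
        · exact h
      have h := congrArg (Subgroup.map Q.subtype) hperf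
      rw [commutator_def, Subgroup.map_commutator, ← MonoidHom.range_eq_map, Subgroup.range_subtype] at h
      rw [← h, commutator_def]
      exact Subgroup.commutator_mono le_top le_top
  rw [hcomm]
  exact ⟨hQc, ⟨eQ⟩⟩

end Cfsg.Agent.S1075
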