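import Cfsg.Statements.S1097
import Cfsg.Agent.Chev.St.Present

set_option autoImplicit false
open Cfsg
open Cfsg.Lib.Chev Cfsg.Lib.Chev.St

namespace Cfsg.Agent.S1097

/-- Any homomorphism from the presented group to the Chevalley group with `x̄_r(t) ↦ x_r(t)` has kernel contained in `H̄ = ⟨h̄_p(t) : p fundamental, t ≠ 0⟩`. -/
theorem result {K : Type*} [Field K] (D : Cfsg.Lie.ChevalleyDatum) (hD : D ∈ [Cfsg.Lie.chevG2, Cfsg.Lie.chevB2, Cfsg.Lie.chevD4, Cfsg.Lie.chevF4, Cfsg.Lie.chevE6, Cfsg.Lie.chevE7, Cfsg.Lie.chevE8]) (θ : D.SteinbergGroup K →* ↥(D.group K))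
    (hθ : ∀ (r : ℕ) (t : K), r < D.nroots → ((θ (D.stGen K r t) : GL D.Idx K) : Matrix D.Idx D.Idx K) = D.x K r t) :
    θ.ker ≤ Subgroup.closure {h | ∃ (i : ℕ) (t : K), i < D.rank ∧ t ≠ 0 ∧ h = PresentedGroup.mk (D.steinbergRels K) (D.stH (D.simple i) t)} := by
  obtain ⟨C, S, hN, ok⟩ := Cfsg.Lib.Chev.St.exists_okSt hD
  set θ' : D.SteinbergGroup K →* GL D.Idx K := (D.group K).subtype.comp θ with hdef
  have hθ' : ∀ r < D.nroots, ∀ t, θ' (pgen (D.steinbergRels K) r t) = S.ok.xG r t :=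
    fun r hr t => S.ok.eq_xG (hθ r t hr)
  intro g hg
  have hg' : θ' g = 1 := by rw [hdef, MonoidHom.comp_apply, MonoidHom.mem_ker.1 hg, map_one]
  obtain ⟨hH, -⟩ := (presentedPres S hN ok ab_subset θ' hθ').kernel
    (presentedPres_gen_top S hN ok ab_subset θ' hθ') hg'
  refine Subgroup.closure_mono ?_ hH
  rintro x ⟨i, hi, t, ht, rfl⟩
  refine ⟨i, t, hi, ht, ?_⟩
  rw [presentedPres_hh, S.ok.sr_eq hi]

end Cfsg.Agent.S1097
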