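import Cfsg.Statements.S1098
import Cfsg.Agent.Chev.Isog.Data

set_option autoImplicit false
open Cfsg
open Cfsg.Lib.Chev Cfsg.Lib.Chev.Isog Cfsg.Lie

namespace Cfsg.Agent.S1098

/-- Graph automorphisms in characteristic 2 (K perfect): for B₂ (a short, b long) `x_a(t) ↦ x_b(t²)`, `x_b(t) ↦ x_a(t)`, and for F₄ (p₁, p₂ short, p₃, p₄ long) `x_{p₁}(t) ↦ x_{p₄}(t²)`, `x_{p₂}(t) ↦ x_{p₃}(t²)`, `x_{p₃}(t) ↦ x_{p₂}(t)`, `x_{p₄}(t) ↦ x_{p₁}(t)`, likewise on the negatives, extend to an automorphism of the group. -/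
theorem result {K : Type*} [Field K] [CharP K 2] (hperf : ∀ x : K, ∃ y : K, y ^ 2 = x)
    (p : Cfsg.Lie.ChevalleyDatum × List (ℕ × ℕ))
    (hp : p ∈ [(Cfsg.Lie.chevB2, [(1, 2), (0, 1)]), (Cfsg.Lie.chevF4, [(3, 2), (2, 2), (1, 1), (0, 1)])]) :
    ∃ α : ↥(p.1.group K) ≃* ↥(p.1.group K), ∀ (g : ↥(p.1.group K)) (i : ℕ) (t : K), i < p.1.rank →
      (((g : GL p.1.Idx K) : Matrix p.1.Idx p.1.Idx K) = p.1.x K (p.1.simple i) t →
        ((α g : GL p.1.Idx K) : Matrix p.1.Idx p.1.Idx K) = p.1.x K (p.1.simple (p.2.getD i (0, 1)).1) (t ^ (p.2.getD i (0, 1)).2)) ∧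
      (((g : GL p.1.Idx K) : Matrix p.1.Idx p.1.Idx K) = p.1.x K (p.1.neg (p.1.simple i)) t →
        ((α g : GL p.1.Idx K) : Matrix p.1.Idx p.1.Idx K) = p.1.x K (p.1.neg (p.1.simple (p.2.getD i (0, 1)).1)) (t ^ (p.2.getD i (0, 1)).2)) := by
  have key : ∀ (D : ChevalleyDatum) (L : List (ℕ × ℕ)) (T : IsoTab) (_ : T.p = 2) (C : Cert) (S : Struct D C) (_ : okNeg D = true)
      (_ : ∃ W, St.okSt D C W = true) (_ : D ∈ [chevG2, chevB2, chevD4, chevF4, chevE6, chevE7, chevE8])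
      (_ : okIso D T = true)
      (_ : ∀ i < D.rank, D.simple i < D.nroots ∧ D.neg (D.simple i) < D.nroots ∧
        T.rh (D.simple i) = D.simple (L.getD i (0, 1)).1 ∧ T.lm (D.simple i) = (L.getD i (0, 1)).2 ∧
        T.rh (D.neg (D.simple i)) = D.neg (D.simple (L.getD i (0, 1)).1) ∧
        T.lm (D.neg (D.simple i)) = (L.getD i (0, 1)).2),
      ∃ α : ↥(D.group K) ≃* ↥(D.group K), ∀ (g : ↥(D.group K)) (i : ℕ) (t : K), i < D.rank →
      (((g : GL D.Idx K) : Matrix D.Idx D.Idx K) = D.x K (D.simple i) t →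
        ((α g : GL D.Idx K) : Matrix D.Idx D.Idx K) = D.x K (D.simple (L.getD i (0, 1)).1) (t ^ (L.getD i (0, 1)).2)) ∧
      (((g : GL D.Idx K) : Matrix D.Idx D.Idx K) = D.x K (D.neg (D.simple i)) t →
        ((α g : GL D.Idx K) : Matrix D.Idx D.Idx K) = D.x K (D.neg (D.simple (L.getD i (0, 1)).1)) (t ^ (L.getD i (0, 1)).2)) := by
    intro D L T hT C S hN ok hD hI htab
    have : CharP K T.p := by rw [hT]; infer_instance
    obtain ⟨α, hα⟩ := exists_isogeny S hN ok (by rw [hT]; exact Nat.prime_two) hI hD (by rw [hT]; exact hperf)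
    refine ⟨α, fun g i t hi => ?_⟩
    obtain ⟨h1, h2, e1, e2, e3, e4⟩ := htab i hi
    refine ⟨fun hg => ?_, fun hg => ?_⟩
    · have h := hα _ h1 t g (Units.ext hg)
      rw [e1, e2] at h
      exact congrArg Units.val h
    · have h := hα _ h2 t g (Units.ext hg)
      rw [e3, e4] at h
      exact congrArg Units.val h
  simp only [List.mem_cons, List.not_mem_nil, or_false] at hp
  rcases hp with rfl | rfl
  · exact key _ _ isoB2 rfl _ ⟨B2.ok, B2.okChain_, B2.okBase_all, okOrder_B2⟩ okNeg_B2 ⟨_, St.okSt_B2⟩ (by simp) okIso_B2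
      (by decide +kernel)
  · exact key _ _ isoF4 rfl _ ⟨F4.ok, F4.okChain_, F4.okBase_all, okOrder_F4⟩ okNeg_F4 ⟨_, St.okSt_F4⟩ (by simp) okIso_F4
      (by decide +kernel)

end Cfsg.Agent.S1098
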