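import Cfsg.Statements.S1099
import Cfsg.Agent.Chev.Isog.Data

set_option autoImplicit false
open Cfsg
open Cfsg.Lib.Chev Cfsg.Lib.Chev.Isog Cfsg.Lie

namespace Cfsg.Agent.S1099

/-- Graph automorphism of G₂ in characteristic 3 (K perfect): `x_a(t) ↦ x_b(t³)`, `x_b(t) ↦ x_a(t)`, `x_{-a}(t) ↦ x_{-b}(t³)`, `x_{-b}(t) ↦ x_{-a}(t)` extend to an automorphism of the group. -/
theorem result {K : Type*} [Field K] [CharP K 3] (hperf : ∀ x : K, ∃ y : K, y ^ 3 = x) :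
    ∃ α : ↥(Cfsg.Lie.chevG2.group K) ≃* ↥(Cfsg.Lie.chevG2.group K), ∀ (g : ↥(Cfsg.Lie.chevG2.group K)) (t : K),
      (((g : GL Cfsg.Lie.chevG2.Idx K) : Matrix _ _ K) = Cfsg.Lie.chevG2.x K Cfsg.Lie.g2a t →
        ((α g : GL Cfsg.Lie.chevG2.Idx K) : Matrix _ _ K) = Cfsg.Lie.chevG2.x K Cfsg.Lie.g2b (t ^ 3)) ∧
      (((g : GL Cfsg.Lie.chevG2.Idx K) : Matrix _ _ K) = Cfsg.Lie.chevG2.x K Cfsg.Lie.g2b t →
        ((α g : GL Cfsg.Lie.chevG2.Idx K) : Matrix _ _ K) = Cfsg.Lie.chevG2.x K Cfsg.Lie.g2a t) ∧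
      (((g : GL Cfsg.Lie.chevG2.Idx K) : Matrix _ _ K) = Cfsg.Lie.chevG2.x K Cfsg.Lie.g2ma t →
        ((α g : GL Cfsg.Lie.chevG2.Idx K) : Matrix _ _ K) = Cfsg.Lie.chevG2.x K Cfsg.Lie.g2mb (t ^ 3)) ∧
      (((g : GL Cfsg.Lie.chevG2.Idx K) : Matrix _ _ K) = Cfsg.Lie.chevG2.x K Cfsg.Lie.g2mb t →
        ((α g : GL Cfsg.Lie.chevG2.Idx K) : Matrix _ _ K) = Cfsg.Lie.chevG2.x K Cfsg.Lie.g2ma t) := by
  have : CharP K isoG2.p := ‹CharP K 3›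
  obtain ⟨α, hα⟩ := exists_isogeny (C := G2.cert) ⟨G2.ok, G2.okChain_, G2.okBase_all, okOrder_G2⟩
    okNeg_G2 ⟨_, St.okSt_G2⟩ Nat.prime_three okIso_G2 (by simp) hperf
  obtain ⟨e1, e2, e3, e4, e5, e6, e7, e8⟩ : isoG2.rh g2a = g2b ∧ isoG2.lm g2a = 3 ∧ isoG2.rh g2b = g2a ∧
      isoG2.lm g2b = 1 ∧ isoG2.rh g2ma = g2mb ∧ isoG2.lm g2ma = 3 ∧ isoG2.rh g2mb = g2ma ∧ isoG2.lm g2mb = 1 := by
    decide +kernel
  refine ⟨α, fun g t => ⟨fun hg => ?_, fun hg => ?_, fun hg => ?_, fun hg => ?_⟩⟩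
  · have h := hα g2a (by decide +kernel) t g (Units.ext hg)
    rw [e1, e2] at h
    exact congrArg Units.val h
  · have h := hα g2b (by decide +kernel) t g (Units.ext hg)
    rw [e3, e4, pow_one] at h
    exact congrArg Units.val h
  · have h := hα g2ma (by decide +kernel) t g (Units.ext hg)
    rw [e5, e6] at h
    exact congrArg Units.val h
  · have h := hα g2mb (by decide +kernel) t g (Units.ext hg)
    rw [e7, e8, pow_one] at h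
    exact congrArg Units.val h

end Cfsg.Agent.S1099
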