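import Cfsg.Statements.S1124
import Cfsg.Agent.RankOne.More

set_option autoImplicit false
open scoped Pointwise
open Cfsg
open scoped Pointwise

namespace Cfsg.Agent.S1124

/-- Let `t` be an element of order 2 of a finite group normalising a subgroup `X` of odd order, `Y = C_X(t)` and `Z` the set of elements of `X` inverted by `t`. Then `(y, z) ↦ y z` is a bijection `Y × Z → X`, so `|X| = |Y| |Z|`, and the subgroup generated by `Z` is normal in `X`. -/
theorem result {M : Type*} [Group M] [Finite M]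
    (t : M) (ht : orderOf t = 2) (X : Subgroup M) (hodd : Odd (Nat.card X))
    (hnorm : ∀ x ∈ X, t * x * t⁻¹ ∈ X) :
    (∀ x ∈ X, ∃! p : M × M, p.1 ∈ X ⊓ Subgroup.centralizer {t} ∧ p.2 ∈ Cfsg.invertedBy X t ∧ x = p.1 * p.2) ∧
      Nat.card X = Nat.card ↥(X ⊓ Subgroup.centralizer {t}) * Nat.card (Cfsg.invertedBy X t) ∧
      ∀ x ∈ X, MulAut.conj x • Subgroup.closure (Cfsg.invertedBy X t) = Subgroup.closure (Cfsg.invertedBy X t) := by
  have ht2 : t * t = 1 := by rw [← pow_two, ← ht, pow_orderOf_eq_one]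
  refine ⟨fun x hx => Cfsg.Lib.RankOne.factor ht2 hodd hnorm hx, Cfsg.Lib.RankOne.card_factor ht2 hodd hnorm, ?_⟩
  have hle : ∀ x ∈ X, ∀ z ∈ Subgroup.closure (Cfsg.invertedBy X t), x * z * x⁻¹ ∈ Subgroup.closure (Cfsg.invertedBy X t) := by
    intro x hx
    obtain ⟨⟨y, i⟩, ⟨hy, hi, e⟩, -⟩ := Cfsg.Lib.RankOne.factor ht2 hodd hnorm hx
    obtain ⟨hyX, hyt⟩ := Subgroup.mem_inf.1 hy
    rw [Subgroup.mem_centralizer_singleton_iff] at hyt
    simp only at hyX hyt hi e
    have hy' : ∀ z ∈ Subgroup.closure (Cfsg.invertedBy X t), y * z * y⁻¹ ∈ Subgroup.closure (Cfsg.invertedBy X t) := by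
      intro z hz
      refine (Subgroup.closure_le ((Subgroup.closure (Cfsg.invertedBy X t)).comap (MulAut.conj y).toMonoidHom)).2 ?_ hz
      intro w hw
      refine Subgroup.subset_closure ⟨X.mul_mem (X.mul_mem hyX hw.1) (X.inv_mem hyX), ?_⟩
      show t * (y * w * y⁻¹) * t⁻¹ = (y * w * y⁻¹)⁻¹
      have hyc : Commute y t := hyt
      calc t * (y * w * y⁻¹) * t⁻¹ = (t * y) * w * (t * y)⁻¹ := by group
        _ = (y * t) * w * (y * t)⁻¹ := by rw [hyc.eq]
        _ = y * (t * w * t⁻¹) * y⁻¹ := by group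
        _ = _ := by rw [hw.2]; group
    intro z hz
    rw [e, show y * i * z * (y * i)⁻¹ = y * (i * z * i⁻¹) * y⁻¹ by group]
    exact hy' _ (Subgroup.mul_mem _ (Subgroup.mul_mem _ (Subgroup.subset_closure hi) hz) (Subgroup.inv_mem _ (Subgroup.subset_closure hi)))
  intro x hx
  ext z
  rw [Subgroup.mem_pointwise_smul_iff_inv_smul_mem, ← map_inv, MulAut.smul_def, MulAut.conj_apply, inv_inv]
  exact ⟨fun h => by simpa [mul_assoc] using hle x hx _ h,
    fun h => by simpa [mul_assoc] using hle x⁻¹ (X.inv_mem hx) _ h⟩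

end Cfsg.Agent.S1124
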