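import Cfsg.Statements.S1155
import Cfsg.Agent.Chev.Ree.Law

set_option autoImplicit false
open Cfsg Cfsg.Lib.Chev Cfsg.Lib.Chev.Ree Cfsg.Lie

namespace Cfsg.Agent.S1155

/-- In the small Ree group ²G₂(q), q = 3^(2m+1) with m ≥ 1, realised as G¹ inside the Chevalley group G₂ over the field with q elements (θ the 3^m-th power map): distinct Sylow 3-subgroups of `G¹` meet trivially. -/
theorem result {K : Type*} [Field K] [Fintype K] {m : ℕ} (hm : 1 ≤ m) (hK : Fintype.card K = 3 ^ (2 * m + 1))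
    (P Q : Sylow 3 ↥(Cfsg.Lie.twistedG2 K (3 ^ m))) (hPQ : P ≠ Q) : (P : Subgroup ↥(Cfsg.Lie.twistedG2 K (3 ^ m))) ⊓ (Q : Subgroup ↥(Cfsg.Lie.twistedG2 K (3 ^ m))) = ⊥ := by
  classical
  obtain ⟨X, rfl⟩ := exists_ree hK
  haveI : Fact (Nat.Prime 3) := ⟨Nat.prime_three⟩
  let U₁ : Subgroup ↥X.G1 := (chevG2.posUnipotent K ⊓ X.G1).subgroupOf X.G1
  have hU : ∀ {x : ↥X.G1}, x ∈ U₁ ↔ (x : GL chevG2.Idx K) ∈ chevG2.posUnipotent K := fun {x} => by
    simp only [U₁, Subgroup.mem_subgroupOf, Subgroup.mem_inf]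
    exact ⟨fun h => h.1, fun h => ⟨h, x.2⟩⟩
  have hcard : Nat.card U₁ = Fintype.card K ^ 3 :=
    (Nat.card_congr (Subgroup.subgroupOfEquivOfLe inf_le_right).toEquiv).trans X.card_U1
  have hp : IsPGroup 3 U₁ := IsPGroup.of_card (n := (2 * X.m + 1) * 3) (by rw [hcard, hK, ← pow_mul])
  have hidx : ¬ 3 ∣ U₁.index := by
    intro h
    have h1 := U₁.card_mul_index
    rw [hcard, X.card_G1, mul_assoc] at h1
    have h2 : U₁.index = (Fintype.card K - 1) * (Fintype.card K ^ 3 + 1) :=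
      Nat.eq_of_mul_eq_mul_left (pow_pos Fintype.card_pos 3) h1
    have h3 : 3 ∣ Fintype.card K := hK ▸ dvd_pow_self 3 (by omega)
    rw [h2] at h
    rcases (Nat.Prime.dvd_mul Nat.prime_three).1 h with h | h
    · have := Nat.dvd_sub h3 h
      rw [Nat.sub_sub_self Fintype.card_pos] at this
      exact absurd this (by norm_num)
    · exact absurd ((Nat.dvd_add_right (dvd_pow h3 (by norm_num))).1 h) (by norm_num)
  -- the conjugates meet trivially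
  have hBU : ∀ b ∈ X.Bs, ∀ u : ↥X.G1, u ∈ U₁ → b * u * b⁻¹ ∈ U₁ := by
    intro b hb u hu
    obtain ⟨v, hv, d, hd, e⟩ := SG.borel_decomp (X.mem_Bs.1 hb)
    rw [hU] at hu ⊢
    show (b : GL chevG2.Idx K) * u * (b : GL chevG2.Idx K)⁻¹ ∈ _
    rw [e, show v * d * (u : GL chevG2.Idx K) * (v * d)⁻¹ = v * (d * u * d⁻¹) * v⁻¹ by group]
    exact mul_mem (mul_mem hv ((Subgroup.mem_normalizer_iff.1 (SG.diag_normalises_U hd) _).1 hu)) (inv_mem hv)
  have hTI : ∀ k : ↥X.G1, k ∉ X.Bs → ∀ x ∈ U₁, k⁻¹ * x * k ∈ U₁ → x = 1 := by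
    intro k hk x hx hx'
    obtain ⟨b, hb, b', hb', rfl⟩ := (X.cases k).resolve_left hk
    set y := b⁻¹ * x * b
    have hy : y ∈ U₁ := by simpa [y] using hBU b⁻¹ (inv_mem hb) x hx
    have hy' : X.sn⁻¹ * y * X.sn ∈ U₁ := by
      have := hBU b' hb' _ hx'
      rw [show b' * ((b * X.sn * b')⁻¹ * x * (b * X.sn * b')) * b'⁻¹ = X.sn⁻¹ * (b⁻¹ * x * b) * X.sn by group] at this
      exact this
    have h1 : (y : GL chevG2.Idx K) ∈ chevG2.posUnipotent K ⊓ chevG2.diagonalSubgroup K :=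
      Subgroup.mem_inf.2 ⟨hU.1 hy, X.inter_conj (SG.B_le_of (hU.1 hy)) (SG.B_le_of (hU.1 hy'))⟩
    rw [SG.U_inf_H, Subgroup.mem_bot] at h1
    have h2 : y = 1 := Subtype.ext h1
    calc x = b * y * b⁻¹ := by simp only [y]; group
      _ = 1 := by rw [h2]; group
  have key : ∀ P Q : Sylow 3 ↥X.G1, P ≠ Q → (P : Subgroup ↥X.G1) ⊓ Q = ⊥ := by
    intro P Q hne
    obtain ⟨g, hg⟩ := MulAction.exists_smul_eq ↥X.G1 (hp.toSylow hidx) P
    obtain ⟨h, hh⟩ := MulAction.exists_smul_eq ↥X.G1 (hp.toSylow hidx) Q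
    have hmem : ∀ (g : ↥X.G1) (R : Sylow 3 ↥X.G1), g • hp.toSylow hidx = R →
        ∀ x, x ∈ (R : Subgroup ↥X.G1) ↔ g⁻¹ * x * g ∈ U₁ := by
      intro g R e x
      rw [← e, Sylow.coe_subgroup_smul, Subgroup.mem_pointwise_smul_iff_inv_smul_mem]
      simp [MulAut.smul_def]
    rw [Subgroup.eq_bot_iff_forall]
    intro x hx
    obtain ⟨hxP, hxQ⟩ := Subgroup.mem_inf.1 hx
    rw [hmem g P hg] at hxP
    rw [hmem h Q hh] at hxQ
    by_cases hk : g⁻¹ * h ∈ X.Bs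
    · refine absurd (Sylow.ext (SetLike.ext fun z => ?_)) hne
      rw [hmem g P hg, hmem h Q hh]
      constructor
      · intro hz
        have := hBU _ (inv_mem hk) _ hz
        rwa [show (g⁻¹ * h)⁻¹ * (g⁻¹ * z * g) * (g⁻¹ * h)⁻¹⁻¹ = h⁻¹ * z * h by group] at this
      · intro hz
        have := hBU _ hk _ hz
        rwa [show g⁻¹ * h * (h⁻¹ * z * h) * (g⁻¹ * h)⁻¹ = g⁻¹ * z * g by group] at this
    · have h1 := hTI _ hk _ hxP (by
        rwa [show (g⁻¹ * h)⁻¹ * (g⁻¹ * x * g) * (g⁻¹ * h) = h⁻¹ * x * h by group])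
      calc x = g * (g⁻¹ * x * g) * g⁻¹ := by group
        _ = 1 := by rw [h1]; group
  exact key P Q hPQ

end Cfsg.Agent.S1155
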