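import Cfsg.Statements.S1158
import Cfsg.Agent.Chev.GTwoOdd.ReeS.Final
-- import your own Cfsg.Agent.* helpers here

set_option autoImplicit false
open Cfsg

namespace Cfsg.Agent.S1158

/-- In the small Ree group ²G₂(q), q = 3^(2m+1) with m ≥ 1, realised as G¹ inside the Chevalley group G₂ over the field with q elements (θ the 3^m-th power map), with `r = 3^(m+1)` (so `r² = 3q`): for each `k ∈ {(q-1)/2, (q+1)/4, q - r + 1, q + r + 1}` there is a cyclic subgroup `A` of order `k` whose normaliser has order `2(q-1)`, `6(q+1)`, `6(q-r+1)`, `6(q+r+1)` respectively, and `N(A₀) = N(A)` for every non-trivial `A₀ ≤ A`. -/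
theorem result {K : Type*} [Field K] [Fintype K] {m : ℕ} (hm : 1 ≤ m) (hK : Fintype.card K = 3 ^ (2 * m + 1)) :
    ∀ kn ∈ ({((3 ^ (2 * m + 1) - 1) / 2, 2 * (3 ^ (2 * m + 1) - 1)), ((3 ^ (2 * m + 1) + 1) / 4, 6 * (3 ^ (2 * m + 1) + 1)),
        (3 ^ (2 * m + 1) - 3 ^ (m + 1) + 1, 6 * (3 ^ (2 * m + 1) - 3 ^ (m + 1) + 1)),
        (3 ^ (2 * m + 1) + 3 ^ (m + 1) + 1, 6 * (3 ^ (2 * m + 1) + 3 ^ (m + 1) + 1))} : Set (ℕ × ℕ)),
      ∃ A : Subgroup ↥(Cfsg.Lie.twistedG2 K (3 ^ m)), IsCyclic A ∧ Nat.card A = kn.1 ∧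
        Nat.card (Subgroup.normalizer (A : Set ↥(Cfsg.Lie.twistedG2 K (3 ^ m)))) = kn.2 ∧
        ∀ A₀ : Subgroup ↥(Cfsg.Lie.twistedG2 K (3 ^ m)), A₀ ≤ A → A₀ ≠ ⊥ →
          Subgroup.normalizer (A₀ : Set ↥(Cfsg.Lie.twistedG2 K (3 ^ m))) = Subgroup.normalizer (A : Set ↥(Cfsg.Lie.twistedG2 K (3 ^ m))) := by
  obtain ⟨X, rfl⟩ := Cfsg.Lib.Chev.Ree.exists_ree hK
  intro kn hkn
  have h27 := Cfsg.Lib.ReeStruct.NN_ge X hm
  obtain ⟨k, hk, hn, hh⟩ := Cfsg.Lib.ReeStruct.q_param X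
  have fin : ∀ {R C : Subgroup ↥X.G1} {n c N : ℕ}, Cfsg.Lib.ReeStruct.Ref X R C n c → 1 < n →
      Nat.card ↥(Subgroup.normalizer (C : Set ↥X.G1)) = N → kn = (n, N) →
      ∃ A : Subgroup ↥X.G1, IsCyclic A ∧ Nat.card A = kn.1 ∧
        Nat.card ↥(Subgroup.normalizer (A : Set ↥X.G1)) = kn.2 ∧
        ∀ A₀ : Subgroup ↥X.G1, A₀ ≤ A → A₀ ≠ ⊥ →
          Subgroup.normalizer (A₀ : Set ↥X.G1) = Subgroup.normalizer (A : Set ↥X.G1) := by
    intro R C n c N h hn1 hN e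
    subst e
    have hne : R ≠ ⊥ := fun e => by
      have := h.card
      rw [e, Subgroup.card_bot] at this
      omega
    have hA := h.normalizer le_rfl hne
    exact ⟨R, h.cyc, h.card, by rw [hA]; exact hN, fun A₀ h0 h1 => by rw [hA]; exact h.normalizer h0 h1⟩
  obtain ⟨A, B, hA, hB, rA, rB⟩ := Cfsg.Lib.ReeStruct.ref_tor X hm
  have e3 := Cfsg.Lib.ReeStruct.three_e_le X
  have hlo : 1 < Cfsg.Lib.ReeStruct.lo X := by
    have := Cfsg.Lib.ReeStruct.q_eq X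
    have h3 : 3 ≤ X.e := Nat.le_self_pow (by omega) 3
    have h9 := Nat.mul_le_mul (Nat.mul_le_mul_left 3 h3) (le_refl X.e)
    unfold Cfsg.Lib.ReeStruct.lo
    rw [sq, ← mul_assoc] at this
    omega
  have hhi : 1 < Cfsg.Lib.ReeStruct.hi X := by
    unfold Cfsg.Lib.ReeStruct.hi
    omega
  simp only [Set.mem_insert_iff, Set.mem_singleton_iff] at hkn
  rw [Cfsg.Lib.ReeStruct.lo_eq X, Cfsg.Lib.ReeStruct.hi_eq X, ← hK] at hkn
  rcases hkn with h | h | h | h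
  · exact fin (Cfsg.Lib.ReeStruct.ref_Hs X) (by omega) (Cfsg.Lib.ReeStruct.card_NH X hm) h
  · exact fin (Cfsg.Lib.ReeStruct.ref_T0 X hm) (by omega) (Cfsg.Lib.ReeStruct.card_NT X hm) h
  · exact fin rA hlo hA.norm h
  · exact fin rB hhi hB.norm h

end Cfsg.Agent.S1158
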