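import Cfsg.Statements.S1172
import Cfsg.Agent.TwoFusion.Product.Split

set_option autoImplicit false
open Cfsg

namespace Cfsg.Agent.S1172

/-- Let G be a finite group with no nontrivial normal subgroup of odd order and no proper normal subgroup of odd index, whose Sylow 2-subgroup S is not commutative and is the internal direct product of two subgroups each isomorphic to a dihedral group of order at least 4 and each strongly closed in S with respect to G (product fusion). Then G is the internal direct product of two normal subgroups G₁, G₂, and S is the internal direct product of dihedral subgroups R₁ ≤ G₁ and R₂ ≤ G₂ of odd index in G₁ and G₂ respectively (so R_i is a Sylow 2-subgroup of G_i). -/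
theorem result {G : Type*} [Group G] [Finite G] (hO : Cfsg.oddCore G = ⊥) (hO' : ∀ N : Subgroup G, N.Normal → Odd N.index → N = ⊤) (S : Sylow 2 G) (hS : ¬ IsMulCommutative (S : Subgroup G)) (S₁ S₂ : Subgroup G) (hprod : Cfsg.IsInternalDirectProduct S₁ S₂ (S : Subgroup G)) (m₁ m₂ : ℕ) (hm₁ : 2 ≤ m₁) (hm₂ : 2 ≤ m₂) (e₁ : S₁ ≃* DihedralGroup m₁) (e₂ : S₂ ≃* DihedralGroup m₂) (hcl₁ : Cfsg.IsStronglyClosed S₁ (S : Subgroup G)) (hcl₂ : Cfsg.IsStronglyClosed S₂ (S : Subgroup G)) : ∃ G₁ G₂ : Subgroup G, G₁.Normal ∧ G₂.Normal ∧ Cfsg.IsInternalDirectProduct G₁ G₂ ⊤ ∧ ∃ R₁ R₂ : Subgroup G, Cfsg.IsInternalDirectProduct R₁ R₂ (S : Subgroup G) ∧ (∃ n₁, 2 ≤ n₁ ∧ Nonempty (R₁ ≃* DihedralGroup n₁)) ∧ (∃ n₂, 2 ≤ n₂ ∧ Nonempty (R₂ ≃* DihedralGroup n₂)) ∧ R₁ ≤ G₁ ∧ R₂ ≤ G₂ ∧ Odd (R₁.relIndex G₁) ∧ Odd (R₂.relIndex G₂) := by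
  have hO2 : Cfsg.pPrimeCore 2 G = ⊥ := hO
  have hp' : Cfsg.IsInternalDirectProduct S₂ S₁ (S : Subgroup G) :=
    ⟨hprod.2.1, hprod.1, fun a ha b hb => (hprod.2.2.1 b hb a ha).symm,
      by rw [inf_comm]; exact hprod.2.2.2.1, by rw [sup_comm]; exact hprod.2.2.2.2⟩
  haveI hn₁ : (Subgroup.normalClosure (S₁ : Set G)).Normal := Subgroup.normalClosure_normal
  haveI hn₂ : (Subgroup.normalClosure (S₂ : Set G)).Normal := Subgroup.normalClosure_normal
  have htop : Subgroup.normalClosure (S₁ : Set G) ⊔ Subgroup.normalClosure (S₂ : Set G) = ⊤ := by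
    have hle : (S : Subgroup G) ≤
        Subgroup.normalClosure (S₁ : Set G) ⊔ Subgroup.normalClosure (S₂ : Set G) := by
      rw [← hprod.2.2.2.2]
      exact sup_le_sup Subgroup.le_normalClosure Subgroup.le_normalClosure
    haveI : Fact (Nat.Prime 2) := ⟨Nat.prime_two⟩
    refine hO' _ inferInstance ?_
    rw [Nat.odd_iff, ← Nat.two_dvd_ne_zero]
    exact fun h => S.not_dvd_index (h.trans (Subgroup.index_dvd_of_le hle))
  exact ⟨_, _, hn₁, hn₂, ⟨le_top, le_top,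
      fun a ha b hb => Cfsg.Lib.ProdFusion.commute_normalClosures hO2 S hcl₁ hcl₂ hprod ha hb,
      Cfsg.Lib.ProdFusion.normalClosures_inf_eq_bot hO2 S hcl₁ hcl₂ hprod, htop⟩,
    S₁, S₂, hprod, ⟨m₁, hm₁, ⟨e₁⟩⟩, ⟨m₂, hm₂, ⟨e₂⟩⟩, Subgroup.le_normalClosure,
    Subgroup.le_normalClosure,
    Cfsg.Lib.ProdFusion.odd_relIndex_normalClosure hO2 S hcl₁ hcl₂ hprod,
    Cfsg.Lib.ProdFusion.odd_relIndex_normalClosure hO2 S hcl₂ hcl₁ hp'⟩

end Cfsg.Agent.S1172
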