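import Cfsg.Statements.S1176
import Cfsg.Agent.InvolCalc.Dihedral

set_option autoImplicit false
open Cfsg

namespace Cfsg.Agent.S1176

open scoped commutatorElement


/-- Let x₀ be an involution of the finite group G and D its conjugacy class. Assume (a) for each x ∈ D the subgroup W(x) generated by the members of D commuting with x is a 2-group of nilpotency class at most 2, and (b) the product of two distinct commuting members of D again lies in D. Then for all x, y ∈ D, if xy has even order greater than 2, its order is 4. -/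
theorem result {G : Type*} [Group G] [Finite G] (x₀ : G) (hx₀ : orderOf x₀ = 2) (ha : ∀ x : G, IsConj x₀ x → IsPGroup 2 ↥(Subgroup.closure {y : G | IsConj x₀ y ∧ Commute y x}) ∧ ⁅⁅Subgroup.closure {y : G | IsConj x₀ y ∧ Commute y x}, Subgroup.closure {y : G | IsConj x₀ y ∧ Commute y x}⁆, Subgroup.closure {y : G | IsConj x₀ y ∧ Commute y x}⁆ = ⊥) (hb : ∀ x y : G, IsConj x₀ x → IsConj x₀ y → x ≠ y → Commute x y → IsConj x₀ (x * y)) (x y : G) (hx : IsConj x₀ x) (hy : IsConj x₀ y) (heven : Even (orderOf (x * y))) (hgt : 2 < orderOf (x * y)) : orderOf (x * y) = 4 := by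
  open Cfsg.Lib.InvolCalc in
  exact by
    haveI : Fact (Nat.Prime 2) := ⟨Nat.prime_two⟩
    have hord : ∀ w : G, IsConj x₀ w → orderOf w = 2 := by
      intro w hw
      obtain ⟨c, rfl⟩ := isConj_iff.1 hw
      rw [show c * x₀ * c⁻¹ = MulAut.conj c x₀ from rfl, MulEquiv.orderOf_eq, hx₀]
    have hxo := hord x hx
    have hyo := hord y hy
    obtain ⟨hz2, hzx, hzy⟩ := central_spec hxo hyo heven
    set r := x * y with hr
    set h := orderOf r / 2 with hh
    set z := r ^ h with hz
    have hxz : IsConj x₀ (x * z) := by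
      have key : ∀ n : ℕ, IsConj x₀ (x * r ^ n) ∧ IsConj x₀ (x * r ^ (n + 1)) := by
        intro n
        induction n with
        | zero => exact ⟨by rwa [pow_zero, mul_one], by rw [zero_add, pow_one, hr, ← snd_eq hxo]; exact hy⟩
        | succ n ih =>
          refine ⟨ih.2, ih.1.trans (isConj_iff.2 ⟨r⁻¹, ?_⟩)⟩
          rw [inv_inv, pow_succ' r (n + 1), ← mul_assoc x r, show x * r = y from (snd_eq hxo).symm, pow_succ]
          rw [hr, mul_inv_rev, inv_of_order_two hyo, inv_of_order_two hxo]
          rw [show y * x * (x * (x * y) ^ n) * (x * y) = y * (x * x) * ((x * y) ^ n * (x * y)) by group,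
            sq_of_order_two hxo, mul_one]
      exact (key h).1
    have hzD : IsConj x₀ z := by
      have h1 : x ≠ x * z := fun e => ne_one_of_order_two hz2 (left_eq_mul.1 e)
      have h2 := hb x (x * z) hx hxz h1 ((Commute.refl x).mul_right hzx.symm)
      rwa [← mul_assoc, sq_of_order_two hxo, one_mul] at h2
    set W := Subgroup.closure {w : G | IsConj x₀ w ∧ Commute w z} with hW
    have hxW : x ∈ W := Subgroup.subset_closure ⟨hx, hzx.symm⟩
    have hyW : y ∈ W := Subgroup.subset_closure ⟨hy, hzy.symm⟩
    obtain ⟨hp, hcl⟩ := ha z hzD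
    have hc : Commute ⁅x, y⁆ x := by
      have h1 := Subgroup.commutator_mem_commutator (Subgroup.commutator_mem_commutator hxW hyW) hxW
      rw [hcl, Subgroup.mem_bot] at h1
      exact commutatorElement_eq_one_iff_commute.1 h1
    have hxy2 : ⁅x, y⁆ = r ^ 2 := by
      rw [commutatorElement_def, inv_of_order_two hxo, inv_of_order_two hyo, hr, pow_two, mul_assoc, mul_assoc]
    have h4 : r ^ 4 = 1 := by
      rw [hxy2] at hc
      have hflip : x * r ^ 2 * x⁻¹ = (r ^ 2)⁻¹ := by rw [← conj_pow, flip_mul hxo hyo, inv_pow]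
      rw [hc.symm.eq, mul_inv_cancel_right] at hflip
      rw [show 4 = 2 + 2 from rfl, pow_add]
      nth_rw 2 [hflip]
      exact mul_inv_cancel _
    have h5 := orderOf_dvd_of_pow_eq_one h4
    have h6 := Nat.le_of_dvd (by norm_num) h5
    obtain ⟨k, hk⟩ := heven
    interval_cases h7 : orderOf r <;> omega

end Cfsg.Agent.S1176
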