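import Cfsg.Statements.S1181
import Cfsg.Agent.InvolCalc.Isolated

set_option autoImplicit false
open Cfsg

namespace Cfsg.Agent.S1181

/-- Let z be an isolated involution of the finite group G and N a normal subgroup with z ∉ N. Then the centralizer of zN in G/N is the image of C_G(z), and zN is an isolated involution of G/N. -/
theorem result {G : Type*} [Group G] [Finite G] (z : G) (hz : Cfsg.IsIsolatedInvolution z) (N : Subgroup G) [N.Normal] (hzN : z ∉ N) : Subgroup.centralizer ({(QuotientGroup.mk z : G ⧸ N)} : Set (G ⧸ N)) = (Subgroup.centralizer ({z} : Set G)).map (QuotientGroup.mk' N) ∧ Cfsg.IsIsolatedInvolution (QuotientGroup.mk z : G ⧸ N) := by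
  have key : ∀ g : G, Commute (QuotientGroup.mk z : G ⧸ N) (QuotientGroup.mk (g * z * g⁻¹)) →
      (QuotientGroup.mk (g * z * g⁻¹) : G ⧸ N) = QuotientGroup.mk z := by
    intro g hc
    set x : G ⧸ N := QuotientGroup.mk (z * (g * z * g⁻¹)) with hx
    have hzz : (QuotientGroup.mk z : G ⧸ N) * QuotientGroup.mk z = 1 := by
      rw [← QuotientGroup.mk_mul, Cfsg.Lib.InvolCalc.sq_of_order_two hz.1, QuotientGroup.mk_one]
    have hss : (QuotientGroup.mk (g * z * g⁻¹) : G ⧸ N) * QuotientGroup.mk (g * z * g⁻¹) = 1 := by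
      rw [← QuotientGroup.mk_mul, Cfsg.Lib.InvolCalc.sq_of_order_two (Cfsg.Lib.Isolated.order_conj hz g),
        QuotientGroup.mk_one]
    have hx2 : x * x = 1 * 1 := by
      rw [hx, QuotientGroup.mk_mul, ← sq, hc.mul_pow, sq, sq, hzz, hss]
    have hxo : Odd (orderOf x) :=
      Odd.of_dvd_nat (Cfsg.Lib.Isolated.odd_orderOf_mul' hz g) (orderOf_map_dvd (QuotientGroup.mk' N) _)
    have hx1 : x = 1 := Cfsg.Lib.Isolated.eq_of_sq_eq hxo (by simp) hx2
    rw [hx, QuotientGroup.mk_mul] at hx1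
    exact mul_left_cancel (hx1.trans hzz.symm)
  refine ⟨le_antisymm ?_ ?_, orderOf_eq_prime ?_ ?_, ?_⟩
  · intro q hq
    obtain ⟨g, rfl⟩ := QuotientGroup.mk_surjective q
    rw [Subgroup.mem_centralizer_singleton_iff, ← QuotientGroup.mk_mul, ← QuotientGroup.mk_mul,
      QuotientGroup.eq] at hq
    set H : Subgroup G := Subgroup.zpowers z ⊔ N with hH
    have hzH : z ∈ H := Subgroup.mem_sup_left (Subgroup.mem_zpowers z)
    have hs : g * z * g⁻¹ ∈ H := by
      have h1 : g * z * g⁻¹ * z⁻¹ ∈ N := by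
        have e := Subgroup.Normal.conj_mem (inferInstance : N.Normal) _ (inv_mem hq) (z * g)
        rwa [show z * g * ((g * z)⁻¹ * (z * g))⁻¹ * (z * g)⁻¹ = g * z * g⁻¹ * z⁻¹ by group] at e
      have := mul_mem ((le_sup_right : N ≤ H) h1) hzH
      rwa [inv_mul_cancel_right] at this
    obtain ⟨h, hh, he⟩ := Cfsg.Lib.Isolated.conj_in hz H hzH hs
    obtain ⟨a, ha, n, hn, rfl⟩ := Subgroup.mem_sup_of_normal_right.1 hh
    have hc : Commute ((a * n)⁻¹ * g) z := by
      refine mul_inv_eq_iff_eq_mul.1 ?_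
      calc (a * n)⁻¹ * g * z * ((a * n)⁻¹ * g)⁻¹ = (a * n)⁻¹ * (g * z * g⁻¹) * (a * n) := by group
        _ = (a * n)⁻¹ * ((a * n) * z * (a * n)⁻¹) * (a * n) := by rw [he]
        _ = z := by group
    have haz : Commute a z := by
      obtain ⟨i, rfl⟩ := Subgroup.mem_zpowers_iff.1 ha
      exact (Commute.refl z).zpow_left i
    refine ⟨a * ((a * n)⁻¹ * g), Subgroup.mem_centralizer_singleton_iff.2 (haz.mul_left hc).eq, ?_⟩
    rw [QuotientGroup.mk'_apply, QuotientGroup.eq]
    rw [show (a * ((a * n)⁻¹ * g))⁻¹ * g = g⁻¹ * (a * n * a⁻¹) * g by group]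
    exact Subgroup.Normal.conj_mem' (inferInstance : N.Normal) _
      (Subgroup.Normal.conj_mem (inferInstance : N.Normal) n hn a) g
  · rintro _ ⟨c, hc, rfl⟩
    rw [Subgroup.mem_centralizer_singleton_iff, QuotientGroup.mk'_apply, ← QuotientGroup.mk_mul,
      ← QuotientGroup.mk_mul, Subgroup.mem_centralizer_singleton_iff.1 hc]
  · rw [← QuotientGroup.mk_pow, ← hz.1, pow_orderOf_eq_one, QuotientGroup.mk_one]
  · exact fun h => hzN ((QuotientGroup.eq_one_iff z).1 h)
  · intro q hq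
    obtain ⟨g, rfl⟩ := QuotientGroup.mk_surjective q
    rw [← QuotientGroup.mk_mul, ← QuotientGroup.mk_inv, ← QuotientGroup.mk_mul] at hq ⊢
    exact key g hq

end Cfsg.Agent.S1181
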