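import Cfsg.Statements.S1183
import Cfsg.Agent.InvolCalc.Isolated
import Cfsg.Agent.Transfer.Control

set_option autoImplicit false
open Cfsg

namespace Cfsg.Agent.S1183

open scoped commutatorElement


/-- Let z be an isolated involution of the finite group G and C = C_G(z). Then the subgroup of G generated by its elements of odd order is all of G if and only if the subgroup of C generated by its elements of odd order is all of C. -/
theorem result {G : Type*} [Group G] [Finite G] (z : G) (hz : Cfsg.IsIsolatedInvolution z) : Cfsg.pResidual 2 G = ⊤ ↔ Cfsg.pResidual 2 ↥(Subgroup.centralizer ({z} : Set G)) = ⊤ := by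
  haveI : Fact (Nat.Prime 2) := ⟨Nat.prime_two⟩
  set C := Subgroup.centralizer ({z} : Set G) with hC
  constructor
  · intro hG
    obtain ⟨T, hT⟩ := Cfsg.Lib.Isolated.exists_sylow_le hz
    have hfoc : Subgroup.focalSubgroup (T : Subgroup G) ≤ (commutator ↥C).map C.subtype := by
      rw [Subgroup.focalSubgroup_def, Subgroup.closure_le]
      rintro x ⟨hx, a, ha, u, rfl⟩
      have hua : u * a⁻¹ * u⁻¹ ∈ (T : Subgroup G) := by
        have := mul_mem (inv_mem ha) hx
        rw [commutatorElement_def] at this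
        rwa [show a⁻¹ * (a * u * a⁻¹ * u⁻¹) = u * a⁻¹ * u⁻¹ by group] at this
      have haz : Commute a⁻¹ z := Subgroup.mem_centralizer_singleton_iff.1 (inv_mem (hT ha))
      obtain ⟨c, -, hc, he⟩ := Cfsg.Lib.Isolated.fusion hz ⊤ (by rw [Subgroup.normalizer_eq_top]; trivial)
        haz (Subgroup.mem_centralizer_singleton_iff.1 (hT hua)) (Subgroup.mem_top u)
      have hcC : c ∈ C := Subgroup.mem_centralizer_singleton_iff.2 hc.eq
      refine ⟨⁅(⟨a, hT ha⟩ : C), ⟨c, hcC⟩⁆, Subgroup.commutator_mem_commutator (Subgroup.mem_top _) (Subgroup.mem_top _), ?_⟩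
      rw [map_commutatorElement, commutatorElement_def, commutatorElement_def]
      show a * c * a⁻¹ * c⁻¹ = a * u * a⁻¹ * u⁻¹
      rw [show a * c * a⁻¹ * c⁻¹ = a * (c * a⁻¹ * c⁻¹) by group, he]
      group
    have hTC : ((T.subtype hT : Sylow 2 C) : Subgroup C) ≤ commutator ↥C := by
      intro x hx
      have h1 : (x : G) ∈ Subgroup.focalSubgroup (T : Subgroup G) :=
        Cfsg.Lib.Transfer.pResidual_inf_le_focal T ⟨by rw [hG]; trivial, hx⟩
      obtain ⟨y, hy, hye⟩ := hfoc h1
      rwa [← Subtype.ext (p := fun g => g ∈ C) hye]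
    have htop : commutator ↥C ⊔ Cfsg.pResidual 2 ↥C = ⊤ := by
      rw [eq_top_iff, ← Cfsg.Lib.Transfer.pResidual_sup_sylow (T.subtype hT)]
      exact sup_le le_sup_right (hTC.trans le_sup_left)
    set Q := ↥C ⧸ Cfsg.pResidual 2 ↥C
    haveI : Group.IsNilpotent Q := Cfsg.Lib.Transfer.isPGroup_quotient_pResidual.isNilpotent
    rcases subsingleton_or_nontrivial Q with h | h
    · exact QuotientGroup.subgroup_eq_top_of_subsingleton (Cfsg.pResidual 2 ↥C) h
    · exfalso
      refine (Group.IsSolvable.commutator_lt_top_of_nontrivial Q).ne ?_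
      rw [commutator_def, ← Subgroup.map_top_of_surjective (QuotientGroup.mk' (Cfsg.pResidual 2 ↥C))
        (QuotientGroup.mk'_surjective _), ← Subgroup.map_commutator, ← commutator_def]
      conv_rhs => rw [← htop]
      rw [Subgroup.map_sup, QuotientGroup.map_mk'_self, sup_bot_eq]
  · intro hCt
    rw [eq_top_iff]
    intro g _
    obtain ⟨k, hk, -, hk'⟩ := Cfsg.Lib.Isolated.exists_inverted hz g
    have h1 : k ∈ Cfsg.pResidual 2 G := Cfsg.Lib.Transfer.mem_pResidual_of_coprime (Nat.coprime_two_right.2 hk)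
    have h2 : k⁻¹ * g ∈ C := by
      rw [hC, Subgroup.mem_centralizer_singleton_iff]
      calc k⁻¹ * g * z = k⁻¹ * (g * z * g⁻¹) * g := by group
        _ = k⁻¹ * (k * z * k⁻¹) * g := by rw [hk']
        _ = z * (k⁻¹ * g) := by group
    have h3 : k⁻¹ * g ∈ Cfsg.pResidual 2 G := by
      refine Cfsg.Lib.Transfer.pResidual_map_le C.subtype ⟨⟨_, h2⟩, ?_, rfl⟩
      rw [hCt]
      trivial
    rw [show g = k * (k⁻¹ * g) by group]
    exact mul_mem h1 h3

end Cfsg.Agent.S1183
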