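import Cfsg.Statements.S1186
import Cfsg.Agent.InvolCalc.Isolated

set_option autoImplicit false
open Cfsg

namespace Cfsg.Agent.S1186

/-- Let z be an isolated involution of the finite group G, C = C_G(z), K the set of elements of odd order inverted by z, and s an involution of C. Then |G| = |C| · |C_K(sz)| · |C_K(s)|. -/
theorem result {G : Type*} [Group G] [Finite G] (z : G) (hz : Cfsg.IsIsolatedInvolution z) (s : G) (hs : orderOf s = 2) (hsz : Commute s z) : Nat.card G = Nat.card (Subgroup.centralizer ({z} : Set G)) * Nat.card {k : G // Odd (orderOf k) ∧ z * k * z⁻¹ = k⁻¹ ∧ Commute k (s * z)} * Nat.card {k : G // Odd (orderOf k) ∧ z * k * z⁻¹ = k⁻¹ ∧ Commute k s} := by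
  open Cfsg.Lib.Isolated in
  open Cfsg.Lib.InvolCalc in
  exact by
    rw [card_eq hz, mul_assoc]
    congr 1
    rw [← Nat.card_prod]
    symm
    set r := s * z with hr
    have hs' := sq_of_order_two hs
    have hz' := sq_of_order_two hz.1
    have hrz : Commute r z := hsz.mul_left (Commute.refl z)
    have hzr : z * r = s := by rw [hr, ← mul_assoc, ← hsz.eq, mul_assoc, hz', mul_one]
    have hrr : r * r = 1 := by rw [← sq, hr, hsz.mul_pow, sq, sq, hs', hz', one_mul]
    have hri : r⁻¹ = r := inv_eq_of_mul_eq_one_right hrr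
    have conjz : ∀ a : G, Commute a z → ∀ g : G, a * (g * z * g⁻¹) * a⁻¹ = (a * g) * z * (a * g)⁻¹ := by
      intro a _ g
      group
    have hfix : ∀ a : G, Commute a z → ∀ k : G, Odd (orderOf k) → z * k * z⁻¹ = k⁻¹ →
        a * (k * z * k⁻¹) * a⁻¹ = k * z * k⁻¹ → Commute k a := by
      intro a ha k hk hk' h
      have h1 : a * k * a⁻¹ = k := by
        refine inverted_unique hz (by rwa [orderOf_conj']) hk ?_ hk' ?_
        · calc z * (a * k * a⁻¹) * z⁻¹ = (z * a) * k * (z * a)⁻¹ := by group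
            _ = (a * z) * k * (a * z)⁻¹ := by rw [ha.eq]
            _ = a * (z * k * z⁻¹) * a⁻¹ := by group
            _ = (a * k * a⁻¹)⁻¹ := by rw [hk']; group
        · calc a * k * a⁻¹ * z * (a * k * a⁻¹)⁻¹ = a * k * (a⁻¹ * z * a) * k⁻¹ * a⁻¹ := by group
            _ = a * k * z * k⁻¹ * a⁻¹ := by rw [mul_assoc a⁻¹, ← ha.eq, inv_mul_cancel_left]
            _ = k * z * k⁻¹ := by rw [show a * k * z * k⁻¹ * a⁻¹ = a * (k * z * k⁻¹) * a⁻¹ by group]; exact h
      exact (mul_inv_eq_iff_eq_mul.1 h1).symm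
    have comconj : ∀ a b : G, Commute a b → a * b * a⁻¹ = b := fun a b h => by
      rw [h.eq, mul_inv_cancel_right]
    refine Nat.card_congr (Equiv.ofBijective (fun q => ⟨(q.1.1 * q.2.1) * z * (q.1.1 * q.2.1)⁻¹, _, rfl⟩) ⟨?_, ?_⟩)
    · rintro ⟨⟨a, ha, ha', har⟩, ⟨b, hb, hb', hbs⟩⟩ ⟨⟨a', hA, hA', hAr⟩, ⟨b', hB, hB', hBs⟩⟩ h
      have h0 : (a * b) * z * (a * b)⁻¹ = (a' * b') * z * (a' * b')⁻¹ := congrArg Subtype.val h
      have hv : ∀ c d : G, Commute c r → Commute d s →
          c * z * c⁻¹ * ((c * d) * z * (c * d)⁻¹) * (c * z * c⁻¹)⁻¹ = r * ((c * d) * z * (c * d)⁻¹) * r⁻¹ := by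
        intro c d hc hd
        have e2 : s * (d * z * d⁻¹) * s⁻¹ = d * z * d⁻¹ :=
          comconj _ _ ((hd.symm.mul_right hsz).mul_right hd.symm.inv_right)
        calc c * z * c⁻¹ * ((c * d) * z * (c * d)⁻¹) * (c * z * c⁻¹)⁻¹
            = c * (z * (d * z * d⁻¹) * z⁻¹) * c⁻¹ := by group
          _ = c * (z * (s * (d * z * d⁻¹) * s⁻¹) * z⁻¹) * c⁻¹ := by rw [e2]
          _ = c * ((z * s) * (d * z * d⁻¹) * (z * s)⁻¹) * c⁻¹ := by group
          _ = c * (r * (d * z * d⁻¹) * r⁻¹) * c⁻¹ := by rw [← hsz.eq]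
          _ = (c * r) * (d * z * d⁻¹) * (c * r)⁻¹ := by group
          _ = (r * c) * (d * z * d⁻¹) * (r * c)⁻¹ := by rw [hc.eq]
          _ = r * ((c * d) * z * (c * d)⁻¹) * r⁻¹ := by group
      have e1 := hv a b har hbs
      have e2 := hv a' b' hAr hBs
      rw [← h0] at e2
      rw [← e1] at e2
      set t := (a * b) * z * (a * b)⁻¹ with ht
      have hva : a * z * a⁻¹ * t = a' * z * a'⁻¹ * t := by
        refine eq_of_sq_eq (odd_orderOf_mul hz a (a * b)) (odd_orderOf_mul hz a' (a * b)) ?_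
        rw [inv_of_order_two (order_conj hz a), inv_of_order_two (order_conj hz a')] at e2
        calc _ = a * z * a⁻¹ * t * (a * z * a⁻¹) * t := (mul_assoc _ _ _).symm
          _ = a' * z * a'⁻¹ * t * (a' * z * a'⁻¹) * t := by rw [e2]
          _ = _ := mul_assoc _ _ _
      have haa : a = a' := inverted_unique hz ha hA ha' hA' (mul_right_cancel hva)
      subst haa
      have hb0 : b * z * b⁻¹ = b' * z * b'⁻¹ := by
        calc b * z * b⁻¹ = a⁻¹ * t * a := by rw [ht]; group
          _ = a⁻¹ * ((a * b') * z * (a * b')⁻¹) * a := by rw [h0]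
          _ = b' * z * b'⁻¹ := by group
      have hbb : b = b' := inverted_unique hz hb hB hb' hB' hb0
      subst hbb
      rfl
    · rintro ⟨t, g, rfl⟩
      set t := g * z * g⁻¹ with ht
      set t' := r * t * r⁻¹ with ht'
      have ht'eq : t' = (r * g) * z * (r * g)⁻¹ := by rw [ht', ht]; group
      obtain ⟨j, hj⟩ : ∃ j : ℕ, (t' * t) ^ j * t' * ((t' * t) ^ j)⁻¹ = t := by
        rw [ht'eq]; exact exists_pow_conj hz (r * g) g
      obtain ⟨m, hm⟩ : Odd (orderOf (t' * t)) := by rw [ht'eq]; exact odd_orderOf_mul hz (r * g) g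
      have ht2 : t * t = 1 := sq_of_order_two (order_conj hz g)
      have hti : t⁻¹ = t := inv_eq_of_mul_eq_one_right ht2
      have ht'i : t'⁻¹ = t' := by rw [ht'eq]; exact inv_of_order_two (order_conj hz (r * g))
      set h := (t' * t) ^ (m + 1) with hh
      have hh2 : h * h = t' * t := by
        rw [hh, ← sq, ← pow_mul, show (m + 1) * 2 = orderOf (t' * t) + 1 by omega, pow_succ,
          pow_orderOf_eq_one, one_mul]
      have htflip : t * (t' * t) * t⁻¹ = (t' * t)⁻¹ := by rw [hti, show (t' * t)⁻¹ = t⁻¹ * t'⁻¹ from mul_inv_rev t' t, ht'i, hti, mul_assoc, mul_assoc t' t t, ht2, mul_one]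
      have hhflip : t * h * t⁻¹ = h⁻¹ := by rw [hh, ← conj_pow, htflip, inv_pow]
      have hrflip : r * h * r⁻¹ = h⁻¹ := by
        have e0 : r * (t' * t) * r⁻¹ = (t' * t)⁻¹ := by
          rw [show (t' * t)⁻¹ = t⁻¹ * t'⁻¹ from mul_inv_rev t' t, ht'i, hti, ht', hri]
          calc r * (r * t * r * t) * r = (r * r) * t * r * t * r := by group
            _ = t * (r * t * r) := by rw [hrr]; group
        rw [hh, ← conj_pow, e0, inv_pow]
      -- v is the midpoint of `t` and `t'`
      set v := h * t with hv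
      have hvv : v * v = 1 := by
        rw [hv, mul_assoc, ← mul_assoc t, show t * h = h⁻¹ * t from mul_inv_eq_iff_eq_mul.1 hhflip]
        rw [mul_assoc, ← mul_assoc h, mul_inv_cancel, one_mul, ht2]
      have hrv : r * v * r⁻¹ = v := by
        calc r * v * r⁻¹ = (r * h * r⁻¹) * (r * t * r⁻¹) := by rw [hv]; group
          _ = h⁻¹ * ((t' * t) * t) := by rw [hrflip, mul_assoc t', ht2, mul_one]
          _ = h⁻¹ * ((h * h) * t) := by rw [hh2]
          _ = v := by rw [hv]; group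
      obtain ⟨w, hw⟩ : ∃ w : G, w * z * w⁻¹ = v := by
        obtain ⟨hA, hB⟩ := mul_pow_conj hz (r * g) g m
        obtain ⟨w, hw⟩ := hB
        rw [← ht'eq, ← ht, ← hh] at hw
        refine ⟨w, hw.trans ?_⟩
        calc t' * h = ((t' * t) * t) * h := by rw [mul_assoc t', ht2, mul_one]
          _ = h * h * (t * h) := by rw [hh2]; group
          _ = h * h * (h⁻¹ * t) := by rw [show t * h = h⁻¹ * t from mul_inv_eq_iff_eq_mul.1 hhflip]
          _ = v := by rw [hv]; group
      obtain ⟨a, ha, ha', hav⟩ := exists_inverted hz w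
      rw [hw] at hav
      have har : Commute a r := hfix r hrz a ha ha' (by rw [hav]; exact hrv)
      set u := a⁻¹ * t * a with hu
      obtain ⟨b, hb, hb', hbu⟩ := exists_inverted hz (a⁻¹ * g)
      have hbu' : b * z * b⁻¹ = u := by rw [hbu, hu, ht]; group
      have hus : s * u * s⁻¹ = u := by
        have e1 : v * t * v⁻¹ = t' := by
          rw [inv_eq_of_mul_eq_one_right hvv, hv, mul_assoc h t t, ht2, mul_one, ← mul_assoc, hh2, mul_assoc,
            ht2, mul_one]
        have e2 : r * t * r⁻¹ = v * t * v⁻¹ := e1.symm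
        calc s * u * s⁻¹ = (z * r) * (a⁻¹ * t * a) * (z * r)⁻¹ := by rw [hzr, hu]
          _ = z * ((r * a⁻¹) * t * (r * a⁻¹)⁻¹) * z⁻¹ := by group
          _ = z * ((a⁻¹ * r) * t * (a⁻¹ * r)⁻¹) * z⁻¹ := by rw [har.inv_left.eq]
          _ = (z * a⁻¹) * (r * t * r⁻¹) * (z * a⁻¹)⁻¹ := by group
          _ = (z * a⁻¹) * ((a * z * a⁻¹) * t * (a * z * a⁻¹)⁻¹) * (z * a⁻¹)⁻¹ := by rw [e2, hav]
          _ = (z * z) * (a⁻¹ * t * a) * (z * z)⁻¹ := by group
          _ = u := by rw [hz', hu]; group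
      have hbs : Commute b s := hfix s hsz b hb hb' (by rw [hbu']; exact hus)
      refine ⟨(⟨a, ha, ha', har⟩, ⟨b, hb, hb', hbs⟩), Subtype.ext ?_⟩
      show (a * b) * z * (a * b)⁻¹ = t
      calc (a * b) * z * (a * b)⁻¹ = a * (b * z * b⁻¹) * a⁻¹ := by group
        _ = a * (a⁻¹ * t * a) * a⁻¹ := by rw [hbu', hu]
        _ = t := by group

end Cfsg.Agent.S1186
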