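import Cfsg.Statements.S1189
import Cfsg.Agent.PGroups.QuasiDihedral

set_option autoImplicit false
open Cfsg

namespace Cfsg.Agent.S1189

/-- A quasi-dihedral 2-group has exactly two conjugacy classes of elements of order 2 and exactly two conjugacy classes of elements of order 4. -/
theorem result {S : Type*} [Group S] [Finite S] (hS : Cfsg.IsQuasiDihedral S) : Nat.card {C : ConjClasses S // ∃ t : S, orderOf t = 2 ∧ ConjClasses.mk t = C} = 2 ∧ Nat.card {C : ConjClasses S // ∃ t : S, orderOf t = 4 ∧ ConjClasses.mk t = C} = 2 := by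
  obtain ⟨m, a, b, h⟩ := Cfsg.Lib.QD.exists_gen hS
  set z := a ^ ((2 : ℤ) ^ (m - 1)) with hz
  set w := a ^ ((2 : ℤ) ^ (m - 2)) with hw
  have hnot : ∀ (g : S) (i : ℤ), ¬ IsConj g (a ^ i * b) ∨ g ∉ Subgroup.zpowers a := by
    intro g i
    by_cases hg : g ∈ Subgroup.zpowers a
    · refine Or.inl fun hc => ?_
      obtain ⟨c, hc'⟩ := isConj_iff.1 hc
      haveI : (Subgroup.zpowers a).Normal := Subgroup.normal_of_index_eq_two (Cfsg.Lib.CyclicMax.index_zpowers h.2)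
      exact Cfsg.Lib.CyclicMax.notMem_mul h.2 i (hc' ▸ ‹(Subgroup.zpowers a).Normal›.conj_mem g hg c)
    · exact Or.inr hg
  constructor
  · rw [Nat.card_eq_two_iff]
    refine ⟨⟨ConjClasses.mk z, z, Cfsg.Lib.QD.orderOf_z h, rfl⟩,
      ⟨ConjClasses.mk (a ^ (0 : ℤ) * b), _, (Cfsg.Lib.QD.orderOf_b h 0).1 (dvd_zero 2), rfl⟩, fun e => ?_, Set.eq_univ_of_forall ?_⟩
    · have e' := ConjClasses.mk_eq_mk_iff_isConj.1 (congrArg Subtype.val e)
      exact (hnot z 0).elim (fun hh => hh e') (fun hh => hh (zpow_mem (Subgroup.mem_zpowers a) _))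
    · rintro ⟨C, t, ht, rfl⟩
      rcases Cfsg.Lib.QD.order_two_cases h ht with rfl | ⟨i, rfl⟩
      · exact Or.inl rfl
      · obtain ⟨c, hc⟩ := Cfsg.Lib.QD.conj_parity h (i := 2 * i) (j := 0) ⟨-i, by ring⟩
        exact Or.inr (Subtype.ext (ConjClasses.mk_eq_mk_iff_isConj.2 (isConj_iff.2 ⟨_, hc⟩)))
  · rw [Nat.card_eq_two_iff]
    refine ⟨⟨ConjClasses.mk w, w, Cfsg.Lib.QD.orderOf_w h, rfl⟩,
      ⟨ConjClasses.mk (a ^ (1 : ℤ) * b), _, (Cfsg.Lib.QD.orderOf_b h 1).2 (by norm_num), rfl⟩, fun e => ?_, Set.eq_univ_of_forall ?_⟩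
    · have e' := ConjClasses.mk_eq_mk_iff_isConj.1 (congrArg Subtype.val e)
      exact (hnot w 1).elim (fun hh => hh e') (fun hh => hh (zpow_mem (Subgroup.mem_zpowers a) _))
    · rintro ⟨C, t, ht, rfl⟩
      rcases Cfsg.Lib.CyclicMax.cases h.2 t with ⟨i, rfl⟩ | ⟨i, rfl⟩
      · refine Or.inl (Subtype.ext (ConjClasses.mk_eq_mk_iff_isConj.2 ?_))
        have hmem := Cfsg.Lib.QD.mem_w_of_pow_four h (i := i) (ht ▸ pow_orderOf_eq_one _)
        rw [← hw] at hmem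
        obtain ⟨c, hc⟩ := Subgroup.mem_zpowers_iff.1 hmem
        obtain ⟨h1, h2, h3⟩ := Cfsg.Lib.QD.pows h
        rcases Int.even_or_odd c with ⟨q, rfl⟩ | ⟨q, rfl⟩
        · exfalso
          have : (a ^ i) ^ 2 = 1 := by
            rw [← hc, hw, ← zpow_natCast, ← zpow_mul, ← zpow_mul, Cfsg.Lib.CyclicMax.zpow_eq_one h.2, h1, h2]
            exact ⟨q, by push_cast; ring⟩
          have := Nat.le_of_dvd two_pos (orderOf_dvd_of_pow_eq_one this)
          omega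
        · rcases Int.even_or_odd q with ⟨u, rfl⟩ | ⟨u, rfl⟩
          · have : a ^ i = w := by
              rw [← hc, hw, ← zpow_mul, Cfsg.Lib.CyclicMax.zpow_eq_iff h.2, h1, h2]
              exact ⟨-u, by ring⟩
            rw [this]
          · refine isConj_iff.2 ⟨b, ?_⟩
            rw [← hc, hw, ← zpow_mul, Cfsg.Lib.CyclicMax.conj_b h.2, mul_inv_cancel_right, Cfsg.Lib.CyclicMax.zpow_eq_iff h.2, h1, h2, h3]
            exact ⟨(1 - 4 * 2 ^ (m - 3)) * u + 1 - (3 * 2 ^ (m - 3)), by ring⟩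
      · by_cases hi : (2 : ℤ) ∣ i
        · rw [(Cfsg.Lib.QD.orderOf_b h i).1 hi] at ht
          norm_num at ht
        · obtain ⟨q, rfl⟩ : Odd i := Int.not_even_iff_odd.1 fun he => hi (even_iff_two_dvd.1 he)
          obtain ⟨c, hc⟩ := Cfsg.Lib.QD.conj_parity h (i := 2 * q + 1) (j := 1) ⟨-q, by ring⟩
          exact Or.inr (Subtype.ext (ConjClasses.mk_eq_mk_iff_isConj.2 (isConj_iff.2 ⟨_, hc⟩)))

end Cfsg.Agent.S1189
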