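import Cfsg.Statements.S1192
import Cfsg.Agent.PGroups.QuasiDihedral

set_option autoImplicit false
open Cfsg

namespace Cfsg.Agent.S1192

/-- A quasi-dihedral group S of order 2^(n+1) has exactly three maximal subgroups; one is cyclic, one is isomorphic to the generalized quaternion group of order 2^n and one to the dihedral group of order 2^n. -/
theorem result {S : Type*} [Group S] [Finite S] (hS : Cfsg.IsQuasiDihedral S) (n : ℕ) (hn : Nat.card S = 2 ^ (n + 1)) : ∃ M₁ M₂ M₃ : Subgroup S, IsCoatom M₁ ∧ IsCoatom M₂ ∧ IsCoatom M₃ ∧ M₁ ≠ M₂ ∧ M₁ ≠ M₃ ∧ M₂ ≠ M₃ ∧ (∀ M : Subgroup S, IsCoatom M → M = M₁ ∨ M = M₂ ∨ M = M₃) ∧ IsCyclic M₁ ∧ Nonempty (M₂ ≃* QuaternionGroup (2 ^ (n - 2))) ∧ Nonempty (M₃ ≃* DihedralGroup (2 ^ (n - 1))) := by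
  obtain ⟨m, a, b, h⟩ := Cfsg.Lib.QD.exists_gen hS
  haveI : Fact (Nat.Prime 2) := ⟨Nat.prime_two⟩
  have hnm : n = m := by
    have := Nat.pow_right_injective (le_refl 2) (hn.symm.trans h.2.card)
    omega
  subst hnm
  have hm := h.1
  obtain ⟨x₀, y₀, hx₀, hy₀, T₀⟩ := Cfsg.Lib.QD.half_gen h 0
  obtain ⟨x₁, y₁, hx₁, hy₁, T₁⟩ := Cfsg.Lib.QD.half_gen h 1
  rw [zero_mul] at T₀
  rw [one_mul, show n - 2 = n - 1 - 1 by omega] at T₁
  have hidx : ∀ e, (Cfsg.Lib.QD.half h e).index = 2 := fun e => by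
    obtain ⟨x, y, -, -, T⟩ := Cfsg.Lib.QD.half_gen h e
    have h1 := (Cfsg.Lib.QD.half h e).card_mul_index
    rw [T.card, h.2.card, show n - 1 + 1 = n by omega, pow_succ] at h1
    exact Nat.eq_of_mul_eq_mul_left (Nat.two_pow_pos n) h1
  have hco : ∀ M : Subgroup S, M.index = 2 → IsCoatom M := by
    intro M hM
    refine ⟨fun e => by rw [e, Subgroup.index_top] at hM; norm_num at hM, fun K hK => ?_⟩
    obtain ⟨g, hgK, hgM⟩ := SetLike.exists_of_lt hK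
    refine top_le_iff.1 fun y _ => ?_
    by_cases hy : y ∈ M
    · exact hK.le hy
    · have h2 : y * g⁻¹ ∈ M := (Subgroup.mul_mem_iff_of_index_two hM).2 (iff_of_false hy (fun h' => hgM (inv_mem_iff.1 h')))
      simpa using mul_mem (hK.le h2) hgK
  have hb0 : b ∈ Cfsg.Lib.QD.half h 0 := Or.inr ⟨0, by simp⟩
  have hb1 : a * b ∈ Cfsg.Lib.QD.half h 1 := Or.inr ⟨0, by simp⟩
  have hA := Cfsg.Lib.CyclicMax.index_zpowers h.2
  refine ⟨Subgroup.zpowers a, Cfsg.Lib.QD.half h 1, Cfsg.Lib.QD.half h 0, hco _ hA, hco _ (hidx 1), hco _ (hidx 0),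
    fun e => Cfsg.Lib.QD.half_not_top h 1 (e ▸ Subgroup.mem_zpowers a),
    fun e => Cfsg.Lib.QD.half_not_top h 0 (e ▸ Subgroup.mem_zpowers a), ?_, ?_, inferInstance, ?_, ?_⟩
  · intro e
    refine Cfsg.Lib.QD.half_not_top h 0 ?_
    have := mul_mem (e ▸ hb1 : a * b ∈ Cfsg.Lib.QD.half h 0) (inv_mem hb0)
    rwa [mul_inv_cancel_right] at this
  · intro M hM
    have hP := Cfsg.Lib.QD.isPGroup h
    have hMi := (Cfsg.Lib.PGroups.coatom_normal_index hP hM).2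
    have ha2 : a ^ (2 : ℤ) ∈ M := by
      refine frattini_le_coatom hM ?_
      rw [show a ^ (2 : ℤ) = a ^ (2 : ℕ) by rw [← zpow_natCast]; rfl]
      exact Cfsg.Lib.PGroups.pow_mem_frattini hP a
    by_cases hMA : M ≤ Subgroup.zpowers a
    · exact Or.inl (((hM.le_iff.1 hMA).resolve_left (hco _ hA).1).symm)
    obtain ⟨g, hgM, hgA⟩ := SetLike.not_le_iff_exists.1 hMA
    obtain ⟨i, rfl⟩ := (Cfsg.Lib.CyclicMax.cases h.2 g).resolve_left fun ⟨i, hi⟩ => hgA (hi ▸ zpow_mem (Subgroup.mem_zpowers a) i)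
    have hhalf : ∀ e, (∃ t : ℤ, i = 2 * t + e) → Cfsg.Lib.QD.half h e ≤ M := by
      rintro e ⟨t, rfl⟩ g (⟨j, rfl⟩ | ⟨j, rfl⟩)
      · rw [zpow_mul]; exact zpow_mem ha2 j
      · rw [show a ^ (2 * j + e) * b = (a ^ (2 : ℤ)) ^ (j - t) * (a ^ (2 * t + e) * b) by
          rw [← zpow_mul, ← mul_assoc, ← zpow_add]; congr 2; ring]
        exact mul_mem (zpow_mem ha2 _) hgM
    rcases Int.even_or_odd i with ⟨t, ht⟩ | ⟨t, ht⟩
    · exact Or.inr (Or.inr (((hco _ (hidx 0)).le_iff.1 (hhalf 0 ⟨t, by omega⟩)).resolve_left hM.1))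
    · exact Or.inr (Or.inl (((hco _ (hidx 1)).le_iff.1 (hhalf 1 ⟨t, ht⟩)).resolve_left hM.1))
  · have := Cfsg.Lib.CyclicMax.toQuaternion T₁ (by omega)
    rwa [show n - 1 - 1 = n - 2 by omega] at this
  · exact Cfsg.Lib.CyclicMax.toDihedral T₀ (by omega)

end Cfsg.Agent.S1192
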