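import Cfsg.Statements.S1193
import Cfsg.Agent.PGroups.QuasiDihedral

set_option autoImplicit false
open Cfsg

namespace Cfsg.Agent.S1193

/-- Let S be quasi-dihedral of order 2^(n+1). Then S' = Φ(S) is cyclic of order 2^(n-1), the centre of S has order 2, and the subgroup generated by the involutions of S is dihedral of order 2^n. -/
theorem result {S : Type*} [Group S] [Finite S] (hS : Cfsg.IsQuasiDihedral S) (n : ℕ) (hn : Nat.card S = 2 ^ (n + 1)) : commutator S = frattini S ∧ IsCyclic (commutator S) ∧ Nat.card (commutator S) = 2 ^ (n - 1) ∧ Nat.card (Subgroup.center S) = 2 ∧ Nonempty (↥(Subgroup.closure {x : S | orderOf x = 2}) ≃* DihedralGroup (2 ^ (n - 1))) := by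
  obtain ⟨m, a, b, h⟩ := Cfsg.Lib.QD.exists_gen hS
  have hnm : n = m := by
    have := Nat.pow_right_injective (le_refl 2) (hn.symm.trans h.2.card)
    omega
  subst hnm
  obtain ⟨e1, e2, e3, e4⟩ := Cfsg.Lib.QD.commutator_eq h
  refine ⟨e1, by rw [e2]; infer_instance, e3, e4, ?_⟩
  obtain ⟨x₀, y₀, -, -, T₀⟩ := Cfsg.Lib.QD.half_gen h 0
  rw [zero_mul] at T₀
  obtain ⟨e⟩ := Cfsg.Lib.CyclicMax.toDihedral T₀ (by have := h.1; omega)
  have hinv : ∀ t : ℤ, a ^ (2 * t) * b ∈ Subgroup.closure {x : S | orderOf x = 2} := fun t =>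
    Subgroup.subset_closure ((Cfsg.Lib.QD.orderOf_b h (2 * t)).1 (dvd_mul_right 2 t))
  have hgen : Subgroup.closure {x : S | orderOf x = 2} = Cfsg.Lib.QD.half h 0 := by
    refine le_antisymm ((Subgroup.closure_le _).2 fun g hg => ?_) ?_
    · rcases Cfsg.Lib.QD.order_two_cases h hg with rfl | ⟨t, rfl⟩
      · exact Or.inl ⟨2 ^ (n - 2), by rw [(Cfsg.Lib.QD.pows h).2.1]⟩
      · exact Or.inr ⟨t, by rw [add_zero]⟩
    · rintro g (⟨t, rfl⟩ | ⟨t, rfl⟩)
      · have := mul_mem (hinv t) (inv_mem (hinv 0))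
        simpa using this
      · rw [add_zero]; exact hinv t
  exact ⟨(MulEquiv.subgroupCongr hgen).trans e⟩

end Cfsg.Agent.S1193
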