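import Cfsg.Statements.S1194
import Cfsg.Agent.PGroups.QuasiDihedral

set_option autoImplicit false
open Cfsg

namespace Cfsg.Agent.S1194

/-- In a quasi-dihedral 2-group S, every proper normal subgroup is either a maximal subgroup or a cyclic subgroup contained in the derived subgroup S'. -/
theorem result {S : Type*} [Group S] [Finite S] (hS : Cfsg.IsQuasiDihedral S) (N : Subgroup S) [N.Normal] (hN : N ≠ ⊤) : IsCoatom N ∨ (IsCyclic N ∧ N ≤ commutator S) := by
  obtain ⟨m, a, b, h⟩ := Cfsg.Lib.QD.exists_gen hS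
  haveI : Fact (Nat.Prime 2) := ⟨Nat.prime_two⟩
  have hP := Cfsg.Lib.QD.isPGroup h
  haveI : Group.IsNilpotent S := hP.isNilpotent
  obtain ⟨r, hr⟩ := hP.index N
  have hm := h.1
  rcases Nat.lt_or_ge r 2 with h2 | h2
  · left
    have hr1 : r = 1 := by
      rcases Nat.eq_zero_or_pos r with e | e
      · exact absurd (Subgroup.index_eq_one.1 (by rw [hr, e, pow_zero])) hN
      · omega
    rw [hr1, pow_one] at hr
    refine ⟨hN, fun K hK => ?_⟩
    obtain ⟨g, hgK, hgM⟩ := SetLike.exists_of_lt hK
    refine top_le_iff.1 fun y _ => ?_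
    by_cases hy : y ∈ N
    · exact hK.le hy
    · have h2 : y * g⁻¹ ∈ N := (Subgroup.mul_mem_iff_of_index_two hr).2 (iff_of_false hy (fun h' => hgM (inv_mem_iff.1 h')))
      simpa using mul_mem (hK.le h2) hgK
  · right
    have hle : N ≤ commutator S := by
      rw [Cfsg.Lib.MaxClass.normal_eq_lcs (p := 2) (m + 1) S h.2.card (by omega) (by simpa using Cfsg.Lib.QD.maxClass h) N r h2 hr,
        ← Subgroup.top_lowerCentralSeries_one]
      exact Subgroup.lowerCentralSeries_antitone _ (by omega)
    obtain ⟨-, e2, -, -⟩ := Cfsg.Lib.QD.commutator_eq h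
    haveI : IsCyclic (commutator S) := by rw [e2]; infer_instance
    exact ⟨Subgroup.isCyclic_of_le hle, hle⟩

end Cfsg.Agent.S1194
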