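import Cfsg.Statements.S1195
import Cfsg.Agent.Wreathed.Facts

set_option autoImplicit false
open Cfsg
open Cfsg.Lib.Wreathed

namespace Cfsg.Agent.S1195

/-- A wreathed 2-group has exactly three conjugacy classes of elements of order 2. -/
theorem result {S : Type*} [Group S] [Finite S] (hS : Cfsg.IsWreathed S) : Nat.card {C : ConjClasses S // ∃ t : S, orderOf t = 2 ∧ ConjClasses.mk t = C} = 3 := by
  obtain ⟨n, hn, -, ⟨e⟩⟩ := exists_equiv hS
  have h1 : 1 ≤ n := by omega
  have hord : ∀ p : Wr n, orderOf (e p) = orderOf p := fun p => e.orderOf_eq p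
  have hclass : ∀ p q : Wr n, ConjClasses.mk (e p) = ConjClasses.mk (e q) ↔ ∃ c, c * p * c⁻¹ = q := by
    intro p q
    rw [ConjClasses.mk_eq_mk_iff_isConj, isConj_iff]
    constructor
    · rintro ⟨c, hc⟩
      refine ⟨e.symm c, e.injective ?_⟩
      rw [map_mul, map_mul, map_inv, e.apply_symm_apply, hc]
    · rintro ⟨c, rfl⟩
      exact ⟨e c, by rw [map_mul, map_mul, map_inv]⟩
  let r : Fin 3 → Wr n := ![⟨half n, half n, false⟩, ⟨half n, 0, false⟩, ⟨0, 0, true⟩]
  have hr2 : ∀ i, orderOf (r i) = 2 := by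
    intro i
    rw [order_two_iff, mul_self_iff]
    fin_cases i <;> simp [r, Wr.ext_iff, half_add_half h1, half_ne_zero h1]
  let f : Fin 3 → {C : ConjClasses S // ∃ t : S, orderOf t = 2 ∧ ConjClasses.mk t = C} :=
    fun i => ⟨ConjClasses.mk (e (r i)), e (r i), (hord _).trans (hr2 i), rfl⟩
  refine (Nat.card_congr (Equiv.ofBijective f ⟨fun i j hij => ?_, ?_⟩)).symm.trans (Nat.card_fin 3)
  · obtain ⟨c, hc⟩ := (hclass _ _).mp (congrArg Subtype.val hij)
    rw [conj_formula] at hc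
    rcases c with ⟨a, b, _ | _⟩ <;> fin_cases i <;> fin_cases j <;>
      simp [r, Wr.ext_iff, half_ne_zero h1, (half_ne_zero h1).symm] at hc ⊢
  · rintro ⟨C, t, ht, rfl⟩
    obtain ⟨p, rfl⟩ := e.surjective t
    rw [hord, order_two_iff] at ht
    suffices h : ∃ i c, c * r i * c⁻¹ = p by
      obtain ⟨i, hi⟩ := h
      exact ⟨i, Subtype.ext ((hclass _ _).mpr hi)⟩
    rcases (mul_self_iff p).mp ht.1 with ⟨he, ha, hb⟩ | ⟨he, -⟩
    · have hp : p = ⟨p.a, p.b, false⟩ := Wr.ext rfl rfl he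
      rcases eq_zero_or_half h1 ha with ha | ha <;> rcases eq_zero_or_half h1 hb with hb | hb <;>
        rw [ha, hb] at hp
      · exact absurd hp ht.2
      · exact ⟨1, ⟨0, 0, true⟩, by rw [hp, conj_formula]; ext <;> simp [r]⟩
      · exact ⟨1, 1, by rw [hp]; simp [r]⟩
      · exact ⟨0, 1, by rw [hp]; simp [r]⟩
    · obtain ⟨c, hc⟩ := conj_outer_involution he ht.1
      exact ⟨2, c, hc⟩

end Cfsg.Agent.S1195
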