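import Cfsg.Statements.S1196
import Cfsg.Agent.Wreathed.Facts

set_option autoImplicit false
open Cfsg
open Cfsg.Lib.Wreathed

namespace Cfsg.Agent.S1196

/-- A wreathed 2-group S of order 2^(2n+1) has a unique commutative subgroup of order 2^(2n), and this subgroup is isomorphic to the direct product of two cyclic groups of order 2^n. -/
theorem result {S : Type*} [Group S] [Finite S] (hS : Cfsg.IsWreathed S) (n : ℕ) (hn : Nat.card S = 2 ^ (2 * n + 1)) : (∃! U : Subgroup S, IsMulCommutative U ∧ Nat.card U = 2 ^ (2 * n)) ∧ ∀ U : Subgroup S, IsMulCommutative U → Nat.card U = 2 ^ (2 * n) → Nonempty (U ≃* Multiplicative (ZMod (2 ^ n) × ZMod (2 ^ n))) := by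
  obtain ⟨hn2, ⟨e⟩⟩ := exponent_eq hS n hn
  have hback : ∀ U : Subgroup S, IsMulCommutative U → Nat.card U = 2 ^ (2 * n) →
      U = (base n).map e.toMonoidHom := by
    intro U hU hc
    have h1 : U.comap e.toMonoidHom = base n := by
      refine existsUnique_abelian hn2 _ ⟨⟨fun a b => Subtype.ext (e.injective ?_)⟩⟩ ?_
      · rw [Subgroup.coe_mul, Subgroup.coe_mul, map_mul, map_mul]
        haveI := hU
        exact congrArg Subtype.val (mul_comm' (⟨e a, a.2⟩ : U) ⟨e b, b.2⟩)
      · rw [← hc, ← Subgroup.card_map_of_injective (f := e.toMonoidHom) e.injective,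
          Subgroup.map_comap_eq_self_of_surjective (f := e.toMonoidHom) e.surjective]
    rw [← h1, Subgroup.map_comap_eq_self_of_surjective (f := e.toMonoidHom) e.surjective]
  have hcomm : IsMulCommutative ((base n).map e.toMonoidHom) := by
    refine ⟨⟨?_⟩⟩
    rintro ⟨_, a, ha, rfl⟩ ⟨_, b, hb, rfl⟩
    refine Subtype.ext ?_
    show e a * e b = e b * e a
    rw [← map_mul, ← map_mul]
    exact congrArg e (congrArg (fun w : base n => (w : Wr n)) (base_comm ⟨a, ha⟩ ⟨b, hb⟩))
  have hcard : Nat.card ((base n).map e.toMonoidHom) = 2 ^ (2 * n) := by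
    rw [Subgroup.card_map_of_injective (f := e.toMonoidHom) e.injective, base_card]
  refine ⟨⟨_, ⟨hcomm, hcard⟩, fun U hU => hback U hU.1 hU.2⟩, fun U hU hc => ?_⟩
  obtain rfl := hback U hU hc
  exact ⟨((base n).equivMapOfInjective e.toMonoidHom e.injective).symm.trans (baseEquiv n)⟩

end Cfsg.Agent.S1196
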