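import Cfsg.Statements.S1198
import Cfsg.Agent.Wreathed.Facts

set_option autoImplicit false
open Cfsg
open Cfsg.Lib.Wreathed

namespace Cfsg.Agent.S1198

/-- A wreathed 2-group S has a normal Klein four-subgroup T such that every Klein four-subgroup of S other than T is conjugate in S to any other such subgroup; in particular S has exactly two conjugacy classes of Klein four-subgroups. -/
theorem result {S : Type*} [Group S] [Finite S] (hS : Cfsg.IsWreathed S) : ∃ T : Subgroup S, IsKleinFour T ∧ T.Normal ∧ (∃ T₀ : Subgroup S, IsKleinFour T₀ ∧ T₀ ≠ T) ∧ ∀ T₁ T₂ : Subgroup S, IsKleinFour T₁ → IsKleinFour T₂ → T₁ ≠ T → T₂ ≠ T → ∃ s : S, T₁.map (MulAut.conj s).toMonoidHom = T₂ := by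
  obtain ⟨n, hn2, -, ⟨e⟩⟩ := exists_equiv hS
  have h1 : 1 ≤ n := by omega
  set T := (normalFour n).map e.toMonoidHom
  have hTn : (normalFour n).Normal := ⟨fun q hq p => by
    obtain ⟨he, ha, hb⟩ := hq
    show (p * q * p⁻¹).e = false ∧ (p * q * p⁻¹).a + (p * q * p⁻¹).a = 0 ∧
      (p * q * p⁻¹).b + (p * q * p⁻¹).b = 0
    rw [conj_formula]
    rcases p with ⟨a, b, _ | _⟩ <;> simp [he, ha, hb]⟩
  have hT4 : Nat.card T = 4 := by
    rw [Subgroup.card_map_of_injective (f := e.toMonoidHom) e.injective, normalFour_card h1]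
  have klein : ∀ (E : Subgroup S), Nat.card E = 4 → (∀ s ∈ E, s * s = 1) → IsKleinFour E := by
    intro E hc hs
    haveI : Nontrivial E := Finite.one_lt_card_iff_nontrivial.mp (by omega)
    exact ⟨hc, (Monoid.exponent_eq_prime_iff Nat.prime_two).mpr fun a ha =>
      orderOf_eq_prime (by rw [pow_two]; exact Subtype.ext (hs a a.2)) ha⟩
  have hTk : IsKleinFour T := klein T hT4 (by
    rintro _ ⟨p, hp, rfl⟩
    rw [← map_mul, (mul_self_iff p).mpr (Or.inl hp), map_one])
  -- the outer four-groups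
  have houter : ∀ E : Subgroup S, IsKleinFour E → E ≠ T →
      ∃ c : Wr n, ∀ s : S, s ∈ E ↔ ∃ p : Wr n, e p = s ∧
        (c⁻¹ * p * c = 1 ∨ c⁻¹ * p * c = ⟨half n, half n, false⟩ ∨ c⁻¹ * p * c = ⟨0, 0, true⟩ ∨
          c⁻¹ * p * c = ⟨half n, half n, true⟩) := by
    intro E hE hne
    haveI := hE
    obtain ⟨u, hu, hue⟩ : ∃ u : Wr n, e u ∈ E ∧ u.e = true := by
      by_contra hno
      refine hne (Subgroup.eq_of_le_of_card_ge (fun s hs => ?_) (by rw [hT4, IsKleinFour.card_four]))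
      obtain ⟨p, rfl⟩ := e.surjective s
      refine ⟨p, ?_, rfl⟩
      have hsq : p * p = 1 := e.injective (by rw [map_mul, map_one]; exact klein_sq E hs)
      rcases (mul_self_iff p).mp hsq with h | ⟨h, -⟩
      · exact h
      · exact absurd ⟨p, hs, h⟩ hno
    obtain ⟨c, hc⟩ := conj_outer_involution hue (e.injective (by
      rw [map_mul, map_one]; exact klein_sq E hu))
    refine ⟨c, ?_⟩
    let C : Subgroup S := (E.comap e.toMonoidHom).map
      ((e.toMonoidHom).comp (MulAut.conj c⁻¹).toMonoidHom)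
    have hin : ∀ p : Wr n, e p ∈ E → (c⁻¹ * p * c = 1 ∨ c⁻¹ * p * c = ⟨half n, half n, false⟩ ∨
        c⁻¹ * p * c = ⟨0, 0, true⟩ ∨ c⁻¹ * p * c = ⟨half n, half n, true⟩) := by
      intro p hp
      set q := c⁻¹ * p * c
      have hpu : p * u = u * p := e.injective (by
        rw [map_mul, map_mul]
        exact congrArg (fun w : E => (w : S)) (mul_comm_of_exponent_two hE.exponent_two ⟨e p, hp⟩ ⟨e u, hu⟩))
      have hpp : p * p = 1 := e.injective (by rw [map_mul, map_one]; exact klein_sq E hp)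
      have hq1 : q * q = 1 := by
        rw [show q * q = c⁻¹ * (p * p) * c by simp only [q]; group, hpp]; group
      have hqu : q * ⟨0, 0, true⟩ = ⟨0, 0, true⟩ * q := by
        rw [show (⟨0, 0, true⟩ : Wr n) = c⁻¹ * u * c by rw [← hc]; group]
        rw [show q * (c⁻¹ * u * c) = c⁻¹ * (p * u) * c by simp only [q]; group,
          show (c⁻¹ * u * c) * q = c⁻¹ * (u * p) * c by simp only [q]; group, hpu]
      have hab : q.a = q.b := by
        have := congrArg Wr.a hqu
        rcases q with ⟨a, b, _ | _⟩ <;> simp at this ⊢ <;> first | exact this | exact this.symm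
      rcases (mul_self_iff q).mp hq1 with ⟨he, ha, -⟩ | ⟨he, ha⟩
      · rcases eq_zero_or_half h1 ha with ha | ha
        · exact Or.inl (Wr.ext ha (hab ▸ ha) he)
        · exact Or.inr (Or.inl (Wr.ext ha (hab ▸ ha) he))
      · rw [← hab] at ha
        rcases eq_zero_or_half h1 ha with ha | ha
        · exact Or.inr (Or.inr (Or.inl (Wr.ext ha (hab ▸ ha) he)))
        · exact Or.inr (Or.inr (Or.inr (Wr.ext ha (hab ▸ ha) he)))
    intro s
    refine ⟨fun hs => ⟨e.symm s, e.apply_symm_apply s, hin _ (by rwa [e.apply_symm_apply])⟩, ?_⟩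
    classical
    let L : Finset (Wr n) := {1, ⟨half n, half n, false⟩, ⟨0, 0, true⟩, ⟨half n, half n, true⟩}
    let g : E → L := fun w => ⟨c⁻¹ * e.symm w * c, by
      have := hin (e.symm w) (by rw [e.apply_symm_apply]; exact w.2)
      simpa [L] using this⟩
    have hginj : Function.Injective g := fun a b hab => Subtype.ext (e.symm.injective (by
      have := congrArg Subtype.val hab
      simpa [g] using this))
    have hgb := hginj.bijective_of_nat_card_le (by
      rw [Nat.card_eq_fintype_card, Fintype.card_coe, IsKleinFour.card_four]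
      exact Finset.card_le_four)
    rintro ⟨p, rfl, hp⟩
    obtain ⟨w, hw⟩ := hgb.2 ⟨c⁻¹ * p * c, by simpa [L] using hp⟩
    have hw' : c⁻¹ * e.symm w * c = c⁻¹ * p * c := congrArg Subtype.val hw
    rw [← mul_left_cancel (mul_right_cancel hw'), e.apply_symm_apply]
    exact w.2
  refine ⟨T, hTk, Subgroup.Normal.map hTn _ e.surjective, ?_, ?_⟩
  · let g : Bool × Bool → Wr n := fun t => ⟨if t.1 then half n else 0, if t.1 then half n else 0, t.2⟩
    have hhh := half_add_half h1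
    let E : Subgroup (Wr n) :=
      { carrier := Set.range g
        one_mem' := ⟨(false, false), rfl⟩
        mul_mem' := by
          rintro _ _ ⟨⟨a, b⟩, rfl⟩ ⟨⟨c, d⟩, rfl⟩
          exact ⟨(xor a c, xor b d), by cases a <;> cases b <;> cases c <;> cases d <;> simp [g, Wr.ext_iff, hhh]⟩
        inv_mem' := by
          rintro _ ⟨⟨a, b⟩, rfl⟩
          exact ⟨(a, b), by cases a <;> cases b <;> simp [g, Wr.ext_iff, neg_half h1]⟩ }
    refine ⟨E.map e.toMonoidHom, klein _ ?_ ?_, ?_⟩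
    · rw [Subgroup.card_map_of_injective (f := e.toMonoidHom) e.injective]
      have hg : Function.Injective g := by
        rintro ⟨a, b⟩ ⟨c, d⟩ h
        cases a <;> cases c <;> simp [g, Wr.ext_iff, half_ne_zero h1, (half_ne_zero h1).symm] at h <;>
          simp [h]
      rw [show Nat.card E = Nat.card (Bool × Bool) from (Nat.card_congr (Equiv.ofInjective g hg)).symm,
        Nat.card_prod, Nat.card_eq_fintype_card, Fintype.card_bool]
    · rintro _ ⟨_, ⟨⟨a, b⟩, rfl⟩, rfl⟩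
      rw [← map_mul, (mul_self_iff _).mpr ?_, map_one]
      cases a <;> cases b <;> simp [g, hhh]
    · intro h
      have : e (g (false, true)) ∈ T := h ▸ ⟨_, ⟨(false, true), rfl⟩, rfl⟩
      obtain ⟨p, hp, hpe⟩ := this
      obtain rfl := e.injective hpe
      exact absurd hp.1 (by simp [g])
  · intro T₁ T₂ h₁ h₂ hne₁ hne₂
    obtain ⟨c₁, hc₁⟩ := houter T₁ h₁ hne₁
    obtain ⟨c₂, hc₂⟩ := houter T₂ h₂ hne₂
    refine ⟨e (c₂ * c₁⁻¹), ?_⟩
    ext s
    rw [hc₂, Subgroup.mem_map]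
    constructor
    · rintro ⟨t, ht, rfl⟩
      obtain ⟨p, rfl, hp⟩ := (hc₁ t).mp ht
      refine ⟨c₂ * c₁⁻¹ * p * (c₂ * c₁⁻¹)⁻¹, by simp [mul_assoc], ?_⟩
      rw [show c₂⁻¹ * (c₂ * c₁⁻¹ * p * (c₂ * c₁⁻¹)⁻¹) * c₂ = c₁⁻¹ * p * c₁ by group]
      exact hp
    · rintro ⟨p, rfl, hp⟩
      refine ⟨e ((c₂ * c₁⁻¹)⁻¹ * p * (c₂ * c₁⁻¹)), (hc₁ _).mpr ⟨_, rfl, ?_⟩, by simp [mul_assoc]⟩
      rw [show c₁⁻¹ * ((c₂ * c₁⁻¹)⁻¹ * p * (c₂ * c₁⁻¹)) * c₁ = c₂⁻¹ * p * c₂ by group]
      exact hp

end Cfsg.Agent.S1198
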