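import Cfsg.Statements.S1199
import Cfsg.Agent.Wreathed.Facts

set_option autoImplicit false
open Cfsg
open Cfsg.Lib.Wreathed

namespace Cfsg.Agent.S1199

/-- A wreathed 2-group S of order 2^(2n+1) has exactly one subgroup of order 2^(n+1) isomorphic to a generalized quaternion group, and that subgroup is normal in S. -/
theorem result {S : Type*} [Group S] [Finite S] (hS : Cfsg.IsWreathed S) (n : ℕ) (hn : Nat.card S = 2 ^ (2 * n + 1)) : (∃! Y : Subgroup S, Nat.card Y = 2 ^ (n + 1) ∧ Nonempty (Y ≃* QuaternionGroup (2 ^ (n - 1)))) ∧ ∀ Y : Subgroup S, Nat.card Y = 2 ^ (n + 1) → Nonempty (Y ≃* QuaternionGroup (2 ^ (n - 1))) → Y.Normal := by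
  obtain ⟨hn2, ⟨e⟩⟩ := exponent_eq hS n hn
  have h1 : 1 ≤ n := by omega
  have hback : ∀ Y : Subgroup S, Nat.card Y = 2 ^ (n + 1) →
      Nonempty (Y ≃* QuaternionGroup (2 ^ (n - 1))) → Y = (quatSub h1).map e.toMonoidHom := by
    intro Y hY ⟨f⟩
    have h2 : Y.comap e.toMonoidHom = quatSub h1 := by
      have em := (Y.comap e.toMonoidHom).equivMapOfInjective e.toMonoidHom e.injective
      rw [Subgroup.map_comap_eq_self_of_surjective (f := e.toMonoidHom) e.surjective] at em
      exact quat_unique hn2 (by rw [Nat.card_congr em.toEquiv, hY]) (em.trans f)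
    rw [← h2, Subgroup.map_comap_eq_self_of_surjective (f := e.toMonoidHom) e.surjective]
  obtain ⟨f⟩ := quatSub_equiv hn2
  refine ⟨⟨_, ⟨?_, ⟨((quatSub h1).equivMapOfInjective e.toMonoidHom e.injective).symm.trans f⟩⟩,
    fun Y hY => hback Y hY.1 hY.2⟩, fun Y hY hYq => ?_⟩
  · rw [Subgroup.card_map_of_injective (f := e.toMonoidHom) e.injective, quatSub_card]
  · rw [hback Y hY hYq]
    exact Subgroup.Normal.map (quatSub_normal h1) _ e.surjective

end Cfsg.Agent.S1199
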