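import Cfsg.Statements.S1200
import Cfsg.Agent.Wreathed.Facts

set_option autoImplicit false
open Cfsg
open Cfsg.Lib.Wreathed

namespace Cfsg.Agent.S1200

/-- Let S be a wreathed 2-group of order 2^(2n+1) and Ω the subgroup generated by its involutions. Then Ω has order 2^(n+2) and S/Ω is cyclic: some s ∈ S together with Ω generates S. -/
theorem result {S : Type*} [Group S] [Finite S] (hS : Cfsg.IsWreathed S) (n : ℕ) (hn : Nat.card S = 2 ^ (2 * n + 1)) : Nat.card (Subgroup.closure {x : S | orderOf x = 2}) = 2 ^ (n + 2) ∧ ∃ s : S, Subgroup.closure {x : S | orderOf x = 2} ⊔ Subgroup.zpowers s = ⊤ := by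
  obtain ⟨hn2, ⟨e⟩⟩ := exponent_eq hS n hn
  have h1 : 1 ≤ n := by omega
  have himg : Subgroup.closure {x : S | orderOf x = 2} = (omegaSub h1).map e.toMonoidHom := by
    rw [← closure_involutions h1, MonoidHom.map_closure]
    congr 1
    ext s
    obtain ⟨p, rfl⟩ := e.surjective s
    simp [e.orderOf_eq]
  rw [himg]
  refine ⟨by rw [Subgroup.card_map_of_injective (f := e.toMonoidHom) e.injective, card_omegaSub],
    e ⟨1, 0, false⟩, ?_⟩
  rw [show Subgroup.zpowers (e ⟨1, 0, false⟩) =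
      (Subgroup.zpowers (⟨1, 0, false⟩ : Wr n)).map e.toMonoidHom from
      (MonoidHom.map_zpowers e.toMonoidHom _).symm, ← Subgroup.map_sup]
  rw [show (omegaSub h1 ⊔ Subgroup.zpowers (⟨1, 0, false⟩ : Wr n)) = ⊤ from ?_,
    Subgroup.map_top_of_surjective e.toMonoidHom e.surjective]
  rw [eq_top_iff]
  intro p _
  obtain ⟨k, hk⟩ := ZMod.natCast_zmod_surjective (p.a + p.b)
  have hp : ((⟨1, 0, false⟩ : Wr n) ^ k) = ⟨k, 0, false⟩ := by
    clear hk
    induction k with
    | zero => ext <;> simp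
    | succ k ih => rw [pow_succ, ih]; ext <;> simp
  have hq : (⟨k, 0, false⟩ : Wr n)⁻¹ * p ∈ omegaSub h1 := by
    show (_ : Wr n).a + (_ : Wr n).b + ((_ : Wr n).a + (_ : Wr n).b) = 0
    rcases p with ⟨a, b, e'⟩
    simp only [Wr.mul_a, Wr.mul_b, Wr.inv_a, Wr.inv_b, Wr.inv_e, Bool.false_eq_true, if_false] at hk ⊢
    linear_combination (-2 : ZMod (2 ^ n)) * hk
  rw [show p = (⟨k, 0, false⟩ : Wr n) * ((⟨k, 0, false⟩ : Wr n)⁻¹ * p) by group, ← hp]
  exact Subgroup.mul_mem _ (Subgroup.mem_sup_right (Subgroup.pow_mem _ (Subgroup.mem_zpowers _) k))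
    (Subgroup.mem_sup_left (hp.symm ▸ hq))

end Cfsg.Agent.S1200
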