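import Cfsg.Statements.S1201
import Cfsg.Agent.Wreathed.Facts

set_option autoImplicit false
open Cfsg
open Cfsg.Lib.Wreathed

namespace Cfsg.Agent.S1201

/-- If X is a non-commutative subgroup of a wreathed 2-group S, then Z(X) ≤ Z(S). -/
theorem result {S : Type*} [Group S] [Finite S] (hS : Cfsg.IsWreathed S) (X : Subgroup S) (hX : ¬ IsMulCommutative X) : (Subgroup.center X).map X.subtype ≤ Subgroup.center S := by
  obtain ⟨n, hn2, -, ⟨e⟩⟩ := exists_equiv hS
  rintro _ ⟨⟨z, hzX⟩, hz, rfl⟩
  have hzc : ∀ x ∈ X, x * z = z * x := fun x hx =>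
    congrArg Subtype.val (Subgroup.mem_center_iff.mp hz ⟨x, hx⟩)
  obtain ⟨q, rfl⟩ := e.surjective z
  suffices hq : q ∈ Subgroup.center (Wr n) by
    rw [Subgroup.mem_center_iff]
    intro g
    obtain ⟨g, rfl⟩ := e.surjective g
    show e g * e q = e q * e g
    rw [← map_mul, ← map_mul, Subgroup.mem_center_iff.mp hq g]
  set Y := X.comap e.toMonoidHom
  have hqc : ∀ p ∈ Y, p * q = q * p := fun p hp => e.injective (by rw [map_mul, map_mul]; exact hzc _ hp)
  cases hqe : q.e
  · by_contra hcon
    refine hX ⟨⟨fun a b => Subtype.ext ?_⟩⟩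
    obtain ⟨pa, hpa⟩ := e.surjective (a : S)
    obtain ⟨pb, hpb⟩ := e.surjective (b : S)
    have hin : ∀ p ∈ Y, p.e = false := fun p hp => by
      by_contra h
      exact hcon (center_of_commute_outer hn2 hqe (by simpa using h) (hqc p hp).symm)
    show (a : S) * b = b * a
    rw [← hpa, ← hpb, ← map_mul, ← map_mul]
    exact congrArg e (congrArg (fun w : base n => (w : Wr n)) (base_comm
      ⟨pa, hin pa (show e pa ∈ X from hpa ▸ a.2)⟩ ⟨pb, hin pb (show e pb ∈ X from hpb ▸ b.2)⟩))
  · exfalso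
    refine hX ⟨⟨fun a b => Subtype.ext ?_⟩⟩
    obtain ⟨pa, hpa⟩ := e.surjective (a : S)
    obtain ⟨pb, hpb⟩ := e.surjective (b : S)
    have hqY : q ∈ Y := hzX
    have hcl : ∀ p ∈ Y, ∃ c ∈ Subgroup.center (Wr n), p = c ∨ p = c * q := by
      intro p hp
      cases hpe : p.e
      · exact ⟨p, center_of_commute_outer hn2 hpe hqe (hqc p hp), Or.inl rfl⟩
      · refine ⟨p * q⁻¹, center_of_commute_outer hn2 (by simp [hpe, hqe]) hqe ?_, Or.inr (by group)⟩
        exact (show Commute p q from hqc p hp).mul_left (Commute.refl q).inv_left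
    show (a : S) * b = b * a
    rw [← hpa, ← hpb, ← map_mul, ← map_mul]
    congr 1
    obtain ⟨c, hc, rfl | rfl⟩ := hcl pa (show e pa ∈ X from hpa ▸ a.2) <;>
      obtain ⟨d, hd, rfl | rfl⟩ := hcl pb (show e pb ∈ X from hpb ▸ b.2)
    · exact (Subgroup.mem_center_iff.mp hc _).symm
    · exact (Subgroup.mem_center_iff.mp hc _).symm
    · exact Subgroup.mem_center_iff.mp hd _
    · have hcc := Subgroup.mem_center_iff.mp hc
      have hdd := Subgroup.mem_center_iff.mp hd
      calc c * q * (d * q) = c * (q * d) * q := by group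
        _ = c * (d * q) * q := by rw [hdd q]
        _ = (c * d) * q * q := by group
        _ = (d * c) * q * q := by rw [hdd c]
        _ = d * (c * q) * q := by group
        _ = d * (q * c) * q := by rw [hcc q]
        _ = _ := by group

end Cfsg.Agent.S1201
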