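import Cfsg.Statements.S1202
import Cfsg.Agent.TwoFusion.WreathedCentricEnd

set_option autoImplicit false
open Cfsg

namespace Cfsg.Agent.S1202

open Subgroup Cfsg.Lib.Wreathed in
/-- Transport to the model. -/
theorem transport {S : Type*} [Group S] [Finite S] {n : ℕ} (hn : 2 ≤ n) (e : Wr n ≃* S) (X : Subgroup S)
    (hC : centralizer (X : Set S) ≤ X) (hA : ¬ IsPGroup 2 (MulAut X)) :
    X.relIndex (normalizer (X : Set S)) = 2 ∧
    ((IsMulCommutative X ∧ Nat.card X = 2 ^ (2 * n)) ∨
      ∃ Q : Subgroup S, Nonempty (Q ≃* QuaternionGroup 2) ∧ X = Q ⊔ center S) ∧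
    (¬ IsMulCommutative X → ∃ g : S, X.map (MulAut.conj g).toMonoidHom =
      (Cfsg.Lib.WreathedFusion.quadV n).map e.toMonoidHom) := by
  set Y := X.comap e.toMonoidHom
  have hXY : Y.map e.toMonoidHom = X := map_comap_eq_self_of_surjective e.surjective X
  let eY : Y ≃* X := (e.subgroupMap Y).trans (MulEquiv.subgroupCongr hXY)
  have hCY : centralizer (Y : Set (Wr n)) ≤ Y := fun c hc => hC fun x hx => by
    obtain ⟨y, rfl⟩ := e.surjective x
    show e y * e c = e c * e y
    rw [← map_mul, ← map_mul]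
    exact congrArg e (hc y hx)
  obtain ⟨h1, h2, h3⟩ := Cfsg.Lib.WreathedCentric.model hn Y hCY
    (fun h => hA (Cfsg.Lib.MetaTwo.isPGroup_mulAut_congr eY h))
  refine ⟨?_, ?_, fun hna => ?_⟩
  · rw [← hXY, ← Subgroup.map_equiv_normalizer_eq, relIndex_map_map_of_injective _ _ e.injective, h1]
  · rcases h2 with ⟨hc, hcard⟩ | ⟨Q, ⟨eQ⟩, hQ⟩
    · refine Or.inl ⟨⟨⟨fun a b => eY.symm.injective ?_⟩⟩, by rw [← Nat.card_congr eY.toEquiv, hcard]⟩
      rw [map_mul, map_mul]
      exact hc.is_comm.comm _ _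
    · refine Or.inr ⟨Q.map e.toMonoidHom, ⟨(e.subgroupMap Q).symm.trans eQ⟩, ?_⟩
      have hcen : (center (Wr n)).map e.toMonoidHom = center S := by
        ext s
        obtain ⟨w, rfl⟩ := e.surjective s
        rw [mem_center_iff]
        constructor
        · rintro ⟨v, hv, hve⟩
          obtain rfl := e.injective hve
          intro g
          obtain ⟨g, rfl⟩ := e.surjective g
          rw [← map_mul, ← map_mul]
          exact congrArg e (mem_center_iff.1 hv g)
        · intro h
          refine ⟨w, mem_center_iff.2 fun g => e.injective ?_, rfl⟩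
          rw [map_mul, map_mul]
          exact h (e g)
      rw [← hcen, ← Subgroup.map_sup, ← hQ, hXY]
  · obtain ⟨g, hg⟩ := h3 fun hc => hna ⟨⟨fun a b => eY.symm.injective (by
      rw [map_mul, map_mul]
      exact hc.is_comm.comm _ _)⟩⟩
    refine ⟨e g, ?_⟩
    rw [← hg, ← hXY, map_map, map_map]
    congr 1
    ext w
    simp

/-- Let S be a wreathed 2-group of order 2^(2n+1) and X a subgroup with C_S(X) ≤ X such that Aut(X) is not a 2-group. Then |N_S(X) : X| = 2, and either X is the commutative subgroup of order 2^(2n), or X = Q·Z(S) for some subgroup Q ≅ Q₈; in the latter case any two such subgroups are conjugate in S. -/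
theorem result {S : Type*} [Group S] [Finite S] (hS : Cfsg.IsWreathed S) (n : ℕ) (hn : Nat.card S = 2 ^ (2 * n + 1)) (X : Subgroup S) (hC : Subgroup.centralizer (X : Set S) ≤ X) (hA : ¬ IsPGroup 2 (MulAut X)) : X.relIndex (Subgroup.normalizer (X : Set S)) = 2 ∧ ((IsMulCommutative X ∧ Nat.card X = 2 ^ (2 * n)) ∨ ∃ Q : Subgroup S, Nonempty (Q ≃* QuaternionGroup 2) ∧ X = Q ⊔ Subgroup.center S) ∧ ∀ X' : Subgroup S, Subgroup.centralizer (X' : Set S) ≤ X' → ¬ IsPGroup 2 (MulAut X') → ¬ IsMulCommutative X → ¬ IsMulCommutative X' → ∃ s : S, X.map (MulAut.conj s).toMonoidHom = X' := by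
  obtain ⟨m, hm, hcard, ⟨e⟩⟩ := Cfsg.Lib.Wreathed.exists_equiv hS
  have hmn : m = n := by
    have h := Nat.pow_right_injective le_rfl (hcard.symm.trans hn)
    omega
  subst hmn
  obtain ⟨h1, h2, h3⟩ := transport hm e X hC hA
  refine ⟨h1, h2, fun X' hC' hA' hna hna' => ?_⟩
  obtain ⟨g, hg⟩ := h3 hna
  obtain ⟨g', hg'⟩ := (transport hm e X' hC' hA').2.2 hna'
  refine ⟨g'⁻¹ * g, ?_⟩
  rw [← hg'] at hg
  have := congrArg (fun U : Subgroup S => U.map (MulAut.conj g'⁻¹).toMonoidHom) hg
  simp only [Subgroup.map_map] at this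
  convert this using 1
  · congr 1; ext x; simp [mul_assoc]
  · symm
    convert Subgroup.map_id X' using 2
    ext x; simp [mul_assoc]

end Cfsg.Agent.S1202
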