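import Cfsg.Statements.S1204
import Cfsg.Agent.TwoFusion.QDFusion

set_option autoImplicit false
open Cfsg Cfsg.Lib.TwoFusion Cfsg.Lib.QDFusion

namespace Cfsg.Agent.S1204

/-- Let G be a finite group with quasi-dihedral Sylow 2-subgroup S, T a Klein four-subgroup and Q a quaternion subgroup of order 8 of S, with |N_G(T) : C_G(T)| = 6 and |N_G(Q) : Q C_G(Q)| = 6. Then G has no subgroup of index 2, exactly one conjugacy class of involutions and exactly one conjugacy class of elements of order 4. -/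
theorem result {G : Type*} [Group G] [Finite G] (S : Sylow 2 G) (hS : Cfsg.IsQuasiDihedral (S : Subgroup G)) (T : Subgroup G) (hT : IsKleinFour T) (hTS : T ≤ S) (Q : Subgroup G) (hQS : Q ≤ S) (eQ : Q ≃* QuaternionGroup 2) (h₁ : (Subgroup.centralizer (T : Set G)).relIndex (Subgroup.normalizer (T : Set G)) = 6) (h₂ : (Q ⊔ Subgroup.centralizer (Q : Set G)).relIndex (Subgroup.normalizer (Q : Set G)) = 6) : (∀ H : Subgroup G, H.index ≠ 2) ∧ Nat.card {C : ConjClasses G // ∃ t : G, orderOf t = 2 ∧ ConjClasses.mk t = C} = 1 ∧ Nat.card {C : ConjClasses G // ∃ t : G, orderOf t = 4 ∧ ConjClasses.mk t = C} = 1 := by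
  obtain ⟨D⟩ := exists_data hS hT hTS hQS eQ
  have hqm : D.a ^ (2 * D.j + 1) * D.b ∈ Cfsg.Lib.QD.half D.gen 1 := Or.inr ⟨D.j, rfl⟩
  have htm : D.a ^ (2 * D.i) * D.b ∈ Cfsg.Lib.QD.half D.gen 0 := Or.inr ⟨D.i, by rw [add_zero]⟩
  have c2 := card_classes D.t D.z D.t_ord D.z_ord fun x hx => (D.inv_class hx).symm
  have c4 := card_classes D.w D.q D.w_ord D.q_ord fun x hx => D.four_class hx
  refine ⟨no_index_two_of_sylow_le S fun s hs => ?_, c2.1 (D.isConj_t_z h₁), c4.1 (D.isConj_w_q h₂)⟩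
  by_contra hs'
  have hRe := D.eq_half (D.half_zero_le h₁) (v := ⟨s, hs⟩) hs'
  exact c_notMem_half_zero D.gen D.j (hRe ▸ D.half_one_le h₂ hqm)

end Cfsg.Agent.S1204
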