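import Cfsg.Statements.S1206
import Cfsg.Agent.TwoFusion.QDFusion

set_option autoImplicit false
open Cfsg Cfsg.Lib.TwoFusion Cfsg.Lib.QDFusion

namespace Cfsg.Agent.S1206

/-- Let G be a finite group with quasi-dihedral Sylow 2-subgroup S, T a Klein four-subgroup and Q a quaternion subgroup of order 8 of S, with |N_G(T) : C_G(T)| = 6 and |N_G(Q) : Q C_G(Q)| = 2. Then G has a normal subgroup K of index 2 whose Sylow 2-subgroups are dihedral and which has no subgroup of index 2, and G has exactly one class of involutions and two classes of elements of order 4. -/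
theorem result {G : Type*} [Group G] [Finite G] (S : Sylow 2 G) (hS : Cfsg.IsQuasiDihedral (S : Subgroup G)) (T : Subgroup G) (hT : IsKleinFour T) (hTS : T ≤ S) (Q : Subgroup G) (hQS : Q ≤ S) (eQ : Q ≃* QuaternionGroup 2) (h₁ : (Subgroup.centralizer (T : Set G)).relIndex (Subgroup.normalizer (T : Set G)) = 6) (h₂ : (Q ⊔ Subgroup.centralizer (Q : Set G)).relIndex (Subgroup.normalizer (Q : Set G)) = 2) : (∃ K : Subgroup G, K.Normal ∧ K.index = 2 ∧ (∀ P : Sylow 2 ↥K, ∃ m : ℕ, Nonempty ((P : Subgroup ↥K) ≃* DihedralGroup m)) ∧ (∀ H : Subgroup ↥K, H.index ≠ 2)) ∧ Nat.card {C : ConjClasses G // ∃ t : G, orderOf t = 2 ∧ ConjClasses.mk t = C} = 1 ∧ Nat.card {C : ConjClasses G // ∃ t : G, orderOf t = 4 ∧ ConjClasses.mk t = C} = 2 := by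
  obtain ⟨D⟩ := exists_data hS hT hTS hQS eQ
  have hqm : D.a ^ (2 * D.j + 1) * D.b ∈ Cfsg.Lib.QD.half D.gen 1 := Or.inr ⟨D.j, rfl⟩
  have htm : D.a ^ (2 * D.i) * D.b ∈ Cfsg.Lib.QD.half D.gen 0 := Or.inr ⟨D.i, by rw [add_zero]⟩
  have c2 := card_classes D.t D.z D.t_ord D.z_ord fun x hx => (D.inv_class hx).symm
  have c4 := card_classes D.w D.q D.w_ord D.q_ord fun x hx => D.four_class hx
  obtain ⟨M, hMn, hMi, hqM⟩ := D.exists_index_two_q hS h₂
  have hRe : Data.R S = Cfsg.Lib.QD.half D.gen 0 := D.eq_half (D.half_zero_le h₁) (v := D.a ^ (2 * D.j + 1) * D.b)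
    fun h => hqM (pResidual_le_of_index_two hMi h)
  have hsyl : ∀ P : Sylow 2 ↥(Cfsg.pResidual 2 G),
      Nonempty ((P : Subgroup ↥(Cfsg.pResidual 2 G)) ≃* Cfsg.Lib.QD.half D.gen 0) := fun P => by
    obtain ⟨e⟩ := sylow_inf_normal S (Cfsg.pResidual 2 G) P
    exact ⟨e.trans (MulEquiv.subgroupCongr ((Subgroup.inf_subgroupOf_left _ _).trans hRe))⟩
  have hidx : (Cfsg.pResidual 2 G).index = 2 :=
    (index_pResidual S).trans ((congrArg Subgroup.index hRe).trans (half_index D.gen 0))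
  refine ⟨⟨Cfsg.pResidual 2 G, inferInstance, hidx, fun P => ?_, pResidual_no_index_two⟩,
    c2.1 (D.isConj_t_z h₁), c4.2 (D.not_isConj_w_q hS h₂)⟩
  obtain ⟨x, y, -, -, T₀⟩ := Cfsg.Lib.QD.half_gen D.gen 0
  have hm := D.gen.1
  rw [zero_mul] at T₀
  obtain ⟨e⟩ := Cfsg.Lib.CyclicMax.toDihedral T₀ (by omega)
  obtain ⟨e'⟩ := hsyl P
  exact ⟨2 ^ (D.m - 1), ⟨e'.trans e⟩⟩

end Cfsg.Agent.S1206
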