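import Cfsg.Statements.S1207
import Cfsg.Agent.TwoFusion.QDFusion

set_option autoImplicit false
open Cfsg Cfsg.Lib.TwoFusion Cfsg.Lib.QDFusion

namespace Cfsg.Agent.S1207

/-- Let G be a finite group with quasi-dihedral Sylow 2-subgroup S, T a Klein four-subgroup and Q a quaternion subgroup of order 8 of S, with |N_G(T) : C_G(T)| = 2 and |N_G(Q) : Q C_G(Q)| = 2. Then G has a normal 2-complement, exactly two classes of involutions and exactly two classes of elements of order 4. -/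
theorem result {G : Type*} [Group G] [Finite G] (S : Sylow 2 G) (hS : Cfsg.IsQuasiDihedral (S : Subgroup G)) (T : Subgroup G) (hT : IsKleinFour T) (hTS : T ≤ S) (Q : Subgroup G) (hQS : Q ≤ S) (eQ : Q ≃* QuaternionGroup 2) (h₁ : (Subgroup.centralizer (T : Set G)).relIndex (Subgroup.normalizer (T : Set G)) = 2) (h₂ : (Q ⊔ Subgroup.centralizer (Q : Set G)).relIndex (Subgroup.normalizer (Q : Set G)) = 2) : Cfsg.HasNormalPComplement 2 G ∧ Nat.card {C : ConjClasses G // ∃ t : G, orderOf t = 2 ∧ ConjClasses.mk t = C} = 2 ∧ Nat.card {C : ConjClasses G // ∃ t : G, orderOf t = 4 ∧ ConjClasses.mk t = C} = 2 := by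
  obtain ⟨D⟩ := exists_data hS hT hTS hQS eQ
  have hqm : D.a ^ (2 * D.j + 1) * D.b ∈ Cfsg.Lib.QD.half D.gen 1 := Or.inr ⟨D.j, rfl⟩
  have htm : D.a ^ (2 * D.i) * D.b ∈ Cfsg.Lib.QD.half D.gen 0 := Or.inr ⟨D.i, by rw [add_zero]⟩
  have c2 := card_classes D.t D.z D.t_ord D.z_ord fun x hx => (D.inv_class hx).symm
  have c4 := card_classes D.w D.q D.w_ord D.q_ord fun x hx => D.four_class hx
  obtain ⟨M₁, hM₁n, hM₁i, htM⟩ := D.exists_index_two_t hS h₁
  obtain ⟨M₂, hM₂n, hM₂i, hqM⟩ := D.exists_index_two_q hS h₂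
  have hle : Data.R S ≤ Subgroup.zpowers D.a := by
    intro v hv
    rcases Cfsg.Lib.CyclicMax.cases D.gen.2 v with ⟨k, rfl⟩ | ⟨k, rfl⟩
    · exact zpow_mem (Subgroup.mem_zpowers _) k
    · exfalso
      rcases Int.even_or_odd k with ⟨r, rfl⟩ | ⟨r, rfl⟩
      · exact htM (pResidual_le_of_index_two hM₁i
          (half_le D.gen (Data.R S) 0 r (by rw [add_zero, two_mul]; exact hv) htm))
      · exact hqM (pResidual_le_of_index_two hM₂i (half_le D.gen (Data.R S) 1 r hv hqm))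
  haveI : IsCyclic ((Cfsg.pResidual 2 G).subgroupOf (S : Subgroup G)) := Subgroup.isCyclic_of_le hle
  exact ⟨hasNormalTwoComplement_of_cyclic_residual S, c2.2 (D.not_isConj_t_z hS h₁),
    c4.2 (D.not_isConj_w_q hS h₂)⟩

end Cfsg.Agent.S1207
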