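import Cfsg.Statements.S1208
import Cfsg.Agent.TwoFusion.WreathedAutomizer
import Cfsg.Agent.S1196
import Cfsg.Agent.S1197
import Cfsg.Agent.Transfer.Basic


set_option autoImplicit false
open Cfsg

namespace Cfsg.Agent.S1208

set_option maxHeartbeats 1600000 in
/-- Let G be a finite group whose Sylow 2-subgroup S is wreathed of order 2^(2n+1), U the commutative subgroup of index 2 in S, Q a quaternion subgroup of order 8 of S and V = Q Z(S). Then |N_G(U) : C_G(U)| ∈ {2, 6} and |N_G(V) : V C_G(V)| ∈ {2, 6}. -/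
theorem result {G : Type*} [Group G] [Finite G] (S : Sylow 2 G) (hS : Cfsg.IsWreathed (S : Subgroup G)) (n : ℕ) (hn : Nat.card S = 2 ^ (2 * n + 1)) (U : Subgroup G) (hUS : U ≤ S) (hUab : IsMulCommutative U) (hUcard : Nat.card U = 2 ^ (2 * n)) (Q : Subgroup G) (hQS : Q ≤ S) (eQ : Q ≃* QuaternionGroup 2) : ((Subgroup.centralizer (U : Set G)).relIndex (Subgroup.normalizer (U : Set G)) = 2 ∨ (Subgroup.centralizer (U : Set G)).relIndex (Subgroup.normalizer (U : Set G)) = 6) ∧ (((Q ⊔ ((Subgroup.center (S : Subgroup G)).map (S : Subgroup G).subtype)) ⊔ Subgroup.centralizer ((Q ⊔ ((Subgroup.center (S : Subgroup G)).map (S : Subgroup G).subtype) : Subgroup G) : Set G)).relIndex (Subgroup.normalizer ((Q ⊔ ((Subgroup.center (S : Subgroup G)).map (S : Subgroup G).subtype) : Subgroup G) : Set G)) = 2 ∨ ((Q ⊔ ((Subgroup.center (S : Subgroup G)).map (S : Subgroup G).subtype)) ⊔ Subgroup.centralizer ((Q ⊔ ((Subgroup.center (S : Subgroup G)).map (S : Subgroup G).subtype) : Subgroup G) : Set G)).relIndex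 (Subgroup.normalizer ((Q ⊔ ((Subgroup.center (S : Subgroup G)).map (S : Subgroup G).subtype) : Subgroup G) : Set G)) = 6) := by
  classical
  haveI : Fact (Nat.Prime 2) := ⟨Nat.prime_two⟩
  open Cfsg.Lib.WreathedAut in
  obtain ⟨hn2, -⟩ := Cfsg.Lib.Wreathed.exponent_eq hS n hn
  obtain ⟨hZcyc, hZcard, -, -, -⟩ := Cfsg.Agent.S1197.result hS n hn
  set T : Subgroup G := (S : Subgroup G)
  haveI := hUab
  have hUcomm : ∀ a ∈ U, ∀ b ∈ U, a * b = b * a := fun a ha b hb =>
    congrArg Subtype.val (mul_comm' (⟨a, ha⟩ : U) ⟨b, hb⟩)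
  constructor
  · obtain ⟨eU⟩ := (Cfsg.Agent.S1196.result hS n hn).2 (U.subgroupOf T)
      ⟨⟨fun a b => Subtype.ext (Subtype.ext (hUcomm _ a.2 _ b.2))⟩⟩
      (by rw [Nat.card_congr (Subgroup.subgroupOfEquivOfLe hUS).toEquiv, hUcard])
    have hrel : U.relIndex T = 2 := by
      have h := (U.subgroupOf T).card_mul_index
      rw [Nat.card_congr (Subgroup.subgroupOfEquivOfLe hUS).toEquiv, hUcard,
        show Nat.card T = 2 ^ (2 * n + 1) from hn, pow_succ] at h
      exact Nat.eq_of_mul_eq_mul_left (Nat.two_pow_pos (2 * n)) h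
    have hUc : U ≤ Subgroup.centralizer (U : Set G) := fun a ha b hb =>
      congrArg Subtype.val (mul_comm' (⟨b, hb⟩ : U) ⟨a, ha⟩)
    refine Cfsg.Lib.WreathedAut.relIndex_base S n U hUS hrel ?_ hUc
      ((Subgroup.subgroupOfEquivOfLe hUS).symm.trans eU) (by omega)
    rintro s ⟨hsT, hsC⟩
    by_contra hsU
    -- then the centre would contain `U`
    have hle : U.subgroupOf T ≤ Subgroup.center T := by
      intro u hu
      rw [Subgroup.mem_center_iff]
      intro g
      by_cases hg : g ∈ U.subgroupOf T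
      · exact Subtype.ext (hUcomm _ hg _ hu)
      · have h1 : g * (⟨s, hsT⟩ : T)⁻¹ ∈ U.subgroupOf T := by
          rw [Subgroup.mul_mem_iff_of_index_two hrel, inv_mem_iff]
          exact iff_of_false hg hsU
        refine Subtype.ext ?_
        have e1 : (g : G) = ((g : G) * s⁻¹) * s := by group
        show (g : G) * u = u * g
        have h2 := congrArg Subtype.val (mul_comm' (⟨(g : G) * s⁻¹, h1⟩ : U) ⟨(u : G), hu⟩)
        have h3 : (u : G) * s = s * u := hsC u hu
        calc (g : G) * u = ((g : G) * s⁻¹) * (s * u) := by group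
          _ = (((g : G) * s⁻¹) * u) * s := by rw [← h3]; simp [mul_assoc]
          _ = ((u : G) * ((g : G) * s⁻¹)) * s := congrArg (· * s) h2
          _ = u * g := by group
    have := Subgroup.card_le_of_le hle
    rw [Nat.card_congr (Subgroup.subgroupOfEquivOfLe hUS).toEquiv, hUcard, hZcard] at this
    have := (Nat.pow_le_pow_iff_right one_lt_two).1 this
    omega
  set Z := (Subgroup.center T).map T.subtype with hZdef
  set V := Q ⊔ Z
  have hZT : Z ≤ T := Subgroup.map_subtype_le _
  have hVT : V ≤ T := sup_le hQS hZT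
  set x : G := ((eQ.symm (QuaternionGroup.a 1) : Q) : G) with hxdef
  set y : G := ((eQ.symm (QuaternionGroup.xa 0) : Q) : G) with hydef
  have hxQ : x ∈ Q := (eQ.symm _).2
  have hyQ : y ∈ Q := (eQ.symm _).2
  have hxy : x * y ≠ y * x := by
    intro h
    have h' : eQ.symm (QuaternionGroup.a 1 * QuaternionGroup.xa 0) =
        eQ.symm (QuaternionGroup.xa 0 * QuaternionGroup.a 1) := by
      rw [map_mul, map_mul]; exact Subtype.ext h
    exact absurd (eQ.symm.injective h') (by decide)
  have hQna : ¬ ∀ a ∈ Q.subgroupOf T, ∀ b ∈ Q.subgroupOf T, a * b = b * a := fun h =>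
    hxy (congrArg Subtype.val (h ⟨x, hQS hxQ⟩ hxQ ⟨y, hQS hyQ⟩ hyQ))
  -- the centraliser of `Q` in `T` is the centre
  have hCQ : ∀ c ∈ T, (∀ q ∈ Q, q * c = c * q) → c ∈ Z := by
    intro c hcT hc
    refine ⟨⟨c, hcT⟩, ?_, rfl⟩
    exact Cfsg.Lib.WreathedAut.centralizer_le_center hS _ hQna fun q hq => Subtype.ext (hc q hq)
  have hcen : ∀ z ∈ Z, ∀ t ∈ T, t * z = z * t := by
    rintro _ ⟨z, hz, rfl⟩ t ht
    exact congrArg Subtype.val (Subgroup.mem_center_iff.1 hz ⟨t, ht⟩)
  have hZV : V ⊓ Subgroup.centralizer (V : Set G) = Z := by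
    refine le_antisymm (fun c hc => hCQ c (hVT hc.1) fun q hq => hc.2 q (Subgroup.mem_sup_left hq)) ?_
    exact le_inf le_sup_right fun z hz v hv => hcen z hz v (hVT hv)
  -- the quaternion group modulo its centre
  have hQgen : ∀ q ∈ Q, q ∈ Subgroup.closure ({x, y} : Set G) := by
    intro q hq
    have hall : ∀ w : QuaternionGroup 2, ∃ i : Fin 4, ∃ j : Fin 2,
        w = QuaternionGroup.a 1 ^ (i : ℕ) * QuaternionGroup.xa 0 ^ (j : ℕ) := by decide
    obtain ⟨i, j, hw⟩ := hall (eQ ⟨q, hq⟩)
    have h := congrArg (fun w => ((eQ.symm w : Q) : G)) hw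
    simp only [MulEquiv.symm_apply_apply, map_mul, map_pow, Subgroup.coe_mul, SubmonoidClass.coe_pow] at h
    rw [h]
    have hxC : x ∈ Subgroup.closure ({x, y} : Set G) := Subgroup.subset_closure (Set.mem_insert x {y})
    have hyC : y ∈ Subgroup.closure ({x, y} : Set G) :=
      Subgroup.subset_closure (Set.mem_insert_of_mem x (Set.mem_singleton y))
    rw [hxdef] at hxC
    rw [hydef] at hyC
    exact Subgroup.mul_mem _ (Subgroup.pow_mem _ hxC (i : ℕ)) (Subgroup.pow_mem _ hyC (j : ℕ))
  have hgen : Subgroup.closure ({x, y} : Set G) ⊔ Z = V := by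
    refine le_antisymm (sup_le ((Subgroup.closure_le _).2 ?_) le_sup_right)
      (sup_le (fun q hq => Subgroup.mem_sup_left (hQgen q hq)) le_sup_right)
    intro w hw
    rcases hw with rfl | rfl
    · exact Subgroup.mem_sup_left hxQ
    · exact Subgroup.mem_sup_left hyQ
  haveI : (Z.subgroupOf T).Normal := by
    rw [hZdef, ← Subgroup.comap_subtype, Subgroup.comap_map_eq_self_of_injective T.subtype_injective]
    infer_instance
  have hqsq : ∀ q ∈ Q, q * q ∈ Z := by
    intro q hq
    refine hCQ _ (T.mul_mem (hQS hq) (hQS hq)) fun q' hq' => ?_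
    have hall : ∀ a b : QuaternionGroup 2, b * (a * a) = (a * a) * b := by decide
    have h := congrArg eQ.symm (hall (eQ ⟨q, hq⟩) (eQ ⟨q', hq'⟩))
    simp only [map_mul, MulEquiv.symm_apply_apply] at h
    exact congrArg Subtype.val h
  have hsq : ∀ v ∈ V, v * v ∈ Z := by
    intro v hv
    have hv' : (⟨v, hVT hv⟩ : T) ∈ Q.subgroupOf T ⊔ Z.subgroupOf T := by
      rw [← Subgroup.subgroupOf_sup hQS hZT]; exact hv
    obtain ⟨q, hq, z, hz, e⟩ := Subgroup.mem_sup_of_normal_right.1 hv'
    have e' : (q : G) * (z : G) = v := congrArg Subtype.val e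
    have hzq : (z : G) * (q : G) = (q : G) * z := (hcen _ hz _ q.2).symm
    rw [← e', show (q : G) * z * (q * z) = (q * q) * (z * z) by
      rw [mul_assoc (q : G) z, ← mul_assoc (z : G) q, hzq]; group]
    exact Z.mul_mem (hqsq _ hq) (Z.mul_mem hz hz)
  have hcard : Nat.card V = 4 * Nat.card Z := by
    have h1 : Z.relIndex V = 4 := by
      have e : Z.relIndex V = Z.relIndex Q := by
        rw [← Subgroup.relIndex_subgroupOf (H := Z) hVT, ← Subgroup.relIndex_subgroupOf (H := Z) hQS,
          Subgroup.subgroupOf_sup hQS hZT, Subgroup.relIndex_sup_right]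
      rw [e]
      have hc : Z.subgroupOf Q = Subgroup.center Q := by
        ext q
        rw [Subgroup.mem_subgroupOf, Subgroup.mem_center_iff]
        constructor
        · intro hq g
          exact Subtype.ext (hcen _ hq g (hQS g.2))
        · intro h
          exact hCQ _ (hQS q.2) fun g hg => congrArg Subtype.val (h ⟨g, hg⟩)
      rw [Subgroup.relIndex, hc]
      have h := (Subgroup.center Q).card_mul_index
      rw [Nat.card_congr (Subgroup.centerCongr eQ).toEquiv, Nat.card_congr eQ.toEquiv,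
        Nat.card_eq_fintype_card, Nat.card_eq_fintype_card, QuaternionGroup.card,
        show Fintype.card (Subgroup.center (QuaternionGroup 2)) = 2 by decide] at h
      omega
    have h2 := (Z.subgroupOf V).card_mul_index
    rw [Nat.card_congr (Subgroup.subgroupOfEquivOfLe (le_sup_right : Z ≤ V)).toEquiv,
      show (Z.subgroupOf V).index = 4 from h1] at h2
    omega
  have hZn : IsCyclic Z := by
    haveI := hZcyc
    exact isCyclic_of_surjective ((Subgroup.center T).equivMapOfInjective T.subtype T.subtype_injective).toMonoidHom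
      (MulEquiv.surjective _)
  -- a 2-subgroup containing `V` centralises `Z`
  have hfix : ∀ g ∈ Subgroup.normalizer (V : Set G), ∀ z ∈ Z, g * z = z * g := by
    intro g hg
    set W := Subgroup.normalizer (V : Set G)
    have hkz : ∀ k ∈ W, ∀ z ∈ Z, k * z * k⁻¹ ∈ Z := by
      intro k hk z hz
      rw [← hZV] at hz ⊢
      refine ⟨(Subgroup.mem_normalizer_iff.1 hk z).1 hz.1, fun v hv => ?_⟩
      have hv' : k⁻¹ * v * k ∈ V := by
        simpa using (Subgroup.mem_normalizer_iff.1 (Subgroup.inv_mem _ hk) v).1 hv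
      calc v * (k * z * k⁻¹) = k * ((k⁻¹ * v * k) * z) * k⁻¹ := by group
        _ = k * (z * (k⁻¹ * v * k)) * k⁻¹ := by rw [hz.2 _ hv']
        _ = (k * z * k⁻¹) * v := by group
    have hgZ : ∀ g' ∈ W, g' ∈ Subgroup.normalizer (Z : Set G) := by
      intro g' hg'
      rw [Subgroup.mem_normalizer_iff]
      intro z
      refine ⟨hkz g' hg' z, fun h => ?_⟩
      simpa [mul_assoc] using hkz g'⁻¹ (W.inv_mem hg') _ h
    obtain ⟨bp, bq, hbp, hbq, he, ⟨i, hi⟩, hcop⟩ := Cfsg.Lib.Transfer.exists_pPart 2 g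
    have hbpW : bp ∈ W := (Subgroup.zpowers_le.2 hg) hbp
    have hbqW : bq ∈ W := (Subgroup.zpowers_le.2 hg) hbq
    intro z hz
    have hq : bq * z = z * bq := by
      have hp2 : IsPGroup 2 Z := S.2.to_le hZT
      haveI := hZn
      exact ((Cfsg.Lib.TwoFusion.mem_centralizer_of_coprime (hgZ bq hbqW) hcop
        (Cfsg.Lib.TwoFusion.isPGroup_mulAut_cyclic hp2 _)) z hz).symm
    have hp : bp * z = z * bp := by
      have hR : IsPGroup 2 ↥(V ⊔ Subgroup.zpowers bp) := by
        rw [sup_comm]
        refine IsPGroup.to_sup_of_normal_right' (IsPGroup.of_card (n := i) (by rw [Nat.card_zpowers, hi]))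
          (S.2.to_le hVT) ?_
        exact Subgroup.zpowers_le.2 hbpW
      obtain ⟨P, hP⟩ := hR.exists_le_sylow
      obtain ⟨c, hc⟩ := MulAction.exists_smul_eq G P S
      have hmem : ∀ a ∈ V ⊔ Subgroup.zpowers bp, c * a * c⁻¹ ∈ T := fun a ha => by
        show c * a * c⁻¹ ∈ (S : Subgroup G)
        rw [← hc, Sylow.coe_subgroup_smul]
        exact Subgroup.mem_map_of_mem _ (hP ha)
      set V' : Subgroup T := (V.map (MulAut.conj c).toMonoidHom).subgroupOf T
      have hV'na : ¬ ∀ a ∈ V', ∀ b ∈ V', a * b = b * a := by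
        intro h
        refine hxy ?_
        have := congrArg Subtype.val (h ⟨_, hmem x (Subgroup.mem_sup_left (Subgroup.mem_sup_left hxQ))⟩
          (Subgroup.mem_map_of_mem _ (Subgroup.mem_sup_left hxQ))
          ⟨_, hmem y (Subgroup.mem_sup_left (Subgroup.mem_sup_left hyQ))⟩
          (Subgroup.mem_map_of_mem _ (Subgroup.mem_sup_left hyQ)))
        simp [mul_assoc] at this
        rwa [← mul_assoc, ← mul_assoc, mul_left_inj] at this
      have hzT : c * z * c⁻¹ ∈ T := hmem z (Subgroup.mem_sup_left (Subgroup.mem_sup_right hz))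
      have hzc := Cfsg.Lib.WreathedAut.centralizer_le_center hS V' hV'na
        (show (⟨_, hzT⟩ : T) ∈ Subgroup.centralizer (V' : Set T) by
          rintro ⟨_, _⟩ ⟨v, hv, rfl⟩
          refine Subtype.ext ?_
          show MulAut.conj c v * MulAut.conj c z = MulAut.conj c z * MulAut.conj c v
          rw [← map_mul, ← map_mul, hcen z hz v (hVT hv)])
      have := congrArg Subtype.val (Subgroup.mem_center_iff.1 hzc
        ⟨_, hmem bp (Subgroup.mem_sup_right (Subgroup.mem_zpowers bp))⟩)
      simp [mul_assoc] at this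
      rwa [← mul_assoc, ← mul_assoc, mul_left_inj] at this
    rw [← he, mul_assoc, hq, ← mul_assoc, hp, mul_assoc]
  refine Cfsg.Lib.Automizer.eq_two_or_six
    (Cfsg.Lib.WreathedAut.relIndex_dvd_six V Z x y (Subgroup.mem_sup_left hxQ) (Subgroup.mem_sup_left hyQ)
      le_sup_right hZV hZn hgen hsq hcard hxy hfix)
    (Cfsg.Lib.Automizer.two_dvd_relIndex T S.isPGroup' V hVT ?_ ?_)
  · intro c hc
    exact (le_sup_right : Z ≤ V) (hCQ c c.2 fun q hq =>
      congrArg Subtype.val (hc ⟨q, hQS hq⟩ (Subgroup.mem_sup_left (T := Z) hq)))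
  · rw [Ne, Subgroup.relIndex_eq_one]
    haveI : Group.IsNilpotent T := S.isPGroup'.isNilpotent
    refine (Group.normalizerCondition_of_isNilpotent _ ?_).not_ge
    rw [lt_top_iff_ne_top]
    intro h
    have h1 := congrArg (fun K : Subgroup T => Nat.card K) h
    have hZc : Nat.card Z = 2 ^ n := by
      rw [Nat.card_congr ((Subgroup.center T).equivMapOfInjective T.subtype T.subtype_injective).symm.toEquiv,
        hZcard]
    simp only [Subgroup.card_top, Nat.card_congr (Subgroup.subgroupOfEquivOfLe hVT).toEquiv,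
      hcard, hZc, show Nat.card T = 2 ^ (2 * n + 1) from hn] at h1
    rw [show (4 : ℕ) = 2 ^ 2 from rfl, ← pow_add] at h1
    have := Nat.pow_right_injective le_rfl h1
    omega

end Cfsg.Agent.S1208
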