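import Cfsg.Statements.S1209
import Cfsg.Agent.TwoFusion.WreathedFusion

set_option autoImplicit false
open Cfsg Cfsg.Lib.TwoFusion Cfsg.Lib.Wreathed Cfsg.Lib.WreathedFusion

namespace Cfsg.Agent.S1209

/-- Let G be a finite group whose Sylow 2-subgroup S is wreathed of order 2^(2n+1), U the commutative subgroup of index 2 in S, Q a quaternion subgroup of order 8 of S and V = Q Z(S). If |N_G(U) : C_G(U)| = 6 and |N_G(V) : V C_G(V)| = 6, then G has no subgroup of index 2 and exactly one conjugacy class of involutions. -/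
theorem result {G : Type*} [Group G] [Finite G] (S : Sylow 2 G) (hS : Cfsg.IsWreathed (S : Subgroup G)) (n : ℕ) (hn : Nat.card S = 2 ^ (2 * n + 1)) (U : Subgroup G) (hUS : U ≤ S) (hUab : IsMulCommutative U) (hUcard : Nat.card U = 2 ^ (2 * n)) (Q : Subgroup G) (hQS : Q ≤ S) (eQ : Q ≃* QuaternionGroup 2) (h₁ : (Subgroup.centralizer (U : Set G)).relIndex (Subgroup.normalizer (U : Set G)) = 6) (h₂ : ((Q ⊔ ((Subgroup.center (S : Subgroup G)).map (S : Subgroup G).subtype)) ⊔ Subgroup.centralizer ((Q ⊔ ((Subgroup.center (S : Subgroup G)).map (S : Subgroup G).subtype) : Subgroup G) : Set G)).relIndex (Subgroup.normalizer ((Q ⊔ ((Subgroup.center (S : Subgroup G)).map (S : Subgroup G).subtype) : Subgroup G) : Set G)) = 6) : (∀ H : Subgroup G, H.index ≠ 2) ∧ Nat.card {C : ConjClasses G // ∃ t : G, orderOf t = 2 ∧ ConjClasses.mk t = C} = 1 := by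
  obtain ⟨hn2, e, hU, hV⟩ := exists_coordinates S hS n hn U hUS hUab hUcard Q hQS eQ
  subst hU
  rw [hV] at h₂
  have hzu := (six_U S e hn2 h₁).1
  have hut := conj_ut_of_six S e hn2 h₂
  refine ⟨no_index_two_of_sylow_le S fun s hs => ?_, (card_classes _ _ ((orderOf_emb S e _).trans (orderOf_zed hn2))
    ((orderOf_emb S e _).trans (orderOf_u0 hn2)) fun x hx => ?_).1 hzu⟩
  · obtain ⟨p, rfl⟩ := exists_emb S e hs
    rw [← mem_R]
    obtain ⟨c, hc⟩ := exists_quarter hn2
    have hq : (⟨c, c, true⟩ : Wr n) ∈ R S e := (six_V S e hn2 h₂).2 (by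
      show c + c = if true then half n else 0
      rw [hc]; rfl)
    cases hp : p.e
    · exact (six_U S e hn2 h₁).2 hp
    · have h := mul_mem ((six_U S e hn2 h₁).2 (show (p * (⟨c, c, true⟩ : Wr n)⁻¹).e = false by simp [hp])) hq
      rwa [inv_mul_cancel_right] at h
  · rcases involution_classes S e hn2 hx with h | h | h
    · exact Or.inl h
    · exact Or.inr h
    · exact Or.inr (h.trans hut.symm)

end Cfsg.Agent.S1209
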