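import Cfsg.Statements.S1211
import Cfsg.Agent.TwoFusion.WreathedFusion

set_option autoImplicit false
open Cfsg Cfsg.Lib.TwoFusion Cfsg.Lib.Wreathed Cfsg.Lib.WreathedFusion

namespace Cfsg.Agent.S1211

/-- Let G be a finite group whose Sylow 2-subgroup S is wreathed of order 2^(2n+1), U the commutative subgroup of index 2 in S, Q a quaternion subgroup of order 8 of S and V = Q Z(S). If |N_G(U) : C_G(U)| = 6 and |N_G(V) : V C_G(V)| = 2, then G has a normal subgroup K of index 2 containing U (so U is a Sylow 2-subgroup of K) which has no subgroup of index 2, and G has exactly two classes of involutions. -/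
theorem result {G : Type*} [Group G] [Finite G] (S : Sylow 2 G) (hS : Cfsg.IsWreathed (S : Subgroup G)) (n : ℕ) (hn : Nat.card S = 2 ^ (2 * n + 1)) (U : Subgroup G) (hUS : U ≤ S) (hUab : IsMulCommutative U) (hUcard : Nat.card U = 2 ^ (2 * n)) (Q : Subgroup G) (hQS : Q ≤ S) (eQ : Q ≃* QuaternionGroup 2) (h₁ : (Subgroup.centralizer (U : Set G)).relIndex (Subgroup.normalizer (U : Set G)) = 6) (h₂ : ((Q ⊔ ((Subgroup.center (S : Subgroup G)).map (S : Subgroup G).subtype)) ⊔ Subgroup.centralizer ((Q ⊔ ((Subgroup.center (S : Subgroup G)).map (S : Subgroup G).subtype) : Subgroup G) : Set G)).relIndex (Subgroup.normalizer ((Q ⊔ ((Subgroup.center (S : Subgroup G)).map (S : Subgroup G).subtype) : Subgroup G) : Set G)) = 2) : (∃ K : Subgroup G, K.Normal ∧ K.index = 2 ∧ U ≤ K ∧ (∀ H : Subgroup ↥K, H.index ≠ 2)) ∧ Nat.card {C : ConjClasses G // ∃ t : G, orderOf t = 2 ∧ ConjClasses.mk t = C} = 2 := by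
  obtain ⟨hn2, e, hU, hV⟩ := exists_coordinates S hS n hn U hUS hUab hUcard Q hQS eQ
  subst hU
  rw [hV] at h₂
  have hR := R_eq_base S e hn2 h₁ h₂
  refine ⟨⟨Cfsg.pResidual 2 G, inferInstance, ?_, ?_, pResidual_no_index_two⟩,
    (card_classes _ _ ((orderOf_emb S e _).trans (orderOf_zed hn2)) ((orderOf_emb S e _).trans orderOf_t0)
      fun x hx => ?_).2 fun h => not_conj_t_base S e hn2 h₂ (p := zed n) rfl h.symm⟩
  · rw [index_residual S e hn2, hR]
    have h := (base n).card_mul_index
    rw [base_card, Wr.card_eq, pow_succ] at h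
    exact Nat.eq_of_mul_eq_mul_left (Nat.two_pow_pos (2 * n)) h
  · rintro _ ⟨p, hp, rfl⟩
    exact hR.ge hp
  · rcases involution_classes S e hn2 hx with h | h | h
    · exact Or.inl h
    · exact Or.inl (h.trans (six_U S e hn2 h₁).1.symm)
    · exact Or.inr h

end Cfsg.Agent.S1211
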