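import Cfsg.Statements.S1212
import Cfsg.Agent.TwoFusion.WreathedFusion

set_option autoImplicit false
open Cfsg Cfsg.Lib.TwoFusion Cfsg.Lib.Wreathed Cfsg.Lib.WreathedFusion

namespace Cfsg.Agent.S1212

/-- Let G be a finite group whose Sylow 2-subgroup S is wreathed of order 2^(2n+1), U the commutative subgroup of index 2 in S, Q a quaternion subgroup of order 8 of S and V = Q Z(S). If |N_G(U) : C_G(U)| = 2 and |N_G(V) : V C_G(V)| = 2, then G has a normal 2-complement and exactly three conjugacy classes of involutions. -/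
theorem result {G : Type*} [Group G] [Finite G] (S : Sylow 2 G) (hS : Cfsg.IsWreathed (S : Subgroup G)) (n : ℕ) (hn : Nat.card S = 2 ^ (2 * n + 1)) (U : Subgroup G) (hUS : U ≤ S) (hUab : IsMulCommutative U) (hUcard : Nat.card U = 2 ^ (2 * n)) (Q : Subgroup G) (hQS : Q ≤ S) (eQ : Q ≃* QuaternionGroup 2) (h₁ : (Subgroup.centralizer (U : Set G)).relIndex (Subgroup.normalizer (U : Set G)) = 2) (h₂ : ((Q ⊔ ((Subgroup.center (S : Subgroup G)).map (S : Subgroup G).subtype)) ⊔ Subgroup.centralizer ((Q ⊔ ((Subgroup.center (S : Subgroup G)).map (S : Subgroup G).subtype) : Subgroup G) : Set G)).relIndex (Subgroup.normalizer ((Q ⊔ ((Subgroup.center (S : Subgroup G)).map (S : Subgroup G).subtype) : Subgroup G) : Set G)) = 2) : Cfsg.HasNormalPComplement 2 G ∧ Nat.card {C : ConjClasses G // ∃ t : G, orderOf t = 2 ∧ ConjClasses.mk t = C} = 3 := by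
  obtain ⟨hn2, e, hU, hV⟩ := exists_coordinates S hS n hn U hUS hUab hUcard Q hQS eQ
  subst hU
  rw [hV] at h₂
  haveI : IsCyclic ((Cfsg.pResidual 2 G).subgroupOf (S : Subgroup G)) := by
    rw [residual_subgroupOf S e hn2]
    haveI : IsCyclic (antidiag n) := by rw [← commutator_eq]; exact isCyclic_commutator n
    haveI : IsCyclic (R S e) := Subgroup.isCyclic_of_le (R_le_antidiag S e hn2 h₁ h₂)
    exact isCyclic_of_surjective ((R S e).equivMapOfInjective e.toMonoidHom e.injective).toMonoidHom
      (MulEquiv.surjective _)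
  exact ⟨hasNormalTwoComplement_of_cyclic_residual S, card_three _ _ _
    ((orderOf_emb S e _).trans (orderOf_zed hn2)) ((orderOf_emb S e _).trans (orderOf_u0 hn2))
    ((orderOf_emb S e _).trans orderOf_t0) (fun x hx => involution_classes S e hn2 hx)
    (not_conj_zu S e hn2 h₁) (fun h => not_conj_t_base S e hn2 h₂ (p := zed n) rfl h.symm)
    (fun h => not_conj_t_base S e hn2 h₂ (p := u0 n) rfl h.symm)⟩

end Cfsg.Agent.S1212
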