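import Cfsg.Statements.S1214
import Cfsg.Agent.TwoFusion.NoIndexTwoSimple

set_option autoImplicit false
open Cfsg

namespace Cfsg.Agent.S1214

/-- Let G be a finite group with quasi-dihedral or wreathed Sylow 2-subgroups and no subgroup of index 2. Then G/O(G), the quotient by the largest normal subgroup of odd order, has a normal subgroup of odd index which is a non-abelian simple group. -/
theorem result {G : Type*} [Group G] [Finite G] (S : Sylow 2 G) (hS : Cfsg.IsQuasiDihedral (S : Subgroup G) ∨ Cfsg.IsWreathed (S : Subgroup G)) (hG : ∀ H : Subgroup G, H.index ≠ 2) : ∃ L : Subgroup (G ⧸ Cfsg.oddCore G), L.Normal ∧ Odd L.index ∧ IsSimpleGroup L ∧ ¬ IsMulCommutative L := by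
  have : Fact (Nat.Prime 2) := ⟨Nat.prime_two⟩
  set O := Cfsg.oddCore G
  set π := QuotientGroup.mk' O
  have hsurj : Function.Surjective π := QuotientGroup.mk'_surjective O
  let S' : Sylow 2 (G ⧸ O) := S.mapSurjective hsurj
  have hinj : Function.Injective (π.subgroupMap (S : Subgroup G)) := by
    rw [injective_iff_map_eq_one]
    intro a ha
    have h1 : (a : G) ∈ O := (QuotientGroup.eq_one_iff _).1 (congrArg Subtype.val ha)
    obtain ⟨k, hk⟩ := IsPGroup.iff_card.mp S.isPGroup'
    refine Subtype.ext (orderOf_eq_one_iff.mp (Nat.eq_one_of_dvd_coprimes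
      ((Cfsg.Lib.Components.coprime_card_pPrimeCore (G := G) 2).pow_right k) ?_ ?_))
    · rw [← Subgroup.orderOf_mk _ h1]; exact orderOf_dvd_natCard _
    · rw [Subgroup.orderOf_coe, ← hk]; exact orderOf_dvd_natCard _
  let e : (S : Subgroup G) ≃* (S' : Subgroup (G ⧸ O)) :=
    (MulEquiv.ofBijective (π.subgroupMap (S : Subgroup G))
      ⟨hinj, π.subgroupMap_surjective _⟩).trans (MulEquiv.subgroupCongr (S.coe_mapSurjective hsurj).symm)
  have hG' : ∀ H : Subgroup (G ⧸ O), H.index ≠ 2 := fun H hH =>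
    hG (H.comap π) ((Subgroup.index_comap_of_surjective _ hsurj).trans hH)
  have hO : Cfsg.pPrimeCore 2 (G ⧸ O) = ⊥ := Cfsg.Lib.Components.pPrimeCore_quotient_eq_bot
  rcases hS with hS | hS
  · exact Cfsg.Lib.NoIndexTwoSimple.quasiDihedral S'
      (Cfsg.Lib.QGroupCentralizer.isQuasiDihedral_congr e hS) hG' hO
  · exact Cfsg.Lib.NoIndexTwoSimple.wreathed S' (Cfsg.Lib.SylowTwo.isWreathed_congr e hS) hG' hO

end Cfsg.Agent.S1214
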