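import Cfsg.Statements.S1219
import Cfsg.Agent.Known.CommutingInvolutions
import Mathlib

set_option autoImplicit false
open scoped MatrixGroups
open Cfsg

namespace Cfsg.Agent.S1219

open Matrix

variable {F : Type*} [Field F]

/-- `A ↦ diag(det A⁻¹, A)`. -/
def blockMat (A : GL (Fin 2) F) : Matrix (Fin 3) (Fin 3) F :=
  !![(A.val.det)⁻¹, 0, 0; 0, A.val 0 0, A.val 0 1; 0, A.val 1 0, A.val 1 1]

lemma det_ne_zero (A : GL (Fin 2) F) : A.val.det ≠ 0 := by
  have h : A.val.det * (A⁻¹).val.det = 1 := by rw [← det_mul, Units.mul_inv, det_one]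
  exact fun h0 => by simp [h0] at h

/-- The block embedding. -/
def blockHom : GL (Fin 2) F →* Matrix.SpecialLinearGroup (Fin 3) F where
  toFun A := ⟨blockMat A, by
    rw [det_fin_three]
    have := det_ne_zero A
    rw [det_fin_two] at this
    simp [blockMat, det_fin_two]
    field_simp⟩
  map_one' := by
    apply Subtype.ext
    ext i j
    fin_cases i <;> fin_cases j <;> simp [blockMat]
  map_mul' A B := by
    apply Subtype.ext
    show blockMat (A * B) = blockMat A * blockMat B
    ext i j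
    fin_cases i <;> fin_cases j <;>
      simp [blockMat, Matrix.mul_apply, Fin.sum_univ_two, Fin.sum_univ_three, det_mul, mul_comm]

lemma blockHom_coe (A : GL (Fin 2) F) : (blockHom A : Matrix (Fin 3) (Fin 3) F) = blockMat A := rfl

/-- `diag(1,-1,-1)`. -/
def D0 : Matrix.SpecialLinearGroup (Fin 3) F := blockHom (-1)

lemma D0_coe : ((D0 : Matrix.SpecialLinearGroup (Fin 3) F) : Matrix (Fin 3) (Fin 3) F) =
    diagonal ![1, -1, -1] := by
  show blockMat _ = _
  ext i j
  fin_cases i <;> fin_cases j <;> simp [blockMat, det_fin_two]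

lemma center_scalar {z : Matrix.SpecialLinearGroup (Fin 3) F} (hz : z ∈ Subgroup.center _) :
    ∃ c : F, c ^ 3 = 1 ∧ (z : Matrix (Fin 3) (Fin 3) F) = scalar (Fin 3) c := by
  obtain ⟨c, hc, h⟩ := Matrix.SpecialLinearGroup.mem_center_iff.1 hz
  exact ⟨c, by simpa using hc, h.symm⟩

lemma center_cube {z : Matrix.SpecialLinearGroup (Fin 3) F} (hz : z ∈ Subgroup.center _) : z ^ 3 = 1 := by
  obtain ⟨c, hc, h⟩ := center_scalar hz
  apply Subtype.ext
  rw [Matrix.SpecialLinearGroup.coe_pow, h, ← map_pow, hc, map_one]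
  rfl

/-- The class of `D0`. -/
def t0 : ProjectiveSpecialLinearGroup (Fin 3) F := QuotientGroup.mk' _ D0

lemma D0_sq : (D0 : Matrix.SpecialLinearGroup (Fin 3) F) * D0 = 1 := by
  rw [D0, ← map_mul, neg_mul_neg, one_mul, map_one]

/-- The map to the centraliser. -/
def psi : GL (Fin 2) F →* Subgroup.centralizer ({t0} : Set (ProjectiveSpecialLinearGroup (Fin 3) F)) :=
  ((QuotientGroup.mk' (Subgroup.center (Matrix.SpecialLinearGroup (Fin 3) F))).comp blockHom).codRestrict _
    fun A => by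
      rw [Subgroup.mem_centralizer_singleton_iff]
      show (QuotientGroup.mk' _) (blockHom A) * (QuotientGroup.mk' _) (blockHom (-1 : GL (Fin 2) F)) =
        (QuotientGroup.mk' _) (blockHom (-1 : GL (Fin 2) F)) * (QuotientGroup.mk' _) (blockHom A)
      rw [← map_mul, ← map_mul, ← map_mul, ← map_mul, neg_one_mul, mul_neg_one]

lemma psi_surjective (h2 : (2 : F) ≠ 0) : Function.Surjective (psi : GL (Fin 2) F → _) := by
  rintro ⟨x, hx⟩
  obtain ⟨S, rfl⟩ := QuotientGroup.mk'_surjective _ x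
  rw [Subgroup.mem_centralizer_singleton_iff] at hx
  have hz : S * D0 * S⁻¹ * D0 ∈ Subgroup.center (Matrix.SpecialLinearGroup (Fin 3) F) := by
    rw [← QuotientGroup.eq_one_iff]
    show (QuotientGroup.mk' _) (S * D0 * S⁻¹ * D0) = 1
    rw [map_mul, map_mul, map_mul, map_inv]
    change _ * t0 * _ * t0 = 1
    rw [hx, mul_inv_cancel_right, show t0 = QuotientGroup.mk' _ D0 from rfl, ← map_mul, D0_sq,
      map_one]
  set z := S * D0 * S⁻¹ * D0 with hzdef
  have hzD : z * D0 = S * D0 * S⁻¹ := by rw [hzdef, mul_assoc, D0_sq, mul_one]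
  have hz1 : z = 1 := by
    have h1 : (z * D0) * (z * D0) = 1 := by
      rw [hzD]
      calc S * D0 * S⁻¹ * (S * D0 * S⁻¹) = S * (D0 * D0) * S⁻¹ := by group
        _ = 1 := by rw [D0_sq, mul_one, mul_inv_cancel]
    have hcm : D0 * z = z * D0 := Subgroup.mem_center_iff.1 hz D0
    rw [mul_assoc, ← mul_assoc D0, hcm, mul_assoc z D0, D0_sq, mul_one] at h1
    calc z = z ^ 3 := by rw [pow_succ, pow_two, h1, one_mul]
      _ = 1 := center_cube hz
  rw [hz1, one_mul] at hzD
  have hc : S * D0 = D0 * S := by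
    conv_rhs => rw [hzD]
    rw [inv_mul_cancel_right]
  have hm : (S : Matrix (Fin 3) (Fin 3) F) * diagonal ![1, -1, -1] =
      diagonal ![1, -1, -1] * (S : Matrix (Fin 3) (Fin 3) F) := by
    rw [← D0_coe, ← Matrix.SpecialLinearGroup.coe_mul, ← Matrix.SpecialLinearGroup.coe_mul, hc]
  have z0 : ∀ i j, (![1, -1, -1] : Fin 3 → F) j ≠ (![1, -1, -1] : Fin 3 → F) i →
      (S : Matrix (Fin 3) (Fin 3) F) i j = 0 := by
    intro i j hij
    have h := congrFun₂ hm i j
    rw [mul_diagonal, diagonal_mul, mul_comm] at h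
    by_contra hne
    exact hij (mul_right_cancel₀ hne h)
  have hne : (1 : F) ≠ -1 := fun h => h2 (by linear_combination h)
  have s01 := z0 0 1 (by simpa using hne.symm)
  have s02 := z0 0 2 (by simpa using hne.symm)
  have s10 := z0 1 0 (by simpa using hne)
  have s20 := z0 2 0 (by simpa using hne)
  let M : Matrix (Fin 2) (Fin 2) F :=
    !![(S : Matrix (Fin 3) (Fin 3) F) 1 1, (S : Matrix (Fin 3) (Fin 3) F) 1 2;
       (S : Matrix (Fin 3) (Fin 3) F) 2 1, (S : Matrix (Fin 3) (Fin 3) F) 2 2]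
  have hdet : (S : Matrix (Fin 3) (Fin 3) F) 0 0 * M.det = 1 := by
    have := S.2
    rw [det_fin_three] at this
    simp only [M, det_fin_two_of]
    rw [s01, s02, s10, s20] at this
    linear_combination this
  have hMne : M.det ≠ 0 := fun h => by simp [h] at hdet
  refine ⟨GeneralLinearGroup.mkOfDetNeZero M hMne, Subtype.ext ?_⟩
  show (QuotientGroup.mk' _) (blockHom _) = (QuotientGroup.mk' _) S
  congr 1
  apply Subtype.ext
  have hM : (GeneralLinearGroup.mkOfDetNeZero M hMne).val = M := rfl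
  show blockMat _ = _
  rw [blockMat, hM, ← eq_inv_of_mul_eq_one_left hdet]
  ext i j
  fin_cases i <;> fin_cases j <;> simp [M, s01, s02, s10, s20]

lemma psi_ker_iff (A : GL (Fin 2) F) :
    A ∈ (psi (F := F)).ker ↔ ∃ c : F, c ^ 3 = 1 ∧ A.val = scalar (Fin 2) c := by
  have h : A ∈ (psi (F := F)).ker ↔ blockHom A ∈ Subgroup.center (Matrix.SpecialLinearGroup (Fin 3) F) := by
    rw [MonoidHom.mem_ker, Subtype.ext_iff, ← QuotientGroup.eq_one_iff]
    rfl
  rw [h]
  constructor
  · intro hA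
    obtain ⟨c, hc, he⟩ := center_scalar hA
    refine ⟨c, hc, ?_⟩
    rw [blockHom_coe] at he
    ext i j
    fin_cases i <;> fin_cases j
    · simpa [blockMat] using congrFun₂ he 1 1
    · simpa [blockMat] using congrFun₂ he 1 2
    · simpa [blockMat] using congrFun₂ he 2 1
    · simpa [blockMat] using congrFun₂ he 2 2
  · rintro ⟨c, hc, he⟩
    refine Matrix.SpecialLinearGroup.mem_center_iff.2 ⟨c, by rw [Fintype.card_fin]; exact hc, ?_⟩
    rw [blockHom_coe, blockMat, he]
    have hci : (c ^ 2)⁻¹ = c := inv_eq_of_mul_eq_one_right (by linear_combination hc)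
    ext i j
    fin_cases i <;> fin_cases j <;> simp [hci, ← pow_two]

lemma psi_ker_le_center : (psi (F := F)).ker ≤ Subgroup.center (GL (Fin 2) F) := by
  intro A hA
  obtain ⟨c, -, he⟩ := (psi_ker_iff A).1 hA
  refine Subgroup.mem_center_iff.2 fun B => Units.ext ?_
  rw [Units.val_mul, Units.val_mul, he]
  exact ((scalar_commute c (fun r => mul_comm c r) B.val).eq).symm

lemma psi_ker_card [Fintype F] :
    Nat.card (psi (F := F)).ker = Nat.gcd (Fintype.card F - 1) 3 := by
  let s : Fˣ →* GL (Fin 2) F := Units.map (scalar (Fin 2) : F →+* Matrix (Fin 2) (Fin 2) F).toMonoidHom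
  have hs : Function.Injective s := Units.map_injective (fun a b h => scalar_inj.1 h)
  have hK : (psi (F := F)).ker = (powMonoidHom 3 : Fˣ →* Fˣ).ker.map s := by
    ext A
    rw [psi_ker_iff, Subgroup.mem_map]
    constructor
    · rintro ⟨c, hc, he⟩
      have hc0 : c ≠ 0 := by rintro rfl; simp at hc
      exact ⟨Units.mk0 c hc0, Units.ext (by simpa using hc), Units.ext he.symm⟩
    · rintro ⟨u, hu, rfl⟩
      exact ⟨u, by simpa using congrArg Units.val hu, rfl⟩
  rw [hK, Subgroup.card_map_of_injective hs, IsCyclic.card_powMonoidHom_ker, Nat.card_units,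
    Nat.card_eq_fintype_card]

lemma conj_D0 (h2 : (2 : F) ≠ 0) {T : Matrix.SpecialLinearGroup (Fin 3) F} (hT : T * T = 1) (hne : T ≠ 1) :
    ∃ g : Matrix.SpecialLinearGroup (Fin 3) F, T = g * D0 * g⁻¹ := by
  classical
  have hTm : (T : Matrix (Fin 3) (Fin 3) F) * T = 1 := by
    rw [← Matrix.SpecialLinearGroup.coe_mul, hT]; rfl
  obtain ⟨b0, hb0⟩ := Cfsg.Lib.Known.exists_eigenbasis h2 {(T : Matrix (Fin 3) (Fin 3) F)}
    (by rintro s rfl t rfl; rfl) (by rintro s rfl; exact hTm)
  let b := b0.reindex (finCongr (Fintype.card_fin 3))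
  have hb : ∀ i, ∃ c : F, c * c = 1 ∧ (T : Matrix (Fin 3) (Fin 3) F) *ᵥ (b i) = c • b i := by
    intro i
    simp only [b, Module.Basis.reindex_apply]
    exact hb0 _ rfl _
  choose c hc1 hc2 using hb
  let P : Matrix (Fin 3) (Fin 3) F := of fun i j => b j i
  have hP : P.det ≠ 0 := by
    have hu : IsUnit P.det := by
      rw [← isUnit_iff_isUnit_det, ← linearIndependent_cols_iff_isUnit]
      exact b.linearIndependent
    exact hu.ne_zero
  have hTP : (T : Matrix (Fin 3) (Fin 3) F) * P = P * diagonal c := by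
    ext i j
    rw [mul_diagonal]
    have := congrFun (hc2 j) i
    simpa [P, mul_apply, mulVec, dotProduct, mul_comm] using this
  have hprod : c 0 * c 1 * c 2 = 1 := by
    have h := congrArg det hTP
    rw [det_mul, det_mul, T.2, one_mul, det_diagonal, Fin.prod_univ_three] at h
    exact mul_left_cancel₀ hP (h.symm.trans (mul_one _).symm)
  have hnot : ¬ ∀ i, c i = 1 := by
    intro h
    apply hne
    apply Subtype.ext
    have h1 : (T : Matrix (Fin 3) (Fin 3) F) * P = 1 * P := by
      rw [hTP, one_mul, show c = fun _ => (1 : F) from funext h, diagonal_one, mul_one]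
    exact ((isUnit_iff_isUnit_det P).2 (isUnit_iff_ne_zero.2 hP)).mul_right_cancel h1
  have hpm : ∀ i, c i = 1 ∨ c i = -1 := fun i => mul_self_eq_one_iff.1 (hc1 i)
  obtain ⟨σ, hσ⟩ : ∃ σ : Equiv.Perm (Fin 3), ∀ i, c (σ i) = (![1, -1, -1] : Fin 3 → F) i := by
    rcases hpm 0 with h0 | h0 <;> rcases hpm 1 with h1 | h1 <;> rcases hpm 2 with h2' | h2'
    all_goals rw [h0, h1, h2'] at hprod
    all_goals first
      | (refine absurd ?_ hnot; intro i; fin_cases i <;> assumption)
      | (exfalso; apply h2; linear_combination hprod)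
      | (exfalso; apply h2; linear_combination -hprod)
      | (refine ⟨1, ?_⟩; intro i; fin_cases i <;> simp [h0, h1, h2'] <;> done)
      | (refine ⟨Equiv.swap 0 1, ?_⟩; intro i; fin_cases i <;>
          simp [h0, h1, h2', Equiv.swap_apply_of_ne_of_ne] <;> done)
      | (refine ⟨Equiv.swap 0 2, ?_⟩; intro i; fin_cases i <;>
          simp [h0, h1, h2', Equiv.swap_apply_of_ne_of_ne] <;> done)
  let P' : Matrix (Fin 3) (Fin 3) F := P.submatrix id σ
  have hP' : P'.det ≠ 0 := by
    simp only [P']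
    rw [det_permute']
    rcases Int.units_eq_one_or (Equiv.Perm.sign σ) with h | h <;> simp [h, hP]
  have hTP' : (T : Matrix (Fin 3) (Fin 3) F) * P' = P' * diagonal ![1, -1, -1] := by
    ext i j
    have h := congrFun₂ hTP i (σ j)
    rw [mul_diagonal, hσ] at h
    rw [mul_diagonal]
    exact h
  let Q : Matrix (Fin 3) (Fin 3) F := P' * diagonal ![P'.det⁻¹, 1, 1]
  have hQ : Q.det = 1 := by
    simp [Q, Fin.prod_univ_three, hP']
  let g : Matrix.SpecialLinearGroup (Fin 3) F := ⟨Q, hQ⟩
  refine ⟨g, ?_⟩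
  rw [eq_mul_inv_iff_mul_eq]
  apply Subtype.ext
  rw [Matrix.SpecialLinearGroup.coe_mul, Matrix.SpecialLinearGroup.coe_mul, D0_coe]
  show (T : Matrix (Fin 3) (Fin 3) F) * (P' * _) = P' * _ * _
  rw [← mul_assoc, hTP', mul_assoc, mul_assoc, diagonal_mul_diagonal, diagonal_mul_diagonal]
  simp [mul_comm]

/-- Let F be a finite field of odd order q and t an involution of PSL(3,F). Then C(t) is isomorphic to the quotient of GL(2,F) by a central subgroup of order gcd(q−1, 3). -/
theorem result {F : Type*} [Field F] [Fintype F] (hF : Odd (Fintype.card F)) (t : Matrix.ProjectiveSpecialLinearGroup (Fin 3) F) (ht : orderOf t = 2) : ∃ (Z : Subgroup (GL (Fin 2) F)) (_ : Z.Normal), Z ≤ Subgroup.center (GL (Fin 2) F) ∧ Nat.card Z = Nat.gcd (Fintype.card F - 1) 3 ∧ Nonempty (↥(Subgroup.centralizer ({t} : Set (Matrix.ProjectiveSpecialLinearGroup (Fin 3) F))) ≃* GL (Fin 2) F ⧸ Z) := by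
  have h2 : (2 : F) ≠ 0 := by
    refine Ring.two_ne_zero fun h => ?_
    have := FiniteField.even_card_iff_char_two.1 h
    rw [← Nat.not_even_iff_odd, Nat.even_iff] at hF
    exact hF this
  obtain ⟨T0, rfl⟩ := QuotientGroup.mk'_surjective _ t
  set t := QuotientGroup.mk' (Subgroup.center (Matrix.SpecialLinearGroup (Fin 3) F)) T0 with htdef
  have ht2 : t ^ 2 = 1 := by rw [← ht]; exact pow_orderOf_eq_one t
  have hz : T0 ^ 2 ∈ Subgroup.center _ := by
    rw [← QuotientGroup.eq_one_iff]
    show QuotientGroup.mk' _ (T0 ^ 2) = 1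
    rw [map_pow]; exact ht2
  have hT : T0 ^ 3 * T0 ^ 3 = 1 := by
    rw [← center_cube hz]
    group
  have hTt : QuotientGroup.mk' _ (T0 ^ 3) = t := by
    rw [map_pow]
    show t ^ 3 = t
    rw [pow_succ, ht2, one_mul]
  have hne : T0 ^ 3 ≠ 1 := by
    intro h
    rw [h, map_one] at hTt
    rw [← hTt, orderOf_one] at ht
    exact absurd ht (by norm_num)
  obtain ⟨g, hg⟩ := conj_D0 h2 hT hne
  let γ : MulAut (Matrix.ProjectiveSpecialLinearGroup (Fin 3) F) :=
    MulAut.conj (QuotientGroup.mk' _ g)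
  have hγ : (Subgroup.centralizer ({t0} : Set (Matrix.ProjectiveSpecialLinearGroup (Fin 3) F))).map
      γ.toMonoidHom = Subgroup.centralizer ({t} : Set _) := by
    have ht0 : γ t0 = t := by
      rw [← hTt, hg, map_mul, map_mul, map_inv]
      rfl
    ext x
    simp only [Subgroup.mem_map, Subgroup.mem_centralizer_singleton_iff]
    constructor
    · rintro ⟨y, hy, rfl⟩
      show γ y * t = t * γ y
      rw [← ht0, ← map_mul, ← map_mul, hy]
    · intro hx
      refine ⟨γ.symm x, γ.injective ?_, γ.apply_symm_apply x⟩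
      rw [map_mul, map_mul, γ.apply_symm_apply, ht0, hx]
  refine ⟨(psi (F := F)).ker, inferInstance, psi_ker_le_center, psi_ker_card, ⟨?_⟩⟩
  exact (((γ.subgroupMap _).trans (MulEquiv.subgroupCongr hγ)).symm).trans
    (QuotientGroup.quotientKerEquivOfSurjective _ (psi_surjective h2)).symm

end Cfsg.Agent.S1219
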