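import Cfsg.Statements.S1228
import Cfsg.Agent.InvolCalc.ElemCent

set_option autoImplicit false
open Cfsg

namespace Cfsg.Agent.S1228

/-- Let G be a finite group with a Sylow 2-subgroup T that is neither cyclic nor normal, such that the centralizer of every involution is an elementary abelian 2-group; put H = N_G(T), let u be an involution outside H and D = H ∩ uHu⁻¹. Then N_G(D) = D ⊔ ⟨u⟩, and a coset gH is fixed by every element of D exactly when gH = H or gH = uH. -/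
theorem result {G : Type*} [Group G] [Finite G] (T : Sylow 2 G) (hnc : ¬ IsCyclic (T : Subgroup G)) (hnn : ¬ (T : Subgroup G).Normal) (hC : ∀ t : G, orderOf t = 2 → IsMulCommutative (Subgroup.centralizer ({t} : Set G)) ∧ ∀ c ∈ Subgroup.centralizer ({t} : Set G), c ^ 2 = 1) (u : G) (hu : orderOf u = 2) (huH : u ∉ Subgroup.normalizer ((T : Subgroup G) : Set G)) : Subgroup.normalizer ((Subgroup.normalizer ((T : Subgroup G) : Set G) ⊓ (Subgroup.normalizer ((T : Subgroup G) : Set G)).map (MulAut.conj u).toMonoidHom : Subgroup G) : Set G) = (Subgroup.normalizer ((T : Subgroup G) : Set G) ⊓ (Subgroup.normalizer ((T : Subgroup G) : Set G)).map (MulAut.conj u).toMonoidHom) ⊔ Subgroup.zpowers u ∧ ∀ g : G, ((∀ d ∈ Subgroup.normalizer ((T : Subgroup G) : Set G) ⊓ (Subgroup.normalizer ((T : Subgroup G) : Set G)).map (MulAut.conj u).toMonoidHom, d • (QuotientGroup.mk g : G ⧸ Subgroup.normalizer ((T : Subgroup G) : Set G)) = QuotientGroup.mk g) ↔ (QuotientGroup.mk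 g : G ⧸ Subgroup.normalizer ((T : Subgroup G) : Set G)) = QuotientGroup.mk 1 ∨ (QuotientGroup.mk g : G ⧸ Subgroup.normalizer ((T : Subgroup G) : Set G)) = QuotientGroup.mk u) := by
  have S : Cfsg.Lib.ElemCent.Setup T := ⟨hnc, hnn, hC⟩
  obtain ⟨d₀, hd₀, hd₀1⟩ := Cfsg.Lib.ElemCent.exists_Dd_ne_one S hu huH
  have huu := Cfsg.Lib.InvolCalc.sq_of_order_two hu
  refine ⟨le_antisymm ?_ (sup_le Subgroup.le_normalizer ?_), fun g => ⟨fun h => ?_, fun h d hd => ?_⟩⟩
  · intro n hn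
    have hfix : ∀ c : G ⧸ Subgroup.normalizer ((T : Subgroup G) : Set G),
        (∀ d ∈ Cfsg.Lib.ElemCent.Dd T u, d • c = c) → ∀ d ∈ Cfsg.Lib.ElemCent.Dd T u, d • (n • c) = n • c := by
      intro c hc d hd
      rw [show d • (n • c) = n • ((n⁻¹ * d * n) • c) by simp [smul_smul, mul_assoc]]
      congr 1
      refine hc _ ?_
      exact (Subgroup.mem_normalizer_iff.1 hn _).2 (by rwa [show n * (n⁻¹ * d * n) * n⁻¹ = d by group])
    have h1 := hfix _ (fun d hd => ((Cfsg.Lib.ElemCent.mem_Dd_iff hu).1 hd).1) d₀ hd₀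
    have h2 := hfix _ (fun d hd => ((Cfsg.Lib.ElemCent.mem_Dd_iff hu).1 hd).2) d₀ hd₀
    rcases Cfsg.Lib.ElemCent.fix_two S hu huH hd₀ hd₀1 h1 with h3 | h3 <;>
      rcases Cfsg.Lib.ElemCent.fix_two S hu huH hd₀ hd₀1 h2 with h4 | h4
    · exact absurd (MulAction.injective n (h3.trans h4.symm)) (Cfsg.Lib.ElemCent.mk_ne huH)
    · exact Subgroup.mem_sup_left ((Cfsg.Lib.ElemCent.mem_Dd_iff hu).2 ⟨h3, h4⟩)
    · have hun : u * n ∈ Cfsg.Lib.ElemCent.Dd T u := (Cfsg.Lib.ElemCent.mem_Dd_iff hu).2 ⟨by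
        rw [mul_smul, h3, MulAction.Quotient.smul_mk, smul_eq_mul, huu], by
        rw [mul_smul, h4, MulAction.Quotient.smul_mk, smul_eq_mul, mul_one]⟩
      have := Subgroup.mul_mem (Cfsg.Lib.ElemCent.Dd T u ⊔ Subgroup.zpowers u) (Subgroup.mem_sup_right (Subgroup.mem_zpowers u)) (Subgroup.mem_sup_left hun)
      rwa [← mul_assoc, huu, one_mul] at this
    · exact absurd (MulAction.injective n (h3.trans h4.symm)) (Cfsg.Lib.ElemCent.mk_ne huH)
  · rw [Subgroup.zpowers_le]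
    refine Subgroup.mem_normalizer_iff.2 fun d => ⟨fun hd => ?_, fun hd => ?_⟩
    · rw [Cfsg.Lib.ElemCent.inverts S hu huH hd]; exact inv_mem hd
    · have h := Cfsg.Lib.ElemCent.inverts S hu huH hd
      rw [Cfsg.Lib.InvolCalc.inv_of_order_two hu] at h hd
      rw [show d = u * (u * d * u) * u by rw [mul_assoc u (u * d * u) u]; simp [mul_assoc, huu, ← mul_assoc u u],
        h]
      exact inv_mem hd
  · exact Cfsg.Lib.ElemCent.fix_two S hu huH hd₀ hd₀1 (h d₀ hd₀)
  · rcases h with h | h <;> rw [h]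
    · exact ((Cfsg.Lib.ElemCent.mem_Dd_iff hu).1 hd).1
    · exact ((Cfsg.Lib.ElemCent.mem_Dd_iff hu).1 hd).2

end Cfsg.Agent.S1228
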