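import Cfsg.Statements.S1231
import Cfsg.Agent.InvolCalc.StronglyEmbedded

set_option autoImplicit false
open Cfsg

namespace Cfsg.Agent.S1231

/-- Let H be a subgroup of the finite group G, p a prime, k ≥ 1, and P a Sylow p-subgroup of H whose p-rank is at least k. Then N_G(X) ≤ H for every subgroup X of P of p-rank at least k if and only if H ∩ gHg⁻¹ has p-rank less than k for every g ∉ H. -/
theorem result {G : Type*} [Group G] [Finite G] {p : ℕ} [Fact p.Prime] (k : ℕ) (hk : 1 ≤ k) (H : Subgroup G) (P : Sylow p ↥H) (hP : ¬ Cfsg.PRankLE p (k - 1) ↥(P : Subgroup ↥H)) : (∀ X : Subgroup G, X ≤ (P : Subgroup ↥H).map H.subtype → ¬ Cfsg.PRankLE p (k - 1) ↥X → Subgroup.normalizer (X : Set G) ≤ H) ↔ (∀ g : G, g ∉ H → Cfsg.PRankLE p (k - 1) ↥(H ⊓ H.map (MulAut.conj g).toMonoidHom)) := by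
  classical
  open Cfsg.Lib.StrongEmb in
  open Subgroup in
  exact by
    have mono : ∀ X Y : Subgroup G, X ≤ Y → Cfsg.PRankLE p (k - 1) ↥Y → Cfsg.PRankLE p (k - 1) ↥X := by
      intro X Y hXY hY A hA hAp
      have h := hY (A.map (inclusion hXY)) ⟨⟨fun a b => ?_⟩⟩ ?_
      · rwa [Nat.card_congr (A.equivMapOfInjective _ (inclusion_injective hXY)).toEquiv]
      · obtain ⟨⟨_, a, ha, rfl⟩, ⟨_, b, hb, rfl⟩⟩ := a, b
        exact Subtype.ext (by
          show inclusion hXY a * inclusion hXY b = inclusion hXY b * inclusion hXY a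
          rw [← map_mul, ← map_mul, show a * b = b * a from congrArg Subtype.val (hA.is_comm.comm ⟨a, ha⟩ ⟨b, hb⟩)])
      · rintro _ ⟨a, ha, rfl⟩
        rw [← map_pow, hAp a ha, map_one]
    constructor
    · intro hN g hg
      by_contra hbad
      set D := H ⊓ H.map (MulAut.conj g).toMonoidHom with hD
      obtain ⟨A, hA, hAp, hAc⟩ : ∃ A : Subgroup D, IsMulCommutative A ∧ (∀ a ∈ A, a ^ p = 1) ∧ ¬ Nat.card A ≤ p ^ (k - 1) := by
        simpa [Cfsg.PRankLE] using hbad
      have hApg : IsPGroup p A := fun a => ⟨1, Subtype.ext (by simpa using hAp a a.2)⟩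
      obtain ⟨T, hT⟩ := hApg.exists_le_sylow
      set X := (T : Subgroup D).map D.subtype with hXdef
      have hXD : X ≤ D := map_subtype_le _
      have hXp : IsPGroup p X := T.isPGroup'.map _
      have hXr : ∀ c : G, ¬ Cfsg.PRankLE p (k - 1) ↥(X.map (MulAut.conj c).toMonoidHom) := by
        intro c hc
        set f : (T : Subgroup D) →* ↥(X.map (MulAut.conj c).toMonoidHom) :=
          ((MulAut.conj c).toMonoidHom.comp (D.subtype.comp (T : Subgroup D).subtype)).codRestrict _
            fun a => ⟨_, ⟨a.1, a.2, rfl⟩, rfl⟩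
        have hf : Function.Injective f := fun a b h =>
          Subtype.ext (Subtype.ext ((MulAut.conj c).injective (congrArg Subtype.val h)))
        refine hAc ?_
        have h := hc ((A.subgroupOf (T : Subgroup D)).map f) ⟨⟨fun a b => ?_⟩⟩ ?_
        · rwa [← Nat.card_congr ((A.subgroupOf (T : Subgroup D)).equivMapOfInjective _ hf).toEquiv,
            Nat.card_congr (subgroupOfEquivOfLe hT).toEquiv] at h
        · obtain ⟨⟨_, a, ha, rfl⟩, ⟨_, b, hb, rfl⟩⟩ := a, b
          exact Subtype.ext (by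
            show f a * f b = f b * f a
            rw [← map_mul, ← map_mul, show a * b = b * a from Subtype.ext
              ((congrArg Subtype.val (hA.is_comm.comm ⟨_, ha⟩ ⟨_, hb⟩)) :)])
        · rintro _ ⟨a, ha, rfl⟩
          rw [← map_pow, show a ^ p = 1 from Subtype.ext (hAp _ ha), map_one]
      -- every conjugate of `X` inside `H` has its normaliser in `H`
      have hall : ∀ c : G, X.map (MulAut.conj c).toMonoidHom ≤ H →
          normalizer ((X.map (MulAut.conj c).toMonoidHom : Subgroup G) : Set G) ≤ H := by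
        intro c hcH n hn
        set Y := X.map (MulAut.conj c).toMonoidHom with hY
        obtain ⟨R, hR⟩ := ((hXp.map _).of_equiv (subgroupOfEquivOfLe hcH).symm).exists_le_sylow
        obtain ⟨h, hh⟩ := MulAction.exists_smul_eq H R P
        have hle : X.map (MulAut.conj ((h : G) * c)).toMonoidHom ≤ (P : Subgroup H).map H.subtype := by
          rintro _ ⟨x, hx, rfl⟩
          have hy : c * x * c⁻¹ ∈ Y := ⟨x, hx, rfl⟩
          refine ⟨h * ⟨_, hcH hy⟩ * h⁻¹, ?_, ?_⟩
          · rw [← hh, Sylow.coe_subgroup_smul]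
            exact ⟨_, hR hy, rfl⟩
          · show (h : G) * (c * x * c⁻¹) * (h : G)⁻¹ = (h : G) * c * x * ((h : G) * c)⁻¹
            group
        have hmem : ∀ z : G, z ∈ X.map (MulAut.conj ((h : G) * c)).toMonoidHom ↔ (h : G)⁻¹ * z * h ∈ Y := fun z => by
          rw [hY, mem_conj_iff, mem_conj_iff,
            show ((h : G) * c)⁻¹ * z * ((h : G) * c) = c⁻¹ * ((h : G)⁻¹ * z * h) * c by group]
        have h1 : (h : G) * n * (h : G)⁻¹ ∈ H := hN _ hle (hXr _) (mem_normalizer_iff.2 fun z => by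
          rw [hmem, hmem,
            show (h : G)⁻¹ * ((h : G) * n * (h : G)⁻¹ * z * ((h : G) * n * (h : G)⁻¹)⁻¹) * h =
              n * ((h : G)⁻¹ * z * h) * n⁻¹ by group]
          exact mem_normalizer_iff.1 hn _)
        simpa [mul_assoc] using mul_mem (mul_mem (inv_mem h.2) h1) h.2
      have hXH : X ≤ H := hXD.trans inf_le_left
      have hX' : X.map (MulAut.conj g⁻¹).toMonoidHom ≤ H := by
        rintro _ ⟨x, hx, rfl⟩
        have := mem_conj_iff.1 (mem_inf.1 (hXD hx)).2
        show g⁻¹ * x * g⁻¹⁻¹ ∈ H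
        rwa [inv_inv]
      have hN1 : normalizer (X : Set G) ≤ H := by
        have := hall 1
        rw [map_one, show ((1 : MulAut G).toMonoidHom) = MonoidHom.id G from rfl, map_id] at this
        exact this hXH
      have hN2 : normalizer (X : Set G) ≤ H.map (MulAut.conj g).toMonoidHom := by
        intro n hn
        rw [mem_conj_iff]
        refine hall _ hX' ?_
        have hmem : ∀ z : G, z ∈ X.map (MulAut.conj g⁻¹).toMonoidHom ↔ g * z * g⁻¹ ∈ X := fun z => by
          rw [mem_conj_iff, inv_inv]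
        refine mem_normalizer_iff.2 fun z => ?_
        rw [hmem, hmem, show g * (g⁻¹ * n * g * z * (g⁻¹ * n * g)⁻¹) * g⁻¹ = n * (g * z * g⁻¹) * n⁻¹ by group]
        exact mem_normalizer_iff.1 hn _
      obtain ⟨Q, hQ⟩ := sylow_of_normalizer_le hXp D hXD (fun Y hY hXY hYK => by
        have h1 : (T : Subgroup D) ≤ Y.subgroupOf D := fun w hw => hXY (mem_map_of_mem _ hw)
        have h2 := T.is_maximal' (hY.of_equiv (subgroupOfEquivOfLe hYK).symm) h1
        rw [hXdef, ← h2, map_subgroupOf_eq_of_le hYK]) (le_inf hN1 hN2)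
      obtain ⟨h, hh⟩ := MulAction.exists_smul_eq H (Q.subtype (hQ.le.trans hXH))
        ((g⁻¹ • Q).subtype (by rw [Sylow.coe_subgroup_smul, hQ]; exact hX'))
      have hgh : g * (h : G) ∈ normalizer (X : Set G) := by
        have hto : ∀ z ∈ X, g * (h : G) * z * (g * (h : G))⁻¹ ∈ X := by
          intro z hz
          have hzQ : (⟨z, hXH hz⟩ : H) ∈ (Q.subtype (hQ.le.trans hXH) : Subgroup H) := by
            show z ∈ (Q : Subgroup G); rw [hQ]; exact hz
          have h3 : h * ⟨z, hXH hz⟩ * h⁻¹ ∈ (((g⁻¹ • Q).subtype (show ((g⁻¹ • Q : Sylow p G) : Subgroup G) ≤ H by rw [Sylow.coe_subgroup_smul, hQ]; exact hX') : Sylow p H) : Subgroup H) := by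
            rw [← hh, Sylow.coe_subgroup_smul]; exact ⟨_, hzQ, rfl⟩
          have h4 : (h : G) * z * (h : G)⁻¹ ∈ ((g⁻¹ • Q : Sylow p G) : Subgroup G) := h3
          rw [Sylow.coe_subgroup_smul, hQ] at h4
          obtain ⟨x, hx, hxe⟩ := h4
          have hxe' : g⁻¹ * x * g⁻¹⁻¹ = (h : G) * z * (h : G)⁻¹ := hxe
          rw [show g * (h : G) * z * (g * (h : G))⁻¹ = g * ((h : G) * z * (h : G)⁻¹) * g⁻¹ by group, ← hxe',
            show g * (g⁻¹ * x * g⁻¹⁻¹) * g⁻¹ = x by group]
          exact hx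
        exact mem_normalizer_fintype hto
      exact hg ((mul_mem_cancel_right h.2).1 (hN1 hgh))
    · intro hD X hX hXr n hn
      by_contra hnH
      refine hXr (mono X _ (le_inf (hX.trans (map_subtype_le _)) fun x hx => ?_) (hD n hnH))
      rw [mem_conj_iff]
      exact map_subtype_le _ (hX (by simpa [mul_assoc] using ((mem_normalizer_iff.1 hn (n⁻¹ * x * n)).2 (by
        rwa [show n * (n⁻¹ * x * n) * n⁻¹ = x by group]))))

end Cfsg.Agent.S1231
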