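import Cfsg.Statements.S1236
import Cfsg.Agent.PGroups.QuasiDihedral

set_option autoImplicit false
open Cfsg

namespace Cfsg.Agent.S1236

theorem card_comap {R : Type*} [Group R] [Finite R] (Z : Subgroup R) [Z.Normal] (K : Subgroup (R ⧸ Z)) :
    Nat.card (K.comap (QuotientGroup.mk' Z)) = Nat.card K * Nat.card Z := by
  have h1 := Subgroup.index_comap_of_surjective K (QuotientGroup.mk'_surjective Z)
  have h2 := (K.comap (QuotientGroup.mk' Z)).card_mul_index
  have h3 := K.card_mul_index
  rw [h1] at h2
  refine Nat.eq_of_mul_eq_mul_right (Nat.pos_of_ne_zero K.index_ne_zero_of_finite) ?_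
  rw [h2, mul_right_comm, h3, ← Subgroup.card_eq_card_quotient_mul_card_subgroup]

theorem two_torsion_le {m : ℕ} [NeZero m] (s : Finset (ZMod m)) (hs : ∀ i ∈ s, i + i = 0) : s.card ≤ 2 := by
  classical
  refine le_trans (Finset.card_le_card (t := ({0, ((m / 2 : ℕ) : ZMod m)} : Finset (ZMod m))) fun i hi => ?_) Finset.card_le_two
  have h := hs i hi
  have hlt := ZMod.val_lt i
  have h' : (((i.val + i.val : ℕ) : ZMod m)) = 0 := by rw [Nat.cast_add, ZMod.natCast_zmod_val]; exact h
  rw [ZMod.natCast_eq_zero_iff] at h'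
  rw [Finset.mem_insert, Finset.mem_singleton]
  obtain ⟨c, hc⟩ := h'
  rcases Nat.lt_or_ge c 1 with hc0 | hc1
  · left
    rw [← ZMod.natCast_zmod_val i, show i.val = 0 by nlinarith, Nat.cast_zero]
  · right
    have hc2 : c = 1 := by nlinarith
    rw [← ZMod.natCast_zmod_val i, show i.val = m / 2 by subst hc2; omega]

theorem exists_small_centralizer (Q : Type*) [Group Q] [Finite Q]
    (hq : (∃ m : ℕ, 2 ≤ m ∧ Nonempty (Q ≃* DihedralGroup m)) ∨ Cfsg.IsQuasiDihedral Q) (V : Subgroup Q)
    (hV : Nat.card V = 4) (hVe : ∀ v ∈ V, v * v = 1) :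
    ∃ v ∈ V, Nat.card (Subgroup.centralizer ({v} : Set Q)) ≤ 4 := by
  classical
  rcases hq with ⟨m, hm, ⟨e⟩⟩ | hq
  · haveI : NeZero m := ⟨by omega⟩
    obtain ⟨v, hv, j, hj⟩ : ∃ v ∈ V, ∃ j, e v = DihedralGroup.sr j := by
      by_contra hno
      push Not at hno
      haveI := Fintype.ofFinite V
      have hrot : ∀ v : V, ∃ i, e v.1 = DihedralGroup.r i := fun v => by
        rcases hv : e v.1 with i | i
        · exact ⟨i, rfl⟩
        · exact absurd hv (hno v.1 v.2 i)
      choose g hg using hrot
      have hinj : Function.Injective g := fun a b h => Subtype.ext (e.injective (by rw [hg, hg, h]))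
      have := two_torsion_le (Finset.univ.image g) (fun i hi => by
        obtain ⟨a, -, rfl⟩ := Finset.mem_image.1 hi
        have h1 : e (a.1 * a.1) = DihedralGroup.r (g a + g a) := by rw [map_mul, hg, DihedralGroup.r_mul_r]
        rw [hVe _ a.2, map_one, DihedralGroup.one_def] at h1
        exact (DihedralGroup.r.inj h1).symm)
      rw [Finset.card_image_of_injective _ hinj, Finset.card_univ, ← Nat.card_eq_fintype_card, hV] at this
      omega
    refine ⟨v, hv, ?_⟩
    set T := (Finset.univ : Finset (ZMod m)).filter (fun i => i + i = 0)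
    have hT : T.card ≤ 2 := two_torsion_le T (fun i hi => (Finset.mem_filter.1 hi).2)
    let F : Subgroup.centralizer ({v} : Set Q) → T × Bool := fun c => match hc : e c.1 with
      | .r i => (⟨i, by
          have h := congrArg e (Subgroup.mem_centralizer_singleton_iff.1 c.2)
          rw [map_mul, map_mul, hj, hc, DihedralGroup.r_mul_sr, DihedralGroup.sr_mul_r] at h
          have h' := DihedralGroup.sr.inj h
          refine Finset.mem_filter.2 ⟨Finset.mem_univ _, ?_⟩
          calc i + i = (j + i) - (j - i) := by abel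
            _ = 0 := by rw [← h', sub_self]⟩, false)
      | .sr i => (⟨i - j, by
          have h := congrArg e (Subgroup.mem_centralizer_singleton_iff.1 c.2)
          rw [map_mul, map_mul, hj, hc, DihedralGroup.sr_mul_sr, DihedralGroup.sr_mul_sr] at h
          have h' := DihedralGroup.r.inj h
          refine Finset.mem_filter.2 ⟨Finset.mem_univ _, ?_⟩
          calc i - j + (i - j) = (i - j) - (j - i) := by abel
            _ = 0 := by rw [h', sub_self]⟩, true)
    have hF : ∀ c, e c.1 = (if (F c).2 then DihedralGroup.sr ((F c).1.1 + j) else DihedralGroup.r (F c).1.1) := by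
      intro c
      simp only [F]
      split <;> rename_i i hc <;> simp [hc]
    have hFi : Function.Injective F := fun a b h => Subtype.ext (e.injective (by rw [hF, hF, h]))
    calc Nat.card (Subgroup.centralizer ({v} : Set Q)) ≤ Nat.card (T × Bool) := Nat.card_le_card_of_injective F hFi
      _ ≤ 4 := by rw [Nat.card_prod, Nat.card_eq_fintype_card, Nat.card_eq_fintype_card, Fintype.card_coe, Fintype.card_bool]; omega
  · obtain ⟨m, a, b, h⟩ := Cfsg.Lib.QD.exists_gen hq
    set z := a ^ ((2 : ℤ) ^ (m - 1))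
    obtain ⟨v, hv, hv1, hvz⟩ : ∃ v ∈ V, v ≠ 1 ∧ v ≠ z := by
      by_contra hno
      push Not at hno
      haveI := Fintype.ofFinite V
      have : (Finset.univ : Finset V).image Subtype.val ⊆ {1, z} := by
        intro w hw
        obtain ⟨u, -, rfl⟩ := Finset.mem_image.1 hw
        simp only [Finset.mem_insert, Finset.mem_singleton]
        exact or_iff_not_imp_left.2 (hno u.1 u.2)
      have h2 := (Finset.card_le_card this).trans Finset.card_le_two
      rw [Finset.card_image_of_injective _ Subtype.val_injective, Finset.card_univ, ← Nat.card_eq_fintype_card, hV] at h2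
      omega
    refine ⟨v, hv, ?_⟩
    have hvo : orderOf v = 2 := orderOf_eq_prime (by rw [sq, hVe v hv]) hv1
    rcases Cfsg.Lib.QD.order_two_cases h hvo with e | ⟨t, e⟩
    · exact absurd e hvz
    · rw [e]
      exact (Cfsg.Lib.QD.centralizer_b (Cfsg.Lib.QD.replace_b h t)).2.1.le


/-- Let R be a finite group, t a central involution of R such that R ⧸ ⟨t⟩ is dihedral (of order ≥ 4) or quasi-dihedral, and A ≤ R an elementary abelian subgroup of order 8 containing t. Then C_R(A) = A. -/
theorem result {R : Type*} [Group R] [Finite R] (t : R) (ht : orderOf t = 2) (htz : t ∈ Subgroup.center R) [(Subgroup.zpowers t).Normal] (hq : (∃ m : ℕ, 2 ≤ m ∧ Nonempty (R ⧸ Subgroup.zpowers t ≃* DihedralGroup m)) ∨ Cfsg.IsQuasiDihedral (R ⧸ Subgroup.zpowers t)) (A : Subgroup R) (hA : Cfsg.IsElementaryAbelian 2 A) (hA8 : Nat.card A = 8) (htA : t ∈ A) : Subgroup.centralizer (A : Set R) = A := by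
  refine le_antisymm ?_ fun a ha => Subgroup.mem_centralizer_iff.2 fun b hb =>
    congrArg Subtype.val (hA.1.is_comm.comm ⟨b, hb⟩ ⟨a, ha⟩)
  set Z := Subgroup.zpowers t with hZdef
  set f := QuotientGroup.mk' Z with hf
  have hZ2 : Nat.card Z = 2 := by rw [hZdef, Nat.card_zpowers, ht]
  have hZA : Z ≤ A := Subgroup.zpowers_le.2 htA
  have hAc : Nat.card (A.map f) = 4 := by
    have h1 : (A.map f).comap f = A := by
      rw [Subgroup.comap_map_eq, hf, QuotientGroup.ker_mk', sup_eq_left.2 hZA]
    have h2 := card_comap Z (A.map f)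
    rw [← hf, h1, hA8, hZ2] at h2
    omega
  have hVe : ∀ v ∈ A.map f, v * v = 1 := by
    rintro _ ⟨a, ha, rfl⟩
    rw [← map_mul, ← sq, hA.2 a ha, map_one]
  obtain ⟨v, hv, hvc⟩ := exists_small_centralizer _ hq (A.map f) hAc hVe
  have hle : Subgroup.centralizer (A : Set R) ≤ (Subgroup.centralizer ({v} : Set (R ⧸ Z))).comap f := by
    obtain ⟨a, ha, rfl⟩ := hv
    intro c hc
    rw [Subgroup.mem_comap, Subgroup.mem_centralizer_singleton_iff, ← map_mul, ← map_mul, hc a ha]
  have h2 := card_comap Z (Subgroup.centralizer ({v} : Set (R ⧸ Z)))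
  rw [← hf, hZ2] at h2
  have hAC : A ≤ Subgroup.centralizer (A : Set R) := fun a ha => Subgroup.mem_centralizer_iff.2 fun b hb =>
    congrArg Subtype.val (hA.1.is_comm.comm ⟨b, hb⟩ ⟨a, ha⟩)
  exact (Subgroup.eq_of_le_of_card_ge hAC (((Subgroup.card_le_of_le hle).trans_eq h2).trans ((Nat.mul_le_mul_right 2 hvc).trans hA8.ge))).ge

end Cfsg.Agent.S1236
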