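import Cfsg.Statements.S1239
import Cfsg.Agent.Wreathed.IsolatedCenter
import Cfsg.Agent.PGroups.QuasiDihedral

set_option autoImplicit false
open Cfsg

namespace Cfsg.Agent.S1239

/-- Let X be a finite group whose Sylow 2-subgroup S is quasi-dihedral or wreathed, and suppose some involution of S is isolated in X. Then the product of the largest normal odd-order subgroup O(X) with the centre of S is normal in X. -/
theorem result {X : Type*} [Group X] [Finite X] (S : Sylow 2 X) (hS : Cfsg.IsQuasiDihedral (S : Subgroup X) ∨ Cfsg.IsWreathed (S : Subgroup X)) (z : X) (hzS : z ∈ S) (hz : Cfsg.IsIsolatedInvolution z) : (Cfsg.oddCore X ⊔ (Subgroup.center (S : Subgroup X)).map (S : Subgroup X).subtype).Normal := by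
  haveI : Fact (Nat.Prime 2) := ⟨Nat.prime_two⟩
  set O := Cfsg.pPrimeCore 2 X with hO
  set Z := (Subgroup.center (S : Subgroup X)).map (S : Subgroup X).subtype with hZ
  suffices hcomm : ∀ u ∈ Z, ∀ g : X, g * u * g⁻¹ * u⁻¹ ∈ O by
    refine ⟨fun x hx g => ?_⟩
    have h : (O ⊔ Z).map (MulAut.conj g).toMonoidHom ≤ O ⊔ Z := by
      rw [Subgroup.map_sup, sup_le_iff]
      refine ⟨?_, ?_⟩
      · rintro _ ⟨o, ho, rfl⟩
        have hn : O.Normal := inferInstance
        exact Subgroup.mem_sup_left (hn.conj_mem o ho g)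
      · rintro _ ⟨u, hu, rfl⟩
        show g * u * g⁻¹ ∈ O ⊔ Z
        rw [show g * u * g⁻¹ = g * u * g⁻¹ * u⁻¹ * u by group]
        exact Subgroup.mul_mem_sup (hcomm u hu g) hu
    exact h ⟨x, hx, rfl⟩
  have hzc : ∀ s ∈ (S : Subgroup X), z * s = s * z := by
    intro s hs
    have h1 := Cfsg.Lib.ZStarApps.zstarProp hz s
    have hzS' : z * s * z⁻¹ * s⁻¹ ∈ (S : Subgroup X) :=
      mul_mem (mul_mem (mul_mem hzS hs) (inv_mem hzS)) (inv_mem hs)
    obtain ⟨k, hk⟩ := IsPGroup.iff_card.mp S.isPGroup'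
    have h3 : O ⊓ (S : Subgroup X) = ⊥ := Subgroup.inf_eq_bot_of_coprime (by
      rw [hk]
      exact (Cfsg.Lib.Components.coprime_card_pPrimeCore 2).pow_right k)
    have h4 : z * s * z⁻¹ * s⁻¹ = 1 := Subgroup.mem_bot.mp (h3 ▸ ⟨h1, hzS'⟩)
    exact mul_inv_eq_iff_eq_mul.mp (mul_inv_eq_one.mp h4)
  rcases hS with hq | hw
  · -- quasi-dihedral: the centre is generated by `z`
    obtain ⟨m, a, b, hab⟩ := Cfsg.Lib.QD.exists_gen hq
    set z₀ := a ^ ((2 : ℤ) ^ (m - 1)) with hz₀
    have hab' : ¬ Commute a b := by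
      intro hc
      rcases (Cfsg.Lib.QD.zpow_comm_b_iff hab 1).mp (by rw [zpow_one]; exact hc.symm.eq) with h | h
      · rw [zpow_one] at h
        have := Cfsg.Lib.QD.orderOf_z hab
        rw [h, one_zpow, orderOf_one] at this
        omega
      · rw [zpow_one] at h
        have h2 := Cfsg.Lib.QD.orderOf_w hab
        have h3 := Cfsg.Lib.QD.orderOf_z hab
        rw [← h] at h3
        have h4 := orderOf_dvd_of_mem_zpowers (show a ^ ((2 : ℤ) ^ (m - 2)) ∈ Subgroup.zpowers a from
          ⟨_, rfl⟩)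
        rw [h2, h3] at h4
        norm_num at h4
    have hcen : ∀ u ∈ Subgroup.center (S : Subgroup X), u = 1 ∨ u = z₀ := by
      intro u hu
      have hub : u ∈ Subgroup.centralizer ({b} : Set (S : Subgroup X)) :=
        Subgroup.mem_centralizer_singleton_iff.mpr (Subgroup.mem_center_iff.mp hu b).symm
      have hua : Commute a u := Subgroup.mem_center_iff.mp hu a
      rcases ((Cfsg.Lib.QD.centralizer_b hab).1 u).mp hub with h | h | h | h
      · exact Or.inl h
      · exact Or.inr h
      · exact absurd (h ▸ hua) hab'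
      · refine absurd ?_ hab'
        have h1 : Commute a z₀ := (Commute.refl a).zpow_right _
        have h2 : Commute a (z₀⁻¹ * u) := h1.inv_right.mul_right hua
        rw [h, inv_mul_cancel_left] at h2
        exact h2
    have hz0 : (⟨z, hzS⟩ : (S : Subgroup X)) = z₀ := by
      rcases hcen ⟨z, hzS⟩ (Subgroup.mem_center_iff.mpr fun s => Subtype.ext (hzc s s.2).symm) with h | h
      · exfalso
        have h' : z = 1 := congrArg Subtype.val h
        have := hz.1
        rw [h', orderOf_one] at this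
        omega
      · exact h
    rintro _ ⟨u, hu, rfl⟩ g
    rcases hcen u hu with h | h
    · simp [h]
    · rw [h, ← hz0]
      show g * z * g⁻¹ * z⁻¹ ∈ O
      have := inv_mem (Cfsg.Lib.ZStarApps.zstarProp hz g)
      rwa [mul_inv_rev, mul_inv_rev, mul_inv_rev, inv_inv, inv_inv, ← mul_assoc, ← mul_assoc] at this
  · -- wreathed
    obtain ⟨n, hn, -, ⟨e⟩⟩ := Cfsg.Lib.Wreathed.exists_equiv hw
    have hze := Cfsg.Lib.Wreathed.isolated_eq S hn e hz hzS
    rw [hze] at hz
    rintro _ ⟨u, hu, rfl⟩ g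
    obtain ⟨p, rfl⟩ := e.surjective u
    have hp : p ∈ Subgroup.center (Cfsg.Lib.Wreathed.Wr n) := Subgroup.mem_center_iff.mpr fun q =>
      e.injective (by rw [map_mul, map_mul]; exact Subgroup.mem_center_iff.mp hu (e q))
    exact Cfsg.Lib.ZStarApps.central_of_isolated2 (2 * n + 1) (Cfsg.Lib.Wreathed.emb S e p)
      (by
        rw [orderOf_injective _ (Cfsg.Lib.Wreathed.emb_injective S e), ← Cfsg.Lib.Wreathed.Wr.card_eq]
        exact orderOf_dvd_natCard p)
      ⟨S, Cfsg.Lib.Wreathed.emb_mem S e p,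
        fun g hg => Cfsg.Lib.Wreathed.conj_center_eq S hn e hz hp hg⟩ g

end Cfsg.Agent.S1239
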