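import Cfsg.Statements.S1245
import Cfsg.Agent.AbCentMax.Final

set_option autoImplicit false
open Cfsg

namespace Cfsg.Agent.S1245

/-- Let G be a non-abelian finite simple group with commutative Sylow 2-subgroups, and t an involution whose centralizer is the internal direct product of ⟨t⟩ and a subgroup E which has a normal subgroup E₀ ≅ PSL(2,F), |F| odd, with C_E(E₀) = 1 (so PSL(2,q) ≤ E ≤ Aut PSL(2,q)). Then C_G(t) is a maximal subgroup of G. -/
theorem result {G : Type*} [Group G] [Finite G] [IsSimpleGroup G] (hna : ¬ IsMulCommutative G) (S : Sylow 2 G) (hS : IsMulCommutative (S : Subgroup G)) (t : G) (ht : orderOf t = 2) (E E₀ : Subgroup G) (hprod : Cfsg.IsInternalDirectProduct (Subgroup.zpowers t) E (Subgroup.centralizer ({t} : Set G))) (hE₀E : E₀ ≤ E) (hE₀n : (E₀.subgroupOf E).Normal) (hE₀ : ∃ (F : Type) (_ : Field F) (_ : Fintype F), Odd (Fintype.card F) ∧ Nonempty (E₀ ≃* Matrix.ProjectiveSpecialLinearGroup (Fin 2) F)) (hCE : E ⊓ Subgroup.centralizer (E₀ : Set G) = ⊥) : IsCoatom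 (Subgroup.centralizer ({t} : Set G)) := by
  haveI : Fact (Nat.Prime 2) := ⟨Nat.prime_two⟩
  obtain ⟨F, iF, iFF, hodd, hiso⟩ := hE₀
  letI := iF
  letI := iFF
  obtain ⟨-, -, hcomm, hdisj, hsup⟩ := hprod
  have htt : t * t = 1 := by rw [← pow_two, ← ht, pow_orderOf_eq_one]
  have hcE : ∀ e ∈ E, Commute t e := fun e he => hcomm t (Subgroup.mem_zpowers t) e he
  have hnorm : Subgroup.zpowers t ≤ Subgroup.normalizer (E : Set G) :=
    le_trans (Subgroup.zpowers_le.2 (Subgroup.mem_centralizer_iff.2 fun x hx => ((hcE x hx).symm).eq))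
      (Subgroup.centralizer_le_normalizer _)
  have h : Cfsg.Lib.AbCentMax.Hyp t E E₀ F :=
    { ord := ht
      comm := hcE
      split := fun x hx => by
        have hx' : x ∈ ((Subgroup.zpowers t ⊔ E : Subgroup G) : Set G) := by
          rw [hsup]
          exact Subgroup.mem_centralizer_singleton_iff.2 hx.eq
        rw [Subgroup.coe_mul_of_left_le_normalizer_right _ _ hnorm] at hx'
        obtain ⟨_, ⟨i, rfl⟩, e, he, rfl⟩ := hx'
        refine ⟨e, he, ?_⟩
        rcases Int.even_or_odd' i with ⟨k, rfl | rfl⟩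
        · left; simp [zpow_mul, zpow_two, pow_two, htt]
        · right; simp [zpow_add, zpow_mul, zpow_two, pow_two, htt]
      disj := fun hm => by
        have : t = 1 := Subgroup.mem_bot.1 (hdisj ▸ Subgroup.mem_inf.2 ⟨Subgroup.mem_zpowers t, hm⟩)
        rw [this, orderOf_one] at ht
        exact absurd ht (by norm_num)
      le := hE₀E
      norm := fun e he x hx => by
        have := hE₀n.conj_mem ⟨x, hE₀E hx⟩ (Subgroup.mem_subgroupOf.2 hx) ⟨e, he⟩
        simpa [Subgroup.mem_subgroupOf] using this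
      faith := fun e he hc => Subgroup.mem_bot.1 (hCE ▸ Subgroup.mem_inf.2
        ⟨he, Subgroup.mem_centralizer_iff.2 fun x hx => ((hc x hx).symm).eq⟩)
      odd := hodd
      iso := hiso }
  refine Cfsg.Lib.AbCentMax.centralizer_isCoatom hna h fun P => ?_
  haveI := hS
  exact ⟨⟨fun x y => (S.equiv P).symm.injective (by rw [map_mul, map_mul, mul_comm'])⟩⟩

end Cfsg.Agent.S1245
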