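import Cfsg.Statements.S1246
import Cfsg.Agent.Components.CharP


set_option autoImplicit false
open Cfsg

namespace Cfsg.Agent.S1246

/-- Let V ≤ U be p-subgroups of the finite group G. If the generalized Fitting subgroup of C_G(V) is a p-group, then so is that of C_G(U). -/
theorem result {G : Type*} [Group G] [Finite G] {p : ℕ} [Fact p.Prime] (U V : Subgroup G) (hVU : V ≤ U) (hU : IsPGroup p U) (hV : IsPGroup p ↥(Cfsg.generalizedFittingSubgroup ↥(Subgroup.centralizer (V : Set G)))) : IsPGroup p ↥(Cfsg.generalizedFittingSubgroup ↥(Subgroup.centralizer (U : Set G))) := by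
  classical
  have hiff : ∀ K : Subgroup G, IsPGroup p ↥(Cfsg.generalizedFittingSubgroup ↥K) ↔
      Cfsg.Lib.Components.CharPGroup p ↥K := by
    intro K
    rw [Cfsg.Lib.Components.charP_iff_genFitting]
    haveI : (Cfsg.generalizedFittingSubgroup ↥K).Normal := by
      unfold Cfsg.generalizedFittingSubgroup
      infer_instance
    constructor
    · intro h
      refine le_antisymm (Cfsg.Lib.Components.le_pCore h) ?_
      exact (Cfsg.Lib.Components.le_fitting
        (Cfsg.Lib.Components.isPGroup_pCore p).isNilpotent).trans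
        Cfsg.Lib.Components.fitting_le_genFitting
    · intro h
      rw [h]
      exact Cfsg.Lib.Components.isPGroup_pCore p
  rw [hiff] at hV ⊢
  revert hVU hU
  induction U using WellFoundedLT.induction with
  | _ U ih =>
    intro hVU hU
    by_cases hUV : U = V
    · subst hUV; exact hV
    obtain ⟨M, hVM, hM⟩ := Finite.exists_le_maximal (α := Subgroup G)
      (p := fun M => V ≤ M ∧ M < U) ⟨le_rfl, lt_of_le_of_ne hVU (Ne.symm hUV)⟩
    obtain ⟨⟨hVM', hMU⟩, hmax⟩ := hM
    have hUn : U ≤ Subgroup.normalizer (M : Set G) := by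
      haveI : (⊤ : Subgroup ↥U).Normal := inferInstance
      haveI := hU.isNilpotent
      have hlt : M.subgroupOf U < ⊤ := by
        rw [lt_top_iff_ne_top, ne_eq, Subgroup.subgroupOf_eq_top]
        exact fun h => absurd (le_antisymm hMU.le h) hMU.ne
      have hgt := Group.normalizerCondition_of_isNilpotent (M.subgroupOf U) hlt
      obtain ⟨x, hx, hxM⟩ := SetLike.exists_of_lt hgt
      have hxn : (x : G) ∈ Subgroup.normalizer (M : Set G) := by
        rw [Subgroup.mem_normalizer_iff]
        intro m
        constructor
        · intro hm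
          exact (Subgroup.mem_normalizer_iff.1 hx ⟨m, hMU.le hm⟩).1 hm
        · intro hm
          have hmU : m ∈ U := by
            have h := U.mul_mem (U.mul_mem (U.inv_mem x.2) (hMU.le hm)) x.2
            simpa [mul_assoc] using h
          exact (Subgroup.mem_normalizer_iff.1 hx ⟨m, hmU⟩).2 hm
      by_contra hnot
      have hN : V ≤ U ⊓ Subgroup.normalizer (M : Set G) ∧
          U ⊓ Subgroup.normalizer (M : Set G) < U :=
        ⟨hVM'.trans (le_inf hMU.le Subgroup.le_normalizer),
          lt_of_le_of_ne inf_le_left fun h => hnot (inf_eq_left.1 h)⟩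
      exact hxM (hmax hN (le_inf hMU.le Subgroup.le_normalizer) ⟨x.2, hxn⟩)
    have hCM := ih M hMU hVM' (hU.to_le hMU.le)
    have hNM : Cfsg.Lib.Components.CharPGroup p ↥(Subgroup.normalizer (M : Set G)) := by
      refine Cfsg.Lib.Components.charP_of_centralizer_le
        (U := (Subgroup.centralizer (M : Set G)).subgroupOf _) ?_
        (Cfsg.Lib.Components.charP_congr
          (Subgroup.subgroupOfEquivOfLe (Subgroup.centralizer_le_normalizer (M : Set G))).symm hCM)
      intro x hx
      rw [Subgroup.mem_subgroupOf, Subgroup.mem_centralizer_iff]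
      intro c hc
      obtain ⟨c', hc', rfl⟩ := Cfsg.Lib.Components.pGroup_le_pCore_normalizer (hU.to_le hMU.le) hc
      exact congrArg Subtype.val (Subgroup.mem_centralizer_iff.1 hx c' hc')
    exact (Cfsg.Lib.Components.charP_normalizer_of_normal_in hU hMU.le hUn hNM).2

end Cfsg.Agent.S1246
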