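import Cfsg.Statements.S1247
import Cfsg.Agent.Components.GenFitting
import Cfsg.Agent.Components.Supplement
import Cfsg.Agent.Components.Cores
import Cfsg.Agent.Components.PxQ
import Cfsg.Agent.Components.LocalBalance
import Cfsg.Agent.Transfer.Basic

set_option autoImplicit false
set_option linter.style.haveILetI false
open Cfsg

namespace Cfsg.Agent.S1247

open Cfsg.Lib.Components
open scoped commutatorElement

variable {H : Type*} [Group H] [Finite H] {q : ℕ} [Fact q.Prime]

/-- Elements of order prime to `q` of the generalised Fitting subgroup avoid the `q`-core. -/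
theorem mem_of_coprime {K : Subgroup H} [K.Normal] (hL : Cfsg.layer H ≤ K)
    (hO : ∀ r : ℕ, r.Prime → r ≠ q → Cfsg.pCore r H ≤ K) {s : H}
    (hs : s ∈ Cfsg.generalizedFittingSubgroup H) (hcop : (orderOf s).Coprime q) : s ∈ K := by
  have hF : Cfsg.generalizedFittingSubgroup H ≤ K ⊔ Cfsg.pCore q H := by
    refine sup_le (hL.trans le_sup_left) ?_
    rw [fitting_eq_iSup_pCore]
    refine iSup_le fun r => ?_
    obtain ⟨r, hr⟩ := r
    rcases eq_or_ne r q with rfl | hne
    · exact le_sup_right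
    · exact (hO r hr hne).trans le_sup_left
  obtain ⟨k, hk, o, ho, rfl⟩ := Subgroup.mem_sup_of_normal_left.mp (hF hs)
  obtain ⟨i, hi⟩ := isPGroup_pCore q ⟨o, ho⟩
  have hoi : o ^ q ^ i = 1 := by simpa using congrArg Subtype.val hi
  rw [← QuotientGroup.eq_one_iff (N := K)]
  have e : ((k * o : H) : H ⧸ K) = (o : H ⧸ K) := by
    rw [QuotientGroup.mk_mul, (QuotientGroup.eq_one_iff k).mpr hk, one_mul]
  refine orderOf_eq_one_iff.mp (Nat.eq_one_of_dvd_coprimes (hcop.pow_right i)
    (orderOf_map_dvd (QuotientGroup.mk' K) _) ?_)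
  rw [e]
  exact orderOf_dvd_of_pow_eq_one (by rw [← QuotientGroup.mk_pow, hoi, QuotientGroup.mk_one])

/-- Cores are solvable. -/
theorem solv (r : ℕ) [Fact r.Prime] : Group.IsSolvable (Cfsg.pCore r H) := by
  haveI := (isPGroup_pCore (G := H) r).isNilpotent
  infer_instance

/-- Cores lie in the Fitting subgroup. -/
theorem core_le_fitting {r : ℕ} (hr : r.Prime) : Cfsg.pCore r H ≤ Cfsg.fittingSubgroup H := by
  rw [fitting_eq_iSup_pCore]
  exact le_iSup (fun r : {r : ℕ // r.Prime} => Cfsg.pCore r.1 H) ⟨r, hr⟩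

/-- An element acting coprimely on a `q`-group centralizes it once it centralizes the part inside
a subnormal subgroup containing it. -/
theorem centralize_of_subnormal {X : Subgroup H} (hX : IsPGroup q X) {s : H}
    (hcop : (orderOf s).Coprime q) (hsX : s ∈ Subgroup.normalizer (X : Set H))
    {U : Subgroup H} (hU : U.IsSubnormal) (hsU : s ∈ U)
    (h : ∀ y ∈ X, y ∈ U → s * y = y * s) : ∀ y ∈ X, s * y = y * s := by
  induction hU with
  | top => exact fun y hy => h y hy (Subgroup.mem_top y)
  | step U K hle _ hN ih =>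
    refine ih (hle hsU) fun y hy hyK => ?_
    have hc : ⁅s, y⁆ ∈ X := by
      rw [commutatorElement_def]
      exact X.mul_mem ((Subgroup.mem_normalizer_iff.mp hsX y).mp hy) (X.inv_mem hy)
    have hcU : ⁅s, y⁆ ∈ U := by
      rw [commutatorElement_def, show s * y * s⁻¹ * y⁻¹ = s * (y * s⁻¹ * y⁻¹) by group]
      exact U.mul_mem hsU (hN.conj_mem ⟨s⁻¹, hle (U.inv_mem hsU)⟩ (U.inv_mem hsU) ⟨y, hyK⟩)
    refine centralize_of_commutator_fixed hX hcop hsX hy ?_
    rw [h _ hc hcU, mul_inv_cancel_right]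

/-- The `r`-elements of the Fitting subgroup lie in the `r`-core. -/
theorem mem_pCore_of_fitting {r : ℕ} [Fact r.Prime] (a : H) (ha : a ∈ Cfsg.fittingSubgroup H)
    (hk : ∃ k : ℕ, orderOf a = r ^ k) : a ∈ Cfsg.pCore r H := by
  obtain ⟨k, hk⟩ := hk
  haveI := isNilpotent_fitting (G := H)
  set a' : Cfsg.fittingSubgroup H := ⟨a, ha⟩
  have hp : IsPGroup r (Subgroup.zpowers a') := IsPGroup.of_card (n := k) (by
    rw [Nat.card_zpowers, Subgroup.orderOf_mk, hk])
  obtain ⟨P, hP⟩ := hp.exists_le_sylow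
  haveI : (P : Subgroup (Cfsg.fittingSubgroup H)).Normal :=
    P.normal_of_normalizerCondition Group.normalizerCondition_of_isNilpotent
  haveI := P.characteristic_of_normal inferInstance
  exact le_pCore (P.2.map (Cfsg.fittingSubgroup H).subtype)
    ⟨a', hP (Subgroup.mem_zpowers a'), rfl⟩

/-- The centre of a core is central in the generalised Fitting subgroup. -/
theorem center_pCore_comm {r : ℕ} [Fact r.Prime] {z : H}
    (hz : z ∈ (Subgroup.center (Cfsg.pCore r H)).map (Cfsg.pCore r H).subtype) :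
    ∀ g ∈ Cfsg.generalizedFittingSubgroup H, g * z = z * g := by
  obtain ⟨⟨z, hzO⟩, hzc, rfl⟩ := hz
  have hle : Cfsg.generalizedFittingSubgroup H ≤ Subgroup.centralizer ({z} : Set H) := by
    refine sup_le (fun g hg => ?_) ?_
    · exact Subgroup.mem_centralizer_singleton_iff.mpr
        (Subgroup.mem_centralizer_iff.mp (Subgroup.commutator_eq_bot_iff_le_centralizer.mp
          (layer_commute_solvable_normal (H := Cfsg.pCore r H)
            (solv r)) hg) z hzO).symm
    rw [fitting_eq_iSup_pCore]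
    refine iSup_le fun r' => ?_
    obtain ⟨r', hr'⟩ := r'
    intro g hg
    refine Subgroup.mem_centralizer_singleton_iff.mpr ?_
    haveI : Fact r'.Prime := ⟨hr'⟩
    rcases eq_or_ne r' r with rfl | hne
    · exact congrArg Subtype.val (Subgroup.mem_center_iff.mp hzc ⟨g, hg⟩)
    · exact (Subgroup.commute_of_normal_of_disjoint _ _ inferInstance inferInstance
        (IsPGroup.disjoint_of_ne r' r hne _ _ (isPGroup_pCore r') (isPGroup_pCore r))
          g z hg hzO).eq
  exact fun g hg => Subgroup.mem_centralizer_singleton_iff.mp (hle hg)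

/-- A `q`-group normalized by `S` centralizes the layer and the other cores. -/
theorem centralize_key {S X : Subgroup H} (hS : S.IsSubnormal)
    (hSF : S ≤ Cfsg.generalizedFittingSubgroup H)
    (hSC : Cfsg.generalizedFittingSubgroup H ⊓ Subgroup.centralizer (S : Set H) ≤ S)
    (hX : IsPGroup q X) (hXn : S ≤ Subgroup.normalizer (X : Set H)) :
    ∀ x ∈ X, (∀ z ∈ Cfsg.layer H, x * z = z * x) ∧
      ∀ r : ℕ, r.Prime → r ≠ q → ∀ z ∈ Cfsg.pCore r H, x * z = z * x := by
  have hLS : Cfsg.layer H ≤ S := sSup_le fun L hL => by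
    rcases comp_le_or_commute hL hS with h | h
    · exact h
    · refine (le_inf ((comp_le_layer hL).trans layer_le_genFitting) ?_).trans hSC
      exact Subgroup.commutator_eq_bot_iff_le_centralizer.mp h
  have hq : ∀ s ∈ S, (orderOf s).Coprime q → ∀ y ∈ X, s * y = y * s := by
    intro s hs hcop
    refine centralize_of_subnormal hX hcop (hXn hs) hS hs fun y hy hyS => ?_
    have hn : ((X ⊓ S).subgroupOf S).Normal :=
      Subgroup.normal_subgroupOf_of_le_normalizer fun g hg => Subgroup.mem_normalizer_iff.mpr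
        fun z => and_congr (Subgroup.mem_normalizer_iff.mp (hXn hg) z)
          ⟨fun hz => S.mul_mem (S.mul_mem hg hz) (S.inv_mem hg),
            fun hz => by
              have := S.mul_mem (S.mul_mem (S.inv_mem hg) hz) hg
              rwa [show g⁻¹ * (g * z * g⁻¹) * g = z by group] at this⟩
    have hyO : y ∈ Cfsg.pCore q H := le_pCore_of_subnormal
      (Subgroup.IsSubnormal.step _ S inf_le_right hS hn) (hX.to_le inf_le_left) ⟨hy, hyS⟩
    have hK : s ∈ Subgroup.centralizer ((Cfsg.pCore q H : Subgroup H) : Set H) := by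
      refine mem_of_coprime ?_ (fun r hr hne z hz => ?_) (hSF hs) hcop
      · exact Subgroup.commutator_eq_bot_iff_le_centralizer.mp
          (layer_commute_solvable_normal (solv q))
      · refine Subgroup.mem_centralizer_iff.mpr fun o ho => ?_
        haveI : Fact r.Prime := ⟨hr⟩
        exact (Subgroup.commute_of_normal_of_disjoint _ _ inferInstance inferInstance
          (IsPGroup.disjoint_of_ne q r hne.symm _ _ (isPGroup_pCore q) (isPGroup_pCore r)) o z ho
            hz).eq
    exact (Subgroup.mem_centralizer_iff.mp hK y hyO).symm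
  have hL : Cfsg.layer H ≤ Subgroup.centralizer (X : Set H) := by
    refine perfect_le_of_pPrime_elements (p := q) layer_perfect
      ((hLS.trans hXn).trans fun g hg => ?_) fun z hz hz' => ?_
    · exact normalizer_le_normalizer_centralizer' X hg
    · exact Subgroup.mem_centralizer_iff.mpr fun y hy => (hq z (hLS hz) hz' y hy).symm
  intro x hx
  refine ⟨fun z hz => Subgroup.mem_centralizer_iff.mp (hL hz) x hx, fun r hr hne z hz => ?_⟩
  haveI : Fact r.Prime := ⟨hr⟩
  set W := Cfsg.pCore r H
  have hWF : W ≤ Cfsg.generalizedFittingSubgroup H := by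
    exact (core_le_fitting hr).trans fitting_le_genFitting
  have hxcop : (orderOf x).Coprime r := by
    obtain ⟨k, hk⟩ := IsPGroup.iff_orderOf.mp hX ⟨x, hx⟩
    rw [Subgroup.orderOf_mk] at hk
    rw [hk]
    exact Nat.Coprime.pow_left k ((Nat.coprime_primes Fact.out hr).mpr hne.symm)
  have hWn : ∀ g : H, g ∈ Subgroup.normalizer (W : Set H) := fun g => by
    rw [Subgroup.normalizer_eq_top_iff.mpr inferInstance]; exact Subgroup.mem_top g
  have hKW : ∀ b ∈ Cfsg.generalizedFittingSubgroup H, (orderOf b).Coprime r →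
      b ∈ Subgroup.centralizer (W : Set H) := fun b hb hbcop => by
    refine mem_of_coprime ?_ (fun r' hr' hne' z' hz' => ?_) hb hbcop
    · exact Subgroup.commutator_eq_bot_iff_le_centralizer.mp
        (layer_commute_solvable_normal (solv r))
    · refine Subgroup.mem_centralizer_iff.mpr fun o ho => ?_
      haveI : Fact r'.Prime := ⟨hr'⟩
      exact (Subgroup.commute_of_normal_of_disjoint _ _ inferInstance inferInstance
        (IsPGroup.disjoint_of_ne r r' hne'.symm _ _ (isPGroup_pCore r) (isPGroup_pCore r'))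
          o z' ho hz').eq
  have hP : ({x} : Set H) ⊆ Subgroup.centralizer ((W ⊓ S : Subgroup H) : Set H) := by
    rintro _ rfl
    refine Subgroup.mem_centralizer_iff.mpr fun w hw => hq w hw.2 ?_ _ hx
    obtain ⟨k, hk⟩ := IsPGroup.iff_orderOf.mp (isPGroup_pCore r) ⟨w, hw.1⟩
    rw [Subgroup.orderOf_mk] at hk
    rw [hk]
    exact Nat.Coprime.pow_left k ((Nat.coprime_primes hr Fact.out).mpr hne)
  have hcen : W ⊓ Subgroup.centralizer ((W ⊓ S : Subgroup H) : Set H) ≤
      Subgroup.centralizer ({x} : Set H) := by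
    rintro y ⟨hyW, hyC⟩
    have hyS : y ∈ S := by
      refine hSC ⟨hWF hyW, Subgroup.mem_centralizer_iff.mpr fun g hg => ?_⟩
      obtain ⟨l, hl, n, hn, rfl⟩ := Subgroup.mem_sup_of_normal_left.mp (hSF hg)
      have hnS : n ∈ S := by
        simpa using S.mul_mem (S.inv_mem (hLS hl)) hg
      obtain ⟨a, b, ha, hb, hab, hak, hbcop⟩ := Cfsg.Lib.Transfer.exists_pPart r n
      have hla : l * y = y * l :=
        (Subgroup.mem_centralizer_iff.mp (Subgroup.commutator_eq_bot_iff_le_centralizer.mp
          (layer_commute_solvable_normal (H := W) (solv r))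
            hl) y hyW).symm
      have haW : a ∈ W ⊓ S :=
        ⟨mem_pCore_of_fitting a ((Subgroup.zpowers_le.mpr hn) ha) hak, (Subgroup.zpowers_le.mpr hnS) ha⟩
      have haC : a * y = y * a := Subgroup.mem_centralizer_iff.mp hyC a haW
      have hbC : b * y = y * b := (Subgroup.mem_centralizer_iff.mp
        (hKW b (fitting_le_genFitting ((Subgroup.zpowers_le.mpr hn) hb)) hbcop) y hyW).symm
      rw [← hab]
      exact (Commute.mul_left hla (Commute.mul_left haC hbC)).eq
    exact Subgroup.mem_centralizer_singleton_iff.mpr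
      ((Subgroup.mem_centralizer_iff.mp (hP rfl) y ⟨hyW, hyS⟩))
  have h := pxq_element (p := r) hxcop (P := W ⊓ S) ((isPGroup_pCore r).to_le inf_le_left)
    (hP rfl) W (isPGroup_pCore r) (fun g _ => hWn g) (hWn x) hcen hz
  exact (Subgroup.mem_centralizer_singleton_iff.mp h).symm

/-- Let G be a non-abelian finite simple group, A a maximal subgroup, F = F*(A) its generalized Fitting subgroup (viewed in G), and S ≤ F a subgroup subnormal in F with C_F(S) ≤ S. Let B be any subgroup of G containing S. Then (a) for every prime q not dividing |F(A)|, O_q(B) ∩ A = 1; and (b) for every prime p dividing |F(A)|, O_p(B) commutes elementwise with the subgroup of F generated by its elements of order prime to p. -/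
theorem result {G : Type*} [Group G] [Finite G] [IsSimpleGroup G] (hna : ¬ IsMulCommutative G) (A : Subgroup G) (hA : IsCoatom A) (S : Subgroup G) (hSF : S ≤ (Cfsg.generalizedFittingSubgroup ↥A).map A.subtype) (hSsn : (S.subgroupOf ((Cfsg.generalizedFittingSubgroup ↥A).map A.subtype)).IsSubnormal) (hSC : (Cfsg.generalizedFittingSubgroup ↥A).map A.subtype ⊓ Subgroup.centralizer (S : Set G) ≤ S) (B : Subgroup G) (hSB : S ≤ B) : (∀ q : ℕ, q.Prime → ¬ q ∣ Nat.card (Cfsg.fittingSubgroup ↥A) → (Cfsg.pCore q ↥B).map B.subtype ⊓ A = ⊥) ∧ (∀ p : ℕ, p.Prime → p ∣ Nat.card (Cfsg.fittingSubgroup ↥A) → ∀ x ∈ (Cfsg.pCore p ↥B).map B.subtype, ∀ y ∈ (Cfsg.pResidual p ↥(Cfsg.generalizedFittingSubgroup ↥A)).map ((Cfsg.generalizedFittingSubgroup ↥A).subtype) , x * (A.subtype y) = (A.subtype y) * x) := by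
  classical
  set F := (Cfsg.generalizedFittingSubgroup ↥A).map A.subtype with hF
  have hFA : F ≤ A := Subgroup.map_subtype_le _
  have hSA : S ≤ A := hSF.trans hFA
  haveI hgn : (Cfsg.generalizedFittingSubgroup ↥A).Normal := by
    unfold Cfsg.generalizedFittingSubgroup
    infer_instance
  set S' := S.subgroupOf A with hS'
  have hS'F : S' ≤ Cfsg.generalizedFittingSubgroup ↥A := fun s hs => by
    obtain ⟨z, hz, e⟩ := hSF hs
    exact (Subtype.ext e : z = s) ▸ hz
  have hS'C : Cfsg.generalizedFittingSubgroup ↥A ⊓ Subgroup.centralizer (S' : Set A) ≤ S' := by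
    rintro z ⟨hz, hzC⟩
    refine hSC ⟨⟨z, hz, rfl⟩, Subgroup.mem_centralizer_iff.mpr fun s hs => ?_⟩
    exact congrArg Subtype.val (Subgroup.mem_centralizer_iff.mp hzC ⟨s, hSA hs⟩ hs)
  have hS'sn : S'.IsSubnormal := by
    have h1 := isSubnormal_map_subtype (H := Cfsg.generalizedFittingSubgroup ↥A)
      hgn.isSubnormal
      (K := (S.subgroupOf F).map ((Cfsg.generalizedFittingSubgroup ↥A).equivMapOfInjective
        A.subtype A.subtype_injective).symm.toMonoidHom)
      (isSubnormal_conj hSsn _)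
    convert h1 using 1
    ext z
    constructor
    · intro hz
      refine ⟨⟨z, hS'F hz⟩, ?_, rfl⟩
      refine ⟨(Cfsg.generalizedFittingSubgroup ↥A).equivMapOfInjective
        A.subtype A.subtype_injective ⟨z, hS'F hz⟩, hz, ?_⟩
      exact MulEquiv.symm_apply_apply _ _
    · rintro ⟨_, ⟨v, hv, rfl⟩, rfl⟩
      obtain ⟨w, rfl⟩ := ((Cfsg.generalizedFittingSubgroup ↥A).equivMapOfInjective
        A.subtype A.subtype_injective).surjective v
      simp only [MulEquiv.coe_toMonoidHom, MulEquiv.symm_apply_apply]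
      exact hv
  have key : ∀ (q : ℕ) [Fact q.Prime] (X : Subgroup G), IsPGroup q X → X ≤ A →
      (∀ s ∈ S, ∀ x ∈ X, s * x * s⁻¹ ∈ X) → ∀ x (hx : x ∈ A), x ∈ X →
      (∀ z ∈ Cfsg.layer ↥A, (⟨x, hx⟩ : A) * z = z * ⟨x, hx⟩) ∧
        ∀ r : ℕ, r.Prime → r ≠ q → ∀ z ∈ Cfsg.pCore r ↥A, (⟨x, hx⟩ : A) * z = z * ⟨x, hx⟩ := by
    intro q _ X hX hXA hXn x hx hxX
    refine centralize_key (X := X.subgroupOf A) hS'sn hS'F hS'C
      (hX.of_equiv (Subgroup.subgroupOfEquivOfLe hXA).symm) (fun s hs => ?_) _ hxX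
    refine Subgroup.mem_normalizer_iff.mpr fun z => ⟨fun hz => hXn s hs z hz, fun hz => ?_⟩
    have := hXn (s⁻¹ : A) (S'.inv_mem hs) _ hz
    simpa [Subgroup.mem_subgroupOf, mul_assoc] using this
  have hcore : ∀ q : ℕ, ∀ s ∈ S, ∀ x ∈ (Cfsg.pCore q ↥B).map B.subtype,
      s * x * s⁻¹ ∈ (Cfsg.pCore q ↥B).map B.subtype := by
    rintro q s hs _ ⟨z, hz, rfl⟩
    exact ⟨_, (inferInstance : (Cfsg.pCore q ↥B).Normal).conj_mem z hz ⟨s, hSB hs⟩, rfl⟩
  have hLS : Cfsg.layer ↥A ≤ S' := sSup_le fun L hL => by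
    rcases comp_le_or_commute hL hS'sn with h | h
    · exact h
    · exact (le_inf ((comp_le_layer hL).trans layer_le_genFitting)
        (Subgroup.commutator_eq_bot_iff_le_centralizer.mp h)).trans hS'C
  have hnorm : ∀ W : Subgroup A, W.Normal → W ≠ ⊥ → ∀ g : G,
      (∀ w ∈ W, g * (w : G) = w * g) → g ∈ A := by
    intro W hW hWne g hg
    set W₀ := W.map A.subtype
    have hgn : g ∈ Subgroup.normalizer (W₀ : Set G) := by
      refine Subgroup.mem_normalizer_iff.mpr fun z => ⟨?_, ?_⟩
      · rintro ⟨w, hw, rfl⟩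
        refine ⟨w, hw, ?_⟩
        show (w : G) = g * w * g⁻¹
        rw [hg w hw, mul_inv_cancel_right]
      · rintro ⟨w, hw, e⟩
        refine ⟨w, hw, ?_⟩
        show (w : G) = z
        rw [show z = g⁻¹ * (A.subtype w) * g by rw [e]; group]
        show (w : G) = g⁻¹ * w * g
        rw [mul_assoc, ← hg w hw, inv_mul_cancel_left]
    have hAn : A ≤ Subgroup.normalizer (W₀ : Set G) := by
      intro a ha
      refine Subgroup.mem_normalizer_iff.mpr fun z => ⟨?_, ?_⟩
      · rintro ⟨w, hw, rfl⟩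
        exact ⟨_, hW.conj_mem w hw ⟨a, ha⟩, rfl⟩
      · rintro ⟨w, hw, e⟩
        refine ⟨_, hW.conj_mem w hw ⟨a⁻¹, A.inv_mem ha⟩, ?_⟩
        show a⁻¹ * A.subtype w * a⁻¹⁻¹ = z
        rw [e]
        group
    rcases eq_or_lt_of_le hAn with h | h
    · exact h ▸ hgn
    · have htop := hA.2 _ h
      haveI : W₀.Normal := Subgroup.normalizer_eq_top_iff.mp htop
      rcases this.eq_bot_or_eq_top with hb | ht
      · exact absurd ((Subgroup.map_eq_bot_iff_of_injective _ A.subtype_injective).mp hb) hWne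
      · exact absurd (top_le_iff.mp (ht ▸ Subgroup.map_subtype_le W)) hA.1
  refine ⟨fun q hq hqF => ?_, fun p hp hpF x hx y hy => ?_⟩
  · haveI : Fact q.Prime := ⟨hq⟩
    refine eq_bot_iff.mpr ?_
    rintro x ⟨hx, hxA⟩
    have hX : IsPGroup q ((Cfsg.pCore q ↥B).map B.subtype ⊓ A : Subgroup G) :=
      ((isPGroup_pCore q).map B.subtype).to_le inf_le_left
    obtain ⟨h1, h2⟩ := key q _ hX inf_le_right (fun s hs x hx => ⟨hcore q s hs x hx.1,
      A.mul_mem (A.mul_mem (hSA hs) hx.2) (A.inv_mem (hSA hs))⟩) x hxA ⟨hx, hxA⟩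
    have hO : Cfsg.pCore q ↥A = ⊥ := by
      refine (Subgroup.eq_bot_iff_card _).mpr ?_
      obtain ⟨k, hk⟩ := IsPGroup.iff_card.mp (isPGroup_pCore (G := ↥A) q)
      rcases Nat.eq_zero_or_pos k with rfl | hk0
      · rw [hk, pow_zero]
      · exact absurd ((dvd_pow_self q hk0.ne').trans (hk ▸ Subgroup.card_dvd_of_le
          (core_le_fitting (H := ↥A) hq))) hqF
    set z : A := ⟨x, hxA⟩
    have hle : Cfsg.generalizedFittingSubgroup ↥A ≤ Subgroup.centralizer ({z} : Set A) := by
      refine sup_le (fun g hg => Subgroup.mem_centralizer_singleton_iff.mpr (h1 g hg).symm) ?_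
      rw [fitting_eq_iSup_pCore]
      refine iSup_le fun r => ?_
      obtain ⟨r, hr⟩ := r
      intro g hg
      refine Subgroup.mem_centralizer_singleton_iff.mpr ?_
      rcases eq_or_ne r q with rfl | hne
      · rw [hO, Subgroup.mem_bot] at hg
        rw [hg, one_mul, mul_one]
      · exact (h2 r hr hne g hg).symm
    have hzC : z ∈ Subgroup.centralizer (Cfsg.generalizedFittingSubgroup ↥A : Set A) :=
      Subgroup.mem_centralizer_iff.mpr fun g hg =>
        Subgroup.mem_centralizer_singleton_iff.mp (hle hg)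
    set Z := Cfsg.generalizedFittingSubgroup ↥A ⊓
      Subgroup.centralizer (Cfsg.generalizedFittingSubgroup ↥A : Set A)
    have hZ : Z ≤ Cfsg.fittingSubgroup ↥A := by
      refine le_fitting_of_subnormal (Subgroup.Normal.isSubnormal inferInstance) ?_
      letI : CommGroup Z := { (inferInstance : Group Z) with
        mul_comm := fun a b => Subtype.ext (Subgroup.mem_centralizer_iff.mp b.2.2 a a.2.1) }
      infer_instance
    obtain ⟨k, hk⟩ := IsPGroup.iff_orderOf.mp hX ⟨x, hx, hxA⟩
    replace hk : orderOf x = q ^ k := (Subgroup.orderOf_coe _).trans hk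
    have hzO : z ∈ Cfsg.pCore q ↥A := mem_pCore_of_fitting z
      (hZ ⟨centralizer_genFitting_le hzC, hzC⟩) ⟨k, (Subgroup.orderOf_mk x hxA).trans hk⟩
    rw [hO, Subgroup.mem_bot] at hzO
    exact Subgroup.mem_bot.mpr (congrArg Subtype.val hzO)
  · haveI : Fact p.Prime := ⟨hp⟩
    set X := (Cfsg.pCore p ↥B).map B.subtype
    have hX : IsPGroup p X := (isPGroup_pCore p).map B.subtype
    set O := Cfsg.pCore p ↥A
    set Zp := (Subgroup.center O).map O.subtype
    have hZS : ∀ r : ℕ, r.Prime → (Subgroup.center (Cfsg.pCore r ↥A)).map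
        (Cfsg.pCore r ↥A).subtype ≤ S' := fun r hr z hz => by
      haveI : Fact r.Prime := ⟨hr⟩
      refine hS'C ⟨?_, Subgroup.mem_centralizer_iff.mpr fun g hg => center_pCore_comm hz g (hS'F hg)⟩
      exact fitting_le_genFitting (core_le_fitting hr (Subgroup.map_subtype_le _ hz))
    have hZne : ∀ r : ℕ, r.Prime → Cfsg.pCore r ↥A ≠ ⊥ →
        (Subgroup.center (Cfsg.pCore r ↥A)).map (Cfsg.pCore r ↥A).subtype ≠ ⊥ := fun r hr hne h => by
      haveI : Fact r.Prime := ⟨hr⟩
      haveI : Nontrivial (Cfsg.pCore r ↥A) := (Subgroup.nontrivial_iff_ne_bot _).mpr hne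
      haveI := (isPGroup_pCore (G := ↥A) r).center_nontrivial
      exact (Subgroup.nontrivial_iff_ne_bot _).mp this
        ((Subgroup.map_eq_bot_iff_of_injective _ (Subgroup.subtype_injective _)).mp h)
    have hOne : O ≠ ⊥ := by
      obtain ⟨a, ha⟩ := exists_prime_orderOf_dvd_card' p hpF
      intro h
      have := mem_pCore_of_fitting (H := ↥A) (r := p) (a : A) a.2
        ⟨1, by rw [Subgroup.orderOf_coe, ha, pow_one]⟩
      rw [show Cfsg.pCore p ↥A = ⊥ from h, Subgroup.mem_bot] at this
      rw [show a = 1 from Subtype.ext this, orderOf_one] at ha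
      exact hp.ne_one ha.symm
    -- coprime elements of `S` centralize `X`
    have hsX : ∀ s ∈ S, ∀ w ∈ X, s * w * s⁻¹ ∈ X := hcore p
    have hSn : S ≤ Subgroup.normalizer (X : Set G) := fun s hs =>
      Subgroup.mem_normalizer_iff.mpr fun w => ⟨hsX s hs w, fun hw => by
        have := hsX s⁻¹ (S.inv_mem hs) _ hw
        rwa [show s⁻¹ * (s * w * s⁻¹) * s⁻¹⁻¹ = w by group] at this⟩
    set K := Cfsg.layer ↥A ⊔ ⨆ (r : ℕ) (_ : r.Prime) (_ : r ≠ p), Cfsg.pCore r ↥A
    have hLK : Cfsg.layer ↥A ≤ K := le_sup_left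
    have hOK : ∀ r : ℕ, r.Prime → r ≠ p → Cfsg.pCore r ↥A ≤ K := fun r hr hne =>
      (le_iSup₂_of_le (f := fun (r : ℕ) (_ : r.Prime) => ⨆ (_ : r ≠ p), Cfsg.pCore r ↥A) r hr
        (le_iSup (fun _ : r ≠ p => Cfsg.pCore r ↥A) hne)).trans le_sup_right
    have hkey : ∀ w ∈ X, ∀ hw : w ∈ A, ∀ g ∈ K, g * (⟨w, hw⟩ : A) = ⟨w, hw⟩ * g := by
      intro w hwX hw g hg
      obtain ⟨h1, h2⟩ := key p (X ⊓ A) (hX.to_le inf_le_left) inf_le_right
        (fun s hs x hx => ⟨hsX s hs x hx.1,
          A.mul_mem (A.mul_mem (hSA hs) hx.2) (A.inv_mem (hSA hs))⟩) w hw ⟨hwX, hw⟩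
      have hle : K ≤ Subgroup.centralizer ({⟨w, hw⟩} : Set A) := by
        refine sup_le (fun g hg => Subgroup.mem_centralizer_singleton_iff.mpr (h1 g hg).symm) ?_
        exact iSup₂_le fun r hr => iSup_le fun hne g hg =>
          Subgroup.mem_centralizer_singleton_iff.mpr (h2 r hr hne g hg).symm
      exact Subgroup.mem_centralizer_singleton_iff.mp (hle hg)
    have hsC : ∀ s : A, s ∈ S' → (orderOf s).Coprime p → ∀ w ∈ X, (s : G) * w = w * s := by
      intro s hs hcop w hw
      have h := pxq_element (p := p) (x := (s : G)) (by rwa [Subgroup.orderOf_coe])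
        (P := Zp.map A.subtype)
        (((isPGroup_pCore p).to_le (Subgroup.map_subtype_le _)).map A.subtype)
        (Subgroup.mem_centralizer_iff.mpr ?_) X hX
        (fun g hg => ?_) (hSn hs) ?_ hw
      · exact (Subgroup.mem_centralizer_singleton_iff.mp h).symm
      · rintro _ ⟨z, hz, rfl⟩
        exact congrArg Subtype.val (center_pCore_comm hz s (hS'F hs)).symm
      · obtain ⟨z, hz, rfl⟩ := hg
        exact hSn (hZS p hp hz)
      · rintro u ⟨huX, huC⟩
        have huA : u ∈ A := hnorm Zp inferInstance (hZne p hp hOne) u fun z hz =>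
          (Subgroup.mem_centralizer_iff.mp huC (z : G) ⟨z, hz, rfl⟩).symm
        refine Subgroup.mem_centralizer_singleton_iff.mpr ?_
        exact congrArg Subtype.val
          (hkey u huX huA s (mem_of_coprime (q := p) hLK hOK (hS'F hs) hcop)).symm
    -- the generators centralize `X`
    have hgen : ∀ g ∈ K, ∀ w ∈ X, (g : G) * w = w * g := by
      have hL : (Cfsg.layer ↥A).map A.subtype ≤ Subgroup.centralizer (X : Set G) := by
        refine perfect_le_of_pPrime_elements (p := p) ?_ ?_ ?_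
        · rw [← Subgroup.map_commutator, layer_perfect]
        · rintro _ ⟨l, hl, rfl⟩
          exact normalizer_le_normalizer_centralizer' X (hSn (hLS hl))
        · rintro _ ⟨l, hl, rfl⟩ hcop
          refine Subgroup.mem_centralizer_iff.mpr fun w hw => (hsC l (hLS hl) ?_ w hw).symm
          rwa [← Subgroup.orderOf_coe]
      have hA1 : ∀ r : ℕ, r.Prime → r ≠ p → Cfsg.pCore r ↥A ≠ ⊥ → X ≤ A := fun r hr hne hb => by
        haveI : Fact r.Prime := ⟨hr⟩
        intro w hw
        refine hnorm _ inferInstance (hZne r hr hb) w fun z hz => (hsC z (hZS r hr hz) ?_ w hw).symm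
        obtain ⟨k, hk⟩ := IsPGroup.iff_orderOf.mp
          ((isPGroup_pCore (G := ↥A) r).to_le (Subgroup.map_subtype_le _)) ⟨z, hz⟩
        rw [Subgroup.orderOf_mk] at hk
        rw [hk]
        exact Nat.Coprime.pow_left k ((Nat.coprime_primes hr hp).mpr hne)
      intro g hg
      have hle : K ≤ (Subgroup.centralizer (X : Set G)).comap A.subtype := by
        refine sup_le (fun l hl => hL ⟨l, hl, rfl⟩) (iSup₂_le fun r hr => iSup_le fun hne z hz => ?_)
        refine Subgroup.mem_centralizer_iff.mpr fun w hw => ?_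
        rcases eq_or_ne (Cfsg.pCore r ↥A) ⊥ with hb | hb
        · rw [hb, Subgroup.mem_bot] at hz
          subst hz
          simp
        · exact congrArg Subtype.val
            (hkey w hw (hA1 r hr hne hb hw) z (hOK r hr hne hz)).symm
      exact fun w hw => (Subgroup.mem_centralizer_iff.mp (hle hg) w hw).symm
    obtain ⟨y₀, hy₀, rfl⟩ := hy
    have hres : Cfsg.pResidual p ↥(Cfsg.generalizedFittingSubgroup ↥A) ≤
        ((Subgroup.centralizer ({x} : Set G)).comap A.subtype).comap
          (Cfsg.generalizedFittingSubgroup ↥A).subtype := by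
      refine (Subgroup.closure_le _).mpr fun g hg => ?_
      refine Subgroup.mem_centralizer_singleton_iff.mpr ?_
      refine hgen (g : A) (mem_of_coprime (q := p) hLK hOK g.2 ?_) x hx
      rw [Subgroup.orderOf_coe]
      exact hg
    exact (Subgroup.mem_centralizer_singleton_iff.mp (hres hy₀)).symm

end Cfsg.Agent.S1247
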