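import Cfsg.Statements.S1254
import Cfsg.Agent.TwoFusion.DihedralSubgroups
import Cfsg.Agent.Transfer.Frobenius


set_option autoImplicit false
open Cfsg

namespace Cfsg.Agent.S1254

/-- Let X be a finite group whose Sylow 2-subgroup S is dihedral (of order at least 4). Then X has a normal 2-complement if and only if, for every Klein four-subgroup U ≤ S, the normalizer N_X(U) is generated by C_X(U) and N_S(U). -/
theorem result {X : Type*} [Group X] [Finite X] (S : Sylow 2 X) (m : ℕ) (hm : 2 ≤ m) (eS : (S : Subgroup X) ≃* DihedralGroup m) : Cfsg.HasNormalPComplement 2 X ↔ ∀ U : Subgroup X, U ≤ S → IsKleinFour U → Subgroup.normalizer (U : Set X) = Subgroup.centralizer (U : Set X) ⊔ ((S : Subgroup X) ⊓ Subgroup.normalizer (U : Set X)) := by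
  classical
  haveI : Fact (Nat.Prime 2) := ⟨Nat.prime_two⟩
  constructor
  · intro hG U hUS hU
    refine le_antisymm ?_ (sup_le (Subgroup.centralizer_le_normalizer _) inf_le_right)
    intro g hg
    obtain ⟨P, N, hN, hNP⟩ := hG
    haveI := hN
    have hcard : Nat.card (S : Subgroup X) = Nat.card (P : Subgroup X) := S.card_eq_multiplicity.trans
      P.card_eq_multiplicity.symm
    have hNS : Subgroup.IsComplement' N (S : Subgroup X) := by
      refine Subgroup.isComplement'_of_coprime ?_ ?_
      · rw [hcard]; exact hNP.card_mul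
      · have h := P.card_coprime_index
        rw [hNP.index_eq_card] at h
        rw [hcard]; exact h.symm
    obtain ⟨⟨⟨k, hk⟩, ⟨s, hs⟩⟩, hks⟩ := hNS.2 g
    simp only at hks
    have hsU : ∀ u ∈ U, g * u * g⁻¹ = s * u * s⁻¹ := by
      intro u hu
      have h1 : g * u * g⁻¹ ∈ (S : Subgroup X) :=
        hUS ((Subgroup.mem_normalizer_iff.1 hg u).1 hu)
      have h2 : s * u * s⁻¹ ∈ (S : Subgroup X) :=
        Subgroup.mul_mem _ (Subgroup.mul_mem _ hs (hUS hu)) (Subgroup.inv_mem _ hs)
      have h3 : (g * u * g⁻¹) * (s * u * s⁻¹)⁻¹ ∈ N := by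
        rw [← hks, show k * s * u * (k * s)⁻¹ * (s * u * s⁻¹)⁻¹ =
          k * ((s * u * s⁻¹) * k⁻¹ * (s * u * s⁻¹)⁻¹) by group]
        exact N.mul_mem hk (hN.conj_mem _ (N.inv_mem hk) _)
      have h4 : (g * u * g⁻¹) * (s * u * s⁻¹)⁻¹ ∈ N ⊓ (S : Subgroup X) :=
        ⟨h3, Subgroup.mul_mem _ h1 (Subgroup.inv_mem _ h2)⟩
      rwa [hNS.isCompl.inf_eq_bot, Subgroup.mem_bot, mul_inv_eq_one] at h4
    have hsn : s ∈ (S : Subgroup X) ⊓ Subgroup.normalizer (U : Set X) := by
      refine ⟨hs, ?_⟩
      have hle : U.map (MulAut.conj s).toMonoidHom = U := by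
        refine Subgroup.eq_of_le_of_card_ge ?_ (le_of_eq
          (Nat.card_congr (U.equivMapOfInjective _ (MulAut.conj s).injective).toEquiv))
        rintro _ ⟨u, hu, rfl⟩
        show s * u * s⁻¹ ∈ U
        rw [← hsU u hu]
        exact (Subgroup.mem_normalizer_iff.1 hg u).1 hu
      exact Subgroup.mem_normalizer_iff_map_conj_eq.2 hle
    have hkC : k ∈ Subgroup.centralizer (U : Set X) := by
      rw [Subgroup.mem_centralizer_iff]
      intro u hu
      have hu' : s⁻¹ * u * s ∈ U := by
        have := (Subgroup.mem_normalizer_iff.1 (Subgroup.inv_mem _ hsn.2) u).1 hu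
        simpa using this
      have h := hsU _ hu'
      rw [← hks, show k * s * (s⁻¹ * u * s) * (k * s)⁻¹ = k * u * k⁻¹ by group,
        show s * (s⁻¹ * u * s) * s⁻¹ = u by group, mul_inv_eq_iff_eq_mul] at h
      exact h.symm
    rw [← hks]
    exact Subgroup.mul_mem _ (Subgroup.mem_sup_left hkC) (Subgroup.mem_sup_right hsn)
  · intro h
    refine Cfsg.Lib.Transfer.hasNormalPComplement_of_frobenius fun Q hQ g hg hcop => ?_
    obtain ⟨P, hQP⟩ := hQ.exists_le_sylow
    obtain ⟨x, hx⟩ := MulAction.exists_smul_eq X P S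
    set c : X ≃* X := MulAut.conj x
    set U : Subgroup X := Q.map c.toMonoidHom with hU
    have hUS : U ≤ (S : Subgroup X) := by
      rw [← hx, Sylow.coe_subgroup_smul]
      exact Subgroup.map_mono hQP
    have hgU : c g ∈ Subgroup.normalizer (U : Set X) :=
      Subgroup.le_normalizer_map c.toMonoidHom (Subgroup.mem_map_of_mem _ hg)
    have hcop' : (orderOf (c g)).Coprime 2 := by rwa [MulEquiv.orderOf_eq]
    suffices hc : c g ∈ Subgroup.centralizer (U : Set X) by
      rw [Subgroup.mem_centralizer_iff] at hc ⊢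
      intro u hu
      have := hc (c u) (Subgroup.mem_map_of_mem _ hu)
      rw [← map_mul, ← map_mul] at this
      exact c.injective this
    refine Cfsg.Lib.TwoFusion.mem_centralizer_of_coprime hgU hcop' ?_
    rcases Cfsg.Lib.TwoFusion.isPGroup_mulAut_or_isKleinFour S.2 eS hUS with hp | hk
    · exact hp _
    · have hmem : c g ∈ Subgroup.centralizer (U : Set X) ⊔
          ((S : Subgroup X) ⊓ Subgroup.normalizer (U : Set X)) := by rw [← h U hUS hk]; exact hgU
      set Nz := Subgroup.normalizer (U : Set X)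
      haveI : ((Subgroup.centralizer (U : Set X)).subgroupOf Nz).Normal := by
        rw [← Subgroup.normalizerMonoidHom_ker]; exact MonoidHom.normal_ker _
      have hm' : (⟨c g, hgU⟩ : ↥Nz) ∈ (Subgroup.centralizer (U : Set X)).subgroupOf Nz ⊔
          ((S : Subgroup X) ⊓ Nz).subgroupOf Nz := by
        rw [← Subgroup.subgroupOf_sup (Subgroup.centralizer_le_normalizer _) inf_le_right]
        exact hmem
      obtain ⟨a, ha, b, hb, hab⟩ := Subgroup.mem_sup_of_normal_left.1 hm'
      have ha' : U.normalizerMonoidHom a = 1 := by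
        rw [← MonoidHom.mem_ker, Subgroup.normalizerMonoidHom_ker]; exact ha
      obtain ⟨k, hk⟩ := S.2 ⟨(b : X), (Subgroup.mem_inf.1 hb).1⟩
      have hk' : b ^ 2 ^ k = 1 := Subtype.ext (by simpa using congrArg Subtype.val hk)
      refine ⟨k, ?_⟩
      rw [← hab, map_mul, ha', one_mul, ← map_pow, hk', map_one]

end Cfsg.Agent.S1254
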