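import Cfsg.Statements.S1255
import Cfsg.Agent.S0107
import Cfsg.Agent.S1254
import Cfsg.Agent.PGroups.MetacyclicTwo


set_option autoImplicit false
open Cfsg

namespace Cfsg.Agent.S1255

/-- Let X be a finite group whose Sylow 2-subgroup S is dihedral of order 2m ≥ 4. Then X has no subgroup of index 2 and no isolated involution if and only if either all involutions of X are conjugate, or for every Klein four-subgroup U ≤ S the index |N_X(U) : C_X(U)| equals 3 when |S| = 4 and equals 6 when |S| > 4. -/
theorem result {X : Type*} [Group X] [Finite X] (S : Sylow 2 X) (m : ℕ) (hm : 2 ≤ m) (eS : (S : Subgroup X) ≃* DihedralGroup m) : ((∀ H : Subgroup X, H.index ≠ 2) ∧ (∀ z : X, ¬ Cfsg.IsIsolatedInvolution z)) ↔ ((∀ a b : X, orderOf a = 2 → orderOf b = 2 → IsConj a b) ∨ (∀ U : Subgroup X, U ≤ S → IsKleinFour U → (Subgroup.centralizer (U : Set X)).relIndex (Subgroup.normalizer (U : Set X)) = (if Nat.card S = 4 then 3 else 6))) := by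
  classical
  haveI : Fact (Nat.Prime 2) := ⟨Nat.prime_two⟩
  set T : Subgroup X := (S : Subgroup X) with hT
  obtain ⟨k, hk⟩ : ∃ k, Nat.card T = 2 ^ k := IsPGroup.iff_card.1 S.2
  have hcardS : Nat.card T = 2 * m := by rw [Nat.card_congr eS.toEquiv, DihedralGroup.nat_card]
  obtain ⟨n, rfl⟩ : ∃ n, m = 2 ^ n := by
    rcases k with _ | k
    · rw [pow_zero] at hk; omega
    · exact ⟨k, by rw [pow_succ] at hk; omega⟩
  have hn1 : 1 ≤ n := by
    by_contra h
    rw [show n = 0 by omega, pow_zero] at hm
    omega
  haveI : NeZero (2 ^ n) := ⟨(Nat.two_pow_pos n).ne'⟩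
  let ι : DihedralGroup (2 ^ n) →* X := T.subtype.comp eS.symm.toMonoidHom
  have hinj : Function.Injective ι := Subtype.val_injective.comp eS.symm.injective
  have hιT : ∀ d, ι d ∈ T := fun d => (eS.symm d).2
  have hsur : ∀ x ∈ T, ∃ d, ι d = x := fun x hx => ⟨eS ⟨x, hx⟩, by simp [ι]⟩
  set h : ZMod (2 ^ n) := ((2 ^ (n - 1) : ℕ) : ZMod (2 ^ n)) with hhdef
  have hn2 : 2 ^ n = 2 * 2 ^ (n - 1) := by rw [← pow_succ', Nat.sub_add_cancel hn1]
  have hh2 : h + h = 0 := by
    rw [hhdef, ← Nat.cast_add, ← two_mul, ← hn2, ZMod.natCast_self]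
  have hh0 : h ≠ 0 := by
    rw [hhdef, Ne, ZMod.natCast_eq_zero_iff]
    intro hd
    have := Nat.le_of_dvd (Nat.two_pow_pos _) hd
    have := Nat.two_pow_pos (n - 1)
    omega
  have htor : ∀ i : ZMod (2 ^ n), i + i = 0 → i = 0 ∨ i = h := by
    intro i hi
    have hlt := ZMod.val_lt i
    have h' : (((i.val + i.val : ℕ) : ZMod (2 ^ n))) = 0 := by
      rw [Nat.cast_add, ZMod.natCast_zmod_val]; exact hi
    rw [ZMod.natCast_eq_zero_iff] at h'
    obtain ⟨c, hc⟩ := h'
    rcases Nat.lt_or_ge c 1 with hc0 | hc1
    · left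
      rw [← ZMod.natCast_zmod_val i, show i.val = 0 by
        rw [show c = 0 by omega, mul_zero] at hc; omega, Nat.cast_zero]
    · right
      have hc2 : c = 1 := by nlinarith
      subst hc2
      rw [hhdef, ← ZMod.natCast_zmod_val i, show i.val = 2 ^ (n - 1) by omega]
  set z : X := ι (DihedralGroup.r h) with hzdef
  have hz2 : z * z = 1 := by rw [hzdef, ← map_mul, DihedralGroup.r_mul_r, hh2, ← DihedralGroup.one_def, map_one]
  have hz1 : z ≠ 1 := by
    intro e
    rw [hzdef, ← map_one ι, DihedralGroup.one_def] at e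
    exact hh0 (DihedralGroup.r.inj (hinj e))
  -- four-groups through an involution of the Sylow subgroup
  have hfour : ∀ t ∈ T, orderOf t = 2 → ∃ U : Subgroup X, U ≤ T ∧ IsKleinFour U ∧ t ∈ U ∧ z ∈ U := by
    intro t ht ht2
    obtain ⟨i, hi⟩ : ∃ i, t = z ∨ t = ι (DihedralGroup.sr i) := by
      obtain ⟨d, rfl⟩ := hsur t ht
      rcases d with i | i
      · rw [orderOf_injective ι hinj] at ht2
        have h' := pow_orderOf_eq_one (DihedralGroup.r i)
        rw [ht2, pow_two, DihedralGroup.r_mul_r, DihedralGroup.one_def] at h'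
        rcases htor i (DihedralGroup.r.inj h') with e | e
        · rw [e, ← DihedralGroup.one_def, orderOf_one] at ht2; omega
        · exact ⟨0, Or.inl (by rw [e])⟩
      · exact ⟨i, Or.inr rfl⟩
    set s : X := ι (DihedralGroup.sr i)
    have hs2 : s * s = 1 := by rw [← map_mul, DihedralGroup.sr_mul_self, map_one]
    have hzs : z * s = s * z := by
      rw [← map_mul, ← map_mul, DihedralGroup.r_mul_sr, DihedralGroup.sr_mul_r]
      congr 2
      rw [sub_eq_add_neg, neg_eq_of_add_eq_zero_right hh2]
    have hs1 : s ≠ 1 := by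
      intro e
      have := hinj (e.trans (map_one ι).symm)
      rw [DihedralGroup.one_def] at this
      exact DihedralGroup.noConfusion rfl (heq_of_eq this)
    have hsz : s ≠ z := fun e => DihedralGroup.noConfusion rfl (heq_of_eq (hinj e))
    let U : Subgroup X :=
      { carrier := {1, z, s, z * s}
        one_mem' := Set.mem_insert _ _
        mul_mem' := by
          intro a b ha hb
          simp only [Set.mem_insert_iff, Set.mem_singleton_iff] at ha hb ⊢
          have e1 : ∀ a, z * (z * a) = a := fun a => by rw [← mul_assoc, hz2, one_mul]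
          have e2 : s * (z * s) = z := by rw [← mul_assoc, ← hzs, mul_assoc, hs2, mul_one]
          have e3 : z * s * z = s := by rw [mul_assoc, ← hzs, e1]
          have e4 : z * s * s = z := by rw [mul_assoc, hs2, mul_one]
          have e5 : z * s * (z * s) = 1 := by rw [mul_assoc, e2, hz2]
          rcases ha with rfl | rfl | rfl | rfl <;> rcases hb with rfl | rfl | rfl | rfl <;>
            simp [hz2, hs2, ← hzs, e1, e2, e3, e4, e5]
        inv_mem' := by
          intro a ha
          simp only [Set.mem_insert_iff, Set.mem_singleton_iff] at ha ⊢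
          have i1 : z⁻¹ = z := inv_eq_of_mul_eq_one_right hz2
          have i2 : s⁻¹ = s := inv_eq_of_mul_eq_one_right hs2
          rcases ha with rfl | rfl | rfl | rfl <;> simp [i1, i2, hzs] }
    have hUmem : ∀ a, a ∈ U ↔ a = 1 ∨ a = z ∨ a = s ∨ a = z * s := fun a => Iff.rfl
    refine ⟨U, ?_, ⟨?_, ?_⟩, ?_, (hUmem z).2 (Or.inr (Or.inl rfl))⟩
    · intro a ha
      rcases (hUmem a).1 ha with rfl | rfl | rfl | rfl
      · exact T.one_mem
      · exact hιT _
      · exact hιT _
      · exact T.mul_mem (hιT _) (hιT _)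
    · have hzs1 : z * s ≠ 1 := fun e => hsz (by
        rw [← inv_eq_of_mul_eq_one_right e]; exact inv_eq_of_mul_eq_one_right hz2)
      have he : (U : Set X) = (({1, z, s, z * s} : Finset X) : Set X) := by
        ext a
        simp only [Finset.coe_insert, Finset.coe_singleton]
        rfl
      rw [← SetLike.coe_sort_coe, he, Nat.card_coe_set_eq, Set.ncard_coe_finset,
        Finset.card_insert_of_notMem, Finset.card_insert_of_notMem, Finset.card_insert_of_notMem,
        Finset.card_singleton]
      · simp [hz1]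
      · simp [hs1, hsz.symm]
      · simp [hz1.symm, hs1.symm, hzs1.symm]
    · refine Nat.dvd_antisymm ?_ ?_
      · rw [Monoid.exponent_dvd_iff_forall_pow_eq_one]
        rintro ⟨a, ha⟩
        refine Subtype.ext ?_
        show a ^ 2 = 1
        rw [pow_two]
        rcases (hUmem a).1 ha with rfl | rfl | rfl | rfl
        · simp
        · exact hz2
        · exact hs2
        · rw [mul_assoc, ← mul_assoc s, ← hzs, mul_assoc z s s, hs2, mul_one, hz2]
      · have := Monoid.order_dvd_exponent (⟨z, (hUmem z).2 (Or.inr (Or.inl rfl))⟩ : U)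
        rwa [Subgroup.orderOf_mk, orderOf_eq_prime (by rw [pow_two]; exact hz2) hz1] at this
    · rcases hi with rfl | rfl
      · exact (hUmem _).2 (Or.inr (Or.inl rfl))
      · exact (hUmem _).2 (Or.inr (Or.inr (Or.inl rfl)))
  have hinS : ∀ a : X, orderOf a = 2 → ∃ g : X, g * a * g⁻¹ ∈ T := by
    intro a ha
    have hp : IsPGroup 2 (Subgroup.zpowers a) := IsPGroup.of_card (n := 1) (by
      rw [Nat.card_zpowers, ha]; rfl)
    obtain ⟨P, hP⟩ := hp.exists_le_sylow
    obtain ⟨g, hg⟩ := MulAction.exists_smul_eq X P S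
    refine ⟨g, ?_⟩
    show g * a * g⁻¹ ∈ (S : Subgroup X)
    rw [← hg, Sylow.coe_subgroup_smul]
    exact Subgroup.mem_map_of_mem _ (hP (Subgroup.mem_zpowers a))
  -- a nontrivial odd automorphism of a four-group induced in the group fuses its involutions
  have hfuse : ∀ U : Subgroup X, IsKleinFour U → ∀ (g : X)
      (hg : g ∈ Subgroup.normalizer (U : Set X)), (U.normalizerMonoidHom ⟨g, hg⟩) ≠ 1 →
      Odd (orderOf (U.normalizerMonoidHom ⟨g, hg⟩)) →
      ∀ a ∈ U, ∀ b ∈ U, a ≠ 1 → b ≠ 1 → IsConj a b := by
    intro U hU g hg hne hodd a ha b hb ha1 hb1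
    have hsq : ∀ v : U, v * v = 1 := fun v => IsKleinFour.mul_self v
    obtain ⟨-, hall⟩ := Cfsg.Lib.MetaTwo.four_fpf hsq hU.card_four.le hodd hne ⟨a, ha⟩
      (fun e => ha1 (congrArg Subtype.val e))
    set f := U.normalizerMonoidHom ⟨g, hg⟩
    have hf : ∀ v : U, (f v : X) = g * v * g⁻¹ := fun v => rfl
    have hc1 : IsConj a (g * a * g⁻¹) := isConj_iff.2 ⟨g, rfl⟩
    rcases hall ⟨b, hb⟩ with e | e | e | e
    · exact absurd (congrArg Subtype.val e) hb1
    · have e' : b = a := congrArg Subtype.val e
      rw [e']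
    · have e' : b = (f ⟨a, ha⟩ : X) := congrArg Subtype.val e
      rw [e']; exact hc1
    · -- the third involution is the image of the second
      have hfne : f ⟨a, ha⟩ ≠ ⟨a, ha⟩ := fun e' => by
        have hb' : (⟨b, hb⟩ : U) = 1 := by rw [e, e', hsq]
        exact hb1 (congrArg Subtype.val hb')
      rcases hall (f (f ⟨a, ha⟩)) with e' | e' | e' | e'
      · exact absurd (congrArg Subtype.val (f.injective (f.injective
          (e'.trans (by rw [map_one, map_one]))))) ha1
      · exfalso
        -- otherwise `f` would have even order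
        have hper : ∀ j : ℕ, (f ^ (2 * j)) ⟨a, ha⟩ = ⟨a, ha⟩ := by
          intro j
          induction j with
          | zero => simp
          | succ j ih =>
            rw [show 2 * (j + 1) = 2 * j + 1 + 1 by ring, pow_succ, pow_succ, MulAut.mul_apply,
              MulAut.mul_apply, e', ih]
        obtain ⟨j, hj⟩ := hodd
        have h2 := congrArg (fun φ : MulAut U => φ ⟨a, ha⟩) (pow_orderOf_eq_one f)
        rw [hj, pow_succ'] at h2
        simp only [MulAut.mul_apply, MulAut.one_apply, hper] at h2
        exact hfne h2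
      · exact absurd (f.injective e') hfne
      · have e2 : (⟨b, hb⟩ : U) = f (f ⟨a, ha⟩) := e.trans e'.symm
        have e3 : b = g * (g * a * g⁻¹) * g⁻¹ := congrArg Subtype.val e2
        rw [e3]
        exact hc1.trans (isConj_iff.2 ⟨g, rfl⟩)
  -- a two-quotient gives a subgroup of index two
  have hres : (∀ H : Subgroup X, H.index ≠ 2) → Cfsg.pResidual 2 X = ⊤ := by
    intro hno
    by_contra hne
    haveI : (Cfsg.pResidual 2 X).Normal := by
      rw [Cfsg.pResidual]
      refine ⟨fun x hx g => ?_⟩
      have hmap : (Subgroup.closure {a : X | (orderOf a).Coprime 2}).map (MulAut.conj g).toMonoidHom ≤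
          Subgroup.closure {a : X | (orderOf a).Coprime 2} := by
        rw [MonoidHom.map_closure, Subgroup.closure_le]
        rintro _ ⟨a, ha, rfl⟩
        refine Subgroup.subset_closure ?_
        show (orderOf (MulAut.conj g a)).Coprime 2
        rwa [MulEquiv.orderOf_eq]
      exact hmap ⟨x, hx, rfl⟩
    set K := Cfsg.pResidual 2 X
    have hQ : IsPGroup 2 (X ⧸ K) := by
      intro q
      obtain ⟨x, rfl⟩ := QuotientGroup.mk_surjective q
      refine ⟨(orderOf x).factorization 2, ?_⟩
      rw [← QuotientGroup.mk_pow, QuotientGroup.eq_one_iff]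
      refine Subgroup.subset_closure ?_
      show (orderOf (x ^ 2 ^ (orderOf x).factorization 2)).Coprime 2
      rw [orderOf_pow' _ (pow_ne_zero _ two_ne_zero), Nat.gcd_eq_right (Nat.ordProj_dvd (orderOf x) 2)]
      exact (Nat.coprime_ordCompl Nat.prime_two (orderOf_pos x).ne').symm
    obtain ⟨c, hc⟩ := IsPGroup.iff_card.1 hQ
    rcases c with _ | c
    · rw [pow_zero, ← Subgroup.index_eq_card, Subgroup.index_eq_one] at hc
      exact hne hc
    obtain ⟨M, hM⟩ := Sylow.exists_subgroup_card_pow_prime 2 (n := c) (hc ▸ pow_dvd_pow 2 (Nat.le_succ c))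
    refine hno (M.comap (QuotientGroup.mk' K)) ?_
    rw [Subgroup.index_comap_of_surjective _ (QuotientGroup.mk'_surjective _)]
    have h1 := M.card_mul_index
    rw [hM, hc, pow_succ] at h1
    exact Nat.eq_of_mul_eq_mul_left (Nat.two_pow_pos c) h1
  constructor
  · rintro ⟨hno, -⟩
    refine Or.inl fun a b ha hb => ?_
    rcases Nat.lt_or_ge n 2 with hlt | hge
    · -- the Sylow subgroup is a four-group
      have hn' : n = 1 := by omega
      obtain ⟨g, hg⟩ := hinS a ha
      obtain ⟨g', hg'⟩ := hinS b hb
      have hT4 : Nat.card T = 4 := by rw [hcardS, hn']; rfl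
      obtain ⟨U, hUT, hU, -, -⟩ := hfour z (hιT _) (orderOf_eq_prime (by rw [pow_two]; exact hz2) hz1)
      have hUeq : U = T := Subgroup.eq_of_le_of_card_ge hUT (by rw [hU.card_four, hT4])
      have hK : IsKleinFour T := hUeq ▸ hU
      obtain ⟨x, hx, hxC⟩ : ∃ x ∈ Subgroup.normalizer (T : Set X), x ∉ Subgroup.centralizer (T : Set X) := by
        by_contra hall
        push Not at hall
        obtain ⟨P, N, hN, hNP⟩ := (Cfsg.Agent.S1254.result S (2 ^ n) hm eS).2 (fun V hVS hV => by
          have hVT : V = T := Subgroup.eq_of_le_of_card_ge hVS (by rw [hV.card_four, hT4])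
          subst hVT
          refine le_antisymm (fun x hx => Subgroup.mem_sup_left (hall x hx)) ?_
          exact sup_le (Subgroup.centralizer_le_normalizer _) inf_le_right)
        haveI := hN
        obtain ⟨M, hM⟩ := Sylow.exists_subgroup_card_pow_prime 2 (G := X ⧸ N) (n := 1) (by
          rw [← Subgroup.index_eq_card, hNP.symm.index_eq_card, P.card_eq_multiplicity,
            ← S.card_eq_multiplicity, ← hT, hT4]
          norm_num)
        refine hno (M.comap (QuotientGroup.mk' N)) ?_
        rw [Subgroup.index_comap_of_surjective _ (QuotientGroup.mk'_surjective _)]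
        have h1 := M.card_mul_index
        rw [hM, ← Subgroup.index_eq_card, hNP.symm.index_eq_card, P.card_eq_multiplicity,
            ← S.card_eq_multiplicity, ← hT, hT4] at h1
        omega
      have hfne : T.normalizerMonoidHom ⟨x, hx⟩ ≠ 1 := fun e => by
        have : (⟨x, hx⟩ : Subgroup.normalizer (T : Set X)) ∈ T.normalizerMonoidHom.ker := e
        rw [Subgroup.normalizerMonoidHom_ker] at this
        exact hxC this
      -- the automiser has odd order
      have hodd : Odd (orderOf (T.normalizerMonoidHom ⟨x, hx⟩)) := by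
        have hdvd : orderOf (T.normalizerMonoidHom ⟨x, hx⟩) ∣
            (Subgroup.centralizer (T : Set X)).relIndex (Subgroup.normalizer (T : Set X)) := by
          rw [Subgroup.relIndex, ← Subgroup.normalizerMonoidHom_ker, Subgroup.index_ker]
          exact Subgroup.orderOf_dvd_natCard _ ⟨⟨x, hx⟩, rfl⟩
        refine Odd.of_dvd_nat (Nat.odd_iff.2 ?_) hdvd
        have hTC : T ≤ Subgroup.centralizer (T : Set X) := fun u hu v hv =>
          congrArg Subtype.val (mul_comm_of_exponent_two hK.exponent_two (⟨v, hv⟩ : T) ⟨u, hu⟩)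
        have hodd' : ¬ 2 ∣ T.relIndex (Subgroup.normalizer (T : Set X)) := fun h =>
          S.not_dvd_index (h.trans (Subgroup.relIndex_dvd_index_of_le Subgroup.le_normalizer))
        have := Subgroup.relIndex_mul_relIndex T (Subgroup.centralizer (T : Set X))
          (Subgroup.normalizer (T : Set X)) hTC (Subgroup.centralizer_le_normalizer _)
        rw [← this] at hodd'
        by_contra h
        exact hodd' (Dvd.dvd.mul_left (Nat.dvd_of_mod_eq_zero (by omega)) _)
      have hne1 : ∀ (g a : X), orderOf a = 2 → g * a * g⁻¹ ≠ 1 := fun g a ha e => by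
        have : a = 1 := by
          rw [mul_inv_eq_one] at e; exact mul_eq_left.1 e
        rw [this, orderOf_one] at ha; omega
      exact (isConj_iff.2 ⟨g, rfl⟩ : IsConj a (g * a * g⁻¹)).trans
        ((hfuse T hK x hx hfne hodd _ hg _ hg' (hne1 g a ha) (hne1 g' b hb)).trans
          (isConj_iff.2 ⟨g', rfl⟩ : IsConj b (g' * b * g'⁻¹)).symm)
    · exact isConj_iff.2 (Cfsg.Agent.S0107.result S n hge ⟨eS⟩ (hres hno) a b ha hb)
  · intro hr
    -- in both cases there is one class of involutions
    have hone : ∀ a b : X, orderOf a = 2 → orderOf b = 2 → IsConj a b := by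
      rcases hr with h1 | h3
      · exact h1
      intro a b ha hb
      have hza : ∀ a : X, orderOf a = 2 → IsConj a z := by
        intro a ha
        obtain ⟨g, hg⟩ := hinS a ha
        have hg2 : orderOf (g * a * g⁻¹) = 2 := by
          rw [← ha]; exact MulEquiv.orderOf_eq (MulAut.conj g) a
        obtain ⟨U, hUT, hU, haU, hzU⟩ := hfour _ hg hg2
        refine (isConj_iff.2 ⟨g, rfl⟩ : IsConj a (g * a * g⁻¹)).trans ?_
        have h3' : 3 ∣ (Subgroup.centralizer (U : Set X)).relIndex (Subgroup.normalizer (U : Set X)) := by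
          rw [h3 U hUT hU]; split_ifs <;> norm_num
        rw [Subgroup.relIndex, ← Subgroup.normalizerMonoidHom_ker, Subgroup.index_ker] at h3'
        haveI : Fact (Nat.Prime 3) := ⟨Nat.prime_three⟩
        obtain ⟨f, hf⟩ := exists_prime_orderOf_dvd_card' 3 h3'
        obtain ⟨⟨x, hx⟩, hxf⟩ := f.2
        rw [← Subgroup.orderOf_coe, ← hxf] at hf
        refine hfuse U hU x hx (fun e => ?_) ?_ _ haU _ hzU (fun e => ?_) hz1
        · rw [e, orderOf_one] at hf; omega
        · rw [hf]; decide
        · rw [e, orderOf_one] at hg2; omega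
      exact (hza a ha).trans (hza b hb).symm
    have hzo : orderOf z = 2 := orderOf_eq_prime (by rw [pow_two]; exact hz2) hz1
    refine ⟨fun H hH => ?_, fun w hw => ?_⟩
    · haveI : H.Normal := Subgroup.normal_of_index_eq_two hH
      have hzH : z ∈ H := by
        by_contra hzH
        have hall : ∀ a : X, orderOf a = 2 → a ∉ H := fun a ha haH => by
          obtain ⟨g, hg⟩ := isConj_iff.1 (hone a z ha hzo)
          exact hzH (hg ▸ (inferInstance : H.Normal).conj_mem a haH g)
        -- the product of two commuting involutions outside lies inside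
        obtain ⟨U, hUT, hU, -, hzU⟩ := hfour z (hιT _) hzo
        haveI := hU
        obtain ⟨u, hu1, huz⟩ : ∃ u : U, u ≠ 1 ∧ u ≠ ⟨z, hzU⟩ := by
          by_contra hno
          push Not at hno
          have : Nat.card U ≤ Nat.card Bool := Nat.card_le_card_of_surjective
            (fun b : Bool => if b then (⟨z, hzU⟩ : U) else 1) fun u => by
              by_cases h1 : u = 1
              · exact ⟨false, h1.symm⟩
              · exact ⟨true, (hno u h1).symm⟩
          rw [hU.card_four, Nat.card_eq_fintype_card, Fintype.card_bool] at this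
          omega
        have hu2 : orderOf (u : X) = 2 := by
          rw [Subgroup.orderOf_coe]
          exact orderOf_eq_prime (by rw [pow_two]; exact IsKleinFour.mul_self u) hu1
        have huz2 : orderOf ((u : X) * z) = 2 := by
          refine orderOf_eq_prime ?_ fun e => huz ?_
          · have := IsKleinFour.mul_self (u * ⟨z, hzU⟩ : U)
            rw [pow_two]; exact congrArg Subtype.val this
          · refine Subtype.ext ?_
            have := eq_inv_of_mul_eq_one_left e
            rwa [inv_eq_of_mul_eq_one_right hz2] at this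
        exact hall _ huz2 ((Subgroup.mul_mem_iff_of_index_two hH).2 (iff_of_false (hall _ hu2) hzH))
      have hall : ∀ a : X, orderOf a = 2 → a ∈ H := fun a ha => by
        obtain ⟨g, hg⟩ := isConj_iff.1 (hone z a hzo ha)
        exact hg ▸ (inferInstance : H.Normal).conj_mem z hzH g
      have hsr : ∀ i, ι (DihedralGroup.sr i) ∈ H := fun i =>
        hall _ (by rw [orderOf_injective ι hinj, DihedralGroup.orderOf_sr])
      have hTH : T ≤ H := by
        intro x hx
        obtain ⟨d, rfl⟩ := hsur x hx
        rcases d with i | i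
        · have := H.mul_mem (hsr 0) (hsr i)
          rwa [← map_mul, DihedralGroup.sr_mul_sr, sub_zero] at this
        · exact hsr i
      exact S.not_dvd_index ((by rw [hH] : 2 ∣ H.index).trans (Subgroup.index_dvd_of_le hTH))
    · obtain ⟨g, hg⟩ := hinS w hw.1
      have hw2 : orderOf (g * w * g⁻¹) = 2 := by
        rw [← hw.1]; exact MulEquiv.orderOf_eq (MulAut.conj g) w
      obtain ⟨U, hUT, hU, hwU, hzU⟩ := hfour _ hg hw2
      haveI := hU
      obtain ⟨u, hu1, huw⟩ : ∃ u : U, u ≠ 1 ∧ u ≠ ⟨g * w * g⁻¹, hwU⟩ := by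
        by_contra hno
        push Not at hno
        have : Nat.card U ≤ Nat.card Bool := Nat.card_le_card_of_surjective
          (fun b : Bool => if b then (⟨g * w * g⁻¹, hwU⟩ : U) else 1) fun u => by
            by_cases h1 : u = 1
            · exact ⟨false, h1.symm⟩
            · exact ⟨true, (hno u h1).symm⟩
        rw [hU.card_four, Nat.card_eq_fintype_card, Fintype.card_bool] at this
        omega
      have hu2 : orderOf (u : X) = 2 := by
        rw [Subgroup.orderOf_coe]
        exact orderOf_eq_prime (by rw [pow_two]; exact IsKleinFour.mul_self u) hu1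
      obtain ⟨x, hx⟩ := isConj_iff.1 (hone _ _ hw2 hu2)
      have hcomm : (g * w * g⁻¹) * (u : X) = u * (g * w * g⁻¹) :=
        congrArg Subtype.val (mul_comm_of_exponent_two hU.exponent_two (⟨_, hwU⟩ : U) u)
      have e1 : (g⁻¹ * x * g) * w * (g⁻¹ * x * g)⁻¹ = g⁻¹ * u * g := by rw [← hx]; group
      have hc : Commute w ((g⁻¹ * x * g) * w * (g⁻¹ * x * g)⁻¹) := by
        rw [e1]
        show w * (g⁻¹ * u * g) = g⁻¹ * u * g * w
        calc w * (g⁻¹ * u * g) = g⁻¹ * ((g * w * g⁻¹) * u) * g := by group
          _ = g⁻¹ * (u * (g * w * g⁻¹)) * g := by rw [hcomm]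
          _ = _ := by group
      have h2 := hw.2 _ hc
      rw [e1] at h2
      refine huw (Subtype.ext ?_)
      show (u : X) = g * w * g⁻¹
      calc (u : X) = g * (g⁻¹ * u * g) * g⁻¹ := by group
        _ = _ := by rw [h2]

end Cfsg.Agent.S1255
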