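import Cfsg.Statements.S1258
import Cfsg.Agent.Components.GenFitting

set_option autoImplicit false
open Cfsg

namespace Cfsg.Agent.S1258

/-- If the central quotient of a finite group X is non-abelian simple, then X = X' Z(X) and the commutator subgroup X' is quasisimple. -/
theorem result {X : Type*} [Group X] [Finite X] (hs : IsSimpleGroup (X ⧸ Subgroup.center X)) (hna : ¬ IsMulCommutative (X ⧸ Subgroup.center X)) : commutator X ⊔ Subgroup.center X = ⊤ ∧ Cfsg.IsQuasisimple ↥(commutator X) := by
  open Subgroup Cfsg.Lib.Components commutatorElement in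
  exact (by
    haveI := hs
    set C : Subgroup X := _root_.commutator X with hC
    have hCn : C.Normal := inferInstance
    have htop : C ⊔ center X = ⊤ := by
      by_contra hne
      rcases (inferInstance : ((C ⊔ center X).map (QuotientGroup.mk' (center X))).Normal).eq_bot_or_eq_top
 with h | h
      · rw [Subgroup.map_eq_bot_iff, QuotientGroup.ker_mk'] at h
        exact hna ((Subgroup.Normal.quotient_commutative_iff_commutator_le).mpr (le_sup_left.trans h))
      · have := congrArg (comap (QuotientGroup.mk' (center X))) h
        rw [comap_map_eq, QuotientGroup.ker_mk', comap_top, sup_assoc, sup_idem] at this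
        exact hne this
    refine ⟨htop, ?_⟩
    have key : ∀ a b : X, ∀ D : Subgroup X, D ⊔ center X = ⊤ → ⁅a, b⁆ ∈ ⁅D, D⁆ := by
      intro a b D hD
      obtain ⟨a₁, ha₁, z, hz, rfl⟩ := mem_sup_of_normal_right.mp (hD ▸ mem_top a : a ∈ D ⊔ center X)
      obtain ⟨b₁, hb₁, w, hw, rfl⟩ := mem_sup_of_normal_right.mp (hD ▸ mem_top b : b ∈ D ⊔ center X)
      have hz' : ∀ g, g * z = z * g := mem_center_iff.mp hz
      have hw' : ∀ g, g * w = w * g := mem_center_iff.mp hw
      have : ⁅a₁ * z, b₁ * w⁆ = ⁅a₁, b₁⁆ := by
        simp only [commutatorElement_def, mul_inv_rev]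
        calc a₁ * z * (b₁ * w) * (z⁻¹ * a₁⁻¹) * (w⁻¹ * b₁⁻¹)
            = a₁ * (z * (b₁ * w)) * (z⁻¹ * a₁⁻¹) * (w⁻¹ * b₁⁻¹) := by group
          _ = a₁ * ((b₁ * w) * z) * (z⁻¹ * a₁⁻¹) * (w⁻¹ * b₁⁻¹) := by rw [hz']
          _ = a₁ * b₁ * (w * a₁⁻¹) * (w⁻¹ * b₁⁻¹) := by group
          _ = a₁ * b₁ * (a₁⁻¹ * w) * (w⁻¹ * b₁⁻¹) := by rw [hw']
          _ = a₁ * b₁ * a₁⁻¹ * b₁⁻¹ := by group
      rw [this]
      exact commutator_mem_commutator ha₁ hb₁
    have hperf : ⁅C, C⁆ = C := by
      refine le_antisymm (commutator_le_self C) ?_
      rw [hC, _root_.commutator_def, commutator_le]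
      exact fun a _ b _ => key a b C htop
    have hne : C ≠ ⊥ := by
      intro h
      rw [h, bot_sup_eq] at htop
      exact hna ((Subgroup.Normal.quotient_commutative_iff_commutator_le).mpr (by rw [htop]; exact le_top))
    haveI : Nontrivial C := (Subgroup.nontrivial_iff_ne_bot C).mpr hne
    refine isQuasisimple_of_perfect_of_subnormal inferInstance ?_ ?_
    · apply Subgroup.map_injective C.subtype_injective
      rw [map_commutator, ← MonoidHom.range_eq_map, range_subtype, hperf]
    · intro N hN hNt
      have hnorm : (N.map C.subtype ⊔ center X).Normal := by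
        rw [← normalizer_eq_top_iff, eq_top_iff, ← htop]
        refine sup_le ?_ ?_
        · intro g hg
          have h1 : C ≤ normalizer (N.map C.subtype : Set X) := by
            have := le_normalizer_map (H := N) C.subtype
            rwa [normalizer_eq_top, ← MonoidHom.range_eq_map, range_subtype] at this
          exact (normalizer_inf_normalizer_le_normalizer_sup _ _) ⟨h1 hg, by simp [normalizer_eq_top]⟩
        · exact center_le_normalizer _
      rcases (hnorm.map _ (QuotientGroup.mk'_surjective (center X))).eq_bot_or_eq_top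
        with h | h
      · rw [Subgroup.map_eq_bot_iff, QuotientGroup.ker_mk'] at h
        intro x hx
        have hxc : (x : X) ∈ center X := h (le_sup_left (a := N.map C.subtype) (mem_map_of_mem _ hx))
        exact mem_center_iff.mpr fun g => Subtype.ext (mem_center_iff.mp hxc g)
      · exfalso
        have h' := congrArg (comap (QuotientGroup.mk' (center X))) h
        rw [comap_map_eq, QuotientGroup.ker_mk', comap_top, sup_assoc, sup_idem] at h'
        apply hNt
        apply Subgroup.map_injective C.subtype_injective
        rw [← MonoidHom.range_eq_map, range_subtype]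
        refine le_antisymm (map_subtype_le N) ?_
        conv_lhs => rw [hC, _root_.commutator_def]
        rw [commutator_le]
        exact fun a _ b _ => (commutator_le_self _) (key a b _ h'))

end Cfsg.Agent.S1258
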