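import Cfsg.Statements.S1264
import Cfsg.Agent.Components.Structure

set_option autoImplicit false
open Cfsg

namespace Cfsg.Agent.S1264

/-- Let G be finite, C = C_G(F(G)) the centralizer of the Fitting subgroup, and N a solvable subgroup of C normalized by C. Then N ≤ Z(F(G)). -/
theorem result {G : Type*} [Group G] [Finite G] (N : Subgroup G) (hN : N ≤ Subgroup.centralizer (Cfsg.fittingSubgroup G : Set G)) (hnorm : Subgroup.centralizer (Cfsg.fittingSubgroup G : Set G) ≤ Subgroup.normalizer (N : Set G)) (hsolv : Group.IsSolvable ↥N) : N ≤ (Subgroup.center ↥(Cfsg.fittingSubgroup G)).map (Cfsg.fittingSubgroup G).subtype := by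
  open Subgroup Cfsg.Lib.Components in
  exact by
    have hFl : layer G ≤ centralizer (fittingSubgroup G : Set G) :=
      layer_le_centralizer_solvable_normal isSolvable_fitting
    have hNc : N ≤ centralizer (generalizedFittingSubgroup G : Set G) := by
      rw [← commutator_eq_bot_iff_le_centralizer, commutator_comm,
        commutator_eq_bot_iff_le_centralizer]
      refine sup_le (sSup_le fun L hL => ?_) ?_
      · rw [← commutator_eq_bot_iff_le_centralizer]
        exact comp_commute_of_solvable hL hsolv (((comp_le_layer hL).trans hFl).trans hnorm)
      · rw [← commutator_eq_bot_iff_le_centralizer, commutator_comm,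
          commutator_eq_bot_iff_le_centralizer]
        exact hN
    have hcl : generalizedFittingSubgroup G ⊓ centralizer (generalizedFittingSubgroup G : Set G)
        ≤ fittingSubgroup G := by
      haveI := isMulCommutative_inf_centralizer (generalizedFittingSubgroup G)
      exact le_fitting (by
        letI : CommGroup ↥(generalizedFittingSubgroup G ⊓ centralizer (generalizedFittingSubgroup G : Set G)) :=
          { mul_comm := IsMulCommutative.is_comm.comm }
        infer_instance)
    rw [center_map_eq]
    exact le_inf ((le_inf (hNc.trans centralizer_genFitting_le) hNc).trans hcl) hN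

end Cfsg.Agent.S1264
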