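import Cfsg.Statements.S1267
import Cfsg.Agent.Components.LocalBalance

set_option autoImplicit false
open Cfsg

namespace Cfsg.Agent.S1267

/-- Let G be finite and P ≤ O_p(G). Then E(N_G(P)) = E(G). -/
theorem result {G : Type*} [Group G] [Finite G] (p : ℕ) [Fact p.Prime] (P : Subgroup G) (hP : P ≤ Cfsg.pCore p G) : (Cfsg.layer ↥(Subgroup.normalizer ((P : Subgroup G) : Set G))).map (Subgroup.normalizer ((P : Subgroup G) : Set G)).subtype = Cfsg.layer G := by
  open Subgroup Cfsg.Lib.Components in
  exact by
    set H := normalizer (P : Set G) with hH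
    have hPp : IsPGroup p P := (isPGroup_pCore p).to_le hP
    set C := centralizer (pCore p G : Set G) with hC
    haveI hCn : C.Normal := inferInstance
    have hCH : C ≤ H := (centralizer_le (SetLike.coe_subset_coe.mpr hP)).trans (centralizer_le_normalizer _)
    refine le_antisymm ?_ (sSup_le fun L hL => ?_)
    · rw [layer, sSup_eq_iSup, Subgroup.map_iSup]
      refine iSup_le fun K => ?_
      rw [Subgroup.map_iSup]
      refine iSup_le fun hK => ?_
      have h1 : K.map H.subtype ≤ C := local_comp_centralizes hPp (isPGroup_pCore p) hK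
      apply comp_le_layer
      have hle : K ≤ C.subgroupOf H := map_le_iff_le_comap.mp h1
      have h2 := (comp_map_subtype_iff hCn.isSubnormal (K := (K.map H.subtype).subgroupOf C))
      rw [map_subgroupOf_eq_of_le h1] at h2
      rw [h2]
      have hK' := comp_subgroupOf hK hle
      have := comp_map_equiv hK' (subgroupOfEquivOfLe hCH)
      convert this using 1
      ext x
      simp only [mem_subgroupOf, mem_map]
      constructor
      · rintro ⟨y, hy, hyx⟩
        exact ⟨⟨y, show (y : G) ∈ C from h1 ⟨y, hy, rfl⟩⟩, hy, Subtype.ext hyx⟩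
      · rintro ⟨y, hy, rfl⟩
        exact ⟨y, hy, rfl⟩
    · have hLC : L ≤ C := (comp_le_layer hL).trans
        (layer_le_centralizer_solvable_normal
          (haveI := (isPGroup_pCore (G := G) p).isNilpotent; inferInstance))
      rw [← map_subgroupOf_eq_of_le (hLC.trans hCH)]
      exact Subgroup.map_mono (comp_le_layer (comp_subgroupOf hL (hLC.trans hCH)))

end Cfsg.Agent.S1267
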