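import Cfsg.Statements.S1268
import Cfsg.Agent.Components.LocalBalance

set_option autoImplicit false
open Cfsg

namespace Cfsg.Agent.S1268

/-- Let G be finite with F*(G) = O_p(G). Then F*(N) = O_p(N) for N the normalizer of any p-subgroup P of G. -/
theorem result {G : Type*} [Group G] [Finite G] (p : ℕ) [Fact p.Prime] (h : Cfsg.generalizedFittingSubgroup G = Cfsg.pCore p G) (P : Subgroup G) (hP : IsPGroup p ↥P) : Cfsg.generalizedFittingSubgroup ↥(Subgroup.normalizer ((P : Subgroup G) : Set G)) = Cfsg.pCore p ↥(Subgroup.normalizer ((P : Subgroup G) : Set G)) := by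
  open Subgroup Cfsg.Lib.Components in
  exact by
    set H := normalizer (P : Set G) with hH
    obtain ⟨hO, hE⟩ := genFitting_eq_pCore_iff.mp h
    have hCW : centralizer (pCore p G : Set G) ≤ pCore p G := h ▸ centralizer_genFitting_le
    rw [genFitting_eq_pCore_iff]
    have key : ∀ A : Subgroup ↥H, A.map H.subtype ≤ centralizer (pCore p G : Set G) → IsPGroup p A := by
      intro A hA
      exact ((isPGroup_pCore p).to_le (hA.trans hCW)).of_equiv
        (equivMapOfInjective A H.subtype H.subtype_injective).symm
    constructor
    · have h1 := key _ (local_pPrimeCore_centralizes hP (isPGroup_pCore p))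
      have h2 := coprime_pGroup_disjoint h1 (coprime_card_pPrimeCore p)
      rwa [inf_idem] at h2
    · rw [← le_bot_iff]
      refine sSup_le fun K hK => ?_
      haveI := (key _ (local_comp_centralizes hP (isPGroup_pCore p) hK)).isNilpotent
      exact (comp_not_isSolvable hK inferInstance).elim

end Cfsg.Agent.S1268
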