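import Cfsg.Statements.S1271
import Cfsg.Agent.Components.BalanceDelta

set_option autoImplicit false
open Cfsg

namespace Cfsg.Agent.S1271

/-- Let G be finite with O_{p'}(G) = 1. Suppose that for every component L of G and every subgroup H ≥ L in which L is normal, the quotient H / C_H(L) is balanced for the prime p. Then G is balanced for p. -/
theorem result {G : Type*} [Group G] [Finite G] (p : ℕ) [Fact p.Prime] (hO : Cfsg.pPrimeCore p G = ⊥) (h : ∀ L : Subgroup G, Cfsg.IsComponent L → ∀ H : Subgroup G, L ≤ H → (L.subgroupOf H).Normal → ∀ [((Subgroup.centralizer (L : Set G)).subgroupOf H).Normal], Cfsg.IsBalancedFor p (↥H ⧸ (Subgroup.centralizer (L : Set G)).subgroupOf H)) : Cfsg.IsBalancedFor p G := by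
  open Subgroup Cfsg.Lib.Components commutatorElement in
  exact by
    intro x hx
    rw [hO, le_bot_iff]
    have hxp : x ^ p = 1 := by rw [← hx]; exact pow_orderOf_eq_one x
    have hxg : IsPGroup p ↥(zpowers x) := isPGroup_zpowers_of_pow_eq_one hxp
    set X := centralizerPPrimeCore p x
    refine eq_bot_of_centralizes hO (centralizerPPrimeCore_card_coprime x)
      (centralizerPPrimeCore_centralizes hxg (isPGroup_pCore p)) fun L hL => ?_
    rw [← commutator_eq_bot_iff_le_centralizer, commutator_comm]
    by_cases hxL : x ∈ normalizer (L : Set G)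
    swap
    · exact core_commute_of_moved hO hx hL hxL
    by_cases hxc : x ∈ centralizer (L : Set G)
    · exact core_commute_of_centralized hO hxg hL
        fun l hl => mem_centralizer_singleton_iff.mpr (mem_centralizer_iff.mp hxc l hl)
    set M := zpowers x ⊔ X
    set T := L ⊔ M with hT
    have hML : M ≤ normalizer (L : Set G) := sup_le (zpowers_le.mpr hxL)
      fun y hy => mem_compKernel.mp (centralizerPPrimeCore_le_compKernel hO hxg hy) L hL
    have hTL : T ≤ normalizer (L : Set G) := sup_le le_normalizer hML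
    have hn : (L.subgroupOf T).Normal := normal_subgroupOf_of_le_normalizer hTL
    haveI hCn : ((centralizer (L : Set G)).subgroupOf T).Normal :=
      normal_subgroupOf_of_le_normalizer (hTL.trans (normalizer_le_normalizer_centralizer' L))
    set f := QuotientGroup.mk' ((centralizer (L : Set G)).subgroupOf T)
    have hker : ∀ t : ↥T, f t = 1 ↔ (t : G) ∈ centralizer (L : Set G) := fun t =>
      (QuotientGroup.eq_one_iff t).trans mem_subgroupOf
    have hMx : M ≤ centralizer ({x} : Set G) := sup_le
      (zpowers_le.mpr (mem_centralizer_singleton_iff.mpr rfl)) (centralizerPPrimeCore_le_centralizer x)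
    have hxT : x ∈ T := (le_sup_right : M ≤ T) ((le_sup_left : zpowers x ≤ M) (mem_zpowers x))
    have h1 := core_image_le hO hxg hL (M := M) (D := X) hT hMx
      (hMx.trans (centralizer_le_normalizer_centralizerPPrimeCore x)) hML
      ((le_sup_left : zpowers x ≤ M) (mem_zpowers x)) le_rfl le_sup_right f
      (QuotientGroup.mk'_surjective _) hker hxT
    have hord : orderOf (f ⟨x, hxT⟩) = p := by
      refine orderOf_eq_prime ?_ fun h => hxc ((hker _).mp h)
      rw [← map_pow, show (⟨x, hxT⟩ : ↥T) ^ p = 1 from Subtype.ext hxp, map_one]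
    have h2 := h1.trans (h L hL T le_sup_left hn _ hord)
    set O := pPrimeCore p (↥T ⧸ (centralizer (L : Set G)).subgroupOf T)
    set ι : ↥L →* ↥T := Subgroup.inclusion le_sup_left
    set J : Subgroup ↥L := O.comap (f.comp ι) with hJ
    have hJn : J.Normal := Subgroup.Normal.comap inferInstance _
    have hJc : J ≤ center ↥L := by
      rcases qs_subnormal_eq_top_or_le_center hL.2 hJn.isSubnormal with h' | h'
      · exfalso
        have hp1 : p ∣ (center L).index :=
          qs_dvd_index_center hL.2 (comp_center_isPGroup hO hL) (comp_dvd_card hO hL)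
        obtain ⟨S⟩ := (inferInstance : Nonempty (Sylow p ↥L))
        apply S.not_dvd_index
        refine hp1.trans (Subgroup.index_dvd_of_le ?_)
        intro s hs
        obtain ⟨a, ha⟩ := S.2 ⟨s, hs⟩
        have ha' : s ^ p ^ a = 1 := congrArg Subtype.val ha
        have hs1 : f (ι s) ^ p ^ a = 1 := by rw [← map_pow, ← map_pow, ha', map_one, map_one]
        have hsO : f (ι s) ∈ O := show s ∈ J by rw [h']; exact mem_top s
        have hs2 : f (ι s) = 1 := by
          have h3 := pow_gcd_eq_one.mpr ⟨hs1, pow_orderOf_eq_one (f (ι s))⟩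
          rwa [(((coprime_card_pPrimeCore p).coprime_dvd_left
            (Subgroup.orderOf_dvd_natCard O hsO)).symm.pow_left a).gcd_eq_one, pow_one] at h3
        rw [mem_center_iff]
        intro b
        exact Subtype.ext (mem_centralizer_iff.mp ((hker _).mp hs2) (b : G) b.2)
      · exact h'
    apply commutator_eq_bot_of_perfect (comp_perfect hL)
    rw [commutator_eq_bot_iff_le_centralizer, commutator_le]
    intro l hl y hy
    have hyT : y ∈ T := (le_sup_right : M ≤ T) ((le_sup_right : X ≤ M) hy)
    have hcL : ⁅l, y⁆ ∈ L := by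
      rw [commutatorElement_def, mul_assoc, mul_assoc, ← mul_assoc y]
      exact L.mul_mem hl ((mem_normalizer_iff.mp (hTL hyT) _).mp (L.inv_mem hl))
    have hmem : (⟨⁅l, y⁆, hcL⟩ : ↥L) ∈ J := by
      show f (ι ⟨⁅l, y⁆, hcL⟩) ∈ O
      rw [show ι ⟨⁅l, y⁆, hcL⟩ = ⁅ι ⟨l, hl⟩, (⟨y, hyT⟩ : ↥T)⁆ from Subtype.ext rfl, map_commutatorElement]
      exact (commutator_le_right _ O) (commutator_mem_commutator (mem_top _)
        (h2 (mem_map_of_mem f (show (⟨y, hyT⟩ : ↥T) ∈ X.subgroupOf T from hy))))
    exact mem_centralizer_iff.mpr fun b hb =>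
      congrArg Subtype.val (mem_center_iff.mp (hJc hmem) ⟨b, hb⟩)

end Cfsg.Agent.S1271
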