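import Cfsg.Statements.S1273
import Cfsg.Agent.Components.PComponentsExtra

set_option autoImplicit false
open Cfsg

namespace Cfsg.Agent.S1273

/-- Let K be a p-component of the finite group X and N a normal subgroup of K whose index in K is prime to p. Then N = K. -/
theorem result {X : Type*} [Group X] [Finite X] (p : ℕ) [Fact p.Prime] (K : Subgroup X) (hK : Cfsg.IsPComponent p K) (N : Subgroup ↥K) [N.Normal] (hidx : (N.index).Coprime p) : N = ⊤ := by
  open Subgroup Cfsg.Lib.Components in
  exact by
    set q := QuotientGroup.mk' (pPrimeCore p X)
    let f : K →* K.map q := q.subgroupMap K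
    have hf : Function.Surjective f := q.subgroupMap_surjective K
    have hq := hK.2.1.2
    rcases qs_subnormal_eq_top_or_le_center hq
        ((inferInstance : N.Normal).map f hf).isSubnormal with h | h
    · apply Subgroup.map_injective K.subtype_injective
      rw [← MonoidHom.range_eq_map, range_subtype]
      refine hK.2.2 _ (isSubnormal_map_subtype hK.1 (inferInstance : N.Normal).isSubnormal)
        (map_subtype_le N) ?_
      have h' := congrArg (Subgroup.map (K.map q).subtype) h
      rw [map_map, ← MonoidHom.range_eq_map, range_subtype] at h'
      rw [map_map]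
      exact h'
    · exfalso
      have hz := comp_center_isPGroup pPrimeCore_quotient_eq_bot hK.2.1
      have h1 := qs_dvd_index_center hq hz (comp_dvd_card pPrimeCore_quotient_eq_bot hK.2.1)
      have h2 : (center ↥(K.map q)).index ∣ N.index :=
        (Subgroup.index_dvd_of_le h).trans (N.index_map_dvd hf)
      exact (Fact.out : p.Prime).coprime_iff_not_dvd.mp hidx.symm (h1.trans h2)

end Cfsg.Agent.S1273
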