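import Cfsg.Statements.S1276
import Cfsg.Agent.Components.PComponentsExtra

set_option autoImplicit false
open Cfsg

namespace Cfsg.Agent.S1276

/-- Let K be a 2-component of the finite group X. Then K is quasisimple if and only if ⁅K, O(K)⁆ = 1. -/
theorem result {X : Type*} [Group X] [Finite X] (K : Subgroup X) (hK : Cfsg.IsPComponent 2 K) : Cfsg.IsQuasisimple ↥K ↔ ⁅K, ((Cfsg.oddCore ↥K).map K.subtype)⁆ = ⊥ := by
  open Subgroup Cfsg.Lib.Components commutatorElement in
  exact by
    have hOK : (oddCore ↥K).map K.subtype = pPrimeCore 2 X ⊓ K := pPrimeCore_map_subtype_eq hK.1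
    constructor
    · intro hq
      rcases qs_subnormal_eq_top_or_le_center hq
          (pPrimeCore_normal' (G := ↥K) 2).isSubnormal with h | h
      · exfalso
        rw [show oddCore ↥K = ⊤ from h, ← MonoidHom.range_eq_map, range_subtype] at hOK
        exact pcomp_not_le_core hK (hOK.le.trans inf_le_left)
      · conv_lhs => enter [1]; rw [← range_subtype K, MonoidHom.range_eq_map]
        rw [← map_commutator, Subgroup.map_eq_bot_iff, MonoidHom.ker_eq_bot _ K.subtype_injective]
        refine le_of_eq ?_
        rw [commutator_comm, commutator_top_right_eq_bot_iff_le_center]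
        exact h
    · intro hc
      haveI : Nontrivial K := (Subgroup.nontrivial_iff_ne_bot K).mpr (pcomp_ne_bot hK)
      refine isQuasisimple_of_perfect_of_subnormal inferInstance ?_ ?_
      · apply Subgroup.map_injective K.subtype_injective
        rw [map_commutator, ← MonoidHom.range_eq_map, range_subtype, pcomp_perfect hK]
      · intro N hN hNt
        set q := QuotientGroup.mk' (pPrimeCore 2 X)
        let f : K →* K.map q := q.subgroupMap K
        rcases qs_subnormal_eq_top_or_le_center hK.2.1.2
            ((hN.map f (q.subgroupMap_surjective K)).isSubnormal) with h | h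
        · exfalso
          apply hNt
          apply Subgroup.map_injective K.subtype_injective
          rw [← MonoidHom.range_eq_map, range_subtype]
          refine hK.2.2 _ (isSubnormal_map_subtype hK.1 hN.isSubnormal) (map_subtype_le N) ?_
          have h' := congrArg (Subgroup.map (K.map q).subtype) h
          rw [map_map, ← MonoidHom.range_eq_map, range_subtype] at h'
          rw [map_map]; exact h'
        · have h1 : ⁅⁅K, N.map K.subtype⁆, K⁆ = ⊥ := by
            have hle : ⁅K, N.map K.subtype⁆ ≤ pPrimeCore 2 X ⊓ K := by
              refine le_inf ?_ ((commutator_mono le_rfl (map_subtype_le N)).trans (commutator_le_self K))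
              rw [← QuotientGroup.ker_mk' (pPrimeCore 2 X), ← Subgroup.map_eq_bot_iff, map_commutator]
              have hb : ⁅(⊤ : Subgroup ↥(K.map q)), N.map f⁆ = ⊥ := by
                rw [commutator_comm, commutator_top_right_eq_bot_iff_le_center]; exact h
              have h' := congrArg (Subgroup.map (K.map q).subtype) hb
              rw [map_commutator, ← MonoidHom.range_eq_map, range_subtype, map_map, Subgroup.map_bot] at h'
              rw [map_map]; exact h'
            rw [← hOK] at hle
            rw [← le_bot_iff, ← hc, commutator_comm K ((oddCore ↥K).map K.subtype)]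
            exact commutator_mono hle le_rfl
          have h2 := commutator_eq_bot_of_perfect (pcomp_perfect hK) h1
          rw [← commutator_top_right_eq_bot_iff_le_center, commutator_comm]
          apply Subgroup.map_injective K.subtype_injective
          rw [map_commutator, ← MonoidHom.range_eq_map, range_subtype, Subgroup.map_bot, h2]

end Cfsg.Agent.S1276
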