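import Cfsg.Statements.S1277
import Cfsg.Agent.Components.PComponentsExtra

set_option autoImplicit false
open Cfsg

namespace Cfsg.Agent.S1277

/-- For a finite group X with core O(X): the image of E(X) in X / O(X) is all of E(X / O(X)) if and only if every 2-component of X is a component, i.e. L_{2'}(X) ≤ E(X). -/
theorem result {X : Type*} [Group X] [Finite X] : (Cfsg.layer X).map (QuotientGroup.mk' (Cfsg.oddCore X)) = Cfsg.layer (X ⧸ Cfsg.oddCore X) ↔ Cfsg.pLayer 2 X ≤ Cfsg.layer X := by
  open Subgroup Cfsg.Lib.Components in
  exact by
    constructor
    · intro h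
      refine sSup_le fun K hK => pcomp_le_of_image_le hK (Subgroup.Normal.isSubnormal (inferInstance : (layer X).Normal)) ?_
      show K.map (QuotientGroup.mk' (oddCore X)) ≤ (layer X).map (QuotientGroup.mk' (oddCore X))
      rw [h]
      exact comp_le_layer hK.2.1
    · intro h
      refine le_antisymm ?_ ?_
      · rw [layer, sSup_eq_iSup, Subgroup.map_iSup]
        refine iSup_le fun L => ?_
        rw [Subgroup.map_iSup]
        refine iSup_le fun hL => ?_
        rcases comp_map_surjective hL _ (QuotientGroup.mk'_surjective (oddCore X)) with h' | h'
        · rw [h']; exact bot_le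
        · exact comp_le_layer h'
      · rw [← pLayer_map_q]
        exact Subgroup.map_mono h

end Cfsg.Agent.S1277
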