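import Cfsg.Statements.S1278
import Cfsg.Agent.Components.PComponentsExtra

set_option autoImplicit false
open Cfsg

namespace Cfsg.Agent.S1278

/-- Let K ≠ L be 2-components of the finite group X. Then ⁅K, L⁆ ≤ O(K) ⊓ O(L), and if K is quasisimple then ⁅K, L⁆ = 1. -/
theorem result {X : Type*} [Group X] [Finite X] (K L : Subgroup X) (hK : Cfsg.IsPComponent 2 K) (hL : Cfsg.IsPComponent 2 L) (hne : K ≠ L) : ⁅K, L⁆ ≤ ((Cfsg.oddCore ↥K).map K.subtype) ⊓ ((Cfsg.oddCore ↥L).map L.subtype) ∧ (Cfsg.IsQuasisimple ↥K → ⁅K, L⁆ = ⊥) := by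
  open Subgroup Cfsg.Lib.Components commutatorElement in
  exact by
    have hKn : L ≤ normalizer (K : Set X) := (le_sSup hL : L ≤ pLayer 2 X).trans (pLayer_le_normalizer_pcomp hK)
    have hLn : K ≤ normalizer (L : Set X) := (le_sSup hK : K ≤ pLayer 2 X).trans (pLayer_le_normalizer_pcomp hL)
    have hN := pcomp_commute hK hL hne
    have hK' : ⁅K, L⁆ ≤ K := le_normalizer_iff_commutator_le_left.mp hKn
    have hL' : ⁅K, L⁆ ≤ L := le_normalizer_iff_commutator_le_right.mp hLn
    have hOK : (oddCore ↥K).map K.subtype = pPrimeCore 2 X ⊓ K := pPrimeCore_map_subtype_eq hK.1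
    have hOL : (oddCore ↥L).map L.subtype = pPrimeCore 2 X ⊓ L := pPrimeCore_map_subtype_eq hL.1
    refine ⟨by rw [hOK, hOL]; exact le_inf (le_inf hN hK') (le_inf hN hL'), fun hq => ?_⟩
    apply commutator_eq_bot_of_perfect (pcomp_perfect hK)
    rcases qs_subnormal_eq_top_or_le_center hq
        (pPrimeCore_normal' (G := ↥K) 2).isSubnormal with h | h
    · exfalso
      rw [show oddCore ↥K = ⊤ from h, ← MonoidHom.range_eq_map, range_subtype] at hOK
      exact pcomp_not_le_core hK (hOK.le.trans inf_le_left)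
    · rw [← le_bot_iff]
      refine (commutator_mono (le_inf hN hK') le_rfl).trans (le_of_eq ?_)
      rw [← hOK]
      conv_lhs => enter [2]; rw [← range_subtype K, MonoidHom.range_eq_map]
      rw [← map_commutator, Subgroup.map_eq_bot_iff, MonoidHom.ker_eq_bot _ K.subtype_injective,
        le_bot_iff, commutator_top_right_eq_bot_iff_le_center]
      exact h

end Cfsg.Agent.S1278
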