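import Cfsg.Statements.S1286

set_option autoImplicit false
open Cfsg

namespace Cfsg.Agent.S1286

/-- There exist a finite group X, an elementary abelian subgroup A of order 4 and a solvable A-signalizer functor θ on X for the prime 2 which is not complete. -/
theorem result : ∃ (X : Type) (_ : Group X) (_ : Finite X) (A : Subgroup X) (θ : X → Subgroup X), Cfsg.IsElementaryAbelian 2 A ∧ Nat.card ↥A = 4 ∧ Cfsg.IsSolvableSignalizerFunctor 2 A θ ∧ ¬ Cfsg.IsCompleteSignalizerFunctor 2 A θ := by
  open Equiv in
  exact by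
    classical
    let a : Perm (Fin 5) := swap 0 1
    let b : Perm (Fin 5) := swap 2 3
    let x : Perm (Fin 5) := c[2, 3, 4]
    let y : Perm (Fin 5) := c[0, 1, 4]
    let A : Subgroup (Perm (Fin 5)) :=
      { carrier := {1, a, b, a * b}
        one_mem' := Or.inl rfl
        mul_mem' := by
          intro u v hu hv
          simp only [Set.mem_insert_iff, Set.mem_singleton_iff] at hu hv ⊢
          rcases hu with rfl | rfl | rfl | rfl <;> rcases hv with rfl | rfl | rfl | rfl <;> decide
        inv_mem' := by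
          intro u hu
          simp only [Set.mem_insert_iff, Set.mem_singleton_iff] at hu ⊢
          rcases hu with rfl | rfl | rfl | rfl <;> decide }
    let X : Subgroup (Perm (Fin 5)) :=
      { carrier := {1, x, x * x}
        one_mem' := Or.inl rfl
        mul_mem' := by
          intro u v hu hv
          simp only [Set.mem_insert_iff, Set.mem_singleton_iff] at hu hv ⊢
          rcases hu with rfl | rfl | rfl <;> rcases hv with rfl | rfl | rfl <;> decide
        inv_mem' := by
          intro u hu
          simp only [Set.mem_insert_iff, Set.mem_singleton_iff] at hu ⊢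
          rcases hu with rfl | rfl | rfl <;> decide }
    let Y : Subgroup (Perm (Fin 5)) :=
      { carrier := {1, y, y * y}
        one_mem' := Or.inl rfl
        mul_mem' := by
          intro u v hu hv
          simp only [Set.mem_insert_iff, Set.mem_singleton_iff] at hu hv ⊢
          rcases hu with rfl | rfl | rfl <;> rcases hv with rfl | rfl | rfl <;> decide
        inv_mem' := by
          intro u hu
          simp only [Set.mem_insert_iff, Set.mem_singleton_iff] at hu ⊢
          rcases hu with rfl | rfl | rfl <;> decide }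
    have hA : ∀ u, u ∈ A ↔ u = 1 ∨ u = a ∨ u = b ∨ u = a * b := fun u => Iff.rfl
    have hX : ∀ u, u ∈ X ↔ u = 1 ∨ u = x ∨ u = x * x := fun u => Iff.rfl
    have hY : ∀ u, u ∈ Y ↔ u = 1 ∨ u = y ∨ u = y * y := fun u => Iff.rfl
    have hX3 : Nat.card X = 3 := by
      show Nat.card ({1, x, x * x} : Set (Perm (Fin 5))) = 3
      simp only [Nat.card_eq_fintype_card]
      decide
    have hY3 : Nat.card Y = 3 := by
      show Nat.card ({1, y, y * y} : Set (Perm (Fin 5))) = 3
      simp only [Nat.card_eq_fintype_card]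
      decide
    let θ : Perm (Fin 5) → Subgroup (Perm (Fin 5)) := fun g => if g = a then X else if g = b then Y else ⊥
    have hθa : θ a = X := if_pos rfl
    have hθb : θ b = Y := by
      show (if b = a then X else if b = b then Y else ⊥) = Y
      rw [if_neg (by decide), if_pos rfl]
    have hθ : ∀ g ∈ A, g ≠ 1 → (g = a ∧ θ g = X) ∨ (g = b ∧ θ g = Y) ∨ (g = a * b ∧ θ g = ⊥) := by
      intro g hg hg1
      rcases (hA g).1 hg with rfl | rfl | rfl | rfl
      · exact absurd rfl hg1
      · exact Or.inl ⟨rfl, hθa⟩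
      · exact Or.inr (Or.inl ⟨rfl, hθb⟩)
      · refine Or.inr (Or.inr ⟨rfl, ?_⟩)
        show (if a * b = a then X else if a * b = b then Y else ⊥) = ⊥
        rw [if_neg (by decide), if_neg (by decide)]
    have hcomm : ∀ u ∈ A, ∀ v ∈ A, u * v = v * u := by
      intro u hu v hv
      rcases (hA u).1 hu with rfl | rfl | rfl | rfl <;> rcases (hA v).1 hv with rfl | rfl | rfl | rfl <;> decide
    refine ⟨Perm (Fin 5), inferInstance, inferInstance, A, θ, ⟨⟨⟨fun u v => Subtype.ext (hcomm u u.2 v v.2)⟩⟩, ?_⟩,
      ?_, ⟨⟨?_, ?_, ?_, ?_⟩, ?_⟩, ?_⟩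
    · intro u hu
      rcases (hA u).1 hu with rfl | rfl | rfl | rfl <;> decide
    · show Nat.card ({1, a, b, a * b} : Set (Perm (Fin 5))) = 4
      simp only [Nat.card_eq_fintype_card]
      decide
    · intro g hg hg1 u hu
      refine Subgroup.mem_centralizer_singleton_iff.2 ?_
      rcases hθ g hg hg1 with ⟨rfl, e⟩ | ⟨rfl, e⟩ | ⟨rfl, e⟩ <;> rw [e] at hu
      · rcases (hX u).1 hu with rfl | rfl | rfl <;> decide
      · rcases (hY u).1 hu with rfl | rfl | rfl <;> decide
      · rw [Subgroup.mem_bot.1 hu]; simp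
    · intro g hg hg1
      rcases hθ g hg hg1 with ⟨-, e⟩ | ⟨-, e⟩ | ⟨-, e⟩ <;> rw [e]
      · rw [hX3]; decide
      · rw [hY3]; decide
      · rw [Subgroup.card_bot]; decide
    · intro g hg hg1 c hc u hu
      rcases hθ g hg hg1 with ⟨rfl, e⟩ | ⟨rfl, e⟩ | ⟨rfl, e⟩ <;> rw [e] at hu ⊢
      · rw [hX]
        rcases (hX u).1 hu with rfl | rfl | rfl <;> rcases (hA c).1 hc with rfl | rfl | rfl | rfl <;> decide
      · rw [hY]
        rcases (hY u).1 hu with rfl | rfl | rfl <;> rcases (hA c).1 hc with rfl | rfl | rfl | rfl <;> decide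
      · simp [Subgroup.mem_bot.1 hu]
    · intro g hg hg1 c hc hc1 u hu
      obtain ⟨hu, huc⟩ := hu
      have huc' : u * c = c * u := Subgroup.mem_centralizer_singleton_iff.1 huc
      rcases hθ g hg hg1 with ⟨rfl, e⟩ | ⟨rfl, e⟩ | ⟨rfl, e⟩
      · rcases hθ c hc hc1 with ⟨rfl, e'⟩ | ⟨rfl, e'⟩ | ⟨rfl, e'⟩
        · exact hu
        all_goals
          rw [e] at hu
          have h1 : u = 1 := by
            rcases (hX u).1 hu with rfl | rfl | rfl
            · rfl
            all_goals exact absurd huc' (by decide)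
          exact h1 ▸ (θ _).one_mem
      · rcases hθ c hc hc1 with ⟨rfl, e'⟩ | ⟨rfl, e'⟩ | ⟨rfl, e'⟩
        swap
        · exact hu
        all_goals
          rw [e] at hu
          have h1 : u = 1 := by
            rcases (hY u).1 hu with rfl | rfl | rfl
            · rfl
            all_goals exact absurd huc' (by decide)
          exact h1 ▸ (θ _).one_mem
      · rw [e] at hu
        rw [Subgroup.mem_bot.1 hu]
        exact one_mem _
    · intro g hg hg1
      refine Group.isSolvable_of_comm fun u v => Subtype.ext ?_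
      have hu := u.2
      have hv := v.2
      show (u : Perm (Fin 5)) * v = v * u
      generalize (u : Perm (Fin 5)) = u₀ at hu ⊢
      generalize (v : Perm (Fin 5)) = v₀ at hv ⊢
      rcases hθ g hg hg1 with ⟨-, e⟩ | ⟨-, e⟩ | ⟨-, e⟩ <;> rw [e] at hu hv
      · rcases (hX u₀).1 hu with rfl | rfl | rfl <;> rcases (hX v₀).1 hv with rfl | rfl | rfl <;> decide
      · rcases (hY u₀).1 hu with rfl | rfl | rfl <;> rcases (hY v₀).1 hv with rfl | rfl | rfl <;> decide
      · rw [Subgroup.mem_bot.1 hu, Subgroup.mem_bot.1 hv]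
    · rintro ⟨-, W, -, hW, hWeq⟩
      have hxW : x ∈ W := by
        have h : x ∈ θ a := by rw [hθa]; exact (hX x).2 (Or.inr (Or.inl rfl))
        rw [← hWeq a ((hA a).2 (Or.inr (Or.inl rfl))) (by decide)] at h
        exact h.1
      have hyW : y ∈ W := by
        have h : y ∈ θ b := by rw [hθb]; exact (hY y).2 (Or.inr (Or.inl rfl))
        rw [← hWeq b ((hA b).2 (Or.inr (Or.inr (Or.inl rfl)))) (by decide)] at h
        exact h.1
      refine hW ?_
      have hw : x * y * x * y⁻¹ ∈ W := mul_mem (mul_mem (mul_mem hxW hyW) hxW) (inv_mem hyW)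
      have h2 : orderOf (x * y * x * y⁻¹) = 2 := orderOf_eq_prime (by decide) (by decide)
      exact h2 ▸ Subgroup.orderOf_dvd_natCard W hw

end Cfsg.Agent.S1286
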