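import Cfsg.Statements.S1292
import Cfsg.Agent.Components.CharP

set_option autoImplicit false
open Cfsg

namespace Cfsg.Agent.S1292

/-- Let G be a finite group such that F*(C_G(t)) = O_2(C_G(t)) for every involution t. Then F*(N_G(T)) = O_2(N_G(T)) for every nontrivial 2-subgroup T of G. -/
theorem result {G : Type*} [Group G] [Finite G] (h : ∀ t : G, orderOf t = 2 → Cfsg.generalizedFittingSubgroup ↥(Subgroup.centralizer ({t} : Set G)) = Cfsg.pCore 2 ↥(Subgroup.centralizer ({t} : Set G))) (T : Subgroup G) (hT : IsPGroup 2 ↥T) (hT1 : T ≠ ⊥) : Cfsg.generalizedFittingSubgroup ↥(Subgroup.normalizer (T : Set G)) = Cfsg.pCore 2 ↥(Subgroup.normalizer (T : Set G)) := by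
  open Subgroup Cfsg.Lib.Components in
  exact by
    haveI : Fact (Nat.Prime 2) := ⟨Nat.prime_two⟩
    haveI : Nontrivial ↥T := (Subgroup.nontrivial_iff_ne_bot T).mpr hT1
    haveI := hT.center_nontrivial
    obtain ⟨z, hz⟩ := exists_prime_orderOf_dvd_card' (G := ↥(center ↥T)) 2
      ((hT.to_subgroup (center ↥T)).card_eq_or_dvd.resolve_left
        (Finite.one_lt_card (α := ↥(center ↥T))).ne')
    set t : G := ((z : ↥T) : G) with ht
    have hto : orderOf t = 2 := by rw [ht, Subgroup.orderOf_coe, Subgroup.orderOf_coe, hz]
    have htT : T ≤ centralizer ({t} : Set G) := fun u hu => mem_centralizer_singleton_iff.mpr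
      (congrArg Subtype.val (mem_center_iff.mp z.2 ⟨u, hu⟩))
    have hC : zpowers t ≤ T := zpowers_le.mpr (z : ↥T).2
    have hCcent : centralizer ((zpowers t : Subgroup G) : Set G) = centralizer ({t} : Set G) := by
      refine le_antisymm (centralizer_le (Set.singleton_subset_iff.mpr (mem_zpowers t))) ?_
      intro x hx
      rw [mem_centralizer_iff]
      intro y hy
      obtain ⟨k, rfl⟩ := mem_zpowers_iff.mp hy
      exact (Commute.zpow_left (mem_centralizer_singleton_iff.mp hx).symm k)
    have hn : CharPGroup 2 ↥(normalizer ((zpowers t : Subgroup G) : Set G)) := by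
      refine charP_congr (MulEquiv.subgroupCongr ?_) (charP_iff_genFitting.mpr (h t hto))
      refine le_antisymm (hCcent.ge.trans (centralizer_le_normalizer _)) fun x hx => ?_
      -- an element normalizing a group of order two fixes its generator
      have h2 : x * t * x⁻¹ ∈ zpowers t := (mem_normalizer_iff.mp hx t).mp (mem_zpowers t)
      obtain ⟨k, hk⟩ := mem_zpowers_iff.mp h2
      rcases Int.emod_two_eq_zero_or_one k with he | he
      · exfalso
        rw [← zpow_mod_orderOf, hto] at hk
        push_cast at hk
        rw [he, zpow_zero] at hk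
        have : t = 1 := by simpa using hk.symm
        rw [this, orderOf_one] at hto
        omega
      · rw [← zpow_mod_orderOf, hto] at hk
        push_cast at hk
        rw [he, zpow_one] at hk
        rw [mem_centralizer_singleton_iff]
        calc x * t = x * t * x⁻¹ * x := by group
          _ = t * x := by rw [← hk]
    exact charP_iff_genFitting.mp (charP_normalizer_of_normal_in hT hC
      (htT.trans (hCcent.ge.trans (centralizer_le_normalizer _))) hn).1

end Cfsg.Agent.S1292
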