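import Cfsg.Statements.S1295
import Cfsg.Agent.Components.Signalizer.Sft.Equivariant
import Cfsg.Agent.Components.Layer
import Cfsg.Agent.Components.Local
import Cfsg.Agent.Components.PComponents

set_option autoImplicit false
set_option linter.style.haveILetI false
open Cfsg

namespace Cfsg.Agent.S1295

/-- Let G be finite with O_{p'}(G) = 1 and p-rank at least 3, whose reduced rank-2 commuting graph for p is connected. Suppose that for every element a of order p with m_p(C_G(a)) ≥ 3 the p-layer of C_G(a) is trivial and O_{p'}(C_G(a)) is solvable. Then F*(C_G(a)) = O_p(C_G(a)) for every such a. -/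
theorem result {G : Type*} [Group G] [Finite G] (p : ℕ) [Fact p.Prime] (hO : Cfsg.pPrimeCore p G = ⊥) (hrk : ¬ Cfsg.PRankLE p 2 G) (hconn : Cfsg.IsRankGraphConnected p 2 G) (hL : ∀ a : G, (orderOf a = p ∧ ¬ Cfsg.PRankLE p 2 ↥(Subgroup.centralizer ({a} : Set G))) → Cfsg.pLayer p ↥(Subgroup.centralizer ({a} : Set G)) = ⊥ ∧ Group.IsSolvable ↥(Cfsg.centralizerPPrimeCore p a)) (a : G) (ha : (orderOf a = p ∧ ¬ Cfsg.PRankLE p 2 ↥(Subgroup.centralizer ({a} : Set G)))) : Cfsg.generalizedFittingSubgroup ↥(Subgroup.centralizer ({a} : Set G)) = Cfsg.pCore p ↥(Subgroup.centralizer ({a} : Set G)) := by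
  have h0 := Cfsg.Lib.Sft.cores_trivial_of_trivial_pLayers hO hconn hL ha
  rw [Cfsg.centralizerPPrimeCore,
    Subgroup.map_eq_bot_iff_of_injective _ (Subgroup.subtype_injective _)] at h0
  refine Cfsg.Lib.Components.genFitting_eq_pCore_iff.mpr ⟨h0, ?_⟩
  have h1 := Cfsg.Lib.Components.pLayer_map_q (p := p) (G := ↥(Subgroup.centralizer ({a} : Set G)))
  rw [(hL a ha).1, Subgroup.map_bot] at h1
  let e := MulEquiv.ofBijective
    (QuotientGroup.mk' (Cfsg.pPrimeCore p ↥(Subgroup.centralizer ({a} : Set G))))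
    ⟨(MonoidHom.ker_eq_bot_iff _).mp (by rw [QuotientGroup.ker_mk', h0]), QuotientGroup.mk'_surjective _⟩
  have h2 := Cfsg.Lib.Components.layer_map_equiv e
  rw [← h1, Subgroup.map_eq_bot_iff_of_injective (f := e.toMonoidHom) _ e.injective] at h2
  exact h2

end Cfsg.Agent.S1295
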