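import Cfsg.Statements.S1300
import Cfsg.Agent.Components.BalanceDelta

set_option autoImplicit false
open Cfsg

namespace Cfsg.Agent.S1300

/-- For a finite group G, balance in the sense of commuting involutions is the same as 1-balance for the prime 2. -/
theorem result {G : Type*} [Group G] [Finite G] : Cfsg.IsBalanced G ↔ Cfsg.IsKBalanced 2 1 G := by
  open Subgroup Cfsg.Lib.Components in
  exact by
    haveI : Fact (Nat.Prime 2) := ⟨Nat.prime_two⟩
    have hd : ∀ x : G, orderOf x = 2 → signalizerDelta 2 (zpowers x) = centralizerPPrimeCore 2 x := by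
      intro x hx
      have hx1 : x ≠ 1 := fun h => by rw [h, orderOf_one] at hx; omega
      refine le_antisymm (signalizerDelta_le (mem_zpowers x) hx1) fun y hy => ?_
      refine mem_signalizerDelta.mpr fun b hb hb1 => ?_
      obtain ⟨k, rfl⟩ := mem_zpowers_iff.mp hb
      rcases Int.emod_two_eq_zero_or_one k with he | he <;>
        (rw [← zpow_mod_orderOf, hx] at hb1 ⊢; push_cast at hb1 ⊢; rw [he] at hb1 ⊢)
      · simp at hb1
      · rwa [zpow_one]
    constructor
    · intro h A hA hAk b hb hcomm
      rw [pow_one] at hAk
      haveI : Nontrivial ↥A := Finite.one_lt_card_iff_nontrivial.mp (by rw [hAk]; omega)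
      obtain ⟨a, ha⟩ := exists_ne (1 : ↥A)
      have ha1 : (a : G) ≠ 1 := fun h => ha (Subtype.ext h)
      have hao : orderOf (a : G) = 2 := orderOf_eq_prime (hA.2 _ a.2) ha1
      have hA' : A = zpowers (a : G) :=
        (Subgroup.eq_of_le_of_card_ge (zpowers_le.mpr a.2) (by rw [hAk, Nat.card_zpowers, hao])).symm
      rw [hA', hd _ hao, h _ b hao hb (hcomm _ a.2)]
      exact inf_le_left
    · intro h x y hx hy hxy
      have key : ∀ u v : G, orderOf u = 2 → orderOf v = 2 → u * v = v * u →
          centralizerPPrimeCore 2 u ⊓ centralizer {v} ≤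
            centralizerPPrimeCore 2 v ⊓ centralizer {u} := by
        intro u v hu hv huv
        refine le_inf ?_ (inf_le_left.trans (centralizerPPrimeCore_le_centralizer u))
        rw [← hd u hu]
        refine h (zpowers u) ⟨inferInstance, ?_⟩ (by rw [Nat.card_zpowers, hu, pow_one]) v hv ?_
        · intro a ha
          obtain ⟨k, rfl⟩ := mem_zpowers_iff.mp ha
          rw [← zpow_natCast, ← zpow_mul, mul_comm, zpow_mul, zpow_natCast, ← hu, pow_orderOf_eq_one,
            one_zpow]
        · intro a ha
          obtain ⟨k, rfl⟩ := mem_zpowers_iff.mp ha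
          exact (Commute.zpow_left (show Commute u v from huv) k)
      exact le_antisymm (key x y hx hy hxy) (key y x hy hx hxy.symm)

end Cfsg.Agent.S1300
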