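import Cfsg.Statements.S1297
import Cfsg.Agent.Components.BalanceDelta
import Cfsg.Agent.S1300

set_option autoImplicit false
open Cfsg

namespace Cfsg.Agent.S1297

/-- Let G be finite. Suppose that for every involution x, writing C = C_G(x), every component K of C / O(C) has K / Z(K) locally balanced. Then G is balanced. -/
theorem result {G : Type*} [Group G] [Finite G] (h : ∀ x : G, orderOf x = 2 → ∀ K : Subgroup (↥(Subgroup.centralizer ({x} : Set G)) ⧸ Cfsg.oddCore ↥(Subgroup.centralizer ({x} : Set G))), Cfsg.IsComponent K → Cfsg.IsLocallyBalanced (↥K ⧸ Subgroup.center ↥K)) : Cfsg.IsBalanced G := by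
  open Subgroup Cfsg.Lib.Components in
  exact by
    haveI : Fact (Nat.Prime 2) := ⟨Nat.prime_two⟩
    rw [Cfsg.Agent.S1300.result]
    intro A hA hAk b hb hcomm
    refine delta_inf_le le_rfl (fun L hL => isLocallyKBalanced_of_quotient (qs_commutator_top hL.2) ?_)
      hA hAk (fun a ha => mem_centralizer_singleton_iff.mpr (hcomm a ha))
    intro H hH E hE hEk
    rw [pow_one] at hEk
    haveI : Nontrivial ↥E := Finite.one_lt_card_iff_nontrivial.mp (by rw [hEk]; omega)
    obtain ⟨a, ha⟩ := exists_ne (1 : ↥E)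
    have ha1 : (a : ↥H) ≠ 1 := fun h => ha (Subtype.ext h)
    rw [← le_bot_iff, ← h b hb L hL H hH _ (orderOf_eq_prime (hE.2 _ a.2) ha1)]
    exact signalizerDelta_le a.2 ha1

end Cfsg.Agent.S1297
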