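import Cfsg.Statements.S1303
import Cfsg.Agent.Components.Cores
import Cfsg.Agent.Thompson.PComplement

set_option autoImplicit false
open Cfsg

namespace Cfsg.Agent.S1303

/-- The group X = SL(2, 3): it is 2-constrained, O_{2'}(X) = 1, its centre A = Z(X) contains every involution of X = C_X(A), and X has a subgroup of order 3 (normalized by A) not contained in O_{2'}(X). -/
theorem result : Cfsg.IsPConstrained 2 (Matrix.SpecialLinearGroup (Fin 2) (ZMod 3)) ∧ Cfsg.pPrimeCore 2 (Matrix.SpecialLinearGroup (Fin 2) (ZMod 3)) = ⊥ ∧ (∀ t : Matrix.SpecialLinearGroup (Fin 2) (ZMod 3), orderOf t = 2 → t ∈ Subgroup.center (Matrix.SpecialLinearGroup (Fin 2) (ZMod 3))) ∧ ∃ Q : Subgroup (Matrix.SpecialLinearGroup (Fin 2) (ZMod 3)), Nat.card ↥Q = 3 ∧ ¬ (Q ≤ Cfsg.pPrimeCore 2 (Matrix.SpecialLinearGroup (Fin 2) (ZMod 3))) := by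
  open Subgroup in
  exact by
    haveI : Fact (Nat.Prime 2) := ⟨Nat.prime_two⟩
    let SL := Matrix.SpecialLinearGroup (Fin 2) (ZMod 3)
    let Q : Subgroup SL :=
      { carrier := {g | g ^ 4 = 1}
        one_mem' := one_pow 4
        mul_mem' := fun {a b} ha hb =>
          (by decide +kernel : ∀ a b : SL, a ^ 4 = 1 → b ^ 4 = 1 → (a * b) ^ 4 = 1) a b ha hb
        inv_mem' := fun {a} (ha : a ^ 4 = 1) => by
          show a⁻¹ ^ 4 = 1
          rw [inv_pow, ha, inv_one] }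
    haveI hQn : Q.Normal := ⟨fun n (hn : n ^ 4 = 1) g => by
      show (g * n * g⁻¹) ^ 4 = 1
      rw [conj_pow, hn, mul_one, mul_inv_cancel]⟩
    have hQp : IsPGroup 2 Q := fun x => ⟨2, Subtype.ext x.2⟩
    have hcore : Cfsg.pPrimeCore 2 SL = ⊥ := by
      refine sSup_eq_bot.2 ?_
      rintro N ⟨hN, hc⟩
      refine (Subgroup.eq_bot_iff_forall _).2 fun n hn => ?_
      by_contra h1
      have h3 : n ^ 3 = 1 ∨ n ^ 4 = 1 ∨ n ^ 6 = 1 :=
        (by decide +kernel : ∀ n : SL, n ^ 3 = 1 ∨ n ^ 4 = 1 ∨ n ^ 6 = 1) n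
      have hodd : ∀ y ∈ N, y ^ 4 = 1 → y = 1 := fun y hy hy4 =>
        orderOf_eq_one_iff.1 (Nat.eq_one_of_dvd_coprimes (hc.pow_right 2) (orderOf_dvd_natCard N hy)
          (orderOf_dvd_of_pow_eq_one hy4))
      obtain ⟨g, hg4, hg1⟩ := (by decide +kernel : ∀ n : SL, n ≠ 1 →
        ∃ g : SL, ((g * n * g⁻¹ * n⁻¹) ^ 4 = 1 ∧ g * n * g⁻¹ * n⁻¹ ≠ 1) ∨ (n ^ 3) ^ 4 = 1 ∧ n ^ 3 ≠ 1) n h1
        |>.elim fun g hg => hg.elim (fun h => (⟨g, h⟩ : ∃ g : SL, (g * n * g⁻¹ * n⁻¹) ^ 4 = 1 ∧ g * n * g⁻¹ * n⁻¹ ≠ 1))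
          (fun h => absurd (hodd _ (pow_mem hn 3) h.1) h.2)
      exact hg1 (hodd _ (N.mul_mem (hN.conj_mem n hn g) (N.inv_mem hn)) hg4)
    refine ⟨fun P => ?_, hcore, fun t ht => mem_center_iff.2 fun g => ?_, ?_⟩
    · have hQle : Q ≤ Cfsg.pPrimePCore 2 SL := fun q hq => by
        haveI : (Q.map (QuotientGroup.mk' (Cfsg.pPrimeCore 2 SL))).Normal :=
          hQn.map _ (QuotientGroup.mk'_surjective _)
        exact Cfsg.Lib.Components.le_pCore (hQp.map _) (mem_map_of_mem _ hq)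
      haveI : (Q.subgroupOf (Cfsg.pPrimePCore 2 SL)).Normal := hQn.comap _
      have hP : Q.subgroupOf (Cfsg.pPrimePCore 2 SL) ≤ (P : Subgroup _) :=
        Cfsg.Lib.Thompson.le_sylow_of_normal (hQp.of_equiv (subgroupOfEquivOfLe hQle).symm) P
      intro g hg
      refine hQle ?_
      show g ^ 4 = 1
      exact (by decide +kernel : ∀ g : SL, (∀ q : SL, q ^ 4 = 1 → q * g = g * q) → g ^ 4 = 1) g
        fun q hq => mem_centralizer_iff.1 hg q ⟨⟨q, hQle hq⟩, hP hq, rfl⟩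
    · exact (by decide +kernel : ∀ t : SL, t ^ 2 = 1 → ∀ g : SL, g * t = t * g) t
        (orderOf_dvd_iff_pow_eq_one.1 ht.dvd) g
    · let u : SL := ⟨!![1, 1; 0, 1], by simp [Matrix.det_fin_two]⟩
      have hu : orderOf u = 3 := by
        haveI : Fact (Nat.Prime 3) := ⟨Nat.prime_three⟩
        exact orderOf_eq_prime (Subtype.ext (by decide +kernel)) (fun h => absurd (congrArg Subtype.val h) (by decide +kernel))
      refine ⟨zpowers u, by rw [Nat.card_zpowers]; exact hu, fun h => ?_⟩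
      have h2 : u = 1 := mem_bot.1 (hcore ▸ h (mem_zpowers u))
      rw [h2, orderOf_one] at hu
      exact absurd hu (by norm_num)

end Cfsg.Agent.S1303
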