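import Cfsg.Statements.S1313
import Cfsg.Agent.Components.GenFitting

set_option autoImplicit false
open Cfsg

namespace Cfsg.Agent.S1313

/-- For a finite group H, |H| ≤ |F*(H)|!. -/
theorem result {H : Type*} [Group H] [Finite H] : Nat.card H ≤ Nat.factorial (Nat.card ↥(Cfsg.generalizedFittingSubgroup H)) := by
  open Subgroup in
  exact by
    classical
    set F := Cfsg.generalizedFittingSubgroup H with hF
    have hmem : ∀ (g x : H), x ∈ F → x ≠ 1 → g * x * g⁻¹ ∈ F ∧ g * x * g⁻¹ ≠ 1 := fun g x hx hx1 =>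
      ⟨(inferInstance : F.Normal).conj_mem x hx g, fun h => hx1 (by simpa using h)⟩
    let σ : H →* Equiv.Perm {x : H // x ∈ F ∧ x ≠ 1} := MonoidHom.mk'
      (fun g =>
        { toFun := fun x => ⟨g * x * g⁻¹, hmem g x x.2.1 x.2.2⟩
          invFun := fun x => ⟨g⁻¹ * x * g⁻¹⁻¹, hmem g⁻¹ x x.2.1 x.2.2⟩
          left_inv := fun x => Subtype.ext (by simp [mul_assoc])
          right_inv := fun x => Subtype.ext (by simp [mul_assoc]) })
      (fun a b => Equiv.ext fun x => Subtype.ext (by simp [mul_assoc]))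
    have hker : σ.ker ≤ F := fun g hg => Cfsg.Lib.Components.centralizer_genFitting_le
      (mem_centralizer_iff.2 fun y hy => by
        by_cases hy1 : y = 1
        · simp [hy1]
        have h : g * y * g⁻¹ = y := congrArg Subtype.val (Equiv.ext_iff.1 (MonoidHom.mem_ker.1 hg) ⟨y, hy, hy1⟩)
        exact (mul_inv_eq_iff_eq_mul.1 h).symm)
    have hn : Nat.card {x : H // x ∈ F ∧ x ≠ 1} + 1 = Nat.card F := by
      have e : {x : H // x ∈ F ∧ x ≠ 1} ≃ {x : F // x ≠ 1} :=
        { toFun := fun x => ⟨⟨x, x.2.1⟩, fun h => x.2.2 (congrArg Subtype.val h)⟩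
          invFun := fun x => ⟨x.1, x.1.2, fun h => x.2 (Subtype.ext h)⟩
          left_inv := fun x => rfl
          right_inv := fun x => rfl }
      haveI := Fintype.ofFinite F
      have h1 : 0 < Fintype.card F := Fintype.card_pos
      rw [Nat.card_congr e, Nat.card_eq_fintype_card, Nat.card_eq_fintype_card,
        Fintype.card_subtype_compl, Fintype.card_subtype_eq]
      omega
    have h1 : Nat.card H = σ.ker.index * Nat.card σ.ker := (σ.ker.index_mul_card).symm
    have h2 : σ.ker.index ≤ Nat.factorial (Nat.card {x : H // x ∈ F ∧ x ≠ 1}) := by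
      rw [index_ker, ← Nat.card_perm]
      exact card_le_card_group _
    rw [h1, ← hn, Nat.factorial_succ, mul_comm]
    refine Nat.mul_le_mul ?_ h2
    rw [hn]
    exact card_le_of_le hker

end Cfsg.Agent.S1313
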