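import Cfsg.Statements.S1315
import Cfsg.Agent.Components.TwoCompPair.PartOne

set_option autoImplicit false
open Cfsg

namespace Cfsg.Agent.S1315

/-- Let G be finite and J ≠ K subgroups, each containing exactly one involution, z(J) resp. z(K), each a 2-component of the centralizer of its involution, with J / O(J) and K / O(K) both isomorphic to SL(2, F) for one finite field F of odd order, or both non-split double covers of A7. Then (i) every 2-element of K of order at least 4 centralizing z(J) normalizes J; (ii) if z(J) normalizes K then z(K) normalizes J. -/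
theorem result {G : Type*} [Group G] [Finite G] (J K : Subgroup G) (hJK : J ≠ K) (zJ zK : G) (hzJ : zJ ∈ J ∧ orderOf zJ = 2 ∧ ∀ t ∈ J, orderOf t = 2 → t = zJ) (hzK : zK ∈ K ∧ orderOf zK = 2 ∧ ∀ t ∈ K, orderOf t = 2 → t = zK) (hJ : J ≤ Subgroup.centralizer ({zJ} : Set G) ∧ Cfsg.IsPComponent 2 (J.subgroupOf (Subgroup.centralizer ({zJ} : Set G)))) (hK : K ≤ Subgroup.centralizer ({zK} : Set G) ∧ Cfsg.IsPComponent 2 (K.subgroupOf (Subgroup.centralizer ({zK} : Set G)))) (htype : (∃ (F : Type) (_ : Field F) (_ : Fintype F), Odd (Fintype.card F) ∧ Nonempty (↥J ⧸ Cfsg.oddCore ↥J ≃* Matrix.SpecialLinearGroup (Fin 2) F) ∧ Nonempty (↥K ⧸ Cfsg.oddCore ↥K ≃* Matrix.SpecialLinearGroup (Fin 2) F)) ∨ (Cfsg.IsNonsplitDoubleCover (↥J ⧸ Cfsg.oddCore ↥J) ↥(alternatingGroup (Fin 7)) ∧ Cfsg.IsNonsplitDoubleCover (↥K ⧸ Cfsg.oddCore ↥K) ↥(alternatingGroup (Fin 7)))) : (∀ y ∈ K, IsPGroup 2 ↥(Subgroup.zpowers y) → 4 ≤ orderOf y → y *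 zJ = zJ * y → y ∈ Subgroup.normalizer (J : Set G)) ∧ (zJ ∈ Subgroup.normalizer (K : Set G) → zK ∈ Subgroup.normalizer (J : Set G)) := by
  open Subgroup Cfsg.Lib.TwoCompPair in
  exact by
    have tJ : TC zJ J := ⟨hJ.1, hJ.2, hzJ.1, hzJ.2.1, hzJ.2.2⟩
    have tK : TC zK K := ⟨hK.1, hK.2, hzK.1, hzK.2.1, hzK.2.2⟩
    have hq : Nat.card (↥J ⧸ Cfsg.oddCore ↥J) = Nat.card (↥K ⧸ Cfsg.oddCore ↥K) := by
      rcases htype with ⟨F, _, _, -, ⟨e₁⟩, ⟨e₂⟩⟩ | ⟨⟨c₁, ⟨e₁⟩, -⟩, ⟨c₂, ⟨e₂⟩, -⟩⟩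
      · rw [Nat.card_congr e₁.toEquiv, Nat.card_congr e₂.toEquiv]
      · rw [Subgroup.card_eq_card_quotient_mul_card_subgroup (Subgroup.center (↥J ⧸ Cfsg.oddCore ↥J)),
          Subgroup.card_eq_card_quotient_mul_card_subgroup (Subgroup.center (↥K ⧸ Cfsg.oddCore ↥K)),
          Nat.card_congr e₁.toEquiv, Nat.card_congr e₂.toEquiv, c₁, c₂]
    have hfac : ∀ H : Subgroup G, (Nat.card H).factorization 2 =
        (Nat.card (↥H ⧸ Cfsg.oddCore ↥H)).factorization 2 := by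
      intro H
      have h2 : ¬ 2 ∣ Nat.card (Cfsg.oddCore ↥H) := Nat.prime_two.coprime_iff_not_dvd.1
        (Cfsg.Lib.Components.coprime_card_pPrimeCore (G := H) 2).symm
      rw [Subgroup.card_eq_card_quotient_mul_card_subgroup (Cfsg.oddCore ↥H),
        Nat.factorization_mul Nat.card_pos.ne' Nat.card_pos.ne', Finsupp.add_apply,
        Nat.factorization_eq_zero_of_not_dvd h2, add_zero]
    exact ⟨fun y hy hy2 h4 hyz => part_one tJ tK (by rw [hfac J, hfac K, hq]) hy hy2 h4 hyz,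
      fun hz => part_two tJ tK hz⟩

end Cfsg.Agent.S1315
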