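import Cfsg.Statements.S1316
import Cfsg.Agent.Components.Structure

set_option autoImplicit false
open Cfsg

namespace Cfsg.Agent.S1316

/-- For a finite group X, E(X) equals the intersection of the derived series of F*(X) (its last term). -/
theorem result {X : Type*} [Group X] [Finite X] : (⨅ n : ℕ, (derivedSeries ↥(Cfsg.generalizedFittingSubgroup X) n).map (Cfsg.generalizedFittingSubgroup X).subtype) = Cfsg.layer X := by
  open Subgroup Cfsg.Lib.Components in
  exact by
    set F := generalizedFittingSubgroup X with hF
    set D : ℕ → Subgroup X := fun n => (derivedSeries ↥F n).map F.subtype with hD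
    have hstep : ∀ n, D (n + 1) = ⁅D n, D n⁆ := fun n => by
      simp [hD, derivedSeries_succ, map_commutator]
    have h0 : D 0 = F := by simp [hD, ← MonoidHom.range_eq_map]
    have hge : ∀ n, layer X ≤ D n := by
      intro n
      induction n with
      | zero => rw [h0]; exact layer_le_genFitting
      | succ n ih => rw [hstep, ← layer_perfect (G := X)]; exact commutator_mono ih ih
    refine le_antisymm ?_ (le_iInf hge)
    let q := QuotientGroup.mk' (layer X)
    haveI : Group.IsSolvable ↥((fittingSubgroup X).map q) :=
      haveI := isSolvable_fitting (G := X)
      solvable_of_surjective (q.subgroupMap_surjective (fittingSubgroup X))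
    obtain ⟨n, hn⟩ := (inferInstance : Group.IsSolvable ↥((fittingSubgroup X).map q)).solvable
    have hFq : F.map q = (fittingSubgroup X).map q := by
      rw [hF, generalizedFittingSubgroup, Subgroup.map_sup, QuotientGroup.map_mk'_self, bot_sup_eq]
    have key : ∀ k, (D k).map q ≤ (derivedSeries ↥((fittingSubgroup X).map q) k).map
        ((fittingSubgroup X).map q).subtype := by
      intro k
      induction k with
      | zero => rw [h0, derivedSeries_zero, ← MonoidHom.range_eq_map, range_subtype, hFq]
      | succ k ih =>
        rw [hstep, map_commutator, derivedSeries_succ, map_commutator]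
        exact commutator_mono ih ih
    have h1 := key n
    rw [hn, Subgroup.map_bot, le_bot_iff, Subgroup.map_eq_bot_iff, QuotientGroup.ker_mk'] at h1
    exact (iInf_le D n).trans h1

end Cfsg.Agent.S1316
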