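import Cfsg.Statements.S1319
import Cfsg.Agent.Components.Structure

set_option autoImplicit false
open Cfsg

namespace Cfsg.Agent.S1319

/-- Let A be a subnormal subgroup of the finite group X with E(A) = A. Then A ≤ E(X) and A is normal in E(X). -/
theorem result {X : Type*} [Group X] [Finite X] (A : Subgroup X) (hsn : A.IsSubnormal) (hA : Cfsg.layer ↥A = ⊤) : A ≤ Cfsg.layer X ∧ (A.subgroupOf (Cfsg.layer X)).Normal := by
  open Subgroup Cfsg.Lib.Components in
  exact by
    have hle : A ≤ layer X := by
      have := (layer_map_subtype_le hsn).trans inf_le_left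
      rwa [hA, ← MonoidHom.range_eq_map, range_subtype] at this
    refine ⟨hle, normal_subgroupOf_of_le_normalizer ?_⟩
    have hA' : A = sSup {L | IsComponent L ∧ L ≤ A} := by
      refine le_antisymm ?_ (sSup_le fun L hL => hL.2)
      conv_lhs => rw [← range_subtype A, MonoidHom.range_eq_map, ← hA, layer, sSup_eq_iSup, Subgroup.map_iSup]
      refine iSup_le fun K => ?_
      rw [Subgroup.map_iSup]
      exact iSup_le fun hK => le_sSup ⟨(comp_map_subtype_iff hsn).mpr hK, map_subtype_le K⟩
    intro g hg
    rw [mem_normalizer_iff_map_conj_eq, hA', sSup_eq_iSup, Subgroup.map_iSup]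
    refine iSup_congr fun L => ?_
    rw [Subgroup.map_iSup]
    exact iSup_congr fun hL => mem_normalizer_iff_map_conj_eq.mp (comp_normal_in_layer hL.1 hg)

end Cfsg.Agent.S1319
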