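import Cfsg.Statements.S1321
import Cfsg.Agent.Components.Quasisimple
import Cfsg.Agent.Components.Layer
import Cfsg.Agent.Transfer.Basic
import Cfsg.Agent.Coprime.Action

set_option autoImplicit false
open Cfsg
open scoped commutatorElement

namespace Cfsg.Agent.S1321

/-- Let X be finite and U ≤ X. Then E(X) is generated by C_{E(X)}(U) together with ⁅E(X), U⁆ (indeed it is their product, ⁅E(X), U⁆ being normal in E(X)). -/
theorem result {X : Type*} [Group X] [Finite X] (U : Subgroup X) : Cfsg.layer X = (Cfsg.layer X ⊓ Subgroup.centralizer (U : Set X)) ⊔ ⁅Cfsg.layer X, U⁆ ∧ ⁅Cfsg.layer X, U⁆ ≤ Cfsg.layer X := by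
  set E := layer X with hE
  haveI hEn : E.Normal := Subgroup.normalizer_eq_top_iff.1 (top_le_iff.1 (by
    intro g _
    refine Cfsg.Lib.Transfer.map_conj_eq_self_iff.1 ?_
    exact Cfsg.Lib.Components.layer_map_equiv (MulAut.conj g)))
  have hle : ⁅E, U⁆ ≤ E := Subgroup.commutator_le_left E U
  refine ⟨le_antisymm ?_ (sup_le inf_le_left hle), hle⟩
  refine sSup_le fun L hL => ?_
  have hLE : L ≤ E := Cfsg.Lib.Components.comp_le_layer hL
  set N := ⁅E, U⁆ with hN
  haveI hNn : (N.subgroupOf E).Normal :=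
    Subgroup.normal_subgroupOf_of_le_normalizer (Cfsg.Lib.Coprime.le_normalizer_commutator_left U E)
  have hNs : N.IsSubnormal := by
    have h := Subgroup.IsSubnormal.trans' hNn.isSubnormal hEn.isSubnormal
    rwa [Subgroup.map_subgroupOf_eq_of_le hle] at h
  rcases Cfsg.Lib.Components.comp_le_or_commute hL hNs with h | h
  · exact h.trans le_sup_right
  refine le_sup_of_le_left (le_inf hLE ?_)
  have hNL : N ≤ Subgroup.centralizer (L : Set X) :=
    Subgroup.commutator_eq_bot_iff_le_centralizer.1 (by rw [Subgroup.commutator_comm]; exact h)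
  intro l hl
  refine Subgroup.mem_centralizer_iff.2 fun u hu => ?_
  have hc : ∀ a ∈ L, ⁅a, u⁆ ∈ Subgroup.centralizer (L : Set X) := fun a ha =>
    hNL (Subgroup.commutator_mem_commutator (hLE ha) hu)
  let f : L →* Subgroup.centralizer (L : Set X) :=
    MonoidHom.mk' (fun a => ⟨⁅(a : X), u⁆⁻¹, inv_mem (hc a a.2)⟩) fun a b => Subtype.ext (by
      show ⁅(a : X) * b, u⁆⁻¹ = ⁅(a : X), u⁆⁻¹ * ⁅(b : X), u⁆⁻¹
      have h1 : (a : X) * ⁅(b : X), u⁆ = ⁅(b : X), u⁆ * a :=
        Subgroup.mem_centralizer_iff.1 (hc b b.2) a a.2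
      have h2 : ⁅(a : X) * b, u⁆ = (a : X) * ⁅(b : X), u⁆ * (a : X)⁻¹ * ⁅(a : X), u⁆ := by
        simp [commutatorElement_def, mul_assoc]
      rw [h2, h1, mul_inv_cancel_right, mul_inv_rev])
  by_cases hconj : L.map (MulAut.conj u).toMonoidHom = L
  · have hcen : ∀ a : L, f a ∈ (L ⊓ Subgroup.centralizer (L : Set X)).subgroupOf _ := fun a => by
      refine Subgroup.mem_inf.2 ⟨inv_mem ?_, (f a).2⟩
      rw [commutatorElement_def, mul_assoc, mul_assoc, ← mul_assoc u]
      exact mul_mem a.2 (hconj.le ⟨(a : X)⁻¹, inv_mem a.2, rfl⟩)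
    have htop : f.ker = ⊤ := by
      rw [eq_top_iff]
      have hp : ⁅(⊤ : Subgroup L), (⊤ : Subgroup L)⁆ = ⊤ := by
        apply Subgroup.map_injective L.subtype_injective
        rw [Subgroup.map_commutator, ← MonoidHom.range_eq_map, Subgroup.range_subtype]
        exact Cfsg.Lib.Components.comp_perfect hL
      rw [← hp, Subgroup.commutator_le]
      intro a _ b _
      show f ⁅a, b⁆ = 1
      rw [map_commutatorElement, commutatorElement_eq_one_iff_mul_comm]
      exact Subtype.ext (Subgroup.mem_centralizer_iff.1 (f b).2 _ (hcen a).1)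
    have h1 : (f ⟨l, hl⟩ : X) = 1 := congrArg Subtype.val
      (show f ⟨l, hl⟩ = 1 from MonoidHom.mem_ker.1 (by rw [htop]; trivial))
    have h2 : ⁅l, u⁆ = 1 := inv_eq_one.1 h1
    exact (commutatorElement_eq_one_iff_mul_comm.1 h2).symm
  · exfalso
    set L' := L.map (MulAut.conj u).toMonoidHom
    have hL' : IsComponent L' := Cfsg.Lib.Components.comp_conj hL u
    have hcomm := Subgroup.commutator_eq_bot_iff_le_centralizer.1
      (Cfsg.Lib.Components.comp_commute hL' hL hconj)
    refine Cfsg.Lib.Components.comp_not_isMulCommutative hL ⟨⟨fun a b => Subtype.ext ?_⟩⟩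
    have hbL' : u * (b : X)⁻¹ * u⁻¹ ∈ Subgroup.centralizer (L : Set X) :=
      hcomm ⟨(b : X)⁻¹, inv_mem b.2, rfl⟩
    have hb : (b : X) ∈ Subgroup.centralizer (L : Set X) := by
      have h1 := mul_mem (hc b b.2) (inv_mem hbL')
      rwa [commutatorElement_def, show (b : X) * u * (b : X)⁻¹ * u⁻¹ * (u * (b : X)⁻¹ * u⁻¹)⁻¹ = b by
        simp [mul_assoc]] at h1
    exact Subgroup.mem_centralizer_iff.1 hb a a.2

end Cfsg.Agent.S1321
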