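import Cfsg.Statements.S1329
import Cfsg.Agent.Coprime.CommutatorFixedGeneration
import Cfsg.Agent.S0205

set_option autoImplicit false
open Cfsg

namespace Cfsg.Agent.S1329

/-- Let A be an abelian 2-subgroup of the finite group G, B ≤ A, and Y a subgroup of odd order normalized by A with ⁅Y, A⁆ = Y. Then Y ∩ C_G(B) is generated by the subgroups Y ∩ C_G(B) ∩ ⁅Y ∩ C_G(B₀), A⁆, B₀ ranging over the subgroups of B with B / B₀ cyclic. -/
theorem result {G : Type*} [Group G] [Finite G] (A B Y : Subgroup G) (hA2 : IsPGroup 2 ↥A) (hAc : IsMulCommutative ↥A) (hB : B ≤ A) (hYodd : Odd (Nat.card ↥Y)) (hAY : A ≤ Subgroup.normalizer (Y : Set G)) (hYA : ⁅Y, A⁆ = Y) : Y ⊓ Subgroup.centralizer (B : Set G) = ⨆ B₀ : {B₀ : Subgroup G // B₀ ≤ B ∧ ∀ [(B₀.subgroupOf B).Normal], IsCyclic (↥B ⧸ B₀.subgroupOf B)}, Y ⊓ Subgroup.centralizer (B : Set G) ⊓ ⁅Y ⊓ Subgroup.centralizer ((B₀ : Subgroup G) : Set G), A⁆ := by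
  haveI := hAc
  have hcop : (Nat.card A).Coprime (Nat.card Y) := by
    obtain ⟨k, hk⟩ := (IsPGroup.iff_card (p := 2)).mp hA2
    rw [hk]
    exact Nat.Coprime.pow_left k (Nat.coprime_two_left.mpr hYodd)
  have h : Cfsg.Lib.CommFixedGen.Setup A B Y := ⟨hAc, hB, hAY, hcop, hYA⟩
  have hkey := h.fixed_eq_gen (Cfsg.Agent.S0205.result (G := ↥Y) hYodd)
  refine le_antisymm ?_ (iSup_le fun _ => inf_le_left)
  rw [hkey]
  refine iSup₂_le fun C hC => ?_
  obtain ⟨hCB, b, hb, hgen⟩ := hC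
  refine le_iSup_of_le (⟨C, hCB, ?_⟩ : {B₀ : Subgroup G // B₀ ≤ B ∧ ∀ [(B₀.subgroupOf B).Normal], IsCyclic (↥B ⧸ B₀.subgroupOf B)}) ?_
  · intro hn
    refine ⟨⟨QuotientGroup.mk ⟨b, hb⟩, fun q => ?_⟩⟩
    induction q using QuotientGroup.induction_on with
    | H x => ?_
    have hx : (x : G) ∈ C ⊔ Subgroup.zpowers b := hgen.ge x.2
    have hle : C ⊔ Subgroup.zpowers b ≤
        ((Subgroup.zpowers (QuotientGroup.mk ⟨b, hb⟩ : ↥B ⧸ C.subgroupOf B)).comap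
          (QuotientGroup.mk' (C.subgroupOf B))).map B.subtype := by
      refine sup_le (fun c hc => ⟨⟨c, hCB hc⟩, ?_, rfl⟩) ?_
      · rw [SetLike.mem_coe, Subgroup.mem_comap]
        have h1 : QuotientGroup.mk' (C.subgroupOf B) (⟨c, hCB hc⟩ : ↥B) = 1 :=
          (QuotientGroup.eq_one_iff _).mpr (Subgroup.mem_subgroupOf.mpr hc)
        rw [h1]
        exact one_mem _
      · rw [Subgroup.zpowers_le]
        exact ⟨⟨b, hb⟩, Subgroup.mem_zpowers _, rfl⟩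
    obtain ⟨y, hy, hyx⟩ := hle hx
    rw [show y = x from Subtype.ext hyx] at hy
    exact hy
  · rw [← hkey]

end Cfsg.Agent.S1329
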