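import Cfsg.Statements.S1335
import Cfsg.Agent.InvolCalc.StronglyEmbedded

set_option autoImplicit false
open Cfsg

namespace Cfsg.Agent.S1335

/-- Let H be a subgroup of the finite group G, p a prime, k ≥ 1, P a Sylow p-subgroup of H of p-rank at least k, and suppose N_G(X) ≤ H for every subgroup X ≤ P of p-rank at least k. Then P is a Sylow p-subgroup of G. -/
theorem result {G : Type*} [Group G] [Finite G] {p : ℕ} [Fact p.Prime] (k : ℕ) (hk : 1 ≤ k) (H : Subgroup G) (P : Sylow p ↥H) (hP : ¬ Cfsg.PRankLE p (k - 1) ↥(P : Subgroup ↥H)) (hΓ : (∀ X : Subgroup G, X ≤ (P : Subgroup ↥H).map H.subtype → ¬ Cfsg.PRankLE p (k - 1) ↥X → Subgroup.normalizer (X : Set G) ≤ H)) : ∃ Q : Sylow p G, (Q : Subgroup G) = (P : Subgroup ↥H).map H.subtype := by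
  open Subgroup in
  exact by
    refine Cfsg.Lib.StrongEmb.sylow_of_normalizer_le (P.2.map H.subtype) H (map_subtype_le _)
      (fun Y hY hPY hYH => ?_) (hΓ _ le_rfl ?_)
    · have h1 : (P : Subgroup H) ≤ Y.subgroupOf H := fun x hx => hPY ⟨x, hx, rfl⟩
      rw [← P.3 hY.comap_subtype h1]
      exact (map_subgroupOf_eq_of_le hYH).symm
    · intro h
      refine hP fun A hA hA2 => ?_
      let f := (P : Subgroup H).equivMapOfInjective H.subtype H.subtype_injective
      have := h (A.map f.toMonoidHom) inferInstance (by rintro _ ⟨a, ha, rfl⟩; rw [← map_pow, hA2 a ha, map_one])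
      rwa [card_map_of_injective f.injective] at this

end Cfsg.Agent.S1335
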