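import Cfsg.Statements.S1343
import Cfsg.Agent.Components.Misc.Extended
import Cfsg.Agent.S0542

set_option autoImplicit false
open Cfsg

namespace Cfsg.Agent.S1343

/-- Let X be finite. Then L*_{2'}(X) = L_{2'}(X) ⊔ F for some subgroup F of odd order normalized by a Sylow 2-subgroup of X. -/
theorem result {X : Type*} [Group X] [Finite X] : ∃ F : Subgroup X, Odd (Nat.card ↥F) ∧ (∃ S : Sylow 2 X, (S : Subgroup X) ≤ Subgroup.normalizer (F : Set X)) ∧ Cfsg.extendedTwoLayer X = Cfsg.pLayer 2 X ⊔ F := by
  open Subgroup Cfsg.Lib.Components in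
  exact by
    haveI : Fact (Nat.Prime 2) := ⟨Nat.prime_two⟩
    haveI : (pPrimePCore 2 X).Normal := (pCore_normal' 2).comap _
    haveI : (oddCore X).Normal := inferInstanceAs (pPrimeCore 2 X).Normal
    set M := pLayer 2 X ⊔ pPrimePCore 2 X
    haveI hMn : M.Normal := sup_normal _ _
    obtain ⟨S⟩ := (inferInstance : Nonempty (Sylow 2 X))
    obtain ⟨T, hT⟩ := Cfsg.Agent.S0542.result 2 M hMn.isSubnormal S
    set T' := (T : Subgroup M).map M.subtype with hT'
    have hTe : T' = (S : Subgroup X) ⊓ M := by rw [hT', hT, subgroupOf_map_subtype]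
    refine ⟨oddCore X ⊔ oddCoreCent T', ?_, ⟨S, ?_⟩, ?_⟩
    · have h := card_sup_dvd_mul (oddCore X) (oddCoreCent T')
      have h1 : (Nat.card (oddCore X)).Coprime 2 := coprime_card_pPrimeCore 2
      have h2 : (Nat.card (oddCoreCent T')).Coprime 2 := by
        show (Nat.card ↥((oddCore ↥(centralizer (T' : Set X))).map _)).Coprime 2
        rw [card_map_of_injective (centralizer (T' : Set X)).subtype_injective]
        exact coprime_card_pPrimeCore 2
      exact Nat.coprime_two_right.1 ((h1.mul_left h2).coprime_dvd_left h)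
    · intro s hs
      have hsT : T'.map (MulAut.conj s).toMonoidHom = T' := by
        refine eq_of_le_of_card_ge ?_ (card_map_of_injective (MulEquiv.injective _)).ge
        rw [hTe]
        rintro _ ⟨t, ⟨ht1, ht2⟩, rfl⟩
        exact ⟨(S : Subgroup X).mul_mem ((S : Subgroup X).mul_mem hs ht1) ((S : Subgroup X).inv_mem hs),
          hMn.conj_mem t ht2 s⟩
      have hle : (oddCore X ⊔ oddCoreCent T').map (MulAut.conj s).toMonoidHom ≤ oddCore X ⊔ oddCoreCent T' := by
        rw [Subgroup.map_sup]
        refine sup_le_sup ?_ ?_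
        · rintro _ ⟨o, ho, rfl⟩
          exact Normal.conj_mem inferInstance o ho s
        · exact (map_conj_oddCoreCent_le T' s).trans (le_of_eq (by rw [hsT]))
      exact mem_normalizer_iff_map_conj_eq.2 (eq_of_le_of_card_ge hle (card_map_of_injective (MulEquiv.injective _)).ge)
    · rw [extendedTwoLayer_eq T, sup_assoc]

end Cfsg.Agent.S1343
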