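import Cfsg.Statements.S1344
import Cfsg.Agent.Components.Misc.Extended
import Cfsg.Agent.S0542
import Cfsg.Agent.Components.PComponentsExtra
import Cfsg.Agent.Transfer.Abelian

set_option autoImplicit false
open Cfsg

namespace Cfsg.Agent.S1344

/-- Let K be a 2-component of the finite group X. Then K ≤ L*_{2'}(X) and K is normal in L*_{2'}(X). -/
theorem result {X : Type*} [Group X] [Finite X] (K : Subgroup X) (hK : Cfsg.IsPComponent 2 K) : K ≤ Cfsg.extendedTwoLayer X ∧ (K.subgroupOf (Cfsg.extendedTwoLayer X)).Normal := by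
  open Subgroup Cfsg.Lib.Components in
  open scoped commutatorElement in
  exact by
    haveI : Fact (Nat.Prime 2) := ⟨Nat.prime_two⟩
    haveI : (pPrimePCore 2 X).Normal := (pCore_normal' 2).comap _
    set M := pLayer 2 X ⊔ pPrimePCore 2 X
    have hKL : K ≤ pLayer 2 X := le_sSup hK
    have hle : K ≤ Cfsg.extendedTwoLayer X := hKL.trans (le_sup_left.trans le_sup_left)
    refine ⟨hle, (normal_subgroupOf_iff_le_normalizer hle).2 ?_⟩
    refine sup_le (sup_le (pLayer_le_normalizer_pcomp hK) (pPrimeCore_le_normalizer_pcomp hK)) (iSup_le fun T => ?_)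
    rintro _ ⟨c, -, rfl⟩
    set c' : X := (c : X)
    have hc : ∀ t ∈ (T : Subgroup M).map M.subtype, t * c' = c' * t := fun t ht => mem_centralizer_iff.1 c.2 t ht
    by_contra hn
    have hn' : K.map (MulAut.conj c').toMonoidHom ≠ K := fun h => hn (mem_normalizer_iff_map_conj_eq.2 h)
    have hcomm := pcomp_commute hK (pcomp_conj hK c') (Ne.symm hn')
    have hKM : K ≤ M := hKL.trans le_sup_left
    obtain ⟨Q, hQ⟩ := Cfsg.Agent.S0542.result 2 (K.subgroupOf M) (hK.1.comap M.subtype) T
    set π := QuotientGroup.mk' (pPrimeCore 2 X)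
    let f : ↥(K.subgroupOf M) →* K.map π :=
      ((π.comp M.subtype).comp (K.subgroupOf M).subtype).codRestrict (K.map π) (fun k => ⟨((k : M) : X), k.2, rfl⟩)
    have hf : Function.Surjective f := by
      rintro ⟨_, k, hk, rfl⟩
      exact ⟨⟨⟨k, hKM hk⟩, hk⟩, rfl⟩
    let R := Q.mapSurjective hf
    have hcen : (R : Subgroup (K.map π)) ≤ center (K.map π) := by
      rintro _ ⟨x, hx, rfl⟩
      have hxT : ((x : M) : X) ∈ (T : Subgroup M).map M.subtype := by
        have hx' : x ∈ (T : Subgroup M).subgroupOf (K.subgroupOf M) := hQ ▸ hx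
        exact ⟨(x : M), hx', rfl⟩
      have hxK' : ((x : M) : X) ∈ K.map (MulAut.conj c').toMonoidHom := by
        refine ⟨(x : M), x.2, ?_⟩
        show c' * ((x : M) : X) * c'⁻¹ = (x : M)
        rw [← hc _ hxT, mul_inv_cancel_right]
      refine mem_center_iff.2 ?_
      rintro ⟨_, k, hk, rfl⟩
      refine Subtype.ext ?_
      show π k * π ((x : M) : X) = π ((x : M) : X) * π k
      rw [← commutatorElement_eq_one_iff_mul_comm, ← map_commutatorElement]
      exact (QuotientGroup.eq_one_iff _).2 (hcomm (commutator_mem_commutator hk hxK'))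
    haveI : IsMulCommutative (R : Subgroup (K.map π)) :=
      ⟨⟨fun a b => Subtype.ext (mem_center_iff.1 (hcen b.2) a)⟩⟩
    have hperf : commutator (K.map π) = ⊤ := by
      apply Subgroup.map_injective (K.map π).subtype_injective
      rw [commutator_def, map_commutator, ← MonoidHom.range_eq_map, range_subtype, ← map_commutator, pcomp_perfect hK]
    have hR : (R : Subgroup (K.map π)) = ⊥ := (Subgroup.eq_bot_iff_forall _).2 fun r hr =>
      Cfsg.Lib.Transfer.eq_one_of_mem_commutator_of_central (R : Subgroup (K.map π))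
        (R.card_coprime_index) hr (hperf ▸ mem_top r) (hcen hr)
    have h2 : 2 ∣ Nat.card (K.map π) := comp_dvd_card pPrimeCore_quotient_eq_bot hK.2.1
    have h3 := R.dvd_card_of_dvd_card h2
    rw [hR, card_bot] at h3
    exact absurd h3 (by decide)

end Cfsg.Agent.S1344
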