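import Cfsg.Statements.S1346
import Cfsg.Agent.CoreBalance.Extended

set_option autoImplicit false
open Cfsg

namespace Cfsg.Agent.S1346

/-- Let G be a finite group all of whose 2-local subgroups have known non-abelian composition factors, and x, y commuting involutions. Then the extended 2-layer of L*_{2'}(C_G(x)) ∩ C_G(y) (as a group) is contained in L*_{2'}(C_G(y)). -/
theorem result {G : Type*} [Group G] [Finite G] (hK : ∀ T : Subgroup G, IsPGroup 2 ↥T → T ≠ ⊥ → Cfsg.IsCompositionKGroup ↥(Subgroup.normalizer (T : Set G))) (x y : G) (hx : orderOf x = 2) (hy : orderOf y = 2) (hxy : x * y = y * x) : (Cfsg.extendedTwoLayer ↥((Cfsg.extendedTwoLayer ↥(Subgroup.centralizer ({x} : Set G))).map (Subgroup.centralizer ({x} : Set G)).subtype ⊓ Subgroup.centralizer ({y} : Set G))).map ((Cfsg.extendedTwoLayer ↥(Subgroup.centralizer ({x} : Set G))).map (Subgroup.centralizer ({x} : Set G)).subtype ⊓ Subgroup.centralizer ({y} : Set G)).subtype ≤ (Cfsg.extendedTwoLayer ↥(Subgroup.centralizer ({y} : Set G))).map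 (Subgroup.centralizer ({y} : Set G)).subtype := by
  open Subgroup Cfsg.Lib.CoreBal in
  exact by
    haveI : Fact (Nat.Prime 2) := ⟨Nat.prime_two⟩
    have hp : IsPGroup 2 ↥(zpowers x) := IsPGroup.of_card (n := 1) (by rw [pow_one, Nat.card_zpowers, hx])
    set Cx := centralizer ({x} : Set G) with hCx
    set Cy := centralizer ({y} : Set G) with hCy
    set E := (Cfsg.extendedTwoLayer ↥Cx).map Cx.subtype with hE
    set A := E ⊓ Cy with hA
    haveI : (Cfsg.extendedTwoLayer ↥Cx).Normal := Cfsg.Lib.Components.extendedTwoLayer_normal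
    have hEn : Cx ≤ normalizer (E : Set G) := by
      intro g hg
      refine Cfsg.Lib.Sft.mem_normalizer_of_conj ?_
      rintro _ ⟨c, hc, rfl⟩
      exact ⟨⟨g, hg⟩ * c * ⟨g, hg⟩⁻¹, Normal.conj_mem inferInstance c hc _, rfl⟩
    have hxy' : x ∈ Cy := mem_centralizer_singleton_iff.2 hxy
    let R : Subgroup ↥Cy := (zpowers x).subgroupOf Cy
    have hAy : A ≤ Cy := inf_le_right
    have hcent : ∀ g : ↥Cy, g ∈ centralizer (R : Set ↥Cy) ↔ (g : G) ∈ Cx := by
      intro g
      constructor
      · intro hg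
        exact mem_centralizer_singleton_iff.2
          (congrArg Subtype.val (mem_centralizer_iff.1 hg ⟨x, hxy'⟩ (mem_subgroupOf.2 (mem_zpowers x)))).symm
      · intro hg
        refine mem_centralizer_iff.2 fun r hr => Subtype.ext ?_
        obtain ⟨i, hi⟩ := mem_zpowers_iff.1 (mem_subgroupOf.1 hr)
        show (r : G) * g = g * r
        rw [← hi]
        exact ((show Commute x (g : G) from (mem_centralizer_singleton_iff.1 hg).symm).zpow_left i).eq
    have key := extended_le_of_normal (R := R) (A := A.subgroupOf Cy) hp.comap_subtype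
      (fun g hg => (hcent g).2 (map_subtype_le _ (mem_subgroupOf.1 hg).1))
      (fun g hg => by
        refine Cfsg.Lib.Sft.mem_normalizer_of_conj fun a ha => ?_
        exact ⟨(mem_normalizer_iff.1 (hEn ((hcent g).1 hg)) _).1 (mem_subgroupOf.1 ha).1,
          (g * a * g⁻¹).2⟩)
    let e := subgroupOfEquivOfLe hAy
    rintro _ ⟨a, ha, rfl⟩
    refine ⟨((e.symm a : ↥(A.subgroupOf Cy)) : ↥Cy), key ⟨e.symm a, ?_, rfl⟩, ?_⟩
    · exact Cfsg.Lib.CoreBal.extended_map_equiv e.symm ⟨a, ha, rfl⟩
    · exact congrArg Subtype.val (e.apply_symm_apply a)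

end Cfsg.Agent.S1346
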