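import Cfsg.Statements.S1427
import Cfsg.Agent.OddLocal.PrimeAction

set_option autoImplicit false
open Cfsg

namespace Cfsg.Agent.S1427

/-- Let G be a minimal simple group of odd order, M a maximal subgroup, E a complement to M_σ in M, and S a nontrivial cyclic Sylow subgroup of E (for some prime). Then M_σ ∩ C_G(x) = M_σ ∩ C_G(S) for every non-identity x ∈ S. -/
theorem result {G : Type*} [Group G] [Finite G] (hG : Cfsg.IsMinSimpleOddOrder G)
    (M : Subgroup G) (hM : IsCoatom M) (E : Subgroup G) (hE : Cfsg.IsComplIn E (Cfsg.sigmaCore M) M) (p : ℕ) [Fact p.Prime] (S : Sylow p E) (hS1 : (S : Subgroup E) ≠ ⊥) (hSc : IsCyclic (S : Subgroup E)) :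
    ∀ x ∈ (S : Subgroup E).map E.subtype, x ≠ 1 →
        Cfsg.sigmaCore M ⊓ Subgroup.centralizer ({x} : Set G) = Cfsg.sigmaCore M ⊓ Subgroup.centralizer (((S : Subgroup E).map E.subtype : Subgroup G) : Set G) := by
  intro x hx hx1
  open Cfsg.Lib.OddLocal.RankTwoMax in
  have hσ : p ∉ Cfsg.sigma M := Cfsg.Lib.OddLocal.Sigma.not_sigma_of_dvd hG hM hE Fact.out
    ((dvd_card_of_isPGroup (S.2.map E.subtype) (fun h0 => hS1
      ((Subgroup.map_eq_bot_iff_of_injective _ E.subtype_injective).mp h0))).trans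
      (Subgroup.card_dvd_of_le (Subgroup.map_subtype_le _)))
  haveI := hSc
  exact Cfsg.Lib.OddLocal.RankTwoMax.prime_action hG hM hσ
    (Cfsg.Lib.OddLocal.RankTwoMax.isSylowOf_complement hG hM hE hσ S)
    (isCyclic_of_surjective (E.subtype.subgroupMap (S : Subgroup E))
      (E.subtype.subgroupMap_surjective (S : Subgroup E))) hx hx1

end Cfsg.Agent.S1427
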