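import Cfsg.Statements.S1441
import Cfsg.Agent.Coprime.Action

set_option autoImplicit false
open Cfsg
open scoped commutatorElement

namespace Cfsg.Agent.S1441

/-- Let G be a finite group, H a solvable subgroup and A a subgroup normalizing H. Suppose there is a chain H = H₀ ≥ H₁ ≥ ⋯ ≥ H_n = 1 of subgroups normal in H and normalized by A such that A acts trivially on each factor H_{i-1}/H_i (that is, [H_{i-1}, A] ≤ H_i). Then every prime dividing the index of C_A(H) in A divides the order of H. -/
theorem result {G : Type*} [Group G] [Finite G] (H A : Subgroup G) (hH : Group.IsSolvable H) (hA : (A ≤ Subgroup.normalizer (H : Set G)))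
    (n : ℕ) (c : Fin (n + 1) → Subgroup G) (hc0 : c 0 = H) (hcn : c (Fin.last n) = ⊥) (hanti : Antitone c)
    (hcN : ∀ i, H ≤ Subgroup.normalizer ((c i : Subgroup G) : Set G)) (hcA : ∀ i, A ≤ Subgroup.normalizer ((c i : Subgroup G) : Set G))
    (htriv : ∀ i : Fin n, ⁅c i.castSucc, A⁆ ≤ c i.succ) :
    ∀ p : ℕ, p.Prime → p ∣ (A ⊓ Subgroup.centralizer (H : Set G)).relIndex A → p ∣ Nat.card H := by
  intro p hp hdvd
  by_contra hpH
  haveI := Fact.mk hp
  obtain ⟨P⟩ : Nonempty (Sylow p A) := inferInstance
  set Q := (P : Subgroup A).map A.subtype with hQ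
  have hQA : Q ≤ A := Subgroup.map_subtype_le _
  have hcop : (Nat.card Q).Coprime (Nat.card H) := by
    obtain ⟨k, hk⟩ := IsPGroup.iff_card.mp P.2
    rw [hQ, Subgroup.card_map_of_injective A.subtype_injective, hk]
    exact ((Nat.Prime.coprime_iff_not_dvd hp).mpr hpH).pow_left k
  have key : ∀ i : Fin (n + 1), Q ≤ Subgroup.centralizer ((c i : Subgroup G) : Set G) := by
    intro i
    induction i using Fin.reverseInduction with
    | last => rw [hcn]; intro x _; simp [Subgroup.mem_centralizer_iff]
    | cast i ih =>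
      rw [Subgroup.le_centralizer_iff]
      intro k hk
      have hle : c i.succ ≤ H := hc0 ▸ hanti (Fin.zero_le _)
      refine Cfsg.Lib.Coprime.centralizes_of_coprime_chain
        (hcop.coprime_dvd_right (Subgroup.card_dvd_of_le hle)) ih fun a ha => ?_
      have : k⁻¹ * a * k * a⁻¹ = ⁅k⁻¹, a⁆ := by simp [commutatorElement_def]
      rw [this]
      exact htriv i (Subgroup.commutator_mem_commutator (inv_mem hk) (hQA ha))
  have hQc : Q ≤ A ⊓ Subgroup.centralizer (H : Set G) := le_inf hQA (hc0 ▸ key 0)
  apply P.not_dvd_index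
  have h1 : ((A ⊓ Subgroup.centralizer (H : Set G)).subgroupOf A).index ∣ (P : Subgroup A).index :=
    Subgroup.index_dvd_of_le fun x hx => hQc ⟨x, hx, rfl⟩
  exact hdvd.trans h1

end Cfsg.Agent.S1441
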