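import Cfsg.Statements.S1442
import Cfsg.Agent.Coprime.Action

set_option autoImplicit false
open Cfsg
open scoped commutatorElement

namespace Cfsg.Agent.S1442

/-- Let G be a finite group, H a nilpotent subgroup and A a subgroup normalizing H with the orders of A and H coprime. Put C = H ∩ C_G(A). If H ∩ C_G(C) ≤ C then A centralizes H. -/
theorem result {G : Type*} [Group G] [Finite G] (H A : Subgroup G) (hH : Group.IsNilpotent H) (hA : (A ≤ Subgroup.normalizer (H : Set G))) (hcop : (Nat.card A).Coprime (Nat.card H))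
    (hC : H ⊓ Subgroup.centralizer (((H ⊓ Subgroup.centralizer (A : Set G)) : Subgroup G) : Set G) ≤ (H ⊓ Subgroup.centralizer (A : Set G))) :
    A ≤ Subgroup.centralizer (H : Set G) := by
  set C := H ⊓ Subgroup.centralizer (A : Set G) with hCdef
  have hAC : A ≤ Subgroup.centralizer (C : Set G) :=
    Subgroup.le_centralizer_iff.mp inf_le_right
  have hnil : Group.IsNilpotent H := hH
  suffices hCH : H ≤ C by
    exact Subgroup.le_centralizer_iff.mp (hCH.trans inf_le_right)
  by_contra hne
  have hne' : C.subgroupOf H < ⊤ := by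
    refine lt_top_iff_ne_top.mpr fun h => hne fun x hx => ?_
    have : (⟨x, hx⟩ : H) ∈ C.subgroupOf H := by rw [h]; trivial
    exact this
  obtain ⟨x, hxN, hxC⟩ := SetLike.exists_of_lt
    ((normalizerCondition_of_isNilpotent (G := H)) _ hne')
  apply hxC
  rw [Subgroup.mem_subgroupOf]
  set N := H ⊓ Subgroup.normalizer (C : Set G) with hN
  have hxN' : (x : G) ∈ N := by
    refine ⟨x.2, Subgroup.mem_normalizer_iff.mpr fun y => ?_⟩
    constructor
    · intro hy
      have := (Subgroup.mem_normalizer_iff.mp hxN ⟨y, hy.1⟩).mp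
        (Subgroup.mem_subgroupOf.mpr hy)
      simpa [Subgroup.mem_subgroupOf] using this
    · intro hy
      have hyH : y ∈ H := by
        have h := mul_mem (mul_mem (inv_mem x.2) hy.1) x.2
        simpa [mul_assoc] using h
      have := (Subgroup.mem_normalizer_iff.mp hxN ⟨y, hyH⟩).mpr
        (by simpa [Subgroup.mem_subgroupOf] using hy)
      simpa [Subgroup.mem_subgroupOf] using this
  have hAN : A ≤ Subgroup.normalizer (N : Set G) := by
    refine Cfsg.Lib.Coprime.le_normalizer_inf hA ?_
    intro a ha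
    have hc : ∀ z ∈ C, a * z = z * a := fun z hz =>
      ((Subgroup.mem_centralizer_iff.mp (hAC ha)) z hz).symm
    have hconj : ∀ b ∈ A, ∀ g ∈ Subgroup.normalizer (C : Set G), ∀ z ∈ C,
        b * g * b⁻¹ * z * (b * g * b⁻¹)⁻¹ ∈ C := by
      intro b hb g hg z hz
      have hzb : b⁻¹ * z * b = z := by
        rw [mul_assoc, (Subgroup.mem_centralizer_iff.mp (hAC hb)) z hz, inv_mul_cancel_left]
      have hg' := (Subgroup.mem_normalizer_iff.mp hg z).mp hz
      have : b * g * b⁻¹ * z * (b * g * b⁻¹)⁻¹ = b * (g * z * g⁻¹) * b⁻¹ := by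
        calc b * g * b⁻¹ * z * (b * g * b⁻¹)⁻¹ = b * (g * (b⁻¹ * z * b) * g⁻¹) * b⁻¹ := by group
          _ = _ := by rw [hzb]
      rw [this, ← (Subgroup.mem_centralizer_iff.mp (hAC hb)) _ hg', mul_inv_cancel_right]
      exact hg'
    have hmem : ∀ b ∈ A, ∀ g ∈ Subgroup.normalizer (C : Set G),
        b * g * b⁻¹ ∈ Subgroup.normalizer (C : Set G) := fun b hb g hg =>
      Cfsg.Lib.Coprime.mem_normalizer_of_conj_mem (hconj b hb g hg) fun z hz => by
        have h := hconj b hb g⁻¹ (inv_mem hg) z hz
        simpa [mul_assoc] using h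
    exact Cfsg.Lib.Coprime.mem_normalizer_of_conj_mem (hmem a ha) fun g hg => by
      have h := hmem a⁻¹ (inv_mem ha) g hg
      simpa [mul_assoc] using h
  have hNA : ⁅N, A⁆ ≤ C := by
    refine le_trans (le_inf (((Subgroup.commutator_mono inf_le_left le_rfl).trans
      (Cfsg.Lib.Coprime.commutator_le_of_le_normalizer hA))) ?_) hC
    rw [← Subgroup.commutator_eq_bot_iff_le_centralizer, Subgroup.commutator_comm N A]
    refine Subgroup.commutator_commutator_eq_bot_of_rotate (H₁ := A) (H₂ := N) (H₃ := C) ?_ ?_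
    · rw [Subgroup.commutator_eq_bot_iff_le_centralizer]
      have : ⁅N, C⁆ ≤ C := by
        rw [Subgroup.commutator_comm]
        exact Cfsg.Lib.Coprime.commutator_le_of_le_normalizer inf_le_right
      exact this.trans inf_le_right
    · rw [Subgroup.commutator_eq_bot_iff_le_centralizer.mpr (inf_le_right : C ≤ _),
        Subgroup.commutator_bot_left]
  refine ⟨hxN'.1, Cfsg.Lib.Coprime.centralizes_of_coprime_chain
    (hcop.coprime_dvd_right (Subgroup.card_dvd_of_le inf_le_left)) hAC fun a ha => ?_⟩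
  have : (x : G)⁻¹ * a * x * a⁻¹ = ⁅(x : G)⁻¹, a⁆ := by simp [commutatorElement_def]
  rw [this]
  exact hNA (Subgroup.commutator_mem_commutator (inv_mem hxN') ha)

end Cfsg.Agent.S1442
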