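import Cfsg.Statements.S1443
import Cfsg.Agent.GaschutzYen.Omega

set_option autoImplicit false
open Cfsg

namespace Cfsg.Agent.S1443

/-- Let G be a finite group, p an odd prime, H a p-subgroup, E an elementary abelian subgroup of H, and A a subgroup of order coprime to p normalizing H. If A centralizes every element of order p in H ∩ C_G(E), then A centralizes H. -/
theorem result {G : Type*} [Group G] [Finite G] (p : ℕ) [Fact p.Prime] (hp : p ≠ 2) (H E A : Subgroup G) (hH : IsPGroup p H) (hE : E ≤ H) (hEe : Cfsg.IsElementaryAbelian p E)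
    (hA : (A ≤ Subgroup.normalizer (H : Set G))) (hcop : (Nat.card A).Coprime p)
    (hfix : ∀ x ∈ (H ⊓ Subgroup.centralizer (E : Set G)), orderOf x = p → A ≤ Subgroup.centralizer ({x} : Set G)) :
    A ≤ Subgroup.centralizer (H : Set G) := by
  obtain ⟨hEc, hEp⟩ := hEe
  have hEE : E ≤ Subgroup.centralizer (E : Set G) := fun x hx =>
    Subgroup.mem_centralizer_iff.mpr fun y hy =>
      congrArg Subtype.val (hEc.is_comm.comm (⟨y, hy⟩ : E) ⟨x, hx⟩)
  set C := H ⊓ Subgroup.centralizer (E : Set G) with hC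
  have hfix' : ∀ x ∈ C, x ^ p = 1 → ∀ a ∈ A, a * x = x * a := by
    intro x hx hxp a ha
    rcases (Nat.dvd_prime (Fact.out : p.Prime)).mp (orderOf_dvd_of_pow_eq_one hxp) with h | h
    · rw [orderOf_eq_one_iff.mp h]; simp
    · exact (Subgroup.mem_centralizer_iff.mp (hfix x hx h ha) x rfl).symm
  have hAE : E ≤ Subgroup.centralizer (A : Set G) := fun e he =>
    Subgroup.mem_centralizer_iff.mpr fun a ha =>
      hfix' e ⟨hE he, hEE he⟩ (hEp e he) a ha
  have hAC : A ≤ Subgroup.normalizer (C : Set G) := by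
    refine Cfsg.Lib.Coprime.le_normalizer_inf hA fun a ha => ?_
    have hmem : ∀ b ∈ A, ∀ g ∈ Subgroup.centralizer (E : Set G),
        b * g * b⁻¹ ∈ Subgroup.centralizer (E : Set G) := by
      intro b hb g hg
      rw [Subgroup.mem_centralizer_iff]
      intro e he
      have h1 : b * e = e * b := (Subgroup.mem_centralizer_iff.mp (hAE he)) b hb
      have h2 : b⁻¹ * e = e * b⁻¹ :=
        (Subgroup.mem_centralizer_iff.mp (hAE he)) b⁻¹ (inv_mem hb)
      calc e * (b * g * b⁻¹) = b * (e * g) * b⁻¹ := by rw [← mul_assoc, ← mul_assoc, ← h1]; group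
        _ = b * g * (e * b⁻¹) := by rw [Subgroup.mem_centralizer_iff.mp hg e he]; group
        _ = b * g * b⁻¹ * e := by rw [← h2]; group
    exact Cfsg.Lib.Coprime.mem_normalizer_of_conj_mem (hmem a ha) fun g hg => by
      have h := hmem a⁻¹ (inv_mem ha) g hg
      simpa [mul_assoc] using h
  have hAc : A ≤ Subgroup.centralizer (C : Set G) :=
    Cfsg.Lib.GaschutzYen.le_centralizer_of_omega (p := p) hp _ rfl (hH.to_le inf_le_left) hAC hcop
      hfix'
  exact Cfsg.Lib.Coprime.pq_lemma (p := p) (hH.to_le hE) hcop hH hAE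
    (hE.trans Subgroup.le_normalizer) hA (Subgroup.le_centralizer_iff.mp hAc)

end Cfsg.Agent.S1443
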