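import Cfsg.Statements.S1445
import Cfsg.Agent.OddLocal.FixedPointFreeGroup

set_option autoImplicit false
set_option linter.style.haveILetI false
open Cfsg

namespace Cfsg.Agent.S1445

open scoped commutatorElement

theorem fitting_char {K : Type*} [Group K] [Finite K] : (Cfsg.fittingSubgroup K).Characteristic := by
  rw [Subgroup.characteristic_iff_map_le]
  intro e
  haveI : ((Cfsg.fittingSubgroup K).map e.toMonoidHom).Normal :=
    Subgroup.Normal.map inferInstance _ e.surjective
  haveI := Cfsg.Lib.Components.isNilpotent_fitting (G := K)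
  exact Cfsg.Lib.Components.le_fitting (Group.nilpotent_of_surjective
    (e.toMonoidHom.subgroupMap (Cfsg.fittingSubgroup K)) (MonoidHom.subgroupMap_surjective _ _))

section
open Subgroup
variable {G : Type*} [Group G] [Finite G]

theorem commutator_le_fittingOf [Group.IsSolvable G] (hodd : Odd (Nat.card G)) (K : Subgroup G)
    [K.Normal] {x : G} {r : ℕ} (hr : r.Prime) (hxr : x ^ r = 1) (hrK : ¬ r ∣ Nat.card K)
    (hfix : Cfsg.fittingOf K ⊓ centralizer ({x} : Set G) = ⊥) :
    ⁅K, zpowers x⁆ ≤ Cfsg.fittingOf K := by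
  classical
  set F := Cfsg.fittingOf K with hFdef
  have hFK : F ≤ K := map_subtype_le _
  haveI hFchar : (Cfsg.fittingSubgroup K).Characteristic := fitting_char
  haveI hFn : F.Normal := by rw [hFdef, Cfsg.fittingOf]; infer_instance
  haveI hFnil : Group.IsNilpotent F := by
    haveI := Cfsg.Lib.Components.isNilpotent_fitting (G := K)
    exact Group.nilpotent_of_surjective (K.subtype.subgroupMap (Cfsg.fittingSubgroup K))
      (MonoidHom.subgroupMap_surjective _ _)
  set X := zpowers x
  have hcX : ∀ n : ℕ, n ∣ Nat.card K → (Nat.card X).Coprime n := fun n hn => by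
    rw [Nat.card_zpowers]
    exact (Nat.Coprime.coprime_dvd_left (orderOf_dvd_of_pow_eq_one hxr)
      (hr.coprime_iff_not_dvd.mpr hrK)).coprime_dvd_right hn
  set π := QuotientGroup.mk' F with hπdef
  have hπ : Function.Surjective π := QuotientGroup.mk'_surjective F
  haveI : (K.map π).Normal := Normal.map inferInstance π hπ
  haveI : (Cfsg.fittingSubgroup (K.map π)).Characteristic := fitting_char
  haveI hnilb : Group.IsNilpotent (Cfsg.fittingSubgroup (K.map π)) :=
    Cfsg.Lib.Components.isNilpotent_fitting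
  -- `x` centralizes every Sylow subgroup of `F(K/F)`
  have hstep : ∀ (q : ℕ) [Fact q.Prime] (S : Sylow q (Cfsg.fittingSubgroup (K.map π))),
      π x ∈ centralizer (((S : Subgroup (Cfsg.fittingSubgroup (K.map π))).map
        (Cfsg.fittingSubgroup (K.map π)).subtype).map (K.map π).subtype : Set (G ⧸ F)) := by
    intro q hqf S
    have hq : q.Prime := hqf.out
    set Qb := ((S : Subgroup (Cfsg.fittingSubgroup (K.map π))).map
      (Cfsg.fittingSubgroup (K.map π)).subtype).map (K.map π).subtype with hQb
    haveI := ((Group.isNilpotent_of_finite_tfae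
      (G := Cfsg.fittingSubgroup (K.map π))).out 0 3 rfl rfl).mp hnilb q inferInstance S
    haveI : (S : Subgroup (Cfsg.fittingSubgroup (K.map π))).Characteristic :=
      S.characteristic_of_normal inferInstance
    haveI : ((S : Subgroup (Cfsg.fittingSubgroup (K.map π))).map
        (Cfsg.fittingSubgroup (K.map π)).subtype).Characteristic := inferInstance
    haveI hQbn : Qb.Normal := inferInstance
    have hQbp : IsPGroup q Qb := (S.2.map _).map _
    by_cases hQb1 : Qb = ⊥
    · rw [hQb1]
      exact mem_centralizer_iff.mpr fun y hy => by rw [mem_bot.mp hy, one_mul, mul_one]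
    set L := Qb.comap π with hLdef
    haveI : L.Normal := inferInstance
    have hFL : F ≤ L := fun y hy => by
      rw [hLdef, mem_comap, show π y = 1 from (QuotientGroup.eq_one_iff y).mpr hy]
      exact one_mem _
    have hLK : L ≤ K := by
      have h1 : L ≤ (K.map π).comap π := comap_mono (map_subtype_le _)
      rwa [comap_map_eq, QuotientGroup.ker_mk', sup_eq_left.mpr hFK] at h1
    have hqK : q ∣ Nat.card K := ((hQbp.card_eq_or_dvd).resolve_left fun h => hQb1 (card_eq_one.mp h)).trans
      ((card_dvd_of_le (map_subtype_le _)).trans (card_map_dvd K π))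
    have hq2 : q ≠ 2 := fun h => (Nat.not_even_iff_odd.mpr hodd) (even_iff_two_dvd.mpr
      (h ▸ hqK.trans (card_subgroup_dvd_card K)))
    have hrq : r ≠ q := fun h => hrK (h ▸ hqK)
    obtain ⟨Q', hQ'N⟩ := Cfsg.Lib.Coprime.exists_invariant_sylow (A := X) (K := L)
      le_normalizer_of_normal (hcX _ (card_dvd_of_le hLK)) (Or.inl inferInstance) q
    set Q : Subgroup G := (Q' : Subgroup L).map L.subtype with hQdef
    have hQp : IsPGroup q Q := Q'.2.map _
    have hQL : Q ≤ L := map_subtype_le _
    obtain ⟨j, hj⟩ := IsPGroup.iff_card.mp hQbp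
    have hsupL : L ≤ F ⊔ Q := by
      rw [← relIndex_eq_one]
      have hFidx : F.relIndex L = q ^ j := by
        have h := Subgroup.relIndex_ker L π
        rw [QuotientGroup.ker_mk', hLdef, map_comap_eq_self_of_surjective hπ, hj] at h
        exact h
      have h1 : (F ⊔ Q).relIndex L ∣ q ^ j := hFidx ▸ relIndex_dvd_of_le_left L le_sup_left
      have h2 : (F ⊔ Q).relIndex L ∣ (Q' : Subgroup L).index := by
        rw [show (Q' : Subgroup L).index = Q.relIndex L from congrArg Subgroup.index
          (comap_map_eq_self_of_injective L.subtype_injective (Q' : Subgroup L)).symm]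
        exact relIndex_dvd_of_le_left L le_sup_right
      obtain ⟨i, -, hi⟩ := (Nat.dvd_prime_pow hq).mp h1
      rcases Nat.eq_zero_or_pos i with rfl | hi0
      · rw [hi, pow_zero]
      · exact absurd ((dvd_pow_self q hi0.ne').trans (hi ▸ h2)) Q'.not_dvd_index
    set D := ⁅Q, X⁆
    have hDQ : D ≤ Q := Cfsg.Lib.Coprime.commutator_le_of_le_normalizer hQ'N
    let U : ℕ → Subgroup G := fun p => (Cfsg.pCore p F).map F.subtype
    have hUn : ∀ p, p.Prime → (U p).Normal := fun p hp => by
      haveI := Fact.mk hp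
      haveI : (Cfsg.pCore p F).Characteristic := by
        rw [characteristic_iff_map_le]
        intro e
        exact Cfsg.Lib.ZJ.map_pCore_le (f := e.toMonoidHom) e.surjective
      show ((Cfsg.pCore p F).map F.subtype).Normal
      infer_instance
    have hDU : ∀ p, p.Prime → p ≠ q → D ≤ centralizer (U p : Set G) := by
      intro p hp hpq
      haveI := Fact.mk hp
      haveI := hUn p hp
      have hUp : IsPGroup p (U p) := (Cfsg.Lib.Components.isPGroup_pCore p).map _
      rcases hUp.card_eq_or_dvd with h1 | hpd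
      · intro d _
        rw [card_eq_one.mp h1]
        exact mem_centralizer_iff.mpr fun y hy => by rw [mem_bot.mp hy, one_mul, mul_one]
      · have hrp : r ≠ p := fun h => hrK (h ▸ hpd.trans (card_dvd_of_le ((map_subtype_le _).trans hFK)))
        exact Cfsg.Lib.OddP.commutator_centralizes hr hq hrq hq2 hrp (Ne.symm hpq) hxr hQp hUp
          (hQ'N (mem_zpowers x)) (le_normalizer_of_normal (mem_zpowers x))
          le_normalizer_of_normal
          (eq_bot_iff.mpr (le_trans (inf_le_inf_right _ (map_subtype_le _)) hfix.le))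
    -- the elements of `L` centralizing the `q'`-part of `F`
    set M := L ⊓ ⨅ p : {p : ℕ // p.Prime ∧ p ≠ q}, centralizer (U p : Set G) with hMdef
    have hDM : D ≤ M := le_inf (hDQ.trans hQL) (le_iInf fun p => hDU p p.2.1 p.2.2)
    haveI : (⨅ p : {p : ℕ // p.Prime ∧ p ≠ q}, centralizer (U p : Set G)).Normal := by
      refine normal_iInf_normal fun p => ?_
      haveI := hUn p p.2.1
      infer_instance
    haveI hMn : M.Normal := inferInstance
    have hMK : M ≤ K := inf_le_left.trans hLK
    have hMF : ∀ (p : ℕ) [Fact p.Prime], p ≠ q → ∀ P : Subgroup M, IsPGroup p P → P ≤ center M := by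
      intro p hpf hpq P hP
      set P₀ := P.map M.subtype
      have hP₀ : IsPGroup p P₀ := hP.map _
      have hP₀F : P₀ ≤ F := by
        intro y hy
        have hy1 : π y = 1 := by
          have hyL : π y ∈ Qb := (show y ∈ L from (map_subtype_le P hy).1)
          obtain ⟨a, ha⟩ := (hP₀.map π) ⟨π y, mem_map_of_mem π hy⟩
          obtain ⟨b, hb⟩ := hQbp ⟨π y, hyL⟩
          refine orderOf_eq_one_iff.mp (Nat.eq_one_of_dvd_coprimes
            (Nat.Coprime.pow a b ((Nat.coprime_primes hpf.out hq).mpr hpq))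
            (orderOf_dvd_of_pow_eq_one (congrArg Subtype.val ha))
            (orderOf_dvd_of_pow_eq_one (congrArg Subtype.val hb)))
        exact (QuotientGroup.eq_one_iff y).mp hy1
      have hP₀U : P₀ ≤ U p := by
        obtain ⟨T, hT⟩ := (hP₀.comap_of_injective F.subtype F.subtype_injective).exists_le_sylow
        haveI := ((Group.isNilpotent_of_finite_tfae (G := F)).out 0 3 rfl rfl).mp hFnil p inferInstance T
        intro y hy
        exact ⟨⟨y, hP₀F hy⟩, Cfsg.Lib.Components.le_pCore T.2 (hT hy), rfl⟩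
      intro y hy
      rw [mem_center_iff]
      intro m
      refine Subtype.ext ?_
      have hm : (m : G) ∈ centralizer (U p : Set G) := (mem_iInf.mp m.2.2) ⟨p, hpf.out, hpq⟩
      exact (mem_centralizer_iff.mp hm _ (hP₀U ⟨y, hy, rfl⟩)).symm
    haveI hMnil : Group.IsNilpotent M := by
      have hidx : IsPGroup q (M ⧸ center M) := by
        refine IsPGroup.of_card (n := (Nat.card (M ⧸ center M)).primeFactorsList.length)
          (Nat.eq_prime_pow_of_unique_prime_dvd Nat.card_pos.ne' fun {d} hd hdd => ?_)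
        by_contra hdq
        haveI := Fact.mk hd
        obtain ⟨P⟩ := (inferInstance : Nonempty (Sylow d M))
        rw [← index_eq_card] at hdd
        exact P.not_dvd_index (hdd.trans (index_dvd_of_le (hMF d hdq P P.2)))
      haveI := hidx.isNilpotent
      exact Subgroup.isNilpotent_of_ker_le_center (QuotientGroup.mk' (center M))
        (QuotientGroup.ker_mk' _).le
    have hMF' : M ≤ F := by
      haveI : (M.subgroupOf K).Normal := (normal_subgroupOf_iff_le_normalizer hMK).mpr le_normalizer_of_normal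
      haveI : Group.IsNilpotent (M.subgroupOf K) :=
        Group.nilpotent_of_mulEquiv (subgroupOfEquivOfLe hMK).symm
      intro y hy
      exact ⟨⟨y, hMK hy⟩, Cfsg.Lib.Components.le_fitting (N := M.subgroupOf K) inferInstance hy, rfl⟩
    rw [mem_centralizer_iff]
    intro y hy
    obtain ⟨l, rfl⟩ := hπ y
    obtain ⟨f, hf, t, ht, rfl⟩ := mem_sup_of_normal_left.mp (hsupL (show l ∈ L from hy))
    rw [map_mul, show π f = 1 from (QuotientGroup.eq_one_iff f).mpr hf, one_mul]
    refine commutatorElement_eq_one_iff_mul_comm.mp ?_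
    rw [← map_commutatorElement]
    exact (QuotientGroup.eq_one_iff _).mpr
      (hMF' (hDM (commutator_mem_commutator ht (mem_zpowers x))))
  -- hence centralizes `F(K/F)`
  set W := (Cfsg.fittingSubgroup (K.map π)).map (K.map π).subtype with hW
  haveI : W.Normal := inferInstance
  have hWx : π x ∈ centralizer (W : Set (G ⧸ F)) := by
    set E := Cfsg.fittingSubgroup (K.map π)
    set C := ((centralizer ({π x} : Set (G ⧸ F))).comap (K.map π).subtype).comap E.subtype
    have hC : C = ⊤ := by
      refine index_eq_one.mp ((Nat.eq_one_iff_not_exists_prime_dvd).mpr fun q hq hqd => ?_)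
      haveI := Fact.mk hq
      obtain ⟨S⟩ := (inferInstance : Nonempty (Sylow q E))
      refine S.not_dvd_index (hqd.trans (index_dvd_of_le ?_))
      intro y hy
      show ((y : K.map π) : G ⧸ F) ∈ centralizer ({π x} : Set (G ⧸ F))
      exact mem_centralizer_singleton_iff.mpr
        (mem_centralizer_iff.mp (hstep q S) _ ⟨_, ⟨y, hy, rfl⟩, rfl⟩)
    rw [mem_centralizer_iff]
    rintro _ ⟨e, he, rfl⟩
    have h : (⟨e, he⟩ : E) ∈ C := hC ▸ mem_top _
    exact mem_centralizer_singleton_iff.mp h
  set Y := zpowers (π x)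
  have hYW : Y ≤ centralizer (W : Set (G ⧸ F)) := zpowers_le.mpr hWx
  set Kb := K.map π
  have h1 : ⁅⁅Kb, Y⁆, W⁆ = ⊥ := by
    refine commutator_commutator_eq_bot_of_rotate ?_ ?_
    · rw [commutator_eq_bot_iff_le_centralizer.mpr hYW, commutator_bot_left]
    · refine eq_bot_iff.mpr ((commutator_mono (commutator_le_left W Kb) le_rfl).trans ?_)
      exact (commutator_eq_bot_iff_le_centralizer.mpr (le_centralizer_iff.mp hYW)).le
  have hKY : ⁅Kb, Y⁆ ≤ W := by
    intro y hy
    have hyK : y ∈ Kb := Cfsg.Lib.Coprime.commutator_le_of_le_normalizer le_normalizer_of_normal hy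
    refine ⟨⟨y, hyK⟩, Cfsg.Lib.Coprime.centralizer_fitting_le (mem_centralizer_iff.mpr fun e he =>
      Subtype.ext ?_), rfl⟩
    exact mem_centralizer_iff.mp (commutator_eq_bot_iff_le_centralizer.mp h1 hy) _ ⟨e, he, rfl⟩
  have hcop : (Nat.card Y).Coprime (Nat.card Kb) := by
    rw [show Y = X.map π from (MonoidHom.map_zpowers π x).symm]
    exact (hcX _ (card_map_dvd K π)).coprime_dvd_left (card_map_dvd X π)
  have h2 : ⁅Kb, Y⁆ = ⊥ := by
    rw [← Cfsg.Lib.Coprime.commutator_commutator_eq le_normalizer_of_normal hcop (Or.inr inferInstance)]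
    exact eq_bot_iff.mpr ((commutator_mono hKY le_rfl).trans
      (commutator_eq_bot_iff_le_centralizer.mpr (le_centralizer_iff.mp hYW)).le)
  have h3 : (⁅K, X⁆).map π = ⊥ := by
    rw [map_commutator, MonoidHom.map_zpowers]; exact h2
  exact ((Subgroup.map_eq_bot_iff _).mp h3).trans (QuotientGroup.ker_mk' F).le

end


/-- Let G be a solvable group of odd order, K a normal subgroup and R a subgroup with G = KR and the orders of K and R coprime. Suppose K ∩ C_G(x) = K ∩ C_G(R) for every non-identity x ∈ R, and F(K) ∩ C_G(R) = 1. Then [K, R] is contained in the Fitting subgroup of K. -/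
theorem result {G : Type*} [Group G] [Finite G] [Group.IsSolvable G] (hodd : Odd (Nat.card G)) (K R : Subgroup G) [K.Normal] (hKR : K ⊔ R = ⊤) (hcop : (Nat.card K).Coprime (Nat.card R))
    (hprime : ∀ x ∈ R, x ≠ 1 → K ⊓ Subgroup.centralizer ({x} : Set G) = (K ⊓ Subgroup.centralizer (R : Set G)))
    (hF : Cfsg.fittingOf K ⊓ Subgroup.centralizer (R : Set G) = ⊥) :
    ⁅K, R⁆ ≤ Cfsg.fittingOf K := by
  classical
  by_cases hR1 : R = ⊥
  · rw [hR1, Subgroup.commutator_bot_right]; exact bot_le
  set F := Cfsg.fittingOf K with hFdef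
  have hFK : F ≤ K := Subgroup.map_subtype_le _
  haveI hFchar : (Cfsg.fittingSubgroup K).Characteristic := Cfsg.Agent.S1445.fitting_char
  haveI hFn : F.Normal := by rw [hFdef, Cfsg.fittingOf]; infer_instance
  obtain ⟨r, hr, hrd⟩ := Nat.exists_prime_and_dvd (fun h : Nat.card R = 1 => hR1 (Subgroup.card_eq_one.mp h))
  haveI := Fact.mk hr
  obtain ⟨⟨x, hxR⟩, hxo⟩ := exists_prime_orderOf_dvd_card' (G := R) r hrd
  rw [Subgroup.orderOf_mk] at hxo
  have hx1 : x ≠ 1 := fun h => hr.ne_one (by rw [← hxo, h, orderOf_one])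
  have hxr : x ^ r = 1 := by rw [← hxo, pow_orderOf_eq_one]
  have hrK : ¬ r ∣ Nat.card K := fun h => hr.not_dvd_one (hcop ▸ Nat.dvd_gcd h hrd)
  have hFx : F ⊓ Subgroup.centralizer ({x} : Set G) = ⊥ := by
    rw [eq_bot_iff, ← hF]
    rintro y ⟨hyF, hyx⟩
    exact ⟨hyF, ((hprime x hxR hx1).le ⟨hFK hyF, hyx⟩).2⟩
  have key : ⁅K, Subgroup.zpowers x⁆ ≤ F :=
    Cfsg.Agent.S1445.commutator_le_fittingOf hodd K hr hxr hrK hFx
  set X := Subgroup.zpowers x
  have hXN : X ≤ Subgroup.normalizer (K : Set G) := Subgroup.le_normalizer_of_normal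
  have hcX : (Nat.card X).Coprime (Nat.card K) := by
    rw [Nat.card_zpowers, hxo]; exact hr.coprime_iff_not_dvd.mpr hrK
  have hsup := Cfsg.Lib.Coprime.commutator_sup_centralizer hXN hcX (Or.inr inferInstance)
  rw [Subgroup.commutator_le]
  intro k hk y hy
  rw [← hsup] at hk
  obtain ⟨f, hf, c, hc, rfl⟩ := (Cfsg.Lib.Coprime.mem_sup_of_le_normalizer (x := k)
    (inf_le_left.trans ((Subgroup.normal_subgroupOf_iff_le_normalizer
      (Cfsg.Lib.Coprime.commutator_le_of_le_normalizer hXN)).mp (by
        rw [← Subgroup.normalizer_eq_top_iff, eq_top_iff]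
        rintro ⟨g, hg⟩ -
        rw [Subgroup.mem_normalizer_iff]
        exact fun a => Subgroup.mem_normalizer_iff.mp
          (Cfsg.Lib.Coprime.le_normalizer_commutator_left X K hg) (a : G))))).mp hk
  have hcy : y * c = c * y :=
    Subgroup.mem_centralizer_iff.mp (show c ∈ Subgroup.centralizer (R : Set G) from
      ((hprime x hxR hx1).le ⟨hc.1, Subgroup.mem_centralizer_singleton_iff.mpr
        (Subgroup.mem_centralizer_iff.mp hc.2 x (Subgroup.mem_zpowers x)).symm⟩).2) y hy
  have e : ⁅f * c, y⁆ = f * (y * f⁻¹ * y⁻¹) := by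
    have h1 : c * y * c⁻¹ = y := by rw [← hcy, mul_inv_cancel_right]
    calc ⁅f * c, y⁆ = f * (c * y * c⁻¹) * f⁻¹ * y⁻¹ := by rw [commutatorElement_def]; group
      _ = _ := by rw [h1]; group
  rw [e]
  exact mul_mem (key hf) (hFn.conj_mem _ (inv_mem (key hf)) y)

end Cfsg.Agent.S1445
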