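import Cfsg.Statements.S1446
import Cfsg.Agent.Coprime.FrobeniusDimModule
import Cfsg.Agent.Coprime.Sylow

set_option autoImplicit false
set_option linter.style.haveILetI false
open Cfsg

namespace Cfsg.Agent.S1446

open Subgroup
open scoped commutatorElement

section
variable {X : Type*} [Group X] [Finite X] (K R M : Subgroup X)

theorem commutator_centralizes (hKR : K ⊓ R = ⊥) (hRK : R ≤ normalizer (K : Set X))
    (hfrob : ∀ r ∈ R, r ≠ 1 → K ⊓ centralizer ({r} : Set X) = ⊥) (hR : (Nat.card R).Prime)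
    (hMn : Group.IsNilpotent M) (hKRM : K ⊔ R ≤ normalizer (M : Set X))
    (hcop : (Nat.card ↥(K ⊔ R)).Coprime (Nat.card M)) (hCK : M ⊓ centralizer (K : Set X) = ⊥)
    (hcyc : IsCyclic ↥(M ⊓ centralizer (R : Set X))) : ⁅K, K⁆ ≤ centralizer (M : Set X) := by
  -- the Frobenius group
  set L := K ⊔ R with hL
  haveI : (K.subgroupOf L).Normal := (normal_subgroupOf_iff_le_normalizer le_sup_left).mpr
    (sup_le le_normalizer hRK)
  haveI hKn : Group.IsNilpotent (K.subgroupOf L) := by
    obtain ⟨r, hr, hr1⟩ := (bot_or_exists_ne_one R).resolve_left fun h => hR.ne_one (card_eq_one.mpr h)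
    refine Cfsg.Lib.Thompson.isNilpotent_of_fpf (G := K.subgroupOf L)
      (MulAut.conjNormal (H := K.subgroupOf L) (⟨r, (le_sup_right : R ≤ L) hr⟩ : L)).toMonoidHom
      (fun x hx => ?_) hR (funext fun x => ?_)
    · have hc : r * ((x : L) : X) * r⁻¹ = ((x : L) : X) :=
        congrArg (fun z : K.subgroupOf L => ((z : L) : X)) hx
      have h : ((x : L) : X) ∈ K ⊓ centralizer ({r} : Set X) :=
        ⟨x.2, mem_centralizer_singleton_iff.mpr (mul_inv_eq_iff_eq_mul.mp hc).symm⟩
      rw [hfrob r hr hr1, mem_bot] at h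
      exact Subtype.ext (Subtype.ext h)
    · have key : ∀ (k : ℕ) (y : K.subgroupOf L),
          ((MulAut.conjNormal (H := K.subgroupOf L) (⟨r, (le_sup_right : R ≤ L) hr⟩ : L)).toMonoidHom)^[k] y
            = MulAut.conjNormal ((⟨r, (le_sup_right : R ≤ L) hr⟩ : L) ^ k) y := by
        intro k
        induction k with
        | zero => intro y; simp
        | succ k ih =>
          intro y
          rw [Function.iterate_succ', Function.comp_apply, ih, pow_succ', map_mul]; rfl
      rw [key, show (⟨r, (le_sup_right : R ≤ L) hr⟩ : L) ^ Nat.card R = 1 from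
        Subtype.ext (congrArg Subtype.val (pow_card_eq_one' (x := (⟨r, hr⟩ : R))) :)]
      simp
  -- one prime at a time
  suffices h : M ≤ centralizer ((⁅K, K⁆ : Subgroup X) : Set X) from le_centralizer_iff.mp h
  suffices hd : Nat.card M ∣ Nat.card ↥(M ⊓ centralizer ((⁅K, K⁆ : Subgroup X) : Set X)) by
    have he := eq_of_le_of_card_ge inf_le_left (Nat.le_of_dvd Nat.card_pos hd)
    intro x hx
    rw [← he] at hx
    exact hx.2
  rw [Nat.dvd_iff_prime_pow_dvd_dvd]
  intro q k hq hdk
  haveI := Fact.mk hq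
  obtain ⟨P⟩ := (inferInstance : Nonempty (Sylow q M))
  haveI := ((Group.isNilpotent_of_finite_tfae (G := M)).out 0 3 rfl rfl).mp hMn q inferInstance P
  haveI hPc : (P : Subgroup M).Characteristic := P.characteristic_of_normal inferInstance
  set Q : Subgroup X := (P : Subgroup M).map M.subtype with hQ
  have hQM : Q ≤ M := map_subtype_le _
  suffices hQc : ⁅K, K⁆ ≤ centralizer (Q : Set X) by
    have h1 : q ^ k ∣ Nat.card Q := by
      rw [hQ, card_map_of_injective M.subtype_injective, P.card_eq_multiplicity]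
      exact pow_dvd_pow q ((hq.pow_dvd_iff_le_factorization Nat.card_pos.ne').mp hdk)
    exact h1.trans (card_dvd_of_le (le_inf hQM (le_centralizer_iff.mp hQc)))
  have hLQ : L ≤ normalizer (Q : Set X) := by
    intro a ha
    have hconj : ∀ b ∈ L, ∀ x ∈ Q, b * x * b⁻¹ ∈ Q := by
      rintro b hb - ⟨x, hx, rfl⟩
      exact ⟨M.normalizerMonoidHom ⟨b, hKRM hb⟩ x, characteristic_iff_le_comap.mp hPc _ hx, rfl⟩
    exact Cfsg.Lib.Coprime.mem_normalizer_of_conj_mem (hconj a ha)
      fun x hx => by simpa using hconj a⁻¹ (inv_mem ha) x hx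
  have hcQ : (Nat.card L).Coprime (Nat.card Q) := Cfsg.Lib.Coprime.coprime_of_le hQM hcop
  have hQp : IsPGroup q Q := P.isPGroup'.map _
  have hK2 : ⁅K, K⁆ ≤ K := Cfsg.Lib.Coprime.commutator_le_of_le_normalizer le_normalizer
  by_cases hQb : Q = ⊥
  · rw [hQb]
    intro x _
    rw [mem_centralizer_iff]
    intro y hy
    rw [(mem_bot.mp hy), one_mul, mul_one]
  have hqQ : q ∣ Nat.card Q :=
    hQp.card_eq_or_dvd.resolve_left fun h => hQb (card_eq_one.mp h)
  have hqL : (Nat.card L).Coprime q := hcQ.coprime_dvd_right hqQ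
  have hΦ : (Nat.card L).Coprime (Nat.card ((frattini Q).map Q.subtype : Subgroup X)) :=
    Cfsg.Lib.Coprime.coprime_of_le (map_subtype_le _) hcQ
  refine Cfsg.Lib.Coprime.le_centralizer_of_frattini ((hK2.trans le_sup_left).trans hLQ)
    ((hcQ.coprime_dvd_left (card_dvd_of_le (hK2.trans le_sup_left))).coprime_dvd_right
      (card_subgroup_dvd_card _)) ?_
  -- the Frattini quotient
  haveI := Cfsg.Lib.PGroups.isMulCommutative_quotient_frattini hQp
  letI : CommGroup (Q ⧸ frattini Q) :=
    { (inferInstance : Group (Q ⧸ frattini Q)) with mul_comm := mul_comm' }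
  let act : L →* MulAut Q := Q.normalizerMonoidHom.comp (Subgroup.inclusion hLQ)
  have hchar : (frattini Q).Characteristic := frattini_characteristic
  let φ : L →* MulAut (Q ⧸ frattini Q) :=
    { toFun := fun a => QuotientGroup.congr (frattini Q) (frattini Q) (act a)
        (characteristic_iff_map_eq.mp hchar (act a))
      map_one' := by
        ext x
        obtain ⟨x, rfl⟩ := QuotientGroup.mk'_surjective (frattini Q) x
        show QuotientGroup.mk' _ (act 1 x) = QuotientGroup.mk' _ x
        rw [map_one]; rfl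
      map_mul' := fun a b => by
        ext x
        obtain ⟨x, rfl⟩ := QuotientGroup.mk'_surjective (frattini Q) x
        show QuotientGroup.mk' _ (act (a * b) x) = QuotientGroup.mk' _ (act a (act b x))
        rw [map_mul]; rfl }
  have hΦn : L ≤ normalizer (((frattini Q).map Q.subtype : Subgroup X) : Set X) := by
    intro a ha
    have hconj : ∀ b ∈ L, ∀ x ∈ (frattini Q).map Q.subtype, b * x * b⁻¹ ∈ (frattini Q).map Q.subtype := by
      rintro b hb - ⟨x, hx, rfl⟩
      exact ⟨Q.normalizerMonoidHom ⟨b, hLQ hb⟩ x, characteristic_iff_le_comap.mp hchar _ hx, rfl⟩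
    exact Cfsg.Lib.Coprime.mem_normalizer_of_conj_mem (hconj a ha)
      fun x hx => by simpa using hconj a⁻¹ (inv_mem ha) x hx
  have hQsol : Group.IsSolvable ((frattini Q).map Q.subtype : Subgroup X) := by
    haveI := (hQp.to_le (map_subtype_le (frattini Q))).isNilpotent
    infer_instance
  -- fixed classes lift
  have hlift : ∀ A : Subgroup X, A ≤ L → ∀ v : Q ⧸ frattini Q,
      (∀ a ∈ A.subgroupOf L, φ a v = v) →
      ∃ w : ↥(Q ⊓ centralizer (A : Set X)),
        QuotientGroup.mk' (frattini Q) (Subgroup.inclusion inf_le_left w) = v := by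
    intro A hA v hv
    obtain ⟨x, rfl⟩ := QuotientGroup.mk'_surjective (frattini Q) v
    obtain ⟨d, hd, hc⟩ := Cfsg.Lib.Coprime.exists_fixed_in_coset (A := A)
      (D := (frattini Q).map Q.subtype) (k := (x : X)) (hA.trans hΦn)
      (hΦ.coprime_dvd_left (card_dvd_of_le hA)) (Or.inr hQsol) (fun a ha => by
        have h1 : QuotientGroup.mk' (frattini Q) (act ⟨a, hA ha⟩ x) = QuotientGroup.mk' _ x :=
          hv ⟨a, hA ha⟩ ha
        exact ⟨x⁻¹ * act ⟨a, hA ha⟩ x, QuotientGroup.eq.mp h1.symm, by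
          show (x : X)⁻¹ * (a * x * a⁻¹) = _
          simp [mul_assoc]⟩)
    obtain ⟨d', hd', rfl⟩ := hd
    refine ⟨⟨(x : X) * d', mul_mem x.2 d'.2, hc⟩, ?_⟩
    show QuotientGroup.mk' (frattini Q) (x * d') = QuotientGroup.mk' _ x
    rw [map_mul, show QuotientGroup.mk' (frattini Q) d' = 1 from (QuotientGroup.eq_one_iff _).mpr hd',
      mul_one]
  have hcomm := Cfsg.Lib.Coprime.commute_of_cyclic_fixed
    (Cfsg.Lib.PGroups.pow_prime_quotient_frattini hQp) φ hqL (K.subgroupOf L) (R.subgroupOf L)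
    (by rw [subgroupOf, subgroupOf, ← comap_inf, hKR, MonoidHom.comap_bot, ker_subtype])
    (by rw [← subgroupOf_sup le_sup_left le_sup_right, subgroupOf_self])
    (fun e he he1 u hu h => by
      have h1 : (u : X) ∈ K ⊓ centralizer ({(e : X)} : Set X) :=
        ⟨hu, mem_centralizer_singleton_iff.mpr (congrArg Subtype.val h).symm⟩
      rw [hfrob e he (fun h0 => he1 (Subtype.ext h0)), mem_bot] at h1
      exact Subtype.ext h1)
    (by rwa [Nat.card_congr (subgroupOfEquivOfLe le_sup_right).toEquiv])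
    (fun v hv => by
      obtain ⟨⟨w, hwQ, hwK⟩, rfl⟩ := hlift K le_sup_left v hv
      have h1 : w ∈ M ⊓ centralizer (K : Set X) := ⟨hQM hwQ, hwK⟩
      rw [hCK, mem_bot] at h1
      exact (QuotientGroup.eq_one_iff _).mpr
        (by rw [show Subgroup.inclusion _ (⟨w, hwQ, hwK⟩ : ↥(Q ⊓ centralizer (K : Set X))) = 1 from
          Subtype.ext h1]; exact one_mem _))
    (by
      haveI := hcyc
      haveI : IsCyclic ↥(Q ⊓ centralizer (R : Set X)) := isCyclic_of_injective
        (Subgroup.inclusion (inf_le_inf_right _ hQM : Q ⊓ centralizer (R : Set X) ≤ _))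
        (inclusion_injective _)
      let f : ↥(Q ⊓ centralizer (R : Set X)) →* Q ⧸ frattini Q :=
        (QuotientGroup.mk' (frattini Q)).comp (Subgroup.inclusion inf_le_left)
      haveI : IsCyclic f.range := isCyclic_of_surjective _ f.rangeRestrict_surjective
      obtain ⟨g, hg⟩ := IsCyclic.exists_ofOrder_eq_natCard (α := f.range)
      have h2 : Nat.card f.range ≤ q := by
        rw [← hg]
        exact orderOf_le_of_pow_eq_one hq.pos
          (Subtype.ext (Cfsg.Lib.PGroups.pow_prime_quotient_frattini hQp _))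
      refine le_trans ?_ h2
      exact Nat.card_le_card_of_injective
        (fun v : {v : Q ⧸ frattini Q // ∀ a ∈ R.subgroupOf L, φ a v = v} =>
          (⟨v.1, by
            obtain ⟨w, hw⟩ := hlift R le_sup_right v.1 v.2
            exact ⟨w, hw⟩⟩ : f.range))
        fun a b h => Subtype.ext (congrArg Subtype.val h :))
  let ι : K →* MulAut (Q ⧸ frattini Q) := φ.comp (Subgroup.inclusion le_sup_left)
  intro a ha x hx
  have hK' : ⁅K, K⁆ = (commutator K).map K.subtype := (map_subtype_commutator K).symm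
  rw [hK'] at ha
  obtain ⟨a', ha', rfl⟩ := ha
  have hker : commutator K ≤ ι.ker := by
    rw [_root_.commutator_def, commutator_le]
    intro u _ v _
    rw [MonoidHom.mem_ker, map_commutatorElement, commutatorElement_eq_one_iff_mul_comm]
    exact hcomm _ u.2 _ v.2
  have h1 : QuotientGroup.mk' (frattini Q) (act (Subgroup.inclusion le_sup_left a') ⟨x, hx⟩) =
      QuotientGroup.mk' (frattini Q) ⟨x, hx⟩ :=
    DFunLike.congr_fun (MonoidHom.mem_ker.mp (hker ha')) (QuotientGroup.mk' (frattini Q) ⟨x, hx⟩)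
  refine ⟨act (Subgroup.inclusion le_sup_left a') ⟨x, hx⟩ * ⟨x, hx⟩⁻¹, ?_, rfl⟩
  have h2 := QuotientGroup.eq.mp h1.symm
  exact ((inferInstance : (frattini Q).Normal).mem_comm_iff).mp h2

end

/-- Let X be a finite group with subgroups K, R, M such that: K and R are nontrivial, K ∩ R = 1, R normalizes K, no non-identity element of R centralizes a non-identity element of K, K ⊔ R is solvable of odd order; M is nilpotent and nontrivial, normalized by K and by R, with order coprime to that of K ⊔ R, M ∩ C(K) = 1, and M ∩ C(x) = M ∩ C(R) for all non-identity x ∈ R. Then R has prime order p, #M = #(M ∩ C(R)) ^ p, and if M ∩ C(R) is cyclic then [K, K] centralizes M. -/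
theorem result {X : Type*} [Group X] [Finite X] (K R M : Subgroup X) (hK1 : K ≠ ⊥) (hR1 : R ≠ ⊥) (hKR : K ⊓ R = ⊥)
    (hRK : R ≤ Subgroup.normalizer (K : Set X)) (hfrob : ∀ r ∈ R, r ≠ 1 → K ⊓ Subgroup.centralizer ({r} : Set X) = ⊥)
    (hsolv : Group.IsSolvable ↥(K ⊔ R)) (hodd : Odd (Nat.card ↥(K ⊔ R)))
    (hM1 : M ≠ ⊥) (hMn : Group.IsNilpotent M) (hKM : K ≤ Subgroup.normalizer (M : Set X)) (hRM : R ≤ Subgroup.normalizer (M : Set X))
    (hcop : (Nat.card ↥(K ⊔ R)).Coprime (Nat.card M)) (hCK : M ⊓ Subgroup.centralizer (K : Set X) = ⊥)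
    (hpr : ∀ x ∈ R, x ≠ 1 → M ⊓ Subgroup.centralizer ({x} : Set X) = M ⊓ Subgroup.centralizer (R : Set X)) :
    (Nat.card R).Prime ∧ Nat.card M = Nat.card ↥(M ⊓ Subgroup.centralizer (R : Set X)) ^ Nat.card R ∧
      (IsCyclic ↥(M ⊓ Subgroup.centralizer (R : Set X)) → ⁅K, K⁆ ≤ Subgroup.centralizer (M : Set X)) := by
  haveI := hMn
  have hsolM : Group.IsSolvable M := inferInstance
  have hform : ∀ E ≤ R, Nat.card M =
      Nat.card ↥(M ⊓ centralizer (E : Set X)) ^ Nat.card E := by
    intro E hE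
    have h := Cfsg.Lib.FixedDim.frobenius_fixed_solvable K E
      (eq_bot_iff.mpr (le_trans (inf_le_inf_left K hE) hKR.le)) (hE.trans hRK)
      (fun e he he1 u hu h => by
        have h1 : u ∈ K ⊓ centralizer ({e} : Set X) :=
          ⟨hu, mem_centralizer_singleton_iff.mpr h.symm⟩
        rwa [hfrob e (hE he) he1, mem_bot] at h1)
      _ M le_rfl (sup_le hKM (hE.trans hRM)) hsolM
      (hcop.symm.coprime_dvd_right (card_dvd_of_le (sup_le_sup_left hE K)))
    have h0 : M ⊓ centralizer ((K ⊔ E : Subgroup X) : Set X) = ⊥ :=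
      eq_bot_iff.mpr ((inf_le_inf_left M (centralizer_le (SetLike.coe_subset_coe.mpr le_sup_left))).trans hCK.le)
    rw [h0, hCK, card_bot, one_pow, one_mul, mul_one] at h
    exact h
  have hMR := hform R le_rfl
  obtain ⟨r, hr, hrdvd⟩ := Nat.exists_prime_and_dvd (fun h : Nat.card R = 1 => hR1 (card_eq_one.mp h))
  haveI := Fact.mk hr
  obtain ⟨⟨x, hx⟩, hxo⟩ := exists_prime_orderOf_dvd_card' (G := R) r hrdvd
  rw [orderOf_mk] at hxo
  have hx1 : x ≠ 1 := fun h => hr.ne_one (by rw [← hxo, h, orderOf_one])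
  have hMr := hform (zpowers x) (zpowers_le.mpr hx)
  rw [Nat.card_zpowers, hxo, show centralizer ((zpowers x : Subgroup X) : Set X) = centralizer {x} by
    rw [zpowers_eq_closure, centralizer_closure], hpr x hx hx1] at hMr
  have hc : 1 < Nat.card ↥(M ⊓ centralizer (R : Set X)) := by
    refine Nat.one_lt_iff_ne_zero_and_ne_one.mpr ⟨Nat.card_pos.ne', fun h => hM1 (card_eq_one.mp ?_)⟩
    rw [hMR, h, one_pow]
  have hRr : Nat.card R = r := Nat.pow_right_injective hc (hMR.symm.trans hMr)
  exact ⟨hRr ▸ hr, hMR, fun hcyc => commutator_centralizes K R M hKR hRK hfrob (hRr ▸ hr) hMn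
    (sup_le hKM hRM) hcop hCK hcyc⟩

end Cfsg.Agent.S1446
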