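import Cfsg.Statements.S1456
import Cfsg.Agent.OddLocal.SmallStructure

set_option autoImplicit false
set_option linter.style.haveILetI false
open Cfsg

namespace Cfsg.Agent.S1456

/-- Let G be a solvable group of odd order, p a prime, and E an elementary abelian p-subgroup of the Fitting subgroup F(G) such that F(G) ∩ C_G(E) has no elementary abelian subgroup of order q ^ 3 for any prime q. Then the derived subgroup of G is contained in F(G). -/
theorem result {G : Type*} [Group G] [Finite G] [Group.IsSolvable G] (hodd : Odd (Nat.card G)) (p : ℕ) [Fact p.Prime] (E : Subgroup G) (hE : E ≤ Cfsg.fittingSubgroup G) (hEe : Cfsg.IsElementaryAbelian p E)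
    (hr : Cfsg.RankLE 2 ↥(Cfsg.fittingSubgroup G ⊓ Subgroup.centralizer (E : Set G))) :
    commutator G ≤ Cfsg.fittingSubgroup G := by
  refine Cfsg.Lib.OddP.commutator_le_fitting fun q _ x hx hxq => ?_
  set U := Cfsg.pCore q G with hU
  have hUp : IsPGroup q U := Cfsg.Lib.Components.isPGroup_pCore q
  by_cases hU1 : U = ⊥
  · rw [hU1]
    exact Subgroup.mem_centralizer_iff.mpr fun y hy => by
      rw [Subgroup.mem_bot.mp hy, one_mul, mul_one]
  have hq2 : q ≠ 2 := fun h => hodd.not_two_dvd_nat (h ▸ (hUp.card_eq_or_dvd.resolve_left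
    fun h1 => hU1 (Subgroup.card_eq_one.mp h1)).trans (Subgroup.card_subgroup_dvd_card U))
  have hs : Cfsg.Lib.OddP.IsSmall q U := by
    haveI : Group.IsNilpotent (Cfsg.fittingSubgroup G) := Cfsg.Lib.Components.isNilpotent_fitting
    have hUF : U ≤ Cfsg.fittingSubgroup G := le_sSup ⟨inferInstance, hUp.isNilpotent⟩
    by_cases hqp : q = p
    · subst hqp
      have hEU : E ≤ U := fun e he => Cfsg.Lib.OddP.mem_pCore_of_mem_fitting (i := 1) (hE he)
        (by rw [pow_one]; exact hEe.2 e he)
      by_cases hrU : Cfsg.PRankLE q 2 U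
      · exact Or.inl hrU
      refine Or.inr ?_
      have hEU' : Cfsg.IsElementaryAbelian q (E.subgroupOf U) :=
        ⟨⟨⟨fun a b => Subtype.ext (Subtype.ext
          (congrArg Subtype.val (hEe.1.is_comm.comm (⟨((a : U) : G), a.2⟩ : E) ⟨((b : U) : G), b.2⟩) :))⟩⟩,
          fun a ha => Subtype.ext (hEe.2 _ ha)⟩
      obtain ⟨B, ⟨hB, hEB⟩, hmax⟩ := exists_maximal_of_wellFoundedGT
        (fun B : Subgroup U => Cfsg.IsElementaryAbelian q B ∧ E.subgroupOf U ≤ B) ⟨_, hEU', le_rfl⟩
      have hBmax : ∀ C : Subgroup U, Cfsg.IsElementaryAbelian q C → B ≤ C → C = B :=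
        fun C hC hBC => le_antisymm (hmax ⟨hC, hEB.trans hBC⟩ hBC) hBC
      have hBC : B.map U.subtype ≤ Cfsg.fittingSubgroup G ⊓ Subgroup.centralizer (E : Set G) := by
        rintro _ ⟨b, hb, rfl⟩
        refine ⟨hUF b.2, Subgroup.mem_centralizer_iff.mpr fun e he => ?_⟩
        exact congrArg Subtype.val (congrArg Subtype.val
          (hB.1.is_comm.comm (⟨⟨e, hEU he⟩, hEB he⟩ : B) ⟨b, hb⟩))
      have hB2 : Nat.card B ≤ q ^ 2 := by
        have h1 := Cfsg.Lib.OddP.pRankLE_of_injective (p := q) (Subgroup.inclusion hBC)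
          (Subgroup.inclusion_injective hBC) (hr q Fact.out) ⊤
          (by haveI := (Cfsg.Lib.OddP.isElementaryAbelian_map hB U.subtype).1; infer_instance)
          (fun a _ => Subtype.ext ((Cfsg.Lib.OddP.isElementaryAbelian_map hB U.subtype).2 a a.2))
        rwa [Subgroup.card_top, Subgroup.card_map_of_injective U.subtype_injective] at h1
      obtain ⟨c, hc⟩ := IsPGroup.iff_card.mp (hUp.to_subgroup B)
      refine ⟨B, hB, ?_, hBmax⟩
      have hc2 : c ≤ 2 := (Nat.pow_le_pow_iff_right (Fact.out : q.Prime).one_lt).mp (hc ▸ hB2)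
      rcases (show c = 2 ∨ c ≤ 1 by omega) with rfl | hc1
      · exact hc
      -- a cyclic maximal elementary subgroup forces rank one
      exfalso
      haveI : Nontrivial U := (Subgroup.nontrivial_iff_ne_bot U).mpr hU1
      obtain ⟨z, -, hzc, hz⟩ := Cfsg.Lib.PGroups.exists_mem_center_of_normal_ne_bot hUp (N := (⊤ : Subgroup U))
        top_ne_bot
      have hzB : z ∈ B := Cfsg.Lib.OddP.mem_of_commute_maximal hB hBmax (hz ▸ pow_orderOf_eq_one z)
        fun e _ => Subgroup.mem_center_iff.mp hzc e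
      have hBz : B = Subgroup.zpowers z := (Cfsg.Lib.Coprime.eq_of_le_of_card_eq (Subgroup.zpowers_le.mpr hzB)
        (le_antisymm (Subgroup.card_le_of_le (Subgroup.zpowers_le.mpr hzB)) (by
          rw [Nat.card_zpowers, hz, hc]
          exact (Nat.pow_le_pow_right (Fact.out : q.Prime).pos hc1).trans (pow_one q).le))).symm
      refine hrU fun C _ hCp => ?_
      have hCB : C ≤ B := fun y hy => Cfsg.Lib.OddP.mem_of_commute_maximal hB hBmax (hCp y hy) fun e he => by
        obtain ⟨m, rfl⟩ := Subgroup.mem_zpowers_iff.mp (hBz.le he)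
        exact ((show Commute z y from (Subgroup.mem_center_iff.mp hzc y).symm).zpow_left m).eq
      exact (Subgroup.card_le_of_le hCB).trans hB2
    · refine Or.inl ?_
      have hle : U ≤ Cfsg.fittingSubgroup G ⊓ Subgroup.centralizer (E : Set G) := fun u hu =>
        ⟨hUF hu, Subgroup.mem_centralizer_iff.mpr fun e he => by
          have h1 : Commute (⟨e, hE he⟩ : Cfsg.fittingSubgroup G) ⟨u, hUF hu⟩ := by
            obtain ⟨i, hi⟩ := hUp ⟨u, hu⟩
            refine Cfsg.Lib.FittingHall.commute_coprime (Nat.Coprime.coprime_dvd_left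
              (orderOf_dvd_of_pow_eq_one (Subtype.ext (hEe.2 e he))) (Nat.Coprime.coprime_dvd_right
              (orderOf_dvd_of_pow_eq_one (Subtype.ext (congrArg Subtype.val hi :)))
              (((Nat.coprime_primes Fact.out Fact.out).mpr (Ne.symm hqp)).pow_right i)))
          exact congrArg Subtype.val h1.eq⟩
      exact Cfsg.Lib.OddP.pRankLE_of_injective (Subgroup.inclusion hle) (Subgroup.inclusion_injective hle)
        (hr q Fact.out)
  exact Cfsg.Lib.OddP.derived_centralizes_small hq2 hUp hs (A := ⊤) Subgroup.le_normalizer_of_normal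
    (by rwa [Subgroup.card_top]) (by rwa [← _root_.commutator_def]) hxq

end Cfsg.Agent.S1456
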