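import Cfsg.Statements.S1458
import Cfsg.Agent.OddLocal.PLengthBasic

set_option autoImplicit false
open Cfsg

namespace Cfsg.Agent.S1458

/-- Let G be a solvable group of odd order, p a prime and S a Sylow p-subgroup of G. Then the subgroup generated by the centre of the Thompson subgroup of S and O_{p'}(G) is normal in G. -/
theorem result {G : Type*} [Group G] [Finite G] [Group.IsSolvable G] (hodd : Odd (Nat.card G)) (p : ℕ) [Fact p.Prime] (S : Sylow p G) :
    (Cfsg.centerThompsonOf p (S : Subgroup G) ⊔ Cfsg.pPrimeCore p G).Normal := by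
  by_cases hp2 : p = 2
  · subst hp2
    rw [Cfsg.Lib.OddP.pPrimeCore_two_eq_top hodd, sup_top_eq]
    infer_instance
  have hn := Cfsg.Lib.ZJ.centerThompson_normal hp2
    (Cfsg.Lib.CN.stable_of_odd (Cfsg.Lib.OddP.odd_quotient hodd (Cfsg.pPrimeCore p G)) hp2)
    Cfsg.Lib.OddP.charP_quotient_pPrimeCore
    (S.mapSurjective (QuotientGroup.mk'_surjective (Cfsg.pPrimeCore p G)))
  change (Cfsg.centerThompsonOf p ((S : Subgroup G).map (QuotientGroup.mk' _))).Normal at hn
  rw [← Cfsg.Lib.ZJ.centerThompsonOf_map_injOn (Cfsg.Lib.OddP.injOn_pPrimeCore S.2)] at hn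
  have := hn.comap (QuotientGroup.mk' (Cfsg.pPrimeCore p G))
  rwa [Subgroup.comap_map_eq, QuotientGroup.ker_mk'] at this

end Cfsg.Agent.S1458
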