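import Cfsg.Statements.S1466
import Cfsg.Agent.OddLocal.Puig

set_option autoImplicit false
open Cfsg

namespace Cfsg.Agent.S1466

/-- Let p be a prime and R a nontrivial finite p-group. Then for every i > 0, Z(R) ≤ C_R(L_i(R)) ≤ L_i(R); likewise Z(R) ≤ C_R(L_*(R)) ≤ L_*(R) and Z(R) ≤ C_R(L(R)) ≤ L(R); and L(R) ≠ 1, L_*(R) ≠ 1. -/
theorem result {R : Type*} [Group R] [Finite R] (p : ℕ) [Fact p.Prime] (hR : IsPGroup p R) [Nontrivial R] :
    (∀ i : ℕ, 0 < i → Subgroup.center R ≤ Subgroup.centralizer ((Cfsg.puigSeq R i : Subgroup R) : Set R) ∧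
        Subgroup.centralizer ((Cfsg.puigSeq R i : Subgroup R) : Set R) ≤ Cfsg.puigSeq R i) ∧
      (Subgroup.center R ≤ Subgroup.centralizer ((Cfsg.puigLower R : Subgroup R) : Set R) ∧ Subgroup.centralizer ((Cfsg.puigLower R : Subgroup R) : Set R) ≤ Cfsg.puigLower R) ∧
      (Subgroup.center R ≤ Subgroup.centralizer ((Cfsg.puigSubgroup R : Subgroup R) : Set R) ∧ Subgroup.centralizer ((Cfsg.puigSubgroup R : Subgroup R) : Set R) ≤ Cfsg.puigSubgroup R) ∧
      Cfsg.puigSubgroup R ≠ ⊥ ∧ Cfsg.puigLower R ≠ ⊥ := by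
  have := hR.isNilpotent
  obtain ⟨k, hk⟩ := Cfsg.Lib.Puig.exists_stable (G := R)
  have hstep : ∀ i : ℕ, 0 < i → Subgroup.centralizer ((Cfsg.puigSeq R i : Subgroup R) : Set R) ≤
      Cfsg.puigSeq R i := by
    intro i hi
    obtain ⟨j, rfl⟩ := Nat.exists_eq_succ_of_ne_zero hi.ne'
    exact Cfsg.Lib.Puig.centralizer_step_le _
  have hl : Subgroup.centralizer ((Cfsg.puigLower R : Subgroup R) : Set R) ≤ Cfsg.puigLower R := by
    rw [← (hk (k + 1) k.le_succ).1]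
    exact hstep _ (by omega)
  have hu : Subgroup.centralizer ((Cfsg.puigSubgroup R : Subgroup R) : Set R) ≤ Cfsg.puigSubgroup R := by
    rw [← (hk k le_rfl).2]
    exact hstep _ (by omega)
  have hne : ∀ X : Subgroup R, Subgroup.centralizer (X : Set R) ≤ X → X ≠ ⊥ := by
    rintro X hX rfl
    obtain ⟨g, hg⟩ := exists_ne (1 : R)
    exact hg (Subgroup.mem_bot.mp (hX (Subgroup.mem_centralizer_iff.mpr fun x hx => by
      rw [Subgroup.mem_bot.mp hx, one_mul, mul_one])))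
  exact ⟨fun i hi => ⟨Cfsg.Lib.Puig.center_le_centralizer _, hstep i hi⟩,
    ⟨Cfsg.Lib.Puig.center_le_centralizer _, hl⟩, ⟨Cfsg.Lib.Puig.center_le_centralizer _, hu⟩,
    hne _ hu, hne _ hl⟩

end Cfsg.Agent.S1466
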