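import Cfsg.Statements.S1469
import Cfsg.Agent.OddLocal.PuigIn
import Cfsg.Agent.Components.ZJ.Closed

set_option autoImplicit false
set_option linter.style.haveILetI false
open Cfsg

namespace Cfsg.Agent.S1469

/-- Let p be an odd prime, G a solvable group of odd order and S a Sylow p-subgroup, and let Z be the centre of the Puig subgroup L(S), viewed inside G. Then G is generated by O_{p'}(G) and N_G(Z); and if O_{p'}(G) = 1 then Z is normal in G. -/
theorem result {G : Type*} [Group G] [Finite G] [Group.IsSolvable G] (hodd : Odd (Nat.card G)) (p : ℕ) [Fact p.Prime] (hp : p ≠ 2) (S : Sylow p G) :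
    Cfsg.pPrimeCore p G ⊔ Subgroup.normalizer ((((Subgroup.center ↥(Cfsg.puigSubgroup ↥(S : Subgroup G))).map (Cfsg.puigSubgroup ↥(S : Subgroup G)).subtype).map (S : Subgroup G).subtype : Subgroup G) : Set G) = ⊤ ∧
      (Cfsg.pPrimeCore p G = ⊥ → (((Subgroup.center ↥(Cfsg.puigSubgroup ↥(S : Subgroup G))).map (Cfsg.puigSubgroup ↥(S : Subgroup G)).subtype).map (S : Subgroup G).subtype).Normal) := by
  rw [Cfsg.Lib.Puig.center_map_map]
  refine ⟨?_, fun hO => Cfsg.Lib.Puig.centerPuig_normal hodd hp hO S⟩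
  have hn := Cfsg.Lib.Puig.centerPuig_normal (Cfsg.Lib.OddP.odd_quotient hodd (Cfsg.pPrimeCore p G)) hp
    Cfsg.Lib.OddP.quotient_pPrimeCore_eq_bot
    (S.mapSurjective (QuotientGroup.mk'_surjective (Cfsg.pPrimeCore p G)))
  change (Cfsg.Lib.Puig.centerPuigIn ((S : Subgroup G).map (QuotientGroup.mk' _))).Normal at hn
  rw [← Cfsg.Lib.Puig.map_centerPuigIn (Cfsg.Lib.OddP.injOn_pPrimeCore S.2)] at hn
  exact Cfsg.Lib.ZJ.sup_normalizer_of_map_normal (Cfsg.Lib.Components.coprime_card_pPrimeCore p) S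
    (inf_le_left.trans (Cfsg.Lib.Puig.puigIn_le _)) hn

end Cfsg.Agent.S1469
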