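import Cfsg.Statements.S1470
import Mathlib

set_option autoImplicit false
open Cfsg

namespace Cfsg.Agent.S1470

/-- Let p and q be odd primes with (p^q − 1)/(p − 1) coprime to p − 1, and let E be the set of elements a of the field with p ^ q elements whose norm to the prime field is 1 and for which 2 − a also has norm 1. If a⁻¹ ∈ E for every a ∈ E and E has at least two elements, then p ≤ q. -/
theorem result (p q : ℕ) [Fact p.Prime] [Fact q.Prime] (hp : p ≠ 2) (hq : q ≠ 2) (hA : Nat.Coprime ((p ^ q - 1) / (p - 1)) (p - 1))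
    (hinv : ∀ a ∈ {a : GaloisField p q | Algebra.norm (ZMod p) a = 1 ∧ Algebra.norm (ZMod p) (2 - a) = 1}, a⁻¹ ∈ {a : GaloisField p q | Algebra.norm (ZMod p) a = 1 ∧ Algebra.norm (ZMod p) (2 - a) = 1})
    (h2 : 2 ≤ Set.ncard {a : GaloisField p q | Algebra.norm (ZMod p) a = 1 ∧ Algebra.norm (ZMod p) (2 - a) = 1}) :
    p ≤ q := by
  classical
  obtain ⟨a, ha, ha1⟩ := Set.exists_ne_of_one_lt_ncard (lt_of_lt_of_le one_lt_two h2) (1 : GaloisField p q)
  set N := Algebra.norm (ZMod p) (S := GaloisField p q)
  have key : ∀ k : ℕ, N ((k : GaloisField p q) * (a - 1) + 1) = 1 := by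
    have h : ∀ k : ℕ, N ((k : GaloisField p q) * (a - 1) + 1) = 1 ∧
        ∃ c ∈ {x : GaloisField p q | N x = 1 ∧ N (2 - x) = 1},
          c * ((k : GaloisField p q) * (a - 1) + 1) = ((k + 1 : ℕ) : GaloisField p q) * (a - 1) + 1 := by
      intro k
      induction k with
      | zero => exact ⟨by simp, a, ha, by simp⟩
      | succ k ih =>
        obtain ⟨hk, c, hc, hck⟩ := ih
        have hd : N (((k + 1 : ℕ) : GaloisField p q) * (a - 1) + 1) = 1 := by
          rw [← hck, map_mul, hc.1, hk, one_mul]
        have hc0 : c ≠ 0 := fun h => by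
          have h' := hc.1
          rw [h, Algebra.norm_zero] at h'
          exact zero_ne_one h'
        have hci := hinv c hc
        refine ⟨hd, 2 - c⁻¹, ⟨hci.2, by rw [sub_sub_cancel]; exact hci.1⟩, ?_⟩
        rw [← hck]
        field_simp
        push_cast at hck ⊢
        linear_combination (2 : GaloisField p q) * hck
    exact fun k => (h k).1
  by_contra hlt
  rw [not_le] at hlt
  have hfin : Module.finrank (ZMod p) (GaloisField p q) = q :=
    GaloisField.finrank p (Fact.out : q.Prime).ne_zero
  set b := a - 1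
  have hb : b ≠ 0 := sub_ne_zero.mpr ha1
  set P : Polynomial (GaloisField p q) :=
    ∏ σ : GaloisField p q ≃ₐ[ZMod p] GaloisField p q, (Polynomial.C (σ b) * Polynomial.X + 1) with hP
  have hev : ∀ t : GaloisField p q, P.eval t =
      ∏ σ : GaloisField p q ≃ₐ[ZMod p] GaloisField p q, (σ b * t + 1) := fun t => by
    simp [hP, Polynomial.eval_prod]
  have hdeg : P.natDegree ≤ q := by
    refine (Polynomial.natDegree_prod_le _ _).trans ?_
    refine (Finset.sum_le_sum (g := fun _ => 1) fun σ _ => ?_).trans ?_
    · compute_degree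
    · rw [Finset.sum_const, smul_eq_mul, mul_one, Finset.card_univ, Fintype.card_eq_nat_card]
      exact ((IsGalois.card_aut_eq_finrank (ZMod p) (GaloisField p q)).trans hfin).le
  have hz : P - 1 = 0 := by
    refine Polynomial.eq_zero_of_natDegree_lt_card_of_eval_eq_zero (P - 1)
      (f := fun k : Fin p => ((k : ℕ) : GaloisField p q)) ?_ ?_ ?_
    · intro i j hij
      simp only at hij
      rw [CharP.natCast_eq_natCast (GaloisField p q) p, Nat.ModEq, Nat.mod_eq_of_lt i.2,
        Nat.mod_eq_of_lt j.2] at hij
      exact Fin.ext hij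
    · intro k
      have := key k
      rw [Polynomial.eval_sub, Polynomial.eval_one, hev]
      have h2 := congrArg (algebraMap (ZMod p) (GaloisField p q)) this
      rw [map_one, Algebra.norm_eq_prod_automorphisms] at h2
      refine sub_eq_zero.mpr (Eq.trans ?_ h2)
      refine Finset.prod_congr rfl fun σ _ => ?_
      rw [map_add, map_mul, map_natCast, map_one, mul_comm]
    · rw [Fintype.card_fin]
      exact lt_of_le_of_lt ((Polynomial.natDegree_sub_le _ _).trans (by simp [hdeg])) hlt
  have h0 := congrArg (Polynomial.eval (-b⁻¹)) hz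
  rw [Polynomial.eval_sub, hev, Polynomial.eval_one, Polynomial.eval_zero,
    Finset.prod_eq_zero (Finset.mem_univ (AlgEquiv.refl : GaloisField p q ≃ₐ[ZMod p] GaloisField p q))
      (by simp [hb])] at h0
  simp at h0

end Cfsg.Agent.S1470
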