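import Cfsg.Statements.S1471
import Cfsg.Agent.OddLocal.NormOnePairs

set_option autoImplicit false
set_option linter.style.haveILetI false
open Cfsg

namespace Cfsg.Agent.S1471

/-- Let p and q be odd primes with (p^q − 1)/(p − 1) coprime to p − 1. Then there are at least two elements a of the field with p ^ q elements such that both a and 2 − a have norm 1 to the prime field. -/
theorem result (p q : ℕ) [Fact p.Prime] [Fact q.Prime] (hp : p ≠ 2) (hq : q ≠ 2) (hA : Nat.Coprime ((p ^ q - 1) / (p - 1)) (p - 1)) :
    2 ≤ Set.ncard {a : GaloisField p q | Algebra.norm (ZMod p) a = 1 ∧ Algebra.norm (ZMod p) (2 - a) = 1} := by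
  rcases Nat.lt_or_ge q 5 with h | h
  · have h2 := (Fact.out : q.Prime).two_le
    have hq3 : q = 3 := by
      rcases (show q = 2 ∨ q = 3 ∨ q = 4 by omega) with h' | h' | h'
      · exact absurd h' hq
      · exact h'
      · exact absurd (h' ▸ (Fact.out : q.Prime)) (by norm_num)
    subst hq3
    exact Cfsg.Lib.OddLocal.NormOnePairs.two_le_three hp
  · exact Cfsg.Lib.OddLocal.NormOnePairs.two_le_large hp h

end Cfsg.Agent.S1471
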