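import Cfsg.Statements.S1475
import Cfsg.Agent.Frobenius.FpfGroups
import Cfsg.Agent.Coprime.Hall

set_option autoImplicit false
open Cfsg

namespace Cfsg.Agent.S1475

/-- Let G be a finite solvable group such that the order of every element is a prime power (1 included). Then at most two distinct primes divide the order of G. -/
theorem result {G : Type*} [Group G] [Finite G] [Group.IsSolvable G] (h : ∀ g : G, IsPrimePow (orderOf g) ∨ g = 1) :
    (Nat.card G).primeFactors.card ≤ 2 := by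
  classical
  by_contra hcon
  push Not at hcon
  have hcard0 : Nat.card G ≠ 0 := Nat.card_pos.ne'
  have hnt : Nontrivial G := by
    by_contra hn
    rw [not_nontrivial_iff_subsingleton] at hn
    rw [Nat.card_of_subsingleton (1 : G), Nat.primeFactors_one, Finset.card_empty] at hcon
    omega
  -- no element of order divisible by two primes
  have hmul : ∀ (a b : G) (s t : ℕ), s.Prime → t.Prime → s ≠ t → s ∣ orderOf a → t ∣ orderOf b →
      (orderOf a).Coprime (orderOf b) → a * b = b * a → False := by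
    intro a b s t hs ht hst hsa htb hcop hc
    have ho := Commute.orderOf_mul_eq_mul_orderOf_of_coprime (show Commute a b from hc) hcop
    rcases h (a * b) with hpp | h1
    · rw [ho] at hpp
      obtain ⟨u, e, hu, -, hue⟩ := (isPrimePow_nat_iff _).mp hpp
      have h1 := (Nat.prime_dvd_prime_iff_eq hs hu).mp (hs.dvd_of_dvd_pow (hue ▸ Dvd.dvd.mul_right hsa _))
      have h2 := (Nat.prime_dvd_prime_iff_eq ht hu).mp (ht.dvd_of_dvd_pow (hue ▸ Dvd.dvd.mul_left htb _))
      exact hst (h1.trans h2.symm)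
    · rw [h1, orderOf_one] at ho
      have := Nat.eq_one_of_mul_eq_one_right ho.symm
      exact hs.not_dvd_one (this ▸ hsa)
  obtain ⟨N, -, hNn, hNb, hmin⟩ := Cfsg.Lib.Coprime.exists_minimal_normal
    (inferInstance : (⊤ : Subgroup G).Normal) (top_ne_bot)
  haveI := hNn
  obtain ⟨-, p, hp, hNp, -⟩ := Cfsg.Lib.Coprime.minimal_normal_solvable
    (N := N) inferInstance hNb hmin
  obtain ⟨q, hqm, r, hrm, hqr⟩ : ∃ q ∈ (Nat.card G).primeFactors.erase p,
      ∃ r ∈ (Nat.card G).primeFactors.erase p, q ≠ r := by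
    refine Finset.one_lt_card.mp ?_
    have := Finset.pred_card_le_card_erase (a := p) (s := (Nat.card G).primeFactors)
    omega
  simp only [Finset.mem_erase, Nat.mem_primeFactors] at hqm hrm
  obtain ⟨hqp, hq, hqG, -⟩ := hqm
  obtain ⟨hrp, hr, hrG, -⟩ := hrm
  obtain ⟨K, hK⟩ := Cfsg.Lib.Coprime.exists_piHall (G := G) ({q, r} : Set ℕ)
  have hKd : ∀ s : ℕ, s.Prime → s ∣ Nat.card G → s ∈ ({q, r} : Set ℕ) → s ∣ Nat.card K := by
    intro s hs hsG hsm
    rw [← Subgroup.card_mul_index K] at hsG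
    exact ((hs.dvd_mul).mp hsG).resolve_right (hK.2 s hs hsm)
  have hNK : K ≤ Subgroup.normalizer (N : Set G) := by
    rw [Subgroup.normalizer_eq_top]; exact le_top
  have hfpf : Cfsg.Lib.Frobenius.Fpf K N := by
    intro a ha ha1
    rw [eq_bot_iff]
    rintro v ⟨hv, hvc⟩
    rw [Subgroup.mem_bot]
    by_contra hv1
    obtain ⟨s, hs, hsa⟩ := Nat.exists_prime_and_dvd (fun e => ha1 (orderOf_eq_one_iff.mp e))
    haveI := Fact.mk hp
    have hvp : p ∣ orderOf v := by
      rw [← Subgroup.orderOf_mk v hv]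
      exact hNp.dvd_orderOf fun e => hv1 (congrArg Subtype.val e)
    have haK : orderOf a ∣ Nat.card K := Subgroup.orderOf_dvd_natCard _ ha
    have hsp : s ≠ p := by
      intro e
      rcases hK.1 s hs (hsa.trans haK) with h' | h'
      · exact hqp (h'.symm.trans e)
      · exact hrp (h'.symm.trans e)
    obtain ⟨j, hj⟩ := IsPGroup.iff_card.mp hNp
    obtain ⟨i, -, hi⟩ := (Nat.dvd_prime_pow hp).mp (hj ▸ Subgroup.orderOf_dvd_natCard _ hv)
    refine hmul a v s p hs hp hsp hsa hvp ?_ (Subgroup.mem_centralizer_singleton_iff.mp hvc).symm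
    rw [hi]
    refine Nat.Coprime.pow_right i ((Nat.Prime.coprime_iff_not_dvd hp).mpr fun hpa => ?_).symm
    rcases hK.1 p hp (hpa.trans haK) with h' | h'
    · exact hqp h'.symm
    · exact hrp h'.symm
  haveI : Nontrivial K := by
    rw [← Finite.one_lt_card_iff_nontrivial]
    exact lt_of_lt_of_le hq.one_lt (Nat.le_of_dvd Nat.card_pos (hKd q hq hqG (Or.inl rfl)))
  obtain ⟨R, -, hRn, hRb, hRmin⟩ := Cfsg.Lib.Coprime.exists_minimal_normal
    (inferInstance : (⊤ : Subgroup K).Normal) (top_ne_bot)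
  haveI := hRn
  obtain ⟨hRc, s, hs, hRs, hRe⟩ := Cfsg.Lib.Coprime.minimal_normal_solvable
    (N := R) inferInstance hRb hRmin
  haveI := hRc
  set R' := R.map K.subtype with hR'
  have hR'K : R' ≤ K := Subgroup.map_subtype_le _
  haveI : IsCyclic R' := Cfsg.Lib.Frobenius.Fpf.isCyclic_of_comm (hR'K.trans hNK)
    (hfpf.mono hR'K) hNb
  obtain ⟨x, hxR, hx1⟩ := (Subgroup.bot_or_exists_ne_one R).resolve_left hRb
  haveI := Fact.mk hs
  have hox : orderOf (x : G) = s := by
    rw [Subgroup.orderOf_coe]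
    exact orderOf_eq_prime (hRe x hxR) hx1
  have hsK : s ∣ Nat.card K := hox ▸ Subgroup.orderOf_dvd_natCard _ x.2
  obtain ⟨t, ht, htK, hts⟩ : ∃ t, t.Prime ∧ t ∣ Nat.card K ∧ t ≠ s := by
    rcases hK.1 s hs hsK with h' | h'
    · exact ⟨r, hr, hKd r hr hrG (Or.inr rfl), fun e => hqr (by rw [e]; exact h'.symm)⟩
    · exact ⟨q, hq, hKd q hq hqG (Or.inl rfl), fun e => hqr (e.trans h')⟩
  haveI := Fact.mk ht
  obtain ⟨y, hy⟩ := exists_prime_orderOf_dvd_card' t htK
  have hoy : orderOf (y : G) = t := by rw [Subgroup.orderOf_coe, hy]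
  have hnorm : (y : G) * x * (y : G)⁻¹ ∈ Subgroup.zpowers (x : G) := by
    have hmem : ∀ z ∈ R', z ∈ Subgroup.zpowers (x : G) := by
      intro z hz
      have hle : Subgroup.zpowers (x : G) ≤ R' := Subgroup.zpowers_le.mpr ⟨x, hxR, rfl⟩
      have hcard : Nat.card R' ≤ s := by
        obtain ⟨g, hg⟩ := IsCyclic.exists_generator (α := R')
        rw [← orderOf_eq_card_of_forall_mem_zpowers hg]
        obtain ⟨w, hw, hwg⟩ := g.2
        refine Nat.le_of_dvd hs.pos (orderOf_dvd_of_pow_eq_one (Subtype.ext ?_))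
        rw [Subgroup.coe_pow, Subgroup.coe_one, ← hwg, ← map_pow, hRe w hw, map_one]
      exact (Subgroup.eq_of_le_of_card_ge hle (by rw [Nat.card_zpowers, hox]; exact hcard)) ▸ hz
    exact hmem _ ⟨y * x * y⁻¹, hRn.conj_mem x hxR y, rfl⟩
  haveI hNc : IsMulCommutative N := (Cfsg.Lib.Coprime.minimal_normal_solvable
    (N := N) inferInstance hNb hmin).1
  have hcomm := Cfsg.Lib.Frobenius.Fpf.commute_of_normalizes hNK hfpf hNb ht hs y.2 x.2 hoy hox hnorm
  refine hmul (y : G) (x : G) t s ht hs hts hoy.symm.dvd hox.symm.dvd ?_ hcomm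
  rw [hoy, hox]
  exact (Nat.coprime_primes ht hs).mpr hts

end Cfsg.Agent.S1475
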