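import Cfsg.Statements.S1483
import Cfsg.Agent.OddLocal.CNMinSimple

set_option autoImplicit false
open Cfsg

namespace Cfsg.Agent.S1483

/-- Let G be a minimal simple group of odd order in which every non-identity element has nilpotent centralizer. Then any two nilpotent subgroups each contained in no larger nilpotent subgroup are either conjugate or of coprime orders; and for primes p, q, r: if some elements x, y ≠ 1 of p-power and q-power order commute, and some elements y', z ≠ 1 of q-power and r-power order commute, then some elements of p-power and r-power order, both ≠ 1, commute. -/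
theorem result {G : Type*} [Group G] [Finite G] (hG : Cfsg.IsMinSimpleOddOrder G) (hCN : Cfsg.IsCNGroup G) :
    (∀ H₁ H₂ : Subgroup G, (Group.IsNilpotent ↥H₁ ∧ ∀ L : Subgroup G, Group.IsNilpotent L → H₁ ≤ L → L = H₁) → (Group.IsNilpotent ↥H₂ ∧ ∀ L : Subgroup G, Group.IsNilpotent L → H₂ ≤ L → L = H₂) → (∃ g : G, H₂ = H₁.map (MulAut.conj g).toMonoidHom) ∨ (Nat.card H₁).Coprime (Nat.card H₂)) ∧
      ∀ (p q r : ℕ), p.Prime → q.Prime → r.Prime → ∀ (x y y' z : G), x ≠ 1 → y ≠ 1 → y' ≠ 1 → z ≠ 1 →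
        IsPGroup p (Subgroup.zpowers x) → IsPGroup q (Subgroup.zpowers y) → IsPGroup q (Subgroup.zpowers y') → IsPGroup r (Subgroup.zpowers z) →
        x * y = y * x → y' * z = z * y' →
        ∃ x' z' : G, x' ≠ 1 ∧ z' ≠ 1 ∧ IsPGroup p (Subgroup.zpowers x') ∧ IsPGroup r (Subgroup.zpowers z') ∧ x' * z' = z' * x' := by
  refine ⟨fun H₁ H₂ h₁ h₂ => Cfsg.Lib.CN.maxNil_conj_or_coprime hG hCN h₁ h₂, ?_⟩
  intro p q r hp hq hr x y y' z hx hy hy' hz hxp hyq hy'q hzr hxy hy'z
  haveI := Fact.mk hp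
  haveI := Fact.mk hq
  haveI := Fact.mk hr
  obtain ⟨L, hL, hLn⟩ := Cfsg.Lib.CN.exists_maxNil_ge (hCN y hy)
  obtain ⟨L', hL', hL'n⟩ := Cfsg.Lib.CN.exists_maxNil_ge (hCN y' hy')
  have hxL : x ∈ L := hL (Subgroup.mem_centralizer_singleton_iff.mpr hxy)
  have hyL : y ∈ L := hL (Subgroup.mem_centralizer_singleton_iff.mpr rfl)
  have hzL' : z ∈ L' := hL' (Subgroup.mem_centralizer_singleton_iff.mpr hy'z.symm)
  have hy'L' : y' ∈ L' := hL' (Subgroup.mem_centralizer_singleton_iff.mpr rfl)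
  by_cases hpr : p = r
  · subst hpr
    exact ⟨z, z, hz, hz, hzr, hzr, rfl⟩
  rcases Cfsg.Lib.CN.maxNil_conj_or_coprime hG hCN hLn hL'n with ⟨g, rfl⟩ | hcop
  · refine ⟨g * x * g⁻¹, z, by simpa using hx, hz, ?_, hzr, ?_⟩
    · have := hxp.map (MulAut.conj g).toMonoidHom
      rwa [MonoidHom.map_zpowers] at this
    · refine (Cfsg.Lib.CN.commute_of_mem hL'n.1 ⟨x, hxL, rfl⟩ hzL' ?_).eq
      obtain ⟨i, hi⟩ := IsPGroup.iff_orderOf.mp hxp ⟨x, Subgroup.mem_zpowers x⟩
      obtain ⟨j, hj⟩ := IsPGroup.iff_orderOf.mp hzr ⟨z, Subgroup.mem_zpowers z⟩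
      rw [Subgroup.orderOf_mk] at hi hj
      have h1 : orderOf (g * x * g⁻¹) = orderOf x := (MulAut.conj g).orderOf_eq x
      show (orderOf (g * x * g⁻¹)).Coprime (orderOf z)
      rw [h1, hi, hj]
      exact Nat.Coprime.pow _ _ ((Nat.coprime_primes hp hr).mpr hpr)
  · exfalso
    have hd : ∀ {w : G}, w ≠ 1 → IsPGroup q (Subgroup.zpowers w) → q ∣ orderOf w := by
      intro w hw hwq
      rw [← Nat.card_zpowers]
      exact hwq.card_eq_or_dvd.resolve_left fun e => hw (Subgroup.zpowers_eq_bot.mp (Subgroup.card_eq_one.mp e))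
    exact hq.ne_one (Nat.eq_one_of_dvd_coprimes hcop ((hd hy hyq).trans (Subgroup.orderOf_dvd_natCard _ hyL))
      ((hd hy' hy'q).trans (Subgroup.orderOf_dvd_natCard _ hy'L')))

end Cfsg.Agent.S1483
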