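import Cfsg.Statements.S1484
import Cfsg.Agent.OddLocal.CNMinSimple

set_option autoImplicit false
open Cfsg

namespace Cfsg.Agent.S1484

/-- Let G be a minimal simple group of odd order in which every non-identity element has nilpotent centralizer, and M₁, …, M_k maximal subgroups, pairwise non-conjugate, such that every maximal subgroup is conjugate to some M_i. Let H_i be the largest normal nilpotent Hall subgroup of M_i. Then the orders of the H_i are pairwise coprime, their product is the order of G, and every element of G is conjugate to an element of some H_i. -/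
theorem result {G : Type*} [Group G] [Finite G] (hG : Cfsg.IsMinSimpleOddOrder G) (hCN : Cfsg.IsCNGroup G) (k : ℕ) (Mrep : Fin k → Subgroup G) (hmax : ∀ i, IsCoatom (Mrep i))
    (hnc : ∀ i j, i ≠ j → ∀ g : G, Mrep j ≠ (Mrep i).map (MulAut.conj g).toMonoidHom) (hall : ∀ M : Subgroup G, IsCoatom M → ∃ i, ∃ g : G, M = (Mrep i).map (MulAut.conj g).toMonoidHom) :
    (∀ i j, i ≠ j → (Nat.card (Cfsg.fittingHallOf (Mrep i))).Coprime (Nat.card (Cfsg.fittingHallOf (Mrep j)))) ∧
      ∏ i, Nat.card (Cfsg.fittingHallOf (Mrep i)) = Nat.card G ∧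
      ∀ x : G, ∃ i, ∃ g : G, g * x * g⁻¹ ∈ Cfsg.fittingHallOf (Mrep i) := by
  classical
  have hker := fun i => Cfsg.Lib.CN.coatom_kernel hG hCN (hmax i)
  have hcov : ∀ x : G, ∃ i, ∃ g : G, g * x * g⁻¹ ∈ Cfsg.fittingHallOf (Mrep i) := by
    intro x
    have hnx : Group.IsNilpotent (Subgroup.zpowers x) := by
      letI := IsCyclic.commGroup (α := Subgroup.zpowers x)
      infer_instance
    obtain ⟨L, hxL, hL⟩ := Cfsg.Lib.CN.exists_maxNil_ge hnx
    obtain ⟨hco, -⟩ := Cfsg.Lib.CN.normalizer_maxNil hG hCN hL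
    obtain ⟨i, g, hg⟩ := hall _ hco
    refine ⟨i, g⁻¹, ?_⟩
    have hN : Subgroup.normalizer ((L.map (MulAut.conj g⁻¹).toMonoidHom : Subgroup G) : Set G) = Mrep i := by
      rw [show Subgroup.normalizer ((L.map (MulAut.conj g⁻¹).toMonoidHom : Subgroup G) : Set G) =
        (Subgroup.normalizer (L : Set G)).map (MulAut.conj g⁻¹).toMonoidHom from
        Cfsg.Lib.Coprime.normalizer_conjMap g⁻¹ L, hg, Subgroup.map_map]
      ext y
      simp [Subgroup.mem_map, mul_assoc]
    rw [← Cfsg.Lib.CN.eq_kernel_of_normalizer_le hG hCN (hL.map_conj g⁻¹) (hmax i) hN.le]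
    exact ⟨x, hxL (Subgroup.mem_zpowers x), rfl⟩
  have hco : ∀ i j, i ≠ j →
      (Nat.card (Cfsg.fittingHallOf (Mrep i))).Coprime (Nat.card (Cfsg.fittingHallOf (Mrep j))) := by
    intro i j hij
    rcases Cfsg.Lib.CN.maxNil_conj_or_coprime hG hCN (hker i).1 (hker j).1 with ⟨g, hg⟩ | h
    · exfalso
      refine hnc i j hij g ?_
      rw [← (hker j).2.1, hg]
      conv_rhs => rw [← (hker i).2.1]
      exact Cfsg.Lib.Coprime.normalizer_conjMap g _
    · exact h
  refine ⟨hco, Nat.dvd_antisymm ?_ ?_, hcov⟩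
  · suffices h : ∀ s : Finset (Fin k), (∏ i ∈ s, Nat.card (Cfsg.fittingHallOf (Mrep i))) ∣ Nat.card G from
      h Finset.univ
    intro s
    induction s using Finset.induction_on with
    | empty => simp
    | insert a s ha ih =>
      rw [Finset.prod_insert ha]
      exact (Nat.Coprime.prod_right fun b hb => hco a b fun e => ha (e ▸ hb)).mul_dvd_of_dvd_of_dvd
        (Subgroup.card_subgroup_dvd_card _) ih
  · rw [Nat.dvd_iff_prime_pow_dvd_dvd]
    intro q j hq hqj
    rcases Nat.eq_zero_or_pos j with rfl | hj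
    · simp
    haveI := Fact.mk hq
    obtain ⟨x, hx⟩ := exists_prime_orderOf_dvd_card' (G := G) q ((dvd_pow_self q hj.ne').trans hqj)
    obtain ⟨i, g, hg⟩ := hcov x
    have hqi : q ∣ Nat.card (Cfsg.fittingHallOf (Mrep i)) := by
      rw [← hx, ← (MulAut.conj g).orderOf_eq x]
      exact Subgroup.orderOf_dvd_natCard _ hg
    refine dvd_trans ?_ (Finset.dvd_prod_of_mem _ (Finset.mem_univ i))
    have hh := Cfsg.Lib.CN.isHall_maximal_nilpotent hCN (hker i).1.1 (hker i).1.2
    refine ((hh.coprime_dvd_left hqi).pow_left j).dvd_of_dvd_mul_right ?_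
    rwa [Subgroup.card_mul_index]

end Cfsg.Agent.S1484
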