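import Cfsg.Statements.S1488
import Cfsg.Agent.Chars.Core

set_option autoImplicit false
open Cfsg

namespace Cfsg.Agent.S1488

/-- Let A be a normal subgroup of the finite group G contained in the subgroup H, let θ be a function on H and θ₁ a function on the image of H in G ⧸ A whose composite with the projection is θ. Then the function induced from θ₁ to G ⧸ A, composed with the projection G → G ⧸ A, equals the function induced from θ to G. -/
theorem result {G : Type*} [Group G] [Fintype G] (A H : Subgroup G) [A.Normal] (hAH : A ≤ H) [Fintype (G ⧸ A)] [Fintype ↥(H.map (QuotientGroup.mk' A))] (θ : H → ℂ) (θ₁ : ↥(H.map (QuotientGroup.mk' A)) → ℂ) (hθ : ∀ x : H, θ₁ ⟨QuotientGroup.mk' A x, Subgroup.mem_map_of_mem _ x.2⟩ = θ x) (g : G) : Cfsg.indFun (H.map (QuotientGroup.mk' A)) θ₁ (QuotientGroup.mk' A g) = Cfsg.indFun H θ g := by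
  classical
  rw [Cfsg.Lib.Chars.indFun_apply, Cfsg.Lib.Chars.indFun_apply]
  have hmem : ∀ y : G, QuotientGroup.mk' A y ∈ H.map (QuotientGroup.mk' A) ↔ y ∈ H := fun y => by
    constructor
    · rintro ⟨z, hz, he⟩
      have h1 : z⁻¹ * y ∈ A := QuotientGroup.eq.mp he
      simpa using H.mul_mem hz (hAH h1)
    · exact fun h => Subgroup.mem_map_of_mem _ h
  have hval : ∀ x : G, Cfsg.extendByZero (H.map (QuotientGroup.mk' A)) θ₁
      ((QuotientGroup.mk' A x)⁻¹ * QuotientGroup.mk' A g * QuotientGroup.mk' A x) =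
      Cfsg.extendByZero H θ (x⁻¹ * g * x) := fun x => by
    rw [← map_inv, ← map_mul, ← map_mul]
    by_cases hh : x⁻¹ * g * x ∈ H
    · rw [Cfsg.Lib.Chars.extendByZero_mem _ ((hmem _).mpr hh), Cfsg.Lib.Chars.extendByZero_mem _ hh]
      exact hθ ⟨_, hh⟩
    · rw [Cfsg.Lib.Chars.extendByZero_not_mem _ (fun h => hh ((hmem _).mp h)),
        Cfsg.Lib.Chars.extendByZero_not_mem _ hh]
  have hfib : ∀ q : G ⧸ A, (Finset.univ.filter fun x : G => QuotientGroup.mk' A x = q).card = Nat.card A := by
    intro q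
    obtain ⟨z, rfl⟩ := QuotientGroup.mk'_surjective A q
    rw [Nat.card_eq_fintype_card, ← Fintype.card_subtype]
    refine Fintype.card_congr ((Equiv.mulLeft z⁻¹).subtypeEquiv fun x => ?_)
    rw [Equiv.coe_mulLeft]
    exact eq_comm.trans QuotientGroup.eq
  have hsum : ∑ x : G, Cfsg.extendByZero H θ (x⁻¹ * g * x) = (Nat.card A : ℂ) *
      ∑ q : G ⧸ A, Cfsg.extendByZero (H.map (QuotientGroup.mk' A)) θ₁ (q⁻¹ * QuotientGroup.mk' A g * q) := by
    rw [← Finset.sum_fiberwise Finset.univ (QuotientGroup.mk' A), Finset.mul_sum]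
    refine Finset.sum_congr rfl fun q _ => ?_
    rw [Finset.sum_congr rfl (g := fun _ => Cfsg.extendByZero (H.map (QuotientGroup.mk' A)) θ₁ (q⁻¹ * QuotientGroup.mk' A g * q))
      (fun x hx => by rw [← hval, (Finset.mem_filter.mp hx).2]), Finset.sum_const, hfib, nsmul_eq_mul]
  have hcard : Nat.card H = Nat.card (H.map (QuotientGroup.mk' A)) * Nat.card A := by
    let f : H →* H.map (QuotientGroup.mk' A) := (QuotientGroup.mk' A).subgroupMap H
    have h1 := Subgroup.card_eq_card_quotient_mul_card_subgroup f.ker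
    rw [Nat.card_congr (QuotientGroup.quotientKerEquivOfSurjective f ((QuotientGroup.mk' A).subgroupMap_surjective H)).toEquiv] at h1
    rw [h1]
    congr 1
    refine Nat.card_congr
      { toFun := fun x => ⟨(x : H), (QuotientGroup.eq_one_iff _).mp (congrArg Subtype.val x.2)⟩
        invFun := fun a => ⟨⟨a, hAH a.2⟩, Subtype.ext ((QuotientGroup.eq_one_iff _).mpr a.2)⟩
        left_inv := fun x => rfl
        right_inv := fun a => rfl }
  rw [hsum, hcard, Nat.cast_mul]
  have hA : (Nat.card A : ℂ) ≠ 0 := by exact_mod_cast Nat.card_pos.ne'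
  field_simp

end Cfsg.Agent.S1488
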