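import Cfsg.Statements.S1492
import Cfsg.Agent.Chars.Core

set_option autoImplicit false
open Cfsg

namespace Cfsg.Agent.S1492

/-- Let ψ be an irreducible character of the finite group G and B ≤ D ≤ C subgroups with B normal in C, every commutator of an element of D with an element of C lying in B (so D/B is central in C/B), and ψ constant equal to ψ 1 on B. Then ψ(1) ^ 2 * |C| * |D| ≤ |G| ^ 2. -/
theorem result {G : Type*} [Group G] [Finite G] (ψ : G → ℂ) (hψ : Cfsg.IsIrrCharacter G ψ) (B C D : Subgroup G) (hBD : B ≤ D) (hDC : D ≤ C) (hBn : ∀ c ∈ C, ∀ b ∈ B, c * b * c⁻¹ ∈ B) (hcent : ∀ d ∈ D, ∀ c ∈ C, d * c * d⁻¹ * c⁻¹ ∈ B) (hker : ∀ b ∈ B, ψ b = ψ 1) : ‖ψ 1‖ ^ 2 * (Nat.card C : ℝ) * (Nat.card D : ℝ) ≤ (Nat.card G : ℝ) ^ 2 := by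
  classical
  have := Fintype.ofFinite G
  have := Fintype.ofFinite C
  have hψc := Cfsg.Lib.Chars.isCharacter_of_irr hψ
  obtain ⟨d, hdpos, hd⟩ := Cfsg.Lib.Chars.IsIrrCharacter.apply_one hψ
  obtain ⟨m, hm⟩ := Cfsg.Lib.Chars.IsCharacter.exists_decomp (Cfsg.Lib.Chars.IsCharacter.restrict hψc C)
  have hsum1 : (∑ χ : Cfsg.IrrCharacter C, m χ * Cfsg.Lib.Chars.deg (χ : C → ℂ)) = d := by
    apply Nat.cast_injective (R := ℂ)
    rw [← hd]
    have h := congrFun hm 1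
    rw [Finset.sum_apply] at h
    push_cast
    refine Eq.trans (Finset.sum_congr rfl fun χ _ => ?_) h.symm
    rw [Pi.smul_apply, nsmul_eq_mul, Cfsg.Lib.Chars.irr_apply_one_eq_deg]
  obtain ⟨φ, -, hφ⟩ := Finset.exists_ne_zero_of_sum_ne_zero (hsum1.symm ▸ hdpos.ne')
  have hm0 : m φ ≠ 0 := fun h => hφ (by rw [h, zero_mul])
  have hφψ : Cfsg.classInner (fun c : C => ψ c) φ ≠ 0 := by
    rw [hm]
    simp only [← Nat.cast_smul_eq_nsmul ℂ]
    rw [Cfsg.Lib.Chars.classInner_irrSum (fun χ => (m χ : ℂ))]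
    exact_mod_cast hm0
  -- `ψ` is a constituent of the induced character
  have hdeg : d ≤ C.index * Cfsg.Lib.Chars.deg (φ : C → ℂ) := by
    obtain ⟨k, hk⟩ := Cfsg.Lib.Chars.IsCharacter.exists_decomp
      (Cfsg.Lib.Chars.IsCharacter.indFun (G := G) (Cfsg.Lib.Chars.isCharacter_of_irr φ.2))
    have h0 : k ⟨ψ, hψ⟩ ≠ 0 := by
      intro h0
      apply hφψ
      have h2 := Cfsg.Lib.Chars.frobenius_reciprocity C (φ : C → ℂ) (Cfsg.Lib.Chars.isClassFunction_isChar hψc)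
      rw [hk] at h2
      simp only [← Nat.cast_smul_eq_nsmul ℂ] at h2
      rw [Cfsg.Lib.Chars.classInner_irrSum (fun χ => (k χ : ℂ)) ⟨ψ, hψ⟩, h0, Nat.cast_zero] at h2
      rw [← Cfsg.Lib.Chars.classInner_conj_symm, ← h2, map_zero]
    have h1 := congrFun hk 1
    rw [Cfsg.Lib.Chars.indFun_one, Finset.sum_apply] at h1
    have h1' : (C.index * Cfsg.Lib.Chars.deg (φ : C → ℂ) : ℕ) = ∑ χ : Cfsg.IrrCharacter G, k χ * Cfsg.Lib.Chars.deg (χ : G → ℂ) := by
      apply Nat.cast_injective (R := ℂ)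
      push_cast
      rw [← Cfsg.Lib.Chars.irr_apply_one_eq_deg, h1]
      refine Finset.sum_congr rfl fun χ _ => ?_
      rw [Pi.smul_apply, nsmul_eq_mul, Cfsg.Lib.Chars.irr_apply_one_eq_deg]
    rw [h1']
    refine le_trans ?_ (Finset.single_le_sum (f := fun χ : Cfsg.IrrCharacter G => k χ * Cfsg.Lib.Chars.deg (χ : G → ℂ))
      (fun _ _ => Nat.zero_le _) (Finset.mem_univ ⟨ψ, hψ⟩))
    have : d = Cfsg.Lib.Chars.deg ψ := Nat.cast_injective (R := ℂ)
      (hd.symm.trans (Cfsg.Lib.Chars.IsCharacter.apply_one_eq_deg hψc))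
    rw [this]
    exact Nat.le_mul_of_pos_left _ (Nat.pos_of_ne_zero h0)
  -- on `D` the constituent is scalar
  have hBφ : ∀ b : C, (b : G) ∈ B → (φ : C → ℂ) b = (φ : C → ℂ) 1 := by
    intro b hb
    have h1 := congrFun hm b
    have h2 := congrFun hm 1
    rw [Finset.sum_apply] at h1 h2
    have h3 : ψ b = ψ ((1 : C) : G) := hker b hb
    simp only [Pi.smul_apply, nsmul_eq_mul] at h1 h2
    have h4 : ∑ χ : Cfsg.IrrCharacter C, (m χ : ℂ) * (χ : C → ℂ) b =
        ∑ χ : Cfsg.IrrCharacter C, (m χ : ℂ) * (χ : C → ℂ) 1 := h1.symm.trans (h3.trans h2)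
    have h5 := congrArg Complex.re h4
    simp only [Complex.re_sum, Complex.mul_re, Complex.natCast_re, Complex.natCast_im, zero_mul, sub_zero] at h5
    have hle : ∀ χ : Cfsg.IrrCharacter C, ((χ : C → ℂ) b).re ≤ ((χ : C → ℂ) 1).re := fun χ => by
      refine (Complex.re_le_norm _).trans ((Cfsg.Lib.Chars.IsCharacter.norm_le (Cfsg.Lib.Chars.isCharacter_of_irr χ.2) b).trans (le_of_eq ?_))
      rw [Cfsg.Lib.Chars.irr_apply_one_eq_deg]
    have h6 := (Finset.sum_eq_sum_iff_of_le fun χ _ => mul_le_mul_of_nonneg_left (hle χ) (Nat.cast_nonneg (m χ))).mp h5 φ (Finset.mem_univ _)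
    have h7 : ((φ : C → ℂ) b).re = ((φ : C → ℂ) 1).re := mul_left_cancel₀ (by exact_mod_cast hm0) h6
    have hn : ‖(φ : C → ℂ) b‖ ≤ ((φ : C → ℂ) 1).re := by
      refine (Cfsg.Lib.Chars.IsCharacter.norm_le (Cfsg.Lib.Chars.isCharacter_of_irr φ.2) b).trans (le_of_eq ?_)
      rw [Cfsg.Lib.Chars.irr_apply_one_eq_deg]
    have him : ((φ : C → ℂ) b).im = 0 := by
      have h8 := Complex.sq_norm ((φ : C → ℂ) b)
      rw [Complex.normSq_apply] at h8
      nlinarith [norm_nonneg ((φ : C → ℂ) b), mul_self_nonneg ((φ : C → ℂ) b).im]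
    refine Complex.ext h7 ?_
    rw [him, Cfsg.Lib.Chars.irr_apply_one_eq_deg]; simp
  have hnormD : ∀ x : C, (x : G) ∈ D → ‖(φ : C → ℂ) x‖ = (Cfsg.Lib.Chars.deg (φ : C → ℂ) : ℝ) := by
    have hone := Cfsg.Lib.Chars.irr_apply_one_eq_deg φ
    obtain ⟨n, ρ, hρ, hρc⟩ := φ.2
    have hB1 : ∀ b : C, (b : G) ∈ B → ρ b = LinearMap.id := fun b hb => by
      refine (Cfsg.Lib.Chars.eq_id_of_character_eq_finrank ρ b).mp ?_
      have := hBφ b hb
      rw [← hρc, ρ.char_one] at this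
      exact this
    intro x hx
    obtain ⟨c, hc⟩ := Cfsg.Lib.Chars.schur_scalar ρ (ρ x) fun y v => by
      have hb : ((x * y * x⁻¹ * y⁻¹ : C) : G) ∈ B := hcent x hx y y.2
      have h1 : ρ (x * y) = ρ (y * x) := by
        rw [show x * y = x * y * x⁻¹ * y⁻¹ * (y * x) by group, map_mul ρ (x * y * x⁻¹ * y⁻¹), hB1 _ hb]
        rfl
      rw [map_mul, map_mul] at h1
      exact LinearMap.congr_fun h1 v
    have hn0 : (Module.finrank ℂ (Fin n → ℂ) : ℝ) = (Cfsg.Lib.Chars.deg (φ : C → ℂ) : ℝ) := by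
      rw [← hρc, ρ.char_one] at hone
      rw [← hρc]
      exact_mod_cast hone
    have hd1 : ρ x ^ orderOf x = 1 := by rw [← map_pow, pow_orderOf_eq_one, map_one]
    have hne := Cfsg.Lib.Chars.nontrivial_of_irreducible ρ
    obtain ⟨v, hv⟩ := exists_ne (0 : Fin n → ℂ)
    have hcp : c ^ orderOf x = 1 := by
      rw [hc, show LinearMap.id = (1 : Module.End ℂ (Fin n → ℂ)) from rfl, smul_pow, one_pow] at hd1
      exact smul_left_injective ℂ hv (by simpa using LinearMap.congr_fun hd1 v)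
    rw [← hρc, Representation.character, hc, map_smul, LinearMap.trace_id, smul_eq_mul, norm_mul,
      Complex.norm_natCast, Complex.norm_eq_one_of_pow_eq_one hcp (orderOf_pos x).ne', one_mul]
    rw [← hρc] at hn0
    exact hn0
  have hCD : Cfsg.Lib.Chars.deg (φ : C → ℂ) ^ 2 * Nat.card D ≤ Nat.card C := by
    have h := Cfsg.Lib.Chars.classInner_self_irr φ.2
    rw [Cfsg.Lib.Chars.classInner_def, inv_mul_eq_iff_eq_mul₀ (by exact_mod_cast Nat.card_pos.ne'),
      mul_one] at h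
    simp only [Complex.mul_conj, Complex.normSq_eq_norm_sq] at h
    have h2 : ∑ x : C, ‖(φ : C → ℂ) x‖ ^ 2 = (Nat.card C : ℝ) := by exact_mod_cast h
    have h3 : ∑ x ∈ Finset.univ.filter (fun x : C => (x : G) ∈ D), ‖(φ : C → ℂ) x‖ ^ 2 ≤ (Nat.card C : ℝ) :=
      h2 ▸ Finset.sum_le_sum_of_subset_of_nonneg (Finset.subset_univ _) fun x _ _ => sq_nonneg _
    rw [Finset.sum_congr rfl (g := fun _ => (Cfsg.Lib.Chars.deg (φ : C → ℂ) : ℝ) ^ 2)
      (fun x hx => by rw [hnormD x (Finset.mem_filter.mp hx).2]), Finset.sum_const, nsmul_eq_mul] at h3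
    have h4 : (Finset.univ.filter (fun x : C => (x : G) ∈ D)).card = Nat.card D := by
      rw [← Fintype.card_subtype, ← Nat.card_eq_fintype_card]
      exact Nat.card_congr (Subgroup.subgroupOfEquivOfLe hDC).toEquiv
    rw [h4] at h3
    rw [mul_comm]
    exact_mod_cast h3
  have key : d ^ 2 * Nat.card C * Nat.card D ≤ Nat.card G ^ 2 := by
    calc d ^ 2 * Nat.card C * Nat.card D
        ≤ (C.index * Cfsg.Lib.Chars.deg (φ : C → ℂ)) ^ 2 * Nat.card C * Nat.card D := by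
          gcongr
      _ = C.index ^ 2 * Nat.card C * (Cfsg.Lib.Chars.deg (φ : C → ℂ) ^ 2 * Nat.card D) := by ring
      _ ≤ C.index ^ 2 * Nat.card C * Nat.card C := by gcongr
      _ = Nat.card G ^ 2 := by rw [← C.card_mul_index]; ring
  rw [hd, Complex.norm_natCast]
  exact_mod_cast key

end Cfsg.Agent.S1492
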