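import Cfsg.Statements.S1493
import Cfsg.Agent.Chars.Galois

set_option autoImplicit false
open Cfsg

namespace Cfsg.Agent.S1493

/-- Let G be a finite group of order a * b with a and b coprime, let k be coprime to a, and let χ be a character of G. Then there is a character χ' of G such that χ'(g) = χ(g ^ k) whenever the order of g divides a and χ'(g) = χ(g) whenever the order of g is coprime to a; moreover χ' is irreducible if χ is. -/
theorem result {G : Type*} [Group G] [Finite G] (a b k : ℕ) (hab : Nat.card G = a * b) (hcop : Nat.Coprime a b) (hk : Nat.Coprime k a) (χ : G → ℂ) (hχ : Cfsg.IsCharacter G χ) : ∃ χ' : G → ℂ, Cfsg.IsCharacter G χ' ∧ (Cfsg.IsIrrCharacter G χ → Cfsg.IsIrrCharacter G χ') ∧ (∀ g : G, orderOf g ∣ a → χ' g = χ (g ^ k)) ∧ (∀ g : G, Nat.Coprime (orderOf g) a → χ' g = χ g) := by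
  classical
  obtain ⟨k', hka, hkb⟩ := Nat.chineseRemainder hcop k 1
  have hpos : 0 < a * b := hab ▸ Nat.card_pos
  haveI : NeZero (a * b) := ⟨hpos.ne'⟩
  have hk' : k'.Coprime (a * b) := by
    refine Nat.Coprime.mul_right ?_ ?_
    · rw [Nat.coprime_iff_gcd_eq_one, hka.gcd_eq]; exact hk
    · rw [Nat.coprime_iff_gcd_eq_one, hkb.gcd_eq]; simp
  obtain ⟨σ, hσ⟩ := Cfsg.Lib.Chars.exists_galConj_auto hk'
  have hord : ∀ g : G, orderOf g ∣ a * b := fun g => hab ▸ orderOf_dvd_natCard g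
  refine ⟨fun g => σ (χ g), Cfsg.Lib.Chars.IsCharacter.map_auto hχ σ,
    fun h => Cfsg.Lib.Chars.IsIrrCharacter.map_auto h σ, fun g hg => ?_, fun g hg => ?_⟩
  · show σ (χ g) = χ (g ^ k)
    rw [Cfsg.Lib.Chars.IsGalConj.apply_character hσ hχ (hord g),
      pow_eq_pow_iff_modEq.mpr (hka.of_dvd hg)]
  · show σ (χ g) = χ g
    have hgb : orderOf g ∣ b := hg.dvd_of_dvd_mul_left (hord g)
    rw [Cfsg.Lib.Chars.IsGalConj.apply_character hσ hχ (hord g),
      pow_eq_pow_iff_modEq.mpr (hkb.of_dvd hgb), pow_one]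

end Cfsg.Agent.S1493
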