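import Cfsg.Statements.S1497
import Cfsg.Agent.Chars.Basic

set_option autoImplicit false
open Cfsg

namespace Cfsg.Agent.S1497

/-- Let A be a nonempty subset of the finite group G not containing 1 and L a subgroup. Then A is a TI-subset whose normaliser is L if and only if the Dade hypothesis holds for A, L and the constant choice H(a) = ⊥. -/
theorem result {G : Type*} [Group G] [Finite G] (A : Set G) (hA : A.Nonempty) (h1 : (1 : G) ∉ A) (L : Subgroup G) : (Cfsg.IsTISubset A ∧ Subgroup.normalizer A = L) ↔ Cfsg.DadeHypothesis A L (fun _ => ⊥) := by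
  constructor
  · rintro ⟨hTI, hN⟩
    have key : ∀ g : G, ∀ a ∈ A, g * a * g⁻¹ ∈ A → g ∈ L := fun g a ha hga => by
      rw [← hN]
      by_contra hg
      exact h1 (hTI g hg a ha hga ▸ ha)
    have hC : ∀ a ∈ A, Subgroup.centralizer ({a} : Set G) ≤ L := fun a ha g hg => by
      refine key g a ha ?_
      rw [mul_inv_eq_iff_eq_mul.mpr (Subgroup.mem_centralizer_singleton_iff.mp hg)]
      exact ha
    refine
      { one_not_mem := h1
        subset := fun a ha => hC a ha (Subgroup.mem_centralizer_singleton_iff.mpr rfl)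
        conj_mem := fun x hx a ha => (Subgroup.mem_set_normalizer_iff.mp (hN ▸ hx) a).mp ha
        fusion := fun a ha g hg => ⟨g, key g a ha hg, rfl⟩
        le_centralizer := fun a _ => bot_le
        conj_mem_H := fun a _ c _ u hu => by
          rw [Subgroup.mem_bot] at hu ⊢
          simp [hu]
        inf_eq_bot := fun a _ => bot_inf_eq _
        sup_eq := fun a ha => by rw [bot_sup_eq, inf_eq_right.mpr (hC a ha)]
        coprime := fun a _ b _ => by simp }
  · intro hD
    have hC : ∀ a ∈ A, Subgroup.centralizer ({a} : Set G) ≤ L := fun a ha g hg => by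
      have h := hD.sup_eq a ha
      rw [bot_sup_eq] at h
      exact (h.ge hg).1
    have key : ∀ g : G, ∀ a ∈ A, g * a * g⁻¹ ∈ A → g ∈ L := fun g a ha hga => by
      obtain ⟨x, hx, he⟩ := hD.fusion a ha g hga
      have hm : x⁻¹ * g ∈ L := hC a ha (by
        rw [Subgroup.mem_centralizer_singleton_iff]
        calc x⁻¹ * g * a = x⁻¹ * (g * a * g⁻¹) * g := by group
          _ = a * (x⁻¹ * g) := by rw [← he]; group)
      simpa using L.mul_mem hx hm
    have hmem : ∀ x ∈ L, x ∈ Subgroup.normalizer A := fun x hx => by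
      rw [Subgroup.mem_set_normalizer_iff]
      exact fun n => ⟨fun hn => hD.conj_mem x hx n hn,
        fun hn => by simpa [mul_assoc] using hD.conj_mem x⁻¹ (L.inv_mem hx) _ hn⟩
    refine ⟨fun g hg a ha hga => absurd (hmem g (key g a ha hga)) hg, le_antisymm (fun g hg => ?_) hmem⟩
    obtain ⟨a, ha⟩ := hA
    exact key g a ha ((Subgroup.mem_set_normalizer_iff.mp hg a).mp ha)

end Cfsg.Agent.S1497
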