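import Cfsg.Statements.S1498
import Cfsg.Agent.Chars.Basic

set_option autoImplicit false
open Cfsg

namespace Cfsg.Agent.S1498

/-- Under the Dade hypothesis for (A, L, H): for a ∈ A and x ∈ L, the subgroup attached to x * a * x⁻¹ is the conjugate of H a by x. -/
theorem result {G : Type*} [Group G] [Finite G] (A : Set G) (L : Subgroup G) (H : G → Subgroup G) (hD : Cfsg.DadeHypothesis A L H) (a : G) (ha : a ∈ A) (x : G) (hx : x ∈ L) : H (x * a * x⁻¹) = (H a).map (MulAut.conj x).toMonoidHom := by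
  classical
  have key : ∀ b ∈ A, ∀ y ∈ Subgroup.centralizer ({b} : Set G),
      y ^ Nat.card (H b) = 1 ∨ (∃ n, y ^ n = 1 ∧ Nat.Coprime n (Nat.card ↥(L ⊓ Subgroup.centralizer ({b} : Set G)))) → y ∈ H b := by
    intro b hb y hy hy2
    obtain ⟨n, hn, hcop⟩ : ∃ n, y ^ n = 1 ∧ Nat.Coprime n (Nat.card ↥(L ⊓ Subgroup.centralizer ({b} : Set G))) :=
      hy2.elim (fun h => ⟨_, h, hD.coprime b hb b hb⟩) id
    set C := L ⊓ Subgroup.centralizer ({b} : Set G) with hCdef
    have hy' : y ∈ H b ⊔ C := (hD.sup_eq b hb).ge hy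
    have hnorm : C ≤ Subgroup.normalizer (H b : Set G) := fun c hc => by
      rw [Subgroup.mem_normalizer_iff]
      exact fun u => ⟨fun hu => hD.conj_mem_H b hb c hc.2 u hu,
        fun hu => by simpa [mul_assoc] using hD.conj_mem_H b hb c⁻¹ (inv_mem hc.2) _ hu⟩
    rw [← SetLike.mem_coe, Subgroup.coe_mul_of_right_le_normalizer_left _ _ hnorm] at hy'
    obtain ⟨u, hu, c, hc, rfl⟩ := Set.mem_mul.mp hy'
    have hind : ∀ j : ℕ, (u * c) ^ j * (c ^ j)⁻¹ ∈ H b := by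
      intro j
      induction j with
      | zero => simp
      | succ j ih =>
        have h1 : c ^ j * u * (c ^ j)⁻¹ ∈ H b :=
          (Subgroup.mem_normalizer_iff.mp (hnorm (pow_mem hc j)) u).mp hu
        have h2 : (u * c) ^ (j + 1) * (c ^ (j + 1))⁻¹ =
            ((u * c) ^ j * (c ^ j)⁻¹) * (c ^ j * u * (c ^ j)⁻¹) := by
          rw [pow_succ, pow_succ]; group
        rw [h2]
        exact mul_mem ih h1
    have hcn : c ^ n = 1 := by
      have h1 := hind n
      rw [hn, one_mul] at h1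
      exact Subgroup.mem_bot.mp ((hD.inf_eq_bot b hb).le ⟨by simpa using inv_mem h1, pow_mem hc n⟩)
    have hc1 : c = 1 := by
      have h2 : (⟨c, hc⟩ : C) ^ Nat.card C = 1 := pow_card_eq_one'
      have h3 : c ^ Nat.card C = 1 := congrArg Subtype.val h2
      have h4 := (pow_gcd_eq_one (m := n) (n := Nat.card C)).mpr ⟨hcn, h3⟩
      rwa [show Nat.gcd n (Nat.card C) = 1 from hcop, pow_one] at h4
    rw [hc1, mul_one]
    exact hu
  have hxa : x * a * x⁻¹ ∈ A := hD.conj_mem x hx a ha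
  have hpow : ∀ (b u : G), u ∈ H b → u ^ Nat.card (H b) = 1 := fun b u hu => by
    calc u ^ Nat.card (H b) = (((⟨u, hu⟩ : H b) ^ Nat.card (H b) : H b) : G) := rfl
      _ = 1 := by rw [pow_card_eq_one', OneMemClass.coe_one]
  have hdir : ∀ (a₁ a₂ y : G), a₁ ∈ A → a₂ ∈ A → y * a₁ * y⁻¹ = a₂ → ∀ u ∈ H a₁, y * u * y⁻¹ ∈ H a₂ := by
    intro a₁ a₂ y h1 h2 he u hu
    refine key a₂ h2 _ ?_ (Or.inr ⟨Nat.card (H a₁), by rw [conj_pow, hpow a₁ u hu, mul_one, mul_inv_cancel],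
      hD.coprime a₁ h1 a₂ h2⟩)
    have hu' := Subgroup.mem_centralizer_singleton_iff.mp (hD.le_centralizer a₁ h1 hu)
    rw [Subgroup.mem_centralizer_singleton_iff, ← he]
    calc y * u * y⁻¹ * (y * a₁ * y⁻¹) = y * (u * a₁) * y⁻¹ := by group
      _ = y * a₁ * y⁻¹ * (y * u * y⁻¹) := by rw [hu']; group
  ext v
  rw [Subgroup.mem_map]
  constructor
  · intro hv
    refine ⟨x⁻¹ * v * x, ?_, by simp [mul_assoc]⟩
    simpa using hdir _ _ x⁻¹ hxa ha (by group) v hv
  · rintro ⟨u, hu, rfl⟩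
    exact hdir a _ x ha hxa rfl u hu

end Cfsg.Agent.S1498
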