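import Cfsg.Statements.S1504
import Cfsg.Agent.Chars.Core

set_option autoImplicit false
open Cfsg
open scoped Pointwise

namespace Cfsg.Agent.S1504

/-- Let W₁, W₂ be subgroups of a finite group with W₁ ⊓ W₂ = ⊥ whose elements commute, and W = W₁ ⊔ W₂. For linear characters φ, ψ of W with φ trivial on W₂ and ψ trivial on W₁, the function (1 − φ)(1 − ψ) vanishes on W₁ ∪ W₂; and the family of these functions, indexed by pairs (φ, ψ) with φ ≠ 1 ≠ ψ, is linearly independent over ℂ. -/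
theorem result {G : Type*} [Group G] [Finite G] (W₁ W₂ : Subgroup G) (hdisj : W₁ ⊓ W₂ = ⊥) (hcomm : ∀ a ∈ W₁, ∀ b ∈ W₂, a * b = b * a) : (∀ φ ψ : ↥(W₁ ⊔ W₂) →* ℂˣ, (∀ w : ↥(W₁ ⊔ W₂), (w : G) ∈ W₂ → φ w = 1) → (∀ w : ↥(W₁ ⊔ W₂), (w : G) ∈ W₁ → ψ w = 1) → ∀ w : ↥(W₁ ⊔ W₂), ((w : G) ∈ W₁ ∨ (w : G) ∈ W₂) → (1 - (φ w : ℂ) - (ψ w : ℂ) + (φ w : ℂ) * (ψ w : ℂ)) = 0) ∧ LinearIndependent ℂ (fun p : {p : (↥(W₁ ⊔ W₂) →* ℂˣ) × (↥(W₁ ⊔ W₂) →* ℂˣ) // p.1 ≠ 1 ∧ p.2 ≠ 1 ∧ (∀ w : ↥(W₁ ⊔ W₂), (w : G) ∈ W₂ → p.1 w = 1) ∧ (∀ w : ↥(W₁ ⊔ W₂), (w : G) ∈ W₁ → p.2 w = 1)} => fun w : ↥(W₁ ⊔ W₂) => 1 - (p.1.1 w : ℂ) - (p.1.2 w : ℂ) + (p.1.1 w : ℂ) * (p.1.2 w : ℂ)) := by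
  classical
  have := Fintype.ofFinite ↥(W₁ ⊔ W₂)
  refine ⟨fun φ ψ hφ hψ w hw => ?_, ?_⟩
  · rcases hw with h | h
    · rw [hψ w h, Units.val_one]; ring
    · rw [hφ w h, Units.val_one]; ring
  set W := W₁ ⊔ W₂
  have hdec : ∀ w : W, ∃ u v : W, (u : G) ∈ W₁ ∧ (v : G) ∈ W₂ ∧ w = u * v := by
    intro w
    have hn : W₂ ≤ Subgroup.normalizer (W₁ : Set G) := fun b hb => by
      rw [Subgroup.mem_normalizer_iff]
      intro n
      have hfix : ∀ m ∈ W₁, b * m * b⁻¹ = m := fun m hm => by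
        rw [← hcomm m hm b hb, mul_inv_cancel_right]
      constructor
      · intro hn; rw [hfix n hn]; exact hn
      · intro hn
        have := hfix _ hn
        have h2 : b * n * b⁻¹ = n := by
          have h3 := congrArg (fun t => b⁻¹ * t * b) this
          calc b * n * b⁻¹ = b⁻¹ * (b * (b * n * b⁻¹) * b⁻¹) * b := by group
            _ = b⁻¹ * (b * n * b⁻¹) * b := h3
            _ = n := by group
        rwa [h2] at hn
    have h : (w : G) ∈ ((W₁ : Set G) * (W₂ : Set G)) := by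
      rw [← Subgroup.coe_mul_of_right_le_normalizer_left W₁ W₂ hn]
      exact w.2
    obtain ⟨u, hu, v, hv, he⟩ := Set.mem_mul.mp h
    exact ⟨⟨u, Subgroup.mem_sup_left hu⟩, ⟨v, Subgroup.mem_sup_right hv⟩, hu, hv, Subtype.ext he.symm⟩
  have : Finite (W →* ℂˣ) := Finite.of_injective (fun f : W →* ℂˣ =>
    (⟨fun w => (f w : ℂ), Cfsg.Lib.Chars.isIrrCharacter_linear f⟩ : Cfsg.IrrCharacter W))
    fun f g h => MonoidHom.ext fun w => Units.ext (congrFun (congrArg Subtype.val h) w)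
  have := Fintype.ofFinite {p : (W →* ℂˣ) × (W →* ℂˣ) // p.1 ≠ 1 ∧ p.2 ≠ 1 ∧
    (∀ w : W, (w : G) ∈ W₂ → p.1 w = 1) ∧ (∀ w : W, (w : G) ∈ W₁ → p.2 w = 1)}
  rw [Fintype.linearIndependent_iff]
  · intro c hc p₀
    have horth : ∀ f g : W →* ℂˣ, Cfsg.classInner (fun w => (f w : ℂ)) (fun w => (g w : ℂ)) = if f = g then 1 else 0 := by
      intro f g
      rw [Cfsg.Lib.Chars.classInner_irrChar (Cfsg.Lib.Chars.isIrrCharacter_linear f)
        (Cfsg.Lib.Chars.isIrrCharacter_linear g)]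
      exact if_congr ⟨fun h => MonoidHom.ext fun w => Units.ext (congrFun h w), fun h => by rw [h]⟩ rfl rfl
    have h := congrArg (fun F => Cfsg.classInner F (fun w => ((p₀.1.1 * p₀.1.2) w : ℂ))) hc
    simp only [Cfsg.Lib.Chars.classInner_zero_left, Cfsg.Lib.Chars.classInner_sum_left,
      Cfsg.Lib.Chars.classInner_smul_left] at h
    rw [Finset.sum_eq_single p₀] at h
    all_goals
      have expand : ∀ p : {p : (W →* ℂˣ) × (W →* ℂˣ) // p.1 ≠ 1 ∧ p.2 ≠ 1 ∧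
          (∀ w : W, (w : G) ∈ W₂ → p.1 w = 1) ∧ (∀ w : W, (w : G) ∈ W₁ → p.2 w = 1)},
          Cfsg.classInner (fun w : W => 1 - (p.1.1 w : ℂ) - (p.1.2 w : ℂ) + (p.1.1 w : ℂ) * (p.1.2 w : ℂ))
            (fun w => ((p₀.1.1 * p₀.1.2) w : ℂ)) = if p = p₀ then 1 else 0 := by
        intro p
        have e : (fun w : W => 1 - (p.1.1 w : ℂ) - (p.1.2 w : ℂ) + (p.1.1 w : ℂ) * (p.1.2 w : ℂ)) =
            (fun w => ((1 : W →* ℂˣ) w : ℂ)) - (fun w => (p.1.1 w : ℂ)) - (fun w => (p.1.2 w : ℂ)) +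
              (fun w => ((p.1.1 * p.1.2) w : ℂ)) := by
          funext w; simp
        have hne : ∀ f : W →* ℂˣ, ((∀ w : W, (w : G) ∈ W₂ → f w = 1) ∨ (∀ w : W, (w : G) ∈ W₁ → f w = 1)) →
            f ≠ p₀.1.1 * p₀.1.2 := by
          obtain ⟨h1, h2, h3, h4⟩ := p₀.2
          rintro f (hf | hf) rfl
          · refine h2 (MonoidHom.ext fun w => ?_)
            obtain ⟨u, v, hu, hv, rfl⟩ := hdec w
            have := hf v hv
            rw [MonoidHom.mul_apply, h3 v hv, one_mul] at this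
            rw [map_mul, h4 u hu, this, one_mul, MonoidHom.one_apply]
          · refine h1 (MonoidHom.ext fun w => ?_)
            obtain ⟨u, v, hu, hv, rfl⟩ := hdec w
            have := hf u hu
            rw [MonoidHom.mul_apply, h4 u hu, mul_one] at this
            rw [map_mul, h3 v hv, this, one_mul, MonoidHom.one_apply]
        rw [e, Cfsg.Lib.Chars.classInner_add_left, Cfsg.Lib.Chars.classInner_sub_left,
          Cfsg.Lib.Chars.classInner_sub_left, horth, horth, horth, horth,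
          if_neg (hne 1 (Or.inl fun _ _ => rfl)), if_neg (hne p.1.1 (Or.inl p.2.2.2.1)),
          if_neg (hne p.1.2 (Or.inr p.2.2.2.2))]
        by_cases hp : p = p₀
        · rw [if_pos hp, if_pos (by rw [hp])]; ring
        · rw [if_neg hp, if_neg fun he => hp ?_]
          · ring
          apply Subtype.ext
          refine Prod.ext (MonoidHom.ext fun w => ?_) (MonoidHom.ext fun w => ?_) <;>
            obtain ⟨u, v, hu, hv, rfl⟩ := hdec w
          · have := DFunLike.congr_fun he u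
            rw [MonoidHom.mul_apply, MonoidHom.mul_apply, p.2.2.2.2 u hu, p₀.2.2.2.2 u hu, mul_one, mul_one] at this
            rw [map_mul, map_mul, p.2.2.2.1 v hv, p₀.2.2.2.1 v hv, this]
          · have := DFunLike.congr_fun he v
            rw [MonoidHom.mul_apply, MonoidHom.mul_apply, p.2.2.2.1 v hv, p₀.2.2.2.1 v hv, one_mul, one_mul] at this
            rw [map_mul, map_mul, p.2.2.2.2 u hu, p₀.2.2.2.2 u hu, this]
    · rwa [expand, if_pos rfl, mul_one] at h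
    · intro p _ hp; rw [expand, if_neg hp, mul_zero]
    · intro hn; exact absurd (Finset.mem_univ _) hn

end Cfsg.Agent.S1504
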