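import Cfsg.Statements.S1507
import Cfsg.Agent.OddChar.Family

set_option autoImplicit false
open Cfsg

namespace Cfsg.Agent.S1507

open Classical in
/-- Let W₁, W₂ ≤ G form a self-normalising cyclic subgroup W = W₁ ⊔ W₂ of odd order with Nat.card W₁ < Nat.card W₂, and χ an orthonormal family of irreducible characters of G up to sign, indexed by the linear characters ω of W, with χ_1 = 1, χ_ω = ω on W outside W₁ ∪ W₂, and the induction identity for (1 − φ)(1 − ψ). Let θ be a class function of G vanishing on W outside W₁ ∪ W₂, and suppose fewer than 2 · Nat.card W₁ linear characters ω of W have ⟨θ, χ ω⟩ ≠ 0. Then one of: all ⟨θ, χ ω⟩ vanish; or there are ψ₀ and a with ⟨θ, χ ω⟩ = a when ω ψ₀⁻¹ is trivial on W₂ and 0 otherwise; or there are φ₀ and a with ⟨θ, χ ω⟩ = a when ω φ₀⁻¹ is trivial on W₁ and 0 otherwise. -/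
theorem result {G : Type*} [Group G] [Fintype G] (W₁ W₂ : Subgroup G) (hW : Cfsg.IsSelfNormalizingCyclic W₁ W₂) (hodd : Odd (Nat.card ↥(W₁ ⊔ W₂))) (χ : (↥(W₁ ⊔ W₂) →* ℂˣ) → (G → ℂ)) (hχ : Cfsg.IsCyclicTIFamily W₁ W₂ χ) (hlt : Nat.card W₁ < Nat.card W₂) (θ : G → ℂ) (hθ : Cfsg.IsClassFunction G θ) (hθV : ∀ w : ↥(W₁ ⊔ W₂), (w : G) ∉ W₁ → (w : G) ∉ W₂ → θ w = 0) (hfew : Nat.card {ω : ↥(W₁ ⊔ W₂) →* ℂˣ // Cfsg.classInner θ (χ ω) ≠ 0} < 2 * Nat.card W₁) : (∀ ω, Cfsg.classInner θ (χ ω) = 0) ∨ (∃ (ψ₀ : ↥(W₁ ⊔ W₂) →* ℂˣ) (a : ℂ), ∀ ω, Cfsg.classInner θ (χ ω) = if (∀ w : ↥(W₁ ⊔ W₂), (w : G) ∈ W₂ → (ω * ψ₀⁻¹) w = 1) then a else 0) ∨ (∃ (φ₀ : ↥(W₁ ⊔ W₂) →* ℂˣ) (a : ℂ), ∀ ω, Cfsg.classInner θ (χ ω) = if (∀ w : ↥(W₁ ⊔ W₂), (w : G) ∈ W₁ → (ω * φ₀⁻¹) w = 1) then a else 0) := by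
  have := Fintype.ofFinite ↥(W₁ ⊔ W₂)
  have := Fintype.ofFinite (↥(W₁ ⊔ W₂) →* ℂˣ)
  set m := Nat.card W₁ with hm
  set n := Nat.card W₂ with hn
  obtain ⟨o1, o2, h3, h3', -⟩ := Cfsg.Lib.CyclicTI.two_le_card_first hW hodd
  set P1 := {φ : ↥(W₁ ⊔ W₂) →* ℂˣ // Cfsg.Lib.CyclicTI.OnFirst φ}
  set P2 := {ψ : ↥(W₁ ⊔ W₂) →* ℂˣ // Cfsg.Lib.CyclicTI.OnSecond ψ}
  set e : P1 × P2 ≃ (↥(W₁ ⊔ W₂) →* ℂˣ) := Cfsg.Lib.CyclicTI.dualEquiv hW with he
  set A : P1 → ℂ := fun φ => Cfsg.classInner θ (χ φ.1) with hA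
  set B : P2 → ℂ := fun ψ => Cfsg.classInner θ (χ ψ.1) - Cfsg.classInner θ (χ 1) with hB
  have hval : ∀ p : P1 × P2, Cfsg.classInner θ (χ (e p)) = A p.1 + B p.2 := fun p => by
    show Cfsg.classInner θ (χ (p.1.1 * p.2.1)) = _
    rw [Cfsg.Lib.CyclicTI.coeff_add hχ hθ hθV p.1.2 p.2.2, hA, hB]
    ring
  have hcond2 : ∀ (p : P1 × P2) (q : P2),
      (∀ w : ↥(W₁ ⊔ W₂), (w : G) ∈ W₂ → ((e p) * (q.1)⁻¹) w = 1) ↔ p.2 = q := by
    intro p q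
    constructor
    · intro h
      refine Subtype.ext (MonoidHom.ext fun w => ?_)
      rw [← Cfsg.Lib.CyclicTI.pr_mul hW w, map_mul, map_mul, p.2.2 _ (Cfsg.Lib.CyclicTI.pr₁_mem hW w),
        q.2 _ (Cfsg.Lib.CyclicTI.pr₁_mem hW w)]
      have h' := h _ (Cfsg.Lib.CyclicTI.pr₂_mem hW w)
      have h'' : p.1.1 (Cfsg.Lib.CyclicTI.pr₂ hW w) * p.2.1 (Cfsg.Lib.CyclicTI.pr₂ hW w) *
          (q.1 (Cfsg.Lib.CyclicTI.pr₂ hW w))⁻¹ = 1 := h'
      rw [p.1.2 _ (Cfsg.Lib.CyclicTI.pr₂_mem hW w), one_mul, mul_inv_eq_one] at h''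
      rw [h'']
    · rintro rfl w hw
      show p.1.1 w * p.2.1 w * (p.2.1 w)⁻¹ = 1
      rw [p.1.2 w hw, one_mul, mul_inv_cancel]
  have hcond1 : ∀ (p : P1 × P2) (q : P1),
      (∀ w : ↥(W₁ ⊔ W₂), (w : G) ∈ W₁ → ((e p) * (q.1)⁻¹) w = 1) ↔ p.1 = q := by
    intro p q
    constructor
    · intro h
      refine Subtype.ext (MonoidHom.ext fun w => ?_)
      rw [← Cfsg.Lib.CyclicTI.pr_mul hW w, map_mul, map_mul, p.1.2 _ (Cfsg.Lib.CyclicTI.pr₂_mem hW w),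
        q.2 _ (Cfsg.Lib.CyclicTI.pr₂_mem hW w)]
      have h' := h _ (Cfsg.Lib.CyclicTI.pr₁_mem hW w)
      have h'' : p.1.1 (Cfsg.Lib.CyclicTI.pr₁ hW w) * p.2.1 (Cfsg.Lib.CyclicTI.pr₁ hW w) *
          (q.1 (Cfsg.Lib.CyclicTI.pr₁ hW w))⁻¹ = 1 := h'
      rw [p.2.2 _ (Cfsg.Lib.CyclicTI.pr₁_mem hW w), mul_one, mul_inv_eq_one] at h''
      rw [h'']
    · rintro rfl w hw
      show p.1.1 w * p.2.1 w * (p.1.1 w)⁻¹ = 1
      rw [p.2.2 w hw, mul_one, mul_inv_cancel]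
  have hc1 : Fintype.card P1 = m := by
    rw [← Nat.card_eq_fintype_card]; exact Cfsg.Lib.CyclicTI.card_onFirst hW
  have hc2 : Fintype.card P2 = n := by
    rw [← Nat.card_eq_fintype_card]; exact Cfsg.Lib.CyclicTI.card_onSecond hW
  set col : P2 → ℕ := fun ψ => (Finset.univ.filter fun φ => A φ + B ψ ≠ 0).card with hcol
  have htot : ∑ ψ, col ψ < 2 * m := by
    refine lt_of_eq_of_lt ?_ hfew
    rw [← Nat.card_congr (e.subtypeEquiv (p := fun p => A p.1 + B p.2 ≠ 0) fun p => by rw [hval]),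
      Nat.card_eq_fintype_card, Fintype.card_subtype, Finset.card_filter, Fintype.sum_prod_type,
      Finset.sum_comm]
    simp only [hcol, Finset.card_filter]
  by_cases hconst : ∀ φ φ', A φ = A φ'
  · obtain ⟨φ₀⟩ : Nonempty P1 := ⟨⟨1, Cfsg.Lib.CyclicTI.onFirst_one⟩⟩
    have hcolv : ∀ ψ, A φ₀ + B ψ ≠ 0 → col ψ = m := fun ψ hψ => by
      rw [hcol, ← hc1]
      simp only
      rw [Finset.filter_true_of_mem fun φ _ => by rw [hconst φ φ₀]; exact hψ, Finset.card_univ]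
    by_cases hz : ∀ ψ, A φ₀ + B ψ = 0
    · left
      intro ω
      rw [← e.apply_symm_apply ω, hval, hconst _ φ₀, hz]
    · push Not at hz
      obtain ⟨ψ₀, hψ₀⟩ := hz
      refine Or.inr (Or.inl ⟨ψ₀.1, A φ₀ + B ψ₀, fun ω => ?_⟩)
      obtain ⟨p, rfl⟩ := e.surjective ω
      rw [hval, hconst p.1 φ₀]
      by_cases hp : p.2 = ψ₀
      · rw [if_pos ((hcond2 p ψ₀).mpr hp), hp]
      · rw [if_neg fun h => hp ((hcond2 p ψ₀).mp h)]
        by_contra hne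
        have h2 := Finset.add_le_sum (f := col) (fun _ _ => Nat.zero_le _) (Finset.mem_univ p.2)
          (Finset.mem_univ ψ₀) hp
        rw [hcolv _ hne, hcolv _ hψ₀] at h2
        omega
  · push Not at hconst
    obtain ⟨φa, φb, hab⟩ := hconst
    obtain ⟨ψ₁, hψ₁⟩ : ∃ ψ₁, col ψ₁ ≤ 1 := by
      by_contra h
      push Not at h
      have := Finset.card_nsmul_le_sum Finset.univ col 2 fun ψ _ => h ψ
      rw [Finset.card_univ, hc2, smul_eq_mul] at this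
      change n * 2 ≤ ∑ ψ, col ψ at this
      omega
    obtain ⟨φ₀, hφ₀⟩ : ∃ φ₀, A φ₀ + B ψ₁ ≠ 0 := by
      by_contra h
      push Not at h
      exact hab (add_right_cancel ((h φa).trans (h φb).symm))
    have hother : ∀ φ, φ ≠ φ₀ → A φ + B ψ₁ = 0 := fun φ hφ => by
      by_contra h
      exact hφ (Finset.card_le_one.mp hψ₁ φ (by simp [h]) φ₀ (by simp [hφ₀]))
    have hcol1 : ∀ ψ, B ψ = B ψ₁ → 1 ≤ col ψ := fun ψ h =>
      Finset.card_pos.mpr ⟨φ₀, by simp [h, hφ₀]⟩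
    have hcol2 : ∀ ψ, B ψ ≠ B ψ₁ → m - 1 ≤ col ψ := fun ψ h => by
      rw [← hc1, ← Finset.card_univ, ← Finset.card_erase_of_mem (Finset.mem_univ φ₀)]
      refine Finset.card_le_card fun φ hφ => ?_
      simp only [Finset.mem_filter, Finset.mem_univ, true_and]
      intro h'
      exact h (add_left_cancel (h'.trans (hother φ (Finset.ne_of_mem_erase hφ)).symm))
    have hallB : ∀ ψ, B ψ = B ψ₁ := by
      by_contra h
      push Not at h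
      obtain ⟨ψ, hψ⟩ := h
      have h1 := Finset.add_sum_erase Finset.univ col (Finset.mem_univ ψ)
      have h2 := Finset.card_nsmul_le_sum (Finset.univ.erase ψ) col 1 fun x _ => by
        by_cases hx : B x = B ψ₁
        · exact hcol1 x hx
        · have := hcol2 x hx; omega
      rw [Finset.card_erase_of_mem (Finset.mem_univ _), Finset.card_univ, hc2, smul_eq_mul] at h2
      change (n - 1) * 1 ≤ ∑ x ∈ Finset.univ.erase ψ, col x at h2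
      have := hcol2 ψ hψ
      obtain ⟨a, ha⟩ := o1
      obtain ⟨b, hb⟩ := o2
      omega
    refine Or.inr (Or.inr ⟨φ₀.1, A φ₀ + B ψ₁, fun ω => ?_⟩)
    obtain ⟨p, rfl⟩ := e.surjective ω
    rw [hval, hallB p.2]
    by_cases hp : p.1 = φ₀
    · rw [if_pos ((hcond1 p φ₀).mpr hp), hp]
    · rw [if_neg fun h => hp ((hcond1 p φ₀).mp h), hother _ hp]

end Cfsg.Agent.S1507
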