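import Cfsg.Statements.S1509
import Cfsg.Agent.Chars.Core

set_option autoImplicit false
open Cfsg

namespace Cfsg.Agent.S1509

/-- Let α, β, γ, δ be functions on a finite group X each of which is an irreducible character or the negative of one, and u, v nonzero real numbers. Suppose ⟨α, β⟩ = ⟨γ, δ⟩ = 0, ⟨α − β, uγ − vδ⟩ = 0, α 1 = β 1 and u γ 1 = v δ 1. Then also ⟨α, γ⟩ = ⟨α, δ⟩ = ⟨β, γ⟩ = ⟨β, δ⟩ = 0. -/
theorem result {X : Type*} [Group X] [Fintype X] (α β γ δ : X → ℂ) (hα : Cfsg.IsIrrCharacter X α ∨ Cfsg.IsIrrCharacter X (-α)) (hβ : Cfsg.IsIrrCharacter X β ∨ Cfsg.IsIrrCharacter X (-β)) (hγ : Cfsg.IsIrrCharacter X γ ∨ Cfsg.IsIrrCharacter X (-γ)) (hδ : Cfsg.IsIrrCharacter X δ ∨ Cfsg.IsIrrCharacter X (-δ)) (u v : ℝ) (hu : u ≠ 0) (hv : v ≠ 0) (hab : Cfsg.classInner α β = 0) (hcd : Cfsg.classInner γ δ = 0) (hmix : Cfsg.classInner (α - β) ((u : ℂ) • γ - (v : ℂ) • δ) = 0) (h1 : α 1 = β 1) (h2 : (u : ℂ) * γ 1 = (v : ℂ) *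 δ 1) : Cfsg.classInner α γ = 0 ∧ Cfsg.classInner α δ = 0 ∧ Cfsg.classInner β γ = 0 ∧ Cfsg.classInner β δ = 0 := by
  classical
  have hpos : ∀ f : X → ℂ, (Cfsg.IsIrrCharacter X f ∨ Cfsg.IsIrrCharacter X (-f)) → f 1 ≠ 0 := by
    rintro f (h | h)
    · exact Cfsg.Lib.Chars.IsIrrCharacter.apply_one_ne_zero h
    · intro h0
      exact Cfsg.Lib.Chars.IsIrrCharacter.apply_one_ne_zero h (by simp [h0])
  have hself : ∀ f : X → ℂ, (Cfsg.IsIrrCharacter X f ∨ Cfsg.IsIrrCharacter X (-f)) → Cfsg.classInner f f = 1 := by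
    rintro f (h | h)
    · exact Cfsg.Lib.Chars.classInner_self_irr h
    · have := Cfsg.Lib.Chars.classInner_self_irr h
      simpa [Cfsg.Lib.Chars.classInner_def] using this
  have hpar : ∀ f g : X → ℂ, (Cfsg.IsIrrCharacter X f ∨ Cfsg.IsIrrCharacter X (-f)) →
      (Cfsg.IsIrrCharacter X g ∨ Cfsg.IsIrrCharacter X (-g)) → Cfsg.classInner f g ≠ 0 →
      ∃ s : ℝ, s ≠ 0 ∧ f = (s : ℂ) • g := by
    have key : ∀ a b : X → ℂ, Cfsg.IsIrrCharacter X a → Cfsg.IsIrrCharacter X b →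
        Cfsg.classInner a b ≠ 0 → a = b := fun a b ha hb h => by
      by_contra hne
      exact h (by rw [Cfsg.Lib.Chars.classInner_irrChar ha hb, if_neg hne])
    rintro f g (hf | hf) (hg | hg) hne
    · exact ⟨1, one_ne_zero, by rw [key f g hf hg hne]; simp⟩
    · have h : f = -g := key f (-g) hf hg (by simpa [Cfsg.Lib.Chars.classInner_def] using hne)
      exact ⟨-1, by norm_num, by rw [h]; simp⟩
    · have h : -f = g := key (-f) g hf hg (by simpa [Cfsg.Lib.Chars.classInner_def] using hne)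
      exact ⟨-1, by norm_num, by rw [← h]; simp⟩
    · have h : -f = -g := key (-f) (-g) hf hg (by simpa [Cfsg.Lib.Chars.classInner_def] using hne)
      exact ⟨1, one_ne_zero, by rw [neg_injective h]; simp⟩
  have main : ∀ (a b c d : X → ℂ) (r t : ℝ),
      (Cfsg.IsIrrCharacter X a ∨ Cfsg.IsIrrCharacter X (-a)) →
      (Cfsg.IsIrrCharacter X b ∨ Cfsg.IsIrrCharacter X (-b)) →
      (Cfsg.IsIrrCharacter X c ∨ Cfsg.IsIrrCharacter X (-c)) →
      (Cfsg.IsIrrCharacter X d ∨ Cfsg.IsIrrCharacter X (-d)) →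
      r ≠ 0 → t ≠ 0 → Cfsg.classInner a b = 0 → Cfsg.classInner c d = 0 →
      Cfsg.classInner (a - b) ((r : ℂ) • c - (t : ℂ) • d) = 0 → a 1 = b 1 →
      (r : ℂ) * c 1 = (t : ℂ) * d 1 → Cfsg.classInner a c = 0 := by
    intro a b c d r t ha hb hc hd hr ht hab hcd hmix h1 h2
    by_contra hne
    obtain ⟨s, hs, rfl⟩ := hpar a c ha hc hne
    have had : Cfsg.classInner ((s : ℂ) • c) d = 0 := by
      rw [Cfsg.Lib.Chars.classInner_smul_left, hcd, mul_zero]
    rw [Cfsg.Lib.Chars.classInner_smul_left] at hab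
    have hbc : Cfsg.classInner b c = 0 := by
      rw [← Cfsg.Lib.Chars.classInner_conj_symm,
        (mul_eq_zero.mp hab).resolve_left (by exact_mod_cast hs), map_zero]
    simp only [Cfsg.Lib.Chars.classInner_sub_left, Cfsg.Lib.Chars.classInner_sub_right,
      Cfsg.Lib.Chars.classInner_smul_right, had, hbc, Cfsg.Lib.Chars.classInner_smul_left,
      hself c hc, hcd, Complex.conj_ofReal] at hmix
    have hbd : Cfsg.classInner b d ≠ 0 := fun h0 => by
      rw [h0] at hmix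
      have : (r : ℂ) * (s : ℂ) = 0 := by linear_combination hmix
      simp [hr, hs] at this
    obtain ⟨w, hw, rfl⟩ := hpar b d hb hd hbd
    rw [Cfsg.Lib.Chars.classInner_smul_left, hself d hd] at hmix
    simp only [Pi.smul_apply, smul_eq_mul] at h1
    have e : ((r : ℂ) * r + (t : ℂ) * t) * (s : ℂ) * d 1 = 0 := by
      linear_combination (r : ℂ) * d 1 * hmix + (t : ℂ) * (r : ℂ) * h1 - (t : ℂ) * (s : ℂ) * h2
    rw [mul_eq_zero, mul_eq_zero] at e
    rcases e with (e | e) | e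
    · have : r * r + t * t = 0 := by exact_mod_cast e
      nlinarith [mul_self_pos.mpr hr, mul_self_nonneg t]
    · exact hs (by exact_mod_cast e)
    · exact hpos d hd e
  have hba : Cfsg.classInner β α = 0 := by rw [← Cfsg.Lib.Chars.classInner_conj_symm, hab, map_zero]
  have hdc : Cfsg.classInner δ γ = 0 := by rw [← Cfsg.Lib.Chars.classInner_conj_symm, hcd, map_zero]
  have hm1 : Cfsg.classInner (β - α) ((u : ℂ) • γ - (v : ℂ) • δ) = 0 := by
    rw [← neg_sub, Cfsg.Lib.Chars.classInner_neg_left, hmix, neg_zero]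
  have hm2 : Cfsg.classInner (α - β) ((v : ℂ) • δ - (u : ℂ) • γ) = 0 := by
    rw [Cfsg.Lib.Chars.classInner_sub_right, ← neg_sub, ← Cfsg.Lib.Chars.classInner_sub_right, hmix, neg_zero]
  have hm3 : Cfsg.classInner (β - α) ((v : ℂ) • δ - (u : ℂ) • γ) = 0 := by
    rw [← neg_sub α β, Cfsg.Lib.Chars.classInner_neg_left, hm2, neg_zero]
  exact ⟨main α β γ δ u v hα hβ hγ hδ hu hv hab hcd hmix h1 h2,
    main α β δ γ v u hα hβ hδ hγ hv hu hab hdc hm2 h1 h2.symm,
    main β α γ δ u v hβ hα hγ hδ hu hv hba hcd hm1 h1.symm h2,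
    main β α δ γ v u hβ hα hδ hγ hv hu hba hdc hm3 h1.symm h2.symm⟩

end Cfsg.Agent.S1509
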