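import Cfsg.Statements.S1510
import Mathlib

set_option autoImplicit false
open Cfsg
open scoped Pointwise

namespace Cfsg.Agent.S1510

/-- Let L be a finite group with a normal subgroup K and a nontrivial cyclic subgroup W₁ of order coprime to its index, K ⊓ W₁ = ⊥ and K ⊔ W₁ = ⊤; let W₂ ≠ ⊥ be a cyclic subgroup of K with K ⊓ C_L(x) = W₂ for every non-identity x ∈ W₁, and suppose W₁ ⊔ W₂ has odd order. Then (W₁, W₂) is a self-normalising cyclic pair in L. -/
theorem result {L : Type*} [Group L] [Fintype L] (K W₁ W₂ : Subgroup L) [hK : K.Normal] (hKW₁ : K ⊓ W₁ = ⊥) (hKW₁' : K ⊔ W₁ = ⊤) (hW₁ : W₁ ≠ ⊥) (hW₁c : IsCyclic W₁) (hHall : Nat.Coprime (Nat.card W₁) W₁.index) (hW₂ : W₂ ≠ ⊥) (hW₂c : IsCyclic W₂) (hW₂K : W₂ ≤ K) (hC : ∀ x ∈ W₁, x ≠ 1 → K ⊓ Subgroup.centralizer ({x} : Set L) = W₂) (hodd : Odd (Nat.card ↥(W₁ ⊔ W₂))) : Cfsg.IsSelfNormalizingCyclic W₁ W₂ := by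
  classical
  have hcomm : ∀ a ∈ W₁, ∀ b ∈ W₂, a * b = b * a := fun a ha b hb => by
    by_cases h : a = 1
    · rw [h, one_mul, mul_one]
    · rw [← hC a ha h] at hb
      exact (Subgroup.mem_centralizer_singleton_iff.mp hb.2).symm
  have hdisj : W₁ ⊓ W₂ = ⊥ := eq_bot_iff.mpr fun z hz => by
    rw [← hKW₁]; exact ⟨hW₂K hz.2, hz.1⟩
  have hKc : Nat.card K = W₁.index := by
    have h : K.IsComplement' W₁ := Subgroup.isComplement'_of_disjoint_and_mul_eq_univ
      (disjoint_iff.mpr hKW₁) (by rw [← Subgroup.coe_mul_of_right_le_normalizer_left K W₁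
        Subgroup.le_normalizer_of_normal, hKW₁']; rfl)
    exact h.index_eq_card.symm
  have hcop : Nat.Coprime (Nat.card W₁) (Nat.card W₂) :=
    Nat.Coprime.coprime_dvd_right (Subgroup.card_dvd_of_le hW₂K) (hKc ▸ hHall)
  have hcyc : IsCyclic ↥(W₁ ⊔ W₂) := by
    obtain ⟨a, ha⟩ := hW₁c.exists_generator
    obtain ⟨b, hb⟩ := hW₂c.exists_generator
    have hab : Commute (a : L) (b : L) := hcomm _ a.2 _ b.2
    have hord : orderOf ((a : L) * b) = Nat.card W₁ * Nat.card W₂ := by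
      rw [hab.orderOf_mul_eq_mul_orderOf_of_coprime, Subgroup.orderOf_coe, Subgroup.orderOf_coe,
        orderOf_eq_card_of_forall_mem_zpowers ha, orderOf_eq_card_of_forall_mem_zpowers hb]
      rw [Subgroup.orderOf_coe, Subgroup.orderOf_coe,
        orderOf_eq_card_of_forall_mem_zpowers ha, orderOf_eq_card_of_forall_mem_zpowers hb]
      exact hcop
    have heq : Subgroup.zpowers ((a : L) * b) = W₁ ⊔ W₂ := by
      refine le_antisymm (Subgroup.zpowers_le.mpr (mul_mem (Subgroup.mem_sup_left a.2)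
        (Subgroup.mem_sup_right b.2))) (sup_le ?_ ?_)
      · intro x hx
        obtain ⟨i, hi⟩ := ha ⟨x, hx⟩
        have hn : ((a : L) * b) ^ (Nat.card W₂) = (a : L) ^ (Nat.card W₂) := by
          rw [hab.mul_pow, show (b : L) ^ Nat.card W₂ = 1 from congrArg Subtype.val (pow_card_eq_one' (x := b)), mul_one]
        obtain ⟨s, hs⟩ := exists_pow_eq_self_of_coprime (x := (a : L)) (n := Nat.card W₂) (by
          rw [Subgroup.orderOf_coe, orderOf_eq_card_of_forall_mem_zpowers ha]; exact hcop.symm)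
        have : (a : L) ∈ Subgroup.zpowers ((a : L) * b) := by
          have h2 := pow_mem (pow_mem (Subgroup.mem_zpowers ((a : L) * b)) (Nat.card W₂)) s
          rwa [hn, hs] at h2
        have hi' : (a : L) ^ i = x := congrArg Subtype.val hi
        exact hi' ▸ zpow_mem this i
      · intro x hx
        obtain ⟨i, hi⟩ := hb ⟨x, hx⟩
        have hn : ((a : L) * b) ^ (Nat.card W₁) = (b : L) ^ (Nat.card W₁) := by
          rw [hab.mul_pow, show (a : L) ^ Nat.card W₁ = 1 from congrArg Subtype.val (pow_card_eq_one' (x := a)), one_mul]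
        obtain ⟨s, hs⟩ := exists_pow_eq_self_of_coprime (x := (b : L)) (n := Nat.card W₁) (by
          rw [Subgroup.orderOf_coe, orderOf_eq_card_of_forall_mem_zpowers hb]; exact hcop)
        have : (b : L) ∈ Subgroup.zpowers ((a : L) * b) := by
          have h2 := pow_mem (pow_mem (Subgroup.mem_zpowers ((a : L) * b)) (Nat.card W₁)) s
          rwa [hn, hs] at h2
        have hi' : (b : L) ^ i = x := congrArg Subtype.val hi
        exact hi' ▸ zpow_mem this i
    rw [← heq]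
    infer_instance
  refine ⟨hW₁, hW₂, hdisj, hcomm, hcyc, fun X hX hne => ?_⟩
  have hWc : ∀ a ∈ W₁ ⊔ W₂, ∀ b ∈ W₁ ⊔ W₂, a * b = b * a := fun a ha b hb =>
    congrArg Subtype.val (@mul_comm' _ _ (@IsCyclic.isMulCommutative _ _ hcyc) ⟨a, ha⟩ ⟨b, hb⟩)
  refine le_antisymm (fun g hg => ?_) (fun g hg => ?_)
  swap
  · rw [Subgroup.mem_set_normalizer_iff]
    intro n
    refine ⟨fun hn => ?_, fun hn => ?_⟩
    · rwa [hWc g hg n (hX hn).1, mul_inv_cancel_right]
    · have h1 : n = g * n * g⁻¹ := by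
        have := hWc g hg _ (hX hn).1
        calc n = g⁻¹ * (g * n * g⁻¹) * g := by group
          _ = g⁻¹ * ((g * n * g⁻¹) * g) := by group
          _ = g⁻¹ * (g * (g * n * g⁻¹)) := by rw [this]
          _ = g * n * g⁻¹ := by group
      rwa [← h1] at hn
  rw [Subgroup.mem_set_normalizer_iff] at hg
  obtain ⟨v, hv⟩ := hne
  have hv' := (hg v).mp hv
  have hnorm : W₂ ≤ Subgroup.normalizer (W₁ : Set L) := fun b hb => by
    rw [Subgroup.mem_normalizer_iff]
    intro z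
    refine ⟨fun hz => by rw [← hcomm z hz b hb, mul_inv_cancel_right]; exact hz, fun hz => ?_⟩
    have h := hcomm _ hz b hb
    rw [inv_mul_cancel_right] at h
    rwa [← mul_left_cancel h] at hz
  have hdec : ∀ z ∈ X, ∃ x ∈ W₁, ∃ y ∈ W₂, x ≠ 1 ∧ z = x * y := fun z hz => by
    obtain ⟨hz1, hz2⟩ := hX hz
    rw [SetLike.mem_coe, ← SetLike.mem_coe, Subgroup.coe_mul_of_right_le_normalizer_left _ _ hnorm] at hz1
    obtain ⟨x, hx, y, hy, rfl⟩ := Set.mem_mul.mp hz1
    exact ⟨x, hx, y, hy, fun h => hz2 (Or.inr (by simpa [h] using hy)), rfl⟩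
  obtain ⟨x, hx, y, hy, hx1, rfl⟩ := hdec v hv
  obtain ⟨x', hx', y', hy', -, he⟩ := hdec _ hv'
  obtain ⟨t, ht0, ht1⟩ := Nat.chineseRemainder hcop.symm 0 1
  have hpow : ∀ a ∈ W₁, ∀ b ∈ W₂, (a * b) ^ t = a := by
    intro a ha b hb
    rw [(show Commute a b from hcomm a ha b hb).mul_pow]
    obtain ⟨d, hd⟩ := Nat.modEq_zero_iff_dvd.mp ht0
    have hbp : b ^ Nat.card W₂ = 1 := congrArg Subtype.val (pow_card_eq_one' (x := (⟨b, hb⟩ : W₂)))
    have hap : a ^ Nat.card W₁ = 1 := congrArg Subtype.val (pow_card_eq_one' (x := (⟨a, ha⟩ : W₁)))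
    rw [show b ^ t = 1 by rw [hd, pow_mul, hbp, one_pow], mul_one]
    conv_rhs => rw [← pow_one a]
    exact pow_eq_pow_iff_modEq.mpr (ht1.of_dvd (orderOf_dvd_of_pow_eq_one hap))
  have h := congrArg (fun z => z ^ t) he
  simp only [conj_pow, hpow x hx y hy, hpow x' hx' y' hy'] at h
  have hg' : g ∈ ((K : Set L) * (W₁ : Set L)) := by
    rw [← Subgroup.coe_mul_of_right_le_normalizer_left K W₁ Subgroup.le_normalizer_of_normal, hKW₁']
    trivial
  obtain ⟨k, hk, w, hw, rfl⟩ := Set.mem_mul.mp hg'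
  have hwx : w * x * w⁻¹ = x := by
    rw [hWc w (Subgroup.mem_sup_left hw) x (Subgroup.mem_sup_left hx), mul_inv_cancel_right]
  rw [show k * w * x * (k * w)⁻¹ = k * (w * x * w⁻¹) * k⁻¹ by group, hwx] at h
  have h2 : x' * x⁻¹ ∈ K ⊓ W₁ := by
    refine ⟨?_, W₁.mul_mem hx' (W₁.inv_mem hx)⟩
    rw [← h, show k * x * k⁻¹ * x⁻¹ = k * (x * k⁻¹ * x⁻¹) by group]
    exact mul_mem hk (hK.conj_mem _ (inv_mem hk) x)
  rw [hKW₁, Subgroup.mem_bot, mul_inv_eq_one] at h2
  rw [h2, mul_inv_eq_iff_eq_mul] at h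
  have hk2 : k ∈ K ⊓ Subgroup.centralizer ({x} : Set L) :=
    ⟨hk, Subgroup.mem_centralizer_singleton_iff.mpr h⟩
  rw [hC x hx hx1] at hk2
  exact mul_mem (Subgroup.mem_sup_right hk2) (Subgroup.mem_sup_left hw)

end Cfsg.Agent.S1510
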