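import Cfsg.Statements.S1512
import Cfsg.Agent.Chars.Frob

set_option autoImplicit false
open Cfsg

namespace Cfsg.Agent.S1512

/-- Let K be a normal subgroup of the finite group L and x a non-identity element whose order is coprime to the order of K, such that K ⊓ C_L(y) = W₂ for every non-identity element y of the cyclic group generated by x. Then the number of conjugacy classes of K mapped to themselves by conjugation by x is at most Nat.card W₂. -/
theorem result {L : Type*} [Group L] [Finite L] (K W₂ : Subgroup L) [hK : K.Normal] (x : L) (hx1 : x ≠ 1) (hx : Nat.Coprime (orderOf x) (Nat.card K)) (hC : ∀ y ∈ Subgroup.zpowers x, y ≠ 1 → K ⊓ Subgroup.centralizer ({y} : Set L) = W₂) : Nat.card {C : ConjClasses K // ConjClasses.map (MulEquiv.toMonoidHom ((MulAut.conjNormal x : MulAut K))) C = C} ≤ Nat.card W₂ := by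
  classical
  have hW : K ⊓ Subgroup.centralizer ({x} : Set L) = W₂ := hC x (Subgroup.mem_zpowers x) hx1
  have hmem : ∀ w : W₂, (w : L) ∈ K := fun w => (hW.ge w.2).1
  refine Nat.card_le_card_of_surjective (f := fun w : W₂ => ⟨ConjClasses.mk ⟨w, hmem w⟩, ?_⟩) ?_
  · have hw : (w : L) * x = x * w := Subgroup.mem_centralizer_singleton_iff.mp (hW.ge w.2).2
    refine congrArg ConjClasses.mk (Subtype.ext ?_)
    show ((MulAut.conjNormal x : MulAut K) ⟨w, hmem w⟩ : L) = w
    rw [MulAut.conjNormal_apply]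
    exact mul_inv_eq_iff_eq_mul.mpr hw.symm
  · rintro ⟨C, hCfix⟩
    obtain ⟨k, rfl⟩ := ConjClasses.exists_rep C
    obtain ⟨c, hc⟩ := isConj_iff.mp (ConjClasses.mk_eq_mk_iff_isConj.mp hCfix).symm
    have h0 : (c : L) * k * (c : L)⁻¹ = x * k * x⁻¹ := by
      simpa [MulAut.conjNormal_apply] using congrArg Subtype.val hc
    obtain ⟨d, hd, hdx⟩ := Cfsg.Lib.Chars.exists_fixed_conj K
      (Subgroup.mem_normalizer_iff.mpr fun n => ⟨fun hn => hK.conj_mem n hn x,
        fun hn => by simpa [mul_assoc] using hK.conj_mem _ hn x⁻¹⟩) hx k.2 c.2 h0.symm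
    have hdk : d * k * d⁻¹ ∈ W₂ := hW.le ⟨hK.conj_mem _ k.2 d,
      Subgroup.mem_centralizer_singleton_iff.mpr hdx.symm⟩
    refine ⟨⟨_, hdk⟩, Subtype.ext ?_⟩
    exact ConjClasses.mk_eq_mk_iff_isConj.mpr
      (isConj_iff.mpr ⟨⟨d, hd⟩, Subtype.ext rfl⟩ : IsConj k ⟨d * k * d⁻¹, hmem ⟨_, hdk⟩⟩).symm

end Cfsg.Agent.S1512
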