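import Cfsg.Statements.S1515
import Cfsg.Agent.OddChar.Coherence

set_option autoImplicit false
open Cfsg

namespace Cfsg.Agent.S1515

/-- Let (S, τ, R) be a coherence system from L to G, χ ∈ S, and ψ an integer combination of S with ⟨χ, ψ⟩ = ⟨conj χ, ψ⟩ = 0. Let τ₁ be a linear isometry on the integer combinations of χ − ψ and χ − conj χ, with virtual-character values, agreeing with τ on integer multiples of χ − conj χ. Then the sum over α ∈ R χ of the squared absolute values of ⟨τ₁(χ − ψ), α⟩ is at least ⟨χ, χ⟩; and if ⟨τ₁(χ − ψ), τ₁(χ − ψ)⟩ minus that sum is at least ⟨ψ, ψ⟩, then the sum equals ⟨χ, χ⟩ and every ⟨τ₁(χ − ψ), α⟩ with α ∈ R χ is 0 or 1. -/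
theorem result {L : Type*} [Group L] [Fintype L] {G : Type*} [Group G] [Fintype G] (S : Set (L → ℂ)) (τ : (L → ℂ) → (G → ℂ)) (R : (L → ℂ) → Finset (G → ℂ)) (hS : Cfsg.IsCoherenceSystem S τ R) (χ : L → ℂ) (hχ : χ ∈ S) (ψ : L → ℂ) (hψ : ψ ∈ Cfsg.zspan S) (h1 : Cfsg.classInner χ ψ = 0) (h2 : Cfsg.classInner (Cfsg.conjFun χ) ψ = 0) (τ₁ : (L → ℂ) → (G → ℂ)) (hτ₁ : Cfsg.IsLinearIsometryOn (Cfsg.zspan {χ - ψ, χ - Cfsg.conjFun χ}) τ₁) (hagree : ∀ n : ℤ, τ₁ (n • (χ - Cfsg.conjFun χ)) = τ (n • (χ - Cfsg.conjFun χ))) : (Cfsg.classInner χ χ).re ≤ ∑ α ∈ R χ, ‖Cfsg.classInner (τ₁ (χ - ψ)) α‖ ^ 2 ∧ ((Cfsg.classInner ψ ψ).re ≤ (Cfsg.classInner (τ₁ (χ - ψ)) (τ₁ (χ - ψ))).re - ∑ α ∈ R χ, ‖Cfsg.classInner (τ₁ (χ - ψ)) α‖ ^ 2 → (∑ α ∈ R χ, ‖Cfsg.classInner (τ₁ (χ - ψ)) α‖ ^ 2 = (Cfsg.classInner χ χ).re ∧ ∀ α ∈ R χ, Cfsg.classInner (τ₁ (χ - ψ)) α = 0 ∨ Cfsg.classInner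 (τ₁ (χ - ψ)) α = 1)) := by
  classical
  have hd : χ - Cfsg.conjFun χ ∈ Cfsg.zspan {χ - ψ, χ - Cfsg.conjFun χ} :=
    Cfsg.Lib.Coherence.subset_zspan (Set.mem_insert_of_mem _ rfl)
  have he : χ - ψ ∈ Cfsg.zspan {χ - ψ, χ - Cfsg.conjFun χ} :=
    Cfsg.Lib.Coherence.subset_zspan (Set.mem_insert _ _)
  have hag : τ₁ (χ - Cfsg.conjFun χ) = τ (χ - Cfsg.conjFun χ) := by simpa using hagree 1
  have hψχ : Cfsg.classInner ψ χ = 0 := by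
    rw [← Cfsg.Lib.Chars.classInner_conj_symm, h1, map_zero]
  have hψχ' : Cfsg.classInner ψ (Cfsg.conjFun χ) = 0 := by
    rw [← Cfsg.Lib.Chars.classInner_conj_symm, h2, map_zero]
  obtain ⟨m, -, hm⟩ := Cfsg.Lib.Coherence.sys_norm hS hχ
  obtain ⟨c, hc, hs, -, hN⟩ := Cfsg.Lib.Coherence.sys_proj hS hχ (hτ₁.2.2.2 _ he)
  have hsum : (∑ α ∈ R χ, c α) = m := by
    rw [← hag, hτ₁.2.2.1 _ he _ hd, Cfsg.Lib.Chars.classInner_sub_left,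
      Cfsg.Lib.Chars.classInner_sub_right, Cfsg.Lib.Chars.classInner_sub_right, hm, hψχ, hψχ',
      hS.orthogonal χ hχ _ (hS.conj_mem χ hχ) (hS.conj_ne χ hχ).symm] at hs
    simp only [sub_zero] at hs
    exact_mod_cast hs
  have hN' : (Cfsg.classInner (τ₁ (χ - ψ)) (τ₁ (χ - ψ))).re =
      m + (Cfsg.classInner ψ ψ).re := by
    rw [hτ₁.2.2.1 _ he _ he, Cfsg.Lib.Chars.classInner_sub_left,
      Cfsg.Lib.Chars.classInner_sub_right, Cfsg.Lib.Chars.classInner_sub_right, hm, h1, hψχ]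
    simp
  have hsq : ∑ α ∈ R χ, ‖Cfsg.classInner (τ₁ (χ - ψ)) α‖ ^ 2 =
      ((∑ α ∈ R χ, c α ^ 2 : ℤ) : ℝ) := by
    rw [Int.cast_sum]
    refine Finset.sum_congr rfl fun α hα => ?_
    rw [hc α hα, Complex.norm_intCast, sq_abs]
    push_cast
    rfl
  have hle := Cfsg.Lib.Coherence.sum_le_sum_sq (R χ) c
  rw [hsum] at hle
  have hle' : (m : ℝ) ≤ ((∑ α ∈ R χ, c α ^ 2 : ℤ) : ℝ) := by exact_mod_cast hle
  rw [hsq, hm, Complex.natCast_re, hN']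
  refine ⟨hle', fun h => ?_⟩
  have heq : ((∑ α ∈ R χ, c α ^ 2 : ℤ) : ℝ) = m := le_antisymm (by linarith) hle'
  refine ⟨heq, fun α hα => ?_⟩
  have hle2 : ∑ α ∈ R χ, c α ^ 2 ≤ ∑ α ∈ R χ, c α := by
    rw [hsum]
    exact_mod_cast heq.le
  rcases Cfsg.Lib.Coherence.zero_one_of_sum_sq_le hle2 hα with h0 | h0
  · exact Or.inl (by rw [hc α hα, h0]; simp)
  · exact Or.inr (by rw [hc α hα, h0]; simp)

end Cfsg.Agent.S1515
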