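import Cfsg.Statements.S1516
import Cfsg.Agent.OddChar.Coherence

set_option autoImplicit false
open Cfsg

namespace Cfsg.Agent.S1516

/-- Let (S, τ, R) be a coherence system from L to G with degrees φ 1 = d φ and squared norms ⟨φ, φ⟩ = n φ for φ ∈ S. Let S₁ ⊆ S be a finite subset closed under complex conjugation such that (S₁, L minus 1, τ) is coherent, let χ ∈ S with χ ∉ S₁ and conj χ ∉ S₁, and let χ₁ ∈ S₁ with d χ₁ dividing d χ and 2 d χ d χ₁ < Σ_{φ ∈ S₁} (d φ)² / n φ. Then S₁ together with χ and conj χ is coherent. -/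
theorem result {L : Type*} [Group L] [Fintype L] {G : Type*} [Group G] [Fintype G] (S : Set (L → ℂ)) (τ : (L → ℂ) → (G → ℂ)) (R : (L → ℂ) → Finset (G → ℂ)) (hS : Cfsg.IsCoherenceSystem S τ R) (d n : (L → ℂ) → ℕ) (hd : ∀ φ ∈ S, φ 1 = (d φ : ℂ)) (hn : ∀ φ ∈ S, Cfsg.classInner φ φ = (n φ : ℂ)) (S₁ : Finset (L → ℂ)) (hS₁ : ↑S₁ ⊆ S) (hS₁c : ∀ φ ∈ S₁, Cfsg.conjFun φ ∈ S₁) (hcoh : Cfsg.IsCoherent (↑S₁ : Set (L → ℂ)) {1}ᶜ τ) (χ : L → ℂ) (hχ : χ ∈ S) (hχ₁ : χ ∉ S₁) (hχ₂ : Cfsg.conjFun χ ∉ S₁) (χ₁ : L → ℂ) (hχ₁S : χ₁ ∈ S₁) (hdvd : d χ₁ ∣ d χ) (hineq : (2 * d χ * d χ₁ : ℝ) < ∑ φ ∈ S₁, ((d φ : ℝ) ^ 2 / (n φ : ℝ))) : Cfsg.IsCoherent (↑S₁ ∪ {χ, Cfsg.conjFun χ} : Set (L → ℂ)) {1}ᶜ τ := by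
  classical
  obtain ⟨-, τ₁, hτ₁, hag⟩ := hcoh
  set χb := Cfsg.conjFun χ with hχb
  have hχ₁m : χ₁ ∈ S := hS₁ hχ₁S
  have hχbm : χb ∈ S := hS.conj_mem χ hχ
  have hz : ∀ φ ∈ (↑S₁ : Set (L → ℂ)), φ ∈ Cfsg.zspan (↑S₁ : Set (L → ℂ)) := fun φ hφ =>
    Cfsg.Lib.Coherence.subset_zspan hφ
  have hne : ∀ φ ∈ S₁, φ ≠ χ ∧ φ ≠ χb := fun φ hφ =>
    ⟨fun h => hχ₁ (h ▸ hφ), fun h => hχ₂ (h ▸ hφ)⟩
  have horth0 : ∀ φ ∈ S₁, Cfsg.classInner χ φ = 0 ∧ Cfsg.classInner χb φ = 0 := fun φ hφ =>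
    ⟨hS.orthogonal χ hχ φ (hS₁ hφ) (hne φ hφ).1.symm,
      hS.orthogonal χb hχbm φ (hS₁ hφ) (hne φ hφ).2.symm⟩
  have hperp : ∀ φ ∈ S₁, ∀ α ∈ R χ, Cfsg.classInner (τ₁ φ) α = 0 := by
    intro φ hφ α hα
    have h2 : φ - Cfsg.conjFun φ ∈ Cfsg.zspanOn (↑S₁ : Set (L → ℂ)) {1}ᶜ :=
      Cfsg.Lib.Coherence.mem_one.mpr ⟨(Submodule.span ℤ _).sub_mem (hz φ hφ) (hz _ (hS₁c φ hφ)),
        by simp [Cfsg.Lib.Coherence.conj_apply_one (hS.isCharacter φ (hS₁ hφ))]⟩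
    obtain ⟨-, c, hc⟩ := Cfsg.Lib.Coherence.sys_tight hS (hS₁ hφ) (hτ₁.2.2.2 _ (hz φ hφ))
      (m := (n φ : ℤ))
      (by
        rw [← hag _ h2, hτ₁.2.2.1 _ (hz φ hφ) _ h2.1, Cfsg.Lib.Chars.classInner_sub_right,
          hn φ (hS₁ hφ), hS.orthogonal φ (hS₁ hφ) _ (hS.conj_mem φ (hS₁ hφ))
            (hS.conj_ne φ (hS₁ hφ)).symm]
        simp)
      (by rw [hτ₁.2.2.1 _ (hz φ hφ) _ (hz φ hφ), hn φ (hS₁ hφ)]; simp)
    rw [hc]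
    exact Cfsg.Lib.Coherence.part_orth hS hχ (hS₁ hφ) (hne φ hφ).1 (hne φ hφ).2 c hα
  have hperp' : ∀ φ ∈ S₁, Cfsg.classInner (τ (χ - χb)) (τ₁ φ) = 0 := by
    intro φ hφ
    rw [hχb, hS.sum_eq χ hχ, Cfsg.Lib.Chars.classInner_sum_left]
    exact Finset.sum_eq_zero fun α hα => by
      rw [← Cfsg.Lib.Chars.classInner_conj_symm, hperp φ hφ α hα, map_zero]
  obtain ⟨a, ha⟩ := hdvd
  set f := (a : ℤ) • χ₁ with hf
  have hfS₁ : f ∈ Cfsg.zspan (↑S₁ : Set (L → ℂ)) :=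
    (Submodule.span ℤ _).smul_mem _ (hz χ₁ hχ₁S)
  have hsub : (↑S₁ ∪ {χ, χb} : Set (L → ℂ)) ⊆ S := by
    rintro t (ht | rfl | rfl)
    exacts [hS₁ ht, hχ, hχbm]
  have hf1 : (χ - f) 1 = 0 := by
    simp [hf, hd χ hχ, hd χ₁ hχ₁m, ha, mul_comm]
  have hmemS : χ - f ∈ Cfsg.zspanOn S {1}ᶜ := Cfsg.Lib.Coherence.mem_one.mpr
    ⟨(Submodule.span ℤ S).sub_mem (Cfsg.Lib.Coherence.subset_zspan hχ)
      (Cfsg.Lib.Coherence.zspan_mono hS₁ hfS₁), hf1⟩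
  set β := τ (χ - f) with hβ
  have hβgen := hS.isometry.2.2.2 _ hmemS
  choose! x hx using fun φ (hφ : φ ∈ S₁) =>
    Cfsg.Lib.Coherence.inner_int hβgen (hτ₁.2.2.2 _ (hz φ hφ))
  have hin : ∀ φ ∈ S₁, Cfsg.classInner (χ - f) φ =
      -((a : ℂ) * if φ = χ₁ then (n χ₁ : ℂ) else 0) := by
    intro φ hφ
    rw [Cfsg.Lib.Chars.classInner_sub_left, (horth0 φ hφ).1, hf,
      Cfsg.Lib.Chars.classInner_zsmul_left]
    by_cases h : φ = χ₁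
    · simp [h, hn χ₁ hχ₁m]
    · simp [h, hS.orthogonal χ₁ hχ₁m φ (hS₁ hφ) (Ne.symm h)]
  set b : ℤ := x χ₁ + (a : ℤ) * n χ₁ with hb
  have hrel : ∀ φ ∈ S₁, (d χ₁ : ℤ) * (x φ + (a : ℤ) * if φ = χ₁ then (n χ₁ : ℤ) else 0) =
      (d φ : ℤ) * b := by
    intro φ hφ
    have hθ : (d χ₁ : ℤ) • φ - (d φ : ℤ) • χ₁ ∈ Cfsg.zspanOn (↑S₁ : Set (L → ℂ)) {1}ᶜ :=
      Cfsg.Lib.Coherence.mem_one.mpr
        ⟨(Submodule.span ℤ _).sub_mem ((Submodule.span ℤ _).smul_mem _ (hz φ hφ))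
          ((Submodule.span ℤ _).smul_mem _ (hz χ₁ hχ₁S)), by
          simp [hd φ (hS₁ hφ), hd χ₁ hχ₁m, mul_comm]⟩
    have h := hS.isometry.2.2.1 _ hmemS _ (Cfsg.Lib.Coherence.zspanOn_mono hS₁ hθ)
    rw [← hag _ hθ, ← hβ,
      Cfsg.Lib.Coherence.map_sub' (Submodule.span ℤ _) hτ₁
        ((Submodule.span ℤ _).smul_mem _ (hz φ hφ))
        ((Submodule.span ℤ _).smul_mem _ (hz χ₁ hχ₁S)),
      hτ₁.2.1 _ (hz φ hφ), hτ₁.2.1 _ (hz χ₁ hχ₁S), Cfsg.Lib.Chars.classInner_sub_right,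
      Cfsg.Lib.Chars.classInner_zsmul_right, Cfsg.Lib.Chars.classInner_zsmul_right, hx φ hφ,
      hx χ₁ hχ₁S, Cfsg.Lib.Chars.classInner_sub_right,
      Cfsg.Lib.Chars.classInner_zsmul_right, Cfsg.Lib.Chars.classInner_zsmul_right, hin φ hφ,
      hin χ₁ hχ₁S, if_pos rfl] at h
    rw [hb]
    by_cases hφ' : φ = χ₁
    · rw [hφ']; simp
    · rw [if_neg hφ'] at h ⊢
      push_cast at h
      apply Int.cast_injective (α := ℂ)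
      push_cast
      linear_combination h
  have hdpos : ∀ φ ∈ S, (0 : ℝ) < d φ := fun φ hφ => by
    have h := Cfsg.Lib.Coherence.apply_one_ne_zero' hS hφ
    rw [hd φ hφ] at h
    exact_mod_cast Nat.pos_of_ne_zero (by exact_mod_cast h)
  have hnpos : ∀ φ ∈ S, (0 : ℝ) < n φ := fun φ hφ => by
    obtain ⟨m, hm0, hm⟩ := Cfsg.Lib.Coherence.sys_norm hS hφ
    rw [hn φ hφ] at hm
    have : n φ = m := by exact_mod_cast hm
    rw [this]; exact_mod_cast hm0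
  -- the norm bound
  obtain ⟨c, -, hcs, -, hN⟩ := Cfsg.Lib.Coherence.sys_proj hS hχ hβgen
  have hcn : ∑ α ∈ R χ, c α = n χ := by
    rw [hS.isometry.2.2.1 _ hmemS _ (Cfsg.Lib.Coherence.sub_conj_mem hS hχ),
      Cfsg.Lib.Chars.classInner_sub_left, Cfsg.Lib.Chars.classInner_sub_right,
      Cfsg.Lib.Chars.classInner_sub_right, hn χ hχ,
      hS.orthogonal χ hχ _ hχbm (hS.conj_ne χ hχ).symm, hf,
      Cfsg.Lib.Chars.classInner_zsmul_left, Cfsg.Lib.Chars.classInner_zsmul_left,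
      hS.orthogonal χ₁ hχ₁m χ hχ (hne χ₁ hχ₁S).1,
      hS.orthogonal χ₁ hχ₁m _ hχbm (hne χ₁ hχ₁S).2] at hcs
    simp only [mul_zero, sub_zero] at hcs
    exact_mod_cast hcs
  have hsq := Cfsg.Lib.Coherence.sum_le_sum_sq (R χ) c
  rw [hcn] at hsq
  have hsq' : (n χ : ℝ) ≤ ((∑ α ∈ R χ, c α ^ 2 : ℤ) : ℝ) := by exact_mod_cast hsq
  obtain ⟨-, hN2⟩ := Cfsg.Lib.Coherence.project S₁ (e := τ₁) (n := fun φ => (n φ : ℝ))
    (fun φ hφ => (hnpos φ (hS₁ hφ)).ne')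
    (fun φ hφ ψ hψ => by
      rw [hτ₁.2.2.1 _ (hz φ hφ) _ (hz ψ hψ)]
      split_ifs with h
      · subst h; simp [hn φ (hS₁ hφ)]
      · exact hS.orthogonal φ (hS₁ hφ) ψ (hS₁ hψ) h)
    (a := β - Cfsg.Lib.Coherence.part (R χ) c) (x := fun φ => (x φ : ℝ))
    (fun φ hφ => by
      have h0 : Cfsg.classInner (Cfsg.Lib.Coherence.part (R χ) c) (τ₁ φ) = 0 :=
        Cfsg.Lib.Coherence.comb_inner_of_orth _ (fun α hα => by
          rw [← Cfsg.Lib.Chars.classInner_conj_symm, id, hperp φ hφ α hα, map_zero]) _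
      rw [Cfsg.Lib.Chars.classInner_sub_left, h0, hx φ hφ, sub_zero]
      simp)
  have hβn : (Cfsg.classInner β β).re = (n χ : ℝ) + (a : ℝ) ^ 2 * n χ₁ := by
    rw [hβ, hS.isometry.2.2.1 _ hmemS _ hmemS, Cfsg.Lib.Chars.classInner_sub_right,
      Cfsg.Lib.Chars.classInner_sub_left, hn χ hχ, hf, Cfsg.Lib.Chars.classInner_zsmul_right,
      Cfsg.Lib.Chars.classInner_zsmul_left,
      hS.orthogonal χ₁ hχ₁m χ hχ (hne χ₁ hχ₁S).1, ← hf, hin χ₁ hχ₁S, if_pos rfl]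
    simp
    ring
  have hrem := Cfsg.Lib.Coherence.inner_self_re_nonneg (β - Cfsg.Lib.Coherence.part (R χ) c -
    Cfsg.Lib.Coherence.comb S₁ τ₁ fun φ => (x φ : ℝ) / n φ)
  have hterm : ∀ φ ∈ S₁, (x φ : ℝ) ^ 2 / n φ =
      (b : ℝ) ^ 2 / (d χ₁ : ℝ) ^ 2 * ((d φ : ℝ) ^ 2 / n φ) +
        if φ = χ₁ then -2 * (a : ℝ) * b + (a : ℝ) ^ 2 * n χ₁ else 0 := by
    intro φ hφ
    have h1 := hnpos φ (hS₁ hφ)
    have h2 := hdpos χ₁ hχ₁m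
    have h := congrArg (fun z : ℤ => (z : ℝ)) (hrel φ hφ)
    by_cases hφ' : φ = χ₁
    · subst hφ'
      have hbR : (b : ℝ) = x φ + a * n φ := by rw [hb]; push_cast; ring
      rw [if_pos rfl, hbR]
      field_simp
      ring
    · simp only [if_neg hφ', mul_zero, add_zero] at h ⊢
      push_cast at h
      have hxφ : (x φ : ℝ) = (d φ : ℝ) * b / d χ₁ := by
        rw [eq_div_iff h2.ne']; linarith
      rw [hxφ]
      field_simp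
  rw [Finset.sum_congr rfl hterm, Finset.sum_add_distrib, ← Finset.mul_sum,
    Finset.sum_ite_eq' S₁ χ₁, if_pos hχ₁S] at hN2
  have hb0 : b = 0 := by
    by_contra hb0
    have h2 := hdpos χ₁ hχ₁m
    have ha0 : (0 : ℝ) < a := by
      have h3 := hdpos χ hχ
      rw [ha] at h3
      push_cast at h3
      exact pos_of_mul_pos_right h3 h2.le
    have hbsq : (0 : ℝ) < (b : ℝ) ^ 2 := by positivity
    have hle : (b : ℝ) ^ 2 / (d χ₁ : ℝ) ^ 2 *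
        (∑ φ ∈ S₁, (d φ : ℝ) ^ 2 / n φ) ≤ 2 * a * b := by linarith
    have hlt : (b : ℝ) ^ 2 / (d χ₁ : ℝ) ^ 2 * (2 * d χ * d χ₁) < 2 * a * b :=
      lt_of_lt_of_le (mul_lt_mul_of_pos_left hineq (by positivity)) hle
    rw [ha] at hlt
    push_cast at hlt
    field_simp at hlt
    have hi : (b : ℝ) ≤ (b : ℝ) ^ 2 := by exact_mod_cast Int.le_self_sq b
    nlinarith
  have hfin : ∀ φ ∈ S₁, Cfsg.classInner β (τ₁ φ) = Cfsg.classInner (χ - f) φ := by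
    intro φ hφ
    have h := hrel φ hφ
    rw [hb0, mul_zero] at h
    have h' := (mul_eq_zero.mp h).resolve_left
      (by exact_mod_cast (hdpos χ₁ hχ₁m).ne')
    rw [hx φ hφ, hin φ hφ, eq_neg_of_add_eq_zero_left h']
    split_ifs <;> simp
  refine Cfsg.Lib.Coherence.isCoherent_extend (S₁ := (↑S₁ : Set (L → ℂ))) Set.subset_union_left
    (fun φ hφ => Cfsg.Lib.Coherence.sys_ne_zero hS (hsub hφ))
    (fun φ hφ ψ hψ => hS.orthogonal φ (hsub hφ) ψ (hsub hψ))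
    ⟨fun p hp q hq => hS.isometry.1 p (Cfsg.Lib.Coherence.zspanOn_mono hsub hp) q
        (Cfsg.Lib.Coherence.zspanOn_mono hsub hq),
      fun p hp => hS.isometry.2.1 p (Cfsg.Lib.Coherence.zspanOn_mono hsub hp),
      fun p hp q hq => hS.isometry.2.2.1 p (Cfsg.Lib.Coherence.zspanOn_mono hsub hp) q
        (Cfsg.Lib.Coherence.zspanOn_mono hsub hq),
      fun p hp => hS.isometry.2.2.2 p (Cfsg.Lib.Coherence.zspanOn_mono hsub hp)⟩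
    hτ₁ hag ?_ ?_
  · rintro t (ht | rfl | rfl)
    · refine ⟨t, hz t ht, by simp, fun φ _ => ?_⟩
      rw [sub_self, Cfsg.Lib.Coherence.map_zero' (Cfsg.Lib.Coherence.spanOn S {1}ᶜ) hS.isometry,
        Cfsg.Lib.Chars.classInner_zero_left, Cfsg.Lib.Chars.classInner_zero_left]
    · exact ⟨f, hfS₁, hf1, hfin⟩
    · refine ⟨f, hfS₁, by simpa [hχb, Cfsg.Lib.Coherence.conj_apply_one (hS.isCharacter χ hχ)]
        using hf1, fun φ hφ => ?_⟩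
      rw [show χb - f = (χ - f) - (χ - χb) by abel,
        Cfsg.Lib.Coherence.map_sub' (Cfsg.Lib.Coherence.spanOn S {1}ᶜ) hS.isometry hmemS
          (Cfsg.Lib.Coherence.sub_conj_mem hS hχ),
        Cfsg.Lib.Chars.classInner_sub_left, ← hβ, hfin φ hφ, hperp' φ hφ,
        Cfsg.Lib.Chars.classInner_sub_left (χ - f) (χ - χb),
        Cfsg.Lib.Chars.classInner_sub_left χ χb, (horth0 φ hφ).1, (horth0 φ hφ).2, sub_self]
  · refine ⟨χ - χb, Cfsg.Lib.Coherence.mem_one.mpr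
      ⟨(Submodule.span ℤ _).sub_mem (Cfsg.Lib.Coherence.subset_zspan (Or.inr (Or.inl rfl)))
        (Cfsg.Lib.Coherence.subset_zspan (Or.inr (Or.inr rfl))), by
        simp [hχb, Cfsg.Lib.Coherence.conj_apply_one (hS.isCharacter χ hχ)]⟩,
      sub_ne_zero.mpr (hS.conj_ne χ hχ).symm⟩

end Cfsg.Agent.S1516
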