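import Cfsg.Statements.S1528
import Cfsg.Agent.Chars.Frob

set_option autoImplicit false
open Cfsg

namespace Cfsg.Agent.S1528

/-- Let N be a normal subgroup of the finite group G such that every element of G commuting with a non-identity element of N lies in N. If χ is an irreducible character of G with χ n ≠ χ 1 for some n ∈ N, then χ is the function induced from some irreducible character of N. -/
theorem result {G : Type*} [Group G] [Fintype G] (N : Subgroup G) [N.Normal] (hC : ∀ n ∈ N, n ≠ 1 → Subgroup.centralizer ({n} : Set G) ≤ N) (χ : G → ℂ) (hχ : Cfsg.IsIrrCharacter G χ) (hker : ∃ n ∈ N, χ n ≠ χ 1) : ∃ φ : N → ℂ, Cfsg.IsIrrCharacter N φ ∧ χ = Cfsg.indFun N φ := by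
  classical
  obtain ⟨φ, hφ, hφ1, hφc⟩ : ∃ φ : N → ℂ, Cfsg.IsIrrCharacter N φ ∧ (φ ≠ fun _ => 1) ∧
      Cfsg.classInner (fun n : N => χ n) φ ≠ 0 := by
    by_contra hno
    push Not at hno
    obtain ⟨n, hn, hne⟩ := hker
    apply hne
    obtain ⟨m, hm⟩ := Cfsg.Lib.Chars.IsCharacter.exists_decomp
      (Cfsg.Lib.Chars.IsCharacter.restrict (Cfsg.Lib.Chars.isCharacter_of_irr hχ) N)
    have hz : ∀ ψ : Cfsg.IrrCharacter N, (ψ : N → ℂ) ≠ (fun _ => 1) → m ψ = 0 := fun ψ hψ => by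
      have h := hno ψ ψ.2 hψ
      rw [hm] at h
      simp only [← Nat.cast_smul_eq_nsmul ℂ] at h
      rw [Cfsg.Lib.Chars.classInner_irrSum (fun ψ => (m ψ : ℂ))] at h
      exact_mod_cast h
    have e1 : χ n = (fun x : N => χ x) ⟨n, hn⟩ := rfl
    have e2 : χ 1 = (fun x : N => χ x) 1 := rfl
    rw [e1, e2, hm, Finset.sum_apply, Finset.sum_apply]
    refine Finset.sum_congr rfl fun ψ _ => ?_
    by_cases hψ : (ψ : N → ℂ) = fun _ => 1
    · simp [hψ]
    · simp [hz ψ hψ]
  refine ⟨φ, hφ, ?_⟩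
  have hind := Cfsg.Lib.Chars.isIrr_indFun_of_centralizer_le N hC hφ hφ1
  have h := Cfsg.Lib.Chars.classInner_irrChar hχ hind
  rw [Cfsg.Lib.Chars.frobenius_reciprocity' N φ
    (Cfsg.Lib.Chars.isClassFunction_isChar (Cfsg.Lib.Chars.isCharacter_of_irr hχ))] at h
  by_contra hne
  rw [if_neg hne] at h
  exact hφc h

end Cfsg.Agent.S1528
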