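import Cfsg.Statements.S1530
import Cfsg.Agent.OddChar.Coherence

set_option autoImplicit false
open Cfsg

namespace Cfsg.Agent.S1530

/-- Let N be a subgroup of the finite group G and S₀ a finite set of irreducible characters of N, χ an irreducible character of N not in S₀, with degrees ξ 1 = d ξ. Let τ be a linear isometry on the integer combinations of S₀ ∪ {χ} vanishing at 1, with values virtual characters of G vanishing at 1, such that (S₀, N minus 1, τ) is coherent. If some ψ ∈ S₀ has d ψ dividing d χ and 2 · d ψ · d χ < Σ_{ξ ∈ S₀} (d ξ)², then (S₀ ∪ {χ}, N minus 1, τ) is coherent. -/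
theorem result {G : Type*} [Group G] [Fintype G] (N : Subgroup G) [Fintype N] (S₀ : Finset (N → ℂ)) (χ : N → ℂ) (hirr : ∀ ξ ∈ S₀, Cfsg.IsIrrCharacter N ξ) (hχ : Cfsg.IsIrrCharacter N χ) (hχS : χ ∉ S₀) (d : (N → ℂ) → ℕ) (hd : ∀ ξ ∈ insert χ S₀, ξ 1 = (d ξ : ℂ)) (τ : (N → ℂ) → (G → ℂ)) (hτ : Cfsg.IsLinearIsometryOn (Cfsg.zspanOn (↑(insert χ S₀) : Set (N → ℂ)) {1}ᶜ) τ) (hτ1 : ∀ α ∈ Cfsg.zspanOn (↑(insert χ S₀) : Set (N → ℂ)) {1}ᶜ, τ α 1 = 0) (hcoh : Cfsg.IsCoherent (↑S₀ : Set (N → ℂ)) {1}ᶜ τ) (ψ : N → ℂ) (hψ : ψ ∈ S₀) (hdvd : d ψ ∣ d χ) (hlt : 2 * d ψ * d χ < ∑ ξ ∈ S₀, d ξ ^ 2) : Cfsg.IsCoherent (↑(insert χ S₀) : Set (N → ℂ)) {1}ᶜ τ := by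
  classical
  obtain ⟨⟨a₀, ha₀, ha₀ne⟩, τ₁, hτ₁, hag⟩ := hcoh
  have hirr' : ∀ ξ ∈ (↑(insert χ S₀) : Set (N → ℂ)), Cfsg.IsIrrCharacter N ξ := by
    intro ξ hξ
    rcases Finset.mem_insert.mp hξ with rfl | h
    exacts [hχ, hirr ξ h]
  have hsub : (↑S₀ : Set (N → ℂ)) ⊆ ↑(insert χ S₀) := fun ξ h => Finset.mem_insert_of_mem h
  have hz : ∀ ξ ∈ S₀, ξ ∈ Cfsg.zspan (↑S₀ : Set (N → ℂ)) := fun ξ h =>
    Cfsg.Lib.Coherence.subset_zspan h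
  have hdpos : ∀ ξ ∈ insert χ S₀, (0 : ℤ) < d ξ := fun ξ hξ => by
    have h := Cfsg.Lib.Chars.IsIrrCharacter.apply_one_ne_zero (hirr' ξ hξ)
    rw [hd ξ hξ] at h
    exact_mod_cast Nat.pos_of_ne_zero (by exact_mod_cast h)
  obtain ⟨a, ha⟩ := hdvd
  set f := (a : ℤ) • ψ with hf
  have hfS : f ∈ Cfsg.zspan (↑S₀ : Set (N → ℂ)) := (Submodule.span ℤ _).smul_mem _ (hz ψ hψ)
  have hf1 : (χ - f) 1 = 0 := by
    simp [hf, hd χ (Finset.mem_insert_self _ _), hd ψ (Finset.mem_insert_of_mem hψ), ha, mul_comm]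
  have hmem : χ - f ∈ Cfsg.zspanOn (↑(insert χ S₀) : Set (N → ℂ)) {1}ᶜ :=
    Cfsg.Lib.Coherence.mem_one.mpr ⟨(Submodule.span ℤ _).sub_mem
      (Cfsg.Lib.Coherence.subset_zspan (Finset.mem_insert_self _ _))
      (Cfsg.Lib.Coherence.zspan_mono hsub hfS), hf1⟩
  set β := τ (χ - f) with hβ
  have hβgen := hτ.2.2.2 _ hmem
  choose! x hx using fun ξ (hξ : ξ ∈ S₀) =>
    Cfsg.Lib.Coherence.inner_int hβgen (hτ₁.2.2.2 _ (hz ξ hξ))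
  have hin : ∀ ξ ∈ S₀, Cfsg.classInner (χ - f) ξ = -((a : ℂ) * if ξ = ψ then 1 else 0) := by
    intro ξ hξ
    rw [Cfsg.Lib.Chars.classInner_sub_left, hf, Cfsg.Lib.Chars.classInner_zsmul_left,
      Cfsg.Lib.Chars.classInner_irrChar hχ (hirr ξ hξ),
      Cfsg.Lib.Chars.classInner_irrChar (hirr ψ hψ) (hirr ξ hξ),
      if_neg (fun h : χ = ξ => hχS (h ▸ hξ))]
    by_cases h : ξ = ψ
    · simp [h]
    · simp [h, Ne.symm h]
  set b : ℤ := x ψ + a with hb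
  have hθ : ∀ ξ ∈ S₀,
      (d ψ : ℤ) • ξ - (d ξ : ℤ) • ψ ∈ Cfsg.zspanOn (↑S₀ : Set (N → ℂ)) {1}ᶜ := fun ξ hξ =>
    Cfsg.Lib.Coherence.mem_one.mpr
      ⟨(Submodule.span ℤ _).sub_mem ((Submodule.span ℤ _).smul_mem _ (hz ξ hξ))
        ((Submodule.span ℤ _).smul_mem _ (hz ψ hψ)), by
        simp [hd ξ (Finset.mem_insert_of_mem hξ), hd ψ (Finset.mem_insert_of_mem hψ), mul_comm]⟩
  have hτθ : ∀ ξ ∈ S₀, τ ((d ψ : ℤ) • ξ - (d ξ : ℤ) • ψ) =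
      (d ψ : ℤ) • τ₁ ξ - (d ξ : ℤ) • τ₁ ψ := by
    intro ξ hξ
    rw [← hag _ (hθ ξ hξ), Cfsg.Lib.Coherence.map_sub' (Submodule.span ℤ _) hτ₁
      ((Submodule.span ℤ _).smul_mem _ (hz ξ hξ)) ((Submodule.span ℤ _).smul_mem _ (hz ψ hψ)),
      hτ₁.2.1 _ (hz ξ hξ), hτ₁.2.1 _ (hz ψ hψ)]
  have hrel : ∀ ξ ∈ S₀, (d ψ : ℤ) * (x ξ + if ξ = ψ then (a : ℤ) else 0) = (d ξ : ℤ) * b := by
    intro ξ hξ
    have h := hτ.2.2.1 _ hmem _ (Cfsg.Lib.Coherence.zspanOn_mono hsub (hθ ξ hξ))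
    rw [hτθ ξ hξ, ← hβ, Cfsg.Lib.Chars.classInner_sub_right,
      Cfsg.Lib.Chars.classInner_zsmul_right, Cfsg.Lib.Chars.classInner_zsmul_right, hx ξ hξ,
      hx ψ hψ, Cfsg.Lib.Chars.classInner_sub_right, Cfsg.Lib.Chars.classInner_zsmul_right,
      Cfsg.Lib.Chars.classInner_zsmul_right, hin ξ hξ, hin ψ hψ, if_pos rfl] at h
    rw [hb]
    by_cases hξ' : ξ = ψ
    · rw [hξ']; simp
    · rw [if_neg hξ'] at h ⊢
      push_cast at h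
      apply Int.cast_injective (α := ℂ)
      push_cast
      linear_combination h
  have hgram : ∀ ξ ∈ S₀, ∀ η ∈ S₀,
      Cfsg.classInner (τ₁ ξ) (τ₁ η) = if ξ = η then ((1 : ℝ) : ℂ) else 0 := fun ξ hξ η hη => by
    rw [hτ₁.2.2.1 _ (hz ξ hξ) _ (hz η hη),
      Cfsg.Lib.Chars.classInner_irrChar (hirr ξ hξ) (hirr η hη)]
    simp
  obtain ⟨-, hN⟩ := Cfsg.Lib.Coherence.project S₀ (e := τ₁) (n := fun _ => (1 : ℝ))
    (fun _ _ => one_ne_zero) (fun ξ hξ η hη => by rw [hgram ξ hξ η hη]; congr) (a := β) (x := fun ξ => (x ξ : ℝ))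
    (fun ξ hξ => by rw [hx ξ hξ]; simp)
  simp only [div_one] at hN
  set Δ := β - Cfsg.Lib.Coherence.comb S₀ τ₁ fun ξ => (x ξ : ℝ) with hΔ
  have hΔgen : Cfsg.IsGeneralizedCharacter G Δ := Cfsg.Lib.Chars.IsGeneralizedCharacter.sub hβgen
    (Cfsg.Lib.Coherence.comb_gen _ _ _ fun ξ hξ => hτ₁.2.2.2 _ (hz ξ hξ))
  obtain ⟨k, hk⟩ := Cfsg.Lib.Coherence.inner_int hΔgen hΔgen
  have hk0 : 0 ≤ k := by
    have := Cfsg.Lib.Coherence.inner_self_re_nonneg Δ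
    rw [hk] at this
    simpa using this
  have hβn : Cfsg.classInner β β = ((1 + (a : ℤ) ^ 2 : ℤ) : ℂ) := by
    rw [hβ, hτ.2.2.1 _ hmem _ hmem, Cfsg.Lib.Chars.classInner_sub_right,
      Cfsg.Lib.Chars.classInner_sub_left, Cfsg.Lib.Chars.classInner_self_irr hχ, hf,
      Cfsg.Lib.Chars.classInner_zsmul_right, Cfsg.Lib.Chars.classInner_zsmul_left,
      Cfsg.Lib.Chars.classInner_irrChar (hirr ψ hψ) hχ, if_neg (fun h : ψ = χ => hχS (h ▸ hψ)),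
      ← hf, hin ψ hψ, if_pos rfl]
    push_cast
    ring
  rw [hβn, hk, Complex.intCast_re, Complex.intCast_re] at hN
  have hN' : (1 : ℤ) + (a : ℤ) ^ 2 = ∑ ξ ∈ S₀, x ξ ^ 2 + k := by
    apply Int.cast_injective (α := ℝ)
    push_cast at hN ⊢
    linarith
  have hterm : ∀ ξ ∈ S₀, (d ψ : ℤ) ^ 2 * x ξ ^ 2 = b ^ 2 * (d ξ : ℤ) ^ 2 +
      (if ξ = ψ then -2 * (a : ℤ) * b * (d ψ : ℤ) ^ 2 + (a : ℤ) ^ 2 * (d ψ : ℤ) ^ 2 else 0) ∧
      (d ψ : ℤ) * x ξ * d ξ = b * (d ξ : ℤ) ^ 2 +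
      (if ξ = ψ then -(a : ℤ) * (d ψ : ℤ) ^ 2 else 0) := by
    intro ξ hξ
    have h := hrel ξ hξ
    by_cases hξ' : ξ = ψ
    · subst hξ'
      simp only [if_pos]
      rw [hb]
      constructor <;> ring
    · simp only [if_neg hξ', add_zero] at h ⊢
      constructor
      · linear_combination ((d ψ : ℤ) * x ξ + (d ξ : ℤ) * b) * h
      · linear_combination (d ξ : ℤ) * h
  have hlt' : 2 * (a : ℤ) * (d ψ : ℤ) ^ 2 < ∑ ξ ∈ S₀, (d ξ : ℤ) ^ 2 := by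
    have : ((2 * d ψ * d χ : ℕ) : ℤ) < ((∑ ξ ∈ S₀, d ξ ^ 2 : ℕ) : ℤ) := by exact_mod_cast hlt
    rw [ha] at this
    push_cast at this
    linarith
  have hb0 : b = 0 := by
    by_contra hb0
    have h1 : b ^ 2 * (∑ ξ ∈ S₀, (d ξ : ℤ) ^ 2) + k * (d ψ : ℤ) ^ 2 =
        2 * a * b * (d ψ : ℤ) ^ 2 + (d ψ : ℤ) ^ 2 := by
      have := congrArg (fun z : ℤ => (d ψ : ℤ) ^ 2 * z) hN'
      simp only [mul_add, Finset.mul_sum] at this
      rw [Finset.sum_congr rfl (fun ξ hξ => (hterm ξ hξ).1), Finset.sum_add_distrib,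
        ← Finset.mul_sum, Finset.sum_ite_eq' S₀ ψ, if_pos hψ] at this
      linarith
    have hD : (0 : ℤ) < (d ψ : ℤ) ^ 2 := by
      have := hdpos ψ (Finset.mem_insert_of_mem hψ)
      positivity
    have hS0 : (0 : ℤ) < ∑ ξ ∈ S₀, (d ξ : ℤ) ^ 2 :=
      lt_of_le_of_lt (by positivity) hlt'
    by_cases hk1 : k = 0
    · have hΔ0 : Δ = 0 := by
        rw [← Cfsg.Lib.Chars.classInner_self_eq_zero, hk, hk1, Int.cast_zero]
      have hβ1 : β 1 = 0 := hτ1 _ hmem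
      rw [hΔ, sub_eq_zero] at hΔ0
      rw [hΔ0] at hβ1
      simp only [Cfsg.Lib.Coherence.comb, Finset.sum_apply, Pi.smul_apply, smul_eq_mul] at hβ1
      have hdeg : ∀ ξ ∈ S₀, (d ψ : ℂ) * τ₁ ξ 1 = (d ξ : ℂ) * τ₁ ψ 1 := by
        intro ξ hξ
        have h := hτ1 _ (Cfsg.Lib.Coherence.zspanOn_mono hsub (hθ ξ hξ))
        rw [hτθ ξ hξ] at h
        simpa [sub_eq_zero] using h
      have hψ1 : τ₁ ψ 1 ≠ 0 := by
        rcases Cfsg.Lib.Chars.isIrr_or_neg_of_norm_one (hτ₁.2.2.2 _ (hz ψ hψ))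
          (by rw [hgram ψ hψ ψ hψ, if_pos rfl]; simp) with h | h
        · exact Cfsg.Lib.Chars.IsIrrCharacter.apply_one_ne_zero h
        · simpa using Cfsg.Lib.Chars.IsIrrCharacter.apply_one_ne_zero h
      have hsum : ((∑ ξ ∈ S₀, (d ψ : ℤ) * x ξ * d ξ : ℤ) : ℂ) * τ₁ ψ 1 =
          ((d ψ : ℂ) * d ψ) * ∑ ξ ∈ S₀, (x ξ : ℂ) * τ₁ ξ 1 := by
        push_cast
        rw [Finset.sum_mul, Finset.mul_sum]
        refine Finset.sum_congr rfl fun ξ hξ => ?_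
        have h := hdeg ξ hξ
        linear_combination (-(x ξ : ℂ) * d ψ) * h
      rw [show (∑ ξ ∈ S₀, (x ξ : ℂ) * τ₁ ξ 1) = 0 by simpa using hβ1, mul_zero,
        mul_eq_zero, or_iff_left hψ1, Int.cast_eq_zero,
        Finset.sum_congr rfl (fun ξ hξ => (hterm ξ hξ).2), Finset.sum_add_distrib,
        ← Finset.mul_sum, Finset.sum_ite_eq' S₀ ψ, if_pos hψ] at hsum
      rcases lt_or_gt_of_ne hb0 with hneg | hpos
      · nlinarith [mul_neg_of_neg_of_pos hneg hS0]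
      · nlinarith [mul_le_mul_of_nonneg_right (Int.add_one_le_iff.mpr hpos) hS0.le]
    · have h2 : b ^ 2 * (∑ ξ ∈ S₀, (d ξ : ℤ) ^ 2) ≤ 2 * a * b * (d ψ : ℤ) ^ 2 := by
        nlinarith [mul_le_mul_of_nonneg_right (show (1 : ℤ) ≤ k by omega) hD.le]
      rcases lt_or_gt_of_ne hb0 with hneg | hpos
      · nlinarith [mul_pos (pow_two_pos_of_ne_zero hb0) hS0,
          mul_nonneg (mul_nonneg (Int.natCast_nonneg a) (neg_nonneg.mpr hneg.le)) hD.le]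
      · have h3 : b * (∑ ξ ∈ S₀, (d ξ : ℤ) ^ 2) ≤ 2 * a * (d ψ : ℤ) ^ 2 :=
          le_of_mul_le_mul_left (by linarith) hpos
        nlinarith [mul_le_mul_of_nonneg_right (Int.add_one_le_iff.mpr hpos) hS0.le]
  refine Cfsg.Lib.Coherence.isCoherent_extend hsub
    (fun ξ hξ h => Cfsg.Lib.Chars.IsIrrCharacter.apply_one_ne_zero (hirr' ξ hξ) (by rw [h]; rfl))
    (fun ξ hξ η hη h => by
      rw [Cfsg.Lib.Chars.classInner_irrChar (hirr' ξ hξ) (hirr' η hη), if_neg h])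
    hτ hτ₁ hag ?_ ⟨a₀, Cfsg.Lib.Coherence.zspanOn_mono hsub ha₀, ha₀ne⟩
  intro t ht
  rcases Finset.mem_insert.mp ht with rfl | ht
  · refine ⟨f, hfS, hf1, fun ξ hξ => ?_⟩
    have h := hrel ξ hξ
    rw [hb0, mul_zero] at h
    have h' := (mul_eq_zero.mp h).resolve_left (hdpos ψ (Finset.mem_insert_of_mem hψ)).ne'
    rw [hx ξ hξ, hin ξ hξ, eq_neg_of_add_eq_zero_left h']
    split_ifs <;> simp
  · refine ⟨t, hz t ht, by simp, fun ξ _ => ?_⟩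
    rw [sub_self, Cfsg.Lib.Coherence.map_zero' (Cfsg.Lib.Coherence.spanOn _ _) hτ,
      Cfsg.Lib.Chars.classInner_zero_left, Cfsg.Lib.Chars.classInner_zero_left]

end Cfsg.Agent.S1530
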