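import Cfsg.Statements.S1532
import Cfsg.Agent.OddChar.FrobeniusTICoherence

set_option autoImplicit false
set_option linter.style.haveILetI false
open Cfsg

namespace Cfsg.Agent.S1532

/-- Let G be a finite group, p an odd prime and P a Sylow p-subgroup that is non-abelian, whose underlying set is a TI-subset of G, with P properly contained in its set normaliser N and C_G(x) ≤ P for every non-identity x ∈ P. Let Z be a nontrivial subgroup of the centre of P normalised by N. Then the set of irreducible characters χ of N with χ z ≠ χ 1 for some z ∈ Z is coherent for the map induced by induction from N to G. -/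
theorem result {G : Type*} [Group G] [Fintype G] (p : ℕ) [Fact p.Prime] (hp : p ≠ 2) (P : Sylow p G) (hna : ¬ IsMulCommutative (P : Subgroup G)) (hTI : Cfsg.IsTISubset ((P : Subgroup G) : Set G)) (hlt : (P : Subgroup G) < Subgroup.normalizer ((P : Subgroup G) : Set G)) (hC : ∀ k ∈ (P : Subgroup G), k ≠ 1 → Subgroup.centralizer ({k} : Set G) ≤ (P : Subgroup G)) [Fintype ↥(Subgroup.normalizer ((P : Subgroup G) : Set G))] (Z : Subgroup G) (hZ1 : Z ≠ ⊥) (hZP : ∀ z ∈ Z, z ∈ (P : Subgroup G) ∧ ∀ y ∈ (P : Subgroup G), z * y = y * z) (hZn : ∀ x ∈ Subgroup.normalizer ((P : Subgroup G) : Set G), ∀ z ∈ Z, x * z * x⁻¹ ∈ Z) : Cfsg.IsCoherent {χ : ↥(Subgroup.normalizer ((P : Subgroup G) : Set G)) → ℂ | Cfsg.IsIrrCharacter ↥(Subgroup.normalizer ((P : Subgroup G) : Set G)) χ ∧ ∃ z : ↥(Subgroup.normalizer ((P : Subgroup G) : Set G)), (z : G) ∈ Z ∧ χ z ≠ χ 1} {1}ᶜ (fun α => Cfsg.indFun (Subgroup.normalizer ((P : Subgroup G) : Set G)) α) := by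
  classical
  haveI : ((P : Subgroup G).subgroupOf (Subgroup.normalizer ((P : Subgroup G) : Set G))).Normal :=
    Subgroup.normal_in_normalizer
  have hC0 := Cfsg.Lib.FrobCoherence.centralizer_le_sub (P : Subgroup G)
    (Subgroup.normalizer ((P : Subgroup G) : Set G)) hC
  have hPL : (P : Subgroup G) ≤ Subgroup.normalizer ((P : Subgroup G) : Set G) := Subgroup.le_normalizer
  have hZL : Z ≤ Subgroup.normalizer ((P : Subgroup G) : Set G) := fun z hz => hPL (hZP z hz).1
  haveI : (Z.subgroupOf (Subgroup.normalizer ((P : Subgroup G) : Set G))).Normal :=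
    ⟨fun z hz g => hZn g g.2 z hz⟩
  have hZK : Z.subgroupOf (Subgroup.normalizer ((P : Subgroup G) : Set G)) ≤
      (P : Subgroup G).subgroupOf (Subgroup.normalizer ((P : Subgroup G) : Set G)) :=
    fun z hz => (hZP z hz).1
  have h := Cfsg.Lib.FrobCoherence.coherent_nontrivial_on_central p P hTI hlt hC hp hna
    (Z.subgroupOf (Subgroup.normalizer ((P : Subgroup G) : Set G)))
    (fun hb => hZ1 (by
      have := congrArg (Subgroup.map (Subgroup.normalizer ((P : Subgroup G) : Set G)).subtype) hb
      rwa [Subgroup.map_subgroupOf_eq_of_le hZL, Subgroup.map_bot] at this))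
    hZK (fun z hz k hk => Subtype.ext ((hZP z hz).2 k hk))
  rw [Cfsg.Lib.InducedFamily.diff_eq _ hZK
    (fun χ hχ => Cfsg.Lib.FrobCoherence.irr_above hC0 hχ.1)] at h
  exact h

end Cfsg.Agent.S1532
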