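import Cfsg.Statements.S1533
import Cfsg.Agent.OddChar.FrobeniusTICoherence

set_option autoImplicit false
set_option linter.style.haveILetI false
open Cfsg

namespace Cfsg.Agent.S1533

/-- Let G be a finite group, p an odd prime, and P a nontrivial Sylow p-subgroup whose underlying set is a TI-subset of G, with P properly contained in its set normaliser N and C_G(x) ≤ P for every non-identity x ∈ P. Let S be the set of irreducible characters χ of N with χ x ≠ χ 1 for some x ∈ P. Then either S has exactly one member, P is elementary abelian and Nat.card P = [N:P] + 1; or (S, N minus 1, induction to G) is coherent. -/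
theorem result {G : Type*} [Group G] [Fintype G] (p : ℕ) [Fact p.Prime] (hp : p ≠ 2) (P : Sylow p G) (hP1 : (P : Subgroup G) ≠ ⊥) (hTI : Cfsg.IsTISubset ((P : Subgroup G) : Set G)) (hlt : (P : Subgroup G) < Subgroup.normalizer ((P : Subgroup G) : Set G)) (hC : ∀ k ∈ (P : Subgroup G), k ≠ 1 → Subgroup.centralizer ({k} : Set G) ≤ (P : Subgroup G)) [Fintype ↥(Subgroup.normalizer ((P : Subgroup G) : Set G))] : (Nat.card {χ : ↥(Subgroup.normalizer ((P : Subgroup G) : Set G)) → ℂ // Cfsg.IsIrrCharacter ↥(Subgroup.normalizer ((P : Subgroup G) : Set G)) χ ∧ ∃ x : ↥(Subgroup.normalizer ((P : Subgroup G) : Set G)), (x : G) ∈ (P : Subgroup G) ∧ χ x ≠ χ 1} = 1 ∧ Cfsg.IsElementaryAbelian p (P : Subgroup G) ∧ Nat.card (P : Subgroup G) = ((P : Subgroup G).subgroupOf (Subgroup.normalizer ((P : Subgroup G) : Set G))).index + 1) ∨ Cfsg.IsCoherent {χ : ↥(Subgroup.normalizer ((P : Subgroup G) : Set G)) → ℂ | Cfsg.IsIrrCharacter ↥(Subgroup.normalizer ((P : Subgroup G) : Set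 G)) χ ∧ ∃ x : ↥(Subgroup.normalizer ((P : Subgroup G) : Set G)), (x : G) ∈ (P : Subgroup G) ∧ χ x ≠ χ 1} {1}ᶜ (fun α => Cfsg.indFun (Subgroup.normalizer ((P : Subgroup G) : Set G)) α) := by
  classical
  haveI : ((P : Subgroup G).subgroupOf (Subgroup.normalizer ((P : Subgroup G) : Set G))).Normal :=
    Subgroup.normal_in_normalizer
  have hC0 := Cfsg.Lib.FrobCoherence.centralizer_le_sub (P : Subgroup G)
    (Subgroup.normalizer ((P : Subgroup G) : Set G)) hC
  have hset : {χ : ↥(Subgroup.normalizer ((P : Subgroup G) : Set G)) → ℂ |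
      Cfsg.IsIrrCharacter ↥(Subgroup.normalizer ((P : Subgroup G) : Set G)) χ ∧
        ∃ x : ↥(Subgroup.normalizer ((P : Subgroup G) : Set G)), (x : G) ∈ (P : Subgroup G) ∧ χ x ≠ χ 1} =
      Cfsg.inducedIrrAbove ((P : Subgroup G).subgroupOf (Subgroup.normalizer ((P : Subgroup G) : Set G))) ⊥ :=
    (Cfsg.Lib.FrobCoherence.above_eq hC0).symm
  rw [hset]
  obtain ⟨l, hl⟩ := IsPGroup.iff_card.mp P.2
  have hl0 : l ≠ 0 := fun h => hP1 (Subgroup.card_eq_one.mp (by rw [hl, h, pow_zero]))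
  rcases Cfsg.Lib.FrobCoherence.trichotomy (P : Subgroup G) hP1 hTI hlt hC with h | ⟨h, -⟩ | h
  · obtain ⟨h1, q, hq, hq'⟩ := Cfsg.Lib.FrobCoherence.small_kernel (P : Subgroup G) _ hlt hC hP1 h
    refine Or.inl ⟨?_, ⟨hq'.1, fun a ha => ?_⟩, h⟩
    · rw [← hset] at h1
      exact h1
    · by_cases ha1 : a = 1
      · rw [ha1, one_pow]
      obtain ⟨k, hk⟩ := P.2 ⟨a, ha⟩
      have h2 : orderOf a ∣ p ^ k := orderOf_dvd_of_pow_eq_one (congrArg Subtype.val hk)
      have h3 : orderOf a ∣ q := orderOf_dvd_of_pow_eq_one (hq'.2 a ha)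
      have h4 : orderOf a = q := (hq.eq_one_or_self_of_dvd _ h3).resolve_left
        fun h => ha1 (orderOf_eq_one_iff.mp h)
      rw [h4] at h2
      rw [← (Nat.prime_dvd_prime_iff_eq hq Fact.out).mp (hq.dvd_of_dvd_pow h2)]
      exact hq'.2 a ha
  · exfalso
    have h2 : p ∣ 2 ^ (Nat.card G).factorization 2 := h ▸ hl ▸ dvd_pow_self p hl0
    exact hp ((Nat.prime_dvd_prime_iff_eq Fact.out Nat.prime_two).mp ((Fact.out : p.Prime).dvd_of_dvd_pow h2))
  · exact Or.inr h

end Cfsg.Agent.S1533
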