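import Cfsg.Statements.S1546
import Cfsg.Agent.Chars.Basic

set_option autoImplicit false
open Cfsg

namespace Cfsg.Agent.S1546

/-- Let p and q be odd primes and N = (p ^ q − 1) / (p − 1) = 1 + p + ⋯ + p^(q−1). Then N is odd; if p ≡ 1 (mod q) then q ∣ N; and if p is not ≡ 1 (mod q) then N is coprime to p − 1 and every divisor of N is ≡ 1 (mod q). -/
theorem result (p q : ℕ) (hp : p.Prime) (hq : q.Prime) (hp2 : p ≠ 2) (hq2 : q ≠ 2) : Odd ((p ^ q - 1) / (p - 1)) ∧ (p % q = 1 → q ∣ (p ^ q - 1) / (p - 1)) ∧ (p % q ≠ 1 → Nat.Coprime ((p ^ q - 1) / (p - 1)) (p - 1) ∧ ∀ x : ℕ, x ∣ (p ^ q - 1) / (p - 1) → x % q = 1) := by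
  have hp3 : 2 ≤ p := hp.two_le
  have hq1 : q ≠ 0 := hq.ne_zero
  set N := (p ^ q - 1) / (p - 1) with hN
  have hgeom : N = ∑ i ∈ Finset.range q, p ^ i := by rw [hN, Nat.geomSum_eq hp3]
  have hpodd : Odd p := hp.odd_of_ne_two hp2
  have hqodd : Odd q := hq.odd_of_ne_two hq2
  have hcast : ∀ r : ℕ, (p : ZMod r) = 1 → (N : ZMod r) = q := fun r h => by
    rw [hgeom]; push_cast; simp [h]
  have h2 : (N : ZMod 2) = q := hcast 2 (ZMod.natCast_eq_one_iff_odd.mpr hpodd)
  refine ⟨ZMod.natCast_eq_one_iff_odd.mp (h2.trans (ZMod.natCast_eq_one_iff_odd.mpr hqodd)), fun h => ?_, fun h => ?_⟩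
  · rw [← ZMod.natCast_eq_zero_iff]
    have hp1 : (p : ZMod q) = 1 := by
      rw [← ZMod.natCast_mod, h, Nat.cast_one]
    rw [hcast q hp1, ZMod.natCast_self]
  · have hcop : Nat.Coprime N (p - 1) := by
      refine Nat.coprime_of_dvd fun r hr hrN hrp => ?_
      have hp1 : (p : ZMod r) = 1 := by
        have h0 : ((p - 1 : ℕ) : ZMod r) = 0 := (ZMod.natCast_eq_zero_iff _ _).mpr hrp
        rw [Nat.cast_sub (by omega), Nat.cast_one, sub_eq_zero] at h0
        exact h0
      have hrq : r ∣ q := by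
        rw [← ZMod.natCast_eq_zero_iff, ← hcast r hp1]
        exact (ZMod.natCast_eq_zero_iff _ _).mpr hrN
      rw [Nat.prime_dvd_prime_iff_eq hr hq] at hrq
      subst hrq
      apply h
      have h0 : ((p : ℕ) : ZMod r) = ((1 : ℕ) : ZMod r) := by rw [hp1, Nat.cast_one]
      rw [ZMod.natCast_eq_natCast_iff'] at h0
      rw [h0, Nat.one_mod_eq_one.mpr hq.one_lt.ne']
    refine ⟨hcop, fun x => ?_⟩
    induction x using Nat.recOnMul with
    | zero =>
      intro h0
      have hN0 : N = 0 := Nat.eq_zero_of_zero_dvd h0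
      rw [hgeom, Finset.sum_eq_zero_iff] at hN0
      exact absurd (hN0 0 (Finset.mem_range.mpr (Nat.pos_of_ne_zero hq1))) (by simp)
    | one => intro _; exact Nat.one_mod_eq_one.mpr hq.one_lt.ne'
    | prime r hr =>
      intro hrN
      have : Fact r.Prime := ⟨hr⟩
      have hr1 : (p : ZMod r) ≠ 1 := fun h1 => by
        have h0 : ((p : ℕ) : ZMod r) = ((1 : ℕ) : ZMod r) := by rw [h1, Nat.cast_one]
        rw [ZMod.natCast_eq_natCast_iff] at h0
        have hd : r ∣ p - 1 := (Nat.modEq_iff_dvd' (by omega)).mp h0.symm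
        have := hcop.coprime_dvd_left hrN |>.coprime_dvd_right hd
        rw [Nat.coprime_self] at this
        exact hr.one_lt.ne' this
      have hpq : (p : ZMod r) ^ q = 1 := by
        have hg := geom_sum_mul (p : ZMod r) q
        have hz : (∑ i ∈ Finset.range q, (p : ZMod r) ^ i) = 0 := by
          have := (ZMod.natCast_eq_zero_iff N r).mpr hrN
          rw [hgeom] at this
          exact_mod_cast this
        rw [hz, zero_mul] at hg
        exact sub_eq_zero.mp hg.symm
      have hord : orderOf (p : ZMod r) = q := by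
        have : Fact q.Prime := ⟨hq⟩
        exact orderOf_eq_prime hpq hr1
      have hp0 : (p : ZMod r) ≠ 0 := fun h0 => by rw [h0, zero_pow hq1] at hpq; exact zero_ne_one hpq
      have hd : q ∣ r - 1 := hord ▸ ZMod.orderOf_dvd_card_sub_one hp0
      have h1r : 1 ≡ r [MOD q] := (Nat.modEq_iff_dvd' hr.one_lt.le).mpr hd
      have h3 : r % q = 1 % q := h1r.symm
      rw [h3]; exact Nat.one_mod_eq_one.mpr hq.one_lt.ne'
    | mul a b iha ihb =>
      intro hab
      rw [Nat.mul_mod, iha (dvd_of_mul_right_dvd hab), ihb (dvd_of_mul_left_dvd hab), one_mul]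
      exact Nat.one_mod_eq_one.mpr hq.one_lt.ne'

end Cfsg.Agent.S1546
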