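import Cfsg.Agent.Golay.SubCheckSextSext
import Cfsg.Agent.Golay.StdObjects
import Mathlib
import Cfsg.Statements.S1552
-- import your own Cfsg.Agent.* helpers here

set_option autoImplicit false
open scoped Pointwise
open Cfsg

namespace Cfsg.Agent.S1552

open Cfsg.Lib.Golay

/-- A sextet stabiliser has four orbits on the 1771 sextets, of sizes 1, 90, 240, 1440; and the stabiliser is a maximal proper subgroup. -/
theorem result (S : Finset (Finset Cfsg.GolayPt)) (hS : S ∈ Cfsg.sextets) : ∃ X₁ ∈ Cfsg.sextets, ∃ X₂ ∈ Cfsg.sextets, ∃ X₃ ∈ Cfsg.sextets, (MulAction.orbit ↥(MulAction.stabilizer Cfsg.M24 S) X₁).ncard = 90 ∧ (MulAction.orbit ↥(MulAction.stabilizer Cfsg.M24 S) X₂).ncard = 240 ∧ (MulAction.orbit ↥(MulAction.stabilizer Cfsg.M24 S) X₃).ncard = 1440 ∧ Cfsg.sextets = {S} ∪ MulAction.orbit ↥(MulAction.stabilizer Cfsg.M24 S) X₁ ∪ MulAction.orbit ↥(MulAction.stabilizer Cfsg.M24 S) X₂ ∪ MulAction.orbit ↥(MulAction.stabilizer Cfsg.M24 S) X₃ ∧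 IsCoatom (MulAction.stabilizer Cfsg.M24 S) := by
  obtain ⟨ys, hys, hmem, hcov⟩ := stdSext.suborbit_reps stdSext subsSextSext_ok subsSextSext_sizes (x := S) (sextets_eq_orbit ▸ hS)
  simp only [← sextets_eq_orbit] at hmem hcov
  rcases ys with _ | ⟨a, _ | ⟨b, _ | ⟨c, _ | ⟨d, _ | _⟩⟩⟩⟩ <;> simp at hys
  obtain ⟨ha, hb, hc, hd⟩ := hys
  have hs : MulAction.orbit ↥(MulAction.stabilizer Cfsg.M24 S) a = {S} := rep_eq_self ((hcov S).mp hS) fun y hy he => by
    simp only [List.mem_cons, List.not_mem_nil, or_false] at hy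
    rcases hy with rfl | rfl | rfl | rfl <;> first | rfl | omega
  exact ⟨d, hmem d (by simp), b, hmem b (by simp), c, hmem c (by simp), hd, hb, hc, (Set.ext fun z => by rw [hcov z, ← hs]; simp only [List.mem_cons, List.not_mem_nil, or_false, exists_eq_or_imp, exists_eq_left, Set.mem_union]; tauto), stdSext.isCoatom subsSextSext_ok subsSextSext_sizes (sextets_eq_orbit ▸ hS) orbLengths.2.2.1 (by decide) (by decide) (by decide +kernel)⟩

end Cfsg.Agent.S1552
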