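import Cfsg.Statements.S1558
import Cfsg.Agent.Golay.TrioGroup

set_option autoImplicit false
open scoped Pointwise
open Cfsg

namespace Cfsg.Agent.S1558

open Cfsg.Lib.Golay Cfsg.Lib.PermCert MulAction
open scoped Pointwise


/-- Structure of a trio stabiliser: every permutation of the three octads is induced, and there is a normal subgroup of order 64 of elements squaring to the identity whose quotient is isomorphic to the product of GL(3, 2) with the symmetric group of degree 3. -/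
theorem result (T : Finset (Finset Cfsg.GolayPt)) (hT : T ∈ Cfsg.trios) : (∀ e : Equiv.Perm ↥T, ∃ g ∈ MulAction.stabilizer Cfsg.M24 T, ∀ o : ↥T, (g : Equiv.Perm Cfsg.GolayPt) • (o : Finset Cfsg.GolayPt) = ((e o : ↥T) : Finset Cfsg.GolayPt)) ∧ ∃ (N : Subgroup ↥(MulAction.stabilizer Cfsg.M24 T)) (_ : N.Normal), Nat.card N = 64 ∧ (∀ x ∈ N, x * x = 1) ∧ Nonempty (↥(MulAction.stabilizer Cfsg.M24 T) ⧸ N ≃* GL (Fin 3) (ZMod 2) × Equiv.Perm (Fin 3)) := by
  obtain ⟨⟨c, hc⟩, hcT⟩ : T ∈ MulAction.orbit Cfsg.M24 (famOf codeTrio) := by rwa [← trios_eq_orbit]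
  have hcT : c • famOf codeTrio = T := hcT
  subst hcT
  set ψ₀ : ↥(MulAction.stabilizer Cfsg.M24 (c • famOf codeTrio)) →* Equiv.Perm Cfsg.GolayPt :=
    (MulAut.conj c⁻¹).toMonoidHom.comp (Cfsg.M24.subtype.comp (MulAction.stabilizer Cfsg.M24 (c • famOf codeTrio)).subtype)
    with hψ₀
  have hψi : Function.Injective ψ₀ :=
    (MulAut.conj _).injective.comp (Cfsg.M24.subtype_injective.comp (Subgroup.subtype_injective _))
  have happ : ∀ g, ψ₀ g = c⁻¹ * ((g : Cfsg.M24) : Equiv.Perm Cfsg.GolayPt) * c⁻¹⁻¹ := fun g => rfl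
  have hψm : ∀ g, ψ₀ g ∈ cgTrio.grp := by
    intro g
    rw [← stdTrio.stab_eq, Subgroup.mem_inf, happ, inv_inv]
    refine ⟨mul_mem (mul_mem (inv_mem hc) g.1.2) hc, MulAction.mem_stabilizer_iff.mpr ?_⟩
    rw [mul_smul, mul_smul, show ((g : Cfsg.M24) : Equiv.Perm Cfsg.GolayPt) • c • famOf codeTrio = c • famOf codeTrio from g.2,
      inv_smul_smul]
  set ψ := ψ₀.codRestrict cgTrio.grp hψm with hψ
  have hψb : Function.Bijective ψ := by
    refine ⟨fun a b h => hψi (congrArg Subtype.val h), fun ⟨x, hx⟩ => ?_⟩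
    rw [← stdTrio.stab_eq, Subgroup.mem_inf, MulAction.mem_stabilizer_iff] at hx
    have hm : c * x * c⁻¹ ∈ Cfsg.M24 := mul_mem (mul_mem hc hx.1) (inv_mem hc)
    refine ⟨⟨⟨_, hm⟩, MulAction.mem_stabilizer_iff.mpr (show (c * x * c⁻¹) • c • famOf codeTrio = c • famOf codeTrio by
      rw [mul_smul, mul_smul, inv_smul_smul, hx.2])⟩, Subtype.ext ?_⟩
    show c⁻¹ * (c * x * c⁻¹) * c⁻¹⁻¹ = x
    group
  let π₁ := ((MonoidHom.fst _ _).comp trioPairs.subtype).codRestrict cgTrio.grp fun q => q.2.1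
  let E := (MulEquiv.ofBijective ψ hψb).trans (MulEquiv.ofBijective π₁ trio_proj_bijective).symm
  let Φ : ↥(MulAction.stabilizer Cfsg.M24 (c • famOf codeTrio)) →* TrioImg :=
    ((MonoidHom.snd _ _).comp trioPairs.subtype).comp E.toMonoidHom
  have hΦs : Function.Surjective Φ := fun q => by
    obtain ⟨x, hx⟩ := trio_snd_surj q
    exact ⟨E.symm ⟨_, hx⟩, by simp [Φ]⟩
  have hE : ∀ g, ((E g : trioPairs) : Equiv.Perm Cfsg.GolayPt × TrioImg).1 = ψ₀ g := fun g =>
    congrArg Subtype.val ((MulEquiv.ofBijective π₁ trio_proj_bijective).apply_symm_apply (ψ g))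
  refine ⟨fun e => ?_, Φ.ker, inferInstance, ?_, ?_, ?_⟩
  · have hmem : ∀ k, c • trioOct k ∈ c • famOf codeTrio := fun k => by
      refine Finset.smul_mem_smul_finset ?_
      rw [famOf, trioData_ok.2.2.2.2, List.mem_toFinset, List.mem_map]
      exact ⟨_, by rw [List.getD_eq_getElem _ _ (show k.val < trioOcts.length from k.2)]; exact List.getElem_mem _, rfl⟩
    let κ : Fin 3 → ↥(c • famOf codeTrio) := fun k => ⟨_, hmem k⟩
    have hκ : Function.Bijective κ := by
      refine (Fintype.bijective_iff_injective_and_card κ).mpr ⟨fun a b h => trioOct_inj (by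
        simpa [κ] using h), ?_⟩
      rw [Fintype.card_coe, hT.1, Fintype.card_fin]
    let κe := Equiv.ofBijective κ hκ
    obtain ⟨g, hg⟩ := hΦs (1, (κe.trans e).trans κe.symm)
    refine ⟨(g : Cfsg.M24), g.2, fun o => ?_⟩
    obtain ⟨k, rfl⟩ := κe.surjective o
    have hr := (E g).2.2.2 k
    rw [hE, happ, inv_inv, mul_smul, mul_smul] at hr
    have hg2 : ((E g : trioPairs) : Equiv.Perm Cfsg.GolayPt × TrioImg).2.2 = (κe.trans e).trans κe.symm := congrArg Prod.snd hg
    rw [hg2, inv_smul_eq_iff] at hr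
    rw [← κe.apply_symm_apply (e (κe k))]
    exact hr
  · have h := Subgroup.card_mul_index Φ.ker
    rw [Subgroup.index_ker, MonoidHom.range_eq_top.mpr hΦs, Subgroup.card_top, card_trioImg,
      Nat.card_eq_of_bijective ψ hψb, card_trio_grp] at h
    omega
  · intro x hx
    apply E.injective
    rw [map_mul, map_one]
    exact trio_ker_sq _ hx
  · exact ⟨QuotientGroup.quotientKerEquivOfSurjective Φ hΦs⟩

end Cfsg.Agent.S1558
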