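import Cfsg.Agent.Golay.SubCheckTrioTrio
import Cfsg.Agent.Golay.StdObjects
import Mathlib
import Cfsg.Statements.S1559
-- import your own Cfsg.Agent.* helpers here

set_option autoImplicit false
open scoped Pointwise
open Cfsg

namespace Cfsg.Agent.S1559

open Cfsg.Lib.Golay

/-- A trio stabiliser has five orbits on the 3795 trios, of sizes 1, 42, 56, 1008, 2688; and the stabiliser is a maximal proper subgroup. -/
theorem result (T : Finset (Finset Cfsg.GolayPt)) (hT : T ∈ Cfsg.trios) : ∃ X₁ ∈ Cfsg.trios, ∃ X₂ ∈ Cfsg.trios, ∃ X₃ ∈ Cfsg.trios, ∃ X₄ ∈ Cfsg.trios, (MulAction.orbit ↥(MulAction.stabilizer Cfsg.M24 T) X₁).ncard = 42 ∧ (MulAction.orbit ↥(MulAction.stabilizer Cfsg.M24 T) X₂).ncard = 56 ∧ (MulAction.orbit ↥(MulAction.stabilizer Cfsg.M24 T) X₃).ncard = 1008 ∧ (MulAction.orbit ↥(MulAction.stabilizer Cfsg.M24 T) X₄).ncard = 2688 ∧ Cfsg.trios = {T} ∪ MulAction.orbit ↥(MulAction.stabilizer Cfsg.M24 T) X₁ ∪ MulAction.orbit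 ↥(MulAction.stabilizer Cfsg.M24 T) X₂ ∪ MulAction.orbit ↥(MulAction.stabilizer Cfsg.M24 T) X₃ ∪ MulAction.orbit ↥(MulAction.stabilizer Cfsg.M24 T) X₄ ∧ IsCoatom (MulAction.stabilizer Cfsg.M24 T) := by
  obtain ⟨ys, hys, hmem, hcov⟩ := stdTrio.suborbit_reps stdTrio subsTrioTrio_ok subsTrioTrio_sizes (x := T) (trios_eq_orbit ▸ hT)
  simp only [← trios_eq_orbit] at hmem hcov
  rcases ys with _ | ⟨a, _ | ⟨b, _ | ⟨c, _ | ⟨d, _ | ⟨e, _ | _⟩⟩⟩⟩⟩ <;> simp at hys
  obtain ⟨ha, hb, hc, hd, he⟩ := hys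
  have hs : MulAction.orbit ↥(MulAction.stabilizer Cfsg.M24 T) a = {T} := rep_eq_self ((hcov T).mp hT) fun y hy he => by
    simp only [List.mem_cons, List.not_mem_nil, or_false] at hy
    rcases hy with rfl | rfl | rfl | rfl | rfl <;> first | rfl | omega
  exact ⟨d, hmem d (by simp), e, hmem e (by simp), b, hmem b (by simp), c, hmem c (by simp), hd, he, hb, hc, (Set.ext fun z => by rw [hcov z, ← hs]; simp only [List.mem_cons, List.not_mem_nil, or_false, exists_eq_or_imp, exists_eq_left, Set.mem_union]; tauto), stdTrio.isCoatom subsTrioTrio_ok subsTrioTrio_sizes (trios_eq_orbit ▸ hT) orbLengths.2.1 (by decide) (by decide) (by decide +kernel)⟩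

end Cfsg.Agent.S1559
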