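import Cfsg.Agent.Golay.SubCheckDuoDuo
import Cfsg.Agent.Golay.StdObjects
import Mathlib
import Cfsg.Statements.S1563
-- import your own Cfsg.Agent.* helpers here

set_option autoImplicit false
open scoped Pointwise
open Cfsg

namespace Cfsg.Agent.S1563

open Cfsg.Lib.Golay

/-- The stabiliser of a pair of points (setwise) is a maximal proper subgroup of the group of the length-24 code. -/
theorem result (s : Finset Cfsg.GolayPt) (hs : s.card = 2) : IsCoatom (MulAction.stabilizer Cfsg.M24 s) := by
  exact stdDuo.isCoatom subsDuoDuo_ok subsDuoDuo_sizes (x := s) (pairs_eq_orbit ▸ (hs : s ∈ {s : Finset Cfsg.GolayPt | s.card = 2})) (n := 276) orbLengths.2.2.2.2.1 (by decide) (by decide) (by decide +kernel)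

end Cfsg.Agent.S1563
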