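import Cfsg.Agent.Golay.SubCheckTriTri
import Cfsg.Agent.Golay.StdObjects
import Mathlib
import Cfsg.Statements.S1564
-- import your own Cfsg.Agent.* helpers here

set_option autoImplicit false
open scoped Pointwise
open Cfsg

namespace Cfsg.Agent.S1564

open Cfsg.Lib.Golay

/-- The stabiliser of a set of three points (setwise) is a maximal proper subgroup of the group of the length-24 code. -/
theorem result (s : Finset Cfsg.GolayPt) (hs : s.card = 3) : IsCoatom (MulAction.stabilizer Cfsg.M24 s) := by
  exact stdTri.isCoatom subsTriTri_ok subsTriTri_sizes (x := s) (triples_eq_orbit ▸ (hs : s ∈ {s : Finset Cfsg.GolayPt | s.card = 3})) (n := 2024) orbLengths.2.2.2.2.2 (by decide) (by decide) (by decide +kernel)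

end Cfsg.Agent.S1564
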