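import Cfsg.Statements.S1589
import Cfsg.Agent.Classical.MLowIndex.M24Sextet

set_option autoImplicit false
open scoped Pointwise
open Cfsg

namespace Cfsg.Agent.S1589

/-- Subgroups of the group of the length-24 code of index 759, 276 and 1771 are exactly the octad, duad and sextet stabilisers, and no subgroup has index 253. -/
theorem result : (∀ H : Subgroup ↥Cfsg.M24, H.index = 759 → ∃ o ∈ Cfsg.octads, H = MulAction.stabilizer Cfsg.M24 o) ∧ (∀ H : Subgroup ↥Cfsg.M24, H.index = 276 → ∃ s : Finset Cfsg.GolayPt, s.card = 2 ∧ H = MulAction.stabilizer Cfsg.M24 s) ∧ (∀ H : Subgroup ↥Cfsg.M24, H.index = 1771 → ∃ S ∈ Cfsg.sextets, H = MulAction.stabilizer Cfsg.M24 S) ∧ ∀ H : Subgroup ↥Cfsg.M24, H.index ≠ 253 := by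
  classical
  have key : ∀ H : Subgroup ↥Cfsg.M24, Nat.card ↥(H.map Cfsg.M24.subtype) * H.index = 244823040 := fun H => by
    rw [Subgroup.card_map_of_injective Cfsg.M24.subtype_injective, Subgroup.card_mul_index]
    exact Cfsg.Lib.Golay.card_M24
  have hle : ∀ H : Subgroup ↥Cfsg.M24, H.map Cfsg.M24.subtype ≤ Cfsg.M24 := fun H => Subgroup.map_subtype_le H
  refine ⟨fun H hi => ?_, fun H hi => ?_, fun H hi => ?_, fun H hi => ?_⟩ <;>
    have h := key H <;> rw [hi] at h
  · obtain ⟨o, ho, e⟩ := Cfsg.Lib.Classical.MLowIndex.sub_759 (hle H) (by omega)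
    exact ⟨o, ho, Subgroup.map_injective Cfsg.M24.subtype_injective
      (e.trans (Cfsg.Lib.Golay.map_stabilizer Cfsg.M24 o).symm)⟩
  · obtain ⟨s, hs, e⟩ := Cfsg.Lib.Classical.MLowIndex.sub_276 (hle H) (by omega)
    exact ⟨s, hs, Subgroup.map_injective Cfsg.M24.subtype_injective
      (e.trans (Cfsg.Lib.Golay.map_stabilizer Cfsg.M24 s).symm)⟩
  · obtain ⟨S, hS, e⟩ := Cfsg.Lib.Classical.MLowIndex.sub_1771 (hle H) (by omega)
    exact ⟨S, hS, Subgroup.map_injective Cfsg.M24.subtype_injective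
      (e.trans (Cfsg.Lib.Golay.map_stabilizer Cfsg.M24 S).symm)⟩
  · exact Cfsg.Lib.Classical.MLowIndex.sub_253 (hle H) (by omega)

end Cfsg.Agent.S1589
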