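import Cfsg.Statements.S1601
import Cfsg.Agent.Golay.SmallIsoStd

set_option autoImplicit false
open scoped Pointwise
open Cfsg

namespace Cfsg.Agent.S1601

open Cfsg.Lib.Golay Cfsg.Lib.PermCert MulAction
open scoped Pointwise


/-- In the 3-transitive action of the smallest Mathieu group on the complementary dodecad, a point stabiliser is isomorphic to PSL(2, 11). -/
theorem result (d : Finset Cfsg.GolayPt) (hd : d ∈ Cfsg.dodecads) (p q : Cfsg.GolayPt) (hp : p ∈ d) (hq : q ∉ d) : Nonempty (↥(MulAction.stabilizer Cfsg.M24 d ⊓ MulAction.stabilizer Cfsg.M24 p ⊓ MulAction.stabilizer Cfsg.M24 q) ≃* Matrix.ProjectiveSpecialLinearGroup (Fin 2) (ZMod 11)) := by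
  obtain ⟨b, hb, hqb⟩ : ∃ b, b ∉ d ∧ q ≠ b := by
    by_contra hcon
    push Not at hcon
    have h : dᶜ ⊆ ({q} : Finset Cfsg.GolayPt) := fun r hr => Finset.mem_singleton.mpr (hcon r (Finset.mem_compl.mp hr)).symm
    have h1 := Finset.card_le_card h
    rw [Finset.card_compl, hd.2, Fintype.card_option, ZMod.card, Finset.card_singleton] at h1
    omega
  obtain ⟨g, hgd, hgp, hgq, -⟩ := exists_small_config hd hp hq hb hqb
  obtain ⟨e⟩ := lEleven_iso
  have hmap : (stabilizer Cfsg.M24 (pts 340831) ⊓ stabilizer Cfsg.M24 (ptAt 0) ⊓ stabilizer Cfsg.M24 (ptAt posOut)).map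
      Cfsg.M24.subtype = cgLEleven.grp := by
    rw [← cgLEleven_grp]
    ext x
    constructor
    · rintro ⟨k, hk, rfl⟩
      exact ⟨stdEleven_mem.mpr hk.1, hk.2⟩
    · rintro ⟨h1, h2⟩
      exact ⟨⟨x, h1.1.1⟩, ⟨stdEleven_mem.mp h1, h2⟩, rfl⟩
  exact ⟨((conjEquiv g fun k => by
    simp only [Subgroup.mem_inf, conj_mem_stabilizer hgd, conj_mem_stabilizer hgp, conj_mem_stabilizer hgq]).trans
      (subEquiv hmap)).trans e⟩

end Cfsg.Agent.S1601
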