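import Cfsg.Statements.S1602
import Cfsg.Agent.Golay.SmallIsoStd

set_option autoImplicit false
open scoped Pointwise
open Cfsg

namespace Cfsg.Agent.S1602

open Cfsg.Lib.Golay Cfsg.Lib.PermCert MulAction
open scoped Pointwise


/-- In the 12-point action of the smallest Mathieu group the setwise stabiliser of a pair is isomorphic to the symmetric group of degree 5. -/
theorem result (d : Finset Cfsg.GolayPt) (hd : d ∈ Cfsg.dodecads) (p q q' : Cfsg.GolayPt) (hp : p ∈ d) (hq : q ∉ d) (hq' : q' ∉ d) (hqq' : q ≠ q') : Nonempty (↥(MulAction.stabilizer Cfsg.M24 d ⊓ MulAction.stabilizer Cfsg.M24 p ⊓ MulAction.stabilizer Cfsg.M24 ({q, q'} : Finset Cfsg.GolayPt)) ≃* Equiv.Perm (Fin 5)) := by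
  obtain ⟨g, hgd, hgp, -, hgq⟩ := exists_small_config hd hp hq hq' hqq'
  obtain ⟨e⟩ := symFive_iso
  have hmap : (stabilizer Cfsg.M24 (pts 340831) ⊓ stabilizer Cfsg.M24 (ptAt 0) ⊓ stabilizer Cfsg.M24 (pts pairOut)).map
      Cfsg.M24.subtype = cgSymFive.grp := by
    rw [← cgSymFive_grp]
    ext x
    constructor
    · rintro ⟨k, hk, rfl⟩
      exact ⟨stdEleven_mem.mpr hk.1, hk.2⟩
    · rintro ⟨h1, h2⟩
      exact ⟨⟨x, h1.1.1⟩, ⟨stdEleven_mem.mp h1, h2⟩, rfl⟩
  exact ⟨((conjEquiv g fun k => by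
    simp only [Subgroup.mem_inf, conj_mem_stabilizer hgd, conj_mem_stabilizer hgp, conj_mem_stabilizer hgq]).trans
      (subEquiv hmap)).trans e⟩

end Cfsg.Agent.S1602
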