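import Cfsg.Statements.S1603
import Cfsg.Agent.Golay.SmallIsoStd
import Cfsg.Agent.Golay.ElementFix

set_option autoImplicit false
open scoped Pointwise
open Cfsg

namespace Cfsg.Agent.S1603

open Cfsg.Lib.Golay Cfsg.Lib.PermCert MulAction
open scoped Pointwise


/-- Involution centralisers in the smallest Mathieu group are isomorphic to GL(2, 3). -/
theorem result (d : Finset Cfsg.GolayPt) (hd : d ∈ Cfsg.dodecads) (p : Cfsg.GolayPt) (hp : p ∈ d) (x : ↥(MulAction.stabilizer Cfsg.M24 d ⊓ MulAction.stabilizer Cfsg.M24 p)) (hx : orderOf x = 2) : Nonempty (↥(Subgroup.centralizer ({x} : Set ↥(MulAction.stabilizer Cfsg.M24 d ⊓ MulAction.stabilizer Cfsg.M24 p))) ≃* GL (Fin 2) (ZMod 3)) := by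
  obtain ⟨g, hgd, hgp⟩ := exists_dodecad_config hd hp
  obtain ⟨e⟩ := glThree_iso
  have hconj : ∀ k : Cfsg.M24, k ∈ (stabilizer Cfsg.M24 d ⊓ stabilizer Cfsg.M24 p) ↔ g * k * g⁻¹ ∈ stabilizer Cfsg.M24 (pts 340831) ⊓ stabilizer Cfsg.M24 (ptAt 0) := by
    intro k
    simp only [Subgroup.mem_inf, conj_mem_stabilizer hgd, conj_mem_stabilizer hgp]
  set t : Equiv.Perm Cfsg.GolayPt := ((g * (x : Cfsg.M24) * g⁻¹ : Cfsg.M24) : Equiv.Perm Cfsg.GolayPt) with ht
  have htM : t ∈ Cfsg.Spor.M11 := stdEleven_eq_M11 ▸ stdEleven_mem.mpr ((hconj x).mp x.2)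
  have ho : orderOf t = 2 := by
    rw [ht, Subgroup.orderOf_coe, ← MulAut.conj_apply, MulEquiv.orderOf_eq, Subgroup.orderOf_coe, hx]
  obtain ⟨h, hh, hht⟩ := m11_involution_conj htM ho
  set φ : ↥(stabilizer Cfsg.M24 d ⊓ stabilizer Cfsg.M24 p) →* Equiv.Perm Cfsg.GolayPt :=
    (MulAut.conj h⁻¹).toMonoidHom.comp (Cfsg.M24.subtype.comp ((MulAut.conj g).toMonoidHom.comp (stabilizer Cfsg.M24 d ⊓ stabilizer Cfsg.M24 p).subtype)) with hφ
  have hφi : Function.Injective φ := (MulAut.conj h⁻¹).injective.comp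
    (Cfsg.M24.subtype_injective.comp ((MulAut.conj g).injective.comp (Subgroup.subtype_injective _)))
  have happ : ∀ k : ↥(stabilizer Cfsg.M24 d ⊓ stabilizer Cfsg.M24 p), φ k = h⁻¹ * ((g * (k : Cfsg.M24) * g⁻¹ : Cfsg.M24) : Equiv.Perm Cfsg.GolayPt) * h⁻¹⁻¹ := fun k => rfl
  have hφx : φ x = toP elM11Inv.1 := by
    rw [happ, ← ht, ← hht]; group
  rw [← stdEleven_eq_M11] at hh
  have hmap : (Subgroup.centralizer ({x} : Set ↥(stabilizer Cfsg.M24 d ⊓ stabilizer Cfsg.M24 p))).map φ = cgGLThree.grp := by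
    rw [← cgGLThree_grp]
    ext c
    constructor
    · rintro ⟨k, hk, rfl⟩
      refine ⟨?_, MulAction.mem_stabilizer_iff.mpr ((commute_iff_fix _ _).mp ?_)⟩
      · rw [happ, inv_inv]
        exact stdEleven.mul_mem (stdEleven.mul_mem (stdEleven.inv_mem hh) (stdEleven_mem.mpr ((hconj k).mp k.2))) hh
      · rw [← hφx, ← map_mul, ← map_mul, Subgroup.mem_centralizer_singleton_iff.mp hk]
    · rintro ⟨h1, h2⟩
      have hm : h * c * h⁻¹ ∈ stdEleven := stdEleven.mul_mem (stdEleven.mul_mem hh h1) (stdEleven.inv_mem hh)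
      let w : Cfsg.M24 := ⟨_, hm.1.1⟩
      have hw : g⁻¹ * w * g ∈ (stabilizer Cfsg.M24 d ⊓ stabilizer Cfsg.M24 p) := (hconj _).mpr (by
        rw [show g * (g⁻¹ * w * g) * g⁻¹ = w by group]; exact stdEleven_mem.mp hm)
      have e1 : φ ⟨_, hw⟩ = c := by
        rw [happ, show g * (g⁻¹ * w * g) * g⁻¹ = w by group]
        show h⁻¹ * (h * c * h⁻¹) * h⁻¹⁻¹ = c
        group
      refine ⟨⟨_, hw⟩, Subgroup.mem_centralizer_singleton_iff.mpr (hφi ?_), e1⟩
      rw [map_mul, map_mul, e1, hφx]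
      exact (commute_iff_fix _ _).mpr (MulAction.mem_stabilizer_iff.mp h2)
  exact ⟨((Subgroup.equivMapOfInjective _ φ hφi).trans (MulEquiv.subgroupCongr hmap)).trans e⟩

end Cfsg.Agent.S1603
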