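import Cfsg.Statements.S1609
import Cfsg.Agent.Classical.MLowIndex.M23Index

set_option autoImplicit false
open scoped Pointwise
open Cfsg MulAction
open scoped Pointwise

namespace Cfsg.Agent.S1609

/-- Subgroups of index 253 in the Mathieu group of degree 23 are exactly the duad stabilisers and the heptad stabilisers. -/
theorem result (x : Cfsg.GolayPt) (H : Subgroup ↥(MulAction.stabilizer Cfsg.M24 x)) (hH : H.index = 253) : (∃ s : Finset Cfsg.GolayPt, s.card = 2 ∧ x ∉ s ∧ H = (MulAction.stabilizer Cfsg.M24 s).subgroupOf (MulAction.stabilizer Cfsg.M24 x)) ∨ ∃ o ∈ Cfsg.octads, x ∈ o ∧ H = (MulAction.stabilizer Cfsg.M24 o).subgroupOf (MulAction.stabilizer Cfsg.M24 x) := by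
  obtain ⟨g, hg⟩ := Cfsg.Lib.Golay.exists_smul_eq_point x
  let f : ↥(MulAction.stabilizer Cfsg.M24 x) →* Equiv.Perm Cfsg.GolayPt :=
    ((MulAut.conj (g : Equiv.Perm Cfsg.GolayPt)).toMonoidHom.comp Cfsg.M24.subtype).comp
      (MulAction.stabilizer Cfsg.M24 x).subtype
  have hf : Function.Injective f :=
    ((MulAut.conj (g : Equiv.Perm Cfsg.GolayPt)).injective.comp Cfsg.M24.subtype_injective).comp
      (Subgroup.subtype_injective _)
  change (g : Equiv.Perm Cfsg.GolayPt) x = none at hg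
  have hK : H.map f ≤ Cfsg.Spor.M23 := by
    rintro _ ⟨a, -, rfl⟩
    refine ⟨Cfsg.M24.mul_mem (Cfsg.M24.mul_mem g.2 a.1.2) (Cfsg.M24.inv_mem g.2), ?_⟩
    have ha : ((a : ↥Cfsg.M24) : Equiv.Perm Cfsg.GolayPt) x = x := MulAction.mem_stabilizer_iff.mp a.2
    show f a none = none
    simp [f, ← hg, ha]
  have hc : Nat.card ↥(H.map f) = 40320 := by
    have h1 := H.card_mul_index
    obtain ⟨e⟩ := Cfsg.Lib.Golay.pointStabEquiv x
    rw [hH, Nat.card_congr e.toEquiv, Cfsg.Lib.Golay.card_M23] at h1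
    rw [Subgroup.card_map_of_injective hf]
    omega
  have key : ∀ A : Finset Cfsg.GolayPt,
      H.map f = Cfsg.Spor.M23 ⊓ MulAction.stabilizer (Equiv.Perm Cfsg.GolayPt) A →
      H = (MulAction.stabilizer Cfsg.M24 ((g⁻¹ : ↥Cfsg.M24) • A)).subgroupOf (MulAction.stabilizer Cfsg.M24 x) := by
    intro A hA
    ext a
    rw [Subgroup.mem_subgroupOf, MulAction.mem_stabilizer_iff]
    have h1 : a ∈ H ↔ f a ∈ H.map f := (Subgroup.mem_map_iff_mem hf).symm
    rw [h1, hA, Subgroup.mem_inf, MulAction.mem_stabilizer_iff]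
    have h2 : f a ∈ Cfsg.Spor.M23 := by
      refine ⟨Cfsg.M24.mul_mem (Cfsg.M24.mul_mem g.2 a.1.2) (Cfsg.M24.inv_mem g.2), ?_⟩
      have ha : ((a : ↥Cfsg.M24) : Equiv.Perm Cfsg.GolayPt) x = x := MulAction.mem_stabilizer_iff.mp a.2
      show f a none = none
      simp [f, ← hg, ha]
    rw [and_iff_right h2, show f a = (g : Equiv.Perm Cfsg.GolayPt) * (a.1 : ↥Cfsg.M24) * (g : Equiv.Perm Cfsg.GolayPt)⁻¹ from rfl,
      mul_smul, mul_smul, Subgroup.smul_def, Subgroup.smul_def, InvMemClass.coe_inv]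
    exact ⟨fun h => by rw [eq_inv_smul_iff]; exact h, fun h => by rw [eq_inv_smul_iff] at h; exact h⟩
  have hnone : ∀ {A : Finset Cfsg.GolayPt}, x ∈ (g⁻¹ : ↥Cfsg.M24) • A ↔ none ∈ A := by
    intro A
    rw [Finset.mem_inv_smul_finset_iff, Subgroup.smul_def, Equiv.Perm.smul_def, hg]
  rcases Cfsg.Lib.Classical.MLowIndex.subgroup_253 _ hK hc with ⟨s, hs, hn, he⟩ | ⟨o, ho, hn, he⟩
  · exact Or.inl ⟨_, by rw [Finset.card_smul_finset, hs], fun h => hn (hnone.mp h), key s he⟩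
  · exact Or.inr ⟨_, Cfsg.Lib.Golay.smul_mem_octads (g⁻¹ : ↥Cfsg.M24).2 ho, hnone.mpr hn, key o he⟩

end Cfsg.Agent.S1609
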