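import Cfsg.Statements.S1612
import Cfsg.Agent.ThreeTransposition.RankThree

set_option autoImplicit false
open Cfsg

namespace Cfsg.Agent.S1612

/-- In a 3-transposition group (no solvable normal subgroup, perfect derived group), the normaliser of a commuting set of transpositions of maximum size contains a Sylow 2-subgroup and is doubly transitive on the set. -/
theorem result {G : Type*} [Group G] [Finite G] (hsol : ∀ N : Subgroup G, N.Normal → Group.IsSolvable ↥N → N = ⊥) (hperf : ⁅commutator G, commutator G⁆ = commutator G) {D : Set G} (hD : Cfsg.IsThreeTranspositionClass D) {E : Set G} (hE : E ⊆ D) (hc : ∀ a ∈ E, ∀ b ∈ E, Commute a b) (hmax : ∀ E' : Set G, E' ⊆ D → (∀ a ∈ E', ∀ b ∈ E', Commute a b) → E'.ncard ≤ E.ncard) : (∃ P : Sylow 2 G, (P : Subgroup G) ≤ Subgroup.normalizer E) ∧ ∀ a ∈ E, ∀ b ∈ E, ∀ c ∈ E, ∀ d ∈ E, a ≠ b → c ≠ d → ∃ g ∈ Subgroup.normalizer E, g * a * g⁻¹ = c ∧ g * b * g⁻¹ = d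 := by
  open Cfsg.Lib.ThreeTr in
  obtain ⟨-, -, hR⟩ := rich_of_fischer hsol hperf hD
  haveI : Fact (Nat.Prime 2) := ⟨Nat.prime_two⟩
  have h2E : ∀ x ∈ E, x * x = 1 := fun x hx => sq_eq_one hD.1 (hE hx)
  have hconjinj : ∀ g : G, Function.Injective fun x : G => g * x * g⁻¹ := conj_image_injective
  -- a 2-group containing a largest commuting set meets the class exactly in it
  have hmeet : ∀ (P : Subgroup G) (E' : Set G), IsPGroup 2 P → E' ⊆ D → E'.ncard = E.ncard → E' ⊆ P →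
      {x | x ∈ D ∧ x ∈ P} = E' := by
    intro P E' hP hE'D hcard hE'P
    refine (Set.eq_of_subset_of_ncard_le (s := E') (t := {x | x ∈ D ∧ x ∈ P}) (fun x hx => ⟨hE'D hx, hE'P hx⟩) ?_ (Set.toFinite _)).symm
    rw [hcard]
    exact hmax _ (fun x hx => hx.1) fun u hu v hv => commute_of_mem_twoGroup hD.1 hP hu.1 hv.1 hu.2 hv.2
  refine ⟨?_, ?_⟩
  · obtain ⟨T, hT⟩ := (isPGroup_closure_commuting h2E hc).exists_le_sylow
    have hTE := hmeet T E T.2 hE rfl fun x hx => hT (Subgroup.subset_closure hx)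
    refine ⟨T, fun t ht => ?_⟩
    have hfwd : ∀ t ∈ (T : Subgroup G), ∀ x ∈ E, t * x * t⁻¹ ∈ E := by
      intro t ht x hx
      rw [← hTE] at hx ⊢
      exact ⟨conj_mem hD t hx.1, mul_mem (mul_mem ht hx.2) (inv_mem ht)⟩
    refine Subgroup.mem_set_normalizer_iff.2 fun x => ⟨hfwd t ht x, fun hx => ?_⟩
    simpa [mul_assoc] using hfwd t⁻¹ (inv_mem ht) _ hx
  intro a ha b hb c hcE d hd hab hcd
  obtain ⟨g₁, hg₁⟩ := exists_conj hD (hE ha) (hE hcE)
  have hb' : g₁ * b * g₁⁻¹ ∈ perp D c :=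
    ⟨conj_mem hD g₁ (hE hb), fun h => hab (hconjinj g₁ (hg₁.trans h.symm)), hg₁ ▸ (conj_commute_iff g₁ a b).2 (hc a ha b hb)⟩
  obtain ⟨h, hh, hhd⟩ := hR.perp_transitive (hE hcE) hb' ⟨hE hd, hcd.symm, hc c hcE d hd⟩
  set g := h * g₁ with hg
  have hga : g * a * g⁻¹ = c := by
    rw [hg, show h * g₁ * a * (h * g₁)⁻¹ = h * (g₁ * a * g₁⁻¹) * h⁻¹ by group, hg₁,
      (closure_perp_commute hh).eq, mul_inv_cancel_right]
  have hgb : g * b * g⁻¹ = d := by
    rw [hg, ← hhd]; group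
  set C := Subgroup.centralizer ({c, d} : Set G) with hC
  have hCmem : ∀ x, x ∈ C ↔ Commute c x ∧ Commute d x := by
    intro x
    simp [hC, Subgroup.mem_centralizer_iff, Commute, SemiconjBy]
  set E' : Set G := (fun x => g * x * g⁻¹) '' E with hE'
  have h2E' : ∀ x ∈ E', x * x = 1 := by
    rintro _ ⟨x, hx, rfl⟩
    exact sq_eq_one hD.1 (conj_mem hD g (hE hx))
  have hc' : ∀ u ∈ E', ∀ v ∈ E', Commute u v := by
    rintro _ ⟨u, hu, rfl⟩ _ ⟨v, hv, rfl⟩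
    exact (conj_commute_iff g u v).2 (hc u hu v hv)
  have hEC : Subgroup.closure E ≤ C := by
    rw [Subgroup.closure_le]
    exact fun x hx => (hCmem x).2 ⟨hc c hcE x hx, hc d hd x hx⟩
  have hE'C : Subgroup.closure E' ≤ C := by
    rw [Subgroup.closure_le]
    exact fun x hx => (hCmem x).2 ⟨hc' c ⟨a, ha, hga⟩ x hx, hc' d ⟨b, hb, hgb⟩ x hx⟩
  obtain ⟨S₁, hS₁⟩ := ((isPGroup_closure_commuting h2E hc).of_equiv (Subgroup.subgroupOfEquivOfLe hEC).symm).exists_le_sylow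
  obtain ⟨S₂, hS₂⟩ := ((isPGroup_closure_commuting h2E' hc').of_equiv (Subgroup.subgroupOfEquivOfLe hE'C).symm).exists_le_sylow
  obtain ⟨k, hk⟩ := MulAction.exists_smul_eq C S₂ S₁
  set E'' : Set G := (fun x => ((k : G) * g) * x * ((k : G) * g)⁻¹) '' E with hE''
  set T := (S₁ : Subgroup C).map C.subtype with hT
  have hE''T : E'' ⊆ T := by
    rintro _ ⟨x, hx, rfl⟩
    have hx' : g * x * g⁻¹ ∈ Subgroup.closure E' := Subgroup.subset_closure ⟨x, hx, rfl⟩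
    have hm : (⟨_, hE'C hx'⟩ : C) ∈ (S₂ : Subgroup C) := hS₂ (Subgroup.mem_subgroupOf.2 hx')
    refine ⟨k * ⟨_, hE'C hx'⟩ * k⁻¹, ?_, ?_⟩
    · rw [← hk]
      exact Subgroup.smul_mem_pointwise_smul _ (MulAut.conj k) _ hm
    · show (k : G) * (g * x * g⁻¹) * (k : G)⁻¹ = _
      group
  have hTp : IsPGroup 2 T := S₁.2.map _
  have hmeetT := hmeet T E hTp hE rfl fun x hx =>
    ⟨⟨x, hEC (Subgroup.subset_closure hx)⟩, hS₁ (Subgroup.mem_subgroupOf.2 (Subgroup.subset_closure hx)), rfl⟩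
  have hmeetT' := hmeet T E'' hTp (by rintro _ ⟨x, hx, rfl⟩; exact conj_mem hD _ (hE hx))
    (Set.ncard_image_of_injective _ (hconjinj _)) hE''T
  have himg : E'' = E := hmeetT'.symm.trans hmeetT
  refine ⟨(k : G) * g, ?_, ?_, ?_⟩
  · refine Subgroup.mem_set_normalizer_iff.2 fun x => ⟨fun hx => himg ▸ ⟨x, hx, rfl⟩, fun hx => ?_⟩
    rw [← himg] at hx
    obtain ⟨y, hy, hyx⟩ := hx
    exact (hconjinj _ hyx) ▸ hy
  · rw [show (k : G) * g * a * ((k : G) * g)⁻¹ = (k : G) * (g * a * g⁻¹) * (k : G)⁻¹ by group, hga,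
      ← ((hCmem _).1 k.2).1.eq, mul_inv_cancel_right]
  · rw [show (k : G) * g * b * ((k : G) * g)⁻¹ = (k : G) * (g * b * g⁻¹) * (k : G)⁻¹ by group, hgb,
      ← ((hCmem _).1 k.2).2.eq, mul_inv_cancel_right]

end Cfsg.Agent.S1612
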