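import Cfsg.Statements.S1617
import Cfsg.Agent.RootInv.SingleOrder.RankThree

set_option autoImplicit false
open Cfsg

namespace Cfsg.Agent.S1617

/-- A generating conjugacy class of involutions on which the group (with trivial solvable radical) acts with rank 3 is a class of 3-transpositions. -/
theorem result {G : Type*} [Group G] [Finite G] (hsol : ∀ N : Subgroup G, N.Normal → Group.IsSolvable ↥N → N = ⊥) {D : Set G} (hinv : ∀ d ∈ D, orderOf d = 2) (hconj : ∃ d ∈ D, D = conjugatesOf d) (hgen : Subgroup.closure D = ⊤) (hrank : ∀ x ∈ D, ∃ y ∈ D, ∃ z ∈ D, {w : G | ∃ g : G, Commute g x ∧ g * y * g⁻¹ = w} ≠ {w : G | ∃ g : G, Commute g x ∧ g * x * g⁻¹ = w} ∧ {w : G | ∃ g : G, Commute g x ∧ g * z * g⁻¹ = w} ≠ {w : G | ∃ g : G, Commute g x ∧ g * x * g⁻¹ = w} ∧ {w : G | ∃ g : G, Commute g x ∧ g * y * g⁻¹ = w} ≠ {w : G | ∃ g : G, Commute g x ∧ g * z * g⁻¹ = w} ∧ D = {w : G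 | ∃ g : G, Commute g x ∧ g * x * g⁻¹ = w} ∪ {w : G | ∃ g : G, Commute g x ∧ g * y * g⁻¹ = w} ∪ {w : G | ∃ g : G, Commute g x ∧ g * z * g⁻¹ = w}) : Cfsg.IsThreeTranspositionClass D := by
  obtain ⟨d, hd, hD⟩ := hconj
  have hmem : ∀ w, w ∈ D ↔ ∃ c : G, c * d * c⁻¹ = w := fun w => by
    rw [hD]
    exact isConj_iff
  have hc : ∀ e ∈ D, ∀ g : G, g * e * g⁻¹ ∈ D := fun e he g => by
    obtain ⟨c, rfl⟩ := (hmem e).1 he
    exact (hmem _).2 ⟨g * c, by group⟩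
  have hcl : ∀ a ∈ D, ∀ b ∈ D, ∃ g : G, b = g * a * g⁻¹ := fun a ha b hb => by
    obtain ⟨c, rfl⟩ := (hmem a).1 ha
    obtain ⟨c', rfl⟩ := (hmem b).1 hb
    exact ⟨c' * c⁻¹, by group⟩
  obtain ⟨y, -, z, -, -, -, -, hDeq⟩ := hrank d hd
  exact ⟨⟨hinv, Cfsg.Lib.RootInv.three_transpositions_of_two_orders hsol hinv hc hgen hcl
    (Cfsg.Lib.RootInv.exists_two_orders hcl hc hd hDeq)⟩, ⟨d, hd, hD⟩, hgen⟩

end Cfsg.Agent.S1617
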