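import Cfsg.Statements.S1618
import Cfsg.Agent.InvolCalc.PPowerProducts
import Cfsg.Agent.Coprime.SolvableBasics

set_option autoImplicit false
open Cfsg

namespace Cfsg.Agent.S1618


open scoped commutatorElement


/-- A group generated by a class of involutions whose pairwise products (of distinct members) have p-power order for a fixed odd prime p has nilpotent derived subgroup. -/
theorem result {G : Type*} [Group G] [Finite G] (p : ℕ) (hp : p.Prime) (hodd : p ≠ 2) {D : Set G} (hinv : ∀ d ∈ D, orderOf d = 2) (hconj : ∃ d ∈ D, D = conjugatesOf d) (hgen : Subgroup.closure D = ⊤) (hprod : ∀ x ∈ D, ∀ y ∈ D, x ≠ y → ∃ k : ℕ, orderOf (x * y) = p ^ k) : Group.IsNilpotent ↥(commutator G) := by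
  classical
  haveI := Fact.mk hp
  obtain ⟨d, hdD, hD⟩ := hconj
  have hmem : ∀ a ∈ conjugatesOf d, ∀ b ∈ conjugatesOf d, a * b ∈ Cfsg.pCore p G := by
    refine Cfsg.Lib.PPowerProducts.mul_mem_pCore hodd d (hinv d hdD) fun a ha b hb => ?_
    by_cases hab : a = b
    · refine ⟨0, ?_⟩
      subst hab
      rw [← hD] at ha
      rw [← pow_two, ← hinv a ha, pow_orderOf_eq_one, orderOf_one, pow_zero]
    · rw [← hD] at ha hb
      exact hprod a ha b hb hab
  have hpn : IsPGroup p ↥(Cfsg.pCore p G) :=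
    Cfsg.Lib.Components.isPGroup_pCore (G := G) p
  haveI := hpn.isNilpotent
  have hle : commutator G ≤ Cfsg.pCore p G := by
    have hgen' : Subgroup.closure ((QuotientGroup.mk' (Cfsg.pCore p G)) '' D) = ⊤ := by
      rw [← MonoidHom.map_closure, hgen, Subgroup.map_top_of_surjective _ (QuotientGroup.mk'_surjective _)]
    have hsub : (QuotientGroup.mk' (Cfsg.pCore p G)) '' D ⊆ {QuotientGroup.mk' (Cfsg.pCore p G) d} := by
      rintro _ ⟨a, ha, rfl⟩
      rw [Set.mem_singleton_iff, QuotientGroup.mk'_apply, QuotientGroup.mk'_apply, QuotientGroup.eq]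
      rw [show a⁻¹ = a from inv_eq_of_mul_eq_one_right (by rw [← pow_two, ← hinv a ha, pow_orderOf_eq_one])]
      exact hmem a (hD ▸ ha) d mem_conjugatesOf_self
    have hcyc : IsCyclic (G ⧸ Cfsg.pCore p G) := by
      refine ⟨QuotientGroup.mk' (Cfsg.pCore p G) d, fun y => ?_⟩
      have : (⊤ : Subgroup (G ⧸ Cfsg.pCore p G)) ≤ Subgroup.zpowers (QuotientGroup.mk' (Cfsg.pCore p G) d) := by
        rw [← hgen', Subgroup.closure_le]
        exact hsub.trans (by simp)
      exact this (Subgroup.mem_top y)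
    rw [commutator_eq_closure, Subgroup.closure_le]
    rintro _ ⟨a, b, rfl⟩
    letI : CommGroup (G ⧸ Cfsg.pCore p G) := IsCyclic.commGroup
    refine (QuotientGroup.eq_one_iff _).1 ?_
    change QuotientGroup.mk' (Cfsg.pCore p G) _ = 1
    rw [map_commutatorElement]
    exact commutatorElement_eq_one_iff_mul_comm.2 (mul_comm _ _)
  exact Group.nilpotent_of_mulEquiv (Subgroup.subgroupOfEquivOfLe hle)

end Cfsg.Agent.S1618
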