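import Cfsg.Statements.S1626
import Cfsg.Agent.Spor.J3.Unitary

set_option autoImplicit false
open scoped MatrixGroups
open Matrix
open Cfsg

namespace Cfsg.Agent.S1626

/-- Orbits of the triple cover of the third Janko group on lines of its 9-space over the field with 4 elements: the line through the first basis vector has exactly 23256 images, and the isotropic lines (nonzero v with Σ v_z³ = 0) form a single orbit. -/
theorem result (F : Type) [Field F] [Fintype F] (hF : Fintype.card F = 4) (ω : F) (hω : ω ^ 2 + ω + 1 = 0) : {L : Submodule F (Cfsg.Spor.F9 → F) | ∃ g ∈ Cfsg.Spor.threeJ3 F ω, L = F ∙ ((g : Matrix Cfsg.Spor.F9 Cfsg.Spor.F9 F) *ᵥ (Pi.single (0 : Cfsg.Spor.F9) (1 : F) : Cfsg.Spor.F9 → F))}.ncard = 23256 ∧ ∀ v w : Cfsg.Spor.F9 → F, v ≠ 0 → w ≠ 0 → ∑ z, (v z) ^ 3 = 0 → ∑ z, (w z) ^ 3 = 0 → ∃ g ∈ Cfsg.Spor.threeJ3 F ω, ∃ c : F, c ≠ 0 ∧ (g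 : Matrix Cfsg.Spor.F9 Cfsg.Spor.F9 F) *ᵥ v = c • w := by
  classical
  haveI := Cfsg.Lib.Spor.J3.charP_two_of_card_four hF
  constructor
  · rw [← (Cfsg.Lib.Spor.J3.first_orbit_and_order hω hF).2.1, Cfsg.Lib.Spor.J3.vec_one_eq]
    congr 1
    ext L
    constructor
    · rintro ⟨g, hg, rfl⟩; exact ⟨g, hg, rfl⟩
    · rintro ⟨g, hg, rfl⟩; exact ⟨g, hg, rfl⟩
  intro v w hv hw hv3 hw3
  have key : Cfsg.Lib.Spor.J3.isoOrbitVecs (ω := ω) = {u : Cfsg.Spor.F9 → F | Cfsg.Lib.Spor.J3.IsIso u} :=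
    Cfsg.Lib.Spor.J3.isoOrbit_eq hω hF
  obtain ⟨g, hg, hgv⟩ : v ∈ Cfsg.Lib.Spor.J3.isoOrbitVecs (ω := ω) := key ▸ ⟨hv, hv3⟩
  obtain ⟨g', hg', hgw⟩ : w ∈ Cfsg.Lib.Spor.J3.isoOrbitVecs (ω := ω) := key ▸ ⟨hw, hw3⟩
  obtain ⟨c, hc, rfl⟩ := hgv
  obtain ⟨d, hd, rfl⟩ := hgw
  refine ⟨g' * g⁻¹, mul_mem hg' (inv_mem hg), c * d⁻¹, mul_ne_zero hc (inv_ne_zero hd), ?_⟩
  rw [Units.val_mul, ← Matrix.mulVec_mulVec, Matrix.mulVec_smul, Matrix.mulVec_mulVec,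
    ← Units.val_mul, inv_mul_cancel, Units.val_one, Matrix.one_mulVec, Matrix.mulVec_smul, smul_smul,
    mul_assoc, inv_mul_cancel₀ hd, mul_one]

end Cfsg.Agent.S1626
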