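import Cfsg.Agent.Golay.CodeFacts
import Mathlib
import Cfsg.Statements.S1635
-- import your own Cfsg.Agent.* helpers here

set_option autoImplicit false
open Cfsg

namespace Cfsg.Agent.S1635

/-- Coset leaders of the length-24 code: a coset contains a unique word of weight ≤ 3, or else exactly six words of weight 4 and none lighter. -/
theorem result (w : Cfsg.GolayPt → ZMod 2) : ({v : Cfsg.GolayPt → ZMod 2 | hammingNorm v ≤ 4 ∧ w - v ∈ Cfsg.golayCode}.ncard = 1 ∧ ∃ v : Cfsg.GolayPt → ZMod 2, hammingNorm v ≤ 3 ∧ w - v ∈ Cfsg.golayCode) ∨ ({v : Cfsg.GolayPt → ZMod 2 | hammingNorm v ≤ 4 ∧ w - v ∈ Cfsg.golayCode}.ncard = 6 ∧ ∀ v : Cfsg.GolayPt → ZMod 2, w - v ∈ Cfsg.golayCode → hammingNorm v ≤ 4 → hammingNorm v = 4) := by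
  have hset : {v : Cfsg.GolayPt → ZMod 2 | hammingNorm v ≤ 4 ∧ w - v ∈ Cfsg.golayCode}
      = {v | v - w ∈ Cfsg.golayCode ∧ hammingNorm v ≤ 4} := by
    ext v; rw [Set.mem_setOf_eq, Set.mem_setOf_eq, Lib.Golay.zmod2_sub_comm w v]; exact and_comm
  rw [hset]
  rcases Lib.Golay.coset_dichotomy Lib.Golay.golayCode_packing w with ⟨u, hu, h3⟩ | ⟨h6, h4, -⟩
  · refine Or.inl ⟨by rw [hu, Set.ncard_singleton], u, h3, ?_⟩
    rw [Lib.Golay.zmod2_sub_comm]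
    exact (hu.ge (Set.mem_singleton u)).1
  · exact Or.inr ⟨h6, fun v hv hn => (h4 v ⟨Lib.Golay.zmod2_sub_comm w v ▸ hv, hn⟩).1⟩

end Cfsg.Agent.S1635
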