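import Cfsg.Statements.S1645
import Cfsg.Agent.DoubleCoverAlt.Three

set_option autoImplicit false
open Cfsg

namespace Cfsg.Agent.S1645

/-- If some involution of a finite simple group has centraliser a non-split double cover of the alternating group of degree n ≥ 5, then n is 8 or 11 (the McLaughlin and Lyons cases). -/
theorem result {G : Type*} [Group G] [Finite G] [IsSimpleGroup G] (n : ℕ) (hn : 5 ≤ n) (z : G) (hz : orderOf z = 2) (hcov : Cfsg.IsNonsplitDoubleCover (Subgroup.centralizer ({z} : Set G)) (alternatingGroup (Fin n))) : n = 8 ∨ n = 11 := by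
  obtain ⟨D, -⟩ := Cfsg.Lib.DoubleCoverAlt.exists_cov hz hn hcov
  have h8 : 8 ≤ n := D.not_le_seven
  by_contra h
  simp only [not_or] at h
  rcases (by omega : n = 9 ∨ n = 10 ∨ 12 ≤ n) with hn' | hn' | h12
  · subst hn'
    obtain ⟨F⟩ := Cfsg.Lib.DoubleCoverAlt.Cov.exists_frame (m := 0) D (Or.inl rfl)
    rcases F.card_Ju_cases with e | e | e
    · exact F.card_Ju_ne_one e
    · exact F.three_nine rfl e
    · exact F.card_Ju_ne_nine e
  · subst hn'
    obtain ⟨F⟩ := Cfsg.Lib.DoubleCoverAlt.Cov.exists_frame (m := 1) D (Or.inr rfl)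
    rcases F.card_Ju_cases with e | e | e
    · exact F.card_Ju_ne_one e
    · exact F.three_ten rfl e
    · exact F.card_Ju_ne_nine e
  · exact D.not_twelve_le h12

end Cfsg.Agent.S1645
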