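import Cfsg.Statements.S1664
import Cfsg.Agent.M23Nse.CensusFields
import Cfsg.Agent.M23Order.Involution

set_option autoImplicit false
open Cfsg

namespace Cfsg.Agent.S1664

/-- The Mathieu group of degree 23 is determined by its order: a finite simple group of order 10200960 is isomorphic to the concrete M₂₃ (a point stabiliser in the group of the length-24 Golay code). -/
theorem result {G : Type*} [Group G] [Finite G] (hG : Cfsg.IsM23 G) : Cfsg.Spor.IsoM23 G := by
  obtain ⟨hs, hc⟩ := hG
  haveI := hs
  haveI := Fintype.ofFinite G
  open Cfsg.Lib.M23Order in
  exact Cfsg.Lib.M23Nse.iso_M23_of_census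
    { card := hc
      five := fun x hx => cent_five hc hx
      seven := fun x hx => cent_seven hc hx
      eleven := fun x hx => cent_eleven hc hx
      twentyThree := fun x hx => cent_twenty_three hc hx
      nFive := card_sylow_five hc
      nSeven := card_sylow_seven hc
      invol := fun t ht => cent_invol hc ht
      conj := fun s t hs ht => conj_invol hc hs ht }

end Cfsg.Agent.S1664
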