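import Mathlib
import Cfsg.Statements.S1691
-- import your own Cfsg.Agent.* helpers here

set_option autoImplicit false
open Cfsg

namespace Cfsg.Agent.S1691

/-- The commutator subgroup of the presented group Fi₂₄ has index 2 (the presented group is Fi₂₄′:2 with Fi₂₄′ its derived subgroup). -/
theorem result : (commutator Cfsg.Spor.Fi24).index = 2 := by
  have hnode : ∀ x : Cfsg.Spor.Fi24.Gen, x ∈ Cfsg.Spor.coxNodes Cfsg.Spor.Fi24.edges := by intro x; cases x <;> decide
  have hedges : ∀ x y, Cfsg.Spor.coxLabel Cfsg.Spor.Fi24.edges x y = Cfsg.Spor.coxLabel Cfsg.Spor.Fi24.edges x y := fun _ _ => rfl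
  have ecd : Cfsg.Spor.coxLabel Cfsg.Spor.Fi24.edges .c .d = 3 := by decide
  classical
  -- the sign character
  let f : Cfsg.Spor.Fi24.Gen → ℤˣ := fun _ => -1
  have hrel : ∀ r ∈ Cfsg.Spor.coxRelators Cfsg.Spor.Fi24.edges ∪ {r | r ∈ Cfsg.Spor.Fi24.extra}, FreeGroup.lift f r = 1 := by
    rintro r (⟨x, -, y, -, rfl⟩ | hr)
    · simp [f]
    · simp only [Cfsg.Spor.Fi24.extra, Set.mem_setOf_eq, List.mem_cons, List.not_mem_nil, or_false] at hr
      rcases hr with rfl | rfl <;>
        simp only [map_mul, map_inv, map_pow, FreeGroup.lift_apply_of, f] <;> decide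
  set χ := PresentedGroup.toGroup hrel with hχ
  have hχof : ∀ x, χ (PresentedGroup.of x) = -1 := fun x => PresentedGroup.toGroup.of hrel
  -- all generators are equal modulo commutators
  set g : Cfsg.Spor.Fi24.Gen → Abelianization Cfsg.Spor.Fi24 := fun x => Abelianization.of (PresentedGroup.of x) with hg
  have hpow : ∀ x y : Cfsg.Spor.Fi24.Gen, (g x * g y) ^ Cfsg.Spor.coxLabel Cfsg.Spor.Fi24.edges x y = 1 := fun x y => by
    have h1 : PresentedGroup.mk (Cfsg.Spor.coxRelators Cfsg.Spor.Fi24.edges ∪ {r | r ∈ Cfsg.Spor.Fi24.extra})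
        ((FreeGroup.of x * FreeGroup.of y) ^ Cfsg.Spor.coxLabel Cfsg.Spor.Fi24.edges x y) = 1 :=
      PresentedGroup.one_of_mem (Or.inl ⟨x, hnode x, y, hnode y, rfl⟩)
    rw [map_pow, map_mul] at h1
    show (Abelianization.of (PresentedGroup.of x) * Abelianization.of (PresentedGroup.of y)) ^ _ = 1
    rw [← map_mul, ← map_pow]
    exact (congrArg Abelianization.of h1).trans (map_one _)
  have hsq : ∀ x, g x * g x = 1 := fun x => by
    have := hpow x x
    rwa [Cfsg.Spor.coxLabel, if_pos rfl, pow_one] at this
  have hedge : ∀ x y, Cfsg.Spor.coxLabel Cfsg.Spor.Fi24.edges x y = 3 → g x = g y := fun x y h => by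
    have := hpow x y
    rw [h, mul_pow, pow_succ, pow_two, hsq x, one_mul, pow_succ, pow_two, hsq y, one_mul] at this
    exact (eq_inv_of_mul_eq_one_left this).trans (inv_eq_of_mul_eq_one_right (hsq y))
  have hall : ∀ x, g x = g .d := by
    intro x
    have ec := hedge .c .d (by decide)
    have eb := (hedge .b .c (by decide)).trans ec
    have ea := (hedge .a .b (by decide)).trans eb
    have ek := (hedge .k .a (by decide)).trans ea
    have el := (hedge .l .k (by decide)).trans ek
    have ee := hedge .e .d (by decide)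
    have ef := (hedge .f .e (by decide)).trans ee
    have eg := (hedge .g .f (by decide)).trans ef
    have ej := (hedge .j .g (by decide)).trans eg
    have eh := hedge .h .d (by decide)
    have ei := (hedge .i .h (by decide)).trans eh
    cases x <;> first | rfl | assumption
  have hspan : ∀ a : Abelianization Cfsg.Spor.Fi24, a = 1 ∨ a = g .d := by
    intro a
    obtain ⟨z, rfl⟩ : ∃ z, Abelianization.of z = a := QuotientGroup.mk'_surjective _ a
    have hz : z ∈ Subgroup.closure (Set.range (PresentedGroup.of (rels := Cfsg.Spor.coxRelators Cfsg.Spor.Fi24.edges ∪ {r | r ∈ Cfsg.Spor.Fi24.extra}))) := by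
      rw [PresentedGroup.closure_range_of]; exact Subgroup.mem_top z
    induction hz using Subgroup.closure_induction with
    | mem w hw => obtain ⟨x, rfl⟩ := hw; exact Or.inr (hall x)
    | one => exact Or.inl (map_one _)
    | mul u v _ _ hu hv =>
      rw [map_mul]
      rcases hu with e | e <;> rcases hv with e' | e' <;> rw [e, e'] <;> simp [hsq]
    | inv u _ hu =>
      rw [map_inv]
      rcases hu with e | e <;> rw [e]
      · simp
      · exact Or.inr (inv_eq_of_mul_eq_one_right (hsq _))
  show Nat.card (Abelianization Cfsg.Spor.Fi24) = 2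
  rw [Nat.card_eq_two_iff' 1]
  refine ⟨g .d, fun h => ?_, fun a ha => (hspan a).resolve_left ha⟩
  have := congrArg (Abelianization.lift χ) h
  rw [map_one, hg] at this
  simp only [Abelianization.lift_apply_of, hχof] at this
  exact absurd this (by decide)

end Cfsg.Agent.S1691
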