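import Cfsg.Statements.S1712
import Cfsg.Agent.J4Cert.Order

set_option autoImplicit false
open Cfsg

namespace Cfsg.Agent.S1712

/-- In the presented fourth Janko group (generators x, y, t), the subgroup generated by the images of x, y and (y * w⁻¹ * t * w) ^ 3 with w = (y * x) ^ 4 * y⁻¹ * x has index 173067389. -/
theorem result : (((Subgroup.closure ({Cfsg.Spor.J4.x, Cfsg.Spor.J4.y, (Cfsg.Spor.J4.y * ((Cfsg.Spor.J4.y * Cfsg.Spor.J4.x) ^ 4 * Cfsg.Spor.J4.y⁻¹ * Cfsg.Spor.J4.x)⁻¹ * Cfsg.Spor.J4.t * ((Cfsg.Spor.J4.y * Cfsg.Spor.J4.x) ^ 4 * Cfsg.Spor.J4.y⁻¹ * Cfsg.Spor.J4.x)) ^ 3} : Set (FreeGroup Cfsg.Spor.J4.Gen))).map (PresentedGroup.mk (Cfsg.Spor.coxRelators Cfsg.Spor.J4.edges ∪ {r | r ∈ Cfsg.Spor.J4.extra})))).index = 173067389 := by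
  open Cfsg.Lib.J4Cert Cfsg.Lib.J4Pres Cfsg.Lib.CosetTable in
  refine Eq.trans (congrArg Subgroup.index ?_) index_KJ_eq
  open Cfsg.Lib.J4Cert Cfsg.Lib.J4Pres Cfsg.Lib.CosetTable in
  have he : ge = PresentedGroup.mk jRels ((Cfsg.Spor.J4.y * ((Cfsg.Spor.J4.y * Cfsg.Spor.J4.x) ^ 4 * Cfsg.Spor.J4.y⁻¹ *
      Cfsg.Spor.J4.x)⁻¹ * Cfsg.Spor.J4.t * ((Cfsg.Spor.J4.y * Cfsg.Spor.J4.x) ^ 4 * Cfsg.Spor.J4.y⁻¹ * Cfsg.Spor.J4.x)) ^ 3) := by
    simp [ge, wval, w2, im, jHom_px, jHom_py, gx, gy, gt, pow_succ, mul_assoc, mul_inv_rev]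
  open Cfsg.Lib.J4Cert Cfsg.Lib.J4Pres Cfsg.Lib.CosetTable in
  rw [MonoidHom.map_closure, Set.image_insert_eq, Set.image_insert_eq, Set.image_singleton, ← he]
  open Cfsg.Lib.J4Cert Cfsg.Lib.J4Pres Cfsg.Lib.CosetTable in
  refine le_antisymm ((Subgroup.closure_le _).2 ?_) ((Subgroup.closure_le _).2 ?_)
  · rintro g (rfl | rfl | rfl)
    · exact Subgroup.subset_closure (Or.inl ⟨Cfsg.Lib.J4Pres.px, Cfsg.Lib.J4Cert.jHom_px⟩)
    · exact Subgroup.subset_closure (Or.inl ⟨Cfsg.Lib.J4Pres.py, Cfsg.Lib.J4Cert.jHom_py⟩)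
    · exact Subgroup.subset_closure (Or.inr rfl)
  · open Cfsg.Lib.J4Cert Cfsg.Lib.J4Pres in
    rintro g (⟨a, rfl⟩ | rfl)
    · have hle : (⊤ : Subgroup P) ≤ (Subgroup.closure {gx, gy, ge}).comap jHom := by
        rw [← PresentedGroup.closure_range_of relSet, Subgroup.closure_le]
        rintro _ ⟨b, rfl⟩
        cases b
        · exact Subgroup.subset_closure (by rw [show jHom (PresentedGroup.of false) = gy from jHom_py]; simp)
        · exact Subgroup.subset_closure (by rw [show jHom (PresentedGroup.of true) = gx from jHom_px]; simp)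
      exact hle (Subgroup.mem_top a)
    · exact Subgroup.subset_closure (by simp)

end Cfsg.Agent.S1712
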