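import Cfsg.Agent.Known.AutPSLn.Sylow
import Cfsg.Agent.Thompson.PComplement
import Mathlib
import Cfsg.Statements.S1717
-- import your own Cfsg.Agent.* helpers here

set_option autoImplicit false
open Cfsg

namespace Cfsg.Agent.S1717

/-- Let G be a finite group with an involution z whose centraliser C is isomorphic to the centraliser of a transvection of SL(5, 2). Then a Sylow 2-subgroup of C, viewed in G, is a Sylow 2-subgroup of G (its index in G is odd). -/
theorem result {G : Type*} [Group G] [Finite G] (s : Matrix.SpecialLinearGroup (Fin 5) (ZMod 2)) (hs : (s : Matrix (Fin 5) (Fin 5) (ZMod 2)) = Matrix.transvection 0 1 1) (z : G) (hz : orderOf z = 2) (e : (Subgroup.centralizer ({z} : Set G)) ≃* Subgroup.centralizer ({s} : Set (Matrix.SpecialLinearGroup (Fin 5) (ZMod 2)))) (T : Sylow 2 (Subgroup.centralizer ({z} : Set G))) : ¬ 2 ∣ ((T : Subgroup (Subgroup.centralizer ({z} : Set G))).map (Subgroup.subtype (Subgroup.centralizer ({z} : Set G)))).index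 := by
  classical
  have hperm : (Equiv.swap (1 : Fin 5) 4).permMatrix (ZMod 2) * Matrix.transvection (0 : Fin 5) 4 (1 : ZMod 2)
      = Matrix.transvection (0 : Fin 5) 1 (1 : ZMod 2) * (Equiv.swap (1 : Fin 5) 4).permMatrix (ZMod 2) := by decide +kernel
  have hsc : ∀ c : ZMod 2, c ^ 5 = 1 → c = 1 := by decide
  have hx01 : ∀ c : ZMod 2, c = 0 ∨ c = 1 := by decide
  haveI : Fact (Nat.Prime 2) := ⟨Nat.prime_two⟩
  set D := Subgroup.centralizer ({s} : Set (Matrix.SpecialLinearGroup (Fin 5) (ZMod 2)))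
  -- the standard Sylow subgroup and its centre
  obtain ⟨U, hU⟩ := Cfsg.Lib.Known.AutPSLn.exists_sylow_upperUni (F := ZMod 2) (n := 5) 2
  have hπ : Function.Injective (QuotientGroup.mk' (Subgroup.center (Matrix.SpecialLinearGroup (Fin 5) (ZMod 2)))) := by
    rw [← MonoidHom.ker_eq_bot_iff, QuotientGroup.ker_mk', Subgroup.eq_bot_iff_forall]
    intro A hA
    obtain ⟨c, hc, hcA⟩ := Matrix.SpecialLinearGroup.mem_center_iff.mp hA
    rw [hsc c (by simpa using hc), map_one] at hcA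
    exact Subtype.ext hcA.symm
  set t : (Matrix.SpecialLinearGroup (Fin 5) (ZMod 2)) := Matrix.SpecialLinearGroup.transvection (show (0 : Fin 5) ≠ 4 by decide) 1 with ht
  have hcenU : ∀ M ∈ (U : Subgroup (Matrix.SpecialLinearGroup (Fin 5) (ZMod 2))), (∀ N ∈ (U : Subgroup (Matrix.SpecialLinearGroup (Fin 5) (ZMod 2))), N * M = M * N) → M = 1 ∨ M = t := by
    intro M hM hMc
    have hg : QuotientGroup.mk' (Subgroup.center (Matrix.SpecialLinearGroup (Fin 5) (ZMod 2))) M ∈ ((U : Subgroup (Matrix.SpecialLinearGroup (Fin 5) (ZMod 2))).map (QuotientGroup.mk' (Subgroup.center (Matrix.SpecialLinearGroup (Fin 5) (ZMod 2))))) :=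
      ⟨M, hM, rfl⟩
    have hz : (⟨_, hg⟩ : ((U : Subgroup (Matrix.SpecialLinearGroup (Fin 5) (ZMod 2))).map (QuotientGroup.mk' (Subgroup.center (Matrix.SpecialLinearGroup (Fin 5) (ZMod 2)))))) ∈ Subgroup.center _ :=
      Subgroup.mem_center_iff.mpr fun y => by
        obtain ⟨N, hN, hNe⟩ := y.2
        refine Subtype.ext ?_
        show y.1 * _ = _ * y.1
        rw [← hNe, ← map_mul, ← map_mul, hMc N hN]
    have hmem : QuotientGroup.mk' (Subgroup.center (Matrix.SpecialLinearGroup (Fin 5) (ZMod 2))) M ∈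
        (Subgroup.center ((U : Subgroup (Matrix.SpecialLinearGroup (Fin 5) (ZMod 2))).map (QuotientGroup.mk' (Subgroup.center (Matrix.SpecialLinearGroup (Fin 5) (ZMod 2)))))).map
          ((U : Subgroup (Matrix.SpecialLinearGroup (Fin 5) (ZMod 2))).map (QuotientGroup.mk' (Subgroup.center (Matrix.SpecialLinearGroup (Fin 5) (ZMod 2))))).subtype := ⟨_, hz, rfl⟩
    have hce := Cfsg.Lib.Known.AutPSLn.center_upperUni (F := ZMod 2) (n := 5) (by norm_num)
    rw [← hU] at hce
    erw [hce] at hmem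
    obtain ⟨x, hx⟩ := hmem
    have hM' : M = Matrix.SpecialLinearGroup.transvection (show (0 : Fin 5) ≠ 4 by decide) x.toAdd :=
      (hπ hx).symm.trans (Cfsg.Lib.Known.ThreeUnipotents.rankOne_single (show (0 : Fin 5) ≠ 4 by decide) _)
    rw [hM']
    rcases hx01 x.toAdd with e | e <;> rw [e]
    · left
      refine Subtype.ext ?_
      exact Matrix.transvection_zero _ _
    · exact Or.inr rfl
  have htU : t ∈ (U : Subgroup (Matrix.SpecialLinearGroup (Fin 5) (ZMod 2))) := by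
    rw [hU]
    exact Cfsg.Lib.Known.AutPSLn.upperUni_transvection (show (0 : Fin 5) < 4 by decide) 1
  -- move it into the centralizer of `s`
  obtain ⟨w, hwm⟩ : ∃ w : (Matrix.SpecialLinearGroup (Fin 5) (ZMod 2)), (w : Matrix (Fin 5) (Fin 5) (ZMod 2)) = (Equiv.swap (1 : Fin 5) 4).permMatrix (ZMod 2) :=
    ⟨⟨(Equiv.swap (1 : Fin 5) 4).permMatrix (ZMod 2), by rw [Matrix.det_permutation, Equiv.Perm.sign_swap (by decide)]; exact (hx01 _).resolve_left (by simp)⟩, rfl⟩
  have hw : w * t * w⁻¹ = s := by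
    have h : w * t = s * w := by
      apply Subtype.ext
      rw [Matrix.SpecialLinearGroup.coe_mul, Matrix.SpecialLinearGroup.coe_mul, hwm, hs]
      exact hperm
    rw [h, mul_inv_cancel_right]
  have htc : ∀ N ∈ (U : Subgroup (Matrix.SpecialLinearGroup (Fin 5) (ZMod 2))), N * t = t * N := by
    intro N hN
    have hne : t ≠ 1 := by
      intro e
      exact absurd (congrFun (congrFun (congrArg Subtype.val e) 0) 4) (by
        simp [ht, Matrix.SpecialLinearGroup.transvection, Matrix.transvection])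
    haveI : Nontrivial (U : Subgroup (Matrix.SpecialLinearGroup (Fin 5) (ZMod 2))) := ⟨⟨⟨t, htU⟩, 1, fun e => hne (congrArg Subtype.val e)⟩⟩
    haveI : Nontrivial (Subgroup.center (U : Subgroup (Matrix.SpecialLinearGroup (Fin 5) (ZMod 2)))) := U.isPGroup'.center_nontrivial (G := (U : Subgroup (Matrix.SpecialLinearGroup (Fin 5) (ZMod 2))))
    obtain ⟨⟨⟨m, hm⟩, hmc⟩, hm1⟩ := exists_ne (1 : Subgroup.center (U : Subgroup (Matrix.SpecialLinearGroup (Fin 5) (ZMod 2))))
    have hmc' : ∀ N ∈ (U : Subgroup (Matrix.SpecialLinearGroup (Fin 5) (ZMod 2))), N * m = m * N := fun N hN =>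
      congrArg Subtype.val (Subgroup.mem_center_iff.mp hmc ⟨N, hN⟩)
    rcases hcenU m hm hmc' with rfl | rfl
    · exact absurd (Subtype.ext (Subtype.ext rfl)) hm1
    · exact hmc' N hN
  -- transport to `T`
  have hUD : ∀ N ∈ (U : Subgroup (Matrix.SpecialLinearGroup (Fin 5) (ZMod 2))), w * N * w⁻¹ ∈ D := fun N hN => Subgroup.mem_centralizer_singleton_iff.mpr (by
    rw [← hw]
    calc w * N * w⁻¹ * (w * t * w⁻¹) = w * (N * t) * w⁻¹ := by group
      _ = w * (t * N) * w⁻¹ := by rw [htc N hN]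
      _ = w * t * w⁻¹ * (w * N * w⁻¹) := by group)
  have hle : ((w • U : Sylow 2 (Matrix.SpecialLinearGroup (Fin 5) (ZMod 2))) : Subgroup (Matrix.SpecialLinearGroup (Fin 5) (ZMod 2))) ≤ D := by
    rintro _ ⟨N, hN, rfl⟩; exact hUD N hN
  obtain ⟨d, hd⟩ := MulAction.exists_smul_eq D ((w • U).subtype hle) (T.mapSurjective (f := e.toMonoidHom) e.surjective)
  have hT' : ∀ y : (Subgroup.centralizer ({z} : Set G)), y ∈ (T : Subgroup (Subgroup.centralizer ({z} : Set G))) ↔ ∃ N ∈ (U : Subgroup (Matrix.SpecialLinearGroup (Fin 5) (ZMod 2))), (e y : (Matrix.SpecialLinearGroup (Fin 5) (ZMod 2))) = d * (w * N * w⁻¹) * (d : (Matrix.SpecialLinearGroup (Fin 5) (ZMod 2)))⁻¹ := by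
    intro y
    have h1 : y ∈ (T : Subgroup (Subgroup.centralizer ({z} : Set G))) ↔ e y ∈ ((T.mapSurjective (f := e.toMonoidHom) e.surjective : Sylow 2 D) : Subgroup D) :=
      (Subgroup.mem_map_iff_mem e.injective).symm
    rw [h1, ← hd]
    constructor
    · rintro ⟨⟨v, hv⟩, hvN, hve⟩
      obtain ⟨N, hN, rfl⟩ : v ∈ ((w • U : Sylow 2 (Matrix.SpecialLinearGroup (Fin 5) (ZMod 2))) : Subgroup (Matrix.SpecialLinearGroup (Fin 5) (ZMod 2))) := hvN
      exact ⟨N, hN, (congrArg Subtype.val hve).symm⟩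
    · rintro ⟨N, hN, hNe⟩
      exact ⟨⟨w * N * w⁻¹, hUD N hN⟩, (⟨N, hN, rfl⟩ : w * N * w⁻¹ ∈ ((w • U : Sylow 2 (Matrix.SpecialLinearGroup (Fin 5) (ZMod 2))) : Subgroup (Matrix.SpecialLinearGroup (Fin 5) (ZMod 2)))), Subtype.ext hNe.symm⟩
  have huniq : ∀ x y : (Subgroup.centralizer ({z} : Set G)), x ∈ (T : Subgroup (Subgroup.centralizer ({z} : Set G))) → y ∈ (T : Subgroup (Subgroup.centralizer ({z} : Set G))) → (∀ v ∈ (T : Subgroup (Subgroup.centralizer ({z} : Set G))), v * x = x * v) →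
      (∀ v ∈ (T : Subgroup (Subgroup.centralizer ({z} : Set G))), v * y = y * v) → x ≠ 1 → y ≠ 1 → x = y := by
    have key : ∀ x : (Subgroup.centralizer ({z} : Set G)), x ∈ (T : Subgroup (Subgroup.centralizer ({z} : Set G))) → (∀ v ∈ (T : Subgroup (Subgroup.centralizer ({z} : Set G))), v * x = x * v) → x ≠ 1 →
        (e x : (Matrix.SpecialLinearGroup (Fin 5) (ZMod 2))) = d * (w * t * w⁻¹) * (d : (Matrix.SpecialLinearGroup (Fin 5) (ZMod 2)))⁻¹ := by
      intro x hx hxc hx1
      obtain ⟨N, hN, hNe⟩ := (hT' x).mp hx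
      have hcN : ∀ N' ∈ (U : Subgroup (Matrix.SpecialLinearGroup (Fin 5) (ZMod 2))), N' * N = N * N' := fun N' hN' => by
        obtain ⟨v, hv⟩ := e.surjective (d * ⟨w * N' * w⁻¹, hUD N' hN'⟩ * d⁻¹)
        have hve : (e v : (Matrix.SpecialLinearGroup (Fin 5) (ZMod 2))) = d * (w * N' * w⁻¹) * (d : (Matrix.SpecialLinearGroup (Fin 5) (ZMod 2)))⁻¹ := by
          rw [hv, Subgroup.coe_mul, Subgroup.coe_mul, Subgroup.coe_inv]
        have h2 := congrArg (fun u => ((e u : D) : (Matrix.SpecialLinearGroup (Fin 5) (ZMod 2)))) (hxc v ((hT' v).mpr ⟨N', hN', hve⟩))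
        simp only [map_mul, Subgroup.coe_mul, hve, hNe] at h2
        have h3 : (d : (Matrix.SpecialLinearGroup (Fin 5) (ZMod 2))) * w * (N' * N) * ((d : (Matrix.SpecialLinearGroup (Fin 5) (ZMod 2))) * w)⁻¹ = (d : (Matrix.SpecialLinearGroup (Fin 5) (ZMod 2))) * w * (N * N') * ((d : (Matrix.SpecialLinearGroup (Fin 5) (ZMod 2))) * w)⁻¹ := by
          calc _ = (d : (Matrix.SpecialLinearGroup (Fin 5) (ZMod 2))) * (w * N' * w⁻¹) * (d : (Matrix.SpecialLinearGroup (Fin 5) (ZMod 2)))⁻¹ * ((d : (Matrix.SpecialLinearGroup (Fin 5) (ZMod 2))) * (w * N * w⁻¹) * (d : (Matrix.SpecialLinearGroup (Fin 5) (ZMod 2)))⁻¹) := by group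
            _ = _ := h2
            _ = _ := by group
        exact mul_left_cancel (mul_right_cancel h3)
      rcases hcenU N hN hcN with rfl | rfl
      · exact absurd (e.injective (Subtype.ext (hNe.trans (by simp)))) (fun h => hx1 (h.trans rfl))
      · exact hNe
    intro x y hx hy hxc hyc hx1 hy1
    exact e.injective (Subtype.ext ((key x hx hxc hx1).trans (key y hy hyc hy1).symm))
  -- conclude
  intro hdvd
  set Tm := (T : Subgroup (Subgroup.centralizer ({z} : Set G))).map (Subgroup.centralizer ({z} : Set G)).subtype with hTm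
  obtain ⟨P, hP⟩ := (T.2.map (Subgroup.centralizer ({z} : Set G)).subtype).exists_le_sylow
  have hne : Tm ≠ P := fun h => P.not_dvd_index (h ▸ hdvd)
  haveI : Group.IsNilpotent (P : Subgroup G) := P.2.isNilpotent
  have hlt : Tm.subgroupOf P < ⊤ := lt_top_iff_ne_top.mpr fun h =>
    hne (le_antisymm hP (Subgroup.subgroupOf_eq_top.mp h))
  obtain ⟨y, hyN, hyT⟩ := SetLike.exists_of_lt (normalizerCondition_of_isNilpotent _ hlt)
  have hzC : z ∈ (Subgroup.centralizer ({z} : Set G)) := Subgroup.mem_centralizer_singleton_iff.mpr rfl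
  have hz1 : (⟨z, hzC⟩ : (Subgroup.centralizer ({z} : Set G))) ≠ 1 := fun h => by
    have hz' : z = 1 := congrArg Subtype.val h
    rw [hz', orderOf_one] at hz; exact absurd hz (by norm_num)
  have hzcen : ∀ v : (Subgroup.centralizer ({z} : Set G)), v * ⟨z, hzC⟩ = ⟨z, hzC⟩ * v := fun v =>
    Subtype.ext (Subgroup.mem_centralizer_singleton_iff.mp v.2)
  have hzT : (⟨z, hzC⟩ : (Subgroup.centralizer ({z} : Set G))) ∈ (T : Subgroup (Subgroup.centralizer ({z} : Set G))) := by
    haveI : (Subgroup.zpowers (⟨z, hzC⟩ : (Subgroup.centralizer ({z} : Set G)))).Normal := ⟨fun n hn g => by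
      obtain ⟨k, rfl⟩ := hn
      have := ((show Commute g (⟨z, hzC⟩ : (Subgroup.centralizer ({z} : Set G))) from hzcen g).zpow_right k)
      rw [this.eq, mul_inv_cancel_right]; exact ⟨k, rfl⟩⟩
    exact Cfsg.Lib.Thompson.le_sylow_of_normal (p := 2) (IsPGroup.of_card (n := 1)
      (by rw [Nat.card_zpowers, Subgroup.orderOf_mk, hz, pow_one])) T (Subgroup.mem_zpowers _)
  have hnorm := Subgroup.mem_normalizer_iff.mp hyN
  have hconj : ∀ x : G, x ∈ Tm ↔ (y : G) * x * (y : G)⁻¹ ∈ Tm := fun x => by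
    constructor
    · intro hx
      exact Subgroup.mem_subgroupOf.mp ((hnorm ⟨x, hP hx⟩).mp (Subgroup.mem_subgroupOf.mpr hx))
    · intro hx
      have hxP : x ∈ (P : Subgroup G) := by
        have := mul_mem (mul_mem (inv_mem y.2) (hP hx)) y.2
        simpa [mul_assoc] using this
      exact Subgroup.mem_subgroupOf.mp ((hnorm ⟨x, hxP⟩).mpr (Subgroup.mem_subgroupOf.mpr hx))
  obtain ⟨zy, hzy, hzye⟩ := (hconj z).mp ⟨_, hzT, rfl⟩
  have hcen : ∀ v ∈ (T : Subgroup (Subgroup.centralizer ({z} : Set G))), v * zy = zy * v := fun v hv => by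
    obtain ⟨v', hv', hv'e⟩ := (hconj ((y : G)⁻¹ * v * y)).mpr (by
      rw [show (y : G) * ((y : G)⁻¹ * v * y) * (y : G)⁻¹ = v by group]; exact ⟨v, hv, rfl⟩)
    refine Subtype.ext ?_
    have h1 : (v' : G) * z = z * v' := congrArg Subtype.val (hzcen v')
    rw [show ((v' : (Subgroup.centralizer ({z} : Set G))) : G) = (y : G)⁻¹ * v * y from hv'e] at h1
    show (v : G) * (Subgroup.centralizer ({z} : Set G)).subtype zy = (Subgroup.centralizer ({z} : Set G)).subtype zy * v
    rw [hzye]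
    calc (v : G) * ((y : G) * z * (y : G)⁻¹) = (y : G) * ((y : G)⁻¹ * v * y * z) * (y : G)⁻¹ := by group
      _ = (y : G) * (z * ((y : G)⁻¹ * v * y)) * (y : G)⁻¹ := by rw [h1]
      _ = (y : G) * z * (y : G)⁻¹ * v := by group
  have hzy1 : zy ≠ 1 := fun h => by
    rw [h, map_one, eq_comm, mul_inv_eq_one, mul_eq_left] at hzye
    exact hz1 (Subtype.ext hzye)
  have heq := huniq zy ⟨z, hzC⟩ hzy hzT hcen (fun v _ => hzcen v) hzy1 hz1
  rw [heq] at hzye
  have hyC : (y : G) ∈ (Subgroup.centralizer ({z} : Set G)) := Subgroup.mem_centralizer_singleton_iff.mpr (by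
    conv_rhs => rw [show z = (y : G) * z * (y : G)⁻¹ from hzye, inv_mul_cancel_right])
  have hTeq := T.is_maximal' (Q := (P : Subgroup G).comap (Subgroup.centralizer ({z} : Set G)).subtype)
    (P.2.comap_of_injective _ (Subgroup.centralizer ({z} : Set G)).subtype_injective) (fun v hv => hP ⟨v, hv, rfl⟩)
  exact hyT (Subgroup.mem_subgroupOf.mpr ⟨⟨y, hyC⟩, hTeq.le y.2, rfl⟩)

end Cfsg.Agent.S1717
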