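import Cfsg.Statements.S1722
import Cfsg.Agent.LocalThree.HallJankoType.SylowFive
import Cfsg.Agent.LocalThree.HallJankoType.Glue

set_option autoImplicit false
open Cfsg

namespace Cfsg.Agent.S1722

/-- Sylow 5-structure of a group of Hall–Janko type (large-extraspecial hypothesis with Q of order 32, quotient Ω⁻(4, 2), z not weakly closed in Q, more than one class of involutions): a Sylow 5-subgroup P is its own centraliser, has order 25, its normaliser has order 300, and the subgroups of order 5 fall into exactly two conjugacy classes. -/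
theorem result {G : Type*} [Group G] [Finite G] (z : G) (hz : orderOf z = 2) (Q : Subgroup (Subgroup.centralizer ({z} : Set G))) [Q.Normal] (hF : Cfsg.generalizedFittingSubgroup (Subgroup.centralizer ({z} : Set G)) = Q) (hQ : Cfsg.IsExtraspecial 2 Q) (hcard : Nat.card Q = 2 ^ 5) (e : (Subgroup.centralizer ({z} : Set G)) ⧸ Q ≃* Cfsg.Omega (ZMod 2) (Cfsg.quadFormMinus 1 (ZMod 2) 1 1)) (hnwc : ∃ g : G, (∃ hq : g * z * g⁻¹ ∈ Subgroup.centralizer ({z} : Set G), (⟨g * z * g⁻¹, hq⟩ : Subgroup.centralizer ({z} : Set G)) ∈ Q) ∧ g * z * g⁻¹ ≠ z) (hcl : ∃ x y : G, orderOf x = 2 ∧ orderOf y = 2 ∧ ¬ IsConj x y) (P : Sylow 5 G) : Subgroup.centralizer ((P : Subgroup G) : Set G) = P ∧ Nat.card P = 25 ∧ Nat.card (Subgroup.normalizer ((P : Subgroup G) : Set G)) = 300 ∧ ∃ X Y : Subgroup G, Nat.card X = 5 ∧ Nat.card Y = 5 ∧ (∀ g : G, X.map (MulAut.conj g).toMonoidHom ≠ Y) ∧ ∀ W : Subgroup G, Nat.card W = 5 → ∃ g : G, W.map (MulAut.conj g).toMonoidHom =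 X ∨ W.map (MulAut.conj g).toMonoidHom = Y := by
  classical
  haveI : Fact (Nat.Prime 5) := ⟨by norm_num⟩
  obtain ⟨a, σ, H⟩ := Cfsg.Lib.HallJankoType.exists_hyp hz Q hF hQ hcard e hnwc hcl
  obtain ⟨h1, h2, h3, f₁, f₂, hf₁, hf₂, o₁, o₂, hne, hcov, -⟩ := H.sylow_five P
  refine ⟨h1, h2, h3, Subgroup.zpowers f₁, Subgroup.zpowers f₂, by rw [Nat.card_zpowers, o₁],
    by rw [Nat.card_zpowers, o₂], fun g => ?_, fun W hW => ?_⟩
  · rw [Cfsg.Lib.HallJankoType.map_conj_zpowers]; exact hne g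
  · obtain ⟨R, hR⟩ := (IsPGroup.of_card (n := 1) (by rw [hW, pow_one]) : IsPGroup 5 W).exists_le_sylow
    obtain ⟨d, rfl⟩ := MulAction.exists_smul_eq G P R
    have hle : W.map (MulAut.conj d⁻¹).toMonoidHom ≤ (P : Subgroup G) := by
      rintro _ ⟨x, hx, rfl⟩
      have h := hR hx
      rw [Sylow.coe_subgroup_smul, Subgroup.mem_pointwise_smul_iff_inv_smul_mem] at h
      simpa [MulAut.smul_def] using h
    obtain ⟨g, hg⟩ := hcov _ hle (by rw [Subgroup.card_map_of_injective (MulAut.conj d⁻¹).injective, hW])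
    refine ⟨g⁻¹ * d⁻¹, ?_⟩
    have key : ∀ f : G, Subgroup.zpowers (g * f * g⁻¹) = W.map (MulAut.conj d⁻¹).toMonoidHom →
        W.map (MulAut.conj (g⁻¹ * d⁻¹)).toMonoidHom = Subgroup.zpowers f := by
      intro f e'
      rw [← Cfsg.Lib.InvolCalc.map_conj_map, ← e', Cfsg.Lib.HallJankoType.map_conj_zpowers]
      congr 1
      group
    exact hg.imp (key f₁) (key f₂)

end Cfsg.Agent.S1722
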