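import Cfsg.Statements.S1724
import Cfsg.Agent.LocalThree.HallJankoType.SylowThree
import Cfsg.Agent.LocalThree.HallJankoType.Glue

set_option autoImplicit false
open Cfsg

namespace Cfsg.Agent.S1724

/-- In a group of Hall–Janko type (large-extraspecial hypothesis with Q of order 32, quotient Ω⁻(4, 2), z not weakly closed in Q, more than one class of involutions), a Sylow 7-subgroup is its own centraliser and its normaliser is non-abelian of order 42. -/
theorem result {G : Type*} [Group G] [Finite G] (z : G) (hz : orderOf z = 2) (Q : Subgroup (Subgroup.centralizer ({z} : Set G))) [Q.Normal] (hF : Cfsg.generalizedFittingSubgroup (Subgroup.centralizer ({z} : Set G)) = Q) (hQ : Cfsg.IsExtraspecial 2 Q) (hcard : Nat.card Q = 2 ^ 5) (e : (Subgroup.centralizer ({z} : Set G)) ⧸ Q ≃* Cfsg.Omega (ZMod 2) (Cfsg.quadFormMinus 1 (ZMod 2) 1 1)) (hnwc : ∃ g : G, (∃ hq : g * z * g⁻¹ ∈ Subgroup.centralizer ({z} : Set G), (⟨g * z * g⁻¹, hq⟩ : Subgroup.centralizer ({z} : Set G))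 ∈ Q) ∧ g * z * g⁻¹ ≠ z) (hcl : ∃ x y : G, orderOf x = 2 ∧ orderOf y = 2 ∧ ¬ IsConj x y) (D : Sylow 7 G) : Subgroup.centralizer ((D : Subgroup G) : Set G) = D ∧ Nat.card (Subgroup.normalizer ((D : Subgroup G) : Set G)) = 42 ∧ ¬ IsMulCommutative (Subgroup.normalizer ((D : Subgroup G) : Set G)) := by
  classical
  haveI : Fact (Nat.Prime 7) := ⟨by norm_num⟩
  haveI : Fact (Nat.Prime 3) := ⟨Nat.prime_three⟩
  obtain ⟨a, σ, H⟩ := Cfsg.Lib.HallJankoType.exists_hyp hz Q hF hQ hcard e hnwc hcl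
  obtain ⟨t, ht⟩ := H.exists_outer
  have hG := (H.card_eq ht).1
  have hD7 : Nat.card D = 7 := by
    rw [D.card_eq_multiplicity, hG, show (604800 : ℕ) = 7 ^ 1 * 86400 by norm_num,
      Nat.factorization_mul (by norm_num) (by norm_num), Finsupp.add_apply,
      Nat.Prime.factorization_pow (by norm_num : Nat.Prime 7), Finsupp.single_eq_same,
      Nat.factorization_eq_zero_of_not_dvd (n := 86400) (by norm_num)]
    norm_num
  obtain ⟨d', hd'⟩ := exists_prime_orderOf_dvd_card' (G := D) 7 (by rw [hD7])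
  set d : G := (d' : G) with hd
  have od : orderOf d = 7 := by rw [hd, Subgroup.orderOf_coe, hd']
  have hDd : Subgroup.zpowers d = (D : Subgroup G) :=
    Subgroup.eq_of_le_of_card_ge (Subgroup.zpowers_le.2 d'.2) (by rw [Nat.card_zpowers, od, hD7])
  obtain ⟨i, k, hC, hN, hcases⟩ := H.seven_cent od
  have hi : i = 0 := by
    by_contra hi
    obtain ⟨c, hc⟩ := exists_prime_orderOf_dvd_card' (G := Cfsg.Lib.HallJankoType.Cz d) 3
      (by rw [hC]; exact Dvd.dvd.mul_left (dvd_pow_self 3 hi) 7)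
    have oc : orderOf (c : G) = 3 := by rw [Subgroup.orderOf_coe, hc]
    have h7 : 7 ∣ Nat.card (Cfsg.Lib.HallJankoType.Cz (c : G)) := by
      rw [← od, ← Subgroup.orderOf_mk d (Cfsg.Lib.HallJankoType.mem_Cz.2
        (Cfsg.Lib.HallJankoType.mem_Cz.1 c.2).symm : d ∈ Cfsg.Lib.HallJankoType.Cz (c : G))]
      exact _root_.orderOf_dvd_natCard _
    obtain ⟨P⟩ : Nonempty (Sylow 3 G) := inferInstance
    obtain ⟨-, -, -, x, y, -, -, -, hx, hy, hall⟩ := H.sylow_three P
    rcases hall _ oc with r | r <;> obtain ⟨g, hg⟩ := isConj_iff.1 r.symm <;>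
      rw [← hg, Cfsg.Lib.HallJankoType.card_Cz_conj] at h7
    · rw [hx] at h7; norm_num at h7
    · rcases hy with r' | r' <;> rw [r'] at h7 <;> norm_num at h7
  subst hi
  have hk : k = 6 := by omega
  subst hk
  rw [pow_zero, mul_one] at hC
  rw [hC, hDd] at hN
  have hcent : Subgroup.centralizer ((D : Subgroup G) : Set G) = Cfsg.Lib.HallJankoType.Cz d := by
    rw [← hDd]
    ext g
    constructor
    · exact fun hg => Cfsg.Lib.HallJankoType.mem_Cz.2
        (Subgroup.mem_centralizer_iff.1 hg d (Subgroup.mem_zpowers d)).symm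
    · intro hg
      refine Subgroup.mem_centralizer_iff.2 fun y hy => ?_
      obtain ⟨j, rfl⟩ := Subgroup.mem_zpowers_iff.1 hy
      exact ((Cfsg.Lib.HallJankoType.mem_Cz.1 hg).zpow_right j).eq.symm
  have hCD : Subgroup.centralizer ((D : Subgroup G) : Set G) = D := by
    rw [hcent, ← hDd]
    exact (Subgroup.eq_of_le_of_card_ge
      (Subgroup.zpowers_le.2 (Cfsg.Lib.HallJankoType.mem_Cz.2 (Commute.refl d)))
      (by rw [Nat.card_zpowers, od, hC])).symm
  refine ⟨hCD, hN, fun hab => ?_⟩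
  have hle : Subgroup.normalizer ((D : Subgroup G) : Set G) ≤ (D : Subgroup G) := by
    intro g hg
    rw [← hCD]
    refine Subgroup.mem_centralizer_iff.2 fun y hy => ?_
    exact congrArg Subtype.val (hab.is_comm.comm ⟨y, Subgroup.le_normalizer hy⟩ ⟨g, hg⟩)
  have := Subgroup.card_le_of_le hle
  rw [hN, hD7] at this
  omega

end Cfsg.Agent.S1724
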