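import Cfsg.Statements.S1725
import Cfsg.Agent.SuzukiType.ElevenLocal.Transfer

set_option autoImplicit false
open Cfsg

namespace Cfsg.Agent.S1725

/-- A 3-local step in the uniqueness proof for the sporadic Suzuki group: let G satisfy the large-extraspecial hypothesis with Q of order 2 ^ 7, quotient Ω⁻(6, 2) and z not weakly closed in Q, and let X be a subgroup of order 3 of the centraliser C of z with the commutator subgroup of Q and X of order 8 and non-abelian (a quaternion group). Then for any Sylow 3-subgroup P of the normaliser of X in G, P is a Sylow 3-subgroup of G (its index in G is prime to 3), and P contains an elementary abelian subgroup A of order 3 ^ 5 with C_G(A) = A and N_G(A) / A isomorphic to the Mathieu group M₁₁. -/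
theorem result {G : Type*} [Group G] [Finite G] (z : G) (hz : orderOf z = 2) (Q : Subgroup (Subgroup.centralizer ({z} : Set G))) [Q.Normal] (hF : Cfsg.generalizedFittingSubgroup (Subgroup.centralizer ({z} : Set G)) = Q) (hQ : Cfsg.IsExtraspecial 2 Q) (hcard : Nat.card Q = 2 ^ 7) (e : (Subgroup.centralizer ({z} : Set G)) ⧸ Q ≃* Cfsg.Omega (ZMod 2) (Cfsg.quadFormMinus 2 (ZMod 2) 1 1)) (hnwc : ∃ g : G, (∃ hq : g * z * g⁻¹ ∈ Subgroup.centralizer ({z} : Set G), (⟨g * z * g⁻¹, hq⟩ : Subgroup.centralizer ({z} : Set G)) ∈ Q) ∧ g * z * g⁻¹ ≠ z) (X : Subgroup (Subgroup.centralizer ({z} : Set G))) (hX : Nat.card X = 3) (hQX : Nat.card ↥⁅Q, X⁆ = 8) (hQXna : ¬ IsMulCommutative ↥⁅Q, X⁆) (P : Sylow 3 ↥(Subgroup.normalizer ((X.map (Subgroup.subtype (Subgroup.centralizer ({z} : Set G))) : Subgroup G) : Set G))) : ¬ 3 ∣ (((P : Subgroup ↥(Subgroup.normalizer ((X.map (Subgroup.subtype (Subgroup.centralizer ({z} : Set G))) : Subgroup G) : Set G))).map (Subgroup.subtype (Subgroup.normalizer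 ((X.map (Subgroup.subtype (Subgroup.centralizer ({z} : Set G))) : Subgroup G) : Set G)))).index) ∧ ∃ A : Subgroup G, A ≤ (P : Subgroup ↥(Subgroup.normalizer ((X.map (Subgroup.subtype (Subgroup.centralizer ({z} : Set G))) : Subgroup G) : Set G))).map (Subgroup.subtype (Subgroup.normalizer ((X.map (Subgroup.subtype (Subgroup.centralizer ({z} : Set G))) : Subgroup G) : Set G))) ∧ Cfsg.IsElementaryAbelian 3 A ∧ Nat.card A = 3 ^ 5 ∧ Subgroup.centralizer (A : Set G) = A ∧ ∃ _ : (A.subgroupOf (Subgroup.normalizer (A : Set G))).Normal, Cfsg.Spor.IsoM11 (↥(Subgroup.normalizer (A : Set G)) ⧸ A.subgroupOf (Subgroup.normalizer (A : Set G))) := by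
  obtain ⟨c, hcQ⟩ := Cfsg.Lib.SuzukiType.exists_ctx_map hz Q hF hQ hcard e hnwc
  haveI : Fact (Nat.Prime 3) := ⟨Nat.prime_three⟩
  obtain ⟨⟨w, hw⟩, how⟩ := exists_prime_orderOf_dvd_card' 3 (show 3 ∣ Nat.card X by rw [hX])
  rw [Subgroup.orderOf_mk] at how
  set x : G := (w : G) with hx
  have hx3 : orderOf x = 3 := by rw [hx, Subgroup.orderOf_coe, how]
  have hxz : Commute x z := Subgroup.mem_centralizer_singleton_iff.mp w.2
  have hXw : X = Subgroup.zpowers w := by
    symm
    refine Subgroup.eq_of_le_of_card_ge (Subgroup.zpowers_le.mpr hw) ?_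
    rw [hX, Nat.card_zpowers, how]
  have hXm : X.map (Subgroup.subtype (Subgroup.centralizer ({z} : Set G))) = Subgroup.zpowers x := by
    rw [hXw, MonoidHom.map_zpowers]
    rfl
  have hQX' : (⁅Q, X⁆).map (Subgroup.subtype (Subgroup.centralizer ({z} : Set G))) = ⁅c.Q, Subgroup.zpowers x⁆ := by
    rw [Subgroup.map_commutator, hXm, hcQ]
  obtain ⟨T, hTx, -⟩ := Cfsg.Lib.SuzukiType.ThreeU43.exists_three c hx3 hxz (by
    rw [← hQX', Subgroup.card_map_of_injective (Subgroup.subtype_injective _), hQX]) (by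
    intro hcomm
    refine hQXna ⟨⟨fun a b => Subtype.ext (Subtype.ext ?_)⟩⟩
    exact (hcomm _ (hQX' ▸ ⟨_, a.2, rfl⟩) _ (hQX' ▸ ⟨_, b.2, rfl⟩)).eq)
  have h7 : 7 ∣ Nat.card ↥(Subgroup.centralizer ({T.y} : Set G)) := T.seven_dvd
  exact c.eleven T.y3 h7 _ (by rw [hXm, hTx]) P

end Cfsg.Agent.S1725
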