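import Cfsg.Statements.S1743
import Cfsg.Agent.GTwoType.Fusion
import Cfsg.Agent.GTwoType.Sylow

set_option autoImplicit false
open Cfsg

namespace Cfsg.Agent.S1743

/-- Let G be a finite simple group whose Sylow 2-subgroups are isomorphic to a Sylow 2-subgroup of the Chevalley group of type G₂ over a finite field of odd order, and let S be a Sylow 2-subgroup of G. Then either all involutions of G are conjugate, or S has order 64 and the involutions of G form exactly two conjugacy classes. -/
theorem result {G : Type*} [Group G] [Finite G] [IsSimpleGroup G]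
    {F : Type*} [Field F] [Fintype F] (hF : Odd (Fintype.card F)) (S : Sylow 2 G) (P : Sylow 2 ↥(Cfsg.Lie.chevG2.group F))
    (hS : Nonempty (↥(S : Subgroup G) ≃* ↥(P : Subgroup ↥(Cfsg.Lie.chevG2.group F)))) :
    (∀ x y : G, orderOf x = 2 → orderOf y = 2 → IsConj x y) ∨
      (Nat.card ↥(S : Subgroup G) = 64 ∧ ∃ x y : G, orderOf x = 2 ∧ orderOf y = 2 ∧ ¬ IsConj x y ∧
        ∀ z : G, orderOf z = 2 → IsConj z x ∨ IsConj z y) := by
  classical
  obtain ⟨a, ha, ⟨e⟩⟩ := Cfsg.Lib.GTwoType.SylTwo.sylow_model hF P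
  obtain ⟨f⟩ := hS
  refine Cfsg.Lib.GTwoType.Typed.classes_main ⟨S, e.trans f.symm, ha⟩ fun hG => ?_
  haveI := hG
  letI : CommGroup G := { (inferInstance : Group G) with mul_comm := fun x y => mul_comm' x y }
  have hp : (Nat.card G).Prime := IsSimpleGroup.prime_card
  have hd : Nat.card ↥(S : Subgroup G) ∣ Nat.card G := Subgroup.card_subgroup_dvd_card _
  rw [Nat.card_congr (f.trans e.symm).toEquiv, Cfsg.Lib.GTwoType.Mdl.card] at hd
  haveI : NeZero (2 ^ a) := ⟨by positivity⟩
  rcases hp.eq_one_or_self_of_dvd _ hd with h | h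
  · omega
  · have h2 : 2 ∣ Nat.card G := h ▸ dvd_mul_of_dvd_left (by norm_num) _
    have := ((Nat.prime_dvd_prime_iff_eq Nat.prime_two hp).1 h2)
    have : 1 ≤ (2 ^ a) ^ 2 := Nat.one_le_pow _ _ (by positivity)
    omega

end Cfsg.Agent.S1743
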