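import Cfsg.Statements.S1753

set_option autoImplicit false
universe u
open Cfsg

namespace Cfsg.Agent.S1753

/-- Let K be any property of groups. (1) If G is a minimal counterexample relative to K — a finite non-abelian simple group not satisfying K such that every finite non-abelian simple group of smaller order satisfies K — then every proper subgroup of G is a K-group (all its non-abelian simple sections satisfy K), since such sections have smaller order than G. (2) Consequently (induction on the order), if every finite non-abelian simple group all of whose proper subgroups are K-groups satisfies K, then every finite non-abelian simple group satisfies K. -/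
theorem result (K : ∀ (X : Type u) [Group X], Prop) :
    (∀ (G : Type u) [Group G], Cfsg.IsMinCounterexampleWith K G → Cfsg.IsKProperWith K G) ∧
      ((∀ (X : Type u) [Group X] [Finite X], IsSimpleGroup X → ¬ IsMulCommutative X → Cfsg.IsKProperWith K X → K X) →
        ∀ (G : Type u) [Group G] [Finite G], IsSimpleGroup G → ¬ IsMulCommutative G → K G) := by
  open Subgroup in
  exact by
    have key : ∀ (G : Type u) [Group G] [Finite G],
        (∀ (X : Type u) [Group X] [Finite X], IsSimpleGroup X → ¬ IsMulCommutative X → Nat.card X < Nat.card G → K X) →
        Cfsg.IsKProperWith K G := by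
      intro G _ _ hm H hH L N _ hs hn
      refine hm _ hs hn ?_
      calc Nat.card (↥L ⧸ N) ≤ Nat.card L := Nat.le_of_dvd Nat.card_pos ⟨Nat.card N, (card_eq_card_quotient_mul_card_subgroup N)⟩
        _ ≤ Nat.card H := Nat.card_le_card_of_injective _ L.subtype_injective
        _ < Nat.card G := lt_of_le_of_ne (Nat.card_le_card_of_injective _ H.subtype_injective)
            fun h => hH ((card_eq_iff_eq_top H).1 h)
    refine ⟨fun G _ h => @key G _ h.1 h.2.2.2.2, fun hstep => ?_⟩
    suffices h : ∀ (n : ℕ) (G : Type u) [Group G] [Finite G], Nat.card G = n → IsSimpleGroup G → ¬ IsMulCommutative G → K G from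
      fun G _ _ => h _ G rfl
    intro n
    induction n using Nat.strong_induction_on with
    | _ n ih =>
      intro G _ _ hn hs hc
      exact hstep G hs hc (key G fun X _ _ hs' hc' hlt => ih _ (hn ▸ hlt) X rfl hs' hc')

end Cfsg.Agent.S1753
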