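import Cfsg.Statements.S1756
import Cfsg.Agent.PGroups.Basic

set_option autoImplicit false
open Cfsg

namespace Cfsg.Agent.S1756

/-- Let Q be an extraspecial 2-subgroup of the finite group G (special with centre of order 2) and t an involution of G normalizing Q such that the centralizer of t in Q has index at most 2 in Q. Then t lies in the product of Q with the centralizer of Q. -/
theorem result {G : Type*} [Group G] [Finite G] (Q : Subgroup G)
    (hQ : Cfsg.IsExtraspecial 2 ↥Q) (t : G) (ht : orderOf t = 2) (htN : t ∈ Subgroup.normalizer (Q : Set G))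
    (hi : (Subgroup.centralizer ({t} : Set G) ⊓ Q).relIndex Q ≤ 2) :
    t ∈ Q ⊔ Subgroup.centralizer (Q : Set G) := by
  classical
  haveI : Fact (Nat.Prime 2) := ⟨Nat.prime_two⟩
  obtain ⟨⟨hp, hfr, hcom⟩, hZ2⟩ := hQ
  set Z := Subgroup.center Q with hZ
  set C : Subgroup Q := (Subgroup.centralizer ({t} : Set G)).subgroupOf Q with hC
  have hidx : C.index ≤ 2 := by
    have : C.index = (Subgroup.centralizer ({t} : Set G) ⊓ Q).relIndex Q := by
      rw [Subgroup.inf_relIndex_right]; rfl
    omega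
  have htt : t * t = 1 := by rw [← sq, ← ht]; exact pow_orderOf_eq_one t
  have hmemQ : ∀ y : Q, t * (y : G) * t⁻¹ ∈ Q := fun y =>
    (Subgroup.mem_normalizer_iff.1 htN y).1 y.2
  by_cases htop : C = ⊤
  · refine Subgroup.mem_sup_right (Subgroup.mem_centralizer_iff.2 fun y hy => ?_)
    have : (⟨y, hy⟩ : Q) ∈ C := htop ▸ Subgroup.mem_top _
    exact Subgroup.mem_centralizer_singleton_iff.1 this
  have hidx2 : C.index = 2 := by
    have h1 : C.index ≠ 1 := fun h => htop (Subgroup.index_eq_one.1 h)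
    have h0 := Subgroup.index_ne_zero_of_finite (H := C)
    omega
  have hCfix : ∀ c ∈ C, t * (c : G) * t⁻¹ = c := fun c hc =>
    mul_inv_eq_iff_eq_mul.2 (Subgroup.mem_centralizer_singleton_iff.1 hc).symm
  haveI hCn : C.Normal := Subgroup.normal_of_index_eq_two hidx2
  have hsq : ∀ y : Q, y * y ∈ Z := fun y => by
    rw [← hfr, ← sq]; exact Cfsg.Lib.PGroups.pow_mem_frattini hp y
  have hZC : Z ≤ C := by
    rw [← hfr]
    refine frattini_le_coatom ⟨htop, fun K hK => ?_⟩
    have hd := Subgroup.index_dvd_of_le hK.le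
    rw [hidx2] at hd
    rcases (Nat.dvd_prime Nat.prime_two).1 hd with h | h
    · exact Subgroup.index_eq_one.1 h
    · have h1 := K.card_mul_index
      have h2 := C.card_mul_index
      rw [h] at h1
      rw [hidx2] at h2
      exact absurd (Subgroup.eq_of_le_of_card_ge hK.le (by omega)) hK.ne
  obtain ⟨q, -, hq⟩ := SetLike.exists_of_lt (lt_top_iff_ne_top.2 htop)
  set u : Q := ⟨t * q * t⁻¹, hmemQ q⟩ * q⁻¹ with hu
  have huq : (t * (q : G) * t⁻¹) = (u : G) * q := by
    show t * (q : G) * t⁻¹ = t * q * t⁻¹ * (q : G)⁻¹ * q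
    rw [inv_mul_cancel_right]
  have hgen : ∀ y : Q, y ∈ C ∨ q⁻¹ * y ∈ C := fun y => by
    by_cases hy : y ∈ C
    · exact Or.inl hy
    · refine Or.inr ((Subgroup.mul_mem_iff_of_index_two hidx2).2 ?_)
      simp [hq, hy]
  have hucent : ∀ c ∈ C, u * c = c * u := by
    intro c hc
    have hd : q⁻¹ * c * q ∈ C := by simpa using hCn.conj_mem c hc q⁻¹
    have h1 : t * ((q : G) * ((q⁻¹ * c * q : Q) : G) * (q : G)⁻¹) * t⁻¹ =
        ((u : G) * q) * ((q⁻¹ * c * q : Q) : G) * ((u : G) * q)⁻¹ := by
      rw [← huq]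
      conv_rhs => rw [← hCfix _ hd]
      simp [mul_assoc]
    have h2 : (q : G) * ((q⁻¹ * c * q : Q) : G) * (q : G)⁻¹ = c := by simp [mul_assoc]
    rw [h2, hCfix c hc] at h1
    have h4 : (u : G) * c * (u : G)⁻¹ =
        ((u : G) * q) * ((q⁻¹ * c * q : Q) : G) * ((u : G) * q)⁻¹ := by
      rw [← h2]; simp [mul_assoc]
    have h3 : (c : G) = u * c * (u : G)⁻¹ := h1.trans h4.symm
    refine Subtype.ext ?_
    show (u : G) * c = c * u
    conv_rhs => rw [h3]
    simp
  have huC : u ∈ C := by
    by_contra huC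
    have hcenu : u ∈ Z := by
      refine Subgroup.mem_center_iff.2 fun y => ?_
      by_cases hy : y ∈ C
      · exact (hucent y hy).symm
      · have hyu : u⁻¹ * y ∈ C := (Subgroup.mul_mem_iff_of_index_two hidx2).2 (by simp [huC, hy])
        have h1 := hucent _ hyu
        rw [mul_inv_cancel_left] at h1
        calc y * u = u * (u⁻¹ * y) * u := by rw [mul_inv_cancel_left]
          _ = u * ((u⁻¹ * y) * u) := by rw [mul_assoc]
          _ = u * y := by rw [← h1]
    exact huC (hZC hcenu)
  have hu2 : u * u = 1 := by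
    refine Subtype.ext ?_
    have h1 : t * (t * (q : G) * t⁻¹) * t⁻¹ = (q : G) := by
      have hti : t⁻¹ = t := inv_eq_of_mul_eq_one_right htt
      rw [hti]; simp [← mul_assoc, htt]; simp [mul_assoc, htt]
    rw [huq, show t * ((u : G) * q) * t⁻¹ = (t * u * t⁻¹) * (t * q * t⁻¹) by simp [mul_assoc],
      hCfix u huC, huq, ← mul_assoc] at h1
    show (u : G) * u = 1
    exact mul_eq_right.1 h1
  have huqc : u * q = q * u := by
    have h1 : t * ((q : G) * q) * t⁻¹ = q * q := hCfix (q * q) (hZC (hsq q))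
    have h2 : ((u : G) * q) * ((u : G) * q) = q * q := by
      rw [← huq]; rw [← h1]; simp [mul_assoc]
    refine Subtype.ext ?_
    show (u : G) * q = q * u
    have h3 : (u : G) * q * u = q := mul_right_cancel (b := (q : G)) (by rw [mul_assoc]; exact h2)
    have h4 : (u : G) * u = 1 := congrArg Subtype.val hu2
    calc (u : G) * q = (u : G) * q * u * u := by rw [mul_assoc _ (u : G) u, h4, mul_one]
      _ = q * u := by rw [h3]
  have huZ : u ∈ Z := by
    refine Subgroup.mem_center_iff.2 fun y => ?_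
    rcases hgen y with hy | hy
    · exact (hucent y hy).symm
    · have h1 := hucent _ hy
      calc y * u = q * ((q⁻¹ * y) * u) := by simp [mul_assoc]
        _ = q * (u * (q⁻¹ * y)) := by rw [h1]
        _ = u * y := by rw [← mul_assoc, ← huqc]; simp [mul_assoc]
  open scoped commutatorElement in
  have hstep : ∀ (H : Subgroup Q) (x : Q),
      Nat.card ↥(Subgroup.centralizer (H : Set Q)) ≤
        2 * Nat.card ↥(Subgroup.centralizer (H : Set Q) ⊓ Subgroup.centralizer ({x} : Set Q)) := by
    intro H x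
    set K := Subgroup.centralizer (H : Set Q)
    have hmem : ∀ y : Q, ⁅x, y⁆ ∈ Z := fun y => by
      rw [← hcom]; exact Subgroup.commutator_mem_commutator (Subgroup.mem_top x) (Subgroup.mem_top y)
    let f : K →* Z := MonoidHom.mk' (fun y => ⟨⁅x, (y : Q)⁆, hmem y⟩) fun a b => Subtype.ext (by
      show ⁅x, (a : Q) * b⁆ = ⁅x, (a : Q)⁆ * ⁅x, (b : Q)⁆
      have hc : (a : Q) * ⁅x, (b : Q)⁆ = ⁅x, (b : Q)⁆ * a := Subgroup.mem_center_iff.1 (hmem b) a
      calc ⁅x, (a : Q) * b⁆ = ⁅x, (a : Q)⁆ * ((a : Q) * ⁅x, (b : Q)⁆ * (a : Q)⁻¹) := by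
            simp [commutatorElement_def, mul_assoc]
        _ = _ := by rw [hc, mul_inv_cancel_right])
    have hker : f.ker = (Subgroup.centralizer ({x} : Set Q)).subgroupOf K := by
      ext y
      rw [MonoidHom.mem_ker, Subgroup.mem_subgroupOf, Subgroup.mem_centralizer_singleton_iff]
      constructor
      · intro h; exact (commutatorElement_eq_one_iff_mul_comm.1 (congrArg Subtype.val h)).symm
      · exact fun h => Subtype.ext (commutatorElement_eq_one_iff_mul_comm.2 h.symm)
    rw [← f.ker.card_mul_index, Subgroup.index_ker, hker, mul_comm]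
    refine Nat.mul_le_mul ((Subgroup.card_le_card_group _).trans hZ2.le) (le_of_eq ?_)
    rw [← Subgroup.inf_subgroupOf_left]
    exact Nat.card_congr (Subgroup.subgroupOfEquivOfLe inf_le_left).toEquiv
  obtain ⟨H, hZH, hH⟩ := Finite.exists_le_maximal
    (p := fun H : Subgroup Q => H ≤ C ∧
      Nat.card Q * 2 ≤ Nat.card ↥(Subgroup.centralizer (H : Set Q)) * Nat.card H) (a := Z)
    ⟨hZC, by
      rw [show Subgroup.centralizer (Z : Set Q) = ⊤ from eq_top_iff.2 fun y _ =>
        Subgroup.mem_centralizer_iff.2 fun w hw => (Subgroup.mem_center_iff.1 hw y).symm,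
        Subgroup.card_top, hZ2]⟩
  obtain ⟨hHC, hHcard⟩ := hH.prop
  have hHeq : H = C := by
    by_contra hne
    obtain ⟨x, hxC, hxH⟩ := SetLike.exists_of_lt (lt_of_le_of_ne hHC hne)
    set H' := H ⊔ Subgroup.zpowers x with hH'
    refine hxH (hH.le_of_ge (y := H') ⟨sup_le hHC (Subgroup.zpowers_le.2 hxC), ?_⟩ le_sup_left
      (Subgroup.mem_sup_right (Subgroup.mem_zpowers x)))
    have hdbl : 2 * Nat.card H ≤ Nat.card H' := by
      obtain ⟨k, hk⟩ := Subgroup.card_dvd_of_le (le_sup_left : H ≤ H')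
      have hne1 : k ≠ 1 := fun h => hxH (by
        have := Subgroup.eq_of_le_of_card_ge (le_sup_left : H ≤ H') (by rw [hk, h, mul_one])
        rw [this]; exact Subgroup.mem_sup_right (Subgroup.mem_zpowers x))
      have hne0 : k ≠ 0 := fun h => by
        rw [h, mul_zero] at hk; exact (Nat.card_pos (α := H')).ne' hk
      rw [hk, mul_comm 2]
      exact Nat.mul_le_mul le_rfl (by omega)
    have hle : Subgroup.centralizer (H : Set Q) ⊓ Subgroup.centralizer ({x} : Set Q) ≤
        Subgroup.centralizer (H' : Set Q) := by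
      rw [Subgroup.le_centralizer_iff]
      refine sup_le ?_ (Subgroup.zpowers_le.2 ?_)
      · rw [Subgroup.le_centralizer_iff]; exact inf_le_left
      · exact Subgroup.mem_centralizer_iff.2 fun y hy => Subgroup.mem_centralizer_singleton_iff.1 hy.2
    refine hHcard.trans ((Nat.mul_le_mul (hstep H x) le_rfl).trans ?_)
    rw [mul_comm 2, mul_assoc]
    exact Nat.mul_le_mul (Subgroup.card_le_of_le hle) hdbl
  subst hHeq
  obtain ⟨a, ha, haZ⟩ : ∃ a ∈ Subgroup.centralizer (C : Set Q), a ∉ Z := by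
    by_contra hall
    push Not at hall
    have h1 := Subgroup.card_le_of_le (show Subgroup.centralizer (C : Set Q) ≤ Z from hall)
    rw [hZ2] at h1
    have h2 := C.card_mul_index
    rw [hidx2] at h2
    have h3 : 0 < Nat.card C := Nat.card_pos
    have := Nat.mul_le_mul_right (Nat.card C) h1
    omega
  have hu1 : u ≠ 1 := fun h => hq (Subgroup.mem_subgroupOf.2 (Subgroup.mem_centralizer_singleton_iff.2 (by
    rw [h, OneMemClass.coe_one, one_mul, mul_inv_eq_iff_eq_mul] at huq
    exact huq.symm)))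
  open scoped commutatorElement in
  have hau : ⁅a, q⁆ = u := by
    have hne : ⁅a, q⁆ ≠ 1 := by
      intro h
      apply haZ
      have hc := commutatorElement_eq_one_iff_mul_comm.1 h
      refine Subgroup.mem_center_iff.2 fun y => ?_
      rcases hgen y with hy | hy
      · exact Subgroup.mem_centralizer_iff.1 ha y hy
      · have h1 := Subgroup.mem_centralizer_iff.1 ha _ hy
        calc y * a = q * ((q⁻¹ * y) * a) := by simp [mul_assoc]
          _ = q * (a * (q⁻¹ * y)) := by rw [h1]
          _ = a * y := by rw [← mul_assoc, ← hc]; simp [mul_assoc]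
    have hmem : ⁅a, q⁆ ∈ Z := by
      rw [← hcom]; exact Subgroup.commutator_mem_commutator (Subgroup.mem_top a) (Subgroup.mem_top q)
    obtain ⟨v1, v2, hv, hall⟩ := Nat.card_eq_two_iff.1 hZ2
    have key : ∀ w : Z, w ≠ 1 → ∀ w' : Z, w' ≠ 1 → w = w' := by
      intro w hw w' hw'
      have e := fun r : Z => (show r = v1 ∨ r = v2 by simpa using hall.ge (Set.mem_univ r))
      rcases e 1 with h | h <;> rcases e w with h' | h' <;> rcases e w' with h'' | h'' <;> subst_vars <;>
        first | rfl | exact absurd rfl hw | exact absurd rfl hw'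
    exact congrArg Subtype.val (key ⟨_, hmem⟩ (fun h => hne (congrArg Subtype.val h)) ⟨u, huZ⟩
      (fun h => hu1 (congrArg Subtype.val h)))
  have hmem : (a : G)⁻¹ * t ∈ Subgroup.centralizer (Q : Set G) := by
    have haq : t * (q : G) * t⁻¹ = a * q * (a : G)⁻¹ := by
      rw [huq, ← hau]
      show (a : G) * q * (a : G)⁻¹ * (q : G)⁻¹ * q = _
      rw [inv_mul_cancel_right]
    have hcq : ((a : G)⁻¹ * t) * q = q * ((a : G)⁻¹ * t) := by
      calc ((a : G)⁻¹ * t) * q = (a : G)⁻¹ * (t * q * t⁻¹) * t := by simp [mul_assoc]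
        _ = q * ((a : G)⁻¹ * t) := by rw [haq]; simp [mul_assoc]
    have hcc : ∀ c ∈ C, ((a : G)⁻¹ * t) * (c : Q) = (c : Q) * ((a : G)⁻¹ * t) := by
      intro c hc
      have h1 : t * (c : G) = c * t := (Subgroup.mem_centralizer_singleton_iff.1 hc).symm
      have h2 : (a : G)⁻¹ * c = c * (a : G)⁻¹ :=
        congrArg Subtype.val (show Commute c a from Subgroup.mem_centralizer_iff.1 ha c hc).inv_right.eq.symm
      rw [mul_assoc, h1, ← mul_assoc, h2, mul_assoc]
    refine Subgroup.mem_centralizer_iff.2 fun y hy => ?_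
    rcases hgen ⟨y, hy⟩ with hy' | hy'
    · exact (hcc _ hy').symm
    · have h1 := hcc _ hy'
      have hq' : Commute ((a : G)⁻¹ * t) ((q : G) * ((q⁻¹ * ⟨y, hy⟩ : Q) : G)) :=
        Commute.mul_right hcq h1
      simpa [mul_assoc] using hq'.eq.symm
  have := mul_mem (Subgroup.mem_sup_left (T := Subgroup.centralizer (Q : Set G)) a.2) (Subgroup.mem_sup_right (S := Q) hmem)
  rwa [mul_inv_cancel_left] at this

end Cfsg.Agent.S1756
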