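import Cfsg.Statements.S1757
import Cfsg.Agent.Coprime.Action

set_option autoImplicit false
open Cfsg
open scoped Pointwise

namespace Cfsg.Agent.S1757

/-- Let p be a prime and A, B p-subgroups of the finite group G, each of which meets every conjugate of itself other than itself trivially. Suppose the order of A is at most that of B, A and B intersect trivially, and B normalizes A. Then A and B commute elementwise. -/
theorem result {G : Type*} [Group G] [Finite G] (p : ℕ) [Fact p.Prime] (A B : Subgroup G)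
    (hA : IsPGroup p ↥A) (hB : IsPGroup p ↥B)
    (hAti : ∀ g : G, A.map (MulAut.conj g).toMonoidHom = A ∨ A.map (MulAut.conj g).toMonoidHom ⊓ A = ⊥)
    (hBti : ∀ g : G, B.map (MulAut.conj g).toMonoidHom = B ∨ B.map (MulAut.conj g).toMonoidHom ⊓ B = ⊥)
    (hle : Nat.card ↥A ≤ Nat.card ↥B) (hAB : A ⊓ B = ⊥) (hN : B ≤ Subgroup.normalizer (A : Set G)) : ⁅A, B⁆ = ⊥ := by
  by_contra hne
  have hBA := hN
  have hkey : ¬ A ≤ Subgroup.normalizer (B : Set G) := fun hAB' => hne (by
    rw [eq_bot_iff, ← hAB]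
    refine le_inf (Cfsg.Lib.Coprime.commutator_le_of_le_normalizer hBA) ?_
    rw [Subgroup.commutator_comm]
    exact Cfsg.Lib.Coprime.commutator_le_of_le_normalizer hAB')
  set P := A ⊔ B with hPdef
  set NB := Subgroup.normalizer (B : Set G) with hNB
  set A0 := A ⊓ NB with hA0
  set Q := P ⊓ NB with hQ
  have hP : IsPGroup p P := hA.to_sup_of_normal_left' hB hN
  have hPmem : ∀ x ∈ P, ∃ a ∈ A, ∃ b ∈ B, x = a * b := by
    intro x hx
    have h1 : x ∈ (A : Set G) * (B : Set G) := by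
      rw [← Subgroup.coe_mul_of_right_le_normalizer_left A B hN]
      exact hx
    obtain ⟨a, ha, b, hb, hab⟩ := Set.mem_mul.1 h1
    exact ⟨a, ha, b, hb, hab.symm⟩
  have hQset : (Q : Set G) ⊆ (A0 : Set G) * (B : Set G) := by
    intro x hx
    obtain ⟨a, ha, b, hb, rfl⟩ := hPmem x hx.1
    refine Set.mem_mul.2 ⟨a, Subgroup.mem_inf.2 ⟨ha, ?_⟩, b, hb, rfl⟩
    have := NB.mul_mem hx.2 (NB.inv_mem (Subgroup.le_normalizer hb))
    rwa [mul_inv_cancel_right] at this
  have hQcard : Nat.card Q ≤ Nat.card A0 * Nat.card B :=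
    (Nat.card_mono (Set.toFinite _) hQset).trans Set.natCard_mul_le
  have hQlt : Q.subgroupOf P < ⊤ := by
    rw [lt_top_iff_ne_top, ne_eq, Subgroup.subgroupOf_eq_top]
    exact fun h => hkey (le_sup_left.trans (h.trans inf_le_right))
  haveI := hP.isNilpotent
  obtain ⟨x, hx, hxQ⟩ := SetLike.exists_of_lt (Group.normalizerCondition_of_isNilpotent _ hQlt)
  have hxB : (x : G) ∉ NB := fun h => hxQ (Subgroup.mem_inf.2 ⟨x.2, h⟩)
  set B' := B.map (MulAut.conj (x : G)).toMonoidHom with hB'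
  have hne' : B' ≠ B := fun h => hxB (by
    rw [hNB]
    refine Subgroup.mem_normalizer_iff.2 fun z => ⟨fun hz => h.le ⟨z, hz, rfl⟩, fun hz => ?_⟩
    obtain ⟨w, hw, hwz⟩ := h.ge hz
    have : w = z := (MulAut.conj (x : G)).injective hwz
    rwa [← this])
  have hB'Q : B' ≤ Q := by
    rintro _ ⟨b, hb, rfl⟩
    have h1 := (Subgroup.mem_normalizer_iff.1 hx ⟨b, Subgroup.mem_sup_right hb⟩).1
      (Subgroup.mem_inf.2 ⟨Subgroup.mem_sup_right hb, Subgroup.le_normalizer hb⟩)
    exact h1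
  have hBQ : B ≤ Q := le_inf le_sup_right Subgroup.le_normalizer
  have hint : B' ⊓ B = ⊥ := (hBti x).resolve_left hne'
  have hcard : Nat.card B' = Nat.card B :=
    (Nat.card_congr (Subgroup.equivMapOfInjective _ _ (MulAut.conj (x : G)).injective).toEquiv).symm
  have hbig : Nat.card B * Nat.card B ≤ Nat.card A0 * Nat.card B := by
    refine le_trans ?_ hQcard
    let f : B' × B → Q := fun z => ⟨(z.1 : G) * z.2, mul_mem (hB'Q z.1.2) (hBQ z.2.2)⟩
    have hf : Function.Injective f := by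
      rintro ⟨⟨u, hu⟩, ⟨v, hv⟩⟩ ⟨⟨u', hu'⟩, ⟨v', hv'⟩⟩ h
      have h1 : u * v = u' * v' := congrArg Subtype.val h
      have h2 : u'⁻¹ * u = v' * v⁻¹ := by
        rw [eq_mul_inv_iff_mul_eq, mul_assoc, h1, inv_mul_cancel_left]
      have h3 : u'⁻¹ * u ∈ B' ⊓ B := Subgroup.mem_inf.2
        ⟨mul_mem (inv_mem hu') hu, h2 ▸ mul_mem hv' (inv_mem hv)⟩
      rw [hint, Subgroup.mem_bot, inv_mul_eq_one] at h3
      subst h3
      have h4 : v = v' := mul_left_cancel h1
      subst h4
      rfl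
    have := Nat.card_le_card_of_injective f hf
    rwa [Nat.card_prod, hcard] at this
  have h5 : Nat.card B ≤ Nat.card A0 := Nat.le_of_mul_le_mul_right hbig Nat.card_pos
  exact hkey (fun a ha => ((Subgroup.eq_of_le_of_card_ge (H := A0) inf_le_left (hle.trans h5)).ge ha).2)

end Cfsg.Agent.S1757
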