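import Cfsg.Statements.S1775
import Cfsg.Agent.Components.CoprimeKer
import Cfsg.Agent.Components.PCompCentralizer
import Cfsg.Agent.Components.BalanceDelta
-- import your own Cfsg.Agent.* helpers here

set_option autoImplicit false
open Cfsg Subgroup Cfsg.Lib.Components
open scoped commutatorElement

namespace Cfsg.Agent.S1775

/-- Let G be a finite group whose generalized Fitting subgroup is a non-abelian simple group and in which every proper section (every quotient H/N of a proper subgroup H, or of G by a nontrivial normal subgroup) has the B-property. Let x, y be commuting involutions, let D be the intersection of the 2-layer of C_G(x) with C_G(y), and let J be a 2-component of D. Write Q for the quotient of C_G(y) by its largest normal odd-order subgroup. Then (i) the image of J in Q is a component of the centralizer in Q of the image of x; and (ii) for every J-invariant subgroup E of odd order of C_G(x) ∩ C_G(y), the commutator subgroup [J, E] lies in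 the largest normal odd-order subgroup of C_G(y). -/
theorem result {G : Type*} [Group G] [Finite G]
    (hF : IsSimpleGroup ↥(Cfsg.generalizedFittingSubgroup G)) (hF' : ¬ IsMulCommutative ↥(Cfsg.generalizedFittingSubgroup G))
    (hsec : ∀ (H : Subgroup G) (N : Subgroup ↥H) [N.Normal], (H ≠ ⊤ ∨ N ≠ ⊥) → Cfsg.HasBProperty (↥H ⧸ N))
    (x y : G) (hx : orderOf x = 2) (hy : orderOf y = 2) (hxy : x * y = y * x)
    (J : Subgroup ↥((Cfsg.pLayer 2 ↥(Subgroup.centralizer ({x} : Set G))).map (Subgroup.centralizer ({x} : Set G)).subtype ⊓ Subgroup.centralizer ({y} : Set G)))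
    (hJ : Cfsg.IsPComponent 2 J) :
    Cfsg.IsComponent
        ((((J.map (Subgroup.subtype _)).subgroupOf (Subgroup.centralizer ({y} : Set G))).map (QuotientGroup.mk' (Cfsg.oddCore ↥(Subgroup.centralizer ({y} : Set G))))).subgroupOf
          (Subgroup.centralizer ({(QuotientGroup.mk' (Cfsg.oddCore ↥(Subgroup.centralizer ({y} : Set G))) ⟨x, Subgroup.mem_centralizer_singleton_iff.mpr hxy⟩ : ↥(Subgroup.centralizer ({y} : Set G)) ⧸ Cfsg.oddCore ↥(Subgroup.centralizer ({y} : Set G)))} : Set _))) ∧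
      ∀ E : Subgroup G, E ≤ Subgroup.centralizer ({x} : Set G) ⊓ Subgroup.centralizer ({y} : Set G) → Odd (Nat.card ↥E) →
        (∀ j ∈ J.map (Subgroup.subtype _), ∀ e ∈ E, j * e * j⁻¹ ∈ E) →
          ⁅J.map (Subgroup.subtype _), E⁆ ≤ (Cfsg.oddCore ↥(Subgroup.centralizer ({y} : Set G))).map (Subgroup.centralizer ({y} : Set G)).subtype := by
  classical
  let Cx := centralizer ({x} : Set G)
  let Cy := centralizer ({y} : Set G)
  let L := (Cfsg.pLayer 2 ↥Cx).map Cx.subtype
  have hyne : y ≠ 1 := fun h => by rw [h, orderOf_one] at hy; omega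
  have hCy_ne : Cy ≠ ⊤ := by
    intro h
    have hyZ : y ∈ center G := mem_center_iff.2 fun g => (mem_centralizer_singleton_iff.1 ((h ▸ mem_top g) : g ∈ Cy))
    have hyF : y ∈ Cfsg.generalizedFittingSubgroup G := by
      refine (le_sup_right : Cfsg.fittingSubgroup G ≤ _) ?_
      exact le_fitting (N := center G) (@CommGroup.isNilpotent ↥(center G) { (inferInstance : Group ↥(center G)) with mul_comm := fun a b => Subtype.ext (mem_center_iff.1 b.2 a) }) hyZ
    let F := Cfsg.generalizedFittingSubgroup G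
    haveI : (zpowers (⟨y, hyF⟩ : ↥F)).Normal := ⟨fun n hn g => by
      obtain ⟨k, rfl⟩ := hn
      refine ⟨k, Subtype.ext ?_⟩
      show ((⟨y, hyF⟩ : ↥F) ^ k : ↥F).1 = (g : G) * ((⟨y, hyF⟩ : ↥F) ^ k : ↥F).1 * (g : G)⁻¹
      rw [Subgroup.coe_zpow]
      have : (g : G) * y ^ k = y ^ k * g := mem_center_iff.1 ((center G).zpow_mem hyZ k) g
      rw [this, mul_inv_cancel_right]⟩
    rcases hF.eq_bot_or_eq_top_of_normal _ (inferInstance : (zpowers (⟨y, hyF⟩ : ↥F)).Normal) with h' | h'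
    · exact hyne (congrArg Subtype.val (zpowers_eq_bot.1 h'))
    · apply hF'
      refine ⟨⟨fun a b => ?_⟩⟩
      obtain ⟨i, rfl⟩ := (h' ▸ mem_top a : a ∈ zpowers (⟨y, hyF⟩ : ↥F))
      obtain ⟨j, rfl⟩ := (h' ▸ mem_top b : b ∈ zpowers (⟨y, hyF⟩ : ↥F))
      exact (Commute.zpow_zpow_self _ i j).eq
  haveI : (Cfsg.oddCore ↥Cy).Normal := pPrimeCore_normal' 2
  have hB : Cfsg.HasBProperty (↥Cy ⧸ Cfsg.oddCore ↥Cy) := hsec Cy _ (Or.inl hCy_ne)
  set f := QuotientGroup.mk' (Cfsg.oddCore ↥Cy) with hf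
  set x' : ↥Cy := ⟨x, mem_centralizer_singleton_iff.mpr hxy⟩ with hx'
  have hxp : IsPGroup 2 (zpowers x') := by
    rw [IsPGroup.iff_card]
    exact ⟨1, by rw [Nat.card_zpowers, ← Subgroup.orderOf_coe, pow_one]; exact hx⟩
  have hkerf : (Nat.card f.ker).Coprime 2 := by
    rw [hf, QuotientGroup.ker_mk']
    exact coprime_card_pPrimeCore 2
  have hxbar : orderOf (f x') = 2 := by
    refine orderOf_eq_prime ?_ ?_
    · rw [← map_pow, show x' ^ 2 = 1 from Subtype.ext (by rw [SubgroupClass.coe_pow, OneMemClass.coe_one]; exact hx ▸ pow_orderOf_eq_one x), map_one]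
    · intro h
      have hx1 : x' ∈ f.ker := h
      have h2 := Subgroup.orderOf_dvd_natCard f.ker hx1
      rw [← Subgroup.orderOf_coe, hx] at h2
      exact (Nat.prime_two.coprime_iff_not_dvd.1 hkerf.symm) h2
  set D := centralizer ({x'} : Set ↥Cy) with hD
  set Cb := centralizer ({f x'} : Set (↥Cy ⧸ Cfsg.oddCore ↥Cy)) with hCb
  have hmapD : D.map f = Cb := centralizer_map_of_coprime_ker (QuotientGroup.mk'_surjective _) hkerf hxp
  let g : ↥D →* ↥Cb := (f.comp D.subtype).codRestrict Cb fun d => hmapD.le (mem_map_of_mem f d.2)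
  have hg : Function.Surjective g := by
    rintro ⟨z, hz⟩
    obtain ⟨d, hd, hdz⟩ := hmapD.ge hz
    exact ⟨⟨d, hd⟩, Subtype.ext hdz⟩
  have hkerg : (Nat.card g.ker).Coprime 2 := by
    refine hkerf.coprime_dvd_left ?_
    rw [Nat.card_congr (Subgroup.equivMapOfInjective g.ker D.subtype D.subtype_injective).toEquiv]
    refine Subgroup.card_dvd_of_le ?_
    rintro _ ⟨d, hd, rfl⟩
    exact congrArg Subtype.val (MonoidHom.mem_ker.mp hd)
  -- `J` as a 2-component of `C(x, y)`
  have hMx : ∀ m, m ∈ L ⊓ Cy → m ∈ Cx := fun m hm => map_subtype_le _ hm.1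
  let i : ↥(L ⊓ Cy) →* ↥D := MonoidHom.mk' (fun m => ⟨⟨m, m.2.2⟩,
    mem_centralizer_singleton_iff.2 (Subtype.ext (mem_centralizer_singleton_iff.1 (hMx m m.2)))⟩)
    fun _ _ => rfl
  have hi : Function.Injective i := fun a b h => by
    exact Subtype.ext (congrArg (fun z : ↥D => ((z : ↥Cy) : G)) h)
  have hrange : i.range = (L.subgroupOf Cy).subgroupOf D := by
    ext d
    constructor
    · rintro ⟨m, rfl⟩
      exact m.2.1
    · intro hd
      exact ⟨⟨((d : ↥Cy) : G), hd, (d : ↥Cy).2⟩, rfl⟩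
  haveI hLn : i.range.Normal := ⟨fun n hn d => by
    rw [hrange] at hn ⊢
    have hn' : ((n : ↥Cy) : G) ∈ L := hn
    obtain ⟨l, hl, hln⟩ := hn'
    have hdx : ((d : ↥Cy) : G) ∈ Cx := mem_centralizer_singleton_iff.2
      (congrArg Subtype.val (mem_centralizer_singleton_iff.1 d.2))
    show ((d : ↥Cy) : G) * ((n : ↥Cy) : G) * ((d : ↥Cy) : G)⁻¹ ∈ L
    rw [← hln]
    exact ⟨⟨_, hdx⟩ * l * ⟨_, hdx⟩⁻¹, pLayer_normal.conj_mem l hl _, rfl⟩⟩
  let e := MonoidHom.ofInjective hi
  have hK : Cfsg.IsPComponent 2 (J.map i) := by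
    have h1 := pcomp_map_equiv hJ e
    have h2 := (pcomp_map_subtype_iff hLn.isSubnormal).2 h1
    rwa [map_map, show i.range.subtype.comp e.toMonoidHom = i from MonoidHom.ext fun _ => rfl] at h2
  have hKb : Cfsg.IsPComponent 2 ((J.map i).map g) := by
    obtain ⟨E, hE⟩ := exists_quotient_equiv_of_coprime_ker (p := 2) hg hkerg
    have hcomp : ∀ A : Subgroup ↥D, (A.map g).map (QuotientGroup.mk' (pPrimeCore 2 ↥Cb)) =
        (A.map (QuotientGroup.mk' (pPrimeCore 2 ↥D))).map E.toMonoidHom := fun A => by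
      rw [map_map, map_map, hE]
    refine ⟨hK.1.map hg, ?_, fun H hH hle himg => le_antisymm hle ?_⟩
    · rw [hcomp]
      exact comp_map_equiv hK.2.1 E
    · have hH0 : (H.comap g ⊓ J.map i).map g = H := by
        refine le_antisymm ((Subgroup.map_mono inf_le_left).trans (map_comap_le _ _)) ?_
        intro h hh
        obtain ⟨k, hk, rfl⟩ := hle hh
        exact ⟨k, ⟨hh, hk⟩, rfl⟩
      rw [← hH0, hcomp, hcomp] at himg
      have := hK.2.2 _ ((hH.comap g).inf hK.1) inf_le_right (Subgroup.map_injective E.injective himg)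
      exact map_le_iff_le_comap.2 (inf_eq_right.1 this)
  have hcomp' : Cfsg.IsComponent ((J.map i).map g) := by
    rw [pcomp_isComponent_iff hKb, ← le_bot_iff]
    have h1 := hB (f x') hxbar
    rw [show Cfsg.oddCore (↥Cy ⧸ Cfsg.oddCore ↥Cy) = ⊥ from pPrimeCore_quotient_eq_bot, le_bot_iff,
      map_eq_bot_iff_of_injective _ (Subgroup.subtype_injective _)] at h1
    rw [← h1]
    exact commutator_mono (le_sSup hKb) le_rfl
  have himage : ((((J.map (Subgroup.subtype _)).subgroupOf Cy).map f).subgroupOf Cb) = (J.map i).map g := by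
    ext z
    constructor
    · rintro ⟨w, hw, hwz⟩
      obtain ⟨m, hm, hmw⟩ := hw
      refine ⟨i m, ⟨m, hm, rfl⟩, Subtype.ext ?_⟩
      show f (i m : ↥Cy) = _
      rw [show (i m : ↥Cy) = w from Subtype.ext hmw]
      exact hwz
    · rintro ⟨_, ⟨m, hm, rfl⟩, rfl⟩
      exact ⟨(i m : ↥Cy), ⟨m, hm, rfl⟩, rfl⟩
  refine ⟨by rw [himage]; exact hcomp', fun E hE hEodd hJE => ?_⟩
  set Eb := (((E.subgroupOf Cy).subgroupOf D).map g) with hEb
  have hEbodd : Odd (Nat.card Eb) := by
    refine Odd.of_dvd_nat hEodd ((card_map_dvd _ _).trans ?_)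
    rw [card_subgroupOf_of_le ?_, card_subgroupOf_of_le (hE.trans inf_le_right)]
    intro w hw
    exact mem_centralizer_singleton_iff.2 (Subtype.ext (mem_centralizer_singleton_iff.1 (hE hw).1))
  have hnorm : (J.map i).map g ≤ normalizer (Eb : Set ↥Cb) := by
    refine (Subgroup.map_mono ?_).trans (le_normalizer_map g)
    rintro _ ⟨m, hm, rfl⟩
    have hconj : ∀ m' ∈ J, ∀ d ∈ (E.subgroupOf Cy).subgroupOf D,
        i m' * d * (i m')⁻¹ ∈ (E.subgroupOf Cy).subgroupOf D := fun m' hm' d hd =>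
      hJE _ ⟨m', hm', rfl⟩ _ hd
    refine mem_normalizer_iff.2 fun d => ⟨hconj m hm d, fun hd => ?_⟩
    have := hconj m⁻¹ (J.inv_mem hm) _ hd
    simpa [mul_assoc] using this
  rcases comp_le_or_commute_of_normalizes hcomp' hnorm with h | h
  · exfalso
    exact (Nat.not_even_iff_odd.2 hEbodd)
      (even_iff_two_dvd.2 ((pcomp_dvd_card hKb).trans (Subgroup.card_dvd_of_le h)))
  · rw [commutator_le]
    rintro _ ⟨m, hm, rfl⟩ w hw
    have hwy : w ∈ Cy := (hE hw).2
    have hwD : (⟨w, hwy⟩ : ↥Cy) ∈ D :=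
      mem_centralizer_singleton_iff.2 (Subtype.ext (mem_centralizer_singleton_iff.1 (hE hw).1))
    have h1 : g ⁅i m, (⟨⟨w, hwy⟩, hwD⟩ : ↥D)⁆ = 1 := by
      rw [← mem_bot, ← h, map_commutatorElement]
      exact commutator_mem_commutator ⟨i m, ⟨m, hm, rfl⟩, rfl⟩ ⟨⟨⟨w, hwy⟩, hwD⟩, hw, rfl⟩
    refine ⟨⁅(i m : ↥Cy), ⟨w, hwy⟩⁆, ?_, ?_⟩
    · show _ ∈ Cfsg.oddCore ↥Cy
      rw [← QuotientGroup.eq_one_iff]
      exact congrArg Subtype.val h1
    · rfl

end Cfsg.Agent.S1775
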