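import Cfsg.Statements.S1780
import Cfsg.Agent.Transfer.Basic

set_option autoImplicit false
open Cfsg

namespace Cfsg.Agent.S1780

/-- Let A be a finite abelian 2-group and t an automorphism of A whose order is a power of 2. If every element of A fixed by t² is fixed by t, then t fixes every element of A. -/
theorem result {A : Type*} [CommGroup A] [Finite A]
    (hA : IsPGroup 2 A) (t : MulAut A) (ht : ∃ k : ℕ, orderOf t = 2 ^ k) (hC : ∀ a : A, t (t a) = a → t a = a) :
    ∀ a : A, t a = a := by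
  classical
  by_contra hne
  push Not at hne
  obtain ⟨a0, ha0⟩ := hne
  let d : A →* A := MonoidHom.mk' (fun a => t a * a⁻¹) fun a b => by
    rw [map_mul, mul_inv]; exact mul_mul_mul_comm _ _ _ _
  have hdt : ∀ a, d (t a) = t (d a) := fun a => by
    show t (t a) * (t a)⁻¹ = t (t a * a⁻¹)
    rw [map_mul, map_inv]
  set D := d.range with hD
  let H := Subgroup.zpowers t
  have hinv : ∀ g : MulAut A, g ∈ H → ∀ y ∈ D, g y ∈ D := by
    intro g hg
    have hmap : D.map t.toMonoidHom = D := by
      refine Subgroup.eq_of_le_of_card_ge ?_ ?_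
      · rintro _ ⟨_, ⟨a, rfl⟩, rfl⟩
        exact ⟨t a, hdt a⟩
      · exact (Nat.card_congr (Subgroup.equivMapOfInjective _ _ t.injective).toEquiv).le
    rw [show H = Subgroup.closure ({t} : Set (MulAut A)) from Subgroup.zpowers_eq_closure t] at hg
    induction hg using Subgroup.closure_induction with
    | mem g hg =>
      intro y hy
      obtain rfl := Set.mem_singleton_iff.1 hg
      exact hmap.le ⟨y, hy, rfl⟩
    | one => exact fun y hy => hy
    | mul g1 g2 _ _ i1 i2 => exact fun y hy => i1 _ (i2 y hy)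
    | inv g1 _ i1 =>
      intro y hy
      have h1 : D.map g1.toMonoidHom = D := Subgroup.eq_of_le_of_card_ge
        (by rintro _ ⟨z, hz, rfl⟩; exact i1 z hz)
        (Nat.card_congr (Subgroup.equivMapOfInjective _ _ g1.injective).toEquiv).le
      obtain ⟨z, hz, hzy⟩ := h1.ge hy
      have : g1⁻¹ y = z := by rw [← hzy]; exact g1.symm_apply_apply z
      rwa [this]
  letI : MulAction H D :=
    { smul := fun g y => ⟨(g : MulAut A) y, hinv g g.2 y y.2⟩
      one_smul := fun y => rfl
      mul_smul := fun g1 g2 y => rfl }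
  have hH : IsPGroup 2 H := by
    obtain ⟨k, hk⟩ := ht
    exact IsPGroup.of_card (n := k) (by rw [Nat.card_zpowers, hk])
  have hdvd : 2 ∣ Nat.card D := by
    obtain ⟨k, hk⟩ := IsPGroup.iff_card.1 (hA.to_subgroup D)
    rcases Nat.eq_zero_or_pos k with rfl | hk0
    · exfalso
      have hbot : D = ⊥ := Subgroup.eq_bot_of_card_eq _ (by simpa using hk)
      have h1 : d a0 = 1 := Subgroup.mem_bot.1 (hbot ▸ ⟨a0, rfl⟩)
      exact ha0 (mul_inv_eq_one.1 h1)
    · rw [hk]; exact dvd_pow_self 2 hk0.ne'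
  obtain ⟨y, hy, hy1⟩ := hH.exists_fixed_point_of_prime_dvd_card_of_fixed_point D hdvd
    (a := (1 : D)) (fun g => Subtype.ext (map_one (g : MulAut A)))
  apply hy1
  obtain ⟨a, ha⟩ := y.2
  have hty : t (d a) = d a := by
    rw [ha]
    exact congrArg Subtype.val (hy ⟨t, Subgroup.mem_zpowers t⟩)
  change t (t a * a⁻¹) = t a * a⁻¹ at hty
  rw [map_mul, map_inv, mul_inv_eq_iff_eq_mul] at hty
  have hd2 : ∀ b : A, d (d b) = 1 → d (b * b) = 1 → d b = 1 := by
    intro b h1 h2
    have e1 : t (t b * b⁻¹) = t b * b⁻¹ := mul_inv_eq_one.1 h1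
    have e2 : (t b * b⁻¹) * (t b * b⁻¹) = 1 := by rw [map_mul] at h2; exact h2
    rw [map_mul, map_inv, mul_inv_eq_iff_eq_mul] at e1
    refine mul_inv_eq_one.2 (hC b ?_)
    rw [e1]
    calc t b * b⁻¹ * t b = t b * b⁻¹ * (t b * b⁻¹) * b := by rw [← mul_assoc, inv_mul_cancel_right]
      _ = b := by rw [e2, one_mul]
  have hdd : d (d a) = 1 := by
    show t (d a) * (d a)⁻¹ = 1
    have : t (d a) = d a := by rw [ha]; exact congrArg Subtype.val (hy ⟨t, Subgroup.mem_zpowers t⟩)
    rw [this, mul_inv_cancel]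
  have key : ∀ n : ℕ, ∀ b : A, d (d b) = 1 → b ^ 2 ^ n = 1 → d b = 1 := by
    intro n
    induction n with
    | zero => intro b _ hb; rw [show b = 1 by simpa using hb, map_one]
    | succ n ih =>
      intro b h1 hb
      refine hd2 b h1 (ih (b * b) (by rw [map_mul, map_mul, h1, one_mul]) ?_)
      rw [← sq, ← pow_mul, ← pow_succ']; exact hb
  obtain ⟨n, hn⟩ := hA a
  exact Subtype.ext (ha.symm.trans (key n a hdd hn)).symm

end Cfsg.Agent.S1780
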