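import Cfsg.Statements.S1781
import Cfsg.Agent.PGroups.Basic

set_option autoImplicit false
open Cfsg

namespace Cfsg.Agent.S1781

/-- Let A be an abelian 2-subgroup of the finite group G such that every conjugate of A equals A or meets A trivially, and let g ∈ G with g A g⁻¹ ≠ A. Then either the subgroup of those elements of A that normalize g A g⁻¹ is an elementary abelian 2-group, or A and g A g⁻¹ commute elementwise. -/
theorem result {G : Type*} [Group G] [Finite G] (A : Subgroup G)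
    (hA2 : IsPGroup 2 ↥A) (hAa : IsMulCommutative ↥A)
    (hti : ∀ h : G, A.map (MulAut.conj h).toMonoidHom = A ∨ A.map (MulAut.conj h).toMonoidHom ⊓ A = ⊥)
    (g : G) (hg : A.map (MulAut.conj g).toMonoidHom ≠ A) :
    Cfsg.IsElementaryAbelian 2 (A ⊓ Subgroup.normalizer ((A.map (MulAut.conj g).toMonoidHom : Subgroup G) : Set G)) ∨
      ⁅A, A.map (MulAut.conj g).toMonoidHom⁆ = ⊥ := by
  open Subgroup in
  open scoped commutatorElement in
  exact by
    set B := A.map (MulAut.conj g).toMonoidHom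
    have hAB : A ⊓ B = ⊥ := by
      rw [inf_comm]; exact (hti g).resolve_left hg
    have hAc : ∀ a ∈ A, ∀ b ∈ A, a * b = b * a := fun a ha b hb =>
      congrArg Subtype.val (hAa.is_comm.comm ⟨a, ha⟩ ⟨b, hb⟩)
    have hBc : ∀ a ∈ B, ∀ b ∈ B, a * b = b * a := by
      rintro _ ⟨a, ha, rfl⟩ _ ⟨b, hb, rfl⟩
      rw [← map_mul, ← map_mul, hAc a ha b hb]
    have hB2 : IsPGroup 2 B := hA2.map _
    have hAn : ∀ x a : G, a ∈ A → a ≠ 1 → x * a = a * x → x ∈ Subgroup.normalizer (A : Set G) := by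
      intro x a ha ha1 hxa
      rcases hti x with h | h
      · exact mem_normalizer_iff_map_conj_eq.2 h
      · exact absurd (mem_bot.1 (h.le (mem_inf.mpr ⟨⟨a, ha, by
          show x * a * x⁻¹ = a
          rw [hxa, mul_inv_cancel_right]⟩, ha⟩))) ha1
    have hBn : ∀ x b : G, b ∈ B → b ≠ 1 → x * b = b * x → x ∈ Subgroup.normalizer (B : Set G) := by
      rintro x _ ⟨b, hb, rfl⟩ hb1 hxb
      have hb1' : b ≠ 1 := fun h => hb1 (by rw [h, map_one])
      have hxb' : x * (g * b * g⁻¹) = g * b * g⁻¹ * x := hxb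
      have h1 : g⁻¹ * x * g ∈ Subgroup.normalizer (A : Set G) := hAn _ b hb hb1' (by
        calc g⁻¹ * x * g * b = g⁻¹ * (x * (g * b * g⁻¹)) * g := by group
          _ = b * (g⁻¹ * x * g) := by rw [hxb']; group)
      refine mem_normalizer_iff_map_conj_eq.2 (eq_of_le_of_card_ge ?_ (card_map_of_injective (MulEquiv.injective _)).ge)
      rintro _ ⟨_, ⟨c, hc, rfl⟩, rfl⟩
      exact ⟨(g⁻¹ * x * g) * c * (g⁻¹ * x * g)⁻¹, (mem_normalizer_iff.1 h1 c).1 hc, by simp [mul_assoc]⟩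
    -- an element whose square is nontrivial and normalizes the other subgroup centralizes it
    have key : ∀ X Y : Subgroup G, (∀ a ∈ X, ∀ b ∈ X, a * b = b * a) → (∀ a ∈ Y, ∀ b ∈ Y, a * b = b * a) →
        IsPGroup 2 X → IsPGroup 2 Y → X ⊓ Y = ⊥ →
        (∀ x a : G, a ∈ X → a ≠ 1 → x * a = a * x → x ∈ Subgroup.normalizer (X : Set G)) →
        ∀ a ∈ X, a ∈ Subgroup.normalizer (Y : Set G) → a * a ≠ 1 → ∀ b ∈ Y, a * b = b * a := by
      intro X Y hXc hYc hX hY hXY hXn a ha haY ha2 b0 hb0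
      have ha1 : a ≠ 1 := fun h => ha2 (by rw [h, one_mul])
      -- the fixed points of `a` and of `a²` in `Y` agree
      have hfix : ∀ b ∈ Y, (a * a) * b = b * (a * a) → a * b = b * a := by
        intro b hb h2
        have hbN := hXn b (a * a) (mul_mem ha ha) ha2 h2.symm
        have : a * b * a⁻¹ * b⁻¹ ∈ X ⊓ Y := mem_inf.mpr ⟨by
          rw [show a * b * a⁻¹ * b⁻¹ = a * (b * a⁻¹ * b⁻¹) by group]
          exact mul_mem ha ((mem_normalizer_iff.1 hbN _).1 (inv_mem ha)),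
          mul_mem ((mem_normalizer_iff.1 haY b).1 hb) (inv_mem hb)⟩
        rw [hXY, mem_bot] at this
        exact mul_inv_eq_iff_eq_mul.1 (mul_inv_eq_one.1 this)
      by_contra hne
      have haux : ∀ b ∈ Y, a * b * a⁻¹ ∈ Y := fun b hb => (mem_normalizer_iff.1 haY b).1 hb
      let D : Subgroup G :=
        { carrier := {c | ∃ b ∈ Y, a * b * a⁻¹ * b⁻¹ = c}
          one_mem' := ⟨1, one_mem Y, by group⟩
          mul_mem' := by
            rintro _ _ ⟨b, hb, rfl⟩ ⟨c, hc, rfl⟩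
            refine ⟨b * c, mul_mem hb hc, ?_⟩
            calc a * (b * c) * a⁻¹ * (b * c)⁻¹ = (a * b * a⁻¹) * ((a * c * a⁻¹ * c⁻¹) * b⁻¹) := by group
              _ = a * b * a⁻¹ * b⁻¹ * (a * c * a⁻¹ * c⁻¹) := by
                rw [hYc _ (mul_mem (haux c hc) (inv_mem hc)) _ (inv_mem hb)]; group
          inv_mem' := by
            rintro _ ⟨b, hb, rfl⟩
            refine ⟨b⁻¹, inv_mem hb, ?_⟩
            calc a * b⁻¹ * a⁻¹ * b⁻¹⁻¹ = (a * b * a⁻¹)⁻¹ * b := by group
              _ = b * (a * b * a⁻¹)⁻¹ := hYc _ (inv_mem (haux b hb)) _ hb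
              _ = (a * b * a⁻¹ * b⁻¹)⁻¹ := by group }
      have hDY : D ≤ Y := by rintro _ ⟨b, hb, rfl⟩; exact mul_mem (haux b hb) (inv_mem hb)
      have haD : ∀ c ∈ D, a * c * a⁻¹ ∈ D := by
        rintro _ ⟨b, hb, rfl⟩; exact ⟨a * b * a⁻¹, haux b hb, by group⟩
      have haD' : zpowers a ≤ Subgroup.normalizer (D : Set G) := zpowers_le.2 (mem_normalizer_iff_map_conj_eq.2
        (eq_of_le_of_card_ge (by rintro _ ⟨x, hx, rfl⟩; exact haD x hx) (card_map_of_injective (MulEquiv.injective _)).ge))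
      have hP : IsPGroup 2 ↥(D ⊔ zpowers a) :=
        (hY.to_le hDY).to_sup_of_normal_left' (hX.to_le (zpowers_le.2 ha)) haD'
      haveI : Fact (Nat.Prime 2) := ⟨Nat.prime_two⟩
      haveI : (D.subgroupOf (D ⊔ zpowers a)).Normal := normal_subgroupOf_of_le_normalizer (sup_le le_normalizer haD')
      have hDne : D.subgroupOf (D ⊔ zpowers a) ≠ ⊥ := fun h => hne (by
        have hmem : a * b0 * a⁻¹ * b0⁻¹ ∈ D := ⟨b0, hb0, rfl⟩
        have := mem_bot.1 (h.le (show (⟨_, mem_sup_left hmem⟩ : ↥(D ⊔ zpowers a)) ∈ D.subgroupOf (D ⊔ zpowers a) from hmem))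
        exact mul_inv_eq_iff_eq_mul.1 (mul_inv_eq_one.1 (congrArg Subtype.val this :)))
      obtain ⟨w, hwD, hwc, hwo⟩ := Cfsg.Lib.PGroups.exists_mem_center_of_normal_ne_bot hP hDne
      obtain ⟨b, hb, hbw⟩ := (hwD : (w : G) ∈ D)
      set c : G := (w : G) with hc
      have hca : a * c = c * a := congrArg Subtype.val (mem_center_iff.1 hwc ⟨a, mem_sup_right (mem_zpowers a)⟩)
      have hc2 : c * c = 1 := by
        rw [← pow_two, ← (show orderOf c = 2 by rw [hc, Subgroup.orderOf_coe, hwo]), pow_orderOf_eq_one]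
      have hbw' : a * b * a⁻¹ * b⁻¹ = c := hbw
      have e1 : a * b * a⁻¹ = c * b := by rw [← hbw']; group
      have e2 : (a * a) * b * (a * a)⁻¹ = b := by
        calc (a * a) * b * (a * a)⁻¹ = a * (a * b * a⁻¹) * a⁻¹ := by group
          _ = (a * c * a⁻¹) * (a * b * a⁻¹) := by
            conv_lhs => rw [e1]
            group
          _ = (c * c) * b := by rw [hca, mul_inv_cancel_right, e1, mul_assoc]
          _ = b := by rw [hc2, one_mul]
      have h3 := hfix b hb (mul_inv_eq_iff_eq_mul.1 e2)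
      rw [h3, mul_inv_cancel_right, eq_comm, mul_eq_right] at e1
      have hco : orderOf c = 2 := by rw [hc, Subgroup.orderOf_coe, hwo]
      rw [e1, orderOf_one] at hco
      omega
    set N := A ⊓ Subgroup.normalizer (B : Set G) with hN
    by_cases hel : ∀ a ∈ N, a * a = 1
    · exact Or.inl ⟨⟨⟨fun a b => Subtype.ext (hAc a (mem_inf.1 a.2).1 b (mem_inf.1 b.2).1)⟩⟩,
        fun a ha => by rw [pow_two]; exact hel a ha⟩
    push Not at hel
    obtain ⟨a0, ha0, ha02⟩ := hel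
    obtain ⟨ha0A, ha0B⟩ := mem_inf.1 ha0
    have ha01 : a0 ≠ 1 := fun h => ha02 (by rw [h, one_mul])
    have hb := key A B hAc hBc hA2 hB2 hAB hAn a0 ha0A ha0B ha02
    have hBA : ∀ b ∈ B, b ∈ Subgroup.normalizer (A : Set G) := fun b hb' =>
      hAn b a0 ha0A ha01 (hb b hb').symm
    -- an element of order at least four in the conjugate
    have hb4 : (g * a0 * g⁻¹) * (g * a0 * g⁻¹) ≠ 1 := fun h => ha02 (by
      calc a0 * a0 = g⁻¹ * ((g * a0 * g⁻¹) * (g * a0 * g⁻¹)) * g := by group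
        _ = 1 := by rw [h]; group)
    have hgB : g * a0 * g⁻¹ ∈ B := ⟨a0, ha0A, rfl⟩
    have hA := key B A hBc hAc hB2 hA2 (inf_comm A B ▸ hAB) hBn _ hgB (hBA _ hgB) hb4
    have hg1 : g * a0 * g⁻¹ ≠ 1 := fun h => hb4 (by rw [h, one_mul])
    have hAB' : ∀ a ∈ A, a ∈ Subgroup.normalizer (B : Set G) := fun a ha =>
      hBn a _ hgB hg1 (hA a ha).symm
    refine Or.inr (eq_bot_iff.2 (commutator_le.2 fun a ha b hb' => ?_))
    rw [← hAB, mem_inf]
    exact ⟨by rw [show ⁅a, b⁆ = a * (b * a⁻¹ * b⁻¹) by rw [commutatorElement_def]; group]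
              exact mul_mem ha ((mem_normalizer_iff.1 (hBA b hb') _).1 (inv_mem ha)),
      by rw [commutatorElement_def]; exact mul_mem ((mem_normalizer_iff.1 (hAB' a ha) b).1 hb') (inv_mem hb')⟩

end Cfsg.Agent.S1781
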