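import Cfsg.Statements.S1783
import Cfsg.Agent.Components.Misc.TISquares

set_option autoImplicit false
open Cfsg

namespace Cfsg.Agent.S1783

/-- Let X be a finite group whose generalized Fitting subgroup equals its largest normal 2-subgroup Q, and let A be an abelian 2-subgroup of X such that every conjugate of A equals A or meets A trivially. Let B be the subgroup generated by the squares of the elements of A. Then B lies in Q, and if B is not an elementary abelian 2-group then the normal closure of B in X is commutative. -/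
theorem result {X : Type*} [Group X] [Finite X]
    (hX : Cfsg.generalizedFittingSubgroup X = Cfsg.pCore 2 X) (A : Subgroup X) (hA2 : IsPGroup 2 ↥A) (hAa : IsMulCommutative ↥A)
    (hti : ∀ h : X, A.map (MulAut.conj h).toMonoidHom = A ∨ A.map (MulAut.conj h).toMonoidHom ⊓ A = ⊥) :
    Subgroup.closure ((fun a : X => a ^ 2) '' (A : Set X)) ≤ Cfsg.pCore 2 X ∧
      (¬ Cfsg.IsElementaryAbelian 2 (Subgroup.closure ((fun a : X => a ^ 2) '' (A : Set X))) →
        IsMulCommutative ↥(Subgroup.normalClosure ((fun a : X => a ^ 2) '' (A : Set X)))) := by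
  have hab : ∀ a ∈ A, ∀ b ∈ A, Commute a b := fun a ha b hb => setLike_mul_comm ha hb
  obtain ⟨h1, h2⟩ := Cfsg.Lib.TISquares.squares hX A hA2 hab (Cfsg.Lib.TISquares.ti_of_hyp hti)
  refine ⟨(Subgroup.closure_le _).mpr (by rintro _ ⟨a, ha, rfl⟩; exact h1 a ha), fun hne => ?_⟩
  have hex : ∃ a ∈ A, (a ^ 2) ^ 2 ≠ 1 := by
    by_contra hno
    push Not at hno
    refine hne ?_
    set B := Subgroup.closure ((fun a : X => a ^ 2) '' (A : Set X))
    have hBA : B ≤ A := (Subgroup.closure_le _).mpr (by rintro _ ⟨a, ha, rfl⟩; exact pow_mem ha 2)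
    refine ⟨⟨⟨fun a b => Subtype.ext (hab _ (hBA a.2) _ (hBA b.2)).eq⟩⟩, fun b hb => ?_⟩
    induction hb using Subgroup.closure_induction with
    | mem x hx => obtain ⟨a, ha, rfl⟩ := hx; exact hno a ha
    | one => exact one_pow 2
    | mul x y hx hy h h' => rw [(hab x (hBA hx) y (hBA hy)).mul_pow, h, h', mul_one]
    | inv x _ h => rw [inv_pow, h, inv_one]
  have hc : ∀ s ∈ Group.conjugatesOfSet ((fun a : X => a ^ 2) '' (A : Set X)),
      ∀ t ∈ Group.conjugatesOfSet ((fun a : X => a ^ 2) '' (A : Set X)), s * t = t * s := by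
    intro s hs t ht
    obtain ⟨_, ⟨a, ha, rfl⟩, hsa⟩ := Group.mem_conjugatesOfSet_iff.mp hs
    obtain ⟨_, ⟨b, hb, rfl⟩, htb⟩ := Group.mem_conjugatesOfSet_iff.mp ht
    obtain ⟨c, rfl⟩ := isConj_iff.mp hsa
    obtain ⟨d, rfl⟩ := isConj_iff.mp htb
    have h := (h2 hex (c⁻¹ * d) a ha b hb).map (MulAut.conj c).toMonoidHom
    simp only [MulEquiv.coe_toMonoidHom, MulAut.conj_apply] at h
    have e : c * (c⁻¹ * d * b ^ 2 * (c⁻¹ * d)⁻¹) * c⁻¹ = d * b ^ 2 * d⁻¹ := by group
    rw [e] at h
    exact h.eq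
  have hle : Subgroup.normalClosure ((fun a : X => a ^ 2) '' (A : Set X)) ≤
      Subgroup.centralizer (Subgroup.normalClosure ((fun a : X => a ^ 2) '' (A : Set X)) : Set X) := by
    refine (Subgroup.closure_le _).mpr fun s hs => ?_
    refine (Subgroup.le_centralizer_iff.mp ?_) (Subgroup.mem_zpowers s)
    refine (Subgroup.closure_le _).mpr fun t ht => Subgroup.mem_centralizer_iff.mpr ?_
    rintro _ ⟨i, rfl⟩
    exact (Commute.zpow_left (hc s hs t ht) i).eq
  exact ⟨⟨fun a b => Subtype.ext (Subgroup.mem_centralizer_iff.mp (hle b.2) a a.2)⟩⟩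

end Cfsg.Agent.S1783
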