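import Cfsg.Statements.S1784
import Cfsg.Agent.Components.Misc.ExtraAction

set_option autoImplicit false
open Cfsg

namespace Cfsg.Agent.S1784

/-- Let G be a finite group and let z be an involution of G such that Q, the generalized Fitting subgroup of the centralizer C of z, is a 2-group of symplectic type (every characteristic abelian subgroup of Q is cyclic); suppose Q is extraspecial, and view Q inside G. Let α be an involution of C that is not in Q, and let Q₀ be the subgroup of those q ∈ Q whose commutator with α lies in the subgroup generated by z. Then (a) the subgroup generated by the commutators α q α⁻¹ q⁻¹, q ∈ Q, equals the centre of Q₀; and (b) if Q₀ is not contained in the product of the centralizer of α in Q with the subgroup generated by z, then some element of Q conjugates α to α z. -/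
theorem result {G : Type*} [Group G] [Finite G] (z : G) (hz : orderOf z = 2) (hQ : Cfsg.IsOfSymplecticType ↥(Cfsg.generalizedFittingSubgroup ↥(Subgroup.centralizer ({z} : Set G)))) (hE : Cfsg.IsExtraspecial 2 ↥(Cfsg.generalizedFittingSubgroup ↥(Subgroup.centralizer ({z} : Set G))))
    (α : G) (hα : orderOf α = 2) (hαC : α ∈ Subgroup.centralizer ({z} : Set G)) (hαQ : α ∉ (Cfsg.generalizedFittingSubgroup ↥(Subgroup.centralizer ({z} : Set G))).map (Subgroup.centralizer ({z} : Set G)).subtype)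
    (Q₀ : Subgroup G) (hQ₀ : ∀ q : G, q ∈ Q₀ ↔ (q ∈ (Cfsg.generalizedFittingSubgroup ↥(Subgroup.centralizer ({z} : Set G))).map (Subgroup.centralizer ({z} : Set G)).subtype ∧ α * q * α⁻¹ * q⁻¹ ∈ Subgroup.zpowers z)) :
    Subgroup.closure ((fun q : G => α * q * α⁻¹ * q⁻¹) '' ((Cfsg.generalizedFittingSubgroup ↥(Subgroup.centralizer ({z} : Set G))).map (Subgroup.centralizer ({z} : Set G)).subtype : Set G)) = (Subgroup.center ↥Q₀).map Q₀.subtype ∧
      (¬ Q₀ ≤ ((Cfsg.generalizedFittingSubgroup ↥(Subgroup.centralizer ({z} : Set G))).map (Subgroup.centralizer ({z} : Set G)).subtype ⊓ Subgroup.centralizer ({α} : Set G)) ⊔ Subgroup.zpowers z →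
        ∃ q ∈ (Cfsg.generalizedFittingSubgroup ↥(Subgroup.centralizer ({z} : Set G))).map (Subgroup.centralizer ({z} : Set G)).subtype, q * α * q⁻¹ = α * z) := by
  set C := Subgroup.centralizer ({z} : Set G)
  set Q := Cfsg.generalizedFittingSubgroup ↥C
  haveI : Q.Normal := inferInstance
  set f := C.subtype with hf
  have hzC : z ∈ C := Subgroup.mem_centralizer_singleton_iff.mpr rfl
  have hzc : (⟨z, hzC⟩ : C) ∈ Subgroup.center C :=
    Subgroup.mem_center_iff.mpr fun y => Subtype.ext (Subgroup.mem_centralizer_singleton_iff.mp y.2)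
  have hQ₀C : Q₀ ≤ C := fun q hq => Subgroup.map_subtype_le Q ((hQ₀ q).mp hq).1
  have hQ₀' : ∀ q : C, q ∈ Q₀.subgroupOf C ↔ q ∈ Q ∧
      (⟨α, hαC⟩ : C) * q * (⟨α, hαC⟩ : C)⁻¹ * q⁻¹ ∈ Subgroup.zpowers (⟨z, hzC⟩ : C) := by
    intro q
    rw [Subgroup.mem_subgroupOf, hQ₀]
    refine and_congr (Subgroup.mem_map_iff_mem C.subtype_injective) ?_
    rw [← Subgroup.mem_map_iff_mem C.subtype_injective (K := Subgroup.zpowers (⟨z, hzC⟩ : C)), MonoidHom.map_zpowers]
    rfl
  obtain ⟨h1, h2⟩ := Cfsg.Lib.ExtraAction.outer_involution Q hE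
    Cfsg.Lib.Components.centralizer_genFitting_le hzc (z := ⟨z, hzC⟩) (by rw [Subgroup.orderOf_mk]; exact hz)
    (α := ⟨α, hαC⟩) (by rw [Subgroup.orderOf_mk]; exact hα)
    (fun h => hαQ ⟨⟨α, hαC⟩, h, rfl⟩) (Q₀.subgroupOf C) hQ₀'
  have hQ₀map : (Q₀.subgroupOf C).map f = Q₀ := by
    rw [hf, Subgroup.subgroupOf_map_subtype, inf_eq_left.mpr hQ₀C]
  refine ⟨?_, fun hne => ?_⟩
  · have h3 := congrArg (Subgroup.map f) h1
    rw [MonoidHom.map_closure, Set.image_image] at h3
    rw [Subgroup.coe_map, Set.image_image]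
    refine Eq.trans h3 (le_antisymm ?_ ?_)
    · rintro _ ⟨x, ⟨hx, hxc⟩, rfl⟩
      exact ⟨⟨x, hx⟩, Subgroup.mem_center_iff.mpr fun y => Subtype.ext (by
        exact congrArg (fun w : C => (w : G)) (Subgroup.mem_centralizer_iff.mp hxc ⟨y, hQ₀C y.2⟩ y.2)), rfl⟩
    · rintro _ ⟨x, hx, rfl⟩
      exact ⟨⟨x, hQ₀C x.2⟩, ⟨x.2, Subgroup.mem_centralizer_iff.mpr fun y hy => Subtype.ext (by
        exact congrArg (fun w : Q₀ => (w : G)) (Subgroup.mem_center_iff.mp hx ⟨y, hy⟩))⟩, rfl⟩
  · have hne' : ¬ Q₀.subgroupOf C ≤ (Q ⊓ Subgroup.centralizer ({⟨α, hαC⟩} : Set C)) ⊔ Subgroup.zpowers (⟨z, hzC⟩ : C) := fun hle => hne (by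
      rw [← hQ₀map]
      refine (Subgroup.map_mono hle).trans ?_
      rw [Subgroup.map_sup, MonoidHom.map_zpowers]
      refine sup_le_sup_right ?_ _
      rintro _ ⟨x, ⟨hx, hxc⟩, rfl⟩
      exact ⟨⟨x, hx, rfl⟩, Subgroup.mem_centralizer_singleton_iff.mpr
        (congrArg Subtype.val (Subgroup.mem_centralizer_singleton_iff.mp hxc))⟩)
    obtain ⟨q, hq, hq'⟩ := h2 hne'
    · exact ⟨q, ⟨q, hq, rfl⟩, congrArg Subtype.val hq'⟩

end Cfsg.Agent.S1784
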