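import Cfsg.Statements.S1786
import Cfsg.Agent.TISpecial.Main
import Cfsg.Agent.Components.GenFitting
import Cfsg.Agent.Components.Cores

set_option autoImplicit false
open Cfsg

namespace Cfsg.Agent.S1786

/-- Let G be a finite group, V an elementary abelian 2-subgroup of G and M the normalizer of V; write Q for the largest normal 2-subgroup of M. Suppose (1) the generalized Fitting subgroup of M equals Q; (2) V is a maximal abelian normal subgroup of M; (3) every conjugate of V equals V or meets V trivially, and for some g ∈ G the conjugate V' = g V g⁻¹ is different from V and contained in Q. Let P be the centralizer of V in Q, W the subgroup generated by V and V', and H the subgroup generated by P and g P g⁻¹. Then: (a) V is contained in g Q g⁻¹; (b) every non-identity element of W lies in exactly one conjugate of V contained in W, H normalizes W, and H modulo the centralizer of W in H is isomorphic to the special linear group of dimension 2 over the field with |V| elements;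 (c) P = Q, and V equals the Frattini subgroup, the centre and the commutator subgroup of Q. -/
theorem result {G : Type*} [Group G] [Finite G] (V : Subgroup G)
    (hV : Cfsg.IsElementaryAbelian 2 V)
    (h1 : (Cfsg.generalizedFittingSubgroup ↥(Subgroup.normalizer (V : Set G))).map (Subgroup.normalizer (V : Set G)).subtype =
      (Cfsg.pCore 2 ↥(Subgroup.normalizer (V : Set G))).map (Subgroup.normalizer (V : Set G)).subtype)
    (h2 : ∀ A : Subgroup G, V ≤ A → A ≤ Subgroup.normalizer (V : Set G) → IsMulCommutative ↥A →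
      (∀ m ∈ Subgroup.normalizer (V : Set G), ∀ a ∈ A, m * a * m⁻¹ ∈ A) → A = V)
    (hti : ∀ x : G, V.map (MulAut.conj x).toMonoidHom = V ∨ V.map (MulAut.conj x).toMonoidHom ⊓ V = ⊥)
    (g : G) (hg : V.map (MulAut.conj g).toMonoidHom ≠ V)
    (hgQ : V.map (MulAut.conj g).toMonoidHom ≤ (Cfsg.pCore 2 ↥(Subgroup.normalizer (V : Set G))).map (Subgroup.normalizer (V : Set G)).subtype) :
    let Q : Subgroup G := (Cfsg.pCore 2 ↥(Subgroup.normalizer (V : Set G))).map (Subgroup.normalizer (V : Set G)).subtype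
    let P : Subgroup G := Q ⊓ Subgroup.centralizer (V : Set G)
    let W : Subgroup G := V ⊔ V.map (MulAut.conj g).toMonoidHom
    let H : Subgroup G := P ⊔ P.map (MulAut.conj g).toMonoidHom
    V ≤ Q.map (MulAut.conj g).toMonoidHom ∧
      (∀ w ∈ W, w ≠ 1 → ∃! U : Subgroup G, (∃ x : G, U = V.map (MulAut.conj x).toMonoidHom) ∧ U ≤ W ∧ w ∈ U) ∧
      H ≤ Subgroup.normalizer (W : Set G) ∧
      (∀ hN : ((Subgroup.centralizer (W : Set G)).subgroupOf H).Normal, ∃ (F : Type) (_ : Field F) (_ : Fintype F), Fintype.card F = Nat.card ↥V ∧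
        Nonempty (↥H ⧸ (Subgroup.centralizer (W : Set G)).subgroupOf H ≃* Matrix.SpecialLinearGroup (Fin 2) F)) ∧
      P = Q ∧ (frattini ↥Q).map Q.subtype = V ∧ (Subgroup.center ↥Q).map Q.subtype = V ∧ (commutator ↥Q).map Q.subtype = V := by
  intro Q P W H
  have hC := Cfsg.Lib.Components.centralizer_genFitting_le (G := ↥(Subgroup.normalizer (V : Set G)))
  rw [Subgroup.map_injective (Subgroup.subtype_injective _) h1] at hC
  obtain ⟨hQn, hQ2⟩ :=
    Cfsg.Lib.Components.pCore_normal_and_isPGroup (G := ↥(Subgroup.normalizer (V : Set G))) 2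
  have hmax : ∀ N : Subgroup G, N ≤ Subgroup.normalizer (V : Set G) → IsPGroup 2 N →
      (∀ m ∈ Subgroup.normalizer (V : Set G), ∀ x ∈ N, m * x * m⁻¹ ∈ N) → N ≤ Q := by
    intro N hle h2N hnorm x hx
    have hn : (N.subgroupOf (Subgroup.normalizer (V : Set G))).Normal :=
      ⟨fun n hn m => hnorm m m.2 n hn⟩
    exact ⟨⟨x, hle hx⟩, Cfsg.Lib.Components.le_pCore
      (h2N.of_equiv (Subgroup.subgroupOfEquivOfLe hle).symm) hx, rfl⟩
  have : IsMulCommutative ↥V := hV.1
  have hcomm : ∀ a ∈ V, ∀ b ∈ V, a * b = b * a := fun a ha b hb =>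
    congrArg Subtype.val (hV.1.1.1 (⟨a, ha⟩ : ↥V) ⟨b, hb⟩)
  have hsq : ∀ a ∈ V, a * a = 1 := fun a ha => pow_two a ▸ hV.2 a ha
  have hVp : IsPGroup 2 V := fun a => ⟨1, Subtype.ext (by simpa using hV.2 a a.2)⟩
  have s : Cfsg.Lib.TISpecial.Setting V Q :=
    { comm := hcomm
      sq := hsq
      ne_bot := fun e => hg (by subst e; exact Subgroup.map_bot _)
      le_Q := hmax V Subgroup.le_normalizer hVp
        fun m hm x hx => (Subgroup.mem_normalizer_iff.1 hm x).1 hx
      Q_le := Subgroup.map_subtype_le _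
      Q_norm := by
        rintro m hm _ ⟨x, hx, rfl⟩
        exact ⟨⟨m, hm⟩ * x * ⟨m, hm⟩⁻¹, hQn.conj_mem x hx _, rfl⟩
      Q_two := hQ2.map _
      Q_max := hmax
      Q_cent := fun m hm hc => ⟨⟨m, hm⟩, hC (Subgroup.mem_centralizer_iff.2 fun x hx =>
        Subtype.ext (hc x ⟨x, hx, rfl⟩).symm), rfl⟩
      max_abelian := fun A h3 h4 h5 h6 => h2 A h3 h4 ⟨⟨fun a b => Subtype.ext (h5 a a.2 b b.2)⟩⟩ h6
      ti := hti }
  have hU : Cfsg.Lib.TISpecial.IsComp V Q (Cfsg.Lib.TISpecial.cj g V) := ⟨⟨g, rfl⟩, hgQ, hg⟩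
  have hU' := s.comp_symm hU
  have s' := s.transport g
  have hP : P.map (MulAut.conj g).toMonoidHom =
      Cfsg.Lib.TISpecial.pp (Cfsg.Lib.TISpecial.cj g V) (Cfsg.Lib.TISpecial.cj g Q) := by
    ext z
    simp only [P, Cfsg.Lib.TISpecial.pp]
    change z ∈ Cfsg.Lib.TISpecial.cj g (Q ⊓ Subgroup.centralizer (V : Set G)) ↔ _
    rw [Cfsg.Lib.TISpecial.mem_cj, Subgroup.mem_inf, Subgroup.mem_inf,
      Cfsg.Lib.TISpecial.mem_cj, Subgroup.mem_centralizer_iff, Subgroup.mem_centralizer_iff]
    refine and_congr_right fun _ => ⟨fun h y hy => ?_, fun h v hv => ?_⟩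
    · have e := h _ (Cfsg.Lib.TISpecial.mem_cj.1 hy)
      calc y * z = g * (g⁻¹ * y * g * (g⁻¹ * z * g)) * g⁻¹ := by group
        _ = _ := by rw [e]; group
    · have e := h _ (Cfsg.Lib.TISpecial.conj_mem_cj (x := g) hv)
      calc v * (g⁻¹ * z * g) = g⁻¹ * (g * v * g⁻¹ * z) * g := by group
        _ = _ := by rw [e]; group
  have hH : H = Cfsg.Lib.TISpecial.pp V Q ⊔
      Cfsg.Lib.TISpecial.pp (Cfsg.Lib.TISpecial.cj g V) (Cfsg.Lib.TISpecial.cj g Q) := by
    simp only [H, hP]; rfl
  refine ⟨hU'.2.1, fun w hw hw1 => s.existsUnique_conj hU hw hw1, ?_, ?_,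
    s.pp_eq s' hU hU', s.structure_Q s' hU hU'⟩
  · rw [hH]; exact s.le_normalizer_sup s' hU hU'
  · clear_value H
    subst hH
    intro hN
    exact s.exists_equiv s' hU hU' hN

end Cfsg.Agent.S1786
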