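import Cfsg.Statements.S1832
import Cfsg.Agent.QTKE.LfEmpty.Main
import Cfsg.Agent.S0848
import Cfsg.Agent.S0497
import Cfsg.Agent.S0495
import Cfsg.Agent.S0249
import Cfsg.Agent.LocalThree.HallJankoType.ThreeLocal

set_option autoImplicit false
set_option linter.style.haveILetI false
open Cfsg

namespace Cfsg.Agent.S1832

theorem cube_root : ∀ r : ZMod 2, r ^ 3 = 1 → r = 1 := by decide

/-- Let G be a non-abelian finite simple QTKE-group and T a Sylow 2-subgroup of G, and let Z = Ω₁(Z(T)) be the subgroup generated by the involutions of the centre of T. Suppose ℒ_f(G, T) is empty and C_G(Z) lies in at least two distinct maximal 2-local subgroups of G. Then G is isomorphic to L₃(2) or to A₆. -/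
theorem result {G : Type*} [Group G] [Finite G] [IsSimpleGroup G]
    (hG : ¬ IsMulCommutative G) (hQ : Cfsg.IsQTKE G) (T : Sylow 2 G)
    (hE : Cfsg.calLf (T : Subgroup G) = ∅)
    (hZ : ∃ M₁ M₂ : Subgroup G,
      M₁ ∈ Cfsg.maxTwoLocalsContaining (Subgroup.centralizer ((Cfsg.omegaOne 2 ((T : Subgroup G) ⊓ Subgroup.centralizer ((T : Subgroup G) : Set G))) : Set G)) ∧
      M₂ ∈ Cfsg.maxTwoLocalsContaining (Subgroup.centralizer ((Cfsg.omegaOne 2 ((T : Subgroup G) ⊓ Subgroup.centralizer ((T : Subgroup G) : Set G))) : Set G)) ∧ M₁ ≠ M₂) :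
    (∃ (F : Type) (_ : Field F) (_ : Fintype F), Fintype.card F = 2 ∧
        Nonempty (G ≃* Matrix.ProjectiveSpecialLinearGroup (Fin 3) F)) ∨
      Nonempty (G ≃* ↥(alternatingGroup (Fin 6))) := by
  classical
  haveI : Fact (Nat.Prime 2) := ⟨Nat.prime_two⟩
  haveI : Fact (Nat.Prime 7) := ⟨by norm_num⟩
  obtain ⟨M₁, M₂, h₁, h₂, hne⟩ := hZ
  obtain ⟨h, hT⟩ := Cfsg.Lib.QTLf.hyps_of hG hQ T hE h₁ h₂ hne
  obtain ⟨t, ht, ⟨e⟩⟩ := Cfsg.Lib.QTLf.exists_dihedral h hT
  have hperf : commutator G = ⊤ := by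
    refine (IsSimpleGroup.eq_bot_or_eq_top_of_normal _ inferInstance).resolve_left fun hb => hG ⟨⟨fun a b => ?_⟩⟩
    have h1 := Subgroup.commutator_mem_commutator (Subgroup.mem_top a) (Subgroup.mem_top b)
    rw [← commutator_def, hb, Subgroup.mem_bot, commutatorElement_eq_one_iff_mul_comm] at h1
    exact h1
  rcases Cfsg.Agent.S0848.result hperf t ht e with hc | hc
  · left
    refine ⟨ZMod 2, inferInstance, inferInstance, ZMod.card 2, ?_⟩
    let P := Matrix.ProjectiveSpecialLinearGroup (Fin 3) (ZMod 2)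
    haveI : IsSimpleGroup P := Cfsg.Agent.S0249.result 3 le_rfl
    have hz : Subgroup.center (Matrix.SpecialLinearGroup (Fin 3) (ZMod 2)) = ⊥ := by
      refine (Subgroup.eq_bot_iff_forall _).2 fun A hA => ?_
      obtain ⟨r, hr, he⟩ := Matrix.SpecialLinearGroup.mem_center_iff.1 hA
      refine Subtype.ext ?_
      rw [← he]
      have : r = 1 := cube_root r (by simpa using hr)
      rw [this, map_one]
      rfl
    have hP : Nat.card P = 168 := by
      have h2 := Subgroup.card_eq_card_quotient_mul_card_subgroup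
        (Subgroup.center (Matrix.SpecialLinearGroup (Fin 3) (ZMod 2)))
      rw [Cfsg.Lib.HallJankoType.card_sl3, hz, Subgroup.card_bot, mul_one, ← hz] at h2
      exact h2.symm
    obtain ⟨e1⟩ := Cfsg.Agent.S0495.result hc (F := ZMod 7) (ZMod.card 7)
    obtain ⟨e2⟩ := Cfsg.Agent.S0495.result hP (F := ZMod 7) (ZMod.card 7)
    exact ⟨e1.trans e2.symm⟩
  · exact Or.inr (Cfsg.Agent.S0497.result hc)

end Cfsg.Agent.S1832
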