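import Cfsg.Statements.S1850
import Cfsg.Agent.Components.CharP

set_option autoImplicit false
open Cfsg

namespace Cfsg.Agent.S1850

/-- Let G be a non-abelian finite simple QTKE-group and T a Sylow 2-subgroup of G. If U is a nontrivial 2-subgroup of G with U ∩ Z(T) ≠ 1, then F*(N_G(U)) = O₂(N_G(U)). -/
theorem result {G : Type*} [Group G] [Finite G] [IsSimpleGroup G]
    (hG : ¬ IsMulCommutative G) (hQ : Cfsg.IsQTKE G) (T : Sylow 2 G) (U : Subgroup G)
    (hU : IsPGroup 2 ↥U) (hZ : U ⊓ ((T : Subgroup G) ⊓ Subgroup.centralizer ((T : Subgroup G) : Set G)) ≠ ⊥) :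
    Subgroup.normalizer (U : Set G) ∈ Cfsg.calHe G := by
  haveI : Fact (Nat.Prime 2) := ⟨Nat.prime_two⟩
  obtain ⟨z, hz, hz1⟩ := (U ⊓ ((T : Subgroup G) ⊓ Subgroup.centralizer ((T : Subgroup G) : Set G))).bot_or_exists_ne_one.resolve_left hZ
  obtain ⟨hzU, hzT, hzC⟩ := hz
  have h0 : Cfsg.Lib.Components.CharPGroup 2 ↥(Subgroup.normalizer (Subgroup.zpowers z : Set G)) := by
    refine hQ.2.2 _ ⟨Subgroup.zpowers z, T.2.to_le (Subgroup.zpowers_le.2 hzT), ?_, rfl⟩ ⟨T, ?_⟩
    · exact fun h => hz1 (Subgroup.zpowers_eq_bot.1 h)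
    · refine le_trans ?_ (Subgroup.centralizer_le_normalizer _)
      intro t ht
      rw [Subgroup.zpowers_eq_closure, Subgroup.centralizer_closure]
      exact Subgroup.mem_centralizer_singleton_iff.2 (Subgroup.mem_centralizer_iff.1 hzC t ht)
  have key : ∀ d : ℕ, ∀ C : Subgroup G, C ≤ U → Nat.card U ≤ Nat.card C + d →
      Cfsg.Lib.Components.CharPGroup 2 ↥(Subgroup.normalizer (C : Set G)) →
        Cfsg.Lib.Components.CharPGroup 2 ↥(Subgroup.normalizer (U : Set G)) := by
    intro d
    induction d with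
    | zero =>
      intro C hCU hd h
      obtain rfl := Subgroup.eq_of_le_of_card_ge hCU (by simpa using hd)
      exact h
    | succ d ih =>
      intro C hCU hd h
      rcases eq_or_lt_of_le hCU with rfl | hlt
      · exact h
      haveI : Group.IsNilpotent U := hU.isNilpotent
      have h2 := (Group.normalizerCondition_of_isNilpotent (G := U)) (C.subgroupOf U)
        (lt_top_iff_ne_top.mpr fun e => hlt.not_ge (Subgroup.subgroupOf_eq_top.mp e))
      let B : Subgroup G := U ⊓ Subgroup.normalizer (C : Set G)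
      have hCB : C < B := by
        refine lt_of_le_of_ne (le_inf hCU Subgroup.le_normalizer) fun e => ?_
        obtain ⟨n, hn, hnC⟩ := SetLike.exists_of_lt h2
        refine hnC (Subgroup.mem_subgroupOf.2 ?_)
        rw [e]
        refine ⟨n.2, Subgroup.mem_normalizer_iff.2 fun x => ⟨fun hx => ?_, fun hx => ?_⟩⟩
        · exact ((Subgroup.mem_normalizer_iff.1 hn ⟨x, hCU hx⟩).1 (Subgroup.mem_subgroupOf.2 hx) : _)
        · have hxU : x ∈ U := by
            have := U.mul_mem (U.mul_mem (inv_mem n.2) (hCU hx)) n.2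
            simpa [mul_assoc] using this
          exact Subgroup.mem_subgroupOf.1 ((Subgroup.mem_normalizer_iff.1 hn ⟨x, hxU⟩).2 (Subgroup.mem_subgroupOf.2 hx))
      refine ih B inf_le_left ?_ (Cfsg.Lib.Components.charP_normalizer_of_normal_in (hU.to_le inf_le_left) hCB.le inf_le_right h).1
      have hlt' : Nat.card C < Nat.card B := by
        by_contra hc
        exact hCB.ne (Subgroup.eq_of_le_of_card_ge hCB.le (by omega))
      omega
  exact Cfsg.Lib.Components.charP_iff_genFitting.1 (key _ _ (Subgroup.zpowers_le.2 hzU) (Nat.le_add_left _ _) h0)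

end Cfsg.Agent.S1850
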