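import Cfsg.Statements.S1851
import Cfsg.Agent.Components.Quasithin.UpwardClosed

set_option autoImplicit false
open Cfsg

namespace Cfsg.Agent.S1851

/-- Let G be a non-abelian finite simple QTKE-group and T a Sylow 2-subgroup of G, and let L be a member of ℒ_f(G, T) (a member of ℒ(G, T) that lies in 𝒳 — L ≠ 1, L = O²(L), F*(L) = O₂(L) — and acts nontrivially on Ω₁(Z(O₂(L)))). Then (1) every member K of ℒ(G, T) containing L is again in ℒ_f(G, T) (a sharper form of (1) also compares the modules [Ω₁(Z(R)), L] and [Ω₁(Z(R')), K] for suitable 2-subgroups R, R'; that comparison is not included); and (2) if L is maximal under inclusion among the members of ℒ_f(G, T), then L is a maximal member of ℒ(G, T), hence a member of ℒ_f*(G, T). -/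
theorem result {G : Type*} [Group G] [Finite G] [IsSimpleGroup G]
    (hG : ¬ IsMulCommutative G) (hQ : Cfsg.IsQTKE G) (T : Sylow 2 G) (L : Subgroup G)
    (hL : L ∈ Cfsg.calLf (T : Subgroup G)) :
    (∀ K ∈ Cfsg.calL (T : Subgroup G), L ≤ K → K ∈ Cfsg.calLf (T : Subgroup G)) ∧
    ((∀ K ∈ Cfsg.calLf (T : Subgroup G), L ≤ K → K = L) → L ∈ Cfsg.calLfMax (T : Subgroup G)) := by
  haveI : Fact (Nat.Prime 2) := ⟨Nat.prime_two⟩
  open Subgroup Cfsg.Lib.Components Cfsg.Lib.Components.UpwardClosed in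
  suffices key : ∀ K ∈ Cfsg.calL (T : Subgroup G), L ≤ K → K ∈ Cfsg.calLf (T : Subgroup G) from
    ⟨key, fun h => ⟨⟨hL.1, fun K hK hle => h K (key K hK hle) hle⟩, hL.2⟩⟩
  open Subgroup Cfsg.Lib.Components Cfsg.Lib.Components.UpwardClosed in
  open scoped commutatorElement in
  exact fun K hK hLK => by
    set X : Subgroup G := L ⊔ (T : Subgroup G) with hX
    set H : Subgroup G := K ⊔ (T : Subgroup G) with hH
    obtain ⟨⟨⟨hLne, hLp, hLs, -⟩, -, -⟩, -, hLV⟩ := hL
    obtain ⟨⟨hKne, hKp, hKs, -⟩, ⟨P, hP⟩, hO⟩ := id hK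
    have hKperf : ⁅K, K⁆ = K := by
      have := congrArg (Subgroup.map H.subtype) hKp
      rwa [map_commutator, map_subgroupOf_eq_of_le le_sup_left] at this
    have hLperf : ⁅L, L⁆ = L := by
      have := congrArg (Subgroup.map X.subtype) hLp
      rwa [map_commutator, map_subgroupOf_eq_of_le le_sup_left] at this
    set Q := Cfsg.pCoreTwoOf H with hQdef
    -- O₂(H) ≤ T
    have hQT : Q ≤ (T : Subgroup G) := by
      have h1 : pCore 2 ↥H ≤ (P : Subgroup ↥H) := by
        have hp : IsPGroup 2 ↥(pCore 2 ↥H ⊔ (P : Subgroup ↥H)) :=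
          (isPGroup_pCore 2).to_sup_of_normal_left' P.2 (by rw [normalizer_eq_top]; exact le_top)
        exact le_sup_left.trans (P.3 hp le_sup_right).le
      refine (Subgroup.map_mono (f := H.subtype) h1).trans ?_
      rw [hP, map_subgroupOf_eq_of_le le_sup_right]
    have hQne : Q ≠ ⊥ := fun e => hO ((map_eq_bot_iff_of_injective _ H.subtype_injective).1 e)
    set N := Subgroup.normalizer (Q : Set G) with hN
    have hTN : (T : Subgroup G) ≤ N := (le_sup_right (a := K)).trans (self_le_norm_pc H)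
    have hcN : CharPGroup 2 ↥N := hQ.2.2 _ ⟨Q, pc_pgroup H, hQne, rfl⟩ ⟨T, hTN⟩
    have hcH : CharPGroup 2 ↥H := by
      refine charP_congr (subgroupOfEquivOfLe (self_le_norm_pc H)) (charP_of_normalized hcN ?_)
      refine le_trans ?_ le_normalizer
      intro x hx
      refine mem_subgroupOf.2 ((le_sup_right (a := K)) ?_)
      set S := T.subtype hTN
      have hp : IsPGroup 2 ↥(pCore 2 ↥N ⊔ (S : Subgroup ↥N)) :=
        (isPGroup_pCore 2).to_sup_of_normal_left' S.2 (by rw [normalizer_eq_top]; exact le_top)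
      exact mem_subgroupOf.1 ((le_sup_left.trans (S.3 hp le_sup_right).le) hx : x ∈ (S : Subgroup ↥N))
    have hcK : CharPGroup 2 ↥K :=
      charP_congr (subgroupOfEquivOfLe (le_sup_left (b := (T : Subgroup G)))) (charP_subnormal hcH hKs)
    have hKne' : K ≠ ⊥ := fun e => hKne (by rw [e, bot_subgroupOf])
    refine ⟨hK, ⟨hKne', oddGenerated_perfect hKperf, charP_iff_genFitting.1 hcK⟩, ?_⟩
    -- the module
    set R := Cfsg.pCoreTwoOf X with hR
    have hXH : X ≤ H := sup_le_sup_right hLK _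
    have hQR : Q ≤ R := le_pc (hQT.trans le_sup_right) (pc_pgroup H) (hXH.trans (self_le_norm_pc H))
    have hLR : L ≤ normalizer (R : Set G) := le_sup_left.trans (self_le_norm_pc X)
    have hRL : R ≤ normalizer (L : Set G) := pc_norm_perfect le_sup_left hLs hLperf
    have hRL2 : ⁅R, L⁆ ≤ Cfsg.pCoreTwoOf L :=
      (le_inf (le_normalizer_iff_commutator_le_right.mp hRL) (le_normalizer_iff_commutator_le_left.mp hLR)).trans
        (le_pc inf_le_left ((pc_pgroup X).to_le inf_le_right)
          ((le_inf le_normalizer hLR).trans inf_normalizer_le_normalizer_inf))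
    have hc : ⁅⁅R, L⁆, omZ L⁆ = ⊥ := by
      refine le_bot_iff.1 ((commutator_mono hRL2 le_rfl).trans (le_of_eq ?_))
      rw [commutator_comm, commutator_eq_bot_iff_le_centralizer]
      exact (omZ_le L).trans inf_le_right
    have hCR : omZ L ⊓ centralizer (R : Set G) ≤ omZ H := by
      rintro x ⟨hx, hxR⟩
      have hxH : x ∈ H := (le_sup_left.trans' hLK : L ≤ H) (pc_le L (omZ_le L hx).1)
      have hxc : x ∈ centralizer (Q : Set G) :=
        mem_centralizer_iff.2 fun q hq => mem_centralizer_iff.1 hxR q (hQR hq)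
      refine Subgroup.subset_closure ⟨⟨?_, hxc⟩, omZ_sq L hx⟩
      exact ⟨⟨x, hxH⟩, hcH (mem_centralizer_iff.2 fun q hq =>
        Subtype.ext (mem_centralizer_iff.1 hxc _ ⟨q, hq, rfl⟩)), rfl⟩
    set W := omZ H with hW
    have hWK : ⁅W, K⁆ ≠ ⊥ := by
      intro h
      refine hLV ?_
      exact axb hLperf (pc_pgroup X) hLR (omZ L) ((pc_pgroup L).to_le ((omZ_le L).trans inf_le_left))
        (hRL.trans (norm_omZ L)) (le_normalizer.trans (norm_omZ L)) hc
        (le_bot_iff.1 ((commutator_mono hCR hLK).trans h.le))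
    intro hV
    apply hWK
    have hKW : K ≤ normalizer (W : Set G) :=
      (le_sup_left.trans le_normalizer).trans (norm_omZ H)
    have h1 : ⁅W, K⁆ ≤ W := le_normalizer_iff_commutator_le_left.mp hKW
    have hWQ : W ≤ Q := (omZ_le H).trans inf_le_left
    have h2 : ⁅W, K⁆ ≤ K :=
      (commutator_mono hWQ le_rfl).trans
        (le_normalizer_iff_commutator_le_right.mp (pc_norm_perfect le_sup_left hKs hKperf))
    have h3 : ⁅W, K⁆ ≤ Cfsg.pCoreTwoOf K :=
      le_pc h2 ((pc_pgroup H).to_le (h1.trans hWQ))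
        (fun x hx => by
          rw [mem_normalizer_iff_map_conj_eq, map_commutator,
            mem_normalizer_iff_map_conj_eq.mp (hKW hx),
            mem_normalizer_iff_map_conj_eq.mp (le_normalizer hx)])
    have hKQ : Cfsg.pCoreTwoOf K ≤ Q := by
      have hKH : K ≤ H := le_sup_left
      have hn : ((((Cfsg.pCoreTwoOf K).subgroupOf H)).subgroupOf (K.subgroupOf H)).Normal :=
        normal_subgroupOf_of_le_normalizer fun x hx => mem_normalizer_iff.2 fun y => by
          simpa [mem_subgroupOf] using mem_normalizer_iff.1 (self_le_norm_pc K hx) (y : G)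
      have hs : ((Cfsg.pCoreTwoOf K).subgroupOf H).IsSubnormal := Subgroup.IsSubnormal.trans (Subgroup.comap_mono (pc_le K)) hn.isSubnormal hKs
      have := Subgroup.map_mono (f := H.subtype) (le_pCore_of_subnormal hs
        ((pc_pgroup K).of_equiv (subgroupOfEquivOfLe ((pc_le K).trans hKH)).symm))
      rwa [map_subgroupOf_eq_of_le ((pc_le K).trans hKH)] at this
    have h4 : ⁅W, K⁆ ≤ omZ K := fun x hx => Subgroup.subset_closure
      ⟨⟨h3 hx, mem_centralizer_iff.2 fun q hq =>
        mem_centralizer_iff.1 ((omZ_le H) (h1 hx)).2 q (hKQ hq)⟩, omZ_sq H (h1 hx)⟩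
    have h5 : ⁅⁅W, K⁆, K⁆ = ⊥ := le_bot_iff.1 ((commutator_mono h4 le_rfl).trans hV.le)
    rw [commutator_comm]
    refine commutator_eq_bot_of_perfect hKperf ?_
    rw [commutator_comm K W]
    exact h5

end Cfsg.Agent.S1851
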