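import Cfsg.Statements.S1852
import Cfsg.Agent.QTKE.Solv.Main

set_option autoImplicit false
open Cfsg
open scoped commutatorElement

namespace Cfsg.Agent.S1852

/-- Let G be a non-abelian finite simple QTKE-group and T a Sylow 2-subgroup of G lying in at least two distinct maximal 2-local subgroups of G. Let X be a member of Ξ*(G, T) — X = O²(X) is T-invariant with O₂(XT) ≠ 1, X/O₂(X) is elementary abelian of order p² or extraspecial of order p³ for some odd prime p, T is irreducible on the Frattini quotient of X/O₂(X), and XT lies in no ⟨L, T⟩ with L ∈ ℒ(G, T) and L/O₂(L) quasisimple — that also lies in 𝒳 (F*(X) = O₂(X)) and acts nontrivially on Ω₁(Z(O₂(X))) (a faithful solvable uniqueness group). Then either X is a {2, 3}-group, or X/O₂(X) is a 5-group and the group of automorphisms of X/O₂(X) induced by N_G(X) is a {2, 5}-group (rendered: for every prime r other than 2 and 5, an element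 of N_G(X) whose r-th power acts trivially on X/O₂(X) itself acts trivially on X/O₂(X)). -/
theorem result {G : Type*} [Group G] [Finite G] [IsSimpleGroup G]
    (hG : ¬ IsMulCommutative G) (hQ : Cfsg.IsQTKE G) (T : Sylow 2 G) (X : Subgroup G)
    (hT : ∃ M₁ M₂ : Subgroup G, M₁ ∈ Cfsg.maxTwoLocalsContaining (T : Subgroup G) ∧
      M₂ ∈ Cfsg.maxTwoLocalsContaining (T : Subgroup G) ∧ M₁ ≠ M₂)
    (hX : X ∈ Cfsg.XiStar (T : Subgroup G)) (hXf : X ∈ Cfsg.calXf G) :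
    (∀ p : ℕ, p.Prime → p ∣ Nat.card ↥X → p = 2 ∨ p = 3) ∨
    (IsPGroup 5 (↥X ⧸ Cfsg.pCore 2 ↥X) ∧
      ∀ r : ℕ, r.Prime → r ≠ 2 → r ≠ 5 → ∀ g ∈ Subgroup.normalizer (X : Set G),
        (∀ x ∈ X, g ^ r * x * (g ^ r)⁻¹ * x⁻¹ ∈ Cfsg.pCoreTwoOf X) →
          ∀ x ∈ X, g * x * g⁻¹ * x⁻¹ ∈ Cfsg.pCoreTwoOf X) := by
  classical
  haveI : Fact (Nat.Prime 2) := ⟨Nat.prime_two⟩
  obtain ⟨p, d⟩ := Cfsg.Lib.QTSolv.exists_dat hX.1
  have hdiv : ∀ q : ℕ, q.Prime → q ∣ Nat.card ↥X → q = 2 ∨ q = p := by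
    intro q hq hqd
    obtain ⟨n, hn, -⟩ := d.card_quo
    obtain ⟨k, hk⟩ := (Cfsg.Lib.Components.isPGroup_pCore (G := ↥X) 2).exists_card_eq
    rw [Subgroup.card_eq_card_quotient_mul_card_subgroup (Cfsg.pCore 2 ↥X), hn, hk] at hqd
    rcases (Nat.Prime.dvd_mul hq).1 hqd with h | h
    · exact Or.inr ((Nat.prime_dvd_prime_iff_eq hq d.hp).1 (hq.dvd_of_dvd_pow h))
    · exact Or.inl ((Nat.prime_dvd_prime_iff_eq hq Nat.prime_two).1 (hq.dvd_of_dvd_pow h))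
  by_cases hp3 : p = 3
  · exact Or.inl fun q hq hqd => hp3 ▸ hdiv q hq hqd
  have h5 : 5 ≤ p := by
    have h2 := d.hp.two_le
    have hne := d.hp2
    have h4 : p ≠ 4 := fun h => by
      have h' := d.hp
      rw [h] at h'
      exact absurd h' (by decide)
    omega
  obtain ⟨R, V, m⟩ := Cfsg.Lib.QTSolv.exists_mdl d hXf.2
  have huniq := Cfsg.Agent.S1822.result hG hQ T X hX
  set M := Subgroup.normalizer (X : Set G)
  have hXTM : M ∈ Cfsg.maxTwoLocalsContaining (X ⊔ (T : Subgroup G)) := huniq ▸ Set.mem_singleton M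
  have hM : M ∈ Cfsg.maxTwoLocalsContaining (T : Subgroup G) := ⟨hXTM.1, le_sup_right.trans hXTM.2⟩
  obtain ⟨M₂, hM₂, hne⟩ : ∃ M₂ ∈ Cfsg.maxTwoLocalsContaining (T : Subgroup G), M₂ ≠ M := by
    obtain ⟨M₁, M₂, h₁, h₂, h⟩ := hT
    by_cases h' : M₁ = M
    · exact ⟨M₂, h₂, fun h'' => h (h'.trans h''.symm)⟩
    · exact ⟨M₁, h₁, h'⟩
  obtain ⟨H, ⟨hH₁, -⟩, hmin⟩ := Set.exists_min_image
    {H | H ∈ Cfsg.calHOverNotLE (T : Subgroup G) M ∧ H ≤ M₂} (fun H => Nat.card H) (Set.toFinite _)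
    ⟨M₂, ⟨⟨Cfsg.Lib.QTUniq.pCore_ne_bot_of_twoLocal hM₂.1.1, hM₂.2⟩,
      fun hle => hne (hM₂.1.2 M hM.1.1 hle).symm⟩, le_rfl⟩
  obtain ⟨H, hH, -⟩ : ∃ H, H ∈ Cfsg.calHMin (T : Subgroup G) M ∧ True := by
    obtain ⟨H', hH', hmin'⟩ := Set.exists_min_image
      (Cfsg.calHOverNotLE (T : Subgroup G) M) (fun H => Nat.card H) (Set.toFinite _) ⟨H, hH₁⟩
    exact ⟨H', ⟨hH', fun K hK hle => Subgroup.eq_of_le_of_card_ge hle (hmin' K hK)⟩, trivial⟩
  have hcub : Cfsg.CubicParamLE (X ⊔ (T : Subgroup G)) V 2 ∨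
      Cfsg.QuadParamLE (X ⊔ (T : Subgroup G)) V 2 := by
    rcases Cfsg.Agent.S1824.result hG hQ T M (X ⊔ (T : Subgroup G)) H V hM le_sup_right hXTM.2 hH m.mem_calR2
      (m.core.trans m.T_cent.symm) (Or.inl (by rw [m.odd_M0]; exact inf_le_right))
      with ⟨R₀, h0, hR₀, hn⟩ | ⟨-, h⟩ | h
    · exfalso
      have hloc : Cfsg.IsTwoLocal (Subgroup.normalizer (R₀ : Set G)) :=
        ⟨R₀, (Cfsg.Lib.JComp.isPGroup_pCoreOf _).to_le hR₀, h0, rfl⟩
      obtain ⟨L, ⟨hL, hle⟩, hmax⟩ := Set.exists_max_image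
        {L : Subgroup G | Cfsg.IsTwoLocal L ∧ Subgroup.normalizer (R₀ : Set G) ≤ L}
        (fun L => Nat.card L) (Set.toFinite _) ⟨_, hloc, le_rfl⟩
      have hmem : L ∈ Cfsg.maxTwoLocalsContaining (X ⊔ (T : Subgroup G)) :=
        ⟨⟨hL, fun L' hL' h => (Subgroup.eq_of_le_of_card_ge h (hmax L' ⟨hL', hle.trans h⟩)).symm⟩,
          (le_sup_left.trans hn).trans hle⟩
      rw [huniq, Set.mem_singleton_iff] at hmem
      exact hH.1.2 (((le_sup_right : H ≤ _).trans hn).trans (hle.trans hmem.le))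
    · exact Or.inl h
    · exact Or.inr h
  obtain ⟨hp5, haut⟩ := m.five h5 hcub
  refine Or.inr ⟨hp5 ▸ d.pgroup, fun r hr hr2 hr5 g hg hgr x hx => ?_⟩
  have h := haut r hr hr2 hr5 g hg (fun y hy => ?_) x hx
  · have h' := Subgroup.inv_mem _ h
    rwa [show (⁅x, g⁆)⁻¹ = g * x * g⁻¹ * x⁻¹ by simp only [commutatorElement_def]; group] at h'
  · have h' := Subgroup.inv_mem _ (hgr y hy)
    rwa [show (g ^ r * y * (g ^ r)⁻¹ * y⁻¹)⁻¹ = ⁅y, g ^ r⁆ by simp only [commutatorElement_def]; group] at h'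

end Cfsg.Agent.S1852
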