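import Cfsg.Statements.S1892
import Cfsg.Agent.PLocal.StableClosureApps
import Cfsg.Agent.Components.Cores

set_option autoImplicit false
open Cfsg

namespace Cfsg.Agent.S1892

/-- Let S be a finite p-solvable group with no nontrivial normal subgroup of order prime to p, A a p-subgroup of S, and Q a nontrivial A-invariant subgroup of order prime to p with [A, Q] = Q. Then the commutator [O_p(S), A, Q] is nontrivial. -/
theorem result {S : Type*} [Group S] [Finite S] {p : ℕ} [Fact p.Prime]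
    (hS : Cfsg.IsPSolvable p S) (hred : Cfsg.pPrimeCore p S = ⊥)
    (A Q : Subgroup S) (hA : IsPGroup p A) (hQ : ¬ p ∣ Nat.card Q) (hQ1 : Q ≠ ⊥)
    (hinv : ∀ a ∈ A, ∀ x ∈ Q, a * x * a⁻¹ ∈ Q) (hAQ : ⁅A, Q⁆ = Q) :
    ⁅⁅Cfsg.pCore p S, A⁆, Q⁆ ≠ ⊥ := by
  open Subgroup in
  open scoped commutatorElement in
  exact by
    set P := Cfsg.pCore p S with hP
    intro h0
    have hPp : IsPGroup p P := Cfsg.Lib.Components.isPGroup_pCore p
    have hCP : centralizer (P : Set S) ≤ P := Cfsg.Lib.StableClosure.centralizer_pCore_le_of_pSolvable hS hred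
    have hfix : ∀ c ∈ ⁅P, A⁆, ∀ y ∈ Q, y * c * y⁻¹ = c := fun c hc y hy =>
      mul_inv_eq_iff_eq_mul.2 (mem_centralizer_iff.1 ((commutator_eq_bot_iff_le_centralizer.1 h0) hc) y hy)
    have hmem : ∀ a ∈ A, ∀ v ∈ P, a * v * a⁻¹ * v⁻¹ ∈ ⁅P, A⁆ := fun a ha v hv => by
      rw [commutator_comm]; exact commutator_mem_commutator ha hv
    refine hQ1 (hAQ ▸ (commutator_eq_bot_iff_le_centralizer.2 fun a ha => ?_))
    refine mem_centralizer_iff.2 fun x hx => ?_
    have hu : a * x * a⁻¹ ∈ Q := hinv a ha x hx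
    set y := x⁻¹ * (a * x * a⁻¹) with hy
    have hyQ : y ∈ Q := mul_mem (inv_mem hx) hu
    have hyo : (orderOf y).Coprime p :=
      (((Fact.out : p.Prime).coprime_iff_not_dvd.2 hQ).symm).coprime_dvd_left (orderOf_dvd_natCard Q hyQ)
    have hyC : y ∈ centralizer (P : Set S) := by
      refine mem_centralizer_iff.2 fun v hv => ?_
      have hvx : x * v * x⁻¹ ∈ P := Normal.conj_mem inferInstance v hv x
      set c := a * v * a⁻¹ * v⁻¹ with hc
      set d := a * (x * v * x⁻¹) * a⁻¹ * (x * v * x⁻¹)⁻¹ with hd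
      have hcd : y * v * y⁻¹ = c⁻¹ * d * v := by
        have hdf : x⁻¹ * d * x = d := by
          have h := hfix d (hmem a ha _ hvx) x⁻¹ (inv_mem hx)
          rwa [inv_inv] at h
        calc y * v * y⁻¹ = (y * c * y⁻¹)⁻¹ * (y * (a * v * a⁻¹) * y⁻¹) := by rw [hc]; group
          _ = c⁻¹ * (y * (a * v * a⁻¹) * y⁻¹) := by rw [hfix c (hmem a ha v hv) y hyQ]
          _ = c⁻¹ * ((x⁻¹ * d * x) * v) := by rw [hy, hd]; group
          _ = c⁻¹ * d * v := by rw [hdf]; group
      set e := c⁻¹ * d with he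
      have heP : e ∈ ⁅P, A⁆ := mul_mem (inv_mem (hmem a ha v hv)) (hmem a ha _ hvx)
      have hpow : ∀ n : ℕ, y ^ n * v * (y ^ n)⁻¹ = e ^ n * v := by
        intro n
        induction n with
        | zero => simp
        | succ n ih =>
          calc y ^ (n + 1) * v * (y ^ (n + 1))⁻¹ = y * (y ^ n * v * (y ^ n)⁻¹) * y⁻¹ := by rw [pow_succ']; group
            _ = (y * e ^ n * y⁻¹) * (y * v * y⁻¹) := by rw [ih]; group
            _ = e ^ (n + 1) * v := by rw [hfix _ (pow_mem heP n) y hyQ, hcd, pow_succ]; group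
      have h1 := hpow (orderOf y)
      rw [pow_orderOf_eq_one] at h1
      simp only [one_mul, inv_one, mul_one] at h1
      have hePP : e ∈ P := commutator_le_left (H₁ := P) (H₂ := A) heP
      obtain ⟨k, hk⟩ := hPp ⟨e, hePP⟩
      have he1 : e = 1 := orderOf_eq_one_iff.1 (Nat.eq_one_of_dvd_coprimes (hyo.pow_right k)
        (orderOf_dvd_of_pow_eq_one (mul_eq_right.1 h1.symm)) (orderOf_dvd_of_pow_eq_one (congrArg Subtype.val hk)))
      rw [he1, one_mul] at hcd
      exact (mul_inv_eq_iff_eq_mul.1 hcd).symm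
    obtain ⟨k, hk⟩ := hPp ⟨y, hCP hyC⟩
    have hy1 : y = 1 := orderOf_eq_one_iff.1 (Nat.eq_one_of_dvd_coprimes (hyo.pow_right k) dvd_rfl
      (orderOf_dvd_of_pow_eq_one (congrArg Subtype.val hk)))
    rw [hy] at hy1
    exact (mul_inv_eq_iff_eq_mul.1 (inv_mul_eq_one.1 hy1).symm).symm

end Cfsg.Agent.S1892
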