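import Cfsg.Statements.S1894
import Cfsg.Agent.PGroups.Basic

set_option autoImplicit false
open Cfsg

namespace Cfsg.Agent.S1894

/-- Let P be a finite p-group, A a normal subgroup of P and B an abelian subgroup of A that is normal in P. Then some subgroup C of A containing B is normal in P and is self-centralizing and normal in A (C ∈ SCN(A)). -/
theorem result {P : Type*} [Group P] [Finite P] {p : ℕ} [Fact p.Prime] (hP : IsPGroup p P)
    (A : Subgroup P) [A.Normal] (B : Subgroup P) [B.Normal] (hBA : B ≤ A) (hB : IsMulCommutative B) :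
    ∃ C : Subgroup P, C.Normal ∧ B ≤ C ∧ Cfsg.IsSCN A C := by
  classical
  obtain ⟨C, hBC, hC⟩ := Finite.exists_le_maximal
    (p := fun C : Subgroup P => C.Normal ∧ IsMulCommutative C ∧ C ≤ A) (a := B)
    ⟨inferInstance, hB, hBA⟩
  obtain ⟨hCn, hCab, hCA⟩ := hC.prop
  haveI := hCn
  refine ⟨C, hCn, hBC, hCA, fun g _ => by rw [Subgroup.normalizer_eq_top]; trivial, ?_⟩
  have hCc : C ≤ Subgroup.centralizer (C : Set P) := fun a ha => Subgroup.mem_centralizer_iff.2 fun b hb =>
    congrArg Subtype.val (hCab.is_comm.comm ⟨b, hb⟩ ⟨a, ha⟩)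
  refine le_antisymm ?_ (le_inf hCA hCc)
  set D := A ⊓ Subgroup.centralizer (C : Set P) with hD
  by_contra hne
  set q := QuotientGroup.mk' C
  haveI : (D.map q).Normal := Subgroup.Normal.map inferInstance q (QuotientGroup.mk'_surjective C)
  have hDne : D.map q ≠ ⊥ := by
    rw [ne_eq, Subgroup.map_eq_bot_iff, QuotientGroup.ker_mk']
    exact hne
  obtain ⟨w, ⟨x, hx, rfl⟩, hwc, hwo⟩ :=
    Cfsg.Lib.PGroups.exists_mem_center_of_normal_ne_bot (p := p) (hP.to_quotient C) hDne
  have hxC : x ∉ C := fun hxC => by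
    rw [show q x = 1 from (QuotientGroup.eq_one_iff x).2 hxC, orderOf_one] at hwo
    exact (Fact.out : p.Prime).ne_one hwo.symm
  have hC' : ∀ g : P, g * x * g⁻¹ * x⁻¹ ∈ C := fun g => by
    refine (QuotientGroup.eq_one_iff _).1 ?_
    show q (g * x * g⁻¹ * x⁻¹) = 1
    rw [map_mul, map_mul, map_mul, map_inv, map_inv, Subgroup.mem_center_iff.1 hwc (q g)]
    group
  set C1 := C ⊔ Subgroup.zpowers x with hC1
  have hxC1 : x ∈ C1 := Subgroup.mem_sup_right (Subgroup.mem_zpowers x)
  have hC1n : C1.Normal := by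
    refine ⟨fun u hu g => ?_⟩
    have hle : C1 ≤ C1.comap (MulAut.conj g).toMonoidHom := by
      refine sup_le (fun c hc => Subgroup.mem_sup_left (hCn.conj_mem c hc g)) (Subgroup.zpowers_le.2 ?_)
      show g * x * g⁻¹ ∈ C1
      have := mul_mem (Subgroup.mem_sup_left (T := Subgroup.zpowers x) (hC' g)) hxC1
      rwa [inv_mul_cancel_right] at this
    exact hle hu
  have hcommx : C1 ≤ Subgroup.centralizer (C1 : Set P) := by
    rw [hC1, Subgroup.le_centralizer_iff]
    refine sup_le ?_ (Subgroup.zpowers_le.2 ?_)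
    · rw [Subgroup.le_centralizer_iff]
      exact sup_le hCc (Subgroup.zpowers_le.2 hx.2)
    · refine Subgroup.mem_centralizer_iff.2 fun y hy => ?_
      have hle : C ⊔ Subgroup.zpowers x ≤ Subgroup.centralizer ({x} : Set P) :=
        sup_le (fun c hc => Subgroup.mem_centralizer_singleton_iff.2 (Subgroup.mem_centralizer_iff.1 hx.2 c hc))
          (Subgroup.zpowers_le.2 (Subgroup.mem_centralizer_singleton_iff.2 rfl))
      exact Subgroup.mem_centralizer_singleton_iff.1 (hle hy)
  have hC1ab : IsMulCommutative C1 :=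
    ⟨⟨fun a b => Subtype.ext (Subgroup.mem_centralizer_iff.1 (hcommx b.2) a a.2)⟩⟩
  exact hxC (hC.le_of_ge (y := C1) ⟨hC1n, hC1ab, sup_le hCA (Subgroup.zpowers_le.2 hx.1)⟩ le_sup_left hxC1)

end Cfsg.Agent.S1894
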