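import Cfsg.Statements.S1896
import Cfsg.Agent.PGroups.MetacyclicTwo
import Cfsg.Agent.PGroups.CommutatorIndexFour

set_option autoImplicit false
open Cfsg

namespace Cfsg.Agent.S1896

/-- A finite metacyclic 2-group whose automorphism group is not a 2-group is isomorphic to the quaternion group of order 8 or to a homocyclic abelian group Z_{2^n} × Z_{2^n}. -/
theorem result {X : Type*} [Group X] [Finite X] (hX : IsPGroup 2 X)
    (hm : Cfsg.IsMetacyclic X) (hA : ¬ IsPGroup 2 (MulAut X)) :
    Nonempty (X ≃* QuaternionGroup 2) ∨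
      ∃ n : ℕ, Nonempty (X ≃* Multiplicative (ZMod (2 ^ n)) × Multiplicative (ZMod (2 ^ n))) := by
  classical
  haveI : Fact (Nat.Prime 2) := ⟨Nat.prime_two⟩
  haveI : Finite (MulAut X) := Finite.of_injective (fun f : MulAut X => (f : X → X)) DFunLike.coe_injective
  obtain ⟨α, hodd, hα1⟩ : ∃ α : MulAut X, Odd (orderOf α) ∧ α ≠ 1 := by
    by_contra hc
    push_neg at hc
    refine hA fun β => ?_
    obtain ⟨t, k, hk, hord⟩ := Nat.exists_eq_pow_mul_and_not_dvd (orderOf_pos β).ne' 2 (by norm_num)
    refine ⟨t, hc _ ?_⟩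
    rw [orderOf_pow_of_dvd (pow_ne_zero _ two_ne_zero) ⟨k, hord⟩, hord, Nat.mul_div_cancel_left _ (Nat.two_pow_pos t)]
    exact Nat.odd_iff.2 (by omega)
  have hst : α ∉ Cfsg.Lib.MetaTwo.stab X := fun h => hα1 (Cfsg.Lib.MetaTwo.eq_one_of_mem_stab hX hodd h)
  rcases Cfsg.Lib.MetaTwo.odd_aut_structure hX hm α hodd hst with ⟨-, k, ⟨e⟩⟩ | ⟨h8, c, hc1, hc2, -, -, hcen, hcomm⟩
  · refine Or.inr ⟨k, ⟨e.trans ?_⟩⟩
    exact
      { toFun := fun f => (Multiplicative.ofAdd (Multiplicative.toAdd f 0), Multiplicative.ofAdd (Multiplicative.toAdd f 1))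
        invFun := fun p => Multiplicative.ofAdd ![Multiplicative.toAdd p.1, Multiplicative.toAdd p.2]
        left_inv := fun f => by
          apply Multiplicative.toAdd.injective
          funext i
          fin_cases i <;> rfl
        right_inv := fun p => rfl
        map_mul' := fun f g => rfl }
  · refine Or.inl ?_
    have hord : orderOf c = 2 := orderOf_eq_prime (by rw [pow_two]; exact hc2) hc1
    have hna : ¬ IsMulCommutative X := fun h => by
      have hsub : Nat.card X ≤ 2 := by
        have hall : ∀ x : X, x ∈ Subgroup.zpowers c := fun x => by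
          rcases hcen x (fun z => h.is_comm.comm x z) with rfl | rfl
          · exact one_mem _
          · exact Subgroup.mem_zpowers _
        rw [← Subgroup.card_top, ← (Subgroup.eq_top_iff' _).2 hall, Nat.card_zpowers, hord]
      omega
    have hle : commutator X ≤ Subgroup.zpowers c := by
      rw [commutator_def, Subgroup.commutator_le]
      exact fun x _ z _ => hcomm x z
    have hne : commutator X ≠ ⊥ := fun h => hna ⟨⟨fun a b => commutatorElement_eq_one_iff_mul_comm.1
      (Subgroup.mem_bot.1 (h ▸ Subgroup.commutator_mem_commutator (Subgroup.mem_top a) (Subgroup.mem_top b)))⟩⟩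
    have h2 : Nat.card ↥(commutator X) = 2 := by
      have hd := Subgroup.card_dvd_of_le hle
      rw [Nat.card_zpowers, hord] at hd
      rcases (Nat.dvd_prime Nat.prime_two).1 hd with h | h
      · exact absurd (Subgroup.card_eq_one.1 h) hne
      · exact h
    have h4 : (commutator X).index = 4 := by
      have h := (commutator X).card_mul_index
      rw [h2, h8] at h
      omega
    exact Cfsg.Lib.IndexFour.quaternion_of_aut hX hna h4 hA

end Cfsg.Agent.S1896
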