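import Cfsg.Statements.S1899
import Cfsg.Agent.Transfer.Basic

set_option autoImplicit false
open Cfsg

namespace Cfsg.Agent.S1899

/-- Let a dihedral group of order 2n, n odd and n > 1, act on a finite abelian 2-group A through automorphisms d and t with d^n = 1, t² = 1 and t d t⁻¹ = d⁻¹, and suppose that d fixes only the identity. Then A is the internal direct product of C_A(t) and its image under d. -/
theorem result {A : Type*} [CommGroup A] [Finite A] (hA : IsPGroup 2 A)
    {n : ℕ} (hn : Odd n) (hn1 : 1 < n) (d t : MulAut A) (hd : d ^ n = 1) (ht : t ^ 2 = 1) (hdt : t * d * t⁻¹ = d⁻¹)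
    (hfix : ∀ a : A, d a = a → a = 1) :
    (MulEquiv.toMonoidHom t).eqLocus (MonoidHom.id A) ⊓ ((MulEquiv.toMonoidHom t).eqLocus (MonoidHom.id A)).map d.toMonoidHom = ⊥ ∧
      (MulEquiv.toMonoidHom t).eqLocus (MonoidHom.id A) ⊔ ((MulEquiv.toMonoidHom t).eqLocus (MonoidHom.id A)).map d.toMonoidHom = ⊤ := by
  classical
  set C := (MulEquiv.toMonoidHom t).eqLocus (MonoidHom.id A) with hC
  have hCm : ∀ a : A, a ∈ C ↔ t a = a := fun a => Iff.rfl
  have hdt' : ∀ a : A, t (d a) = d⁻¹ (t a) := fun a => by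
    have h := congrArg (fun f : MulAut A => f (t a)) hdt
    simpa using h
  have htt : ∀ a : A, t (t a) = a := fun a => by
    have h := congrArg (fun f : MulAut A => f a) ht
    simpa [sq] using h
  have hd2 : ∀ a : A, d a = d⁻¹ a → a = 1 := by
    intro a ha
    apply hfix
    have h2 : d (d a) = a := by rw [ha]; simp
    obtain ⟨k, hk⟩ := hn
    have hk' : ∀ j : ℕ, (d ^ (2 * j)) a = a := by
      intro j
      induction j with
      | zero => simp
      | succ j ih => rw [show 2 * (j + 1) = 2 * j + 1 + 1 by omega, pow_succ, pow_succ, MulAut.mul_apply, MulAut.mul_apply, h2, ih]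
    have h3 := congrArg (fun f : MulAut A => f a) hd
    simp only [MulAut.one_apply] at h3
    rw [hk, pow_succ, MulAut.mul_apply] at h3
    have h4 : (d ^ (2 * k)) (d a) = (d ^ (2 * k)) a := by rw [h3, hk' k]
    exact (d ^ (2 * k)).injective h4
  have hinf : C ⊓ C.map d.toMonoidHom = ⊥ := by
    rw [eq_bot_iff]
    rintro _ ⟨h1, c, hc, rfl⟩
    have h2 : t (d c) = d c := h1
    rw [hdt', show t c = c from hc] at h2
    rw [Subgroup.mem_bot]
    show d c = 1
    rw [hd2 c h2.symm, map_one]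
  refine ⟨hinf, ?_⟩
  let g : A →* A := MonoidHom.mk' (fun a => t a * a⁻¹) fun a b => by
    rw [map_mul, mul_inv]; exact mul_mul_mul_comm _ _ _ _
  have hker : g.ker = C := by
    ext a
    exact (mul_inv_eq_one (a := t a) (b := a))
  have hneg : ∀ x ∈ g.range, t x = x⁻¹ := by
    rintro _ ⟨a, rfl⟩
    show t (t a * a⁻¹) = (t a * a⁻¹)⁻¹
    rw [map_mul, map_inv, htt, mul_inv, inv_inv, mul_comm]
  let f : g.range → C := fun x => ⟨d (x : A) * t (d (x : A)), by
    rw [hCm, map_mul, htt, mul_comm]⟩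
  have hf : Function.Injective f := by
    intro x y hxy
    have h1 : d (x : A) * t (d (x : A)) = d (y : A) * t (d (y : A)) := congrArg Subtype.val hxy
    rw [hdt', hdt', hneg _ x.2, hneg _ y.2, map_inv, map_inv] at h1
    have h2 : d ((x : A) * (y : A)⁻¹) = d⁻¹ ((x : A) * (y : A)⁻¹) := by
      rw [map_mul, map_mul, map_inv, map_inv]
      calc d (x : A) * (d (y : A))⁻¹
          = d (x : A) * (d⁻¹ (x : A))⁻¹ * (d⁻¹ (x : A) * (d (y : A))⁻¹) := by
            simp [mul_assoc]
        _ = d (y : A) * (d⁻¹ (y : A))⁻¹ * (d⁻¹ (x : A) * (d (y : A))⁻¹) := by rw [h1]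
        _ = d⁻¹ (x : A) * (d⁻¹ (y : A))⁻¹ := by
            rw [mul_comm (d (y : A)), mul_mul_mul_comm, mul_inv_cancel, mul_one, mul_comm]
    exact Subtype.ext (mul_inv_eq_one.1 (hd2 _ h2))
  have hcard : Nat.card A ≤ Nat.card C * Nat.card C := by
    rw [← g.ker.card_mul_index, Subgroup.index_ker, hker]
    exact Nat.mul_le_mul le_rfl (Nat.card_le_card_of_injective f hf)
  let h : C × C → ↥(C ⊔ C.map d.toMonoidHom) := fun z =>
    ⟨(z.1 : A) * d z.2, mul_mem (Subgroup.mem_sup_left z.1.2) (Subgroup.mem_sup_right ⟨z.2, z.2.2, rfl⟩)⟩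
  have hh : Function.Injective h := by
    rintro ⟨u, v⟩ ⟨u', v'⟩ huv
    have h1 : (u : A) * d v = u' * d v' := congrArg Subtype.val huv
    have h2 : (u : A)⁻¹ * u' = d ((v : A) * (v' : A)⁻¹) := by
      rw [map_mul, map_inv, eq_mul_inv_iff_mul_eq, mul_assoc, ← h1, inv_mul_cancel_left]
    have h3 : (u : A)⁻¹ * u' ∈ C ⊓ C.map d.toMonoidHom := Subgroup.mem_inf.2
      ⟨mul_mem (inv_mem u.2) u'.2, h2 ▸ ⟨_, mul_mem v.2 (inv_mem v'.2), rfl⟩⟩
    rw [hinf, Subgroup.mem_bot] at h3
    have hu : u = u' := Subtype.ext (inv_mul_eq_one.1 h3)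
    subst hu
    have hv : v = v' := Subtype.ext (d.injective (mul_left_cancel h1))
    rw [hv]
  refine Subgroup.eq_top_of_le_card _ ?_
  refine hcard.trans ?_
  rw [← Nat.card_prod]
  exact Nat.card_le_card_of_injective h hh

end Cfsg.Agent.S1899
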