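import Cfsg.Statements.S1900
import Cfsg.Agent.Components.Misc.TwoFixed

set_option autoImplicit false
open Cfsg

namespace Cfsg.Agent.S1900

/-- Let S = PQ be a finite group with P a normal Sylow p-subgroup and Q elementary abelian of order q², q a prime different from p. If exactly two subgroups X₁, X₂ of order q in Q have a nontrivial centralizer in P, then P is the internal direct product of C_P(X₁) and C_P(X₂): they commute elementwise, meet trivially and generate P. -/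
theorem result {S : Type*} [Group S] [Finite S] {p q : ℕ} [Fact p.Prime] [Fact q.Prime] (hpq : p ≠ q)
    (P : Sylow p S) [(P : Subgroup S).Normal] (Q : Subgroup S) (hQ : Cfsg.IsElementaryAbelian q Q) (hQc : Nat.card Q = q ^ 2)
    (hS : (P : Subgroup S) ⊔ Q = ⊤)
    (X₁ X₂ : Subgroup S) (h₁ : X₁ ≤ Q) (h₂ : X₂ ≤ Q) (h₁₂ : X₁ ≠ X₂) (hc₁ : Nat.card X₁ = q) (hc₂ : Nat.card X₂ = q)
    (hf₁ : (P : Subgroup S) ⊓ Subgroup.centralizer (X₁ : Set S) ≠ ⊥)
    (hf₂ : (P : Subgroup S) ⊓ Subgroup.centralizer (X₂ : Set S) ≠ ⊥)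
    (honly : ∀ X : Subgroup S, X ≤ Q → Nat.card X = q →
      (P : Subgroup S) ⊓ Subgroup.centralizer (X : Set S) ≠ ⊥ → X = X₁ ∨ X = X₂) :
    ⁅(P : Subgroup S) ⊓ Subgroup.centralizer (X₁ : Set S), (P : Subgroup S) ⊓ Subgroup.centralizer (X₂ : Set S)⁆ = ⊥ ∧
      ((P : Subgroup S) ⊓ Subgroup.centralizer (X₁ : Set S)) ⊓ ((P : Subgroup S) ⊓ Subgroup.centralizer (X₂ : Set S)) = ⊥ ∧
      ((P : Subgroup S) ⊓ Subgroup.centralizer (X₁ : Set S)) ⊔ ((P : Subgroup S) ⊓ Subgroup.centralizer (X₂ : Set S)) = P := by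
  haveI := hQ.1
  have hq : q.Prime := Fact.out
  have hQp : IsPGroup q Q := IsPGroup.of_card hQc
  have hord : ∀ x ∈ Q, x ≠ 1 → orderOf x = q := fun x hx hx1 => orderOf_eq_prime (hQ.2 x hx) hx1
  have hgen : ∀ X : Subgroup S, X ≤ Q → Nat.card X = q → ∀ x ∈ X, x ≠ 1 → Subgroup.zpowers x = X := by
    intro X hX hc x hx hx1
    refine Subgroup.eq_of_le_of_card_ge (Subgroup.zpowers_le.mpr hx) ?_
    rw [hc, Nat.card_zpowers, hord x (hX hx) hx1]
  have hfree : ∀ x ∈ Q, x ≠ 1 → x ∉ X₁ → x ∉ X₂ → (P : Subgroup S) ⊓ Subgroup.centralizer {x} = ⊥ := by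
    intro x hx hx1 hn1 hn2
    by_contra h
    rw [← Cfsg.Lib.Coprime.centralizer_zpowers] at h
    rcases honly (Subgroup.zpowers x) (Subgroup.zpowers_le.mpr hx) (by rw [Nat.card_zpowers, hord x hx hx1]) h with e | e
    · exact hn1 (e ▸ Subgroup.mem_zpowers x)
    · exact hn2 (e ▸ Subgroup.mem_zpowers x)
  have hsup : X₁ ⊔ X₂ = Q := by
    refine Subgroup.eq_of_le_of_card_ge (sup_le h₁ h₂) ?_
    obtain ⟨k, -, hk⟩ := (Nat.dvd_prime_pow hq).mp (hQc ▸ Subgroup.card_dvd_of_le (sup_le h₁ h₂))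
    have hlt : Nat.card X₁ < Nat.card (X₁ ⊔ X₂ : Subgroup S) := by
      refine lt_of_le_of_ne (Subgroup.card_le_of_le le_sup_left) fun e => h₁₂ ?_
      have e1 := Subgroup.eq_of_le_of_card_ge (le_sup_left : X₁ ≤ X₁ ⊔ X₂) e.ge
      exact (Subgroup.eq_of_le_of_card_ge (le_sup_right.trans e1.ge) (by rw [hc₁, hc₂])).symm
    rw [hk, hc₁] at hlt
    rw [hQc, hk]
    exact Nat.pow_le_pow_right hq.pos (by
      by_contra h
      have := Nat.pow_le_pow_right hq.pos (show k ≤ 1 by omega)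
      rw [pow_one] at this
      omega)
  have hfpf : (P : Subgroup S) ⊓ Subgroup.centralizer (Q : Set S) = ⊥ := by
    by_contra hne
    have hsub : ∀ x ∈ Q, x ∈ X₁ ∨ x ∈ X₂ := by
      intro x hx
      by_cases h1 : x ∈ X₁
      · exact Or.inl h1
      by_cases h2 : x ∈ X₂
      · exact Or.inr h2
      exfalso
      refine hne (eq_bot_iff.mpr ((inf_le_inf_left _ ?_).trans (hfree x hx (fun e => h1 (e ▸ one_mem _)) h1 h2).le))
      rw [← Cfsg.Lib.Coprime.centralizer_zpowers]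
      exact Subgroup.centralizer_le (SetLike.coe_subset_coe.mpr (Subgroup.zpowers_le.mpr hx))
    have hQ1 : ¬ Q ≤ X₁ := fun h => by
      have := Subgroup.card_le_of_le h
      rw [hQc, hc₁] at this
      nlinarith [hq.two_le]
    have hQ2 : ¬ Q ≤ X₂ := fun h => by
      have := Subgroup.card_le_of_le h
      rw [hQc, hc₂] at this
      nlinarith [hq.two_le]
    obtain ⟨a, ha, ha1⟩ := SetLike.not_le_iff_exists.mp hQ1
    obtain ⟨b, hb, hb2⟩ := SetLike.not_le_iff_exists.mp hQ2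
    have ha2 := (hsub a ha).resolve_left ha1
    have hb1 := (hsub b hb).resolve_right hb2
    rcases hsub (a * b) (mul_mem ha hb) with h | h
    · exact ha1 ((mul_mem_cancel_right hb1).mp h)
    · exact hb2 ((mul_mem_cancel_left ha2).mp h)
  have hQcyc : ¬ IsCyclic Q := fun h => by
    obtain ⟨g, hg⟩ := h.exists_ofOrder_eq_natCard
    rw [hQc] at hg
    by_cases hg1 : (g : S) = 1
    · rw [show g = 1 from Subtype.ext hg1, orderOf_one] at hg
      nlinarith [hq.two_le]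
    · rw [← Subgroup.orderOf_coe, hord g g.2 hg1] at hg
      nlinarith [hq.two_le]
  obtain ⟨hc, hs⟩ := Cfsg.Lib.Misc.TwoFixed.main (Nat.card (P : Subgroup S)) hpq (P := (P : Subgroup S)) (Q := Q)
    (X₁ := X₁) (X₂ := X₂) P.2 hQp hQcyc (by intro g _; exact Subgroup.le_normalizer_of_normal (K := ⊤) (Subgroup.mem_top g)) h₁ h₂ hfree hfpf hsup
    (hgen X₁ h₁ hc₁) (hgen X₂ h₂ hc₂) rfl
  refine ⟨hc, ?_, hs⟩
  rw [eq_bot_iff, ← hfpf]
  intro w hw
  refine Subgroup.mem_inf.mpr ⟨hw.1.1, ?_⟩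
  rw [← hsup, ← Subgroup.zpowers_le, Subgroup.le_centralizer_iff]
  refine sup_le ?_ ?_
  · rw [Subgroup.le_centralizer_iff, Subgroup.zpowers_le]; exact hw.1.2
  · rw [Subgroup.le_centralizer_iff, Subgroup.zpowers_le]; exact hw.2.2

end Cfsg.Agent.S1900
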