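import Cfsg.Agent.GaschutzYen.Basic
import Cfsg.Agent.Components.Cores
import Cfsg.Agent.Transfer.Basic
import Cfsg.Agent.Components.LocalBalance

open Cfsg

namespace Cfsg.Agent.S1901

open Subgroup

universe u

/-- A `p`-element normalizing a `p'`-group `Q` that normalizes a Sylow `p`-subgroup centralizes `Q`. -/
theorem key {p : ℕ} [Fact p.Prime] : ∀ (n : ℕ) (G : Type u) [Group G] [Finite G], Nat.card G = n →
    Cfsg.IsPSolvable p G → ∀ (Q : Subgroup G) (P : Sylow p G) (x : G) (k : ℕ),
    ¬ p ∣ Nat.card Q → Q ≤ normalizer ((P : Subgroup G) : Set G) → x ∈ normalizer (Q : Set G) →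
    x ^ p ^ k = 1 → ∀ q ∈ Q, q * x = x * q := by
  intro n
  induction n using Nat.strong_induction_on with
  | _ n ih =>
  intro G _ _ hn hsol Q P x k hQ hQP hx hxk q hq
  rcases subsingleton_or_nontrivial G with h | h
  · exact Subsingleton.elim _ _
  have hQp : (Nat.card Q).Coprime p := ((Fact.out : p.Prime).coprime_iff_not_dvd.2 hQ).symm
  have quo : ∀ (N : Subgroup G) [N.Normal], N ≠ ⊥ → x * q * x⁻¹ * q⁻¹ ∈ N := by
    intro N _ hN
    have hlt : Nat.card (G ⧸ N) < n := by
      rw [← hn, Subgroup.card_eq_card_quotient_mul_card_subgroup N]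
      exact lt_mul_of_one_lt_right Nat.card_pos (Subgroup.one_lt_card_iff_ne_bot N |>.2 hN)
    let f := QuotientGroup.mk' N
    have h1 := ih _ hlt (G ⧸ N) rfl (Cfsg.Lib.GaschutzYen.isPSolvable_quotient N hsol) (Q.map f)
      (P.mapSurjective (QuotientGroup.mk'_surjective N)) (f x) k
      (fun hd => hQ (hd.trans (card_map_dvd Q f))) ?_ ?_ (by rw [← map_pow, hxk, map_one]) (f q)
      ⟨q, hq, rfl⟩
    · rw [← map_mul, ← map_mul, eq_comm] at h1
      refine (QuotientGroup.eq_one_iff _).1 ?_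
      show f (x * q * x⁻¹ * q⁻¹) = 1
      rw [map_mul, map_mul, map_inv, map_inv, h1, map_mul, mul_inv_cancel_right, mul_inv_cancel]
    · rw [Sylow.coe_mapSurjective]
      exact (Subgroup.map_mono hQP).trans (le_normalizer_map f)
    · exact le_normalizer_map f ⟨x, hx, rfl⟩
  have hcQ : ∀ r ∈ Q, x * r * x⁻¹ * r⁻¹ ∈ Q := fun r hr =>
    mul_mem ((mem_normalizer_iff.1 hx r).1 hr) (inv_mem hr)
  suffices hc : x * q * x⁻¹ * q⁻¹ = 1 by
    rw [mul_inv_eq_one, mul_inv_eq_iff_eq_mul] at hc
    exact hc.symm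
  rcases Cfsg.Lib.GaschutzYen.exists_core_ne_bot hsol with hR | hN
  · haveI : (pCore p G).Normal := Cfsg.Lib.Components.pCore_normal' p
    have hd : Q ⊓ pCore p G = ⊥ := by
      rw [inf_comm]
      exact Cfsg.Lib.Components.coprime_pGroup_disjoint (Cfsg.Lib.Components.isPGroup_pCore p) hQp
    exact (eq_bot_iff_forall _).1 hd _ ⟨hcQ q hq, quo _ hR⟩
  · set N := pPrimeCore p G with hNdef
    set Q0 := Q ⊓ N with hQ0
    have hcen : (P : Subgroup G) ≤ centralizer (Q0 : Set G) := by
      intro y hy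
      refine mem_centralizer_iff.2 fun c hc => ?_
      have h1 : c * y * c⁻¹ * y⁻¹ ∈ (P : Subgroup G) :=
        mul_mem ((mem_normalizer_iff.1 (hQP hc.1) y).1 hy) (inv_mem hy)
      have h2 : c * y * c⁻¹ * y⁻¹ ∈ N := by
        have := mul_mem hc.2 ((inferInstance : N.Normal).conj_mem _ (inv_mem hc.2) y)
        simpa [mul_assoc] using this
      have h3 : (P : Subgroup G) ⊓ N = ⊥ :=
        Cfsg.Lib.Components.coprime_pGroup_disjoint P.2 (Cfsg.Lib.Components.coprime_card_pPrimeCore p)
      have h4 := (eq_bot_iff_forall _).1 h3 _ ⟨h1, h2⟩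
      rwa [mul_inv_eq_one, mul_inv_eq_iff_eq_mul] at h4
    have hxN : x ∈ normalizer (Q0 : Set G) :=
      mem_normalizer_iff.2 fun y => and_congr (mem_normalizer_iff.1 hx y)
        ⟨fun h => (inferInstance : N.Normal).conj_mem _ h x, fun h => by
          simpa [mul_assoc] using (inferInstance : N.Normal).conj_mem _ h x⁻¹⟩
    have hCN : centralizer (Q0 : Set G) ≤ normalizer (Q0 : Set G) := centralizer_le_normalizer _
    have hcop : ¬ p ∣ (centralizer (Q0 : Set G)).relIndex (normalizer (Q0 : Set G)) := by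
      intro hd
      refine P.not_dvd_index ?_
      rw [← relIndex_mul_index (hcen.trans hCN),
        ← relIndex_mul_relIndex _ _ _ hcen hCN]
      exact dvd_mul_of_dvd_left (dvd_mul_of_dvd_right hd _) _
    have hxC : x ∈ centralizer (Q0 : Set G) := by
      haveI : ((centralizer (Q0 : Set G)).subgroupOf (normalizer (Q0 : Set G))).Normal :=
        normal_subgroupOf_of_le_normalizer (Cfsg.Lib.Components.normalizer_le_normalizer_centralizer' _)
      set C' := (centralizer (Q0 : Set G)).subgroupOf (normalizer (Q0 : Set G))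
      suffices h : ((⟨x, hxN⟩ : normalizer (Q0 : Set G)) : _ ⧸ C') = 1 from
        mem_subgroupOf.1 ((QuotientGroup.eq_one_iff _).1 h)
      rw [← orderOf_eq_one_iff]
      refine Nat.eq_one_of_dvd_coprimes
        ((((Fact.out : p.Prime).coprime_iff_not_dvd).2 hcop).pow_left k) ?_ (orderOf_dvd_natCard _)
      refine orderOf_dvd_of_pow_eq_one ?_
      rw [← QuotientGroup.mk_pow, QuotientGroup.eq_one_iff]
      exact mem_subgroupOf.2 (by simp only [SubgroupClass.coe_pow, hxk]; exact one_mem _)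
    have hcom : ∀ j : ℕ, x ^ j * q * (x ^ j)⁻¹ = (x * q * x⁻¹ * q⁻¹) ^ j * q := by
      intro j
      induction j with
      | zero => simp
      | succ j hj =>
        set c := x * q * x⁻¹ * q⁻¹ with hc
        have hxc : Commute x c := mem_centralizer_iff.1 hxC _ ⟨hcQ q hq, quo N hN⟩ |>.symm
        calc x ^ (j + 1) * q * (x ^ (j + 1))⁻¹ = x * (x ^ j * q * (x ^ j)⁻¹) * x⁻¹ := by
              rw [pow_succ']; simp [mul_assoc]
          _ = x * c ^ j * (q * x⁻¹) := by rw [hj]; simp [mul_assoc]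
          _ = c ^ j * (x * q * x⁻¹) := by rw [(hxc.pow_right j).eq]; simp [mul_assoc]
          _ = c ^ (j + 1) * q := by rw [pow_succ, hc]; simp [mul_assoc]
    have h5 := hcom (p ^ k)
    rw [hxk, one_mul, inv_one, mul_one] at h5
    have h6 : (x * q * x⁻¹ * q⁻¹) ^ p ^ k = 1 := right_eq_mul.1 h5
    rw [← orderOf_eq_one_iff]
    exact Nat.eq_one_of_dvd_coprimes (hQp.pow_right k) (orderOf_dvd_natCard _ (hcQ q hq))
      (orderOf_dvd_of_pow_eq_one h6)

/-- Let G be a finite p-solvable group and Q a subgroup of order prime to p such that p divides the index of C_G(Q) in N_G(Q). Then Q normalizes no Sylow p-subgroup of G. -/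
theorem result {G : Type*} [Group G] [Finite G] {p : ℕ} [Fact p.Prime]
    (hG : Cfsg.IsPSolvable p G) (Q : Subgroup G) (hQ : ¬ p ∣ Nat.card Q)
    (hA : p ∣ (Subgroup.centralizer (Q : Set G)).relIndex (Subgroup.normalizer (Q : Set G)))
    (P : Sylow p G) : ¬ Q ≤ Subgroup.normalizer ((P : Subgroup G) : Set G) := by
  intro hQP
  have hCN : centralizer (Q : Set G) ≤ normalizer (Q : Set G) := centralizer_le_normalizer _
  haveI : ((centralizer (Q : Set G)).subgroupOf (normalizer (Q : Set G))).Normal :=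
    normal_subgroupOf_of_le_normalizer (Cfsg.Lib.Components.normalizer_le_normalizer_centralizer' _)
  obtain ⟨z, hz⟩ := exists_prime_orderOf_dvd_card' p hA
  induction z using QuotientGroup.induction_on with
  | H g =>
  obtain ⟨a, b, ha, hbg, hab, ⟨k, hk⟩, hb⟩ := Cfsg.Lib.Transfer.exists_pPart p g
  set C' := (centralizer (Q : Set G)).subgroupOf (normalizer (Q : Set G)) with hC'
  have hb1 : (b : normalizer (Q : Set G) ⧸ C') = 1 := by
    rw [← orderOf_eq_one_iff]
    refine Nat.eq_one_of_dvd_coprimes hb (orderOf_map_dvd (QuotientGroup.mk' C') b) ?_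
    obtain ⟨i, rfl⟩ := mem_zpowers_iff.1 hbg
    rw [← hz]
    refine orderOf_dvd_of_pow_eq_one ?_
    rw [QuotientGroup.mk_zpow, ← zpow_natCast, ← zpow_mul, mul_comm, zpow_mul, zpow_natCast,
      pow_orderOf_eq_one, one_zpow]
  have ha1 : (a : normalizer (Q : Set G) ⧸ C') = 1 := by
    refine (QuotientGroup.eq_one_iff _).2 (mem_subgroupOf.2 (mem_centralizer_iff.2 fun q hq => ?_))
    exact key _ G rfl hG Q P a k hQ hQP a.2 (by rw [← hk, ← Subgroup.orderOf_coe]; exact pow_orderOf_eq_one _) q hq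
  rw [← hab, QuotientGroup.mk_mul, ha1, hb1, mul_one, orderOf_one] at hz
  exact (Fact.out : p.Prime).ne_one hz.symm

end Cfsg.Agent.S1901
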