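import Cfsg.Statements.S1902
import Cfsg.Agent.Components.Misc.OmegaCore
import Cfsg.Agent.PLocal.Constrained
import Cfsg.Agent.SolvStruct.CoprimeOrbits

set_option autoImplicit false
open Cfsg

namespace Cfsg.Agent.S1902

/-- Let p be an odd prime, G a finite p-solvable group, and B an elementary abelian subgroup of order p² such that B is the subgroup generated by the elements of order p of some Sylow p-subgroup of C_G(b₀), for some nontrivial b₀ ∈ B. Then every B-invariant subgroup of G of order prime to p lies in O_{p'}(G). -/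
theorem result {G : Type*} [Group G] [Finite G] {p : ℕ} [Fact p.Prime] (hp : p ≠ 2)
    (hG : Cfsg.IsPSolvable p G) (B : Subgroup G) (hB : Cfsg.IsElementaryAbelian p B) (hBc : Nat.card B = p ^ 2)
    (b₀ : G) (hb₀ : b₀ ∈ B) (hb₁ : b₀ ≠ 1) (P : Sylow p ↥(Subgroup.centralizer ({b₀} : Set G)))
    (hBP : B = Subgroup.closure {x : G | x ∈ ((P : Subgroup ↥(Subgroup.centralizer ({b₀} : Set G))).map
      (Subgroup.centralizer ({b₀} : Set G)).subtype : Subgroup G) ∧ orderOf x = p})
    (Q : Subgroup G) (hQ : ¬ p ∣ Nat.card Q) (hinv : ∀ b ∈ B, ∀ x ∈ Q, b * x * b⁻¹ ∈ Q) :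
    Q ≤ Cfsg.pPrimeCore p G := by
  obtain ⟨P0⟩ : Nonempty (Sylow p ↥(Cfsg.pPrimePCore p G)) := inferInstance
  have hc : Cfsg.IsPConstrained p G := Cfsg.Lib.Constraint.isPConstrained_of_pSolvable_centralizer P0
    (Cfsg.Lib.SolvStruct.CoprimeOrbits.isPSolvable_subgroup hG Fact.out _)
  have hBp : IsPGroup p B := IsPGroup.of_card hBc
  refine Cfsg.Lib.Misc.OmegaCore.le_pPrimeCore hp hc hBp ?_
    (((Fact.out : p.Prime).coprime_iff_not_dvd.mpr hQ).symm) ?_
  · intro x hx hxo
    set P' : Subgroup G := (P : Subgroup (Subgroup.centralizer ({b₀} : Set G))).map (Subgroup.centralizer ({b₀} : Set G)).subtype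
    have hBC : B ≤ (Subgroup.centralizer ({b₀} : Set G)) := by
      rw [hBP, Subgroup.closure_le]
      exact fun y hy => Subgroup.map_subtype_le _ hy.1
    have hxB : ∀ b ∈ B, b * x = x * b := fun b hb => hx b hb
    have hxC : x ∈ (Subgroup.centralizer ({b₀} : Set G)) := Subgroup.mem_centralizer_singleton_iff.2 (hxB b₀ hb₀).symm
    have hxp : IsPGroup p (Subgroup.zpowers x) :=
      IsPGroup.of_card (n := 1) (by rw [Nat.card_zpowers, hxo, pow_one])
    have hxN : Subgroup.zpowers x ≤ Subgroup.normalizer (B : Set G) := by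
      rw [Subgroup.zpowers_le, Subgroup.mem_normalizer_iff]
      intro b
      constructor
      · intro hb
        rwa [show x * b * x⁻¹ = b by rw [← hxB b hb]; group]
      · intro hb
        have h1 := hxB _ hb
        rwa [show x * b * x⁻¹ = b from (mul_left_cancel (a := x) (by rw [← h1]; group)).symm] at hb
    have hM : IsPGroup p ↥(B ⊔ Subgroup.zpowers x : Subgroup G) := hBp.to_sup_of_normal_left' hxp hxN
    obtain ⟨P2, hP2⟩ := (hM.comap_subtype (K := (Subgroup.centralizer ({b₀} : Set G)))).exists_le_sylow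
    obtain ⟨c, hc'⟩ := MulAction.exists_smul_eq (Subgroup.centralizer ({b₀} : Set G)) P2 P
    have hmem : ∀ y ∈ B ⊔ Subgroup.zpowers x, (c : G) * y * (c : G)⁻¹ ∈ P' := fun y hy =>
      ⟨c * ⟨y, sup_le hBC (Subgroup.zpowers_le.2 hxC) hy⟩ * c⁻¹, by
        rw [← hc']; exact ⟨_, hP2 (x := ⟨y, sup_le hBC (Subgroup.zpowers_le.2 hxC) hy⟩) hy, rfl⟩, rfl⟩
    have hord : ∀ y ∈ B ⊔ Subgroup.zpowers x, orderOf y = p → (c : G) * y * (c : G)⁻¹ ∈ B :=
      fun y hy hyo => hBP.ge (Subgroup.subset_closure ⟨hmem y hy,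
        (MulEquiv.orderOf_eq (MulAut.conj (c : G)) y).trans hyo⟩)
    have hcB : B.map (MulAut.conj (c : G)).toMonoidHom = B := by
      refine Subgroup.eq_of_le_of_card_ge ?_ (Subgroup.card_map_of_injective (MulAut.conj _).injective).ge
      rintro _ ⟨b, hb, rfl⟩
      rcases eq_or_ne b 1 with rfl | hb1
      · rw [map_one]; exact one_mem B
      · exact hord b (Subgroup.mem_sup_left hb) (orderOf_eq_prime (hB.2 b hb) hb1)
    obtain ⟨b, hb, he⟩ : (c : G) * x * (c : G)⁻¹ ∈ B.map (MulAut.conj (c : G)).toMonoidHom := by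
      rw [hcB]
      exact hord x (Subgroup.mem_sup_right (Subgroup.mem_zpowers x)) hxo
    exact (MulAut.conj (c : G)).injective he ▸ hb
  · exact Subgroup.le_normalizer_iff.2 hinv

end Cfsg.Agent.S1902
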