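import Cfsg.Statements.S1904
import Cfsg.Agent.PGroups.NoScnThree
import Cfsg.Agent.PGroups.Bounds

set_option autoImplicit false
open Cfsg

namespace Cfsg.Agent.S1904

/-- Let X be a finite nonabelian 2-group with no normal abelian subgroup that is self-centralizing and contains an elementary abelian subgroup of order 8. Suppose a group A of automorphisms of X of odd order satisfies [X, A] = X. Then X is the quaternion group of order 8, or X is special of order 64 with exactly three involutions, all central, or X is extraspecial of order 32 with exactly eleven involutions (the central product of a quaternion group and a dihedral group of order 8). -/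
theorem result {X : Type*} [Group X] [Finite X] (hX : IsPGroup 2 X) (hna : ¬ IsMulCommutative X)
    (hscn : ¬ ∃ A : Subgroup X, A.Normal ∧ Subgroup.centralizer (A : Set X) = A ∧
      ∃ E : Subgroup X, E ≤ A ∧ Cfsg.IsElementaryAbelian 2 E ∧ Nat.card E = 8)
    (A : Subgroup (MulAut X)) (hA : Odd (Nat.card A))
    (hXA : Subgroup.closure {g : X | ∃ φ ∈ A, ∃ x : X, g = x⁻¹ * φ x} = ⊤) :
    Nonempty (X ≃* QuaternionGroup 2) ∨
      (Cfsg.IsSpecial 2 X ∧ Nat.card X = 64 ∧ Nat.card {x : X // orderOf x = 2} = 3 ∧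
        ∀ x : X, orderOf x = 2 → x ∈ Subgroup.center X) ∨
      (Cfsg.IsExtraspecial 2 X ∧ Nat.card X = 32 ∧ Nat.card {x : X // orderOf x = 2} = 11) := by
  classical
  haveI : Fact (Nat.Prime 2) := ⟨Nat.prime_two⟩
  have h : Cfsg.Lib.NoScnThree.Hyp A := by
    refine ⟨hX, hA, hXA, fun B hBn hBc => ?_⟩
    by_contra hlt
    obtain ⟨M, ⟨hMn, hMc, hBM⟩, hmax⟩ := (Set.toFinite {M : Subgroup X | M.Normal ∧
      (∀ a ∈ M, ∀ b ∈ M, a * b = b * a) ∧ B ≤ M}).exists_maximal ⟨B, hBn, hBc, le_rfl⟩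
    haveI := hMn
    refine hscn ⟨M, hMn, ?_, ?_⟩
    · exact Cfsg.Lib.PGroups.centralizer_eq_self_of_maximal_normal_abelian (p := 2) hX M
        ⟨⟨fun a b => Subtype.ext (hMc a a.2 b b.2)⟩⟩ fun C hC1 hC2 hC3 =>
          le_antisymm (hmax ⟨hC1, fun a ha b hb => congrArg Subtype.val (hC2.is_comm.comm ⟨a, ha⟩ ⟨b, hb⟩),
            hBM.trans hC3⟩ hC3) hC3
    · set W := Cfsg.Lib.NoScnThree.om M hMc with hW
      have h8 : 4 < Nat.card W := by
        rw [← SetLike.coe_sort_coe, Nat.card_coe_set_eq]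
        refine lt_of_lt_of_le (not_le.1 hlt) (Set.ncard_le_ncard (fun b hb => ?_) (Set.toFinite _))
        exact ⟨hBM hb.1, hb.2⟩
      obtain ⟨n, hn⟩ := IsPGroup.iff_card.1 (hX.to_subgroup W)
      have h3 : 3 ≤ n := by
        by_contra h'
        have : 2 ^ n ≤ 2 ^ 2 := Nat.pow_le_pow_right (by norm_num) (by omega)
        omega
      obtain ⟨K, hK⟩ := Sylow.exists_subgroup_card_pow_prime 2 (G := W) (n := 3)
        (hn ▸ Nat.pow_dvd_pow 2 h3)
      refine ⟨K.map W.subtype, fun x hx => ?_, ⟨⟨⟨?_⟩⟩, ?_⟩, ?_⟩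
      · obtain ⟨w, -, rfl⟩ := hx
        exact w.2.1
      · rintro ⟨a, wa, -, rfl⟩ ⟨b, wb, -, rfl⟩
        exact Subtype.ext (hMc _ wa.2.1 _ wb.2.1)
      · rintro a ⟨w, -, rfl⟩
        exact w.2.2
      · rw [Subgroup.card_map_of_injective W.subtype_injective, hK]; rfl
  have hna' : ¬ ∀ a b : X, a * b = b * a := fun hc => hna ⟨⟨hc⟩⟩
  have R := h.reduced hna'
  rcases R.card with h2 | h4
  · rcases h.extraspecial_case hX R h2 hna' with hq | hes
    exacts [Or.inl hq, Or.inr (Or.inr hes)]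
  · right; left
    have hq : Nat.card (X ⧸ Subgroup.center X) = 16 := le_antisymm (R.quotient_le h4) (R.quotient_ge h h4 hna')
    refine ⟨R.isSpecial hX, ?_, ?_, fun x hx => R.four h4 x (by rw [← hx, pow_orderOf_eq_one])⟩
    · rw [(Subgroup.center X).card_eq_card_quotient_mul_card_subgroup, hq, h4]
    · have hset : {x : X | orderOf x = 2} = (Subgroup.center X : Set X) \ {1} := by
        ext x
        simp only [Set.mem_setOf_eq, Set.mem_sdiff, SetLike.mem_coe, Set.mem_singleton_iff, orderOf_eq_prime_iff]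
        exact ⟨fun hx => ⟨R.four h4 x hx.1, hx.2⟩, fun hx => ⟨R.elem x hx.1, hx.2⟩⟩
      rw [← Set.coe_setOf, Nat.card_coe_set_eq, hset,
        Set.ncard_sdiff_singleton_of_mem (one_mem (Subgroup.center X)), ← Nat.card_coe_set_eq,
        show Nat.card (Subgroup.center X : Set X) = 4 from h4]

end Cfsg.Agent.S1904
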