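import Cfsg.Statements.S1906
import Cfsg.Agent.Components.Misc.RankThreeGL3
import Cfsg.Agent.Coprime.SolvableBasics
-- import your own Cfsg.Agent.* helpers here

set_option autoImplicit false
open Cfsg

namespace Cfsg.Agent.S1906

/-- Let G be a finite group with no subgroup of index 2 whose Sylow 2-subgroup X embeds in GL₃(F) for a finite field F of odd order. If X contains an elementary abelian subgroup of order 8, then X is abelian. -/
theorem result {G : Type*} [Group G] [Finite G] (hG : ∀ H : Subgroup G, H.index ≠ 2) (X : Sylow 2 G)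
    {F : Type*} [Field F] [Fintype F] (hF : Odd (Fintype.card F))
    (f : ↥(X : Subgroup G) →* GL (Fin 3) F) (hf : Function.Injective f)
    (E : Subgroup G) (hE : E ≤ (X : Subgroup G)) (hEa : Cfsg.IsElementaryAbelian 2 E) (hE8 : Nat.card E = 8) :
    IsMulCommutative (X : Subgroup G) := by
  classical
  haveI : Fact (Nat.Prime 2) := ⟨Nat.prime_two⟩
  by_contra hna
  haveI : Finite ↥(X : Subgroup G) := inferInstance
  have h2 : (2 : F) ≠ 0 := by
    intro h
    have ho : addOrderOf (1 : F) = 2 := addOrderOf_eq_prime (by rw [two_nsmul, one_add_one_eq_two, h]) one_ne_zero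
    exact (Nat.not_even_iff_odd.mpr hF) (even_iff_two_dvd.mpr (ho ▸ addOrderOf_dvd_card))
  let toEnd : GL (Fin 3) F →* Module.End F (Fin 3 → F) :=
    (Matrix.toLinAlgEquiv' : Matrix (Fin 3) (Fin 3) F ≃ₐ[F] _).toMonoidHom.comp (Units.coeHom _)
  have hinjE : Function.Injective toEnd := fun a b h => Units.ext (Matrix.toLinAlgEquiv'.injective h)
  let R : ↥(X : Subgroup G) →* Module.End F (Fin 3 → F) := toEnd.comp f
  have hR : Function.Injective R := hinjE.comp hf
  let ρ : ↥E →* Module.End F (Fin 3 → F) := R.comp (Subgroup.inclusion hE)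
  have hρ : Function.Injective ρ := hR.comp (Subgroup.inclusion_injective hE)
  have hEc : ∀ e e' : ↥E, Commute e e' := fun e e' => hEa.1.is_comm.comm e e'
  have hEsq : ∀ e : ↥E, e * e = 1 := fun e => by
    rw [← pow_two]
    first
      | exact hEa.2 e
      | exact Subtype.ext (hEa.2 (e : G) e.2)
  obtain ⟨⟨z', hz'⟩, hcen, hinv⟩ := Cfsg.Lib.RankThreeGL3.diag_of_eight h2 ρ hρ hEsq hEc hE8
  set zX : ↥(X : Subgroup G) := Subgroup.inclusion hE z' with hzX
  have hzval : R zX = -1 := hz'
  have hzcen : ∀ x : ↥(X : Subgroup G), Commute x zX := fun x => hR (by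
    rw [map_mul, map_mul, hzval]; exact (Commute.neg_one_right (R x)).eq)
  let χ : ↥(X : Subgroup G) →* Fˣ := Matrix.GeneralLinearGroup.det.comp f
  have hχz : χ zX = -1 := by
    have h1 : ((f zX : GL (Fin 3) F) : Matrix (Fin 3) (Fin 3) F) = -1 :=
      Matrix.toLinAlgEquiv'.injective (by
        rw [map_neg, map_one]; exact hzval)
    refine Units.ext ?_
    show Matrix.det ((f zX : GL (Fin 3) F) : Matrix (Fin 3) (Fin 3) F) = ((-1 : Fˣ) : F)
    rw [h1, Matrix.det_neg]
    simp; ring
  have hne1 : (-1 : Fˣ) ≠ 1 := fun h => h2 (by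
    have h' : (-1 : F) = 1 := by simpa using congrArg Units.val h
    linear_combination -h')
  have hval : ∀ s : ↥(X : Subgroup G), s * s = 1 → χ s = 1 ∨ χ s = χ zX := by
    intro s hs
    have h : χ s * χ s = 1 := by rw [← map_mul, hs, map_one]
    rcases mul_self_eq_one_iff.mp (show ((χ s : Fˣ) : F) * χ s = 1 by rw [← Units.val_mul, h, Units.val_one]) with e | e
    · exact Or.inl (Units.ext e)
    · exact Or.inr (hχz ▸ Units.ext (by rw [e]; simp))
  -- central involutions of the Sylow subgroup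
  set Ω : Subgroup G := E ⊓ Subgroup.centralizer ((X : Subgroup G) : Set G) with hΩ
  have hmemΩ : ∀ y : ↥(X : Subgroup G), y * y = 1 → (∀ x : ↥(X : Subgroup G), Commute x y) → (y : G) ∈ Ω := by
    intro y hy hyc
    obtain ⟨e, he⟩ := hinv (R y) (by rw [← map_mul, hy, map_one])
      (fun e => ((hyc (Subgroup.inclusion hE e)).map R).symm)
    have hey : Subgroup.inclusion hE e = y := hR he
    refine Subgroup.mem_inf.mpr ⟨?_, Subgroup.mem_centralizer_iff.mpr fun x hx => ?_⟩
    · rw [← hey]; exact e.2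
    · exact congrArg Subtype.val (hyc ⟨x, hx⟩).eq
  have hΩlt : Ω ≠ E := by
    intro h
    apply hna
    refine ⟨⟨fun x y => ?_⟩⟩
    have hcx : ∀ x : ↥(X : Subgroup G), ∀ e : ↥E, Commute (R x) (ρ e) := fun x e => by
      have h1 := Subgroup.mem_centralizer_iff.mp (Subgroup.mem_inf.mp (h.ge e.2)).2 (x : G) x.2
      exact (show Commute x (Subgroup.inclusion hE e) from Subtype.ext h1).map R
    exact hR (by rw [map_mul, map_mul]; exact (hcen (R x) (R y) (hcx x) (hcx y)).eq)
  have hΩ4 : Nat.card Ω ≤ 4 := by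
    have hd : Nat.card Ω ∣ 2 ^ 3 := by
      rw [show (2 : ℕ) ^ 3 = Nat.card E by rw [hE8]; norm_num]
      exact Subgroup.card_dvd_of_le inf_le_left
    obtain ⟨k, hk, hk'⟩ := (Nat.dvd_prime_pow Nat.prime_two).mp hd
    rcases Nat.lt_or_ge k 3 with hlt | hge
    · rw [hk']; exact le_trans (Nat.pow_le_pow_right (by norm_num) (Nat.le_of_lt_succ hlt)) (le_refl 4)
    · exact absurd (Subgroup.eq_of_le_of_card_ge inf_le_left (by
        rw [hk', hE8, show k = 3 by omega]; norm_num)) hΩlt
  -- the involution of the derived subgroup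
  have hXp : IsPGroup 2 ↥(X : Subgroup G) := X.2
  haveI : Group.IsNilpotent ↥(X : Subgroup G) := hXp.isNilpotent
  have hD : commutator ↥(X : Subgroup G) ≠ ⊥ := by
    intro h
    apply hna
    refine ⟨⟨fun x y => ?_⟩⟩
    have h1 := Subgroup.commutator_mem_commutator (H₁ := (⊤ : Subgroup ↥(X : Subgroup G))) (H₂ := ⊤) (Subgroup.mem_top x) (Subgroup.mem_top y)
    rw [← commutator_def, h, Subgroup.mem_bot] at h1
    exact commutatorElement_eq_one_iff_mul_comm.mp h1
  have hDc : commutator ↥(X : Subgroup G) ⊓ Subgroup.center ↥(X : Subgroup G) ≠ ⊥ :=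
    Cfsg.Lib.Coprime.inf_center_ne_bot (commutator ↥(X : Subgroup G)) hD
  obtain ⟨w, hw⟩ : ∃ w : ↥(commutator ↥(X : Subgroup G) ⊓ Subgroup.center ↥(X : Subgroup G)), orderOf w = 2 := by
    refine exists_prime_orderOf_dvd_card' 2 ?_
    obtain ⟨k, hk⟩ := IsPGroup.iff_card.mp (hXp.to_subgroup (commutator ↥(X : Subgroup G) ⊓ Subgroup.center ↥(X : Subgroup G)))
    rcases Nat.eq_zero_or_pos k with rfl | hk0
    · exact absurd (Subgroup.card_eq_one.mp (by simpa using hk)) hDc
    · rw [hk]; exact dvd_pow_self 2 hk0.ne'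
  set wX : ↥(X : Subgroup G) := (w : ↥(X : Subgroup G)) with hwX
  have hwsq : wX * wX = 1 := by
    have h := pow_orderOf_eq_one w
    rw [hw, pow_two] at h
    exact congrArg Subtype.val h
  have hw1 : wX ≠ 1 := fun h => by
    rw [show w = 1 from Subtype.ext h, orderOf_one] at hw; norm_num at hw
  have hwc : ∀ x : ↥(X : Subgroup G), Commute x wX := fun x => (Subgroup.mem_center_iff.mp (Subgroup.mem_inf.mp w.2).2 x)
  have hker : ∀ y ∈ commutator ↥(X : Subgroup G), χ y = 1 := fun y hy =>
    MonoidHom.mem_ker.mp (Abelianization.commutator_subset_ker χ hy)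
  have hwz : wX ≠ zX := fun h => hne1 (by rw [← hχz, ← h, hker _ (Subgroup.mem_inf.mp w.2).1])
  have hzsq : zX * zX = 1 := by
    rw [hzX, ← map_mul, hEsq, map_one]
  have hzw : zX * wX ≠ 1 ∧ zX * wX ≠ zX ∧ zX * wX ≠ wX := by
    refine ⟨fun h => hwz ?_, fun h => hw1 (mul_eq_left.mp h), fun h => ?_⟩
    · exact (mul_left_cancel (h.trans hzsq.symm))
    · have := mul_eq_right.mp h
      rw [this, map_one] at hχz
      exact hne1 hχz.symm
  have hz1 : zX ≠ 1 := fun h => hne1 (by rw [← hχz, h, map_one])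
  have hfour : ∀ y : ↥(X : Subgroup G), y * y = 1 → (∀ x : ↥(X : Subgroup G), Commute x y) →
      y = 1 ∨ y = wX ∨ y = zX ∨ y = zX * wX := by
    intro y hy hyc
    by_contra! hno
    have hzwc : ∀ x : ↥(X : Subgroup G), Commute x (zX * wX) := fun x => (hzcen x).mul_right (hwc x)
    have hzwsq : zX * wX * (zX * wX) = 1 := by
      rw [((hwc zX)).symm.mul_mul_mul_comm, hzsq, hwsq, one_mul]
    let g5 : Fin 5 → ↥Ω := ![⟨1, one_mem _⟩, ⟨wX, hmemΩ _ hwsq hwc⟩, ⟨zX, hmemΩ _ hzsq hzcen⟩,
      ⟨(zX * wX : ↥(X : Subgroup G)), hmemΩ _ hzwsq hzwc⟩, ⟨y, hmemΩ _ hy hyc⟩]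
    have hg : Function.Injective g5 := by
      intro i j hij
      have hij' : ![(1 : ↥(X : Subgroup G)), wX, zX, zX * wX, y] i = ![(1 : ↥(X : Subgroup G)), wX, zX, zX * wX, y] j := by
        refine Subtype.ext ?_
        have := congrArg Subtype.val hij
        fin_cases i <;> fin_cases j <;> simpa [g5] using this
      fin_cases i <;> fin_cases j <;> first
        | rfl
        | (exfalso; revert hij'; simp [hw1, Ne.symm hw1, hz1, Ne.symm hz1, hwz, Ne.symm hwz, hzw.1, Ne.symm hzw.1,
            hzw.2.1, Ne.symm hzw.2.1, hzw.2.2, Ne.symm hzw.2.2, hno.1, Ne.symm hno.1, hno.2.1,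
            Ne.symm hno.2.1, hno.2.2.1, Ne.symm hno.2.2.1, hno.2.2.2, Ne.symm hno.2.2.2])
    have := Nat.card_le_card_of_injective g5 hg
    simp at this
    omega
  have hN : ∀ g ∈ Subgroup.normalizer ((X : Subgroup G) : Set G), g⁻¹ * (zX : G) * g = zX := by
    intro g hg
    have hgm : ∀ y : ↥(X : Subgroup G), g⁻¹ * (y : G) * g ∈ (X : Subgroup G) := fun y => by
      have := (Subgroup.mem_normalizer_iff.mp (inv_mem hg) y).mp y.2
      rwa [inv_inv] at this
    let φ : ↥(X : Subgroup G) →* ↥(X : Subgroup G) := MonoidHom.mk' (fun y => ⟨g⁻¹ * (y : G) * g, hgm y⟩)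
      (fun a b => Subtype.ext (by simp [mul_assoc]))
    have hφi : Function.Injective φ := fun a b h => Subtype.ext (by
      have h' : g⁻¹ * (a : G) * g = g⁻¹ * (b : G) * g := congrArg Subtype.val h
      simpa using h')
    have hφs := Finite.injective_iff_surjective.mp hφi
    have hφc : ∀ y : ↥(X : Subgroup G), (∀ x, Commute x y) → ∀ x, Commute x (φ y) := by
      intro y hy x
      obtain ⟨x, rfl⟩ := hφs x
      exact (hy x).map φ
    have hφD : ∀ y ∈ commutator ↥(X : Subgroup G), φ y ∈ commutator ↥(X : Subgroup G) := fun y hy => by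
      have h1 : (commutator ↥(X : Subgroup G)).map φ ≤ commutator ↥(X : Subgroup G) := by
        rw [commutator_def, Subgroup.map_commutator]
        exact Subgroup.commutator_mono le_top le_top
      exact h1 (Subgroup.mem_map_of_mem φ hy)
    have hφsq : ∀ y : ↥(X : Subgroup G), y * y = 1 → φ y * φ y = 1 := fun y hy => by rw [← map_mul, hy, map_one]
    have hφw : φ wX = wX := by
      have hD' := hker _ (hφD _ (Subgroup.mem_inf.mp w.2).1)
      rcases hfour _ (hφsq _ hwsq) (hφc _ hwc) with h | h | h | h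
      · exact absurd (hφi (h.trans (map_one φ).symm)) hw1
      · exact h
      · rw [h, hχz] at hD'; exact absurd hD' hne1
      · rw [h, map_mul, hχz, hker _ (Subgroup.mem_inf.mp w.2).1, mul_one] at hD'; exact absurd hD' hne1
    rcases hfour _ (hφsq _ hzsq) (hφc _ hzcen) with h | h | h | h
    · exact absurd (hφi (h.trans (map_one φ).symm)) hz1
    · exact absurd (hφi (h.trans hφw.symm)) hwz.symm
    · exact congrArg Subtype.val h
    exfalso
    haveI : ((X : Subgroup G).subgroupOf (Subgroup.normalizer ((X : Subgroup G) : Set G))).Normal := Subgroup.normal_in_normalizer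
    set m := ((X : Subgroup G).subgroupOf (Subgroup.normalizer ((X : Subgroup G) : Set G))).index
    have hm : Odd m := by
      refine Nat.not_even_iff_odd.mp fun he => X.not_dvd_index ((even_iff_two_dvd.mp he).trans ?_)
      exact Subgroup.relIndex_dvd_index_of_le Subgroup.le_normalizer
    obtain ⟨k, hk⟩ := hm
    have hmem : g ^ m ∈ (X : Subgroup G) := by
      have hh := Subgroup.pow_index_mem ((X : Subgroup G).subgroupOf (Subgroup.normalizer ((X : Subgroup G) : Set G))) ⟨g, hg⟩
      exact Subgroup.mem_subgroupOf.mp hh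
    have h2φ : φ (φ zX) = zX := by rw [h, map_mul, h, hφw, mul_assoc, hwsq, mul_one]
    have hit : ∀ j : ℕ, (g ^ (2 * j))⁻¹ * (zX : G) * g ^ (2 * j) = zX := by
      intro j
      induction j with
      | zero => simp
      | succ j ih =>
        rw [mul_add, mul_one, pow_add, mul_inv_rev,
          show (g ^ 2)⁻¹ * (g ^ (2 * j))⁻¹ * (zX : G) * (g ^ (2 * j) * g ^ 2) =
            (g ^ 2)⁻¹ * ((g ^ (2 * j))⁻¹ * (zX : G) * g ^ (2 * j)) * g ^ 2 by group, ih]
        have := congrArg Subtype.val h2φ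
        simp only [φ, MonoidHom.mk'_apply] at this
        rw [pow_two, mul_inv_rev]
        simpa [mul_assoc] using this
    have hfin : (g ^ m)⁻¹ * (zX : G) * g ^ m = (zX * wX : ↥(X : Subgroup G)) := by
      rw [hk, pow_succ, mul_inv_rev,
        show g⁻¹ * (g ^ (2 * k))⁻¹ * (zX : G) * (g ^ (2 * k) * g) =
          g⁻¹ * ((g ^ (2 * k))⁻¹ * (zX : G) * g ^ (2 * k)) * g by group, hit k]
      exact congrArg Subtype.val h
    have hfix : (g ^ m)⁻¹ * (zX : G) * g ^ m = zX := by
      have hcm : (g ^ m) * (zX : G) = (zX : G) * g ^ m := congrArg Subtype.val (hzcen ⟨_, hmem⟩).eq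
      rw [mul_assoc, ← hcm, inv_mul_cancel_left]
    exact hzw.2.1 (Subtype.ext (hfin.symm.trans hfix))
  obtain ⟨H, hH⟩ := Cfsg.Lib.RankThreeGL3.exists_index_two (X : Subgroup G) X.2 X.not_dvd_index χ
    (z := (zX : G)) zX.2 (congrArg Subtype.val hzsq)
    (fun s hs => congrArg Subtype.val (hzcen ⟨s, hs⟩).eq)
    (by rw [Subtype.coe_eta, hχz]; exact hne1) (by simpa using hval) hN
  exact hG H hH

end Cfsg.Agent.S1906
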