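import Cfsg.Statements.S1914
import Cfsg.Agent.Components.FourFixed.Main
import Cfsg.Agent.Components.Layer

set_option autoImplicit false
open Cfsg

namespace Cfsg.Agent.S1914

open scoped Pointwise in
/-- Let A be a semisimple subgroup (a central product of quasisimple groups, A = E(A)) of a finite group and t an involution normalizing A such that the Sylow 2-subgroups of C_A(t) are cyclic of order 4. Then A has 2-rank exactly 1. -/
theorem result {G : Type*} [Group G] [Finite G] (A : Subgroup G) (hA : Cfsg.layer ↥A = ⊤)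
    (t : G) (ht : orderOf t = 2) (htA : t ∈ Subgroup.normalizer (A : Set G))
    (hC : ∀ R : Sylow 2 ↥(A ⊓ Subgroup.centralizer ({t} : Set G)), IsCyclic R ∧ Nat.card R = 4) :
    Cfsg.PRankLE 2 1 A ∧ ¬ Cfsg.PRankLE 2 0 A := by
  classical
  haveI : Fact (Nat.Prime 2) := ⟨Nat.prime_two⟩
  have ht2 : t * t = 1 := by
    rw [← pow_two, ← ht]
    exact pow_orderOf_eq_one t
  have ht1 : t ≠ 1 := fun e => by
    rw [e, orderOf_one] at ht
    omega
  set C : Subgroup G := A ⊓ Subgroup.centralizer ({t} : Set G) with hCdef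
  have hD : ∀ D : Subgroup G, IsPGroup 2 D → D ≤ A → (∀ d ∈ D, t * d = d * t) → Nat.card D ≤ 4 := by
    intro D hDp hDA hDt
    have hDC : D ≤ C := fun d hd => ⟨hDA hd, Subgroup.mem_centralizer_singleton_iff.2 (hDt d hd).symm⟩
    obtain ⟨R, hR⟩ := (hDp.of_equiv (Subgroup.subgroupOfEquivOfLe hDC).symm).exists_le_sylow
    rw [← (hC R).2, ← Nat.card_congr (Subgroup.subgroupOfEquivOfLe hDC).toEquiv]
    exact Subgroup.card_le_of_le hR
  obtain ⟨R⟩ : Nonempty (Sylow 2 C) := inferInstance
  obtain ⟨hRc, hR4⟩ := hC R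
  obtain ⟨g, hg⟩ := isCyclic_iff_exists_orderOf_eq_natCard.1 hRc
  set u : G := ((g : C) : G) with hu
  have huo : orderOf u = 4 := by
    rw [hu, Subgroup.orderOf_coe, Subgroup.orderOf_coe, hg, hR4]
  have huA : u ∈ A := (g : C).2.1
  have hut : t * u = u * t := (Subgroup.mem_centralizer_singleton_iff.1 (g : C).2.2).symm
  refine ⟨?_, fun h0 => ?_⟩
  · intro B hB hB2
    by_contra hcard
    push Not at hcard
    have hBsq : ∀ x ∈ B, x * x = 1 := fun x hx => by rw [← pow_two]; exact hB2 x hx
    obtain ⟨a, haB, ha1⟩ : ∃ a ∈ B, a ≠ 1 := by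
      by_contra hc
      push Not at hc
      have : B = ⊥ := (Subgroup.eq_bot_iff_forall B).2 hc
      rw [this, Subgroup.card_bot] at hcard
      omega
    obtain ⟨b, hbB, hb1, hab⟩ : ∃ b ∈ B, b ≠ 1 ∧ a ≠ b := by
      by_contra hc
      push Not at hc
      have h1 : (B : Set A) ⊆ {1, a} := fun x hx => by
        by_cases hx1 : x = 1
        · exact Or.inl hx1
        · exact Or.inr (hc x hx hx1).symm
      have h2 := (Set.ncard_le_ncard h1).trans (Set.ncard_insert_le _ _)
      rw [Set.ncard_singleton, show (B : Set A).ncard = Nat.card B from (Nat.card_coe_set_eq _).symm] at h2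
      norm_num at hcard
      omega
    have hcomm : (a : G) * b = b * a :=
      congrArg (Subtype.val : A → G) (congrArg Subtype.val (hB.is_comm.comm (⟨a, haB⟩ : B) ⟨b, hbB⟩))
    have ha2 : (a : G) * a = 1 := congrArg (Subtype.val : A → G) (hBsq a haB)
    have hb2 : (b : G) * b = 1 := congrArg (Subtype.val : A → G) (hBsq b hbB)
    have ha1' : (a : G) ≠ 1 := fun e => ha1 (Subtype.ext e)
    have hb1' : (b : G) ≠ 1 := fun e => hb1 (Subtype.ext e)
    have hne : (a : G) ≠ b := fun e => hab (Subtype.ext e)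
    by_cases htin : t ∈ A
    · exact Cfsg.Lib.FourFixed.rank_one_of_mem A ht2 ht1 htin hD huA huo hut a.2 b.2 ha2 hb2 ha1' hb1' hne hcomm
    -- pass to `H = A⟨t⟩`
    set U : Subgroup G := Subgroup.zpowers t with hU
    have hUA : U ≤ Subgroup.normalizer (A : Set G) := Subgroup.zpowers_le.2 htA
    have hAM : A ≤ A ⊔ U := le_sup_left
    set A' : Subgroup ↥(A ⊔ U) := A.subgroupOf (A ⊔ U) with hA'
    haveI : A'.Normal := (Subgroup.normal_subgroupOf_iff_le_normalizer hAM).2
      (sup_le Subgroup.le_normalizer hUA)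
    have hperfA : ⁅A, A⁆ = A := by
      have h := congrArg (Subgroup.map A.subtype) (Cfsg.Lib.Components.layer_perfect (G := A))
      rw [hA, Subgroup.map_commutator, ← MonoidHom.range_eq_map, Subgroup.range_subtype] at h
      exact h
    have hperf : ⁅A', A'⁆ = A' := by
      apply Subgroup.map_injective (A ⊔ U).subtype_injective
      rw [Subgroup.map_commutator, hA', Subgroup.map_subgroupOf_eq_of_le hAM, hperfA]
    set t' : ↥(A ⊔ U) := ⟨t, le_sup_right (a := A) (Subgroup.mem_zpowers t)⟩ with ht'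
    have ht't : t' * t' = 1 := Subtype.ext ht2
    have hidx : A'.index = 2 := by
      rw [Subgroup.index_eq_two_iff]
      refine ⟨t', fun x => ?_⟩
      obtain ⟨x, hx⟩ := x
      have : x ∈ (A : Set G) * (U : Set G) := by
        rw [← Subgroup.coe_mul_of_right_le_normalizer_left A U hUA]; exact hx
      obtain ⟨y, hy, s, hs, rfl⟩ := this
      show Xor (y * s * t ∈ A) (y * s ∈ A)
      have hs' : s = 1 ∨ s = t := by
        obtain ⟨i, rfl⟩ := hs
        show t ^ i = 1 ∨ t ^ i = t
        rcases Int.even_or_odd' i with ⟨j, rfl | rfl⟩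
        · exact Or.inl (by rw [zpow_mul, zpow_two, ht2, one_zpow])
        · exact Or.inr (by rw [zpow_add_one, zpow_mul, zpow_two, ht2, one_zpow, one_mul])
      rcases hs' with rfl | rfl
      · rw [mul_one]
        exact Or.inr ⟨hy, fun h => htin ((Subgroup.mul_mem_cancel_left A hy).1 h)⟩
      · rw [mul_assoc, ht2, mul_one]
        exact Or.inl ⟨hy, fun h => htin ((Subgroup.mul_mem_cancel_left A hy).1 h)⟩
    refine Cfsg.Lib.FourFixed.rank_one_of_not_mem A' hperf hidx (t := t') (u := ⟨u, hAM huA⟩) ht't htin ?_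
      huA ?_ (Subtype.ext hut) (a := ⟨a, hAM a.2⟩) (b := ⟨b, hAM b.2⟩) a.2 b.2 (Subtype.ext ha2) (Subtype.ext hb2)
      (fun e => ha1' (congrArg Subtype.val e)) (fun e => hb1' (congrArg Subtype.val e))
      (fun e => hne (congrArg (Subtype.val : ↥(A ⊔ U) → G) e :)) (Subtype.ext hcomm)
    · intro D hDp hDA hDt
      have h := hD (D.map (A ⊔ U).subtype) (hDp.map _)
        (by rintro _ ⟨d, hd, rfl⟩; exact hDA hd)
        (by rintro _ ⟨d, hd, rfl⟩; exact congrArg Subtype.val (hDt d hd))
      rwa [Subgroup.card_map_of_injective (A ⊔ U).subtype_injective] at h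
    · rw [Subgroup.orderOf_mk]
      exact huo
  · -- the 2-rank is at least one
    set z : A := ⟨u * u, mul_mem huA huA⟩ with hz
    have hz1 : z ≠ 1 := fun e => by
      have h1 : u ^ 2 = 1 := by rw [pow_two]; exact congrArg Subtype.val e
      have := Nat.le_of_dvd two_pos (orderOf_dvd_of_pow_eq_one h1)
      omega
    have hzz : z ^ 2 = 1 := Subtype.ext (by
      show (u * u) ^ 2 = 1
      rw [← pow_two, ← pow_mul, show 2 * 2 = 4 from rfl, ← huo]
      exact pow_orderOf_eq_one u)
    have h := h0 (Subgroup.zpowers z) inferInstance (fun x hx => by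
      obtain ⟨i, rfl⟩ := hx
      show (z ^ i) ^ 2 = 1
      rw [← zpow_natCast, ← zpow_mul, mul_comm, zpow_mul, zpow_natCast, hzz, one_zpow])
    rw [pow_zero, Subgroup.card_le_one_iff_eq_bot, Subgroup.zpowers_eq_bot] at h
    exact hz1 h

end Cfsg.Agent.S1914
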