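import Cfsg.Statements.S1915
import Cfsg.Agent.Components.FoursRankOne.Main
import Cfsg.Agent.Components.Layer

set_option autoImplicit false
open Cfsg

namespace Cfsg.Agent.S1915

open scoped Pointwise in
/-- Let A be a semisimple subgroup (A = E(A)) of a finite group and U a Klein four-group normalizing A. If the subgroup of A generated by the normalizers N_A(V) of the nontrivial subgroups V of U has 2-rank exactly 1, then A has 2-rank exactly 1. -/
theorem result {G : Type*} [Group G] [Finite G] (A : Subgroup G) (hA : Cfsg.layer ↥A = ⊤)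
    (U : Subgroup G) (hU : IsKleinFour U) (hUA : U ≤ Subgroup.normalizer (A : Set G))
    (hΓ : Cfsg.PRankLE 2 1 ↥(⨆ V : {V : Subgroup G // V ≤ U ∧ V ≠ ⊥}, A ⊓ Subgroup.normalizer ((V : Subgroup G) : Set G)) ∧
      ¬ Cfsg.PRankLE 2 0 ↥(⨆ V : {V : Subgroup G // V ≤ U ∧ V ≠ ⊥}, A ⊓ Subgroup.normalizer ((V : Subgroup G) : Set G))) :
    Cfsg.PRankLE 2 1 A ∧ ¬ Cfsg.PRankLE 2 0 A := by
  classical
  obtain ⟨hΓ1, hΓ0⟩ := hΓ
  set Γ : Subgroup G := ⨆ V : {V : Subgroup G // V ≤ U ∧ V ≠ ⊥},
    A ⊓ Subgroup.normalizer ((V : Subgroup G) : Set G) with hΓdef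
  have hΓA : Γ ≤ A := iSup_le fun _ => inf_le_left
  refine ⟨?_, fun h0 => hΓ0 ?_⟩
  · -- rank at most one
    intro B hB hB2
    by_contra hcard
    push Not at hcard
    have hBsq : ∀ x ∈ B, x * x = 1 := fun x hx => by rw [← pow_two]; exact hB2 x hx
    obtain ⟨a, haB, ha1⟩ : ∃ a ∈ B, a ≠ 1 := by
      by_contra hc
      push Not at hc
      have : B = ⊥ := (Subgroup.eq_bot_iff_forall B).2 hc
      rw [this, Subgroup.card_bot] at hcard
      omega
    obtain ⟨b, hbB, hb1, hab⟩ : ∃ b ∈ B, b ≠ 1 ∧ a ≠ b := by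
      by_contra hc
      push Not at hc
      have h1 : (B : Set A) ⊆ {1, a} := fun x hx => by
        by_cases hx1 : x = 1
        · exact Or.inl hx1
        · exact Or.inr (hc x hx hx1).symm
      have h2 := (Set.ncard_le_ncard h1).trans (Set.ncard_insert_le _ _)
      rw [Set.ncard_singleton, show (B : Set A).ncard = Nat.card B from (Nat.card_coe_set_eq _).symm] at h2
      norm_num at hcard
      omega
    have hcomm : a * b = b * a := congrArg Subtype.val (hB.is_comm.comm (⟨a, haB⟩ : B) ⟨b, hbB⟩)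
    -- pass to `H = A U`
    have hAM : A ≤ A ⊔ U := le_sup_left
    set A' : Subgroup ↥(A ⊔ U) := A.subgroupOf (A ⊔ U) with hA'
    haveI : A'.Normal := (Subgroup.normal_subgroupOf_iff_le_normalizer hAM).2
      (sup_le Subgroup.le_normalizer hUA)
    have hperfA : ⁅A, A⁆ = A := by
      have h := congrArg (Subgroup.map A.subtype) (Cfsg.Lib.Components.layer_perfect (G := A))
      rw [hA, Subgroup.map_commutator, ← MonoidHom.range_eq_map, Subgroup.range_subtype] at h
      exact h
    have hperf : ⁅A', A'⁆ = A' := by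
      apply Subgroup.map_injective (A ⊔ U).subtype_injective
      rw [Subgroup.map_commutator, hA', Subgroup.map_subgroupOf_eq_of_le hAM, hperfA]
    have hU' : IsKleinFour (U.subgroupOf (A ⊔ U)) := by
      refine ⟨?_, ?_⟩
      · rw [Nat.card_congr (Subgroup.subgroupOfEquivOfLe le_sup_right).toEquiv]; exact hU.card_four
      · rw [Monoid.exponent_eq_of_mulEquiv (Subgroup.subgroupOfEquivOfLe le_sup_right)]; exact hU.exponent_two
    have hAU : ∀ h : ↥(A ⊔ U), ∃ x ∈ A', ∃ u ∈ U.subgroupOf (A ⊔ U), h = x * u := by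
      rintro ⟨h, hh⟩
      have : h ∈ (A : Set G) * (U : Set G) := by
        rw [← Subgroup.coe_mul_of_right_le_normalizer_left A U hUA]; exact hh
      obtain ⟨x, hx, u, hu, rfl⟩ := this
      exact ⟨⟨x, hAM hx⟩, hx, ⟨u, le_sup_right (a := A) hu⟩, hu, Subtype.ext rfl⟩
    obtain ⟨u, hu, hu1, z, hz, s, hs, hzz, hss, hz1, hs1, hsz, hzs, huz, hus⟩ :=
      Cfsg.Lib.FoursRankOne.exists_centralized A' hperf (U.subgroupOf (A ⊔ U)) hU' hAU
        ⟨⟨a, hAM a.2⟩, a.2, ⟨b, hAM b.2⟩, b.2, Subtype.ext (congrArg (Subtype.val : A → G) (hBsq a haB) :),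
          Subtype.ext (congrArg (Subtype.val : A → G) (hBsq b hbB) :),
          Subtype.ext (congrArg (Subtype.val : A → G) hcomm :),
          fun e => ha1 (Subtype.ext (congrArg Subtype.val e :)),
          fun e => hb1 (Subtype.ext (congrArg Subtype.val e :)),
          fun e => hab (Subtype.ext (congrArg Subtype.val e :))⟩
    -- both involutions lie in `Γ`
    have hV : Subgroup.zpowers (u : G) ≤ U ∧ Subgroup.zpowers (u : G) ≠ ⊥ :=
      ⟨Subgroup.zpowers_le.2 hu, fun e => hu1 (Subtype.ext (Subgroup.zpowers_eq_bot.1 e))⟩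
    have hmem : ∀ x : ↥(A ⊔ U), x ∈ A' → u * x = x * u → (x : G) ∈ Γ := by
      intro x hx hux
      refine le_iSup (fun V : {V : Subgroup G // V ≤ U ∧ V ≠ ⊥} =>
        A ⊓ Subgroup.normalizer ((V : Subgroup G) : Set G)) ⟨_, hV⟩ ⟨hx, ?_⟩
      refine Subgroup.centralizer_le_normalizer _ (Subgroup.mem_centralizer_iff.2 ?_)
      rintro _ ⟨i, rfl⟩
      exact ((show Commute (u : G) x from congrArg Subtype.val hux).zpow_left i).eq
    set z' : Γ := ⟨z, hmem z hz huz⟩ with hz'
    set s' : Γ := ⟨s, hmem s hs hus⟩ with hs'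
    have e1 : z' * z' = 1 := Subtype.ext (congrArg Subtype.val hzz :)
    have e2 : s' * s' = 1 := Subtype.ext (congrArg Subtype.val hss :)
    have e3 : z' * s' = s' * z' := Subtype.ext (congrArg Subtype.val hzs :)
    obtain ⟨hK4, hK2⟩ := Cfsg.Lib.PGroups.card_closure_pair e1 e2
      (fun e => hz1 (Subtype.ext (congrArg Subtype.val e :))) (fun e => hs1 (Subtype.ext (congrArg Subtype.val e :)))
      (fun e => hsz (Subtype.ext (congrArg Subtype.val e :))) e3
    have hKc : IsMulCommutative (Subgroup.closure ({z', s'} : Set Γ)) := ⟨⟨fun x y => Subtype.ext (by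
      have hx := hK2 x x.2
      have hy := hK2 y y.2
      have hxy := hK2 _ (mul_mem x.2 y.2)
      show (x : Γ) * y = y * x
      calc (x : Γ) * y = ((x : Γ) * y)⁻¹ := (inv_eq_of_mul_eq_one_right hxy).symm
        _ = y * x := by rw [mul_inv_rev, inv_eq_of_mul_eq_one_right hx, inv_eq_of_mul_eq_one_right hy])⟩⟩
    have := hΓ1 _ hKc (fun x hx => by rw [pow_two]; exact hK2 x hx)
    rw [hK4] at this
    norm_num at this
  · -- rank at least one
    intro B hB hB2
    have := h0 (B.map (Subgroup.inclusion hΓA)) ?_ ?_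
    · rwa [Subgroup.card_map_of_injective (Subgroup.inclusion_injective hΓA)] at this
    · refine ⟨⟨?_⟩⟩
      rintro ⟨_, x, hx, rfl⟩ ⟨_, y, hy, rfl⟩
      exact Subtype.ext (by
        show Subgroup.inclusion hΓA x * Subgroup.inclusion hΓA y = Subgroup.inclusion hΓA y * Subgroup.inclusion hΓA x
        rw [← map_mul, ← map_mul, show x * y = y * x from congrArg Subtype.val (hB.is_comm.comm (⟨x, hx⟩ : B) ⟨y, hy⟩)])
    · rintro _ ⟨x, hx, rfl⟩
      rw [← map_pow, hB2 x hx, map_one]

end Cfsg.Agent.S1915
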