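import Cfsg.Statements.S1921
import Cfsg.Agent.Components.Quasisimple
import Cfsg.Agent.Components.Layer

set_option autoImplicit false
open Cfsg
open scoped Pointwise

namespace Cfsg.Agent.S1921

/-- Let a be an involution of a finite group H and L a component of H with a L a⁻¹ ≠ L; put M = ⟨L, aLa⁻¹⟩ and let J be the subgroup generated by the elements x · a x a⁻¹ with x ∈ L (the diagonal). Then every element of M outside J·Z(M) generates M together with J. -/
theorem result {H : Type*} [Group H] [Finite H] (a : H) (ha : orderOf a = 2) (L : Subgroup H) (hL : Cfsg.IsComponent L)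
    (hLa : L.map (MulAut.conj a).toMonoidHom ≠ L) (x : H) (hxM : x ∈ L ⊔ L.map (MulAut.conj a).toMonoidHom)
    (hxJ : x ∉ Subgroup.closure {y : H | ∃ l ∈ L, y = l * (a * l * a⁻¹)} ⊔
      ((L ⊔ L.map (MulAut.conj a).toMonoidHom) ⊓ Subgroup.centralizer ((L ⊔ L.map (MulAut.conj a).toMonoidHom : Subgroup H) : Set H))) :
    Subgroup.closure {y : H | ∃ l ∈ L, y = l * (a * l * a⁻¹)} ⊔ Subgroup.zpowers x = L ⊔ L.map (MulAut.conj a).toMonoidHom := by
  classical
  set L' := L.map (MulAut.conj a).toMonoidHom with hL'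
  set M := L ⊔ L' with hM
  set J := Subgroup.closure {y : H | ∃ l ∈ L, y = l * (a * l * a⁻¹)} with hJ
  set K := J ⊔ Subgroup.zpowers x with hK
  have hcomm : ∀ l ∈ L, ∀ l' ∈ L', l' * l = l * l' := fun l hl l' hl' =>
    (Subgroup.mem_centralizer_iff.1 (Subgroup.commutator_eq_bot_iff_le_centralizer.1
      (Cfsg.Lib.Components.comp_commute (Cfsg.Lib.Components.comp_conj hL a) hL hLa) hl') l hl).symm
  have hJM : J ≤ M := (Subgroup.closure_le _).2 (by
    rintro _ ⟨l, hl, rfl⟩
    exact mul_mem (Subgroup.mem_sup_left hl) (Subgroup.mem_sup_right ⟨l, hl, rfl⟩))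
  have hgJ : ∀ l ∈ L, l * (a * l * a⁻¹) ∈ J := fun l hl => Subgroup.subset_closure ⟨l, hl, rfl⟩
  refine le_antisymm (sup_le hJM (Subgroup.zpowers_le.2 hxM)) ?_
  obtain ⟨l1, hl1, _, ⟨l2, hl2, rfl⟩, hx12⟩ : ∃ u ∈ L, ∃ v ∈ L', x = u * v := by
    have h1 : x ∈ (L : Set H) * (L' : Set H) := by
      rw [← Subgroup.coe_mul_of_right_le_normalizer_left L L' (fun v hv => Subgroup.mem_normalizer_iff.2 fun u => ?_)]
      · exact hxM
      · constructor
        · intro hu; rw [hcomm u hu v hv, mul_inv_cancel_right]; exact hu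
        · intro hu
          have h2 := hcomm _ hu v hv
          have h3 : v * u * v⁻¹ = u := by
            refine mul_left_cancel (a := v) ?_
            rw [h2]; simp
          rwa [h3] at hu
    obtain ⟨u, hu, v, hv, huv⟩ := Set.mem_mul.1 h1
    exact ⟨u, hu, v, hv, huv.symm⟩
  change x = l1 * (a * l2 * a⁻¹) at hx12
  set l := l1 * l2⁻¹ with hl
  have hlL : l ∈ L := mul_mem hl1 (inv_mem hl2)
  have hdec : x = l * (l2 * (a * l2 * a⁻¹)) := by rw [hx12, hl]; simp [mul_assoc]
  have hlK : l ∈ K := by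
    have := mul_mem (Subgroup.mem_sup_right (S := J) (Subgroup.mem_zpowers x))
      (inv_mem (Subgroup.mem_sup_left (T := Subgroup.zpowers x) (hgJ l2 hl2)))
    have he : x * (l2 * (a * l2 * a⁻¹))⁻¹ = l := by
      conv_lhs => rw [hdec]
      rw [mul_inv_cancel_right]
    rwa [he] at this
  have hlZ : ¬ ∀ m ∈ L, m * l = l * m := by
    intro hcen
    apply hxJ
    rw [hdec]
    refine mul_mem (Subgroup.mem_sup_right (Subgroup.mem_inf.2 ⟨Subgroup.mem_sup_left hlL,
      Subgroup.mem_centralizer_iff.2 fun m hm => ?_⟩)) (Subgroup.mem_sup_left (hgJ l2 hl2))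
    have hle : M ≤ Subgroup.centralizer ({l} : Set H) := sup_le
      (fun y hy => Subgroup.mem_centralizer_singleton_iff.2 (hcen y hy))
      (fun y hy => Subgroup.mem_centralizer_singleton_iff.2 (hcomm l hlL y hy))
    exact Subgroup.mem_centralizer_singleton_iff.1 (hle hm)
  set N := K.subgroupOf L with hN
  have hNn : N.Normal := by
    refine ⟨fun y hy g => ?_⟩
    have hJg := Subgroup.mem_sup_left (T := Subgroup.zpowers x) (hgJ g g.2)
    have hy' : (y : H) ∈ K := hy
    have h1 : ((g : H) * (a * g * a⁻¹)) * y * ((g : H) * (a * g * a⁻¹))⁻¹ ∈ K :=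
      mul_mem (mul_mem hJg hy') (inv_mem hJg)
    show (g : H) * y * (g : H)⁻¹ ∈ K
    have hc := hcomm y y.2 (a * g * a⁻¹) ⟨g, g.2, rfl⟩
    have h2 : ((g : H) * (a * g * a⁻¹)) * y * ((g : H) * (a * g * a⁻¹))⁻¹ = (g : H) * y * (g : H)⁻¹ := by
      rw [mul_assoc (g : H) (a * g * a⁻¹) y, hc]
      simp [mul_assoc]
    rwa [h2] at h1
  have hLK : L ≤ K := by
    rcases Cfsg.Lib.Components.qs_subnormal_eq_top_or_le_center hL.2 hNn.isSubnormal with h | h
    · exact Subgroup.subgroupOf_eq_top.1 h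
    · refine absurd (fun m hm => ?_) hlZ
      exact congrArg Subtype.val (Subgroup.mem_center_iff.1 (h (show (⟨l, hlL⟩ : L) ∈ N from hlK)) ⟨m, hm⟩)
  refine sup_le hLK ?_
  rintro _ ⟨m, hm, rfl⟩
  have := mul_mem (inv_mem (hLK hm)) (Subgroup.mem_sup_left (T := Subgroup.zpowers x) (hgJ m hm))
  rwa [inv_mul_cancel_left] at this

end Cfsg.Agent.S1921
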