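import Cfsg.Statements.S1929
import Cfsg.Agent.CoprimeLayer.Transport

set_option autoImplicit false
open Cfsg

namespace Cfsg.Agent.S1929

/-- Inside a finite group let G be a subgroup and R a subgroup of prime order r normalizing G, with the order of G prime to r. Let K be a quasisimple subgroup of G that commutes elementwise with every conjugate of K, other than K itself, under the subgroup generated by R and C_G(R). Then K is a component of C_G(R), or K is a component of G, or K is contained in a component of G that is normalized by R. -/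
theorem result {X : Type*} [Group X] [Finite X] (G R : Subgroup X) (r : ℕ) [Fact r.Prime] (hR : Nat.card ↥R = r) (hcop : (Nat.card ↥G).Coprime r) (hnorm : R ≤ Subgroup.normalizer (G : Set X)) (K : Subgroup X) (hKG : K ≤ G) (hKq : Cfsg.IsQuasisimple ↥K) (hcomm : ∀ g ∈ R ⊔ (G ⊓ Subgroup.centralizer (R : Set X)), K.map (MulAut.conj g).toMonoidHom ≠ K → ⁅K, K.map (MulAut.conj g).toMonoidHom⁆ = ⊥) : (K ≤ G ⊓ Subgroup.centralizer (R : Set X) ∧ Cfsg.IsComponent (K.subgroupOf (G ⊓ Subgroup.centralizer (R : Set X)))) ∨ Cfsg.IsComponent (K.subgroupOf G) ∨ ∃ L : Subgroup X, L ≤ G ∧ Cfsg.IsComponent (L.subgroupOf G) ∧ (∀ a ∈ R, L.map (MulAut.conj a).toMonoidHom = L) ∧ K ≤ L := by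
  classical
  obtain ⟨f, hfR, hfr⟩ := Cfsg.Lib.CoprimeLayer.exists_generator (Fact.out : r.Prime) hR
  subst hfR
  set N := Subgroup.normalizer (G : Set X) with hN
  have hGN : G ≤ N := Subgroup.le_normalizer
  have hKN : K ≤ N := hKG.trans hGN
  have hfN : f ∈ N := hnorm (Subgroup.mem_zpowers f)
  haveI : (G.subgroupOf N).Normal := Subgroup.normal_in_normalizer
  have hC : ∀ x : ↥N, (x : X) ∈ Subgroup.centralizer (Subgroup.zpowers f : Set X) ↔
      x ∈ Subgroup.centralizer ({⟨f, hfN⟩} : Set ↥N) := fun x => by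
    rw [Cfsg.Lib.CoprimeLayer.centralizer_zpowers, Subgroup.mem_centralizer_singleton_iff,
      Subgroup.mem_centralizer_singleton_iff]
    exact ⟨fun h => Subtype.ext h, fun h => congrArg Subtype.val h⟩
  have hCG : (G.subgroupOf N) ⊓ Subgroup.centralizer ({⟨f, hfN⟩} : Set ↥N)
      = (G ⊓ Subgroup.centralizer (Subgroup.zpowers f : Set X)).subgroupOf N := by
    ext x
    exact and_congr Iff.rfl (hC x).symm
  have hconj : ∀ g : ↥N, ∀ A : Subgroup X, A ≤ N →
      ((A.subgroupOf N).map (MulAut.conj g).toMonoidHom).map N.subtype = A.map (MulAut.conj (g : X)).toMonoidHom := by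
    intro g A hA
    conv_rhs => rw [← Subgroup.map_subgroupOf_eq_of_le hA]
    rw [Subgroup.map_map, Subgroup.map_map]
    rfl
  have h := Cfsg.Lib.CoprimeLayer.single_trichotomy (X := ↥N) (G := G.subgroupOf N) (f := ⟨f, hfN⟩)
    (r := r) Fact.out (Subtype.ext hfr)
    (by
      rw [Nat.card_congr (Subgroup.subgroupOfEquivOfLe hGN).toEquiv]
      exact fun hd => (Fact.out : r.Prime).ne_one (Nat.eq_one_of_dvd_coprimes hcop hd dvd_rfl))
    (K := K.subgroupOf N) (fun x hx => hKG hx)
    (Cfsg.Lib.Components.qs_congr' (Subgroup.subgroupOfEquivOfLe hKN).symm hKq)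
    (fun g hg hne => by
      apply Subgroup.map_injective N.subtype_injective
      rw [Subgroup.map_commutator, Subgroup.map_bot, hconj g K hKN, Subgroup.map_subgroupOf_eq_of_le hKN]
      refine hcomm (g : X) ?_ fun e => hne (Subgroup.map_injective N.subtype_injective ?_)
      · have h1 := Subgroup.mem_map_of_mem N.subtype hg
        rw [Subgroup.map_sup, MonoidHom.map_zpowers, hCG,
          Subgroup.map_subgroupOf_eq_of_le (inf_le_left.trans hGN)] at h1
        exact h1
      · rw [hconj g K hKN, e, Subgroup.map_subgroupOf_eq_of_le hKN])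
  rcases h with ⟨h1, h2⟩ | h2 | ⟨L, hLG, hL, hfL, hKL⟩
  · left
    rw [hCG] at h1 h2
    refine ⟨fun x hx => h1 (show (⟨x, hKN hx⟩ : ↥N) ∈ K.subgroupOf N from hx), ?_⟩
    exact (Cfsg.Lib.CoprimeLayer.isComponent_subgroupOf_twice (inf_le_left.trans hGN)).1 h2
  · exact Or.inr (Or.inl ((Cfsg.Lib.CoprimeLayer.isComponent_subgroupOf_twice hGN).1 h2))
  · refine Or.inr (Or.inr ⟨L.map N.subtype, ?_, ?_, ?_, ?_⟩)
    · rintro _ ⟨x, hx, rfl⟩
      exact hLG hx
    · refine (Cfsg.Lib.CoprimeLayer.isComponent_subgroupOf_twice hGN).1 ?_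
      have e : (L.map N.subtype).subgroupOf N = L := Subgroup.comap_map_eq_self_of_injective N.subtype_injective L
      rwa [e]
    · intro a ha
      obtain ⟨i, rfl⟩ := Subgroup.mem_zpowers_iff.1 ha
      refine Cfsg.Lib.Coprime.conjMap_eq_self (Subgroup.zpow_mem _ ?_ i)
      exact Subgroup.le_normalizer_map N.subtype (Subgroup.mem_map_of_mem N.subtype hfL)
    · intro x hx
      exact ⟨⟨x, hKN hx⟩, hKL hx, rfl⟩

end Cfsg.Agent.S1929
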