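import Cfsg.Statements.S1930
import Cfsg.Agent.CapSylow.Meet
import Cfsg.Agent.Components.GenFitting

set_option autoImplicit false
open Cfsg

namespace Cfsg.Agent.S1930

/-- Inside a finite group let G be a nontrivial subgroup and R an r-subgroup (r a prime) normalizing G, with the order of G prime to r. Let p > 3 be a prime with F*(G) = O_p(G), and let P be the intersection of all R-invariant Sylow p-subgroups of G. Then P has a nontrivial characteristic subgroup that is normalized by G. -/
theorem result {X : Type*} [Group X] [Finite X] (G R : Subgroup X) (r : ℕ) [Fact r.Prime] (hR : IsPGroup r ↥R) (hcop : (Nat.card ↥G).Coprime r) (hnorm : R ≤ Subgroup.normalizer (G : Set X)) (hG : G ≠ ⊥) (p : ℕ) [Fact p.Prime] (hp : 3 < p) (hF : Cfsg.generalizedFittingSubgroup ↥G = Cfsg.pCore p ↥G) (P : Subgroup X) (hP : P = ⨅ S : {S : Sylow p ↥G // ∀ a ∈ R, ((S : Subgroup ↥G).map G.subtype).map (MulAut.conj a).toMonoidHom = (S : Subgroup ↥G).map G.subtype}, ((S : Sylow p ↥G) : Subgroup ↥G).map G.subtype)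 : ∃ C : Subgroup ↥P, C.Characteristic ∧ C ≠ ⊥ ∧ G ≤ Subgroup.normalizer ((C.map P.subtype : Subgroup X) : Set X) := by
  have hp5 : 5 ≤ p := by
    have h4 : p ≠ 4 := fun h => absurd (h ▸ (Fact.out : p.Prime)) (by decide)
    omega
  haveI := hR.isNilpotent
  have hcopR : (Nat.card G).Coprime (Nat.card R) := by
    obtain ⟨n, hn⟩ := hR.exists_card_eq
    rw [hn]
    exact hcop.pow_right n
  have hsol : Group.IsSolvable R := inferInstance
  have hcent : Subgroup.centralizer (Cfsg.pCore p G : Set G) ≤ Cfsg.pCore p G := by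
    rw [← hF]
    exact Cfsg.Lib.Components.centralizer_genFitting_le
  have hinv : ∀ S : Sylow p G,
      R ≤ Subgroup.normalizer (((S : Subgroup G).map G.subtype : Subgroup X) : Set X) →
      ∀ a ∈ R, ((S : Subgroup ↥G).map G.subtype).map (MulAut.conj a).toMonoidHom = (S : Subgroup ↥G).map G.subtype :=
    fun S h a ha => Cfsg.Lib.Transfer.map_conj_eq_self_iff.mpr (h ha)
  obtain ⟨S₀, hS₀⟩ := Cfsg.Lib.Coprime.exists_invariant_sylow hnorm hcopR.symm (Or.inl hsol) p
  have hmem : ∀ S : Sylow p G, R ≤ Subgroup.normalizer (((S : Subgroup G).map G.subtype : Subgroup X) : Set X) →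
      P ≤ (S : Subgroup G).map G.subtype := fun S h x hx => by rw [hP, Subgroup.mem_iInf] at hx; exact hx ⟨S, hinv S h⟩
  have hPG : P ≤ G := (hmem S₀ hS₀).trans (Subgroup.map_subtype_le _)
  have hPp : IsPGroup p P := (S₀.2.map _).to_le (hmem S₀ hS₀)
  have hTP : (Cfsg.pCore p G).map G.subtype ≤ P := by
    rw [hP]
    exact le_iInf fun S => Subgroup.map_mono
      (Cfsg.Lib.Thompson.le_sylow_of_normal (Cfsg.Lib.Components.isPGroup_pCore p) S.1)
  refine ⟨Cfsg.kInfLower P, ?_, ?_, ?_⟩
  · exact Subgroup.characteristic_iff_map_eq.mpr fun φ => Cfsg.Lib.KInf.map_kInfLower φ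
  · refine Cfsg.Lib.KInf.isCharPFunctor_lower.1 P hPp ((Subgroup.nontrivial_iff_ne_bot P).mpr fun h => hG ?_)
    refine eq_bot_iff.mpr fun g hg => ?_
    have hT : Cfsg.pCore p G = ⊥ := by
      rw [← Subgroup.map_eq_bot_iff_of_injective _ G.subtype_injective, eq_bot_iff, ← h]
      exact hTP
    have := hcent (show (⟨g, hg⟩ : G) ∈ Subgroup.centralizer (Cfsg.pCore p G : Set G) from
      Subgroup.mem_centralizer_iff.mpr fun t ht => by
        rw [hT] at ht
        rw [Subgroup.mem_bot.mp ht, one_mul, mul_one])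
    rw [hT, Subgroup.mem_bot] at this
    exact Subgroup.mem_bot.mpr (congrArg Subtype.val this)
  · exact Cfsg.Lib.CapSylow.meet_normalised hp5 G R hsol hcopR hnorm hG hcent P hPG hTP hPp hmem

end Cfsg.Agent.S1930
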