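import Cfsg.Statements.S1932
import Cfsg.Agent.PLocal.ThompsonClassTwo
import Cfsg.Agent.PLocal.Constrained
import Cfsg.Agent.Thompson.Subgroup

set_option autoImplicit false
set_option linter.style.haveILetI false
open Cfsg

namespace Cfsg.Agent.S1932

open Subgroup Cfsg.Lib.ThompsonClassTwo
open scoped commutatorElement

universe u

theorem classTwo_of_sylow {X : Type u} [Group X] [Finite X] (S : Sylow 2 X)
    (h : ∀ a ∈ (S : Subgroup X), ∀ b ∈ (S : Subgroup X), ∀ c ∈ (S : Subgroup X), Commute ⁅a, b⁆ c) :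
    ClassTwoLocally X := by
  intro T hT a ha b hb c hc
  obtain ⟨S', hS'⟩ := hT.exists_le_sylow
  obtain ⟨g, hg⟩ := MulAction.exists_smul_eq X S' S
  have hmem : ∀ x ∈ (S' : Subgroup X), (MulAut.conj g) x ∈ (S : Subgroup X) := by
    intro x hx
    rw [← hg, Sylow.coe_subgroup_smul]
    exact ⟨x, hx, rfl⟩
  have h1 := h _ (hmem a (hS' ha)) _ (hmem b (hS' hb)) _ (hmem c (hS' hc))
  rw [← map_commutatorElement] at h1
  exact (MulAut.conj g).injective (by rw [map_mul, map_mul]; exact h1.eq)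

theorem largest_of_max {X : Type u} [Group X] [Finite X] (S : Sylow 2 X) {A : Subgroup X}
    (hA : Cfsg.Lib.Thompson.IsMaxElem 2 (S : Subgroup X) A) : IsLargest A := by
  refine ⟨hA.2.1, fun B hB => ?_⟩
  obtain ⟨S', hS'⟩ := (elem_isPGroup hB).exists_le_sylow
  obtain ⟨g, hg⟩ := MulAction.exists_smul_eq X S' S
  rw [← card_map_of_injective (f := (MulAut.conj g).toMonoidHom) (MulAut.conj g).injective (K := B)]
  refine hA.2.2 _ ?_ (elem_map _ hB)
  rw [← hg, Sylow.coe_subgroup_smul]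
  exact Subgroup.map_mono hS'

theorem thompson_normal_of_charTwo {X : Type u} [Group X] [Finite X]
    (hc : centralizer (Cfsg.pCore 2 X : Set X) ≤ Cfsg.pCore 2 X) (hcl : ClassTwoLocally X)
    (hS4 : ¬ Cfsg.Involves (Equiv.Perm (Fin 4)) X) (S : Sylow 2 X) :
    (Cfsg.thompsonSubgroupOf 2 (S : Subgroup X)).Normal := by
  set Q := Cfsg.pCore 2 X with hQ
  haveI : Q.Normal := Cfsg.Lib.Components.pCore_normal' 2
  have hQS : Q ≤ (S : Subgroup X) := by
    have h : IsPGroup 2 ↥((S : Subgroup X) ⊔ Q) :=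
      S.isPGroup'.to_sup_of_normal_right (Cfsg.Lib.Components.isPGroup_pCore 2)
    exact le_sup_right.trans (S.is_maximal' h le_sup_left).le
  have hin : ∀ A, Cfsg.Lib.Thompson.IsMaxElem 2 (S : Subgroup X) A → A ≤ Q := fun A hA =>
    main _ X rfl hc hcl hS4 A (largest_of_max S hA)
  have heq : Cfsg.thompsonSubgroupOf 2 (S : Subgroup X) = Cfsg.thompsonSubgroupOf 2 Q := by
    rw [Cfsg.Lib.Thompson.thompsonSubgroupOf_eq, Cfsg.Lib.Thompson.thompsonSubgroupOf_eq]
    congr 1
    ext A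
    constructor
    · exact fun hA => ⟨hin A hA, hA.2.1, fun B hB hBe => hA.2.2 B (hB.trans hQS) hBe⟩
    · intro hA
      obtain ⟨A₀, hA₀⟩ := Cfsg.Lib.Thompson.exists_isMaxElem (p := 2) (S : Subgroup X)
      exact ⟨hA.1.trans hQS, hA.2.1, fun B hB hBe =>
        (hA₀.2.2 B hB hBe).trans (hA.2.2 A₀ (hin A₀ hA₀) hA₀.2.1)⟩
  rw [heq, ← normalizer_eq_top_iff, eq_top_iff]
  refine le_trans ?_ (Cfsg.Lib.Thompson.normalizer_le_normalizer_thompson Q)
  exact (normalizer_eq_top_iff.2 ‹Q.Normal›).ge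

/-- Let G be a finite group that is 2-constrained and has no section isomorphic to the symmetric group of degree 4, and let S be a Sylow 2-subgroup of G of nilpotency class at most 2. Then G = N_G(J(S))·O_{2'}(G), where J(S) is the Thompson subgroup generated by the elementary abelian subgroups of S of largest order. -/
theorem result {G : Type*} [Group G] [Finite G] (hcon : Cfsg.IsPConstrained 2 G) (hS4 : ¬ Cfsg.Involves (Equiv.Perm (Fin 4)) G) (S : Sylow 2 G) (hcl : Subgroup.lowerCentralSeries (S : Subgroup G) 2 = ⊥) : Subgroup.normalizer ((Cfsg.thompsonSubgroupOf 2 (S : Subgroup G)) : Set G) ⊔ Cfsg.pPrimeCore 2 G = ⊤ := by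
  set O := Cfsg.pPrimeCore 2 G with hO
  haveI : O.Normal := Cfsg.Lib.Components.pPrimeCore_normal' 2
  set π := QuotientGroup.mk' O with hπ
  have hπs : Function.Surjective π := QuotientGroup.mk'_surjective O
  have hcop := Cfsg.Lib.Components.coprime_card_pPrimeCore (G := G) 2
  have hclS : ∀ a ∈ (S : Subgroup G), ∀ b ∈ (S : Subgroup G), ∀ c ∈ (S : Subgroup G), Commute ⁅a, b⁆ c := by
    intro a ha b hb c hc
    rw [← commutatorElement_eq_one_iff_commute, ← mem_bot, ← hcl]
    exact commutator_mem_commutator (commutator_mem_commutator ha hb) hc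
  set S' := S.mapSurjective hπs with hS'
  have hS'c : (S' : Subgroup (G ⧸ O)) = (S : Subgroup G).map π := Sylow.coe_mapSurjective _ _
  have hcl' : ClassTwoLocally (G ⧸ O) := by
    refine classTwo_of_sylow S' ?_
    rw [hS'c]
    rintro _ ⟨a, ha, rfl⟩ _ ⟨b, hb, rfl⟩ _ ⟨c, hc, rfl⟩
    rw [← map_commutatorElement]
    exact (hclS a ha b hb c hc).map π
  have hn := thompson_normal_of_charTwo (Cfsg.Lib.Constraint.isPConstrained_iff.mp hcon) hcl'
    (fun h => hS4 (Cfsg.Lib.QuadPair.involves_of_surjective hπs h)) S'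
  set J := Cfsg.thompsonSubgroupOf 2 (S : Subgroup G) with hJ
  have hinj : Set.InjOn π (S : Subgroup G) := Cfsg.Lib.ZJ.injOn_mk hcop S.isPGroup'
  rw [hS'c, ← Cfsg.Lib.Thompson.map_thompsonSubgroupOf hinj] at hn
  set M := (J.map π).comap π with hM
  haveI : M.Normal := hn.comap π
  have hinf : (S : Subgroup G) ⊓ M = J := by
    refine le_antisymm ?_ (le_inf (Cfsg.Lib.Thompson.thompsonSubgroupOf_le _) (le_comap_map _ _))
    rintro x ⟨hxS, j, hj, hjx⟩
    exact hinj (Cfsg.Lib.Thompson.thompsonSubgroupOf_le _ hj) hxS hjx ▸ hj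
  have h := Cfsg.Lib.ZJ.sup_normalizer_inf_eq_top M S
  rw [hinf] at h
  refine top_le_iff.1 (h.ge.trans (sup_le ?_ le_sup_left))
  rw [hM, comap_map_eq, hπ, QuotientGroup.ker_mk']
  exact sup_le (le_normalizer.trans le_sup_left) le_sup_right

end Cfsg.Agent.S1932
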