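import Cfsg.Statements.S1933
import Cfsg.Agent.CoprimeLayer.Transport

set_option autoImplicit false
open Cfsg

namespace Cfsg.Agent.S1933

/-- Inside a finite group let G be a subgroup and R a subgroup of prime order r normalizing G, with the order of G prime to r. Let H be a subgroup of G normalized by R and by C_G(R) and such that H = [H, R]. Then the layer of H is contained in the layer of G. -/
theorem result {X : Type*} [Group X] [Finite X] (G R : Subgroup X) (r : ℕ) [Fact r.Prime] (hR : Nat.card ↥R = r) (hcop : (Nat.card ↥G).Coprime r) (hnorm : R ≤ Subgroup.normalizer (G : Set X)) (H : Subgroup X) (hHG : H ≤ G) (hHinv : R ⊔ (G ⊓ Subgroup.centralizer (R : Set X)) ≤ Subgroup.normalizer (H : Set X)) (hHR : ⁅H, R⁆ = H) : (Cfsg.layer ↥H).map H.subtype ≤ (Cfsg.layer ↥G).map G.subtype := by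
  classical
  obtain ⟨f, hfR, hfr⟩ := Cfsg.Lib.CoprimeLayer.exists_generator (Fact.out : r.Prime) hR
  subst hfR
  set N := Subgroup.normalizer (G : Set X) with hN
  have hGN : G ≤ N := Subgroup.le_normalizer
  have hHN : H ≤ N := hHG.trans hGN
  have hfN : f ∈ N := hnorm (Subgroup.mem_zpowers f)
  haveI : (G.subgroupOf N).Normal := Subgroup.normal_in_normalizer
  have h := Cfsg.Lib.CoprimeLayer.layer_le_layer_of_moved (X := ↥N) (G := G.subgroupOf N) (f := ⟨f, hfN⟩)
    (r := r) Fact.out (Subtype.ext hfr)
    (by
      rw [Nat.card_congr (Subgroup.subgroupOfEquivOfLe hGN).toEquiv]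
      exact fun hd => (Fact.out : r.Prime).ne_one (Nat.eq_one_of_dvd_coprimes hcop hd dvd_rfl))
    (H := H.subgroupOf N) (fun x hx => hHG hx) (fun g hg => by
      rw [← Subgroup.subgroupOf_normalizer_eq hHN]
      refine hHinv ?_
      rcases hg with rfl | hg
      · exact Subgroup.mem_sup_left (Subgroup.mem_zpowers f)
      · refine Subgroup.mem_sup_right ⟨hg.1, ?_⟩
        rw [Cfsg.Lib.CoprimeLayer.centralizer_zpowers]
        exact Subgroup.mem_centralizer_singleton_iff.2
          (congrArg Subtype.val (Subgroup.mem_centralizer_singleton_iff.1 hg.2)))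
    (by
      apply Subgroup.map_injective N.subtype_injective
      rw [Subgroup.map_commutator, Subgroup.map_subgroupOf_eq_of_le hHN, MonoidHom.map_zpowers]
      exact hHR)
  have h2 := Subgroup.map_mono (f := N.subtype) h
  rwa [Cfsg.Lib.CoprimeLayer.layer_map_subgroupOf hHN, Cfsg.Lib.CoprimeLayer.layer_map_subgroupOf hGN] at h2

end Cfsg.Agent.S1933
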