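import Cfsg.Statements.S1935
import Cfsg.Statements.S1935
import Cfsg.Agent.PLocal.QuadLimit.Main
import Cfsg.Agent.Thompson.ElemToolkit

set_option autoImplicit false
open Cfsg

namespace Cfsg.Agent.S1935

open Cfsg.Lib.QuadLimit in
open scoped commutatorElement in
set_option maxHeartbeats 1000000 in
theorem core {Ω : Type*} [Group Ω] [Finite Ω] (p : ℕ) [Fact p.Prime] (hp : p ≠ 2) (V G : Subgroup Ω)
    (hV : Cfsg.IsElementaryAbelian p V) (hG : IsPGroup p ↥G)
    (hGV : G ≤ Subgroup.normalizer (V : Set Ω))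
    (hfaith : G ⊓ Subgroup.centralizer (V : Set Ω) = ⊥)
    (hF : ∃ E : Subgroup Ω, E ≤ G ∧ E ≠ ⊥ ∧ Cfsg.IsElementaryAbelian p E ∧
      Nat.card ↥V ≤ Nat.card ↥E * Nat.card ↥(V ⊓ Subgroup.centralizer (E : Set Ω))) :
    ∃ A : Subgroup Ω, A ≤ G ∧ A ≠ ⊥ ∧ Cfsg.IsElementaryAbelian p A ∧
      Nat.card ↥V ≤ Nat.card ↥A * Nat.card ↥(V ⊓ Subgroup.centralizer (A : Set Ω)) ∧
      ⁅⁅V, A⁆, A⁆ = ⊥ ∧
      ∀ g ∈ Subgroup.closure {x : Ω | ∃ h ∈ G, ∃ a ∈ A, x = h * a * h⁻¹}, ∀ a ∈ A, g * a * g⁻¹ ∈ A := by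
  classical
  haveI : Fintype (Subgroup Ω) := Fintype.ofFinite _
  haveI : Fintype (Subgroup ↥G) := Fintype.ofFinite _
  have hpp : p.Prime := Fact.out
  have hconjV : ∀ g ∈ G, ∀ v ∈ V, g * v * g⁻¹ ∈ V := fun g hg v hv =>
    (Subgroup.mem_normalizer_iff.1 (hGV hg) v).1 hv
  have hVc : IsMulCommutative V := hV.1
  letI : CommGroup V := { (inferInstance : Group V) with mul_comm := fun a b => hVc.is_comm.comm a b }
  haveI : Module (ZMod p) (Additive V) := AddCommGroup.zmodModule fun v => by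
    show Additive.toMul v ^ p = 1
    exact Subtype.ext (hV.2 _ (Additive.toMul v).2)
  haveI : Finite (AddMonoid.End (Additive V)) :=
    Finite.of_injective (fun f => (f : Additive V → Additive V)) DFunLike.coe_injective
  let ρ : ↥G →* AddMonoid.End (Additive V) :=
    { toFun := fun g => AddMonoidHom.mk'
        (fun v => Additive.ofMul ⟨(g : Ω) * (Additive.toMul v : V) * (g : Ω)⁻¹,
          hconjV _ g.2 _ (Additive.toMul v).2⟩) (fun v w => by
            apply Additive.toMul.injective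
            apply Subtype.ext
            show (g : Ω) * ((Additive.toMul v : V) * (Additive.toMul w : V) : Ω) * (g : Ω)⁻¹ =
              (g : Ω) * (Additive.toMul v : V) * (g : Ω)⁻¹ *
                ((g : Ω) * (Additive.toMul w : V) * (g : Ω)⁻¹)
            group)
      map_one' := by
        refine DFunLike.ext (F := AddMonoid.End (Additive V)) _ _ fun (v : Additive V) => ?_
        apply Additive.toMul.injective
        apply Subtype.ext
        show (1 : Ω) * (Additive.toMul v : V) * (1 : Ω)⁻¹ = (Additive.toMul v : V)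
        group
      map_mul' := fun g h => by
        refine DFunLike.ext (F := AddMonoid.End (Additive V)) _ _ fun (v : Additive V) => ?_
        apply Additive.toMul.injective
        apply Subtype.ext
        show ((g : Ω) * h) * (Additive.toMul v : V) * ((g : Ω) * h)⁻¹ =
          (g : Ω) * ((h : Ω) * (Additive.toMul v : V) * (h : Ω)⁻¹) * (g : Ω)⁻¹
        group }
  have hρv : ∀ (g : ↥G) (v : Additive V),
      ((Additive.toMul (ρ g v) : V) : Ω) = (g : Ω) * (Additive.toMul v : V) * (g : Ω)⁻¹ :=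
    fun g v => rfl
  have hsub : ∀ (g : ↥G) (v : Additive V), (ρ g - 1) v = ρ g v - v := fun g v => rfl
  have hfix : ∀ (g : ↥G) (v : Additive V),
      (ρ g - 1) v = 0 ↔ (g : Ω) * (Additive.toMul v : V) = (Additive.toMul v : V) * (g : Ω) := by
    intro g v
    rw [hsub, sub_eq_zero, ← Additive.toMul.injective.eq_iff, ← Subtype.coe_inj, hρv,
      mul_inv_eq_iff_eq_mul]
  have hρ : Function.Injective ρ := by
    intro g h hgh
    have hmem : ((h⁻¹ * g : ↥G) : Ω) ∈ G ⊓ Subgroup.centralizer (V : Set Ω) := by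
      refine ⟨(h⁻¹ * g).2, Subgroup.mem_centralizer_iff.2 fun v hv => ?_⟩
      have h0 : (ρ (h⁻¹ * g) - 1) (Additive.ofMul (⟨v, hv⟩ : V)) = 0 := by
        rw [map_mul, hgh, rho_inv_mul, sub_self]; rfl
      exact ((hfix _ _).1 h0).symm
    rw [hfaith, Subgroup.mem_bot] at hmem
    exact (inv_mul_eq_one.1 (Subtype.ext hmem : h⁻¹ * g = 1)).symm
  have hend : ∀ r : AddMonoid.End (Additive V), p • r = 0 := fun r => by
    refine DFunLike.ext (F := AddMonoid.End (Additive V)) _ _ fun (v : Additive V) => ?_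
    show p • r v = 0
    rw [← Nat.cast_smul_eq_nsmul (ZMod p), ZMod.natCast_self, zero_smul]
  -- the rank one endomorphisms
  obtain ⟨E, hEG, hE, hEel, hEoff⟩ := hF
  have hVne : ∃ v0 : Additive V, v0 ≠ 0 := by
    by_contra hcon
    push_neg at hcon
    apply hE
    rw [← le_bot_iff, ← hfaith]
    refine le_inf hEG fun e _ => Subgroup.mem_centralizer_iff.2 fun v hv => ?_
    have h1 : v = 1 := congrArg (fun w : Additive V => ((Additive.toMul w : V) : Ω)) (hcon (Additive.ofMul ⟨v, hv⟩))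
    rw [h1, one_mul, mul_one]
  obtain ⟨v0, hv0⟩ := hVne
  obtain ⟨φ0, hφ0⟩ : ∃ f : Additive V →ₗ[ZMod p] ZMod p, f v0 ≠ 0 := by
    by_contra hcon
    push_neg at hcon
    exact hv0 ((Module.forall_dual_apply_eq_zero_iff (ZMod p) v0).1 hcon)
  let ι : Additive V →+ AddMonoid.End (Additive V) :=
    AddMonoidHom.mk' (fun v => (φ0.smulRight v).toAddMonoidHom) fun v w =>
      DFunLike.ext (F := AddMonoid.End (Additive V)) _ _ fun u => smul_add (φ0 u) v w
  have hιmul : ∀ (r : AddMonoid.End (Additive V)) v, r * ι v = ι (r v) := fun r v =>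
    DFunLike.ext (F := AddMonoid.End (Additive V)) _ _ fun u => ZMod.map_smul r (φ0 u) v
  have hιinj : Function.Injective ι := fun v w h => by
    have h1 := congrArg (fun f => (f : AddMonoid.End (Additive V)) v0) h
    exact smul_right_injective _ hφ0 h1
  have hS : ∀ r, ∀ x ∈ ι.range, r * x ∈ ι.range := by
    rintro r _ ⟨v, rfl⟩; exact ⟨r v, (hιmul r v).symm⟩
  have hann : ∀ A : Subgroup ↥G, Nat.card (annIn ρ ι.range A) =
      Nat.card ↥(V ⊓ Subgroup.centralizer ((A.map G.subtype : Subgroup Ω) : Set Ω)) := by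
    intro A
    have key : ∀ v : Additive V, ι v ∈ annIn ρ ι.range A ↔
        ((Additive.toMul v : V) : Ω) ∈ Subgroup.centralizer ((A.map G.subtype : Subgroup Ω) : Set Ω) := by
      intro v
      rw [Subgroup.mem_centralizer_iff]
      constructor
      · rintro ⟨-, h⟩ _ ⟨a, ha, rfl⟩
        have h1 := h a ha
        rw [hιmul, ← map_zero ι] at h1
        exact (hfix a v).1 (hιinj h1)
      · intro h
        refine ⟨⟨v, rfl⟩, fun a ha => ?_⟩
        rw [hιmul, (hfix a v).2 (h _ ⟨a, ha, rfl⟩), map_zero]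
    refine (Nat.card_congr (Equiv.ofBijective (fun u : ↥(V ⊓ Subgroup.centralizer
      ((A.map G.subtype : Subgroup Ω) : Set Ω)) =>
        (⟨ι (Additive.ofMul (⟨u.1, u.2.1⟩ : V)), (key _).2 u.2.2⟩ : annIn ρ ι.range A)) ⟨?_, ?_⟩)).symm
    · intro u w h
      have h1 := congrArg Additive.toMul (hιinj (congrArg Subtype.val h))
      exact Subtype.ext (congrArg (Subtype.val : V → Ω) h1)
    · rintro ⟨_, hx⟩
      obtain ⟨v, rfl⟩ := hx.1
      exact ⟨⟨_, (Additive.toMul v).2, (key v).1 hx⟩, rfl⟩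
  -- a quadratic offender
  obtain ⟨B, hB, hBmax'⟩ := Finset.exists_max_image
    (Finset.univ.filter fun B : Subgroup Ω => B ≤ E ∧ B ≠ ⊥) (Cfsg.Lib.ElemToolkit.meas V)
    ⟨E, by simp [hE]⟩
  simp only [Finset.mem_filter, Finset.mem_univ, true_and] at hB hBmax'
  obtain ⟨hBE, hBne⟩ := hB
  have hBmax : ∀ B' : Subgroup Ω, B' ≤ E ∧ B' ≠ ⊥ →
      Cfsg.Lib.ElemToolkit.meas V B' ≤ Cfsg.Lib.ElemToolkit.meas V B := hBmax'
  have hBbig : Nat.card V ≤ Cfsg.Lib.ElemToolkit.meas V B := hEoff.trans (hBmax E ⟨le_rfl, hE⟩)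
  have hBG : B ≤ G := hBE.trans hEG
  have hBel := Cfsg.Lib.ElemToolkit.elementary_mono hBE hEel
  have hbest : Cfsg.IsBestOffenderOn p V B := by
    refine ⟨fun B' hB' => ?_, ?_, fun a ha => by rw [hBel.2 a ha]; exact Subgroup.one_mem _⟩
    · by_cases h : B' = ⊥
      · subst h
        refine le_trans ?_ hBbig
        rw [Subgroup.card_bot, one_mul]
        exact Nat.card_le_card_of_injective _ (Subgroup.inclusion_injective inf_le_left)
      · exact hBmax B' ⟨hB'.trans hBE, h⟩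
    · rw [Subgroup.commutator_le]
      intro a ha c hc
      rw [commutatorElement_eq_one_iff_mul_comm.2 (Cfsg.Lib.ElemToolkit.comm_of hBel.1 ha hc)]
      exact Subgroup.one_mem _
  have hBV : B ≤ Subgroup.normalizer (V : Set Ω) := hBG.trans hGV
  obtain ⟨hr1, hr2⟩ := Cfsg.Lib.ElemToolkit.replacement hV hBV (Cfsg.Lib.ElemToolkit.opt_of_best hbest)
    (S := (V : Set Ω)) le_rfl
  set X := Cfsg.Lib.ElemToolkit.commSpan (V : Set Ω) B with hXdef
  have hXVB : X = ⁅V, B⁆ := by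
    rw [Subgroup.commutator_def]; rfl
  rw [hXVB] at hr1 hr2
  set A0 := B ⊓ Subgroup.centralizer ((⁅V, B⁆ : Subgroup Ω) : Set Ω) with hA0
  have hA0ne : A0 ≠ ⊥ := by
    intro h0
    rw [h0] at hr2
    have hgen : V ≤ ⁅V, B⁆ ⊔ (V ⊓ Subgroup.centralizer (B : Set Ω)) := hr2 ▸ le_inf le_rfl (by
      intro v _; simp [Subgroup.mem_centralizer_iff])
    have h1 := Cfsg.Lib.ElemToolkit.comm_lt hpp hV hBV hbest hgen
    apply hBne
    refine le_bot_iff.1 (hfaith ▸ le_inf hBG ?_)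
    rw [Subgroup.le_centralizer_iff]
    exact Subgroup.commutator_eq_bot_iff_le_centralizer.1 h1
  have hA0G : A0 ≤ G := inf_le_left.trans hBG
  have hcard : ∀ A : Subgroup ↥G, Nat.card A = Nat.card (A.map G.subtype) := fun A =>
    Nat.card_congr (A.equivMapOfInjective G.subtype G.subtype_injective).toEquiv
  have hA0map : (A0.subgroupOf G).map G.subtype = A0 := Subgroup.map_subgroupOf_eq_of_le hA0G
  have hoff0 : Off ρ ι.range (Nat.card V) (A0.subgroupOf G) := by
    refine ⟨⟨?_, ?_⟩, ?_⟩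
    · intro a ha c hc
      rw [Subgroup.mem_subgroupOf] at ha hc
      refine DFunLike.ext (F := AddMonoid.End (Additive V)) _ _ fun (v : Additive V) => ?_
      show (ρ a - 1) ((ρ c - 1) v) = 0
      rw [hfix]
      set w := Additive.toMul v with hw
      have hw' : ((Additive.toMul ((ρ c - 1) v) : V) : Ω) = ⁅(c : Ω), (w : Ω)⁆ := by
        rw [hsub, toMul_sub, div_eq_mul_inv, commutatorElement_def]
        rfl
      rw [hw']
      refine (Subgroup.mem_centralizer_iff.1 ha.2 _ ?_).symm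
      rw [Subgroup.commutator_comm]
      exact Subgroup.commutator_mem_commutator (hc.1) w.2
    · rw [hann, hcard, hA0map]
      exact hBbig.trans hr1.ge
    · rw [hcard, hA0map]
      exact (Subgroup.one_lt_card_iff_ne_bot A0).2 hA0ne
  obtain ⟨n, hn⟩ := exists_filt_eq_bot (ρ := ρ) hG hend
  obtain ⟨A, hA, hmax⟩ := Finset.exists_max_image
    (Finset.univ.filter fun A : Subgroup ↥G => Off ρ ι.range (Nat.card V) A) (depth ρ n)
    ⟨_, by simpa using hoff0⟩
  simp only [Finset.mem_filter, Finset.mem_univ, true_and] at hA hmax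
  have hk : 2 * (((p + 1) / 2 : ℕ) : AddMonoid.End (Additive V)) = 1 := by
    obtain ⟨j, hj⟩ := hpp.odd_of_ne_two hp
    have h2 : 2 * ((p + 1) / 2) = p + 1 := by omega
    rw [← Nat.cast_ofNat, ← Nat.cast_mul, h2, Nat.cast_add, Nat.cast_one]
    rw [show ((p : ℕ) : AddMonoid.End (Additive V)) = 0 by rw [← nsmul_one, hend], zero_add]
  have hclos := normal_in_closure hρ hG ((p + 1) / 2) hk hS hn ⊤ A le_top hA hmax
  obtain ⟨⟨hq, hbig⟩, hone⟩ := hA
  rw [hann, hcard] at hbig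
  rw [hcard] at hone
  have hAG : A.map G.subtype ≤ G := Subgroup.map_subtype_le A
  refine ⟨A.map G.subtype, hAG, (Subgroup.one_lt_card_iff_ne_bot _).1 hone, ⟨⟨⟨?_⟩⟩, ?_⟩, hbig, ?_, ?_⟩
  · rintro ⟨_, a, ha, rfl⟩ ⟨_, c, hc, rfl⟩
    have e : a * c = c * a := hρ (sub_left_injective (b := 1) ?_)
    exact Subtype.ext (congrArg Subtype.val e : (a : Ω) * c = c * a)
    show ρ (a * c) - 1 = ρ (c * a) - 1
    rw [hq.map_mul ha hc, hq.map_mul hc ha]
    exact add_comm _ _
  · rintro _ ⟨a, ha, rfl⟩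
    rw [← map_pow, show a ^ p = 1 from hρ (sub_left_injective (b := 1) (by
      simp only [hq.map_pow ha, hend, map_one, sub_self])), map_one]
  · rw [Subgroup.commutator_eq_bot_iff_le_centralizer, Subgroup.commutator_le]
    rintro v hv _ ⟨c, hc, rfl⟩
    rw [Subgroup.mem_centralizer_iff]
    rintro _ ⟨a, ha, rfl⟩
    have h0 : (ρ a - 1) ((ρ c - 1) (Additive.ofMul (⟨v, hv⟩ : V))) = 0 := by
      show ((ρ a - 1) * (ρ c - 1)) _ = 0
      rw [hq a ha c hc]; rfl
    have h1 := (hfix _ _).1 h0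
    have hw' : ((Additive.toMul ((ρ c - 1) (Additive.ofMul (⟨v, hv⟩ : V))) : V) : Ω) = ⁅(c : Ω), v⁆ := by
      rw [hsub, toMul_sub, div_eq_mul_inv, commutatorElement_def]
      rfl
    rw [hw'] at h1
    show (a : Ω) * ⁅v, (c : Ω)⁆ = ⁅v, (c : Ω)⁆ * (a : Ω)
    rw [← commutatorElement_inv (c : Ω) v]
    exact (Commute.inv_right h1).eq
  · intro g hg
    have hg' : g ∈ (Subgroup.closure {x : ↥G | ∃ h ∈ (⊤ : Subgroup ↥G), ∃ a ∈ A, x = h * a * h⁻¹}).map G.subtype := by
      refine (Subgroup.closure_le _).2 ?_ hg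
      rintro _ ⟨h, hh, _, ⟨a, ha, rfl⟩, rfl⟩
      exact ⟨⟨h, hh⟩ * a * ⟨h, hh⟩⁻¹, Subgroup.subset_closure ⟨⟨h, hh⟩, trivial, a, ha, rfl⟩, by simp⟩
    obtain ⟨g, hgc, rfl⟩ := hg'
    rintro _ ⟨a, ha, rfl⟩
    exact ⟨g * a * g⁻¹, (Subgroup.mem_normalizer_iff.1 (hclos hgc) a).1 ha, by simp⟩

/-- Let p ≥ 5 be a prime and, inside an ambient finite group, let G be a p-subgroup acting faithfully by conjugation on an elementary abelian p-subgroup V that it normalizes (only the identity of G centralizes V). Suppose V is an F-module for G: some nontrivial elementary abelian subgroup E of G satisfies #E · #C_V(E) ≥ #V. Then G contains such an offender A that moreover acts quadratically on V ([V, A, A] = 1) and is normal in its normal closure in G. -/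
theorem result {Ω : Type*} [Group Ω] [Finite Ω] (p : ℕ) [Fact p.Prime] (hp : 5 ≤ p) (V G : Subgroup Ω) (hV : Cfsg.IsElementaryAbelian p V) (hG : IsPGroup p ↥G) (hGV : G ≤ Subgroup.normalizer (V : Set Ω)) (hfaith : G ⊓ Subgroup.centralizer (V : Set Ω) = ⊥) (hF : ∃ E : Subgroup Ω, E ≤ G ∧ E ≠ ⊥ ∧ Cfsg.IsElementaryAbelian p E ∧ Nat.card ↥V ≤ Nat.card ↥E * Nat.card ↥(V ⊓ Subgroup.centralizer (E : Set Ω))) : ∃ A : Subgroup Ω, A ≤ G ∧ A ≠ ⊥ ∧ Cfsg.IsElementaryAbelian p A ∧ Nat.card ↥V ≤ Nat.card ↥A * Nat.card ↥(V ⊓ Subgroup.centralizer (A : Set Ω)) ∧ ⁅⁅V, A⁆, A⁆ = ⊥ ∧ ∀ g ∈ Subgroup.closure {x : Ω | ∃ h ∈ G, ∃ a ∈ A, x = h * a * h⁻¹}, ∀ a ∈ A, g * a * g⁻¹ ∈ A := by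
  exact core p (by omega) V G hV hG hGV hfaith hF

end Cfsg.Agent.S1935
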