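import Cfsg.Statements.S1940

set_option autoImplicit false
open Cfsg

namespace Cfsg.Agent.S1940

/-- Let the finite group L act by automorphisms on the finite abelian group M, and let N be an L-invariant subgroup of M such that M/N is a p-group on which L acts trivially (every l • m lies in the coset mN). If every element of M is a product of an element of N and an element fixed by a Sylow p-subgroup T of L, then every element of M is a product of an element of N and an element fixed by all of L. -/
theorem result {L : Type*} [Group L] [Finite L] {M : Type*} [CommGroup M] [Finite M] [MulDistribMulAction L M]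
    {p : ℕ} [Fact p.Prime] (N : Subgroup M) (hN : ∀ (l : L) (m : M), m ∈ N → l • m ∈ N)
    (hquot : IsPGroup p (M ⧸ N)) (htriv : ∀ (l : L) (m : M), (l • m) * m⁻¹ ∈ N) (T : Sylow p L)
    (hT : ∀ m : M, ∃ n ∈ N, ∃ c : M, (∀ t ∈ (T : Subgroup L), t • c = c) ∧ m = n * c) :
    ∀ m : M, ∃ n ∈ N, ∃ c : M, (∀ l : L, l • c = c) ∧ m = n * c := by
  classical
  intro m
  obtain ⟨n, hn, c, hc, rfl⟩ := hT m
  set T₀ := (T : Subgroup L)
  haveI : Fintype (L ⧸ T₀) := Fintype.ofFinite _
  let f : L ⧸ T₀ → M := fun q => q.out • c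
  have hf : ∀ (l : L), f (l : L ⧸ T₀) = l • c := by
    intro l
    have h : (l : L)⁻¹ * (l : L ⧸ T₀).out ∈ T₀ := QuotientGroup.eq.1 (QuotientGroup.out_eq' (l : L ⧸ T₀)).symm
    show (l : L ⧸ T₀).out • c = l • c
    conv_lhs => rw [show (l : L ⧸ T₀).out = l * (l⁻¹ * (l : L ⧸ T₀).out) by group, mul_smul, hc _ h]
  set s := ∏ q : L ⧸ T₀, f q with hs
  have hfix : ∀ l : L, l • s = s := by
    intro l
    rw [hs, Finset.smul_prod']
    refine Fintype.prod_equiv (MulAction.toPerm l) _ _ fun q => ?_
    induction q using QuotientGroup.induction_on with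
    | H g =>
      show l • f g = f ((l * g : L) : L ⧸ T₀)
      rw [hf, hf, mul_smul]
  let π := QuotientGroup.mk' N
  have hπ : π s = π c ^ Fintype.card (L ⧸ T₀) := by
    rw [hs, map_prod, Finset.prod_eq_pow_card (b := π c), Finset.card_univ]
    intro q _
    refine mul_inv_eq_one.1 ?_
    rw [← map_inv, ← map_mul]
    exact (QuotientGroup.eq_one_iff _).2 (htriv _ c)
  obtain ⟨j, hj⟩ := hquot (π c)
  set k := Fintype.card (L ⧸ T₀) with hk
  have hco : k.Coprime (orderOf (π c)) := by
    refine Nat.Coprime.coprime_dvd_right (orderOf_dvd_of_pow_eq_one hj) (Nat.Coprime.pow_right j ?_)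
    rw [hk, ← Nat.card_eq_fintype_card, ← Subgroup.index_eq_card]
    exact ((Fact.out : p.Prime).coprime_iff_not_dvd.2 T.not_dvd_index).symm
  obtain ⟨e, he⟩ := exists_pow_eq_self_of_coprime hco
  refine ⟨n * (c * (s ^ e)⁻¹), N.mul_mem hn ((QuotientGroup.eq_one_iff _).1 ?_), s ^ e, fun l => ?_, ?_⟩
  · show π (c * (s ^ e)⁻¹) = 1
    rw [map_mul, map_inv, map_pow, hπ, he, mul_inv_cancel]
  · rw [smul_pow', hfix]
  · group

end Cfsg.Agent.S1940
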