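import Cfsg.Statements.S1941
import Cfsg.Agent.Components.GenFitting
import Cfsg.Agent.Components.Local

set_option autoImplicit false
open Cfsg

namespace Cfsg.Agent.S1941

/-- Let G be a finite group with no nontrivial normal subgroup of order prime to p, T a Sylow p-subgroup of G and E(G) the layer of G (the subgroup generated by its components). An automorphism of G of p-power order that fixes T and E(G) elementwise is inner. -/
theorem result {G : Type*} [Group G] [Finite G] {p : ℕ} [Fact p.Prime] (hcore : Cfsg.pPrimeCore p G = ⊥)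
    (T : Sylow p G) (α : MulAut G) (hα : ∃ j : ℕ, orderOf α = p ^ j) (hfixT : ∀ x ∈ (T : Subgroup G), α x = x)
    (hfixE : ∀ x ∈ Cfsg.layer G, α x = x) : ∃ g : G, ∀ x : G, α x = g * x * g⁻¹ := by
  open Subgroup Cfsg.Lib.Components in
  exact by
    classical
    have hpT : pCore p G ≤ (T : Subgroup G) := by
      haveI := pCore_normal' (G := G) p
      obtain ⟨Q, hQ⟩ := (isPGroup_pCore (G := G) p).exists_le_sylow
      obtain ⟨g, rfl⟩ := MulAction.exists_smul_eq G Q T
      intro x hx
      exact ⟨g⁻¹ * x * g, hQ (by simpa using (inferInstance : (pCore p G).Normal).conj_mem x hx g⁻¹), by simp [MulAut.conj_apply, mul_assoc]⟩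
    set F := generalizedFittingSubgroup G with hFdef
    have hfix : ∀ y ∈ F, α y = y := fun y hy => by
      refine (show F ≤ MonoidHom.eqLocus α.toMonoidHom (MonoidHom.id G) from ?_) hy
      rw [hFdef, generalizedFittingSubgroup, fitting_eq_pCore hcore]
      exact sup_le (fun z hz => hfixE z hz) (fun z hz => hfixT z (hpT hz))
    have hFn : ∀ x y : G, y ∈ F → x * y * x⁻¹ ∈ F := fun x y hy =>
      (genFitting_map_equiv (MulAut.conj x)).le ⟨y, hy, rfl⟩
    set A := F ⊓ centralizer (F : Set G) with hAdef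
    haveI hAn : A.Normal := ⟨fun a ha x => by
      obtain ⟨h1, h2⟩ := mem_inf.1 ha
      refine mem_inf.mpr ⟨hFn x a h1, mem_centralizer_iff.2 fun y hy => ?_⟩
      have h := mem_centralizer_iff.1 h2 (x⁻¹ * y * x) (by simpa using hFn x⁻¹ y hy)
      calc y * (x * a * x⁻¹) = x * ((x⁻¹ * y * x) * a) * x⁻¹ := by group
        _ = x * a * x⁻¹ * y := by rw [h]; group⟩
    have hAc : IsMulCommutative A := ⟨⟨fun a b => Subtype.ext
      (mem_centralizer_iff.1 (mem_inf.1 b.2).2 a (mem_inf.1 a.2).1)⟩⟩
    letI : CommGroup A := { (inferInstance : Group A) with mul_comm := hAc.is_comm.comm }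
    have hAp : IsPGroup p A := by
      haveI : Group.IsNilpotent A := CommGroup.isNilpotent
      have h : A ≤ fittingSubgroup G := le_fitting inferInstance
      rw [fitting_eq_pCore hcore] at h
      exact (isPGroup_pCore p).to_le h
    have hδ : ∀ x : G, x⁻¹ * α x ∈ A := fun x => by
      have h : x⁻¹ * α x ∈ centralizer (F : Set G) := mem_centralizer_iff.2 fun y hy => by
        have h1 := hfix _ (hFn x y hy)
        rw [map_mul, map_mul, map_inv, hfix y hy] at h1
        calc y * (x⁻¹ * α x) = x⁻¹ * (x * y * x⁻¹) * α x := by group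
          _ = x⁻¹ * α x * y := by rw [← h1]; group
      exact mem_inf.mpr ⟨centralizer_genFitting_le h, h⟩
    let f : G → A := fun x => ⟨x * (α x)⁻¹, by simpa using hδ x⁻¹⟩
    let c : G → A → A := fun x a => ⟨x * (a : G) * x⁻¹, hAn.conj_mem _ a.2 x⟩
    have hmul : ∀ x y, f (x * y) = c x (f y) * f x := fun x y => Subtype.ext (by
      show x * y * (α (x * y))⁻¹ = x * (y * (α y)⁻¹) * x⁻¹ * (x * (α x)⁻¹)
      rw [map_mul]; group)
    set T₀ := (T : Subgroup G) with hT₀
    haveI : Fintype (G ⧸ T₀) := Fintype.ofFinite _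
    let F' : G ⧸ T₀ → A := fun q => f q.out
    have hF' : ∀ x : G, F' x = f x := fun x => by
      have ht : x⁻¹ * (x : G ⧸ T₀).out ∈ T₀ := QuotientGroup.eq.1 (QuotientGroup.out_eq' (x : G ⧸ T₀)).symm
      refine Subtype.ext (?_ : (x : G ⧸ T₀).out * (α (x : G ⧸ T₀).out)⁻¹ = x * (α x)⁻¹)
      have h1 := hfixT _ ht
      rw [map_mul, map_inv] at h1
      rw [show α (x : G ⧸ T₀).out = α x * (x⁻¹ * (x : G ⧸ T₀).out) by rw [← h1]; group]
      group
    set s := ∏ q, F' q with hs
    set k := Fintype.card (G ⧸ T₀) with hk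
    have key : ∀ x : G, s = c x s * f x ^ k := fun x => by
      let cx : A →* A := MonoidHom.mk' (c x) fun a b => Subtype.ext (show x * ((a : G) * b) * x⁻¹ = x * a * x⁻¹ * (x * b * x⁻¹) by group)
      show s = cx s * f x ^ k
      conv_lhs => rw [hs, ← Equiv.prod_comp (MulAction.toPerm x) F']
      rw [hs, map_prod, hk, ← Finset.card_univ, ← Finset.prod_const, ← Finset.prod_mul_distrib]
      refine Finset.prod_congr rfl fun q _ => ?_
      induction q using QuotientGroup.induction_on with
      | H g =>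
        show F' ((x * g : G) : G ⧸ T₀) = c x (F' g) * f x
        rw [hF', hF', hmul]
    obtain ⟨n, hn⟩ := IsPGroup.iff_card.1 hAp
    have hco : (Nat.card A).Coprime k := by
      rw [hn, hk, ← Nat.card_eq_fintype_card, ← Subgroup.index_eq_card]
      exact ((Fact.out : p.Prime).coprime_iff_not_dvd.2 T.not_dvd_index).pow_left n
    set e := powCoprime hco
    set b := e.symm s with hb
    refine ⟨(b : G)⁻¹, fun x => ?_⟩
    have h2 : f x = (c x b)⁻¹ * b := e.injective (by
      show f x ^ k = ((c x b)⁻¹ * b) ^ k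
      rw [mul_pow, inv_pow]
      have h3 : b ^ k = s := e.apply_symm_apply s
      have h4 : (c x b) ^ k = c x s := Subtype.ext (by
        show (x * (b : G) * x⁻¹) ^ k = x * (s : G) * x⁻¹
        rw [conj_pow, ← h3]; rfl)
      rw [h3, h4, eq_inv_mul_iff_mul_eq]
      exact (key x).symm)
    have h5 : x * (α x)⁻¹ = (x * (b : G) * x⁻¹)⁻¹ * b := congrArg Subtype.val h2
    calc α x = (x * (α x)⁻¹)⁻¹ * x := by group
      _ = (b : G)⁻¹ * x * (b : G)⁻¹⁻¹ := by rw [h5]; group

end Cfsg.Agent.S1941
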