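import Cfsg.Statements.S1947
import Cfsg.Agent.Components.Misc.SmallOrder

set_option autoImplicit false
open Cfsg

namespace Cfsg.Agent.S1947

/-- Let G be a finite group and p a prime. If every element of G of order dividing p (dividing 4 when p = 2) lies in some fixed term Z_n(G) of the upper central series, then G has a normal p-complement. -/
theorem result {G : Type*} [Group G] [Finite G] {p : ℕ} [Fact p.Prime] (n : ℕ)
    (h : ∀ a : G, (a ^ p = 1 ∨ (p = 2 ∧ a ^ 4 = 1)) → a ∈ Subgroup.upperCentralSeries G n) : Cfsg.HasNormalPComplement p G := by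
  open Subgroup in
  exact by
    obtain ⟨P⟩ : Nonempty (Sylow p G) := inferInstance
    refine Cfsg.Lib.SmallOrder.complement_of_small P fun Q hQP hQ g hg hco => ?_
    have key : ∀ j ≤ n, ∀ q ∈ Q, q ∈ Subgroup.upperCentralSeries G j → g * q * g⁻¹ = q := by
      intro j
      induction j with
      | zero =>
        intro _ q _ hz
        rw [Subgroup.upperCentralSeries_zero, mem_bot] at hz
        simp [hz]
      | succ j ih =>
        intro hj q hq hz
        have hgq : g * q * g⁻¹ * q⁻¹ ∈ Q := mul_mem ((mem_normalizer_iff.1 hg q).1 hq) (inv_mem hq)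
        have hz' : g * q * g⁻¹ * q⁻¹ ∈ Subgroup.upperCentralSeries G j := by
          have h1 := inv_mem (Subgroup.mem_upperCentralSeries_succ_iff.1 hz g)
          rwa [commutatorElement_inv, commutatorElement_def] at h1
        obtain ⟨k, hk⟩ := P.2 ⟨_, hQP hgq⟩
        exact Cfsg.Lib.SmallOrder.fixed_of_shift (by group) (ih (Nat.le_of_succ_le hj) _ hgq hz')
          ((hco.pow_right k).coprime_dvd_right (orderOf_dvd_of_pow_eq_one (congrArg Subtype.val hk)))
    exact mem_centralizer_iff.2 fun q hq =>
      (mul_inv_eq_iff_eq_mul.1 (key n le_rfl q hq (h q (hQ q hq)))).symm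

end Cfsg.Agent.S1947
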