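import Cfsg.Statements.S2011
import Cfsg.Agent.Components.Cores
import Cfsg.Agent.Coprime.Sylow

set_option autoImplicit false
open Cfsg

namespace Cfsg.Agent.S2011

/-- Let G be a finite group with Sylow p-subgroup P and Q ≤ P. Then Q is centric in the fusion system of G on P (C_P(R) ≤ R for every G-conjugate R of Q lying in P) if and only if C_G(Q) is the internal direct product of Z(Q) = Q ∩ C_G(Q) and the largest normal subgroup of C_G(Q) of order prime to p. -/
theorem result {G : Type*} [Group G] [Finite G] (p : ℕ) [Fact p.Prime] (P : Sylow p G) (Q : Subgroup G) (hQ : Q ≤ P) : (Cfsg.groupFusionSystem (P : Subgroup G)).IsCentric Q ↔ Cfsg.IsInternalDirectProduct (Q ⊓ Subgroup.centralizer (Q : Set G)) ((Cfsg.pPrimeCore p ↥(Subgroup.centralizer (Q : Set G))).map (Subgroup.centralizer (Q : Set G)).subtype) (Subgroup.centralizer (Q : Set G)) := by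
  open Subgroup in
  exact by
    set C := centralizer (Q : Set G) with hC
    have hZC : Q ⊓ C ≤ C := inf_le_right
    set K := (Cfsg.pPrimeCore p ↥C).map C.subtype with hK
    have hKC : K ≤ C := map_subtype_le _
    have hKc : (Nat.card K).Coprime p := by
      rw [hK, card_map_of_injective C.subtype_injective]
      exact Cfsg.Lib.Components.coprime_card_pPrimeCore p
    have hcomm : ∀ a ∈ Q ⊓ C, ∀ b ∈ C, a * b = b * a := fun a ha b hb => mem_centralizer_iff.1 hb a (mem_inf.1 ha).1
    have hQp : IsPGroup p Q := P.2.to_le hQ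
    have hdisj : Q ⊓ C ⊓ K = ⊥ := by
      refine Cfsg.Lib.Coprime.inf_eq_bot_of_coprime ?_
      obtain ⟨n, hn⟩ := IsPGroup.iff_card.1 (hQp.to_le (inf_le_left : Q ⊓ C ≤ Q))
      rw [hn]
      exact hKc.symm.pow_left n
    constructor
    · intro hc
      refine ⟨hZC, hKC, fun a ha b hb => hcomm a ha b (hKC hb), hdisj,
        le_antisymm (sup_le hZC hKC) ?_⟩
      obtain ⟨T⟩ := (inferInstance : Nonempty (Sylow p ↥C))
      set T₀ := (T : Subgroup ↥C).map C.subtype with hT₀
      have hTn : T₀ ≤ normalizer (Q : Set G) := (map_subtype_le _).trans fun t ht =>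
        mem_normalizer_iff.2 fun y => by
          constructor
          · intro hy
            rw [← mem_centralizer_iff.1 ht y hy, mul_inv_cancel_right]
            exact hy
          · intro hy
            have h := mem_centralizer_iff.1 ht _ hy
            have e : y = t * y * t⁻¹ := by
              calc y = t⁻¹ * (t * y * t⁻¹ * t) := by group
                _ = t⁻¹ * (t * (t * y * t⁻¹)) := by rw [h]
                _ = t * y * t⁻¹ := by group
            rw [e]; exact hy
      obtain ⟨R, hR⟩ := (hQp.to_sup_of_normal_left' (T.2.map _) hTn).exists_le_sylow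
      obtain ⟨g, hg⟩ := MulAction.exists_smul_eq G R P
      have hmove : ∀ x ∈ Q ⊔ T₀, g * x * g⁻¹ ∈ (P : Subgroup G) := fun x hx => by
        rw [← hg]
        exact ⟨x, hR hx, rfl⟩
      let φ : Q →* G := ((MulAut.conj g).toMonoidHom).comp Q.subtype
      have hφ : φ ∈ (Cfsg.groupFusionSystem (P : Subgroup G)).Hom Q :=
        ⟨hQ, fun x => hmove _ (mem_sup_left x.2), g, fun x => rfl⟩
      have hcen := hc.2 φ.range ⟨φ, hφ, rfl⟩
      have hTZ : T₀ ≤ Q := fun t ht => by
        have h : g * t * g⁻¹ ∈ φ.range := hcen ⟨hmove t (mem_sup_right ht), mem_centralizer_iff.2 (by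
          rintro _ ⟨q, rfl⟩
          show g * q * g⁻¹ * (g * t * g⁻¹) = g * t * g⁻¹ * (g * q * g⁻¹)
          rw [show g * q * g⁻¹ * (g * t * g⁻¹) = g * (q * t) * g⁻¹ by group,
            mem_centralizer_iff.1 (map_subtype_le _ ht) q q.2]
          group)⟩
        obtain ⟨q, hq⟩ := h
        have e : (q : G) = t := mul_left_cancel (mul_right_cancel (show g * q * g⁻¹ = g * t * g⁻¹ from hq))
        exact e ▸ q.2
      have hTc : normalizer ((T : Subgroup ↥C) : Set ↥C) ≤ centralizer ((T : Subgroup ↥C) : Set ↥C) :=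
        fun n _ => mem_centralizer_iff.2 fun t ht => Subtype.ext
          (hcomm t ⟨hTZ ⟨t, ht, rfl⟩, t.2⟩ n n.2)
      set N := (MonoidHom.transferSylow T hTc).ker
      have hcompl := MonoidHom.ker_transferSylow_isComplement' T hTc
      have hNc : (Nat.card N).Coprime p := by
        have h := hcompl.card_mul
        have h2 : N.index = Nat.card (T : Subgroup ↥C) := hcompl.symm.index_eq_card
        refine Nat.Coprime.symm ((Fact.out : p.Prime).coprime_iff_not_dvd.2 ?_)
        intro hd
        have h3 := T.not_dvd_index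
        rw [hcompl.index_eq_card] at h3
        exact h3 hd
      have hsup : N ⊔ (T : Subgroup ↥C) = ⊤ := hcompl.sup_eq_top
      intro x hx
      have hx' : (⟨x, hx⟩ : ↥C) ∈ N ⊔ (T : Subgroup ↥C) := hsup ▸ mem_top _
      have hle : N ⊔ (T : Subgroup ↥C) ≤ ((Q ⊓ C) ⊔ K).comap C.subtype :=
        sup_le (fun n hn => mem_sup_right ⟨n, Cfsg.Lib.Components.le_pPrimeCore hNc hn, rfl⟩)
          (fun t ht => mem_sup_left ⟨hTZ ⟨t, ht, rfl⟩, t.2⟩)
      exact hle hx'
    · rintro ⟨-, -, -, -, hsup⟩
      refine ⟨hQ, ?_⟩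
      rintro R ⟨φ, ⟨-, -, g, hg⟩, rfl⟩ x ⟨hxP, hxc⟩
      have hy : g⁻¹ * x * g ∈ C := mem_centralizer_iff.2 fun q hq => by
        have h := mem_centralizer_iff.1 hxc (φ ⟨q, hq⟩) ⟨⟨q, hq⟩, rfl⟩
        rw [hg] at h
        calc q * (g⁻¹ * x * g) = g⁻¹ * ((g * q * g⁻¹) * x) * g := by group
          _ = g⁻¹ * (x * (g * q * g⁻¹)) * g := by rw [h]
          _ = g⁻¹ * x * g * q := by group
      have hy' : g⁻¹ * x * g ∈ (((Q ⊓ C) ⊔ K : Subgroup G) : Set G) := by rw [hsup]; exact hy
      rw [coe_mul_of_left_le_normalizer_right _ _ (fun z hz => mem_normalizer_iff.2 fun k => by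
        constructor
        · intro hk
          rw [hcomm z hz k (hKC hk), mul_inv_cancel_right]; exact hk
        · intro hk
          have h := hcomm z hz _ (hKC hk)
          have e : k = z * k * z⁻¹ := by
            calc k = z⁻¹ * (z * k * z⁻¹ * z) := by group
              _ = z⁻¹ * (z * (z * k * z⁻¹)) := by rw [h]
              _ = z * k * z⁻¹ := by group
          rw [e]; exact hk)] at hy'
      obtain ⟨z, hz, k, hk, hzk⟩ := hy'
      have hk1 : k = 1 := by
        have hcz : Commute z k := hcomm z hz k (hKC hk)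
        obtain ⟨a, ha⟩ := P.2 ⟨x, hxP⟩
        obtain ⟨b, hb⟩ := hQp ⟨z, (mem_inf.1 hz).1⟩
        have ha' : x ^ p ^ a = 1 := congrArg Subtype.val ha
        have hb' : z ^ p ^ b = 1 := congrArg Subtype.val hb
        have h1 : k ^ (p ^ (a + b)) = 1 := by
          have h2 : (z * k) ^ p ^ (a + b) = 1 := by
            simp only at hzk
            rw [hzk]
            have : (g⁻¹ * x * g) ^ p ^ a = 1 := by
              have e : g⁻¹ * x * g = g⁻¹ * x * g⁻¹⁻¹ := by group
              rw [e, conj_pow, ha']; group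
            rw [pow_add, pow_mul, this, one_pow]
          rw [hcz.mul_pow, show z ^ p ^ (a + b) = 1 by rw [pow_add, mul_comm, pow_mul, hb', one_pow],
            one_mul] at h2
          exact h2
        exact orderOf_eq_one_iff.1 (Nat.eq_one_of_dvd_coprimes (hKc.pow_right (a + b))
          (orderOf_dvd_natCard K hk) (orderOf_dvd_of_pow_eq_one h1))
      have hzQ : g⁻¹ * x * g ∈ Q := by
        simp only at hzk
        rw [← hzk, hk1, mul_one]; exact (mem_inf.1 hz).1
      exact ⟨⟨_, hzQ⟩, by rw [hg]; group⟩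

end Cfsg.Agent.S2011
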