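import Cfsg.Statements.S1948
import Cfsg.Agent.S2011
import Cfsg.Agent.S0542
import Cfsg.Agent.Components.Cores
import Cfsg.Agent.Coprime.Sylow
import Cfsg.Agent.Transfer.Basic

set_option autoImplicit false
open Cfsg

namespace Cfsg.Agent.S1948

/-- Let S be a Sylow p-subgroup of the finite group G. Then G = N_G(S)·O_{p'}(G) if and only if G is p-constrained and N_G(S) controls fusion in S, in the sense that whenever a subgroup Q of S has a conjugate g Q g⁻¹ inside S, the element g is a product n c with n normalizing S and c centralizing Q. -/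
theorem result {G : Type*} [Group G] [Finite G] {p : ℕ} [Fact p.Prime] (S : Sylow p G) :
    Subgroup.normalizer ((S : Subgroup G) : Set G) ⊔ Cfsg.pPrimeCore p G = ⊤ ↔
      (Cfsg.IsPConstrained p G ∧
        ∀ Q : Subgroup G, Q ≤ (S : Subgroup G) → ∀ g : G, Q.map (MulAut.conj g).toMonoidHom ≤ (S : Subgroup G) →
          ∃ n ∈ Subgroup.normalizer ((S : Subgroup G) : Set G), ∃ c ∈ Subgroup.centralizer (Q : Set G), g = n * c) := by
  open Subgroup in
  open scoped Pointwise in
  exact by
    set O := Cfsg.pPrimeCore p G with hO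
    set M := Cfsg.pPrimePCore p G with hM
    set S₀ := (S : Subgroup G) with hS₀
    haveI hOn : O.Normal := Cfsg.Lib.Components.pPrimeCore_normal' p
    haveI hMn : M.Normal := (Cfsg.Lib.Components.pCore_normal' p).comap _
    set π := QuotientGroup.mk' O
    have hOc : (Nat.card O).Coprime p := Cfsg.Lib.Components.coprime_card_pPrimeCore p
    have hOS : ∀ x ∈ O, x ∈ S₀ → x = 1 := fun x hx hxS => by
      obtain ⟨k, hk⟩ := S.2 ⟨x, hxS⟩
      exact orderOf_eq_one_iff.1 (Nat.eq_one_of_dvd_coprimes (hOc.pow_right k)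
        (orderOf_dvd_natCard O hx) (orderOf_dvd_of_pow_eq_one (congrArg Subtype.val hk)))
    have hOM : O ≤ M := fun x hx => by
      show π x ∈ Cfsg.pCore p (G ⧸ O)
      rw [show π x = 1 from (QuotientGroup.eq_one_iff x).2 hx]
      exact one_mem _
    constructor
    · intro hG
      have hSM : S₀ ≤ M := by
        haveI : (S₀.map π).Normal := by
          refine ⟨fun n hn g => ?_⟩
          obtain ⟨s, hs, rfl⟩ := hn
          obtain ⟨g, rfl⟩ := QuotientGroup.mk'_surjective O g
          obtain ⟨n, hn, o, ho, rfl⟩ := mem_sup_of_normal_right.1 (hG.ge (mem_top g))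
          refine ⟨n * s * n⁻¹, (mem_normalizer_iff.1 hn s).1 hs, ?_⟩
          rw [map_mul, map_mul, map_inv, map_mul, show π o = 1 from (QuotientGroup.eq_one_iff o).2 ho, mul_one]
        exact fun x hx => Cfsg.Lib.Components.le_pCore (S.2.map π) (mem_map_of_mem π hx)
      have hcen : (Cfsg.groupFusionSystem S₀).IsCentric S₀ := by
        refine ⟨le_rfl, ?_⟩
        rintro R ⟨φ, ⟨-, hmem, g, hg⟩, rfl⟩ x ⟨hxS, -⟩
        have hle : φ.range = S₀ := eq_of_le_of_card_ge (by rintro _ ⟨y, rfl⟩; exact hmem y) (by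
          refine Nat.card_le_card_of_injective (fun y => ⟨φ y, y, rfl⟩) fun a b h => ?_
          have := congrArg Subtype.val h
          simp only [hg, mul_left_inj, mul_right_inj] at this
          exact Subtype.ext this)
        rw [hle]; exact hxS
      have hdir := (Cfsg.Agent.S2011.result p S S₀ le_rfl).1 hcen
      set C := centralizer (S₀ : Set G) with hC
      set K := (Cfsg.pPrimeCore p ↥C).map C.subtype with hK
      have hKO : K ≤ O := by
        have hKn : ∀ n ∈ normalizer (S₀ : Set G), ∀ k ∈ K, n * k * n⁻¹ ∈ K := by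
          intro n hn
          have hCn : ∀ c ∈ C, n⁻¹ * c * n ∈ C := fun c hc => mem_centralizer_iff.2 fun s hs => by
            have h := mem_centralizer_iff.1 hc _ ((mem_normalizer_iff.1 hn s).1 hs)
            calc s * (n⁻¹ * c * n) = n⁻¹ * ((n * s * n⁻¹) * c) * n := by group
              _ = n⁻¹ * (c * (n * s * n⁻¹)) * n := by rw [h]
              _ = n⁻¹ * c * n * s := by group
          have hCn' : ∀ c ∈ C, n * c * n⁻¹ ∈ C := fun c hc => mem_centralizer_iff.2 fun s hs => by
            have h := mem_centralizer_iff.1 hc _ ((mem_normalizer_iff''.1 hn s).1 hs)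
            calc s * (n * c * n⁻¹) = n * ((n⁻¹ * s * n) * c) * n⁻¹ := by group
              _ = n * (c * (n⁻¹ * s * n)) * n⁻¹ := by rw [h]
              _ = n * c * n⁻¹ * s := by group
          set K' := (K.map (MulAut.conj n).toMonoidHom).subgroupOf C with hK'
          haveI : K'.Normal := ⟨fun a ha c => by
            obtain ⟨_, ⟨k, hk, rfl⟩, hka⟩ := ha
            refine ⟨n⁻¹ * (c : G) * n * (k : G) * (n⁻¹ * (c : G) * n)⁻¹,
              ⟨(⟨_, hCn c c.2⟩ : C) * k * (⟨_, hCn c c.2⟩ : C)⁻¹, Normal.conj_mem inferInstance k hk _, rfl⟩, ?_⟩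
            show n * (n⁻¹ * (c : G) * n * (k : G) * (n⁻¹ * (c : G) * n)⁻¹) * n⁻¹ = (c : G) * a * (c : G)⁻¹
            rw [show (a : G) = n * k * n⁻¹ from hka.symm]
            group⟩
          have hle : K.map (MulAut.conj n).toMonoidHom ≤ C := by
            rintro _ ⟨k, hk, rfl⟩
            exact hCn' k (map_subtype_le _ hk)
          have hco : (Nat.card K').Coprime p := by
            rw [Nat.card_congr (subgroupOfEquivOfLe hle).toEquiv, card_map_of_injective (MulEquiv.injective _),
              hK, card_map_of_injective C.subtype_injective]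
            exact Cfsg.Lib.Components.coprime_card_pPrimeCore p
          intro k hk
          exact ⟨⟨_, hCn' k (map_subtype_le _ hk)⟩,
            Cfsg.Lib.Components.le_pPrimeCore hco (show (⟨_, hCn' k (map_subtype_le _ hk)⟩ : C) ∈ K' from ⟨k, hk, rfl⟩), rfl⟩
        have hKo : normalizer (S₀ : Set G) ≤ normalizer (((O ⊔ K) : Subgroup G) : Set G) := by
          intro n hn
          refine mem_normalizer_iff_map_conj_eq.2 (eq_of_le_of_card_ge ?_ (card_map_of_injective (MulEquiv.injective _)).ge)
          rw [Subgroup.map_sup]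
          refine sup_le_sup ?_ ?_
          · rintro _ ⟨o, ho, rfl⟩; exact hOn.conj_mem o ho n
          · rintro _ ⟨k, hk, rfl⟩; exact hKn n hn k hk
        haveI : (O ⊔ K).Normal := normalizer_eq_top_iff.1 (top_le_iff.1
          (hG ▸ sup_le hKo (le_sup_left.trans le_normalizer)))
        refine (le_sup_right : K ≤ O ⊔ K).trans (Cfsg.Lib.Components.le_pPrimeCore ?_)
        refine Nat.Coprime.coprime_dvd_left (Cfsg.Lib.Components.card_sup_dvd_mul O K) (hOc.mul_left ?_)
        rw [hK, card_map_of_injective C.subtype_injective]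
        exact Cfsg.Lib.Components.coprime_card_pPrimeCore p
      have hCM : C ≤ M := hdir.2.2.2.2 ▸ sup_le (inf_le_left.trans hSM) (hKO.trans hOM)
      refine ⟨fun P => ?_, fun Q hQ g hg => ?_⟩
      · let T : Sylow p M := S.subtype hSM
        obtain ⟨m, hm⟩ := MulAction.exists_smul_eq M T P
        have hP : (P : Subgroup M).map M.subtype = Cfsg.Lib.Coprime.conjMap (m : G) S₀ := by
          rw [← hm, Cfsg.Lib.Coprime.map_subtype_smul, Sylow.coe_subtype, map_subgroupOf_eq_of_le hSM]
        intro c hc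
        have hc' : (m : G)⁻¹ * c * m ∈ C := mem_centralizer_iff.2 fun s hs => by
          have h := mem_centralizer_iff.1 hc ((m : G) * s * (m : G)⁻¹) (hP ▸ ⟨s, hs, rfl⟩)
          calc s * ((m : G)⁻¹ * c * m) = (m : G)⁻¹ * (((m : G) * s * (m : G)⁻¹) * c) * m := by group
            _ = (m : G)⁻¹ * (c * ((m : G) * s * (m : G)⁻¹)) * m := by rw [h]
            _ = (m : G)⁻¹ * c * m * s := by group
        have := hMn.conj_mem _ (hCM hc') m
        rwa [show (m : G) * ((m : G)⁻¹ * c * m) * (m : G)⁻¹ = c by group] at this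
      · obtain ⟨n, hn, o, ho, rfl⟩ := mem_sup_of_normal_right.1 (hG.ge (mem_top g))
        refine ⟨n, hn, o, mem_centralizer_iff.2 fun q hq => ?_, rfl⟩
        have h1 : o * q * o⁻¹ ∈ S₀ := by
          have h2 : n * o * q * (n * o)⁻¹ ∈ S₀ := hg ⟨q, hq, rfl⟩
          have h3 := (mem_normalizer_iff''.1 hn _).1 h2
          rwa [show n⁻¹ * (n * o * q * (n * o)⁻¹) * n = o * q * o⁻¹ by group] at h3
        have h4 : o * q * o⁻¹ * q⁻¹ = 1 := hOS _
          (by rw [show o * q * o⁻¹ * q⁻¹ = o * (q * o⁻¹ * q⁻¹) by group]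
              exact O.mul_mem ho (hOn.conj_mem _ (O.inv_mem ho) q))
          (S₀.mul_mem h1 (S₀.inv_mem (hQ hq)))
        exact (mul_inv_eq_iff_eq_mul.1 (mul_inv_eq_one.1 h4)).symm
    · rintro ⟨hpc, hfus⟩
      obtain ⟨R, hR⟩ := Cfsg.Agent.S0542.result p M hMn.isSubnormal S
      set R₀ := (R : Subgroup M).map M.subtype with hR₀
      have hR₀S : R₀ ≤ S₀ := by rw [hR₀, hR, subgroupOf_map_subtype]; exact inf_le_left
      have hMle : M ≤ R₀ ⊔ O := by
        rw [← relIndex_eq_one]
        have hdR : (R₀ ⊔ O).relIndex M ∣ (R : Subgroup M).index := by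
          show ((R₀ ⊔ O).subgroupOf M).index ∣ _
          exact index_dvd_of_le fun m hm => mem_sup_left ⟨m, hm, rfl⟩
        have hdO : ∃ k, (R₀ ⊔ O).relIndex M ∣ p ^ k := by
          have hMp : IsPGroup p (M.map π) := (Cfsg.Lib.Components.isPGroup_pCore (G := G ⧸ O) p).to_le
            (map_le_iff_le_comap.2 le_rfl)
          obtain ⟨k, hk⟩ := IsPGroup.iff_card.1 hMp
          refine ⟨k, dvd_trans (relIndex_dvd_of_le_left M le_sup_right) ?_⟩
          have h : ((⊥ : Subgroup (G ⧸ O)).comap π).relIndex M = (⊥ : Subgroup (G ⧸ O)).relIndex (M.map π) :=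
            relIndex_comap _ _ _
          rw [MonoidHom.comap_bot, QuotientGroup.ker_mk', relIndex_bot_left, hk] at h
          exact dvd_of_eq h
        obtain ⟨k, hk⟩ := hdO
        exact Nat.eq_one_of_dvd_coprimes (((Fact.out : p.Prime).coprime_iff_not_dvd.2 R.not_dvd_index).pow_left k) hk hdR
      have hN : normalizer (R₀ : Set G) ≤ normalizer (S₀ : Set G) ⊔ M := by
        intro g hg
        obtain ⟨n, hn, c, hc, rfl⟩ := hfus R₀ hR₀S g (by
          rintro _ ⟨r, hr, rfl⟩
          exact hR₀S ((mem_normalizer_iff.1 hg r).1 hr))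
        exact mul_mem_sup hn (hpc R hc)
      rw [eq_top_iff, ← Sylow.normalizer_sup_eq_top R]
      have hM2 : M ≤ normalizer (S₀ : Set G) ⊔ O :=
        hMle.trans (sup_le ((hR₀S.trans le_normalizer).trans le_sup_left) le_sup_right)
      exact sup_le (hN.trans (sup_le le_sup_left hM2)) hM2

end Cfsg.Agent.S1948
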