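import Cfsg.Statements.S1953
import Cfsg.Agent.LocalEven.LeastCentricRadical

set_option autoImplicit false
open Cfsg

namespace Cfsg.Agent.S1953

/-- Let p be an odd prime and P a Sylow p-subgroup of the finite group G, and suppose that for no p-subgroup Q of G does N_G(Q)/C_G(Q) have a section isomorphic to SL₂(p). Call a subgroup Q of P centric-radical when Z(Q) is a Sylow p-subgroup of C_G(Q) and the only normal subgroup X of N_G(Q) containing Q·C_G(Q) such that the index of Q·C_G(Q) in X is a power of p is Q·C_G(Q) itself (that is, N_G(Q)/Q·C_G(Q) has no nontrivial normal p-subgroup). Then there is a centric-radical subgroup Q of P contained in every centric-radical subgroup of P; it is normal in P, and N_G(Q) controls strong fusion in P: whenever a subgroup A of P has g A g⁻¹ ≤ P, the element g is a product h c with h in N_G(Q) and c centralizing A. -/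
theorem result {G : Type*} [Group G] [Finite G] {p : ℕ} [Fact p.Prime] (hp : p ≠ 2) (P : Sylow p G)
    (hfree : ∀ Q : Subgroup G, IsPGroup p ↥Q → ¬ ∃ (H K : Subgroup G) (_ : (K.subgroupOf H).Normal),
      Subgroup.centralizer (Q : Set G) ≤ K ∧ K ≤ H ∧ H ≤ Subgroup.normalizer (Q : Set G) ∧
      Nonempty ((↥H ⧸ K.subgroupOf H) ≃* Matrix.SpecialLinearGroup (Fin 2) (ZMod p)))
    (cr : Subgroup G → Prop)
    (hcr : ∀ Q : Subgroup G, cr Q ↔ (Q ≤ (P : Subgroup G) ∧
      (∃ R : Sylow p ↥(Subgroup.centralizer (Q : Set G)),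
        (R : Subgroup ↥(Subgroup.centralizer (Q : Set G))).map (Subgroup.centralizer (Q : Set G)).subtype = Q ⊓ Subgroup.centralizer (Q : Set G)) ∧
      ∀ X : Subgroup G, X ≤ Subgroup.normalizer (Q : Set G) →
        (∀ n ∈ Subgroup.normalizer (Q : Set G), X.map (MulAut.conj n).toMonoidHom = X) →
        Q ⊔ Subgroup.centralizer (Q : Set G) ≤ X → (∃ k : ℕ, (Q ⊔ Subgroup.centralizer (Q : Set G)).relIndex X = p ^ k) →
        X = Q ⊔ Subgroup.centralizer (Q : Set G))) :
    ∃ Q : Subgroup G, cr Q ∧ (∀ R : Subgroup G, cr R → Q ≤ R) ∧ (∀ x ∈ (P : Subgroup G), Q.map (MulAut.conj x).toMonoidHom = Q) ∧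
      ∀ A : Subgroup G, A ≤ (P : Subgroup G) → ∀ g : G, A.map (MulAut.conj g).toMonoidHom ≤ (P : Subgroup G) →
        ∃ h ∈ Subgroup.normalizer (Q : Set G), ∃ c ∈ Subgroup.centralizer (A : Set G), g = h * c := by
  obtain ⟨Q, hQ, hmax⟩ := Cfsg.Lib.LeastCR.exists_maximal_ctl P
  have hqd := Cfsg.Lib.LeastCR.qd_free_of_automizers hfree
  have hcent := Cfsg.Lib.LeastCR.centric_of_maximal hp hqd P hQ hmax
  refine ⟨Q, (hcr Q).mpr ⟨hQ.1, ?_, fun X hXN hXn hQX hk => ?_⟩, fun R hR => ?_,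
    fun x hx => Cfsg.Lib.Transfer.map_conj_eq_self_iff.mpr (hQ.2.1 hx), fun A hA g hg => ?_⟩
  · have h := Cfsg.Lib.LeastCR.not_dvd_relIndex_inf P hQ.2.1
      (Subgroup.centralizer_le_normalizer (Q : Set G))
      (Cfsg.Lib.Thompson.normalizer_le_normalizer_centralizer Q)
    have he : (P : Subgroup G) ⊓ Subgroup.centralizer (Q : Set G) = Q ⊓ Subgroup.centralizer (Q : Set G) :=
      le_antisymm (le_inf hcent inf_le_right) (inf_le_inf_right _ hQ.1)
    rw [he] at h
    exact ⟨(((P.isPGroup'.to_le hQ.1).to_le inf_le_left).comap_subtype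
      (K := Subgroup.centralizer (Q : Set G))).toSylow h,
      Subgroup.map_subgroupOf_eq_of_le inf_le_right⟩
  · exact Cfsg.Lib.LeastCR.radical_of_maximal P hQ hmax hcent X hXN
      (fun n hn => Cfsg.Lib.Transfer.map_conj_eq_self_iff.mp (hXn n hn)) hQX hk
  · obtain ⟨hRP, hsyl, hrad⟩ := (hcr R).mp hR
    exact Cfsg.Lib.LeastCR.le_of_centricRadical P hQ hRP hsyl hrad
  · obtain ⟨h, hh, he⟩ := hQ.2.2 (A : Set G) hA g fun a ha => hg ⟨a, ha, rfl⟩
    refine ⟨h, hh, h⁻¹ * g, Subgroup.mem_centralizer_iff.mpr fun a ha => ?_, by group⟩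
    calc a * (h⁻¹ * g) = h⁻¹ * (h * a * h⁻¹) * g := by group
      _ = h⁻¹ * (g * a * g⁻¹) * g := by rw [he a ha]
      _ = h⁻¹ * g * a := by group

end Cfsg.Agent.S1953
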