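import Cfsg.Statements.S1956
import Cfsg.Agent.Transfer.Basic

set_option autoImplicit false
open Cfsg

namespace Cfsg.Agent.S1956

/-- Let P be a Sylow p-subgroup of the finite group G such that every element of P of order dividing p (dividing 4 when p = 2) is central in P. Then the fusion of these elements is controlled by N_G(P): if such an element a of P has g a g⁻¹ in P, then g = n c with n normalizing P and c commuting with a. -/
theorem result {G : Type*} [Group G] [Finite G] {p : ℕ} [Fact p.Prime] (P : Sylow p G)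
    (hcen : ∀ a ∈ (P : Subgroup G), (a ^ p = 1 ∨ (p = 2 ∧ a ^ 4 = 1)) → ∀ y ∈ (P : Subgroup G), a * y = y * a) :
    ∀ a ∈ (P : Subgroup G), (a ^ p = 1 ∨ (p = 2 ∧ a ^ 4 = 1)) → ∀ g : G, g * a * g⁻¹ ∈ (P : Subgroup G) →
      ∃ n ∈ Subgroup.normalizer ((P : Subgroup G) : Set G), ∃ c : G, c * a = a * c ∧ g = n * c := by
  intro a ha hcond g hg
  have hcond' : (g * a * g⁻¹) ^ p = 1 ∨ (p = 2 ∧ (g * a * g⁻¹) ^ 4 = 1) := by
    rcases hcond with h | ⟨h2, h⟩
    · left; rw [conj_pow, h, mul_one, mul_inv_cancel]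
    · right; exact ⟨h2, by rw [conj_pow, h, mul_one, mul_inv_cancel]⟩
  set C := Subgroup.centralizer ({a} : Set G) with hC
  have hPC : (P : Subgroup G) ≤ C := fun y hy =>
    Subgroup.mem_centralizer_singleton_iff.2 (hcen a ha hcond y hy).symm
  have hPgC : ((g⁻¹ • P : Sylow p G) : Subgroup G) ≤ C := by
    rintro _ ⟨y, hy, rfl⟩
    refine Subgroup.mem_centralizer_singleton_iff.2 ?_
    show g⁻¹ * y * g⁻¹⁻¹ * a = a * (g⁻¹ * y * g⁻¹⁻¹)
    rw [inv_inv]
    calc g⁻¹ * y * g * a = g⁻¹ * (y * (g * a * g⁻¹)) * g := by simp [mul_assoc]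
      _ = g⁻¹ * ((g * a * g⁻¹) * y) * g := by rw [hcen _ hg hcond' y hy]
      _ = a * (g⁻¹ * y * g) := by simp [mul_assoc]
  obtain ⟨c, hc⟩ := MulAction.exists_smul_eq C ((g⁻¹ • P).subtype hPgC) (P.subtype hPC)
  refine ⟨g * (c : G)⁻¹, ?_, (c : G), Subgroup.mem_centralizer_singleton_iff.1 c.2, by simp⟩
  have h1 : ((c : G) * g⁻¹) • P = P := by
    refine Sylow.ext ?_
    have h2 := congrArg (fun S : Sylow p C => (S : Subgroup C).map C.subtype) hc
    simp only [Sylow.coe_subtype, Subgroup.map_subgroupOf_eq_of_le hPC] at h2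
    refine Eq.trans ?_ h2
    rw [mul_smul]
    ext y
    constructor
    · rintro ⟨z, hz, rfl⟩
      exact ⟨_, ⟨⟨z, hPgC hz⟩, hz, rfl⟩, rfl⟩
    · rintro ⟨_, ⟨z, hz, rfl⟩, rfl⟩
      exact ⟨z, hz, rfl⟩
  have h3 := inv_mem (Sylow.smul_eq_iff_mem_normalizer.1 h1)
  rwa [mul_inv_rev, inv_inv] at h3

end Cfsg.Agent.S1956
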