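import Cfsg.Statements.S1957
import Cfsg.Agent.Components.Misc.CharTwoFourGroup
import Cfsg.Agent.S1324

set_option autoImplicit false
set_option linter.style.haveILetI false
open Cfsg

namespace Cfsg.Agent.S1957

/-- Let `G` be a finite non-abelian simple group in which every local subgroup is solvable and which is of characteristic 2 type. Let `P` be a Sylow 2-subgroup of `G` and `U` a normal subgroup of `P` that is a four-group, with `U` central in `P` if the centre of `P` is not cyclic. Then `U` centralizes every subgroup of odd order of `G` that it normalizes. -/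
theorem result {G : Type*} [Group G] [Finite G]
    [IsSimpleGroup G] (hna : ¬ IsMulCommutative G) (hN : Cfsg.IsNGroup G) (h2 : Cfsg.IsCharacteristicTwoType G)
    (P : Sylow 2 G) (U : Subgroup G) (hUP : U ≤ (P : Subgroup G)) (hUn : (P : Subgroup G) ≤ Subgroup.normalizer (U : Set G))
    (hU4 : IsKleinFour ↥U)
    (hUZ : ¬ IsCyclic ↥((P : Subgroup G) ⊓ Subgroup.centralizer ((P : Subgroup G) : Set G)) →
      U ≤ Subgroup.centralizer ((P : Subgroup G) : Set G))
    (K : Subgroup G) (hK : Odd (Nat.card K)) (hUK : U ≤ Subgroup.normalizer (K : Set G)) :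
    U ≤ Subgroup.centralizer (K : Set G) := by
  classical
  haveI : Fact (Nat.Prime 2) := ⟨Nat.prime_two⟩
  haveI := hU4
  have h4 : Nat.card U = 4 := IsKleinFour.card_four
  have hsq : ∀ x ∈ U, x * x = 1 := fun x hx =>
    congrArg Subtype.val (IsKleinFour.mul_self (⟨x, hx⟩ : U))
  have hinv : ∀ x ∈ U, x⁻¹ = x := fun x hx => inv_eq_of_mul_eq_one_right (hsq x hx)
  have hcomm : ∀ a ∈ U, ∀ b ∈ U, a * b = b * a := fun a ha b hb => by
    rw [← hinv _ (mul_mem ha hb), mul_inv_rev, hinv a ha, hinv b hb]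
  have hEA : Cfsg.IsElementaryAbelian 2 U :=
    ⟨⟨⟨fun a b => Subtype.ext (hcomm _ a.2 _ b.2)⟩⟩, fun x hx => by rw [pow_two, hsq x hx]⟩
  have hgen := Cfsg.Agent.S1324.result 2 U K hEA h4.ge (fun h => by
    exact (Nat.not_even_iff_odd.mpr hK) (even_iff_two_dvd.mpr h)) hUK
  suffices hK' : K ≤ Subgroup.centralizer (U : Set G) by
    exact Subgroup.le_centralizer_iff.mp hK'
  rw [hgen]
  refine iSup_le fun B => ?_
  obtain ⟨B, hBU, hBi⟩ := B
  have hB1 : B ≠ ⊥ := fun h => by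
    rw [h, Subgroup.relIndex_bot_left, h4] at hBi
    omega
  obtain ⟨⟨u, huB⟩, hu1⟩ := Subgroup.ne_bot_iff_exists_ne_one.mp hB1
  have hu1' : u ≠ 1 := fun h => hu1 (Subtype.ext h)
  rintro y ⟨hyK, hyB⟩
  have hyu : y ∈ Subgroup.centralizer ({u} : Set G) :=
    Subgroup.mem_centralizer_singleton_iff.mpr (Subgroup.mem_centralizer_iff.mp hyB u huB).symm
  have hUQ := Cfsg.Lib.CharTwoFour.le_qcore_centralizer h2 P U hUP hUn h4 hsq hUZ (hBU huB) hu1'
  refine Subgroup.mem_centralizer_iff.mpr fun w hw => ?_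
  have hQ : y * w * y⁻¹ * w⁻¹ ∈ Cfsg.Lib.Sft.qcore 2 (Subgroup.centralizer ({u} : Set G)) :=
    mul_mem ((Subgroup.mem_normalizer_iff.mp (Cfsg.Lib.Sft.le_normalizer_qcore (Subgroup.le_normalizer hyu)) w).mp
      (hUQ hw)) (inv_mem (hUQ hw))
  have hKm : y * w * y⁻¹ * w⁻¹ ∈ K := by
    have h' := (Subgroup.mem_normalizer_iff.mp (hUK hw) y⁻¹).mp (inv_mem hyK)
    have := mul_mem hyK h'
    rwa [show y * (w * y⁻¹ * w⁻¹) = y * w * y⁻¹ * w⁻¹ by group] at this
  have h1 : y * w * y⁻¹ * w⁻¹ = 1 := by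
    obtain ⟨k, hk⟩ := (IsPGroup.iff_orderOf.mp (Cfsg.Lib.Sft.isPGroup_qcore (q := 2))) ⟨_, hQ⟩
    rw [Subgroup.orderOf_mk] at hk
    have hd : orderOf (y * w * y⁻¹ * w⁻¹) ∣ Nat.card K := Subgroup.orderOf_dvd_natCard K hKm
    rw [← orderOf_eq_one_iff]
    refine Nat.eq_one_of_dvd_coprimes ?_ hk.dvd hd
    exact Nat.Coprime.pow_left k ((Nat.Prime.coprime_iff_not_dvd Nat.prime_two).mpr
      fun h => (Nat.not_even_iff_odd.mpr hK) (even_iff_two_dvd.mpr h))
  rw [mul_inv_eq_one, mul_inv_eq_iff_eq_mul] at h1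
  exact h1.symm

end Cfsg.Agent.S1957
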