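import Cfsg.Statements.S1966
import Cfsg.Agent.Components.Control.Functors
import Cfsg.Agent.Coprime.Fitting

set_option autoImplicit false
open Cfsg

namespace Cfsg.Agent.S1966

/-- Let p be a prime, G a finite group with Sylow p-subgroup S and 𝓕 a conjugation family for S in G. Then the members of 𝓕 containing O_p(G) still form a conjugation family for S in G. -/
theorem result {G : Type*} [Group G] [Finite G] {p : ℕ} [Fact p.Prime] (S : Sylow p G) (𝓕 : Set (Subgroup G)) (h : Cfsg.IsConjugationFamily 𝓕 (S : Subgroup G)) : Cfsg.IsConjugationFamily {T : Subgroup G | T ∈ 𝓕 ∧ Cfsg.pCore p G ≤ T} (S : Subgroup G) := by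
    refine ⟨fun T hT => h.1 T hT.1, fun A g _ hA hgA => ?_⟩
    set O := Cfsg.pCore p G with hO
    have hOS : O ≤ (S : Subgroup G) := Cfsg.Lib.Coprime.pCore_le_sylow p S
    have hOn : O.Normal := by rw [hO]; infer_instance
    have hmem : ∀ (c a : G), a ∈ O → c⁻¹ * a * c ∈ O := fun c a ha => by
      simpa using hOn.conj_mem a ha c⁻¹
    obtain ⟨n, T, x, hx, hT, hxN, h0, hi⟩ := h.2 (A ∪ O) g ⟨1, Or.inr O.one_mem⟩
      (Set.union_subset hA hOS)
      (by
        rintro _ ⟨a, ha, rfl⟩
        rcases ha with ha | ha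
        · exact hgA ⟨a, ha, rfl⟩
        · exact hOS (hmem g a ha))
    refine ⟨n, T, x, hx, fun i => ⟨hT i, fun a ha => ?_⟩, hxN,
      fun h' a ha => h0 h' (Or.inl ha), fun i h' => ?_⟩
    · obtain ⟨j, hj⟩ := i
      cases j with
      | zero => exact h0 hj (Or.inr ha)
      | succ j =>
        have := hi ⟨j, by omega⟩ hj
        set c := ((List.ofFn x).take (j + 1)).prod
        have h2 := this ⟨c * a * c⁻¹, Or.inr (hOn.conj_mem a ha c), rfl⟩
        simpa [c, mul_assoc] using h2
    · exact Set.Subset.trans (Set.image_mono Set.subset_union_left) (hi i h')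

end Cfsg.Agent.S1966
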