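import Cfsg.Statements.S1967
import Cfsg.Agent.Components.Control.Functors

set_option autoImplicit false
open Cfsg

namespace Cfsg.Agent.S1967

/-- Let p be a prime, G a finite group with Sylow p-subgroup S and W a conjugacy functor for p on G. Then W controls strong fusion in G if and only if, whenever T ≤ S and g ∈ G satisfy gTg⁻¹ ≤ S, one can write g = n c with n ∈ N_G(W(S)) and c ∈ C_G(T). -/
theorem result {G : Type*} [Group G] [Finite G] {p : ℕ} [Fact p.Prime] (S : Sylow p G) (W : Subgroup G → Subgroup G) (hW : Cfsg.IsConjugacyFunctor p W) : Cfsg.ControlsStrongFusionIn p W ⊤ ↔ ∀ (T : Subgroup G) (g : G), T ≤ (S : Subgroup G) → T.map (MulAut.conj g).toMonoidHom ≤ (S : Subgroup G) → ∃ n ∈ Subgroup.normalizer ((W (S : Subgroup G) : Subgroup G) : Set G), ∃ c ∈ Subgroup.centralizer (T : Set G), g = n * c := by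
    constructor
    · intro h T g hT hg
      obtain ⟨c, hc, hcg⟩ := Cfsg.Lib.Control.agree_of_familyControls (p := p) (𝓦 := {W})
        (fun W' hW' => (Set.mem_singleton_iff.mp hW') ▸ hW) le_top S.2
        (by rw [Subgroup.relIndex_top_right]; exact S.not_dvd_index)
        (Cfsg.Lib.Control.family_of_controls h) (T : Set G) g (Subgroup.mem_top g) hT
        (by rw [Cfsg.Lib.Control.img_eq_map]; exact hg)
      refine ⟨c, (Cfsg.Lib.Control.chain_singleton hc).2, c⁻¹ * g,
        Subgroup.mem_centralizer_iff.mpr fun a ha => ?_, by group⟩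
      have h2 := congrArg (fun z => c⁻¹ * z * g) (hcg a ha)
      simpa [mul_assoc] using h2
    · intro h
      refine ⟨(S : Subgroup G), le_top, S.2, by rw [Subgroup.relIndex_top_right]; exact S.not_dvd_index,
        fun A g _ hA hgA => ?_⟩
      obtain ⟨n, hn, c, hc, rfl⟩ := h (Subgroup.closure A) g ((Subgroup.closure_le _).mpr hA)
        (by rw [← Cfsg.Lib.Control.closure_img]; exact (Subgroup.closure_le _).mpr hgA)
      refine ⟨n, ⟨Subgroup.mem_top n, hn⟩, fun a ha => ?_⟩
      have h3 := Subgroup.mem_centralizer_iff.mp hc a (Subgroup.subset_closure ha)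
      calc n * a * n⁻¹ = n * (a * c) * c⁻¹ * n⁻¹ := by group
        _ = n * (c * a) * c⁻¹ * n⁻¹ := by rw [h3]
        _ = _ := by group

end Cfsg.Agent.S1967
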