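import Cfsg.Statements.S1968
import Cfsg.Agent.Components.Control.Functors

set_option autoImplicit false
open Cfsg

namespace Cfsg.Agent.S1968

/-- Let p be a prime, G a finite group with Sylow p-subgroup S and W a conjugacy functor for p on G with Z(P) ≤ W(P) for every p-subgroup P. Let A be a subgroup of Z(S) normalized by N_G(W(S)) that is not weakly closed in S with respect to G. Then there is a subgroup T of S, well placed in S with respect to W, such that: A ≤ T; N_G(W(N_S(T))) normalizes A; N_S(T) is a Sylow p-subgroup of N_G(T); A ≤ Z(N_S(T)); and A is not weakly closed in N_S(T) with respect to N_G(T), that is, some N_G(T)-conjugate of A other than A lies in N_S(T). -/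
theorem result {G : Type*} [Group G] [Finite G] {p : ℕ} [Fact p.Prime] (S : Sylow p G) (W : Subgroup G → Subgroup G) (hW : Cfsg.IsConjugacyFunctor p W) (hWZ : ∀ P : Subgroup G, IsPGroup p ↥P → P ⊓ Subgroup.centralizer (P : Set G) ≤ W P) (A : Subgroup G) (hAZ : A ≤ (S : Subgroup G) ⊓ Subgroup.centralizer ((S : Subgroup G) : Set G)) (hAN : Subgroup.normalizer ((W (S : Subgroup G) : Subgroup G) : Set G) ≤ Subgroup.normalizer ((A : Subgroup G) : Set G)) (hnwc : ¬ Cfsg.IsWeaklyClosed A (S : Subgroup G)) : ∃ T : Subgroup G, Cfsg.IsWellPlaced p W (S : Subgroup G) T ∧ A ≤ T ∧ Subgroup.normalizer ((W ((S : Subgroup G) ⊓ Subgroup.normalizer ((T : Subgroup G) : Set G)) : Subgroup G) : Set G) ≤ Subgroup.normalizer ((A : Subgroup G) : Set G) ∧ ¬ p ∣ ((S : Subgroup G) ⊓ Subgroup.normalizer ((T : Subgroup G) : Set G)).relIndex (Subgroup.normalizer ((T : Subgroup G) : Set G)) ∧ A ≤ Subgroup.centralizer (((S : Subgroup G) ⊓ Subgroup.normalizer ((T : Subgroup G) : Set G) : Subgroup G) :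 Set G) ∧ ∃ g ∈ Subgroup.normalizer ((T : Subgroup G) : Set G), A.map (MulAut.conj g).toMonoidHom ≤ (S : Subgroup G) ⊓ Subgroup.normalizer ((T : Subgroup G) : Set G) ∧ A.map (MulAut.conj g).toMonoidHom ≠ A := by
  classical
  set Bad := {U : Subgroup G | Cfsg.IsWellPlaced p W (S : Subgroup G) U ∧ A ≤ U ∧
    ¬ Subgroup.normalizer (U : Set G) ≤ Subgroup.normalizer (A : Set G)}
  have hAS : A ≤ (S : Subgroup G) := hAZ.trans inf_le_left
  have hex : Bad.Nonempty := by
    by_contra hno
    refine hnwc ⟨hAS, fun g hg => Cfsg.Lib.Transfer.map_conj_eq_self_iff.mpr ?_⟩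
    have hc := Cfsg.Lib.Control.chain_of_good S {U | Cfsg.IsWellPlaced p W (S : Subgroup G) U} (fun U hU => hU.1)
      (fun X hX => by
        obtain ⟨g', hg'⟩ := Cfsg.Lib.Control.exists_wellPlaced W hW S hX
        exact ⟨_, hg', ⟨g', rfl⟩, hg'.2 0⟩)
      (A : Set G) g hAS (by rw [Cfsg.Lib.Control.img_eq_map]; exact hg)
    clear hg
    induction hc with
    | one => exact one_mem _
    | @mul x c _ hst ih =>
      obtain ⟨U, hU, hAU, hx⟩ := hst
      rw [Cfsg.Lib.Control.img_eq_map, Cfsg.Lib.Transfer.map_conj_eq_self_iff.mpr ih] at hAU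
      refine mul_mem ?_ ih
      by_contra hxA
      exact hno ⟨U, hU, hAU, fun h => hxA (h hx)⟩
  obtain ⟨U, ⟨hU, hAU, hUbad⟩, hmax⟩ := Set.exists_max_image Bad
    (fun U => Nat.card ((S : Subgroup G) ⊓ Subgroup.normalizer (U : Set G) : Subgroup G)) (Set.toFinite _) hex
  set R := (S : Subgroup G) ⊓ Subgroup.normalizer (U : Set G)
  have hUR : U ≤ R := le_inf hU.1 Subgroup.le_normalizer
  have hAR : A ≤ Subgroup.centralizer (R : Set G) :=
    (hAZ.trans inf_le_right).trans (Subgroup.centralizer_le inf_le_left)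
  refine ⟨U, hU, hAU, ?_, hU.2 0, hAR, ?_⟩
  · by_cases hRS : R = (S : Subgroup G)
    · rw [show (S : Subgroup G) ⊓ Subgroup.normalizer (U : Set G) = S from hRS]; exact hAN
    have hlt : R < (S : Subgroup G) := lt_of_le_of_ne inf_le_left hRS
    have hRp : IsPGroup p R := S.2.to_le inf_le_left
    obtain ⟨hWle, -, hWc⟩ := hW R hRp
    have htail : ∀ i, Cfsg.functorTower W (S : Subgroup G) (W R) i = Cfsg.functorTower W (S : Subgroup G) U (i + 1) := by
      intro i
      induction i with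
      | zero => rfl
      | succ i ih =>
        show W ((S : Subgroup G) ⊓ Subgroup.normalizer (Cfsg.functorTower W (S : Subgroup G) (W R) i : Set G)) = _
        rw [ih]; rfl
    by_contra hbad
    have hVbad : W R ∈ Bad := ⟨⟨hWle.trans inf_le_left, fun i => by rw [htail i]; exact hU.2 (i + 1)⟩,
      fun a ha => hWZ R hRp ⟨hUR (hAU ha), hAR ha⟩, hbad⟩
    have h1 : (S : Subgroup G) ⊓ Subgroup.normalizer (R : Set G) ≤ (S : Subgroup G) ⊓ Subgroup.normalizer (W R : Set G) :=
      fun u hu => ⟨hu.1, by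
        show u ∈ Subgroup.normalizer ((W R : Subgroup G) : Set G)
        rw [← Cfsg.Lib.Transfer.map_conj_eq_self_iff, ← hWc u, Cfsg.Lib.Transfer.map_conj_eq_self_iff.mpr hu.2]⟩
    exact absurd (hmax _ hVbad) (not_le.mpr
      (lt_of_lt_of_le (Cfsg.Lib.Control.card_lt_normalizer S.2 hlt) (Subgroup.card_le_of_le h1)))
  · obtain ⟨g, hgU, hgA⟩ := SetLike.not_le_iff_exists.mp hUbad
    refine ⟨g, hgU, ?_, fun h => hgA (Cfsg.Lib.Transfer.map_conj_eq_self_iff.mp h)⟩
    rintro _ ⟨a, ha, rfl⟩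
    exact hUR ((Subgroup.mem_normalizer_iff.mp hgU a).mp (hAU ha))

end Cfsg.Agent.S1968
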