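import Cfsg.Statements.S1972
import Cfsg.Agent.Components.Functor.TransferApply

set_option autoImplicit false
universe u
open Cfsg

namespace Cfsg.Agent.S1972

/-- Let p be a prime, G a finite group and W an isomorphism-invariant p-group functor (W assigns to every group Q a subgroup W(Q), nontrivial whenever Q is a nontrivial finite p-group, and every isomorphism from a finite p-group Q onto a group R carries W(Q) onto W(R)). Suppose that whenever G* = K/R is a section of G with C_{G*}(O_p(G*)) ≤ O_p(G*) and S* is a Sylow p-subgroup of G* with W(S*) not normal in G*, there is an element g of S* outside O_p(G*) such that [X, g, …, g] ≤ Y with p − 1 entries g, for every chief factor X/Y of G* with X ≤ O_p(G*). Then W controls transfer in every section of G. -/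
theorem result {G : Type u} [Group G] [Finite G] {p : ℕ} [Fact p.Prime] (W : ∀ (Q : Type u) [Group Q], Subgroup Q) (hW : Cfsg.IsCharPFunctor.{u} p W) (hloc : ∀ (K R : Subgroup G) [hR : (R.subgroupOf K).Normal], Subgroup.centralizer ((Cfsg.pCore p (↥K ⧸ R.subgroupOf K) : Subgroup (↥K ⧸ R.subgroupOf K)) : Set (↥K ⧸ R.subgroupOf K)) ≤ Cfsg.pCore p (↥K ⧸ R.subgroupOf K) → ∀ T : Sylow p (↥K ⧸ R.subgroupOf K), ¬ (Cfsg.inducedFunctor (G := (↥K ⧸ R.subgroupOf K)) W ((T : Subgroup (↥K ⧸ R.subgroupOf K)))).Normal → ∃ g : (↥K ⧸ R.subgroupOf K), g ∈ (T : Subgroup (↥K ⧸ R.subgroupOf K)) ∧ g ∉ Cfsg.pCore p (↥K ⧸ R.subgroupOf K) ∧ ∀ U V : Subgroup (↥K ⧸ R.subgroupOf K), Cfsg.IsChiefFactor U V → U ≤ Cfsg.pCore p (↥K ⧸ R.subgroupOf K) → Cfsg.iterCommutator U (Subgroup.zpowers g) (p - 1) ≤ V) : ∀ (K R : Subgroup G) [hR : (R.subgroupOf K).Normal], Cfsg.ControlsTransferIn p (Cfsg.inducedFunctor (G := (↥K ⧸ R.subgroupOf K)) W) ⊤ := by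
  intro K R hR
  refine Cfsg.Lib.Functor.controls_of_tctrl (Cfsg.Lib.Functor.ctrlT_main (Cfsg.Lib.Functor.singleton_charP hW) _ _ rfl
    fun L _ _ hL hc hM S => Cfsg.Lib.Functor.critT_of_sections (Cfsg.Lib.Functor.singleton_charP hW)
      (fun K' R' _ hc' hM' T => ?_) L (hL.trans (Cfsg.Lib.Functor.isSection_quotient K R)) hc hM S)
  rw [Cfsg.Lib.Functor.ind_singleton]
  simp only [Cfsg.Lib.Control.tgtIn, Set.mem_singleton_iff, iSup_iSup_eq_left, top_inf_eq]
  by_cases hn : (Cfsg.inducedFunctor W (T : Subgroup (↥K' ⧸ R'.subgroupOf K'))).Normal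
  · rw [Subgroup.normalizer_eq_top_iff.mpr hn, ← _root_.commutator_def]
    exact inf_le_inf_right _ (Cfsg.Lib.Thompson.le_sylow_of_normal (Cfsg.Lib.Components.isPGroup_pCore p) T)
  obtain ⟨g, h1, h2, h3⟩ := hloc K' R' hc' T hn
  have hSN := Subgroup.le_normalizer.trans (Cfsg.Lib.Functor.normalizer_le_normalizer_induced hW T.2)
  refine Cfsg.Lib.Control.inf_commutator_le_of_degree T ?_ (fun M hMne hTM => ?_) h1 h2 h3
  · exact le_inf (Subgroup.commutator_le_self _) (Subgroup.commutator_mono hSN hSN)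
  · have h := (Cfsg.Lib.Functor.transfer_in_subgroup (Cfsg.Lib.Functor.singleton_charP hW) hTM T.2 (fun hd => T.not_dvd_index
      (hd.trans (Subgroup.relIndex_dvd_index_of_le hTM))) (hM' M hMne)).trans Cfsg.Lib.Control.tgtIn_le_top
    rw [Cfsg.Lib.Functor.ind_singleton] at h
    simpa only [Cfsg.Lib.Control.tgtIn, Set.mem_singleton_iff, iSup_iSup_eq_left, top_inf_eq] using h

end Cfsg.Agent.S1972
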