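import Cfsg.Statements.S1981
import Cfsg.Agent.Components.KInf.Basic

set_option autoImplicit false
open Cfsg

namespace Cfsg.Agent.S1981

/-- Let P be a finite p-group generated by its abelian normal subgroups. Then both K-infinity subgroups of P equal P. -/
theorem result {P : Type*} [Group P] [Finite P] {p : ℕ} [Fact p.Prime] (hP : IsPGroup p P) (hgen : ⨆ A ∈ {A : Subgroup P | A.Normal ∧ IsMulCommutative ↥A}, A = ⊤) : Cfsg.kInfLower P = ⊤ ∧ Cfsg.kInfUpper P = ⊤ := by
    refine ⟨top_le_iff.mp ?_, top_le_iff.mp ?_⟩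
    · refine hgen.ge.trans (iSup₂_le fun A hA => ?_)
      haveI := hA.1
      haveI := hA.2
      exact (Cfsg.Lib.KInf.le_even (n := 0) (Cfsg.Lib.KInf.abelian_mem_lower A _)).trans
        (le_iSup (Cfsg.kSeqEven P) 0)
    · refine hgen.ge.trans (iSup₂_le fun A hA => ?_)
      haveI := hA.1
      haveI := hA.2
      refine le_iInf fun n => ?_
      cases n with
      | zero => exact le_top
      | succ n => exact Cfsg.Lib.KInf.le_odd (Cfsg.Lib.KInf.abelian_mem_upper A _)

end Cfsg.Agent.S1981
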