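import Cfsg.Statements.S1985
import Cfsg.Agent.Components.KInf.WeakClosure

set_option autoImplicit false
universe u
open Cfsg

namespace Cfsg.Agent.S1985

/-- Let p be an odd prime and G a finite group. Then the lower K-infinity subgroup controls weak closure of elements in G: the lower K-infinity subgroup of every p-subgroup P of G contains Z(P), and for some (equivalently, every) Sylow p-subgroup S of G, with K the lower K-infinity subgroup of S, every element of S commuting with all of N_G(K) is weakly closed in S with respect to G (every G-conjugate of it lying in S equals it). -/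
theorem result {G : Type u} [Group G] [Finite G] {p : ℕ} [Fact p.Prime] (hp : p ≠ 2) : Cfsg.ControlsWeakClosureOfElementsIn p (Cfsg.inducedFunctor (G := G) Cfsg.kInfLower) ⊤ := by
  refine ⟨fun P _ => Cfsg.Lib.KInf.center_le_induced P, ((default : Sylow p G) : Subgroup G), le_top,
    (default : Sylow p G).2, by rw [Subgroup.relIndex_top_right]; exact (default : Sylow p G).not_dvd_index,
    fun x hx h hh hhx => ?_⟩
  exact Cfsg.Lib.Control.element_weaklyClosed _ Cfsg.Lib.KInf.conj_lower (fun P _ => Cfsg.Lib.KInf.center_le_induced P)
    (Cfsg.Lib.KInf.exists_small_degree hp) ⊤ _ le_top (default : Sylow p G).2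
    (by rw [Subgroup.relIndex_top_right]; exact (default : Sylow p G).not_dvd_index) hx.1 hx.2 hh hhx

end Cfsg.Agent.S1985
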