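import Cfsg.Statements.S1990
import Cfsg.Agent.Components.Functor.PCompl

set_option autoImplicit false
universe u
open Cfsg

namespace Cfsg.Agent.S1990

/-- Let p be an odd prime, G a finite group with Sylow p-subgroup S, and W an isomorphism-invariant p-group functor (W assigns to every group Q a subgroup W(Q), nontrivial whenever Q is a nontrivial finite p-group, and every isomorphism from a finite p-group Q onto a group R carries W(Q) onto W(R)). Suppose N_G(W(S)) has a normal p-complement, and W(T) controls strong fusion in every section G* = K/R of G all of whose sections are p-stable in the normalizer form, for every Sylow p-subgroup T of G*. Then G has a normal p-complement. -/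
theorem result {G : Type u} [Group G] [Finite G] {p : ℕ} [Fact p.Prime] (hp : p ≠ 2) (W : ∀ (Q : Type u) [Group Q], Subgroup Q) (hW : Cfsg.IsCharPFunctor.{u} p W) (S : Sylow p G) (hN : Cfsg.HasNormalPComplement p ↥(Subgroup.normalizer ((Cfsg.inducedFunctor (G := G) W (S : Subgroup G) : Subgroup G) : Set G))) (hctl : ∀ (K R : Subgroup G) [hR : (R.subgroupOf K).Normal], (∀ (K' R' : Subgroup (↥K ⧸ R.subgroupOf K)) [hR' : (R'.subgroupOf K').Normal], Cfsg.IsNormalizerPStable p (↥K' ⧸ R'.subgroupOf K')) → ∀ T : Sylow p (↥K ⧸ R.subgroupOf K), Cfsg.ControlsStrongFusion p (Cfsg.inducedFunctor (G := (↥K ⧸ R.subgroupOf K)) W (T : Subgroup (↥K ⧸ R.subgroupOf K)))) : Cfsg.HasNormalPComplement p G := by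
    refine Cfsg.Lib.Functor.pcompl_main hW _ G rfl (Cfsg.Lib.Functor.critical_of_sections hW
      fun K R _ hc hq T hT => ?_) S hN
    obtain ⟨T', hWT', hT'⟩ := hctl K R (fun K' R' _ => Cfsg.Lib.Degree.normalizerPStable hp
      (((Cfsg.Lib.Functor.pap_of_coatom hq T hT).of_injective K'.subtype K'.subtype_injective).of_surjective
        (QuotientGroup.mk' _) (QuotientGroup.mk'_surjective _))) T
    set X := ↥K ⧸ R.subgroupOf K
    set O := Cfsg.pCore p X
    have hOT : O ≤ (T : Subgroup X) :=
      Cfsg.Lib.Thompson.le_sylow_of_normal (Cfsg.Lib.Components.isPGroup_pCore p) T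
    have hOT' : O ≤ (T' : Subgroup X) :=
      Cfsg.Lib.Thompson.le_sylow_of_normal (Cfsg.Lib.Components.isPGroup_pCore p) T'
    have hTN : (T : Subgroup X) ≤ Subgroup.normalizer (Cfsg.inducedFunctor W (T : Subgroup X) : Set X) :=
      Subgroup.le_normalizer.trans (Cfsg.Lib.Functor.normalizer_le_normalizer_induced hW T.2)
    refine Subgroup.normalizer_eq_top_iff.mp (top_le_iff.mp fun x _ => ?_)
    obtain ⟨n, hn, hnx⟩ := (hT' (O : Set X) hOT').2 x (by
      rintro _ ⟨a, ha, rfl⟩
      exact hOT' ((inferInstance : O.Normal).conj_mem a ha x))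
    have hc' : n⁻¹ * x ∈ Subgroup.centralizer (O : Set X) := Subgroup.mem_centralizer_iff.mpr fun a ha => by
      have h2 := congrArg (fun z => n⁻¹ * z * x) (hnx a ha)
      simpa [mul_assoc] using h2.symm
    have h3 := Subgroup.mul_mem _ hn (hTN (hOT (hc hc')))
    rwa [mul_inv_cancel_left] at h3

end Cfsg.Agent.S1990
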