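import Cfsg.Statements.S1996
import Cfsg.Agent.Components.Functor.Fusion

set_option autoImplicit false
universe u
open Cfsg

namespace Cfsg.Agent.S1996

/-- Let p be a prime, G a finite group and W₁, W₂ two isomorphism-invariant p-group functors (W assigns to every group Q a subgroup W(Q), nontrivial whenever Q is a nontrivial finite p-group, and every isomorphism from a finite p-group Q onto a group R carries W(Q) onto W(R)). Suppose that G* = N_{G*}(W₁(S*)) N_{G*}(W₂(S*)) whenever G* = K/R is a section of G with C_{G*}(O_p(G*)) ≤ O_p(G*) and S* is a Sylow p-subgroup of G*. Then the pair {W₁, W₂} controls strong fusion in G. -/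
theorem result {G : Type u} [Group G] [Finite G] {p : ℕ} [Fact p.Prime] (W₁ W₂ : ∀ (Q : Type u) [Group Q], Subgroup Q) (hW₁ : Cfsg.IsCharPFunctor.{u} p W₁) (hW₂ : Cfsg.IsCharPFunctor.{u} p W₂) (hfac : ∀ (K R : Subgroup G) [hR : (R.subgroupOf K).Normal], Subgroup.centralizer ((Cfsg.pCore p (↥K ⧸ R.subgroupOf K) : Subgroup (↥K ⧸ R.subgroupOf K)) : Set (↥K ⧸ R.subgroupOf K)) ≤ Cfsg.pCore p (↥K ⧸ R.subgroupOf K) → ∀ T : Sylow p (↥K ⧸ R.subgroupOf K), ∀ x : (↥K ⧸ R.subgroupOf K), ∃ a ∈ Subgroup.normalizer ((Cfsg.inducedFunctor (G := (↥K ⧸ R.subgroupOf K)) W₁ (T : Subgroup (↥K ⧸ R.subgroupOf K)) : Subgroup (↥K ⧸ R.subgroupOf K)) : Set (↥K ⧸ R.subgroupOf K)), ∃ b ∈ Subgroup.normalizer ((Cfsg.inducedFunctor (G := (↥K ⧸ R.subgroupOf K)) W₂ (T : Subgroup (↥K ⧸ R.subgroupOf K)) : Subgroup (↥K ⧸ R.subgroupOf K)) : Set (↥K ⧸ R.subgroupOf K)), x = a * b) : Cfsg.FamilyControlsStrongFusionIn p {Cfsg.inducedFunctor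 (G := G) W₁, Cfsg.inducedFunctor (G := G) W₂} ⊤ := by
  have h𝒲 : ∀ W ∈ ({W₁, W₂} : Set (∀ (Q : Type u) [Group Q], Subgroup Q)), Cfsg.IsCharPFunctor.{u} p W := by
    rintro W (rfl | rfl)
    · exact hW₁
    · exact hW₂
  rw [show ({Cfsg.inducedFunctor (G := G) W₁, Cfsg.inducedFunctor (G := G) W₂} : Set (Subgroup G → Subgroup G)) =
    Cfsg.Lib.Functor.ind {W₁, W₂} G from (Set.image_pair _ _ _).symm]
  refine Cfsg.Lib.Control.familyControls_of_agree default (Cfsg.Lib.Functor.ctrl_main h𝒲 _ G rfl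
    (Cfsg.Lib.Functor.crit_of_sections h𝒲 fun K R _ hc T A g hA hgA => ?_) default)
  obtain ⟨a, ha, b, hb, rfl⟩ := hfac K R hc T g
  set Z₁ := Cfsg.inducedFunctor W₁ (T : Subgroup (↥K ⧸ R.subgroupOf K))
  set Z₂ := Cfsg.inducedFunctor W₂ (T : Subgroup (↥K ⧸ R.subgroupOf K))
  set M := Subgroup.normalizer (Z₁ : Set (↥K ⧸ R.subgroupOf K)) ⊓ Subgroup.normalizer (Z₂ : Set (↥K ⧸ R.subgroupOf K))
  have hTM : (T : Subgroup (↥K ⧸ R.subgroupOf K)) ≤ M := le_inf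
    (Subgroup.le_normalizer.trans (Cfsg.Lib.Functor.normalizer_le_normalizer_induced hW₁ T.2))
    (Subgroup.le_normalizer.trans (Cfsg.Lib.Functor.normalizer_le_normalizer_induced hW₂ T.2))
  set X := (Subgroup.closure A).map (MulAut.conj b).toMonoidHom
  have hXM : X ≤ M := by
    rintro _ ⟨u, hu, rfl⟩
    have huT := (Subgroup.closure_le _).mpr hA hu
    refine ⟨?_, Subgroup.mul_mem _ (Subgroup.mul_mem _ hb (hTM huT).2) (Subgroup.inv_mem _ hb)⟩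
    have h1 : a * b * u * (a * b)⁻¹ ∈ (T : Subgroup (↥K ⧸ R.subgroupOf K)) := by
      have h2 : (Subgroup.closure A).map (MulAut.conj (a * b)).toMonoidHom ≤ (T : Subgroup (↥K ⧸ R.subgroupOf K)) := by
        rw [← Cfsg.Lib.Control.closure_img]; exact (Subgroup.closure_le _).mpr hgA
      exact h2 ⟨u, hu, rfl⟩
    have h3 := mul_mem (mul_mem (inv_mem ha) (hTM h1).1) ha
    show b * u * b⁻¹ ∈ _
    simpa [mul_assoc] using h3
  obtain ⟨T', hT'⟩ := (((T.2.to_le ((Subgroup.closure_le _).mpr hA)).map _).comap_subtype (K := M)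
    : IsPGroup p (X.subgroupOf M)).exists_le_sylow
  obtain ⟨m, hm⟩ := MulAction.exists_smul_eq M T' (T.subtype hTM)
  have hmA : Cfsg.Lib.Control.img ((m : ↥K ⧸ R.subgroupOf K) * b) A ⊆ (T : Subgroup (↥K ⧸ R.subgroupOf K)) := by
    refine Cfsg.Lib.Control.img_subset_iff.mpr fun u hu => ?_
    have hx : b * u * b⁻¹ ∈ X := ⟨u, Subgroup.subset_closure hu, rfl⟩
    have h5 : m * ⟨b * u * b⁻¹, hXM hx⟩ * m⁻¹ ∈ (T.subtype hTM : Subgroup M) := by
      rw [← hm]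
      exact Cfsg.Lib.Transfer.mem_conj_sylow_iff.mpr (hT' hx)
    rw [Sylow.coe_subtype, Subgroup.mem_subgroupOf] at h5
    simpa [mul_assoc] using h5
  refine ⟨(a * (m : ↥K ⧸ R.subgroupOf K)⁻¹) * ((m : ↥K ⧸ R.subgroupOf K) * b), Cfsg.Lib.Control.Chain.mul
    (Cfsg.Lib.Control.Chain.single ⟨⟨_, ⟨W₂, Or.inr rfl, rfl⟩, Subgroup.mem_top _, mul_mem m.2.2 hb⟩, hA, hmA⟩)
    ⟨⟨_, ⟨W₁, Or.inl rfl, rfl⟩, Subgroup.mem_top _, Subgroup.mul_mem _ ha (Subgroup.inv_mem _ m.2.1)⟩, hmA, ?_⟩, fun u hu => by group⟩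
  rw [Cfsg.Lib.Control.img_img, show a * (m : ↥K ⧸ R.subgroupOf K)⁻¹ * ((m : ↥K ⧸ R.subgroupOf K) * b) = a * b by group]
  exact hgA

end Cfsg.Agent.S1996
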