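import Cfsg.Statements.S2000
import Cfsg.Agent.FF.Control
import Cfsg.Agent.FF.QdControl
import Cfsg.Agent.SolvStruct.ZJFusion
import Cfsg.Agent.Fusion.QdTwo
-- import your own Cfsg.Agent.* helpers here

set_option autoImplicit false
universe u
open Cfsg

namespace Cfsg.Agent.S2000

/-- Let p be a prime and G a finite group. Then Qd(p) (the natural semidirect product of an elementary abelian group of order p² by SL₂(p)) is not involved in G if and only if there is a set 𝓦 of isomorphism-invariant p-group functors (each nontrivial on nontrivial finite p-groups and carried onto W(R) by every isomorphism from a finite p-group Q onto R, hence with characteristic values on finite p-groups) whose induced conjugacy functors control strong fusion in every section of G. -/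
theorem result {G : Type u} [Group G] [Finite G] {p : ℕ} [Fact p.Prime] : ¬ Cfsg.Involves ↥(Cfsg.qd p) G ↔ ∃ 𝓦 : Set (∀ (Q : Type u) [Group Q], Subgroup Q), (∀ W ∈ 𝓦, Cfsg.IsCharPFunctor.{u} p W) ∧ ∀ (K R : Subgroup G) [hR : (R.subgroupOf K).Normal], Cfsg.FamilyControlsStrongFusionIn p ((fun W => Cfsg.inducedFunctor (G := (↥K ⧸ R.subgroupOf K)) W) '' 𝓦) ⊤ := by
  constructor
  · intro hfree
    by_cases hp : p = 2
    · subst hp
      refine ⟨{Cfsg.Lib.FF.centerFun, Cfsg.Lib.SThreeFree.jFun}, Cfsg.Lib.FF.charP_pair, fun K R hR => ?_⟩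
      obtain ⟨e⟩ := Cfsg.Lib.Fusion.QdTwo.nonempty_mulEquiv
      refine Cfsg.Lib.Control.familyControls_of_agree default (Cfsg.Lib.FF.ctrlAll_pair (fun hi => hfree ?_) default)
      exact Cfsg.Lib.Fusion.QdTwo.involves_congr e.symm (Cfsg.Lib.QdFree.involves_of_section hi)
    · refine ⟨{fun Q inst => @Cfsg.Lib.SolvStruct.zjFn p Q inst}, fun W hW => ?_, fun K R hR => ?_⟩
      · rw [Set.mem_singleton_iff.mp hW]
        exact Cfsg.Lib.SolvStruct.zjFn_charP
      · suffices hctl : Cfsg.Lib.Functor.CtrlAll p {fun Q inst => @Cfsg.Lib.SolvStruct.zjFn p Q inst}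
            (↥K ⧸ R.subgroupOf K) by
          exact Cfsg.Lib.Control.familyControls_of_agree default (hctl default)
        refine Cfsg.Lib.Functor.ctrl_main (fun W hW => ?_) _ _ rfl fun L _ _ hL hc => ?_
        · rw [Set.mem_singleton_iff.mp hW]
          exact Cfsg.Lib.SolvStruct.zjFn_charP
        · refine Cfsg.Lib.Functor.ctrlAll_of_normal fun T => ?_
          rw [Cfsg.Lib.SolvStruct.induced_zjFn]
          exact Cfsg.Lib.ZJ.centerThompson_normal hp (Cfsg.Lib.CtrlD.stable_section hp hfree
            (hL.trans (Cfsg.Lib.Functor.isSection_quotient K R))) hc T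
  · rintro ⟨𝓦, h𝓦, h⟩ ⟨K, R, hR, ⟨e⟩⟩
    haveI := hR
    exact Cfsg.Lib.FF.QdControl.not_ctrlAll h𝓦 (Cfsg.Lib.Functor.ctrlAll_congr h𝓦
      (e.trans MulEquiv.ulift.symm) (Cfsg.Lib.Functor.ctrlAll_of_family h𝓦 (h K R)))

end Cfsg.Agent.S2000
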