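import Cfsg.Statements.S2001
import Cfsg.Agent.Components.Control.CentralPairTransfer

set_option autoImplicit false
open Cfsg

namespace Cfsg.Agent.S2001

/-- Let p be a prime dividing the order of the finite group G, P a Sylow p-subgroup, W a conjugacy functor for p on G with Z(H) ≤ W(H) for every nontrivial p-subgroup H, and V a central functor: a conjugacy functor with V(H) ≤ Z(H), and V(H) ≤ V(K) whenever Z(H) ≤ Z(K), for nontrivial p-subgroups H, K. Say that W with V controls transfer in a subgroup L when some Sylow p-subgroup Q of L satisfies Q ∩ L' = (Q ∩ (N_L(W(Q)))')·(Q ∩ (C_L(V(Q)))') as a product of two subgroups. If W with V controls transfer in N_G(H) for every subgroup H with Z(P) ≤ H ≤ P, then W with V controls transfer in G. -/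
theorem result {G : Type*} [Group G] [Finite G] {p : ℕ} [Fact p.Prime] (hdiv : p ∣ Nat.card G) (P : Sylow p G) (W V : Subgroup G → Subgroup G) (hW : Cfsg.IsConjugacyFunctor p W) (hV : Cfsg.IsConjugacyFunctor p V) (hWZ : ∀ H : Subgroup G, IsPGroup p ↥H → H ⊓ Subgroup.centralizer ((H : Subgroup G) : Set G) ≤ W H) (hVZ : ∀ H : Subgroup G, IsPGroup p ↥H → V H ≤ H ⊓ Subgroup.centralizer ((H : Subgroup G) : Set G)) (hVmono : ∀ H K : Subgroup G, IsPGroup p ↥H → IsPGroup p ↥K → H ≠ ⊥ → K ≠ ⊥ → H ⊓ Subgroup.centralizer ((H : Subgroup G) : Set G) ≤ K ⊓ Subgroup.centralizer ((K : Subgroup G) : Set G) → V H ≤ V K) (hloc : ∀ H : Subgroup G, (P : Subgroup G) ⊓ Subgroup.centralizer (((P : Subgroup G) : Subgroup G) : Set G) ≤ H → H ≤ (P : Subgroup G) → ∃ Q : Subgroup G, Q ≤ Subgroup.normalizer ((H : Subgroup G) : Set G) ∧ IsPGroup p ↥Q ∧ ¬ p ∣ (Q).relIndex (Subgroup.normalizer ((H : Subgroup G) : Set G)) ∧ ∀ x : G, x ∈ Q ⊓ ⁅Subgroup.normalizer ((H : Subgroup G) : Set G), Subgroup.normalizer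 ((H : Subgroup G) : Set G)⁆ ↔ ∃ a ∈ Q ⊓ ⁅Subgroup.normalizer ((H : Subgroup G) : Set G) ⊓ Subgroup.normalizer ((W Q : Subgroup G) : Set G), Subgroup.normalizer ((H : Subgroup G) : Set G) ⊓ Subgroup.normalizer ((W Q : Subgroup G) : Set G)⁆, ∃ b ∈ Q ⊓ ⁅Subgroup.normalizer ((H : Subgroup G) : Set G) ⊓ Subgroup.centralizer ((V Q : Subgroup G) : Set G), Subgroup.normalizer ((H : Subgroup G) : Set G) ⊓ Subgroup.centralizer ((V Q : Subgroup G) : Set G)⁆, x = a * b) : ∃ Q : Subgroup G, IsPGroup p ↥Q ∧ ¬ p ∣ Q.index ∧ ∀ x : G, x ∈ Q ⊓ commutator G ↔ ∃ a ∈ Q ⊓ ⁅Subgroup.normalizer ((W Q : Subgroup G) : Set G), Subgroup.normalizer ((W Q : Subgroup G) : Set G)⁆, ∃ b ∈ Q ⊓ ⁅Subgroup.centralizer ((V Q : Subgroup G) : Set G), Subgroup.centralizer ((V Q : Subgroup G) : Set G)⁆, x = a * b := by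
  open Subgroup Cfsg.Lib.Control in
  open scoped commutatorElement in
  exact by
    have hP1 : (P : Subgroup G) ≠ ⊥ := P.ne_bot_of_dvd_card hdiv
    have hZ1 : (P : Subgroup G) ⊓ centralizer ((P : Subgroup G) : Set G) ≠ ⊥ := fun h =>
      (hV _ P.2).2.1 hP1 (le_bot_iff.1 ((hVZ _ P.2).trans h.le))
    have hVm : ∀ R : Subgroup G, R ≤ (P : Subgroup G) → (P : Subgroup G) ⊓ centralizer ((P : Subgroup G) : Set G) ≤ R →
        V (P : Subgroup G) ≤ V R := fun R hR hZR =>
      hVmono _ _ P.2 (P.2.to_le hR) hP1 (fun h => hZ1 (le_bot_iff.1 (hZR.trans h.le)))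
        (le_inf hZR (inf_le_right.trans (centralizer_le hR)))
    have hlocal : ∀ U : Subgroup G, U ≤ (P : Subgroup G) →
        (P : Subgroup G) ⊓ centralizer ((P : Subgroup G) : Set G) ≤ U → Good p (P : Subgroup G) U →
        ((P : Subgroup G) ⊓ normalizer (U : Set G)) ⊓ ⁅normalizer (U : Set G), normalizer (U : Set G)⁆ ≤
          pairTgt W V (normalizer (U : Set G)) ((P : Subgroup G) ⊓ normalizer (U : Set G)) := by
      intro U hUP hZU hgood
      obtain ⟨Q, hQN, hQp, hQi, hQ⟩ := hloc U hZU hUP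
      set N := normalizer (U : Set G) with hN
      set R := (P : Subgroup G) ⊓ N with hR
      let Q₀ : Sylow p N := (hQp.comap_subtype (K := N)).toSylow hQi
      let R₀ : Sylow p N := ((P.2.to_le (inf_le_left : R ≤ P)).comap_subtype (K := N)).toSylow hgood
      obtain ⟨n, hn⟩ := MulAction.exists_smul_eq N Q₀ R₀
      have hmem : ∀ z : G, z ∈ Q ↔ (n : G) * z * (n : G)⁻¹ ∈ R := by
        intro z
        constructor
        · intro hz
          have h5 : n * ⟨z, hQN hz⟩ * n⁻¹ ∈ (R₀ : Subgroup N) := by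
            rw [← hn]; exact Cfsg.Lib.Transfer.mem_conj_sylow_iff.mpr hz
          exact mem_subgroupOf.mp h5
        · intro hz
          have hzN : z ∈ N := by
            have := mul_mem (mul_mem (inv_mem n.2) hz.2) n.2
            simpa [mul_assoc] using this
          have h5 : n * ⟨z, hzN⟩ * n⁻¹ ∈ (R₀ : Subgroup N) := mem_subgroupOf.mpr hz
          rw [← hn] at h5
          exact (Cfsg.Lib.Transfer.mem_conj_sylow_iff.mp h5 : _)
      set f := (MulAut.conj (n : G)).toMonoidHom with hf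
      have hQR : Q.map f = R := by
        ext z
        constructor
        · rintro ⟨w, hw, rfl⟩; exact (hmem w).1 hw
        · intro hz
          refine ⟨(n : G)⁻¹ * z * n, (hmem _).2 ?_, by simp [hf, mul_assoc]⟩
          simpa [mul_assoc] using hz
      have hNf : N.map f = N := Cfsg.Lib.Transfer.map_conj_eq_self_iff.mpr (le_normalizer n.2)
      have hfW : (N ⊓ normalizer ((W Q : Subgroup G) : Set G)).map f = N ⊓ normalizer ((W R : Subgroup G) : Set G) := by
        rw [Subgroup.map_inf _ _ f (MulAut.conj (n : G)).injective, hNf, ← hQR, (hW Q hQp).2.2]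
        exact congrArg (N ⊓ ·) (Cfsg.Lib.Coprime.normalizer_conjMap (n : G) (W Q)).symm
      have hfV : (N ⊓ centralizer ((V Q : Subgroup G) : Set G)).map f ≤ N ⊓ centralizer ((V R : Subgroup G) : Set G) := by
        rw [Subgroup.map_inf _ _ f (MulAut.conj (n : G)).injective, hNf, ← hQR, (hV Q hQp).2.2]
        refine inf_le_inf_left _ ?_
        rintro _ ⟨w, hw, rfl⟩
        refine mem_centralizer_iff.2 ?_
        rintro _ ⟨v, hv, rfl⟩
        rw [← map_mul, ← map_mul, mem_centralizer_iff.1 hw v hv]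
      rintro z ⟨hzR, hz'⟩
      have hzR' : z ∈ Q.map f := by rw [hQR]; exact hzR
      obtain ⟨w, hw, rfl⟩ := hzR'
      have hw' : w ∈ ⁅N, N⁆ := by
        rw [← hNf, ← map_commutator] at hz'
        obtain ⟨w', hw', e⟩ := hz'
        rwa [← (MulAut.conj (n : G)).injective e]
      obtain ⟨a, ha, b, hb, rfl⟩ := (hQ w).1 ⟨hw, hw'⟩
      rw [map_mul]
      refine mul_mem_sup ⟨(hmem a).1 ha.1, ?_⟩ ⟨(hmem b).1 hb.1, ?_⟩
      · rw [← hfW, ← map_commutator]; exact mem_map_of_mem f ha.2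
      · exact commutator_mono hfV hfV (by rw [← map_commutator]; exact mem_map_of_mem f hb.2)
    have h := pairTransfer P hW hWZ hVm hlocal
    refine ⟨P, P.2, P.not_dvd_index, fun x => ⟨fun hx => ?_, ?_⟩⟩
    · have hx' := h hx
      rw [pairTgt, top_inf_eq, top_inf_eq] at hx'
      set NW := normalizer ((W (P : Subgroup G) : Subgroup G) : Set G)
      have hPN : (P : Subgroup G) ≤ NW := fun s hs => by
        rw [← Cfsg.Lib.Transfer.map_conj_eq_self_iff, ← (hW _ P.2).2.2,
          Cfsg.Lib.Transfer.map_conj_eq_self_iff.mpr (le_normalizer hs)]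
      have hn1 : (P : Subgroup G) ⊓ ⁅centralizer ((V (P : Subgroup G) : Subgroup G) : Set G), centralizer ((V (P : Subgroup G) : Subgroup G) : Set G)⁆ ≤
          normalizer (((P : Subgroup G) ⊓ ⁅NW, NW⁆ : Subgroup G) : Set G) := fun s hs => by
        rw [← Cfsg.Lib.Transfer.map_conj_eq_self_iff, Subgroup.map_inf _ _ _ (MulAut.conj s).injective, map_commutator,
          Cfsg.Lib.Transfer.map_conj_eq_self_iff.mpr (le_normalizer hs.1),
          Cfsg.Lib.Transfer.map_conj_eq_self_iff.mpr (le_normalizer (hPN hs.1))]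
      obtain ⟨a, ha, b, hb, e⟩ := (Cfsg.Lib.Coprime.mem_sup_of_le_normalizer hn1).mp hx'
      exact ⟨a, ha, b, hb, e.symm⟩
    · rintro ⟨a, ha, b, hb, rfl⟩
      refine ⟨mul_mem ha.1 hb.1, mul_mem ?_ ?_⟩
      · exact (commutator_def G) ▸ commutator_mono le_top le_top ha.2
      · exact (commutator_def G) ▸ commutator_mono le_top le_top hb.2

end Cfsg.Agent.S2001
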