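import Cfsg.Statements.S2002
import Cfsg.Agent.Components.Control.CentralPair

set_option autoImplicit false
open Cfsg

namespace Cfsg.Agent.S2002

/-- Let p be a prime dividing the order of the finite group G, P a Sylow p-subgroup, W a conjugacy functor for p on G with Z(H) ≤ W(H) for every nontrivial p-subgroup H, and V a central functor (a conjugacy functor with V(H) ≤ Z(H), and V(H) ≤ V(K) whenever Z(H) ≤ Z(K)). Say that W with V controls strong fusion in a subgroup L when some Sylow p-subgroup Q of L has the property: whenever X ⊆ Q and a ∈ L with a⁻¹Xa ⊆ Q, then a = c b with c ∈ C_L(X) and b = b₁ ⋯ bₙ a product of elements each in N_L(W(Q)) or in C_L(V(Q)) such that every partial conjugate (b₁ ⋯ bₖ)⁻¹ X (b₁ ⋯ bₖ) lies in Q. If W with V controls strong fusion in N_G(H) for every subgroup H with Z(P) ≤ H ≤ P, then W with V controls strong fusion in G. -/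
theorem result {G : Type*} [Group G] [Finite G] {p : ℕ} [Fact p.Prime] (hdiv : p ∣ Nat.card G) (P : Sylow p G) (W V : Subgroup G → Subgroup G) (hW : Cfsg.IsConjugacyFunctor p W) (hV : Cfsg.IsConjugacyFunctor p V) (hWZ : ∀ H : Subgroup G, IsPGroup p ↥H → H ⊓ Subgroup.centralizer ((H : Subgroup G) : Set G) ≤ W H) (hVZ : ∀ H : Subgroup G, IsPGroup p ↥H → V H ≤ H ⊓ Subgroup.centralizer ((H : Subgroup G) : Set G)) (hVmono : ∀ H K : Subgroup G, IsPGroup p ↥H → IsPGroup p ↥K → H ≠ ⊥ → K ≠ ⊥ → H ⊓ Subgroup.centralizer ((H : Subgroup G) : Set G) ≤ K ⊓ Subgroup.centralizer ((K : Subgroup G) : Set G) → V H ≤ V K) (hloc : ∀ H : Subgroup G, (P : Subgroup G) ⊓ Subgroup.centralizer (((P : Subgroup G) : Subgroup G) : Set G) ≤ H → H ≤ (P : Subgroup G) → ∃ Q : Subgroup G, Q ≤ Subgroup.normalizer ((H : Subgroup G) : Set G) ∧ IsPGroup p ↥Q ∧ ¬ p ∣ (Q).relIndex (Subgroup.normalizer ((H : Subgroup G) : Set G)) ∧ ∀ (X : Set G) (a : G), X ⊆ Q → a ∈ Subgroup.normalizer ((H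 : Subgroup G) : Set G) → (fun x => a⁻¹ * x * a) '' X ⊆ Q → ∃ c ∈ Subgroup.normalizer ((H : Subgroup G) : Set G) ⊓ Subgroup.centralizer X, ∃ (n : ℕ) (b : Fin n → G), (∀ i, b i ∈ Subgroup.normalizer ((H : Subgroup G) : Set G) ⊓ Subgroup.normalizer ((W Q : Subgroup G) : Set G) ∨ b i ∈ Subgroup.normalizer ((H : Subgroup G) : Set G) ⊓ Subgroup.centralizer ((V Q : Subgroup G) : Set G)) ∧ a = c * (List.ofFn b).prod ∧ ∀ k : ℕ, k ≤ n → (fun x => (((List.ofFn b).take k).prod)⁻¹ * x * ((List.ofFn b).take k).prod) '' ((fun x => c⁻¹ * x * c) '' X) ⊆ Q) : ∃ Q : Subgroup G, IsPGroup p ↥Q ∧ ¬ p ∣ Q.index ∧ ∀ (X : Set G) (a : G), X ⊆ Q → (fun x => a⁻¹ * x * a) '' X ⊆ Q → ∃ c ∈ Subgroup.centralizer X, ∃ (n : ℕ) (b : Fin n → G), (∀ i, b i ∈ ⊤ ⊓ Subgroup.normalizer ((W Q : Subgroup G) : Set G) ∨ b i ∈ ⊤ ⊓ Subgroup.centralizer ((V Q : Subgroup G) : Set G)) ∧ a = c * (List.ofFn b).prod ∧ ∀ k : ℕ, k ≤ n → (fun x => (((List.ofFn b).take k).prod)⁻¹ * x * ((List.ofFn b).take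 k).prod) '' ((fun x => c⁻¹ * x * c) '' X) ⊆ Q := by
  open Subgroup Cfsg.Lib.Control in
  exact by
    have conjCent : ∀ (R : Subgroup G) (n x : G), x ∈ centralizer ((V R : Subgroup G) : Set G) →
        n * x * n⁻¹ ∈ centralizer (((V R).map (MulAut.conj n).toMonoidHom : Subgroup G) : Set G) := by
      intro R n x hx
      refine mem_centralizer_iff.2 ?_
      rintro _ ⟨v, hv, rfl⟩
      show n * v * n⁻¹ * (n * x * n⁻¹) = n * x * n⁻¹ * (n * v * n⁻¹)
      calc n * v * n⁻¹ * (n * x * n⁻¹) = n * (v * x) * n⁻¹ := by group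
        _ = n * (x * v) * n⁻¹ := by rw [mem_centralizer_iff.1 hx v hv]
        _ = _ := by group
    have hP1 : (P : Subgroup G) ≠ ⊥ := P.ne_bot_of_dvd_card hdiv
    have hZ1 : (P : Subgroup G) ⊓ centralizer ((P : Subgroup G) : Set G) ≠ ⊥ := fun h =>
      (hV _ P.2).2.1 hP1 (le_bot_iff.1 ((hVZ _ P.2).trans h.le))
    have hVm : ∀ R : Subgroup G, R ≤ (P : Subgroup G) → (P : Subgroup G) ⊓ centralizer ((P : Subgroup G) : Set G) ≤ R →
        V (P : Subgroup G) ≤ V R := fun R hR hZR =>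
      hVmono _ _ P.2 (P.2.to_le hR) hP1 (fun h => hZ1 (le_bot_iff.1 (hZR.trans h.le)))
        (le_inf hZR (inf_le_right.trans (centralizer_le hR)))
    have hlocal : ∀ U : Subgroup G, U ≤ (P : Subgroup G) →
        (P : Subgroup G) ⊓ centralizer ((P : Subgroup G) : Set G) ≤ U → Good p (P : Subgroup G) U →
        ∀ (A : Set G) (y : G), y ∈ normalizer (U : Set G) →
        A ⊆ ((P : Subgroup G) ⊓ normalizer (U : Set G) : Subgroup G) →
        img y A ⊆ ((P : Subgroup G) ⊓ normalizer (U : Set G) : Subgroup G) →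
        PAgree W V (normalizer (U : Set G)) ((P : Subgroup G) ⊓ normalizer (U : Set G)) A y := by
      intro U hUP hZU hgood A y hy hA hyA
      obtain ⟨Q, hQN, hQp, hQi, hQ⟩ := hloc U hZU hUP
      set N := normalizer (U : Set G) with hN
      set R := (P : Subgroup G) ⊓ N with hR
      -- conjugate `Q` to `R`
      let Q₀ : Sylow p N := (hQp.comap_subtype (K := N)).toSylow hQi
      let R₀ : Sylow p N := ((P.2.to_le (inf_le_left : R ≤ P)).comap_subtype (K := N)).toSylow hgood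
      obtain ⟨n, hn⟩ := MulAction.exists_smul_eq N Q₀ R₀
      have hmem : ∀ z : G, z ∈ Q ↔ (n : G) * z * (n : G)⁻¹ ∈ R := by
        intro z
        constructor
        · intro hz
          have h5 : n * ⟨z, hQN hz⟩ * n⁻¹ ∈ (R₀ : Subgroup N) := by
            rw [← hn]; exact Cfsg.Lib.Transfer.mem_conj_sylow_iff.mpr hz
          exact mem_subgroupOf.mp h5
        · intro hz
          have hzN : z ∈ N := by
            have := mul_mem (mul_mem (inv_mem n.2) hz.2) n.2
            simpa [mul_assoc] using this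
          have h5 : n * ⟨z, hzN⟩ * n⁻¹ ∈ (R₀ : Subgroup N) := mem_subgroupOf.mpr hz
          rw [← hn] at h5
          exact (Cfsg.Lib.Transfer.mem_conj_sylow_iff.mp h5 : _)
      have hQR : Q.map (MulAut.conj (n : G)).toMonoidHom = R := by
        ext z
        constructor
        · rintro ⟨w, hw, rfl⟩; exact (hmem w).1 hw
        · intro hz
          refine ⟨(n : G)⁻¹ * z * n, (hmem _).2 ?_, by simp [mul_assoc]⟩
          simpa [mul_assoc] using hz
      set X : Set G := (fun x => (n : G)⁻¹ * x * n) '' A with hX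
      set a : G := (n : G)⁻¹ * y⁻¹ * n with ha
      have hXQ : X ⊆ Q := by
        rintro _ ⟨x, hx, rfl⟩
        refine (hmem _).2 ?_
        simpa [mul_assoc] using hA hx
      have hXa : (fun x => a⁻¹ * x * a) '' X ⊆ Q := by
        rintro _ ⟨_, ⟨x, hx, rfl⟩, rfl⟩
        refine (hmem _).2 ?_
        have := hyA ⟨x, hx, rfl⟩
        simpa [ha, mul_assoc] using this
      obtain ⟨c, hc, m, b, hb, hab, hk⟩ := hQ X a hXQ (mul_mem (mul_mem (inv_mem n.2) (inv_mem hy)) n.2) hXa
      set l := List.ofFn b with hl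
      have hlm : l.length = m := List.length_ofFn
      have hcX : ∀ x ∈ X, c⁻¹ * x * c = x := fun x hx => by
        rw [mul_assoc, mem_centralizer_iff.1 hc.2 x hx, inv_mul_cancel_left]
      have hstep : ∀ z ∈ l, (n : G) * z⁻¹ * (n : G)⁻¹ ∈ N ⊓ normalizer ((W R : Subgroup G) : Set G) ∨
          (n : G) * z⁻¹ * (n : G)⁻¹ ∈ N ⊓ centralizer ((V R : Subgroup G) : Set G) := by
        intro z hz
        obtain ⟨i, rfl⟩ := List.mem_ofFn.1 hz
        rcases hb i with hi | hi
        · refine Or.inl (mem_inf.2 ⟨mul_mem (mul_mem n.2 (inv_mem (mem_inf.1 hi).1)) (inv_mem n.2), ?_⟩)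
          rw [← hQR, (hW Q hQp).2.2,
            show normalizer (((W Q).map (MulAut.conj (n : G)).toMonoidHom : Subgroup G) : Set G) =
              (normalizer ((W Q : Subgroup G) : Set G)).map (MulAut.conj (n : G)).toMonoidHom from
              Cfsg.Lib.Coprime.normalizer_conjMap (n : G) (W Q)]
          exact ⟨_, inv_mem (mem_inf.1 hi).2, rfl⟩
        · refine Or.inr (mem_inf.2 ⟨mul_mem (mul_mem n.2 (inv_mem (mem_inf.1 hi).1)) (inv_mem n.2), ?_⟩)
          rw [← hQR, (hV Q hQp).2.2]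
          exact conjCent Q n _ (inv_mem (mem_inf.1 hi).2)
      have hpre : ∀ k, k ≤ m → img ((n : G) * ((l.take k).prod)⁻¹ * (n : G)⁻¹) A ⊆ R := by
        rintro k hkm _ ⟨x, hx, rfl⟩
        have hxX : (n : G)⁻¹ * x * n ∈ X := ⟨x, hx, rfl⟩
        have := (hmem _).1 (hk k hkm ⟨_, ⟨_, hxX, hcX _ hxX⟩, rfl⟩)
        simpa [mul_assoc] using this
      have hchain : ∀ k, k ≤ m →
          Chain (PairStep W V N R) A ((n : G) * ((l.take k).prod)⁻¹ * (n : G)⁻¹) := by
        intro k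
        induction k with
        | zero => intro _; simpa using Chain.one
        | succ k ih =>
          intro hkm
          have hlt : k < l.length := by omega
          have e : (n : G) * ((l.take (k + 1)).prod)⁻¹ * (n : G)⁻¹ =
              ((n : G) * l[k]⁻¹ * (n : G)⁻¹) * ((n : G) * ((l.take k).prod)⁻¹ * (n : G)⁻¹) := by
            rw [List.prod_take_succ _ _ hlt]; group
          rw [e]
          refine Chain.mul (ih (by omega)) ⟨hstep _ (List.getElem_mem hlt), hpre k (by omega), ?_⟩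
          rw [img_img, ← e]
          exact hpre (k + 1) hkm
      refine ⟨(n : G) * l.prod⁻¹ * (n : G)⁻¹, ?_, fun x hx => ?_⟩
      · have := hchain m le_rfl
        rwa [List.take_of_length_le hlm.le] at this
      · have hxX : (n : G)⁻¹ * x * n ∈ X := ⟨x, hx, rfl⟩
        have e := mem_centralizer_iff.1 hc.2 _ hxX
        have ep : l.prod = c⁻¹ * a := by rw [hab, inv_mul_cancel_left]
        rw [ep, ha]
        calc (n : G) * (c⁻¹ * ((n : G)⁻¹ * y⁻¹ * n))⁻¹ * (n : G)⁻¹ * x *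
              ((n : G) * (c⁻¹ * ((n : G)⁻¹ * y⁻¹ * n))⁻¹ * (n : G)⁻¹)⁻¹
            = y * n * (c * ((n : G)⁻¹ * x * n)) * c⁻¹ * (n : G)⁻¹ * y⁻¹ := by group
          _ = y * n * (((n : G)⁻¹ * x * n) * c) * c⁻¹ * (n : G)⁻¹ * y⁻¹ := by rw [e]
          _ = y * x * y⁻¹ := by group
    refine ⟨P, P.2, P.not_dvd_index, fun X a hX hXa => ?_⟩
    have himg : img a⁻¹ X ⊆ (P : Subgroup G) := by
      rintro _ ⟨x, hx, rfl⟩
      have := hXa ⟨x, hx, rfl⟩
      simpa [mul_assoc] using this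
    obtain ⟨d, hd, hda⟩ := pairCtrl P hW hWZ hVm hlocal X a⁻¹ hX himg
    obtain ⟨l, hl, hp, hk⟩ := list_of_chain hX hd
    have hc : a * d ∈ centralizer X := mem_centralizer_iff.2 fun x hx => by
      have e := hda x hx
      calc x * (a * d) = a * (a⁻¹ * x * a⁻¹⁻¹) * d := by group
        _ = a * (d * x * d⁻¹) * d := by rw [e]
        _ = a * d * x := by group
    refine ⟨a * d, hc, l.length, fun i => l.get i, fun i => ?_, ?_, fun k _ => ?_⟩
    · exact (hl _ (List.get_mem l i)).imp (fun h => ⟨mem_top _, h⟩) fun h => ⟨mem_top _, h⟩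
    · rw [List.ofFn_get, ← hp]; group
    · rw [List.ofFn_get]
      rintro _ ⟨_, ⟨x, hx, rfl⟩, rfl⟩
      have := hk k ⟨x, hx, rfl⟩
      have e : (a * d)⁻¹ * x * (a * d) = x := by
        rw [mul_assoc, mem_centralizer_iff.1 hc x hx, inv_mul_cancel_left]
      show (l.take k).prod⁻¹ * ((a * d)⁻¹ * x * (a * d)) * (l.take k).prod ∈ (P : Subgroup G)
      rw [e]
      simp only [inv_inv] at this
      exact this

end Cfsg.Agent.S2002
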