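import Cfsg.Statements.S2009
import Cfsg.Agent.Transfer.Basic

set_option autoImplicit false
open Cfsg

namespace Cfsg.Agent.S2009

/-- Let H be a finite group and z an involution such that every proper normal subgroup of H meets the centralizer of z trivially, and suppose z lies in a Klein four-subgroup E of H all three of whose involutions are conjugate to z in H. Then H is simple. -/
theorem result {H : Type*} [Group H] [Finite H] (z : H) (hz : orderOf z = 2) (hN : ∀ N : Subgroup H, N.Normal → N ≠ ⊤ → N ⊓ Subgroup.centralizer ({z} : Set H) = ⊥) (E : Subgroup H) (hE : IsKleinFour ↥E) (hzE : z ∈ E) (hc : ∀ e ∈ E, e ≠ 1 → IsConj z e) : IsSimpleGroup H := by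
  classical
  have hNb : ∀ N : Subgroup H, N.Normal → N ≠ ⊤ → N = ⊥ := by
    intro N hNn hNt
    have hz0 := hN N hNn hNt
    have hfix : ∀ e ∈ E, e ≠ 1 → ∀ n ∈ N, e * n = n * e → n = 1 := by
      intro e he he1 n hn hen
      obtain ⟨g, hg⟩ := isConj_iff.1 (hc e he he1)
      have hm : g⁻¹ * n * g ∈ N := by simpa using hNn.conj_mem n hn g⁻¹
      have hcz : g⁻¹ * n * g ∈ Subgroup.centralizer ({z} : Set H) := by
        rw [Subgroup.mem_centralizer_singleton_iff]
        have h1 : z = g⁻¹ * e * g := by rw [← hg]; simp [mul_assoc]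
        rw [h1]
        calc g⁻¹ * n * g * (g⁻¹ * e * g) = g⁻¹ * (n * e) * g := by simp [mul_assoc]
          _ = g⁻¹ * (e * n) * g := by rw [hen]
          _ = g⁻¹ * e * g * (g⁻¹ * n * g) := by simp [mul_assoc]
      have h2 : g⁻¹ * n * g ∈ N ⊓ Subgroup.centralizer ({z} : Set H) := ⟨hm, hcz⟩
      rw [hz0, Subgroup.mem_bot] at h2
      have h3 := congrArg (fun u => g * u * g⁻¹) h2
      simpa [mul_assoc] using h3
    have hinv : ∀ e ∈ E, e ≠ 1 → ∀ n ∈ N, e * n * e⁻¹ = n⁻¹ := by
      intro e he he1 n hn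
      have hee : e * e = 1 := congrArg Subtype.val (IsKleinFour.mul_self (⟨e, he⟩ : E))
      let f : N → N := fun m => ⟨(m : H)⁻¹ * (e * m * e⁻¹), mul_mem (inv_mem m.2) (hNn.conj_mem m m.2 e)⟩
      have hf : Function.Injective f := by
        intro a b hab
        have h1 : (a : H)⁻¹ * (e * a * e⁻¹) = (b : H)⁻¹ * (e * b * e⁻¹) := congrArg Subtype.val hab
        have h2 : (b : H) * (a : H)⁻¹ = e * b * e⁻¹ * (e * a * e⁻¹)⁻¹ := by
          rw [eq_mul_inv_iff_mul_eq, mul_assoc, h1]; simp [mul_assoc]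
        have h3 : e * ((b : H) * (a : H)⁻¹) = ((b : H) * (a : H)⁻¹) * e := by
          conv_rhs => rw [h2]
          simp [mul_assoc]
        have := hfix e he he1 _ (mul_mem b.2 (inv_mem a.2)) h3
        exact Subtype.ext (mul_inv_eq_one.1 this).symm
      obtain ⟨m, hm⟩ := Finite.surjective_of_injective hf ⟨n, hn⟩
      have h4 : (m : H)⁻¹ * (e * m * e⁻¹) = n := congrArg Subtype.val hm
      rw [← h4]
      have hei : e⁻¹ = e := inv_eq_of_mul_eq_one_right hee
      simp only [mul_assoc, mul_inv_rev, hei, inv_inv]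
      simp [← mul_assoc, hee]
    have hz1 : z ≠ 1 := fun h => by rw [h, orderOf_one] at hz; norm_num at hz
    obtain ⟨a, ha1, haz⟩ : ∃ a : E, a ≠ 1 ∧ a ≠ ⟨z, hzE⟩ := by
      by_contra hcon
      push Not at hcon
      have hle : Nat.card E ≤ 2 := by
        refine le_trans (Nat.card_le_card_of_injective (fun a : E => decide (a = 1)) ?_) (by simp)
        intro a b hab
        simp only [decide_eq_decide] at hab
        by_cases h1 : a = 1
        · rw [h1, hab.1 h1]
        · rw [hcon a h1, hcon b (fun h => h1 (hab.2 h))]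
      rw [hE.card_four] at hle
      omega
    set b : E := a * ⟨z, hzE⟩ with hb
    have hb1 : b ≠ 1 := by
      intro h
      apply haz
      rw [hb, mul_eq_one_iff_eq_inv] at h
      rw [h]
      exact inv_eq_of_mul_eq_one_right (IsKleinFour.mul_self _)
    have hzab : z = (a : H) * b := by
      have : a * b = ⟨z, hzE⟩ := by rw [hb, ← mul_assoc, IsKleinFour.mul_self, one_mul]
      exact (congrArg Subtype.val this).symm
    rw [eq_bot_iff]
    intro n hn
    have h1 := hinv a a.2 (fun h => ha1 (Subtype.ext h)) _ (inv_mem hn)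
    have h2 := hinv b b.2 (fun h => hb1 (Subtype.ext h)) n hn
    have h5 : z * n * z⁻¹ = n := by
      rw [hzab]
      calc (a : H) * b * n * ((a : H) * b)⁻¹ = a * (b * n * (b : H)⁻¹) * (a : H)⁻¹ := by simp [mul_assoc]
        _ = n := by rw [h2, h1, inv_inv]
    have h6 : n ∈ N ⊓ Subgroup.centralizer ({z} : Set H) :=
      ⟨hn, Subgroup.mem_centralizer_singleton_iff.2 (mul_inv_eq_iff_eq_mul.1 h5).symm⟩
    rwa [hz0] at h6
  haveI : Nontrivial H := ⟨⟨z, 1, fun h => by rw [h, orderOf_one] at hz; norm_num at hz⟩⟩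
  exact ⟨fun N hNn => (em (N = ⊤)).symm.imp (hNb N hNn) id⟩

end Cfsg.Agent.S2009
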