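import Cfsg.Statements.S2008
import Cfsg.Agent.S2009

set_option autoImplicit false
open Cfsg

namespace Cfsg.Agent.S2008

/-- Let H be a finite group and z an involution such that every proper normal subgroup of H meets the centralizer of z trivially, and suppose z lies in a Klein four-subgroup E of H all three of whose involutions are conjugate to z in H. Then H has no non-trivial abelian normal subgroup. -/
theorem result {H : Type*} [Group H] [Finite H] (z : H) (hz : orderOf z = 2) (hN : ∀ N : Subgroup H, N.Normal → N ≠ ⊤ → N ⊓ Subgroup.centralizer ({z} : Set H) = ⊥) (E : Subgroup H) (hE : IsKleinFour ↥E) (hzE : z ∈ E) (hc : ∀ e ∈ E, e ≠ 1 → IsConj z e) (N : Subgroup H) [N.Normal] (hab : IsMulCommutative ↥N) : N = ⊥ := by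
  have hs := Cfsg.Agent.S2009.result z hz hN E hE hzE hc
  rcases hs.eq_bot_or_eq_top_of_normal N inferInstance with h | h
  · exact h
  exfalso
  subst h
  have hcomm : ∀ x y : H, x * y = y * x := fun x y =>
    congrArg Subtype.val (hab.is_comm.comm (⟨x, trivial⟩ : (⊤ : Subgroup H)) ⟨y, trivial⟩)
  have hall : ∀ e ∈ E, e ≠ 1 → e = z := fun e he he1 => by
    obtain ⟨g, hg⟩ := isConj_iff.1 (hc e he he1)
    rw [hcomm g z, mul_inv_cancel_right] at hg
    exact hg.symm
  have hle : Nat.card E ≤ 2 := by
    classical
    refine le_trans (Nat.card_le_card_of_injective (fun a : E => decide ((a : H) = 1)) ?_) (by simp)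
    intro a b hab'
    simp only [decide_eq_decide] at hab'
    by_cases h1 : (a : H) = 1
    · exact Subtype.ext (h1.trans (hab'.1 h1).symm)
    · exact Subtype.ext ((hall a a.2 h1).trans (hall b b.2 (fun h => h1 (hab'.2 h))).symm)
  rw [hE.card_four] at hle
  omega

end Cfsg.Agent.S2008
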