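import Cfsg.Statements.S2014
import Cfsg.Agent.Transfer.Basic

set_option autoImplicit false
open Cfsg

namespace Cfsg.Agent.S2014

/-- Let P be a Sylow p-subgroup of a finite group G and A, C ≤ P subgroups conjugate in G, with C extremal: N_P(C) is a Sylow p-subgroup of N_G(C). Then there is g with gAg⁻¹ = C and g N_P(A) g⁻¹ ≤ N_P(C); moreover, given any h with hAh⁻¹ = C, g can be chosen so that h g⁻¹ lies in O^p(N_G(C)), the subgroup of N_G(C) generated by its elements of order prime to p. -/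
theorem result {G : Type*} [Group G] [Finite G] (p : ℕ) [Fact p.Prime] (P : Sylow p G) (A C : Subgroup G) (hA : A ≤ P) (hC : C ≤ P) (hext : ¬ p ∣ ((P : Subgroup G) ⊓ Subgroup.normalizer ((C : Subgroup G) : Set G)).relIndex (Subgroup.normalizer ((C : Subgroup G) : Set G))) (h : G) (hh : A.map (MulAut.conj h).toMonoidHom = C) : ∃ g : G, A.map (MulAut.conj g).toMonoidHom = C ∧ ((P : Subgroup G) ⊓ Subgroup.normalizer ((A : Subgroup G) : Set G)).map (MulAut.conj g).toMonoidHom ≤ (P : Subgroup G) ⊓ Subgroup.normalizer ((C : Subgroup G) : Set G) ∧ h * g⁻¹ ∈ (Cfsg.pResidual p ↥(Subgroup.normalizer ((C : Subgroup G) : Set G))).map (Subgroup.normalizer ((C : Subgroup G) : Set G)).subtype := by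
  set N := Subgroup.normalizer ((C : Subgroup G) : Set G) with hN
  set R := ((P : Subgroup G) ⊓ Subgroup.normalizer ((A : Subgroup G) : Set G)).map (MulAut.conj h).toMonoidHom with hR
  have hRN : R ≤ N := by
    rw [hR, hN, ← hh]
    exact (Subgroup.map_mono inf_le_right).trans (Subgroup.le_normalizer_map _)
  set S : Sylow p N := (((P.isPGroup'.to_le inf_le_left).comap_subtype :
    IsPGroup p (((P : Subgroup G) ⊓ N).subgroupOf N))).toSylow hext with hS
  obtain ⟨S1, hS1⟩ := (((P.isPGroup'.to_le inf_le_left).map _).comap_subtype :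
    IsPGroup p (R.subgroupOf N)).exists_le_sylow
  obtain ⟨n, hn⟩ := MulAction.exists_smul_eq N S S1
  have hgen : n ∈ pResidual p N ⊔ (S : Subgroup N) := by
    rw [Cfsg.Lib.Transfer.pResidual_sup_sylow S]; trivial
  haveI : (pResidual p N).Normal := Cfsg.Lib.Transfer.pResidual_normal'
  obtain ⟨k, hk, s, hs, rfl⟩ := Subgroup.mem_sup_of_normal_left.1 hgen
  have hsS : s • S = S := Sylow.smul_eq_iff_mem_normalizer.2 (Subgroup.le_normalizer hs)
  rw [mul_smul, hsS] at hn
  refine ⟨(k : G)⁻¹ * h, ?_, ?_, ?_⟩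
  · rw [show (MulAut.conj ((k : G)⁻¹ * h)).toMonoidHom =
      (MulAut.conj (k : G)⁻¹).toMonoidHom.comp (MulAut.conj h).toMonoidHom by ext; simp [mul_assoc],
      ← Subgroup.map_map, hh]
    exact Cfsg.Lib.Transfer.map_conj_eq_self_iff.2 (inv_mem k.2)
  · rintro _ ⟨x, hx, rfl⟩
    have hxR : h * x * h⁻¹ ∈ R := ⟨x, hx, rfl⟩
    have h1 : (⟨_, hRN hxR⟩ : N) ∈ (S1 : Subgroup N) := hS1 hxR
    rw [← hn] at h1
    obtain ⟨y, hy, hyx⟩ := h1
    have h2 : (y : G) = ((k : G)⁻¹ * h) * x * ((k : G)⁻¹ * h)⁻¹ := by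
      have h3 : (k : G) * y * (k : G)⁻¹ = h * x * h⁻¹ := congrArg Subtype.val hyx
      calc (y : G) = (k : G)⁻¹ * ((k : G) * y * (k : G)⁻¹) * k := by simp [mul_assoc]
        _ = _ := by rw [h3]; simp [mul_assoc]
    show ((k : G)⁻¹ * h) * x * ((k : G)⁻¹ * h)⁻¹ ∈ (P : Subgroup G) ⊓ N
    rw [← h2]
    exact hy
  · rw [show h * ((k : G)⁻¹ * h)⁻¹ = k by simp]
    exact ⟨k, hk, rfl⟩

end Cfsg.Agent.S2014
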