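import Cfsg.Statements.S2122
import Cfsg.Agent.Known.ChevAut.SpecialRange

set_option autoImplicit false
open Cfsg Cfsg.Lie Cfsg.Lib.Chev Cfsg.Lib.Known Cfsg.Lib.Known.ChevAut

namespace Cfsg.Agent.S2122

/-- Outer automorphisms of the Chevalley groups of type F₄: over a field with q = p^f (p prime) elements, the outer automorphism group of F₄(q) has order gcd(2, p) · f (field automorphisms, and in characteristic 2 also the exceptional graph automorphism). -/
theorem result {F : Type*} [Field F] [Fintype F] (p f : ℕ) [Fact p.Prime] [CharP F p] (hF : Fintype.card F = p ^ f) : Nat.card (Cfsg.Out ↥(Cfsg.Lie.chevF4.group F)) = Nat.gcd 2 p * f := by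
  obtain ⟨C, L, T, hT⟩ := tabs_of_mem (D := chevF4) (by simp)
  rw [card_out p f hF hT (by decide +kernel), index_torusVal f4Coker, range_F4 p hT]
  simp

end Cfsg.Agent.S2122
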