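import Cfsg.Statements.S2123
import Cfsg.Agent.Known.ChevAut.OutCard

set_option autoImplicit false
open Cfsg Cfsg.Lie Cfsg.Lib.Chev Cfsg.Lib.Known.ChevAut

namespace Cfsg.Agent.S2123

/-- Outer automorphisms of the (adjoint, simple) Chevalley groups of type E₆: over a field with q = p^f (p prime) elements, the outer automorphism group of E₆(q) has order 2 · gcd(3, q − 1) · f (diagonal, field and graph automorphisms). -/
theorem result {F : Type*} [Field F] [Fintype F] (p f : ℕ) [Fact p.Prime] [CharP F p] (hF : Fintype.card F = p ^ f) : Nat.card (Cfsg.Out ↥(Cfsg.Lie.chevE6.group F)) = 2 * Nat.gcd 3 (p ^ f - 1) * f := by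
  obtain ⟨C, L, T, hT⟩ := tabs_of_mem (D := chevE6) (by simp)
  let K : CokerData chevE6 3 := ⟨⟨0, by decide +kernel⟩, fun j => [1, 0, 2, 0, 1, 2].getD j.val 0,
    fun i => [0, 0, 1, -1, 0, 1].getD i.val 0, fun i => [4, 3, 5, 6, 4, 2].getD i.val 0,
    fun i m => ([[0, 1, -1, 2, 0, -2], [0, 2, 0, 3, 1, -1], [0, 2, 0, 4, 1, -2], [0, 3, 0, 6, 2, -2],
      [0, 2, 0, 4, 2, -1], [0, 1, 0, 2, 1, 0]].getD i.val []).getD m.val 0,
    by decide +kernel, by decide +kernel, by decide +kernel, by decide +kernel⟩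
  rw [card_out p f hF hT (by decide +kernel), index_torusVal K, hF]
  have hpos : ∀ r : Fin chevE6.nroots,
      (chevE6.nroots / 2 ≤ E6.graph.rho chevE6.rank r ↔ chevE6.nroots / 2 ≤ r.val) := by decide +kernel
  let π : Equiv.Perm (Fin chevE6.rank) :=
    Equiv.swap ⟨0, by decide +kernel⟩ ⟨5, by decide +kernel⟩ * Equiv.swap ⟨2, by decide +kernel⟩ ⟨4, by decide +kernel⟩
  have hπ : ∀ i : Fin chevE6.rank, (π i).val = [5, 1, 4, 3, 2, 0].getD i.val 0 := by decide +kernel
  have hmem := mem_range_of_graph (F := F) hT ⟨E6.ok, E6.okChain_, E6.okBase_all, okOrder_E6⟩ E6.graph_ok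
    E6.graph_simple hpos π hπ
  have h : Nat.card ↥(diagHom (F := F) hT).range = 2 := by
    refine le_antisymm (card_sym_le sym_E6 _ fun π ⟨θ, e⟩ => e ▸ diagHom_symmetry hT θ) ?_
    have hne : π ≠ 1 := by decide +kernel
    haveI : Nontrivial ↥(diagHom (F := F) hT).range := ⟨⟨⟨π, hmem⟩, 1, fun e => hne (congrArg Subtype.val e)⟩⟩
    exact Finite.one_lt_card
  rw [h]

end Cfsg.Agent.S2123
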