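import Cfsg.Statements.S2124
import Cfsg.Agent.Known.ChevAut.OutCard

set_option autoImplicit false
open Cfsg Cfsg.Lie Cfsg.Lib.Chev Cfsg.Lib.Known.ChevAut

namespace Cfsg.Agent.S2124

/-- Outer automorphisms of the (adjoint, simple) Chevalley groups of type E₇: over a field with q = p^f (p prime) elements, the outer automorphism group of E₇(q) has order gcd(2, q − 1) · f (diagonal and field automorphisms). -/
theorem result {F : Type*} [Field F] [Fintype F] (p f : ℕ) [Fact p.Prime] [CharP F p] (hF : Fintype.card F = p ^ f) : Nat.card (Cfsg.Out ↥(Cfsg.Lie.chevE7.group F)) = Nat.gcd 2 (p ^ f - 1) * f := by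
  obtain ⟨C, L, T, hT⟩ := tabs_of_mem (D := chevE7) (by simp)
  let K : CokerData chevE7 2 := ⟨⟨1, by decide +kernel⟩, fun j => [0, 1, 0, 0, 1, 0, 1].getD j.val 0,
    fun i => [0, 1, 0, -1, 1, -1, 1].getD i.val 0, fun i => [4, 7, 8, 12, 9, 6, 3].getD i.val 0,
    fun i m => ([[2, 0, 3, 4, 1, 2, -1], [2, 0, 4, 6, 1, 3, -2], [3, 0, 6, 8, 2, 4, -2], [4, 0, 8, 12, 3, 6, -3],
      [3, 0, 6, 9, 3, 5, -2], [2, 0, 4, 6, 2, 4, -1], [1, 0, 2, 3, 1, 2, 0]].getD i.val []).getD m.val 0,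
    by decide +kernel, by decide +kernel, by decide +kernel, by decide +kernel⟩
  rw [card_out p f hF hT (by decide +kernel), index_torusVal K, hF]
  have h : Nat.card ↥(diagHom (F := F) hT).range = 1 :=
    le_antisymm (card_sym_le sym_E7 _ fun π ⟨θ, e⟩ => e ▸ diagHom_symmetry hT θ) Nat.card_pos
  rw [h, one_mul]

end Cfsg.Agent.S2124
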