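import Cfsg.Statements.S2125
import Cfsg.Agent.Known.ChevAut.OutStruct

set_option autoImplicit false
open Cfsg Cfsg.Lie Cfsg.Lib.Chev Cfsg.Lib.Known.ChevAut

namespace Cfsg.Agent.S2125

/-- Outer automorphisms of the Chevalley groups of type E₈: over a field with p^f elements, p prime, the outer automorphism group of E₈(p^f) has order f (field automorphisms only). -/
theorem result {F : Type*} [Field F] [Fintype F] (p f : ℕ) [Fact p.Prime] [CharP F p] (hF : Fintype.card F = p ^ f) : Nat.card (Cfsg.Out ↥(Cfsg.Lie.chevE8.group F)) = f := by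
  have hmem : chevE8 ∈ [chevG2, chevB2, chevD4, chevF4, chevE6, chevE7, chevE8] := by simp
  obtain ⟨C, L, T, hT⟩ := tabs_of_mem hmem
  have hM : ∀ i k : Fin 8, ∑ j : Fin 8, chevE8.cartan i (chevE8.simple j) * (![![4, 5, 7, 10, 8, 6, 4, 2], ![5, 8, 10, 15, 12, 9, 6, 3], ![7, 10, 14, 20, 16, 12, 8, 4], ![10, 15, 20, 30, 24, 18, 12, 6], ![8, 12, 16, 24, 20, 15, 10, 5], ![6, 9, 12, 18, 15, 12, 8, 4], ![4, 6, 8, 12, 10, 8, 6, 3], ![2, 3, 4, 6, 5, 4, 3, 2]] : Fin 8 → Fin 8 → ℤ) j k = if i = k then 1 else 0 := by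
    decide +kernel
  have hM' : ∀ k j : Fin 8, ∑ i : Fin 8, (![![4, 5, 7, 10, 8, 6, 4, 2], ![5, 8, 10, 15, 12, 9, 6, 3], ![7, 10, 14, 20, 16, 12, 8, 4], ![10, 15, 20, 30, 24, 18, 12, 6], ![8, 12, 16, 24, 20, 15, 10, 5], ![6, 9, 12, 18, 15, 12, 8, 4], ![4, 6, 8, 12, 10, 8, 6, 3], ![2, 3, 4, 6, 5, 4, 3, 2]] : Fin 8 → Fin 8 → ℤ) k i * chevE8.cartan i (chevE8.simple j) = if k = j then 1 else 0 := by
    decide +kernel
  have S := hT.str
  have hr : 0 < chevE8.rank := by decide +kernel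
  let Φ : (F ≃+* F) →* Cfsg.Out ↥(chevE8.group F) := (QuotientGroup.mk' _).comp (fieldHom S F)
  have hsurj : Function.Surjective Φ := by
    intro o
    obtain ⟨θ, rfl⟩ := QuotientGroup.mk'_surjective _ o
    obtain ⟨a, d, g, φ, hd, hg, hf, e⟩ := decomp hT θ
    obtain ⟨π, hπ, hp, hm⟩ := graph_apply S hg
    have h1 := symmetry_E8 hπ
    subst h1
    have hg1 : g = 1 := mulAut_ext S (fun i t => by rw [hp]; simp [expo, graphExp_self])
      fun i t => by rw [hm]; simp [expo, graphExp_self]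
    obtain ⟨χ, hχ, hχd⟩ := diag_apply S hT.chr hd
    let c : Fin chevE8.rank → Fˣ := fun i => ∏ k : Fin chevE8.rank, χ (chevE8.simple k) ^
      (![![4, 5, 7, 10, 8, 6, 4, 2], ![5, 8, 10, 15, 12, 9, 6, 3], ![7, 10, 14, 20, 16, 12, 8, 4], ![10, 15, 20, 30, 24, 18, 12, 6], ![8, 12, 16, 24, 20, 15, 10, 5], ![6, 9, 12, 18, 15, 12, 8, 4], ![4, 6, 8, 12, 10, 8, 6, 3], ![2, 3, 4, 6, 5, 4, 3, 2]] : Fin 8 → Fin 8 → ℤ) k i
    have hc : ∀ j : Fin chevE8.rank, ∏ i, c i ^ chevE8.cartan i (chevE8.simple j) = χ (chevE8.simple j) := by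
      intro j
      have hz : ∀ (a : Fˣ) (f : Fin chevE8.rank → ℤ), ∏ i, a ^ f i = a ^ ∑ i, f i := by
        intro a f
        induction (Finset.univ : Finset (Fin chevE8.rank)) using Finset.induction with
        | empty => simp
        | insert x s hx ih => rw [Finset.prod_insert hx, Finset.sum_insert hx, zpow_add, ih]
      simp only [c, ← Finset.prod_zpow, ← zpow_mul]
      rw [Finset.prod_comm, Finset.prod_eq_single j]
      · rw [hz]
        exact (congrArg _ ((hM' j j).trans (if_pos rfl))).trans (zpow_one _)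
      · intro k _ hk
        rw [hz]
        exact (congrArg _ ((hM' k j).trans (if_neg hk))).trans (zpow_zero _)
      · simp
    let h : ↥(chevE8.group F) := ⟨Ok.tG chevE8 F c, S.diag_le_group (S.ok.diagonalSubgroup_eq.ge ⟨c, rfl⟩)⟩
    have hh : (h : GL chevE8.Idx F) ∈ chevE8.diagonalSubgroup F := S.ok.diagonalSubgroup_eq.ge ⟨c, rfl⟩
    have hd1 : d = MulAut.conj h := by
      have hs := (shape_conj_diag S hh)
      have hη : ∀ i t, ((MulAut.conj h)⁻¹ * d) (gp S i t) = gp S i t := by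
        intro i t
        have e1 : MulAut.conj h (gp S i t) = d (gp S i t) := by
          rw [gp, hχd _ (simple_lt S i)]
          refine Subtype.ext ?_
          show Ok.tG chevE8 F c * S.ok.xG _ t * (Ok.tG chevE8 F c)⁻¹ = _
          rw [S.tG_conj_xG (simple_lt S i), hc]
        rw [MulAut.mul_apply, ← e1, MulAut.inv_apply_self]
      have hd' := shape_diag S hT.chr hd
      have hU : Fixes ((MulAut.conj h)⁻¹ * d) (chevE8.posUnipotent F) := hs.1.symm.mul hd'.1
      have hV : Fixes ((MulAut.conj h)⁻¹ * d) (chevE8.negUnipotent F) := hs.2.1.symm.mul hd'.2.1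
      obtain ⟨π', f', g', P⟩ := exists_param hT hU hV
      have hπ' : π' = 1 := Equiv.ext fun i => xp_unique S hT.neg ((P.pos i 1).symm.trans (hη i 1)) (P.ne_zero i one_ne_zero)
      subst hπ'
      have hf' : ∀ i t, f' i t = t := fun i t => gp_inj S i ((P.pos i t).symm.trans (hη i t))
      refine (inv_mul_eq_one.1 (mulAut_ext S (η' := 1) hη fun i t => ?_)).symm
      rw [P.negEq]
      rcases eq_or_ne t 0 with rfl | ht
      · have h0 : gm S i (0 : F) = 1 := Subtype.ext (S.xG_zero _)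
        have h1 := P.negEq i (0 : F)
        rw [h0, map_one] at h1
        exact h1.symm.trans (by rw [h0]; rfl)
      · have h1 := P.g_eq hT.neg i (t := -t⁻¹) (by simp [ht])
        rw [hf'] at h1
        simp only [inv_neg, inv_inv, neg_neg] at h1
        rw [h1]
        rfl
    obtain ⟨σ, rfl⟩ := (mem_fieldHom_range S).2 hf
    refine ⟨σ, ?_⟩
    show QuotientGroup.mk' _ _ = QuotientGroup.mk' _ θ
    rw [e, hg1, mul_one, hd1, ← map_mul, map_mul (QuotientGroup.mk' _),
      show QuotientGroup.mk' _ (MulAut.conj (a * h)) = (1 : Cfsg.Out ↥(chevE8.group F)) from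
        (QuotientGroup.eq_one_iff _).2 ⟨_, rfl⟩, one_mul]
  have hinj : Function.Injective Φ := by
    refine (injective_iff_map_eq_one _).2 fun σ hσ => ?_
    obtain ⟨a, ha⟩ := (QuotientGroup.eq_one_iff _).1 hσ
    exact inner_eq_field hT hr (fun r hr t => fieldHom_root S σ hr t) ha
  rw [← Nat.card_congr (Equiv.ofBijective Φ ⟨hinj, hsurj⟩)]
  exact (ringAut_facts p f hF).2

end Cfsg.Agent.S2125
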