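import Cfsg.Statements.S2133
import Cfsg.Agent.Golay.AffineSixteen

set_option autoImplicit false
open Cfsg

namespace Cfsg.Agent.S2133

open Cfsg.Lib.Golay Cfsg.Lib.PermCert


/-- The Mathieu group M₂₄ (the automorphism group of the length-24 binary code) has an involution whose centraliser is isomorphic to the centraliser of a transvection in SL(5, 2) (a group of shape 2^{1+6}:GL(3, 2)). -/
theorem result (s : Matrix.SpecialLinearGroup (Fin 5) (ZMod 2)) (hs : (s : Matrix (Fin 5) (Fin 5) (ZMod 2)) = Matrix.transvection 0 1 1) : ∃ z : ↥Cfsg.M24, orderOf z = 2 ∧ Nonempty (↥(Subgroup.centralizer ({z} : Set ↥Cfsg.M24)) ≃* ↥(Subgroup.centralizer ({s} : Set (Matrix.SpecialLinearGroup (Fin 5) (ZMod 2))))) := by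
  haveI : Fact (Nat.Prime 2) := ⟨Nat.prime_two⟩
  obtain rfl : s = transFive := Subtype.ext hs
  have hz : toP invA.1 ∈ Cfsg.M24 := toP_mem_M24 reps_ok.2.2.2.2.1
  set z : Cfsg.M24 := ⟨toP invA.1, hz⟩ with hzdef
  have h2 : toP invA.1 * toP invA.1 = 1 ∧ toP invA.1 ≠ 1 := by decide +kernel
  refine ⟨z, orderOf_eq_prime (Subtype.ext (by rw [pow_two]; exact h2.1)) fun e => h2.2 (congrArg Subtype.val e), ?_⟩
  obtain ⟨e⟩ := centralizer_invA_iso
  have hmap : (Subgroup.centralizer ({z} : Set Cfsg.M24)).map Cfsg.M24.subtype = cgInvA.grp := by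
    ext c
    rw [← centralizer_invA]
    constructor
    · rintro ⟨n, hn, rfl⟩
      exact ⟨n.2, congrArg Subtype.val (Subgroup.mem_centralizer_singleton_iff.mp hn)⟩
    · rintro ⟨hc, hcomm⟩
      exact ⟨⟨c, hc⟩, Subgroup.mem_centralizer_singleton_iff.mpr (Subtype.ext hcomm), rfl⟩
  exact ⟨((Subgroup.equivMapOfInjective _ _ Cfsg.M24.subtype_injective).trans (MulEquiv.subgroupCongr hmap)).trans e⟩

end Cfsg.Agent.S2133
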