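import Cfsg.Statements.S2158
import Cfsg.Agent.Known.ChevChar
import Cfsg.Agent.Chev.Bruhat
import Cfsg.Agent.Chev.More

set_option autoImplicit false
open Cfsg Cfsg.Lie Cfsg.Lib.Chev

namespace Cfsg.Agent.S2158

/-- In a Chevalley group of type G₂, B₂, D₄, F₄, E₆, E₇ or E₈ over any field, an element of the group whose matrix is the diagonal matrix `ĥ(χ)` of a character `χ` of the root lattice already lies in the diagonal subgroup H (the non-trivial inclusion of the statement that the group meets the group of all such diagonal matrices in H). -/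
theorem result {F : Type*} [Field F] (D : Cfsg.Lie.ChevalleyDatum) (hD : D ∈ [Cfsg.Lie.chevG2, Cfsg.Lie.chevB2, Cfsg.Lie.chevD4, Cfsg.Lie.chevF4, Cfsg.Lie.chevE6, Cfsg.Lie.chevE7, Cfsg.Lie.chevE8]) (χ : ℕ → Fˣ) (hχ : D.IsRootCharacter χ) (g : GL D.Idx F) (hg : g ∈ D.group F)
    (hgχ : (g : Matrix D.Idx D.Idx F) = D.charDiag F χ) : g ∈ D.diagonalSubgroup F := by
  obtain ⟨C, S⟩ := struct_of_mem hD
  have hc := Cfsg.Lib.Known.okChar_of_mem hD
  have hN := okNeg_of_mem hD
  obtain ⟨b, hb, n, hn, L, hact, u, hu, e⟩ := S.normal_form hN hg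
  have hu0 : u ∈ D.posUnipotent F := S.UPsi_le _ hu
  -- `g` normalises `U`
  have hnorm : ∀ x ∈ D.posUnipotent F, g * x * g⁻¹ ∈ D.posUnipotent F := by
    have hle : D.posUnipotent F ≤ (D.posUnipotent F).comap (MulAut.conj g).toMonoidHom := by
      refine (Subgroup.closure_le _).2 ?_
      rintro x ⟨r, t, hr, hx⟩
      refine Subgroup.subset_closure ⟨r, (χ r : F) * t, hr, ?_⟩
      change ((g * x * g⁻¹ : GL D.Idx F) : Matrix D.Idx D.Idx F) = _
      rw [Units.val_mul, Units.val_mul, hx, hgχ, Cfsg.Lib.Known.charDiag_mul_x S.ok hc hχ hr.1, mul_assoc,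
        ← hgχ, Units.mul_inv, mul_one]
    exact fun x hx => hle hx
  have hu1 := hnorm _ (inv_mem hu0)
  set u1 := g * u⁻¹ * g⁻¹ with hu1d
  have e1 : b * n * u = u1⁻¹ * b * n * 1 := by
    rw [← e, hu1d]
    calc g = (g * u⁻¹ * g⁻¹)⁻¹ * ((g * u⁻¹ * g⁻¹) * g) := by group
      _ = (g * u⁻¹ * g⁻¹)⁻¹ * (g * u⁻¹) := by group
      _ = (g * u⁻¹ * g⁻¹)⁻¹ * b * n * 1 := by rw [e]; group
  obtain ⟨-, rfl⟩ := S.normal_form_unique hN hb
    (mul_mem (inv_mem (S.B_le_of hu1)) hb) hact hu (one_mem _) e1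
  rw [mul_one] at e
  obtain ⟨u0, hu0', d, hd, rfl⟩ := S.borel_decomp hb
  have hn' : d * n ∈ D.monomialSubgroup F := mul_mem ((le_sup_left : D.diagonalSubgroup F ≤ D.monomialSubgroup F) hd) hn
  obtain ⟨L', hact', hiff⟩ := S.exists_act hn'
  have hgd : ∀ x y, x ≠ y → (g : Matrix D.Idx D.Idx F) x y = 0 := fun x y h => by
    rw [hgχ, ChevalleyDatum.charDiag, Matrix.diagonal_apply_ne _ h]
  have hw : S.wpL L' = 1 := by
    refine Equiv.ext fun r => ?_
    by_contra hne
    rw [Equiv.Perm.one_apply] at hne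
    have h1 := (hact' r).1 (Sum.inr r) (fun e => hne (Sum.inr.inj e).symm)
    have h2 := S.low_of_mem (inv_mem hu0') (Sum.inr r) (Sum.inr r) le_rfl
    rw [Matrix.sub_apply, Matrix.one_apply_eq, sub_eq_zero] at h2
    rw [show d * n = u0⁻¹ * g by rw [e]; group, Units.val_mul, Matrix.mul_apply, Finset.sum_eq_single (Sum.inr r : D.Idx)] at h1
    · rw [h2, one_mul, hgχ, ChevalleyDatum.charDiag, Matrix.diagonal_apply_eq] at h1
      exact (χ r).ne_zero h1
    · intro z _ hz; rw [hgd _ _ hz, mul_zero]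
    · simp
  have hh := hiff.1 hw
  have hu_one : u0 = 1 := by
    have h0 : u0 ∈ D.posUnipotent F ⊓ D.diagonalSubgroup F := by
      refine Subgroup.mem_inf.2 ⟨hu0', ?_⟩
      have hxy : ∀ x y : D.Idx, x ≠ y → (u0 : Matrix D.Idx D.Idx F) x y = 0 := by
        intro x y hne
        rw [show u0 = g * (d * n)⁻¹ by rw [e]; group, Units.val_mul, Matrix.mul_apply, Finset.sum_eq_single x]
        · rw [S.diag_apply_ne (inv_mem hh) hne, mul_zero]
        · intro z _ hz; rw [hgd _ _ hz.symm, zero_mul]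
        · simp
      have : u0 = 1 := by
        apply Units.ext
        ext x y
        rw [Units.val_one]
        rcases eq_or_ne x y with rfl | hne
        · have := S.low_of_mem hu0' x x le_rfl
          rwa [Matrix.sub_apply, sub_eq_zero] at this
        · rw [hxy x y hne, Matrix.one_apply_ne hne]
      rw [this]; exact one_mem _
    rw [S.U_inf_H, Subgroup.mem_bot] at h0
    exact h0
  rw [e, hu_one, one_mul]
  exact hh

end Cfsg.Agent.S2158
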