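import Cfsg.Statements.S2160
import Cfsg.Agent.Chev.Order
import Cfsg.Agent.Chev.Basic

set_option autoImplicit false
open Cfsg Cfsg.Lie Cfsg.Lib.Chev

namespace Cfsg.Agent.S2160

/-- In a Chevalley group of type G₂, B₂, D₄, F₄, E₆, E₇ or E₈ over a finite field, every field automorphism commutes with every graph automorphism. -/
theorem result {F : Type*} [Field F] [Finite F] (D : Cfsg.Lie.ChevalleyDatum) (hD : D ∈ [Cfsg.Lie.chevG2, Cfsg.Lie.chevB2, Cfsg.Lie.chevD4, Cfsg.Lie.chevF4, Cfsg.Lie.chevE6, Cfsg.Lie.chevE7, Cfsg.Lie.chevE8]) (f g : ↥(D.group F) ≃* ↥(D.group F))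
    (hf : D.IsFieldAut f) (hg : D.IsGraphAut g) (y : ↥(D.group F)) : f (g y) = g (f y) := by
  obtain ⟨C, S⟩ := struct_of_mem hD
  have h := S.ok
  let X : ℕ → F → ↥(D.group F) := fun r t => ⟨h.xG r t, h.xG_mem_group r t⟩
  let E : Subgroup ↥(D.group F) := MonoidHom.eqLocus (g.trans f).toMonoidHom (f.trans g).toMonoidHom
  obtain ⟨σ, hσ⟩ := hf
  obtain ⟨π, -, hπ⟩ := hg
  have fX : ∀ r t, r < D.nroots → f (X r t) = X r (σ t) := fun r t hr =>
    Subtype.ext (Units.ext (hσ _ r t hr rfl))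
  have hgX : ∀ (i : Fin D.rank) (t : F), g (X (D.simple i) t) = X (D.simple (π i)) (t ^ D.graphExp (ringChar F) i (π i)) ∧
      g (X (D.neg (D.simple i)) t) = X (D.neg (D.simple (π i))) (t ^ D.graphExp (ringChar F) i (π i)) := fun i t =>
    ⟨Subtype.ext (Units.ext ((hπ (X (D.simple i) t) i t).1 rfl)),
      Subtype.ext (Units.ext ((hπ (X (D.neg (D.simple i)) t) i t).2 rfl))⟩
  have hsl : ∀ i : Fin D.rank, D.simple i < D.nroots := fun i => h.sr_eq i.isLt ▸ h.sr_lt i.isLt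
  have hnl : ∀ i : Fin D.rank, D.neg (D.simple i) < D.nroots := fun i => by
    have hb := h.basics.2.2.2.2.1 (D.simple i) (hsl i)
    rw [← h.neg_eq (hsl i)]
    exact hb.2.1
  have hbase : ∀ (i : Fin D.rank) (t : F), X (D.simple i) t ∈ E ∧ X (D.neg (D.simple i)) t ∈ E := by
    intro i t
    constructor <;> change f (g _) = g (f _)
    · rw [(hgX i t).1, fX _ _ (hsl _), fX _ _ (hsl _), (hgX i (σ t)).1, map_pow]
    · rw [(hgX i t).2, fX _ _ (hnl _), fX _ _ (hnl _), (hgX i (σ t)).2, map_pow]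
  have hall : ∀ r < D.nroots, ∀ t : F, X r t ∈ E := by
    refine h.root_induction (motive := fun r => ∀ t : F, X r t ∈ E) (fun i hi => ?_) fun i r hi hr ih t => ?_
    · rw [h.neg_eq (h.sr_lt hi), h.sr_eq hi]
      exact ⟨fun t => (hbase ⟨i, hi⟩ t).1, fun t => (hbase ⟨i, hi⟩ t).2⟩
    · set n : ↥(D.group F) := ⟨h.nG (D.simple i) 1, h.nG_mem_group _ _⟩ with hn
      have hnE : n ∈ E := by
        have e : n = X (D.simple i) 1 * X (D.neg (D.simple i)) (-1⁻¹) * X (D.simple i) 1 := Subtype.ext rfl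
        rw [e]
        exact mul_mem (mul_mem (hbase ⟨i, hi⟩ 1).1 (hbase ⟨i, hi⟩ _).2) (hbase ⟨i, hi⟩ 1).1
      have hq := h.conj_nG_xG (F := F) hi (h.w_lt hi hr) ((C.eta i (C.w i r) : F) * t)
      rw [(h.refl_spec hi hr).1, ← mul_assoc] at hq
      have hsq : (C.eta i (C.w i r) : F) * (C.eta i (C.w i r) : F) = 1 := by
        rcases Ok.eta_cases C i (C.w i r) with e | e <;> simp [e]
      rw [hsq, one_mul] at hq
      have : X r t = n * X (C.w i r) ((C.eta i (C.w i r) : F) * t) * n⁻¹ := Subtype.ext hq.symm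
      rw [this]
      exact mul_mem (mul_mem hnE (ih _)) (inv_mem hnE)
  have hle : D.group F ≤ E.map (D.group F).subtype := by
    conv_lhs => unfold ChevalleyDatum.group
    refine (Subgroup.closure_le _).2 ?_
    rintro a ⟨r, t, ha⟩
    refine ⟨X r t, hall r r.isLt t, Units.ext ?_⟩
    rw [ha]
    simp [X, ChevalleyDatum.x]
  obtain ⟨z, hz, hze⟩ := hle y.2
  rw [show y = z from Subtype.ext hze.symm]
  exact hz

end Cfsg.Agent.S2160
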