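import Cfsg.Statements.S2161
import Cfsg.Agent.Known.ChevAut.OutCard

set_option autoImplicit false
open Cfsg Cfsg.Lie Cfsg.Lib.Chev Cfsg.Lib.Known.ChevAut

namespace Cfsg.Agent.S2161

/-- `permRoot` of a symmetry given by the list of images. -/
def permRootL (D : ChevalleyDatum) (l : List ℕ) (r : ℕ) : ℕ :=
  ((List.range D.nroots).find? fun s => (List.finRange D.rank).all fun i =>
      (D.coroot.getD s #[]).getD (l.getD i.val 0) 0 == (D.coroot.getD r #[]).getD i.val 0).getD r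

theorem permRootL_eq {D : ChevalleyDatum} (π : Equiv.Perm (Fin D.rank)) (r : ℕ) :
    permRootL D (nodeList π D.rank) r = D.permRoot π r := by
  unfold permRootL ChevalleyDatum.permRoot
  have h : ∀ i : Fin D.rank, (nodeList π D.rank).getD i.val 0 = (π i).val := fun i => by
    simp [nodeList, List.getD, i.isLt]
  simp only [h]

/-- The root permutation of a symmetry commutes with the fundamental reflections. -/
noncomputable def okPerm (D : ChevalleyDatum) (C : Cert) (l : List ℕ) : Bool :=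
  kall (fun i => Nat.beq (permRootL D l (D.simple i)) (D.simple (l.getD i 0)) &&
    Nat.beq (permRootL D l (D.neg (D.simple i))) (D.neg (D.simple (l.getD i 0))) &&
    kall (fun r => Nat.beq (permRootL D l (C.w i r)) (C.w (l.getD i 0) (permRootL D l r))) (krange 0 D.nroots))
    (krange 0 D.rank) && kall (fun r => Nat.blt (permRootL D l r) D.nroots) (krange 0 D.nroots)

theorem okPerm_D4 : kall (okPerm chevD4 D4.cert) (symList chevD4) = true := by decide +kernel

theorem okPerm_E6 : kall (okPerm chevE6 E6.cert) (symList chevE6) = true := by decide +kernel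

theorem main {D : ChevalleyDatum} {C : Cert} {F : Type*} [Field F] (S : Struct D C)
    (hok : kall (okPerm D C) (symList D) = true)
    (π : Equiv.Perm (Fin D.rank)) (hπ : D.IsDiagramSymmetry π) (φ : ↥(D.group F) ≃* ↥(D.group F))
    (hp : ∀ i t, φ (gp S i t) = gp S (π i) t) (hm : ∀ i t, φ (gm S i t) = gm S (π i) t) :
    ∀ r < D.nroots, ∃ ε : F, (ε = 1 ∨ ε = -1) ∧ ∀ t : F,
      φ ⟨S.ok.xG r t, S.ok.xG_mem_group _ _⟩ = ⟨S.ok.xG (D.permRoot π r) (ε * t), S.ok.xG_mem_group _ _⟩ := by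
  have h0 := (kall_iff _ _).1 hok _ (mem_symPrefix hπ D.rank le_rfl)
  simp only [okPerm, Bool.and_eq_true] at h0
  have hlt : ∀ r < D.nroots, D.permRoot π r < D.nroots := fun r hr => by
    rw [← permRootL_eq]; exact blt_true.1 (kall_krange h0.2 r hr)
  have hsp : ∀ i : Fin D.rank, D.permRoot π (D.simple i) = D.simple (π i) ∧
      D.permRoot π (D.neg (D.simple i)) = D.neg (D.simple (π i)) ∧
      ∀ r < D.nroots, D.permRoot π (C.w i r) = C.w (π i) (D.permRoot π r) := by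
    intro i
    have h1 := kall_krange h0.1 i.val i.isLt
    simp only [Bool.and_eq_true] at h1
    have h : (nodeList π D.rank).getD i.val 0 = (π i).val := by simp [nodeList, List.getD, i.isLt]
    simp only [permRootL_eq, h] at h1
    exact ⟨Nat.eq_of_beq_eq_true h1.1.1, Nat.eq_of_beq_eq_true h1.1.2,
      fun r hr => Nat.eq_of_beq_eq_true (kall_krange h1.2 r hr)⟩
  have hn : ∀ i : Fin D.rank, φ (gn S i 1) = gn S (π i) 1 := fun i => by
    rw [gn_eq, gn_eq, map_mul, map_mul, hp, hm]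
  refine S.ok.root_induction (fun i hi => ⟨⟨1, Or.inl rfl, fun t => ?_⟩, ⟨1, Or.inl rfl, fun t => ?_⟩⟩)
    fun i r hi hr ih => ?_
  · obtain ⟨h1, -, -⟩ := hsp ⟨i, hi⟩
    refine (congrArg φ (Subtype.ext (congrArg (fun q => S.ok.xG q t) (S.ok.sr_eq hi)) :
      (⟨S.ok.xG (C.sr i) t, S.ok.xG_mem_group _ _⟩ : ↥(D.group F)) = gp S ⟨i, hi⟩ t)).trans ?_
    rw [hp]
    refine Subtype.ext ?_
    show S.ok.xG _ _ = S.ok.xG _ _
    rw [one_mul, S.ok.sr_eq hi, h1]
  · obtain ⟨-, h1, -⟩ := hsp ⟨i, hi⟩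
    have e : C.neg (C.sr i) = D.neg (D.simple i) := by
      rw [S.ok.sr_eq hi, S.ok.neg_eq (simple_lt S ⟨i, hi⟩)]
    refine (congrArg φ (Subtype.ext (congrArg (fun q => S.ok.xG q t) e) :
      (⟨S.ok.xG (C.neg (C.sr i)) t, S.ok.xG_mem_group _ _⟩ : ↥(D.group F)) = gm S ⟨i, hi⟩ t)).trans ?_
    rw [hm]
    refine Subtype.ext ?_
    show S.ok.xG _ _ = S.ok.xG _ _
    rw [one_mul, e, h1]
  · obtain ⟨ε, hε, hφ⟩ := ih
    obtain ⟨-, -, h1⟩ := hsp ⟨i, hi⟩
    have hwr := S.ok.w_lt hi hr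
    have h2 := h1 (C.w i r) hwr
    rw [S.ok.w_w hi hr] at h2
    set η : F := (C.eta i (C.w i r) : F) with hη
    set η' : F := (C.eta (π ⟨i, hi⟩) (D.permRoot π (C.w i r)) : F) with hη'
    refine ⟨η' * (ε * η), ?_, fun t => ?_⟩
    · have a : η = 1 ∨ η = -1 := by
        rcases Cfsg.Lib.Chev.Ok.eta_cases C i (C.w i r) with e | e <;> simp [hη, e]
      have b : η' = 1 ∨ η' = -1 := by
        rcases Cfsg.Lib.Chev.Ok.eta_cases C (π ⟨i, hi⟩) (D.permRoot π (C.w i r)) with e | e <;> simp [hη', e]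
      rcases a with a | a <;> rcases b with b | b <;> rcases hε with c | c <;> simp [a, b, c]
    · have e : (⟨S.ok.xG r t, S.ok.xG_mem_group _ _⟩ : ↥(D.group F)) =
          gn S ⟨i, hi⟩ 1 * ⟨S.ok.xG (C.w i r) (η * t), S.ok.xG_mem_group _ _⟩ * (gn S ⟨i, hi⟩ 1)⁻¹ := by
        refine Subtype.ext ?_
        show S.ok.xG r t = S.ok.nG (D.simple i) 1 * S.ok.xG (C.w i r) (η * t) * (S.ok.nG (D.simple i) 1)⁻¹
        rw [S.ok.conj_nG_xG hi hwr, S.ok.w_w hi hr, ← mul_assoc, hη, Ok.eta_sq, one_mul]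
      rw [e, map_mul, map_mul, map_inv, hn, hφ]
      refine Subtype.ext ?_
      show S.ok.nG (D.simple (π ⟨i, hi⟩)) 1 * S.ok.xG (D.permRoot π (C.w i r)) (ε * (η * t)) *
        (S.ok.nG (D.simple (π ⟨i, hi⟩)) 1)⁻¹ = S.ok.xG (D.permRoot π r) (η' * (ε * η) * t)
      rw [S.ok.conj_nG_xG (π ⟨i, hi⟩).isLt (hlt _ hwr), ← h2, ← hη']
      congr 1
      ring

/-- For the Chevalley groups of types D₄ and E₆ (one root length) over any field: if `π` is a symmetry of the Dynkin diagram and `φ` is an automorphism sending `x_{p_i}(t)` to `x_{p_{π i}}(t)` and `x_{-p_i}(t)` to `x_{-p_{π i}}(t)` for every fundamental root `p_i`, then for every root `r` there is a sign `ε = ±1` with `φ(x_r(t)) = x_{π·r}(ε t)` for all `t`, where `π·r` is the root whose coefficients are those of `r` permuted by `π`. -/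
theorem result {F : Type*} [Field F] (D : Cfsg.Lie.ChevalleyDatum) (hD : D ∈ [Cfsg.Lie.chevD4, Cfsg.Lie.chevE6])
    (π : Equiv.Perm (Fin D.rank)) (hπ : D.IsDiagramSymmetry π) (φ : ↥(D.group F) ≃* ↥(D.group F))
    (hφ : ∀ (g : ↥(D.group F)) (i : Fin D.rank) (t : F),
      (((g : GL D.Idx F) : Matrix D.Idx D.Idx F) = D.x F (D.simple i) t →
        ((φ g : GL D.Idx F) : Matrix D.Idx D.Idx F) = D.x F (D.simple (π i)) t) ∧
      (((g : GL D.Idx F) : Matrix D.Idx D.Idx F) = D.x F (D.neg (D.simple i)) t →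
        ((φ g : GL D.Idx F) : Matrix D.Idx D.Idx F) = D.x F (D.neg (D.simple (π i))) t))
    (r : ℕ) (hr : r < D.nroots) :
    ∃ ε : F, (ε = 1 ∨ ε = -1) ∧ ∀ (g : ↥(D.group F)) (t : F),
      ((g : GL D.Idx F) : Matrix D.Idx D.Idx F) = D.x F r t →
        ((φ g : GL D.Idx F) : Matrix D.Idx D.Idx F) = D.x F (D.permRoot π r) (ε * t) := by
  obtain ⟨C, S, hok⟩ : ∃ C, ∃ _ : Struct D C, kall (okPerm D C) (symList D) = true := by
    simp only [List.mem_cons, List.not_mem_nil, or_false] at hD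
    rcases hD with rfl | rfl
    · exact ⟨_, ⟨D4.ok, D4.okChain_, D4.okBase_all, okOrder_D4⟩, okPerm_D4⟩
    · exact ⟨_, ⟨E6.ok, E6.okChain_, E6.okBase_all, okOrder_E6⟩, okPerm_E6⟩
  obtain ⟨ε, hε, h⟩ := main S hok π hπ φ
    (fun i t => Subtype.ext (Units.ext ((hφ (gp S i t) i t).1 (S.ok.val_xG _ _))))
    (fun i t => Subtype.ext (Units.ext ((hφ (gm S i t) i t).2 (S.ok.val_xG _ _)))) r hr
  refine ⟨ε, hε, fun g t hg => ?_⟩
  obtain rfl : g = ⟨S.ok.xG r t, S.ok.xG_mem_group _ _⟩ := Subtype.ext (S.ok.eq_xG hg)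
  rw [h t]
  exact S.ok.val_xG _ _

end Cfsg.Agent.S2161
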