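import Cfsg.Statements.S2162
import Cfsg.Agent.Known.UnipotentSL
import Cfsg.Agent.Known.UnipotentDet

set_option autoImplicit false
open Cfsg

namespace Cfsg.Agent.S2162

/-- Conjugacy of involutions in the special linear group over a finite field of characteristic two, in dimension at least 3: two elements of order 2 of SL_n(F) are conjugate in SL_n(F) exactly when the matrices a − 1 and b − 1 have the same rank (the rank of a − 1 is the dimension of the commutator space [V, a]). -/
theorem result {F : Type*} [Field F] [Fintype F] [CharP F 2] {n : ℕ} (hn : 3 ≤ n) (a b : Matrix.SpecialLinearGroup (Fin n) F) (ha : orderOf a = 2) (hb : orderOf b = 2) :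
    IsConj a b ↔ ((a : Matrix (Fin n) (Fin n) F) - 1).rank = ((b : Matrix (Fin n) (Fin n) F) - 1).rank := by
  classical
  haveI : Fact (Nat.Prime 2) := ⟨Nat.prime_two⟩
  haveI : Nonempty (Fin n) := ⟨⟨0, by omega⟩⟩
  have hsq : ∀ c : Matrix.SpecialLinearGroup (Fin n) F, orderOf c = 2 → ((c : Matrix (Fin n) (Fin n) F) - 1) ^ 2 = 0 := by
    intro c hc
    have h1 : c ^ 2 = 1 := hc ▸ pow_orderOf_eq_one c
    rw [sub_pow_char_of_commute 2 (Commute.one_right _), one_pow, sub_eq_zero]
    exact congrArg Subtype.val h1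
  constructor
  · intro h
    obtain ⟨T, hT⟩ := isConj_iff.1 h
    rw [mul_inv_eq_iff_eq_mul] at hT
    have e : (T : Matrix (Fin n) (Fin n) F) * ((a : Matrix (Fin n) (Fin n) F) - 1) =
        ((b : Matrix (Fin n) (Fin n) F) - 1) * (T : Matrix (Fin n) (Fin n) F) := by
      rw [mul_sub, sub_mul, mul_one, one_mul, ← Matrix.SpecialLinearGroup.coe_mul, hT, Matrix.SpecialLinearGroup.coe_mul]
    have hu : IsUnit (T : Matrix (Fin n) (Fin n) F).det := by rw [T.2]; exact isUnit_one
    have h1 := congrArg Matrix.rank e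
    rwa [Matrix.rank_mul_eq_right_of_isUnit_det _ _ hu, Matrix.rank_mul_eq_left_of_isUnit_det _ _ hu] at h1
  · intro hr
    obtain ⟨μ, hμ2, hμ⟩ := Cfsg.Lib.UnipClasses.exists_type (hsq a ha)
    have hμb := hμ.of_sq_zero (hsq a ha) (hsq b hb) hr
    refine Cfsg.Lib.UnipClasses.isConj_SL_of_type a b hμ hμb fun d hd => ?_
    have hlen : 0 < μ.parts.toList.length := by
      by_contra h0
      have := μ.parts_sum
      rw [Multiset.length_toList, Nat.not_lt, Nat.le_zero, Multiset.card_eq_zero] at h0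
      rw [h0, Multiset.sum_zero] at this
      omega
    obtain ⟨c, hc⟩ : ∃ c : F, c ^ Cfsg.Lib.UnipClasses.lens μ ⟨0, hlen⟩ = d := by
      have h1 := μ.parts_pos (Cfsg.Lib.UnipClasses.lens_mem μ ⟨0, hlen⟩)
      have h2 := hμ2 _ (Cfsg.Lib.UnipClasses.lens_mem μ ⟨0, hlen⟩)
      interval_cases (Cfsg.Lib.UnipClasses.lens μ ⟨0, hlen⟩)
      · exact ⟨d, pow_one d⟩
      · obtain ⟨c, hc⟩ := FiniteField.isSquare_of_char_two (ringChar.eq F 2) d
        exact ⟨c, by rw [sq]; exact hc.symm⟩
    refine ⟨Function.update (fun _ => 1) ⟨0, hlen⟩ c, ?_⟩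
    rw [Finset.prod_eq_single (⟨0, hlen⟩ : Fin μ.parts.toList.length)
      (fun i _ hi => by rw [Function.update_of_ne hi, one_pow]) (by simp), Function.update_self, hc]

end Cfsg.Agent.S2162
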