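import Cfsg.Statements.S2163
import Mathlib

set_option autoImplicit false
open Cfsg Matrix

namespace Cfsg.Agent.S2163

/-- Over a finite field of characteristic two and for n ≥ 3: for every ℓ with 1 ≤ ℓ and 2ℓ ≤ n, the matrix j_ℓ that is the identity plus the entries 1 in positions (n − ℓ + i, i) for i < ℓ (an identity block of size ℓ in the lower left corner) lies in SL_n(F), has order 2, and j_ℓ − 1 has rank ℓ. Together with the conjugacy criterion by rank, these matrices represent the conjugacy classes of involutions of SL_n(F). -/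
theorem result {F : Type*} [Field F] [Fintype F] [CharP F 2] {n : ℕ} (hn : 3 ≤ n) (ℓ : ℕ) (h1 : 1 ≤ ℓ) (h2 : 2 * ℓ ≤ n) :
    ∃ a : Matrix.SpecialLinearGroup (Fin n) F, (a : Matrix (Fin n) (Fin n) F) = 1 + Matrix.of (fun i j : Fin n => if j.val < ℓ ∧ i.val = j.val + (n - ℓ) then (1 : F) else 0) ∧ orderOf a = 2 ∧ ((a : Matrix (Fin n) (Fin n) F) - 1).rank = ℓ := by
  classical
  set N : Matrix (Fin n) (Fin n) F := Matrix.of (fun i j : Fin n => if j.val < ℓ ∧ i.val = j.val + (n - ℓ) then (1 : F) else 0) with hN
  have hdet : (1 + N).det = 1 := by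
    rw [det_of_lowerTriangular]
    · refine Finset.prod_eq_one fun i _ => ?_
      change (1 + N) i i = 1
      rw [Matrix.add_apply, one_apply_eq, hN, of_apply, if_neg (by rintro ⟨h, h'⟩; omega), add_zero]
    · intro i j hij
      change (1 + N) i j = 0
      rw [Matrix.add_apply, hN, of_apply, one_apply_ne (by intro h; subst h; exact absurd hij (lt_irrefl _)), if_neg, zero_add]
      rintro ⟨h, h'⟩
      have : i.val < j.val := hij
      omega
  have hsq : N * N = 0 := by
    ext i j
    rw [mul_apply]
    refine Finset.sum_eq_zero fun k _ => ?_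
    simp only [hN, of_apply]
    split_ifs <;> simp_all <;> omega
  have hE : Nᵀ * N = diagonal (fun j : Fin n => if j.val < ℓ then (1 : F) else 0) := by
    ext i j
    rw [mul_apply]
    by_cases hi : i.val < ℓ
    · rw [Finset.sum_eq_single (⟨i.val + (n - ℓ), by omega⟩ : Fin n)]
      · by_cases hij : i = j
        · subst hij; simp [hN, hi]
        · rw [diagonal_apply_ne _ hij]
          simp only [hN, transpose_apply, of_apply]
          split_ifs with h h' <;> simp
          · exact hij (Fin.ext (by simp at h'; omega))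
      · intro k _ hk
        simp only [hN, transpose_apply, of_apply]
        rw [if_neg (fun h => hk (Fin.ext h.2)), zero_mul]
      · simp
    · rw [Finset.sum_eq_zero]
      · rw [diagonal_apply]; split_ifs <;> rfl
      · intro k _
        simp [hN, hi]
  have hcard : Fintype.card {j : Fin n // (if j.val < ℓ then (1 : F) else 0) ≠ 0} = ℓ := by
    rw [Fintype.card_congr (Equiv.subtypeEquivRight (q := fun j : Fin n => j.val < ℓ) (fun j => by simp))]
    exact (Fintype.card_congr ⟨fun j => (⟨j.1.val, j.2⟩ : Fin ℓ), fun k => ⟨⟨k.val, by omega⟩, k.2⟩, fun j => rfl, fun k => rfl⟩).trans (Fintype.card_fin ℓ)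
  have hrank : N.rank = ℓ := by
    apply le_antisymm
    · have : N = N * diagonal (fun j : Fin n => if j.val < ℓ then (1 : F) else 0) := by
        ext i j
        rw [mul_diagonal]
        simp only [hN, of_apply]
        split_ifs <;> simp_all
      rw [this]
      refine (rank_mul_le_right _ _).trans ?_
      rw [Matrix.rank_diagonal, hcard]
    · have h := rank_mul_le_right Nᵀ N
      rw [hE, Matrix.rank_diagonal, hcard] at h
      exact h
  obtain ⟨a, ha⟩ : ∃ a : Matrix.SpecialLinearGroup (Fin n) F, (a : Matrix (Fin n) (Fin n) F) = 1 + N := ⟨⟨1 + N, hdet⟩, rfl⟩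
  refine ⟨a, ha, ?_, ?_⟩
  · refine orderOf_eq_prime ?_ ?_
    · rw [pow_two]
      apply Subtype.ext
      change (a : Matrix (Fin n) (Fin n) F) * (a : Matrix (Fin n) (Fin n) F) = 1
      rw [ha]
      rw [ mul_add, add_mul, add_mul, hsq, one_mul, one_mul, mul_one, add_zero, add_assoc]
      rw [show N + N = 0 by ext i j; simp [CharTwo.add_self_eq_zero], add_zero]
    · intro h
      have h' : 1 + N = 1 := ha.symm.trans (congrArg Subtype.val h)
      rw [add_eq_left] at h'
      rw [h', rank_zero] at hrank
      omega
  · rw [ha]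
    rw [add_sub_cancel_left, hrank]

end Cfsg.Agent.S2163
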