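import Cfsg.Statements.S2164
import Cfsg.Agent.Known.UnitaryGU
import Cfsg.Agent.Known.UnipotentDet

set_option autoImplicit false
open Cfsg

namespace Cfsg.Agent.S2164

/-- Conjugacy of involutions in the special unitary group SU_n(q), q even, n ≥ 3, realised over the field F with q² elements as the matrices of determinant 1 preserving the form Σ u_i v_i^q: for two elements of order 2 of SU_n(q) the following are equivalent — they are conjugate in SU_n(q); they are conjugate in SL_n(F); the matrices a − 1 and b − 1 have the same rank. -/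
theorem result {F : Type*} [Field F] [Fintype F] [CharP F 2] {n q : ℕ} (hF : Fintype.card F = q ^ 2) (hn : 3 ≤ n) (a b : ↥(Cfsg.SU n F q)) (ha : orderOf a = 2) (hb : orderOf b = 2) :
    (IsConj a b ↔ IsConj (a : Matrix.SpecialLinearGroup (Fin n) F) (b : Matrix.SpecialLinearGroup (Fin n) F)) ∧
    (IsConj a b ↔ (((a : Matrix.SpecialLinearGroup (Fin n) F) : Matrix (Fin n) (Fin n) F) - 1).rank = (((b : Matrix.SpecialLinearGroup (Fin n) F) : Matrix (Fin n) (Fin n) F) - 1).rank) := by
  classical
  haveI : Fact (Nat.Prime 2) := ⟨Nat.prime_two⟩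
  haveI : Nonempty (Fin n) := ⟨⟨0, by omega⟩⟩
  have hsq : ∀ c : ↥(Cfsg.SU n F q), orderOf c = 2 →
      (((c : Matrix.SpecialLinearGroup (Fin n) F) : Matrix (Fin n) (Fin n) F) - 1) ^ 2 = 0 := by
    intro c hc
    have h1 : c ^ 2 = 1 := hc ▸ pow_orderOf_eq_one c
    rw [sub_pow_char_of_commute 2 (Commute.one_right _), one_pow, sub_eq_zero]
    exact congrArg (fun x : ↥(Cfsg.SU n F q) => ((x : Matrix.SpecialLinearGroup (Fin n) F) : Matrix (Fin n) (Fin n) F)) h1
  have step1 : IsConj a b → IsConj (a : Matrix.SpecialLinearGroup (Fin n) F) (b : Matrix.SpecialLinearGroup (Fin n) F) :=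
    fun h => MonoidHom.map_isConj (Cfsg.SU n F q).subtype h
  have step2 : IsConj (a : Matrix.SpecialLinearGroup (Fin n) F) (b : Matrix.SpecialLinearGroup (Fin n) F) →
      (((a : Matrix.SpecialLinearGroup (Fin n) F) : Matrix (Fin n) (Fin n) F) - 1).rank = (((b : Matrix.SpecialLinearGroup (Fin n) F) : Matrix (Fin n) (Fin n) F) - 1).rank := by
    intro h
    obtain ⟨T, hT⟩ := isConj_iff.1 h
    rw [mul_inv_eq_iff_eq_mul] at hT
    have hT' : (T : Matrix (Fin n) (Fin n) F) * ((a : Matrix.SpecialLinearGroup (Fin n) F) : Matrix (Fin n) (Fin n) F) =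
        ((b : Matrix.SpecialLinearGroup (Fin n) F) : Matrix (Fin n) (Fin n) F) * (T : Matrix (Fin n) (Fin n) F) := by
      rw [← Matrix.SpecialLinearGroup.coe_mul, hT, Matrix.SpecialLinearGroup.coe_mul]
    have e : (T : Matrix (Fin n) (Fin n) F) * (((a : Matrix.SpecialLinearGroup (Fin n) F) : Matrix (Fin n) (Fin n) F) - 1) =
        (((b : Matrix.SpecialLinearGroup (Fin n) F) : Matrix (Fin n) (Fin n) F) - 1) * (T : Matrix (Fin n) (Fin n) F) := by
      rw [mul_sub, sub_mul, mul_one, one_mul, hT']
    have hu : IsUnit (T : Matrix (Fin n) (Fin n) F).det := by rw [T.2]; exact isUnit_one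
    have h1 := congrArg Matrix.rank e
    rwa [Matrix.rank_mul_eq_right_of_isUnit_det _ _ hu, Matrix.rank_mul_eq_left_of_isUnit_det _ _ hu] at h1
  have step3 : (((a : Matrix.SpecialLinearGroup (Fin n) F) : Matrix (Fin n) (Fin n) F) - 1).rank = (((b : Matrix.SpecialLinearGroup (Fin n) F) : Matrix (Fin n) (Fin n) F) - 1).rank → IsConj a b := by
    intro hr
    obtain ⟨μ, hμ2, hμ⟩ := Cfsg.Lib.UnipClasses.exists_type (hsq a ha)
    have hμb := hμ.of_sq_zero (hsq a ha) (hsq b hb) hr
    refine Cfsg.Lib.UnitaryConj.isConj_SU_of_type hF a b hμ hμb fun d hd => ?_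
    by_cases hone : ∃ i, Cfsg.Lib.UnipClasses.lens μ i = 1
    · obtain ⟨i0, hi0⟩ := hone
      refine ⟨Function.update (fun _ => 1) i0 d, fun i => ?_, ?_⟩
      · by_cases hi : i = i0
        · subst hi; rw [Function.update_self]; exact hd
        · rw [Function.update_of_ne hi]; simp
      · rw [Finset.prod_eq_single i0 (fun i _ hi => by rw [Function.update_of_ne hi, one_pow]) (by simp),
          Function.update_self, hi0, pow_one]
    · push Not at hone
      have h2 : ∀ i, Cfsg.Lib.UnipClasses.lens μ i = 2 := fun i => by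
        have h1 := μ.parts_pos (Cfsg.Lib.UnipClasses.lens_mem μ i)
        have h3 := hμ2 _ (Cfsg.Lib.UnipClasses.lens_mem μ i)
        have h4 := hone i
        omega
      have hlen : 0 < μ.parts.toList.length := by
        by_contra h0
        have := μ.parts_sum
        rw [Multiset.length_toList, Nat.not_lt, Nat.le_zero, Multiset.card_eq_zero] at h0
        rw [h0, Multiset.sum_zero] at this
        omega
      obtain ⟨t, ht⟩ : ∃ t, q = 2 * t := by
        have h2 : 2 ∣ Fintype.card F := by
          obtain ⟨k, -, hk⟩ := FiniteField.card F 2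
          exact hk ▸ dvd_pow_self 2 k.pos.ne'
        exact Nat.prime_two.dvd_of_dvd_pow (hF ▸ h2)
      have hdq : d ^ (q + 1) = 1 := by
        rw [pow_succ, ← Cfsg.Lib.Classical.powConj_apply hF d]; exact hd
      have he : d ^ (t + 1) * d ^ (t + 1) = d := by
        rw [← pow_add, show t + 1 + (t + 1) = (q + 1) + 1 by omega, pow_succ, hdq, one_mul]
      refine ⟨Function.update (fun _ => 1) ⟨0, hlen⟩ (d ^ (t + 1)), fun i => ?_, ?_⟩
      · by_cases hi : i = ⟨0, hlen⟩
        · subst hi; rw [Function.update_self, map_pow, ← mul_pow, hd, one_pow]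
        · rw [Function.update_of_ne hi]; simp
      · rw [Finset.prod_eq_single (⟨0, hlen⟩ : Fin μ.parts.toList.length)
          (fun i _ hi => by rw [Function.update_of_ne hi, one_pow]) (by simp),
          Function.update_self, h2, sq, he]
  exact ⟨⟨step1, fun h => step3 (step2 h)⟩, ⟨fun h => step2 (step1 h), step3⟩⟩

end Cfsg.Agent.S2164
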