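import Cfsg.Statements.S2165
import Mathlib

set_option autoImplicit false
open Cfsg Matrix

namespace Cfsg.Agent.S2165

/-- In SU_n(q), q even, n ≥ 3 (matrices of determinant 1 over the field with q² elements preserving Σ u_i v_i^q): for every ℓ with 1 ≤ ℓ and 2ℓ ≤ n, the permutation matrix of the involution of {0, …, n−1} exchanging i and n − ℓ + i for each i < ℓ lies in SU_n(q), has order 2, and differs from the identity by a matrix of rank ℓ. So every rank between 1 and n/2 occurs for involutions of SU_n(q). -/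
theorem result {F : Type*} [Field F] [Fintype F] [CharP F 2] {n q : ℕ} (hF : Fintype.card F = q ^ 2) (hn : 3 ≤ n) (ℓ : ℕ) (h1 : 1 ≤ ℓ) (h2 : 2 * ℓ ≤ n) :
    ∃ a : ↥(Cfsg.SU n F q), (((a : Matrix.SpecialLinearGroup (Fin n) F) : Matrix (Fin n) (Fin n) F) = Matrix.of (fun i j : Fin n => if (j.val < ℓ ∧ i.val = j.val + (n - ℓ)) ∨ (i.val < ℓ ∧ j.val = i.val + (n - ℓ)) ∨ (i = j ∧ ℓ ≤ i.val ∧ i.val < n - ℓ) then (1 : F) else 0)) ∧ orderOf a = 2 ∧ ((((a : Matrix.SpecialLinearGroup (Fin n) F) : Matrix (Fin n) (Fin n) F)) - 1).rank = ℓ := by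
  let f : Fin n → Fin n := fun i => if h : i.val < ℓ then ⟨i.val + (n - ℓ), by omega⟩ else
    if h' : n - ℓ ≤ i.val then ⟨i.val - (n - ℓ), by omega⟩ else i
  have hfv : ∀ i : Fin n, (f i).val = if i.val < ℓ then i.val + (n - ℓ) else if n - ℓ ≤ i.val then i.val - (n - ℓ) else i.val := by
    intro i; simp only [f]; split_ifs <;> rfl
  have hf : Function.Involutive f := by
    intro i; apply Fin.ext; rw [hfv, hfv]; split_ifs <;> omega
  let σ : Equiv.Perm (Fin n) := hf.toPerm f
  have hσ : ∀ i, σ i = f i := fun i => rfl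
  set M : Matrix (Fin n) (Fin n) F := Matrix.of (fun i j : Fin n => if (j.val < ℓ ∧ i.val = j.val + (n - ℓ)) ∨ (i.val < ℓ ∧ j.val = i.val + (n - ℓ)) ∨ (i = j ∧ ℓ ≤ i.val ∧ i.val < n - ℓ) then (1 : F) else 0) with hMdef
  have hM : M = σ.permMatrix F := by
    ext i j
    simp only [hMdef, of_apply, Equiv.Perm.permMatrix, PEquiv.toMatrix_apply, Equiv.toPEquiv_apply, Option.mem_def, Option.some.injEq, hσ]
    refine if_congr ?_ rfl rfl
    rw [Fin.ext_iff (a := f i), hfv, Fin.ext_iff]
    constructor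
    · rintro (⟨h, h'⟩ | ⟨h, h'⟩ | ⟨h, h', h''⟩) <;> split_ifs <;> omega
    · split_ifs <;> omega
  have hneg : ∀ x : F, -x = x := CharTwo.neg_eq
  have hdet : M.det = 1 := by
    rw [hM, det_permutation]
    rcases Int.units_eq_one_or (Equiv.Perm.sign σ) with h | h <;> simp [h, hneg]
  have hmv : ∀ v : Fin n → F, M *ᵥ v = v ∘ σ := fun v => by rw [hM, permMatrix_mulVec]
  have hsq : M * M = 1 := by
    refine ext_of_mulVec_single fun j => ?_
    rw [← mulVec_mulVec, hmv, hmv, one_mulVec]
    funext i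
    simp [Function.comp, hσ, hf i]
  let C : Matrix (Fin n) (Fin ℓ) F := Matrix.of fun i k => (if i.val = k.val then 1 else 0) + if i.val = k.val + (n - ℓ) then 1 else 0
  have hC : M - 1 = C * Cᵀ := by
    ext i j
    have hsum : ∀ (a : ℕ) (g : Fin ℓ → F), (∑ k : Fin ℓ, (if a = k.val then (1 : F) else 0) * g k) = if h : a < ℓ then g ⟨a, h⟩ else 0 := by
      intro a g
      split_ifs with h
      · rw [Finset.sum_eq_single (⟨a, h⟩ : Fin ℓ)] <;> simp
        intro b hb h2; exact absurd (Fin.ext h2.symm) hb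
      · refine Finset.sum_eq_zero fun k _ => ?_
        rw [if_neg (fun h' => h (by omega)), zero_mul]
    have hsum' : ∀ (g : Fin ℓ → F), (∑ k : Fin ℓ, (if i.val = k.val + (n - ℓ) then (1 : F) else 0) * g k) = if h : n - ℓ ≤ i.val then g ⟨i.val - (n - ℓ), by omega⟩ else 0 := by
      intro g
      split_ifs with h
      · rw [Finset.sum_eq_single (⟨i.val - (n - ℓ), by omega⟩ : Fin ℓ)]
        · rw [if_pos (by simp; omega), one_mul]
        · intro b _ hb
          rw [if_neg (fun h' => hb (Fin.ext (by simp; omega))), zero_mul]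
        · simp
      · refine Finset.sum_eq_zero fun k _ => ?_
        rw [if_neg (fun h' => h (by omega)), zero_mul]
    rw [sub_eq_add_neg, Matrix.add_apply, Matrix.neg_apply, hneg, mul_apply]
    simp only [C, hMdef, of_apply, transpose_apply, add_mul, Finset.sum_add_distrib, hsum, hsum', one_apply, Fin.ext_iff]
    split_ifs <;> simp [CharTwo.add_self_eq_zero] <;> omega
  have hrank : (M - 1).rank = ℓ := by
    apply le_antisymm
    · rw [hC]
      exact (rank_mul_le_left _ _).trans (rank_le_width C)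
    · have h := rank_submatrix_le (M - 1) (fun k : Fin ℓ => (⟨k.val, by omega⟩ : Fin n)) (fun k : Fin ℓ => (⟨k.val, by omega⟩ : Fin n))
      rwa [show (M - 1).submatrix (fun k : Fin ℓ => (⟨k.val, by omega⟩ : Fin n)) (fun k : Fin ℓ => (⟨k.val, by omega⟩ : Fin n)) = 1 by
        ext a b
        simp only [submatrix_apply, sub_eq_add_neg, Matrix.add_apply, Matrix.neg_apply, hneg, hMdef, of_apply, one_apply, Fin.ext_iff]
        split_ifs <;> simp <;> omega, rank_one, Fintype.card_fin] at h
  refine ⟨⟨⟨M, hdet⟩, ?_⟩, rfl, ?_, hrank⟩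
  · intro u v
    change hermForm n F q (M *ᵥ u) (M *ᵥ v) = hermForm n F q u v
    simp only [hermForm, hmv, Function.comp]
    exact Equiv.sum_comp σ (fun i => u i * (v i) ^ q)
  · refine orderOf_eq_prime ?_ ?_
    · apply Subtype.ext; apply Subtype.ext
      rw [pow_two]
      exact hsq
    · intro h
      have h' : M = 1 := congrArg (fun a => ((a : ↥(Cfsg.SU n F q)).1.1 : Matrix (Fin n) (Fin n) F)) h
      rw [h', sub_self, rank_zero] at hrank
      omega

end Cfsg.Agent.S2165
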