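import Cfsg.Statements.S2166
import Cfsg.Agent.Known.SympInvol.Main
import Mathlib

set_option autoImplicit false
open Cfsg

namespace Cfsg.Agent.S2166

/-- Conjugacy of involutions in the symplectic group Sp_{2m}(F), F a finite field of characteristic two, m ≥ 2 (Sp taken as the matrices A with A J Aᵀ = J, acting on column vectors, with the alternating form f(u, v) = u ⬝ (J v)). For an involution t write V(t) for the set of vectors v with f(v, t v) = 0 (a subspace). Two involutions a, b are conjugate in Sp_{2m}(F) exactly when a − 1 and b − 1 have the same rank and, in case that rank is even, V(a) and V(b) have the same number of elements. -/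
theorem result {F : Type*} [Field F] [Fintype F] [CharP F 2] {m : ℕ} (hm : 2 ≤ m) (a b : ↥(Matrix.symplecticGroup (Fin m) F)) (ha : orderOf a = 2) (hb : orderOf b = 2) :
    IsConj a b ↔ ((((a : ↥(Matrix.symplecticGroup (Fin m) F)) : Matrix (Fin m ⊕ Fin m) (Fin m ⊕ Fin m) F) - 1).rank = (((b : ↥(Matrix.symplecticGroup (Fin m) F)) : Matrix (Fin m ⊕ Fin m) (Fin m ⊕ Fin m) F) - 1).rank ∧
      (Even (((a : ↥(Matrix.symplecticGroup (Fin m) F)) : Matrix (Fin m ⊕ Fin m) (Fin m ⊕ Fin m) F) - 1).rank → Nat.card {v : Fin m ⊕ Fin m → F // Cfsg.sympForm m F v (Matrix.mulVec ((a : ↥(Matrix.symplecticGroup (Fin m) F)) : Matrix (Fin m ⊕ Fin m) (Fin m ⊕ Fin m) F) v) = 0} = Nat.card {v : Fin m ⊕ Fin m → F // Cfsg.sympForm m F v (Matrix.mulVec ((b : ↥(Matrix.symplecticGroup (Fin m) F)) : Matrix (Fin m ⊕ Fin m) (Fin m ⊕ Fin m) F) v) = 0})) := by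
  have hA := (Cfsg.Lib.SympInvol.order_two_iff a).1 ha
  have hB := (Cfsg.Lib.SympInvol.order_two_iff b).1 hb
  constructor
  · intro h
    refine ⟨Cfsg.Lib.SympInvol.rank_conj h, fun _ => ?_⟩
    obtain ⟨g, rfl⟩ := isConj_iff.1 h
    refine Nat.card_congr
      ⟨fun v => ⟨(g : Matrix (Fin m ⊕ Fin m) (Fin m ⊕ Fin m) F).mulVec v.1, ?_⟩,
        fun v => ⟨((g⁻¹ : Matrix.symplecticGroup (Fin m) F) : Matrix (Fin m ⊕ Fin m) (Fin m ⊕ Fin m) F).mulVec v.1, ?_⟩,
        fun v => Subtype.ext ?_, fun v => Subtype.ext ?_⟩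
    · have := v.2
      rw [Matrix.mulVec_mulVec, ← Submonoid.coe_mul, inv_mul_cancel_right, Submonoid.coe_mul, ← Matrix.mulVec_mulVec,
        ← Cfsg.Lib.Classical.sympBilin_eq_sympForm, (Cfsg.Lib.Classical.mem_symplectic_iff_form _).1 g.2,
        Cfsg.Lib.Classical.sympBilin_eq_sympForm]
      exact this
    · have := v.2
      rw [← Cfsg.Lib.Classical.sympBilin_eq_sympForm] at this ⊢
      rw [← (Cfsg.Lib.Classical.mem_symplectic_iff_form _).1 g.2, Matrix.mulVec_mulVec, Matrix.mulVec_mulVec,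
        Matrix.mulVec_mulVec, ← Submonoid.coe_mul, ← Submonoid.coe_mul, ← Submonoid.coe_mul, mul_inv_cancel,
        Submonoid.coe_one, Matrix.one_mulVec]
      exact this
    · simp only [Matrix.mulVec_mulVec, ← Submonoid.coe_mul, inv_mul_cancel, Submonoid.coe_one, Matrix.one_mulVec]
    · simp only [Matrix.mulVec_mulVec, ← Submonoid.coe_mul, mul_inv_cancel, Submonoid.coe_one, Matrix.one_mulVec]
  · rintro ⟨hr, hc⟩
    refine (Cfsg.Lib.SympInvol.isConj_iff_invariants hA.1 hB.1).2 ⟨hr, ?_⟩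
    have full : ∀ t : ↥(Matrix.symplecticGroup (Fin m) F), Cfsg.Lib.SympInvol.IsAltType t ↔
        Nat.card {v : Fin m ⊕ Fin m → F // Cfsg.sympForm m F v (Matrix.mulVec (t : Matrix (Fin m ⊕ Fin m) (Fin m ⊕ Fin m) F) v) = 0} =
          Nat.card (Fin m ⊕ Fin m → F) := fun t =>
      ⟨fun h => Nat.card_congr (Equiv.subtypeUnivEquiv h), fun h v => by
        have hb : Function.Bijective (fun w : {v : Fin m ⊕ Fin m → F //
            Cfsg.sympForm m F v (Matrix.mulVec (t : Matrix (Fin m ⊕ Fin m) (Fin m ⊕ Fin m) F) v) = 0} => w.1) :=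
          (Nat.bijective_iff_injective_and_card _).2 ⟨Subtype.val_injective, h⟩
        obtain ⟨w, rfl⟩ := hb.2 v
        exact w.2⟩
    by_cases he : Even ((a : Matrix (Fin m ⊕ Fin m) (Fin m ⊕ Fin m) F) - 1).rank
    · rw [full, full, hc he]
    · obtain ⟨f, S, hd⟩ := Cfsg.Lib.SympInvol.exists_data a hA.1 rfl
      obtain ⟨f', T, hd'⟩ := Cfsg.Lib.SympInvol.exists_data b hB.1 rfl
      exact iff_of_false (fun h => he (Cfsg.Lib.SympInvol.alt_even hd h))
        (fun h => he (hr ▸ Cfsg.Lib.SympInvol.alt_even hd' h))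

end Cfsg.Agent.S2166
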