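import Cfsg.Statements.S2167
import Cfsg.Agent.Classical.Symp.Decomp

set_option autoImplicit false
open Cfsg

namespace Cfsg.Agent.S2167

/-- For an involution t of the symplectic group Sp_{2m}(F), m ≥ 2, F a finite field of characteristic two (matrices A with A J Aᵀ = J acting on column vectors, alternating form f(u, v) = u ⬝ (J v)): the set V(t) of vectors v with f(v, t v) = 0 has either q^{2m} or q^{2m−1} elements, q the order of F (it is a subspace of codimension at most 1), and if it is the whole space then t − 1 has even rank. -/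
theorem result {F : Type*} [Field F] [Fintype F] [CharP F 2] {m : ℕ} (hm : 2 ≤ m) (a : ↥(Matrix.symplecticGroup (Fin m) F)) (ha : orderOf a = 2) :
    (Nat.card {v : Fin m ⊕ Fin m → F // Cfsg.sympForm m F v (Matrix.mulVec ((a : ↥(Matrix.symplecticGroup (Fin m) F)) : Matrix (Fin m ⊕ Fin m) (Fin m ⊕ Fin m) F) v) = 0} = Fintype.card F ^ (2 * m) ∨ Nat.card {v : Fin m ⊕ Fin m → F // Cfsg.sympForm m F v (Matrix.mulVec ((a : ↥(Matrix.symplecticGroup (Fin m) F)) : Matrix (Fin m ⊕ Fin m) (Fin m ⊕ Fin m) F) v) = 0} * Fintype.card F = Fintype.card F ^ (2 * m)) ∧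
    ((∀ v : Fin m ⊕ Fin m → F, Cfsg.sympForm m F v (Matrix.mulVec ((a : ↥(Matrix.symplecticGroup (Fin m) F)) : Matrix (Fin m ⊕ Fin m) (Fin m ⊕ Fin m) F) v) = 0) → Even (((a : ↥(Matrix.symplecticGroup (Fin m) F)) : Matrix (Fin m ⊕ Fin m) (Fin m ⊕ Fin m) F) - 1).rank) := by
  classical
  set A := ((a : ↥(Matrix.symplecticGroup (Fin m) F)) : Matrix (Fin m ⊕ Fin m) (Fin m ⊕ Fin m) F) with hA
  set J := Matrix.J (Fin m) F
  have hinv : A * A = 1 := by
    have h := congrArg (fun z : ↥(Matrix.symplecticGroup (Fin m) F) => (z : Matrix (Fin m ⊕ Fin m) (Fin m ⊕ Fin m) F)) (ha ▸ pow_orderOf_eq_one a : a ^ 2 = 1)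
    simpa [sq] using h
  have hsp : A.transpose * J * A = J := SymplecticGroup.mem_iff'.1 a.2
  let B : LinearMap.BilinForm F ((Fin m ⊕ Fin m) → F) := Matrix.toBilin' J
  have hB : ∀ u w, Cfsg.sympForm m F u w = B u w := fun u w => (Matrix.toBilin'_apply' J u w).symm
  have hinvB : ∀ u w, B (A.mulVec u) (A.mulVec w) = B u w := fun u w => by
    simp only [B, Matrix.toBilin'_apply', Matrix.mulVec_mulVec]
    rw [Matrix.dotProduct_mulVec, ← Matrix.vecMul_transpose, Matrix.vecMul_vecMul, ← Matrix.dotProduct_mulVec,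
      ← Matrix.mul_assoc, hsp]
  have hsymm : ∀ u w, B u w = B w u := fun u w => by
    simp only [B, Matrix.toBilin'_apply']
    rw [Matrix.dotProduct_mulVec, ← Matrix.mulVec_transpose, Matrix.J_transpose, Matrix.neg_mulVec, neg_dotProduct, CharTwo.neg_eq, dotProduct_comm]
  have halt : ∀ u, B u u = 0 := fun u => by
    simp only [B, Matrix.toBilin'_apply', J, Matrix.J]
    simp [dotProduct, Matrix.fromBlocks_mulVec, Matrix.neg_mulVec, Matrix.one_mulVec, Fintype.sum_sum_type, CharTwo.neg_eq, mul_comm, CharTwo.add_self_eq_zero]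
  simp only [hB]
  let f : ((Fin m ⊕ Fin m) → F) →+ F :=
    { toFun := fun v => B v (A.mulVec v)
      map_zero' := by simp
      map_add' := fun u w => by
        have h : B w (A.mulVec u) = B u (A.mulVec w) := by
          rw [hsymm, ← hinvB u (A.mulVec w), Matrix.mulVec_mulVec, hinv, Matrix.one_mulVec]
        simp only [Matrix.mulVec_add, map_add, LinearMap.add_apply]
        rw [h]
        linear_combination CharTwo.add_self_eq_zero (B u (A.mulVec w)) }
  have hscal : ∀ (c : F) v, f (c • v) = c * c * f v := fun c v => by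
    show B (c • v) (A.mulVec (c • v)) = c * c * B v (A.mulVec v)
    simp [Matrix.mulVec_smul]; ring
  refine ⟨?_, fun hall => ?_⟩
  · have hker : Nat.card {v : (Fin m ⊕ Fin m) → F // B v (A.mulVec v) = 0} = Nat.card f.ker :=
      Nat.card_congr (Equiv.subtypeEquivRight fun v => ⟨fun h => h, fun h => h⟩)
    have hcard : Nat.card ((Fin m ⊕ Fin m) → F) = Fintype.card F ^ (2 * m) := by
      rw [Nat.card_fun, Nat.card_eq_fintype_card, Nat.card_eq_fintype_card]
      simp [two_mul]
    have hmul := AddSubgroup.card_mul_index f.ker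
    rw [AddSubgroup.index_ker, hcard] at hmul
    rw [hker]
    by_cases h0 : ∀ v, f v = 0
    · left
      haveI : Subsingleton ↥f.range := ⟨fun x y => Subtype.ext (by
        obtain ⟨v, hv⟩ := x.2
        obtain ⟨w, hw⟩ := y.2
        rw [← hv, ← hw, h0, h0])⟩
      rw [Nat.card_unique (α := ↥f.range), mul_one] at hmul
      exact hmul
    · right
      push Not at h0
      obtain ⟨v, hv⟩ := h0
      have htop : f.range = ⊤ := by
        refine eq_top_iff.2 fun y _ => ?_
        obtain ⟨c, hc⟩ := FiniteField.isSquare_of_char_two (ringChar.eq F 2) (y / f v)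
        exact ⟨c • v, by rw [hscal, ← hc, div_mul_cancel₀ _ hv]⟩
      rw [htop, Nat.card_congr AddSubgroup.topEquiv.toEquiv, Nat.card_eq_fintype_card (α := F)] at hmul
      exact hmul
  · have hndg : ∀ w, (∀ u, B u w = 0) → w = 0 := fun w hw => by
      have hJ : J.mulVec w = 0 := funext fun i => by
        have := hw (Pi.single i 1)
        simpa [B, Matrix.toBilin'_apply', single_dotProduct] using this
      have := congrArg (fun z => J.mulVec z) hJ
      simpa [J, Matrix.mulVec_mulVec, Matrix.J_squared, Matrix.neg_mulVec] using this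
    set L := Matrix.mulVecLin (A - 1) with hL
    let C : LinearMap.BilinForm F ((Fin m ⊕ Fin m) → F) := B.compl₂ L
    have hCalt : ∀ v, C v v = 0 := fun v => by
      show B v ((A - 1).mulVec v) = 0
      rw [Matrix.sub_mulVec, map_sub, Matrix.one_mulVec, hall v, halt, sub_zero]
    have hCsymm : ∀ u w, C u w = C w u := fun u w => by
      have h := hCalt (u + w)
      simp only [map_add, LinearMap.add_apply, hCalt, zero_add, add_zero] at h
      have h' := eq_neg_of_add_eq_zero_left h
      rw [CharTwo.neg_eq] at h'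
      exact h'.symm
    obtain ⟨K, hK⟩ := Submodule.exists_isCompl (LinearMap.ker L)
    have hnd : (C.domRestrict₁₂ K K).Nondegenerate := by
      have hL' : ∀ x : K, (∀ y : K, C y x = 0) → x = 0 := fun x hx => by
        have hall' : ∀ u, B u (L x) = 0 := fun u => by
          obtain ⟨z, hz, k, hk, rfl⟩ := Submodule.mem_sup.1 (hK.sup_eq_top ▸ Submodule.mem_top : u ∈ LinearMap.ker L ⊔ K)
          show C (z + k) x = 0
          rw [map_add, LinearMap.add_apply, hx ⟨k, hk⟩, add_zero, hCsymm]
          show B x (L z) = 0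
          rw [LinearMap.mem_ker.1 hz, map_zero]
        have hx0 : (x : (Fin m ⊕ Fin m) → F) ∈ LinearMap.ker L ⊓ K := ⟨LinearMap.mem_ker.2 (hndg _ hall'), x.2⟩
        rw [hK.inf_eq_bot, Submodule.mem_bot] at hx0
        exact Subtype.ext hx0
      exact ⟨fun x hx => hL' x fun y => (hCsymm y x).trans (hx y), fun x hx => hL' x hx⟩
    have hev := Cfsg.Lib.Classical.even_finrank_of_symplectic (B := C.domRestrict₁₂ K K) (fun x => hCalt x) hnd
    have hdim := LinearMap.finrank_range_add_finrank_ker L
    have hdim2 := Submodule.finrank_add_eq_of_isCompl hK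
    rw [show (A - 1).rank = Module.finrank F (LinearMap.range L) from rfl,
      show Module.finrank F (LinearMap.range L) = Module.finrank F K by omega]
    exact hev

end Cfsg.Agent.S2167
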