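import Cfsg.Statements.S2173
import Cfsg.Agent.Known.OmegaSplit

set_option autoImplicit false
open Cfsg Matrix

namespace Cfsg.Agent.S2173

/-- For the quadratic form Σ x_i y_i + (z₁² + c z₁ z₂ + d z₂²) in dimension 2m with anisotropic binary part over a finite field F of characteristic two, m ≥ 4 (minus type): two involutions of the commutator subgroup Ω that are conjugate in the full isometry group O are conjugate by an element of Ω (no class of involutions of O inside Ω splits). -/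
theorem result {F : Type*} [Field F] [Fintype F] [CharP F 2] {m : ℕ} (hm : 4 ≤ m) (c d : F) (hcd : ∀ z₁ z₂ : F, z₁ ^ 2 + c * z₁ * z₂ + d * z₂ ^ 2 = 0 → z₁ = 0 ∧ z₂ = 0) (t s : ↥(Cfsg.isometryGroup F (Cfsg.quadFormMinus (m - 1) F c d))) (ht : orderOf t = 2) (hs : orderOf s = 2) (htO : t ∈ Cfsg.Omega F (Cfsg.quadFormMinus (m - 1) F c d)) (hsO : s ∈ Cfsg.Omega F (Cfsg.quadFormMinus (m - 1) F c d)) (hconj : IsConj t s) :
    ∃ g ∈ Cfsg.Omega F (Cfsg.quadFormMinus (m - 1) F c d), g * t * g⁻¹ = s := by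
  open Cfsg.Lib.Classical Cfsg.Lib.OmegaCls in
  classical
  have ht2 : t * t = 1 := by have hh := pow_orderOf_eq_one t; rwa [ht, sq] at hh
  have key : ∀ (f : ((Fin (m - 1) ⊕ Fin (m - 1)) ⊕ Fin 2 → F) → F), f = ⇑(Refl.minusForm (m - 1) F c d) →
      ∀ t s : ↥(Cfsg.isometryGroup F f), t * t = 1 → IsConj t s → ∃ g ∈ Cfsg.Omega F f, g * t * g⁻¹ = s := by
    intro f hf
    subst hf
    intro t s h1 h2
    have hQ := Refl.minusForm_nondegenerate' (m - 1) hcd
    have hι : Fintype.card ((Fin (m - 1) ⊕ Fin (m - 1)) ⊕ Fin 2) = 2 * m := by simp; omega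
    by_cases hex : ∃ v, Refl.mat (Refl.minusForm (m - 1) F c d) t *ᵥ v = v ∧ Refl.minusForm (m - 1) F c d v ≠ 0
    · obtain ⟨v, hv1, hv2⟩ := hex
      exact exists_conj_omega hQ (by omega) (Or.inr (by omega)) hv2 hv1 h2
    · push Not at hex
      obtain ⟨hmax, -⟩ := fixed_isMax hQ hι h1 hex
      exfalso
      obtain ⟨D⟩ := Cfsg.Lib.FormNormal.exists_decomp (Q := Refl.minusForm (m - 1) F c d) _ ⊤ rfl
        (Cfsg.Lib.FormNormal.nd_top _ hQ)
      have hidx := Cfsg.Lib.MinusExtend.minus_index (m - 1) hcd D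
      have hV : Module.finrank F ((Fin (m - 1) ⊕ Fin (m - 1)) ⊕ Fin 2 → F) = 2 * m := by
        rw [Module.finrank_fintype_fun_eq_card, hι]
      have h3 := Cfsg.Lib.FormNormal.index_eq hQ D _ hmax.2 fun W hle hW =>
        le_antisymm (fun w hw => by
          rw [← HypQuad.perp_eq _ hQ hV hmax, HypQuad.mem_perp]
          exact fun u hu => HypQuad.polar_zero_of_singular _ hW (hle hu) hw) hle
      rw [hmax.1] at h3
      omega
  exact key _ (Refl.minusForm_coe (m - 1) c d).symm t s ht2 hconj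

end Cfsg.Agent.S2173
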