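import Cfsg.Statements.S2174
import Cfsg.Agent.Chev.InvElim.F4Tree
import Cfsg.Agent.Chev.InvElim.F4Rk
import Cfsg.Agent.Chev.InvElim.Final
-- import your own Cfsg.Agent.* helpers here

set_option autoImplicit false
open Cfsg Cfsg.Lie Cfsg.Lib.Chev Cfsg.Lib.Chev.InvElim

namespace Cfsg.Agent.S2174

set_option maxHeartbeats 1000000 in
/-- Conjugacy classes of involutions in the Chevalley group of type F₄ over a finite field F of characteristic two (the matrix group generated by the root elements x_r(t)). In this problem's root numbering for type F₄ (the Chevalley data module; fundamental roots p₁, p₂ short and p₃, p₄ long; roots indexed by their coefficient vectors in increasing order) let r = 47 be the highest root (2,4,3,2), s = 44 the highest short root (2,3,2,1), and α = 39 = (1,2,2,1), β = 45 = (2,4,2,1), an orthogonal short/long pair; consider the four elements x_r(1), x_s(1), x_r(1)x_s(1), x_α(1)x_β(1). Then: each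 invertible matrix equal to one of these four products lies in the group and has order 2; every element of order 2 of the group is conjugate in the group to one of them; and no two of them are conjugate in the group (so, the four matrices being distinct, the group has exactly four conjugacy classes of involutions). -/
theorem result {F : Type*} [Field F] [Fintype F] [CharP F 2] :
    (∀ y : GL Cfsg.Lie.chevF4.Idx F, ((y : GL Cfsg.Lie.chevF4.Idx F) : Matrix Cfsg.Lie.chevF4.Idx Cfsg.Lie.chevF4.Idx F) ∈ [Cfsg.Lie.chevF4.x F 47 1, Cfsg.Lie.chevF4.x F 44 1, Cfsg.Lie.chevF4.x F 47 1 * Cfsg.Lie.chevF4.x F 44 1, Cfsg.Lie.chevF4.x F 39 1 * Cfsg.Lie.chevF4.x F 45 1] → y ∈ Cfsg.Lie.chevF4.group F ∧ orderOf y = 2) ∧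
    (∀ g ∈ Cfsg.Lie.chevF4.group F, orderOf g = 2 → ∃ y ∈ Cfsg.Lie.chevF4.group F, ((y : GL Cfsg.Lie.chevF4.Idx F) : Matrix Cfsg.Lie.chevF4.Idx Cfsg.Lie.chevF4.Idx F) ∈ [Cfsg.Lie.chevF4.x F 47 1, Cfsg.Lie.chevF4.x F 44 1, Cfsg.Lie.chevF4.x F 47 1 * Cfsg.Lie.chevF4.x F 44 1, Cfsg.Lie.chevF4.x F 39 1 * Cfsg.Lie.chevF4.x F 45 1] ∧ ∃ h ∈ Cfsg.Lie.chevF4.group F, h * g * h⁻¹ = y) ∧
    (∀ y₁ ∈ Cfsg.Lie.chevF4.group F, ∀ y₂ ∈ Cfsg.Lie.chevF4.group F, ((y₁ : GL Cfsg.Lie.chevF4.Idx F) : Matrix Cfsg.Lie.chevF4.Idx Cfsg.Lie.chevF4.Idx F) ∈ [Cfsg.Lie.chevF4.x F 47 1, Cfsg.Lie.chevF4.x F 44 1, Cfsg.Lie.chevF4.x F 47 1 * Cfsg.Lie.chevF4.x F 44 1, Cfsg.Lie.chevF4.x F 39 1 * Cfsg.Lie.chevF4.x F 45 1] → ((y₂ : GL Cfsg.Lie.chevF4.Idx F) : Matrix Cfsg.Lie.chevF4.Idx Cfsg.Lie.chevF4.Idx F) ∈ [Cfsg.Lie.chevF4.x F 47 1, Cfsg.Lie.chevF4.x F 44 1, Cfsg.Lie.chevF4.x F 47 1 * Cfsg.Lie.chevF4.x F 44 1, Cfsg.Lie.chevF4.x F 39 1 * Cfsg.Lie.chevF4.x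 F 45 1] →
      (∃ h ∈ Cfsg.Lie.chevF4.group F, h * y₁ * h⁻¹ = y₂) → ((y₁ : GL Cfsg.Lie.chevF4.Idx F) : Matrix Cfsg.Lie.chevF4.Idx Cfsg.Lie.chevF4.Idx F) = ((y₂ : GL Cfsg.Lie.chevF4.Idx F) : Matrix Cfsg.Lie.chevF4.Idx Cfsg.Lie.chevF4.Idx F)) := by
  classical
  have hE : ([[47], [44], [47, 44], [39, 45]] : List (List ℕ)).map (fun S => (wK (K := F) F4.struct S).1) =
      [chevF4.x F 47 1, chevF4.x F 44 1, chevF4.x F 47 1 * chevF4.x F 44 1, chevF4.x F 39 1 * chevF4.x F 45 1] := by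
    simp [wK, Pv]
  rw [← hE]
  refine classes F4.struct DF4.tab_ok okNeg_F4 DF4.cl_ok DF4.tree_ok [[47], [44], [47, 44], [39, 45]]
    (by decide +kernel) (by decide +kernel)
    (fun g => if rkJ chevF4 4503599627370495 g = 16 then 100 + rkJ chevF4 316536972114051 g
      else rkJ chevF4 4503599627370495 g)
    (fun u w h => by
      simp only [rkJ_Cj (stable_full (J := 4503599627370495) (by decide +kernel)) F4.struct h,
        rkJ_Cj (stable_of_okJ DF4.short_ok) F4.struct h])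
    (by simp [rkJ_one]) ?_ ?_
  all_goals
    have e1 : rkJ chevF4 4503599627370495 (wK (K := F) F4.struct [47]) = 16 :=
      rkJ_eq F4.struct (ws := [(47, DF4.c47)]) (by simp [DF4.c47_ok]) DF4.w1full_ok
    have e2 : rkJ chevF4 4503599627370495 (wK (K := F) F4.struct [44]) = 16 :=
      rkJ_eq F4.struct (ws := [(44, DF4.c44)]) (by simp [DF4.c44_ok]) DF4.w2full_ok
    have e3 : rkJ chevF4 4503599627370495 (wK (K := F) F4.struct [47, 44]) = 21 :=
      rkJ_eq F4.struct (ws := [(47, DF4.c47), (44, DF4.c44)]) (by simp [DF4.c47_ok, DF4.c44_ok]) DF4.w3full_ok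
    have e4 : rkJ chevF4 4503599627370495 (wK (K := F) F4.struct [39, 45]) = 24 :=
      rkJ_eq F4.struct (ws := [(39, DF4.c39), (45, DF4.c45)]) (by simp [DF4.c39_ok, DF4.c45_ok]) DF4.w4full_ok
    have f1 : rkJ chevF4 316536972114051 (wK (K := F) F4.struct [47]) = 6 :=
      rkJ_eq F4.struct (ws := [(47, DF4.c47)]) (by simp [DF4.c47_ok]) DF4.w1short_ok
    have f2 : rkJ chevF4 316536972114051 (wK (K := F) F4.struct [44]) = 10 :=
      rkJ_eq F4.struct (ws := [(44, DF4.c44)]) (by simp [DF4.c44_ok]) DF4.w2short_ok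
  · simp [e1, e2, e3, e4, f1, f2]
  · simp [e1, e2, e3, e4, f1, f2]

end Cfsg.Agent.S2174
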