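import Cfsg.Statements.S2175
import Cfsg.Agent.Chev.InvElim.E6Tree
import Cfsg.Agent.Chev.InvElim.E6Rk
import Cfsg.Agent.Chev.InvElim.Final
-- import your own Cfsg.Agent.* helpers here

set_option autoImplicit false
open Cfsg Cfsg.Lie Cfsg.Lib.Chev Cfsg.Lib.Chev.InvElim

namespace Cfsg.Agent.S2175

set_option maxHeartbeats 1000000 in
/-- Conjugacy classes of involutions in the Chevalley group of type E₆ over a finite field F of characteristic two (the matrix group generated by the root elements x_r(t)). In this problem's root numbering for type E₆ (the Chevalley data module; fundamental roots numbered so that p₁–p₃–p₄–p₅–p₆ is the long chain of the diagram and p₂ is joined to p₄; roots indexed by their coefficient vectors in increasing order) let r = 71 be the highest root (1,2,2,3,2,1), α = 68 = (1,1,2,2,1,1), β = 66 = (1,1,1,2,2,1), γ = 55 = (0,1,1,2,2,1), δ = 65 = (1,1,1,2,1,1), ε = 67 = (1,1,2,2,1,0)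 (α ⊥ β and γ, δ, ε pairwise orthogonal); consider x_r(1), x_α(1)x_β(1) and x_γ(1)x_δ(1)x_ε(1). Then: each invertible matrix equal to one of these three products lies in the group and has order 2; every element of order 2 of the group is conjugate in the group to one of them; and no two of them are conjugate in the group (so, the three matrices being distinct, the group has exactly three conjugacy classes of involutions). -/
theorem result {F : Type*} [Field F] [Fintype F] [CharP F 2] :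
    (∀ y : GL Cfsg.Lie.chevE6.Idx F, ((y : GL Cfsg.Lie.chevE6.Idx F) : Matrix Cfsg.Lie.chevE6.Idx Cfsg.Lie.chevE6.Idx F) ∈ [Cfsg.Lie.chevE6.x F 71 1, Cfsg.Lie.chevE6.x F 68 1 * Cfsg.Lie.chevE6.x F 66 1, Cfsg.Lie.chevE6.x F 55 1 * Cfsg.Lie.chevE6.x F 65 1 * Cfsg.Lie.chevE6.x F 67 1] → y ∈ Cfsg.Lie.chevE6.group F ∧ orderOf y = 2) ∧
    (∀ g ∈ Cfsg.Lie.chevE6.group F, orderOf g = 2 → ∃ y ∈ Cfsg.Lie.chevE6.group F, ((y : GL Cfsg.Lie.chevE6.Idx F) : Matrix Cfsg.Lie.chevE6.Idx Cfsg.Lie.chevE6.Idx F) ∈ [Cfsg.Lie.chevE6.x F 71 1, Cfsg.Lie.chevE6.x F 68 1 * Cfsg.Lie.chevE6.x F 66 1, Cfsg.Lie.chevE6.x F 55 1 * Cfsg.Lie.chevE6.x F 65 1 * Cfsg.Lie.chevE6.x F 67 1] ∧ ∃ h ∈ Cfsg.Lie.chevE6.group F, h * g * h⁻¹ = y) ∧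
    (∀ y₁ ∈ Cfsg.Lie.chevE6.group F, ∀ y₂ ∈ Cfsg.Lie.chevE6.group F, ((y₁ : GL Cfsg.Lie.chevE6.Idx F) : Matrix Cfsg.Lie.chevE6.Idx Cfsg.Lie.chevE6.Idx F) ∈ [Cfsg.Lie.chevE6.x F 71 1, Cfsg.Lie.chevE6.x F 68 1 * Cfsg.Lie.chevE6.x F 66 1, Cfsg.Lie.chevE6.x F 55 1 * Cfsg.Lie.chevE6.x F 65 1 * Cfsg.Lie.chevE6.x F 67 1] → ((y₂ : GL Cfsg.Lie.chevE6.Idx F) : Matrix Cfsg.Lie.chevE6.Idx Cfsg.Lie.chevE6.Idx F) ∈ [Cfsg.Lie.chevE6.x F 71 1, Cfsg.Lie.chevE6.x F 68 1 * Cfsg.Lie.chevE6.x F 66 1, Cfsg.Lie.chevE6.x F 55 1 * Cfsg.Lie.chevE6.x F 65 1 * Cfsg.Lie.chevE6.x F 67 1] →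
      (∃ h ∈ Cfsg.Lie.chevE6.group F, h * y₁ * h⁻¹ = y₂) → ((y₁ : GL Cfsg.Lie.chevE6.Idx F) : Matrix Cfsg.Lie.chevE6.Idx Cfsg.Lie.chevE6.Idx F) = ((y₂ : GL Cfsg.Lie.chevE6.Idx F) : Matrix Cfsg.Lie.chevE6.Idx Cfsg.Lie.chevE6.Idx F)) := by
  classical
  have hE : ([[71], [68, 66], [55, 65, 67]] : List (List ℕ)).map (fun S => (wK (K := F) E6.struct S).1) =
      [chevE6.x F 71 1, chevE6.x F 68 1 * chevE6.x F 66 1,
        chevE6.x F 55 1 * chevE6.x F 65 1 * chevE6.x F 67 1] := by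
    simp [wK, Pv, mul_assoc]
  rw [← hE]
  refine classes E6.struct DE6.tab_ok okNeg_E6 DE6.cl_ok DE6.tree_ok [[71], [68, 66], [55, 65, 67]]
    (by decide +kernel) (by decide +kernel) (rkJ chevE6 302231454903657293676543)
    (fun u w h => rkJ_Cj (stable_full (J := 302231454903657293676543) (by decide +kernel)) E6.struct h) (rkJ_one _) ?_ ?_
  all_goals
    have e1 : rkJ chevE6 302231454903657293676543 (wK (K := F) E6.struct [71]) = 22 :=
      rkJ_eq E6.struct (ws := [(71, DE6.c71)]) (by simp [DE6.c71_ok]) DE6.w1full_ok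
    have e2 : rkJ chevE6 302231454903657293676543 (wK (K := F) E6.struct [68, 66]) = 32 :=
      rkJ_eq E6.struct (ws := [(68, DE6.c68), (66, DE6.c66)]) (by simp [DE6.c68_ok, DE6.c66_ok]) DE6.w2full_ok
    have e3 : rkJ chevE6 302231454903657293676543 (wK (K := F) E6.struct [55, 65, 67]) = 38 :=
      rkJ_eq E6.struct (ws := [(55, DE6.c55), (65, DE6.c65), (67, DE6.c67)]) (by simp [DE6.c55_ok, DE6.c65_ok, DE6.c67_ok]) DE6.w3full_ok
  · simp [e1, e2, e3]
  · simp [e1, e2, e3]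

end Cfsg.Agent.S2175
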