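import Cfsg.Statements.S2176
import Cfsg.Agent.Chev.InvElim.E8Tree
import Cfsg.Agent.Chev.InvElim.E8Rk
import Cfsg.Agent.Chev.InvElim.StageFinal
-- import your own Cfsg.Agent.* helpers here

set_option autoImplicit false
open Cfsg Cfsg.Lie Cfsg.Lib.Chev Cfsg.Lib.Chev.InvElim

namespace Cfsg.Agent.S2176

set_option maxHeartbeats 1000000

/-- Conjugacy classes of involutions in the Chevalley group of type E₈ over a finite field F of characteristic two (the matrix group generated by the root elements x_r(t)). In this problem's root numbering for type E₈ (the Chevalley data module; fundamental roots numbered so that p₁–p₃–p₄–p₅–p₆–p₇–p₈ is the long chain of the diagram and p₂ is joined to p₄; roots indexed by their coefficient vectors in increasing order) let r = 239 be the highest root (2,3,4,6,5,4,3,2), α = 232 = (2,2,4,5,4,3,2,1), β = 233 = (2,3,3,5,4,3,2,1), γ = 228 = (2,2,3,4,3,2,2,1), δ = 222 = (1,2,3,4,3,3,2,1),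 ε = 218 = (1,2,2,4,4,3,2,1), φ = 226 = (2,2,3,4,3,2,1,0), ψ = 220 = (1,2,3,4,3,2,1,1), θ = 213 = (1,2,2,3,3,3,2,1), ω = 216 = (1,2,2,4,3,2,2,1) (the roots within each of {α, β}, {γ, δ, ε}, {φ, ψ, θ, ω} pairwise orthogonal); consider x_r(1), x_α(1)x_β(1), x_γ(1)x_δ(1)x_ε(1) and x_φ(1)x_ψ(1)x_θ(1)x_ω(1). Then: each invertible matrix equal to one of these four products lies in the group and has order 2; every element of order 2 of the group is conjugate in the group to one of them; and no two of them are conjugate in the group (so, the four matrices being distinct, the group has exactly four conjugacy classes of involutions). -/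
theorem result {F : Type*} [Field F] [Fintype F] [CharP F 2] :
    (∀ y : GL Cfsg.Lie.chevE8.Idx F, ((y : GL Cfsg.Lie.chevE8.Idx F) : Matrix Cfsg.Lie.chevE8.Idx Cfsg.Lie.chevE8.Idx F) ∈ [Cfsg.Lie.chevE8.x F 239 1, Cfsg.Lie.chevE8.x F 232 1 * Cfsg.Lie.chevE8.x F 233 1, Cfsg.Lie.chevE8.x F 228 1 * Cfsg.Lie.chevE8.x F 222 1 * Cfsg.Lie.chevE8.x F 218 1, Cfsg.Lie.chevE8.x F 226 1 * Cfsg.Lie.chevE8.x F 220 1 * Cfsg.Lie.chevE8.x F 213 1 * Cfsg.Lie.chevE8.x F 216 1] → y ∈ Cfsg.Lie.chevE8.group F ∧ orderOf y = 2) ∧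
    (∀ g ∈ Cfsg.Lie.chevE8.group F, orderOf g = 2 → ∃ y ∈ Cfsg.Lie.chevE8.group F, ((y : GL Cfsg.Lie.chevE8.Idx F) : Matrix Cfsg.Lie.chevE8.Idx Cfsg.Lie.chevE8.Idx F) ∈ [Cfsg.Lie.chevE8.x F 239 1, Cfsg.Lie.chevE8.x F 232 1 * Cfsg.Lie.chevE8.x F 233 1, Cfsg.Lie.chevE8.x F 228 1 * Cfsg.Lie.chevE8.x F 222 1 * Cfsg.Lie.chevE8.x F 218 1, Cfsg.Lie.chevE8.x F 226 1 * Cfsg.Lie.chevE8.x F 220 1 * Cfsg.Lie.chevE8.x F 213 1 * Cfsg.Lie.chevE8.x F 216 1] ∧ ∃ h ∈ Cfsg.Lie.chevE8.group F, h * g * h⁻¹ = y) ∧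
    (∀ y₁ ∈ Cfsg.Lie.chevE8.group F, ∀ y₂ ∈ Cfsg.Lie.chevE8.group F, ((y₁ : GL Cfsg.Lie.chevE8.Idx F) : Matrix Cfsg.Lie.chevE8.Idx Cfsg.Lie.chevE8.Idx F) ∈ [Cfsg.Lie.chevE8.x F 239 1, Cfsg.Lie.chevE8.x F 232 1 * Cfsg.Lie.chevE8.x F 233 1, Cfsg.Lie.chevE8.x F 228 1 * Cfsg.Lie.chevE8.x F 222 1 * Cfsg.Lie.chevE8.x F 218 1, Cfsg.Lie.chevE8.x F 226 1 * Cfsg.Lie.chevE8.x F 220 1 * Cfsg.Lie.chevE8.x F 213 1 * Cfsg.Lie.chevE8.x F 216 1] → ((y₂ : GL Cfsg.Lie.chevE8.Idx F) : Matrix Cfsg.Lie.chevE8.Idx Cfsg.Lie.chevE8.Idx F) ∈ [Cfsg.Lie.chevE8.x F 239 1, Cfsg.Lie.chevE8.x F 232 1 * Cfsg.Lie.chevE8.x F 233 1, Cfsg.Lie.chevE8.x F 228 1 * Cfsg.Lie.chevE8.x F 222 1 * Cfsg.Lie.chevE8.x F 218 1, Cfsg.Lie.chevE8.x F 226 1 * Cfsg.Lie.chevE8.x F 220 1 * Cfsg.Lie.chevE8.x F 213 1 * Cfsg.Lie.chevE8.x F 216 1] →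
      (∃ h ∈ Cfsg.Lie.chevE8.group F, h * y₁ * h⁻¹ = y₂) → ((y₁ : GL Cfsg.Lie.chevE8.Idx F) : Matrix Cfsg.Lie.chevE8.Idx Cfsg.Lie.chevE8.Idx F) = ((y₂ : GL Cfsg.Lie.chevE8.Idx F) : Matrix Cfsg.Lie.chevE8.Idx Cfsg.Lie.chevE8.Idx F)) := by
  classical
  have hE : ([[239], [232, 233], [228, 222, 218], [226, 220, 213, 216]] : List (List ℕ)).map (fun S => (wK (K := F) E8.struct S).1) =
      [chevE8.x F 239 1, chevE8.x F 232 1 * chevE8.x F 233 1, chevE8.x F 228 1 * chevE8.x F 222 1 * chevE8.x F 218 1, chevE8.x F 226 1 * chevE8.x F 220 1 * chevE8.x F 213 1 * chevE8.x F 216 1] := by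
    simp [wK, Pv, mul_assoc]
  rw [← hE]
  refine classes2 E8.struct DE8.tab_ok okNeg_E8 DE8.cl_ok DE8.jobs_ok DE8.top_eq [[239], [232, 233], [228, 222, 218], [226, 220, 213, 216]]
    (by decide +kernel) (by decide +kernel) (rkJ chevE8 452312848583266388373324160190187140051835877600158453279131187530910662655)
    (fun u w h => rkJ_Cj (stable_full (J := 452312848583266388373324160190187140051835877600158453279131187530910662655) (by decide +kernel)) E8.struct h) (rkJ_one _) ?_ ?_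
  all_goals
    have e0 : rkJ chevE8 452312848583266388373324160190187140051835877600158453279131187530910662655 (wK (K := F) E8.struct [239]) = 58 :=
      rkJ_eq E8.struct (ws := [(239, DE8.c239)]) (by simp [DE8.c239_ok]) DE8.w1full_ok
    have e1 : rkJ chevE8 452312848583266388373324160190187140051835877600158453279131187530910662655 (wK (K := F) E8.struct [232, 233]) = 92 :=
      rkJ_eq E8.struct (ws := [(232, DE8.c232), (233, DE8.c233)]) (by simp [DE8.c232_ok, DE8.c233_ok]) DE8.w2full_ok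
    have e2 : rkJ chevE8 452312848583266388373324160190187140051835877600158453279131187530910662655 (wK (K := F) E8.struct [228, 222, 218]) = 110 :=
      rkJ_eq E8.struct (ws := [(228, DE8.c228), (222, DE8.c222), (218, DE8.c218)]) (by simp [DE8.c228_ok, DE8.c222_ok, DE8.c218_ok]) DE8.w3full_ok
    have e3 : rkJ chevE8 452312848583266388373324160190187140051835877600158453279131187530910662655 (wK (K := F) E8.struct [226, 220, 213, 216]) = 120 :=
      rkJ_eq E8.struct (ws := [(226, DE8.c226), (220, DE8.c220), (213, DE8.c213), (216, DE8.c216)]) (by simp [DE8.c226_ok, DE8.c220_ok, DE8.c213_ok, DE8.c216_ok]) DE8.w4full_ok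
  · simp [e0, e1, e2, e3]
  · simp [e0, e1, e2, e3]

end Cfsg.Agent.S2176
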