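import Cfsg.Statements.S2181
import Cfsg.Agent.Chev.InvElim.E7Tree2
import Cfsg.Agent.Chev.InvElim.E7Rk
import Cfsg.Agent.Chev.InvElim.Final
-- import your own Cfsg.Agent.* helpers here

set_option autoImplicit false
open Cfsg Cfsg.Lie Cfsg.Lib.Chev Cfsg.Lib.Chev.InvElim

namespace Cfsg.Agent.S2181

/-- The Chevalley group of type E₇ over a finite field of characteristic two (the matrix group generated by the root elements) has exactly five conjugacy classes of elements of order 2. -/
theorem result {F : Type*} [Field F] [Fintype F] [CharP F 2] :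
    (ConjClasses.mk '' {g : ↥(Cfsg.Lie.chevE7.group F) | orderOf g = 2}).ncard = 5 := by
  classical
  refine (class_count E7.struct DE7.tab_ok okNeg_E7 DE7.cl_ok DE7.tree_ok
    [[63], [63, 66], [63, 66, 73], [63, 66, 78], [63, 66, 73, 78]] (by decide +kernel) (by decide +kernel) (by decide +kernel) (rkJ chevE7 10889035741470030830827987437816582766591)
    (fun u w h => rkJ_Cj (stable_full (J := 10889035741470030830827987437816582766591) (by decide +kernel)) E7.struct h) (rkJ_one _) ?_ ?_).trans rfl
  all_goals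
    have e0 : rkJ chevE7 10889035741470030830827987437816582766591 (wK (K := F) E7.struct [63]) = 34 :=
      rkJ_eq E7.struct (ws := [(63, DE7.c63)]) (by simp [DE7.c63_ok]) DE7.w1full_ok
    have e1 : rkJ chevE7 10889035741470030830827987437816582766591 (wK (K := F) E7.struct [63, 66]) = 52 :=
      rkJ_eq E7.struct (ws := [(63, DE7.c63), (66, DE7.c66)]) (by simp [DE7.c63_ok, DE7.c66_ok]) DE7.w2full_ok
    have e2 : rkJ chevE7 10889035741470030830827987437816582766591 (wK (K := F) E7.struct [63, 66, 73]) = 62 :=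
      rkJ_eq E7.struct (ws := [(63, DE7.c63), (66, DE7.c66), (73, DE7.c73)]) (by simp [DE7.c63_ok, DE7.c66_ok, DE7.c73_ok]) DE7.w3full_ok
    have e3 : rkJ chevE7 10889035741470030830827987437816582766591 (wK (K := F) E7.struct [63, 66, 78]) = 53 :=
      rkJ_eq E7.struct (ws := [(63, DE7.c63), (66, DE7.c66), (78, DE7.c78)]) (by simp [DE7.c63_ok, DE7.c66_ok, DE7.c78_ok]) DE7.w4full_ok
    have e4 : rkJ chevE7 10889035741470030830827987437816582766591 (wK (K := F) E7.struct [63, 66, 73, 78]) = 63 :=
      rkJ_eq E7.struct (ws := [(63, DE7.c63), (66, DE7.c66), (73, DE7.c73), (78, DE7.c78)]) (by simp [DE7.c63_ok, DE7.c66_ok, DE7.c73_ok, DE7.c78_ok]) DE7.w5full_ok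
  · simp [e0, e1, e2, e3, e4]
  · simp [e0, e1, e2, e3, e4]

end Cfsg.Agent.S2181
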