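import Cfsg.Statements.S2183
import Cfsg.Agent.Chev.Tw.D4InvRank
-- import your own Cfsg.Agent.* helpers here

set_option autoImplicit false
open Cfsg

namespace Cfsg.Agent.S2183

/-- The twisted group ³D₄(q), q even, realised inside the Chevalley group of type D₄ over the field K with q³ elements, has exactly two conjugacy classes of elements of order 2. -/
theorem result {K : Type*} [Field K] [Fintype K] [CharP K 2] (q : ℕ) (hK : Fintype.card K = q ^ 3) :
    (ConjClasses.mk '' {g : ↥(Cfsg.Lie.twistedD4 K q) | orderOf g = 2}).ncard = 2 := by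
  obtain ⟨n, -, hn⟩ := FiniteField.card K 2
  obtain ⟨k, -, hk⟩ := (Nat.dvd_prime_pow Nat.prime_two).1 (show q ∣ 2 ^ (n : ℕ) by
    rw [← hn, hK]; exact dvd_pow_self q (by norm_num))
  have hk1 : 1 ≤ k := Nat.one_le_iff_ne_zero.2 fun h => by
    rw [hk, h, pow_zero, one_pow] at hK
    exact absurd hK (Fintype.one_lt_card (α := K)).ne'
  obtain ⟨X, rfl⟩ := Cfsg.Lib.Chev.D4.exists_tw (K := K) (q := q) ⟨2, k, Nat.prime_two.prime, hk1, hk.symm⟩ hK
  rw [← Cfsg.Lib.Chev.D4.G1_eq X]
  exact Cfsg.Lib.Chev.D4.class_count (X := X) hk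

end Cfsg.Agent.S2183
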