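import Cfsg.Statements.S2184
import Cfsg.Agent.Known.TitsInvolutionClasses
-- import your own Cfsg.Agent.* helpers here

set_option autoImplicit false
open Cfsg

namespace Cfsg.Agent.S2184

/-- The twisted group ²F₄(q), q = 2^(2m+1) with m ≥ 0 (realised inside the Chevalley group of type F₄ over the field K with q elements, θ the 2^m-th power map), has exactly two conjugacy classes of elements of order 2; and so does the Tits group, the commutator subgroup of ²F₄(2). -/
theorem result {K : Type*} [Field K] [Fintype K] (m : ℕ) (hK : Fintype.card K = 2 ^ (2 * m + 1)) :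
    (ConjClasses.mk '' {g : ↥(Cfsg.Lie.twistedF4 K (2 ^ m)) | orderOf g = 2}).ncard = 2 ∧ (ConjClasses.mk '' {g : Cfsg.Lie.TitsGroup | orderOf g = 2}).ncard = 2 := by
  obtain ⟨X, hX⟩ := Cfsg.Lib.Chev.ReeF.exists_rf hK
  haveI := X.char2
  obtain ⟨Y, hY⟩ := Cfsg.Lib.Chev.ReeF.exists_rf (K := ZMod 2) (m := 0) (ZMod.card 2)
  have key : ∀ e, X.e = e →
      (ConjClasses.mk '' {g : ↥(Cfsg.Lie.twistedF4 K e) | orderOf g = 2}).ncard = 2 := by
    intro e he
    subst he
    exact X.class_count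
  have key2 : ∀ e, Y.e = e →
      (ConjClasses.mk '' {g : ↥(commutator ↥(Cfsg.Lie.twistedF4 (ZMod 2) e)) | orderOf g = 2}).ncard = 2 := by
    intro e he
    subst he
    exact Cfsg.Lib.TitsInvolClasses.class_count Y
  exact ⟨key (2 ^ m) (by simp [Cfsg.Lib.Chev.ReeF.RF.e, hX]),
    key2 1 (by simp [Cfsg.Lib.Chev.ReeF.RF.e, hY])⟩

end Cfsg.Agent.S2184
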