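import Cfsg.Statements.S2189
import Cfsg.Agent.Chev.Subfield.Overgroup

set_option autoImplicit false
open Cfsg

namespace Cfsg.Agent.S2189

open Cfsg.Lie Cfsg.Lib.Chev Cfsg.Lib.Subfield

private theorem G2_z : okWord chevG2 [0, 1, 0, 1, 0, 1] = true ∧ wW G2.cert [0, 1, 0, 1, 0, 1] 9 = chevG2.neg 9 := by
  decide +kernel

theorem all_types {F : Type*} [Field F] (p : ℕ) [Fact p.Prime] [CharP F p] {D : ChevalleyDatum}
    (hD : D ∈ [chevG2, chevB2, chevD4, chevF4, chevE6, chevE7, chevE8]) (σ : F →+* F)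
    (H : Subgroup (GL D.Idx F)) [Finite H] (hHG : H ≤ D.group F) (hRH : ratGroup D σ ≤ H) :
    ∃ R : Subfield F, (R : Set F).Finite ∧ (∀ x, σ x = x → x ∈ R) ∧
      ∀ τ : F →+* F, (∀ x, τ x = x ↔ x ∈ R) → ratGroup D τ ≤ H ∧ ∀ g ∈ H, phiG τ D g = g := by
  have hmem := hD
  simp only [List.mem_cons, List.not_mem_nil, or_false] at hmem
  have hwords : ∀ (D : ChevalleyDatum) (Ws : List (List ℕ)), kall (okWord D) Ws = true →
      ∀ W ∈ Ws, okWord D W = true := fun D Ws h => (kall_iff _ _).1 h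
  rcases hmem with rfl | rfl | rfl | rfl | rfl | rfl | rfl
  · exact overgroup p hD
      ⟨G2.struct, okNeg_G2, G2.ht, G2.descJ, Cfsg.Lib.Steinberg.G2_lin, G2.span, co_G2, conn_G2⟩ (by decide)
      ⟨long_G2, top_G2⟩ spread_G2 ⟨_, Or.inl short_G2⟩
      (caseA_G p grow_G2 (by decide) a2_G2 (hwords _ _ (by decide +kernel)) g_G2 G2_z.1 G2_z.2)
      grow_G2 (pair1_nil _) pair1_G2 down_G2 σ H hHG hRH
  · exact overgroup p hD
      ⟨B2.struct, okNeg_B2, B2.ht, B2.descJ, Cfsg.Lib.Steinberg.B2_lin, B2.span, co_B2, conn_B2⟩ (by decide)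
      ⟨long_B2, top_B2⟩ spread_B2 ⟨_, Or.inl short_B2⟩
      (caseA_B p (B := bB2) grow_B2 (by decide) b_B2)
      grow_B2 pair1_B2 (pair1_nil _) down_B2 σ H hHG hRH
  · exact overgroup p hD
      ⟨D4.struct, okNeg_D4, D4.ht, D4.descJ, Cfsg.Lib.Steinberg.D4_lin, D4.span, co_D4, conn_D4⟩ (by decide)
      ⟨long_D4, top_D4⟩ spread_D4 ⟨_, Or.inr partner_D4⟩
      (caseA_simply p grow_D4 (by decide) a2_D4 (hwords _ _ (by decide +kernel)))
      grow_D4 (pair1_nil _) (pair1_nil _) down_D4 σ H hHG hRH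
  · exact overgroup p hD
      ⟨F4.struct, okNeg_F4, F4.ht, F4.descJ, Cfsg.Lib.Steinberg.F4_lin, F4.span, co_F4, conn_F4⟩ (by decide)
      ⟨long_F4, top_F4⟩ spread_F4 ⟨_, Or.inl short_F4⟩
      (caseA_F p (B := bF4) grow_F4 (by decide) a2_F4 (hwords _ _ (by decide +kernel)) b_F4)
      grow_F4 pair1_F4 (pair1_nil _) down_F4 σ H hHG hRH
  · exact overgroup p hD
      ⟨E6.struct, okNeg_E6, E6.ht, E6.descJ, Cfsg.Lib.Steinberg.E6_lin, E6.span, co_E6, conn_E6⟩ (by decide)
      ⟨long_E6, top_E6⟩ spread_E6 ⟨_, Or.inr partner_E6⟩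
      (caseA_simply p grow_E6 (by decide) a2_E6 (hwords _ _ (by decide +kernel)))
      grow_E6 (pair1_nil _) (pair1_nil _) down_E6 σ H hHG hRH
  · exact overgroup p hD
      ⟨E7.struct, okNeg_E7, E7.ht, E7.descJ, Cfsg.Lib.Steinberg.E7_lin, E7.span, co_E7, conn_E7⟩ (by decide)
      ⟨long_E7, top_E7⟩ spread_E7 ⟨_, Or.inr partner_E7⟩
      (caseA_simply p grow_E7 (by decide) a2_E7 (hwords _ _ (by decide +kernel)))
      grow_E7 (pair1_nil _) (pair1_nil _) down_E7 σ H hHG hRH
  · exact overgroup p hD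
      ⟨E8.struct, okNeg_E8, E8.ht, E8.descJ, Cfsg.Lib.Steinberg.E8_lin, E8.span, co_E8, conn_E8⟩ (by decide)
      ⟨long_E8, top_E8⟩ spread_E8 ⟨_, Or.inr partner_E8⟩
      (caseA_simply p grow_E8 (by decide) a2_E8 (hwords _ _ (by decide +kernel)))
      grow_E8 (pair1_nil _) (pair1_nil _) down_E8 σ H hHG hRH

/-- The fixed field of the `q`-th power map of an algebraically closed field has `q` elements. -/
theorem card_fixed {k : Type*} [Field k] [IsAlgClosed k] (p : ℕ) [Fact p.Prime] [CharP k p] {n : ℕ} (hn : n ≠ 0) :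
    Nat.card {x : k // x ^ (p ^ n) = x} = p ^ n := by
  classical
  have hp := (Fact.out : p.Prime).one_lt
  have hq : 1 < p ^ n := Nat.one_lt_pow hn hp
  set f : Polynomial k := Polynomial.X ^ (p ^ n) - Polynomial.X with hf
  have hne : f ≠ 0 := FiniteField.X_pow_card_pow_sub_X_ne_zero k hn hp
  have hc := Polynomial.card_rootSet_eq_natDegree (F := k) (K := k) (p := f)
    (galois_poly_separable p _ (dvd_pow_self p hn)) (IsAlgClosed.splits _)
  rw [FiniteField.X_pow_card_pow_sub_X_natDegree_eq k hn hp, ← Nat.card_eq_fintype_card] at hc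
  refine Eq.trans ?_ hc
  refine Nat.card_congr (Equiv.subtypeEquivRight fun x => ?_)
  rw [Polynomial.mem_rootSet_of_ne hne, hf, map_sub, map_pow, Polynomial.aeval_X, sub_eq_zero]

/-- Finite subgroups of an adjoint Chevalley group over an algebraically closed field that contain the group over a finite subfield. Let k be an algebraically closed field of prime characteristic p, G the Chevalley group of type G₂, B₂, D₄, F₄, E₆, E₇ or E₈ over k (the matrix group generated by the root elements x_s(t), t ∈ k), and q = p^a with a ≥ 1. Let L be the subgroup generated by the root elements x_s(t) with t^q = t (the Chevalley group over the field of q elements inside G), and let M be a finite subgroup of G containing L. Then for some r ≥ 1, M contains every root element x_s(t) with t^(q^r) = t and every element of M is a matrix all of whose entries c satisfy c^(q^r) = c (so M lies between the Chevalley group over the field with q^r elements and the group of points of G fixed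 by the q^r-th power map). -/
theorem result {k : Type*} [Field k] [IsAlgClosed k] (p : ℕ) [Fact p.Prime] [CharP k p] (D : Cfsg.Lie.ChevalleyDatum) (hD : D ∈ [Cfsg.Lie.chevG2, Cfsg.Lie.chevB2, Cfsg.Lie.chevD4, Cfsg.Lie.chevF4, Cfsg.Lie.chevE6, Cfsg.Lie.chevE7, Cfsg.Lie.chevE8]) (a : ℕ) (ha : 1 ≤ a) (M : Subgroup (GL D.Idx k)) (hMfin : Finite ↥M) (hMG : M ≤ D.group k)
    (hLM : Subgroup.closure {g : GL D.Idx k | ∃ (s : ℕ) (t : k), t ^ (p ^ a) = t ∧ (g : Matrix D.Idx D.Idx k) = D.x k s t} ≤ M) :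
    ∃ r : ℕ, 1 ≤ r ∧ Subgroup.closure {g : GL D.Idx k | ∃ (s : ℕ) (t : k), t ^ ((p ^ a) ^ r) = t ∧ (g : Matrix D.Idx D.Idx k) = D.x k s t} ≤ M ∧
      ∀ g ∈ M, ∀ i j : D.Idx, ((g : Matrix D.Idx D.Idx k) i j) ^ ((p ^ a) ^ r) = (g : Matrix D.Idx D.Idx k) i j := by
  haveI := hMfin
  have hp := (Fact.out : p.Prime)
  obtain ⟨R, hfin, hsub, hR⟩ := all_types p hD (iterateFrobenius k p a) M hMG (by
    refine le_trans (le_of_eq ?_) hLM
    unfold ratGroup
    simp only [iterateFrobenius_def])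
  haveI : Finite R := hfin.to_subtype
  haveI := Fintype.ofFinite R
  let k0 : Subfield k := (iterateFrobenius k p a).eqLocusField (RingHom.id k)
  have hk0 : Nat.card k0 = p ^ a := by
    rw [← card_fixed (k := k) p (show a ≠ 0 by omega)]
    exact Nat.card_congr (Equiv.subtypeEquivRight fun x => by
      show iterateFrobenius k p a x = x ↔ _
      rw [iterateFrobenius_def])
  have hle : k0 ≤ R := fun x hx => hsub x hx
  let ι : k0 →+* R := RingHom.codRestrict k0.subtype R fun x => hle x.2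
  letI := ι.toAlgebra
  haveI : Finite k0 := Nat.finite_of_card_ne_zero (by rw [hk0]; exact (pow_pos hp.pos a).ne')
  haveI : Module.Finite k0 R := Module.Finite.of_finite
  obtain ⟨r, hcard⟩ : ∃ r, Nat.card R = (p ^ a) ^ r :=
    ⟨Module.finrank k0 R, by rw [Module.natCard_eq_pow_finrank (K := k0) (V := R), hk0]⟩
  have hr : 1 ≤ r := by
    rcases Nat.eq_zero_or_pos r with rfl | h
    · rw [pow_zero] at hcard
      exact absurd hcard (Finite.one_lt_card (α := R)).ne'
    · exact h
  have hn : a * r ≠ 0 := Nat.mul_ne_zero (by omega) (by omega)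
  have hτ : ∀ x : k, iterateFrobenius k p (a * r) x = x ↔ x ∈ R := by
    intro x
    rw [iterateFrobenius_def]
    have hRq : ∀ y ∈ R, y ^ (p ^ (a * r)) = y := fun y hy => by
      have h := congrArg Subtype.val (FiniteField.pow_card (⟨y, hy⟩ : R))
      rwa [← Nat.card_eq_fintype_card, hcard, ← pow_mul p] at h
    refine ⟨fun hx => ?_, hRq x⟩
    haveI : Finite {y : k // y ^ (p ^ (a * r)) = y} :=
      Nat.finite_of_card_ne_zero (by rw [card_fixed p hn]; exact (pow_pos hp.pos _).ne')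
    have hb : Function.Bijective (fun y : R => (⟨y.1, hRq y.1 y.2⟩ : {y : k // y ^ (p ^ (a * r)) = y})) :=
      (Nat.bijective_iff_injective_and_card _).2
        ⟨fun u v h => Subtype.ext (congrArg (fun z : {y : k // y ^ (p ^ (a * r)) = y} => z.1) h), by rw [card_fixed p hn, hcard, pow_mul]⟩
    obtain ⟨y, hy⟩ := hb.2 ⟨x, hx⟩
    have : (y : k) = x := congrArg Subtype.val hy
    exact this ▸ y.2
  obtain ⟨hLr, hfix⟩ := hR (iterateFrobenius k p (a * r)) hτ
  refine ⟨r, hr, le_trans (le_of_eq ?_) hLr, fun g hg i j => ?_⟩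
  · unfold ratGroup
    simp only [iterateFrobenius_def, ← pow_mul p]
  · have h := (phiG_eq_self _).1 (hfix g hg) i j
    rwa [iterateFrobenius_def, pow_mul] at h

end Cfsg.Agent.S2189
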