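import Cfsg.Statements.S2190
import Cfsg.Agent.Chev.Subfield.Main

set_option autoImplicit false
open Cfsg

namespace Cfsg.Agent.S2190

open Cfsg.Lie Cfsg.Lib.Chev Cfsg.Lib.Subfield

private theorem G2_z : okWord chevG2 [0, 1, 0, 1, 0, 1] = true ∧ wW G2.cert [0, 1, 0, 1, 0, 1] 9 = chevG2.neg 9 := by
  decide +kernel

theorem all_types {F : Type*} [Field F] [Fintype F] (p : ℕ) [Fact p.Prime] [CharP F p] {D : ChevalleyDatum}
    (hD : D ∈ [chevG2, chevB2, chevD4, chevF4, chevE6, chevE7, chevE8]) (σ : F →+* F)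
    (hmax : ∀ R : Subring F, (∀ x, σ x = x → x ∈ R) → (∃ x ∈ R, σ x ≠ x) → ∀ x, x ∈ R) :
    ∃ (C : Cert) (_ : Struct D C), 0 < D.rank ∧ ∀ H : Subgroup (GL D.Idx F), H ≤ D.group F →
      (∀ g ∈ D.group F, phiG σ D g = g → g ∈ H) → (∀ g ∈ H, phiG σ D g = g) ∨ H = D.group F := by
  have hmem := hD
  simp only [List.mem_cons, List.not_mem_nil, or_false] at hmem
  have hwords : ∀ (D : ChevalleyDatum) (Ws : List (List ℕ)), kall (okWord D) Ws = true →
      ∀ W ∈ Ws, okWord D W = true := fun D Ws h => (kall_iff _ _).1 h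
  rcases hmem with rfl | rfl | rfl | rfl | rfl | rfl | rfl
  · exact ⟨_, G2.struct, by decide, maximal p σ hmax hD
      ⟨G2.struct, okNeg_G2, G2.ht, G2.descJ, Cfsg.Lib.Steinberg.G2_lin, G2.span, co_G2, conn_G2⟩ (by decide)
      ⟨long_G2, top_G2⟩ spread_G2 ⟨_, Or.inl short_G2⟩
      (caseA_G p grow_G2 (by decide) a2_G2 (hwords _ _ (by decide +kernel)) g_G2 G2_z.1 G2_z.2)⟩
  · exact ⟨_, B2.struct, by decide, maximal p σ hmax hD
      ⟨B2.struct, okNeg_B2, B2.ht, B2.descJ, Cfsg.Lib.Steinberg.B2_lin, B2.span, co_B2, conn_B2⟩ (by decide)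
      ⟨long_B2, top_B2⟩ spread_B2 ⟨_, Or.inl short_B2⟩
      (caseA_B p (B := bB2) grow_B2 (by decide) b_B2)⟩
  · exact ⟨_, D4.struct, by decide, maximal p σ hmax hD
      ⟨D4.struct, okNeg_D4, D4.ht, D4.descJ, Cfsg.Lib.Steinberg.D4_lin, D4.span, co_D4, conn_D4⟩ (by decide)
      ⟨long_D4, top_D4⟩ spread_D4 ⟨_, Or.inr partner_D4⟩
      (caseA_simply p grow_D4 (by decide) a2_D4 (hwords _ _ (by decide +kernel)))⟩
  · exact ⟨_, F4.struct, by decide, maximal p σ hmax hD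
      ⟨F4.struct, okNeg_F4, F4.ht, F4.descJ, Cfsg.Lib.Steinberg.F4_lin, F4.span, co_F4, conn_F4⟩ (by decide)
      ⟨long_F4, top_F4⟩ spread_F4 ⟨_, Or.inl short_F4⟩
      (caseA_F p (B := bF4) grow_F4 (by decide) a2_F4 (hwords _ _ (by decide +kernel)) b_F4)⟩
  · exact ⟨_, E6.struct, by decide, maximal p σ hmax hD
      ⟨E6.struct, okNeg_E6, E6.ht, E6.descJ, Cfsg.Lib.Steinberg.E6_lin, E6.span, co_E6, conn_E6⟩ (by decide)
      ⟨long_E6, top_E6⟩ spread_E6 ⟨_, Or.inr partner_E6⟩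
      (caseA_simply p grow_E6 (by decide) a2_E6 (hwords _ _ (by decide +kernel)))⟩
  · exact ⟨_, E7.struct, by decide, maximal p σ hmax hD
      ⟨E7.struct, okNeg_E7, E7.ht, E7.descJ, Cfsg.Lib.Steinberg.E7_lin, E7.span, co_E7, conn_E7⟩ (by decide)
      ⟨long_E7, top_E7⟩ spread_E7 ⟨_, Or.inr partner_E7⟩
      (caseA_simply p grow_E7 (by decide) a2_E7 (hwords _ _ (by decide +kernel)))⟩
  · exact ⟨_, E8.struct, by decide, maximal p σ hmax hD
      ⟨E8.struct, okNeg_E8, E8.ht, E8.descJ, Cfsg.Lib.Steinberg.E8_lin, E8.span, co_E8, conn_E8⟩ (by decide)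
      ⟨long_E8, top_E8⟩ spread_E8 ⟨_, Or.inr partner_E8⟩
      (caseA_simply p grow_E8 (by decide) a2_E8 (hwords _ _ (by decide +kernel)))⟩

/-- Subfield subgroups of prime degree are maximal. Let K be a finite field with q^r elements, r a prime, q a power of the characteristic, and G the Chevalley group of type G₂, B₂, D₄, F₄, E₆, E₇ or E₈ over K (the matrix group generated by the root elements). Let M be the subgroup of G consisting of the matrices all of whose entries lie in the subfield with q elements (entries c with c^q = c). Then M is a proper subgroup of G and is maximal: every subgroup of G containing M is M or G. -/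
theorem result {K : Type*} [Field K] [Fintype K] (p : ℕ) [Fact p.Prime] [CharP K p] (D : Cfsg.Lie.ChevalleyDatum) (hD : D ∈ [Cfsg.Lie.chevG2, Cfsg.Lie.chevB2, Cfsg.Lie.chevD4, Cfsg.Lie.chevF4, Cfsg.Lie.chevE6, Cfsg.Lie.chevE7, Cfsg.Lie.chevE8]) (a r : ℕ) (ha : 1 ≤ a) (hr : r.Prime) (hK : Fintype.card K = (p ^ a) ^ r) (M : Subgroup (GL D.Idx K))
    (hM : ∀ g : GL D.Idx K, g ∈ M ↔ g ∈ D.group K ∧ ∀ i j : D.Idx, ((g : Matrix D.Idx D.Idx K) i j) ^ (p ^ a) = (g : Matrix D.Idx D.Idx K) i j) :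
    M ≠ D.group K ∧ ∀ H : Subgroup (GL D.Idx K), M ≤ H → H ≤ D.group K → H = M ∨ H = D.group K := by
  set σ : K →+* K := iterateFrobenius K p a with hσdef
  have hσ : ∀ x : K, σ x = x ^ p ^ a := fun x => iterateFrobenius_def p a x
  have hq : 1 < p ^ a := Nat.one_lt_pow (by omega) (Fact.out : p.Prime).one_lt
  obtain ⟨⟨t, ht⟩, hmax⟩ := maximal_fixed_field σ hq hr hσ (by rw [Nat.card_eq_fintype_card, hK])
  have hfix : ∀ g : GL D.Idx K, g ∈ M ↔ g ∈ D.group K ∧ phiG σ D g = g := fun g => by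
    rw [hM, phiG_eq_self σ]
    simp only [hσ]
  obtain ⟨C, S, hrank, hall⟩ := all_types p hD σ hmax
  refine ⟨fun e => ?_, fun H hMH hHG => ?_⟩
  · have h : S.ok.xG (top D) t ∈ M := by rw [e]; exact S.ok.xG_mem_group _ _
    exact ht ((phi_xG_iff σ S (top_lt S hrank).1 t).1 ((hfix _).1 h).2)
  · rcases hall H hHG (fun g hg hgf => hMH ((hfix g).2 ⟨hg, hgf⟩)) with h | h
    · exact Or.inl (le_antisymm (fun g hg => (hfix g).2 ⟨hHG hg, h g hg⟩) hMH)
    · exact Or.inr h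

end Cfsg.Agent.S2190
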