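import Cfsg.Statements.S2197
import Cfsg.Agent.Known.TitsTwoTrans

set_option autoImplicit false
open Cfsg

namespace Cfsg.Agent.S2197

/-- The Tits group (the commutator subgroup of ²F₄(2)) has no faithful 2-transitive action on a finite set with more than two points. -/
theorem result {Ω : Type*} [Fintype Ω] [MulAction Cfsg.Lie.TitsGroup Ω] [FaithfulSMul Cfsg.Lie.TitsGroup Ω] (hΩ : 3 ≤ Fintype.card Ω) :
    ¬ MulAction.IsMultiplyPretransitive Cfsg.Lie.TitsGroup Ω 2 := by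
  obtain ⟨X, hX⟩ := Cfsg.Lib.Chev.ReeF.exists_rf (K := ZMod 2) (m := 0) (ZMod.card 2)
  have key : ∀ e, X.e = e → ∀ [MulAction ↥(commutator ↥(Cfsg.Lie.twistedF4 (ZMod 2) e)) Ω]
      [FaithfulSMul ↥(commutator ↥(Cfsg.Lie.twistedF4 (ZMod 2) e)) Ω],
      ¬ MulAction.IsMultiplyPretransitive ↥(commutator ↥(Cfsg.Lie.twistedF4 (ZMod 2) e)) Ω 2 := by
    intro e he i1 i2
    subst he
    exact @Cfsg.Lib.TitsTwoTrans.no_two_trans_commutator X Ω _ i1 i2 hΩ
  exact key 1 (by simp [Cfsg.Lib.Chev.ReeF.RF.e, hX])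

end Cfsg.Agent.S2197
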