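import Cfsg.Statements.S2205
import Cfsg.Agent.PSqPlusOne.Main

set_option autoImplicit false
open Cfsg

namespace Cfsg.Agent.S2205

/-- A finite group acting faithfully and 2-transitively on a set with p² + 1 points, p a prime, is doubly primitive — a point stabilizer acts primitively on the remaining p² points — unless p = 2 and the group is the Frobenius group of order 20. -/
theorem result {G Ω : Type*} [Group G] [Finite G] [Fintype Ω] [MulAction G Ω] [FaithfulSMul G Ω] (p : ℕ) (hp : p.Prime) (hΩ : Fintype.card Ω = p ^ 2 + 1) (h2 : MulAction.IsMultiplyPretransitive G Ω 2) (a : Ω) :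
    MulAction.IsPreprimitive ↥(MulAction.stabilizer G a) ↥(SubMulAction.ofStabilizer G a) ∨ (p = 2 ∧ Nat.card G = 20) := by
  classical
  haveI : Finite Ω := Finite.of_fintype Ω
  by_cases hprim : MulAction.IsPreprimitive ↥(MulAction.stabilizer G a) ↥(SubMulAction.ofStabilizer G a)
  · exact Or.inl hprim
  right
  have two : ∀ a b c d : Ω, a ≠ b → c ≠ d → ∃ g : G, g • a = c ∧ g • b = d :=
    fun a b c d hab hcd => (MulAction.is_two_pretransitive_iff.1 h2) hab hcd
  have hn : Nat.card Ω = p ^ 2 + 1 := by rw [Nat.card_eq_fintype_card, hΩ]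
  haveI : MulAction.IsPretransitive ↥(MulAction.stabilizer G a) ↥(SubMulAction.ofStabilizer G a) := by
    refine ⟨fun x y => ?_⟩
    obtain ⟨g, hg1, hg2⟩ := two a x a y (Ne.symm x.2) (Ne.symm y.2)
    exact ⟨⟨g, hg1⟩, Subtype.ext hg2⟩
  obtain ⟨B, hB, hnt⟩ : ∃ B : Set ↥(SubMulAction.ofStabilizer G a),
      MulAction.IsBlock ↥(MulAction.stabilizer G a) B ∧ ¬ MulAction.IsTrivialBlock B := by
    by_contra hc
    exact hprim ⟨fun {B} hB => by_contra fun h => hc ⟨B, hB, h⟩⟩
  rw [MulAction.IsTrivialBlock, not_or, Set.not_subsingleton_iff] at hnt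
  obtain ⟨⟨b0, hb0, b1, hb1, hb01⟩, huniv⟩ := hnt
  have hBcard : B.ncard = p := by
    have hd := hB.ncard_dvd_card ⟨b0, hb0⟩
    have hXcard : Nat.card ↥(SubMulAction.ofStabilizer G a) = p ^ 2 := by
      rw [SubMulAction.nat_card_ofStabilizer_eq, hn, Nat.add_sub_cancel]
    rw [hXcard] at hd
    obtain ⟨i, hi, hi'⟩ := (Nat.dvd_prime_pow hp).1 hd
    interval_cases i
    · rw [pow_zero, Set.ncard_eq_one] at hi'
      obtain ⟨w, rfl⟩ := hi'
      exact absurd (hb0.trans hb1.symm) hb01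
    · rwa [pow_one] at hi'
    · exact absurd (Set.eq_of_subset_of_ncard_le (Set.subset_univ B) (by rw [Set.ncard_univ, hXcard, hi'])) huniv
  -- transport the block to every point
  let D : Set Ω := Subtype.val '' B
  have haD : a ∉ D := fun ⟨x, _, hx⟩ => x.2 hx
  have hDcard : D.ncard = p := by rw [Set.ncard_image_of_injective _ Subtype.val_injective, hBcard]
  have hblock : ∀ g : G, g • a = a → ∀ d ∈ D, g • d ∈ D → ∀ e ∈ D, g • e ∈ D := by
    rintro g hg _ ⟨x, hx, rfl⟩ hgd _ ⟨y, hy, rfl⟩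
    obtain ⟨x', hx', hxx⟩ := hgd
    have hmem : (⟨g, hg⟩ : MulAction.stabilizer G a) • x ∈ B := by
      rwa [show (⟨g, hg⟩ : MulAction.stabilizer G a) • x = x' from Subtype.ext hxx.symm]
    have := hB.smul_eq_of_mem hx hmem
    exact ⟨_, this ▸ Set.smul_mem_smul_set hy, rfl⟩
  let R : Ω → Ω → Set Ω := fun x y =>
    {z | ∃ g : G, g • a = x ∧ g⁻¹ • y ∈ D ∧ g⁻¹ • z ∈ D}
  have huni : ∀ g g' : G, g • a = g' • a → ∀ y, g⁻¹ • y ∈ D → g'⁻¹ • y ∈ D →
      ∀ z, g⁻¹ • z ∈ D → g'⁻¹ • z ∈ D := by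
    intro g g' he y h1 h2 z h3
    have := hblock (g'⁻¹ * g) (by rw [mul_smul, he, inv_smul_smul]) _ h1
      (by rwa [mul_smul, smul_inv_smul]) _ h3
    rwa [mul_smul, smul_inv_smul] at this
  have hex : ∀ x y : Ω, x ≠ y → ∃ g : G, g • a = x ∧ g⁻¹ • y ∈ D := by
    intro x y hxy
    obtain ⟨g, hg1, hg2⟩ := two a b0 x y (Ne.symm b0.2) hxy
    exact ⟨g, hg1, by rw [← hg2, inv_smul_smul]; exact ⟨b0, hb0, rfl⟩⟩
  let S : Cfsg.Agent.PSqPlusOne.Sys G Ω p :=
    { Δ := R
      hp := hp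
      card := hn
      two := two
      mem := fun {x y} hxy => by
        obtain ⟨g, hg1, hg2⟩ := hex x y hxy
        exact ⟨g, hg1, hg2, hg2⟩
      ne := fun {x y z} ⟨g, hg1, _, hg3⟩ e => haD (by
        rw [e, ← hg1, inv_smul_smul] at hg3; exact hg3)
      eq := fun {x y z} ⟨g, hg1, hg2, hg3⟩ => by
        ext w
        constructor
        · rintro ⟨g', hg1', hg2', hg3'⟩
          exact ⟨g, hg1, hg2, huni g' g (hg1'.trans hg1.symm) z hg2' hg3 w hg3'⟩
        · rintro ⟨g', hg1', hg2', hg3'⟩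
          exact ⟨g, hg1, hg3, huni g' g (hg1'.trans hg1.symm) y hg2' hg2 w hg3'⟩
      ncard := fun {x y} hxy => by
        obtain ⟨g, hg1, hg2⟩ := hex x y hxy
        have : R x y = (fun d => g • d) '' D := by
          ext w
          constructor
          · rintro ⟨g', hg1', hg2', hg3'⟩
            exact ⟨g⁻¹ • w, huni g' g (hg1'.trans hg1.symm) y hg2' hg2 w hg3', smul_inv_smul g w⟩
          · rintro ⟨d, hd, rfl⟩
            exact ⟨g, hg1, hg2, by rwa [inv_smul_smul]⟩
        rw [this, Set.ncard_image_of_injective _ (MulAction.injective g), hDcard]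
      smul := fun g {x y z} ⟨g', hg1, hg2, hg3⟩ => ⟨g * g', by rw [mul_smul, hg1],
        by rwa [mul_inv_rev, mul_smul, inv_smul_smul], by rwa [mul_inv_rev, mul_smul, inv_smul_smul]⟩ }
  have hab : a ≠ (b0 : Ω) := Ne.symm b0.2
  by_cases hp2 : p = 2
  · exact ⟨hp2, S.card_of_two hp2 hab⟩
  · exact (S.false_of_odd hp2 hab).elim

end Cfsg.Agent.S2205
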