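import Cfsg.Statements.S2212
import Cfsg.Agent.UnitaryThreeEven.Main
import Cfsg.Agent.UnitaryThreeEven.Model

set_option autoImplicit false
open Cfsg

namespace Cfsg.Agent.S2212

/-- Characterization of the three-dimensional projective unitary groups over finite fields of characteristic two by the centralizer of an involution. Let q = 2^n > 2 and let PGU₃(q) be the quotient of the full unitary group of a non-degenerate Hermitian form in three variables over the field with q² elements by its centre. Let G be a finite group of even order in which all involutions are conjugate, the centralizer of an involution is isomorphic to the centralizer of an involution in PGU₃(q), and a Sylow 2-subgroup is not normal. Then G ≅ PGU₃(q). -/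
theorem result {G : Type*} [Group G] [Finite G] {F : Type*} [Field F] [Fintype F] [CharP F 2] (q : ℕ) (hq : 2 < q) (hF : Fintype.card F = q ^ 2)
    (heven : Even (Nat.card G)) (hconj : ∀ s t : G, orderOf s = 2 → orderOf t = 2 → IsConj s t)
    (hC : ∀ (x : G) (y : (↥(Cfsg.GU 3 F q) ⧸ Subgroup.center ↥(Cfsg.GU 3 F q))), orderOf x = 2 → orderOf y = 2 →
      Nonempty (↥(Subgroup.centralizer ({x} : Set G)) ≃* ↥(Subgroup.centralizer ({y} : Set (↥(Cfsg.GU 3 F q) ⧸ Subgroup.center ↥(Cfsg.GU 3 F q))))))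
    (hS : ∀ P : Sylow 2 G, ¬ (P : Subgroup G).Normal) :
    Nonempty (G ≃* (↥(Cfsg.GU 3 F q) ⧸ Subgroup.center ↥(Cfsg.GU 3 F q))) := by
  haveI : Fact (Nat.Prime 2) := ⟨Nat.prime_two⟩
  classical
  obtain ⟨D, rfl⟩ := Cfsg.Lib.UThreeEven.Dat.exists_dat q hq hF
  obtain ⟨hM⟩ := Cfsg.Lib.UThreeEven.Model.exists_hyp D
  obtain ⟨φ⟩ := Cfsg.Lib.UThreeEven.Model.exists_equiv_GU (D := D)
  let ψ : Cfsg.Lib.UThreeEven.Model.PJ D ≃* (↥(Cfsg.GU 3 F D.q) ⧸ Subgroup.center ↥(Cfsg.GU 3 F D.q)) :=
    QuotientGroup.congr _ _ φ (by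
      ext g
      simp only [Subgroup.mem_map, Subgroup.mem_center_iff]
      constructor
      · rintro ⟨a, ha, rfl⟩ g
        obtain ⟨b, rfl⟩ := φ.surjective g
        show φ b * φ a = φ a * φ b
        rw [← map_mul, ← map_mul, ha]
      · intro hg
        refine ⟨φ.symm g, fun b => φ.injective ?_, φ.apply_symm_apply g⟩
        rw [map_mul, map_mul, MulEquiv.apply_symm_apply, hg])
  obtain ⟨x0, hx0⟩ := exists_prime_orderOf_dvd_card' (G := G) 2 (even_iff_two_dvd.1 heven)
  obtain ⟨e⟩ := hC x0 (ψ hM.x) hx0 (by rw [MulEquiv.orderOf_eq, hM.orderOf_x])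
  let k : hM.C →* ↥(Subgroup.centralizer ({ψ hM.x} : Set _)) :=
    { toFun := fun c => ⟨ψ c.1, Subgroup.mem_centralizer_singleton_iff.2 (by
        rw [← map_mul, ← map_mul]
        exact congrArg ψ (Subgroup.mem_centralizer_singleton_iff.1 c.2))⟩
      map_one' := Subtype.ext (map_one ψ)
      map_mul' := fun a b => Subtype.ext (map_mul ψ a.1 b.1) }
  have hk : Function.Bijective k := by
    refine ⟨fun a b hab => Subtype.ext (ψ.injective (congrArg Subtype.val hab)), fun y => ?_⟩
    refine ⟨⟨ψ.symm y.1, Subgroup.mem_centralizer_singleton_iff.2 (ψ.injective ?_)⟩,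
      Subtype.ext (ψ.apply_symm_apply y.1)⟩
    rw [map_mul, map_mul, MulEquiv.apply_symm_apply]
    exact Subgroup.mem_centralizer_singleton_iff.1 y.2
  let f : hM.C →* G := (Subgroup.subtype _).comp (e.symm.toMonoidHom.comp k)
  have hfinj : Function.Injective f := Subtype.coe_injective.comp (e.symm.injective.comp hk.1)
  have hfsurj : ∀ g : G, g * x0 = x0 * g → ∃ c, f c = g := by
    intro g hg
    obtain ⟨c, hc⟩ := hk.2 (e ⟨g, Subgroup.mem_centralizer_singleton_iff.2 hg⟩)
    refine ⟨c, ?_⟩
    show ((e.symm (k c)) : G) = g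
    rw [hc, MulEquiv.symm_apply_apply]
  have hfC : ∀ c, f c * x0 = x0 * f c := fun c => Subgroup.mem_centralizer_singleton_iff.1 (e.symm (k c)).2
  let U := f.comp (hM.U.codRestrict hM.C hM.U_mem_C)
  let R := f.comp (hM.R.codRestrict hM.C hM.R_mem_C)
  have hUR : ∀ a r (c : hM.C), (c : Cfsg.Lib.UThreeEven.Model.PJ D) = hM.U a * hM.R r → f c = U a * R r := by
    intro a r c hc
    show f c = f _ * f _
    rw [← map_mul]
    exact congrArg f (Subtype.ext hc)
  set x' := U (Cfsg.Lib.UThreeEven.one' D) with hx'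
  have hcomm : ∀ c, f c * x' = x' * f c := by
    intro c
    show f c * f _ = f _ * f c
    rw [← map_mul, ← map_mul]
    exact congrArg f (Subtype.ext (Subgroup.mem_centralizer_singleton_iff.1 c.2))
  have hxo : orderOf x' = 2 := by
    show orderOf (f _) = 2
    rw [orderOf_injective f hfinj, ← Subgroup.orderOf_coe]
    exact hM.orderOf_x
  obtain ⟨g0, hg0⟩ := isConj_iff.1 (hconj x0 x' hx0 hxo)
  have heq : Subgroup.centralizer ({x0} : Set G) = Subgroup.centralizer {x'} := by
    refine Subgroup.eq_of_le_of_card_ge (fun g hg => ?_) (le_of_eq (Nat.card_congr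
      ((MulAut.conj g0).toEquiv.subtypeEquiv fun g => ?_)).symm)
    · obtain ⟨c, rfl⟩ := hfsurj g (Subgroup.mem_centralizer_singleton_iff.1 hg)
      exact Subgroup.mem_centralizer_singleton_iff.2 (hcomm c)
    · rw [Subgroup.mem_centralizer_singleton_iff, Subgroup.mem_centralizer_singleton_iff, ← hg0]
      show _ ↔ g0 * g * g0⁻¹ * (g0 * x0 * g0⁻¹) = g0 * x0 * g0⁻¹ * (g0 * g * g0⁻¹)
      constructor
      · intro h1
        calc g0 * g * g0⁻¹ * (g0 * x0 * g0⁻¹) = g0 * (g * x0) * g0⁻¹ := by group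
          _ = _ := by rw [h1]; group
      · intro h1
        calc g * x0 = g0⁻¹ * (g0 * g * g0⁻¹ * (g0 * x0 * g0⁻¹)) * g0 := by group
          _ = _ := by rw [h1]; group
  have hG : Cfsg.Lib.UThreeEven.Hyp D G :=
    { U := U
      R := R
      U_inj := fun a b hab => hM.U_inj (congrArg Subtype.val (hfinj hab))
      R_inj := fun a b hab => hM.R_inj (congrArg Subtype.val (hfinj hab))
      conj := fun r a => by
        show f _ * f _ * (f _)⁻¹ = f _
        rw [← map_inv, ← map_mul, ← map_mul]
        exact congrArg f (Subtype.ext (hM.conj r a))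
      cent := fun g => by
        constructor
        · intro hg
          have hg' : g ∈ Subgroup.centralizer ({x0} : Set G) :=
            heq.symm ▸ Subgroup.mem_centralizer_singleton_iff.2 hg
          obtain ⟨c, rfl⟩ := hfsurj g (Subgroup.mem_centralizer_singleton_iff.1 hg')
          obtain ⟨a, r, hc⟩ := hM.mem_C.1 c.2
          exact ⟨a, r, hUR a r c hc⟩
        · rintro ⟨a, r, rfl⟩
          rw [← hUR a r ⟨_, hM.mem_C.2 ⟨a, r, rfl⟩⟩ rfl]
          exact hcomm _
      oneClass := fun s hs => isConj_iff.1 (hconj x' s hxo hs)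
      notNormal := hS }
  obtain ⟨θ⟩ := hG.nonempty_mulEquiv hM
  exact ⟨θ.trans ψ⟩

end Cfsg.Agent.S2212
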