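import Cfsg.Statements.S2221
import Cfsg.Agent.SymSylow.EvenTwo.Model
-- import your own Cfsg.Agent.* helpers here

set_option autoImplicit false
open Cfsg

namespace Cfsg.Agent.S2221

/-- Direct decomposability of the Sylow 2-subgroups of the alternating groups. Let n ≥ 4 and let P be a Sylow 2-subgroup of the alternating group of degree n. Then P is the internal direct product of two nontrivial subgroups if and only if n = 4, n = 5, or n ≡ 2, 3 (mod 4) with 4⌊n/4⌋ not a power of 2. In the remaining cases (n ≡ 0, 1 (mod 4) with n ≥ 8, or n ≡ 2, 3 (mod 4) with 4⌊n/4⌋ a power of 2) P is directly indecomposable. -/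
theorem result (n : ℕ) (hn : 4 ≤ n)
    (P : Sylow 2 (alternatingGroup (Fin n))) :
    (∃ S₁ S₂ : Subgroup (alternatingGroup (Fin n)), S₁ ≠ ⊥ ∧ S₂ ≠ ⊥ ∧
        Cfsg.IsInternalDirectProduct S₁ S₂ (P : Subgroup (alternatingGroup (Fin n)))) ↔
      (n = 4 ∨ n = 5 ∨ ((n % 4 = 2 ∨ n % 4 = 3) ∧ ∀ r : ℕ, 4 * (n / 4) ≠ 2 ^ r)) := by
  rw [show (∃ S₁ S₂ : Subgroup (alternatingGroup (Fin n)), S₁ ≠ ⊥ ∧ S₂ ≠ ⊥ ∧
        Cfsg.IsInternalDirectProduct S₁ S₂ (P : Subgroup (alternatingGroup (Fin n)))) ↔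
      Cfsg.Lib.SymSylow.EvenTwo.Dec (P : Subgroup (alternatingGroup (Fin n))) from Iff.rfl,
    Cfsg.Lib.SymSylow.EvenTwo.dec_sylow (by omega) P]
  constructor
  · intro hdec
    by_contra hc
    push Not at hc
    obtain ⟨h4, h5, hmod⟩ := hc
    refine Cfsg.Lib.SymSylow.EvenTwo.not_dec (Cfsg.Lib.SymSylow.EvenTwo.orb_injective n) ?_ ?_ ?_ hdec
    · obtain ⟨j, hj⟩ := Nat.exists_testBit_of_ne_zero (show n / 4 ≠ 0 by omega)
      obtain ⟨i, hi⟩ := Cfsg.Lib.SymSylow.EvenTwo.exists_orb (n := n) (k := j + 2) (by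
        rw [Nat.testBit_add_one, Nat.testBit_add_one, Nat.div_div_eq_div_mul]; exact hj)
      exact ⟨i, by omega⟩
    · intro i₁ h1 i j hi hj
      have hb1 := Cfsg.Lib.SymSylow.EvenTwo.testBit_orb n i₁
      rw [h1, Nat.testBit_eq_decide_div_mod_eq, decide_eq_true_eq] at hb1
      obtain ⟨r, hr⟩ := hmod (by omega)
      have key : ∀ l, 2 ≤ Cfsg.Lib.SymSylow.EvenTwo.orb n l → Cfsg.Lib.SymSylow.EvenTwo.orb n l = r := by
        intro l hl
        have hb := Cfsg.Lib.SymSylow.EvenTwo.testBit_orb n l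
        obtain ⟨k, hk⟩ : ∃ k, Cfsg.Lib.SymSylow.EvenTwo.orb n l = k + 2 := ⟨_, (Nat.sub_add_cancel hl).symm⟩
        rw [hk] at hb ⊢
        rw [Nat.testBit_add_one, Nat.testBit_add_one, Nat.div_div_eq_div_mul] at hb
        obtain ⟨s, hs⟩ : ∃ s, r = s + 2 := by
          rcases r with _ | _ | s
          · omega
          · omega
          · exact ⟨s, rfl⟩
        subst hs
        have h4' : n / (2 * 2) = 2 ^ s := by
          rw [pow_add] at hr
          show n / 4 = 2 ^ s
          omega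
        rw [h4', Nat.testBit_two_pow, decide_eq_true_eq] at hb
        omega
      exact Cfsg.Lib.SymSylow.EvenTwo.orb_injective n ((key i hi).trans (key j hj).symm)
    · rintro ⟨i, hi, hl⟩
      have hs := Cfsg.Lib.SymSylow.EvenTwo.card_dom n
      rw [Fintype.card_sigma, ← Finset.add_sum_erase _ _ (Finset.mem_univ i)] at hs
      have hrest : ∑ x ∈ Finset.univ.erase i, Fintype.card (Cfsg.Lib.SymSylow.EvenTwo.X (Cfsg.Lib.SymSylow.EvenTwo.orb n x)) ≤ 1 := by
        have hone : ∀ x ∈ Finset.univ.erase i, Fintype.card (Cfsg.Lib.SymSylow.EvenTwo.X (Cfsg.Lib.SymSylow.EvenTwo.orb n x)) = 1 := by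
          intro x hx
          rw [Fintype.card_fun, Fintype.card_bool, Fintype.card_fin, hl x (Finset.ne_of_mem_erase hx), pow_zero]
        rw [Finset.sum_congr rfl hone, Finset.sum_const, smul_eq_mul, mul_one, Finset.card_le_one]
        intro a ha b hb
        exact Cfsg.Lib.SymSylow.EvenTwo.orb_injective n ((hl a (Finset.ne_of_mem_erase ha)).trans (hl b (Finset.ne_of_mem_erase hb)).symm)
      rw [show Fintype.card (Cfsg.Lib.SymSylow.EvenTwo.X (Cfsg.Lib.SymSylow.EvenTwo.orb n i)) = 4 by rw [Fintype.card_fun, Fintype.card_bool, Fintype.card_fin, hi]; rfl] at hs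
      omega
  · intro h
    rcases (show (n = 4 ∨ n = 5) ∨ ((n % 4 = 2 ∨ n % 4 = 3) ∧ ∀ r : ℕ, 4 * (n / 4) ≠ 2 ^ r) by tauto) with h45 | ⟨hmod, hpow⟩
    · obtain ⟨i, hi⟩ := Cfsg.Lib.SymSylow.EvenTwo.exists_orb (n := n) (k := 2) (by rcases h45 with rfl | rfl <;> decide)
      refine Cfsg.Lib.SymSylow.EvenTwo.four_group hi fun l hl => ?_
      have hb := Cfsg.Lib.SymSylow.EvenTwo.testBit_orb n l
      have hne : Cfsg.Lib.SymSylow.EvenTwo.orb n l ≠ 2 := fun e => hl (Cfsg.Lib.SymSylow.EvenTwo.orb_injective n (e.trans hi.symm))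
      generalize Cfsg.Lib.SymSylow.EvenTwo.orb n l = k at hb hne
      rcases (show k = 0 ∨ k = 1 ∨ k = 2 ∨ 3 ≤ k by omega) with rfl | rfl | rfl | hk
      · rfl
      · rcases h45 with rfl | rfl <;> simp [Nat.testBit_eq_decide_div_mod_eq] at hb
      · exact absurd rfl hne
      · rw [Nat.testBit_lt_two_pow (lt_of_lt_of_le (show n < 2 ^ 3 by omega) (Nat.pow_le_pow_right (by norm_num) hk))] at hb
        simp at hb
    · obtain ⟨i₁, h1⟩ := Cfsg.Lib.SymSylow.EvenTwo.exists_orb (n := n) (k := 1) (by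
        rw [Nat.testBit_eq_decide_div_mod_eq, decide_eq_true_eq]; omega)
      obtain ⟨a, ha⟩ := Nat.exists_testBit_of_ne_zero (show n / 4 ≠ 0 by omega)
      obtain ⟨b, hb, hab⟩ : ∃ b, (n / 4).testBit b = true ∧ b ≠ a := by
        by_contra hc
        push Not at hc
        apply hpow (a + 2)
        have : n / 4 = 2 ^ a := Nat.eq_of_testBit_eq fun j => by
          rw [Nat.testBit_two_pow]
          by_cases hja : a = j
          · subst hja; simp [ha]
          · simp only [hja, decide_false]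
            by_contra hne
            exact hja (hc j (by simpa using hne)).symm
        rw [this, pow_add]; ring
      obtain ⟨i, hi⟩ := Cfsg.Lib.SymSylow.EvenTwo.exists_orb (n := n) (k := a + 2) (by
        rw [Nat.testBit_add_one, Nat.testBit_add_one, Nat.div_div_eq_div_mul]; exact ha)
      obtain ⟨j, hj⟩ := Cfsg.Lib.SymSylow.EvenTwo.exists_orb (n := n) (k := b + 2) (by
        rw [Nat.testBit_add_one, Nat.testBit_add_one, Nat.div_div_eq_div_mul]; exact hb)
      exact Cfsg.Lib.SymSylow.EvenTwo.dec_of_small (i := i) (j := j) (Cfsg.Lib.SymSylow.EvenTwo.orb_injective n) h1 (by omega) (by omega)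
        (fun e => hab (by rw [e, hj] at hi; omega))

end Cfsg.Agent.S2221
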