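import Cfsg.Statements.S2225
import Cfsg.Agent.Known.Pronormal.OddQ
import Cfsg.Agent.Known.Pronormal.EvenQ
import Cfsg.Agent.Known.Pronormal.SmallTwo

set_option autoImplicit false
open Cfsg

namespace Cfsg.Agent.S2225

/-- Let F be a finite field and d = 2^w ≥ 2 a power of 2 such that PSL_d(F) is simple. Then every subgroup H of PSL_d(F) of odd index is pronormal: for every g, H and gHg⁻¹ are conjugate by an element of the subgroup they generate. -/
theorem result {F : Type*} [Field F] [Fintype F]
    (w : ℕ) (hw : 1 ≤ w) (hs : IsSimpleGroup (Matrix.ProjectiveSpecialLinearGroup (Fin (2 ^ w)) F))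
    (H : Subgroup (Matrix.ProjectiveSpecialLinearGroup (Fin (2 ^ w)) F)) (hH : Odd H.index) : Cfsg.IsPronormal H := by
  classical
  have hd : ¬ 2 ∣ H.index := fun h => (Nat.not_even_iff_odd.2 hH) (even_iff_two_dvd.2 h)
  by_cases hodd : Odd (Fintype.card F)
  · rcases Nat.lt_or_ge w 2 with h | h
    · obtain rfl : w = 1 := by omega
      haveI : Fact (Nat.Prime 2) := ⟨Nat.prime_two⟩
      haveI : Finite (Matrix.SpecialLinearGroup (Fin (2 ^ 1)) F) := inferInstance
      refine Cfsg.Lib.Pronormal.of_quotient (p := 2)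
        (QuotientGroup.mk' (Subgroup.center (Matrix.SpecialLinearGroup (Fin (2 ^ 1)) F)))
        (QuotientGroup.mk'_surjective _) ?_ hd
      intro K hK
      have h8 := Nat.odd_iff.1 hodd
      by_cases hq : Fintype.card F % 8 = 1 ∨ Fintype.card F % 8 = 7
      · obtain ⟨R⟩ := (inferInstance : Nonempty (Sylow 2 (Matrix.SpecialLinearGroup (Fin 2) F)))
        exact Cfsg.Lib.Pronormal.of_self_normalizing R (Cfsg.Lib.GLTwo.sylow_two_normalizer_big hodd hq R).le hK
      · exact Cfsg.Lib.Pronormal.pronormal_sl_two_small hodd (by omega) K hK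
    · exact Cfsg.Lib.Pronormal.pronormal_psl_odd hodd h H hH
  · obtain ⟨p, hp⟩ := CharP.exists F
    haveI : Fact p.Prime := ⟨CharP.char_is_prime F p⟩
    obtain ⟨k, hk, hc⟩ := FiniteField.card F p
    obtain rfl : p = 2 := by
      rcases (CharP.char_is_prime F p).eq_two_or_odd' with h | h
      · exact h
      · exact absurd (hc ▸ h.pow) hodd
    exact Cfsg.Lib.Pronormal.pronormal_psl_char 2 _ hd

end Cfsg.Agent.S2225
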