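import Cfsg.Statements.S2226
import Cfsg.Agent.Known.Pronormal.OddQ
import Cfsg.Agent.Known.Pronormal.EvenQ

set_option autoImplicit false
open Cfsg

namespace Cfsg.Agent.S2226

/-- Let F be a finite field with q² elements and d = 2^w ≥ 4 a power of 2 such that the unitary group PSU_d(q) (realised over F) is simple. Then every subgroup H of PSU_d(q) of odd index is pronormal: for every g, H and gHg⁻¹ are conjugate by an element of the subgroup they generate. -/
theorem result {F : Type*} [Field F] [Fintype F] (q : ℕ)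
    (hF : Fintype.card F = q ^ 2) (w : ℕ) (hw : 2 ≤ w) (hs : IsSimpleGroup (Cfsg.PSU (2 ^ w) F q))
    (H : Subgroup (Cfsg.PSU (2 ^ w) F q)) (hH : Odd H.index) : Cfsg.IsPronormal H := by
  classical
  have hd : ¬ 2 ∣ H.index := fun h => (Nat.not_even_iff_odd.2 hH) (even_iff_two_dvd.2 h)
  by_cases hodd : Odd q
  · exact Cfsg.Lib.Pronormal.pronormal_psu_odd hF hodd hw H hH
  · obtain ⟨p, hp⟩ := CharP.exists F
    haveI : Fact p.Prime := ⟨CharP.char_is_prime F p⟩
    obtain ⟨k, hk, hc⟩ := FiniteField.card F p
    obtain rfl : p = 2 := by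
      rcases (CharP.char_is_prime F p).eq_two_or_odd' with h | h
      · exact h
      · exfalso
        have h2 : Odd (q ^ 2) := hF ▸ hc ▸ h.pow
        exact hodd ((Nat.odd_pow_iff two_ne_zero).1 h2)
    exact Cfsg.Lib.Pronormal.pronormal_psu_char 2
      (Nat.le_self_pow (by omega) 2) ((Nat.even_pow' (by omega)).2 even_two) hF hd

end Cfsg.Agent.S2226
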