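import Cfsg.Statements.S2231
import Cfsg.Agent.Known.SLTwo.Torus

set_option autoImplicit false
open Cfsg

namespace Cfsg.Agent.S2231

/-- Let p be an odd prime and K a finite field of characteristic p. Then Qd(p) (the natural semidirect product of an elementary abelian group of order p² by SL₂(p)) is not involved in the projective special linear group PSL₂(K). -/
theorem result {p : ℕ} [Fact p.Prime] (hp : p ≠ 2) {K : Type*} [Field K] [Fintype K] [CharP K p] : ¬ Cfsg.Involves ↥(Cfsg.qd p) (Matrix.ProjectiveSpecialLinearGroup (Fin 2) K) := by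
  classical
  have hpp : p.Prime := Fact.out
  rintro ⟨K', R, _, ⟨e⟩⟩
  obtain ⟨f, -, hf⟩ := FiniteField.card K p
  set q := Fintype.card K with hq
  let G := Matrix.ProjectiveSpecialLinearGroup (Fin 2) K
  haveI : Finite G := Finite.of_surjective _ (QuotientGroup.mk'_surjective (Subgroup.center (Matrix.SpecialLinearGroup (Fin 2) K)))
  have hcop : ∀ n, n ∣ q ^ 2 - 1 → Nat.Coprime p n := fun n hn => (hpp.coprime_iff_not_dvd.2 fun h => by
    have h1 : p ∣ q ^ 2 := by rw [hf, ← pow_mul]; exact dvd_pow_self p (by positivity)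
    have h2 := Nat.dvd_sub h1 (h.trans hn)
    rw [Nat.sub_sub_self (Nat.one_le_pow _ _ Fintype.card_pos)] at h2
    exact hpp.not_dvd_one h2)
  let one' : {r : K // r * r = 1} := ⟨1, mul_one 1⟩
  let ψ : Multiplicative K →* G :=
    { toFun := fun y => Cfsg.Lib.GLTwo.prj (Cfsg.Lib.GLTwo.upper one' y.toAdd)
      map_one' := by
        rw [← map_one (Cfsg.Lib.GLTwo.prj (F := K))]
        congr 1
        refine Subtype.ext ?_
        rw [Cfsg.Lib.GLTwo.coe_upper, Matrix.SpecialLinearGroup.coe_one]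
        ext i j; fin_cases i <;> fin_cases j <;> simp [one']
      map_mul' := fun a b => by
        rw [← map_mul]
        congr 1
        refine Subtype.ext ?_
        rw [Matrix.SpecialLinearGroup.coe_mul, Cfsg.Lib.GLTwo.coe_upper, Cfsg.Lib.GLTwo.coe_upper, Cfsg.Lib.GLTwo.coe_upper]
        ext i j; fin_cases i <;> fin_cases j <;> simp [one', Matrix.mul_apply, Fin.sum_univ_two, add_comm] }
  have hψ : Function.Injective ψ := (injective_iff_map_eq_one ψ).2 fun y hy => by
    rcases (Cfsg.Lib.GLTwo.prj_eq_one_iff _).1 hy with h | h <;>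
    · have := congrArg (fun z : Matrix.SpecialLinearGroup (Fin 2) K => (z : Matrix (Fin 2) (Fin 2) K) 0 1) h
      simp at this
      exact this
  have hcardψ : Nat.card ψ.range = q := by
    rw [Nat.card_congr (MonoidHom.ofInjective hψ).toEquiv.symm, Nat.card_congr Multiplicative.toAdd, Nat.card_eq_fintype_card]
  have hidx : ¬ p ∣ ψ.range.index := by
    have hq0 : 0 < q := Fintype.card_pos
    have hc : Nat.card G ∣ q * (q ^ 2 - 1) := by
      rw [hq, ← Cfsg.Lib.Classical.SLTwoTori.card_SL2]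
      exact Subgroup.card_quotient_dvd_card _
    rw [← Subgroup.card_mul_index ψ.range, hcardψ] at hc
    exact hpp.coprime_iff_not_dvd.1 (hcop _ (Nat.dvd_of_mul_dvd_mul_left hq0 hc))
  have hP : IsPGroup p ψ.range := IsPGroup.of_card (hcardψ.trans hf)
  let P : Sylow p G := hP.toSylow hidx
  have habel : ∀ S : Subgroup G, IsPGroup p S → ∀ a ∈ S, ∀ b ∈ S, a * b = b * a := by
    intro S hS a ha b hb
    obtain ⟨T, hT⟩ := hS.exists_le_sylow
    obtain ⟨g, hg⟩ := MulAction.exists_smul_eq G P T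
    have mem : ∀ x ∈ S, ∃ y, g * ψ y * g⁻¹ = x := fun x hx => by
      have hxT : x ∈ (T : Subgroup G) := hT hx
      rw [← hg] at hxT
      obtain ⟨z, ⟨y, rfl⟩, hz⟩ := hxT
      exact ⟨y, hz⟩
    obtain ⟨y, rfl⟩ := mem a ha
    obtain ⟨z, rfl⟩ := mem b hb
    have hc : g * (ψ y * ψ z) * g⁻¹ = g * (ψ z * ψ y) * g⁻¹ := by rw [← map_mul, mul_comm, map_mul]
    calc g * ψ y * g⁻¹ * (g * ψ z * g⁻¹) = g * (ψ y * ψ z) * g⁻¹ := by group
      _ = g * (ψ z * ψ y) * g⁻¹ := hc
      _ = g * ψ z * g⁻¹ * (g * ψ y * g⁻¹) := by group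
  obtain ⟨S⟩ : Nonempty (Sylow p ↥K') := inferInstance
  let φ : ↥K' →* ↥(Cfsg.qd p) := e.toMonoidHom.comp (QuotientGroup.mk' _)
  have hφ : Function.Surjective φ := e.surjective.comp (QuotientGroup.mk'_surjective _)
  let Ku : Subgroup ↥(Cfsg.qd p) :=
    { carrier := {u | (((u : Matrix.SpecialLinearGroup (Fin 3) (ZMod p))) : Matrix (Fin 3) (Fin 3) (ZMod p)).BlockTriangular id ∧
        ∀ i, (((u : Matrix.SpecialLinearGroup (Fin 3) (ZMod p))) : Matrix (Fin 3) (Fin 3) (ZMod p)) i i = 1}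
      one_mem' := ⟨Matrix.blockTriangular_one, fun i => by simp⟩
      mul_mem' := fun {a b} ha hb => by
        refine ⟨?_, fun i => ?_⟩
        · rw [Subgroup.coe_mul, Matrix.SpecialLinearGroup.coe_mul]; exact ha.1.mul hb.1
        · have h1 := ha.1 (show (0 : Fin 3) < 1 by decide)
          have h2 := ha.1 (show (0 : Fin 3) < 2 by decide)
          have h3 := ha.1 (show (1 : Fin 3) < 2 by decide)
          have h4 := hb.1 (show (0 : Fin 3) < 1 by decide)
          have h5 := hb.1 (show (0 : Fin 3) < 2 by decide)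
          have h6 := hb.1 (show (1 : Fin 3) < 2 by decide)
          fin_cases i <;> simp [Matrix.mul_apply, Fin.sum_univ_three, ha.2, hb.2, h1, h2, h3, h4, h5, h6]
      inv_mem' := fun {a} ha => by
        have h1 := ha.1 (show (0 : Fin 3) < 1 by decide)
        have h2 := ha.1 (show (0 : Fin 3) < 2 by decide)
        have h3 := ha.1 (show (1 : Fin 3) < 2 by decide)
        refine ⟨fun i j hij => ?_, fun i => ?_⟩
        · rw [Subgroup.coe_inv, Matrix.SpecialLinearGroup.coe_inv, Matrix.adjugate_fin_three]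
          fin_cases i <;> fin_cases j <;> first | exact absurd hij (by decide) | simp [ha.2, h1, h2, h3]
        · rw [Subgroup.coe_inv, Matrix.SpecialLinearGroup.coe_inv, Matrix.adjugate_fin_three]
          fin_cases i <;> simp [ha.2, h1, h2, h3] }
  have hKu : IsPGroup p Ku := by
    intro u
    refine ⟨1, ?_⟩
    rw [pow_one]
    refine Subtype.ext (Subtype.ext (Subtype.ext ?_))
    haveI : CharP (Matrix (Fin 3) (Fin 3) (ZMod p)) p := Matrix.charP p
    set M := (((u : ↥(Cfsg.qd p)) : Matrix.SpecialLinearGroup (Fin 3) (ZMod p)) : Matrix (Fin 3) (Fin 3) (ZMod p)) with hM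
    have h1 := u.2.1 (show (0 : Fin 3) < 1 by decide)
    have h2 := u.2.1 (show (0 : Fin 3) < 2 by decide)
    have h3 := u.2.1 (show (1 : Fin 3) < 2 by decide)
    have hN : (M - 1) ^ 3 = 0 := by
      rw [pow_succ, pow_two]
      ext i j
      fin_cases i <;> fin_cases j <;> simp [Matrix.mul_apply, Fin.sum_univ_three, u.2.2, hM, h1, h2, h3]
    have h3p : 3 ≤ p := by have := hpp.two_le; omega
    have hNp : (M - 1) ^ p = 0 := by
      obtain ⟨k, hk⟩ := Nat.exists_eq_add_of_le h3p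
      rw [show (M - 1) ^ p = (M - 1) ^ 3 * (M - 1) ^ k by rw [← pow_add, ← hk], hN, zero_mul]
    rw [sub_pow_char_of_commute (p := p) (Commute.one_right M), one_pow, sub_eq_zero] at hNp
    simpa using hNp
  obtain ⟨T, hT⟩ := hKu.exists_le_sylow
  obtain ⟨g, hg⟩ := MulAction.exists_smul_eq (↥(Cfsg.qd p)) (S.mapSurjective hφ) T
  have hSab : ∀ a ∈ (S : Subgroup ↥K'), ∀ b ∈ (S : Subgroup ↥K'), a * b = b * a := by
    intro a ha b hb
    refine Subtype.ext (habel ((S : Subgroup ↥K').map K'.subtype) (S.2.map _) _ ⟨a, ha, rfl⟩ _ ⟨b, hb, rfl⟩)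
  let m1 : Matrix.SpecialLinearGroup (Fin 3) (ZMod p) :=
    ⟨!![1, 1, 0; 0, 1, 0; 0, 0, 1], by simp [Matrix.det_fin_three]⟩
  let m2 : Matrix.SpecialLinearGroup (Fin 3) (ZMod p) :=
    ⟨!![1, 0, 0; 0, 1, 1; 0, 0, 1], by simp [Matrix.det_fin_three]⟩
  have hm1 : m1 ∈ Cfsg.qd p := Subgroup.subset_closure ⟨by simp [m1], by simp [m1], by simp [m1]⟩
  have hm2 : m2 ∈ Cfsg.qd p := Subgroup.subset_closure ⟨by simp [m2], by simp [m2], by simp [m2]⟩
  have hmem : ∀ x ∈ Ku, ∃ a ∈ (S : Subgroup ↥K'), g * φ a * g⁻¹ = x := fun x hx => by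
    have hxT : x ∈ (T : Subgroup ↥(Cfsg.qd p)) := hT hx
    rw [← hg] at hxT
    obtain ⟨z, hzS, hz⟩ := hxT
    obtain ⟨a, ha, rfl⟩ := hzS
    exact ⟨a, ha, hz⟩
  have hk1 : (⟨m1, hm1⟩ : ↥(Cfsg.qd p)) ∈ Ku := ⟨fun i j hij => by fin_cases i <;> fin_cases j <;> first | exact absurd hij (by decide) | simp [m1], fun i => by fin_cases i <;> simp [m1]⟩
  have hk2 : (⟨m2, hm2⟩ : ↥(Cfsg.qd p)) ∈ Ku := ⟨fun i j hij => by fin_cases i <;> fin_cases j <;> first | exact absurd hij (by decide) | simp [m2], fun i => by fin_cases i <;> simp [m2]⟩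
  obtain ⟨a, ha, hae⟩ := hmem _ hk1
  obtain ⟨b, hb, hbe⟩ := hmem _ hk2
  have hcomm : (⟨m1, hm1⟩ : ↥(Cfsg.qd p)) * ⟨m2, hm2⟩ = ⟨m2, hm2⟩ * ⟨m1, hm1⟩ := by
    rw [← hae, ← hbe]
    calc g * φ a * g⁻¹ * (g * φ b * g⁻¹) = g * φ (a * b) * g⁻¹ := by rw [map_mul]; group
      _ = g * φ (b * a) * g⁻¹ := by rw [hSab a ha b hb]
      _ = _ := by rw [map_mul]; group
  have h02 := congrArg (fun z : ↥(Cfsg.qd p) => ((z : Matrix.SpecialLinearGroup (Fin 3) (ZMod p)) : Matrix (Fin 3) (Fin 3) (ZMod p)) 0 2) hcomm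
  simp only [Subgroup.coe_mul, Matrix.SpecialLinearGroup.coe_mul] at h02
  simp [m1, m2, Matrix.mul_apply, Fin.sum_univ_three] at h02

end Cfsg.Agent.S2231
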