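import Cfsg.Statements.S2232
import Cfsg.Agent.Known.PSUThreeQd

set_option autoImplicit false
open Cfsg

namespace Cfsg.Agent.S2232

/-- Let p be an odd prime, q a power of p and K a finite field with q² elements. Then Qd(p) (the natural semidirect product of an elementary abelian group of order p² by SL₂(p)) is not involved in the projective special unitary group PSU₃(q) realised over K. -/
theorem result {p : ℕ} [Fact p.Prime] (hp : p ≠ 2) {K : Type*} [Field K] [Fintype K] [CharP K p] (n : ℕ) (hn : 1 ≤ n) (hK : Fintype.card K = (p ^ n) ^ 2) : ¬ Cfsg.Involves ↥(Cfsg.qd p) (Cfsg.PSU 3 K (p ^ n)) := by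
  classical
  rintro ⟨K', R, _, ⟨e⟩⟩
  let π : ↥(Cfsg.SU 3 K (p ^ n)) →* Cfsg.PSU 3 K (p ^ n) := QuotientGroup.mk' _
  let ρ : ↥(K'.comap π) →* Matrix (Fin 3) (Fin 3) K :=
    (Cfsg.slToMat 3 K).comp ((Cfsg.SU 3 K (p ^ n)).subtype.comp (K'.comap π).subtype)
  have hρ : Function.Injective ρ := fun x y h => Subtype.ext (Subtype.ext (Subtype.ext h))
  let φ : ↥(K'.comap π) →* ↥(Cfsg.qd p) :=
    e.toMonoidHom.comp ((QuotientGroup.mk' (R.subgroupOf K')).comp (π.subgroupComap K'))
  have hsurj : Function.Surjective (π.subgroupComap K') := fun y => by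
    obtain ⟨x, hx⟩ := QuotientGroup.mk'_surjective _ y.1
    exact ⟨⟨x, show π x ∈ K' from (show π x = y.1 from hx).symm ▸ y.2⟩, Subtype.ext hx⟩
  have hp3 : 3 ≤ p := by
    have := (Fact.out : p.Prime).two_le
    omega
  exact Cfsg.Lib.Known.PSUThreeQd.no_surj hp3 rfl ρ hρ (fun g => g.1.2) φ
    (e.surjective.comp ((QuotientGroup.mk'_surjective _).comp hsurj))

end Cfsg.Agent.S2232
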