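import Cfsg.Statements.S2244
import Cfsg.Agent.Chev.WeaklyClosedG2
-- import your own Cfsg.Agent.* helpers here

set_option autoImplicit false
open Cfsg

namespace Cfsg.Agent.S2244

/-- Weakly closed unipotent subgroups of Chevalley groups: let G be the Chevalley group of type G₂, B₂, D₄, F₄, E₆, E₇ or E₈ over a finite field F (the matrix group generated by the root elements), with |F| ≠ 2, and |F| ≠ 3 as well for the types G₂, B₂, D₄, F₄. Let U be the subgroup generated by the positive root subgroups. If X ≤ U is weakly closed in U with respect to G (every G-conjugate of X lying in U equals X), then X is the unipotent radical U_J of a standard parabolic subgroup for some set J of fundamental roots. -/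
theorem result {F : Type*} [Field F] [Fintype F] (D : Cfsg.Lie.ChevalleyDatum) (hD : D ∈ [Cfsg.Lie.chevG2, Cfsg.Lie.chevB2, Cfsg.Lie.chevD4, Cfsg.Lie.chevF4, Cfsg.Lie.chevE6, Cfsg.Lie.chevE7, Cfsg.Lie.chevE8])
    (h2 : Fintype.card F ≠ 2) (h3 : D ∈ [Cfsg.Lie.chevG2, Cfsg.Lie.chevB2, Cfsg.Lie.chevD4, Cfsg.Lie.chevF4] → Fintype.card F ≠ 3)
    (X : Subgroup (GL D.Idx F)) (hXU : X ≤ D.posUnipotent F)
    (hwc : ∀ g ∈ D.group F, X.map (MulAut.conj g).toMonoidHom ≤ D.posUnipotent F → X.map (MulAut.conj g).toMonoidHom = X) :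
    ∃ J : Set ℕ, (∀ j ∈ J, j < D.rank) ∧ X = D.unipotentRadical F J := by
  have hq := Fintype.one_lt_card (α := F)
  have a1 : ¬ Fintype.card F - 1 ∣ 1 := by rw [Nat.dvd_one]; omega
  have a2 : Fintype.card F ≠ 3 → ¬ Fintype.card F - 1 ∣ 2 := fun h h' => by
    rcases (Nat.dvd_prime Nat.prime_two).1 h' with h' | h' <;> omega
  simp only [List.mem_cons, List.not_mem_nil, or_false] at hD
  rcases hD with rfl | rfl | rfl | rfl | rfl | rfl | rfl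
  · exact Cfsg.Lib.Chev.weakly_closed (T := Cfsg.Lib.Chev.G2.htTab) ⟨Cfsg.Lib.Chev.G2.ok, Cfsg.Lib.Chev.G2.okChain_, Cfsg.Lib.Chev.G2.okBase_all, Cfsg.Lib.Chev.okOrder_G2⟩
      Cfsg.Lib.Chev.okNeg_G2 Cfsg.Lib.Chev.G2.ht Cfsg.Lib.Steinberg.G2_lin Cfsg.Lib.Chev.G2.sep Cfsg.Lib.Chev.G2.reach a1 (a2 (h3 (by simp)))
      (fun Y hY hH hU hsq k m hk hkm hm he hs => Cfsg.Lib.Chev.G2.forces_exc (by have := h3 (by simp); omega) _ Y hY hH hU hsq hk hkm hm he hs) hXU hwc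
  · exact Cfsg.Lib.Chev.weakly_closed (T := Cfsg.Lib.Chev.B2.htTab) ⟨Cfsg.Lib.Chev.B2.ok, Cfsg.Lib.Chev.B2.okChain_, Cfsg.Lib.Chev.B2.okBase_all, Cfsg.Lib.Chev.okOrder_B2⟩
      Cfsg.Lib.Chev.okNeg_B2 Cfsg.Lib.Chev.B2.ht Cfsg.Lib.Steinberg.B2_lin Cfsg.Lib.Chev.B2.sep Cfsg.Lib.Chev.B2.reach a1 (a2 (h3 (by simp)))
      (fun _ _ _ _ _ _ _ _ _ _ he => Bool.noConfusion he) hXU hwc
  · exact Cfsg.Lib.Chev.weakly_closed (T := Cfsg.Lib.Chev.D4.htTab) ⟨Cfsg.Lib.Chev.D4.ok, Cfsg.Lib.Chev.D4.okChain_, Cfsg.Lib.Chev.D4.okBase_all, Cfsg.Lib.Chev.okOrder_D4⟩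
      Cfsg.Lib.Chev.okNeg_D4 Cfsg.Lib.Chev.D4.ht Cfsg.Lib.Steinberg.D4_lin Cfsg.Lib.Chev.D4.sep Cfsg.Lib.Chev.D4.reach a1 (a2 (h3 (by simp)))
      (fun _ _ _ _ _ _ _ _ _ _ he => Bool.noConfusion he) hXU hwc
  · exact Cfsg.Lib.Chev.weakly_closed (T := Cfsg.Lib.Chev.F4.htTab) ⟨Cfsg.Lib.Chev.F4.ok, Cfsg.Lib.Chev.F4.okChain_, Cfsg.Lib.Chev.F4.okBase_all, Cfsg.Lib.Chev.okOrder_F4⟩
      Cfsg.Lib.Chev.okNeg_F4 Cfsg.Lib.Chev.F4.ht Cfsg.Lib.Steinberg.F4_lin Cfsg.Lib.Chev.F4.sep Cfsg.Lib.Chev.F4.reach a1 (a2 (h3 (by simp)))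
      (fun _ _ _ _ _ _ _ _ _ _ he => Bool.noConfusion he) hXU hwc
  · exact Cfsg.Lib.Chev.weakly_closed (T := Cfsg.Lib.Chev.E6.htTab) ⟨Cfsg.Lib.Chev.E6.ok, Cfsg.Lib.Chev.E6.okChain_, Cfsg.Lib.Chev.E6.okBase_all, Cfsg.Lib.Chev.okOrder_E6⟩
      Cfsg.Lib.Chev.okNeg_E6 Cfsg.Lib.Chev.E6.ht Cfsg.Lib.Steinberg.E6_lin Cfsg.Lib.Chev.E6.sep Cfsg.Lib.Chev.E6.reach a1 a1
      (fun _ _ _ _ _ _ _ _ _ _ he => Bool.noConfusion he) hXU hwc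
  · exact Cfsg.Lib.Chev.weakly_closed (T := Cfsg.Lib.Chev.E7.htTab) ⟨Cfsg.Lib.Chev.E7.ok, Cfsg.Lib.Chev.E7.okChain_, Cfsg.Lib.Chev.E7.okBase_all, Cfsg.Lib.Chev.okOrder_E7⟩
      Cfsg.Lib.Chev.okNeg_E7 Cfsg.Lib.Chev.E7.ht Cfsg.Lib.Steinberg.E7_lin Cfsg.Lib.Chev.E7.sep Cfsg.Lib.Chev.E7.reach a1 a1
      (fun _ _ _ _ _ _ _ _ _ _ he => Bool.noConfusion he) hXU hwc
  · exact Cfsg.Lib.Chev.weakly_closed (T := Cfsg.Lib.Chev.E8.htTab) ⟨Cfsg.Lib.Chev.E8.ok, Cfsg.Lib.Chev.E8.okChain_, Cfsg.Lib.Chev.E8.okBase_all, Cfsg.Lib.Chev.okOrder_E8⟩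
      Cfsg.Lib.Chev.okNeg_E8 Cfsg.Lib.Chev.E8.ht Cfsg.Lib.Steinberg.E8_lin Cfsg.Lib.Chev.E8.sep Cfsg.Lib.Chev.E8.reach a1 a1
      (fun _ _ _ _ _ _ _ _ _ _ he => Bool.noConfusion he) hXU hwc

end Cfsg.Agent.S2244
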