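import Cfsg.Statements.S2253
import Cfsg.Agent.OddLocal.FittingHall

set_option autoImplicit false
open scoped MatrixGroups
open Cfsg

namespace Cfsg.Agent.S2253

/-- The exponent of 2 in `n!`. -/
def e (n : ℕ) : ℕ := ∑ i ∈ Finset.range n, n / 2 ^ (i + 1)

/-- The bound for the order of a nilpotent permutation group of degree `n`. -/
def F (n : ℕ) : ℕ := if n % 4 = 3 then 3 * 2 ^ e (n - 3) else 2 ^ e n

theorem e_eq (n : ℕ) : e n = padicValNat 2 n.factorial := by
  haveI : Fact (Nat.Prime 2) := ⟨Nat.prime_two⟩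
  rw [padicValNat_factorial (b := n + 1) (Nat.lt_succ_of_le (Nat.log_le_self 2 n)), e,
    Finset.sum_Ico_eq_sum_range]
  simp [add_comm]

theorem e_mono_dvd {a b k : ℕ} (h : 2 ^ k * a.factorial ∣ b.factorial) : e a + k ≤ e b := by
  haveI : Fact (Nat.Prime 2) := ⟨Nat.prime_two⟩
  rw [e_eq, e_eq]
  have h0 := (mul_dvd_mul_left (2 ^ k) (pow_padicValNat_dvd (p := 2) (n := a.factorial))).trans h
  rw [← pow_add] at h0
  have h1 := (padicValNat_dvd_iff_le b.factorial_ne_zero).mp h0
  omega

theorem e_add (a b : ℕ) : e a + e b ≤ e (a + b) := by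
  haveI : Fact (Nat.Prime 2) := ⟨Nat.prime_two⟩
  have h1 : 2 ^ e b * a.factorial ∣ (a + b).factorial := by
    rw [mul_comm, e_eq]
    exact (mul_dvd_mul_left _ pow_padicValNat_dvd).trans (Nat.factorial_mul_factorial_dvd_factorial_add a b)
  exact e_mono_dvd h1

theorem e_three {m : ℕ} (h3 : 3 ≤ m) (hm : m % 4 ≠ 3) : e (m - 3) + 2 ≤ e m := by
  refine e_mono_dvd ?_
  have h : m.factorial = m * (m - 1) * (m - 2) * (m - 3).factorial := by
    obtain ⟨k, rfl⟩ := Nat.exists_eq_add_of_le' h3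
    simp [Nat.factorial_succ]; ring
  rw [h]
  refine mul_dvd_mul_right ?_ _
  show 4 ∣ _
  have : m % 4 = 0 ∨ m % 4 = 1 ∨ m % 4 = 2 := by omega
  rcases this with h | h | h
  · exact (Nat.dvd_of_mod_eq_zero h).mul_right _ |>.mul_right _
  · exact ((show 4 ∣ m - 1 by omega).mul_left _).mul_right _
  · exact (show 4 ∣ m - 2 by omega).mul_left _

theorem e_six {m : ℕ} (h6 : 6 ≤ m) : e (m - 6) + 4 ≤ e m := by
  refine e_mono_dvd ?_
  rw [← Nat.factorial_mul_descFactorial h6, mul_comm]
  refine mul_dvd_mul_left _ ?_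
  exact (show 2 ^ 4 ∣ Nat.factorial 6 by decide).trans (Nat.factorial_dvd_descFactorial m 6)

theorem F_pos (n : ℕ) : 0 < F n := by unfold F; split <;> positivity

theorem F_add (a b : ℕ) : F a * F b ≤ F (a + b) := by
  wlog h : a % 4 = 3 ∨ b % 4 ≠ 3 generalizing a b
  · rw [mul_comm, add_comm]; exact this b a (by omega)
  by_cases ha : a % 4 = 3
  · by_cases hb : b % 4 = 3
    · have h1 := e_add (a - 3) (b - 3)
      rw [show a - 3 + (b - 3) = a + b - 6 by omega] at h1
      have h2 := e_six (show 6 ≤ a + b by omega)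
      rw [F, F, F, if_pos ha, if_pos hb, if_neg (by omega)]
      calc 3 * 2 ^ e (a - 3) * (3 * 2 ^ e (b - 3)) = 9 * 2 ^ (e (a - 3) + e (b - 3)) := by ring
        _ ≤ 2 ^ 4 * 2 ^ e (a + b - 6) := Nat.mul_le_mul (by norm_num) (Nat.pow_le_pow_right two_pos h1)
        _ ≤ 2 ^ e (a + b) := by rw [← pow_add]; exact Nat.pow_le_pow_right two_pos (by omega)
    · have h1 := e_add (a - 3) b
      rw [show a - 3 + b = a + b - 3 by omega] at h1
      rw [F, F, if_pos ha, if_neg hb, mul_assoc, ← pow_add]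
      by_cases hab : (a + b) % 4 = 3
      · rw [F, if_pos hab]
        exact Nat.mul_le_mul_left 3 (Nat.pow_le_pow_right two_pos h1)
      · rw [F, if_neg hab]
        have h2 := e_three (show 3 ≤ a + b by omega) hab
        calc 3 * 2 ^ (e (a - 3) + e b) ≤ 2 ^ 2 * 2 ^ e (a + b - 3) :=
              Nat.mul_le_mul (by norm_num) (Nat.pow_le_pow_right two_pos h1)
          _ ≤ 2 ^ e (a + b) := by rw [← pow_add]; exact Nat.pow_le_pow_right two_pos (by omega)
  · have hb : b % 4 ≠ 3 := by tauto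
    have h1 := e_add a b
    rw [F, F, F, if_neg ha, if_neg hb, ← pow_add]
    split
    · have h2 := e_add (a + b - 3) 3
      have h3 : e (a + b) ≤ e (a + b - 3) + 1 := by
        haveI : Fact (Nat.Prime 2) := ⟨Nat.prime_two⟩
        rw [e_eq, e_eq]
        obtain ⟨k, hk⟩ : ∃ k, a + b = k + 3 := ⟨a + b - 3, by omega⟩
        rw [hk, Nat.add_sub_cancel, Nat.factorial_succ, Nat.factorial_succ, Nat.factorial_succ,
          padicValNat.mul (by omega) (by positivity), padicValNat.mul (by omega) (by positivity),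
          padicValNat.mul (by omega) (by positivity), padicValNat.eq_zero_of_not_dvd (n := k + 2 + 1) (by omega),
          padicValNat.eq_zero_of_not_dvd (n := k + 1) (by omega)]
        have hlt : padicValNat 2 (k + 1 + 1) ≤ 1 := by
          by_contra hc
          have := (padicValNat_dvd_iff_le (p := 2) (n := 2) (show k + 1 + 1 ≠ 0 by omega)).mpr (by omega)
          omega
        omega
      calc 2 ^ (e a + e b) ≤ 2 ^ (e (a + b - 3) + 1) := Nat.pow_le_pow_right two_pos (by omega)
        _ ≤ 3 * 2 ^ e (a + b - 3) := by rw [pow_succ']; exact Nat.mul_le_mul_right _ (by norm_num)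
    · exact Nat.pow_le_pow_right two_pos h1

theorem F_mono {a b : ℕ} (h : a ≤ b) : F a ≤ F b := by
  obtain ⟨c, rfl⟩ := Nat.exists_eq_add_of_le h
  calc F a = F a * 1 := (mul_one _).symm
    _ ≤ F a * F c := Nat.mul_le_mul_left _ (F_pos c)
    _ ≤ F (a + c) := F_add a c

theorem F_large : ∀ n, 8 ≤ n → 3 ^ (n - 1) ≤ F n ^ 2 := by
  intro n
  induction n using Nat.strong_induction_on with
  | _ n ih =>
    intro hn
    by_cases h : n < 16
    · have key : ∀ k < 16, 8 ≤ k → 3 ^ (k - 1) ≤ F k ^ 2 := by decide +kernel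
      exact key n h hn
    · have h1 := ih (n - 8) (by omega) (by omega)
      have h2 := F_add (n - 8) 8
      rw [Nat.sub_add_cancel hn] at h2
      have h3 : F 8 = 2 ^ 7 := by decide +kernel
      calc 3 ^ (n - 1) = 3 ^ (n - 8 - 1) * 3 ^ 8 := by rw [← pow_add]; congr 1; omega
        _ ≤ F (n - 8) ^ 2 * (F 8) ^ 2 := Nat.mul_le_mul h1 (by rw [h3]; norm_num)
        _ = (F (n - 8) * F 8) ^ 2 := by ring
        _ ≤ F n ^ 2 := Nat.pow_le_pow_left h2 2

theorem three_pow_ge (p : ℕ) (hp : 3 ≤ p) : p ^ 2 ≤ 3 ^ (p - 1) := by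
  induction p, hp using Nat.le_induction with
  | base => norm_num
  | succ k hk ih =>
    rw [show k + 1 - 1 = k - 1 + 1 by omega, pow_succ 3]
    nlinarith

theorem small_case : ∀ n p k : Fin 8, (p : ℕ) % 2 = 1 → 3 ≤ (p : ℕ) →
    (p : ℕ) ^ (k : ℕ) ∣ (n : ℕ).factorial → (p : ℕ) ^ (k : ℕ) ≤ F n := by
  decide +kernel

theorem prime_pow_le {p k n : ℕ} (hp : p.Prime) (h : p ^ k ∣ n.factorial) : p ^ k ≤ F n := by
  haveI : Fact p.Prime := ⟨hp⟩
  have hk : k ≤ padicValNat p n.factorial := (padicValNat_dvd_iff_le n.factorial_ne_zero).mp h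
  rcases hp.eq_two_or_odd with rfl | hodd
  · rw [← e_eq] at hk
    calc 2 ^ k ≤ 2 ^ e n := Nat.pow_le_pow_right two_pos hk
      _ ≤ F n := by
        have h2 := F_add 0 n
        unfold F
        split
        · rename_i hm
          have h3 : e n ≤ e (n - 3) + 1 := by
            haveI : Fact (Nat.Prime 2) := ⟨Nat.prime_two⟩
            rw [e_eq, e_eq]
            obtain ⟨k, rfl⟩ : ∃ k, n = k + 3 := ⟨n - 3, by omega⟩
            rw [Nat.add_sub_cancel, Nat.factorial_succ, Nat.factorial_succ, Nat.factorial_succ,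
              padicValNat.mul (by omega) (by positivity), padicValNat.mul (by omega) (by positivity),
              padicValNat.mul (by omega) (by positivity),
              padicValNat.eq_zero_of_not_dvd (n := k + 2 + 1) (by omega),
              padicValNat.eq_zero_of_not_dvd (n := k + 1) (by omega)]
            have hlt : padicValNat 2 (k + 1 + 1) ≤ 1 := by
              by_contra hc
              have := (padicValNat_dvd_iff_le (p := 2) (n := 2) (show k + 1 + 1 ≠ 0 by omega)).mpr (by omega)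
              omega
            omega
          calc 2 ^ e n ≤ 2 ^ (e (n - 3) + 1) := Nat.pow_le_pow_right two_pos h3
            _ ≤ _ := by rw [pow_succ']; exact Nat.mul_le_mul_right _ (by norm_num)
        · exact le_rfl
  · have hp3 : 3 ≤ p := by have := hp.two_le; omega
    by_cases h8 : n < 8
    · rcases Nat.eq_zero_or_pos k with rfl | hk0
      · exact F_pos n
      have hpn : p ≤ n := by
        have := (dvd_pow_self p (by omega)).trans h
        exact (hp.dvd_factorial).mp this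
      have hn0 : n ≠ 0 := by omega
      have h1 := sub_one_mul_padicValNat_factorial_lt_of_ne_zero p (n := n) hn0
      have hk8 : k < 8 := by
        have := Nat.mul_le_mul (show 1 ≤ p - 1 by omega) hk
        omega
      exact small_case ⟨n, h8⟩ ⟨p, by omega⟩ ⟨k, hk8⟩ hodd hp3 h
    · have h1 := sub_one_mul_padicValNat_factorial_lt_of_ne_zero p (n := n) (by omega)
      have h2 := Nat.mul_le_mul_left (p - 1) hk
      refine (Nat.pow_le_pow_iff_left two_ne_zero).mp ?_
      calc (p ^ k) ^ 2 = (p ^ 2) ^ k := by rw [← pow_mul, ← pow_mul, mul_comm]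
        _ ≤ (3 ^ (p - 1)) ^ k := Nat.pow_le_pow_left (three_pow_ge p hp3) k
        _ ≤ 3 ^ (n - 1) := by rw [← pow_mul]; exact Nat.pow_le_pow_right (by norm_num) (by omega)
        _ ≤ F n ^ 2 := F_large n (by omega)

theorem orderOf_coprime_of_mem {G : Type*} [Group G] [Finite G] {p : ℕ} (hp : p.Prime) {P R : Subgroup G}
    (hP : IsPGroup p P) {q r : G} (hq : q ∈ P) (hR : (Nat.card R).Coprime p) (hr : r ∈ R) :
    (orderOf r).Coprime (orderOf q) := by
  haveI : Fact p.Prime := ⟨hp⟩
  obtain ⟨i, hi⟩ := IsPGroup.iff_orderOf.mp hP ⟨q, hq⟩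
  have hd : orderOf r ∣ Nat.card R := by
    have := orderOf_dvd_natCard (⟨r, hr⟩ : R)
    rwa [Subgroup.orderOf_mk] at this
  rw [Subgroup.orderOf_mk] at hi
  rw [hi]
  exact (hR.coprime_dvd_left hd).pow_right i

theorem mem_zpowers_mul {G : Type*} [Group G] [Finite G] {a b : G} (h : Commute a b)
    (hc : (orderOf a).Coprime (orderOf b)) : b ∈ Subgroup.zpowers (a * b) := by
  obtain ⟨m, hm⟩ := exists_pow_eq_self_of_coprime (x := b) hc
  refine ⟨(orderOf a * m : ℕ), ?_⟩
  show (a * b) ^ ((orderOf a * m : ℕ) : ℤ) = b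
  rw [zpow_natCast, h.mul_pow, pow_mul a, pow_orderOf_eq_one, one_pow, one_mul, pow_mul]
  exact hm

theorem comm_coprime {K : Type*} [Group K] [Finite K] [Group.IsNilpotent K] {x y : K}
    (h : (orderOf y).Coprime (orderOf x)) : Commute x y :=
  Cfsg.Lib.FittingHall.commute_coprime h.symm

theorem card_le_F : ∀ (n : ℕ) (α : Type) [Finite α], Nat.card α = n →
    ∀ N : Subgroup (Equiv.Perm α), Group.IsNilpotent N → Nat.card N ≤ F n := by
  intro n
  induction n using Nat.strong_induction_on with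
  | _ n ih =>
  intro α _ hα N hN
  classical
  haveI : Fintype α := Fintype.ofFinite α
  have img : ∀ (β : Type) [Finite β] (f : N →* Equiv.Perm β), Nat.card β < n → Nat.card f.range ≤ F (Nat.card β) :=
    fun β _ f hb => ih _ hb β rfl f.range
      (Group.nilpotent_of_surjective f.rangeRestrict f.rangeRestrict_surjective)
  have two : ∀ (β γ : Type) [Finite β] [Finite γ] (f : N →* Equiv.Perm β) (g : N →* Equiv.Perm γ),
      Nat.card β < n → Nat.card γ < n → Nat.card β + Nat.card γ ≤ n →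
      (∀ x : N, f x = 1 → g x = 1 → x = 1) → Nat.card N ≤ F n := by
    intro β γ _ _ f g hb hg hsum hinj
    have h1 := Nat.card_le_card_of_injective (f.rangeRestrict.prod g.rangeRestrict)
      ((injective_iff_map_eq_one _).mpr fun x hx => hinj x (congrArg Subtype.val (Prod.mk.inj hx).1)
        (congrArg Subtype.val (Prod.mk.inj hx).2))
    rw [Nat.card_prod] at h1
    exact h1.trans ((Nat.mul_le_mul (img β f hb) (img γ g hg)).trans ((F_add _ _).trans (F_mono hsum)))
  by_cases hp : ∃ p : ℕ, p.Prime ∧ IsPGroup p N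
  · obtain ⟨p, hp, hP⟩ := hp
    haveI : Fact p.Prime := ⟨hp⟩
    obtain ⟨k, hk⟩ := hP.exists_card_eq
    have hd := Subgroup.card_subgroup_dvd_card N
    rw [Nat.card_perm, hα, hk] at hd
    rw [hk]
    exact prime_pow_le hp hd
  by_cases hα0 : IsEmpty α
  · haveI := hα0
    rw [Nat.card_of_subsingleton (1 : N)]
    exact F_pos n
  rw [not_isEmpty_iff] at hα0
  obtain ⟨ω⟩ := hα0
  by_cases htr : ∀ x : α, ∃ g ∈ N, g ω = x
  swap
  · push Not at htr
    obtain ⟨x₀, hx₀⟩ := htr
    let O : Set α := {x | ∃ g ∈ N, g ω = x}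
    have hO : ∀ (g : N) x, x ∈ O ↔ (g : Equiv.Perm α) x ∈ O := by
      intro g x
      constructor
      · rintro ⟨h, hh, rfl⟩
        exact ⟨g * h, mul_mem g.2 hh, rfl⟩
      · rintro ⟨h, hh, e⟩
        exact ⟨(g : Equiv.Perm α)⁻¹ * h, mul_mem (inv_mem g.2) hh, by simp [Equiv.Perm.mul_apply, e]⟩
    let f : N →* Equiv.Perm O :=
      { toFun := fun g => (g : Equiv.Perm α).subtypePerm fun x => (hO g x).symm
        map_one' := by ext; rfl
        map_mul' := fun g h => by ext; rfl }
    let f' : N →* Equiv.Perm (Oᶜ : Set α) :=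
      { toFun := fun g => (g : Equiv.Perm α).subtypePerm fun x => (not_congr (hO g x)).symm
        map_one' := by ext; rfl
        map_mul' := fun g h => by ext; rfl }
    have hsum : Nat.card O + Nat.card (Oᶜ : Set α) = n := by
      rw [← hα, Nat.card_coe_set_eq, Nat.card_coe_set_eq]; exact O.ncard_add_ncard_compl
    have h1 : 0 < Nat.card O := by
      haveI : Nonempty O := ⟨⟨ω, 1, one_mem N, rfl⟩⟩
      exact Nat.card_pos
    have h2 : 0 < Nat.card (Oᶜ : Set α) := by
      haveI : Nonempty (Oᶜ : Set α) := ⟨⟨x₀, fun ⟨g, hg, e⟩ => hx₀ g hg e⟩⟩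
      exact Nat.card_pos
    refine two O (Oᶜ : Set α) f f' (by omega) (by omega) hsum.le fun g h h' => Subtype.ext (Equiv.ext fun x => ?_)
    by_cases hx : x ∈ O
    · exact congrArg Subtype.val (Equiv.ext_iff.mp h ⟨x, hx⟩)
    · exact congrArg Subtype.val (Equiv.ext_iff.mp h' ⟨x, hx⟩)
  have hN1 : Nat.card N ≠ 1 := fun h => hp ⟨2, Nat.prime_two, IsPGroup.of_card (n := 0) (by simpa using h)⟩
  obtain ⟨p, hpp, hpd⟩ := Nat.exists_prime_and_dvd hN1
  haveI : Fact p.Prime := ⟨hpp⟩
  obtain ⟨P⟩ : Nonempty (Sylow p N) := inferInstance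
  have htfae := (Group.isNilpotent_of_finite_tfae (G := N)).out 0 3
  haveI hPn : (P : Subgroup N).Normal := htfae.1 hN p ‹_› P
  obtain ⟨R, hR⟩ := Subgroup.exists_right_complement'_of_coprime (N := (P : Subgroup N)) P.card_coprime_index
  have hRc : (Nat.card R).Coprime p := by
    have h := hR.index_eq_card
    rw [← hR.symm.index_eq_card]
    exact (hpp.coprime_iff_not_dvd.mpr P.not_dvd_index).symm
  have hcomm : ∀ q ∈ (P : Subgroup N), ∀ r ∈ R, Commute q r := by
    intro q hq r hr
    haveI := hN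
    exact comm_coprime (orderOf_coprime_of_mem hpp P.2 hq hRc hr)
  haveI hRn : R.Normal := ⟨fun r hr x => by
    obtain ⟨⟨⟨q, hq⟩, ⟨s, hs⟩⟩, hqs⟩ := hR.2 x
    have hqs : q * s = x := hqs
    have h := hcomm q hq _ (mul_mem (mul_mem hs hr) (inv_mem hs))
    rw [← hqs, show q * s * r * (q * s)⁻¹ = q * (s * r * s⁻¹) * q⁻¹ by group, h.eq, mul_inv_cancel_right]
    exact mul_mem (mul_mem hs hr) (inv_mem hs)⟩
  let orbit : Subgroup N → α → Set α := fun K x => {y | ∃ g ∈ K, ((g : N) : Equiv.Perm α) x = y}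
  have orbit_conj : ∀ (K : Subgroup N) [K.Normal] (g : N) x,
      orbit K ((g : Equiv.Perm α) x) = (g : Equiv.Perm α) '' orbit K x := by
    intro K hK g x
    ext y
    constructor
    · rintro ⟨k, hk, rfl⟩
      exact ⟨_, ⟨g⁻¹ * k * g, by simpa using hK.conj_mem k hk g⁻¹, rfl⟩, by simp [Equiv.Perm.mul_apply]⟩
    · rintro ⟨_, ⟨k, hk, rfl⟩, rfl⟩
      exact ⟨g * k * g⁻¹, hK.conj_mem k hk g, by simp [Equiv.Perm.mul_apply]⟩
  let sK : ∀ (K : Subgroup N), Setoid α := fun K =>
    { r := fun x y => y ∈ orbit K x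
      iseqv := ⟨fun x => ⟨1, one_mem K, rfl⟩,
        fun {x y} ⟨k, hk, e⟩ => ⟨k⁻¹, inv_mem hk, by rw [← e]; simp⟩,
        fun {x y z} ⟨k, hk, e⟩ ⟨l, hl, e'⟩ => ⟨l * k, mul_mem hl hk, by rw [← e', ← e]; rfl⟩⟩ }
  have act : ∀ (K : Subgroup N) [K.Normal], ∃ f : N →* Equiv.Perm (Quotient (sK K)), ∀ g x,
      f g (Quotient.mk (sK K) x) = Quotient.mk (sK K) ((g : Equiv.Perm α) x) := by
    intro K hK
    have hresp : ∀ (g : N) x y, (sK K).r x y → (sK K).r ((g : Equiv.Perm α) x) ((g : Equiv.Perm α) y) := by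
      intro g x y h
      show _ ∈ orbit K _
      rw [orbit_conj]
      exact ⟨y, h, rfl⟩
    let φ : N → Quotient (sK K) → Quotient (sK K) := fun g =>
      Quotient.map (g : Equiv.Perm α) fun x y h => hresp g x y h
    have φmul : ∀ g h q, φ (g * h) q = φ g (φ h q) := fun g h q => Quotient.inductionOn q fun x => rfl
    have φone : ∀ q, φ 1 q = q := fun q => Quotient.inductionOn q fun x => rfl
    exact ⟨MonoidHom.toHomPerm
      { toFun := φ
        map_one' := funext φone
        map_mul' := fun g h => funext (φmul g h) }, fun g x => rfl⟩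
  have half : ∀ (K : Subgroup N) [K.Normal], K ≠ ⊥ → 2 * Nat.card (Quotient (sK K)) ≤ n := by
    intro K hK hK1
    obtain ⟨k, hk, hk1⟩ := (Subgroup.bot_or_exists_ne_one K).resolve_left hK1
    have mv : ∀ x, ∃ g ∈ K, ((g : N) : Equiv.Perm α) x ≠ x := by
      intro x
      by_contra hc
      push Not at hc
      refine hk1 (Subtype.ext (Equiv.ext fun y => ?_))
      obtain ⟨g, hg, hgx⟩ := htr x
      obtain ⟨g', hg', hgy⟩ := htr y
      set t : N := ⟨g', hg'⟩ * ⟨g, hg⟩⁻¹
      have hty : (t : Equiv.Perm α) x = y := by simp [t, ← hgx, ← hgy, Equiv.Perm.mul_apply]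
      have h := hc _ (hK.conj_mem k hk t⁻¹)
      rw [← hty]
      simpa [Equiv.Perm.mul_apply, Equiv.symm_apply_eq] using h
    choose w hw hwne using mv
    have hinj : Function.Injective (fun p : Quotient (sK K) × Fin 2 =>
        if p.2 = 0 then p.1.out else ((w p.1.out : N) : Equiv.Perm α) p.1.out) := by
      rintro ⟨a, i⟩ ⟨b, j⟩ h
      have hc : ∀ (c : Quotient (sK K)) (l : Fin 2),
          Quotient.mk (sK K) (if l = 0 then c.out else ((w c.out : N) : Equiv.Perm α) c.out) = c := by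
        intro c l
        split
        · exact c.out_eq
        · exact ((Quotient.sound (s := sK K) ⟨_, hw c.out, rfl⟩).symm).trans c.out_eq
      have hab : a = b := by
        have := congrArg (Quotient.mk (sK K)) h
        simp only [hc] at this
        exact this
      subst hab
      simp only at h
      split_ifs at h with hi hj hj
      · exact Prod.ext rfl (hi.trans hj.symm)
      · exact absurd h.symm (hwne _)
      · exact absurd h (hwne _)
      · exact Prod.ext rfl ((Fin.eq_one_of_ne_zero _ hi).trans (Fin.eq_one_of_ne_zero _ hj).symm)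
    have := Nat.card_le_card_of_injective _ hinj
    rw [Nat.card_prod, Nat.card_fin, hα] at this
    omega
  obtain ⟨f, hf⟩ := act (P : Subgroup N)
  obtain ⟨f', hf'⟩ := act R
  have hPne : (P : Subgroup N) ≠ ⊥ := P.ne_bot_of_dvd_card hpd
  have hRne : R ≠ ⊥ := fun h => hp ⟨p, hpp, by
    have hc := hR.card_mul
    rw [h, Subgroup.card_bot, mul_one] at hc
    exact P.2.of_surjective (Subgroup.subtype _) fun x => ⟨⟨x, by
      rw [Subgroup.eq_top_of_card_eq _ hc]; trivial⟩, rfl⟩⟩
  haveI : Nonempty α := ⟨ω⟩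
  have hn1 : 0 < n := hα ▸ Nat.card_pos (α := α)
  have b1 := half (P : Subgroup N) hPne
  have b2 := half R hRne
  haveI : Nonempty (Quotient (sK (P : Subgroup N))) := ⟨Quotient.mk _ ω⟩
  haveI : Nonempty (Quotient (sK R)) := ⟨Quotient.mk _ ω⟩
  have c1 := Nat.card_pos (α := Quotient (sK (P : Subgroup N)))
  have c2 := Nat.card_pos (α := Quotient (sK R))
  refine two _ _ f f' (by omega) (by omega) (by omega) fun g h h' => ?_
  have fix : ∀ x, ∃ q ∈ (P : Subgroup N), ∃ r ∈ R,
      ((q : N) : Equiv.Perm α) x = (g : Equiv.Perm α) x ∧ ((r : N) : Equiv.Perm α) x = (g : Equiv.Perm α) x := by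
    intro x
    have e1 := hf g x
    have e2 := hf' g x
    rw [h, Equiv.Perm.one_apply] at e1
    rw [h', Equiv.Perm.one_apply] at e2
    obtain ⟨q, hq, eq⟩ := Quotient.exact e1
    obtain ⟨r, hr, er⟩ := Quotient.exact e2
    exact ⟨q, hq, r, hr, eq, er⟩
  refine Subtype.ext (Equiv.ext fun x => ?_)
  obtain ⟨q, hq, r, hr, eq, er⟩ := fix x
  have hgx : ((r⁻¹ * q : N) : Equiv.Perm α) x = x := by simp [Equiv.Perm.mul_apply, eq, ← er]
  have hc : Commute r⁻¹ q := ((hcomm q hq r hr).inv_right).symm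
  have hcop := orderOf_coprime_of_mem hpp P.2 hq hRc (inv_mem hr)
  have hmem : q ∈ Subgroup.zpowers (r⁻¹ * q) := mem_zpowers_mul hc hcop
  obtain ⟨z, hz⟩ := hmem
  show (g : Equiv.Perm α) x = x
  rw [← eq, ← hz]
  have hz' := congrArg Subtype.val (rfl : (r⁻¹ * q) ^ z = (r⁻¹ * q) ^ z)
  simp only [SubgroupClass.coe_zpow] at hz' ⊢
  exact Equiv.Perm.zpow_apply_eq_self_of_apply_eq_self hgx z

/-- Let n be a natural number not congruent to 3 modulo 4. Then every nilpotent subgroup of the symmetric group on n letters has order at most the order of a Sylow 2-subgroup (so the nilpotent subgroups of largest order are exactly the Sylow 2-subgroups). -/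
theorem result  (n : ℕ) (hn : n % 4 ≠ 3)
    (N : Subgroup (Equiv.Perm (Fin n))) (hN : Group.IsNilpotent N)
    (P : Sylow 2 (Equiv.Perm (Fin n))) :
    Nat.card N ≤ Nat.card P := by
  haveI : Fact (Nat.Prime 2) := ⟨Nat.prime_two⟩
  have h := card_le_F n (Fin n) (Nat.card_fin n) N hN
  rw [F, if_neg hn, e_eq, ← Nat.factorization_def _ Nat.prime_two] at h
  rwa [P.card_eq_multiplicity, Nat.card_perm, Nat.card_fin]

end Cfsg.Agent.S2253
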