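import Cfsg.Statements.S2257
import Cfsg.Agent.Known.SolubilizerEven
import Mathlib

set_option autoImplicit false
open Cfsg

namespace Cfsg.Agent.S2257

/-- Let G = PSL_2(F) with F a field of order q = 2^p, p prime, and for x ∈ G call the solubilizer of x the set of y ∈ G such that x and y generate a solvable subgroup. Then the solubilizer of an involution has 3q(q − 1) elements; that of a non-identity element of order dividing q − 1 has 2q(q − 1) elements; and that of a non-identity element of order dividing q + 1 has 2(q + 1) elements. -/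
theorem result (p : ℕ) (hp : p.Prime) {F : Type*} [Field F] [Fintype F]
    (hF : Fintype.card F = 2 ^ p) (x : Matrix.ProjectiveSpecialLinearGroup (Fin 2) F) :
    (orderOf x = 2 → Nat.card {y : Matrix.ProjectiveSpecialLinearGroup (Fin 2) F // Group.IsSolvable ↥(Subgroup.closure ({x, y} : Set (Matrix.ProjectiveSpecialLinearGroup (Fin 2) F)))} = 3 * 2 ^ p * (2 ^ p - 1)) ∧
    (x ≠ 1 → orderOf x ∣ 2 ^ p - 1 → Nat.card {y : Matrix.ProjectiveSpecialLinearGroup (Fin 2) F // Group.IsSolvable ↥(Subgroup.closure ({x, y} : Set (Matrix.ProjectiveSpecialLinearGroup (Fin 2) F)))} = 2 * 2 ^ p * (2 ^ p - 1)) ∧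
    (x ≠ 1 → orderOf x ∣ 2 ^ p + 1 → Nat.card {y : Matrix.ProjectiveSpecialLinearGroup (Fin 2) F // Group.IsSolvable ↥(Subgroup.closure ({x, y} : Set (Matrix.ProjectiveSpecialLinearGroup (Fin 2) F)))} = 2 * (2 ^ p + 1)) := by
  haveI : Fact (Nat.Prime 2) := ⟨Nat.prime_two⟩
  haveI : CharP F 2 := ringChar.eq_iff.1 (FiniteField.even_card_iff_char_two.2 (by
    rw [hF]; exact Nat.even_iff.1 ((Nat.even_pow' hp.ne_zero).2 even_two)))
  obtain ⟨s, rfl⟩ := QuotientGroup.mk'_surjective (Subgroup.center (Matrix.SpecialLinearGroup (Fin 2) F)) x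
  let e := MulEquiv.ofBijective (Cfsg.Lib.GLTwo.prj (F := F)) ⟨Cfsg.Lib.GLTwo.prj_injective, QuotientGroup.mk'_surjective _⟩
  obtain ⟨h1, h2, h3⟩ := Cfsg.Lib.SolubEven.sol_counts s
  have ho : orderOf (e s) = orderOf s := e.orderOf_eq s
  have hsol : Cfsg.Lib.SolubEven.solCard (e s) = Cfsg.Lib.SolubEven.solCard s := Cfsg.Lib.SolubEven.solCard_congr e s
  have hne : e s ≠ 1 → s ≠ 1 := fun h e' => h (by rw [e', map_one])
  rw [hF] at h1 h2 h3
  exact ⟨fun h => hsol.trans (h1 (ho ▸ h)), fun h h' => hsol.trans (h2 (hne h) (ho ▸ h')),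
    fun h h' => hsol.trans (h3 (hne h) (ho ▸ h'))⟩
end Cfsg.Agent.S2257
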