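import Cfsg.Statements.S2260
import Cfsg.Agent.Known.UnipotentBasics
import Cfsg.Agent.Known.RegularNilpotent
import Cfsg.Agent.Known.SLUnit

set_option autoImplicit false
open Cfsg Matrix

namespace Cfsg.Agent.S2260

/-- Let F be a finite field of prime characteristic p and u an invertible d × d matrix over F with u − 1 nilpotent (a unipotent element). Then the order of u is at most p^⌈log_p d⌉; and if moreover (u − 1)^(d−1) ≠ 0 (u is a single Jordan block) then the order of u is exactly p^⌈log_p d⌉. -/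
theorem result {F : Type*} [Field F] [Finite F] (p : ℕ) [Fact p.Prime] [CharP F p] (d : ℕ)
    (u : GL (Fin d) F) (hu : IsNilpotent ((u : Matrix (Fin d) (Fin d) F) - 1)) :
    orderOf u ≤ p ^ Nat.clog p d ∧
    (((u : Matrix (Fin d) (Fin d) F) - 1) ^ (d - 1) ≠ 0 → orderOf u = p ^ Nat.clog p d) := by
  have hp : p.Prime := Fact.out
  have hd := Cfsg.Lib.Known.Unip.orderOf_dvd p u hu
  refine ⟨Nat.le_of_dvd (pow_pos hp.pos _) hd, fun h => ?_⟩
  obtain ⟨j, hj, hj'⟩ := (Nat.dvd_prime_pow hp).1 hd
  refine hj'.trans (congrArg _ (le_antisymm hj (Nat.clog_le_of_le_pow ?_)))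
  by_contra hlt
  apply h
  refine pow_eq_zero_of_le (show p ^ j ≤ d - 1 by omega) ?_
  rw [Cfsg.Lib.Known.Unip.pow_sub_one, ← Units.val_pow_eq_pow_val, ← hj', pow_orderOf_eq_one, Units.val_one, sub_self]

end Cfsg.Agent.S2260
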