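import Cfsg.Statements.S2261

set_option autoImplicit false
open Cfsg

namespace Cfsg.Agent.S2261

/-- Let F be a finite field with q elements and d ≥ 1. Then every element of PGL_d(F) = GL_d(F)/Z has order at most (q^d − 1)/(q − 1), and some element (the image of a Singer cycle) has exactly this order. -/
theorem result {F : Type*} [Field F] [Fintype F] (d : ℕ) (hd : 1 ≤ d) :
    (∀ g : (GL (Fin d) F ⧸ Subgroup.center (GL (Fin d) F)), (Fintype.card F - 1) * orderOf g ≤ Fintype.card F ^ d - 1) ∧
    (∃ g : (GL (Fin d) F ⧸ Subgroup.center (GL (Fin d) F)), (Fintype.card F - 1) * orderOf g = Fintype.card F ^ d - 1) := by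
  classical
  haveI : Nonempty (Fin d) := ⟨⟨0, hd⟩⟩
  have hq1 : 1 < Fintype.card F := Fintype.one_lt_card
  have upper : ∀ g : (GL (Fin d) F ⧸ Subgroup.center (GL (Fin d) F)),
      (Fintype.card F - 1) * orderOf g ≤ Fintype.card F ^ d - 1 := by
    intro g
    obtain ⟨G, rfl⟩ := QuotientGroup.mk_surjective g
    set k := orderOf (G : GL (Fin d) F ⧸ Subgroup.center (GL (Fin d) F)) with hk
    set W := Submodule.span F (Set.range fun i : Fin d => (G : Matrix (Fin d) (Fin d) F) ^ (i : ℕ)) with hW
    have hmem : ∀ i : ℕ, (G : Matrix (Fin d) (Fin d) F) ^ i ∈ W := by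
      intro i
      rw [Matrix.pow_eq_aeval_mod_charpoly, Polynomial.aeval_eq_sum_range' (n := d) ?_]
      · refine Submodule.sum_mem _ fun j hj => Submodule.smul_mem _ _ (Submodule.subset_span ?_)
        exact ⟨⟨j, Finset.mem_range.1 hj⟩, rfl⟩
      · have h := Polynomial.natDegree_modByMonic_lt (Polynomial.X ^ i) (Matrix.charpoly_monic (G : Matrix (Fin d) (Fin d) F))
          (fun e => by
            have := congrArg Polynomial.natDegree e
            rw [Matrix.charpoly_natDegree_eq_dim, Fintype.card_fin, Polynomial.natDegree_one] at this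
            omega)
        rwa [Matrix.charpoly_natDegree_eq_dim, Fintype.card_fin] at h
    let φ : Fˣ × Fin k → {v : W // v ≠ 0} := fun x =>
      ⟨⟨(x.1 : F) • (G : Matrix (Fin d) (Fin d) F) ^ (x.2 : ℕ), W.smul_mem _ (hmem _)⟩, fun e => by
        have h0 := congrArg Subtype.val e
        simp only [ZeroMemClass.coe_zero, smul_eq_zero, Units.ne_zero, false_or] at h0
        exact (G ^ (x.2 : ℕ)).ne_zero (by rw [Units.val_pow_eq_pow_val]; exact h0)⟩
    have hφ : Function.Injective φ := by
      rintro ⟨c, i⟩ ⟨c', j⟩ e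
      have h0 : (c : F) • (G : Matrix (Fin d) (Fin d) F) ^ (i : ℕ) = (c' : F) • (G : Matrix (Fin d) (Fin d) F) ^ (j : ℕ) :=
        congrArg (fun v : {v : W // v ≠ 0} => (v.1 : Matrix (Fin d) (Fin d) F)) e
      have hij : (i : ℕ) = j := by
        refine pow_injOn_Iio_orderOf (Set.mem_Iio.2 i.2) (Set.mem_Iio.2 j.2) ?_
        show (G : GL (Fin d) F ⧸ Subgroup.center (GL (Fin d) F)) ^ (i : ℕ) = (G : GL (Fin d) F ⧸ Subgroup.center (GL (Fin d) F)) ^ (j : ℕ)
        rw [← QuotientGroup.mk_pow, ← QuotientGroup.mk_pow, QuotientGroup.eq]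
        rw [Matrix.GeneralLinearGroup.mem_center_iff_val_mem_range_scalar]
        refine ⟨(c : F) / c', ?_⟩
        have h1 : (G : Matrix (Fin d) (Fin d) F) ^ (j : ℕ) = ((c : F) / c') • (G : Matrix (Fin d) (Fin d) F) ^ (i : ℕ) := by
          rw [div_eq_inv_mul, mul_smul, h0, smul_smul, inv_mul_cancel₀ c'.ne_zero, one_smul]
        rw [Units.val_mul, Units.val_pow_eq_pow_val, h1, Matrix.mul_smul, ← Units.val_pow_eq_pow_val, Units.inv_mul,
          Matrix.scalar_apply, Matrix.smul_one_eq_diagonal]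
      obtain rfl : i = j := Fin.ext hij
      refine Prod.ext (Units.ext ?_) rfl
      exact smul_left_injective F (m := (G : Matrix (Fin d) (Fin d) F) ^ (i : ℕ))
        (by rw [← Units.val_pow_eq_pow_val]; exact (G ^ (i : ℕ)).ne_zero) h0
    have h1 := Nat.card_le_card_of_injective φ hφ
    rw [Nat.card_prod, Nat.card_units, Nat.card_fin, Nat.card_eq_fintype_card (α := F)] at h1
    have h2 : Nat.card {v : W // v ≠ 0} + 1 = Nat.card W := by
      rw [← Finite.card_option]
      exact Nat.card_congr (Equiv.optionSubtypeNe 0)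
    have h3 : Nat.card W ≤ Fintype.card F ^ d := by
      rw [Module.natCard_eq_pow_finrank (K := F), Nat.card_eq_fintype_card]
      exact Nat.pow_le_pow_right hq1.le ((finrank_range_le_card _).trans (by rw [Fintype.card_fin]))
    omega
  refine ⟨upper, ?_⟩
  obtain ⟨p, hp⟩ := CharP.exists F
  haveI : Fact p.Prime := ⟨CharP.char_is_prime F p⟩
  haveI : NeZero d := ⟨by omega⟩
  let E := FiniteField.Extension F p d
  obtain ⟨γ, hγ⟩ := IsCyclic.exists_ofOrder_eq_natCard (α := Eˣ)
  rw [Nat.card_units, FiniteField.natCard_extension, Nat.card_eq_fintype_card] at hγ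
  let b : Module.Basis (Fin d) F E :=
    Module.finBasisOfFinrankEq F E (FiniteField.finrank_extension F p d)
  let G : GL (Fin d) F := Units.map (Algebra.leftMulMatrix b).toRingHom.toMonoidHom γ
  refine ⟨(G : GL (Fin d) F ⧸ Subgroup.center (GL (Fin d) F)), le_antisymm (upper _) ?_⟩
  set k := orderOf (G : GL (Fin d) F ⧸ Subgroup.center (GL (Fin d) F)) with hk
  have hkpos : 0 < k := orderOf_pos _
  have hc : G ^ k ∈ Subgroup.center (GL (Fin d) F) := by
    rw [← QuotientGroup.eq_one_iff, QuotientGroup.mk_pow, hk, pow_orderOf_eq_one]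
  obtain ⟨c, hc'⟩ := Matrix.GeneralLinearGroup.mem_center_iff_val_mem_range_scalar.1 hc
  have hγk : ((γ : E)) ^ k = algebraMap F E c := by
    apply Algebra.leftMulMatrix_injective b
    rw [map_pow, AlgHom.commutes]
    exact hc'.symm
  have hc0 : c ≠ 0 := by
    intro e
    rw [e, map_zero] at hγk
    exact γ.ne_zero (eq_zero_of_pow_eq_zero hγk)
  have h1 : γ ^ (k * (Fintype.card F - 1)) = 1 := by
    refine Units.ext ?_
    rw [Units.val_pow_eq_pow_val, pow_mul, hγk, ← map_pow, FiniteField.pow_card_sub_one_eq_one c hc0, map_one,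
      Units.val_one]
  have h2 := orderOf_dvd_of_pow_eq_one h1
  rw [hγ] at h2
  rw [mul_comm]
  exact Nat.le_of_dvd (Nat.mul_pos hkpos (by omega)) h2

end Cfsg.Agent.S2261
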