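import Cfsg.Statements.S2263
import Cfsg.Agent.Known.UnitOrders.MaxOrder.Bound
import Cfsg.Agent.Known.UnitOrders.MaxOrder.Exist

set_option autoImplicit false
open Cfsg

namespace Cfsg.Agent.S2263

/-- Let q = p^f with p prime and f ≥ 1, F a field with q² elements, d ≥ 3 with (d, q) ≠ (3, 2), and PGU_d(q) the general unitary group of the standard Hermitian form modulo its centre. Then the largest order of an element of PGU_d(q) is: q^(d−1) − 1 if d is odd and f ≥ 2; (p^(d−2) + 1)p if d is odd and f = 1; q^(d−1) + 1 if d is even and q > 2; 4(2^(d−3) + 1) if d is even and q = 2. -/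
theorem result {F : Type*} [Field F] [Fintype F] (p f d : ℕ) (hp : p.Prime) (hf : 1 ≤ f) (q : ℕ) (hq : q = p ^ f)
    (hF : Fintype.card F = q ^ 2) (hd : 3 ≤ d) (h32 : ¬ (d = 3 ∧ q = 2)) :
    (Odd d → 2 ≤ f → (∀ g : (↥(Cfsg.GU d F q) ⧸ Subgroup.center ↥(Cfsg.GU d F q)), orderOf g ≤ q ^ (d - 1) - 1) ∧ ∃ g : (↥(Cfsg.GU d F q) ⧸ Subgroup.center ↥(Cfsg.GU d F q)), orderOf g = q ^ (d - 1) - 1) ∧
    (Odd d → f = 1 → (∀ g : (↥(Cfsg.GU d F q) ⧸ Subgroup.center ↥(Cfsg.GU d F q)), orderOf g ≤ (p ^ (d - 2) + 1) * p) ∧ ∃ g : (↥(Cfsg.GU d F q) ⧸ Subgroup.center ↥(Cfsg.GU d F q)), orderOf g = (p ^ (d - 2) + 1) * p) ∧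
    (Even d → 2 < q → (∀ g : (↥(Cfsg.GU d F q) ⧸ Subgroup.center ↥(Cfsg.GU d F q)), orderOf g ≤ q ^ (d - 1) + 1) ∧ ∃ g : (↥(Cfsg.GU d F q) ⧸ Subgroup.center ↥(Cfsg.GU d F q)), orderOf g = q ^ (d - 1) + 1) ∧
    (Even d → q = 2 → (∀ g : (↥(Cfsg.GU d F q) ⧸ Subgroup.center ↥(Cfsg.GU d F q)), orderOf g ≤ 4 * (2 ^ (d - 3) + 1)) ∧ ∃ g : (↥(Cfsg.GU d F q) ⧸ Subgroup.center ↥(Cfsg.GU d F q)), orderOf g = 4 * (2 ^ (d - 3) + 1)) := by
  classical
  haveI := Fact.mk hp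
  haveI : CharP F p := charP_of_card_eq_prime_pow (f := f * 2) (by rw [hF, hq, ← pow_mul])
  have hq2 : 2 ≤ q := hq ▸ hp.two_le.trans (Nat.le_self_pow (by omega) p)
  have hB := Cfsg.Lib.UnitOrders.MaxOrder.order_bound hF hp hf hq hd h32
  have hG : q ^ (d - 1) - 1 ≤ (p ^ (d - 2) + 1) * p ∨ f ≠ 1 := by
    by_cases h : f = 1
    · left
      subst h
      rw [pow_one] at hq
      subst hq
      rw [add_mul, one_mul, ← pow_succ, show d - 2 + 1 = d - 1 by omega]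
      omega
    · exact Or.inr h
  refine ⟨fun ho hf2 => ⟨fun g => ?_, Cfsg.Lib.UnitOrders.MaxOrder.exists_minus p hF ho hd⟩,
    fun ho hf1 => ⟨fun g => ?_, ?_⟩,
    fun he hq3 => ⟨fun g => ?_, Cfsg.Lib.UnitOrders.MaxOrder.exists_plus p hF he (by omega)⟩,
    fun he hq2' => ⟨fun g => ?_, ?_⟩⟩
  · rcases hB g with h | ⟨a, -⟩ | ⟨-, a, -⟩ | ⟨a, -⟩
    · omega
    · exact absurd a (Nat.not_even_iff_odd.2 ho)
    · exact absurd (hq ▸ a : p ^ f = p) (fun h => by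
        have := Nat.pow_right_injective hp.two_le (h.trans (pow_one p).symm)
        omega)
    · exact absurd a (Nat.not_even_iff_odd.2 ho)
  · rcases hB g with h | ⟨a, -⟩ | ⟨-, -, h⟩ | ⟨a, -⟩
    · rcases hG with hG | hG
      · omega
      · exact absurd hf1 hG
    · exact absurd a (Nat.not_even_iff_odd.2 ho)
    · exact h
    · exact absurd a (Nat.not_even_iff_odd.2 ho)
  · have h2 : Nat.clog p 2 = 0 + 1 :=
      le_antisymm (Nat.clog_le_of_le_pow (by rw [pow_one]; exact hp.two_le)) (Nat.clog_pos hp.one_lt one_lt_two)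
    subst hf1
    rw [pow_one] at hq
    obtain ⟨g, hg⟩ := Cfsg.Lib.UnitOrders.MaxOrder.exists_mixed (d := d) hF (f := 1) le_rfl (by rw [pow_one]; exact hq)
      (show 1 ≤ 2 by omega) (by omega) (by obtain ⟨k, rfl⟩ := ho; exact ⟨k - 1, by omega⟩) h2 (by simp)
    exact ⟨g, by rw [hg, hq, zero_add, pow_one]⟩
  · rcases hB g with h | ⟨-, h⟩ | ⟨a, -⟩ | ⟨-, a, -⟩
    · omega
    · exact h
    · exact absurd he (Nat.not_even_iff_odd.2 a)
    · omega
  · subst hq2'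
    have h4 : 4 * (2 ^ (d - 3) + 1) = 2 ^ (d - 1) + 4 := by
      rw [show d - 1 = d - 3 + 2 by omega, pow_add]; ring
    rcases hB g with h | ⟨-, h⟩ | ⟨a, -⟩ | ⟨-, -, h⟩
    · omega
    · omega
    · exact absurd he (Nat.not_even_iff_odd.2 a)
    · exact h
  · subst hq2'
    obtain rfl : p = 2 := ((Nat.prime_dvd_prime_iff_eq hp Nat.prime_two).1 (hq ▸ dvd_pow_self p (by omega)))
    have h3 : Nat.clog 2 3 = 1 + 1 := by
      refine le_antisymm (Nat.clog_le_of_le_pow (by norm_num)) ?_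
      by_contra h
      have := Nat.le_pow_clog (show 1 < 2 by norm_num) 3
      have h' : Nat.clog 2 3 ≤ 1 := by omega
      have := this.trans (Nat.pow_le_pow_right (by norm_num) h')
      norm_num at this
    obtain ⟨g, hg⟩ := Cfsg.Lib.UnitOrders.MaxOrder.exists_mixed (d := d) hF hf hq
      (show 1 ≤ 3 by omega) (by obtain ⟨k, rfl⟩ := he; omega) (by obtain ⟨k, rfl⟩ := he; exact ⟨k - 2, by omega⟩) h3
      (by norm_num)
    exact ⟨g, by rw [hg]; ring⟩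

end Cfsg.Agent.S2263
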