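import Cfsg.Statements.S2268
import Mathlib

set_option autoImplicit false
open Cfsg

namespace Cfsg.Agent.S2268

/-- Let G be a finite group with an abelian Sylow p-subgroup P and let Q ≤ P. Then N_G(Q) = (N_G(Q) ∩ N_G(P))·C_G(Q), so that N_G(Q)/C_G(Q) is a homomorphic image of the subgroup (N_G(Q) ∩ N_G(P))/C_G(P) of N_G(P)/C_G(P); in particular the order of N_G(Q)/C_G(Q) divides the order of N_G(P)/C_G(P). -/
theorem result {G : Type*} [Group G] [Finite G] {p : ℕ} [Fact p.Prime]
    (P : Sylow p G) (hP : IsMulCommutative (P : Subgroup G)) (Q : Subgroup G) (hQ : Q ≤ (P : Subgroup G)) :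
    Subgroup.normalizer (Q : Set G) =
      (Subgroup.normalizer (Q : Set G) ⊓ Subgroup.normalizer ((P : Subgroup G) : Set G)) ⊔ Subgroup.centralizer (Q : Set G) ∧
    ((Subgroup.centralizer (Q : Set G)).subgroupOf (Subgroup.normalizer (Q : Set G))).index ∣ ((Subgroup.centralizer ((P : Subgroup G) : Set G)).subgroupOf (Subgroup.normalizer ((P : Subgroup G) : Set G))).index := by
  classical
  set C := Subgroup.centralizer (Q : Set G) with hC
  set N := Subgroup.normalizer (Q : Set G) with hN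
  set NP := Subgroup.normalizer ((P : Subgroup G) : Set G) with hNP
  set CP := Subgroup.centralizer ((P : Subgroup G) : Set G) with hCP
  have hCN : C ≤ N := Subgroup.centralizer_le_normalizer _
  have hPC : (P : Subgroup G) ≤ C := fun x hx => Subgroup.mem_centralizer_iff.2 fun y hy =>
    congrArg Subtype.val (hP.is_comm.comm (⟨y, hQ hy⟩ : ↥(P : Subgroup G)) ⟨x, hx⟩)
  have hCPC : CP ≤ C := Subgroup.centralizer_le (by exact_mod_cast hQ)
  -- normality of `C` in `N`
  have hnorm : ∀ g ∈ N, ∀ x ∈ C, g * x * g⁻¹ ∈ C := by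
    intro g hg x hx
    rw [hC, Subgroup.mem_centralizer_iff] at hx ⊢
    intro y hy
    have hy' : g⁻¹ * y * g ∈ Q := by
      have := (Subgroup.mem_normalizer_iff.1 hg (g⁻¹ * y * g)).2
      exact this (by simpa [mul_assoc] using hy)
    have := hx _ hy'
    calc y * (g * x * g⁻¹) = g * ((g⁻¹ * y * g) * x) * g⁻¹ := by group
      _ = g * (x * (g⁻¹ * y * g)) * g⁻¹ := by rw [this]
      _ = (g * x * g⁻¹) * y := by group
  have hdec : ∀ g ∈ N, ∃ c ∈ C, c * g ∈ N ⊓ NP := by
    intro g hg
    have hle : ((g • P : Sylow p G) : Subgroup G) ≤ C := by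
      intro x hx
      have hx' : g⁻¹ * x * g ∈ (P : Subgroup G) := by
        simpa [Sylow.coe_subgroup_smul, Subgroup.mem_pointwise_smul_iff_inv_smul_mem, MulAut.smul_def] using hx
      simpa [mul_assoc] using hnorm g hg _ (hPC hx')
    obtain ⟨c, hc⟩ := MulAction.exists_smul_eq C ((g • P).subtype hle) (P.subtype hPC)
    refine ⟨c, c.2, N.mul_mem (hCN c.2) hg, ?_⟩
    change (c : G) * g ∈ Subgroup.normalizer ((P : Subgroup G) : Set G)
    refine Sylow.smul_eq_iff_mem_normalizer.1 ?_
    rw [Sylow.smul_subtype hle c] at hc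
    rw [mul_smul]
    exact Sylow.subtype_injective hc
  have hA : N = (N ⊓ NP) ⊔ C := by
    refine le_antisymm (fun g hg => ?_) (sup_le inf_le_left hCN)
    obtain ⟨c, hc, hcg⟩ := hdec g hg
    rw [show g = c⁻¹ * (c * g) by group]
    exact Subgroup.mul_mem _ (Subgroup.mem_sup_right (C.inv_mem hc)) (Subgroup.mem_sup_left hcg)
  refine ⟨hA, ?_⟩
  change C.relIndex N ∣ CP.relIndex NP
  have h1 : C.relIndex N = C.relIndex (N ⊓ NP) := by
    haveI : (C.subgroupOf N).Normal := ⟨fun x hx g => hnorm g g.2 x hx⟩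
    have e1 : C.relIndex N = (C.subgroupOf N).relIndex ((N ⊓ NP).subgroupOf N ⊔ C.subgroupOf N) := by
      rw [← Subgroup.subgroupOf_sup inf_le_left hCN, ← hA, Subgroup.subgroupOf_self, Subgroup.relIndex_top_right]
      rfl
    rw [e1, Subgroup.relIndex_sup_right, Subgroup.relIndex_subgroupOf inf_le_left]
  have h2 : CP ≤ N ⊓ NP := le_inf (hCPC.trans hCN) (Subgroup.centralizer_le_normalizer _)
  rw [h1, ← Subgroup.relIndex_mul_relIndex _ _ _ h2 inf_le_right]
  exact (Subgroup.relIndex_dvd_of_le_left _ hCPC).mul_right _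

end Cfsg.Agent.S2268
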