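import Cfsg.Statements.S2270

set_option autoImplicit false
open Cfsg

namespace Cfsg.Agent.S2270

/-- Let n ≥ 3, p an odd prime, and P an abelian Sylow p-subgroup of the symmetric group S_n (with p dividing n!, so that P ≠ 1). Then N(P)/C(P) has even order. -/
theorem result (n : ℕ) (hn : 3 ≤ n) {p : ℕ} [Fact p.Prime] (hp : p ≠ 2) (hpn : p ≤ n)
    (P : Sylow p (Equiv.Perm (Fin n))) (hP : IsMulCommutative (P : Subgroup (Equiv.Perm (Fin n)))) :
    2 ∣ ((Subgroup.centralizer ((P : Subgroup (Equiv.Perm (Fin n))) : Set (Equiv.Perm (Fin n)))).subgroupOf (Subgroup.normalizer ((P : Subgroup (Equiv.Perm (Fin n))) : Set (Equiv.Perm (Fin n))))).index := by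
  set N := Subgroup.normalizer ((P : Subgroup (Equiv.Perm (Fin n))) : Set (Equiv.Perm (Fin n)))
  set C := (Subgroup.centralizer ((P : Subgroup (Equiv.Perm (Fin n))) : Set (Equiv.Perm (Fin n)))).subgroupOf N
  haveI := hP
  obtain ⟨x, hx1, hxP⟩ : ∃ x : (Equiv.Perm (Fin n)), x ≠ 1 ∧ x ∈ (P : Subgroup (Equiv.Perm (Fin n))) := by
    have hne : (P : Subgroup (Equiv.Perm (Fin n))) ≠ ⊥ := by
      refine P.ne_bot_of_dvd_card ?_
      rw [Nat.card_perm, Nat.card_fin]
      exact (Fact.out : p.Prime).dvd_factorial.2 hpn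
    obtain ⟨x, hxP, hx⟩ := (Subgroup.bot_or_exists_ne_one (P : Subgroup (Equiv.Perm (Fin n)))).resolve_left hne
    exact ⟨x, hx, hxP⟩
  obtain ⟨c, hc⟩ := isConj_iff.1 (Equiv.Perm.isConj_iff_cycleType_eq.2 (Equiv.Perm.cycleType_inv x).symm : IsConj x x⁻¹)
  obtain ⟨m, hm, he⟩ := P.conj_eq_normalizer_conj_of_mem x c⁻¹ hxP (by rw [inv_inv, hc]; exact inv_mem hxP)
  rw [inv_inv, hc] at he
  have hxx : x⁻¹ ≠ x := by
    intro e
    have h1 : x ^ 2 = 1 := by rw [sq]; nth_rw 1 [← e]; exact inv_mul_cancel x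
    obtain ⟨k, hk⟩ := P.2.exists_orderOf_eq_pow ⟨x, hxP⟩
    rw [Subgroup.orderOf_mk] at hk
    have := orderOf_dvd_of_pow_eq_one h1
    rw [hk] at this
    rcases Nat.eq_zero_or_pos k with rfl | hkpos
    · exact hx1 (orderOf_eq_one_iff.1 (by simpa using hk))
    · exact hp ((Nat.prime_dvd_prime_iff_eq Fact.out Nat.prime_two).1 ((dvd_pow_self p hkpos.ne').trans this))
  by_contra hodd
  haveI : C.Normal := by
    refine ⟨fun a ha b => ?_⟩
    rw [Subgroup.mem_subgroupOf, Subgroup.mem_centralizer_iff] at ha ⊢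
    intro y hy
    have hy' : (b : (Equiv.Perm (Fin n)))⁻¹ * y * b ∈ (P : Subgroup (Equiv.Perm (Fin n))) := (Subgroup.mem_normalizer_iff''.1 b.2 y).1 hy
    have := ha _ hy'
    simp only [Subgroup.coe_mul, Subgroup.coe_inv]
    calc y * ((b : (Equiv.Perm (Fin n))) * a * (b : (Equiv.Perm (Fin n)))⁻¹) = (b : (Equiv.Perm (Fin n))) * ((b : (Equiv.Perm (Fin n)))⁻¹ * y * b * a) * (b : (Equiv.Perm (Fin n)))⁻¹ := by group
      _ = _ := by rw [this]; group
  have hpw : ∀ k : ℕ, (m ^ k)⁻¹ * x * m ^ k = if Even k then x else x⁻¹ := by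
    intro k
    induction k with
    | zero => simp
    | succ k ih =>
      rw [pow_succ, mul_inv_rev, show m⁻¹ * (m ^ k)⁻¹ * x * (m ^ k * m) = m⁻¹ * ((m ^ k)⁻¹ * x * m ^ k) * m by group, ih]
      by_cases hk : Even k
      · rw [if_pos hk, if_neg (by simpa [Nat.even_add_one] using hk), ← he]
      · rw [if_neg hk, if_pos (by simpa [Nat.even_add_one] using hk)]
        rw [show m⁻¹ * x⁻¹ * m = (m⁻¹ * x * m)⁻¹ by group, ← he, inv_inv]
  have hmem : (⟨m, hm⟩ : N) ^ C.index ∈ C := Subgroup.pow_index_mem C _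
  rw [Subgroup.mem_subgroupOf, Subgroup.mem_centralizer_iff] at hmem
  have hcomm : x * m ^ C.index = m ^ C.index * x := by simpa using hmem x hxP
  have := hpw C.index
  rw [if_neg (by rwa [even_iff_two_dvd]), mul_assoc, hcomm, inv_mul_cancel_left] at this
  exact hxx this.symm

end Cfsg.Agent.S2270
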