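import Cfsg.Statements.S2271
-- import your own Cfsg.Agent.* helpers here

set_option autoImplicit false
open Cfsg

namespace Cfsg.Agent.S2271

noncomputable section

variable {α : Type*} [Fintype α] [DecidableEq α]

/-- Permutation matrix entries. -/
def pm (x : Equiv.Perm α) (p q : α) : ℝ := if x q = p then 1 else 0

lemma pm_nonneg (x : Equiv.Perm α) (p q : α) : 0 ≤ pm x p q := by
  unfold pm; split_ifs <;> norm_num

lemma pm_conj (x g : Equiv.Perm α) (p q : α) :
    pm (g * x * g⁻¹) p q = pm x (g⁻¹ p) (g⁻¹ q) := by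
  unfold pm
  congr 1
  simp [Equiv.Perm.mul_apply, Equiv.eq_symm_apply, Equiv.Perm.inv_def]

lemma pm_comp (x g : Equiv.Perm α) (p q : α) :
    pm x (g p) (g q) = pm (g⁻¹ * x * (g⁻¹)⁻¹) p q := by
  rw [pm_conj, inv_inv]

lemma card_fix (x y : Equiv.Perm α) :
    (Nat.card (Function.fixedPoints ⇑(x * y)) : ℝ) = ∑ p, ∑ q, pm x p q * pm y q p := by
  have h : ∀ p, ∑ q, pm x p q * pm y q p = if (x * y) p = p then (1:ℝ) else 0 := by
    intro p
    rw [Finset.sum_eq_single (y p)]
    · simp [pm, Equiv.Perm.mul_apply]; rfl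
    · intro q _ hq
      simp [pm, Ne.symm hq]
    · simp
  simp_rw [h]
  rw [Finset.sum_boole, Nat.card_eq_fintype_card, ← Fintype.card_coe]
  congr 1
  apply Fintype.card_congr
  exact Equiv.subtypeEquivRight (fun p => by
    simp only [Finset.mem_filter, Finset.mem_univ, true_and]
    exact Iff.rfl)

/-- Sum of both orientations over the two pairs of a matching. -/
def mt (M : α → α → ℝ) (i j k l : α) : ℝ := M i j + M j i + M k l + M l k

/-- Klein-averaged entries. -/
def kav (M : α → α → ℝ) (i j k l p q : α) : ℝ :=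
  M p q + M ((Equiv.swap i j * Equiv.swap k l : Equiv.Perm α) p) ((Equiv.swap i j * Equiv.swap k l : Equiv.Perm α) q) +
    M ((Equiv.swap i k * Equiv.swap j l : Equiv.Perm α) p) ((Equiv.swap i k * Equiv.swap j l : Equiv.Perm α) q) +
    M ((Equiv.swap i l * Equiv.swap j k : Equiv.Perm α) p) ((Equiv.swap i l * Equiv.swap j k : Equiv.Perm α) q)

/-- The three-cycle. -/
def rot (j k l : α) : Equiv.Perm α := Equiv.swap j k * Equiv.swap k l

def dif (M : α → α → ℝ) (i j k l p q : α) : ℝ :=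
  kav M i j k l p q - kav M i j k l (rot j k l p) (rot j k l q)

lemma dif_pair (M N : α → α → ℝ) (i j k l : α) (hd : [i, j, k, l].Nodup) :
    ∑ p, ∑ q, dif M i j k l p q * N q p =
      (mt M i j k l - mt M i k l j) * mt N i j k l + (mt M i k l j - mt M i l j k) * mt N i k l j
        + (mt M i l j k - mt M i j k l) * mt N i l j k := by
  simp only [List.nodup_cons, List.mem_cons, List.not_mem_nil, or_false, not_or,
    List.nodup_nil, and_true, not_false_eq_true] at hd
  obtain ⟨⟨hij, hik, hil⟩, ⟨hjk, hjl⟩, hkl⟩ := hd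
  have hji := Ne.symm hij; have hki := Ne.symm hik; have hli := Ne.symm hil
  have hkj := Ne.symm hjk; have hlj := Ne.symm hjl; have hlk := Ne.symm hkl
  have hs : ∀ p q, p ∉ ({i, j, k, l} : Finset α) → dif M i j k l p q = 0 ∧ dif M i j k l q p = 0 := by
    intro p q hp
    simp only [Finset.mem_insert, Finset.mem_singleton, not_or] at hp
    obtain ⟨hpi, hpj, hpk, hpl⟩ := hp
    rcases em (q = i) with rfl | hqi
    · constructor <;> simp [dif, kav, rot, Equiv.Perm.mul_apply, Equiv.swap_apply_def, *] <;> ring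
    rcases em (q = j) with rfl | hqj
    · constructor <;> simp [dif, kav, rot, Equiv.Perm.mul_apply, Equiv.swap_apply_def, *] <;> ring
    rcases em (q = k) with rfl | hqk
    · constructor <;> simp [dif, kav, rot, Equiv.Perm.mul_apply, Equiv.swap_apply_def, *] <;> ring
    rcases em (q = l) with rfl | hql
    · constructor <;> simp [dif, kav, rot, Equiv.Perm.mul_apply, Equiv.swap_apply_def, *] <;> ring
    constructor <;> simp [dif, kav, rot, Equiv.Perm.mul_apply, Equiv.swap_apply_def, *]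
  rw [← Finset.sum_subset (Finset.subset_univ ({i, j, k, l} : Finset α))
    (fun p _ hp => Finset.sum_eq_zero fun q _ => by rw [(hs p q hp).1]; ring)]
  have hinner : ∀ p, ∑ q, dif M i j k l p q * N q p =
      ∑ q ∈ ({i, j, k, l} : Finset α), dif M i j k l p q * N q p := fun p =>
    (Finset.sum_subset (Finset.subset_univ _) (fun q _ hq => by rw [(hs q p hq).2]; ring)).symm
  simp only [hinner]
  simp [Finset.sum_insert, dif, kav, rot, mt, Equiv.Perm.mul_apply, Equiv.swap_apply_def, *]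
  ring

lemma circulant {d₁ d₂ d₃ b₁ b₂ b₃ : ℝ} (hd : d₁ + d₂ + d₃ = 0)
    (e1 : d₁ * b₁ + d₂ * b₂ + d₃ * b₃ = 0) (e2 : d₁ * b₂ + d₂ * b₃ + d₃ * b₁ = 0)
    (hb : b₁ ≠ b₂) : d₁ = 0 := by
  obtain rfl : d₃ = -d₁ - d₂ := by linarith
  by_contra hne
  have h : d₁ * ((b₁ - b₃) ^ 2 - (b₁ - b₃) * (b₂ - b₃) + (b₂ - b₃) ^ 2) = 0 := by
    linear_combination (b₁ - b₃) * e1 + (b₂ - b₃) * e2
  rcases mul_eq_zero.1 h with h | h
  · exact hne h
  · apply hb
    nlinarith [sq_nonneg (b₁ - b₂), sq_nonneg (b₁ - b₃), sq_nonneg (b₂ - b₃)]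

lemma exists_quad (x : Equiv.Perm α) (hx : x ≠ 1) (hn : 5 ≤ Fintype.card α) :
    ∃ i j k l : α, [i, j, k, l].Nodup ∧ mt (pm x) i j k l ≠ mt (pm x) i k l j := by
  obtain ⟨i, hi⟩ : ∃ i, x i ≠ i := by
    by_contra h
    push_neg at h
    exact hx (Equiv.ext h)
  obtain ⟨k, hk⟩ : ∃ k, k ∉ ({i, x i, x⁻¹ i} : Finset α) := by
    by_contra h
    push_neg at h
    have h1 := Finset.card_le_card (fun a (_ : a ∈ Finset.univ) => h a)
    have h2 := Finset.card_le_three (a := i) (b := x i) (c := x⁻¹ i)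
    rw [Finset.card_univ] at h1
    omega
  obtain ⟨l, hl⟩ : ∃ l, l ∉ ({i, x i, k, x (x i)} : Finset α) := by
    by_contra h
    push_neg at h
    have h1 := Finset.card_le_card (fun a (_ : a ∈ Finset.univ) => h a)
    have h2 := Finset.card_le_four (a := i) (b := x i) (c := k) (d := x (x i))
    rw [Finset.card_univ] at h1
    omega
  simp only [Finset.mem_insert, Finset.mem_singleton, not_or] at hk hl
  obtain ⟨hki, hkj, hkx⟩ := hk
  obtain ⟨hli, hlj, hlk, hlx⟩ := hl
  refine ⟨i, x i, k, l, by simp [Ne.symm hi, Ne.symm hki, Ne.symm hli, Ne.symm hkj, Ne.symm hlj, Ne.symm hlk], ?_⟩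
  have a1 : pm x (x i) i = 1 := by simp [pm]
  have a2 : pm x i k = 0 := by
    simp only [pm, ite_eq_right_iff]
    intro h; exact absurd (by rw [← h]; simp) hkx
  have a3 : pm x k i = 0 := by simp [pm, Ne.symm hkj]
  have a4 : pm x l (x i) = 0 := by simp [pm, Ne.symm hlx]
  have a5 : pm x (x i) l = 0 := by simp [pm, x.injective.eq_iff, hli]
  have := pm_nonneg x i (x i); have := pm_nonneg x k l; have := pm_nonneg x l k
  unfold mt
  intro h
  linarith

lemma exists_perm_map (i j k l a b c d : α) (h₁ : [i, j, k, l].Nodup) (h₂ : [a, b, c, d].Nodup) :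
    ∃ h : Equiv.Perm α, h i = a ∧ h j = b ∧ h k = c ∧ h l = d := by
  have f₁ : Function.Injective [i, j, k, l].get := List.nodup_iff_injective_get.1 h₁
  have f₂ : Function.Injective [a, b, c, d].get := List.nodup_iff_injective_get.1 h₂
  let e := (Equiv.ofInjective _ f₁).symm.trans (Equiv.ofInjective _ f₂)
  have key : ∀ t, e.extendSubtype ([i, j, k, l].get t) = [a, b, c, d].get t := by
    intro t
    rw [Equiv.extendSubtype_apply_of_mem e _ ⟨t, rfl⟩]
    exact congrArg [a, b, c, d].get (Equiv.ofInjective_symm_apply f₁ t)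
  exact ⟨e.extendSubtype, key ⟨0, by simp⟩, key ⟨1, by simp⟩, key ⟨2, by simp⟩, key ⟨3, by simp⟩⟩

lemma sign_swap2 {i j k l : α} (h1 : i ≠ j) (h2 : k ≠ l) :
    Equiv.Perm.sign (Equiv.swap i j * Equiv.swap k l) = 1 := by
  simp [Equiv.Perm.sign_swap, h1, h2]

end

/-- Let n ≥ 5 and let a, b be non-identity permutations in the symmetric group S_n. Then the number of fixed points is not constant on the set of products a′b′ with a′ conjugate to a and b′ conjugate to b under the alternating group: there are even permutations g₁, h₁, g₂, h₂ such that (g₁ a g₁⁻¹)(h₁ b h₁⁻¹) and (g₂ a g₂⁻¹)(h₂ b h₂⁻¹) have different numbers of fixed points. -/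
theorem result (n : ℕ) (hn : 5 ≤ n) (a b : Equiv.Perm (Fin n)) (ha : a ≠ 1) (hb : b ≠ 1) :
    ∃ g₁ h₁ g₂ h₂ : Equiv.Perm (Fin n), g₁ ∈ alternatingGroup (Fin n) ∧ h₁ ∈ alternatingGroup (Fin n) ∧ g₂ ∈ alternatingGroup (Fin n) ∧ h₂ ∈ alternatingGroup (Fin n) ∧
      Nat.card (Function.fixedPoints ⇑(g₁ * a * g₁⁻¹ * (h₁ * b * h₁⁻¹))) ≠
        Nat.card (Function.fixedPoints ⇑(g₂ * a * g₂⁻¹ * (h₂ * b * h₂⁻¹))) := by
  classical
  by_contra hcon
  push_neg at hcon
  have hcard : 5 ≤ Fintype.card (Fin n) := by simpa using hn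
  -- constancy
  have hconst : ∀ g h : Equiv.Perm (Fin n), Equiv.Perm.sign g = 1 → Equiv.Perm.sign h = 1 →
      ∑ p, ∑ q, pm (g * a * g⁻¹) p q * pm (h * b * h⁻¹) q p =
        ∑ p, ∑ q, pm a p q * pm b q p := by
    intro g h hg hh
    have := hcon g h 1 1 (Equiv.Perm.mem_alternatingGroup.2 hg) (Equiv.Perm.mem_alternatingGroup.2 hh)
      (one_mem _) (one_mem _)
    rw [← card_fix, ← card_fix]
    simpa using congrArg (fun x : ℕ => (x : ℝ)) this
  obtain ⟨i, j, k, l, hd, hA⟩ := exists_quad a ha hcard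
  obtain ⟨i₀, j₀, k₀, l₀, hd₀, hB₀⟩ := exists_quad b hb hcard
  have hd' := hd
  simp only [List.nodup_cons, List.mem_cons, List.not_mem_nil, or_false, not_or,
    List.nodup_nil, and_true, not_false_eq_true] at hd'
  obtain ⟨⟨hij, hik, hil⟩, ⟨hjk, hjl⟩, hkl⟩ := hd'
  have s1 : Equiv.Perm.sign (Equiv.swap i j * Equiv.swap k l) = 1 := sign_swap2 hij hkl
  have s2 : Equiv.Perm.sign (Equiv.swap i k * Equiv.swap j l) = 1 := sign_swap2 hik hjl
  have s3 : Equiv.Perm.sign (Equiv.swap i l * Equiv.swap j k) = 1 := sign_swap2 hil hjk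
  have sr : Equiv.Perm.sign (rot j k l) = 1 := sign_swap2 hjk hkl
  have hE : ∀ h : Equiv.Perm (Fin n), Equiv.Perm.sign h = 1 →
      ∑ p, ∑ q, dif (pm a) i j k l p q * pm (h * b * h⁻¹) q p = 0 := by
    intro h hh
    have e : ∀ u : Equiv.Perm (Fin n), Equiv.Perm.sign u = 1 →
        ∑ p, ∑ q, pm a (u p) (u q) * pm (h * b * h⁻¹) q p =
          ∑ p, ∑ q, pm a p q * pm b q p := by
      intro u hu
      simp only [pm_comp a u]
      exact hconst _ _ (by rw [map_inv, hu]; simp) hh
    have e0 := e 1 (by simp)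
    have e1 := e _ s1
    have e2 := e _ s2
    have e3 := e _ s3
    have r0 := e _ sr
    have r1 := e (Equiv.swap i j * Equiv.swap k l * rot j k l) (by rw [map_mul, s1, sr, one_mul])
    have r2 := e (Equiv.swap i k * Equiv.swap j l * rot j k l) (by rw [map_mul, s2, sr, one_mul])
    have r3 := e (Equiv.swap i l * Equiv.swap j k * rot j k l) (by rw [map_mul, s3, sr, one_mul])
    simp only [Equiv.Perm.mul_apply, Equiv.Perm.one_apply] at e0 e1 e2 e3 r0 r1 r2 r3
    simp only [dif, kav, add_mul, sub_mul, Finset.sum_add_distrib, Finset.sum_sub_distrib,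
      Equiv.Perm.mul_apply]
    rw [e0, e1, e2, e3, r0, r1, r2, r3]
    ring
  have hF : ∀ h : Equiv.Perm (Fin n), Equiv.Perm.sign h = 1 →
      (mt (pm a) i j k l - mt (pm a) i k l j) * mt (pm b) (h i) (h j) (h k) (h l) +
      (mt (pm a) i k l j - mt (pm a) i l j k) * mt (pm b) (h i) (h k) (h l) (h j) +
      (mt (pm a) i l j k - mt (pm a) i j k l) * mt (pm b) (h i) (h l) (h j) (h k) = 0 := by
    intro h hh
    have e := hE h⁻¹ (by rw [map_inv, hh]; simp)
    rw [dif_pair _ _ i j k l hd] at e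
    simp only [mt] at e ⊢
    rw [← inv_inv h] 
    simp only [← pm_conj]
    simpa only [inv_inv] using e
  obtain ⟨h, hh, hB⟩ : ∃ h : Equiv.Perm (Fin n), Equiv.Perm.sign h = 1 ∧
      mt (pm b) (h i) (h j) (h k) (h l) ≠ mt (pm b) (h i) (h k) (h l) (h j) := by
    obtain ⟨h, h1, h2, h3, h4⟩ := exists_perm_map i j k l i₀ j₀ k₀ l₀ hd hd₀
    rcases Int.units_eq_one_or (Equiv.Perm.sign h) with hs | hs
    · exact ⟨h, hs, by rw [h1, h2, h3, h4]; exact hB₀⟩
    · refine ⟨h * Equiv.swap j k, by rw [map_mul, hs, Equiv.Perm.sign_swap hjk]; decide, ?_⟩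
      simp only [Equiv.Perm.mul_apply, Equiv.swap_apply_left, Equiv.swap_apply_right,
        Equiv.swap_apply_of_ne_of_ne hij hik,
        Equiv.swap_apply_of_ne_of_ne (Ne.symm hjl) (Ne.symm hkl), h1, h2, h3, h4]
      intro hc
      apply hB₀
      unfold mt at hc ⊢
      linarith
  have e1 := hF h hh
  have e2 := hF (h * rot j k l) (by rw [map_mul, hh, sr, one_mul])
  have ri : rot j k l i = i := by
    simp [rot, Equiv.Perm.mul_apply, Equiv.swap_apply_def, hij, hik, hil]
  have rj : rot j k l j = k := by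
    simp [rot, Equiv.Perm.mul_apply, Equiv.swap_apply_def, hjk, hjl]
  have rk : rot j k l k = l := by
    simp [rot, Equiv.Perm.mul_apply, Equiv.swap_apply_def, Ne.symm hjl, Ne.symm hkl]
  have rl : rot j k l l = j := by
    simp [rot, Equiv.Perm.mul_apply, Equiv.swap_apply_def, Ne.symm hjk]
  simp only [Equiv.Perm.mul_apply, ri, rj, rk, rl] at e2
  exact hA (sub_eq_zero.1 (circulant (by ring) e1 e2 hB))

end Cfsg.Agent.S2271
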