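import Cfsg.Statements.S2272
import Cfsg.Agent.Known.ClassProductPSL
import Mathlib

set_option autoImplicit false
open Cfsg

namespace Cfsg.Agent.S2272

/-- Let F be a finite field and d ≥ 3, and let a, b be non-identity elements of PSL_d(F). Then the product of the conjugacy classes of a and b is not a single conjugacy class: there are conjugates a′ of a and b′ of b such that a′b′ is not conjugate to ab. -/
theorem result {F : Type*} [Field F] [Fintype F] (d : ℕ) (hd : 3 ≤ d)
    (a b : Matrix.ProjectiveSpecialLinearGroup (Fin d) F) (ha : a ≠ 1) (hb : b ≠ 1) :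
    ∃ g h : Matrix.ProjectiveSpecialLinearGroup (Fin d) F, ¬ IsConj (a * b) (g * a * g⁻¹ * (h * b * h⁻¹)) := by
  classical
  obtain ⟨A, rfl⟩ := QuotientGroup.mk_surjective a
  obtain ⟨B, rfl⟩ := QuotientGroup.mk_surjective b
  have hns : ∀ X : Matrix.SpecialLinearGroup (Fin d) F,
      (QuotientGroup.mk X : Matrix.ProjectiveSpecialLinearGroup (Fin d) F) ≠ 1 →
      ∀ c : F, (X : Matrix (Fin d) (Fin d) F) ≠ c • 1 := fun X hX c hc => hX ((QuotientGroup.eq_one_iff X).2
    (Matrix.SpecialLinearGroup.mem_center_iff.2 ⟨c, by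
      have h := X.2
      rw [hc, Matrix.det_smul, Matrix.det_one, mul_one] at h
      exact h, by rw [hc, Matrix.scalar_apply, Matrix.smul_one_eq_diagonal]⟩))
  by_contra hall
  push Not at hall
  refine Cfsg.Lib.ClassProductPSL.not_const (by simpa using hd) (hns A ha) (hns B hb) fun k => ?_
  obtain ⟨c, hc⟩ := isConj_iff.1 (hall 1 (QuotientGroup.mk k))
  obtain ⟨m, rfl⟩ := QuotientGroup.mk_surjective c
  rw [one_mul, inv_one, mul_one, ← QuotientGroup.mk_mul, ← QuotientGroup.mk_mul, ← QuotientGroup.mk_inv,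
    ← QuotientGroup.mk_mul, ← QuotientGroup.mk_inv, ← QuotientGroup.mk_mul, ← QuotientGroup.mk_mul,
    ← QuotientGroup.mk_mul, QuotientGroup.eq] at hc
  obtain ⟨r, hr, hz⟩ := Matrix.SpecialLinearGroup.mem_center_iff.1 hc
  have hr0 : r ≠ 0 := fun h => by
    rw [h, zero_pow (by simp; omega)] at hr
    exact zero_ne_one hr
  have e : A * (k * B * k⁻¹) = m * (A * B) * m⁻¹ * ((m * (A * B) * m⁻¹)⁻¹ * (A * (k * B * k⁻¹))) := by group
  have e' := congrArg (fun X : Matrix.SpecialLinearGroup (Fin d) F => (X : Matrix (Fin d) (Fin d) F).trace) e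
  simp only [Cfsg.Lib.ClassProductPSL.cmul] at e'
  simp only [Cfsg.Lib.ClassProductPSL.cmul] at hz
  have hm : ((m⁻¹ : Matrix.SpecialLinearGroup (Fin d) F) : Matrix (Fin d) (Fin d) F) * (m : Matrix (Fin d) (Fin d) F) = 1 := by
    rw [← Cfsg.Lib.ClassProductPSL.cmul, inv_mul_cancel, Cfsg.Lib.ClassProductPSL.cone]
  rw [← hz, Matrix.scalar_apply, ← Matrix.smul_one_eq_diagonal, Matrix.mul_smul, Matrix.mul_one, Matrix.trace_smul,
    Matrix.trace_mul_cycle, hm, one_mul, smul_eq_mul] at e'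
  rw [e', mul_eq_zero, or_iff_right hr0]

end Cfsg.Agent.S2272
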