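import Cfsg.Statements.S2277
import Cfsg.Agent.Coprime.Sylow
import Cfsg.Agent.SolvStruct.PGroupBasics

/-!
A Sylow subgroup generated by two sets whose conjugates pairwise generate p-groups centralises the
normal p-complement. The reduction is to an abelian group `V`, where the factorisation
`V = C_V(d) C_V(c)` forces the acting group to be trivial.
-/

set_option autoImplicit false
set_option linter.style.haveILetI false
set_option linter.unusedSectionVars false
open Cfsg

namespace Cfsg.Agent.S2277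

open Subgroup Finset

universe u

theorem mem_zpowers_nat {H : Type*} [Group H] [Finite H] {x y : H} (h : x ∈ zpowers y) :
    ∃ n : ℕ, y ^ n = x :=
  Submonoid.mem_powers_iff _ _ |>.1 (mem_powers_iff_mem_zpowers.2 h)

section Abelian

variable {V : Type u} [CommGroup V]

/-- the product of the translates of `v` under the first `p` powers of `g` -/
noncomputable def avg (p : ℕ) (g : MulAut V) : V →* V where
  toFun v := ∏ j ∈ Finset.range p, (g ^ j) v
  map_one' := by simp
  map_mul' a b := by simp [Finset.prod_mul_distrib]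

theorem avg_apply (p : ℕ) (g : MulAut V) (v : V) :
    avg p g v = ∏ j ∈ Finset.range p, (g ^ j) v := rfl

theorem pow_fix {g : MulAut V} {v : V} (h : g v = v) (j : ℕ) : (g ^ j) v = v := by
  induction j with
  | zero => simp
  | succ j ih => rw [pow_succ, MulAut.mul_apply, h, ih]

theorem avg_fix (p : ℕ) {g : MulAut V} {v : V} (h : g v = v) : avg p g v = v ^ p := by
  rw [avg_apply, Finset.prod_congr rfl (fun j _ => pow_fix h j)]
  simp

theorem avg_conj (p : ℕ) (q g : MulAut V) (v : V) :
    q (avg p g v) = avg p (q * g * q⁻¹) (q v) := by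
  rw [avg_apply, avg_apply, map_prod]
  refine Finset.prod_congr rfl fun j _ => ?_
  rw [conj_pow, MulAut.mul_apply, MulAut.mul_apply, MulAut.inv_apply_self]

theorem apply_avg (p : ℕ) {g : MulAut V} (hg : g ^ p = 1) (v : V) :
    g (avg p g v) = avg p g v := by
  rw [avg_apply, map_prod]
  have h1 := Finset.prod_range_succ (fun j => (g ^ j) v) p
  have h2 := Finset.prod_range_succ' (fun j => (g ^ j) v) p
  rw [h1, hg] at h2
  simp only [pow_zero, MulAut.one_apply] at h2
  have h3 := mul_right_cancel h2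
  rw [h3]
  refine Finset.prod_congr rfl fun j _ => ?_
  rw [pow_succ', MulAut.mul_apply]

/-- the fixed subgroup -/
def fx (g : MulAut V) : Subgroup V where
  carrier := {v | g v = v}
  one_mem' := map_one g
  mul_mem' {a b} ha hb := by
    show g (a * b) = a * b
    rw [map_mul, ha, hb]
  inv_mem' {a} ha := by
    show g a⁻¹ = a⁻¹
    rw [map_inv, ha]

theorem mem_fx {g : MulAut V} {v : V} : v ∈ fx g ↔ g v = v := Iff.rfl

variable [Finite V] {p : ℕ} [hp : Fact p.Prime]

theorem pow_p_inj (hc : (Nat.card V).Coprime p) {v : V} (h : v ^ p = 1) : v = 1 :=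
  (powCoprime hc).injective (by simpa using h)

theorem exists_pow_of_not_dvd {H : Type*} [Group H] {z : H} (hz : z ^ p = 1) {j : ℕ}
    (hj : ¬ p ∣ j) : ∃ m, (z ^ j) ^ m = z := by
  obtain ⟨m, hm⟩ := Nat.exists_mul_mod_eq_one_of_coprime
    ((hp.out.coprime_iff_not_dvd.2 hj).symm) hp.out.one_lt
  refine ⟨m, ?_⟩
  rw [← pow_mul, ← Nat.mod_add_div (j * m) p, hm.2, pow_add, pow_mul, hz, one_pow, pow_one, mul_one]

theorem avg_pow_eq_one {z : MulAut V} (hz : z ^ p = 1) (hfpf : ∀ v, z v = v → v = 1) {j : ℕ}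
    (hj : ¬ p ∣ j) (w : V) : avg p (z ^ j) w = 1 := by
  obtain ⟨m, hm⟩ := exists_pow_of_not_dvd hz hj
  apply hfpf
  have h := pow_fix (apply_avg p (g := z ^ j) (by rw [← pow_mul, mul_comm, pow_mul, hz, one_pow]) w) m
  rwa [hm] at h

theorem avg_orth {a z : MulAut V} (haz : Commute a z) (hz : z ^ p = 1)
    (hfpf : ∀ v, z v = v → v = 1) {j : ℕ} (hj : ¬ p ∣ j) {w : V} (hw : a w = w) :
    avg p (a * z ^ j) w = 1 := by
  rw [← avg_pow_eq_one hz hfpf hj w, avg_apply, avg_apply]
  refine Finset.prod_congr rfl fun k _ => ?_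
  rw [(haz.pow_right j).mul_pow, ((haz.pow_right j).pow_pow k k).eq, MulAut.mul_apply,
    pow_fix hw k]

theorem prod_avg {e z : MulAut V} (hez : Commute e z) (hz : z ^ p = 1)
    (hfpf : ∀ v, z v = v → v = 1) (v : V) :
    ∏ i ∈ Finset.range p, avg p (e * z ^ i) v = v ^ p := by
  simp only [avg_apply]
  rw [Finset.prod_comm]
  have h : ∀ j ∈ Finset.range p, ∏ i ∈ Finset.range p, ((e * z ^ i) ^ j) v
      = avg p (z ^ j) ((e ^ j) v) := by
    intro j _
    rw [avg_apply]
    refine Finset.prod_congr rfl fun i _ => ?_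
    rw [(hez.pow_right i).mul_pow, ((hez.pow_right i).pow_pow j j).eq, MulAut.mul_apply,
      ← pow_mul, ← pow_mul, mul_comm j i]
  rw [Finset.prod_congr rfl h, Finset.prod_eq_single 0]
  · rw [pow_zero, pow_zero, MulAut.one_apply, avg_fix p (show (1 : MulAut V) v = v from rfl)]
  · intro j hj hj0
    exact avg_pow_eq_one hz hfpf (fun hd => hj0 (Nat.eq_zero_of_dvd_of_lt hd (Finset.mem_range.1 hj))) _
  · intro h0
    exact absurd (Finset.mem_range.2 hp.out.pos) h0

theorem card_fx_le {e z c : MulAut V} (hcV : (Nat.card V).Coprime p) (hep : e ^ p = 1) (hez : Commute e z)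
    (hz : z ^ p = 1) (hfpf : ∀ v, z v = v → v = 1) (hcz : Commute c z) {t : ℕ} (ht : ¬ p ∣ t)
    (hce : c * e * c⁻¹ = e * z ^ t) :
    Nat.card (fx c) ≤ Nat.card (fx e) ∧
      ∀ i : ℕ, ∃ k : ℕ, c ^ k * e * (c ^ k)⁻¹ = e * z ^ i := by
  have hk : ∀ k : ℕ, c ^ k * e * (c ^ k)⁻¹ = e * z ^ (t * k) := by
    intro k
    induction k with
    | zero => simp
    | succ k ih =>
      have h1 : c ^ (k + 1) * e * (c ^ (k + 1))⁻¹ = c * (c ^ k * e * (c ^ k)⁻¹) * c⁻¹ := by
        rw [pow_succ']; group
      have h2 : c * (e * z ^ (t * k)) * c⁻¹ = c * e * c⁻¹ * (c * z ^ (t * k) * c⁻¹) := by group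
      rw [h1, ih, h2, hce, (hcz.pow_right (t * k)).eq, mul_inv_cancel_right, mul_assoc, ← pow_add]
      congr 2
      ring
  obtain ⟨m, hm⟩ := exists_pow_of_not_dvd hz ht
  have hall : ∀ i : ℕ, ∃ k : ℕ, c ^ k * e * (c ^ k)⁻¹ = e * z ^ i := fun i =>
    ⟨m * i, by rw [hk, pow_mul, pow_mul, hm]⟩
  refine ⟨?_, hall⟩
  refine Nat.card_le_card_of_injective (fun v : fx c => (⟨avg p e (v : V), apply_avg p hep (v : V)⟩ : fx e))
    fun v w hvw => ?_
  have h1 : avg p e ((v : V) / (w : V)) = 1 := by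
    rw [map_div, div_eq_one]
    exact congrArg Subtype.val hvw
  have hfix : c ((v : V) / (w : V)) = (v : V) / (w : V) := by
    rw [map_div, v.2, w.2]
  apply Subtype.ext
  rw [← div_eq_one]
  apply pow_p_inj hcV
  rw [← prod_avg hez hz hfpf]
  refine Finset.prod_eq_one fun i _ => ?_
  obtain ⟨k, hk'⟩ := hall i
  have h2 := avg_conj p (c ^ k) e ((v : V) / (w : V))
  rw [hk', pow_fix hfix k, h1, map_one] at h2
  exact h2.symm

theorem cube_le {e z c : MulAut V} (hcV : (Nat.card V).Coprime p) (hp3 : 3 ≤ p) (hep : e ^ p = 1)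
    (hez : Commute e z) (hz : z ^ p = 1) (hfpf : ∀ v, z v = v → v = 1)
    (hall : ∀ i : ℕ, ∃ k : ℕ, c ^ k * e * (c ^ k)⁻¹ = e * z ^ i) :
    Nat.card (fx e) ^ 3 ≤ Nat.card V := by
  have hcard : ∀ i : ℕ, Nat.card (fx e) ≤ Nat.card (fx (e * z ^ i)) := by
    intro i
    obtain ⟨k, hk⟩ := hall i
    refine Nat.card_le_card_of_injective (fun v : fx e => (⟨(c ^ k) (v : V), ?_⟩ : fx (e * z ^ i)))
      fun v w hvw => Subtype.ext ((c ^ k).injective (congrArg Subtype.val hvw))
    rw [mem_fx, ← hk, MulAut.mul_apply, MulAut.mul_apply, MulAut.inv_apply_self, v.2]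
  let F : fx (e * z ^ 0) × fx (e * z ^ 1) × fx (e * z ^ 2) → V :=
    fun x => (x.1 : V) * x.2.1 * x.2.2
  have horth : ∀ i l j : ℕ, ¬ p ∣ j → (l + j = i ∨ l + j = i + p) → ∀ w : V,
      w ∈ fx (e * z ^ l) → avg p (e * z ^ i) w = 1 := by
    intro i l j hj hij w hw
    have h1 : e * z ^ i = e * z ^ l * z ^ j := by
      rcases hij with h | h
      · rw [mul_assoc, ← pow_add, h]
      · rw [mul_assoc, ← pow_add, h, pow_add, hz, mul_one]
    rw [h1]
    exact avg_orth ((hez.mul_left (Commute.pow_self z l))) hz hfpf hj hw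
  have hnd : ∀ j : ℕ, 0 < j → j < p → ¬ p ∣ j := fun j h0 h1 hd =>
    absurd (Nat.le_of_dvd h0 hd) (not_le.2 h1)
  have hF : Function.Injective F := by
    intro x y hxy
    have heq : ((x.1 : V) / y.1) * ((x.2.1 : V) / y.2.1) * ((x.2.2 : V) / y.2.2) = 1 := by
      rw [div_mul_div_comm, div_mul_div_comm, div_eq_one]
      exact hxy
    have m0 : (x.1 : V) / y.1 ∈ fx (e * z ^ 0) := Subgroup.div_mem _ x.1.2 y.1.2
    have m1 : (x.2.1 : V) / y.2.1 ∈ fx (e * z ^ 1) := Subgroup.div_mem _ x.2.1.2 y.2.1.2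
    have m2 : (x.2.2 : V) / y.2.2 ∈ fx (e * z ^ 2) := Subgroup.div_mem _ x.2.2.2 y.2.2.2
    have e0 := congrArg (avg p (e * z ^ 0)) heq
    have e1 := congrArg (avg p (e * z ^ 1)) heq
    have e2 := congrArg (avg p (e * z ^ 2)) heq
    rw [map_mul, map_mul, map_one, avg_fix p m0,
      horth 0 1 (p - 1) (hnd _ (by omega) (by omega)) (Or.inr (by omega)) _ m1,
      horth 0 2 (p - 2) (hnd _ (by omega) (by omega)) (Or.inr (by omega)) _ m2, mul_one, mul_one] at e0
    rw [map_mul, map_mul, map_one, avg_fix p m1,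
      horth 1 0 1 (hnd _ (by omega) (by omega)) (Or.inl (by omega)) _ m0,
      horth 1 2 (p - 1) (hnd _ (by omega) (by omega)) (Or.inr (by omega)) _ m2, mul_one, one_mul] at e1
    rw [map_mul, map_mul, map_one, avg_fix p m2,
      horth 2 0 2 (hnd _ (by omega) (by omega)) (Or.inl (by omega)) _ m0,
      horth 2 1 1 (hnd _ (by omega) (by omega)) (Or.inl (by omega)) _ m1, one_mul, one_mul] at e2
    exact Prod.ext (Subtype.ext (div_eq_one.1 (pow_p_inj hcV e0)))
      (Prod.ext (Subtype.ext (div_eq_one.1 (pow_p_inj hcV e1)))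
        (Subtype.ext (div_eq_one.1 (pow_p_inj hcV e2))))
  have h := Nat.card_le_card_of_injective F hF
  rw [Nat.card_prod, Nat.card_prod] at h
  refine le_trans ?_ h
  rw [pow_succ, pow_two, mul_assoc]
  exact Nat.mul_le_mul (hcard 0) (Nat.mul_le_mul (hcard 1) (hcard 2))

end Abelian

section AbelianMain

variable {p : ℕ} [hp : Fact p.Prime]

/-- restriction of `q` to an invariant subgroup -/
noncomputable def res {V : Type u} [CommGroup V] {Q : Subgroup (MulAut V)} (W : Subgroup V)
    (hW : ∀ q ∈ Q, ∀ v ∈ W, q v ∈ W) : Q →* MulAut W where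
  toFun q :=
    { toFun := fun w => ⟨(q : MulAut V) w, hW _ q.2 _ w.2⟩
      invFun := fun w => ⟨((q : MulAut V)⁻¹) w, hW _ (inv_mem q.2) _ w.2⟩
      left_inv := fun w => Subtype.ext (MulAut.inv_apply_self _ _ _)
      right_inv := fun w => Subtype.ext (MulAut.apply_inv_self _ _ _)
      map_mul' := fun a b => Subtype.ext (map_mul (q : MulAut V) (a : V) (b : V)) }
  map_one' := by ext w; rfl
  map_mul' a b := by ext w; rfl

theorem abelian_main (hp3 : 3 ≤ p) : ∀ n : ℕ, ∀ (V : Type u) [CommGroup V] [Finite V],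
    Nat.card V = n → (Nat.card V).Coprime p → ∀ (Q : Subgroup (MulAut V)), IsPGroup p Q →
    ∀ C D : Set (MulAut V), Subgroup.closure C = Q → Subgroup.closure D = Q →
    (∀ c ∈ C, ∀ d ∈ D, ∀ v : V, ∃ a b : V, c a = a ∧ d b = b ∧ v = b * a) → Q = ⊥ := by
  intro n
  induction n using Nat.strong_induction_on with
  | _ n ih =>
  intro V _ _ hn hcV Q hQ C D hC hD hfact
  by_contra hne
  have hCQ : C ⊆ Q := hC ▸ Subgroup.subset_closure
  have hDQ : D ⊆ Q := hD ▸ Subgroup.subset_closure
  haveI : Nontrivial Q := (Subgroup.nontrivial_iff_ne_bot Q).2 hne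
  -- central elements of order p act without fixed points
  have hfpf : ∀ z : Q, z ∈ center Q → orderOf z = p → ∀ v : V, (z : MulAut V) v = v → v = 1 := by
    intro z hzc hzo
    set g : MulAut V := (z : MulAut V) with hg
    have hgp : g ^ p = 1 := by
      rw [hg, ← Subgroup.coe_pow, ← hzo, pow_orderOf_eq_one]
      rfl
    have hcomm : ∀ q ∈ Q, q * g = g * q := fun q hq =>
      congrArg Subtype.val (Subgroup.mem_center_iff.1 hzc ⟨q, hq⟩)
    have hgQ : ∀ q ∈ Q, ∀ v, q (avg p g v) = avg p g (q v) := fun q hq v => by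
      rw [avg_conj, hcomm q hq, mul_inv_cancel_right]
    set W := fx g with hW
    set K := (avg p g).ker with hK
    have hWi : ∀ q ∈ Q, ∀ v ∈ W, q v ∈ W := fun q hq v hv => by
      have h := DFunLike.congr_fun (hcomm q hq) v
      rw [MulAut.mul_apply, MulAut.mul_apply, hv] at h
      exact h.symm
    have hKi : ∀ q ∈ Q, ∀ v ∈ K, q v ∈ K := fun q hq v hv => by
      rw [hK, MonoidHom.mem_ker] at hv ⊢
      rw [← hgQ q hq, hv, map_one]
    -- triviality on a proper invariant subgroup with a factorisation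
    have hsmall : ∀ U : Subgroup V, ∀ hUi : ∀ q ∈ Q, ∀ v ∈ U, q v ∈ U, U ≠ ⊤ →
        (∀ c ∈ C, ∀ d ∈ D, ∀ v ∈ U, ∃ a b : V, a ∈ U ∧ b ∈ U ∧ c a = a ∧ d b = b ∧ v = b * a) →
        ∀ q ∈ Q, ∀ v ∈ U, q v = v := by
      intro U hUi hU hUf q hq v hv
      have hlt : Nat.card U < n := hn ▸ lt_of_le_of_ne (Subgroup.card_le_card_group U)
        fun h => hU (Subgroup.card_eq_iff_eq_top U |>.1 h)
      set r := res U hUi with hr
      have hcl : ∀ S : Set (MulAut V), Subgroup.closure S = Q →
          Subgroup.closure (r '' (Subtype.val ⁻¹' S)) = r.range := by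
        rintro S rfl
        rw [← MonoidHom.map_closure, Subgroup.closure_closure_coe_preimage, ← MonoidHom.range_eq_map]
      have h := ih _ hlt U rfl (hcV.coprime_dvd_left (Subgroup.card_subgroup_dvd_card U)) r.range
        (hQ.of_surjective r.rangeRestrict r.rangeRestrict_surjective) _ _ (hcl C hC) (hcl D hD) (by
          rintro _ ⟨c, hc, rfl⟩ _ ⟨d, hd, rfl⟩ v
          obtain ⟨a, b, ha, hb, hca, hdb, e⟩ := hUf c.1 hc d.1 hd v.1 v.2
          exact ⟨⟨a, ha⟩, ⟨b, hb⟩, Subtype.ext hca, Subtype.ext hdb, Subtype.ext e⟩)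
      have hq1 : r ⟨q, hq⟩ = 1 := by
        have : r ⟨q, hq⟩ ∈ r.range := ⟨_, rfl⟩
        rwa [h, Subgroup.mem_bot] at this
      exact congrArg Subtype.val (DFunLike.congr_fun hq1 (⟨v, hv⟩ : U))
    intro v hv
    by_contra hv1
    have hWtop : W ≠ ⊤ := by
      intro h
      have : g = 1 := MulEquiv.ext fun w => (show w ∈ W from h ▸ Subgroup.mem_top w)
      have : z = 1 := Subtype.ext this
      rw [this, orderOf_one] at hzo
      exact hp.out.ne_one hzo.symm
    have hKtop : K ≠ ⊤ := by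
      intro h
      have h1 : avg p g v = 1 := MonoidHom.mem_ker.1 (show v ∈ K by rw [h]; exact Subgroup.mem_top v)
      rw [avg_fix p hv] at h1
      exact hv1 (pow_p_inj hcV h1)
    have hTW := hsmall W hWi hWtop (fun c hc d hd x hx => by
      obtain ⟨u, rfl⟩ := (powCoprime hcV).surjective x
      have hu : g u = u := by
        apply (powCoprime hcV).injective
        show g u ^ p = u ^ p
        rw [← map_pow]
        exact hx
      obtain ⟨a, b, ha, hb, e⟩ := hfact c hc d hd u
      refine ⟨avg p g a, avg p g b, apply_avg p hgp a, apply_avg p hgp b,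
        by rw [hgQ c (hCQ hc), ha], by rw [hgQ d (hDQ hd), hb], ?_⟩
      show u ^ p = _
      rw [← map_mul, ← e, avg_fix p hu])
    have hTK := hsmall K hKi hKtop (fun c hc d hd x hx => by
      obtain ⟨u, rfl⟩ := (powCoprime hcV).surjective x
      have hu : avg p g u = 1 := by
        apply pow_p_inj hcV
        rw [← map_pow]
        exact hx
      obtain ⟨a, b, ha, hb, e⟩ := hfact c hc d hd u
      have hmem : ∀ w, w ^ p / avg p g w ∈ K := fun w => by
        rw [hK, MonoidHom.mem_ker, map_div, map_pow, avg_fix p (apply_avg p hgp w), div_self']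
      refine ⟨a ^ p / avg p g a, b ^ p / avg p g b, hmem a, hmem b,
        by rw [map_div, map_pow, hgQ c (hCQ hc), ha], by rw [map_div, map_pow, hgQ d (hDQ hd), hb], ?_⟩
      show u ^ p = _
      rw [div_mul_div_comm, ← map_mul, ← mul_pow, ← e, hu, div_one])
    apply hne
    rw [eq_bot_iff]
    intro q hq
    rw [Subgroup.mem_bot]
    refine MulEquiv.ext fun x => ?_
    obtain ⟨u, rfl⟩ := (powCoprime hcV).surjective x
    show q (u ^ p) = u ^ p
    have h1 : avg p g u ∈ W := apply_avg p hgp u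
    have h2 : u ^ p / avg p g u ∈ K := by
      rw [hK, MonoidHom.mem_ker, map_div, map_pow, avg_fix p h1, div_self']
    have h := hTK q hq _ h2
    rw [map_div, hTW q hq _ h1] at h
    exact mul_right_cancel (by rwa [div_eq_mul_inv, div_eq_mul_inv] at h)
  -- the trivial group
  have hVne : ∃ v : V, v ≠ 1 := by
    by_contra h
    simp only [not_exists, not_not] at h
    exact hne (eq_bot_iff.2 fun q _ => Subgroup.mem_bot.2 (MulEquiv.ext fun x => by rw [h x, map_one, map_one]))
  obtain ⟨v₀, hv₀⟩ := hVne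
  obtain ⟨z, -, hzc, hzo⟩ := Cfsg.Lib.PGroups.exists_mem_center_of_normal_ne_bot hQ (N := (⊤ : Subgroup Q))
    top_ne_bot
  by_cases hcyc : IsCyclic Q
  · have hzfix : ∀ c ∈ C ∪ D, c ≠ 1 → ∀ a : V, c a = a → a = 1 := by
      intro c hc hc1 a ha
      have hcQ : c ∈ Q := hc.elim (fun h => hCQ h) (fun h => hDQ h)
      set c' : Q := ⟨c, hcQ⟩ with hc'
      have hd : p ∣ orderOf c' := hQ.dvd_orderOf fun h => hc1 (congrArg Subtype.val h)
      set y := c' ^ (orderOf c' / p) with hy
      have hyo : orderOf y = p := orderOf_pow_orderOf_div (orderOf_pos _).ne' hd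
      classical
      haveI := Fintype.ofFinite Q
      have hle := IsCyclic.card_pow_eq_one_le (α := Q) hp.out.pos
      have hsub : (zpowers y : Set Q).toFinset ⊆ Finset.univ.filter (fun x : Q => x ^ p = 1) := by
        intro x hx
        simp only [Set.mem_toFinset, SetLike.mem_coe] at hx
        obtain ⟨k, rfl⟩ := Subgroup.mem_zpowers_iff.1 hx
        simp only [Finset.mem_filter, Finset.mem_univ, true_and]
        rw [← zpow_natCast, ← zpow_mul, mul_comm, zpow_mul, zpow_natCast, ← hyo, pow_orderOf_eq_one,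
          one_zpow]
      have heq := Finset.eq_of_subset_of_card_le hsub (by
        refine hle.trans ?_
        rw [← Nat.card_eq_card_toFinset]
        exact le_of_eq (hyo.symm.trans (Nat.card_zpowers y).symm))
      have hzm : z ∈ zpowers y := by
        have : z ∈ (zpowers y : Set Q).toFinset := by
          rw [heq]
          simp only [Finset.mem_filter, Finset.mem_univ, true_and]
          rw [← hzo, pow_orderOf_eq_one]
        simpa using this
      obtain ⟨k, hk⟩ := Subgroup.mem_zpowers_iff.1 hzm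
      have hk' : z ∈ zpowers c' := hk ▸ zpow_mem (pow_mem (Subgroup.mem_zpowers c') _) k
      obtain ⟨j, hj⟩ := mem_zpowers_nat hk'
      apply hfpf z hzc hzo
      rw [← hj, Subgroup.coe_pow]
      exact pow_fix ha j
    have hex : ∀ S : Set (MulAut V), Subgroup.closure S = Q → ∃ c ∈ S, c ≠ 1 := by
      intro S hS
      by_contra h
      simp only [not_exists, not_and, not_not] at h
      exact hne (hS ▸ (Subgroup.closure_eq_bot_iff.2 fun x hx => h x hx))
    obtain ⟨c, hc, hc1⟩ := hex C hC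
    obtain ⟨d, hd, hd1⟩ := hex D hD
    obtain ⟨a, b, ha, hb, e⟩ := hfact c hc d hd v₀
    rw [hzfix c (Or.inl hc) hc1 a ha, hzfix d (Or.inr hd) hd1 b hb, mul_one] at e
    exact hv₀ e
  · obtain ⟨E, hEn, hEe, hEc⟩ := Cfsg.Lib.SolvStruct.exists_normal_elementary_sq (by omega) hQ hcyc
    haveI := hEn
    have hEne : E ≠ ⊥ := fun h => by
      rw [h, Subgroup.card_bot] at hEc
      exact (Nat.one_lt_pow two_ne_zero hp.out.one_lt).ne hEc
    obtain ⟨z, hzE, hzc, hzo⟩ := Cfsg.Lib.PGroups.exists_mem_center_of_normal_ne_bot hQ hEne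
    have hzcard : Nat.card (zpowers z) = p := by rw [Nat.card_zpowers, hzo]
    have hzn : (zpowers z).Normal := ⟨fun x hx q => by
      obtain ⟨k, rfl⟩ := Subgroup.mem_zpowers_iff.1 hx
      rw [Subgroup.mem_center_iff.1 (zpow_mem hzc k) q, mul_inv_cancel_right]
      exact zpow_mem (Subgroup.mem_zpowers z) k⟩
    haveI := hzn
    set π := QuotientGroup.mk' (zpowers z) with hπ
    have hEπ : Nat.card (E.map π) = p := by
      rw [← Subgroup.relIndex_ker, QuotientGroup.ker_mk']
      have h := Subgroup.relIndex_mul_relIndex (⊥ : Subgroup Q) (zpowers z) E bot_le (zpowers_le.2 hzE)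
      rw [Subgroup.relIndex_bot_left, Subgroup.relIndex_bot_left, hzcard, hEc, pow_two] at h
      exact Nat.eq_of_mul_eq_mul_left hp.out.pos h
    haveI : (E.map π).Normal := Subgroup.Normal.map inferInstance _ (QuotientGroup.mk'_surjective _)
    have hEZ := Cfsg.Lib.PGroups.le_center_of_card_eq_prime (hQ.to_quotient _) hEπ
    set g : MulAut V := (z : MulAut V) with hg
    have hgp : g ^ p = 1 := by
      rw [hg, ← Subgroup.coe_pow, ← hzo, pow_orderOf_eq_one]
      rfl
    have hzf := hfpf z hzc hzo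
    have hcz : ∀ q ∈ Q, Commute q g := fun q hq =>
      congrArg Subtype.val (Subgroup.mem_center_iff.1 hzc ⟨q, hq⟩)
    obtain ⟨e₀, he₀, he₀z⟩ : ∃ e₀ ∈ E, e₀ ∉ zpowers z := by
      by_contra h
      simp only [not_exists, not_and, not_not] at h
      have := Subgroup.card_le_of_le (H := E) (K := zpowers z) h
      rw [hEc, hzcard, pow_two] at this
      nlinarith [hp.out.two_le]
    obtain ⟨i, v, hv, hv1⟩ : ∃ i : ℕ, ∃ v : V, ((e₀ : MulAut V) * g ^ i) v = v ∧ v ≠ 1 := by
      by_contra h
      simp only [not_exists, not_and, not_not] at h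
      apply hv₀
      apply pow_p_inj hcV
      rw [← prod_avg (hcz _ e₀.2) hgp hzf]
      refine Finset.prod_eq_one fun i _ => h i _ (apply_avg p ?_ v₀)
      rw [((hcz _ e₀.2).pow_right i).mul_pow, ← pow_mul, mul_comm i p, pow_mul, hgp, one_pow, mul_one,
        ← Subgroup.coe_pow, hEe.2 e₀ he₀]
      rfl
    set e' : Q := e₀ * z ^ i with he'
    have he'E : e' ∈ E := mul_mem he₀ (pow_mem hzE i)
    set e : MulAut V := (e' : MulAut V) with he
    have hev : e v = v := by
      rw [he, he', Subgroup.coe_mul, Subgroup.coe_pow]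
      exact hv
    have hep : e ^ p = 1 := by
      rw [he, ← Subgroup.coe_pow, hEe.2 e' he'E]
      rfl
    have he'z : e' ∉ zpowers z := fun h => he₀z
      (by simpa [he'] using mul_mem h (inv_mem (pow_mem (Subgroup.mem_zpowers z) i)))
    have he'o : orderOf e' = p := orderOf_eq_prime (hEe.2 e' he'E)
      fun h => he'z (h ▸ one_mem _)
    have hez : Commute e g := hcz _ e'.2
    have hex : ∀ S : Set (MulAut V), Subgroup.closure S = Q → ∃ c ∈ S, ¬ Commute c e := by
      intro S hS
      by_contra h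
      simp only [not_exists, not_and, not_not] at h
      have hle : Q ≤ Subgroup.centralizer {e} := by
        rw [← hS, Subgroup.closure_le]
        intro x hx
        exact Subgroup.mem_centralizer_singleton_iff.2 (h x hx).eq
      have hcen : e' ∈ center Q := Subgroup.mem_center_iff.2 fun q => Subtype.ext
        (Subgroup.mem_centralizer_singleton_iff.1 (hle q.2))
      exact hv1 (hfpf e' hcen he'o v hev)
    have hbound : ∀ c ∈ Q, ¬ Commute c e →
        Nat.card (fx c) ≤ Nat.card (fx e) ∧ ∀ i : ℕ, ∃ k : ℕ, c ^ k * e * (c ^ k)⁻¹ = e * g ^ i := by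
      intro c hc hce
      set c' : Q := ⟨c, hc⟩ with hc'
      have hmem : e'⁻¹ * (c' * e' * c'⁻¹) ∈ zpowers z := by
        rw [← QuotientGroup.eq]
        have h := Subgroup.mem_center_iff.1 (hEZ (Subgroup.mem_map_of_mem π he'E)) (π c')
        show π e' = π (c' * e' * c'⁻¹)
        rw [show π (c' * e' * c'⁻¹) = π c' * π e' * (π c')⁻¹ by rw [map_mul π (c' * e'), map_mul π c', map_inv], h,
          mul_inv_cancel_right]
      obtain ⟨t, ht⟩ := mem_zpowers_nat hmem
      have hrel : c * e * c⁻¹ = e * g ^ t := by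
        have h := congrArg (fun x : Q => (x : MulAut V)) ht
        simp only [Subgroup.coe_pow, Subgroup.coe_mul, Subgroup.coe_inv] at h
        rw [hg, h, hc', he]
        group
      have hnd : ¬ p ∣ t := by
        rintro ⟨k, rfl⟩
        rw [pow_mul, hgp, one_pow, mul_one] at hrel
        exact hce (mul_inv_eq_iff_eq_mul.1 hrel)
      exact card_fx_le hcV hep hez hgp hzf (hcz c hc) hnd hrel
    obtain ⟨c, hc, hce⟩ := hex C hC
    obtain ⟨d, hd, hde⟩ := hex D hD
    obtain ⟨hbc, hall⟩ := hbound c (hCQ hc) hce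
    have hbd := (hbound d (hDQ hd) hde).1
    have h3 := cube_le hcV hp3 hep hez hgp hzf hall
    have hsq : Nat.card V ≤ Nat.card (fx c) * Nat.card (fx d) := by
      rw [← Nat.card_prod]
      refine Nat.card_le_card_of_surjective (fun x : fx c × fx d => (x.2 : V) * x.1) fun w => ?_
      obtain ⟨a, b, ha, hb, e⟩ := hfact c hc d hd w
      exact ⟨(⟨a, ha⟩, ⟨b, hb⟩), e.symm⟩
    have h1 : 1 < Nat.card (fx e) := by
      haveI : Nontrivial (fx e) := ⟨⟨v, hev⟩, 1, fun h => hv1 (congrArg Subtype.val h)⟩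
      exact Finite.one_lt_card
    have h2 : Nat.card V ≤ Nat.card (fx e) * Nat.card (fx e) := hsq.trans (Nat.mul_le_mul hbc hbd)
    nlinarith [h3, h2, h1, Nat.mul_le_mul h1 (le_refl (Nat.card (fx e) * Nat.card (fx e)))]

end AbelianMain


section Reduction

open Cfsg.Lib.Coprime

variable {G : Type u} [Group G] [Finite G] {p : ℕ} [hp : Fact p.Prime]

/-- conjugation of `S` by a normalising subgroup -/
noncomputable def cj {P S : Subgroup G} (h : P ≤ normalizer (S : Set G)) : P →* MulAut S where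
  toFun q :=
    { toFun := fun x => ⟨q * x * (q : G)⁻¹, (mem_normalizer_iff.1 (h q.2) _).1 x.2⟩
      invFun := fun x => ⟨(q : G)⁻¹ * x * q, by
        have := (mem_normalizer_iff.1 (h (inv_mem q.2)) _).1 x.2
        simpa using this⟩
      left_inv := fun x => Subtype.ext (by simp [mul_assoc])
      right_inv := fun x => Subtype.ext (by simp [mul_assoc])
      map_mul' := fun x y => Subtype.ext (by simp [mul_assoc]) }
  map_one' := by ext x; simp
  map_mul' a b := by ext x; simp [mul_assoc]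

/-- the induced action on the abelianization -/
noncomputable def cjAb {P S : Subgroup G} (h : P ≤ normalizer (S : Set G)) :
    P →* MulAut (Abelianization S) where
  toFun q := (cj h q).abelianizationCongr
  map_one' := by
    rw [map_one]
    exact abelianizationCongr_refl
  map_mul' a b := by
    rw [map_mul]
    exact (abelianizationCongr_trans (cj h b) (cj h a)).symm

/-- factorisation of an invariant subgroup -/
theorem factor (P : Sylow p G) {S : Subgroup G} (hPS : (P : Subgroup G) ≤ normalizer (S : Set G))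
    (hcop : (Nat.card (P : Subgroup G)).Coprime (Nat.card S)) {x c d : G} (hx : x ∈ S)
    (hc : c ∈ (P : Subgroup G)) (hd : d ∈ (P : Subgroup G))
    (hH : IsPGroup p (Subgroup.closure ({x * c * x⁻¹, d} : Set G))) :
    ∃ a b : G, a ∈ S ∧ b ∈ S ∧ c * a * c⁻¹ = a ∧ d * b * d⁻¹ = b ∧ x = b * a := by
  set L := S ⊔ (P : Subgroup G) with hL
  set H := Subgroup.closure ({x * c * x⁻¹, d} : Set G) with hH'
  have hHL : H ≤ L := by
    rw [hH', Subgroup.closure_le, Set.insert_subset_iff, Set.singleton_subset_iff]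
    exact ⟨mul_mem (mul_mem (mem_sup_left hx) (mem_sup_right hc)) (inv_mem (mem_sup_left hx)),
      mem_sup_right hd⟩
  obtain ⟨Q, hQ⟩ := (hH.comap_of_injective L.subtype L.subtype_injective).exists_le_sylow
  obtain ⟨k, hk⟩ := MulAction.exists_smul_eq L (P.subtype (le_sup_right : (P : Subgroup G) ≤ L)) Q
  have hkmem : ∀ y ∈ H, (k : G)⁻¹ * y * k ∈ (P : Subgroup G) := by
    intro y hy
    have h : (⟨y, hHL hy⟩ : L) ∈ (Q : Subgroup L) := hQ (show y ∈ H from hy)
    rw [← hk, Sylow.coe_subgroup_smul, Subgroup.mem_pointwise_smul_iff_inv_smul_mem,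
      Sylow.coe_subtype, Subgroup.mem_subgroupOf] at h
    simpa using h
  have hk' : (k : G) ∈ ((S ⊔ (P : Subgroup G) : Subgroup G) : Set G) := k.2
  rw [Subgroup.coe_mul_of_right_le_normalizer_left S (P : Subgroup G) hPS] at hk'
  obtain ⟨y, hy, q, hq, he⟩ := Set.mem_mul.1 hk'
  have hy' : ∀ w ∈ H, y⁻¹ * w * y ∈ (P : Subgroup G) := by
    intro w hw
    have h := mul_mem (mul_mem hq (hkmem w hw)) (inv_mem hq)
    rw [← he] at h
    convert h using 1
    group
  have key : ∀ r ∈ (P : Subgroup G), ∀ u ∈ S, u⁻¹ * r * u ∈ (P : Subgroup G) → r * u * r⁻¹ = u := by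
    intro r hr u hu hru
    have h1 : u⁻¹ * r * u * r⁻¹ ∈ S := by
      rw [show u⁻¹ * r * u * r⁻¹ = u⁻¹ * (r * u * r⁻¹) by group]
      exact mul_mem (inv_mem hu) ((mem_normalizer_iff.1 (hPS hr) _).1 hu)
    have h2 := eq_one_of_coprime hcop (mul_mem hru (inv_mem hr)) h1
    calc r * u * r⁻¹ = u * (u⁻¹ * r * u * r⁻¹) := by group
      _ = u := by rw [h2, mul_one]
  have hb := key d hd y hy (hy' d (Subgroup.subset_closure (by simp)))
  have hxy : x⁻¹ * y ∈ S := mul_mem (inv_mem hx) hy
  have ha := key c hc (x⁻¹ * y) hxy (by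
    have h := hy' (x * c * x⁻¹) (Subgroup.subset_closure (by simp))
    convert h using 1
    group)
  refine ⟨(x⁻¹ * y)⁻¹, y, inv_mem hxy, hy, ?_, hb, by group⟩
  conv_rhs => rw [← ha]
  group

theorem centralizes (hp3 : 3 ≤ p) (P : Sylow p G) (N : Subgroup G) (hN : (Nat.card N).Coprime p)
    (C D : Set G) (hC : Subgroup.closure C = (P : Subgroup G)) (hD : Subgroup.closure D = (P : Subgroup G))
    (h : ∀ x ∈ N, ∀ c ∈ C, ∀ d ∈ D, IsPGroup p ↥(Subgroup.closure ({x * c * x⁻¹, d} : Set G))) :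
    ∀ n : ℕ, ∀ S : Subgroup G, Nat.card S = n → S ≤ N →
      (P : Subgroup G) ≤ normalizer (S : Set G) → S ≤ centralizer ((P : Subgroup G) : Set G) := by
  intro n
  induction n using Nat.strong_induction_on with
  | _ n ih =>
  intro S hn hSN hPS
  have hcop : (Nat.card (P : Subgroup G)).Coprime (Nat.card S) := by
    obtain ⟨k, hk⟩ := P.2.exists_card_eq
    rw [hk]
    exact Nat.Coprime.pow_left k (hN.coprime_dvd_left (Subgroup.card_dvd_of_le hSN)).symm
  haveI : Group.IsNilpotent (P : Subgroup G) := P.2.isNilpotent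
  have hsolP : Group.IsSolvable (P : Subgroup G) := inferInstance
  have hsub : ∀ T : Subgroup G, T < S → (P : Subgroup G) ≤ normalizer (T : Set G) →
      T ≤ centralizer ((P : Subgroup G) : Set G) := by
    intro T hT hPT
    exact ih _ (hn ▸ lt_of_le_of_ne (Subgroup.card_le_of_le hT.le)
      fun he => hT.ne (Subgroup.eq_of_le_of_card_ge hT.le he.ge)) T rfl (hT.le.trans hSN) hPT
  by_cases hr : ∃ r : ℕ, r.Prime ∧ IsPGroup r S
  swap
  · set I := S ⊓ centralizer ((P : Subgroup G) : Set G) with hI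
    suffices hdvd : Nat.card S ∣ Nat.card I by
      have := Subgroup.eq_of_le_of_card_ge (inf_le_left : I ≤ S) (Nat.le_of_dvd Nat.card_pos hdvd)
      exact this ▸ inf_le_right
    rw [← Nat.factorization_le_iff_dvd Nat.card_pos.ne' Nat.card_pos.ne']
    intro r
    by_cases hrp : r.Prime
    swap
    · rw [Nat.factorization_eq_zero_of_not_prime _ hrp]
      exact Nat.zero_le _
    haveI : Fact r.Prime := ⟨hrp⟩
    obtain ⟨R, hR⟩ := exists_invariant_sylow hPS hcop (Or.inl hsolP) r
    set R₀ := (R : Subgroup S).map S.subtype with hR₀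
    have hlt : R₀ < S := lt_of_le_of_ne (Subgroup.map_subtype_le _) fun he => hr ⟨r, hrp, by
      have := R.2.map S.subtype
      rwa [← hR₀, he] at this⟩
    have hle : R₀ ≤ I := le_inf hlt.le (hsub R₀ hlt hR)
    have hd := Subgroup.card_dvd_of_le hle
    rw [hR₀, Subgroup.card_map_of_injective S.subtype_injective, R.card_eq_multiplicity] at hd
    exact (hrp.pow_dvd_iff_le_factorization Nat.card_pos.ne').1 hd
  obtain ⟨r, hrp, hrS⟩ := hr
  haveI : Fact r.Prime := ⟨hrp⟩
  rcases subsingleton_or_nontrivial S with hs | hs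
  · intro x hx
    have : (⟨x, hx⟩ : S) = 1 := Subsingleton.elim _ _
    rw [show x = 1 from congrArg Subtype.val this]
    exact one_mem _
  haveI : Group.IsNilpotent S := hrS.isNilpotent
  set M := (commutator S).map S.subtype with hM
  have hMlt : M < S := by
    refine lt_of_le_of_ne (Subgroup.map_subtype_le _) fun he => ?_
    have h1 : commutator S = ⊤ := Subgroup.map_injective S.subtype_injective
      (by rw [← hM, he, ← MonoidHom.range_eq_map, Subgroup.range_subtype])
    exact (Group.IsSolvable.commutator_lt_top_of_nontrivial S).ne h1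
  have hPM : (P : Subgroup G) ≤ normalizer (M : Set G) := by
    rw [le_normalizer_map_subtype_iff]
    intro q hq
    have h1 := Subgroup.characteristic_iff_map_eq.1 (inferInstance : (commutator S).Characteristic)
      (cj hPS ⟨q, hq⟩)
    conv_rhs => rw [← h1]
    ext x
    rw [mem_conjMap]
    constructor
    · rintro ⟨y, hy, hyx⟩
      refine ⟨cj hPS ⟨q, hq⟩ y, ⟨y, hy, rfl⟩, ?_⟩
      show q * (y : G) * q⁻¹ = x
      rw [show (y : G) = q⁻¹ * x * q from hyx]
      group
    · rintro ⟨_, ⟨y, hy, rfl⟩, rfl⟩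
      refine ⟨y, hy, ?_⟩
      show (y : G) = q⁻¹ * (q * (y : G) * q⁻¹) * q
      group
  have hMc := hsub M hMlt hPM
  -- the abelianization
  set ψ := cjAb hPS with hψ
  have hcA : (Nat.card (Abelianization S)).Coprime p :=
    ((hN.coprime_dvd_left (Subgroup.card_dvd_of_le hSN))).coprime_dvd_left
      (Subgroup.card_quotient_dvd_card (commutator S))
  have hcl : ∀ X : Set G, Subgroup.closure X = (P : Subgroup G) →
      Subgroup.closure (ψ '' (Subtype.val ⁻¹' X)) = ψ.range := by
    intro X hX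
    rw [← MonoidHom.map_closure, MonoidHom.range_eq_map]
    congr 1
    apply Subgroup.map_injective (P : Subgroup G).subtype_injective
    rw [MonoidHom.map_closure, ← MonoidHom.range_eq_map, Subgroup.range_subtype]
    conv_rhs => rw [← hX]
    congr 1
    refine (Set.image_preimage_eq_inter_range).trans (Set.inter_eq_left.2 fun w hw => ?_)
    exact ⟨⟨w, hX ▸ Subgroup.subset_closure hw⟩, rfl⟩
  have hbot := abelian_main hp3 _ (Abelianization S) rfl hcA ψ.range
    (P.2.of_surjective ψ.rangeRestrict ψ.rangeRestrict_surjective) _ _ (hcl C hC) (hcl D hD) (by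
      rintro _ ⟨c, hc, rfl⟩ _ ⟨d, hd, rfl⟩ v
      obtain ⟨x, rfl⟩ := QuotientGroup.mk'_surjective (commutator S) v
      obtain ⟨a, b, ha, hb, hca, hdb, e⟩ := factor P hPS hcop x.2 c.2 d.2
        (h x.1 (hSN x.2) c.1 hc d.1 hd)
      refine ⟨Abelianization.of ⟨a, ha⟩, Abelianization.of ⟨b, hb⟩,
        congrArg Abelianization.of (Subtype.ext hca), congrArg Abelianization.of (Subtype.ext hdb), ?_⟩
      rw [← map_mul]
      exact congrArg Abelianization.of (Subtype.ext e))
  intro k hk
  refine centralizes_of_coprime_chain (D := M) (A := (P : Subgroup G))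
    (hcop.coprime_dvd_right (Subgroup.card_dvd_of_le hMlt.le)) (Subgroup.le_centralizer_iff.1 hMc) ?_
  intro q hq
  have h1 : ψ ⟨q, hq⟩ = 1 := by
    have : ψ ⟨q, hq⟩ ∈ ψ.range := ⟨_, rfl⟩
    rwa [hbot, Subgroup.mem_bot] at this
  have h2 : Abelianization.of (⟨k, hk⟩ : S) = Abelianization.of (cj hPS ⟨q, hq⟩ ⟨k, hk⟩) :=
    (DFunLike.congr_fun h1 (Abelianization.of (⟨k, hk⟩ : S))).symm
  refine ⟨_, QuotientGroup.eq.1 h2, ?_⟩
  show k⁻¹ * (q * k * q⁻¹) = k⁻¹ * q * k * q⁻¹
  group

end Reduction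

/-- Let p ≥ 3 be prime and G a finite group with a Sylow p-subgroup P and a normal p-complement N (N normal, of order prime to p, with NP = G). Suppose P is generated by a subset C and also by a subset D, and that ⟨x c x⁻¹, d⟩ is a p-group for all x ∈ N, c ∈ C, d ∈ D. Then P centralizes N, so that G = N × P. -/
theorem result {G : Type*} [Group G] [Finite G] (p : ℕ) [Fact p.Prime] (hp3 : 3 ≤ p) (P : Sylow p G)
    (N : Subgroup G) [N.Normal] (hN : (Nat.card N).Coprime p) (hNP : N ⊔ (P : Subgroup G) = ⊤)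
    (C D : Set G) (hC : Subgroup.closure C = (P : Subgroup G)) (hD : Subgroup.closure D = (P : Subgroup G))
    (h : ∀ x ∈ N, ∀ c ∈ C, ∀ d ∈ D, IsPGroup p ↥(Subgroup.closure ({x * c * x⁻¹, d} : Set G))) :
    ⁅(P : Subgroup G), N⁆ = ⊥ := by
  rw [Subgroup.commutator_eq_bot_iff_le_centralizer]
  exact Subgroup.le_centralizer_iff.1
    (centralizes hp3 P N hN C D hC hD h _ N rfl le_rfl
      (Subgroup.normalizer_eq_top (H := N) ▸ le_top))

end Cfsg.Agent.S2277
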