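import Cfsg.Statements.S2280
import Mathlib
import Cfsg.Agent.Known.SLThreeSmall
import Cfsg.Agent.Known.ThreeUnipotents

set_option autoImplicit false
open Cfsg

namespace Cfsg.Agent.S2280

/-- Let F be a finite field and n ≥ 3. Then SL_n(F) is generated by three conjugate regular unipotent elements: there are u with u − 1 nilpotent and (u − 1)^(n−1) ≠ 0, and g, h, such that u, g u g⁻¹ and h u h⁻¹ generate SL_n(F). -/
theorem result {F : Type*} [Field F] [Fintype F] (n : ℕ) (hn : 3 ≤ n) :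
    ∃ u g h : Matrix.SpecialLinearGroup (Fin n) F, (IsNilpotent ((u : Matrix (Fin n) (Fin n) F) - 1) ∧ ((u : Matrix (Fin n) (Fin n) F) - 1) ^ (n - 1) ≠ 0) ∧
      Subgroup.closure ({u, g * u * g⁻¹, h * u * h⁻¹} : Set (Matrix.SpecialLinearGroup (Fin n) F)) = ⊤ := by
  rcases Nat.lt_or_ge 3 n with h | h
  · exact Cfsg.Lib.Known.ThreeUnipotents.exists_three (by omega)
  · obtain rfl : n = 3 := by omega
    obtain ⟨u, g, h1, h2, h3⟩ := Cfsg.Lib.Known.SLThree.twoGen F
    refine ⟨u, g, 1, ⟨h1, h2⟩, ?_⟩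
    rw [eq_top_iff, ← h3]
    exact Subgroup.closure_mono (by intro x hx; simp only [Set.mem_insert_iff, Set.mem_singleton_iff] at hx ⊢; tauto)

end Cfsg.Agent.S2280
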