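import Cfsg.Statements.S2411
import Cfsg.Agent.Known.SpTwoGen.Main

set_option autoImplicit false
open Cfsg

namespace Cfsg.Agent.S2411

/-- The projective symplectic group `PSp_{2m}(q)` with `m ≥ 2` (and `q > 2` if `m = 2`) is generated by two of its elements. -/
theorem result {F : Type*} [Field F] [Fintype F] (m : ℕ) (hm : 2 ≤ m) (hF : m = 2 → 2 < Fintype.card F) :
    ∃ a b : Cfsg.PSp m F, Subgroup.closure ({a, b} : Set (Cfsg.PSp m F)) = ⊤ := by
  obtain ⟨a, b, h⟩ := Cfsg.Lib.SpTwoGen.two_gen (F := F) hm fun e => by
    classical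
    by_contra hne
    push Not at hne
    have := Finset.card_le_card (s := (Finset.univ : Finset F)) (t := {0, 1}) fun x _ => by
      by_cases hx : x = 0
      · simp [hx]
      · simp [hne x hx]
    rw [Finset.card_univ] at this
    exact absurd (hF e) (by have := Finset.card_le_two (a := (0 : F)) (b := 1); omega)
  refine ⟨QuotientGroup.mk ((Cfsg.Lib.Classical.sympEquiv m F).symm a),
    QuotientGroup.mk ((Cfsg.Lib.Classical.sympEquiv m F).symm b), ?_⟩
  have h' := congrArg (Subgroup.map ((QuotientGroup.mk'
    (Subgroup.center (Matrix.symplecticGroup (Fin m) F))).comp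
      (Cfsg.Lib.Classical.sympEquiv m F).symm.toMonoidHom)) h
  rw [MonoidHom.map_closure, Set.image_pair] at h'
  rw [Subgroup.map_top_of_surjective _
    (show Function.Surjective ((QuotientGroup.mk' (Subgroup.center (Matrix.symplecticGroup (Fin m) F))).comp
      (Cfsg.Lib.Classical.sympEquiv m F).symm.toMonoidHom) from
        (QuotientGroup.mk'_surjective _).comp (Cfsg.Lib.Classical.sympEquiv m F).symm.surjective)] at h'
  exact h'


end Cfsg.Agent.S2411
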