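import Cfsg.Statements.S2301
import Cfsg.Agent.Known.SLTwo.Unip

set_option autoImplicit false
open Cfsg

namespace Cfsg.Agent.S2301

/-- Over a finite field with q elements of odd characteristic p, the elements of order p of SL₂ (the non-identity unipotent elements) fall into exactly two conjugacy classes, each of size (q² − 1)/2; two upper unitriangular matrices with non-zero off-diagonal entries b and b′ are conjugate exactly when bb′ is a square. -/
theorem result {F : Type*} [Field F] [Fintype F] (p : ℕ) [Fact p.Prime] [CharP F p] (hp : p ≠ 2) :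
    Nat.card {C : ConjClasses (Matrix.SpecialLinearGroup (Fin 2) F) // ∃ g : Matrix.SpecialLinearGroup (Fin 2) F, orderOf g = p ∧ ConjClasses.mk g = C} = 2 ∧
    (∀ g : Matrix.SpecialLinearGroup (Fin 2) F, orderOf g = p → Nat.card (ConjClasses.mk g).carrier = (Fintype.card F ^ 2 - 1) / 2) ∧
    ∀ g h : Matrix.SpecialLinearGroup (Fin 2) F, (g : Matrix (Fin 2) (Fin 2) F) 0 0 = 1 → (g : Matrix (Fin 2) (Fin 2) F) 1 1 = 1 → (g : Matrix (Fin 2) (Fin 2) F) 1 0 = 0 → (g : Matrix (Fin 2) (Fin 2) F) 0 1 ≠ 0 →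
      (h : Matrix (Fin 2) (Fin 2) F) 0 0 = 1 → (h : Matrix (Fin 2) (Fin 2) F) 1 1 = 1 → (h : Matrix (Fin 2) (Fin 2) F) 1 0 = 0 → (h : Matrix (Fin 2) (Fin 2) F) 0 1 ≠ 0 →
      (IsConj g h ↔ IsSquare ((g : Matrix (Fin 2) (Fin 2) F) 0 1 * (h : Matrix (Fin 2) (Fin 2) F) 0 1)) := by
  classical
  have hodd : Odd (Fintype.card F) := by
    obtain ⟨k, -, hk⟩ := FiniteField.card F p
    rw [hk]; exact ((Fact.out : p.Prime).odd_of_ne_two hp).pow
  have h2 := Cfsg.Lib.GLTwo.two_ne_zero_of_odd hodd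
  obtain ⟨ν, hν⟩ := FiniteField.exists_nonsquare (F := F) fun e => (Nat.not_even_iff_odd.2 hodd) (Nat.even_iff.2 (FiniteField.even_card_of_char_two e))
  let one' : {r : F // r * r = 1} := ⟨1, mul_one 1⟩
  have hb := Cfsg.Lib.GLTwo.repOdd_bijective h2 hν
  have hord : ∀ x : F, x ≠ 0 → orderOf (Cfsg.Lib.GLTwo.upper one' x) = p := fun x hx =>
    (Cfsg.Lib.GLTwo.orderOf_eq_char_iff p _).2 ⟨Cfsg.Lib.GLTwo.nonScalar_upper one' hx, Cfsg.Lib.GLTwo.trace_upper one' x⟩
  refine ⟨?_, fun g hg => ?_, ?_⟩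
  · have hν0 : ν ≠ 0 := fun h => hν (by rw [h]; exact IsSquare.zero)
    let φ : Bool → {C : ConjClasses (Matrix.SpecialLinearGroup (Fin 2) F) //
        ∃ g : Matrix.SpecialLinearGroup (Fin 2) F, orderOf g = p ∧ ConjClasses.mk g = C} := fun b =>
      ⟨Cfsg.Lib.GLTwo.repOdd ν (.inl (one', some b)), by
        cases b
        · exact ⟨_, hord ν hν0, rfl⟩
        · exact ⟨_, hord 1 one_ne_zero, rfl⟩⟩
    rw [← Nat.card_congr (Equiv.ofBijective φ ⟨fun a b h => by
      have := hb.1 (congrArg Subtype.val h); simpa using this, ?_⟩), Nat.card_eq_fintype_card, Fintype.card_bool]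
    rintro ⟨C, g, hg, rfl⟩
    obtain ⟨hn, ht⟩ := (Cfsg.Lib.GLTwo.orderOf_eq_char_iff p g).1 hg
    obtain ⟨s, hs⟩ := hb.2 (ConjClasses.mk g)
    rcases s with ⟨r, o⟩ | t
    · have ho : ∃ b, o = some b := by
        rcases o with _ | b
        · exfalso
          have := Cfsg.Lib.GLTwo.eq_of_isConj_upper_zero (ConjClasses.mk_eq_mk_iff_isConj.1 hs)
          rw [this] at hn
          exact hn ⟨by simp, by simp, by simp⟩
        · exact ⟨b, rfl⟩
      obtain ⟨b, rfl⟩ := ho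
      refine ⟨b, Subtype.ext ?_⟩
      have hr : r = one' := Subtype.ext <| by
        cases b <;>
        · have := Cfsg.Lib.GLTwo.trace_eq_of_isConj (ConjClasses.mk_eq_mk_iff_isConj.1 hs)
          rw [Cfsg.Lib.GLTwo.trace_upper, ht] at this
          exact mul_left_cancel₀ h2 (by linear_combination this)
      show Cfsg.Lib.GLTwo.repOdd ν (.inl (one', some b)) = ConjClasses.mk g
      rw [← hr]; exact hs
    · exfalso
      have := Cfsg.Lib.GLTwo.trace_eq_of_isConj (ConjClasses.mk_eq_mk_iff_isConj.1 hs)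
      rw [ht] at this
      simp [Cfsg.Lib.GLTwo.compSL, Cfsg.Lib.GLTwo.trace_comp] at this
      exact t.2 (by rw [this]; ring)
  · obtain ⟨hn, ht⟩ := (Cfsg.Lib.GLTwo.orderOf_eq_char_iff p g).1 hg
    have hc := Cfsg.Lib.GLTwo.card_carrier_mul g
    rw [Cfsg.Lib.GLTwo.card_centSL hn, Cfsg.Lib.GLTwo.card_one_double ht (by ring), Cfsg.Lib.GLTwo.card_sq_one h2,
      Cfsg.Lib.Classical.SLTwoTori.card_SL2, ← mul_assoc, mul_comm (Fintype.card F)] at hc
    rw [← Nat.eq_of_mul_eq_mul_right Fintype.card_pos hc, Nat.mul_div_cancel _ two_pos]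
  · intro g h g00 g11 g10 g01 h00 h11 h10 h01
    have eq : ∀ x : Matrix.SpecialLinearGroup (Fin 2) F, (x : Matrix (Fin 2) (Fin 2) F) 0 0 = 1 →
        (x : Matrix (Fin 2) (Fin 2) F) 1 1 = 1 → (x : Matrix (Fin 2) (Fin 2) F) 1 0 = 0 →
        x = Cfsg.Lib.GLTwo.upper one' ((x : Matrix (Fin 2) (Fin 2) F) 0 1) := fun x a b c => Subtype.ext <| by
      ext i j; fin_cases i <;> fin_cases j <;> simp [a, b, c, one']
    rw [eq g g00 g11 g10, eq h h00 h11 h10, Cfsg.Lib.GLTwo.isConj_upper_iff one' g01]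
    simp only [Cfsg.Lib.GLTwo.coe_upper]
    constructor
    · rintro ⟨s, -, e⟩
      exact ⟨(g : Matrix (Fin 2) (Fin 2) F) 0 1 * s, by simp; rw [e]; ring⟩
    · rintro ⟨w, hw⟩
      simp at hw
      refine ⟨w / (g : Matrix (Fin 2) (Fin 2) F) 0 1, div_ne_zero (fun e => mul_ne_zero g01 h01 (by rw [hw, e, mul_zero])) g01, ?_⟩
      field_simp
      linear_combination hw

end Cfsg.Agent.S2301
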