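import Cfsg.Statements.S2303
import Cfsg.Agent.Known.SLTwo.Cases

set_option autoImplicit false
open Cfsg

namespace Cfsg.Agent.S2303

/-- Over a finite field with q elements: a diagonal element of GL₂ with two distinct diagonal entries has centralizer of order (q − 1)² (so q(q + 1) conjugates), and an element of GL₂ with no eigenvector in F² has centralizer of order q² − 1 (so q(q − 1) conjugates). -/
theorem result {F : Type*} [Field F] [Fintype F] (g : Matrix.GeneralLinearGroup (Fin 2) F) :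
    ((g : Matrix (Fin 2) (Fin 2) F) 0 1 = 0 → (g : Matrix (Fin 2) (Fin 2) F) 1 0 = 0 → (g : Matrix (Fin 2) (Fin 2) F) 0 0 ≠ (g : Matrix (Fin 2) (Fin 2) F) 1 1 →
      Nat.card (Subgroup.centralizer ({g} : Set (Matrix.GeneralLinearGroup (Fin 2) F))) = (Fintype.card F - 1) ^ 2) ∧
    ((∀ (c : F) (v : Fin 2 → F), v ≠ 0 → (g : Matrix (Fin 2) (Fin 2) F).mulVec v ≠ c • v) →
      Nat.card (Subgroup.centralizer ({g} : Set (Matrix.GeneralLinearGroup (Fin 2) F))) = Fintype.card F ^ 2 - 1) := by
  refine ⟨fun h01 h10 hne => ?_, fun h => ?_⟩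
  · have hg : Cfsg.Lib.GLTwo.NonScalar (g : Matrix (Fin 2) (Fin 2) F) := fun e => hne e.2.2
    rw [Cfsg.Lib.GLTwo.card_cent hg]
    exact Cfsg.Lib.GLTwo.card_good_split hne (Matrix.trace_fin_two _) (by rw [Matrix.det_fin_two, h01, zero_mul, sub_zero])
  · set A := (g : Matrix (Fin 2) (Fin 2) F) with hA
    have hg : Cfsg.Lib.GLTwo.NonScalar A := fun e => by
      refine h (A 0 0) ![1, 0] (by simp) ?_
      funext i; fin_cases i <;> simp [Matrix.mulVec, dotProduct, e.2.1]
    rw [Cfsg.Lib.GLTwo.card_cent hg, Cfsg.Lib.GLTwo.card_good_irred]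
    intro x hx
    obtain ⟨v, hv, hv0⟩ := Matrix.exists_mulVec_eq_zero_iff.2 (show (A - x • (1 : Matrix (Fin 2) (Fin 2) F)).det = 0 by
      rw [← hA, Matrix.trace_fin_two, Matrix.det_fin_two] at hx
      simp [Matrix.det_fin_two]; linear_combination hx)
    refine h x v hv ?_
    rw [Matrix.sub_mulVec, Matrix.smul_mulVec, Matrix.one_mulVec, sub_eq_zero] at hv0
    exact hv0

end Cfsg.Agent.S2303
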