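import Cfsg.Statements.S2308
import Cfsg.Agent.Known.SLTwo.GL

set_option autoImplicit false
open Cfsg

namespace Cfsg.Agent.S2308

/-- Values of the permutation character of GL₂ over a finite field F with q elements on the cosets of its upper triangular subgroup (equivalently, the number of lines of F² that an element maps to themselves): q + 1 at a scalar matrix, 2 at a diagonal matrix with two different diagonal entries, 0 at an element with no eigenvector in F², and 1 at an upper triangular matrix with equal diagonal entries and non-zero upper right entry. -/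
theorem result {F : Type*} [Field F] [Fintype F] (g : Matrix.GeneralLinearGroup (Fin 2) F) :
    ((∃ a : F, (g : Matrix (Fin 2) (Fin 2) F) = a • (1 : Matrix (Fin 2) (Fin 2) F)) → Cfsg.fixedPointCharacter (Cfsg.upperTriangularGL 2 F) g = Fintype.card F + 1) ∧
    ((g : Matrix (Fin 2) (Fin 2) F) 0 1 = 0 → (g : Matrix (Fin 2) (Fin 2) F) 1 0 = 0 → (g : Matrix (Fin 2) (Fin 2) F) 0 0 ≠ (g : Matrix (Fin 2) (Fin 2) F) 1 1 →
      Cfsg.fixedPointCharacter (Cfsg.upperTriangularGL 2 F) g = 2) ∧
    ((∀ (c : F) (v : Fin 2 → F), v ≠ 0 → (g : Matrix (Fin 2) (Fin 2) F).mulVec v ≠ c • v) → Cfsg.fixedPointCharacter (Cfsg.upperTriangularGL 2 F) g = 0) ∧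
    ((g : Matrix (Fin 2) (Fin 2) F) 1 0 = 0 → (g : Matrix (Fin 2) (Fin 2) F) 0 0 = (g : Matrix (Fin 2) (Fin 2) F) 1 1 → (g : Matrix (Fin 2) (Fin 2) F) 0 1 ≠ 0 →
      Cfsg.fixedPointCharacter (Cfsg.upperTriangularGL 2 F) g = 1) := by
  classical
  rw [Cfsg.Lib.GLTwo.card_fixed]
  set A := (g : Matrix (Fin 2) (Fin 2) F) with hA
  refine ⟨?_, fun h01 h10 hne => ?_, fun h => ?_, fun h10 heq h01 => ?_⟩
  · rintro ⟨a, ha⟩
    rw [show Nat.card {o : Option F // (Cfsg.Lib.GLTwo.colAt A o).2 = 0} = Fintype.card F + 1 from ?_, Nat.cast_add, Nat.cast_one]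
    rw [← Fintype.card_option, ← Nat.card_eq_fintype_card]
    refine Nat.card_congr (Equiv.subtypeUnivEquiv fun o => ?_)
    rw [ha]
    rcases o with _ | c <;> simp [Cfsg.Lib.GLTwo.colAt]
    ring
  · rw [show Nat.card {o : Option F // (Cfsg.Lib.GLTwo.colAt A o).2 = 0} = 2 from ?_, Nat.cast_ofNat]
    rw [← Set.ncard_pair (show (none : Option F) ≠ some 0 by simp), ← Nat.card_coe_set_eq]
    refine Nat.card_congr (Equiv.subtypeEquivRight fun o => ?_)
    rcases o with _ | c <;> simp [Cfsg.Lib.GLTwo.colAt, h01, h10]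
    constructor
    · intro e
      exact (mul_eq_zero.1 (show c * (A 1 1 - A 0 0) = 0 by linear_combination e)).resolve_right (sub_ne_zero.2 (Ne.symm hne))
    · rintro rfl; ring
  · rw [show Nat.card {o : Option F // (Cfsg.Lib.GLTwo.colAt A o).2 = 0} = 0 from ?_, Nat.cast_zero]
    haveI : IsEmpty {o : Option F // (Cfsg.Lib.GLTwo.colAt A o).2 = 0} := ⟨fun ⟨o, ho⟩ => by
      rcases o with _ | c
      · refine h (A 0 0) ![1, 0] (by simp) ?_
        simp [Cfsg.Lib.GLTwo.colAt] at ho
        funext i; fin_cases i <;> simp [Matrix.mulVec, dotProduct, ho]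
      · refine h (A 1 0 * c + A 1 1) ![c, 1] (by simp) ?_
        simp [Cfsg.Lib.GLTwo.colAt] at ho
        funext i; fin_cases i <;> simp [Matrix.mulVec, dotProduct]
        linear_combination -ho⟩
    exact Nat.card_of_isEmpty
  · rw [show Nat.card {o : Option F // (Cfsg.Lib.GLTwo.colAt A o).2 = 0} = 1 from ?_, Nat.cast_one]
    rw [Nat.card_eq_one_iff_exists]
    refine ⟨⟨none, by simp [Cfsg.Lib.GLTwo.colAt, h10]⟩, fun ⟨o, ho⟩ => Subtype.ext ?_⟩
    rcases o with _ | c
    · rfl
    · exfalso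
      simp [Cfsg.Lib.GLTwo.colAt, h10] at ho
      exact h01 (by linear_combination -ho - c * heq)

end Cfsg.Agent.S2308
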