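import Cfsg.Statements.S2312
import Cfsg.Agent.Steinberg.Chev
import Cfsg.Agent.Steinberg.DefectZeroUnique
-- import your own Cfsg.Agent.* helpers here

set_option autoImplicit false
open Cfsg

namespace Cfsg.Agent.S2312

/-- In a Chevalley group of type G₂, B₂, D₄, F₄, E₆, E₇ or E₈ over a finite field of characteristic p, the value of the Steinberg character at an element g of order prime to p (a semisimple element) is, up to sign, the largest power of p dividing the order of the centralizer of g. -/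
theorem result {F : Type*} [Field F] [Fintype F] (p : ℕ) [Fact p.Prime] [CharP F p] (D : Cfsg.Lie.ChevalleyDatum) (hD : D ∈ [Cfsg.Lie.chevG2, Cfsg.Lie.chevB2, Cfsg.Lie.chevD4, Cfsg.Lie.chevF4, Cfsg.Lie.chevE6, Cfsg.Lie.chevE7, Cfsg.Lie.chevE8]) (g : ↥(D.group F)) (hg : ¬ p ∣ orderOf g) :
    D.steinbergCharacter F g = ((p ^ (Nat.card ↥(Subgroup.centralizer ({g} : Set ↥(D.group F)))).factorization p : ℕ) : ℂ) ∨
      D.steinbergCharacter F g = -((p ^ (Nat.card ↥(Subgroup.centralizer ({g} : Set ↥(D.group F)))).factorization p : ℕ) : ℂ) := by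
  classical
  obtain ⟨P, U, h⟩ := Cfsg.Lib.Steinberg.exists_chevData (F := F) p D hD
  obtain ⟨ε, hε, e⟩ := Cfsg.Lib.Steinberg.st_eq_pm h.split h.opp
    (fun K hK => h.rad K (by rw [← Finset.coe_subset, Cfsg.Lib.Steinberg.coe_gens]; exact hK)) hg
  rw [h.st_eq, e]
  rcases hε with rfl | rfl
  · exact Or.inl (by rw [Int.cast_one, one_mul])
  · exact Or.inr (by rw [Int.cast_neg, Int.cast_one, neg_one_mul])

end Cfsg.Agent.S2312
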