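import Cfsg.Statements.S2315
import Cfsg.Agent.Known.SLBorelPair

set_option autoImplicit false
open Cfsg

namespace Cfsg.Agent.S2315

/-- Steinberg's count of unipotent elements for the general linear group: over a finite field with q elements of characteristic p, the number of elements of GL_n of p-power order (the unipotent matrices) is q^(n(n−1)). -/
theorem result {F : Type*} [Field F] [Fintype F] (p : ℕ) [Fact p.Prime] [CharP F p] (n : ℕ) :
    Nat.card {g : Matrix.GeneralLinearGroup (Fin n) F // ∃ k : ℕ, orderOf g = p ^ k} = Fintype.card F ^ (n * (n - 1)) := by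
  classical
  have key := Cfsg.Lib.Steinberg.card_p_elements (Cfsg.Lib.SLBN.split (n := n) (F := F) p) Cfsg.Lib.SLBN.opp
    (fun K hK => Cfsg.Lib.SLBN.radNormal K (fun s hs => by
      have h1 := Finset.coe_subset.2 hK hs
      rw [Cfsg.Lib.Steinberg.coe_gens] at h1
      exact h1))
  have hdet : ∀ g : Matrix.GeneralLinearGroup (Fin n) F, (∃ k : ℕ, orderOf g = p ^ k) →
      (g : Matrix (Fin n) (Fin n) F).det = 1 := by
    rintro g ⟨k, hk⟩
    have h : (g : Matrix (Fin n) (Fin n) F).det ^ (p ^ k) = 1 := by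
      rw [← Matrix.det_pow, ← Units.val_pow_eq_pow_val, ← hk, pow_orderOf_eq_one, Units.val_one, Matrix.det_one]
    have h' : ((g : Matrix (Fin n) (Fin n) F).det - 1) ^ (p ^ k) = 0 := by
      rw [sub_pow_char_pow, h, one_pow, sub_self]
    exact sub_eq_zero.1 ((pow_eq_zero_iff (pow_ne_zero k (Fact.out : p.Prime).ne_zero)).1 h')
  have e : Nat.card {g : Matrix.SpecialLinearGroup (Fin n) F // ∃ k : ℕ, orderOf g = p ^ k} =
      Nat.card {g : Matrix.GeneralLinearGroup (Fin n) F // ∃ k : ℕ, orderOf g = p ^ k} := by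
    refine Nat.card_eq_of_bijective (fun g => ⟨Matrix.SpecialLinearGroup.toGL g.1, ?_⟩) ⟨?_, ?_⟩
    · obtain ⟨k, hk⟩ := g.2
      exact ⟨k, by rw [orderOf_injective _ Cfsg.Lib.Classical.toGL_injective', hk]⟩
    · intro a b h
      exact Subtype.ext (Cfsg.Lib.Classical.toGL_injective' (congrArg Subtype.val h))
    · rintro ⟨g, hg⟩
      have he : Matrix.SpecialLinearGroup.toGL ⟨(g : Matrix (Fin n) (Fin n) F), hdet g hg⟩ = g := Units.ext rfl
      let g' : Matrix.SpecialLinearGroup (Fin n) F := ⟨_, hdet g hg⟩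
      have hg' : ∃ k : ℕ, orderOf g' = p ^ k := by
        obtain ⟨k, hk⟩ := hg
        exact ⟨k, ((orderOf_injective _ Cfsg.Lib.Classical.toGL_injective' g').symm.trans (congrArg orderOf he)).trans hk⟩
      exact ⟨⟨g', hg'⟩, Subtype.ext he⟩
  rw [← e, key, Cfsg.Lib.SLBN.card_U, Nat.card_eq_fintype_card (α := F), ← pow_add]
  congr 1
  have h := Cfsg.Lib.SLBN.card_pairs n
  rcases n with _ | m
  · omega
  · simp only [Nat.add_sub_cancel]
    nlinarith

end Cfsg.Agent.S2315
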