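import Cfsg.Statements.S2317
import Cfsg.Agent.Known.UnipotentClasses

set_option autoImplicit false
open Cfsg

namespace Cfsg.Agent.S2317

/-- Over a finite field of characteristic p, the conjugacy classes of GL_n consisting of elements of p-power order (the unipotent classes) are as many as the partitions of n. -/
theorem result {F : Type*} [Field F] [Fintype F] (p : ℕ) [Fact p.Prime] [CharP F p] (n : ℕ) :
    Nat.card {C : ConjClasses (Matrix.GeneralLinearGroup (Fin n) F) //
      ∃ g : Matrix.GeneralLinearGroup (Fin n) F, (∃ k : ℕ, orderOf g = p ^ k) ∧ ConjClasses.mk g = C} =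
      Fintype.card (Nat.Partition n) := by
  classical
  rcases Nat.eq_zero_or_pos n with rfl | hn
  · haveI : Subsingleton (Matrix.GeneralLinearGroup (Fin 0) F) := ⟨fun a b => Units.ext (Subsingleton.elim _ _)⟩
    have : Unique {C : ConjClasses (Matrix.GeneralLinearGroup (Fin 0) F) //
      ∃ g : Matrix.GeneralLinearGroup (Fin 0) F, (∃ k : ℕ, orderOf g = p ^ k) ∧ ConjClasses.mk g = C} :=
      { default := ⟨ConjClasses.mk 1, 1, ⟨0, by simp⟩, rfl⟩
        uniq := fun c => by
          obtain ⟨g, -, hg⟩ := c.2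
          exact Subtype.ext (hg.symm.trans (congrArg ConjClasses.mk (Subsingleton.elim g 1))) }
    rw [Nat.card_unique]
    exact (Fintype.card_unique).symm
  haveI : Nonempty (Fin n) := ⟨⟨0, hn⟩⟩
  haveI : CharP (Matrix (Fin n) (Fin n) F) p := inferInstance
  have key := Cfsg.Lib.UnipClasses.card_classes (F := F) (n := n) n
  rw [Finset.filter_true_of_mem (fun μ _ a ha => Cfsg.Lib.UnipClasses.parts_le μ ha), Finset.card_univ] at key
  rw [← key]
  refine Nat.card_congr (Equiv.subtypeEquivRight fun C => exists_congr fun g => ?_)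
  constructor
  · rintro ⟨⟨k, hk⟩, rfl⟩
    refine ⟨rfl, ?_⟩
    have h : ((g : Matrix (Fin n) (Fin n) F) - 1) ^ (p ^ k) = 0 := by
      rw [sub_pow_char_pow_of_commute p _ (Commute.one_right _), one_pow, ← Units.val_pow_eq_pow_val, ← hk,
        pow_orderOf_eq_one, Units.val_one, sub_self]
    obtain ⟨μ, P, -, hP⟩ := Cfsg.Lib.UnipClasses.exists_std _ h
    have h2 := SemiconjBy.pow_right (show SemiconjBy (P : Matrix (Fin n) (Fin n) F) (Cfsg.Lib.UnipClasses.std F μ)
      ((g : Matrix (Fin n) (Fin n) F) - 1) from hP.symm) n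
    rw [Cfsg.Lib.UnipClasses.std_pow_eq_zero μ (fun a ha => Cfsg.Lib.UnipClasses.parts_le μ ha)] at h2
    exact (Units.mul_left_eq_zero P).1 (h2.eq.symm.trans (mul_zero _))
  · rintro ⟨rfl, h⟩
    refine ⟨?_, rfl⟩
    have h' : g ^ (p ^ n) = 1 := by
      refine Units.ext ?_
      rw [Units.val_pow_eq_pow_val, Units.val_one]
      have hle : n ≤ p ^ n := (Nat.lt_pow_self (Fact.out : p.Prime).one_lt).le
      have h0 := pow_eq_zero_of_le hle h
      rw [sub_pow_char_pow_of_commute p _ (Commute.one_right _), one_pow, sub_eq_zero] at h0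
      exact h0
    obtain ⟨j, -, hj⟩ := (Nat.dvd_prime_pow (Fact.out : p.Prime)).1 (orderOf_dvd_of_pow_eq_one h')
    exact ⟨j, hj⟩

end Cfsg.Agent.S2317
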