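import Cfsg.Statements.S2318
import Cfsg.Agent.Steinberg.Chev
import Cfsg.Agent.Steinberg.DefectZeroUnique
-- import your own Cfsg.Agent.* helpers here

set_option autoImplicit false
open Cfsg

namespace Cfsg.Agent.S2318

/-- In a Chevalley group of type G₂, B₂, D₄, F₄, E₆, E₇ or E₈ over a finite field of characteristic p (for types G₂ and B₂ the field is assumed to have at least 3 elements, so that the group is perfect), the Steinberg character is the only irreducible complex character whose degree is divisible by the full power of p dividing the group order (the only irreducible character of p-defect zero). -/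
theorem result {F : Type*} [Field F] [Fintype F] (p : ℕ) [Fact p.Prime] [CharP F p] (D : Cfsg.Lie.ChevalleyDatum) (hD : D ∈ [Cfsg.Lie.chevG2, Cfsg.Lie.chevB2, Cfsg.Lie.chevD4, Cfsg.Lie.chevF4, Cfsg.Lie.chevE6, Cfsg.Lie.chevE7, Cfsg.Lie.chevE8]) (hq : (D = Cfsg.Lie.chevG2 ∨ D = Cfsg.Lie.chevB2) → 3 ≤ Fintype.card F)
    (χ : ↥(D.group F) → ℂ) (hχ : Cfsg.IsIrrCharacter ↥(D.group F) χ)
    (hdeg : ∃ d : ℕ, χ 1 = (d : ℂ) ∧ p ^ (Nat.card ↥(D.group F)).factorization p ∣ d) :
    χ = D.steinbergCharacter F := by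
  classical
  obtain ⟨P, U, h⟩ := Cfsg.Lib.Steinberg.exists_chevData (F := F) p D hD
  obtain ⟨C, T, S, -⟩ := Cfsg.Lib.Steinberg.lin_of_mem hD
  -- the root elements have order dividing `p`
  have hgen : Subgroup.closure {u : ↥(D.group F) | ∃ e, orderOf u = p ^ e} = ⊤ := by
    rw [eq_top_iff]
    refine le_trans (le_of_eq ?_) (Subgroup.closure_mono (k := {u : ↥(D.group F) | ∃ e, orderOf u = p ^ e})
      (h := (Subtype.val ⁻¹' {g : GL D.Idx F |
        ∃ (r : Fin D.nroots) (t : F), (g : Matrix D.Idx D.Idx F) = D.xMat F r t} : Set ↥(D.group F))) ?_)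
    · exact (Subgroup.closure_closure_coe_preimage (k := {g : GL D.Idx F |
        ∃ (r : Fin D.nroots) (t : F), (g : Matrix D.Idx D.Idx F) = D.xMat F r t})).symm
    rintro u ⟨r, t, hu⟩
    have hu' : (u : GL D.Idx F) = S.ok.xG r t :=
      S.ok.eq_xG (by rw [hu]; simp [Cfsg.Lie.ChevalleyDatum.x, r.isLt])
    have hpow : ∀ k : ℕ, S.ok.xG (r : ℕ) t ^ k = S.ok.xG (r : ℕ) ((k : F) * t) := by
      intro k
      induction k with
      | zero => simp
      | succ k ih => rw [pow_succ, ih, S.ok.xG_mul, Nat.cast_succ, add_mul, one_mul]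
    have h1 : orderOf u ∣ p ^ 1 := by
      rw [pow_one]
      refine orderOf_dvd_of_pow_eq_one (Subtype.ext ?_)
      rw [SubgroupClass.coe_pow, hu', hpow, CharP.cast_eq_zero, zero_mul, S.ok.xG_zero]
      rfl
    obtain ⟨e, -, he⟩ := (Nat.dvd_prime_pow (Fact.out : p.Prime)).1 h1
    exact ⟨e, he⟩
  obtain ⟨d, hd1, hd⟩ := hdeg
  rw [h.st_eq]
  refine Cfsg.Lib.Steinberg.eq_st_of_defect_zero h.split h.opp
    (fun K hK => h.rad K (by rw [← Finset.coe_subset, Cfsg.Lib.Steinberg.coe_gens]; exact hK)) hgen hχ ?_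
  rw [← Cfsg.Lib.Steinberg.factorization_eq h.split,
    show Cfsg.Lib.Chars.deg χ = d by rw [Cfsg.Lib.Chars.deg, hd1, Complex.natCast_re, Nat.floor_natCast]]
  exact hd

end Cfsg.Agent.S2318
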