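import Cfsg.Statements.S2326
import Mathlib
import Cfsg.Agent.Chev.Types
import Cfsg.Agent.S1041

set_option autoImplicit false
open Cfsg

namespace Cfsg.Agent.S2326

open Cfsg.Lib.Chev

theorem sylow_of_order {F : Type*} [Field F] [Fintype F] (p : ℕ) [Fact p.Prime] [CharP F p] {D : Cfsg.Lie.ChevalleyDatum}
    {C : Cert} (S : Struct D C) (hle : D.posUnipotent F ≤ D.group F) {d : ℕ} {ds : List ℕ} (hds : ∀ e ∈ ds, 0 < e)
    (h : d * Nat.card ↥(D.group F) = Fintype.card F ^ (D.nroots / 2) * (ds.map fun e => Fintype.card F ^ e - 1).prod) :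
    ∃ P : Sylow p ↥(D.group F), (P : Subgroup ↥(D.group F)) = (D.posUnipotent F).subgroupOf (D.group F) := by
  haveI : Finite ↥(D.group F) := inferInstance
  obtain ⟨n, hp, hq⟩ := FiniteField.card F p
  set U := (D.posUnipotent F).subgroupOf (D.group F)
  have hU : Nat.card U = Fintype.card F ^ (D.nroots / 2) := by
    rw [Nat.card_congr (Subgroup.subgroupOfEquivOfLe hle).toEquiv, S.card_posUnipotent]
  have h1 := U.card_mul_index
  rw [hU] at h1
  rw [← h1, mul_left_comm] at h
  have h2 := Nat.eq_of_mul_eq_mul_left (pow_pos Fintype.card_pos _) h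
  have hUp : IsPGroup p U := IsPGroup.of_card (n := n * (D.nroots / 2)) (by rw [hU, hq, ← pow_mul])
  refine ⟨hUp.toSylow fun hdvd => ?_, rfl⟩
  have h3 : p ∣ (ds.map fun e => Fintype.card F ^ e - 1).prod := h2 ▸ hdvd.mul_left d
  obtain ⟨x, hx, hpx⟩ := (hp.prime.dvd_prod_iff).1 h3
  obtain ⟨e, he, rfl⟩ := List.mem_map.1 hx
  have h4 : p ∣ Fintype.card F ^ e := by
    rw [hq]; exact (dvd_pow_self p n.ne_zero).trans (dvd_pow_self _ (hds e he).ne')
  have h5 : 1 ≤ Fintype.card F ^ e := Nat.one_le_pow _ _ Fintype.card_pos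
  have := Nat.dvd_sub h4 hpx
  rw [Nat.sub_sub_self h5, Nat.dvd_one] at this
  exact hp.one_lt.ne' this

/-- In a Chevalley group of type G₂, B₂, D₄, F₄, E₆, E₇ or E₈ over a finite field of characteristic p, the subgroup U generated by the positive root elements is a Sylow p-subgroup. -/
theorem result {F : Type*} [Field F] [Fintype F] (p : ℕ) [Fact p.Prime] [CharP F p] (D : Cfsg.Lie.ChevalleyDatum) (hD : D ∈ [Cfsg.Lie.chevG2, Cfsg.Lie.chevB2, Cfsg.Lie.chevD4, Cfsg.Lie.chevF4, Cfsg.Lie.chevE6, Cfsg.Lie.chevE7, Cfsg.Lie.chevE8]) :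
    ∃ P : Sylow p ↥(D.group F), (P : Subgroup ↥(D.group F)) = (D.posUnipotent F).subgroupOf (D.group F) := by
  have hle : D.posUnipotent F ≤ D.group F := le_sup_left.trans (Cfsg.Agent.S1041.result (F := F) D hD).le
  simp only [List.mem_cons, List.not_mem_nil, or_false] at hD
  rcases hD with rfl | rfl | rfl | rfl | rfl | rfl | rfl
  · exact sylow_of_order p G2.struct hle (by decide) (G2.struct.order_formula okNeg_G2 G2.poincare rfl (G2.card_torus rfl))
  · exact sylow_of_order p B2.struct hle (by decide) (B2.struct.order_formula okNeg_B2 B2.poincare rfl (B2.card_torus rfl))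
  · exact sylow_of_order p D4.struct hle (by decide) (D4.struct.order_formula okNeg_D4 D4.poincare rfl (D4.card_torus rfl))
  · exact sylow_of_order p F4.struct hle (by decide) (F4.struct.order_formula okNeg_F4 F4.poincare rfl (F4.card_torus rfl))
  · exact sylow_of_order p E6.struct hle (by decide) (E6.struct.order_formula okNeg_E6 E6.poincare rfl (E6.card_torus rfl))
  · exact sylow_of_order p E7.struct hle (by decide) (E7.struct.order_formula okNeg_E7 E7.poincare rfl (E7.card_torus rfl))
  · exact sylow_of_order p E8.struct hle (by decide) (E8.struct.order_formula okNeg_E8 E8.poincare rfl (E8.card_torus rfl))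

end Cfsg.Agent.S2326
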