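import Cfsg.Statements.S2329
import Cfsg.Agent.Known.UnipotentBasics
import Cfsg.Agent.Known.RegularNilpotent
import Cfsg.Agent.Known.SLUnit

set_option autoImplicit false
open Cfsg Matrix

namespace Cfsg.Agent.S2329

/-- Over a finite field of characteristic p, any two elements of order p of GL₂ are conjugate: there is a single conjugacy class of non-identity unipotent elements. -/
theorem result {F : Type*} [Field F] [Fintype F] (p : ℕ) [Fact p.Prime] [CharP F p] (g h : Matrix.GeneralLinearGroup (Fin 2) F)
    (hg : orderOf g = p) (hh : orderOf h = p) : IsConj g h := by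
  have hp : p.Prime := Fact.out
  have key : ∀ x : Matrix.GeneralLinearGroup (Fin 2) F, orderOf x = p → IsNilpotent ((x : Matrix (Fin 2) (Fin 2) F) - 1) ∧
      ((x : Matrix (Fin 2) (Fin 2) F) - 1) ^ (2 - 1) ≠ 0 := by
    intro x hx
    refine ⟨Cfsg.Lib.Known.Unip.isNilpotent_sub_one p x (j := 1) (by rw [pow_one, ← hx, pow_orderOf_eq_one]), ?_⟩
    rw [show 2 - 1 = 1 from rfl, pow_one, sub_ne_zero]
    intro h
    rw [show x = 1 from Units.ext h, orderOf_one] at hx
    exact hp.one_lt.ne hx
  exact Cfsg.Lib.Known.Unip.isConj_of_regular g h (key g hg).1 (key h hh).1 (key g hg).2 (key h hh).2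

end Cfsg.Agent.S2329
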