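import Cfsg.Statements.S2332
import Cfsg.Agent.Known.SLMinDegree.Exist

set_option autoImplicit false
open Cfsg

namespace Cfsg.Agent.S2332

/-- Smallest degree of a non-linear irreducible complex representation of SL_n over a finite field with q elements, for n ≥ 3 and (n, q) not one of (3, 2), (3, 4), (4, 2), (4, 3): every irreducible complex representation of SL_n(F) of degree at least 2 has degree at least (q^n − q)/(q − 1), and there is an irreducible complex representation of exactly that degree. -/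
theorem result {F : Type*} [Field F] [Fintype F] [DecidableEq F] (n : ℕ) (hn : 3 ≤ n)
    (hex : (n, Fintype.card F) ≠ (3, 2) ∧ (n, Fintype.card F) ≠ (3, 4) ∧ (n, Fintype.card F) ≠ (4, 2) ∧ (n, Fintype.card F) ≠ (4, 3)) :
    (∀ (k : ℕ) (ρ : Representation ℂ (Matrix.SpecialLinearGroup (Fin n) F) (Fin k → ℂ)), ρ.IsIrreducible → 2 ≤ k → (Fintype.card F ^ n - Fintype.card F) / (Fintype.card F - 1) ≤ k) ∧
    (∃ ρ : Representation ℂ (Matrix.SpecialLinearGroup (Fin n) F) (Fin ((Fintype.card F ^ n - Fintype.card F) / (Fintype.card F - 1)) → ℂ), ρ.IsIrreducible) := by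
  classical
  obtain ⟨m, rfl⟩ : ∃ m, n = m + 1 := ⟨n - 1, by omega⟩
  obtain ⟨h1, h2, h3, h4⟩ := hex
  simp only [ne_eq, Prod.mk.injEq, not_and] at h1 h2 h3 h4
  have hex' : ¬ (m = 2 ∧ (Fintype.card F = 2 ∨ Fintype.card F = 4)) ∧
      ¬ (m = 3 ∧ (Fintype.card F = 2 ∨ Fintype.card F = 3)) := by
    refine ⟨?_, ?_⟩
    · rintro ⟨rfl, h | h⟩
      · exact h1 rfl h
      · exact h2 rfl h
    · rintro ⟨rfl, h | h⟩
      · exact h3 rfl h
      · exact h4 rfl h
  have hq := Fintype.one_lt_card (α := F)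
  have hdiv : (Fintype.card F ^ (m + 1) - Fintype.card F) / (Fintype.card F - 1) =
      Cfsg.Lib.SLMinDeg.S (Fintype.card F) (m + 1) - 1 := by
    have h := Cfsg.Lib.SLMinDeg.S_mul (Fintype.card F) (m + 1) hq.le
    refine Nat.div_eq_of_eq_mul_left (by omega) ?_
    rw [Nat.sub_mul, one_mul, ← h]
    omega
  refine ⟨fun k ρ hρ hk => ?_, ?_⟩
  · rw [hdiv]
    have hirr : Cfsg.Lib.SLMinDeg.IsIrr ρ := fun U hU =>
      ((hρ.eq_bot_or_eq_top ⟨U, fun g v hv => hU g v hv⟩).imp (congrArg Subrepresentation.toSubmodule)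
        (congrArg Subrepresentation.toSubmodule))
    have := Cfsg.Lib.SLMinDeg.main_bound (F := F) m (by omega) hex' (Fin k → ℂ) ρ hirr
      (by rw [Module.finrank_fin_fun]; exact hk)
    rwa [Module.finrank_fin_fun] at this
  · rw [hdiv]
    exact Cfsg.Lib.SLMinDeg.exists_irr m (by omega) hex'

end Cfsg.Agent.S2332
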