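import Cfsg.Statements.S2336
import Cfsg.Agent.Chars.Perm
import Cfsg.Agent.Chars.Construct
import Cfsg.Agent.LinearPerm.Transitive

set_option autoImplicit false
open Cfsg

namespace Cfsg.Agent.S2336

noncomputable section

open Cfsg.Lib.Chars Cfsg.Lib.LinearPerm
open scoped ComplexConjugate

variable {F : Type*} [Field F] [Fintype F] [DecidableEq F] {n : ℕ}

local notation "SLn" => Matrix.SpecialLinearGroup (Fin n) F
local notation "Vx" => NonzeroVec F n

/-- `∑_c θ(c) #{v : g v = c v} / (q-1)`. -/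
def tw (θ : Fˣ →* ℂˣ) (g : SLn) : ℂ :=
  (Fintype.card Fˣ : ℂ)⁻¹ * ∑ c : Fˣ, (θ c : ℂ) * (Nat.card {v : Vx // g • v = scal c v} : ℂ)

lemma isCharacter_tw (θ : Fˣ →* ℂˣ) : Cfsg.IsCharacter SLn (tw θ) := by
  classical
  have hq : (Fintype.card Fˣ : ℂ) ≠ 0 := by exact_mod_cast Fintype.card_ne_zero
  let ρ : Representation ℂ SLn (Vx → ℂ) :=
    { toFun := fun g =>
        { toFun := fun f x => f (g⁻¹ • x), map_add' := fun _ _ => rfl, map_smul' := fun _ _ => rfl }
      map_one' := by ext f x; simp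
      map_mul' := fun g h => by ext f x; simp [mul_smul] }
  let e : (Vx → ℂ) →ₗ[ℂ] (Vx → ℂ) :=
    { toFun := fun f v => (Fintype.card Fˣ : ℂ)⁻¹ * ∑ c : Fˣ, (θ c : ℂ) * f (scal c v)
      map_add' := fun f g => by
        funext v; simp [mul_add, Finset.sum_add_distrib]
      map_smul' := fun a f => by
        funext v
        simp only [Pi.smul_apply, smul_eq_mul, RingHom.id_apply]
        rw [Finset.mul_sum, Finset.mul_sum, Finset.mul_sum]
        exact Finset.sum_congr rfl fun c _ => by ring }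
  have hcomm : ∀ g f, ρ g (e f) = e (ρ g f) := fun g f => by
    funext v
    simp only [ρ, e, MonoidHom.coe_mk, OneHom.coe_mk, LinearMap.coe_mk, AddHom.coe_mk, scal_smul]
  have hidem : ∀ f, e (e f) = e f := fun f => by
    funext v
    simp only [e, LinearMap.coe_mk, AddHom.coe_mk, scal_scal]
    rw [Finset.sum_congr rfl (g := fun _ => (Fintype.card Fˣ : ℂ)⁻¹ *
      ∑ d : Fˣ, (θ d : ℂ) * f (scal d v)) (fun c _ => by
        rw [mul_left_comm, Finset.mul_sum,
          ← Equiv.sum_comp (Equiv.mulRight c) (fun d : Fˣ => (θ d : ℂ) * f (scal d v))]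
        congr 1
        refine Finset.sum_congr rfl fun d _ => ?_
        simp only [Equiv.coe_mulRight, map_mul, Units.val_mul]
        ring)]
    rw [Finset.sum_const, Finset.card_univ, nsmul_eq_mul, mul_inv_cancel_left₀ hq]
  let W : Submodule ℂ (Vx → ℂ) := LinearMap.range e
  have hW : ∀ g, ∀ f ∈ W, ρ g f ∈ W := fun g f hf => by
    obtain ⟨f', rfl⟩ := hf
    exact ⟨ρ g f', (hcomm g f').symm⟩
  let σ : Representation ℂ SLn W :=
    { toFun := fun g => (ρ g).restrict (hW g)
      map_one' := by ext f x; simp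
      map_mul' := fun g h => by ext f x; simp }
  have htw : tw θ = σ.character := by
    funext g
    have hmem : ∀ x, (ρ g ∘ₗ e) x ∈ W := fun x => hW g _ ⟨x, rfl⟩
    have hfix : ∀ f ∈ W, e f = f := by
      rintro _ ⟨f, rfl⟩; exact hidem f
    have hres : σ g = (ρ g ∘ₗ e).restrict (fun x (_ : x ∈ W) => hmem x) := by
      apply LinearMap.ext
      intro f
      apply Subtype.ext
      show ρ g f.1 = ρ g (e f.1)
      rw [hfix f.1 f.2]
    rw [Representation.character, hres, LinearMap.trace_restrict_eq_of_forall_mem W _ hmem,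
      LinearMap.trace_eq_matrix_trace ℂ (Pi.basisFun ℂ Vx)]
    simp only [Matrix.trace, Matrix.diag_apply, LinearMap.toMatrix_apply, Pi.basisFun_apply,
      Pi.basisFun_repr, LinearMap.comp_apply, ρ, e, MonoidHom.coe_mk, OneHom.coe_mk,
      LinearMap.coe_mk, AddHom.coe_mk]
    rw [tw, ← Finset.mul_sum, Finset.sum_comm]
    congr 1
    refine Finset.sum_congr rfl fun c _ => ?_
    rw [← Finset.mul_sum]
    congr 1
    simp only [Pi.single_apply]
    rw [Finset.sum_boole, Nat.card_eq_fintype_card, Fintype.card_subtype]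
    congr 2
    ext v
    simp only [Finset.mem_filter, Finset.mem_univ, true_and]
    rw [← scal_smul, inv_smul_eq_iff, eq_comm (a := g • v)]
  rw [htw]
  exact isCharacter_character σ

lemma sum_hom_apply (c : Fˣ) [Fintype (Fˣ →* ℂˣ)] :
    ∑ θ : Fˣ →* ℂˣ, (θ c : ℂ) = if c = 1 then (Fintype.card Fˣ : ℂ) else 0 := by
  classical
  split_ifs with h
  · subst h
    simp only [map_one, Units.val_one, Finset.sum_const, Finset.card_univ, nsmul_eq_mul, mul_one]
    rw [← Nat.card_eq_fintype_card, CommGroup.card_monoidHom_of_hasEnoughRootsOfUnity,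
      Nat.card_eq_fintype_card]
  · obtain ⟨φ, hφ⟩ := CommGroup.exists_apply_ne_one_of_hasEnoughRootsOfUnity Fˣ ℂ h
    have h1 : (φ c : ℂ) * ∑ θ : Fˣ →* ℂˣ, (θ c : ℂ) = ∑ θ : Fˣ →* ℂˣ, (θ c : ℂ) := by
      rw [Finset.mul_sum]
      exact Fintype.sum_equiv (Equiv.mulLeft φ) _ _ (fun θ => by simp)
    have h2 : ((φ c : ℂ) - 1) * ∑ θ : Fˣ →* ℂˣ, (θ c : ℂ) = 0 := by rw [sub_mul, h1]; ring
    rcases mul_eq_zero.1 h2 with h3 | h3
    · exact absurd (Units.ext (sub_eq_zero.1 h3)) hφ
    · exact h3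

lemma sum_fix_scal (hn : 2 ≤ n) (c : Fˣ) :
    ∑ g : SLn, (Nat.card {v : Vx // g • v = scal c v} : ℂ) = (Fintype.card SLn : ℂ) := by
  classical
  have key : ∀ d : Fˣ, (∑ g : SLn, Nat.card {v : Vx // g • v = scal d v}) =
      ∑ v : Vx, Nat.card (MulAction.stabilizer SLn v) := by
    intro d
    simp only [Nat.card_eq_fintype_card, Fintype.card_subtype, Finset.card_filter]
    rw [Finset.sum_comm]
    refine Finset.sum_congr rfl fun v _ => ?_
    obtain ⟨g₀, hg₀⟩ := transitive hn v (scal d v)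
    rw [← Equiv.sum_comp (Equiv.mulLeft g₀)]
    refine Finset.sum_congr rfl fun g _ => ?_
    refine if_congr ?_ rfl rfl
    simp only [Equiv.coe_mulLeft, mul_smul, MulAction.mem_stabilizer_iff, ← hg₀, smul_left_cancel_iff]
  have h1 := classInner_permChar_one (G := SLn) Vx
  have horb : Nat.card (MulAction.orbitRel.Quotient SLn Vx) = 1 := by
    rw [Nat.card_eq_one_iff_unique]
    refine ⟨⟨fun a b => ?_⟩, ⟨Quotient.mk'' (⟨Pi.single ⟨0, by omega⟩ 1, by simp⟩ : Vx)⟩⟩
    induction a using Quotient.inductionOn' with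
    | h a =>
      induction b using Quotient.inductionOn' with
      | h b =>
        obtain ⟨g, hg⟩ := transitive hn b a
        exact Quotient.sound' (MulAction.orbitRel_apply.2 ⟨g, hg⟩)
  rw [horb, Cfsg.Lib.Chars.classInner_def] at h1
  simp only [permChar, map_one, mul_one, Nat.cast_one] at h1
  have hG : (Nat.card SLn : ℂ) ≠ 0 := by exact_mod_cast Nat.card_pos.ne'
  rw [inv_mul_eq_one₀ hG] at h1
  have e1 : ∀ g : SLn, Nat.card (MulAction.fixedBy Vx g) = Nat.card {v : Vx // g • v = scal 1 v} :=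
    fun g => Nat.card_congr (Equiv.subtypeEquivRight fun v => by simp)
  simp only [e1] at h1
  rw [← Nat.cast_sum, key c, ← key 1, Nat.cast_sum, ← h1, Nat.card_eq_fintype_card]

lemma classInner_tw_one (hn : 2 ≤ n) (θ : Fˣ →* ℂˣ) :
    Cfsg.classInner (tw (n := n) θ) (fun _ => 1) = if θ = 1 then 1 else 0 := by
  classical
  have hG : (Nat.card SLn : ℂ) ≠ 0 := by exact_mod_cast Nat.card_pos.ne'
  have hq : (Fintype.card Fˣ : ℂ) ≠ 0 := by exact_mod_cast Fintype.card_ne_zero
  rw [Cfsg.Lib.Chars.classInner_def]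
  simp only [tw, map_one, mul_one]
  rw [← Finset.mul_sum, Finset.sum_comm]
  simp only [← Finset.mul_sum, sum_fix_scal hn]
  rw [← Finset.sum_mul, ← Nat.card_eq_fintype_card (α := SLn)]
  split_ifs with h
  · subst h
    simp only [MonoidHom.one_apply, Units.val_one, Finset.sum_const, Finset.card_univ,
      nsmul_eq_mul, mul_one]
    field_simp
  · have : ∑ c : Fˣ, (θ c : ℂ) = 0 := by
      obtain ⟨c₀, hc₀⟩ : ∃ c, θ c ≠ 1 := by
        by_contra hh; push_neg at hh; exact h (MonoidHom.ext hh)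
      have h1 : (θ c₀ : ℂ) * ∑ c : Fˣ, (θ c : ℂ) = ∑ c : Fˣ, (θ c : ℂ) := by
        rw [Finset.mul_sum]
        exact Fintype.sum_equiv (Equiv.mulLeft c₀) _ _ (fun c => by simp)
      have h2 : ((θ c₀ : ℂ) - 1) * ∑ c : Fˣ, (θ c : ℂ) = 0 := by rw [sub_mul, h1]; ring
      rcases mul_eq_zero.1 h2 with h3 | h3
      · exact absurd (Units.ext (sub_eq_zero.1 h3)) hc₀
      · exact h3
    rw [this]; ring

lemma tw_one (θ : Fˣ →* ℂˣ) :
    tw (n := n) θ (1 : SLn) = (Fintype.card Fˣ : ℂ)⁻¹ * (Nat.card Vx : ℂ) := by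
  classical
  rw [tw]
  congr 1
  rw [Finset.sum_eq_single (1 : Fˣ)]
  · simp only [map_one, Units.val_one, one_mul]
    congr 1
    exact Nat.card_congr (Equiv.subtypeUnivEquiv fun v => by simp)
  · intro c _ hc
    have : IsEmpty {v : Vx // (1 : SLn) • v = scal c v} := ⟨fun v => hc
      (scal_left_injective v.1 (show scal c v.1 = scal 1 v.1 by rw [← v.2, one_smul, scal_one]))⟩
    rw [Nat.card_of_isEmpty, Nat.cast_zero, mul_zero]
  · simp

end

/-- Let F be a finite field with q elements and n ≥ 3. The permutation character of SL_n(F) on the non-zero vectors of F^n (the function sending a matrix to the number of non-zero vectors it fixes) is the sum of the principal character and q − 1 pairwise distinct irreducible complex characters. -/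
theorem result {F : Type*} [Field F] [Fintype F] [DecidableEq F] (n : ℕ) (hn : 3 ≤ n) :
    ∃ χ : Fin (Fintype.card F - 1) → (Matrix.SpecialLinearGroup (Fin n) F → ℂ),
      (∀ i, Cfsg.IsIrrCharacter (Matrix.SpecialLinearGroup (Fin n) F) (χ i)) ∧ Function.Injective χ ∧
      ∀ g : Matrix.SpecialLinearGroup (Fin n) F,
        (Nat.card {v : Fin n → F // v ≠ 0 ∧ (g : Matrix (Fin n) (Fin n) F).mulVec v = v} : ℂ) = 1 + ∑ i, χ i g := by
  classical
  have : Fintype (Fˣ →* ℂˣ) := Fintype.ofFinite _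
  let G := Matrix.SpecialLinearGroup (Fin n) F
  let π : G → ℂ := Cfsg.Lib.Chars.permChar G (Cfsg.Lib.LinearPerm.NonzeroVec F n)
  have hπcard : ∀ g : G, (Nat.card {v : Fin n → F // v ≠ 0 ∧ (g : Matrix (Fin n) (Fin n) F).mulVec v = v} : ℂ) = π g := by
    intro g
    refine congrArg Nat.cast ?_
    exact Nat.card_congr
      { toFun := fun v => ⟨⟨v.1, v.2.1⟩, Subtype.ext v.2.2⟩
        invFun := fun v => ⟨v.1.1, v.1.2, congrArg Subtype.val v.2⟩
        left_inv := fun _ => rfl
        right_inv := fun _ => rfl }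
  have hq0 : (Fintype.card Fˣ : ℂ) ≠ 0 := by exact_mod_cast Fintype.card_ne_zero
  -- the twisted pieces sum to the permutation character
  have hsum : π = ∑ θ : Fˣ →* ℂˣ, tw (n := n) θ := by
    funext g
    rw [Finset.sum_apply]
    simp only [tw]
    rw [← Finset.mul_sum, Finset.sum_comm]
    simp only [← Finset.sum_mul, sum_hom_apply, ite_mul, zero_mul, Finset.sum_ite_eq',
      Finset.mem_univ, if_true]
    rw [inv_mul_cancel_left₀ hq0]
    refine congrArg Nat.cast ?_
    exact Nat.card_congr (Equiv.subtypeEquivRight fun v => by simp)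
  have hπchar : Cfsg.IsCharacter G π := Cfsg.Lib.Chars.isCharacter_permChar _
  choose m hm using fun (θ : Fˣ →* ℂˣ) (χ : Cfsg.IrrCharacter G) =>
    Cfsg.Lib.Chars.IsCharacter.exists_mult (isCharacter_tw (n := n) θ) χ.2
  let p := Cfsg.Lib.Chars.principal G
  let M : Cfsg.IrrCharacter G → ℕ := fun χ => ∑ θ, m θ χ
  have hM : ∀ χ : Cfsg.IrrCharacter G, Cfsg.classInner π χ = M χ := by
    intro χ
    rw [hsum, Cfsg.Lib.Chars.classInner_sum_left]
    push_cast [M]
    exact Finset.sum_congr rfl fun θ _ => hm θ χ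
  have hexp : π = ∑ χ : Cfsg.IrrCharacter G, (M χ : ℂ) • (χ : G → ℂ) := by
    rw [Cfsg.Lib.Chars.classFunction_expand (Cfsg.Lib.Chars.isClassFunction_isChar hπchar)]
    exact Finset.sum_congr rfl fun χ _ => by rw [hM]
  -- norm
  have hsq : (∑ χ, M χ * M χ) = Fintype.card F := by
    have h1 : Cfsg.classInner π π = ∑ χ, (M χ : ℂ) * (M χ : ℂ) := by
      nth_rw 2 [hexp]
      rw [Cfsg.Lib.Chars.classInner_sum_right]
      refine Finset.sum_congr rfl fun χ _ => ?_
      rw [Cfsg.Lib.Chars.classInner_smul_right, hM]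
      simp
    have h2 : Cfsg.classInner π π = (Fintype.card F : ℂ) := by
      rw [← Nat.card_eq_fintype_card (α := F), ← Cfsg.Lib.LinearPerm.card_pair_orbits (F := F) hn,
        ← Cfsg.Lib.Chars.classInner_permChar_one]
      simp only [Cfsg.Lib.Chars.classInner_def, map_one, mul_one]
      congr 1
      refine Finset.sum_congr rfl fun g _ => ?_
      simp only [π, Cfsg.Lib.Chars.permChar, map_natCast]
      rw [← Nat.cast_mul, ← Nat.card_prod]
      refine congrArg Nat.cast ?_
      exact Nat.card_congr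
        { toFun := fun v => ⟨(v.1.1, v.2.1), Prod.ext v.1.2 v.2.2⟩
          invFun := fun v => (⟨v.1.1, congrArg Prod.fst v.2⟩, ⟨v.1.2, congrArg Prod.snd v.2⟩)
          left_inv := fun _ => rfl
          right_inv := fun _ => rfl }
    exact_mod_cast h1.symm.trans h2
  have hmp : ∀ θ, m θ p = if θ = 1 then 1 else 0 := by
    intro θ
    have h := hm θ p
    rw [show ((p : G → ℂ)) = fun _ => (1 : ℂ) from rfl, classInner_tw_one (by omega)] at h
    split_ifs with h1
    · rw [if_pos h1] at h; exact_mod_cast h.symm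
    · rw [if_neg h1] at h; exact_mod_cast h.symm
  have hMp : M p = 1 := by simp [M, hmp]
  have hpos : ∀ θ, 1 ≤ ∑ χ ∈ Finset.univ.erase p, m θ χ := by
    intro θ
    by_contra hlt
    have hz : ∀ χ, χ ≠ p → m θ χ = 0 := fun χ hχ =>
      Finset.sum_eq_zero_iff.1 (show ∑ χ ∈ Finset.univ.erase p, m θ χ = 0 by omega) χ (by simp [hχ])
    have hex2 : tw (n := n) θ = (m θ p : ℂ) • (p : G → ℂ) := by
      rw [Cfsg.Lib.Chars.classFunction_expand
        (Cfsg.Lib.Chars.isClassFunction_isChar (isCharacter_tw (n := n) θ)),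
        Finset.sum_eq_single p]
      · rw [hm]
      · intro χ _ hχ
        rw [hm, hz χ hχ]; simp
      · simp
    have h1 := congrFun hex2 1
    rw [tw_one, Pi.smul_apply, show (p : G → ℂ) 1 = 1 from rfl, smul_eq_mul, mul_one,
      inv_mul_eq_iff_eq_mul₀ hq0] at h1
    have h1' : Nat.card (Cfsg.Lib.LinearPerm.NonzeroVec F n) = Fintype.card Fˣ * m θ p := by
      exact_mod_cast h1
    have hcard : Nat.card (Cfsg.Lib.LinearPerm.NonzeroVec F n) = Fintype.card F ^ n - 1 := by
      rw [Nat.card_eq_fintype_card, Fintype.card_subtype_compl, Fintype.card_subtype_eq]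
      simp
    have hle : m θ p ≤ 1 := by rw [hmp]; split_ifs <;> simp
    have h2 : Fintype.card F ^ n - 1 ≤ Fintype.card F - 1 := by
      rw [← hcard, h1', ← Fintype.card_units]
      exact (Nat.mul_le_mul_left _ hle).trans (by rw [mul_one])
    have h3 := Fintype.one_lt_card (α := F)
    have h4 : Fintype.card F ^ 2 ≤ Fintype.card F ^ n := Nat.pow_le_pow_right (by omega) (by omega)
    have h5 : Fintype.card F * 2 ≤ Fintype.card F ^ 2 := by rw [sq]; exact Nat.mul_le_mul_left _ h3
    omega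
  -- all multiplicities are at most one
  have hsq' : ∑ χ ∈ Finset.univ.erase p, M χ * M χ = Fintype.card F - 1 := by
    rw [← Finset.add_sum_erase _ _ (Finset.mem_univ p), hMp] at hsq
    omega
  have hlin : Fintype.card F - 1 ≤ ∑ χ ∈ Finset.univ.erase p, M χ := by
    rw [Finset.sum_comm]
    refine le_trans (le_of_eq ?_) (Finset.sum_le_sum fun θ _ => hpos θ)
    rw [Finset.sum_const, smul_eq_mul, mul_one, Finset.card_univ, ← Nat.card_eq_fintype_card (α := Fˣ →* ℂˣ),
      CommGroup.card_monoidHom_of_hasEnoughRootsOfUnity, Nat.card_eq_fintype_card,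
      Fintype.card_units]
  have h01 : ∀ χ ∈ Finset.univ.erase p, M χ = M χ * M χ := by
    refine (Finset.sum_eq_sum_iff_of_le fun χ _ => Nat.le_mul_self _).1 ?_
    exact le_antisymm (Finset.sum_le_sum fun χ _ => Nat.le_mul_self _) (hsq' ▸ hlin)
  let T := (Finset.univ.erase p).filter (fun χ => M χ = 1)
  have hMT : ∀ χ ∈ Finset.univ.erase p, (M χ = 1) ∨ M χ = 0 := by
    intro χ hχ
    rcases Nat.eq_zero_or_pos (M χ) with h | h
    · exact Or.inr h
    · exact Or.inl (Nat.eq_of_mul_eq_mul_left h (by rw [mul_one]; exact (h01 χ hχ).symm))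
  have hT : T.card = Fintype.card F - 1 := by
    rw [← hsq', Finset.card_filter]
    refine Finset.sum_congr rfl fun χ hχ => ?_
    rcases hMT χ hχ with h | h <;> simp [h]
  let e := T.equivFinOfCardEq hT
  refine ⟨fun i => ((e.symm i).1 : G → ℂ), fun i => (e.symm i).1.2, ?_, fun g => ?_⟩
  · intro i j hij
    exact e.symm.injective (Subtype.ext (Subtype.ext hij))
  · rw [hπcard, hexp, Finset.sum_apply, ← Finset.add_sum_erase _ _ (Finset.mem_univ p)]
    congr 1
    · rw [hMp]; simp [p, Cfsg.Lib.Chars.principal]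
    · rw [e.symm.sum_comp (fun χ : T => (χ.1 : G → ℂ) g), Finset.sum_coe_sort T (fun χ => (χ : G → ℂ) g),
        Finset.sum_filter]
      refine Finset.sum_congr rfl fun χ hχ => ?_
      rcases hMT χ hχ with h | h <;> simp [h]

end Cfsg.Agent.S2336
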