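import Cfsg.Statements.S2338
import Cfsg.Agent.Chev.GTwoDeg.One
import Cfsg.Agent.Chev.GTwoDeg.Three
import Cfsg.Agent.S1055
-- import your own Cfsg.Agent.* helpers here

set_option autoImplicit false
open Cfsg

namespace Cfsg.Agent.S2338

/-- Lower bounds for the degrees of non-linear irreducible complex representations of the Chevalley group of type G₂ over a finite field with q elements: the degree is at least q³ + 1 when q ≡ 1 (mod 3) and q > 4, at least q³ − 1 when q ≡ 2 (mod 3) and q > 2, and at least q⁴ + q² + 1 when q ≡ 0 (mod 3) and q > 3. -/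
theorem result {F : Type*} [Field F] [Fintype F] (k : ℕ) (ρ : Representation ℂ (Cfsg.Lie.chevG2.group F) (Fin k → ℂ)) (hρ : ρ.IsIrreducible) (hk : 2 ≤ k) :
    (Fintype.card F % 3 = 1 → 4 < Fintype.card F → Fintype.card F ^ 3 + 1 ≤ k) ∧
    (Fintype.card F % 3 = 2 → 2 < Fintype.card F → Fintype.card F ^ 3 - 1 ≤ k) ∧
    (Fintype.card F % 3 = 0 → 3 < Fintype.card F → Fintype.card F ^ 4 + Fintype.card F ^ 2 + 1 ≤ k) := by
  classical
  have hF : 2 < Fintype.card F → ∃ a : F, a ≠ 0 ∧ a ≠ 1 := fun h => by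
    by_contra hh
    push Not at hh
    have hsub : (Finset.univ : Finset F) ⊆ {0, 1} := fun x _ => by
      rcases eq_or_ne x 0 with h0 | h0
      · simp [h0]
      · simp [hh x h0]
    have := (Finset.card_le_card hsub).trans Finset.card_le_two
    rw [Finset.card_univ] at this
    omega
  haveI : IsSimpleOrder (Subrepresentation ρ) := hρ
  have line : ∀ v : Fin k → ℂ, (∀ g, ρ g v = v) → v = 0 := by
    intro v hv
    by_contra h0
    let S : Subrepresentation ρ :=
      ⟨Submodule.span ℂ {v}, fun g w hw => by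
        obtain ⟨c, rfl⟩ := Submodule.mem_span_singleton.1 hw
        rw [map_smul, hv]
        exact Submodule.smul_mem _ _ (Submodule.mem_span_singleton_self v)⟩
    have h1 : Module.finrank ℂ S.toSubmodule = 1 := finrank_span_singleton h0
    rcases IsSimpleOrder.eq_bot_or_eq_top S with h | h <;>
      rw [show S.toSubmodule = _ from congrArg Subrepresentation.toSubmodule h] at h1
    · rw [show ((⊥ : Subrepresentation ρ).toSubmodule) = ⊥ from rfl, finrank_bot] at h1
      exact zero_ne_one h1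
    · rw [show ((⊤ : Subrepresentation ρ).toSubmodule) = ⊤ from rfl, finrank_top, Module.finrank_fin_fun] at h1
      omega
  have hinj : 2 < Fintype.card F → Function.Injective ρ := fun h => by
    haveI := (Cfsg.Agent.S1055.result (hF h)).1
    rw [← MonoidHom.ker_eq_bot_iff]
    refine (MonoidHom.normal_ker ρ).eq_bot_or_eq_top.resolve_right fun ht => ?_
    have := line (Pi.single ⟨0, by omega⟩ 1) fun g => by
      rw [MonoidHom.mem_ker.1 (ht ▸ Subgroup.mem_top g : g ∈ MonoidHom.ker ρ)]; rfl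
    simp at this
  have hk' : Module.finrank ℂ (Fin k → ℂ) = k := Module.finrank_fin_fun ℂ
  have h3 : ∀ r, r ≠ 0 → Fintype.card F % 3 = r → (3 : F) ≠ 0 := fun r hr hq h => by
    obtain ⟨p, hp⟩ := CharP.exists F
    obtain ⟨n, hpr, hcard⟩ := FiniteField.card F p
    have hp3 : p ∣ 3 := (CharP.cast_eq_zero_iff F p 3).1 (by exact_mod_cast h)
    have e := ((Nat.dvd_prime Nat.prime_three).1 hp3).resolve_left hpr.one_lt.ne'
    subst e
    have : 3 ∣ Fintype.card F := hcard ▸ dvd_pow_self 3 n.pos.ne'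
    omega
  refine ⟨fun h1 h4 => ?_, fun h2 h4 => ?_, fun h0 h4 => ?_⟩
  · have := Cfsg.Lib.GTwoDeg.bound_one ρ h4 h1 (hinj (by omega)) line
    rwa [hk'] at this
  · have h5 : 4 < Fintype.card F := by
      have h4' : Fintype.card F ≠ 3 ∧ Fintype.card F ≠ 4 := ⟨by omega, by omega⟩
      omega
    have := Cfsg.Lib.GTwoDeg.bound_two ρ (h3 2 (by norm_num) h2) h5 (hinj (by omega))
    rwa [hk'] at this
  · have h30 : (3 : F) = 0 := by
      obtain ⟨p, hp⟩ := CharP.exists F
      obtain ⟨n, hpr, hcard⟩ := FiniteField.card F p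
      have h3p : 3 ∣ p := Nat.prime_three.dvd_of_dvd_pow (hcard ▸ Nat.dvd_of_mod_eq_zero h0)
      have e : 3 = p := (Nat.prime_dvd_prime_iff_eq Nat.prime_three hpr).1 h3p
      subst e
      exact_mod_cast CharP.cast_eq_zero F 3
    haveI : ρ.IsIrreducible := hρ
    have hdvd := Cfsg.Lib.Chars.finrank_dvd_card ρ
    rw [Cfsg.Lib.GTwoOdd.card_chevG2] at hdvd
    have := Cfsg.Lib.GTwoDeg.bound_three ρ h30 h4 (hinj (by omega)) hdvd
    rwa [hk'] at this

end Cfsg.Agent.S2338
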