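import Cfsg.Statements.S2342
import Cfsg.Agent.Chev.TwDegree.Main
-- import your own Cfsg.Agent.* helpers here

set_option autoImplicit false
open Cfsg

namespace Cfsg.Agent.S2342

/-- For the twisted group ³D₄(q), realised over the field with q³ elements (q a prime power), every irreducible complex representation of degree at least 2 has degree at least q(q⁴ − q² + 1). -/
theorem result {K : Type*} [Field K] [Fintype K] (q : ℕ) (hq : IsPrimePow q) (hK : Fintype.card K = q ^ 3) :
    (∀ (k : ℕ) (ρ : Representation ℂ (Cfsg.Lie.twistedD4 K q) (Fin k → ℂ)), ρ.IsIrreducible → 2 ≤ k → q * (q ^ 4 - q ^ 2 + 1) ≤ k) := by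
  obtain ⟨X, rfl⟩ := Cfsg.Lib.Chev.D4.exists_tw hq hK
  intro k ρ hirr hk
  haveI : Finite ↥(Cfsg.Lie.twistedD4 K X.q) := inferInstance
  haveI : IsSimpleGroup ↥(Cfsg.Lie.twistedD4 K X.q) := (Cfsg.Lib.Chev.D4.twSimple hq hK).1
  have hne : ∃ g, ρ g ≠ 1 := by
    by_contra hall
    push Not at hall
    let S : Subrepresentation ρ :=
      ⟨Submodule.span ℂ {(Pi.single ⟨0, by omega⟩ 1 : Fin k → ℂ)}, fun g v hv => by rw [hall]; exact hv⟩
    have h1 : Module.finrank ℂ S.toSubmodule = 1 := finrank_span_singleton (by simp)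
    have : IsSimpleOrder (Subrepresentation ρ) := hirr
    rcases IsSimpleOrder.eq_bot_or_eq_top S with h | h <;>
      rw [show S.toSubmodule = _ from congrArg Subrepresentation.toSubmodule h] at h1
    · rw [show ((⊥ : Subrepresentation ρ).toSubmodule) = ⊥ from rfl, finrank_bot] at h1
      exact zero_ne_one h1
    · rw [show ((⊤ : Subrepresentation ρ).toSubmodule) = ⊤ from rfl, finrank_top, Module.finrank_fin_fun] at h1
      omega
  have hinj : Function.Injective ρ := by
    rw [← MonoidHom.ker_eq_bot_iff]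
    refine (MonoidHom.normal_ker ρ).eq_bot_or_eq_top.resolve_right fun h => ?_
    obtain ⟨g, hg⟩ := hne
    exact hg (MonoidHom.mem_ker.1 (h ▸ Subgroup.mem_top g))
  have hdvd := Cfsg.Lib.Chars.finrank_dvd_card ρ
  rw [Cfsg.Lib.Chev.D4.twOrder hq hK] at hdvd
  have h := Cfsg.Lib.TwDeg.min_degree X
    (MonoidHom.comp ρ (MulEquiv.subgroupCongr (Cfsg.Lib.Chev.D4.G1_eq X)).toMonoidHom)
    (hinj.comp (MulEquiv.subgroupCongr (Cfsg.Lib.Chev.D4.G1_eq X)).injective) hdvd
  rwa [Module.finrank_fin_fun] at h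

end Cfsg.Agent.S2342
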