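import Cfsg.Statements.S2345
import Cfsg.Agent.Known.OrthMinDegree.Bound
-- import your own Cfsg.Agent.* helpers here

set_option autoImplicit false
open Cfsg

namespace Cfsg.Agent.S2345

/-- For a finite field F with q > 3 elements and n ≥ 4, every irreducible complex representation of degree at least 2 of Ω⁺_{2n}(F) (the commutator subgroup of the isometry group of the hyperbolic quadratic form x₁y₁ + ⋯ + x_ny_n) has degree at least (q^n − 1)(q^{n−1} + q)/(q² − 1). -/
theorem result {F : Type*} [Field F] [Fintype F] (n : ℕ) (hn : 4 ≤ n) (h3 : 3 < Fintype.card F) :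
    (∀ (k : ℕ) (ρ : Representation ℂ (Cfsg.Omega F (Cfsg.quadFormPlus n F)) (Fin k → ℂ)), ρ.IsIrreducible → 2 ≤ k → (Fintype.card F ^ n - 1) * (Fintype.card F ^ (n - 1) + Fintype.card F) / (Fintype.card F ^ 2 - 1) ≤ k) := by
  obtain ⟨m, rfl⟩ : ∃ m, n = m + 1 + 1 := ⟨n - 2, by omega⟩
  rw [show Cfsg.quadFormPlus (m + 1 + 1) F = ⇑(Cfsg.Lib.Classical.HypQuad.plusForm (m + 1 + 1) F) from
    funext fun x => (Cfsg.Lib.Classical.HypQuad.plusForm_apply (m + 1 + 1) x).symm]
  intro k ρ hρ hk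
  have hirr : Cfsg.Lib.SLMinDeg.IsIrr ρ := fun U hU =>
    ((hρ.eq_bot_or_eq_top ⟨U, fun g v hv => hU g v hv⟩).imp (congrArg Subrepresentation.toSubmodule)
      (congrArg Subrepresentation.toSubmodule))
  refine Nat.div_le_of_le_mul ?_
  by_contra hlt
  refine Cfsg.Lib.OrthMinDeg.small_false (by omega) ρ hirr (by rw [Module.finrank_fin_fun]; exact hk) (by omega) h3 ?_
  rw [Module.finrank_fin_fun, Cfsg.Lib.OrthMinDeg.D0]
  rw [show m + 1 + 1 - 1 = m + 1 by omega] at hlt
  omega

end Cfsg.Agent.S2345
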