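import Cfsg.Statements.S2357
import Cfsg.Agent.Chev.GTwoOdd.ReeS.Final
-- import your own Cfsg.Agent.* helpers here

set_option autoImplicit false
open Cfsg

namespace Cfsg.Agent.S2357

/-- Let R be the small Ree group over the field with q = 3^(2m+1) ≥ 27 elements and write φ for Euler's totient function. Then R has exactly q²(q²−q+1) involutions, (q²−1)(q³+1) elements of order 3, and q²(q−1)(q³+1) elements of order 6 and as many of order 9; for i > 2 dividing q−1 it has φ(i)q³(q³+1)/2 elements of order i; for i > 1 dividing (q+1)/4 it has φ(i)q³(q−1)(q²−q+1)/6 elements of order i and φ(i)q³(q−1)(q²−q+1)/2 elements of order 2i; and for i > 1 dividing q − 3^(m+1) + 1 (respectively q + 3^(m+1) + 1) it has φ(i)q³(q²−1)(q + 3^(m+1) + 1)/6 (respectively φ(i)q³(q²−1)(q − 3^(m+1) + 1)/6) elements of order i. -/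
theorem result {K : Type*} [Field K] [Fintype K] {m : ℕ} (hm : 1 ≤ m)
    (hK : Fintype.card K = 3 ^ (2 * m + 1)) :
    Nat.card {g : ↥(Cfsg.Lie.twistedG2 K (3 ^ m)) // orderOf g = 2} = (3 ^ (2 * m + 1)) ^ 2 * ((3 ^ (2 * m + 1)) ^ 2 - 3 ^ (2 * m + 1) + 1) ∧
    Nat.card {g : ↥(Cfsg.Lie.twistedG2 K (3 ^ m)) // orderOf g = 3} = ((3 ^ (2 * m + 1)) ^ 2 - 1) * ((3 ^ (2 * m + 1)) ^ 3 + 1) ∧
    Nat.card {g : ↥(Cfsg.Lie.twistedG2 K (3 ^ m)) // orderOf g = 6} = (3 ^ (2 * m + 1)) ^ 2 * (3 ^ (2 * m + 1) - 1) * ((3 ^ (2 * m + 1)) ^ 3 + 1) ∧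
    Nat.card {g : ↥(Cfsg.Lie.twistedG2 K (3 ^ m)) // orderOf g = 9} = (3 ^ (2 * m + 1)) ^ 2 * (3 ^ (2 * m + 1) - 1) * ((3 ^ (2 * m + 1)) ^ 3 + 1) ∧
    (∀ i : ℕ, 2 < i → i ∣ 3 ^ (2 * m + 1) - 1 →
      2 * Nat.card {g : ↥(Cfsg.Lie.twistedG2 K (3 ^ m)) // orderOf g = i} = Nat.totient i * (3 ^ (2 * m + 1)) ^ 3 * ((3 ^ (2 * m + 1)) ^ 3 + 1)) ∧
    (∀ i : ℕ, 1 < i → i ∣ (3 ^ (2 * m + 1) + 1) / 4 →
      6 * Nat.card {g : ↥(Cfsg.Lie.twistedG2 K (3 ^ m)) // orderOf g = i} =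
          Nat.totient i * (3 ^ (2 * m + 1)) ^ 3 * (3 ^ (2 * m + 1) - 1) * ((3 ^ (2 * m + 1)) ^ 2 - 3 ^ (2 * m + 1) + 1) ∧
        2 * Nat.card {g : ↥(Cfsg.Lie.twistedG2 K (3 ^ m)) // orderOf g = 2 * i} =
          Nat.totient i * (3 ^ (2 * m + 1)) ^ 3 * (3 ^ (2 * m + 1) - 1) * ((3 ^ (2 * m + 1)) ^ 2 - 3 ^ (2 * m + 1) + 1)) ∧
    (∀ i : ℕ, 1 < i → i ∣ 3 ^ (2 * m + 1) - 3 ^ (m + 1) + 1 →
      6 * Nat.card {g : ↥(Cfsg.Lie.twistedG2 K (3 ^ m)) // orderOf g = i} =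
        Nat.totient i * (3 ^ (2 * m + 1)) ^ 3 * ((3 ^ (2 * m + 1)) ^ 2 - 1) * (3 ^ (2 * m + 1) + 3 ^ (m + 1) + 1)) ∧
    (∀ i : ℕ, 1 < i → i ∣ 3 ^ (2 * m + 1) + 3 ^ (m + 1) + 1 →
      6 * Nat.card {g : ↥(Cfsg.Lie.twistedG2 K (3 ^ m)) // orderOf g = i} =
        Nat.totient i * (3 ^ (2 * m + 1)) ^ 3 * ((3 ^ (2 * m + 1)) ^ 2 - 1) * (3 ^ (2 * m + 1) - 3 ^ (m + 1) + 1)) := by
  obtain ⟨X, rfl⟩ := Cfsg.Lib.Chev.Ree.exists_ree hK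
  rw [Cfsg.Lib.ReeStruct.lo_eq X, Cfsg.Lib.ReeStruct.hi_eq X, ← hK]
  obtain ⟨A, B, hA, hB, rA, rB⟩ := Cfsg.Lib.ReeStruct.ref_tor X hm
  have hle : Fintype.card K ^ 2 ≤ Fintype.card K ^ 3 := Nat.pow_le_pow_right Fintype.card_pos (by omega)
  obtain ⟨j, hj⟩ : ∃ j, Fintype.card K = j + 1 := ⟨_, (Nat.sub_add_cancel Fintype.card_pos).symm⟩
  have h2 : Fintype.card K ^ 2 - 1 = (Fintype.card K - 1) * (Fintype.card K + 1) := by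
    rw [mul_comm, ← Nat.sq_sub_sq, one_pow]
  refine ⟨Cfsg.Lib.ReeStruct.count_two X hm, ?_, ?_, ?_,
    fun i hi hd => Cfsg.Lib.ReeStruct.count_i_pred X hm hi hd,
    fun i hi hd => Cfsg.Lib.ReeStruct.count_i_nn X hm hi hd,
    fun i hi hd => Cfsg.Lib.ReeStruct.count_i_tor X hA rA (Cfsg.Lib.ReeStruct.lo_mul_hi X) hi hd,
    fun i hi hd => Cfsg.Lib.ReeStruct.count_i_tor X hB rB
      ((Nat.mul_comm _ _).trans (Cfsg.Lib.ReeStruct.lo_mul_hi X)) hi hd⟩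
  · refine (Cfsg.Lib.ReeStruct.count_U X 3 (Or.inl rfl)).trans ?_
    rw [Cfsg.Lib.ReeStruct.card_Us_three, Nat.mul_comm]
  · refine (Cfsg.Lib.ReeStruct.count_six X hm).trans ?_
    rw [h2, Cfsg.Lib.ReeStruct.cube_succ X]
    ring
  · have h9 := Cfsg.Lib.ReeStruct.card_Us_nine X
    refine (Cfsg.Lib.ReeStruct.count_U X 9 (Or.inr rfl)).trans ?_
    rw [Nat.eq_sub_of_add_eq h9, Nat.mul_comm]
    congr 1
    rw [Nat.mul_sub, mul_one, ← pow_succ]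

end Cfsg.Agent.S2357
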