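import Cfsg.Statements.S2359
import Cfsg.Agent.Chev.GTwoOdd.ReeS.Final
-- import your own Cfsg.Agent.* helpers here

set_option autoImplicit false
open Cfsg

namespace Cfsg.Agent.S2359

/-- Let R be the small Ree group over the field with q = 3^(2m+1) ≥ 27 elements. If H is a cyclic subgroup of R of order (q−1)/2, then the centralizer of H in R is cyclic of order q−1, and every non-trivial subgroup of H has the same centralizer as H. If H is a cyclic subgroup of order (q+1)/4, then the centralizer of H is abelian of order q+1 with no element of order 4 (so it is the direct product of H and a group of order 4 whose non-identity elements all have order 2), and every non-trivial subgroup of H has the same centralizer as H. -/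
theorem result {K : Type*} [Field K] [Fintype K] {m : ℕ} (hm : 1 ≤ m)
    (hK : Fintype.card K = 3 ^ (2 * m + 1)) (H : Subgroup ↥(Cfsg.Lie.twistedG2 K (3 ^ m))) (hH : IsCyclic H) :
    (Nat.card H = (3 ^ (2 * m + 1) - 1) / 2 →
      IsCyclic ↥(Subgroup.centralizer (H : Set ↥(Cfsg.Lie.twistedG2 K (3 ^ m)))) ∧
        Nat.card ↥(Subgroup.centralizer (H : Set ↥(Cfsg.Lie.twistedG2 K (3 ^ m)))) = 3 ^ (2 * m + 1) - 1 ∧
        ∀ A : Subgroup ↥(Cfsg.Lie.twistedG2 K (3 ^ m)), A ≤ H → A ≠ ⊥ →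
          Subgroup.centralizer (A : Set ↥(Cfsg.Lie.twistedG2 K (3 ^ m))) = Subgroup.centralizer (H : Set ↥(Cfsg.Lie.twistedG2 K (3 ^ m)))) ∧
    (Nat.card H = (3 ^ (2 * m + 1) + 1) / 4 →
      IsMulCommutative ↥(Subgroup.centralizer (H : Set ↥(Cfsg.Lie.twistedG2 K (3 ^ m)))) ∧
        Nat.card ↥(Subgroup.centralizer (H : Set ↥(Cfsg.Lie.twistedG2 K (3 ^ m)))) = 3 ^ (2 * m + 1) + 1 ∧
        (∀ x ∈ Subgroup.centralizer (H : Set ↥(Cfsg.Lie.twistedG2 K (3 ^ m))), orderOf x ≠ 4) ∧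
        ∀ A : Subgroup ↥(Cfsg.Lie.twistedG2 K (3 ^ m)), A ≤ H → A ≠ ⊥ →
          Subgroup.centralizer (A : Set ↥(Cfsg.Lie.twistedG2 K (3 ^ m))) = Subgroup.centralizer (H : Set ↥(Cfsg.Lie.twistedG2 K (3 ^ m)))) := by
  obtain ⟨X, rfl⟩ := Cfsg.Lib.Chev.Ree.exists_ree hK
  rw [← hK]
  have h27 := Cfsg.Lib.ReeStruct.NN_ge X hm
  obtain ⟨k, hk, hn, hh⟩ := Cfsg.Lib.ReeStruct.q_param X
  refine ⟨fun hc => ?_, fun hc => ?_⟩
  · have hc' : Nat.card ↥(H : Subgroup ↥X.G1) = Cfsg.Lib.ReeStruct.hq2 X := hc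
    obtain ⟨g, he, hA⟩ := (Cfsg.Lib.ReeStruct.ref_Hs X).centralizer hH hc' (by omega)
    refine ⟨?_, ?_, hA⟩
    · haveI := Cfsg.Lib.ReeStruct.cyclic_Hs X
      exact isCyclic_of_surjective _
        ((MulEquiv.subgroupMap (MulAut.conj g) (Cfsg.Lib.ReeStruct.Hs X)).trans (MulEquiv.subgroupCongr he.symm)).surjective
    · exact (Nat.card_congr (MulEquiv.subgroupCongr he).toEquiv).trans
        ((Subgroup.card_map_of_injective (MulAut.conj g).injective).trans (Cfsg.Lib.ReeStruct.card_Hs X))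
  · have hc' : Nat.card ↥(H : Subgroup ↥X.G1) = Cfsg.Lib.ReeStruct.nn X := hc
    obtain ⟨g, he, hA⟩ := (Cfsg.Lib.ReeStruct.ref_T0 X hm).centralizer hH hc' (by omega)
    refine ⟨?_, ?_, ?_, hA⟩
    · refine ⟨⟨fun a b => ?_⟩⟩
      obtain ⟨x, hx, ex⟩ := (SetLike.ext_iff.1 he _).1 a.2
      obtain ⟨y, hy, ey⟩ := (SetLike.ext_iff.1 he _).1 b.2
      refine Subtype.ext ?_
      show (a.1 : ↥X.G1) * b.1 = b.1 * a.1
      rw [← ex, ← ey]
      exact (map_mul _ x y).symm.trans ((congrArg _ (Cfsg.Lib.ReeStruct.T0_comm X hx hy)).trans (map_mul _ y x))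
    · exact (Nat.card_congr (MulEquiv.subgroupCongr he).toEquiv).trans
        ((Subgroup.card_map_of_injective (MulAut.conj g).injective).trans (Cfsg.Lib.ReeStruct.card_T0 X))
    · intro x hx h4
      obtain ⟨y, hy, ey⟩ := (SetLike.ext_iff.1 he _).1 hx
      have h := orderOf_dvd_of_pow_eq_one (Cfsg.Lib.ReeStruct.T0_pow X hy)
      have e : orderOf x = orderOf y :=
        (congrArg orderOf ey.symm).trans (orderOf_injective _ (MulAut.conj g).injective y)
      rw [← e, h4] at h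
      omega

end Cfsg.Agent.S2359
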