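import Cfsg.Statements.S2362
import Cfsg.Agent.Known.SympOrders.Spectrum
import Cfsg.Agent.Known.OrthSpectrum.Odd
import Cfsg.Agent.Components.Misc.Zsigmondy
import Cfsg.Agent.Classical.Orth.POmegaCard
-- import your own Cfsg.Agent.* helpers here

set_option autoImplicit false
open Cfsg

namespace Cfsg.Agent.S2362

/-- Let F be a finite field of odd order and n ≥ 3. The simple orthogonal group PΩ(2n+1, F) (type B_n) and the projective symplectic group PSp(2n, F) (type C_n), which have the same order, do not have the same set of element orders. -/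
theorem result {F : Type*} [Field F] [Fintype F] (hodd : Odd (Fintype.card F)) (n : ℕ) (hn : 3 ≤ n) :
    Set.range (orderOf : Cfsg.POmega F (Cfsg.quadFormOdd n F) → ℕ) ≠ Set.range (orderOf : Cfsg.PSp n F → ℕ) := by
  classical
  obtain ⟨m, rfl⟩ : ∃ m, n = m + 1 := ⟨n - 1, by omega⟩
  have h2 : (2 : F) ≠ 0 := Cfsg.Lib.Classical.Refl.two_ne_zero_of_odd hodd
  obtain ⟨p, _⟩ := CharP.exists F
  haveI : Fact p.Prime := ⟨CharP.char_is_prime F p⟩
  have hp := (Fact.out : p.Prime)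
  set q := Fintype.card F with hq
  have hq1 : 1 < q := Fintype.one_lt_card
  obtain ⟨r, hr, hrd, hrk⟩ := Cfsg.Lib.Zsigmondy.zsigmondy q (2 * m) hq1 (by omega)
    (fun h => by rw [h.1] at hodd; exact absurd hodd (by decide)) (fun h => by omega)
  haveI := Fact.mk hr
  have hqr : orderOf (q : ZMod r) = 2 * m := by
    have hcast : ∀ k, (q : ZMod r) ^ k = 1 ↔ r ∣ q ^ k - 1 := fun k => by
      rw [← ZMod.natCast_eq_zero_iff, Nat.cast_sub (Nat.one_le_pow _ _ (by omega)), Nat.cast_pow, Nat.cast_one,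
        sub_eq_zero]
    exact (orderOf_eq_iff (by omega)).2 ⟨(hcast _).2 hrd, fun k hk hk0 e => hrk k hk0 hk ((hcast k).1 e)⟩
  intro heq
  obtain ⟨⟨t, ht⟩, -⟩ := Cfsg.Lib.SympOrders.exists_torus (F := F) (show 1 ≤ m by omega)
  obtain ⟨v, hv⟩ := Cfsg.Lib.SympOrders.exists_unip (F := F) (p := p) h2 (le_refl 1) (i := 1)
    (Nat.clog_pos hp.one_lt (by norm_num))
  rw [pow_one] at hv
  have hpN : ¬ p ∣ q ^ m + 1 := fun h => by
    obtain ⟨k, -, hk⟩ := FiniteField.card F p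
    exact hp.not_dvd_one ((Nat.dvd_add_right (dvd_pow (show p ∣ q by
      rw [hq, hk]; exact dvd_pow_self p k.pos.ne') (by omega : m ≠ 0))).1 h)
  have ho := Cfsg.Lib.SympOrders.orderOf_block (F := F) (p := p) (le_refl 1) t v (k := 1)
    (by rw [pow_one, ← hv, pow_orderOf_eq_one])
  rw [ht, hv, ((hp.coprime_iff_not_dvd.2 hpN).symm).lcm_eq_mul, mul_comm] at ho
  have hmem : p * (q ^ m + 1) ∈ Set.range (orderOf : Cfsg.POmega F (Cfsg.quadFormOdd (m + 1) F) → ℕ) := by
    rw [heq]; exact ⟨_, ho⟩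
  have hnd := Cfsg.Lib.Classical.Refl.oddForm_nondegenerate (F := F) h2 (m + 1)
  rw [← Cfsg.Lib.Classical.Refl.oddForm_coe] at hmem
  set Q := Cfsg.Lib.Classical.Refl.oddForm (m + 1) F with hQ
  obtain ⟨x, hx⟩ := hmem
  obtain ⟨g, rfl⟩ := QuotientGroup.mk_surjective x
  have hι : Fintype.card (Unit ⊕ (Fin (m + 1) ⊕ Fin (m + 1))) = 2 * m + 3 := by simp; omega
  have hdet : ∀ h ∈ Cfsg.Omega F (⇑Q), (Cfsg.Lib.Classical.Refl.mat Q h).det = 1 := fun h hh =>
    congrArg Units.val (Cfsg.Lib.Classical.Refl.hom_eq_one_of_omega Q (Cfsg.Lib.Classical.Refl.detHom Q) hh)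
  have hz := Cfsg.Lib.Classical.Refl.center_card_one Q hnd (by omega) fun h hh e => by
    exfalso
    have h3 := hdet h hh
    rw [e, Matrix.det_neg, Matrix.det_one, mul_one, hι, Odd.neg_one_pow ⟨m + 1, by omega⟩] at h3
    exact h2 (by linear_combination -h3)
  have hg : orderOf (g : Cfsg.isometryGroup F (⇑Q)) = p * (q ^ m + 1) := by
    rw [← hx, Subgroup.orderOf_coe]
    refine Nat.dvd_antisymm ?_ (orderOf_map_dvd (QuotientGroup.mk' _) g)
    apply orderOf_dvd_of_pow_eq_one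
    have h1 := pow_orderOf_eq_one (QuotientGroup.mk g : Cfsg.POmega F (⇑Q))
    rw [← QuotientGroup.mk_pow, QuotientGroup.eq_one_iff] at h1
    exact (Subgroup.eq_bot_iff_forall _).1 (Subgroup.card_eq_one.1 hz) _ h1
  exact Cfsg.Lib.OrthSpectrum.no_element Q p h2 hnd (show 2 ≤ m by omega) hι hqr g.1 hg
    (Cfsg.Lib.Classical.Refl.hom_eq_one_of_omega Q (Cfsg.Lib.Classical.Refl.spin Q) g.2) (hdet _ g.2)

end Cfsg.Agent.S2362
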