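import Cfsg.Statements.S2364
import Cfsg.Agent.Classical.SL
import Cfsg.Agent.Classical.Misc.CommutingUnipotent

set_option autoImplicit false
open Cfsg

namespace Cfsg.Agent.S2364

/-- Let F be a finite field of characteristic p, n ≥ 4, and let a, b be commuting elements of PSL(n, F) with a of order p. Then every prime divisor of the order of b divides the order of SL(n − 2, F). -/
theorem result {F : Type*} [Field F] [Fintype F] (p : ℕ) [Fact p.Prime] [CharP F p] (n : ℕ) (hn : 4 ≤ n)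
    (a b : Matrix.ProjectiveSpecialLinearGroup (Fin n) F) (ha : orderOf a = p) (hab : Commute a b) :
    (orderOf b).primeFactors ⊆ (Nat.card (Matrix.SpecialLinearGroup (Fin (n - 2)) F)).primeFactors := by
  classical
  haveI : Nonempty (Fin n) := ⟨⟨0, by omega⟩⟩
  intro r hr
  rw [Nat.mem_primeFactors] at hr ⊢
  obtain ⟨hr, hrb, -⟩ := hr
  refine ⟨hr, ?_, Nat.card_pos.ne'⟩
  let π := QuotientGroup.mk' (Subgroup.center (Matrix.SpecialLinearGroup (Fin n) F))
  obtain ⟨B, hB⟩ := QuotientGroup.mk'_surjective (Subgroup.center (Matrix.SpecialLinearGroup (Fin n) F)) b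
  obtain ⟨A₀, hA₀⟩ := QuotientGroup.mk'_surjective (Subgroup.center (Matrix.SpecialLinearGroup (Fin n) F)) a
  set c := Nat.card (Subgroup.center (Matrix.SpecialLinearGroup (Fin n) F)) with hc
  have hcp : c.Coprime p := by
    rw [Nat.coprime_comm, (Fact.out : p.Prime).coprime_iff_not_dvd]
    intro hd
    rw [hc, Cfsg.Lib.Classical.card_center_SL] at hd
    have h1 := hd.trans (Nat.gcd_dvd_right _ _)
    obtain ⟨k, hp, hq⟩ := FiniteField.card F p
    rw [Nat.card_eq_fintype_card] at h1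
    have h2 : p ∣ Fintype.card F := hq ▸ dvd_pow_self p k.ne_zero
    have h3 := Nat.dvd_sub h2 h1
    rw [Nat.sub_sub_self Fintype.one_lt_card.le, Nat.dvd_one] at h3
    exact hp.ne_one h3
  have hz : ∀ z ∈ Subgroup.center (Matrix.SpecialLinearGroup (Fin n) F), z ^ c = 1 := fun z hz =>
    congrArg Subtype.val (pow_card_eq_one' (x := (⟨z, hz⟩ : Subgroup.center (Matrix.SpecialLinearGroup (Fin n) F))))
  obtain ⟨k, hk⟩ := Nat.exists_mul_mod_eq_one_of_coprime hcp (Fact.out : p.Prime).one_lt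
  have hA₀p : A₀ ^ p ∈ Subgroup.center (Matrix.SpecialLinearGroup (Fin n) F) := by
    rw [← QuotientGroup.eq_one_iff]
    change π (A₀ ^ p) = 1
    rw [map_pow]
    exact hA₀.symm ▸ (ha ▸ pow_orderOf_eq_one a)
  have hAp : (A₀ ^ (c * k)) ^ p = 1 := by
    rw [← pow_mul, mul_comm, pow_mul, pow_mul, hz _ hA₀p, one_pow]
  have hAa : π (A₀ ^ (c * k)) = a := by
    rw [map_pow]
    change (QuotientGroup.mk' _ A₀) ^ (c * k) = a
    rw [hA₀, ← pow_mod_orderOf, ha, hk.2, pow_one]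
  have hA1 : A₀ ^ (c * k) ≠ 1 := by
    intro h1
    rw [h1, map_one] at hAa
    rw [← hAa, orderOf_one] at ha
    exact (Fact.out : p.Prime).one_lt.ne ha
  obtain ⟨A, hA⟩ : ∃ A, A = A₀ ^ (c * k) := ⟨_, rfl⟩
  rw [← hA] at hAp hAa hA1
  have hcomm : Commute A B := by
    obtain ⟨ζ, hζ⟩ : ∃ ζ, ζ = A⁻¹ * (B * A * B⁻¹) := ⟨_, rfl⟩
    have hζc : ζ ∈ Subgroup.center (Matrix.SpecialLinearGroup (Fin n) F) := by
      rw [← QuotientGroup.eq_one_iff]
      change π ζ = 1
      rw [hζ, map_mul, map_mul, map_mul, map_inv, map_inv, hAa]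
      change a⁻¹ * (QuotientGroup.mk' _ B * a * (QuotientGroup.mk' _ B)⁻¹) = 1
      rw [hB, ← hab.eq, mul_inv_cancel_right, inv_mul_cancel]
    have h1 : B * A * B⁻¹ = A * ζ := by rw [hζ, mul_inv_cancel_left]
    have h2 : (A * ζ) ^ p = 1 := by rw [← h1, conj_pow, hAp, mul_one, mul_inv_cancel]
    have h3 : Commute A ζ := Subgroup.mem_center_iff.1 hζc A
    rw [h3.mul_pow, hAp, one_mul] at h2
    have h4 : ζ ^ Nat.gcd c p = 1 := pow_gcd_eq_one.2 ⟨hz ζ hζc, h2⟩
    rw [hcp.gcd_eq_one, pow_one] at h4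
    rw [h4, mul_one, mul_inv_eq_iff_eq_mul] at h1
    exact h1.symm
  have hrB : r ∣ orderOf B := hrb.trans (hB ▸ orderOf_map_dvd π B)
  exact Cfsg.Lib.CommUnipotent.dvd_card_SL_of_commute (p := p) hn A (B ^ (orderOf B / r)) hA1 hAp
    (hcomm.pow_right _) hr (orderOf_pow_orderOf_div (orderOf_pos B).ne' hrB)

end Cfsg.Agent.S2364
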