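import Cfsg.Statements.S2365
import Cfsg.Agent.Classical.Unitary.Matrix
import Cfsg.Agent.Classical.Misc.UnitaryCommutingUnipotent

set_option autoImplicit false
open Cfsg

namespace Cfsg.Agent.S2365

/-- Let q be a power of the prime p, F the field with q² elements, m ≥ 4, and let a, b be commuting elements of PSU(m, q) with a of order p. Then every prime divisor of the order of b divides the order of SU(m − 2, q). -/
theorem result {F : Type*} [Field F] [Fintype F] (p : ℕ) [Fact p.Prime] [CharP F p] (m q : ℕ) (hm : 4 ≤ m) (hF : Fintype.card F = q ^ 2)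
    (a b : Cfsg.PSU m F q) (ha : orderOf a = p) (hab : Commute a b) :
    (orderOf b).primeFactors ⊆ (Nat.card ↥(Cfsg.SU (m - 2) F q)).primeFactors := by
  classical
  haveI : Nonempty (Fin m) := ⟨⟨0, by omega⟩⟩
  intro r hr
  rw [Nat.mem_primeFactors] at hr ⊢
  obtain ⟨hr, hrb, -⟩ := hr
  refine ⟨hr, ?_, Nat.card_pos.ne'⟩
  let π := QuotientGroup.mk' (Subgroup.center (Cfsg.SU m F q))
  obtain ⟨B, hB⟩ := QuotientGroup.mk'_surjective (Subgroup.center (Cfsg.SU m F q)) b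
  obtain ⟨A₀, hA₀⟩ := QuotientGroup.mk'_surjective (Subgroup.center (Cfsg.SU m F q)) a
  set c := Nat.card (Subgroup.center (Cfsg.SU m F q)) with hc
  have hcp : c.Coprime p := by
    rw [Nat.coprime_comm, (Fact.out : p.Prime).coprime_iff_not_dvd]
    intro hd
    rw [hc, Cfsg.Lib.Classical.card_center_SU hF (by omega)] at hd
    have h1 := hd.trans (Nat.gcd_dvd_right _ _)
    obtain ⟨j, hj0, hj⟩ := Cfsg.Lib.UnitaryCommUnipotent.exists_q_eq_pow (p := p) hF
    have h2 : p ∣ q := hj ▸ dvd_pow_self p (by omega)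
    exact (Fact.out : p.Prime).ne_one (Nat.dvd_one.1 ((Nat.dvd_add_right h2).1 h1))
  have hz : ∀ z ∈ Subgroup.center (Cfsg.SU m F q), z ^ c = 1 := fun z hz =>
    congrArg Subtype.val (pow_card_eq_one' (x := (⟨z, hz⟩ : Subgroup.center (Cfsg.SU m F q))))
  obtain ⟨k, hk⟩ := Nat.exists_mul_mod_eq_one_of_coprime hcp (Fact.out : p.Prime).one_lt
  have hA₀p : A₀ ^ p ∈ Subgroup.center (Cfsg.SU m F q) := by
    rw [← QuotientGroup.eq_one_iff]
    change π (A₀ ^ p) = 1
    rw [map_pow]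
    exact hA₀.symm ▸ (ha ▸ pow_orderOf_eq_one a)
  have hAp : (A₀ ^ (c * k)) ^ p = 1 := by
    rw [← pow_mul, mul_comm, pow_mul, pow_mul, hz _ hA₀p, one_pow]
  have hAa : π (A₀ ^ (c * k)) = a := by
    rw [map_pow]
    change (QuotientGroup.mk' _ A₀) ^ (c * k) = a
    rw [hA₀, ← pow_mod_orderOf, ha, hk.2, pow_one]
  have hA1 : A₀ ^ (c * k) ≠ 1 := by
    intro h1
    rw [h1, map_one] at hAa
    rw [← hAa, orderOf_one] at ha
    exact (Fact.out : p.Prime).one_lt.ne ha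
  obtain ⟨A, hA⟩ : ∃ A, A = A₀ ^ (c * k) := ⟨_, rfl⟩
  rw [← hA] at hAp hAa hA1
  have hcomm : Commute A B := by
    obtain ⟨ζ, hζ⟩ : ∃ ζ, ζ = A⁻¹ * (B * A * B⁻¹) := ⟨_, rfl⟩
    have hζc : ζ ∈ Subgroup.center (Cfsg.SU m F q) := by
      rw [← QuotientGroup.eq_one_iff]
      change π ζ = 1
      rw [hζ, map_mul, map_mul, map_mul, map_inv, map_inv, hAa]
      change a⁻¹ * (QuotientGroup.mk' _ B * a * (QuotientGroup.mk' _ B)⁻¹) = 1
      rw [hB, ← hab.eq, mul_inv_cancel_right, inv_mul_cancel]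
    have h1 : B * A * B⁻¹ = A * ζ := by rw [hζ, mul_inv_cancel_left]
    have h2 : (A * ζ) ^ p = 1 := by rw [← h1, conj_pow, hAp, mul_one, mul_inv_cancel]
    have h3 : Commute A ζ := Subgroup.mem_center_iff.1 hζc A
    rw [h3.mul_pow, hAp, one_mul] at h2
    have h4 : ζ ^ Nat.gcd c p = 1 := pow_gcd_eq_one.2 ⟨hz ζ hζc, h2⟩
    rw [hcp.gcd_eq_one, pow_one] at h4
    rw [h4, mul_one, mul_inv_eq_iff_eq_mul] at h1
    exact h1.symm
  have hrB : r ∣ orderOf B := hrb.trans (hB ▸ orderOf_map_dvd π B)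
  exact Cfsg.Lib.UnitaryCommUnipotent.dvd_card_SU_of_commute (p := p) hF hm A (B ^ (orderOf B / r)) hA1 hAp
    (hcomm.pow_right _) hr (orderOf_pow_orderOf_div (orderOf_pos B).ne' hrB)

end Cfsg.Agent.S2365
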