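import Cfsg.Statements.S2368
import Cfsg.Agent.Known.UnipotentBasics
import Cfsg.Agent.Known.RegularNilpotent
import Cfsg.Agent.Known.SLUnit

set_option autoImplicit false
open Cfsg Matrix

namespace Cfsg.Agent.S2368

/-- Let F be a finite field of characteristic p and m ≥ 1. Every element of GL(m, F) of p-power order has order less than p·m, and GL(m, F) has an element of p-power order at least m; so the largest order of a p-element of GL(m, F) is the least power of p that is at least m. -/
theorem result {F : Type*} [Field F] [Fintype F] (p : ℕ) [Fact p.Prime] [CharP F p] (m : ℕ) (hm : 1 ≤ m) :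
    (∀ g : Matrix.GeneralLinearGroup (Fin m) F, (∃ j : ℕ, orderOf g = p ^ j) → orderOf g < p * m) ∧
      ∃ g : Matrix.GeneralLinearGroup (Fin m) F, (∃ j : ℕ, orderOf g = p ^ j) ∧ m ≤ orderOf g := by
  have hp : p.Prime := Fact.out
  constructor
  · rintro g ⟨j, hj⟩
    have hd := Cfsg.Lib.Known.Unip.orderOf_dvd p g
      (Cfsg.Lib.Known.Unip.isNilpotent_sub_one p g (j := j) (by rw [← hj, pow_orderOf_eq_one]))
    have hle := Nat.le_of_dvd (pow_pos hp.pos _) hd
    rcases Nat.lt_or_ge 1 m with h | h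
    · have h1 := Nat.pow_pred_clog_lt_self hp.one_lt h
      have h2 : 0 < Nat.clog p m := Nat.clog_pos hp.one_lt h
      obtain ⟨a, ha⟩ : ∃ a, Nat.clog p m = a + 1 := ⟨Nat.clog p m - 1, by omega⟩
      rw [ha] at hle
      rw [ha, Nat.pred_succ] at h1
      calc orderOf g ≤ p ^ a * p := by rwa [← pow_succ]
        _ < p * m := by rw [mul_comm]; exact Nat.mul_lt_mul_of_pos_left h1 hp.pos
    · obtain rfl : m = 1 := by omega
      rw [Nat.clog_one_right, pow_zero] at hle
      have := hp.one_lt
      omega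
  · rcases Nat.lt_or_ge 1 m with h | h
    · have h1 := Nat.pow_pred_clog_lt_self hp.one_lt h
      have h2 : 0 < Nat.clog p m := Nat.clog_pos hp.one_lt h
      obtain ⟨a, ha⟩ : ∃ a, Nat.clog p m = a + 1 := ⟨Nat.clog p m - 1, by omega⟩
      rw [ha, Nat.pred_succ] at h1
      have h3 := Nat.le_pow_clog hp.one_lt m
      rw [ha] at h3
      obtain ⟨g, hg⟩ := Cfsg.Lib.Known.exists_gl_orderOf_prime_pow (F := F) p m a h1 h3
      exact ⟨g, ⟨a + 1, hg⟩, by rw [hg]; exact h3⟩
    · obtain rfl : m = 1 := by omega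
      exact ⟨1, ⟨0, by simp⟩, by simp⟩

end Cfsg.Agent.S2368
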