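import Cfsg.Statements.S2369
import Cfsg.Agent.Chev.Ree.F4.InvParab
-- import your own Cfsg.Agent.* helpers here

set_option autoImplicit false
open Cfsg

namespace Cfsg.Agent.S2369

/-- Let q = 2^(2m+1) with m ≥ 1 and let a, b be commuting elements of the large Ree group ²F₄(q) with a an involution. Then every prime divisor of the order of b divides q(q⁴ − 1). -/
theorem result {K : Type*} [Field K] [Fintype K] (m : ℕ) (hm : 1 ≤ m) (hK : Fintype.card K = 2 ^ (2 * m + 1))
    (a b : ↥(Cfsg.Lie.twistedF4 K (2 ^ m))) (ha : orderOf a = 2) (hab : Commute a b) :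
    (orderOf b).primeFactors ⊆ (2 ^ (2 * m + 1) * ((2 ^ (2 * m + 1)) ^ 4 - 1)).primeFactors := by
  obtain ⟨X, hX⟩ := Cfsg.Lib.Chev.ReeF.exists_rf hK
  haveI := X.char2
  have key : ∀ e, X.e = e → ∀ a b : ↥(Cfsg.Lie.twistedF4 K e), orderOf a = 2 → Commute a b →
      (orderOf b).primeFactors ⊆ (Fintype.card K * (Fintype.card K ^ 4 - 1)).primeFactors := by
    intro e he a b ha hab
    subst he
    rw [← Subgroup.orderOf_coe b]
    exact X.cent_primes a.2 b.2 ((Subgroup.orderOf_coe a).trans ha) (congrArg Subtype.val hab.eq)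
  have h := key (2 ^ m) (by simp [Cfsg.Lib.Chev.ReeF.RF.e, hX]) a b ha hab
  rwa [hK] at h

end Cfsg.Agent.S2369
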