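import Cfsg.Statements.S2371
import Cfsg.Agent.Chev.Singer.Main
-- import your own Cfsg.Agent.* helpers here

set_option autoImplicit false
open Cfsg

namespace Cfsg.Agent.S2371

/-- The group G₂(q), q ≥ 3, contains a cyclic subgroup of order q² + q + 1 which is its own centralizer. -/
theorem result {F : Type*} [Field F] [Fintype F] (q : ℕ) (hF : Fintype.card F = q) (hq : 3 ≤ q) :
    ∃ H : Subgroup ↥(Cfsg.Lie.chevG2.group F), IsCyclic ↥H ∧ Nat.card ↥H = q ^ 2 + q + 1 ∧
      Subgroup.centralizer (H : Set ↥(Cfsg.Lie.chevG2.group F)) = H := by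
  classical
  obtain ⟨p, hc⟩ := CharP.exists F
  have : Fact p.Prime := ⟨CharP.char_is_prime F p⟩
  have : NeZero 3 := ⟨by decide⟩
  rw [← Nat.card_eq_fintype_card] at hF
  let K := FiniteField.Extension F p 3
  let σ : K →+* K := (FiniteField.Extension.frob F p 3).toRingEquiv.toRingHom
  have hσ : ∀ x, σ x = x ^ Nat.card F := fun x => FiniteField.Extension.frob_apply F p 3
  have hfix : ∀ x, σ x = x → x ∈ Set.range (algebraMap F K) := by
    intro x hx
    refine (IsGalois.mem_range_algebraMap_iff_fixed x).2 fun f => ?_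
    obtain ⟨i, -, rfl⟩ := FiniteField.Extension.exists_frob_pow_eq F p 3 f
    induction i with
    | zero => rfl
    | succ i ih => rw [pow_succ, AlgEquiv.mul_apply]; rw [show (FiniteField.Extension.frob F p 3) x = x from hx, ih]
  obtain ⟨x0, hx0, hord, hcent⟩ := Cfsg.Lib.Chev.Singer.exists_singer (K := K)
    (FiniteField.finrank_extension F p 3) (hF ▸ hq) σ hσ hfix
  refine ⟨Subgroup.zpowers ⟨x0, hx0⟩, inferInstance, ?_, le_antisymm ?_ ?_⟩
  · rw [Nat.card_zpowers, ← hF, ← hord]
    exact (orderOf_injective (Cfsg.Lie.chevG2.group F).subtype Subtype.val_injective _).symm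
  · intro g hg
    have h := congrArg Subtype.val (Subgroup.mem_centralizer_iff.1 hg _ (Subgroup.mem_zpowers _))
    obtain ⟨k, hk⟩ := hcent g g.2 h.symm
    exact ⟨k, Subtype.ext (by simpa using hk)⟩
  · intro g hg
    refine Subgroup.mem_centralizer_iff.2 fun y hy => ?_
    obtain ⟨a, rfl⟩ := hg
    obtain ⟨b, rfl⟩ := hy
    exact ((Commute.refl (⟨x0, hx0⟩ : ↥(Cfsg.Lie.chevG2.group F))).zpow_zpow b a).eq

end Cfsg.Agent.S2371
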