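import Cfsg.Statements.S2372
import Cfsg.Agent.Chev.Springer.Data
-- import your own Cfsg.Agent.* helpers here

set_option autoImplicit false
open Cfsg

namespace Cfsg.Agent.S2372

/-- The group F₄(q) contains a cyclic subgroup of order q⁴ + 1 which is its own centralizer. -/
theorem result {F : Type*} [Field F] [Fintype F] (q : ℕ) (hF : Fintype.card F = q) :
    ∃ H : Subgroup ↥(Cfsg.Lie.chevF4.group F), IsCyclic ↥H ∧ Nat.card ↥H = q ^ 4 + 1 ∧
      Subgroup.centralizer (H : Set ↥(Cfsg.Lie.chevF4.group F)) = H := by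
  classical
  have hq : 2 ≤ q := hF ▸ Fintype.one_lt_card
  have hev : (Polynomial.cyclotomic 8 ℤ).eval (q : ℤ) = ((q ^ 4 + 1 : ℕ) : ℤ) := by
    rw [show 8 = 2 ^ (2 + 1) by norm_num, Polynomial.cyclotomic_prime_pow_eq_geom_sum Nat.prime_two]
    simp [Finset.sum_range_succ]
    ring
  have hmod4 : ¬ 4 ∣ q ^ 4 + 1 := by
    intro h
    have h0 : ((q ^ 4 + 1 : ℕ) : ZMod 4) = 0 := (ZMod.natCast_eq_zero_iff _ _).2 h
    push_cast at h0
    revert h0; generalize (q : ZMod 4) = y; revert y; decide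
  have hbad : ∀ ℓ : ℕ, ℓ.Prime → ℓ ∣ q ^ 4 + 1 → ¬ ℓ ∣ 8 ∨ ¬ ℓ ^ 2 ∣ q ^ 4 + 1 := by
    intro ℓ hℓ _
    by_cases h : ℓ ∣ 8
    · have : ℓ = 2 := (Nat.prime_dvd_prime_iff_eq hℓ Nat.prime_two).1
        (hℓ.dvd_of_dvd_pow (show ℓ ∣ 2 ^ 3 from h))
      subst this
      exact Or.inr hmod4
    · exact Or.inl h
  obtain ⟨r, hr, hr2, hrN⟩ : ∃ r : ℕ, r.Prime ∧ r ≠ 2 ∧ r ∣ q ^ 4 + 1 := by
    by_contra hc
    push Not at hc
    have hpow := Nat.eq_prime_pow_of_unique_prime_dvd (n := q ^ 4 + 1) (p := 2) (by omega)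
      (fun {d} hd hdv => by
        by_contra hne
        exact hc d hd hne hdv)
    obtain ⟨a, ha⟩ : ∃ a, a = (q ^ 4 + 1).primeFactorsList.length := ⟨_, rfl⟩
    rw [← ha] at hpow
    have : 16 ≤ q ^ 4 := by simpa using Nat.pow_le_pow_left hq 4
    rcases (show a = 0 ∨ a = 1 ∨ 2 ≤ a by omega) with rfl | rfl | h2
    · omega
    · omega
    · exact hmod4 (hpow ▸ pow_dvd_pow 2 h2)
  have hre : ¬ r ∣ 8 := fun h =>
    hr2 ((Nat.prime_dvd_prime_iff_eq hr Nat.prime_two).1 (hr.dvd_of_dvd_pow (show r ∣ 2 ^ 3 from h)))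
  rw [← hF] at hev
  obtain ⟨H, h1, h2, h3⟩ := Cfsg.Lib.Chev.Springer.exists_torus_deg (F := F) Cfsg.Lib.Chev.Springer.F4_dat
    Cfsg.Lib.Chev.St.okTorus_F4 Cfsg.Lib.Chev.F4.poincare (by decide) (b := 12)
    Cfsg.Lib.Chev.Springer.F4_natCard_WG (by decide) (Cfsg.Lib.Chev.F4.card_torus rfl) (e := 8) (by decide)
    (by decide) (by decide)
    (fun r' hr' h => by
      by_contra hle
      have : r' = 9 ∨ r' = 1 := by omega
      rcases this with rfl | rfl <;> norm_num at hr')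
    hev (by omega) (hF.symm ▸ hbad) hr (hF.symm ▸ hrN) hre (by norm_num)
  exact ⟨H, h1, hF ▸ h2, h3⟩

end Cfsg.Agent.S2372
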