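import Cfsg.Agent.Chev.CyclicTorus.E6.Main
import Cfsg.Agent.Chev.Types
import Cfsg.Agent.Chev.St.CenterData

set_option autoImplicit false
open Cfsg

namespace Cfsg.Agent.S2373

open Cfsg.Lib.CyclicTorus Cfsg.Lib.Chev Polynomial in
/-- The group E₆(q) (the simple Chevalley group of type E₆) contains a cyclic subgroup of order (q⁴ − q² + 1)(q² + q + 1)/gcd(3, q − 1) which is its own centralizer. -/
theorem result {F : Type*} [Field F] [Fintype F] (q : ℕ) (hF : Fintype.card F = q) :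
    ∃ H : Subgroup ↥(Cfsg.Lie.chevE6.group F), IsCyclic ↥H ∧ Nat.card ↥H = (q ^ 4 - q ^ 2 + 1) * (q ^ 2 + q + 1) / Nat.gcd 3 (q - 1) ∧
      Subgroup.centralizer (H : Set ↥(Cfsg.Lie.chevE6.group F)) = H := by
  subst hF
  let X : Emb Cfsg.Lie.chevE6 E6.cert Cfsg.Lie.chevE7 E7.cert :=
    { S := E6.struct, hN := okNeg_E6, ok := ⟨_, St.okSt_E6⟩, S' := E7.struct, io := _, hio := St.okEmb_E6,
      d := 3, k := _, v := _, w := _, B := _, ht := St.okTorus_E6, p := _, hp := St.okCol_E6,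
      hcart := by decide +kernel }
  obtain ⟨a, ha⟩ := exists_uni (D := Cfsg.Lie.chevE6) (M := [[4, 3, 5, 6, 4, 2], [3, 6, 6, 9, 6, 3],
    [5, 6, 10, 12, 8, 4], [6, 9, 12, 18, 12, 6], [4, 6, 8, 12, 10, 5], [2, 3, 4, 6, 5, 4]]) (d := 3)
    (by decide +kernel)
  obtain ⟨r, hr, hrd, hprim⟩ := exists_primitive_prime (d := 12) (Fintype.one_lt_card (α := F)) (by norm_num)
    (by norm_num)
  haveI := Fact.mk hr
  have h13 : 13 ≤ r := by
    have := Nat.le_of_dvd (by have := hr.two_le; omega) hrd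
    omega
  have hW : ¬ r ∣ Nat.card ↥X.S.WG := fun h => by
    rw [show Nat.card ↥X.S.WG = 51840 from
      by exact_mod_cast (E6.struct.natCard_WG E6.poincare).trans E6.weylCard,
      show (51840 : ℕ) = 2 ^ 7 * (3 ^ 4 * 5) by norm_num] at h
    rcases hr.dvd_mul.1 h with h | h
    · have := Nat.le_of_dvd (by norm_num) (hr.dvd_of_dvd_pow h); omega
    rcases hr.dvd_mul.1 h with h | h
    · have := Nat.le_of_dvd (by norm_num) (hr.dvd_of_dvd_pow h); omega
    · have := Nat.le_of_dvd (by norm_num) h; omega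
  obtain ⟨H, h1, h2, h3⟩ := exists_selfcent_e6 X ha (e6Facts okE6_chevE6) rfl E6.poincare rfl
    (by simp) F hprim hW (fun e he h => by
      simp only [List.mem_cons, List.not_mem_nil, or_false] at he
      rcases he with rfl | rfl | rfl | rfl | rfl | rfl <;>
        have := Nat.le_of_dvd (by norm_num) h <;> omega) (by omega)
  refine ⟨H, h1, ?_, h3⟩
  rw [eval_cyclotomic_twelve, eval_three, Nat.gcd_comm] at h2
  have hq : 1 < Fintype.card F := Fintype.one_lt_card
  generalize Fintype.card F = q at h2 hq ⊢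
  have hle : q ^ 2 ≤ q ^ 4 := Nat.pow_le_pow_right (by omega) (by norm_num)
  have h4 : Nat.card ↥H * Nat.gcd 3 (q - 1) = (q ^ 4 - q ^ 2 + 1) * (q ^ 2 + q + 1) := by
    zify [hle]
    exact_mod_cast h2
  rw [← h4, Nat.mul_div_cancel _ (Nat.gcd_pos_of_pos_left _ (by norm_num))]

end Cfsg.Agent.S2373
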