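import Cfsg.Agent.Chev.CyclicTorus.E7.Main
import Cfsg.Agent.Chev.St.CenterData

set_option autoImplicit false
open Cfsg

namespace Cfsg.Agent.S2374

open Cfsg.Lib.Chev in
theorem uni_ok : Cfsg.Lib.CyclicTorus.okUni Cfsg.Lie.chevE7 [[4, 4, 6, 8, 6, 4, 2], [4, 7, 8, 12, 9, 6, 3],
    [6, 8, 12, 16, 12, 8, 4], [8, 12, 16, 24, 18, 12, 6], [6, 9, 12, 18, 15, 10, 5], [4, 6, 8, 12, 10, 8, 4],
    [2, 3, 4, 6, 5, 4, 3]] 2 = true := by decide +kernel

open Cfsg.Lib.CyclicTorus Cfsg.Lib.Chev in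
theorem coord (r : ℕ) [Fact r.Prime] (h13 : 13 ≤ r) (t : Fin Cfsg.Lie.chevE7.rank → ℤ)
    (h : ∀ s : Fin Cfsg.Lie.chevE7.nroots, (chiZ Cfsg.Lie.chevE7 s t : ZMod r) = 0)
    (i : Fin Cfsg.Lie.chevE7.rank) : (t i : ZMod r) = 0 := by
  have h1 := inv_E7
  simp only [okInv, List.all_eq_true, List.mem_range, decide_eq_true_eq] at h1
  let a : Fin Cfsg.Lie.chevE7.rank → Fin Cfsg.Lie.chevE7.rank → ℤ := fun i s =>
    (([[4, 4, 6, 8, 6, 4, 2], [4, 7, 8, 12, 9, 6, 3], [6, 8, 12, 16, 12, 8, 4], [8, 12, 16, 24, 18, 12, 6],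
      [6, 9, 12, 18, 15, 10, 5], [4, 6, 8, 12, 10, 8, 4], [2, 3, 4, 6, 5, 4, 3]] : List (List ℤ)).getD i []).getD s 0
  have hinv : ∀ i j : Fin Cfsg.Lie.chevE7.rank,
      ∑ s : Fin Cfsg.Lie.chevE7.rank, a i s * Cfsg.Lie.chevE7.cartan j (Cfsg.Lie.chevE7.simple s) =
        if j = i then 2 else 0 := fun i j => by
    have h2 := h1 i i.isLt j j.isLt
    rw [← List.map_coe_finRange_eq_range, List.map_map, ← List.ofFn_eq_map, List.sum_ofFn] at h2
    simp only [Fin.val_inj, Function.comp_apply, Nat.cast_ofNat] at h2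
    exact h2
  have h2 : (2 : ℤ) * t i = ∑ s : Fin Cfsg.Lie.chevE7.rank, a i s * chiZ Cfsg.Lie.chevE7 (Cfsg.Lie.chevE7.simple s) t := by
    simp only [chiZ, Finset.mul_sum]
    rw [Finset.sum_comm]
    simp only [← mul_assoc, ← Finset.sum_mul, hinv]
    simp
  have h3 := congrArg (Int.cast : ℤ → ZMod r) h2
  push_cast at h3
  rw [Finset.sum_eq_zero (fun s _ => by
    rw [h ⟨Cfsg.Lie.chevE7.simple s, E7.struct.ok.sr_eq s.isLt ▸ E7.struct.ok.sr_lt s.isLt⟩, mul_zero]), mul_eq_zero] at h3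
  refine h3.resolve_left fun h4 => ?_
  have := Nat.le_of_dvd (by norm_num) ((ZMod.natCast_eq_zero_iff 2 r).1 (by exact_mod_cast h4))
  omega

/-- The group E₇(q) (the simple Chevalley group of type E₇) contains a cyclic subgroup of order (q⁴ − q² + 1)(q³ + 1)/gcd(2, q − 1) which is its own centralizer. -/
theorem result {F : Type*} [Field F] [Fintype F] (q : ℕ) (hF : Fintype.card F = q) :
    ∃ H : Subgroup ↥(Cfsg.Lie.chevE7.group F), IsCyclic ↥H ∧ Nat.card ↥H = (q ^ 4 - q ^ 2 + 1) * (q ^ 3 + 1) / Nat.gcd 2 (q - 1) ∧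
      Subgroup.centralizer (H : Set ↥(Cfsg.Lie.chevE7.group F)) = H := by
  subst hF
  open Cfsg.Lib.Chev Cfsg.Lib.CyclicTorus in
  exact (by
    let X6 : Emb Cfsg.Lie.chevE6 E6.cert Cfsg.Lie.chevE7 E7.cert :=
      { S := E6.struct, hN := okNeg_E6, ok := ⟨_, St.okSt_E6⟩, S' := E7.struct, io := _, hio := St.okEmb_E6,
        d := 3, k := _, v := _, w := _, B := _, ht := St.okTorus_E6, p := _, hp := St.okCol_E6,
        hcart := by decide +kernel }
    let X : Emb Cfsg.Lie.chevE7 E7.cert Cfsg.Lie.chevE8 E8.cert :=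
      { S := E7.struct, hN := okNeg_E7, ok := ⟨_, St.okSt_E7⟩, S' := E8.struct, io := _, hio := St.okEmb_E7,
        d := 2, k := _, v := _, w := _, B := _, ht := St.okTorus_E7, p := _, hp := St.okCol_E7,
        hcart := by decide +kernel }
    obtain ⟨a, ha⟩ := exists_uni uni_ok
    obtain ⟨a6, ha6⟩ := exists_uni (D := Cfsg.Lie.chevE6) (M := [[4, 3, 5, 6, 4, 2], [3, 6, 6, 9, 6, 3],
      [5, 6, 10, 12, 8, 4], [6, 9, 12, 18, 12, 6], [4, 6, 8, 12, 10, 5], [2, 3, 4, 6, 5, 4]]) (d := 3)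
      (by decide +kernel)
    obtain ⟨H, h1, h2, h3⟩ := E7T.exists_selfcent_e7 X6 rfl X ha ha6 F coord
    refine ⟨H, h1, ?_, h3⟩
    rw [eval_cyclotomic_twelve, Nat.gcd_comm] at h2
    have hq : 1 < Fintype.card F := Fintype.one_lt_card
    generalize Fintype.card F = q at h2 hq ⊢
    have hle : q ^ 2 ≤ q ^ 4 := Nat.pow_le_pow_right (by omega) (by norm_num)
    have h4 : Nat.card ↥H * Nat.gcd 2 (q - 1) = (q ^ 4 - q ^ 2 + 1) * (q ^ 3 + 1) := by
      zify [hle]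
      exact_mod_cast h2
    rw [← h4, Nat.mul_div_cancel _ (Nat.gcd_pos_of_pos_left _ (by norm_num))])

end Cfsg.Agent.S2374
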