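import Cfsg.Statements.S2375
import Cfsg.Agent.Chev.Springer.Data
-- import your own Cfsg.Agent.* helpers here

set_option autoImplicit false
open Cfsg

namespace Cfsg.Agent.S2375

/-- The group E₈(q) contains a cyclic subgroup of order q⁸ + q⁷ − q⁵ − q⁴ − q³ + q + 1 which is its own centralizer. -/
theorem result {F : Type*} [Field F] [Fintype F] (q : ℕ) (hF : Fintype.card F = q) :
    ∃ H : Subgroup ↥(Cfsg.Lie.chevE8.group F), IsCyclic ↥H ∧ Nat.card ↥H = q ^ 8 + q ^ 7 - q ^ 5 - q ^ 4 - q ^ 3 + q + 1 ∧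
      Subgroup.centralizer (H : Set ↥(Cfsg.Lie.chevE8.group F)) = H := by
  classical
  have hq : 2 ≤ q := hF ▸ Fintype.one_lt_card
  set N := q ^ 8 + q ^ 7 - q ^ 5 - q ^ 4 - q ^ 3 + q + 1 with hN
  have b8 : q ^ 4 + q ^ 3 + q ^ 5 ≤ q ^ 8 + q ^ 7 := by
    have h1 : q ^ 4 * 2 ≤ q ^ 5 := by rw [pow_succ q 4]; exact Nat.mul_le_mul_left _ hq
    have h2 : q ^ 3 ≤ q ^ 4 := Nat.pow_le_pow_right (by omega) (by omega)
    have h3 : q ^ 5 ≤ q ^ 7 := Nat.pow_le_pow_right (by omega) (by omega)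
    have h4 : q ^ 5 ≤ q ^ 8 := Nat.pow_le_pow_right (by omega) (by omega)
    omega
  have hNz : (N : ℤ) = (q : ℤ) ^ 8 + q ^ 7 - q ^ 5 - q ^ 4 - q ^ 3 + q + 1 := by
    rw [hN]
    have a1 : q ^ 5 ≤ q ^ 8 + q ^ 7 := by omega
    have a2 : q ^ 4 ≤ q ^ 8 + q ^ 7 - q ^ 5 := by omega
    have a3 : q ^ 3 ≤ q ^ 8 + q ^ 7 - q ^ 5 - q ^ 4 := by omega
    push_cast [Nat.cast_sub a1, Nat.cast_sub a2, Nat.cast_sub a3]
    ring
  have hev : (Polynomial.cyclotomic 30 ℤ).eval (q : ℤ) = (N : ℤ) := by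
    have h := congrArg (Polynomial.eval (q : ℤ))
      (Polynomial.cyclotomic_expand_eq_cyclotomic_mul Nat.prime_five (n := 6) (by decide) ℤ)
    rw [Polynomial.expand_eval, Polynomial.eval_mul, Polynomial.cyclotomic_six] at h
    simp only [Polynomial.eval_add, Polynomial.eval_sub, Polynomial.eval_pow, Polynomial.eval_X,
      Polynomial.eval_one] at h
    have hne : (q : ℤ) ^ 2 - q + 1 ≠ 0 := by nlinarith
    refine mul_right_cancel₀ hne ?_
    rw [← h, hNz]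
    ring
  have hmod : ∀ ℓ : ℕ, ℓ.Prime → ℓ ∣ 30 → ¬ ℓ ∣ N := by
    intro ℓ hℓ h30 hd
    have h0 : ((N : ℤ) : ZMod ℓ) = 0 := by
      rw [Int.cast_natCast]; exact (ZMod.natCast_eq_zero_iff _ _).2 hd
    rw [hNz] at h0
    push_cast at h0
    have hdiv : ℓ = 2 ∨ ℓ = 3 ∨ ℓ = 5 := by
      have h30' : ℓ ∣ 2 * (3 * 5) := h30
      rcases hℓ.dvd_mul.1 h30' with h | h
      · exact Or.inl ((Nat.prime_dvd_prime_iff_eq hℓ Nat.prime_two).1 h)
      rcases hℓ.dvd_mul.1 h with h | h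
      · exact Or.inr (Or.inl ((Nat.prime_dvd_prime_iff_eq hℓ Nat.prime_three).1 h))
      · exact Or.inr (Or.inr ((Nat.prime_dvd_prime_iff_eq hℓ Nat.prime_five).1 h))
    rcases hdiv with rfl | rfl | rfl
    · revert h0; generalize (q : ZMod 2) = y; revert y; decide
    · revert h0; generalize (q : ZMod 3) = y; revert y; decide
    · revert h0; generalize (q : ZMod 5) = y; revert y; decide
  have hN1 : 1 < N := by omega
  obtain ⟨r, hr, hrN⟩ := Nat.exists_prime_and_dvd hN1.ne'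
  rw [← hF] at hev
  obtain ⟨H, h1, h2, h3⟩ := Cfsg.Lib.Chev.Springer.exists_torus_deg (F := F) Cfsg.Lib.Chev.Springer.E8_dat
    Cfsg.Lib.Chev.St.okTorus_E8 Cfsg.Lib.Chev.E8.poincare (by decide) (b := 30)
    Cfsg.Lib.Chev.Springer.E8_natCard_WG (by decide) (Cfsg.Lib.Chev.E8.card_torus rfl) (e := 30) (by decide)
    (by decide) (by decide)
    (fun r' hr' h => by
      by_contra hle
      have : r' = 1 := by omega
      subst this
      exact Nat.not_prime_one hr')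
    hev (by omega) (fun ℓ hℓ hl => Or.inl fun h30 => hmod ℓ hℓ h30 hl) hr hrN (fun h => hmod r hr h hrN)
    (by norm_num)
  exact ⟨H, h1, h2, h3⟩

end Cfsg.Agent.S2375
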