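import Cfsg.Statements.S2378
import Cfsg.Agent.Chev.Springer.SylowData
import Cfsg.Agent.Chev.Springer.AllData
-- import your own Cfsg.Agent.* helpers here

set_option autoImplicit false
open Cfsg

namespace Cfsg.Agent.S2378

/-- Sylow subgroups for primes away from the characteristic and the Weyl group. Let `G` be the Chevalley group of type G₂, B₂, D₄, F₄, E₆, E₇ or E₈ over a field with `q` elements, with the degrees of its Weyl group listed beside the type (their product is the order of the Weyl group), and let `r` be a prime dividing the order of `G`, not dividing `q` and not dividing the order of the Weyl group. Let `d` be the multiplicative order of `q` modulo `r`, `a` the number of degrees divisible by `d`, and `m` the `r`-part of the value at `q` of the `d`-th cyclotomic polynomial. Then every Sylow `r`-subgroup of `G` is homocyclic: a direct product of `a` cyclic groups of order `m` (in particular abelian). -/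
theorem result {F : Type*} [Field F] [Fintype F] {q : ℕ} (hq : Fintype.card F = q)
    (c : Cfsg.Lie.ChevalleyDatum × List ℕ)
    (hc : c ∈ [(Cfsg.Lie.chevG2, [2, 6]), (Cfsg.Lie.chevB2, [2, 4]), (Cfsg.Lie.chevD4, [2, 4, 4, 6]), (Cfsg.Lie.chevF4, [2, 6, 8, 12]),
      (Cfsg.Lie.chevE6, [2, 5, 6, 8, 9, 12]), (Cfsg.Lie.chevE7, [2, 6, 8, 10, 12, 14, 18]), (Cfsg.Lie.chevE8, [2, 8, 12, 14, 18, 20, 24, 30])])
    (r : ℕ) [Fact r.Prime] (hrq : ¬ r ∣ q) (hrW : ¬ r ∣ c.2.prod) (hrG : r ∣ Nat.card ↥(c.1.group F)) (P : Sylow r ↥(c.1.group F)) :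
    Nonempty (↥(P : Subgroup ↥(c.1.group F)) ≃*
      (Fin (c.2.filter (fun e => orderOf (q : ZMod r) ∣ e)).length →
        Multiplicative (ZMod (r ^ padicValNat r ((Polynomial.cyclotomic (orderOf (q : ZMod r)) ℤ).eval (q : ℤ)).natAbs)))) := by
  subst hq
  simp only [List.mem_cons, List.not_mem_nil, or_false] at hc
  rcases hc with rfl | rfl | rfl | rfl | rfl | rfl | rfl
  · exact Cfsg.Lib.Chev.Springer.sylow_data Cfsg.Lib.Chev.Springer.G2_dat Cfsg.Lib.Chev.inv_G2
      Cfsg.Lib.Chev.G2.poincare Cfsg.Lib.Chev.Springer.G2_natCard_WG (by decide) (by decide) (by decide)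
      (fun r hr h => h.trans (one_dvd _)) (Cfsg.Lib.Chev.G2.card_torus rfl) hrq hrW P
  · exact Cfsg.Lib.Chev.Springer.sylow_data Cfsg.Lib.Chev.Springer.B2_dat Cfsg.Lib.Chev.inv_B2
      Cfsg.Lib.Chev.B2.poincare Cfsg.Lib.Chev.Springer.B2_natCard_WG (by decide) (by decide) (by decide)
      (fun r hr h => (h.trans (Nat.gcd_dvd_left _ _)).trans (by decide)) (Cfsg.Lib.Chev.B2.card_torus rfl) hrq hrW P
  · exact Cfsg.Lib.Chev.Springer.sylow_data Cfsg.Lib.Chev.Springer.D4_dat Cfsg.Lib.Chev.inv_D4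
      Cfsg.Lib.Chev.D4.poincare Cfsg.Lib.Chev.Springer.D4_natCard_WG (by decide) (by decide) (by decide)
      (fun r hr h => ((hr.dvd_of_dvd_pow h).trans (Nat.gcd_dvd_left _ _)).trans (by decide)) (Cfsg.Lib.Chev.D4.card_torus rfl) hrq hrW P
  · exact Cfsg.Lib.Chev.Springer.sylow_data Cfsg.Lib.Chev.Springer.F4_dat Cfsg.Lib.Chev.inv_F4
      Cfsg.Lib.Chev.F4.poincare Cfsg.Lib.Chev.Springer.F4_natCard_WG (by decide) (by decide) (by decide)
      (fun r hr h => h.trans (one_dvd _)) (Cfsg.Lib.Chev.F4.card_torus rfl) hrq hrW P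
  · exact Cfsg.Lib.Chev.Springer.sylow_data Cfsg.Lib.Chev.Springer.E6_dat Cfsg.Lib.Chev.inv_E6
      Cfsg.Lib.Chev.E6.poincare Cfsg.Lib.Chev.Springer.E6_natCard_WG (by decide) (by decide) (by decide)
      (fun r hr h => (h.trans (Nat.gcd_dvd_left _ _)).trans (by decide)) (Cfsg.Lib.Chev.E6.card_torus rfl) hrq hrW P
  · exact Cfsg.Lib.Chev.Springer.sylow_data Cfsg.Lib.Chev.Springer.E7_dat Cfsg.Lib.Chev.inv_E7
      Cfsg.Lib.Chev.E7.poincare Cfsg.Lib.Chev.Springer.E7_natCard_WG (by decide) (by decide) (by decide)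
      (fun r hr h => (h.trans (Nat.gcd_dvd_left _ _)).trans (by decide)) (Cfsg.Lib.Chev.E7.card_torus rfl) hrq hrW P
  · exact Cfsg.Lib.Chev.Springer.sylow_data Cfsg.Lib.Chev.Springer.E8_dat Cfsg.Lib.Chev.inv_E8
      Cfsg.Lib.Chev.E8.poincare Cfsg.Lib.Chev.Springer.E8_natCard_WG (by decide) (by decide) (by decide)
      (fun r hr h => h.trans (one_dvd _)) (Cfsg.Lib.Chev.E8.card_torus rfl) hrq hrW P

end Cfsg.Agent.S2378
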