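import Cfsg.Statements.S2379
import Cfsg.Agent.Classical.Misc.SylowLargePrime
-- import your own Cfsg.Agent.* helpers here

set_option autoImplicit false
open Cfsg

namespace Cfsg.Agent.S2379

open Cfsg.Lib.SylowLarge in
/-- An embedded group of the order of a Sylow subgroup of `SL`. -/
theorem exists_sl_hom {F : Type*} [Field F] [Fintype F] {q : ℕ} (hq : Fintype.card F = q) (n : ℕ)
    (r : ℕ) [Fact r.Prime] (hrn : n < r) (hrq : ¬ r ∣ q) (a : ℕ)
    (ha : a = ((Finset.Icc 2 n).filter (fun i => orderOf (q : ZMod r) ∣ i)).card) :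
    ∃ f : (Fin a → Multiplicative (ZMod (r ^ expo r q))) →* Matrix.SpecialLinearGroup (Fin n) F,
      Function.Injective f ∧ Nat.card (Fin a → Multiplicative (ZMod (r ^ expo r q))) =
        r ^ padicValNat r (Nat.card (Matrix.SpecialLinearGroup (Fin n) F)) := by
  have hq2 : 2 ≤ q := hq ▸ two_le_card F
  rcases Nat.eq_zero_or_pos n with rfl | hn
  · rw [Finset.Icc_eq_empty (by omega), Finset.filter_empty, Finset.card_empty] at ha
    subst ha
    refine ⟨1, Function.injective_of_subsingleton _, ?_⟩
    rw [card_target, pow_zero, Nat.card_of_subsingleton (1 : Matrix.SpecialLinearGroup (Fin 0) F),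
      padicValNat.one, pow_zero]
  set d := orderOf (q : ZMod r) with hd
  have hd0 : 0 < d := ord_pos hrq
  have hne : Nonempty (Fin n) := ⟨⟨0, hn⟩⟩
  have hgl : padicValNat r (Nat.card (GL (Fin n) F)) = n / d * expo r q := by
    rw [Matrix.card_GL_field, hq, val_gl_prod hq2 hrq n hrn]
  have hmul := Cfsg.Lib.Classical.card_SL_mul (ι := Fin n) (F := F)
  rw [Nat.card_eq_fintype_card (α := F), hq] at hmul
  rw [← hmul, padicValNat.mul (by omega) Nat.card_pos.ne'] at hgl
  by_cases hd1 : d = 1
  · -- the diagonal torus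
    obtain ⟨k, rfl⟩ : ∃ k, n = k + 1 := ⟨n - 1, by omega⟩
    have hak : a = k := by
      rw [ha, hd1, Finset.filter_true_of_mem (fun i _ => one_dvd i), Nat.card_Icc]
      omega
    subst hak
    have he : expo r q = padicValNat r (q - 1) := by rw [expo_eq hq2 hrq, ← hd, hd1, pow_one]
    have hdvd : r ^ expo r q ∣ Nat.card Fˣ := by
      rw [Nat.card_units, Nat.card_eq_fintype_card, hq, he]
      exact pow_padicValNat_dvd
    obtain ⟨c, hc⟩ := exists_cyclicHom hdvd
    obtain ⟨t, ht⟩ := exists_diag_sl (F := F) a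
    refine ⟨t.comp (MonoidHom.pi fun i => c.comp (Pi.evalMonoidHom _ i)), ?_, ?_⟩
    · intro x y h
      funext i
      exact hc (congrFun (ht h) i)
    · rw [card_target, ← pow_mul]
      congr 1
      rw [hd1, Nat.div_one, add_mul, one_mul, ← he] at hgl
      rw [mul_comm]
      omega
  · have hak : a = n / d := by
      rw [ha, ← Nat.Ioc_filter_dvd_card_eq_div n d]
      congr 1
      ext i
      simp only [Finset.mem_filter, Finset.mem_Icc, Finset.mem_Ioc]
      constructor
      · rintro ⟨⟨h1, h2⟩, h3⟩; exact ⟨⟨by omega, h2⟩, h3⟩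
      · rintro ⟨⟨h1, h2⟩, h3⟩
        refine ⟨⟨?_, h2⟩, h3⟩
        have := Nat.le_of_dvd h1 h3
        omega
    subst hak
    have hnd : ¬ r ∣ q - 1 := fun h => hd1 (by
      have := (dvd_pow_sub_one_iff (r := r) (by omega : 1 ≤ q) 1).1 (by rwa [pow_one])
      exact Nat.dvd_one.1 this)
    obtain ⟨f, hf, hc⟩ := exists_gl_hom hq n r hrn hrq
    obtain ⟨g, hg⟩ := exists_sl_lift f hf (by
      rw [card_target, hq]
      exact Nat.Coprime.pow_left _ (Nat.Coprime.pow_left _
        ((Fact.out : r.Prime).coprime_iff_not_dvd.2 hnd)))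
    refine ⟨g, hg, hc.trans ?_⟩
    rw [← hmul, padicValNat.mul (by omega) Nat.card_pos.ne', padicValNat.eq_zero_of_not_dvd hnd, zero_add]



/-- Sylow subgroups of `SL_n(q)` for large primes. Let `F` be a field with `q` elements and `r` a prime with `r > n` and `r ∤ q` (so `r` does not divide the order `n!` of the Weyl group). Let `d` be the multiplicative order of `q` modulo `r`, `a` the number of integers `i` with `2 ≤ i ≤ n` divisible by `d` (the degrees of the Weyl group are `2, …, n`), and `m` the `r`-part of the value at `q` of the `d`-th cyclotomic polynomial. Then every Sylow `r`-subgroup of `SL_n(q)` is a direct product of `a` cyclic groups of order `m`. -/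
theorem result {F : Type*} [Field F] [Fintype F] {q : ℕ} (hq : Fintype.card F = q) (n : ℕ)
    (r : ℕ) [Fact r.Prime] (hrn : n < r) (hrq : ¬ r ∣ q) (P : Sylow r (Matrix.SpecialLinearGroup (Fin n) F)) :
    Nonempty (↥(P : Subgroup (Matrix.SpecialLinearGroup (Fin n) F)) ≃*
      (Fin ((Finset.Icc 2 n).filter (fun i => orderOf (q : ZMod r) ∣ i)).card →
        Multiplicative (ZMod (r ^ padicValNat r ((Polynomial.cyclotomic (orderOf (q : ZMod r)) ℤ).eval (q : ℤ)).natAbs)))) := by
  obtain ⟨f, hf, hc⟩ := exists_sl_hom hq n r hrn hrq _ rfl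
  exact Cfsg.Lib.SylowLarge.sylow_iso_of_hom f hf hc P

end Cfsg.Agent.S2379
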