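import Cfsg.Statements.S2383
import Cfsg.Agent.Chev.WeightsCount
-- import your own Cfsg.Agent.* helpers here

set_option autoImplicit false
open Cfsg

namespace Cfsg.Agent.S2383

/-- Steinberg's count of semisimple classes in characteristic 2 for the types B₂, D₄, E₇, where the finite simply connected group has trivial centre and so coincides with the Chevalley group: for the Chevalley group of type B₂, D₄ or E₇ over a field with `q` elements of characteristic 2, the conjugacy classes of elements of odd order number exactly `q^l`, `l` the rank. -/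
theorem result {F : Type*} [Field F] [Fintype F] {q : ℕ} (hq : Fintype.card F = q) [CharP F 2]
    (D : Cfsg.Lie.ChevalleyDatum) (hD : D ∈ [Cfsg.Lie.chevB2, Cfsg.Lie.chevD4, Cfsg.Lie.chevE7]) :
    Nat.card {c : ConjClasses ↥(D.group F) // ∃ g : ↥(D.group F), ConjClasses.mk g = c ∧ Odd (orderOf g)} = q ^ D.rank := by
  subst hq
  obtain ⟨C, T, S, hN, hT, -, hl⟩ := Cfsg.Lib.Steinberg.lin_of_mem (D := D) (by
    simp only [List.mem_cons, List.not_mem_nil, or_false] at hD ⊢
    tauto)
  have h2 : Nat.Coprime 2 (Fintype.card F - 1) := by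
    obtain ⟨n, -, hn⟩ := FiniteField.card F 2
    rw [Nat.coprime_two_left, hn]
    have : Even (2 ^ (n : ℕ)) := Nat.even_pow.2 ⟨even_two, n.pos.ne'⟩
    rw [Nat.odd_sub (Nat.one_le_two_pow)]
    exact ⟨fun h => absurd h (Nat.not_odd_iff_even.2 this), fun h => absurd h Nat.not_even_one⟩
  have hinj : Function.Injective (Cfsg.Lib.Chev.Ok.tG D F) := by
    simp only [List.mem_cons, List.not_mem_nil, or_false] at hD
    rcases hD with rfl | rfl | rfl
    · exact S.tG_injective Cfsg.Lib.Chev.inv_B2 h2
    · exact S.tG_injective Cfsg.Lib.Chev.inv_D4 h2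
    · exact S.tG_injective Cfsg.Lib.Chev.inv_E7 h2
  have h := S.card_pRegular 2 hN hT hl hinj
  simp only [Nat.coprime_two_right] at h
  exact h

end Cfsg.Agent.S2383
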