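import Cfsg.Statements.S2384
import Cfsg.Agent.Known.SemisimpleCharpoly

set_option autoImplicit false
open Cfsg

namespace Cfsg.Agent.S2384

/-- In `SL_n(q)`, `q` a power of the prime `p`, the number of conjugacy classes of elements of order prime to `p` (the semisimple classes) is `q^(n-1)`. -/
theorem result {F : Type*} [Field F] [Fintype F] {q : ℕ} (hq : Fintype.card F = q) (p : ℕ) [Fact p.Prime] [CharP F p] (n : ℕ) (hn : 1 ≤ n) :
    Nat.card {c : ConjClasses (Matrix.SpecialLinearGroup (Fin n) F) //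
      ∃ g : Matrix.SpecialLinearGroup (Fin n) F, ConjClasses.mk g = c ∧ (orderOf g).Coprime p} = q ^ (n - 1) := by
  classical
  subst hq
  obtain ⟨m, rfl⟩ : ∃ m, n = m + 1 := ⟨n - 1, by omega⟩
  let φ : {c : ConjClasses (Matrix.SpecialLinearGroup (Fin (m + 1)) F) //
      ∃ g : Matrix.SpecialLinearGroup (Fin (m + 1)) F, ConjClasses.mk g = c ∧ (orderOf g).Coprime p} →
      {f : Polynomial F // f.Monic ∧ f.natDegree = m + 1 ∧ f.coeff 0 = (-1) ^ (m + 1)} := fun c =>
    ⟨(c.2.choose : Matrix (Fin (m + 1)) (Fin (m + 1)) F).charpoly, Matrix.charpoly_monic _,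
      by rw [Matrix.charpoly_natDegree_eq_dim, Fintype.card_fin], by
        have h := c.2.choose.2
        rw [Matrix.det_eq_sign_charpoly_coeff, Fintype.card_fin] at h
        have hss : ((-1 : F) ^ (m + 1)) * (-1) ^ (m + 1) = 1 := by rw [← mul_pow]; simp
        linear_combination ((-1 : F) ^ (m + 1)) * h - (c.2.choose : Matrix (Fin (m + 1)) (Fin (m + 1)) F).charpoly.coeff 0 * hss⟩
  have hφ : Function.Bijective φ := by
    constructor
    · intro c d e
      have e' := congrArg Subtype.val e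
      apply Subtype.ext
      rw [← c.2.choose_spec.1, ← d.2.choose_spec.1, ConjClasses.mk_eq_mk_iff_isConj]
      exact Cfsg.Lib.SemisimpleSimilar.isConj_SL_of_charpoly (p := p) _ _ c.2.choose_spec.2 d.2.choose_spec.2 e'
    · rintro ⟨f, hf, hd, h0⟩
      obtain ⟨g, hg, hgf⟩ := Cfsg.Lib.SemisimpleCharpoly.exists_GL p f hf hd
        (by rw [h0]; exact pow_ne_zero _ (neg_ne_zero.2 one_ne_zero))
      have hdet : (g : Matrix (Fin (m + 1)) (Fin (m + 1)) F).det = 1 := by
        rw [Matrix.det_eq_sign_charpoly_coeff, hgf, h0, Fintype.card_fin, ← mul_pow]; simp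
      let s : Matrix.SpecialLinearGroup (Fin (m + 1)) F := ⟨_, hdet⟩
      have he : Matrix.SpecialLinearGroup.toGL s = g := Units.ext rfl
      have hs : (orderOf s).Coprime p := by
        rw [← orderOf_injective _ Matrix.SpecialLinearGroup.toGL_injective s, he]; exact hg
      refine ⟨⟨ConjClasses.mk s, s, rfl, hs⟩, Subtype.ext ?_⟩
      have hex : ∃ g' : Matrix.SpecialLinearGroup (Fin (m + 1)) F,
          ConjClasses.mk g' = ConjClasses.mk s ∧ (orderOf g').Coprime p := ⟨s, rfl, hs⟩
      show (hex.choose : Matrix (Fin (m + 1)) (Fin (m + 1)) F).charpoly = f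
      obtain ⟨u, hu⟩ := isConj_iff.1 (ConjClasses.mk_eq_mk_iff_isConj.1 hex.choose_spec.1)
      have hu' : u * hex.choose = s * u := mul_inv_eq_iff_eq_mul.1 hu
      have e1 : (u⁻¹ * (u * hex.choose) : Matrix.SpecialLinearGroup (Fin (m + 1)) F) = hex.choose := by group
      have h2 : ((u⁻¹ * (u * hex.choose) : Matrix.SpecialLinearGroup (Fin (m + 1)) F) : Matrix (Fin (m + 1)) (Fin (m + 1)) F).charpoly =
          (s : Matrix (Fin (m + 1)) (Fin (m + 1)) F).charpoly := by
        rw [Matrix.SpecialLinearGroup.coe_mul, Matrix.charpoly_mul_comm, ← Matrix.SpecialLinearGroup.coe_mul, hu',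
          mul_inv_cancel_right]
      rw [e1] at h2
      exact h2.trans hgf
  rw [Nat.card_eq_of_bijective φ hφ, Cfsg.Lib.SemisimpleCharpoly.card_monic m (fun a => a = (-1 : F) ^ (m + 1)),
    Nat.card_unique, one_mul, Nat.card_eq_fintype_card]
  simp

end Cfsg.Agent.S2384
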