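import Cfsg.Statements.S2385
import Cfsg.Agent.Known.SympModel

set_option autoImplicit false
open Cfsg

namespace Cfsg.Agent.S2385

/-- In the symplectic group `Sp_{2n}(q)`, `q` a power of the prime `p`, the number of conjugacy classes of elements of order prime to `p` is `q^n`. -/
theorem result {F : Type*} [Field F] [Fintype F] {q : ℕ} (hq : Fintype.card F = q) (p : ℕ) [Fact p.Prime] [CharP F p] (n : ℕ) :
    Nat.card {c : ConjClasses ↥(Matrix.symplecticGroup (Fin n) F) //
      ∃ g : ↥(Matrix.symplecticGroup (Fin n) F), ConjClasses.mk g = c ∧ (orderOf g).Coprime p} = q ^ n := by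
  classical
  subst hq
  let T := {f : Polynomial F // f.Monic ∧ f.natDegree = 2 * n ∧ f.reverse = f}
  have hpal : ∀ A : Matrix.symplecticGroup (Fin n) F,
      (A : Matrix (Fin n ⊕ Fin n) (Fin n ⊕ Fin n) F).charpoly.Monic ∧
      (A : Matrix (Fin n ⊕ Fin n) (Fin n ⊕ Fin n) F).charpoly.natDegree = 2 * n ∧
      (A : Matrix (Fin n ⊕ Fin n) (Fin n ⊕ Fin n) F).charpoly.reverse = (A : Matrix (Fin n ⊕ Fin n) (Fin n ⊕ Fin n) F).charpoly := by
    intro A
    set M := (A : Matrix (Fin n ⊕ Fin n) (Fin n ⊕ Fin n) F) with hM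
    refine ⟨Matrix.charpoly_monic _, by rw [Matrix.charpoly_natDegree_eq_dim, Fintype.card_sum, Fintype.card_fin]; ring, ?_⟩
    have hdet : M.det = 1 := SymplecticGroup.det_eq_one A.2
    have hu : IsUnit M := (Matrix.isUnit_iff_isUnit_det M).2 (by rw [hdet]; exact isUnit_one)
    have hJ : Matrix.J (Fin n) F * -Matrix.J (Fin n) F = 1 := by rw [Matrix.mul_neg, Matrix.J_squared, neg_neg]
    have h1 : M⁻¹.charpoly = M.charpoly := by
      rw [← SymplecticGroup.coe_inv' A, SymplecticGroup.coe_inv, Matrix.charpoly_mul_comm, ← mul_assoc, hJ, one_mul,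
        Matrix.charpoly_transpose]
    rw [Matrix.charpoly_inv _ hu, hdet, Ring.inverse_one, Polynomial.C_1, mul_one, Fintype.card_sum, Fintype.card_fin,
      ← two_mul, pow_mul, neg_one_sq, one_pow, one_mul, ← Matrix.reverse_charpoly] at h1
    exact h1
  have hchar : ∀ a b : Matrix.symplecticGroup (Fin n) F, IsConj a b →
      (a : Matrix (Fin n ⊕ Fin n) (Fin n ⊕ Fin n) F).charpoly = (b : Matrix (Fin n ⊕ Fin n) (Fin n ⊕ Fin n) F).charpoly := by
    intro a b hab
    obtain ⟨u, rfl⟩ := isConj_iff.1 hab
    rw [Submonoid.coe_mul, Matrix.charpoly_mul_comm, Submonoid.coe_mul, ← mul_assoc, ← Submonoid.coe_mul,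
      inv_mul_cancel, Submonoid.coe_one, one_mul]
  let φ : {c : ConjClasses ↥(Matrix.symplecticGroup (Fin n) F) //
      ∃ g : ↥(Matrix.symplecticGroup (Fin n) F), ConjClasses.mk g = c ∧ (orderOf g).Coprime p} → T := fun c =>
    ⟨_, hpal c.2.choose⟩
  have hφ : Function.Bijective φ := by
    constructor
    · intro c d e
      apply Subtype.ext
      rw [← c.2.choose_spec.1, ← d.2.choose_spec.1, ConjClasses.mk_eq_mk_iff_isConj]
      exact Cfsg.Lib.SympSemisimple.isConj_of_charpoly _ _ c.2.choose_spec.2 d.2.choose_spec.2 (congrArg Subtype.val e)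
    · rintro ⟨f, hf, hd, hr⟩
      obtain ⟨g, hg, hgf⟩ := Cfsg.Lib.SympModel.exists_model p n f hf hd hr
      refine ⟨⟨ConjClasses.mk g, g, rfl, hg⟩, Subtype.ext ?_⟩
      have hex : ∃ g' : Matrix.symplecticGroup (Fin n) F, ConjClasses.mk g' = ConjClasses.mk g ∧ (orderOf g').Coprime p :=
        ⟨g, rfl, hg⟩
      show (hex.choose : Matrix (Fin n ⊕ Fin n) (Fin n ⊕ Fin n) F).charpoly = f
      rw [hchar _ _ (ConjClasses.mk_eq_mk_iff_isConj.1 hex.choose_spec.1), hgf]
  rw [Nat.card_eq_of_bijective φ hφ]
  -- palindromes are given by half of their coefficients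
  let b : (Fin n → F) → ℕ → F := fun a k =>
    if h : 1 ≤ min k (2 * n - k) ∧ min k (2 * n - k) ≤ n then a ⟨min k (2 * n - k) - 1, by omega⟩ else 1
  let mkf : (Fin n → F) → Polynomial F := fun a => ∑ k ∈ Finset.range (2 * n + 1), Polynomial.C (b a k) * Polynomial.X ^ k
  have hco : ∀ a k, (mkf a).coeff k = if k ≤ 2 * n then b a k else 0 := fun a k => by
    simp only [mkf, Polynomial.finset_sum_coeff, Polynomial.coeff_C_mul_X_pow, Finset.sum_ite_eq, Finset.mem_range,
      Nat.lt_succ_iff]
  have htop : ∀ a, b a (2 * n) = 1 := fun a => dif_neg (by omega)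
  have hdeg : ∀ a, (mkf a).natDegree = 2 * n := fun a => by
    refine Polynomial.natDegree_eq_of_le_of_coeff_ne_zero ?_ ?_
    · rw [Polynomial.natDegree_le_iff_coeff_eq_zero]
      intro N hN
      rw [hco, if_neg (by omega)]
    · rw [hco, if_pos le_rfl, htop]; exact one_ne_zero
  have hsym : ∀ a k, k ≤ 2 * n → b a (2 * n - k) = b a k := fun a k hk => by
    have e : min (2 * n - k) (2 * n - (2 * n - k)) = min k (2 * n - k) := by omega
    simp only [b, e]
  let e : (Fin n → F) ≃ T :=
    { toFun := fun a => ⟨mkf a, by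
          rw [Polynomial.Monic, Polynomial.leadingCoeff, hdeg, hco, if_pos le_rfl, htop], hdeg a, by
          ext k
          rw [Polynomial.coeff_reverse, hdeg, hco, hco]
          rcases le_or_gt k (2 * n) with hk | hk
          · rw [Polynomial.revAt_le hk, if_pos (by omega), if_pos hk, hsym a k hk]
          · rw [Polynomial.revAt_eq_self_of_lt hk]⟩
      invFun := fun f i => f.1.coeff (i.val + 1)
      left_inv := fun a => funext fun i => by
        show (mkf a).coeff (i.val + 1) = a i
        have := i.isLt
        rw [hco, if_pos (by omega)]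
        simp only [b]
        rw [dif_pos (by omega)]
        congr 1
        ext
        show min (i.val + 1) (2 * n - (i.val + 1)) - 1 = i.val
        omega
      right_inv := fun f => by
        refine Subtype.ext (Polynomial.ext fun k => ?_)
        refine (hco (fun i : Fin n => f.1.coeff (i.val + 1)) k).trans ?_
        rcases le_or_gt k (2 * n) with hk | hk
        · have hpal' : f.1.coeff (2 * n - k) = f.1.coeff k := by
            have h := congrArg (fun q => Polynomial.coeff q k) f.2.2.2
            simp only [Polynomial.coeff_reverse, f.2.2.1, Polynomial.revAt_le hk] at h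
            exact h
          have hlead : f.1.coeff (2 * n) = 1 := by
            have := f.2.1.coeff_natDegree
            rwa [f.2.2.1] at this
          rw [if_pos hk]
          simp only [b]
          split_ifs with h
          · show f.1.coeff (min k (2 * n - k) - 1 + 1) = _
            rcases min_choice k (2 * n - k) with hm | hm <;> rw [hm]
            · rw [Nat.sub_add_cancel (by omega)]
            · rw [Nat.sub_add_cancel (by omega)]; exact hpal'
          · rcases (show k = 0 ∨ k = 2 * n by omega) with rfl | rfl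
            · rw [← hpal', Nat.sub_zero, hlead]
            · exact hlead.symm
        · rw [if_neg (by omega), Polynomial.coeff_eq_zero_of_natDegree_lt (by rw [f.2.2.1]; exact hk)] }
  rw [← Nat.card_congr e, Nat.card_fun, Nat.card_fin, Nat.card_eq_fintype_card]

end Cfsg.Agent.S2385
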