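import Cfsg.Statements.S2386
import Cfsg.Agent.Known.UnitarySemisimple
import Cfsg.Agent.S2390

set_option autoImplicit false
open Cfsg

namespace Cfsg.Agent.S2386

open Cfsg.Lib Cfsg.Lib.Classical Cfsg.Lib.UnitaryConj

/-- In the special unitary group `SU_n(q)` (matrices of determinant one over the field with `q²` elements preserving the standard Hermitian form), `q` a power of the prime `p`, the number of conjugacy classes of elements of order prime to `p` is `q^(n-1)`. -/
theorem result {F : Type*} [Field F] [Fintype F] {q : ℕ} (hF : Fintype.card F = q ^ 2) (p : ℕ) [Fact p.Prime] [CharP F p] (n : ℕ) (hn : 1 ≤ n) :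
    Nat.card {c : ConjClasses ↥(Cfsg.SU n F q) // ∃ g : ↥(Cfsg.SU n F q), ConjClasses.mk g = c ∧ (orderOf g).Coprime p} = q ^ (n - 1) := by
  classical
  obtain ⟨m, rfl⟩ : ∃ m, n = m + 1 := ⟨n - 1, by omega⟩
  have hinv := UnitaryConj.invol hF
  have hne := UnitaryConj.exists_moved hF
  set σ := powConj hF with hσ
  set ε : F := (-1) ^ (m + 1) with hε
  have hεσ : σ ε = ε := by rw [hε, map_pow, map_neg, map_one]
  have hεε : ε * ε = 1 := by rw [hε, ← mul_pow]; simp
  let T := {f : Polynomial F // f.Monic ∧ f.natDegree = m + 1 ∧ f.coeff 0 = ε ∧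
    ∀ k ≤ m + 1, f.coeff k = ε * σ (f.coeff (m + 1 - k))}
  -- the characteristic polynomial of the dual
  have hdual : ∀ A : Matrix (Fin (m + 1)) (Fin (m + 1)) F, A.det = 1 → ∀ k ≤ m + 1,
      ((cst σ A)⁻¹).charpoly.coeff k = ε * σ (A.charpoly.coeff (m + 1 - k)) := by
    intro A hA k hk
    have hu : IsUnit (cst σ A) := by rw [Matrix.isUnit_iff_isUnit_det, det_cst, hA, map_one]; exact isUnit_one
    rw [Matrix.charpoly_inv _ hu, det_cst, hA, map_one, ← Matrix.reverse_charpoly]
    have hd : (cst σ A).charpoly = A.charpoly.map σ := by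
      rw [cst, Matrix.charpoly_transpose, Matrix.charpoly_map]
    rw [Ring.inverse_one, Polynomial.C_1, mul_one, Fintype.card_fin,
      show ((-1 : Polynomial F) ^ (m + 1)) = Polynomial.C ε by rw [hε, map_pow, map_neg, map_one],
      Polynomial.coeff_C_mul, Polynomial.coeff_reverse, Matrix.charpoly_natDegree_eq_dim, Fintype.card_fin,
      Polynomial.revAt_le hk, hd, Polynomial.coeff_map]
  have hmemT : ∀ g : Cfsg.SU (m + 1) F q,
      (((g : Matrix.SpecialLinearGroup (Fin (m + 1)) F) : Matrix (Fin (m + 1)) (Fin (m + 1)) F)).charpoly.Monic ∧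
      (((g : Matrix.SpecialLinearGroup (Fin (m + 1)) F) : Matrix (Fin (m + 1)) (Fin (m + 1)) F)).charpoly.natDegree = m + 1 ∧
      (((g : Matrix.SpecialLinearGroup (Fin (m + 1)) F) : Matrix (Fin (m + 1)) (Fin (m + 1)) F)).charpoly.coeff 0 = ε ∧
      ∀ k ≤ m + 1, (((g : Matrix.SpecialLinearGroup (Fin (m + 1)) F) : Matrix (Fin (m + 1)) (Fin (m + 1)) F)).charpoly.coeff k =
        ε * σ ((((g : Matrix.SpecialLinearGroup (Fin (m + 1)) F) : Matrix (Fin (m + 1)) (Fin (m + 1)) F)).charpoly.coeff (m + 1 - k)) := by
    intro g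
    set M := ((g : Matrix.SpecialLinearGroup (Fin (m + 1)) F) : Matrix (Fin (m + 1)) (Fin (m + 1)) F) with hM
    have hd : M.det = 1 := (g : Matrix.SpecialLinearGroup (Fin (m + 1)) F).2
    refine ⟨Matrix.charpoly_monic _, by rw [Matrix.charpoly_natDegree_eq_dim, Fintype.card_fin], ?_, fun k hk => ?_⟩
    · have h := hd
      rw [Matrix.det_eq_sign_charpoly_coeff, Fintype.card_fin, ← hε] at h
      linear_combination ε * h - M.charpoly.coeff 0 * hεε
    · rw [← hdual M hd k hk, Matrix.inv_eq_right_inv ((mem_SU hF _).1 g.2)]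
  have hchar : ∀ a b : Cfsg.SU (m + 1) F q, IsConj a b →
      ((a : Matrix.SpecialLinearGroup (Fin (m + 1)) F) : Matrix (Fin (m + 1)) (Fin (m + 1)) F).charpoly =
      ((b : Matrix.SpecialLinearGroup (Fin (m + 1)) F) : Matrix (Fin (m + 1)) (Fin (m + 1)) F).charpoly := by
    intro a b hab
    obtain ⟨u, rfl⟩ := isConj_iff.1 hab
    simp only [Subgroup.coe_mul, Matrix.SpecialLinearGroup.coe_mul]
    rw [Matrix.charpoly_mul_comm, ← mul_assoc, ← Matrix.SpecialLinearGroup.coe_mul, ← Subgroup.coe_mul, inv_mul_cancel,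
      Subgroup.coe_one, Matrix.SpecialLinearGroup.coe_one, one_mul]
  let φ : {c : ConjClasses ↥(Cfsg.SU (m + 1) F q) // ∃ g : ↥(Cfsg.SU (m + 1) F q), ConjClasses.mk g = c ∧
      (orderOf g).Coprime p} → T := fun c => ⟨_, hmemT c.2.choose⟩
  have hφ : Function.Bijective φ := by
    constructor
    · intro c d e
      apply Subtype.ext
      rw [← c.2.choose_spec.1, ← d.2.choose_spec.1, ConjClasses.mk_eq_mk_iff_isConj]
      exact S2390.result hF p (m + 1) _ _ c.2.choose_spec.2 d.2.choose_spec.2 (congrArg Subtype.val e)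
    · rintro ⟨f, hf, hd, h0, hk⟩
      obtain ⟨A, hA, hAf⟩ := UnitarySemisimple.exists_ss (p := p) f hf hd
        (by rw [h0, hε]; exact pow_ne_zero _ (neg_ne_zero.2 one_ne_zero))
      have hAd : A.det = 1 := by rw [Matrix.det_eq_sign_charpoly_coeff, hAf, h0, Fintype.card_fin, ← hε, hεε]
      have hself : A.charpoly = ((cst σ A)⁻¹).charpoly := by
        ext k
        rcases le_or_gt k (m + 1) with h | h
        · rw [hdual A hAd k h, hAf]; exact hk k h
        · rw [Polynomial.coeff_eq_zero_of_natDegree_lt, Polynomial.coeff_eq_zero_of_natDegree_lt] <;>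
            (rw [Matrix.charpoly_natDegree_eq_dim, Fintype.card_fin]; exact h)
      obtain ⟨x, hx0, hx⟩ := UnitarySemisimple.exists_unitary hinv hne (by omega) hA hself
      have hxu : IsUnit x.det := isUnit_iff_ne_zero.2 hx0
      have hdet : (x * A * x⁻¹).det = 1 := by
        rw [Matrix.det_mul, Matrix.det_mul, hAd, mul_one, ← Matrix.det_mul, Matrix.mul_nonsing_inv x hxu, Matrix.det_one]
      let g : Cfsg.SU (m + 1) F q := ⟨⟨_, hdet⟩, (mem_SU hF _).2 hx⟩
      have hgo : (orderOf g).Coprime p := by
        obtain ⟨N, hN, hAN⟩ := hA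
        refine Nat.Coprime.coprime_dvd_left (orderOf_dvd_of_pow_eq_one ?_) hN
        have e : ∀ j, (x * A * x⁻¹) ^ j = x * A ^ j * x⁻¹ := fun j => by
          induction j with
          | zero => simp [Matrix.mul_nonsing_inv x hxu]
          | succ j ih =>
            rw [pow_succ, ih, pow_succ]
            calc _ = x * A ^ j * (x⁻¹ * x) * A * x⁻¹ := by simp only [mul_assoc]
              _ = _ := by rw [Matrix.nonsing_inv_mul x hxu, mul_one]; simp only [mul_assoc]
        refine Subtype.ext (Subtype.ext ?_)
        rw [SubmonoidClass.coe_pow, Matrix.SpecialLinearGroup.coe_pow]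
        show (x * A * x⁻¹) ^ N = 1
        rw [e, hAN, mul_one, Matrix.mul_nonsing_inv x hxu]
      refine ⟨⟨ConjClasses.mk g, g, rfl, hgo⟩, Subtype.ext ?_⟩
      have hex : ∃ g' : Cfsg.SU (m + 1) F q, ConjClasses.mk g' = ConjClasses.mk g ∧ (orderOf g').Coprime p :=
        ⟨g, rfl, hgo⟩
      show ((hex.choose : Matrix.SpecialLinearGroup (Fin (m + 1)) F) : Matrix (Fin (m + 1)) (Fin (m + 1)) F).charpoly = f
      rw [hchar _ _ (ConjClasses.mk_eq_mk_iff_isConj.1 hex.choose_spec.1)]
      show (x * A * x⁻¹).charpoly = f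
      rw [Matrix.charpoly_mul_comm, ← mul_assoc, Matrix.nonsing_inv_mul x hxu, one_mul, hAf]
  rw [Nat.card_eq_of_bijective φ hφ, Nat.add_sub_cancel]
  -- coefficients
  let Fx := {a : Fin m → F // ∀ i, a i = ε * σ (a i.rev)}
  have e1 : T ≃ Fx :=
    { toFun := fun f => ⟨fun i => f.1.coeff (i.val + 1), fun i => by
          show f.1.coeff (i.val + 1) = ε * σ (f.1.coeff (i.rev.val + 1))
          rw [f.2.2.2.2 (i.val + 1) (by omega)]
          have := i.isLt
          congr 3
          rw [Fin.val_rev]; omega⟩
      invFun := fun a => ⟨Polynomial.X ^ (m + 1) +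
          ((Polynomial.degreeLTEquiv F (m + 1)).symm (Fin.cons ε a.1) : Polynomial F), by
        set g := (Polynomial.degreeLTEquiv F (m + 1)).symm (Fin.cons ε a.1) with hg
        have h := Polynomial.mem_degreeLT.1 g.2
        have hco : ∀ i : Fin (m + 1), (g : Polynomial F).coeff i = (Fin.cons ε a.1 : Fin (m + 1) → F) i := fun i =>
          congrFun ((Polynomial.degreeLTEquiv F (m + 1)).apply_symm_apply _) i
        have hlow : ∀ k (hk : k < m + 1), (Polynomial.X ^ (m + 1) + (g : Polynomial F)).coeff k =
            (Fin.cons ε a.1 : Fin (m + 1) → F) ⟨k, hk⟩ := fun k hk => by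
          rw [Polynomial.coeff_add, Polynomial.coeff_X_pow, if_neg (by omega), zero_add]; exact hco ⟨k, hk⟩
        have htop : (Polynomial.X ^ (m + 1) + (g : Polynomial F)).coeff (m + 1) = 1 := by
          rw [Polynomial.coeff_add, Polynomial.coeff_X_pow, if_pos rfl,
            Polynomial.coeff_eq_zero_of_degree_lt h, add_zero]
        refine ⟨Polynomial.monic_X_pow_add h, Polynomial.natDegree_eq_of_degree_eq_some (by
          rw [Polynomial.degree_add_eq_left_of_degree_lt (by rw [Polynomial.degree_X_pow]; exact h),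
            Polynomial.degree_X_pow]), ?_, fun k hk => ?_⟩
        · rw [hlow 0 (by omega)]; rfl
        · rcases Nat.eq_zero_or_pos k with rfl | hk0
          · rw [hlow 0 (by omega), Nat.sub_zero, htop, map_one, mul_one]; rfl
          rcases eq_or_lt_of_le hk with rfl | hk'
          · rw [htop, Nat.sub_self, hlow 0 (by omega)]
            show (1 : F) = ε * σ ε
            rw [hεσ, hεε]
          obtain ⟨j, rfl⟩ : ∃ j, k = j + 1 := ⟨k - 1, by omega⟩
          rw [hlow (j + 1) hk', hlow (m + 1 - (j + 1)) (by omega)]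
          have e : (⟨m + 1 - (j + 1), by omega⟩ : Fin (m + 1)) = (⟨j, by omega⟩ : Fin m).rev.succ := by
            ext; simp only [Fin.val_succ, Fin.val_rev]; omega
          rw [e, Fin.cons_succ, show (⟨j + 1, hk'⟩ : Fin (m + 1)) = (⟨j, by omega⟩ : Fin m).succ from rfl, Fin.cons_succ]
          exact a.2 _⟩
      left_inv := fun f => by
        refine Subtype.ext (Polynomial.ext fun k => ?_)
        simp only
        rw [Polynomial.coeff_add, Polynomial.coeff_X_pow]
        set g := (Polynomial.degreeLTEquiv F (m + 1)).symm (Fin.cons ε fun i : Fin m => f.1.coeff (i.val + 1)) with hg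
        rcases lt_trichotomy k (m + 1) with hk | rfl | hk
        · rw [if_neg (by omega), zero_add]
          have e := congrFun ((Polynomial.degreeLTEquiv F (m + 1)).apply_symm_apply
            (Fin.cons ε fun i : Fin m => f.1.coeff (i.val + 1))) ⟨k, hk⟩
          refine e.trans ?_
          rcases k with _ | j
          · exact f.2.2.2.1.symm
          · rfl
        · rw [if_pos rfl, Polynomial.coeff_eq_zero_of_degree_lt (Polynomial.mem_degreeLT.1 g.2), add_zero]
          have := f.2.1.coeff_natDegree
          rw [f.2.2.1] at this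
          exact this.symm
        · rw [if_neg (by omega), Polynomial.coeff_eq_zero_of_degree_lt (lt_trans (Polynomial.mem_degreeLT.1 g.2)
            (by exact_mod_cast hk)), add_zero, Polynomial.coeff_eq_zero_of_natDegree_lt (by rw [f.2.2.1]; exact hk)]
      right_inv := fun a => by
        refine Subtype.ext (funext fun i => ?_)
        simp only
        rw [Polynomial.coeff_add, Polynomial.coeff_X_pow, if_neg (by omega), zero_add]
        exact (congrFun ((Polynomial.degreeLTEquiv F (m + 1)).apply_symm_apply (Fin.cons ε a.1)) i.succ).trans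
          (Fin.cons_succ _ _ _) }
  rw [Nat.card_congr e1]
  obtain ⟨ω, hω⟩ := hne
  have hω' : ω - σ ω ≠ 0 := sub_ne_zero.2 (Ne.symm hω)
  let t : (Fin m → F) → (Fin m → F) := fun a i => ε * σ (a i.rev)
  have htt : ∀ a, t (t a) = a := fun a => by
    funext i
    show ε * σ (ε * σ (a i.rev.rev)) = a i
    rw [map_mul, hεσ, hinv, Fin.rev_rev, ← mul_assoc, hεε, one_mul]
  have e2 : Fx × Fx ≃ (Fin m → F) :=
    { toFun := fun uv i => uv.1.1 i + ω * uv.2.1 i
      invFun := fun a =>
        (⟨fun i => a i - ω * ((a i - t a i) / (ω - σ ω)), fun i => by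
            show _ = ε * σ (a i.rev - ω * ((a i.rev - t a i.rev) / (ω - σ ω)))
            have h2 : σ (t a i.rev) = ε * a i := by
              show σ (ε * σ (a i.rev.rev)) = _
              rw [map_mul, hεσ, hinv, Fin.rev_rev]
            rw [map_sub, map_mul, map_div₀, map_sub, map_sub, h2, hinv,
              show σ ω - ω = -(ω - σ ω) by ring, show σ (a i.rev) = ε * t a i by
                show _ = ε * (ε * σ (a i.rev)); rw [← mul_assoc, hεε, one_mul]]
            field_simp
            linear_combination (a i * σ ω - t a i * ω) * hεε⟩,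
          ⟨fun i => (a i - t a i) / (ω - σ ω), fun i => by
            show _ = ε * σ ((a i.rev - t a i.rev) / (ω - σ ω))
            have h2 : σ (t a i.rev) = ε * a i := by
              show σ (ε * σ (a i.rev.rev)) = _
              rw [map_mul, hεσ, hinv, Fin.rev_rev]
            rw [map_div₀, map_sub, map_sub, h2, hinv, show σ ω - ω = -(ω - σ ω) by ring,
              show σ (a i.rev) = ε * t a i by show _ = ε * (ε * σ (a i.rev)); rw [← mul_assoc, hεε, one_mul]]
            field_simp
            linear_combination (t a i - a i) * hεε⟩)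
      left_inv := fun uv => by
        obtain ⟨⟨u, hu⟩, ⟨v, hv⟩⟩ := uv
        have ht : ∀ i, t (fun i => u i + ω * v i) i = u i + σ ω * v i := fun i => by
          show ε * σ (u i.rev + ω * v i.rev) = _
          rw [hu i, hv i, map_add, map_mul]; ring
        refine Prod.ext (Subtype.ext (funext fun i => ?_)) (Subtype.ext (funext fun i => ?_))
        · simp only [ht]
          field_simp
          ring
        · simp only [ht]
          field_simp
          ring
      right_inv := fun a => funext fun i => by simp only; ring }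
  have hc := Nat.card_congr e2
  rw [Nat.card_prod, Nat.card_fun, Nat.card_fin, Nat.card_eq_fintype_card (α := F), hF, ← pow_two, pow_right_comm] at hc
  exact Nat.pow_left_injective (by omega) hc

end Cfsg.Agent.S2386
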