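import Cfsg.Statements.S2387
import Cfsg.Agent.Known.SemisimpleCharpoly

set_option autoImplicit false
open scoped MatrixGroups
open Cfsg

namespace Cfsg.Agent.S2387

/-- In `GL_n(q)` with `n ≥ 1`, `q` a power of the prime `p`, the number of conjugacy classes of elements of order prime to `p` (diagonalisable over the algebraic closure; determined by the characteristic polynomial) is `(q - 1) q^(n-1)`. -/
theorem result {F : Type*} [Field F] [Fintype F] {q : ℕ} (hq : Fintype.card F = q) (p : ℕ) [Fact p.Prime] [CharP F p] (n : ℕ) (hn : 1 ≤ n) :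
    Nat.card {c : ConjClasses (GL (Fin n) F) // ∃ g : GL (Fin n) F, ConjClasses.mk g = c ∧ (orderOf g).Coprime p} = (q - 1) * q ^ (n - 1) := by
  classical
  subst hq
  obtain ⟨m, rfl⟩ : ∃ m, n = m + 1 := ⟨n - 1, by omega⟩
  let φ : {c : ConjClasses (GL (Fin (m + 1)) F) // ∃ g : GL (Fin (m + 1)) F, ConjClasses.mk g = c ∧ (orderOf g).Coprime p} →
      {f : Polynomial F // f.Monic ∧ f.natDegree = m + 1 ∧ f.coeff 0 ≠ 0} := fun c =>
    ⟨(c.2.choose : Matrix (Fin (m + 1)) (Fin (m + 1)) F).charpoly, Matrix.charpoly_monic _,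
      by rw [Matrix.charpoly_natDegree_eq_dim, Fintype.card_fin], fun e => by
        have h := Matrix.GeneralLinearGroup.det_ne_zero c.2.choose
        rw [Matrix.det_eq_sign_charpoly_coeff, e, mul_zero] at h
        exact h rfl⟩
  have hφ : Function.Bijective φ := by
    constructor
    · intro c d e
      have e' := congrArg Subtype.val e
      apply Subtype.ext
      rw [← c.2.choose_spec.1, ← d.2.choose_spec.1, ConjClasses.mk_eq_mk_iff_isConj]
      exact Cfsg.Lib.SemisimpleCharpoly.isConj_GL_of_charpoly p _ _ c.2.choose_spec.2 d.2.choose_spec.2 e'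
    · rintro ⟨f, hf, hd, h0⟩
      obtain ⟨g, hg, hgf⟩ := Cfsg.Lib.SemisimpleCharpoly.exists_GL p f hf hd h0
      refine ⟨⟨ConjClasses.mk g, g, rfl, hg⟩, Subtype.ext ?_⟩
      have hex : ∃ g' : GL (Fin (m + 1)) F, ConjClasses.mk g' = ConjClasses.mk g ∧ (orderOf g').Coprime p := ⟨g, rfl, hg⟩
      show (hex.choose : Matrix (Fin (m + 1)) (Fin (m + 1)) F).charpoly = f
      obtain ⟨u, hu⟩ := isConj_iff.1 (ConjClasses.mk_eq_mk_iff_isConj.1 hex.choose_spec.1)
      have h2 := congrArg (fun x : GL (Fin (m + 1)) F => (x : Matrix (Fin (m + 1)) (Fin (m + 1)) F).charpoly) hu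
      simp only [Units.val_mul, Matrix.coe_units_inv, Matrix.charpoly_units_conj] at h2
      exact h2.trans hgf
  rw [Nat.card_eq_of_bijective φ hφ, Cfsg.Lib.SemisimpleCharpoly.card_monic m (fun a => a ≠ 0),
    ← Nat.card_congr (unitsEquivNeZero (G₀ := F)), Nat.card_units, Nat.card_eq_fintype_card (α := F)]
  simp

end Cfsg.Agent.S2387
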