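import Cfsg.Statements.S2392
import Cfsg.Agent.Classical.Misc.CrossCharBound
import Cfsg.Agent.LinearPerm.Transitive
-- import your own Cfsg.Agent.* helpers here

set_option autoImplicit false
open scoped MatrixGroups
open Cfsg

namespace Cfsg.Agent.S2392

open Matrix Cfsg.Lib.CrossChar

/-- reindexing of `SL` -/
noncomputable def reindexSL {F : Type*} [Field F] {α β : Type*} [Fintype α] [DecidableEq α] [Fintype β] [DecidableEq β]
    (e : α ≃ β) : Matrix.SpecialLinearGroup α F →* Matrix.SpecialLinearGroup β F :=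
  MonoidHom.mk' (fun A => ⟨(A.1).submatrix e.symm e.symm, by rw [Matrix.det_submatrix_equiv_self]; exact A.2⟩)
    (fun A B => Subtype.ext (by
      show (A.1 * B.1).submatrix e.symm e.symm = A.1.submatrix e.symm e.symm * B.1.submatrix e.symm e.symm
      rw [Matrix.submatrix_mul_equiv]))

theorem reindexSL_bijective {F : Type*} [Field F] {α β : Type*} [Fintype α] [DecidableEq α] [Fintype β] [DecidableEq β]
    (e : α ≃ β) : Function.Bijective (reindexSL (F := F) e) := by
  refine ⟨fun A B h => Subtype.ext (Matrix.ext fun i j => ?_), fun B => ⟨⟨B.1.submatrix e e, by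
    rw [Matrix.det_submatrix_equiv_self]; exact B.2⟩, Subtype.ext ?_⟩⟩
  · have := congrFun (congrFun (congrArg Subtype.val h) (e i)) (e j)
    change (A.1.submatrix e.symm e.symm) (e i) (e j) = (B.1.submatrix e.symm e.symm) (e i) (e j) at this
    simpa using this
  · show (B.1.submatrix e e).submatrix e.symm e.symm = B.1
    simp



/-- A lower bound for representations in cross characteristic: for `n ≥ 3` and a field `F` with `q` elements, every homomorphism from `SL_n(F)` to `GL_d(K)`, `K` a field of characteristic different from that of `F`, whose kernel is central has `d ≥ q^(n-1) - 1`. -/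
theorem result {F : Type*} [Field F] [Fintype F] {q : ℕ} (hq : Fintype.card F = q) (n : ℕ) (hn : 3 ≤ n)
    {K : Type*} [Field K] (hK : ringChar K ≠ ringChar F) {d : ℕ}
    (ρ : Matrix.SpecialLinearGroup (Fin n) F →* GL (Fin d) K) (hker : ρ.ker ≤ Subgroup.center (Matrix.SpecialLinearGroup (Fin n) F)) :
    q ^ (n - 1) - 1 ≤ d := by
  classical
  obtain ⟨m, rfl⟩ : ∃ m, n = m + 1 := ⟨n - 1, by omega⟩
  obtain ⟨p, hp⟩ := CharP.exists F
  haveI : Fact p.Prime := ⟨CharP.char_is_prime F p⟩
  obtain ⟨ψ, hψ⟩ := exists_addChar (F := F) (L := AlgebraicClosure K) p (cast_char_ne_zero hK p)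
  let e : Fin 1 ⊕ Fin m ≃ Fin (m + 1) := finSumFinEquiv.trans (finCongr (Nat.add_comm 1 m))
  let j := reindexSL (F := F) e
  let U : (Fin m → F) → Matrix.SpecialLinearGroup (Fin 1 ⊕ Fin m) F := fun v =>
    ⟨Matrix.fromBlocks 1 (Matrix.replicateRow (Fin 1) v) 0 1, by rw [Matrix.det_fromBlocks_zero₂₁]; simp⟩
  let u : (Fin m → F) → Matrix.SpecialLinearGroup (Fin (m + 1)) F := fun v => j (U v)
  have hu : ∀ v w, u (v + w) = u v * u w := fun v w => by
    show j (U (v + w)) = j (U v) * j (U w)
    rw [← map_mul]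
    refine congrArg j (Subtype.ext ?_)
    show Matrix.fromBlocks 1 (Matrix.replicateRow (Fin 1) (v + w)) 0 1 =
      Matrix.fromBlocks 1 (Matrix.replicateRow (Fin 1) v) 0 1 * Matrix.fromBlocks 1 (Matrix.replicateRow (Fin 1) w) 0 1
    rw [Matrix.fromBlocks_multiply]
    simp [add_comm, Matrix.replicateRow_add]
  -- the image of a non-zero vector is not central
  let w : Fin m → F := Pi.single ⟨0, by omega⟩ 1
  have hw : toClosure ρ (u w) ≠ 1 := by
    refine toClosure_ne_one ρ fun hk => ?_
    have hc := hker hk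
    obtain ⟨c, -, hc⟩ := Matrix.SpecialLinearGroup.mem_center_iff.1 hc
    have hne : e (Sum.inl 0) ≠ e (Sum.inr ⟨0, by omega⟩) := fun h => Sum.inl_ne_inr (e.injective h)
    have hval := congrFun (congrFun hc (e (Sum.inl 0))) (e (Sum.inr ⟨0, by omega⟩))
    rw [Matrix.scalar_apply, Matrix.diagonal_apply_ne _ hne] at hval
    change (0 : F) = ((Matrix.fromBlocks 1 (Matrix.replicateRow (Fin 1) w) 0 1).submatrix e.symm e.symm)
      (e (Sum.inl 0)) (e (Sum.inr ⟨0, by omega⟩)) at hval
    simp [w] at hval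
  obtain ⟨a₀, h₀, ha₀⟩ := exists_proj_ne (M := toClosure ρ) hψ hu (card_fun_ne_zero hK p) hw
  have hne : a₀ ≠ 0 := fun h => ha₀ (by rw [h, zero_dotProduct])
  have h := card_le (M := toClosure ρ) hψ hu (card_fun_ne_zero hK p) h₀
    (Finset.univ.filter (fun a : Fin m → F => a ≠ 0)) (fun a ha => ?_)
  · rw [Finset.filter_ne' , Finset.card_erase_of_mem (Finset.mem_univ _), Finset.card_univ, Fintype.card_fun,
      hq, Fintype.card_fin, Fintype.card_fin] at h
    simpa using h
  · simp only [Finset.mem_filter, Finset.mem_univ, true_and] at ha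
    -- an element of `SL_m` moving `a₀` to `a`
    have hind : ∀ x : Fin m → F, x ≠ 0 → LinearIndependent F (fun _ : Fin 1 => x) := fun x hx =>
      linearIndependent_unique_iff.2 hx
    obtain ⟨g₁, hg₁⟩ := Cfsg.Lib.LinearPerm.exists_sl_cols (m := 1) (n := m) (by omega) _ (hind a₀ hne)
    obtain ⟨g₂, hg₂⟩ := Cfsg.Lib.LinearPerm.exists_sl_cols (m := 1) (n := m) (by omega) _ (hind a ha)
    set A : Matrix.SpecialLinearGroup (Fin m) F := g₂ * g₁⁻¹ with hA
    have hAa : (A : Matrix (Fin m) (Fin m) F) *ᵥ a₀ = a := by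
      rw [← hg₁ 0, Matrix.mulVec_mulVec, ← Matrix.SpecialLinearGroup.coe_mul, hA, inv_mul_cancel_right, hg₂ 0]
    have h1 : ((A⁻¹ : Matrix.SpecialLinearGroup (Fin m) F) : Matrix (Fin m) (Fin m) F) *ᵥ a = a₀ := by
      rw [← hAa, Matrix.mulVec_mulVec, ← Matrix.SpecialLinearGroup.coe_mul, inv_mul_cancel,
        Matrix.SpecialLinearGroup.coe_one, Matrix.one_mulVec]
    let f : (Fin m → F) ≃ (Fin m → F) :=
      { toFun := fun v => v ᵥ* ((A⁻¹ : Matrix.SpecialLinearGroup (Fin m) F) : Matrix (Fin m) (Fin m) F)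
        invFun := fun v => v ᵥ* (A : Matrix (Fin m) (Fin m) F)
        left_inv := fun v => by
          show (v ᵥ* _) ᵥ* _ = v
          rw [Matrix.vecMul_vecMul, ← Matrix.SpecialLinearGroup.coe_mul, inv_mul_cancel,
            Matrix.SpecialLinearGroup.coe_one, Matrix.vecMul_one]
        right_inv := fun v => by
          show (v ᵥ* _) ᵥ* _ = v
          rw [Matrix.vecMul_vecMul, ← Matrix.SpecialLinearGroup.coe_mul, mul_inv_cancel,
            Matrix.SpecialLinearGroup.coe_one, Matrix.vecMul_one] }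
    refine ⟨j ⟨Matrix.fromBlocks 1 0 0 (A : Matrix (Fin m) (Fin m) F), by
      rw [Matrix.det_fromBlocks_zero₂₁]; simp⟩, f, fun v => ?_, fun v => ?_⟩
    · show j _ * j (U v) = j (U (f v)) * j _
      refine (map_mul j _ _).symm.trans ((congrArg j (Subtype.ext ?_)).trans (map_mul j _ _))
      show Matrix.fromBlocks (1 : Matrix (Fin 1) (Fin 1) F) 0 0 (A : Matrix (Fin m) (Fin m) F) *
          Matrix.fromBlocks 1 (Matrix.replicateRow (Fin 1) v) 0 1 =
        Matrix.fromBlocks 1 (Matrix.replicateRow (Fin 1) (f v)) 0 1 *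
          Matrix.fromBlocks 1 0 0 (A : Matrix (Fin m) (Fin m) F)
      rw [Matrix.fromBlocks_multiply, Matrix.fromBlocks_multiply]
      have hv : Matrix.replicateRow (Fin 1) (f v) * (A : Matrix (Fin m) (Fin m) F) =
          Matrix.replicateRow (Fin 1) v := by
        rw [← Matrix.replicateRow_vecMul]
        exact congrArg _ (f.symm_apply_apply v)
      simp [hv]
    · show a ⬝ᵥ (v ᵥ* _) = a₀ ⬝ᵥ v
      rw [dotProduct_comm, ← Matrix.dotProduct_mulVec, h1, dotProduct_comm]

end Cfsg.Agent.S2392
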