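import Cfsg.Statements.S2393
import Cfsg.Agent.Classical.Misc.CrossCharBound
-- import your own Cfsg.Agent.* helpers here

set_option autoImplicit false
open scoped MatrixGroups
open Cfsg

namespace Cfsg.Agent.S2393

open Matrix Cfsg.Lib.CrossChar

/-- reindexing of the symplectic group -/
noncomputable def reindexSp {F : Type*} [Field F] {α β : Type*} [Fintype α] [DecidableEq α] [Fintype β] [DecidableEq β]
    (e : α ≃ β) : Matrix.symplecticGroup α F →* Matrix.symplecticGroup β F :=
  MonoidHom.mk' (fun A => ⟨(A.1).submatrix (Equiv.sumCongr e.symm e.symm) (Equiv.sumCongr e.symm e.symm), by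
      have hJ : (Matrix.J α F).submatrix (Equiv.sumCongr e.symm e.symm) (Equiv.sumCongr e.symm e.symm) = Matrix.J β F := by
        ext (i | i) (k | k) <;> simp [Matrix.J, Matrix.one_apply]
      rw [SymplecticGroup.mem_iff, ← hJ, Matrix.transpose_submatrix, Matrix.submatrix_mul_equiv,
        Matrix.submatrix_mul_equiv, SymplecticGroup.mem_iff.1 A.2]⟩)
    (fun A B => Subtype.ext (by
      show (A.1 * B.1).submatrix (Equiv.sumCongr e.symm e.symm) (Equiv.sumCongr e.symm e.symm) = _ * _
      rw [← Matrix.submatrix_mul_equiv _ _ _ (Equiv.sumCongr e.symm e.symm)]))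

variable {F : Type*} [Field F] {m : ℕ}

/-- the symmetric matrix attached to a vector -/
def sym (v : Fin 1 ⊕ Fin m → F) : Matrix (Fin 1 ⊕ Fin m) (Fin 1 ⊕ Fin m) F :=
  Matrix.fromBlocks (Matrix.of fun _ _ => v (Sum.inl 0)) (Matrix.of fun _ j => v (Sum.inr j))
    (Matrix.of fun i _ => v (Sum.inr i)) 0

theorem sym_transpose (v : Fin 1 ⊕ Fin m → F) : (sym v)ᵀ = sym v := by
  ext (i | i) (k | k) <;> simp [sym]

theorem sym_add (v w : Fin 1 ⊕ Fin m → F) : sym (v + w) = sym v + sym w := by
  ext (i | i) (k | k) <;> simp [sym]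

/-- the unipotent element attached to a vector -/
noncomputable def unip (v : Fin 1 ⊕ Fin m → F) : Matrix.symplecticGroup (Fin 1 ⊕ Fin m) F :=
  ⟨Matrix.fromBlocks 1 (sym v) 0 1, by
    rw [SymplecticGroup.mem_iff, Matrix.J, Matrix.fromBlocks_transpose, Matrix.fromBlocks_multiply,
      Matrix.fromBlocks_multiply, sym_transpose]
    simp⟩

/-- the Levi element -/
noncomputable def levi (A B : Matrix (Fin 1 ⊕ Fin m) (Fin 1 ⊕ Fin m) F) (h : A * Bᵀ = 1) :
    Matrix.symplecticGroup (Fin 1 ⊕ Fin m) F :=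
  ⟨Matrix.fromBlocks A 0 0 B, by
    have h' : B * Aᵀ = 1 := by rw [← Matrix.transpose_transpose (B * Aᵀ), Matrix.transpose_mul,
      Matrix.transpose_transpose, h, Matrix.transpose_one]
    rw [SymplecticGroup.mem_iff, Matrix.J, Matrix.fromBlocks_transpose, Matrix.fromBlocks_multiply,
      Matrix.fromBlocks_multiply]
    simp [h, h']⟩

/-- the acting matrix -/
def actMat (l : F) (w : Fin m → F) : Matrix (Fin 1 ⊕ Fin m) (Fin 1 ⊕ Fin m) F :=
  Matrix.fromBlocks (Matrix.of fun _ _ => l) (Matrix.of fun _ j => w j) 0 1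

theorem actMat_det (l : F) (w : Fin m → F) : (actMat l w).det = l := by
  rw [actMat, Matrix.det_fromBlocks_zero₂₁, Matrix.det_one, mul_one]
  simp

/-- the image of a vector under the congruence action -/
def img (l : F) (w : Fin m → F) (v : Fin 1 ⊕ Fin m → F) : Fin 1 ⊕ Fin m → F :=
  Sum.elim (fun _ => l ^ 2 * v (Sum.inl 0) + 2 * l * (w ⬝ᵥ fun j => v (Sum.inr j))) (fun j => l * v (Sum.inr j))

theorem sym_img (l : F) (w : Fin m → F) (v : Fin 1 ⊕ Fin m → F) :
    actMat l w * sym v * (actMat l w)ᵀ = sym (img l w v) := by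
  rw [actMat, sym, sym, Matrix.fromBlocks_multiply, Matrix.fromBlocks_transpose, Matrix.fromBlocks_multiply]
  congr 1
  · ext i k
    simp [img, Matrix.mul_apply, dotProduct, Finset.mul_sum, Finset.sum_mul]
    rw [add_mul, Finset.sum_mul, add_assoc, ← Finset.sum_add_distrib]
    congr 1
    · ring
    · exact Finset.sum_congr rfl fun x _ => by ring
  · ext i k; simp [img, Matrix.mul_apply, mul_comm]
  · ext i k; simp [img, Matrix.mul_apply, mul_comm]
  · ext i k; simp [img, Matrix.mul_apply]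



/-- A lower bound for representations in cross characteristic: for `n ≥ 2` and a field `F` with `q` elements, `q` odd, every homomorphism from the symplectic group `Sp_{2n}(F)` to `GL_d(K)`, `K` a field of characteristic different from that of `F`, whose kernel is central has `d ≥ q^(n-1)(q-1)/2`. -/
theorem result {F : Type*} [Field F] [Fintype F] {q : ℕ} (hq : Fintype.card F = q) (hodd : Odd q) (n : ℕ) (hn : 2 ≤ n)
    {K : Type*} [Field K] (hK : ringChar K ≠ ringChar F) {d : ℕ}
    (ρ : ↥(Matrix.symplecticGroup (Fin n) F) →* GL (Fin d) K) (hker : ρ.ker ≤ Subgroup.center ↥(Matrix.symplecticGroup (Fin n) F)) :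
    q ^ (n - 1) * (q - 1) / 2 ≤ d := by
  classical
  obtain ⟨m, rfl⟩ : ∃ m, n = m + 1 := ⟨n - 1, by omega⟩
  obtain ⟨p, hp⟩ := CharP.exists F
  haveI : Fact p.Prime := ⟨CharP.char_is_prime F p⟩
  obtain ⟨ψ, hψ⟩ := exists_addChar (F := F) (L := AlgebraicClosure K) p (cast_char_ne_zero hK p)
  let e : Fin 1 ⊕ Fin m ≃ Fin (m + 1) := finSumFinEquiv.trans (finCongr (Nat.add_comm 1 m))
  let j := reindexSp (F := F) e
  let u : (Fin 1 ⊕ Fin m → F) → Matrix.symplecticGroup (Fin (m + 1)) F := fun v => j (unip v)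
  have hu : ∀ v w, u (v + w) = u v * u w := fun v w => by
    show j (unip (v + w)) = j (unip v) * j (unip w)
    rw [← map_mul]
    refine congrArg j (Subtype.ext ?_)
    show Matrix.fromBlocks 1 (sym (v + w)) 0 1 = Matrix.fromBlocks 1 (sym v) 0 1 * Matrix.fromBlocks 1 (sym w) 0 1
    rw [Matrix.fromBlocks_multiply, sym_add]
    simp [add_comm]
  let z : Fin 1 ⊕ Fin m → F := Pi.single (Sum.inl 0) 1
  have hw : toClosure ρ (u z) ≠ 1 := by
    refine toClosure_ne_one ρ fun hk => ?_
    have hc := Subgroup.mem_center_iff.1 (hker hk) (j ⟨Matrix.J (Fin 1 ⊕ Fin m) F, SymplecticGroup.J_mem _ _⟩)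
    rw [← map_mul, ← map_mul] at hc
    have hinj : Function.Injective j := fun A B h => Subtype.ext (Matrix.ext fun a b => by
      have := congrFun (congrFun (congrArg Subtype.val h) (Sum.map e e a)) (Sum.map e e b)
      rcases a with a | a <;> rcases b with b | b <;> simpa [j, reindexSp] using this)
    have := congrFun (congrFun (congrArg Subtype.val (hinj hc)) (Sum.inl (Sum.inl 0))) (Sum.inl (Sum.inl 0))
    simp [unip, Matrix.J, Matrix.fromBlocks_multiply, sym, z] at this
  obtain ⟨a₀, h₀, ha₀⟩ := exists_proj_ne (M := toClosure ρ) hψ hu (card_fun_ne_zero hK p) hw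
  have hα : a₀ (Sum.inl 0) ≠ 0 := by simpa [z, dotProduct_single] using ha₀
  have h2 : (2 : F) ≠ 0 := by
    intro h
    haveI : CharP F 2 := CharTwo.of_one_ne_zero_of_two_eq_zero one_ne_zero h
    obtain ⟨k, -, hk⟩ := FiniteField.card F 2
    rw [← hq, hk] at hodd
    exact (Nat.not_even_iff_odd.2 hodd) (Nat.even_pow.2 ⟨even_two, k.ne_zero⟩)
  let φ : (powMonoidHom 2 : Fˣ →* Fˣ).range × (Fin m → F) → (Fin 1 ⊕ Fin m → F) := fun x =>
    Sum.elim (fun _ => a₀ (Sum.inl 0) * ((x.1 : Fˣ) : F)) x.2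
  have hφ : Function.Injective φ := fun x y h => by
    refine Prod.ext (Subtype.ext (Units.ext ?_)) (funext fun i => congrFun h (Sum.inr i))
    exact mul_left_cancel₀ hα (congrFun h (Sum.inl 0))
  have h := card_le (M := toClosure ρ) hψ hu (card_fun_ne_zero hK p) h₀ (Finset.univ.image φ) (fun a ha => ?_)
  · rw [Finset.card_image_of_injective _ hφ, Finset.card_univ, Fintype.card_prod, Fintype.card_fun, hq,
      Fintype.card_fin, Fintype.card_fin] at h
    have hcard : Fintype.card (powMonoidHom 2 : Fˣ →* Fˣ).range = (q - 1) / 2 := by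
      rw [← Nat.card_eq_fintype_card, IsCyclic.card_powMonoidHom_range, Nat.card_units,
        Nat.card_eq_fintype_card, hq]
      have : 2 ∣ q - 1 := by obtain ⟨k, rfl⟩ := hodd; omega
      rw [Nat.gcd_eq_right this]
    rw [hcard] at h
    have : 2 ∣ q - 1 := by obtain ⟨k, rfl⟩ := hodd; omega
    simpa [Nat.mul_div_assoc _ this, mul_comm] using h
  · simp only [Finset.mem_image, Finset.mem_univ, true_and] at ha
    obtain ⟨⟨⟨_, ⟨l₀, rfl⟩⟩, b⟩, rfl⟩ := ha
    -- the scalar is the inverse of a square root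
    set l : F := ((l₀⁻¹ : Fˣ) : F) with hl
    have hl0 : l ≠ 0 := Units.ne_zero _
    set w : Fin m → F := fun i => (a₀ (Sum.inr i) - l * b i) / (2 * l * (a₀ (Sum.inl 0) * (l₀ : F) ^ 2)) with hwdef
    have hden : 2 * l * (a₀ (Sum.inl 0) * (l₀ : F) ^ 2) ≠ 0 :=
      mul_ne_zero (mul_ne_zero h2 hl0) (mul_ne_zero hα (pow_ne_zero _ l₀.ne_zero))
    have hll : l * (l₀ : F) = 1 := by rw [hl]; exact Units.inv_mul l₀
    have hdot : ∀ v, φ (⟨l₀ ^ 2, ⟨l₀, rfl⟩⟩, b) ⬝ᵥ img l w v = a₀ ⬝ᵥ v := by
      intro v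
      simp only [φ, img, dotProduct, Fintype.sum_sum_type, Sum.elim_inl, Sum.elim_inr, Fin.sum_univ_one,
        Units.val_pow_eq_pow_val, mul_add, Finset.mul_sum, add_assoc]
      rw [← Finset.sum_add_distrib]
      congr 1
      · linear_combination (a₀ (Sum.inl 0) * v (Sum.inl 0) * (l * (l₀ : F) + 1)) * hll
      · refine Finset.sum_congr rfl fun i _ => ?_
        have hwi : w i * (2 * l * (a₀ (Sum.inl 0) * (l₀ : F) ^ 2)) = a₀ (Sum.inr i) - l * b i :=
          div_mul_cancel₀ _ hden
        linear_combination (v (Sum.inr i)) * hwi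
    have hsurj : Function.Injective (img l w) := by
      intro x y hxy
      have hr : ∀ i, x (Sum.inr i) = y (Sum.inr i) := fun i => mul_left_cancel₀ hl0 (congrFun hxy (Sum.inr i))
      funext i
      rcases i with i | i
      · have := congrFun hxy (Sum.inl 0)
        simp only [img, Sum.elim_inl, funext hr, add_left_inj, mul_eq_mul_left_iff, pow_eq_zero_iff two_ne_zero,
          hl0, or_false] at this
        rwa [Subsingleton.elim i 0]
      · exact hr i
    have hdet : IsUnit (actMat l w).det := by rw [actMat_det]; exact isUnit_iff_ne_zero.2 hl0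
    refine ⟨j (levi (actMat l w) ((actMat l w)⁻¹)ᵀ (by
      rw [Matrix.transpose_transpose, Matrix.mul_nonsing_inv _ hdet])), Equiv.ofBijective _
        (Finite.injective_iff_bijective.1 hsurj), fun v => ?_, hdot⟩
    show j _ * j (unip v) = j (unip (img l w v)) * j _
    rw [← map_mul, ← map_mul]
    refine congrArg j (Subtype.ext ?_)
    show Matrix.fromBlocks (actMat l w) 0 0 ((actMat l w)⁻¹)ᵀ * Matrix.fromBlocks 1 (sym v) 0 1 =
      Matrix.fromBlocks 1 (sym (img l w v)) 0 1 * Matrix.fromBlocks (actMat l w) 0 0 ((actMat l w)⁻¹)ᵀ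
    rw [Matrix.fromBlocks_multiply, Matrix.fromBlocks_multiply, ← sym_img]
    simp [Matrix.mul_assoc, ← Matrix.transpose_mul, Matrix.nonsing_inv_mul _ hdet]

end Cfsg.Agent.S2393
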