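import Cfsg.Statements.S2394
import Cfsg.Agent.Known.SLTwo.Torus

set_option autoImplicit false
set_option maxHeartbeats 3200000
set_option synthInstance.maxHeartbeats 400000
open scoped MatrixGroups
open Cfsg

namespace Cfsg.Agent.S2394

/-- The smallest degree of a faithful representation of the symplectic group `Sp_{2n}(q)` over its own field `F_q` is `2n`: every injective homomorphism from `Sp_{2n}(F)` to `GL_d(F)`, `F` the field with `q` elements, has `d ≥ 2n`. -/
theorem result {F : Type*} [Field F] [Fintype F] (n : ℕ) {d : ℕ}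
    (ρ : ↥(Matrix.symplecticGroup (Fin n) F) →* GL (Fin d) F) (hρ : Function.Injective ρ) : 2 * n ≤ d := by
  classical
  -- the product of n copies of SL(2)
  let emb : (Fin n → Matrix.SpecialLinearGroup (Fin 2) F) →* ↥(Matrix.symplecticGroup (Fin n) F) :=
    { toFun := fun g => ⟨Matrix.fromBlocks (Matrix.diagonal fun i => (g i : Matrix (Fin 2) (Fin 2) F) 0 0)
          (Matrix.diagonal fun i => (g i : Matrix (Fin 2) (Fin 2) F) 0 1)
          (Matrix.diagonal fun i => (g i : Matrix (Fin 2) (Fin 2) F) 1 0)
          (Matrix.diagonal fun i => (g i : Matrix (Fin 2) (Fin 2) F) 1 1), by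
        rw [SymplecticGroup.fromBlocks_mem_iff]
        refine ⟨?_, ?_, ?_⟩
        · simp [Matrix.diagonal_mul_diagonal, mul_comm]
        · simp [Matrix.diagonal_mul_diagonal, mul_comm]
        · rw [Matrix.diagonal_transpose, Matrix.diagonal_transpose, Matrix.diagonal_mul_diagonal,
            Matrix.diagonal_mul_diagonal, Matrix.diagonal_sub, ← Matrix.diagonal_one]
          congr 1
          funext i
          have h := (g i).2
          rw [Matrix.det_fin_two] at h
          linear_combination h⟩
      map_one' := Subtype.ext (by simp)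
      map_mul' := fun g h => Subtype.ext (by
        simp [Matrix.fromBlocks_multiply, Matrix.diagonal_mul_diagonal, Matrix.diagonal_add, Matrix.mul_apply,
          Fin.sum_univ_two]) }
  have hemb : Function.Injective emb := by
    intro g h e
    have e' := congrArg Subtype.val e
    simp only [emb, MonoidHom.coe_mk, OneHom.coe_mk, Matrix.fromBlocks_inj, Matrix.diagonal_eq_diagonal_iff] at e'
    funext i
    refine Subtype.ext ?_
    ext a b
    fin_cases a <;> fin_cases b
    · exact e'.1 i
    · exact e'.2.1 i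
    · exact e'.2.2.1 i
    · exact e'.2.2.2 i
  obtain ⟨s, hs⟩ := Cfsg.Lib.GLTwo.exists_orderOf_add_one (F := F)
  set q := Fintype.card F with hq
  have hq2 : 2 ≤ q := Fintype.one_lt_card
  let C := Subgroup.zpowers s
  let ψ : (Fin n → ↥C) →* Module.End F (Fin d → F) :=
    ((Matrix.toLinAlgEquiv' : Matrix (Fin d) (Fin d) F ≃ₐ[F] Module.End F (Fin d → F)).toMonoidHom.comp (Units.coeHom _)).comp
      (ρ.comp (emb.comp (MonoidHom.piMap fun _ => C.subtype)))
  have hψ : Function.Injective ψ := by
    intro g h e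
    have e1 := Units.ext ((Matrix.toLinAlgEquiv' : Matrix (Fin d) (Fin d) F ≃ₐ[F] Module.End F (Fin d → F)).injective e)
    have e2 := hemb (hρ e1)
    funext i
    exact Subtype.ext (congrFun e2 i)
  have hexp : ∀ g : Fin n → ↥C, g ^ (q + 1) = 1 := fun g => funext fun i => Subtype.ext (by
    have h := (g i).2
    obtain ⟨k, hk⟩ := Subgroup.mem_zpowers_iff.1 h
    show ((g i : Matrix.SpecialLinearGroup (Fin 2) F)) ^ (q + 1) = 1
    rw [← hk, ← zpow_natCast, ← zpow_mul, mul_comm, zpow_mul, zpow_natCast, ← hs, pow_orderOf_eq_one, one_zpow])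
  -- the commutative algebra spanned by the torus
  let S := Algebra.adjoin F (Set.range ψ)
  have hSc : ∀ x y : S, x * y = y * x := by
    have h1 : ∀ g, ∀ y ∈ S, Commute (ψ g) y := fun g y hy => by
      induction hy using Algebra.adjoin_induction with
      | mem z hz =>
        obtain ⟨g', rfl⟩ := hz
        show ψ g * ψ g' = ψ g' * ψ g
        rw [← map_mul, ← map_mul]
        congr 1
        funext i
        obtain ⟨a, ha⟩ := Subgroup.mem_zpowers_iff.1 (g i).2
        obtain ⟨b, hb⟩ := Subgroup.mem_zpowers_iff.1 (g' i).2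
        refine Subtype.ext ?_
        show (g i : Matrix.SpecialLinearGroup (Fin 2) F) * g' i = g' i * g i
        rw [← ha, ← hb, ← zpow_add, ← zpow_add, add_comm]
      | algebraMap r => exact (Algebra.commute_algebraMap_left r _).symm
      | add z w _ _ hz hw => exact hz.add_right hw
      | mul z w _ _ hz hw => exact hz.mul_right hw
    intro x y
    refine Subtype.ext ?_
    obtain ⟨x, hx⟩ := x
    show Commute x (y : Module.End F (Fin d → F))
    induction hx using Algebra.adjoin_induction with
    | mem z hz => obtain ⟨g, rfl⟩ := hz; exact h1 g y y.2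
    | algebraMap r => exact Algebra.commute_algebraMap_left r _
    | add z w _ _ hz hw => exact hz.add_left hw
    | mul z w _ _ hz hw => exact hz.mul_left hw
  letI : CommRing S := { (inferInstance : Ring S) with mul_comm := hSc }
  haveI : Finite (Module.End F (Fin d → F)) :=
    Finite.of_injective (fun f : Module.End F (Fin d → F) => (f : (Fin d → F) → (Fin d → F))) DFunLike.coe_injective
  haveI : Finite S := inferInstance
  let ψS : (Fin n → ↥C) →* S :=
    { toFun := fun g => ⟨ψ g, Algebra.subset_adjoin ⟨g, rfl⟩⟩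
      map_one' := Subtype.ext (map_one ψ)
      map_mul' := fun a b => Subtype.ext (map_mul ψ a b) }
  obtain ⟨p, hp⟩ := CharP.exists F
  obtain ⟨k, hpp, hk⟩ := FiniteField.card F p
  haveI := Fact.mk hpp
  haveI : Nontrivial (Matrix.SpecialLinearGroup (Fin 2) F) := ⟨⟨s, 1, fun h => by rw [h, orderOf_one] at hs; omega⟩⟩
  rcases Nat.eq_zero_or_pos n with hn | hn
  · omega
  haveI : Nontrivial S := by
    refine ⟨⟨0, 1, fun h => ?_⟩⟩
    have h' : (0 : Module.End F (Fin d → F)) = 1 := congrArg Subtype.val h
    haveI : Subsingleton (Module.End F (Fin d → F)) := subsingleton_of_zero_eq_one h'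
    have e := hψ (Subsingleton.elim (ψ fun _ => ⟨s, Subgroup.mem_zpowers s⟩) (ψ 1))
    have e' : s = 1 := congrArg Subtype.val (congrFun e ⟨0, hn⟩)
    rw [e', orderOf_one] at hs
    omega
  haveI : CharP S p := charP_of_injective_algebraMap (algebraMap F S).injective p
  have hfrob : ∀ x : S, x ^ (p ^ (2 * (k : ℕ))) = x := by
    have hgen : ∀ z ∈ S, ∀ hz : z ∈ S, (⟨z, hz⟩ : S) ^ (p ^ (2 * (k : ℕ))) = ⟨z, hz⟩ := fun z hz0 => by
      induction hz0 using Algebra.adjoin_induction with
      | mem z hz =>
        obtain ⟨g, rfl⟩ := hz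
        intro hz'
        show ψS g ^ _ = ψS g
        rw [← map_pow]
        congr 1
        rw [mul_comm, pow_mul, ← hk, ← hq]
        obtain ⟨j, hj⟩ : ∃ j, q = j + 1 := ⟨q - 1, by omega⟩
        rw [show q ^ 2 = j * (q + 1) + 1 by rw [hj]; ring, pow_succ, mul_comm j, pow_mul, hexp, one_pow, one_mul]
      | algebraMap r =>
        intro hz'
        show (algebraMap F S r) ^ _ = algebraMap F S r
        rw [← map_pow]
        congr 1
        rw [mul_comm, pow_mul, ← hk, sq, pow_mul, FiniteField.pow_card, FiniteField.pow_card]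
      | add z w hz hw ihz ihw =>
        intro hz'
        rw [show (⟨z + w, hz'⟩ : S) = ⟨z, hz⟩ + ⟨w, hw⟩ from rfl, add_pow_char_pow, ihz hz, ihw hw]
      | mul z w hz hw ihz ihw =>
        intro hz'
        rw [show (⟨z * w, hz'⟩ : S) = ⟨z, hz⟩ * ⟨w, hw⟩ from rfl, mul_pow, ihz hz, ihw hw]
    exact fun x => hgen x x.2 x.2
  haveI : IsReduced S := by
    refine ⟨fun x hx => ?_⟩
    obtain ⟨m, hm⟩ := hx
    have hiter : ∀ j, x ^ ((p ^ (2 * (k : ℕ))) ^ j) = x := fun j => by
      induction j with
      | zero => rw [pow_zero, pow_one]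
      | succ j ih => rw [pow_succ, pow_mul, ih, hfrob]
    rw [← hiter m]
    refine pow_eq_zero_of_le ?_ hm
    exact (Nat.lt_pow_self (Nat.one_lt_pow (by have := k.pos; omega) hpp.one_lt)).le
  haveI : IsArtinianRing S := inferInstance
  let Φ := IsArtinianRing.equivPi S
  haveI : Fintype (MaximalSpectrum S) := Fintype.ofFinite _
  -- dimension
  have hdim : Module.finrank F S ≤ d := by
    let E : MaximalSpectrum S → S := fun I => Φ.symm (Pi.single I 1)
    have hEne : ∀ I, ∃ v : Fin d → F, ((E I : S) : Module.End F (Fin d → F)) v ≠ 0 := fun I => by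
      by_contra h
      push Not at h
      have h0 : E I = 0 := Subtype.ext (LinearMap.ext h)
      have h1 : Φ (E I) I = 0 := by rw [h0, map_zero]; rfl
      haveI := I.isMaximal
      letI := Ideal.Quotient.field I.asIdeal
      rw [show Φ (E I) = Pi.single I 1 from Φ.apply_symm_apply _, Pi.single_eq_same] at h1
      exact one_ne_zero h1
    choose v hv using hEne
    have hEE : ∀ I J, E J * E I = if J = I then E J else 0 := fun I J => by
      apply Φ.injective
      rw [map_mul, show Φ (E J) = Pi.single J 1 from Φ.apply_symm_apply _, show Φ (E I) = Pi.single I 1 from Φ.apply_symm_apply _]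
      split_ifs with h
      · subst h; rw [← Pi.single_mul, one_mul]; exact (Φ.apply_symm_apply _).symm
      · rw [map_zero]; funext K; by_cases hK : K = J
        · subst hK; simp [Pi.single_eq_of_ne h]
        · simp [Pi.single_eq_of_ne hK]
    let w : Fin d → F := ∑ I, ((E I : S) : Module.End F (Fin d → F)) (v I)
    let L : S →ₗ[F] (Fin d → F) := (LinearMap.applyₗ w).comp S.val.toLinearMap
    have hL : Function.Injective L := by
      refine (injective_iff_map_eq_zero L).2 fun x hx => Φ.injective ?_
      rw [map_zero]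
      funext J
      by_contra hJ
      haveI := J.isMaximal
      letI := Ideal.Quotient.field J.asIdeal
      let t : S := Φ.symm (Pi.single J (Φ x J)⁻¹)
      have ht : t * x = E J := by
        apply Φ.injective
        rw [map_mul, show Φ t = Pi.single J (Φ x J)⁻¹ from Φ.apply_symm_apply _, show Φ (E J) = Pi.single J 1 from Φ.apply_symm_apply _]
        funext K
        by_cases hK : K = J
        · subst hK; simp [inv_mul_cancel₀ hJ]
        · simp [Pi.single_eq_of_ne hK]
      have h1 : ((E J : S) : Module.End F (Fin d → F)) w = 0 := by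
        rw [← ht, Subalgebra.coe_mul, Module.End.mul_apply, show (x : Module.End F (Fin d → F)) w = 0 from hx, map_zero]
      have h2 : ((E J : S) : Module.End F (Fin d → F)) w = ((E J : S) : Module.End F (Fin d → F)) (v J) := by
        rw [map_sum, Finset.sum_eq_single J]
        · rw [← Module.End.mul_apply, ← Subalgebra.coe_mul, hEE, if_pos rfl]
        · intro I _ hI
          rw [← Module.End.mul_apply, ← Subalgebra.coe_mul, hEE, if_neg (Ne.symm hI)]
          simp
        · simp
      exact hv J (h2.symm.trans h1)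
    simpa using LinearMap.finrank_le_finrank_of_injective hL
  -- torsion
  obtain ⟨r, hr, hrd⟩ : ∃ r, r.Prime ∧ r ∣ orderOf (s ^ (q - 1)) := by
    refine ⟨_, Nat.minFac_prime ?_, Nat.minFac_dvd _⟩
    rw [orderOf_pow' _ (by omega), hs]
    intro h
    have h1 := Nat.gcd_dvd_left (q + 1) (q - 1)
    have h2 : Nat.gcd (q + 1) (q - 1) ∣ 2 := by
      have h3 := Nat.dvd_sub h1 (Nat.gcd_dvd_right (q + 1) (q - 1))
      rwa [show q + 1 - (q - 1) = 2 by omega] at h3
    have h4 := Nat.le_of_dvd (by norm_num) h2
    have h5 := Nat.div_mul_cancel h1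
    rw [h, one_mul] at h5
    omega
  obtain ⟨m, hm⟩ := hrd
  let w0 := s ^ m
  have hw : orderOf ((s ^ m) ^ (q - 1)) = r := by
    rw [← pow_mul, mul_comm, pow_mul, orderOf_pow' _ (by
      rintro rfl
      rw [mul_zero] at hm
      exact (orderOf_pos _).ne' hm), hm, Nat.gcd_eq_right (dvd_mul_left m r), Nat.mul_div_cancel]
    by_contra h
    have : m = 0 := by omega
    rw [this, mul_zero] at hm
    exact (orderOf_pos _).ne' hm
  let β : (Fin n → Fin r) → S := fun a => ψS ((fun i => (⟨(s ^ m) ^ (a i : ℕ), C.pow_mem (C.pow_mem (Subgroup.mem_zpowers s) m) _⟩ : ↥C)) ^ (q - 1))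
  have hβ : Function.Injective β := by
    intro a b e
    have e' := hψ (congrArg Subtype.val e)
    funext i
    have h := congrArg Subtype.val (congrFun e' i)
    simp only [Pi.pow_apply, SubgroupClass.coe_pow] at h
    rw [← pow_mul (s ^ m), ← pow_mul (s ^ m), mul_comm (a i : ℕ), mul_comm (b i : ℕ), pow_mul (s ^ m), pow_mul (s ^ m)] at h
    exact Fin.ext (pow_injOn_Iio_orderOf (by rw [Set.mem_Iio, hw]; exact (a i).2) (by rw [Set.mem_Iio, hw]; exact (b i).2) h)
  have hβr : ∀ a I, Φ (β a) I ^ r = 1 := fun a I => by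
    have e : β a ^ r = 1 := by
      show ψS _ ^ r = 1
      rw [← map_pow, ← map_one ψS]
      congr 1
      funext i
      refine Subtype.ext ?_
      simp only [Pi.pow_apply, SubgroupClass.coe_pow, Pi.one_apply, OneMemClass.coe_one]
      rw [← pow_mul, ← pow_mul, ← pow_mul,
        show m * ((a i : ℕ) * ((q - 1) * r)) = ((q - 1) * (r * m)) * (a i : ℕ) by ring,
        pow_mul, pow_mul, ← hm, pow_orderOf_eq_one, one_pow]
    rw [← Pi.pow_apply, ← map_pow, e, map_one, Pi.one_apply]
  let Big := Finset.univ.filter fun I : MaximalSpectrum S => 2 ≤ Module.finrank F (S ⧸ I.asIdeal)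
  have hsmall : ∀ a I, I ∉ Big → Φ (β a) I = 1 := fun a I hI => by
    haveI := I.isMaximal
    letI := Ideal.Quotient.field I.asIdeal
    have h1 : Module.finrank F (S ⧸ I.asIdeal) = 1 := by
      have h0 : 0 < Module.finrank F (S ⧸ I.asIdeal) := Module.finrank_pos
      have hlt : ¬ 2 ≤ Module.finrank F (S ⧸ I.asIdeal) := fun h => hI (Finset.mem_filter.2 ⟨Finset.mem_univ _, h⟩)
      omega
    obtain ⟨x, hx⟩ : ∃ x : S ⧸ I.asIdeal, x ≠ 0 ∧ Φ (β a) I = x ^ (q - 1) := by
      refine ⟨Φ (ψS (fun i => (⟨(s ^ m) ^ (a i : ℕ), C.pow_mem (C.pow_mem (Subgroup.mem_zpowers s) m) _⟩ : ↥C))) I, ?_, ?_⟩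
      · exact (((Group.isUnit _).map ψS).map Φ |>.map (Pi.evalMonoidHom (fun I : MaximalSpectrum S => S ⧸ I.asIdeal) I)).ne_zero
      · rw [← Pi.pow_apply, ← map_pow, ← map_pow]
    obtain ⟨c, hc⟩ := (finrank_eq_one_iff_of_nonzero' (1 : S ⧸ I.asIdeal) one_ne_zero).1 h1 x
    rw [hx.2, ← hc, smul_pow, one_pow, FiniteField.pow_card_sub_one_eq_one c (fun h => hx.1 (by rw [← hc, h, zero_smul])), one_smul]
  have hcard : r ^ n ≤ r ^ Big.card := by
    let T := fun I : {I // I ∈ Big} => {x : S ⧸ I.1.asIdeal // x ^ r = 1}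
    let g : (Fin n → Fin r) → ∀ I, T I := fun a I => ⟨Φ (β a) I.1, hβr a I.1⟩
    have hg : Function.Injective g := by
      intro a b e
      refine hβ (Φ.injective (funext fun I => ?_))
      by_cases hI : I ∈ Big
      · exact congrArg Subtype.val (congrFun e ⟨I, hI⟩)
      · rw [hsmall a I hI, hsmall b I hI]
    have hT : ∀ I, Nat.card (T I) ≤ r := fun I => by
      haveI := I.1.isMaximal
      letI := Ideal.Quotient.field I.1.asIdeal
      have h1 : Nat.card (T I) = (Polynomial.nthRootsFinset r (1 : S ⧸ I.1.asIdeal)).card := by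
        rw [← Nat.card_eq_finsetCard]
        exact Nat.card_congr (Equiv.subtypeEquivRight fun x => (Polynomial.mem_nthRootsFinset hr.pos 1).symm)
      rw [h1, Polynomial.nthRootsFinset]
      exact (Multiset.toFinset_card_le _).trans (Polynomial.card_nthRoots r 1)
    haveI : ∀ I : {I // I ∈ Big}, Finite (S ⧸ I.1.asIdeal) := fun I => Quotient.finite _
    haveI : ∀ I, Finite (T I) := fun I => Subtype.finite
    have h2 := Nat.card_le_card_of_injective g hg
    rw [Nat.card_fun, Nat.card_fin, Nat.card_fin, Nat.card_pi] at h2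
    refine h2.trans ((Finset.prod_le_prod' fun I _ => hT I).trans ?_)
    rw [Finset.prod_const, Finset.card_univ, Fintype.card_coe]
  have hn' : n ≤ Big.card := (Nat.pow_le_pow_iff_right hr.one_lt).1 hcard
  have hsum : Module.finrank F S = ∑ I : MaximalSpectrum S, Module.finrank F (S ⧸ I.asIdeal) := by
    rw [(Φ.restrictScalars F).toLinearEquiv.finrank_eq, Module.finrank_pi_fintype]
  have h2 : 2 * Big.card ≤ Module.finrank F S := by
    rw [hsum, mul_comm, ← smul_eq_mul, ← Finset.sum_const]
    refine (Finset.sum_le_sum fun I hI => (Finset.mem_filter.1 hI).2).trans (Finset.sum_le_sum_of_subset (Finset.subset_univ _))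
  omega

end Cfsg.Agent.S2394
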