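import Cfsg.Statements.S2397
import Cfsg.Agent.Chev.St.Cover

set_option autoImplicit false
open Cfsg
open Cfsg.Lib.Chev Cfsg.Lib.Chev.St

namespace Cfsg.Agent.S2397

/-- Over a finite field the relators (R3) h̄_r(t₁) h̄_r(t₂) = h̄_r(t₁ t₂) are consequences of (R1) and (R2): for each of the types G₂, B₂, D₄, F₄, E₆, E₇, E₈ (for types B₂ and G₂ the field must have more than two elements — the cases where the Chevalley group is not simple are set aside) the group presented by (R1), (R2) is canonically isomorphic to the one presented by (R1)–(R3), by an isomorphism matching the generators x̄_r(t). -/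
theorem result {K : Type*} [Field K] [Finite K] (D : Cfsg.Lie.ChevalleyDatum) (hD : D ∈ [Cfsg.Lie.chevG2, Cfsg.Lie.chevB2, Cfsg.Lie.chevD4, Cfsg.Lie.chevF4, Cfsg.Lie.chevE6, Cfsg.Lie.chevE7, Cfsg.Lie.chevE8]) (hK : D ∈ [Cfsg.Lie.chevB2, Cfsg.Lie.chevG2] → ∃ x : K, x ≠ 0 ∧ x ≠ 1) :
    ∃ e : D.SteinbergCover K ≃* D.SteinbergGroup K, ∀ (r : ℕ) (t : K), e (D.scGen K r t) = D.stGen K r t := by
  obtain ⟨C, S, hN, ok⟩ := Cfsg.Lib.Chev.St.exists_okSt hD
  have hθ₀ : ∀ r < D.nroots, ∀ t, toChev S (ab_subset (D := D)) (pgen (D.steinbergRelsAB K) r t) =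
      S.ok.xG r t := fun r hr t => toChev_pgen S _ hr t
  set θ₀ := toChev S (ab_subset (D := D) (K := K)) with hdef
  set P := presentedPres S hN ok (subset_refl (D.steinbergRelsAB K)) θ₀ hθ₀ with hP
  have hgen := presentedPres_gen_top S hN ok (subset_refl (D.steinbergRelsAB K)) θ₀ hθ₀
  have hR3 := P.r3_all hgen
  have hlift : ∀ g, FreeGroup.lift (fun p : Fin D.nroots × K => pgen (D.steinbergRelsAB K) p.1.val p.2) g =
      PresentedGroup.mk (D.steinbergRelsAB K) g := by
    refine DFunLike.congr_fun (FreeGroup.ext_hom _ _ fun p => ?_)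
    rw [FreeGroup.lift_apply_of, pgen, Cfsg.Lie.ChevalleyDatum.stX, dif_pos p.1.isLt]
  have hf : ∀ g ∈ D.steinbergRels K,
      FreeGroup.lift (fun p : Fin D.nroots × K => pgen (D.steinbergRelsAB K) p.1.val p.2) g = 1 := by
    intro g hg
    rw [hlift]
    rcases hg with hg | ⟨r, t, u, hr, ht, hu, rfl⟩
    · exact mk_eq_one_of_mem hg
    · have := hR3 r hr t u ht hu
      simp only [hP, presentedPres_hh] at this
      rw [map_mul, map_mul, map_inv, this, mul_inv_cancel]
  have hb : ∀ g ∈ D.steinbergRelsAB K,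
      FreeGroup.lift (fun p : Fin D.nroots × K => pgen (D.steinbergRels K) p.1.val p.2) g = 1 := by
    intro g hg
    have hl : ∀ g, FreeGroup.lift (fun p : Fin D.nroots × K => pgen (D.steinbergRels K) p.1.val p.2) g =
        PresentedGroup.mk (D.steinbergRels K) g := by
      refine DFunLike.congr_fun (FreeGroup.ext_hom _ _ fun p => ?_)
      rw [FreeGroup.lift_apply_of, pgen, Cfsg.Lie.ChevalleyDatum.stX, dif_pos p.1.isLt]
    rw [hl]
    exact mk_eq_one_of_mem (ab_subset hg)
  have hof : ∀ (rels : Set (FreeGroup (Fin D.nroots × K))) (p : Fin D.nroots × K),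
      pgen rels p.1.val p.2 = PresentedGroup.of p := by
    intro rels p
    rw [pgen, Cfsg.Lie.ChevalleyDatum.stX, dif_pos p.1.isLt]
    rfl
  let f := PresentedGroup.toGroup hb
  let g := PresentedGroup.toGroup hf
  have h1 : g.comp f = MonoidHom.id _ := PresentedGroup.ext fun p => by
    show g (f (PresentedGroup.of p)) = _
    simp only [f, g, PresentedGroup.toGroup.of, hof, MonoidHom.id_apply]
  have h2 : f.comp g = MonoidHom.id _ := PresentedGroup.ext fun p => by
    show f (g (PresentedGroup.of p)) = _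
    simp only [f, g, PresentedGroup.toGroup.of, hof, MonoidHom.id_apply]
  refine ⟨MonoidHom.toMulEquiv f g h1 h2, fun r t => ?_⟩
  show f (PresentedGroup.mk _ (D.stX r t)) = PresentedGroup.mk _ (D.stX r t)
  by_cases hr : r < D.nroots
  · rw [Cfsg.Lie.ChevalleyDatum.stX, dif_pos hr]
    exact (PresentedGroup.toGroup.of hb).trans (hof _ (⟨r, hr⟩, t))
  · rw [Cfsg.Lie.ChevalleyDatum.stX, dif_neg hr]
    simp

end Cfsg.Agent.S2397
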