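import Cfsg.Statements.S2398
import Cfsg.Agent.Chev.Univ.Multi.Main
import Cfsg.Agent.S2395

set_option autoImplicit false
open Cfsg
open scoped commutatorElement

namespace Cfsg.Agent.S2398

/-- Universality of the group Δ presented by Steinberg's generators with relators (R1), (R2), over a field with more than four elements (types G₂, B₂, D₄, F₄, E₆, E₇, E₈): for every central extension `π₁ : E → G₁` (surjective, central kernel) and every homomorphism `σ : Δ → G₁` there is exactly one homomorphism `τ : Δ → E` with `π₁ ∘ τ = σ`. In particular every central extension of Δ splits; together with the fact that Δ maps onto the Chevalley group with central kernel, this makes Δ the universal central extension of the Chevalley group. -/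
theorem result {K : Type*} [Field K] (hK5 : ∃ s : Finset K, 4 < s.card) (D : Cfsg.Lie.ChevalleyDatum) (hD : D ∈ [Cfsg.Lie.chevG2, Cfsg.Lie.chevB2, Cfsg.Lie.chevD4, Cfsg.Lie.chevF4, Cfsg.Lie.chevE6, Cfsg.Lie.chevE7, Cfsg.Lie.chevE8])
    {G₁ E : Type*} [Group G₁] [Group E] (π₁ : E →* G₁) (hπ : Function.Surjective π₁) (hc : π₁.ker ≤ Subgroup.center E)
    (σ : D.SteinbergCover K →* G₁) : ∃! τ : D.SteinbergCover K →* E, π₁.comp τ = σ := by
  let E' : Subgroup (E × D.SteinbergCover K) :=
    { carrier := {p | π₁ p.1 = σ p.2}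
      one_mem' := by simp
      mul_mem' := fun {a b} ha hb => by simp only [Set.mem_setOf_eq, Prod.fst_mul, Prod.snd_mul, map_mul] at *; rw [ha, hb]
      inv_mem' := fun {a} ha => by simp only [Set.mem_setOf_eq, Prod.fst_inv, Prod.snd_inv, map_inv] at *; rw [ha] }
  let pr : E' →* D.SteinbergCover K := (MonoidHom.snd _ _).comp E'.subtype
  have hs : Function.Surjective pr := fun d => by
    obtain ⟨e, he⟩ := hπ (σ d)
    exact ⟨⟨(e, d), he⟩, rfl⟩
  have hz : pr.ker ≤ Subgroup.center E' := by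
    rintro ⟨⟨e, d⟩, hm⟩ hk
    have hd : d = 1 := hk
    subst hd
    have hek : π₁ e = 1 := by
      have h : π₁ e = σ 1 := hm
      rwa [map_one] at h
    rw [Subgroup.mem_center_iff]
    rintro ⟨⟨e', d'⟩, hm'⟩
    refine Subtype.ext (Prod.ext ?_ ?_)
    · exact Subgroup.mem_center_iff.1 (hc hek) e'
    · show d' * 1 = 1 * d'
      rw [mul_one, one_mul]
  obtain ⟨τ, hτ⟩ := Cfsg.Lib.Chev.Univ.Multi.exists_lift hK5 hD pr hs hz
  refine ⟨((MonoidHom.fst _ _).comp E'.subtype).comp τ, MonoidHom.ext fun x => ?_, fun τ' hτ' => ?_⟩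
  · have h2 : (τ x).1.2 = x := DFunLike.congr_fun hτ x
    show π₁ (τ x).1.1 = σ x
    rw [(τ x).2, h2]
  · set τ0 := ((MonoidHom.fst _ _).comp E'.subtype).comp τ
    have h0 : π₁.comp τ0 = σ := MonoidHom.ext fun x => by
      have h2 : (τ x).1.2 = x := DFunLike.congr_fun hτ x
      show π₁ (τ x).1.1 = σ x
      rw [(τ x).2, h2]
    have hk : ∀ x, τ' x * (τ0 x)⁻¹ ∈ Subgroup.center E := fun x => hc (by
      rw [MonoidHom.mem_ker, map_mul, map_inv, ← MonoidHom.comp_apply, hτ', ← MonoidHom.comp_apply, h0, mul_inv_cancel])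
    have htop : commutator (D.SteinbergCover K) = ⊤ := Cfsg.Agent.S2395.result D hD (fun _ => by
      obtain ⟨s, hs⟩ := hK5
      obtain ⟨a, ha, ha1⟩ := Cfsg.Lib.Chev.Univ.Multi.exists_pow_ne s one_pos (by omega)
      exact ⟨a, ha, by simpa using ha1⟩)
    have hle : commutator (D.SteinbergCover K) ≤ MonoidHom.eqLocus τ' τ0 := by
      rw [commutator_def, Subgroup.commutator_le]
      intro a _ b _
      show τ' _ = τ0 _
      have key : ∀ (f : D.SteinbergCover K →* E), ⁅f a, f b⁆ = Cfsg.Lib.Chev.Univ.Ext.cm (f b)⁻¹ (f a)⁻¹ := fun f => by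
        simp [commutatorElement_def, Cfsg.Lib.Chev.Univ.Ext.cm]
      rw [map_commutatorElement, map_commutatorElement, key, key]
      have e1 : (τ' b)⁻¹ = (τ0 b)⁻¹ * (τ' b * (τ0 b)⁻¹)⁻¹ := by group
      have e2 : (τ' a)⁻¹ = (τ0 a)⁻¹ * (τ' a * (τ0 a)⁻¹)⁻¹ := by group
      rw [e1, e2]
      exact Cfsg.Lib.Chev.Univ.Ext.cm_central (Subgroup.mem_center_iff.1 (inv_mem (hk b)))
        (Subgroup.mem_center_iff.1 (inv_mem (hk a)))
    exact MonoidHom.ext fun x => hle (htop ▸ Subgroup.mem_top x)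

end Cfsg.Agent.S2398
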