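import Cfsg.Statements.S2399
import Cfsg.Agent.Chev.Univ.Small.Projective
import Cfsg.Agent.S2398

set_option autoImplicit false
open scoped MatrixGroups
open Cfsg
open scoped commutatorElement

namespace Cfsg.Agent.S2399

/-- Projective representations in the natural characteristic lift: for each of the types G₂, B₂, D₄, F₄, E₆, E₇, E₈ over any field `K` (for types B₂ and G₂ the field must have more than two elements — the cases where the Chevalley group is not simple are set aside), every homomorphism from the Chevalley group to `PGL_n(L) = GL_n(L)/Z`, `L` a field of the same characteristic as `K`, lifts uniquely to a homomorphism from the group Δ presented by (R1), (R2) to `GL_n(L)`, compatibly with the projection Δ → Chevalley group sending x̄_r(t) to x_r(t). -/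
theorem result {K : Type*} [Field K] (D : Cfsg.Lie.ChevalleyDatum) (hD : D ∈ [Cfsg.Lie.chevG2, Cfsg.Lie.chevB2, Cfsg.Lie.chevD4, Cfsg.Lie.chevF4, Cfsg.Lie.chevE6, Cfsg.Lie.chevE7, Cfsg.Lie.chevE8]) (hK : D ∈ [Cfsg.Lie.chevB2, Cfsg.Lie.chevG2] → ∃ x : K, x ≠ 0 ∧ x ≠ 1)
    (θ : D.SteinbergCover K →* ↥(D.group K))
    (hθ : ∀ (r : ℕ) (t : K), r < D.nroots → ((θ (D.scGen K r t) : GL D.Idx K) : Matrix D.Idx D.Idx K) = D.x K r t)
    {L : Type*} [Field L] (hL : ringChar L = ringChar K) {n : ℕ}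
    (φ : ↥(D.group K) →* GL (Fin n) L ⧸ Subgroup.center (GL (Fin n) L)) :
    ∃! ψ : D.SteinbergCover K →* GL (Fin n) L, (QuotientGroup.mk' (Subgroup.center (GL (Fin n) L))).comp ψ = φ.comp θ := by
  set π₁ := QuotientGroup.mk' (Subgroup.center (GL (Fin n) L)) with hπ₁
  have hs : Function.Surjective π₁ := QuotientGroup.mk'_surjective _
  have hc : π₁.ker ≤ Subgroup.center (GL (Fin n) L) := (QuotientGroup.ker_mk' _).le
  have htop : commutator (D.SteinbergCover K) = ⊤ := Cfsg.Agent.S2395.result D hD hK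
  obtain ⟨τ, hτ⟩ : ∃ τ : D.SteinbergCover K →* GL (Fin n) L, π₁.comp τ = φ.comp θ := by
    by_cases hK5 : ∃ s : Finset K, 4 < s.card
    · exact (Cfsg.Agent.S2398.result hK5 D hD π₁ hs hc (φ.comp θ)).exists
    have : Finite K := by
      by_contra h
      have : Infinite K := not_finite_iff_infinite.1 h
      obtain ⟨s, hs⟩ := Infinite.exists_subset_card_eq K 5
      exact hK5 ⟨s, by omega⟩
    have : CharP L (ringChar K) := hL ▸ ringChar.charP L
    have hp : (ringChar K).Prime := CharP.char_is_prime K (ringChar K)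
    exact Cfsg.Lib.Chev.Univ.Small.exists_lift_coprime hD htop θ hθ hp π₁ hs hc
      (fun z hz => Cfsg.Lib.Chev.Univ.Small.scalar_free hp (hc hz)) φ
  refine ⟨τ, hτ, fun τ' hτ' => ?_⟩
  have hz : ∀ x, ∀ y, y * ((τ' x) * (τ x)⁻¹) = (τ' x * (τ x)⁻¹) * y := fun x => Subgroup.mem_center_iff.1 (hc (by
    rw [MonoidHom.mem_ker, map_mul, map_inv, ← MonoidHom.comp_apply, hτ', ← MonoidHom.comp_apply, hτ,
      mul_inv_cancel]))
  have hle : commutator (D.SteinbergCover K) ≤ MonoidHom.eqLocus τ' τ := by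
    rw [commutator_def, Subgroup.commutator_le]
    intro a _ b _
    show τ' _ = τ _
    have key : ∀ u v : GL (Fin n) L, ⁅u, v⁆ = Cfsg.Lib.Chev.Univ.Ext.cm v⁻¹ u⁻¹ := fun u v => by
      simp [commutatorElement_def, Cfsg.Lib.Chev.Univ.Ext.cm]
    have inv' : ∀ {z : GL (Fin n) L}, (∀ y, y * z = z * y) → ∀ y, y * z⁻¹ = z⁻¹ * y :=
      fun h y => (Commute.inv_right (show Commute y _ from h y))
    rw [map_commutatorElement, map_commutatorElement, key, key,
      show (τ' b)⁻¹ = (τ b)⁻¹ * (τ' b * (τ b)⁻¹)⁻¹ by group,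
      show (τ' a)⁻¹ = (τ a)⁻¹ * (τ' a * (τ a)⁻¹)⁻¹ by group]
    exact Cfsg.Lib.Chev.Univ.Ext.cm_central (inv' (hz b)) (inv' (hz a))
  exact MonoidHom.ext fun x => hle (htop ▸ Subgroup.mem_top x)

end Cfsg.Agent.S2399
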