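import Cfsg.Statements.S2400
import Cfsg.Agent.Chev.Univ.Small.Main

set_option autoImplicit false
open Cfsg Cfsg.Lie Cfsg.Lib.Chev Cfsg.Lib.Chev.Univ

namespace Cfsg.Agent.S2400

/-- Over a finite field `K`, the group presented by Steinberg's relators (R1)–(R3) (the universal Chevalley group) of type E₆ or E₇, or of type B₂ or D₄ with `K` of more than two elements, has trivial Schur multiplier: every finite stem extension of it is an isomorphism (Schur multiplier described through stem extensions as in the definitions). Types G₂, F₄ and E₈ are not covered here. -/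
theorem result {K : Type*} [Field K] [Fintype K] (e : Cfsg.Lie.ChevalleyDatum × ℕ)
    (he : e ∈ [(Cfsg.Lie.chevE6, 0), (Cfsg.Lie.chevE7, 0), (Cfsg.Lie.chevB2, 2), (Cfsg.Lie.chevD4, 2)]) (hK : Fintype.card K ≠ e.2) :
    Cfsg.HasCyclicSchurMultiplier (e.1.SteinbergGroup K) 1 := by
  simp only [List.mem_cons, List.not_mem_nil, or_false] at he
  rcases he with rfl | rfl | rfl | rfl
  · exact steinberg_trivial_multiplier (C := E6.cert) (by simp) ⟨E6.ok, E6.okChain_, E6.okBase_all, okOrder_E6⟩
      okNeg_E6 ⟨_, St.okSt_E6⟩ (fun _ _ σ _ _ hs hz => (⟨σ, hs, hz, okU_E6⟩ : Ext _ _).exists_section)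
      E6.perfect (fun h => absurd h Bool.false_ne_true)
  · exact steinberg_trivial_multiplier (C := E7.cert) (by simp) ⟨E7.ok, E7.okChain_, E7.okBase_all, okOrder_E7⟩
      okNeg_E7 ⟨_, St.okSt_E7⟩ (fun _ _ σ _ _ hs hz => (⟨σ, hs, hz, okU_E7⟩ : Ext _ _).exists_section)
      E7.perfect (fun h => absurd h Bool.false_ne_true)
  · refine steinberg_trivial_multiplier (C := B2.cert) (by simp) ⟨B2.ok, B2.okChain_, B2.okBase_all, okOrder_B2⟩
      okNeg_B2 ⟨_, St.okSt_B2⟩ (fun Γ _ σ PG hg hs hz => Small.section_B2 hK (⟨σ, hs, hz, hg⟩ : Multi.CExt PG Γ))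
      B2.perfect (fun _ => ?_)
    have h3 : 2 < (Finset.univ : Finset K).card := by
      rw [Finset.card_univ]
      have h1 : 1 < Fintype.card K := Fintype.one_lt_card
      have h2 : Fintype.card K ≠ 2 := hK
      omega
    obtain ⟨a, ha, ha1⟩ := Multi.exists_pow_ne (Finset.univ : Finset K) one_pos h3
    exact ⟨a, ha, by simpa using ha1⟩
  · exact steinberg_trivial_multiplier (C := D4.cert) (by simp) ⟨D4.ok, D4.okChain_, D4.okBase_all, okOrder_D4⟩
      okNeg_D4 ⟨_, St.okSt_D4⟩ (fun Γ _ σ PG hg hs hz => Small.section_D4 hK (⟨σ, hs, hz, hg⟩ : Multi.CExt PG Γ))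
      D4.perfect (fun h => absurd h Bool.false_ne_true)

end Cfsg.Agent.S2400
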