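import Cfsg.Statements.S2405
import Cfsg.Agent.Known.ChevTwoGen.Cert

set_option autoImplicit false
open Cfsg

namespace Cfsg.Agent.S2405

/-- Each Chevalley group of type G₂, B₂, D₄, F₄, E₆, E₇ or E₈ over a finite field is generated by two of its elements (types B₂ and G₂ over the field with two elements, where the group is not simple, excepted). -/
theorem result {F : Type*} [Field F] [Finite F] (D : Cfsg.Lie.ChevalleyDatum) (hD : D ∈ [Cfsg.Lie.chevG2, Cfsg.Lie.chevB2, Cfsg.Lie.chevD4, Cfsg.Lie.chevF4, Cfsg.Lie.chevE6, Cfsg.Lie.chevE7, Cfsg.Lie.chevE8])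
    (hF : D ∈ [Cfsg.Lie.chevB2, Cfsg.Lie.chevG2] → ∃ x : F, x ≠ 0 ∧ x ≠ 1) :
    ∃ a b : ↥(D.group F), Subgroup.closure ({a, b} : Set ↥(D.group F)) = ⊤ := by
  open Cfsg.Lib.ChevTwoGen Cfsg.Lib.Chev in
  have main : ∀ {D : Cfsg.Lie.ChevalleyDatum} {C : Cert} (S : Struct D C) {g r0 b m : ℕ}
      {L : List (ℕ × ℕ × ℕ × ℕ)}, okBig D C g r0 b m L = true →
      ((∀ u : F, u = 0 ∨ u = 1) → ∃ a b : ↥(D.group F), Subgroup.closure ({a, b} : Set ↥(D.group F)) = ⊤) →
      ∃ a b : ↥(D.group F), Subgroup.closure ({a, b} : Set ↥(D.group F)) = ⊤ := by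
    intro D C S g r0 b m L h h'
    by_cases h3 : ∃ x : F, x ≠ 0 ∧ x ≠ 1
    · exact two_gen_big S h h3
    · exact h' fun u => by push Not at h3; exact or_iff_not_imp_left.2 (h3 u)
  simp only [List.mem_cons, List.not_mem_nil, or_false] at hD
  open Cfsg.Lib.ChevTwoGen Cfsg.Lib.Chev in
  rcases hD with rfl | rfl | rfl | rfl | rfl | rfl | rfl
  · exact two_gen_big G2.struct bigG2_ok (hF (by simp))
  · exact two_gen_big B2.struct bigB2_ok (hF (by simp))
  · exact main D4.struct bigD4_ok (two_gen_small D4.struct smallD4_ok)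
  · exact main F4.struct bigF4_ok (two_gen_small F4.struct smallF4_ok)
  · exact main E6.struct bigE6_ok (two_gen_small E6.struct smallE6_ok)
  · exact main E7.struct bigE7_ok (two_gen_small E7.struct smallE7_ok)
  · exact main E8.struct bigE8_ok (two_gen_small E8.struct smallE8_ok)


end Cfsg.Agent.S2405
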