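import Cfsg.Statements.S2416
import Cfsg.Agent.Chev.GenMono
import Cfsg.Agent.Chev.Borel
import Cfsg.Agent.Steinberg.Linear
-- import your own Cfsg.Agent.* helpers here

set_option autoImplicit false
open scoped MatrixGroups
open Cfsg

namespace Cfsg.Agent.S2416

/-- A Chevalley group of type G₂, B₂, D₄, F₄, E₆, E₇ or E₈ over a finite field lies in (indeed equals) the subgroup generated by its monomial subgroup `N` and a single fundamental root subgroup `X_p`, where `p` is a short fundamental root if there are two root lengths (any fundamental root otherwise), provided the characteristic is not 2 for types B₂, F₄ and not 3 for type G₂ (and the field has more than two elements for B₂, G₂). -/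
theorem result {K : Type*} [Field K] [Finite K] (D : Cfsg.Lie.ChevalleyDatum) (hD : D ∈ [Cfsg.Lie.chevG2, Cfsg.Lie.chevB2, Cfsg.Lie.chevD4, Cfsg.Lie.chevF4, Cfsg.Lie.chevE6, Cfsg.Lie.chevE7, Cfsg.Lie.chevE8])
    (hK : D ∈ [Cfsg.Lie.chevB2, Cfsg.Lie.chevG2] → ∃ x : K, x ≠ 0 ∧ x ≠ 1)
    (h2 : D ∈ [Cfsg.Lie.chevB2, Cfsg.Lie.chevF4] → ringChar K ≠ 2) (h3 : D = Cfsg.Lie.chevG2 → ringChar K ≠ 3)
    (i : ℕ) (hi : i < D.rank) (hshort : D.isLong (D.simple i) = false) :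
    D.group K ≤ D.monomialSubgroup K ⊔ D.rootSubgroup K (D.simple i) := by
  have hX : ∀ {C : Cfsg.Lib.Chev.Cert} (S : Cfsg.Lib.Chev.Struct D C) (t : K), S.ok.xG (C.sr i) t ∈
      D.monomialSubgroup K ⊔ D.rootSubgroup K (D.simple i) := fun S t => by
    rw [S.ok.sr_eq hi]; exact Subgroup.mem_sup_right (S.xG_mem_rootSubgroup _ t)
  have hch : ∀ m : ℕ, m.Prime → ringChar K ≠ m → (m : K) ≠ 0 := fun m hm hne h => by
    rw [ringChar.spec] at h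
    rcases hm.eq_one_or_self_of_dvd _ h with h1 | h1
    · exact CharP.ringChar_ne_one h1
    · exact hne h1
  simp only [List.mem_cons, List.not_mem_nil, or_false] at hD
  rcases hD with rfl | rfl | rfl | rfl | rfl | rfl | rfl
  · have S : Cfsg.Lib.Chev.Struct _ _ := ⟨Cfsg.Lib.Chev.G2.ok, Cfsg.Lib.Chev.G2.okChain_, Cfsg.Lib.Chev.G2.okBase_all, Cfsg.Lib.Chev.okOrder_G2⟩
    exact Cfsg.Lib.Chev.group_le_short S
      le_sup_left Cfsg.Lib.Chev.G2.gen (hch 3 Nat.prime_three (h3 rfl)) hi hshort (hX S)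
  · have S : Cfsg.Lib.Chev.Struct _ _ := ⟨Cfsg.Lib.Chev.B2.ok, Cfsg.Lib.Chev.B2.okChain_, Cfsg.Lib.Chev.B2.okBase_all, Cfsg.Lib.Chev.okOrder_B2⟩
    exact Cfsg.Lib.Chev.group_le_short S
      le_sup_left Cfsg.Lib.Chev.B2.gen (hch 2 Nat.prime_two (h2 (by simp))) hi hshort (hX S)
  · have S : Cfsg.Lib.Chev.Struct _ _ := ⟨Cfsg.Lib.Chev.D4.ok, Cfsg.Lib.Chev.D4.okChain_, Cfsg.Lib.Chev.D4.okBase_all, Cfsg.Lib.Chev.okOrder_D4⟩
    exact Cfsg.Lib.Chev.group_le_sl S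
      le_sup_left Cfsg.Lib.Chev.D4.genSL hi (hX S)
  · have S : Cfsg.Lib.Chev.Struct _ _ := ⟨Cfsg.Lib.Chev.F4.ok, Cfsg.Lib.Chev.F4.okChain_, Cfsg.Lib.Chev.F4.okBase_all, Cfsg.Lib.Chev.okOrder_F4⟩
    exact Cfsg.Lib.Chev.group_le_short S
      le_sup_left Cfsg.Lib.Chev.F4.gen (hch 2 Nat.prime_two (h2 (by simp))) hi hshort (hX S)
  · have S : Cfsg.Lib.Chev.Struct _ _ := ⟨Cfsg.Lib.Chev.E6.ok, Cfsg.Lib.Chev.E6.okChain_, Cfsg.Lib.Chev.E6.okBase_all, Cfsg.Lib.Chev.okOrder_E6⟩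
    exact Cfsg.Lib.Chev.group_le_sl S
      le_sup_left Cfsg.Lib.Chev.E6.genSL hi (hX S)
  · have S : Cfsg.Lib.Chev.Struct _ _ := ⟨Cfsg.Lib.Chev.E7.ok, Cfsg.Lib.Chev.E7.okChain_, Cfsg.Lib.Chev.E7.okBase_all, Cfsg.Lib.Chev.okOrder_E7⟩
    exact Cfsg.Lib.Chev.group_le_sl S
      le_sup_left Cfsg.Lib.Chev.E7.genSL hi (hX S)
  · have S : Cfsg.Lib.Chev.Struct _ _ := ⟨Cfsg.Lib.Chev.E8.ok, Cfsg.Lib.Chev.E8.okChain_, Cfsg.Lib.Chev.E8.okBase_all, Cfsg.Lib.Chev.okOrder_E8⟩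
    exact Cfsg.Lib.Chev.group_le_sl S
      le_sup_left Cfsg.Lib.Chev.E8.genSL hi (hX S)

end Cfsg.Agent.S2416
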