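import Cfsg.Statements.S2417
import Cfsg.Agent.Chev.GenMono
import Cfsg.Agent.Chev.Borel
import Cfsg.Agent.Steinberg.Linear
-- import your own Cfsg.Agent.* helpers here

set_option autoImplicit false
open scoped MatrixGroups
open Cfsg

namespace Cfsg.Agent.S2417

/-- In the characteristics with an exceptional graph symmetry — type B₂ or F₄ in characteristic 2 (field of more than two elements for B₂) and type G₂ in characteristic 3 — the Chevalley group lies in the subgroup generated by its monomial subgroup `N` and the two fundamental root subgroups `X_a`, `X_b` of a short root `a` and a long root `b` joined in the Dynkin diagram. -/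
theorem result {K : Type*} [Field K] [Finite K] (e : Cfsg.Lie.ChevalleyDatum × ℕ)
    (he : e ∈ [(Cfsg.Lie.chevB2, 2), (Cfsg.Lie.chevF4, 2), (Cfsg.Lie.chevG2, 3)]) [CharP K e.2]
    (hK : e.1 = Cfsg.Lie.chevB2 → ∃ x : K, x ≠ 0 ∧ x ≠ 1)
    (i j : ℕ) (hi : i < e.1.rank) (hj : j < e.1.rank) (hshort : e.1.isLong (e.1.simple i) = false)
    (hlong : e.1.isLong (e.1.simple j) = true) (hbond : e.1.bonds i j ≠ 0) :
    e.1.group K ≤ e.1.monomialSubgroup K ⊔ e.1.rootSubgroup K (e.1.simple i) ⊔ e.1.rootSubgroup K (e.1.simple j) := by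
  have hX : ∀ {C : Cfsg.Lib.Chev.Cert} (S : Cfsg.Lib.Chev.Struct e.1 C) (t : K), S.ok.xG (C.sr i) t ∈
      e.1.monomialSubgroup K ⊔ e.1.rootSubgroup K (e.1.simple i) ⊔ e.1.rootSubgroup K (e.1.simple j) := fun S t => by
    rw [S.ok.sr_eq hi]; exact Subgroup.mem_sup_left (Subgroup.mem_sup_right (S.xG_mem_rootSubgroup _ t))
  have hY : ∀ {C : Cfsg.Lib.Chev.Cert} (S : Cfsg.Lib.Chev.Struct e.1 C) (t : K), S.ok.xG (C.sr j) t ∈
      e.1.monomialSubgroup K ⊔ e.1.rootSubgroup K (e.1.simple i) ⊔ e.1.rootSubgroup K (e.1.simple j) := fun S t => by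
    rw [S.ok.sr_eq hj]; exact Subgroup.mem_sup_right (S.xG_mem_rootSubgroup _ t)
  simp only [List.mem_cons, List.not_mem_nil, or_false] at he
  rcases he with rfl | rfl | rfl
  · have S : Cfsg.Lib.Chev.Struct _ _ := ⟨Cfsg.Lib.Chev.B2.ok, Cfsg.Lib.Chev.B2.okChain_, Cfsg.Lib.Chev.B2.okBase_all, Cfsg.Lib.Chev.okOrder_B2⟩
    exact Cfsg.Lib.Chev.group_le_bond S
      (le_sup_left.trans le_sup_left) Cfsg.Lib.Chev.B2.bond hi hj hshort hlong (hX S) (hY S)
  · have S : Cfsg.Lib.Chev.Struct _ _ := ⟨Cfsg.Lib.Chev.F4.ok, Cfsg.Lib.Chev.F4.okChain_, Cfsg.Lib.Chev.F4.okBase_all, Cfsg.Lib.Chev.okOrder_F4⟩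
    exact Cfsg.Lib.Chev.group_le_bond S
      (le_sup_left.trans le_sup_left) Cfsg.Lib.Chev.F4.bond hi hj hshort hlong (hX S) (hY S)
  · have S : Cfsg.Lib.Chev.Struct _ _ := ⟨Cfsg.Lib.Chev.G2.ok, Cfsg.Lib.Chev.G2.okChain_, Cfsg.Lib.Chev.G2.okBase_all, Cfsg.Lib.Chev.okOrder_G2⟩
    exact Cfsg.Lib.Chev.group_le_bond S
      (le_sup_left.trans le_sup_left) Cfsg.Lib.Chev.G2.bond hi hj hshort hlong (hX S) (hY S)

end Cfsg.Agent.S2417
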