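import Cfsg.Statements.S2418
import Cfsg.Agent.Chev.Types
import Cfsg.Agent.Chev.Form
import Cfsg.Agent.Chev.WeylGroup
-- import your own Cfsg.Agent.* helpers here

set_option autoImplicit false
open Cfsg

namespace Cfsg.Agent.S2418

open Cfsg.Lib.Chev Cfsg.Lie

variable {D : ChevalleyDatum} {C : Cert} {T : List (List ℤ)}

/-- only the two roots of a reflection are negated by it -/
noncomputable def okFix (C : Cert) (l : ℕ) : Bool :=
  kall (fun i => kall (fun x => !Nat.beq (C.w i x) (C.neg x) || Nat.beq x (C.sr i) || Nat.beq x (C.neg (C.sr i)))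
    (krange 0 C.n)) (krange 0 l)

theorem okFix_spec (S : Struct D C) (h : okFix C D.rank = true) (i : Fin D.rank) (x : Fin D.nroots)
    (hx : (S.wp i x).val = C.neg x.val) : x.val = C.sr i.val ∨ x.val = C.neg (C.sr i.val) := by
  simp only [okFix, kall_iff] at h
  have h1 := h i.val (by rw [krange_eq, List.mem_range'_1]; omega) x.val
    (by rw [krange_eq, List.mem_range'_1, S.ok.n_eq]; omega)
  rw [Struct.wp_val] at hx
  rw [hx, Nat.beq_refl] at h1
  simp only [Bool.not_true, Bool.false_or, Bool.or_eq_true] at h1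
  exact h1.imp Nat.eq_of_beq_eq_true Nat.eq_of_beq_eq_true

theorem neg_sp_lt (S : Struct D C) (i : Fin D.rank) : C.neg (C.sr i.val) < D.nroots :=
  S.ok.neg_lt (S.ok.sr_lt i.isLt)

theorem perm_neg (S : Struct D C) {w : Equiv.Perm (Fin D.nroots)} (hw : w ∈ S.WG) (r r' : Fin D.nroots)
    (h : r'.val = C.neg r.val) : (w r').val = C.neg (w r).val := by
  obtain ⟨L, rfl⟩ := S.exists_wpL hw
  have hr : D.neg r.val < D.nroots := by rw [← S.ok.neg_eq r.isLt, ← h]; exact r'.isLt
  have e : r' = ⟨D.neg r.val, hr⟩ := Fin.ext (by rw [h, S.ok.neg_eq r.isLt])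
  rw [e, S.wp_neg L r hr, S.ok.neg_eq (S.wpL L r).isLt]

theorem eq_one_of_fix (S : Struct D C) {w : Equiv.Perm (Fin D.nroots)} (hw : w ∈ S.WG)
    (h : ∀ j : Fin D.rank, D.nroots / 2 ≤ (w (S.sp j)).val) : w = 1 := by
  obtain ⟨L, rfl⟩ := S.exists_wpL hw
  exact S.eq_one_of_simple_pos D.rank _ L rfl (fun x _ => x.isLt) fun j _ => h j

theorem central_cases (S : Struct D C) (hT : okHt D T = true) (hl : Cfsg.Lib.Steinberg.okLin D C T = true)
    (hfix : okFix C D.rank = true)
    (hcon : ∀ f : Fin D.rank → Bool,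
      (∀ i j : Fin D.rank, htAt T (C.w i.val (C.sr j.val)) i.val ≠ 0 → f i = f j) → ∀ i j, f i = f j)
    {π : Equiv.Perm (Fin D.nroots)} (hπ : π ∈ S.WG) (hc : ∀ i, π * S.wp i = S.wp i * π) :
    (∀ j, π (S.sp j) = S.sp j) ∨ (∀ j, (π (S.sp j)).val = C.neg (C.sr j.val)) := by
  classical
  let n' : Fin D.rank → Fin D.nroots := fun i => ⟨C.neg (C.sr i.val), neg_sp_lt S i⟩
  have hpm : ∀ i, π (S.sp i) = S.sp i ∨ π (S.sp i) = n' i := by
    intro i
    have h1 : S.wp i (S.sp i) = n' i := Fin.ext (by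
      show C.w i.val (C.sr i.val) = C.neg (C.sr i.val)
      rw [(S.ok.refl_simple i.isLt).1])
    have h2 : S.wp i (π (S.sp i)) = π (n' i) := by
      rw [← h1, ← Equiv.Perm.mul_apply, ← hc, Equiv.Perm.mul_apply]
    have h3 : (S.wp i (π (S.sp i))).val = C.neg (π (S.sp i)).val := by
      rw [h2]; exact perm_neg S hπ _ _ rfl
    rcases okFix_spec S hfix i _ h3 with h | h
    · exact Or.inl (Fin.ext h)
    · exact Or.inr (Fin.ext h)
  have hrn : ∀ i, rv T (n' i) = -rv T (S.sp i) := fun i => by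
    have h : D.neg (S.sp i).val < D.nroots := by
      rw [← S.ok.neg_eq (S.sp i).isLt]; exact neg_sp_lt S i
    rw [show n' i = ⟨D.neg (S.sp i).val, h⟩ from Fin.ext (S.ok.neg_eq (S.sp i).isLt), rv_neg hT]
  let ε : Fin D.rank → ℝ := fun i => if π (S.sp i) = S.sp i then 1 else -1
  have hε : ∀ i, rv T (π (S.sp i)) = ε i • (Pi.single i (1 : ℝ) : Fin D.rank → ℝ) := by
    intro i
    by_cases h : π (S.sp i) = S.sp i
    · simp only [ε, if_pos h, one_smul, h, rv_sp S hT]
    · simp only [ε, if_neg h, (hpm i).resolve_left h, hrn, rv_sp S hT, neg_smul, one_smul]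
  have hdiag : ∀ x : Fin D.rank → ℝ, ∀ k, act S T π x k = x k * ε k := by
    intro x k
    simp only [act, LinearMap.coe_mk, AddHom.coe_mk, hε, Pi.smul_apply, Pi.single_apply, smul_eq_mul,
      mul_ite, mul_one, mul_zero, Finset.sum_ite_eq, Finset.mem_univ, if_true]
  have hagree : ∀ i j : Fin D.rank, htAt T (C.w i.val (C.sr j.val)) i.val ≠ 0 →
      decide (π (S.sp i) = S.sp i) = decide (π (S.sp j) = S.sp j) := by
    intro i j hne
    have h1 : act S T π (rv T (S.wp i (S.sp j))) = ε j • rv T (S.wp i (S.sp j)) := by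
      rw [act_rv S hT hl hπ, ← Equiv.Perm.mul_apply, hc, Equiv.Perm.mul_apply,
        ← act_rv S hT hl (wp_mem_WG S i), hε, map_smul, ← rv_sp S hT j, act_rv S hT hl (wp_mem_WG S i)]
    have h2 := congrFun h1 i
    rw [hdiag, Pi.smul_apply, smul_eq_mul, mul_comm (ε j)] at h2
    have hv : rv T (S.wp i (S.sp j)) i ≠ 0 := by
      simp only [rv, Struct.wp_val, Struct.sp]
      exact_mod_cast hne
    have h3 : ε i = ε j := mul_left_cancel₀ hv h2
    by_cases hi : π (S.sp i) = S.sp i <;> by_cases hj : π (S.sp j) = S.sp j <;>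
      simp only [ε, hi, hj, if_true, if_false, decide_true, decide_false] at h3 ⊢ <;> norm_num at h3
  have hconst := hcon _ hagree
  by_cases h : ∀ j, π (S.sp j) = S.sp j
  · exact Or.inl h
  · obtain ⟨j₀, hj₀⟩ := not_forall.1 h
    refine Or.inr fun j => ?_
    have := hconst j₀ j
    rw [decide_eq_decide] at this
    exact congrArg Fin.val ((hpm j).resolve_left fun e => hj₀ (this.2 e))

theorem central_eq (S : Struct D C) {π π' : Equiv.Perm (Fin D.nroots)} (hπ : π ∈ S.WG) (hπ' : π' ∈ S.WG)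
    (h : ∀ j : Fin D.rank, (π (S.sp j)).val = C.neg (C.sr j.val))
    (h' : ∀ j : Fin D.rank, (π' (S.sp j)).val = C.neg (C.sr j.val)) : π = π' := by
  have key : ∀ a b : Equiv.Perm (Fin D.nroots), a ∈ S.WG → b ∈ S.WG →
      (∀ j : Fin D.rank, (a (S.sp j)).val = C.neg (C.sr j.val)) →
      (∀ j : Fin D.rank, (b (S.sp j)).val = C.neg (C.sr j.val)) → a * b = 1 := by
    intro a b ha hb hha hhb
    refine eq_one_of_fix S (mul_mem ha hb) fun j => ?_
    rw [Equiv.Perm.mul_apply, perm_neg S ha (S.sp j) (b (S.sp j)) (hhb j), hha j,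
      S.ok.neg_neg (S.ok.sr_lt j.isLt)]
    exact S.sr_pos j.isLt
  have h1 := key π π' hπ hπ' h h'
  have h2 := key π' π' hπ' hπ' h' h'
  exact mul_right_cancel (h1.trans h2.symm)

/-- The word acts centrally and non-trivially. -/
noncomputable def okComm (C : Cert) (L : List ℕ) (l : ℕ) : Bool :=
  kall (fun i => kall (fun s => Nat.beq (C.wWord L (C.w i s)) (C.w i (C.wWord L s))) (krange 0 C.n)) (krange 0 l)

theorem okComm_spec (S : Struct D C) (L : List (Fin D.rank)) (h : okComm C (L.map fun i => i.val) D.rank = true)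
    (i : Fin D.rank) : S.wpL L * S.wp i = S.wp i * S.wpL L := by
  refine Equiv.ext fun s => Fin.ext ?_
  simp only [okComm, kall_iff] at h
  have h1 := Nat.eq_of_beq_eq_true (h i.val (by rw [krange_eq, List.mem_range'_1]; omega) s.val
    (by rw [krange_eq, List.mem_range'_1, S.ok.n_eq]; omega))
  rw [Equiv.Perm.mul_apply, Equiv.Perm.mul_apply, Struct.wp_val, ← S.wWord_eq L (S.wp i s),
    ← S.wWord_eq L s, Struct.wp_val]
  exact h1

theorem wpL_replicate (S : Struct D C) (L : List (Fin D.rank)) :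
    ∀ k : ℕ, S.wpL (List.replicate k L).flatten = S.wpL L ^ k
  | 0 => by simp [Struct.wpL]
  | k + 1 => by
    rw [List.replicate_succ, List.flatten_cons, pow_succ', ← wpL_replicate S L k]
    simp [Struct.wpL, List.map_append, List.prod_append]

theorem centre_le_two (S : Struct D C) (hN : okNeg D = true) (hT : okHt D T = true) (hl : Cfsg.Lib.Steinberg.okLin D C T = true)
    (hfix : okFix C D.rank = true)
    (hcon : ∀ f : Fin D.rank → Bool,
      (∀ i j : Fin D.rank, htAt T (C.w i.val (C.sr j.val)) i.val ≠ 0 → f i = f j) → ∀ i j, f i = f j)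
    (M : CoxeterMatrix (Fin D.rank)) (hM : ∀ i j : Fin D.rank, C.okCoxAt i j (M i j) = true) :
    ∀ z ∈ Subgroup.center M.Group, z ≠ 1 → ∀ z' ∈ Subgroup.center M.Group, z' ≠ 1 → z = z' := by
  obtain ⟨ψ, hinj, hr, hsim⟩ := S.exists_permHom hN rfl M hM
  have hW : ∀ z, ψ z ∈ S.WG := fun z => hr ▸ ⟨z, rfl⟩
  have hc : ∀ z ∈ Subgroup.center M.Group, ∀ i, ψ z * S.wp i = S.wp i * ψ z := fun z hz i => by
    rw [← hsim i, ← map_mul, ← map_mul, (Subgroup.mem_center_iff.1 hz _)]
  have hneg : ∀ z ∈ Subgroup.center M.Group, z ≠ 1 →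
      ∀ j : Fin D.rank, (ψ z (S.sp j)).val = C.neg (C.sr j.val) := fun z hz hz1 => by
    rcases central_cases S hT hl hfix hcon (hW z) (hc z hz) with h | h
    · refine absurd (hinj ?_) hz1
      rw [map_one]
      exact eq_one_of_fix S (hW z) fun j => by rw [h j]; exact S.sr_pos j.isLt
    · exact h
  intro z hz hz1 z' hz' hz1'
  exact hinj (central_eq S (hW z) (hW z') (hneg z hz hz1) (hneg z' hz' hz1'))

theorem centre_two (S : Struct D C) (hN : okNeg D = true) (hT : okHt D T = true) (hl : Cfsg.Lib.Steinberg.okLin D C T = true)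
    (hfix : okFix C D.rank = true)
    (hcon : ∀ f : Fin D.rank → Bool,
      (∀ i j : Fin D.rank, htAt T (C.w i.val (C.sr j.val)) i.val ≠ 0 → f i = f j) → ∀ i j, f i = f j)
    (M : CoxeterMatrix (Fin D.rank)) (hM : ∀ i j : Fin D.rank, C.okCoxAt i j (M i j) = true) (k : ℕ)
    (hk : 0 < k) (hord : Struct.okWordOrder C (List.range D.rank) (2 * k) = true)
    (hcomm : okComm C ((List.replicate k (List.finRange D.rank)).flatten.map fun i => i.val) D.rank = true) :
    Nat.card (Subgroup.center M.Group) = 2 ∧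
      Subgroup.center M.Group ≤ Subgroup.zpowers ((List.finRange D.rank).map M.simple).prod := by
  set c := ((List.finRange D.rank).map M.simple).prod with hc
  obtain ⟨ψ, hinj, hr, hsim⟩ := S.exists_permHom hN rfl M hM
  have hψc : ψ c = S.wpL (List.finRange D.rank) := by
    rw [hc, map_list_prod, List.map_map, Struct.wpL]
    exact congrArg List.prod (List.map_congr_left fun i _ => hsim i)
  set z := c ^ k with hzdef
  have hz : z ∈ Subgroup.center M.Group := by
    rw [Subgroup.mem_center_iff]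
    intro g
    have hgen : (⊤ : Subgroup M.Group) ≤ Subgroup.centralizer {z} := by
      refine (PresentedGroup.closure_range_of _).ge.trans ((Subgroup.closure_le _).2 ?_)
      rintro _ ⟨i, rfl⟩
      refine Subgroup.mem_centralizer_singleton_iff.2 (hinj ?_)
      show ψ (M.simple i * z) = ψ (z * M.simple i)
      rw [map_mul, map_mul, hzdef, map_pow, hψc, ← wpL_replicate]
      have e := okComm_spec S _ hcomm i
      have e' : ψ (M.simple i) = S.wp i := hsim i
      rw [e', e]
    exact Subgroup.mem_centralizer_singleton_iff.1 (hgen (Subgroup.mem_top g))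
  have hz1 : z ≠ 1 := by
    intro h
    have h1 := orderOf_dvd_of_pow_eq_one h
    rw [hc, S.orderOf_coxeterElement hN rfl M hM hord] at h1
    have := Nat.le_of_dvd hk h1
    omega
  have hall : ∀ x ∈ Subgroup.center M.Group, x = 1 ∨ x = z := fun x hx => by
    by_cases h : x = 1
    · exact Or.inl h
    · exact Or.inr (centre_le_two S hN hT hl hfix hcon M hM x hx h z hz hz1)
  refine ⟨?_, fun x hx => ?_⟩
  · rw [Nat.card_eq_two_iff]
    refine ⟨⟨1, one_mem _⟩, ⟨z, hz⟩, fun e => hz1 (congrArg Subtype.val e).symm, ?_⟩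
    refine Set.eq_univ_of_forall fun x => ?_
    rcases hall x.1 x.2 with h | h
    · exact Or.inl (Subtype.ext h)
    · exact Or.inr (Subtype.ext h)
  · rcases hall x hx with rfl | rfl
    · exact one_mem _
    · exact pow_mem (Subgroup.mem_zpowers _) _

/-- The word maps the simple roots to negatives of simple roots, the first one not to its own negative. -/
noncomputable def okTwist (C : Cert) (L : List ℕ) (l : ℕ) : Bool :=
  kall (fun j => !kall (fun i => !Nat.beq (C.wWord L (C.sr j)) (C.neg (C.sr i))) (krange 0 l)) (krange 0 l) &&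
    !Nat.beq (C.wWord L (C.sr 0)) (C.neg (C.sr 0))

theorem centre_one (S : Struct D C) (hN : okNeg D = true) (hT : okHt D T = true) (hl : Cfsg.Lib.Steinberg.okLin D C T = true)
    (hfix : okFix C D.rank = true)
    (hcon : ∀ f : Fin D.rank → Bool,
      (∀ i j : Fin D.rank, htAt T (C.w i.val (C.sr j.val)) i.val ≠ 0 → f i = f j) → ∀ i j, f i = f j)
    (M : CoxeterMatrix (Fin D.rank)) (hM : ∀ i j : Fin D.rank, C.okCoxAt i j (M i j) = true)
    (L : List (Fin D.rank)) (h0 : 0 < D.rank) (htw : okTwist C (L.map fun i => i.val) D.rank = true) :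
    Subgroup.center M.Group = ⊥ := by
  obtain ⟨ψ, hinj, hr, hsim⟩ := S.exists_permHom hN rfl M hM
  simp only [okTwist, Bool.and_eq_true, Bool.not_eq_true', kall_iff] at htw
  rw [eq_bot_iff]
  intro z hz
  rw [Subgroup.mem_bot]
  have hW : ψ z ∈ S.WG := hr ▸ ⟨z, rfl⟩
  have hc : ∀ i, ψ z * S.wp i = S.wp i * ψ z := fun i => by
    rw [← hsim i, ← map_mul, ← map_mul, (Subgroup.mem_center_iff.1 hz _)]
  rcases central_cases S hT hl hfix hcon hW hc with h | h
  · refine hinj ?_
    rw [map_one]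
    exact eq_one_of_fix S hW fun j => by rw [h j]; exact S.sr_pos j.isLt
  · exfalso
    have hw : ∀ j : Fin D.rank, ∃ i : Fin D.rank,
        (S.wpL L (S.sp j)).val = C.neg (C.sr i.val) ∧ (ψ z * S.wpL L) (S.sp j) = S.sp i := by
      intro j
      have h1 : ∃ i < D.rank, C.wWord (L.map fun i => i.val) (C.sr j.val) = C.neg (C.sr i) := by
        by_contra hn
        simp only [not_exists, not_and] at hn
        have h2 := htw.1 j.val (by rw [krange_eq, List.mem_range'_1]; omega)
        rw [Bool.eq_false_iff] at h2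
        refine h2 ((kall_iff _ _).2 fun i hi => ?_)
        rw [krange_eq, List.mem_range'_1] at hi
        have := hn i (by omega)
        cases hb : Nat.beq (C.wWord (L.map fun i => i.val) (C.sr j.val)) (C.neg (C.sr i))
        · rfl
        · exact absurd (Nat.eq_of_beq_eq_true hb) this
      obtain ⟨i, hi, e⟩ := h1
      have e1 : (S.wpL L (S.sp j)).val = C.neg (C.sr i) := by
        rw [← S.wWord_eq]; exact e
      refine ⟨⟨i, hi⟩, e1, Fin.ext ?_⟩
      rw [Equiv.Perm.mul_apply, perm_neg S hW (S.sp ⟨i, hi⟩) _ e1, h, S.ok.neg_neg (S.ok.sr_lt hi)]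
      rfl
    have h1 : ψ z * S.wpL L = 1 := eq_one_of_fix S (mul_mem hW (S.wpL_mem_WG L)) fun j => by
      obtain ⟨i, -, e⟩ := hw j
      rw [e]; exact S.sr_pos i.isLt
    obtain ⟨i, e1, e2⟩ := hw ⟨0, h0⟩
    rw [h1, Equiv.Perm.one_apply] at e2
    have e3 : C.sr i.val = C.sr 0 := (congrArg Fin.val e2).symm
    rw [← S.wWord_eq, e3] at e1
    have e4 := htw.2
    have : Nat.beq (C.wWord (L.map fun i => i.val) (C.sr 0)) (C.neg (C.sr 0)) = true := by
      rw [show C.wWord (L.map fun i => i.val) (C.sr 0) = _ from e1, Nat.beq_refl]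
    rw [this] at e4
    exact Bool.false_ne_true e4.symm



/-- For the Coxeter groups of types B₂, G₂, D₄, F₄, E₇, E₈ the centre has order 2 (the element acting as −1 on the root system) and is generated by a power of the Coxeter element `s₁ s₂ ⋯ s_l`; the Coxeter group of type E₆ has trivial centre. -/
theorem result (c : (Σ n : ℕ, CoxeterMatrix (Fin n)) × ℕ)
    (hc : c ∈ [(⟨2, CoxeterMatrix.B 2⟩, 2), (⟨2, CoxeterMatrix.G₂⟩, 2), (⟨4, Cfsg.Lie.coxeterD4⟩, 2), (⟨4, CoxeterMatrix.F₄⟩, 2),
      (⟨6, CoxeterMatrix.E₆⟩, 1), (⟨7, CoxeterMatrix.E₇⟩, 2), (⟨8, CoxeterMatrix.E₈⟩, 2)]) :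
    Nat.card (Subgroup.center c.1.2.Group) = c.2 ∧
      Subgroup.center c.1.2.Group ≤ Subgroup.zpowers ((List.finRange c.1.1).map c.1.2.simple).prod := by
  simp only [List.mem_cons, List.not_mem_nil, or_false] at hc
  rcases hc with rfl | rfl | rfl | rfl | rfl | rfl | rfl
  · exact centre_two B2.struct okNeg_B2 B2.ht Cfsg.Lib.Steinberg.B2_lin (by decide +kernel) (by decide +kernel) _ cox_B2 2
      (by norm_num) B2.coxNumber (by decide +kernel)
  · exact centre_two G2.struct okNeg_G2 G2.ht Cfsg.Lib.Steinberg.G2_lin (by decide +kernel) (by decide +kernel) _ cox_G2 3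
      (by norm_num) G2.coxNumber (by decide +kernel)
  · exact centre_two D4.struct okNeg_D4 D4.ht Cfsg.Lib.Steinberg.D4_lin (by decide +kernel) (by decide +kernel) _ cox_D4 3
      (by norm_num) D4.coxNumber (by decide +kernel)
  · exact centre_two F4.struct okNeg_F4 F4.ht Cfsg.Lib.Steinberg.F4_lin (by decide +kernel) (by decide +kernel) _ cox_F4 6
      (by norm_num) F4.coxNumber (by decide +kernel)
  · have h := centre_one E6.struct okNeg_E6 E6.ht Cfsg.Lib.Steinberg.E6_lin (by decide +kernel) (by decide +kernel) CoxeterMatrix.E₆ cox_E6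
      (List.replicate 6 ([0, 3, 5, 1, 2, 4] : List (Fin 6))).flatten (by decide +kernel) (by decide +kernel)
    exact ⟨(congrArg (fun H : Subgroup CoxeterMatrix.E₆.Group => Nat.card H) h).trans Subgroup.card_bot, h.le.trans bot_le⟩
  · exact centre_two E7.struct okNeg_E7 E7.ht Cfsg.Lib.Steinberg.E7_lin (by decide +kernel) (by decide +kernel) _ cox_E7 9
      (by norm_num) E7.coxNumber (by decide +kernel)
  · exact centre_two E8.struct okNeg_E8 E8.ht Cfsg.Lib.Steinberg.E8_lin (by decide +kernel) (by decide +kernel) _ cox_E8 15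
      (by norm_num) E8.coxNumber (by decide +kernel)

end Cfsg.Agent.S2418
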