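import Cfsg.Statements.S2419
-- import your own Cfsg.Agent.* helpers here

set_option autoImplicit false
set_option linter.unusedVariables false
open Cfsg

namespace Cfsg.Agent.S2419

variable {n : ℕ} (M : CoxeterMatrix (Fin n))

/-- the Coxeter element -/
def cox : M.Group := ((List.finRange n).map M.simple).prod

theorem sq (i : Fin n) : M.simple i * M.simple i = 1 := M.toCoxeterSystem.simple_mul_simple_self i

theorem inv_simple (i : Fin n) : (M.simple i)⁻¹ = M.simple i := inv_eq_of_mul_eq_one_right (sq M i)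

theorem pw (i j : Fin n) : (M.simple i * M.simple j) ^ M i j = 1 :=
  M.toCoxeterSystem.simple_mul_simple_pow i j

theorem comm {i j : Fin n} (h : M i j = 2) : Commute (M.simple i) (M.simple j) := by
  have e := pw M i j
  rw [h, pow_two] at e
  have e2 := eq_inv_of_mul_eq_one_left e
  rw [mul_inv_rev, inv_simple, inv_simple] at e2
  exact e2

theorem braid {i j : Fin n} (h : M i j = 3) :
    M.simple i * M.simple j * M.simple i = M.simple j * M.simple i * M.simple j := by
  have e := pw M i j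
  rw [h, pow_three] at e
  have e2 : M.simple i * M.simple j * M.simple i * (M.simple j * M.simple i * M.simple j) = 1 := by
    rw [← e]; group
  have e3 := eq_inv_of_mul_eq_one_left e2
  rw [mul_inv_rev, mul_inv_rev, inv_simple, inv_simple] at e3
  rw [e3]; group

theorem comm_prod {j : Fin n} : ∀ l : List (Fin n), (∀ x ∈ l, M x j = 2) →
    Commute (l.map M.simple).prod (M.simple j)
  | [], _ => by simp
  | x :: l, h => by
    rw [List.map_cons, List.prod_cons]
    exact (comm M (h x (by simp))).mul_left (comm_prod l fun y hy => h y (by simp [hy]))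

theorem shift {i j : Fin n} (l₁ l₂ : List (Fin n)) (hl : List.finRange n = l₁ ++ i :: j :: l₂)
    (hij : M i j = 3) (h₁ : ∀ x ∈ l₁, M x j = 2) (h₂ : ∀ x ∈ l₂, M x i = 2) :
    cox M * M.simple i * (cox M)⁻¹ = M.simple j := by
  have h1 := comm_prod M l₁ h₁
  have h2 := comm_prod M l₂ h₂
  have hb := braid M hij
  have e : cox M = (l₁.map M.simple).prod * (M.simple i * (M.simple j * (l₂.map M.simple).prod)) := by
    rw [cox, hl]; simp [List.prod_append]
  have key : M.simple i * M.simple j * M.simple i * M.simple j * M.simple i = M.simple j := by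
    rw [hb, mul_assoc (M.simple j * M.simple i), sq, mul_one, mul_assoc, sq, mul_one]
  rw [e]
  generalize (l₁.map M.simple).prod = P at h1 ⊢
  generalize (l₂.map M.simple).prod = R at h2 ⊢
  calc P * (M.simple i * (M.simple j * R)) * M.simple i * (P * (M.simple i * (M.simple j * R)))⁻¹
      = P * M.simple i * M.simple j * (R * M.simple i * R⁻¹) * (M.simple j)⁻¹ * (M.simple i)⁻¹ * P⁻¹ := by
        group
    _ = P * (M.simple i * M.simple j * M.simple i * M.simple j * M.simple i) * P⁻¹ := by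
        rw [h2.eq, inv_simple, inv_simple, mul_inv_cancel_right]; group
    _ = M.simple j := by rw [key, h1.eq, mul_inv_cancel_right]

theorem fwd {H : Subgroup M.Group} {i j : Fin n} (hc : cox M ∈ H)
    (e : cox M * M.simple i * (cox M)⁻¹ = M.simple j) (h : M.simple i ∈ H) : M.simple j ∈ H :=
  e ▸ mul_mem (mul_mem hc h) (inv_mem hc)

theorem bwd {H : Subgroup M.Group} {i j : Fin n} (hc : cox M ∈ H)
    (e : cox M * M.simple i * (cox M)⁻¹ = M.simple j) (h : M.simple j ∈ H) : M.simple i ∈ H := by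
  have h2 := mul_mem (mul_mem (inv_mem hc) h) hc
  rw [← e] at h2
  convert h2 using 1
  group

theorem eq_top_of_simple {H : Subgroup M.Group} (h : ∀ i, M.simple i ∈ H) : H = ⊤ := by
  rw [eq_top_iff]
  refine (PresentedGroup.closure_range_of _).ge.trans ((Subgroup.closure_le _).2 ?_)
  rintro _ ⟨i, rfl⟩
  exact h i

/-- The short end of an exceptional diagram: three generators are recovered. -/
theorem head3 {H : Subgroup M.Group} (a b x y : Fin n) (hu : M.simple a * M.simple b * M.simple x ∈ H)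
    (hy : M.simple y ∈ H) (hab : M a b = 2) (hbx : M b x = 2) (hax : M a x = 3) (hxy : M x y = 3)
    (hay : M a y = 2) : M.simple a ∈ H ∧ M.simple b ∈ H ∧ M.simple x ∈ H := by
  have cb : Commute (M.simple b) (M.simple a * M.simple x) :=
    (comm M hab).symm.mul_right (comm M hbx)
  have eu : M.simple a * M.simple b * M.simple x = M.simple b * (M.simple a * M.simple x) := by
    rw [(comm M hab).eq, mul_assoc]
  rw [eu] at hu
  have hb : M.simple b ∈ H := by
    have h3 := pow_mem hu 3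
    have e := pw M a x
    rw [hax] at e
    rw [cb.mul_pow, e, mul_one, pow_three, sq, mul_one] at h3
    exact h3
  have hw : M.simple a * M.simple x ∈ H := by
    have := mul_mem (inv_mem hb) hu
    rwa [inv_mul_cancel_left] at this
  have hr := mul_mem (mul_mem (inv_mem hw) hy) hw
  have e1 : (M.simple a * M.simple x)⁻¹ * M.simple y * (M.simple a * M.simple x)
      = M.simple x * M.simple y * M.simple x := by
    rw [mul_inv_rev, inv_simple, inv_simple]
    calc M.simple x * M.simple a * M.simple y * (M.simple a * M.simple x)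
        = M.simple x * (M.simple a * M.simple y) * M.simple a * M.simple x := by group
      _ = M.simple x * (M.simple y * (M.simple a * M.simple a)) * M.simple x := by
          rw [(comm M hay).eq]; group
      _ = _ := by rw [sq, mul_one]
  rw [e1, braid M hxy] at hr
  have hx : M.simple x ∈ H := by
    have := mul_mem (mul_mem (inv_mem hy) hr) (inv_mem hy)
    simpa [mul_assoc] using this
  refine ⟨?_, hb, hx⟩
  have := mul_mem hw (inv_mem hx)
  rwa [mul_inv_cancel_right] at this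

theorem one_refl (i : Fin n)
    (h : ∀ H : Subgroup M.Group, cox M ∈ H → M.simple i ∈ H → ∀ j, M.simple j ∈ H) :
    ∃ T : Finset M.Group, T.card = 1 ∧
      (∀ t ∈ T, ∃ (g : M.Group) (i : Fin n), t = g * M.simple i * g⁻¹) ∧
      Subgroup.closure (({cox M} : Set M.Group) ∪ ↑T) = ⊤ := by
  refine ⟨{M.simple i}, Finset.card_singleton _, fun t ht => ⟨1, i, by
    rw [Finset.mem_singleton.1 ht]; simp⟩, eq_top_of_simple M ?_⟩
  exact h _ (Subgroup.subset_closure (by simp)) (Subgroup.subset_closure (by simp))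

theorem two_refl (i k : Fin n) {Q : Type} [Group Q] (f : Fin n → Q) (hf : M.IsLiftable f)
    (hne : f i ≠ f k)
    (h : ∀ H : Subgroup M.Group, cox M ∈ H → M.simple i ∈ H → M.simple k ∈ H → ∀ j, M.simple j ∈ H) :
    ∃ T : Finset M.Group, T.card = 2 ∧
      (∀ t ∈ T, ∃ (g : M.Group) (i : Fin n), t = g * M.simple i * g⁻¹) ∧
      Subgroup.closure (({cox M} : Set M.Group) ∪ ↑T) = ⊤ := by
  classical
  have hd : M.simple i ≠ M.simple k := fun e => hne (by
    have := congrArg (M.toCoxeterSystem.lift ⟨f, hf⟩) e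
    rwa [← CoxeterMatrix.toCoxeterSystem_simple, CoxeterSystem.lift_apply_simple,
      CoxeterSystem.lift_apply_simple] at this)
  refine ⟨{M.simple i, M.simple k}, Finset.card_pair hd, fun t ht => ?_, eq_top_of_simple M ?_⟩
  · rcases Finset.mem_insert.1 ht with rfl | ht
    · exact ⟨1, i, by simp⟩
    · exact ⟨1, k, by rw [Finset.mem_singleton.1 ht]; simp⟩
  · exact h _ (Subgroup.subset_closure (by simp)) (Subgroup.subset_closure (by simp))
      (Subgroup.subset_closure (by simp))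

theorem rank2 (N : CoxeterMatrix (Fin 2)) :
    ∃ T : Finset N.Group, T.card = 1 ∧
      (∀ t ∈ T, ∃ (g : N.Group) (i : Fin 2), t = g * N.simple i * g⁻¹) ∧
      Subgroup.closure (({cox N} : Set N.Group) ∪ ↑T) = ⊤ := by
  refine one_refl N 0 fun H hc h0 j => ?_
  have h1 : N.simple 1 ∈ H := by
    have := mul_mem (inv_mem h0) hc
    simpa [cox, List.finRange_succ] using this
  fin_cases j
  · exact h0
  · exact h1

theorem caseD4 : ∀ H : Subgroup Cfsg.Lie.coxeterD4.Group, cox Cfsg.Lie.coxeterD4 ∈ H →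
    Cfsg.Lie.coxeterD4.simple 0 ∈ H → Cfsg.Lie.coxeterD4.simple 2 ∈ H →
    ∀ j, Cfsg.Lie.coxeterD4.simple j ∈ H := by
  intro H hc h0 h2
  have hu : Cfsg.Lie.coxeterD4.simple 1 * Cfsg.Lie.coxeterD4.simple 2 * Cfsg.Lie.coxeterD4.simple 3 ∈ H := by
    have := mul_mem (inv_mem h0) hc
    simpa [cox, List.finRange_succ, mul_assoc] using this
  have hr := mul_mem (mul_mem hu h2) (inv_mem hu)
  have e1 : Cfsg.Lie.coxeterD4.simple 1 * Cfsg.Lie.coxeterD4.simple 2 * Cfsg.Lie.coxeterD4.simple 3 * Cfsg.Lie.coxeterD4.simple 2 * (Cfsg.Lie.coxeterD4.simple 1 * Cfsg.Lie.coxeterD4.simple 2 * Cfsg.Lie.coxeterD4.simple 3)⁻¹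
      = Cfsg.Lie.coxeterD4.simple 1 * Cfsg.Lie.coxeterD4.simple 2 * Cfsg.Lie.coxeterD4.simple 1 := by
    rw [mul_assoc (Cfsg.Lie.coxeterD4.simple 1 * Cfsg.Lie.coxeterD4.simple 2), (comm Cfsg.Lie.coxeterD4 (i := 3) (j := 2) (by decide)).eq]
    rw [← inv_simple Cfsg.Lie.coxeterD4 1]
    simp only [inv_simple]
    calc Cfsg.Lie.coxeterD4.simple 1 * Cfsg.Lie.coxeterD4.simple 2 * (Cfsg.Lie.coxeterD4.simple 2 * Cfsg.Lie.coxeterD4.simple 3) * (Cfsg.Lie.coxeterD4.simple 1 * Cfsg.Lie.coxeterD4.simple 2 * Cfsg.Lie.coxeterD4.simple 3)⁻¹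
        = Cfsg.Lie.coxeterD4.simple 1 * (Cfsg.Lie.coxeterD4.simple 2 * Cfsg.Lie.coxeterD4.simple 2) * (Cfsg.Lie.coxeterD4.simple 2)⁻¹ * (Cfsg.Lie.coxeterD4.simple 1)⁻¹ := by group
      _ = _ := by rw [sq, inv_simple, inv_simple, mul_one]
  rw [e1, braid Cfsg.Lie.coxeterD4 (i := 1) (j := 2) (by decide)] at hr
  have h1 : Cfsg.Lie.coxeterD4.simple 1 ∈ H := by
    have := mul_mem (mul_mem (inv_mem h2) hr) (inv_mem h2)
    simpa [mul_assoc] using this
  have h3 : Cfsg.Lie.coxeterD4.simple 3 ∈ H := by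
    have := mul_mem (inv_mem (mul_mem h1 h2)) hu
    simpa [mul_assoc] using this
  intro j
  fin_cases j
  exacts [h0, h1, h2, h3]

theorem caseF4 : ∀ H : Subgroup CoxeterMatrix.F₄.Group, cox CoxeterMatrix.F₄ ∈ H →
    CoxeterMatrix.F₄.simple 0 ∈ H → CoxeterMatrix.F₄.simple 2 ∈ H →
    ∀ j, CoxeterMatrix.F₄.simple j ∈ H := by
  intro H hc h0 h2 j
  have h1 := fwd _ hc (shift CoxeterMatrix.F₄ (i := 0) (j := 1) [] [2, 3] (by decide) (by decide)
    (by decide) (by decide)) h0
  have h3 := fwd _ hc (shift CoxeterMatrix.F₄ (i := 2) (j := 3) [0, 1] [] (by decide) (by decide)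
    (by decide) (by decide)) h2
  fin_cases j
  exacts [h0, h1, h2, h3]

theorem caseE6 : ∀ H : Subgroup CoxeterMatrix.E₆.Group, cox CoxeterMatrix.E₆ ∈ H →
    CoxeterMatrix.E₆.simple 4 ∈ H → ∀ j, CoxeterMatrix.E₆.simple j ∈ H := by
  intro H hc h4
  have h5 := fwd _ hc (shift CoxeterMatrix.E₆ (i := 4) (j := 5) [0, 1, 2, 3] [] (by decide) (by decide) (by decide)
    (by decide)) h4
  have h3 := bwd _ hc (shift CoxeterMatrix.E₆ (i := 3) (j := 4) [0, 1, 2] [5] (by decide) (by decide) (by decide)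
    (by decide)) h4
  have hu : CoxeterMatrix.E₆.simple 0 * CoxeterMatrix.E₆.simple 1 * CoxeterMatrix.E₆.simple 2 ∈ H := by
    have := mul_mem hc (inv_mem (mul_mem (mul_mem h3 h4) h5))
    simpa [cox, List.finRange_succ, mul_assoc] using this
  obtain ⟨h0, h1, h2⟩ := head3 CoxeterMatrix.E₆ 0 1 2 3 hu h3 (by decide) (by decide) (by decide) (by decide) (by decide)
  intro j
  fin_cases j
  exacts [h0, h1, h2, h3, h4, h5]

theorem caseE7 : ∀ H : Subgroup CoxeterMatrix.E₇.Group, cox CoxeterMatrix.E₇ ∈ H →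
    CoxeterMatrix.E₇.simple 4 ∈ H → ∀ j, CoxeterMatrix.E₇.simple j ∈ H := by
  intro H hc h4
  have h5 := fwd _ hc (shift CoxeterMatrix.E₇ (i := 4) (j := 5) [0, 1, 2, 3] [6] (by decide) (by decide) (by decide)
    (by decide)) h4
  have h6 := fwd _ hc (shift CoxeterMatrix.E₇ (i := 5) (j := 6) [0, 1, 2, 3, 4] [] (by decide) (by decide) (by decide)
    (by decide)) h5
  have h3 := bwd _ hc (shift CoxeterMatrix.E₇ (i := 3) (j := 4) [0, 1, 2] [5, 6] (by decide) (by decide) (by decide)
    (by decide)) h4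
  have hu : CoxeterMatrix.E₇.simple 0 * CoxeterMatrix.E₇.simple 1 * CoxeterMatrix.E₇.simple 2 ∈ H := by
    have := mul_mem hc (inv_mem (mul_mem (mul_mem (mul_mem h3 h4) h5) h6))
    simpa [cox, List.finRange_succ, mul_assoc] using this
  obtain ⟨h0, h1, h2⟩ := head3 CoxeterMatrix.E₇ 0 1 2 3 hu h3 (by decide) (by decide) (by decide) (by decide) (by decide)
  intro j
  fin_cases j
  exacts [h0, h1, h2, h3, h4, h5, h6]

theorem caseE8 : ∀ H : Subgroup CoxeterMatrix.E₈.Group, cox CoxeterMatrix.E₈ ∈ H →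
    CoxeterMatrix.E₈.simple 4 ∈ H → ∀ j, CoxeterMatrix.E₈.simple j ∈ H := by
  intro H hc h4
  have h5 := fwd _ hc (shift CoxeterMatrix.E₈ (i := 4) (j := 5) [0, 1, 2, 3] [6, 7] (by decide) (by decide) (by decide)
    (by decide)) h4
  have h6 := fwd _ hc (shift CoxeterMatrix.E₈ (i := 5) (j := 6) [0, 1, 2, 3, 4] [7] (by decide) (by decide) (by decide)
    (by decide)) h5
  have h7 := fwd _ hc (shift CoxeterMatrix.E₈ (i := 6) (j := 7) [0, 1, 2, 3, 4, 5] [] (by decide) (by decide) (by decide)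
    (by decide)) h6
  have h3 := bwd _ hc (shift CoxeterMatrix.E₈ (i := 3) (j := 4) [0, 1, 2] [5, 6, 7] (by decide) (by decide) (by decide)
    (by decide)) h4
  have hu : CoxeterMatrix.E₈.simple 0 * CoxeterMatrix.E₈.simple 1 * CoxeterMatrix.E₈.simple 2 ∈ H := by
    have := mul_mem hc (inv_mem (mul_mem (mul_mem (mul_mem (mul_mem h3 h4) h5) h6) h7))
    simpa [cox, List.finRange_succ, mul_assoc] using this
  obtain ⟨h0, h1, h2⟩ := head3 CoxeterMatrix.E₈ 0 1 2 3 hu h3 (by decide) (by decide) (by decide) (by decide) (by decide)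
  intro j
  fin_cases j
  exacts [h0, h1, h2, h3, h4, h5, h6, h7]



/-- The Coxeter groups of types B₂, G₂, E₆, E₇, E₈ are generated by the Coxeter element `s₁ s₂ ⋯ s_l` together with one suitable reflection (a conjugate of a simple reflection); for types D₄ and F₄ the Coxeter element together with two suitable reflections suffices. -/
theorem result (c : (Σ n : ℕ, CoxeterMatrix (Fin n)) × ℕ)
    (hc : c ∈ [(⟨2, CoxeterMatrix.B 2⟩, 1), (⟨2, CoxeterMatrix.G₂⟩, 1), (⟨4, Cfsg.Lie.coxeterD4⟩, 2), (⟨4, CoxeterMatrix.F₄⟩, 2),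
      (⟨6, CoxeterMatrix.E₆⟩, 1), (⟨7, CoxeterMatrix.E₇⟩, 1), (⟨8, CoxeterMatrix.E₈⟩, 1)]) :
    ∃ T : Finset c.1.2.Group, T.card = c.2 ∧ (∀ t ∈ T, ∃ (g : c.1.2.Group) (i : Fin c.1.1), t = g * c.1.2.simple i * g⁻¹) ∧
      Subgroup.closure (({((List.finRange c.1.1).map c.1.2.simple).prod} : Set c.1.2.Group) ∪ ↑T) = ⊤ := by
  simp only [List.mem_cons, List.not_mem_nil, or_false] at hc
  rcases hc with rfl | rfl | rfl | rfl | rfl | rfl | rfl
  · exact rank2 (CoxeterMatrix.B 2)
  · exact rank2 CoxeterMatrix.G₂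
  · exact two_refl Cfsg.Lie.coxeterD4 0 2
      (![Equiv.swap 0 1, Equiv.swap 1 2, Equiv.swap 2 3, Equiv.swap 0 1] : Fin 4 → Equiv.Perm (Fin 4))
      (by unfold CoxeterMatrix.IsLiftable; decide +kernel) (by decide +kernel) caseD4
  · exact two_refl CoxeterMatrix.F₄ 0 2
      (![Equiv.swap 0 1, Equiv.swap 0 1, 1, 1] : Fin 4 → Equiv.Perm (Fin 2))
      (by unfold CoxeterMatrix.IsLiftable; decide +kernel) (by decide +kernel) caseF4
  · exact one_refl CoxeterMatrix.E₆ 4 caseE6
  · exact one_refl CoxeterMatrix.E₇ 4 caseE7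
  · exact one_refl CoxeterMatrix.E₈ 4 caseE8

end Cfsg.Agent.S2419
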