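import Cfsg.Statements.S2429
import Cfsg.Agent.Known.SLTwo.Tori

set_option autoImplicit false
open Cfsg

namespace Cfsg.Agent.S2429

/-- Let F be a finite field with q elements, q odd. Then SL₂ over F contains a cyclic subgroup T′ of order q + 1 (a non-split torus) with the following properties: T′ is its own centraliser, and indeed the centraliser of each element of T′ other than 1 and −1 is exactly T′; every element of SL₂ having no eigenvector in F² is conjugate to an element of T′; the normaliser of T′ has order 2(q + 1) and exactly (q + 7)/2 conjugacy classes; and every element of that normaliser outside T′ has square −1. -/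
theorem result {F : Type*} [Field F] [Fintype F] (hodd : Odd (Fintype.card F)) :
    ∃ T' : Subgroup (Matrix.SpecialLinearGroup (Fin 2) F), IsCyclic T' ∧ Nat.card T' = Fintype.card F + 1 ∧
      Subgroup.centralizer ((T' : Set (Matrix.SpecialLinearGroup (Fin 2) F))) = T' ∧
      (∀ g : Matrix.SpecialLinearGroup (Fin 2) F, g ∈ T' → (g : Matrix (Fin 2) (Fin 2) F) ≠ 1 → (g : Matrix (Fin 2) (Fin 2) F) ≠ -1 → Subgroup.centralizer ({g} : Set (Matrix.SpecialLinearGroup (Fin 2) F)) = T') ∧
      (∀ g : Matrix.SpecialLinearGroup (Fin 2) F, (∀ (c : F) (v : Fin 2 → F), v ≠ 0 → (g : Matrix (Fin 2) (Fin 2) F).mulVec v ≠ c • v) → ∃ h : Matrix.SpecialLinearGroup (Fin 2) F, h * g * h⁻¹ ∈ T') ∧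
      Nat.card (Subgroup.normalizer (T' : Set (Matrix.SpecialLinearGroup (Fin 2) F))) = 2 * (Fintype.card F + 1) ∧
      Nat.card (ConjClasses (Subgroup.normalizer (T' : Set (Matrix.SpecialLinearGroup (Fin 2) F)))) = (Fintype.card F + 7) / 2 ∧
      ∀ g : Matrix.SpecialLinearGroup (Fin 2) F, g ∈ Subgroup.normalizer (T' : Set (Matrix.SpecialLinearGroup (Fin 2) F)) → g ∉ T' → ((g * g) : Matrix (Fin 2) (Fin 2) F) = -1 := by

  classical
  have h2 := Cfsg.Lib.GLTwo.two_ne_zero_of_odd hodd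
  obtain ⟨g, hg, hi⟩ := Cfsg.Lib.GLTwo.exists_reg_irred (F := F) h2
  have hc : Nat.card ↥(Subgroup.centralizer ({g} : Set (Matrix.SpecialLinearGroup (Fin 2) F))) = Fintype.card F + 1 := by
    rw [Cfsg.Lib.GLTwo.card_centSL hg.1, Cfsg.Lib.GLTwo.card_one_irred hi]
  refine ⟨_, hg.cyclic, hc, Cfsg.Lib.GLTwo.cent_cen hg.1, fun x hx h1 hm => ?_, fun x hx => ?_, ?_, ?_, fun y hy hyC => ?_⟩
  · refine Cfsg.Lib.GLTwo.cen_eq_of_mem hg.1 hx (Cfsg.Lib.GLTwo.nonScalar_of_ne (fun e => h1 ?_) (fun e => hm ?_))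
    · rw [e]; exact Matrix.SpecialLinearGroup.coe_one
    · rw [e, Matrix.SpecialLinearGroup.coe_neg, Matrix.SpecialLinearGroup.coe_one]
  · have h := Cfsg.Lib.GLTwo.irred_of_no_eigen hx
    exact hg.exists_conj_mem h2 (Cfsg.Lib.GLTwo.reg_of_irred h2 h) (iff_of_true hi h.2)
  · rw [hg.card_normalizer h2, hc]
  · rw [hg.card_classes h2, hc]
  · have e := hg.sq_eq h2 hy hyC
    show ((y * y : Matrix.SpecialLinearGroup (Fin 2) F) : Matrix (Fin 2) (Fin 2) F) = -1
    rw [e, Matrix.SpecialLinearGroup.coe_neg, Matrix.SpecialLinearGroup.coe_one]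

end Cfsg.Agent.S2429
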