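import Cfsg.Statements.S2433
import Cfsg.Agent.Known.SLTwo.GL

set_option autoImplicit false
open Cfsg

namespace Cfsg.Agent.S2433

/-- Let F be a finite field with q elements, q odd, α a multiplicative character of F, and R(α) the function on SL₂ induced from the linear character b ↦ α(b₁₁) of the upper triangular subgroup. Then R(α) takes the value α(a) + α(a⁻¹) at a diagonal element with entries a, a⁻¹, a² ≠ 1; the value 0 at every element with no eigenvector in F²; the value α(ε) at an upper triangular element with both diagonal entries ε and non-zero upper right entry; and the value (q + 1)α(ε) at the scalar element ε (ε = ±1). -/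
theorem result {F : Type*} [Field F] [Fintype F] [DecidableEq F] (hodd : Odd (Fintype.card F)) (α : MulChar F ℂ) (g : Matrix.SpecialLinearGroup (Fin 2) F) :
    ((g : Matrix (Fin 2) (Fin 2) F) 0 1 = 0 → (g : Matrix (Fin 2) (Fin 2) F) 1 0 = 0 → (g : Matrix (Fin 2) (Fin 2) F) 0 0 ^ 2 ≠ 1 →
      (Cfsg.indFun ((Cfsg.upperTriangularGL 2 F).comap Matrix.SpecialLinearGroup.toGL) (fun b => α (((b : Matrix.SpecialLinearGroup (Fin 2) F) : Matrix (Fin 2) (Fin 2) F) 0 0))) g = α ((g : Matrix (Fin 2) (Fin 2) F) 0 0) + α ((g : Matrix (Fin 2) (Fin 2) F) 1 1)) ∧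
    ((∀ (c : F) (v : Fin 2 → F), v ≠ 0 → (g : Matrix (Fin 2) (Fin 2) F).mulVec v ≠ c • v) → (Cfsg.indFun ((Cfsg.upperTriangularGL 2 F).comap Matrix.SpecialLinearGroup.toGL) (fun b => α (((b : Matrix.SpecialLinearGroup (Fin 2) F) : Matrix (Fin 2) (Fin 2) F) 0 0))) g = 0) ∧
    ((g : Matrix (Fin 2) (Fin 2) F) 1 0 = 0 → (g : Matrix (Fin 2) (Fin 2) F) 0 0 = (g : Matrix (Fin 2) (Fin 2) F) 1 1 → (g : Matrix (Fin 2) (Fin 2) F) 0 1 ≠ 0 →
      (Cfsg.indFun ((Cfsg.upperTriangularGL 2 F).comap Matrix.SpecialLinearGroup.toGL) (fun b => α (((b : Matrix.SpecialLinearGroup (Fin 2) F) : Matrix (Fin 2) (Fin 2) F) 0 0))) g = α ((g : Matrix (Fin 2) (Fin 2) F) 0 0)) ∧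
    ((g : Matrix (Fin 2) (Fin 2) F) 0 1 = 0 → (g : Matrix (Fin 2) (Fin 2) F) 1 0 = 0 → (g : Matrix (Fin 2) (Fin 2) F) 0 0 = (g : Matrix (Fin 2) (Fin 2) F) 1 1 →
      (Cfsg.indFun ((Cfsg.upperTriangularGL 2 F).comap Matrix.SpecialLinearGroup.toGL) (fun b => α (((b : Matrix.SpecialLinearGroup (Fin 2) F) : Matrix (Fin 2) (Fin 2) F) 0 0))) g = ((Fintype.card F : ℂ) + 1) * α ((g : Matrix (Fin 2) (Fin 2) F) 0 0)) := by
  classical
  have e : Cfsg.indFun ((Cfsg.upperTriangularGL 2 F).comap Matrix.SpecialLinearGroup.toGL) (fun b => α (((b : Matrix.SpecialLinearGroup (Fin 2) F) : Matrix (Fin 2) (Fin 2) F) 0 0)) g = _ :=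
    Cfsg.Lib.GLTwo.indFun_eq α.toMonoidHom g
  rw [e]
  set A := (g : Matrix (Fin 2) (Fin 2) F) with hA
  have hα : ∀ x, α.toMonoidHom x = α x := fun x => rfl
  simp only [hα, Fintype.sum_option]
  refine ⟨fun h01 h10 hsq => ?_, fun h => ?_, fun h10 heq h01 => ?_, fun h01 h10 heq => ?_⟩
  · have hne : A 0 0 ≠ A 1 1 := fun e => hsq (by
      have hd := g.2
      rw [← hA, Matrix.det_fin_two, h01, h10, ← e, mul_zero, sub_zero] at hd
      rw [sq]; exact hd)
    rw [if_pos (by simp [Cfsg.Lib.GLTwo.colAt, h10]), Finset.sum_eq_single (0 : F)]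
    · rw [if_pos (by simp [Cfsg.Lib.GLTwo.colAt, h01])]
      simp [Cfsg.Lib.GLTwo.colAt]
    · intro c _ hc
      rw [if_neg]
      simp [Cfsg.Lib.GLTwo.colAt, h01, h10]
      intro e
      exact hc ((mul_eq_zero.1 (show c * (A 1 1 - A 0 0) = 0 by linear_combination e)).resolve_right (sub_ne_zero.2 (Ne.symm hne)))
    · simp
  · rw [if_neg, Finset.sum_eq_zero, add_zero]
    · intro c _
      rw [if_neg]
      intro ho
      refine h (A 1 0 * c + A 1 1) ![c, 1] (by simp) ?_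
      simp [Cfsg.Lib.GLTwo.colAt] at ho
      funext i; fin_cases i <;> simp [Matrix.mulVec, dotProduct]
      linear_combination -ho
    · intro ho
      refine h (A 0 0) ![1, 0] (by simp) ?_
      simp [Cfsg.Lib.GLTwo.colAt] at ho
      funext i; fin_cases i <;> simp [Matrix.mulVec, dotProduct, ho]
  · rw [if_pos (by simp [Cfsg.Lib.GLTwo.colAt, h10]), Finset.sum_eq_zero, add_zero]
    · rfl
    · intro c _
      rw [if_neg]
      intro ho
      simp [Cfsg.Lib.GLTwo.colAt, h10] at ho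
      exact h01 (by linear_combination -ho - c * heq)
  · have key : ∀ c : F, Cfsg.Lib.GLTwo.colAt A (some c) = (A 0 0, 0) := fun c => by
      simp [Cfsg.Lib.GLTwo.colAt, h01, h10, heq]; ring
    rw [Finset.sum_congr rfl (fun c _ => by rw [key, if_pos rfl]), if_pos (by simp [Cfsg.Lib.GLTwo.colAt, h10])]
    simp [Cfsg.Lib.GLTwo.colAt]
    ring

end Cfsg.Agent.S2433
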