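import Cfsg.Statements.S2439
import Cfsg.Agent.Known.SLBlocks
-- import your own Cfsg.Agent.* helpers here

set_option autoImplicit false
open Cfsg

namespace Cfsg.Agent.S2439

/-- Let F be a finite field with q elements of odd characteristic p, and M a maximal ideal of the algebraic integers containing p. Then SL₂ over F has exactly three p-blocks relative to M: the irreducible character of degree q (the Steinberg character) alone; the other irreducible characters taking the same value at −1 as at 1 (the principal block); and the irreducible characters χ with χ(−1) = −χ(1). Every Sylow p-subgroup is a defect group of each of the last two blocks. -/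
theorem result {F : Type*} [Field F] [Fintype F] (p : ℕ) [Fact p.Prime] [CharP F p] (hp : p ≠ 2)
    (M : Ideal Cfsg.AlgInt) (hM : Cfsg.IsPModular p M) :
    (∀ B : Set (Cfsg.IrrCharacter (Matrix.SpecialLinearGroup (Fin 2) F)), Cfsg.IsPBlock M B ↔
      (B = {χ : Cfsg.IrrCharacter (Matrix.SpecialLinearGroup (Fin 2) F) | (χ : Matrix.SpecialLinearGroup (Fin 2) F → ℂ) 1 = (Fintype.card F : ℂ)} ∨
       B = {χ : Cfsg.IrrCharacter (Matrix.SpecialLinearGroup (Fin 2) F) | (χ : Matrix.SpecialLinearGroup (Fin 2) F → ℂ) (-1) = (χ : Matrix.SpecialLinearGroup (Fin 2) F → ℂ) 1 ∧ (χ : Matrix.SpecialLinearGroup (Fin 2) F → ℂ) 1 ≠ (Fintype.card F : ℂ)} ∨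
       B = {χ : Cfsg.IrrCharacter (Matrix.SpecialLinearGroup (Fin 2) F) | (χ : Matrix.SpecialLinearGroup (Fin 2) F → ℂ) (-1) = -(χ : Matrix.SpecialLinearGroup (Fin 2) F → ℂ) 1})) ∧
    Nat.card {B : Set (Cfsg.IrrCharacter (Matrix.SpecialLinearGroup (Fin 2) F)) // Cfsg.IsPBlock M B} = 3 ∧
    ∀ P : Sylow p (Matrix.SpecialLinearGroup (Fin 2) F),
      Cfsg.IsDefectGroup p M {χ : Cfsg.IrrCharacter (Matrix.SpecialLinearGroup (Fin 2) F) | (χ : Matrix.SpecialLinearGroup (Fin 2) F → ℂ) (-1) = (χ : Matrix.SpecialLinearGroup (Fin 2) F → ℂ) 1 ∧ (χ : Matrix.SpecialLinearGroup (Fin 2) F → ℂ) 1 ≠ (Fintype.card F : ℂ)} (P : Subgroup (Matrix.SpecialLinearGroup (Fin 2) F)) ∧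
      Cfsg.IsDefectGroup p M {χ : Cfsg.IrrCharacter (Matrix.SpecialLinearGroup (Fin 2) F) | (χ : Matrix.SpecialLinearGroup (Fin 2) F → ℂ) (-1) = -(χ : Matrix.SpecialLinearGroup (Fin 2) F → ℂ) 1} (P : Subgroup (Matrix.SpecialLinearGroup (Fin 2) F)) := by
  classical
  have hc := Cfsg.Lib.Known.SLConstrained.locallyConstrained (p := p) (F := F) (n := 2) (by omega)
  have hs := Cfsg.Lib.SLBN.deg_steinberg (n := 2) (F := F) p
  have huniq := Cfsg.Lib.SLBN.eq_steinberg (F := F) p (n := 2) (by omega)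
  have hZ := Cfsg.Lib.SLBN.not_dvd_card_center (F := F) p (n := 2) (by omega)
  have ha := Cfsg.Lib.SLBN.factorization_ne_zero (F := F) p (n := 2) le_rfl
  set s₀ := Cfsg.Lib.SLBN.steinberg (n := 2) (F := F) p with hs₀
  have hd0 := Cfsg.Lib.Blocks.blockOf_defect_zero hM (Cfsg.Lib.Blocks.factorization_deg_defect_zero hM hs)
  -- the Sylow order is the field order
  have hU : Nat.card (Cfsg.Lib.SLBN.U 2 F) = Fintype.card F := by
    have h := Cfsg.Lib.SLBN.card_pairs 2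
    rw [Cfsg.Lib.SLBN.card_U, show Nat.card {p : Fin 2 × Fin 2 // p.1 < p.2} = 1 by omega, pow_one,
      Nat.card_eq_fintype_card]
  have hq1 : ∀ χ : Cfsg.IrrCharacter (Matrix.SpecialLinearGroup (Fin 2) F), (χ : (Matrix.SpecialLinearGroup (Fin 2) F) → ℂ) 1 = (Fintype.card F : ℂ) ↔ χ = s₀ := fun χ => by
    constructor
    · intro h
      refine huniq χ ?_
      rw [Cfsg.Lib.Chars.irr_apply_one_eq_deg, Nat.cast_inj] at h
      rw [h, ← hU, Cfsg.Lib.Steinberg.factorization_eq (Cfsg.Lib.SLBN.split (n := 2) (F := F) p)]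
    · rintro rfl
      show Cfsg.Lib.Steinberg.st _ 1 = _
      rw [Cfsg.Lib.Steinberg.st_one (Cfsg.Lib.SLBN.split (n := 2) (F := F) p) Cfsg.Lib.SLBN.opp, hU]
  -- the centre
  have hm1 : (-1 : (Matrix.SpecialLinearGroup (Fin 2) F)) ∈ Subgroup.center (Matrix.SpecialLinearGroup (Fin 2) F) := Subgroup.mem_center_iff.2 fun g => Subtype.ext (by simp)
  have hm1ne : (-1 : (Matrix.SpecialLinearGroup (Fin 2) F)) ≠ 1 := by
    intro h
    have h1 := congrArg (fun g : (Matrix.SpecialLinearGroup (Fin 2) F) => (g : Matrix (Fin 2) (Fin 2) F) 0 0) h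
    simp at h1
    have h2 : (2 : F) = 0 := by linear_combination -h1
    have h3 := (CharP.cast_eq_zero_iff F p 2).1 (by exact_mod_cast h2)
    exact hp ((Nat.prime_dvd_prime_iff_eq (Fact.out : p.Prime) Nat.prime_two).1 h3)
  have hZ2 : Nat.card (Subgroup.center (Matrix.SpecialLinearGroup (Fin 2) F)) = 2 := by
    rw [Cfsg.Lib.Classical.card_center_SL, Fintype.card_fin]
    refine Nat.gcd_eq_left ?_
    obtain ⟨k, -, hk⟩ := FiniteField.card F p
    rw [Nat.card_eq_fintype_card, hk]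
    have : Odd (p ^ (k : ℕ)) := ((Fact.out : p.Prime).odd_of_ne_two hp).pow
    exact (Nat.Odd.sub_odd this odd_one).two_dvd
  have hcen : ∀ z : Subgroup.center (Matrix.SpecialLinearGroup (Fin 2) F), z = 1 ∨ z = ⟨-1, hm1⟩ := by
    intro z
    by_contra hz
    push Not at hz
    have hne : (1 : Subgroup.center (Matrix.SpecialLinearGroup (Fin 2) F)) ≠ ⟨-1, hm1⟩ := fun h => hm1ne (congrArg Subtype.val h).symm
    letI := Fintype.ofFinite (Subgroup.center (Matrix.SpecialLinearGroup (Fin 2) F))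
    have h3 : ({1, ⟨-1, hm1⟩, z} : Finset (Subgroup.center (Matrix.SpecialLinearGroup (Fin 2) F))).card = 3 := by
      rw [Finset.card_insert_of_notMem (by simp [hne, Ne.symm hz.1]),
        Finset.card_pair (Ne.symm hz.2)]
    have := Finset.card_le_univ ({1, ⟨-1, hm1⟩, z} : Finset (Subgroup.center (Matrix.SpecialLinearGroup (Fin 2) F)))
    rw [h3, ← Nat.card_eq_fintype_card, hZ2] at this
    omega
  -- the two linear characters
  have hne1 : ∀ χ : Cfsg.IrrCharacter (Matrix.SpecialLinearGroup (Fin 2) F), (χ : (Matrix.SpecialLinearGroup (Fin 2) F) → ℂ) 1 ≠ 0 := fun χ =>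
    Cfsg.Lib.Chars.IsIrrCharacter.apply_one_ne_zero χ.2
  have hval : ∀ χ : Cfsg.IrrCharacter (Matrix.SpecialLinearGroup (Fin 2) F),
      (χ : (Matrix.SpecialLinearGroup (Fin 2) F) → ℂ) (-1) = (χ : (Matrix.SpecialLinearGroup (Fin 2) F) → ℂ) 1 ∨ (χ : (Matrix.SpecialLinearGroup (Fin 2) F) → ℂ) (-1) = -(χ : (Matrix.SpecialLinearGroup (Fin 2) F) → ℂ) 1 := by
    intro χ
    have h := Cfsg.Lib.Blocks.apply_mul_central χ hm1 (-1 : (Matrix.SpecialLinearGroup (Fin 2) F))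
    rw [show (-1 : (Matrix.SpecialLinearGroup (Fin 2) F)) * -1 = 1 from Subtype.ext (by simp)] at h
    have h2 : ((χ : (Matrix.SpecialLinearGroup (Fin 2) F) → ℂ) (-1) - (χ : (Matrix.SpecialLinearGroup (Fin 2) F) → ℂ) 1) * ((χ : (Matrix.SpecialLinearGroup (Fin 2) F) → ℂ) (-1) + (χ : (Matrix.SpecialLinearGroup (Fin 2) F) → ℂ) 1) = 0 := by
      field_simp [hne1 χ] at h
      linear_combination -h
    rcases mul_eq_zero.1 h2 with h3 | h3
    · exact Or.inl (sub_eq_zero.1 h3)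
    · exact Or.inr (eq_neg_of_add_eq_zero_left h3)
  have hlin : ∀ χ ψ : Cfsg.IrrCharacter (Matrix.SpecialLinearGroup (Fin 2) F),
      Cfsg.Lib.Blocks.centralLin χ = Cfsg.Lib.Blocks.centralLin ψ ↔
        ((χ : (Matrix.SpecialLinearGroup (Fin 2) F) → ℂ) (-1) = (χ : (Matrix.SpecialLinearGroup (Fin 2) F) → ℂ) 1 ↔ (ψ : (Matrix.SpecialLinearGroup (Fin 2) F) → ℂ) (-1) = (ψ : (Matrix.SpecialLinearGroup (Fin 2) F) → ℂ) 1) := by
    intro χ ψ
    constructor
    · intro h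
      have h1 := congrArg Units.val (DFunLike.congr_fun h ⟨-1, hm1⟩)
      rw [Cfsg.Lib.Blocks.centralLin_apply, Cfsg.Lib.Blocks.centralLin_apply] at h1
      rw [← div_eq_one_iff_eq (hne1 χ), ← div_eq_one_iff_eq (hne1 ψ)]
      exact ⟨fun e => h1 ▸ e, fun e => h1.symm ▸ e⟩
    · intro h
      refine MonoidHom.ext fun z => Units.ext ?_
      rcases hcen z with rfl | rfl
      · rw [map_one, map_one]
      rw [Cfsg.Lib.Blocks.centralLin_apply, Cfsg.Lib.Blocks.centralLin_apply]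
      by_cases he : (χ : (Matrix.SpecialLinearGroup (Fin 2) F) → ℂ) (-1) = (χ : (Matrix.SpecialLinearGroup (Fin 2) F) → ℂ) 1
      · show (χ : (Matrix.SpecialLinearGroup (Fin 2) F) → ℂ) (-1) / _ = (ψ : (Matrix.SpecialLinearGroup (Fin 2) F) → ℂ) (-1) / _
        rw [he, h.1 he, div_self (hne1 χ), div_self (hne1 ψ)]
      · show (χ : (Matrix.SpecialLinearGroup (Fin 2) F) → ℂ) (-1) / _ = (ψ : (Matrix.SpecialLinearGroup (Fin 2) F) → ℂ) (-1) / _
        rw [(hval χ).resolve_left he, (hval ψ).resolve_left fun e => he (h.2 e), neg_div, neg_div,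
          div_self (hne1 χ), div_self (hne1 ψ)]
  have hst : (s₀ : (Matrix.SpecialLinearGroup (Fin 2) F) → ℂ) (-1) = (s₀ : (Matrix.SpecialLinearGroup (Fin 2) F) → ℂ) 1 := by
    refine Finset.sum_congr rfl fun K _ => ?_
    congr 1
    unfold Cfsg.fixedPointCharacter
    congr 1
    refine Nat.card_congr (Equiv.subtypeEquivRight fun x => ?_)
    induction x using QuotientGroup.induction_on with
    | _ y =>
      simp only [MulAction.mem_fixedBy, one_smul, iff_true]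
      show ((-1 * y : (Matrix.SpecialLinearGroup (Fin 2) F)) : (Matrix.SpecialLinearGroup (Fin 2) F) ⧸ (Cfsg.Lib.SLBN.pair 2 F).parabolic (K : Set (Matrix.SpecialLinearGroup (Fin 2) F))) = _
      rw [← Subgroup.mem_center_iff.1 hm1 y, QuotientGroup.mk_mul_of_mem]
      exact Subgroup.mem_sup_left (Cfsg.Lib.SLBN.mem_B.2 fun i j hij => by simp [hij.ne'])
  -- identify the three sets
  set A1 : Set (Cfsg.IrrCharacter (Matrix.SpecialLinearGroup (Fin 2) F)) := {χ | (χ : (Matrix.SpecialLinearGroup (Fin 2) F) → ℂ) 1 = (Fintype.card F : ℂ)} with hA1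
  set A2 : Set (Cfsg.IrrCharacter (Matrix.SpecialLinearGroup (Fin 2) F)) :=
    {χ | (χ : (Matrix.SpecialLinearGroup (Fin 2) F) → ℂ) (-1) = (χ : (Matrix.SpecialLinearGroup (Fin 2) F) → ℂ) 1 ∧ (χ : (Matrix.SpecialLinearGroup (Fin 2) F) → ℂ) 1 ≠ (Fintype.card F : ℂ)} with hA2
  set A3 : Set (Cfsg.IrrCharacter (Matrix.SpecialLinearGroup (Fin 2) F)) := {χ | (χ : (Matrix.SpecialLinearGroup (Fin 2) F) → ℂ) (-1) = -(χ : (Matrix.SpecialLinearGroup (Fin 2) F) → ℂ) 1} with hA3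
  have e1 : Cfsg.blockOf M (s₀ : (Matrix.SpecialLinearGroup (Fin 2) F) → ℂ) = A1 := by
    rw [hd0.1]
    ext χ
    exact (hq1 χ).symm
  have hmemB : ∀ χ ψ : Cfsg.IrrCharacter (Matrix.SpecialLinearGroup (Fin 2) F), χ ≠ s₀ → (ψ ∈ Cfsg.blockOf M (χ : (Matrix.SpecialLinearGroup (Fin 2) F) → ℂ) ↔
      ψ ≠ s₀ ∧ Cfsg.Lib.Blocks.centralLin χ = Cfsg.Lib.Blocks.centralLin ψ) := by
    intro χ ψ hχ
    constructor
    · intro h
      have he := Cfsg.Lib.Blocks.IsPBlock.eq_blockOf hM (Cfsg.Lib.Blocks.isPBlock_blockOf χ) h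
      refine ⟨fun e => ?_, Cfsg.Lib.Blocks.centralLin_eq_of_sameBlock hM hZ h⟩
      subst e
      exact Cfsg.Lib.Blocks.blockOf_ne hM hs huniq hχ (he.trans hd0.1)
    · rintro ⟨hψ, h⟩
      rw [(Cfsg.Lib.Blocks.blockOf_eq_iff hM hc hZ huniq hχ hψ).2 h]
      exact Cfsg.Lib.Blocks.mem_blockOf_self hM ψ
  have e2 : ∀ χ : Cfsg.IrrCharacter (Matrix.SpecialLinearGroup (Fin 2) F), χ ≠ s₀ → (χ : (Matrix.SpecialLinearGroup (Fin 2) F) → ℂ) (-1) = (χ : (Matrix.SpecialLinearGroup (Fin 2) F) → ℂ) 1 →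
      Cfsg.blockOf M (χ : (Matrix.SpecialLinearGroup (Fin 2) F) → ℂ) = A2 := by
    intro χ hχ he
    ext ψ
    rw [hmemB χ ψ hχ, hlin]
    show _ ↔ (ψ : (Matrix.SpecialLinearGroup (Fin 2) F) → ℂ) (-1) = (ψ : (Matrix.SpecialLinearGroup (Fin 2) F) → ℂ) 1 ∧ (ψ : (Matrix.SpecialLinearGroup (Fin 2) F) → ℂ) 1 ≠ _
    rw [Ne, Ne, hq1 ψ, and_comm]
    exact and_congr_left' ⟨fun h => h.1 he, fun h => ⟨fun _ => h, fun _ => he⟩⟩
  have e3 : ∀ χ : Cfsg.IrrCharacter (Matrix.SpecialLinearGroup (Fin 2) F), χ ≠ s₀ → ¬ (χ : (Matrix.SpecialLinearGroup (Fin 2) F) → ℂ) (-1) = (χ : (Matrix.SpecialLinearGroup (Fin 2) F) → ℂ) 1 →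
      Cfsg.blockOf M (χ : (Matrix.SpecialLinearGroup (Fin 2) F) → ℂ) = A3 := by
    intro χ hχ he
    ext ψ
    rw [hmemB χ ψ hχ, hlin]
    show _ ↔ (ψ : (Matrix.SpecialLinearGroup (Fin 2) F) → ℂ) (-1) = -(ψ : (Matrix.SpecialLinearGroup (Fin 2) F) → ℂ) 1
    constructor
    · rintro ⟨-, h⟩
      exact (hval ψ).resolve_left fun e => he (h.2 e)
    · intro h
      have hno : ¬ (ψ : (Matrix.SpecialLinearGroup (Fin 2) F) → ℂ) (-1) = (ψ : (Matrix.SpecialLinearGroup (Fin 2) F) → ℂ) 1 := fun e => by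
        rw [e, eq_neg_iff_add_eq_zero, ← two_mul] at h
        exact hne1 ψ ((mul_eq_zero.1 h).resolve_left two_ne_zero)
      exact ⟨fun e => hno (e ▸ hst), iff_of_false he hno⟩
  -- both linear characters occur
  have hexχ : ∀ P : Prop, ∀ l : Subgroup.center (Matrix.SpecialLinearGroup (Fin 2) F) →* ℂˣ, ((l ⟨-1, hm1⟩ : ℂ) = 1 ↔ P) →
      ∃ χ : Cfsg.IrrCharacter (Matrix.SpecialLinearGroup (Fin 2) F), χ ≠ s₀ ∧ ((χ : (Matrix.SpecialLinearGroup (Fin 2) F) → ℂ) (-1) = (χ : (Matrix.SpecialLinearGroup (Fin 2) F) → ℂ) 1 ↔ P) := by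
    intro P l hl
    obtain ⟨χ, hχ, h⟩ := Cfsg.Lib.Blocks.exists_centralLin hM hs huniq ha l
    refine ⟨χ, hχ, ?_⟩
    rw [← hl, ← h, Cfsg.Lib.Blocks.centralLin_apply, div_eq_one_iff_eq (hne1 χ)]
  obtain ⟨χ₂, hχ₂, hv₂⟩ := hexχ True 1 (by simp)
  obtain ⟨χ₃, hχ₃, hv₃⟩ : ∃ χ : Cfsg.IrrCharacter (Matrix.SpecialLinearGroup (Fin 2) F), χ ≠ s₀ ∧ ((χ : (Matrix.SpecialLinearGroup (Fin 2) F) → ℂ) (-1) = (χ : (Matrix.SpecialLinearGroup (Fin 2) F) → ℂ) 1 ↔ False) := by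
    by_contra hno
    push Not at hno
    -- every character is then trivial on `-1`, against the number of linear characters
    letI : CommGroup (Subgroup.center (Matrix.SpecialLinearGroup (Fin 2) F)) :=
      { (inferInstance : Group (Subgroup.center (Matrix.SpecialLinearGroup (Fin 2) F))) with
        mul_comm := fun a b => Subtype.ext (Subgroup.mem_center_iff.1 b.2 a) }
    have hcard := CommGroup.card_monoidHom_of_hasEnoughRootsOfUnity (Subgroup.center (Matrix.SpecialLinearGroup (Fin 2) F)) ℂ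
    rw [hZ2, Nat.card_eq_two_iff] at hcard
    obtain ⟨l, l', hll, -⟩ := hcard
    obtain ⟨χ, hχ, h⟩ := Cfsg.Lib.Blocks.exists_centralLin hM hs huniq ha l
    obtain ⟨ψ, hψ, h'⟩ := Cfsg.Lib.Blocks.exists_centralLin hM hs huniq ha l'
    refine hll ?_
    rw [← h, ← h', hlin]
    exact iff_of_true (by_contra fun e => (hno χ hχ).elim (fun x => e x.1) (fun x => x.2))
      (by_contra fun e => (hno ψ hψ).elim (fun x => e x.1) (fun x => x.2))
  have hB2 := e2 χ₂ hχ₂ (hv₂.2 trivial)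
  have hB3 := e3 χ₃ hχ₃ hv₃.1
  have hall : ∀ B : Set (Cfsg.IrrCharacter (Matrix.SpecialLinearGroup (Fin 2) F)), Cfsg.IsPBlock M B ↔ (B = A1 ∨ B = A2 ∨ B = A3) := by
    intro B
    constructor
    · rintro ⟨χ, rfl⟩
      rcases eq_or_ne χ s₀ with rfl | hχ
      · exact Or.inl e1
      by_cases he : (χ : (Matrix.SpecialLinearGroup (Fin 2) F) → ℂ) (-1) = (χ : (Matrix.SpecialLinearGroup (Fin 2) F) → ℂ) 1
      · exact Or.inr (Or.inl (e2 χ hχ he))
      · exact Or.inr (Or.inr (e3 χ hχ he))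
    · rintro (rfl | rfl | rfl)
      · exact ⟨s₀, e1.symm⟩
      · exact ⟨χ₂, hB2.symm⟩
      · exact ⟨χ₃, hB3.symm⟩
  refine ⟨hall, ?_, fun P => ⟨?_, ?_⟩⟩
  · rw [Cfsg.Lib.Blocks.card_blocks_eq hM hc hZ hs huniq ha, hZ2]
  · rw [← hB2]
    exact (Cfsg.Lib.Blocks.card_defectGroup_of_constrained hM hc (Cfsg.Lib.Blocks.isPBlock_blockOf χ₂)
      (Cfsg.Lib.Blocks.defect_ne_zero hM huniq hχ₂)).2 P
  · rw [← hB3]
    exact (Cfsg.Lib.Blocks.card_defectGroup_of_constrained hM hc (Cfsg.Lib.Blocks.isPBlock_blockOf χ₃)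
      (Cfsg.Lib.Blocks.defect_ne_zero hM huniq hχ₃)).2 P

end Cfsg.Agent.S2439
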