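import Cfsg.Statements.S2442
import Cfsg.Agent.Cuspidal.Exists
-- import your own Cfsg.Agent.* helpers here

set_option autoImplicit false
open scoped MatrixGroups
open Cfsg

namespace Cfsg.Agent.S2442

open Classical in
/-- Let F be a finite field with q elements and n ≥ 2. Call a complex character χ of GL_n over F cuspidal when, for every 0 < m < n, the sum of χ over the subgroup of matrices that agree with the identity outside the upper right m × (n − m) block vanishes (the restriction of χ to the unipotent radical of each maximal standard parabolic subgroup contains no principal constituent). Then GL_n has at least φ(qⁿ − 1)/n distinct cuspidal irreducible characters of degree (q − 1)(q² − 1)⋯(q^(n−1) − 1), φ being Euler's function (in particular at least one). -/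
theorem result {F : Type*} [Field F] [Fintype F] [DecidableEq F] (n : ℕ) (hn : 2 ≤ n) :
    Nat.totient (Fintype.card F ^ n - 1) / n ≤
      Nat.card {χ : Cfsg.IrrCharacter (GL (Fin n) F) //
        (χ : GL (Fin n) F → ℂ) 1 = ∏ i ∈ Finset.Ico 1 n, ((Fintype.card F : ℂ) ^ i - 1) ∧
        ∀ m : ℕ, 0 < m → m < n →
          (∑ g : GL (Fin n) F,
            if (∀ i j : Fin n, ¬ (i.val < m ∧ m ≤ j.val) → (g : Matrix (Fin n) (Fin n) F) i j = (1 : Matrix (Fin n) (Fin n) F) i j)
            then (χ : GL (Fin n) F → ℂ) g else 0) = 0} := by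
  classical
  haveI : Nonempty (Fin n) := ⟨⟨0, by omega⟩⟩
  let V := Fin n → F
  have hfin : Module.finrank F V = n := Module.finrank_fin_fun F
  have h := Cfsg.Lib.Cuspidal.card_cusp_chars (F := F) (V := V) (by rw [hfin]; exact hn)
  rw [hfin, Nat.card_eq_fintype_card] at h
  refine h.trans ?_
  let e : GL (Fin n) F ≃* (Module.End F V)ˣ := Matrix.GeneralLinearGroup.toLin
  haveI : Finite (Cfsg.IrrCharacter (GL (Fin n) F)) := inferInstance
  refine Nat.card_le_card_of_injective
    (fun χ => ⟨⟨fun g => (χ.1.1 : (Module.End F V)ˣ → ℂ) (e g),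
      Cfsg.Lib.Chars.IsIrrCharacter.comp_mulEquiv χ.1.2 e⟩, ?_, ?_⟩) ?_
  · show (χ.1.1 : (Module.End F V)ˣ → ℂ) (e 1) = _
    rw [map_one]
    exact χ.2.1
  · intro m hm0 hmn
    let W₀ : Submodule F V :=
      { carrier := {v | ∀ i : Fin n, m ≤ i.val → v i = 0}
        zero_mem' := fun _ _ => rfl
        add_mem' := fun {a b} ha hb i hi => by
          show a i + b i = 0
          rw [ha i hi, hb i hi, add_zero]
        smul_mem' := fun c {a} ha i hi => by
          show c * a i = 0
          rw [ha i hi, mul_zero] }
    have h0 : W₀ ≠ ⊥ := by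
      intro hbot
      have hmem : (Pi.single (⟨0, by omega⟩ : Fin n) (1 : F) : V) ∈ W₀ := by
        intro i hi
        exact Pi.single_eq_of_ne (fun he => by subst he; simp at hi; omega) _
      rw [hbot, Submodule.mem_bot] at hmem
      exact one_ne_zero ((congrFun hmem ⟨0, by omega⟩).symm.trans (Pi.single_eq_same _ _)).symm
    have h1 : W₀ ≠ ⊤ := by
      intro htop
      have hmem : (Pi.single (⟨m, hmn⟩ : Fin n) (1 : F) : V) ∈ W₀ := htop ▸ Submodule.mem_top
      have := hmem ⟨m, hmn⟩ le_rfl
      rw [Pi.single_eq_same] at this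
      exact one_ne_zero this
    have hiff : ∀ g : GL (Fin n) F,
        (∀ i j : Fin n, ¬ (i.val < m ∧ m ≤ j.val) →
          (g : Matrix (Fin n) (Fin n) F) i j = (1 : Matrix (Fin n) (Fin n) F) i j) ↔
        ((e g : (Module.End F V)ˣ) : Module.End F V) - 1 ∈ Cfsg.Lib.Cuspidal.blockEnd W₀ := by
      intro g
      have happ : ∀ (x : V) (i : Fin n), (((e g : (Module.End F V)ˣ) : Module.End F V) - 1) x i =
          ∑ j, ((g : Matrix (Fin n) (Fin n) F) i j - (1 : Matrix (Fin n) (Fin n) F) i j) * x j := by
        intro x i
        rw [LinearMap.sub_apply, Module.End.one_apply, Pi.sub_apply,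
          show ((e g : (Module.End F V)ˣ) : Module.End F V) = Matrix.mulVecLin (g : Matrix (Fin n) (Fin n) F)
            from Matrix.GeneralLinearGroup.coe_toLin g]
        simp only [sub_mul, Finset.sum_sub_distrib, Matrix.one_apply, ite_mul, one_mul, zero_mul,
          Finset.sum_ite_eq, Finset.mem_univ, if_true]
        rfl
      rw [Cfsg.Lib.Cuspidal.mem_blockEnd]
      constructor
      · intro hg
        refine ⟨fun x hx => funext fun i => ?_, fun x i hi => ?_⟩
        · rw [happ]
          refine Finset.sum_eq_zero fun j _ => ?_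
          by_cases hc : i.val < m ∧ m ≤ j.val
          · rw [hx j hc.2, mul_zero]
          · rw [hg i j hc, sub_self, zero_mul]
        · rw [happ]
          exact Finset.sum_eq_zero fun j _ => by
            rw [hg i j (fun hc => by omega), sub_self, zero_mul]
      · intro hg i j hc
        have hcol : (((e g : (Module.End F V)ˣ) : Module.End F V) - 1) (Pi.single j 1) i = 0 := by
          by_cases hi : m ≤ i.val
          · exact hg.2 _ i hi
          · have hj : (Pi.single j (1 : F) : V) ∈ W₀ := fun k hk =>
              Pi.single_eq_of_ne (fun he => by subst he; omega) _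
            rw [hg.1 _ hj]
            rfl
        rw [happ, Finset.sum_eq_single j (fun k _ hk => by rw [Pi.single_eq_of_ne hk, mul_zero])
          (fun hk => absurd (Finset.mem_univ _) hk), Pi.single_eq_same, mul_one, sub_eq_zero] at hcol
        exact hcol
    refine Eq.trans ?_ (χ.2.2 W₀ h0 h1)
    rw [← Finset.sum_filter]
    refine Finset.sum_equiv e.toEquiv ?_ ?_
    · intro g
      rw [Finset.mem_filter, Finset.mem_filter]
      exact ⟨fun hg => ⟨@Finset.mem_univ _ (_) _, (hiff g).mp hg.2⟩,
        fun hg => ⟨@Finset.mem_univ _ (_) _, (hiff g).mpr hg.2⟩⟩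
    · intro g _
      rfl
  · intro a b hab
    refine Subtype.ext (Subtype.ext (funext fun g => ?_))
    have h' := congrFun (congrArg (fun z => z.1.1) hab) (e.symm g)
    simpa using h'

end Cfsg.Agent.S2442
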