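import Cfsg.Statements.S2450
import Cfsg.Agent.Known.SLTwo.Products

set_option autoImplicit false
open Cfsg

namespace Cfsg.Agent.S2450

/-- The Arad–Herzog conjecture for PSL(2,q): let F be a finite field with q ≥ 4 elements. For any two non-identity elements a, b of PSL(2,F), the set of products of a conjugate of a with a conjugate of b is not a single conjugacy class. -/
theorem result {F : Type*} [Field F] [Fintype F] (h4 : 4 ≤ Fintype.card F)
    (a b : Matrix.ProjectiveSpecialLinearGroup (Fin 2) F) (ha : a ≠ 1) (hb : b ≠ 1) (c : Matrix.ProjectiveSpecialLinearGroup (Fin 2) F) :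
    {g : Matrix.ProjectiveSpecialLinearGroup (Fin 2) F | ∃ u v : Matrix.ProjectiveSpecialLinearGroup (Fin 2) F, g = (u * a * u⁻¹) * (v * b * v⁻¹)} ≠ {g | IsConj c g} := by
  classical
  intro heq
  obtain ⟨A, rfl⟩ := QuotientGroup.mk'_surjective (Subgroup.center (Matrix.SpecialLinearGroup (Fin 2) F)) a
  obtain ⟨B, rfl⟩ := QuotientGroup.mk'_surjective (Subgroup.center (Matrix.SpecialLinearGroup (Fin 2) F)) b
  obtain ⟨C, rfl⟩ := QuotientGroup.mk'_surjective (Subgroup.center (Matrix.SpecialLinearGroup (Fin 2) F)) c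
  have hn : ∀ X : Matrix.SpecialLinearGroup (Fin 2) F, QuotientGroup.mk' (Subgroup.center _) X ≠ 1 → Cfsg.Lib.GLTwo.NonScalar (X : Matrix (Fin 2) (Fin 2) F) := fun X hX => by
    by_contra h
    exact hX ((QuotientGroup.eq_one_iff X).2 ((Cfsg.Lib.GLTwo.mem_center_iff X).2 h))
  obtain ⟨cA, hA⟩ := Cfsg.Lib.GLTwo.exists_conj_ne_zero (hn A ha)
  obtain ⟨cB, hB⟩ := Cfsg.Lib.GLTwo.exists_conj_ne_zero (hn B hb)
  obtain ⟨u, h1, h2⟩ := Cfsg.Lib.GLTwo.product_not_class h4 _ _ hA hB (C : Matrix (Fin 2) (Fin 2) F).trace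
  set X := u * (cA * A * cA⁻¹) * u⁻¹ * (cB * B * cB⁻¹) with hX
  have hmem : Cfsg.Lib.GLTwo.prj X ∈ {g : Matrix.ProjectiveSpecialLinearGroup (Fin 2) F | ∃ u v : Matrix.ProjectiveSpecialLinearGroup (Fin 2) F,
      g = (u * QuotientGroup.mk' _ A * u⁻¹) * (v * QuotientGroup.mk' _ B * v⁻¹)} := by
    refine ⟨Cfsg.Lib.GLTwo.prj (u * cA), Cfsg.Lib.GLTwo.prj cB, ?_⟩
    rw [hX, show u * (cA * A * cA⁻¹) * u⁻¹ * (cB * B * cB⁻¹) = (u * cA) * A * (u * cA)⁻¹ * (cB * B * cB⁻¹) by group]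
    simp only [map_mul, map_inv]
  rw [heq] at hmem
  obtain ⟨d, hd⟩ := isConj_iff.1 hmem
  obtain ⟨D, rfl⟩ := QuotientGroup.mk'_surjective (Subgroup.center (Matrix.SpecialLinearGroup (Fin 2) F)) d
  rw [← map_inv, ← map_mul, ← map_mul, ← mul_inv_eq_one, ← map_inv, ← map_mul, Cfsg.Lib.GLTwo.prj_eq_one_iff, mul_inv_eq_one, mul_inv_eq_iff_eq_mul (b := X)] at hd
  rcases hd with e | e
  · exact h1 (Cfsg.Lib.GLTwo.trace_eq_of_isConj (isConj_iff.2 ⟨D, e⟩)).symm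
  · refine h2 ?_
    have h := Cfsg.Lib.GLTwo.trace_eq_of_isConj (isConj_iff.2 ⟨D, e⟩)
    rw [neg_one_mul, Matrix.SpecialLinearGroup.coe_neg, Matrix.trace_neg] at h
    exact (neg_eq_iff_eq_neg.2 h).symm.trans rfl

end Cfsg.Agent.S2450
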