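import Cfsg.Statements.S2456
import Cfsg.Agent.Known.SLTwo.Products

set_option autoImplicit false
open Cfsg

namespace Cfsg.Agent.S2456

/-- A strong covering result in the direction of Thompson's conjecture (non-identity elements) for PSL(2,q), q even: let F be a finite field of characteristic 2 with q ≥ 4 elements and let x ∈ PSL(2,F) have order greater than 2 and not dividing q + 1. Then every non-identity element of PSL(2,F) is a product of two conjugates of x. -/
theorem result {F : Type*} [Field F] [Fintype F] [CharP F 2] (h4 : 4 ≤ Fintype.card F)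
    (x : Matrix.ProjectiveSpecialLinearGroup (Fin 2) F) (hx2 : 2 < orderOf x) (hxq : ¬ orderOf x ∣ Fintype.card F + 1) : ∀ g : Matrix.ProjectiveSpecialLinearGroup (Fin 2) F, g ≠ 1 → ∃ u v : Matrix.ProjectiveSpecialLinearGroup (Fin 2) F, g = (u * x * u⁻¹) * (v * x * v⁻¹) := by
  obtain ⟨s, rfl⟩ := QuotientGroup.mk'_surjective (Subgroup.center (Matrix.SpecialLinearGroup (Fin 2) F)) x
  have hns : Cfsg.Lib.GLTwo.NonScalar (s : Matrix (Fin 2) (Fin 2) F) := by
    by_contra h
    rw [(QuotientGroup.eq_one_iff s).2 ((Cfsg.Lib.GLTwo.mem_center_iff s).2 h) |> fun e => (show QuotientGroup.mk' _ s = 1 from e), orderOf_one] at hx2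
    omega
  have ht0 : (s : Matrix (Fin 2) (Fin 2) F).trace ≠ 0 := by
    intro ht
    have hsq : s * s = -1 := by
      refine Subtype.ext ?_
      rw [Matrix.trace_fin_two] at ht
      have hd := (Matrix.det_fin_two (s : Matrix (Fin 2) (Fin 2) F)).symm.trans s.2
      rw [Matrix.SpecialLinearGroup.coe_mul, Matrix.SpecialLinearGroup.coe_neg, Matrix.SpecialLinearGroup.coe_one]
      ext i j; fin_cases i <;> fin_cases j <;> simp [Matrix.mul_apply, Fin.sum_univ_two]
      · linear_combination ((s : Matrix (Fin 2) (Fin 2) F) 0 0) * ht - hd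
      · linear_combination ((s : Matrix (Fin 2) (Fin 2) F) 0 1) * ht
      · linear_combination ((s : Matrix (Fin 2) (Fin 2) F) 1 0) * ht
      · linear_combination ((s : Matrix (Fin 2) (Fin 2) F) 1 1) * ht - hd
    have h1 : (Cfsg.Lib.GLTwo.prj s) ^ 2 = 1 := by
      rw [← map_pow, sq, hsq, Cfsg.Lib.GLTwo.prj_eq_one_iff]; exact .inr rfl
    have : orderOf (QuotientGroup.mk' (Subgroup.center (Matrix.SpecialLinearGroup (Fin 2) F)) s) ≤ 2 := Nat.le_of_dvd two_pos (orderOf_dvd_of_pow_eq_one h1)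
    omega
  have h2 : (2 : F) = 0 := CharTwo.two_eq_zero
  refine Cfsg.Lib.GLTwo.covers hns ht0 (fun r hr e => ht0 (by rw [e]; exact CharTwo.add_self_eq_zero r)) (fun _ => ?_)
  rcases Cfsg.Lib.GLTwo.kinds hns with ⟨-, hc⟩ | ⟨⟨r, r', -, ht, hd⟩, -⟩ | ⟨⟨r, -, ht⟩, -⟩
  · exfalso
    refine hxq ((orderOf_map_dvd (QuotientGroup.mk' _) s).trans (hc ▸ ?_))
    exact orderOf_dvd_of_pow_eq_one (Cfsg.Lib.GLTwo.pow_card_cent s)
  · exact ⟨r, by rw [ht]; linear_combination hd⟩
  · exact absurd (by rw [ht]; exact CharTwo.add_self_eq_zero r) ht0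

end Cfsg.Agent.S2456
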