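import Cfsg.Statements.S2457
import Cfsg.Agent.Suz.Lie
import Cfsg.Agent.Suz.Cover.Bounds
import Cfsg.Agent.Suz.Cover.Unipotent
import Cfsg.Agent.Suz.Cover.Eight

set_option autoImplicit false
open Cfsg

namespace Cfsg.Agent.S2457

open Cfsg.Lib.Suz Cfsg.Lib.Suz.Cover

/-- The covering statement for the stabiliser model. -/
theorem covers {F : Type*} [Field F] [Fintype F] {m : ℕ} (Q : Par F m) {x : Cfsg.Sz F m} (hx2 : 2 < orderOf x)
    {g : Cfsg.Sz F m} (hg1 : g ≠ 1) : ∃ u v : Cfsg.Sz F m, g = (u * x * u⁻¹) * (v * x * v⁻¹) := by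
  classical
  haveI : Fintype (Cfsg.Sz F m) := Fintype.ofFinite _
  obtain ⟨St, X, hK⟩ := exists_knownData Q
  have conjx : ∀ (c : Cfsg.Sz F m), (∃ u v : Cfsg.Sz F m, g = (u * (c * x * c⁻¹) * u⁻¹) * (v * (c * x * c⁻¹) * v⁻¹)) →
      ∃ u v : Cfsg.Sz F m, g = (u * x * u⁻¹) * (v * x * v⁻¹) := by
    rintro c ⟨u, v, h⟩
    exact ⟨u * c, v * c, by rw [h]; group⟩
  have conjg : ∀ (d x' : Cfsg.Sz F m), (∃ u v : Cfsg.Sz F m, d * g * d⁻¹ = (u * x' * u⁻¹) * (v * x' * v⁻¹)) →
      ∃ u v : Cfsg.Sz F m, g = (u * x' * u⁻¹) * (v * x' * v⁻¹) := by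
    rintro d x' ⟨u, v, h⟩
    refine ⟨d⁻¹ * u, d⁻¹ * v, ?_⟩
    calc g = d⁻¹ * (d * g * d⁻¹) * d := by group
      _ = _ := by rw [h]; group
  have hx1 : x ≠ 1 := fun h => by rw [h, orderOf_one] at hx2; omega
  rcases elt_split Q hx1 with ⟨c, hc⟩ | ⟨c, k, hk, e⟩ | hf
  · obtain ⟨a, b, e⟩ := exists_uu Q hc
    have ha : a ≠ 0 := by
      rintro rfl
      have h2 : (c * x * c⁻¹) ^ 2 = 1 := by rw [e, uu_sq, zero_pow (Nat.succ_ne_zero _), uu_zero]
      rw [conj_pow, mul_inv_eq_one, mul_eq_left] at h2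
      have := Nat.le_of_dvd two_pos (orderOf_dvd_of_pow_eq_one h2)
      omega
    refine conjx c ?_
    rw [e]
    rcases elt_split Q hg1 with ⟨d, hd⟩ | ⟨d, k, hk, ek⟩ | hgf
    · exact conjg d _ (cover_unipotent Q ha b hd (fun h => hg1 (by rwa [mul_inv_eq_one, mul_eq_left] at h)))
    · exact conjg d _ (ek ▸ cover_four_hI Q hK ha b hk)
    · rcases Nat.lt_or_ge m 2 with hm | hm
      · obtain rfl : m = 1 := by have := Q.hm; omega
        exact Eight.cover_four Q ha b hgf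
      · exact cover_four_free Q hK hm ha b hgf
  · refine conjx c ?_
    rw [e]
    exact cover_hI Q hK hk hg1
  · rcases elt_split Q hg1 with ⟨d, hd⟩ | ⟨d, k, hk, ek⟩ | hgf
    · have hnf : ¬ Free Q g := by
        intro h
        obtain ⟨a, b, e⟩ := exists_uu Q hd
        refine free_conj Q d h _ (inf_mem m) ?_
        rw [e]
        exact T_inf m a b
      rcases Nat.lt_or_ge m 2 with hm | hm
      · obtain rfl : m = 1 := by have := Q.hm; omega
        exact Eight.cover_free Q hf (Or.inr ⟨d, hd⟩) hg1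
      · exact cover_free_unipotent Q hK hm hf hnf hg1
    · exact conjg d _ (ek ▸ cover_free_hI Q hK hf hk)
    · rcases Nat.lt_or_ge m 2 with hm | hm
      · obtain rfl : m = 1 := by have := Q.hm; omega
        exact Eight.cover_free Q hf (Or.inl hgf) hg1
      · exact cover_free_free Q hK hm hf hgf

/-- A strong covering result in the direction of Thompson's conjecture (non-identity elements) for the Suzuki groups: let q = 2^(2m+1) ≥ 8, F the field with q elements and Sz(q) the Suzuki group over F. For every element x of Sz(q) of order greater than 2, every non-identity element of Sz(q) is a product of two conjugates of x. -/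
theorem result {F : Type*} [Field F] [Fintype F] (m : ℕ) (hm : 1 ≤ m) (hF : Fintype.card F = 2 ^ (2 * m + 1))
    (x : Cfsg.Lie.Sz F (2 ^ (m + 1))) (hx2 : 2 < orderOf x) : ∀ g : Cfsg.Lie.Sz F (2 ^ (m + 1)), g ≠ 1 → ∃ u v : Cfsg.Lie.Sz F (2 ^ (m + 1)), g = (u * x * u⁻¹) * (v * x * v⁻¹) := by
  intro g hg
  have Q : Cfsg.Lib.Suz.Par F m := ⟨hm, hF⟩
  set e := Cfsg.Lib.Suz.lieEquiv Q
  obtain ⟨u, v, h⟩ := covers Q (x := e.symm x) (by rw [MulEquiv.orderOf_eq]; exact hx2) (g := e.symm g)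
    (fun h => hg (e.symm.injective (h.trans (map_one _).symm)))
  refine ⟨e u, e v, ?_⟩
  have h' := congrArg e h
  simpa using h'

end Cfsg.Agent.S2457
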