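import Cfsg.Statements.S2459
import Cfsg.Agent.Classical.Misc.CoveringSLThreeF3
-- import your own Cfsg.Agent.* helpers here

set_option autoImplicit false
open Cfsg

namespace Cfsg.Agent.S2459

/-- A form of Thompson's conjecture for PSL(3,q), q > 2 (covering the non-identity elements), with a semisimple class: for F a finite field of characteristic p with more than 2 elements there is an element x of PSL(3,F) of order prime to p such that every non-identity element of PSL(3,F) is a product of two conjugates of x. -/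
theorem result {F : Type*} [Field F] [Fintype F] (p : ℕ) [Fact p.Prime] [CharP F p] (h3 : 3 ≤ Fintype.card F) :
    ∃ x : Matrix.ProjectiveSpecialLinearGroup (Fin 3) F, ¬ p ∣ orderOf x ∧ ∀ g : Matrix.ProjectiveSpecialLinearGroup (Fin 3) F, g ≠ 1 → ∃ u v : Matrix.ProjectiveSpecialLinearGroup (Fin 3) F, g = (u * x * u⁻¹) * (v * x * v⁻¹) := by
  classical
  suffices h : ∃ x : Matrix.SpecialLinearGroup (Fin 3) F, (∃ k : ℕ, ¬ p ∣ k ∧ x ^ k = 1) ∧
      ∀ g : Matrix.SpecialLinearGroup (Fin 3) F, (¬ ∃ c : F, (g : Matrix (Fin 3) (Fin 3) F) = c • 1) →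
        ∃ u v : Matrix.SpecialLinearGroup (Fin 3) F, g = (u * x * u⁻¹) * (v * x * v⁻¹) by
    obtain ⟨x, ⟨k, hk, hxk⟩, hcov⟩ := h
    refine ⟨QuotientGroup.mk x, fun hd => hk (hd.trans (orderOf_dvd_of_pow_eq_one ?_)), fun g hg => ?_⟩
    · rw [← QuotientGroup.mk_pow, hxk]; rfl
    · obtain ⟨G, rfl⟩ := QuotientGroup.mk_surjective g
      have hns : ¬ ∃ c : F, (G : Matrix (Fin 3) (Fin 3) F) = c • 1 := by
        rintro ⟨c, hc⟩
        apply hg
        rw [QuotientGroup.eq_one_iff, Matrix.SpecialLinearGroup.mem_center_iff]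
        refine ⟨c, ?_, by rw [hc, Matrix.scalar_apply, Matrix.smul_one_eq_diagonal]⟩
        have := G.2
        rw [hc, Matrix.det_smul, Matrix.det_one, mul_one] at this
        exact this
      obtain ⟨u, v, e⟩ := hcov G hns
      exact ⟨QuotientGroup.mk u, QuotientGroup.mk v, by rw [e]; rfl⟩
  rcases (show Fintype.card F = 3 ∨ 4 ≤ Fintype.card F by omega) with h | h
  · haveI : Fact (Nat.Prime 3) := ⟨by norm_num⟩
    have hp3 : p = 3 := by
      obtain ⟨m, -, hm⟩ := FiniteField.card F p
      rw [h] at hm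
      exact (Nat.prime_dvd_prime_iff_eq Fact.out (by norm_num)).1 (hm ▸ dvd_pow_self p m.pos.ne')
    subst hp3
    let φ : ZMod 3 →+* F := ZMod.castHom (dvd_refl 3) F
    have hinj : Function.Injective φ := φ.injective
    have hbij : Function.Bijective φ :=
      (Fintype.bijective_iff_injective_and_card φ).2 ⟨hinj, by rw [ZMod.card, h]⟩
    let x₁ : Matrix.SpecialLinearGroup (Fin 3) (ZMod 3) :=
      ⟨Cfsg.Lib.CoveringSLThreeF3.x0, Cfsg.Lib.CoveringSLThreeF3.x0_facts.1⟩
    have hx13 : x₁ ^ 13 = 1 := by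
      apply Subtype.ext
      rw [Matrix.SpecialLinearGroup.coe_pow]
      exact Cfsg.Lib.CoveringSLThreeF3.x0_facts.2.1
    refine ⟨Matrix.SpecialLinearGroup.map φ x₁, ⟨13, by norm_num, by rw [← map_pow, hx13, map_one]⟩, fun g hg => ?_⟩
    obtain ⟨g₁, rfl⟩ : ∃ g₁, Matrix.SpecialLinearGroup.map φ g₁ = g := by
      choose pre hpre using hbij.2
      refine ⟨⟨(g : Matrix (Fin 3) (Fin 3) F).map pre, hinj ?_⟩, ?_⟩
      · rw [RingHom.map_det, RingHom.mapMatrix_apply, Matrix.map_map]
        refine Eq.trans ?_ ((map_one φ).symm)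
        rw [show (φ ∘ pre) = id from funext hpre, Matrix.map_id]
        exact g.2
      · apply Subtype.ext
        ext i j
        exact hpre _
    have hns : ¬ ∃ c : ZMod 3, (g₁ : Matrix (Fin 3) (Fin 3) (ZMod 3)) = c • 1 := by
      rintro ⟨c, hc⟩
      refine hg ⟨φ c, ?_⟩
      ext i j
      show φ ((g₁ : Matrix (Fin 3) (Fin 3) (ZMod 3)) i j) = _
      rw [hc]
      by_cases hij : i = j
      · subst hij; simp
      · simp [hij]
    obtain ⟨u, v, e⟩ := Cfsg.Lib.CoveringSLThreeF3.product_of_two g₁ hns x₁ rfl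
    exact ⟨Matrix.SpecialLinearGroup.map φ u, Matrix.SpecialLinearGroup.map φ v,
      by rw [e, map_mul, map_mul, map_mul, map_mul, map_mul, map_inv, map_inv]⟩
  · obtain ⟨c, hc⟩ : ∃ c : F, c ∉ ({0, 1, -1} : Finset F) := by
      by_contra hne
      push Not at hne
      have h1 : Fintype.card F ≤ ({0, 1, -1} : Finset F).card :=
        Finset.card_le_card (s := Finset.univ) fun a _ => hne a
      have h2 := Finset.card_le_three (a := (0 : F)) (b := 1) (c := -1)
      omega
    simp only [Finset.mem_insert, Finset.mem_singleton, not_or] at hc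
    obtain ⟨h0, h1, h2⟩ := hc
    have hci : c ≠ c⁻¹ := fun e => by
      have h3 : c * c = 1 := by nth_rewrite 2 [e]; exact mul_inv_cancel₀ h0
      rcases mul_self_eq_one_iff.1 h3 with e1 | e1
      · exact h1 e1
      · exact h2 e1
    have hrst : c * c⁻¹ * 1 = 1 := by rw [mul_one, mul_inv_cancel₀ h0]
    let x : Matrix.SpecialLinearGroup (Fin 3) F :=
      ⟨Matrix.diagonal ![c, c⁻¹, 1], by rw [Matrix.det_diagonal, Fin.prod_univ_three]; exact hrst⟩
    refine ⟨x, ⟨Fintype.card F - 1, fun hd => ?_, ?_⟩, fun g hg =>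
      Cfsg.Lib.CoveringSLThree.product_of_two hrst hci (fun e => h1 (inv_eq_one.1 e)) h1 x g rfl hg⟩
    · obtain ⟨m, -, hm⟩ := FiniteField.card F p
      have h3 : p ∣ Fintype.card F := hm ▸ dvd_pow_self p m.pos.ne'
      have h4 := Nat.dvd_sub h3 hd
      rw [Nat.sub_sub_self Fintype.card_pos] at h4
      exact (Fact.out : p.Prime).not_dvd_one h4
    · apply Subtype.ext
      rw [Matrix.SpecialLinearGroup.coe_pow]
      show Matrix.diagonal ![c, c⁻¹, 1] ^ (Fintype.card F - 1) = 1
      rw [Matrix.diagonal_pow, ← Matrix.diagonal_one]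
      congr 1
      funext i
      fin_cases i <;> simp [FiniteField.pow_card_sub_one_eq_one, h0]

end Cfsg.Agent.S2459
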