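import Cfsg.Statements.S2470
import Cfsg.Agent.S2364
import Cfsg.Agent.Classical.Misc.CommutingUnipotent
import Cfsg.Agent.Classical.Misc.PrimeGraphChar

set_option autoImplicit false
open Cfsg

namespace Cfsg.Agent.S2470

open Cfsg.Lib.PrimeGraphChar

theorem transvection_pow {F : Type*} [Field F] {n : ℕ} (i j : Fin n) (hij : i ≠ j) (k : ℕ) :
    (Matrix.transvection i j (1 : F)) ^ k = Matrix.transvection i j (k : F) := by
  induction k with
  | zero => rw [pow_zero, Nat.cast_zero, Matrix.transvection_zero]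
  | succ k ih => rw [pow_succ, ih, Matrix.transvection_mul_transvection_same i j hij, Nat.cast_succ]

theorem exists_transvection {F : Type*} [Field F] {n : ℕ} (p : ℕ) [CharP F p] (i j : Fin n) (hij : i ≠ j) :
    ∃ T : Matrix.SpecialLinearGroup (Fin n) F, (T : Matrix (Fin n) (Fin n) F) = Matrix.transvection i j 1 ∧
      T ^ p = 1 ∧ T ≠ 1 ∧ ∀ l, (T : Matrix (Fin n) (Fin n) F) l l = 1 := by
  obtain ⟨T, hT⟩ : ∃ T : Matrix.SpecialLinearGroup (Fin n) F, (T : Matrix (Fin n) (Fin n) F) = Matrix.transvection i j 1 :=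
    ⟨⟨Matrix.transvection i j 1, Matrix.det_transvection_of_ne i j hij 1⟩, rfl⟩
  refine ⟨T, hT, ?_, ?_, fun l => ?_⟩
  · apply Subtype.ext
    rw [Matrix.SpecialLinearGroup.coe_pow, Matrix.SpecialLinearGroup.coe_one, hT, transvection_pow i j hij p,
      CharP.cast_eq_zero, Matrix.transvection_zero]
  · intro h
    have h1 := congrFun (congrFun (congrArg Subtype.val h) i) j
    rw [hT] at h1
    simp [Matrix.transvection, Matrix.one_apply, hij] at h1
  · rw [hT]
    have : ¬ (i = l ∧ j = l) := fun h => hij (h.1.trans h.2.symm)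
    simp [Matrix.transvection, Matrix.single_apply, this]

theorem order_mul {G : Type*} [Group G] {x y : G} {r p : ℕ} (hr : r.Prime) (hp : p.Prime) (hrp : r ≠ p)
    (hxy : Commute x y) (hx : x ^ r = 1) (hx1 : x ≠ 1) (hy : y ^ p = 1) (hy1 : y ≠ 1) :
    orderOf (x * y) = r * p := by
  haveI := Fact.mk hr
  haveI := Fact.mk hp
  rw [hxy.orderOf_mul_eq_mul_orderOf_of_coprime, orderOf_eq_prime hx hx1, orderOf_eq_prime hy hy1]
  rw [orderOf_eq_prime hx hx1, orderOf_eq_prime hy hy1]
  exact (Nat.coprime_primes hr hp).2 hrp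

theorem exists_pow_of_dvd_SL {F : Type*} [Field F] [Fintype F] {m r : ℕ} (hm : 1 ≤ m) (hr : r.Prime)
    (hrq : ¬ r ∣ Fintype.card F) (h : r ∣ Nat.card (Matrix.SpecialLinearGroup (Fin m) F)) :
    ∃ i, 1 ≤ i ∧ i ≤ m ∧ r ∣ Fintype.card F ^ i - 1 := by
  have h1 : r ∣ ∏ i : Fin m, (Fintype.card F ^ m - Fintype.card F ^ (i : ℕ)) := by
    rw [← Cfsg.Lib.Classical.card_SL_mul_eq_prod hm]; exact h.trans (dvd_mul_left _ _)
  obtain ⟨i, -, hi⟩ := (Prime.dvd_finsetProd_iff hr.prime _).1 h1
  rw [Cfsg.Lib.CommUnipotent.pow_sub_pow' _ i.isLt.le] at hi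
  rcases hr.dvd_mul.1 hi with h2 | h2
  · exact absurd (hr.dvd_of_dvd_pow h2) hrq
  · exact ⟨m - i, by omega, by omega, h2⟩

/-- Adjacency of an odd prime and the characteristic in the prime graph of PSL(n,q): let F be a finite field of characteristic p with q elements, n ≥ 2 with PSL(n,F) simple, and let r ≠ p be an odd prime dividing the order of PSL(n,F), with k the multiplicative order of q modulo r. Then PSL(n,F) has NO element of order r·p if and only if either k > n − 2, or n = 3, r = 3 and 3 divides q − 1 exactly once. -/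
theorem result {F : Type*} [Field F] [Fintype F] (p : ℕ) [Fact p.Prime] [CharP F p] (n : ℕ) (hn : 2 ≤ n) (hsmall : n = 2 → 4 ≤ Fintype.card F)
    (r : ℕ) (hr : r.Prime) (hr2 : r ≠ 2) (hrp : r ≠ p) (hrG : r ∣ Nat.card (Matrix.ProjectiveSpecialLinearGroup (Fin n) F))
    (k : ℕ) (hk : k = orderOf ((Fintype.card F : ℕ) : ZMod r)) :
    (r * p ∉ Set.range (orderOf : Matrix.ProjectiveSpecialLinearGroup (Fin n) F → ℕ)) ↔
      (n - 2 < k ∨ (n = 3 ∧ r = 3 ∧ 3 ∣ Fintype.card F - 1 ∧ ¬ 9 ∣ Fintype.card F - 1)) := by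
  classical
  haveI := Fact.mk hr
  have hp : p.Prime := Fact.out
  haveI : Nonempty (Fin n) := ⟨⟨0, by omega⟩⟩
  have hrq : ¬ r ∣ Fintype.card F := by
    obtain ⟨j, -, hj⟩ := FiniteField.card F p
    rw [hj]
    exact fun hd => hrp ((Nat.prime_dvd_prime_iff_eq hr hp).1 (hr.dvd_of_dvd_pow hd))
  have hq1 : 1 ≤ Fintype.card F := Fintype.card_pos
  have hdvd : ∀ i, r ∣ Fintype.card F ^ i - 1 ↔ k ∣ i := fun i => by
    rw [hk, orderOf_dvd_iff_pow_eq_one, ← ZMod.natCast_eq_zero_iff,
      Nat.cast_sub (Nat.one_le_pow i _ hq1), Nat.cast_pow, Nat.cast_one, sub_eq_zero]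
  have hk0 : 0 < k := by
    refine Nat.pos_of_ne_zero fun h0 => ?_
    have h1 : ((Fintype.card F : ℕ) : ZMod r) ^ (r - 1) = 1 :=
      ZMod.pow_card_sub_one_eq_one fun e => hrq ((ZMod.natCast_eq_zero_iff _ r).1 e)
    have h2 := orderOf_dvd_of_pow_eq_one h1
    rw [← hk, h0, zero_dvd_iff] at h2
    have := hr.two_le
    omega
  constructor
  · -- existence
    intro hno
    by_contra hc
    push Not at hc
    obtain ⟨hkn, h3⟩ := hc
    apply hno
    rcases Nat.lt_or_ge n 4 with hlt | h4
    · have hn3 : n = 3 := by omega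
      subst hn3
      have hk1 : k = 1 := by omega
      have hr1 : r ∣ Fintype.card F - 1 := by have := (hdvd 1).2 (hk1 ▸ dvd_rfl); rwa [pow_one] at this
      obtain ⟨g, hg⟩ := IsCyclic.exists_ofOrder_eq_natCard (α := Fˣ)
      rw [Nat.card_units, Nat.card_eq_fintype_card] at hg
      obtain ⟨a, ha3, haz⟩ : ∃ a : Fˣ, a ^ 3 ≠ 1 ∧ (a ^ r = 1 ∨ (r = 3 ∧ a ^ 9 = 1)) := by
        by_cases hr3 : r = 3
        · subst hr3
          refine ⟨g ^ (orderOf g / 9), ?_, Or.inr ⟨rfl, ?_⟩⟩
          all_goals
            have h9 : orderOf (g ^ (orderOf g / 9)) = 9 :=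
              orderOf_pow_orderOf_div (orderOf_pos g).ne' (hg ▸ h3 rfl rfl hr1)
          · intro h
            have := orderOf_dvd_of_pow_eq_one h
            rw [h9] at this
            norm_num at this
          · have h := pow_orderOf_eq_one (g ^ (orderOf g / 9))
            rwa [h9] at h
        · have ho : orderOf (g ^ (orderOf g / r)) = r := orderOf_pow_orderOf_div (orderOf_pos g).ne' (hg ▸ hr1)
          refine ⟨g ^ (orderOf g / r), fun h => ?_, Or.inl (by
            have h := pow_orderOf_eq_one (g ^ (orderOf g / r))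
            rwa [ho] at h)⟩
          have := orderOf_dvd_of_pow_eq_one h
          rw [ho] at this
          exact hr3 ((Nat.prime_dvd_prime_iff_eq hr Nat.prime_three).1 this)
      have ha0 : (a : F) ≠ 0 := a.ne_zero
      let d : Fin 3 → F := ![(a : F), a, ((a : F) ^ 2)⁻¹]
      let D : Matrix.SpecialLinearGroup (Fin 3) F := ⟨Matrix.diagonal d, by
        rw [Matrix.det_diagonal, Fin.prod_univ_three]
        simp [d]; field_simp⟩
      have hD : D ^ r ∈ Subgroup.center (Matrix.SpecialLinearGroup (Fin 3) F) := by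
        rw [Matrix.SpecialLinearGroup.mem_center_iff]
        refine ⟨(a : F) ^ r, ?_, ?_⟩
        · rw [Fintype.card_fin, ← pow_mul]
          rcases haz with h | ⟨rfl, h⟩
          · rw [pow_mul, ← Units.val_pow_eq_pow_val, h, Units.val_one, one_pow]
          · rw [show 3 * 3 = 9 from rfl, ← Units.val_pow_eq_pow_val, h, Units.val_one]
        · rw [Matrix.SpecialLinearGroup.coe_pow]
          change Matrix.scalar (Fin 3) ((a : F) ^ r) = Matrix.diagonal d ^ r
          rw [Matrix.diagonal_pow, Matrix.scalar_apply]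
          congr 1
          funext l
          have key : (((a : F) ^ 2)⁻¹) ^ r = (a : F) ^ r := by
            rw [inv_pow]
            symm
            apply eq_inv_of_mul_eq_one_left
            rw [← pow_mul, ← pow_add]
            rcases haz with h | ⟨rfl, h⟩
            · rw [show r + 2 * r = r * 3 by ring, pow_mul, ← Units.val_pow_eq_pow_val, h, Units.val_one, one_pow]
            · rw [show 3 + 2 * 3 = 9 from rfl, ← Units.val_pow_eq_pow_val, h, Units.val_one]
          fin_cases l <;> simp [d, key]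
      obtain ⟨T, hT, hTp, hT1, hTd⟩ := exists_transvection (F := F) p (0 : Fin 3) 1 (by decide)
      have hcomm : Commute D T := by
        apply Subtype.ext
        rw [Matrix.SpecialLinearGroup.coe_mul, Matrix.SpecialLinearGroup.coe_mul, hT]
        change Matrix.diagonal d * _ = _ * Matrix.diagonal d
        ext i j
        rw [Matrix.diagonal_mul, Matrix.mul_diagonal]
        fin_cases i <;> fin_cases j <;> simp [d, Matrix.transvection]
      refine ⟨QuotientGroup.mk' _ D * QuotientGroup.mk' _ T, ?_⟩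
      refine order_mul hr hp hrp (hcomm.map _) ?_ ?_ (by rw [← map_pow, hTp, map_one]) (mk_ne_one hT1 0 (hTd 0))
      · rw [← map_pow]; exact (QuotientGroup.eq_one_iff _).2 hD
      · intro h
        rw [QuotientGroup.mk'_apply, QuotientGroup.eq_one_iff, Matrix.SpecialLinearGroup.mem_center_iff] at h
        obtain ⟨c, -, hc⟩ := h
        have e0 := congrFun (congrFun hc 0) 0
        have e2 := congrFun (congrFun hc 2) 2
        simp [D, d] at e0 e2
        apply ha3
        apply Units.ext
        rw [Units.val_pow_eq_pow_val, Units.val_one]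
        have e3 : (a : F) * (a : F) ^ 2 = 1 := by
          have e4 : (a : F) = ((a : F) ^ 2)⁻¹ := e0.symm.trans e2
          nth_rw 1 [e4]
          field_simp
        linear_combination e3
    · obtain ⟨m, rfl⟩ : ∃ m, n = m + 2 := ⟨n - 2, by omega⟩
      haveI : Nonempty (Fin m) := ⟨⟨0, by omega⟩⟩
      have hm : r ∣ Nat.card (Matrix.SpecialLinearGroup (Fin m) F) := by
        by_contra hno'
        exact Cfsg.Lib.CommUnipotent.not_dvd_pow_sub_one (by omega) hr hno' k hk0 (by omega) ((hdvd k).2 dvd_rfl)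
      obtain ⟨x, hx⟩ := exists_prime_orderOf_dvd_card' r hm
      obtain ⟨T, -, hTp, hT1, -⟩ := exists_transvection (F := F) p (0 : Fin 2) 1 (by decide)
      have hx1 : x ≠ 1 := fun h => by rw [h, orderOf_one] at hx; exact hr.one_lt.ne hx
      refine ⟨QuotientGroup.mk' _ (blockHom F m 2 (x, 1)) * QuotientGroup.mk' _ (blockHom F m 2 (1, T)), ?_⟩
      refine order_mul hr hp hrp ((((Commute.one_right x).prod (Commute.one_left T)).map (blockHom F m 2)).map _)
        ?_ ?_ ?_ ?_
      · rw [← map_pow, ← map_pow, Prod.pow_mk, ← hx, pow_orderOf_eq_one, one_pow, Prod.mk_one_one, map_one, map_one]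
      · refine mk_ne_one (fun h => hx1 (congrArg Prod.fst (blockHom_injective F m 2 (h.trans (map_one _).symm))))
          (finSumFinEquiv (Sum.inr (0 : Fin 2))) ?_
        change (Matrix.fromBlocks (x : Matrix (Fin m) (Fin m) F) 0 0 1).submatrix _ _ _ _ = 1
        rw [Matrix.submatrix_apply, Equiv.symm_apply_apply, Matrix.fromBlocks_apply₂₂, Matrix.one_apply_eq]
      · rw [← map_pow, ← map_pow, Prod.pow_mk, hTp, one_pow, Prod.mk_one_one, map_one, map_one]
      · refine mk_ne_one (fun h => hT1 (congrArg Prod.snd (blockHom_injective F m 2 (h.trans (map_one _).symm))))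
          (finSumFinEquiv (Sum.inl (⟨0, by omega⟩ : Fin m))) ?_
        change (Matrix.fromBlocks 1 0 0 (T : Matrix (Fin 2) (Fin 2) F)).submatrix _ _ _ _ = 1
        rw [Matrix.submatrix_apply, Equiv.symm_apply_apply, Matrix.fromBlocks_apply₁₁, Matrix.one_apply_eq]
  · -- no such element
    rintro hcond ⟨g, hg⟩
    have ha : orderOf (g ^ r) = p := by
      rw [orderOf_pow' g hr.ne_zero, hg, Nat.gcd_mul_right_left, Nat.mul_div_cancel_left _ hr.pos]
    have hb : orderOf (g ^ p) = r := by
      rw [orderOf_pow' g hp.ne_zero, hg, Nat.gcd_mul_left_left, Nat.mul_div_cancel _ hp.pos]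
    have hab : Commute (g ^ r) (g ^ p) := (Commute.refl g).pow_pow _ _
    rcases Nat.lt_or_ge n 4 with hlt | h4
    swap
    · have h := Cfsg.Agent.S2364.result p n h4 _ _ ha hab
        (Nat.mem_primeFactors.2 ⟨hr, hb.symm ▸ dvd_rfl, (orderOf_pos _).ne'⟩)
      obtain ⟨i, hi1, hi2, hi⟩ := exists_pow_of_dvd_SL (by omega) hr hrq (Nat.mem_primeFactors.1 h).2.1
      rcases hcond with h | ⟨h, -⟩
      · have := Nat.le_of_dvd hi1 ((hdvd i).1 hi); omega
      · omega
    obtain ⟨A, hA, hAo⟩ := exists_lift hp (coprime_center (p := p)) _ ha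
    have hAp : A ^ p = 1 := by rw [← hAo, pow_orderOf_eq_one]
    have hN : (A : Matrix (Fin n) (Fin n) F) - 1 ≠ 0 := by
      intro h0
      rw [show A = 1 from Subtype.ext (sub_eq_zero.1 h0), orderOf_one] at hAo
      exact hp.one_lt.ne hAo
    have hnil : IsNilpotent ((A : Matrix (Fin n) (Fin n) F) - 1) := ⟨p, by
      rw [sub_pow_char_of_commute p (Commute.one_right _), ← Matrix.SpecialLinearGroup.coe_pow, hAp,
        Matrix.SpecialLinearGroup.coe_one, one_pow, sub_self]⟩
    have done : ∀ B : Matrix.SpecialLinearGroup (Fin n) F, (B : Matrix.ProjectiveSpecialLinearGroup (Fin n) F) = g ^ p →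
        B ^ p ^ 2 ∈ Subgroup.center (Matrix.SpecialLinearGroup (Fin n) F) → False := by
      intro B hB hc
      have h1 : (g ^ p) ^ p ^ 2 = 1 := by rw [← hB, ← QuotientGroup.mk_pow]; exact (QuotientGroup.eq_one_iff _).2 hc
      have h2 := orderOf_dvd_of_pow_eq_one h1
      rw [hb] at h2
      exact hrp ((Nat.prime_dvd_prime_iff_eq hr hp).1 (hr.dvd_of_dvd_pow h2))
    have hcomB : ∀ B : Matrix.SpecialLinearGroup (Fin n) F, (B : Matrix.ProjectiveSpecialLinearGroup (Fin n) F) = g ^ p →
        Commute (B : Matrix (Fin n) (Fin n) F) ((A : Matrix (Fin n) (Fin n) F) - 1) := fun B hB =>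
      Commute.sub_right (congrArg Subtype.val (commute_of_mk (p := p) hAp (by rw [hA, hB]; exact hab)).symm.eq)
        (Commute.one_right _)
    have hp2 := hp.two_le
    have hpsq : n ≤ p ^ 2 := by nlinarith
    interval_cases n
    · have hZ : ¬ r ∣ Nat.card (Subgroup.center (Matrix.SpecialLinearGroup (Fin 2) F)) := by
        rw [Cfsg.Lib.Classical.card_center_SL, Fintype.card_fin]
        intro hd
        exact hr2 ((Nat.prime_dvd_prime_iff_eq hr Nat.prime_two).1 (hd.trans (Nat.gcd_dvd_left _ _)))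
      obtain ⟨B, hB, hBo⟩ := exists_lift hr hZ _ hb
      have h := dim_two (hr.odd_of_ne_two hr2) B (by rw [← hBo, pow_orderOf_eq_one]) _ (hcomB B hB) hN hnil
      exact done B hB (central_pow hpsq B 1 h)
    · rcases hcond with hk1 | ⟨-, rfl, h31, h91⟩
      · have hr1 : ∀ i, 1 ≤ i → i ≤ 3 - 2 → ¬ r ∣ Fintype.card F ^ i - 1 := fun i hi1 hi2 hd => by
          have := Nat.le_of_dvd hi1 ((hdvd i).1 hd); omega
        have hZ : ¬ r ∣ Nat.card (Subgroup.center (Matrix.SpecialLinearGroup (Fin 3) F)) := by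
          rw [Cfsg.Lib.Classical.card_center_SL, Nat.card_eq_fintype_card]
          intro hd
          exact hr1 1 le_rfl le_rfl (by rw [pow_one]; exact hd.trans (Nat.gcd_dvd_right _ _))
        obtain ⟨B, hB, hBo⟩ := exists_lift hr hZ _ hb
        let e : Matrix (Fin 3) (Fin 3) F ≃ₐ[F] Module.End F (Fin 3 → F) := Matrix.toLinAlgEquiv'
        have hBr : (B : Matrix (Fin 3) (Fin 3) F) ^ r = 1 := by
          rw [← Matrix.SpecialLinearGroup.coe_pow, ← hBo, pow_orderOf_eq_one, Matrix.SpecialLinearGroup.coe_one]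
        have h := Cfsg.Lib.CommUnipotent.sub_one_pow_three (Module.finrank_fin_fun F) le_rfl hr hrq hr1
          (e ((A : Matrix (Fin 3) (Fin 3) F) - 1)) (e (B : Matrix (Fin 3) (Fin 3) F))
          ((hcomB B hB).symm.map e) (by rw [← map_pow, hBr, map_one])
          ((map_ne_zero_iff e e.injective).2 hN) (hnil.map e)
        rw [← map_one e, ← map_sub, ← map_pow, map_eq_zero_iff e e.injective] at h
        refine done B hB (central_pow hpsq B 1 ?_)
        rw [one_smul]
        have h' := congrArg (algebraMap F (AlgebraicClosure F)).mapMatrix h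
        rw [map_pow, map_sub, map_one, map_zero] at h'
        exact h'
      · obtain ⟨B, hB⟩ := QuotientGroup.mk'_surjective _ (g ^ p)
        have hc3 : B ^ 3 ∈ Subgroup.center (Matrix.SpecialLinearGroup (Fin 3) F) := by
          rw [← QuotientGroup.eq_one_iff]
          change QuotientGroup.mk' _ (B ^ 3) = 1
          rw [map_pow, hB]
          have h := pow_orderOf_eq_one (g ^ p)
          rwa [hb] at h
        obtain ⟨z, hz3, hz⟩ := Matrix.SpecialLinearGroup.mem_center_iff.1 hc3
        rw [Fintype.card_fin] at hz3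
        have hB3 : (B : Matrix (Fin 3) (Fin 3) F) ^ 3 = z • 1 := by
          rw [← Matrix.SpecialLinearGroup.coe_pow, ← hz, Matrix.scalar_apply, Matrix.smul_one_eq_diagonal]
        have h30 : (3 : F) ≠ 0 := by
          intro h0
          have h0' : ((3 : ℕ) : F) = 0 := by exact_mod_cast h0
          rw [CharP.cast_eq_zero_iff F p] at h0'
          exact hrp ((Nat.prime_dvd_prime_iff_eq hp Nat.prime_three).1 h0').symm
        have hzc : z = 1 ∨ ∀ b : F, b ^ 3 ≠ z := by
          by_cases hb' : ∃ b : F, b ^ 3 = z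
          · left
            obtain ⟨b, rfl⟩ := hb'
            have hb9 : b ^ 9 = 1 := by rw [← hz3, ← pow_mul]
            have hb0 : b ≠ 0 := fun h => by rw [h, zero_pow (by norm_num)] at hb9; exact zero_ne_one hb9
            have hbq : b ^ (Fintype.card F - 1) = 1 := FiniteField.pow_card_sub_one_eq_one b hb0
            have hg9 := pow_gcd_eq_one.2 ⟨hb9, hbq⟩
            have hg : Nat.gcd 9 (Fintype.card F - 1) ∣ 3 := by
              obtain ⟨i, hi, hgi⟩ := (Nat.dvd_prime_pow Nat.prime_three).1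
                (show Nat.gcd 9 (Fintype.card F - 1) ∣ 3 ^ 2 from Nat.gcd_dvd_left _ _)
              rw [hgi]
              interval_cases i
              · norm_num
              · norm_num
              · exact absurd (by rw [show (9 : ℕ) = 3 ^ 2 from rfl, ← hgi]; exact Nat.gcd_dvd_right _ _) h91
            exact orderOf_dvd_iff_pow_eq_one.1 ((orderOf_dvd_of_pow_eq_one hg9).trans hg)
          · exact Or.inr fun b hb'' => hb' ⟨b, hb''⟩
        haveI : Fact (3 : ℕ).Prime := ⟨Nat.prime_three⟩
        obtain ⟨a, ha'⟩ := dim_three h30 B z hB3 hzc _ (hcomB B hB) hN hnil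
        exact done B hB (central_pow hpsq B a ha')

end Cfsg.Agent.S2470
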