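import Cfsg.Statements.S2468
import Cfsg.Agent.S2470
import Cfsg.Agent.Classical.Misc.SylowLargePrime
import Cfsg.Agent.Classical.Misc.PrimeOrbit

set_option autoImplicit false
open Cfsg

namespace Cfsg.Agent.S2468

/-- Adjacency of two odd primes in the prime graph of PSL(n,q): let F be a finite field of characteristic p with q elements, n ≥ 2 with PSL(n,F) simple, and let r ≠ s be odd primes different from p dividing the order of PSL(n,F). Let k and l be the multiplicative orders of q modulo r and modulo s, and suppose 2 ≤ k ≤ l. Then PSL(n,F) has NO element of order r·s if and only if k + l > n and k does not divide l. -/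
theorem result {F : Type*} [Field F] [Fintype F] (p : ℕ) [Fact p.Prime] [CharP F p] (n : ℕ) (hn : 2 ≤ n) (hsmall : n = 2 → 4 ≤ Fintype.card F)
    (r s : ℕ) (hr : r.Prime) (hs : s.Prime) (hr2 : r ≠ 2) (hs2 : s ≠ 2) (hrp : r ≠ p) (hsp : s ≠ p) (hrs : r ≠ s)
    (hrG : r ∣ Nat.card (Matrix.ProjectiveSpecialLinearGroup (Fin n) F)) (hsG : s ∣ Nat.card (Matrix.ProjectiveSpecialLinearGroup (Fin n) F))
    (k l : ℕ) (hk : k = orderOf ((Fintype.card F : ℕ) : ZMod r)) (hl : l = orderOf ((Fintype.card F : ℕ) : ZMod s))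
    (h2k : 2 ≤ k) (hkl : k ≤ l) :
    (r * s ∉ Set.range (orderOf : Matrix.ProjectiveSpecialLinearGroup (Fin n) F → ℕ)) ↔ (n < k + l ∧ ¬ k ∣ l) := by
  classical
  haveI := Fact.mk hr
  haveI := Fact.mk hs
  have hp : p.Prime := Fact.out
  haveI : Nonempty (Fin n) := ⟨⟨0, by omega⟩⟩
  have hnq : ∀ t : ℕ, t.Prime → t ≠ p → ¬ t ∣ Fintype.card F := by
    intro t ht htp
    obtain ⟨j, -, hj⟩ := FiniteField.card F p
    rw [hj]
    exact fun hd => htp ((Nat.prime_dvd_prime_iff_eq ht hp).1 (ht.dvd_of_dvd_pow hd))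
  have hq1 : 1 ≤ Fintype.card F := Fintype.card_pos
  have hdvd : ∀ (t i : ℕ), t ∣ Fintype.card F ^ i - 1 ↔ orderOf ((Fintype.card F : ℕ) : ZMod t) ∣ i := fun t i => by
    rw [orderOf_dvd_iff_pow_eq_one, ← ZMod.natCast_eq_zero_iff,
      Nat.cast_sub (Nat.one_le_pow i _ hq1), Nat.cast_pow, Nat.cast_one, sub_eq_zero]
  have hnot1 : ∀ t, 2 ≤ orderOf ((Fintype.card F : ℕ) : ZMod t) → ¬ t ∣ Fintype.card F - 1 := fun t ht hd => by
    have := Nat.le_of_dvd one_pos ((hdvd t 1).1 (by rwa [pow_one]))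
    omega
  have hr1 : ¬ r ∣ Fintype.card F - 1 := hnot1 r (hk ▸ h2k)
  have hs1 : ¬ s ∣ Fintype.card F - 1 := hnot1 s (hl ▸ (h2k.trans hkl))
  have hco : (r * s).Coprime (Fintype.card F - 1) :=
    Nat.Coprime.mul_left (hr.coprime_iff_not_dvd.2 hr1) (hs.coprime_iff_not_dvd.2 hs1)
  have hcZ : (Nat.card (Subgroup.center (Matrix.SpecialLinearGroup (Fin n) F))).Coprime (r * s) := by
    rw [Cfsg.Lib.Classical.card_center_SL, Nat.card_eq_fintype_card]
    exact (hco.coprime_dvd_right (Nat.gcd_dvd_right _ _)).symm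
  have hln : l ≤ n := by
    have hsSL : s ∣ Nat.card (Matrix.SpecialLinearGroup (Fin n) F) :=
      hsG.trans (Subgroup.card_quotient_dvd_card _)
    obtain ⟨i, hi1, hi2, hi⟩ := Cfsg.Agent.S2470.exists_pow_of_dvd_SL (by omega) hs (hnq s hs hsp) hsSL
    have := Nat.le_of_dvd hi1 ((hdvd s i).1 hi)
    omega
  have hrs2 : 1 < r * s := by have := hr.two_le; have := hs.two_le; nlinarith
  constructor
  · intro hno
    by_contra hc
    apply hno
    suffices h : ∃ X : Matrix.SpecialLinearGroup (Fin n) F, orderOf X = r * s by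
      obtain ⟨X, hX⟩ := h
      exact ⟨_, Cfsg.Lib.PrimeOrbit.orderOf_mk_of_coprime hcZ X hX⟩
    by_cases hdiv : k ∣ l
    · haveI : NeZero l := ⟨by omega⟩
      let K := FiniteField.Extension F p l
      have hcK : Nat.card K = Fintype.card F ^ l := by rw [FiniteField.natCard_extension, Nat.card_eq_fintype_card]
      haveI : Finite K := Nat.finite_of_card_ne_zero (by rw [hcK]; exact pow_ne_zero _ (by omega))
      have hm : r * s ∣ Nat.card Kˣ := by
        rw [Nat.card_units, hcK]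
        exact Nat.Coprime.mul_dvd_of_dvd_of_dvd ((Nat.coprime_primes hr hs).2 hrs)
          ((hdvd r l).2 (hk ▸ hdiv)) ((hdvd s l).2 (hl ▸ dvd_rfl))
      obtain ⟨c, hc⟩ := Cfsg.Lib.SylowLarge.exists_cyclicHom hm
      obtain ⟨t, ht⟩ := Cfsg.Lib.SylowLarge.exists_torus_gl (F := F) K n 1 (by
        rw [FiniteField.finrank_extension, one_mul]; exact hln)
      haveI : NeZero (r * s) := ⟨by omega⟩
      obtain ⟨g, hg⟩ := Cfsg.Lib.SylowLarge.exists_sl_lift (A := Multiplicative (ZMod (r * s)))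
        (t.comp (MonoidHom.pi fun _ => c)) (fun a b hab => hc (congrFun (ht hab) 0))
        (by rw [Nat.card_congr Multiplicative.toAdd, Nat.card_zmod]; exact hco)
      refine ⟨g (Multiplicative.ofAdd 1), ?_⟩
      rw [orderOf_injective g hg, orderOf_ofAdd_eq_addOrderOf, ZMod.addOrderOf_one]
    · have hkn : k + l ≤ n := by
        by_contra h
        exact hc ⟨by omega, hdiv⟩
      obtain ⟨m, rfl⟩ : ∃ m, n = k + m := ⟨n - k, by omega⟩
      have hkc : r ∣ Nat.card (Matrix.SpecialLinearGroup (Fin k) F) := by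
        by_contra h
        exact Cfsg.Lib.CommUnipotent.not_dvd_pow_sub_one h2k hr h k (by omega) le_rfl ((hdvd r k).2 (hk ▸ dvd_rfl))
      have hlc : s ∣ Nat.card (Matrix.SpecialLinearGroup (Fin m) F) := by
        by_contra h
        exact Cfsg.Lib.CommUnipotent.not_dvd_pow_sub_one (by omega) hs h l (by omega) (by omega) ((hdvd s l).2 (hl ▸ dvd_rfl))
      obtain ⟨x, hx⟩ := exists_prime_orderOf_dvd_card' r hkc
      obtain ⟨y, hy⟩ := exists_prime_orderOf_dvd_card' s hlc
      refine ⟨Cfsg.Lib.PrimeGraphChar.blockHom F k m (x, y), ?_⟩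
      rw [orderOf_injective _ (Cfsg.Lib.PrimeGraphChar.blockHom_injective F k m), Prod.orderOf, hx, hy]
      exact ((Nat.coprime_primes hr hs).2 hrs).lcm_eq_mul
  · rintro ⟨hlt, hndiv⟩ ⟨g, hg⟩
    obtain ⟨X, -, hX⟩ := Cfsg.Lib.PrimeOrbit.exists_lift_coprime hrs2 hcZ g hg
    have hM : orderOf (X : Matrix (Fin n) (Fin n) F) = r * s := by
      rw [← hX]
      exact orderOf_injective (⟨⟨fun A : Matrix.SpecialLinearGroup (Fin n) F => (A : Matrix (Fin n) (Fin n) F), rfl⟩,
        fun _ _ => rfl⟩ : Matrix.SpecialLinearGroup (Fin n) F →* Matrix (Fin n) (Fin n) F) Subtype.val_injective X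
    rcases Cfsg.Lib.PrimeOrbit.orbit_bound (p := p) hr hs hrp hsp hrs _ hM hk hl with h | h
    · omega
    · obtain ⟨c, hc⟩ := Nat.dvd_lcm_right k l
      have hc2 : 2 ≤ c := by
        rcases Nat.lt_or_ge c 2 with h2 | h2
        · exfalso
          interval_cases c
          · rw [mul_zero, Nat.lcm_eq_zero_iff] at hc; omega
          · exact hndiv (by rw [mul_one] at hc; exact hc ▸ Nat.dvd_lcm_left k l)
        · exact h2
      have := Nat.mul_le_mul_left l hc2
      omega

end Cfsg.Agent.S2468
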