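import Cfsg.Statements.S2471
import Cfsg.Agent.Known.SLTwo.Unip

set_option autoImplicit false
open Cfsg

namespace Cfsg.Agent.S2471

/-- In PSL(2,q) with q odd, the characteristic p is isolated from 2 in the prime graph: for F a finite field of odd characteristic p with at least 5 elements, PSL(2,F) has no element of order 2p. -/
theorem result {F : Type*} [Field F] [Fintype F] (p : ℕ) [Fact p.Prime] [CharP F p] (hp : p ≠ 2) (h5 : 5 ≤ Fintype.card F) (g : Matrix.ProjectiveSpecialLinearGroup (Fin 2) F) :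
    orderOf g ≠ 2 * p := by
  intro hord
  have hp' : p.Prime := Fact.out
  have hpodd : Odd p := hp'.odd_of_ne_two hp
  obtain ⟨s, rfl⟩ := QuotientGroup.mk_surjective g
  have hmk : ∀ n : ℕ, (QuotientGroup.mk s : Matrix.ProjectiveSpecialLinearGroup (Fin 2) F) ^ n = 1 ↔
      s ^ n ∈ Subgroup.center _ := fun n => by rw [← QuotientGroup.eq_one_iff, QuotientGroup.mk_pow]
  have hu := (Cfsg.Lib.GLTwo.mem_center_iff _).1 ((hmk (2 * p)).1 (by rw [← hord]; exact pow_orderOf_eq_one _))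
  obtain ⟨e, he⟩ := Cfsg.Lib.GLTwo.eq_upper_of_scalar hu
  have hepow : ∀ x : F, x * x = 1 → x ^ p = x := by
    intro x hx
    obtain ⟨k, hk⟩ := hpodd
    rw [hk, pow_succ, pow_mul, sq, hx, one_pow, one_mul]
  have ht : (((s ^ 2 : Matrix.SpecialLinearGroup (Fin 2) F)) : Matrix (Fin 2) (Fin 2) F).trace = (e : F) + e := by
    refine Cfsg.Lib.GLTwo.trace_of_pow_char p (hepow _ e.2) ?_
    rw [← pow_mul, he, Cfsg.Lib.GLTwo.coe_upper]
    ext i j; fin_cases i <;> fin_cases j <;> simp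
  have hu2 : Cfsg.Lib.GLTwo.NonScalar ((s ^ 2 : Matrix.SpecialLinearGroup (Fin 2) F) : Matrix (Fin 2) (Fin 2) F) := by
    by_contra hns
    have := Nat.le_of_dvd two_pos (hord ▸ orderOf_dvd_of_pow_eq_one ((hmk 2).2 ((Cfsg.Lib.GLTwo.mem_center_iff _).2 hns)))
    have := hp'.two_le
    omega
  obtain ⟨a, b, hab⟩ := Cfsg.Lib.GLTwo.exists_combo hu2
    (B := (s : Matrix (Fin 2) (Fin 2) F)) (by rw [Matrix.SpecialLinearGroup.coe_pow, ← pow_succ', ← pow_succ])
  have hd := s.2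
  rw [hab, Cfsg.Lib.GLTwo.det_combo, ht, (s ^ 2).2] at hd
  have hf : (a + b * (e : F)) * (a + b * (e : F)) = 1 := by linear_combination hd + b * b * e.2
  have hts : (s : Matrix (Fin 2) (Fin 2) F).trace = (a + b * (e : F)) + (a + b * (e : F)) := by
    rw [hab, Cfsg.Lib.GLTwo.combo, Matrix.trace_add, Matrix.trace_smul, Matrix.trace_smul, ht, Matrix.trace_one]
    simp; ring
  have hsp := Cfsg.Lib.GLTwo.pow_char_of_trace p hf hts
  have hone : (QuotientGroup.mk s : Matrix.ProjectiveSpecialLinearGroup (Fin 2) F) ^ p = 1 :=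
    (hmk p).2 ((Cfsg.Lib.GLTwo.mem_center_iff _).2 (by rw [hsp]; exact Cfsg.Lib.GLTwo.not_nonScalar_smul _))
  have := Nat.le_of_dvd hp'.pos (hord ▸ orderOf_dvd_of_pow_eq_one hone)
  have := hp'.two_le
  omega

end Cfsg.Agent.S2471
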