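import Cfsg.Statements.S2474
import Cfsg.Agent.Known.PrimeGraphOrth.Orth
import Cfsg.Agent.S2472
-- import your own Cfsg.Agent.* helpers here

set_option autoImplicit false
open Cfsg

namespace Cfsg.Agent.S2474

open Cfsg.Lib.Classical.Refl Cfsg.Lib.PrimeGraphOrth in
theorem pairs {F : Type*} [Field F] [Fintype F] (p : ℕ) [Fact p.Prime] [CharP F p] (h2 : (2 : F) ≠ 0) (n : ℕ)
    (hn : 3 ≤ n) (r s : ℕ) (hr : r.Prime) (hs : s.Prime) (hrs : r ≠ s)
    (hord : (r ≠ 2 ∧ r ≠ p ∧ s ≠ 2) ∨ (r = 2)) :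
    (r * s ∈ Set.range (orderOf : Cfsg.POmega F (⇑(oddForm n F)) → ℕ)) ↔
      (r * s ∈ Set.range (orderOf : Cfsg.PSp n F → ℕ)) := by
  classical
  have hp : p.Prime := Fact.out
  have hcast : ∀ t : ℕ, t.Prime → t ≠ p → (t : F) ≠ 0 := fun t ht htp h =>
    htp ((Nat.prime_dvd_prime_iff_eq hp ht).1 ((CharP.cast_eq_zero_iff F p t).1 h)).symm
  have hcZ : ∀ m : ℕ, Odd m → (Nat.card (Subgroup.center (Matrix.symplecticGroup (Fin n) F))).Coprime m := fun m hm => by
    rw [Cfsg.Lib.Classical.card_center_symplecticGroup (by omega)]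
    exact Nat.Coprime.coprime_dvd_left (Nat.gcd_dvd_left _ _) (Nat.coprime_two_left.2 hm)
  have hkη : ∀ t : ℕ, ∃ k η, k = orderOf ((Fintype.card F : ℕ) : ZMod t) ∧
      ((Odd k ∧ η = k) ∨ (Even k ∧ 2 * η = k)) := fun t => by
    rcases Nat.even_or_odd' (orderOf ((Fintype.card F : ℕ) : ZMod t)) with ⟨b, h | h⟩
    · exact ⟨_, b, rfl, Or.inr ⟨⟨b, by omega⟩, h.symm⟩⟩
    · exact ⟨_, _, rfl, Or.inl ⟨⟨b, h⟩, rfl⟩⟩
  rw [pomega_range h2 hn]
  rcases hord with ⟨hr2, hrp, hs2⟩ | rfl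
  · by_cases hsp : s = p
    · subst hsp
      obtain ⟨k, η, hk, hη⟩ := hkη r
      constructor
      · rintro ⟨g, -, hg⟩
        have hlt := orth_char_no h2 (by omega) hr hr2 hrp hk hη g hg
        have hk0 := k_pos (F := F) hr hrp hk
        have hη1 : 1 ≤ η := by rcases hη with ⟨-, h⟩ | ⟨he, h⟩ <;> omega
        haveI := Fact.mk hr
        obtain ⟨f1, f2⟩ := Cfsg.Agent.S2469.half_facts (Fintype.card_pos (α := F)) hk hk0 hη
        obtain ⟨x, hx⟩ := Cfsg.Agent.S2469.exists_sp_element (F := F) s η n hη1 (by omega) r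
          ((Nat.even_or_odd k).elim (fun h => Or.inr (f2 h).2) (fun h => Or.inl (f1 h)))
        have hdvd : r ∣ Nat.card (Cfsg.PSp n F) := by
          have h1 := orderOf_dvd_natCard (G := Cfsg.PSp n F) (QuotientGroup.mk x)
          rwa [Cfsg.Lib.PrimeOrbit.orderOf_mk_of_coprime (hcZ r (hr.odd_of_ne_two hr2)) x hx] at h1
        by_contra hno
        have := (Cfsg.Agent.S2472.result s n (by omega) (by omega) r hr hr2 hrp hdvd k η hk hη).1 hno
        omega
      · rintro ⟨x, hx⟩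
        have hdvd : r ∣ Nat.card (Cfsg.PSp n F) := (dvd_mul_right r s).trans (hx ▸ orderOf_dvd_natCard x)
        exact orth_char_yes h2 hr hr2 hrp hk hη (by
          by_contra hcon
          exact (Cfsg.Agent.S2472.result s n (by omega) (by omega) r hr hr2 hrp hdvd k η hk hη).2 (by omega) ⟨x, hx⟩)
    · have hodd : Odd (r * s) := (hr.odd_of_ne_two hr2).mul (hs.odd_of_ne_two hs2)
      have hN : ((r * s : ℕ) : F) ≠ 0 := by push_cast; exact mul_ne_zero (hcast r hr hrp) (hcast s hs hsp)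
      constructor
      · rintro ⟨g, -, hg⟩
        obtain ⟨A, hA⟩ := to_symp (oddForm n F) (oddForm_nondegenerate h2 n) (card_idx n) g
          (hg.symm ▸ hodd) (by rw [hg]; exact hN)
        exact ⟨QuotientGroup.mk A, Cfsg.Lib.PrimeOrbit.orderOf_mk_of_coprime (hcZ _ hodd) A (hA.trans hg)⟩
      · rintro ⟨x, hx⟩
        obtain ⟨A, -, hA⟩ := Cfsg.Lib.PrimeOrbit.exists_lift_coprime
          (by have := hr.two_le; have := hs.two_le; nlinarith) (hcZ _ hodd) x hx
        obtain ⟨g, hg⟩ := to_orth h2 A (hA.symm ▸ hodd) (by rw [hA]; exact hN)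
        exact ⟨g, mem_omega_odd h2 (by omega) g (by rw [hg, hA]; exact hodd), hg.trans hA⟩
  · by_cases hsp : s = p
    · subst hsp
      exact ⟨fun _ => psp_two_char (by omega) h2, fun _ => orth_two_char h2 hn⟩
    · obtain ⟨k, η, hk, hη⟩ := hkη s
      rw [psp_two (by omega) hs hrs.symm hsp h2 hk hη]
      exact ⟨fun ⟨g, hgO, hg⟩ => orth_two_no h2 (by omega) hs hrs.symm hsp hk hη g hgO hg,
        fun h => orth_two_yes h2 hs hrs.symm hsp hk hη h⟩

/-- For q odd and n ≥ 3 the simple groups PΩ(2n+1,q) and PSp(2n,q) (which have the same order but different sets of element orders) have the same prime graph: for all distinct primes r, s, one of them has an element of order r·s if and only if the other does. -/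
theorem result {F : Type*} [Field F] [Fintype F] (hodd : Odd (Fintype.card F)) (n : ℕ) (hn : 3 ≤ n) (r s : ℕ) (hr : r.Prime) (hs : s.Prime) (hrs : r ≠ s) :
    (r * s ∈ Set.range (orderOf : Cfsg.POmega F (Cfsg.quadFormOdd n F) → ℕ)) ↔ (r * s ∈ Set.range (orderOf : Cfsg.PSp n F → ℕ)) := by
  classical
  have h2 : (2 : F) ≠ 0 := Cfsg.Lib.Classical.Refl.two_ne_zero_of_odd hodd
  obtain ⟨p, _⟩ := CharP.exists F
  haveI : Fact p.Prime := ⟨CharP.char_is_prime F p⟩
  rw [← Cfsg.Lib.Classical.Refl.oddForm_coe]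
  by_cases hr2 : r = 2
  · exact pairs p h2 n hn r s hr hs hrs (Or.inr hr2)
  by_cases hs2 : s = 2
  · rw [mul_comm]
    exact pairs p h2 n hn s r hs hr hrs.symm (Or.inr hs2)
  by_cases hrp : r = p
  · rw [mul_comm]
    exact pairs p h2 n hn s r hs hr hrs.symm (Or.inl ⟨hs2, fun h => hrs (hrp.trans h.symm), hr2⟩)
  · exact pairs p h2 n hn r s hr hs hrs (Or.inl ⟨hr2, hrp, hs2⟩)

end Cfsg.Agent.S2474
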