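import Cfsg.Statements.S2475
import Cfsg.Agent.Known.SLTwo.Torus

set_option autoImplicit false
open Cfsg

namespace Cfsg.Agent.S2475

/-- The set of element orders of PSL(2,q): let F be a finite field of characteristic p with q ≥ 4 elements and d = gcd(2, q − 1). The orders of elements of PSL(2,F) are exactly the divisors of p, of (q − 1)/d and of (q + 1)/d. -/
theorem result {F : Type*} [Field F] [Fintype F] (p : ℕ) [Fact p.Prime] [CharP F p] (h4 : 4 ≤ Fintype.card F) :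
    Set.range (orderOf : Matrix.ProjectiveSpecialLinearGroup (Fin 2) F → ℕ) =
      {m : ℕ | m ∣ p ∨ m ∣ (Fintype.card F - 1) / Nat.gcd 2 (Fintype.card F - 1) ∨ m ∣ (Fintype.card F + 1) / Nat.gcd 2 (Fintype.card F - 1)} := by
  classical
  set q := Fintype.card F with hqdef
  set d := Nat.gcd 2 (q - 1) with hd
  have hd1 : d ∣ q - 1 := Nat.gcd_dvd_right _ _
  have hd2 : d ∣ q + 1 := by
    rcases (Nat.dvd_prime Nat.prime_two).1 (show d ∣ 2 from Nat.gcd_dvd_left _ _) with e | e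
    · rw [e]; exact one_dvd _
    · rw [e] at hd1 ⊢
      obtain ⟨k, hk⟩ := hd1
      exact ⟨k + 1, by omega⟩
  have hd0 : d ≠ 0 := (Nat.gcd_pos_of_pos_left _ two_pos).ne'
  ext m
  rw [Set.mem_range, Set.mem_setOf_eq]
  constructor
  · rintro ⟨x, rfl⟩
    obtain ⟨s, rfl⟩ := QuotientGroup.mk'_surjective (Subgroup.center (Matrix.SpecialLinearGroup (Fin 2) F)) x
    have ho := Cfsg.Lib.GLTwo.orderOf_prj s
    change orderOf (QuotientGroup.mk' _ s) = _ at ho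
    have key : ∀ N, d ∣ N → s ^ N = 1 → orderOf (QuotientGroup.mk' (Subgroup.center _) s) ∣ N / d := fun N hN hs => by
      rw [ho]
      exact orderOf_dvd_of_pow_eq_one (by rw [← pow_mul, Nat.mul_div_cancel' hN, hs])
    by_cases hns : Cfsg.Lib.GLTwo.NonScalar (s : Matrix (Fin 2) (Fin 2) F)
    swap
    · left
      rw [(QuotientGroup.eq_one_iff s).2 ((Cfsg.Lib.GLTwo.mem_center_iff s).2 hns) |> fun e => (show QuotientGroup.mk' _ s = 1 from e), orderOf_one]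
      exact one_dvd _
    have hp := Cfsg.Lib.GLTwo.pow_card_cent s
    rcases Cfsg.Lib.GLTwo.kinds hns with ⟨-, hc⟩ | ⟨-, hc⟩ | ⟨⟨r, hr, ht⟩, -⟩
    · exact .inr (.inr (key _ hd2 (hc ▸ hp)))
    · exact .inr (.inl (key _ hd1 (hc ▸ hp)))
    · left
      refine orderOf_dvd_of_pow_eq_one ?_
      rw [← map_pow]
      refine (QuotientGroup.eq_one_iff _).2 ((Cfsg.Lib.GLTwo.mem_center_iff _).2 ?_)
      rw [Cfsg.Lib.GLTwo.pow_char_of_trace p hr ht]
      exact Cfsg.Lib.GLTwo.not_nonScalar_smul _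
  · have key : ∀ (s : Matrix.SpecialLinearGroup (Fin 2) F) (N : ℕ), N ≠ 0 → orderOf (Cfsg.Lib.GLTwo.prj s) = N → m ∣ N →
        ∃ y : Matrix.ProjectiveSpecialLinearGroup (Fin 2) F, orderOf y = m := fun s N hN hs hm =>
      ⟨Cfsg.Lib.GLTwo.prj s ^ (orderOf (Cfsg.Lib.GLTwo.prj s) / m), orderOf_pow_orderOf_div (hs.symm ▸ hN) (hs.symm ▸ hm)⟩
    have tor : ∀ (s : Matrix.SpecialLinearGroup (Fin 2) F) (N : ℕ), d ∣ N → orderOf s = N → orderOf (Cfsg.Lib.GLTwo.prj s) = N / d := fun s N hN hs => by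
      rw [Cfsg.Lib.GLTwo.orderOf_prj, ← hqdef, ← hd, orderOf_pow' _ hd0, hs, Nat.gcd_eq_right hN]
    rintro (hm | hm | hm)
    · refine key (Cfsg.Lib.GLTwo.upper ⟨1, mul_one 1⟩ 1) p (Fact.out : p.Prime).ne_zero ?_ hm
      have hu := (Cfsg.Lib.GLTwo.orderOf_eq_char_iff p (Cfsg.Lib.GLTwo.upper ⟨(1 : F), mul_one 1⟩ 1)).2
        ⟨Cfsg.Lib.GLTwo.nonScalar_upper _ one_ne_zero, Cfsg.Lib.GLTwo.trace_upper _ _⟩
      refine orderOf_eq_prime (by rw [← map_pow, ← hu, pow_orderOf_eq_one, map_one]) fun e => ?_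
      exact (Cfsg.Lib.GLTwo.mem_center_iff _).1 ((QuotientGroup.eq_one_iff _).1 e) (Cfsg.Lib.GLTwo.nonScalar_upper _ one_ne_zero)
    · obtain ⟨s, hs⟩ := Cfsg.Lib.GLTwo.exists_orderOf_sub_one (F := F)
      exact key s _ (Nat.div_pos (Nat.le_of_dvd (by omega) hd1) (Nat.pos_of_ne_zero hd0)).ne' (tor s _ hd1 hs) hm
    · obtain ⟨s, hs⟩ := Cfsg.Lib.GLTwo.exists_orderOf_add_one (F := F)
      exact key s _ (Nat.div_pos (Nat.le_of_dvd (by omega) hd2) (Nat.pos_of_ne_zero hd0)).ne' (tor s _ hd2 hs) hm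

end Cfsg.Agent.S2475
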