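import Cfsg.Statements.S2476
import Cfsg.Agent.Known.SLThreeSpectrum
import Cfsg.Agent.Known.SympOrders.Spectrum

set_option autoImplicit false
open Cfsg

namespace Cfsg.Agent.S2476

/-- The set of element orders of PSL(3,q): let F be a finite field of characteristic p with q elements and d = gcd(3, q − 1). The orders of elements of PSL(3,F) are exactly the divisors of (q² + q + 1)/d, of (q² − 1)/d, of q − 1, of p(q − 1)/d, and, when p = 2, of 4. -/
theorem result {F : Type*} [Field F] [Fintype F] (p : ℕ) [Fact p.Prime] [CharP F p] :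
    Set.range (orderOf : Matrix.ProjectiveSpecialLinearGroup (Fin 3) F → ℕ) =
      {m : ℕ | m ∣ (Fintype.card F ^ 2 + Fintype.card F + 1) / Nat.gcd 3 (Fintype.card F - 1) ∨
        m ∣ (Fintype.card F ^ 2 - 1) / Nat.gcd 3 (Fintype.card F - 1) ∨ m ∣ Fintype.card F - 1 ∨
        m ∣ p * (Fintype.card F - 1) / Nat.gcd 3 (Fintype.card F - 1) ∨ (p = 2 ∧ m ∣ 4)} := by
  classical
  ext m
  simp only [Set.mem_range, Set.mem_setOf_eq]
  constructor
  · rintro ⟨x, rfl⟩
    obtain ⟨X, rfl⟩ := QuotientGroup.mk_surjective x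
    obtain ⟨k, hk, z, hz⟩ := Cfsg.Lib.SLThreeSpectrum.power_scalar p _ X.2
    have hd : orderOf (X : Matrix.ProjectiveSpecialLinearGroup (Fin 3) F) ∣ k :=
      orderOf_dvd_of_pow_eq_one ((Cfsg.Lib.Known.psl_mk_pow_eq_one_iff (by norm_num) X k).2
        ⟨z, by rw [hz, Matrix.smul_one_eq_diagonal]; rfl⟩)
    rcases hk with rfl | rfl | rfl | rfl | ⟨h, rfl⟩
    exacts [Or.inl hd, Or.inr (Or.inl hd), Or.inr (Or.inr (Or.inl hd)), Or.inr (Or.inr (Or.inr (Or.inl hd))),
      Or.inr (Or.inr (Or.inr (Or.inr ⟨h, hd⟩)))]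
  · intro h
    have key : ∀ k, (k = (Fintype.card F ^ 2 + Fintype.card F + 1) / Nat.gcd 3 (Fintype.card F - 1) ∨
        k = (Fintype.card F ^ 2 - 1) / Nat.gcd 3 (Fintype.card F - 1) ∨ k = Fintype.card F - 1 ∨
        k = p * (Fintype.card F - 1) / Nat.gcd 3 (Fintype.card F - 1) ∨ (p = 2 ∧ k = 4)) → m ∣ k →
        ∃ y : Matrix.ProjectiveSpecialLinearGroup (Fin 3) F, orderOf y = m := fun k hk hm => by
      obtain ⟨x, hx⟩ := Cfsg.Lib.SLThreeSpectrum.exists_elts p k hk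
      exact Cfsg.Lib.SympOrders.exists_pow_eq x (hm.trans hx)
    rcases h with h | h | h | h | ⟨h', h⟩
    exacts [key _ (Or.inl rfl) h, key _ (Or.inr (Or.inl rfl)) h, key _ (Or.inr (Or.inr (Or.inl rfl))) h,
      key _ (Or.inr (Or.inr (Or.inr (Or.inl rfl)))) h, key _ (Or.inr (Or.inr (Or.inr (Or.inr ⟨h', rfl⟩)))) h]

end Cfsg.Agent.S2476
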