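import Cfsg.Statements.S2477
import Cfsg.Agent.Known.AltSpectrum

set_option autoImplicit false
open Cfsg

namespace Cfsg.Agent.S2477

/-- The set of element orders of the alternating group of degree 10 is {1, 2, 3, 4, 5, 6, 7, 8, 9, 10, 12, 15, 21}. -/
theorem result : Set.range (orderOf : alternatingGroup (Fin 10) → ℕ) = {1, 2, 3, 4, 5, 6, 7, 8, 9, 10, 12, 15, 21} := by
  rw [Cfsg.Lib.Known.AltSpec.range_alt 10 [1, 2, 3, 4, 5, 6, 7, 8, 9, 10, 12, 15, 21] (by decide +kernel) (by decide +kernel)]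
  ext m; simp

end Cfsg.Agent.S2477
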