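import Cfsg.Statements.S2486
import Cfsg.Agent.Known.SLBorelPair
import Cfsg.Agent.Known.AutPSLn.Decomp
import Cfsg.Agent.BN.Basic

set_option autoImplicit false
set_option maxHeartbeats 400000
open Cfsg Pointwise

namespace Cfsg.Agent.S2486

open Cfsg.Lib.SLBN Cfsg.Lib.Known.AutPSLn

variable {n : ℕ}

local notation "S" => Matrix.SpecialLinearGroup (Fin n) (ZMod 2)

theorem zmod2_eq_one {a : ZMod 2} (h : a ≠ 0) : a = 1 := by
  revert a; decide

theorem ringEquiv_eq_refl (σ : ZMod 2 ≃+* ZMod 2) (a : ZMod 2) : σ a = a := by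
  have : a = 0 ∨ a = 1 := by revert a; decide
  rcases this with rfl | rfl <;> simp

theorem center_one {M : S} (h : M ∈ Subgroup.center S) : M = 1 := by
  rcases isEmpty_or_nonempty (Fin n) with h0 | ⟨⟨i⟩⟩
  · exact Subsingleton.elim _ _
  obtain ⟨r, hr, hM⟩ := Matrix.SpecialLinearGroup.mem_center_iff.1 h
  have hr0 : r ≠ 0 := fun e => by
    rw [e, zero_pow (by rw [Fintype.card_fin]; have := i.2; omega)] at hr
    exact zero_ne_one hr
  refine Subtype.ext ?_
  rw [← hM, zmod2_eq_one hr0, map_one, Matrix.SpecialLinearGroup.coe_one]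

theorem π_inj : Function.Injective (π : S →* _) := by
  rw [← MonoidHom.ker_eq_bot_iff, Subgroup.eq_bot_iff_forall]
  intro M hM
  rw [QuotientGroup.ker_mk'] at hM
  exact center_one hM

/-- every automorphism is inner or inner times the inverse transpose -/
theorem aut_cases (hn : 3 ≤ n) (a : MulAut S) :
    ∃ x : S, (∀ M, a M = x * M * x⁻¹) ∨ (∀ M, a M = x * graphSL M * x⁻¹) := by
  obtain ⟨g, σ, γ, hγ, hdec⟩ := exists_decomp hn (liftPSL a)
  have hdet : (g : Matrix (Fin n) (Fin n) (ZMod 2)).det = 1 :=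
    zmod2_eq_one (Matrix.GeneralLinearGroup.det g).ne_zero
  refine ⟨⟨g, hdet⟩, ?_⟩
  set x : S := ⟨g, hdet⟩ with hx
  have hinv : ((g⁻¹ : GL (Fin n) (ZMod 2)) : Matrix (Fin n) (Fin n) (ZMod 2)) = ((x⁻¹ : S) : Matrix (Fin n) (Fin n) (ZMod 2)) := by
    refine Units.inv_eq_of_mul_eq_one_right ?_
    exact congrArg Subtype.val (mul_inv_cancel x)
  have hc : ∀ M : S, conjSL g M = x * M * x⁻¹ := fun M => Subtype.ext (by
    rw [coe_conjSL, hinv]; rfl)
  have hσ : ∀ M : S, fieldSL σ M = M := fun M => by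
    ext i j
    exact ringEquiv_eq_refl σ _
  have key : ∀ M : S, π (a M) = (conjP g * fieldP σ * γ : MulAut (Matrix.ProjectiveSpecialLinearGroup (Fin n) (ZMod 2))) (π M) := fun M => by
    rw [← hdec, liftPSL_apply]
  rcases hγ with rfl | rfl
  · refine Or.inl fun M => π_inj ?_
    rw [key, mul_one, MulAut.mul_apply, fieldP_apply, hσ, conjP_apply, hc]
  · refine Or.inr fun M => π_inj ?_
    rw [key, MulAut.mul_apply, MulAut.mul_apply, graphP_apply, fieldP_apply, hσ, conjP_apply, hc]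

theorem perm_unique {a b : S} {σ : Equiv.Perm (Fin n)} (ha : HasPerm (a : Matrix (Fin n) (Fin n) (ZMod 2)) σ)
    (hb : HasPerm (b : Matrix (Fin n) (Fin n) (ZMod 2)) σ) : a = b := by
  ext i j
  by_cases h : i = σ j
  · subst h; rw [zmod2_eq_one (ha.ne_zero j), zmod2_eq_one (hb.ne_zero j)]
  · rw [ha i j h, hb i j h]

/-- a monomial element not reversing the order fixes a root element of the Borel subgroup inside it -/
theorem root_in_both {w : S} {σ : Equiv.Perm (Fin n)} (hw : HasPerm (w : Matrix (Fin n) (Fin n) (ZMod 2)) σ)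
    {i j : Fin n} (hij : i < j) (hσ : σ i < σ j) :
    ∃ t : S, t ≠ 1 ∧ t ∈ B n (ZMod 2) ∧ w⁻¹ * t * w ∈ B n (ZMod 2) := by
  refine ⟨tv hσ.ne 1, ?_, tv_mem_B hσ 1, mem_B.2 fun a b hba => ?_⟩
  · intro h
    have := congrArg (fun M : S => (M : Matrix (Fin n) (Fin n) (ZMod 2)) (σ i) (σ j)) h
    simp only [tv_apply, Matrix.SpecialLinearGroup.coe_one, Matrix.one_apply_ne hσ.ne] at this
    simp [hσ.ne] at this
  · rw [Matrix.SpecialLinearGroup.coe_mul, Matrix.SpecialLinearGroup.coe_mul, conj_apply hw, tv_apply,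
      if_neg fun h => hba.ne' (σ.injective h), if_neg, add_zero, mul_zero, zero_mul]
    rintro ⟨h1, h2⟩
    rw [← σ.injective h1, ← σ.injective h2] at hba
    exact hba.not_gt hij

/-- Let n ≥ 4 and let G be a finite group with a normal subgroup N of index 2 isomorphic to SL(n,2) and with trivial centralizer in G (so G is the extension of the simple group L_n(2) by its inverse-transpose automorphism, its full automorphism group). Then any two Sylow 2-subgroups of G have a non-trivial intersection: for a Sylow 2-subgroup H and every x ∈ G, H ∩ H^x ≠ 1. -/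
theorem result {G : Type*} [Group G] [Finite G] {n : ℕ} (hn : 4 ≤ n) (N : Subgroup G) [N.Normal]
    (e : N ≃* Matrix.SpecialLinearGroup (Fin n) (ZMod 2)) (hidx : N.index = 2)
    (hC : Subgroup.centralizer (N : Set G) = ⊥)
    (H : Sylow 2 G) (x : G) :
    (H : Subgroup G) ⊓ MulAut.conj x • (H : Subgroup G) ≠ ⊥ := by
  classical
  haveI : Fact (Nat.Prime 2) := ⟨Nat.prime_two⟩
  let SL := Matrix.SpecialLinearGroup (Fin n) (ZMod 2)
  let ι : SL →* G := N.subtype.comp e.symm.toMonoidHom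
  have hι : Function.Injective ι := N.subtype_injective.comp e.symm.injective
  have hιN : ∀ g ∈ N, ∃ M : SL, ι M = g := fun g hg =>
    ⟨e ⟨g, hg⟩, by show ((e.symm (e ⟨g, hg⟩) : N) : G) = g; rw [MulEquiv.symm_apply_apply]⟩
  have hιmem : ∀ M : SL, ι M ∈ N := fun M => (e.symm M).2
  have hcent : ∀ g : G, (∀ M : SL, g * ι M = ι M * g) → g = 1 := by
    intro g hg
    have : g ∈ Subgroup.centralizer (N : Set G) := fun m hm => by
      obtain ⟨M, rfl⟩ := hιN m hm
      exact (hg M).symm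
    rwa [hC, Subgroup.mem_bot] at this
  -- an element inducing a graph automorphism
  obtain ⟨g, hgN⟩ : ∃ g : G, g ∉ N := by
    by_contra h
    push Not at h
    rw [(Subgroup.eq_top_iff' N).2 h, Subgroup.index_top] at hidx
    norm_num at hidx
  let a : MulAut SL := (e.symm.trans (MulAut.conjNormal g)).trans e
  have ha : ∀ M, ι (a M) = g * ι M * g⁻¹ := fun M => by
    show ((e.symm (e (MulAut.conjNormal g (e.symm M))) : N) : G) = _
    rw [MulEquiv.symm_apply_apply, MulAut.conjNormal_apply]; rfl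
  obtain ⟨y, hy | hy⟩ := aut_cases (by omega) a
  · exfalso
    refine hgN ?_
    have h1 : (ι y)⁻¹ * g = 1 := hcent _ fun M => by
      have := ha M
      rw [hy, map_mul, map_mul, map_inv] at this
      calc (ι y)⁻¹ * g * ι M = (ι y)⁻¹ * (g * ι M * g⁻¹) * g := by group
        _ = ι M * ((ι y)⁻¹ * g) := by rw [← this]; group
    rw [← inv_mul_eq_one.1 h1]
    exact hιmem y
  obtain ⟨w, hw, hwσ⟩ := exists_closure_perm (F := ZMod 2) (Fin.revPerm : Equiv.Perm (Fin n))
  set γ : G := ι (w * y⁻¹) * g with hγdef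
  have hγ : ∀ M : SL, γ * ι M * γ⁻¹ = ι (w * graphSL M * w⁻¹) := fun M => by
    calc γ * ι M * γ⁻¹ = ι (w * y⁻¹) * (g * ι M * g⁻¹) * (ι (w * y⁻¹))⁻¹ := by rw [hγdef]; group
      _ = ι (w * y⁻¹) * ι (y * graphSL M * y⁻¹) * (ι (w * y⁻¹))⁻¹ := by rw [← ha, hy]
      _ = ι (w * graphSL M * w⁻¹) := by
        rw [← map_inv, ← map_mul, ← map_mul]
        congr 1
        group
  -- the reversal is a symmetric involution
  have hwinv : w⁻¹ = w := perm_unique (σ := Fin.revPerm) (by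
    have := hwσ.inv
    rwa [show (Fin.revPerm : Equiv.Perm (Fin n))⁻¹ = Fin.revPerm from
      Equiv.ext fun i => by simp [Equiv.Perm.inv_def]] at this) hwσ
  have hwT : graphSL w = w := by
    refine perm_unique (σ := Fin.revPerm) (fun i j h => ?_) hwσ
    rw [coe_graphSL, Matrix.transpose_apply, hwinv]
    exact hwσ j i fun h' => h (by rw [h']; simp)
  have hγw : γ * ι w * γ⁻¹ = ι w := by
    rw [hγ, hwT]; congr 1; group
  have hγ2 : γ * γ = 1 := hcent _ fun M => by
    have h2 : (γ * γ) * ι M * (γ * γ)⁻¹ = ι M := by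
      calc (γ * γ) * ι M * (γ * γ)⁻¹ = γ * (γ * ι M * γ⁻¹) * γ⁻¹ := by group
        _ = ι M := by
          rw [hγ, hγ]
          congr 1
          rw [map_mul, map_mul, map_inv, hwT]
          rw [show graphSL (graphSL M) = M from graphSL.left_inv M]
          rw [hwinv]
          calc w * (w * M * w) * w = (w * w) * M * (w * w) := by group
            _ = M := by rw [show w * w = 1 from inv_eq_iff_mul_eq_one.1 hwinv, one_mul, mul_one]
    exact (mul_inv_eq_iff_eq_mul.1 h2)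
  have hγ1 : γ ≠ 1 := fun h => by
    refine hgN ?_
    rw [hγdef, mul_eq_one_iff_inv_eq] at h
    rw [← h]
    exact inv_mem (hιmem _)
  -- the upper triangular group is normalised by `γ`
  have hB : ∀ M ∈ B n (ZMod 2), w * graphSL M * w⁻¹ ∈ B n (ZMod 2) := by
    intro M hM
    rw [mem_B]
    intro i j hji
    rw [hwinv]
    have e : (w * graphSL M * w : SL) = w⁻¹ * graphSL M * w := by rw [hwinv]
    rw [e, Matrix.SpecialLinearGroup.coe_mul, Matrix.SpecialLinearGroup.coe_mul, conj_apply hwσ, coe_graphSL,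
      Matrix.transpose_apply, mem_B.1 (inv_mem hM) (Fin.revPerm j) (Fin.revPerm i) (by simpa using hji),
      mul_zero, zero_mul]
  let U : Subgroup G := (B n (ZMod 2)).map ι
  have hUp : IsPGroup 2 U := by
    have hBU : B n (ZMod 2) = Cfsg.Lib.SLBN.U n (ZMod 2) :=
      le_antisymm (fun M hM => mem_U.2 ⟨hM, fun i => zmod2_eq_one (diag_ne_zero hM i)⟩) fun M hM => hM.1
    show IsPGroup 2 ((B n (ZMod 2)).map ι)
    refine IsPGroup.map (IsPGroup.of_card
      (n := Nat.card {p : Fin n × Fin n // p.1 < p.2}) ?_) _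
    rw [hBU, card_U, Nat.card_zmod]
  have hγU : Subgroup.zpowers γ ≤ Subgroup.normalizer (U : Set G) := by
    refine Subgroup.zpowers_le.2 (Subgroup.mem_normalizer_fintype fun u hu => ?_)
    obtain ⟨M, hM, rfl⟩ := hu
    exact ⟨_, hB M hM, (hγ M).symm⟩
  have hγp : IsPGroup 2 (Subgroup.zpowers γ) := IsPGroup.of_card (n := 1) (by
    rw [Nat.card_zpowers, orderOf_eq_prime (by rw [pow_two]; exact hγ2) hγ1, pow_one])
  obtain ⟨H0, hH0⟩ := (hγp.to_sup_of_normal_right' hUp hγU).exists_le_sylow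
  have hγH : γ ∈ (H0 : Subgroup G) := hH0 (Subgroup.mem_sup_left (Subgroup.mem_zpowers γ))
  have hUH : ∀ M ∈ B n (ZMod 2), ι M ∈ (H0 : Subgroup G) := fun M hM =>
    hH0 (Subgroup.mem_sup_right (Subgroup.mem_map_of_mem ι hM))
  -- every conjugate of `H0` meets it
  have hN : ∀ m : SL, ∃ t ∈ (H0 : Subgroup G), t ≠ 1 ∧ (ι m)⁻¹ * t * ι m ∈ (H0 : Subgroup G) := by
    intro m
    obtain ⟨v, hv, hm⟩ := Cfsg.Lib.BN.bruhat (pair n (ZMod 2)) m
    obtain ⟨b, hb, b', hb', rfl⟩ := Cfsg.Lib.BN.mem_dc.1 hm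
    obtain ⟨σ, hσ⟩ := mem_N.1 hv
    have hbH := hUH b hb
    have hb'H := hUH b' hb'
    suffices ∃ t ∈ (H0 : Subgroup G), t ≠ 1 ∧ (ι v)⁻¹ * t * ι v ∈ (H0 : Subgroup G) by
      obtain ⟨t, ht, ht1, htv⟩ := this
      refine ⟨ι b * t * (ι b)⁻¹, mul_mem (mul_mem hbH ht) (inv_mem hbH), fun h => ht1 ?_, ?_⟩
      · rwa [conj_eq_one_iff] at h
      · rw [map_mul, map_mul, show (ι b * ι v * ι b')⁻¹ * (ι b * t * (ι b)⁻¹) * (ι b * ι v * ι b') =
          (ι b')⁻¹ * ((ι v)⁻¹ * t * ι v) * ι b' by group]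
        exact mul_mem (mul_mem (inv_mem hb'H) htv) hb'H
    by_cases hrev : ∃ i j : Fin n, i < j ∧ σ i < σ j
    · obtain ⟨i, j, hij, hσij⟩ := hrev
      obtain ⟨t, ht1, htB, htw⟩ := root_in_both hσ hij hσij
      refine ⟨ι t, hUH t htB, fun h => ht1 (hι (by rw [h, map_one])), ?_⟩
      rw [← map_inv, ← map_mul, ← map_mul]
      exact hUH _ htw
    · push Not at hrev
      have hanti : StrictAnti σ := fun i j hij =>
        lt_of_le_of_ne (hrev i j hij) fun h => hij.ne (σ.injective h).symm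
      have hσrev : σ = Fin.revPerm := by
        have h1 : StrictMono (fun i : Fin n => σ i.rev) := fun i j hij => hanti (Fin.rev_lt_rev.2 hij)
        have h2 : (fun i : Fin n => σ i.rev) = id := (StrictMono.range_inj h1 strictMono_id).1
          (by
            rw [Set.range_id]
            exact (σ.surjective.comp Fin.rev_surjective).range_eq)
        ext i
        have := congrFun h2 i.rev
        simp only [Fin.rev_rev, id] at this
        rw [this, Fin.revPerm_apply]
      subst hσrev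
      obtain rfl : v = w := perm_unique hσ hwσ
      refine ⟨γ, hγH, hγ1, ?_⟩
      rw [mul_assoc, show γ * ι v = ι v * γ from mul_inv_eq_iff_eq_mul.1 hγw, inv_mul_cancel_left]
      exact hγH
  -- reduce to `H0`
  obtain ⟨c, rfl⟩ := MulAction.exists_smul_eq G H0 H
  have hall : ∀ d : G, ∃ t ∈ (H0 : Subgroup G), t ≠ 1 ∧ d⁻¹ * t * d ∈ (H0 : Subgroup G) := by
    intro d
    by_cases hd : d ∈ N
    · obtain ⟨M, rfl⟩ := hιN d hd
      exact hN M
    · obtain ⟨M, hM⟩ := hιN (d * γ) ((Subgroup.mul_mem_iff_of_index_two hidx).2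
        (iff_of_false hd fun h => hgN (by
          rw [hγdef] at h
          exact (N.mul_mem_cancel_left (hιmem _)).1 h)))
      obtain ⟨t, ht, ht1, ht'⟩ := hN M
      refine ⟨t, ht, ht1, ?_⟩
      rw [hM] at ht'
      have := mul_mem (mul_mem hγH ht') (inv_mem hγH)
      rwa [show γ * ((d * γ)⁻¹ * t * (d * γ)) * γ⁻¹ = d⁻¹ * t * d by group] at this
  obtain ⟨t, ht, ht1, htd⟩ := hall (c⁻¹ * x * c)
  rw [Subgroup.ne_bot_iff_exists_ne_one]
  refine ⟨⟨c * t * c⁻¹, ?_, ?_⟩, fun h => ht1 (conj_eq_one_iff.1 (congrArg Subtype.val h))⟩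
  · rw [Sylow.coe_subgroup_smul]
    exact Subgroup.mem_pointwise_smul_iff_inv_smul_mem.2 (by
      show (MulAut.conj c)⁻¹ (c * t * c⁻¹) ∈ H0
      rw [← map_inv, MulAut.conj_apply]
      rwa [show c⁻¹ * (c * t * c⁻¹) * (c⁻¹)⁻¹ = t by group])
  · rw [Sylow.coe_subgroup_smul]
    refine Subgroup.mem_pointwise_smul_iff_inv_smul_mem.2 ?_
    show (MulAut.conj x)⁻¹ (c * t * c⁻¹) ∈ MulAut.conj c • (H0 : Subgroup G)
    refine Subgroup.mem_pointwise_smul_iff_inv_smul_mem.2 ?_
    show (MulAut.conj c)⁻¹ ((MulAut.conj x)⁻¹ (c * t * c⁻¹)) ∈ H0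
    rw [← map_inv, ← map_inv, MulAut.conj_apply, MulAut.conj_apply]
    rwa [show c⁻¹ * (x⁻¹ * (c * t * c⁻¹) * (x⁻¹)⁻¹) * (c⁻¹)⁻¹ = (c⁻¹ * x * c)⁻¹ * t * (c⁻¹ * x * c) by group]

end Cfsg.Agent.S2486
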