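import Cfsg.Statements.S2487
import Cfsg.Agent.Known.OPlusTwo

set_option autoImplicit false
open scoped Pointwise
open Cfsg Pointwise

namespace Cfsg.Agent.S2487

open Matrix Cfsg.Lib.OPlusTwo

theorem plus (m : ℕ) : Plus (Cfsg.quadFormPlus m (ZMod 2)) m := by
  classical
  have hB : ∀ v w : Fin m ⊕ Fin m → ZMod 2, B (Cfsg.quadFormPlus m (ZMod 2)) v w =
      ∑ i : Fin m, (v (.inl i) * w (.inr i) + w (.inl i) * v (.inr i)) := by
    intro v w
    simp only [B, Cfsg.quadFormPlus, Pi.add_apply, ← Finset.sum_add_distrib]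
    refine Finset.sum_congr rfl fun i _ => ?_
    linear_combination z2 (v (.inl i) * v (.inr i)) + z2 (w (.inl i) * w (.inr i))
  refine ⟨by simp [Cfsg.quadFormPlus], fun u v w => ?_, fun v hv => ?_, ?_, ?_⟩
  · rw [hB, hB, hB, ← Finset.sum_add_distrib]
    refine Finset.sum_congr rfl fun i _ => ?_
    simp only [Pi.add_apply]
    ring
  · obtain ⟨j, hj⟩ := Function.ne_iff.1 hv
    rcases j with j | j
    · refine ⟨Pi.single (.inr j) 1, ?_⟩
      rw [hB, Finset.sum_eq_single j]
      · have : v (.inl j) = 1 := (zmod_cases _).resolve_left hj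
        simp [this]
      · intro i _ hi
        simp [Pi.single_apply, hi]
      · simp
    · refine ⟨Pi.single (.inl j) 1, ?_⟩
      rw [hB, Finset.sum_eq_single j]
      · have : v (.inr j) = 1 := (zmod_cases _).resolve_left hj
        simp [this]
      · intro i _ hi
        simp [Pi.single_apply, hi]
      · simp
  · rw [Nat.card_fun, Nat.card_zmod, Nat.card_sum, Nat.card_fin, show (4 : ℕ) = 2 ^ 2 by norm_num, ← pow_mul]
    congr 1
    omega
  · rw [finsum_eq_sum_of_fintype]
    have hχ : ∀ (f : Fin m → ZMod 2), χ (∑ i, f i) = ∏ i, χ (f i) := by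
      intro f
      induction (Finset.univ : Finset (Fin m)) using Finset.induction_on with
      | empty => rfl
      | insert a s ha ih => rw [Finset.sum_insert ha, Finset.prod_insert ha, χ_add, ih]
    simp only [Cfsg.quadFormPlus, hχ]
    rw [← Equiv.sum_comp ((Equiv.arrowProdEquivProdArrow (Fin m) (fun _ => ZMod 2) (fun _ => ZMod 2)).trans
      (Equiv.sumArrowEquivProdArrow (Fin m) (Fin m) (ZMod 2)).symm)]
    simp only [Equiv.trans_apply, Equiv.sumArrowEquivProdArrow_symm_apply_inl,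
      Equiv.sumArrowEquivProdArrow_symm_apply_inr, Equiv.arrowProdEquivProdArrow_apply]
    rw [← Fintype.piFinset_univ, ← Finset.prod_univ_sum (fun _ : Fin m => (Finset.univ : Finset (ZMod 2 × ZMod 2))) (fun _ ab => χ (ab.1 * ab.2))]
    rw [Finset.prod_const, Finset.card_univ, Fintype.card_fin]
    congr 1

/-- Let m ≥ 4 and let G be the full isometry group of the hyperbolic quadratic form x₁y₁ + ⋯ + x_m y_m on the 2m-dimensional space over the field with 2 elements (the orthogonal group O⁺(2m,2), which contains Ω⁺(2m,2) with index 2). Then any two Sylow 2-subgroups of G have a non-trivial intersection: for a Sylow 2-subgroup H and every x ∈ G, H ∩ H^x ≠ 1. -/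
theorem result {F : Type*} [Field F] [Fintype F] (hF : Fintype.card F = 2) {m : ℕ} (hm : 4 ≤ m)
    (H : Sylow 2 (Cfsg.isometryGroup F (Cfsg.quadFormPlus m F)))
    (x : Cfsg.isometryGroup F (Cfsg.quadFormPlus m F)) :
    (H : Subgroup (Cfsg.isometryGroup F (Cfsg.quadFormPlus m F))) ⊓ MulAut.conj x • (H : Subgroup _) ≠ ⊥ := by
  classical
  haveI : Fact (Nat.Prime 2) := ⟨Nat.prime_two⟩
  let ι := Fin m ⊕ Fin m
  let ε : F ≃+* ZMod 2 := (ZMod.ringEquivOfPrime F Nat.prime_two hF).symm
  let Ψ : GL ι F ≃* ((ι → ZMod 2) ≃ₗ[ZMod 2] (ι → ZMod 2)) :=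
    ((Units.mapEquiv (ε.mapMatrix (m := ι)).toMulEquiv).trans Matrix.GeneralLinearGroup.toLin).trans
      (LinearMap.GeneralLinearGroup.generalLinearEquiv (ZMod 2) (ι → ZMod 2))
  have hΨ : ∀ (g : GL ι F) (v : ι → F), Ψ g (ε ∘ v) = ε ∘ ((g : Matrix ι ι F) *ᵥ v) := by
    intro g v
    funext i
    show ((g : Matrix ι ι F).map ε *ᵥ (ε ∘ v)) i = ε (((g : Matrix ι ι F) *ᵥ v) i)
    exact (RingHom.map_mulVec ε.toRingHom (g : Matrix ι ι F) v i).symm
  have hQ : ∀ v : ι → F, Cfsg.quadFormPlus m (ZMod 2) (ε ∘ v) = ε (Cfsg.quadFormPlus m F v) := fun v => by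
    simp [Cfsg.quadFormPlus, map_sum, map_mul]
  have hiff : ∀ g : GL ι F, g ∈ Cfsg.isometryGroup F (Cfsg.quadFormPlus m F) ↔
      Ψ g ∈ Iso (Cfsg.quadFormPlus m (ZMod 2)) := by
    intro g
    constructor
    · intro hg v
      have e : v = ε ∘ (ε.symm ∘ v) := by funext i; simp
      rw [e, hΨ, hQ, hQ]
      exact congrArg ε (hg (ε.symm ∘ v) 0)
    · intro hg u _
      have h := hg (ε ∘ u)
      rw [hΨ, hQ, hQ] at h
      exact ε.injective h
  let f : Cfsg.isometryGroup F (Cfsg.quadFormPlus m F) →* Iso (Cfsg.quadFormPlus m (ZMod 2)) :=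
    { toFun := fun g => ⟨Ψ g.1, (hiff g.1).1 g.2⟩
      map_one' := Subtype.ext (map_one Ψ)
      map_mul' := fun a b => Subtype.ext (map_mul Ψ a.1 b.1) }
  have hfi : Function.Injective f := fun a b h => Subtype.ext (Ψ.injective (congrArg Subtype.val h))
  have hfs : Function.Surjective f := fun h =>
    ⟨⟨Ψ.symm h.1, (hiff _).2 (by rw [Ψ.apply_symm_apply]; exact h.2)⟩, Subtype.ext (Ψ.apply_symm_apply h.1)⟩
  have hne := Cfsg.Lib.OPlusTwo.main m (by omega) _ _ (plus m) (H.mapSurjective hfs)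
    ((x • H).mapSurjective hfs)
  rw [Sylow.coe_mapSurjective, Sylow.coe_mapSurjective, Sylow.coe_subgroup_smul,
    ← Subgroup.map_inf _ _ f hfi] at hne
  exact fun h => hne (by rw [h, Subgroup.map_bot])

end Cfsg.Agent.S2487
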