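import Cfsg.Statements.S2490
import Cfsg.Agent.Small.OrderSieve

set_option autoImplicit false
open Cfsg

namespace Cfsg.Agent.S2490

universe u

open MulAction Cfsg.Lib.Small Cfsg.Lib.Small.Sieve
open scoped Pointwise

/-- The orders of simple groups are excluded. -/
theorem table : ((List.range 720).all fun m =>
    decide (m = 0) || decide (720 % m ≠ 0) || decide (m = 60) ||
      kill [(132, 11), (264, 11), (396, 11), (528, 11), (792, 11), (1320, 11), (1584, 11), (1980, 11),
        (2640, 11), (3960, 11)] [] (11 * m)) = true := by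
  decide +kernel

/-- The prime divisors of `7920`. -/
theorem primes (r : ℕ) (hr : r.Prime) (h : r ∣ 7920) : r = 2 ∨ r = 3 ∨ r = 5 ∨ r = 11 := by
  rw [show 7920 = 2 ^ 4 * 3 ^ 2 * 5 * 11 by norm_num] at h
  rcases hr.dvd_mul.1 h with h | h
  · rcases hr.dvd_mul.1 h with h | h
    · rcases hr.dvd_mul.1 h with h | h
      · exact Or.inl ((Nat.prime_dvd_prime_iff_eq hr Nat.prime_two).1 (hr.dvd_of_dvd_pow h))
      · exact Or.inr (Or.inl ((Nat.prime_dvd_prime_iff_eq hr Nat.prime_three).1 (hr.dvd_of_dvd_pow h)))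
    · exact Or.inr (Or.inr (Or.inl ((Nat.prime_dvd_prime_iff_eq hr (by norm_num)).1 h)))
  · exact Or.inr (Or.inr (Or.inr ((Nat.prime_dvd_prime_iff_eq hr (by norm_num)).1 h)))

/-- The prime powers dividing `7920`. -/
theorem prime_powers (r k : ℕ) (hr : r.Prime) (h : r ^ k ∣ 7920) :
    r ^ k ∈ [1, 2, 4, 8, 16, 3, 9, 5, 11] := by
  rcases Nat.eq_zero_or_pos k with rfl | hk
  · simp
  have hb : ∀ j, ¬ r ^ j ∣ 7920 → k < j := fun j hn => by
    by_contra hge
    exact hn ((pow_dvd_pow r (not_lt.1 hge)).trans h)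
  rcases primes r hr ((dvd_pow_self r hk.ne').trans h) with rfl | rfl | rfl | rfl
  · have := hb 5 (by norm_num)
    interval_cases k <;> simp
  · have := hb 3 (by norm_num)
    interval_cases k <;> simp
  all_goals
    have := hb 2 (by norm_num)
    interval_cases k
    simp

section Fix

variable {H : Type u} [Group H] [Finite H]

/-- The number of elements of a subgroup commuting with a normalising element of prime order. -/
theorem card_fixed (R : Subgroup H) {s : ℕ} (hs : s.Prime) {y : H} (hy : orderOf y = s)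
    (hn : y ∈ Subgroup.normalizer (R : Set H)) :
    Nat.card ↥R % s = Nat.card ↥(R ⊓ Subgroup.centralizer ({y} : Set H) : Subgroup H) % s := by
  have := Fact.mk hs
  have hle : Subgroup.zpowers y ≤ Subgroup.normalizer (R : Set H) := Subgroup.zpowers_le.2 hn
  let φ : ↥(Subgroup.zpowers y) →* MulAut ↥R := (Subgroup.normalizerMonoidHom R).comp (Subgroup.inclusion hle)
  let _ : MulAction ↥(Subgroup.zpowers y) ↥R := MulAction.compHom _ φ
  have hp : IsPGroup s ↥(Subgroup.zpowers y) :=
    IsPGroup.of_card (n := 1) (by rw [Nat.card_zpowers, hy, pow_one])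
  have h1 := hp.card_modEq_card_fixedPoints ↥R
  have hval : ∀ (g : ↥(Subgroup.zpowers y)) (r : ↥R), ((g • r : ↥R) : H) = (g : H) * r * (g : H)⁻¹ :=
    fun g r => rfl
  have e : Nat.card ↥(fixedPoints ↥(Subgroup.zpowers y) ↥R) =
      Nat.card ↥(R ⊓ Subgroup.centralizer ({y} : Set H) : Subgroup H) := by
    refine Nat.card_congr ⟨fun r => ⟨(r : ↥R), (r : ↥R).2, ?_⟩, fun r => ⟨⟨r, r.2.1⟩, ?_⟩,
      fun r => rfl, fun r => rfl⟩
    · have h2 : ((⟨y, Subgroup.mem_zpowers y⟩ : ↥(Subgroup.zpowers y)) • (r : ↥R) : ↥R) = r := r.2 _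
      have h3 := congrArg Subtype.val h2
      rw [hval] at h3
      exact Subgroup.mem_centralizer_singleton_iff.2 (mul_inv_eq_iff_eq_mul.1 h3).symm
    · intro g
      apply Subtype.ext
      rw [hval]
      obtain ⟨i, hi⟩ := Subgroup.mem_zpowers_iff.1 g.2
      have hc : Commute y (r : H) := (Subgroup.mem_centralizer_singleton_iff.1 r.2.2).symm
      rw [← hi, (hc.zpow_left i).eq, mul_inv_cancel_right]
  rw [e] at h1
  exact h1

/-- A normalising element of prime order centralises a subgroup of suitable order. -/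
theorem le_centralizer_of_mod (R : Subgroup H) {s : ℕ} (hs : s.Prime) {y : H} (hy : orderOf y = s)
    (hn : y ∈ Subgroup.normalizer (R : Set H))
    (hd : ∀ d ≤ Nat.card ↥R, d ∣ Nat.card ↥R → d % s = Nat.card ↥R % s → d = Nat.card ↥R) :
    R ≤ Subgroup.centralizer ({y} : Set H) := by
  refine inf_eq_left.1 (Subgroup.eq_of_le_of_card_ge inf_le_left (le_of_eq ?_))
  exact (hd _ (Nat.le_of_dvd Nat.card_pos (Subgroup.card_dvd_of_le inf_le_left))
    (Subgroup.card_dvd_of_le inf_le_left) (card_fixed R hs hy hn).symm).symm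

end Fix

variable {G : Type u} [Group G] [Finite G]

section

variable (hord : Nat.card G = 7920) {S : ℕ → Prop}
  (hall : S 2 → S 3 → S 5 → S 11 → False) (hnone : ¬ S 2 → ¬ S 3 → ¬ S 5 → ¬ S 11 → False)
  (hjoin : ∀ r s : ℕ, r.Prime → s.Prime → r ≠ s → ∀ a b : G, orderOf a = r → orderOf b = s →
    a * b = b * a → (S r ↔ S s))
include hord hall hnone hjoin

omit hord in
theorem not_connected (h2 : S 2 ↔ S 11) (h3 : S 3 ↔ S 11) (h5 : S 5 ↔ S 11) : False := by
  by_cases h : S 11
  · exact hall (h2.2 h) (h3.2 h) (h5.2 h) h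
  · exact hnone (mt h2.1 h) (mt h3.1 h) (mt h5.1 h) h

omit hord hall hnone in
/-- Primes dividing the orders of commuting subgroups are joined. -/
theorem join_of_le {U V : Subgroup G} (hUV : U ≤ Subgroup.centralizer (V : Set G)) {r s : ℕ}
    (hr : r.Prime) (hs : s.Prime) (hrs : r ≠ s) (hrU : r ∣ Nat.card ↥U) (hsV : s ∣ Nat.card ↥V) :
    S r ↔ S s := by
  have := Fact.mk hr
  have := Fact.mk hs
  obtain ⟨a, ha⟩ := exists_prime_orderOf_dvd_card' r hrU
  obtain ⟨b, hb⟩ := exists_prime_orderOf_dvd_card' s hsV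
  exact hjoin r s hr hs hrs (a : G) (b : G) (by rw [Subgroup.orderOf_coe, ha])
    (by rw [Subgroup.orderOf_coe, hb]) (Subgroup.mem_centralizer_iff.1 (hUV a.2) b b.2).symm

/-- There is no normal subgroup of order eleven. -/
theorem not_normal_eleven (P : Subgroup G) [P.Normal] (hP : Nat.card ↥P = 11) : False := by
  have : Fact (Nat.Prime 11) := ⟨by norm_num⟩
  set C := Subgroup.centralizer (P : Set G) with hC
  have hidx : C.index ∣ 10 := by
    rw [← Subgroup.relIndex_top_right]
    exact relIndex_centralizer_dvd (p := 11) hP (le_of_eq (Subgroup.normalizer_eq_top _).symm)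
  have hci := Subgroup.card_mul_index C
  rw [hord] at hci
  obtain ⟨k, hk⟩ := hidx
  have hC792 : 792 ∣ Nat.card ↥C := by
    refine ⟨k, Nat.eq_of_mul_eq_mul_right (show 0 < C.index from
      Nat.pos_of_ne_zero Subgroup.index_ne_zero_of_finite) ?_⟩
    rw [hci, mul_assoc, mul_comm k, ← hk]; norm_num
  have h11P : 11 ∣ Nat.card ↥P := dvd_of_eq hP.symm
  have h2 : S 2 ↔ S 11 := join_of_le hjoin (le_refl C) Nat.prime_two (by norm_num) (by norm_num)
    ((show 2 ∣ 792 by norm_num).trans hC792) h11P
  have h3 : S 3 ↔ S 11 := join_of_le hjoin (le_refl C) Nat.prime_three (by norm_num) (by norm_num)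
    ((show 3 ∣ 792 by norm_num).trans hC792) h11P
  have h5C : ¬ 5 ∣ Nat.card ↥C := fun h => not_connected hall hnone hjoin h2 h3
    (join_of_le hjoin (le_refl C) (by norm_num) (by norm_num) (by norm_num) h h11P)
  have : Fact (Nat.Prime 5) := ⟨by norm_num⟩
  obtain ⟨y, hy⟩ := exists_prime_orderOf_dvd_card' (G := G) 5 (by rw [hord]; norm_num)
  have hfix := card_fixed C (by norm_num : Nat.Prime 5) hy
    (show y ∈ Subgroup.normalizer (C : Set G) by
      rw [hC, Subgroup.normalizer_eq_top]
      trivial)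
  have hbot : C ⊓ Subgroup.centralizer ({y} : Set G) = ⊥ := by
    by_contra hne
    obtain ⟨r, hr, hrd⟩ := Nat.exists_prime_and_dvd (fun e => hne (Subgroup.card_eq_one.1 e))
    have hrC : r ∣ Nat.card ↥C := hrd.trans (Subgroup.card_dvd_of_le inf_le_left)
    have hr5 : r ≠ 5 := fun e => h5C (e ▸ hrC)
    have h := join_of_le hjoin (U := C ⊓ Subgroup.centralizer ({y} : Set G))
      (V := Subgroup.zpowers y) (by
        rw [← Subgroup.le_centralizer_iff, Subgroup.zpowers_le]
        exact Subgroup.mem_centralizer_iff.2 fun u hu => Subgroup.mem_centralizer_singleton_iff.1 hu.2)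
      hr (by norm_num : Nat.Prime 5) hr5 hrd (by rw [Nat.card_zpowers, hy])
    rcases primes r hr (hord ▸ hrd.trans (Subgroup.card_subgroup_dvd_card _)) with rfl | rfl | rfl | rfl
    · exact not_connected hall hnone hjoin h2 h3 (h.symm.trans h2)
    · exact not_connected hall hnone hjoin h2 h3 (h.symm.trans h3)
    · exact hr5 rfl
    · exact not_connected hall hnone hjoin h2 h3 h.symm
  rw [hbot, Subgroup.card_bot] at hfix
  obtain ⟨j, hj⟩ := hC792
  rw [hj] at h5C hfix hci
  have hjd : j ∣ 10 := ⟨C.index, Nat.eq_of_mul_eq_mul_left (show 0 < 792 by norm_num)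
    (by rw [← mul_assoc]; omega)⟩
  have hjle := Nat.le_of_dvd (by norm_num) hjd
  interval_cases j <;> omega

/-- A normal subgroup of order `r ^ k` is impossible. -/
theorem not_normal_prime_power (N : Subgroup G) [N.Normal] (hNc : IsMulCommutative ↥N) {r k : ℕ} (hr : r.Prime) (hk : 0 < k)
    (hN : Nat.card ↥N = r ^ k) : False := by
  have hdvd : r ^ k ∣ 7920 := by rw [← hN, ← hord]; exact Subgroup.card_subgroup_dvd_card N
  set C := Subgroup.centralizer (N : Set G) with hC
  have hrN : r ∣ Nat.card ↥N := hN ▸ dvd_pow_self r hk.ne'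
  have hjoinC : ∀ {s : ℕ}, s.Prime → s ≠ r → s ∣ Nat.card ↥C → (S s ↔ S r) :=
    fun hs hsr hd => join_of_le hjoin (le_refl C) hs hr hsr hd hrN
  have hcent : ∀ {s : ℕ}, s.Prime → s ∣ 7920 →
      (∀ d ≤ Nat.card ↥N, d ∣ Nat.card ↥N → d % s = Nat.card ↥N % s → d = Nat.card ↥N) →
      s ∣ Nat.card ↥C := by
    intro s hs hsd hmod
    have := Fact.mk hs
    obtain ⟨y, hy⟩ := exists_prime_orderOf_dvd_card' (G := G) s (hord ▸ hsd)
    have h := le_centralizer_of_mod N hs hy (by rw [Subgroup.normalizer_eq_top]; trivial) hmod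
    rw [← hy, ← Nat.card_zpowers]
    refine Subgroup.card_dvd_of_le (Subgroup.zpowers_le.2 (Subgroup.mem_centralizer_iff.2 fun u hu => ?_))
    exact Subgroup.mem_centralizer_singleton_iff.1 (h hu)
  have h11 : Fact (Nat.Prime 11) := ⟨by norm_num⟩
  -- a normal Sylow subgroup inside the centralizer
  have hnormal : ∀ c : ℕ, Nat.card ↥C = 11 * c → ¬ 11 ∣ c →
      (∀ n, n ∣ c → n % 11 = 1 → (Nat.card ↥(N ⊓ C : Subgroup G)) * (n * 11) ∣ Nat.card ↥C → n = 1) → False := by
    intro c hc h11c hn
    obtain ⟨P⟩ : Nonempty (Sylow 11 ↥C) := inferInstance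
    have hP : Nat.card ↥(P : Subgroup ↥C) = 11 :=
      (card_sylow_of_factor P (a := 1) (m := c) (by rw [hc, pow_one]) h11c).trans (pow_one _)
    obtain ⟨h1, h2⟩ := sylow_facts P (a := 1) (m := c) (by rw [hc, pow_one]) h11c
    have hNZ : (N ⊓ C : Subgroup G).subgroupOf C ≤ Subgroup.normalizer ((P : Subgroup ↥C) : Set ↥C) := by
      intro u hu
      refine Subgroup.centralizer_le_normalizer _ (Subgroup.mem_centralizer_iff.2 fun v _ => Subtype.ext ?_)
      exact (Subgroup.mem_centralizer_iff.1 v.2 u (Subgroup.mem_inf.1 hu).1).symm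
    have h3 : Nat.card ↥(N ⊓ C : Subgroup G) * (Nat.card (Sylow 11 ↥C) * 11) ∣ Nat.card ↥C := by
      have hcop : (Nat.card ↥(N ⊓ C : Subgroup G)).Coprime 11 := by
        refine Nat.Coprime.coprime_dvd_left (Subgroup.card_dvd_of_le inf_le_left) ?_
        rw [hN]
        refine Nat.Coprime.pow_left k ((Nat.coprime_primes hr (by norm_num)).2 fun e => ?_)
        subst e
        have hk1 : k < 2 := by
          by_contra h
          have := (pow_dvd_pow 11 (not_lt.1 h)).trans hdvd
          norm_num at this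
        interval_cases k
        exact not_normal_eleven hord hall hnone hjoin N hN
      have h4 : Nat.card ↥(N ⊓ C : Subgroup G) * 11 ∣
          Nat.card ↥(Subgroup.normalizer ((P : Subgroup ↥C) : Set ↥C)) := by
        refine hcop.mul_dvd_of_dvd_of_dvd ?_ ((dvd_of_eq hP.symm).trans (Subgroup.card_dvd_of_le Subgroup.le_normalizer))
        rw [← Nat.card_congr (Subgroup.subgroupOfEquivOfLe (inf_le_right : N ⊓ C ≤ C)).toEquiv]
        exact Subgroup.card_dvd_of_le hNZ
      rw [← card_normalizer_mul P, ← mul_assoc, mul_comm (Nat.card ↥(N ⊓ C : Subgroup G)) (Nat.card (Sylow 11 ↥C)),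
        mul_assoc, mul_comm (Nat.card ↥(Subgroup.normalizer _))]
      exact mul_dvd_mul_left _ h4
    have h5 := hn _ h1 h2 h3
    have : Subsingleton (Sylow 11 ↥C) := (Nat.card_eq_one_iff_unique.1 h5).1
    have hPn := Sylow.normal_of_subsingleton P
    have : (P : Subgroup ↥C).Characteristic := P.characteristic_of_normal hPn
    have hCn : C.Normal := inferInstance
    exact not_normal_eleven hord hall hnone hjoin ((P : Subgroup ↥C).map C.subtype)
      (by rw [← Nat.card_congr ((P : Subgroup ↥C).equivMapOfInjective C.subtype C.subtype_injective).toEquiv, hP])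
  have hci := Subgroup.card_mul_index C
  rw [hord] at hci
  have hCd : Nat.card ↥C ∣ 7920 := Dvd.intro _ hci
  have hle : N ≤ C := fun u hu => Subgroup.mem_centralizer_iff.2 fun v hv =>
    congrArg Subtype.val (hNc.is_comm.comm ⟨v, hv⟩ ⟨u, hu⟩)
  rcases primes r hr ((dvd_pow_self r hk.ne').trans hdvd) with rfl | rfl | rfl | rfl
  · -- r = 2
    have hk5 : k < 5 := by
      by_contra h
      have := (pow_dvd_pow 2 (not_lt.1 h)).trans hdvd
      norm_num at this
    have hC11 : 11 ∣ Nat.card ↥C := hcent (by norm_num) (by norm_num) (by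
      rw [hN]; interval_cases k <;> decide +kernel)
    have j11 := hjoinC (by norm_num : Nat.Prime 11) (by norm_num) hC11
    rcases (show k < 4 ∨ k = 4 by omega) with hk4 | rfl
    · have hC5 : 5 ∣ Nat.card ↥C := hcent (by norm_num) (by norm_num) (by
        rw [hN]; interval_cases k <;> decide +kernel)
      have j5 := hjoinC (by norm_num : Nat.Prime 5) (by norm_num) hC5
      suffices j3 : S 3 ↔ S 2 from
        not_connected hall hnone hjoin j11.symm (j3.trans j11.symm) (j5.trans j11.symm)
      by_cases hk2 : k = 2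
      · subst hk2
        refine hjoinC Nat.prime_three (by norm_num) ?_
        have hidx : C.index ∣ 24 := by
          rw [← Subgroup.relIndex_top_right, Subgroup.relIndex, hC]
          have hker : (Subgroup.centralizer (N : Set G)).subgroupOf ⊤ =
              ((MulAut.toPerm ↥N).comp (MulAut.conjNormal.comp (⊤ : Subgroup G).subtype)).ker := by
            ext g
            rw [Subgroup.mem_subgroupOf, MonoidHom.mem_ker, Subgroup.mem_centralizer_iff, Equiv.ext_iff]
            refine ⟨fun h u => Subtype.ext ?_, fun h u hu => ?_⟩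
            · change (g : G) * u * (g : G)⁻¹ = u
              rw [← h u u.2, mul_inv_cancel_right]
            · have h1 : (g : G) * u * (g : G)⁻¹ = u := congrArg Subtype.val (h ⟨u, hu⟩)
              exact (mul_inv_eq_iff_eq_mul.1 h1).symm
          rw [hker, Subgroup.index_ker]
          refine (Subgroup.card_subgroup_dvd_card _).trans ?_
          rw [Nat.card_perm, hN]
          decide
        obtain ⟨j, hj⟩ := hidx
        exact (show 3 ∣ 330 by norm_num).trans ⟨j, Nat.eq_of_mul_eq_mul_right
          (Nat.pos_of_ne_zero Subgroup.index_ne_zero_of_finite) (by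
            rw [hci, mul_assoc, mul_comm j, ← hj]; norm_num)⟩
      · have : Fact (Nat.Prime 3) := ⟨Nat.prime_three⟩
        obtain ⟨y, hy⟩ := exists_prime_orderOf_dvd_card' (G := G) 3 (hord ▸ by norm_num)
        have hfix := card_fixed N Nat.prime_three hy (by rw [Subgroup.normalizer_eq_top]; trivial)
        set F := N ⊓ Subgroup.centralizer ({y} : Set G) with hF
        have hF1 : Nat.card ↥F ≠ 1 := fun e => by
          rw [e, hN] at hfix
          interval_cases k <;> omega
        obtain ⟨q, hq, hqd⟩ := Nat.exists_prime_and_dvd hF1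
        have hq2 : q = 2 := (Nat.prime_dvd_prime_iff_eq hq Nat.prime_two).1
          (hq.dvd_of_dvd_pow (n := k) (hN ▸ hqd.trans (Subgroup.card_dvd_of_le inf_le_left)))
        subst hq2
        exact (join_of_le hjoin (U := F) (V := Subgroup.zpowers y) (by
          rw [← Subgroup.le_centralizer_iff, Subgroup.zpowers_le]
          exact Subgroup.mem_centralizer_iff.2 fun u hu => Subgroup.mem_centralizer_singleton_iff.1 hu.2)
          Nat.prime_two Nat.prime_three (by norm_num) hqd (by rw [Nat.card_zpowers, hy])).symm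
    · obtain ⟨c, hc⟩ := hC11
      have hc11 : ¬ 11 ∣ c := fun h => by
        have := (mul_dvd_mul_left 11 h).trans (hc ▸ hCd)
        norm_num at this
      refine hnormal c hc hc11 fun n hn h1 h2 => ?_
      rw [inf_eq_left.2 hle, hN] at h2
      have h45 : n ∣ 45 := Nat.dvd_of_mul_dvd_mul_left (show 0 < 176 by norm_num)
        (show 176 * n ∣ 176 * 45 by
          rw [show 176 * n = 2 ^ 4 * (n * 11) by ring, show 176 * 45 = 7920 by norm_num]
          exact h2.trans hCd)
      by_contra hne
      have hn45 : n = 45 := by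
        have := Nat.le_of_dvd (by norm_num) h45
        obtain ⟨i, hi⟩ : ∃ i, n = 11 * i + 1 := ⟨n / 11, by omega⟩
        subst hi
        have : i ≤ 4 := by omega
        interval_cases i <;> first | rfl | omega
      subst hn45
      have h' : 45 ∣ Nat.card ↥C := hc ▸ dvd_mul_of_dvd_right hn 11
      exact not_connected hall hnone hjoin j11.symm
        ((hjoinC Nat.prime_three (by norm_num) ((show 3 ∣ 45 by norm_num).trans h')).trans j11.symm)
        ((hjoinC (by norm_num : Nat.Prime 5) (by norm_num) ((show 5 ∣ 45 by norm_num).trans h')).trans j11.symm)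
  · -- r = 3
    have hk3 : k < 3 := by
      by_contra h
      have := (pow_dvd_pow 3 (not_lt.1 h)).trans hdvd
      norm_num at this
    have hC11 : 11 ∣ Nat.card ↥C := hcent (by norm_num) (by norm_num) (by
      rw [hN]; interval_cases k <;> decide +kernel)
    have hC5 : 5 ∣ Nat.card ↥C := hcent (by norm_num) (by norm_num) (by
      rw [hN]; interval_cases k <;> decide +kernel)
    have j11 := hjoinC (by norm_num : Nat.Prime 11) (by norm_num) hC11
    have j5 := hjoinC (by norm_num : Nat.Prime 5) (by norm_num) hC5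
    have hC2 : ¬ 2 ∣ Nat.card ↥C := fun h => not_connected hall hnone hjoin
      ((hjoinC Nat.prime_two (by norm_num) h).trans j11.symm) j11.symm (j5.trans j11.symm)
    rcases (show k = 1 ∨ k = 2 by omega) with rfl | rfl
    · have : Fact (Nat.Prime 3) := ⟨Nat.prime_three⟩
      have hidx : C.index ∣ 2 := by
        rw [← Subgroup.relIndex_top_right]
        exact relIndex_centralizer_dvd (p := 3) hN (le_of_eq (Subgroup.normalizer_eq_top N).symm)
      obtain ⟨j, hj⟩ := hidx
      exact hC2 ((show 2 ∣ 3960 by norm_num).trans ⟨j, Nat.eq_of_mul_eq_mul_right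
        (Nat.pos_of_ne_zero Subgroup.index_ne_zero_of_finite) (by rw [hci, mul_assoc, mul_comm j, ← hj]; norm_num)⟩)
    · obtain ⟨c, hc⟩ := hC11
      have hc11 : ¬ 11 ∣ c := fun h => by
        have := (mul_dvd_mul_left 11 h).trans (hc ▸ hCd)
        norm_num at this
      refine hnormal c hc hc11 fun n hn h1 h2 => ?_
      rw [inf_eq_left.2 hle, hN] at h2
      have hodd : Nat.card ↥C ∣ 495 := by
        refine (Nat.Coprime.dvd_of_dvd_mul_left ?_ (show Nat.card ↥C ∣ 2 ^ 4 * 495 from hCd))
        exact Nat.Coprime.pow_right 4 ((Nat.Prime.coprime_iff_not_dvd Nat.prime_two).2 hC2).symm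
      have h5 : n ∣ 5 := Nat.dvd_of_mul_dvd_mul_left (show 0 < 99 by norm_num)
        (show 99 * n ∣ 99 * 5 by
          rw [show 99 * n = 3 ^ 2 * (n * 11) by ring, show 99 * 5 = 495 by norm_num]
          exact h2.trans hodd)
      rcases (Nat.dvd_prime (by norm_num)).1 h5 with rfl | rfl
      · rfl
      · norm_num at h1
  · -- r = 5
    have hk1 : k < 2 := by
      by_contra h
      have := (pow_dvd_pow 5 (not_lt.1 h)).trans hdvd
      norm_num at this
    interval_cases k
    have : Fact (Nat.Prime 5) := ⟨hr⟩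
    have hidx : C.index ∣ 4 := by
      rw [← Subgroup.relIndex_top_right]
      exact relIndex_centralizer_dvd (p := 5) hN (le_of_eq (Subgroup.normalizer_eq_top _).symm)
    obtain ⟨j, hj⟩ := hidx
    have h1980 : 1980 ∣ Nat.card ↥C := ⟨j, Nat.eq_of_mul_eq_mul_right
      (Nat.pos_of_ne_zero Subgroup.index_ne_zero_of_finite) (by rw [hci, mul_assoc, mul_comm j, ← hj]; norm_num)⟩
    have j11 := hjoinC (by norm_num : Nat.Prime 11) (by norm_num) ((show 11 ∣ 1980 by norm_num).trans h1980)
    exact not_connected hall hnone hjoin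
      ((hjoinC Nat.prime_two (by norm_num) ((show 2 ∣ 1980 by norm_num).trans h1980)).trans j11.symm)
      ((hjoinC Nat.prime_three (by norm_num) ((show 3 ∣ 1980 by norm_num).trans h1980)).trans j11.symm)
      j11.symm
  · have hk1 : k < 2 := by
      by_contra h
      have := (pow_dvd_pow 11 (not_lt.1 h)).trans hdvd
      norm_num at this
    interval_cases k
    exact not_normal_eleven hord hall hnone hjoin N (by rw [hN, pow_one])

/-- A solvable normal subgroup contains a normal commutative one. -/
theorem not_solvable (N : Subgroup G) [N.Normal] (hne : N ≠ ⊥) : ¬ Group.IsSolvable ↥N := by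
  intro hs
  -- the last term of the derived series
  obtain ⟨A, hAn, hA1, hAc, -⟩ : ∃ A : Subgroup G, A.Normal ∧ A ≠ ⊥ ∧ IsMulCommutative ↥A ∧ A ≤ N := by
    classical
    have hex : ∃ j, derivedSeries ↥N j = ⊥ := hs.solvable
    have h0 : Nat.find hex ≠ 0 := fun e => by
      have h := Nat.find_spec hex
      rw [e, derivedSeries_zero] at h
      exact hne ((Subgroup.eq_bot_iff_forall _).2 fun x hx =>
        congrArg Subtype.val ((Subgroup.eq_bot_iff_forall _).1 h ⟨x, hx⟩ (Subgroup.mem_top _)))
    obtain ⟨j, hj⟩ := Nat.exists_eq_succ_of_ne_zero h0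
    set D := derivedSeries ↥N j with hD
    have hD1 : D ≠ ⊥ := fun e => Nat.find_min hex (by omega) e
    have hDc : ⁅D, D⁆ = ⊥ := by
      have h := Nat.find_spec hex
      rwa [hj, derivedSeries_succ] at h
    have : D.Characteristic := derivedSeries_characteristic ↥N j
    refine ⟨D.map N.subtype, inferInstance, ?_, ⟨⟨?_⟩⟩, Subgroup.map_subtype_le D⟩
    · rw [Ne, Subgroup.map_eq_bot_iff_of_injective _ N.subtype_injective]
      exact hD1
    · rintro ⟨a, a', ha, rfl⟩ ⟨b, b', hb, rfl⟩
      have h1 := Subgroup.commutator_eq_bot_iff_le_centralizer.1 hDc ha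
      exact Subtype.ext (congrArg N.subtype (Subgroup.mem_centralizer_iff.1 h1 b' hb).symm)
  obtain ⟨r, hr, hrd⟩ := Nat.exists_prime_and_dvd (fun e => hA1 (Subgroup.card_eq_one.1 e))
  have := Fact.mk hr
  obtain ⟨R⟩ : Nonempty (Sylow r ↥A) := inferInstance
  have := hAn
  let _ : CommGroup ↥A := { (inferInstance : Group ↥A) with mul_comm := fun a b => hAc.is_comm.comm a b }
  have hRn : (R : Subgroup ↥A).Normal := inferInstance
  have : (R : Subgroup ↥A).Characteristic := R.characteristic_of_normal hRn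
  have hcard : Nat.card ↥((R : Subgroup ↥A).map A.subtype) = r ^ (Nat.card ↥A).factorization r := by
    rw [← Nat.card_congr ((R : Subgroup ↥A).equivMapOfInjective A.subtype A.subtype_injective).toEquiv]
    exact R.card_eq_multiplicity
  exact not_normal_prime_power hord hall hnone hjoin ((R : Subgroup ↥A).map A.subtype)
    ⟨⟨fun a b => Subtype.ext (congrArg Subtype.val (hAc.is_comm.comm
      ⟨a, Subgroup.map_subtype_le _ a.2⟩ ⟨b, Subgroup.map_subtype_le _ b.2⟩) : )⟩⟩ hr
    (hr.factorization_pos_of_dvd Nat.card_pos.ne' hrd) hcard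

omit hall hnone hjoin in
/-- The order of a non-solvable subgroup has at least three prime divisors. -/
theorem three_primes {M : Subgroup G} (hM : ¬ Group.IsSolvable ↥M) :
    3 ≤ (Nat.card ↥M).primeFactors.card ∧ (Nat.card ↥M).primeFactors ⊆ {2, 3, 5, 11} := by
  refine ⟨?_, fun r hr => ?_⟩
  · by_contra hlt
    push Not at hlt
    set n := Nat.card ↥M with hn
    have hn0 : n ≠ 0 := Nat.card_pos.ne'
    have hpq : ∃ p q : ℕ, p.Prime ∧ q.Prime ∧ n.primeFactors ⊆ {p, q} := by
      rcases hc : n.primeFactors.card with _ | _ | _ | k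
      · exact ⟨2, 2, Nat.prime_two, Nat.prime_two, by rw [Finset.card_eq_zero.1 hc]; simp⟩
      · obtain ⟨p, hp⟩ := Finset.card_eq_one.1 hc
        have hp' : p.Prime := (Nat.mem_primeFactors.1 (show p ∈ n.primeFactors by simp [hp])).1
        exact ⟨p, p, hp', hp', by simp [hp]⟩
      · obtain ⟨p, q, -, hpq⟩ := Finset.card_eq_two.1 hc
        exact ⟨p, q, (Nat.mem_primeFactors.1 (show p ∈ n.primeFactors by simp [hpq])).1,
          (Nat.mem_primeFactors.1 (show q ∈ n.primeFactors by simp [hpq])).1, by simp [hpq]⟩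
      · omega
    obtain ⟨p, q, hp, hq, hsub⟩ := hpq
    have hshape : ∃ a b : ℕ, n = p ^ a * q ^ b := by
      by_cases hpq' : p = q
      · subst hpq'
        refine ⟨n.factorization p, 0, ?_⟩
        rw [pow_zero, mul_one]
        conv_lhs => rw [← Nat.prod_factorization_pow_eq_self hn0]
        rw [Finsupp.prod, Nat.support_factorization]
        rcases Finset.subset_singleton_iff.1 (hsub.trans (by simp : ({p, p} : Finset ℕ) ⊆ {p})) with h | h
        · rw [h, Finset.prod_empty, show n.factorization p = 0 from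
            Finsupp.notMem_support_iff.1 (by rw [Nat.support_factorization, h]; simp), pow_zero]
        · rw [h, Finset.prod_singleton]
      · refine ⟨n.factorization p, n.factorization q, ?_⟩
        conv_lhs => rw [← Nat.prod_factorization_pow_eq_self hn0]
        rw [Finsupp.prod_of_support_subset _ (s := {p, q}) (by rw [Nat.support_factorization]; exact hsub) _
          (by simp), Finset.prod_pair hpq']
    exact hM (Cfsg.Lib.Chars.burnside_isSolvable p q hp hq ↥M hshape)
  · obtain ⟨h1, h2, -⟩ := Nat.mem_primeFactors.1 hr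
    have := primes r h1 (hord ▸ h2.trans (Subgroup.card_subgroup_dvd_card M))
    simpa using this

/-- Two commuting non-solvable subgroups meeting trivially are impossible. -/
theorem not_commuting {M N : Subgroup G} (hMN : M ≤ Subgroup.centralizer (N : Set G))
    (hM : ¬ Group.IsSolvable ↥M) (hN : ¬ Group.IsSolvable ↥N) (hbot : M ⊓ N = ⊥) : False := by
  have hmul : Nat.card ↥M * Nat.card ↥N ∣ 7920 := by
    rw [← hord]
    let f : ↥M × ↥N →* G :=
      { toFun := fun x => (x.1 : G) * x.2
        map_one' := by simp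
        map_mul' := fun x y => by
          have h : (x.2 : G) * y.1 = y.1 * x.2 := Subgroup.mem_centralizer_iff.1 (hMN y.1.2) _ x.2.2
          show (x.1 : G) * y.1 * (x.2 * y.2) = x.1 * x.2 * (y.1 * y.2)
          simp only [mul_assoc]
          rw [← mul_assoc (y.1 : G), ← h]
          simp only [mul_assoc] }
    have hinj : Function.Injective f := (injective_iff_map_eq_one f).2 fun x hx => by
      have h1 : (x.1 : G) = (x.2 : G)⁻¹ := eq_inv_of_mul_eq_one_left hx
      have h2 : (x.1 : G) ∈ M ⊓ N := ⟨x.1.2, h1 ▸ N.inv_mem x.2.2⟩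
      rw [hbot, Subgroup.mem_bot] at h2
      rw [h2, eq_comm, inv_eq_one] at h1
      exact Prod.ext (Subtype.ext h2) (Subtype.ext h1)
    rw [← Nat.card_prod]
    exact Subgroup.card_dvd_of_injective f hinj
  obtain ⟨hM3, hMs⟩ := three_primes hord hM
  obtain ⟨hN3, hNs⟩ := three_primes hord hN
  have hdisj : ∀ r : ℕ, r.Prime → ¬ r ^ 2 ∣ 7920 →
      r ∈ (Nat.card ↥M).primeFactors → r ∈ (Nat.card ↥N).primeFactors → False := by
    intro r _ hr2 h1 h2
    refine hr2 ?_
    rw [pow_two]
    exact (mul_dvd_mul (Nat.mem_primeFactors.1 h1).2.1 (Nat.mem_primeFactors.1 h2).2.1).trans hmul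
  have hj : ∀ r ∈ (Nat.card ↥M).primeFactors, ∀ s ∈ (Nat.card ↥N).primeFactors, r ≠ s → (S r ↔ S s) :=
    fun r hr s hs hrs => join_of_le hjoin hMN (Nat.mem_primeFactors.1 hr).1 (Nat.mem_primeFactors.1 hs).1
      hrs (Nat.mem_primeFactors.1 hr).2.1 (Nat.mem_primeFactors.1 hs).2.1
  have hfull : ∀ A ∈ ({2, 3, 5, 11} : Finset ℕ).powerset, 3 ≤ A.card →
      (5 ∉ A → 2 ∈ A ∧ 3 ∈ A ∧ 11 ∈ A) ∧ (11 ∉ A → 2 ∈ A ∧ 3 ∈ A ∧ 5 ∈ A) := by decide +kernel
  have hM := hfull _ (Finset.mem_powerset.2 hMs) hM3
  have hN := hfull _ (Finset.mem_powerset.2 hNs) hN3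
  by_cases h5 : 5 ∈ (Nat.card ↥M).primeFactors
  · obtain ⟨n2, n3, n11⟩ := hN.1 fun h => hdisj 5 (by norm_num) (by norm_num) h5 h
    obtain ⟨m2, m3, -⟩ := hM.2 fun h => hdisj 11 (by norm_num) (by norm_num) h n11
    exact not_connected hall hnone hjoin (hj 2 m2 11 n11 (by norm_num)) (hj 3 m3 11 n11 (by norm_num))
      (hj 5 h5 11 n11 (by norm_num))
  · obtain ⟨m2, m3, m11⟩ := hM.1 h5
    obtain ⟨n2, n3, n5⟩ := hN.2 fun h => hdisj 11 (by norm_num) (by norm_num) m11 h
    exact not_connected hall hnone hjoin (hj 11 m11 2 n2 (by norm_num)).symm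
      (hj 11 m11 3 n3 (by norm_num)).symm (hj 11 m11 5 n5 (by norm_num)).symm

/-- There is no proper nontrivial normal subgroup. -/
theorem no_normal (N : Subgroup G) [hNn : N.Normal] (hne : N ≠ ⊥) (htop : N ≠ ⊤) : False := by
  classical
  have := Fintype.ofFinite G
  have : Fintype (Subgroup G) := Fintype.ofFinite _
  obtain ⟨T, ⟨hTn, hT1, hTN⟩, hmin⟩ := Finset.exists_min_image
    (Finset.univ.filter fun T : Subgroup G => T.Normal ∧ T ≠ ⊥ ∧ T ≤ N) (fun T => Nat.card ↥T)
    ⟨N, by simp [hNn, hne]⟩ |> fun ⟨T, hT, h⟩ => (⟨T, (Finset.mem_filter.1 hT).2, h⟩ :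
      ∃ T : Subgroup G, (T.Normal ∧ T ≠ ⊥ ∧ T ≤ N) ∧ ∀ T' ∈ Finset.univ.filter
        (fun T : Subgroup G => T.Normal ∧ T ≠ ⊥ ∧ T ≤ N), Nat.card ↥T ≤ Nat.card ↥T')
  have hminT : ∀ K : Subgroup G, K.Normal → K ≠ ⊥ → K ≤ T → K = T := fun K hK hK1 hKT =>
    Subgroup.eq_of_le_of_card_ge hKT (hmin K (by simp [hK, hK1, hKT.trans hTN]))
  have := hTn
  have hTt : T ≠ ⊤ := fun e => htop (top_le_iff.1 (e ▸ hTN))
  have hTs := not_solvable hord hall hnone hjoin T hT1
  -- the centralizer is trivial
  have hCT : Subgroup.centralizer (T : Set G) = ⊥ := by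
    by_contra hC
    set C := Subgroup.centralizer (T : Set G)
    have hCs := not_solvable hord hall hnone hjoin C hC
    refine not_commuting hord hall hnone hjoin (le_refl C) hCs hTs ?_
    by_contra hZ
    have hab : IsMulCommutative ↥(C ⊓ T : Subgroup G) := ⟨⟨fun a b => Subtype.ext
      (Subgroup.mem_centralizer_iff.1 b.2.1 a a.2.2)⟩⟩
    refine not_solvable hord hall hnone hjoin (C ⊓ T) hZ ?_
    let _ : CommGroup ↥(C ⊓ T : Subgroup G) :=
      { (inferInstance : Group ↥(C ⊓ T : Subgroup G)) with mul_comm := fun a b => hab.is_comm.comm a b }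
    exact Group.isSolvable_of_comm mul_comm
  -- eleven divides the order
  have : Fact (Nat.Prime 11) := ⟨by norm_num⟩
  have hTd : Nat.card ↥T ∣ 7920 := hord ▸ Subgroup.card_subgroup_dvd_card T
  have h11 : 11 ∣ Nat.card ↥T := by
    by_contra hn11
    obtain ⟨y, hy⟩ := exists_prime_orderOf_dvd_card' (G := G) 11 (hord ▸ by norm_num)
    have hle : T ≤ Subgroup.centralizer ({y} : Set G) := by
      refine inf_eq_left.1 (Subgroup.eq_of_le_of_card_ge inf_le_left
        (Nat.le_of_dvd Nat.card_pos ((Nat.dvd_iff_prime_pow_dvd_dvd _ _).2 fun r k hr hrk => ?_)))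
      rcases Nat.eq_zero_or_pos k with rfl | hk
      · simp
      have := Fact.mk hr
      let _ : MulAction (Subgroup.zpowers y) (Sylow r ↥T) :=
        MulAction.compHom _ (((MulAut.conjNormal : G →* MulAut ↥T)).comp (Subgroup.zpowers y).subtype)
      have hnd : ¬ 11 ∣ Nat.card (Sylow r ↥T) := fun h => by
        obtain ⟨R⟩ : Nonempty (Sylow r ↥T) := inferInstance
        exact hn11 (h.trans (Dvd.intro_left _ (card_normalizer_mul R)))
      have hyp : IsPGroup 11 ↥(Subgroup.zpowers y) :=
        IsPGroup.of_card (n := 1) (by rw [Nat.card_zpowers, hy, pow_one])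
      obtain ⟨R, hR⟩ := hyp.nonempty_fixed_point_of_prime_not_dvd_card (Sylow r ↥T) hnd
      set R' := (R : Subgroup ↥T).map T.subtype with hR'def
      have hnorm : y ∈ Subgroup.normalizer (R' : Set G) := by
        have h1 : ((MulAut.conjNormal y : MulAut ↥T) • R : Sylow r ↥T) = R :=
          hR ⟨y, Subgroup.mem_zpowers _⟩
        have h2 : (R : Subgroup ↥T).map (MulAut.conjNormal y : MulAut ↥T).toMonoidHom = (R : Subgroup ↥T) := by
          conv_rhs => rw [← h1]
          rfl
        refine Subgroup.mem_normalizer_fintype fun u hu => ?_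
        obtain ⟨w, hw, rfl⟩ := hu
        refine ⟨MulAut.conjNormal y w, ?_, by simp⟩
        rw [← h2]
        exact Subgroup.mem_map_of_mem _ hw
      have hRc : Nat.card ↥R' = r ^ (Nat.card ↥T).factorization r := by
        rw [hR'def, ← Nat.card_congr
          ((R : Subgroup ↥T).equivMapOfInjective T.subtype T.subtype_injective).toEquiv]
        exact R.card_eq_multiplicity
      have hmem := prime_powers r _ hr ((Nat.ordProj_dvd (Nat.card ↥T) r).trans hTd)
      have hne11 : r ^ (Nat.card ↥T).factorization r ≠ 11 := fun e =>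
        hn11 ((dvd_of_eq e.symm).trans (Nat.ordProj_dvd _ r))
      have hRle := le_centralizer_of_mod R' (by norm_num : Nat.Prime 11) hy hnorm (by
        rw [hRc]
        revert hmem hne11
        generalize r ^ (Nat.card ↥T).factorization r = d
        intro hmem hne11
        simp only [List.mem_cons, List.not_mem_nil, or_false] at hmem
        rcases hmem with rfl | rfl | rfl | rfl | rfl | rfl | rfl | rfl | rfl <;>
          first | (exact absurd rfl hne11) | decide +kernel)
      refine dvd_trans ?_ (Subgroup.card_dvd_of_le (le_inf (Subgroup.map_subtype_le _) hRle))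
      rw [hRc]
      exact Nat.pow_dvd_pow r ((hr.pow_dvd_iff_le_factorization Nat.card_pos.ne').1 hrk)
    have hy1 : y ∈ Subgroup.centralizer (T : Set G) := Subgroup.mem_centralizer_iff.2 fun u hu =>
      Subgroup.mem_centralizer_singleton_iff.1 (hle hu)
    rw [hCT, Subgroup.mem_bot] at hy1
    rw [hy1, orderOf_one] at hy
    norm_num at hy
  -- simplicity
  have hTnt : Nontrivial ↥T := (Subgroup.nontrivial_iff_ne_bot _).2 hT1
  have hTsimple : IsSimpleGroup ↥T := by
    refine ⟨fun M hM => or_iff_not_imp_left.2 fun hM1 => ?_⟩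
    obtain ⟨M0, ⟨hM0n, hM01, hM0M⟩, hmin0⟩ : ∃ M0 : Subgroup ↥T, (M0.Normal ∧ M0 ≠ ⊥ ∧ M0 ≤ M) ∧
        ∀ K : Subgroup ↥T, K.Normal → K ≠ ⊥ → K ≤ M0 → K = M0 := by
      have : Fintype (Subgroup ↥T) := Fintype.ofFinite _
      obtain ⟨M0, hM0, h⟩ := Finset.exists_min_image
        (Finset.univ.filter fun K : Subgroup ↥T => K.Normal ∧ K ≠ ⊥ ∧ K ≤ M) (fun K => Nat.card ↥K)
        ⟨M, by simp [hM, hM1]⟩
      have h0 := (Finset.mem_filter.1 hM0).2
      exact ⟨M0, h0, fun K hK hK1 hKM => Subgroup.eq_of_le_of_card_ge hKM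
        (h K (by simp [hK, hK1, hKM.trans h0.2.2]))⟩
    by_cases hall' : ∀ g : G, M0.map (MulAut.conjNormal g : MulAut ↥T).toMonoidHom = M0
    · have hMn : (M0.map T.subtype).Normal := ⟨by
        rintro _ ⟨w, hw, rfl⟩ g
        refine ⟨MulAut.conjNormal g w, ?_, by simp⟩
        rw [← hall' g]
        exact Subgroup.mem_map_of_mem _ hw⟩
      have h := hminT _ hMn ((Subgroup.map_eq_bot_iff_of_injective _ T.subtype_injective).not.2 hM01)
        (Subgroup.map_subtype_le _)
      have hM0top : M0 = ⊤ := Subgroup.map_injective T.subtype_injective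
        (h.trans (by rw [← MonoidHom.range_eq_map, Subgroup.range_subtype]))
      exact top_le_iff.1 (hM0top ▸ hM0M)
    exfalso
    push Not at hall'
    obtain ⟨g, hg⟩ := hall'
    set M1 := M0.map (MulAut.conjNormal g : MulAut ↥T).toMonoidHom with hM1def
    have hM1n : M1.Normal := hM0n.map _ (MulAut.conjNormal g : MulAut ↥T).surjective
    have hbot : M1 ⊓ M0 = ⊥ := by
      by_contra hne
      have h := hmin0 _ inferInstance hne inf_le_right
      refine hg (Subgroup.eq_of_le_of_card_ge (inf_eq_right.1 h) ?_).symm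
      rw [hM1def]
      exact le_of_eq (Subgroup.card_map_of_injective (MulAut.conjNormal g : MulAut ↥T).injective)
    have hcomm : M1 ≤ Subgroup.centralizer (M0 : Set ↥T) := fun a ha =>
      Subgroup.mem_centralizer_iff.2 fun b hb =>
        (Subgroup.commute_of_normal_of_disjoint M1 M0 hM1n hM0n (disjoint_iff.2 hbot) a b ha hb).symm.eq
    have hM0s : ¬ Group.IsSolvable ↥M0 := by
      intro hs
      -- the largest subgroup of prime power order normal in T
      obtain ⟨R0, hR01, hR0n, r, hr, hR0p⟩ : ∃ R0 : Subgroup ↥T, R0 ≠ ⊥ ∧ R0.Normal ∧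
          ∃ r : ℕ, r.Prime ∧ IsPGroup r ↥R0 := by
        have hex : ∃ j, derivedSeries ↥M0 j = ⊥ := hs.solvable
        have h0 : Nat.find hex ≠ 0 := fun e => by
          have h := Nat.find_spec hex
          rw [e, derivedSeries_zero] at h
          exact hM01 ((Subgroup.eq_bot_iff_forall _).2 fun x hx =>
            congrArg Subtype.val ((Subgroup.eq_bot_iff_forall _).1 h ⟨x, hx⟩ (Subgroup.mem_top _)))
        obtain ⟨j, hj⟩ := Nat.exists_eq_succ_of_ne_zero h0
        set D := derivedSeries ↥M0 j with hD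
        have hD1 : D ≠ ⊥ := fun e => Nat.find_min hex (by omega) e
        have hDc : ⁅D, D⁆ = ⊥ := by
          have h := Nat.find_spec hex
          rwa [hj, derivedSeries_succ] at h
        have : D.Characteristic := derivedSeries_characteristic ↥M0 j
        have := hM0n
        let _ : CommGroup ↥D := { (inferInstance : Group ↥D) with
          mul_comm := fun a b => Subtype.ext (Subgroup.mem_centralizer_iff.1
            (Subgroup.commutator_eq_bot_iff_le_centralizer.1 hDc b.2) a a.2) }
        obtain ⟨r, hr, hrd⟩ := Nat.exists_prime_and_dvd (fun e => hD1 (Subgroup.card_eq_one.1 e))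
        have := Fact.mk hr
        obtain ⟨R⟩ : Nonempty (Sylow r ↥D) := inferInstance
        have hRn : (R : Subgroup ↥D).Normal := inferInstance
        have : (R : Subgroup ↥D).Characteristic := R.characteristic_of_normal hRn
        have : ((R : Subgroup ↥D).map D.subtype).Characteristic := inferInstance
        refine ⟨((R : Subgroup ↥D).map D.subtype).map M0.subtype, ?_, inferInstance, r, hr,
          (R.2.map _).map _⟩
        rw [Ne, Subgroup.map_eq_bot_iff_of_injective _ M0.subtype_injective,
          Subgroup.map_eq_bot_iff_of_injective _ D.subtype_injective]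
        exact R.ne_bot_of_dvd_card hrd
      have := Fact.mk hr
      set O := ⨅ Q : Sylow r ↥T, (Q : Subgroup ↥T) with hO
      have hOc : O.Characteristic := Subgroup.characteristic_iff_map_le.2 fun φ => by
        rw [hO]
        refine le_iInf fun Q => ?_
        refine (Subgroup.map_mono (iInf_le _ (φ⁻¹ • Q))).trans (le_of_eq ?_)
        change ((Q : Subgroup ↥T).map (φ⁻¹ : MulAut ↥T).toMonoidHom).map φ.toMonoidHom = _
        rw [Subgroup.map_map]
        convert Subgroup.map_id _
        ext x
        simp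
      have hR0O : R0 ≤ O := le_iInf fun Q => by
        have := hR0n
        obtain ⟨Q0, hQ0⟩ := hR0p.exists_le_sylow
        obtain ⟨t, rfl⟩ := MulAction.exists_smul_eq ↥T Q0 Q
        intro u hu
        exact ⟨t⁻¹ * u * t, hQ0 (by simpa using hR0n.conj_mem u hu t⁻¹), by simp [mul_assoc]⟩
      have hOn : (O.map T.subtype).Normal := inferInstance
      have h := hminT _ hOn ((Subgroup.map_eq_bot_iff_of_injective _ T.subtype_injective).not.2
        fun e => hR01 (le_bot_iff.1 (e ▸ hR0O))) (Subgroup.map_subtype_le _)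
      obtain ⟨Q⟩ : Nonempty (Sylow r ↥T) := inferInstance
      have hOp : IsPGroup r ↥O := Q.2.to_le (iInf_le _ Q)
      refine hTs ?_
      have hp := hOp.map T.subtype
      rw [h] at hp
      have : Group.IsNilpotent ↥T := hp.isNilpotent
      infer_instance
    refine not_commuting hord hall hnone hjoin (M := M1.map T.subtype) (N := M0.map T.subtype) ?_ ?_ ?_ ?_
    · rintro _ ⟨a, ha, rfl⟩
      rw [Subgroup.mem_centralizer_iff]
      rintro _ ⟨b, hb, rfl⟩
      exact congrArg Subtype.val (Subgroup.mem_centralizer_iff.1 (hcomm ha) b hb)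
    · exact fun hs => hM0s (Group.isSolvable_of_surjective
        (f := (((M0.equivMapOfInjective _ (MulAut.conjNormal g).injective).trans
          (M1.equivMapOfInjective T.subtype T.subtype_injective)).symm).toMonoidHom)
        (MulEquiv.surjective _))
    · exact fun hs => hM0s (Group.isSolvable_of_surjective
        (f := (M0.equivMapOfInjective T.subtype T.subtype_injective).symm.toMonoidHom) (MulEquiv.surjective _))
    · rw [← Subgroup.map_inf _ _ _ T.subtype_injective, hbot, Subgroup.map_bot]
  have hnc : ¬ ∀ a b : ↥T, a * b = b * a := fun hc => hTs (by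
    let _ : CommGroup ↥T := { (inferInstance : Group ↥T) with mul_comm := hc }
    exact Group.isSolvable_of_comm mul_comm)
  -- the order is 660
  obtain ⟨m, hm⟩ := h11
  have hm720 : m ∣ 720 := Nat.dvd_of_mul_dvd_mul_left (by norm_num : 0 < 11)
    (show 11 * m ∣ 11 * 720 by rw [← hm]; exact hTd)
  have hmlt : m < 720 := by
    have h1 : Nat.card ↥T < Nat.card G := lt_of_le_of_ne (Subgroup.card_le_card_group T)
      fun e => hTt (Subgroup.eq_top_of_card_eq T e)
    rw [hm, hord] at h1
    omega
  have h660 : Nat.card ↥T = 660 := by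
    have h1 := table
    rw [List.all_eq_true] at h1
    have h2 := h1 m (List.mem_range.2 hmlt)
    simp only [Bool.or_eq_true, decide_eq_true_eq] at h2
    rcases h2 with ((h2 | h2) | h2) | h2
    · rw [h2, mul_zero] at hm
      exact absurd hm Nat.card_pos.ne'
    · exact absurd (Nat.mod_eq_zero_of_dvd hm720) h2
    · rw [hm, h2]
    · exact (false_of_kill hnc (by rw [hm]; exact h2)).elim
  obtain ⟨Q⟩ : Nonempty (Sylow 11 ↥T) := inferInstance
  obtain ⟨hn1, hn2⟩ := sylow_facts Q (a := 1) (m := 60) (by rw [h660]; norm_num) (by norm_num)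
  have hn12 : Nat.card (Sylow 11 ↥T) = 12 := by
    have hne := card_sylow_ne_one (p := 11) hnc (by rw [h660]; norm_num)
    obtain ⟨i, hi⟩ : ∃ i, Nat.card (Sylow 11 ↥T) = 11 * i + 1 := ⟨_, (by omega :
      Nat.card (Sylow 11 ↥T) = 11 * (Nat.card (Sylow 11 ↥T) / 11) + 1)⟩
    have := Nat.le_of_dvd (by norm_num) hn1
    rw [hi] at hn1 hne ⊢
    have : i ≤ 5 := by omega
    interval_cases i <;> omega
  obtain ⟨P⟩ : Nonempty (Sylow 11 G) := inferInstance
  have hP : Nat.card ↥(P : Subgroup G) = 11 :=
    (card_sylow_of_factor P (a := 1) (m := 720) (by rw [hord]; norm_num) (by norm_num)).trans (pow_one _)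
  have hPT : ∀ R : Sylow 11 G, (R : Subgroup G) ≤ T := by
    have hQc : Nat.card ↥((Q : Subgroup ↥T).map T.subtype) = 11 := by
      rw [← Nat.card_congr ((Q : Subgroup ↥T).equivMapOfInjective T.subtype T.subtype_injective).toEquiv]
      exact (card_sylow_of_factor Q (a := 1) (m := 60) (by rw [h660]; norm_num) (by norm_num)).trans (pow_one _)
    intro R
    obtain ⟨R0, hR0⟩ := (IsPGroup.of_card (p := 11) (n := 1) (by rw [pow_one]; exact hQc) :
      IsPGroup 11 ↥((Q : Subgroup ↥T).map T.subtype)).exists_le_sylow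
    have heq : (Q : Subgroup ↥T).map T.subtype = (R0 : Subgroup G) :=
      Subgroup.eq_of_le_of_card_ge hR0 (by
        rw [hQc, (card_sylow_of_factor R0 (a := 1) (m := 720) (by rw [hord]; norm_num) (by norm_num)),
          pow_one])
    obtain ⟨g, rfl⟩ := MulAction.exists_smul_eq G R0 R
    intro u hu
    obtain ⟨w, hw, rfl⟩ := hu
    exact hTn.conj_mem w ((Subgroup.map_subtype_le _) (heq ▸ hw)) g
  have hn : Nat.card (Sylow 11 G) = 12 := by
    rw [← hn12]
    refine Nat.card_eq_of_bijective (fun R => R.subtype (hPT R)) ⟨fun R R' h => Sylow.subtype_injective h,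
      fun S' => ?_⟩
    obtain ⟨R, hR⟩ := (S'.2.map T.subtype).exists_le_sylow
    refine ⟨R, Sylow.ext ?_⟩
    rw [Sylow.coe_subtype]
    refine S'.3 (IsPGroup.comap_of_injective R.2 T.subtype T.subtype_injective) fun u hu => ?_
    exact hR (Subgroup.mem_map_of_mem _ hu)
  obtain ⟨x, hx⟩ := exists_prime_orderOf_dvd_card'
    (G := ↥(Subgroup.normalizer ((P : Subgroup G) : Set G))) 3 (by
      have h := card_normalizer_mul P
      rw [hn, hord] at h
      exact ⟨220, by omega⟩) (hp := ⟨Nat.prime_three⟩)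
  have hxc := mem_centralizer_of_coprime (p := 11) hP x.2 (by rw [Subgroup.orderOf_coe, hx]; norm_num)
  have : Fintype (Sylow 11 G) := Fintype.ofFinite _
  obtain ⟨hdvd, hPs⟩ := dvd_support_of_centralizer hP hxc
  set σ := MulAction.toPermHom G (Sylow 11 G) (x : G) with hσ
  have hlt := Finset.card_lt_univ_of_notMem hPs
  rw [← Nat.card_eq_fintype_card, hn] at hlt
  have hσ1 : σ = 1 := by
    by_contra hne
    have h3 : σ ^ 3 = 1 := by
      rw [hσ, ← map_pow, show (x : G) ^ 3 = 1 from by
        rw [← hx, ← Subgroup.orderOf_coe]; exact pow_orderOf_eq_one _, map_one]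
    have : Fact (Nat.Prime 3) := ⟨Nat.prime_three⟩
    obtain ⟨j, hj⟩ := Equiv.Perm.cycleType_prime_order (σ := σ) (by
      rw [orderOf_eq_prime h3 hne]; exact Nat.prime_three)
    have hs := Equiv.Perm.sum_cycleType σ
    rw [hj, orderOf_eq_prime h3 hne, Multiset.sum_replicate, smul_eq_mul] at hs
    obtain ⟨i, hi⟩ := hdvd
    omega
  have hker : (MulAction.toPermHom G (Sylow 11 G)).ker ⊓ T = ⊥ := by
    by_contra hne
    have h := hminT _ inferInstance hne inf_le_right
    have hTN' : T ≤ Subgroup.normalizer ((P : Subgroup G) : Set G) := fun u hu =>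
      Sylow.smul_eq_iff_mem_normalizer.1 (Equiv.ext_iff.1
        (MonoidHom.mem_ker.1 ((inf_eq_right.1 h) hu)) P)
    have h2 := Subgroup.card_dvd_of_le hTN'
    rw [h660] at h2
    have h3 := card_normalizer_mul P
    rw [hn, hord] at h3
    rw [show Nat.card ↥(Subgroup.normalizer ((P : Subgroup G) : Set G)) = 660 by omega] at h3
    have heq : T = Subgroup.normalizer ((P : Subgroup G) : Set G) :=
      Subgroup.eq_of_le_of_card_ge hTN' (by rw [h660]; have := card_normalizer_mul P; rw [hn, hord] at this; omega)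
    have hall'' : Nat.card (Sylow 11 ↥T) = 1 := by
      have hPn : ((P : Subgroup G).subgroupOf T).Normal := by
        rw [Subgroup.normal_subgroupOf_iff_le_normalizer (hPT P)]
        exact heq.le
      have := Sylow.unique_of_normal (P.subtype (hPT P)) (by rw [Sylow.coe_subtype]; exact hPn)
      exact Nat.card_eq_one_iff_unique.2 ⟨inferInstance, inferInstance⟩
    omega
  have hxT : (x : G) ∈ Subgroup.centralizer (T : Set G) := Subgroup.mem_centralizer_iff.2 fun u hu =>
    (Subgroup.commute_of_normal_of_disjoint _ T inferInstance hTn (disjoint_iff.2 hker) (x : G) u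
      (MonoidHom.mem_ker.2 hσ1) hu).symm.eq
  rw [hCT, Subgroup.mem_bot] at hxT
  rw [← Subgroup.orderOf_coe, hxT, orderOf_one] at hx
  norm_num at hx

end

/-- Let G be a finite group of order 7920 = 2⁴·3²·5·11 (the order of the smallest Mathieu group) and suppose its prime graph (vertices the prime divisors of the order, distinct p, q joined when there is an element of order pq) is disconnected: the prime divisors split into two non-empty parts with no element of order pq for p in one part and q in the other. Then G is simple. -/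
theorem result {G : Type*} [Group G] [Finite G] (hord : Nat.card G = 7920)
    (hdisc : (∃ A : Set ℕ, (∃ a ∈ A, a.Prime ∧ a ∣ Nat.card G) ∧ (∃ b ∉ A, b.Prime ∧ b ∣ Nat.card G) ∧
      ∀ a ∈ A, ∀ b ∉ A, a.Prime → b.Prime → a ∣ Nat.card G → b ∣ Nat.card G → ¬ ∃ g : G, orderOf g = a * b)) :
    IsSimpleGroup G := by
  obtain ⟨A, ⟨a, haA, ha, had⟩, ⟨b, hbA, hb, hbd⟩, hA⟩ := hdisc
  rw [hord] at had hbd
  have : Nontrivial G := Finite.one_lt_card_iff_nontrivial.1 (by rw [hord]; norm_num)
  refine ⟨fun N hN => ?_⟩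
  by_contra hcon
  push Not at hcon
  have := hN
  refine no_normal hord (S := fun r => r ∈ A) ?_ ?_ ?_ N hcon.1 hcon.2
  · intro h2 h3 h5 h11
    rcases primes b hb hbd with rfl | rfl | rfl | rfl <;> exact hbA (by assumption)
  · intro h2 h3 h5 h11
    rcases primes a ha had with rfl | rfl | rfl | rfl <;> exact (by assumption : _ ∉ A) haA
  · intro r s hr hs hrs u v hu hv huv
    have hru : r ∣ Nat.card G := hu ▸ orderOf_dvd_natCard u
    have hsv : s ∣ Nat.card G := hv ▸ orderOf_dvd_natCard v
    have hord' : orderOf (u * v) = r * s := by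
      rw [(show Commute u v from huv).orderOf_mul_eq_mul_orderOf_of_coprime
        (by rw [hu, hv]; exact (Nat.coprime_primes hr hs).2 hrs), hu, hv]
    refine ⟨fun h => by_contra fun h' => hA r h s h' hr hs hru hsv ⟨u * v, hord'⟩,
      fun h => by_contra fun h' => hA s h r h' hs hr hsv hru ⟨u * v, by rw [hord', mul_comm]⟩⟩
end Cfsg.Agent.S2490
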