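import Cfsg.Statements.S2493
import Cfsg.Agent.AltCover.Flip
-- import your own Cfsg.Agent.* helpers here

set_option autoImplicit false
open Cfsg

namespace Cfsg.Agent.S2493

/-- Let n ≥ 5 and let G be a finite perfect group whose centre has order 2 with G/Z(G) isomorphic to the alternating group of degree n (the double cover of the alternating group). Then every element of G is a commutator. -/
theorem result {G : Type*} [Group G] [Finite G] (hperf : commutator G = ⊤) {n : ℕ} (hn : 5 ≤ n)
    (hZ : Nat.card (Subgroup.center G) = 2) (e : G ⧸ Subgroup.center G ≃* alternatingGroup (Fin n))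
    (g : G) :
    ∃ a b : G, a * b * a⁻¹ * b⁻¹ = g := by
  classical
  obtain ⟨ρ, hρ⟩ : ∃ ρ : G →* Equiv.Perm (Fin n),
      ρ = ((alternatingGroup (Fin n)).subtype.comp e.toMonoidHom).comp (QuotientGroup.mk' (Subgroup.center G)) :=
    ⟨_, rfl⟩
  have hk : ρ.ker = Subgroup.center G := by
    ext x
    rw [MonoidHom.mem_ker, hρ]
    show ((e (x : G ⧸ Subgroup.center G) : alternatingGroup (Fin n)) : Equiv.Perm (Fin n)) = 1 ↔ _
    rw [OneMemClass.coe_eq_one, map_eq_one_iff e e.injective, QuotientGroup.eq_one_iff]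
  have hr : ρ.range = alternatingGroup (Fin n) := by
    rw [hρ]
    refine le_antisymm ?_ fun x hx => ?_
    · rintro _ ⟨x, rfl⟩; exact (e (x : G ⧸ Subgroup.center G)).2
    · obtain ⟨x', hx'⟩ := QuotientGroup.mk'_surjective (Subgroup.center G) (e.symm ⟨x, hx⟩)
      exact ⟨x', by simp only [MonoidHom.comp_apply, hx']; simp⟩
  obtain ⟨z, w, hzw, hu⟩ := Nat.card_eq_two_iff.1 hZ
  obtain ⟨t, ht, hall⟩ : ∃ t : Subgroup.center G, t ≠ 1 ∧ ∀ x : Subgroup.center G, x = 1 ∨ x = t := by
    have h1 : ∀ x : Subgroup.center G, x = z ∨ x = w := fun x => by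
      have := Set.eq_univ_iff_forall.1 hu x
      simpa using this
    rcases h1 1 with h | h
    · exact ⟨w, fun e => hzw (h.symm.trans e.symm), fun x => (h1 x).imp (fun e => e.trans h.symm) id⟩
    · exact ⟨z, fun e => hzw (e.trans h), fun x => (h1 x).symm.imp (fun e => e.trans h.symm) id⟩
  have hker : ∀ x : G, ρ x = 1 → x = 1 ∨ x = t := fun x hx => by
    have hxZ : x ∈ Subgroup.center G := hk ▸ hx
    exact (hall ⟨x, hxZ⟩).imp (congrArg Subtype.val) (congrArg Subtype.val)
  let K : Cfsg.Lib.AltCover.Cover n G :=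
    ⟨ρ, t, hn, hk.le, hr, fun h => ht (Subtype.ext h), MonoidHom.mem_ker.1 (by rw [hk]; exact t.2), hker, hperf⟩
  exact K.exists_commutator g

end Cfsg.Agent.S2493
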