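import Cfsg.Statements.S2495
import Cfsg.Agent.Components.Misc.Zsigmondy
import Cfsg.Agent.Classical.Misc.SingerOrder

set_option autoImplicit false
open Cfsg

namespace Cfsg.Agent.S2495

theorem gcd_dvd_half_iff {m Q : ℕ} (hm : m ≠ 0) (hQ : Q ≠ 0) :
    Nat.gcd (2 * m) Q ∣ m ↔ padicValNat 2 Q < padicValNat 2 (2 * m) := by
  haveI : Fact (Nat.Prime 2) := ⟨Nat.prime_two⟩
  have hv : padicValNat 2 (2 * m) = padicValNat 2 m + 1 := by
    rw [padicValNat.mul two_ne_zero hm, padicValNat.self (by norm_num), add_comm]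
  rw [hv]
  have hd0 : Nat.gcd (2 * m) Q ≠ 0 := fun h => hQ (Nat.eq_zero_of_zero_dvd (h ▸ Nat.gcd_dvd_right _ _))
  constructor
  · intro h
    by_contra hlt
    have h2 : 2 ^ (padicValNat 2 m + 1) ∣ Nat.gcd (2 * m) Q :=
      Nat.dvd_gcd ((padicValNat_dvd_iff_le (by omega)).2 hv.ge) ((padicValNat_dvd_iff_le hQ).2 (by omega))
    have := (padicValNat_dvd_iff_le hm).1 (h2.trans h)
    omega
  · intro h
    rw [← Nat.factorization_le_iff_dvd hd0 hm]
    intro t
    by_cases ht2 : t = 2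
    · subst ht2
      rw [Nat.factorization_def _ Nat.prime_two, Nat.factorization_def _ Nat.prime_two]
      have h1 : 2 ^ padicValNat 2 (Nat.gcd (2 * m) Q) ∣ Q := pow_padicValNat_dvd.trans (Nat.gcd_dvd_right _ _)
      have := (padicValNat_dvd_iff_le hQ).1 h1
      omega
    · have h1 := (Nat.factorization_le_iff_dvd hd0 (by omega : 2 * m ≠ 0)).2 (Nat.gcd_dvd_left (2 * m) Q) t
      rw [Nat.factorization_mul two_ne_zero hm, Finsupp.add_apply, Nat.prime_two.factorization,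
        Finsupp.single_apply, if_neg (Ne.symm ht2), zero_add] at h1
      exact h1

/-- Let q be an odd prime power, n ≥ 4 even, and L = PSL(n,q). Then L has an element of order q^(n/2) + 1 if and only if the 2-part of n exceeds the 2-part of q − 1. -/
theorem result {F : Type*} [Field F] [Fintype F] {q : ℕ} (hF : Fintype.card F = q) (hodd : Odd q)
    {n : ℕ} (hn : 4 ≤ n) (heven : Even n) :
    (∃ g : Matrix.ProjectiveSpecialLinearGroup (Fin n) F, orderOf g = q ^ (n / 2) + 1) ↔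
      padicValNat 2 (q - 1) < padicValNat 2 n := by
  classical
  obtain ⟨m, rfl⟩ := heven
  subst hF
  obtain ⟨p, hp⟩ := CharP.exists F
  haveI : Fact p.Prime := ⟨CharP.char_is_prime F p⟩
  obtain ⟨q, hq⟩ : ∃ q, q = Fintype.card F := ⟨_, rfl⟩
  rw [← hq] at hodd ⊢
  have hq3 : 3 ≤ q := by
    have := Fintype.one_lt_card (α := F)
    obtain ⟨c, hc⟩ := hodd
    omega
  haveI : Nonempty (Fin (m + m)) := ⟨⟨0, by omega⟩⟩
  obtain ⟨T, hT⟩ : ∃ T, T = ∑ i ∈ Finset.range (m + m), q ^ i := ⟨_, rfl⟩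
  obtain ⟨S, hS⟩ : ∃ S, S = ∑ i ∈ Finset.range m, q ^ i := ⟨_, rfl⟩
  have hmul : T * (q - 1) = q ^ (m + m) - 1 := by rw [hT]; exact geom_sum_mul_of_one_le (by omega) _
  have hTS : T = S * (q ^ m + 1) := by
    rw [hT, hS, Finset.sum_range_add, mul_add, mul_one, Finset.sum_mul, add_comm]
    congr 1
    exact Finset.sum_congr rfl fun i _ => by rw [← pow_add, add_comm]
  have hmod : ∀ j, ∑ i ∈ Finset.range j, q ^ i ≡ j [MOD (q - 1)] := by
    intro j
    rw [← ZMod.natCast_eq_natCast_iff, Nat.cast_sum]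
    have h1 : (q : ZMod (q - 1)) = 1 := by
      have h2 : q = (q - 1) + 1 := by omega
      have h3 := congrArg (Nat.cast : ℕ → ZMod (q - 1)) h2
      rwa [Nat.cast_add, ZMod.natCast_self, zero_add, Nat.cast_one] at h3
    simp [h1]
  obtain ⟨d, hd⟩ : ∃ d, d = Nat.gcd (m + m) (q - 1) := ⟨_, rfl⟩
  have hgT : Nat.gcd T (q - 1) = d := by rw [hd, hT]; exact (hmod _).gcd_eq
  have hdq : d ∣ q - 1 := hd ▸ Nat.gcd_dvd_right _ _
  have hdT : d ∣ T := hgT ▸ Nat.gcd_dvd_left _ _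
  have hd0 : 0 < d := Nat.pos_of_dvd_of_pos hdq (by omega)
  have hdS : d ∣ S ↔ d ∣ m := by
    rw [hS, Nat.dvd_iff_mod_eq_zero, Nat.dvd_iff_mod_eq_zero, Nat.ModEq.of_dvd hdq (hmod m)]
  have hiff : d ∣ S ↔ padicValNat 2 (q - 1) < padicValNat 2 (m + m) := by
    rw [hdS, hd, ← two_mul]
    exact gcd_dvd_half_iff (by omega) (by omega)
  rw [show (m + m) / 2 = m by omega, ← hiff]
  have hcore : q ^ m + 1 ∣ T / d ↔ d ∣ S := by
    constructor
    · intro h
      have := Nat.mul_dvd_mul_left d h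
      rw [Nat.mul_div_cancel' hdT, hTS] at this
      exact Nat.dvd_of_mul_dvd_mul_right (by positivity) this
    · rintro ⟨c, hc⟩
      rw [hTS, hc, mul_assoc, Nat.mul_div_cancel_left _ hd0]
      exact dvd_mul_left _ _
  rw [← hcore]
  constructor
  · rintro ⟨g, hg⟩
    obtain ⟨r, hr, hrn, hprim⟩ := Cfsg.Lib.Zsigmondy.zsigmondy q (m + m) (by omega) (by omega)
      (by omega) (by omega)
    have hr1 : ¬ r ∣ q - 1 := fun h => hprim 1 one_pos (by omega) (by rwa [pow_one])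
    have hrQ : r ∣ q ^ m + 1 := by
      have h1 : (q ^ m + 1) * (q ^ m - 1) = q ^ (m + m) - 1 := by
        rw [← Nat.sq_sub_sq, one_pow, ← pow_mul, mul_two]
      rw [← h1] at hrn
      exact (hr.dvd_mul.1 hrn).resolve_right (hprim m (by omega) (by omega))
    have hrp : r ≠ p := by
      rintro rfl
      obtain ⟨e, -, he⟩ := FiniteField.card F r
      have h1 : r ∣ q ^ m := dvd_pow (hq ▸ he ▸ dvd_pow_self r e.ne_zero) (by omega)
      exact hr.ne_one (Nat.dvd_one.1 ((Nat.dvd_add_right h1).1 hrQ))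
    obtain ⟨X, hX⟩ := QuotientGroup.mk'_surjective _ g
    rw [← hg]
    subst hq
    exact Cfsg.Lib.SingerOrder.scalar_pow (p := p) hr hrp hprim hr1 hmul hdq hdT X g hX (hg ▸ hrQ)
  · intro h
    subst hq
    obtain ⟨g, hg⟩ := Cfsg.Lib.SingerOrder.exists_singer (F := F) (p := p) (n := m + m) (by omega) hmul hdT hgT
    exact ⟨g ^ (orderOf g / (Fintype.card F ^ m + 1)),
      orderOf_pow_orderOf_div (orderOf_pos g).ne' (hg.symm ▸ h)⟩

end Cfsg.Agent.S2495
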