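import Cfsg.Statements.S2496
import Cfsg.Agent.Components.Misc.Zsigmondy
import Cfsg.Agent.S2495
import Cfsg.Agent.Classical.Misc.UnitarySingerOrder

set_option autoImplicit false
open Cfsg

namespace Cfsg.Agent.S2496

/-- Let q be an odd prime power, n ≥ 4 even, and U = PSU(n,q) (realised over the field with q² elements). Then U has an element of order q^(n/2) + (−1)^(n/2) — that is, q^(n/2) + 1 when n/2 is even and q^(n/2) − 1 when n/2 is odd — if and only if the 2-part of n exceeds the 2-part of q + 1. -/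
theorem result {F : Type*} [Field F] [Fintype F] {q : ℕ} (hF : Fintype.card F = q ^ 2) (hodd : Odd q)
    {n : ℕ} (hn : 4 ≤ n) (heven : Even n) :
    (∃ g : Cfsg.PSU n F q, orderOf g = if Even (n / 2) then q ^ (n / 2) + 1 else q ^ (n / 2) - 1) ↔
      padicValNat 2 (q + 1) < padicValNat 2 n := by
  classical
  obtain ⟨m, rfl⟩ := heven
  obtain ⟨p, hp⟩ := CharP.exists F
  haveI : Fact p.Prime := ⟨CharP.char_is_prime F p⟩
  have hq3 : 3 ≤ q := by
    have := Cfsg.Lib.UnitarySingerOrder.q_two_le hF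
    obtain ⟨c, hc⟩ := hodd
    omega
  obtain ⟨a, ha⟩ : ∃ a : ℤ, a = -(q : ℤ) := ⟨_, rfl⟩
  obtain ⟨Sn, hSn⟩ : ∃ Sn, Sn = ∑ i ∈ Finset.range (m + m), a ^ i := ⟨_, rfl⟩
  obtain ⟨Sm, hSm⟩ : ∃ Sm, Sm = ∑ i ∈ Finset.range m, a ^ i := ⟨_, rfl⟩
  obtain ⟨T, hT⟩ : ∃ T, T = Sn.natAbs := ⟨_, rfl⟩
  obtain ⟨M, hM⟩ : ∃ M, M = (1 + a ^ m).natAbs := ⟨_, rfl⟩
  have hM' : (if Even ((m + m) / 2) then q ^ ((m + m) / 2) + 1 else q ^ ((m + m) / 2) - 1) = M := by
    rw [show (m + m) / 2 = m by omega, hM, ha]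
    split_ifs with he
    · rw [he.neg_pow, ← Nat.cast_pow, ← Nat.cast_one (R := ℤ), ← Nat.cast_add, Int.natAbs_natCast, add_comm]
    · rw [(Nat.not_even_iff_odd.1 he).neg_pow]
      have h1 : 1 ≤ q ^ m := Nat.one_le_pow _ _ (by omega)
      rw [← sub_eq_add_neg, ← Int.natAbs_neg, neg_sub, ← Nat.cast_pow, ← Nat.cast_one (R := ℤ), ← Nat.cast_sub h1,
        Int.natAbs_natCast]
  rw [hM']
  have hTS : T = Sm.natAbs * M := by
    rw [hT, hM, ← Int.natAbs_mul, hSn, hSm, Finset.sum_range_add, mul_add, mul_one, Finset.sum_mul]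
    refine congrArg _ (congrArg _ ?_)
    exact Finset.sum_congr rfl fun i _ => by rw [← pow_add, add_comm]
  have hSn' : Sn * (a - 1) = a ^ (m + m) - 1 := by rw [hSn, geom_sum_mul]
  have hev : a ^ (m + m) = (q : ℤ) ^ (m + m) := by rw [ha]; exact (Even.add_self m).neg_pow _
  have hmul : T * (q + 1) = q ^ (2 * m) - 1 := by
    rw [hT, two_mul, ← Int.natAbs_natCast (q + 1), ← Int.natAbs_mul]
    have h1 : Sn * ((q + 1 : ℕ) : ℤ) = -((q ^ (m + m) - 1 : ℕ) : ℤ) := by
      rw [Nat.cast_sub (Nat.one_le_pow _ _ (by omega)), Nat.cast_pow, Nat.cast_add, Nat.cast_one]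
      rw [ha] at hSn'
      rw [← ha, hev, ha] at hSn'
      linear_combination -hSn'
    rw [h1, Int.natAbs_neg, Int.natAbs_natCast]
  have hdvd : ∀ (d j : ℕ), d ∣ q + 1 → (d ∣ (∑ i ∈ Finset.range j, a ^ i).natAbs ↔ d ∣ j) := by
    intro d j hd
    rw [← Int.natCast_dvd, ← ZMod.intCast_zmod_eq_zero_iff_dvd, Int.cast_sum]
    have h1 : ((a : ℤ) : ZMod d) = 1 := by
      rw [ha, Int.cast_neg, Int.cast_natCast]
      have h2 := (ZMod.natCast_eq_zero_iff (q + 1) d).2 hd
      rw [Nat.cast_add, Nat.cast_one] at h2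
      linear_combination -h2
    simp only [Int.cast_pow, h1, one_pow, Finset.sum_const, Finset.card_range, nsmul_eq_mul, mul_one]
    exact ZMod.natCast_eq_zero_iff j d
  obtain ⟨d, hd⟩ : ∃ d, d = Nat.gcd (m + m) (q + 1) := ⟨_, rfl⟩
  have hdq : d ∣ q + 1 := hd ▸ Nat.gcd_dvd_right _ _
  have hgT : Nat.gcd T (q + 1) = d := by
    rw [hd, hT, hSn]
    apply Nat.dvd_antisymm
    · exact Nat.dvd_gcd ((hdvd _ _ (Nat.gcd_dvd_right _ _)).1 (Nat.gcd_dvd_left _ _)) (Nat.gcd_dvd_right _ _)
    · exact Nat.dvd_gcd ((hdvd _ _ (Nat.gcd_dvd_right _ _)).2 (Nat.gcd_dvd_left _ _)) (Nat.gcd_dvd_right _ _)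
  have hdT : d ∣ T := hgT ▸ Nat.gcd_dvd_left _ _
  have hd0 : 0 < d := Nat.pos_of_dvd_of_pos hdq (by omega)
  have hM0 : 0 < M := by
    refine Nat.pos_of_ne_zero fun h => ?_
    rw [hTS, h, mul_zero, zero_mul] at hmul
    have := Nat.one_lt_pow (by omega : 2 * m ≠ 0) (by omega : 1 < q)
    omega
  have hiff : M ∣ T / d ↔ padicValNat 2 (q + 1) < padicValNat 2 (m + m) := by
    rw [← two_mul, ← Cfsg.Agent.S2495.gcd_dvd_half_iff (by omega) (by omega), two_mul, ← hd, ← hdvd d m hdq, ← hSm]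
    constructor
    · intro h
      have := Nat.mul_dvd_mul_left d h
      rw [Nat.mul_div_cancel' hdT, hTS] at this
      exact Nat.dvd_of_mul_dvd_mul_right hM0 this
    · rintro ⟨c, hc⟩
      rw [hTS, hc, mul_assoc, Nat.mul_div_cancel_left _ hd0]
      exact dvd_mul_left _ _
  rw [← hiff]
  constructor
  · rintro ⟨g, hg⟩
    obtain ⟨r, hr, hrM, hprim, hr1⟩ : ∃ r : ℕ, r.Prime ∧ r ∣ M ∧
        (∀ b, 0 < b → b < m + m → (-(q : ZMod r)) ^ b ≠ 1) ∧ ¬ r ∣ q + 1 := by
      have hle1 : ∀ k, 1 ≤ q ^ k := fun k => Nat.one_le_pow _ _ (by omega)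
      have hz : ∀ (r k : ℕ), r ∣ q ^ k - 1 ↔ (q : ZMod r) ^ k = 1 := fun r k => by
        rw [← ZMod.natCast_eq_zero_iff, Nat.cast_sub (hle1 k), Nat.cast_pow, Nat.cast_one, sub_eq_zero]
      have hsq : ∀ (r b : ℕ), (-(q : ZMod r)) ^ b = 1 → (q : ZMod r) ^ (2 * b) = 1 := fun r b h => by
        rw [pow_mul, ← neg_sq, ← pow_mul, mul_comm, pow_mul, h, one_pow]
      have hq1 : ∀ r : ℕ, r ∣ q + 1 → (q : ZMod r) ^ 2 = 1 := fun r h => by
        rw [← ZMod.natCast_eq_zero_iff, Nat.cast_add, Nat.cast_one] at h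
        rw [eq_neg_of_add_eq_zero_left h]; ring
      rcases Nat.even_or_odd m with hev' | hodd'
      · obtain ⟨r, hr, hrn, hprim⟩ := Cfsg.Lib.Zsigmondy.zsigmondy q (m + m) (by omega) (by omega) (by omega) (by omega)
        haveI := Fact.mk hr
        have hord : orderOf (q : ZMod r) = m + m := by
          refine Nat.dvd_antisymm (orderOf_dvd_of_pow_eq_one ((hz r _).1 hrn)) ?_
          by_contra hne
          have h0 : 0 < orderOf (q : ZMod r) := Nat.pos_of_dvd_of_pos (orderOf_dvd_of_pow_eq_one ((hz r _).1 hrn)) (by omega)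
          have hle := Nat.le_of_dvd (by omega) (orderOf_dvd_of_pow_eq_one ((hz r _).1 hrn))
          rcases Nat.lt_or_eq_of_le hle with h | h
          · exact hprim _ h0 h ((hz r _).2 (pow_orderOf_eq_one _))
          · exact hne (h ▸ dvd_rfl)
        refine ⟨r, hr, ?_, fun b hb0 hb hbe => ?_, fun h => ?_⟩
        · have h1 : (q ^ m + 1) * (q ^ m - 1) = q ^ (m + m) - 1 := by rw [← Nat.sq_sub_sq, one_pow, ← pow_mul, mul_two]
          rw [← hM', show (m + m) / 2 = m by omega, if_pos hev']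
          rw [← h1] at hrn
          exact (hr.dvd_mul.1 hrn).resolve_right (hprim m (by omega) (by omega))
        · have h1 := orderOf_dvd_of_pow_eq_one (hsq r b hbe)
          rw [hord, ← two_mul] at h1
          obtain ⟨c, hc⟩ := Nat.dvd_of_mul_dvd_mul_left two_pos h1
          have hc1 : c = 1 := by
            rcases Nat.lt_or_ge c 2 with h | h
            · interval_cases c <;> omega
            · have := Nat.mul_le_mul_left m h; omega
          subst hc1
          rw [mul_one] at hc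
          subst hc
          rw [hev'.neg_pow] at hbe
          exact hprim _ (by omega) (by omega) ((hz r _).2 hbe)
        · have h1 := Nat.le_of_dvd two_pos (orderOf_dvd_of_pow_eq_one (hq1 r h))
          omega
      · have hm3 : 3 ≤ m := by obtain ⟨c, hc⟩ := hodd'; omega
        obtain ⟨r, hr, hrn, hprim⟩ := Cfsg.Lib.Zsigmondy.zsigmondy q m (by omega) (by omega) (by omega) (by omega)
        haveI := Fact.mk hr
        have hr2 : r ≠ 2 := by
          rintro rfl
          refine hprim 1 one_pos (by omega) ?_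
          rw [pow_one]
          obtain ⟨c, hc⟩ := hodd
          omega
        have hord : orderOf (q : ZMod r) = m := by
          have hdm := orderOf_dvd_of_pow_eq_one ((hz r _).1 hrn)
          rcases Nat.lt_or_eq_of_le (Nat.le_of_dvd (by omega) hdm) with h | h
          · exact absurd ((hz r _).2 (pow_orderOf_eq_one _)) (hprim _ (Nat.pos_of_dvd_of_pos hdm (by omega)) h)
          · exact h
        refine ⟨r, hr, ?_, fun b hb0 hb hbe => ?_, fun h => ?_⟩
        · rw [← hM', show (m + m) / 2 = m by omega, if_neg (Nat.not_even_iff_odd.2 hodd')]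
          exact hrn
        · have h1 := orderOf_dvd_of_pow_eq_one (hsq r b hbe)
          rw [hord] at h1
          obtain ⟨c, hc⟩ := (Nat.coprime_two_right.2 hodd').dvd_of_dvd_mul_left h1
          have hc1 : c = 1 := by
            rcases Nat.lt_or_ge c 2 with h | h
            · interval_cases c <;> omega
            · have := Nat.mul_le_mul_left m h; omega
          subst hc1
          rw [mul_one] at hc
          subst hc
          rw [hodd'.neg_pow, (hz r _).1 hrn] at hbe
          have h6 : ((2 : ℕ) : ZMod r) = 0 := by push_cast; linear_combination -hbe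
          rw [ZMod.natCast_eq_zero_iff] at h6
          exact hr2 ((Nat.prime_dvd_prime_iff_eq hr Nat.prime_two).1 h6)
        · have h1 := Nat.le_of_dvd two_pos (orderOf_dvd_of_pow_eq_one (hq1 r h))
          omega
    have hrp : r ≠ p := by
      rintro rfl
      obtain ⟨j, hj0, hj⟩ := Cfsg.Lib.UnitaryCommUnipotent.exists_q_eq_pow (p := r) hF
      have h1 : r ∣ q ^ m := dvd_pow (hj ▸ dvd_pow_self r (by omega)) (by omega)
      have h2 : r ∣ (1 + a ^ m).natAbs := hM ▸ hrM
      rw [← Int.natCast_dvd] at h2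
      have h3 : (r : ℤ) ∣ a ^ m := by
        rw [ha, neg_pow]
        exact Dvd.dvd.mul_left (by exact_mod_cast h1) _
      have h4 := (dvd_add_left h3).1 h2
      exact hr.ne_one (Nat.dvd_one.1 (by exact_mod_cast h4))
    obtain ⟨X, hX⟩ := QuotientGroup.mk'_surjective _ g
    rw [← hg]
    refine Cfsg.Lib.UnitarySingerOrder.scalar_pow (p := p) hF (by omega) hr hrp hprim hr1 ?_ hdq hdT X g hX
      (hg.symm ▸ hrM)
    rw [hT, ← ha, ← hSn]
    have hneg : Sn < 0 := by
      by_contra hge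
      push Not at hge
      have h1 : (a - 1) < 0 := by rw [ha]; omega
      have h2 : Sn * (a - 1) ≤ 0 := mul_nonpos_of_nonneg_of_nonpos hge h1.le
      rw [hSn', hev] at h2
      have h3 : (1 : ℤ) < (q : ℤ) ^ (m + m) := by
        exact_mod_cast Nat.one_lt_pow (by omega : m + m ≠ 0) (by omega : 1 < q)
      omega
    omega
  · intro h
    have hex := Cfsg.Lib.UnitarySingerOrder.exists_singer (p := p) (m := m) hF (by omega) hmul hdT hgT
    rw [two_mul] at hex
    obtain ⟨g, hg⟩ := hex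
    exact ⟨g ^ (orderOf g / M), orderOf_pow_orderOf_div (orderOf_pos g).ne' (hg.symm ▸ h)⟩

end Cfsg.Agent.S2496
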