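import Cfsg.Statements.S2500
import Cfsg.Agent.Known.TwoClassCover.Linear
import Cfsg.Agent.Known.TwoClassCover.SympEven
import Cfsg.Agent.Known.TwoClassCover.UnitaryThree
import Cfsg.Agent.Known.TwoClassCover.UnitaryFour
import Cfsg.Agent.Known.TwoClassCover.SympSixMain
import Cfsg.Agent.Known.TwoClassCover.GTwo

set_option autoImplicit false
open Cfsg

namespace Cfsg.Agent.S2500

/-- The infinite families of simple groups with normal covering number 2. For a finite field F: each of PSL_2(F) (|F| ≥ 4), PSL_3(F), PSL_4(F), PSU_4 over F (|F| = q²), PSU_3 over F when |F| = q² with q a power of 3, PSp_{2m}(F) for |F| even, m ≥ 2 and (m, |F|) ≠ (2, 2), PSp_6(F) for |F| a power of 3, and G_2(F) (automorphisms of the split octonions) for |F| = 2^a ≥ 4 is the union of the conjugates of two proper subgroups: there are proper subgroups H, K such that every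 element is conjugate into H or into K. -/
theorem result {F : Type} [Field F] [Fintype F] :
    (4 ≤ Fintype.card F → (∃ H K : Subgroup (Matrix.ProjectiveSpecialLinearGroup (Fin 2) F), H ≠ ⊤ ∧ K ≠ ⊤ ∧ ∀ g : (Matrix.ProjectiveSpecialLinearGroup (Fin 2) F), ∃ x : (Matrix.ProjectiveSpecialLinearGroup (Fin 2) F), x * g * x⁻¹ ∈ H ∨ x * g * x⁻¹ ∈ K)) ∧
    (∃ H K : Subgroup (Matrix.ProjectiveSpecialLinearGroup (Fin 3) F), H ≠ ⊤ ∧ K ≠ ⊤ ∧ ∀ g : (Matrix.ProjectiveSpecialLinearGroup (Fin 3) F), ∃ x : (Matrix.ProjectiveSpecialLinearGroup (Fin 3) F), x * g * x⁻¹ ∈ H ∨ x * g * x⁻¹ ∈ K) ∧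
    (∃ H K : Subgroup (Matrix.ProjectiveSpecialLinearGroup (Fin 4) F), H ≠ ⊤ ∧ K ≠ ⊤ ∧ ∀ g : (Matrix.ProjectiveSpecialLinearGroup (Fin 4) F), ∃ x : (Matrix.ProjectiveSpecialLinearGroup (Fin 4) F), x * g * x⁻¹ ∈ H ∨ x * g * x⁻¹ ∈ K) ∧
    (∀ q : ℕ, Fintype.card F = q ^ 2 → (∃ H K : Subgroup (Cfsg.PSU 4 F q), H ≠ ⊤ ∧ K ≠ ⊤ ∧ ∀ g : (Cfsg.PSU 4 F q), ∃ x : (Cfsg.PSU 4 F q), x * g * x⁻¹ ∈ H ∨ x * g * x⁻¹ ∈ K)) ∧
    (∀ q a : ℕ, Fintype.card F = q ^ 2 → 1 ≤ a → q = 3 ^ a → (∃ H K : Subgroup (Cfsg.PSU 3 F q), H ≠ ⊤ ∧ K ≠ ⊤ ∧ ∀ g : (Cfsg.PSU 3 F q), ∃ x : (Cfsg.PSU 3 F q), x * g * x⁻¹ ∈ H ∨ x * g * x⁻¹ ∈ K)) ∧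
    (∀ m : ℕ, 2 ≤ m → ¬ Odd (Fintype.card F) → ¬ (m = 2 ∧ Fintype.card F = 2) → (∃ H K : Subgroup (Cfsg.PSp m F), H ≠ ⊤ ∧ K ≠ ⊤ ∧ ∀ g : (Cfsg.PSp m F), ∃ x : (Cfsg.PSp m F), x * g * x⁻¹ ∈ H ∨ x * g * x⁻¹ ∈ K)) ∧
    (∀ a : ℕ, 1 ≤ a → Fintype.card F = 3 ^ a → (∃ H K : Subgroup (Cfsg.PSp 3 F), H ≠ ⊤ ∧ K ≠ ⊤ ∧ ∀ g : (Cfsg.PSp 3 F), ∃ x : (Cfsg.PSp 3 F), x * g * x⁻¹ ∈ H ∨ x * g * x⁻¹ ∈ K)) ∧
    (∀ a : ℕ, 2 ≤ a → Fintype.card F = 2 ^ a → (∃ H K : Subgroup (Cfsg.Lie.G2 F), H ≠ ⊤ ∧ K ≠ ⊤ ∧ ∀ g : (Cfsg.Lie.G2 F), ∃ x : (Cfsg.Lie.G2 F), x * g * x⁻¹ ∈ H ∨ x * g * x⁻¹ ∈ K)) := by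
  have hchar : ∀ p k : ℕ, p.Prime → Fintype.card F = p ^ k → CharP F p := by
    intro p k hp h
    obtain ⟨r, hr⟩ := CharP.exists F
    obtain ⟨n, hrp, hn⟩ := FiniteField.card F r
    have h1 : p ∣ r ^ (n : ℕ) := by
      rw [← hn, h]
      refine dvd_pow_self p fun hk => ?_
      rw [hk, pow_zero] at h
      exact Fintype.one_lt_card.ne' h
    have h2 := (Nat.prime_dvd_prime_iff_eq hp hrp).1 (hp.dvd_of_dvd_pow h1)
    exact h2 ▸ hr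
  refine ⟨fun _ => Cfsg.Lib.TwoClassCover.psl_two_covered, Cfsg.Lib.TwoClassCover.psl_three_covered,
    Cfsg.Lib.TwoClassCover.psl_four_covered, fun q hq => Cfsg.Lib.TwoClassCover.psu_four_covered hq,
    fun q a hq ha hqa => ?_, fun m hm hodd _ => ?_, fun a ha hc => ?_, fun a ha hc => ?_⟩
  · haveI := hchar 3 (a * 2) Nat.prime_three (by rw [hq, hqa, ← pow_mul])
    exact Cfsg.Lib.TwoClassCover.psu_three_covered hq hqa
  · haveI : CharP F 2 := by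
      by_contra hne
      apply hodd
      rw [Nat.odd_iff]
      refine FiniteField.odd_card_of_char_ne_two fun h => hne ?_
      exact h ▸ ringChar.charP F
    exact Cfsg.Lib.TwoClassCover.psp_even_covered hm
  · haveI := hchar 3 a Nat.prime_three hc
    exact Cfsg.Lib.TwoClassCover.psp_six_covered
  · haveI := hchar 2 a Nat.prime_two hc
    refine Cfsg.Lib.TwoClassCover.g2_covered ?_
    rw [hc]
    exact le_trans (by norm_num) (Nat.pow_le_pow_right two_pos ha)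

end Cfsg.Agent.S2500
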