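import Cfsg.Statements.S2503
import Cfsg.Agent.Known.SLTwo.Torus

set_option autoImplicit false
open Cfsg

namespace Cfsg.Agent.S2503

/-- Let F be a finite field with q = 2^t ≥ 4 elements and L = PSL(2,F). Then L has a cyclic subgroup A of order q + 1 and an elementary abelian 2-subgroup B of order q such that L = ABA: every element of L is a product a·b·a' with a, a' ∈ A and b ∈ B. -/
theorem result {F : Type*} [Field F] [Fintype F]
    (h2 : 2 ∣ Fintype.card F) (h4 : 4 ≤ Fintype.card F) :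
    ∃ A B : Subgroup (Matrix.ProjectiveSpecialLinearGroup (Fin 2) F),
      IsCyclic A ∧ Nat.card A = Fintype.card F + 1 ∧ IsMulCommutative B ∧ (∀ b ∈ B, b * b = 1) ∧
        Nat.card B = Fintype.card F ∧
        ∀ g : Matrix.ProjectiveSpecialLinearGroup (Fin 2) F, ∃ a ∈ A, ∃ b ∈ B, ∃ c ∈ A, g = a * b * c := by
  classical
  haveI : CharP F 2 := ringChar.eq_iff.1 (FiniteField.even_card_iff_char_two.2 (Nat.mod_eq_zero_of_dvd h2 |> fun h => h))
  haveI : Fact (Nat.Prime 2) := ⟨Nat.prime_two⟩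
  obtain ⟨t, ht⟩ := Cfsg.Lib.GLTwo.exists_irred (F := F)
  set c := Cfsg.Lib.GLTwo.compSL t with hc
  have hns : Cfsg.Lib.GLTwo.NonScalar (c : Matrix (Fin 2) (Fin 2) F) := Cfsg.Lib.GLTwo.nonScalar_comp t 1
  have htr : (c : Matrix (Fin 2) (Fin 2) F).trace = t := Cfsg.Lib.GLTwo.trace_comp t 1
  set A0 := Subgroup.centralizer ({c} : Set (Matrix.SpecialLinearGroup (Fin 2) F))
  haveI hcyc := Cfsg.Lib.GLTwo.irred_cyclic 2 hns (by rw [htr]; exact ht)
  let one' : {r : F // r * r = 1} := ⟨1, mul_one 1⟩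
  let U : Subgroup (Matrix.SpecialLinearGroup (Fin 2) F) :=
    { carrier := Set.range (Cfsg.Lib.GLTwo.upper one')
      one_mem' := ⟨0, Subtype.ext (by
        rw [Cfsg.Lib.GLTwo.coe_upper, Matrix.SpecialLinearGroup.coe_one]
        ext i j; fin_cases i <;> fin_cases j <;> simp [one'])⟩
      mul_mem' := by
        rintro _ _ ⟨x, rfl⟩ ⟨y, rfl⟩
        refine ⟨x + y, Subtype.ext ?_⟩
        rw [Matrix.SpecialLinearGroup.coe_mul, Cfsg.Lib.GLTwo.coe_upper, Cfsg.Lib.GLTwo.coe_upper, Cfsg.Lib.GLTwo.coe_upper]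
        ext i j; fin_cases i <;> fin_cases j <;> simp [one', Matrix.mul_apply, Fin.sum_univ_two, add_comm]
      inv_mem' := by
        rintro _ ⟨x, rfl⟩
        refine ⟨-x, Subtype.ext ?_⟩
        rw [Matrix.SpecialLinearGroup.coe_inv, Cfsg.Lib.GLTwo.coe_upper, Cfsg.Lib.GLTwo.coe_upper, Matrix.adjugate_fin_two]
        ext i j; fin_cases i <;> fin_cases j <;> simp [one'] }
  have hinj : Function.Injective (Cfsg.Lib.GLTwo.prj (F := F)) := Cfsg.Lib.GLTwo.prj_injective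
  refine ⟨A0.map Cfsg.Lib.GLTwo.prj, U.map Cfsg.Lib.GLTwo.prj, ?_, ?_, ?_, ?_, ?_, ?_⟩
  · exact isCyclic_of_surjective _ (A0.equivMapOfInjective _ hinj).surjective
  · rw [← Nat.card_congr (A0.equivMapOfInjective _ hinj).toEquiv, Cfsg.Lib.GLTwo.card_centSL hns, htr, Cfsg.Lib.GLTwo.card_one_irred ht]
  · refine ⟨⟨fun a b => ?_⟩⟩
    obtain ⟨_, ⟨x, rfl⟩, ha⟩ := a.2
    obtain ⟨_, ⟨y, rfl⟩, hb⟩ := b.2
    refine Subtype.ext ?_
    rw [Subgroup.coe_mul, Subgroup.coe_mul, ← ha, ← hb, ← map_mul, ← map_mul]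
    congr 1
    refine Subtype.ext ?_
    rw [Matrix.SpecialLinearGroup.coe_mul, Matrix.SpecialLinearGroup.coe_mul, Cfsg.Lib.GLTwo.coe_upper, Cfsg.Lib.GLTwo.coe_upper]
    ext i j; fin_cases i <;> fin_cases j <;> simp [one', Matrix.mul_apply, Fin.sum_univ_two, add_comm]
  · rintro _ ⟨_, ⟨x, rfl⟩, rfl⟩
    rw [← map_mul, ← map_one (Cfsg.Lib.GLTwo.prj (F := F))]
    congr 1
    refine Subtype.ext ?_
    rw [Matrix.SpecialLinearGroup.coe_mul, Cfsg.Lib.GLTwo.coe_upper, Matrix.SpecialLinearGroup.coe_one]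
    ext i j; fin_cases i <;> fin_cases j <;> simp [one', Matrix.mul_apply, Fin.sum_univ_two, CharTwo.add_self_eq_zero]
  · rw [← Nat.card_congr (U.equivMapOfInjective _ hinj).toEquiv, ← Nat.card_eq_fintype_card (α := F)]
    refine (Nat.card_congr (Equiv.ofInjective (Cfsg.Lib.GLTwo.upper one') fun a b h => ?_)).symm
    simpa using congrArg (fun z : Matrix.SpecialLinearGroup (Fin 2) F => (z : Matrix (Fin 2) (Fin 2) F) 0 1) h
  · intro g
    obtain ⟨G, rfl⟩ := QuotientGroup.mk'_surjective (Subgroup.center (Matrix.SpecialLinearGroup (Fin 2) F)) g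
    set m := (G : Matrix (Fin 2) (Fin 2) F) with hm
    have hdet : m 0 0 * m 1 1 - m 0 1 * m 1 0 = 1 := (Matrix.det_fin_two m).symm.trans G.2
    let N : F × F → F := fun v => Cfsg.Lib.GLTwo.form t 1 v
    let g2 : F × F → F × F := fun v => (m 0 0 * v.1 + m 0 1 * v.2, m 1 0 * v.1 + m 1 1 * v.2)
    let hh : F × F →+ F := AddMonoidHom.mk' (fun v => N (g2 v) + N v) (fun v w => by
      simp only [N, g2, Cfsg.Lib.GLTwo.form, Prod.fst_add, Prod.snd_add]
      linear_combination (t * (v.1 * w.2 + v.2 * w.1)) * hdet +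
        ((m 0 0 * v.1 + m 0 1 * v.2) * (m 0 0 * w.1 + m 0 1 * w.2) + (m 1 0 * v.1 + m 1 1 * v.2) * (m 1 0 * w.1 + m 1 1 * w.2)
          + v.1 * w.1 + v.2 * w.2 + t * (m 0 0 * m 1 0 * v.1 * w.1 + m 0 1 * m 1 1 * v.2 * w.2)
          + t * (m 0 1 * m 1 0 * (v.1 * w.2 + v.2 * w.1)) + t * (v.1 * w.2 + v.2 * w.1)) * CharTwo.two_eq_zero (R := F))
    obtain ⟨v, hv0, hv⟩ : ∃ v, v ≠ 0 ∧ hh v = 0 := by
      by_contra hno
      push Not at hno
      have hinj' : Function.Injective hh := (injective_iff_map_eq_zero _).2 fun v hv => by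
        by_contra hv0; exact hno v hv0 hv
      have := Nat.card_le_card_of_injective _ hinj'
      rw [Nat.card_prod, Nat.card_eq_fintype_card] at this
      nlinarith
    obtain ⟨z, hz⟩ := FiniteField.isSquare_of_char_two (ringChar.eq F 2) (N v)
    have hz0 : z ≠ 0 := fun e => hv0 (Cfsg.Lib.GLTwo.form_eq_zero ht (by rw [show Cfsg.Lib.GLTwo.form t 1 v = N v from rfl, hz, e, mul_zero]))
    set w : F × F := (v.1 / z, v.2 / z) with hw
    have hNw : N w = 1 := by
      simp only [N, w, Cfsg.Lib.GLTwo.form] at hz ⊢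
      field_simp
      linear_combination hz
    have hgv : N (g2 v) = N v := CharTwo.add_eq_zero.1 hv
    have hNgw : N (g2 w) = 1 := by
      simp only [N, g2, w, Cfsg.Lib.GLTwo.form] at hgv hz ⊢
      field_simp
      linear_combination hgv + hz
    let X : F × F → Matrix (Fin 2) (Fin 2) F := fun u => Cfsg.Lib.GLTwo.combo (c : Matrix (Fin 2) (Fin 2) F) u.1 u.2
    obtain ⟨a, ha, ha'⟩ : ∃ a ∈ A0, ((a : Matrix.SpecialLinearGroup (Fin 2) F) : Matrix (Fin 2) (Fin 2) F) = X (g2 w) :=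
      ⟨_, (Cfsg.Lib.GLTwo.toSLCent c ⟨g2 w, by rw [htr]; exact hNgw⟩).2, rfl⟩
    obtain ⟨e, he, he'⟩ : ∃ e ∈ A0, ((e : Matrix.SpecialLinearGroup (Fin 2) F) : Matrix (Fin 2) (Fin 2) F) = X w :=
      ⟨_, (Cfsg.Lib.GLTwo.toSLCent c ⟨w, by rw [htr]; exact hNw⟩).2, rfl⟩
    have hu : a⁻¹ * G * e ∈ U := by
      set y := a⁻¹ * G * e with hy
      have hcol : a * y = G * e := by rw [hy]; group
      have hcol' := congrArg (fun z : Matrix.SpecialLinearGroup (Fin 2) F => (z : Matrix (Fin 2) (Fin 2) F)) hcol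
      simp only [Matrix.SpecialLinearGroup.coe_mul] at hcol'
      rw [ha', he'] at hcol'
      have hda : (X (g2 w)).det = 1 := by rw [← ha']; exact a.2
      rw [Matrix.det_fin_two] at hda
      have e0 := congrFun (congrFun hcol' 0) 0
      have e1 := congrFun (congrFun hcol' 1) 0
      simp [X, Cfsg.Lib.GLTwo.combo, c, Cfsg.Lib.GLTwo.compSL, Cfsg.Lib.GLTwo.comp, Matrix.mul_apply, Fin.sum_univ_two, g2, ← hm] at e0 e1 hda
      have hdy := (Matrix.det_fin_two (y : Matrix (Fin 2) (Fin 2) F)).symm.trans y.2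
      have y10 : (y : Matrix (Fin 2) (Fin 2) F) 1 0 = 0 := by
        linear_combination (m 0 0 * w.1 + m 0 1 * w.2) * e1 - (m 1 0 * w.1 + m 1 1 * w.2) * e0 - (y : Matrix (Fin 2) (Fin 2) F) 1 0 * hda
      have y00 : (y : Matrix (Fin 2) (Fin 2) F) 0 0 = 1 := by
        rw [y10] at e0 e1
        rcases eq_or_ne (m 0 0 * w.1 + m 0 1 * w.2) 0 with h0 | h0
        · refine mul_left_cancel₀ (a := m 1 0 * w.1 + m 1 1 * w.2) (fun h1 => ?_) (by linear_combination e1)
          rw [h0, h1] at hda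
          simp at hda
        · exact mul_left_cancel₀ h0 (by linear_combination e0)
      refine ⟨(y : Matrix (Fin 2) (Fin 2) F) 0 1, Subtype.ext ?_⟩
      rw [y10, y00] at hdy
      rw [Cfsg.Lib.GLTwo.coe_upper]
      have y11 : (y : Matrix (Fin 2) (Fin 2) F) 1 1 = 1 := by linear_combination hdy
      ext i j; fin_cases i <;> fin_cases j <;> simp [one', y10, y00, y11]
    refine ⟨_, Subgroup.mem_map_of_mem _ ha, _, Subgroup.mem_map_of_mem _ hu, _, Subgroup.mem_map_of_mem _ (inv_mem he), ?_⟩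
    rw [← map_mul, ← map_mul, show a * (a⁻¹ * G * e) * e⁻¹ = G by group]

end Cfsg.Agent.S2503
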