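import Cfsg.Statements.S2504
import Cfsg.Agent.Known.AbelianPerm

set_option autoImplicit false
open Cfsg

namespace Cfsg.Agent.S2504

/-- The largest order of an abelian subgroup of the alternating group of degree n is 3^k when n = 3k, 4·3^(k−1) when n = 3k + 1, and 16·3^(k−2) when n = 3k + 2, for every k ≥ 2 (so for all degrees n ≥ 6). -/
theorem result (k : ℕ) (hk : 2 ≤ k) :
    IsGreatest {c : ℕ | ∃ A : Subgroup (alternatingGroup (Fin (3 * k))), IsMulCommutative A ∧ Nat.card A = c} (3 ^ k) ∧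
    IsGreatest {c : ℕ | ∃ A : Subgroup (alternatingGroup (Fin (3 * k + 1))), IsMulCommutative A ∧ Nat.card A = c}
      (4 * 3 ^ (k - 1)) ∧
    IsGreatest {c : ℕ | ∃ A : Subgroup (alternatingGroup (Fin (3 * k + 2))), IsMulCommutative A ∧ Nat.card A = c}
      (16 * 3 ^ (k - 2)) := by
  classical
  obtain ⟨j, rfl⟩ : ∃ j, k = j + 2 := ⟨k - 2, by omega⟩
  rw [Nat.add_sub_cancel]
  have upperS : ∀ n (A : Subgroup (Equiv.Perm (Fin n))), IsMulCommutative A → Nat.card A ≤ Cfsg.Lib.AbelianPerm.G n := by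
    intro n A hA
    obtain ⟨Ω, a, ha, hs, hd, -⟩ := Cfsg.Lib.AbelianPerm.exists_orbit_data A
    have h := Cfsg.Lib.AbelianPerm.prod_le Ω a ha
    rw [hs, Fintype.card_fin] at h
    exact (Nat.le_of_dvd (Finset.prod_pos fun o ho => ha o ho) hd).trans h
  have hmap : ∀ n (A : Subgroup (alternatingGroup (Fin n))), IsMulCommutative A →
      IsMulCommutative (A.map (alternatingGroup (Fin n)).subtype) ∧ Nat.card (A.map (alternatingGroup (Fin n)).subtype) = Nat.card A ∧
      A.map (alternatingGroup (Fin n)).subtype ≤ alternatingGroup (Fin n) := fun n A hA => by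
    refine ⟨⟨⟨fun a b => ?_⟩⟩, Subgroup.card_map_of_injective (alternatingGroup (Fin n)).subtype_injective,
      Subgroup.map_subtype_le A⟩
    obtain ⟨_, x, hx, rfl⟩ := a
    obtain ⟨_, y, hy, rfl⟩ := b
    exact Subtype.ext (congrArg (fun z : A => ((z : alternatingGroup (Fin n)) : Equiv.Perm (Fin n))) (hA.is_comm.comm ⟨x, hx⟩ ⟨y, hy⟩))
  have hsub : ∀ n (A : Subgroup (Equiv.Perm (Fin n))), IsMulCommutative A → A ≤ alternatingGroup (Fin n) →
      ∃ B : Subgroup (alternatingGroup (Fin n)), IsMulCommutative B ∧ Nat.card B = Nat.card A := fun n A hA hle =>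
    ⟨A.subgroupOf (alternatingGroup (Fin n)), ⟨⟨fun a b => by
      refine Subtype.ext (Subtype.ext ?_)
      exact congrArg (fun z : A => (z : Equiv.Perm (Fin n))) (hA.is_comm.comm ⟨_, a.2⟩ ⟨_, b.2⟩)⟩⟩, Nat.card_congr (Subgroup.subgroupOfEquivOfLe hle).toEquiv⟩
  have h3 : ∀ c : Multiplicative (Fin 1 → ZMod 3), Equiv.Perm.sign (MulAction.toPermHom _ (Multiplicative (Fin 1 → ZMod 3)) c) = 1 := by decide
  have h4 : ∀ c : Multiplicative (Fin 2 → ZMod 2), Equiv.Perm.sign (MulAction.toPermHom _ (Multiplicative (Fin 2 → ZMod 2)) c) = 1 := by decide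
  haveI : ∀ b : Bool, NeZero (bif b then 2 else 3) := fun b => by cases b <;> exact ⟨by decide⟩
  have build : ∀ {ι : Type} [Fintype ι] [DecidableEq ι] (b : ι → Bool) (n : ℕ),
      (∑ i, (bif b i then 4 else 3) = n) → ∃ B : Subgroup (alternatingGroup (Fin n)), IsMulCommutative B ∧
        Nat.card B = ∏ i, (bif b i then 4 else 3) := by
    intro ι _ _ b n hn
    have hc : ∀ i, Fintype.card (Multiplicative (Fin (bif b i then 2 else 1) → ZMod (bif b i then 2 else 3))) = (bif b i then 4 else 3) := fun i => by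
      cases hb : b i <;> simp
    obtain ⟨A, hA, hcA, hev⟩ := Cfsg.Lib.AbelianPerm.exists_abelian
      (fun i => Multiplicative (Fin (bif b i then 2 else 1) → ZMod (bif b i then 2 else 3))) (n := n)
      (by rw [← hn]; exact Finset.sum_congr rfl fun i _ => hc i)
    have hboth : ∀ (t : Bool) (c : Multiplicative (Fin (bif t then 2 else 1) → ZMod (bif t then 2 else 3))),
        Equiv.Perm.sign (MulAction.toPermHom _ (Multiplicative (Fin (bif t then 2 else 1) → ZMod (bif t then 2 else 3))) c) = 1 := by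
      intro t
      cases t
      · intro c; convert h3 c <;> rfl
      · intro c; convert h4 c <;> rfl
    obtain ⟨B, hB, hcB⟩ := hsub n A hA (hev fun i c => by convert hboth (b i) c)
    exact ⟨B, hB, by rw [hcB, hcA]; exact Finset.prod_congr rfl fun i _ => hc i⟩
  refine ⟨⟨?_, ?_⟩, ⟨?_, ?_⟩, ⟨?_, ?_⟩⟩
  · obtain ⟨B, hB, hc⟩ := build (fun _ : Fin (j + 2) => false) (3 * (j + 2)) (by simp [mul_comm])
    exact ⟨B, hB, by rw [hc]; simp⟩
  · rintro c ⟨A, hA, rfl⟩
    obtain ⟨h1, h2, -⟩ := hmap _ A hA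
    rw [← h2]; exact (upperS _ _ h1).trans_eq (Cfsg.Lib.AbelianPerm.G_zero_mod _)
  · obtain ⟨B, hB, hc⟩ := build (fun i : Option (Fin (j + 1)) => i.isNone) (3 * (j + 2) + 1) (by simp [Fintype.sum_option]; ring)
    exact ⟨B, hB, by rw [hc]; simp [Fintype.prod_option]⟩
  · rintro c ⟨A, hA, rfl⟩
    obtain ⟨h1, h2, -⟩ := hmap _ A hA
    rw [← h2]
    refine (upperS _ _ h1).trans_eq ?_
    rw [show 3 * (j + 2) + 1 = 3 * (j + 1) + 4 by ring, Cfsg.Lib.AbelianPerm.G_one_mod, show j + 2 - 1 = j + 1 by omega]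
  · obtain ⟨B, hB, hc⟩ := build (fun i : Fin 2 ⊕ Fin j => i.isLeft) (3 * (j + 2) + 2) (by simp [Fintype.sum_sum_type]; ring)
    exact ⟨B, hB, by rw [hc]; simp [Fintype.prod_sum_type]⟩
  · rintro c ⟨A, hA, rfl⟩
    obtain ⟨h1, h2, hle⟩ := hmap _ A hA
    rw [← h2]
    set A' := A.map (alternatingGroup (Fin (3 * (j + 2) + 2))).subtype
    haveI := h1
    obtain ⟨Ω, a, ha, hs, hd, hsw⟩ := Cfsg.Lib.AbelianPerm.exists_orbit_data A'
    rw [Fintype.card_fin] at hs
    have hpos : 0 < ∏ o ∈ Ω, a o := Finset.prod_pos fun o ho => ha o ho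
    by_cases h2' : ∀ o ∈ Ω, a o ≠ 2
    · have h := Cfsg.Lib.AbelianPerm.prod_le_of_ne_two Ω a ha (by omega) hs h2'
      rw [Nat.add_sub_cancel] at h
      exact (Nat.le_of_dvd hpos hd).trans h
    · push Not at h2'
      obtain ⟨o, ho, ho2⟩ := h2'
      have hne : Nat.card A' ≠ ∏ o ∈ Ω, a o := fun h => by
        obtain ⟨g, hg, hsg⟩ := hsw h o ho ho2
        have := hle hg
        rw [Equiv.Perm.mem_alternatingGroup, hsg] at this
        exact absurd this (by decide)
      obtain ⟨e, he⟩ := hd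
      have he2 : 2 ≤ e := by
        rcases e with _ | _ | e
        · rw [mul_zero] at he; omega
        · rw [zero_add, mul_one] at he; exact absurd he.symm hne
        · omega
      have h := Cfsg.Lib.AbelianPerm.prod_le Ω a ha
      rw [hs, Cfsg.Lib.AbelianPerm.G_two_mod, he, pow_add] at h
      have := Nat.mul_le_mul_left (Nat.card A') he2
      omega

end Cfsg.Agent.S2504
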