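import Cfsg.Statements.S2505
import Cfsg.Agent.Known.AbelianPerm

set_option autoImplicit false
open Cfsg

namespace Cfsg.Agent.S2505

/-- The largest order of an abelian subgroup of the symmetric group of degree n is 3^k when n = 3k, 4·3^(k−1) when n = 3k + 1, and 2·3^k when n = 3k + 2, for every k ≥ 1. -/
theorem result (k : ℕ) (hk : 1 ≤ k) :
    IsGreatest {c : ℕ | ∃ A : Subgroup (Equiv.Perm (Fin (3 * k))), IsMulCommutative A ∧ Nat.card A = c} (3 ^ k) ∧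
    IsGreatest {c : ℕ | ∃ A : Subgroup (Equiv.Perm (Fin (3 * k + 1))), IsMulCommutative A ∧ Nat.card A = c}
      (4 * 3 ^ (k - 1)) ∧
    IsGreatest {c : ℕ | ∃ A : Subgroup (Equiv.Perm (Fin (3 * k + 2))), IsMulCommutative A ∧ Nat.card A = c}
      (2 * 3 ^ k) := by
  classical
  have upper : ∀ n (A : Subgroup (Equiv.Perm (Fin n))), IsMulCommutative A → Nat.card A ≤ Cfsg.Lib.AbelianPerm.G n := by
    intro n A hA
    obtain ⟨Ω, a, ha, hs, hd, -⟩ := Cfsg.Lib.AbelianPerm.exists_orbit_data A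
    have h := Cfsg.Lib.AbelianPerm.prod_le Ω a ha
    rw [hs, Fintype.card_fin] at h
    exact (Nat.le_of_dvd (Finset.prod_pos fun o ho => ha o ho) hd).trans h
  obtain ⟨j, rfl⟩ : ∃ j, k = j + 1 := ⟨k - 1, by omega⟩
  refine ⟨⟨?_, ?_⟩, ⟨?_, ?_⟩, ⟨?_, ?_⟩⟩
  · obtain ⟨A, hA, hc, -⟩ := Cfsg.Lib.AbelianPerm.exists_abelian (fun _ : Fin (j + 1) => Multiplicative (ZMod 3))
      (n := 3 * (j + 1)) (by simp [mul_comm])
    exact ⟨A, hA, by rw [hc]; simp⟩
  · rintro c ⟨A, hA, rfl⟩; exact (upper _ A hA).trans_eq (Cfsg.Lib.AbelianPerm.G_zero_mod _)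
  · obtain ⟨A, hA, hc, -⟩ := Cfsg.Lib.AbelianPerm.exists_abelian (fun i : Option (Fin j) => Multiplicative (ZMod (i.elim 3 (fun _ => 2) + 1)))
      (n := 3 * (j + 1) + 1) (by simp [Fintype.sum_option]; ring)
    exact ⟨A, hA, by rw [hc]; simp [Fintype.prod_option]⟩
  · rintro c ⟨A, hA, rfl⟩
    refine (upper _ A hA).trans_eq ?_
    rw [show 3 * (j + 1) + 1 = 3 * j + 4 by ring, Cfsg.Lib.AbelianPerm.G_one_mod, Nat.add_sub_cancel]
  · obtain ⟨A, hA, hc, -⟩ := Cfsg.Lib.AbelianPerm.exists_abelian (fun i : Option (Fin (j + 1)) => Multiplicative (ZMod (i.elim 1 (fun _ => 2) + 1)))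
      (n := 3 * (j + 1) + 2) (by simp [Fintype.sum_option]; ring)
    exact ⟨A, hA, by rw [hc]; simp [Fintype.prod_option]⟩
  · rintro c ⟨A, hA, rfl⟩; exact (upper _ A hA).trans_eq (Cfsg.Lib.AbelianPerm.G_two_mod _)

end Cfsg.Agent.S2505
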