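import Cfsg.Statements.S2506
import Cfsg.Agent.S2504
import Cfsg.Agent.Known.AbelianPermConj
-- import your own Cfsg.Agent.* helpers here

set_option autoImplicit false
open scoped Pointwise
open Cfsg

namespace Cfsg.Agent.S2506

theorem small : ∀ n, n < 4 → ∀ a b : alternatingGroup (Fin n), a * b = b * a := by
  intro n hn
  interval_cases n <;> decide

theorem hcomm (n : ℕ) (X : Subgroup (alternatingGroup (Fin n))) (hX : IsMulCommutative X) :
    IsMulCommutative (X.map (alternatingGroup (Fin n)).subtype) := ⟨⟨fun a b => by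
  obtain ⟨_, x, hx, rfl⟩ := a
  obtain ⟨_, y, hy, rfl⟩ := b
  exact Subtype.ext (congrArg (fun z : X => ((z : alternatingGroup (Fin n)) : Equiv.Perm (Fin n))) (hX.is_comm.comm ⟨x, hx⟩ ⟨y, hy⟩))⟩⟩

/-- In the alternating group of any degree, any two abelian subgroups of the largest possible order (among abelian subgroups) are conjugate. -/
theorem result (n : ℕ)
    (A B : Subgroup (alternatingGroup (Fin n))) (hA : IsMulCommutative A) (hB : IsMulCommutative B)
    (hAmax : ∀ C : Subgroup (alternatingGroup (Fin n)), IsMulCommutative C → Nat.card C ≤ Nat.card A)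
    (hBmax : ∀ C : Subgroup (alternatingGroup (Fin n)), IsMulCommutative C → Nat.card C ≤ Nat.card B) :
    ∃ g : alternatingGroup (Fin n), B = MulAut.conj g • A := by
  classical
  rcases Nat.lt_or_ge n 6 with hn | hn
  · -- small degrees
    have hle2 : n < 4 → A = ⊤ ∧ B = ⊤ := by
      intro h4
      have htop : ∀ X : Subgroup (alternatingGroup (Fin n)), (∀ C : Subgroup (alternatingGroup (Fin n)), IsMulCommutative C → Nat.card C ≤ Nat.card X) → X = ⊤ := by
        intro X hX
        refine Subgroup.eq_top_of_card_eq X (le_antisymm (Subgroup.card_le_card_group X) ?_)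
        rw [← Subgroup.card_top]
        exact hX ⊤ ⟨⟨fun a b => Subtype.ext (small n h4 a b)⟩⟩
      exact ⟨htop A hAmax, htop B hBmax⟩
    rcases (show n < 4 ∨ n = 4 ∨ n = 5 by omega) with h | h | h
    · exact ⟨1, by rw [(hle2 h).1, (hle2 h).2]; simp⟩
    all_goals subst h
    · have hc : Nat.card (alternatingGroup (Fin 4)) = 12 := by
        rw [nat_card_alternatingGroup, Nat.card_eq_fintype_card, Fintype.card_fin]; rfl
      haveI : Fact (Nat.Prime 2) := ⟨Nat.prime_two⟩
      have key : ∀ X : Subgroup (alternatingGroup (Fin 4)), IsMulCommutative X →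
          (∀ C : Subgroup (alternatingGroup (Fin 4)), IsMulCommutative C → Nat.card C ≤ Nat.card X) →
          Nat.card X = 2 ^ (Nat.card (alternatingGroup (Fin 4))).factorization 2 := by
        intro X hX hXmax
        rw [hc, Nat.factorization_def _ Nat.prime_two, show padicValNat 2 12 = 2 by
          rw [show (12 : ℕ) = 2 ^ 2 * 3 by norm_num, padicValNat.mul (by norm_num) (by norm_num),
            padicValNat.prime_pow, padicValNat.eq_zero_of_not_dvd (by norm_num)]]
        obtain ⟨Ω, a, ha, hs, hd, -⟩ := @Cfsg.Lib.AbelianPerm.exists_orbit_data (Fin 4) _ _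
          (X.map (alternatingGroup (Fin 4)).subtype) (hcomm _ X hX)
        rw [Subgroup.card_map_of_injective (alternatingGroup (Fin 4)).subtype_injective] at hd
        have h := Cfsg.Lib.AbelianPerm.prod_le Ω a ha
        rw [hs, Fintype.card_fin] at h
        have h1 := (Nat.le_of_dvd (Finset.prod_pos fun o ho => ha o ho) hd).trans h
        obtain ⟨S⟩ : Nonempty (Sylow 2 (alternatingGroup (Fin 4))) := inferInstance
        have hS := S.card_eq_multiplicity
        rw [hc, Nat.factorization_def _ Nat.prime_two, show padicValNat 2 12 = 2 by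
          rw [show (12 : ℕ) = 2 ^ 2 * 3 by norm_num, padicValNat.mul (by norm_num) (by norm_num),
            padicValNat.prime_pow, padicValNat.eq_zero_of_not_dvd (by norm_num)]] at hS
        have h2 := hXmax _ (IsPGroup.isMulCommutative_of_card_eq_prime_sq hS)
        rw [hS] at h2
        have h4 : Cfsg.Lib.AbelianPerm.G 4 = 4 := by simp [Cfsg.Lib.AbelianPerm.G]
        rw [show (2 : ℕ) ^ 2 = 4 by norm_num] at h2 ⊢
        omega
      obtain ⟨g, hg⟩ := MulAction.exists_smul_eq (alternatingGroup (Fin 4)) (Sylow.ofCard A (key A hA hAmax)) (Sylow.ofCard B (key B hB hBmax))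
      refine ⟨g, ?_⟩
      have := congrArg (fun P : Sylow 2 (alternatingGroup (Fin 4)) => (P : Subgroup (alternatingGroup (Fin 4)))) hg
      simp only [Sylow.coe_subgroup_smul, Sylow.coe_ofCard] at this
      exact this.symm
    · have hc : Nat.card (alternatingGroup (Fin 5)) = 60 := by
        rw [nat_card_alternatingGroup, Nat.card_eq_fintype_card, Fintype.card_fin]; rfl
      haveI : Fact (Nat.Prime 5) := ⟨by norm_num⟩
      have key : ∀ X : Subgroup (alternatingGroup (Fin 5)), IsMulCommutative X →
          (∀ C : Subgroup (alternatingGroup (Fin 5)), IsMulCommutative C → Nat.card C ≤ Nat.card X) →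
          Nat.card X = 5 ^ (Nat.card (alternatingGroup (Fin 5))).factorization 5 := by
        intro X hX hXmax
        have h60 : (60 : ℕ).factorization 5 = 1 := by
          rw [Nat.factorization_def _ (by norm_num : Nat.Prime 5), show (60 : ℕ) = 5 ^ 1 * 12 by norm_num, padicValNat.mul (by norm_num) (by norm_num),
            padicValNat.prime_pow, padicValNat.eq_zero_of_not_dvd (by norm_num)]
        rw [hc, h60, pow_one]
        obtain ⟨g, hg⟩ := exists_prime_orderOf_dvd_card' (G := alternatingGroup (Fin 5)) 5 (by rw [hc]; norm_num)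
        have h5 := hXmax (Subgroup.zpowers g) inferInstance
        rw [Nat.card_zpowers, hg] at h5
        haveI := hcomm _ X hX
        obtain ⟨Ω, a, ha, hs, hd, hsw⟩ := Cfsg.Lib.AbelianPerm.exists_orbit_data (X.map (alternatingGroup (Fin 5)).subtype)
        have hce := Subgroup.card_map_of_injective (K := X) (alternatingGroup (Fin 5)).subtype_injective
        rw [hce] at hd hsw
        have h := Cfsg.Lib.AbelianPerm.prod_le Ω a ha
        rw [hs, Fintype.card_fin] at h
        have hG5 : Cfsg.Lib.AbelianPerm.G 5 = 6 := by simp [Cfsg.Lib.AbelianPerm.G]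
        rw [hG5] at h
        have hpos : 0 < ∏ o ∈ Ω, a o := Finset.prod_pos fun o ho => ha o ho
        have hle := Nat.le_of_dvd hpos hd
        by_contra hne
        have h6 : Nat.card X = 6 := by omega
        obtain ⟨o, ho, ho2⟩ : ∃ o ∈ Ω, a o = 2 := by
          have hp : ∏ o ∈ Ω, a o = 6 := by omega
          by_contra hc2
          push Not at hc2
          have hall : ∀ o ∈ Ω, a o = 1 ∨ 3 ≤ a o := fun o ho => by
            have := ha o ho; have := hc2 o ho; omega
          have : ∀ o ∈ Ω, a o = 1 ∨ a o = 3 := by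
            intro o ho
            have h1 : a o ∣ 6 := hp ▸ Finset.dvd_prod_of_mem a ho
            have h2 : a o ≤ 5 := by
              have := Finset.single_le_sum (fun i _ => Nat.zero_le (a i)) ho
              rw [hs, Fintype.card_fin] at this
              exact this
            rcases hall o ho with e | e
            · exact Or.inl e
            · interval_cases hao : a o <;> first | omega | norm_num at h1
          have h3 : (2 : ℕ) ∣ ∏ o ∈ Ω, a o := hp ▸ by norm_num
          obtain ⟨o, ho, h2o⟩ := (Nat.prime_two.prime.dvd_finsetProd_iff a).1 h3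
          rcases this o ho with e | e <;> rw [e] at h2o <;> norm_num at h2o
        obtain ⟨x, hx, hsx⟩ := hsw (by omega) o ho ho2
        have := Subgroup.map_subtype_le X hx
        rw [Equiv.Perm.mem_alternatingGroup, hsx] at this
        exact absurd this (by decide)
      obtain ⟨g, hg⟩ := MulAction.exists_smul_eq (alternatingGroup (Fin 5)) (Sylow.ofCard A (key A hA hAmax)) (Sylow.ofCard B (key B hB hBmax))
      refine ⟨g, ?_⟩
      have := congrArg (fun P : Sylow 5 (alternatingGroup (Fin 5)) => (P : Subgroup (alternatingGroup (Fin 5)))) hg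
      simp only [Sylow.coe_subgroup_smul, Sylow.coe_ofCard] at this
      exact this.symm
  · have hex : ∃ C : Subgroup (alternatingGroup (Fin n)), IsMulCommutative C ∧ Nat.card C = Cfsg.Lib.AbelianPerm.F n := by
      obtain ⟨j, hj⟩ : ∃ j, n = 3 * (j + 2) ∨ n = 3 * (j + 2) + 1 ∨ n = 3 * (j + 2) + 2 := ⟨(n - 6) / 3, by omega⟩
      obtain ⟨h0, h1, h2⟩ := Cfsg.Agent.S2504.result (j + 2) (by omega)
      rcases hj with rfl | rfl | rfl
      · obtain ⟨C, hC, hc⟩ := h0.1
        refine ⟨C, hC, hc.trans ?_⟩
        rw [Cfsg.Lib.AbelianPerm.F, show 3 * (j + 2) % 3 = 0 by omega, show (3 * (j + 2) - 4 * 0) / 3 = j + 2 by omega]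
        ring
      · obtain ⟨C, hC, hc⟩ := h1.1
        refine ⟨C, hC, hc.trans ?_⟩
        rw [Cfsg.Lib.AbelianPerm.F, show (3 * (j + 2) + 1) % 3 = 1 by omega, show (3 * (j + 2) + 1 - 4 * 1) / 3 = j + 1 by omega,
          show j + 2 - 1 = j + 1 by omega]
        ring
      · obtain ⟨C, hC, hc⟩ := h2.1
        refine ⟨C, hC, hc.trans ?_⟩
        rw [Cfsg.Lib.AbelianPerm.F, show (3 * (j + 2) + 2) % 3 = 2 by omega, show (3 * (j + 2) + 2 - 4 * 2) / 3 = j by omega,
          Nat.add_sub_cancel]
        norm_num
    obtain ⟨C, hC, hc⟩ := hex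
    set ι := (alternatingGroup (Fin n)).subtype
    haveI := hcomm _ A hA
    haveI := hcomm _ B hB
    obtain ⟨π, hsgn, hπ⟩ := Cfsg.Lib.AbelianPerm.exists_conj_even (A.map ι) (B.map ι) (Subgroup.map_subtype_le A)
      (Subgroup.map_subtype_le B) (by rwa [Fintype.card_fin])
      (by rw [Fintype.card_fin, Subgroup.card_map_of_injective (alternatingGroup (Fin n)).subtype_injective, ← hc]; exact hAmax C hC)
      (by rw [Fintype.card_fin, Subgroup.card_map_of_injective (alternatingGroup (Fin n)).subtype_injective, ← hc]; exact hBmax C hC)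
    refine ⟨⟨π, Equiv.Perm.mem_alternatingGroup.2 hsgn⟩, ?_⟩
    ext x
    rw [Subgroup.mem_pointwise_smul_iff_inv_smul_mem]
    have hmem : ∀ (D : Subgroup (alternatingGroup (Fin n))) (y : alternatingGroup (Fin n)), y ∈ D ↔ (y : Equiv.Perm (Fin n)) ∈ D.map ι :=
      fun D y => ⟨fun h => ⟨y, h, rfl⟩, fun ⟨z, hz, hzy⟩ => Subtype.ext hzy ▸ hz⟩
    rw [hmem B, hmem A, hπ]
    simp [mul_assoc]

end Cfsg.Agent.S2506
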