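import Cfsg.Statements.S2510
import Mathlib
import Cfsg.Agent.Known.PSLOrders

set_option autoImplicit false
open Cfsg

namespace Cfsg.Agent.S2510

private theorem range_prod_elem_eq {G V : Type*} [Group G] [Finite G] [CommGroup V] [Finite V] (r : ℕ) (_hr : r.Prime)
    (hV : ∀ v : V, orderOf v ∣ r) (key : ∀ x : G, ∃ y : G, Nat.lcm (orderOf x) r ∣ orderOf y) :
    Set.range (orderOf : G × V → ℕ) = Set.range (orderOf : G → ℕ) := by
  ext d
  constructor
  · rintro ⟨⟨x, v⟩, rfl⟩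
    obtain ⟨y, hy⟩ := key x
    have hd : orderOf (x, v) ∣ orderOf y := by
      rw [Prod.orderOf_mk]
      exact (Nat.lcm_dvd (Nat.dvd_lcm_left _ _) ((hV v).trans (Nat.dvd_lcm_right _ _))).trans hy
    obtain ⟨c, hc⟩ := hd
    have hc0 : c ≠ 0 := fun h => (orderOf_pos y).ne' (by rw [hc, h, mul_zero])
    refine ⟨y ^ c, ?_⟩
    rw [orderOf_pow_of_dvd hc0 (hc ▸ dvd_mul_left _ _), hc, Nat.mul_div_cancel _ (Nat.pos_of_ne_zero hc0)]
  · rintro ⟨x, rfl⟩
    exact ⟨(x, 1), by simp [Prod.orderOf_mk]⟩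


/-- Let F be a finite field with q = p^a elements, n ≥ 2 (with q ≥ 4 when n = 2), L = PSL(n, F), and let r be a prime dividing q − 1 and not dividing n. Then for every m the direct product L × L × L × (ℤ/r)^m has the same set of element orders as L × L × L; and if n − 1 ≠ p^j for every j ≥ 0 (so never when n = 2, since 1 = p^0), then already L × L × (ℤ/r)^m has the same set of element orders as L × L. -/
theorem result {F : Type*} [Field F] [Fintype F] (p a n r m : ℕ) (hp : p.Prime) (ha : 1 ≤ a) (hF : Fintype.card F = p ^ a)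
    (hn : 2 ≤ n) (hn2 : n = 2 → 4 ≤ Fintype.card F) (hr : r.Prime) (hrq : r ∣ Fintype.card F - 1) (hrn : ¬ r ∣ n) :
    Set.range (orderOf : Matrix.ProjectiveSpecialLinearGroup (Fin n) F × Matrix.ProjectiveSpecialLinearGroup (Fin n) F × Matrix.ProjectiveSpecialLinearGroup (Fin n) F × Multiplicative (Fin m → ZMod r) → ℕ) =
      Set.range (orderOf : Matrix.ProjectiveSpecialLinearGroup (Fin n) F × Matrix.ProjectiveSpecialLinearGroup (Fin n) F × Matrix.ProjectiveSpecialLinearGroup (Fin n) F → ℕ) ∧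
    ((¬ ∃ j : ℕ, n - 1 = p ^ j) →
      Set.range (orderOf : Matrix.ProjectiveSpecialLinearGroup (Fin n) F × Matrix.ProjectiveSpecialLinearGroup (Fin n) F × Multiplicative (Fin m → ZMod r) → ℕ) =
        Set.range (orderOf : Matrix.ProjectiveSpecialLinearGroup (Fin n) F × Matrix.ProjectiveSpecialLinearGroup (Fin n) F → ℕ)) := by
  classical
  have : Fact p.Prime := ⟨hp⟩
  have : CharP F p := by
    obtain ⟨k, hk, hk'⟩ := FiniteField.card F (ringChar F)
    have : ringChar F = p := by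
      have h := hF.symm.trans hk'
      have : ringChar F ∣ p ^ a := h ▸ dvd_pow_self _ k.pos.ne'
      exact (Nat.prime_dvd_prime_iff_eq hk hp).1 (hk.dvd_of_dvd_pow this)
    exact this ▸ ringChar.charP F
  have hrq' : r ∣ Nat.card F - 1 := by rwa [Nat.card_eq_fintype_card]
  obtain ⟨s, hs⟩ := Cfsg.Lib.Known.psl_order_dichotomy (F := F) p (n := n) (by omega) hr hrq' hrn
  obtain ⟨z, hz⟩ := Cfsg.Lib.Known.exists_psl_r_elt (F := F) hn hr hrq' hrn
  have hA : 0 < Nat.clog p n := Nat.clog_pos hp.one_lt hn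
  have hn0 : 0 < n := by omega
  obtain ⟨g0, hg0⟩ := Cfsg.Lib.Known.exists_gl_orderOf_prime_pow (F := F) p n (Nat.clog p n - 1)
    (Nat.pow_pred_clog_lt_self hp.one_lt hn) (by rw [Nat.sub_add_cancel hA]; exact Nat.le_pow_clog hp.one_lt n)
  rw [Nat.sub_add_cancel hA] at hg0
  obtain ⟨u, -, hu⟩ := Cfsg.Lib.Known.exists_psl_orderOf_of_ppow p hn0 g0 hg0
  have hVr : ∀ v : Multiplicative (Fin m → ZMod r), orderOf v ∣ r := by
    intro v
    apply orderOf_dvd_of_pow_eq_one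
    apply Multiplicative.toAdd.injective
    ext i
    simp
  have hfin : Finite (Multiplicative (Fin m → ZMod r)) := by
    have : NeZero r := ⟨hr.ne_zero⟩
    exact inferInstanceAs (Finite (Fin m → ZMod r))
  obtain ⟨hsp, hs⟩ := hs
  have hcop : (p ^ Nat.clog p n).Coprime (orderOf s) := (hp.coprime_iff_not_dvd.2 hsp).pow_left _
  constructor
  · let L := Matrix.ProjectiveSpecialLinearGroup (Fin n) F
    have h := range_prod_elem_eq (G := L × L × L) (V := Multiplicative (Fin m → ZMod r)) r hr hVr ?_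
    · rw [← h]
      let e : L × L × L × Multiplicative (Fin m → ZMod r) ≃* (L × L × L) × Multiplicative (Fin m → ZMod r) :=
        { toFun := fun w => ((w.1, w.2.1, w.2.2.1), w.2.2.2)
          invFun := fun w => (w.1.1, w.1.2.1, w.1.2.2, w.2)
          left_inv := fun w => rfl
          right_inv := fun w => rfl
          map_mul' := fun _ _ => rfl }
      exact (congrArg Set.range (funext fun w => (e.orderOf_eq w).symm)).trans (e.surjective.range_comp orderOf)
    rintro ⟨x, y, w⟩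
    suffices hh : ∃ x' y' w' : L, orderOf x ∣ Nat.lcm (orderOf x') (Nat.lcm (orderOf y') (orderOf w')) ∧
        orderOf y ∣ Nat.lcm (orderOf x') (Nat.lcm (orderOf y') (orderOf w')) ∧
        orderOf w ∣ Nat.lcm (orderOf x') (Nat.lcm (orderOf y') (orderOf w')) ∧
        r ∣ Nat.lcm (orderOf x') (Nat.lcm (orderOf y') (orderOf w')) by
      obtain ⟨x', y', w', h1, h2, h3, h4⟩ := hh
      refine ⟨(x', y', w'), ?_⟩
      simp only [Prod.orderOf_mk]
      exact Nat.lcm_dvd (Nat.lcm_dvd h1 (Nat.lcm_dvd h2 h3)) h4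
    have d1 : ∀ i j k : ℕ, i ∣ Nat.lcm i (Nat.lcm j k) ∧ j ∣ Nat.lcm i (Nat.lcm j k) ∧ k ∣ Nat.lcm i (Nat.lcm j k) :=
      fun i j k => ⟨Nat.dvd_lcm_left _ _, (Nat.dvd_lcm_left _ _).trans (Nat.dvd_lcm_right _ _),
        (Nat.dvd_lcm_right _ _).trans (Nat.dvd_lcm_right _ _)⟩
    rcases hs x with ⟨x', hx, hxr⟩ | hx
    · exact ⟨x', y, w, hx.trans (d1 _ _ _).1, (d1 _ _ _).2.1, (d1 _ _ _).2.2, hxr.trans (d1 _ _ _).1⟩
    rcases hs y with ⟨y', hy, hyr⟩ | hy
    · exact ⟨x, y', w, (d1 _ _ _).1, hy.trans (d1 _ _ _).2.1, (d1 _ _ _).2.2, hyr.trans (d1 _ _ _).2.1⟩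
    rcases hs w with ⟨w', hw, hwr⟩ | hw
    · exact ⟨x, y, w', (d1 _ _ _).1, (d1 _ _ _).2.1, hw.trans (d1 _ _ _).2.2, hwr.trans (d1 _ _ _).2.2⟩
    have hbad : ∀ d, d ∣ p ^ Nat.clog p n * orderOf s →
        d ∣ Nat.lcm (p ^ Nat.clog p n) (Nat.lcm (orderOf s) (orderOf z)) := fun d hd =>
      hd.trans (hcop.mul_dvd_of_dvd_of_dvd (d1 _ _ _).1 (d1 _ _ _).2.1)
    exact ⟨QuotientGroup.mk u, s, z, by rw [hu]; exact ⟨hbad _ hx, hbad _ hy, hbad _ hw, hz.trans (d1 _ _ _).2.2⟩⟩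
  · intro hne
    obtain ⟨v, hv, hvr⟩ := Cfsg.Lib.Known.exists_psl_ppow_mul_r (F := F) p hn hr hrq' hrn hne
    let L := Matrix.ProjectiveSpecialLinearGroup (Fin n) F
    have h := range_prod_elem_eq (G := L × L) (V := Multiplicative (Fin m → ZMod r)) r hr hVr ?_
    · rw [← h]
      let e : L × L × Multiplicative (Fin m → ZMod r) ≃* (L × L) × Multiplicative (Fin m → ZMod r) :=
        { toFun := fun w => ((w.1, w.2.1), w.2.2)
          invFun := fun w => (w.1.1, w.1.2, w.2)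
          left_inv := fun w => rfl
          right_inv := fun w => rfl
          map_mul' := fun _ _ => rfl }
      exact (congrArg Set.range (funext fun w => (e.orderOf_eq w).symm)).trans (e.surjective.range_comp orderOf)
    rintro ⟨x, y⟩
    suffices hh : ∃ x' y' : L, orderOf x ∣ Nat.lcm (orderOf x') (orderOf y') ∧
        orderOf y ∣ Nat.lcm (orderOf x') (orderOf y') ∧ r ∣ Nat.lcm (orderOf x') (orderOf y') by
      obtain ⟨x', y', h1, h2, h3⟩ := hh
      refine ⟨(x', y'), ?_⟩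
      simp only [Prod.orderOf_mk]
      exact Nat.lcm_dvd (Nat.lcm_dvd h1 h2) h3
    rcases hs x with ⟨x', hx, hxr⟩ | hx
    · exact ⟨x', y, hx.trans (Nat.dvd_lcm_left _ _), Nat.dvd_lcm_right _ _, hxr.trans (Nat.dvd_lcm_left _ _)⟩
    rcases hs y with ⟨y', hy, hyr⟩ | hy
    · exact ⟨x, y', Nat.dvd_lcm_left _ _, hy.trans (Nat.dvd_lcm_right _ _), hyr.trans (Nat.dvd_lcm_right _ _)⟩
    have hbad : ∀ d, d ∣ p ^ Nat.clog p n * orderOf s → d ∣ Nat.lcm (orderOf v) (orderOf s) := fun d hd =>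
      hd.trans (hcop.mul_dvd_of_dvd_of_dvd (hv.trans (Nat.dvd_lcm_left _ _)) (Nat.dvd_lcm_right _ _))
    exact ⟨v, s, hbad _ hx, hbad _ hy, hvr.trans (Nat.dvd_lcm_left _ _)⟩

end Cfsg.Agent.S2510
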