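import Cfsg.Statements.S2511
import Cfsg.Agent.Known.UnitOrders.Spectrum
-- import your own Cfsg.Agent.* helpers here

set_option autoImplicit false
open Cfsg

namespace Cfsg.Agent.S2511

open Cfsg.Lib

private theorem range_prod_elem_eq {G V : Type*} [Group G] [Finite G] [CommGroup V] [Finite V] (r : ℕ) (_hr : r.Prime)
    (hV : ∀ v : V, orderOf v ∣ r) (key : ∀ x : G, ∃ y : G, Nat.lcm (orderOf x) r ∣ orderOf y) :
    Set.range (orderOf : G × V → ℕ) = Set.range (orderOf : G → ℕ) := by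
  ext d
  constructor
  · rintro ⟨⟨x, v⟩, rfl⟩
    obtain ⟨y, hy⟩ := key x
    have hd : orderOf (x, v) ∣ orderOf y := by
      rw [Prod.orderOf_mk]
      exact (Nat.lcm_dvd (Nat.dvd_lcm_left _ _) ((hV v).trans (Nat.dvd_lcm_right _ _))).trans hy
    obtain ⟨c, hc⟩ := hd
    have hc0 : c ≠ 0 := fun h => (orderOf_pos y).ne' (by rw [hc, h, mul_zero])
    refine ⟨y ^ c, ?_⟩
    rw [orderOf_pow_of_dvd hc0 (hc ▸ dvd_mul_left _ _), hc, Nat.mul_div_cancel _ (Nat.pos_of_ne_zero hc0)]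
  · rintro ⟨x, rfl⟩
    exact ⟨(x, 1), by simp [Prod.orderOf_mk]⟩



/-- Let F be a finite field with q² elements, q = p^a, n ≥ 3 with (n, q) ≠ (3, 2), L = PSU(n, q) realised over F, and let r be a prime dividing q + 1 and not dividing n. Then for every m the direct product L × L × L × (ℤ/r)^m has the same set of element orders as L × L × L; and if n − 1 is not a power of p, then already L × L × (ℤ/r)^m has the same set of element orders as L × L. -/
theorem result {F : Type*} [Field F] [Fintype F] (p a n q r m : ℕ) (hp : p.Prime) (ha : 1 ≤ a) (hq : q = p ^ a) (hF : Fintype.card F = q ^ 2)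
    (hn : 3 ≤ n) (hn3 : ¬ (n = 3 ∧ q = 2)) (hr : r.Prime) (hrq : r ∣ q + 1) (hrn : ¬ r ∣ n) :
    Set.range (orderOf : Cfsg.PSU n F q × Cfsg.PSU n F q × Cfsg.PSU n F q × Multiplicative (Fin m → ZMod r) → ℕ) = Set.range (orderOf : Cfsg.PSU n F q × Cfsg.PSU n F q × Cfsg.PSU n F q → ℕ) ∧
    ((¬ ∃ j : ℕ, n - 1 = p ^ j) →
      Set.range (orderOf : Cfsg.PSU n F q × Cfsg.PSU n F q × Multiplicative (Fin m → ZMod r) → ℕ) = Set.range (orderOf : Cfsg.PSU n F q × Cfsg.PSU n F q → ℕ)) := by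
  classical
  haveI : Fact p.Prime := ⟨hp⟩
  haveI : CharP F p := charP_of_card_eq_prime_pow (hF.trans (by rw [hq, ← pow_mul]))
  haveI : NeZero r := ⟨hr.ne_zero⟩
  obtain ⟨s, hdi⟩ := Cfsg.Lib.UnitOrders.dichotomy (F := F) hF p hn hr hrq hrn
  obtain ⟨u, hu⟩ := Cfsg.Lib.UnitOrders.exists_unip (F := F) (p := p) hF (show 2 ≤ n by omega)
  rw [← hu] at hdi
  obtain ⟨z, hz⟩ := Cfsg.Lib.UnitOrders.exists_r_elt (F := F) hF (show 2 ≤ n by omega) hr hrq hrn
  have hV : ∀ v : Multiplicative (Fin m → ZMod r), orderOf v ∣ r := by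
    intro v
    apply orderOf_dvd_of_pow_eq_one
    apply Multiplicative.toAdd.injective
    ext i
    simp
  have hfin : Finite (Multiplicative (Fin m → ZMod r)) := inferInstanceAs (Finite (Fin m → ZMod r))
  let L := Cfsg.PSU n F q
  constructor
  · have h := range_prod_elem_eq (G := L × L × L) (V := Multiplicative (Fin m → ZMod r)) r hr hV ?_
    · rw [← h]
      let e : L × L × L × Multiplicative (Fin m → ZMod r) ≃* (L × L × L) × Multiplicative (Fin m → ZMod r) :=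
        { toFun := fun w => ((w.1, w.2.1, w.2.2.1), w.2.2.2)
          invFun := fun w => (w.1.1, w.1.2.1, w.1.2.2, w.2)
          left_inv := fun w => rfl
          right_inv := fun w => rfl
          map_mul' := fun _ _ => rfl }
      exact (congrArg Set.range (funext fun w => (e.orderOf_eq w).symm)).trans (e.surjective.range_comp orderOf)
    rintro ⟨x, y, w⟩
    suffices hh : ∃ x' y' w' : L, orderOf x ∣ Nat.lcm (orderOf x') (Nat.lcm (orderOf y') (orderOf w')) ∧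
        orderOf y ∣ Nat.lcm (orderOf x') (Nat.lcm (orderOf y') (orderOf w')) ∧
        orderOf w ∣ Nat.lcm (orderOf x') (Nat.lcm (orderOf y') (orderOf w')) ∧
        r ∣ Nat.lcm (orderOf x') (Nat.lcm (orderOf y') (orderOf w')) by
      obtain ⟨x', y', w', h1, h2', h3, h4⟩ := hh
      refine ⟨(x', y', w'), ?_⟩
      simp only [Prod.orderOf_mk]
      exact Nat.lcm_dvd (Nat.lcm_dvd h1 (Nat.lcm_dvd h2' h3)) h4
    have d1 : ∀ i j k : ℕ, i ∣ Nat.lcm i (Nat.lcm j k) ∧ j ∣ Nat.lcm i (Nat.lcm j k) ∧ k ∣ Nat.lcm i (Nat.lcm j k) :=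
      fun i j k => ⟨Nat.dvd_lcm_left _ _, (Nat.dvd_lcm_left _ _).trans (Nat.dvd_lcm_right _ _),
        (Nat.dvd_lcm_right _ _).trans (Nat.dvd_lcm_right _ _)⟩
    rcases hdi x with ⟨x', hx, hx2⟩ | hx
    · exact ⟨x', y, w, hx.trans (d1 _ _ _).1, (d1 _ _ _).2.1, (d1 _ _ _).2.2, hx2.trans (d1 _ _ _).1⟩
    rcases hdi y with ⟨y', hy, hy2⟩ | hy
    · exact ⟨x, y', w, (d1 _ _ _).1, hy.trans (d1 _ _ _).2.1, (d1 _ _ _).2.2, hy2.trans (d1 _ _ _).2.1⟩
    rcases hdi w with ⟨w', hw, hw2⟩ | hw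
    · exact ⟨x, y, w', (d1 _ _ _).1, (d1 _ _ _).2.1, hw.trans (d1 _ _ _).2.2, hw2.trans (d1 _ _ _).2.2⟩
    have hsu : Nat.lcm (orderOf s) (orderOf u) ∣ Nat.lcm (orderOf s) (Nat.lcm (orderOf u) (orderOf z)) :=
      Nat.lcm_dvd (d1 _ _ _).1 (d1 _ _ _).2.1
    exact ⟨s, u, z, hx.trans hsu, hy.trans hsu, hw.trans hsu, hz.trans (d1 _ _ _).2.2⟩
  · intro hne
    obtain ⟨v, hv, hv2⟩ := Cfsg.Lib.UnitOrders.exists_unip_r (F := F) (p := p) hF hn hr hrq hrn hne
    have h := range_prod_elem_eq (G := L × L) (V := Multiplicative (Fin m → ZMod r)) r hr hV ?_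
    · rw [← h]
      let e : L × L × Multiplicative (Fin m → ZMod r) ≃* (L × L) × Multiplicative (Fin m → ZMod r) :=
        { toFun := fun w => ((w.1, w.2.1), w.2.2)
          invFun := fun w => (w.1.1, w.1.2, w.2)
          left_inv := fun w => rfl
          right_inv := fun w => rfl
          map_mul' := fun _ _ => rfl }
      exact (congrArg Set.range (funext fun w => (e.orderOf_eq w).symm)).trans (e.surjective.range_comp orderOf)
    rintro ⟨x, y⟩
    suffices hh : ∃ x' y' : L, orderOf x ∣ Nat.lcm (orderOf x') (orderOf y') ∧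
        orderOf y ∣ Nat.lcm (orderOf x') (orderOf y') ∧ r ∣ Nat.lcm (orderOf x') (orderOf y') by
      obtain ⟨x', y', h1, h2', h3⟩ := hh
      refine ⟨(x', y'), ?_⟩
      simp only [Prod.orderOf_mk]
      exact Nat.lcm_dvd (Nat.lcm_dvd h1 h2') h3
    rcases hdi x with ⟨x', hx, hx2⟩ | hx
    · exact ⟨x', y, hx.trans (Nat.dvd_lcm_left _ _), Nat.dvd_lcm_right _ _, hx2.trans (Nat.dvd_lcm_left _ _)⟩
    rcases hdi y with ⟨y', hy, hy2⟩ | hy
    · exact ⟨x, y', Nat.dvd_lcm_left _ _, hy.trans (Nat.dvd_lcm_right _ _), hy2.trans (Nat.dvd_lcm_right _ _)⟩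
    have hsu : Nat.lcm (orderOf s) (orderOf u) ∣ Nat.lcm (orderOf s) (orderOf v) :=
      Nat.lcm_dvd (Nat.dvd_lcm_left _ _) ((hu ▸ hv).trans (Nat.dvd_lcm_right _ _))
    exact ⟨s, v, hx.trans hsu, hy.trans hsu, hv2.trans (Nat.dvd_lcm_right _ _)⟩

end Cfsg.Agent.S2511
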