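import Cfsg.Statements.S2513
import Mathlib
import Cfsg.Agent.Known.SpectrumPow

set_option autoImplicit false
open Cfsg

namespace Cfsg.Agent.S2513

open Matrix Matrix.SpecialLinearGroup in
private theorem card_two_unit {F : Type*} [Field F] [Fintype F] (hF : Fintype.card F = 2) (x : F) (hx : x ≠ 0) :
    x = 1 := by
  have := FiniteField.pow_card_sub_one_eq_one x hx
  simpa [hF] using this


/-- Let F be the field with two elements, n ≥ 2, L = PSL(n, F) and k₀ = ⌊(n + 3)/2⌋. Then for every k ≥ k₀ the direct product of k copies of L has the same set of element orders as the direct product of k₀ copies of L. -/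
theorem result {F : Type*} [Field F] [Fintype F] (hF : Fintype.card F = 2) (n k : ℕ) (hn : 2 ≤ n) (hk : (n + 3) / 2 ≤ k) :
    Set.range (orderOf : (Fin k → Matrix.ProjectiveSpecialLinearGroup (Fin n) F) → ℕ) = Set.range (orderOf : (Fin ((n + 3) / 2) → Matrix.ProjectiveSpecialLinearGroup (Fin n) F) → ℕ) := by
  classical
  have hF' : Nat.card F = 2 := by rw [Nat.card_eq_fintype_card, hF]
  have hchar : CharP F 2 := by
    obtain ⟨m, hp, hm⟩ := FiniteField.card F (ringChar F)
    have : ringChar F = 2 := by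
      have h2 : ringChar F ∣ 2 := hF ▸ hm ▸ dvd_pow_self _ m.pos.ne'
      exact (Nat.prime_dvd_prime_iff_eq hp Nat.prime_two).1 h2
    exact this ▸ ringChar.charP F
  -- the projection from `SL` is bijective
  let π : Matrix.SpecialLinearGroup (Fin n) F →* Matrix.ProjectiveSpecialLinearGroup (Fin n) F := QuotientGroup.mk' _
  have hπi : Function.Injective π := by
    rw [injective_iff_map_eq_one]
    intro g hg
    have hg' : g ∈ Subgroup.center _ := (QuotientGroup.eq_one_iff g).1 hg
    obtain ⟨r, hr, hr'⟩ := Matrix.SpecialLinearGroup.mem_center_iff.1 hg'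
    have : r = 1 := card_two_unit hF r (by rintro rfl; simp [Fintype.card_fin, zero_pow (by omega : n ≠ 0)] at hr)
    subst this
    ext i j
    rw [← hr']; simp
  have mkSL : ∀ g : GL (Fin n) F, ∃ x : Matrix.ProjectiveSpecialLinearGroup (Fin n) F, orderOf x = orderOf g := by
    intro g
    have hd : (g : Matrix (Fin n) (Fin n) F).det = 1 :=
      card_two_unit hF _ ((Matrix.isUnit_iff_isUnit_det _).1 g.isUnit).ne_zero
    let x : Matrix.SpecialLinearGroup (Fin n) F := ⟨_, hd⟩
    refine ⟨π x, ?_⟩
    rw [orderOf_injective π hπi, ← orderOf_injective Matrix.SpecialLinearGroup.toGL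
      Matrix.SpecialLinearGroup.toGL_injective x]
    exact congrArg orderOf (Units.ext rfl)
  let A := Nat.clog 2 n
  have hA0 : 0 < A := Nat.clog_pos (by norm_num) hn
  let L := (Finset.Icc 1 n).lcm fun i => 2 ^ i - 1
  let E := 2 ^ A * L
  have hE : ∀ g : Matrix.ProjectiveSpecialLinearGroup (Fin n) F, orderOf g ∣ E := by
    intro g
    induction g using QuotientGroup.induction_on with
    | H g =>
      refine orderOf_dvd_of_pow_eq_one ?_
      have hLd : ∀ i, 0 < i → i ≤ n → Nat.card F ^ i - 1 ∣ L := fun i h1 h2 => by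
        rw [hF']; exact Finset.dvd_lcm (Finset.mem_Icc.2 ⟨h1, h2⟩)
      have h := Cfsg.Lib.Known.exists_unipotent_pow n L hLd (g : Matrix (Fin n) (Fin n) F)
        ((Matrix.isUnit_iff_isUnit_det _).2 (by rw [g.2]; exact isUnit_one))
      have hne : Nonempty (Fin n) := ⟨⟨0, by omega⟩⟩
      have h' : ((g : Matrix (Fin n) (Fin n) F) ^ L) ^ 2 ^ A = 1 := by
        have h2 := pow_eq_zero_of_le (Nat.le_pow_clog (by norm_num : 1 < 2) n) h
        rw [sub_pow_char_pow_of_commute _ _ (Commute.one_right _), one_pow, sub_eq_zero] at h2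
        exact h2
      have hg : g ^ E = 1 := by
        refine Subtype.ext ?_
        rw [Matrix.SpecialLinearGroup.coe_pow, show E = L * 2 ^ A from mul_comm _ _, pow_mul, h']
        rfl
      rw [← QuotientGroup.mk_pow, hg]; rfl
  have hT : ∀ i : ℕ, ∃ x : Matrix.ProjectiveSpecialLinearGroup (Fin n) F, i ∈ Finset.Ioc (n / 2) n → orderOf x = 2 ^ i - 1 := by
    intro i
    by_cases hi : i ∈ Finset.Ioc (n / 2) n
    · obtain ⟨g, hg⟩ := Cfsg.Lib.Known.exists_gl_orderOf_singer (F := F) n i
        (by simp at hi; omega) (Finset.mem_Ioc.1 hi).2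
      obtain ⟨x, hx⟩ := mkSL g
      exact ⟨x, fun _ => by rw [hx, hg, hF']⟩
    · exact ⟨1, fun h => absurd h hi⟩
  choose T hT using hT
  obtain ⟨g2, hg2⟩ := Cfsg.Lib.Known.exists_gl_orderOf_prime_pow (F := F) 2 n (A - 1)
    (Nat.pow_pred_clog_lt_self (by norm_num) hn) (by rw [Nat.sub_add_cancel hA0]; exact Nat.le_pow_clog (by norm_num) n)
  obtain ⟨x2, hx2⟩ := mkSL g2
  rw [hg2, Nat.sub_add_cancel hA0] at hx2
  let s : Finset (Matrix.ProjectiveSpecialLinearGroup (Fin n) F) := insert x2 ((Finset.Ioc (n / 2) n).image T)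
  have hs : s.card ≤ (n + 3) / 2 := by
    refine (Finset.card_insert_le _ _).trans ?_
    have := Finset.card_image_le (s := Finset.Ioc (n / 2) n) (f := T)
    simp at this
    omega
  have hlcm : E ∣ s.lcm orderOf := by
    refine Nat.Coprime.mul_dvd_of_dvd_of_dvd ?_ (hx2 ▸ Finset.dvd_lcm (Finset.mem_insert_self _ _)) ?_
    · refine Nat.Coprime.pow_left _ ((Nat.prime_two.coprime_iff_not_dvd).2 ?_)
      intro h2
      have hodd : ∀ s : Finset ℕ, (∀ i ∈ s, 1 ≤ i) → ¬ 2 ∣ s.lcm (fun i => 2 ^ i - 1) := by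
        intro s
        induction s using Finset.induction with
        | empty => simp
        | @insert a s ha ih =>
          intro hs h
          rw [Finset.lcm_insert] at h
          rcases (Nat.Prime.dvd_mul Nat.prime_two).1 (h.trans (Nat.lcm_dvd_mul _ _)) with h | h
          · have h1 := hs a (Finset.mem_insert_self _ _)
            have h3 : 2 ∣ 2 ^ a := dvd_pow_self 2 (by omega)
            have h4 := Nat.one_le_two_pow (n := a)
            omega
          · exact ih (fun i hi => hs i (Finset.mem_insert_of_mem hi)) h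
      exact hodd _ (fun i hi => (Finset.mem_Icc.1 hi).1) h2
    · refine Finset.lcm_dvd fun i hi => ?_
      obtain ⟨h1, h2⟩ := Finset.mem_Icc.1 hi
      have hm : ∃ m ∈ Finset.Ioc (n / 2) n, i ∣ m := by
        by_cases h : n / 2 < i
        · exact ⟨i, Finset.mem_Ioc.2 ⟨h, h2⟩, dvd_rfl⟩
        · refine ⟨n / i * i, Finset.mem_Ioc.2 ⟨?_, Nat.div_mul_le_self n i⟩, dvd_mul_left _ _⟩
          have := Nat.div_add_mod n i
          have := Nat.mod_lt n (show i > 0 by omega)
          rw [mul_comm i] at *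
          omega
      obtain ⟨m, hm, hdvd⟩ := hm
      refine (Nat.pow_sub_one_dvd_pow_sub_one 2 hdvd).trans ?_
      rw [← hT m hm]
      exact Finset.dvd_lcm (Finset.mem_insert_of_mem (Finset.mem_image_of_mem _ hm))
  rw [Cfsg.Lib.Known.range_orderOf_pi_eq_divisors E k s hE (hs.trans hk) hlcm,
    Cfsg.Lib.Known.range_orderOf_pi_eq_divisors E _ s hE hs hlcm]
end Cfsg.Agent.S2513
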