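import Cfsg.Statements.S2514
import Mathlib

set_option autoImplicit false
open Cfsg

namespace Cfsg.Agent.S2514

theorem exists_orderOf {G : Type*} [Group G] [Finite G] (n : ℕ) (g : G) (h : n ∣ orderOf g) :
    ∃ x : G, orderOf x = n := by
  obtain ⟨c, hc⟩ := h
  have hpos := orderOf_pos g
  exact ⟨g ^ c, by rw [orderOf_pow_of_dvd (by rintro rfl; rw [mul_zero] at hc; omega) ⟨n, by rw [hc, mul_comm]⟩, hc,
    Nat.mul_div_cancel _ (Nat.pos_of_ne_zero (by rintro rfl; rw [mul_zero] at hc; omega))]⟩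

theorem exists_max {G : Type*} [Group G] [Finite G] (g : G) :
    ∃ m ∈ {n : ℕ | n ∈ Set.range (orderOf : G → ℕ) ∧ ∀ m ∈ Set.range (orderOf : G → ℕ), n ∣ m → m = n},
      orderOf g ∣ m := by
  have hfin : {m | m ∈ Set.range (orderOf : G → ℕ) ∧ orderOf g ∣ m}.Finite :=
    (Set.finite_range _).subset fun m hm => hm.1
  obtain ⟨m, ⟨hm, hgm⟩, hmax⟩ := Set.exists_max_image _ id hfin ⟨_, ⟨g, rfl⟩, dvd_refl _⟩
  refine ⟨m, ⟨hm, fun m' hm' hd => ?_⟩, hgm⟩
  obtain ⟨x, rfl⟩ := hm'
  exact le_antisymm (hmax _ ⟨⟨x, rfl⟩, hgm.trans hd⟩) (Nat.le_of_dvd (orderOf_pos x) hd)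

theorem pi_orderOf {ι G : Type*} [Fintype ι] [Group G] (f : ι → G) :
    orderOf f = Finset.univ.lcm fun i => orderOf (f i) := by
  refine Nat.dvd_antisymm (orderOf_dvd_of_pow_eq_one (funext fun i => ?_))
    (Finset.lcm_dvd fun i _ => orderOf_map_dvd (Pi.evalMonoidHom (fun _ : ι => G) i) f)
  rw [Pi.pow_apply, Pi.one_apply, ← orderOf_dvd_iff_pow_eq_one]
  exact Finset.dvd_lcm (f := fun i => orderOf (f i)) (Finset.mem_univ i)

/-- For a finite group X write μ(X) for the set of element orders of X that are maximal under divisibility. Let G and H be finite groups and k ≥ 1 such that μ(H) ⊆ μ(G) and μ(G) has fewer than k elements outside μ(H). Then the direct product of k copies of G has the same set of element orders as the direct product of k − 1 copies of G with H. -/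
theorem result {G H : Type*} [Group G] [Finite G] [Group H] [Finite H] (k : ℕ) (hk : 1 ≤ k)
    (hsub : {n : ℕ | n ∈ Set.range (orderOf : H → ℕ) ∧ ∀ m ∈ Set.range (orderOf : H → ℕ), n ∣ m → m = n} ⊆ {n : ℕ | n ∈ Set.range (orderOf : G → ℕ) ∧ ∀ m ∈ Set.range (orderOf : G → ℕ), n ∣ m → m = n})
    (hfew : ({n : ℕ | n ∈ Set.range (orderOf : G → ℕ) ∧ ∀ m ∈ Set.range (orderOf : G → ℕ), n ∣ m → m = n} \ {n : ℕ | n ∈ Set.range (orderOf : H → ℕ) ∧ ∀ m ∈ Set.range (orderOf : H → ℕ), n ∣ m → m = n}).ncard < k) :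
    Set.range (orderOf : (Fin k → G) → ℕ) = Set.range (orderOf : (Fin (k - 1) → G) × H → ℕ) := by
  classical
  set MG : Set ℕ := {n : ℕ | n ∈ Set.range (orderOf : G → ℕ) ∧ ∀ m ∈ Set.range (orderOf : G → ℕ), n ∣ m → m = n}
  set MH : Set ℕ := {n : ℕ | n ∈ Set.range (orderOf : H → ℕ) ∧ ∀ m ∈ Set.range (orderOf : H → ℕ), n ∣ m → m = n}
  have mkG : ∀ g : G, ∃ m ∈ MG, orderOf g ∣ m := fun g => exists_max g
  have mkH : ∀ g : H, ∃ m ∈ MH, orderOf g ∣ m := fun g => exists_max g
  ext n
  constructor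
  · rintro ⟨f, rfl⟩
    choose M hM hdvd using fun i => mkG (f i)
    by_cases hH : ∃ i, M i ∈ MH
    · obtain ⟨i, hi⟩ := hH
      obtain ⟨h0, h0eq⟩ := hi.1
      obtain ⟨h, hh⟩ := exists_orderOf (orderOf (f i)) h0 (h0eq ▸ hdvd i)
      obtain ⟨k', rfl⟩ : ∃ k', k = k' + 1 := ⟨k - 1, by omega⟩
      refine ⟨(fun j : Fin (k' + 1 - 1) => f (i.succAbove (Fin.cast (by omega) j)), h), ?_⟩
      rw [Prod.orderOf, pi_orderOf, pi_orderOf, hh]
      refine Nat.dvd_antisymm (Nat.lcm_dvd (Finset.lcm_dvd fun j _ => ?_) ?_) (Finset.lcm_dvd fun j _ => ?_)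
      · exact Finset.dvd_lcm (f := fun l => orderOf (f l)) (Finset.mem_univ _)
      · exact Finset.dvd_lcm (f := fun l => orderOf (f l)) (Finset.mem_univ _)
      · rcases Fin.eq_self_or_eq_succAbove i j with rfl | ⟨l, rfl⟩
        · exact Nat.dvd_lcm_right _ _
        · exact (Finset.dvd_lcm (f := fun l => orderOf (f (i.succAbove (Fin.cast (by omega) l))))
            (Finset.mem_univ (Fin.cast (by omega) l : Fin (k' + 1 - 1)))).trans (Nat.dvd_lcm_left _ _)
    · push Not at hH
      have hfin : (MG \ MH).Finite := ((Set.finite_range (orderOf : G → ℕ)).subset fun m hm => hm.1).subset Set.sdiff_subset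
      obtain ⟨i, -, j, -, hij, heq⟩ := Set.exists_ne_map_eq_of_ncard_lt_of_maps_to (s := (Set.univ : Set (Fin k)))
        (f := M) (t := MG \ MH) (by simpa [Set.ncard_univ] using hfew) (fun a _ => ⟨hM a, hH a⟩) hfin
      obtain ⟨g0, hg0⟩ := (hM i).1
      obtain ⟨g, hg⟩ := exists_orderOf (Nat.lcm (orderOf (f i)) (orderOf (f j))) g0
        (hg0 ▸ Nat.lcm_dvd (hdvd i) (heq ▸ hdvd j))
      obtain ⟨k', rfl⟩ : ∃ k', k = k' + 1 := ⟨k - 1, by omega⟩
      refine ⟨(fun l : Fin (k' + 1 - 1) => (Function.update f i g) (j.succAbove (Fin.cast (by omega) l)), 1), ?_⟩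
      rw [Prod.orderOf, pi_orderOf, pi_orderOf, orderOf_one, Nat.lcm_one_right]
      refine Nat.dvd_antisymm (Finset.lcm_dvd fun l _ => ?_) (Finset.lcm_dvd fun l _ => ?_)
      · simp only
        set a := j.succAbove (Fin.cast (by omega : k' + 1 - 1 = k') l)
        by_cases ha : a = i
        · rw [ha, Function.update_self, hg]
          exact Nat.lcm_dvd (Finset.dvd_lcm (f := fun l => orderOf (f l)) (Finset.mem_univ _))
            (Finset.dvd_lcm (f := fun l => orderOf (f l)) (Finset.mem_univ _))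
        · rw [Function.update_of_ne ha]
          exact Finset.dvd_lcm (f := fun l => orderOf (f l)) (Finset.mem_univ _)
      · have key : ∀ a, a ≠ j → orderOf (Function.update f i g a) ∣ Finset.univ.lcm fun l : Fin (k' + 1 - 1) =>
            orderOf (Function.update f i g (j.succAbove (Fin.cast (by omega) l))) := by
          intro a ha
          obtain ⟨b, rfl⟩ := (Fin.eq_self_or_eq_succAbove j a).resolve_left ha
          exact Finset.dvd_lcm (f := fun l : Fin (k' + 1 - 1) =>
            orderOf (Function.update f i g (j.succAbove (Fin.cast (by omega) l))))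
            (Finset.mem_univ (Fin.cast (by omega) b : Fin (k' + 1 - 1)))
        have hi := key i hij
        rw [Function.update_self, hg] at hi
        by_cases hl : l = j
        · subst hl; exact (Nat.dvd_lcm_right _ _).trans hi
        · by_cases hli : l = i
          · subst hli; exact (Nat.dvd_lcm_left _ _).trans hi
          · have := key l hl
            rwa [Function.update_of_ne hli] at this
  · rintro ⟨⟨f, h⟩, rfl⟩
    obtain ⟨m, hm, hd⟩ := mkH h
    obtain ⟨g0, hg0⟩ := (hsub hm).1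
    obtain ⟨g, hg⟩ := exists_orderOf (orderOf h) g0 (hg0 ▸ hd)
    obtain ⟨k', rfl⟩ : ∃ k', k = k' + 1 := ⟨k - 1, by omega⟩
    refine ⟨Fin.snoc (α := fun _ => G) (fun l : Fin k' => f (Fin.cast (by omega) l)) g, ?_⟩
    rw [Prod.orderOf, pi_orderOf, pi_orderOf]
    refine Nat.dvd_antisymm (Finset.lcm_dvd fun l _ => ?_) (Nat.lcm_dvd (Finset.lcm_dvd fun l _ => ?_) ?_)
    · induction l using Fin.lastCases with
      | last => rw [Fin.snoc_last, hg]; exact Nat.dvd_lcm_right _ _
      | cast l =>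
        rw [Fin.snoc_castSucc]
        exact (Finset.dvd_lcm (f := fun l => orderOf (f l)) (Finset.mem_univ _)).trans (Nat.dvd_lcm_left _ _)
    · have := Finset.dvd_lcm (f := fun a => orderOf (Fin.snoc (α := fun _ => G) (fun l : Fin k' => f (Fin.cast (by omega) l)) g a))
        (Finset.mem_univ (Fin.castSucc (Fin.cast (by omega : k' + 1 - 1 = k') l)))
      simpa using this
    · have := Finset.dvd_lcm (f := fun a => orderOf (Fin.snoc (α := fun _ => G) (fun l : Fin k' => f (Fin.cast (by omega) l)) g a))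
        (Finset.mem_univ (Fin.last k'))
      simpa [hg] using this

end Cfsg.Agent.S2514
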