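import Cfsg.Statements.S2516

set_option autoImplicit false
open Cfsg

namespace Cfsg.Agent.S2516

/-- Let F be a field of characteristic p > 0, V a non-zero finite-dimensional F-vector space, G a finite group and ρ a representation of G on V; form the semidirect product V ⋊ G. For g ∈ G of order k, the coset Vg contains an element of order pk if and only if the minimal polynomial of ρ(g) does not divide 1 + X + ⋯ + X^(k−1). -/
theorem result {F : Type*} [Field F] (p : ℕ) [Fact p.Prime] [CharP F p] {V : Type*} [AddCommGroup V] [Module F V] [FiniteDimensional F V] [Nontrivial V]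
    {G : Type*} [Group G] [Finite G] (ρ : Representation F G V) (g : G) :
    (∃ x : Multiplicative V ⋊[(MulAutMultiplicative V).symm.toMonoidHom.comp
        ((DistribMulAction.toAddAut ((V →ₗ[F] V)ˣ) V).comp ρ.asGroupHom)] G,
        x.right = g ∧ orderOf x = p * orderOf g) ↔
      ¬ (minpoly F (ρ g) ∣ ∑ i ∈ Finset.range (orderOf g), (Polynomial.X : Polynomial F) ^ i) := by
  classical
  have hp : p.Prime := Fact.out
  have hn : 0 < orderOf g := orderOf_pos g
  set n := orderOf g with hndef
  rw [minpoly.dvd_iff]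
  set S : Module.End F V := ∑ i ∈ Finset.range n, ρ (g ^ i) with hS
  have haev : Polynomial.aeval (ρ g) (∑ i ∈ Finset.range n, (Polynomial.X : Polynomial F) ^ i) = S := by
    simp [hS, map_sum, map_pow]
  set φ := (MulAutMultiplicative V).symm.toMonoidHom.comp
    ((DistribMulAction.toAddAut ((V →ₗ[F] V)ˣ) V).comp ρ.asGroupHom) with hφ
  have happ : ∀ (h : G) (w : V), φ h (Multiplicative.ofAdd w) = Multiplicative.ofAdd (ρ h w) := fun h w => rfl
  have hpow : ∀ (v : V) (k : ℕ), ((⟨Multiplicative.ofAdd v, g⟩ : Multiplicative V ⋊[φ] G) ^ k) =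
      ⟨Multiplicative.ofAdd (∑ i ∈ Finset.range k, ρ (g ^ i) v), g ^ k⟩ := by
    intro v k
    induction k with
    | zero => simp
    | succ k ih =>
      rw [pow_succ, ih]
      apply SemidirectProduct.ext
      · rw [SemidirectProduct.mul_left, happ, Finset.sum_range_succ, ofAdd_add]
      · rw [SemidirectProduct.mul_right, pow_succ]
  have hxn : ∀ v : V, ((⟨Multiplicative.ofAdd v, g⟩ : Multiplicative V ⋊[φ] G) ^ n) = SemidirectProduct.inl (Multiplicative.ofAdd (S v)) := by
    intro v
    rw [hpow, hndef, pow_orderOf_eq_one, ← hndef, hS, LinearMap.sum_apply]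
    rfl
  have hord : ∀ v : V, S v ≠ 0 → orderOf (⟨Multiplicative.ofAdd v, g⟩ : Multiplicative V ⋊[φ] G) = p * n := by
    intro v hv
    set x : Multiplicative V ⋊[φ] G := ⟨Multiplicative.ofAdd v, g⟩
    have hdvd : n ∣ orderOf x := by
      rw [hndef]
      exact orderOf_map_dvd (SemidirectProduct.rightHom : Multiplicative V ⋊[φ] G →* G) x
    have hop : orderOf (x ^ n) = p := by
      rw [hxn, orderOf_injective _ SemidirectProduct.inl_injective]
      refine orderOf_eq_prime ?_ ?_
      · rw [← ofAdd_nsmul, ← Nat.cast_smul_eq_nsmul F p, CharP.cast_eq_zero, zero_smul, ofAdd_zero]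
      · simpa using hv
    have hpos : orderOf (x ^ n) ≠ 0 := by rw [hop]; exact hp.ne_zero
    rw [← hop, orderOf_pow_of_dvd hn.ne' hdvd, Nat.div_mul_cancel hdvd]
  constructor
  · rintro ⟨⟨l, r⟩, rfl, hx⟩ h
    rw [haev] at h
    have hdvd : orderOf (⟨Multiplicative.ofAdd l.toAdd, r⟩ : Multiplicative V ⋊[φ] G) ∣ n := by
      refine orderOf_dvd_of_pow_eq_one ?_
      rw [hxn, h]
      simp
    rw [ofAdd_toAdd, hx] at hdvd
    have := Nat.le_of_dvd hn hdvd
    have := Nat.mul_le_mul_right n hp.two_le
    omega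
  · intro h
    rw [haev] at h
    obtain ⟨v, hv⟩ : ∃ v, S v ≠ 0 := by
      by_contra hall
      push Not at hall
      exact h (LinearMap.ext hall)
    exact ⟨⟨Multiplicative.ofAdd v, g⟩, rfl, hord v hv⟩

end Cfsg.Agent.S2516
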