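import Cfsg.Statements.S2517
import Cfsg.Agent.Known.SpectrumNine.Cover

set_option autoImplicit false
open Cfsg

namespace Cfsg.Agent.S2517

open Matrix Cfsg.Lib Cfsg.Lib.SpectrumNine Cfsg.Lib.Classical.Refl

theorem exists_dvd_order {G : Type*} [Group G] [Finite G] (g : G) {d : ℕ} (h : d ∣ orderOf g) :
    d ∈ Set.range (orderOf : G → ℕ) := by
  obtain ⟨c, hc⟩ := h
  have hc0 : c ≠ 0 := fun e => (orderOf_pos g).ne' (by rw [hc, e, mul_zero])
  exact ⟨g ^ c, by rw [orderOf_pow_of_dvd hc0 (hc ▸ dvd_mul_left _ _), hc, Nat.mul_div_cancel _ (Nat.pos_of_ne_zero hc0)]⟩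

variable {F : Type*} [Field F] [Fintype F] [DecidableEq F] {ι : Type} [Fintype ι] [DecidableEq ι]
  {Qm : QuadraticForm F (ι → F)} (p : ℕ) [Fact p.Prime] [CharP F p]
  {φ : ↥(Cfsg.Omega F (⇑Qm)) →* MulAut (Multiplicative (ι → F))}
  (hφ : ∀ h v, φ h (Multiplicative.ofAdd v) = Multiplicative.ofAdd (mat Qm h.1 *ᵥ v))

include hφ

theorem pow_formula (h : ↥(Cfsg.Omega F (⇑Qm))) (v : ι → F) (k : ℕ) :
    (⟨Multiplicative.ofAdd v, h⟩ : Multiplicative (ι → F) ⋊[φ] ↥(Cfsg.Omega F (⇑Qm))) ^ k =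
      ⟨Multiplicative.ofAdd (∑ i ∈ Finset.range k, mat Qm ((h : Cfsg.isometryGroup F (⇑Qm)) ^ i) *ᵥ v), h ^ k⟩ := by
  induction k with
  | zero => ext <;> simp
  | succ k ih =>
    rw [pow_succ, ih]
    refine SemidirectProduct.ext ?_ ?_
    · rw [SemidirectProduct.mul_left, hφ, Finset.sum_range_succ, ofAdd_add, SubmonoidClass.coe_pow]
    · rw [SemidirectProduct.mul_right, pow_succ]

theorem order_semi (h : ↥(Cfsg.Omega F (⇑Qm))) (v : ι → F) :
    orderOf (⟨Multiplicative.ofAdd v, h⟩ : Multiplicative (ι → F) ⋊[φ] ↥(Cfsg.Omega F (⇑Qm))) ∣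
        p * orderOf (h : Cfsg.isometryGroup F (⇑Qm)) ∧
    (trace' Qm h v = 0 →
      orderOf (⟨Multiplicative.ofAdd v, h⟩ : Multiplicative (ι → F) ⋊[φ] ↥(Cfsg.Omega F (⇑Qm))) ∣
        orderOf (h : Cfsg.isometryGroup F (⇑Qm))) ∧
    (trace' Qm h v ≠ 0 →
      p * orderOf (h : Cfsg.isometryGroup F (⇑Qm)) ∣
        orderOf (⟨Multiplicative.ofAdd v, h⟩ : Multiplicative (ι → F) ⋊[φ] ↥(Cfsg.Omega F (⇑Qm)))) := by
  have hp : p.Prime := Fact.out
  set x : Multiplicative (ι → F) ⋊[φ] ↥(Cfsg.Omega F (⇑Qm)) := ⟨Multiplicative.ofAdd v, h⟩ with hx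
  set N := orderOf (h : Cfsg.isometryGroup F (⇑Qm)) with hN
  have hsum : ∀ j, ∑ i ∈ Finset.range (N * j), mat Qm ((h : Cfsg.isometryGroup F (⇑Qm)) ^ i) *ᵥ v =
      (j : F) • trace' Qm h v := fun j => by
    induction j with
    | zero => simp
    | succ j ih =>
      rw [Nat.mul_succ, Finset.sum_range_add, ih, Nat.cast_succ, add_smul, one_smul]
      congr 1
      refine Finset.sum_congr rfl fun i _ => ?_
      rw [pow_add, pow_mul, hN, pow_orderOf_eq_one, one_pow, one_mul]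
  have hNh : h ^ N = 1 := Subtype.ext (by rw [SubmonoidClass.coe_pow, hN, pow_orderOf_eq_one]; rfl)
  have hpow : ∀ j, x ^ (N * j) = ⟨Multiplicative.ofAdd ((j : F) • trace' Qm h v), 1⟩ := fun j => by
    rw [hx, pow_formula hφ, hsum, pow_mul h, hNh, one_pow]
  refine ⟨orderOf_dvd_of_pow_eq_one ?_, fun h0 => orderOf_dvd_of_pow_eq_one ?_, fun h0 => ?_⟩
  · rw [mul_comm, hpow, CharP.cast_eq_zero, zero_smul]; rfl
  · rw [← mul_one N, hpow, h0, smul_zero]; rfl
  · have h1 : N ∣ orderOf x := by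
      refine orderOf_dvd_of_pow_eq_one ?_
      have h3 := congrArg SemidirectProduct.right (pow_orderOf_eq_one x)
      nth_rw 1 [hx] at h3
      rw [pow_formula hφ] at h3
      rw [← SubmonoidClass.coe_pow, show h ^ orderOf x = 1 from h3]
      rfl
    obtain ⟨j, hj⟩ := h1
    have h3 := congrArg SemidirectProduct.left (pow_orderOf_eq_one x)
    rw [hj, hpow, SemidirectProduct.one_left] at h3
    have h4 : (j : F) • trace' Qm h v = 0 := h3
    have h5 : p ∣ j := (CharP.cast_eq_zero_iff F p j).1 ((smul_eq_zero.1 h4).resolve_right h0)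
    rw [hj, mul_comm]
    exact Nat.mul_dvd_mul_left _ h5

theorem range_eq (h2 : (2 : F) ≠ 0) (hp2 : p ≠ 2) (hQm : (QuadraticMap.polarBilin Qm).Nondegenerate)
    (hι : Fintype.card ι = 8) (hminus : ¬ IsPlus Qm 4) :
    Set.range (orderOf : Cfsg.POmega F (⇑(oddForm 4 F)) → ℕ) =
      Set.range (orderOf : Multiplicative (ι → F) ⋊[φ] ↥(Cfsg.Omega F (⇑Qm)) → ℕ) := by
  have hQ := oddForm_nondegenerate (F := F) h2 4
  have hcard : Fintype.card (Unit ⊕ (Fin 4 ⊕ Fin 4)) = 9 := by simp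
  haveI : Finite (Multiplicative (ι → F)) := Finite.of_equiv _ (Multiplicative.ofAdd (α := ι → F))
  haveI : Finite (Multiplicative (ι → F) ⋊[φ] ↥(Cfsg.Omega F (⇑Qm))) :=
    Finite.of_equiv _ SemidirectProduct.equivProd.symm
  ext N
  rw [PrimeGraphOrth.pomega_range h2 (by norm_num)]
  constructor
  · rintro ⟨g, hg, rfl⟩
    obtain ⟨h, hh, hc | ⟨v, hv, hc⟩⟩ := cov_of_omega p h2 hp2 hQ hcard hQm hι hminus g hg
    · refine exists_dvd_order (SemidirectProduct.inr ⟨h, hh⟩) ?_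
      rw [orderOf_injective _ SemidirectProduct.inr_injective]
      exact hc.trans (dvd_of_eq (Subgroup.orderOf_coe (⟨h, hh⟩ : ↥(Cfsg.Omega F (⇑Qm)))))
    · exact exists_dvd_order _ (hc.trans ((order_semi p hφ ⟨h, hh⟩ v).2.2 hv))
  · rintro ⟨⟨v, h⟩, rfl⟩
    obtain ⟨v, rfl⟩ := Multiplicative.ofAdd.surjective v
    obtain ⟨hB1, hB2⟩ := omega_of_cov p h2 hp2 hQ hcard hQm hι h.1 h.2
    obtain ⟨ha, hb, -⟩ := order_semi p hφ h v
    obtain ⟨g, hg, hd⟩ : ∃ g ∈ Cfsg.Omega F (⇑(oddForm 4 F)),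
        orderOf (⟨Multiplicative.ofAdd v, h⟩ : Multiplicative (ι → F) ⋊[φ] ↥(Cfsg.Omega F (⇑Qm))) ∣ orderOf g := by
      by_cases h0 : trace' Qm h.1 v = 0
      · obtain ⟨g, hg, hd⟩ := hB1
        exact ⟨g, hg, (hb h0).trans hd⟩
      · obtain ⟨g, hg, hd⟩ := hB2 v h0
        exact ⟨g, hg, ha.trans hd⟩
    obtain ⟨y, hy⟩ := exists_dvd_order (⟨g, hg⟩ : ↥(Cfsg.Omega F (⇑(oddForm 4 F)))) (hd.trans (dvd_of_eq (Subgroup.orderOf_coe (⟨g, hg⟩ : ↥(Cfsg.Omega F (⇑(oddForm 4 F)))))))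
    exact ⟨y.1, y.2, (Subgroup.orderOf_coe y).trans hy⟩

omit hφ

/-- Let F be a finite field of odd order q, let Ω₉ be the simple orthogonal group PΩ(9, F), and let Ω₈⁻ be the commutator subgroup of the isometry group of a minus-type non-singular quadratic form on V = F⁸ (the simple group PΩ⁻(8, F), acting on its natural module V). Then Ω₉ and the semidirect product V ⋊ Ω₈⁻ have exactly the same set of element orders. -/
theorem result {F : Type*} [Field F] [Fintype F] (hF : Odd (Fintype.card F)) (a b : F)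
    (hab : ∀ z₁ z₂ : F, z₁ ^ 2 + a * z₁ * z₂ + b * z₂ ^ 2 = 0 → z₁ = 0 ∧ z₂ = 0) :
    Set.range (orderOf : Cfsg.POmega F (Cfsg.quadFormOdd 4 F) → ℕ) =
      Set.range (orderOf :
        (Multiplicative (((Fin 3 ⊕ Fin 3) ⊕ Fin 2) → F)) ⋊[
          (MulAutMultiplicative (((Fin 3 ⊕ Fin 3) ⊕ Fin 2) → F)).symm.toMonoidHom.comp
           ((DistribMulAction.toAddAut (LinearMap.GeneralLinearGroup F (((Fin 3 ⊕ Fin 3) ⊕ Fin 2) → F))
              (((Fin 3 ⊕ Fin 3) ⊕ Fin 2) → F)).comp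
            (Matrix.GeneralLinearGroup.toLin.toMonoidHom.comp
              ((Cfsg.isometryGroup F (Cfsg.quadFormMinus 3 F a b)).subtype.comp
                (Cfsg.Omega F (Cfsg.quadFormMinus 3 F a b)).subtype)))]
          ↥(Cfsg.Omega F (Cfsg.quadFormMinus 3 F a b)) → ℕ) := by
  classical
  have h2 : (2 : F) ≠ 0 := two_ne_zero_of_odd hF
  obtain ⟨p, _⟩ := CharP.exists F
  haveI : Fact p.Prime := ⟨CharP.char_is_prime F p⟩
  have hp2 : p ≠ 2 := fun h => h2 (by subst h; exact CharTwo.two_eq_zero)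
  have hminus : ¬ IsPlus (minusForm 3 F a b) 4 := by
    rintro ⟨T, hT, hT0⟩
    have := OrthAut.minus_ts_le hab hT0
    omega
  have h := fun φ hφ => range_eq (Qm := minusForm 3 F a b) p (φ := φ) hφ h2 hp2
    (minusForm_nondegenerate' 3 hab) (by simp) hminus
  rw [← oddForm_coe]
  revert h
  generalize hQ : Cfsg.quadFormMinus 3 F a b = Qf
  rw [← minusForm_coe] at hQ
  subst hQ
  intro h
  exact h _ fun h v => rfl

end Cfsg.Agent.S2517
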