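import Cfsg.Statements.S2518
import Cfsg.Agent.GTwoThree.Graph

set_option autoImplicit false
open Cfsg

namespace Cfsg.Agent.S2518

/-- Let F₃ be the field with 3 elements and F₁₃ the field with 13 elements. The Chevalley group G₂(F₃) and PSL(2, F₁₃) have the same prime graph: the same prime divisors of their orders, and for distinct primes r, s an element of order rs in one iff in the other. -/
theorem result {F : Type*} [Field F] [Fintype F] (hF : Fintype.card F = 3) {E : Type*} [Field E] [Fintype E] (hE : Fintype.card E = 13) :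
    ((∀ r : ℕ, r.Prime → (r ∣ Nat.card ↥(Cfsg.Lie.chevG2.group F) ↔ r ∣ Nat.card (Matrix.ProjectiveSpecialLinearGroup (Fin 2) E))) ∧
      (∀ r s : ℕ, r.Prime → s.Prime → r ≠ s → ((∃ x : ↥(Cfsg.Lie.chevG2.group F), orderOf x = r * s) ↔ (∃ y : (Matrix.ProjectiveSpecialLinearGroup (Fin 2) E), orderOf y = r * s)))) := by
  haveI : Fact (Nat.Prime 13) := ⟨by norm_num⟩
  haveI : Fact (Nat.Prime 3) := ⟨by norm_num⟩
  let e : F ≃+* ZMod 3 := (ZMod.ringEquivOfPrime F Nat.prime_three hF).symm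
  let d : E ≃+* ZMod 13 := (ZMod.ringEquivOfPrime E (by norm_num) hE).symm
  obtain ⟨i⟩ : Nonempty (↥(Cfsg.Lie.chevG2.group F) ≃* Cfsg.Lib.GTwoThree.GG) := ⟨
    (Subgroup.equivMapOfInjective _ (Matrix.GeneralLinearGroup.map (n := Cfsg.Lie.chevG2.Idx) e.toRingHom) (fun a b h =>
      Units.ext (Matrix.map_injective (f := e.toRingHom) e.injective (congrArg Units.val h)))).trans
      (MulEquiv.subgroupCongr (Cfsg.Lib.Chev.Ok.map_group Cfsg.Lib.Chev.G2.ok e))⟩
  let f := Cfsg.Lib.Classical.PSLEmbed.pslMap d.toRingHom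
  let g := Cfsg.Lib.Classical.PSLEmbed.pslMap d.symm.toRingHom
  have hf : Function.Injective f := Cfsg.Lib.Classical.PSLEmbed.pslMap_injective _
  have hg : Function.Injective g := Cfsg.Lib.Classical.PSLEmbed.pslMap_injective _
  have ho : ∀ n, (∃ y : Matrix.ProjectiveSpecialLinearGroup (Fin 2) E, orderOf y = n) ↔
      ∃ y : Cfsg.Lib.GTwoThree.PSLT, orderOf y = n := fun n =>
    ⟨fun ⟨y, hy⟩ => ⟨f y, (orderOf_injective f hf y).trans hy⟩, fun ⟨y, hy⟩ => ⟨g y, (orderOf_injective g hg y).trans hy⟩⟩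
  refine ⟨fun r hr => ?_, fun r s hr hs hrs => ?_⟩
  · haveI := Fact.mk hr
    haveI : Finite (Matrix.ProjectiveSpecialLinearGroup (Fin 2) E) := Finite.of_injective f hf
    have h1 : r ∣ Nat.card (Matrix.ProjectiveSpecialLinearGroup (Fin 2) E) ↔ r ∣ Nat.card Cfsg.Lib.GTwoThree.PSLT := by
      constructor
      · intro h
        obtain ⟨y, hy⟩ := exists_prime_orderOf_dvd_card' r h
        obtain ⟨z, hz⟩ := (ho r).mp ⟨y, hy⟩
        exact hz ▸ orderOf_dvd_natCard z
      · intro h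
        obtain ⟨y, hy⟩ := exists_prime_orderOf_dvd_card' r h
        obtain ⟨z, hz⟩ := (ho r).mpr ⟨y, hy⟩
        exact hz ▸ orderOf_dvd_natCard z
    refine Iff.trans ?_ h1.symm
    refine Iff.trans ?_ (Cfsg.Lib.GTwoThree.prime_dvd_PSL hr).symm
    refine Iff.trans ?_ (Cfsg.Lib.GTwoThree.prime_dvd_GG hr)
    exact iff_of_eq (congrArg (r ∣ ·) (Nat.card_congr i.toEquiv))
  · rw [ho]
    obtain ⟨h1, h2⟩ := Cfsg.Lib.GTwoThree.edge_iff hr hs hrs
    rw [h2, ← h1]
    constructor
    · rintro ⟨x, hx⟩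
      refine ⟨i x, ?_⟩
      rw [← hx]
      exact orderOf_injective i.toMonoidHom i.injective x
    · rintro ⟨x, hx⟩
      obtain ⟨z, rfl⟩ := i.surjective x
      refine ⟨z, ?_⟩
      rw [← hx]
      exact (orderOf_injective i.toMonoidHom i.injective z).symm

end Cfsg.Agent.S2518
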