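import Cfsg.Statements.S2519
import Cfsg.Agent.Chev.GTwoOrdersOdd.Elements

set_option autoImplicit false
open Cfsg

namespace Cfsg.Agent.S2519

/-- Let F be a finite field of odd order q = p^a ≥ 5. The element orders of the Chevalley group G₂(F) that are maximal under divisibility are exactly p(q + 1), p(q − 1), q² − 1, q² + q + 1, q² − q + 1, together with p² when p is 3 or 5. -/
theorem result {F : Type*} [Field F] [Fintype F] (p a : ℕ) (hp : p.Prime) (hp2 : p ≠ 2) (ha : 1 ≤ a) (hF : Fintype.card F = p ^ a) (hq5 : 5 ≤ Fintype.card F) :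
    {n : ℕ | n ∈ Set.range (orderOf : ↥(Cfsg.Lie.chevG2.group F) → ℕ) ∧ ∀ m ∈ Set.range (orderOf : ↥(Cfsg.Lie.chevG2.group F) → ℕ), n ∣ m → m = n} =
      ({p * (p ^ a + 1), p * (p ^ a - 1), p ^ (2 * a) - 1, p ^ (2 * a) + p ^ a + 1, p ^ (2 * a) - p ^ a + 1} : Set ℕ) ∪
        (if p = 3 ∨ p = 5 then ({p ^ 2} : Set ℕ) else ∅) := by
  haveI : Fact p.Prime := ⟨hp⟩
  haveI : CharP F p := by
    obtain ⟨p', hp'⟩ := CharP.exists F
    haveI : Fact p'.Prime := ⟨CharP.char_is_prime F p'⟩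
    obtain ⟨n, -, hn⟩ := FiniteField.card F p'
    have hd : p' ∣ Fintype.card F := by rw [hn]; exact dvd_pow_self p' n.ne_zero
    rw [hF] at hd
    have he : p' = p := (Nat.prime_dvd_prime_iff_eq (Fact.out : p'.Prime) hp).1
      ((Fact.out : p'.Prime).dvd_of_dvd_pow hd)
    exact he ▸ hp'
  obtain ⟨-, -, -, c1, c2, c3, c4, c5⟩ := Cfsg.Lib.GTwoOrdOdd.p_facts (F := F) p hq5 hp2
  have hlist := Cfsg.Lib.GTwoOrdOdd.order_dvd_list (F := F) p hp2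
  rw [show (p : ℕ) ^ (2 * a) = (p ^ a) ^ 2 by rw [← pow_mul, mul_comm], ← hF]
  set q := Fintype.card F with hqdef
  set S : Set ℕ := ({p * (q + 1), p * (q - 1), q ^ 2 - 1, q ^ 2 + q + 1, q ^ 2 - q + 1} : Set ℕ) ∪
        (if p = 3 ∨ p = 5 then ({p ^ 2} : Set ℕ) else ∅) with hS
  have hmem : ∀ m : ℕ, (∃ g ∈ Cfsg.Lie.chevG2.group F, orderOf g = m) →
      m ∈ Set.range (orderOf : ↥(Cfsg.Lie.chevG2.group F) → ℕ) := by
    rintro m ⟨g, hg, rfl⟩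
    exact ⟨⟨g, hg⟩, Subgroup.orderOf_mk g hg⟩
  have hcases : ∀ D ∈ S, D = p * (q + 1) ∨ D = p * (q - 1) ∨ D = q ^ 2 - 1 ∨ D = q ^ 2 + q + 1 ∨
      D = q ^ 2 - q + 1 ∨ ((p = 3 ∨ p = 5) ∧ D = p ^ 2) := by
    intro D hD
    by_cases h : p = 3 ∨ p = 5 <;> simp [hS, h] at hD ⊢ <;> tauto
  have hrange : ∀ D ∈ S, D ∈ Set.range (orderOf : ↥(Cfsg.Lie.chevG2.group F) → ℕ) := by
    intro D hD
    rcases hcases D hD with rfl | rfl | rfl | rfl | rfl | ⟨h, rfl⟩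
    · exact hmem _ (Cfsg.Lib.GTwoOrdOdd.order_p_add p hq5 hp2)
    · exact hmem _ (Cfsg.Lib.GTwoOrdOdd.order_p_sub p hq5 hp2)
    · exact hmem _ (Cfsg.Lib.GTwoOrdOdd.order_sq p (by omega) hp2)
    · exact hmem _ (Cfsg.Lib.GTwoOrdOdd.order_cyclotomic hq5).1
    · exact hmem _ (Cfsg.Lib.GTwoOrdOdd.order_cyclotomic hq5).2
    · exact hmem _ (Cfsg.Lib.GTwoOrdOdd.order_p_sq p h)
  have hbound : ∀ g : ↥(Cfsg.Lie.chevG2.group F), ∃ D ∈ S, orderOf g ∣ D := by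
    intro g
    rcases hlist g with h | h | h | h | h | ⟨hp35, h⟩
    · exact ⟨_, Or.inl (by simp), h⟩
    · exact ⟨p * (q - 1), Or.inl (by simp), h⟩
    · exact ⟨q ^ 2 - 1, Or.inl (by simp), h⟩
    · exact ⟨q ^ 2 + q + 1, Or.inl (by simp), h⟩
    · exact ⟨q ^ 2 - q + 1, Or.inl (by simp), h⟩
    · exact ⟨p ^ 2, Or.inr (by rw [if_pos hp35]; exact rfl), h⟩
  ext n
  constructor
  · rintro ⟨⟨g, rfl⟩, hmax⟩
    obtain ⟨D, hD, hdvd⟩ := hbound g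
    rw [← hmax D (hrange D hD) hdvd]
    exact hD
  · intro hn
    refine ⟨hrange n hn, ?_⟩
    rintro m ⟨g, rfl⟩ hnm
    obtain ⟨D, hD, hdvd⟩ := hbound g
    have he : n = D := Cfsg.Lib.GTwoOrdOdd.antichain hp hq5 c1 c2 c3 c4 c5
      (by rcases hcases n hn with h | h | h | h | h | ⟨-, h⟩ <;> simp [h])
      (by rcases hcases D hD with h | h | h | h | h | ⟨-, h⟩ <;> simp [h]) (hnm.trans hdvd)
    exact Nat.dvd_antisymm (he ▸ hdvd) hnm

end Cfsg.Agent.S2519
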