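import Cfsg.Statements.S2520
import Cfsg.Agent.Chev.GTwoOrders.Elements

set_option autoImplicit false
open Cfsg

namespace Cfsg.Agent.S2520

/-- Let F be a finite field with q = 2^a ≥ 4 elements and G₂(F) the Chevalley group of type G₂ over it. Every element order of G₂(F) maximal under divisibility lies in the set {8, 12, 2(q + 1), 2(q − 1), q² − 1, q² + q + 1, q² − q + 1}, and every member of that set is an element order of G₂(F). -/
theorem result {F : Type*} [Field F] [Fintype F] (a : ℕ) (ha : 2 ≤ a) (hF : Fintype.card F = 2 ^ a) :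
    {n : ℕ | n ∈ Set.range (orderOf : ↥(Cfsg.Lie.chevG2.group F) → ℕ) ∧ ∀ m ∈ Set.range (orderOf : ↥(Cfsg.Lie.chevG2.group F) → ℕ), n ∣ m → m = n} ⊆ ({8, 12, 2 * (2 ^ a + 1), 2 * (2 ^ a - 1), 2 ^ (2 * a) - 1, 2 ^ (2 * a) + 2 ^ a + 1, 2 ^ (2 * a) - 2 ^ a + 1} : Set ℕ) ∧
    ({8, 12, 2 * (2 ^ a + 1), 2 * (2 ^ a - 1), 2 ^ (2 * a) - 1, 2 ^ (2 * a) + 2 ^ a + 1, 2 ^ (2 * a) - 2 ^ a + 1} : Set ℕ) ⊆ Set.range (orderOf : ↥(Cfsg.Lie.chevG2.group F) → ℕ) := by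
  haveI : CharP F 2 := by
    obtain ⟨p, hp⟩ := CharP.exists F
    haveI : Fact p.Prime := ⟨CharP.char_is_prime F p⟩
    obtain ⟨n, -, hn⟩ := FiniteField.card F p
    have hd : p ∣ Fintype.card F := by rw [hn]; exact dvd_pow_self p n.ne_zero
    rw [hF] at hd
    have : p = 2 := (Nat.prime_dvd_prime_iff_eq (Fact.out : p.Prime) Nat.prime_two).1
      ((Fact.out : p.Prime).dvd_of_dvd_pow hd)
    exact this ▸ hp
  have hq : 4 ≤ Fintype.card F := by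
    rw [hF]
    exact (show 2 ^ 2 ≤ 2 ^ a from Nat.pow_le_pow_right (by norm_num) ha)
  have he : 2 ∣ Fintype.card F := Cfsg.Lib.GTwoOrd.card_even
  rw [show (2 : ℕ) ^ (2 * a) = (2 ^ a) ^ 2 by rw [← pow_mul, mul_comm], ← hF]
  set q := Fintype.card F with hqdef
  have hmem : ∀ m : ℕ, (∃ g ∈ Cfsg.Lie.chevG2.group F, orderOf g = m) →
      m ∈ Set.range (orderOf : ↥(Cfsg.Lie.chevG2.group F) → ℕ) := by
    rintro m ⟨g, hg, rfl⟩
    exact ⟨⟨g, hg⟩, Subgroup.orderOf_mk g hg⟩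
  have hsub : ({8, 12, 2 * (q + 1), 2 * (q - 1), q ^ 2 - 1, q ^ 2 + q + 1, q ^ 2 - q + 1} : Set ℕ) ⊆
      Set.range (orderOf : ↥(Cfsg.Lie.chevG2.group F) → ℕ) := by
    intro m hm
    simp only [Set.mem_insert_iff, Set.mem_singleton_iff] at hm
    rcases hm with rfl | rfl | rfl | rfl | rfl | rfl | rfl
    · exact hmem _ Cfsg.Lib.GTwoOrd.order_eight
    · exact hmem _ Cfsg.Lib.GTwoOrd.order_twelve
    · exact hmem _ (Cfsg.Lib.GTwoOrd.order_double _ Cfsg.Lib.GTwoOrd.exists_sl2_add (by omega))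
    · exact hmem _ (Cfsg.Lib.GTwoOrd.order_double _ Cfsg.Lib.GTwoOrd.exists_order_sub (by omega))
    · exact hmem _ Cfsg.Lib.GTwoOrd.order_sq_sub
    · exact hmem _ (Cfsg.Lib.GTwoOrd.order_cyclotomic hq).1
    · exact hmem _ (Cfsg.Lib.GTwoOrd.order_cyclotomic hq).2
  refine ⟨?_, hsub⟩
  rintro n ⟨⟨g, rfl⟩, hmax⟩
  obtain ⟨D, hD, hdvd⟩ : ∃ D ∈ ({8, 12, 2 * (q + 1), 2 * (q - 1), q ^ 2 - 1, q ^ 2 + q + 1, q ^ 2 - q + 1} : Set ℕ),
      orderOf g ∣ D := by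
    by_cases h2 : 2 ∣ orderOf g
    · rw [← Subgroup.orderOf_coe] at h2 ⊢
      rcases Cfsg.Lib.GTwoOrd.order_even g.2 h2 with h | h | h | h
      · exact ⟨_, by simp, h⟩
      · exact ⟨12, by simp, h⟩
      · exact ⟨2 * (q - 1), by simp, h⟩
      · exact ⟨2 * (q + 1), by simp, h⟩
    · rcases Cfsg.Lib.GTwoOrd.order_odd h2 with h | h | h
      · exact ⟨q ^ 2 + q + 1, by simp, h⟩
      · exact ⟨q ^ 2 - q + 1, by simp, h⟩
      · exact ⟨q ^ 2 - 1, by simp, h⟩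
  rw [← hmax D (hsub hD) hdvd]
  exact hD

end Cfsg.Agent.S2520
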