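import Cfsg.Statements.S2522
import Cfsg.Agent.Known.RegularProduct.Main
-- import your own Cfsg.Agent.* helpers here

set_option autoImplicit false
open Cfsg

namespace Cfsg.Agent.S2522

/-- Let K be a field with at least four elements (finite or infinite), n ≥ 3, and J ∈ GL(n, K) the regular unipotent matrix (ones on the diagonal and the superdiagonal, zeros elsewhere). Then every non-scalar g ∈ GL(n, K) with det g = 1 is a product of two GL(n, K)-conjugates of J. -/
theorem result {K : Type*} [Field K] (hK : 4 ≤ Cardinal.mk K) (n : ℕ) (hn : 3 ≤ n) (J g : GL (Fin n) K)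
    (hJ : ∀ i j : Fin n, (J : Matrix (Fin n) (Fin n) K) i j = if i = j then 1 else if j.val = i.val + 1 then 1 else 0)
    (hg : ¬ ∃ c : K, (g : Matrix (Fin n) (Fin n) K) = c • (1 : Matrix (Fin n) (Fin n) K))
    (hdet : (g : Matrix (Fin n) (Fin n) K).det = 1) :
    ∃ x y : GL (Fin n) K, g = (x * J * x⁻¹) * (y * J * y⁻¹) := by
  obtain ⟨m, rfl⟩ : ∃ m, n = m + 3 := ⟨n - 3, by omega⟩
  have hU : Cfsg.Lib.RegularProduct.Urg (J : Matrix (Fin (m + 3)) (Fin (m + 3)) K) := by
    intro i j
    rw [Matrix.transpose_apply, Matrix.transpose_apply, hJ, hJ]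
    refine ⟨fun h => ?_, by rw [if_pos rfl], fun h => ?_⟩
    · rw [if_neg (fun e => by rw [e] at h; omega), if_neg (by omega)]
    · rw [if_neg (fun e => by rw [e] at h; omega), if_pos h]; exact one_ne_zero
  have hJd : (J : Matrix (Fin (m + 3)) (Fin (m + 3)) K).det = 1 := by
    rw [Matrix.det_of_upperTriangular]
    · exact Finset.prod_eq_one fun i _ => (hU i i).2.1
    · intro i j hij
      exact (hU j i).1 (Fin.lt_def.1 hij)
  exact Cfsg.Lib.RegularProduct.product hK (Cfsg.Lib.RegularProduct.regular_urg hU) hJd g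
    (fun c e => hg ⟨c, e⟩) hdet

end Cfsg.Agent.S2522
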