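import Cfsg.Statements.S2524
import Cfsg.Agent.Known.SpWeil.Count

set_option autoImplicit false
open Cfsg

namespace Cfsg.Agent.S2524

/-- Let F be a finite field of odd order q and G = Sp(2n, F) with n ≥ 2. Then G has exactly four irreducible complex characters of degree (q^n + 1)/2 or (q^n − 1)/2 (two of each), and every other non-principal irreducible character has degree at least (q^n − 1)(q^n − q)/(2(q + 1)). -/
theorem result {F : Type*} [Field F] [Fintype F] (hodd : Odd (Fintype.card F)) (n : ℕ) (hn : 2 ≤ n) :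
    Nat.card {χ : Cfsg.IrrCharacter ↥(Matrix.symplecticGroup (Fin n) F) // (χ : ↥(Matrix.symplecticGroup (Fin n) F) → ℂ) 1 = (((Fintype.card F) ^ n + 1 : ℕ) : ℂ) / 2} = 2 ∧
    Nat.card {χ : Cfsg.IrrCharacter ↥(Matrix.symplecticGroup (Fin n) F) // (χ : ↥(Matrix.symplecticGroup (Fin n) F) → ℂ) 1 = (((Fintype.card F) ^ n - 1 : ℕ) : ℂ) / 2} = 2 ∧
    ∀ χ : Cfsg.IrrCharacter ↥(Matrix.symplecticGroup (Fin n) F),
      (χ : ↥(Matrix.symplecticGroup (Fin n) F) → ℂ) 1 ≠ 1 →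
      (χ : ↥(Matrix.symplecticGroup (Fin n) F) → ℂ) 1 ≠ (((Fintype.card F) ^ n + 1 : ℕ) : ℂ) / 2 →
      (χ : ↥(Matrix.symplecticGroup (Fin n) F) → ℂ) 1 ≠ (((Fintype.card F) ^ n - 1 : ℕ) : ℂ) / 2 →
      (((Fintype.card F) ^ n - 1 : ℕ) : ℝ) * (((Fintype.card F) ^ n - Fintype.card F : ℕ) : ℝ) / (2 * ((Fintype.card F : ℕ) + 1 : ℝ)) ≤ ‖(χ : ↥(Matrix.symplecticGroup (Fin n) F) → ℂ) 1‖ := by
  classical
  obtain ⟨X, hinj, hdeg, hall⟩ := Cfsg.Lib.SpWeil.exists_weil_family hn hodd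
  set q := Fintype.card F with hq
  have hq3 : 3 ≤ q := by
    have := Fintype.one_lt_card (α := F)
    obtain ⟨j, hj⟩ := hodd
    omega
  have hQ : q * q ≤ q ^ n := by
    rw [← sq]
    exact Nat.pow_le_pow_right (by omega) hn
  have main : ∀ (b : Bool) (D : ℕ), (∀ i, (X i b : ↥(Matrix.symplecticGroup (Fin n) F) → ℂ) 1 = (D : ℂ) / 2) →
      (∀ i, (X i (!b) : ↥(Matrix.symplecticGroup (Fin n) F) → ℂ) 1 ≠ (D : ℂ) / 2) → 3 ≤ D → D ≤ q ^ n + 1 →
      Nat.card {χ : Cfsg.IrrCharacter ↥(Matrix.symplecticGroup (Fin n) F) //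
        (χ : ↥(Matrix.symplecticGroup (Fin n) F) → ℂ) 1 = (D : ℂ) / 2} = 2 := by
    intro b D hb hnb hD3 hD
    let f : Bool → {χ : Cfsg.IrrCharacter ↥(Matrix.symplecticGroup (Fin n) F) //
        (χ : ↥(Matrix.symplecticGroup (Fin n) F) → ℂ) 1 = (D : ℂ) / 2} := fun i => ⟨X i b, hb i⟩
    rw [← Nat.card_congr (Equiv.ofBijective f ⟨fun i j e => hinj b (congrArg Subtype.val e), fun ⟨χ, hχ⟩ => ?_⟩)]
    · simp
    rcases hall χ with ⟨i, b', rfl⟩ | h | ⟨k, hk, hle⟩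
    · rcases Bool.eq_or_eq_not b' b with rfl | rfl
      · exact ⟨i, rfl⟩
      · exact absurd hχ (hnb i)
    · exfalso
      rw [h] at hχ
      have : ((2 : ℕ) : ℂ) = (D : ℂ) := by push_cast; linear_combination 2 * hχ
      have := Nat.cast_injective this
      omega
    · exfalso
      rw [hk] at hχ
      have : ((2 * k : ℕ) : ℂ) = (D : ℂ) := by push_cast; linear_combination 2 * hχ
      have hk2 := Nat.cast_injective this
      have h3 : 2 * (q + 1) * k ≤ (q + 1) * (q ^ n + 1) := calc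
        2 * (q + 1) * k = (q + 1) * (2 * k) := by ring
        _ ≤ _ := Nat.mul_le_mul_left _ (by omega)
      have h4 : 2 * q * (q ^ n - 1) ≤ (q ^ n - 1) * (q ^ n - q) := by
        rw [mul_comm]
        refine Nat.mul_le_mul_left _ ?_
        have : 3 * q ≤ q * q := Nat.mul_le_mul_right _ hq3
        omega
      have h5 : (q + 1) * (q ^ n + 1) < 2 * q * (q ^ n - 1) := by
        obtain ⟨j, hj⟩ : ∃ j, q ^ n = j + 1 := ⟨q ^ n - 1, by omega⟩
        rw [hj, Nat.add_sub_cancel]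
        rw [hj] at hQ
        nlinarith
      omega
  have hpos : 1 ≤ q ^ n := Nat.one_le_pow _ _ (by omega)
  have hne : ((q ^ n + 1 : ℕ) : ℂ) / 2 ≠ ((q ^ n - 1 : ℕ) : ℂ) / 2 := fun e => by
    have : ((q ^ n + 1 : ℕ) : ℂ) = ((q ^ n - 1 : ℕ) : ℂ) := by linear_combination 2 * e
    have := Nat.cast_injective this
    omega
  refine ⟨main true _ (fun i => (hdeg i).1) (fun i => by
      rw [Bool.not_true, (hdeg i).2]; exact hne.symm) (by nlinarith) le_rfl,
    main false _ (fun i => (hdeg i).2) (fun i => by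
      rw [Bool.not_false, (hdeg i).1]; exact hne) (by
      have : 9 ≤ q ^ n := le_trans (Nat.mul_le_mul hq3 hq3) hQ
      omega) (by omega), fun χ h1 hp hm => ?_⟩
  rcases hall χ with ⟨i, b, rfl⟩ | h | ⟨k, hk, hle⟩
  · cases b
    · exact absurd (hdeg i).2 hm
    · exact absurd (hdeg i).1 hp
  · exact absurd h h1
  · rw [hk, RCLike.norm_natCast, div_le_iff₀ (by positivity)]
    have : (((q ^ n - 1) * (q ^ n - q) : ℕ) : ℝ) ≤ ((2 * (q + 1) * k : ℕ) : ℝ) := Nat.cast_le.mpr hle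
    push_cast at this
    linarith

end Cfsg.Agent.S2524
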