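import Cfsg.Statements.S2525
import Cfsg.Agent.Chev.F4Graph.Edges
import Cfsg.Agent.Chev.F4Graph.NonEdge
-- import your own Cfsg.Agent.* helpers here

set_option autoImplicit false
open Cfsg

namespace Cfsg.Agent.S2525

/-- Let F be a finite field with q = 2^n elements and G = F₄(F). For an odd prime r let e(r, q) be the multiplicative order of q modulo r. Two distinct primes r, s dividing the order of G are non-adjacent in the prime graph of G (no element of order rs) if and only if, up to swapping r and s, either r = 2 and e(s, q) ∈ {8, 12}, or r, s are both odd with k = e(r, q) < l = e(s, q) and one of: l ∈ {8, 12}; l = 6 and k ∈ {3, 4}; l = 4 and k = 3. -/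
theorem result {F : Type*} [Field F] [Fintype F] (n : ℕ) (hn : 1 ≤ n) (hF : Fintype.card F = 2 ^ n)
    (r s : ℕ) (hr : r.Prime) (hs : s.Prime) (hrs : r ≠ s) (hrG : r ∣ Nat.card ↥(Cfsg.Lie.chevF4.group F)) (hsG : s ∣ Nat.card ↥(Cfsg.Lie.chevF4.group F)) :
    (¬ ∃ x : ↥(Cfsg.Lie.chevF4.group F), orderOf x = r * s) ↔
      ((r = 2 ∧ orderOf ((Fintype.card F : ℕ) : ZMod s) ∈ ({8, 12} : Finset ℕ)) ∨ (s = 2 ∧ orderOf ((Fintype.card F : ℕ) : ZMod r) ∈ ({8, 12} : Finset ℕ)) ∨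
       (r ≠ 2 ∧ s ≠ 2 ∧
         ((orderOf ((Fintype.card F : ℕ) : ZMod r) < orderOf ((Fintype.card F : ℕ) : ZMod s) ∧ (orderOf ((Fintype.card F : ℕ) : ZMod s) ∈ ({8, 12} : Finset ℕ) ∨ (orderOf ((Fintype.card F : ℕ) : ZMod s) = 6 ∧ orderOf ((Fintype.card F : ℕ) : ZMod r) ∈ ({3, 4} : Finset ℕ)) ∨ (orderOf ((Fintype.card F : ℕ) : ZMod s) = 4 ∧ orderOf ((Fintype.card F : ℕ) : ZMod r) = 3))) ∨
          (orderOf ((Fintype.card F : ℕ) : ZMod s) < orderOf ((Fintype.card F : ℕ) : ZMod r) ∧ (orderOf ((Fintype.card F : ℕ) : ZMod r) ∈ ({8, 12} : Finset ℕ) ∨ (orderOf ((Fintype.card F : ℕ) : ZMod r) = 6 ∧ orderOf ((Fintype.card F : ℕ) : ZMod s) ∈ ({3, 4} : Finset ℕ)) ∨ (orderOf ((Fintype.card F : ℕ) : ZMod r) = 4 ∧ orderOf ((Fintype.card F : ℕ) : ZMod s) = 3)))))) := by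
  haveI : CharP F 2 := by
    obtain ⟨p, hp⟩ := CharP.exists F
    haveI := hp
    obtain ⟨k, hp', hk⟩ := FiniteField.card F p
    have h2 : p ∣ 2 ^ n := by
      rw [← hF, hk]
      exact dvd_pow_self p k.ne_zero
    obtain rfl : p = 2 := (Nat.prime_dvd_prime_iff_eq hp' Nat.prime_two).1 (hp'.dvd_of_dvd_pow h2)
    exact hp
  have symm : ∀ a b : ℕ, (∃ x : ↥(Cfsg.Lie.chevF4.group F), orderOf x = a * b) →
      ∃ x : ↥(Cfsg.Lie.chevF4.group F), orderOf x = b * a := fun a b => by rw [mul_comm]; exact id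
  constructor
  · intro hno
    by_cases hr2 : r = 2
    · have hs2 : s ≠ 2 := fun h => hrs (hr2.trans h.symm)
      refine Or.inl ⟨hr2, ?_⟩
      by_contra h
      refine hno (Cfsg.Lib.F4Graph.edge_sl2 hF hn hr hs hrs hs2 (Or.inl hr2) ?_)
      have hmem := Cfsg.Lib.F4Graph.order_cases hF hs hs2 hsG
      simp only [Finset.mem_insert, Finset.mem_singleton] at hmem h ⊢
      omega
    by_cases hs2 : s = 2
    · refine Or.inr (Or.inl ⟨hs2, ?_⟩)
      by_contra h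
      refine hno (symm _ _ (Cfsg.Lib.F4Graph.edge_sl2 hF hn hs hr hrs.symm hr2 (Or.inl hs2) ?_))
      have hmem := Cfsg.Lib.F4Graph.order_cases hF hr hr2 hrG
      simp only [Finset.mem_insert, Finset.mem_singleton] at hmem h ⊢
      omega
    refine Or.inr (Or.inr ⟨hr2, hs2, ?_⟩)
    have ha := Cfsg.Lib.F4Graph.order_cases hF hr hr2 hrG
    have hb := Cfsg.Lib.F4Graph.order_cases hF hs hs2 hsG
    set a := orderOf ((Fintype.card F : ℕ) : ZMod r) with hadef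
    set b := orderOf ((Fintype.card F : ℕ) : ZMod s) with hbdef
    simp only [Finset.mem_insert, Finset.mem_singleton] at ha hb ⊢
    by_cases h1 : (a = 1 ∨ a = 2) ∧ (b = 1 ∨ b = 2 ∨ b = 3 ∨ b = 4 ∨ b = 6)
    · refine absurd (Cfsg.Lib.F4Graph.edge_sl2 hF hn hr hs hrs hs2 (Or.inr ?_) ?_) hno <;>
        simp only [Finset.mem_insert, Finset.mem_singleton, ← hadef, ← hbdef] <;> omega
    by_cases h2 : (b = 1 ∨ b = 2) ∧ (a = 1 ∨ a = 2 ∨ a = 3 ∨ a = 4 ∨ a = 6)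
    · refine absurd (symm _ _ (Cfsg.Lib.F4Graph.edge_sl2 hF hn hs hr hrs.symm hr2 (Or.inr ?_) ?_)) hno <;>
        simp only [Finset.mem_insert, Finset.mem_singleton, ← hadef, ← hbdef] <;> omega
    by_cases h3 : a = b ∧ (a = 3 ∨ a = 4 ∨ a = 6)
    · exact absurd (Cfsg.Lib.F4Graph.edge_eq hF hn hr hs hrs hadef.symm (h3.1 ▸ hbdef.symm) h3.2) hno
    by_cases h4 : a = b ∧ (a = 8 ∨ a = 12)
    · haveI := Fact.mk hr
      haveI := Fact.mk hs
      obtain ⟨z, hz⟩ := exists_prime_orderOf_dvd_card' r hrG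
      obtain ⟨N, hN, -, -, hc, hcard⟩ :=
        Cfsg.Lib.F4Graph.centralizer_big hn hF h4.2 hr hadef.symm hz
      refine absurd (Cfsg.Lib.F4Graph.exists_of_cyclic hc ?_) hno
      rw [hcard]
      exact ((Nat.coprime_primes hr hs).2 hrs).mul_dvd_of_dvd_of_dvd
        (Cfsg.Lib.F4Graph.dvd_cyc hadef.symm (by omega) hN)
        (Cfsg.Lib.F4Graph.dvd_cyc (h4.1 ▸ hbdef.symm) (by omega) hN)
    clear hrG hsG hno symm
    clear_value a b
    clear hadef hbdef hF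
    rcases ha with rfl | rfl | rfl | rfl | rfl | rfl | rfl <;>
      rcases hb with rfl | rfl | rfl | rfl | rfl | rfl | rfl <;> simp at h1 h2 h3 h4 ⊢
  · rintro (⟨hr2, h⟩ | ⟨hs2, h⟩ | ⟨-, -, h⟩)
    · exact Cfsg.Lib.F4Graph.no_edge_big hn hF hr hs hrs h (Or.inl hr2)
    · exact fun hx => Cfsg.Lib.F4Graph.no_edge_big hn hF hs hr hrs.symm h (Or.inl hs2) (symm _ _ hx)
    rcases h with ⟨hlt, h⟩ | ⟨hlt, h⟩
    · rcases h with h | ⟨h6, h⟩ | ⟨h4, h3⟩
      · exact Cfsg.Lib.F4Graph.no_edge_big hn hF hr hs hrs h (Or.inr hlt.ne)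
      · refine Cfsg.Lib.F4Graph.no_edge_small hn hF hr hs rfl h6 ?_
        simp only [Finset.mem_insert, Finset.mem_singleton] at h
        omega
      · exact Cfsg.Lib.F4Graph.no_edge_small hn hF hr hs h3 h4 (Or.inl ⟨rfl, rfl⟩)
    · intro hx
      rcases h with h | ⟨h6, h⟩ | ⟨h4, h3⟩
      · exact Cfsg.Lib.F4Graph.no_edge_big hn hF hs hr hrs.symm h (Or.inr hlt.ne) (symm _ _ hx)
      · refine Cfsg.Lib.F4Graph.no_edge_small hn hF hs hr rfl h6 ?_ (symm _ _ hx)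
        simp only [Finset.mem_insert, Finset.mem_singleton] at h
        omega
      · exact Cfsg.Lib.F4Graph.no_edge_small hn hF hs hr h3 h4 (Or.inl ⟨rfl, rfl⟩) (symm _ _ hx)

end Cfsg.Agent.S2525
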