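import Cfsg.Statements.S2531

set_option autoImplicit false
open Cfsg

namespace Cfsg.Agent.S2531

theorem points_cast {F : Type*} [Field F] [Finite F] {V : Type*} [AddCommGroup V] [Module F V] [Finite V]
    (W : Submodule F V) (hW : W ≠ ⊥) :
    (Nat.card {x : Projectivization F V // x.rep ∈ W} : ZMod (Nat.card F)) = 1 := by
  have hinj : Function.Injective W.subtype := W.injective_subtype
  let φ : Projectivization F W → {x : Projectivization F V // x.rep ∈ W} := fun y =>
    ⟨Projectivization.map W.subtype hinj y, by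
      induction y using Projectivization.ind with
      | h v hv =>
        rw [Projectivization.map_mk]
        obtain ⟨c, hc⟩ := Projectivization.exists_smul_eq_mk_rep F (W.subtype v)
          (by simpa using hv)
        rw [← hc]
        exact W.smul_mem _ v.2⟩
  have hb : Function.Bijective φ := by
    constructor
    · intro y z e
      exact Projectivization.map_injective W.subtype hinj (congrArg Subtype.val e)
    · rintro ⟨x, hx⟩
      refine ⟨Projectivization.mk F ⟨x.rep, hx⟩ (fun e => x.rep_nonzero (congrArg Subtype.val e)), ?_⟩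
      apply Subtype.ext
      simp only [φ]
      exact (Projectivization.map_mk _ hinj _ _).trans x.mk_rep
  rw [← Nat.card_eq_of_bijective φ hb]
  have h := Projectivization.card' (k := F) (V := W)
  have hpos : 0 < Module.finrank F W := by
    have : Nontrivial W := Submodule.nontrivial_iff_ne_bot.2 hW
    exact Module.finrank_pos
  rw [Module.natCard_eq_pow_finrank (K := F) (V := W)] at h
  have hq : 0 < Nat.card F := Nat.card_pos
  have h' := congrArg (fun m : ℕ => (m : ZMod (Nat.card F))) h
  push_cast [Nat.cast_sub hq] at h'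
  rw [ZMod.natCast_self, zero_pow hpos.ne'] at h'
  linear_combination h'


/-- Let `F` be a finite field and `n ≥ 3`. No set of permutations of the points of the projective space of `Fⁿ`, each induced by an invertible semilinear transformation of `Fⁿ` (so a subset of the full projective semilinear group), is sharply 2-transitive on the points: it is impossible that for all pairs of distinct points `(a, b)` and `(c, d)` exactly one member of the set sends `a` to `c` and `b` to `d`. -/
theorem result {F : Type*} [Field F] [Finite F]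
    (n : ℕ) (hn : 3 ≤ n) (S : Set (Equiv.Perm (Projectivization F (Fin n → F))))
    (hS : ∀ s ∈ S, ∃ (σ : F ≃+* F) (f : (Fin n → F) →ₛₗ[(σ : F →+* F)] (Fin n → F)) (hf : Function.Injective f),
      ∀ x, s x = Projectivization.map f hf x) :
    ¬ (∀ a b c d : Projectivization F (Fin n → F), a ≠ b → c ≠ d →
        ∃! s, s ∈ S ∧ s a = c ∧ s b = d) := by
  classical
  intro h
  haveI : Fintype F := Fintype.ofFinite F
  haveI : NeZero (Nat.card F) := ⟨(Nat.card_pos : 0 < Nat.card F).ne'⟩
  haveI : Fact (1 < Nat.card F) := ⟨Finite.one_lt_card⟩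
  haveI : NeZero n := ⟨by omega⟩
  set i0 : Fin n := ⟨0, by omega⟩ with hi0
  let H : Submodule F (Fin n → F) := LinearMap.ker (LinearMap.proj i0)
  have ha0 : (Pi.single i0 1 : Fin n → F) ≠ 0 := by
    intro e; simpa using congrFun e i0
  let a : Projectivization F (Fin n → F) := Projectivization.mk F _ ha0
  have haH : a.rep ∉ H := by
    obtain ⟨c, hc⟩ := Projectivization.exists_smul_eq_mk_rep F _ ha0
    simp only [H, LinearMap.mem_ker, LinearMap.proj_apply]
    show (Projectivization.mk F _ ha0).rep i0 ≠ 0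
    rw [← hc]
    simp [Units.smul_def]
  have hHne : H ≠ ⊥ := by
    rw [Submodule.ne_bot_iff]
    refine ⟨Pi.single ⟨1, by omega⟩ 1, ?_, ?_⟩
    · simp [H, hi0, Fin.ext_iff]
    · intro e; simpa using congrFun e ⟨1, by omega⟩
  -- intersections
  have hint : ∀ s ∈ S, (Nat.card {b : Projectivization F (Fin n → F) // b.rep ∈ H ∧ (s b).rep ∈ H} :
      ZMod (Nat.card F)) = 1 := by
    intro s hs
    obtain ⟨σ, f, hf, hsf⟩ := hS s hs
    haveI : RingHomInvPair (σ : F →+* F) (σ.symm : F →+* F) := RingHomInvPair.of_ringEquiv σ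
    haveI : RingHomInvPair (σ.symm : F →+* F) (σ : F →+* F) := RingHomInvPair.of_ringEquiv σ.symm
    let W : Submodule F (Fin n → F) := H ⊓ H.comap f
    have e : ∀ b : Projectivization F (Fin n → F), (b.rep ∈ H ∧ (s b).rep ∈ H) ↔ b.rep ∈ W := by
      intro b
      have hne : f b.rep ≠ 0 := fun z => b.rep_nonzero (hf (z.trans (map_zero f).symm))
      have e1 : s b = Projectivization.mk F (f b.rep) hne := by
        rw [hsf]
        conv_lhs => rw [← b.mk_rep]
        rw [Projectivization.map_mk]
      obtain ⟨c, hc⟩ := Projectivization.exists_smul_eq_mk_rep F _ hne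
      rw [e1, ← hc, Units.smul_def, Submodule.smul_mem_iff H c.ne_zero]
      simp [W]
    rw [Nat.card_congr (Equiv.subtypeEquivRight e)]
    refine points_cast W ?_
    intro hbot
    let g : (Fin n → F) → F × F := fun v => (v i0, f v i0)
    have ginj : Function.Injective g := by
      intro v w hvw
      simp only [g, Prod.mk.injEq] at hvw
      have : v - w ∈ W := by
        simp [W, H, hvw.1, hvw.2]
      rw [hbot, Submodule.mem_bot, sub_eq_zero] at this
      exact this
    have := Nat.card_le_card_of_injective g ginj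
    rw [Nat.card_prod, Nat.card_fun, Nat.card_fin] at this
    have h2 : Nat.card F * Nat.card F < Nat.card F ^ n :=
      calc Nat.card F * Nat.card F = Nat.card F ^ 2 := by ring
        _ < Nat.card F ^ n := Nat.pow_lt_pow_right Finite.one_lt_card (by omega)
    omega
  -- the stabilizer set of `a`
  let T := {s : Equiv.Perm (Projectivization F (Fin n → F)) // s ∈ S ∧ s a = a}
  have hne : ∀ b : {b : Projectivization F (Fin n → F) // b.rep ∈ H}, a ≠ b.1 := fun b e => haH (e ▸ b.2)
  let ψ : (Σ t : T, {b : Projectivization F (Fin n → F) // b.rep ∈ H ∧ (t.1 b).rep ∈ H}) →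
      {b : Projectivization F (Fin n → F) // b.rep ∈ H} × {b : Projectivization F (Fin n → F) // b.rep ∈ H} :=
    fun z => (⟨z.2.1, z.2.2.1⟩, ⟨z.1.1 z.2.1, z.2.2.2⟩)
  have hψ : Function.Bijective ψ := by
    constructor
    · rintro ⟨⟨s, hs, hsa⟩, b, hb⟩ ⟨⟨t, ht, hta⟩, d, hd⟩ e
      simp only [ψ, Prod.mk.injEq, Subtype.mk.injEq] at e
      obtain ⟨e1, e2⟩ := e
      subst e1
      have hab := hne ⟨b, hb.1⟩
      obtain ⟨u, -, hu⟩ := h a b a (s b) hab (fun q => hab (s.injective (hsa.trans q)))
      have e3 : s = t := (hu s ⟨hs, hsa, rfl⟩).trans (hu t ⟨ht, hta, e2.symm⟩).symm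
      subst e3
      rfl
    · rintro ⟨b, d⟩
      obtain ⟨s, ⟨hs, hsa, hsb⟩, -⟩ := h a b.1 a d.1 (hne b) (hne d)
      refine ⟨⟨⟨s, hs, hsa⟩, b.1, b.2, hsb.symm ▸ d.2⟩, ?_⟩
      simp [ψ, hsb]
  have hne' : ∃ b : Projectivization F (Fin n → F), a ≠ b := by
    obtain ⟨v, hv, hv0⟩ := (Submodule.ne_bot_iff _).1 hHne
    refine ⟨Projectivization.mk F v hv0, hne ⟨_, ?_⟩⟩
    obtain ⟨c, hc⟩ := Projectivization.exists_smul_eq_mk_rep F v hv0
    show (Projectivization.mk F v hv0).rep ∈ H
    rw [← hc]
    exact H.smul_mem _ hv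
  obtain ⟨b0, hb0⟩ := hne'
  let τ : T → {d : Projectivization F (Fin n → F) // d ≠ a} := fun t =>
    ⟨t.1 b0, fun q => hb0 (t.1.injective (t.2.2.trans q.symm))⟩
  have hτ : Function.Bijective τ := by
    constructor
    · rintro ⟨s, hs, hsa⟩ ⟨t, ht, hta⟩ e
      simp only [τ, Subtype.mk.injEq] at e
      obtain ⟨u, -, hu⟩ := h a b0 a (s b0) hb0 (fun q => hb0 (s.injective (hsa.trans q)))
      exact Subtype.ext ((hu s ⟨hs, hsa, rfl⟩).trans (hu t ⟨ht, hta, e.symm⟩).symm)
    · rintro ⟨d, hd⟩
      obtain ⟨s, ⟨hs, hsa, hsb⟩, -⟩ := h a b0 a d hb0 (Ne.symm hd)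
      exact ⟨⟨s, hs, hsa⟩, Subtype.ext hsb⟩
  have htop : (Nat.card (Projectivization F (Fin n → F)) : ZMod (Nat.card F)) = 1 := by
    have h1 := points_cast (⊤ : Submodule F (Fin n → F)) (fun e => ha0 (by
      have : (Pi.single i0 1 : Fin n → F) ∈ (⊤ : Submodule F (Fin n → F)) := trivial
      rw [e, Submodule.mem_bot] at this
      exact this))
    rwa [Nat.card_congr (Equiv.subtypeUnivEquiv (fun x => Submodule.mem_top))] at h1
  have hT : (Nat.card T : ZMod (Nat.card F)) = 0 := by
    rw [Nat.card_eq_of_bijective τ hτ]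
    have e : Nat.card {d : Projectivization F (Fin n → F) // d ≠ a} + 1 =
        Nat.card (Projectivization F (Fin n → F)) := by
      rw [← Finite.card_option]
      exact Nat.card_congr (Equiv.optionSubtypeNe a)
    have e' := congrArg (fun m : ℕ => (m : ZMod (Nat.card F))) e
    push_cast [htop] at e'
    linear_combination e'
  have hsum := Nat.card_eq_of_bijective ψ hψ
  haveI : Fintype T := Fintype.ofFinite T
  rw [Nat.card_sigma, Nat.card_prod] at hsum
  have hsum' := congrArg (fun m : ℕ => (m : ZMod (Nat.card F))) hsum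
  push_cast [points_cast H hHne] at hsum'
  rw [Finset.sum_congr rfl (fun t _ => hint t.1 t.2.1)] at hsum'
  simp only [Finset.sum_const, Finset.card_univ, nsmul_eq_mul, mul_one] at hsum'
  rw [← Nat.card_eq_fintype_card, hT] at hsum'
  exact zero_ne_one hsum'

end Cfsg.Agent.S2531
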