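import Cfsg.Agent.Known.CentralAlt
import Cfsg.Statements.S2532
import Mathlib

set_option autoImplicit false
open Cfsg

namespace Cfsg.Agent.S2532

/-- There is a function `f` of two natural-number arguments such that, whenever `m ≥ f(n, r)`, every subgroup of order `n` of the alternating group of degree `m` centralizes some subgroup of that alternating group isomorphic to the alternating group of degree `r`. -/
theorem result :
    ∃ f : ℕ → ℕ → ℕ, ∀ (m r : ℕ) (H : Subgroup ↥(alternatingGroup (Fin m))), f (Nat.card H) r ≤ m →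
      ∃ K : Subgroup ↥(alternatingGroup (Fin m)), Nonempty (↥K ≃* ↥(alternatingGroup (Fin r))) ∧
        K ≤ Subgroup.centralizer (H : Set ↥(alternatingGroup (Fin m))) :=
  by
  refine ⟨fun n r => 2 ^ n * (n * r) + 1, fun m r H hm => ?_⟩
  obtain ⟨x, hx1, hx2⟩ := Cfsg.Lib.Known.exists_same_stabilizer (α := Fin m) H r
    (by rw [Fintype.card_fin]; exact hm)
  obtain ⟨f, hf, hcomm⟩ := Cfsg.Lib.Known.exists_commuting_alternating H r x hx1 hx2
  refine ⟨f.range, ⟨(MonoidHom.ofInjective hf).symm⟩, ?_⟩
  rintro _ ⟨σ, rfl⟩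
  rw [Subgroup.mem_centralizer_iff]
  intro h hh
  apply Subtype.ext
  ext a : 1
  exact (hcomm σ ⟨h, hh⟩ a).symm

end Cfsg.Agent.S2532
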