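import Cfsg.Statements.S2533
import Cfsg.Agent.Known.BrickEmbedding

set_option autoImplicit false
open Cfsg

namespace Cfsg.Agent.S2533

/-- For every odd prime `p` there is a finite group `H` of order `2p³` which, for infinitely many `n`, embeds in the projective special linear group `PSL(n, p)` as a subgroup with trivial centralizer. -/
theorem result
    (p : ℕ) [Fact p.Prime] (hp : p ≠ 2) :
    ∃ (H : Type) (_ : Group H) (_ : Finite H), Nat.card H = 2 * p ^ 3 ∧
      ∀ N : ℕ, ∃ n, N ≤ n ∧ ∃ φ : H →* Matrix.ProjectiveSpecialLinearGroup (Fin n) (ZMod p),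
        Function.Injective φ ∧ Subgroup.centralizer (φ.range : Set (Matrix.ProjectiveSpecialLinearGroup (Fin n) (ZMod p))) = ⊥ := by
  open Cfsg.Lib.BrickEmb in
  classical
  haveI : Finite (H p) := Finite.of_equiv _ SemidirectProduct.equivProd.symm
  refine ⟨H p, inferInstance, inferInstance, ?_, fun N => ?_⟩
  · rw [SemidirectProduct.card, Nat.card_eq_fintype_card (α := ℤˣ), Fintype.card_units_int,
      Nat.card_congr Multiplicative.toAdd, Nat.card_fun, Nat.card_zmod, Nat.card_fin]
    ring
  have hr : Even (2 * (N + 1)) := even_two_mul _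
  set r := 2 * (N + 1) with hrdef
  let n := r + r
  let E : Matrix.SpecialLinearGroup (Fin r ⊕ Fin r) (ZMod p) ≃* Matrix.SpecialLinearGroup (Fin n) (ZMod p) :=
    reSL finSumFinEquiv (ZMod p)
  let π := QuotientGroup.mk' (Subgroup.center (Matrix.SpecialLinearGroup (Fin n) (ZMod p)))
  have hsymm : ∀ z ∈ Subgroup.center (Matrix.SpecialLinearGroup (Fin n) (ZMod p)),
      E.symm z ∈ Subgroup.center (Matrix.SpecialLinearGroup (Fin r ⊕ Fin r) (ZMod p)) := fun z hz =>
    Subgroup.mem_center_iff.2 fun y => by
      apply E.injective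
      rw [map_mul, map_mul, MulEquiv.apply_symm_apply]
      exact Subgroup.mem_center_iff.1 hz _
  refine ⟨n, by omega, π.comp (E.toMonoidHom.comp (rep hr)), ?_, ?_⟩
  · rw [injective_iff_map_eq_one]
    intro h hh
    have hc : E (rep hr h) ∈ Subgroup.center (Matrix.SpecialLinearGroup (Fin n) (ZMod p)) :=
      (QuotientGroup.eq_one_iff _).1 hh
    have hc2 := hsymm _ hc
    rw [MulEquiv.symm_apply_apply, Matrix.SpecialLinearGroup.mem_center_iff] at hc2
    obtain ⟨a, -, ha⟩ := hc2
    exact rep_scalar hp hr (by omega) h a ha.symm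
  · rw [Subgroup.eq_bot_iff_forall]
    intro x hx
    obtain ⟨g, rfl⟩ := QuotientGroup.mk'_surjective _ x
    refine (QuotientGroup.eq_one_iff g).2 ?_
    have hc : E.symm g ∈ Subgroup.center (Matrix.SpecialLinearGroup (Fin r ⊕ Fin r) (ZMod p)) := by
      refine central_of_commute hp hr (by omega) _ fun h => ?_
      have hcomm := Subgroup.mem_centralizer_iff.1 hx (π (E (rep hr h))) ⟨h, rfl⟩
      have hz : (E (rep hr h) * g)⁻¹ * (g * E (rep hr h)) ∈
          Subgroup.center (Matrix.SpecialLinearGroup (Fin n) (ZMod p)) := by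
        rw [← QuotientGroup.eq_one_iff]
        show π _ = 1
        rw [map_mul, map_inv, map_mul, map_mul]
        change (π (E (rep hr h)) * π g)⁻¹ * (π g * π (E (rep hr h))) = 1
        rw [hcomm, inv_mul_cancel]
      have hz' := hsymm _ hz
      obtain ⟨c, -, hc⟩ := Matrix.SpecialLinearGroup.mem_center_iff.1 hz'
      refine ⟨c, ?_⟩
      have e : E.symm g * rep hr h = rep hr h * E.symm g * E.symm ((E (rep hr h) * g)⁻¹ * (g * E (rep hr h))) := by
        apply E.injective
        simp [map_mul, mul_assoc]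
      have e' := congrArg (fun y : Matrix.SpecialLinearGroup (Fin r ⊕ Fin r) (ZMod p) =>
        (y : Matrix (Fin r ⊕ Fin r) (Fin r ⊕ Fin r) (ZMod p))) e
      simp only [Matrix.SpecialLinearGroup.coe_mul] at e'
      rw [← hc] at e'
      rw [e', Matrix.scalar_apply, ← Matrix.smul_one_eq_diagonal, Matrix.mul_smul, Matrix.mul_one]
    refine Subgroup.mem_center_iff.2 fun y => ?_
    apply E.symm.injective
    rw [map_mul, map_mul]
    exact Subgroup.mem_center_iff.1 hc _

end Cfsg.Agent.S2533
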