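import Cfsg.Statements.S2536
import Cfsg.Agent.SymHall.Main

set_option autoImplicit false
open Cfsg

namespace Cfsg.Agent.S2536

/-- Let `π` be a set of primes and `n` a natural number such that at least two primes of `π` divide `n!` but not every prime dividing `n!` lies in `π`. Then the symmetric group of degree `n` has a Hall `π`-subgroup if and only if either `n` is prime and the primes of `π` dividing `n!` are exactly the primes smaller than `n` (a point stabilizer is then such a subgroup), or `n ∈ {7, 8}` and the primes of `π` dividing `n!` are exactly 2 and 3. -/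
theorem result (n : ℕ) (π : Set ℕ)
    (h2 : ∃ r s : ℕ, r.Prime ∧ s.Prime ∧ r ≠ s ∧ r ∈ π ∧ s ∈ π ∧ r ≤ n ∧ s ≤ n)
    (hns : ∃ r : ℕ, r.Prime ∧ r ≤ n ∧ r ∉ π) :
    Cfsg.IsEPiGroup π (Equiv.Perm (Fin n)) ↔
      ((n.Prime ∧ ∀ r : ℕ, r.Prime → r ≤ n → (r ∈ π ↔ r < n)) ∨
       ((n = 7 ∨ n = 8) ∧ ∀ r : ℕ, r.Prime → r ≤ n → (r ∈ π ↔ (r = 2 ∨ r = 3)))) := by
  have hT : ¬ Cfsg.Lib.SymHall.TrivPrimes π n := by
    obtain ⟨r, s, hr, hs, hne, hrπ, hsπ, hrn, hsn⟩ := h2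
    obtain ⟨t, ht, htn, htπ⟩ := hns
    rintro (h | h)
    · exact hne (h r s hr hs hrπ hsπ hrn hsn)
    · exact htπ (h t ht htn)
  constructor
  · rintro ⟨H, hH⟩
    obtain ⟨B, -, -, h | ⟨h, -, hpi⟩⟩ := Cfsg.Lib.SymHall.perm_shape hT hH
    · exact Or.inl ⟨h.1, h.2.2⟩
    · exact Or.inr ⟨h, hpi⟩
  · intro h
    have hn := Cfsg.Lib.SymHall.three_le_of_not_triv hT
    rcases h with ⟨hp, hpi⟩ | ⟨h, hpi⟩
    · exact Cfsg.Lib.SymHall.exists_hall_of_outcome (b := n - 1) ⟨hn, Or.inl ⟨hp, by omega, hpi⟩⟩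
    · exact Cfsg.Lib.SymHall.exists_hall_of_outcome ⟨hn, Or.inr ⟨h, rfl, hpi⟩⟩

end Cfsg.Agent.S2536
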