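import Cfsg.Statements.S2540
import Cfsg.Agent.Classical.SL
import Cfsg.Agent.Known.Laws

set_option autoImplicit false
open Cfsg
open scoped commutatorElement

namespace Cfsg.Agent.S2540

/-- Let F be a finite field and n ≥ 1, excluding the case n = 2 with #F ≤ 3. A subgroup of GL_n(F) that is normalized by every element of SL_n(F) either consists of scalar matrices or contains SL_n(F). -/
theorem result {F : Type*} [Field F] [Fintype F] (n : ℕ) (hn : 1 ≤ n) (hex : ¬ (n = 2 ∧ Fintype.card F ≤ 3)) (G : Subgroup (Matrix.GeneralLinearGroup (Fin n) F)) (hG : ∀ s : Matrix.SpecialLinearGroup (Fin n) F, ∀ g ∈ G, (Matrix.SpecialLinearGroup.toGL s) * g * (Matrix.SpecialLinearGroup.toGL s)⁻¹ ∈ G) : (∀ g ∈ G, ∃ c : F, (g : Matrix (Fin n) (Fin n) F) = c • (1 : Matrix (Fin n) (Fin n) F)) ∨ (Matrix.SpecialLinearGroup.toGL : Matrix.SpecialLinearGroup (Fin n) F →* _).range ≤ G := by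
  classical
  have hscal : ∀ g : Matrix.GeneralLinearGroup (Fin n) F, (∀ s : (Matrix.SpecialLinearGroup (Fin n) F), Matrix.SpecialLinearGroup.toGL s * g = g * Matrix.SpecialLinearGroup.toGL s) →
      ∃ c : F, (g : Matrix (Fin n) (Fin n) F) = c • (1 : Matrix (Fin n) (Fin n) F) := by
    intro g hg
    obtain ⟨c, hc⟩ := Matrix.mem_range_scalar_of_commute_transvectionStruct (M := (g : Matrix (Fin n) (Fin n) F)) fun t => by
      have := congrArg Units.val (hg (Matrix.SpecialLinearGroup.transvection t.hij t.c))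
      exact this
    exact ⟨c, by rw [← hc, Matrix.scalar_apply, Matrix.smul_one_eq_diagonal]⟩
  rcases eq_or_lt_of_le hn with rfl | hn2
  · refine Or.inl fun g _ => hscal g fun s => ?_
    have : s = 1 := Subtype.ext (by
      ext i j
      have hd := s.2
      rw [Matrix.det_fin_one] at hd
      rw [Subsingleton.elim i 0, Subsingleton.elim j 0, hd]
      simp)
    rw [this, map_one, one_mul, mul_one]
  have hperf : commutator (Matrix.SpecialLinearGroup (Fin n) F) = ⊤ := by
    rcases eq_or_lt_of_le (show 2 ≤ n from hn2) with rfl | h3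
    · exact Cfsg.Lib.Known.sl2_commutator_eq_top F (by by_contra h; exact hex ⟨rfl, by omega⟩)
    · exact Cfsg.Lib.Classical.SL_commutator_eq_top (by rw [Fintype.card_fin]; omega)
  haveI := Cfsg.Lib.Classical.isSimpleGroup_PSL_fin (F := F) hn2 (fun h2 => by
    rw [Nat.card_eq_fintype_card]; by_contra h; exact hex ⟨h2, by omega⟩)
  let N : Subgroup (Matrix.SpecialLinearGroup (Fin n) F) := G.comap Matrix.SpecialLinearGroup.toGL
  haveI hN : N.Normal := ⟨fun x hx s => by
    show Matrix.SpecialLinearGroup.toGL (s * x * s⁻¹) ∈ G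
    rw [map_mul, map_mul, map_inv]
    exact hG s _ hx⟩
  rcases (hN.map (QuotientGroup.mk' (Subgroup.center (Matrix.SpecialLinearGroup (Fin n) F))) (QuotientGroup.mk'_surjective _)).eq_bot_or_eq_top with h | h
  · left
    have hNZ : ∀ x ∈ N, x ∈ Subgroup.center (Matrix.SpecialLinearGroup (Fin n) F) := fun x hx =>
      (QuotientGroup.eq_one_iff x).1 (Subgroup.mem_bot.1 (h ▸ Subgroup.mem_map_of_mem _ hx))
    intro g hg
    refine hscal g fun s => ?_
    have hmem : ∀ s : (Matrix.SpecialLinearGroup (Fin n) F), Matrix.SpecialLinearGroup.toGL s * g * (Matrix.SpecialLinearGroup.toGL s)⁻¹ * g⁻¹ ∈ G := fun s =>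
      G.mul_mem (hG s g hg) (G.inv_mem hg)
    have hex' : ∀ s : (Matrix.SpecialLinearGroup (Fin n) F), ∃ z : (Matrix.SpecialLinearGroup (Fin n) F), z ∈ Subgroup.center (Matrix.SpecialLinearGroup (Fin n) F) ∧ Matrix.SpecialLinearGroup.toGL z =
        Matrix.SpecialLinearGroup.toGL s * g * (Matrix.SpecialLinearGroup.toGL s)⁻¹ * g⁻¹ := by
      intro s
      have hd : ((Matrix.SpecialLinearGroup.toGL s * g * (Matrix.SpecialLinearGroup.toGL s)⁻¹ * g⁻¹ :
          Matrix.GeneralLinearGroup (Fin n) F) : Matrix (Fin n) (Fin n) F).det = 1 := by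
        have e : Matrix.GeneralLinearGroup.det (Matrix.SpecialLinearGroup.toGL s * g *
            (Matrix.SpecialLinearGroup.toGL s)⁻¹ * g⁻¹) = 1 := by
          rw [map_mul, map_mul, map_mul, map_inv, map_inv, mul_right_comm _ _ (_)⁻¹, mul_inv_cancel_right, mul_inv_cancel]
        exact congrArg Units.val e
      obtain ⟨z, hz⟩ : ∃ z : (Matrix.SpecialLinearGroup (Fin n) F), Matrix.SpecialLinearGroup.toGL z =
          Matrix.SpecialLinearGroup.toGL s * g * (Matrix.SpecialLinearGroup.toGL s)⁻¹ * g⁻¹ := ⟨⟨_, hd⟩, Units.ext rfl⟩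
      exact ⟨z, hNZ z (show Matrix.SpecialLinearGroup.toGL z ∈ G from hz ▸ hmem s), hz⟩
    choose z hzc hz using hex'
    let φ : (Matrix.SpecialLinearGroup (Fin n) F) →* (Matrix.SpecialLinearGroup (Fin n) F) := MonoidHom.mk' z fun a b => by
      apply Matrix.SpecialLinearGroup.toGL_injective
      have hcomm := congrArg Matrix.SpecialLinearGroup.toGL (Subgroup.mem_center_iff.1 (hzc b) a)
      rw [map_mul, map_mul, hz] at hcomm
      rw [map_mul, hz, hz, hz, map_mul]
      set A := Matrix.SpecialLinearGroup.toGL a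
      set B := Matrix.SpecialLinearGroup.toGL b
      set D := B * g * B⁻¹ * g⁻¹ with hD
      have hz2 : Matrix.SpecialLinearGroup.toGL (z a) * Matrix.SpecialLinearGroup.toGL (z b) =
          Matrix.SpecialLinearGroup.toGL (z b) * Matrix.SpecialLinearGroup.toGL (z a) := by
        rw [← map_mul, ← map_mul, Subgroup.mem_center_iff.1 (hzc b) (z a)]
      rw [hz, hz, ← hD] at hz2
      calc A * B * g * (A * B)⁻¹ * g⁻¹ = A * D * (g * A⁻¹ * g⁻¹) := by rw [hD]; group
        _ = D * A * (g * A⁻¹ * g⁻¹) := by rw [hcomm]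
        _ = D * (A * g * A⁻¹ * g⁻¹) := by group
        _ = A * g * A⁻¹ * g⁻¹ * D := by rw [hz2]
    have hφ : commutator (Matrix.SpecialLinearGroup (Fin n) F) ≤ φ.ker := by
      rw [commutator_def, Subgroup.commutator_le]
      intro a _ b _
      rw [MonoidHom.mem_ker, map_commutatorElement, commutatorElement_eq_one_iff_mul_comm]
      exact (Subgroup.mem_center_iff.1 (hzc a) (z b)).symm
    have h1 : z s = 1 := MonoidHom.mem_ker.1 (hφ (hperf ▸ Subgroup.mem_top s))
    have := hz s
    rw [h1, map_one] at this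
    rw [eq_comm, mul_inv_eq_one, mul_inv_eq_iff_eq_mul] at this
    exact this
  · right
    have htop : N ⊔ Subgroup.center (Matrix.SpecialLinearGroup (Fin n) F) = ⊤ := by
      rw [← QuotientGroup.ker_mk' (Subgroup.center (Matrix.SpecialLinearGroup (Fin n) F)), ← Subgroup.comap_map_eq, h, Subgroup.comap_top]
    have hle : commutator (Matrix.SpecialLinearGroup (Fin n) F) ≤ N := by
      rw [commutator_def, Subgroup.commutator_le]
      intro a _ b _
      obtain ⟨x, hx, u, hu, rfl⟩ := Subgroup.mem_sup_of_normal_right.1 (htop ▸ Subgroup.mem_top a)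
      obtain ⟨y, hy, v, hv, rfl⟩ := Subgroup.mem_sup_of_normal_right.1 (htop ▸ Subgroup.mem_top b)
      have hu' := Subgroup.mem_center_iff.1 hu
      have hv' := Subgroup.mem_center_iff.1 hv
      have e : ⁅x * u, y * v⁆ = ⁅x, y⁆ := by
        simp only [commutatorElement_def]
        calc x * u * (y * v) * (x * u)⁻¹ * (y * v)⁻¹ = x * (u * y) * v * u⁻¹ * x⁻¹ * v⁻¹ * y⁻¹ := by simp only [mul_inv_rev, mul_assoc, inv_mul_cancel_left, mul_inv_cancel_left]
          _ = x * y * u * (v * u⁻¹) * x⁻¹ * v⁻¹ * y⁻¹ := by rw [← hu' y]; simp only [mul_inv_rev, mul_assoc, inv_mul_cancel_left, mul_inv_cancel_left]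
          _ = x * y * u * (u⁻¹ * v) * x⁻¹ * v⁻¹ * y⁻¹ := by rw [hv' u⁻¹]
          _ = x * y * (v * x⁻¹) * v⁻¹ * y⁻¹ := by simp only [mul_inv_rev, mul_assoc, inv_mul_cancel_left, mul_inv_cancel_left]
          _ = x * y * (x⁻¹ * v) * v⁻¹ * y⁻¹ := by rw [hv' x⁻¹]
          _ = x * y * x⁻¹ * y⁻¹ := by simp only [mul_inv_rev, mul_assoc, inv_mul_cancel_left, mul_inv_cancel_left]
      rw [e, commutatorElement_def]
      exact N.mul_mem (N.mul_mem (N.mul_mem hx hy) (N.inv_mem hx)) (N.inv_mem hy)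
    rintro _ ⟨s, rfl⟩
    exact hle (hperf ▸ Subgroup.mem_top s)

end Cfsg.Agent.S2540
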