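import Cfsg.Statements.S2541
import Cfsg.Agent.Known.AltSpectrum
import Cfsg.Agent.Known.SLTwo.SL

set_option autoImplicit false
open Cfsg

namespace Cfsg.Agent.S2541

/-- Let F be a field with 9 elements. The symmetric group S_6 is not isomorphic to PGL_2(F) (although both have index-2 subgroups isomorphic to A_6). -/
theorem result {F : Type*} [Field F] [Fintype F] (hF : Fintype.card F = 9) : ¬ Nonempty (Equiv.Perm (Fin 6) ≃* Matrix.ProjGenLinGroup (Fin 2) F) := by
  classical
  rintro ⟨e⟩
  obtain ⟨ζ, hζ⟩ := IsCyclic.exists_generator (α := Fˣ)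
  have h8 : orderOf ζ = 8 := by
    rw [orderOf_eq_card_of_forall_mem_zpowers hζ, Nat.card_units, Nat.card_eq_fintype_card, hF]
  let g : GL (Fin 2) F := Matrix.GeneralLinearGroup.mkOfDetNeZero !![(ζ : F), 0; 0, 1] (by simp [Matrix.det_fin_two])
  have hpow : ∀ k : ℕ, ((g ^ k : GL (Fin 2) F) : Matrix (Fin 2) (Fin 2) F) = !![(ζ : F) ^ k, 0; 0, 1] := by
    intro k
    induction k with
    | zero => ext i j; fin_cases i <;> fin_cases j <;> simp
    | succ k ih =>
      rw [pow_succ, Units.val_mul, ih]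
      ext i j; fin_cases i <;> fin_cases j <;> simp [g, Matrix.mul_apply, Fin.sum_univ_two, pow_succ]
  have hiff : ∀ k : ℕ, Matrix.ProjGenLinGroup.mk g ^ k = 1 ↔ ζ ^ k = 1 := by
    intro k
    rw [← map_pow, Matrix.ProjGenLinGroup.mk_eq_one, Matrix.GeneralLinearGroup.center_eq_range_scalar, MonoidHom.mem_range]
    constructor
    · rintro ⟨u, hu⟩
      have hu' := congrArg (fun z : GL (Fin 2) F => (z : Matrix (Fin 2) (Fin 2) F)) hu
      rw [hpow] at hu'
      have e00 := congrFun (congrFun hu' 0) 0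
      have e11 := congrFun (congrFun hu' 1) 1
      simp at e00 e11
      exact Units.ext (by rw [Units.val_pow_eq_pow_val, ← e00, e11, Units.val_one])
    · intro h
      refine ⟨1, ?_⟩
      rw [map_one]
      refine Units.ext ?_
      rw [hpow, Units.val_one, ← Units.val_pow_eq_pow_val, h, Units.val_one]
      ext i j; fin_cases i <;> fin_cases j <;> simp
  have ho : orderOf (Matrix.ProjGenLinGroup.mk g) = 8 :=
    (orderOf_eq_orderOf_iff.2 hiff).trans h8
  obtain ⟨M, hs, ha, hl⟩ := (Cfsg.Lib.Known.AltSpec.mem_perm_iff 6 8).1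
    ⟨e.symm (Matrix.ProjGenLinGroup.mk g), by rw [MulEquiv.orderOf_eq, ho]⟩
  have : M.lcm ∣ 4 := Multiset.lcm_dvd.2 fun a hm => by
    have h1 : a ∣ 8 := hl ▸ Multiset.dvd_lcm hm
    have h2 := (Multiset.le_sum_of_mem hm).trans hs
    have h3 := ha a hm
    interval_cases a <;> simp_all
  rw [hl] at this
  omega

end Cfsg.Agent.S2541
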