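import Cfsg.Statements.S2543
import Cfsg.Agent.Classical.Misc.PSLEmbed
import Cfsg.Agent.Classical.Misc.PSLElevenIcosa

set_option autoImplicit false
open scoped Pointwise
open Cfsg

namespace Cfsg.Agent.S2543

/-- Let F be a field with 11 elements. PSL_2(F) has exactly 22 subgroups isomorphic to the alternating group A_5, and they form two conjugacy classes: there are two such subgroups that are not conjugate, and every such subgroup is conjugate to one of these two. -/
theorem result {F : Type*} [Field F] [Fintype F] (hF : Fintype.card F = 11) : Nat.card {H : Subgroup (Matrix.ProjectiveSpecialLinearGroup (Fin 2) F) // Nonempty (H ≃* alternatingGroup (Fin 5))} = 22 ∧ ∃ H K : Subgroup (Matrix.ProjectiveSpecialLinearGroup (Fin 2) F), Nonempty (H ≃* alternatingGroup (Fin 5)) ∧ Nonempty (K ≃* alternatingGroup (Fin 5)) ∧ (∀ g : Matrix.ProjectiveSpecialLinearGroup (Fin 2) F, MulAut.conj g • H ≠ K) ∧ ∀ L : Subgroup (Matrix.ProjectiveSpecialLinearGroup (Fin 2) F),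 Nonempty (L ≃* alternatingGroup (Fin 5)) → ∃ g : Matrix.ProjectiveSpecialLinearGroup (Fin 2) F, MulAut.conj g • L = H ∨ MulAut.conj g • L = K := by
  classical
  haveI : Fact (Nat.Prime 11) := ⟨by norm_num⟩
  let i : ZMod 11 ≃+* F := ZMod.ringEquivOfPrime F (by norm_num) hF
  let j : Matrix.ProjectiveSpecialLinearGroup (Fin 2) (ZMod 11) →* Matrix.ProjectiveSpecialLinearGroup (Fin 2) F :=
    Cfsg.Lib.Classical.PSLEmbed.pslMap i.toRingHom
  have hj : Function.Bijective j := by
    refine ⟨Cfsg.Lib.Classical.PSLEmbed.pslMap_injective i.toRingHom, fun x => ?_⟩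
    obtain ⟨s, rfl⟩ := QuotientGroup.mk'_surjective _ x
    refine ⟨QuotientGroup.mk' _ (Matrix.SpecialLinearGroup.map i.symm.toRingHom s), ?_⟩
    change QuotientGroup.mk' _ (Matrix.SpecialLinearGroup.map i.toRingHom _) = _
    congr 1
    exact Subtype.ext (Matrix.ext fun a b => i.apply_symm_apply _)
  let e := MulEquiv.ofBijective j hj
  let E : Subgroup (Matrix.ProjectiveSpecialLinearGroup (Fin 2) (ZMod 11)) ≃o
      Subgroup (Matrix.ProjectiveSpecialLinearGroup (Fin 2) F) := e.mapSubgroup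
  have hmap : ∀ H : Subgroup (Matrix.ProjectiveSpecialLinearGroup (Fin 2) (ZMod 11)), Nonempty (H ≃* alternatingGroup (Fin 5)) ↔ Nonempty (E H ≃* alternatingGroup (Fin 5)) := fun H =>
    ⟨fun h => ⟨(e.subgroupMap H).symm.trans h.some⟩, fun h => ⟨(e.subgroupMap H).trans h.some⟩⟩
  have hconj : ∀ (g : Matrix.ProjectiveSpecialLinearGroup (Fin 2) (ZMod 11)) (H : Subgroup (Matrix.ProjectiveSpecialLinearGroup (Fin 2) (ZMod 11))),
      E (MulAut.conj g • H) = MulAut.conj (e g) • E H := by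
    intro g H
    have hc : ∀ z, e (g * z * g⁻¹) = e g * e z * (e g)⁻¹ := fun z => by rw [map_mul, map_mul, map_inv]
    ext x
    constructor
    · rintro ⟨y, ⟨z, hz, rfl⟩, rfl⟩
      exact ⟨e z, ⟨z, hz, rfl⟩, (hc z).symm⟩
    · rintro ⟨y, ⟨z, hz, rfl⟩, rfl⟩
      exact ⟨g * z * g⁻¹, ⟨z, hz, rfl⟩, hc z⟩
  obtain ⟨hc, H, K, hH, hK, hne, hall⟩ := Cfsg.Lib.Classical.PSLElevenIcosa.eleven
  refine ⟨?_, E H, E K, (hmap H).1 hH, (hmap K).1 hK, fun g' hg' => ?_, fun L hL => ?_⟩
  · rw [← hc]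
    exact (Nat.card_congr (E.toEquiv.subtypeEquiv hmap)).symm
  · obtain ⟨g, rfl⟩ := e.surjective g'
    rw [← hconj] at hg'
    exact hne g (E.injective hg')
  · obtain ⟨L, rfl⟩ := E.surjective L
    obtain ⟨g, hg⟩ := hall L ((hmap L).2 hL)
    exact ⟨e g, by rw [← hconj]; exact hg.imp (congrArg E) (congrArg E)⟩

end Cfsg.Agent.S2543
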