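import Cfsg.Statements.S2579
import Cfsg.Agent.Classical.SLExtra

set_option autoImplicit false
open Cfsg Matrix

namespace Cfsg.Agent.S2579

variable {F : Type*} [Field F] {n : ℕ}

def tv (i j : Fin n) (h : i ≠ j) (c : F) : SpecialLinearGroup (Fin n) F :=
  ⟨Matrix.transvection i j c, det_transvection_of_ne _ _ h _⟩

theorem coe_tv (i j : Fin n) (h : i ≠ j) (c : F) : (tv i j h c : Matrix (Fin n) (Fin n) F) = Matrix.transvection i j c := rfl

theorem reduce (hn : 3 ≤ n) (i j : Fin n) (hij : i ≠ j) (v : Fin n → F) (hv : v ≠ 0) (hvi : v i = 0) :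
    ∃ h : SpecialLinearGroup (Fin n) F, Pi.single i (1 : F) ᵥ* (h : Matrix (Fin n) (Fin n) F) = Pi.single i 1 ∧
      (h : Matrix (Fin n) (Fin n) F) *ᵥ Pi.single j 1 = v := by
  obtain ⟨m, hmi, hmj⟩ := Cfsg.Lib.Classical.exists_third (by simpa using hn) i j
  have key : ∀ w : Fin n → F, w j ≠ 0 → w i = 0 →
      ∃ h : SpecialLinearGroup (Fin n) F, Pi.single i (1 : F) ᵥ* (h : Matrix (Fin n) (Fin n) F) = Pi.single i 1 ∧
      (h : Matrix (Fin n) (Fin n) F) *ᵥ Pi.single j 1 = w := by
    intro w hwj hwi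
    refine ⟨⟨(Matrix.updateCol (1 : Matrix (Fin n) (Fin n) F) j w) * Matrix.diagonal (Function.update 1 m (w j)⁻¹), ?_⟩, ?_, ?_⟩
    · rw [det_mul, det_diagonal, Finset.prod_update_of_mem (Finset.mem_univ _)]
      rw [show (Matrix.updateCol (1 : Matrix (Fin n) (Fin n) F) j w).det = w j by
        rw [← cramer_apply, cramer_one]; rfl]
      simp [hwj]
    · ext k
      simp only [single_one_vecMul, Matrix.row_apply, mul_diagonal, updateCol_apply, one_apply, Pi.single_apply]
      by_cases hkj : k = j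
      · subst hkj; simp [hwi, Ne.symm hij]
      · by_cases hkm : k = m
        · subst hkm; simp [hkj, hmi, Ne.symm hmi]
        · simp [hkj, hkm, eq_comm]
    · ext k
      simp only [mulVec_single_one, col_apply, mul_diagonal, updateCol_apply]
      simp [Ne.symm hmj]
  by_cases hvj : v j ≠ 0
  · exact key v hvj hvi
  · push Not at hvj
    obtain ⟨k, hk⟩ := Function.ne_iff.mp hv
    have hkj : k ≠ j := fun h => hk (by simp [h, hvj])
    have hki : k ≠ i := fun h => hk (by simp [h, hvi])
    obtain ⟨h, h1, h2⟩ := key (Matrix.transvection j k (1 : F) *ᵥ v)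
      (by simpa [transvection, add_mulVec, hvj, single_mulVec] using hk)
      (by simp [transvection, add_mulVec, hvi, single_mulVec, hij])
    refine ⟨tv j k (Ne.symm hkj) (-1 : F) * h, ?_, ?_⟩
    · erw [Cfsg.Lib.Classical.sl_coe_mul]
      rw [← vecMul_vecMul]
      rw [coe_tv]
      rw [show (Pi.single i (1 : F)) ᵥ* Matrix.transvection j k (-1 : F) = Pi.single i 1 by
        ext l; simp [transvection, vecMul_add, Pi.single_apply, hij, eq_comm]]
      exact h1
    · erw [Cfsg.Lib.Classical.sl_coe_mul]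
      rw [← mulVec_mulVec, h2, mulVec_mulVec]
      rw [coe_tv]
      rw [transvection_mul_transvection_same _ _ (Ne.symm hkj)]
      simp [transvection_zero]

theorem conj_to_standard (hn : 3 ≤ n) (i j : Fin n) (hij : i ≠ j) (t : SpecialLinearGroup (Fin n) F)
    (ht : Cfsg.IsTransvection (t : Matrix (Fin n) (Fin n) F)) :
    IsConj (tv j i hij.symm (1 : F)) t := by
  haveI : Nontrivial (Fin n) := ⟨i, j, hij⟩
  obtain ⟨g, v, hvi, hv, hg⟩ := Cfsg.Lib.Classical.exists_conj_transvection i t ht.1 ht.2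
  obtain ⟨h, h1, h2⟩ := reduce hn i j hij v hv hvi
  rw [isConj_iff]
  refine ⟨g * h, ?_⟩
  have : h * (tv j i hij.symm (1 : F)) = (g⁻¹ * t * g) * h := by
    apply Subtype.ext
    erw [Cfsg.Lib.Classical.sl_coe_mul, Cfsg.Lib.Classical.sl_coe_mul]
    rw [hg]
    rw [coe_tv, transvection]
    rw [single_eq_single_vecMulVec_single, mul_add, add_mul, mul_one, one_mul, mul_vecMulVec, h2, vecMulVec_mul, h1]
  calc g * h * _ * (g * h)⁻¹ = g * (h * (tv j i hij.symm (1 : F))) * h⁻¹ * g⁻¹ := by group
    _ = t := by rw [this]; group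

/-- In SL_n(F) with n ≥ 3, over a finite field F, any two transvections (matrices t with t − 1 of rank one and square zero) are conjugate by an element of SL_n(F). -/
theorem result {F : Type*} [Field F] [Finite F] {n : ℕ} (hn : 3 ≤ n) (s t : Matrix.SpecialLinearGroup (Fin n) F) (hs : Cfsg.IsTransvection (s : Matrix (Fin n) (Fin n) F)) (ht : Cfsg.IsTransvection (t : Matrix (Fin n) (Fin n) F)) : IsConj s t := by
  have hij : (⟨0, by omega⟩ : Fin n) ≠ ⟨1, by omega⟩ := by simp
  exact (conj_to_standard hn _ _ hij s hs).symm.trans (conj_to_standard hn _ _ hij t ht)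

end Cfsg.Agent.S2579
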