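import Cfsg.Statements.S2550
import Cfsg.Agent.Classical.SL
import Cfsg.Agent.S2579

set_option autoImplicit false
open Cfsg Matrix

namespace Cfsg.Agent.S2550

theorem transvection_centralizer {K : Type*} [Field K] [Fintype K] (hK : Fintype.card K = 4)
    (S : Matrix (Fin 3) (Fin 3) K) (hdet : S.det = 1)
    (hS : S * Matrix.transvection (1 : Fin 3) 0 (1 : K) = Matrix.transvection (1 : Fin 3) 0 (1 : K) * S) :
    ∃ c : K, c ≠ 0 ∧ S ^ 4 = c ^ 4 • (1 : Matrix (Fin 3) (Fin 3) K) := by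
  have e1 := fun a b => congrFun (congrFun hS a) b
  have h01 := e1 0 0
  have h02 := e1 1 2
  have h11 := e1 1 0
  have h21 := e1 2 0
  simp [Matrix.transvection, mul_apply, Fin.sum_univ_three, Matrix.single, one_apply] at h01 h02 h11 h21
  set c := S 0 0 with hc
  have a01 : S 0 1 = 0 := h01
  have a02 : S 0 2 = 0 := h02
  have a21 : S 2 1 = 0 := h21
  have a11 : S 1 1 = c := by linear_combination h11
  have hd : c * c * S 2 2 = 1 := by
    rw [det_fin_three, a01, a02, a21, a11] at hdet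
    linear_combination hdet
  have hc0 : c ≠ 0 := fun h => by simp [h] at hd
  have a22 : S 2 2 = c := by
    have h3 := FiniteField.pow_card_sub_one_eq_one c hc0
    rw [hK] at h3
    have : c * c * S 2 2 = c * c * c := by rw [hd]; linear_combination -h3
    exact mul_left_cancel₀ (mul_ne_zero hc0 hc0) this
  haveI : CharP K 2 := by
    obtain ⟨p, hp⟩ := CharP.exists K
    haveI := hp
    obtain ⟨n, hpp, hn⟩ := FiniteField.card K p
    have : p ∣ 2 ^ 2 := by rw [show (2 : ℕ) ^ 2 = 4 from rfl, ← hK, hn]; exact dvd_pow_self _ n.ne_zero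
    rwa [(Nat.prime_dvd_prime_iff_eq hpp Nat.prime_two).1 (hpp.dvd_of_dvd_pow this)] at hp
  refine ⟨c, hc0, ?_⟩
  set M := S - c • (1 : Matrix (Fin 3) (Fin 3) K) with hM
  have h3 : M * M * M = 0 := by
    ext i j
    fin_cases i <;> fin_cases j <;> simp [hM, mul_apply, Fin.sum_univ_three, a01, a02, a21, a11, a22, ← hc]
  have h4 : M ^ (2 ^ 2) = 0 := by
    rw [show (2 : ℕ) ^ 2 = 3 + 1 from rfl, pow_succ, show M ^ 3 = M * M * M from pow_three' M, h3, zero_mul]
  rw [hM, sub_pow_char_pow_of_commute _ _ ((Commute.one_right _).smul_right _), smul_pow, one_pow, sub_eq_zero] at h4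
  exact h4

theorem no_six {K : Type*} [Field K] [Fintype K] (hK : Fintype.card K = 4)
    (y : Matrix.ProjectiveSpecialLinearGroup (Fin 3) K) : orderOf y ≠ 6 := by
  intro hy
  have hZ : Nat.card (Subgroup.center (Matrix.SpecialLinearGroup (Fin 3) K)) = 3 := by
    rw [Cfsg.Lib.Classical.card_center_SL, Nat.card_eq_fintype_card, hK]; rfl
  obtain ⟨x, rfl⟩ := QuotientGroup.mk_surjective y
  have h6 := pow_orderOf_eq_one (QuotientGroup.mk x : Matrix.ProjectiveSpecialLinearGroup (Fin 3) K)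
  rw [hy, ← QuotientGroup.mk_pow, QuotientGroup.eq_one_iff] at h6
  have h18 : x ^ 18 = 1 := by
    have := congrArg Subtype.val (pow_card_eq_one' (x := (⟨_, h6⟩ : Subgroup.center (Matrix.SpecialLinearGroup (Fin 3) K))))
    rw [hZ] at this
    rw [show (18 : ℕ) = 6 * 3 from rfl, pow_mul]
    simpa using this
  have ht : x ^ 9 ≠ 1 := by
    intro h
    have : (QuotientGroup.mk x : Matrix.ProjectiveSpecialLinearGroup (Fin 3) K) ^ 9 = 1 := by
      rw [← QuotientGroup.mk_pow, h]; rfl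
    have := orderOf_dvd_of_pow_eq_one this
    rw [hy] at this
    norm_num at this
  have htv : Cfsg.IsTransvection ((x ^ 9 : Matrix.SpecialLinearGroup (Fin 3) K) : Matrix (Fin 3) (Fin 3) K) := by
    obtain ⟨T, hT⟩ : ∃ T, x ^ 9 = T := ⟨_, rfl⟩
    rw [hT] at ht ⊢
    have hsq : (T : Matrix (Fin 3) (Fin 3) K) * T = 1 := by
      have : T * T = 1 := by rw [← hT, ← pow_add]; exact h18
      exact congrArg Subtype.val this
    haveI : CharP K 2 := by
      obtain ⟨p, hp⟩ := CharP.exists K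
      haveI := hp
      obtain ⟨n, hpp, hn⟩ := FiniteField.card K p
      have : p ∣ 2 ^ 2 := by rw [show (2 : ℕ) ^ 2 = 4 from rfl, ← hK, hn]; exact dvd_pow_self _ n.ne_zero
      rwa [(Nat.prime_dvd_prime_iff_eq hpp Nat.prime_two).1 (hpp.dvd_of_dvd_pow this)] at hp
    set M := (T : Matrix (Fin 3) (Fin 3) K) - 1 with hM
    have hMM : M * M = 0 := by
      rw [hM, sub_mul, mul_sub, one_mul, mul_one, hsq]
      ext i j
      simp only [Matrix.sub_apply, Matrix.zero_apply]
      linear_combination CharTwo.add_self_eq_zero ((1 : Matrix (Fin 3) (Fin 3) K) i j - (T : Matrix (Fin 3) (Fin 3) K) i j)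
    refine ⟨?_, hMM⟩
    have h0 : M ≠ 0 := fun h => ht (Subtype.ext (sub_eq_zero.1 h))
    have h1 : M.rank + M.rank ≤ 3 := by
      simpa using Matrix.rank_add_rank_le_card_of_mul_eq_zero hMM
    have h2 : M.rank ≠ 0 := fun h => h0 (by
      rw [Matrix.rank, Submodule.finrank_eq_zero, LinearMap.range_eq_bot] at h
      exact ext_of_mulVec_single fun j => by
        rw [zero_mulVec]
        exact LinearMap.congr_fun h (Pi.single j 1))
    have h5 : M.rank = 1 := by omega
    exact h5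
  obtain ⟨g, hg⟩ := isConj_iff.1 (Cfsg.Agent.S2579.conj_to_standard (le_refl 3) (0 : Fin 3) 1 (by decide) _ htv)
  set t := Cfsg.Agent.S2579.tv (1 : Fin 3) 0 (by decide) (1 : K) with ht'
  have hcomm : (g⁻¹ * x ^ 2 * g) * t = t * (g⁻¹ * x ^ 2 * g) := by
    have e : t = g⁻¹ * x ^ 9 * g := by rw [← hg]; group
    rw [e]
    calc g⁻¹ * x ^ 2 * g * (g⁻¹ * x ^ 9 * g) = g⁻¹ * (x ^ 2 * x ^ 9) * g := by group
      _ = g⁻¹ * (x ^ 9 * x ^ 2) * g := by rw [← pow_add, ← pow_add]
      _ = g⁻¹ * x ^ 9 * g * (g⁻¹ * x ^ 2 * g) := by group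
  obtain ⟨c, hc, hc4⟩ := transvection_centralizer hK _ (g⁻¹ * x ^ 2 * g).2 (congrArg Subtype.val hcomm)
  have hcen : (g⁻¹ * x ^ 2 * g) ^ 4 ∈ Subgroup.center (Matrix.SpecialLinearGroup (Fin 3) K) := by
    rw [Subgroup.mem_center_iff]
    intro h
    apply Subtype.ext
    change (h : Matrix (Fin 3) (Fin 3) K) * ((g⁻¹ * x ^ 2 * g : Matrix.SpecialLinearGroup (Fin 3) K) : Matrix (Fin 3) (Fin 3) K) ^ 4 = ((g⁻¹ * x ^ 2 * g : Matrix.SpecialLinearGroup (Fin 3) K) : Matrix (Fin 3) (Fin 3) K) ^ 4 * h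
    rw [hc4, mul_smul_comm, smul_mul_assoc, mul_one, one_mul]
  have hcen' : x ^ 8 ∈ Subgroup.center (Matrix.SpecialLinearGroup (Fin 3) K) := by
    have h := (inferInstance : (Subgroup.center (Matrix.SpecialLinearGroup (Fin 3) K)).Normal).conj_mem _ hcen g
    have e : (g⁻¹ * x ^ 2 * g) ^ 4 = g⁻¹ * x ^ 8 * g := by
      simp [pow_succ, mul_assoc]
    rw [e] at h
    simpa [mul_assoc] using h
  have : (QuotientGroup.mk x : Matrix.ProjectiveSpecialLinearGroup (Fin 3) K) ^ 8 = 1 := by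
    rw [← QuotientGroup.mk_pow]; exact (QuotientGroup.eq_one_iff _).2 hcen'
  have := orderOf_dvd_of_pow_eq_one this
  rw [hy] at this
  norm_num at this

theorem six {F : Type*} [Field F] [Fintype F] (hF : Fintype.card F = 2) :
    ∃ y : Matrix.ProjectiveSpecialLinearGroup (Fin 4) F, orderOf y = 6 := by
  haveI : CharP F 2 := by
    obtain ⟨p, hp⟩ := CharP.exists F
    haveI := hp
    obtain ⟨n, hpp, hn⟩ := FiniteField.card F p
    have : p ∣ 2 := by rw [← hF, hn]; exact dvd_pow_self _ n.ne_zero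
    rwa [(Nat.prime_dvd_prime_iff_eq hpp Nat.prime_two).1 this] at hp
  let M : Matrix.SpecialLinearGroup (Fin 4) (ZMod 2) := ⟨!![1,1,0,0; 0,1,0,0; 0,0,0,1; 0,0,1,1], by decide⟩
  have hM : orderOf M = 6 := by
    rw [orderOf_eq_iff (by norm_num)]
    refine ⟨Subtype.ext (by simp only [Matrix.SpecialLinearGroup.coe_pow]; decide), fun m hm hm0 h => ?_⟩
    have h' := congrArg Subtype.val h
    rw [Matrix.SpecialLinearGroup.coe_pow] at h'
    interval_cases m <;> exact absurd h' (by decide)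
  have hker : Subgroup.center (Matrix.SpecialLinearGroup (Fin 4) F) = ⊥ := by
    apply Subgroup.eq_bot_of_card_eq
    rw [Cfsg.Lib.Classical.card_center_SL, Nat.card_eq_fintype_card, hF]; rfl
  refine ⟨QuotientGroup.mk (Matrix.SpecialLinearGroup.map (ZMod.castHom (dvd_refl 2) F) M), ?_⟩
  rw [← hM]
  rw [show (QuotientGroup.mk (Matrix.SpecialLinearGroup.map (ZMod.castHom (dvd_refl 2) F) M) : Matrix.ProjectiveSpecialLinearGroup (Fin 4) F) = QuotientGroup.mk' _ (Matrix.SpecialLinearGroup.map (ZMod.castHom (dvd_refl 2) F) M) from rfl]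
  rw [orderOf_injective _ (by rw [← MonoidHom.ker_eq_bot_iff, QuotientGroup.ker_mk', hker]), orderOf_injective]
  intro a b h
  refine Subtype.ext (Matrix.map_injective (RingHom.injective (ZMod.castHom (dvd_refl 2) F)) ?_)
  exact congrArg Subtype.val h

/-- Let F be a field with 2 elements and K a field with 4 elements. PSL_4(F) and PSL_3(K) have the same order (20160) but are not isomorphic. -/
theorem result {F K : Type*} [Field F] [Fintype F] [Field K] [Fintype K] (hF : Fintype.card F = 2) (hK : Fintype.card K = 4) : Nat.card (Matrix.ProjectiveSpecialLinearGroup (Fin 4) F) = Nat.card (Matrix.ProjectiveSpecialLinearGroup (Fin 3) K) ∧ ¬ Nonempty (Matrix.ProjectiveSpecialLinearGroup (Fin 4) F ≃* Matrix.ProjectiveSpecialLinearGroup (Fin 3) K) := by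
  constructor
  · have h1 := Cfsg.Lib.Classical.gcd_mul_card_PSL (ι := Fin 4) (F := F)
    have h2 := Cfsg.Lib.Classical.card_SL_mul_eq_prod (F := F) (n := 4) (by norm_num)
    have h3 := Cfsg.Lib.Classical.gcd_mul_card_PSL (ι := Fin 3) (F := K)
    have h4 := Cfsg.Lib.Classical.card_SL_mul_eq_prod (F := K) (n := 3) (by norm_num)
    simp only [Nat.card_eq_fintype_card (α := F), Nat.card_eq_fintype_card (α := K), Fintype.card_fin, hF, hK] at h1 h2 h3 h4
    simp [Fin.prod_univ_succ] at h1 h2 h3 h4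
    omega
  · rintro ⟨e⟩
    obtain ⟨y, hy⟩ := six hF
    exact no_six hK (e y) (by rw [MulEquiv.orderOf_eq, hy])

end Cfsg.Agent.S2550
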