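import Cfsg.Statements.S2552
import Mathlib

set_option autoImplicit false
open Cfsg

namespace Cfsg.Agent.S2552

/-- Let F be a finite field and n ≥ 1. For every k, the special linear group SL_n(F) acts transitively on the set of k-dimensional subspaces of F^n: any two subspaces of the same dimension are carried onto each other by some matrix of determinant 1. -/
theorem result {F : Type*} [Field F] [Fintype F] (n : ℕ) (hn : 1 ≤ n) (U₁ U₂ : Submodule F (Fin n → F)) (h : Module.finrank F U₁ = Module.finrank F U₂) : ∃ g : Matrix.SpecialLinearGroup (Fin n) F, U₁.map ((Matrix.SpecialLinearGroup.toLin' g : (Fin n → F) ≃ₗ[F] (Fin n → F)) : (Fin n → F) →ₗ[F] (Fin n → F)) = U₂ := by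
  classical
  obtain ⟨W1, hW1⟩ := Submodule.exists_isCompl U₁
  obtain ⟨W2, hW2⟩ := Submodule.exists_isCompl U₂
  have hW : Module.finrank F W1 = Module.finrank F W2 := by
    have a := Submodule.finrank_add_eq_of_isCompl hW1
    have b := Submodule.finrank_add_eq_of_isCompl hW2
    omega
  let b1 := (Module.finBasis F U₁).prod (Module.finBasis F W1)
  let B := b1.map (Submodule.prodEquivOfIsCompl U₁ W1 hW1)
  let f : (Fin n → F) ≃ₗ[F] (Fin n → F) := (Submodule.prodEquivOfIsCompl U₁ W1 hW1).symm ≪≫ₗ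
    (LinearEquiv.ofFinrankEq U₁ U₂ h).prodCongr (LinearEquiv.ofFinrankEq W1 W2 hW) ≪≫ₗ Submodule.prodEquivOfIsCompl U₂ W2 hW2
  have hf : ∀ x ∈ U₁, f x ∈ U₂ := by
    intro x hx
    simp [f, Submodule.prodEquivOfIsCompl_symm_apply_left U₁ W1 hW1 ⟨x, hx⟩]
  haveI : Nonempty (Fin (Module.finrank F U₁) ⊕ Fin (Module.finrank F W1)) := by
    apply Fintype.card_pos_iff.1
    rw [← Module.finrank_eq_card_basis B, Module.finrank_fin_fun]
    omega
  obtain ⟨i₀⟩ := (inferInstance : Nonempty (Fin (Module.finrank F U₁) ⊕ Fin (Module.finrank F W1)))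
  let w : Fin (Module.finrank F U₁) ⊕ Fin (Module.finrank F W1) → F := Function.update 1 i₀ (LinearMap.det (f : (Fin n → F) →ₗ[F] _))⁻¹
  let d : (Fin n → F) →ₗ[F] (Fin n → F) := Matrix.toLin B B (Matrix.diagonal w)
  have hd : ∀ x ∈ U₁, d x ∈ U₁ := by
    intro x hx
    have hx' : x = ∑ k, (Module.finBasis F U₁).repr ⟨x, hx⟩ k • B (Sum.inl k) := by
      have h1 := congrArg (Subtype.val) ((Module.finBasis F U₁).sum_repr ⟨x, hx⟩)
      simp only [AddSubmonoidClass.coe_finsetSum, SetLike.val_smul] at h1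
      simpa [B, b1] using h1.symm
    rw [hx', map_sum]
    refine Submodule.sum_mem _ fun k _ => ?_
    rw [map_smul]
    refine Submodule.smul_mem _ _ ?_
    simp only [d, Matrix.toLin_self]
    refine Submodule.sum_mem _ fun l _ => ?_
    by_cases hl : l = Sum.inl k
    · subst hl
      refine Submodule.smul_mem _ _ ?_
      simp [B, b1]
    · simp [Matrix.diagonal_apply_ne _ hl]
  let g : (Fin n → F) →ₗ[F] (Fin n → F) := (f : (Fin n → F) →ₗ[F] _) ∘ₗ d
  have hdet : LinearMap.det g = 1 := by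
    have hne : LinearMap.det (f : (Fin n → F) →ₗ[F] _) ≠ 0 := (LinearEquiv.isUnit_det' f).ne_zero
    simp only [g, d, LinearMap.det_comp, LinearMap.det_toLin, Matrix.det_diagonal, w]
    rw [Finset.prod_update_of_mem (Finset.mem_univ _)]
    simp [mul_inv_cancel₀ hne]
  refine ⟨⟨LinearMap.toMatrix' g, by rw [LinearMap.det_toMatrix', hdet]⟩, ?_⟩
  erw [Matrix.SpecialLinearGroup.toLin'_to_linearMap]
  rw [show Matrix.toLin' (LinearMap.toMatrix' g) = g from Matrix.toLin'_toMatrix' g]
  refine Submodule.eq_of_le_of_finrank_le ?_ ?_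
  · rintro _ ⟨x, hx, rfl⟩
    exact hf _ (hd x hx)
  · have hinj : Function.Injective g := by
      rw [← LinearMap.ker_eq_bot]
      by_contra hk
      exact one_ne_zero (hdet.symm.trans (LinearMap.det_eq_zero_iff_ker_ne_bot.2 hk))
    rw [← h]
    exact le_of_eq (Submodule.equivMapOfInjective g hinj U₁).finrank_eq

end Cfsg.Agent.S2552
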