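import Cfsg.Statements.S2558
import Cfsg.Agent.Known.ClassNumberO.Upper
import Cfsg.Agent.Known.ClassNumberO.Lower
import Cfsg.Agent.Classical.Orth.Discriminant
-- import your own Cfsg.Agent.* helpers here

set_option autoImplicit false
open Cfsg

namespace Cfsg.Agent.S2558

/-- The number of conjugacy classes of the full orthogonal groups O⁺(2n,q) and O⁻(2n,q), q odd, 2n ≥ 4: for F a finite field of odd order q and n ≥ 2, the number k of conjugacy classes of the isometry group of the hyperbolic quadratic form Σ xᵢyᵢ on F^{2n}, and likewise of the elliptic form Σ xᵢyᵢ + (z₁² + a z₁z₂ + b z₂²) with anisotropic binary part, satisfies q^n/2 ≤ k ≤ 9.5·q^n. -/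
theorem result {F : Type*} [Field F] [Fintype F] (hodd : Odd (Fintype.card F)) (n : ℕ) (hn : 2 ≤ n) (a b : F) (hab : ∀ z₁ z₂ : F, z₁ ^ 2 + a * z₁ * z₂ + b * z₂ ^ 2 = 0 → z₁ = 0 ∧ z₂ = 0) :
    (Fintype.card F ^ n ≤ 2 * Nat.card (ConjClasses ↥(Cfsg.isometryGroup F (Cfsg.quadFormPlus n F))) ∧
      2 * Nat.card (ConjClasses ↥(Cfsg.isometryGroup F (Cfsg.quadFormPlus n F))) ≤ 19 * Fintype.card F ^ n) ∧
    (Fintype.card F ^ n ≤ 2 * Nat.card (ConjClasses ↥(Cfsg.isometryGroup F (Cfsg.quadFormMinus (n - 1) F a b))) ∧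
      2 * Nat.card (ConjClasses ↥(Cfsg.isometryGroup F (Cfsg.quadFormMinus (n - 1) F a b))) ≤ 19 * Fintype.card F ^ n) := by
  classical
  have h2 : (2 : F) ≠ 0 := Cfsg.Lib.Classical.Refl.two_ne_zero_of_odd hodd
  have hq : 3 ≤ Fintype.card F := by
    have := Fintype.one_lt_card (α := F)
    rw [Nat.odd_iff] at hodd
    omega
  have key : ∀ {ι : Type} [Fintype ι] [DecidableEq ι] (Q : QuadraticForm F (ι → F)),
      (QuadraticMap.polarBilin Q).Nondegenerate → Fintype.card ι = 2 * n →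
      Fintype.card F ^ n ≤ 2 * Nat.card (ConjClasses ↥(Cfsg.isometryGroup F (⇑Q))) ∧
        2 * Nat.card (ConjClasses ↥(Cfsg.isometryGroup F (⇑Q))) ≤ 19 * Fintype.card F ^ n := by
    intro ι _ _ Q hQ hι
    refine ⟨Cfsg.Lib.ClassNumberO.le_card_classes h2 Q hQ n hn hι, ?_⟩
    have h := ((Nat.cast_le (α := ℚ)).2 (Cfsg.Lib.ClassNumberO.two_mul_card_classes_le Q h2 hQ hι)).trans
      (Cfsg.Lib.ClassNumberO.even_bound (Fintype.card F) n hq)
    rw [← Nat.cast_le (α := ℚ)]
    push_cast at h ⊢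
    exact h
  have hplus : ⇑(Cfsg.Lib.Classical.HypQuad.plusForm n F) = Cfsg.quadFormPlus n F :=
    funext (Cfsg.Lib.Classical.HypQuad.plusForm_apply n)
  constructor
  · rw [← hplus]
    exact key _ (Cfsg.Lib.Classical.HypQuad.plusForm_nondegenerate n) (by simp; omega)
  · rw [← Cfsg.Lib.Classical.Refl.minusForm_coe]
    exact key _ (Cfsg.Lib.Classical.Refl.minusForm_nondegenerate' (n - 1) hab) (by simp; omega)

end Cfsg.Agent.S2558
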