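import Cfsg.Statements.S2559
import Cfsg.Agent.Known.ClassNumberOEven.Main
import Cfsg.Agent.Classical.Orth.StdForms

set_option autoImplicit false
open Cfsg

namespace Cfsg.Agent.S2559

/-- The number of conjugacy classes of the full orthogonal groups O⁺(2n,q) and O⁻(2n,q), q even, 2n ≥ 4: for F a finite field of even order q and n ≥ 2, the number k of conjugacy classes of the isometry group of the hyperbolic quadratic form Σ xᵢyᵢ on F^{2n}, and likewise of the elliptic form Σ xᵢyᵢ + (z₁² + a z₁z₂ + b z₂²) with anisotropic binary part, satisfies q^n/2 ≤ k ≤ 15·q^n. -/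
theorem result {F : Type*} [Field F] [Fintype F] (heven : Even (Fintype.card F)) (n : ℕ) (hn : 2 ≤ n) (a b : F) (hab : ∀ z₁ z₂ : F, z₁ ^ 2 + a * z₁ * z₂ + b * z₂ ^ 2 = 0 → z₁ = 0 ∧ z₂ = 0) :
    (Fintype.card F ^ n ≤ 2 * Nat.card (ConjClasses ↥(Cfsg.isometryGroup F (Cfsg.quadFormPlus n F))) ∧
      Nat.card (ConjClasses ↥(Cfsg.isometryGroup F (Cfsg.quadFormPlus n F))) ≤ 15 * Fintype.card F ^ n) ∧
    (Fintype.card F ^ n ≤ 2 * Nat.card (ConjClasses ↥(Cfsg.isometryGroup F (Cfsg.quadFormMinus (n - 1) F a b))) ∧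
      Nat.card (ConjClasses ↥(Cfsg.isometryGroup F (Cfsg.quadFormMinus (n - 1) F a b))) ≤ 15 * Fintype.card F ^ n) := by
  haveI : CharP F 2 := ringChar.of_eq ((FiniteField.even_card_iff_char_two (F := F)).2 (Nat.even_iff.1 heven))
  obtain ⟨m, rfl⟩ : ∃ m, n = m + 2 := ⟨n - 2, by omega⟩
  constructor
  · have hplus : ⇑(Cfsg.Lib.Classical.HypQuad.plusForm (m + 2) F) = Cfsg.quadFormPlus (m + 2) F :=
      funext (Cfsg.Lib.Classical.HypQuad.plusForm_apply (m + 2))
    rw [← hplus]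
    refine Cfsg.Lib.ClassNumberOEven.class_bounds _ (Cfsg.Lib.Classical.HypQuad.plusForm_nondegenerate _) m
      (by simp; omega) (ε := 1) (Or.inl rfl) ?_
    rw [mul_one, ← Cfsg.Lib.ClassNumberOEven.gauss_plus]
    exact Finset.sum_congr rfl fun x _ => by rw [Cfsg.Lib.Classical.HypQuad.plusForm_apply]
  · rw [show m + 2 - 1 = m + 1 by omega, ← Cfsg.Lib.Classical.Refl.minusForm_coe]
    refine Cfsg.Lib.ClassNumberOEven.class_bounds _ (Cfsg.Lib.Classical.Refl.minusForm_nondegenerate' (m + 1) hab) m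
      (by simp; omega) (ε := -1) (Or.inr rfl) ?_
    rw [mul_neg_one, ← Cfsg.Lib.ClassNumberOEven.gauss_minus (m + 1) hab]
    exact Finset.sum_congr rfl fun x _ => by rw [Cfsg.Lib.Classical.Refl.minusForm_coe]

end Cfsg.Agent.S2559
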