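import Cfsg.Statements.S2561
import Cfsg.Agent.Known.ArfSum

set_option autoImplicit false
open Cfsg

namespace Cfsg.Agent.S2561

/-- Fix the non-singular alternating form on the 2m-dimensional space over the field of two elements obtained by polarizing the plus-type form Σ xᵢyᵢ (m ≥ 1). The functions q on the space with q(u + v) = q(u) + q(v) + f(u, v) (the quadratic forms polarizing to f) number 2^(2m); each is equivalent under an invertible linear map either to the plus-type form or to the minus-type form Σ xᵢyᵢ + (z₁² + z₁z₂ + z₂²); and those of plus type number 2^(2m−1) + 2^(m−1), those of minus type 2^(2m−1) − 2^(m−1). -/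
theorem result (m : ℕ) (hm : 1 ≤ m) :
    Nat.card {q : (Fin m ⊕ Fin m → ZMod 2) → ZMod 2 // (∀ u v : (Fin m ⊕ Fin m → ZMod 2), q (u + v) = q u + q v + (Cfsg.quadFormPlus m (ZMod 2) (u + v) - Cfsg.quadFormPlus m (ZMod 2) u - Cfsg.quadFormPlus m (ZMod 2) v))} = 2 ^ (2 * m) ∧
    (∀ q : (Fin m ⊕ Fin m → ZMod 2) → ZMod 2, (∀ u v : (Fin m ⊕ Fin m → ZMod 2), q (u + v) = q u + q v + (Cfsg.quadFormPlus m (ZMod 2) (u + v) - Cfsg.quadFormPlus m (ZMod 2) u - Cfsg.quadFormPlus m (ZMod 2) v)) →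
      (∃ g : (Fin m ⊕ Fin m → ZMod 2) ≃ₗ[ZMod 2] (Fin m ⊕ Fin m → ZMod 2), ∀ v, q v = Cfsg.quadFormPlus m (ZMod 2) (g v)) ∨
      (∃ g : (Fin m ⊕ Fin m → ZMod 2) ≃ₗ[ZMod 2] ((Fin (m - 1) ⊕ Fin (m - 1)) ⊕ Fin 2 → ZMod 2), ∀ v, q v = Cfsg.quadFormMinus (m - 1) (ZMod 2) 1 1 (g v))) ∧
    Nat.card {q : (Fin m ⊕ Fin m → ZMod 2) → ZMod 2 // (∀ u v : (Fin m ⊕ Fin m → ZMod 2), q (u + v) = q u + q v + (Cfsg.quadFormPlus m (ZMod 2) (u + v) - Cfsg.quadFormPlus m (ZMod 2) u - Cfsg.quadFormPlus m (ZMod 2) v)) ∧ ∃ g : (Fin m ⊕ Fin m → ZMod 2) ≃ₗ[ZMod 2] (Fin m ⊕ Fin m → ZMod 2), ∀ v, q v = Cfsg.quadFormPlus m (ZMod 2) (g v)} = 2 ^ (2 * m - 1) + 2 ^ (m - 1) ∧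
    Nat.card {q : (Fin m ⊕ Fin m → ZMod 2) → ZMod 2 // (∀ u v : (Fin m ⊕ Fin m → ZMod 2), q (u + v) = q u + q v + (Cfsg.quadFormPlus m (ZMod 2) (u + v) - Cfsg.quadFormPlus m (ZMod 2) u - Cfsg.quadFormPlus m (ZMod 2) v)) ∧ ∃ g : (Fin m ⊕ Fin m → ZMod 2) ≃ₗ[ZMod 2] ((Fin (m - 1) ⊕ Fin (m - 1)) ⊕ Fin 2 → ZMod 2), ∀ v, q v = Cfsg.quadFormMinus (m - 1) (ZMod 2) 1 1 (g v)} = 2 ^ (2 * m - 1) - 2 ^ (m - 1) := by
  classical
  haveI : Fact (Nat.Prime 2) := ⟨Nat.prime_two⟩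
  obtain ⟨k, rfl⟩ : ∃ k, m = k + 1 := ⟨m - 1, by omega⟩
  set q0 := Cfsg.quadFormPlus (k + 1) (ZMod 2) with hq0
  have hb : ∀ u v, q0 (u + v) = q0 u + q0 v + Cfsg.Lib.ArfSum.b (k + 1) u v := fun u v => by
    simp [Cfsg.Lib.ArfSum.b, hq0]
  let B := QuadraticMap.polarBilin (Cfsg.Lib.Classical.HypQuad.plusForm (k + 1) (ZMod 2))
  have hB : ∀ u v, B u v = Cfsg.Lib.ArfSum.b (k + 1) u v := fun u v => (Cfsg.Lib.ArfSum.b_eq _ _ _).symm
  have hsq : ∀ (f : (Fin (k + 1) ⊕ Fin (k + 1) → ZMod 2) → ZMod 2),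
      (∀ u v, f (u + v) = f u + f v + Cfsg.Lib.ArfSum.b (k + 1) u v) → ∀ w, ∀ u v,
        f (u + v) + Cfsg.Lib.ArfSum.b (k + 1) (u + v) w =
          (f u + Cfsg.Lib.ArfSum.b (k + 1) u w) + (f v + Cfsg.Lib.ArfSum.b (k + 1) v w) + Cfsg.Lib.ArfSum.b (k + 1) u v := by
    intro f hf w u v
    rw [hf, Cfsg.Lib.ArfSum.b_add]; ring
  -- all forms with this polarization are translates
  let P := {q : (Fin (k + 1) ⊕ Fin (k + 1) → ZMod 2) → ZMod 2 //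
    ∀ u v, q (u + v) = q u + q v + Cfsg.Lib.ArfSum.b (k + 1) u v}
  let Φ : (Fin (k + 1) ⊕ Fin (k + 1) → ZMod 2) → P := fun w =>
    ⟨fun v => q0 v + Cfsg.Lib.ArfSum.b (k + 1) v w, hsq q0 hb w⟩
  have hΦ : Function.Bijective Φ := by
    constructor
    · intro a c h
      by_contra hne
      obtain ⟨u, hu⟩ := Cfsg.Lib.ArfSum.b_nondeg (k + 1) (a - c) (sub_ne_zero.2 hne)
      apply hu
      have h' := add_left_cancel (congrFun (congrArg Subtype.val h) u)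
      rw [← hB, map_sub, hB, hB, h', sub_self]
    · intro q
      let d : (Fin (k + 1) ⊕ Fin (k + 1) → ZMod 2) →+ ZMod 2 :=
        AddMonoidHom.mk' (fun v => q.1 v - q0 v) fun u v => by rw [q.2, hb]; ring
      obtain ⟨w, hw⟩ := (LinearMap.BilinForm.toDual B (Cfsg.Lib.Classical.HypQuad.plusForm_nondegenerate _)).surjective
        (d.toZModLinearMap 2)
      refine ⟨w, Subtype.ext (funext fun v => ?_)⟩
      show q0 v + Cfsg.Lib.ArfSum.b (k + 1) v w = q.1 v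
      have e := congrArg (fun f => f v) hw
      simp only [LinearMap.BilinForm.toDual_def, hB] at e
      rw [Cfsg.Lib.ArfSum.b_comm, e]
      show q0 v + (q.1 v - q0 v) = q.1 v
      ring
  have hplus : ∀ w, (∃ g : (Fin (k + 1) ⊕ Fin (k + 1) → ZMod 2) ≃ₗ[ZMod 2] (Fin (k + 1) ⊕ Fin (k + 1) → ZMod 2),
      ∀ v, (Φ w).1 v = q0 (g v)) ↔ q0 w = 0 := fun w => Cfsg.Lib.ArfSum.translate (k + 1) q0 hb w
  have hexcl : ∀ q : P, (∃ g : (Fin (k + 1) ⊕ Fin (k + 1) → ZMod 2) ≃ₗ[ZMod 2] (Fin (k + 1) ⊕ Fin (k + 1) → ZMod 2),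
      ∀ v, q.1 v = q0 (g v)) → ¬ ∃ g : (Fin (k + 1) ⊕ Fin (k + 1) → ZMod 2) ≃ₗ[ZMod 2] ((Fin k ⊕ Fin k) ⊕ Fin 2 → ZMod 2),
      ∀ v, q.1 v = Cfsg.quadFormMinus k (ZMod 2) 1 1 (g v) := by
    rintro q ⟨g, hg⟩ ⟨g', hg'⟩
    have h1 : Cfsg.Lib.ArfSum.S q.1 = 2 ^ (k + 1) := by
      rw [show q.1 = fun v => q0 (g.toEquiv v) from funext hg, Cfsg.Lib.ArfSum.S_comp, hq0, Cfsg.Lib.ArfSum.S_plus]
    have h2 : Cfsg.Lib.ArfSum.S q.1 = -2 ^ (k + 1) := by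
      rw [show q.1 = fun v => Cfsg.quadFormMinus k (ZMod 2) 1 1 (g'.toEquiv v) from funext hg',
        Cfsg.Lib.ArfSum.S_comp, Cfsg.Lib.ArfSum.S_minus]
    have : (0 : ℤ) < 2 ^ (k + 1) := by positivity
    omega
  have hP : ∀ (u v : Fin (k + 1) ⊕ Fin (k + 1) → ZMod 2), Cfsg.quadFormPlus (k + 1) (ZMod 2) (u + v) -
      Cfsg.quadFormPlus (k + 1) (ZMod 2) u - Cfsg.quadFormPlus (k + 1) (ZMod 2) v = Cfsg.Lib.ArfSum.b (k + 1) u v :=
    fun _ _ => rfl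
  have hN : Nat.card {w // q0 w = 0} = 2 ^ (2 * (k + 1) - 1) + 2 ^ k := by
    have h := Cfsg.Lib.ArfSum.two_card_zero q0
    rw [hq0, Cfsg.Lib.ArfSum.S_plus, Cfsg.Lib.ArfSum.card_space, show 2 * (k + 1) = (2 * k + 1) + 1 by ring] at h
    rw [show 2 * (k + 1) - 1 = 2 * k + 1 by omega, hq0]
    push_cast [pow_succ] at h ⊢
    have : ((Nat.card {w // Cfsg.quadFormPlus (k + 1) (ZMod 2) w = 0} : ℕ) : ℤ) = ((2 ^ (2 * k) * 2 + 2 ^ k : ℕ) : ℤ) := by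
      push_cast
      linarith
    exact_mod_cast this
  refine ⟨?_, fun q hq => Cfsg.Lib.ArfSum.classify (k + 1) q hq, ?_, ?_⟩
  · rw [show 2 ^ (2 * (k + 1)) = Nat.card (Fin (k + 1) ⊕ Fin (k + 1) → ZMod 2) by
      rw [Nat.card_eq_fintype_card, Cfsg.Lib.ArfSum.card_space]]
    exact (Nat.card_eq_of_bijective Φ hΦ).symm
  · rw [show k + 1 - 1 = k from rfl, ← hN]
    refine (Nat.card_congr ((Equiv.subtypeSubtypeEquivSubtypeInter _ _).symm.trans ?_)).symm.trans rfl |>.symm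
    exact ((Equiv.ofBijective Φ hΦ).subtypeEquiv fun w => (hplus w).symm).symm
  · rw [show k + 1 - 1 = k from rfl]
    have hc : Nat.card {w // ¬ q0 w = 0} = 2 ^ (2 * (k + 1) - 1) - 2 ^ k := by
      have h := Nat.card_congr (Equiv.sumCompl fun w => q0 w = 0)
      rw [Nat.card_sum, hN, Nat.card_eq_fintype_card (α := Fin (k + 1) ⊕ Fin (k + 1) → ZMod 2), Cfsg.Lib.ArfSum.card_space] at h
      have e : 2 ^ (2 * (k + 1)) = 2 ^ (2 * (k + 1) - 1) + 2 ^ (2 * (k + 1) - 1) := by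
        rw [← two_mul, ← pow_succ', show 2 * (k + 1) - 1 + 1 = 2 * (k + 1) by omega]
      omega
    rw [← hc]
    refine (Nat.card_congr ((Equiv.subtypeSubtypeEquivSubtypeInter _ _).symm.trans ?_))
    refine ((Equiv.ofBijective Φ hΦ).subtypeEquiv fun w => ?_).symm
    rw [← hplus]
    refine ⟨fun h => ?_, fun h h' => hexcl (Φ w) h' h⟩
    exact (Cfsg.Lib.ArfSum.classify (k + 1) _ (Φ w).2).resolve_left h

end Cfsg.Agent.S2561
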