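import Cfsg.Statements.S2562
import Cfsg.Agent.Known.ArfSum
import Cfsg.Agent.Classical.Orth.StdForms

set_option autoImplicit false
open Cfsg

namespace Cfsg.Agent.S2562

/-- Witt indices over the field of two elements, m ≥ 1: for the plus-type form Σ xᵢyᵢ in dimension 2m some m-dimensional subspace is totally singular and no totally singular subspace has larger dimension; for the minus-type form Σ xᵢyᵢ + (z₁² + z₁z₂ + z₂²) in dimension 2m the maximal dimension of a totally singular subspace is m − 1. -/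
theorem result (m : ℕ) (hm : 1 ≤ m) :
    (∃ U : Submodule (ZMod 2) (Fin m ⊕ Fin m → ZMod 2), (∀ u ∈ U, Cfsg.quadFormPlus m (ZMod 2) u = 0) ∧ Module.finrank (ZMod 2) ↥U = m) ∧
    (∀ U : Submodule (ZMod 2) (Fin m ⊕ Fin m → ZMod 2), (∀ u ∈ U, Cfsg.quadFormPlus m (ZMod 2) u = 0) → Module.finrank (ZMod 2) ↥U ≤ m) ∧
    (∃ U : Submodule (ZMod 2) ((Fin (m - 1) ⊕ Fin (m - 1)) ⊕ Fin 2 → ZMod 2), (∀ u ∈ U, Cfsg.quadFormMinus (m - 1) (ZMod 2) 1 1 u = 0) ∧ Module.finrank (ZMod 2) ↥U = m - 1) ∧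
    (∀ U : Submodule (ZMod 2) ((Fin (m - 1) ⊕ Fin (m - 1)) ⊕ Fin 2 → ZMod 2), (∀ u ∈ U, Cfsg.quadFormMinus (m - 1) (ZMod 2) 1 1 u = 0) → Module.finrank (ZMod 2) ↥U ≤ m - 1) := by
  have h11 : ∀ z₁ z₂ : ZMod 2, z₁ ^ 2 + 1 * z₁ * z₂ + 1 * z₂ ^ 2 = 0 → z₁ = 0 ∧ z₂ = 0 := by decide
  classical
  haveI : Fact (Nat.Prime 2) := ⟨Nat.prime_two⟩
  obtain ⟨k, rfl⟩ : ∃ k, m = k + 1 := ⟨m - 1, by omega⟩
  have hmc : ⇑(Cfsg.Lib.Classical.Refl.minusForm k (ZMod 2) 1 1) = Cfsg.quadFormMinus k (ZMod 2) 1 1 :=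
    Cfsg.Lib.Classical.Refl.minusForm_coe _ _ _
  have hmn : (QuadraticMap.polarBilin (Cfsg.Lib.Classical.Refl.minusForm k (ZMod 2) 1 1)).Nondegenerate :=
    Cfsg.Lib.Classical.Refl.minusForm_nondegenerate' k h11
  have key : ∀ U : Submodule (ZMod 2) ((Fin k ⊕ Fin k) ⊕ Fin 2 → ZMod 2),
      (∀ u ∈ U, Cfsg.quadFormMinus k (ZMod 2) 1 1 u = 0) → Module.finrank (ZMod 2) ↥U ≤ k := by
    intro U hU
    have h1 := Cfsg.Lib.ArfSum.singular_le _ hmn U (fun u hu => by rw [hmc]; exact hU u hu)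
    by_contra hcon
    have hd : 2 * Module.finrank (ZMod 2) U = Module.finrank (ZMod 2) ((Fin k ⊕ Fin k) ⊕ Fin 2 → ZMod 2) := by
      rw [Module.finrank_pi, Fintype.card_sum, Fintype.card_sum, Fintype.card_fin, Fintype.card_fin] at h1 ⊢
      omega
    have h2 := Cfsg.Lib.ArfSum.S_of_half _ hmn U (fun u hu => by rw [hmc]; exact hU u hu) hd
    rw [hmc, Cfsg.Lib.ArfSum.S_minus] at h2
    have : (0 : ℤ) < 2 ^ (k + 1) := by positivity
    omega
  refine ⟨⟨Cfsg.Lib.Classical.HypQuad.leftSpace (k + 1) (ZMod 2), ?_, ?_⟩, fun U hU => ?_, ?_, fun U hU => ?_⟩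
  · intro u hu
    rw [← Cfsg.Lib.Classical.HypQuad.plusForm_apply]
    exact (Cfsg.Lib.Classical.HypQuad.leftSpace_isMax (k + 1)).2 u hu
  · exact (Cfsg.Lib.Classical.HypQuad.leftSpace_isMax (k + 1)).1
  · have := Cfsg.Lib.ArfSum.singular_le (Cfsg.Lib.Classical.HypQuad.plusForm (k + 1) (ZMod 2))
      (Cfsg.Lib.Classical.HypQuad.plusForm_nondegenerate _) U
      (fun u hu => by rw [Cfsg.Lib.Classical.HypQuad.plusForm_apply]; exact hU u hu)
    rw [Module.finrank_pi, Fintype.card_sum, Fintype.card_fin] at this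
    omega
  · let L : (Fin k → ZMod 2) →ₗ[ZMod 2] ((Fin k ⊕ Fin k) ⊕ Fin 2 → ZMod 2) :=
      { toFun := fun x => Sum.elim (Sum.elim x 0) 0
        map_add' := fun x y => by funext i; rcases i with (i | i) | i <;> simp
        map_smul' := fun c x => by funext i; rcases i with (i | i) | i <;> simp }
    refine ⟨LinearMap.range L, ?_, ?_⟩
    · rintro _ ⟨x, rfl⟩; simp [L, Cfsg.quadFormMinus]
    · rw [LinearMap.finrank_range_of_inj (fun x y h => funext fun i => congrFun h (Sum.inl (Sum.inl i))),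
        Module.finrank_fin_fun]
  · exact key U hU

end Cfsg.Agent.S2562
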