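import Cfsg.Statements.S2567

set_option autoImplicit false
open Cfsg

namespace Cfsg.Agent.S2567

/-- Lifting elements of prime order from PGL to GL: let F be a finite field with q elements, r a prime not dividing q − 1, and x an element of order r in GL_n(F) modulo its centre (the scalar matrices). Then x has exactly one preimage in GL_n(F) of order r. -/
theorem result {F : Type*} [Field F] [Fintype F] {q n r : ℕ} (hF : Fintype.card F = q) (hr : r.Prime) (hdiv : ¬ r ∣ q - 1) (x : GL (Fin n) F ⧸ Subgroup.center (GL (Fin n) F)) (hx : orderOf x = r) : ∃! g : GL (Fin n) F, (QuotientGroup.mk g : GL (Fin n) F ⧸ Subgroup.center (GL (Fin n) F)) = x ∧ orderOf g = r := by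
  classical
  subst hF
  haveI : Fact r.Prime := ⟨hr⟩
  have hcen : ∀ z ∈ Subgroup.center (GL (Fin n) F), z ^ (Fintype.card F - 1) = 1 := fun z hz => by
    rw [Matrix.GeneralLinearGroup.center_eq_range_scalar] at hz
    obtain ⟨u, rfl⟩ := hz
    rw [← map_pow, ← Nat.card_eq_fintype_card, ← Nat.card_units, pow_card_eq_one', map_one]
  have hco : ∀ z ∈ Subgroup.center (GL (Fin n) F), r.Coprime (orderOf z) := fun z hz =>
    (hr.coprime_iff_not_dvd.2 hdiv).of_dvd_right (orderOf_dvd_of_pow_eq_one (hcen z hz))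
  obtain ⟨g, rfl⟩ := QuotientGroup.mk_surjective x
  have hg : g ^ r ∈ Subgroup.center (GL (Fin n) F) := by
    rw [← QuotientGroup.eq_one_iff, QuotientGroup.mk_pow, ← hx, pow_orderOf_eq_one]
  obtain ⟨m, hm⟩ := exists_pow_eq_self_of_coprime (hco _ hg)
  set d := (g ^ r) ^ m
  have hd : d ∈ Subgroup.center (GL (Fin n) F) := pow_mem hg m
  have hdr : d ^ r = g ^ r := by rw [← pow_mul, mul_comm, pow_mul]; exact hm
  have hcomm : Commute g d⁻¹ := Subgroup.mem_center_iff.1 (inv_mem hd) g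
  have hmk : (QuotientGroup.mk (g * d⁻¹) : GL (Fin n) F ⧸ Subgroup.center (GL (Fin n) F)) = QuotientGroup.mk g :=
    QuotientGroup.eq.2 (by simpa using hd)
  have hpow : (g * d⁻¹) ^ r = 1 := by rw [hcomm.mul_pow, inv_pow, hdr, mul_inv_cancel]
  have hne : g * d⁻¹ ≠ 1 := fun h => by
    rw [← hmk, h, QuotientGroup.mk_one, orderOf_one] at hx
    exact hr.one_lt.ne hx
  refine ⟨g * d⁻¹, ⟨hmk, orderOf_eq_prime hpow hne⟩, ?_⟩
  rintro h ⟨hh, hho⟩
  have hz : (g * d⁻¹)⁻¹ * h ∈ Subgroup.center (GL (Fin n) F) := QuotientGroup.eq.1 (hmk.trans hh.symm)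
  set z := (g * d⁻¹)⁻¹ * h with hzdef
  have hhz : h = g * d⁻¹ * z := (mul_inv_cancel_left _ _).symm
  have hzr : z ^ r = 1 := by
    have hc : Commute (g * d⁻¹) z := Subgroup.mem_center_iff.1 hz _
    have := pow_orderOf_eq_one h
    rw [hho, hhz, hc.mul_pow, hpow, one_mul] at this
    exact this
  have hz1 : z = 1 := orderOf_eq_one_iff.1
    (Nat.eq_one_of_dvd_coprimes (hco z hz) (orderOf_dvd_of_pow_eq_one hzr) dvd_rfl)
  rw [hhz, hz1, mul_one]

end Cfsg.Agent.S2567
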