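import Cfsg.Statements.S2568
import Cfsg.Agent.Known.PrimeOrderPoly
import Cfsg.Agent.Known.SemisimpleCharpoly

set_option autoImplicit false
open Cfsg

namespace Cfsg.Agent.S2568

/-- Number of conjugacy classes of elements of a given prime order r, coprime to the characteristic, in GL_n(q): if i is the multiplicative order of q modulo r and t = (r − 1)/i, the classes correspond to the non-zero t-tuples of natural numbers (a_1, …, a_t) with i(a_1 + ⋯ + a_t) ≤ n (a_j is the multiplicity of the j-th Frobenius orbit of nontrivial r-th roots of unity among the eigenvalues), so there are exactly C(⌊n/i⌋ + t, t) − 1 of them. -/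
theorem result {F : Type*} [Field F] [Fintype F] {p q : ℕ} [Fact p.Prime] [CharP F p] (hF : Fintype.card F = q) (n r i t : ℕ) (hr : r.Prime) (hrp : r ≠ p) (hi : i = orderOf (q : ZMod r)) (ht : t * i = r - 1) : Nat.card {C : ConjClasses (GL (Fin n) F) // ∃ g : GL (Fin n) F, ConjClasses.mk g = C ∧ orderOf g = r} = Nat.choose (n / i + t) t - 1 := by
  classical
  subst hF
  haveI := Fact.mk hr
  have hpp : p.Prime := Fact.out
  have hrcop : r.Coprime p := (Nat.coprime_primes hr hpp).2 hrp
  have hcard := Cfsg.Lib.PrimeOrderPoly.card_factorSet (F := F) (p := p) (r := r) hrp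
  have hi0 : 0 < i := by
    rcases Nat.eq_zero_or_pos i with h | h
    · have := hr.two_le
      rw [h, mul_zero] at ht
      omega
    · exact h
  have hS : (Cfsg.Lib.PrimeOrderPoly.factorSet F r).card = t := by
    rw [← hi, ← ht] at hcard
    exact Nat.eq_of_mul_eq_mul_right hi0 hcard
  let T := {f : Polynomial F // f.Monic ∧ f.natDegree = n ∧
    ∀ g, g.Monic → Irreducible g → g ∣ f → g ∣ Polynomial.X ^ r - 1}
  have hT : Nat.card T = Nat.choose (n / i + t) t := by
    rw [← hS]; exact Cfsg.Lib.PrimeOrderPoly.card_polys hrp hi hi0 n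
  have hmem : ∀ g : GL (Fin n) F, g ^ r = 1 → (g : Matrix (Fin n) (Fin n) F).charpoly.Monic ∧
      (g : Matrix (Fin n) (Fin n) F).charpoly.natDegree = n ∧
      ∀ f, f.Monic → Irreducible f → f ∣ (g : Matrix (Fin n) (Fin n) F).charpoly → f ∣ Polynomial.X ^ r - 1 := by
    intro g hg
    refine ⟨Matrix.charpoly_monic _, by rw [Matrix.charpoly_natDegree_eq_dim, Fintype.card_fin], fun f _ hfi hfd => ?_⟩
    rw [← Matrix.charpoly_toLin'] at hfd
    obtain ⟨w, hw0, hw⟩ := Cfsg.Lib.SemisimpleSimilar.exists_ker _ hfi hfd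
    by_contra hnd
    obtain ⟨a, b, hab⟩ := hfi.coprime_iff_not_dvd.2 hnd
    refine hw0 ?_
    have h1 : Polynomial.aeval (Matrix.toLin' (g : Matrix (Fin n) (Fin n) F)) (Polynomial.X ^ r - 1 : Polynomial F) = 0 := by
      rw [map_sub, map_pow, Polynomial.aeval_X, map_one, ← Matrix.toLin'_pow, ← Units.val_pow_eq_pow_val, hg,
        Units.val_one, Matrix.toLin'_one]
      exact sub_self _
    have e := congrArg (fun P => Polynomial.aeval (Matrix.toLin' (g : Matrix (Fin n) (Fin n) F)) P w) hab
    simp only [map_add, map_mul, h1, mul_zero, add_zero, map_one, Module.End.mul_apply, hw, map_zero, Module.End.one_apply] at e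
    exact e.symm
  have hsurjT : ∀ f : T, ∃ g : GL (Fin n) F, g ^ r = 1 ∧ (g : Matrix (Fin n) (Fin n) F).charpoly = f.1 := by
    rintro ⟨f, hf, hd, hfac⟩
    have hdvd : f ∣ (Polynomial.X ^ r - 1) ^ n := by
      have hM : ∀ g ∈ UniqueFactorizationMonoid.normalizedFactors f, g ∣ Polynomial.X ^ r - 1 ∧ 0 < g.natDegree ∧ g.Monic := by
        intro g hg
        have hgi := UniqueFactorizationMonoid.irreducible_of_normalized_factor g hg
        have hgm : g.Monic := by
          rw [← UniqueFactorizationMonoid.normalize_normalized_factor g hg]; exact Polynomial.monic_normalize hgi.ne_zero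
        exact ⟨hfac g hgm hgi (UniqueFactorizationMonoid.dvd_of_mem_normalizedFactors hg), hgi.natDegree_pos, hgm⟩
      have hprod : (UniqueFactorizationMonoid.normalizedFactors f).prod = f := by
        rw [UniqueFactorizationMonoid.prod_normalizedFactors_eq hf.ne_zero, hf.normalize_eq_self]
      have hlen : (UniqueFactorizationMonoid.normalizedFactors f).card ≤ n := by
        rw [← hd, ← congrArg Polynomial.natDegree hprod,
          Polynomial.natDegree_multiset_prod_of_monic _ (fun a ha => (hM a ha).2.2)]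
        calc (UniqueFactorizationMonoid.normalizedFactors f).card
            = ((UniqueFactorizationMonoid.normalizedFactors f).map fun _ => 1).sum := by simp
          _ ≤ _ := Multiset.sum_map_le_sum_map _ _ (fun a ha => (hM a ha).2.1)
      rw [← hprod]
      refine dvd_trans ?_ (pow_dvd_pow _ hlen)
      revert hM
      generalize UniqueFactorizationMonoid.normalizedFactors f = M
      induction M using Multiset.induction with
      | empty => simp
      | cons a M ih =>
        intro hM
        rw [Multiset.prod_cons, Multiset.card_cons, pow_succ']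
        exact mul_dvd_mul (hM a (Multiset.mem_cons_self a M)).1 (ih fun g hg => hM g (Multiset.mem_cons_of_mem hg))
    have h0 : f.coeff 0 ≠ 0 := by
      intro h
      have hev := Polynomial.eval_dvd (x := 0) hdvd
      rw [← Polynomial.coeff_zero_eq_eval_zero, h, zero_dvd_iff, Polynomial.eval_pow, Polynomial.eval_sub,
        Polynomial.eval_pow, Polynomial.eval_X, zero_pow hr.ne_zero, Polynomial.eval_one] at hev
      exact pow_ne_zero n (by simp) hev
    obtain ⟨g, hg, hgf⟩ := Cfsg.Lib.SemisimpleCharpoly.exists_GL p f hf hd h0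
    refine ⟨g, ?_, hgf⟩
    obtain ⟨c, hc⟩ := hdvd
    have h1 : ((g : Matrix (Fin n) (Fin n) F) ^ r - 1) ^ n = 0 := by
      have e := congrArg (Polynomial.aeval (g : Matrix (Fin n) (Fin n) F)) hc
      rw [map_pow, map_sub, map_pow, Polynomial.aeval_X, map_one, map_mul, ← hgf, Matrix.aeval_self_charpoly,
        zero_mul] at e
      exact e
    rcases isEmpty_or_nonempty (Fin n) with hn | hn
    · exact Units.ext (Subsingleton.elim _ _)
    have h2 : ((g ^ r : GL (Fin n) F) : Matrix (Fin n) (Fin n) F) ^ p ^ n = 1 := by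
      rw [Units.val_pow_eq_pow_val]
      have h3 := pow_eq_zero_of_le (Nat.lt_pow_self hpp.one_lt).le h1
      rwa [sub_pow_char_pow_of_commute p _ (Commute.one_right _), one_pow, sub_eq_zero] at h3
    have h4 : orderOf (g ^ r) ∣ p ^ n := orderOf_dvd_of_pow_eq_one (Units.ext (by
      rw [Units.val_pow_eq_pow_val]; exact h2))
    have h5 : (orderOf (g ^ r)).Coprime (p ^ n) := Nat.Coprime.pow_right n (hg.coprime_dvd_left (orderOf_pow_dvd r))
    exact orderOf_eq_one_iff.1 (Nat.eq_one_of_dvd_coprimes h5 dvd_rfl h4)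
  have hone : ((1 : GL (Fin n) F) : Matrix (Fin n) (Fin n) F).charpoly = (Polynomial.X - Polynomial.C 1) ^ n := by
    rw [Units.val_one, ← Matrix.diagonal_one, Matrix.charpoly_diagonal, Finset.prod_const, Finset.card_univ,
      Fintype.card_fin]
  let f1 : T := ⟨_, hmem 1 (one_pow r)⟩
  have hr' : ∀ g : GL (Fin n) F, orderOf g = r → g ^ r = 1 := fun g h => h ▸ pow_orderOf_eq_one g
  let φ : {C : ConjClasses (GL (Fin n) F) // ∃ g : GL (Fin n) F, ConjClasses.mk g = C ∧ orderOf g = r} → {f : T // f ≠ f1} :=
    fun C => ⟨⟨_, hmem C.2.choose (hr' _ C.2.choose_spec.2)⟩, fun h => by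
      have hc := congrArg Subtype.val h
      have h' := C.2.choose_spec.2
      have := Cfsg.Lib.SemisimpleCharpoly.isConj_GL_of_charpoly p C.2.choose 1 (by rw [h']; exact hrcop)
        (by rw [orderOf_one]; exact Nat.coprime_one_left p) hc
      obtain ⟨u, hu⟩ := isConj_iff.1 this.symm
      rw [mul_one, mul_inv_cancel] at hu
      rw [← hu, orderOf_one] at h'
      exact hr.ne_one h'.symm⟩
  have hφ : Function.Bijective φ := by
    constructor
    · intro C D e
      apply Subtype.ext
      rw [← C.2.choose_spec.1, ← D.2.choose_spec.1, ConjClasses.mk_eq_mk_iff_isConj]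
      exact Cfsg.Lib.SemisimpleCharpoly.isConj_GL_of_charpoly p _ _ (by rw [C.2.choose_spec.2]; exact hrcop)
        (by rw [D.2.choose_spec.2]; exact hrcop) (congrArg (fun x : {f : T // f ≠ f1} => x.1.1) e)
    · rintro ⟨f, hf⟩
      obtain ⟨g, hg, hgf⟩ := hsurjT f
      have hgo : orderOf g = r := orderOf_eq_prime hg (fun h => hf (Subtype.ext (by rw [← hgf, h])))
      refine ⟨⟨ConjClasses.mk g, g, rfl, hgo⟩, Subtype.ext (Subtype.ext ?_)⟩
      have hex : ∃ g' : GL (Fin n) F, ConjClasses.mk g' = ConjClasses.mk g ∧ orderOf g' = r := ⟨g, rfl, hgo⟩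
      show (hex.choose : Matrix (Fin n) (Fin n) F).charpoly = f.1
      obtain ⟨u, hu⟩ := isConj_iff.1 (ConjClasses.mk_eq_mk_iff_isConj.1 hex.choose_spec.1)
      have e2 := congrArg (fun z : GL (Fin n) F => (z : Matrix (Fin n) (Fin n) F).charpoly) hu
      simp only [Units.val_mul, Matrix.coe_units_inv, Matrix.charpoly_units_conj] at e2
      exact e2.trans hgf
  haveI : Finite T := Nat.finite_of_card_ne_zero (by rw [hT]; exact (Nat.choose_pos (Nat.le_add_left t (n / i))).ne')
  haveI := Fintype.ofFinite T
  rw [Nat.card_eq_of_bijective φ hφ, Nat.card_eq_fintype_card, Fintype.card_subtype_compl, Fintype.card_subtype_eq,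
    ← Nat.card_eq_fintype_card, hT]

end Cfsg.Agent.S2568
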