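import Cfsg.Statements.S2570
import Cfsg.Agent.Known.UnipotentClasses

set_option autoImplicit false
open Cfsg

namespace Cfsg.Agent.S2570

/-- Number of conjugacy classes of elements of order p in GL_n over a finite field of characteristic p: they correspond to the Jordan types, that is, to the partitions of n with all parts at most p other than the partition into ones, so there are (number of partitions of n with parts ≤ p) − 1 of them. -/
theorem result {F : Type*} [Field F] [Fintype F] {p : ℕ} [Fact p.Prime] [CharP F p] (n : ℕ) : Nat.card {C : ConjClasses (GL (Fin n) F) // ∃ g : GL (Fin n) F, ConjClasses.mk g = C ∧ orderOf g = p} = (Finset.univ.filter (fun μ : Nat.Partition n => ∀ a ∈ μ.parts, a ≤ p)).card - 1 := by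
  classical
  rw [← Cfsg.Lib.UnipClasses.card_classes (F := F) (n := n) p]
  set S : Set (ConjClasses (GL (Fin n) F)) := {C | ∃ g : GL (Fin n) F, ConjClasses.mk g = C ∧
      ((g : Matrix (Fin n) (Fin n) F) - 1) ^ p = 0} with hS
  have hone : ConjClasses.mk (1 : GL (Fin n) F) ∈ S :=
    ⟨1, rfl, by rw [Units.val_one, sub_self, zero_pow (Fact.out : p.Prime).ne_zero]⟩
  have hset : {C : ConjClasses (GL (Fin n) F) | ∃ g : GL (Fin n) F, ConjClasses.mk g = C ∧ orderOf g = p} =
      S \ {ConjClasses.mk 1} := by
    rcases Nat.eq_zero_or_pos n with rfl | hn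
    · haveI : Subsingleton (GL (Fin 0) F) := ⟨fun a b => Units.ext (Subsingleton.elim _ _)⟩
      ext C
      constructor
      · rintro ⟨g, -, hg⟩
        rw [Subsingleton.elim g 1, orderOf_one] at hg
        exact absurd hg.symm (Fact.out : p.Prime).ne_one
      · rintro ⟨⟨g, rfl, -⟩, hne⟩
        exact absurd (congrArg ConjClasses.mk (Subsingleton.elim g 1)) hne
    haveI : Nonempty (Fin n) := ⟨⟨0, hn⟩⟩
    ext C
    constructor
    · rintro ⟨g, rfl, hg⟩
      refine ⟨⟨g, rfl, ?_⟩, fun e => ?_⟩
      · rw [sub_pow_char_of_commute p (Commute.one_right _), one_pow, ← Units.val_pow_eq_pow_val, ← hg,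
          pow_orderOf_eq_one, Units.val_one, sub_self]
      · obtain ⟨u, hu⟩ := isConj_iff.1 (ConjClasses.mk_eq_mk_iff_isConj.1 (Set.mem_singleton_iff.1 e).symm)
        rw [mul_one, mul_inv_cancel] at hu
        rw [← hu, orderOf_one] at hg
        exact (Fact.out : p.Prime).ne_one hg.symm
    · rintro ⟨⟨g, rfl, hg⟩, hne⟩
      refine ⟨g, rfl, orderOf_eq_prime ?_ (fun e => hne (by rw [e]; rfl))⟩
      refine Units.ext ?_
      rw [Units.val_pow_eq_pow_val, Units.val_one]
      rw [sub_pow_char_of_commute p (Commute.one_right _), one_pow, sub_eq_zero] at hg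
      exact hg
  show Nat.card ({C : ConjClasses (GL (Fin n) F) | ∃ g : GL (Fin n) F, ConjClasses.mk g = C ∧ orderOf g = p} :
    Set (ConjClasses (GL (Fin n) F))) = Nat.card S - 1
  rw [Nat.card_coe_set_eq, Nat.card_coe_set_eq, hset, Set.ncard_diff_singleton_of_mem hone]

end Cfsg.Agent.S2570
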