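import Cfsg.Statements.S2571
import Cfsg.Agent.Known.UnipotentBasics
import Cfsg.Agent.Known.RegularNilpotent
import Cfsg.Agent.Known.SLUnit

set_option autoImplicit false
open Cfsg Matrix

namespace Cfsg.Agent.S2571

/-- Centraliser of a regular unipotent element in GL_n(q): if u is an invertible n × n matrix over the field with q elements, n ≥ 1, with (u − 1)^n = 0 and rank(u − 1) = n − 1 (a single unipotent Jordan block), then its centraliser in GL_n(q) has order (q − 1) q^(n−1). -/
theorem result {F : Type*} [Field F] [Fintype F] {q n : ℕ} (hF : Fintype.card F = q) (hn : 1 ≤ n) (u : GL (Fin n) F) (hnil : ((u : Matrix (Fin n) (Fin n) F) - 1) ^ n = 0) (hreg : ((u : Matrix (Fin n) (Fin n) F) - 1).rank = n - 1) : Nat.card ↥(Subgroup.centralizer ({u} : Set (GL (Fin n) F))) = (q - 1) * q ^ (n - 1) := by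
  subst hF
  refine Cfsg.Lib.Known.Unip.card_centralizer_regular hn u ⟨n, hnil⟩ ?_
  intro h0
  set N := (u : Matrix (Fin n) (Fin n) F) - 1
  have h1 := Cfsg.Lib.Known.finrank_ker_mulVecLin_le_one N (by rw [Fintype.card_fin]; exact hreg)
  have h2 := Cfsg.Lib.Known.finrank_ker_pow_le (Matrix.toLin' N) (by rw [Matrix.toLin'_apply']; exact h1) (n - 1)
  rw [← Matrix.toLin'_pow, h0, map_zero, LinearMap.ker_zero, finrank_top, Module.finrank_fin_fun] at h2
  omega

end Cfsg.Agent.S2571
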