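import Cfsg.Statements.S2572
import Cfsg.Agent.Classical.SLExtra

set_option autoImplicit false
open Cfsg Matrix

namespace Cfsg.Agent.S2572

variable {F : Type*} [Field F]

abbrev Ix (m : ℕ) := Fin 1 ⊕ (Fin m ⊕ Fin 1)

/-- Standard shape of an element centralising a transvection. -/
def blockMat (m : ℕ) (c : F) (A : Matrix (Fin m) (Fin m) F) (r s : Fin m → F) (z : F) : Matrix (Ix m) (Ix m) F :=
  fromBlocks (diagonal fun _ => c) (Matrix.of fun _ b => Sum.elim r (fun _ => z) b) 0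
    (fromBlocks A (Matrix.of fun a _ => s a) 0 (diagonal fun _ => c))

theorem det_blockMat (m : ℕ) (c : F) (A : Matrix (Fin m) (Fin m) F) (r s : Fin m → F) (z : F) :
    (blockMat m c A r s z).det = c * (A.det * c) := by
  rw [blockMat, det_fromBlocks_zero₂₁, det_fromBlocks_zero₂₁]
  simp

def E (m : ℕ) : Matrix (Ix m) (Ix m) F := Matrix.single (Sum.inl 0) (Sum.inr (Sum.inr 0)) 1

theorem commute_E (m : ℕ) (X : Matrix (Ix m) (Ix m) F) :
    X * E m = E m * X ↔ ∃ c A r s z, X = blockMat m c A r s z := by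
  constructor
  · intro h
    have hh := fun a b => congrFun (congrFun h a) b
    refine ⟨X (Sum.inl 0) (Sum.inl 0), Matrix.of fun a b => X (Sum.inr (Sum.inl a)) (Sum.inr (Sum.inl b)),
      fun b => X (Sum.inl 0) (Sum.inr (Sum.inl b)), fun a => X (Sum.inr (Sum.inl a)) (Sum.inr (Sum.inr 0)),
      X (Sum.inl 0) (Sum.inr (Sum.inr 0)), ?_⟩
    have hcol : ∀ a, a ≠ Sum.inl 0 → X a (Sum.inl 0) = 0 := by
      intro a ha
      simpa [E, Matrix.mul_single_apply_same, Matrix.single_mul_apply_of_ne, ha] using hh a (Sum.inr (Sum.inr 0))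
    have hrow : ∀ b, b ≠ Sum.inr (Sum.inr 0) → X (Sum.inr (Sum.inr 0)) b = 0 := by
      intro b hb
      simpa [E, Matrix.single_mul_apply_same, Matrix.mul_single_apply_of_ne, hb] using (hh (Sum.inl 0) b).symm
    have hd : X (Sum.inl 0) (Sum.inl 0) = X (Sum.inr (Sum.inr 0)) (Sum.inr (Sum.inr 0)) := by
      simpa [E, Matrix.mul_single_apply_same, Matrix.single_mul_apply_same] using hh (Sum.inl 0) (Sum.inr (Sum.inr 0))
    ext a b
    rcases a with a | a | a <;> rcases b with b | b | b <;>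
      (try obtain rfl := Subsingleton.elim a (0 : Fin 1)) <;> (try obtain rfl := Subsingleton.elim b (0 : Fin 1)) <;>
      simp [blockMat, hd] <;> (try exact hd.symm)
    all_goals first
      | exact hcol _ (by simp)
      | exact hrow _ (by simp)
  · rintro ⟨c, A, r, s, z, rfl⟩
    ext a b
    rcases a with a | a | a <;> rcases b with b | b | b <;>
      (try obtain rfl := Subsingleton.elim a (0 : Fin 1)) <;> (try obtain rfl := Subsingleton.elim b (0 : Fin 1)) <;>
      simp [E, blockMat, Matrix.mul_apply, Matrix.single_apply, Fintype.sum_sum_type]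

theorem card_centralizer_E [Fintype F] (m : ℕ) (t : GL (Ix m) F) (ht : (t : Matrix (Ix m) (Ix m) F) = 1 + E m) :
    Nat.card ↥(Subgroup.centralizer ({t} : Set (GL (Ix m) F))) =
      (Fintype.card F - 1) * (∏ i : Fin m, (Fintype.card F ^ m - Fintype.card F ^ (i : ℕ))) *
        (Fintype.card F ^ m * Fintype.card F ^ m * Fintype.card F) := by
  classical
  have hmem : ∀ X : GL (Ix m) F, X ∈ Subgroup.centralizer ({t} : Set (GL (Ix m) F)) ↔ (X : Matrix (Ix m) (Ix m) F) * E m = (E m : Matrix (Ix m) (Ix m) F) * (X : Matrix (Ix m) (Ix m) F) := by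
    intro X
    rw [Subgroup.mem_centralizer_singleton_iff, ← Units.val_inj, Units.val_mul, Units.val_mul, ht, mul_add, add_mul, mul_one,
      one_mul, add_right_inj]
  let P := {c : F // c ≠ 0} × GL (Fin m) F × (Fin m → F) × (Fin m → F) × F
  have hu : ∀ x : P, IsUnit (blockMat m x.1.1 (x.2.1 : Matrix (Fin m) (Fin m) F) x.2.2.1 x.2.2.2.1 x.2.2.2.2) := fun x => by
    rw [Matrix.isUnit_iff_isUnit_det, det_blockMat, isUnit_iff_ne_zero]
    exact mul_ne_zero x.1.2 (mul_ne_zero ((Matrix.isUnit_iff_isUnit_det _).1 x.2.1.isUnit).ne_zero x.1.2)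
  let φ : P → ↥(Subgroup.centralizer ({t} : Set (GL (Ix m) F))) := fun x =>
    ⟨(hu x).unit, (hmem _).2 ((commute_E m _).2 ⟨_, _, _, _, _, rfl⟩)⟩
  have hφ : Function.Bijective φ := by
    constructor
    · rintro ⟨⟨c, hc⟩, A, r, s, z⟩ ⟨⟨c', hc'⟩, A', r', s', z'⟩ h
      have h' : blockMat m c (A : Matrix (Fin m) (Fin m) F) r s z = blockMat m c' (A' : Matrix (Fin m) (Fin m) F) r' s' z' :=
        congrArg (fun X : ↥(Subgroup.centralizer ({t} : Set (GL (Ix m) F))) => ((X.1 : GL (Ix m) F) : Matrix (Ix m) (Ix m) F)) h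
      have e := fun a b => congrFun (congrFun h' a) b
      have ec : c = c' := by simpa [blockMat] using e (Sum.inl 0) (Sum.inl 0)
      have eA : A = A' := Units.ext (Matrix.ext fun a b => by simpa [blockMat] using e (Sum.inr (Sum.inl a)) (Sum.inr (Sum.inl b)))
      have er : r = r' := funext fun b => by simpa [blockMat] using e (Sum.inl 0) (Sum.inr (Sum.inl b))
      have es : s = s' := funext fun a => by simpa [blockMat] using e (Sum.inr (Sum.inl a)) (Sum.inr (Sum.inr 0))
      have ez : z = z' := by simpa [blockMat] using e (Sum.inl 0) (Sum.inr (Sum.inr 0))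
      subst ec; subst eA; subst er; subst es; subst ez; rfl
    · rintro ⟨X, hX⟩
      obtain ⟨c, A, r, s, z, hb⟩ := (commute_E m _).1 ((hmem X).1 hX)
      have hd := ((Matrix.isUnit_iff_isUnit_det _).1 X.isUnit).ne_zero
      rw [show ((X : GL (Ix m) F) : Matrix (Ix m) (Ix m) F) = blockMat m c A r s z from hb, det_blockMat] at hd
      have hc : c ≠ 0 := left_ne_zero_of_mul hd
      have hA : IsUnit A := (Matrix.isUnit_iff_isUnit_det _).2 (isUnit_iff_ne_zero.2 (left_ne_zero_of_mul (right_ne_zero_of_mul hd)))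
      exact ⟨(⟨c, hc⟩, hA.unit, r, s, z), Subtype.ext (Units.ext hb.symm)⟩
  rw [← Nat.card_eq_of_bijective φ hφ]
  simp only [P]
  rw [Nat.card_prod, Nat.card_prod, Nat.card_prod, Nat.card_prod, Nat.card_fun, Matrix.card_GL_field, Nat.card_fin,
    Nat.card_eq_fintype_card, Nat.card_eq_fintype_card (α := F), Fintype.card_subtype_compl, Fintype.card_subtype_eq]
  ring

theorem to_standard {n : ℕ} (hn : 2 ≤ n) (i j : Fin n) (hij : i ≠ j) (v : Fin n → F) (hv : v ≠ 0) (hvi : v i = 0) :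
    ∃ h : GL (Fin n) F, Pi.single i (1 : F) ᵥ* (h : Matrix (Fin n) (Fin n) F) = Pi.single i 1 ∧
      (h : Matrix (Fin n) (Fin n) F) *ᵥ Pi.single j 1 = v := by
  have key : ∀ w : Fin n → F, w j ≠ 0 → w i = 0 →
      ∃ h : GL (Fin n) F, Pi.single i (1 : F) ᵥ* (h : Matrix (Fin n) (Fin n) F) = Pi.single i 1 ∧
      (h : Matrix (Fin n) (Fin n) F) *ᵥ Pi.single j 1 = w := by
    intro w hwj hwi
    have hu : IsUnit (Matrix.updateCol (1 : Matrix (Fin n) (Fin n) F) j w) := by
      rw [Matrix.isUnit_iff_isUnit_det, ← cramer_apply, cramer_one]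
      exact isUnit_iff_ne_zero.2 hwj
    refine ⟨hu.unit, ?_, ?_⟩
    · rw [IsUnit.unit_spec]
      ext k
      simp only [single_one_vecMul, Matrix.row_apply, updateCol_apply, one_apply, Pi.single_apply]
      by_cases hkj : k = j
      · subst hkj; simp [hwi, Ne.symm hij]
      · simp [hkj, eq_comm]
    · rw [IsUnit.unit_spec]
      ext k
      simp [mulVec_single_one, col_apply, updateCol_apply]
  by_cases hvj : v j ≠ 0
  · exact key v hvj hvi
  · push Not at hvj
    obtain ⟨k, hk⟩ := Function.ne_iff.mp hv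
    have hkj : k ≠ j := fun h => hk (by simp [h, hvj])
    obtain ⟨h, h1, h2⟩ := key (Matrix.transvection j k (1 : F) *ᵥ v)
      (by simpa [transvection, add_mulVec, hvj, single_mulVec] using hk)
      (by simp [transvection, add_mulVec, hvi, single_mulVec, hij])
    have hu : IsUnit (Matrix.transvection j k (-1 : F)) := by
      rw [Matrix.isUnit_iff_isUnit_det, det_transvection_of_ne _ _ (Ne.symm hkj)]; exact isUnit_one
    refine ⟨hu.unit * h, ?_, ?_⟩
    · rw [Units.val_mul, IsUnit.unit_spec, ← vecMul_vecMul]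
      rw [show (Pi.single i (1 : F)) ᵥ* Matrix.transvection j k (-1 : F) = Pi.single i 1 by
        ext l; simp [transvection, vecMul_add, Pi.single_apply, hij, eq_comm]]
      exact h1
    · rw [Units.val_mul, IsUnit.unit_spec, ← mulVec_mulVec, h2, mulVec_mulVec,
        transvection_mul_transvection_same _ _ (Ne.symm hkj)]
      simp [transvection_zero]

/-- Centraliser of a transvection in GL_n(q), n ≥ 2: if t − 1 has rank one and square zero, the centraliser of t in GL_n(q) has order q^(2n−3) (q − 1) |GL_(n−2)(q)| (a group of order q^(2n−3) extended by GL_1(q) × GL_(n−2)(q)). -/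
theorem result {F : Type*} [Field F] [Fintype F] {q n : ℕ} (hF : Fintype.card F = q) (hn : 2 ≤ n) (t : GL (Fin n) F) (ht : Cfsg.IsTransvection (t : Matrix (Fin n) (Fin n) F)) : Nat.card ↥(Subgroup.centralizer ({t} : Set (GL (Fin n) F))) = q ^ (2 * n - 3) * (q - 1) * ∏ i : Fin (n - 2), (q ^ (n - 2) - q ^ (i : ℕ)) := by
  subst hF
  obtain ⟨m, rfl⟩ : ∃ m, n = m + 2 := ⟨n - 2, by omega⟩
  haveI : Nontrivial (Fin (m + 2)) := ⟨0, Fin.last _, by simp [Fin.ext_iff]⟩
  have hdet : (t : Matrix (Fin (m + 2)) (Fin (m + 2)) F).det = 1 := by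
    obtain ⟨v, w, -, -, hM⟩ := Cfsg.Lib.Classical.exists_vecMulVec_of_rank_eq_one ht.1
    have h2 := ht.2
    have hnil : IsNilpotent ((t : Matrix (Fin (m + 2)) (Fin (m + 2)) F) - 1) := ⟨2, by rw [pow_two, h2]⟩
    have hwv : (w ⬝ᵥ v) = 0 := by
      have h3 := isNilpotent_trace_of_isNilpotent hnil
      rw [hM, trace_vecMulVec, dotProduct_comm] at h3
      exact h3.eq_zero
    rw [eq_add_of_sub_eq' hM, vecMulVec_eq Unit, det_one_add_replicateCol_mul_replicateRow, hwv, add_zero]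
  obtain ⟨T, hT⟩ : ∃ T : Matrix.SpecialLinearGroup (Fin (m + 2)) F, (T : Matrix (Fin (m + 2)) (Fin (m + 2)) F) = t := ⟨⟨_, hdet⟩, rfl⟩
  have hTr : ((T : Matrix (Fin (m + 2)) (Fin (m + 2)) F) - 1).rank = 1 := by rw [hT]; exact ht.1
  have hTs : ((T : Matrix (Fin (m + 2)) (Fin (m + 2)) F) - 1) * ((T : Matrix (Fin (m + 2)) (Fin (m + 2)) F) - 1) = 0 := by rw [hT]; exact ht.2
  let e : Fin (m + 2) ≃ Ix m := (finCongr (by omega)).trans (finSumFinEquiv.symm.trans (Equiv.sumCongr (Equiv.refl (Fin 1)) finSumFinEquiv.symm))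
  set j := e.symm (Sum.inl 0) with hj
  set i := e.symm (Sum.inr (Sum.inr 0)) with hi
  have hij : i ≠ j := fun h => by simpa using e.symm.injective h
  obtain ⟨g, v, hvi, hv, hg⟩ := Cfsg.Lib.Classical.exists_conj_transvection i T hTr hTs
  obtain ⟨h, h1, h2⟩ := to_standard (by omega) i j hij v hv hvi
  obtain ⟨gU, hgU⟩ : ∃ gU : GL (Fin (m + 2)) F, gU = Matrix.SpecialLinearGroup.toGL g := ⟨_, rfl⟩
  let R : GL (Fin (m + 2)) F ≃* GL (Ix m) F := Units.mapEquiv (Matrix.reindexAlgEquiv F F e).toMulEquiv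
  let Φ : GL (Fin (m + 2)) F ≃* GL (Ix m) F := (MulAut.conj (gU * h)⁻¹).trans R
  have hconj : (((gU * h)⁻¹ * t * (gU * h) : GL (Fin (m + 2)) F) : Matrix (Fin (m + 2)) (Fin (m + 2)) F) = 1 + Matrix.single j i 1 := by
    have e1 : (gU⁻¹ * t * gU : GL (Fin (m + 2)) F) = Matrix.SpecialLinearGroup.toGL (g⁻¹ * T * g) := by
      have et : t = Matrix.SpecialLinearGroup.toGL T := Units.ext hT.symm
      rw [map_mul, map_mul, map_inv, hgU, et]
    rw [show (gU * h)⁻¹ * t * (gU * h) = h⁻¹ * (gU⁻¹ * t * gU) * h by group, e1, Units.val_mul, Units.val_mul]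
    change ((h⁻¹ : GL (Fin (m + 2)) F) : Matrix (Fin (m + 2)) (Fin (m + 2)) F) * ((g⁻¹ * T * g : Matrix.SpecialLinearGroup (Fin (m + 2)) F) : Matrix (Fin (m + 2)) (Fin (m + 2)) F) * _ = _
    rw [hg, mul_assoc]
    have e2 : (1 + vecMulVec v (Pi.single i 1)) * (h : Matrix (Fin (m + 2)) (Fin (m + 2)) F) = (h : Matrix (Fin (m + 2)) (Fin (m + 2)) F) * (1 + Matrix.single j i 1) := by
      rw [single_eq_single_vecMulVec_single, mul_add, add_mul, mul_one, one_mul, mul_vecMulVec, h2, vecMulVec_mul, h1]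
    rw [e2, ← mul_assoc, Units.inv_mul, one_mul]
  have hΦ : ((Φ t : GL (Ix m) F) : Matrix (Ix m) (Ix m) F) = 1 + E m := by
    change Matrix.reindexAlgEquiv F F e (((MulAut.conj (gU * h)⁻¹) t : GL (Fin (m + 2)) F) : Matrix (Fin (m + 2)) (Fin (m + 2)) F) = _
    rw [MulAut.conj_apply, inv_inv, hconj, map_add, map_one]
    congr 1
    ext a b
    simp [E, Matrix.single_apply, hi, hj, Equiv.eq_symm_apply]
  have hc : Nat.card ↥(Subgroup.centralizer ({t} : Set (GL (Fin (m + 2)) F))) = Nat.card ↥(Subgroup.centralizer ({Φ t} : Set (GL (Ix m) F))) := by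
    refine Nat.card_congr (Φ.toEquiv.subtypeEquiv fun x => ?_)
    change x ∈ Subgroup.centralizer _ ↔ Φ x ∈ Subgroup.centralizer _
    rw [Subgroup.mem_centralizer_singleton_iff, Subgroup.mem_centralizer_singleton_iff, ← map_mul, ← map_mul, Φ.apply_eq_iff_eq]
  rw [hc, card_centralizer_E m _ hΦ, show 2 * (m + 2) - 3 = m + m + 1 by omega, pow_succ, pow_add]
  have key : ∀ k, k = m → (∏ i : Fin k, (Fintype.card F ^ k - Fintype.card F ^ (i : ℕ))) =
      ∏ i : Fin m, (Fintype.card F ^ m - Fintype.card F ^ (i : ℕ)) := by rintro k rfl; rfl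
  rw [key _ (Nat.add_sub_cancel m 2)]
  ring

end Cfsg.Agent.S2572
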