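import Cfsg.Agent.Known.RegularNilpotent
import Cfsg.Statements.S2574
import Mathlib

set_option autoImplicit false
open Cfsg
open Matrix

namespace Cfsg.Agent.S2574

/-- A regular unipotent element of the symplectic group has totally isotropic small invariant subspaces: over a finite field, if u ∈ Sp_2m(F) satisfies (u − 1)^(2m) = 0 and rank(u − 1) = 2m − 1, and W is a u-invariant subspace with 2 dim W ≤ 2m, then the alternating form vanishes identically on W. -/
theorem result {F : Type*} [Field F] [Finite F] {m : ℕ} (u : Matrix.symplecticGroup (Fin m) F) (hnil : ((u : Matrix (Fin m ⊕ Fin m) (Fin m ⊕ Fin m) F) - 1) ^ (2 * m) = 0) (hreg : ((u : Matrix (Fin m ⊕ Fin m) (Fin m ⊕ Fin m) F) - 1).rank = 2 * m - 1) (W : Submodule F (Fin m ⊕ Fin m → F)) (hW : ∀ v ∈ W, (u : Matrix (Fin m ⊕ Fin m) (Fin m ⊕ Fin m) F).mulVec v ∈ W) (hdim : 2 * Module.finrank F W ≤ 2 * m) : ∀ v ∈ W, ∀ w ∈ W, Cfsg.sympForm m F v w = 0 :=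
  by
  classical
  obtain ⟨U, hU⟩ := u
  set d := Module.finrank F W with hd
  set f := (U - 1).mulVecLin with hf
  have hn : Module.finrank F (Fin m ⊕ Fin m → F) = 2 * m := by
    rw [Module.finrank_fintype_fun_eq_card, Fintype.card_sum, Fintype.card_fin, two_mul]
  have h1 : f ^ (2 * m) = 0 := by
    rw [hf, ← Matrix.toLin'_apply' (U - 1), ← Matrix.toLin'_pow, hnil, map_zero]
  have h2 : Module.finrank F (LinearMap.ker f) ≤ 1 :=
    Cfsg.Lib.Known.finrank_ker_mulVecLin_le_one _ (by rw [hreg, Fintype.card_sum, Fintype.card_fin, two_mul])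
  have hfapp : ∀ v, f v = U *ᵥ v - v := fun v => by
    rw [hf, Matrix.mulVecLin_apply, Matrix.sub_mulVec, Matrix.one_mulVec]
  have h3 : W = LinearMap.ker (f ^ d) := Cfsg.Lib.Known.eq_ker_pow_of_invariant f ⟨2 * m, h1⟩ h2 W
    fun v hv => by rw [hfapp]; exact W.sub_mem (hW v hv) hv
  have h4 := Cfsg.Lib.Known.ker_pow_eq_range_pow f hn h1 h2 (d := d) (by omega)
  have hJ : Uᵀ * Matrix.J (Fin m) F * U = Matrix.J (Fin m) F := SymplecticGroup.mem_iff'.1 hU
  have hpres : ∀ a b, sympForm m F (U *ᵥ a) (U *ᵥ b) = sympForm m F a b := fun a b => by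
    simp only [sympForm]
    rw [Matrix.mulVec_mulVec, ← Matrix.vecMul_transpose, ← Matrix.dotProduct_mulVec, Matrix.mulVec_mulVec,
      ← mul_assoc, hJ]
  have hsubl : ∀ a a' b, sympForm m F (a - a') b = sympForm m F a b - sympForm m F a' b := fun a a' b =>
    sub_dotProduct a a' _
  have hsubr : ∀ a b b', sympForm m F a (b - b') = sympForm m F a b - sympForm m F a b' := fun a b b' => by
    simp only [sympForm, Matrix.mulVec_sub, dotProduct_sub]
  have hunit : IsUnit U.det := SymplecticGroup.symplectic_det hU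
  have hkey : ∀ (j : ℕ) (a w : Fin m ⊕ Fin m → F), (f ^ j) w = 0 → sympForm m F ((f ^ j) a) w = 0 := by
    intro j
    induction j with
    | zero =>
      intro a w hw
      rw [pow_zero, Module.End.one_apply] at hw
      subst hw
      simp [sympForm]
    | succ j ih =>
      intro a w hw
      set w' := U⁻¹ *ᵥ w with hw'
      have e1 : w = U *ᵥ w' := by rw [hw', Matrix.mulVec_mulVec, Matrix.mul_nonsing_inv U hunit, Matrix.one_mulVec]
      have hcomm : ∀ (k : ℕ) v, (f ^ k) (U *ᵥ v) = U *ᵥ (f ^ k) v := by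
        intro k
        induction k with
        | zero => intro v; rfl
        | succ k ihk =>
          intro v
          rw [pow_succ, Module.End.mul_apply, Module.End.mul_apply, ← ihk, hfapp, hfapp, Matrix.mulVec_sub]
      have e2 : (f ^ (j + 1)) w' = 0 := by
        refine Matrix.mulVec_injective_iff_isUnit.2 ((Matrix.isUnit_iff_isUnit_det U).2 hunit) ?_
        change U *ᵥ (f ^ (j + 1)) w' = U *ᵥ 0
        rw [← hcomm, ← e1, hw, Matrix.mulVec_zero]
      rw [pow_succ, Module.End.mul_apply] at e2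
      rw [pow_succ', Module.End.mul_apply]
      have e3 := ih a (f w') e2
      rw [hfapp, e1, hsubr] at *
      rw [hsubl, hpres]
      linear_combination -e3
  intro v hv w hw
  rw [h3, h4] at hv
  obtain ⟨a, rfl⟩ := hv
  refine hkey _ a w ?_
  rw [h3] at hw
  rw [show 2 * m - d = (2 * m - d - d) + d by omega, pow_add, Module.End.mul_apply,
    show (f ^ d) w = 0 from hw, map_zero]

end Cfsg.Agent.S2574
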