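import Cfsg.Statements.S2578
import Cfsg.Agent.Known.UnipotentClasses

set_option autoImplicit false
open Cfsg

namespace Cfsg.Agent.S2578

open Matrix Cfsg.Lib.UnipClasses

variable {F : Type*} [Field F] {n : ℕ}

/-- One chain. -/
def Jn (F : Type*) [Field F] (n : ℕ) : Matrix (Fin n) (Fin n) F := fun r c => if r.val = c.val + 1 then 1 else 0

/-- Numbering of the single chain. -/
def emb (n : ℕ) : Fin n ≃ Σ _ : Fin 1, Fin n :=
  { toFun := fun r => ⟨0, r⟩, invFun := fun z => z.2, left_inv := fun _ => rfl,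
    right_inv := fun z => by obtain ⟨i, r⟩ := z; rw [Subsingleton.elim i 0] }

theorem Jn_eq : Jn F n = (Cfsg.Lib.UnipClasses.J (fun _ : Fin 1 => n) : Matrix _ _ F).submatrix (emb n) (emb n) := by
  ext r c
  simp [Jn, Cfsg.Lib.UnipClasses.J, emb]

theorem Jn_pow_eq_zero : Jn F n ^ n = 0 := by
  have e : ∀ M : Matrix (Σ _ : Fin 1, Fin n) (Σ _ : Fin 1, Fin n) F,
      M.submatrix (emb n) (emb n) = Matrix.reindexAlgEquiv F F (emb n).symm M := fun M => rfl
  rw [Jn_eq, e, ← map_pow, J_pow_eq_zero _ (fun _ => le_rfl), map_zero]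

theorem card_ker_rank [Finite F] (M : Matrix (Fin n) (Fin n) F) :
    Nat.card {v : Fin n → F // M *ᵥ v = 0} = Nat.card F ^ (n - M.rank) := by
  have h := LinearMap.finrank_range_add_finrank_ker M.mulVecLin
  rw [Module.finrank_fin_fun] at h
  rw [show n - M.rank = Module.finrank F (LinearMap.ker M.mulVecLin) by rw [Matrix.rank]; omega,
    ← Module.natCard_eq_pow_finrank (K := F)]
  exact Nat.card_congr (Equiv.subtypeEquivRight fun v => by simp)

theorem rank_Jn [Finite F] (hn : 1 ≤ n) : (Jn F n).rank = n - 1 := by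
  have h1 : Nat.card {v : Fin n → F // Jn F n *ᵥ v = 0} = Nat.card F ^ 1 := by
    have h := card_ker (F := F) (fun _ : Fin 1 => n) 1
    rw [Fin.sum_univ_one, Nat.min_eq_left hn] at h
    rw [← h]
    refine Nat.card_congr ((Equiv.arrowCongr (emb n) (Equiv.refl F)).subtypeEquiv fun v => ?_)
    rw [Jn_eq, submatrix_mulVec_equiv, pow_one]
    constructor
    · intro h; funext x; have := congrFun h ((emb n).symm x); simpa [Function.comp_def, Equiv.arrowCongr] using this
    · intro h; funext x; have := congrFun h (emb n x); simpa [Function.comp_def, Equiv.arrowCongr] using this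
  rw [card_ker_rank] at h1
  have := Nat.pow_right_injective (Finite.one_lt_card : 1 < Nat.card F) h1
  have := (Jn F n).rank_le_width
  omega

/-- A regular nilpotent matrix is similar to one chain. -/
theorem exists_Jn [Finite F] (N : Matrix (Fin n) (Fin n) F) (hn : 1 ≤ n) (hN : N ^ n = 0) (hr : N.rank = n - 1) :
    ∃ P : GL (Fin n) F, N * (P : Matrix (Fin n) (Fin n) F) = (P : Matrix (Fin n) (Fin n) F) * Jn F n := by
  obtain ⟨μ, P, -, hP⟩ := exists_std N hN
  have h1 : Nat.card {v : Fin n → F // std F μ ^ 1 *ᵥ v = 0} = Nat.card {v : Fin n → F // N *ᵥ v = 0} := by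
    rw [pow_one]
    exact Nat.card_congr
      { toFun := fun v => ⟨(P : Matrix (Fin n) (Fin n) F) *ᵥ v.1, by
          rw [mulVec_mulVec, hP, ← mulVec_mulVec, v.2, mulVec_zero]⟩
        invFun := fun v => ⟨((P⁻¹ : GL (Fin n) F) : Matrix (Fin n) (Fin n) F) *ᵥ v.1, by
          have e : std F μ * ((P⁻¹ : GL (Fin n) F) : Matrix (Fin n) (Fin n) F) =
              ((P⁻¹ : GL (Fin n) F) : Matrix (Fin n) (Fin n) F) * N := by
            rw [Units.mul_inv_eq_iff_eq_mul, mul_assoc, hP, ← mul_assoc, Units.inv_mul, one_mul]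
          rw [mulVec_mulVec, e, ← mulVec_mulVec, v.2, mulVec_zero]⟩
        left_inv := fun v => Subtype.ext (by simp only; rw [mulVec_mulVec, Units.inv_mul, one_mulVec])
        right_inv := fun v => Subtype.ext (by simp only; rw [mulVec_mulVec, Units.mul_inv, one_mulVec]) }
  rw [card_ker_std, card_ker_rank, hr, show n - (n - 1) = 1 by omega] at h1
  have h2 := Nat.pow_right_injective (Finite.one_lt_card : 1 < Nat.card F) h1
  have h3 : μ.parts.toList.length = 1 := by
    rw [Finset.sum_congr rfl (fun i _ => Nat.min_eq_left (μ.parts_pos (lens_mem μ i)))] at h2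
    simpa using h2
  have h4 : Finset.univ.val.map (lens μ) = Finset.univ.val.map (fun _ : Fin 1 => n) := by
    rw [Multiset.length_toList] at h3
    obtain ⟨a, ha⟩ := Multiset.card_eq_one.1 h3
    have := μ.parts_sum
    rw [ha, Multiset.sum_singleton] at this
    rw [map_lens, ha, this]
    rfl
  obtain ⟨s, hs⟩ := exists_equiv (F := F) (lens μ) (fun _ : Fin 1 => n) h4
  let ε := Fintype.equivFinOfCardEq (card_lens μ)
  let r : Fin n ≃ Fin n := (ε.symm.trans s).trans (emb n).symm
  have e : std F μ = (Jn F n).submatrix r r := by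
    rw [std, hs, Jn_eq, Matrix.submatrix_submatrix, Matrix.submatrix_submatrix]
    ext x y
    simp [r, ε]
  refine ⟨(IsUnit.unit (a := (P : Matrix (Fin n) (Fin n) F).submatrix id r.symm) ?_), ?_⟩
  · rw [Matrix.isUnit_iff_isUnit_det, Matrix.det_permute']
    exact ((Int.isUnit_iff.2 (Int.units_eq_one_or _ |>.imp (congrArg Units.val) (congrArg Units.val))).map (Int.castRingHom F)).mul
      ((Matrix.isUnit_iff_isUnit_det _).1 P.isUnit)
  · rw [IsUnit.unit_spec]
    rw [show N * (P : Matrix (Fin n) (Fin n) F).submatrix id r.symm = (N * (P : Matrix (Fin n) (Fin n) F)).submatrix id r.symm from rfl, hP, e]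
    ext x y
    simp only [Matrix.submatrix_apply, Matrix.mul_apply, id]
    exact Fintype.sum_equiv r _ _ fun z => by simp

/-- The centraliser of one chain has `n`-th powers as determinants. -/
theorem det_of_commute (hn : 1 ≤ n) (y : Matrix (Fin n) (Fin n) F) (h : y * Jn F n = Jn F n * y) :
    y.det = y ⟨0, by omega⟩ ⟨0, by omega⟩ ^ n := by
  have key : ∀ (r c : Fin n) (hc : c.val + 1 < n),
      y r ⟨c.val + 1, hc⟩ = if hr : 1 ≤ r.val then y ⟨r.val - 1, by omega⟩ c else 0 := by
    intro r c hc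
    have e := congrFun (congrFun h r) c
    rw [Matrix.mul_apply, Matrix.mul_apply, Finset.sum_eq_single (⟨c.val + 1, hc⟩ : Fin n)] at e
    · rw [Jn, if_pos rfl, mul_one] at e
      rw [e]
      split_ifs with hr
      · rw [Finset.sum_eq_single (⟨r.val - 1, by omega⟩ : Fin n)]
        · rw [Jn, if_pos (by show r.val = r.val - 1 + 1; omega), one_mul]
        · intro z _ hz
          rw [Jn, if_neg, zero_mul]
          intro e'; apply hz; exact Fin.ext (by show z.val = r.val - 1; omega)
        · simp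
      · refine Finset.sum_eq_zero fun z _ => ?_
        rw [Jn, if_neg (by omega), zero_mul]
    · intro z _ hz
      rw [Jn, if_neg, mul_zero]
      intro e'; exact hz (Fin.ext e')
    · simp
  have main : ∀ (c : ℕ) (hc : c < n), (∀ r : Fin n, r.val < c → y r ⟨c, hc⟩ = 0) ∧
      y ⟨c, hc⟩ ⟨c, hc⟩ = y ⟨0, by omega⟩ ⟨0, by omega⟩ := by
    intro c
    induction c with
    | zero => exact fun hc => ⟨fun r hr => absurd hr (by omega), rfl⟩
    | succ c ih =>
      intro hc
      obtain ⟨ih1, ih2⟩ := ih (by omega)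
      refine ⟨fun r hr => ?_, ?_⟩
      · rw [key r ⟨c, by omega⟩ hc]
        split_ifs with h1
        · exact ih1 _ (by show r.val - 1 < c; omega)
        · rfl
      · rw [key ⟨c + 1, hc⟩ ⟨c, by omega⟩ hc, dif_pos (by show 1 ≤ c + 1; omega)]
        exact ih2
  have hlow : y.BlockTriangular OrderDual.toDual := fun r c hrc =>
    (main c.val c.isLt).1 r (OrderDual.toDual_lt_toDual.1 hrc)
  rw [Matrix.det_of_isLowerTriangular y hlow]
  calc ∏ i : Fin n, y i i = ∏ _i : Fin n, y ⟨0, by omega⟩ ⟨0, by omega⟩ :=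
        Finset.prod_congr rfl fun i _ => (main i.val i.isLt).2
    _ = y ⟨0, by omega⟩ ⟨0, by omega⟩ ^ n := by rw [Fin.prod_const]


/-- Regular unipotent classes of SL_n(q): for n ≥ 2 over the field with q elements, the matrices u of determinant one with (u − 1)^n = 0 and rank(u − 1) = n − 1 form a single GL_n(q)-class which splits into exactly gcd(n, q − 1) conjugacy classes of SL_n(q). -/
theorem result {F : Type*} [Field F] [Fintype F] {q : ℕ} (hF : Fintype.card F = q) {n : ℕ} (hn : 2 ≤ n) : Nat.card {C : ConjClasses (Matrix.SpecialLinearGroup (Fin n) F) // ∃ u : Matrix.SpecialLinearGroup (Fin n) F, ConjClasses.mk u = C ∧ ((u : Matrix (Fin n) (Fin n) F) - 1) ^ n = 0 ∧ ((u : Matrix (Fin n) (Fin n) F) - 1).rank = n - 1} = Nat.gcd n (q - 1) := by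
  classical
  subst hF
  have hn1 : 1 ≤ n := by omega
  haveI : Nonempty (Fin n) := ⟨⟨0, hn1⟩⟩
  let i0 : Fin n := ⟨0, hn1⟩
  let D : Fˣ → GL (Fin n) F := fun a => Matrix.GeneralLinearGroup.mkOfDetNeZero
    (Matrix.diagonal (Function.update (fun _ => (1 : F)) i0 (a : F)))
    (by rw [Matrix.det_diagonal, Finset.prod_update_of_mem (Finset.mem_univ _)]; simp)
  have hD : ∀ a, ((D a : GL (Fin n) F) : Matrix (Fin n) (Fin n) F).det = (a : F) := fun a => by
    show (Matrix.diagonal (Function.update (fun _ => (1 : F)) i0 (a : F))).det = _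
    rw [Matrix.det_diagonal, Finset.prod_update_of_mem (Finset.mem_univ _)]; simp
  have hU : IsUnit (1 + Jn F n) := IsNilpotent.isUnit_one_add ⟨n, Jn_pow_eq_zero⟩
  let U := hU.unit
  have hUdet : ((U : GL (Fin n) F) : Matrix (Fin n) (Fin n) F).det = 1 := by
    have hlow : (1 + Jn F n).BlockTriangular OrderDual.toDual := fun r c hrc => by
      have h := OrderDual.toDual_lt_toDual.1 hrc
      have h' := Fin.lt_def.1 h
      rw [Matrix.add_apply, Matrix.one_apply_ne h.ne, Jn, if_neg (by omega), add_zero]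
    show (hU.unit : Matrix (Fin n) (Fin n) F).det = 1
    rw [IsUnit.unit_spec, Matrix.det_of_isLowerTriangular _ hlow]
    exact Finset.prod_eq_one fun i _ => by simp [Jn]
  have hconj : ∀ P : GL (Fin n) F, ((P * U * P⁻¹ : GL (Fin n) F) : Matrix (Fin n) (Fin n) F).det = 1 := fun P => by
    rw [Units.val_mul, Units.val_mul, Matrix.det_mul_right_comm, ← Matrix.det_mul_right_comm, Matrix.det_mul,
      Matrix.det_mul, hUdet, mul_one, ← Matrix.det_mul, Units.mul_inv, Matrix.det_one]
  let T : GL (Fin n) F → Matrix.SpecialLinearGroup (Fin n) F := fun P => ⟨_, hconj P⟩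
  have hT : ∀ P, Matrix.SpecialLinearGroup.toGL (T P) = P * U * P⁻¹ := fun P => Units.ext rfl
  have hreg : ∀ P, ((T P : Matrix (Fin n) (Fin n) F) - 1) ^ n = 0 ∧ ((T P : Matrix (Fin n) (Fin n) F) - 1).rank = n - 1 := by
    intro P
    have e : (T P : Matrix (Fin n) (Fin n) F) - 1 =
        (P : Matrix (Fin n) (Fin n) F) * Jn F n * ((P⁻¹ : GL (Fin n) F) : Matrix (Fin n) (Fin n) F) := by
      show (P : Matrix (Fin n) (Fin n) F) * (hU.unit : Matrix (Fin n) (Fin n) F) * ((P⁻¹ : GL (Fin n) F) : Matrix (Fin n) (Fin n) F) - 1 = _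
      rw [IsUnit.unit_spec, mul_add, mul_one, add_mul, Units.mul_inv, add_sub_cancel_left]
    rw [e]
    refine ⟨?_, ?_⟩
    · rw [Units.conj_pow, Jn_pow_eq_zero, mul_zero, zero_mul]
    · rw [Matrix.rank_mul_eq_left_of_isUnit_det _ _ ((Matrix.isUnit_iff_isUnit_det _).1 (P⁻¹).isUnit),
        Matrix.rank_mul_eq_right_of_isUnit_det _ _ ((Matrix.isUnit_iff_isUnit_det _).1 P.isUnit), rank_Jn hn1]
  have same : ∀ (P : GL (Fin n) F) (a c : Fˣ), (P : Matrix (Fin n) (Fin n) F).det = (a : F) * (c : F) ^ n →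
      IsConj (T (D a)) (T P) := by
    intro P a c hP
    let S : GL (Fin n) F := Matrix.GeneralLinearGroup.scalar (Fin n) c⁻¹
    have hSdet : (S : Matrix (Fin n) (Fin n) F).det = ((c⁻¹ : Fˣ) : F) ^ n := by
      show (Matrix.scalar (Fin n) ((c⁻¹ : Fˣ) : F)).det = _
      simp [Matrix.det_diagonal]
    let x : GL (Fin n) F := P * S * (D a)⁻¹
    have hx : (x : Matrix (Fin n) (Fin n) F).det = 1 := by
      show ((P * S * (D a)⁻¹ : GL (Fin n) F) : Matrix (Fin n) (Fin n) F).det = 1
      rw [Units.val_mul, Units.val_mul, Matrix.det_mul, Matrix.det_mul, hP, hSdet, Matrix.coe_units_inv,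
        Matrix.det_nonsing_inv, hD, Ring.inverse_eq_inv', mul_assoc ((a : F)), ← mul_pow, Units.mul_inv, one_pow,
        mul_one, mul_inv_cancel₀ a.ne_zero]
    let x' : Matrix.SpecialLinearGroup (Fin n) F := ⟨_, hx⟩
    have hx' : Matrix.SpecialLinearGroup.toGL x' = x := Units.ext rfl
    have hc : S * U = U * S := Units.ext (by
      show Matrix.scalar (Fin n) ((c⁻¹ : Fˣ) : F) * (U : Matrix (Fin n) (Fin n) F) = (U : Matrix (Fin n) (Fin n) F) * Matrix.scalar (Fin n) ((c⁻¹ : Fˣ) : F)
      exact (Matrix.scalar_commute _ (fun r' => Commute.all _ r') _).eq)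
    refine isConj_iff.2 ⟨x', Matrix.SpecialLinearGroup.toGL_injective ?_⟩
    rw [map_mul, map_mul, map_inv, hT, hT, hx']
    calc x * (D a * U * (D a)⁻¹) * x⁻¹ = P * (S * U) * S⁻¹ * P⁻¹ := by simp only [x]; group
      _ = P * U * P⁻¹ := by rw [hc]; group
  let R : Subgroup Fˣ := (powMonoidHom n : Fˣ →* Fˣ).range
  let ψ : Fˣ ⧸ R → {C : ConjClasses (Matrix.SpecialLinearGroup (Fin n) F) // ∃ u : Matrix.SpecialLinearGroup (Fin n) F,
      ConjClasses.mk u = C ∧ ((u : Matrix (Fin n) (Fin n) F) - 1) ^ n = 0 ∧ ((u : Matrix (Fin n) (Fin n) F) - 1).rank = n - 1} :=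
    fun z => ⟨ConjClasses.mk (T (D z.out)), T (D z.out), rfl, hreg _⟩
  have hψ : Function.Bijective ψ := by
    constructor
    · intro z z' e
      obtain ⟨x, hx⟩ := isConj_iff.1 (ConjClasses.mk_eq_mk_iff_isConj.1 (congrArg Subtype.val e))
      have hx2 := congrArg Matrix.SpecialLinearGroup.toGL hx
      rw [map_mul, map_mul, map_inv, hT, hT] at hx2
      let y : GL (Fin n) F := (D z'.out)⁻¹ * Matrix.SpecialLinearGroup.toGL x * D z.out
      have hy : y * U = U * y := by
        rw [mul_inv_eq_iff_eq_mul] at hx2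
        calc y * U = (D z'.out)⁻¹ * (Matrix.SpecialLinearGroup.toGL x * (D z.out * U * (D z.out)⁻¹)) * D z.out := by
              simp only [y]; group
          _ = U * y := by rw [hx2]; simp only [y]; group
      have hy' : (y : Matrix (Fin n) (Fin n) F) * Jn F n = Jn F n * (y : Matrix (Fin n) (Fin n) F) := by
        have h : (y : Matrix (Fin n) (Fin n) F) * (U : Matrix (Fin n) (Fin n) F) =
            (U : Matrix (Fin n) (Fin n) F) * (y : Matrix (Fin n) (Fin n) F) := congrArg Units.val hy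
        rw [show (U : Matrix (Fin n) (Fin n) F) = 1 + Jn F n from hU.unit_spec,
          mul_add, add_mul, mul_one, one_mul, add_right_inj] at h
        exact h
      have hdy := det_of_commute hn1 _ hy'
      have hy0 : (y : Matrix (Fin n) (Fin n) F) ⟨0, hn1⟩ ⟨0, hn1⟩ ≠ 0 := fun e0 => by
        rw [e0, zero_pow (by omega)] at hdy
        exact Matrix.GeneralLinearGroup.det_ne_zero y hdy
      rw [← z.out_eq, ← z'.out_eq]
      refine (QuotientGroup.eq.2 (show z'.out⁻¹ * z.out ∈ R from ⟨Units.mk0 _ hy0, ?_⟩)).symm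
      apply Units.ext
      show ((y : Matrix (Fin n) (Fin n) F) ⟨0, hn1⟩ ⟨0, hn1⟩) ^ n = _
      rw [← hdy]
      have hxd : ((Matrix.SpecialLinearGroup.toGL x : GL (Fin n) F) : Matrix (Fin n) (Fin n) F).det = 1 := x.2
      simp only [y, Units.val_mul, Matrix.det_mul, Matrix.coe_units_inv, Matrix.det_nonsing_inv, hD,
        Ring.inverse_eq_inv', hxd, mul_one]
      simp
    · rintro ⟨C, u, rfl, hu, hur⟩
      obtain ⟨P, hP⟩ := exists_Jn _ hn1 hu hur
      have hTP : T P = u := by
        apply Subtype.ext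
        show (P : Matrix (Fin n) (Fin n) F) * (hU.unit : Matrix (Fin n) (Fin n) F) * ((P⁻¹ : GL (Fin n) F) : Matrix (Fin n) (Fin n) F) = _
        rw [IsUnit.unit_spec, mul_add, mul_one, ← hP, sub_mul, one_mul, add_sub_cancel, mul_assoc, Units.mul_inv, mul_one]
      let a : Fˣ := Matrix.GeneralLinearGroup.det P
      refine ⟨QuotientGroup.mk a, Subtype.ext (ConjClasses.mk_eq_mk_iff_isConj.2 ?_)⟩
      obtain ⟨⟨r, hr0⟩, hr⟩ := QuotientGroup.mk_out_eq_mul R a
      obtain ⟨c, rfl⟩ := hr0
      rw [hr, ← hTP]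
      refine same P _ c⁻¹ ?_
      show (P : Matrix (Fin n) (Fin n) F).det = ((a * c ^ n : Fˣ) : F) * ((c⁻¹ : Fˣ) : F) ^ n
      rw [Units.val_mul, Units.val_pow_eq_pow_val, mul_assoc, ← mul_pow, Units.mul_inv, one_pow, mul_one]
      rfl
  rw [← Nat.card_eq_of_bijective ψ hψ]
  show R.index = _
  rw [IsCyclic.index_powMonoidHom_range, Nat.card_units, Nat.card_eq_fintype_card, Nat.gcd_comm]

end Cfsg.Agent.S2578
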