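import Cfsg.Statements.S2580
import Mathlib

set_option autoImplicit false
open Cfsg Matrix Polynomial DirectSum

namespace Cfsg.Agent.S2580

/-- A finite torsion `F[X]`-module is isomorphic to its dual with the transposed action. -/
theorem cyclic_dual {F : Type*} [Field F] (I : Ideal F[X]) [Module.Finite F (F[X] ⧸ I)] (hI : I ≠ ⊥) :
    ∃ l : (F[X] ⧸ I) →ₗ[F] F, ∀ a, (∀ b, l (a * b) = 0) → a = 0 := by
  obtain ⟨f, rfl⟩ := (IsPrincipalIdealRing.principal I).principal
  have hf : f ≠ 0 := fun h => hI (by simp [h])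
  have hm : (f * C f.leadingCoeff⁻¹).Monic := monic_mul_leadingCoeff_inv hf
  set g := f * C f.leadingCoeff⁻¹ with hg
  have hsp : Ideal.span {g} = Ideal.span {f} := Ideal.span_singleton_mul_right_unit
    (isUnit_C.2 (isUnit_iff_ne_zero.2 (inv_ne_zero (leadingCoeff_ne_zero.2 hf)))) f
  let L : F[X] →ₗ[F] F := (Polynomial.lcoeff F (g.natDegree - 1)) ∘ₗ (Polynomial.modByMonicHom g)
  have hL : (Submodule.span F[X] {f}).restrictScalars F ≤ LinearMap.ker L := by
    intro x hx
    have : g ∣ x := by
      rw [← Ideal.mem_span_singleton, hsp]; exact hx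
    simp [L, Polynomial.modByMonicHom_apply, (Polynomial.modByMonic_eq_zero_iff_dvd hm).2 this]
  refine ⟨((Submodule.span F[X] {f}).restrictScalars F).liftQ L hL, fun a ha => ?_⟩
  obtain ⟨x, rfl⟩ := Ideal.Quotient.mk_surjective a
  rw [Ideal.Quotient.eq_zero_iff_mem]
  change x ∈ Ideal.span {f}
  rw [← hsp, Ideal.mem_span_singleton, ← Polynomial.modByMonic_eq_zero_iff_dvd hm]
  by_contra hr
  set r := x %ₘ g with hrdef
  have hg1 : g ≠ 1 := fun h => hr (by rw [hrdef, h, Polynomial.modByMonic_one])
  have hlt : r.natDegree < g.natDegree := Polynomial.natDegree_modByMonic_lt x hm hg1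
  have h := ha (Ideal.Quotient.mk _ (X ^ (g.natDegree - 1 - r.natDegree)))
  rw [← map_mul] at h
  change L (x * X ^ (g.natDegree - 1 - r.natDegree)) = 0 at h
  have hdeg : (r * X ^ (g.natDegree - 1 - r.natDegree)).natDegree < g.natDegree := by
    refine lt_of_le_of_lt (Polynomial.natDegree_mul_le) ?_
    rw [natDegree_X_pow]; omega
  have hmod : (x * X ^ (g.natDegree - 1 - r.natDegree)) %ₘ g = r * X ^ (g.natDegree - 1 - r.natDegree) := by
    refine (Polynomial.div_modByMonic_unique (x /ₘ g * X ^ (g.natDegree - 1 - r.natDegree)) _ hm ⟨?_, ?_⟩).2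
    · conv_rhs => rw [← Polynomial.modByMonic_add_div x g]
      rw [hrdef]; ring
    · exact Polynomial.degree_lt_degree hdeg
  simp only [L, LinearMap.comp_apply, Polynomial.modByMonicHom_apply, Polynomial.lcoeff_apply, hmod] at h
  have hk : r.natDegree + (g.natDegree - 1 - r.natDegree) = g.natDegree - 1 := by omega
  generalize g.natDegree - 1 - r.natDegree = m at h hk
  rw [← hk, Polynomial.coeff_mul_X_pow] at h
  exact hr (leadingCoeff_eq_zero.1 h)

/-- Over a finite field, a square matrix is similar to its transpose: for every n × n matrix A there is an invertible matrix P with P A P⁻¹ = Aᵀ (stated as conjugacy in the monoid of matrices, whose units are the invertible matrices). -/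
theorem result {F : Type*} [Field F] [Finite F] {n : ℕ} (A : Matrix (Fin n) (Fin n) F) : IsConj A A.transpose := by
  classical
  let a : Module.End F (Fin n → F) := Matrix.toLin' A
  let V := Module.AEval' a
  obtain ⟨ι, hι, p, hp, e, ⟨Φ⟩⟩ := Module.equiv_directSum_of_isTorsion (R := F[X]) (M := V)
    (Module.AEval.isTorsion_of_finiteDimensional F _ a)
  let I : ι → Ideal F[X] := fun i => Ideal.span {p i ^ e i}
  have hI : ∀ i, I i ≠ ⊥ := fun i => by simp [I, (hp i).ne_zero]
  haveI hfin : ∀ i, Module.Finite F (F[X] ⧸ I i) := fun i => by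
    have hm : (p i ^ e i * C (p i ^ e i).leadingCoeff⁻¹).Monic := monic_mul_leadingCoeff_inv (pow_ne_zero _ (hp i).ne_zero)
    have hsp : Ideal.span {p i ^ e i * C (p i ^ e i).leadingCoeff⁻¹} = I i := Ideal.span_singleton_mul_right_unit
      (isUnit_C.2 (isUnit_iff_ne_zero.2 (inv_ne_zero (leadingCoeff_ne_zero.2 (pow_ne_zero _ (hp i).ne_zero))))) _
    rw [← hsp]
    exact hm.finite_quotient
  choose l hl using fun i => cyclic_dual (I i) (hI i)
  -- the form
  let φ : (Fin n → F) ≃ₗ[F] ⨁ i, F[X] ⧸ I i := (Module.AEval'.of a) ≪≫ₗ (Φ.restrictScalars F)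
  let B : LinearMap.BilinForm F (Fin n → F) := ∑ i, LinearMap.mk₂ F
    (fun v w => l i (φ v i * φ w i))
    (fun v v' w => by simp [add_mul])
    (fun c v w => by simp [DirectSum.smul_apply, smul_mul_assoc])
    (fun v w w' => by simp [mul_add])
    (fun c v w => by simp [DirectSum.smul_apply, mul_smul_comm])
  have hB : ∀ v w, B v w = ∑ i, l i (φ v i * φ w i) := fun v w => by simp [B]
  have hX : ∀ v i, φ (A *ᵥ v) i = (X : F[X]) • φ v i := by
    intro v i
    simp only [φ, LinearEquiv.trans_apply, LinearEquiv.restrictScalars_apply]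
    rw [show Module.AEval'.of a (A *ᵥ v) = (X : F[X]) • Module.AEval'.of a v from
      (Module.AEval'.X_smul_of a v).symm, map_smul]
    rfl
  have hself : ∀ v w, B (A *ᵥ v) w = B v (A *ᵥ w) := by
    intro v w
    simp only [hB, hX]
    exact Finset.sum_congr rfl fun i _ => by rw [smul_mul_assoc, mul_smul_comm]
  have hnd : ∀ v, (∀ w, B v w = 0) → v = 0 := by
    intro v hv
    apply φ.injective
    rw [map_zero]
    ext i
    apply hl i
    intro b
    have h := hv (φ.symm (DirectSum.lof F ι (fun i => F[X] ⧸ I i) i b))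
    rw [hB, Finset.sum_eq_single i] at h
    · simpa using h
    · intro j _ hj
      simp [DirectSum.lof_eq_of, DirectSum.of_eq_of_ne _ _ _ hj]
    · simp
  let M : Matrix (Fin n) (Fin n) F := LinearMap.toMatrix₂' F B
  have hM : Aᵀ * M = M * A := by
    have h1 := LinearMap.toMatrix₂'_comp B (Matrix.toLin' A)
    have h2 := LinearMap.toMatrix₂'_compl₂ B (Matrix.toLin' A)
    rw [LinearMap.toMatrix'_toLin'] at h1 h2
    rw [← h1, ← h2]
    congr 1
    refine LinearMap.ext₂ fun v w => ?_
    simpa using hself v w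
  have hdet : M.det ≠ 0 := by
    intro h0
    obtain ⟨v, hv0, hv⟩ := Matrix.exists_vecMul_eq_zero_iff.2 h0
    refine hv0 (hnd v fun w => ?_)
    have : B = Matrix.toLinearMap₂' F M := by simp [M]
    rw [this, Matrix.toLinearMap₂'_apply', dotProduct_mulVec, hv, zero_dotProduct]
  exact ⟨((Matrix.isUnit_iff_isUnit_det M).2 (isUnit_iff_ne_zero.2 hdet)).unit, hM.symm⟩

end Cfsg.Agent.S2580
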