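import Cfsg.Statements.S2585
import Cfsg.Agent.Classical.Misc.HyperbolicQuadric

set_option autoImplicit false
open Cfsg Matrix

namespace Cfsg.Agent.S2585

/-- Over a finite field of characteristic two every element of the symplectic group is orthogonal for a suitable quadratic form: for each A in Sp_2m(F) there is a quadratic form Q on F^(2m) whose polar form is the alternating form defining Sp_2m(F) (so Q is non-degenerate) and which A preserves. Equivalently, for m ≥ 1, Sp_2m(F) is the union of the conjugates of its two orthogonal subgroups O⁺_2m(F) and O⁻_2m(F). -/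
theorem result {F : Type*} [Field F] [Fintype F] [CharP F 2] {m : ℕ} (A : Matrix.symplecticGroup (Fin m) F) : ∃ Q : QuadraticForm F (Fin m ⊕ Fin m → F), (∀ u v : Fin m ⊕ Fin m → F, QuadraticMap.polar ⇑Q u v = Cfsg.sympForm m F u v) ∧ ∀ v : Fin m ⊕ Fin m → F, Q ((A : Matrix (Fin m ⊕ Fin m) (Fin m ⊕ Fin m) F).mulVec v) = Q v := by
  classical
  set M := (A : Matrix (Fin m ⊕ Fin m) (Fin m ⊕ Fin m) F)
  set q0 := Cfsg.Lib.Classical.HypQuad.plusForm m F with hq0
  have hJ : ∀ u v : Fin m ⊕ Fin m → F, Cfsg.sympForm m F u v = QuadraticMap.polar ⇑q0 u v := by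
    intro u v
    simp only [QuadraticMap.polar, hq0, Cfsg.Lib.Classical.HypQuad.plusForm_apply, Cfsg.quadFormPlus, Cfsg.sympForm,
      Matrix.J, dotProduct, Fintype.sum_sum_type, Matrix.fromBlocks_mulVec, Sum.elim_inl, Sum.elim_inr,
      Matrix.zero_mulVec, Matrix.one_mulVec, Matrix.neg_mulVec, Pi.add_apply, Pi.neg_apply, Pi.zero_apply,
      Function.comp_apply, CharTwo.neg_eq, zero_add, add_zero, CharTwo.sub_eq_add, ← Finset.sum_add_distrib]
    refine Finset.sum_congr rfl fun i _ => ?_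
    linear_combination -(u (Sum.inl i) * u (Sum.inr i) + v (Sum.inl i) * v (Sum.inr i)) * (CharTwo.two_eq_zero (R := F))
  have hA : ∀ u v, QuadraticMap.polar ⇑q0 (M *ᵥ u) (M *ᵥ v) = QuadraticMap.polar ⇑q0 u v := by
    intro u v
    rw [← hJ, ← hJ, Cfsg.sympForm, Cfsg.sympForm]
    have h := SymplecticGroup.mem_iff'.1 A.2
    rw [Matrix.mulVec_mulVec, Matrix.dotProduct_mulVec, ← Matrix.vecMul_transpose, Matrix.vecMul_vecMul, ← mul_assoc,
      h, ← Matrix.dotProduct_mulVec]
  have hsq : ∀ a : F, ∃ b : F, b * b = a := fun a => by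
    obtain ⟨b, hb⟩ := FiniteField.isSquare_of_char_two (ringChar.eq F 2) a
    exact ⟨b, hb.symm⟩
  choose r hr using hsq
  have inj : ∀ a b : F, a * a = b * b → a = b := fun a b h => by
    have : (a + b) * (a + b) = 0 := by linear_combination h + (b * b + a * b) * (CharTwo.two_eq_zero (R := F))
    exact CharTwo.add_eq_zero.1 (mul_self_eq_zero.1 this)
  let d : (Fin m ⊕ Fin m → F) →ₗ[F] F :=
    { toFun := fun v => r (q0 (M *ᵥ v) + q0 v)
      map_add' := fun u v => inj _ _ (by
        rw [Matrix.mulVec_add, QuadraticMap.map_add (f := q0), QuadraticMap.map_add (f := q0), hA, hr]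
        linear_combination -hr (q0 (M *ᵥ u) + q0 u) - hr (q0 (M *ᵥ v) + q0 v) +
          (QuadraticMap.polar ⇑q0 u v - r (q0 (M *ᵥ u) + q0 u) * r (q0 (M *ᵥ v) + q0 v)) * (CharTwo.two_eq_zero (R := F)))
      map_smul' := fun c v => inj _ _ (by
        rw [Matrix.mulVec_smul, QuadraticMap.map_smul, QuadraticMap.map_smul, hr, RingHom.id_apply, smul_eq_mul,
          smul_eq_mul, smul_eq_mul]
        linear_combination -(c * c) * hr (q0 (M *ᵥ v) + q0 v)) }
  have hd : d ∈ LinearMap.range (Matrix.toLin' (M - 1)).dualMap := by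
    rw [LinearMap.range_dualMap_eq_dualAnnihilator_ker, Submodule.mem_dualAnnihilator]
    intro v hv
    rw [LinearMap.mem_ker, Matrix.toLin'_apply, Matrix.sub_mulVec, Matrix.one_mulVec, sub_eq_zero] at hv
    refine inj _ _ ?_
    show r (q0 (M *ᵥ v) + q0 v) * r (q0 (M *ᵥ v) + q0 v) = 0 * 0
    rw [hr, hv, CharTwo.add_self_eq_zero, mul_zero]
  obtain ⟨l, hl⟩ := hd
  refine ⟨q0 + QuadraticMap.linMulLin l l, fun u v => ?_, fun v => ?_⟩
  · rw [hJ]
    simp only [QuadraticMap.polar, QuadraticMap.add_apply, QuadraticMap.linMulLin_apply, map_add]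
    linear_combination (l u * l v) * (CharTwo.two_eq_zero (R := F))
  · have e := congrArg (fun f => f v) hl
    simp only [LinearMap.dualMap_apply, LinearMap.sub_apply, Matrix.toLin'_apply, Matrix.one_mulVec, map_sub] at e
    change l (M *ᵥ v) - l v = r (q0 (M *ᵥ v) + q0 v) at e
    simp only [QuadraticMap.add_apply, QuadraticMap.linMulLin_apply]
    show q0 (M *ᵥ v) + l (M *ᵥ v) * l (M *ᵥ v) = _
    linear_combination (l (M *ᵥ v) - l v + r (q0 (M *ᵥ v) + q0 v)) * e + hr (q0 (M *ᵥ v) + q0 v) +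
      (q0 (M *ᵥ v) - l v * l v + l (M *ᵥ v) * l v) * (CharTwo.two_eq_zero (R := F))

end Cfsg.Agent.S2585
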