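import Cfsg.Statements.S2588
import Cfsg.Agent.Known.UnitaryDescent

set_option autoImplicit false
open Cfsg

namespace Cfsg.Agent.S2588

open Cfsg.Lib Cfsg.Lib.Classical Cfsg.Lib.UnitaryConj

/-- An invertible matrix A over the field with q² elements is conjugate in GL_n(q²) to an element of the general unitary group GU_n(q) (isometries of the Hermitian form Σ u_i v_i^q) if and only if A is similar to the inverse transpose of its entrywise q-th power (A ~ A^(−qT), the image of A under the map sending a matrix to the inverse transpose of its entrywise q-th power — inverse transpose composed with the field automorphism — whose fixed points form GU_n(q)). -/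
theorem result {K : Type*} [Field K] [Fintype K] {q n : ℕ} (hK : Fintype.card K = q ^ 2) (A : GL (Fin n) K) : (∃ B : ↥(Cfsg.GU n K q), IsConj A (B : GL (Fin n) K)) ↔ IsConj (A : Matrix (Fin n) (Fin n) K) (((A : Matrix (Fin n) (Fin n) K).map (fun x : K => x ^ q)).transpose)⁻¹ := by
  classical
  have hinv := UnitaryConj.invol hK
  have hne := UnitaryConj.exists_moved hK
  have hmap : ((A : Matrix (Fin n) (Fin n) K).map (fun x : K => x ^ q)).transpose = cst (powConj hK) (A : Matrix (Fin n) (Fin n) K) := by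
    ext i j; simp [cst, powConj_apply]
  rw [hmap]
  have hAu : IsUnit (cst (powConj hK) (A : Matrix (Fin n) (Fin n) K)).det := by
    rw [det_cst]; exact ((Matrix.isUnit_iff_isUnit_det _).1 A.isUnit).map _
  constructor
  · rintro ⟨B, hAB⟩
    obtain ⟨g, hg⟩ := isConj_iff.1 hAB
    have hgA : (g : Matrix (Fin n) (Fin n) K) * (A : Matrix (Fin n) (Fin n) K) = ((B : GL (Fin n) K) : Matrix (Fin n) (Fin n) K) * g := by
      rw [← Units.val_mul, ← Units.val_mul, ← hg]; congr 1; group
    have hB := (mem_GU hK _).1 B.2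
    set c := cst (powConj hK) (g : Matrix (Fin n) (Fin n) K) * g with hc
    have hcu : IsUnit c := by
      rw [hc, Matrix.isUnit_iff_isUnit_det, Matrix.det_mul, det_cst]
      exact (((Matrix.isUnit_iff_isUnit_det _).1 g.isUnit).map _).mul ((Matrix.isUnit_iff_isUnit_det _).1 g.isUnit)
    have hinvr : cst (powConj hK) (A : Matrix (Fin n) (Fin n) K) * c * (A : Matrix (Fin n) (Fin n) K) = c := by
      rw [hc]
      calc _ = cst (powConj hK) ((g : Matrix (Fin n) (Fin n) K) * (A : Matrix (Fin n) (Fin n) K)) * ((g : Matrix (Fin n) (Fin n) K) * (A : Matrix (Fin n) (Fin n) K)) := by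
            rw [cst_mul]; simp only [mul_assoc]
        _ = cst (powConj hK) (g : Matrix (Fin n) (Fin n) K) * (cst (powConj hK) ((B : GL (Fin n) K) : Matrix (Fin n) (Fin n) K) *
              ((B : GL (Fin n) K) : Matrix (Fin n) (Fin n) K)) * g := by rw [hgA, cst_mul]; simp only [mul_assoc]
        _ = _ := by rw [hB, mul_one]
    refine ⟨hcu.unit, ?_⟩
    show c * _ = _ * c
    conv_rhs => rw [← hinvr, ← mul_assoc, ← mul_assoc, Matrix.nonsing_inv_mul _ hAu, one_mul]
  · rintro ⟨u, hu⟩
    change (u : Matrix (Fin n) (Fin n) K) * (A : Matrix (Fin n) (Fin n) K) = _ * (u : Matrix (Fin n) (Fin n) K) at hu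
    rcases isEmpty_or_nonempty (Fin n) with h0 | h0
    · exact ⟨1, by rw [show A = ((1 : Cfsg.GU n K q) : GL (Fin n) K) from Subsingleton.elim _ _]⟩
    obtain ⟨H, hH, hHd, hHA⟩ := UnitaryDescent.exists_hermitian hinv hne (A : Matrix (Fin n) (Fin n) K) u
      ((Matrix.isUnit_iff_isUnit_det _).1 u.isUnit).ne_zero
      (by rw [mul_assoc, hu, ← mul_assoc, Matrix.mul_nonsing_inv _ hAu, one_mul])
    obtain ⟨x, hx0, -, hx, -⟩ := UnitaryConj.exists_root hinv hne H hH hHd
    have hxu : IsUnit x.det := isUnit_iff_ne_zero.2 hx0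
    obtain ⟨B, hB⟩ := exists_GU_of hK (x * (A : Matrix (Fin n) (Fin n) K) * x⁻¹) (by
      calc cst (powConj hK) (x * (A : Matrix (Fin n) (Fin n) K) * x⁻¹) * (x * (A : Matrix (Fin n) (Fin n) K) * x⁻¹)
          = cst (powConj hK) x⁻¹ * (cst (powConj hK) (A : Matrix (Fin n) (Fin n) K) * (cst (powConj hK) x * x) * (A : Matrix (Fin n) (Fin n) K)) * x⁻¹ := by
            rw [cst_mul, cst_mul]; simp only [mul_assoc]
        _ = cst (powConj hK) x⁻¹ * cst (powConj hK) x * (x * x⁻¹) := by rw [hx, hHA, ← hx]; simp only [mul_assoc]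
        _ = 1 := by rw [← cst_mul, Matrix.mul_nonsing_inv x hxu, cst_one, one_mul])
    refine ⟨B, isConj_iff.2 ⟨((Matrix.isUnit_iff_isUnit_det x).2 hxu).unit, Units.ext ?_⟩⟩
    rw [hB, Units.val_mul, Units.val_mul, Matrix.coe_units_inv, IsUnit.unit_spec]

end Cfsg.Agent.S2588
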