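import Cfsg.Statements.S2589
import Cfsg.Agent.Known.SympSemisimple

set_option autoImplicit false
open Cfsg

namespace Cfsg.Agent.S2589

/-- Two semisimple elements of the finite symplectic group Sp_2m(F) (elements of order prime to the characteristic) are conjugate in Sp_2m(F) if and only if they are conjugate in GL_2m(F). -/
theorem result {F : Type*} [Field F] [Fintype F] {p : ℕ} [Fact p.Prime] [CharP F p] {m : ℕ} (A B : Matrix.symplecticGroup (Fin m) F) (hA : (orderOf A).Coprime p) : IsConj A B ↔ IsConj (A : Matrix (Fin m ⊕ Fin m) (Fin m ⊕ Fin m) F) (B : Matrix (Fin m ⊕ Fin m) (Fin m ⊕ Fin m) F) := by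
  refine ⟨fun h => ?_, fun h => ?_⟩
  · obtain ⟨u, hu⟩ := isConj_iff.1 h
    rw [mul_inv_eq_iff_eq_mul] at hu
    refine ⟨⟨(u : Matrix (Fin m ⊕ Fin m) (Fin m ⊕ Fin m) F), ((u⁻¹ : Matrix.symplecticGroup (Fin m) F) : Matrix (Fin m ⊕ Fin m) (Fin m ⊕ Fin m) F), ?_, ?_⟩, ?_⟩
    · rw [← Submonoid.coe_mul, mul_inv_cancel, Submonoid.coe_one]
    · rw [← Submonoid.coe_mul, inv_mul_cancel, Submonoid.coe_one]
    · exact congrArg Subtype.val hu
  · obtain ⟨c, hc⟩ := h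
    change (c : Matrix (Fin m ⊕ Fin m) (Fin m ⊕ Fin m) F) * (A : Matrix (Fin m ⊕ Fin m) (Fin m ⊕ Fin m) F) =
      (B : Matrix (Fin m ⊕ Fin m) (Fin m ⊕ Fin m) F) * (c : Matrix (Fin m ⊕ Fin m) (Fin m ⊕ Fin m) F) at hc
    let T : (Fin m ⊕ Fin m → F) ≃ₗ[F] (Fin m ⊕ Fin m → F) := LinearEquiv.ofLinearMap
      (Matrix.toLin' (c : Matrix (Fin m ⊕ Fin m) (Fin m ⊕ Fin m) F))
      (Matrix.toLin' ((c⁻¹ : (Matrix (Fin m ⊕ Fin m) (Fin m ⊕ Fin m) F)ˣ) : Matrix (Fin m ⊕ Fin m) (Fin m ⊕ Fin m) F))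
      (by rw [← Matrix.toLin'_mul, Units.mul_inv, Matrix.toLin'_one]) (by rw [← Matrix.toLin'_mul, Units.inv_mul, Matrix.toLin'_one])
    refine Cfsg.Lib.SympSemisimple.isConj_of_linear A B hA T fun v => ?_
    show Matrix.toLin' (c : Matrix (Fin m ⊕ Fin m) (Fin m ⊕ Fin m) F) (Matrix.toLin' _ v) = Matrix.toLin' _ (Matrix.toLin' (c : Matrix (Fin m ⊕ Fin m) (Fin m ⊕ Fin m) F) v)
    rw [← LinearMap.comp_apply, ← Matrix.toLin'_mul, hc, Matrix.toLin'_mul]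
    rfl

end Cfsg.Agent.S2589
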