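import Cfsg.Statements.S2590
import Cfsg.Agent.Known.QuadSemisimple
import Cfsg.Agent.Known.SympSemisimple
import Cfsg.Agent.Classical.Misc.Reflections

set_option autoImplicit false
open Cfsg

namespace Cfsg.Agent.S2590

open Matrix

/-- Two semisimple elements of odd order of a finite orthogonal group (isometry group of a quadratic form on F^n with non-degenerate polar form, F finite of characteristic p; the elements have odd order prime to p) are conjugate in the orthogonal group if and only if they are conjugate in GL_n(F). -/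
theorem result {F : Type*} [Field F] [Fintype F] {p : ℕ} [Fact p.Prime] [CharP F p] {n : ℕ} (Q : QuadraticForm F (Fin n → F)) (hQ : (QuadraticMap.polarBilin Q).Nondegenerate) (A B : ↥(Cfsg.isometryGroup F ⇑Q)) (hodd : Odd (orderOf A)) (hA : (orderOf A).Coprime p) : IsConj A B ↔ IsConj ((A : Matrix.GeneralLinearGroup (Fin n) F) : Matrix (Fin n) (Fin n) F) ((B : Matrix.GeneralLinearGroup (Fin n) F) : Matrix (Fin n) (Fin n) F) := by
  classical
  refine ⟨fun h => ?_, fun h => ?_⟩
  · obtain ⟨u, hu⟩ := isConj_iff.1 h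
    rw [mul_inv_eq_iff_eq_mul] at hu
    exact ⟨(u : GL (Fin n) F), congrArg (fun g : ↥(Cfsg.isometryGroup F ⇑Q) => ((g : GL (Fin n) F) : Matrix (Fin n) (Fin n) F)) hu⟩
  · obtain ⟨c, hc⟩ := h
    set MA := ((A : GL (Fin n) F) : Matrix (Fin n) (Fin n) F) with hMA
    set MB := ((B : GL (Fin n) F) : Matrix (Fin n) (Fin n) F) with hMB
    change (c : Matrix (Fin n) (Fin n) F) * MA = MB * (c : Matrix (Fin n) (Fin n) F) at hc
    let T : (Fin n → F) ≃ₗ[F] (Fin n → F) := LinearEquiv.ofLinearMap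
      (Matrix.toLin' (c : Matrix (Fin n) (Fin n) F))
      (Matrix.toLin' ((c⁻¹ : (Matrix (Fin n) (Fin n) F)ˣ) : Matrix (Fin n) (Fin n) F))
      (by rw [← Matrix.toLin'_mul, Units.mul_inv, Matrix.toLin'_one]) (by rw [← Matrix.toLin'_mul, Units.inv_mul, Matrix.toLin'_one])
    have hN : Matrix.toLin' MA ^ orderOf A = 1 := by
      rw [← Matrix.toLin'_pow, hMA, ← Units.val_pow_eq_pow_val, ← SubgroupClass.coe_pow, pow_orderOf_eq_one,
        OneMemClass.coe_one, Units.val_one, Matrix.toLin'_one]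
      rfl
    obtain ⟨g, hg, hgA⟩ := Cfsg.Lib.QuadSemisimple.exists_conj Q hQ (Matrix.toLin' MA) (Matrix.toLin' MB)
      (fun v => (Cfsg.Lib.Classical.Refl.mem_iff Q).1 A.2 v) (fun v => (Cfsg.Lib.Classical.Refl.mem_iff Q).1 B.2 v)
      (Cfsg.Lib.SympSemisimple.cast_ne_zero hA) hodd hN T (fun v => by
        show Matrix.toLin' (c : Matrix (Fin n) (Fin n) F) (Matrix.toLin' MA v) = Matrix.toLin' MB (Matrix.toLin' (c : Matrix (Fin n) (Fin n) F) v)
        rw [← LinearMap.comp_apply, ← Matrix.toLin'_mul, hc, Matrix.toLin'_mul]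
        rfl)
    have hdet : (LinearMap.toMatrix' g.toLinearMap).det ≠ 0 := by
      rw [LinearMap.det_toMatrix']; exact (LinearEquiv.isUnit_det' g).ne_zero
    refine isConj_iff.2 ⟨⟨Matrix.GeneralLinearGroup.mkOfDetNeZero _ hdet, (Cfsg.Lib.Classical.Refl.mem_iff Q).2 fun x => ?_⟩,
      mul_inv_eq_iff_eq_mul.2 (Subtype.ext (Units.ext ?_))⟩
    · show Q (LinearMap.toMatrix' g.toLinearMap *ᵥ x) = Q x
      rw [LinearMap.toMatrix'_mulVec]; exact hg x
    · show LinearMap.toMatrix' g.toLinearMap * MA = MB * LinearMap.toMatrix' g.toLinearMap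
      refine Matrix.toLin'.injective ?_
      rw [Matrix.toLin'_mul, Matrix.toLin'_mul, Matrix.toLin'_toMatrix']
      exact LinearMap.ext hgA

end Cfsg.Agent.S2590
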