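import Cfsg.Statements.S2599

set_option autoImplicit false
open Cfsg

namespace Cfsg.Agent.S2599

/-- An irreducible invariant subspace of a semisimple isometry is non-degenerate or totally singular: let Q be a quadratic form on F^n (F finite of characteristic p) with non-degenerate polar form f, x an isometry of Q of order prime to p, and U a non-zero x-invariant subspace containing no x-invariant subspace other than 0 and U. Then U meets its f-orthogonal trivially, or Q vanishes on U, or p = 2, U is a line spanned by a non-singular vector and x fixes U pointwise. -/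
theorem result {F : Type*} [Field F] [Fintype F] {p : ℕ} [Fact p.Prime] [CharP F p] {n : ℕ} (Q : QuadraticForm F (Fin n → F)) (hQ : (QuadraticMap.polarBilin Q).Nondegenerate) (x : ↥(Cfsg.isometryGroup F ⇑Q)) (hx : (orderOf x).Coprime p) (U : Submodule F (Fin n → F)) (hU0 : U ≠ ⊥) (hUx : ∀ u ∈ U, ((x : Matrix.GeneralLinearGroup (Fin n) F) : Matrix (Fin n) (Fin n) F).mulVec u ∈ U) (hirr : ∀ W : Submodule F (Fin n → F), W ≤ U → (∀ w ∈ W, ((x : Matrix.GeneralLinearGroup (Fin n) F) : Matrix (Fin n) (Fin n) F).mulVec w ∈ W) → W = ⊥ ∨ W = U) : U ⊓ LinearMap.BilinForm.orthogonal (QuadraticMap.polarBilin Q) U = ⊥ ∨ (∀ u ∈ U, Q u = 0) ∨ (p = 2 ∧ Module.finrank F U = 1 ∧ (∃ u ∈ U, Q u ≠ 0) ∧ ∀ u ∈ U, ((x : Matrix.GeneralLinearGroup (Fin n) F) : Matrix (Fin n) (Fin n) F).mulVec u = u) := by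
  classical
  set A := ((x : Matrix.GeneralLinearGroup (Fin n) F) : Matrix (Fin n) (Fin n) F) with hA
  have hQx : ∀ u, Q (A.mulVec u) = Q u := fun u => x.2 u u
  have hBx : ∀ u w, QuadraticMap.polarBilin Q (A.mulVec u) (A.mulVec w) = QuadraticMap.polarBilin Q u w := fun u w => by
    simp only [QuadraticMap.polarBilin_apply_apply, QuadraticMap.polar, ← Matrix.mulVec_add, hQx]
  have hsurj : ∀ u ∈ U, ∃ w ∈ U, A.mulVec w = u := by
    intro u hu
    let f : U → U := fun w => ⟨A.mulVec w, hUx w w.2⟩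
    have hf : Function.Injective f := fun a b h => Subtype.ext
      (Matrix.mulVec_injective_of_isUnit (Units.isUnit _) (congrArg Subtype.val h))
    obtain ⟨w, hw⟩ := (Finite.injective_iff_surjective.1 hf) ⟨u, hu⟩
    exact ⟨w, w.2, congrArg Subtype.val hw⟩
  set R := U ⊓ LinearMap.BilinForm.orthogonal (QuadraticMap.polarBilin Q) U with hR
  rcases hirr R inf_le_left (fun w hw => by
      refine ⟨hUx w hw.1, fun v hv => ?_⟩
      obtain ⟨v', hv', rfl⟩ := hsurj v hv
      show QuadraticMap.polarBilin Q (A.mulVec v') (A.mulVec w) = 0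
      rw [hBx]
      exact hw.2 v' hv') with h | h
  · exact .inl h
  right
  have hpol : ∀ u ∈ U, ∀ w ∈ U, QuadraticMap.polar Q u w = 0 := fun u hu w hw =>
    (show w ∈ LinearMap.BilinForm.orthogonal (QuadraticMap.polarBilin Q) U from (h.symm ▸ hw : w ∈ R).2) u hu
  have hadd : ∀ u ∈ U, ∀ w ∈ U, Q (u + w) = Q u + Q w := fun u hu w hw => by
    have := hpol u hu w hw
    rw [QuadraticMap.polar] at this
    linear_combination this
  by_cases h0 : ∀ u ∈ U, Q u = 0
  · exact .inl h0
  right
  push Not at h0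
  obtain ⟨u₀, hu₀, hne⟩ := h0
  have hp2 : p = 2 := by
    by_contra hp
    have h2 : (2 : F) ≠ 0 := Ring.two_ne_zero (by rw [ringChar.eq F p]; exact hp)
    have := hadd u₀ hu₀ u₀ hu₀
    rw [← two_smul F u₀, QuadraticMap.map_smul, smul_eq_mul] at this
    exact hne (mul_left_cancel₀ h2 (by linear_combination this))
  subst hp2
  have hinj : ∀ u ∈ U, Q u = 0 → u = 0 := by
    let W : Submodule F (Fin n → F) :=
      { carrier := {u | u ∈ U ∧ Q u = 0}
        zero_mem' := ⟨zero_mem _, QuadraticMap.map_zero _⟩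
        add_mem' := fun {a b} ha hb => ⟨add_mem ha.1 hb.1, by rw [hadd a ha.1 b hb.1, ha.2, hb.2, add_zero]⟩
        smul_mem' := fun c a ha => ⟨U.smul_mem c ha.1, by rw [QuadraticMap.map_smul, ha.2, smul_zero]⟩ }
    rcases hirr W (fun u hu => hu.1) (fun u hu => ⟨hUx u hu.1, (hQx u).trans hu.2⟩) with e | e
    · intro u hu hq
      have : u ∈ W := ⟨hu, hq⟩
      rwa [e, Submodule.mem_bot] at this
    · exact absurd ((e.symm ▸ hu₀ : u₀ ∈ W).2) hne
  have hfix : ∀ u ∈ U, A.mulVec u = u := fun u hu => by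
    have hz : Q (A.mulVec u + u) = 0 := by rw [hadd _ (hUx u hu) u hu, hQx, CharTwo.add_self_eq_zero]
    have h2 := hinj _ (add_mem (hUx u hu) hu) hz
    refine funext fun i => ?_
    exact CharTwo.add_eq_zero.1 (congrFun h2 i)
  refine ⟨rfl, ?_, ⟨u₀, hu₀, hne⟩, hfix⟩
  have hu0 : u₀ ≠ 0 := fun e => hne (by rw [e, QuadraticMap.map_zero])
  rcases hirr (Submodule.span F {u₀}) (Submodule.span_le.2 (by simpa using hu₀)) (fun w hw => by
      rw [hfix w (Submodule.span_le.2 (by simpa using hu₀) hw)]; exact hw) with e | e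
  · exact absurd ((Submodule.span_singleton_eq_bot).1 e) hu0
  · rw [← e, finrank_span_singleton hu0]

end Cfsg.Agent.S2599
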