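import Cfsg.Statements.S2609
import Cfsg.Agent.Classical.Misc.NegOne

set_option autoImplicit false
open Cfsg

namespace Cfsg.Agent.S2609

/-- Spinor norm criterion for Ω over a finite field of odd order: let Q be a quadratic form on F^n, n ≥ 2, with non-degenerate polar form, and let g be an isometry written as a product of reflections in non-singular vectors v_1, …, v_k. Then g lies in Ω (the commutator subgroup of the orthogonal group) if and only if k is even and Q(v_1)⋯Q(v_k) is a square; in particular, for g of determinant one, whether that product is a square does not depend on the chosen factorisation (it is the spinor norm of g). -/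
theorem result {F : Type*} [Field F] [Fintype F] (h2 : (2 : F) ≠ 0) {n : ℕ} (hn : 2 ≤ n) (Q : QuadraticForm F (Fin n → F)) (hQ : (QuadraticMap.polarBilin Q).Nondegenerate) (g : ↥(Cfsg.isometryGroup F ⇑Q)) (vs : List (Fin n → F)) (hvs : ∀ v ∈ vs, Q v ≠ 0) (hg : ((g : Matrix.GeneralLinearGroup (Fin n) F) : Matrix (Fin n) (Fin n) F) = (vs.map (fun v => Cfsg.reflectionMatrix ⇑Q v)).prod) : g ∈ Cfsg.Omega F ⇑Q ↔ (Even vs.length ∧ IsSquare (vs.map (fun v => Q v)).prod) := by
  classical
  have hcard : 2 ≤ Fintype.card (Fin n) := by simpa using hn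
  obtain ⟨k, hk⟩ := Cfsg.Lib.Classical.Refl.exists_spin_scale Q h2 hQ hcard
  let R : List ↥(Cfsg.isometryGroup F ⇑Q) := vs.pmap (fun v hv => Cfsg.Lib.Classical.Refl.refl Q v hv) hvs
  have hgR : g = R.prod := by
    refine Subtype.ext (Units.ext ?_)
    rw [hg]
    have key : ∀ (l : List (Fin n → F)) (hl : ∀ v ∈ l, Q v ≠ 0),
        ((((l.pmap (fun v hv => Cfsg.Lib.Classical.Refl.refl Q v hv) hl).prod : ↥(Cfsg.isometryGroup F ⇑Q)) :
          Matrix.GeneralLinearGroup (Fin n) F) : Matrix (Fin n) (Fin n) F) =
          (l.map (fun v => Cfsg.reflectionMatrix ⇑Q v)).prod := by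
      intro l
      induction l with
      | nil => intro _; simp
      | cons a l ih =>
        intro hl
        rw [List.pmap, List.prod_cons, List.map_cons, List.prod_cons, Subgroup.coe_mul, Units.val_mul, ih]
        rfl
    exact (key vs hvs).symm
  have hdet : ∀ (l : List (Fin n → F)) (hl : ∀ v ∈ l, Q v ≠ 0),
      Cfsg.Lib.Classical.Refl.detHom Q (l.pmap (fun v hv => Cfsg.Lib.Classical.Refl.refl Q v hv) hl).prod = (-1) ^ l.length ∧
      ((Cfsg.Lib.Classical.Refl.spin Q (l.pmap (fun v hv => Cfsg.Lib.Classical.Refl.refl Q v hv) hl).prod : ℤˣ) : ℤ) =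
        (k : ℤ) ^ l.length * quadraticChar F (l.map (fun v => Q v)).prod := by
    intro l
    induction l with
    | nil => intro _; simp
    | cons a l ih =>
      intro hl
      rw [List.pmap, List.prod_cons, List.map_cons, List.prod_cons, List.length_cons, map_mul, map_mul, Units.val_mul,
        (ih _).1, (ih _).2, Cfsg.Lib.Classical.Refl.detHom_refl, hk, map_mul, pow_succ', pow_succ']
      exact ⟨rfl, by ring⟩
  have hprod : (vs.map (fun v => Q v)).prod ≠ 0 := List.prod_ne_zero (by simpa using hvs)
  rw [Cfsg.Lib.Classical.Refl.mem_omega_iff Q h2 hQ hcard, hgR, (hdet vs hvs).1, Units.ext_iff, Units.ext_iff,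
    (hdet vs hvs).2, Units.val_one, Units.val_one, Units.val_pow_eq_pow_val, Units.val_neg, Units.val_one,
    ← quadraticChar_one_iff_isSquare hprod]
  have hk2 : (k : ℤ) ^ 2 = 1 := by rw [← Units.val_pow_eq_pow_val, Int.units_sq]; rfl
  rcases Nat.even_or_odd vs.length with he | ho
  · obtain ⟨j, hj⟩ := id he
    rw [he.neg_one_pow, hj, ← two_mul, pow_mul, hk2, one_pow, one_mul]
    simp [← hj, he, two_mul]
  · rw [ho.neg_one_pow]
    refine iff_of_false (fun h => h2 ?_) (fun h => (Nat.not_even_iff_odd.2 ho) h.1)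
    linear_combination -h.1

end Cfsg.Agent.S2609
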