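import Cfsg.Statements.S2610
import Cfsg.Agent.Classical.Misc.NegOne

set_option autoImplicit false
open Cfsg

namespace Cfsg.Agent.S2610

/-- For a quadratic form Q on F^n with non-degenerate polar form, F finite of odd order and n ≥ 2 even, the isometry −1 lies in Ω (the commutator subgroup of the orthogonal group) if and only if the discriminant of Q (the determinant of the Gram matrix of its polar form) is a square. -/
theorem result {F : Type*} [Field F] [Fintype F] (h2 : (2 : F) ≠ 0) {n : ℕ} (hn : 2 ≤ n) (he' : Even n) (Q : QuadraticForm F (Fin n → F)) (hQ : (QuadraticMap.polarBilin Q).Nondegenerate) : (∃ g : ↥(Cfsg.isometryGroup F ⇑Q), g ∈ Cfsg.Omega F ⇑Q ∧ ((g : Matrix.GeneralLinearGroup (Fin n) F) : Matrix (Fin n) (Fin n) F) = -1) ↔ IsSquare (Matrix.of (fun i j : Fin n => QuadraticMap.polar ⇑Q (Pi.single i 1) (Pi.single j 1))).det := by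
  classical
  have hcard : 2 ≤ Fintype.card (Fin n) := by simpa using hn
  haveI : Invertible (2 : F) := invertibleOfNonzero h2
  obtain ⟨e, he⟩ := LinearMap.BilinForm.exists_orthogonal_basis (B := QuadraticMap.polarBilin Q)
    ⟨fun x y => by simp [QuadraticMap.polar_comm]⟩
  let ρ : Fin (Module.finrank F (Fin n → F)) ≃ Fin n := finCongr (Module.finrank_fin_fun F)
  let b : Module.Basis (Fin n) F (Fin n → F) := e.reindex ρ
  have hort : Pairwise fun i j => QuadraticMap.polar (⇑Q) (b i) (b j) = 0 := fun i j hij => by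
    simpa [b] using he (fun h : ρ.symm i = ρ.symm j => hij (ρ.symm.injective h))
  have hne : ∀ i, Q (b i) ≠ 0 := by
    intro i h0
    refine b.ne_zero i (hQ.1 (b i) fun y => ?_)
    rw [← b.sum_repr y, map_sum, Finset.sum_eq_zero]
    intro j _
    rw [map_smul]
    rcases eq_or_ne i j with rfl | hij
    · show _ • QuadraticMap.polar (⇑Q) (b i) (b i) = 0
      rw [QuadraticMap.polar_self, h0, smul_zero, smul_zero]
    · show _ • QuadraticMap.polar (⇑Q) (b i) (b j) = 0
      rw [hort hij, smul_zero]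
  have hn' : Even (Fintype.card (Fin n)) := by simpa using he'
  refine (Cfsg.Lib.Classical.Refl.neg_one_omega_iff Q h2 hQ hcard hn' b hne hort rfl).trans ?_
  rw [quadraticChar_one_iff_isSquare (Finset.prod_ne_zero_iff.2 fun i _ => hne i)]
  set M := Matrix.of (fun i j : Fin n => QuadraticMap.polar ⇑Q (Pi.single i 1) (Pi.single j 1))
  set P := (Pi.basisFun F (Fin n)).toMatrix b
  have hM : M = LinearMap.toMatrix₂ (Pi.basisFun F (Fin n)) (Pi.basisFun F (Fin n)) (QuadraticMap.polarBilin Q) := by
    ext i j; simp [M, LinearMap.toMatrix₂_apply]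
  have hD : LinearMap.toMatrix₂ b b (QuadraticMap.polarBilin Q) = Matrix.diagonal fun i => 2 * Q (b i) := by
    ext i j
    rw [LinearMap.toMatrix₂_apply, Matrix.diagonal_apply]
    split_ifs with h
    · subst h
      show QuadraticMap.polar (⇑Q) (b i) (b i) = _
      rw [QuadraticMap.polar_self, nsmul_eq_mul]; norm_num
    · exact hort h
  have hd := congrArg Matrix.det ((LinearMap.toMatrix₂_mul_basis_toMatrix
    (Pi.basisFun F (Fin n)) (Pi.basisFun F (Fin n)) b b (QuadraticMap.polarBilin Q)).trans hD)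
  rw [Matrix.det_mul, Matrix.det_mul, Matrix.det_transpose, Matrix.det_diagonal, Finset.prod_mul_distrib,
    Finset.prod_const, Finset.card_univ, Fintype.card_fin, ← hM] at hd
  have hP : P.det ≠ 0 := ((Pi.basisFun F (Fin n)).isUnit_det b).ne_zero
  obtain ⟨j, rfl⟩ := he'
  have e1 : M.det = (2 ^ j * P.det⁻¹) * (2 ^ j * P.det⁻¹) * ∏ i, Q (b i) := by
    rw [pow_add] at hd
    field_simp
    linear_combination hd
  rw [e1]
  constructor
  · exact fun h => IsSquare.mul ⟨_, rfl⟩ h
  · rintro ⟨s, hs⟩
    refine ⟨s * (2 ^ j * P.det⁻¹)⁻¹, ?_⟩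
    have : (2 : F) ^ j * P.det⁻¹ ≠ 0 := mul_ne_zero (pow_ne_zero _ h2) (inv_ne_zero hP)
    generalize (2 : F) ^ j * P.det⁻¹ = c at this hs
    field_simp
    linear_combination hs

end Cfsg.Agent.S2610
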