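import Cfsg.Statements.S2612
import Cfsg.Agent.Known.OmegaClasses
import Cfsg.Agent.Known.LeviOmega

set_option autoImplicit false
open Cfsg

namespace Cfsg.Agent.S2612

/-- For the hyperbolic quadratic form Σ x_i y_i on F^(2m) (F finite, m ≥ 1, excluding m = 2 over the field of two elements), Ω⁺_2m(F) (the commutator subgroup of the orthogonal group) contains an element interchanging the two complementary maximal totally singular subspaces {y = 0} and {x = 0} if and only if m is even (dimension divisible by 4). -/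
theorem result {F : Type*} [Field F] [Fintype F] {m : ℕ} (hm : 1 ≤ m) (h : Fintype.card F ≠ 2 ∨ m ≠ 2) : (∃ g : ↥(Cfsg.isometryGroup F (Cfsg.quadFormPlus m F)), g ∈ Cfsg.Omega F (Cfsg.quadFormPlus m F) ∧ (∀ v : Fin m ⊕ Fin m → F, (∀ i, v (Sum.inr i) = 0) → ∀ i, (((g : Matrix.GeneralLinearGroup (Fin m ⊕ Fin m) F) : Matrix (Fin m ⊕ Fin m) (Fin m ⊕ Fin m) F).mulVec v) (Sum.inl i) = 0) ∧ (∀ v : Fin m ⊕ Fin m → F, (∀ i, v (Sum.inl i) = 0) → ∀ i, (((g : Matrix.GeneralLinearGroup (Fin m ⊕ Fin m) F) : Matrix (Fin m ⊕ Fin m) (Fin m ⊕ Fin m) F).mulVec v) (Sum.inr i) = 0)) ↔ Even m := by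
  open Cfsg.Lib.Classical Cfsg.Lib.Classical.Refl Cfsg.Lib.OmegaCls in
  classical
  have e : (⇑(HypQuad.plusForm m F)) = Cfsg.quadFormPlus m F := funext (HypQuad.plusForm_apply m)
  have hQ := HypQuad.plusForm_nondegenerate (F := F) m
  have hι : Fintype.card (Fin m ⊕ Fin m) = 2 * m := by simp [two_mul]
  have h4 : Fintype.card F ≠ 2 ∨ Fintype.card (Fin m ⊕ Fin m) ≠ 4 := h.imp_right fun hc => by omega
  let U : Submodule F (Fin m ⊕ Fin m → F) := LinearMap.ker (LinearMap.funLeft F F Sum.inr)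
  have memU : ∀ v, v ∈ U ↔ ∀ i, v (Sum.inr i) = 0 := fun v => by
    simp [U, LinearMap.funLeft_apply, funext_iff]
  have hU : HypQuad.IsMax (HypQuad.plusForm m F) m U := by
    refine ⟨?_, fun v hv => ?_⟩
    · have h1 := LinearMap.finrank_range_add_finrank_ker (LinearMap.funLeft F F (Sum.inr : Fin m → Fin m ⊕ Fin m))
      rw [LinearMap.range_eq_top.2 (LinearMap.funLeft_surjective_of_injective F F _ Sum.inr_injective), finrank_top,
        Module.finrank_fintype_fun_eq_card, Module.finrank_fintype_fun_eq_card, hι, Fintype.card_fin] at h1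
      show Module.finrank F (LinearMap.ker (LinearMap.funLeft F F (Sum.inr : Fin m → Fin m ⊕ Fin m))) = m
      omega
    · rw [HypQuad.plusForm_apply]
      exact Finset.sum_eq_zero fun i _ => by rw [(memU v).1 hv i, mul_zero]
  have key : ∀ x : Cfsg.isometryGroup F (⇑(HypQuad.plusForm m F)),
      (∀ v ∈ U, ∀ i, (((x : Matrix.GeneralLinearGroup (Fin m ⊕ Fin m) F) :
        Matrix (Fin m ⊕ Fin m) (Fin m ⊕ Fin m) F).mulVec v) (Sum.inl i) = 0) →
      (dickson (HypQuad.plusForm m F) hQ x = 1 ↔ Even m) := by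
    intro x hx
    rw [← parity_dickson hQ hι h4 hU x]
    have h0 : U ⊓ U.map (Matrix.mulVecLin ((x : Matrix.GeneralLinearGroup (Fin m ⊕ Fin m) F) :
        Matrix (Fin m ⊕ Fin m) (Fin m ⊕ Fin m) F)) = ⊥ := by
      rw [Submodule.eq_bot_iff]
      rintro _ ⟨h1, v, hv, rfl⟩
      funext i
      rcases i with i | i
      · exact hx v hv i
      · exact (memU _).1 h1 i
    rw [h0, finrank_bot, Nat.sub_zero]
  rw [← e]
  constructor
  · rintro ⟨g, hg, hUW, -⟩
    exact (key g fun v hv => hUW v ((memU v).1 hv)).1 (hom_eq_one_of_omega _ _ hg)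
  intro hev
  have hswap : (Matrix.fromBlocks (0 : Matrix (Fin m) (Fin m) F) 1 1 (0 : Matrix (Fin m) (Fin m) F)) *
      Matrix.fromBlocks 0 1 1 0 = 1 := by simp [Matrix.fromBlocks_multiply]
  let s : Cfsg.isometryGroup F (⇑(HypQuad.plusForm m F)) :=
    ⟨⟨Matrix.fromBlocks 0 1 1 0, Matrix.fromBlocks 0 1 1 0, hswap, hswap⟩, (mem_iff _).2 fun x => by
      simp [HypQuad.plusForm_apply, Cfsg.quadFormPlus, Matrix.fromBlocks_mulVec, mul_comm]⟩
  have hsU : ∀ v, (∀ i, v (Sum.inr i) = 0) → ∀ i, (((s : Matrix.GeneralLinearGroup (Fin m ⊕ Fin m) F) :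
      Matrix (Fin m ⊕ Fin m) (Fin m ⊕ Fin m) F).mulVec v) (Sum.inl i) = 0 := fun v hv i => by
    simp [s, Matrix.fromBlocks_mulVec, hv]
  have hsW : ∀ v, (∀ i, v (Sum.inl i) = 0) → ∀ i, (((s : Matrix.GeneralLinearGroup (Fin m ⊕ Fin m) F) :
      Matrix (Fin m ⊕ Fin m) (Fin m ⊕ Fin m) F).mulVec v) (Sum.inr i) = 0 := fun v hv i => by
    simp [s, Matrix.fromBlocks_mulVec, hv]
  have hds : dickson (HypQuad.plusForm m F) hQ s = 1 := (key s fun v hv => hsU v ((memU v).1 hv)).2 hev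
  by_cases hsΩ : s ∈ Cfsg.Omega F (⇑(HypQuad.plusForm m F))
  · exact ⟨s, hsΩ, hsU, hsW⟩
  have h2 : (2 : F) ≠ 0 := fun h2 => hsΩ <| by
    haveI : CharP F 2 := CharTwo.of_one_ne_zero_of_two_eq_zero one_ne_zero h2
    exact (dickson_iff hQ (by omega) h4 s).2 hds
  have hq2 : ringChar F ≠ 2 := fun h => h2 (by haveI := ringChar.of_eq h; exact CharTwo.two_eq_zero)
  obtain ⟨d, hd⟩ := FiniteField.exists_nonsquare hq2
  have hd0 : d ≠ 0 := fun h => hd (h ▸ IsSquare.zero)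
  let A : GL (Fin m) F := Cfsg.Lib.LeviOmega.dg ⟨0, hm⟩ (Units.mk0 d hd0)
  have hA : ¬ IsSquare ((A : Matrix (Fin m) (Fin m) F).det) := by
    show ¬ IsSquare (Matrix.diagonal (Function.update (1 : Fin m → F) ⟨0, hm⟩ d)).det
    rwa [Matrix.det_diagonal, Finset.prod_update_of_mem (Finset.mem_univ _), Pi.one_def, Finset.prod_const_one,
      mul_one]
  let L : Cfsg.isometryGroup F (⇑(HypQuad.plusForm m F)) :=
    ⟨Cfsg.Lib.LeviOmega.blocks A, e.symm ▸ Cfsg.Lib.LeviOmega.blocks_mem A⟩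
  have hLΩ : L ∉ Cfsg.Omega F (⇑(HypQuad.plusForm m F)) := by
    intro hL
    refine hA ((Cfsg.Lib.LeviOmega.levi_omega_iff hm h A).1 ?_)
    have hh : ∀ (Q' : (Fin m ⊕ Fin m → F) → F) (x' : Cfsg.isometryGroup F Q'), Q' = Cfsg.quadFormPlus m F →
        (x' : Matrix.GeneralLinearGroup (Fin m ⊕ Fin m) F) = Cfsg.Lib.LeviOmega.blocks A → x' ∈ Cfsg.Omega F Q' →
        Cfsg.Lib.LeviOmega.levi A ∈ Cfsg.Omega F (Cfsg.quadFormPlus m F) := by
      intro Q' x' hQ' hx' hmem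
      subst hQ'
      have : x' = Cfsg.Lib.LeviOmega.levi A := Subtype.ext hx'
      rwa [this] at hmem
    exact hh _ L e rfl hL
  have hLU : ∀ v, (∀ i, v (Sum.inr i) = 0) → ∀ i, (((L : Matrix.GeneralLinearGroup (Fin m ⊕ Fin m) F) :
      Matrix (Fin m ⊕ Fin m) (Fin m ⊕ Fin m) F).mulVec v) (Sum.inr i) = 0 := fun v hv i => by
    simp only [L, Cfsg.Lib.LeviOmega.blocks, Matrix.fromBlocks_mulVec, Sum.elim_inr]
    have : v ∘ Sum.inr = 0 := funext hv
    simp [this]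
  have hLW : ∀ v, (∀ i, v (Sum.inl i) = 0) → ∀ i, (((L : Matrix.GeneralLinearGroup (Fin m ⊕ Fin m) F) :
      Matrix (Fin m ⊕ Fin m) (Fin m ⊕ Fin m) F).mulVec v) (Sum.inl i) = 0 := fun v hv i => by
    simp only [L, Cfsg.Lib.LeviOmega.blocks, Matrix.fromBlocks_mulVec, Sum.elim_inl]
    have : v ∘ Sum.inl = 0 := funext hv
    simp [this]
  have hdL : dickson (HypQuad.plusForm m F) hQ L = 1 := by
    rw [← parity_dickson hQ hι h4 hU L]
    have h0 : U.map (Matrix.mulVecLin ((L : Matrix.GeneralLinearGroup (Fin m ⊕ Fin m) F) :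
        Matrix (Fin m ⊕ Fin m) (Fin m ⊕ Fin m) F)) ≤ U := by
      rintro _ ⟨v, hv, rfl⟩
      exact (memU _).2 fun i => hLU v ((memU v).1 hv) i
    rw [inf_eq_right.2 h0, (isMax_map L hU).1, Nat.sub_self]
    exact Even.zero
  have hdet : ∀ x : Cfsg.isometryGroup F (⇑(HypQuad.plusForm m F)), dickson (HypQuad.plusForm m F) hQ x = 1 →
      detHom (HypQuad.plusForm m F) x = 1 := fun x hx => by
    refine Units.ext ?_
    show ((x : Matrix.GeneralLinearGroup (Fin m ⊕ Fin m) F) : Matrix (Fin m ⊕ Fin m) (Fin m ⊕ Fin m) F).det = 1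
    rw [det_dickson h2 hQ x, hx]; simp
  have hn2 : 2 ≤ Fintype.card (Fin m ⊕ Fin m) := by omega
  have hspin : ∀ x : Cfsg.isometryGroup F (⇑(HypQuad.plusForm m F)), dickson (HypQuad.plusForm m F) hQ x = 1 →
      x ∉ Cfsg.Omega F (⇑(HypQuad.plusForm m F)) → spin (HypQuad.plusForm m F) x = -1 := fun x hx hxΩ => by
    rcases Int.units_eq_one_or (spin (HypQuad.plusForm m F) x) with h1 | h1
    · exact absurd ((mem_omega_iff _ h2 hQ hn2).2 ⟨hdet x hx, h1⟩) hxΩ
    · exact h1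
  refine ⟨s * L, (mem_omega_iff _ h2 hQ hn2).2 ⟨hdet _ (by rw [map_mul, hds, hdL, one_mul]), ?_⟩, ?_, ?_⟩
  · rw [map_mul, hspin s hds hsΩ, hspin L hdL hLΩ]; rfl
  · intro v hv i
    rw [Subgroup.coe_mul, Units.val_mul, ← Matrix.mulVec_mulVec]
    exact hsU _ (hLU v hv) i
  · intro v hv i
    rw [Subgroup.coe_mul, Units.val_mul, ← Matrix.mulVec_mulVec]
    exact hsW _ (hLW v hv) i

end Cfsg.Agent.S2612
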