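import Cfsg.Statements.S2613
import Cfsg.Agent.Known.OmegaPairs
import Cfsg.Agent.Known.OrthGlue

set_option autoImplicit false
open Cfsg

namespace Cfsg.Agent.S2613

/-- For the hyperbolic form Σ x_j y_j on F^(2m), F finite with q elements, q odd, and 1 ≤ i ≤ m: the involution negating the first i hyperbolic pairs (x_j, y_j ↦ −x_j, −y_j for j < i) and fixing the rest lies in Ω⁺_2m(q) (commutator subgroup of the orthogonal group) if and only if q^i ≡ 1 (mod 4); its (−1)-eigenspace is a hyperbolic 2i-space. -/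
theorem result {F : Type*} [Field F] [Fintype F] {q : ℕ} (hF : Fintype.card F = q) (hq : Odd q) {m : ℕ} (i : ℕ) (hi : 1 ≤ i) (him : i ≤ m) : (∃ g : ↥(Cfsg.isometryGroup F (Cfsg.quadFormPlus m F)), g ∈ Cfsg.Omega F (Cfsg.quadFormPlus m F) ∧ ((g : Matrix.GeneralLinearGroup (Fin m ⊕ Fin m) F) : Matrix (Fin m ⊕ Fin m) (Fin m ⊕ Fin m) F) = Matrix.diagonal (fun k : Fin m ⊕ Fin m => if (Sum.elim (fun j : Fin m => (j : ℕ)) (fun j : Fin m => (j : ℕ)) k) < i then (-1 : F) else 1)) ↔ q ^ i % 4 = 1 := by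
  classical
  subst hF
  obtain ⟨k, rfl⟩ : ∃ k, i = k + 1 := ⟨i - 1, by omega⟩
  have h2 : (2 : F) ≠ 0 := Cfsg.Lib.Classical.Refl.two_ne_zero_of_odd hq
  have hsum : ∀ {M : ℕ} (hM : k + 1 ≤ M) (j : Fin M) (z : Fin M → F),
      (∑ a : Fin (k + 1), if j = Fin.castLE hM a then z (Fin.castLE hM a) else 0) = if (j : ℕ) < k + 1 then z j else 0 := by
    intro M hM j z
    split_ifs with hj
    · rw [Finset.sum_eq_single (⟨j, hj⟩ : Fin (k + 1)) (fun b _ hb => if_neg (fun he => hb (by subst he; rfl)))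
        (by simp)]
      exact if_pos rfl
    · exact Finset.sum_eq_zero fun b _ => if_neg (fun he => hj (by rw [he]; exact b.2))
  have hM : k + 1 ≤ m := him
  have hQe : Cfsg.quadFormPlus m F = ⇑(Cfsg.Lib.Classical.HypQuad.plusForm m F) :=
    funext fun v => (Cfsg.Lib.Classical.HypQuad.plusForm_apply _ v).symm
  obtain ⟨-, -, -, hQ⟩ := Cfsg.Lib.OrthGlue.exists_plus_space F m
  have hp : ∀ x y, QuadraticMap.polar (⇑(Cfsg.Lib.Classical.HypQuad.plusForm m F)) x y =
      ∑ i, (x (.inl i) * y (.inr i) + y (.inl i) * x (.inr i)) := fun x y => by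
    simp only [QuadraticMap.polar, Cfsg.Lib.Classical.HypQuad.plusForm_apply, Cfsg.quadFormPlus, Pi.add_apply,
      ← Finset.sum_sub_distrib]
    exact Finset.sum_congr rfl fun i _ => by ring
  rw [hQe]
  refine Cfsg.Lib.OmegaCls.neg_pairs_iff h2 hQ (fun a => Pi.single (Sum.inl (Fin.castLE hM a)) 1)
    (fun a => Pi.single (Sum.inr (Fin.castLE hM a)) 1) (fun a => ?_) (fun a => ?_) (fun a b => ?_) (fun a b => ?_)
    (fun a b => ?_) _ (fun x => ?_)
  · simp [Cfsg.Lib.Classical.HypQuad.plusForm_apply, Cfsg.quadFormPlus, Pi.single_apply]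
  · simp [Cfsg.Lib.Classical.HypQuad.plusForm_apply, Cfsg.quadFormPlus, Pi.single_apply]
  · simp [hp, Pi.single_apply]
  · simp [hp, Pi.single_apply]
  · simp [hp, Pi.single_apply, eq_comm]
  funext l
  rw [Matrix.mulVec_diagonal]
  simp only [Pi.sub_apply, Pi.smul_apply, Finset.sum_apply, Pi.add_apply, hp, smul_eq_mul]
  rcases l with j | j
  · simp [Pi.single_apply, hsum hM j (fun b => x (Sum.inl b))]
    split_ifs <;> ring
  · simp [Pi.single_apply, hsum hM j (fun b => x (Sum.inr b))]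
    split_ifs <;> ring

end Cfsg.Agent.S2613
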