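import Cfsg.Statements.S2614
import Cfsg.Agent.Known.OmegaPairs

set_option autoImplicit false
open Cfsg

namespace Cfsg.Agent.S2614

/-- For the form x_0² + Σ x_j y_j on F^(2m+1), F finite with q elements, q odd, and 1 ≤ i ≤ m: the involution of determinant one negating the first i hyperbolic pairs (and fixing x_0 and the other pairs) lies in Ω_(2m+1)(q) (commutator subgroup of the orthogonal group) if and only if q^i ≡ 1 (mod 4); its (−1)-eigenspace is a hyperbolic 2i-space. -/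
theorem result {F : Type*} [Field F] [Fintype F] {q : ℕ} (hF : Fintype.card F = q) (hq : Odd q) {m : ℕ} (i : ℕ) (hi : 1 ≤ i) (him : i ≤ m) : (∃ g : ↥(Cfsg.isometryGroup F (Cfsg.quadFormOdd m F)), g ∈ Cfsg.Omega F (Cfsg.quadFormOdd m F) ∧ ((g : Matrix.GeneralLinearGroup (Unit ⊕ (Fin m ⊕ Fin m)) F) : Matrix (Unit ⊕ (Fin m ⊕ Fin m)) (Unit ⊕ (Fin m ⊕ Fin m)) F) = Matrix.diagonal (fun k : Unit ⊕ (Fin m ⊕ Fin m) => if (Sum.elim (fun _ : Unit => i) (Sum.elim (fun j : Fin m => (j : ℕ)) (fun j : Fin m => (j : ℕ))) k) < i then (-1 : F) else 1)) ↔ q ^ i % 4 = 1 := by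
  classical
  subst hF
  obtain ⟨k, rfl⟩ : ∃ k, i = k + 1 := ⟨i - 1, by omega⟩
  have h2 : (2 : F) ≠ 0 := Cfsg.Lib.Classical.Refl.two_ne_zero_of_odd hq
  have hsum : ∀ {M : ℕ} (hM : k + 1 ≤ M) (j : Fin M) (z : Fin M → F),
      (∑ a : Fin (k + 1), if j = Fin.castLE hM a then z (Fin.castLE hM a) else 0) = if (j : ℕ) < k + 1 then z j else 0 := by
    intro M hM j z
    split_ifs with hj
    · rw [Finset.sum_eq_single (⟨j, hj⟩ : Fin (k + 1)) (fun b _ hb => if_neg (fun he => hb (by subst he; rfl)))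
        (by simp)]
      exact if_pos rfl
    · exact Finset.sum_eq_zero fun b _ => if_neg (fun he => hj (by rw [he]; exact b.2))
  have hM : k + 1 ≤ m := him
  have hQ := Cfsg.Lib.Classical.Refl.oddForm_nondegenerate (F := F) h2 m
  have hp : ∀ x y, QuadraticMap.polar (⇑(Cfsg.Lib.Classical.Refl.oddForm m F)) x y = 2 * (x (.inl ()) * y (.inl ())) +
      ∑ i, (x (.inr (.inl i)) * y (.inr (.inr i)) + y (.inr (.inl i)) * x (.inr (.inr i))) := fun x y => by
    simp only [QuadraticMap.polar, Cfsg.Lib.Classical.Refl.oddForm_coe, Cfsg.quadFormOdd, Pi.add_apply, add_mul, mul_add,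
      Finset.sum_add_distrib]
    ring
  rw [← Cfsg.Lib.Classical.Refl.oddForm_coe]
  refine Cfsg.Lib.OmegaCls.neg_pairs_iff h2 hQ (fun a => Pi.single (Sum.inr (Sum.inl (Fin.castLE hM a))) 1)
    (fun a => Pi.single (Sum.inr (Sum.inr (Fin.castLE hM a))) 1) (fun a => ?_) (fun a => ?_) (fun a b => ?_) (fun a b => ?_)
    (fun a b => ?_) _ (fun x => ?_)
  · simp [Cfsg.Lib.Classical.Refl.oddForm_coe, Cfsg.quadFormOdd, Pi.single_apply]
  · simp [Cfsg.Lib.Classical.Refl.oddForm_coe, Cfsg.quadFormOdd, Pi.single_apply]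
  · simp [hp, Pi.single_apply]
  · simp [hp, Pi.single_apply]
  · simp [hp, Pi.single_apply, eq_comm]
  funext l
  rw [Matrix.mulVec_diagonal]
  simp only [Pi.sub_apply, Pi.smul_apply, Finset.sum_apply, Pi.add_apply, hp, smul_eq_mul]
  rcases l with j | j | j
  · simp [Pi.single_apply]
  · simp [Pi.single_apply, hsum hM j (fun b => x (Sum.inr (Sum.inl b)))]
    split_ifs <;> ring
  · simp [Pi.single_apply, hsum hM j (fun b => x (Sum.inr (Sum.inr b)))]
    split_ifs <;> ring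

end Cfsg.Agent.S2614
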