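import Cfsg.Statements.S2615
import Cfsg.Agent.Known.OmegaPairs

set_option autoImplicit false
open Cfsg

namespace Cfsg.Agent.S2615

/-- For an elliptic form Σ_(j<m−1) x_j y_j + (z₁² + a z₁z₂ + b z₂²) (anisotropic binary part) on F^(2m), F finite with q elements, q odd, and 1 ≤ i ≤ m − 1: the involution negating the first i hyperbolic pairs and fixing the rest lies in Ω⁻_2m(q) (commutator subgroup of the orthogonal group) if and only if q^i ≡ 1 (mod 4). -/
theorem result {F : Type*} [Field F] [Fintype F] {q : ℕ} (hF : Fintype.card F = q) (hq : Odd q) {m : ℕ} (a b : F) (hab : ∀ z₁ z₂ : F, z₁ ^ 2 + a * z₁ * z₂ + b * z₂ ^ 2 = 0 → z₁ = 0 ∧ z₂ = 0) (i : ℕ) (hi : 1 ≤ i) (him : i + 1 ≤ m) : (∃ g : ↥(Cfsg.isometryGroup F (Cfsg.quadFormMinus (m - 1) F a b)), g ∈ Cfsg.Omega F (Cfsg.quadFormMinus (m - 1) F a b) ∧ ((g : Matrix.GeneralLinearGroup ((Fin (m - 1) ⊕ Fin (m - 1)) ⊕ Fin 2) F) : Matrix ((Fin (m - 1) ⊕ Fin (m - 1)) ⊕ Fin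 2) ((Fin (m - 1) ⊕ Fin (m - 1)) ⊕ Fin 2) F) = Matrix.diagonal (fun k : (Fin (m - 1) ⊕ Fin (m - 1)) ⊕ Fin 2 => if (Sum.elim (Sum.elim (fun j : Fin (m - 1) => (j : ℕ)) (fun j : Fin (m - 1) => (j : ℕ))) (fun _ : Fin 2 => i) k) < i then (-1 : F) else 1)) ↔ q ^ i % 4 = 1 := by
  classical
  subst hF
  obtain ⟨k, rfl⟩ : ∃ k, i = k + 1 := ⟨i - 1, by omega⟩
  have h2 : (2 : F) ≠ 0 := Cfsg.Lib.Classical.Refl.two_ne_zero_of_odd hq
  have hsum : ∀ {M : ℕ} (hM : k + 1 ≤ M) (j : Fin M) (z : Fin M → F),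
      (∑ a : Fin (k + 1), if j = Fin.castLE hM a then z (Fin.castLE hM a) else 0) = if (j : ℕ) < k + 1 then z j else 0 := by
    intro M hM j z
    split_ifs with hj
    · rw [Finset.sum_eq_single (⟨j, hj⟩ : Fin (k + 1)) (fun b _ hb => if_neg (fun he => hb (by subst he; rfl)))
        (by simp)]
      exact if_pos rfl
    · exact Finset.sum_eq_zero fun b _ => if_neg (fun he => hj (by rw [he]; exact b.2))
  have hM : k + 1 ≤ m - 1 := by omega
  have hQ := Cfsg.Lib.Classical.Refl.minusForm_nondegenerate' (m - 1) hab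
  have hp : ∀ x y, QuadraticMap.polar (⇑(Cfsg.Lib.Classical.Refl.minusForm (m - 1) F a b)) x y =
      (∑ i, (x (.inl (.inl i)) * y (.inl (.inr i)) + y (.inl (.inl i)) * x (.inl (.inr i)))) +
      (2 * (x (.inr 0) * y (.inr 0)) + a * (x (.inr 0) * y (.inr 1) + y (.inr 0) * x (.inr 1)) +
        2 * b * (x (.inr 1) * y (.inr 1))) := fun x y => by
    simp only [QuadraticMap.polar, Cfsg.Lib.Classical.Refl.minusForm_coe, Cfsg.quadFormMinus, Pi.add_apply, add_mul, mul_add,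
      Finset.sum_add_distrib]
    ring
  rw [← Cfsg.Lib.Classical.Refl.minusForm_coe]
  refine Cfsg.Lib.OmegaCls.neg_pairs_iff h2 hQ (fun c => Pi.single (Sum.inl (Sum.inl (Fin.castLE hM c))) 1)
    (fun c => Pi.single (Sum.inl (Sum.inr (Fin.castLE hM c))) 1) (fun c => ?_) (fun c => ?_) (fun c d => ?_) (fun c d => ?_)
    (fun c d => ?_) _ (fun x => ?_)
  · simp [Cfsg.Lib.Classical.Refl.minusForm_coe, Cfsg.quadFormMinus, Pi.single_apply]
  · simp [Cfsg.Lib.Classical.Refl.minusForm_coe, Cfsg.quadFormMinus, Pi.single_apply]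
  · simp [hp, Pi.single_apply]
  · simp [hp, Pi.single_apply]
  · simp [hp, Pi.single_apply, eq_comm]
  funext l
  rw [Matrix.mulVec_diagonal]
  simp only [Pi.sub_apply, Pi.smul_apply, Finset.sum_apply, Pi.add_apply, hp, smul_eq_mul]
  rcases l with (j | j) | j
  · simp [Pi.single_apply, hsum hM j (fun c => x (Sum.inl (Sum.inl c)))]
    split_ifs <;> ring
  · simp [Pi.single_apply, hsum hM j (fun c => x (Sum.inl (Sum.inr c)))]
    split_ifs <;> ring
  · simp [Pi.single_apply]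

end Cfsg.Agent.S2615
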