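import Cfsg.Statements.S2616
import Cfsg.Agent.Known.FormNormal

set_option autoImplicit false
open Cfsg

namespace Cfsg.Agent.S2616

/-- Standard bases of a non-degenerate quadratic space of even dimension 2m over a finite field: either there is a hyperbolic basis e_i, f_i (Q(e_i) = Q(f_i) = 0, B(e_i, f_j) = δ_ij, the e's pairwise orthogonal and the f's pairwise orthogonal, B the polar form), or there is an elliptic basis: hyperbolic pairs e_i, f_i for i < m − 1 together with x, y orthogonal to them with Q(x) = 1, B(x, y) = 1, Q(y) = ζ where t² + t + ζ has no root in the field. -/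
theorem result {F V : Type*} [Field F] [Finite F] [AddCommGroup V] [Module F V] [FiniteDimensional F V] {m : ℕ} (hm : 1 ≤ m) (hV : Module.finrank F V = 2 * m) (Q : QuadraticForm F V) (hQ : (QuadraticMap.polarBilin Q).Nondegenerate) : (∃ b : Module.Basis (Fin m ⊕ Fin m) F V, (∀ i, Q (b (Sum.inl i)) = 0 ∧ Q (b (Sum.inr i)) = 0) ∧ (∀ i j, QuadraticMap.polar ⇑Q (b (Sum.inl i)) (b (Sum.inr j)) = if i = j then 1 else 0) ∧ (∀ i j, QuadraticMap.polar ⇑Q (b (Sum.inl i)) (b (Sum.inl j)) = 0 ∧ QuadraticMap.polar ⇑Q (b (Sum.inr i)) (b (Sum.inr j)) = 0)) ∨ (∃ (b : Module.Basis ((Fin (m - 1) ⊕ Fin (m - 1)) ⊕ Fin 2) F V) (ζ : F), (∀ t : F, t ^ 2 + t + ζ ≠ 0) ∧ (∀ i, Q (b (Sum.inl (Sum.inl i))) = 0 ∧ Q (b (Sum.inl (Sum.inr i))) = 0) ∧ (∀ i j, QuadraticMap.polar ⇑Q (b (Sum.inl (Sum.inl i))) (b (Sum.inl (Sum.inr j))) = if i = j then 1 else 0) ∧ (∀ i j, QuadraticMap.polar ⇑Q (b (Sum.inl (Sum.inl i))) (b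 (Sum.inl (Sum.inl j))) = 0 ∧ QuadraticMap.polar ⇑Q (b (Sum.inl (Sum.inr i))) (b (Sum.inl (Sum.inr j))) = 0) ∧ (∀ i (k : Fin 2), QuadraticMap.polar ⇑Q (b (Sum.inl (Sum.inl i))) (b (Sum.inr k)) = 0 ∧ QuadraticMap.polar ⇑Q (b (Sum.inl (Sum.inr i))) (b (Sum.inr k)) = 0) ∧ Q (b (Sum.inr 0)) = 1 ∧ QuadraticMap.polar ⇑Q (b (Sum.inr 0)) (b (Sum.inr 1)) = 1 ∧ Q (b (Sum.inr 1)) = ζ) := by
  classical
  have sy : ∀ x y : V, QuadraticMap.polar (⇑Q) x y = QuadraticMap.polar (⇑Q) y x := fun x y => QuadraticMap.polar_comm _ _ _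
  rcases Cfsg.Lib.FormNormal.even_basis Q hV hQ with ⟨D, hD⟩ | ⟨D, hD, hK⟩
  · subst hD
    have hd := D.dim
    rw [finrank_top, hV] at hd
    left
    obtain ⟨b, hb⟩ := D.basis rfl (κ := Fin 0) Fin.elim0 (fun k => k.elim0) linearIndependent_empty_type (by simp; omega)
    refine ⟨b.reindex (Equiv.sumEmpty _ _), ?_, ?_, ?_⟩
    · intro i; simp [hb, D.qe i, D.qf i]
    · intro i j; simp [hb, D.ef i j]
    · intro i j; simp [hb, D.ee i j, D.ff i j]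
  · subst hD
    right
    obtain ⟨ζ, hζ, hex⟩ := Cfsg.Lib.FormNormal.exists_plane Q D.ndK D.aniso hK
    obtain ⟨g, hg, hgi, h0, h01, h1⟩ := hex ζ hζ
    obtain ⟨b, hb⟩ := D.basis rfl g hg hgi (by simp [hK])
    refine ⟨b, ζ, hζ, ?_, ?_, ?_, ?_, ?_, ?_, ?_⟩
    · intro i; rw [hb]; exact ⟨D.qe i, D.qf i⟩
    · intro i j; rw [hb]; exact D.ef i j
    · intro i j; rw [hb]; exact ⟨D.ee i j, D.ff i j⟩
    · intro i k; rw [hb]; exact ⟨D.ek i _ (hg k), D.fk i _ (hg k)⟩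
    · rw [hb]; exact h0
    · rw [hb]; exact h01
    · rw [hb]; exact h1

end Cfsg.Agent.S2616
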