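import Cfsg.Statements.S2618
import Cfsg.Agent.Known.FormNormal

set_option autoImplicit false
open Cfsg

namespace Cfsg.Agent.S2618

/-- Standard (parabolic) basis of a non-degenerate quadratic space of odd dimension 2m + 1 over a finite field (the non-degeneracy of the polar form forces the characteristic to be odd): there is a basis e_i, f_i (i < m), x with Q(e_i) = Q(f_i) = 0, B(e_i, f_j) = δ_ij (B the polar form), the e's pairwise orthogonal and the f's pairwise orthogonal, x orthogonal to all of them and Q(x) ≠ 0. -/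
theorem result {F V : Type*} [Field F] [Finite F] [AddCommGroup V] [Module F V] [FiniteDimensional F V] {m : ℕ} (hV : Module.finrank F V = 2 * m + 1) (Q : QuadraticForm F V) (hQ : (QuadraticMap.polarBilin Q).Nondegenerate) : ∃ b : Module.Basis (Unit ⊕ (Fin m ⊕ Fin m)) F V, Q (b (Sum.inl ())) ≠ 0 ∧ (∀ i, QuadraticMap.polar ⇑Q (b (Sum.inl ())) (b (Sum.inr (Sum.inl i))) = 0 ∧ QuadraticMap.polar ⇑Q (b (Sum.inl ())) (b (Sum.inr (Sum.inr i))) = 0) ∧ (∀ i, Q (b (Sum.inr (Sum.inl i))) = 0 ∧ Q (b (Sum.inr (Sum.inr i))) = 0) ∧ (∀ i j, QuadraticMap.polar ⇑Q (b (Sum.inr (Sum.inl i))) (b (Sum.inr (Sum.inr j))) = if i = j then 1 else 0) ∧ (∀ i j, QuadraticMap.polar ⇑Q (b (Sum.inr (Sum.inl i))) (b (Sum.inr (Sum.inl j))) = 0 ∧ QuadraticMap.polar ⇑Q (b (Sum.inr (Sum.inr i))) (b (Sum.inr (Sum.inr j))) = 0) := by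
  classical
  obtain ⟨D, z, hD, hz, hQz, hzi, hK⟩ := Cfsg.Lib.FormNormal.odd_basis hV hQ
  subst hD
  obtain ⟨b, hb⟩ := D.basis rfl (κ := Fin 1) ![z] (fun k => by fin_cases k; simpa using hz) hzi (by simp [hK])
  let ρ : (Fin D.m ⊕ Fin D.m) ⊕ Fin 1 ≃ Unit ⊕ (Fin D.m ⊕ Fin D.m) :=
    (Equiv.sumComm _ _).trans (Equiv.sumCongr finOneEquiv (Equiv.refl _))
  have h1 : ∀ i, b.reindex ρ (Sum.inr i) = b (Sum.inl i) := fun i => by simp [ρ]
  have h0 : b.reindex ρ (Sum.inl ()) = z := by simp [ρ, hb]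
  refine ⟨b.reindex ρ, by rw [h0]; exact hQz, ?_, ?_, ?_, ?_⟩
  · intro i
    rw [h0, h1, h1, hb, QuadraticMap.polar_comm _ z, QuadraticMap.polar_comm _ z]
    exact ⟨D.ek i z hz, D.fk i z hz⟩
  · intro i; rw [h1, h1, hb]; exact ⟨D.qe i, D.qf i⟩
  · intro i j; rw [h1, h1, hb]; exact D.ef i j
  · intro i j; rw [h1, h1, h1, h1, hb]; exact ⟨D.ee i j, D.ff i j⟩

end Cfsg.Agent.S2618
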