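import Cfsg.Statements.S2619

set_option autoImplicit false
open Cfsg

namespace Cfsg.Agent.S2619

/-- Over a finite field of characteristic two, given an alternating bilinear form B on a finite-dimensional space, a basis (v_i) and scalars (λ_i), there is exactly one quadratic form whose polar form is B and whose value at each v_i is λ_i. -/
theorem result {F V ι : Type*} [Field F] [Finite F] [CharP F 2] [AddCommGroup V] [Module F V] [Fintype ι] (b : Module.Basis ι F V) (B : LinearMap.BilinForm F V) (hB : B.IsAlt) (c : ι → F) : ∃! Q : QuadraticForm F V, QuadraticMap.polarBilin Q = B ∧ ∀ i, Q (b i) = c i := by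
  classical
  obtain ⟨e⟩ : Nonempty (ι ≃ Fin (Fintype.card ι)) := ⟨Fintype.equivFin ι⟩
  let A : LinearMap.BilinForm F V := Matrix.toBilin b (Matrix.of fun i j : ι =>
    if i = j then c i else if e i < e j then B (b i) (b j) else 0)
  have hA : ∀ i j, A (b i) (b j) = if i = j then c i else if e i < e j then B (b i) (b j) else 0 := fun i j => by
    show Matrix.toBilin b _ (b i) (b j) = _
    rw [← LinearMap.BilinForm.toMatrix_apply b, LinearMap.BilinForm.toMatrix_toBilin]
    rfl
  have hval : ∀ i, LinearMap.BilinMap.toQuadraticMap A (b i) = c i := fun i => by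
    rw [LinearMap.BilinMap.toQuadraticMap_apply, hA, if_pos rfl]
  have hpol : QuadraticMap.polarBilin (LinearMap.BilinMap.toQuadraticMap A) = B := by
    refine LinearMap.BilinForm.ext_basis b fun i j => ?_
    rw [QuadraticMap.polarBilin_apply_apply, LinearMap.BilinMap.polar_toQuadraticMap, hA, hA]
    have hsymm : B (b j) (b i) = B (b i) (b j) := by
      rw [← hB.neg_eq (b i) (b j), CharTwo.neg_eq]
    by_cases hij : i = j
    · subst hij
      rw [if_pos rfl, CharTwo.add_self_eq_zero, hB (b i)]
    · rcases lt_or_gt_of_ne (fun h => hij (e.injective h)) with h | h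
      · rw [if_neg hij, if_pos h, if_neg (Ne.symm hij), if_neg (not_lt.2 h.le), add_zero]
      · rw [if_neg hij, if_neg (not_lt.2 h.le), if_neg (Ne.symm hij), if_pos h, zero_add, hsymm]
  refine ⟨_, ⟨hpol, hval⟩, ?_⟩
  rintro Q ⟨hQ1, hQ2⟩
  set R := LinearMap.BilinMap.toQuadraticMap A
  have hadd : ∀ x y, (Q - R) (x + y) = (Q - R) x + (Q - R) y := fun x y => by
    have h := congrArg (fun T : LinearMap.BilinForm F V => T x y) (hQ1.trans hpol.symm)
    simp only [QuadraticMap.polarBilin_apply_apply, QuadraticMap.polar] at h
    simp only [QuadraticMap.sub_apply]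
    linear_combination h
  refine sub_eq_zero.1 (QuadraticMap.ext fun x => ?_)
  show (Q - R) x = 0
  have hx := b.mem_span x
  induction hx using Submodule.span_induction with
  | mem v hv => obtain ⟨i, rfl⟩ := hv; rw [QuadraticMap.sub_apply, hQ2, hval, sub_self]
  | zero => exact QuadraticMap.map_zero _
  | add u v _ _ hu hv => rw [hadd, hu, hv, add_zero]
  | smul a v _ hv => rw [QuadraticMap.map_smul, hv, smul_zero]

end Cfsg.Agent.S2619
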