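import Cfsg.Statements.S2622

set_option autoImplicit false
open Cfsg

namespace Cfsg.Agent.S2622

/-- Over a finite field of characteristic two, a non-degenerate symmetric bilinear form that is not alternating (some vector v has B(v, v) ≠ 0) admits an orthonormal basis. -/
theorem result {F V : Type*} [Field F] [Finite F] [CharP F 2] [AddCommGroup V] [Module F V] [FiniteDimensional F V] {n : ℕ} (hV : Module.finrank F V = n) (B : LinearMap.BilinForm F V) (hS : B.IsSymm) (hB : B.Nondegenerate) (hna : ∃ v : V, B v v ≠ 0) : ∃ b : Module.Basis (Fin n) F V, ∀ i j, B (b i) (b j) = if i = j then 1 else 0 := by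
  classical
  have hsq : ∀ a : F, ∃ b : F, b * b = a := fun a => by
    haveI := Fintype.ofFinite F
    obtain ⟨b, hb⟩ := FiniteField.isSquare_of_char_two (ringChar.eq F 2) a
    exact ⟨b, hb.symm⟩
  suffices key : ∀ (n : ℕ) (W : Submodule F V), Module.finrank F W = n → (B.restrict W).Nondegenerate →
      (∃ w ∈ W, B w w ≠ 0) → ∃ f : Fin n → V, (∀ i, f i ∈ W) ∧ ∀ i j, B (f i) (f j) = if i = j then 1 else 0 by
    obtain ⟨v, hv⟩ := hna
    obtain ⟨f, -, hf⟩ := key n ⊤ (by rw [finrank_top, hV])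
      ⟨fun x h => Subtype.ext (hB.1 x fun y => h ⟨y, trivial⟩), fun x h => Subtype.ext (hB.2 x fun y => h ⟨y, trivial⟩)⟩
      ⟨v, trivial, hv⟩
    have hli : LinearIndependent F f := by
      rw [Fintype.linearIndependent_iff]
      intro c hc i
      have h1 := congrArg (B (f i)) hc
      rw [map_sum, map_zero, Finset.sum_eq_single i (fun j _ hji => by rw [map_smul, hf, if_neg hji.symm, smul_zero])
        (by simp), map_smul, hf, if_pos rfl, smul_eq_mul, mul_one] at h1
      exact h1
    rcases Nat.eq_zero_or_pos n with rfl | hn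
    · exact ⟨Module.finBasisOfFinrankEq F V hV, fun i => i.elim0⟩
    haveI : Nonempty (Fin n) := ⟨⟨0, hn⟩⟩
    refine ⟨basisOfLinearIndependentOfCardEqFinrank hli (by simp [hV]), fun i j => ?_⟩
    rw [coe_basisOfLinearIndependentOfCardEqFinrank]
    exact hf i j
  intro n
  induction n using Nat.strong_induction_on with
  | _ n ih =>
  intro W hW hnd hne
  have hcomm : ∀ x y, B x y = B y x := fun x y => (hS.eq x y)
  have hsep : ∀ x ∈ W, (∀ y ∈ W, B x y = 0) → x = 0 := fun x hx h =>
    congrArg Subtype.val (hnd.1 ⟨x, hx⟩ fun y => h y.1 y.2)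
  obtain ⟨w, hw, hww⟩ := hne
  obtain ⟨s, hs⟩ := hsq (B w w)⁻¹
  set e := s • w with hedef
  have he : B e e = 1 := by
    simp only [hedef, map_smul, LinearMap.smul_apply, smul_eq_mul]
    rw [← mul_assoc, hs, inv_mul_cancel₀ hww]
  have split : ∀ e ∈ W, B e e = 1 →
      (B.restrict (W ⊓ LinearMap.ker (B e))).Nondegenerate ∧ Module.finrank F ↥(W ⊓ LinearMap.ker (B e)) + 1 = n := by
    intro e heW he
    have hdec : ∀ y ∈ W, y - (B e y) • e ∈ W ⊓ LinearMap.ker (B e) := fun y hy =>
      ⟨W.sub_mem hy (W.smul_mem _ heW), by simp [he]⟩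
    constructor
    · have hl : ∀ x ∈ W ⊓ LinearMap.ker (B e), (∀ y ∈ W ⊓ LinearMap.ker (B e), B x y = 0) → x = 0 := by
        intro x hx h
        refine hsep x hx.1 fun y hy => ?_
        have h1 := h _ (hdec y hy)
        have h0 : B x e = 0 := by rw [hcomm]; exact hx.2
        simpa [map_sub, map_smul, h0] using h1
      exact ⟨fun x h => Subtype.ext (hl x.1 x.2 fun y hy => h ⟨y, hy⟩),
        fun x h => Subtype.ext (hl x.1 x.2 fun y hy => by rw [hcomm]; exact h ⟨y, hy⟩)⟩
    · have h1 : Submodule.span F {e} ⊔ (W ⊓ LinearMap.ker (B e)) = W := by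
        refine le_antisymm (sup_le ((Submodule.span_singleton_le_iff_mem _ _).2 heW) inf_le_left) fun y hy => ?_
        rw [show y = (B e y) • e + (y - (B e y) • e) by abel]
        exact Submodule.add_mem_sup (Submodule.smul_mem _ _ (Submodule.mem_span_singleton_self e)) (hdec y hy)
      have h2 : Submodule.span F {e} ⊓ (W ⊓ LinearMap.ker (B e)) = ⊥ := by
        rw [eq_bot_iff]
        intro y hy
        obtain ⟨c, rfl⟩ := Submodule.mem_span_singleton.1 hy.1
        have h3 : B e (c • e) = 0 := hy.2.2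
        rw [map_smul, he, smul_eq_mul, mul_one] at h3
        simp [h3]
      have h3 := Submodule.finrank_sup_add_finrank_inf_eq (Submodule.span F {e}) (W ⊓ LinearMap.ker (B e))
      have he0 : e ≠ 0 := fun h => by simp [h] at he
      rw [h1, h2, finrank_bot, finrank_span_singleton he0, hW] at h3
      omega
  have step : ∀ e ∈ W, B e e = 1 → ((∃ y ∈ W ⊓ LinearMap.ker (B e), B y y ≠ 0) ∨ n = 1) →
      ∃ f : Fin n → V, (∀ i, f i ∈ W) ∧ ∀ i j, B (f i) (f j) = if i = j then 1 else 0 := by
    intro e heW he h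
    obtain ⟨hnd', hdim⟩ := split e heW he
    obtain ⟨k, rfl⟩ : ∃ k, n = k + 1 := ⟨_, hdim.symm⟩
    rcases h with h | h
    · obtain ⟨f, hf, hff⟩ := ih k (Nat.lt_succ_self k) _ (Nat.succ_injective hdim) hnd' h
      refine ⟨Fin.cons e f, fun i => ?_, fun i j => ?_⟩
      · refine Fin.cases ?_ (fun i => ?_) i
        · exact heW
        · exact (hf i).1
      · refine Fin.cases ?_ (fun i => ?_) i <;> refine Fin.cases ?_ (fun j => ?_) j
        · simpa using he
        · rw [Fin.cons_zero, Fin.cons_succ, if_neg (Fin.succ_ne_zero j).symm]; exact (hf j).2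
        · rw [Fin.cons_zero, Fin.cons_succ, if_neg (Fin.succ_ne_zero i), hcomm]; exact (hf i).2
        · simp [hff, Fin.succ_inj]
    · obtain rfl : k = 0 := by omega
      exact ⟨fun _ => e, fun _ => heW, fun i j => by rw [show i = j from Fin.ext (by omega), if_pos rfl]; exact he⟩
  have heW : e ∈ W := W.smul_mem _ hw
  obtain ⟨hnd', hdim⟩ := split e heW he
  by_cases h : ∃ y ∈ W ⊓ LinearMap.ker (B e), B y y ≠ 0
  · exact step e heW he (.inl h)
  by_cases hn1 : n = 1
  · exact step e heW he (.inr hn1)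
  push Not at h
  have hne' : (W ⊓ LinearMap.ker (B e)) ≠ ⊥ := fun hb => by rw [hb, finrank_bot] at hdim; omega
  obtain ⟨a, ha, ha0⟩ := Submodule.exists_mem_ne_zero_of_ne_bot hne'
  obtain ⟨b, hb, hab⟩ : ∃ b ∈ W ⊓ LinearMap.ker (B e), B a b ≠ 0 := by
    by_contra hh
    push Not at hh
    exact ha0 (congrArg Subtype.val (hnd'.1 ⟨a, ha⟩ fun y => hh y.1 y.2))
  have hea : B e a = 0 := ha.2
  have heb : B e b = 0 := hb.2
  set b' := (B a b)⁻¹ • b with hb'
  have hab' : B a b' = 1 := by rw [hb', map_smul, smul_eq_mul, inv_mul_cancel₀ hab]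
  have heb' : B e b' = 0 := by rw [hb', map_smul, heb, smul_zero]
  have hb'' : b' ∈ W ⊓ LinearMap.ker (B e) := Submodule.smul_mem _ _ hb
  refine step (e + a) (W.add_mem heW ha.1) ?_ (.inl ⟨e + b', ⟨W.add_mem heW hb''.1, ?_⟩, ?_⟩)
  · simp [map_add, he, hea, h a ha, hcomm a e]
  · show B (e + a) (e + b') = 0
    simp [map_add, he, heb', hab', hcomm a e, hea, CharTwo.add_self_eq_zero]
  · simp [map_add, he, heb', h b' hb'', hcomm b' e]

end Cfsg.Agent.S2622
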