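import Cfsg.Statements.S2625

set_option autoImplicit false
open Cfsg

namespace Cfsg.Agent.S2625

/-- For a quadratic form Q on F^n with non-degenerate polar form, F finite and n odd (so |F| is odd), the multiplier of any similarity is a square: if g is an invertible linear map with Q(g v) = c·Q(v) for all v then c is a square. -/
theorem result {F : Type*} [Field F] [Fintype F] {n : ℕ} (hn : Odd n) (Q : QuadraticForm F (Fin n → F)) (hQ : (QuadraticMap.polarBilin Q).Nondegenerate) (g : (Fin n → F) ≃ₗ[F] (Fin n → F)) (c : F) (hg : ∀ v, Q (g v) = c * Q v) : IsSquare c := by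
  classical
  by_cases hc : c = 0
  · exact hc ▸ IsSquare.zero
  let b := Pi.basisFun F (Fin n)
  have hpol : ∀ u v, QuadraticMap.polarBilin Q (g u) (g v) = c * QuadraticMap.polarBilin Q u v := fun u v => by
    simp only [QuadraticMap.polarBilin_apply_apply, QuadraticMap.polar, ← map_add, hg]
    ring
  set A := LinearMap.BilinForm.toMatrix b (QuadraticMap.polarBilin Q)
  have hA : A.det ≠ 0 := (LinearMap.BilinForm.nondegenerate_iff_det_ne_zero b).1 hQ
  have he : (LinearMap.toMatrix b b (g : (Fin n → F) →ₗ[F] (Fin n → F))).transpose * A *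
      LinearMap.toMatrix b b (g : (Fin n → F) →ₗ[F] (Fin n → F)) = c • A := by
    rw [← LinearMap.BilinForm.toMatrix_comp]
    ext i j
    simp [A, LinearMap.BilinForm.comp_apply, hpol]
  have hd := congrArg Matrix.det he
  rw [Matrix.det_mul, Matrix.det_mul, Matrix.det_transpose, Matrix.det_smul, Fintype.card_fin] at hd
  obtain ⟨k, rfl⟩ := hn
  set D := (LinearMap.toMatrix b b (g : (Fin (2 * k + 1) → F) →ₗ[F] (Fin (2 * k + 1) → F))).det
  refine ⟨D / c ^ k, ?_⟩
  field_simp
  refine mul_right_cancel₀ hA ?_
  linear_combination -hd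

end Cfsg.Agent.S2625
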