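import Cfsg.Statements.S2626

set_option autoImplicit false
open Cfsg

namespace Cfsg.Agent.S2626

/-- Ω of an orthogonal direct sum contains the product of the Ω's: for quadratic forms Q₁ on F^k and Q₂ on F^l with non-degenerate polar forms (F finite) and Q = Q₁ ⊕ Q₂ on F^(k+l), if g₁ lies in Ω(Q₁) and g₂ in Ω(Q₂) (commutator subgroups of the orthogonal groups) then the block-diagonal isometry diag(g₁, g₂) lies in Ω(Q). -/
theorem result {F : Type*} [Field F] [Fintype F] {k l : ℕ} (Q₁ : QuadraticForm F (Fin k → F)) (Q₂ : QuadraticForm F (Fin l → F)) (h₁ : (QuadraticMap.polarBilin Q₁).Nondegenerate) (h₂ : (QuadraticMap.polarBilin Q₂).Nondegenerate) (g₁ : ↥(Cfsg.isometryGroup F ⇑Q₁)) (g₂ : ↥(Cfsg.isometryGroup F ⇑Q₂)) (hg₁ : g₁ ∈ Cfsg.Omega F ⇑Q₁) (hg₂ : g₂ ∈ Cfsg.Omega F ⇑Q₂) : ∃ g : ↥(Cfsg.isometryGroup F (fun v : Fin k ⊕ Fin l → F => Q₁ (v ∘ Sum.inl) + Q₂ (v ∘ Sum.inr))), g ∈ Cfsg.Omega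 F (fun v : Fin k ⊕ Fin l → F => Q₁ (v ∘ Sum.inl) + Q₂ (v ∘ Sum.inr)) ∧ ((g : Matrix.GeneralLinearGroup (Fin k ⊕ Fin l) F) : Matrix (Fin k ⊕ Fin l) (Fin k ⊕ Fin l) F) = Matrix.fromBlocks ((g₁ : Matrix.GeneralLinearGroup (Fin k) F) : Matrix (Fin k) (Fin k) F) 0 0 ((g₂ : Matrix.GeneralLinearGroup (Fin l) F) : Matrix (Fin l) (Fin l) F) := by
  classical
  set Q : (Fin k ⊕ Fin l → F) → F := fun v => Q₁ (v ∘ Sum.inl) + Q₂ (v ∘ Sum.inr) with hQ
  let blk : Matrix.GeneralLinearGroup (Fin k) F × Matrix.GeneralLinearGroup (Fin l) F →* Matrix.GeneralLinearGroup (Fin k ⊕ Fin l) F :=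
    { toFun := fun ab => ⟨Matrix.fromBlocks ab.1.val 0 0 ab.2.val, Matrix.fromBlocks ab.1⁻¹.val 0 0 ab.2⁻¹.val,
        by simp [Matrix.fromBlocks_multiply], by simp [Matrix.fromBlocks_multiply]⟩
      map_one' := Units.ext (by simp)
      map_mul' := fun a b => Units.ext (by simp [Matrix.fromBlocks_multiply]) }
  have hblk : ∀ (a : ↥(Cfsg.isometryGroup F ⇑Q₁)) (b : ↥(Cfsg.isometryGroup F ⇑Q₂)), blk (a.1, b.1) ∈ Cfsg.isometryGroup F Q := by
    intro a b u v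
    show Q ((Matrix.fromBlocks a.1.val 0 0 b.1.val).mulVec u) = Q u
    rw [hQ]
    simp only [Matrix.fromBlocks_mulVec, Sum.elim_comp_inl, Sum.elim_comp_inr, Matrix.zero_mulVec, add_zero, zero_add]
    exact congrArg₂ (· + ·) (a.2 (u ∘ Sum.inl) (u ∘ Sum.inl)) (b.2 (u ∘ Sum.inr) (u ∘ Sum.inr))
  let Φ : ↥(Cfsg.isometryGroup F ⇑Q₁) × ↥(Cfsg.isometryGroup F ⇑Q₂) →* ↥(Cfsg.isometryGroup F Q) :=
    (blk.comp ((Cfsg.isometryGroup F ⇑Q₁).subtype.prodMap (Cfsg.isometryGroup F ⇑Q₂).subtype)).codRestrict _ fun ab => hblk ab.1 ab.2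
  refine ⟨Φ (g₁, g₂), ?_, rfl⟩
  have hmap : ∀ {A : Type _} [Group A] (f : A →* ↥(Cfsg.isometryGroup F Q)) (a : A), a ∈ commutator A → f a ∈ Cfsg.Omega F Q := by
    intro A _ f a ha
    have hle : (commutator A).map f ≤ commutator ↥(Cfsg.isometryGroup F Q) := by
      rw [commutator_def, Subgroup.map_commutator, commutator_def]
      exact Subgroup.commutator_mono le_top le_top
    exact hle (Subgroup.mem_map_of_mem f ha)
  have h1 := hmap (Φ.comp (MonoidHom.inl _ _)) g₁ hg₁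
  have h2 := hmap (Φ.comp (MonoidHom.inr _ _)) g₂ hg₂
  have := mul_mem h1 h2
  simp only [MonoidHom.comp_apply, ← map_mul, MonoidHom.inl_apply, MonoidHom.inr_apply, Prod.mk_mul_mk, mul_one, one_mul] at this
  exact this

end Cfsg.Agent.S2626
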