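import Cfsg.Statements.S2630
import Cfsg.Agent.Known.OmegaClasses
import Cfsg.Agent.Known.OrthGlue

set_option autoImplicit false
open Cfsg

namespace Cfsg.Agent.S2630

/-- For the hyperbolic form Σ x_i y_i on F^(2m) over a finite field of characteristic two (m ≥ 1, excluding m = 2 over the field of two elements), an isometry g preserves the class of the maximal totally singular subspace U₀ = {y = 0} (m − dim(U₀ ∩ gU₀) even) if and only if g lies in Ω (the commutator subgroup of the orthogonal group): the stabiliser of each class is Ω. -/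
theorem result {F : Type*} [Field F] [Fintype F] [CharP F 2] {m : ℕ} (hm : 1 ≤ m) (h : Fintype.card F ≠ 2 ∨ m ≠ 2) (g : ↥(Cfsg.isometryGroup F (Cfsg.quadFormPlus m F))) : Even (m - Module.finrank F ↥(LinearMap.ker (LinearMap.funLeft F F (Sum.inr : Fin m → Fin m ⊕ Fin m)) ⊓ (LinearMap.ker (LinearMap.funLeft F F (Sum.inr : Fin m → Fin m ⊕ Fin m))).map (Matrix.mulVecLin ((g : Matrix.GeneralLinearGroup (Fin m ⊕ Fin m) F) : Matrix (Fin m ⊕ Fin m) (Fin m ⊕ Fin m) F)))) ↔ g ∈ Cfsg.Omega F (Cfsg.quadFormPlus m F) := by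
  classical
  have hQe : Cfsg.quadFormPlus m F = ⇑(Cfsg.Lib.Classical.HypQuad.plusForm m F) :=
    funext fun v => (Cfsg.Lib.Classical.HypQuad.plusForm_apply _ v).symm
  obtain ⟨-, -, -, hQ⟩ := Cfsg.Lib.OrthGlue.exists_plus_space F m
  have hι : Fintype.card (Fin m ⊕ Fin m) = 2 * m := by simp [two_mul]
  have hU : Cfsg.Lib.Classical.HypQuad.IsMax (Cfsg.Lib.Classical.HypQuad.plusForm m F) m
      (LinearMap.ker (LinearMap.funLeft F F (Sum.inr : Fin m → Fin m ⊕ Fin m))) := by
    refine ⟨?_, fun v hv => ?_⟩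
    · have h1 := LinearMap.finrank_range_add_finrank_ker (LinearMap.funLeft F F (Sum.inr : Fin m → Fin m ⊕ Fin m))
      rw [LinearMap.range_eq_top.2 (LinearMap.funLeft_surjective_of_injective F F _ Sum.inr_injective), finrank_top,
        Module.finrank_fin_fun, Module.finrank_fintype_fun_eq_card, hι] at h1
      omega
    · have hz : ∀ i, v (Sum.inr i) = 0 := fun i => congrFun (LinearMap.mem_ker.1 hv) i
      simp [Cfsg.Lib.Classical.HypQuad.plusForm_apply, Cfsg.quadFormPlus, hz]
  revert g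
  rw [hQe]
  intro g
  have hne : Fintype.card F ≠ 2 ∨ Fintype.card (Fin m ⊕ Fin m) ≠ 4 := h.imp_right fun hc => by omega
  rw [Cfsg.Lib.OmegaCls.parity_dickson hQ hι hne hU g, Cfsg.Lib.OmegaCls.dickson_iff hQ (by omega) hne g]

end Cfsg.Agent.S2630
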