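import Cfsg.Statements.S2634
import Cfsg.Agent.Known.OmegaTransitive

set_option autoImplicit false
open Cfsg

namespace Cfsg.Agent.S2634

/-- Over a finite field of characteristic two, Ω (the commutator subgroup of the orthogonal group of a quadratic form Q on F^n with non-degenerate polar form; excluding dimension 4 over the field of two elements) acts transitively on the non-singular 1-spaces: for u, v with Q(u) ≠ 0 and Q(v) ≠ 0 some element of Ω carries the line through u to the line through v. -/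
theorem result {F : Type*} [Field F] [Fintype F] [CharP F 2] {n : ℕ} (h : Fintype.card F ≠ 2 ∨ n ≠ 4) (Q : QuadraticForm F (Fin n → F)) (hQ : (QuadraticMap.polarBilin Q).Nondegenerate) (u v : Fin n → F) (hu : Q u ≠ 0) (hv : Q v ≠ 0) : ∃ g : ↥(Cfsg.isometryGroup F ⇑Q), g ∈ Cfsg.Omega F ⇑Q ∧ (F ∙ ((g : Matrix.GeneralLinearGroup (Fin n) F) : Matrix (Fin n) (Fin n) F).mulVec u) = F ∙ v := by
  classical
  have hn1 : 1 ≤ Fintype.card (Fin n) := by
    rcases Nat.eq_zero_or_pos n with rfl | hn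
    · exact absurd (show Q u = 0 by rw [Subsingleton.elim u 0, QuadraticMap.map_zero]) hu
    · rw [Fintype.card_fin]; exact hn
  have hne : Fintype.card F ≠ 2 ∨ Fintype.card (Fin n) ≠ 4 := h.imp_right fun hc => by simpa using hc
  obtain ⟨t, ht⟩ := Cfsg.Lib.Classical.Refl.exists_sqrt_two (CharTwo.two_eq_zero : (2 : F) = 0) (Q u * (Q v)⁻¹)
  have htv : Q (t • v) = Q u := by rw [QuadraticMap.map_smul, ht, smul_eq_mul, inv_mul_cancel_right₀ hv]
  have ht0 : t ≠ 0 := fun h0 => hu (by rw [← htv, h0, zero_smul, QuadraticMap.map_zero])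
  obtain ⟨g, hg⟩ := Cfsg.Lib.Classical.Refl.exists_map Q hQ (a := u) (b := t • v)
    (fun h0 => hu (by rw [h0, QuadraticMap.map_zero])) (fun h0 => hu (by rw [← htv, h0, QuadraticMap.map_zero])) htv.symm
  have hsp : (F ∙ (t • v)) = F ∙ v := Submodule.span_singleton_smul_eq (isUnit_iff_ne_zero.2 ht0) v
  rcases Int.units_eq_one_or (Cfsg.Lib.Classical.Refl.dickson Q hQ g) with e | e
  · exact ⟨g, (Cfsg.Lib.OmegaCls.dickson_iff hQ hn1 hne g).2 e, (congrArg (fun w => F ∙ w) hg).trans hsp⟩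
  · refine ⟨Cfsg.Lib.Classical.Refl.refl Q v hv * g, (Cfsg.Lib.OmegaCls.dickson_iff hQ hn1 hne _).2 (by
      rw [map_mul, e, Cfsg.Lib.Classical.Refl.dickson_refl]; rfl), ?_⟩
    rw [Cfsg.Lib.Classical.Refl.mulVec_mul]
    refine (congrArg (fun w => F ∙ (Matrix.mulVec _ w)) hg).trans ?_
    show (F ∙ (Matrix.mulVec (Cfsg.reflectionMatrix (⇑Q) v) (t • v))) = F ∙ v
    rw [Matrix.mulVec_smul, Cfsg.Lib.Classical.Refl.self Q v hv, smul_neg, ← neg_smul,
      Submodule.span_singleton_smul_eq (isUnit_iff_ne_zero.2 (neg_ne_zero.2 ht0)) v]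

end Cfsg.Agent.S2634
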