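import Cfsg.Statements.S2635
import Cfsg.Agent.Known.OmegaClasses

set_option autoImplicit false
open Cfsg

namespace Cfsg.Agent.S2635

/-- Over a finite field of characteristic two, for a quadratic form Q on F^n with non-degenerate polar form, n ≥ 2, other than dimension 4 over the field of two elements, Ω (the commutator subgroup of the orthogonal group) is exactly the subgroup generated by the products of two reflections (orthogonal transvections) x ↦ x − Q(v)⁻¹ f(x, v) v, Q(v) ≠ 0: the products of an even number of reflections. -/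
theorem result {F : Type*} [Field F] [Fintype F] [CharP F 2] {n : ℕ} (hn : 2 ≤ n) (h : Fintype.card F ≠ 2 ∨ n ≠ 4) (Q : QuadraticForm F (Fin n → F)) (hQ : (QuadraticMap.polarBilin Q).Nondegenerate) : Cfsg.Omega F ⇑Q = Subgroup.closure {g : ↥(Cfsg.isometryGroup F ⇑Q) | ∃ u v : Fin n → F, Q u ≠ 0 ∧ Q v ≠ 0 ∧ ((g : Matrix.GeneralLinearGroup (Fin n) F) : Matrix (Fin n) (Fin n) F) = Cfsg.reflectionMatrix ⇑Q u * Cfsg.reflectionMatrix ⇑Q v} := by
  classical
  have hn1 : 1 ≤ Fintype.card (Fin n) := by simp; omega
  have hne : Fintype.card F ≠ 2 ∨ Fintype.card (Fin n) ≠ 4 := h.imp_right fun hc => by simpa using hc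
  let R : ∀ v, Q v ≠ 0 → ↥(Cfsg.isometryGroup F ⇑Q) := Cfsg.Lib.Classical.Refl.refl Q
  have hiff := fun g => Cfsg.Lib.OmegaCls.dickson_iff hQ hn1 hne g
  set S := {g : ↥(Cfsg.isometryGroup F ⇑Q) | ∃ u v : Fin n → F, Q u ≠ 0 ∧ Q v ≠ 0 ∧
    ((g : Matrix.GeneralLinearGroup (Fin n) F) : Matrix (Fin n) (Fin n) F) =
      Cfsg.reflectionMatrix ⇑Q u * Cfsg.reflectionMatrix ⇑Q v}
  have hS : ∀ u (hu : Q u ≠ 0) v (hv : Q v ≠ 0), R u hu * R v hv ∈ Subgroup.closure S := fun u hu v hv =>
    Subgroup.subset_closure ⟨u, v, hu, hv, rfl⟩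
  refine le_antisymm (fun g hg => ?_) ((Subgroup.closure_le _).2 ?_)
  · obtain ⟨a, ha⟩ := Cfsg.Lib.OmegaCls.exists_ne_zero hQ hn1
    have haa : R a ha * R a ha = 1 := Cfsg.Lib.Classical.Refl.refl_mul_self Q a ha
    have hconj : ∀ y ∈ Subgroup.closure S, R a ha * y * R a ha ∈ Subgroup.closure S := by
      intro y hy
      induction hy using Subgroup.closure_induction with
      | mem y hy =>
        obtain ⟨u, v, hu, hv, he⟩ := hy
        have : y = R u hu * R v hv := Subtype.ext (Units.ext he)
        rw [this, show R a ha * (R u hu * R v hv) * R a ha = (R a ha * R u hu) * (R v hv * R a ha) by group]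
        exact Subgroup.mul_mem _ (hS _ _ _ _) (hS _ _ _ _)
      | one => rw [mul_one, haa]; exact Subgroup.one_mem _
      | mul y z _ _ hy hz =>
        rw [show R a ha * (y * z) * R a ha = (R a ha * y * R a ha) * (R a ha * z * R a ha) by
          simp only [mul_assoc]; rw [← mul_assoc (R a ha) (R a ha), haa, one_mul]]
        exact Subgroup.mul_mem _ hy hz
      | inv y _ hy =>
        have := Subgroup.inv_mem _ hy
        rwa [mul_inv_rev, mul_inv_rev, inv_eq_of_mul_eq_one_left haa, ← mul_assoc] at this
    have hall : ∀ x : ↥(Cfsg.isometryGroup F ⇑Q), x ∈ Subgroup.closure S ∨ R a ha * x ∈ Subgroup.closure S := by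
      intro x
      induction Cfsg.Lib.Classical.Refl.mem_closure_refl Q hQ hne x using Subgroup.closure_induction with
      | mem r hr => obtain ⟨v, hv, rfl⟩ := hr; exact Or.inr (hS a ha v hv)
      | one => exact Or.inl (Subgroup.one_mem _)
      | mul y z _ _ hy hz =>
        rcases hy with hy | hy <;> rcases hz with hz | hz
        · exact Or.inl (Subgroup.mul_mem _ hy hz)
        · refine Or.inr ?_
          rw [show R a ha * (y * z) = (R a ha * y * R a ha) * (R a ha * z) by
            simp only [mul_assoc]; rw [← mul_assoc (R a ha) (R a ha), haa, one_mul]]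
          exact Subgroup.mul_mem _ (hconj y hy) hz
        · exact Or.inr (by rw [← mul_assoc]; exact Subgroup.mul_mem _ hy hz)
        · refine Or.inl ?_
          rw [show y * z = (R a ha * (R a ha * y) * R a ha) * (R a ha * z) by
            simp only [mul_assoc]; rw [← mul_assoc (R a ha) (R a ha), haa, one_mul, ← mul_assoc (R a ha) (R a ha), haa, one_mul]]
          exact Subgroup.mul_mem _ (hconj _ hy) hz
      | inv y _ hy =>
        rcases hy with hy | hy
        · exact Or.inl (Subgroup.inv_mem _ hy)
        · refine Or.inr ?_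
          have := hconj _ (Subgroup.inv_mem _ hy)
          rw [mul_inv_rev, inv_eq_of_mul_eq_one_left haa] at this
          simp only [mul_assoc, haa, mul_one] at this
          exact this
    refine (hall g).resolve_right fun hx => ?_
    have hle : Subgroup.closure S ≤ (Cfsg.Lib.Classical.Refl.dickson Q hQ).ker := by
      rw [Subgroup.closure_le]
      rintro y ⟨u, v, hu, hv, he⟩
      have : y = R u hu * R v hv := Subtype.ext (Units.ext he)
      rw [SetLike.mem_coe, MonoidHom.mem_ker, this, map_mul, Cfsg.Lib.Classical.Refl.dickson_refl,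
        Cfsg.Lib.Classical.Refl.dickson_refl]
      rfl
    have hd := MonoidHom.mem_ker.1 (hle hx)
    rw [map_mul, Cfsg.Lib.Classical.Refl.dickson_refl, (hiff g).1 hg, mul_one] at hd
    exact absurd hd (by decide)
  · rintro y ⟨u, v, hu, hv, he⟩
    have : y = R u hu * R v hv := Subtype.ext (Units.ext he)
    refine (hiff y).2 ?_
    rw [this, map_mul, Cfsg.Lib.Classical.Refl.dickson_refl, Cfsg.Lib.Classical.Refl.dickson_refl]
    rfl

end Cfsg.Agent.S2635
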