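import Cfsg.Statements.S2636
import Mathlib

set_option autoImplicit false
open Cfsg Matrix

namespace Cfsg.Agent.S2636

/-- Centraliser of a field automorphism in PGL_n: let F be the field with q = q₀^r elements, σ a field automorphism of F of prime order r (so its fixed field has q₀ elements) and n ≥ 1. The invertible matrices g whose entrywise image under σ is a scalar multiple of g — those whose coset modulo scalars is fixed by σ — number (q − 1)/(q₀ − 1) · |GL_n(q₀)|; equivalently the centraliser in PGL_n(q) of the induced automorphism has the order of PGL_n(q₀). -/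
theorem result {F : Type*} [Field F] [Fintype F] {q₀ r n : ℕ} (hr : r.Prime) (hn : 1 ≤ n) (hF : Fintype.card F = q₀ ^ r) (σ : F ≃+* F) (hσ : orderOf σ = r) : Nat.card {g : GL (Fin n) F // ∃ c : F, c ≠ 0 ∧ (g : Matrix (Fin n) (Fin n) F).map σ = c • (g : Matrix (Fin n) (Fin n) F)} = (q₀ ^ r - 1) / (q₀ - 1) * ∏ i : Fin n, (q₀ ^ n - q₀ ^ (i : ℕ)) := by
  classical
  haveI : Finite (F ≃+* F) := Finite.of_injective (fun e => (e : F → F)) DFunLike.coe_injective
  let H : Subgroup (F ≃+* F) := Subgroup.zpowers σ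
  let F0 := FixedPoints.subfield H F
  have hH : Nat.card H = r := by rw [Nat.card_zpowers, hσ]
  haveI : FaithfulSMul H F := ⟨fun {a b} h => Subtype.ext (RingEquiv.ext h)⟩
  have hdim : Module.finrank F0 F = r := by
    haveI : Fintype H := Fintype.ofFinite H
    rw [FixedPoints.finrank_eq_card H F, ← Nat.card_eq_fintype_card, hH]
  have hq : Nat.card F0 = q₀ := by
    have h := Module.natCard_eq_pow_finrank (K := F0) (V := F)
    rw [hdim, Nat.card_eq_fintype_card, hF] at h
    exact (Nat.pow_left_injective hr.ne_zero h).symm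
  have hfix : ∀ x : F, x ∈ F0 ↔ σ x = x := by
    intro x
    constructor
    · intro hx; exact hx ⟨σ, Subgroup.mem_zpowers σ⟩
    · rintro hx ⟨τ, hτ⟩
      have hst : σ ∈ MulAction.stabilizer (F ≃+* F) x := hx
      exact (Subgroup.zpowers_le.2 hst hτ : τ ∈ MulAction.stabilizer (F ≃+* F) x)
  let ι : F0 →+* F := F0.subtype
  have : Nonempty (Fin n) := ⟨⟨0, hn⟩⟩
  let Φ : Fˣ × GL (Fin n) F0 →* GL (Fin n) F :=
    MonoidHom.mk' (fun x => Units.map (Matrix.scalar (Fin n) : F →+* Matrix (Fin n) (Fin n) F).toMonoidHom x.1 * Units.map ι.mapMatrix.toMonoidHom x.2)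
      (fun x y => by
        apply Units.ext
        simp only [Prod.fst_mul, Prod.snd_mul, map_mul, Units.val_mul, Units.coe_map]
        set A : F →+* Matrix (Fin n) (Fin n) F := Matrix.scalar (Fin n)
        have := Matrix.scalar_commute (y.1 : F) (fun a => Commute.all _ a) (ι.mapMatrix (x.2 : Matrix (Fin n) (Fin n) F0))
        change A x.1 * A y.1 * (ι.mapMatrix (x.2 : Matrix (Fin n) (Fin n) F0) * ι.mapMatrix (y.2 : Matrix (Fin n) (Fin n) F0)) = A x.1 * ι.mapMatrix (x.2 : Matrix (Fin n) (Fin n) F0) * (A y.1 * ι.mapMatrix (y.2 : Matrix (Fin n) (Fin n) F0))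
        exact Commute.mul_mul_mul_comm this _ _)
  have hΦ : ∀ x, ((Φ x : GL (Fin n) F) : Matrix (Fin n) (Fin n) F) = (x.1 : F) • (x.2 : Matrix (Fin n) (Fin n) F0).map ι := fun x => by
    simp [Φ, Matrix.smul_eq_diagonal_mul]
  have hrange : ∀ g, g ∈ Φ.range ↔ ∃ c : F, c ≠ 0 ∧ (g : Matrix (Fin n) (Fin n) F).map σ = c • (g : Matrix (Fin n) (Fin n) F) := by
    intro g
    constructor
    · rintro ⟨x, rfl⟩
      refine ⟨σ x.1 / x.1, div_ne_zero (by simp) (Units.ne_zero _), ?_⟩
      rw [hΦ]
      ext i j
      simp only [map_apply, Matrix.smul_apply, smul_eq_mul, map_mul]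
      rw [show σ (ι ((x.2 : Matrix (Fin n) (Fin n) F0) i j)) = ι ((x.2 : Matrix (Fin n) (Fin n) F0) i j) from (hfix _).1 ((x.2 : Matrix (Fin n) (Fin n) F0) i j).2, ← mul_assoc, div_mul_cancel₀ _ (Units.ne_zero _)]
    · rintro ⟨c, hc0, hc⟩
      obtain ⟨a, b, hab⟩ : ∃ a b, (g : Matrix (Fin n) (Fin n) F) a b ≠ 0 := by
        by_contra hno
        push Not at hno
        exact g.ne_zero (Matrix.ext hno)
      set l := (g : Matrix (Fin n) (Fin n) F) a b with hl
      have hσe : ∀ i j, σ ((g : Matrix (Fin n) (Fin n) F) i j) = c * (g : Matrix (Fin n) (Fin n) F) i j := fun i j => by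
        simpa using congrFun (congrFun hc i) j
      let M : Matrix (Fin n) (Fin n) F0 := Matrix.of fun i j => ⟨(g : Matrix (Fin n) (Fin n) F) i j / l, (hfix _).2 (by
        rw [map_div₀, hσe, hl, hσe, mul_div_mul_left _ _ hc0])⟩
      have hM : (g : Matrix (Fin n) (Fin n) F) = l • M.map ι := by
        ext i j
        simp [M, ι, mul_div_cancel₀ _ hab]
      have hMu : IsUnit M.det := by
        rw [isUnit_iff_ne_zero]
        intro h0
        have := congrArg Matrix.det hM
        rw [det_smul, show (M.map ι).det = ι M.det from (RingHom.map_det ι M).symm, h0, map_zero, mul_zero] at this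
        exact ((Matrix.isUnit_iff_isUnit_det _).1 g.isUnit).ne_zero this
      refine ⟨(Units.mk0 l hab, ((Matrix.isUnit_iff_isUnit_det M).2 hMu).unit), Units.ext ?_⟩
      rw [hΦ]; exact hM.symm
  have hker : Nat.card Φ.ker = q₀ - 1 := by
    let ψ : F0ˣ → Φ.ker := fun a => ⟨(Units.map ι.toMonoidHom a, (Units.map (Matrix.scalar (Fin n) : F0 →+* Matrix (Fin n) (Fin n) F0).toMonoidHom a)⁻¹), by
      apply Units.ext
      rw [hΦ, ← map_inv, Units.val_one]
      ext i j
      by_cases h : i = j
      · subst h; simp [← map_mul]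
      · simp [h, Matrix.one_apply]⟩
    have hψ : Function.Bijective ψ := by
      constructor
      · intro a a' h
        have h1 : Units.map ι.toMonoidHom a = Units.map ι.toMonoidHom a' := congrArg (fun x : Φ.ker => x.1.1) h
        exact Units.map_injective ι.injective h1
      · rintro ⟨⟨l, g⟩, hlg⟩
        have h0 := congrArg (fun x : GL (Fin n) F => (x : Matrix (Fin n) (Fin n) F)) hlg
        simp only [hΦ, Units.val_one] at h0
        set i0 : Fin n := ⟨0, hn⟩
        have h00 : (l : F) * ι ((g : Matrix (Fin n) (Fin n) F0) i0 i0) = 1 := by simpa using congrFun (congrFun h0 i0) i0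
        have hg0 : (g : Matrix (Fin n) (Fin n) F0) i0 i0 ≠ 0 := fun h => by simp [h] at h00
        have hl : (l : F) = ι ((g : Matrix (Fin n) (Fin n) F0) i0 i0)⁻¹ := by
          rw [map_inv₀]; exact eq_inv_of_mul_eq_one_left h00
        refine ⟨(Units.mk0 _ hg0)⁻¹, Subtype.ext (Prod.ext ?_ ?_)⟩
        · apply Units.ext; simpa [ψ] using hl.symm
        · apply Units.ext
          simp only [ψ, map_inv, inv_inv]
          refine Matrix.map_injective ι.injective ?_
          ext i j
          have hij := congrFun (congrFun h0 i) j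
          simp only [Matrix.smul_apply, map_apply, smul_eq_mul] at hij
          apply mul_left_cancel₀ (Units.ne_zero l)
          simp only [map_apply]
          rw [hij]
          by_cases h : i = j
          · subst h; simpa using h00
          · simp [h]
    rw [← Nat.card_eq_of_bijective ψ hψ, Nat.card_units, hq]
  have h1 := Subgroup.card_mul_index Φ.ker
  rw [Subgroup.index_ker, hker, Nat.card_prod, Nat.card_units, Nat.card_eq_fintype_card (α := F), hF,
    Matrix.card_GL_field, ← Nat.card_eq_fintype_card (α := F0), hq] at h1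
  rw [Nat.card_congr (Equiv.subtypeEquivRight (q := fun g => g ∈ Φ.range) (fun g => (hrange g).symm))]
  have hq2 : 2 ≤ q₀ := by rw [← hq]; exact Finite.one_lt_card
  have hdvd : q₀ - 1 ∣ q₀ ^ r - 1 := by simpa using Nat.sub_dvd_pow_sub_pow q₀ 1 r
  obtain ⟨K, hK⟩ := hdvd
  rw [hK, Nat.mul_div_cancel_left _ (by omega)]
  rw [hK, mul_assoc] at h1
  exact Nat.eq_of_mul_eq_mul_left (by omega) h1

end Cfsg.Agent.S2636
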