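import Cfsg.Statements.S2638
import Mathlib

set_option autoImplicit false
open Cfsg Matrix Polynomial

namespace Cfsg.Agent.S2638

/-- If an element x of GL_n(q), n ≥ 1, has prime order r and the multiplicative order of q modulo r is n (r is a primitive prime divisor of q^n − 1, so x acts irreducibly), then the centraliser of x in GL_n(q) is cyclic of order q^n − 1 (the multiplicative group of the field with q^n elements, a Singer cycle). -/
theorem result {F : Type*} [Field F] [Fintype F] {p q : ℕ} [Fact p.Prime] [CharP F p] (hF : Fintype.card F = q) {n r : ℕ} (hn : 1 ≤ n) (hr : r.Prime) (hrp : r ≠ p) (hi : orderOf (q : ZMod r) = n) (x : GL (Fin n) F) (hx : orderOf x = r) : IsCyclic ↥(Subgroup.centralizer ({x} : Set (GL (Fin n) F))) ∧ Nat.card ↥(Subgroup.centralizer ({x} : Set (GL (Fin n) F))) = q ^ n - 1 := by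
  classical
  subst hF
  haveI : Fact r.Prime := ⟨hr⟩
  set M : Matrix (Fin n) (Fin n) F := (x : Matrix (Fin n) (Fin n) F) with hMdef
  haveI : Nonempty (Fin n) := ⟨⟨0, hn⟩⟩
  have hrF : (r : F) ≠ 0 := by
    rw [Ne, CharP.cast_eq_zero_iff F p]
    exact fun h => hrp ((Nat.prime_dvd_prime_iff_eq Fact.out hr).1 h).symm
  have hMr : aeval M (X ^ r - 1 : F[X]) = 0 := by
    rw [map_sub, map_pow, aeval_X, map_one, hMdef, ← Units.val_pow_eq_pow_val, ← hx, pow_orderOf_eq_one, Units.val_one, sub_self]
  have hsep : (X ^ r - 1 : F[X]).Separable := by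
    simpa using separable_X_pow_sub_C (1 : F) hrF one_ne_zero
  have hmin : minpoly F M ∣ X ^ r - 1 := minpoly.dvd F M hMr
  have hint : IsIntegral F M := Algebra.IsIntegral.isIntegral M
  have hm0 : minpoly F M ≠ 0 := minpoly.ne_zero hint
  have hne1 : minpoly F M ≠ X - 1 := by
    intro h
    have h2 := minpoly.aeval F M
    rw [h, map_sub, aeval_X, map_one, sub_eq_zero] at h2
    rw [show x = 1 from Units.ext h2, orderOf_one] at hx
    exact hr.one_lt.ne hx
  -- an irreducible factor with a root different from one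
  obtain ⟨f, hfm, hfirr, hfdvd, hfne⟩ : ∃ f : F[X], f.Monic ∧ Irreducible f ∧ f ∣ minpoly F M ∧ aeval (1 : F) f ≠ 0 := by
    by_cases h1 : (X - C 1) ∣ minpoly F M
    · obtain ⟨g, hg⟩ := h1
      have hgm : g.Monic := (monic_X_sub_C 1).of_mul_monic_left (hg ▸ minpoly.monic hint)
      have hg1 : g ≠ 1 := fun h => hne1 (by rw [hg, h, mul_one, map_one])
      obtain ⟨f, hfm, hfi, hfg⟩ := Polynomial.exists_monic_irreducible_factor g (by rwa [hgm.isUnit_iff])
      refine ⟨f, hfm, hfi, hg ▸ hfg.mul_left _, fun h => ?_⟩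
      have hd : X - C 1 ∣ f := dvd_iff_isRoot.2 (by simpa [IsRoot.def, aeval_def, eval₂_at_one] using h)
      have : (X - C (1 : F)) * (X - C 1) ∣ X ^ r - 1 :=
        (mul_dvd_mul_left _ (hd.trans hfg)).trans ((dvd_of_eq hg.symm).trans hmin)
      exact not_isUnit_X_sub_C 1 (hsep.squarefree _ this)
    · obtain ⟨f, hfm, hfi, hf⟩ := Polynomial.exists_monic_irreducible_factor (minpoly F M) (minpoly.not_isUnit F M)
      refine ⟨f, hfm, hfi, hf, fun h => h1 (dvd_trans ?_ hf)⟩
      exact dvd_iff_isRoot.2 (by simpa [IsRoot.def, aeval_def, eval₂_at_one] using h)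
  haveI : Fact (Irreducible f) := ⟨hfirr⟩
  let K := AdjoinRoot f
  haveI : Module.Finite F K := hfm.finite_adjoinRoot
  haveI : Finite K := Module.finite_of_finite F
  have hd : Module.finrank F K = f.natDegree := by
    rw [(AdjoinRoot.powerBasis hfirr.ne_zero).finrank, AdjoinRoot.powerBasis_dim]
  have hK : Nat.card K = Fintype.card F ^ f.natDegree := by
    rw [Module.natCard_eq_pow_finrank (K := F) (V := K), hd, Nat.card_eq_fintype_card]
  -- the root has order r
  let z : K := AdjoinRoot.root f
  have hz : z ^ r = 1 := by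
    have : aeval z (X ^ r - 1 : F[X]) = 0 := by
      rw [AdjoinRoot.aeval_eq, AdjoinRoot.mk_eq_zero]; exact hfdvd.trans hmin
    simpa [sub_eq_zero] using this
  have hz1 : z ≠ 1 := by
    intro h
    apply hfne
    have : aeval z f = 0 := by rw [AdjoinRoot.aeval_eq, AdjoinRoot.mk_self]
    rw [h, ← map_one (algebraMap F K), aeval_algebraMap_apply] at this
    exact (map_eq_zero _).1 this
  have hdeg : n ≤ f.natDegree := by
    have hz0 : z ≠ 0 := fun h => by simp [h, zero_pow hr.ne_zero] at hz
    have h1 : (Units.mk0 z hz0) ^ r = 1 := Units.ext (by simpa using hz)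
    have h2 : orderOf (Units.mk0 z hz0) = r := orderOf_eq_prime h1 (fun h => hz1 (by simpa using congrArg Units.val h))
    have h3 := orderOf_dvd_natCard (Units.mk0 z hz0)
    rw [h2, Nat.card_units, hK] at h3
    have h4 : (Fintype.card F : ZMod r) ^ f.natDegree = 1 := by
      have h5 := (ZMod.natCast_eq_zero_iff _ _).2 h3
      rw [Nat.cast_sub (Nat.one_le_pow _ _ Fintype.card_pos), Nat.cast_pow, Nat.cast_one, sub_eq_zero] at h5
      exact h5
    exact Nat.le_of_dvd hfirr.natDegree_pos (hi ▸ orderOf_dvd_of_pow_eq_one h4)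
  have hfm' : f = minpoly F M := by
    refine eq_of_monic_of_dvd_of_natDegree_le hfm (minpoly.monic hint) hfdvd ?_ |>.symm
    have := natDegree_le_of_dvd (Matrix.minpoly_dvd_charpoly M) (charpoly_monic M).ne_zero
    rw [charpoly_natDegree_eq_dim, Fintype.card_fin] at this
    omega
  have hdn : f.natDegree = n := by
    have := natDegree_le_of_dvd (hfdvd.trans (Matrix.minpoly_dvd_charpoly M)) (charpoly_monic M).ne_zero
    rw [charpoly_natDegree_eq_dim, Fintype.card_fin] at this
    omega
  let ψ : K →ₐ[F] Matrix (Fin n) (Fin n) F :=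
    Ideal.Quotient.liftₐ _ (aeval M) (fun a ha => by
      obtain ⟨c, rfl⟩ := Ideal.mem_span_singleton.1 ha
      rw [map_mul, hfm', minpoly.aeval, zero_mul])
  have hψinj : Function.Injective ψ := RingHom.injective ψ.toRingHom
  have hψz : ψ z = M := by
    change aeval M (X : F[X]) = M
    rw [aeval_X]
  have hcomm : ∀ (k : K) (Y : Matrix (Fin n) (Fin n) F), Y * M = M * Y → Y * ψ k = ψ k * Y := by
    intro k Y hY
    induction k using AdjoinRoot.induction_on with
    | ih g =>
      change Y * aeval M g = aeval M g * Y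
      induction g using Polynomial.induction_on' with
      | add a b ha hb => rw [map_add, mul_add, add_mul, ha, hb]
      | monomial i c =>
        rw [aeval_monomial, ← mul_assoc, ← Algebra.commutes c Y, mul_assoc, (Commute.pow_right hY i).eq, ← mul_assoc]
  let v : Fin n → F := Pi.single ⟨0, hn⟩ 1
  let ev : K → (Fin n → F) := fun k => ψ k *ᵥ v
  have hev : Function.Bijective ev := by
    refine (Nat.bijective_iff_injective_and_card ev).2 ⟨fun a b hab => ?_, ?_⟩
    · by_contra hne
      have hu : IsUnit (ψ (a - b)) := (isUnit_iff_ne_zero.2 (sub_ne_zero.2 hne)).map ψ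
      have : ψ (a - b) *ᵥ v = 0 := by rw [map_sub, sub_mulVec]; exact sub_eq_zero.2 hab
      have := mulVec_injective_of_isUnit hu (this.trans (mulVec_zero _).symm)
      simpa [v] using congrFun this ⟨0, hn⟩
    · rw [hK, hdn, Nat.card_fun, Nat.card_fin, Nat.card_eq_fintype_card]
  have hC : ∀ g : GL (Fin n) F, g ∈ Subgroup.centralizer ({x} : Set (GL (Fin n) F)) ↔ (g : Matrix (Fin n) (Fin n) F) * M = M * g := by
    intro g
    rw [Subgroup.mem_centralizer_singleton_iff, ← Units.val_inj, Units.val_mul, Units.val_mul]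
  let Φ : Kˣ →* ↥(Subgroup.centralizer ({x} : Set (GL (Fin n) F))) :=
    (Units.map ψ.toRingHom.toMonoidHom).codRestrict _ (fun u => (hC _).2 (by
      change ψ (u : K) * M = M * ψ (u : K)
      rw [← hψz, ← map_mul, ← map_mul, mul_comm]))
  have hΦ : Function.Bijective Φ := by
    constructor
    · intro a b h
      exact Units.map_injective hψinj (congrArg Subtype.val h)
    · rintro ⟨g, hg⟩
      obtain ⟨k, hk⟩ := hev.2 ((g : Matrix (Fin n) (Fin n) F) *ᵥ v)
      have hgk : (g : Matrix (Fin n) (Fin n) F) = ψ k := by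
        refine ext_of_mulVec_single fun j => ?_
        obtain ⟨l, hl⟩ := hev.2 (Pi.single j 1)
        simp only [ev] at hl hk
        rw [← hl, mulVec_mulVec, mulVec_mulVec, hcomm l _ ((hC g).1 hg), ← mulVec_mulVec, ← hk, mulVec_mulVec,
          ← map_mul, ← map_mul, mul_comm]
      have hk0 : k ≠ 0 := fun h => g.ne_zero (by rw [hgk, h, map_zero])
      exact ⟨Units.mk0 k hk0, Subtype.ext (Units.ext hgk.symm)⟩
  refine ⟨isCyclic_of_surjective Φ hΦ.2, ?_⟩
  rw [← Nat.card_eq_of_bijective Φ hΦ, Nat.card_units, hK, hdn]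

end Cfsg.Agent.S2638
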