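import Cfsg.Statements.S2639
import Cfsg.Agent.Known.GUForms

set_option autoImplicit false
open Cfsg

namespace Cfsg.Agent.S2639

/-- The unitary group embeds in the symplectic group of twice the dimension over the subfield: for a field K with q² elements and a field F with q elements (isomorphic to the subfield of K of order q), there is an injective homomorphism GU_m(q) → Sp_2m(F). -/
theorem result {K F : Type*} [Field K] [Fintype K] [Field F] [Fintype F] {q : ℕ} (hK : Fintype.card K = q ^ 2) (hF : Fintype.card F = q) (m : ℕ) : ∃ φ : ↥(Cfsg.GU m K q) →* ↥(Matrix.symplecticGroup (Fin m) F), Function.Injective φ := by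
  obtain ⟨_, hd⟩ := Cfsg.Lib.FieldEmbed.exists_quadratic hK hF
  obtain ⟨δ, hδ, hδT⟩ := Cfsg.Lib.FieldEmbed.exists_trace_zero (F := F) (K := K) hd
  let r : K →ₗ[F] F := (Algebra.trace F K).comp (LinearMap.mulLeft F δ)
  let B := Cfsg.Lib.GUForms.pairing hF m r
  have hA : B.IsAlt := fun v => by
    show r (Cfsg.hermForm m K q v v) = 0
    rw [Cfsg.Lib.FieldEmbed.herm_self hF hd]
    show Algebra.trace F K (δ * algebraMap F K _) = 0
    rw [mul_comm, ← Algebra.smul_def, map_smul, hδT, smul_zero]
  have h1 : ∀ u, (∀ v, B u v = 0) → u = 0 := fun u hu => Cfsg.Lib.GUForms.eq_zero_of_trace (F := F) hF hK hδ u hu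
  have hB : B.Nondegenerate := ⟨h1, fun u hu => h1 u fun v => by rw [← hA.neg_eq, hu v, neg_zero]⟩
  exact Cfsg.Lib.FieldEmbed.exists_symplectic_hom B hA hB
    (Cfsg.Lib.FieldEmbed.resScalars (Cfsg.Lib.FieldEmbed.guMat m K q))
    (Cfsg.Lib.FieldEmbed.resScalars_injective _ (Cfsg.Lib.FieldEmbed.guMat_injective m K q))
    (fun g x y => by
      rw [Cfsg.Lib.FieldEmbed.resScalars_apply, Cfsg.Lib.FieldEmbed.resScalars_apply]
      exact congrArg r (Cfsg.Lib.FieldEmbed.mem_GU g x y))
    (Cfsg.Lib.GUForms.finrank_pi hd m)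

end Cfsg.Agent.S2639
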