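import Cfsg.Statements.S2640
import Cfsg.Agent.Known.GUForms

set_option autoImplicit false
open Cfsg

namespace Cfsg.Agent.S2640

/-- For m even, the unitary group GU_m(q) (over the field with q² elements) embeds in the orthogonal group O⁺_2m(q) of the hyperbolic form Σ x_i y_i over the field with q elements (there is an injective homomorphism). -/
theorem result {K F : Type*} [Field K] [Fintype K] [Field F] [Fintype F] {q : ℕ} (hK : Fintype.card K = q ^ 2) (hF : Fintype.card F = q) (m : ℕ) (hm : Even m) : ∃ φ : ↥(Cfsg.GU m K q) →* ↥(Cfsg.isometryGroup F (Cfsg.quadFormPlus m F)), Function.Injective φ := by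
  classical
  obtain ⟨_, hd⟩ := Cfsg.Lib.FieldEmbed.exists_quadratic hK hF
  obtain ⟨r, hr⟩ := Cfsg.Lib.GUForms.exists_section (F := F) (K := K)
  obtain ⟨k, rfl⟩ := hm
  have hQ := Cfsg.Lib.GUForms.normForm_nondeg (n := k + k) hF hK hd hr
  obtain ⟨D⟩ := Cfsg.Lib.FormNormal.exists_decomp (Cfsg.Lib.GUForms.normForm hF (k + k) r) _ ⊤ rfl
    (Cfsg.Lib.FormNormal.nd_top _ hQ)
  obtain ⟨W, hW, hWd, -, -⟩ := Cfsg.Lib.GUForms.exists_singular_pairs (n := k + k) hF hd hr k (by omega)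
  have hdim := Cfsg.Lib.GUForms.finrank_pi (F := F) (K := K) hd (k + k)
  have hm' := Cfsg.Lib.FormNormal.index_eq hQ D W hW
    (Cfsg.Lib.FormNormal.half_max hQ W hW (by rw [hdim, hWd]; omega))
  have h1 := D.dim
  rw [finrank_top, hdim] at h1
  obtain ⟨g, hg⟩ := Cfsg.Lib.FormNormal.plus_equiv D (k := k + k) (by omega) (by omega)
  refine Cfsg.Lib.FormNormal.exists_isometry_hom (Cfsg.quadFormPlus (k + k) F) g hg
    (Cfsg.Lib.FieldEmbed.resScalars (Cfsg.Lib.FieldEmbed.guMat (k + k) K q))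
    (Cfsg.Lib.FieldEmbed.resScalars_injective _ (Cfsg.Lib.FieldEmbed.guMat_injective _ K q)) fun a v => ?_
  rw [Cfsg.Lib.FieldEmbed.resScalars_apply]
  exact congrArg r (Cfsg.Lib.FieldEmbed.mem_GU a v v)

end Cfsg.Agent.S2640
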