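import Cfsg.Statements.S2641
import Cfsg.Agent.Known.MinusExtend

set_option autoImplicit false
open Cfsg

namespace Cfsg.Agent.S2641

/-- For m odd, the unitary group GU_m(q) (over the field with q² elements) embeds in the orthogonal group O⁻_2m(q) of an elliptic form (Σ_(i<m−1) x_i y_i plus an anisotropic binary form) over the field with q elements (there is an injective homomorphism). -/
theorem result {K F : Type*} [Field K] [Fintype K] [Field F] [Fintype F] {q : ℕ} (hK : Fintype.card K = q ^ 2) (hF : Fintype.card F = q) (m : ℕ) (hm : Odd m) (a b : F) (hab : ∀ z₁ z₂ : F, z₁ ^ 2 + a * z₁ * z₂ + b * z₂ ^ 2 = 0 → z₁ = 0 ∧ z₂ = 0) : ∃ φ : ↥(Cfsg.GU m K q) →* ↥(Cfsg.isometryGroup F (Cfsg.quadFormMinus (m - 1) F a b)), Function.Injective φ := by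
  classical
  obtain ⟨_, hd⟩ := Cfsg.Lib.FieldEmbed.exists_quadratic hK hF
  obtain ⟨r, hr⟩ := Cfsg.Lib.GUForms.exists_section (F := F) (K := K)
  obtain ⟨k, rfl⟩ := hm
  have hQ := Cfsg.Lib.GUForms.normForm_nondeg (n := 2 * k + 1) hF hK hd hr
  set Q := Cfsg.Lib.GUForms.normForm hF (2 * k + 1) r with hQdef
  obtain ⟨D⟩ := Cfsg.Lib.FormNormal.exists_decomp Q _ ⊤ rfl (Cfsg.Lib.FormNormal.nd_top _ hQ)
  obtain ⟨W, hW, hWd, hWl, hWp⟩ := Cfsg.Lib.GUForms.exists_singular_pairs (n := 2 * k + 1) hF hd hr k (by omega)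
  have hdim := Cfsg.Lib.GUForms.finrank_pi (F := F) (K := K) hd (2 * k + 1)
  let last : Fin (2 * k + 1) := ⟨2 * k, by omega⟩
  have hlast : ∀ i : Fin (2 * k + 1), 2 * k ≤ i.val ↔ i = last := fun i => by
    simp only [last, Fin.ext_iff]; omega
  have hm' := Cfsg.Lib.FormNormal.index_eq hQ D W hW (fun W' hle hW' => by
    refine (Submodule.eq_of_le_of_finrank_le hle ?_).symm
    have hpol : ∀ x ∈ W', ∀ y ∈ W', QuadraticMap.polar (⇑Q) x y = 0 := fun x hx y hy => by
      simp [QuadraticMap.polar, hW' x hx, hW' y hy, hW' _ (W'.add_mem hx hy)]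
    have hl0 : ∀ v ∈ W', v last = 0 := fun v hv => by
      have h := hWp v fun w hw => hpol v hv w (hle hw)
      rw [← hQdef, hW' v hv] at h
      simp only [hlast, Finset.sum_ite_eq', Finset.mem_univ, if_true] at h
      exact Algebra.norm_eq_zero_iff.1 h.symm
    let T : Submodule F (Fin (2 * k + 1) → K) :=
      LinearMap.range ((LinearMap.single K (fun _ : Fin (2 * k + 1) => K) last).restrictScalars F)
    have hT : ∀ v ∈ W', ∀ t ∈ T, QuadraticMap.polar (⇑Q) v t = 0 := by
      rintro v hv _ ⟨z, rfl⟩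
      rw [hQdef, Cfsg.Lib.GUForms.normForm_polar hF hK hd hr]
      show Algebra.trace F K (Cfsg.hermForm _ K q v (Pi.single last z)) = 0
      rw [Cfsg.Lib.FieldEmbed.herm_single (F := F) hF, hl0 v hv, zero_mul, map_zero]
    have hWT : W ⊓ T = ⊥ := by
      rw [eq_bot_iff]
      rintro _ ⟨hw, ⟨z, rfl⟩⟩
      have := hWl last le_rfl _ hw
      simp at this
      simp [this]
    have hTd : Module.finrank F T = 2 := by
      rw [LinearMap.finrank_range_of_inj (fun x y h => by simpa using congrFun h last), hd]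
    have hle' : W' ≤ LinearMap.BilinForm.orthogonal (QuadraticMap.polarBilin Q) (W ⊔ T) := fun v hv => by
      intro y hy
      obtain ⟨w, hw, t, ht, rfl⟩ := Submodule.mem_sup.1 hy
      show QuadraticMap.polar (⇑Q) (w + t) v = 0
      rw [QuadraticMap.polar_add_left, QuadraticMap.polar_comm, hpol v hv w (hle hw), QuadraticMap.polar_comm,
        hT v hv t ht, add_zero]
    have h2 := Submodule.finrank_mono hle'
    have h3 := Submodule.finrank_sup_add_finrank_inf_eq W T
    rw [hWT, finrank_bot, hTd, hWd] at h3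
    rw [LinearMap.BilinForm.finrank_orthogonal hQ, hdim] at h2
    omega)
  rw [hWd] at hm'
  have hnd : (QuadraticMap.polarBilin (Cfsg.Lib.Classical.Refl.minusForm (2 * k) F a b)).Nondegenerate :=
    Cfsg.Lib.Classical.Refl.minusForm_nondegenerate' _ hab
  obtain ⟨D'⟩ := Cfsg.Lib.FormNormal.exists_decomp _ _ ⊤ rfl (Cfsg.Lib.FormNormal.nd_top _ hnd)
  have hD' := Cfsg.Lib.MinusExtend.minus_index _ hab D'
  obtain ⟨g, hg⟩ := Cfsg.Lib.FormNormal.equiv_of_index D D' (by omega)
    (by rw [hdim, Module.finrank_pi, Fintype.card_sum, Fintype.card_sum, Fintype.card_fin, Fintype.card_fin]; omega)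
    (by rw [hdim]; exact even_two_mul _)
  rw [Nat.add_sub_cancel]
  refine Cfsg.Lib.FormNormal.exists_isometry_hom (Cfsg.quadFormMinus (2 * k) F a b) g
    (fun v => by rw [hg, Cfsg.Lib.Classical.Refl.minusForm_coe])
    (Cfsg.Lib.FieldEmbed.resScalars (Cfsg.Lib.FieldEmbed.guMat (2 * k + 1) K q))
    (Cfsg.Lib.FieldEmbed.resScalars_injective _ (Cfsg.Lib.FieldEmbed.guMat_injective _ K q)) fun x v => ?_
  rw [Cfsg.Lib.FieldEmbed.resScalars_apply]
  exact congrArg r (Cfsg.Lib.FieldEmbed.mem_GU x v v)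

end Cfsg.Agent.S2641
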