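import Cfsg.Statements.S2642
import Cfsg.Agent.Known.UnitaryGU
import Cfsg.Agent.Known.UnipotentDet

set_option autoImplicit false
open Cfsg

namespace Cfsg.Agent.S2642

/-- Number of conjugacy classes of elements of order p in the general unitary group GU_n(q), q a power of p: every unipotent Jordan type occurs and the classes correspond to the partitions of n with all parts at most p other than the all-ones partition, exactly as in GL_n; so there are (number of partitions of n with parts ≤ p) − 1 classes. -/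
theorem result {K : Type*} [Field K] [Fintype K] {p q n : ℕ} [Fact p.Prime] [CharP K p] (hK : Fintype.card K = q ^ 2) : Nat.card {C : ConjClasses ↥(Cfsg.GU n K q) // ∃ g : ↥(Cfsg.GU n K q), ConjClasses.mk g = C ∧ orderOf g = p} = (Finset.univ.filter (fun μ : Nat.Partition n => ∀ a ∈ μ.parts, a ≤ p)).card - 1 := by
  classical
  have hp : p.Prime := Fact.out
  let T : Set (ConjClasses ↥(Cfsg.GU n K q)) := {C | ∃ g : ↥(Cfsg.GU n K q), ConjClasses.mk g = C ∧
      (((g : GL (Fin n) K) : Matrix (Fin n) (Fin n) K) - 1) ^ p = 0}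
  have hconjT : ∀ g g' : ↥(Cfsg.GU n K q), IsConj g g' → ∀ μ,
      Cfsg.Lib.UnipClasses.HasType (((g : GL (Fin n) K) : Matrix (Fin n) (Fin n) K) - 1) μ →
      Cfsg.Lib.UnipClasses.HasType (((g' : GL (Fin n) K) : Matrix (Fin n) (Fin n) K) - 1) μ := by
    intro g g' h μ hμ
    obtain ⟨x, hx⟩ := isConj_iff.1 h
    rw [mul_inv_eq_iff_eq_mul] at hx
    refine hμ.conj (x : GL (Fin n) K) ?_
    have hx' := congrArg (fun y : ↥(Cfsg.GU n K q) => ((y : GL (Fin n) K) : Matrix (Fin n) (Fin n) K)) hx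
    simp only [Subgroup.coe_mul, Units.val_mul] at hx'
    rw [mul_sub, sub_mul, mul_one, one_mul, hx']
  have hex : ∀ μ : Nat.Partition n, ∃ g : ↥(Cfsg.GU n K q),
      Cfsg.Lib.UnipClasses.HasType (((g : GL (Fin n) K) : Matrix (Fin n) (Fin n) K) - 1) μ := by
    intro μ
    obtain ⟨U, hU, hUμ, -⟩ := Cfsg.Lib.UnitaryConj.exists_model _ (Cfsg.Lib.UnitaryConj.invol hK)
      (Cfsg.Lib.UnitaryConj.exists_moved hK) μ
    obtain ⟨g, hg⟩ := Cfsg.Lib.UnitaryConj.exists_GU_of hK U hU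
    exact ⟨g, by rw [hg]; exact hUμ⟩
  choose mdl hmdl using hex
  let ψ : {μ : Nat.Partition n // ∀ a ∈ μ.parts, a ≤ p} → T := fun μ =>
    ⟨ConjClasses.mk (mdl μ.1), mdl μ.1, rfl, (hmdl μ.1).nilpotent μ.2⟩
  have hψ : Function.Bijective ψ := by
    constructor
    · intro μ ν e
      exact Subtype.ext ((hconjT _ _ (ConjClasses.mk_eq_mk_iff_isConj.1 (congrArg Subtype.val e)) _ (hmdl μ.1)).unique (hmdl ν.1))
    · rintro ⟨C, g, rfl, hg⟩
      obtain ⟨μ, hμ, hgμ⟩ := Cfsg.Lib.UnipClasses.exists_type hg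
      exact ⟨⟨μ, hμ⟩, Subtype.ext (ConjClasses.mk_eq_mk_iff_isConj.2
        (Cfsg.Lib.UnitaryConj.isConj_GU_of_type hK _ _ (hmdl μ) hgμ))⟩
  have hone : ConjClasses.mk (1 : ↥(Cfsg.GU n K q)) ∈ T :=
    ⟨1, rfl, by rw [Subgroup.coe_one, Units.val_one, sub_self, zero_pow hp.ne_zero]⟩
  have hset : {C : ConjClasses ↥(Cfsg.GU n K q) | ∃ g : ↥(Cfsg.GU n K q), ConjClasses.mk g = C ∧ orderOf g = p} =
      T \ {ConjClasses.mk 1} := by
    rcases Nat.eq_zero_or_pos n with rfl | hn
    · haveI : Subsingleton ↥(Cfsg.GU 0 K q) := ⟨fun a b => Subtype.ext (Units.ext (Subsingleton.elim _ _))⟩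
      ext C
      constructor
      · rintro ⟨g, -, hg⟩
        rw [Subsingleton.elim g 1, orderOf_one] at hg
        exact absurd hg.symm hp.ne_one
      · rintro ⟨⟨g, rfl, -⟩, hne⟩
        exact absurd (congrArg ConjClasses.mk (Subsingleton.elim g 1)) hne
    haveI : Nonempty (Fin n) := ⟨⟨0, hn⟩⟩
    ext C
    constructor
    · rintro ⟨g, rfl, hg⟩
      refine ⟨⟨g, rfl, ?_⟩, fun e => ?_⟩
      · rw [sub_pow_char_of_commute p (Commute.one_right _), one_pow, ← Units.val_pow_eq_pow_val, ← Subgroup.coe_pow,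
          ← hg, pow_orderOf_eq_one, Subgroup.coe_one, Units.val_one, sub_self]
      · obtain ⟨u, hu⟩ := isConj_iff.1 (ConjClasses.mk_eq_mk_iff_isConj.1 (Set.mem_singleton_iff.1 e).symm)
        rw [mul_one, mul_inv_cancel] at hu
        rw [← hu, orderOf_one] at hg
        exact hp.ne_one hg.symm
    · rintro ⟨⟨g, rfl, hg⟩, hne⟩
      refine ⟨g, rfl, orderOf_eq_prime ?_ (fun e => hne (by rw [e]; rfl))⟩
      refine Subtype.ext (Units.ext ?_)
      rw [Subgroup.coe_pow, Units.val_pow_eq_pow_val, Subgroup.coe_one, Units.val_one]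
      rw [sub_pow_char_of_commute p (Commute.one_right _), one_pow, sub_eq_zero] at hg
      exact hg
  show Nat.card ({C : ConjClasses ↥(Cfsg.GU n K q) | ∃ g : ↥(Cfsg.GU n K q), ConjClasses.mk g = C ∧ orderOf g = p} :
    Set (ConjClasses ↥(Cfsg.GU n K q))) = _
  rw [Nat.card_coe_set_eq, hset, Set.ncard_diff_singleton_of_mem hone, ← Nat.card_coe_set_eq,
    ← Nat.card_eq_of_bijective ψ hψ, Nat.card_eq_fintype_card, Fintype.card_subtype]

end Cfsg.Agent.S2642
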