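import Cfsg.Statements.S2643
import Cfsg.Agent.Known.UnitaryGU
import Cfsg.Agent.Known.UnipotentDet
import Cfsg.Agent.S2578

set_option autoImplicit false
open Cfsg

namespace Cfsg.Agent.S2643

open Cfsg.Lib Cfsg.Lib.Classical Cfsg.Lib.UnitaryConj

/-- Regular unipotent classes of SU_n(q), n ≥ 2: the elements u of the special unitary group (isometries of Σ u_i v_i^q of determinant one over the field with q² elements) with (u − 1)^n = 0 and rank(u − 1) = n − 1 form exactly gcd(n, q + 1) conjugacy classes of SU_n(q). -/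
theorem result {K : Type*} [Field K] [Fintype K] {q n : ℕ} (hK : Fintype.card K = q ^ 2) (hn : 2 ≤ n) : Nat.card {C : ConjClasses ↥(Cfsg.SU n K q) // ∃ u : ↥(Cfsg.SU n K q), ConjClasses.mk u = C ∧ (((u : GL (Fin n) K) : Matrix (Fin n) (Fin n) K) - 1) ^ n = 0 ∧ (((u : GL (Fin n) K) : Matrix (Fin n) (Fin n) K) - 1).rank = n - 1} = Nat.gcd n (q + 1) := by
  classical
  haveI : Fact (ringChar K).Prime := ⟨CharP.char_is_prime K _⟩
  have hn0 : 1 ≤ n := by omega
  have hinv := UnitaryConj.invol hK
  have hne := UnitaryConj.exists_moved hK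
  let G := (powMonoidHom (q + 1) : Kˣ →* Kˣ).ker
  have hG : ∀ d : Kˣ, d ∈ G ↔ powConj hK (d : K) * d = 1 := fun d => by
    rw [MonoidHom.mem_ker, powMonoidHom_apply, powConj_apply, ← pow_succ, Units.ext_iff]
    simp
  -- the base element
  obtain ⟨U, hU, hUμ, -⟩ := UnitaryConj.exists_model (powConj hK) hinv hne (Nat.Partition.indiscrete n)
  have hparts : (Nat.Partition.indiscrete n).parts = {n} := Nat.Partition.indiscrete_parts (by omega)
  have hUn : (U - 1) ^ n = 0 := UnipClasses.HasType.nilpotent hUμ (fun x hx => by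
    rw [hparts, Multiset.mem_singleton] at hx; omega)
  have hUr : (U - 1).rank = n - 1 := by
    have h := hUμ.rank_parts
    rw [Multiset.length_toList, hparts, Multiset.card_singleton] at h
    omega
  obtain ⟨P, hP⟩ := S2578.exists_Jn (U - 1) hn0 hUn hUr
  have hU' : U * cst (powConj hK) U = 1 := mul_eq_one_comm.1 hU
  have hUdet : U.det = 1 := UnipClasses.det_eq_one_of_nilpotent (ringChar K) U hUn
  -- diagonal representatives of the determinants
  have hR : ∀ d : G, ∃ R : Matrix (Fin n) (Fin n) K, cst (powConj hK) R * R = 1 ∧ R.det = (d : Kˣ) := fun d => by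
    refine ⟨Matrix.diagonal (Function.update (fun _ => 1) ⟨0, hn0⟩ ((d : Kˣ) : K)), ?_, ?_⟩
    · rw [cst, Matrix.diagonal_map (map_zero _), Matrix.diagonal_transpose, Matrix.diagonal_mul_diagonal,
        ← Matrix.diagonal_one]
      congr 1
      funext i
      by_cases hi : i = (⟨0, hn0⟩ : Fin n)
      · subst hi; simpa using (hG _).1 d.2
      · simp [Function.update_of_ne hi]
    · rw [Matrix.det_diagonal, Finset.prod_eq_single (⟨0, hn0⟩ : Fin n)
        (fun i _ hi => by rw [Function.update_of_ne hi]) (by simp), Function.update_self]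
  choose R hR1 hRd using hR
  have hR2 : ∀ d, R d * cst (powConj hK) (R d) = 1 := fun d => mul_eq_one_comm.1 (hR1 d)
  have hA : ∀ d : G, ∃ u : Cfsg.SU n K q,
      ((u : GL (Fin n) K) : Matrix (Fin n) (Fin n) K) = R d * U * cst (powConj hK) (R d) := fun d => by
    have hdet : (R d * U * cst (powConj hK) (R d)).det = 1 := by
      rw [Matrix.det_mul, Matrix.det_mul, hUdet, mul_one, det_cst, mul_comm, hRd]
      exact (hG _).1 d.2
    refine ⟨⟨⟨_, hdet⟩, (mem_SU hK _).2 ?_⟩, rfl⟩
    show cst (powConj hK) (R d * U * cst (powConj hK) (R d)) * (R d * U * cst (powConj hK) (R d)) = 1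
    rw [cst_mul, cst_mul, cst_cst _ hinv]
    calc _ = R d * (cst (powConj hK) U * (cst (powConj hK) (R d) * R d) * U) * cst (powConj hK) (R d) := by
          simp only [mul_assoc]
      _ = 1 := by rw [hR1, mul_one, hU, mul_one, hR2]
  choose A hA using hA
  have hprop : ∀ d : G, ∃ u : Cfsg.SU n K q, ConjClasses.mk u = ConjClasses.mk (A d) ∧
      (((u : GL (Fin n) K) : Matrix (Fin n) (Fin n) K) - 1) ^ n = 0 ∧
      (((u : GL (Fin n) K) : Matrix (Fin n) (Fin n) K) - 1).rank = n - 1 := fun d => by
    have hu : IsUnit (R d) := isUnit_iff_exists.2 ⟨_, hR2 d, hR1 d⟩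
    have e : ((A d : GL (Fin n) K) : Matrix (Fin n) (Fin n) K) - 1 = R d * (U - 1) * cst (powConj hK) (R d) := by
      rw [hA, mul_sub, mul_one, sub_mul, hR2]
    have epow : ∀ j, (R d * (U - 1) * cst (powConj hK) (R d)) ^ j = R d * (U - 1) ^ j * cst (powConj hK) (R d) := fun j => by
      induction j with
      | zero => simp [hR2]
      | succ j ih =>
        rw [pow_succ, ih, pow_succ]
        calc _ = R d * (U - 1) ^ j * (cst (powConj hK) (R d) * R d) * (U - 1) * cst (powConj hK) (R d) := by
              simp only [mul_assoc]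
          _ = _ := by rw [hR1, mul_one]; simp only [mul_assoc]
    refine ⟨A d, rfl, ?_, ?_⟩
    · rw [e, epow, hUn, mul_zero, zero_mul]
    · rw [e, Matrix.rank_mul_eq_left_of_isUnit_det _ _
        ((Matrix.isUnit_iff_isUnit_det _).1 (isUnit_iff_exists.2 ⟨_, hR1 d, hR2 d⟩)),
        Matrix.rank_mul_eq_right_of_isUnit_det _ _ ((Matrix.isUnit_iff_isUnit_det _).1 hu), hUr]
  let Φ : G → {C : ConjClasses ↥(Cfsg.SU n K q) // ∃ u : ↥(Cfsg.SU n K q), ConjClasses.mk u = C ∧
      (((u : GL (Fin n) K) : Matrix (Fin n) (Fin n) K) - 1) ^ n = 0 ∧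
      (((u : GL (Fin n) K) : Matrix (Fin n) (Fin n) K) - 1).rank = n - 1} :=
    fun d => ⟨ConjClasses.mk (A d), hprop d⟩
  let H := (powMonoidHom n : G →* G).range
  -- conjugacy by a special unitary matrix
  have hconj : ∀ (u v : Cfsg.SU n K q) (T : Matrix (Fin n) (Fin n) K), cst (powConj hK) T * T = 1 → T.det = 1 →
      T * ((u : GL (Fin n) K) : Matrix (Fin n) (Fin n) K) = ((v : GL (Fin n) K) : Matrix (Fin n) (Fin n) K) * T →
      IsConj u v := fun u v T hT hTd h => by
    refine isConj_iff.2 ⟨⟨⟨T, hTd⟩, (mem_SU hK _).2 hT⟩, mul_inv_eq_iff_eq_mul.2 (Subtype.ext (Subtype.ext ?_))⟩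
    exact h
  have hker : ∀ d e : G, Φ d = Φ e ↔ d⁻¹ * e ∈ H := by
    intro d e
    constructor
    · intro h
      obtain ⟨t, ht⟩ := isConj_iff.1 (ConjClasses.mk_eq_mk_iff_isConj.1 (congrArg Subtype.val h))
      rw [mul_inv_eq_iff_eq_mul] at ht
      set T : Matrix (Fin n) (Fin n) K := ((t : GL (Fin n) K) : Matrix (Fin n) (Fin n) K) with hTdef
      have hT : T * ((A d : GL (Fin n) K) : Matrix (Fin n) (Fin n) K) = ((A e : GL (Fin n) K) : Matrix (Fin n) (Fin n) K) * T :=
        congrArg (fun z : Cfsg.SU n K q => ((z : GL (Fin n) K) : Matrix (Fin n) (Fin n) K)) ht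
      rw [hA, hA] at hT
      have hT1 : cst (powConj hK) T * T = 1 := (mem_SU hK _).1 t.2
      have hTd : T.det = 1 := t.1.2
      set y := cst (powConj hK) (R e) * T * R d with hy
      have hyU : y * U = U * y := by
        calc y * U = cst (powConj hK) (R e) * (T * (R d * U * cst (powConj hK) (R d))) * R d := by
              rw [hy]; simp only [mul_assoc, hR1, mul_one]
          _ = U * y := by
              rw [hT, hy]; simp only [← mul_assoc]; rw [hR1, one_mul]
      have hy1 : cst (powConj hK) y * y = 1 := by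
        rw [hy, cst_mul, cst_mul, cst_cst _ hinv]
        calc _ = cst (powConj hK) (R d) * (cst (powConj hK) T * (R e * cst (powConj hK) (R e)) * T) * R d := by
              simp only [mul_assoc]
          _ = 1 := by rw [hR2, mul_one, hT1, mul_one, hR1]
      have hy2 : y * cst (powConj hK) y = 1 := mul_eq_one_comm.1 hy1
      have hyU' : cst (powConj hK) y * U = U * cst (powConj hK) y := by
        calc cst (powConj hK) y * U = cst (powConj hK) y * (U * y) * cst (powConj hK) y := by
              simp only [mul_assoc, hy2, mul_one]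
          _ = U * cst (powConj hK) y := by rw [← hyU, ← mul_assoc, hy1, one_mul]
      set Pm := (P : Matrix (Fin n) (Fin n) K) with hPm
      set Qm := ((P⁻¹ : GL (Fin n) K) : Matrix (Fin n) (Fin n) K) with hQm
      have hPQ : Pm * Qm = 1 := P.mul_inv
      have hQP : Qm * Pm = 1 := P.inv_mul
      have hcm : ∀ z, z * U = U * z → Qm * z * Pm * S2578.Jn K n = S2578.Jn K n * (Qm * z * Pm) := fun z hz => by
        calc Qm * z * Pm * S2578.Jn K n = Qm * z * (Pm * S2578.Jn K n) := by simp only [mul_assoc]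
          _ = Qm * (z * (U - 1)) * Pm := by rw [← hP]; simp only [mul_assoc]
          _ = Qm * ((U - 1) * z) * Pm := by rw [mul_sub, sub_mul, mul_one, one_mul, hz]
          _ = Qm * ((U - 1) * Pm) * (Qm * z * Pm) := by
              simp only [mul_assoc]; rw [← mul_assoc Pm Qm, hPQ, one_mul]
          _ = S2578.Jn K n * (Qm * z * Pm) := by rw [hP, ← mul_assoc Qm, hQP, one_mul]
      have hdetc : ∀ z : Matrix (Fin n) (Fin n) K, (Qm * z * Pm).det = z.det := fun z => by
        rw [Matrix.det_mul_right_comm, hQP, one_mul]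
      set i0 : Fin n := ⟨0, hn0⟩ with hi0
      set y' := Qm * y * Pm with hy'
      set w' := Qm * cst (powConj hK) y * Pm with hw'
      have hy'c := hcm y hyU
      have hw'c := hcm _ hyU'
      set c := y' i0 i0 with hc
      have hydet : y.det = c ^ n := by rw [← hdetc, ← hy', S2578.det_of_commute hn0 y' hy'c]
      have hrow : ∀ j : Fin n, j ≠ i0 → y' i0 j = 0 := fun j hj => by
        have hj' : 1 ≤ j.val := by
          rcases Nat.eq_zero_or_pos j.val with h0 | h0
          · exact absurd (Fin.ext h0) hj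
          · exact h0
        have e' := congrFun (congrFun hy'c i0) (⟨j.val - 1, by omega⟩ : Fin n)
        rw [Matrix.mul_apply, Matrix.mul_apply, Finset.sum_eq_single j
          (fun z _ hz => by
            rw [S2578.Jn, if_neg, mul_zero]
            intro h'; exact hz (Fin.ext (by simp only at h'; omega))) (by simp),
          S2578.Jn, if_pos (by show j.val = j.val - 1 + 1; omega), mul_one,
          Finset.sum_eq_zero (fun z _ => by rw [S2578.Jn, if_neg (by show ¬ (0 = z.val + 1); omega), zero_mul])] at e'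
        exact e'
      have hcw : c * w' i0 i0 = 1 := by
        have e' : y' * w' = 1 := by
          rw [hy', hw']
          calc _ = Qm * (y * (Pm * Qm) * cst (powConj hK) y) * Pm := by simp only [mul_assoc]
            _ = 1 := by rw [hPQ, mul_one, hy2, mul_one, hQP]
        have e'' := congrFun (congrFun e' i0) i0
        rw [Matrix.mul_apply, Finset.sum_eq_single i0 (fun z _ hz => by rw [hrow z hz, zero_mul]) (by simp),
          Matrix.one_apply_eq] at e''
        exact e''
      have hσc : powConj hK c * c = 1 := by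
        have h0 : (y - c • (1 : Matrix (Fin n) (Fin n) K)).det = 0 := by
          rw [← hdetc, show Qm * (y - c • 1) * Pm = y' - c • 1 by
            rw [mul_sub, sub_mul, Matrix.mul_smul, mul_one, Matrix.smul_mul, hQP],
            S2578.det_of_commute hn0 _ (by
              rw [sub_mul, mul_sub, hy'c, Matrix.smul_mul, one_mul, Matrix.mul_smul, mul_one])]
          simp [hc, hi0, zero_pow (show n ≠ 0 by omega)]
        have h1 := congrArg (powConj hK) h0
        rw [← det_cst, cst_sub, cst_smul, cst_one, map_zero, ← hdetc,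
          show Qm * (cst (powConj hK) y - powConj hK c • 1) * Pm = w' - powConj hK c • 1 by
            rw [mul_sub, sub_mul, Matrix.mul_smul, mul_one, Matrix.smul_mul, hQP],
          S2578.det_of_commute hn0 _ (by
            rw [sub_mul, mul_sub, hw'c, Matrix.smul_mul, one_mul, Matrix.mul_smul, mul_one])] at h1
        have h2 := (pow_eq_zero_iff (show n ≠ 0 by omega)).1 h1
        rw [Matrix.sub_apply, Matrix.smul_apply, Matrix.one_apply_eq, smul_eq_mul, mul_one, sub_eq_zero] at h2
        rw [← h2, mul_comm]; exact hcw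
      have hc0 : c ≠ 0 := fun h => by rw [h, mul_zero] at hσc; exact zero_ne_one hσc
      refine ⟨(⟨Units.mk0 c hc0, (hG _).2 hσc⟩ : G)⁻¹, ?_⟩
      have key : ((e : Kˣ) : K) * c ^ n = (d : Kˣ) := by
        rw [← hydet, hy, Matrix.det_mul, Matrix.det_mul, det_cst, hTd, mul_one, hRd, hRd, ← mul_assoc,
          mul_comm ((e : Kˣ) : K), (hG _).1 e.2, one_mul]
      rw [powMonoidHom_apply, inv_pow]
      have key' : e * (⟨Units.mk0 c hc0, (hG _).2 hσc⟩ : G) ^ n = d := Subtype.ext (Units.ext (by simpa using key))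
      conv_rhs => rw [← key']
      group
    · rintro ⟨z, hz⟩
      rw [powMonoidHom_apply] at hz
      have he : e = d * z ^ n := by rw [hz]; group
      refine Subtype.ext (ConjClasses.mk_eq_mk_iff_isConj.2 ?_)
      set ζ : K := ((z : Kˣ) : K) with hζ
      have hζ1 : powConj hK ζ * ζ = 1 := (hG _).1 z.2
      refine hconj _ _ (R e * cst (powConj hK) (ζ • R d)) ?_ ?_ ?_
      · rw [cst_mul, cst_cst _ hinv]
        calc _ = ζ • R d * (cst (powConj hK) (R e) * R e) * cst (powConj hK) (ζ • R d) := by simp only [mul_assoc]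
          _ = (powConj hK ζ * ζ) • (R d * cst (powConj hK) (R d)) := by
              rw [hR1, mul_one, cst_smul, Matrix.smul_mul, Matrix.mul_smul, smul_smul, mul_comm ζ]
          _ = 1 := by rw [hζ1, one_smul, hR2]
      · rw [Matrix.det_mul, det_cst, Matrix.det_smul, Fintype.card_fin, hRd, hRd, he, map_mul, map_pow]
        have h1 : powConj hK ((d : Kˣ) : K) * ((d : Kˣ) : K) = 1 := (hG _).1 d.2
        calc _ = (powConj hK ((d : Kˣ) : K) * ((d : Kˣ) : K)) * (powConj hK ζ * ζ) ^ n := by
              simp [hζ, mul_pow]; ring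
          _ = 1 := by rw [h1, hζ1, one_pow, one_mul]
      · rw [hA, hA, cst_smul, Matrix.mul_smul, Matrix.smul_mul, Matrix.mul_smul]
        congr 1
        calc _ = R e * (cst (powConj hK) (R d) * R d) * U * cst (powConj hK) (R d) := by simp only [mul_assoc]
          _ = R e * U * (cst (powConj hK) (R e) * R e) * cst (powConj hK) (R d) := by rw [hR1, hR1, mul_one, mul_one]
          _ = _ := by simp only [mul_assoc]
  have hsurj : Function.Surjective Φ := by
    rintro ⟨C, u, rfl, hu1, hu2⟩
    obtain ⟨Q, hQ⟩ := S2578.exists_Jn _ hn0 hu1 hu2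
    set M : Matrix (Fin n) (Fin n) K := ((u : GL (Fin n) K) : Matrix (Fin n) (Fin n) K) with hM
    have hT : ((Q * P⁻¹ : GL (Fin n) K) : Matrix (Fin n) (Fin n) K) * U =
        M * ((Q * P⁻¹ : GL (Fin n) K) : Matrix (Fin n) (Fin n) K) := by
      have h : ((Q * P⁻¹ : GL (Fin n) K) : Matrix (Fin n) (Fin n) K) * (U - 1) =
          (M - 1) * ((Q * P⁻¹ : GL (Fin n) K) : Matrix (Fin n) (Fin n) K) := by
        rw [Units.val_mul, ← mul_assoc (M - 1), hQ,
          show U - 1 = (P : Matrix (Fin n) (Fin n) K) * S2578.Jn K n * ((P⁻¹ : GL (Fin n) K) : Matrix (Fin n) (Fin n) K) by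
            rw [← hP, mul_assoc, Units.mul_inv, mul_one]]
        simp only [← mul_assoc]
        rw [mul_assoc ((Q : GL (Fin n) K) : Matrix (Fin n) (Fin n) K) _ (P : Matrix (Fin n) (Fin n) K), Units.inv_mul, mul_one]
      rwa [mul_sub, sub_mul, mul_one, one_mul, sub_left_inj] at h
    have hu : cst (powConj hK) M * M = 1 := (mem_SU hK _).1 u.2
    obtain ⟨S, hS, hSU⟩ := UnitaryConj.exists_conj hinv hne U M _ hU hu (Matrix.GeneralLinearGroup.det_ne_zero _) hT
    have hSd : powConj hK S.det * S.det = 1 := by rw [← det_cst, ← Matrix.det_mul, hS, Matrix.det_one]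
    have hSd0 : S.det ≠ 0 := fun h => by rw [h, mul_zero] at hSd; exact zero_ne_one hSd
    refine ⟨⟨Units.mk0 _ hSd0, (hG _).2 hSd⟩, Subtype.ext (ConjClasses.mk_eq_mk_iff_isConj.2 ?_)⟩
    set d : G := ⟨Units.mk0 _ hSd0, (hG _).2 hSd⟩ with hd
    refine hconj _ _ (S * cst (powConj hK) (R d)) ?_ ?_ ?_
    · rw [cst_mul, cst_cst _ hinv]
      calc _ = R d * (cst (powConj hK) S * S) * cst (powConj hK) (R d) := by simp only [mul_assoc]
        _ = 1 := by rw [hS, mul_one, hR2]
    · rw [Matrix.det_mul, det_cst, hRd, mul_comm]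
      exact hSd
    · rw [hA, ← hM]
      calc _ = S * (cst (powConj hK) (R d) * R d) * U * cst (powConj hK) (R d) := by simp only [mul_assoc]
        _ = M * (S * cst (powConj hK) (R d)) := by rw [hR1, mul_one, hSU, mul_assoc]
  have hlift : ∀ a b : G, (QuotientGroup.leftRel H) a b → Φ a = Φ b := fun a b h =>
    (hker a b).2 (QuotientGroup.leftRel_apply.1 h)
  rw [← Nat.card_eq_of_bijective (f := (fun x => Quotient.liftOn' x Φ hlift : G ⧸ H → _)) ⟨?_, ?_⟩,
    ← Subgroup.index_eq_card, IsCyclic.index_powMonoidHom_range, IsCyclic.card_powMonoidHom_ker,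
    Nat.card_units, Nat.card_eq_fintype_card, hK]
  · rw [show q ^ 2 - 1 = (q + 1) * (q - 1) by rw [← Nat.sq_sub_sq, one_pow], Nat.gcd_mul_right_left, Nat.gcd_comm]
  · intro a b
    induction a, b using Quotient.inductionOn₂' with
    | h a b => exact fun h => Quotient.sound' (QuotientGroup.leftRel_apply.2 ((hker a b).1 h))
  · intro C
    obtain ⟨d, hd⟩ := hsurj C
    exact ⟨(d : G ⧸ H), hd⟩

end Cfsg.Agent.S2643
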