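import Cfsg.Statements.S2644
import Cfsg.Agent.Known.UnitaryGU
import Cfsg.Agent.Known.UnipotentDet

set_option autoImplicit false
open Cfsg

namespace Cfsg.Agent.S2644

/-- In the special unitary group SU_n(q) with n ≥ 3 (isometries of Σ u_i v_i^q of determinant one over the field with q² elements), any two transvections (elements t with t − 1 of rank one and square zero) are conjugate. -/
theorem result {K : Type*} [Field K] [Fintype K] {q n : ℕ} (hK : Fintype.card K = q ^ 2) (hn : 3 ≤ n) (s t : ↥(Cfsg.SU n K q)) (hs : Cfsg.IsTransvection (((s : GL (Fin n) K) : Matrix (Fin n) (Fin n) K))) (ht : Cfsg.IsTransvection (((t : GL (Fin n) K) : Matrix (Fin n) (Fin n) K))) : IsConj s t := by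
  classical
  obtain ⟨hs1, hs2⟩ := hs
  obtain ⟨ht1, ht2⟩ := ht
  rw [← sq] at hs2 ht2
  obtain ⟨μ, hμ2, hμ⟩ := Cfsg.Lib.UnipClasses.exists_type hs2
  have hμt := hμ.of_sq_zero hs2 ht2 (hs1.trans ht1.symm)
  have hlen := hμ.rank_parts
  rw [hs1] at hlen
  have hone : ∃ i, Cfsg.Lib.UnipClasses.lens μ i = 1 := by
    by_contra hc
    push Not at hc
    have h2 : ∀ i, Cfsg.Lib.UnipClasses.lens μ i = 2 := fun i => by
      have h1 := μ.parts_pos (Cfsg.Lib.UnipClasses.lens_mem μ i)
      have h3 := hμ2 _ (Cfsg.Lib.UnipClasses.lens_mem μ i)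
      have h4 := hc i
      omega
    have := μ.parts_sum
    rw [← Cfsg.Lib.UnipClasses.map_lens μ, ← Finset.sum_eq_multiset_sum, Finset.sum_congr rfl (fun i _ => h2 i),
      Finset.sum_const, Finset.card_univ, Fintype.card_fin, smul_eq_mul] at this
    omega
  obtain ⟨i0, hi0⟩ := hone
  refine Cfsg.Lib.UnitaryConj.isConj_SU_of_type hK s t hμ hμt fun d hd => ⟨Function.update (fun _ => 1) i0 d, fun i => ?_, ?_⟩
  · by_cases hi : i = i0
    · subst hi; rw [Function.update_self]; exact hd
    · rw [Function.update_of_ne hi]; simp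
  · rw [Finset.prod_eq_single i0 (fun i _ hi => by rw [Function.update_of_ne hi, one_pow]) (by simp),
      Function.update_self, hi0, pow_one]

end Cfsg.Agent.S2644
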