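import Cfsg.Statements.S2645
import Cfsg.Agent.Known.DualCount
import Cfsg.Agent.Known.SympSemisimple
import Cfsg.Agent.Known.SympModel

set_option autoImplicit false
open Cfsg

namespace Cfsg.Agent.S2645

/-- Number of conjugacy classes of elements of odd prime order r, r different from the characteristic, in the symplectic group Sp_2m(q): let i be the multiplicative order of q modulo r and t = (r − 1)/i. If i is odd the eigenvalue orbits pair off (Λ ≠ Λ⁻¹) and the classes correspond to the non-zero (t/2)-tuples (a_j) with 2i Σ a_j ≤ 2m, giving C(⌊m/i⌋ + t/2, t/2) − 1 classes; if i is even (Λ = Λ⁻¹) they correspond to the non-zero t-tuples with i Σ a_j ≤ 2m, giving C(⌊2m/i⌋ + t, t) − 1 classes. -/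
theorem result {F : Type*} [Field F] [Fintype F] {p q : ℕ} [Fact p.Prime] [CharP F p] (hF : Fintype.card F = q) (m r i t : ℕ) (hr : r.Prime) (hr2 : r ≠ 2) (hrp : r ≠ p) (hi : i = orderOf (q : ZMod r)) (ht : t * i = r - 1) : Nat.card {C : ConjClasses ↥(Matrix.symplecticGroup (Fin m) F) // ∃ g : Matrix.symplecticGroup (Fin m) F, ConjClasses.mk g = C ∧ orderOf g = r} = if Odd i then Nat.choose (m / i + t / 2) (t / 2) - 1 else Nat.choose (2 * m / i + t) t - 1 := by
  classical
  subst hF
  haveI := Fact.mk hr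
  have hi0 : 0 < i := by
    rcases Nat.eq_zero_or_pos i with h | h
    · have := hr.two_le
      rw [h, mul_zero] at ht
      omega
    · exact h
  have hJ : Matrix.J (Fin m) F * -Matrix.J (Fin m) F = 1 := by
    rw [Matrix.mul_neg, Matrix.J_squared, neg_neg]
  have hdual : ∀ g : Matrix.symplecticGroup (Fin m) F,
      Cfsg.Lib.DualPoly.dual (RingHom.id F) ((g : Matrix (Fin m ⊕ Fin m) (Fin m ⊕ Fin m) F)).charpoly =
        (g : Matrix (Fin m ⊕ Fin m) (Fin m ⊕ Fin m) F).charpoly := fun g => by
    rw [Cfsg.Lib.DualCount.dual_charpoly _ _ ((Matrix.isUnit_iff_isUnit_det _).2 (SymplecticGroup.symplectic_det g.2)),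
      RingHom.coe_id, Matrix.map_id, SymplecticGroup.inv_eq_symplectic_inv _ g.2, Matrix.charpoly_mul_comm,
      ← Matrix.mul_assoc, hJ, Matrix.one_mul, Matrix.charpoly_transpose]
  rw [Cfsg.Lib.DualCount.card_classes (σ := RingHom.id F) (k := 0) (p := p)
    (Matrix.symplecticGroup (Fin m) F).subtype Subtype.val_injective (fun a => rfl) (fun a => by simp) hrp hi hi0 ht
    hdual (fun a b => Cfsg.Lib.SympSemisimple.isConj_of_charpoly a b) ?_]
  · have hν : Fintype.card (Fin m ⊕ Fin m) = 2 * m := by simp [two_mul]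
    have hiff := Cfsg.Lib.DualCount.exists_neg_one_iff hr2 hi hi0
    by_cases hodd : Odd i
    · rw [if_neg (fun h => Nat.not_even_iff_odd.2 hodd (hiff.1 (by simpa using h))), if_pos hodd, hν,
        Nat.mul_div_mul_left _ _ two_pos]
    · rw [if_pos (by simpa using hiff.2 (Nat.not_odd_iff_even.1 hodd)), if_neg hodd, hν]
  · intro f hf hd hfd hdvd
    have hν : Fintype.card (Fin m ⊕ Fin m) = 2 * m := by simp [two_mul]
    rw [hν] at hd hdvd
    exact Cfsg.Lib.SympModel.exists_model p m f hf hd (Cfsg.Lib.DualCount.reverse_eq_self (p := p) hr2 hf hd hfd hdvd)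

end Cfsg.Agent.S2645
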