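import Cfsg.Statements.S2653
import Cfsg.Agent.Known.AltMinDim.Reduce

set_option autoImplicit false
set_option linter.style.haveILetI false
open scoped MatrixGroups
open Cfsg

namespace Cfsg.Agent.S2653

/-- Alternating sections of finite linear groups. Let `F` be a finite field of characteristic `p` and `n` a natural number, and suppose some subgroup `H` of GL_n(F) has a normal subgroup `K` with `H ⧸ K` isomorphic to the alternating group of degree `r ≥ 9`. Then `n ≥ r - 2` when `p` divides `r`, and `n ≥ r - 1` otherwise (the smallest degree of a nontrivial projective representation of that alternating group in characteristic `p`). The same bound follows for every classical group with natural module of dimension `n` over `F`, since each is a section of a subgroup of GL_n(F). -/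
theorem result {F : Type*} [Field F] [Fintype F] (p : ℕ) [Fact p.Prime] [CharP F p]
    (n : ℕ) (r : ℕ) (H : Subgroup (GL (Fin n) F)) (K : Subgroup ↥H) [K.Normal]
    (h : Nonempty (↥H ⧸ K ≃* ↥(alternatingGroup (Fin r)))) (hr : 9 ≤ r) :
    r - 1 - (if p ∣ r then 1 else 0) ≤ n := by
  classical
  obtain ⟨e⟩ := h
  let σ : F ≃+* Shrink.{0} F := (Shrink.ringEquiv.{0} F).symm
  haveI : CharP (Shrink.{0} F) p := charP_of_injective_ringHom (f := σ.toRingHom) σ.injective p
  let k := AlgebraicClosure (Shrink.{0} F)
  haveI : CharP k p := charP_of_injective_algebraMap (algebraMap (Shrink.{0} F) k).injective p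
  let ψ : F →+* k := (algebraMap (Shrink.{0} F) k).comp σ.toRingHom
  let Φ : H →* Module.End k (Fin n → k) :=
    (Matrix.toLinAlgEquiv' (R := k) (n := Fin n)).toMulEquiv.toMonoidHom.comp
      (ψ.mapMatrix.toMonoidHom.comp ((Units.coeHom (Matrix (Fin n) (Fin n) F)).comp H.subtype))
  have hΦ : Function.Injective Φ := fun a b hab => Subtype.ext (Units.ext
    (Matrix.map_injective ψ.injective ((Matrix.toLinAlgEquiv' (R := k) (n := Fin n)).injective hab)))
  let π : H →* Cfsg.Lib.AltMinDim.Alt r := e.toMonoidHom.comp (QuotientGroup.mk' K)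
  let μ : H ≃* Shrink.{0} H := (Shrink.mulEquiv.{0} (α := H)).symm
  haveI : Finite (Shrink.{0} H) := Finite.of_equiv H μ.toEquiv
  have hb := Cfsg.Lib.AltMinDim.main r hr (Shrink.{0} H) (π.comp μ.symm.toMonoidHom)
    ((e.surjective.comp (QuotientGroup.mk'_surjective K)).comp μ.symm.surjective) k (Fin n → k)
    (Φ.comp μ.symm.toMonoidHom) (fun g hg => by
      have : μ.symm g = 1 := hΦ (hg.trans (map_one Φ).symm)
      show π (μ.symm g) = 1
      rw [this, map_one])
  rw [Module.finrank_fin_fun] at hb
  rcases hb with h1 | ⟨h1, h2⟩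
  · omega
  · rw [if_pos ((CharP.cast_eq_zero_iff k p r).mp h1)]
    omega

end Cfsg.Agent.S2653
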