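import Cfsg.Statements.S2665

set_option autoImplicit false
open scoped MatrixGroups
open Cfsg

namespace Cfsg.Agent.S2665

open Polynomial Matrix

variable {K : Type*} [Field K] [IsAlgClosed K] {q : ℕ}

/-- Auxiliary polynomials. -/
noncomputable def chainPoly (q : ℕ) (a : ℕ → K) : ℕ → K[X]
  | 0 => C (a 0) * X ^ q
  | i + 1 => chainPoly q a i ^ q + C (a (i + 1)) * X ^ q

theorem chainPoly_dvd (hq : 2 ≤ q) (a : ℕ → K) : ∀ i, X ^ q ∣ chainPoly q a i
  | 0 => dvd_mul_left _ _
  | i + 1 => dvd_add (dvd_pow (chainPoly_dvd hq a i) (by omega)) (dvd_mul_left _ _)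

theorem chainPoly_degree (hq : 2 ≤ q) (a : ℕ → K) (ha : a 0 ≠ 0) : ∀ i, q ≤ (chainPoly q a i).natDegree
  | 0 => by rw [chainPoly, natDegree_C_mul ha, natDegree_X_pow]
  | i + 1 => by
    have h := chainPoly_degree hq a ha i
    have h2 : q < (chainPoly q a i ^ q).natDegree := by
      rw [natDegree_pow]
      calc q < 2 * q := by omega
        _ ≤ q * (chainPoly q a i).natDegree := Nat.mul_le_mul hq h
    have h3 : (C (a (i + 1)) * X ^ q : K[X]).natDegree ≤ q :=
      (natDegree_C_mul_le _ _).trans (natDegree_X_pow q).le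
    rw [chainPoly, natDegree_add_eq_left_of_natDegree_lt (by omega)]
    omega

theorem exists_solution (hq : 2 ≤ q) (a : ℕ → K) (ha : a 0 ≠ 0) (i : ℕ) :
    ∃ t : K, t ≠ 0 ∧ (chainPoly q a i).eval t = t := by
  obtain ⟨Q, hQ⟩ := chainPoly_dvd hq a i
  have hQ0 : Q ≠ 0 := fun e => by
    have := chainPoly_degree hq a ha i
    rw [hQ, e, mul_zero, natDegree_zero] at this
    omega
  have hdeg : (X ^ (q - 1) * Q - 1 : K[X]).natDegree = q - 1 + Q.natDegree := by
    rw [natDegree_sub_eq_left_of_natDegree_lt] <;>
    rw [natDegree_mul (pow_ne_zero _ X_ne_zero) hQ0, natDegree_X_pow]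
    rw [natDegree_one]; omega
  obtain ⟨t, ht⟩ := IsAlgClosed.exists_root (X ^ (q - 1) * Q - 1 : K[X]) (fun e => by
    have := natDegree_eq_zero_iff_degree_le_zero.2 e.le
    omega)
  rw [IsRoot, eval_sub, eval_mul, eval_pow, eval_X, eval_one, sub_eq_zero] at ht
  refine ⟨t, fun e => ?_, ?_⟩
  · rw [e, zero_pow (by omega), zero_mul] at ht
    exact zero_ne_one ht
  · rw [hQ, eval_mul, eval_pow, eval_X, show t ^ q = t * t ^ (q - 1) by rw [← pow_succ']; congr 1; omega, mul_assoc, ht,
      mul_one]

/-- An injective semilinear map for a `q`-power twist fixes a nonzero vector. -/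
theorem exists_fixed (hq : 2 ≤ q) {σ : K →+* K} (hσ : ∀ c, σ c = c ^ q) {V : Type*} [AddCommGroup V] [Module K V]
    [FiniteDimensional K V] [Nontrivial V] (φ : V →ₛₗ[σ] V) (hφ : Function.Injective φ) :
    ∃ w : V, w ≠ 0 ∧ φ w = w := by
  classical
  obtain ⟨v, hv⟩ := exists_ne (0 : V)
  let u : ℕ → V := fun i => (φ)^[i] v
  have hu : ∀ i, φ (u i) = u (i + 1) := fun i => (Function.iterate_succ_apply' φ i v).symm
  have hex : ∃ m, u m ∈ Submodule.span K (Set.range fun i : Fin m => u i) := by
    by_contra hc
    push Not at hc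
    have : ∀ m, LinearIndependent K (fun i : Fin m => u i) := by
      intro m
      induction m with
      | zero => exact linearIndependent_empty_type
      | succ m ih =>
        have e : (fun i : Fin (m + 1) => u i) = Fin.snoc (fun i : Fin m => u i) (u m) := by
          funext i
          refine Fin.lastCases ?_ (fun j => ?_) i <;> simp
        rw [e, linearIndependent_finSnoc]
        exact ⟨ih, hc m⟩
    have := (this (Module.finrank K V + 1)).fintype_card_le_finrank
    simp at this
  set m := Nat.find hex with hm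
  have hmspec := Nat.find_spec hex
  have hm0 : m ≠ 0 := fun e => by
    rw [← hm, e] at hmspec
    simp [u] at hmspec
    exact hv hmspec
  have hli : ∀ k ≤ m, LinearIndependent K (fun i : Fin k => u i) := by
    intro k
    induction k with
    | zero => exact fun _ => linearIndependent_empty_type
    | succ k ih =>
      intro hk
      have e : (fun i : Fin (k + 1) => u i) = Fin.snoc (fun i : Fin k => u i) (u k) := by
        funext i
        refine Fin.lastCases ?_ (fun j => ?_) i <;> simp
      rw [e, linearIndependent_finSnoc]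
      exact ⟨ih (by omega), Nat.find_min hex (by omega)⟩
  obtain ⟨a0, ha⟩ := (Submodule.mem_span_range_iff_exists_fun K).1 hmspec
  obtain ⟨M, hM⟩ : ∃ M, m = M + 1 := ⟨m - 1, by omega⟩
  let a : ℕ → K := fun i => if h : i < m then a0 ⟨i, h⟩ else 0
  have ha' : ∑ i ∈ Finset.range m, a i • u i = u m := by
    rw [Finset.sum_range fun i => a i • u i]
    refine Eq.trans (Finset.sum_congr rfl fun i _ => ?_) ha
    simp only [a, dif_pos i.isLt]
    rfl
  have hroot : ∀ b : K, ∃ c, σ c = b := fun b => by
    obtain ⟨c, hc⟩ := IsAlgClosed.exists_pow_nat_eq b (show 0 < q by omega)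
    exact ⟨c, by rw [hσ, hc]⟩
  have ha00 : a 0 ≠ 0 := by
    intro e
    choose b hb using hroot
    have h1 : u m = φ (∑ i ∈ Finset.range M, b (a (i + 1)) • u i) := by
      rw [map_sum, ← ha', hM, Finset.sum_range_succ', e, zero_smul, add_zero]
      exact Finset.sum_congr rfl fun i _ => by rw [LinearMap.map_smulₛₗ, hb, hu]
    rw [hM, ← hu M] at h1
    refine Nat.find_min hex (show M < Nat.find hex by omega) ?_
    rw [hφ h1, Finset.sum_range fun i => b (a (i + 1)) • u i]
    exact Submodule.sum_mem _ fun i _ => Submodule.smul_mem _ _ (Submodule.subset_span ⟨i, rfl⟩)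
  obtain ⟨t, ht0, ht⟩ := exists_solution hq a ha00 M
  let c : ℕ → K := fun i => (chainPoly q a i).eval t
  have hc0 : c 0 = a 0 * t ^ q := by simp [c, chainPoly]
  have hc : ∀ i, c (i + 1) = c i ^ q + a (i + 1) * t ^ q := fun i => by simp [c, chainPoly]
  refine ⟨∑ i ∈ Finset.range m, c i • u i, fun e => ?_, ?_⟩
  · rw [Finset.sum_range fun i => c i • u i] at e
    have := Fintype.linearIndependent_iff.1 (hli m le_rfl) _ e ⟨M, by omega⟩
    exact ht0 (ht.symm.trans this)
  · rw [map_sum, Finset.sum_congr rfl (fun i _ => by rw [LinearMap.map_smulₛₗ, hσ, hu]), hM, Finset.sum_range_succ,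
      show c M = t from ht, ← hM, ← ha', hM, Finset.smul_sum, Finset.sum_range_succ' (fun i => t ^ q • a i • u i),
      ← add_assoc, ← Finset.sum_add_distrib, Finset.sum_range_succ' (fun i => c i • u i)]
    congr 1
    · refine Finset.sum_congr rfl fun i _ => ?_
      rw [hc, smul_smul, add_smul, mul_comm]
    · rw [smul_smul, hc0, mul_comm]

/-- The fixed vectors span. -/
theorem span_fixed (hq : 2 ≤ q) {σ : K →+* K} (hσ : ∀ c, σ c = c ^ q) {V : Type*} [AddCommGroup V] [Module K V]
    [FiniteDimensional K V] (φ : V →ₛₗ[σ] V) (hφ : Function.Injective φ) :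
    Submodule.span K {v : V | φ v = v} = ⊤ := by
  classical
  set W := Submodule.span K {v : V | φ v = v} with hW
  by_contra hne
  have hle : W ≤ W.comap φ := Submodule.span_le.2 fun v hv => by
    show φ v ∈ W
    rw [show φ v = v from hv]
    exact Submodule.subset_span hv
  have hpull : ∀ v, φ v ∈ W → v ∈ W := by
    intro v hv
    obtain ⟨l, hl⟩ := (Finsupp.mem_span_iff_linearCombination K _ _).1 hv
    have hroot : ∀ b : K, ∃ c, σ c = b := fun b => by
      obtain ⟨c, hc⟩ := IsAlgClosed.exists_pow_nat_eq b (show 0 < q by omega)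
      exact ⟨c, by rw [hσ, hc]⟩
    choose b hb using hroot
    have e : φ v = φ (∑ x ∈ l.support, b (l x) • (x : V)) := by
      rw [map_sum, ← hl, Finsupp.linearCombination_apply, Finsupp.sum]
      exact Finset.sum_congr rfl fun x _ => by rw [LinearMap.map_smulₛₗ, hb, show φ (x : V) = x from x.2]
    rw [hφ e]
    exact Submodule.sum_mem _ fun x _ => Submodule.smul_mem _ _ (Submodule.subset_span x.2)
  haveI : Nontrivial (V ⧸ W) := Submodule.Quotient.nontrivial_iff.2 hne
  obtain ⟨w', hw0, hw⟩ := exists_fixed hq hσ (Submodule.mapQ W W φ hle) (by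
    rw [← LinearMap.ker_eq_bot, LinearMap.ker_eq_bot']
    intro z hz
    induction z using Submodule.Quotient.induction_on with
    | H v =>
      rw [Submodule.mapQ_apply, Submodule.Quotient.mk_eq_zero] at hz
      exact (Submodule.Quotient.mk_eq_zero W).2 (hpull v hz))
  induction w' using Submodule.Quotient.induction_on with
  | H w =>
    rw [Submodule.mapQ_apply, Submodule.Quotient.eq] at hw
    obtain ⟨l, hl⟩ := (Finsupp.mem_span_iff_linearCombination K _ _).1 hw
    have hAS : ∀ b : K, ∃ c : K, σ c - c = -b := fun b => by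
      have hd : (X ^ q - X + C b : K[X]).natDegree = q := by
        rw [natDegree_add_C, natDegree_sub_eq_left_of_natDegree_lt (by rw [natDegree_X, natDegree_X_pow]; omega),
          natDegree_X_pow]
      obtain ⟨c, hc⟩ := IsAlgClosed.exists_root (X ^ q - X + C b : K[X]) (fun e => by
        have := natDegree_eq_zero_iff_degree_le_zero.2 e.le
        omega)
      rw [IsRoot, eval_add, eval_sub, eval_pow, eval_X, eval_C] at hc
      exact ⟨c, by rw [hσ]; linear_combination hc⟩
    choose b hb using hAS
    set y := ∑ x ∈ l.support, b (l x) • (x : V) with hy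
    have hfix : φ (w + y) = w + y := by
      have e2 : φ y - y = -(φ w - w) := by
        rw [hy, map_sum, ← Finset.sum_sub_distrib, ← hl, Finsupp.linearCombination_apply, Finsupp.sum,
          ← Finset.sum_neg_distrib]
        refine Finset.sum_congr rfl fun x _ => ?_
        rw [LinearMap.map_smulₛₗ, show φ (x : V) = x from x.2, ← sub_smul, hb, neg_smul]
      rw [map_add]
      linear_combination (norm := abel) e2
    have hwW : w + y ∈ W := Submodule.subset_span hfix
    have hyW : y ∈ W := Submodule.sum_mem _ fun x _ => Submodule.smul_mem _ _ (Submodule.subset_span x.2)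
    exact hw0 ((Submodule.Quotient.mk_eq_zero W).2 ((Submodule.add_mem_iff_left W hyW).1 hwW))


/-- The Lang–Steinberg Theorem for the general linear group. Let `K` be an algebraically closed field of prime characteristic `p`, let `q = p^f` with `f ≥ 1`, and let `σ` be the endomorphism of GL_n(K) raising every matrix entry to the `q`-th power. Then every element `g` of GL_n(K) can be written `g = x · σ(x)⁻¹` for some `x` in GL_n(K): the map `x ↦ x σ(x)⁻¹` is surjective. -/
theorem result {K : Type*} [Field K] [IsAlgClosed K] (p : ℕ) [Fact p.Prime] [CharP K p]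
    (f : ℕ) (hf : 1 ≤ f) (n : ℕ) (g : GL (Fin n) K) :
    ∃ x : GL (Fin n) K, g = x * (Matrix.GeneralLinearGroup.map (iterateFrobenius K p f) x)⁻¹ := by
  classical
  set σ := iterateFrobenius K p f with hσdef
  have hq : 2 ≤ p ^ f := le_trans (Fact.out : p.Prime).two_le (Nat.le_self_pow (by omega) p)
  have hσ : ∀ c : K, σ c = c ^ (p ^ f) := fun c => rfl
  let φ : (Fin n → K) →ₛₗ[σ] (Fin n → K) :=
    { toFun := fun v => (g : Matrix (Fin n) (Fin n) K) *ᵥ (σ ∘ v)
      map_add' := fun v w => by
        rw [← Matrix.mulVec_add]; congr 1; funext i; simp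
      map_smul' := fun c v => by
        rw [← Matrix.mulVec_smul]; congr 1; funext i; simp }
  have hφ : Function.Injective φ := by
    intro v w e
    have e' : (g : Matrix (Fin n) (Fin n) K) *ᵥ (σ ∘ v) = (g : Matrix (Fin n) (Fin n) K) *ᵥ (σ ∘ w) := e
    have := congrArg (fun z => ((g⁻¹ : GL (Fin n) K) : Matrix (Fin n) (Fin n) K) *ᵥ z) e'
    simp only [Matrix.mulVec_mulVec, Units.inv_mul, Matrix.one_mulVec] at this
    funext i
    exact σ.injective (congrFun this i)
  have hspan := span_fixed hq hσ φ hφ
  obtain ⟨b, hbS, hbspan, hbli⟩ := exists_linearIndependent K {v : Fin n → K | φ v = v}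
  let bas : Module.Basis b K (Fin n → K) := Module.Basis.mk hbli (by
    rw [Subtype.range_coe_subtype, Set.setOf_mem_eq, hbspan, hspan])
  haveI : Fintype b := FiniteDimensional.fintypeBasisIndex bas
  have hcard : Fintype.card b = n := by rw [← Module.finrank_eq_card_basis bas, Module.finrank_fin_fun]
  let e := Fintype.equivFinOfCardEq hcard
  let B : Matrix (Fin n) (Fin n) K := Matrix.of fun i j => (e.symm j : Fin n → K) i
  have hB : IsUnit B := by
    rw [← Matrix.linearIndependent_cols_iff_isUnit]
    exact hbli.comp _ e.symm.injective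
  refine ⟨hB.unit, eq_mul_inv_iff_mul_eq.2 (Units.ext ?_)⟩
  show (g : Matrix (Fin n) (Fin n) K) * (hB.unit : Matrix (Fin n) (Fin n) K).map σ = (hB.unit : Matrix (Fin n) (Fin n) K)
  rw [IsUnit.unit_spec]
  ext i j
  have := congrFun (hbS (e.symm j).2 : φ _ = _) i
  exact this

end Cfsg.Agent.S2665
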