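import Cfsg.Statements.S2669
import Mathlib
import Cfsg.Agent.Known.Shintani

set_option autoImplicit false
open Cfsg

namespace Cfsg.Agent.S2669

/-- Shintani descent preserves numbers of fixed points on coset spaces (abstract form). Let `σ` be an automorphism of a group `X` and `e ≥ 1`; write `G` for the fixed points of `σᵉ` and `H` for the fixed points of `σ`, and assume `G` is finite. Let `Y` be a `σ`-stable subgroup of `X` on which the maps `a ↦ a σ(a)⁻¹` and `a ↦ a σᵉ(a)⁻¹` are surjective (as for a closed connected `σ`-stable subgroup of an algebraic group). Let `g ∈ G`, let `a ∈ X` satisfy `g = a σ(a)⁻¹` and put `x = σᵉ(a)⁻¹ a` (the Shintani image, an element of `H`). The element `g σ` of the semidirect product acts on the cosets of `Y ∩ G` in `G` by `k (Y ∩ G) ↦ g σ(k) (Y ∩ G)`, fixing that coset exactly when `k⁻¹ g σ(k) ∈ Y`; and `x` fixes the coset `h (Y ∩ H)` of `H` exactly when `h⁻¹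 x h ∈ Y`. Then the two numbers of fixed cosets agree; in cross-multiplied form, `#{k ∈ G : k⁻¹ g σ(k) ∈ Y} · |Y ∩ H| = #{h ∈ H : h⁻¹ x h ∈ Y} · |Y ∩ G|`. -/
theorem result {X : Type*} [Group X] (σ : MulAut X) (e : ℕ) (he : 1 ≤ e)
    [Finite ↥((MulEquiv.toMonoidHom (σ ^ e)).eqLocus (MonoidHom.id X))]
    (Y : Subgroup X) (hY : ∀ y : X, y ∈ Y ↔ σ y ∈ Y)
    (hYL : ∀ y ∈ Y, ∃ a ∈ Y, y = a * (σ a)⁻¹) (hYLe : ∀ y ∈ Y, ∃ a ∈ Y, y = a * ((σ ^ e) a)⁻¹)
    (g : X) (hg : g ∈ (MulEquiv.toMonoidHom (σ ^ e)).eqLocus (MonoidHom.id X)) (a : X) (ha : g = a * (σ a)⁻¹) :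
    Nat.card {k : ↥((MulEquiv.toMonoidHom (σ ^ e)).eqLocus (MonoidHom.id X)) // (k : X)⁻¹ * g * σ k ∈ Y} *
        Nat.card ↥(Y ⊓ (MulEquiv.toMonoidHom σ).eqLocus (MonoidHom.id X)) =
      Nat.card {h : ↥((MulEquiv.toMonoidHom σ).eqLocus (MonoidHom.id X)) // (h : X)⁻¹ * (((σ ^ e) a)⁻¹ * a) * h ∈ Y} *
        Nat.card ↥(Y ⊓ (MulEquiv.toMonoidHom (σ ^ e)).eqLocus (MonoidHom.id X)) := by
  classical
  set x := ((σ ^ e) a)⁻¹ * a with hx
  let G := (MulEquiv.toMonoidHom (σ ^ e)).eqLocus (MonoidHom.id X)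
  let H := (MulEquiv.toMonoidHom σ).eqLocus (MonoidHom.id X)
  have hσY : ∀ c ∈ Y, σ c ∈ Y := fun c hc => (hY c).1 hc
  have hσeY : ∀ (n : ℕ), ∀ c ∈ Y, (σ ^ n) c ∈ Y := by
    intro n
    induction n with
    | zero => simp
    | succ n ih => intro c hc; rw [pow_succ', MulAut.mul_apply]; exact hσY _ (ih c hc)
  -- choices
  have hc1 : ∀ k : {k : ↥G // (k : X)⁻¹ * g * σ k ∈ Y}, ∃ c ∈ Y, (k.1 : X)⁻¹ * g * σ k.1 = c * (σ c)⁻¹ :=
    fun k => hYL _ k.2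
  choose c hcY hc using hc1
  have hd1 : ∀ h : {h : ↥H // (h : X)⁻¹ * x * h ∈ Y}, ∃ d ∈ Y, (h.1 : X)⁻¹ * x * h.1 = ((σ ^ e) d)⁻¹ * d := by
    intro h
    obtain ⟨d, hd, hde⟩ := hYLe _ (inv_mem h.2)
    refine ⟨d⁻¹, inv_mem hd, ?_⟩
    rw [← inv_inv ((h.1 : X)⁻¹ * x * h.1), hde]
    simp
  choose d hdY hd using hd1
  have memEq : ∀ (K : Subgroup X) {u v : X}, u = v → v ∈ K → u ∈ K := fun K u v h hv => h ▸ hv
  let Z := {z : X × X // z.1 ∈ H ∧ z.2 ∈ Y ∧ a * z.1 * z.2⁻¹ ∈ G}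
  let f₁ : {k : ↥G // (k : X)⁻¹ * g * σ k ∈ Y} × ↥(Y ⊓ H) → Z := fun p =>
    ⟨(a⁻¹ * p.1.1 * (c p.1 * p.2.1), c p.1 * p.2.1), by
      refine memEq _ ?_ (show a⁻¹ * p.1.1 * c p.1 * p.2.1 ∈ H from ?_)
      · group
      · refine mul_mem ?_ (Subgroup.mem_inf.1 p.2.2).2
        change σ _ = _
        rw [MonoidHom.id_apply, Cfsg.Lib.Known.fixed_iff_twisted, ← ha]
        exact hc p.1,
      mul_mem (hcY p.1) (Subgroup.mem_inf.1 p.2.2).1, by
      refine memEq _ ?_ p.1.1.2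
      group⟩
  have hf₁ : Function.Bijective f₁ := by
    constructor
    · rintro ⟨k, v⟩ ⟨k', v'⟩ h
      have h1 := congrArg (fun z : Z => z.1.1) h
      have h2 := congrArg (fun z : Z => z.1.2) h
      simp only [f₁] at h1 h2
      rw [h2] at h1
      have hk : k = k' := Subtype.ext (Subtype.ext (mul_left_cancel (mul_right_cancel h1)))
      subst hk
      exact Prod.ext rfl (Subtype.ext (mul_left_cancel h2))
    · rintro ⟨⟨h, y⟩, hh, hy, hG⟩
      simp only at hh hy hG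
      have htw : (a * h * y⁻¹)⁻¹ * g * σ (a * h * y⁻¹) = y * (σ y)⁻¹ := by
        rw [ha, ← Cfsg.Lib.Known.fixed_iff_twisted]
        have hh' : σ h = h := hh
        rw [show a⁻¹ * (a * h * y⁻¹) * y = h by group, hh']
      let k : {k : ↥G // (k : X)⁻¹ * g * σ k ∈ Y} :=
        ⟨⟨_, hG⟩, by rw [htw]; exact mul_mem hy (inv_mem (hσY _ hy))⟩
      have hv : (c k)⁻¹ * y ∈ Y ⊓ H := by
        refine Subgroup.mem_inf.2 ⟨mul_mem (inv_mem (hcY k)) hy, ?_⟩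
        change σ ((c k)⁻¹ * y) = (c k)⁻¹ * y
        have h2 := (hc k).symm.trans htw
        rw [map_mul, map_inv]
        calc (σ (c k))⁻¹ * σ y = (c k)⁻¹ * (c k * (σ (c k))⁻¹) * σ y := by group
          _ = (c k)⁻¹ * (y * (σ y)⁻¹) * σ y := by rw [h2]
          _ = _ := by group
      refine ⟨(k, ⟨_, hv⟩), Subtype.ext (Prod.ext ?_ ?_)⟩
      · change a⁻¹ * (a * h * y⁻¹) * (c k * ((c k)⁻¹ * y)) = h
        group
      · change c k * ((c k)⁻¹ * y) = y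
        group
  let f₂ : {h : ↥H // (h : X)⁻¹ * x * h ∈ Y} × ↥(Y ⊓ G) → Z := fun p =>
    ⟨((p.1.1 : X), p.2.1 * d p.1), p.1.1.2, mul_mem (Subgroup.mem_inf.1 p.2.2).1 (hdY p.1), by
      refine memEq _ ?_ (mul_mem (show a * p.1.1 * (d p.1)⁻¹ ∈ G from ?_) (inv_mem (Subgroup.mem_inf.1 p.2.2).2))
      · group
      · change (σ ^ e) _ = _
        rw [MonoidHom.id_apply, Cfsg.Lib.Known.fixed_pow_iff e a _ _ p.1.1.2]
        exact hd p.1⟩
  have hf₂ : Function.Bijective f₂ := by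
    constructor
    · rintro ⟨h, w⟩ ⟨h', w'⟩ he'
      have h1 := congrArg (fun z : Z => z.1.1) he'
      have h2 := congrArg (fun z : Z => z.1.2) he'
      simp only [f₂] at h1 h2
      have hh : h = h' := Subtype.ext (Subtype.ext h1)
      subst hh
      exact Prod.ext rfl (Subtype.ext (mul_right_cancel h2))
    · rintro ⟨⟨h, y⟩, hh, hy, hG⟩
      simp only at hh hy hG
      have hh' : σ h = h := hh
      have hG' : (σ ^ e) (a * h * y⁻¹) = a * h * y⁻¹ := hG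
      rw [Cfsg.Lib.Known.fixed_pow_iff e a h y hh', ← hx] at hG'
      let p : {h : ↥H // (h : X)⁻¹ * x * h ∈ Y} :=
        ⟨⟨h, hh⟩, by rw [hG']; exact mul_mem (inv_mem (hσeY e y hy)) hy⟩
      have hw : y * (d p)⁻¹ ∈ Y ⊓ G := by
        refine Subgroup.mem_inf.2 ⟨mul_mem hy (inv_mem (hdY p)), ?_⟩
        change (σ ^ e) (y * (d p)⁻¹) = y * (d p)⁻¹
        have h2 := hG'.symm.trans (hd p)
        rw [map_mul, map_inv]
        calc (σ ^ e) y * ((σ ^ e) (d p))⁻¹ = (σ ^ e) y * (((σ ^ e) (d p))⁻¹ * d p) * (d p)⁻¹ := by group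
          _ = (σ ^ e) y * (((σ ^ e) y)⁻¹ * y) * (d p)⁻¹ := by rw [h2]
          _ = _ := by group
      refine ⟨(p, ⟨_, hw⟩), Subtype.ext (Prod.ext rfl ?_)⟩
      change y * (d p)⁻¹ * d p = y
      group
  rw [← Nat.card_prod, ← Nat.card_prod]
  exact Nat.card_congr ((Equiv.ofBijective f₁ hf₁).trans (Equiv.ofBijective f₂ hf₂).symm)
end Cfsg.Agent.S2669
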