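import Cfsg.Statements.S2671
import Cfsg.Agent.Known.DualCount
import Cfsg.Agent.Known.UnitarySemisimple
import Cfsg.Agent.Known.UnitaryGU

set_option autoImplicit false
open Cfsg

namespace Cfsg.Agent.S2671

/-- Number of conjugacy classes of elements of odd prime order r in the general unitary group GU_n(q), for r not dividing q(q + 1): let i be the multiplicative order of q modulo r, b = i if i is odd and b = i/2 if i is even, and s = (r − 1)/b. If i ≢ 2 (mod 4) the eigenvalue orbits pair off into dual pairs of totally isotropic blocks and there are C(⌊n/(2b)⌋ + s/2, s/2) − 1 classes; if i ≡ 2 (mod 4) each orbit gives a non-degenerate block of dimension i/2 and there are C(⌊2n/i⌋ + s, s) − 1 classes. -/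
theorem result {K : Type*} [Field K] [Fintype K] {p q n r i b s : ℕ} [Fact p.Prime] [CharP K p] (hK : Fintype.card K = q ^ 2) (hr : r.Prime) (hr2 : r ≠ 2) (hrp : r ≠ p) (hi : i = orderOf (q : ZMod r)) (hi2 : i ≠ 2) (hb : b = if Odd i then i else i / 2) (hs : s * b = r - 1) : Nat.card {C : ConjClasses ↥(Cfsg.GU n K q) // ∃ g : ↥(Cfsg.GU n K q), ConjClasses.mk g = C ∧ orderOf g = r} = if i % 4 = 2 then Nat.choose (2 * n / i + s) s - 1 else Nat.choose (n / (2 * b) + s / 2) (s / 2) - 1 := by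
  classical
  haveI := Fact.mk hr
  obtain ⟨e, -, he⟩ := FiniteField.card K p
  obtain ⟨k, -, hqk⟩ := (Nat.dvd_prime_pow (Fact.out : p.Prime)).1
    (show q ∣ p ^ (e : ℕ) by rw [← he, hK]; exact dvd_pow_self q two_ne_zero)
  have hne := Cfsg.Lib.UnitaryConj.exists_moved hK
  have hinv := Cfsg.Lib.UnitaryConj.invol hK
  have hi0 : 0 < i := by
    rw [hi]
    refine orderOf_pos_iff.2 ?_
    have h : (q : ZMod r) ≠ 0 := by
      rw [hqk, Nat.cast_pow]
      refine pow_ne_zero _ fun h => hrp ?_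
      rw [ZMod.natCast_eq_zero_iff] at h
      exact (Nat.prime_dvd_prime_iff_eq hr (Fact.out : p.Prime)).1 h
    exact (IsUnit.mk0 _ h).isOfFinOrder
  have hi' : b = orderOf ((Fintype.card K : ℕ) : ZMod r) := by
    rw [hK, Nat.cast_pow, orderOf_pow' _ two_ne_zero, ← hi, hb]
    split_ifs with hodd
    · rw [Nat.coprime_two_right.2 hodd, Nat.div_one]
    · rw [Nat.gcd_eq_right (Nat.not_odd_iff_even.1 hodd).two_dvd]
  have hb0 : 0 < b := by
    rw [hb]; split_ifs with hodd
    · exact hi0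
    · obtain ⟨c, hc⟩ := Nat.not_odd_iff_even.1 hodd; omega
  have hcst : ∀ M : Matrix (Fin n) (Fin n) K, IsUnit M →
      Cfsg.Lib.DualPoly.dual (Cfsg.Lib.Classical.powConj hK) M.charpoly =
        ((Cfsg.Lib.UnitaryConj.cst (Cfsg.Lib.Classical.powConj hK) M)⁻¹).charpoly := fun M hM => by
    rw [Cfsg.Lib.DualCount.dual_charpoly _ M hM, Cfsg.Lib.UnitaryConj.cst, ← Matrix.transpose_nonsing_inv,
      Matrix.charpoly_transpose]
  let ι : ↥(Cfsg.GU n K q) →* Matrix (Fin n) (Fin n) K := (Units.coeHom _).comp (Cfsg.GU n K q).subtype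
  rw [Cfsg.Lib.DualCount.card_classes (σ := Cfsg.Lib.Classical.powConj hK) (k := k) (p := p) ι
    (fun a b h => Subtype.ext (Units.ext h)) hinv (fun a => by rw [Cfsg.Lib.Classical.powConj_apply, hqk]) hrp hi' hb0 hs
    ?_ ?_ ?_]
  · have hne1 : (-1 : ZMod r) ≠ 1 := fun h => by
      have h2 : ((2 : ℕ) : ZMod r) = 0 := by push_cast; linear_combination -h
      rw [ZMod.natCast_eq_zero_iff] at h2
      exact hr2 ((Nat.prime_dvd_prime_iff_eq hr Nat.prime_two).1 h2)
    have hord : (q : ZMod r) ^ i = 1 := hi ▸ pow_orderOf_eq_one _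
    have hiff : (∃ j : ℕ, r ∣ Fintype.card K ^ j + p ^ k) ↔ i % 4 = 2 := by
      rw [← hqk, hK]
      have key : ∀ j : ℕ, r ∣ (q ^ 2) ^ j + q ↔ (q : ZMod r) ^ (2 * j) = -(q : ZMod r) := fun j => by
        rw [← ZMod.natCast_eq_zero_iff]; push_cast; rw [← pow_mul, eq_neg_iff_add_eq_zero]
      simp only [key]
      have hq0 : (q : ZMod r) ≠ 0 := fun h => by
        rw [h, zero_pow hi0.ne'] at hord; exact zero_ne_one hord
      constructor
      · rintro ⟨j, hj⟩
        have hodd : ∃ c : ℕ, (q : ZMod r) ^ (2 * c + 1) = -1 := by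
          refine ⟨j + i - 1, mul_right_cancel₀ hq0 ?_⟩
          rw [← pow_succ, show 2 * (j + i - 1) + 1 + 1 = 2 * j + i + i by omega, pow_add, pow_add, hord, mul_one, mul_one,
            hj, neg_one_mul]
        obtain ⟨c, hc⟩ := hodd
        have hev : Even i := by
          obtain ⟨j', hj'⟩ : ∃ j : ℕ, r ∣ q ^ j + 1 := ⟨2 * c + 1, by
            rw [← ZMod.natCast_eq_zero_iff]; push_cast; rw [hc]; ring⟩
          exact (Cfsg.Lib.DualCount.exists_neg_one_iff hr2 hi hi0).1 ⟨j', hj'⟩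
        obtain ⟨d, hd⟩ := hev
        by_contra h4
        have h2d : i ∣ 2 * (2 * c + 1) := by
          rw [hi, orderOf_dvd_iff_pow_eq_one, mul_comm, pow_mul, hc, neg_one_sq]
        have h5 : 4 ∣ i := by omega
        obtain ⟨u, hu⟩ := h5.trans h2d
        omega
      · intro h4
        have hq2 : (q : ZMod r) ^ (i / 2) = -1 := by
          have h1 : (q : ZMod r) ^ (i / 2) * (q : ZMod r) ^ (i / 2) = 1 := by
            rw [← pow_add, show i / 2 + i / 2 = i by omega, hord]
          refine (mul_self_eq_one_iff.1 h1).resolve_left fun h => ?_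
          have := Nat.le_of_dvd (by omega) (by have h6 := orderOf_dvd_of_pow_eq_one h; rwa [← hi] at h6 : i ∣ i / 2)
          omega
        refine ⟨(i / 2 + 1) / 2, ?_⟩
        rw [show 2 * ((i / 2 + 1) / 2) = i / 2 + 1 by omega, pow_succ, hq2, neg_one_mul]
    rw [Fintype.card_fin]
    by_cases h4 : i % 4 = 2
    · rw [if_pos (hiff.2 h4), if_pos h4]
      have hodd : ¬ Odd i := Nat.not_odd_iff_even.2 (Nat.even_iff.2 (by omega))
      rw [if_neg hodd] at hb
      have h2 : 2 * n / i = n / b := by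
        rw [show i = 2 * b by omega, Nat.mul_div_mul_left _ _ two_pos]
      rw [h2]
    · rw [if_neg (mt hiff.1 h4), if_neg h4]
  · intro g
    have hg := (Cfsg.Lib.UnitaryConj.mem_GU hK _).1 g.2
    show Cfsg.Lib.DualPoly.dual _ ((g : GL (Fin n) K) : Matrix (Fin n) (Fin n) K).charpoly = _
    rw [hcst _ (Units.isUnit (g : GL (Fin n) K)), Matrix.inv_eq_right_inv hg]
    rfl
  · intro a b ha hb' hc
    have hSS : ∀ g : ↥(Cfsg.GU n K q), (orderOf g).Coprime p →
        Cfsg.Lib.UnitarySemisimple.SS p ((g : GL (Fin n) K) : Matrix (Fin n) (Fin n) K) := fun g h =>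
      ⟨orderOf g, h, by rw [← Units.val_pow_eq_pow_val, ← Subgroup.coe_pow, pow_orderOf_eq_one]; rfl⟩
    obtain ⟨T, hT, hTab⟩ := Cfsg.Lib.UnitarySemisimple.similar (hSS a ha) (hSS b hb') hc
    exact Cfsg.Lib.UnitaryConj.conj_GU hK a b (Matrix.GeneralLinearGroup.mkOfDetNeZero T hT) hTab
  · intro f hf hd hfd hdvd
    rw [Fintype.card_fin] at hd hdvd
    rcases Nat.eq_zero_or_pos n with hn | hn
    · subst hn
      refine ⟨1, by rw [orderOf_one]; exact Nat.coprime_one_left p, ?_⟩
      rw [hf.natDegree_eq_zero.1 hd, Matrix.charpoly, Matrix.det_isEmpty]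
    have h0 : f.coeff 0 ≠ 0 := fun h => by
      have hev := Polynomial.eval_dvd (x := 0) hdvd
      rw [← Polynomial.coeff_zero_eq_eval_zero, h, zero_dvd_iff, Polynomial.eval_pow, Polynomial.eval_sub,
        Polynomial.eval_pow, Polynomial.eval_X, zero_pow hr.ne_zero, Polynomial.eval_one] at hev
      exact pow_ne_zero n (by simp) hev
    obtain ⟨A, hA, hAf⟩ := Cfsg.Lib.UnitarySemisimple.exists_ss (p := p) f hf hd h0
    obtain ⟨x, hx, hxA⟩ := Cfsg.Lib.UnitarySemisimple.exists_unitary hinv hne hn hA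
      (by rw [← hcst A ((Matrix.isUnit_iff_isUnit_det A).2 hA.isUnit_det), hAf, hfd])
    obtain ⟨g, hg⟩ := Cfsg.Lib.UnitaryConj.exists_GU_of hK _ hxA
    obtain ⟨N, hN, hAN⟩ := hA
    have hxu : IsUnit x := (Matrix.isUnit_iff_isUnit_det x).2 (isUnit_iff_ne_zero.2 hx)
    refine ⟨g, ?_, ?_⟩
    · refine Nat.Coprime.coprime_dvd_left (orderOf_dvd_of_pow_eq_one (Subtype.ext (Units.ext ?_))) hN
      rw [Subgroup.coe_pow, Units.val_pow_eq_pow_val, hg]
      have hpow : ∀ j : ℕ, (x * A * x⁻¹) ^ j = x * A ^ j * x⁻¹ := fun j => by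
        induction j with
        | zero => rw [pow_zero, pow_zero, mul_one, Matrix.mul_nonsing_inv _ (isUnit_iff_ne_zero.2 hx)]
        | succ j ih =>
          rw [pow_succ, ih, pow_succ]
          simp only [← mul_assoc]
          rw [mul_assoc (x * A ^ j) x⁻¹ x, Matrix.nonsing_inv_mul _ (isUnit_iff_ne_zero.2 hx), mul_one]
      rw [hpow, hAN, mul_one, Matrix.mul_nonsing_inv _ (isUnit_iff_ne_zero.2 hx)]
      rfl
    · show (((g : GL (Fin n) K) : Matrix (Fin n) (Fin n) K)).charpoly = f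
      rw [hg, Matrix.charpoly_mul_comm, ← mul_assoc, Matrix.nonsing_inv_mul _ (isUnit_iff_ne_zero.2 hx), one_mul, hAf]

end Cfsg.Agent.S2671
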