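import Cfsg.Statements.S2673
import Cfsg.Agent.Known.OrthClasses

set_option autoImplicit false
open Cfsg

namespace Cfsg.Agent.S2673

/-- Number of conjugacy classes of elements of odd prime order r ≠ p in the orthogonal group O_(2m+1)(q) of x_0² + Σ x_j y_j, q odd: with i the multiplicative order of q mod r and t = (r − 1)/i, there are C(⌊m/i⌋ + t/2, t/2) − 1 classes if i is odd (dual pairs of totally singular i-blocks) and C(⌊(2m+1)/i⌋ + t, t) − 1 if i is even (elliptic i-blocks). -/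
theorem result {F : Type*} [Field F] [Fintype F] {p q : ℕ} [Fact p.Prime] [CharP F p] (hF : Fintype.card F = q) (hq : Odd q) (m r i t : ℕ) (hr : r.Prime) (hr2 : r ≠ 2) (hrp : r ≠ p) (hi : i = orderOf (q : ZMod r)) (ht : t * i = r - 1) : Nat.card {C : ConjClasses ↥(Cfsg.isometryGroup F (Cfsg.quadFormOdd m F)) // ∃ g : ↥(Cfsg.isometryGroup F (Cfsg.quadFormOdd m F)), ConjClasses.mk g = C ∧ orderOf g = r} = if Odd i then Nat.choose (m / i + t / 2) (t / 2) - 1 else Nat.choose ((2 * m + 1) / i + t) t - 1 := by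
  classical
  subst hF
  haveI := Fact.mk hr
  have hi0 : 0 < i := by
    rcases Nat.eq_zero_or_pos i with h | h
    · have := hr.two_le
      rw [h, mul_zero] at ht
      omega
    · exact h
  have h2 : (2 : F) ≠ 0 := Cfsg.Lib.Classical.Refl.two_ne_zero_of_odd hq
  rw [← Cfsg.Lib.Classical.Refl.oddForm_coe, Cfsg.Lib.OrthClasses.card_classes
    (Cfsg.Lib.Classical.Refl.oddForm_nondegenerate h2 m) hr2 hrp hi hi0 ht (fun _ => True) (fun _ _ => trivial)
    (fun f _ => Cfsg.Lib.OrthModel.model_odd hr2 h2 m f.2.1 (f.2.2.1.trans (by simp; ring)) f.2.2.2.2 f.2.2.2.1),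
    Nat.card_congr (Equiv.subtypeUnivEquiv fun f => trivial),
    Cfsg.Lib.OrthClasses.card_polys (p := p) hr2 hrp hi hi0 ht,
    show Fintype.card (Unit ⊕ (Fin m ⊕ Fin m)) = 2 * m + 1 by simp; ring, Cfsg.Lib.OrthClasses.cnt]
  by_cases ho : Odd i
  · rw [if_neg (Nat.not_even_iff_odd.2 ho), if_pos ho, ← Nat.div_div_eq_div_mul, show (2 * m + 1) / 2 = m by omega]
  · rw [if_pos (Nat.not_odd_iff_even.1 ho), if_neg ho]

end Cfsg.Agent.S2673
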