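import Cfsg.Statements.S2675
import Cfsg.Agent.Known.OrthClasses

set_option autoImplicit false
open Cfsg

namespace Cfsg.Agent.S2675

/-- Number of conjugacy classes of elements of odd prime order r ≠ p in the orthogonal group O⁻_2m(q) of an elliptic form Σ_(j<m−1) x_j y_j + z₁² + a z₁z₂ + c z₂² (binary part anisotropic, m ≥ 1): with i the multiplicative order of q mod r and t = (r − 1)/i — if i is odd, C(⌊m/i⌋ + t/2, t/2) − 1 minus, when i divides m, the C(m/i + t/2 − 1, t/2 − 1) tuples filling the whole space (dual pairs of totally singular blocks fill a hyperbolic space); if i is even, C(⌊2m/i⌋ + t, t) − 1 minus, when i divides 2m with even quotient, the C(2m/i + t − 1, t − 1) tuples filling the whole space with an even number of elliptic blocks. -/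
theorem result {F : Type*} [Field F] [Fintype F] {p q : ℕ} [Fact p.Prime] [CharP F p] (hF : Fintype.card F = q) (m r i t : ℕ) (hm : 1 ≤ m) (a c : F) (hac : ∀ z₁ z₂ : F, z₁ ^ 2 + a * z₁ * z₂ + c * z₂ ^ 2 = 0 → z₁ = 0 ∧ z₂ = 0) (hr : r.Prime) (hr2 : r ≠ 2) (hrp : r ≠ p) (hi : i = orderOf (q : ZMod r)) (ht : t * i = r - 1) : Nat.card {C : ConjClasses ↥(Cfsg.isometryGroup F (Cfsg.quadFormMinus (m - 1) F a c)) // ∃ g : ↥(Cfsg.isometryGroup F (Cfsg.quadFormMinus (m - 1) F a c)), ConjClasses.mk g = C ∧ orderOf g = r} = if Odd i then Nat.choose (m / i + t / 2) (t / 2) - 1 - (if i ∣ m then Nat.choose (m / i + t / 2 - 1) (t / 2 - 1) else 0) else Nat.choose (2 * m / i + t) t - 1 - (if i ∣ 2 * m ∧ Even (2 * m / i) then Nat.choose (2 * m / i + t - 1) (t - 1) else 0) := by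
  classical
  subst hF
  haveI := Fact.mk hr
  have hi0 : 0 < i := by
    rcases Nat.eq_zero_or_pos i with h | h
    · have := hr.two_le
      rw [h, mul_zero] at ht
      omega
    · exact h
  have hne : (-1 : ZMod r) ≠ 1 := fun h => by
    have h2 : ((2 : ℕ) : ZMod r) = 0 := by push_cast; linear_combination -h
    rw [ZMod.natCast_eq_zero_iff] at h2
    exact hr2 ((Nat.prime_dvd_prime_iff_eq hr Nat.prime_two).1 h2)
  have ht1 : 1 ≤ t := by
    rcases Nat.eq_zero_or_pos t with h | h
    · have := hr.two_le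
      rw [h, zero_mul] at ht
      omega
    · exact h
  have ht2 : Odd i → 2 ≤ t := fun ho => by
    obtain ⟨k, hk⟩ := hr.odd_of_ne_two hr2
    have he : Even (t * i) := ht ▸ ⟨k, by omega⟩
    obtain ⟨d, hd⟩ := (Nat.even_mul.1 he).resolve_right (Nat.not_even_iff_odd.2 ho)
    omega
  obtain ⟨hso, hse⟩ := Cfsg.Lib.OrthClasses.sign_pow (r := r) (m := m) hr2 hi hi0
  have hp := Cfsg.Lib.OrthClasses.cnt_pred (r := r) (Fintype.card F) (m := m) hi0 ht2 ht1 hm
  have hQ : Cfsg.quadFormMinus (m - 1) F a c = ⇑(Cfsg.Lib.Classical.Refl.minusForm (m - 1) F a c) :=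
    (Cfsg.Lib.Classical.Refl.minusForm_coe _ _ _).symm
  have hP := Cfsg.Lib.Classical.Refl.minusForm_nondegenerate' (m - 1) hac
  obtain ⟨D⟩ := Cfsg.Lib.FormNormal.exists_decomp (Cfsg.Lib.Classical.Refl.minusForm (m - 1) F a c) _ ⊤ rfl
    (Cfsg.Lib.FormNormal.nd_top _ hP)
  have hDm := Cfsg.Lib.MinusExtend.minus_index (m - 1) hac D
  have hK : ¬ Module.finrank F D.K = 0 := fun h => by
    have h1 := D.dim
    rw [finrank_top] at h1
    simp [h, hDm] at h1
    omega
  rw [hQ, Cfsg.Lib.OrthClasses.card_classes_even (p := p) hP hr2 hrp hi hi0 ht hm (by simp; omega) D, if_neg hK, hp]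
  simp only [Cfsg.Lib.OrthClasses.cnt]
  by_cases ho : Odd i
  · have he := Nat.not_even_iff_odd.2 ho
    simp only [if_neg he, if_pos ho, Nat.mul_div_mul_left _ _ two_pos]
    by_cases hdiv : i ∣ m
    · rw [if_neg (fun h => hne (h.symm.trans (hso ho hdiv))), if_pos hdiv]
      omega
    · rw [if_neg hdiv, Nat.sub_zero, Nat.sub_zero, ite_self]
  · have he := Nat.not_odd_iff_even.1 ho
    simp only [if_pos he, if_neg ho]
    by_cases hdiv : i ∣ 2 * m
    · have hs := hse he hdiv
      by_cases hev : Even (2 * m / i)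
      · rw [if_pos hev] at hs
        rw [if_neg (by rw [hs]; exact hne.symm), if_pos hdiv, if_pos ⟨hdiv, hev⟩]
        omega
      · rw [if_neg hev] at hs
        rw [if_pos hs, if_neg (fun h : i ∣ 2 * m ∧ Even (2 * m / i) => hev h.2), Nat.sub_zero]
    · rw [if_neg hdiv, if_neg (fun h : i ∣ 2 * m ∧ Even (2 * m / i) => hdiv h.1), Nat.sub_zero, Nat.sub_zero, ite_self]

end Cfsg.Agent.S2675
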