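import Cfsg.Statements.S2678
import Cfsg.Agent.Known.GUForms

set_option autoImplicit false
open Cfsg

namespace Cfsg.Agent.S2678

/-- Field-extension embedding of symplectic groups: for a field K with q² elements and a field F with q elements there is an injective homomorphism Sp_2a(K) → Sp_4a(F). -/
theorem result {K F : Type*} [Field K] [Fintype K] [Field F] [Fintype F] {q : ℕ} (hK : Fintype.card K = q ^ 2) (hF : Fintype.card F = q) (a : ℕ) : ∃ φ : ↥(Matrix.symplecticGroup (Fin a) K) →* ↥(Matrix.symplecticGroup (Fin (2 * a)) F), Function.Injective φ := by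
  classical
  obtain ⟨_, hd⟩ := Cfsg.Lib.FieldEmbed.exists_quadratic hK hF
  let B0 : LinearMap.BilinForm K (Fin a ⊕ Fin a → K) := Matrix.toBilin' (Matrix.J (Fin a) K)
  let B : LinearMap.BilinForm F (Fin a ⊕ Fin a → K) :=
    LinearMap.mk₂ F (fun u v => Algebra.trace F K (B0 u v))
      (fun u u' v => by simp) (fun c u v => by
        rw [← LinearMap.map_smul]; congr 1
        rw [← algebraMap_smul K c u, map_smul, LinearMap.smul_apply, algebraMap_smul])
      (fun u v v' => by simp) (fun c u v => by
        rw [← LinearMap.map_smul]; congr 1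
        rw [← algebraMap_smul K c v, map_smul, algebraMap_smul])
  have hB0 : ∀ u v, B0 u v = dotProduct u ((Matrix.J (Fin a) K).mulVec v) := fun u v => Matrix.toBilin'_apply' _ _ _
  have hA : B.IsAlt := fun v => by
    show Algebra.trace F K (B0 v v) = 0
    rw [hB0]
    simp [Matrix.J, Matrix.fromBlocks_mulVec, dotProduct, Fintype.sum_sum_type, Matrix.neg_mulVec, mul_comm]
  have h1 : ∀ u, (∀ v, B u v = 0) → u = 0 := fun u hu => by
    have hnd : B0.Nondegenerate := Matrix.Nondegenerate.toBilin' (Matrix.nondegenerate_of_det_ne_zero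
      (fun h => by have := Matrix.isUnit_det_J (Fin a) K; rw [h] at this; exact not_isUnit_zero this))
    refine hnd.1 u fun v => Cfsg.Lib.FieldEmbed.trace_nondeg (F := F) fun k => ?_
    have := hu (k • v)
    show Algebra.trace F K (B0 u v * k) = 0
    change Algebra.trace F K (B0 u (k • v)) = 0 at this
    rwa [map_smul, smul_eq_mul, mul_comm] at this
  have hB : B.Nondegenerate := ⟨h1, fun u hu => h1 u fun v => by rw [← hA.neg_eq, hu v, neg_zero]⟩
  have hinj : Function.Injective (Matrix.symplecticGroup (Fin a) K).subtype := Subtype.val_injective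
  refine Cfsg.Lib.FieldEmbed.exists_symplectic_hom B hA hB
    (Cfsg.Lib.FieldEmbed.resScalars (Matrix.symplecticGroup (Fin a) K).subtype)
    (Cfsg.Lib.FieldEmbed.resScalars_injective _ hinj) (fun g x y => ?_) (n := 2 * a) ?_
  · rw [Cfsg.Lib.FieldEmbed.resScalars_apply, Cfsg.Lib.FieldEmbed.resScalars_apply]
    show Algebra.trace F K (B0 _ _) = Algebra.trace F K (B0 x y)
    congr 1
    rw [hB0, hB0]
    have h := SymplecticGroup.mem_iff'.1 g.2
    rw [Submonoid.coe_subtype, Matrix.mulVec_mulVec, Matrix.dotProduct_mulVec, ← Matrix.vecMul_transpose,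
      Matrix.vecMul_vecMul, ← mul_assoc, h, ← Matrix.dotProduct_mulVec]
  · rw [Module.finrank_pi_fintype]; simp [hd]; ring

end Cfsg.Agent.S2678
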