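import Cfsg.Statements.S2679
import Cfsg.Agent.Known.MinusExtend

set_option autoImplicit false
open Cfsg

namespace Cfsg.Agent.S2679

/-- An elliptic orthogonal group embeds in the hyperbolic orthogonal group of the same dimension over the quadratic extension: for a field F with q elements and a field K with q² elements there is an injective homomorphism from O⁻_2m(F) (isometries of Σ_(j<m−1) x_j y_j + z₁² + a z₁z₂ + c z₂², binary part anisotropic) to O⁺_2m(K) (isometries of Σ_(j<m) x_j y_j over K). -/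
theorem result {F K : Type*} [Field F] [Fintype F] [Field K] [Fintype K] {q : ℕ} (hF : Fintype.card F = q) (hK : Fintype.card K = q ^ 2) {m : ℕ} (hm : 1 ≤ m) (a c : F) (hac : ∀ z₁ z₂ : F, z₁ ^ 2 + a * z₁ * z₂ + c * z₂ ^ 2 = 0 → z₁ = 0 ∧ z₂ = 0) : ∃ φ : ↥(Cfsg.isometryGroup F (Cfsg.quadFormMinus (m - 1) F a c)) →* ↥(Cfsg.isometryGroup K (Cfsg.quadFormPlus m K)), Function.Injective φ := by
  classical
  obtain ⟨_, hd⟩ := Cfsg.Lib.FieldEmbed.exists_quadratic hK hF
  obtain ⟨k, rfl⟩ : ∃ k, m = k + 1 := ⟨m - 1, by omega⟩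
  rw [Nat.add_sub_cancel]
  obtain ⟨g, hg⟩ := Cfsg.Lib.MinusExtend.minus_to_plus (K := K) hd k hac
  let emb : ↥(Cfsg.isometryGroup F (Cfsg.quadFormMinus k F a c)) →*
      Matrix ((Fin k ⊕ Fin k) ⊕ Fin 2) ((Fin k ⊕ Fin k) ⊕ Fin 2) K :=
    ((algebraMap F K).mapMatrix.toMonoidHom.comp (Units.coeHom _)).comp (Subgroup.subtype _)
  let ρ : ↥(Cfsg.isometryGroup F (Cfsg.quadFormMinus k F a c)) →* Module.End K ((Fin k ⊕ Fin k) ⊕ Fin 2 → K) :=
    (Matrix.toLinAlgEquiv' (R := K) (n := (Fin k ⊕ Fin k) ⊕ Fin 2)).toMonoidHom.comp emb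
  refine Cfsg.Lib.FormNormal.exists_isometry_hom (Cfsg.quadFormPlus (k + 1) K) g hg ρ (fun x y h => ?_) fun x v => ?_
  · have h' := (Matrix.toLinAlgEquiv' (R := K) (n := (Fin k ⊕ Fin k) ⊕ Fin 2)).injective h
    exact Subtype.ext (Units.ext (Matrix.map_injective (algebraMap F K).injective h'))
  · show Cfsg.Lib.Classical.Refl.minusForm k K _ _ (Matrix.toLinAlgEquiv' (emb x) v) = _
    rw [Matrix.toLinAlgEquiv'_apply]
    exact Cfsg.Lib.MinusExtend.map_preserves k _ (fun w => x.2 w w) v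

end Cfsg.Agent.S2679
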