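import Cfsg.Statements.S2682
import Cfsg.Agent.Known.SympInvol.Main
import Mathlib

set_option autoImplicit false
open Cfsg

namespace Cfsg.Agent.S2682

/-- Centraliser order of an involution t of Sp_2m(q), q even, with s = rank(t − 1) even and f(v, tv) ≠ 0 for some v, f the symplectic form (type c_s): |C(t)| = q^(2ms − (3s² − 3s)/2 − 1) · |Sp_(s−2)(q)| · |Sp_(2m−2s)(q)|. -/
theorem result {F : Type*} [Field F] [Fintype F] [CharP F 2] {q : ℕ} (hF : Fintype.card F = q) {m s : ℕ} (t : Matrix.symplecticGroup (Fin m) F) (ht : t ^ 2 = 1) (hs : ((t : Matrix (Fin m ⊕ Fin m) (Fin m ⊕ Fin m) F) - 1).rank = s) (heven : Even s) (hna : ∃ v : Fin m ⊕ Fin m → F, Cfsg.sympForm m F v ((t : Matrix (Fin m ⊕ Fin m) (Fin m ⊕ Fin m) F).mulVec v) ≠ 0) : Nat.card ↥(Subgroup.centralizer ({t} : Set ↥(Matrix.symplecticGroup (Fin m) F))) = q ^ (2 * m * s - (3 * s ^ 2 - 3 * s) / 2 - 1) * ((q : ℕ) ^ (((s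 - 2) / 2) ^ 2) * ∏ i : Fin ((s - 2) / 2), (q ^ (2 * ((i : ℕ) + 1)) - 1)) * ((q : ℕ) ^ ((m - s) ^ 2) * ∏ i : Fin (m - s), (q ^ (2 * ((i : ℕ) + 1)) - 1)) := by
  subst hF
  obtain ⟨f, S, hd⟩ := Cfsg.Lib.SympInvol.exists_data t ht hs
  have hn : ¬ Cfsg.Lib.SympInvol.IsAltType t := fun h => by obtain ⟨v, hv⟩ := hna; exact hv (h v)
  have hdi := not_forall.1 ((Cfsg.Lib.SympInvol.alt_iff hd).not.1 hn)
  have h0 : 0 < s := by obtain ⟨i, -⟩ := hdi; exact lt_of_le_of_lt (Nat.zero_le _) i.isLt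
  have hle := Cfsg.Lib.SympInvol.le_half hd
  rw [Cfsg.Lib.SympInvol.card_centralizer_eq hd, Cfsg.Lib.SympInvol.exp_eq hle,
    Cfsg.Lib.SympInvol.isoCount_nonalt hd.2.1 hd.2.2.1 hdi,
    Cfsg.Lib.SympInvol.oneCard, if_neg (Nat.not_odd_iff_even.2 heven), Nat.card_eq_fintype_card, Cfsg.Lib.SympInvol.spCard_fin,
    Cfsg.Lib.SympInvol.spCard_fin]
  have e : 2 * m * s - (3 * s ^ 2 - 3 * s) / 2 - 1 = 2 * m * s - (3 * s ^ 2 - s) / 2 + (s - 1) := by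
    have h1 : s * s ≤ m * s := Nat.mul_le_mul_right s hle
    rw [pow_two, mul_assoc 2 m s]
    obtain ⟨r, rfl⟩ := heven
    rw [show (r + r) * (r + r) = 4 * (r * r) by ring] at h1 ⊢
    have : r ≤ r * r := Nat.le_mul_self r
    omega
  rw [e, pow_add]
  ring

end Cfsg.Agent.S2682
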