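import Cfsg.Statements.S2683
import Cfsg.Agent.Known.OrthInvol.OmegaCent
import Mathlib

set_option autoImplicit false
open Cfsg

namespace Cfsg.Agent.S2683

/-- For the hyperbolic form Σ x_j y_j on F^(2m) over a finite field with q elements, q even (excluding m = 2 over the field of two elements), and an involution x of the orthogonal group with s = rank(x − 1) odd (type b_s; such x lie outside Ω): the elements of Ω (the commutator subgroup of the orthogonal group) commuting with x number q^(2m(s−1) − (3s² − 3s)/2) · |Sp_(s−1)(q)| · |Sp_(2m−2s)(q)|, where |Sp_2k(q)| = q^(k²) Π_(i=1)^k (q^(2i) − 1). -/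
theorem result {F : Type*} [Field F] [Fintype F] [CharP F 2] {q : ℕ} (hF : Fintype.card F = q) {m s : ℕ} (h : Fintype.card F ≠ 2 ∨ m ≠ 2) (x : ↥(Cfsg.isometryGroup F (Cfsg.quadFormPlus m F))) (hx : x ^ 2 = 1) (hs : (((x : Matrix.GeneralLinearGroup (Fin m ⊕ Fin m) F) : Matrix (Fin m ⊕ Fin m) (Fin m ⊕ Fin m) F) - 1).rank = s) (hodd : Odd s) : Nat.card {g : ↥(Cfsg.Omega F (Cfsg.quadFormPlus m F)) // (g : ↥(Cfsg.isometryGroup F (Cfsg.quadFormPlus m F))) * x = x * (g : ↥(Cfsg.isometryGroup F (Cfsg.quadFormPlus m F)))} = q ^ (2 * m * (s - 1) - (3 * s ^ 2 - 3 * s) / 2) * ((q : ℕ) ^ (((s - 1) / 2) ^ 2) * ∏ i : Fin ((s - 1) / 2), (q ^ (2 * ((i : ℕ) + 1)) - 1)) * ((q : ℕ) ^ ((m - s) ^ 2) * ∏ i : Fin (m - s), (q ^ (2 * ((i : ℕ) + 1)) - 1)) := by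
  subst hF
  revert x
  rw [← Cfsg.Lib.OrthInvol.plus_coe m]
  intro x hx hs
  have hm := (Cfsg.Lib.OrthInvol.shape_plus (F := F) m).rank_le hx
  replace hs : (Cfsg.Lib.Classical.Refl.mat (Cfsg.Lib.Classical.HypQuad.plusForm m F) x - 1).rank = s := hs
  rw [hs] at hm
  obtain ⟨r, rfl⟩ := hodd
  obtain ⟨j, rfl⟩ : ∃ j, m = 2 * r + (j + 1) := ⟨m - (2 * r + 1), by omega⟩
  rw [Cfsg.Lib.OrthInvol.cent_non h hx hs rfl (fun ha => by
      have := ((Cfsg.Lib.OrthInvol.shape_plus (F := F) _).alt_rank hx ha).1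
      rw [hs] at this
      exact Nat.not_even_iff_odd.2 ⟨r, rfl⟩ this),
    Cfsg.Lib.SympInvol.oneCard, if_pos ⟨r, rfl⟩, Cfsg.Lib.SympInvol.spCard_fin, Cfsg.Lib.SympInvol.spCard_fin,
    show 2 * r + (j + 1) - (2 * r + 1) = j by omega, Nat.add_sub_cancel, show 2 * r / 2 = r by omega]
  have e : 2 * (2 * r + (j + 1)) * (2 * r) - (3 * (2 * r + 1) ^ 2 - 3 * (2 * r + 1)) / 2 =
      2 * (2 * r) * j + (2 * r + 1) * (2 * r) / 2 := by
    rw [show 2 * (2 * r + (j + 1)) * (2 * r) = 8 * (r * r) + 4 * (r * j) + 4 * r by ring,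
      show 3 * (2 * r + 1) ^ 2 = 12 * (r * r) + 12 * r + 3 by ring, show 2 * (2 * r) * j = 4 * (r * j) by ring,
      show (2 * r + 1) * (2 * r) = 2 * (2 * (r * r) + r) by ring]
    omega
  rw [e]
  ring

end Cfsg.Agent.S2683
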