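import Cfsg.Statements.S2684
import Cfsg.Agent.Known.OrthInvol.OmegaCent
import Mathlib

set_option autoImplicit false
open Cfsg

namespace Cfsg.Agent.S2684

/-- For the hyperbolic form Q = Σ x_j y_j on F^(2m) over a finite field with q elements, q even (excluding m = 2 over the field of two elements), and an involution x ≠ 1 of the orthogonal group with s = rank(x − 1) even and Q vanishing on the image of x − 1 (equivalently f(v, xv) = 0 for all v, where f(u, w) = Q(u + w) − Q(u) − Q(w) is the bilinear form of Q; type a_s, which lies in Ω): its centraliser in Ω (the commutator subgroup of the orthogonal group) has order q^(2ms − (3s² + s)/2) · |Sp_s(q)| · |Ω⁺_(2m−2s)(q)|, where |Ω⁺_2k(q)| = q^(k(k−1)) (q^k − 1) Π_(i=1)^(k−1) (q^(2i) − 1) for k ≥ 1 and the last factor is 1 when s = m. -/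
theorem result {F : Type*} [Field F] [Fintype F] [CharP F 2] {q : ℕ} (hF : Fintype.card F = q) {m s : ℕ} (h : Fintype.card F ≠ 2 ∨ m ≠ 2) (x : ↥(Cfsg.isometryGroup F (Cfsg.quadFormPlus m F))) (hx : x ^ 2 = 1) (hx1 : x ≠ 1) (hs : (((x : Matrix.GeneralLinearGroup (Fin m ⊕ Fin m) F) : Matrix (Fin m ⊕ Fin m) (Fin m ⊕ Fin m) F) - 1).rank = s) (heven : Even s) (halt : ∀ v : Fin m ⊕ Fin m → F, Cfsg.quadFormPlus m F ((((x : Matrix.GeneralLinearGroup (Fin m ⊕ Fin m) F) : Matrix (Fin m ⊕ Fin m) (Fin m ⊕ Fin m) F) - 1).mulVec v) = 0) : Nat.card {g : ↥(Cfsg.Omega F (Cfsg.quadFormPlus m F)) // (g : ↥(Cfsg.isometryGroup F (Cfsg.quadFormPlus m F))) * x = x * (g : ↥(Cfsg.isometryGroup F (Cfsg.quadFormPlus m F)))} = q ^ (2 * m * s - (3 * s ^ 2 + s) / 2) * ((q : ℕ) ^ ((s / 2) ^ 2) * ∏ i : Fin (s / 2), (q ^ (2 * ((i : ℕ) + 1)) - 1)) * (if s = m then 1 else q ^ ((m - s) * (m - s - 1)) * (q ^ (m - s) - 1) * ∏ i : Fin (m - s -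 1), (q ^ (2 * ((i : ℕ) + 1)) - 1)) := by
  subst hF
  revert x
  rw [← Cfsg.Lib.OrthInvol.plus_coe m]
  intro x hx hx1 hs halt
  have hm := (Cfsg.Lib.OrthInvol.shape_plus (F := F) m).rank_le hx
  replace hs : (Cfsg.Lib.Classical.Refl.mat (Cfsg.Lib.Classical.HypQuad.plusForm m F) x - 1).rank = s := hs
  rw [hs] at hm
  obtain ⟨r, rfl⟩ : ∃ r, s = 2 * r := ⟨s / 2, by obtain ⟨r, rfl⟩ := heven; omega⟩
  have hs0 : 2 * r ≠ 0 := fun h0 => by
    have h2 := (Cfsg.Lib.OrthInvol.order_two_iff x).1 (orderOf_eq_prime (hp := ⟨Nat.prime_two⟩) hx hx1)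
    exact h2.2 (hs.trans h0)
  obtain ⟨j, rfl⟩ : ∃ j, m = 2 * r + j := ⟨m - 2 * r, by omega⟩
  rw [Cfsg.Lib.OrthInvol.cent_alt (by omega) h hx hs rfl ((Cfsg.Lib.OrthInvol.alt_iff_singular x).2 halt),
    Cfsg.Lib.SympInvol.spCard_fin, show 2 * r + j - 2 * r = j by omega, show 2 * r / 2 = r by omega]
  have e : 2 * (2 * r + j) * (2 * r) - (3 * (2 * r) ^ 2 + 2 * r) / 2 = 2 * (2 * r) * j + 2 * r * (2 * r - 1) / 2 := by
    rw [show 2 * (2 * r + j) * (2 * r) = 8 * (r * r) + 4 * (r * j) by ring,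
      show 3 * (2 * r) ^ 2 = 12 * (r * r) by ring, show 2 * (2 * r) * j = 4 * (r * j) by ring,
      Nat.mul_sub, mul_one, show 2 * r * (2 * r) = 4 * (r * r) by ring]
    have : r ≤ r * r := Nat.le_mul_self r
    omega
  rw [e]
  simp only [show (2 * r = 2 * r + j ↔ j = 0) by omega,
    ← Fin.prod_univ_eq_prod_range (fun i => Fintype.card F ^ (2 * (i + 1)) - 1)]

end Cfsg.Agent.S2684
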