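import Cfsg.Statements.S2685
import Cfsg.Agent.Known.OrthInvol.OmegaCent
import Mathlib

set_option autoImplicit false
open Cfsg

namespace Cfsg.Agent.S2685

/-- For the hyperbolic form Q = Σ x_j y_j on F^(2m) over a finite field with q elements, q even (excluding m = 2 over the field of two elements), and an involution x of the orthogonal group with s = rank(x − 1) even and Q not vanishing on the image of x − 1 (f(v, xv) ≠ 0 for some v, where f(u, w) = Q(u + w) − Q(u) − Q(w) is the bilinear form of Q; type c_s, which lies in Ω): its centraliser in Ω (the commutator subgroup of the orthogonal group) has order q^(2m(s−1) − (3s² − 5s)/2 − 1) · |Sp_(s−2)(q)| · |Sp_(2m−2s)(q)|. -/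
theorem result {F : Type*} [Field F] [Fintype F] [CharP F 2] {q : ℕ} (hF : Fintype.card F = q) {m s : ℕ} (h : Fintype.card F ≠ 2 ∨ m ≠ 2) (x : ↥(Cfsg.isometryGroup F (Cfsg.quadFormPlus m F))) (hx : x ^ 2 = 1) (hs : (((x : Matrix.GeneralLinearGroup (Fin m ⊕ Fin m) F) : Matrix (Fin m ⊕ Fin m) (Fin m ⊕ Fin m) F) - 1).rank = s) (heven : Even s) (hna : ∃ v : Fin m ⊕ Fin m → F, Cfsg.quadFormPlus m F ((((x : Matrix.GeneralLinearGroup (Fin m ⊕ Fin m) F) : Matrix (Fin m ⊕ Fin m) (Fin m ⊕ Fin m) F) - 1).mulVec v) ≠ 0) : Nat.card {g : ↥(Cfsg.Omega F (Cfsg.quadFormPlus m F)) // (g : ↥(Cfsg.isometryGroup F (Cfsg.quadFormPlus m F))) * x = x * (g : ↥(Cfsg.isometryGroup F (Cfsg.quadFormPlus m F)))} = q ^ (2 * m * (s - 1) - (3 * s ^ 2 - 5 * s) / 2 - 1) * ((q : ℕ) ^ (((s - 2) / 2) ^ 2) * ∏ i : Fin ((s - 2) / 2), (q ^ (2 * ((i : ℕ) + 1)) - 1)) * ((q : ℕ) ^ ((m - s) ^ 2) * ∏ i : Fin (m - s), (q ^ (2 * ((i : ℕ)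 + 1)) - 1)) := by
  subst hF
  revert x
  rw [← Cfsg.Lib.OrthInvol.plus_coe m]
  intro x hx hs hna
  have hm := (Cfsg.Lib.OrthInvol.shape_plus (F := F) m).rank_le hx
  replace hs : (Cfsg.Lib.Classical.Refl.mat (Cfsg.Lib.Classical.HypQuad.plusForm m F) x - 1).rank = s := hs
  rw [hs] at hm
  have ha : ¬ Cfsg.Lib.OrthInvol.IsAltO (Cfsg.Lib.Classical.HypQuad.plusForm m F) x := fun ha => by
    obtain ⟨v, hv⟩ := hna
    exact hv ((Cfsg.Lib.OrthInvol.alt_iff_singular x).1 ha v)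
  have hs0 : s ≠ 0 := fun h0 => by
    obtain ⟨v, hv⟩ := hna
    refine hv ?_
    rw [h0, Matrix.rank, Submodule.finrank_eq_zero, LinearMap.range_eq_bot] at hs
    show Cfsg.Lib.Classical.HypQuad.plusForm m F ((Cfsg.Lib.Classical.Refl.mat _ x - 1).mulVecLin v) = 0
    rw [hs, LinearMap.zero_apply, map_zero]
  obtain ⟨r, rfl⟩ : ∃ r, s = 2 * r + 1 + 1 := ⟨s / 2 - 1, by obtain ⟨r, rfl⟩ := heven; omega⟩
  obtain ⟨j, rfl⟩ : ∃ j, m = 2 * r + 1 + (j + 1) := ⟨m - (2 * r + 1 + 1), by omega⟩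
  rw [Cfsg.Lib.OrthInvol.cent_non h hx hs rfl ha, Cfsg.Lib.SympInvol.oneCard,
    if_neg (Nat.not_odd_iff_even.2 heven), Cfsg.Lib.SympInvol.spCard_fin, Cfsg.Lib.SympInvol.spCard_fin,
    show 2 * r + 1 + (j + 1) - (2 * r + 1 + 1) = j by omega, Nat.add_sub_cancel,
    show (2 * r + 1 + 1 - 2) / 2 = r by omega]
  have e : 2 * (2 * r + 1 + (j + 1)) * (2 * r + 1) - (3 * (2 * r + 1 + 1) ^ 2 - 5 * (2 * r + 1 + 1)) / 2 - 1 =
      2 * (2 * r + 1) * j + (2 * r + 1 + 1) * (2 * r + 1) / 2 + (2 * r + 1) := by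
    rw [show 2 * (2 * r + 1 + (j + 1)) * (2 * r + 1) = 8 * (r * r) + 12 * r + 4 + 4 * (r * j) + 2 * j by ring,
      show 3 * (2 * r + 1 + 1) ^ 2 = 12 * (r * r) + 24 * r + 12 by ring,
      show 2 * (2 * r + 1) * j = 4 * (r * j) + 2 * j by ring,
      show (2 * r + 1 + 1) * (2 * r + 1) = 2 * (2 * (r * r) + 3 * r + 1) by ring]
    omega
  rw [e, pow_add]
  ring

end Cfsg.Agent.S2685
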