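import Cfsg.Statements.S2718
import Cfsg.Agent.Known.OrthSim.Plus
import Cfsg.Agent.Known.OrthSim.GraphSplit

set_option autoImplicit false
open Cfsg

namespace Cfsg.Agent.S2718

/-- Let T = PΩ⁺_{2m}(F) with m ≥ 4 and |F| = q odd, G = Inndiag(T), and γ an involutory graph automorphism of T induced by a similarity (one interchanging the two classes of maximal totally singular subspaces). Then the G-class of γ is either a single T-class or the union of exactly two T-classes, and it is the union of two unless m is odd and q ≡ 3 (mod 4). -/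
theorem result {F : Type*} [Field F] [Fintype F] (hodd : Odd (Fintype.card F)) {m : ℕ} (hm : 4 ≤ m) (γ : MulAut (Cfsg.POmega F (Cfsg.quadFormPlus m F))) (hγ : Cfsg.IsSimilarityGraphAutPOmegaPlus m γ) (hγ2 : orderOf γ = 2) :
    (Cfsg.splitClassCount (Cfsg.inndiagPOmegaPlus m F) (Cfsg.Inn (Cfsg.POmega F (Cfsg.quadFormPlus m F))) γ = 1 ∨ Cfsg.splitClassCount (Cfsg.inndiagPOmegaPlus m F) (Cfsg.Inn (Cfsg.POmega F (Cfsg.quadFormPlus m F))) γ = 2) ∧ (¬ (Odd m ∧ Fintype.card F % 4 = 3) → Cfsg.splitClassCount (Cfsg.inndiagPOmegaPlus m F) (Cfsg.Inn (Cfsg.POmega F (Cfsg.quadFormPlus m F))) γ = 2) := by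
  classical
  have h2 : (2 : F) ≠ 0 := fun h => by
    have : CharP F 2 := CharTwo.of_one_ne_zero_of_two_eq_zero one_ne_zero h
    have := FiniteField.even_card_iff_char_two.mp (ringChar.eq F 2)
    have := Nat.odd_iff.mp hodd; omega
  unfold Cfsg.IsSimilarityGraphAutPOmegaPlus at hγ
  revert γ
  rw [show Cfsg.inndiagPOmegaPlus m F = Cfsg.Lib.OrthSim.inndiagP (Cfsg.quadFormPlus m F) from rfl,
    Cfsg.Lib.OrthSim.plus_coe, Cfsg.Lib.OrthSim.inndiagPlus_eq h2 hm]
  intro γ hγ hγ2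
  obtain ⟨g, hg, hp, h⟩ := hγ
  obtain ⟨x, he, rfl⟩ := Cfsg.Lib.OrthSim.graph_elim h2 hm γ hg hp h
  have hh := (Cfsg.Lib.OrthSim.setupP h2 hm).split_graph he (by rw [← pow_two, ← hγ2]; exact pow_orderOf_eq_one _)
  exact ⟨hh.1, fun hcase => hh.2 (Or.inl ((Cfsg.Lib.OrthSim.negMem_plus h2 hm hodd).2 hcase))⟩

end Cfsg.Agent.S2718
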