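import Cfsg.Statements.S2719
import Cfsg.Agent.Known.OrthSim.Semi
import Cfsg.Agent.Known.OrthSim.GraphSplit

set_option autoImplicit false
open Cfsg

namespace Cfsg.Agent.S2719

/-- Let T = PΩ⁻_{2m+2}(F) with m ≥ 3 and |F| = q odd (form with anisotropic binary part z₁² + a z₁ z₂ + b z₂²), G = Inndiag(T), and γ an involutory graph automorphism of T (an automorphism in the image of the semisimilarity group, not inner-diagonal, of order 2). Then the G-class of γ is either a single T-class or the union of exactly two T-classes, and it is the union of two unless m is even and q ≡ 1 (mod 4). -/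
theorem result {F : Type*} [Field F] [Fintype F] (hodd : Odd (Fintype.card F)) {m : ℕ} (hm : 3 ≤ m) (a b : F) (hab : (∀ z₁ z₂ : F, z₁ ^ 2 + a * z₁ * z₂ + b * z₂ ^ 2 = 0 → z₁ = 0 ∧ z₂ = 0)) (γ : MulAut (Cfsg.POmega F (Cfsg.quadFormMinus m F a b))) (hγ : Cfsg.IsGraphAutClassPOmegaMinus m a b γ) (hγ2 : orderOf γ = 2) :
    (Cfsg.splitClassCount (Cfsg.inndiagPOmegaMinus m F a b) (Cfsg.Inn (Cfsg.POmega F (Cfsg.quadFormMinus m F a b))) γ = 1 ∨ Cfsg.splitClassCount (Cfsg.inndiagPOmegaMinus m F a b) (Cfsg.Inn (Cfsg.POmega F (Cfsg.quadFormMinus m F a b))) γ = 2) ∧ (¬ (Even m ∧ Fintype.card F % 4 = 1) → Cfsg.splitClassCount (Cfsg.inndiagPOmegaMinus m F a b) (Cfsg.Inn (Cfsg.POmega F (Cfsg.quadFormMinus m F a b))) γ = 2) := by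
  classical
  have h2 : (2 : F) ≠ 0 := fun h => by
    have : CharP F 2 := CharTwo.of_one_ne_zero_of_two_eq_zero one_ne_zero h
    have := FiniteField.even_card_iff_char_two.mp (ringChar.eq F 2)
    have := Nat.odd_iff.mp hodd; omega
  have key : ∀ f, f = ⇑(Cfsg.Lib.Classical.Refl.minusForm m F a b) → ∀ β : MulAut (Cfsg.POmega F f),
      β ∈ Cfsg.gammaPOmega F f → β ∉ Cfsg.Lib.OrthSim.inndiagM a b f → β * β = 1 →
      (Cfsg.splitClassCount (Cfsg.Lib.OrthSim.inndiagM a b f) (Cfsg.Inn (Cfsg.POmega F f)) β = 1 ∨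
        Cfsg.splitClassCount (Cfsg.Lib.OrthSim.inndiagM a b f) (Cfsg.Inn (Cfsg.POmega F f)) β = 2) ∧
      (¬ (Even m ∧ Fintype.card F % 4 = 1) →
        Cfsg.splitClassCount (Cfsg.Lib.OrthSim.inndiagM a b f) (Cfsg.Inn (Cfsg.POmega F f)) β = 2) := by
    rintro f rfl β hg hn hββ
    obtain ⟨z, he, rfl⟩ := Cfsg.Lib.OrthSim.graph_elim_minus h2 hm hab β hg hn hββ
    rw [Cfsg.Lib.OrthSim.inndiagMinus_eq h2 hm hab]
    have hh := (Cfsg.Lib.OrthSim.setupM h2 hm hab).split_graph he hββ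
    refine ⟨hh.1, fun hcase => hh.2 ?_⟩
    rcases Nat.even_or_odd m with h | h
    · refine Or.inl ((Cfsg.Lib.OrthSim.negMem_minus h2 hm hab hodd).2 ⟨h, ?_⟩)
      have := Nat.odd_iff.1 hodd
      have : Fintype.card F % 4 ≠ 1 := fun h' => hcase ⟨h, h'⟩
      omega
    · exact Or.inr h.add_one
  exact key _ (Cfsg.Lib.Classical.Refl.minusForm_coe m a b).symm γ hγ.1 hγ.2.1
    (by have h := pow_orderOf_eq_one γ; rw [hγ2, pow_two] at h; exact h)

end Cfsg.Agent.S2719
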