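import Cfsg.Statements.S2720
import Cfsg.Agent.Known.OrthFusion.Main
import Cfsg.Agent.Classical.Orth.StdForms

set_option autoImplicit false
open Cfsg

namespace Cfsg.Agent.S2720

/-- Let T = PΩ⁺_{2m}(F) (m ≥ 4, F finite of odd characteristic p), G = Inndiag(T), and let x be an automorphism of T induced by a similarity of the form (an element of the image G̃ of the conformal orthogonal group) of odd prime order r ≠ p. Then the T-class, the PSO-class and the G-class of x coincide (conjugacy under inner automorphisms, under the image of the special orthogonal group, and under G), and the PO-class of x coincides with its G̃-class. (In characteristic 2 the first equality fails: there the special orthogonal group is the full orthogonal group and some such classes split.) -/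
theorem result {F : Type*} [Field F] [Fintype F] {p : ℕ} [Fact p.Prime] [CharP F p] (hp : p ≠ 2) {m : ℕ} (hm : 4 ≤ m) (x : MulAut (Cfsg.POmega F (Cfsg.quadFormPlus m F))) (hx : x ∈ Cfsg.pgoAut F (Cfsg.quadFormPlus m F)) {r : ℕ} (hr : r.Prime) (hro : Odd r) (hrp : r ≠ p) (hxr : orderOf x = r) :
    (∀ y : MulAut (Cfsg.POmega F (Cfsg.quadFormPlus m F)), (Cfsg.IsConjUnder (Cfsg.Inn (Cfsg.POmega F (Cfsg.quadFormPlus m F))) x y ↔ Cfsg.IsConjUnder (Cfsg.inndiagPOmegaPlus m F) x y) ∧ (Cfsg.IsConjUnder (Cfsg.psoAut F (Cfsg.quadFormPlus m F)) x y ↔ Cfsg.IsConjUnder (Cfsg.inndiagPOmegaPlus m F) x y)) ∧ (∀ y : MulAut (Cfsg.POmega F (Cfsg.quadFormPlus m F)), Cfsg.IsConjUnder (Cfsg.poAut F (Cfsg.quadFormPlus m F)) x y ↔ Cfsg.IsConjUnder (Cfsg.pgoAut F (Cfsg.quadFormPlus m F)) x y) := by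
  classical
  haveI := Fact.mk hr
  have hodd : Odd (Fintype.card F) := by
    obtain ⟨n, -, hn⟩ := FiniteField.card F p
    rw [hn]; exact ((Fact.out : p.Prime).odd_of_ne_two hp).pow
  have h2 : (2 : F) ≠ 0 := Cfsg.Lib.Classical.Refl.two_ne_zero_of_odd hodd
  have hrF : (r : F) ≠ 0 := fun h =>
    hrp ((Nat.prime_dvd_prime_iff_eq (Fact.out : p.Prime) hr).1 ((CharP.cast_eq_zero_iff F p r).1 h)).symm
  have hxp : x ^ r = 1 := hxr ▸ pow_orderOf_eq_one x
  have hx1 : x ≠ 1 := fun h => hr.ne_one (by rw [← hxr, h, orderOf_one])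
  suffices h : ∀ φ, φ = Cfsg.quadFormPlus m F → ∀ x : MulAut (Cfsg.POmega F φ), x ∈ Cfsg.pgoAut F φ → x ^ r = 1 → x ≠ 1 →
      (∀ y, (Cfsg.IsConjUnder (Cfsg.Inn (Cfsg.POmega F φ)) x y ↔
          Cfsg.IsConjUnder (Cfsg.Lib.OrthSim.inndiagP φ) x y) ∧
        (Cfsg.IsConjUnder (Cfsg.psoAut F φ) x y ↔ Cfsg.IsConjUnder (Cfsg.Lib.OrthSim.inndiagP φ) x y)) ∧
      ∀ y, Cfsg.IsConjUnder (Cfsg.poAut F φ) x y ↔ Cfsg.IsConjUnder (Cfsg.pgoAut F φ) x y from h _ rfl x hx hxp hx1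
  intro φ hφ
  rw [Cfsg.Lib.OrthSim.plus_coe] at hφ
  subst hφ
  intro x hx hxp hx1
  rw [Cfsg.Lib.OrthSim.inndiagPlus_eq h2 hm]
  exact Cfsg.Lib.OrthFusion.fusion (Cfsg.Lib.OrthSim.setupP h2 hm) hx hro hrF hxp hx1

end Cfsg.Agent.S2720
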