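import Cfsg.Statements.S2725
import Cfsg.Agent.Known.OrthSim.Plus

set_option autoImplicit false
open Cfsg

namespace Cfsg.Agent.S2725

/-- Let T = PΩ⁺_{2m}(F) with m ≥ 4 and |F| = q odd. The inner-diagonal group G = Inndiag(T) (image of the class-preserving similarities) taken modulo the inner automorphism group T is cyclic of order 2 when m is odd and q ≡ 3 (mod 4), cyclic of order 4 when m is odd and q ≡ 1 (mod 4), and elementary abelian of order 4 when m is even. -/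
theorem result {F : Type*} [Field F] [Fintype F] (hodd : Odd (Fintype.card F)) {m : ℕ} (hm : 4 ≤ m) :
    ((Odd m ∧ Fintype.card F % 4 = 3) → (∃ φ : ↥(Cfsg.inndiagPOmegaPlus m F) →* Multiplicative (ZMod 2), Function.Surjective φ ∧ φ.ker = (Cfsg.Inn (Cfsg.POmega F (Cfsg.quadFormPlus m F))).subgroupOf (Cfsg.inndiagPOmegaPlus m F))) ∧ ((Odd m ∧ Fintype.card F % 4 = 1) → (∃ φ : ↥(Cfsg.inndiagPOmegaPlus m F) →* Multiplicative (ZMod 4), Function.Surjective φ ∧ φ.ker = (Cfsg.Inn (Cfsg.POmega F (Cfsg.quadFormPlus m F))).subgroupOf (Cfsg.inndiagPOmegaPlus m F))) ∧ (Even m → (∃ φ : ↥(Cfsg.inndiagPOmegaPlus m F) →* Multiplicative (ZMod 2 × ZMod 2), Function.Surjective φ ∧ φ.ker = (Cfsg.Inn (Cfsg.POmega F (Cfsg.quadFormPlus m F))).subgroupOf (Cfsg.inndiagPOmegaPlus m F))) := by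
  classical
  have h2 : (2 : F) ≠ 0 := fun h => by
    have : CharP F 2 := CharTwo.of_one_ne_zero_of_two_eq_zero one_ne_zero h
    have := FiniteField.even_card_iff_char_two.mp (ringChar.eq F 2)
    have := Nat.odd_iff.mp hodd; omega
  rw [show Cfsg.inndiagPOmegaPlus m F = Cfsg.Lib.OrthSim.inndiagP (Cfsg.quadFormPlus m F) from rfl]
  rw [Cfsg.Lib.OrthSim.plus_coe, Cfsg.Lib.OrthSim.inndiagPlus_eq h2 hm]
  have hn := Cfsg.Lib.OrthSim.negMem_plus h2 hm hodd
  have hD := fun h => Cfsg.Lib.OrthSim.sqD_mem_plus (F := F) h2 hm h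
  refine ⟨fun h => (Cfsg.Lib.OrthSim.setupP h2 hm).inndiag_one fun h' => hn.1 h' h, fun h => ?_, fun h => ?_⟩
  · have hneg := hn.2 fun h' => absurd (h.2.symm.trans h'.2) (by decide)
    exact (Cfsg.Lib.OrthSim.setupP h2 hm).inndiag_four hneg fun h' =>
      Nat.not_even_iff_odd.2 h.1 ((hD hneg).1 h')
  · have hneg := hn.2 fun h' => Nat.not_even_iff_odd.2 h'.1 h
    exact (Cfsg.Lib.OrthSim.setupP h2 hm).inndiag_klein hneg ((hD hneg).2 h)

end Cfsg.Agent.S2725
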