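import Cfsg.Statements.S2729
import Cfsg.Agent.Known.OrthSim.Minus

set_option autoImplicit false
open Cfsg

namespace Cfsg.Agent.S2729

/-- Let T = PΩ⁻_{2m+2}(F) with m ≥ 3 and |F| = q odd (form with anisotropic binary part). The inner-diagonal group G = Inndiag(T) (image of the class-preserving similarities) taken modulo the inner automorphism group T is cyclic of order 4 when m is even and q ≡ 3 (mod 4), and of order 2 otherwise. -/
theorem result {F : Type*} [Field F] [Fintype F] (hodd : Odd (Fintype.card F)) {m : ℕ} (hm : 3 ≤ m) (a b : F) (hab : (∀ z₁ z₂ : F, z₁ ^ 2 + a * z₁ * z₂ + b * z₂ ^ 2 = 0 → z₁ = 0 ∧ z₂ = 0)) :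
    ((Even m ∧ Fintype.card F % 4 = 3) → (∃ φ : ↥(Cfsg.inndiagPOmegaMinus m F a b) →* Multiplicative (ZMod 4), Function.Surjective φ ∧ φ.ker = (Cfsg.Inn (Cfsg.POmega F (Cfsg.quadFormMinus m F a b))).subgroupOf (Cfsg.inndiagPOmegaMinus m F a b))) ∧ (¬ (Even m ∧ Fintype.card F % 4 = 3) → (∃ φ : ↥(Cfsg.inndiagPOmegaMinus m F a b) →* Multiplicative (ZMod 2), Function.Surjective φ ∧ φ.ker = (Cfsg.Inn (Cfsg.POmega F (Cfsg.quadFormMinus m F a b))).subgroupOf (Cfsg.inndiagPOmegaMinus m F a b))) := by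
  classical
  have h2 : (2 : F) ≠ 0 := fun h => by
    have : CharP F 2 := CharTwo.of_one_ne_zero_of_two_eq_zero one_ne_zero h
    have := FiniteField.even_card_iff_char_two.mp (ringChar.eq F 2)
    have := Nat.odd_iff.mp hodd; omega
  rw [show Cfsg.inndiagPOmegaMinus m F a b = Cfsg.Lib.OrthSim.inndiagM a b (Cfsg.quadFormMinus m F a b) from rfl]
  rw [← Cfsg.Lib.Classical.Refl.minusForm_coe, Cfsg.Lib.OrthSim.inndiagMinus_eq h2 hm hab]
  have hn := Cfsg.Lib.OrthSim.negMem_minus h2 hm hab hodd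
  exact ⟨fun h => (Cfsg.Lib.OrthSim.setupM h2 hm hab).inndiag_four (hn.2 h) fun h' =>
      Nat.not_odd_iff_even.2 h.1 ((Cfsg.Lib.OrthSim.sqD_mem_minus h2 hm hab (hn.2 h)).1 h'),
    fun h => (Cfsg.Lib.OrthSim.setupM h2 hm hab).inndiag_one fun h' => h (hn.1 h')⟩

end Cfsg.Agent.S2729
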