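import Cfsg.Statements.S2738
import Cfsg.Agent.Known.SLTwo.SL
import Cfsg.Agent.Classical.SL

set_option autoImplicit false
open Cfsg

namespace Cfsg.Agent.S2738

theorem comm_central {H : Type*} [Group H] {z z' : H} (h1 : ∀ g, g * z = z * g) (h2 : ∀ g, g * z' = z' * g) (k k' : H) :
    z * k * (z' * k') * (z * k)⁻¹ * (z' * k')⁻¹ = k * k' * k⁻¹ * k'⁻¹ := by
  calc z * k * (z' * k') * (z * k)⁻¹ * (z' * k')⁻¹ = z * (k * z') * k' * k⁻¹ * z⁻¹ * k'⁻¹ * z'⁻¹ := by group
    _ = z * z' * (k * k' * k⁻¹) * z⁻¹ * k'⁻¹ * z'⁻¹ := by rw [h2 k]; group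
    _ = (k * k' * k⁻¹) * (z * z') * z⁻¹ * k'⁻¹ * z'⁻¹ := by
      rw [show z * z' * (k * k' * k⁻¹) = k * k' * k⁻¹ * (z * z') by
        rw [← mul_assoc (k * k' * k⁻¹) z z', h1 (k * k' * k⁻¹), mul_assoc z (k * k' * k⁻¹) z', h2 (k * k' * k⁻¹), ← mul_assoc z z']]
    _ = (k * k' * k⁻¹) * z' * k'⁻¹ * z'⁻¹ := by rw [← h1 z']; group
    _ = (k * k' * k⁻¹) * (z' * k'⁻¹) * z'⁻¹ := by group
    _ = _ := by rw [← h2 k'⁻¹]; group

/-- The special linear group SL(3, 4) has centre of order 3 and does not split over it: no subgroup is a complement to the centre (so SL(3, 4) is a non-split central extension of PSL(3, 4) by a group of order 3). -/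
theorem result (F : Type*) [Field F] [Fintype F] (hF : Fintype.card F = 4) : Nat.card ↥(Subgroup.center (Matrix.SpecialLinearGroup (Fin 3) F)) = 3 ∧ ¬ ∃ K : Subgroup (Matrix.SpecialLinearGroup (Fin 3) F), Subgroup.IsComplement' (Subgroup.center (Matrix.SpecialLinearGroup (Fin 3) F)) K := by
  classical
  set G := Matrix.SpecialLinearGroup (Fin 3) F
  have hu : ∀ x : F, x ≠ 0 → x ^ 3 = 1 := fun x hx => by
    have := FiniteField.pow_card_sub_one_eq_one x hx
    rwa [hF] at this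
  have hc : Nat.card ↥(Subgroup.center G) = 3 := by
    rw [Nat.card_congr (Matrix.SpecialLinearGroup.center_equiv_rootsOfUnity' (0 : Fin 3)).toEquiv, Fintype.card_fin]
    rw [Nat.card_congr (Equiv.subtypeUnivEquiv (p := fun u : Fˣ => u ∈ rootsOfUnity 3 F) fun u => by
      rw [mem_rootsOfUnity]; exact Units.ext (by rw [Units.val_pow_eq_pow_val, Units.val_one]; exact hu _ u.ne_zero)),
      Nat.card_units, Nat.card_eq_fintype_card, hF]
  refine ⟨hc, ?_⟩
  rintro ⟨K, hK⟩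
  have hdec : ∀ g : G, ∃ z ∈ Subgroup.center G, ∃ k ∈ K, z * k = g := fun g => by
    obtain ⟨⟨z, k⟩, h⟩ := hK.2 g
    exact ⟨z, z.2, k, k.2, h⟩
  have hle : commutator G ≤ K := by
    rw [commutator_def, Subgroup.commutator_le]
    intro a _ b _
    obtain ⟨z, hz, k, hk, rfl⟩ := hdec a
    obtain ⟨z', hz', k', hk', rfl⟩ := hdec b
    have h1 := Subgroup.mem_center_iff.1 hz
    have h2 := Subgroup.mem_center_iff.1 hz'
    rw [commutatorElement_def]
    have : z * k * (z' * k') * (z * k)⁻¹ * (z' * k')⁻¹ = k * k' * k⁻¹ * k'⁻¹ :=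
      comm_central h1 h2 k k'
    rw [this]
    exact mul_mem (mul_mem (mul_mem hk hk') (inv_mem hk)) (inv_mem hk')
  rw [Cfsg.Lib.Classical.SL_commutator_eq_top (by simp), top_le_iff] at hle
  subst hle
  have h1 : Nat.card ↥(Subgroup.center G) = 1 := Subgroup.card_eq_one.2 (disjoint_top.1 hK.disjoint)
  exact absurd (hc.symm.trans h1) (by norm_num)

end Cfsg.Agent.S2738
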