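import Cfsg.Statements.S2756
import Cfsg.Agent.Fusion.InvSylow
import Cfsg.Agent.S0200

set_option autoImplicit false
open Cfsg

namespace Cfsg.Agent.S2756

open Subgroup Cfsg.Lib.InvSylow

universe u

/-- every `2`-element lies in the `2`-core -/
def Closed (G : Type*) [Group G] : Prop := ∀ x : G, IsPGroup 2 (zpowers x) → x ∈ Cfsg.pCore 2 G

theorem zpowers_isPGroup {G : Type*} [Group G] {r : ℕ} {x : G} {k : ℕ} (hk : x ^ r ^ k = 1) :
    IsPGroup r (zpowers x) := by
  intro y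
  obtain ⟨j, hj⟩ := mem_zpowers_iff.1 y.2
  refine ⟨k, Subtype.ext ?_⟩
  rw [SubgroupClass.coe_pow, ← hj, ← zpow_natCast, ← zpow_mul, mul_comm, zpow_mul, zpow_natCast, hk,
    one_zpow, OneMemClass.coe_one]

theorem closed_iff {G : Type*} [Group G] [Finite G] :
    (∀ P : Sylow 2 G, (P : Subgroup G).Normal) ↔ Closed G := by
  haveI := Fact.mk Nat.prime_two
  constructor
  · intro h x hx
    obtain ⟨P, hP⟩ := hx.exists_le_sylow
    exact Cfsg.Lib.Components.le_pCore (hn := h P) P.2 (hP (mem_zpowers x))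
  · intro h P
    have hle : (P : Subgroup G) ≤ Cfsg.pCore 2 G := fun x hx => h x (P.2.to_le (zpowers_le.2 hx))
    rw [← P.3 (Cfsg.Lib.Components.isPGroup_pCore 2) hle]
    infer_instance

theorem closed_subgroup {G : Type*} [Group G] [Finite G] (h : Closed G) (H : Subgroup G) : Closed H := by
  haveI := Fact.mk Nat.prime_two
  intro x hx
  have h2 : (x : G) ∈ Cfsg.pCore 2 G := h x (by
    have := hx.map H.subtype
    rwa [MonoidHom.map_zpowers] at this)
  exact Cfsg.Lib.Components.le_pCore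
    ((Cfsg.Lib.Components.isPGroup_pCore (G := G) 2).comap_of_injective H.subtype H.subtype_injective) h2

theorem not_inv_of_closed {G : Type*} [Group G] [Finite G] (h : Closed G) {q : ℕ} [Fact q.Prime] (hq : q ≠ 2) :
    ¬ Inv q (⊤ : Subgroup G) := by
  haveI := Fact.mk Nat.prime_two
  rintro ⟨x, -, g, -, hx1, ⟨k, hk⟩, hgx⟩
  obtain ⟨a, b, -, -, hab, ⟨i, hi⟩, hcop⟩ := Cfsg.Lib.Transfer.exists_pPart 2 g
  have ha : a ∈ Cfsg.pCore 2 G := h a (IsPGroup.of_card (n := i) (by rw [Nat.card_zpowers, hi]))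
  let π := QuotientGroup.mk' (Cfsg.pCore 2 G)
  have h1 : π b * π x * (π b)⁻¹ = (π x)⁻¹ := by
    have h0 : π g = π b := by
      rw [← hab, map_mul, show π a = 1 from (QuotientGroup.eq_one_iff a).2 ha, one_mul]
    rw [← h0, ← map_inv π g, ← map_mul, ← map_mul, hgx, map_inv]
  have hodd : Odd (orderOf b) := Nat.not_even_iff_odd.1 fun he =>
    absurd (Nat.eq_one_of_dvd_coprimes hcop (even_iff_two_dvd.1 he) dvd_rfl) (by norm_num)
  have h2 := conj_pow_odd h1 _ hodd
  rw [← map_pow, pow_orderOf_eq_one, map_one, one_mul, inv_one, mul_one] at h2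
  have h3 := eq_one_of_sq hq ⟨k, by rw [← map_pow, hk, map_one]⟩ (eq_inv_iff_mul_eq_one.1 h2)
  obtain ⟨j, hj⟩ := Cfsg.Lib.Components.isPGroup_pCore (G := G) 2 ⟨x, (QuotientGroup.eq_one_iff x).1 h3⟩
  refine hx1 (orderOf_eq_one_iff.1 (Nat.eq_one_of_dvd_coprimes ?_ (orderOf_dvd_of_pow_eq_one hk)
    (orderOf_dvd_of_pow_eq_one (show x ^ 2 ^ j = 1 from congrArg Subtype.val hj))))
  exact ((Nat.coprime_primes (Fact.out : q.Prime) Nat.prime_two).2 hq).pow _ _

theorem closed_of_not_inv : ∀ (n : ℕ) (G : Type u) [Group G] [Finite G], Nat.card G = n →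
    (∀ (q : ℕ), q.Prime → q ≠ 2 → ¬ Inv q (⊤ : Subgroup G)) → Closed G := by
  intro n
  induction n using Nat.strong_induction_on with
  | _ n ih =>
  intro G _ _ hn h x hx
  haveI := Fact.mk Nat.prime_two
  set Q := Cfsg.pCore 2 G
  have hinvol : ∀ t : G, orderOf t = 2 → t ∈ Q := by
    intro t ht
    by_contra htQ
    obtain ⟨y, hy1, hyodd, hty⟩ := Cfsg.Agent.S0200.result t ht
      fun N hN hNp htN => htQ (Cfsg.Lib.Components.le_pCore (hn := hN) hNp htN)
    obtain ⟨q, hq, hqd⟩ := Nat.exists_prime_and_dvd (fun e => hy1 (orderOf_eq_one_iff.1 e))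
    obtain ⟨i, hi⟩ := hqd
    have hi0 : i ≠ 0 := fun e => by
      rw [e, mul_zero] at hi; exact (orderOf_pos y).ne' hi
    refine h q hq (fun e => ?_) ⟨y ^ i, trivial, t, trivial, fun e => ?_, ⟨1, ?_⟩, ?_⟩
    · rw [hi, e] at hyodd
      exact (Nat.not_even_iff_odd.2 hyodd) (even_two_mul i)
    · have := orderOf_dvd_of_pow_eq_one e
      rw [hi] at this
      exact absurd (Nat.le_of_dvd (by omega) this) (by nlinarith [hq.two_le, Nat.pos_of_ne_zero hi0])
    · rw [pow_one, ← pow_mul, mul_comm, ← hi, pow_orderOf_eq_one]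
    · rw [← conj_pow, hty, inv_pow]
  by_cases hQ : Q = ⊥
  · by_cases hx1 : x = 1
    · rw [hx1]; exact one_mem _
    exfalso
    haveI : Nontrivial (zpowers x) := nontrivial_iff_ne_bot _ |>.2 (zpowers_ne_bot.2 hx1)
    obtain ⟨i, hi0, hi⟩ := hx.nontrivial_iff_card.1 inferInstance
    obtain ⟨t, ht⟩ := exists_prime_orderOf_dvd_card' 2 (G := zpowers x) (hi ▸ dvd_pow_self 2 (by omega))
    rw [← Subgroup.orderOf_coe] at ht
    have h1 : (t : G) ∈ Q := hinvol _ ht
    rw [hQ, mem_bot] at h1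
    rw [h1, orderOf_one] at ht
    norm_num at ht
  · set π := QuotientGroup.mk' Q
    have hπ : Function.Surjective π := QuotientGroup.mk'_surjective Q
    have hlt : Nat.card (G ⧸ Q) < n := by
      rw [← hn, Subgroup.card_eq_card_quotient_mul_card_subgroup Q]
      exact lt_mul_of_one_lt_right Nat.card_pos ((one_lt_card_iff_ne_bot Q).2 hQ)
    have hcl := ih _ hlt (G ⧸ Q) rfl (fun q hq hq2 hI => by
      haveI := Fact.mk hq
      exact h q hq hq2 (lift hq2 π (by rwa [map_top_of_surjective π hπ])))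
    have h1 : π x ∈ Cfsg.pCore 2 (G ⧸ Q) := hcl _ (by rw [← MonoidHom.map_zpowers]; exact hx.map π)
    exact Cfsg.Lib.Components.le_pCore
      ((Cfsg.Lib.Components.isPGroup_pCore (G := G ⧸ Q) 2).comap_of_ker_isPGroup π
        (by rw [QuotientGroup.ker_mk']; exact Cfsg.Lib.Components.isPGroup_pCore 2)) (mem_comap.2 h1)


/-- For a finite group G the following are equivalent: (a) G has a normal Sylow 2-subgroup; (b) for every odd prime q dividing the order of G and every Sylow q-subgroup T, the normalizer of Z(J(T)) has a normal Sylow 2-subgroup; (c) for every odd prime q and every Sylow q-subgroup T, no nonidentity element of T is inverted by an element of the normalizer of Z(J(T)). Here J(T) is the Thompson subgroup generated by the abelian subgroups of T of largest order. Stated as the two equivalences (a) ⇔ (b) and (a) ⇔ (c). -/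
theorem result {G : Type*} [Group G] [Finite G] : ((∀ P : Sylow 2 G, (P : Subgroup G).Normal) ↔ ∀ (q : ℕ) [Fact q.Prime], q ≠ 2 → q ∣ Nat.card G → ∀ T : Sylow q G, ∀ P : Sylow 2 ↥(Subgroup.normalizer (Cfsg.centerThompsonAOf (T : Subgroup G) : Set G)), (P : Subgroup ↥(Subgroup.normalizer (Cfsg.centerThompsonAOf (T : Subgroup G) : Set G))).Normal) ∧ ((∀ P : Sylow 2 G, (P : Subgroup G).Normal) ↔ ∀ (q : ℕ) [Fact q.Prime], q ≠ 2 → ∀ T : Sylow q G, ∀ x ∈ (T : Subgroup G), x ≠ 1 → ∀ g ∈ Subgroup.normalizer (Cfsg.centerThompsonAOf (T : Subgroup G) : Set G), g * x * g⁻¹ ≠ x⁻¹) := by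
  rw [closed_iff]
  have hback : (∀ (q : ℕ) [Fact q.Prime], q ≠ 2 → ∀ T : Sylow q G,
      ¬ Inv q (normalizer (Cfsg.centerThompsonAOf (T : Subgroup G) : Set G))) → Closed G := fun h =>
    closed_of_not_inv _ G rfl fun q hq hq2 hI => by
      haveI := Fact.mk hq
      obtain ⟨T⟩ := (inferInstance : Nonempty (Sylow q G))
      exact h q hq2 T (main hq2 T hI)
  refine ⟨⟨fun h q _ _ _ T => closed_iff.2 (closed_subgroup h _), fun h => hback fun q _ hq T hI => ?_⟩,
    ⟨fun h q _ hq T x hx hx1 g _ hgx => ?_, fun h => hback fun q _ hq T hI => ?_⟩⟩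
  · by_cases hd : q ∣ Nat.card G
    · exact not_inv_of_closed (closed_iff.1 (h q hq hd T)) hq (inv_subgroup.1 hI)
    · obtain ⟨x, -, -, -, hx1, ⟨k, hk⟩, -⟩ := hI
      exact hx1 (orderOf_eq_one_iff.1 (Nat.eq_one_of_dvd_coprimes
        (((Fact.out : q.Prime).coprime_iff_not_dvd.2 hd).pow_left k) (orderOf_dvd_of_pow_eq_one hk)
        (_root_.orderOf_dvd_natCard x)))
  · obtain ⟨k, hk⟩ := T.2 ⟨x, hx⟩
    exact not_inv_of_closed h hq ⟨x, trivial, g, trivial, hx1, ⟨k, congrArg Subtype.val hk⟩, hgx⟩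
  · set N := normalizer (Cfsg.centerThompsonAOf (T : Subgroup G) : Set G)
    have hTN : (T : Subgroup G) ≤ N :=
      le_normalizer.trans (normalizer_le_normalizer_centerThompsonAOf _)
    obtain ⟨x, hx, g, hg, hx1, ⟨k, hk⟩, hgx⟩ := hI
    have hxp : IsPGroup q (zpowers (⟨x, hx⟩ : N)) := zpowers_isPGroup (k := k) (Subtype.ext hk)
    obtain ⟨P, hP⟩ := hxp.exists_le_sylow
    obtain ⟨c, hc⟩ := MulAction.exists_smul_eq N P (T.subtype hTN)
    have h1 : c * ⟨x, hx⟩ * c⁻¹ ∈ ((T.subtype hTN : Sylow q N) : Subgroup N) := by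
      rw [← hc]
      exact Cfsg.Lib.Transfer.mem_conj_sylow_iff.2 (hP (mem_zpowers _))
    rw [Sylow.coe_subtype, mem_subgroupOf, Subgroup.coe_mul, Subgroup.coe_mul, Subgroup.coe_inv] at h1
    refine h q hq T _ h1 (fun e => hx1 (conj_eq_one_iff.1 e)) ((c : G) * g * (c : G)⁻¹)
      (mul_mem (mul_mem c.2 hg) (inv_mem c.2)) ?_
    rw [show (c : G) * g * (c : G)⁻¹ * ((c : G) * x * (c : G)⁻¹) * ((c : G) * g * (c : G)⁻¹)⁻¹ =
      (c : G) * (g * x * g⁻¹) * (c : G)⁻¹ by group, hgx, conj_inv]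

end Cfsg.Agent.S2756
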