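import Cfsg.Statements.S2757
import Cfsg.Agent.GoldConsumers.SThree
import Cfsg.Agent.Fusion.InvSylow

set_option autoImplicit false
universe u
open Cfsg

namespace Cfsg.Agent.S2757

/-- Let G be a finite group and T a Sylow 3-subgroup such that no nonidentity element of T is inverted by an element of the normalizer of Z(J(T)) (J(T) the Thompson subgroup generated by the abelian subgroups of largest order). Then the symmetric group of degree 3 is not involved in G, and every non-abelian composition factor of G is a Suzuki group Sz(2^(2n+1)) or PSL₂ over a field with 3^(2n+1) elements. -/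
theorem result {G : Type u} [Group G] [Finite G] (T : Sylow 3 G) (h : ∀ x ∈ (T : Subgroup G), x ≠ 1 → ∀ g ∈ Subgroup.normalizer (Cfsg.centerThompsonAOf (T : Subgroup G) : Set G), g * x * g⁻¹ ≠ x⁻¹) : ¬ Cfsg.Involves (Equiv.Perm (Fin 3)) G ∧ Cfsg.IsCompositionKGroupWith Cfsg.IsSuzukiOrPSL2OddPowerThree G := by
  haveI : Fact (Nat.Prime 3) := ⟨Nat.prime_three⟩
  have h3 : ¬ Cfsg.Involves (Equiv.Perm (Fin 3)) G := by
    intro hi
    obtain ⟨a, b, -, hb, hab⟩ := Cfsg.Lib.GoldschmidtSFour.inverted_of_involves hi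
    set N := Subgroup.normalizer (Cfsg.centerThompsonAOf (T : Subgroup G) : Set G)
    have hI : Cfsg.Lib.InvSylow.Inv 3 N := Cfsg.Lib.InvSylow.main (by norm_num) T
      ⟨b, trivial, a, trivial, fun e => by rw [e, orderOf_one] at hb; omega,
        ⟨1, by rw [pow_one, ← hb, pow_orderOf_eq_one]⟩, hab⟩
    obtain ⟨x, hx, g, hg, hx1, ⟨k, hk⟩, hgx⟩ := hI
    have hTN : (T : Subgroup G) ≤ N :=
      Subgroup.le_normalizer.trans (Cfsg.Lib.InvSylow.normalizer_le_normalizer_centerThompsonAOf _)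
    have hxp : IsPGroup 3 (Subgroup.zpowers (⟨x, hx⟩ : N)) := by
      obtain ⟨i, -, hi⟩ := (Nat.dvd_prime_pow Nat.prime_three).1
        (orderOf_dvd_of_pow_eq_one (show (⟨x, hx⟩ : N) ^ 3 ^ k = 1 from Subtype.ext hk))
      exact IsPGroup.of_card (n := i) (by rw [Nat.card_zpowers, hi])
    obtain ⟨P, hP⟩ := hxp.exists_le_sylow
    obtain ⟨c, hc⟩ := MulAction.exists_smul_eq N P (T.subtype hTN)
    have h1 : c * ⟨x, hx⟩ * c⁻¹ ∈ ((T.subtype hTN : Sylow 3 N) : Subgroup N) := by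
      rw [← hc]
      exact Cfsg.Lib.Transfer.mem_conj_sylow_iff.2 (hP (Subgroup.mem_zpowers _))
    rw [Sylow.coe_subtype, Subgroup.mem_subgroupOf, Subgroup.coe_mul, Subgroup.coe_mul, Subgroup.coe_inv] at h1
    refine h _ h1 (fun e => hx1 (conj_eq_one_iff.1 e)) ((c : G) * g * (c : G)⁻¹)
      (mul_mem (mul_mem c.2 hg) (inv_mem c.2)) ?_
    rw [show (c : G) * g * (c : G)⁻¹ * ((c : G) * x * (c : G)⁻¹) * ((c : G) * g * (c : G)⁻¹)⁻¹ =
      (c : G) * (g * x * g⁻¹) * (c : G)⁻¹ by group, hgx, conj_inv]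
  exact ⟨h3, Cfsg.Lib.GoldConsumers.comp_of_sthree_free h3⟩

end Cfsg.Agent.S2757
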