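import Cfsg.Statements.S2760
import Cfsg.Agent.Components.CharP
import Cfsg.Agent.Transfer.Basic

set_option autoImplicit false
open Cfsg

namespace Cfsg.Agent.S2760

/-- Let G be a finite group with C_G(O₂(G)) ≤ O₂(G) and H a subgroup of G such that H is normal in G, or the subgroup O²(H) generated by the elements of H of odd order is normal in G. Then C_H(O₂(H)) ≤ O₂(H). -/
theorem result {G : Type*} [Group G] [Finite G] (hchar : Subgroup.centralizer (Cfsg.pCore 2 G : Set G) ≤ Cfsg.pCore 2 G) (H : Subgroup G) (hH : H.Normal ∨ ((Cfsg.pResidual 2 ↥H).map H.subtype).Normal) : Subgroup.centralizer (Cfsg.pCore 2 ↥H : Set ↥H) ≤ Cfsg.pCore 2 ↥H := by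
  open Subgroup Cfsg.Lib.Components in
  exact by
    haveI : Fact (Nat.Prime 2) := ⟨Nat.prime_two⟩
    rcases hH with h | h
    · exact charP_subnormal hchar h.isSubnormal
    · have hle : (pResidual 2 ↥H).map H.subtype ≤ H := map_subtype_le _
      have h1 : CharPGroup 2 ↥((pResidual 2 ↥H).map H.subtype) := charP_subnormal hchar h.isSubnormal
      have h2 : CharPGroup 2 ↥(pResidual 2 ↥H) :=
        charP_congr (equivMapOfInjective _ H.subtype H.subtype_injective).symm h1
      have hR : (pResidual 2 ↥H).Normal := inferInstance
      refine charP_of_subnormal hR.isSubnormal h2 ?_ ?_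
      · intro x hx
        exact Subgroup.subset_closure ((coprime_card_pPrimeCore 2).coprime_dvd_left
          (Subgroup.orderOf_dvd_natCard _ hx))
      · intro L hL
        exact perfect_le_of_pPrime_elements (comp_perfect hL) (le_top.trans (normalizer_eq_top _).ge)
          fun x _ hxo => Subgroup.subset_closure hxo

end Cfsg.Agent.S2760
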