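import Cfsg.Statements.S2766
import Cfsg.Agent.Components.BGNP.Qd

set_option autoImplicit false
open Cfsg

namespace Cfsg.Agent.S2766

/-- Let p ≥ 5 be prime and G a maximal p-local subgroup of a finite group H (G is the normalizer of a nontrivial p-subgroup and lies in no other such normalizer). Suppose C_G(O_p(G)) ≤ O_p(G), G/K ≅ PSL₂(p^n) for some normal K and n ≥ 1, a Sylow p-subgroup S of G lies in exactly one maximal subgroup of G, and N_H(S) is not contained in G. Then G = G₀ × E for subgroups G₀ ≅ Qd(p^n) (the natural semidirect product of the plane over the field with p^n elements by SL₂) and E an elementary abelian p-group. -/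
theorem result {H : Type*} [Group H] [Finite H] {p : ℕ} [Fact p.Prime] (hp : 5 ≤ p) (G : Subgroup H) (hloc : ∃ R : Subgroup H, IsPGroup p ↥R ∧ R ≠ ⊥ ∧ G = Subgroup.normalizer (R : Set H)) (hmax : ∀ R : Subgroup H, IsPGroup p ↥R → R ≠ ⊥ → G ≤ Subgroup.normalizer (R : Set H) → Subgroup.normalizer (R : Set H) = G) (S : Sylow p ↥G) (hE₁ : Subgroup.centralizer (Cfsg.pCore p ↥G : Set ↥G) ≤ Cfsg.pCore p ↥G) (hE₂ : ∃! M : Subgroup ↥G, IsCoatom M ∧ (S : Subgroup ↥G) ≤ M) (K : Subgroup ↥G) [K.Normal] (F : Type) [Field F] [Fintype F] (n : ℕ) (hn : 1 ≤ n) (hF : Fintype.card F = p ^ n) (hE₃ : Nonempty (↥G ⧸ K ≃* Matrix.ProjectiveSpecialLinearGroup (Fin 2) F)) (hN : ¬ Subgroup.normalizer (((S : Subgroup ↥G).map G.subtype : Subgroup H) : Set H) ≤ G) : ∃ G₀ E : Subgroup H, Cfsg.IsInternalDirectProduct G₀ E G ∧ Cfsg.IsElementaryAbelian p E ∧ Nonempty (↥G₀ ≃* ↥(Cfsg.qdOver F)) := by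
  have hd : ∀ T : Subgroup ↥(S : Subgroup ↥G), T ≠ ⊥ → T.Characteristic →
      ¬ (T.map (S : Subgroup ↥G).subtype).Normal := by
    intro T hT hch hnor
    haveI := hnor
    set T₁ := T.map (S : Subgroup ↥G).subtype
    set TH := T₁.map G.subtype
    have hle : G ≤ Subgroup.normalizer (TH : Set H) := by
      have h := Subgroup.le_normalizer_map (H := T₁) G.subtype
      rw [Subgroup.normalizer_eq_top T₁, ← MonoidHom.range_eq_map, Subgroup.range_subtype] at h
      exact h
    have hne : TH ≠ ⊥ := fun h => hT ((Subgroup.map_eq_bot_iff_of_injective _ (S : Subgroup ↥G).subtype_injective).1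
      ((Subgroup.map_eq_bot_iff_of_injective _ G.subtype_injective).1 h))
    have hp' : IsPGroup p ↥TH := ((S.2.to_subgroup T).map _).map _
    refine hN fun x hx => (hmax TH hp' hne hle).le ?_
    set SH := (S : Subgroup ↥G).map G.subtype
    have hTS : TH = T.map (G.subtype.comp (S : Subgroup ↥G).subtype) := by
      simp only [TH, T₁, Subgroup.map_map]
    let ι' := G.subtype.comp (S : Subgroup ↥G).subtype
    have hinj : Function.Injective ι' := G.subtype_injective.comp (S : Subgroup ↥G).subtype_injective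
    have hmem : ∀ y : ↥(S : Subgroup ↥G), x * ι' y * x⁻¹ ∈ SH := fun y =>
      (Subgroup.mem_normalizer_iff.1 hx _).1 ⟨(y : ↥G), y.2, rfl⟩
    choose f hf hfe using hmem
    let φ : ↥(S : Subgroup ↥G) →* ↥(S : Subgroup ↥G) := MonoidHom.mk' (fun y => ⟨f y, hf y⟩) fun a b => hinj (by
      rw [map_mul]
      show ((f (a * b) : ↥G) : H) = (f a : H) * (f b : H)
      rw [show (f (a * b) : H) = _ from hfe (a * b), show (f a : H) = _ from hfe a, show (f b : H) = _ from hfe b,
        map_mul]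
      group)
    have hφ : ∀ y, ι' (φ y) = x * ι' y * x⁻¹ := fun y => hfe y
    have hφinj : Function.Injective φ := fun a b h => hinj (by
      have h1 := congrArg ι' h
      rw [hφ, hφ] at h1
      exact mul_left_cancel (mul_right_cancel h1))
    let e := MulEquiv.ofBijective φ ⟨hφinj, Finite.surjective_of_injective hφinj⟩
    have hfix : T.map e.toMonoidHom = T := Subgroup.characteristic_iff_map_eq.1 hch e
    have himage : ∀ y ∈ TH, x * y * x⁻¹ ∈ TH := by
      rw [hTS]
      rintro _ ⟨y, hy, rfl⟩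
      exact ⟨φ y, hfix.le (Subgroup.mem_map_of_mem _ hy), hφ y⟩
    refine Subgroup.mem_normalizer_iff.2 fun y => ⟨himage y, fun hy => ?_⟩
    rw [hTS] at hy ⊢
    obtain ⟨z, hz, hze⟩ := hy
    obtain ⟨w, hw, rfl⟩ := hfix.ge hz
    refine ⟨w, hw, ?_⟩
    have h2 : x * ι' w * x⁻¹ = x * y * x⁻¹ := (hφ w).symm.trans hze
    exact mul_left_cancel (mul_right_cancel h2)
  obtain ⟨d, rfl, hT'⟩ := Cfsg.Lib.BGN.P.exists_sit S hE₁ hE₂ K n hn hF hE₃ hd
  exact Cfsg.Lib.BGN.P.exists_qd hp G hmax d hT' hN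

end Cfsg.Agent.S2766
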