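import Cfsg.Statements.S2772
import Cfsg.Agent.LocalEven.Goldschmidt.Setup
-- import your own Cfsg.Agent.* helpers here

set_option autoImplicit false
open Cfsg

namespace Cfsg.Agent.S2772

/-- Sims' Theorem in local form: let H be a finite non-abelian simple group and G a maximal subgroup of H with C_G(O₂(G)) ≤ O₂(G), such that N_H(S) is not contained in G for a Sylow 2-subgroup S of G and G/O₂(G) is dihedral of order 2q for a prime q. Then G is isomorphic to the symmetric group of degree 4 or to its direct product with a group of order 2. -/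
theorem result {H : Type*} [Group H] [Finite H] [IsSimpleGroup H] (hna : ¬ IsMulCommutative H) (G : Subgroup H) (hG : IsCoatom G) (hchar : Subgroup.centralizer (Cfsg.pCore 2 ↥G : Set ↥G) ≤ Cfsg.pCore 2 ↥G) (S : Sylow 2 ↥G) (hN : ¬ Subgroup.normalizer (((S : Subgroup ↥G).map G.subtype : Subgroup H) : Set H) ≤ G) (q : ℕ) (hq : q.Prime) (hD : Nonempty (↥G ⧸ Cfsg.pCore 2 ↥G ≃* DihedralGroup q)) : Nonempty (↥G ≃* Equiv.Perm (Fin 4)) ∨ Nonempty (↥G ≃* Equiv.Perm (Fin 4) × Multiplicative (ZMod 2)) := by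
  classical
  haveI : Fact (Nat.Prime 2) := ⟨Nat.prime_two⟩
  obtain ⟨eD⟩ := hD
  have hcard : Nat.card (↥G ⧸ Cfsg.pCore 2 ↥G) = 2 * q := by
    rw [Nat.card_congr eD.toEquiv, DihedralGroup.nat_card]
  have hq2 : q ≠ 2 := by
    intro e
    subst e
    have htop : IsPGroup 2 ↥G := by
      obtain ⟨a, ha⟩ := IsPGroup.iff_card.mp (Cfsg.Lib.Components.isPGroup_pCore (G := ↥G) 2)
      refine IsPGroup.of_card (n := a + 2) ?_
      rw [Subgroup.card_eq_card_quotient_mul_card_subgroup (Cfsg.pCore 2 ↥G), hcard, ha, pow_add]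
      ring
    have : Cfsg.pCore 2 ↥G = ⊤ :=
      top_le_iff.mp (le_sSup ⟨inferInstance, htop.to_subgroup ⊤⟩)
    rw [← Subgroup.index_eq_card, this, Subgroup.index_top] at hcard
    omega
  set T : Subgroup H := (S : Subgroup ↥G).map G.subtype with hTdef
  obtain ⟨g, hgT, hgG⟩ := Set.not_subset.mp hN
  have hTfix : Cfsg.Lib.Goldschmidt.cs g T = T := by
    ext x
    rw [Cfsg.Lib.Goldschmidt.mem_cs]
    exact (Subgroup.mem_normalizer_iff''.mp hgT x).symm
  have hTG : T ≤ G := Subgroup.map_subtype_le _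
  set G' : Subgroup H := Cfsg.Lib.Goldschmidt.cs g G with hG'
  have hTG' : T ≤ G' := hTfix ▸ Subgroup.map_mono hTG
  have hchar' : G ⊓ Subgroup.centralizer (Cfsg.pCoreOf 2 G : Set H) ≤ Cfsg.pCoreOf 2 G := by
    rintro x ⟨hx, hxc⟩
    exact ⟨⟨x, hx⟩, hchar (Subgroup.mem_centralizer_iff.mpr fun p hp => Subtype.ext
      (Subgroup.mem_centralizer_iff.mp hxc _ ⟨p, hp, rfl⟩)), rfl⟩
  have hS : (S : Subgroup ↥G) = T.subgroupOf G := by
    rw [hTdef, Subgroup.subgroupOf, Subgroup.comap_map_eq_self_of_injective (Subgroup.subtype_injective G)]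
  have hGcard : Nat.card G = Nat.card G' :=
    Nat.card_congr (G.equivMapOfInjective _ (MulAut.conj g).injective).toEquiv
  have hTne : T ≠ ⊥ := by
    intro e
    have h1 := S.card_eq_multiplicity
    have h2 : Nat.card (S : Subgroup ↥G) = 1 := by
      rw [hS, e, Subgroup.bot_subgroupOf, Subgroup.card_bot]
    have h3 : 2 ∣ Nat.card ↥G := (dvd_mul_right 2 q).trans (hcard ▸ Subgroup.card_quotient_dvd_card _)
    have h4 := (Nat.Prime.factorization_pos_of_dvd Nat.prime_two Nat.card_pos.ne' h3).ne'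
    rw [h2] at h1
    rcases Nat.pow_eq_one.mp h1.symm with h5 | h5
    · omega
    · exact h4 h5
  have hGne : G ≠ ⊤ := hG.1
  have hGbot : G ≠ ⊥ := fun e => hTne (eq_bot_iff.mpr (e ▸ hTG))
  have hnle : ¬ G ≤ G' := by
    intro hle
    have e : G' = G := (Subgroup.eq_of_le_of_card_ge hle hGcard.ge).symm
    have hgn : g ∈ Subgroup.normalizer (G : Set H) := by
      rw [Subgroup.mem_normalizer_iff'']
      intro x
      rw [← Cfsg.Lib.Goldschmidt.mem_cs, ← hG', e]
    have hlt : G < Subgroup.normalizer (G : Set H) :=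
      lt_of_le_of_ne Subgroup.le_normalizer fun e' => hgG (e' ▸ hgn)
    have hnorm : G.Normal := Subgroup.normalizer_eq_top_iff.mp (hG.2 _ hlt)
    exact hnorm.eq_bot_or_eq_top.elim hGbot hGne
  have hnc : ¬ G ≤ Subgroup.centralizer (Cfsg.Lib.Goldschmidt.omegaZ T : Set H) := by
    intro hle
    have hle' : G' ≤ Subgroup.centralizer (Cfsg.Lib.Goldschmidt.omegaZ T : Set H) := by
      intro x hx
      rw [hG', Cfsg.Lib.Goldschmidt.mem_cs] at hx
      refine Subgroup.mem_centralizer_iff.mpr fun z hz => ?_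
      rw [SetLike.mem_coe, ← hTfix, Cfsg.Lib.Goldschmidt.omegaZ_cs, Cfsg.Lib.Goldschmidt.mem_cs] at hz
      have h1 := Subgroup.mem_centralizer_iff.mp (hle hx) _ hz
      calc z * x = g * (g⁻¹ * z * g * (g⁻¹ * x * g)) * g⁻¹ := by simp [mul_assoc]
        _ = g * (g⁻¹ * x * g * (g⁻¹ * z * g)) * g⁻¹ := by rw [h1]
        _ = x * z := by simp [mul_assoc]
    have hlt : G < G ⊔ G' := lt_of_le_of_ne le_sup_left fun e => hnle
      (Subgroup.eq_of_le_of_card_ge (H := G') (K := G) (le_sup_right.trans e.symm.le) hGcard.le).symm.le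
    have htop : Subgroup.centralizer (Cfsg.Lib.Goldschmidt.omegaZ T : Set H) = ⊤ :=
      top_le_iff.mp ((hG.2 _ hlt).symm.le.trans (sup_le hle hle'))
    have hcen : Subgroup.center H = ⊥ := by
      refine ((inferInstance : (Subgroup.center H).Normal).eq_bot_or_eq_top).resolve_right fun e => hna ?_
      exact ⟨⟨fun a c => (Subgroup.mem_center_iff.mp (e ▸ Subgroup.mem_top c)) a⟩⟩
    haveI : Nontrivial ↥T := (Subgroup.nontrivial_iff_ne_bot T).mpr hTne
    have hTp : IsPGroup 2 ↥T := S.isPGroup'.map _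
    have := hTp.center_nontrivial
    obtain ⟨n, hn⟩ := (hTp.to_subgroup (Subgroup.center ↥T)).exists_card_eq
    have hk' : 2 ∣ Nat.card ↥(Subgroup.center ↥T) := by
      rcases Nat.eq_zero_or_pos n with rfl | hn0
      · haveI := this
        exact absurd hn (Finite.one_lt_card.ne')
      · rw [hn]; exact dvd_pow_self 2 hn0.ne'
    obtain ⟨z, hz⟩ := exists_prime_orderOf_dvd_card' 2 hk'
    have hzZ : ((z : ↥T) : H) ∈ Cfsg.Lib.Goldschmidt.omegaZ T := by
      refine Cfsg.Lib.Goldschmidt.mem_omegaZ.mpr ⟨(z : ↥T).2, ?_, fun s hs => ?_⟩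
      · have := pow_orderOf_eq_one z
        rw [hz] at this
        exact congrArg (fun p : ↥(Subgroup.center ↥T) => ((p : ↥T) : H)) this
      · exact congrArg Subtype.val ((Subgroup.mem_center_iff.mp z.2 ⟨s, hs⟩).symm)
    have hz1 : ((z : ↥T) : H) ∈ Subgroup.center H := Subgroup.mem_center_iff.mpr fun y =>
      (Subgroup.mem_centralizer_iff.mp (htop.symm ▸ Subgroup.mem_top y) _ hzZ).symm
    rw [hcen, Subgroup.mem_bot] at hz1
    rw [show z = 1 from Subtype.ext (Subtype.ext hz1), orderOf_one] at hz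
    omega
  obtain ⟨s1, r1⟩ := Cfsg.Lib.Goldschmidt.side_of_sylow hTG S hS hq hq2 hcard hchar' hnc
  have hinf : G ⊓ G' = T := by
    have hp := Subgroup.relIndex_mul_relIndex _ _ _ (le_inf hTG hTG') (inf_le_left : G ⊓ G' ≤ G)
    have hpr : (T.relIndex (G ⊓ G') * (G ⊓ G').relIndex G).Prime := by rw [hp, r1]; exact hq
    rw [Nat.prime_mul_iff] at hpr
    rcases hpr with ⟨-, h'⟩ | ⟨-, h'⟩
    · exact absurd ((Subgroup.relIndex_eq_one.mp h').trans inf_le_right) hnle
    · exact le_antisymm (Subgroup.relIndex_eq_one.mp h') (le_inf hTG hTG')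
  have s2 : Cfsg.Lib.Goldschmidt.Side T G' := by
    have := s1.map g
    rwa [hTfix] at this
  have r2 : T.relIndex G' = q := by
    have := Subgroup.relIndex_map_map_of_injective T G (f := (MulAut.conj g).toMonoidHom) (MulAut.conj g).injective
    rw [← r1, ← this]
    exact congrArg (fun K : Subgroup H => K.relIndex G') hTfix.symm
  have hsup : G ⊔ G' = ⊤ := hG.2 _ (lt_of_le_of_ne le_sup_left fun e => hnle
    (Subgroup.eq_of_le_of_card_ge (H := G') (K := G) (le_sup_right.trans e.symm.le) hGcard.le).symm.le)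
  have hyp : Cfsg.Lib.Goldschmidt.Hyp G G' := by
    refine ⟨hsup, hinf.symm ▸ s1, hinf.symm ▸ s2, fun N hN hle => ?_⟩
    exact hN.eq_bot_or_eq_top.resolve_right fun e => hGne (top_le_iff.mp (e ▸ hle.trans inf_le_left))
  obtain rfl : q = 3 := hyp.index_eq_three (hinf.symm ▸ r1) (hinf.symm ▸ r2)
  rcases hyp.classify (Cfsg.Lib.Goldschmidt.cubic_of_three (hinf.symm ▸ r1) (hinf.symm ▸ r2)) with
    ⟨h', -⟩ | ⟨⟨e⟩, -⟩
  · exact Or.inl h'
  · exact Or.inr ⟨e.trans MulEquiv.prodComm⟩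

end Cfsg.Agent.S2772
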