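import Cfsg.Statements.S2781
import Cfsg.Agent.Components.Misc.Kieler
import Cfsg.Agent.Components.Misc.PIrr

set_option autoImplicit false
open Cfsg

namespace Cfsg.Agent.S2781

/-- Let H act faithfully by conjugation on the elementary abelian p-subgroup V of a finite group, let O^p(H) be the subgroup of H generated by its elements of order prime to p, and T a Sylow p-subgroup of O^p(H). If V is generated by the H-conjugates of C_V(T) (V is the smallest H-invariant subgroup containing C_V(T)), then V = [V, O^p(H)]·C_V(O^p(H)). -/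
theorem result {G : Type*} [Group G] [Finite G] {p : ℕ} [Fact p.Prime] (V H : Subgroup G) (hV : Cfsg.IsElementaryAbelian p V) (hHV : H ≤ Subgroup.normalizer (V : Set G)) (hf : H ⊓ Subgroup.centralizer (V : Set G) = ⊥) (R : Subgroup G) (hR : R = (Cfsg.pResidual p ↥H).map H.subtype) (S : Sylow p ↥R) (T : Subgroup G) (hT : T = ((S : Subgroup ↥R).map R.subtype)) (hgen : ∀ W : Subgroup G, H ≤ Subgroup.normalizer (W : Set G) → (V ⊓ Subgroup.centralizer ((T : Subgroup G) : Set G)) ≤ W → V ≤ W) : ⁅V, R⁆ ⊔ (V ⊓ Subgroup.centralizer ((R : Subgroup G) : Set G)) = V := by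
  open Subgroup Cfsg.Lib.Kieler in
  open scoped commutatorElement in
  exact by
    set M := Subgroup.normalizer (V : Set G)
    have hRH : R ≤ H := hR ▸ map_subtype_le _
    have hRM : R ≤ M := hRH.trans hHV
    have hTR : T ≤ R := hT ▸ map_subtype_le _
    have hidx : ¬ p ∣ T.relIndex R := by
      have h : T.subgroupOf R = (S : Subgroup R) := by
        rw [hT]; exact comap_map_eq_self_of_injective R.subtype_injective _
      show ¬ p ∣ (T.subgroupOf R).index
      rw [h]; exact S.not_dvd_index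
    haveI : (V.subgroupOf M).Normal := normal_subgroupOf_of_le_normalizer le_rfl
    have hVc : ∀ a ∈ V, ∀ b ∈ V, a * b = b * a := fun a ha b hb =>
      congrArg Subtype.val (hV.1.is_comm.comm ⟨a, ha⟩ ⟨b, hb⟩)
    obtain ⟨tr, htA, -, -, htD, htmod, -⟩ := exists_trace (V.subgroupOf M)
      (fun a ha b hb => Subtype.ext (hVc a ha b hb)) (fun a ha => Subtype.ext (hV.2 a ha))
      (T.subgroupOf M) (R.subgroupOf M) (by rwa [relIndex_subgroupOf hRM])
    have hRn : ∀ h ∈ H, R.map (MulAut.conj h).toMonoidHom ≤ R := by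
      intro h hh x hx
      obtain ⟨y, hy, rfl⟩ := hx
      rw [hR] at hy ⊢
      obtain ⟨z, hz, rfl⟩ := hy
      exact ⟨(⟨h, hh⟩ : H) * z * (⟨h, hh⟩ : H)⁻¹, (inferInstance : (Cfsg.pResidual p H).Normal).conj_mem z hz _, rfl⟩
    have hVR : ⁅V, R⁆ ≤ V := by
      refine commutator_le.2 fun v hv r hr => ?_
      rw [show ⁅v, r⁆ = v * (r * v⁻¹ * r⁻¹) by rw [commutatorElement_def]; group]
      exact mul_mem hv ((mem_normalizer_iff.1 (hRM hr) _).1 (inv_mem hv))
    refine le_antisymm (sup_le hVR inf_le_left) (hgen _ ?_ ?_)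
    · intro h hh
      refine mem_normalizer_iff_map_conj_eq.2 (eq_of_le_of_card_ge ?_ (card_map_of_injective (MulEquiv.injective _)).ge)
      have hVh : V.map (MulAut.conj h).toMonoidHom ≤ V := (mem_normalizer_iff_map_conj_eq.1 (hHV hh)).le
      rw [Subgroup.map_sup, Subgroup.map_commutator]
      refine sup_le_sup (commutator_mono hVh (hRn h hh)) ?_
      rintro _ ⟨x, hx, rfl⟩
      refine mem_inf.mpr ⟨hVh ⟨x, (mem_inf.1 hx).1, rfl⟩, mem_centralizer_iff.2 fun r hr => ?_⟩
      have h1 := mem_centralizer_iff.1 (mem_inf.1 hx).2 (h⁻¹ * r * h) (hRn h⁻¹ (inv_mem hh) ⟨r, hr, by simp⟩)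
      show r * (h * x * h⁻¹) = h * x * h⁻¹ * r
      calc r * (h * x * h⁻¹) = h * ((h⁻¹ * r * h) * x) * h⁻¹ := by group
        _ = h * x * h⁻¹ * r := by rw [h1]; group
    · intro v hv
      obtain ⟨hvV, hvc⟩ := mem_inf.1 hv
      let v' : M := ⟨v, le_normalizer hvV⟩
      have hv' : v' ∈ V.subgroupOf M := hvV
      have hfix : ∀ t ∈ T.subgroupOf M, t * v' * t⁻¹ = v' := fun t ht => Subtype.ext (by
        show (t : G) * v * (t : G)⁻¹ = v
        rw [(mem_centralizer_iff.1 hvc (t : G) ht : (t : G) * v = v * t), mul_inv_cancel_right])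
      have hn : tr v' * v'⁻¹ ∈ (⁅V, R⁆).subgroupOf M := by
        refine htmod v' hv' hfix _ (fun x hx => hVR hx) fun d hd => ?_
        show (d : G) * v * (d : G)⁻¹ * v⁻¹ ∈ ⁅V, R⁆
        rw [commutator_comm]
        exact commutator_mem_commutator hd hvV
      have hs : (tr v' : G) ∈ V ⊓ Subgroup.centralizer (R : Set G) := mem_inf.mpr ⟨htA v' hv',
        mem_centralizer_iff.2 fun r hr => mul_inv_eq_iff_eq_mul.1
          (congrArg Subtype.val (htD v' hv' hfix ⟨r, hRM hr⟩ hr) :)⟩
      have h : v = ((tr v' : G) * v⁻¹)⁻¹ * tr v' := by group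
      rw [h]
      exact mul_mem (mem_sup_left (inv_mem hn)) (mem_sup_right hs)

end Cfsg.Agent.S2781
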