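import Cfsg.Statements.S2788
import Cfsg.Agent.Components.Module.IndexBound
-- import your own Cfsg.Agent.* helpers here

set_option autoImplicit false
open Cfsg

namespace Cfsg.Agent.S2788

/-- Let H act faithfully by conjugation on the elementary abelian p-subgroup V of a finite group with H ≅ SL₂(F), F a field with p^n elements, S a Sylow p-subgroup of H, and A ≤ S a subgroup of order at least 3 acting quadratically on V ([V, A, A] = 1). Then |V/C_V(a)| ≥ p^n for every nonidentity a ∈ A. -/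
theorem result {G : Type*} [Group G] [Finite G] {p : ℕ} [Fact p.Prime] (V H : Subgroup G) (hV : Cfsg.IsElementaryAbelian p V) (hHV : H ≤ Subgroup.normalizer (V : Set G)) (hf : H ⊓ Subgroup.centralizer (V : Set G) = ⊥) {F : Type*} [Field F] [Fintype F] (n : ℕ) (hF : Fintype.card F = p ^ n) (hiso : Nonempty (↥H ≃* Matrix.SpecialLinearGroup (Fin 2) F)) (S : Sylow p ↥H) (T : Subgroup G) (hT : T = ((S : Subgroup ↥H).map H.subtype)) (A : Subgroup G) (hA : A ≤ T) (hA3 : 3 ≤ Nat.card A) (hquad : ⁅⁅V, A⁆, A⁆ = ⊥) : ∀ a ∈ A, a ≠ 1 → p ^ n ≤ ((V ⊓ Subgroup.centralizer ({a} : Set G))).relIndex V := by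
  classical
  obtain ⟨e⟩ := hiso
  have hp' : p.Prime := Fact.out
  intro a ha ha1
  subst hT
  obtain ⟨a', haS, rfl⟩ := hA ha
  have ha1' : a' ≠ 1 := fun h' => ha1 (by rw [h']; rfl)
  obtain ⟨i, hi⟩ := IsPGroup.iff_orderOf.1 S.2 ⟨a', haS⟩
  rw [Subgroup.orderOf_mk] at hi
  rcases Nat.lt_or_ge n 2 with hn | hn
  · have hpV : IsPGroup p V := fun v => ⟨1, by
      rw [pow_one]
      exact Subtype.ext (hV.2 v v.2)⟩
    set C := V ⊓ Subgroup.centralizer ({H.subtype a'} : Set G)
    obtain ⟨j, hj⟩ : ∃ j, C.relIndex V = p ^ j := by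
      obtain ⟨m, hm⟩ := hpV.exists_card_eq
      obtain ⟨j, -, hj⟩ := (Nat.dvd_prime_pow hp').1
        (hm ▸ (Subgroup.index_dvd_card (C.subgroupOf V)))
      exact ⟨j, hj⟩
    rw [hj]
    refine Nat.pow_le_pow_right hp'.pos ?_
    by_contra hlt
    have hj0 : C.relIndex V = 1 := by rw [hj, show j = 0 by omega, pow_zero]
    refine ha1 ((Subgroup.eq_bot_iff_forall _).1 hf _ (Subgroup.mem_inf.2 ⟨a'.2, ?_⟩))
    refine Subgroup.mem_centralizer_iff.2 fun v hv => ?_
    exact Subgroup.mem_centralizer_singleton_iff.1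
      (Subgroup.mem_inf.1 (Subgroup.relIndex_eq_one.1 hj0 hv)).2
  · let φ : ↥H →* Matrix.ProjectiveSpecialLinearGroup (Fin 2) F :=
      (QuotientGroup.mk' _).comp e.toMonoidHom
    refine (Cfsg.Lib.Components.IndexBound.psl_bound hF hn V H hV hHV hf φ
      ((QuotientGroup.mk'_surjective _).comp e.surjective) a' ⟨i, hi⟩ ?_).1
    intro h1
    have h2 : e a' ∈ Subgroup.center (Matrix.SpecialLinearGroup (Fin 2) F) :=
      (QuotientGroup.eq_one_iff (e a')).1 h1
    obtain ⟨z, hz, hze⟩ := Matrix.SpecialLinearGroup.mem_center_iff.1 h2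
    rw [Fintype.card_fin] at hz
    have h3 : (e a') ^ 2 = 1 := by
      apply Subtype.ext
      rw [Matrix.SpecialLinearGroup.coe_pow, ← hze, Matrix.SpecialLinearGroup.coe_one]
      simp [pow_two, ← pow_two z, hz]
    have h4 : orderOf a' ∣ 2 := by
      refine orderOf_dvd_of_pow_eq_one (e.injective ?_)
      rw [map_pow, h3, map_one]
    rw [hi] at h4
    rcases i.eq_zero_or_pos with rfl | hi0
    · exact ha1' (orderOf_eq_one_iff.1 (by rw [hi, pow_zero]))
    · have hp2 : p = 2 := (Nat.prime_dvd_prime_iff_eq hp' Nat.prime_two).1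
        ((dvd_pow_self p hi0.ne').trans h4)
      subst hp2
      haveI : CharP F 2 := by
        obtain ⟨c, hc⟩ := CharP.exists F
        obtain ⟨k, hc', hck⟩ := FiniteField.card F c
        have : 2 = c := (Nat.prime_dvd_prime_iff_eq Nat.prime_two hc').1
          (Nat.prime_two.dvd_of_dvd_pow (by rw [← hck, hF]; exact dvd_pow_self 2 (by omega)))
        exact this ▸ hc
      have hz1 : z = 1 := by
        have h5 : (z - 1) ^ 2 = 0 := by
          linear_combination hz + (1 - z) * (CharTwo.two_eq_zero : (2 : F) = 0)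
        exact sub_eq_zero.1 (pow_eq_zero_iff two_ne_zero |>.1 h5)
      refine ha1' (e.injective ?_)
      rw [map_one]
      apply Subtype.ext
      rw [← hze, hz1, Matrix.SpecialLinearGroup.coe_one]
      simp

end Cfsg.Agent.S2788
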