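import Cfsg.Agent.SolvStruct.AlperinClassical
import Cfsg.Agent.Transfer.FittingPower
import Cfsg.Prelude.Def_LocalEven

open Cfsg

namespace Cfsg.Agent.S2791

open Subgroup Cfsg.Lib.SolvStruct.Alperin

variable {G : Type*} [Group G] [Finite G] {p : ℕ} [hp : Fact p.Prime]

/-- The elements of `N(D)` stabilising the series `D ≥ B ≥ 1`. -/
def stab (D B : Subgroup G) : Subgroup G where
  carrier := {n | n ∈ normalizer (D : Set G) ∧ (∀ d ∈ D, n * d * n⁻¹ * d⁻¹ ∈ B) ∧
    ∀ b ∈ B, n * b = b * n}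
  one_mem' := ⟨one_mem _, fun d _ => by simp [one_mem], fun b _ => by simp⟩
  mul_mem' := by
    rintro m n ⟨hm, hm1, hm2⟩ ⟨hn, hn1, hn2⟩
    refine ⟨mul_mem hm hn, fun d hd => ?_, fun b hb => ?_⟩
    · have h1 : m * (n * d * n⁻¹ * d⁻¹) * m⁻¹ = n * d * n⁻¹ * d⁻¹ := by
        rw [hm2 _ (hn1 d hd), mul_inv_cancel_right]
      have h2 := mul_mem (hn1 d hd) (hm1 d hd)
      rw [← h1] at h2
      simpa [mul_assoc] using h2
    · rw [mul_assoc, hn2 b hb, ← mul_assoc, hm2 b hb, mul_assoc]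
  inv_mem' := by
    rintro n ⟨hn, hn1, hn2⟩
    refine ⟨inv_mem hn, fun d hd => ?_, fun b hb => ?_⟩
    · have h1 := inv_mem (hn1 _ ((mem_normalizer_iff.1 (inv_mem hn) d).1 hd))
      simpa [mul_assoc] using h1
    · have h1 := congrArg (fun u => n⁻¹ * u * n⁻¹) (hn2 b hb)
      simpa [mul_assoc] using h1.symm

/-- Agreement with an element of `N(A)` on a set. -/
def Good (A : Subgroup G) (Y : Set G) (g : G) : Prop :=
  ∃ x ∈ normalizer (A : Set G), ∀ d ∈ Y, x * d * x⁻¹ = g * d * g⁻¹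

theorem good_chain (A : Subgroup G) (P : Sylow p G) (m : ℕ)
    (H : ∀ (Q : Sylow p G) (x : G), Tame P Q → x ∈ NI P Q →
      m ≤ Nat.card ↥((P : Subgroup G) ⊓ (Q : Subgroup G)) →
      Good A (((P : Subgroup G) ⊓ (Q : Subgroup G) : Subgroup G) : Set G) x) :
    ∀ (Y : Set G) (g : G), Chain P Y g → m ≤ Nat.card Y → Good A Y g⁻¹ := by
  intro Y g h
  induction h with
  | one Y _ => exact fun _ => ⟨1, one_mem _, by simp⟩
  | cons Y Q x g hY hQ hx _ ih =>
    intro hm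
    obtain ⟨z, hz, hzY⟩ := ih (by
      rwa [cj, Nat.card_image_of_injective (fun a b h => mul_left_cancel (mul_right_cancel h))])
    obtain ⟨w, hw, hwY⟩ := H Q x⁻¹ hQ (inv_mem hx) (hm.trans (Nat.card_mono (Set.toFinite _) hY))
    refine ⟨z * w, mul_mem hz hw, fun d hd => ?_⟩
    have h1 := hwY d (hY hd)
    rw [inv_inv] at h1
    have h2 : z * (x⁻¹ * d * x) * z⁻¹ = g⁻¹ * (x⁻¹ * d * x) * g⁻¹⁻¹ := hzY _ ⟨d, hd, rfl⟩
    calc z * w * d * (z * w)⁻¹ = z * (w * d * w⁻¹) * z⁻¹ := by group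
      _ = g⁻¹ * (x⁻¹ * d * x) * g⁻¹⁻¹ := by rw [h1, h2]
      _ = (x * g)⁻¹ * d * (x * g)⁻¹⁻¹ := by group

theorem good_tame (A : Subgroup G) (P : Sylow p G) (hAP : A ≤ (P : Subgroup G))
    (hab : ∀ a ∈ A, ∀ b ∈ A, a * b = b * a)
    (hsc : ∀ x ∈ A, ∀ g : G, g * x * g⁻¹ ∈ (P : Subgroup G) → g * x * g⁻¹ ∈ A) :
    ∀ (n : ℕ) (Q : Sylow p G) (x : G),
      Nat.card P - Nat.card ↥((P : Subgroup G) ⊓ (Q : Subgroup G)) = n → Tame P Q → x ∈ NI P Q →
      Good A (((P : Subgroup G) ⊓ (Q : Subgroup G) : Subgroup G) : Set G) x := by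
  intro n
  induction n using Nat.strong_induction_on with
  | _ n ih =>
  intro Q x hn hQ hx
  set D := (P : Subgroup G) ⊓ (Q : Subgroup G) with hD
  have hDP : D ≤ (P : Subgroup G) := inf_le_left
  set N := normalizer (D : Set G) with hN
  set B := A ⊓ D with hB
  have hAnorm : ∀ s ∈ (P : Subgroup G), ∀ a ∈ A, s * a * s⁻¹ ∈ A := fun s hs a ha =>
    hsc a ha s (mul_mem (mul_mem hs (hAP ha)) (inv_mem hs))
  have hBnorm : ∀ y ∈ N, ∀ b ∈ B, y * b * y⁻¹ ∈ B := fun y hy b hb =>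
    ⟨hsc b hb.1 y (hDP ((mem_normalizer_iff.1 hy b).1 hb.2)), (mem_normalizer_iff.1 hy b).1 hb.2⟩
  set L := stab D B with hL
  have hLN : L ≤ N := fun l hl => hl.1
  have hLnorm : ∀ y ∈ N, ∀ l ∈ L, y * l * y⁻¹ ∈ L := by
    intro y hy l hl
    refine ⟨mul_mem (mul_mem hy hl.1) (inv_mem hy), fun d hd => ?_, fun b hb => ?_⟩
    · have h1 := hBnorm y hy _ (hl.2.1 _ ((mem_normalizer_iff.1 (inv_mem hy) d).1 hd))
      simpa [mul_assoc] using h1
    · have h2 := hBnorm y⁻¹ (inv_mem hy) b hb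
      have h3 := congrArg (fun u => y * u * y⁻¹) (hl.2.2 _ h2)
      simpa [mul_assoc] using h3
  have hAL : ∀ a ∈ A, a ∈ N → a ∈ L := by
    intro a ha haN
    refine ⟨haN, fun d hd => ⟨?_, ?_⟩, fun b hb => hab a ha b hb.1⟩
    · have h1 := mul_mem ha (hAnorm d (hDP hd) _ (inv_mem ha))
      simpa [mul_assoc] using h1
    · exact D.mul_mem ((mem_normalizer_iff.1 haN d).1 hd) (D.inv_mem hd)
  have hPLidx : ¬ p ∣ (P : Subgroup G).relIndex L := by
    haveI : (L.subgroupOf N).Normal := ⟨fun l hl y => hLnorm y y.2 l hl⟩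
    intro hd
    refine hQ.1 ?_
    rw [inf_relIndex_right]
    rw [← relIndex_subgroupOf hLN, Cfsg.Lib.Transfer.relIndex_eq_relIndex_sup_of_normal] at hd
    exact hd.trans (relIndex_dvd_index_of_le le_sup_left)
  obtain ⟨k, hk⟩ := (IsPGroup.iff_card (p := p)).1 (P.2.to_le (inf_le_right.trans hDP : B ≤ _))
  have hpow : ∀ l ∈ L, l ^ p ^ k ∈ centralizer (D : Set G) := by
    intro l hl
    refine mem_centralizer_iff.2 fun d hd => ?_
    set c := l * d * l⁻¹ * d⁻¹ with hc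
    have hcl : Commute l c := hl.2.2 c (hl.2.1 d hd)
    have hcom : ∀ j : ℕ, l ^ j * d * (l ^ j)⁻¹ = c ^ j * d := by
      intro j
      induction j with
      | zero => simp
      | succ j hj =>
        calc l ^ (j + 1) * d * (l ^ (j + 1))⁻¹ = l * (l ^ j * d * (l ^ j)⁻¹) * l⁻¹ := by
              rw [pow_succ']; simp [mul_assoc]
          _ = l * c ^ j * (d * l⁻¹) := by rw [hj]; simp [mul_assoc]
          _ = c ^ j * (l * d * l⁻¹) := by rw [(hcl.pow_right j).eq]; simp [mul_assoc]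
          _ = c ^ (j + 1) * d := by rw [pow_succ, hc]; simp [mul_assoc]
    have hone : c ^ p ^ k = 1 := by
      rw [← hk]
      exact orderOf_dvd_iff_pow_eq_one.1 (orderOf_dvd_natCard _ (hl.2.1 d hd))
    have h := hcom (p ^ k)
    rw [hone, one_mul, mul_inv_eq_iff_eq_mul] at h
    exact h.symm
  have hdec : ∀ l ∈ L, ∃ c ∈ centralizer (D : Set G), ∃ s ∈ (P : Subgroup G) ⊓ L, l = c * s := by
    intro l hl
    set C' := (centralizer (D : Set G)).subgroupOf L with hC'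
    haveI : C'.Normal := ⟨fun c hc y => mem_subgroupOf.2 (mem_centralizer_iff.2 fun d hd => by
      have h1 := mem_centralizer_iff.1 (mem_subgroupOf.1 hc) _
        ((mem_normalizer_iff.1 (inv_mem (hLN y.2)) d).1 hd)
      have h2 := congrArg (fun u => (y : G) * u * (y : G)⁻¹) h1
      simpa [mul_assoc] using h2)⟩
    have hq : IsPGroup p (L ⧸ C') := fun q => QuotientGroup.induction_on q fun z => ⟨k, by
      rw [← QuotientGroup.mk_pow, QuotientGroup.eq_one_iff]
      exact mem_subgroupOf.2 (by simpa using hpow z z.2)⟩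
    obtain ⟨j, hj⟩ := IsPGroup.iff_card.1 hq
    have htop := Cfsg.Lib.Transfer.sup_sylow_eq_top (N := C') (k := j) hj
      ((P.2.comap_subtype (K := L)).toSylow hPLidx)
    have hmem : (⟨l, hl⟩ : L) ∈ ((C' ⊔ (P : Subgroup G).subgroupOf L : Subgroup L) : Set L) := by
      have : C' ⊔ (P : Subgroup G).subgroupOf L = ⊤ := htop
      rw [this]; trivial
    rw [normal_mul] at hmem
    obtain ⟨c, hc, s, hs, hcs⟩ := hmem
    exact ⟨c, mem_subgroupOf.1 hc, s, ⟨mem_subgroupOf.1 hs, s.2⟩, (congrArg Subtype.val hcs).symm⟩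
  have hPLn : ∀ s ∈ (P : Subgroup G) ⊓ L, s ∈ N := fun s hs => hLN hs.2
  -- Frattini
  obtain ⟨y, hy, hyc⟩ := exists_conj_le (inf_le_right : (P : Subgroup G) ⊓ L ≤ L)
    (P.2.to_le inf_le_left) (by rwa [inf_relIndex_right]) (L := ((P : Subgroup G) ⊓ L).map (MulAut.conj x).toMonoidHom)
    (by rintro _ ⟨s, hs, rfl⟩; exact hLnorm x hx s hs.2) ((P.2.to_le inf_le_left).map _)
  obtain ⟨c, hc, s, hs, rfl⟩ := hdec y hy
  have hkey : ∀ w ∈ (P : Subgroup G) ⊓ L, (c⁻¹ * x) * w * (c⁻¹ * x)⁻¹ ∈ (P : Subgroup G) ⊓ L := by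
    intro w hw
    have h1 : (c * s)⁻¹ * (x * w * x⁻¹) * (c * s) ∈ (P : Subgroup G) ⊓ L :=
      hyc ⟨_, ⟨w, hw, rfl⟩, rfl⟩
    have h2 := mul_mem (mul_mem hs h1) (inv_mem hs)
    simpa [mul_assoc] using h2
  have hcN : c ∈ N := centralizer_le_normalizer _ hc
  have hnD : ∀ d ∈ D, (c⁻¹ * x) * d * (c⁻¹ * x)⁻¹ = x * d * x⁻¹ := by
    intro d hd
    have h1 := mem_centralizer_iff.1 (inv_mem hc) _ ((mem_normalizer_iff.1 hx d).1 hd)
    calc (c⁻¹ * x) * d * (c⁻¹ * x)⁻¹ = c⁻¹ * (x * d * x⁻¹) * c := by simp [mul_assoc]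
      _ = x * d * x⁻¹ := by rw [← h1]; simp [mul_assoc]
  set D' := D ⊔ (P : Subgroup G) ⊓ L with hD'
  have hD'P : D' ≤ (P : Subgroup G) := sup_le hDP inf_le_left
  by_cases hsame : (P : Subgroup G) ⊓ L ≤ D
  · have hAD : A ≤ D := by
      by_contra hne
      set E := A ⊔ D
      have hEP : E ≤ (P : Subgroup G) := sup_le hAP hDP
      haveI : Group.IsNilpotent E := (P.2.to_le hEP).isNilpotent
      have hlt : D.subgroupOf E < ⊤ := by
        rw [lt_top_iff_ne_top, ne_eq, subgroupOf_eq_top]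
        exact fun h => hne (le_sup_left.trans h)
      obtain ⟨e, he, he'⟩ := SetLike.exists_of_lt (normalizerCondition_of_isNilpotent _ hlt)
      have hDA : D ≤ normalizer (A : Set G) := fun d hd => by
        refine mem_normalizer_iff.2 fun a => ⟨hAnorm d (hDP hd) a, fun h => ?_⟩
        have := hAnorm d⁻¹ (inv_mem (hDP hd)) _ h
        simpa [mul_assoc] using this
      have he2 : (e : G) ∈ ((A ⊔ D : Subgroup G) : Set G) := e.2
      rw [coe_mul_of_right_le_normalizer_left _ _ hDA] at he2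
      obtain ⟨a, ha, d, hd, had⟩ := he2
      have heN : (e : G) ∈ N := by
        refine mem_normalizer_iff.2 fun z => ⟨fun hz => ?_, fun hz => ?_⟩
        · exact mem_subgroupOf.1 ((mem_normalizer_iff.1 he ⟨z, (le_sup_right : D ≤ E) hz⟩).1 (mem_subgroupOf.2 hz))
        · have hzE : z ∈ E := by
            have := mul_mem (mul_mem (inv_mem e.2) ((le_sup_right : D ≤ E) hz)) e.2
            simpa [mul_assoc] using this
          exact mem_subgroupOf.1 ((mem_normalizer_iff.1 he ⟨z, hzE⟩).2 (mem_subgroupOf.2 hz))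
      have haN : a ∈ N := by
        have h1 : a = (e : G) * d⁻¹ := by rw [← had]; simp
        rw [h1]
        exact mul_mem heN (inv_mem (le_normalizer hd))
      refine he' (mem_subgroupOf.2 ?_)
      rw [← had]
      exact mul_mem (hsame ⟨hAP ha, hAL a ha haN⟩) hd
    refine ⟨x, mem_normalizer_iff.2 fun a => ?_, fun _ _ => rfl⟩
    constructor
    · exact fun ha => (hBnorm x hx a ⟨ha, hAD ha⟩).1
    · intro ha
      have h1 := (hBnorm x⁻¹ (inv_mem hx) _ ⟨ha, hAD ha⟩).1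
      simpa [mul_assoc] using h1
  · have hlt : Nat.card D < Nat.card D' := by
      refine lt_of_le_of_ne (Nat.le_of_dvd Nat.card_pos (card_dvd_of_le le_sup_left)) fun h => hsame ?_
      exact le_sup_right.trans (eq_of_le_of_card_ge (le_sup_left : D ≤ D') h.ge).ge
    have hmap : D'.map (MulAut.conj (c⁻¹ * x)).toMonoidHom ≤ D' := by
      rw [hD', Subgroup.map_sup]
      refine sup_le_sup ?_ ?_
      · rintro _ ⟨d, hd, rfl⟩
        exact (mem_normalizer_iff.1 (mul_mem (inv_mem hcN) hx) d).1 hd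
      · rintro _ ⟨w, hw, rfl⟩
        exact hkey w hw
    have hch : Chain P (D' : Set G) (c⁻¹ * x)⁻¹ := exists_chain P _ _ hD'P (by
      rintro _ ⟨w, hw, rfl⟩
      rw [inv_inv]
      exact hD'P (hmap ⟨w, hw, rfl⟩))
    obtain ⟨z, hz, hzD⟩ := good_chain A P (Nat.card D') (fun Q' x' hQ' hx' hle => by
      refine ih (Nat.card P - Nat.card ↥((P : Subgroup G) ⊓ (Q' : Subgroup G))) ?_ Q' x' rfl hQ' hx'
      rw [← hn]
      have h1 : Nat.card ↥((P : Subgroup G) ⊓ (Q' : Subgroup G)) ≤ Nat.card P :=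
        Nat.le_of_dvd Nat.card_pos (card_dvd_of_le inf_le_left)
      omega) _ _ hch le_rfl
    refine ⟨z, hz, fun d hd => ?_⟩
    rw [hzD d ((le_sup_left : D ≤ D') hd), inv_inv, hnD d hd]

/-- Let S be a Sylow p-subgroup of the finite group G and A an abelian subgroup of S that is strongly closed in S with respect to G. Then A controls strong fusion in G: for some Sylow p-subgroup T containing A, whenever a subset of T is conjugated into T by an element of G, the same elementwise conjugation is induced by an element of N_G(A). -/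
theorem result {G : Type*} [Group G] [Finite G] {p : ℕ} [Fact p.Prime] (S : Sylow p G) (A : Subgroup G) (hA : IsMulCommutative ↥A) (hsc : Cfsg.IsStronglyClosed A (S : Subgroup G)) : Cfsg.ControlsStrongFusion p A := by
  refine ⟨S, hsc.1, fun Y hY => ⟨hY, fun g hg => ?_⟩⟩
  have hch : Chain S Y g⁻¹ := exists_chain S Y g⁻¹ hY (by simpa [cj] using hg)
  obtain ⟨x, hx, hxY⟩ := good_chain A S 0 (fun Q x hQ hx _ => good_tame A S hsc.1
    (fun a ha b hb => congrArg Subtype.val (mul_comm' (⟨a, ha⟩ : A) ⟨b, hb⟩)) hsc.2 _ Q x rfl hQ hx)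
    Y g⁻¹ hch (Nat.zero_le _)
  exact ⟨x, hx, fun a ha => by rw [hxY a ha, inv_inv]⟩

end Cfsg.Agent.S2791
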