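import Cfsg.Statements.S2793
import Cfsg.Agent.Components.ZJFail.Main
-- import your own Cfsg.Agent.* helpers here

set_option autoImplicit false
open Cfsg

namespace Cfsg.Agent.S2793

/-- Let p be an odd prime, S a Sylow p-subgroup of the finite group G, J(S) the subgroup generated by the abelian subgroups of S of largest order, and suppose Z(J(S)) does not control strong fusion in G. Put H = N_G(Z(J(S))). Then the group F(p) of upper triangular 3 × 3 matrices (a b c; 0 a⁻¹ d; 0 0 1) over the field with p elements is involved in H, and Z(J(S)) contains a subgroup C of order p with |N_H(C) : C_H(C)| = p − 1. -/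
theorem result {G : Type*} [Group G] [Finite G] {p : ℕ} [Fact p.Prime] (hp : p ≠ 2) (S : Sylow p G) (h : ¬ Cfsg.ControlsStrongFusion p (Cfsg.centerThompsonAOf (S : Subgroup G))) (H : Subgroup G) (hH : H = Subgroup.normalizer ((Cfsg.centerThompsonAOf (S : Subgroup G)) : Set G)) : Cfsg.Involves ↥(Cfsg.fOver (ZMod p)) ↥H ∧ ∃ C : Subgroup G, C ≤ (Cfsg.centerThompsonAOf (S : Subgroup G)) ∧ Nat.card C = p ∧ (H ⊓ Subgroup.centralizer (C : Set G)).relIndex (H ⊓ Subgroup.normalizer (C : Set G)) = p - 1 := by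
  subst hH
  classical
  rcases Cfsg.Lib.ZJFail.concl_or_agrees hp (Nat.card G) G rfl S with ⟨hinv, C, x, u, hC, hcard, hx, hu, hxc⟩ | hag
  swap
  · refine (h ⟨S, Cfsg.Lib.ZJFail.zj_le S, fun A hA => ⟨hA, fun g hg => ?_⟩⟩).elim
    obtain ⟨n, hn, hng⟩ := hag A g hA hg
    exact ⟨n, hn, fun a ha => (hng a ha).symm⟩
  refine ⟨hinv, C, hC, hcard, ?_⟩
  set H := Subgroup.normalizer ((Cfsg.centerThompsonAOf (S : Subgroup G)) : Set G)
  have hp' : p.Prime := Fact.out
  have hxN : x ∈ Subgroup.normalizer (C : Set G) := Cfsg.Lib.ZJFail.mem_normalizer_of_conj_le fun c hc => by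
    rw [hxc c hc]; exact C.pow_mem hc _
  let φ : ↥(H ⊓ Subgroup.normalizer (C : Set G)) →* MulAut C :=
    C.normalizerMonoidHom.comp (Subgroup.inclusion inf_le_right)
  have hker : φ.ker = (H ⊓ Subgroup.centralizer (C : Set G)).subgroupOf (H ⊓ Subgroup.normalizer (C : Set G)) := by
    ext g
    rw [← MonoidHom.comap_ker, Subgroup.mem_comap, Subgroup.normalizerMonoidHom_ker, Subgroup.mem_subgroupOf,
      Subgroup.mem_subgroupOf]
    exact ⟨fun hg => ⟨g.2.1, hg⟩, fun hg => hg.2⟩
  rw [Subgroup.relIndex, ← hker, Subgroup.index_ker]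
  haveI : IsCyclic C := isCyclic_of_prime_card hcard
  have hcardAut : Nat.card (MulAut C) = p - 1 := by
    rw [IsCyclic.card_mulAut, hcard, Nat.totient_prime hp']
  have hu' : orderOf u = p - 1 := by
    rw [orderOf_eq_card_of_forall_mem_zpowers hu, Nat.card_eq_fintype_card, ZMod.card_units]
  set j := (u : ZMod p).val
  let y : ↥(H ⊓ Subgroup.normalizer (C : Set G)) := ⟨x, hx, hxN⟩
  have hpow : ∀ k : ℕ, ∀ c ∈ C, x ^ k * c * (x ^ k)⁻¹ = c ^ j ^ k := by
    intro k
    induction k with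
    | zero => intro c _; simp
    | succ k ih =>
      intro c hc
      rw [show x ^ (k + 1) * c * (x ^ (k + 1))⁻¹ = x ^ k * (x * c * x⁻¹) * (x ^ k)⁻¹ by rw [pow_succ]; group,
        hxc c hc, ih _ (C.pow_mem hc _), ← pow_mul, pow_succ']
  have hdvd : p - 1 ∣ orderOf (φ y) := by
    rw [← hu']
    refine orderOf_dvd_of_pow_eq_one (Units.ext ?_)
    haveI : Nontrivial C := Finite.one_lt_card_iff_nontrivial.mp (hcard.symm ▸ hp'.one_lt)
    obtain ⟨c, hc⟩ := exists_ne (1 : C)
    have hco : orderOf c = p := orderOf_eq_prime (hcard ▸ pow_card_eq_one') hc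
    have h1 : φ (y ^ orderOf (φ y)) = 1 := by rw [map_pow, pow_orderOf_eq_one]
    have h2 := congrArg Subtype.val (DFunLike.congr_fun h1 c)
    change x ^ orderOf (φ y) * (c : G) * (x ^ orderOf (φ y))⁻¹ = c at h2
    rw [hpow _ _ c.2] at h2
    nth_rewrite 2 [← pow_one (c : G)] at h2
    rw [pow_eq_pow_iff_modEq, Subgroup.orderOf_coe, hco, ← ZMod.natCast_eq_natCast_iff] at h2
    simpa [j] using h2
  refine le_antisymm (hcardAut ▸ Subgroup.card_le_card_group _) ?_
  exact (Nat.le_of_dvd (orderOf_pos _) hdvd).trans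
    ((Subgroup.orderOf_mk (H := φ.range) _ ⟨y, rfl⟩).symm.le.trans orderOf_le_card)


end Cfsg.Agent.S2793
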