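import Cfsg.Statements.S2800
import Cfsg.Agent.Components.Sfour.PCompl

set_option autoImplicit false
open Cfsg

namespace Cfsg.Agent.S2800

/-- Let S be a Sylow p-subgroup of the finite group G and J(S) the subgroup generated by the abelian subgroups of S of largest order. Suppose p is odd, or the symmetric group of degree 4 is not involved in G. If both C_G(Z(S)) and N_G(J(S)) have normal p-complements, then G has a normal p-complement. -/
theorem result {G : Type*} [Group G] [Finite G] {p : ℕ} [Fact p.Prime] (S : Sylow p G) (h : p ≠ 2 ∨ ¬ Cfsg.Involves (Equiv.Perm (Fin 4)) G) (hC : Cfsg.HasNormalPComplement p ↥(Subgroup.centralizer (((S : Subgroup G) ⊓ Subgroup.centralizer ((S : Subgroup G) : Set G) : Subgroup G) : Set G))) (hN : Cfsg.HasNormalPComplement p ↥(Subgroup.normalizer ((Cfsg.thompsonSubgroupAOf (S : Subgroup G)) : Set G))) : Cfsg.HasNormalPComplement p G := by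
  set N := Subgroup.normalizer ((Cfsg.thompsonSubgroupAOf (S : Subgroup G)) : Set G) with hNdef
  have hSN : (S : Subgroup G) ≤ N := fun s hs => by
    rw [hNdef, ← Cfsg.Lib.Transfer.map_conj_eq_self_iff, ← Cfsg.Lib.JWeak.map_conj_thompsonAOf,
      Cfsg.Lib.Transfer.map_conj_eq_self_iff.mpr (Subgroup.le_normalizer hs)]
  refine Cfsg.Lib.JWeak.hasNormalPComplement_of_centralizer S inf_le_left inf_le_right (fun z hz g hg => ?_) hC
  have hzN := Cfsg.Lib.JWeak.center_mem S hSN hNdef (Cfsg.Lib.Fusion.thompsonAOf_le _) hN hz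
    (Cfsg.Lib.Fusion.center_le_thompsonAOf hz)
  by_cases hp : p = 2
  · subst hp
    exact Cfsg.Lib.JWeak.weaklyClosed_two (h.resolve_left (fun h0 => h0 rfl)) S hz.1 hzN hg
  · exact Cfsg.Lib.JWeak.weaklyClosed_odd hp S hz.1 hzN hg

end Cfsg.Agent.S2800
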