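import Cfsg.Statements.S2804
import Cfsg.Agent.Components.Reduced.Sub

set_option autoImplicit false
open Cfsg

namespace Cfsg.Agent.S2804

/-- Let L be a finite group and p a prime with C_L(O_p(L)) ≤ O_p(L), V a p-reduced normal subgroup of L and K a subnormal subgroup of L. Then [V, O^p(K)] is contained in K and is a p-reduced normal subgroup of K, where O^p(K) is the subgroup of K generated by its elements of order prime to p. -/
theorem result {L : Type*} [Group L] [Finite L] {p : ℕ} [Fact p.Prime] (hchar : Subgroup.centralizer (Cfsg.pCore p L : Set L) ≤ Cfsg.pCore p L) (V : Subgroup L) (hV : Cfsg.IsPReducedNormal p V) (K : Subgroup L) (hK : K.IsSubnormal) : ⁅V, (Cfsg.pResidual p ↥K).map K.subtype⁆ ≤ K ∧ Cfsg.IsPReducedNormal p ((⁅V, (Cfsg.pResidual p ↥K).map K.subtype⁆).subgroupOf K) := by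
  haveI := hV.1
  have h1 := Cfsg.Lib.Reduced.commutator_residual_le (Cfsg.Lib.Reduced.isPGroup_of_elem hV.2.1) hK
  refine ⟨h1, Cfsg.Lib.Reduced.isReduced_subnormal_part hV hK _ (Subgroup.commutator_le_left _ _) h1 ?_ le_rfl⟩
  intro g hg
  haveI : (pResidual p K).Normal := Cfsg.Lib.Transfer.pResidual_normal'
  refine Cfsg.Lib.Transfer.map_conj_eq_self_iff.1 ?_
  rw [Subgroup.map_commutator]
  congr 1
  · exact Cfsg.Lib.Transfer.map_conj_eq_self_iff.2 (by rw [Subgroup.normalizer_eq_top]; trivial)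
  · refine Cfsg.Lib.Transfer.map_conj_eq_self_iff.2 ?_
    refine (Subgroup.le_normalizer_map K.subtype) ⟨⟨g, hg⟩, ?_, rfl⟩
    rw [Subgroup.normalizer_eq_top]; trivial

end Cfsg.Agent.S2804
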