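import Cfsg.Statements.S2813
import Cfsg.Agent.Coprime.Action
import Cfsg.Agent.Components.Cores

set_option autoImplicit false
open Cfsg

namespace Cfsg.Agent.S2813

/-- Let K be a subgroup of the finite group H with O_p(K) = 1 and Y a p-subgroup of N_H(K) with [K, Y, Y] = 1. Then [K, Y] = 1. -/
theorem result {H : Type*} [Group H] [Finite H] {p : ℕ} [Fact p.Prime] (K : Subgroup H) (hO : Cfsg.pCore p ↥K = ⊥) (Y : Subgroup H) (hY : IsPGroup p ↥Y) (hYK : Y ≤ Subgroup.normalizer (K : Set H)) (hq : ⁅⁅K, Y⁆, Y⁆ = ⊥) : ⁅K, Y⁆ = ⊥ := by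
  set M := ⁅K, Y⁆ with hM
  have hMK : M ≤ K := Cfsg.Lib.Coprime.commutator_le_of_le_normalizer hYK
  have hKM : K ≤ Subgroup.normalizer (M : Set H) := Cfsg.Lib.Coprime.le_normalizer_commutator_left Y K
  have h1 : ⁅⁅Y, M⁆, K⁆ = ⊥ := by
    rw [Subgroup.commutator_comm Y M, hM, hq, Subgroup.commutator_bot_left]
  have h2 : ⁅⁅M, K⁆, Y⁆ = ⊥ := by
    rw [eq_bot_iff, ← hq]
    refine Subgroup.commutator_mono ?_ le_rfl
    rw [Subgroup.commutator_comm]
    exact (Subgroup.commutator_comm _ _).le.trans (Cfsg.Lib.Coprime.commutator_le_of_le_normalizer hKM)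
  have h3 : M ≤ Subgroup.centralizer (M : Set H) :=
    Subgroup.commutator_eq_bot_iff_le_centralizer.1
      (Subgroup.commutator_commutator_eq_bot_of_rotate h1 h2)
  have hMY : M ≤ Subgroup.centralizer (Y : Set H) := Subgroup.commutator_eq_bot_iff_le_centralizer.1 hq
  have hpM : IsPGroup p M := by
    rintro ⟨m, hm⟩
    suffices h : ∃ a : ℕ, m ^ p ^ a = 1 by
      obtain ⟨a, ha⟩ := h
      exact ⟨a, Subtype.ext ha⟩
    induction hm using Subgroup.closure_induction with
    | mem u hu =>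
      obtain ⟨k, hk, y, hy, rfl⟩ := hu
      open scoped commutatorElement in
      have hpow : ∀ n : ℕ, ⁅k, y ^ n⁆ = ⁅k, y⁆ ^ n := by
        intro n
        induction n with
        | zero => simp
        | succ n ih =>
          have hc : y ^ n * ⁅k, y⁆ = ⁅k, y⁆ * y ^ n := Subgroup.mem_centralizer_iff.1
            (hMY (Subgroup.commutator_mem_commutator hk hy)) _ (pow_mem hy n)
          calc ⁅k, y ^ (n + 1)⁆ = ⁅k, y ^ n⁆ * (y ^ n * ⁅k, y⁆ * (y ^ n)⁻¹) := by
                simp [commutatorElement_def, pow_succ, mul_assoc]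
            _ = ⁅k, y⁆ ^ (n + 1) := by rw [hc, mul_inv_cancel_right, ih, pow_succ]
      obtain ⟨a, ha⟩ := hY ⟨y, hy⟩
      refine ⟨a, ?_⟩
      rw [← hpow, show y ^ p ^ a = 1 from congrArg Subtype.val ha]
      simp
    | one => exact ⟨0, one_pow _⟩
    | mul u v hu hv ihu ihv =>
      obtain ⟨a, ha⟩ := ihu
      obtain ⟨b, hb⟩ := ihv
      have hc : Commute u v := Subgroup.mem_centralizer_iff.1 (h3 hv) u hu
      refine ⟨a + b, ?_⟩
      rw [hc.mul_pow, pow_add, pow_mul, ha, one_pow, one_mul, mul_comm, pow_mul, hb, one_pow]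
    | inv u _ ihu =>
      obtain ⟨a, ha⟩ := ihu
      exact ⟨a, by rw [inv_pow, ha, inv_one]⟩
  haveI : (M.subgroupOf K).Normal := Subgroup.normal_subgroupOf_of_le_normalizer hKM
  have h4 := Cfsg.Lib.Components.le_pCore (N := M.subgroupOf K) hpM.comap_subtype
  rw [hO, le_bot_iff, Subgroup.subgroupOf_eq_bot, disjoint_iff, inf_eq_left.2 hMK] at h4
  exact h4

end Cfsg.Agent.S2813
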