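import Cfsg.Statements.S2814
import Cfsg.Agent.Components.Supplement
import Cfsg.Agent.Components.Cores
import Cfsg.Agent.Transfer.Basic
import Cfsg.Agent.Coprime.Action
import Cfsg.Agent.Components.Misc.NilSubnormal

set_option autoImplicit false
open Cfsg

namespace Cfsg.Agent.S2814

/-- Let A be a subgroup of the finite group H and K the subnormal closure of A (intersection of the subnormal subgroups containing A). Then K is the normal closure of A inside K and N_H(A) ≤ N_H(K); K = A·O^p(K), O^p(K) being generated by the elements of K of order prime to p; and if A is a p-group, O^p(K) = [O^p(K), A]. -/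
theorem result {H : Type*} [Group H] [Finite H] {p : ℕ} [Fact p.Prime] (A : Subgroup H) (K : Subgroup H) (hK : K = Cfsg.subnormalClosure A) : (Subgroup.normalClosure ((A.subgroupOf K : Subgroup ↥K) : Set ↥K)).map K.subtype = K ∧ Subgroup.normalizer (A : Set H) ≤ Subgroup.normalizer (K : Set H) ∧ A ⊔ (Cfsg.pResidual p ↥K).map K.subtype = K ∧ (IsPGroup p ↥A → ⁅(Cfsg.pResidual p ↥K).map K.subtype, A⁆ = (Cfsg.pResidual p ↥K).map K.subtype) := by
  classical
  have hKs : K.IsSubnormal ∧ A ≤ K := by
    subst hK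
    have key : ∀ s : Finset (Subgroup H), (∀ J ∈ s, A ≤ J ∧ J.IsSubnormal) →
        (s.inf id).IsSubnormal ∧ A ≤ s.inf id := by
      intro s
      induction s using Finset.induction with
      | empty => intro _; exact ⟨by simp, by simp⟩
      | insert J s _ ih =>
        intro hs
        rw [Finset.inf_insert]
        obtain ⟨h1, h2⟩ := ih fun J' hJ' => hs J' (Finset.mem_insert_of_mem hJ')
        exact ⟨(hs J (Finset.mem_insert_self J s)).2.inf h1, le_inf (hs J (Finset.mem_insert_self J s)).1 h2⟩
    haveI : Fintype (Subgroup H) := Fintype.ofFinite _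
    have heq : subnormalClosure A =
        (Finset.univ.filter fun J : Subgroup H => A ≤ J ∧ J.IsSubnormal).inf id := by
      refine le_antisymm (Finset.le_inf fun J hJ => sInf_le (Finset.mem_filter.1 hJ).2) (le_sInf fun J hJ => ?_)
      exact Finset.inf_le (f := id) (Finset.mem_filter.2 ⟨Finset.mem_univ J, hJ⟩)
    rw [heq]
    exact key _ fun J hJ => (Finset.mem_filter.1 hJ).2
  obtain ⟨hKsn, hAK⟩ := hKs
  have hmin : ∀ J : Subgroup H, J.IsSubnormal → A ≤ J → K ≤ J := fun J h1 h2 => hK ▸ sInf_le ⟨h2, h1⟩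
  have hminK : ∀ J : Subgroup K, J.IsSubnormal → A.subgroupOf K ≤ J → J = ⊤ := by
    intro J h1 h2
    have h3 := hmin (J.map K.subtype) (Subgroup.IsSubnormal.trans' h1 hKsn)
      (fun a ha => ⟨⟨a, hAK ha⟩, h2 (show (⟨a, hAK ha⟩ : K) ∈ A.subgroupOf K from ha), rfl⟩)
    rw [eq_top_iff]
    intro k _
    exact (Subgroup.mem_map_iff_mem K.subtype_injective).1 (h3 k.2)
  set R := pResidual p K with hR
  haveI hRn : R.Normal := Cfsg.Lib.Transfer.pResidual_normal'
  set q := QuotientGroup.mk' R
  have hqp : IsPGroup p (K ⧸ R) := by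
    intro y
    obtain ⟨x, rfl⟩ := QuotientGroup.mk'_surjective R y
    obtain ⟨m, n, hn, hmn⟩ := Nat.exists_eq_pow_mul_and_not_dvd (orderOf_pos x).ne' p (Fact.out : p.Prime).ne_one
    refine ⟨m, ?_⟩
    show q x ^ p ^ m = 1
    rw [← map_pow]
    refine (QuotientGroup.eq_one_iff _).2 (Subgroup.subset_closure ?_)
    show (orderOf (x ^ p ^ m)).Coprime p
    rw [orderOf_pow_of_dvd (pow_ne_zero _ (Fact.out : p.Prime).ne_zero) (hmn ▸ dvd_mul_right _ _), hmn,
      Nat.mul_div_cancel_left _ (pow_pos (Fact.out : p.Prime).pos m)]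
    exact ((Fact.out : p.Prime).coprime_iff_not_dvd.2 hn).symm
  have hAR : A.subgroupOf K ⊔ R = ⊤ := by
    refine hminK _ ?_ le_sup_left
    haveI := hqp.isNilpotent
    have hsn : ((A.subgroupOf K).map q).IsSubnormal := Cfsg.Lib.Components.isSubnormal_of_isNilpotent _
    have h := hsn.comap q
    rwa [Subgroup.comap_map_eq, QuotientGroup.ker_mk'] at h
  have hmapA : (A.subgroupOf K).map K.subtype = A := Subgroup.map_subgroupOf_eq_of_le hAK
  have htop : (⊤ : Subgroup K).map K.subtype = K := by
    rw [← MonoidHom.range_eq_map, Subgroup.range_subtype]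
  refine ⟨?_, ?_, ?_, fun hA => ?_⟩
  · rw [hminK _ (Subgroup.Normal.isSubnormal inferInstance) Subgroup.le_normalClosure, htop]
  · intro g hg
    refine Cfsg.Lib.Transfer.map_conj_eq_self_iff.1 ?_
    refine (Subgroup.eq_of_le_of_card_ge (H := K) ?_ ?_).symm
    · refine hmin _ (hKsn.map (MulAut.conj g).surjective) ?_
      rw [← Cfsg.Lib.Transfer.map_conj_eq_self_iff.2 hg]
      exact Subgroup.map_mono hAK
    · exact (Nat.card_congr (Subgroup.equivMapOfInjective _ _ (MulAut.conj g).injective).toEquiv).ge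
  · have h := congrArg (Subgroup.map K.subtype) hAR
    rwa [Subgroup.map_sup, hmapA, htop] at h
  · set A' := A.subgroupOf K
    set C := ⁅R, A'⁆ with hC
    have hCR : C ≤ R := Subgroup.commutator_le_left R A'
    have hCn : C.Normal := by
      refine Subgroup.normalizer_eq_top_iff.1 (top_le_iff.1 ?_)
      rw [← hAR]
      exact sup_le (Cfsg.Lib.Coprime.le_normalizer_commutator_right A' R)
        (Cfsg.Lib.Coprime.le_normalizer_commutator_left A' R)
    haveI := hCn
    set q2 := QuotientGroup.mk' C
    have hcR : R.map q2 ≤ Subgroup.centralizer (A'.map q2 : Set (K ⧸ C)) := by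
      rw [← Subgroup.commutator_eq_bot_iff_le_centralizer, ← Subgroup.map_commutator,
        Subgroup.map_eq_bot_iff, QuotientGroup.ker_mk']
    haveI hAn : (A'.map q2).Normal := by
      refine Subgroup.normalizer_eq_top_iff.1 (top_le_iff.1 ?_)
      rw [← Subgroup.map_top_of_surjective q2 (QuotientGroup.mk'_surjective C), ← hAR, Subgroup.map_sup]
      exact sup_le Subgroup.le_normalizer (hcR.trans (Subgroup.centralizer_le_normalizer _))
    have hall : (A'.map q2).comap q2 = ⊤ :=
      hminK _ (Subgroup.Normal.isSubnormal (Subgroup.Normal.comap hAn _)) (Subgroup.le_comap_map q2 A')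
    have hRC : R ≤ C := by
      rw [hR, pResidual, Subgroup.closure_le]
      intro x hx
      refine (QuotientGroup.eq_one_iff x).1 (orderOf_eq_one_iff.1 ?_)
      have hxA : q2 x ∈ A'.map q2 := (show x ∈ (A'.map q2).comap q2 by rw [hall]; trivial)
      obtain ⟨e, he⟩ := ((hA.comap_subtype (K := K)).map q2) ⟨_, hxA⟩
      have h2 : q2 x ^ p ^ e = 1 := congrArg Subtype.val he
      exact Nat.eq_one_of_dvd_coprimes (Nat.Coprime.pow_right e hx)
        ((orderOf_map_dvd q2 x).trans dvd_rfl) (orderOf_dvd_of_pow_eq_one h2)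
    have h := congrArg (Subgroup.map K.subtype) (le_antisymm hCR hRC)
    rwa [hC, Subgroup.map_commutator, hmapA] at h

end Cfsg.Agent.S2814
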