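import Cfsg.Statements.S2815
import Cfsg.Agent.Components.Structure
import Cfsg.Agent.Components.Supplement
import Cfsg.Agent.Transfer.Basic
import Cfsg.Agent.Coprime.Fitting
import Cfsg.Agent.Coprime.Action

set_option autoImplicit false
open Cfsg

namespace Cfsg.Agent.S2815

/-- Let H be a finite group and p a prime dividing its order with O_p(H) = 1, and suppose K = O^p(H) (generated by the elements of order prime to p) is quasisimple. Then K = F*(H); for every nontrivial p-subgroup Y of H, K = [K, Y] and K lies in the subgroup generated by the K-conjugates of Y; every normal subgroup of H not containing K has order prime to p; and H is p-irreducible. -/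
theorem result {H : Type*} [Group H] [Finite H] {p : ℕ} [Fact p.Prime] (hp : p ∣ Nat.card H) (hO : Cfsg.pCore p H = ⊥) (hq : Cfsg.IsQuasisimple ↥(Cfsg.pResidual p H)) : Cfsg.pResidual p H = Cfsg.generalizedFittingSubgroup H ∧ (∀ Y : Subgroup H, IsPGroup p ↥Y → Y ≠ ⊥ → ⁅Cfsg.pResidual p H, Y⁆ = Cfsg.pResidual p H ∧ Cfsg.pResidual p H ≤ ⨆ k : ↥(Cfsg.pResidual p H), Y.map (MulAut.conj (k : H)).toMonoidHom) ∧ (∀ C : Subgroup H, C.Normal → ¬ Cfsg.pResidual p H ≤ C → (Nat.card ↥C).Coprime p) ∧ Cfsg.IsPIrreducible p H := by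
  open Subgroup Cfsg.Lib.Components in
  open scoped commutatorElement in
  exact by
    set K := Cfsg.pResidual p H with hKdef
    haveI hKn : K.Normal := Cfsg.Lib.Transfer.pResidual_normal'
    have hKsn : K.IsSubnormal := hKn.isSubnormal
    have hKc : IsComponent K := ⟨hKsn, hq⟩
    have hperf : ⁅K, K⁆ = K := comp_perfect hKc
    have hpq : IsPGroup p (H ⧸ K) := Cfsg.Lib.Transfer.isPGroup_quotient_pResidual
    set π := QuotientGroup.mk' K
    have hF : Cfsg.generalizedFittingSubgroup H = K := by
      refine le_antisymm (sup_le (sSup_le fun L hL => ?_) ?_) ((comp_le_layer hKc).trans layer_le_genFitting)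
      · by_contra hne
        have hsolv : Group.IsSolvable (H ⧸ K) :=
          haveI := hpq.isNilpotent
          inferInstance
        have hM : L.map π ≠ ⊥ := fun h => hne (by
          rw [Subgroup.map_eq_bot_iff, QuotientGroup.ker_mk'] at h; exact h)
        have h := Group.IsSolvable.commutator_lt_of_ne_bot hM
        rw [← map_commutator, comp_perfect hL] at h
        exact lt_irrefl _ h
      · rw [fitting_eq_iSup_pCore]
        refine iSup_le fun q => ?_
        by_cases hqp : q.1 = p
        · rw [hqp, hO]; exact bot_le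
        · haveI := Fact.mk q.2
          intro x hx
          obtain ⟨k, hk⟩ := isPGroup_pCore (G := H) q.1 ⟨x, hx⟩
          refine Cfsg.Lib.Transfer.mem_pResidual_of_coprime ?_
          exact (((Nat.coprime_primes q.2 Fact.out).2 hqp).pow_left k).coprime_dvd_left
            (orderOf_dvd_of_pow_eq_one (congrArg Subtype.val hk))
    have hCK : centralizer (K : Set H) ≤ K := by
      have h := centralizer_genFitting_le (G := H)
      rwa [hF] at h
    have hZ : ∀ R : Subgroup H, IsPGroup p R → R ≤ K → R ≤ centralizer (K : Set H) → R = ⊥ := by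
      intro R hR hRK hRC
      haveI : (R.subgroupOf K).Normal := ⟨fun n hn g => by
        show (g : H) * n * (g : H)⁻¹ ∈ R
        have hn' : (n : H) ∈ R := hn
        rw [show (g : H) * n = n * g from mem_centralizer_iff.1 (hRC hn') g g.2, mul_inv_cancel_right]; exact hn'⟩
      have hsn : R.IsSubnormal := Subgroup.IsSubnormal.trans hRK (Normal.isSubnormal inferInstance) hKsn
      exact le_bot_iff.1 (hO ▸ le_pCore_of_subnormal hsn hR)
    have hcent : ∀ N : Subgroup H, N ≤ K → (N.subgroupOf K).IsSubnormal → N = K ∨ N ≤ centralizer (K : Set H) := by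
      intro N hNK hN
      rcases qs_subnormal_eq_top_or_le_center hq hN with h | h
      · exact Or.inl (le_antisymm hNK (subgroupOf_eq_top.1 h))
      · exact Or.inr fun n hn => mem_centralizer_iff.2 fun k hk =>
          congrArg Subtype.val (mem_center_iff.1 (h (show (⟨n, hNK hn⟩ : K) ∈ N.subgroupOf K from hn)) ⟨k, hk⟩)
    have hY : ∀ Y : Subgroup H, IsPGroup p Y → Y ≠ ⊥ → ⁅K, Y⁆ = K := by
      intro Y hYp hY1
      have hle : ⁅K, Y⁆ ≤ K := commutator_le_left (H₁ := K) (H₂ := Y)
      haveI : (⁅K, Y⁆.subgroupOf K).Normal := (normal_subgroupOf_iff_le_normalizer hle).2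
        (Cfsg.Lib.Coprime.le_normalizer_commutator_left Y K)
      rcases hcent _ hle (Normal.isSubnormal inferInstance) with h | h
      · exact h
      · exfalso
        have h3 : ⁅⁅K, Y⁆, K⁆ = ⊥ := commutator_eq_bot_iff_le_centralizer.2 h
        have h4 := commutator_eq_bot_of_perfect hperf h3
        have h5 : Y ≤ centralizer (K : Set H) := commutator_eq_bot_iff_le_centralizer.1 (by rw [commutator_comm]; exact h4)
        exact hY1 (hZ Y hYp (h5.trans hCK) h5)
    have hnormal : ∀ C : Subgroup H, C.Normal → ¬ K ≤ C → (Nat.card C).Coprime p := by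
      intro C hC hKC
      refine ((Fact.out : p.Prime).coprime_iff_not_dvd.2 fun hd => ?_).symm
      obtain ⟨c, hc⟩ := exists_prime_orderOf_dvd_card' p hd
      have hco : orderOf (c : H) = p := by rw [Subgroup.orderOf_coe, hc]
      have hR : IsPGroup p (zpowers (c : H)) :=
        IsPGroup.of_card (n := 1) (by rw [Nat.card_zpowers, hco, pow_one])
      have hne : zpowers (c : H) ≠ ⊥ := by
        rw [Ne, zpowers_eq_bot]; intro h1
        rw [h1, orderOf_one] at hco; exact (Fact.out : p.Prime).ne_one hco.symm
      refine hKC ?_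
      rw [← hY _ hR hne]
      exact (commutator_mono le_rfl (zpowers_le.2 c.2)).trans (commutator_le_right (H₁ := K) (H₂ := C))
    refine ⟨hF.symm, fun Y hYp hY1 => ⟨hY Y hYp hY1, ?_⟩, hnormal, ?_, ?_⟩
    · set J := ⨆ k : ↥K, Y.map (MulAut.conj (k : H)).toMonoidHom
      conv_lhs => rw [← hY Y hYp hY1]
      refine commutator_le.2 fun k hk y hy => ?_
      have h1 : k * y * k⁻¹ ∈ J := le_iSup (fun k : ↥K => Y.map (MulAut.conj (k : H)).toMonoidHom) ⟨k, hk⟩ ⟨y, hy, rfl⟩
      have h2 : y⁻¹ ∈ J := le_iSup (fun k : ↥K => Y.map (MulAut.conj (k : H)).toMonoidHom) ⟨1, one_mem K⟩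
        ⟨y⁻¹, inv_mem hy, by simp⟩
      exact J.mul_mem h1 h2
    · intro hcl
      obtain ⟨P⟩ : Nonempty (Sylow p H) := inferInstance
      haveI := hcl P
      have h1 : (P : Subgroup H) ≤ ⊥ := hO ▸ le_pCore P.2
      have h2 := P.dvd_card_of_dvd_card hp
      rw [le_bot_iff.1 h1, card_bot, Nat.dvd_one] at h2
      exact (Fact.out : p.Prime).ne_one h2
    · intro N hN hNcl
      by_contra hKN
      refine hNcl fun P => ?_
      have hPb : (P : Subgroup N) = ⊥ := by
        by_contra hne
        haveI : Nontrivial (P : Subgroup N) := (nontrivial_iff_ne_bot _).2 hne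
        obtain ⟨n, hn0, hn⟩ := P.2.nontrivial_iff_card.1 inferInstance
        exact (Fact.out : p.Prime).coprime_iff_not_dvd.1 (hnormal N hN hKN).symm
          ((dvd_pow_self p hn0.ne').trans (hn ▸ card_subgroup_dvd_card _))
      rw [hPb]; infer_instance

end Cfsg.Agent.S2815
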