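import Cfsg.Statements.S2818
import Cfsg.Agent.Components.Reduced.Basic
import Cfsg.Agent.SolvStruct.PGroupBasics

set_option autoImplicit false
open Cfsg

namespace Cfsg.Agent.S2818

/-- Let P be a finite p-subgroup of a group G and H a subgroup of N_G(P) with [P, H] ≤ Ω₁(Z(P)) (the elements of order dividing p in the centre of P). Then H centralizes the Frattini subgroup of P. -/
theorem result {G : Type*} [Group G] [Finite G] {p : ℕ} [Fact p.Prime] (P : Subgroup G) (hP : IsPGroup p ↥P) (H : Subgroup G) (hH : H ≤ Subgroup.normalizer (P : Set G)) (h : ⁅P, H⁆ ≤ Cfsg.omegaOne p (P ⊓ Subgroup.centralizer (P : Set G))) : ⁅(frattini ↥P).map P.subtype, H⁆ = ⊥ := by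
  rw [Subgroup.commutator_eq_bot_iff_le_centralizer]
  rintro _ ⟨x, hx, rfl⟩
  refine Subgroup.mem_centralizer_iff.2 fun k hk => ?_
  set W := omegaOne p (P ⊓ Subgroup.centralizer (P : Set G)) with hW
  have hWel : IsElementaryAbelian p W := Cfsg.Lib.Reduced.isElem_omegaZ P
  have hWc : W ≤ Subgroup.centralizer (P : Set G) :=
    (Cfsg.Lib.Reduced.omegaZ_le P).trans inf_le_right
  open scoped commutatorElement in
  let f : P →* W := MonoidHom.mk' (fun y => ⟨⁅(y : G), k⁆, h (Subgroup.commutator_mem_commutator y.2 hk)⟩)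
    fun y z => Subtype.ext (by
      show ⁅(y : G) * z, k⁆ = ⁅(y : G), k⁆ * ⁅(z : G), k⁆
      have hc : (y : G) * ⁅(z : G), k⁆ = ⁅(z : G), k⁆ * y :=
        Subgroup.mem_centralizer_iff.1 (hWc (h (Subgroup.commutator_mem_commutator z.2 hk))) y y.2
      have hc2 : ⁅(z : G), k⁆ * ⁅(y : G), k⁆ = ⁅(y : G), k⁆ * ⁅(z : G), k⁆ :=
        Cfsg.Lib.Reduced.commute_of_elem hWel (h (Subgroup.commutator_mem_commutator z.2 hk))
          (h (Subgroup.commutator_mem_commutator y.2 hk))
      calc ⁅(y : G) * z, k⁆ = (y : G) * ⁅(z : G), k⁆ * (y : G)⁻¹ * ⁅(y : G), k⁆ := by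
            simp [commutatorElement_def, mul_assoc]
        _ = ⁅(y : G), k⁆ * ⁅(z : G), k⁆ := by rw [hc, mul_inv_cancel_right, hc2])
  have hfr : frattini f.range = ⊥ := Cfsg.Lib.SolvStruct.frattini_eq_bot_of_elementary (p := p)
    (fun y => Subtype.ext (Subtype.ext (hWel.2 _ (y : W).2)))
    (fun y z => Subtype.ext (Subtype.ext
      (Cfsg.Lib.Reduced.commute_of_elem hWel (y : W).2 (z : W).2)))
  have h1 := frattini_le_comap_frattini_of_surjective f.rangeRestrict_surjective hx
  rw [hfr, Subgroup.mem_comap, Subgroup.mem_bot] at h1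
  open scoped commutatorElement in
  have h2 : ⁅(x : G), k⁆ = 1 := congrArg Subtype.val (congrArg Subtype.val h1)
  exact (commutatorElement_eq_one_iff_mul_comm.1 h2).symm

end Cfsg.Agent.S2818
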