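import Cfsg.Statements.S2825
import Cfsg.Agent.Components.Reduced.Sub

set_option autoImplicit false
open Cfsg

namespace Cfsg.Agent.S2825

/-- Let L be a subnormal subgroup of the finite group H, p a prime, Y_H and Y_L the largest p-reduced normal subgroups. Then Y_H ∩ L = Y_H ∩ Y_L and this subgroup is a p-reduced normal subgroup of L; C_L(Y_L) = C_L(Y_H) = C_L(Y_H ∩ L); and if O^p(H) ≤ L, then [Y_L, L] = 1 if and only if [Y_H, H] = 1. -/
theorem result {H : Type*} [Group H] [Finite H] {p : ℕ} [Fact p.Prime] (L : Subgroup H) (hL : L.IsSubnormal) : Cfsg.largestPReduced p H ⊓ L = Cfsg.largestPReduced p H ⊓ (Cfsg.largestPReducedOf p L) ∧ Cfsg.IsPReducedNormal p ((Cfsg.largestPReduced p H ⊓ L).subgroupOf L) ∧ L ⊓ Subgroup.centralizer ((Cfsg.largestPReducedOf p L : Subgroup H) : Set H) = L ⊓ Subgroup.centralizer (Cfsg.largestPReduced p H : Set H) ∧ L ⊓ Subgroup.centralizer (Cfsg.largestPReduced p H : Set H) = L ⊓ Subgroup.centralizer ((Cfsg.largestPReduced p H ⊓ L : Subgroup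 H) : Set H) ∧ (Cfsg.pResidual p H ≤ L → (⁅(Cfsg.largestPReducedOf p L), L⁆ = ⊥ ↔ ⁅Cfsg.largestPReduced p H, (⊤ : Subgroup H)⁆ = ⊥)) := by
  set Y := largestPReduced p H with hY
  have hYred := Cfsg.Lib.Reduced.largest_isReduced (G := H) (p := p)
  haveI hYn : Y.Normal := hYred.1
  have hres : ⁅Y, (pResidual p L).map L.subtype⁆ ≤ Y ⊓ L :=
    le_inf (Subgroup.commutator_le_left _ _)
      (Cfsg.Lib.Reduced.commutator_residual_le (Cfsg.Lib.Reduced.isPGroup_of_elem hYred.2.1) hL)
  have hWn : L ≤ Subgroup.normalizer ((Y ⊓ L : Subgroup H) : Set H) := by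
    intro g hg
    refine Subgroup.mem_normalizer_iff.2 fun x => ?_
    rw [Subgroup.mem_inf, Subgroup.mem_inf]
    constructor
    · exact fun h => ⟨hYn.conj_mem x h.1 g, mul_mem (mul_mem hg h.2) (inv_mem hg)⟩
    · intro h
      refine ⟨?_, ?_⟩
      · simpa [mul_assoc] using hYn.conj_mem _ h.1 g⁻¹
      · simpa [mul_assoc] using mul_mem (mul_mem (inv_mem hg) h.2) hg
  have hred : IsPReducedNormal p ((Y ⊓ L).subgroupOf L) :=
    Cfsg.Lib.Reduced.isReduced_subnormal_part hYred hL _ inf_le_left inf_le_right hWn hres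
  have hle : Y ⊓ L ≤ largestPReducedOf p L := Cfsg.Lib.Reduced.le_largestOf inf_le_right hred
  have hC1 : L ⊓ Subgroup.centralizer ((Y ⊓ L : Subgroup H) : Set H) ≤
      Subgroup.centralizer (Y : Set H) := by
    refine Cfsg.Lib.Reduced.le_centralizer_of_subnormal hYred (Y ⊓ L) _ ?_ inf_le_left hres
      fun x hx => ⟨0, by simpa using hx.2⟩
    have hn : ((L ⊓ Subgroup.centralizer ((Y ⊓ L : Subgroup H) : Set H)).subgroupOf L).Normal := by
      refine Subgroup.normal_subgroupOf_of_le_normalizer (fun g hg => ?_)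
      have h1 := Subgroup.mem_normalizer_iff.1 (Cfsg.Lib.Reduced.normalizer_centralizer hWn hg)
      have h2 := Subgroup.mem_normalizer_iff.1 (Subgroup.le_normalizer hg)
      refine Subgroup.mem_normalizer_iff.2 fun x => ?_
      rw [Subgroup.mem_inf, Subgroup.mem_inf, ← h1 x, ← h2 x]
    have h := Subgroup.IsSubnormal.trans' hn.isSubnormal hL
    rwa [Subgroup.map_subgroupOf_eq_of_le inf_le_left] at h
  have hC2 : L ⊓ Subgroup.centralizer (largestPReducedOf p L : Set H) ≤
      Subgroup.centralizer (Y : Set H) :=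
    le_trans (inf_le_inf_left _ (Subgroup.centralizer_le (SetLike.coe_subset_coe.mpr hle))) hC1
  have heq1 : L ⊓ Subgroup.centralizer (largestPReducedOf p L : Set H) =
      L ⊓ Subgroup.centralizer (Y : Set H) :=
    le_antisymm (le_inf inf_le_left hC2)
      (le_inf inf_le_left (Cfsg.Lib.Reduced.centralizer_largestOf hL))
  refine ⟨le_antisymm (le_inf inf_le_left hle)
    (inf_le_inf_left _ (Cfsg.Lib.Reduced.largestOf_le L)), hred, heq1,
    le_antisymm (inf_le_inf_left _ (Subgroup.centralizer_le (SetLike.coe_subset_coe.mpr inf_le_left)))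
      (le_inf inf_le_left hC1), fun hres' => ⟨fun h => ?_, fun h => ?_⟩⟩
  · rw [Subgroup.commutator_comm, Subgroup.commutator_eq_bot_iff_le_centralizer] at h
    rw [Subgroup.commutator_comm, Subgroup.commutator_eq_bot_iff_le_centralizer]
    have hLC : L ≤ Subgroup.centralizer (Y : Set H) := (le_inf le_rfl h).trans hC2
    refine ((Cfsg.Lib.Reduced.isReduced_iff Y).1 hYred).2.2 ⊤ Subgroup.IsSubnormal.top fun x _ => ?_
    obtain ⟨m, hm⟩ := Cfsg.Lib.Reduced.exists_coprime_pow (p := p) x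
    exact ⟨m, hLC (hres' (Subgroup.subset_closure (hm m le_rfl)))⟩
  · rw [Subgroup.commutator_comm, Subgroup.commutator_eq_bot_iff_le_centralizer] at h ⊢
    have hh := (le_inf le_rfl ((le_top : L ≤ ⊤).trans h)).trans heq1.ge
    exact hh.trans inf_le_right

end Cfsg.Agent.S2825
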