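import Cfsg.Statements.S2826
import Cfsg.Agent.Components.Misc.Kieler

set_option autoImplicit false
open Cfsg

namespace Cfsg.Agent.S2826

/-- Let H be a finite group of characteristic p, T a Sylow p-subgroup, and V a normal elementary abelian p-subgroup of H containing Ω₁(Z(T)). Then C_H(Ω₁(Z(T))) = C_H([V, O^p(H)] ∩ Ω₁(Z(T))), O^p(H) being generated by the elements of order prime to p. -/
theorem result {H : Type*} [Group H] [Finite H] {p : ℕ} [Fact p.Prime] (hH : Subgroup.centralizer (Cfsg.pCore p H : Set H) ≤ Cfsg.pCore p H) (T : Sylow p H) (V : Subgroup H) [V.Normal] (hV : Cfsg.IsElementaryAbelian p V) (hZV : (Cfsg.omegaOne p ((T : Subgroup H) ⊓ Subgroup.centralizer (((T : Subgroup H) : Subgroup H) : Set H))) ≤ V) : Subgroup.centralizer ((Cfsg.omegaOne p ((T : Subgroup H) ⊓ Subgroup.centralizer (((T : Subgroup H) : Subgroup H) : Set H))) : Set H) = Subgroup.centralizer (((⁅V, Cfsg.pResidual p H⁆ ⊓ (Cfsg.omegaOne p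 ((T : Subgroup H) ⊓ Subgroup.centralizer (((T : Subgroup H) : Subgroup H) : Set H)))) : Subgroup H) : Set H) := by
  open Subgroup Cfsg.Lib.Kieler in
  exact by
    set Ω := Cfsg.omegaOne p ((T : Subgroup H) ⊓ Subgroup.centralizer (((T : Subgroup H) : Subgroup H) : Set H)) with hΩ
    refine le_antisymm (centralizer_le (SetLike.coe_subset_coe.mpr inf_le_right)) fun l hl => ?_
    rw [hΩ, centralizer_omega_iff]
    intro z hz
    set K := Subgroup.centralizer (((⁅V, Cfsg.pResidual p H⁆ ⊓ Ω) : Subgroup H) : Set H)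
    have hZmem : ∀ w ∈ Zp p (T : Subgroup H), w ∈ Ω := fun w hw => subset_closure hw
    have hΩT : Ω ≤ (T : Subgroup H) ⊓ centralizer ((T : Subgroup H) : Set H) := (closure_le _).2 fun w hw => hw.1
    have hTK : (T : Subgroup H) ≤ K := fun t ht => mem_centralizer_iff.2 fun w hw =>
      (mem_centralizer_iff.1 (mem_inf.1 (hΩT (mem_inf.1 hw).2)).2 t ht).symm
    have hzV : z ∈ V := hZV (hZmem z hz)
    have hidx : ¬ p ∣ (T : Subgroup H).relIndex K :=
      fun hd => T.not_dvd_index (hd.trans (Dvd.intro _ (relIndex_mul_index hTK)))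
    obtain ⟨tr, htA, -, -, htD, htmod, -⟩ := exists_trace V (fun a ha b hb =>
      congrArg Subtype.val (hV.1.is_comm.comm ⟨a, ha⟩ ⟨b, hb⟩)) hV.2 (T : Subgroup H) K hidx
    have hzT : ∀ t ∈ (T : Subgroup H), t * z * t⁻¹ = z := fun t ht => by
      rw [mem_centralizer_iff.1 (mem_inf.1 hz.1).2 t ht, mul_inv_cancel_right]
    haveI : (Cfsg.pResidual p H).Normal := inferInstance
    have hn : tr z * z⁻¹ ∈ ⁅V, Cfsg.pResidual p H⁆ ⊓ V := htmod z hzV hzT _ inf_le_right fun d _ => by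
      obtain ⟨r, hr, t, ht, rfl⟩ := mem_sup_of_normal_left.1
        ((Cfsg.Lib.Transfer.pResidual_sup_sylow T).ge (mem_top d))
      refine mem_inf.mpr ⟨?_, mul_mem (Normal.conj_mem inferInstance z hzV _) (inv_mem hzV)⟩
      rw [show r * t * z * (r * t)⁻¹ * z⁻¹ = r * (t * z * t⁻¹) * r⁻¹ * z⁻¹ by group, hzT t ht]
      rw [commutator_comm]
      exact commutator_mem_commutator hr hzV
    have hnT : ∀ t ∈ (T : Subgroup H), t * (tr z * z⁻¹) * t⁻¹ = tr z * z⁻¹ := fun t ht => by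
      calc t * (tr z * z⁻¹) * t⁻¹ = (t * tr z * t⁻¹) * (t * z * t⁻¹)⁻¹ := by group
        _ = tr z * z⁻¹ := by rw [htD z hzV hzT t (hTK ht), hzT t ht]
    have hnmem : tr z * z⁻¹ ∈ (T : Subgroup H) := by
      obtain ⟨Q, hQ⟩ := (IsPGroup.exists_le_sylow (p := p) (P := V) fun v => ⟨1, by
        rw [pow_one]; exact Subtype.ext (hV.2 v v.2)⟩)
      obtain ⟨g, rfl⟩ := MulAction.exists_smul_eq H Q T
      exact ⟨g⁻¹ * (tr z * z⁻¹) * g, hQ (by
        simpa using (inferInstance : V.Normal).conj_mem _ (mem_inf.1 hn).2 g⁻¹),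
        by simp [MulAut.conj_apply, mul_assoc]⟩
    have hnZ : tr z * z⁻¹ ∈ ⁅V, Cfsg.pResidual p H⁆ ⊓ Ω := mem_inf.mpr ⟨(mem_inf.1 hn).1,
      hZmem _ ⟨mem_inf.mpr ⟨hnmem, mem_centralizer_iff.2 fun t ht => mul_inv_eq_iff_eq_mul.1 (hnT t ht)⟩,
        hV.2 _ (mem_inf.1 hn).2⟩⟩
    have h3 : l * (tr z * z⁻¹) * l⁻¹ = tr z * z⁻¹ :=
      mul_inv_eq_iff_eq_mul.2 (mem_centralizer_iff.1 hl _ hnZ).symm
    have h4 := htD z hzV hzT l hl
    refine (mul_inv_eq_iff_eq_mul.1 (?_ : l * z * l⁻¹ = z)).symm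
    calc l * z * l⁻¹ = (l * (tr z * z⁻¹) * l⁻¹)⁻¹ * (l * tr z * l⁻¹) := by group
      _ = z := by rw [h3, h4]; group

end Cfsg.Agent.S2826
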