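import Cfsg.Statements.S2830
import Cfsg.Agent.Components.Misc.PIrr

set_option autoImplicit false
open Cfsg

namespace Cfsg.Agent.S2830

/-- Let H act by conjugation on the elementary abelian p-subgroup V of a finite group G (H ≤ N(V)), with H p-irreducible and O^p(H) not centralizing V. Then C_H(V) is p-closed and C_T(V) ≤ O_p(H) for every p-subgroup T of H. If in addition O_p(H) centralizes V, then C_T(V) = T ∩ O_p(H) for every p-subgroup T of H, and V is p-reduced for H: O_p(H/C_H(V)) = 1. -/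
theorem result {G : Type*} [Group G] [Finite G] {p : ℕ} [Fact p.Prime] (V H : Subgroup G) (hV : Cfsg.IsElementaryAbelian p V) (hHV : H ≤ Subgroup.normalizer (V : Set G)) (hH : Cfsg.IsPIrreducible p ↥H) (hnc : ¬ (Cfsg.pResidual p ↥H).map H.subtype ≤ Subgroup.centralizer (V : Set G)) [hn : ((Subgroup.centralizer (V : Set G)).subgroupOf H).Normal] : Cfsg.IsPClosed p ↥(H ⊓ Subgroup.centralizer (V : Set G)) ∧ (∀ T : Subgroup G, T ≤ H → IsPGroup p ↥T → T ⊓ Subgroup.centralizer (V : Set G) ≤ Cfsg.pCoreOf p H) ∧ (Cfsg.pCoreOf p H ≤ Subgroup.centralizer (V : Set G) → (∀ T : Subgroup G, T ≤ H → IsPGroup p ↥T → T ⊓ Subgroup.centralizer (V : Set G) = T ⊓ Cfsg.pCoreOf p H) ∧ Cfsg.pCore p (↥H ⧸ (Subgroup.centralizer (V : Set G)).subgroupOf H) = ⊥) := by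
  open Subgroup in
  exact by
    set C := Subgroup.centralizer (V : Set G)
    haveI : (Cfsg.pCore p H).Normal := Cfsg.Lib.Components.pCore_normal' p
    have hnR : ¬ Cfsg.pResidual p H ≤ C.subgroupOf H := fun h => hnc (by
      rintro _ ⟨x, hx, rfl⟩
      exact h hx)
    have hCcl : Cfsg.IsPClosed p ↥(C.subgroupOf H) := by
      by_contra h
      exact hnR (hH.2 _ hn h)
    have hsyl : ∀ T : Sylow p H, (T : Subgroup H) ⊓ C.subgroupOf H ≤ Cfsg.pCore p H := fun T =>
      (Cfsg.Lib.PIrr.isPClosed_iff T).1 hCcl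
    have hT : ∀ T : Subgroup G, T ≤ H → IsPGroup p T → T ⊓ C ≤ Cfsg.pCoreOf p H := by
      intro T hTH hTp x hx
      obtain ⟨S, hS⟩ := (hTp.comap_subtype (K := H)).exists_le_sylow
      exact ⟨⟨x, hTH (mem_inf.1 hx).1⟩, hsyl S (mem_inf.mpr ⟨hS (mem_inf.1 hx).1, (mem_inf.1 hx).2⟩), rfl⟩
    refine ⟨?_, hT, fun hQC => ⟨fun T hTH hTp => le_antisymm (le_inf inf_le_left (hT T hTH hTp))
      (le_inf inf_le_left (inf_le_right.trans hQC)), ?_⟩⟩
    · intro S
      let e : ↥(C.subgroupOf H) ≃* ↥(H ⊓ C) :=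
        { toFun := fun x => ⟨x.1.1, mem_inf.mpr ⟨x.1.2, x.2⟩⟩
          invFun := fun x => ⟨⟨x.1, (mem_inf.1 x.2).1⟩, (mem_inf.1 x.2).2⟩
          left_inv := fun x => rfl
          right_inv := fun x => rfl
          map_mul' := fun x y => rfl }
      have hn' := hCcl (S.comapOfInjective e.toMonoidHom e.injective (by rw [MonoidHom.range_eq_top.2 e.surjective]; exact le_top))
      have h1 : ((S : Subgroup ↥(H ⊓ C)).comap e.toMonoidHom).map e.toMonoidHom = S :=
        map_comap_eq_self_of_surjective e.surjective _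
      rw [← h1]
      exact Normal.map hn' _ e.surjective
    · have hQC' : Cfsg.pCore p H ≤ C.subgroupOf H := fun x hx => hQC ⟨x, hx, rfl⟩
      set π := QuotientGroup.mk' (C.subgroupOf H)
      haveI : (Cfsg.pCore p (↥H ⧸ C.subgroupOf H)).Normal := Cfsg.Lib.Components.pCore_normal' p
      set M := (Cfsg.pCore p (↥H ⧸ C.subgroupOf H)).comap π with hM
      have hco : ∀ x ∈ M, (orderOf x).Coprime p → x ∈ C.subgroupOf H := fun x hx hco => by
        obtain ⟨k, hk⟩ := Cfsg.Lib.Components.isPGroup_pCore p ⟨_, hx⟩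
        exact (QuotientGroup.eq_one_iff x).1 (orderOf_eq_one_iff.1 (Nat.eq_one_of_dvd_coprimes (hco.pow_right k)
          (orderOf_map_dvd π x) (orderOf_dvd_of_pow_eq_one (congrArg Subtype.val hk :))))
      have hMcl : Cfsg.IsPClosed p M := by
        by_contra h
        have hR := hH.2 M inferInstance h
        exact hnR ((closure_le _).2 fun x hx => hco x (hR (Cfsg.Lib.Transfer.mem_pResidual_of_coprime hx)) hx)
      have hMC : M ≤ C.subgroupOf H := by
        intro m hm
        obtain ⟨a, b, ha, hb, hab, ⟨k, hk⟩, hbco⟩ := Cfsg.Lib.Transfer.exists_pPart p m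
        obtain ⟨S, hS⟩ := (IsPGroup.of_card (p := p) (by rw [Nat.card_zpowers, hk] : Nat.card (zpowers a) = p ^ k)).exists_le_sylow
        have haM : a ∈ M := zpowers_le.2 hm ha
        rw [← hab]
        exact mul_mem (hQC' ((Cfsg.Lib.PIrr.isPClosed_iff S).1 hMcl (mem_inf.mpr ⟨hS (mem_zpowers a), haM⟩)))
          (hco b (zpowers_le.2 hm hb) hbco)
      rw [eq_bot_iff, ← map_comap_eq_self_of_surjective (QuotientGroup.mk'_surjective (C.subgroupOf H)) (Cfsg.pCore p (↥H ⧸ C.subgroupOf H))]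
      rintro _ ⟨m, hm, rfl⟩
      exact mem_bot.2 ((QuotientGroup.eq_one_iff m).2 (hMC hm))

end Cfsg.Agent.S2830
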