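import Cfsg.Statements.S2831
import Cfsg.Agent.Transfer.Basic
import Cfsg.Agent.Transfer.IndexPrimeTo

set_option autoImplicit false
open Cfsg

namespace Cfsg.Agent.S2831

/-- Let H be a finite group with Sylow p-subgroup T such that H is T-minimal (H is generated by the conjugates of T and T lies in exactly one maximal subgroup of H). Then H is p-irreducible: H is not p-closed and O^p(H) lies in every normal subgroup of H that is not p-closed. -/
theorem result {H : Type*} [Group H] [Finite H] {p : ℕ} [Fact p.Prime] (T : Sylow p H) (hmin : Cfsg.IsMinimalOver (T : Subgroup H)) : Cfsg.IsPIrreducible p H := by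
  obtain ⟨hgen, M, ⟨hM, hTM⟩, huniq⟩ := hmin
  constructor
  · intro hcl
    haveI := hcl T
    have hTtop : (T : Subgroup H) = ⊤ := by
      rw [← hgen]; exact (Subgroup.normalClosure_eq_self (T : Subgroup H)).symm
    exact hM.1 (top_le_iff.1 (hTtop ▸ hTM))
  intro N hN hncl
  haveI := hN
  by_contra hle
  obtain ⟨A, hA⟩ : ∃ A : Sylow p N, (A : Subgroup N) = (T : Subgroup H).subgroupOf N := by
    have h : IsPGroup p ((T : Subgroup H).subgroupOf N) := T.isPGroup'.comap_subtype
    have hidx : ¬ p ∣ ((T : Subgroup H).subgroupOf N).index := by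
      show ¬ p ∣ (T : Subgroup H).relIndex N
      rw [Cfsg.Lib.Transfer.relIndex_eq_relIndex_sup_of_normal _ N]
      exact fun hd => T.not_dvd_index (hd.trans (Dvd.intro _ (Subgroup.relIndex_mul_index le_sup_left)))
    exact ⟨h.toSylow hidx, rfl⟩
  have hprop : (T : Subgroup H) ⊔ N ≠ ⊤ := by
    intro htop
    refine hle ?_
    rw [pResidual, Subgroup.closure_le]
    intro x hx
    refine (QuotientGroup.eq_one_iff x).1 (orderOf_eq_one_iff.1 ?_)
    have hq : QuotientGroup.mk' N x ∈ (T : Subgroup H).map (QuotientGroup.mk' N) := by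
      have : x ∈ (T : Subgroup H) ⊔ N := by rw [htop]; trivial
      obtain ⟨t, ht, n, hn, rfl⟩ := Subgroup.mem_sup_of_normal_right.1 this
      refine ⟨t, ht, ?_⟩
      rw [map_mul, show QuotientGroup.mk' N n = 1 from (QuotientGroup.eq_one_iff n).2 hn, mul_one]
    obtain ⟨a, ha⟩ := (T.isPGroup'.map (QuotientGroup.mk' N)) ⟨_, hq⟩
    have h2 : (QuotientGroup.mk' N x) ^ p ^ a = 1 := congrArg Subtype.val ha
    exact Nat.eq_one_of_dvd_coprimes (Nat.Coprime.pow_right a hx) ((orderOf_map_dvd (QuotientGroup.mk' N) x).trans dvd_rfl)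
      (orderOf_dvd_of_pow_eq_one h2)
  obtain ⟨M1, hM1, hle1⟩ := (eq_top_or_exists_le_coatom _).resolve_left hprop
  obtain rfl := huniq M1 ⟨hM1, le_sup_left.trans hle1⟩
  set R := (A : Subgroup N).map N.subtype with hR
  have hRT : R = (T : Subgroup H) ⊓ N := by rw [hR, hA, Subgroup.subgroupOf_map_subtype]
  have hnorm : Subgroup.normalizer (R : Set H) = ⊤ := by
    by_contra hne
    obtain ⟨M2, hM2, hle2⟩ := (eq_top_or_exists_le_coatom _).resolve_left hne
    have hTR : (T : Subgroup H) ≤ Subgroup.normalizer (R : Set H) := by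
      rw [hRT]
      intro t ht
      refine Subgroup.mem_normalizer_iff.2 fun z => ?_
      have h1 := Subgroup.mem_normalizer_iff.1 (Subgroup.le_normalizer ht) z
      rw [Subgroup.mem_inf, Subgroup.mem_inf, h1]
      refine and_congr Iff.rfl ⟨fun hz => hN.conj_mem z hz t, fun hz => ?_⟩
      simpa [mul_assoc] using hN.conj_mem _ hz t⁻¹
    obtain rfl := huniq M2 ⟨hM2, hTR.trans hle2⟩
    refine hM1.1 (top_le_iff.1 ?_)
    rw [← Sylow.normalizer_sup_eq_top A]
    exact sup_le hle2 (le_sup_right.trans hle1)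
  apply hncl
  intro S
  haveI hRn : R.Normal := Subgroup.normalizer_eq_top_iff.1 hnorm
  have hAn : (A : Subgroup N).Normal := by
    rw [← Subgroup.comap_map_eq_self_of_injective N.subtype_injective (A : Subgroup N)]
    exact Subgroup.Normal.comap hRn _
  obtain ⟨g, hg⟩ := MulAction.exists_smul_eq N A S
  rw [← hg, Sylow.smul_eq_of_normal]
  exact hAn

end Cfsg.Agent.S2831
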