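import Cfsg.Statements.S2832
import Cfsg.Agent.Transfer.Basic

set_option autoImplicit false
open Cfsg

namespace Cfsg.Agent.S2832

/-- Let H be a finite group with Sylow p-subgroup T such that H is T-minimal (generated by the conjugates of T, with T in exactly one maximal subgroup), and let N be a normal subgroup of H. Then either H/N is a p-group or H/N is minimal over the image of T in the same sense. -/
theorem result {H : Type*} [Group H] [Finite H] {p : ℕ} [Fact p.Prime] (T : Sylow p H) (hmin : Cfsg.IsMinimalOver (T : Subgroup H)) (N : Subgroup H) [N.Normal] : IsPGroup p (H ⧸ N) ∨ Cfsg.IsMinimalOver ((T : Subgroup H).map (QuotientGroup.mk' N)) := by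
  obtain ⟨hgen, M, ⟨hM, hTM⟩, huniq⟩ := hmin
  set q := QuotientGroup.mk' N with hq
  by_cases htop : (T : Subgroup H).map q = ⊤
  · left
    have h := T.isPGroup'.map q
    rw [htop] at h
    exact h.of_equiv Subgroup.topEquiv
  right
  constructor
  · rw [eq_top_iff, ← Subgroup.map_top_of_surjective q (QuotientGroup.mk'_surjective N), ← hgen,
      Subgroup.map_normalClosure _ q (QuotientGroup.mk'_surjective N)]
    exact le_rfl
  obtain ⟨M1, hM1, hle1⟩ := (eq_top_or_exists_le_coatom _).resolve_left htop
  have key : ∀ M' : Subgroup (H ⧸ N), IsCoatom M' → (T : Subgroup H).map q ≤ M' → M'.comap q = M := by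
    intro M' hM' hle'
    refine huniq _ ⟨⟨fun h => hM'.1 ?_, fun K hK => ?_⟩, Subgroup.map_le_iff_le_comap.1 hle'⟩
    · rw [← Subgroup.map_comap_eq_self_of_surjective (QuotientGroup.mk'_surjective N) M', ← hq, h,
        Subgroup.map_top_of_surjective q (QuotientGroup.mk'_surjective N)]
    · have hNK : N ≤ K := le_trans (fun n hn => by
        rw [Subgroup.mem_comap, show q n = 1 from (QuotientGroup.eq_one_iff n).2 hn]
        exact one_mem _) hK.le
      have hK' : (K.map q).comap q = K := by
        rw [Subgroup.comap_map_eq, hq, QuotientGroup.ker_mk', sup_eq_left.2 hNK]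
      have hlt : M' < K.map q := lt_of_le_of_ne
        (by
          rw [← Subgroup.map_comap_eq_self_of_surjective (QuotientGroup.mk'_surjective N) M']
          exact Subgroup.map_mono hK.le)
        (fun he => hK.ne (by rw [he, hK']))
      rw [← hK', hM'.2 _ hlt, Subgroup.comap_top]
  refine ⟨M1, ⟨hM1, hle1⟩, fun M2 h2 => ?_⟩
  rw [← Subgroup.map_comap_eq_self_of_surjective (QuotientGroup.mk'_surjective N) M2,
    ← Subgroup.map_comap_eq_self_of_surjective (QuotientGroup.mk'_surjective N) M1, ← hq,
    key M2 h2.1 h2.2, key M1 hM1 hle1]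

end Cfsg.Agent.S2832
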