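import Cfsg.Statements.S2833
import Cfsg.Agent.Coprime.Action

set_option autoImplicit false
open Cfsg

namespace Cfsg.Agent.S2833

/-- Let V be a subgroup of a finite group G normalized by the subgroup L, let X ≤ L and g ∈ L with [V, X, X] = 1 and L generated by X and gXg⁻¹. Put W = [V, L]. Then W = [V, X]·[V, gXg⁻¹], C_W(X) = [V, X], and C_W(L) = [V, X] ∩ [V, gXg⁻¹]. -/
theorem result {G : Type*} [Group G] [Finite G] (V L : Subgroup G) (hLV : L ≤ Subgroup.normalizer (V : Set G)) (X : Subgroup G) (hX : X ≤ L) (g : G) (hg : g ∈ L) (hq : ⁅⁅V, X⁆, X⁆ = ⊥) (hgen : X ⊔ X.map (MulAut.conj g).toMonoidHom = L) (W : Subgroup G) (hW : W = ⁅V, L⁆) : ⁅V, X⁆ ⊔ ⁅V, X.map (MulAut.conj g).toMonoidHom⁆ = W ∧ W ⊓ Subgroup.centralizer (X : Set G) = ⁅V, X⁆ ∧ W ⊓ Subgroup.centralizer (L : Set G) = ⁅V, X⁆ ⊓ ⁅V, X.map (MulAut.conj g).toMonoidHom⁆ := by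
  open Subgroup in
  open scoped commutatorElement in
  exact by
    set X' := X.map (MulAut.conj g).toMonoidHom with hX'
    subst hW
    have hgV : g ∈ normalizer (V : Set G) := hLV hg
    have hX'L : X' ≤ L := hgen ▸ le_sup_right
    have hconj : ∀ y, y ∈ ⁅V, X⁆ → g * y * g⁻¹ ∈ ⁅V, X'⁆ := by
      intro y hy
      have h : (⁅V, X⁆).map (MulAut.conj g).toMonoidHom ≤ ⁅V, X'⁆ := by
        rw [map_commutator]
        refine commutator_mono ?_ le_rfl
        rintro _ ⟨v, hv, rfl⟩
        exact (mem_normalizer_iff.1 hgV v).1 hv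
      exact h ⟨y, hy, rfl⟩
    have hconj' : ∀ y, y ∈ ⁅V, X'⁆ → g⁻¹ * y * g ∈ ⁅V, X⁆ := by
      intro y hy
      have h : (⁅V, X'⁆).map (MulAut.conj g⁻¹).toMonoidHom ≤ ⁅V, X⁆ := by
        rw [map_commutator]
        refine commutator_mono ?_ ?_
        · rintro _ ⟨v, hv, rfl⟩
          exact (mem_normalizer_iff.1 (inv_mem hgV) v).1 hv
        · rintro _ ⟨_, ⟨u, hu, rfl⟩, rfl⟩
          simpa [mul_assoc] using hu
      have := h ⟨y, hy, rfl⟩
      simpa using this
    have hXc : ∀ y ∈ ⁅V, X⁆, y ∈ centralizer (X : Set G) := fun y hy =>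
      (commutator_eq_bot_iff_le_centralizer.1 hq) hy
    have hX'c : ∀ y ∈ ⁅V, X'⁆, y ∈ centralizer (X' : Set G) := by
      intro y hy
      refine mem_centralizer_iff.2 ?_
      rintro _ ⟨u, hu, rfl⟩
      have h := mem_centralizer_iff.1 (hXc _ (hconj' y hy)) u hu
      show g * u * g⁻¹ * y = y * (g * u * g⁻¹)
      calc g * u * g⁻¹ * y = g * (u * (g⁻¹ * y * g)) * g⁻¹ := by group
        _ = g * ((g⁻¹ * y * g) * u) * g⁻¹ := by rw [h]
        _ = y * (g * u * g⁻¹) := by group
    have hle : ∀ Y : Subgroup G, Y ≤ L → ⁅V, Y⁆ ≤ V := fun Y hY =>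
      le_normalizer_iff_commutator_le_left.1 (hY.trans hLV)
    set P := ⁅V, X⁆ ⊔ ⁅V, X'⁆ with hP
    have hPV : P ≤ V := sup_le (hle X hX) (hle X' hX'L)
    have hnV : ∀ Y : Subgroup G, V ≤ normalizer ((⁅V, Y⁆ : Subgroup G) : Set G) := fun Y =>
      Cfsg.Lib.Coprime.le_normalizer_commutator_left Y V
    have hVP : V ≤ normalizer (P : Set G) := Cfsg.Lib.Coprime.le_normalizer_sup (hnV X) (hnV X')
    have hXP : ∀ Y : Subgroup G, (Y = X ∨ Y = X') → Y ≤ normalizer (P : Set G) := by
      intro Y hY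
      rw [le_normalizer_iff_commutator_le_left]
      calc ⁅P, Y⁆ ≤ ⁅V, Y⁆ := commutator_mono hPV le_rfl
        _ ≤ P := by rcases hY with rfl | rfl <;> [exact le_sup_left; exact le_sup_right]
    have hWP : ⁅V, L⁆ ≤ P := by
      have hLn : L ≤ normalizer (P : Set G) := hgen ▸ sup_le (hXP X (Or.inl rfl)) (hXP X' (Or.inr rfl))
      refine commutator_le.2 fun v hv l hl => ?_
      rw [← hgen] at hl
      rw [sup_eq_closure] at hl
      induction hl using closure_induction with
      | mem l hl =>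
        rcases hl with hl | hl
        · exact mem_sup_left (commutator_mem_commutator hv hl)
        · exact mem_sup_right (commutator_mem_commutator hv hl)
      | one => simp [P.one_mem]
      | mul a b ha hb iha ihb =>
        have ha' : a ∈ L := by rw [← hgen, sup_eq_closure]; exact ha
        have h := (mem_normalizer_iff.1 (hLn ha') _).1 ihb
        have := P.mul_mem iha h
        convert this using 1
        simp only [commutatorElement_def]; group
      | inv a ha iha =>
        have ha' : a ∈ L := by rw [← hgen, sup_eq_closure]; exact ha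
        have h := (mem_normalizer_iff.1 (inv_mem (hLn ha')) _).1 (P.inv_mem iha)
        convert h using 1
        simp only [commutatorElement_def]; group
    have hPW : P ≤ ⁅V, L⁆ := sup_le (commutator_mono le_rfl hX) (commutator_mono le_rfl hX'L)
    have hsplit : ∀ w ∈ P, ∃ u ∈ ⁅V, X⁆, ∃ v ∈ ⁅V, X'⁆, u * v = w := by
      intro w hw
      have hw' : w ∈ ((⁅V, X⁆ ⊔ ⁅V, X'⁆ : Subgroup G) : Set G) := hw
      rw [coe_mul_of_right_le_normalizer_left _ _ ((hle X' hX'L).trans (hnV X))] at hw'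
      obtain ⟨u, hu, v, hv, e⟩ := hw'
      exact ⟨u, hu, v, hv, e⟩
    have hcent : ∀ v, v ∈ centralizer (X : Set G) → v ∈ centralizer (X' : Set G) → v ∈ centralizer (L : Set G) := by
      intro v h1 h2
      refine mem_centralizer_iff.2 fun l hl => ?_
      have : L ≤ centralizer ({v} : Set G) := hgen ▸ sup_le
        (fun u hu => mem_centralizer_singleton_iff.2 (mem_centralizer_iff.1 h1 u hu))
        (fun u hu => mem_centralizer_singleton_iff.2 (mem_centralizer_iff.1 h2 u hu))
      exact mem_centralizer_singleton_iff.1 (this hl)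
    refine ⟨le_antisymm hPW hWP, le_antisymm ?_ ?_, le_antisymm ?_ ?_⟩
    · rintro w ⟨hw, hwX⟩
      obtain ⟨u, hu, v, hv, rfl⟩ := hsplit w (hWP hw)
      have hvX : v ∈ centralizer (X : Set G) := by
        have := Subgroup.mul_mem _ (Subgroup.inv_mem _ (hXc u hu)) hwX
        rwa [inv_mul_cancel_left] at this
      have hgv := mem_centralizer_iff.1 (hcent v hvX (hX'c v hv)) g hg
      have := hconj' v hv
      rw [mul_assoc, ← hgv, inv_mul_cancel_left] at this
      exact Subgroup.mul_mem _ hu this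
    · exact le_inf (commutator_mono le_rfl hX) hXc
    · rintro w ⟨hw, hwL⟩
      have hwX : w ∈ centralizer (X : Set G) := mem_centralizer_iff.2 fun u hu => mem_centralizer_iff.1 hwL u (hX hu)
      obtain ⟨u, hu, v, hv, rfl⟩ := hsplit w (hWP hw)
      have hvX : v ∈ centralizer (X : Set G) := by
        have := Subgroup.mul_mem _ (Subgroup.inv_mem _ (hXc u hu)) hwX
        rwa [inv_mul_cancel_left] at this
      have hgv := mem_centralizer_iff.1 (hcent v hvX (hX'c v hv)) g hg
      have hv' := hconj' v hv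
      rw [mul_assoc, ← hgv, inv_mul_cancel_left] at hv'
      have hw1 : u * v ∈ ⁅V, X⁆ := Subgroup.mul_mem _ hu hv'
      refine ⟨hw1, ?_⟩
      have := hconj _ hw1
      rwa [mem_centralizer_iff.1 hwL g hg, mul_inv_cancel_right] at this
    · exact fun w hw => ⟨hPW (mem_sup_left hw.1), hcent w (hXc w hw.1) (hX'c w hw.2)⟩

end Cfsg.Agent.S2833
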