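import Cfsg.Statements.S2835
import Cfsg.Agent.Components.Misc.YMin

set_option autoImplicit false
open Cfsg

namespace Cfsg.Agent.S2835

/-- Let L be a finite group, L₀ a maximal subgroup, T a Sylow p-subgroup of L₀ and Y ≤ T, and suppose L is Y-minimal (generated by the conjugates of Y, with Y in exactly one maximal subgroup, necessarily L₀). Then N_L(T) ≤ L₀, O_p(L) ≤ L₀ and T is a Sylow p-subgroup of L; N_L(L₀) = L₀; L = ⟨Y, gYg⁻¹⟩ for each g ∈ L outside L₀; and if Y is abelian then Y ∩ gYg⁻¹ = C_Y(L) for each such g. -/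
theorem result {L : Type*} [Group L] [Finite L] {p : ℕ} [Fact p.Prime] (L₀ : Subgroup L) (hL₀ : IsCoatom L₀) (T : Sylow p ↥L₀) (Y : Subgroup L) (hYT : Y ≤ (T : Subgroup ↥L₀).map L₀.subtype) (hmin : Cfsg.IsMinimalOver Y) : Subgroup.normalizer (((T : Subgroup ↥L₀).map L₀.subtype : Subgroup L) : Set L) ≤ L₀ ∧ Cfsg.pCore p L ≤ L₀ ∧ (∃ P : Sylow p L, (P : Subgroup L) = (T : Subgroup ↥L₀).map L₀.subtype) ∧ Subgroup.normalizer (L₀ : Set L) = L₀ ∧ (∀ g : L, g ∉ L₀ → Y ⊔ Y.map (MulAut.conj g).toMonoidHom = ⊤) ∧ (IsMulCommutative ↥Y → ∀ g : L, g ∉ L₀ → Y ⊓ Y.map (MulAut.conj g).toMonoidHom = Y ⊓ Subgroup.center L) := by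
  open Subgroup in
  exact by
    have hY₀ : Y ≤ L₀ := hYT.trans (map_subtype_le _)
    obtain ⟨h1, h2, h3⟩ := Cfsg.Lib.YMin.basic hL₀ T hYT hmin
    have hN := Cfsg.Lib.YMin.normalizer_L0 hL₀ hY₀ hmin
    have hgen : ∀ g : L, g ∉ L₀ → Y ⊔ Y.map (MulAut.conj g).toMonoidHom = ⊤ := by
      intro g hg
      by_contra hne
      have hle := Cfsg.Lib.YMin.le_of_mem hL₀ hY₀ hmin hne le_sup_left
      have h5 : L₀.map (MulAut.conj g⁻¹).toMonoidHom ≤ L₀ := by
        refine Cfsg.Lib.YMin.le_of_mem hL₀ hY₀ hmin (fun h => hL₀.1 (eq_top_iff.2 fun w _ => ?_)) fun y hy =>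
          ⟨g * y * g⁻¹, hle (mem_sup_right ⟨y, hy, rfl⟩), by simp [mul_assoc]⟩
        obtain ⟨z, hz, hzw⟩ := h.ge (mem_top (g⁻¹ * w * g))
        have hzw' : g⁻¹ * z * g = g⁻¹ * w * g := by simpa using hzw
        rwa [mul_left_cancel (mul_right_cancel hzw')] at hz
      have h6 : g⁻¹ ∈ Subgroup.normalizer (L₀ : Set L) := mem_normalizer_iff_map_conj_eq.2
        (eq_of_le_of_card_ge h5 (card_map_of_injective (MulEquiv.injective _)).ge)
      rw [hN] at h6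
      exact hg (inv_mem_iff.1 h6)
    refine ⟨h1, h2, h3, hN, hgen, fun hab g hg => le_antisymm (fun x hx => ?_) fun x hx => ?_⟩
    · obtain ⟨hxY, z, hz, hzx⟩ := mem_inf.1 hx
      refine mem_inf.mpr ⟨hxY, mem_center_iff.2 fun w => ?_⟩
      have hw : Y ⊔ Y.map (MulAut.conj g).toMonoidHom ≤ Subgroup.centralizer ({x} : Set L) := by
        refine sup_le (fun y hy => mem_centralizer_singleton_iff.2 (congrArg Subtype.val (hab.is_comm.comm ⟨y, hy⟩ ⟨x, hxY⟩) :)) ?_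
        rintro _ ⟨y, hy, rfl⟩
        refine mem_centralizer_singleton_iff.2 ?_
        rw [← hzx, ← map_mul, ← map_mul]
        exact congrArg _ (congrArg Subtype.val (hab.is_comm.comm ⟨y, hy⟩ ⟨z, hz⟩) :)
      rw [hgen g hg] at hw
      exact mem_centralizer_singleton_iff.1 (hw (mem_top w))
    · obtain ⟨hxY, hxc⟩ := mem_inf.1 hx
      refine mem_inf.mpr ⟨hxY, x, hxY, ?_⟩
      simp [mem_center_iff.1 hxc g]

end Cfsg.Agent.S2835
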