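import Cfsg.Statements.S2837
import Cfsg.Agent.Components.Misc.YMin
import Cfsg.Agent.SolvStruct.PGroupBasics
import Cfsg.Agent.PGroups.Basic

set_option autoImplicit false
open Cfsg

namespace Cfsg.Agent.S2837

/-- Let L be a finite group of characteristic p, L₀ a maximal subgroup, Y an elementary abelian p-subgroup of L₀ with L Y-minimal and O_p(L) ≤ N_L(Y). Put A = the normal closure of O_p(L) ∩ Y in L. Then for every g ∈ L outside L₀: Φ(A) = A' = [A ∩ Y, A] = [A ∩ Y, A ∩ gYg⁻¹] ≤ C_Y(L), and Y ∩ gYg⁻¹ = (A ∩ Y) ∩ (A ∩ gYg⁻¹) = C_Y(L) = C_A(L). -/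
theorem result {L : Type*} [Group L] [Finite L] {p : ℕ} [Fact p.Prime] (hchar : Subgroup.centralizer (Cfsg.pCore p L : Set L) ≤ Cfsg.pCore p L) (L₀ : Subgroup L) (hL₀ : IsCoatom L₀) (Y : Subgroup L) (hYL₀ : Y ≤ L₀) (hYel : Cfsg.IsElementaryAbelian p Y) (hmin : Cfsg.IsMinimalOver Y) (hOY : Cfsg.pCore p L ≤ Subgroup.normalizer (Y : Set L)) (A : Subgroup L) (hA : A = Subgroup.normalClosure (((Cfsg.pCore p L ⊓ Y : Subgroup L)) : Set L)) (g : L) (hg : g ∉ L₀) : (frattini ↥A).map A.subtype = ⁅A, A⁆ ∧ ⁅A, A⁆ = ⁅A ⊓ Y, A⁆ ∧ ⁅A ⊓ Y, A⁆ = ⁅A ⊓ Y, A ⊓ Y.map (MulAut.conj g).toMonoidHom⁆ ∧ ⁅A ⊓ Y, A⁆ ≤ Y ⊓ Subgroup.center L ∧ Y ⊓ Y.map (MulAut.conj g).toMonoidHom = Y ⊓ Subgroup.center L ∧ (A ⊓ Y) ⊓ (A ⊓ Y.map (MulAut.conj g).toMonoidHom) = Y ⊓ Subgroup.center L ∧ A ⊓ Subgroup.center L = Y ⊓ Subgroup.center L := by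
  open Subgroup in
  open scoped commutatorElement in
  exact by
    haveI : (Cfsg.pCore p L).Normal := Cfsg.Lib.Components.pCore_normal' p
    set O := Cfsg.pCore p L with hO
    have hOp : IsPGroup p O := Cfsg.Lib.Components.isPGroup_pCore p
    have hYab : ∀ a ∈ Y, ∀ b ∈ Y, a * b = b * a := fun a ha b hb =>
      congrArg Subtype.val (hYel.1.is_comm.comm ⟨a, ha⟩ ⟨b, hb⟩)
    have hN := Cfsg.Lib.YMin.normalizer_L0 hL₀ hYL₀ hmin
    set Yg := Y.map (MulAut.conj g).toMonoidHom with hYg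
    have hgen : Y ⊔ Yg = ⊤ := by
      by_contra hne
      have hle := Cfsg.Lib.YMin.le_of_mem hL₀ hYL₀ hmin hne le_sup_left
      have h5 : L₀.map (MulAut.conj g⁻¹).toMonoidHom ≤ L₀ := by
        refine Cfsg.Lib.YMin.le_of_mem hL₀ hYL₀ hmin (fun h => hL₀.1 (eq_top_iff.2 fun w _ => ?_)) fun y hy =>
          ⟨g * y * g⁻¹, hle (mem_sup_right ⟨y, hy, rfl⟩), by simp [mul_assoc]⟩
        obtain ⟨z, hz, hzw⟩ := h.ge (mem_top (g⁻¹ * w * g))
        have hzw' : g⁻¹ * z * g = g⁻¹ * w * g := by simpa using hzw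
        rwa [mul_left_cancel (mul_right_cancel hzw')] at hz
      have h6 : g⁻¹ ∈ Subgroup.normalizer (L₀ : Set L) := mem_normalizer_iff_map_conj_eq.2
        (eq_of_le_of_card_ge h5 (card_map_of_injective (MulEquiv.injective _)).ge)
      rw [hN] at h6
      exact hg (inv_mem_iff.1 h6)
    have hcent : ∀ x : L, (∀ y ∈ Y, y * x = x * y) → (∀ y ∈ Yg, y * x = x * y) → x ∈ center L := fun x h1 h2 => by
      have hw : Y ⊔ Yg ≤ Subgroup.centralizer ({x} : Set L) :=
        sup_le (fun y hy => mem_centralizer_singleton_iff.2 (h1 y hy))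
          fun y hy => mem_centralizer_singleton_iff.2 (h2 y hy)
      rw [hgen] at hw
      exact mem_center_iff.2 fun w => mem_centralizer_singleton_iff.1 (hw (mem_top w))
    have hYgab : ∀ a ∈ Yg, ∀ b ∈ Yg, a * b = b * a := by
      rintro _ ⟨a, ha, rfl⟩ _ ⟨b, hb, rfl⟩
      rw [← map_mul, ← map_mul, hYab a ha b hb]
    have hZg : ∀ z ∈ Y ⊓ center L, z ∈ Yg := fun z hz => ⟨z, (mem_inf.1 hz).1, by
      simp [mem_center_iff.1 (mem_inf.1 hz).2 g]⟩
    have hYY : Y ⊓ Yg = Y ⊓ center L := le_antisymm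
      (fun x hx => mem_inf.mpr ⟨(mem_inf.1 hx).1, hcent x (fun y hy => hYab y hy x (mem_inf.1 hx).1)
        fun y hy => hYgab y hy x (mem_inf.1 hx).2⟩)
      fun z hz => mem_inf.mpr ⟨(mem_inf.1 hz).1, hZg z hz⟩
    set U := O ⊓ Y with hU
    set V := O ⊓ Yg with hV
    have hVU : ∀ v ∈ V, ∃ u ∈ U, g * u * g⁻¹ = v := fun v hv => by
      obtain ⟨hvO, y, hy, rfl⟩ := mem_inf.1 hv
      refine ⟨y, mem_inf.mpr ⟨?_, hy⟩, rfl⟩
      simpa [mul_assoc] using (inferInstance : O.Normal).conj_mem _ hvO g⁻¹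
    have hOYg : ∀ a ∈ O, ∀ y ∈ Yg, a * y * a⁻¹ ∈ Yg := by
      rintro a ha _ ⟨y, hy, rfl⟩
      have h1 : g⁻¹ * a * g ∈ O := (inferInstance : O.Normal).conj_mem' a ha g
      refine ⟨(g⁻¹ * a * g) * y * (g⁻¹ * a * g)⁻¹, (mem_normalizer_iff.1 (hOY h1) y).1 hy, ?_⟩
      simp [mul_assoc]
    have hUn : ∀ a ∈ O, ∀ u ∈ U, a * u * a⁻¹ ∈ U := fun a ha u hu =>
      mem_inf.mpr ⟨(inferInstance : O.Normal).conj_mem u (mem_inf.1 hu).1 a, (mem_normalizer_iff.1 (hOY ha) u).1 (mem_inf.1 hu).2⟩
    have hA' : A = U ⊔ V := by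
      refine le_antisymm (hA ▸ ?_) (hA ▸ sup_le subset_normalClosure fun v hv => ?_)
      · haveI : (U ⊔ V).Normal := by
          refine normalizer_eq_top_iff.1 (top_le_iff.1 (hgen.ge.trans ?_))
          suffices h : ∀ y : L, (y ∈ Y ∨ y ∈ Yg) → ∀ x ∈ U ⊔ V, y * x * y⁻¹ ∈ U ⊔ V by
            refine sup_le (fun y hy => mem_normalizer_iff.2 fun x => ⟨h y (Or.inl hy) x, fun hx => ?_⟩)
              fun y hy => mem_normalizer_iff.2 fun x => ⟨h y (Or.inr hy) x, fun hx => ?_⟩
            · simpa [mul_assoc] using h y⁻¹ (Or.inl (inv_mem hy)) _ hx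
            · simpa [mul_assoc] using h y⁻¹ (Or.inr (inv_mem hy)) _ hx
          intro y hy x hx
          refine (show U ⊔ V ≤ (U ⊔ V).comap (MulAut.conj y).toMonoidHom from sup_le (fun u hu => ?_) fun v hv => ?_) hx
          · show y * u * y⁻¹ ∈ U ⊔ V
            rcases hy with hy | hy
            · rw [hYab y hy u (mem_inf.1 hu).2, mul_inv_cancel_right]; exact mem_sup_left hu
            · rw [show y * u * y⁻¹ = (y * (u * y⁻¹ * u⁻¹)) * u by group]
              exact mul_mem (mem_sup_right (mem_inf.mpr ⟨by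
                rw [show y * (u * y⁻¹ * u⁻¹) = (y * u * y⁻¹) * u⁻¹ by group]
                exact mul_mem ((inferInstance : O.Normal).conj_mem u (mem_inf.1 hu).1 y) (inv_mem (mem_inf.1 hu).1),
                mul_mem hy (hOYg u (mem_inf.1 hu).1 _ (inv_mem hy))⟩)) (mem_sup_left hu)
          · show y * v * y⁻¹ ∈ U ⊔ V
            rcases hy with hy | hy
            · rw [show y * v * y⁻¹ = (y * (v * y⁻¹ * v⁻¹)) * v by group]
              exact mul_mem (mem_sup_left (mem_inf.mpr ⟨by
                rw [show y * (v * y⁻¹ * v⁻¹) = (y * v * y⁻¹) * v⁻¹ by group]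
                exact mul_mem ((inferInstance : O.Normal).conj_mem v (mem_inf.1 hv).1 y) (inv_mem (mem_inf.1 hv).1),
                mul_mem hy ((mem_normalizer_iff.1 (hOY (mem_inf.1 hv).1) _).1 (inv_mem hy))⟩)) (mem_sup_right hv)
            · rw [hYgab y hy v (mem_inf.1 hv).2, mul_inv_cancel_right]; exact mem_sup_right hv
        exact normalClosure_le_normal (SetLike.coe_subset_coe.mpr le_sup_left)
      · obtain ⟨u, hu, rfl⟩ := hVU v hv
        exact normalClosure_normal.conj_mem u (subset_normalClosure hu) g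
    have hAO : A ≤ O := hA' ▸ sup_le inf_le_left inf_le_left
    have hAY : A ⊓ Y = U := le_antisymm (inf_le_inf_right Y hAO) (le_inf (hA' ▸ le_sup_left) inf_le_right)
    have hAYg : A ⊓ Yg = V := le_antisymm (inf_le_inf_right Yg hAO) (le_inf (hA' ▸ le_sup_right) inf_le_right)
    have hUV : ⁅U, V⁆ ≤ Y ⊓ center L := by
      rw [← hYY]
      refine commutator_le.2 fun u hu v hv => mem_inf.mpr ⟨?_, ?_⟩
      · rw [show ⁅u, v⁆ = u * (v * u⁻¹ * v⁻¹) by rw [commutatorElement_def]; group]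
        exact mul_mem (mem_inf.1 hu).2 ((mem_normalizer_iff.1 (hOY (mem_inf.1 hv).1) _).1 (inv_mem (mem_inf.1 hu).2))
      · rw [commutatorElement_def]
        exact mul_mem (hOYg u (mem_inf.1 hu).1 v (mem_inf.1 hv).2) (inv_mem (mem_inf.1 hv).2)
    set C := ⁅U, V⁆
    have hCc : ∀ c ∈ C, ∀ x : L, x * c * x⁻¹ = c := fun c hc x => by
      rw [mem_center_iff.1 (mem_inf.1 (hUV hc)).2 x, mul_inv_cancel_right]
    have hUA : ∀ u ∈ U, ∀ a ∈ A, ⁅u, a⁆ ∈ C := by
      intro u hu a ha
      rw [hA', sup_eq_closure] at ha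
      induction ha using closure_induction with
      | mem x hx =>
        rcases hx with hx | hx
        · rw [commutatorElement_eq_one_iff_mul_comm.2 (hYab u (mem_inf.1 hu).2 x (mem_inf.1 hx).2)]; exact one_mem C
        · exact commutator_mem_commutator hu hx
      | one => rw [commutatorElement_one_right]; exact one_mem C
      | mul x y _ _ ihx ihy =>
        rw [show ⁅u, x * y⁆ = ⁅u, x⁆ * (x * ⁅u, y⁆ * x⁻¹) by simp only [commutatorElement_def]; group, hCc _ ihy x]
        exact mul_mem ihx ihy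
      | inv x _ ihx =>
        rw [show ⁅u, x⁻¹⁆ = x⁻¹ * ⁅u, x⁆⁻¹ * x⁻¹⁻¹ by simp only [commutatorElement_def]; group, hCc _ (inv_mem ihx) x⁻¹]
        exact inv_mem ihx
    have hUAC : ⁅U, A⁆ = C := le_antisymm (commutator_le.2 hUA) (commutator_mono le_rfl (hA' ▸ le_sup_right))
    have hAAC : ⁅A, A⁆ = C := by
      refine le_antisymm (commutator_le.2 fun a ha b hb => ?_) (hUAC ▸ commutator_mono (hA' ▸ le_sup_left) le_rfl)
      rw [hA', sup_eq_closure] at ha
      induction ha using closure_induction generalizing b with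
      | mem x hx =>
        rcases hx with hx | hx
        · exact hUA x hx b hb
        · rw [hA', sup_eq_closure] at hb
          induction hb using closure_induction with
          | mem y hy =>
            rcases hy with hy | hy
            · rw [← commutatorElement_inv]; exact inv_mem (commutator_mem_commutator hy hx)
            · rw [commutatorElement_eq_one_iff_mul_comm.2 (hYgab x (mem_inf.1 hx).2 y (mem_inf.1 hy).2)]; exact one_mem C
          | one => rw [commutatorElement_one_right]; exact one_mem C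
          | mul y z _ _ ihy ihz =>
            rw [show ⁅x, y * z⁆ = ⁅x, y⁆ * (y * ⁅x, z⁆ * y⁻¹) by simp only [commutatorElement_def]; group, hCc _ ihz y]
            exact mul_mem ihy ihz
          | inv y _ ihy =>
            rw [show ⁅x, y⁻¹⁆ = y⁻¹ * ⁅x, y⁆⁻¹ * y⁻¹⁻¹ by simp only [commutatorElement_def]; group, hCc _ (inv_mem ihy) y⁻¹]
            exact inv_mem ihy
      | one => rw [commutatorElement_one_left]; exact one_mem C
      | mul x y _ _ ihx ihy =>
        rw [show ⁅x * y, b⁆ = (x * ⁅y, b⁆ * x⁻¹) * ⁅x, b⁆ by simp only [commutatorElement_def]; group, hCc _ (ihy b hb) x]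
        exact mul_mem (ihy b hb) (ihx b hb)
      | inv x _ ihx =>
        rw [show ⁅x⁻¹, b⁆ = x⁻¹ * ⁅x, b⁆⁻¹ * x⁻¹⁻¹ by simp only [commutatorElement_def]; group, hCc _ (inv_mem (ihx b hb)) x⁻¹]
        exact inv_mem (ihx b hb)
    have hZA : Y ⊓ center L ≤ A := by
      intro z hz
      have h1 : Y ⊓ center L ≤ O := by
        haveI : (Y ⊓ center L).Normal := ⟨fun x hx w => by
          rwa [mem_center_iff.1 (mem_inf.1 hx).2 w, mul_inv_cancel_right]⟩
        exact Cfsg.Lib.PIrr.le_pCore' (IsPGroup.to_le (H := Y ⊓ center L) (fun y => ⟨1, by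
          rw [pow_one]; exact Subtype.ext (hYel.2 y y.2)⟩) inf_le_left)
      exact hA' ▸ mem_sup_left (mem_inf.mpr ⟨h1 hz, (mem_inf.1 hz).1⟩)
    refine ⟨?_, ?_, ?_, ?_, hYY, ?_, ?_⟩
    · rw [← map_subtype_commutator]
      congr 1
      refine le_antisymm ?_ (Cfsg.Lib.PGroups.commutator_le_frattini (hOp.to_le hAO))
      set π := QuotientGroup.mk' (commutator A)
      have hbot : frattini (A ⧸ commutator A) = ⊥ := by
        have hcm : ∀ a b : A, π a * π b = π b * π a := fun a b => by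
          rw [← commutatorElement_eq_one_iff_mul_comm, ← map_commutatorElement]
          exact (QuotientGroup.eq_one_iff _).2 (commutator_mem_commutator (mem_top a) (mem_top b))
        refine Cfsg.Lib.SolvStruct.frattini_eq_bot_of_elementary (p := p) (fun q => ?_) fun y z => ?_
        · obtain ⟨⟨a, ha⟩, rfl⟩ := QuotientGroup.mk'_surjective _ q
          have hmem : ∀ a (ha : a ∈ A), π ⟨a, ha⟩ ^ p = 1 := by
            intro a ha
            have ha' := ha
            rw [hA', sup_eq_closure] at ha'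
            induction ha' using closure_induction with
            | mem x hx =>
              rw [← map_pow]
              refine (congrArg π (Subtype.ext ?_ : (⟨x, ha⟩ : A) ^ p = 1)).trans (map_one π)
              show x ^ p = 1
              rcases hx with hx | hx
              · exact hYel.2 x (mem_inf.1 hx).2
              · obtain ⟨y, hy, rfl⟩ := (mem_inf.1 hx).2
                rw [← map_pow, hYel.2 y hy, map_one]
            | one => rw [show (⟨1, ha⟩ : A) = 1 from rfl, map_one, one_pow]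
            | mul x y hx hy ihx ihy =>
              have hxA : x ∈ A := by rw [hA', sup_eq_closure]; exact hx
              have hyA : y ∈ A := by rw [hA', sup_eq_closure]; exact hy
              rw [show (⟨x * y, ha⟩ : A) = ⟨x, hxA⟩ * ⟨y, hyA⟩ from rfl, map_mul,
                Commute.mul_pow (hcm ⟨x, hxA⟩ ⟨y, hyA⟩), ihx hxA, ihy hyA, one_mul]
            | inv x hx ihx =>
              have hxA : x ∈ A := by rw [hA', sup_eq_closure]; exact hx
              rw [show (⟨x⁻¹, ha⟩ : A) = (⟨x, hxA⟩ : A)⁻¹ from rfl, map_inv, inv_pow, ihx hxA, inv_one]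
          exact hmem a ha
        · obtain ⟨a, rfl⟩ := QuotientGroup.mk'_surjective _ y
          obtain ⟨b, rfl⟩ := QuotientGroup.mk'_surjective _ z
          exact hcm a b
      intro x hx
      have hπ : Function.Surjective π := QuotientGroup.mk'_surjective _
      have : π x ∈ frattini (A ⧸ commutator A) := by
        rw [frattini, Order.radical, Subgroup.mem_iInf]
        intro M
        rw [Subgroup.mem_iInf]
        intro hM
        refine (Order.radical_le_coatom (a := M.comap π) ⟨fun h => hM.1 ?_, fun K hK => ?_⟩) hx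
        · rw [← map_comap_eq_self_of_surjective hπ M, h, map_top_of_surjective π hπ]
        · have hkK : commutator A ≤ K := fun z hz => hK.le (show π z ∈ M by
            rw [show π z = 1 from (QuotientGroup.eq_one_iff z).2 hz]; exact one_mem M)
          have e : (K.map π).comap π = K := by rw [comap_map_eq, QuotientGroup.ker_mk', sup_eq_left.2 hkK]
          rw [← e, hM.2 (K.map π) ?_, comap_top]
          rw [← map_comap_eq_self_of_surjective hπ M]
          refine lt_of_le_of_ne (map_mono hK.le) fun h => hK.ne ?_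
          rw [← e, ← h, map_comap_eq_self_of_surjective hπ M]
      rw [hbot, mem_bot] at this
      exact (QuotientGroup.eq_one_iff x).1 this
    · rw [hAY, hUAC, hAAC]
    · rw [hAY, hAYg, hUAC]
    · rw [hAY, hUAC]; exact hUV
    · rw [hAY, hAYg]
      refine le_antisymm ((inf_le_inf inf_le_right inf_le_right).trans hYY.le) fun z hz => ?_
      exact mem_inf.mpr ⟨mem_inf.mpr ⟨hAO (hZA hz), (mem_inf.1 hz).1⟩, mem_inf.mpr ⟨hAO (hZA hz), hZg z hz⟩⟩
    · refine le_antisymm (fun z hz => ?_) (le_inf hZA inf_le_right)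
      obtain ⟨hzA, hzc⟩ := mem_inf.1 hz
      rw [hA'] at hzA
      have hVn : V ≤ Subgroup.normalizer (U : Set L) := fun v hv => mem_normalizer_iff.2 fun u =>
        ⟨hUn v (mem_inf.1 hv).1 u, fun hu => by simpa [mul_assoc] using hUn v⁻¹ (inv_mem (mem_inf.1 hv).1) _ hu⟩
      obtain ⟨u, hu, v, hv, rfl⟩ := (Cfsg.Lib.Coprime.mem_sup_of_le_normalizer hVn).1 hzA
      have hv' : v ∈ center L := hcent v (fun y hy => by
        have h1 := mem_center_iff.1 hzc y
        rw [← mul_assoc, hYab y hy u (mem_inf.1 hu).2, mul_assoc, mul_assoc] at h1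
        exact mul_left_cancel h1) fun y hy => hYgab y hy v (mem_inf.1 hv).2
      obtain ⟨w, hw, hwv⟩ := (mem_inf.1 hv).2
      have hwv' : g * w * g⁻¹ = v := hwv
      have hw' : w = v := by
        rw [show w = g⁻¹ * v * g by rw [← hwv']; group, mul_assoc, ← mem_center_iff.1 hv' g]; group
      exact mem_inf.mpr ⟨mul_mem (mem_inf.1 hu).2 (hw' ▸ hw), hzc⟩

end Cfsg.Agent.S2837
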