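import Cfsg.Statements.S2838
import Cfsg.Agent.Components.WeaklyClosed.Basic

set_option autoImplicit false
open Cfsg

namespace Cfsg.Agent.S2838

/-- For a nontrivial p-subgroup Q of a finite group H the following are equivalent: Q is a weakly closed subgroup (it is the only H-conjugate of itself inside some Sylow p-subgroup containing it); Q = P for every conjugate P of Q with [Q, P] ≤ Q ∩ P; Q is normal in N_H(R) for every p-subgroup R of H containing Q. -/
theorem result {H : Type*} [Group H] [Finite H] {p : ℕ} [Fact p.Prime] (Q : Subgroup H) (hQp : IsPGroup p ↥Q) (hQ1 : Q ≠ ⊥) : (Cfsg.IsWeaklyClosedSubgroup p Q ↔ ∀ g : H, ⁅Q, ((Q : Subgroup H).map (MulAut.conj (g : H)).toMonoidHom)⁆ ≤ Q ⊓ ((Q : Subgroup H).map (MulAut.conj (g : H)).toMonoidHom) → ((Q : Subgroup H).map (MulAut.conj (g : H)).toMonoidHom) = Q) ∧ (Cfsg.IsWeaklyClosedSubgroup p Q ↔ ∀ R : Subgroup H, IsPGroup p ↥R → Q ≤ R → Subgroup.normalizer ((R : Subgroup H) : Set H) ≤ Subgroup.normalizer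 ((Q : Subgroup H) : Set H)) := by
  rw [Cfsg.Lib.WClosed.wc_iff Q hQp]
  exact ⟨⟨fun h g hg => Cfsg.Lib.WClosed.wc_mutual hQp h g hg, Cfsg.Lib.WClosed.wc_of_mutual⟩,
    ⟨fun h R hR hQR => Cfsg.Lib.WClosed.normalizer_le h R hR hQR, Cfsg.Lib.WClosed.wc_of_normalizer⟩⟩

end Cfsg.Agent.S2838
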