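import Cfsg.Statements.S2846
import Cfsg.Agent.Components.Reduced.BasicProperty

set_option autoImplicit false
open Cfsg

namespace Cfsg.Agent.S2846

/-- Let Q be a nontrivial large p-subgroup of the finite group H, S a Sylow p-subgroup containing Q, and L a subgroup containing S with O_p(L) ≠ 1 and C_H(O_p(L)) ≤ O_p(L). Then there are a subgroup M containing S having the basic property (M ∈ 𝔐_H, writing Y_X for the largest p-reduced normal subgroup of X and 𝓛_H for the set of subgroups X with O_p(X) ≠ 1 and C_H(O_p(X)) ≤ O_p(X): M ∈ 𝓛_H, M·C_H(Y_M) is the only maximal member of 𝓛_H containing M and its largest p-reduced normal subgroup is again Y_M, C_M(Y_M) is p-closed, and the image of C_M(Y_M) in M/O_p(M) lies in the Frattini subgroup of M/O_p(M)) and a subgroup L* with S ≤ L* ≤ M, O_p(L*) ≠ 1, C_H(O_p(L*)) ≤ O_p(L*), such that L·C_H(Y_L) = L*·C_H(Y_L), the weak closures of Q in L and in L* agree and lie in that of M, and Y_L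 = Y_{L*} ≤ Y_M. If moreover Q is not normal in L, then Q is normal in neither L* nor M. -/
theorem result {H : Type*} [Group H] [Finite H] {p : ℕ} [Fact p.Prime] (Q : Subgroup H) (hQp : IsPGroup p ↥Q) (hQ1 : Q ≠ ⊥) (hLg : Cfsg.IsLarge Q) (S : Sylow p H) (hQS : Q ≤ (S : Subgroup H)) (L : Subgroup H) (hSL : (S : Subgroup H) ≤ L) (hL : L ∈ Cfsg.charPSubgroups p H) : ∃ M Ls : Subgroup H, (S : Subgroup H) ≤ M ∧ Cfsg.IsInFrakM p M ∧ (S : Subgroup H) ≤ Ls ∧ Ls ≤ M ∧ Ls ∈ Cfsg.charPSubgroups p H ∧ L ⊔ Subgroup.centralizer (((Cfsg.largestPReducedOf p L) : Subgroup H) : Set H) = Ls ⊔ Subgroup.centralizer (((Cfsg.largestPReducedOf p L) : Subgroup H) : Set H) ∧ Cfsg.weakClosure Q L = Cfsg.weakClosure Q Ls ∧ Cfsg.weakClosure Q Ls ≤ Cfsg.weakClosure Q M ∧ (Cfsg.largestPReducedOf p L) = (Cfsg.largestPReducedOf p Ls) ∧ (Cfsg.largestPReducedOf p Ls) ≤ (Cfsg.largestPReducedOf p M) ∧ (¬ L ≤ Subgroup.normalizer ((Q : Subgroup H) : Set H) → ¬ Ls ≤ Subgroup.normalizer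 ((Q : Subgroup H) : Set H) ∧ ¬ M ≤ Subgroup.normalizer ((Q : Subgroup H) : Set H)) := by
  open Subgroup in
  exact by
    obtain ⟨M, Ls, hSM, hM, hSLs, hLsM, hLs, hY, hYM, hC⟩ :=
      Cfsg.Lib.BasicProperty.main S L hSL hL (Cfsg.Lib.BasicProperty.local_large hQp hQ1 hLg S)
    set Y := Cfsg.largestPReducedOf p L with hYdef
    set C := centralizer (Y : Set H)
    have hY1 : Y ≠ ⊥ := Cfsg.Lib.BasicProperty.omega_ne_bot S hSL hL
    have hLn : L ≤ normalizer (Y : Set H) := Cfsg.Lib.Reduced.normalizer_largestOf L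
    have hLsn : Ls ≤ normalizer (Y : Set H) := hY ▸ Cfsg.Lib.Reduced.normalizer_largestOf Ls
    have hCQ : C ≤ normalizer (Q : Set H) := Cfsg.Lib.Large.centralizer_normalizes hQp hLg Y
      (Cfsg.Lib.Reduced.isPGroup_of_elem (Cfsg.Lib.Reduced.largestOf_elem L)) hY1 ((hQS.trans hSL).trans hLn)
    have hw : Cfsg.weakClosure Q L = Cfsg.weakClosure Q Ls := by
      rw [← Cfsg.Lib.BasicProperty.weakClosure_sup hQp hQ1 hLg S hQS L C hSL
        (hLn.trans (Cfsg.Lib.Large.normalizer_centralizer_le Y)) hCQ, hC,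
        Cfsg.Lib.BasicProperty.weakClosure_sup hQp hQ1 hLg S hQS Ls C hSLs
        (hLsn.trans (Cfsg.Lib.Large.normalizer_centralizer_le Y)) hCQ]
    refine ⟨M, Ls, hSM, hM, hSLs, hLsM, hLs, hC, hw, Cfsg.Lib.BasicProperty.weakClosure_mono' hLsM, hY,
      hY ▸ hYM, fun hL' => ?_⟩
    have h1 : ¬ Ls ≤ normalizer (Q : Set H) := fun h =>
      hL' ((le_sup_left.trans hC.le).trans (sup_le h hCQ))
    exact ⟨h1, fun h => h1 (hLsM.trans h)⟩

end Cfsg.Agent.S2846
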