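import Cfsg.Statements.S2848
import Cfsg.Agent.Components.Misc.PIrr
import Cfsg.Agent.Components.Misc.Large
import Cfsg.Agent.Components.Reduced.Sub

set_option autoImplicit false
open Cfsg

namespace Cfsg.Agent.S2848

/-- Standing hypotheses: G a finite group, S a Sylow p-subgroup, Q a nontrivial large p-subgroup of G contained in S (C_G(Q) ≤ Q and N_G(U) ≤ N_G(Q) for all nontrivial U ≤ C_G(Q)), and M a subgroup containing S with the basic property (M ∈ 𝔐_G(S)); Y_M denotes the largest p-reduced normal subgroup of M and M† = M·C_G(Y_M). Then O_p(M) is a weakly closed subgroup of M† (for p): it is the only M†-conjugate of itself inside some Sylow p-subgroup of M† containing it. -/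
theorem result {G : Type*} [Group G] [Finite G] {p : ℕ} [Fact p.Prime] (S : Sylow p G) (Q : Subgroup G) (hQp : IsPGroup p ↥Q) (hQ1 : Q ≠ ⊥) (hQS : Q ≤ (S : Subgroup G)) (hQ : Cfsg.IsLarge Q) (M : Subgroup G) (hSM : (S : Subgroup G) ≤ M) (hM : Cfsg.IsInFrakM p M) : Cfsg.IsWeaklyClosedSubgroup p (((Cfsg.pCoreOf p M)).subgroupOf (M ⊔ Subgroup.centralizer (((Cfsg.largestPReducedOf p M) : Subgroup G) : Set G))) := by
  open Subgroup in
  exact by
    set Y := Cfsg.largestPReducedOf p M
    set C := Subgroup.centralizer (Y : Set G)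
    set P := Cfsg.pCoreOf p M
    have hMY : M ≤ Subgroup.normalizer (Y : Set G) := Cfsg.Lib.Reduced.normalizer_largestOf M
    have hMC : M ≤ Subgroup.normalizer (C : Set G) := hMY.trans (Cfsg.Lib.Large.normalizer_centralizer_le Y)
    have hsup : (M ⊔ C) ≤ Subgroup.normalizer (C : Set G) := sup_le hMC le_normalizer
    have hPC : P ≤ C := Cfsg.Lib.Reduced.pCoreOf_le_centralizer M
    have hPS : P ≤ (S : Subgroup G) := Cfsg.Lib.Reduced.pCoreOf_le_sylow S hSM
    haveI : (C.subgroupOf M).Normal := normal_subgroupOf_of_le_normalizer hMC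
    have hcl : Cfsg.IsPClosed p ↥(C.subgroupOf M) := by
      intro X
      let e : ↥(M ⊓ C) ≃* ↥(C.subgroupOf M) :=
        { toFun := fun x => ⟨⟨x.1, (mem_inf.1 x.2).1⟩, (mem_inf.1 x.2).2⟩
          invFun := fun x => ⟨x.1.1, mem_inf.mpr ⟨x.1.2, x.2⟩⟩
          left_inv := fun x => rfl
          right_inv := fun x => rfl
          map_mul' := fun x y => rfl }
      have hn := hM.2.2.2.2.1 (X.comapOfInjective e.toMonoidHom e.injective (by rw [MonoidHom.range_eq_top.2 e.surjective]; exact le_top))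
      rw [← map_comap_eq_self_of_surjective (f := e.toMonoidHom) e.surjective (X : Subgroup _)]
      exact Normal.map hn _ e.surjective
    have hSC : (S : Subgroup G) ⊓ C ≤ P := fun x hx =>
      ⟨⟨x, hSM (mem_inf.1 hx).1⟩, (Cfsg.Lib.PIrr.isPClosed_iff (S.subtype hSM)).1 hcl
        (mem_inf.mpr ⟨(mem_inf.1 hx).1, (mem_inf.1 hx).2⟩), rfl⟩
    refine ⟨S.subtype (hSM.trans le_sup_left), fun x hx => hPS hx, fun m hm => ?_⟩
    refine eq_of_le_of_card_ge ?_ (card_map_of_injective (MulEquiv.injective _)).ge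
    rintro _ ⟨x, hx, rfl⟩
    exact hSC (mem_inf.mpr ⟨hm ⟨x, hx, rfl⟩, (mem_normalizer_iff.1 (hsup m.2) _).1 (hPC hx)⟩)

end Cfsg.Agent.S2848
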