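import Cfsg.Statements.S2849
import Cfsg.Agent.Components.Misc.Large
import Cfsg.Agent.Components.Reduced.Sub

set_option autoImplicit false
open Cfsg

namespace Cfsg.Agent.S2849

/-- Standing hypotheses: G a finite group, S a Sylow p-subgroup, Q a nontrivial large p-subgroup of G contained in S (C_G(Q) ≤ Q and N_G(U) ≤ N_G(Q) for all nontrivial U ≤ C_G(Q)), and M a subgroup containing S with the basic property (M ∈ 𝔐_G(S)); Y_M denotes the largest p-reduced normal subgroup of M and M† = M·C_G(Y_M). Suppose Y_M is asymmetric in G. Then for every subgroup R with Y_M ≤ R ≤ M†, the normal closure of Y_M in N_G(R) is elementary abelian. -/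
theorem result {G : Type*} [Group G] [Finite G] {p : ℕ} [Fact p.Prime] (S : Sylow p G) (Q : Subgroup G) (hQp : IsPGroup p ↥Q) (hQ1 : Q ≠ ⊥) (hQS : Q ≤ (S : Subgroup G)) (hQ : Cfsg.IsLarge Q) (M : Subgroup G) (hSM : (S : Subgroup G) ≤ M) (hM : Cfsg.IsInFrakM p M) (hasym : ¬ Cfsg.IsSymmetricIn (Cfsg.largestPReducedOf p M)) (R : Subgroup G) (hYR : (Cfsg.largestPReducedOf p M) ≤ R) (hRM : R ≤ (M ⊔ Subgroup.centralizer (((Cfsg.largestPReducedOf p M) : Subgroup G) : Set G))) : Cfsg.IsElementaryAbelian p ((Subgroup.normalClosure ((((Cfsg.largestPReducedOf p M)).subgroupOf (Subgroup.normalizer ((R : Subgroup G) : Set G)) : Subgroup ↥(Subgroup.normalizer ((R : Subgroup G) : Set G))) : Set ↥(Subgroup.normalizer ((R : Subgroup G) : Set G)))).map (Subgroup.normalizer ((R : Subgroup G) : Set G)).subtype) := by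
  open Subgroup in
  open scoped commutatorElement in
  exact by
    set Y := Cfsg.largestPReducedOf p M
    set N := Subgroup.normalizer ((R : Subgroup G) : Set G)
    have hY := Cfsg.Lib.Reduced.largestOf_elem (p := p) M
    have hRY : R ≤ Subgroup.normalizer (Y : Set G) :=
      hRM.trans (sup_le (Cfsg.Lib.Reduced.normalizer_largestOf M) (centralizer_le_normalizer _))
    have hcomm : ∀ g ∈ N, ∀ a ∈ Y, ∀ b ∈ Y, a * (g * b * g⁻¹) = (g * b * g⁻¹) * a := by
      intro g hg a ha b hb
      by_contra hne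
      set Y' := Y.map (MulAut.conj g).toMonoidHom
      have hY'R : Y' ≤ R := by
        rintro _ ⟨y, hy, rfl⟩
        exact Cfsg.Lib.Large.conj_mem' R hg (hYR hy)
      have hmem : g * b * g⁻¹ ∈ Y' := ⟨b, hb, rfl⟩
      refine hasym ⟨g, fun h => hne (commutatorElement_eq_one_iff_mul_comm.1
        (mem_bot.1 (h.le (commutator_mem_commutator ha hmem)))), commutator_le.2 fun u hu v hv => ?_⟩
      refine mem_inf.mpr ⟨?_, ?_⟩
      · rw [show ⁅u, v⁆ = u * (v * u⁻¹ * v⁻¹) by rw [commutatorElement_def]; group]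
        exact mul_mem hu (Cfsg.Lib.Large.conj_mem' Y (hRY (hY'R hv)) (inv_mem hu))
      · rw [commutatorElement_def]
        refine mul_mem ?_ (inv_mem hv)
        obtain ⟨y, hy, rfl⟩ := hv
        have h1 : g⁻¹ * u * g ∈ Subgroup.normalizer (Y : Set G) := hRY ((mem_normalizer_iff.1 hg _).2 (by
          rw [show g * (g⁻¹ * u * g) * g⁻¹ = u by group]; exact hYR hu))
        exact ⟨(g⁻¹ * u * g) * y * (g⁻¹ * u * g)⁻¹, Cfsg.Lib.Large.conj_mem' Y h1 hy, by simp [mul_assoc]⟩
    have hYN : ∀ x ∈ Y, x ∈ N := fun x hx => le_normalizer (hYR hx)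
    rw [normalClosure, MonoidHom.map_closure]
    set T := N.subtype '' Group.conjugatesOfSet ((Y.subgroupOf N : Subgroup N) : Set N)
    have hT : ∀ x ∈ T, ∃ g ∈ N, ∃ y ∈ Y, x = g * y * g⁻¹ := by
      rintro _ ⟨z, hz, rfl⟩
      obtain ⟨y, hy, hzy⟩ := Group.mem_conjugatesOfSet_iff.1 hz
      obtain ⟨c, hc⟩ := isConj_iff.1 hzy
      exact ⟨c, c.2, y, hy, by rw [← hc]; rfl⟩
    have hTc : ∀ a ∈ T, ∀ b ∈ T, a * b = b * a := by
      intro a ha b hb
      obtain ⟨g, hg, u, hu, rfl⟩ := hT a ha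
      obtain ⟨h, hh, v, hv, rfl⟩ := hT b hb
      have := hcomm (g⁻¹ * h) (mul_mem (inv_mem hg) hh) u hu v hv
      calc (g * u * g⁻¹) * (h * v * h⁻¹) = g * (u * ((g⁻¹ * h) * v * (g⁻¹ * h)⁻¹)) * g⁻¹ := by group
        _ = (h * v * h⁻¹) * (g * u * g⁻¹) := by rw [this]; group
    have habel : ∀ a ∈ closure T, ∀ b ∈ closure T, a * b = b * a := by
      have h1 : closure T ≤ Subgroup.centralizer (closure T : Set G) := by
        rw [closure_le, centralizer_closure]
        exact fun a ha => mem_centralizer_iff.2 fun b hb => hTc b hb a ha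
      exact fun a ha b hb => mem_centralizer_iff.1 (h1 hb) a ha
    refine ⟨⟨⟨fun a b => Subtype.ext (habel a a.2 b b.2)⟩⟩, fun a ha => ?_⟩
    induction ha using closure_induction with
    | mem x hx =>
      obtain ⟨g, hg, y, hy, rfl⟩ := hT x hx
      rw [conj_pow, hY.2 y hy]; group
    | one => exact one_pow p
    | mul a b ha hb iha ihb => rw [Commute.mul_pow (habel a ha b hb), iha, ihb, one_mul]
    | inv a ha iha => rw [inv_pow, iha, inv_one]

end Cfsg.Agent.S2849
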