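import Cfsg.Statements.S2850
import Cfsg.Agent.Components.Reduced.Asymmetric

set_option autoImplicit false
open Cfsg

namespace Cfsg.Agent.S2850

/-- Standing hypotheses: G a finite group, S a Sylow p-subgroup, Q a nontrivial large p-subgroup of G contained in S (C_G(Q) ≤ Q and N_G(U) ≤ N_G(Q) for all nontrivial U ≤ C_G(Q)), and M a subgroup containing S with the basic property (M ∈ 𝔐_G(S)); Y_M denotes the largest p-reduced normal subgroup of M and M† = M·C_G(Y_M). Suppose Y_M is asymmetric in G. Then N_G(L) ≤ N_G(O_p(M)) ≤ M† for every p-subgroup L containing O_p(M); O_p(M) is a weakly closed subgroup of G; for every subgroup L containing O_p(M), L ∩ M† contains a Sylow p-subgroup of L; and two elements of Y_M conjugate in G are conjugate in M. -/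
theorem result {G : Type*} [Group G] [Finite G] {p : ℕ} [Fact p.Prime] (S : Sylow p G) (Q : Subgroup G) (hQp : IsPGroup p ↥Q) (hQ1 : Q ≠ ⊥) (hQS : Q ≤ (S : Subgroup G)) (hQ : Cfsg.IsLarge Q) (M : Subgroup G) (hSM : (S : Subgroup G) ≤ M) (hM : Cfsg.IsInFrakM p M) (hasym : ¬ Cfsg.IsSymmetricIn (Cfsg.largestPReducedOf p M)) : (∀ L : Subgroup G, IsPGroup p ↥L → (Cfsg.pCoreOf p M) ≤ L → Subgroup.normalizer ((L : Subgroup G) : Set G) ≤ Subgroup.normalizer (((Cfsg.pCoreOf p M) : Subgroup G) : Set G) ∧ Subgroup.normalizer (((Cfsg.pCoreOf p M) : Subgroup G) : Set G) ≤ (M ⊔ Subgroup.centralizer (((Cfsg.largestPReducedOf p M) : Subgroup G) : Set G))) ∧ Cfsg.IsWeaklyClosedSubgroup p (Cfsg.pCoreOf p M) ∧ (∀ L : Subgroup G, (Cfsg.pCoreOf p M) ≤ L → Cfsg.IsParabolic p ((L ⊓ (M ⊔ Subgroup.centralizer (((Cfsg.largestPReducedOf p M) : Subgroup G) : Set G))).subgroupOf L)) ∧ (∀ x ∈ (Cfsg.largestPReducedOf p M), ∀ g : G, g * x * g⁻¹ ∈ (Cfsg.largestPReducedOf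 p M) → ∃ m ∈ M, m * x * m⁻¹ = g * x * g⁻¹) := by
  open Subgroup in
  exact by
    obtain ⟨h1, h2, hwc⟩ := Cfsg.Lib.Asymmetric.main S hQp hQ1 hQ hSM hM hasym
    refine ⟨fun L hL hPL => ⟨(h1 L hL hPL).2, h2⟩, hwc, fun L hPL => ?_, fun x hx g hg => ?_⟩
    · have hPp : IsPGroup p ((Cfsg.pCoreOf p M).subgroupOf L) :=
        ((Cfsg.Lib.Components.isPGroup_pCore p).map _).comap_subtype
      obtain ⟨R, hR⟩ := hPp.exists_le_sylow
      refine ⟨R, fun r hr => ?_⟩
      refine mem_inf.mpr ⟨r.2, h2 ((h1 ((R : Subgroup L).map L.subtype) (R.2.map _) fun z hz =>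
        ⟨⟨z, hPL hz⟩, hR (show (⟨z, hPL hz⟩ : L) ∈ (Cfsg.pCoreOf p M).subgroupOf L from hz), rfl⟩).1 ⟨r, hr, rfl⟩)⟩
    · set Y := Cfsg.largestPReducedOf p M
      set P := Cfsg.pCoreOf p M
      set z := g * x * g⁻¹
      set D := centralizer ({z} : Set G)
      have hPp : IsPGroup p P := (Cfsg.Lib.Components.isPGroup_pCore p).map _
      have hPC : P ≤ centralizer (Y : Set G) := Cfsg.Lib.Reduced.pCoreOf_le_centralizer M
      have hPD : P ≤ D := fun q hq => mem_centralizer_singleton_iff.mpr (mem_centralizer_iff.mp (hPC hq) z hg).symm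
      have hgPD : Cfsg.Lib.Asymmetric.cj g P ≤ D := by
        rintro _ ⟨q, hq, rfl⟩
        refine mem_centralizer_singleton_iff.mpr ?_
        show g * q * g⁻¹ * (g * x * g⁻¹) = g * x * g⁻¹ * (g * q * g⁻¹)
        calc g * q * g⁻¹ * (g * x * g⁻¹) = g * (q * x) * g⁻¹ := by group
          _ = g * (x * q) * g⁻¹ := by rw [mem_centralizer_iff.mp (hPC hq) x hx]
          _ = g * x * g⁻¹ * (g * q * g⁻¹) := by group
      obtain ⟨R1, hR1⟩ := (hPp.comap_subtype (K := D)).exists_le_sylow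
      obtain ⟨R2, hR2⟩ := ((hPp.map (MulAut.conj g).toMonoidHom).comap_subtype (K := D)).exists_le_sylow
      obtain ⟨c, hc⟩ := MulAction.exists_smul_eq D R2 R1
      set R := (R1 : Subgroup D).map D.subtype
      have hPR : P ≤ R := fun q hq => ⟨⟨q, hPD hq⟩, hR1 hq, rfl⟩
      have hcR : Cfsg.Lib.Asymmetric.cj ((c : G) * g) P ≤ R := by
        rw [← Cfsg.Lib.Asymmetric.cj_cj]
        rintro _ ⟨y, hy, rfl⟩
        refine ⟨c * ⟨y, hgPD hy⟩ * c⁻¹, ?_, rfl⟩
        rw [← hc, Cfsg.Lib.Transfer.sylow_smul_coe]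
        exact ⟨⟨y, hgPD hy⟩, hR2 hy, rfl⟩
      obtain ⟨T, hPT, hwT⟩ := hwc
      obtain ⟨T', hT'⟩ := (R1.2.map D.subtype).exists_le_sylow
      have hmem : (c : G) * g ∈ normalizer (P : Set G) := by
        obtain ⟨t, ht⟩ := MulAction.exists_smul_eq G T' T
        rw [mem_normalizer_iff_map_conj_eq]
        have hT : (T : Subgroup G) = Cfsg.Lib.Asymmetric.cj t T' := by rw [← ht, Cfsg.Lib.Transfer.sylow_smul_coe]
        have ha := hwT t (le_trans (map_mono (hPR.trans hT')) hT.ge)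
        have hb := hwT (t * ((c : G) * g)) (by
          rw [← Cfsg.Lib.Transfer.map_conj_map_conj]; exact le_trans (map_mono (hcR.trans hT')) hT.ge)
        rw [← Cfsg.Lib.Transfer.map_conj_map_conj] at hb
        exact map_injective (f := (MulAut.conj t).toMonoidHom) (MulAut.conj t).injective (hb.trans ha.symm)
      have hMC : M ≤ normalizer ((centralizer (Y : Set G) : Subgroup G) : Set G) :=
        (Cfsg.Lib.Reduced.normalizer_largestOf M).trans (Cfsg.Lib.Large.normalizer_centralizer_le Y)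
      have hcg : (c : G) * g ∈ centralizer (Y : Set G) ⊔ M := by rw [sup_comm]; exact h2 hmem
      obtain ⟨m, hm, d, hd, he⟩ := (Cfsg.Lib.Coprime.mem_sup_of_le_normalizer' hMC).1 hcg
      refine ⟨m, hm, ?_⟩
      have hcz : (c : G) * z * (c : G)⁻¹ = z := by
        rw [mem_centralizer_singleton_iff.mp c.2, mul_inv_cancel_right]
      calc m * x * m⁻¹ = m * (d * x * d⁻¹) * m⁻¹ := by rw [← mem_centralizer_iff.mp hd x hx, mul_inv_cancel_right]
        _ = (m * d) * x * (m * d)⁻¹ := by group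
        _ = (c : G) * z * (c : G)⁻¹ := by rw [he]; show _ = (c : G) * (g * x * g⁻¹) * (c : G)⁻¹; group
        _ = z := hcz

end Cfsg.Agent.S2850
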