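import Cfsg.Statements.S2872
import Cfsg.Agent.Transfer.Basic
import Cfsg.Agent.PGroups.Basic

set_option autoImplicit false
open Cfsg

namespace Cfsg.Agent.S2872

/-- Let S be a Sylow 2-subgroup of the finite group G. Then G has a proper normal subgroup of 2-power index (O²(G) ≠ G), or Ω₁(Z(S)) is contained in the Frattini subgroup of S, or N_G(S) acts nontrivially on Ω₁(Z(S)) by conjugation. -/
theorem result {G : Type*} [Group G] [Finite G] (S : Sylow 2 G) : Cfsg.pResidual 2 G ≠ ⊤ ∨ Cfsg.omegaOne 2 ((S : Subgroup G) ⊓ Subgroup.centralizer ((S : Subgroup G) : Set G)) ≤ (frattini ↥(S : Subgroup G)).map (S : Subgroup G).subtype ∨ ∃ g ∈ Subgroup.normalizer ((S : Subgroup G) : Set G), ∃ z ∈ Cfsg.omegaOne 2 ((S : Subgroup G) ⊓ Subgroup.centralizer ((S : Subgroup G) : Set G)), g * z * g⁻¹ ≠ z := by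
  open MulAction in
  exact by
    classical
    haveI : Fact (Nat.Prime 2) := ⟨Nat.prime_two⟩
    set S₀ := (S : Subgroup G) with hS₀
    by_contra hcon
    push Not at hcon
    obtain ⟨hres, hΩ, hfix⟩ := hcon
    obtain ⟨z, ⟨hzZ, hz2⟩, hzΦ⟩ : ∃ z, (z ∈ S₀ ⊓ Subgroup.centralizer (S₀ : Set G) ∧ z ^ 2 = 1) ∧
        z ∉ (frattini ↥S₀).map S₀.subtype := by
      by_contra h
      push Not at h
      exact hΩ ((Subgroup.closure_le _).2 fun z hz => h z hz)
    obtain ⟨hzS, hzc⟩ := Subgroup.mem_inf.1 hzZ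
    have hfixz : ∀ g ∈ Subgroup.normalizer (S₀ : Set G), g * z * g⁻¹ = z :=
      fun g hg => hfix g hg z (Subgroup.subset_closure ⟨hzZ, hz2⟩)
    haveI : IsMulCommutative (S₀ ⧸ frattini ↥S₀) := Cfsg.Lib.PGroups.isMulCommutative_quotient_frattini S.2
    letI : CommGroup (S₀ ⧸ frattini ↥S₀) :=
      { (inferInstance : Group (S₀ ⧸ frattini ↥S₀)) with mul_comm := fun a b => mul_comm' a b }
    let φ : S₀ →* S₀ ⧸ frattini ↥S₀ := QuotientGroup.mk' _
    let Φf : G → S₀ ⧸ frattini ↥S₀ := fun g => if h : g⁻¹ * z * g ∈ S₀ then φ ⟨_, h⟩ else 1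
    have hwd : ∀ g g' : G, g⁻¹ * g' ∈ S₀ → Φf g = Φf g' := by
      intro g g' hs
      have key : g'⁻¹ * z * g' = (g⁻¹ * g')⁻¹ * (g⁻¹ * z * g) * (g⁻¹ * g') := by group
      simp only [Φf]
      by_cases h : g⁻¹ * z * g ∈ S₀
      · have h' : g'⁻¹ * z * g' ∈ S₀ := key ▸ mul_mem (mul_mem (inv_mem hs) h) hs
        rw [dif_pos h, dif_pos h',
          show (⟨_, h'⟩ : S₀) = (⟨_, hs⟩ : S₀)⁻¹ * ⟨_, h⟩ * ⟨_, hs⟩ from Subtype.ext key, map_mul, map_mul,
          map_inv, mul_comm _ (φ ⟨g⁻¹ * g', hs⟩), mul_inv_cancel_left]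
      · have h' : ¬ g'⁻¹ * z * g' ∈ S₀ := fun h' => h (by
          have h2 := mul_mem (mul_mem hs h') (inv_mem hs)
          rwa [show g⁻¹ * g' * (g'⁻¹ * z * g') * (g⁻¹ * g')⁻¹ = g⁻¹ * z * g by group] at h2)
        rw [dif_neg h, dif_neg h']
    let F : G ⧸ S₀ → S₀ ⧸ frattini ↥S₀ := fun q => Φf q.out
    have hF : ∀ g : G, F (g : G ⧸ S₀) = Φf g := fun g =>
      (hwd _ _ (QuotientGroup.eq.1 (QuotientGroup.out_eq' (g : G ⧸ S₀))))
    have hfixed : ∀ q : G ⧸ S₀, F q ≠ 1 → z • q = q := by
      intro q hq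
      induction q using QuotientGroup.induction_on with
      | H g =>
        rw [hF] at hq
        by_cases h : g⁻¹ * z * g ∈ S₀
        · show ((z * g : G) : G ⧸ S₀) = g
          rw [QuotientGroup.eq, show (z * g)⁻¹ * g = (g⁻¹ * z * g)⁻¹ by group]
          exact inv_mem h
        · exact absurd (dif_neg h) hq
    haveI : Fintype (G ⧸ S₀) := Fintype.ofFinite _
    haveI : Fintype (Quotient (orbitRel (Subgroup.zpowers z) (G ⧸ S₀))) := Fintype.ofFinite _
    have hV : MonoidHom.transfer φ z = ∏ q : G ⧸ S₀, F q := by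
      rw [MonoidHom.transfer_eq_prod_quotient_orbitRel_zpowers_quot]
      refine Fintype.prod_of_injective (fun q => q.out) Quotient.out_injective _ _ ?_ ?_
      · intro q hq
        by_contra hne
        refine hq ⟨Quotient.mk _ q, ?_⟩
        have hfx : ∀ y : Subgroup.zpowers z, y • q = q := by
          intro y
          have : z ∈ stabilizer G q := hfixed q hne
          exact ((Subgroup.zpowers_le (H := stabilizer G q)).2 this y.2 : (y : G) ∈ stabilizer G q)
        obtain ⟨y, hy⟩ := Quotient.exact (Quotient.out_eq (Quotient.mk (orbitRel (Subgroup.zpowers z) (G ⧸ S₀)) q))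
        exact hy.symm.trans (hfx y)
      · intro q
        set c := q.out with hc
        set n := Function.minimalPeriod (z • ·) c with hn
        have hper : Function.IsPeriodicPt (z • ·) 2 c := by
          show z • z • c = c
          rw [smul_smul, ← pow_two, hz2, one_smul]
        rcases (Nat.dvd_prime Nat.prime_two).1 hper.minimalPeriod_dvd with h1 | h1
        · have hmem := QuotientGroup.out_conj_pow_minimalPeriod_mem S₀ z c
          rw [h1, pow_one] at hmem
          show φ _ = Φf c.out
          simp only [Φf, dif_pos hmem]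
          refine congrArg φ (Subtype.ext ?_)
          show c.out⁻¹ * z ^ Function.minimalPeriod (z • ·) c * c.out = c.out⁻¹ * z * c.out
          rw [h1, pow_one]
        · have hnf : F c = 1 := by
            by_contra hne
            have hp : Function.IsPeriodicPt (z • ·) 1 c := hfixed c hne
            have := hp.minimalPeriod_dvd
            rw [h1] at this
            exact absurd this (by decide)
          rw [hnf]
          refine (congrArg φ (Subtype.ext ?_)).trans (map_one φ)
          show c.out⁻¹ * z ^ Function.minimalPeriod (z • ·) c * c.out = 1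
          rw [h1, hz2]; group
    have hinv : ∀ (s : S₀) (q : G ⧸ S₀), F (s • q) = F q := by
      intro s q
      induction q using QuotientGroup.induction_on with
      | H g =>
        show F (((s : G) * g : G) : G ⧸ S₀) = F g
        rw [hF, hF]
        have e : ((s : G) * g)⁻¹ * z * ((s : G) * g) = g⁻¹ * z * g := by
          calc ((s : G) * g)⁻¹ * z * ((s : G) * g) = g⁻¹ * ((s : G)⁻¹ * (z * s)) * g := by group
            _ = g⁻¹ * ((s : G)⁻¹ * (s * z)) * g := by rw [Subgroup.mem_centralizer_iff.1 hzc s s.2]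
            _ = g⁻¹ * z * g := by group
        simp only [Φf, e]
    have hsq : ∀ q, F q * F q = 1 := by
      intro q
      show Φf _ * Φf _ = 1
      simp only [Φf]
      split_ifs with h
      · rw [← map_mul, ← map_one φ]
        refine congrArg φ (Subtype.ext ?_)
        show q.out⁻¹ * z * q.out * (q.out⁻¹ * z * q.out) = 1
        rw [show q.out⁻¹ * z * q.out * (q.out⁻¹ * z * q.out) = q.out⁻¹ * z ^ 2 * q.out by rw [pow_two]; group, hz2]
        group
      · exact one_mul 1
    haveI : Fintype (Quotient (orbitRel S₀ (G ⧸ S₀))) := Fintype.ofFinite _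
    haveI : Fintype (fixedPoints S₀ (G ⧸ S₀)) := Fintype.ofFinite _
    have hzval : ∀ q ∈ fixedPoints S₀ (G ⧸ S₀), F q = φ ⟨z, hzS⟩ := by
      intro q hq
      induction q using QuotientGroup.induction_on with
      | H g =>
        have hg : ∀ s ∈ S₀, g⁻¹ * s * g ∈ S₀ := fun s hs => by
          have h := hq ⟨s⁻¹, inv_mem hs⟩
          have h' : ((s⁻¹ * g : G) : G ⧸ S₀) = g := h
          rw [QuotientGroup.eq] at h'
          rwa [mul_inv_rev, inv_inv] at h'
        have hgN : g⁻¹ ∈ Subgroup.normalizer (S₀ : Set G) := by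
          have hmap : S₀.map (MulAut.conj g⁻¹).toMonoidHom = S₀ :=
            Subgroup.eq_of_le_of_card_ge (by
              rintro _ ⟨s, hs, rfl⟩
              show g⁻¹ * s * g⁻¹⁻¹ ∈ S₀
              rw [inv_inv]; exact hg s hs) (Subgroup.card_map_of_injective (MulEquiv.injective _)).ge
          exact Cfsg.Lib.Transfer.map_conj_eq_self_iff.1 hmap
        have e := hfixz _ hgN
        rw [inv_inv] at e
        rw [hF]
        simp only [Φf, e, dif_pos hzS]
    have hprod : ∏ q : G ⧸ S₀, F q = φ ⟨z, hzS⟩ := by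
      rw [← Finset.prod_fiberwise (Finset.univ : Finset (G ⧸ S₀))
        (fun q => (Quotient.mk (orbitRel S₀ (G ⧸ S₀)) q)) F]
      rw [← Fintype.prod_of_injective (fun q : fixedPoints S₀ (G ⧸ S₀) => Quotient.mk (orbitRel S₀ (G ⧸ S₀)) (q : G ⧸ S₀))
        ?inj (fun q => F q) (fun ω => ∏ q ∈ Finset.univ.filter (fun q => Quotient.mk (orbitRel S₀ (G ⧸ S₀)) q = ω), F q) ?out ?val]
      case inj =>
        intro a b h
        obtain ⟨s, hs⟩ := Quotient.exact h
        exact Subtype.ext (hs.symm.trans (b.2 s))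
      case out =>
        intro ω hω
        induction ω using Quotient.inductionOn with
        | h q =>
          have hconst : ∀ y ∈ Finset.univ.filter (fun y => Quotient.mk (orbitRel S₀ (G ⧸ S₀)) y = Quotient.mk _ q),
              F y = F q := by
            intro y hy
            obtain ⟨s, hs⟩ := Quotient.exact (Finset.mem_filter.1 hy).2
            rw [← hs]; exact hinv s q
          rw [Finset.prod_congr rfl hconst, Finset.prod_const]
          have hcard : (Finset.univ.filter (fun y => Quotient.mk (orbitRel S₀ (G ⧸ S₀)) y = Quotient.mk _ q)).card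
              = Nat.card (orbit S₀ q) := by
            rw [Nat.card_eq_fintype_card, ← Set.toFinset_card]
            congr 1
            ext y
            simp only [Finset.mem_filter, Finset.mem_univ, true_and, Set.mem_toFinset]
            exact Quotient.eq.trans (orbitRel_apply)
          obtain ⟨n, hn⟩ := S.2.card_orbit q
          have hn0 : n ≠ 0 := by
            intro h0
            refine hω ⟨⟨q, fun s => ?_⟩, rfl⟩
            rw [h0, pow_zero, Nat.card_eq_one_iff_unique] at hn
            exact congrArg Subtype.val (hn.1.elim (⟨s • q, mem_orbit q s⟩ : orbit S₀ q) ⟨q, mem_orbit_self q⟩)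
          obtain ⟨m, rfl⟩ := Nat.exists_eq_succ_of_ne_zero hn0
          rw [hcard, hn, pow_succ, mul_comm (2 ^ m), pow_mul, pow_two, hsq, one_pow]
      case val =>
        intro q
        rw [Finset.prod_eq_single (q : G ⧸ S₀)]
        · intro y hy hne
          obtain ⟨s, hs⟩ := Quotient.exact (Finset.mem_filter.1 hy).2
          exact absurd (hs.symm.trans (q.2 s)) hne
        · intro h
          exact absurd (Finset.mem_filter.2 ⟨Finset.mem_univ (q : G ⧸ S₀), rfl⟩ :
            (q : G ⧸ S₀) ∈ Finset.univ.filter (fun y => Quotient.mk (orbitRel S₀ (G ⧸ S₀)) y = Quotient.mk (orbitRel S₀ (G ⧸ S₀)) (q : G ⧸ S₀))) h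
      rw [Finset.prod_congr rfl (fun (q : fixedPoints S₀ (G ⧸ S₀)) _ => hzval q q.2), Finset.prod_const,
        Finset.card_univ, ← Nat.card_eq_fintype_card]
      have hodd : ¬ 2 ∣ Nat.card (fixedPoints S₀ (G ⧸ S₀)) := fun hd =>
        S.not_dvd_index (by
          rw [Subgroup.index_eq_card]
          exact (Nat.ModEq.dvd_iff (S.2.card_modEq_card_fixedPoints (G ⧸ S₀)) dvd_rfl).2 hd)
      obtain ⟨k, hk⟩ := Nat.odd_iff.2 (by omega : Nat.card (fixedPoints S₀ (G ⧸ S₀)) % 2 = 1)
      have h2 : φ ⟨z, hzS⟩ ^ 2 = 1 := by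
        rw [← map_pow, ← map_one φ]
        exact congrArg φ (Subtype.ext hz2)
      rw [hk, pow_succ, pow_mul, h2, one_pow, one_mul]
    set V := MonoidHom.transfer φ with hVdef
    have hp2 : IsPGroup 2 (G ⧸ V.ker) :=
      ((S.2.to_quotient (frattini ↥S₀)).to_subgroup V.range).of_equiv (QuotientGroup.quotientKerEquivRange V).symm
    have hker : z ∈ V.ker := (hres ▸ Cfsg.Lib.Transfer.pResidual_le hp2 : (⊤ : Subgroup G) ≤ V.ker) (Subgroup.mem_top z)
    rw [MonoidHom.mem_ker, hVdef, hV, hprod] at hker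
    exact hzΦ ⟨⟨z, hzS⟩, (QuotientGroup.eq_one_iff _).1 hker, rfl⟩

end Cfsg.Agent.S2872
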