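import Cfsg.Statements.S2873
import Cfsg.Agent.Components.Cores
import Cfsg.Agent.Components.Local

set_option autoImplicit false
open Cfsg

namespace Cfsg.Agent.S2873

/-- Let G be a finite group and r an odd prime such that G ⧸ O₂(G) is dihedral of order 2r, and let R be a Sylow r-subgroup of G with C_{O₂(G)}(R) = 1. Then N_G(R) is dihedral of order 2r; for any involution a of N_G(R), every involution of G outside O₂(G) is conjugate to a; and |C_{O₂(G)}(a)|² = |O₂(G)|. -/
theorem result {G : Type*} [Group G] [Finite G] {r : ℕ} [Fact r.Prime] (hr : r ≠ 2) [hN : (Cfsg.pCore 2 G).Normal] (hquot : Nonempty (G ⧸ Cfsg.pCore 2 G ≃* DihedralGroup r)) (R : Sylow r G) (hC : Cfsg.pCore 2 G ⊓ Subgroup.centralizer ((R : Subgroup G) : Set G) = ⊥) : Nonempty (↥(Subgroup.normalizer ((R : Subgroup G) : Set G)) ≃* DihedralGroup r) ∧ ∀ a : G, a ∈ Subgroup.normalizer ((R : Subgroup G) : Set G) → orderOf a = 2 → (∀ b : G, orderOf b = 2 → b ∉ Cfsg.pCore 2 G → ∃ g : G, g * a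 * g⁻¹ = b) ∧ Nat.card ↥(Cfsg.pCore 2 G ⊓ Subgroup.centralizer ({a} : Set G)) ^ 2 = Nat.card ↥(Cfsg.pCore 2 G) := by
  open Subgroup in
  open DihedralGroup (r_mul_r r_mul_sr sr_mul_r sr_mul_sr inv_r inv_sr) in
  exact by
    haveI : Fact (Nat.Prime 2) := ⟨Nat.prime_two⟩
    haveI : NeZero r := ⟨(Fact.out : r.Prime).ne_zero⟩
    obtain ⟨e⟩ := hquot
    set Q := Cfsg.pCore 2 G with hQdef
    have hQp : IsPGroup 2 Q := Cfsg.Lib.Components.isPGroup_pCore 2
    set φ : G →* DihedralGroup r := e.toMonoidHom.comp (QuotientGroup.mk' Q) with hφdef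
    have hsurj : Function.Surjective φ := e.surjective.comp (QuotientGroup.mk'_surjective Q)
    have hker : ∀ x : G, φ x = 1 ↔ x ∈ Q := fun x => by
      simp [hφdef, QuotientGroup.eq_one_iff]
    set N := Subgroup.normalizer ((R : Subgroup G) : Set G)
    have hRQ : ∀ x ∈ (R : Subgroup G), x ∈ Q → x = 1 := fun x hx hxQ => by
      have := Cfsg.Lib.Components.coprime_pGroup_disjoint hQp (B := (R : Subgroup G)) (by
        obtain ⟨k, hk⟩ := IsPGroup.iff_card.1 R.2
        rw [hk]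
        exact ((Nat.coprime_primes Fact.out Nat.prime_two).2 hr).pow_left k)
      exact mem_bot.1 (this ▸ mem_inf.mpr ⟨hxQ, hx⟩)
    have hRN : (R : Subgroup G) ≤ N := le_normalizer
    have hcard : Nat.card (R : Subgroup G) = r := by
      obtain ⟨k, hk⟩ := IsPGroup.iff_card.1 hQp
      have hG : Nat.card G = 2 * r * 2 ^ k := by
        rw [Subgroup.card_eq_card_quotient_mul_card_subgroup Q, Nat.card_congr e.toEquiv, DihedralGroup.nat_card, hk]
      have hrP : r.Prime := Fact.out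
      rw [R.card_eq_multiplicity, hG, Nat.factorization_mul (by simp [hrP.ne_zero]) (by simp),
        Nat.factorization_mul (by simp) hrP.ne_zero, Finsupp.add_apply, Finsupp.add_apply,
        Nat.Prime.factorization_self hrP, Nat.factorization_pow, Finsupp.smul_apply,
        Nat.Prime.factorization Nat.prime_two, Finsupp.single_eq_of_ne hr]
      simp
    have hRimg : ∀ x ∈ (R : Subgroup G), ∃ j, φ x = DihedralGroup.r j := fun x hx => by
      rcases hd : φ x with j | j
      · exact ⟨j, rfl⟩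
      · have h1 : orderOf (φ x) ∣ r := (orderOf_map_dvd φ x).trans (hcard ▸ by
          simpa using orderOf_dvd_natCard (⟨x, hx⟩ : (R : Subgroup G)))
        rw [hd, DihedralGroup.orderOf_sr] at h1
        exact absurd ((Nat.prime_dvd_prime_iff_eq Nat.prime_two Fact.out).1 h1).symm hr
    choose f hf using fun x : (R : Subgroup G) => hRimg x.1 x.2
    have hfinj : Function.Injective f := fun x y hxy => by
      have : φ (x.1 * y.1⁻¹) = 1 := by rw [map_mul, map_inv, hf x, hf y, hxy, mul_inv_cancel]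
      exact Subtype.ext (mul_inv_eq_one.1 (hRQ _ (mul_mem x.2 (inv_mem y.2)) ((hker _).1 this)))
    have hfsurj : ∀ j, ∃ x ∈ (R : Subgroup G), φ x = DihedralGroup.r j := fun j => by
      have hb := hfinj.bijective_of_nat_card_le (by rw [hcard, Nat.card_zmod])
      obtain ⟨x, rfl⟩ := hb.2 j
      exact ⟨x.1, x.2, hf x⟩
    have hKn : ((R : Subgroup G) ⊔ Q).Normal := by
      have hmem : ∀ y : G, (∃ j, φ y = DihedralGroup.r j) ↔ y ∈ (R : Subgroup G) ⊔ Q := by
        intro y
        constructor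
        · rintro ⟨j, hj⟩
          obtain ⟨x, hx, hxj⟩ := hfsurj j
          rw [show y = x * (x⁻¹ * y) by group]
          exact mul_mem (mem_sup_left hx) (mem_sup_right ((hker _).1 (by rw [map_mul, map_inv, hj, hxj, inv_mul_cancel])))
        · intro hy
          obtain ⟨x, hx, q, hq, rfl⟩ := mem_sup_of_normal_right.1 hy
          obtain ⟨j, hj⟩ := hRimg x hx
          exact ⟨j, by rw [map_mul, hj, (hker q).2 hq, mul_one]⟩
      refine ⟨fun y hy g => ?_⟩
      rw [← hmem] at hy ⊢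
      obtain ⟨j, hj⟩ := hy
      rw [map_mul, map_mul, map_inv, hj]
      rcases φ g with l | l
      · exact ⟨l + j + -l, by rw [inv_r, r_mul_r, r_mul_r]⟩
      · exact ⟨l - (l + j), by rw [inv_sr, sr_mul_r, sr_mul_sr]⟩
    have htop : N ⊔ Q = ⊤ := by
      have := Sylow.normalizer_sup_eq_top' R (le_sup_left : (R : Subgroup G) ≤ (R : Subgroup G) ⊔ Q)
      change N ⊔ ((R : Subgroup G) ⊔ Q) = ⊤ at this
      rw [← sup_assoc, sup_eq_left.2 hRN] at this
      exact this
    have hNQ : ∀ q ∈ N, q ∈ Q → q = 1 := fun q hqN hq => by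
      refine mem_bot.1 (hC ▸ mem_inf.mpr ⟨hq, mem_centralizer_iff.2 fun x hx => ?_⟩)
      have h1 : q * x * q⁻¹ * x⁻¹ ∈ (R : Subgroup G) :=
        (R : Subgroup G).mul_mem ((mem_normalizer_iff.1 hqN x).1 hx) ((R : Subgroup G).inv_mem hx)
      have h2 : q * x * q⁻¹ * x⁻¹ ∈ Q := by
        rw [show q * x * q⁻¹ * x⁻¹ = q * (x * q⁻¹ * x⁻¹) by group]
        exact mul_mem hq (hN.conj_mem _ (inv_mem hq) x)
      exact (mul_inv_eq_iff_eq_mul.1 (mul_inv_eq_one.1 (hRQ _ h1 h2))).symm
    have hinj : ∀ x ∈ N, ∀ y ∈ N, φ x = φ y → x = y := fun x hx y hy h =>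
      mul_inv_eq_one.1 (hNQ _ (mul_mem hx (inv_mem hy)) ((hker _).1 (by rw [map_mul, map_inv, h, mul_inv_cancel])))
    have hNs : ∀ d, ∃ n ∈ N, φ n = d := fun d => by
      obtain ⟨g, rfl⟩ := hsurj d
      obtain ⟨n, hn, q, hq, rfl⟩ := mem_sup_of_normal_right.1 (htop.ge (mem_top g))
      exact ⟨n, hn, by rw [map_mul, (hker q).2 hq, mul_one]⟩
    refine ⟨⟨MulEquiv.ofBijective (φ.comp N.subtype)
      ⟨fun x y h => Subtype.ext (hinj _ x.2 _ y.2 h), fun d => by
        obtain ⟨n, hn, rfl⟩ := hNs d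
        exact ⟨⟨n, hn⟩, rfl⟩⟩⟩, fun a haN ha => ?_⟩
    obtain ⟨k, hk⟩ : ∃ k, r = 2 * k + 1 := (Fact.out : r.Prime).odd_of_ne_two hr
    have h2k : (2 * (k : ZMod r) + 1) = 0 := by
      have h : ((2 * k + 1 : ℕ) : ZMod r) = 0 := by rw [← hk]; exact ZMod.natCast_self r
      push_cast at h; exact h
    have refl : ∀ b : G, orderOf b = 2 → b ∉ Q → ∃ j, φ b = DihedralGroup.sr j := fun b hb hbQ => by
      rcases hd : φ b with j | j
      · exfalso
        have h1 : orderOf (φ b) ∣ 2 := hb ▸ orderOf_map_dvd φ b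
        have h2 : orderOf (φ b) ∣ r := by
          rw [hd, DihedralGroup.orderOf_r]; exact Nat.div_dvd_of_dvd (Nat.gcd_dvd_left _ _)
        exact hbQ ((hker b).1 (orderOf_eq_one_iff.1
          (Nat.eq_one_of_dvd_coprimes ((Nat.coprime_primes Nat.prime_two Fact.out).2 (Ne.symm hr)) h1 h2)))
      · exact ⟨j, rfl⟩
    have ha2 : a * a = 1 := by rw [← pow_two, ← ha, pow_orderOf_eq_one]
    obtain ⟨i, hi⟩ := refl a ha fun h => by
      rw [hNQ a haN h, orderOf_one] at ha; exact absurd ha (by norm_num)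
    obtain ⟨ρ, hρR, hρ⟩ := hfsurj 1
    have hρN := hRN hρR
    have hR : zpowers ρ = (R : Subgroup G) := by
      refine eq_of_le_of_card_ge (zpowers_le.2 hρR) ?_
      rw [hcard, Nat.card_zpowers]
      refine Nat.le_of_dvd (orderOf_pos _) ?_
      have h := orderOf_map_dvd φ ρ
      rwa [hρ, DihedralGroup.orderOf_r_one] at h
    have hCρ : ∀ q ∈ Q, q * ρ = ρ * q → q = 1 := fun q hq h => by
      refine mem_bot.1 (hC ▸ mem_inf.mpr ⟨hq, mem_centralizer_iff.2 fun x hx => ?_⟩)
      rw [SetLike.mem_coe, ← hR, mem_zpowers_iff] at hx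
      obtain ⟨z, rfl⟩ := hx
      exact ((Commute.zpow_right (show Commute q ρ from h) z).eq).symm
    have haρ : a * ρ * a = ρ⁻¹ := hinj _ (mul_mem (mul_mem haN hρN) haN) _ (inv_mem hρN) (by
      rw [map_mul, map_mul, map_inv, hi, hρ, inv_r, sr_mul_r, sr_mul_sr]; congr 1; ring)
    set a' := a * ρ
    have ha'2 : a' * a' = 1 := by
      calc a' * a' = (a * ρ * a) * ρ := by simp only [a']; group
        _ = 1 := by rw [haρ, inv_mul_cancel]
    obtain ⟨c, hcN, hc⟩ := hNs (DihedralGroup.r (k : ZMod r))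
    have hca : c * a * c⁻¹ = a' := hinj _ (mul_mem (mul_mem hcN haN) (inv_mem hcN)) _ (mul_mem haN hρN) (by
      rw [map_mul, map_mul, map_inv, hc, hi, map_mul, hi, hρ, inv_r, r_mul_sr, sr_mul_r, sr_mul_r]
      congr 1; linear_combination (-1 : ZMod r) * h2k)
    have hfQ : ∀ x : G, φ x = φ ρ → ∃ q ∈ Q, q * ρ * q⁻¹ = x := by
      intro x hx
      let F : Q → Q := fun q => ⟨q * ρ * (q : G)⁻¹ * ρ⁻¹, by
        rw [show (q : G) * ρ * (q : G)⁻¹ * ρ⁻¹ = q * (ρ * (q : G)⁻¹ * ρ⁻¹) by group]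
        exact mul_mem q.2 (hN.conj_mem _ (inv_mem q.2) _)⟩
      have hF : Function.Injective F := fun q q' h => by
        have h' : (q : G) * ρ * (q : G)⁻¹ = q' * ρ * (q' : G)⁻¹ := mul_right_cancel (congrArg Subtype.val h :)
        refine Subtype.ext (inv_mul_eq_one.1 (hCρ _ (mul_mem (inv_mem q'.2) q.2) ?_)).symm
        calc (q' : G)⁻¹ * q * ρ = (q' : G)⁻¹ * (q * ρ * (q : G)⁻¹) * q := by group
          _ = ρ * ((q' : G)⁻¹ * q) := by rw [h']; group
      obtain ⟨q, hq⟩ := (Finite.injective_iff_surjective.1 hF) ⟨x * ρ⁻¹,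
        (hker _).1 (by rw [map_mul, map_inv, hx, mul_inv_cancel])⟩
      exact ⟨q, q.2, mul_right_cancel (congrArg Subtype.val hq :)⟩
    have huniq : ∀ t s : G, φ t = φ a → φ s = φ a → t * t = 1 → s * s = 1 → ∀ q ∈ Q,
        t * (q * ρ * q⁻¹) * t = (q * ρ * q⁻¹)⁻¹ → s * (q * ρ * q⁻¹) * s = (q * ρ * q⁻¹)⁻¹ → t = s := by
      intro t s ht hs ht2 hs2 q hq h1 h2
      have hu : s * t ∈ Q := (hker _).1 (by rw [map_mul, ht, hs, ← map_mul, ha2, map_one])
      have h3 : (s * t) * (q * ρ * q⁻¹) = (q * ρ * q⁻¹) * (s * t) := by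
        have e1 : t * (q * ρ * q⁻¹) = (q * ρ * q⁻¹)⁻¹ * t := by
          rw [← h1, mul_assoc (t * _) t t, ht2, mul_one]
        have e2 : s * (q * ρ * q⁻¹)⁻¹ = (q * ρ * q⁻¹) * s := by
          calc s * (q * ρ * q⁻¹)⁻¹ = (s * s) * (q * ρ * q⁻¹) * s := by rw [← h2]; group
            _ = (q * ρ * q⁻¹) * s := by rw [hs2, one_mul]
        rw [mul_assoc, e1, ← mul_assoc, e2, mul_assoc]
      have h4 := hCρ (q⁻¹ * (s * t) * q) (mul_mem (mul_mem (inv_mem hq) hu) hq) (by
        calc q⁻¹ * (s * t) * q * ρ = q⁻¹ * ((s * t) * (q * ρ * q⁻¹)) * q := by group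
          _ = ρ * (q⁻¹ * (s * t) * q) := by rw [h3]; group)
      have h5 : s * t = 1 := by
        calc s * t = q * (q⁻¹ * (s * t) * q) * q⁻¹ := by group
          _ = 1 := by rw [h4]; group
      calc t = (s * s) * t := by rw [hs2, one_mul]
        _ = s := by rw [mul_assoc, h5, mul_one]
    have hinv : ∀ t u : G, t * t = 1 → u * u = 1 → t * (t * u) * t = (t * u)⁻¹ := fun t u ht hu => by
      rw [← mul_assoc t t u, ht, one_mul, mul_inv_rev, ← eq_inv_of_mul_eq_one_left hu, ← eq_inv_of_mul_eq_one_left ht]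
    have hqa : ∀ q ∈ Q, φ (q * a * q⁻¹) = φ a := fun q hq => by
      rw [map_mul, map_mul, map_inv, (hker q).2 hq, one_mul, inv_one, mul_one]
    have hsq : ∀ q w : G, w * w = 1 → (q * w * q⁻¹) * (q * w * q⁻¹) = 1 := fun q w hw => by
      calc (q * w * q⁻¹) * (q * w * q⁻¹) = q * (w * w) * q⁻¹ := by group
        _ = 1 := by rw [hw]; group
    have hconjx : ∀ q : G, (q * a * q⁻¹) * (q * a' * q⁻¹) = q * ρ * q⁻¹ := fun q => by
      calc (q * a * q⁻¹) * (q * a' * q⁻¹) = q * ((a * a) * ρ) * q⁻¹ := by simp only [a']; group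
        _ = q * ρ * q⁻¹ := by rw [ha2, one_mul]
    have hmain : ∀ t u : G, φ t = φ a → φ u = φ a' → t * t = 1 → u * u = 1 →
        ∃ q ∈ Q, q * a * q⁻¹ = t ∧ q * a' * q⁻¹ = u := by
      intro t u ht hu ht2 hu2
      obtain ⟨q, hq, hqx⟩ := hfQ (t * u) (by rw [map_mul, ht, hu, ← map_mul, ← mul_assoc, ha2, one_mul])
      have h1 : q * a * q⁻¹ = t := huniq _ _ (hqa q hq) ht (hsq q a ha2) ht2 q hq
        (by rw [← hconjx q]; exact hinv _ _ (hsq q a ha2) (hsq q a' ha'2))
        (by rw [hqx]; exact hinv t u ht2 hu2)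
      refine ⟨q, hq, h1, ?_⟩
      have := hconjx q
      rw [h1, hqx] at this
      exact mul_left_cancel this
    refine ⟨fun b hb hbQ => ?_, ?_⟩
    · obtain ⟨j, hj⟩ := refl b hb hbQ
      obtain ⟨n, hnN, hn⟩ := hNs (DihedralGroup.r ((j - i) * ((k : ZMod r) + 1)))
      have hb2 : b * b = 1 := by rw [← pow_two, ← hb, pow_orderOf_eq_one]
      obtain ⟨q, hq, h1, -⟩ := hmain (n * b * n⁻¹) a' (by
        rw [map_mul, map_mul, map_inv, hn, hj, hi, inv_r, r_mul_sr, sr_mul_r]
        congr 1; linear_combination (i - j) * h2k) rfl (hsq n b hb2) ha'2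
      exact ⟨n⁻¹ * q, by rw [show n⁻¹ * q * a * (n⁻¹ * q)⁻¹ = n⁻¹ * (q * a * q⁻¹) * n by group, h1]; group⟩
    · set C := Q ⊓ Subgroup.centralizer ({a} : Set G) with hCdef
      set C' := Q ⊓ Subgroup.centralizer ({a'} : Set G) with hC'def
      have hCC' : Nat.card C' = Nat.card C := by
        have h : C.map (MulAut.conj c).toMonoidHom = C' := by
          ext x
          constructor
          · rintro ⟨y, hy, rfl⟩
            refine mem_inf.mpr ⟨hN.conj_mem _ (mem_inf.1 hy).1 c, mem_centralizer_singleton_iff.2 ?_⟩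
            have := mem_centralizer_singleton_iff.1 (mem_inf.1 hy).2
            show c * y * c⁻¹ * a' = a' * (c * y * c⁻¹)
            rw [← hca]
            calc c * y * c⁻¹ * (c * a * c⁻¹) = c * (y * a) * c⁻¹ := by group
              _ = c * a * c⁻¹ * (c * y * c⁻¹) := by rw [this]; group
          · intro hx
            refine ⟨c⁻¹ * x * c, mem_inf.mpr ⟨?_, mem_centralizer_singleton_iff.2 ?_⟩, by simp [mul_assoc]⟩
            · simpa using hN.conj_mem _ (mem_inf.1 hx).1 c⁻¹
            · have := mem_centralizer_singleton_iff.1 (mem_inf.1 hx).2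
              rw [← hca] at this
              calc c⁻¹ * x * c * a = c⁻¹ * (x * (c * a * c⁻¹)) * c := by group
                _ = a * (c⁻¹ * x * c) := by rw [this]; group
        rw [← h, card_map_of_injective (MulEquiv.injective _)]
      let F : Q → (Q ⧸ C.subgroupOf Q) × (Q ⧸ C'.subgroupOf Q) := fun q => (QuotientGroup.mk q, QuotientGroup.mk q)
      have hFb : Function.Bijective F := by
        refine ⟨fun q q' h => ?_, fun p => ?_⟩
        · obtain ⟨h1, h2⟩ := Prod.mk.inj h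
          rw [QuotientGroup.eq] at h1 h2
          have h1' := mem_centralizer_singleton_iff.1 (mem_inf.1 h1).2
          have h2' := mem_centralizer_singleton_iff.1 (mem_inf.1 h2).2
          refine Subtype.ext (inv_mul_eq_one.1 (hCρ _ (mul_mem (inv_mem q.2) q'.2) ?_))
          change ((q : G)⁻¹ * q') * a = a * ((q : G)⁻¹ * q') at h1'
          change ((q : G)⁻¹ * q') * a' = a' * ((q : G)⁻¹ * q') at h2'
          have hρ' : ρ = a * a' := by simp only [a']; rw [← mul_assoc, ha2, one_mul]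
          rw [hρ', ← mul_assoc, h1', mul_assoc a, h2', ← mul_assoc]
        · obtain ⟨p1, p2⟩ := p
          induction p1 using QuotientGroup.induction_on with
          | H q1 =>
          induction p2 using QuotientGroup.induction_on with
          | H q2 =>
          obtain ⟨q, hq, e1, e2⟩ := hmain (q1 * a * (q1 : G)⁻¹) (q2 * a' * (q2 : G)⁻¹) (hqa _ q1.2)
            (by rw [map_mul, map_mul, map_inv, (hker _).2 q2.2, one_mul, inv_one, mul_one]) (hsq _ a ha2) (hsq _ a' ha'2)
          have conv : ∀ (w : G) (q' : Q), q * w * q⁻¹ = q' * w * (q' : G)⁻¹ →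
              (q⁻¹ * (q' : G)) * w = w * (q⁻¹ * q') := fun w q' h => by
            calc q⁻¹ * (q' : G) * w = q⁻¹ * ((q' : G) * w * (q' : G)⁻¹) * q' := by group
              _ = w * (q⁻¹ * q') := by rw [← h]; group
          refine ⟨⟨q, hq⟩, Prod.ext ?_ ?_⟩
          · exact QuotientGroup.eq.2 (mem_inf.mpr ⟨mul_mem (inv_mem hq) q1.2, mem_centralizer_singleton_iff.2 (conv a q1 e1)⟩)
          · exact QuotientGroup.eq.2 (mem_inf.mpr ⟨mul_mem (inv_mem hq) q2.2, mem_centralizer_singleton_iff.2 (conv a' q2 e2)⟩)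
      have e1 := Nat.card_eq_of_bijective F hFb
      rw [Nat.card_prod] at e1
      have e2 := Subgroup.card_eq_card_quotient_mul_card_subgroup (C.subgroupOf Q)
      have e3 := Subgroup.card_eq_card_quotient_mul_card_subgroup (C'.subgroupOf Q)
      rw [Nat.card_congr (subgroupOfEquivOfLe (inf_le_left (b := Subgroup.centralizer ({a} : Set G)))).toEquiv] at e2
      rw [Nat.card_congr (subgroupOfEquivOfLe (inf_le_left (b := Subgroup.centralizer ({a'} : Set G)))).toEquiv, hCC'] at e3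
      have hn : Nat.card (Q ⧸ C.subgroupOf Q) = Nat.card (Q ⧸ C'.subgroupOf Q) :=
        Nat.eq_of_mul_eq_mul_right Nat.card_pos (e2.symm.trans e3)
      have hC : Nat.card C = Nat.card (Q ⧸ C.subgroupOf Q) := by
        rw [← hn] at e1
        exact Nat.eq_of_mul_eq_mul_left Nat.card_pos (e2.symm.trans e1)
      rw [pow_two, hC, e1, hn]

end Cfsg.Agent.S2873
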