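import Cfsg.Statements.S2881
import Cfsg.Agent.Components.Misc.ExtraPlusCount

set_option autoImplicit false
open Cfsg

namespace Cfsg.Agent.S2881

/-- Let E be an extraspecial 2-group of order 2^(2m+1) of plus type (containing an elementary abelian subgroup of order 2^(m+1)), and let ω be an automorphism of E of order 5 whose fixed points are exactly the centre of E. Then m is divisible by 4. -/
theorem result {E : Type*} [Group E] [Finite E] (m : ℕ) (hm : 1 ≤ m) (hE : Cfsg.IsExtraspecial 2 E) (hcard : Nat.card E = 2 ^ (2 * m + 1)) (hplus : ∃ A : Subgroup E, Cfsg.IsElementaryAbelian 2 A ∧ Nat.card A = 2 ^ (m + 1)) (ω : E ≃* E) (hω : orderOf ω = 5) (hfix : ∀ x : E, ω x = x ↔ x ∈ Subgroup.center E) : 4 ∣ m := by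
  classical
  obtain ⟨A, hA, hAc⟩ := hplus
  have hcount := Cfsg.Lib.ExtraPlusCount.card_orderOf_four hE hcard A hA hAc
  let σ : Equiv.Perm {x : E // orderOf x = 4} :=
    ω.toEquiv.subtypeEquiv fun x => by rw [MulEquiv.toEquiv_eq_coe, MulEquiv.coe_toEquiv, orderOf_injective ω.toMonoidHom ω.injective x |>.symm]; rfl
  have hpow : ∀ (k : ℕ) (x : {x : E // orderOf x = 4}), ((σ ^ k) x).val = (ω ^ k : MulAut E) x.val := by
    intro k
    induction k with
    | zero => intro x; rfl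
    | succ k ih =>
      intro x
      rw [pow_succ', pow_succ', Equiv.Perm.mul_apply, MulAut.mul_apply, ← ih]
      rfl
  haveI : Fact (Nat.Prime 5) := ⟨by norm_num⟩
  haveI : Fact (Nat.Prime 2) := ⟨Nat.prime_two⟩
  haveI := Fintype.ofFinite {x : E // orderOf x = 4}
  have h5 : (ω : MulAut E) ^ 5 = 1 := hω ▸ pow_orderOf_eq_one (ω : MulAut E)
  have hσ : σ ^ 5 ^ 1 = 1 := Equiv.ext fun x => Subtype.ext (by rw [pow_one, hpow, h5]; rfl)
  have hmod := Equiv.Perm.card_compl_support_modEq hσ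
  have hfixed : σ.supportᶜ = ∅ := by
    rw [Finset.eq_empty_iff_forall_notMem]
    intro x hx
    rw [Finset.mem_compl, Equiv.Perm.mem_support, not_not] at hx
    have hxc : x.val ∈ Subgroup.center E := (hfix x.val).1 (congrArg Subtype.val hx)
    have hdvd := (Subgroup.center E).orderOf_dvd_natCard hxc
    rw [hE.2, x.2] at hdvd
    norm_num at hdvd
  rw [hfixed, Finset.card_empty, ← Nat.card_eq_fintype_card, hcount] at hmod
  have hd : 5 ∣ 2 ^ (2 * m) - 2 ^ m := Nat.modEq_zero_iff_dvd.1 hmod.symm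
  rw [show 2 ^ (2 * m) - 2 ^ m = 2 ^ m * (2 ^ m - 1) by rw [Nat.mul_sub, mul_one, ← pow_add, two_mul]] at hd
  have h1 : 5 ∣ 2 ^ m - 1 := (Nat.Coprime.pow_right m (by norm_num : Nat.Coprime 5 2)).dvd_of_dvd_mul_left hd
  obtain ⟨j, hj⟩ : ∃ j, m = 4 * j + m % 4 := ⟨m / 4, (Nat.div_add_mod m 4).symm⟩
  have h16 : ∀ k : ℕ, 2 ^ (4 * k) % 5 = 1 := fun k => by rw [pow_mul, Nat.pow_mod]; norm_num
  have hlt := Nat.mod_lt m (show 0 < 4 by norm_num)
  have hval : 2 ^ m % 5 = 2 ^ (m % 4) % 5 := by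
    conv_lhs => rw [hj, pow_add, Nat.mul_mod, h16, one_mul, Nat.mod_mod]
  have hpos : 1 ≤ 2 ^ m := Nat.one_le_two_pow
  have hm1 : 2 ^ m % 5 = 1 := by omega
  rw [hval] at hm1
  apply Nat.dvd_of_mod_eq_zero
  interval_cases h : m % 4 <;> simp_all

end Cfsg.Agent.S2881
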