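import Cfsg.Statements.S2882
import Cfsg.Agent.Golay.FusionM24
import Cfsg.Agent.Components.Misc.SelfNormCert

set_option autoImplicit false
open Cfsg

namespace Cfsg.Agent.S2882

/-- In the Mathieu group of degree 24 (realised as the automorphism group of the extended binary Golay code) every Sylow 2-subgroup is self-normalizing. -/
theorem result (S : Sylow 2 ↥Cfsg.M24) : Subgroup.normalizer ((S : Subgroup ↥Cfsg.M24) : Set ↥Cfsg.M24) = (S : Subgroup ↥Cfsg.M24) := by
  exact Cfsg.Lib.Golay.FusionCert.selfNorm Cfsg.Lib.Golay.m24PointChain Cfsg.Lib.Golay.FusionCert.certM24 Cfsg.Lib.Golay.pointChain_check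
    (by decide +kernel) (by decide +kernel) (m := 9) (by decide +kernel) (by decide +kernel)
    (Cfsg.Lib.Golay.FusionCert.toFin _)
    (Cfsg.Lib.Golay.permHom.symm.injective.comp (Subgroup.subtype_injective _))
    (by
      rw [Cfsg.Lib.Golay.FusionCert.toFin, MonoidHom.range_comp, Subgroup.range_subtype, ← Cfsg.Lib.Golay.onPts_pointChain,
        Cfsg.Lib.Golay.onPts, Subgroup.map_map]
      convert Subgroup.map_id _
      exact MonoidHom.ext fun g => Cfsg.Lib.Golay.permHom.symm_apply_apply g) S

end Cfsg.Agent.S2882
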