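import Cfsg.Statements.S2896
import Cfsg.Agent.Components.Misc.Parabolic

set_option autoImplicit false
open Cfsg

namespace Cfsg.Agent.S2896

/-- Let p be a prime dividing the order of the finite group G, S a Sylow p-subgroup of G and X a subgroup of S. (i) If some nontrivial element z of the centre of X has F*(C_G(z)) = O_p(C_G(z)), then F*(N_G(X)) = O_p(N_G(X)). (ii) G has parabolic characteristic p if and only if F*(C_G(z)) = O_p(C_G(z)) for every nontrivial z ∈ Ω₁(Z(S)). (iii) If F*(C_G(z)) = O_p(C_G(z)) for every element z of S of order p, then G has local characteristic p. -/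
theorem result {G : Type*} [Group G] [Finite G] {p : ℕ} [Fact p.Prime] (hdiv : p ∣ Nat.card G) (S : Sylow p G) (X : Subgroup G) (hX : X ≤ (S : Subgroup G)) : (∀ z : G, z ≠ 1 → z ∈ X → (∀ x ∈ X, x * z = z * x) → Cfsg.generalizedFittingSubgroup ↥(Subgroup.centralizer ({z} : Set G)) = Cfsg.pCore p ↥(Subgroup.centralizer ({z} : Set G)) → Cfsg.generalizedFittingSubgroup ↥(Subgroup.normalizer (X : Set G)) = Cfsg.pCore p ↥(Subgroup.normalizer (X : Set G))) ∧ (Cfsg.IsOfParabolicCharacteristic p G ↔ ∀ z : G, z ≠ 1 → z ∈ Cfsg.omegaOne p ((S : Subgroup G) ⊓ Subgroup.centralizer ((S : Subgroup G) : Set G)) → Cfsg.generalizedFittingSubgroup ↥(Subgroup.centralizer ({z} : Set G)) = Cfsg.pCore p ↥(Subgroup.centralizer ({z} : Set G))) ∧ ((∀ z : G, z ∈ (S : Subgroup G) → orderOf z = p → Cfsg.generalizedFittingSubgroup ↥(Subgroup.centralizer ({z} : Set G)) = Cfsg.pCore p ↥(Subgroup.centralizer ({z} : Set G))) → Cfsg.IsOfLocalCharacteristic p G) := by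
  simp only [← Cfsg.Lib.Components.charP_iff_genFitting]
  refine ⟨fun z _ hz hc h => Cfsg.Lib.Components.charP_normalizer_of_central (S.2.to_le hX) hz hc h,
    ⟨fun hG z hz1 hz => Cfsg.Lib.Components.charP_centralizer_of_parabolic hG S hz1
        ((Subgroup.closure_le _).2 (fun x hx => hx.1) hz),
      fun h => Cfsg.Lib.Components.parabolic_of_center S fun z hz1 hzp hz =>
        h z hz1 (Cfsg.Lib.Components.mem_omegaOne_of hz hzp)⟩, fun h => ⟨hdiv, fun T hT hTne => ?_⟩⟩
  obtain ⟨z, hz, hzc, hzo⟩ := Cfsg.Lib.Components.exists_central_order_p hT le_rfl Subgroup.le_normalizer hTne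
  obtain ⟨P, hP⟩ := hT.exists_le_sylow
  obtain ⟨g, rfl⟩ := MulAction.exists_smul_eq G S P
  obtain ⟨w, hw, hwz⟩ := hP hz
  have hwz' : g * w * g⁻¹ = z := hwz
  have hwo : orderOf w = p := by
    rw [← hzo, ← hwz']
    exact (orderOf_injective (MulAut.conj g).toMonoidHom (MulAut.conj g).injective w).symm
  have h2 := Cfsg.Lib.Components.charP_centralizer_conj g (h w hw hwo)
  rw [hwz'] at h2
  exact Cfsg.Lib.Components.charP_normalizer_of_central hT hz hzc h2

end Cfsg.Agent.S2896
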