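import Cfsg.Statements.S2897
import Cfsg.Agent.Components.Misc.Parabolic
import Cfsg.Agent.S0542

set_option autoImplicit false
open Cfsg

namespace Cfsg.Agent.S2897

/-- Let p be a prime dividing the order of the finite group G, suppose G has parabolic characteristic p, let S be a Sylow p-subgroup of G and G₁ a normal subgroup of G. If Ω₁(Z(S ∩ G₁)) is nontrivial and contained in Ω₁(Z(S)), then G₁ has parabolic characteristic p. -/
theorem result {G : Type*} [Group G] [Finite G] {p : ℕ} [Fact p.Prime] (hdiv : p ∣ Nat.card G) (hG : Cfsg.IsOfParabolicCharacteristic p G) (S : Sylow p G) (G₁ : Subgroup G) [G₁.Normal] (hne : Cfsg.omegaOne p (((S : Subgroup G) ⊓ G₁) ⊓ Subgroup.centralizer (((S : Subgroup G) ⊓ G₁ : Subgroup G) : Set G)) ≠ ⊥) (hle : Cfsg.omegaOne p (((S : Subgroup G) ⊓ G₁) ⊓ Subgroup.centralizer (((S : Subgroup G) ⊓ G₁ : Subgroup G) : Set G)) ≤ Cfsg.omegaOne p ((S : Subgroup G) ⊓ Subgroup.centralizer ((S : Subgroup G) : Set G))) : Cfsg.IsOfParabolicCharacteristic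 p ↥G₁ := by
  obtain ⟨Q, hQ⟩ := Cfsg.Agent.S0542.result p G₁ (Subgroup.Normal.isSubnormal inferInstance) S
  refine Cfsg.Lib.Components.parabolic_of_center Q fun z hz1 hzp hz => ?_
  rw [hQ] at hz
  refine Cfsg.Lib.Components.charP_centralizer_subnormal (Subgroup.Normal.isSubnormal inferInstance)
    (Cfsg.Lib.Components.charP_centralizer_of_parabolic hG S (fun h => hz1 (Subtype.ext h))
      ((Subgroup.closure_le _).2 (fun x hx => hx.1) (hle (Cfsg.Lib.Components.mem_omegaOne_of
        ⟨⟨hz.1, z.2⟩, Subgroup.mem_centralizer_iff.2 fun x hx => ?_⟩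
        (by rw [← Subgroup.coe_pow, hzp, Subgroup.coe_one])))))
  exact congrArg Subtype.val (Subgroup.mem_centralizer_iff.1 hz.2 ⟨x, hx.2⟩ hx.1)

end Cfsg.Agent.S2897
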