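import Cfsg.Statements.S2898
import Cfsg.Agent.Components.Misc.Parabolic
import Cfsg.Agent.Components.Cores

set_option autoImplicit false
open Cfsg

namespace Cfsg.Agent.S2898

/-- Let G be a finite group of even order with parabolic characteristic 2. If the centre of G ⧸ O(G) is trivial, then O(G) = 1. -/
theorem result {G : Type*} [Group G] [Finite G] (h2 : 2 ∣ Nat.card G) (hG : Cfsg.IsOfParabolicCharacteristic 2 G) [hN : (Cfsg.oddCore G).Normal] (hZ : Subgroup.center (G ⧸ Cfsg.oddCore G) = ⊥) : Cfsg.oddCore G = ⊥ := by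
  by_contra hO
  obtain ⟨S⟩ : Nonempty (Sylow 2 G) := inferInstance
  have hS : (S : Subgroup G) ≠ ⊥ := by
    intro h
    have h1 := S.not_dvd_index
    rw [h, Subgroup.index_bot] at h1
    exact h1 h2
  have hodd := Cfsg.Lib.Components.coprime_card_pPrimeCore (G := G) 2
  -- an element of order two in a centre of the Sylow group inverts the odd core
  have inv : ∀ z ∈ (S : Subgroup G), (∀ x ∈ (S : Subgroup G), x * z = z * x) → orderOf z = 2 →
      ∀ y ∈ Cfsg.oddCore G, z * y * z⁻¹ = y⁻¹ := by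
    intro z hz hzc hzo y hy
    have hC := Cfsg.Lib.Components.charP_centralizer_of_parabolic hG S
      (fun h => by rw [h, orderOf_one] at hzo; omega) ⟨hz, Subgroup.mem_centralizer_iff.2 hzc⟩
    have hcore := (Cfsg.Lib.Components.charP_iff.1 hC).1
    have hfix : ∀ x ∈ Cfsg.oddCore G, z * x * z⁻¹ = x → x = 1 := by
      intro x hx hxz
      haveI : ((Cfsg.oddCore G).subgroupOf (Subgroup.centralizer ({z} : Set G))).Normal :=
        Subgroup.normal_subgroupOf
      have hle : (Cfsg.oddCore G).subgroupOf (Subgroup.centralizer ({z} : Set G)) ≤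
          Cfsg.pPrimeCore 2 ↥(Subgroup.centralizer ({z} : Set G)) := by
        refine Cfsg.Lib.Components.le_pPrimeCore (Nat.Coprime.coprime_dvd_left ?_ hodd)
        exact Subgroup.card_comap_dvd_of_injective _ _ (Subgroup.subtype_injective _)
      rw [hcore, le_bot_iff, Subgroup.subgroupOf_eq_bot] at hle
      exact Subgroup.disjoint_def.1 hle hx (Subgroup.mem_centralizer_singleton_iff.2
        (by have h3 := congrArg (· * z) hxz; simpa [mul_assoc] using h3.symm))
    let f : Cfsg.oddCore G → Cfsg.oddCore G := fun x =>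
      ⟨(x : G)⁻¹ * (z * x * z⁻¹), mul_mem (inv_mem x.2) (hN.conj_mem _ x.2 z)⟩
    have hf : Function.Injective f := by
      intro a b hab
      have h3 : (a : G)⁻¹ * (z * a * z⁻¹) = (b : G)⁻¹ * (z * b * z⁻¹) := congrArg Subtype.val hab
      have h4 : z * ((b : G) * (a : G)⁻¹) * z⁻¹ = (b : G) * (a : G)⁻¹ := by
        have h5 := congrArg (fun u => (b : G) * u * (z * (a : G)⁻¹ * z⁻¹)) h3
        simpa [mul_assoc] using h5.symm
      exact Subtype.ext (mul_inv_eq_one.1 (hfix _ (mul_mem b.2 (inv_mem a.2)) h4)).symm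
    obtain ⟨x, hx⟩ := Finite.surjective_of_injective hf ⟨y, hy⟩
    have hxy : (x : G)⁻¹ * (z * x * z⁻¹) = y := congrArg Subtype.val hx
    have hzz : z⁻¹ = z := by
      rw [inv_eq_iff_mul_eq_one, ← pow_two, ← hzo]
      exact pow_orderOf_eq_one z
    rw [← hxy]
    rw [hzz]
    have hzz2 : z * z = 1 := by rw [← pow_two, ← hzo]; exact pow_orderOf_eq_one z
    simp only [mul_inv_rev, inv_inv, mul_assoc, hzz]
    simp [hzz2]
  set K := Subgroup.centralizer ((Cfsg.oddCore G : Subgroup G) : Set G) with hK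
  haveI : K.Normal := Subgroup.normal_centralizer
  have hKodd : (Nat.card K).Coprime 2 := by
    rw [Nat.coprime_two_right, ← Nat.not_even_iff_odd, even_iff_two_dvd]
    intro h
    obtain ⟨k, hk⟩ := exists_prime_orderOf_dvd_card' (G := K) 2 h
    obtain ⟨P, hP⟩ := (IsPGroup.of_card (p := 2) (n := 1) (G := Subgroup.zpowers (k : G))
      (by rw [Nat.card_zpowers, Subgroup.orderOf_coe, hk, pow_one])).exists_le_sylow
    obtain ⟨g, rfl⟩ := MulAction.exists_smul_eq G S P
    obtain ⟨w, hw, hwk⟩ := hP (Subgroup.mem_zpowers _)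
    have hwk' : g * w * g⁻¹ = (k : G) := hwk
    have hwK : w ∈ K := by
      have := (inferInstance : K.Normal).conj_mem _ k.2 g⁻¹
      rw [← hwk'] at this
      simpa [mul_assoc] using this
    have hne : (S : Subgroup G) ⊓ K ≠ ⊥ := fun h0 => by
      have h1 : w = 1 := (Subgroup.eq_bot_iff_forall _).1 h0 w ⟨hw, hwK⟩
      rw [h1, mul_one, mul_inv_cancel] at hwk'
      rw [← Subgroup.orderOf_coe, ← hwk', orderOf_one] at hk
      omega
    obtain ⟨z, hz, hzc, hzo⟩ := Cfsg.Lib.Components.exists_central_order_p S.2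
      (R := (S : Subgroup G) ⊓ K) inf_le_left (fun s (hs : s ∈ (S : Subgroup G)) => by
        refine Subgroup.mem_normalizer_iff.2 fun x => ⟨fun hx => ⟨(S : Subgroup G).mul_mem ((S : Subgroup G).mul_mem hs hx.1) ((S : Subgroup G).inv_mem hs),
          (inferInstance : K.Normal).conj_mem _ hx.2 s⟩, fun hx => ?_⟩
        have h1 := (S : Subgroup G).mul_mem ((S : Subgroup G).mul_mem ((S : Subgroup G).inv_mem hs) hx.1) hs
        have h2 := (inferInstance : K.Normal).conj_mem _ hx.2 s⁻¹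
        simp [mul_assoc] at h1 h2
        exact ⟨h1, h2⟩) hne
    apply hO
    rw [Subgroup.eq_bot_iff_forall]
    intro y hy
    have h1 := inv z hz.1 hzc hzo y hy
    have h2 : z * y * z⁻¹ = y := by
      rw [← Subgroup.mem_centralizer_iff.1 hz.2 y hy, mul_inv_cancel_right]
    have h3 : y ^ 2 = 1 := by
      rw [pow_two, mul_eq_one_iff_eq_inv, ← h1, h2]
    rw [← orderOf_eq_one_iff]
    exact Nat.eq_one_of_dvd_coprimes hodd (Subgroup.orderOf_dvd_natCard _ hy) (orderOf_dvd_of_pow_eq_one h3)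
  have hKO : K ≤ Cfsg.oddCore G := Cfsg.Lib.Components.le_pPrimeCore hKodd
  obtain ⟨z, hz, hzc, hzo⟩ := Cfsg.Lib.Components.exists_central_order_p S.2 le_rfl Subgroup.le_normalizer hS
  have hcen : ∀ g : G, g * z * g⁻¹ * z⁻¹ ∈ K := by
    intro g
    refine Subgroup.mem_centralizer_iff.2 fun y hy => ?_
    have h1 := inv z hz hzc hzo _ (hN.conj_mem _ (inv_mem hy) g⁻¹)
    have h1' := congrArg (fun u => g * u * g⁻¹) h1
    have h3 := inv z hz hzc hzo _ (inv_mem hy)
    simp only [mul_inv_rev, inv_inv, mul_assoc, mul_inv_cancel_left] at h1' h3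
    have h4 : z⁻¹ * y = y⁻¹ * z⁻¹ := by
      have h5 := congrArg (fun u => z⁻¹ * u) h3
      simp only [inv_mul_cancel_left] at h5
      exact h5.symm
    have h6 : g * (z * (g⁻¹ * y⁻¹)) = y * (g * (z * g⁻¹)) := by
      have h7 := congrArg (fun u => u * (g * (z * g⁻¹))) h1'
      simpa [mul_assoc] using h7
    calc y * (g * z * g⁻¹ * z⁻¹) = g * (z * (g⁻¹ * y⁻¹)) * z⁻¹ := by rw [h6]; simp [mul_assoc]
      _ = g * z * g⁻¹ * (y⁻¹ * z⁻¹) := by simp [mul_assoc]
      _ = g * z * g⁻¹ * z⁻¹ * y := by rw [← h4]; simp [mul_assoc]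
  have hzZ : (z : G ⧸ Cfsg.oddCore G) ∈ Subgroup.center (G ⧸ Cfsg.oddCore G) := by
    refine Subgroup.mem_center_iff.2 fun q => QuotientGroup.induction_on q fun g => ?_
    have := (QuotientGroup.eq_one_iff _).2 (hKO (hcen g))
    rw [QuotientGroup.mk_mul, QuotientGroup.mk_mul, QuotientGroup.mk_mul, QuotientGroup.mk_inv,
      QuotientGroup.mk_inv, mul_inv_eq_one, mul_inv_eq_iff_eq_mul] at this
    exact this
  rw [hZ, Subgroup.mem_bot, QuotientGroup.eq_one_iff] at hzZ
  have := Nat.eq_one_of_dvd_coprimes hodd (Subgroup.orderOf_dvd_natCard _ hzZ) (hzo ▸ dvd_rfl)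
  omega

end Cfsg.Agent.S2898
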