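import Cfsg.Statements.S2907
import Cfsg.Agent.Components.Misc.SolvBalance

set_option autoImplicit false
open Cfsg

namespace Cfsg.Agent.S2907

/-- Let X be a finite semi-extraspecial p-group and x an element of X outside the centre. Then the index of C_X(x) in X equals the order of Z(X), and the commutators [x, y], y ∈ X, form exactly the centre Z(X). -/
theorem result {X : Type*} [Group X] [Finite X] {p : ℕ} [Fact p.Prime] (hX : Cfsg.IsSemiExtraspecial p X) (x : X) (hx : x ∉ Subgroup.center X) : (Subgroup.centralizer ({x} : Set X)).index = Nat.card ↥(Subgroup.center X) ∧ {z : X | ∃ y : X, z = x * y * x⁻¹ * y⁻¹} = (Subgroup.center X : Set X) := by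
  classical
  obtain ⟨⟨hp, hfr, hcom⟩, hY⟩ := hX
  set Z := Subgroup.center X with hZ
  open scoped commutatorElement in
  have hmem : ∀ y : X, ⁅x, y⁆ ∈ Z := fun y => by
    rw [← hcom]; exact Subgroup.commutator_mem_commutator (Subgroup.mem_top x) (Subgroup.mem_top y)
  open scoped commutatorElement in
  let f : X →* Z := MonoidHom.mk' (fun y => ⟨⁅x, y⁆, hmem y⟩) fun y z => Subtype.ext (by
    show ⁅x, y * z⁆ = ⁅x, y⁆ * ⁅x, z⁆
    have hc : y * ⁅x, z⁆ = ⁅x, z⁆ * y := Subgroup.mem_center_iff.1 (hmem z) y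
    calc ⁅x, y * z⁆ = ⁅x, y⁆ * (y * ⁅x, z⁆ * y⁻¹) := by simp [commutatorElement_def, mul_assoc]
      _ = ⁅x, y⁆ * ⁅x, z⁆ := by rw [hc, mul_inv_cancel_right])
  have hker : f.ker = Subgroup.centralizer ({x} : Set X) := by
    ext y
    open scoped commutatorElement in
    rw [MonoidHom.mem_ker, Subgroup.mem_centralizer_singleton_iff]
    constructor
    · intro h
      exact (commutatorElement_eq_one_iff_mul_comm.1 (congrArg Subtype.val h)).symm
    · exact fun h => Subtype.ext (commutatorElement_eq_one_iff_mul_comm.2 h.symm)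
  have htop : f.range = ⊤ := by
    by_contra hne
    obtain ⟨M, hM, hle⟩ := (eq_top_or_exists_le_coatom f.range).resolve_left hne
    set Y := M.map Z.subtype with hYdef
    have hYZ : Y ≤ Z := Subgroup.map_subtype_le M
    have hYM : Y.subgroupOf Z = M :=
      Subgroup.comap_map_eq_self_of_injective (Subgroup.subtype_injective Z) M
    obtain ⟨hYn, hext⟩ := hY Y hYZ (by rw [hYM]; exact hM)
    haveI := hYn
    set q := QuotientGroup.mk' Y with hq
    have hZle : Z.map q ≤ Subgroup.center (X ⧸ Y) := by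
      rintro _ ⟨z, hz, rfl⟩
      refine Subgroup.mem_center_iff.2 fun g => ?_
      obtain ⟨g, rfl⟩ := QuotientGroup.mk'_surjective Y g
      rw [← map_mul, ← map_mul, Subgroup.mem_center_iff.1 hz g]
    have hZne : Z.map q ≠ ⊥ := by
      intro h
      rw [Subgroup.map_eq_bot_iff, hq, QuotientGroup.ker_mk'] at h
      exact hM.1 (by rw [← hYM]; exact Subgroup.subgroupOf_eq_top.2 h)
    have heq : Z.map q = Subgroup.center (X ⧸ Y) := by
      refine Subgroup.eq_of_le_of_card_ge hZle ?_
      rw [hext.2]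
      have hd := Subgroup.card_dvd_of_le hZle
      rw [hext.2] at hd
      rcases (Nat.dvd_prime Fact.out).1 hd with h | h
      · exact absurd (Subgroup.eq_bot_of_card_eq _ h) hZne
      · exact h.ge
    have hxc : q x ∈ Subgroup.center (X ⧸ Y) := by
      refine Subgroup.mem_center_iff.2 fun g => ?_
      obtain ⟨g, rfl⟩ := QuotientGroup.mk'_surjective Y g
      open scoped commutatorElement in
      have h1 : q ⁅x, g⁆ = 1 :=
        (QuotientGroup.eq_one_iff _).2 ⟨f g, hle ⟨g, rfl⟩, rfl⟩
      rw [map_commutatorElement, commutatorElement_eq_one_iff_mul_comm] at h1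
      exact h1.symm
    rw [← heq] at hxc
    obtain ⟨z, hz, hzx⟩ := hxc
    have h2 : z⁻¹ * x ∈ Y := QuotientGroup.eq.1 hzx
    exact hx (by simpa using mul_mem hz (hYZ h2))
  constructor
  · rw [← hker, Subgroup.index_ker, htop, Subgroup.card_top]
  · ext z
    constructor
    · rintro ⟨y, rfl⟩
      exact hmem y
    · intro hz
      obtain ⟨y, hy⟩ : (⟨z, hz⟩ : Z) ∈ f.range := by rw [htop]; trivial
      exact ⟨y, (congrArg Subtype.val hy).symm⟩

end Cfsg.Agent.S2907
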