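import Cfsg.Statements.S2909
import Cfsg.Agent.Components.Misc.PAB
import Cfsg.Agent.Coprime.Generation
import Cfsg.Agent.Transfer.Basic

set_option autoImplicit false
open Cfsg

namespace Cfsg.Agent.S2909

/-- Let p be a prime, E a normal p-subgroup of the finite group G, and U a non-cyclic elementary abelian p-subgroup of G such that either C_E(U) = C_E(u) for every nontrivial u ∈ U, or [E, U] = [E, ⟨u⟩] for every nontrivial u ∈ U. If R is a subgroup of order prime to p normalized by U, then [R, U] centralizes E. -/
theorem result {G : Type*} [Group G] [Finite G] {p : ℕ} [Fact p.Prime] (E : Subgroup G) [E.Normal] (hE : IsPGroup p ↥E) (U : Subgroup G) (hU : Cfsg.IsElementaryAbelian p U) (hnc : ¬ IsCyclic ↥U) (hcond : (∀ u ∈ U, u ≠ 1 → E ⊓ Subgroup.centralizer (U : Set G) = E ⊓ Subgroup.centralizer ({u} : Set G)) ∨ (∀ u ∈ U, u ≠ 1 → ⁅E, U⁆ = ⁅E, Subgroup.zpowers u⁆)) (R : Subgroup G) (hR : ¬ p ∣ Nat.card ↥R) (hRU : U ≤ Subgroup.normalizer (R : Set G)) : ⁅R, U⁆ ≤ Subgroup.centralizer (E : Set G) := by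
  classical
  haveI : IsMulCommutative U := hU.1
  have hRc : (Nat.card R).Coprime p := ((Fact.out : p.Prime).coprime_iff_not_dvd.2 hR).symm
  have hcopUR : (Nat.card U).Coprime (Nat.card R) := by
    obtain ⟨k, hk⟩ := IsPGroup.iff_card.1 (show IsPGroup p U from fun x =>
      ⟨1, Subtype.ext (by simpa using hU.2 x x.2)⟩)
    rw [hk]
    exact (hRc.pow_right k).symm
  set W := Subgroup.centralizer (E : Set G) with hW
  haveI hWn : W.Normal := inferInstance
  set q := QuotientGroup.mk' W with hq
  have key : ∀ u ∈ U, u ≠ 1 → ∀ r ∈ R, r * u = u * r → ∀ v ∈ U, r * v * r⁻¹ * v⁻¹ ∈ W := by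
    intro u hu hu1 r hr hru v hv
    set x := r * v * r⁻¹ * v⁻¹ with hx
    have hxR : x ∈ R := by
      have h1 := (Subgroup.mem_normalizer_iff.1 (hRU hv) _).1 (inv_mem hr)
      have h2 := mul_mem hr h1
      simpa [hx, mul_assoc] using h2
    have hxcop : (orderOf x).Coprime p :=
      Nat.Coprime.coprime_dvd_left (Subgroup.orderOf_dvd_natCard _ hxR) hRc
    have huv : u * v = v * u := congrArg Subtype.val (hU.1.is_comm.comm ⟨u, hu⟩ ⟨v, hv⟩)
    have hrv : Commute (r * v * r⁻¹) u := by
      have c1 : Commute r u := hru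
      have c2 : Commute v u := huv.symm
      exact (c1.mul_left c2).mul_left c1.inv_left
    have hxu : x * u = u * x := (hrv.mul_left (show Commute v u from huv.symm).inv_left).eq
    have hup : IsPGroup p (Subgroup.zpowers u) :=
      fun z => ⟨1, Subtype.ext (by
        obtain ⟨i, hi⟩ := z.2
        rw [pow_one, Subgroup.coe_pow, Subgroup.coe_one, ← hi]
        show (u ^ i) ^ p = 1
        rw [← zpow_natCast, ← zpow_mul, mul_comm, zpow_mul, zpow_natCast, hU.2 u hu, one_zpow])⟩
    have hxc : x ∈ Subgroup.centralizer ((Subgroup.zpowers u : Subgroup G) : Set G) := by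
      refine Subgroup.mem_centralizer_iff.2 ?_
      rintro _ ⟨i, rfl⟩
      exact ((show Commute x u from hxu).zpow_right i).symm.eq
    have hnE : ∀ g : G, g ∈ Subgroup.normalizer (E : Set G) := fun g => by
      rw [Subgroup.normalizer_eq_top]; trivial
    rcases hcond with h | h
    · have hfix := h u hu hu1
      have hle : E ≤ Subgroup.centralizer ({x} : Set G) := by
        refine Cfsg.Lib.Components.pxq_element hxcop hup hxc E hE (fun g _ => hnE g) (hnE x) ?_
        intro c hc
        have hcu : c ∈ E ⊓ Subgroup.centralizer ({u} : Set G) :=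
          Subgroup.mem_inf.2 ⟨hc.1, Subgroup.mem_centralizer_singleton_iff.2
            (Subgroup.mem_centralizer_iff.1 hc.2 u (Subgroup.mem_zpowers u)).symm⟩
        have hcv : Commute c v := by
          rw [← hfix] at hcu
          exact (Subgroup.mem_centralizer_iff.1 hcu.2 v hv).symm
        have hd : r⁻¹ * c * r ∈ E ⊓ Subgroup.centralizer ({u} : Set G) := by
          refine Subgroup.mem_inf.2 ⟨by simpa using (inferInstance : E.Normal).conj_mem c hc.1 r⁻¹, ?_⟩
          rw [Subgroup.mem_centralizer_singleton_iff]
          have c1 : Commute u r := hru.symm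
          have c2 : Commute u c := Subgroup.mem_centralizer_iff.1 hc.2 u (Subgroup.mem_zpowers u)
          exact ((c1.inv_right.mul_right c2).mul_right c1).eq.symm
        have hdv : Commute (r⁻¹ * c * r) v := by
          rw [← hfix] at hd
          exact (Subgroup.mem_centralizer_iff.1 hd.2 v hv).symm
        have hcr : Commute c (r * v * r⁻¹) := by
          have h2 := hdv.eq
          have h3 := congrArg (fun w => r * w * r⁻¹) h2
          show c * (r * v * r⁻¹) = r * v * r⁻¹ * c
          simpa [mul_assoc] using h3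
        exact Subgroup.mem_centralizer_singleton_iff.2 (hcr.mul_right hcv.inv_right).eq
      exact Subgroup.mem_centralizer_iff.2 fun e he => Subgroup.mem_centralizer_singleton_iff.1 (hle he)
    · have hcomm := h u hu hu1
      set M := ⁅E, Subgroup.zpowers u⁆ with hM
      have hMr : r ∈ Subgroup.normalizer (M : Set G) := by
        refine Cfsg.Lib.Transfer.map_conj_eq_self_iff.1 ?_
        rw [hM, Subgroup.map_commutator]
        congr 1
        · exact Cfsg.Lib.Transfer.map_conj_eq_self_iff.2 (hnE r)
        · rw [MonoidHom.map_zpowers]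
          show Subgroup.zpowers (r * u * r⁻¹) = _
          rw [hru, mul_inv_cancel_right]
      have hbot : ⁅E, Subgroup.zpowers x⁆ = ⊥ := by
        refine Cfsg.Lib.Components.commutator_eq_bot_of_le E (Subgroup.zpowers u) (Subgroup.zpowers x)
          hE hup (by rwa [Nat.card_zpowers]) (fun g _ => hnE g) (fun g _ => hnE g) ?_ ?_
        · rw [Subgroup.commutator_eq_bot_iff_le_centralizer, Subgroup.zpowers_le]
          refine Subgroup.mem_centralizer_iff.2 ?_
          rintro _ ⟨i, rfl⟩
          exact ((show Commute u x from hxu.symm).zpow_right i).eq.symm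
        · have hS : ∀ y ∈ E, ∀ w ∈ U, w * y * w⁻¹ * y⁻¹ ∈ M := fun y hy w hw => by
            rw [← hcomm, Subgroup.commutator_comm]
            exact Subgroup.commutator_mem_commutator hw hy
          have hEM : E ≤ Subgroup.normalizer (M : Set G) :=
            Cfsg.Lib.Coprime.le_normalizer_commutator_left _ E
          have hstep : ∀ e ∈ E, x * e * x⁻¹ * e⁻¹ ∈ M := by
            intro e he
            have hve : v⁻¹ * e * v ∈ E := by simpa using (inferInstance : E.Normal).conj_mem e he v⁻¹
            set e1 := v⁻¹ * e * v with he1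
            have h1 : e1 * e⁻¹ ∈ M := by
              have := hS e he v⁻¹ (inv_mem hv)
              simpa [he1, mul_assoc] using this
            set d := r⁻¹ * e1 * r with hd
            have hd' : d ∈ E := by simpa [hd] using (inferInstance : E.Normal).conj_mem e1 hve r⁻¹
            have h2 : v * d * v⁻¹ * d⁻¹ ∈ M := hS d hd' v hv
            have h3 := (Subgroup.mem_normalizer_iff.1 hMr _).1 h2
            have h4 := mul_mem h3 h1
            have e5 : x * e * x⁻¹ * e⁻¹ = r * (v * d * v⁻¹ * d⁻¹) * r⁻¹ * (e1 * e⁻¹) := by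
              rw [hx, hd, he1]; simp [mul_assoc]
            rw [e5]
            exact h4
          let Sx : Subgroup G :=
            { carrier := {g | g ∈ Subgroup.normalizer (M : Set G) ∧ ∀ e ∈ E, g * e * g⁻¹ * e⁻¹ ∈ M}
              one_mem' := ⟨one_mem _, fun e _ => by simp⟩
              mul_mem' := fun {g k} hg hk => ⟨mul_mem hg.1 hk.1, fun e he => by
                have h1 := (Subgroup.mem_normalizer_iff.1 hg.1 _).1 (hk.2 e he)
                have h2 := mul_mem h1 (hg.2 e he)
                simpa [mul_assoc] using h2⟩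
              inv_mem' := fun {g} hg => ⟨inv_mem hg.1, fun e he => by
                have h1 := hg.2 (g⁻¹ * e * g) (by simpa using (inferInstance : E.Normal).conj_mem e he g⁻¹)
                have h2 := (Subgroup.mem_normalizer_iff.1 (inv_mem hg.1) _).1 (inv_mem h1)
                have h3 := (Subgroup.mem_normalizer_iff.1 hg.1 _).1 h2
                simpa [mul_assoc] using h3⟩ }
          have hxM : x ∈ Subgroup.normalizer (M : Set G) := by
            have hvM : ∀ w ∈ U, w ∈ Subgroup.normalizer (M : Set G) := fun w hw => by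
              rw [← hcomm]; exact Cfsg.Lib.Coprime.le_normalizer_commutator_right U E hw
            exact mul_mem (mul_mem (mul_mem hMr (hvM v hv)) (inv_mem hMr)) (inv_mem (hvM v hv))
          have hxS : x ∈ Sx := ⟨hxM, hstep⟩
          rw [Subgroup.commutator_comm, Subgroup.commutator_le]
          intro g hg e he
          exact (Subgroup.zpowers_le.2 hxS hg).2 e he
      rw [Subgroup.commutator_comm, Subgroup.commutator_eq_bot_iff_le_centralizer] at hbot
      exact hbot (Subgroup.mem_zpowers x)
  have hjoin := Cfsg.Lib.Coprime.centralizerJoin_eq hnc hRU hcopUR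
  set Good : Subgroup G := (Subgroup.centralizer ((U.map q : Subgroup (G ⧸ W)) : Set (G ⧸ W))).comap q
    with hGood
  have hRgood : R ≤ Good := by
    rw [← hjoin]
    refine iSup₂_le fun u hu r hr => ?_
    refine Subgroup.mem_centralizer_iff.2 ?_
    rintro _ ⟨v, hv, rfl⟩
    have h1 := key u hu.1 hu.2 r hr.1 (Subgroup.mem_centralizer_singleton_iff.1 hr.2) v hv
    have h2 : q (r * v * r⁻¹ * v⁻¹) = 1 := (QuotientGroup.eq_one_iff _).2 h1
    rw [map_mul, map_mul, map_mul, map_inv, map_inv, mul_inv_eq_one, mul_inv_eq_iff_eq_mul] at h2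
    exact h2.symm
  rw [Subgroup.commutator_le]
  intro r hr v hv
  refine (QuotientGroup.eq_one_iff _).1 ?_
  show q _ = 1
  rw [map_commutatorElement, commutatorElement_eq_one_iff_mul_comm]
  exact (Subgroup.mem_centralizer_iff.1 (hRgood hr) (q v) ⟨v, hv, rfl⟩).symm

end Cfsg.Agent.S2909
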