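import Cfsg.Statements.S2912
import Cfsg.Agent.Components.Misc.ExtraFaithfulApp

set_option autoImplicit false
open Cfsg

namespace Cfsg.Agent.S2912

/-- Let p and r be distinct primes, let E be an extraspecial subgroup of order p^(2w+1) of a finite group, and let A be an elementary abelian r-subgroup normalized by E on which E acts faithfully (C_E(A) = 1). If n ≥ 1 is least with p dividing rⁿ − 1 (the smallest dimension of a faithful representation of a group of order p over the field with r elements), then the order of A is at least r^(n·p^w). -/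
theorem result {G : Type*} [Group G] [Finite G] {p r : ℕ} [Fact p.Prime] [hr : Fact r.Prime] (hpr : p ≠ r) (E A : Subgroup G) (w : ℕ) (hE : Cfsg.IsExtraspecial p ↥E) (hEcard : Nat.card ↥E = p ^ (2 * w + 1)) (hA : Cfsg.IsElementaryAbelian r A) (hnorm : E ≤ Subgroup.normalizer (A : Set G)) (hfaith : E ⊓ Subgroup.centralizer (A : Set G) = ⊥) (n : ℕ) (hn : 1 ≤ n) (hdiv : p ∣ r ^ n - 1) (hmin : ∀ k : ℕ, 1 ≤ k → p ∣ r ^ k - 1 → n ≤ k) : r ^ (n * p ^ w) ≤ Nat.card ↥A := by
  haveI : IsMulCommutative A := hA.1
  letI : CommGroup A := { (inferInstance : Group A) with mul_comm := fun a b => mul_comm' a b }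
  have hexp : ∀ a : Additive A, r • a = 0 := fun a =>
    congrArg Additive.ofMul (Subtype.ext (by simpa using hA.2 ((Additive.toMul a : A) : G) (Additive.toMul a : A).2) : (Additive.toMul a : A) ^ r = 1)
  letI : Module (ZMod r) (Additive A) := AddCommGroup.zmodModule hexp
  refine Cfsg.Lib.ExtraFaithful.card_bound (E := E) hpr A ((Subgroup.normalizerMonoidHom A).comp (Subgroup.inclusion hnorm)) ?_ hE hEcard hmin
  rw [injective_iff_map_eq_one]
  intro e he
  have h : (e : G) ∈ E ⊓ Subgroup.centralizer (A : Set G) := ⟨e.2, Subgroup.mem_centralizer_iff.mpr fun a ha => by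
    have h2 : (e : G) * a * (e : G)⁻¹ = a :=
      congrArg Subtype.val (DFunLike.congr_fun he (⟨a, ha⟩ : A))
    exact (mul_inv_eq_iff_eq_mul.mp h2).symm⟩
  rw [hfaith] at h
  exact Subtype.ext h

end Cfsg.Agent.S2912
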