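import Cfsg.Statements.S2924
import Cfsg.Agent.Components.Misc.InvertedCores

set_option autoImplicit false
open Cfsg

namespace Cfsg.Agent.S2924

/-- Let X be a finite group and Y an elementary abelian 2-subgroup of X of order at least 8 such that C_X(x) has no components (E(C_X(x)) = 1) for every nontrivial x ∈ Y, and F*(C_X(z)) = O₂(C_X(z)) for some nontrivial z ∈ Y. Then the subgroup generated by the cores O(C_X(y)), y ∈ Y nontrivial, has odd order and is normalized by N_X(Y). -/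
theorem result {X : Type*} [Group X] [Finite X] (Y : Subgroup X) (hY : Cfsg.IsElementaryAbelian 2 Y) (h8 : 8 ≤ Nat.card ↥Y) (hE : ∀ x ∈ Y, x ≠ 1 → Cfsg.layer ↥(Subgroup.centralizer ({x} : Set X)) = ⊥) (hz : ∃ z ∈ Y, z ≠ 1 ∧ Cfsg.generalizedFittingSubgroup ↥(Subgroup.centralizer ({z} : Set X)) = Cfsg.pCore 2 ↥(Subgroup.centralizer ({z} : Set X))) : Odd (Nat.card ↥(⨆ y : {y : X // y ∈ Y ∧ y ≠ 1}, (Cfsg.oddCore ↥(Subgroup.centralizer ({(y : X)} : Set X))).map (Subgroup.centralizer ({(y : X)} : Set X)).subtype)) ∧ Subgroup.normalizer (Y : Set X) ≤ Subgroup.normalizer ((⨆ y : {y : X // y ∈ Y ∧ y ≠ 1}, (Cfsg.oddCore ↥(Subgroup.centralizer ({(y : X)} : Set X))).map (Subgroup.centralizer ({(y : X)} : Set X)).subtype : Subgroup X) : Set X) := by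
  classical
  obtain ⟨z, hzY, -, hzc⟩ := hz
  set J : Subgroup X := ⨆ y : {y : X // y ∈ Y ∧ y ≠ 1},
    (Cfsg.oddCore ↥(Subgroup.centralizer ({(y : X)} : Set X))).map
      (Subgroup.centralizer ({(y : X)} : Set X)).subtype with hJ
  refine ⟨?_, ?_⟩
  · exact (Cfsg.Lib.Components.InvertedCores.odd_closure Y hY hzY hzc h8 hE).of_dvd_nat
      (Subgroup.card_dvd_of_le (iSup_le fun y =>
        Cfsg.Lib.Components.InvertedCores.O_le_gens Y hY hzY hzc hE y.2.1 y.2.2))
  · intro n hn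
    have key : ∀ m ∈ Subgroup.normalizer (Y : Set X), ∀ j ∈ J, m * j * m⁻¹ ∈ J := by
      intro m hm j hj
      have h1 : J.map (MulAut.conj m).toMonoidHom ≤ J := by
        rw [hJ, Subgroup.map_iSup]
        refine iSup_le fun y => ?_
        refine Cfsg.Lib.Components.InvertedCores.O_conj.trans ?_
        exact le_iSup_of_le (⟨m * y * m⁻¹, (Subgroup.mem_normalizer_iff.1 hm _).1 y.2.1,
          fun h => y.2.2 (conj_eq_one_iff.1 h)⟩ : {y : X // y ∈ Y ∧ y ≠ 1}) le_rfl
      exact h1 ⟨j, hj, rfl⟩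
    rw [Subgroup.mem_normalizer_iff]
    refine fun j => ⟨key n hn j, fun h => ?_⟩
    simpa [mul_assoc] using key n⁻¹ (inv_mem hn) _ h

end Cfsg.Agent.S2924
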