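import Cfsg.Statements.S2925
import Cfsg.Agent.Components.Misc.Kieler
import Cfsg.Agent.Components.Layer

set_option autoImplicit false
open Cfsg

namespace Cfsg.Agent.S2925

/-- Let K be a component of the finite group X and T a Sylow 2-subgroup of X. If some abelian normal subgroup Y of T does not normalize K, then K ⧸ Z(K) has abelian Sylow 2-subgroups. -/
theorem result {X : Type*} [Group X] [Finite X] (K : Subgroup X) (hK : Cfsg.IsComponent K) (T : Sylow 2 X) (Y : Subgroup X) (hYT : Y ≤ (T : Subgroup X)) (hYn : (Y.subgroupOf (T : Subgroup X)).Normal) (hYab : IsMulCommutative ↥Y) (hnot : ¬ Y ≤ Subgroup.normalizer (K : Set X)) (P : Sylow 2 (↥K ⧸ Subgroup.center ↥K)) : IsMulCommutative ↥(P : Subgroup (↥K ⧸ Subgroup.center ↥K)) := by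
  haveI : Fact (Nat.Prime 2) := ⟨Nat.prime_two⟩
  obtain ⟨y, hyY, hyK⟩ := SetLike.not_le_iff_exists.1 hnot
  let K' := K.map (MulAut.conj y).toMonoidHom
  have hne : K ≠ K' := fun h => hyK (Subgroup.mem_normalizer_iff.2 fun x => by
    constructor
    · intro hx
      rw [show K = K' from h]
      exact ⟨x, hx, rfl⟩
    · intro hx
      rw [show K = K' from h] at hx
      obtain ⟨w, hw, hwe⟩ := hx
      exact (mul_left_cancel (mul_right_cancel (hwe : y * w * y⁻¹ = y * x * y⁻¹))) ▸ hw)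
  have hcomm := Cfsg.Lib.Components.comp_commute hK (Cfsg.Lib.Components.comp_conj hK y) hne
  have hc : ∀ a ∈ K, ∀ b ∈ K', a * b = b * a := fun a ha b hb => by
    have h := Subgroup.commutator_mem_commutator ha hb
    rw [hcomm, Subgroup.mem_bot] at h
    exact commutatorElement_eq_one_iff_mul_comm.1 h
  obtain ⟨TL, hTL⟩ := Cfsg.Lib.Kieler.exists_sylow_of_subnormal T hK.1
  let Q := TL.mapSurjective (f := QuotientGroup.mk' (Subgroup.center ↥K)) (QuotientGroup.mk'_surjective _)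
  have hQ : ∀ u ∈ (Q : Subgroup (↥K ⧸ Subgroup.center ↥K)), ∀ v ∈ (Q : Subgroup (↥K ⧸ Subgroup.center ↥K)), u * v = v * u := by
    rintro _ ⟨s, hs, rfl⟩ _ ⟨t, ht, rfl⟩
    rw [← map_mul, ← map_mul, QuotientGroup.mk'_eq_mk']
    refine ⟨(s * t)⁻¹ * (t * s), ?_, mul_inv_cancel_left _ _⟩
    have hs' : (s : X) ∈ (T : Subgroup X) := by
      have := hs; rw [SetLike.mem_coe, hTL] at this; exact this
    have ht' : (t : X) ∈ (T : Subgroup X) := by
      have := ht; rw [SetLike.mem_coe, hTL] at this; exact this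
    have hmem : ∀ r ∈ (T : Subgroup X), y * r * y⁻¹ * r⁻¹ ∈ Y := fun r hr => by
      have h1 : r * y⁻¹ * r⁻¹ ∈ Y :=
        hYn.conj_mem (⟨y⁻¹, hYT (inv_mem hyY)⟩ : (T : Subgroup X)) (inv_mem hyY : y⁻¹ ∈ Y) ⟨r, hr⟩
      simpa [mul_assoc] using mul_mem hyY h1
    have hab : y * s * y⁻¹ * (s : X)⁻¹ * (y * t * y⁻¹ * (t : X)⁻¹) = y * t * y⁻¹ * (t : X)⁻¹ * (y * s * y⁻¹ * (s : X)⁻¹) :=
      congrArg Subtype.val (hYab.is_comm.comm ⟨_, hmem _ hs'⟩ ⟨_, hmem _ ht'⟩)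
    have hsK' : y * s * y⁻¹ ∈ K' := ⟨s, s.2, rfl⟩
    have htK' : y * t * y⁻¹ ∈ K' := ⟨t, t.2, rfl⟩
    generalize hs'' : y * (s : X) * y⁻¹ = a at hab hsK'
    generalize ht'' : y * (t : X) * y⁻¹ = b at hab htK'
    have e1 : (a * b) * ((s : X)⁻¹ * (t : X)⁻¹) = (b * a) * ((t : X)⁻¹ * (s : X)⁻¹) := by
      have p : (s : X)⁻¹ * b = b * (s : X)⁻¹ := hc _ (inv_mem s.2) _ htK'
      have q : (t : X)⁻¹ * a = a * (t : X)⁻¹ := hc _ (inv_mem t.2) _ hsK'
      calc (a * b) * ((s : X)⁻¹ * (t : X)⁻¹) = a * ((b * (s : X)⁻¹) * (t : X)⁻¹) := by group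
        _ = a * (s : X)⁻¹ * (b * (t : X)⁻¹) := by rw [← p]; group
        _ = b * (t : X)⁻¹ * (a * (s : X)⁻¹) := hab
        _ = b * ((t : X)⁻¹ * a) * (s : X)⁻¹ := by group
        _ = (b * a) * ((t : X)⁻¹ * (s : X)⁻¹) := by rw [q]; group
    have e2 : (b * a)⁻¹ * (a * b) = ((s : X)⁻¹ * (t : X)⁻¹)⁻¹ * ((s : X)⁻¹ * (t : X)⁻¹) * ((t : X)⁻¹ * (s : X)⁻¹ * ((t : X) * (s : X))) := by
      have : (b * a)⁻¹ * (a * b) = ((t : X)⁻¹ * (s : X)⁻¹) * ((s : X)⁻¹ * (t : X)⁻¹)⁻¹ := by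
        calc (b * a)⁻¹ * (a * b) = (b * a)⁻¹ * ((a * b) * ((s : X)⁻¹ * (t : X)⁻¹)) * ((s : X)⁻¹ * (t : X)⁻¹)⁻¹ := by group
          _ = _ := by rw [e1]; group
      rw [this]
      group
    have hcK : ((t : X)⁻¹ * (s : X)⁻¹ * ((t : X) * (s : X))) ∈ K' := by
      have h := mul_mem (inv_mem (mul_mem htK' hsK')) (mul_mem hsK' htK')
      rw [e2] at h
      simpa using h
    refine Subgroup.mem_center_iff.2 fun k => Subtype.ext ?_
    have h := hc _ k.2 _ hcK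
    simp only [Subgroup.coe_mul, Subgroup.coe_inv, mul_inv_rev]
    exact h
  refine ⟨⟨fun u v => ?_⟩⟩
  let e := Sylow.equiv P Q
  apply e.injective
  rw [map_mul, map_mul]
  exact Subtype.ext (hQ _ (e u).2 _ (e v).2)

end Cfsg.Agent.S2925
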