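import Cfsg.Statements.S2929
import Cfsg.Agent.Components.Misc.AltOn

set_option autoImplicit false
open Cfsg

namespace Cfsg.Agent.S2929

open Subgroup Equiv Cfsg.Lib.Components Cfsg.Lib.Components.AltOn in
theorem altThree (n : ℕ) (hn : 5 ≤ n) (H : Subgroup (Equiv.Perm (Fin n)))
    (hF : Cfsg.IsQuasisimple ↥(Cfsg.generalizedFittingSubgroup ↥H))
    (hS : ∃ P : Sylow 3 (Equiv.Perm (Fin n)), (P : Subgroup (Equiv.Perm (Fin n))) ≤ H) :
    ∃ m : ℕ, (m = n - 2 ∨ m = n - 1 ∨ m = n) ∧
      Nonempty (↥(Cfsg.generalizedFittingSubgroup ↥H) ≃* ↥(alternatingGroup (Fin m))) := by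
  classical
  haveI : Fact (Nat.Prime 3) := ⟨by norm_num⟩
  obtain ⟨P, hP⟩ := hS
  set L := Cfsg.generalizedFittingSubgroup ↥H with hLdef
  haveI hLn : L.Normal := by
    haveI : L.Characteristic := by
      rw [Subgroup.characteristic_iff_map_eq]
      intro e
      exact genFitting_map_equiv e
    infer_instance
  -- every set with alternating group inside `H` and maximal has at least five points
  have big : ∀ C : Finset (Fin n), altOn C ≤ H → 3 ≤ C.card →
      (∀ x ∉ C, ¬ altOn (insert x C) ≤ H) → 5 ≤ C.card := by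
    intro C hC h3 hmax
    by_contra hlt
    obtain ⟨k, hk, hk34⟩ : ∃ k, C.card = k ∧ (k = 3 ∨ k = 4) := ⟨C.card, rfl, by omega⟩
    obtain ⟨u0, hu0⟩ : ∃ u : Perm (Fin k), Perm.sign u = 1 ∧ ∀ i, u i ≠ i := by
      rcases hk34 with rfl | rfl
      · exact moving_exists.1
      · exact moving_exists.2
    set w := altHom C hk u0 with hw
    have hwC : w ∈ altOn C := altHom_mem C hk hu0.1
    have hwm : ∀ x ∈ C, w x ≠ x := by
      intro x hx
      have := altHom_apply C hk u0 (C.equivFinOfCardEq hk ⟨x, hx⟩)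
      rw [Equiv.symm_apply_apply] at this
      rw [hw, this]
      intro e
      refine hu0.2 (C.equivFinOfCardEq hk ⟨x, hx⟩) ?_
      apply (C.equivFinOfCardEq hk).symm.injective
      rw [Equiv.symm_apply_apply]
      exact Subtype.ext e
    set wH : ↥H := ⟨w, hC hwC⟩ with hwH
    -- conjugates of `w` commute
    have hcomm : ∀ h : Perm (Fin n), h ∈ H → (h * w * h⁻¹) * w = w * (h * w * h⁻¹) := by
      intro h hh
      rcases image_eq_or_disjoint hC h3 hmax hh with he | hd
      · have h1 : h * w * h⁻¹ ∈ altOn C := he ▸ conj_mem h hwC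
        have h2 : ∀ x ∈ C, (h * w * h⁻¹) x ≠ x := by
          intro x hx e
          rw [← he, Finset.mem_image] at hx
          obtain ⟨y, hy, rfl⟩ := hx
          exact hwm y hy (by simpa using e)
        obtain ⟨v, hv, hve⟩ := exists_altHom_moving C hk h1 h2
        rw [← hve, hw, ← map_mul, ← map_mul]
        congr 1
        rcases hk34 with rfl | rfl
        · exact moving_commute.1 _ _ hv hu0
        · exact moving_commute.2 _ _ hv hu0
      · exact commute_of_disjoint hd (conj_mem h hwC) hwC
    set A : Subgroup ↥H := normalClosure {wH} with hA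
    have hAcomm : ⁅A, A⁆ = ⊥ := by
      rw [commutator_eq_bot_iff_le_centralizer, hA, normalClosure, centralizer_closure, closure_le]
      intro b hb
      rw [SetLike.mem_coe, mem_centralizer_iff]
      intro a ha
      obtain ⟨_, rfl, ha⟩ := Group.mem_conjugatesOfSet_iff.mp ha
      obtain ⟨_, rfl, hb⟩ := Group.mem_conjugatesOfSet_iff.mp hb
      obtain ⟨c, rfl⟩ := isConj_iff.mp ha
      obtain ⟨d, rfl⟩ := isConj_iff.mp hb
      apply Subtype.ext
      have hk1 := hcomm (((d⁻¹ * c : ↥H) : Perm (Fin n))) (d⁻¹ * c).2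
      simp only [Subgroup.coe_mul, Subgroup.coe_inv, mul_inv_rev, inv_inv] at hk1 ⊢
      have e2 := congrArg (fun z => (d : Perm (Fin n)) * z * (d : Perm (Fin n))⁻¹) hk1
      simp only [hwH] at e2 ⊢
      simpa [mul_assoc] using e2
    have hAL : A ≤ L := by
      refine le_trans (le_fitting_of_subnormal (Subgroup.Normal.isSubnormal inferInstance) ?_) fitting_le_genFitting
      exact class_two_nilpotent (by rw [hAcomm]; exact commutator_bot_left _)
    have hAZ : A.subgroupOf L ≤ center L := by
      refine (qs_subnormal_eq_top_or_le_center hF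
        (Subgroup.Normal.isSubnormal inferInstance)).resolve_left fun h => ?_
      rw [subgroupOf_eq_top] at h
      apply qs_not_isMulCommutative hF
      rw [← Subgroup.le_centralizer_iff_isMulCommutative]
      rw [le_antisymm hAL h] at hAcomm
      exact commutator_eq_bot_iff_le_centralizer.mp hAcomm
    have hwA : wH ∈ A := subset_normalClosure rfl
    have hwL : wH ∈ L := hAL hwA
    have hcw : ∀ l ∈ L, (l : Perm (Fin n)) * w = w * (l : Perm (Fin n)) := by
      intro l hl
      have h1 : (⟨wH, hwL⟩ : L) ∈ center L := hAZ hwA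
      have h2 := mem_center_iff.mp h1 ⟨l, hl⟩
      exact congrArg (fun z : L => ((z : ↥H) : Perm (Fin n))) h2
    have hfix : ∀ l ∈ L, ∀ x, ((l : Perm (Fin n)) x ∈ C ↔ x ∈ C) := by
      intro l hl x
      have hl' := hcw l hl
      constructor
      · intro h
        by_contra hx
        apply hwm _ h
        rw [← Perm.mul_apply, ← hl', Perm.mul_apply, hwC.2 x hx]
      · intro hx
        by_contra h
        apply hwm x hx
        apply (l : Perm (Fin n)).injective
        rw [← Perm.mul_apply, hl', Perm.mul_apply, hwC.2 _ h]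
    let r : ↥L →* Perm (Fin k) :=
      (C.equivFinOfCardEq hk).permCongrHom.toMonoidHom.comp
        { toFun := fun l => ((l : ↥H) : Perm (Fin n)).subtypePerm (p := fun x => x ∈ C)
            (fun x => hfix _ l.2 x)
          map_one' := by ext; simp
          map_mul' := fun a b => Equiv.ext fun x => Subtype.ext rfl }
    have hr : ∀ (l : ↥L) (i : Fin k), ((C.equivFinOfCardEq hk).symm (r l i) : Fin n) =
        ((l : ↥H) : Perm (Fin n)) ((C.equivFinOfCardEq hk).symm i) := by
      intro l i
      simp [r, Equiv.permCongrHom, Equiv.permCongr_apply]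
    have hru : r ⟨wH, hwL⟩ = u0 := by
      refine Equiv.ext fun i => (C.equivFinOfCardEq hk).symm.injective (Subtype.ext ?_)
      rw [hr]
      exact altHom_apply C hk u0 i
    have hbot : r.range = ⊥ := by
      refine perfect_eq_bot hk34 hu0 ?_ ?_
      · rw [MonoidHom.range_eq_map, ← map_commutator, qs_commutator_top hF]
      · rintro _ ⟨l, rfl⟩
        rw [← hru, ← map_mul, ← map_mul]
        congr 1
        exact mem_center_iff.mp (hAZ hwA) l
    have : u0 = 1 := by
      have h1 : r ⟨wH, hwL⟩ ∈ r.range := ⟨_, rfl⟩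
      rwa [hbot, mem_bot, hru] at h1
    have h0 := hu0.2 ⟨0, by omega⟩
    exact h0 (by rw [this]; rfl)
  -- a maximal set with at least five points gives `L`
  have isL : ∀ C : Finset (Fin n), altOn C ≤ H → 3 ≤ C.card →
      (∀ x ∉ C, ¬ altOn (insert x C) ≤ H) → L = (altOn C).subgroupOf H := by
    intro C hC h3 hmax
    have h5 := big C hC h3 hmax
    set K := (altOn C).subgroupOf H with hK
    let e : alternatingGroup (Fin C.card) ≃* K :=
      (altEquiv C rfl).trans (subgroupOfEquivOfLe hC).symm
    haveI := alternatingGroup.isSimpleGroup (α := Fin C.card) (by simpa using h5)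
    have hq : Cfsg.IsQuasisimple ↥K := by
      refine qs_congr' e ?_
      refine isQuasisimple_of_perfect_of_subnormal inferInstance ?_ ?_
      · exact commutator_alternatingGroup_eq_top (by simpa using h5)
      · intro N hN hNt
        rcases hN.eq_bot_or_eq_top with h | h
        · rw [h]; exact bot_le
        · exact absurd h hNt
    have hnorm : normalClosure (K : Set ↥H) ≤ normalizer (K : Set ↥H) := by
      rw [normalClosure, closure_le]
      intro b hb
      obtain ⟨a, ha, hab⟩ := Group.mem_conjugatesOfSet_iff.mp hb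
      obtain ⟨c, rfl⟩ := isConj_iff.mp hab
      rw [SetLike.mem_coe]
      have hb' : ((c * a * c⁻¹ : ↥H) : Perm (Fin n)) ∈ altOn (C.image (c : Perm (Fin n))) :=
        conj_mem _ ha
      rcases image_eq_or_disjoint hC h3 hmax c.2 with he | hd
      · rw [he] at hb'
        exact le_normalizer hb'
      · refine centralizer_le_normalizer _ ?_
        rw [mem_centralizer_iff]
        intro z hz
        exact Subtype.ext (commute_of_disjoint hd hb' hz).symm
    have hsn : K.IsSubnormal := by
      exact isSubnormal_of_normal_in (Subgroup.Normal.isSubnormal (normalClosure_normal (s := (K : Set ↥H))))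
        subset_normalClosure hnorm
    have hKL : K ≤ L := (comp_le_layer ⟨hsn, hq⟩).trans layer_le_genFitting
    have hcomp := comp_subgroupOf ⟨hsn, hq⟩ hKL
    refine le_antisymm ?_ hKL
    rcases qs_subnormal_eq_top_or_le_center hF (comp_subnormal hcomp) with h | h
    · exact subgroupOf_eq_top.mp h
    · exact absurd (isMulCommutative_of_le_center h) (comp_not_isMulCommutative hcomp)
  -- a three-cycle in `H`
  have three : ∀ (G0 : Subgroup (Perm (Fin n))) (d : Perm (Fin n)), orderOf d = 3 → d ∈ G0 →
      (P : Subgroup (Perm (Fin n))) ≤ G0 → ∃ s ∈ G0, s * d * s⁻¹ ∈ (P : Subgroup (Perm (Fin n))) := by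
    intro G0 d hd hdG hPG
    have h1 : IsPGroup 3 (zpowers (⟨d, hdG⟩ : ↥G0)) :=
      IsPGroup.of_card (n := 1) (by rw [Nat.card_zpowers, pow_one, Subgroup.orderOf_mk, hd])
    obtain ⟨Q, hQ⟩ := h1.exists_le_sylow
    obtain ⟨s, hs⟩ := MulAction.exists_smul_eq ↥G0 Q (P.subtype hPG)
    refine ⟨s, s.2, ?_⟩
    have h2 : s * ⟨d, hdG⟩ * s⁻¹ ∈ (P.subtype hPG : Subgroup ↥G0) := by
      rw [← hs]
      exact ⟨_, hQ (mem_zpowers _), rfl⟩
    exact h2
  obtain ⟨a, b, c, hab, hac, hbc⟩ : ∃ a b c : Fin n, a ≠ b ∧ a ≠ c ∧ b ≠ c :=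
    ⟨⟨0, by omega⟩, ⟨1, by omega⟩, ⟨2, by omega⟩, by simp, by simp, by simp⟩
  have tri : ∀ (T : Finset (Fin n)), T.card = 3 → ∃ d : Perm (Fin n), orderOf d = 3 ∧ d ∈ altOn T ∧
      altOn T ≤ zpowers d := by
    intro T hT
    have hc3 : Nat.card (altOn T) = 3 := by
      rw [← Nat.card_congr (altEquiv T hT).toEquiv, nat_card_alternatingGroup, Nat.card_fin]
      rfl
    obtain ⟨d, hd⟩ := exists_prime_orderOf_dvd_card' (G := ↥(altOn T)) 3 (by rw [hc3])
    refine ⟨d, by rw [orderOf_coe, hd], d.2, ?_⟩
    intro z hz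
    have hz' : (⟨z, hz⟩ : ↥(altOn T)) ∈ zpowers d := by
      have : zpowers d = ⊤ := eq_top_of_card_eq _ (by rw [Nat.card_zpowers, hd, hc3])
      rw [this]; exact mem_top _
    obtain ⟨j, hj⟩ := mem_zpowers_iff.mp hz'
    exact ⟨j, congrArg Subtype.val hj⟩
  have conjT : ∀ (T : Finset (Fin n)) (s : Perm (Fin n)) (d : Perm (Fin n)), altOn T ≤ zpowers d →
      s * d * s⁻¹ ∈ H → altOn (T.image s) ≤ H := by
    intro T s d hd hsd g hg
    have h1 := conj_mem s⁻¹ hg
    have hi : (T.image s).image (s⁻¹ : Perm (Fin n)) = T := by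
      rw [Finset.image_image]
      have : ((s⁻¹ : Perm (Fin n)) : Fin n → Fin n) ∘ s = id := by funext x; simp
      rw [this, Finset.image_id]
    rw [hi, inv_inv] at h1
    obtain ⟨j, hj⟩ := mem_zpowers_iff.mp (hd h1)
    have : g = (s * d * s⁻¹) ^ j := by
      rw [conj_zpow, hj]; group
    rw [this]
    exact H.zpow_mem hsd j
  have hT0 : ({a, b, c} : Finset (Fin n)).card = 3 := by simp [hab, hac, hbc]
  obtain ⟨d0, hd0, hd0T, hd0z⟩ := tri _ hT0
  obtain ⟨s0, -, hs0⟩ := three ⊤ d0 hd0 (mem_top _) le_top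
  have hH0 := conjT _ s0 d0 hd0z (hP hs0)
  obtain ⟨C, hC0, hC, hmax⟩ := exists_maximal hH0
  have h3 : 3 ≤ C.card := by
    rw [← hT0, ← Finset.card_image_of_injective _ s0.injective]
    exact Finset.card_le_card hC0
  have hL := isL C hC h3 hmax
  -- the complement has at most two points
  have hco : n - C.card ≤ 2 := by
    by_contra hlt
    obtain ⟨T, hT, hT3⟩ := Finset.exists_subset_card_eq (s := Cᶜ) (n := 3)
      (by rw [Finset.card_compl, Fintype.card_fin]; omega)
    let St : Subgroup (Perm (Fin n)) :=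
      { carrier := {g | ∀ x, g x ∈ C ↔ x ∈ C}
        one_mem' := fun x => Iff.rfl
        mul_mem' := fun {g h} hg hh x => (hg (h x)).trans (hh x)
        inv_mem' := fun {g} hg x => by
          have := hg ((g⁻¹ : Perm (Fin n)) x)
          simp only [Perm.coe_inv, Equiv.apply_symm_apply] at this ⊢
          exact this.symm }
    have hHSt : H ≤ St := by
      intro h hh x
      have he : C.image h = C := by
        rcases image_eq_or_disjoint hC h3 hmax hh with he | hd
        · exact he
        · exfalso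
          have h5 := big C hC h3 hmax
          -- a second set would give the same layer
          obtain ⟨D, hD0, hD, hDmax⟩ := exists_maximal (altOn_image_le hC hh)
          have hcard : (C.image h).card = C.card := Finset.card_image_of_injective _ h.injective
          have hD3 : 3 ≤ D.card := by have := Finset.card_le_card hD0; omega
          have hLD := isL D hD hD3 hDmax
          rw [hL] at hLD
          obtain ⟨u, hu, hm⟩ : ∃ x ∈ C.image h, ∃ g ∈ altOn D, g x ≠ x := by
            obtain ⟨x, hx⟩ := Finset.card_pos.mp (by omega : 0 < (C.image h).card)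
            obtain ⟨y, hy, hyx⟩ := Finset.exists_mem_ne (by omega : 1 < D.card) x
            obtain ⟨g, hg, hgx⟩ := exists_map hD3 (hD0 hx) hy
            exact ⟨x, hx, g, hg, hgx ▸ hyx⟩
          obtain ⟨g, hg, hgu⟩ := hm
          have h7 : (⟨g, hD hg⟩ : ↥H) ∈ (altOn D).subgroupOf H := hg
          rw [← hLD] at h7
          exact hgu ((mem_altOn.mp h7).2 u (Finset.disjoint_left.mp hd hu))
      constructor
      · intro hx
        rw [← he, Finset.mem_image] at hx
        obtain ⟨y, hy, hxy⟩ := hx
        rwa [← h.injective hxy]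
      · intro hx
        rw [← he]
        exact Finset.mem_image_of_mem _ hx
    obtain ⟨d, hd, hdT, hdz⟩ := tri T hT3
    have hdSt : d ∈ St := by
      intro x
      by_cases hx : x ∈ T
      · have h1 := Finset.mem_compl.mp (hT hx)
        have h2 := Finset.mem_compl.mp (hT (apply_mem hdT hx))
        simp [h1, h2]
      · rw [hdT.2 x hx]
    obtain ⟨s, hs, hsd⟩ := three St d hd hdSt (hP.trans hHSt)
    obtain ⟨D, hD0, hD, hDmax⟩ := exists_maximal (conjT T s d hdz (hP hsd))
    have hD3 : 3 ≤ D.card := by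
      have := Finset.card_le_card hD0
      rwa [Finset.card_image_of_injective _ s.injective, hT3] at this
    have hLD := isL D hD hD3 hDmax
    rw [hL] at hLD
    obtain ⟨x, hx⟩ := Finset.card_pos.mp (by omega : 0 < T.card)
    have hsx : s x ∉ C := fun h => Finset.mem_compl.mp (hT hx) ((hs x).mp h)
    obtain ⟨y, hy, hyx⟩ := Finset.exists_mem_ne (by omega : 1 < D.card) (s x)
    obtain ⟨g, hg, hgx⟩ := exists_map hD3 (hD0 (Finset.mem_image_of_mem _ hx)) hy
    have h7 : (⟨g, hD hg⟩ : ↥H) ∈ (altOn D).subgroupOf H := hg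
    rw [← hLD] at h7
    exact hyx (hgx ▸ (mem_altOn.mp h7).2 _ hsx)
  refine ⟨C.card, ?_, ?_⟩
  · have : C.card ≤ n := by simpa using Finset.card_le_univ C
    omega
  · rw [hL]
    exact ⟨(subgroupOfEquivOfLe hC).trans (altEquiv C rfl).symm⟩

/-- Let n ≥ 5 and let H be a subgroup of the symmetric group of degree n whose generalized Fitting subgroup F*(H) is quasisimple. If H contains a Sylow 3-subgroup of the symmetric group, then F*(H) is isomorphic to an alternating group of degree m for some m ∈ {n − 2, n − 1, n}. -/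
theorem result (n : ℕ) (hn : 5 ≤ n) (H : Subgroup (Equiv.Perm (Fin n))) (hF : Cfsg.IsQuasisimple ↥(Cfsg.generalizedFittingSubgroup ↥H)) (hS : ∃ P : Sylow 3 (Equiv.Perm (Fin n)), (P : Subgroup (Equiv.Perm (Fin n))) ≤ H) : ∃ m : ℕ, (m = n - 2 ∨ m = n - 1 ∨ m = n) ∧ Nonempty (↥(Cfsg.generalizedFittingSubgroup ↥H) ≃* ↥(alternatingGroup (Fin m))) := by
  exact altThree n hn H hF hS

end Cfsg.Agent.S2929
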