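import Cfsg.Statements.S2930
import Cfsg.Agent.Components.Misc.AltPMinimal
import Cfsg.Agent.Components.GenFitting

set_option autoImplicit false
open Cfsg

namespace Cfsg.Agent.S2930

/-- Let X be a finite 3-minimal group (a Sylow 3-subgroup is not normal and lies in a unique maximal subgroup) whose generalized Fitting subgroup is isomorphic to an alternating group of degree n ≥ 5. Then X = F*(X), and n = 6, n = 9, or n = 3ᵃ + 1 for some a ≥ 2. -/
theorem result {X : Type*} [Group X] [Finite X] (hX : Cfsg.IsPMinimal 3 X) (n : ℕ) (hn : 5 ≤ n) (hF : Nonempty (↥(Cfsg.generalizedFittingSubgroup X) ≃* ↥(alternatingGroup (Fin n)))) : Cfsg.generalizedFittingSubgroup X = ⊤ ∧ (n = 6 ∨ n = 9 ∨ ∃ a : ℕ, 2 ≤ a ∧ n = 3 ^ a + 1) := by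
  classical
  open Subgroup Cfsg.Lib.Components in
  exact (by
    haveI : Fact (Nat.Prime 3) := ⟨by norm_num⟩
    obtain ⟨e⟩ := hF
    set A := Cfsg.generalizedFittingSubgroup X with hA
    haveI : A.Characteristic := by
      rw [Subgroup.characteristic_iff_map_eq]; intro f; exact genFitting_map_equiv f
    let φ : X →* MulAut (alternatingGroup (Fin n)) :=
      (MulAut.congr e).toMonoidHom.comp MulAut.conjNormal
    have hφ : ∀ (x : X) (a : A), φ x (e a) = e (MulAut.conjNormal x a) := by
      intro x a; simp [φ, MulAut.congr]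
    have hinj : Function.Injective φ := by
      rw [injective_iff_map_eq_one]
      intro x hx
      have h1 : x ∈ centralizer (A : Set X) := by
        rw [mem_centralizer_iff]
        intro a ha
        have h2 := hφ x ⟨a, ha⟩
        rw [hx] at h2
        have h3 : x * a * x⁻¹ = a := by
          have := congrArg Subtype.val (e.injective h2)
          simpa [MulAut.conjNormal_apply] using this.symm
        exact (mul_inv_eq_iff_eq_mul.mp h3).symm
      have h2 : x ∈ A := centralizer_genFitting_le h1
      have h3 : (⟨x, h2⟩ : A) ∈ center A := mem_center_iff.mpr fun a => Subtype.ext (mem_centralizer_iff.mp h1 a a.2)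
      have h4 : e ⟨x, h2⟩ ∈ center (alternatingGroup (Fin n)) := by
        rw [mem_center_iff]
        intro g
        obtain ⟨a, rfl⟩ := e.surjective g
        rw [← map_mul, ← map_mul, mem_center_iff.mp h3 a]
      rw [alternatingGroup.center_eq_bot (by simp; omega), mem_bot] at h4
      exact congrArg Subtype.val (e.injective (h4.trans e.map_one.symm))
    obtain ⟨S⟩ : Nonempty (Sylow 3 X) := inferInstance
    have hSA : (S : Subgroup X) ≤ A := by
      intro x hx
      obtain ⟨σ, hσ⟩ := Cfsg.Lib.SolvStruct.AltAut.sq_mem_range hn (φ x)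
      have hσ2 : σ * σ ∈ alternatingGroup (Fin n) := by
        rw [Equiv.Perm.mem_alternatingGroup, map_mul, Int.units_mul_self]
      obtain ⟨a, ha⟩ := e.surjective ⟨σ * σ, hσ2⟩
      have h4 : x ^ 4 = (a : X) := by
        apply hinj
        refine MulEquiv.ext fun g => ?_
        obtain ⟨b, rfl⟩ := e.surjective g
        have l : φ (x ^ 4) = MulAut.conjNormal (σ * σ) := by
          rw [map_pow, map_mul, hσ, pow_succ, pow_succ, pow_succ, pow_one, ← mul_assoc]
        rw [l, hφ]
        apply Subtype.ext
        rw [show MulAut.conjNormal (a : X) b = a * b * a⁻¹ from Subtype.ext (by simp [MulAut.conjNormal_apply]),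
          map_mul, map_mul, map_inv, ha]
        simp [MulAut.conjNormal_apply, mul_assoc, ha]
      obtain ⟨k, hk⟩ := S.isPGroup' ⟨x, hx⟩
      have hk' : x ^ 3 ^ k = 1 := congrArg Subtype.val hk
      obtain ⟨m, hm⟩ : ∃ m, x = (x ^ 4) ^ m := by
        have hc : Nat.Coprime 4 (orderOf x) :=
          Nat.Coprime.coprime_dvd_right (orderOf_dvd_of_pow_eq_one hk')
            (Nat.Coprime.pow_right k (by norm_num))
        obtain ⟨m, hm⟩ := exists_pow_eq_self_of_coprime hc
        exact ⟨m, hm.symm⟩
      rw [hm, h4]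
      exact pow_mem a.2 m
    have htop : A = ⊤ := Cfsg.Lib.Components.AltPMinimal.eq_top_of_pMinimal hX A S hSA
    refine ⟨htop, ?_⟩
    let ψ : alternatingGroup (Fin n) ≃* X :=
      e.symm.trans ((MulEquiv.subgroupCongr htop).trans Subgroup.topEquiv)
    let j : X →* Equiv.Perm (Fin n) := (alternatingGroup (Fin n)).subtype.comp ψ.symm.toMonoidHom
    have hj : Function.Injective j := Subtype.val_injective.comp ψ.symm.injective
    have hjr : j.range = alternatingGroup (Fin n) := by
      rw [MonoidHom.range_comp, MonoidHom.range_eq_top.mpr ψ.symm.surjective, ← MonoidHom.range_eq_map, range_subtype]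
    obtain ⟨hSn, M, ⟨hMc, hSM⟩, huniq⟩ := hX S
    refine Cfsg.Lib.Components.AltPMinimal.degree hn (Q := (S : Subgroup X).map j)
      (S.isPGroup'.map j) (M.map j) ?_ ?_
    · intro h
      apply hMc.1
      refine eq_top_iff.mpr fun x _ => ?_
      exact (mem_map_iff_mem hj).mp (h (hjr ▸ ⟨x, rfl⟩))
    · intro H hSH hH g hg
      obtain ⟨x, rfl⟩ : g ∈ j.range := hjr ▸ hg.2
      have hne : H.comap j ≠ ⊤ := by
        intro h
        apply hH
        rw [← hjr]
        rintro _ ⟨y, rfl⟩
        have : y ∈ H.comap j := h ▸ mem_top _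
        exact this
      obtain ⟨M₁, hM₁, hle⟩ := (eq_top_or_exists_le_coatom _).resolve_left hne
      have e1 := huniq M₁ ⟨hM₁, le_trans (map_le_iff_le_comap.mp hSH) hle⟩
      exact ⟨x, e1 ▸ hle hg.1, rfl⟩)

end Cfsg.Agent.S2930
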