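import Cfsg.Statements.S2932
import Cfsg.Agent.LocalEven.NaturalEmb.Four

set_option autoImplicit false
open Cfsg

namespace Cfsg.Agent.S2932

/-- Let p be a prime. Inside a finite ambient group let V be an elementary abelian p-subgroup and G a subgroup normalizing V and acting faithfully on it (G ∩ C(V) = 1), and let L ≤ G act on V as SL₂(F) on its natural module, F a finite field of characteristic p, with L ≅ SL₂(F). If every Sylow p-subgroup of N_G(L) is a Sylow p-subgroup of G, then either L is normal in G, or F has 4 elements and G is isomorphic to the alternating group of degree 7. -/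
theorem result {X : Type*} [Group X] [Finite X] {p : ℕ} [Fact p.Prime] (F : Type) [Field F] [Fintype F] [CharP F p] (V G L : Subgroup X) (hV : Cfsg.IsElementaryAbelian p V) (hGV : G ≤ Subgroup.normalizer (V : Set X)) (hfaith : G ⊓ Subgroup.centralizer (V : Set X) = ⊥) (hLG : L ≤ G) (hnat : Cfsg.IsNaturalSL2Module F V L) (hLiso : Nonempty (↥L ≃* Matrix.SpecialLinearGroup (Fin 2) F)) (hSyl : ∀ S : Sylow p ↥(G ⊓ Subgroup.normalizer (L : Set X)), ∀ P : Sylow p ↥G, Nat.card S = Nat.card P) : (L.subgroupOf G).Normal ∨ (Fintype.card F = 4 ∧ Nonempty (↥G ≃* ↥(alternatingGroup (Fin 7)))) := by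
  classical
  have := hLiso
  obtain ⟨hn, ρ₀, ψ, hsurj, hker, hcomp⟩ := hnat
  have hinj : Function.Injective ρ₀ := by
    rw [← MonoidHom.ker_eq_bot_iff, hker, Subgroup.subgroupOf_eq_bot, disjoint_comm, disjoint_iff]
    exact le_bot_iff.1 ((inf_le_inf_right _ hLG).trans hfaith.le)
  let ρ : ↥L ≃* Matrix.SpecialLinearGroup (Fin 2) F := MulEquiv.ofBijective ρ₀ ⟨hinj, hsurj⟩
  let w : (Fin 2 → F) → ↥V := fun x => (ψ.symm x).toMul
  let cj : ↥G → ↥V → ↥V := fun g v =>
    ⟨(g : X) * v * (g : X)⁻¹, (Subgroup.mem_normalizer_iff.1 (hGV g.2) v).1 v.2⟩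
  have cj_mul : ∀ g h v, cj (g * h) v = cj g (cj h v) := fun g h v => Subtype.ext (by simp [cj, mul_assoc])
  have cj_map : ∀ g a b, cj g (a * b) = cj g a * cj g b := fun g a b => Subtype.ext (by simp [cj, mul_assoc])
  letI : DistribMulAction ↥G (Fin 2 → F) :=
    { smul := fun g x => ψ (Additive.ofMul (cj g (w x)))
      one_smul := fun x => by
        show ψ (Additive.ofMul (cj 1 (w x))) = x
        rw [show cj 1 (w x) = w x from Subtype.ext (by simp [cj])]
        exact ψ.apply_symm_apply x
      mul_smul := fun g h x => by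
        show ψ (Additive.ofMul (cj (g * h) (w x))) = ψ (Additive.ofMul (cj g (w (ψ (Additive.ofMul (cj h (w x)))))))
        rw [show w (ψ (Additive.ofMul (cj h (w x)))) = cj h (w x) by simp [w], cj_mul]
      smul_zero := fun g => by
        show ψ (Additive.ofMul (cj g (w 0))) = 0
        rw [show cj g (w 0) = 1 from Subtype.ext (by simp [cj, w]), ofMul_one, map_zero]
      smul_add := fun g x y => by
        show ψ (Additive.ofMul (cj g (w (x + y)))) = ψ (Additive.ofMul (cj g (w x))) + ψ (Additive.ofMul (cj g (w y)))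
        rw [show w (x + y) = w x * w y by simp [w], cj_map, ofMul_mul, map_add] }
  have hsmul : ∀ (g : ↥G) x, g • x = ψ (Additive.ofMul (cj g (w x))) := fun _ _ => rfl
  let sl : Matrix.SpecialLinearGroup (Fin 2) F →* ↥G := (Subgroup.inclusion hLG).comp ρ.symm.toMonoidHom
  have hfa : ∀ g : ↥G, (∀ v : Fin 2 → F, g • v = v) → g = 1 := by
    intro g hg
    refine Subtype.ext (Subgroup.mem_bot.1 (hfaith ▸ Subgroup.mem_inf.2 ⟨g.2, Subgroup.mem_centralizer_iff.2 ?_⟩))
    intro v hv
    have h1 := hg (ψ (Additive.ofMul ⟨v, hv⟩))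
    rw [hsmul, show w (ψ (Additive.ofMul ⟨v, hv⟩)) = ⟨v, hv⟩ by simp [w]] at h1
    have h2 := congrArg Subtype.val (Additive.ofMul.injective (ψ.injective h1))
    exact (mul_inv_eq_iff_eq_mul.1 h2).symm
  have hsl : ∀ (A : Matrix.SpecialLinearGroup (Fin 2) F) (v : Fin 2 → F),
      sl A • v = (A : Matrix (Fin 2) (Fin 2) F).mulVec v := by
    intro A v
    obtain ⟨u, hu, hψ⟩ := hcomp (ρ.symm A) (w v)
    rw [hsmul, show cj (sl A) (w v) = u from Subtype.ext hu.symm, hψ,
      show ρ₀ (ρ.symm A) = A from ρ.apply_symm_apply A]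
    simp [w]
  have hrange : sl.range = L.subgroupOf G := by
    ext g
    rw [Subgroup.mem_subgroupOf]
    constructor
    · rintro ⟨A, rfl⟩; exact (ρ.symm A).2
    · intro hg
      exact ⟨ρ ⟨g, hg⟩, Subtype.ext (by simp [sl])⟩
  set N := Subgroup.normalizer (sl.range : Set ↥G) with hN
  have hcmp : ∀ x : ↥G, x ∈ N ↔ (x : X) ∈ Subgroup.normalizer (L : Set X) := by
    intro x
    rw [hN, Subgroup.mem_normalizer_iff, Subgroup.mem_normalizer_iff]
    constructor
    · intro h y
      constructor
      · intro hy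
        have := (h ⟨y, hLG hy⟩).1 (by rw [hrange]; exact hy)
        rw [hrange] at this
        exact this
      · intro hy
        have hyG : y ∈ G := by
          have := G.mul_mem (G.mul_mem (G.inv_mem x.2) (hLG hy)) x.2
          simpa [mul_assoc] using this
        have := (h ⟨y, hyG⟩).2 (by rw [hrange]; exact hy)
        rw [hrange] at this
        exact this
    · intro h y
      rw [hrange]
      exact h y
  let e : ↥N ≃* ↥(G ⊓ Subgroup.normalizer (L : Set X)) :=
    { toFun := fun x => ⟨((x : ↥G) : X), (x : ↥G).2, (hcmp _).1 x.2⟩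
      invFun := fun y => ⟨⟨(y : X), y.2.1⟩, (hcmp _).2 y.2.2⟩
      left_inv := fun _ => rfl
      right_inv := fun _ => rfl
      map_mul' := fun _ _ => rfl }
  obtain ⟨Q, hQ⟩ := ((IsPGroup.comap_of_injective (H := (sl.comp Cfsg.Lib.Misc.NaturalSL2.upHom).range)
    (by
      intro z
      obtain ⟨b, hb⟩ := z.2
      refine ⟨1, Subtype.ext ?_⟩
      rw [pow_one, SubgroupClass.coe_pow, ← hb, ← map_pow, OneMemClass.coe_one]
      convert map_one (sl.comp Cfsg.Lib.Misc.NaturalSL2.upHom)
      refine Multiplicative.toAdd.injective ?_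
      simp [CharP.cast_eq_zero]) N.subtype N.subtype_injective)).exists_le_sylow (p := p)
  obtain ⟨P⟩ : Nonempty (Sylow p ↥G) := inferInstance
  have hcard : Nat.card Q = Nat.card P := by
    refine Eq.trans ?_ (hSyl (Q.mapSurjective (f := e.toMonoidHom) e.surjective) P)
    show _ = Nat.card ↥((Q : Subgroup ↥N).map e.toMonoidHom)
    rw [
      Subgroup.card_map_of_injective e.injective]
  set T := (Q : Subgroup ↥N).map N.subtype with hT
  have hTc : Nat.card T = Nat.card P := by rw [hT, Subgroup.card_map_of_injective N.subtype_injective]; exact hcard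
  have hTi : ¬ p ∣ T.index := by
    have h1 : T.index = (P : Subgroup ↥G).index := by
      have e1 := T.card_mul_index
      have e2 := (P : Subgroup ↥G).card_mul_index
      rw [hTc, ← e2] at e1
      exact Nat.eq_of_mul_eq_mul_left Nat.card_pos e1
    rw [h1]
    exact P.not_dvd_index
  let E : Cfsg.Lib.LocalEven.NaturalEmb.Emb p F ↥G :=
    { faith := hfa
      sl := sl
      hsl := hsl
      T := T
      hTp := Q.isPGroup'.map _
      hTi := hTi
      hTn := Subgroup.map_subtype_le _
      hupT := fun b => by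
        have hmem : sl (Cfsg.Lib.Misc.NaturalSL2.up b) ∈ N := Subgroup.le_normalizer ⟨_, rfl⟩
        exact ⟨⟨_, hmem⟩, hQ ⟨Multiplicative.ofAdd b, rfl⟩, rfl⟩ }
  by_cases h4 : p = 2 ∧ Nat.card F = 4
  · obtain ⟨rfl, h4⟩ := h4
    rcases Cfsg.Lib.LocalEven.NaturalEmb.four_case E h4 with h | h
    · exact Or.inl (hrange ▸ h)
    · exact Or.inr ⟨by rw [← Nat.card_eq_fintype_card, h4], h⟩
  · exact Or.inl (hrange ▸ E.range_normal h4)

end Cfsg.Agent.S2932
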