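import Cfsg.Statements.S3161
import Cfsg.Agent.PGroups.Singer.Models

set_option autoImplicit false
set_option linter.style.haveILetI false
open Cfsg

namespace Cfsg.Agent.S3161

/-- Let Q be a non-abelian finite 2-group admitting commuting automorphisms α of order 2 and ρ of order 2^n − 1, where n ≥ 2, such that the fixed points of α form an elementary abelian subgroup of order 2^n on whose nonidentity elements the group generated by ρ acts transitively. Then Q is isomorphic to a Sylow 2-subgroup of the projective special unitary group of dimension 3 with parameter 2^n (realised over the field with 4^n elements) or of the projective special linear group of dimension 3 over the field with 2^n elements. -/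
theorem result {Q : Type*} [Group Q] [Finite Q] (hQ : IsPGroup 2 Q) (hna : ¬ IsMulCommutative Q) (n : ℕ) (hn : 2 ≤ n)
    (α ρ : MulAut Q) (hα : orderOf α = 2) (hρ : orderOf ρ = 2 ^ n - 1) (hc : Commute α ρ)
    (C : Subgroup Q) (hC : ∀ x : Q, x ∈ C ↔ α x = x) (hCE : Cfsg.IsElementaryAbelian 2 C ∧ Nat.card ↥C = 2 ^ n)
    (htr : ∀ x y : Q, x ∈ C → y ∈ C → x ≠ 1 → y ≠ 1 → ∃ k : ℕ, (ρ ^ k) x = y) :
    (∃ (F : Type) (_ : Field F) (_ : Fintype F), Fintype.card F = 4 ^ n ∧
        ∃ S : Sylow 2 (Cfsg.PSU 3 F (2 ^ n)), Nonempty (Q ≃* ↥(S : Subgroup (Cfsg.PSU 3 F (2 ^ n))))) ∨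
      (∃ (F : Type) (_ : Field F) (_ : Fintype F), Fintype.card F = 2 ^ n ∧
        ∃ S : Sylow 2 (Matrix.ProjectiveSpecialLinearGroup (Fin 3) F), Nonempty (Q ≃* ↥(S : Subgroup (Matrix.ProjectiveSpecialLinearGroup (Fin 3) F)))) := by
  classical
  haveI : Fact (Nat.Prime 2) := ⟨Nat.prime_two⟩
  have hcomm : ∀ x, α (ρ x) = ρ (α x) := fun x => DFunLike.congr_fun hc.eq x
  have hα2 : ∀ x, α (α x) = x := fun x => by
    have h : α ^ 2 = 1 := by rw [← hα]; exact pow_orderOf_eq_one α
    exact DFunLike.congr_fun h x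
  obtain ⟨⟨hCc, hC2⟩, hCq⟩ := hCE
  -- the action of the powers of `ρ` on `C`
  have hρC : ∀ k : ℕ, ∀ x ∈ C, (ρ ^ k) x ∈ C := by
    intro k
    induction k with
    | zero => intro x hx; simpa using hx
    | succ k ih =>
      intro x hx
      rw [pow_succ', MulAut.mul_apply, hC, hcomm, (hC _).1 (ih x hx)]
  have hρinv : ρ ^ (orderOf ρ - 1) = ρ⁻¹ := eq_inv_of_mul_eq_one_left (by
    rw [← pow_succ, Nat.sub_add_cancel (orderOf_pos ρ), pow_orderOf_eq_one])
  letI : CommGroup C := { (inferInstance : Group C) with mul_comm := fun a b => hCc.is_comm.comm a b }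
  haveI : Nontrivial C := Finite.one_lt_card_iff_nontrivial.1 (by rw [hCq]; exact Nat.one_lt_two_pow (by omega))
  let res : Subgroup.zpowers ρ →* MulAut C := MonoidHom.mk'
    (fun k =>
      { toFun := fun x => ⟨(k : MulAut Q) x, by
          obtain ⟨j, hj⟩ := mem_powers_iff_mem_zpowers.2 k.2
          rw [← hj]
          exact hρC j x x.2⟩
        invFun := fun x => ⟨(k : MulAut Q)⁻¹ x, by
          obtain ⟨j, hj⟩ := mem_powers_iff_mem_zpowers.2 (inv_mem k.2)
          rw [← hj]
          exact hρC j x x.2⟩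
        left_inv := fun x => Subtype.ext (MulAut.inv_apply_self Q (k : MulAut Q) x)
        right_inv := fun x => Subtype.ext (MulAut.apply_inv_self Q (k : MulAut Q) x)
        map_mul' := fun x y => Subtype.ext (map_mul (k : MulAut Q) (x : Q) y) })
    fun k l => MulEquiv.ext fun x => Subtype.ext rfl
  letI : CommGroup (Subgroup.zpowers ρ) := { (inferInstance : Group (Subgroup.zpowers ρ)) with
    mul_comm := fun a b => (inferInstance : IsMulCommutative (Subgroup.zpowers ρ)).is_comm.comm a b }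
  obtain ⟨F₀, iF₀, iT₀, iP₀, e, χ, hχ, he⟩ := Cfsg.Lib.SuzukiTwo.exists_field (V := C) (K := Subgroup.zpowers ρ)
    (fun x => Subtype.ext (by rw [Subgroup.coe_mul, ← pow_two]; exact hC2 x x.2)) res fun x y hx hy => by
      obtain ⟨k, hk⟩ := htr x y x.2 y.2 (fun h => hx (Subtype.ext h)) (fun h => hy (Subtype.ext h))
      exact ⟨(⟨ρ ^ k, Subgroup.pow_mem _ (Subgroup.mem_zpowers ρ) k⟩ : Subgroup.zpowers ρ), Subtype.ext hk⟩
  let F := GaloisField 2 n
  letI : Fintype F := Fintype.ofFinite F
  have hF : Fintype.card F = 2 ^ n := by rw [Fintype.card_eq_nat_card, GaloisField.card 2 n (by omega)]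
  have hF₀ : Fintype.card F₀ = Fintype.card F := by
    rw [hF, ← hCq, Nat.card_congr (e.toEquiv.trans Multiplicative.toAdd), Nat.card_eq_fintype_card]
  let ι := FiniteField.ringEquivOfCardEq (K := F₀) (K' := F) hF₀
  set g : Subgroup.zpowers ρ := ⟨ρ, Subgroup.mem_zpowers ρ⟩ with hg
  let eQ : Q → F := fun x => if h : x ∈ C then ι (e ⟨x, h⟩).toAdd else 0
  have eQ_C : ∀ x (h : x ∈ C), eQ x = ι (e ⟨x, h⟩).toAdd := fun x h => dif_pos h
  let H : Cfsg.Lib.PGroups.Singer.Hyp Q F :=
    { α := α
      ρ := ρ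
      ω := ι (χ g)
      e := eQ
      two := hQ
      hα := hα2
      comm := hcomm
      period := fun x => by
        rw [hF, ← hρ, pow_orderOf_eq_one]
        rfl
      gen := fun x hx => by
        obtain ⟨k, hk⟩ := hχ (ι.symm x) (fun h => hx (by rw [← ι.apply_symm_apply x, h, map_zero]))
        obtain ⟨j, hj⟩ := mem_powers_iff_mem_zpowers.2 k.2
        refine ⟨j, ?_⟩
        rw [← map_pow, ← map_pow, show g ^ j = k from Subtype.ext hj, hk, RingEquiv.apply_symm_apply]
      ω_ne := by
        intro h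
        have h1 : χ g * χ g⁻¹ = 1 := by rw [← map_mul, mul_inv_cancel, map_one]
        rw [(map_eq_zero_iff ι ι.injective).mp h, zero_mul] at h1
        exact zero_ne_one h1
      e_mul := fun x y hx hy => by
        rw [eQ_C x ((hC x).2 hx), eQ_C y ((hC y).2 hy), eQ_C (x * y) (mul_mem ((hC x).2 hx) ((hC y).2 hy)),
          ← map_add, ← toAdd_mul, ← map_mul]
        rfl
      e_inj := fun x hx h => by
        rw [eQ_C x ((hC x).2 hx), map_eq_zero_iff ι ι.injective, ← toAdd_one, Multiplicative.toAdd.apply_eq_iff_eq,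
          map_eq_one_iff e e.injective] at h
        exact congrArg Subtype.val h
      e_surj := fun f => by
        refine ⟨(e.symm (Multiplicative.ofAdd (ι.symm f)) : C), (hC _).1 (SetLike.coe_mem _), ?_⟩
        rw [eQ_C _ (SetLike.coe_mem _), Subtype.coe_eta, MulEquiv.apply_symm_apply, toAdd_ofAdd,
          RingEquiv.apply_symm_apply]
      e_ρ := fun x hx => by
        have h := (hC x).2 hx
        rw [eQ_C x h, eQ_C (ρ x) (by simpa using hρC 1 x h), ← map_mul, ← he]
        rfl }
  obtain ⟨S⟩ := Cfsg.Lib.PGroups.Singer.exists_shape (F := F) (by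
    rw [hF]
    calc 4 = 2 ^ 2 := by norm_num
      _ ≤ 2 ^ n := Nat.pow_le_pow_right (by norm_num) hn) Q H (by
    by_contra! h
    exact hna ⟨⟨h⟩⟩)
  by_cases hr : ∃ r : F, r ^ 2 + r + S.m = 0
  · obtain ⟨r, hr⟩ := hr
    exact Or.inr ⟨F, inferInstance, inferInstance, hF, S.sylow_psl hr⟩
  · exact Or.inl (S.sylow_psu (by omega) hF (not_exists.mp hr))

end Cfsg.Agent.S3161
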