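import Cfsg.Statements.S2933
import Cfsg.Agent.S3161
import Cfsg.Agent.PGroups.FixedFoursAbelian
-- import your own Cfsg.Agent.* helpers here

set_option autoImplicit false
set_option maxHeartbeats 1000000
set_option linter.unusedSimpArgs false
set_option linter.style.haveILetI false
open Cfsg

namespace Cfsg.Agent.S2933

/-- Let T be a 2-subgroup of a finite group G, V ≤ Z(T) a four-group, and t, ρ ∈ N_G(V) ∩ N_G(T) elements of order 2 and 3 with t commuting with ρ and with V. If [V, ρ] = V and C_T(t) = V, then T is elementary abelian of order 16, or homocyclic of rank 2 (ℤ/2ⁿ × ℤ/2ⁿ for some n ≥ 1), or isomorphic to a Sylow 2-subgroup of PSL₃(4) or of PSU₃(4). -/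
theorem result {G : Type*} [Group G] [Finite G] (T V : Subgroup G) (hT : IsPGroup 2 ↥T) (hVT : V ≤ T ⊓ Subgroup.centralizer (T : Set G)) (hV : Nat.card ↥V = 4 ∧ ∀ v ∈ V, v ^ 2 = 1) (t ρ : G) (ht : orderOf t = 2) (hρ : orderOf ρ = 3) (htn : t ∈ Subgroup.normalizer (V : Set G) ⊓ Subgroup.normalizer (T : Set G)) (hρn : ρ ∈ Subgroup.normalizer (V : Set G) ⊓ Subgroup.normalizer (T : Set G)) (htρ : t * ρ = ρ * t) (htV : t ∈ Subgroup.centralizer (V : Set G)) (hVρ : ⁅V, Subgroup.zpowers ρ⁆ = V) (hCt : T ⊓ Subgroup.centralizer ({t} : Set G) = V) : (Nat.card ↥T = 16 ∧ ∀ x ∈ T, x ^ 2 = 1) ∨ (∃ n : ℕ, 1 ≤ n ∧ Nonempty (↥T ≃* Multiplicative (ZMod (2 ^ n)) × Multiplicative (ZMod (2 ^ n)))) ∨ (∃ (F : Type) (_ : Field F) (_ : Fintype F), Fintype.card F = 4 ∧ ∀ P : Sylow 2 (Matrix.ProjectiveSpecialLinearGroup (Fin 3) F), Nonempty (↥T ≃* ↥(P : Subgroup (Matrix.ProjectiveSpecialLinearGroup (Fin 3) F)))) ∨ (∃ (F : Type) (_ : Field F) (_ : Fintype F), Fintype.card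 F = 16 ∧ ∀ P : Sylow 2 (Cfsg.PSU 3 F 4), Nonempty (↥T ≃* ↥(P : Subgroup (Cfsg.PSU 3 F 4)))) := by
  classical
  haveI : Fact (Nat.Prime 2) := ⟨Nat.prime_two⟩
  obtain ⟨hV4, hV2⟩ := hV
  have hVle : V ≤ T := fun v hv => (hVT hv).1
  have conjAut : ∀ g ∈ Subgroup.normalizer (T : Set G), ∃ φ : MulAut T, ∀ x : T, (φ x : G) = g * x * g⁻¹ := by
    intro g hg
    refine ⟨
      { toFun := fun x => ⟨g * x * g⁻¹, (Subgroup.mem_normalizer_iff.1 hg x).1 x.2⟩
        invFun := fun x => ⟨g⁻¹ * x * g, (Subgroup.mem_normalizer_iff.1 hg _).2 (by group; exact x.2)⟩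
        left_inv := fun x => Subtype.ext (by group)
        right_inv := fun x => Subtype.ext (by group)
        map_mul' := fun x y => Subtype.ext (by
          show g * ((x : G) * y) * g⁻¹ = g * x * g⁻¹ * (g * y * g⁻¹)
          group) }, fun x => rfl⟩
  obtain ⟨α, hα⟩ := conjAut t htn.2
  obtain ⟨ρ', hρ'⟩ := conjAut ρ hρn.2
  have t2 : t * t = 1 := by rw [← sq, ← ht]; exact pow_orderOf_eq_one t
  have ρ3 : ρ ^ 3 = 1 := by rw [← hρ]; exact pow_orderOf_eq_one ρ
  have hα2 : ∀ x, α (α x) = x := fun x => Subtype.ext (by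
    rw [hα, hα, show t * (t * (x : G) * t⁻¹) * t⁻¹ = (t * t) * x * (t * t)⁻¹ by group, t2]; simp)
  have hcom : ∀ x, α (ρ' x) = ρ' (α x) := fun x => Subtype.ext (by
    rw [hα, hρ', hρ', hα, show t * (ρ * (x : G) * ρ⁻¹) * t⁻¹ = (t * ρ) * x * (t * ρ)⁻¹ by group, htρ]
    group)
  set C : Subgroup T := V.subgroupOf T with hCdef
  have hCmem : ∀ x : T, x ∈ C ↔ α x = x := by
    intro x
    rw [hCdef, Subgroup.mem_subgroupOf, ← hCt, Subgroup.mem_inf, Subgroup.mem_centralizer_singleton_iff]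
    constructor
    · intro h
      refine Subtype.ext ?_
      rw [hα, mul_inv_eq_iff_eq_mul]
      first | exact h.2 | exact h.2.symm
    · intro h
      refine ⟨x.2, ?_⟩
      have h' := congrArg Subtype.val h
      rw [hα, mul_inv_eq_iff_eq_mul] at h'
      first | exact h' | exact h'.symm
  have hC4 : Nat.card C = 4 := by
    rw [← hV4]; exact Nat.card_congr (Subgroup.subgroupOfEquivOfLe hVle).toEquiv
  have hC2 : ∀ v ∈ C, v ^ 2 = 1 := fun v hv => Subtype.ext (by
    rw [Subgroup.coe_pow]; exact hV2 _ hv)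
  have hρV : ∀ v : T, v ∈ C → ρ' v ∈ C := fun v hv => (hCmem _).2 (by rw [hcom, (hCmem v).1 hv])
  have hρk : ∀ (k : ℕ) (x : T), ((ρ' ^ k) x : G) = ρ ^ k * x * (ρ ^ k)⁻¹ := by
    intro k
    induction k with
    | zero => intro x; simp
    | succ k ih =>
      intro x
      rw [pow_succ' ρ', MulAut.mul_apply, hρ', ih, pow_succ']
      group
  have hρ3 : ρ' ^ 3 = 1 := MulEquiv.ext fun x => Subtype.ext (by rw [hρk, ρ3]; simp)
  have hfix : ∀ v : T, v ∈ C → ρ' v = v → v = 1 := by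
    intro v hv hfv
    by_contra hv1
    obtain ⟨w, hwC, hw1, hwv⟩ : ∃ w : T, w ∈ C ∧ w ≠ 1 ∧ w ≠ v := by
      by_contra! h
      have hle : Nat.card C ≤ Nat.card ({1, v} : Set T) :=
        Nat.card_mono (Set.toFinite _) (fun w hw => by
          by_cases h1 : w = 1
          · exact Or.inl h1
          · exact Or.inr (h w hw h1))
      rw [hC4, Nat.card_coe_set_eq, Set.ncard_pair (Ne.symm hv1)] at hle
      omega
    have hvw1 : v * w ≠ 1 := fun h => hwv (by
      rw [eq_inv_of_mul_eq_one_right h]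
      exact inv_eq_of_mul_eq_one_right (by rw [← sq]; exact hC2 v hv))
    have hsub : ∀ z : T, z ∈ C → z = 1 ∨ z = v ∨ z = w ∨ z = v * w := by
      intro z hz
      by_contra! h
      obtain ⟨h1, h2, h3, h4⟩ := h
      have hle : Nat.card ({1, v, w, v * w, z} : Set T) ≤ 4 := by
        rw [← hC4]
        refine Nat.card_mono (Set.toFinite _) ?_
        rintro y (rfl | rfl | rfl | rfl | rfl)
        exacts [one_mem _, hv, hwC, mul_mem hv hwC, hz]
      rw [Nat.card_coe_set_eq, Set.ncard_eq_toFinset_card'] at hle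
      simp [Finset.card_insert_of_notMem, Ne.symm hv1, Ne.symm hw1, Ne.symm hvw1, Ne.symm hwv, Ne.symm h1,
        Ne.symm h2, Ne.symm h3, Ne.symm h4, hv1, hw1] at hle
    have hfw : ρ' w = w := by
      rcases hsub _ (hρV w hwC) with h | h | h | h
      · exact absurd ((MulEquiv.map_eq_one_iff _).1 h) hw1
      · exact absurd (ρ'.injective (h.trans hfv.symm)) hwv
      · exact h
      · exfalso
        have h2 : ρ' (ρ' w) = w := by
          rw [h, map_mul, hfv, h, ← mul_assoc, ← sq, hC2 v hv, one_mul]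
        have h3 : (ρ' ^ 3) w = ρ' w := by
          rw [pow_succ', MulAut.mul_apply, pow_two, MulAut.mul_apply, h2]
        rw [hρ3, MulAut.one_apply, h] at h3
        exact hv1 (mul_eq_right.1 h3.symm)
    have hall : ∀ z ∈ V, z * ρ = ρ * z := by
      intro z hz
      have hz' : ρ' ⟨z, hVle hz⟩ = ⟨z, hVle hz⟩ := by
        rcases hsub ⟨z, hVle hz⟩ hz with h | h | h | h <;> rw [h] <;> simp [hfv, hfw]
      have h1 := congrArg Subtype.val hz'
      rw [hρ'] at h1
      exact (mul_inv_eq_iff_eq_mul.1 h1).symm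
    have hbot : ⁅V, Subgroup.zpowers ρ⁆ = ⊥ := by
      rw [Subgroup.commutator_eq_bot_iff_le_centralizer]
      intro z hz
      rw [Subgroup.mem_centralizer_iff]
      intro g hg
      obtain ⟨k, rfl⟩ := Subgroup.mem_zpowers_iff.1 hg
      exact (Commute.zpow_right (hall z hz) k).eq.symm
    rw [hVρ] at hbot
    rw [hbot] at hV4
    simp at hV4
  by_cases hab : ∀ x y : T, x * y = y * x
  · letI : CommGroup T := { (inferInstance : Group T) with mul_comm := hab }
    by_cases hE : ∀ x : T, x ^ 2 = 1 → x ∈ C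
    · refine Or.inr (Or.inl ?_)
      haveI : Nontrivial T := by
        obtain ⟨v, hv⟩ : ∃ v : C, v ≠ 1 := by
          haveI : Nontrivial C := Finite.one_lt_card_iff_nontrivial.1 (by rw [hC4]; norm_num)
          exact exists_ne 1
        exact ⟨⟨(v : T), 1, fun h => hv (Subtype.ext h)⟩⟩
      refine Cfsg.Lib.FixedFours.homocyclic hT ρ' (fun v hv h => hfix v (hE v hv) h) ?_
      rw [← hC4]
      exact Nat.card_le_card_of_injective (fun v : {v : T // v ^ 2 = 1} => (⟨v.1, hE v.1 v.2⟩ : C))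
        (fun a b h => Subtype.ext (congrArg (fun c : C => (c : T)) h))
    · obtain ⟨x, hx2, hxC⟩ : ∃ x : T, x ^ 2 = 1 ∧ x ∉ C := by
        by_contra! h
        exact hE h
      obtain ⟨h16, hel⟩ := Cfsg.Lib.FixedFours.elementary hT α ρ' hα2 hcom C hCmem hC2 hC4 hfix hx2 hxC
      exact Or.inl ⟨h16, fun y hy => congrArg Subtype.val (hel ⟨y, hy⟩)⟩
  · have hna : ¬ IsMulCommutative T := fun h => hab fun x y => h.is_comm.comm x y
    have hα1 : α ≠ 1 := by
      intro h
      refine hab fun x y => ?_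
      have hx : x ∈ C := (hCmem x).2 (by rw [h]; rfl)
      exact Subtype.ext ((Subgroup.mem_centralizer_iff.1 (hVT hx).2 y y.2).symm)
    have hαo : orderOf α = 2 := orderOf_eq_prime (MulEquiv.ext fun x => by
      rw [pow_two, MulAut.mul_apply, hα2, MulAut.one_apply]) hα1
    obtain ⟨v0, hv0, hv01⟩ : ∃ v : T, v ∈ C ∧ v ≠ 1 := by
      haveI : Nontrivial C := Finite.one_lt_card_iff_nontrivial.1 (by rw [hC4]; norm_num)
      obtain ⟨v, hv⟩ := exists_ne (1 : C)
      exact ⟨v, v.2, fun h => hv (Subtype.ext h)⟩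
    have hρo : orderOf ρ' = 2 ^ 2 - 1 := by
      haveI : Fact (Nat.Prime 3) := ⟨Nat.prime_three⟩
      exact orderOf_eq_prime hρ3 fun h => hv01 (hfix v0 hv0 (by rw [h]; rfl))
    have htr : ∀ x y : T, x ∈ C → y ∈ C → x ≠ 1 → y ≠ 1 → ∃ k : ℕ, (ρ' ^ k) x = y := by
      intro x y hx hy hx1 hy1
      by_contra! h
      have h0 : x ≠ y := fun e => h 0 (by simpa using e)
      have h1 : ρ' x ≠ y := fun e => h 1 (by simpa using e)
      have h2 : ρ' (ρ' x) ≠ y := fun e => h 2 (by rw [pow_two, MulAut.mul_apply]; exact e)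
      have e1 : ρ' x ≠ x := fun e => hx1 (hfix x hx e)
      have e2 : ρ' (ρ' x) ≠ ρ' x := fun e => e1 (ρ'.injective e)
      have e3 : ρ' (ρ' x) ≠ x := fun e => by
        have := MulEquiv.congr_fun hρ3 x
        rw [pow_succ', MulAut.mul_apply, pow_two, MulAut.mul_apply, MulAut.one_apply, e] at this
        exact e1 this
      have u1 : ρ' x ≠ 1 := fun e => hx1 ((MulEquiv.map_eq_one_iff _).1 e)
      have u2 : ρ' (ρ' x) ≠ 1 := fun e => u1 ((MulEquiv.map_eq_one_iff _).1 e)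
      have hle : Nat.card ({1, x, ρ' x, ρ' (ρ' x), y} : Set T) ≤ 4 := by
        rw [← hC4]
        refine Nat.card_mono (Set.toFinite _) ?_
        rintro z (rfl | rfl | rfl | rfl | rfl)
        exacts [one_mem _, hx, hρV _ hx, hρV _ (hρV _ hx), hy]
      rw [Nat.card_coe_set_eq, Set.ncard_eq_toFinset_card'] at hle
      simp [Finset.card_insert_of_notMem, Ne.symm hx1, Ne.symm hy1, Ne.symm u1, Ne.symm u2, Ne.symm e1,
        Ne.symm e2, Ne.symm e3, h0, h1, h2, hx1, hy1] at hle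
    have hCE : Cfsg.IsElementaryAbelian 2 C ∧ Nat.card C = 2 ^ 2 := by
      refine ⟨⟨⟨⟨fun a b => Subtype.ext (Subtype.ext ?_)⟩⟩, hC2⟩, by rw [hC4]; norm_num⟩
      exact ((Subgroup.mem_centralizer_iff.1 (hVT a.2).2 _ (hVle b.2)).symm)
    rcases Cfsg.Agent.S3161.result hT hna 2 le_rfl α ρ' hαo hρo (MulEquiv.ext fun x => hcom x) C hCmem hCE htr with
      ⟨F, _, _, hF, S, ⟨e⟩⟩ | ⟨F, _, _, hF, S, ⟨e⟩⟩
    · exact Or.inr (Or.inr (Or.inr ⟨F, inferInstance, inferInstance, hF, fun P => ⟨e.trans (Sylow.equiv S P)⟩⟩))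
    · exact Or.inr (Or.inr (Or.inl ⟨F, inferInstance, inferInstance, hF, fun P => ⟨e.trans (Sylow.equiv S P)⟩⟩))

end Cfsg.Agent.S2933
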