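import Cfsg.Statements.S2934
import Cfsg.Agent.Components.Misc.UniqueFixedInvolution
import Cfsg.Agent.Transfer.Basic
-- import your own Cfsg.Agent.* helpers here

set_option autoImplicit false
open Cfsg

namespace Cfsg.Agent.S2934

/-- Let p be an odd prime, W a finite 2-group and E a non-cyclic abelian p-subgroup of Aut(W) such that, for every nontrivial e ∈ E, the fixed points of e in W contain at most one involution. Then E has order 9, W is extraspecial of order 2⁵, 2⁷ or 2⁹, and the common fixed points of E in W form exactly the centre Z(W). -/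
theorem result {W : Type*} [Group W] [Finite W] (hW : IsPGroup 2 W) {p : ℕ} [Fact p.Prime] (hp : p ≠ 2) (E : Subgroup (MulAut W)) (hE : IsPGroup p ↥E) (hab : IsMulCommutative ↥E) (hnc : ¬ IsCyclic ↥E) (hfix : ∀ e ∈ E, e ≠ 1 → ∀ x y : W, orderOf x = 2 → orderOf y = 2 → e x = x → e y = y → x = y) : Nat.card ↥E = 9 ∧ Cfsg.IsExtraspecial 2 W ∧ (Nat.card W = 2 ^ 5 ∨ Nat.card W = 2 ^ 7 ∨ Nat.card W = 2 ^ 9) ∧ {x : W | ∀ e ∈ E, e x = x} = (Subgroup.center W : Set W) := by
  classical
  let φ : ↥E →* MulAut W := E.subtype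
  let X := SemidirectProduct W ↥E φ
  haveI : Finite X := Finite.of_equiv _ SemidirectProduct.equivProd.symm
  let inl : W →* X := SemidirectProduct.inl
  let inr : ↥E →* X := SemidirectProduct.inr
  have hli : Function.Injective inl := SemidirectProduct.inl_injective
  have hri : Function.Injective inr := SemidirectProduct.inr_injective
  have haut : ∀ (e : ↥E) (w : W), inl ((e : MulAut W) w) = inr e * inl w * (inr e)⁻¹ := fun e w => by
    rw [← map_inv]; exact SemidirectProduct.inl_aut e w
  have hcom : ∀ (e : ↥E) (w : W), Commute (inl w) (inr e) ↔ (e : MulAut W) w = w := by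
    intro e w
    rw [Cfsg.Lib.UniqueFixedInv.commute_iff_fixed, ← haut]
    exact ⟨fun h => hli h, fun h => by rw [h]⟩
  haveI : Finite ↥E := Finite.of_injective _ Subtype.val_injective
  let s : Cfsg.Lib.UniqueFixedInv.Setting X :=
    { W := inl.range
      E := inr.range
      p := p
      pprime := Fact.out
      podd := hp
      hW := hW.of_equiv (MonoidHom.ofInjective hli)
      hE := hE.of_equiv (MonoidHom.ofInjective hri)
      norm := by
        rintro _ ⟨e, rfl⟩
        rw [Subgroup.mem_normalizer_iff]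
        intro x
        constructor
        · rintro ⟨w, rfl⟩; exact ⟨_, haut e w⟩
        · rintro ⟨w, hw⟩
          refine ⟨((e⁻¹ : ↥E) : MulAut W) w, ?_⟩
          rw [haut, map_inv, inv_inv, hw]; group
      comm := by
        rintro _ ⟨e, rfl⟩ _ ⟨f, rfl⟩
        exact (show Commute e f from hab.is_comm.comm e f).map inr
      notcyc := fun h => hnc ((MonoidHom.ofInjective hri).isCyclic.mpr h)
      faith := by
        rintro _ ⟨e, rfl⟩ h
        have h1 : e = 1 := Subtype.ext (MulEquiv.ext fun w => (hcom e w).mp (h _ ⟨w, rfl⟩))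
        rw [h1, map_one]
      hfix := by
        rintro _ ⟨e, rfl⟩ he1 _ ⟨x, rfl⟩ _ ⟨y, rfl⟩ hx hy hxe hye
        rw [orderOf_injective inl hli] at hx hy
        rw [hfix e e.2 (fun h => he1 (by rw [show e = 1 from Subtype.ext h, map_one])) x y hx hy
          ((hcom e x).mp hxe) ((hcom e y).mp hye)] }
  have hW1 : s.W ≠ ⊥ := by
    intro h
    apply hnc
    haveI : Subsingleton W := ⟨fun a b => hli ((Subgroup.mem_bot.mp (h.le ⟨a, rfl⟩)).trans
      (Subgroup.mem_bot.mp (h.le ⟨b, rfl⟩)).symm)⟩
    haveI : Subsingleton (MulAut W) := ⟨fun f g => MulEquiv.ext fun w => Subsingleton.elim _ _⟩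
    infer_instance
  obtain ⟨z, hz⟩ := Cfsg.Lib.UniqueFixedInv.exists_z s hW1
  obtain ⟨h9, hext, hcard, hfixed⟩ := Cfsg.Lib.UniqueFixedInv.main s hz
  obtain ⟨eW, -⟩ : ∃ _ : W ≃* ↥s.W, True := ⟨MonoidHom.ofInjective hli, trivial⟩
  refine ⟨?_, ?_, ?_, ?_⟩
  · rw [Nat.card_congr (MonoidHom.ofInjective hri).toEquiv]; exact h9
  · haveI : Fact (Nat.Prime 2) := ⟨Nat.prime_two⟩
    obtain ⟨⟨h1, h2, h3⟩, h4⟩ := hext
    have hc : (Subgroup.center ↥s.W).comap eW.toMonoidHom = Subgroup.center W := by
      ext x
      simp only [Subgroup.mem_comap, Subgroup.mem_center_iff, MulEquiv.coe_toMonoidHom]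
      exact ⟨fun h y => eW.injective (by simp only [map_mul]; exact h (eW y)),
        fun h y => by obtain ⟨y, rfl⟩ := eW.surjective y; rw [← map_mul, ← map_mul, h y]⟩
    refine ⟨⟨hW, ?_, ?_⟩, ?_⟩
    · have h5 : (frattini ↥s.W).comap eW.toMonoidHom = frattini W := by
        refine le_antisymm (fun x hx => ?_) (frattini_le_comap_frattini_of_surjective eW.surjective)
        have h := frattini_le_comap_frattini_of_surjective (φ := eW.symm.toMonoidHom) eW.symm.surjective hx
        simpa using h
      rw [← h5, h2, hc]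
    · have h6 : (commutator ↥s.W).comap eW.toMonoidHom = commutator W := by
        rw [show commutator ↥s.W = (commutator W).map eW.toMonoidHom by
          rw [commutator_def, commutator_def, Subgroup.map_commutator, Subgroup.map_top_of_surjective _ eW.surjective],
          Subgroup.comap_map_eq_self_of_injective]
        exact eW.injective
      rw [← h6, h3, hc]
    · rw [← h4]
      have h7 : (Subgroup.center W).map eW.toMonoidHom = Subgroup.center ↥s.W := by
        rw [← hc, Subgroup.map_comap_eq_self_of_surjective eW.surjective]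
      rw [← h7, Subgroup.card_map_of_injective eW.injective]
  · rw [Nat.card_congr eW.toEquiv]; exact hcard
  · ext x
    simp only [Set.mem_ofPred_eq, SetLike.mem_coe, Subgroup.mem_center_iff]
    have h := hfixed (inl x) ⟨x, rfl⟩
    constructor
    · intro hx y
      exact hli (by rw [map_mul, map_mul]; exact ((h.mp (by rintro _ ⟨e, rfl⟩; exact (hcom e x).mpr (hx e e.2))) _ ⟨y, rfl⟩).eq)
    · intro hx e he
      refine (hcom ⟨e, he⟩ x).mp (h.mpr ?_ _ ⟨⟨e, he⟩, rfl⟩)
      rintro _ ⟨y, rfl⟩
      exact (show Commute y x from hx y).map inl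

end Cfsg.Agent.S2934
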