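import Cfsg.Statements.S2939
import Cfsg.Agent.Transfer.Frobenius

set_option autoImplicit false
open Cfsg

namespace Cfsg.Agent.S2939

/-- Let p be a prime dividing the order of the finite group G and 𝓕 a family of subgroups of G closed under conjugation, with conjugates taken as X^g = g⁻¹Xg. Then 𝓕 controls Sylow p-intersections in G (any two distinct Sylow p-subgroups S and T with S ∩ T ≠ 1 are joined by a chain S = S₀, S₁, …, Sₙ = T of Sylow p-subgroups where, for each i, some member Xᵢ of 𝓕 meets both S_{i-1} and Sᵢ in Sylow p-subgroups of Xᵢ, satisfies S ∩ T ≤ Sᵢ ∩ Xᵢ, and contains an element xᵢ with Sᵢ^{xᵢ} = S_{i-1}) if and only if 𝓕 strongly controls p-fusion in G (whenever A is a subset of a Sylow p-subgroup S, A contains an element other than 1, and A^g ⊆ S, the element g factorises as g = y₁⋯yₙy with y ∈ N_G(S) and each yᵢ in a member Yᵢ of 𝓕 that meets S in a Sylow p-subgroup of Yᵢ, with A^{y₁⋯yᵢ} ⊆ S ∩ Yᵢ for each i). -/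
theorem result {G : Type*} [Group G] [Finite G] {p : ℕ} [Fact p.Prime] (hdiv : p ∣ Nat.card G) (𝓕 : Set (Subgroup G)) (h𝓕 : Cfsg.IsNormalSet 𝓕) : Cfsg.ControlsSylowIntersections p 𝓕 ↔ Cfsg.FamilyStronglyControlsFusion p 𝓕 := by
  open Subgroup in
  exact by
    classical
    have cmul : ∀ (a b : G) (X : Subgroup G), subgroupConjRight (a * b) X = subgroupConjRight b (subgroupConjRight a X) := by
      intro a b X
      simp only [subgroupConjRight]
      rw [map_map]
      congr 1
      ext y; simp [mul_assoc]
    have cone : ∀ X : Subgroup G, subgroupConjRight 1 X = X := by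
      intro X; ext y; simp [subgroupConjRight]
    have cmem : ∀ (a y : G) (X : Subgroup G), y ∈ X → a⁻¹ * y * a ∈ subgroupConjRight a X :=
      fun a y X hy => ⟨y, hy, by simp⟩
    have syl : ∀ (S X : Subgroup G), (∃ P : Sylow p ↥X, (P : Subgroup ↥X).map X.subtype = S ⊓ X) ↔
        Nat.card ↥(S ⊓ X) = p ^ (Nat.card X).factorization p := by
      intro S X
      constructor
      · rintro ⟨P, hP⟩
        rw [← hP, card_map_of_injective X.subtype_injective, P.card_eq_multiplicity]
      · intro h
        have hc : Nat.card ↥((S ⊓ X).subgroupOf X) = p ^ (Nat.card X).factorization p := by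
          rw [Nat.card_congr (subgroupOfEquivOfLe (inf_le_right (a := S))).toEquiv, h]
        exact ⟨Sylow.ofCard _ hc, by rw [Sylow.coe_ofCard, map_subgroupOf_eq_of_le inf_le_right]⟩
    have mem' : ∀ (a : G) (S X : Subgroup G), X ∈ sylowMembers p 𝓕 S →
        subgroupConjRight a X ∈ sylowMembers p 𝓕 (subgroupConjRight a S) := by
      rintro a S X ⟨hX, hP⟩
      refine ⟨h𝓕 X hX a, (syl _ _).2 ?_⟩
      simp only [subgroupConjRight]
      rw [← map_inf _ _ _ (MulEquiv.injective _), card_map_of_injective (MulEquiv.injective _),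
        card_map_of_injective (MulEquiv.injective _)]
      exact (syl _ _).1 hP
    constructor
    · intro hI S A g hA hA1 hAg
      have hT : ∀ a ∈ A, a ∈ ((g • S : Sylow p G) : Subgroup G) := by
        intro a ha
        rw [Cfsg.Lib.Transfer.sylow_smul_coe]
        exact ⟨g⁻¹ * a * g, hAg ⟨a, ha, rfl⟩, by simp [mul_assoc]⟩
      by_cases hST : (g • S : Sylow p G) = S
      · exact ⟨0, Fin.elim0, Fin.elim0, g, Sylow.smul_eq_iff_mem_normalizer.1 hST, fun i => i.elim0,
          by simp, fun i => i.elim0⟩
      obtain ⟨a, ha, ha1⟩ := hA1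
      have hne : (S : Subgroup G) ⊓ ((g • S : Sylow p G) : Subgroup G) ≠ ⊥ :=
        fun h => ha1 (mem_bot.1 (h ▸ (mem_inf.mpr ⟨hA ha, hT a ha⟩)))
      obtain ⟨n, c, X, x, hc0, hcn, hstep⟩ := hI S (g • S) (Ne.symm hST) hne
      let z : ℕ → G := fun i => Nat.rec 1 (fun j w => if h : j < n then x ⟨j, h⟩ * w else w) i
      have z0 : z 0 = 1 := rfl
      have zs : ∀ i : Fin n, z (i.val + 1) = x i * z i.val := fun i => by
        show (if h : i.val < n then x ⟨i.val, h⟩ * z i.val else z i.val) = _
        rw [dif_pos i.isLt]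
      have hz : ∀ (i : ℕ) (hi : i < n + 1), subgroupConjRight (z i) (c ⟨i, hi⟩ : Subgroup G) = S := by
        intro i
        induction i with
        | zero => intro hi; rw [z0, cone, ← hc0]; rfl
        | succ i ih =>
          intro hi
          rw [zs ⟨i, Nat.lt_of_succ_lt_succ hi⟩, cmul]
          have := (hstep ⟨i, Nat.lt_of_succ_lt_succ hi⟩).2.2.2.1
          rw [show (⟨i + 1, hi⟩ : Fin (n + 1)) = (⟨i, Nat.lt_of_succ_lt_succ hi⟩ : Fin n).succ from rfl, this]
          exact ih _
      let y : Fin n → G := fun i => (z i.val)⁻¹ * z (i.val + 1)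
      have hpre : ∀ i ≤ n, ((List.ofFn y).take i).prod = z i := by
        intro i
        induction i with
        | zero => intro _; simp [z0]
        | succ i ih =>
          intro hi
          rw [List.prod_take_succ _ i (by simp; omega), ih (by omega), List.getElem_ofFn]
          simp [y]
      refine ⟨n, fun i => subgroupConjRight (z i.val) (X i), y, (z n)⁻¹ * g, ?_, fun i => ⟨?_, ?_⟩, ?_, fun i => ?_⟩
      · have h1 := hz n (Nat.lt_succ_self n)
        rw [show (⟨n, Nat.lt_succ_self n⟩ : Fin (n + 1)) = Fin.last n from rfl, hcn,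
          Cfsg.Lib.Transfer.sylow_smul_coe, subgroupConjRight, map_map] at h1
        refine mem_normalizer_iff_map_conj_eq.2 (Eq.trans ?_ h1)
        congr 1
        ext w; simp [mul_assoc]
      · have := mem' (z i.val) _ _ (hstep i).1
        rwa [show ((c i.castSucc : Sylow p G) : Subgroup G) = (c ⟨i.val, Nat.lt_succ_of_lt i.isLt⟩ : Subgroup G) from rfl,
          hz i.val (Nat.lt_succ_of_lt i.isLt)] at this
      · show (z i.val)⁻¹ * z (i.val + 1) ∈ _
        rw [zs i, ← mul_assoc]
        exact cmem _ _ _ (hstep i).2.2.1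
      · have := hpre n le_rfl
        rw [List.take_of_length_le (by simp)] at this
        rw [this, mul_inv_cancel_left]
      · rw [hpre (i.val + 1) i.isLt]
        rintro _ ⟨b, hb, rfl⟩
        have h1 := (hstep i).2.2.2.2 (mem_inf.mpr ⟨hA hb, hT b hb⟩)
        refine ⟨?_, ?_⟩
        · have := cmem (z (i.val + 1)) b _ (mem_inf.1 h1).1
          rwa [show ((c i.succ : Sylow p G) : Subgroup G) = (c ⟨i.val + 1, Nat.succ_lt_succ i.isLt⟩ : Subgroup G) from rfl,
            hz (i.val + 1) (Nat.succ_lt_succ i.isLt)] at this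
        · have := cmem (z i.val) ((x i)⁻¹ * b * x i) (X i)
            (mul_mem (mul_mem (inv_mem (hstep i).2.2.1) (mem_inf.1 h1).2) (hstep i).2.2.1)
          show _ ∈ subgroupConjRight (z i.val) (X i)
          simp only [zs i, mul_inv_rev]
          convert this using 1
          group
    · intro hF S T hST hne
      obtain ⟨h, hh⟩ := MulAction.exists_smul_eq G S T
      obtain ⟨d, hd, hd1⟩ := ((Subgroup.bot_or_exists_ne_one _).resolve_left hne)
      have hTmem : ∀ a ∈ (T : Subgroup G), h⁻¹ * a * h ∈ (S : Subgroup G) := by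
        intro a ha
        rw [← hh, Cfsg.Lib.Transfer.sylow_smul_coe] at ha
        obtain ⟨b, hb, rfl⟩ := ha
        have : h⁻¹ * ((MulAut.conj h).toMonoidHom b) * h = b := by simp [mul_assoc]
        rw [this]; exact hb
      obtain ⟨n, Y, y, y₀, hy₀, hY, hg, hpre⟩ := hF S (((S : Subgroup G) ⊓ (T : Subgroup G) : Subgroup G) : Set G) h
        (fun a ha => (mem_inf.1 ha).1) ⟨d, hd, hd1⟩ (by rintro _ ⟨a, ha, rfl⟩; exact hTmem a (mem_inf.1 ha).2)
      let P : ℕ → G := fun i => ((List.ofFn y).take i).prod
      have Ps : ∀ i : Fin n, P (i.val + 1) = P i.val * y i := fun i => by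
        simp only [P]
        rw [List.prod_take_succ _ i.val (by simp), List.getElem_ofFn]
      have hsm : ∀ a : G, ((a • S : Sylow p G) : Subgroup G) = subgroupConjRight a⁻¹ (S : Subgroup G) := fun a => by
        rw [Cfsg.Lib.Transfer.sylow_smul_coe, subgroupConjRight, inv_inv]
      refine ⟨n, fun i => P i.val • S, fun i => subgroupConjRight (P i.val)⁻¹ (Y i),
        fun i => P i.val * y i * (P i.val)⁻¹, ?_, ?_, fun i => ⟨?_, ?_, ?_, ?_, ?_⟩⟩
      · simp [P]
      · show P n • S = T
        have : P n = (List.ofFn y).prod := by simp only [P]; rw [List.take_of_length_le (by simp)]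
        rw [← hh, hg, mul_smul, this, Sylow.smul_eq_iff_mem_normalizer.2 hy₀]
      · show _ ∈ sylowMembers p 𝓕 ((P i.val • S : Sylow p G) : Subgroup G)
        rw [hsm]
        exact mem' _ _ _ (hY i).1
      · show _ ∈ sylowMembers p 𝓕 ((P (i.val + 1) • S : Sylow p G) : Subgroup G)
        rw [hsm]
        have := mem' (P (i.val + 1))⁻¹ _ _ (hY i).1
        convert this using 1
        rw [Ps i, mul_inv_rev, cmul]
        show subgroupConjRight (P i.val)⁻¹ (Y i) = _
        congr 1
        show Y i = (Y i).map (MulAut.conj (y i)⁻¹⁻¹).toMonoidHom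
        rw [inv_inv]
        exact (mem_normalizer_iff_map_conj_eq.1 (le_normalizer (hY i).2)).symm
      · have := cmem (P i.val)⁻¹ (y i) _ (hY i).2
        rwa [inv_inv] at this
      · show subgroupConjRight (P i.val * y i * (P i.val)⁻¹) ((P (i.val + 1) • S : Sylow p G) : Subgroup G)
          = ((P i.val • S : Sylow p G) : Subgroup G)
        rw [hsm, hsm, ← cmul, Ps i]
        congr 1
        group
      · intro a ha
        obtain ⟨h1, h2⟩ := hpre i ⟨a, ha, rfl⟩
        refine mem_inf.mpr ⟨?_, ?_⟩
        · show a ∈ ((P (i.val + 1) • S : Sylow p G) : Subgroup G)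
          rw [hsm]
          convert cmem (P (i.val + 1))⁻¹ _ _ h1 using 1
          simp only [P]
          group
        · show a ∈ subgroupConjRight (P i.val)⁻¹ (Y i)
          convert cmem (P i.val)⁻¹ _ _ (mul_mem (mul_mem (hY i).2 h2) (inv_mem (hY i).2)) using 1
          simp only [Ps i, show ((List.ofFn y).take (i.val + 1)).prod = P (i.val + 1) from rfl]
          group

end Cfsg.Agent.S2939
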