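import Cfsg.Statements.S2960
import Cfsg.Agent.Components.Misc.EasyThree

set_option autoImplicit false
open Cfsg

namespace Cfsg.Agent.S2960

/-- Let G be a finite group of characteristic p (C_G(O_p(G)) ≤ O_p(G)), p prime, T a Sylow p-subgroup of G and Q a normal subgroup of T with C_T(Q) ≤ Q. Then C_G(Q) ≤ Q. -/
theorem result {G : Type*} [Group G] [Finite G] {p : ℕ} [Fact p.Prime] (hG : Subgroup.centralizer (Cfsg.pCore p G : Set G) ≤ Cfsg.pCore p G) (T : Sylow p G) (Q : Subgroup G) (hQT : Q ≤ (T : Subgroup G)) (hQn : (T : Subgroup G) ≤ Subgroup.normalizer (Q : Set G)) (hC : (T : Subgroup G) ⊓ Subgroup.centralizer (Q : Set G) ≤ Q) : Subgroup.centralizer (Q : Set G) ≤ Q := by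
  have hQp : IsPGroup p ↥Q := T.isPGroup'.to_le hQT
  have hC' : IsPGroup p ↥(Subgroup.centralizer (Q : Set G)) := by
    refine Cfsg.Lib.Easy.isPGroup_of_coprime_trivial _ fun x hx hcop => ?_
    have hW : Cfsg.pCore p G ≤ Subgroup.centralizer ({x} : Set G) := by
      refine Cfsg.Lib.Components.pxq_element hcop hQp hx _
        (Cfsg.Lib.Components.isPGroup_pCore p)
        (by rw [Subgroup.normalizer_eq_top]; exact le_top)
        (by rw [Subgroup.normalizer_eq_top]; trivial) ?_
      intro y hy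
      have hyQ : y ∈ Q := hC ⟨Cfsg.Lib.Coprime.pCore_le_sylow p T hy.1, hy.2⟩
      exact Subgroup.mem_centralizer_singleton_iff.2 (Subgroup.mem_centralizer_iff.1 hx y hyQ)
    have hxO : x ∈ Cfsg.pCore p G := hG (Subgroup.mem_centralizer_iff.2 fun y hy =>
      Subgroup.mem_centralizer_singleton_iff.1 (hW hy))
    obtain ⟨k, hk⟩ := IsPGroup.iff_orderOf.1 (Cfsg.Lib.Components.isPGroup_pCore p)
      (⟨x, hxO⟩ : Cfsg.pCore p G)
    rw [Subgroup.orderOf_mk] at hk
    rcases Nat.eq_zero_or_pos k with rfl | hk0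
    · rwa [pow_zero, orderOf_eq_one_iff] at hk
    · rw [hk, Nat.coprime_pow_left_iff hk0, Nat.coprime_self] at hcop
      exact absurd hcop (Fact.out : p.Prime).ne_one
  have hTN : (T : Subgroup G) ≤ Subgroup.normalizer (Subgroup.centralizer (Q : Set G) : Set G) := by
    intro t ht
    have hq := hQn ht
    refine Subgroup.mem_normalizer_iff.2 fun z => ⟨fun hz => ?_, fun hz => ?_⟩
    · refine Subgroup.mem_centralizer_iff.2 fun y hy => ?_
      have h1 := Subgroup.mem_centralizer_iff.1 hz _ ((Subgroup.mem_normalizer_iff''.1 hq y).1 hy)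
      have h2 := congrArg (fun u => t * u * t⁻¹) h1
      simpa [mul_assoc] using h2
    · refine Subgroup.mem_centralizer_iff.2 fun y hy => ?_
      have h1 := Subgroup.mem_centralizer_iff.1 hz _ ((Subgroup.mem_normalizer_iff.1 hq y).1 hy)
      have h2 := congrArg (fun u => t⁻¹ * u * t) h1
      simpa [mul_assoc] using h2
  have hsup : (T : Subgroup G) ⊔ Subgroup.centralizer (Q : Set G) = (T : Subgroup G) :=
    T.is_maximal' (IsPGroup.to_sup_of_normal_right' T.isPGroup' hC' hTN) le_sup_left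
  exact fun x hx => hC ⟨hsup.le (Subgroup.mem_sup_right hx), hx⟩

end Cfsg.Agent.S2960
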