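import Cfsg.Statements.S2963
import Cfsg.Agent.Transfer.Basic

set_option autoImplicit false
open Cfsg
open scoped Pointwise

namespace Cfsg.Agent.S2963

/-- Let n be odd. If the symmetric group of degree n is a minimal parabolic group for the prime 2, that is, a Sylow 2-subgroup is not normal and lies in exactly one maximal subgroup, then n = 2^m + 1 for some natural number m. -/
theorem result (n : ℕ) (hn : Odd n) (h : Cfsg.IsPMinimal 2 (Equiv.Perm (Fin n))) : ∃ m : ℕ, n = 2 ^ m + 1 := by
  classical
  set G := Equiv.Perm (Fin n)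
  obtain ⟨T⟩ : Nonempty (Sylow 2 G) := inferInstance
  obtain ⟨hTn, M, ⟨hM, hTM⟩, huniq⟩ := h T
  have hpos : 0 < n := hn.pos
  obtain ⟨i, hi⟩ : (MulAction.fixedPoints (T : Subgroup G) (Fin n)).Nonempty := by
    refine T.isPGroup'.nonempty_fixed_point_of_prime_not_dvd_card (Fin n) ?_
    rw [Nat.card_fin]
    obtain ⟨k, hk⟩ := hn
    omega
  have hne : ∃ j : Fin n, j ≠ i := by
    by_contra hc
    push Not at hc
    haveI : Subsingleton (Fin n) := ⟨fun a b => (hc a).trans (hc b).symm⟩
    exact hTn ⟨fun x hx g => by rw [Subsingleton.elim (g * x * g⁻¹) x]; exact hx⟩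
  obtain ⟨o, ho⟩ := hne
  set O := MulAction.orbit (T : Subgroup G) o with hO
  obtain ⟨m, hm⟩ := T.isPGroup'.card_orbit (a := o)
  refine ⟨m, ?_⟩
  have hiO : i ∉ O := by
    intro hio
    obtain ⟨g, hg⟩ := hio
    exact ho ((MulAction.injective g) (hg.trans (hi g).symm))
  by_contra hne2
  set s : Set (Fin n) := insert i O with hs
  have hcard : Nat.card s = 2 ^ m + 1 := by
    rw [hs, Nat.card_coe_set_eq, Set.ncard_insert_of_notMem hiO (Set.toFinite _),
      ← Nat.card_coe_set_eq, hm]
  obtain ⟨u, hu⟩ : ∃ u, u ∉ s := by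
    by_contra hall
    push Not at hall
    apply hne2
    rw [← hcard, Set.eq_univ_of_forall hall, Nat.card_coe_set_eq, Set.ncard_univ, Nat.card_fin]
  set J := MulAction.stabilizer G s with hJ
  have hTJ : (T : Subgroup G) ≤ J := by
    intro t ht
    rw [hJ, MulAction.mem_stabilizer_set' (Set.toFinite s)]
    intro x hx
    rcases hx with rfl | hx
    · exact Or.inl (hi ⟨t, ht⟩)
    · exact Or.inr (MulAction.mem_orbit_of_mem_orbit (⟨t, ht⟩ : (T : Subgroup G)) hx)
  have hswap : Equiv.swap i o ∈ J := by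
    rw [hJ, MulAction.mem_stabilizer_set' (Set.toFinite s)]
    intro x hx
    show Equiv.swap i o x ∈ s
    rw [Equiv.swap_apply_def]
    split_ifs
    · exact Or.inr (MulAction.mem_orbit_self o)
    · exact Or.inl rfl
    · exact hx
  have hJtop : J ≠ ⊤ := by
    intro htop
    have h1 : Equiv.swap i u ∈ J := htop ▸ Subgroup.mem_top _
    rw [hJ, MulAction.mem_stabilizer_set' (Set.toFinite s)] at h1
    have h2 : Equiv.swap i u i ∈ s := h1 (Or.inl rfl)
    rw [Equiv.swap_apply_left] at h2
    exact hu h2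
  obtain ⟨M1, hM1, hJM⟩ := (eq_top_or_exists_le_coatom J).resolve_left hJtop
  obtain rfl := huniq M1 ⟨hM1, hTJ.trans hJM⟩
  have hstab : MulAction.stabilizer G i ≠ ⊤ := by
    intro htop
    have h1 : Equiv.swap i o ∈ MulAction.stabilizer G i := htop ▸ Subgroup.mem_top _
    rw [MulAction.mem_stabilizer_iff] at h1
    change Equiv.swap i o i = i at h1
    rw [Equiv.swap_apply_left] at h1
    exact ho h1
  obtain ⟨M2, hM2, hSM⟩ := (eq_top_or_exists_le_coatom _).resolve_left hstab
  have hTS : (T : Subgroup G) ≤ MulAction.stabilizer G i := fun t ht => hi ⟨t, ht⟩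
  obtain rfl := huniq M2 ⟨hM2, hTS.trans hSM⟩
  -- every permutation lies in the common maximal subgroup
  refine hM2.1 (eq_top_iff.2 fun g _ => ?_)
  by_cases hgi : g i = i
  · exact hSM hgi
  · have hsi : Equiv.swap i (g i) ∈ M2 := by
      by_cases hgo : g i = o
      · rw [hgo]; exact hJM hswap
      · have h1 : Equiv.swap o (g i) ∈ M2 := hSM (by
          rw [MulAction.mem_stabilizer_iff]
          exact Equiv.swap_apply_of_ne_of_ne ho.symm (Ne.symm hgi))
        have h2 := mul_mem (mul_mem h1 (hJM hswap)) (inv_mem h1)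
        rw [← Equiv.swap_apply_apply, Equiv.swap_apply_left,
          Equiv.swap_apply_of_ne_of_ne ho.symm (Ne.symm hgi)] at h2
        exact h2
    have h3 : Equiv.swap i (g i) * g ∈ M2 := hSM (by
      rw [MulAction.mem_stabilizer_iff]
      exact Equiv.swap_apply_right i (g i))
    have := mul_mem hsi h3
    rwa [Equiv.swap_mul_self_mul] at this

end Cfsg.Agent.S2963
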