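import Cfsg.Statements.S2968
import Cfsg.Agent.Components.Misc.Isolated

set_option autoImplicit false
open Cfsg

namespace Cfsg.Agent.S2968

/-- Let G be a finite group, p a prime, P a Sylow p-subgroup of G and x ∈ P an element of p-power order which is isolated in G (the only conjugate of x commuting with x is x itself). Then x lies in the centre of P, and the subgroup generated by x is both strongly closed and weakly closed in P with respect to G. -/
theorem result {G : Type*} [Group G] [Finite G] {p : ℕ} [Fact p.Prime] (P : Sylow p G) (x : G) (hxP : x ∈ (P : Subgroup G)) (hx : ∃ k : ℕ, orderOf x = p ^ k) (hiso : Cfsg.IsIsolated x) : x ∈ (P : Subgroup G) ⊓ Subgroup.centralizer ((P : Subgroup G) : Set G) ∧ Cfsg.IsStronglyClosed (Subgroup.zpowers x) (P : Subgroup G) ∧ Cfsg.IsWeaklyClosed (Subgroup.zpowers x) (P : Subgroup G) := by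
  have hwc := Cfsg.Lib.Isolated.weaklyClosed hiso P hxP
  refine ⟨⟨hxP, Subgroup.mem_centralizer_iff.2 fun y hy =>
    Cfsg.Lib.Isolated.commute_of_pgroup hiso P.isPGroup' hxP y hy⟩,
    ⟨Subgroup.zpowers_le.2 hxP, ?_⟩, Subgroup.zpowers_le.2 hxP, ?_⟩
  · intro y hy g hg
    rw [← mem_powers_iff_mem_zpowers] at hy
    obtain ⟨n, rfl⟩ := hy
    simp only at hg ⊢
    rw [Cfsg.Lib.Isolated.pow_weaklyClosed P x hxP hwc n g hg]
    exact pow_mem (Subgroup.mem_zpowers x) n
  · intro g hg
    have h1 : g * x * g⁻¹ = x := hwc g (hg ⟨x, Subgroup.mem_zpowers x, rfl⟩)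
    rw [MonoidHom.map_zpowers]
    simp [h1]

end Cfsg.Agent.S2968
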