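import Cfsg.Statements.S2969
import Cfsg.Agent.Components.Misc.Isolated

set_option autoImplicit false
open Cfsg

namespace Cfsg.Agent.S2969

/-- Let G be a finite group, p a prime and x ∈ G an element of p-power order which is isolated in G. If R is a p-subgroup of G containing x, then N_G(R) ≤ C_G(x); in particular x lies in the centre of R. Moreover, if x lies in a normal subgroup N of a subgroup H of G, then H = N·C_H(x). -/
theorem result {G : Type*} [Group G] [Finite G] {p : ℕ} [Fact p.Prime] (x : G) (hx : ∃ k : ℕ, orderOf x = p ^ k) (hiso : Cfsg.IsIsolated x) : (∀ R : Subgroup G, IsPGroup p ↥R → x ∈ R → Subgroup.normalizer (R : Set G) ≤ Subgroup.centralizer ({x} : Set G)) ∧ (∀ H N : Subgroup G, N ≤ H → H ≤ Subgroup.normalizer (N : Set G) → x ∈ N → N ⊔ (H ⊓ Subgroup.centralizer ({x} : Set G)) = H) := by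
  refine ⟨fun R hR hxR => Cfsg.Lib.Isolated.normalizer_le_centralizer hiso hR hxR, ?_⟩
  intro H N hNH hHN hxN
  refine le_antisymm (sup_le hNH inf_le_left) fun h hh => ?_
  obtain ⟨k, hk⟩ := hx
  have hp : IsPGroup p ↥(Subgroup.zpowers (⟨x, hxN⟩ : N)) := by
    refine IsPGroup.of_card (n := k) ?_
    rw [Nat.card_zpowers, Subgroup.orderOf_mk, hk]
  obtain ⟨P, hP⟩ := hp.exists_le_sylow
  have hx'N : h * x * h⁻¹ ∈ N := (Subgroup.mem_normalizer_iff.1 (hHN hh) x).1 hxN
  have hp' : IsPGroup p ↥(Subgroup.zpowers (⟨h * x * h⁻¹, hx'N⟩ : N)) := by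
    refine IsPGroup.of_card (n := k) ?_
    rw [Nat.card_zpowers, Subgroup.orderOf_mk, ← MulAut.conj_apply, MulEquiv.orderOf_eq, hk]
  obtain ⟨P', hP'⟩ := hp'.exists_le_sylow
  obtain ⟨n, hn⟩ := MulAction.exists_smul_eq N P' P
  have hmem : (n : G) * (h * x * h⁻¹) * (n : G)⁻¹ ∈ (P : Subgroup N).map N.subtype := by
    refine ⟨n * ⟨h * x * h⁻¹, hx'N⟩ * n⁻¹, ?_, rfl⟩
    rw [← hn]
    exact ⟨_, hP' (Subgroup.mem_zpowers _), rfl⟩
  have hcomm := Cfsg.Lib.Isolated.commute_of_pgroup hiso (P.isPGroup'.map N.subtype)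
    ⟨⟨x, hxN⟩, hP (Subgroup.mem_zpowers _), rfl⟩ _ hmem
  have heq : (n : G) * h * x * ((n : G) * h)⁻¹ = x := by
    refine hiso ((n : G) * h) ?_
    have h1 : (n : G) * h * x * ((n : G) * h)⁻¹ = (n : G) * (h * x * h⁻¹) * (n : G)⁻¹ := by
      simp [mul_assoc]
    rw [h1]
    exact hcomm.symm
  have hc : (n : G) * h ∈ H ⊓ Subgroup.centralizer ({x} : Set G) := by
    refine ⟨mul_mem (hNH n.2) hh, ?_⟩
    refine Subgroup.mem_centralizer_singleton_iff.2 ?_
    have h2 : (n : G) * h * x * ((n : G) * h)⁻¹ * ((n : G) * h) = x * ((n : G) * h) := by rw [heq]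
    rwa [inv_mul_cancel_right] at h2
  have := mul_mem (Subgroup.mem_sup_left (T := H ⊓ Subgroup.centralizer ({x} : Set G)) (inv_mem n.2))
    (Subgroup.mem_sup_right (S := N) hc)
  simpa using this

end Cfsg.Agent.S2969
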