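import Cfsg.Statements.S2971
import Cfsg.Agent.Components.Misc.SmallOrder
import Cfsg.Agent.Components.Cores

set_option autoImplicit false
open Cfsg

namespace Cfsg.Agent.S2971

/-- Let G be a finite group and p an odd prime such that G has p-rank at most 1 (no elementary abelian subgroup of order p²). If x ∈ G is an isolated element of order p, then x is central modulo the largest normal subgroup of G of order prime to p. -/
theorem result {G : Type*} [Group G] [Finite G] {p : ℕ} [Fact p.Prime] (hp : p ≠ 2) (hrk : Cfsg.PRankLE p 1 G) (x : G) (hx : orderOf x = p) (hiso : Cfsg.IsIsolated x) : Cfsg.InZStar p x := by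
  open Subgroup in
  open scoped commutatorElement in
  exact by
    obtain ⟨P, hP⟩ := (IsPGroup.of_card (p := p) (n := 1) (by rw [Nat.card_zpowers, hx, pow_one] : Nat.card (zpowers x) = p ^ 1)).exists_le_sylow
    have hxP : x ∈ (P : Subgroup G) := hP (mem_zpowers x)
    have hcomm : ∀ u v : G, orderOf u = p → v ^ p = 1 → Commute u v → v ∈ zpowers u := by
      intro u v hu hv huv
      set A := closure ({u, v} : Set G)
      have hab : ∀ a ∈ A, ∀ b ∈ A, a * b = b * a := by
        have h1 : A ≤ Subgroup.centralizer (A : Set G) := by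
          rw [closure_le, centralizer_closure]
          rintro a (rfl | rfl) <;> refine mem_centralizer_iff.2 ?_ <;> rintro b (rfl | rfl)
          · rfl
          · exact huv.eq.symm
          · exact huv.eq
          · rfl
        exact fun a ha b hb => mem_centralizer_iff.1 (h1 hb) a ha
      have hA : Nat.card A ≤ p ^ 1 := hrk A ⟨⟨fun a b => Subtype.ext (hab a a.2 b b.2)⟩⟩ fun a ha => by
        induction ha using closure_induction with
        | mem a ha =>
          rcases ha with rfl | rfl
          · rw [← hu, pow_orderOf_eq_one]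
          · exact hv
        | one => exact one_pow p
        | mul a b ha hb iha ihb => rw [Commute.mul_pow (hab a ha b hb), iha, ihb, one_mul]
        | inv a ha iha => rw [inv_pow, iha, inv_one]
      have h2 : zpowers u = A := eq_of_le_of_card_ge (zpowers_le.2 (subset_closure (Or.inl rfl))) (by
        rw [Nat.card_zpowers, hu]; simpa using hA)
      rw [h2]; exact subset_closure (Or.inr rfl)
    obtain ⟨z, -, hzc, hzo⟩ := Cfsg.Lib.PGroups.exists_mem_center_of_normal_ne_bot P.2 (N := (⊤ : Subgroup (P : Subgroup G)))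
      (fun h => by
        have := congrArg Subtype.val (mem_bot.1 (h.le (mem_top (⟨x, hxP⟩ : (P : Subgroup G)))))
        rw [show x = 1 from this, orderOf_one] at hx
        exact (Fact.out : p.Prime).one_lt.ne hx)
    have hzx : zpowers x = zpowers (z : G) := by
      refine eq_of_le_of_card_ge (zpowers_le.2 (hcomm z x (by rw [Subgroup.orderOf_coe, hzo]) (by rw [← hx, pow_orderOf_eq_one])
        (congrArg Subtype.val (mem_center_iff.1 hzc ⟨x, hxP⟩)).symm)) (le_of_eq ?_)
      rw [Nat.card_zpowers, Nat.card_zpowers, hx, Subgroup.orderOf_coe, hzo]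
    obtain ⟨N, hN, hc⟩ := Cfsg.Lib.Transfer.exists_complement_of_hasNormalPComplement
      (Cfsg.Lib.SmallOrder.complement_of_small P fun Q hQP hQ g hg _ => by
      have hQx : ∀ q ∈ Q, q ∈ zpowers x := fun q hq => by
        rw [hzx]
        refine hcomm z q (by rw [Subgroup.orderOf_coe, hzo]) ?_
          (congrArg Subtype.val (mem_center_iff.1 hzc ⟨q, hQP hq⟩)).symm
        rcases hQ q hq with h | h
        · exact h
        · exact absurd h.1 hp
      refine mem_centralizer_iff.2 fun q hq => ?_
      by_cases hq1 : q = 1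
      · simp [hq1]
      have hQeq : zpowers q = zpowers x := by
        refine eq_of_le_of_card_ge (zpowers_le.2 (hQx q hq)) ?_
        rw [Nat.card_zpowers, Nat.card_zpowers, hx]
        refine le_of_eq (orderOf_eq_prime ?_ hq1).symm
        obtain ⟨k, rfl⟩ := mem_zpowers_iff.1 (hQx q hq)
        rw [← zpow_natCast, ← zpow_mul, mul_comm, zpow_mul, zpow_natCast, ← hx, pow_orderOf_eq_one, one_zpow]
      have hxQ : x ∈ Q := zpowers_le.2 hq (hQeq.ge (mem_zpowers x))
      obtain ⟨k, hk⟩ := mem_zpowers_iff.1 (hQx _ ((mem_normalizer_iff.1 hg x).1 hxQ))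
      have hfix : g * x * g⁻¹ = x := hiso g (hk ▸ (Commute.refl x).zpow_right k)
      obtain ⟨j, rfl⟩ := mem_zpowers_iff.1 (hQx q hq)
      exact ((Commute.zpow_right (show Commute g x from mul_inv_eq_iff_eq_mul.1 hfix) j).eq).symm) P
    have hNcore : N ≤ Cfsg.pPrimeCore p G := Cfsg.Lib.Components.le_pPrimeCore (Cfsg.Lib.Transfer.complement_props hc).1
    intro g
    apply hNcore
    obtain ⟨⟨⟨n, hn⟩, ⟨v, hv⟩⟩, e⟩ := hc.2 g
    dsimp only at e
    subst e
    have hvx : v * x * v⁻¹ = x := by
      obtain ⟨k, hk⟩ := mem_zpowers_iff.1 (hzx.ge (mem_zpowers (z : G)))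
      have h1 : Commute v (z : G) := congrArg Subtype.val (mem_center_iff.1 hzc ⟨v, hv⟩)
      obtain ⟨j, hj⟩ := mem_zpowers_iff.1 (hzx.le (mem_zpowers x))
      have h2 : Commute v x := hj ▸ h1.zpow_right j
      rw [h2.eq, mul_inv_cancel_right]
    rw [show n * v * x * (n * v)⁻¹ * x⁻¹ = n * ((v * x * v⁻¹) * n⁻¹ * x⁻¹) by group, hvx]
    exact mul_mem hn (hN.conj_mem _ (inv_mem hn) x)

end Cfsg.Agent.S2971
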