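import Cfsg.Statements.S2976
import Cfsg.Agent.ThreePrime.Component

set_option autoImplicit false
open Cfsg

namespace Cfsg.Agent.S2976

/-- Let G be a finite group, K a component of G whose order is not divisible by 3, and y ∈ G an element of order 3 whose centralizer C_G(y) is solvable. Then K ⧸ Z(K) is isomorphic to the Suzuki group over the field with 8 elements and y normalizes K. If moreover O₂(G) = 1, then K is simple. -/
theorem result {G : Type*} [Group G] [Finite G] (K : Subgroup G) (hK : Cfsg.IsComponent K) (h3 : ¬ 3 ∣ Nat.card ↥K) (y : G) (hy : orderOf y = 3) (hsol : Group.IsSolvable ↥(Subgroup.centralizer ({y} : Set G))) : (∃ (F : Type) (_ : Field F) (_ : Fintype F), Fintype.card F = 8 ∧ Nonempty (↥K ⧸ Subgroup.center ↥K ≃* ↥(Cfsg.Lie.Sz F 4))) ∧ y ∈ Subgroup.normalizer (K : Set G) ∧ (Cfsg.pCore 2 G = ⊥ → IsSimpleGroup ↥K) := by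
  have hy3 : y ^ 3 = 1 := hy ▸ pow_orderOf_eq_one y
  obtain ⟨F, iF, iF', Q, ⟨e⟩⟩ := Cfsg.Lib.ThreePrime.component_sz_eight hK h3 hy3 hsol
  refine ⟨⟨F, iF, iF', by rw [Q.hF]; rfl, ⟨e.trans (Cfsg.Lib.Suz.lieEquiv Q)⟩⟩, ?_,
    Cfsg.Lib.ThreePrime.component_simple hK Q e⟩
  have hc := Cfsg.Lib.ThreePrime.component_normalized hK hy3 hsol
  refine Subgroup.mem_normalizer_iff.2 fun g => ⟨fun hg => ?_, fun hg => ?_⟩
  · exact hc.le (Subgroup.mem_map_of_mem _ hg)
  · obtain ⟨a, ha, hag⟩ := hc.ge hg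
    have : a = g := (MulAut.conj y).injective (hag.trans (MulAut.conj_apply y g).symm)
    exact this ▸ ha

end Cfsg.Agent.S2976
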