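import Cfsg.Statements.S2981
import Cfsg.Agent.PLocal.FFModule.Local
-- import your own Cfsg.Agent.* helpers here

set_option autoImplicit false
open Cfsg

namespace Cfsg.Agent.S2981

/-- The local C**(G,T)-Theorem for minimal parabolic groups. Let G be a finite p-minimal group (a Sylow p-subgroup T is not normal and lies in exactly one maximal subgroup) of characteristic p (C_G(O_p(G)) ≤ O_p(G)), and suppose G ≠ C**(G,T), the subgroup generated by C_G(Ω₁(Z(T))) and N_G(J(T)) (J(T) generated by the elementary abelian p-subgroups of T of largest order). Put V = Ω₁(Z(O_p(G))) and C = C_G(V). Then there are subgroups E₁, …, E_r of G containing C such that: J(G)TC = G and the E_i C/C form an internal direct product equal to J(G)C/C; any two of the E_i are conjugate by an element of T; V = C_V(⟨E_i⟩)·∏[V, E_i] with [V, E_i, E_j] = 1 for i ≠ j; for some n ≥ 1, each E_i/C is isomorphic to SL₂(pⁿ), or p = 2 and to the symmetric group of degree 2ⁿ +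 1; and E_i acts on [V, E_i]/C_{[V,E_i]}(E_i) as the natural two-dimensional SL₂(pⁿ)-module, respectively as the symmetric group of degree 2ⁿ+1 on its even-weight permutation module. -/
theorem result {G : Type*} [Group G] [Finite G] {p : ℕ} [Fact p.Prime] (hmin : Cfsg.IsPMinimal p G) (hG : Subgroup.centralizer (Cfsg.pCore p G : Set G) ≤ Cfsg.pCore p G) (T : Sylow p G) (hne : Cfsg.cStarStarOf p (T : Subgroup G) ≠ ⊤) : ∃ (r : ℕ) (E : Fin r → Subgroup G), (∀ i, Subgroup.centralizer (Cfsg.omegaOneCenter p (Cfsg.pCore p G) : Set G) ≤ E i) ∧ Cfsg.thompsonSubgroup p G ⊔ (T : Subgroup G) ⊔ Subgroup.centralizer (Cfsg.omegaOneCenter p (Cfsg.pCore p G) : Set G) = ⊤ ∧ (⨆ i, E i) = Cfsg.thompsonSubgroup p G ⊔ Subgroup.centralizer (Cfsg.omegaOneCenter p (Cfsg.pCore p G) : Set G) ∧ (∀ i j, i ≠ j → ⁅E i, E j⁆ ≤ Subgroup.centralizer (Cfsg.omegaOneCenter p (Cfsg.pCore p G) : Set G)) ∧ (∀ i, E i ⊓ (⨆ j ∈ {j | j ≠ i}, E j) ≤ Subgroup.centralizer (Cfsg.omegaOneCenter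 p (Cfsg.pCore p G) : Set G)) ∧ (∀ i j, ∃ t ∈ (T : Subgroup G), (E i).map (MulAut.conj t).toMonoidHom = E j) ∧ (Cfsg.omegaOneCenter p (Cfsg.pCore p G) ⊓ Subgroup.centralizer ((⨆ i, E i : Subgroup G) : Set G)) ⊔ (⨆ i, ⁅Cfsg.omegaOneCenter p (Cfsg.pCore p G), E i⁆) = Cfsg.omegaOneCenter p (Cfsg.pCore p G) ∧ (∀ i j, i ≠ j → ⁅⁅Cfsg.omegaOneCenter p (Cfsg.pCore p G), E i⁆, E j⁆ = ⊥) ∧ ∀ i, ∃ n : ℕ, 1 ≤ n ∧ ((∃ (F : Type) (_ : Field F) (_ : Fintype F), Fintype.card F = p ^ n ∧ (∃ _ : ((Subgroup.centralizer (Cfsg.omegaOneCenter p (Cfsg.pCore p G) : Set G)).subgroupOf (E i)).Normal, Nonempty (↥(E i) ⧸ (Subgroup.centralizer (Cfsg.omegaOneCenter p (Cfsg.pCore p G) : Set G)).subgroupOf (E i) ≃* Matrix.SpecialLinearGroup (Fin 2) F)) ∧ Cfsg.ActsAsSL2OnSection F ⊤ (E i) ⁅Cfsg.omegaOneCenter p (Cfsg.pCore p G), E i⁆ (⁅Cfsg.omegaOneCenter p (Cfsg.pCore p G), E i⁆ ⊓ Subgroup.centralizer ((E i : Subgroup G) : Set G))) ∨ (p = 2 ∧ (∃ _ : ((Subgroup.centralizer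 (Cfsg.omegaOneCenter p (Cfsg.pCore p G) : Set G)).subgroupOf (E i)).Normal, Nonempty (↥(E i) ⧸ (Subgroup.centralizer (Cfsg.omegaOneCenter p (Cfsg.pCore p G) : Set G)).subgroupOf (E i) ≃* Equiv.Perm (Fin (2 ^ n + 1)))) ∧ Cfsg.ActsAsOddPermModuleOnSection (2 ^ n + 1) ⊤ (E i) ⁅Cfsg.omegaOneCenter p (Cfsg.pCore p G), E i⁆ (⁅Cfsg.omegaOneCenter p (Cfsg.pCore p G), E i⁆ ⊓ Subgroup.centralizer ((E i : Subgroup G) : Set G)))) := by
  classical
  open Cfsg.Lib.FFSLTwo Cfsg.Lib.FFModule in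
  exact (by
  set Q := Cfsg.pCore p G with hQdef
  have hQn : Q.Normal := inferInstanceAs (Cfsg.pCore p G).Normal
  set V := Cfsg.omegaOneCenter p Q with hVdef
  have hVn : V.Normal := omegaOneCenter_normal hQn
  set C := Subgroup.centralizer (V : Set G) with hCdef
  haveI hCn : C.Normal := centralizer_normal hVn
  have hVQ : ∀ v ∈ V, v ∈ Q ∧ v ∈ Subgroup.centralizer (Q : Set G) := fun v hv => omegaOneCenter_mem hv
  have hQS : ∀ S : Sylow p G, Q ≤ (S : Subgroup G) := fun S => Cfsg.Lib.Coprime.pCore_le_sylow p S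
  have hVS : ∀ S : Sylow p G, V ≤ (S : Subgroup G) := fun S v hv => hQS S (hVQ v hv).1
  have hQC : Q ≤ C := fun x hx => Subgroup.mem_centralizer_iff.2 fun v hv =>
    (Subgroup.mem_centralizer_iff.1 (hVQ v hv).2 x hx).symm
  obtain ⟨-, M, ⟨hM, hTM⟩, -⟩ := hmin T
  have hstar : Cfsg.cStarStarOf p (T : Subgroup G) ≤ M := by
    refine le_coatom hmin hM hTM ?_ hne
    exact (Subgroup.le_normalizer.trans
      (Cfsg.Lib.Thompson.normalizer_le_normalizer_thompson (T : Subgroup G))).trans le_sup_right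
  have hCM : C ≤ M := by
    refine le_trans ?_ (le_sup_left.trans hstar)
    refine Subgroup.centralizer_le ?_
    intro z hz
    have h1 := omegaOneCenter_mem (X := (T : Subgroup G)) hz
    have hzp : z ^ p = 1 := (omegaOneCenter_elementary (p := p) (T : Subgroup G)).2 z hz
    have hzc : z ∈ Subgroup.centralizer (Q : Set G) := Subgroup.centralizer_le (hQS T) h1.2
    exact Subgroup.subset_closure ⟨⟨hG hzc, hzc⟩, hzp⟩
  obtain ⟨W, _, _, φ₀, e, hchar, heq⟩ := exists_module (p := p) (V := V) (G₀ := (⊤ : Subgroup G))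
    (omegaOneCenter_elementary Q) (Subgroup.normalizer_eq_top_iff.2 hVn ▸ le_rfl)
  have hactC : ∀ c ∈ C, φ₀ ⟨c, Subgroup.mem_top c⟩ = 1 := fun c hc =>
    DFunLike.ext (F := AddMonoid.End W) _ _ fun w => by
      obtain ⟨y, rfl⟩ := e.surjective w
      show φ₀ ⟨c, Subgroup.mem_top c⟩ (e (Additive.ofMul (Additive.toMul y))) = e y
      have hm : c * ((Additive.toMul y : V) : G) * c⁻¹ = ((Additive.toMul y : V) : G) := by
        rw [← Subgroup.mem_centralizer_iff.1 hc _ (Additive.toMul y).2, mul_inv_cancel_right]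
      rw [heq ⟨c, Subgroup.mem_top c⟩ (Additive.toMul y) (by
        show c * ((Additive.toMul y : V) : G) * c⁻¹ ∈ V
        rw [hm]; exact (Additive.toMul y).2)]
      exact congrArg e (congrArg Additive.ofMul (Subtype.ext hm))
  let φ : G ⧸ C →* AddMonoid.End W :=
    QuotientGroup.lift C
      { toFun := fun g => φ₀ ⟨g, Subgroup.mem_top g⟩
        map_one' := map_one φ₀
        map_mul' := fun a b => map_mul φ₀ ⟨a, Subgroup.mem_top a⟩ ⟨b, Subgroup.mem_top b⟩ }
      fun c hc => hactC c hc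
  let f : ↥(⊤ : Subgroup G) →* G ⧸ C := (QuotientGroup.mk' C).comp (⊤ : Subgroup G).subtype
  have hinj : Function.Injective φ := by
    refine (injective_iff_map_eq_one φ).2 fun x => ?_
    induction x using QuotientGroup.induction_on with
    | _ g =>
      intro hg
      refine (QuotientGroup.eq_one_iff g).2 (Subgroup.mem_centralizer_iff.2 fun v hv => ?_)
      have hm : g * v * g⁻¹ ∈ V := hVn.conj_mem v hv g
      have h1 := heq ⟨g, Subgroup.mem_top g⟩ ⟨v, hv⟩ hm
      have hg' : φ₀ ⟨g, Subgroup.mem_top g⟩ = 1 := hg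
      rw [hg'] at h1
      have h2 : v = g * v * g⁻¹ :=
        congrArg (fun z : Additive V => ((Additive.toMul z : V) : G)) (e.injective h1)
      conv_lhs => rw [h2]
      simp
  have br : Bridge φ f e :=
    ⟨hinj, fun x => by
      induction x using QuotientGroup.induction_on with
      | _ g => exact ⟨⟨g, Subgroup.mem_top g⟩, rfl⟩,
     Subgroup.normalizer_eq_top_iff.2 hVn ▸ le_rfl, fun g x h => heq g x h⟩
  have hπ : Function.Surjective (QuotientGroup.mk' C) := QuotientGroup.mk'_surjective C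
  -- the quotient has trivial core
  have hcore : Cfsg.pCore p (G ⧸ C) = ⊥ := by
    set K := (Cfsg.pCore p (G ⧸ C)).comap (QuotientGroup.mk' C) with hK
    haveI hKn : K.Normal := Subgroup.Normal.comap inferInstance _
    have hKT : K ≤ C ⊔ (T : Subgroup G) := by
      intro x hx
      have h1 := Cfsg.Lib.Coprime.pCore_le_sylow p (T.mapSurjective hπ) hx
      rw [Sylow.coe_mapSurjective] at h1
      obtain ⟨t, ht, hte⟩ := h1
      have h2 : x * t⁻¹ ∈ C := by
        rw [← QuotientGroup.eq_one_iff]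
        show QuotientGroup.mk' C (x * t⁻¹) = 1
        rw [map_mul, map_inv, hte, mul_inv_cancel]
      simpa using Subgroup.mul_mem_sup h2 ht
    have hKM : K ≤ M := hKT.trans (sup_le hCM hTM)
    obtain ⟨R, hR⟩ := card_sylow_inf T K
    have hfr := Sylow.normalizer_sup_eq_top R
    rw [hR] at hfr
    have hTN : (T : Subgroup G) ≤ Subgroup.normalizer (((T : Subgroup G) ⊓ K : Subgroup G) : Set G) := by
      intro t ht
      rw [Subgroup.mem_normalizer_iff]
      intro y
      refine ⟨fun hy => ⟨(T : Subgroup G).mul_mem ((T : Subgroup G).mul_mem ht hy.1) ((T : Subgroup G).inv_mem ht), hKn.conj_mem y hy.2 t⟩, fun hy => ⟨?_, ?_⟩⟩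
      · show y ∈ (T : Subgroup G)
        simpa [mul_assoc] using (T : Subgroup G).mul_mem ((T : Subgroup G).mul_mem ((T : Subgroup G).inv_mem ht) hy.1) ht
      · simpa [mul_assoc] using hKn.conj_mem _ hy.2 t⁻¹
    have hTKn : ((T : Subgroup G) ⊓ K).Normal := by
      rw [← Subgroup.normalizer_eq_top_iff]
      by_contra hne'
      exact hM.1 (top_le_iff.1 (hfr ▸ sup_le (le_coatom hmin hM hTM hTN hne') hKM))
    have hTKQ : (T : Subgroup G) ⊓ K ≤ Q := le_sSup ⟨hTKn, T.2.to_le inf_le_left⟩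
    refine (Subgroup.eq_bot_iff_forall _).2 fun x hx => ?_
    obtain ⟨y, rfl⟩ := hπ x
    refine (QuotientGroup.eq_one_iff y).2 ?_
    obtain ⟨c, hc, t, ht, hct⟩ := Subgroup.mem_sup_of_normal_left.1 (hKT (show y ∈ K from hx))
    have htK : t ∈ K := by
      have hcK : c ∈ K := by
        show QuotientGroup.mk' C c ∈ Cfsg.pCore p (G ⧸ C)
        rw [show QuotientGroup.mk' C c = 1 from (QuotientGroup.eq_one_iff c).2 hc]
        exact Subgroup.one_mem _
      have h3 := mul_mem (inv_mem hcK) (show y ∈ K from hx)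
      rwa [← hct, inv_mul_cancel_left] at h3
    rw [← hct]
    exact mul_mem hc (hQC (hTKQ ⟨ht, htK⟩))
  -- images of elementary subgroups of largest order
  have hoffS : ∀ (S : Sylow p G) (A : Subgroup G), Cfsg.Lib.Thompson.IsMaxElem p (S : Subgroup G) A →
      Cfsg.IsElementaryAbelian p ((A.subgroupOf ⊤).map f) ∧
        (fixA φ ((A.subgroupOf ⊤).map f)).index ≤ Nat.card ((A.subgroupOf ⊤).map f) ∧
        ((A.subgroupOf ⊤).map f = ⊥ → A ≤ C) := fun S A hA =>
    br.offender le_top (bestOffender_of_max (hVS S) (omegaOneCenter_elementary Q) hA)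
  obtain ⟨A, hA, hAC⟩ : ∃ A, Cfsg.Lib.Thompson.IsMaxElem p (T : Subgroup G) A ∧ ¬ A ≤ C := by
    by_contra hcon
    push Not at hcon
    obtain ⟨R, hR⟩ := card_sylow_inf T C
    have hfr := Sylow.normalizer_sup_eq_top R
    rw [hR] at hfr
    refine hM.1 (top_le_iff.1 (hfr ▸ sup_le (le_trans ?_ (le_sup_right.trans hstar)) hCM))
    intro k hk
    set J := Cfsg.thompsonSubgroupOf p (T : Subgroup G) with hJ
    have hle : Cfsg.Lib.FFSLTwo.cj k J ≤ J := by
      rw [hJ, Cfsg.Lib.Thompson.thompsonSubgroupOf_eq]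
      refine cj_sSup_le fun B hB => ⟨?_, el_cj k hB.2.1, fun D hD hDe => (hB.2.2 D hD hDe).trans (card_cj k B).ge⟩
      rintro _ ⟨b, hb, rfl⟩
      exact ((Subgroup.mem_normalizer_iff.1 hk b).1 ⟨hB.1 hb, hcon B hB hb⟩).1
    have he := Subgroup.eq_of_le_of_card_ge hle (card_cj k J).ge
    rw [Subgroup.mem_normalizer_iff]
    intro z
    refine ⟨fun hz => conj_eq_self he hz, fun hz => ?_⟩
    rw [← he, mem_cj] at hz
    simpa [mul_assoc] using hz
  obtain ⟨hel, hidx, hbot⟩ := hoffS T A hA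
  obtain ⟨q, r, E, hd, hin, hgen', -⟩ := exists_main hinj hchar
    (isPMinimal_quotient hmin hM hTM hCM) hcore (T.mapSurjective hπ) ⟨_, fun h => hAC (hbot h), hel, hidx⟩
  haveI : Nonempty (Fin r) := ⟨⟨0, hd.pos⟩⟩
  obtain ⟨hcomm, hinf, hgen, htrans, hsplit, hzero⟩ :=
    br.translate hd (T : Subgroup G) fun t ht => by
      rw [Sylow.coe_mapSurjective] at ht
      obtain ⟨g, hg, rfl⟩ := ht
      exact ⟨g, hg, Subgroup.mem_top g, rfl⟩
  have hCup : ∀ X : Subgroup (G ⧸ C), C ≤ up f X := fun X => br.centralizer_le_up le_top X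
  have hKJ : (⨆ i, up f (E i)) = Cfsg.thompsonSubgroup p G ⊔ C := by
    rw [← br.up_iSup]
    refine le_antisymm ?_ (sup_le ?_ (hCup _))
    · haveI := thompsonSubgroup_normal (G := G) (p := p)
      have hNn : ((Cfsg.thompsonSubgroup p G).map (QuotientGroup.mk' C)).Normal :=
        Subgroup.Normal.map inferInstance _ hπ
      have hle := hgen' _ (fun h => hAC (hbot h)) hel hidx _ hNn (by
        rintro _ ⟨a, ha, rfl⟩
        refine ⟨(a : G), Cfsg.Lib.ThompsonFactor.thompsonSubgroupOf_le_thompsonSubgroup T ?_, rfl⟩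
        rw [Cfsg.Lib.Thompson.thompsonSubgroupOf_eq]
        exact le_sSup (a := A) hA ha)
      intro x hx
      obtain ⟨hx₀, hxE⟩ := mem_up.1 hx
      obtain ⟨y, hy, hye⟩ := hle hxE
      have h2 : y⁻¹ * x ∈ C := by
        rw [← QuotientGroup.eq_one_iff]
        show QuotientGroup.mk' C (y⁻¹ * x) = 1
        rw [map_mul, map_inv, hye]
        exact inv_mul_cancel _
      simpa using Subgroup.mul_mem_sup hy h2
    · refine Cfsg.Lib.ThompsonFactor.thompsonSubgroup_le fun S => ?_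
      rw [Cfsg.Lib.Thompson.thompsonSubgroupOf_eq]
      refine sSup_le fun B hB b hb => mem_up.2 ⟨Subgroup.mem_top b, ?_⟩
      obtain ⟨h1, h2, -⟩ := hoffS S B hB
      exact hin _ h1 h2 ⟨⟨b, Subgroup.mem_top b⟩, hb, rfl⟩
  refine ⟨r, fun i => up f (E i), fun i => hCup _, ?_, hKJ, hcomm, hinf, htrans, hsplit, hzero, fun i => ?_⟩
  · refine top_le_iff.1 (hgen.trans (sup_le ?_ ?_))
    · rw [hKJ]
      exact sup_le (le_sup_left.trans le_sup_left) le_sup_right
    · exact le_sup_right.trans le_sup_left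
  · have hker : (down f (E i)).ker = C.subgroupOf (up f (E i)) := by
      ext a
      rw [MonoidHom.mem_ker, Subgroup.mem_subgroupOf, ← Subtype.coe_inj]
      exact br.kernel (up_le (E i) a.2)
    haveI hn : (C.subgroupOf (up f (E i))).Normal := hker ▸ inferInstance
    have hiso : ↥(up f (E i)) ⧸ C.subgroupOf (up f (E i)) ≃* ↥(E i) :=
      (QuotientGroup.quotientMulEquivOfEq hker.symm).trans
        (QuotientGroup.quotientKerEquivOfSurjective (down f (E i)) (br.down_surj (E i)))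
    obtain ⟨n, hn1, ⟨-, -, h⟩ | ⟨-, hp, h⟩⟩ := hd.type i
    · obtain ⟨F, iF, iFF, ρ, hc, hact⟩ := br.acts_sl h
      exact ⟨n, hn1, Or.inl ⟨F, iF, iFF, hc, ⟨hn, ⟨hiso.trans ρ⟩⟩, hact⟩⟩
    · obtain ⟨ρ, hact⟩ := br.acts_perm h
      exact ⟨n, hn1, Or.inr ⟨hp, ⟨hn, ⟨hiso.trans ρ⟩⟩, hact⟩⟩)

end Cfsg.Agent.S2981
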