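import Cfsg.Statements.S2988
import Cfsg.Agent.PushUp.Char.Large

set_option autoImplicit false
universe u
open scoped Pointwise
open Cfsg

namespace Cfsg.Agent.S2988

/-- Let p be a prime and S a nontrivial finite p-group. Write J(S) for the subgroup generated by the abelian subgroups of S of largest order (the large abelian subgroups) and J̃(S) = C_S(Z(J(S))). Unless S satisfies all of the following conditions — S is non-abelian; J(S) = S; Z(S) and Φ(S) are elementary abelian; Φ(S) ≤ Z(S) if p = 2, Φ(S) ≤ Z₂(S) if p = 3, and Φ(S) ≤ Z(S) with S of exponent p if p > 3; some large abelian subgroup is elementary abelian; and for all large abelian subgroups A, B and all subgroups Q of S one has |A|² = |S|·|Z(S)| ≥ |Q|·|Z(Q)| and ⟨A, B⟩ = AB = C_S(A ∩ B) — there exist nontrivial characteristic subgroups S₁ ≤ Z(S) and S₂ ≤ J̃(S) of S, S₂ characteristic in J̃(S), such that whenever S is embedded as a Sylow p-subgroup of a finite group G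 in the basic pushing-up situation, the image of S₁ or of S₂ is normal in G. -/
theorem result {p : ℕ} [Fact p.Prime] (S : Type u) [Group S] [Finite S] [Nontrivial S] (hS : IsPGroup p S) (hexc : ¬ (¬ IsMulCommutative S ∧ Cfsg.thompsonSubgroupA S = ⊤ ∧ Cfsg.IsElementaryAbelian p (Subgroup.center S) ∧ Cfsg.IsElementaryAbelian p (frattini S) ∧ (p = 2 → frattini S ≤ Subgroup.center S) ∧ (p = 3 → frattini S ≤ Subgroup.upperCentralSeries S 2) ∧ (3 < p → frattini S ≤ Subgroup.center S ∧ Monoid.exponent S = p) ∧ (∃ A ∈ Cfsg.maxAbelianSubgroups S, Cfsg.IsElementaryAbelian p A) ∧ (∀ A ∈ Cfsg.maxAbelianSubgroups S, ∀ B ∈ Cfsg.maxAbelianSubgroups S, ∀ Q : Subgroup S, Nat.card ↥A ^ 2 = Nat.card S * Nat.card ↥(Subgroup.center S) ∧ Nat.card ↥Q * Nat.card ↥(Subgroup.center ↥Q) ≤ Nat.card S * Nat.card ↥(Subgroup.center S) ∧ ((A ⊔ B : Subgroup S) : Set S) = (A : Set S) * (B : Set S) ∧ A ⊔ B = Subgroup.centralizer ((A ⊓ B : Subgroup S) : Set S)))) :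 ∃ S₁ S₂ : Subgroup S, S₁ ≠ ⊥ ∧ S₂ ≠ ⊥ ∧ S₁.Characteristic ∧ S₂.Characteristic ∧ S₁ ≤ Subgroup.center S ∧ S₂ ≤ Subgroup.centralizer ((Cfsg.thompsonSubgroupA S ⊓ Subgroup.centralizer (Cfsg.thompsonSubgroupA S : Set S) : Subgroup S) : Set S) ∧ (S₂.subgroupOf (Subgroup.centralizer ((Cfsg.thompsonSubgroupA S ⊓ Subgroup.centralizer (Cfsg.thompsonSubgroupA S : Set S) : Subgroup S) : Set S))).Characteristic ∧ ∀ (G : Type u) [Group G] [Finite G] (P : Subgroup G) (e : S ≃* ↥P), Cfsg.IsPushingUpSituation p P → ((S₁).map ((P.subtype).comp (e : S ≃* ↥P).toMonoidHom)).Normal ∨ ((S₂).map ((P.subtype).comp (e : S ≃* ↥P).toMonoidHom)).Normal := by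
  have hgood : ∀ {S₁ S₂ : Subgroup S}, Cfsg.Lib.PushUp.Char.Good2 p S₁ S₂ →
      ∀ (G : Type u) [Group G] [Finite G] (P : Subgroup G) (e : S ≃* ↥P), Cfsg.IsPushingUpSituation p P →
        ((S₁).map ((P.subtype).comp (e : S ≃* ↥P).toMonoidHom)).Normal ∨
          ((S₂).map ((P.subtype).comp (e : S ≃* ↥P).toMonoidHom)).Normal := by
    intro S₁ S₂ h G _ _ P e hE
    obtain ⟨-, hP, hc, hM, K, hKn, F, iF, iFF, n, hF, hiso⟩ := hE
    have hn : 1 ≤ n := by
      refine Nat.one_le_iff_ne_zero.2 fun h0 => ?_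
      have h1 := Fintype.one_lt_card (α := F)
      rw [hF, h0, pow_zero] at h1
      exact lt_irrefl _ h1
    have hr : ((P.subtype).comp (e : S ≃* ↥P).toMonoidHom).range = P := by
      rw [MonoidHom.range_comp, MonoidHom.range_eq_top.2 e.surjective, ← MonoidHom.range_eq_map,
        Subgroup.range_subtype]
    exact h G ⟨(P.subtype).comp (e : S ≃* ↥P).toMonoidHom, P.subtype_injective.comp e.injective, hr.symm ▸ hP, hc,
      hr.symm ▸ hM, K, hKn, F, iF, iFF, n, hn, hF, hiso⟩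
  rw [Cfsg.Lib.PushUp.Char.thompson_top]
  rcases Cfsg.Lib.PushUp.Char.exists_strong hS with
    ⟨S₁, S₂, h1, h2, h3, h4, h5, h6, h7, -, h8⟩ | ⟨hab, hJ, hmcl, hJS, hZ, hPhi, h2', h3', h4', hAB⟩
  · exact ⟨S₁, S₂, h1, h2, h3, h4, h5, h6, h7, hgood h8⟩
  · obtain ⟨h1, h2, h3⟩ := Cfsg.Lib.PushUp.Char.exists_weak hS hJ hmcl fun hel =>
      hexc ⟨hab, hJS, hZ, hPhi, h2', h3', h4', hel, hAB⟩
    haveI := h2
    exact ⟨Subgroup.center S, Cfsg.frattiniOfMinimalCLJoin p S, Cfsg.Lib.PushUp.Char.center_ne_bot hS, h1,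
      inferInstance, h2, le_rfl, hJ.ge.trans' le_top, Cfsg.Lib.PushUp.Char.characteristic_top_subgroupOf hJ,
      hgood h3⟩

end Cfsg.Agent.S2988
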