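import Cfsg.Statements.S2989
import Cfsg.Agent.PushUp.CentrallyLarge
-- import your own Cfsg.Agent.* helpers here

set_option autoImplicit false
open Cfsg

namespace Cfsg.Agent.S2989

/-- Let G be a finite group and S a Sylow p-subgroup of G in the basic pushing-up situation (G ≠ 1, C_G(O_p(G)) ≤ O_p(G), S lies in a unique maximal subgroup of G, and some quotient of G is isomorphic to PSL₂ over a field of order a power of p), and suppose that S centralizes Z(J(S)), where J(S) is generated by the abelian subgroups of S of largest order (that is, J̃(S) = C_S(Z(J(S))) = S). Call a subgroup R of S centrally large if |R|·|Z(R)| is as large as possible among subgroups of S, and let S_Φ be the subgroup generated by the Frattini subgroups Φ(Q) of those minimal centrally large subgroups Q of S whose Ω₁(Z(Q)) has the largest order among minimal centrally large subgroups. Then Z(S) or S_Φ is normal in G; and if S_Φ = 1, the minimal centrally large subgroups of S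 are exactly the abelian subgroups of S of largest order, and at least one of them is elementary abelian. -/
theorem result {G : Type*} [Group G] [Finite G] {p : ℕ} [Fact p.Prime] (S : Subgroup G) (hE : Cfsg.IsPushingUpSituation p S) (hJ : S ≤ Subgroup.centralizer (Cfsg.centerThompsonAOf S : Set G)) : ((S ⊓ Subgroup.centralizer (S : Set G)).Normal ∨ ((Cfsg.frattiniOfMinimalCLJoin p ↥S).map S.subtype).Normal) ∧ (Cfsg.frattiniOfMinimalCLJoin p ↥S = ⊥ → (∀ Q : Subgroup ↥S, Cfsg.IsMinimalCentrallyLarge Q ↔ Q ∈ Cfsg.maxAbelianSubgroups ↥S) ∧ ∃ A ∈ Cfsg.maxAbelianSubgroups ↥S, Cfsg.IsElementaryAbelian p A) := by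
  obtain ⟨-, ⟨P, rfl⟩, hc, hM, K, hKn, F, iF, iFF, n, hF, hiso⟩ := hE
  haveI := hKn
  have hn : 1 ≤ n := by
    refine Nat.one_le_iff_ne_zero.2 fun h0 => ?_
    have h1 := Fintype.one_lt_card (α := F)
    rw [hF, h0, pow_zero] at h1
    exact lt_irrefl _ h1
  obtain ⟨c, rfl⟩ := Cfsg.Lib.PushUp.exists_ctx P hc hM K n hn hF hiso
  refine ⟨Cfsg.Lib.PushUp.Ctx.frattini_or hJ, fun h0 => ?_⟩
  obtain ⟨Q₀, hQ₀⟩ := Cfsg.Lib.CD.exists_cl (P := ↥(c.S : Subgroup G))
  obtain ⟨R, -, hR⟩ := Cfsg.Lib.CD.exists_mcl hQ₀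
  have hne : {k : ℕ | ∃ Q : Subgroup ↥(c.S : Subgroup G), Cfsg.IsMinimalCentrallyLarge Q ∧
      Nat.card ↥(Cfsg.omegaOneCenter p Q) = k}.Nonempty := ⟨_, R, hR, rfl⟩
  obtain ⟨Q, hQ, hQm⟩ := Nat.sSup_mem hne
    ((Set.finite_range fun Q : Subgroup ↥(c.S : Subgroup G) => Nat.card ↥(Cfsg.omegaOneCenter p Q)).subset
      (by rintro k ⟨Q, -, rfl⟩; exact ⟨Q, rfl⟩)).bddAbove
  have hQb : frattini ↥Q = ⊥ := (Subgroup.map_eq_bot_iff_of_injective _ Q.subtype_injective).1
    (le_bot_iff.1 (h0 ▸ le_iSup (fun Q : {Q : Subgroup ↥(c.S : Subgroup G) // Cfsg.IsMinimalCentrallyLarge Q ∧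
      Nat.card ↥(Cfsg.omegaOneCenter p Q) = Cfsg.maxOmegaCenterOfMinimalCL p ↥(c.S : Subgroup G)} =>
        (frattini ↥(Q : Subgroup ↥(c.S : Subgroup G))).map (Q : Subgroup ↥(c.S : Subgroup G)).subtype)
      ⟨Q, hQ, hQm⟩))
  have hQp := c.S.2.to_subgroup Q
  have hab : IsMulCommutative ↥Q := ⟨⟨fun a b => by
    have h1 := Cfsg.Lib.PGroups.commutator_le_frattini hQp
      (Subgroup.commutator_mem_commutator (Subgroup.mem_top a) (Subgroup.mem_top b))
    rw [hQb, Subgroup.mem_bot] at h1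
    exact commutatorElement_eq_one_iff_mul_comm.1 h1⟩⟩
  refine ⟨fun X => Cfsg.Lib.CD.mcl_abelian hQ hab X, Q, (Cfsg.Lib.CD.mcl_abelian hQ hab Q).1 hQ, hab,
    fun x hx => ?_⟩
  have h2 := Cfsg.Lib.PGroups.pow_mem_frattini hQp ⟨x, hx⟩
  rw [hQb, Subgroup.mem_bot] at h2
  exact congrArg Subtype.val h2

end Cfsg.Agent.S2989
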