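import Cfsg.Statements.S2990
import Cfsg.Agent.PushUp.CentrallyLarge
-- import your own Cfsg.Agent.* helpers here

set_option autoImplicit false
open Cfsg

namespace Cfsg.Agent.S2990

/-- Let G be a finite group and S a Sylow p-subgroup of G in the basic pushing-up situation (G ≠ 1, C_G(O_p(G)) ≤ O_p(G), S lies in a unique maximal subgroup of G, and some quotient of G is isomorphic to PSL₂ over a field of order a power of p), and suppose that S centralizes Z(J(S)), where J(S) is generated by the abelian subgroups of S of largest order (that is, J̃(S) = C_S(Z(J(S))) = S). Call a subgroup R of S centrally large if |R|·|Z(R)| is as large as possible among subgroups of S, let Q be a minimal centrally large subgroup of S and let S_MCL be the subgroup generated by all minimal centrally large subgroups of S. Then the derived subgroup [Q, Q] is characteristic in S; Z(S) ∩ [Q, Q] or S_MCL is normal in G; and if [Q, Q] = 1, the minimal centrally large subgroups of S are exactly the abelian subgroups of S of largest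 order. -/
theorem result {G : Type*} [Group G] [Finite G] {p : ℕ} [Fact p.Prime] (S : Subgroup G) (hE : Cfsg.IsPushingUpSituation p S) (hJ : S ≤ Subgroup.centralizer (Cfsg.centerThompsonAOf S : Set G)) (Q : Subgroup ↥S) (hQ : Cfsg.IsMinimalCentrallyLarge Q) : (⁅Q, Q⁆).Characteristic ∧ (((S ⊓ Subgroup.centralizer (S : Set G)) ⊓ (⁅Q, Q⁆).map S.subtype).Normal ∨ ((Cfsg.minimalCentrallyLargeJoin ↥S).map S.subtype).Normal) ∧ (⁅Q, Q⁆ = ⊥ → ∀ R : Subgroup ↥S, Cfsg.IsMinimalCentrallyLarge R ↔ R ∈ Cfsg.maxAbelianSubgroups ↥S) := by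
  obtain ⟨-, ⟨P, rfl⟩, hc, hM, K, hKn, F, iF, iFF, n, hF, hiso⟩ := hE
  haveI := hKn
  have hn : 1 ≤ n := by
    refine Nat.one_le_iff_ne_zero.2 fun h0 => ?_
    have h1 := Fintype.one_lt_card (α := F)
    rw [hF, h0, pow_zero] at h1
    exact lt_irrefl _ h1
  obtain ⟨c, rfl⟩ := Cfsg.Lib.PushUp.exists_ctx P hc hM K n hn hF hiso
  refine ⟨?_, Cfsg.Lib.PushUp.Ctx.derived_or hJ Q hQ, fun h0 R => ?_⟩
  · rw [Subgroup.characteristic_iff_map_eq]
    intro φ
    rw [Subgroup.map_commutator]
    exact ((Cfsg.Lib.CD.mcl_card hQ (Cfsg.Lib.CD.mcl_map φ hQ)).1).symm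
  · exact Cfsg.Lib.CD.mcl_abelian hQ
      ⟨⟨fun a b => Subtype.ext (commutatorElement_eq_one_iff_mul_comm.1
        (Subgroup.mem_bot.1 (h0 ▸ Subgroup.commutator_mem_commutator a.2 b.2)))⟩⟩ R

end Cfsg.Agent.S2990
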