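import Cfsg.Statements.S2999
import Cfsg.Statements.S2999
import Cfsg.Agent.PLocal.FFSLTwo.Field
import Cfsg.Agent.Thompson.ElemToolkit

set_option autoImplicit false
open Cfsg

namespace Cfsg.Agent.S2999

set_option maxHeartbeats 1000000 in
/-- Let p be a prime and let P and V be subgroups of a finite group with V elementary abelian, P normalizing V and acting faithfully on it (P ∩ C(V) = 1). Suppose P is p-minimal (a Sylow p-subgroup T of P is not normal and lies in a unique maximal subgroup M of P) and A ≤ T is an elementary abelian subgroup such that: |V/C_V(A)| ≤ |A| while |A₀|·|C_V(A₀)| < |A|·|C_V(A)| for every nontrivial proper subgroup A₀ of A; [C_V(T), P] ≠ 1; and P = ⟨A, xAx⁻¹⟩ for every x ∈ P outside M. Then, with q = |A|, there is a field F with q elements such that P ≅ SL₂(F), C_V(A) = [V, A]·C_V(P), and P acts on V/C_V(P) as SL₂(F) on its natural two-dimensional module. -/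
theorem result {G : Type*} [Group G] [Finite G] {p : ℕ} [Fact p.Prime] (V P : Subgroup G) (hV : Cfsg.IsElementaryAbelian p V) (hPV : P ≤ Subgroup.normalizer (V : Set G)) (hfaith : P ⊓ Subgroup.centralizer (V : Set G) = ⊥) (hmin : Cfsg.IsPMinimal p ↥P) (T : Sylow p ↥P) (M : Subgroup ↥P) (hM : IsCoatom M) (hTM : (T : Subgroup ↥P) ≤ M) (A : Subgroup G) (hAT : A ≤ ((T : Subgroup ↥P).map P.subtype)) (hAel : Cfsg.IsElementaryAbelian p A) (hi : Nat.card ↥V ≤ Nat.card ↥A * Nat.card ↥(V ⊓ Subgroup.centralizer ((A : Subgroup G) : Set G)) ∧ ∀ A₀ : Subgroup G, A₀ ≤ A → A₀ ≠ ⊥ → A₀ ≠ A → Nat.card ↥A₀ * Nat.card ↥(V ⊓ Subgroup.centralizer ((A₀ : Subgroup G) : Set G)) < Nat.card ↥A * Nat.card ↥(V ⊓ Subgroup.centralizer ((A : Subgroup G) : Set G))) (hii : ⁅(V ⊓ Subgroup.centralizer ((((T : Subgroup ↥P).map P.subtype) : Subgroup G) : Set G)), P⁆ ≠ ⊥) (hiii : ∀ x : ↥P, x ∉ M → A ⊔ A.map (MulAut.conj (x : G)).toMonoidHom = P) : ∃ (F : Type) (_ : Field F) (_ : Fintype F), Fintype.card F = Nat.card ↥A ∧ Nonempty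 (↥P ≃* Matrix.SpecialLinearGroup (Fin 2) F) ∧ (V ⊓ Subgroup.centralizer ((A : Subgroup G) : Set G)) = ⁅V, A⁆ ⊔ (V ⊓ Subgroup.centralizer ((P : Subgroup G) : Set G)) ∧ Cfsg.ActsAsSL2OnSection F ⊤ P V (V ⊓ Subgroup.centralizer ((P : Subgroup G) : Set G)) := by
  classical
  open Cfsg.Lib.FFSLTwo in
  open scoped commutatorElement in
  exact (by
  have hconjV : ∀ g ∈ P, ∀ v ∈ V, g * v * g⁻¹ ∈ V := fun g hg v hv =>
    (Subgroup.mem_normalizer_iff.1 (hPV hg) v).1 hv
  have hVc : IsMulCommutative V := hV.1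
  letI : CommGroup V := { (inferInstance : Group V) with mul_comm := fun a b => hVc.is_comm.comm a b }
  let φ : ↥P →* AddMonoid.End (Additive V) :=
    { toFun := fun g => AddMonoidHom.mk'
        (fun v => Additive.ofMul ⟨(g : G) * (Additive.toMul v : V) * (g : G)⁻¹,
          hconjV _ g.2 _ (Additive.toMul v).2⟩) (fun v w => by
            apply Additive.toMul.injective
            apply Subtype.ext
            show (g : G) * ((Additive.toMul v : V) * (Additive.toMul w : V) : G) * (g : G)⁻¹ =
              (g : G) * (Additive.toMul v : V) * (g : G)⁻¹ *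
                ((g : G) * (Additive.toMul w : V) * (g : G)⁻¹)
            group)
      map_one' := by
        refine DFunLike.ext (F := AddMonoid.End (Additive V)) _ _ fun (v : Additive V) => ?_
        apply Additive.toMul.injective
        apply Subtype.ext
        show (1 : G) * (Additive.toMul v : V) * (1 : G)⁻¹ = (Additive.toMul v : V)
        group
      map_mul' := fun g h => by
        refine DFunLike.ext (F := AddMonoid.End (Additive V)) _ _ fun (v : Additive V) => ?_
        apply Additive.toMul.injective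
        apply Subtype.ext
        show ((g : G) * h) * (Additive.toMul v : V) * ((g : G) * h)⁻¹ =
          (g : G) * ((h : G) * (Additive.toMul v : V) * (h : G)⁻¹) * (g : G)⁻¹
        group }
  have hφv : ∀ (g : ↥P) (v : Additive V),
      ((Additive.toMul (φ g v) : V) : G) = (g : G) * (Additive.toMul v : V) * (g : G)⁻¹ :=
    fun g v => rfl
  have hfix : ∀ (g : ↥P) (v : Additive V),
      φ g v = v ↔ (g : G) * (Additive.toMul v : V) = (Additive.toMul v : V) * (g : G) := by
    intro g v
    rw [← Additive.toMul.injective.eq_iff, ← Subtype.coe_inj, hφv, mul_inv_eq_iff_eq_mul]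
  have hmemfix : ∀ (B : Subgroup ↥P) (v : Additive V), v ∈ fixA φ B ↔
      ((Additive.toMul v : V) : G) ∈ Subgroup.centralizer ((B.map P.subtype : Subgroup G) : Set G) := by
    intro B v
    rw [mem_fixA_iff, Subgroup.mem_centralizer_iff]
    constructor
    · rintro h _ ⟨b, hb, rfl⟩; exact (hfix b v).1 (h b hb)
    · intro h b hb; exact (hfix b v).2 (h _ ⟨b, hb, rfl⟩)
  have hcardfix : ∀ B : Subgroup ↥P, Nat.card (fixA φ B) =
      Nat.card ↥(V ⊓ Subgroup.centralizer ((B.map P.subtype : Subgroup G) : Set G)) := fun B =>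
    Nat.card_congr
      { toFun := fun v => ⟨((Additive.toMul v.1 : V) : G), (Additive.toMul v.1).2, (hmemfix B v.1).1 v.2⟩
        invFun := fun v => ⟨Additive.ofMul ⟨v.1, v.2.1⟩, (hmemfix B _).2 v.2.2⟩
        left_inv := fun v => Subtype.ext (Additive.toMul.injective (Subtype.ext rfl))
        right_inv := fun v => Subtype.ext rfl }
  have hcard : ∀ B : Subgroup ↥P, Nat.card B = Nat.card (B.map P.subtype) := fun B =>
    Nat.card_congr (B.equivMapOfInjective P.subtype P.subtype_injective).toEquiv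
  have hAP : A ≤ P := hAT.trans (Subgroup.map_subtype_le _)
  have hAmap : (A.subgroupOf P).map P.subtype = A := Subgroup.map_subgroupOf_eq_of_le hAP
  have hA'T : A.subgroupOf P ≤ (T : Subgroup ↥P) := by
    intro a ha
    obtain ⟨t, ht, hta⟩ := hAT ha
    exact (Subtype.ext hta : t = a) ▸ ht
  have hPne : A ≠ ⊥ := by
    intro hA
    obtain ⟨x, hx⟩ : ∃ x : ↥P, x ∉ M := by
      by_contra hc; push Not at hc; exact hM.1 (eq_top_iff.2 fun g _ => hc g)
    have h1 := hiii x hx
    rw [hA, Subgroup.map_bot, sup_bot_eq] at h1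
    exact hx (by
      rw [show x = 1 from Subtype.ext (Subgroup.mem_bot.1 (h1 ▸ x.2 : (x : G) ∈ (⊥ : Subgroup G)))]
      exact M.one_mem)
  -- quadratic action
  have hbest : Cfsg.IsBestOffenderOn p V A := by
    refine ⟨fun B hB => ?_, ?_, fun a ha => by rw [hAel.2 a ha]; exact Subgroup.one_mem _⟩
    · by_cases h0 : B = ⊥
      · subst h0
        refine le_trans ?_ hi.1
        rw [Subgroup.card_bot, one_mul]
        exact Nat.card_le_card_of_injective _ (Subgroup.inclusion_injective inf_le_left)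
      by_cases h1 : B = A
      · rw [h1]
      · exact (hi.2 B hB h0 h1).le
    · rw [Subgroup.commutator_le]
      intro a ha c hc
      rw [commutatorElement_eq_one_iff_mul_comm.2 (Cfsg.Lib.ElemToolkit.comm_of hAel.1 ha hc)]
      exact Subgroup.one_mem _
  obtain ⟨hr1, hr2⟩ := Cfsg.Lib.ElemToolkit.replacement hV (hAP.trans hPV)
    (Cfsg.Lib.ElemToolkit.opt_of_best hbest) (S := (V : Set G)) le_rfl
  have hX : Cfsg.Lib.ElemToolkit.commSpan (V : Set G) A = ⁅V, A⁆ := by
    rw [Subgroup.commutator_def]; rfl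
  rw [hX] at hr1 hr2
  have hA0 : A ⊓ Subgroup.centralizer ((⁅V, A⁆ : Subgroup G) : Set G) = A := by
    by_contra hne
    by_cases h0 : A ⊓ Subgroup.centralizer ((⁅V, A⁆ : Subgroup G) : Set G) = ⊥
    · rw [h0] at hr2
      have hgen : V ≤ ⁅V, A⁆ ⊔ (V ⊓ Subgroup.centralizer (A : Set G)) := hr2 ▸ le_inf le_rfl (by
        intro v _; simp [Subgroup.mem_centralizer_iff])
      have h1 := Cfsg.Lib.ElemToolkit.comm_lt Fact.out hV (hAP.trans hPV) hbest hgen
      apply hPne
      refine le_bot_iff.1 (hfaith ▸ le_inf hAP ?_)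
      rw [Subgroup.le_centralizer_iff]
      exact Subgroup.commutator_eq_bot_iff_le_centralizer.1 h1
    · exact absurd hr1 (ne_of_lt (hi.2 _ inf_le_left h0 hne))
  have hquadG : ∀ a ∈ A, ∀ w ∈ ⁅V, A⁆, a * w = w * a := fun a ha w hw =>
    (Subgroup.mem_centralizer_iff.1 (hA0.ge ha).2 w hw).symm
  have hddG : ∀ (b : ↥P) (v : Additive V),
      ((Additive.toMul (dd φ b v) : V) : G) = ⁅(b : G), ((Additive.toMul v : V) : G)⁆ := by
    intro b v
    rw [dd_apply, toMul_sub, div_eq_mul_inv, commutatorElement_def]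
    rfl
  obtain ⟨v₁, hv₁, hv₁'⟩ : ∃ v ∈ V ⊓ Subgroup.centralizer
      ((((T : Subgroup ↥P).map P.subtype) : Subgroup G) : Set G), v ∉ Subgroup.centralizer (P : Set G) := by
    by_contra hc
    push Not at hc
    exact hii (Subgroup.commutator_eq_bot_iff_le_centralizer.2 hc)
  have hH : Hyp p φ T (A.subgroupOf P) M :=
    { inj := by
        intro g k hgk
        have hmem : ((k⁻¹ * g : ↥P) : G) ∈ P ⊓ Subgroup.centralizer (V : Set G) := by
          refine ⟨(k⁻¹ * g).2, Subgroup.mem_centralizer_iff.2 fun v hv => ?_⟩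
          refine ((hfix _ (Additive.ofMul (⟨v, hv⟩ : V))).1 ?_).symm
          rw [phi_mul, hgk, phi_inv_cancel]
        rw [hfaith, Subgroup.mem_bot] at hmem
        exact (inv_mul_eq_one.1 (Subtype.ext hmem : k⁻¹ * g = 1)).symm
      char := fun v => Additive.toMul.injective (Subtype.ext (hV.2 _ (Additive.toMul v).2))
      coatom := hM
      hTM := hTM
      uniq := fun K hTK hK => by
        obtain ⟨M', hM', hKM'⟩ := (eq_top_or_exists_le_coatom K).resolve_left hK
        obtain ⟨M₀, -, hM₀⟩ := (hmin T).2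
        rw [hM₀ M ⟨hM, hTM⟩, ← hM₀ M' ⟨hM', hTK.trans hKM'⟩]
        exact hKM'
      hAT := hA'T
      ne_bot := fun h0 => hPne (by rw [← hAmap, h0, Subgroup.map_bot])
      off := by
        rw [hcard, hcardfix, hAmap]
        exact le_trans (le_of_eq (Nat.card_congr (Additive.toMul (α := V)))) hi.1
      strict := fun A₀ hA₀ h0 h1 => by
        rw [hcard, hcardfix, hcard, hcardfix, hAmap]
        refine hi.2 _ (hAmap ▸ Subgroup.map_mono hA₀) (fun he => h0 ?_) (fun he => h1 ?_)
        · exact Subgroup.map_injective P.subtype_injective (he.trans (Subgroup.map_bot _).symm)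
        · exact Subgroup.map_injective P.subtype_injective (he.trans hAmap.symm)
      quad := fun a ha b hb v => by
        rw [dd_eq_zero, hfix, hddG]
        refine hquadG _ ha _ ?_
        rw [Subgroup.commutator_comm]
        exact Subgroup.commutator_mem_commutator hb (Additive.toMul v).2
      moved := by
        refine ⟨Additive.ofMul ⟨v₁, hv₁.1⟩, (hmemfix _ _).2 hv₁.2, fun hc => hv₁' ?_⟩
        have h1 := (hmemfix _ _).1 hc
        rwa [← MonoidHom.range_eq_map, Subgroup.range_subtype] at h1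
      gen := fun g hg => by
        refine Subgroup.map_injective P.subtype_injective ?_
        rw [Subgroup.map_sup, ← MonoidHom.range_eq_map, Subgroup.range_subtype, hAmap, cj,
          Subgroup.map_map,
          show P.subtype.comp (MulAut.conj g).toMonoidHom = (MulAut.conj (g : G)).toMonoidHom.comp P.subtype
            from MonoidHom.ext fun y => rfl,
          ← Subgroup.map_map, hAmap]
        exact hiii g hg }
  obtain ⟨F, iF, iFF, ρ, Ψ, hFcard, hΨs, hΨ0, hΨ, hle⟩ := hH.natural
  have htop : ((⊤ : Subgroup ↥P).map P.subtype : Subgroup G) = P := by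
    rw [← MonoidHom.range_eq_map, Subgroup.range_subtype]
  have hC0 : ∀ u : V, Ψ (Additive.ofMul u) = 0 ↔ (u : G) ∈ V ⊓ Subgroup.centralizer (P : Set G) := by
    intro u
    rw [hΨ0, hmemfix, htop]
    exact ⟨fun h => ⟨u.2, h⟩, fun h => h.2⟩
  refine ⟨F, iF, iFF, hFcard.trans (by rw [hcard, hAmap]), ⟨ρ⟩, le_antisymm ?_ ?_, hPV, inf_le_left,
    ρ.toMonoidHom, AddMonoidHom.toMultiplicativeRight Ψ, MonoidHom.range_eq_top.2 ρ.surjective,
    fun z => ?_, fun u => hC0 u, fun e u => ⟨⟨_, hconjV e e.2 u u.2⟩, rfl, hΨ e (Additive.ofMul u)⟩⟩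
  · intro v hv
    have h1 := hle ((hmemfix (A.subgroupOf P) (Additive.ofMul ⟨v, hv.1⟩)).2 (by rw [hAmap]; exact hv.2))
    obtain ⟨w, hw, c, hc, hwc⟩ := AddSubgroup.mem_sup.1 h1
    have e : v = ((Additive.toMul w : V) : G) * ((Additive.toMul c : V) : G) :=
      (congrArg (fun z : Additive V => ((Additive.toMul z : V) : G)) hwc).symm
    rw [e]
    refine Subgroup.mul_mem_sup ?_ ⟨(Additive.toMul c).2, ?_⟩
    · clear e hwc h1
      induction hw using AddSubgroup.closure_induction with
      | mem z hz =>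
        obtain ⟨b, hb, y, rfl⟩ := hz
        rw [hddG, Subgroup.commutator_comm]
        exact Subgroup.commutator_mem_commutator hb (Additive.toMul y).2
      | zero => exact Subgroup.one_mem _
      | add y z _ _ hy hz => exact Subgroup.mul_mem _ hy hz
      | neg z _ hz => exact Subgroup.inv_mem _ hz
    · have h2 := (hmemfix _ c).1 hc
      rwa [htop] at h2
  · refine sup_le (le_inf ?_ ?_) (inf_le_inf_left _ (Subgroup.centralizer_le hAP))
    · exact Subgroup.commutator_le.2 fun v hv a ha =>
        Cfsg.Lib.ElemToolkit.comm_mem (hAP.trans hPV) hv ha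
    · intro w hw
      exact Subgroup.mem_centralizer_iff.2 fun a ha => hquadG a ha w hw
  · obtain ⟨v, hv⟩ := hΨs (Multiplicative.toAdd z)
    exact ⟨Additive.toMul v, hv⟩)

end Cfsg.Agent.S2999
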