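import Cfsg.Statements.S3000
import Cfsg.Agent.PLocal.FFModule.Final
-- import your own Cfsg.Agent.* helpers here

set_option autoImplicit false
open Cfsg

namespace Cfsg.Agent.S3000

/-- Let p be a prime and let P and V be subgroups of a finite group with V elementary abelian, P normalizing V and acting faithfully on it (P ∩ C(V) = 1). Suppose P is p-minimal (a Sylow p-subgroup T of P is not normal and lies in a unique maximal subgroup M of P), O_p(P) = 1, C_P(C_V(T)) ≤ M, and P has a best offender on V: a subgroup A not centralizing V, with A/C_A(V) elementary abelian, such that |B|·|C_V(B)| ≤ |A|·|C_V(A)| for every subgroup B of A. Then there are subgroups E₁, …, E_r of P (r ≥ 1), pairwise commuting and forming with T a product P = (E₁ × ⋯ × E_r)T (internal direct product of the E_i), any two of which are conjugate by an element of T, such that V = C_V(E₁⋯E_r)·∏[V, E_i] with [V, E_i, E_j] = 1 for i ≠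 j, and for each i there is n ≥ 1 with either E_i ≅ SL₂(pⁿ) acting on [V, E_i]/C_{[V,E_i]}(E_i) as on its natural two-dimensional module, or p = 2 and E_i isomorphic to the symmetric group of degree 2ⁿ + 1 acting on [V, E_i]/C_{[V,E_i]}(E_i) as on its even-weight permutation module. -/
theorem result {G : Type*} [Group G] [Finite G] {p : ℕ} [Fact p.Prime] (V P : Subgroup G) (hV : Cfsg.IsElementaryAbelian p V) (hPV : P ≤ Subgroup.normalizer (V : Set G)) (hfaith : P ⊓ Subgroup.centralizer (V : Set G) = ⊥) (hmin : Cfsg.IsPMinimal p ↥P) (T : Sylow p ↥P) (M : Subgroup ↥P) (hM : IsCoatom M) (hTM : (T : Subgroup ↥P) ≤ M) (hOp : Cfsg.pCore p ↥P = ⊥) (hoff : ∃ A : Subgroup G, A ≤ P ∧ ¬ A ≤ Subgroup.centralizer (V : Set G) ∧ Cfsg.IsBestOffenderOn p V A) (hCT : P ⊓ Subgroup.centralizer ((V ⊓ Subgroup.centralizer ((((T : Subgroup ↥P).map P.subtype) : Subgroup G) : Set G)) : Set G) ≤ M.map P.subtype) : ∃ (r : ℕ) (E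 : Fin r → Subgroup G), 1 ≤ r ∧ (∀ i, E i ≤ P) ∧ (∀ i j, i ≠ j → ⁅E i, E j⁆ = ⊥) ∧ (∀ i, E i ⊓ (⨆ j ∈ {j | j ≠ i}, E j) = ⊥) ∧ (⨆ i, E i) ⊔ ((T : Subgroup ↥P).map P.subtype) = P ∧ (∀ i j, ∃ t ∈ ((T : Subgroup ↥P).map P.subtype), (E i).map (MulAut.conj t).toMonoidHom = E j) ∧ (V ⊓ Subgroup.centralizer (((⨆ i, E i) : Subgroup G) : Set G)) ⊔ (⨆ i, ⁅V, E i⁆) = V ∧ (∀ i j, i ≠ j → ⁅⁅V, E i⁆, E j⁆ = ⊥) ∧ ∀ i, ∃ n : ℕ, 1 ≤ n ∧ ((∃ (F : Type) (_ : Field F) (_ : Fintype F), Fintype.card F = p ^ n ∧ Nonempty (↥(E i) ≃* Matrix.SpecialLinearGroup (Fin 2) F) ∧ Cfsg.ActsAsSL2OnSection F ⊤ (E i) ⁅V, E i⁆ (⁅V, E i⁆ ⊓ Subgroup.centralizer ((E i : Subgroup G) : Set G))) ∨ (p = 2 ∧ Nonempty (↥(E i) ≃* Equiv.Perm (Fin (2 ^ n + 1))) ∧ Cfsg.ActsAsOddPermModuleOnSection (2 ^ n + 1) ⊤ (E i) ⁅V, E i⁆ (⁅V, E i⁆ ⊓ Subgroup.centralizer ((E i : Subgroup G) : Set G)))) := by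
  classical
  open Cfsg.Lib.FFSLTwo Cfsg.Lib.FFModule in
  exact (by
  obtain ⟨W, _, _, φ, e, hchar, heq⟩ := exists_module (G₀ := P) hV hPV
  have hinj : Function.Injective φ := by
    refine (injective_iff_map_eq_one φ).2 fun g hg => Subtype.ext (Subgroup.mem_bot.1 ?_)
    rw [← hfaith]
    refine ⟨g.2, Subgroup.mem_centralizer_iff.2 fun v hv => ?_⟩
    have hm : (g : G) * v * (g : G)⁻¹ ∈ V := (Subgroup.mem_normalizer_iff.1 (hPV g.2) v).1 hv
    have h1 := heq g ⟨v, hv⟩ hm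
    rw [hg] at h1
    have h2 : v = (g : G) * v * (g : G)⁻¹ :=
      congrArg (fun z : Additive V => ((Additive.toMul z : V) : G)) (e.injective h1)
    conv_lhs => rw [h2]
    simp
  have br : Bridge φ (MonoidHom.id P) e :=
    ⟨hinj, Function.surjective_id, hPV, heq⟩
  obtain ⟨A, hAP, hAC, hbest⟩ := hoff
  obtain ⟨hel, hidx, hbot⟩ := br.offender hAP hbest
  obtain ⟨q, r, E, hd, -, -, -⟩ :=
    exists_main hinj hchar hmin hOp T ⟨_, fun h => hAC (hbot h), hel, hidx⟩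
  obtain ⟨hcomm, hinf, hgen, htrans, hsplit, hzero⟩ :=
    br.translate hd ((T : Subgroup P).map P.subtype) fun t ht => ⟨t, ⟨t, ht, rfl⟩, t.2, rfl⟩
  have hEP : ∀ i, up (MonoidHom.id P) (E i) ≤ P := fun i => up_le _
  have hbotC : ∀ {X : Subgroup G}, X ≤ P → X ≤ Subgroup.centralizer (V : Set G) → X = ⊥ :=
    fun h1 h2 => le_bot_iff.1 (hfaith ▸ le_inf h1 h2)
  refine ⟨r, fun i => up (MonoidHom.id P) (E i), hd.pos, hEP, fun i j hij => ?_, fun i => ?_, ?_,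
    htrans, hsplit, hzero, fun i => ?_⟩
  · exact hbotC ((Subgroup.commutator_mono (hEP i) (hEP j)).trans (Subgroup.commutator_le.2
      fun a ha b hb => mul_mem (mul_mem (mul_mem ha hb) (inv_mem ha)) (inv_mem hb))) (hcomm i j hij)
  · exact hbotC (inf_le_left.trans (hEP i)) (hinf i)
  · exact le_antisymm (sup_le (iSup_le hEP) (Subgroup.map_subtype_le _)) hgen
  · have hiso : ↥(up (MonoidHom.id P) (E i)) ≃* ↥(E i) :=
      MulEquiv.ofBijective (down (MonoidHom.id P) (E i))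
        ⟨fun a b h => Subtype.ext (congrArg (fun z : E i => ((z : P) : G)) h), br.down_surj (E i)⟩
    obtain ⟨n, hn, ⟨-, -, h⟩ | ⟨-, hp, h⟩⟩ := hd.type i
    · obtain ⟨F, iF, iFF, ρ, hc, hact⟩ := br.acts_sl h
      exact ⟨n, hn, Or.inl ⟨F, iF, iFF, hc, ⟨hiso.trans ρ⟩, hact⟩⟩
    · obtain ⟨ρ, hact⟩ := br.acts_perm h
      exact ⟨n, hn, Or.inr ⟨hp, ⟨hiso.trans ρ⟩, hact⟩⟩)

end Cfsg.Agent.S3000
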