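import Cfsg.Statements.S3001
import Cfsg.Agent.PLocal.FFModule.Bridge
-- import your own Cfsg.Agent.* helpers here

set_option autoImplicit false
open Cfsg

namespace Cfsg.Agent.S3001

/-- Let p be a prime and let P and V be subgroups of a finite group with V elementary abelian, P normalizing V and acting faithfully on it (P ∩ C(V) = 1). Suppose P is p-minimal (a Sylow p-subgroup is not normal and lies in a unique maximal subgroup), O_p(P) = 1, and P has a best offender on V (a subgroup A not centralizing V, with A/C_A(V) elementary abelian and |B|·|C_V(B)| ≤ |A|·|C_V(A)| for every B ≤ A). Then [C_V(T), P] ≠ 1 for every Sylow p-subgroup T of P. -/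
theorem result {G : Type*} [Group G] [Finite G] {p : ℕ} [Fact p.Prime] (V P : Subgroup G) (hV : Cfsg.IsElementaryAbelian p V) (hPV : P ≤ Subgroup.normalizer (V : Set G)) (hfaith : P ⊓ Subgroup.centralizer (V : Set G) = ⊥) (hmin : Cfsg.IsPMinimal p ↥P) (hOp : Cfsg.pCore p ↥P = ⊥) (hoff : ∃ A : Subgroup G, A ≤ P ∧ ¬ A ≤ Subgroup.centralizer (V : Set G) ∧ Cfsg.IsBestOffenderOn p V A) (T : Sylow p ↥P) : ⁅(V ⊓ Subgroup.centralizer ((((T : Subgroup ↥P).map P.subtype) : Subgroup G) : Set G)), P⁆ ≠ ⊥ := by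
  classical
  open Cfsg.Lib.FFSLTwo Cfsg.Lib.FFModule in
  exact (by
  obtain ⟨W, _, _, φ, e, hchar, heq⟩ := exists_module (G₀ := P) hV hPV
  have hinj : Function.Injective φ := by
    refine (injective_iff_map_eq_one φ).2 fun g hg => Subtype.ext (Subgroup.mem_bot.1 ?_)
    rw [← hfaith]
    refine ⟨g.2, Subgroup.mem_centralizer_iff.2 fun v hv => ?_⟩
    have hm : (g : G) * v * (g : G)⁻¹ ∈ V := (Subgroup.mem_normalizer_iff.1 (hPV g.2) v).1 hv
    have h1 := heq g ⟨v, hv⟩ hm
    rw [hg] at h1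
    have h2 : v = (g : G) * v * (g : G)⁻¹ :=
      congrArg (fun z : Additive V => ((Additive.toMul z : V) : G)) (e.injective h1)
    conv_lhs => rw [h2]
    simp
  have br : Bridge φ (MonoidHom.id P) e :=
    ⟨hinj, Function.surjective_id, hPV, heq⟩
  obtain ⟨A, hAP, hAC, hbest⟩ := hoff
  obtain ⟨hel, hidx, hbot⟩ := br.offender hAP hbest
  obtain ⟨q, r, E, -, -, -, z, hz, hz'⟩ :=
    exists_main hinj hchar hmin hOp T ⟨_, fun h => hAC (hbot h), hel, hidx⟩
  intro hcom
  refine hz' fun g _ => ?_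
  obtain ⟨y, rfl⟩ := e.surjective z
  have hup : ∀ K : Subgroup P, up (MonoidHom.id P) K = K.map P.subtype := fun K => by
    simp [up, Subgroup.comap_id]
  have hy : ((Additive.toMul y : V) : G) ∈
      V ⊓ Subgroup.centralizer ((((T : Subgroup ↥P).map P.subtype) : Subgroup G) : Set G) := by
    rw [← hup, br.inf_centralizer]
    exact mem_pull.2 ⟨(Additive.toMul y).2, hz⟩
  have h1 := Subgroup.commutator_eq_bot_iff_le_centralizer.1 hcom hy
  exact (br.fix_iff g (Additive.toMul y)).2 (Subgroup.mem_centralizer_iff.1 h1 g g.2))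

end Cfsg.Agent.S3001
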