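import Cfsg.Statements.S3003
import Cfsg.Agent.Components.Local
import Cfsg.Agent.Coprime.CyclicQuotient

set_option autoImplicit false
open Cfsg

namespace Cfsg.Agent.S3003

/-- Let G be a finite group, p a prime and Q a large p-subgroup of G: C_G(Q) ≤ Q and N_G(U) ≤ N_G(Q) for every nontrivial subgroup U of C_G(Q). Let Q ≤ G₁ ≤ G, let R be a subgroup of order prime to p normalized by G₁, and let U ≤ G₁ be a p-subgroup. If U contains a nontrivial element which is G₁-conjugate to an element of Z(Q), then C_R(U) = 1. In particular, if U is elementary abelian of order at least p² and every maximal subgroup of U contains a nontrivial element G₁-conjugate into Z(Q), then R = 1. -/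
theorem result {G : Type*} [Group G] [Finite G] {p : ℕ} [Fact p.Prime] (Q : Subgroup G) (hQp : IsPGroup p ↥Q) (hlarge : Cfsg.IsLarge Q) (G₁ : Subgroup G) (hQG : Q ≤ G₁) (R : Subgroup G) (hR : (Nat.card ↥R).Coprime p) (hGR : G₁ ≤ Subgroup.normalizer (R : Set G)) (U : Subgroup G) (hUG : U ≤ G₁) (hUp : IsPGroup p ↥U) : ((∃ x ∈ U, x ≠ 1 ∧ ∃ g ∈ G₁, g * x * g⁻¹ ∈ Q ⊓ Subgroup.centralizer (Q : Set G)) → R ⊓ Subgroup.centralizer (U : Set G) = ⊥) ∧ (Cfsg.IsElementaryAbelian p U → p ^ 2 ≤ Nat.card ↥U → (∀ U₀ : Subgroup G, U₀ ≤ U → IsCoatom (U₀.subgroupOf U) → ∃ x ∈ U₀, x ≠ 1 ∧ ∃ g ∈ G₁, g * x * g⁻¹ ∈ Q ⊓ Subgroup.centralizer (Q : Set G)) → R = ⊥) := by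
  obtain ⟨hCQ, hN⟩ := hlarge
  have hfix : ∀ x : G, x ≠ 1 → (∃ g ∈ G₁, g * x * g⁻¹ ∈ Q ⊓ Subgroup.centralizer (Q : Set G)) → ∀ r ∈ R, r * x = x * r → r = 1 := by
    rintro x hx1 ⟨g, hg, hgx⟩ r hr hrx
    let s := g * r * g⁻¹
    have hsR : s ∈ R := (Subgroup.mem_normalizer_iff.1 (hGR hg) r).1 hr
    let y := g * x * g⁻¹
    have hy1 : y ≠ 1 := fun h => hx1 (conj_eq_one_iff.1 h)
    have hU : Subgroup.zpowers y ≤ Subgroup.centralizer (Q : Set G) := Subgroup.zpowers_le.2 hgx.2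
    have hsy : s ∈ Subgroup.centralizer ((Subgroup.zpowers y : Subgroup G) : Set G) := by
      rw [Subgroup.zpowers_eq_closure, Subgroup.centralizer_closure, Subgroup.mem_centralizer_singleton_iff]
      show g * r * g⁻¹ * (g * x * g⁻¹) = g * x * g⁻¹ * (g * r * g⁻¹)
      calc g * r * g⁻¹ * (g * x * g⁻¹) = g * (r * x) * g⁻¹ := by group
        _ = g * (x * r) * g⁻¹ := by rw [hrx]
        _ = _ := by group
    have hsQ : s ∈ Subgroup.normalizer (Q : Set G) :=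
      hN _ hU (fun h => hy1 (Subgroup.zpowers_eq_bot.1 h)) (Subgroup.centralizer_le_normalizer _ hsy)
    have hdis : Q ⊓ R = ⊥ := Cfsg.Lib.Components.coprime_pGroup_disjoint hQp hR
    have hsc : s ∈ Subgroup.centralizer (Q : Set G) := by
      refine Subgroup.mem_centralizer_iff.2 fun q hq => ?_
      have h1 : q * s * q⁻¹ * s⁻¹ ∈ Q := by
        have h2 := (Subgroup.mem_normalizer_iff.1 hsQ q⁻¹).1 (inv_mem hq)
        simpa [mul_assoc] using mul_mem (hq : q ∈ Q) h2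
      have h3 : q * s * q⁻¹ * s⁻¹ ∈ R :=
        mul_mem ((Subgroup.mem_normalizer_iff.1 (hGR (hQG hq)) s).1 hsR) (inv_mem hsR)
      have h4 : q * s * q⁻¹ * s⁻¹ = 1 := Subgroup.mem_bot.1 (hdis ▸ Subgroup.mem_inf.2 ⟨h1, h3⟩)
      exact (commutatorElement_eq_one_iff_mul_comm.1 (by rw [commutatorElement_def]; exact h4))
    have hs1 : s = 1 := Subgroup.mem_bot.1 (hdis ▸ Subgroup.mem_inf.2 ⟨hCQ hsc, hsR⟩)
    exact conj_eq_one_iff.1 hs1
  refine ⟨fun ⟨x, hxU, hx1, hg⟩ => (Subgroup.eq_bot_iff_forall _).2 fun r hr =>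
    hfix x hx1 hg r hr.1 (Subgroup.mem_centralizer_iff.1 hr.2 x hxU).symm, fun hel hcard hyp => ?_⟩
  haveI : IsMulCommutative ↥U := hel.1
  have hcop : (Nat.card ↥U).Coprime (Nat.card ↥R) := by
    obtain ⟨n, hn⟩ := IsPGroup.iff_card.1 hUp
    rw [hn]
    exact hR.symm.pow_left n
  have hj := Cfsg.Lib.Coprime.le_join_cyclicQuot (A := U) _ ⊥ R le_rfl bot_le (hUG.trans hGR) hcop bot_le
  refine eq_bot_iff.2 (hj.trans (iSup₂_le fun C hC => ?_))
  obtain ⟨hCU, a, ha, hCa⟩ := hC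
  have hkill : ∀ U₀ : Subgroup G, U₀ ≤ U → IsCoatom (U₀.subgroupOf U) → R ⊓ Subgroup.centralizer (U₀ : Set G) ≤ ⊥ := by
    intro U₀ h0 hco r hr
    obtain ⟨x, hx, hx1, hg⟩ := hyp U₀ h0 hco
    exact Subgroup.mem_bot.2 (hfix x hx1 hg r hr.1 (Subgroup.mem_centralizer_iff.1 hr.2 x hx).symm)
  by_cases hCtop : C = U
  · subst hCtop
    haveI : Nontrivial ↥C := Finite.one_lt_card_iff_nontrivial.1
      (lt_of_lt_of_le (Nat.one_lt_pow (by norm_num) (Fact.out : p.Prime).one_lt) hcard)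
    obtain ⟨W, hW⟩ := (eq_top_or_exists_le_coatom (⊥ : Subgroup ↥C)).resolve_left bot_ne_top
    have hWC : (W.map C.subtype).subgroupOf C = W := Subgroup.comap_map_eq_self_of_injective C.subtype_injective W
    refine le_trans (inf_le_inf_left R (Subgroup.centralizer_le ?_)) (hkill (W.map C.subtype) (Subgroup.map_subtype_le _) (hWC.symm ▸ hW.1))
    exact SetLike.coe_subset_coe.mpr (Subgroup.map_subtype_le _)
  · refine hkill C hCU ⟨fun h => hCtop (le_antisymm hCU (Subgroup.subgroupOf_eq_top.1 h)), fun Y hY => ?_⟩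
    obtain ⟨⟨y, hyU⟩, hyY, hyC⟩ := SetLike.exists_of_lt hY
    have hyC' : y ∉ C := fun h => hyC (Subgroup.mem_subgroupOf.2 h)
    have hCn : Subgroup.zpowers a ≤ Subgroup.normalizer (C : Set G) := by
      refine Subgroup.zpowers_le.2 (Subgroup.centralizer_le_normalizer _ ?_)
      exact Subgroup.mem_centralizer_iff.2 fun c hc => congrArg Subtype.val (hel.1.is_comm.comm ⟨c, hCU hc⟩ ⟨a, ha⟩)
    obtain ⟨c, hc, _, ⟨i, rfl⟩, hcy⟩ := (Cfsg.Lib.Coprime.mem_sup_of_le_normalizer hCn).1 (hCa.ge hyU)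
    simp only at hcy
    have hap : a ^ p = 1 := hel.2 a ha
    have hi : ¬ (p : ℤ) ∣ i := fun ⟨j, hj⟩ => hyC' (by rw [← hcy, hj, zpow_mul, zpow_natCast, hap, one_zpow, mul_one]; exact hc)
    obtain ⟨u, v, huv⟩ := ((Nat.prime_iff_prime_int.1 (Fact.out : p.Prime)).coprime_iff_not_dvd.2 hi)
    have haY : (⟨a, ha⟩ : ↥U) ∈ Y := by
      have h1 : (⟨c, hCU hc⟩ : ↥U)⁻¹ * ⟨y, hyU⟩ ∈ Y :=
        mul_mem (inv_mem (hY.le (Subgroup.mem_subgroupOf.2 hc))) hyY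
      have h2 : ((⟨c, hCU hc⟩ : ↥U)⁻¹ * ⟨y, hyU⟩) ^ v = ⟨a, ha⟩ := by
        apply Subtype.ext
        push_cast
        rw [← hcy, inv_mul_cancel_left, ← zpow_mul]
        calc a ^ (i * v) = (a ^ (p : ℤ)) ^ u * a ^ (i * v) := by rw [zpow_natCast, hap, one_zpow, one_mul]
          _ = a ^ (u * (p : ℤ) + v * i) := by rw [← zpow_mul, ← zpow_add, mul_comm (p : ℤ) u, mul_comm i v]
          _ = a := by rw [huv, zpow_one]
      exact h2 ▸ zpow_mem h1 v
    rw [eq_top_iff]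
    rintro ⟨z, hz⟩ -
    obtain ⟨c', hc', _, ⟨j, rfl⟩, hcz⟩ := (Cfsg.Lib.Coprime.mem_sup_of_le_normalizer hCn).1 (hCa.ge hz)
    simp only at hcz
    have : (⟨z, hz⟩ : ↥U) = ⟨c', hCU hc'⟩ * ⟨a, ha⟩ ^ j := Subtype.ext (by push_cast; exact hcz.symm)
    rw [this]
    exact mul_mem (hY.le (Subgroup.mem_subgroupOf.2 hc')) (zpow_mem haY j)

end Cfsg.Agent.S3003
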