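import Cfsg.Statements.S3008
import Cfsg.Agent.Components.CD.Replace

set_option autoImplicit false
open Cfsg

namespace Cfsg.Agent.S3008

/-- Let P be a finite p-group, with J(P) generated by its abelian subgroups of largest order and J̃(P) = C_P(Z(J(P))); call R ≤ P centrally large if |R|·|Z(R)| is as large as possible, and let P_MCL be generated by the minimal centrally large subgroups. Then: for every centrally large Q, Q·J(P) ⊇ J̃(P); some minimal centrally large subgroup of P is normalized by both J(P) and P_MCL; if P = J(P) and d(P)² = |P|·|Z(P)|, where d(P) is the largest order of an abelian subgroup, then every minimal centrally large subgroup of P is abelian; and if every minimal centrally large subgroup is abelian then J̃(P) = J(P). -/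
theorem result {p : ℕ} [Fact p.Prime] (P : Type*) [Group P] [Finite P] (hP : IsPGroup p P) : (∀ Q : Subgroup P, Cfsg.IsCentrallyLarge Q → Subgroup.centralizer ((Cfsg.thompsonSubgroupA P ⊓ Subgroup.centralizer (Cfsg.thompsonSubgroupA P : Set P) : Subgroup P) : Set P) ≤ Q ⊔ Cfsg.thompsonSubgroupA P) ∧ (∃ Q : Subgroup P, Cfsg.IsMinimalCentrallyLarge Q ∧ Cfsg.thompsonSubgroupA P ≤ Subgroup.normalizer (Q : Set P) ∧ Cfsg.minimalCentrallyLargeJoin P ≤ Subgroup.normalizer (Q : Set P)) ∧ (Cfsg.thompsonSubgroupA P = ⊤ → (∀ A ∈ Cfsg.maxAbelianSubgroups P, Nat.card ↥A ^ 2 = Nat.card P * Nat.card ↥(Subgroup.center P)) → ∀ Q : Subgroup P, Cfsg.IsMinimalCentrallyLarge Q → IsMulCommutative ↥Q) ∧ ((∀ Q : Subgroup P, Cfsg.IsMinimalCentrallyLarge Q → IsMulCommutative ↥Q) → Subgroup.centralizer ((Cfsg.thompsonSubgroupA P ⊓ Subgroup.centralizer (Cfsg.thompsonSubgroupA P : Set P) : Subgroup P) : Set P) = Cfsg.thompsonSubgroupA P) := by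
  haveI : Group.IsNilpotent P := hP.isNilpotent
  refine ⟨fun Q hQ => (Lib.CD.centralizer_zj_le hQ).1, Lib.CD.exists_normalized, fun hJ hd Q hQ => ?_, fun hab => ?_⟩
  · have hcl := (Lib.CD.centralizer_zj_le hQ.1).2
    rw [hJ, sup_top_eq, Cfsg.IsCentrallyLarge, Lib.CD.card_center] at hcl
    simp only [Subgroup.card_top, top_inf_eq, Subgroup.coe_top, Subgroup.centralizer_univ] at hcl
    obtain ⟨A, hA, hm⟩ := Set.exists_max_image {A : Subgroup P | IsMulCommutative A} (fun A => Nat.card A)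
      (Set.toFinite _) ⟨⊥, ⟨⟨fun a b => Subsingleton.elim _ _⟩⟩⟩
    have hAm : A ∈ Cfsg.maxAbelianSubgroups P := ⟨hA, fun B hB => hm B hB⟩
    exact Lib.CD.mcl_abelian_of_card hAm ((hd A hAm).trans hcl) hQ
  · obtain ⟨Q₀, hQ₀⟩ := Lib.CD.exists_cl (P := P)
    obtain ⟨Q, -, hQ⟩ := Lib.CD.exists_mcl hQ₀
    have hQA := (Lib.CD.mcl_abelian hQ (hab Q hQ) Q).mp hQ
    refine le_antisymm ?_ (Subgroup.le_centralizer_iff.mp inf_le_right)
    exact (Lib.CD.centralizer_zj_le hQ.1).1.trans (sup_le (le_sSup hQA) le_rfl)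

end Cfsg.Agent.S3008
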