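import Cfsg.Statements.S3009
import Cfsg.Agent.Components.Misc.QuadraticSL2
import Cfsg.Agent.Components.Misc.NaturalSL2
-- import your own Cfsg.Agent.* helpers here

set_option autoImplicit false
open Cfsg

namespace Cfsg.Agent.S3009

open scoped commutatorElement

/-- Let p be a prime and let G and V be subgroups of a finite group with V elementary abelian and normalized by G, and G isomorphic to SL₂(F) for a finite field F with pⁿ elements. Suppose G acts irreducibly and nontrivially on V by conjugation (no G-invariant subgroups of V other than 1 and V, and [V, G] ≠ 1), and let S be a Sylow p-subgroup of G and V₀ = C_V(S). If [V, S, S] = 1 or |V| ≤ |V₀|², then G acts on V as SL₂(F) on its natural two-dimensional module; in particular |V| = |F|². -/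
theorem result {X : Type*} [Group X] [Finite X] {p : ℕ} [Fact p.Prime] (G V : Subgroup X) (hV : Cfsg.IsElementaryAbelian p V) (hGV : G ≤ Subgroup.normalizer (V : Set X)) (F : Type) [Field F] [Fintype F] (n : ℕ) (hF : Fintype.card F = p ^ n) (hG : Nonempty (↥G ≃* Matrix.SpecialLinearGroup (Fin 2) F)) (hirr : ∀ U : Subgroup X, U ≤ V → G ≤ Subgroup.normalizer (U : Set X) → U = ⊥ ∨ U = V) (hnt : ⁅V, G⁆ ≠ ⊥) (S : Sylow p ↥G) (hyp : ⁅⁅V, (S : Subgroup ↥G).map G.subtype⁆, (S : Subgroup ↥G).map G.subtype⁆ = ⊥ ∨ Nat.card ↥V ≤ Nat.card ↥(V ⊓ Subgroup.centralizer (((S : Subgroup ↥G).map G.subtype : Subgroup X) : Set X)) ^ 2) : Cfsg.ActsAsSL2OnSection F ⊤ G V ⊥ := by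
  classical
  obtain ⟨e⟩ := hG
  have hn : 1 ≤ n := by
    by_contra h
    have := Fintype.one_lt_card (α := F)
    rw [hF, show n = 0 by omega, pow_zero] at this
    exact absurd this (lt_irrefl 1)
  obtain ⟨K, hK⟩ := Cfsg.Lib.Misc.NaturalSL2.exists_conj_upper hn hF (S.mapSurjective (f := e.toMonoidHom) e.surjective)
  obtain ⟨f, hf⟩ : ∃ f : ↥G ≃* Matrix.SpecialLinearGroup (Fin 2) F, ∀ x, f x = K * e x * K⁻¹ :=
    ⟨e.trans (MulAut.conj K), fun x => by simp⟩
  have hSU : ∀ x : ↥G, x ∈ S ↔ ∃ a, f x = Cfsg.Lib.RootSub.upEl a := by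
    intro x
    have h1 : x ∈ S ↔ e x ∈ S.mapSurjective (f := e.toMonoidHom) e.surjective := by
      show _ ↔ e x ∈ (S : Subgroup ↥G).map e.toMonoidHom
      exact (Subgroup.mem_map_iff_mem (K := (S : Subgroup ↥G)) (f := e.toMonoidHom) e.injective (x := x)).symm
    rw [h1, hK, ← hf, Cfsg.Lib.Misc.NaturalSL2.IsU]
    constructor
    · rintro ⟨h10, h00, h11⟩
      exact ⟨_, by ext i j; fin_cases i <;> fin_cases j <;> simp [Cfsg.Lib.RootSub.upEl_coe, h10, h00, h11] <;> rfl⟩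
    · rintro ⟨a, ha⟩
      simp [ha, Cfsg.Lib.RootSub.upEl_coe]
  have hVc := hV.1
  have hexp : ∀ v : ↥V, v ^ p = 1 := fun v => by
    first
      | exact hV.2 v
      | exact Subtype.ext (hV.2 (v : X) v.2)
  letI : CommGroup ↥V := { mul_comm := fun a b => hVc.is_comm.comm a b }
  have hmem : ∀ g : ↥G, ∀ v : ↥V, (g : X) * v * (g : X)⁻¹ ∈ V := fun g v =>
    (Subgroup.mem_normalizer_iff.mp (hGV g.2) v).mp v.2
  let r : ↥G → AddMonoid.End (Additive ↥V) := fun g =>
    AddMonoidHom.mk' (fun m => Additive.ofMul ⟨(g : X) * (Additive.toMul m : ↥V) * (g : X)⁻¹, hmem g _⟩)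
      (fun a b => Additive.toMul.injective (Subtype.ext (by simp [mul_assoc])))
  let ρ : Matrix.SpecialLinearGroup (Fin 2) F →* AddMonoid.End (Additive ↥V) :=
    { toFun := fun s => r (f.symm s)
      map_one' := by
        refine AddMonoidHom.ext fun m => Additive.toMul.injective (Subtype.ext ?_)
        simp [r]
        rfl
      map_mul' := fun s t => by
        refine AddMonoidHom.ext fun m => Additive.toMul.injective (Subtype.ext ?_)
        show ((f.symm (s * t) : ↥G) : X) * (Additive.toMul m : ↥V) * ((f.symm (s * t) : ↥G) : X)⁻¹ =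
          (f.symm s : X) * ((f.symm t : X) * (Additive.toMul m : ↥V) * (f.symm t : X)⁻¹) * (f.symm s : X)⁻¹
        rw [map_mul, Subgroup.coe_mul]; group }
  have hρ : ∀ (g : ↥G) (v : ↥V), ((Additive.toMul (ρ (f g) (Additive.ofMul v)) : ↥V) : X) =
      (g : X) * v * (g : X)⁻¹ := fun g v => by
    show ((f.symm (f g) : ↥G) : X) * v * ((f.symm (f g) : ↥G) : X)⁻¹ = _
    rw [MulEquiv.symm_apply_apply]
  have hM : ∀ m : Additive ↥V, p • m = 0 := fun m => Additive.toMul.injective (by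
    rw [toMul_nsmul, toMul_zero]; exact hexp _)
  have hirr' : ∀ U : AddSubgroup (Additive ↥V),
      (∀ g, ∀ m ∈ U, ρ g m ∈ U) → U = ⊥ ∨ U = ⊤ := by
    intro U hU
    let W : Subgroup X := (AddSubgroup.toSubgroup' U).map V.subtype
    have hW : ∀ v : ↥V, (v : X) ∈ W ↔ Additive.ofMul v ∈ U := fun v =>
      Subgroup.mem_map_iff_mem (f := V.subtype) V.subtype_injective (K := AddSubgroup.toSubgroup' U) (x := v)
    have hWn : G ≤ Subgroup.normalizer (W : Set X) := by
      have hstep : ∀ g ∈ G, ∀ w ∈ W, g * w * g⁻¹ ∈ W := by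
        intro g hg w hw
        have hwV : w ∈ V := Subgroup.map_subtype_le _ hw
        have h := hU (f ⟨g, hg⟩) _ ((hW ⟨w, hwV⟩).mp hw)
        have h2 := (hW (Additive.toMul (ρ (f ⟨g, hg⟩) (Additive.ofMul ⟨w, hwV⟩)))).mpr h
        rwa [hρ] at h2
      intro g hg
      rw [Subgroup.mem_normalizer_iff]
      refine fun w => ⟨fun hw => hstep g hg w hw, fun hw => ?_⟩
      have := hstep g⁻¹ (inv_mem hg) _ hw
      rwa [show g⁻¹ * (g * w * g⁻¹) * g⁻¹⁻¹ = w by group] at this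
    rcases hirr W (Subgroup.map_subtype_le _) hWn with h | h
    · left
      rw [AddSubgroup.eq_bot_iff_forall]
      intro m hm
      have h1 : ((Additive.toMul m : ↥V) : X) ∈ W := (hW _).mpr hm
      rw [h, Subgroup.mem_bot] at h1
      exact Additive.toMul.injective (Subtype.ext h1)
    · right
      rw [eq_top_iff]
      intro m _
      exact (hW (Additive.toMul m)).mp (h.ge (Additive.toMul m : ↥V).2)
  have hnt' : ∃ g, ∃ m : Additive ↥V, ρ g m ≠ m := by
    by_contra! h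
    refine hnt (Subgroup.commutator_eq_bot_iff_le_centralizer.mpr fun v hv => ?_)
    rw [Subgroup.mem_centralizer_iff]
    intro g hg
    have h1 := hρ ⟨g, hg⟩ ⟨v, hv⟩
    rw [h] at h1
    exact (eq_mul_inv_iff_mul_eq.mp h1).symm
  have hfix : ∀ v : ↥V, Additive.ofMul v ∈ Cfsg.Lib.QuadSL2.fix ρ ↔
      (v : X) ∈ Subgroup.centralizer (((S : Subgroup ↥G).map G.subtype : Subgroup X) : Set X) := by
    intro v
    rw [Subgroup.mem_centralizer_iff]
    constructor
    · rintro h _ ⟨x, hx, rfl⟩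
      obtain ⟨a, ha⟩ := (hSU x).mp hx
      have h1 := hρ x v
      rw [ha, h a] at h1
      exact (eq_mul_inv_iff_mul_eq.mp h1).symm
    · intro h a
      obtain ⟨x, hx⟩ := f.surjective (Cfsg.Lib.RootSub.upEl a)
      have h1 := h _ ⟨x, (hSU x).mpr ⟨a, hx⟩, rfl⟩
      rw [← hx]
      refine Additive.toMul.injective (Subtype.ext ?_)
      rw [hρ]
      exact mul_inv_eq_iff_eq_mul.mpr h1
  have hdec : (∀ m, ∃ x ∈ Cfsg.Lib.QuadSL2.fix ρ, ∃ y ∈ Cfsg.Lib.QuadSL2.fix ρ, m = x + Cfsg.Lib.QuadSL2.op ρ y) ∧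
      ∀ (a : F), ∀ c ∈ Cfsg.Lib.QuadSL2.fix ρ,
        ρ (Cfsg.Lib.RootSub.upEl a) (Cfsg.Lib.QuadSL2.op ρ c) - Cfsg.Lib.QuadSL2.op ρ c ∈ Cfsg.Lib.QuadSL2.fix ρ := by
    rcases hyp with hq | hc
    · refine Cfsg.Lib.QuadSL2.decomp_of_quadratic ρ hirr' hnt' fun a b m => ?_
      obtain ⟨x, hx⟩ := f.surjective (Cfsg.Lib.RootSub.upEl a)
      obtain ⟨y, hy⟩ := f.surjective (Cfsg.Lib.RootSub.upEl b)
      have hxS := Subgroup.mem_map_of_mem G.subtype ((hSU x).mpr ⟨a, hx⟩)
      have hyS := Subgroup.mem_map_of_mem G.subtype ((hSU y).mpr ⟨b, hy⟩)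
      have h1 : ⁅((Additive.toMul m : ↥V) : X), (x : X)⁆ ∈ ⁅V, (S : Subgroup ↥G).map G.subtype⁆ :=
        Subgroup.commutator_mem_commutator (Additive.toMul m : ↥V).2 hxS
      have h2 := Subgroup.mem_centralizer_iff.mp
        ((Subgroup.commutator_eq_bot_iff_le_centralizer.mp hq) (inv_mem h1)) _ hyS
      rw [← hx, ← hy]
      refine Additive.toMul.injective (Subtype.ext ?_)
      have h3 : ((Additive.toMul (ρ (f x) m - m) : ↥V) : X) = ⁅((Additive.toMul m : ↥V) : X), (x : X)⁆⁻¹ := by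
        have h5 := hρ x (Additive.toMul m)
        rw [ofMul_toMul] at h5
        rw [toMul_sub, Subgroup.coe_div, h5, commutatorElement_def, div_eq_mul_inv]; group
      have h4 := hρ y (Additive.toMul (ρ (f x) m - m))
      rw [ofMul_toMul] at h4
      rw [h4, h3]
      exact mul_inv_eq_iff_eq_mul.mpr h2
    · refine Cfsg.Lib.QuadSL2.decomp_of_card ρ hirr' hnt' hF hM ?_
      rw [Nat.card_congr (Additive.toMul (α := ↥V))]
      refine hc.trans (le_of_eq ?_)
      congr 1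
      refine Nat.card_congr ⟨fun u => ⟨Additive.ofMul ⟨(u : X), u.2.1⟩, (hfix ⟨(u : X), u.2.1⟩).mpr u.2.2⟩,
        fun m => ⟨((Additive.toMul (m : Additive ↥V) : ↥V) : X), (Additive.toMul (m : Additive ↥V) : ↥V).2,
          (hfix _).mp m.2⟩, fun u => rfl, fun m => rfl⟩
  obtain ⟨Φ, hΦ⟩ := Cfsg.Lib.QuadSL2.natural ρ hirr' hnt' hdec.1 hdec.2
  refine ⟨hGV, bot_le, f.toMonoidHom,
    MonoidHom.mk' (fun u => Multiplicative.ofAdd (Φ.symm (Additive.ofMul u)))
      (fun a b => by rw [ofMul_mul, map_add, ofAdd_add]),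
    MonoidHom.range_eq_top.mpr f.surjective, fun z => ?_, fun u => ?_, fun g u => ?_⟩
  · exact ⟨Additive.toMul (Φ (Multiplicative.toAdd z)), by simp⟩
  · simp [Subgroup.mem_bot]
  · refine ⟨Additive.toMul (ρ (f g) (Additive.ofMul u)), hρ g u, ?_⟩
    simp only [MonoidHom.mk'_apply, toAdd_ofAdd, ofMul_toMul]
    rw [AddEquiv.symm_apply_eq]
    conv_lhs => rw [← Φ.apply_symm_apply (Additive.ofMul u), hΦ]
    rfl

end Cfsg.Agent.S3009
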