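import Cfsg.Statements.S3012
import Cfsg.Agent.Transfer.Basic

set_option autoImplicit false
open Cfsg

namespace Cfsg.Agent.S3012

/-- Let G be a finite group, V a nontrivial elementary abelian 2-subgroup of G satisfying the Sidki pair condition (every odd-order element inverted by an element of V commutes with a nontrivial element of V), and K a normal subgroup of G with V ∩ K = 1. Then the image of V in G/K satisfies the Sidki pair condition in G/K. -/
theorem result {G : Type*} [Group G] [Finite G] (V K : Subgroup G) [K.Normal] (hV : Cfsg.IsElementaryAbelian 2 V) (hV1 : V ≠ ⊥) (hS : Cfsg.IsSidkiPair V) (hVK : V ⊓ K = ⊥) : Cfsg.IsSidkiPair (V.map (QuotientGroup.mk' K)) := by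
  set q := QuotientGroup.mk' K with hq
  rintro h _ ⟨v, hv, rfl⟩ hodd hinv
  obtain ⟨x, rfl⟩ := QuotientGroup.mk'_surjective K h
  have hv2 : v * v = 1 := by rw [← sq]; exact hV.2 v hv
  have hvi : v⁻¹ = v := inv_eq_of_mul_eq_one_right hv2
  set y := v * x * v⁻¹ * x⁻¹ with hy
  have hvy : v * y * v⁻¹ = y⁻¹ := by
    rw [hy]
    simp only [mul_inv_rev, inv_inv, hvi, mul_assoc]
    simp [← mul_assoc, hv2]
  have hyq : q y = (q x)⁻¹ * (q x)⁻¹ := by
    rw [hy, map_mul, map_mul, map_mul, map_inv, map_inv, hinv]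
  obtain ⟨a, m, hm, hord⟩ : ∃ a m : ℕ, Odd m ∧ orderOf y = 2 ^ a * m := by
    obtain ⟨a, m, hm, h⟩ := Nat.exists_eq_two_pow_mul_odd (orderOf_pos y).ne'
    exact ⟨a, m, hm, h⟩
  set y2 := y ^ 2 ^ a with hy2
  have hodd2 : Odd (orderOf y2) := by
    rw [hy2, orderOf_pow_of_dvd (pow_ne_zero _ two_ne_zero) (hord ▸ dvd_mul_right _ _), hord,
      Nat.mul_div_cancel_left _ (pow_pos two_pos a)]
    exact hm
  have hvy2 : v * y2 * v⁻¹ = y2⁻¹ := by rw [hy2, ← conj_pow, hvy, inv_pow]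
  obtain ⟨w, hw, hw1, hwc⟩ := hS y2 v hv hodd2 hvy2
  refine ⟨q w, ⟨w, hw, rfl⟩, fun h => hw1 ?_, ?_⟩
  · have : w ∈ V ⊓ K := ⟨hw, (QuotientGroup.eq_one_iff w).1 h⟩
    rwa [hVK] at this
  have hc : Commute (q w) (q y2) := (Commute.map (show Commute w y2 from hwc) q)
  have hy2q : q y2 = ((q x) ^ 2 ^ (a + 1))⁻¹ := by
    rw [hy2, map_pow, hyq, ← mul_inv_rev, ← sq, inv_pow, ← pow_mul, ← pow_succ']
  rw [hy2q] at hc
  have hc2 : Commute (q w) ((q x) ^ 2 ^ (a + 1)) := by simpa using hc.inv_right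
  obtain ⟨k, hk⟩ := exists_pow_eq_self_of_coprime (x := q x) (n := 2 ^ (a + 1))
    (Nat.Coprime.pow_left _ (Nat.coprime_two_left.2 hodd))
  rw [← hk]
  exact hc2.pow_right k

end Cfsg.Agent.S3012
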