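import Cfsg.Statements.S3013

set_option autoImplicit false
open Cfsg

namespace Cfsg.Agent.S3013

/-- Let G be a finite group and V a nontrivial elementary abelian 2-subgroup of G satisfying the Sidki pair condition. Let v ∈ V and let x be an element of odd order inverted by v, and put C = C_G(v) ∩ C_G(x), the centralizer of the dihedral subgroup generated by v and x. Then C ∩ V is nontrivial and satisfies the Sidki pair condition inside C: every odd-order element of C inverted by an element of C ∩ V commutes with a nontrivial element of C ∩ V. -/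
theorem result {G : Type*} [Group G] [Finite G] (V : Subgroup G) (hV : Cfsg.IsElementaryAbelian 2 V) (hV1 : V ≠ ⊥) (hS : Cfsg.IsSidkiPair V) (v x : G) (hv : v ∈ V) (hx : Odd (orderOf x)) (hinv : v * x * v⁻¹ = x⁻¹) (C : Subgroup G) (hC : C = Subgroup.centralizer ({v} : Set G) ⊓ Subgroup.centralizer ({x} : Set G)) : C ⊓ V ≠ ⊥ ∧ Cfsg.IsSidkiPair ((C ⊓ V).subgroupOf C) := by
  open Subgroup in
  exact by
    have hVc : ∀ a ∈ V, ∀ b ∈ V, a * b = b * a := fun a ha b hb =>
      congrArg Subtype.val (hV.1.is_comm.comm ⟨a, ha⟩ ⟨b, hb⟩)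
    have hmem : ∀ w ∈ V, w * x = x * w → w ∈ C ⊓ V := fun w hw hwx => by
      subst hC
      exact mem_inf.mpr ⟨mem_inf.mpr ⟨mem_centralizer_singleton_iff.2 (hVc w hw v hv),
        mem_centralizer_singleton_iff.2 hwx⟩, hw⟩
    obtain ⟨w, hw, hw1, hwx⟩ := hS x v hv hx hinv
    refine ⟨fun h => hw1 (mem_bot.1 (h.le (hmem w hw hwx))), ?_⟩
    intro h u hu hodd huh
    obtain ⟨hvh, hxh⟩ := mem_inf.1 (hC.le h.2)
    have h1 : (h : G) * v = v * h := mem_centralizer_singleton_iff.1 hvh
    have h2 : (h : G) * x = x * h := mem_centralizer_singleton_iff.1 hxh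
    have hu' : (u : G) ∈ C ⊓ V := hu
    have hux : (u : G) * x = x * u := mem_centralizer_singleton_iff.1 (mem_inf.1 (hC.le (mem_inf.1 hu').1)).2
    have huh' : (u : G) * h * (u : G)⁻¹ = (h : G)⁻¹ := (congrArg Subtype.val huh :)
    have hho : Odd (orderOf (h : G)) := by rwa [Subgroup.orderOf_coe]
    have hodd' : Odd (orderOf (x * (h : G))) := by
      rw [Nat.odd_iff, ← Nat.two_dvd_ne_zero] at *
      intro hd
      have := hd.trans (Commute.orderOf_mul_dvd_lcm (show Commute x (h : G) from h2.symm))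
      rcases (Nat.prime_two.dvd_mul).1 (this.trans (Nat.lcm_dvd_mul _ _)) with h' | h'
      · exact hx h'
      · exact hho h'
    have hinv' : ((u : G) * v) * (x * h) * ((u : G) * v)⁻¹ = (x * (h : G))⁻¹ := by
      have e1 : v * (h : G) * v⁻¹ = h := by rw [← h1, mul_inv_cancel_right]
      have e2 : (u : G) * x⁻¹ * (u : G)⁻¹ = x⁻¹ := by
        rw [show (u : G) * x⁻¹ * (u : G)⁻¹ = ((u : G) * x * (u : G)⁻¹)⁻¹ by group, hux, mul_inv_cancel_right]
      calc ((u : G) * v) * (x * h) * ((u : G) * v)⁻¹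
          = (u : G) * ((v * x * v⁻¹) * (v * h * v⁻¹)) * (u : G)⁻¹ := by group
        _ = ((u : G) * x⁻¹ * (u : G)⁻¹) * ((u : G) * h * (u : G)⁻¹) := by rw [hinv, e1]; group
        _ = (x * (h : G))⁻¹ := by rw [e2, huh', ← mul_inv_rev, h2]
    obtain ⟨z, hz, hz1, hzxh⟩ := hS _ _ (mul_mem (mem_inf.1 hu').2 hv) hodd' hinv'
    have hzv : z * v = v * z := hVc z hz v hv
    have hzc : Commute z (x * (h : G)) := hzxh
    have hzc' : Commute z (x⁻¹ * (h : G)) := by
      have e : x⁻¹ * (h : G) = v * (x * h) * v⁻¹ := by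
        calc x⁻¹ * (h : G) = (v * x * v⁻¹) * (v * h * v⁻¹) := by rw [hinv, ← h1, mul_inv_cancel_right]
          _ = v * (x * h) * v⁻¹ := by group
      rw [e]
      exact ((show Commute z v from hzv).mul_right hzc).mul_right (show Commute z v from hzv).inv_right
    have hh2 : Commute z ((h : G) ^ 2) := by
      have e : (x * (h : G)) * (x⁻¹ * h) = (h : G) ^ 2 := by
        rw [← h2, pow_two]; group
      rw [← e]; exact hzc.mul_right hzc'
    have hh : Commute z (h : G) := by
      obtain ⟨e, he⟩ := exists_pow_eq_self_of_coprime (x := (h : G)) (n := 2) (Nat.coprime_two_left.2 hho)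
      rw [← he]; exact hh2.pow_right e
    have hzx : z * x = x * z := by
      have := hzc.mul_right hh.inv_right
      rwa [mul_inv_cancel_right] at this
    refine ⟨⟨z, (mem_inf.1 (hmem z hz hzx)).1⟩, hmem z hz hzx, fun hc => hz1 (congrArg Subtype.val hc), Subtype.ext hh⟩

end Cfsg.Agent.S3013
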