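import Cfsg.Statements.S3014
import Cfsg.Agent.Coprime.Generation
import Cfsg.Agent.Transfer.Basic

set_option autoImplicit false
open Cfsg

namespace Cfsg.Agent.S3014

/-- Let G be a finite group and H ≤ M ≤ G subgroups such that for every g ∈ G the subgroup generated by H and g H g⁻¹ meets M exactly in H. If H is a maximal subgroup of M and M is a maximal subgroup of G, then the normal closure of H in G meets M exactly in H. -/
theorem result {G : Type*} [Group G] [Finite G] (H M : Subgroup G) (hHM : H ≤ M) (hcl : ∀ g : G, (H ⊔ H.map (MulAut.conj g).toMonoidHom) ⊓ M = H) (hmaxH : IsCoatom (H.subgroupOf M)) (hmaxM : IsCoatom M) : Subgroup.normalClosure (H : Set G) ⊓ M = H := by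
  classical
  have hH : ∀ g : G, g⁻¹ * g = 1 := inv_mul_cancel
  have hconjH : ∀ m ∈ M, ∀ x ∈ H, m * x * m⁻¹ ∈ H := by
    intro m hm x hx
    have h1 : m * x * m⁻¹ ∈ (H ⊔ H.map (MulAut.conj m).toMonoidHom) ⊓ M :=
      Subgroup.mem_inf.2 ⟨Subgroup.mem_sup_right ⟨x, hx, rfl⟩, mul_mem (mul_mem hm (hHM hx)) (inv_mem hm)⟩
    rwa [hcl m] at h1
  have hMN : M ≤ Subgroup.normalizer (H : Set G) := fun m hm =>
    Subgroup.mem_normalizer_iff.2 fun x => ⟨hconjH m hm x, fun hx => by
      have := hconjH m⁻¹ (inv_mem hm) _ hx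
      simpa [mul_assoc] using this⟩
  have hcap : ∀ g : G, ∀ x ∈ H, g * x * g⁻¹ ∈ M → g * x * g⁻¹ ∈ H := by
    intro g x hx hgx
    have h1 : g * x * g⁻¹ ∈ (H ⊔ H.map (MulAut.conj g).toMonoidHom) ⊓ M :=
      Subgroup.mem_inf.2 ⟨Subgroup.mem_sup_right ⟨x, hx, rfl⟩, hgx⟩
    rwa [hcl g] at h1
  refine le_antisymm ?_ (le_inf Subgroup.le_normalClosure hHM)
  by_cases hex : ∃ g : G, g ∉ M ∧ ∃ y ∈ M, y ∉ H ∧ g * y * g⁻¹ ∈ M
  · obtain ⟨g, hg, y, hy, hyH, hgy⟩ := hex
    set H' := H.map (MulAut.conj g).toMonoidHom with hH'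
    set J := H ⊔ H' with hJ
    set y' := g * y * g⁻¹ with hy'
    have hy'H : y' ∉ H := fun h => hyH (by
      have := hcap g⁻¹ y' h (by simpa [hy', mul_assoc] using hy)
      simpa [hy', mul_assoc] using this)
    have hnorm : y' ∈ Subgroup.normalizer (J : Set G) := by
      refine Cfsg.Lib.Coprime.mem_normalizer_of_conj_mem ?_ ?_ <;>
      · intro x hx
        have key : ∀ w ∈ M, ∀ z ∈ J, g * w * g⁻¹ ∈ M → (g * w * g⁻¹) * z * (g * w * g⁻¹)⁻¹ ∈ J := by
          intro w hw z hz hgw
          have hle : J ≤ J.comap (MulAut.conj (g * w * g⁻¹)).toMonoidHom := by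
            refine sup_le (fun u hu => Subgroup.mem_sup_left (hconjH _ hgw u hu)) ?_
            rintro _ ⟨u, hu, rfl⟩
            refine Subgroup.mem_sup_right ⟨w * u * w⁻¹, hconjH w hw u hu, ?_⟩
            show g * (w * u * w⁻¹) * g⁻¹ = g * w * g⁻¹ * (g * u * g⁻¹) * (g * w * g⁻¹)⁻¹
            simp [mul_assoc]
          exact hle hz
        first
          | exact key y hy x hx hgy
          | (have e : y'⁻¹ = g * y⁻¹ * g⁻¹ := by simp [hy', mul_assoc]
             have := key y⁻¹ (inv_mem hy) x hx (by rw [← e]; exact inv_mem hgy)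
             simpa [hy', mul_assoc] using this)
    have hgenM : (H ⊔ Subgroup.zpowers y').subgroupOf M = ⊤ := by
      refine hmaxH.2 _ (lt_of_le_of_ne (Subgroup.comap_mono le_sup_left) fun he => hy'H ?_)
      have : (⟨y', hgy⟩ : M) ∈ H.subgroupOf M := by
        rw [he]; exact Subgroup.mem_sup_right (Subgroup.mem_zpowers y')
      exact this
    have hMJ : M ≤ Subgroup.normalizer (J : Set G) :=
      (Subgroup.subgroupOf_eq_top.1 hgenM).trans
        (sup_le ((le_sup_left : H ≤ J).trans Subgroup.le_normalizer) (Subgroup.zpowers_le.2 hnorm))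
    have hXJ : Subgroup.normalClosure (H : Set G) ≤ J := by
      by_cases hJM : J ≤ M
      · have hJH : J = H := by
          rw [← hcl g, ← hH', ← hJ, inf_eq_left.2 hJM]
        have hgN : g ∈ Subgroup.normalizer (H : Set G) := by
          have hle : H' ≤ H := (le_sup_right : H' ≤ J).trans hJH.le
          refine Cfsg.Lib.Transfer.map_conj_eq_self_iff.1 (Subgroup.eq_of_le_of_card_ge hle ?_)
          exact (Nat.card_congr (Subgroup.equivMapOfInjective _ _ (MulAut.conj g).injective).toEquiv).le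
        have htop : Subgroup.normalizer (H : Set G) = ⊤ :=
          hmaxM.2 _ (lt_of_le_of_ne hMN fun he => hg (he ▸ hgN))
        haveI := Subgroup.normalizer_eq_top_iff.1 htop
        rw [Subgroup.normalClosure_eq_self]
        exact le_sup_left
      · have htop : Subgroup.normalizer (J : Set G) = ⊤ :=
          hmaxM.2 _ (lt_of_le_of_ne hMJ fun he => hJM (he ▸ Subgroup.le_normalizer))
        haveI := Subgroup.normalizer_eq_top_iff.1 htop
        exact Subgroup.normalClosure_le_normal (SetLike.coe_subset_coe.mpr le_sup_left)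
    refine (inf_le_inf_right M hXJ).trans ?_
    exact (hcl g).le
  push Not at hex
  set Hs := H.subgroupOf M with hHs
  haveI hHsn : Hs.Normal := Subgroup.normal_subgroupOf_of_le_normalizer hMN
  have hcomm : ∀ a b : M ⧸ Hs, a * b = b * a :=
    (Subgroup.Normal.quotient_commutative_iff_commutator_le.2
      (Cfsg.Lib.Coprime.commutator_le_of_normal_coatom hmaxH)).is_comm.comm
  letI : CommGroup (M ⧸ Hs) := { (inferInstance : Group (M ⧸ Hs)) with mul_comm := hcomm }
  set φ : M →* M ⧸ Hs := QuotientGroup.mk' Hs with hφ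
  have hφ1 : ∀ a : M, φ a = 1 ↔ (a : G) ∈ H := fun a => QuotientGroup.eq_one_iff a
  haveI : M.FiniteIndex := inferInstance
  haveI : ∀ g : G, Fintype (Quotient (MulAction.orbitRel (Subgroup.zpowers g) (G ⧸ M))) :=
    fun _ => Fintype.ofFinite _
  set V : G →* M ⧸ Hs := MonoidHom.transfer φ with hV
  have hterm : ∀ (c m : G) (hm : c⁻¹ * m * c ∈ M), m ∈ M → (c ∉ M ∨ m ∈ H) → φ ⟨c⁻¹ * m * c, hm⟩ = 1 := by
    intro c m hm hmM hor
    rw [hφ1]
    have hmH : m ∈ H := by
      rcases hor with hc | h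
      · by_contra hmH
        exact hex c⁻¹ (fun h => hc (by simpa using inv_mem h)) m hmM hmH (by simpa using hm)
      · exact h
    simpa using hcap c⁻¹ m hmH (by simpa using hm)
  have hker : Subgroup.normalClosure (H : Set G) ≤ V.ker := by
    refine Subgroup.normalClosure_le_normal fun h hh => ?_
    show V h = 1
    rw [hV, MonoidHom.transfer_eq_prod_quotient_orbitRel_zpowers_quot]
    exact Finset.prod_eq_one fun q _ => hterm _ _ _ (M.pow_mem (hHM hh) _) (Or.inr (H.pow_mem hh _))
  intro m hm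
  obtain ⟨hmX, hmM⟩ := Subgroup.mem_inf.1 hm
  by_contra hmH
  have h1 : V m = 1 := hker hmX
  rw [hV, MonoidHom.transfer_eq_prod_quotient_orbitRel_zpowers_quot] at h1
  have hbase : m • ((1 : G) : G ⧸ M) = ((1 : G) : G ⧸ M) := by
    show ((m * 1 : G) : G ⧸ M) = _
    rw [QuotientGroup.eq]
    simpa using inv_mem hmM
  set q0 : Quotient (MulAction.orbitRel (Subgroup.zpowers m) (G ⧸ M)) := Quotient.mk _ ((1 : G) : G ⧸ M) with hq0
  have hfix : ∀ z : Subgroup.zpowers m, z • ((1 : G) : G ⧸ M) = ((1 : G) : G ⧸ M) := by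
    rintro ⟨_, i, rfl⟩
    show (m ^ i) • ((1 : G) : G ⧸ M) = _
    show (((m ^ i) * 1 : G) : G ⧸ M) = _
    rw [QuotientGroup.eq]
    simpa using inv_mem (M.zpow_mem hmM i)
  have hq0out : q0.out = ((1 : G) : G ⧸ M) := by
    have := Quotient.mk_out ((1 : G) : G ⧸ M) (s := MulAction.orbitRel (Subgroup.zpowers m) (G ⧸ M))
    obtain ⟨z, hz⟩ := this
    rw [hq0, ← hz]
    exact hfix z
  rw [Fintype.prod_eq_single q0] at h1
  · set c := q0.out.out with hc
    have hcM : c ∈ M := by
      have : ((c : G) : G ⧸ M) = ((1 : G) : G ⧸ M) := by rw [hc, QuotientGroup.out_eq', hq0out]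
      rw [QuotientGroup.eq, mul_one] at this
      simpa using inv_mem this
    rw [hφ1] at h1
    change c⁻¹ * m ^ Function.minimalPeriod (fun x => m • x) q0.out * c ∈ H at h1
    rw [Function.minimalPeriod_eq_one_iff_isFixedPt.2 (by rw [hq0out]; exact hbase), pow_one] at h1
    apply hmH
    have := hconjH c hcM _ h1
    simpa [mul_assoc] using this
  · intro q hq
    refine hterm _ _ _ (M.pow_mem hmM _) (Or.inl fun hc => hq ?_)
    have h2 : q.out = ((1 : G) : G ⧸ M) := by
      rw [← QuotientGroup.out_eq' q.out, QuotientGroup.eq, mul_one]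
      exact inv_mem hc
    rw [hq0, ← h2, Quotient.out_eq]

end Cfsg.Agent.S3014
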