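import Cfsg.Statements.S3015
import Cfsg.Agent.SolvStruct.AlperinClassical
import Cfsg.Agent.Transfer.Basic

set_option autoImplicit false
open Cfsg
open scoped commutatorElement

namespace Cfsg.Agent.S3015

/-- Let G be a finite non-abelian simple group, M a maximal subgroup of G and H a normal subgroup of M of prime index in M. Then G is generated by H together with one of its conjugates. -/
theorem result {G : Type*} [Group G] [Finite G] [IsSimpleGroup G] (hG : ¬ IsMulCommutative G) (M H : Subgroup G) (hmaxM : IsCoatom M) (hHM : H ≤ M) (hHn : (H.subgroupOf M).Normal) (hidx : (H.relIndex M).Prime) : ∃ g : G, H ⊔ H.map (MulAut.conj g).toMonoidHom = ⊤ := by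
  classical
  by_contra hcon
  push Not at hcon
  have hsimp : ∀ K : Subgroup G, Subgroup.normalizer (K : Set G) = ⊤ → K = ⊥ ∨ K = ⊤ := fun K h =>
    (Subgroup.normalizer_eq_top_iff.1 h).eq_bot_or_eq_top
  have hperf : commutator G = ⊤ := by
    rcases (inferInstance : (commutator G).Normal).eq_bot_or_eq_top with h | h
    · refine absurd ⟨⟨fun a b => ?_⟩⟩ hG
      have h1 := Subgroup.commutator_mem_commutator (Subgroup.mem_top a) (Subgroup.mem_top b)
      rw [← _root_.commutator_def, h, Subgroup.mem_bot] at h1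
      exact commutatorElement_eq_one_iff_mul_comm.1 h1
    · exact h
  set q := H.relIndex M with hq
  haveI := Fact.mk hidx
  set Hs := H.subgroupOf M with hHs
  haveI : Hs.Normal := hHn
  have hconjH : ∀ m ∈ M, ∀ x ∈ H, m * x * m⁻¹ ∈ H := fun m hm x hx =>
    hHn.conj_mem ⟨x, hHM hx⟩ hx ⟨m, hm⟩
  have hMN : M ≤ Subgroup.normalizer (H : Set G) := fun m hm =>
    Subgroup.mem_normalizer_iff.2 fun x => ⟨hconjH m hm x, fun hx => by
      simpa [mul_assoc] using hconjH m⁻¹ (inv_mem hm) _ hx⟩
  have hHne : H ≠ M := fun h => hidx.ne_one (by rw [hq, h, Subgroup.relIndex_self])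
  have hHt : H ≠ ⊤ := fun h => hHne (le_antisymm hHM (h ▸ le_top))
  have hmid : ∀ K : Subgroup G, H ≤ K → K ≤ M → K = H ∨ K = M := by
    intro K h1 h2
    have h3 := Subgroup.relIndex_mul_relIndex H K M h1 h2
    rcases (Nat.dvd_prime hidx).1 (Dvd.intro_left _ h3 : K.relIndex M ∣ q) with h | h
    · exact Or.inr (le_antisymm h2 (Subgroup.relIndex_eq_one.1 h))
    · refine Or.inl (le_antisymm (Subgroup.relIndex_eq_one.1 ?_) h1)
      rw [h] at h3
      exact (Nat.eq_of_mul_eq_mul_right hidx.pos (h3.trans (one_mul q).symm))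
  have hq_comm : ∀ a ∈ M, ∀ b ∈ M, a⁻¹ * (b⁻¹ * a * b) ∈ H := by
    intro a ha b hb
    haveI : IsCyclic (M ⧸ Hs) := isCyclic_of_prime_card (p := q) (Subgroup.index_eq_card Hs).symm
    have h1 : (⟨a, ha⟩ : M)⁻¹ * ((⟨b, hb⟩ : M)⁻¹ * ⟨a, ha⟩ * ⟨b, hb⟩) ∈ Hs := by
      refine (QuotientGroup.eq_one_iff _).1 ?_
      rw [QuotientGroup.mk_mul, QuotientGroup.mk_mul, QuotientGroup.mk_mul, QuotientGroup.mk_inv,
        QuotientGroup.mk_inv]
      have hc := (IsCyclic.commGroup (α := M ⧸ Hs)).mul_comm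
        ((⟨a, ha⟩ : M) : M ⧸ Hs) ((⟨b, hb⟩ : M) : M ⧸ Hs)
      rw [mul_assoc (((⟨b, hb⟩ : M) : M ⧸ Hs))⁻¹, hc]
      simp
    exact h1
  have hprop : ∀ g : G, ¬ H.map (MulAut.conj g).toMonoidHom ≤ M →
      (H ⊔ H.map (MulAut.conj g).toMonoidHom) ⊓ M = H := by
    intro g hg
    rcases hmid _ (le_inf le_sup_left hHM) inf_le_right with h | h
    · exact h
    · exfalso
      apply hg
      rcases eq_or_lt_of_le (inf_eq_right.1 h) with h' | h'
      · exact le_sup_right.trans h'.ge
      · exact absurd (hmaxM.2 _ h') (hcon g)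
  have hnormM : ∀ K : Subgroup G, K ≠ ⊥ → K ≠ ⊤ → M ≤ Subgroup.normalizer (K : Set G) →
      Subgroup.normalizer (K : Set G) = M := by
    intro K h1 h2 h3
    rcases eq_or_lt_of_le h3 with h' | h'
    · exact h'.symm
    · rcases hsimp K (hmaxM.2 _ h') with h | h
      · exact absurd h h1
      · exact absurd h h2
  have hlemma : ∀ D : Subgroup G, D ≤ M → ¬ D ≤ H → Subgroup.normalizer (D : Set G) ≤ M := by
    intro D hDM hDH g hg
    by_contra hgM
    by_cases hHb : H = ⊥
    · subst hHb
      have hDeq : D = M := by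
        rcases hmid D bot_le hDM with h | h
        · exact absurd h.le hDH
        · exact h
      subst hDeq
      exact hgM ((hnormM D (fun h => hDH h.le) hmaxM.1 Subgroup.le_normalizer).le hg)
    have hHN : Subgroup.normalizer (H : Set G) = M := hnormM H hHb hHt hMN
    obtain ⟨k, hkN, hkM, hkgood⟩ : ∃ k, k ∈ Subgroup.normalizer (D : Set G) ∧ k ∉ M ∧
        ¬ H.map (MulAut.conj k).toMonoidHom ≤ M := by
      by_cases h1 : H.map (MulAut.conj g).toMonoidHom ≤ M
      · refine ⟨g⁻¹, inv_mem hg, fun h => hgM (by simpa using inv_mem h), fun h2 => ?_⟩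
        have hJ : H ⊔ H.map (MulAut.conj g).toMonoidHom = M := by
          rcases hmid _ le_sup_left (sup_le hHM h1) with h | h
          · exfalso
            apply hgM
            rw [← hHN]
            refine Cfsg.Lib.Transfer.map_conj_eq_self_iff.1 (Subgroup.eq_of_le_of_card_ge
              (le_sup_right.trans h.le) ?_)
            exact (Nat.card_congr (Subgroup.equivMapOfInjective _ _ (MulAut.conj g).injective).toEquiv).le
          · exact h
        have hle : M.map (MulAut.conj g⁻¹).toMonoidHom ≤ M := by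
          conv_lhs => rw [← hJ]
          rw [Subgroup.map_sup]
          refine sup_le h2 ?_
          rintro _ ⟨_, ⟨x, hx, rfl⟩, rfl⟩
          simpa [mul_assoc] using hHM hx
        have hgN : g⁻¹ ∈ Subgroup.normalizer (M : Set G) := Cfsg.Lib.Transfer.map_conj_eq_self_iff.1
          (Subgroup.eq_of_le_of_card_ge hle
            (Nat.card_congr (Subgroup.equivMapOfInjective _ _ (MulAut.conj g⁻¹).injective).toEquiv).le)
        rw [hnormM M (fun h => hHb (le_bot_iff.1 (h ▸ hHM))) hmaxM.1 Subgroup.le_normalizer] at hgN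
        exact hgM (by simpa using inv_mem hgN)
      · exact ⟨g, hg, hgM, h1⟩
    set J := H ⊔ H.map (MulAut.conj k).toMonoidHom with hJ
    have hall : ∀ d ∈ D, k * d * k⁻¹ ∈ H := by
      intro d hd
      by_contra hdH
      have hd' : k * d * k⁻¹ ∈ M := hDM ((Subgroup.mem_normalizer_iff.1 hkN d).1 hd)
      have hnorm : k * d * k⁻¹ ∈ Subgroup.normalizer (J : Set G) := by
        refine Cfsg.Lib.Transfer.map_conj_eq_self_iff.1 ?_
        rw [hJ, Subgroup.map_sup, Subgroup.map_map]
        congr 1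
        · exact Cfsg.Lib.Transfer.map_conj_eq_self_iff.2 (hMN hd')
        · rw [show (MulAut.conj (k * d * k⁻¹)).toMonoidHom.comp (MulAut.conj k).toMonoidHom =
            (MulAut.conj k).toMonoidHom.comp (MulAut.conj d).toMonoidHom by ext; simp [mul_assoc],
            ← Subgroup.map_map, Cfsg.Lib.Transfer.map_conj_eq_self_iff.2 (hMN (hDM hd))]
      have hMJ : M ≤ Subgroup.normalizer (J : Set G) := by
        rcases hmid (H ⊔ Subgroup.zpowers (k * d * k⁻¹)) le_sup_left
          (sup_le hHM (Subgroup.zpowers_le.2 hd')) with h | h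
        · exact absurd (h.le (Subgroup.mem_sup_right (Subgroup.mem_zpowers _))) hdH
        · rw [← h]
          exact sup_le ((le_sup_left : H ≤ J).trans Subgroup.le_normalizer) (Subgroup.zpowers_le.2 hnorm)
      have hJb : J ≠ ⊥ := fun h => hHb (le_bot_iff.1 (h ▸ le_sup_left))
      have h2 := hnormM J hJb (hcon k) hMJ
      apply hkgood
      exact (le_sup_right : _ ≤ J).trans (Subgroup.le_normalizer.trans h2.le)
    apply hDH
    intro d hd
    have hd2 : k⁻¹ * d * k ∈ D := by
      simpa using (Subgroup.mem_normalizer_iff.1 (inv_mem hkN) d).1 hd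
    simpa [mul_assoc] using hall _ hd2
  obtain ⟨Q⟩ : Nonempty (Sylow q M) := inferInstance
  set Q' := (Q : Subgroup M).map M.subtype with hQ'
  have hQM : Q' ≤ M := Subgroup.map_subtype_le _
  have hQH : ¬ Q' ≤ H := by
    intro h
    apply Q.not_dvd_index
    have h1 : (Q : Subgroup M) ≤ Hs := fun x hx => h ⟨x, hx, rfl⟩
    exact (show q ∣ Hs.index from dvd_refl q).trans (Subgroup.index_dvd_of_le h1)
  obtain ⟨P, hP⟩ := (Q.isPGroup'.map M.subtype).exists_le_sylow
  have hPeq : (P : Subgroup G) ≤ M := by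
    by_contra hne
    haveI : Group.IsNilpotent (P : Subgroup G) := P.isPGroup'.isNilpotent
    have hlt : Q'.subgroupOf (P : Subgroup G) < ⊤ :=
      lt_top_iff_ne_top.2 fun h => hne ((Subgroup.subgroupOf_eq_top.1 h).trans hQM)
    obtain ⟨x, hxN, hxQ⟩ := SetLike.exists_of_lt (Group.normalizerCondition_of_isNilpotent _ hlt)
    have hxM : (x : G) ∈ M := by
      refine hlemma Q' hQM hQH (Subgroup.mem_normalizer_iff.2 fun y => ⟨fun hy => ?_, fun hy => ?_⟩)
      · exact (Subgroup.mem_normalizer_iff.1 hxN ⟨y, hP hy⟩).1 hy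
      · have hyP : y ∈ (P : Subgroup G) := by
          simpa [mul_assoc] using mul_mem (mul_mem (inv_mem x.2) (hP hy)) x.2
        exact (Subgroup.mem_normalizer_iff.1 hxN ⟨y, hyP⟩).2 hy
    have hsup : IsPGroup q ((P : Subgroup G).subgroupOf M) :=
      P.isPGroup'.comap_of_injective M.subtype (Subgroup.subtype_injective M)
    have := Q.is_maximal' hsup (fun s hs => hP ⟨s, hs, rfl⟩)
    apply hxQ
    refine ⟨⟨x, hxM⟩, ?_, rfl⟩
    rw [← this]; exact x.2
  have hbracket : ∀ D : Subgroup G, D ≤ M → ∀ x ∈ Subgroup.normalizer (D : Set G), ∀ a ∈ D,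
      ⁅a, x⁆ ∈ H := by
    intro D hDM x hx a ha
    by_cases hDH : D ≤ H
    · have h1 : x * a⁻¹ * x⁻¹ ∈ D := (Subgroup.mem_normalizer_iff.1 hx a⁻¹).1 (inv_mem ha)
      rw [commutatorElement_def, show a * x * a⁻¹ * x⁻¹ = a * (x * a⁻¹ * x⁻¹) by simp [mul_assoc]]
      exact hDH (mul_mem ha h1)
    · have hxM := hlemma D hDM hDH hx
      have := hq_comm a⁻¹ (inv_mem (hDM ha)) x⁻¹ (inv_mem hxM)
      simpa [commutatorElement_def, mul_assoc] using this
  apply hQH
  refine hP.trans ?_
  have h1 := Cfsg.Lib.SolvStruct.Alperin.sylow_inf_commutator_eq P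
  rw [hperf, inf_top_eq] at h1
  rw [h1]
  refine sup_le ?_ (iSup₂_le fun T _ => iSup₂_le fun x hx => ?_)
  · rw [Subgroup.commutator_le]
    exact fun a ha x hx => hbracket _ hPeq x hx a ha
  · rw [Subgroup.commutator_le]
    exact fun a ha y hy => hbracket _ (inf_le_left.trans hPeq) y (Subgroup.zpowers_le.2 hx.1 hy) a ha

end Cfsg.Agent.S3015
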