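import Cfsg.Statements.S3020
import Cfsg.Agent.InvolCalc.StronglyEmbedded
import Cfsg.Agent.Transfer.Basic
import Cfsg.Agent.Components.Local

set_option autoImplicit false
open Cfsg

namespace Cfsg.Agent.S3020

/-- Let G be a finite group, p a prime and H an abelian p-subgroup of G that is extremely closed (for every g, the subgroup generated by H and g H g⁻¹ meets N_G(H) exactly in H). Then for every g ∈ G, the subgroup T generated by H and g H g⁻¹ is the product of H with O_{p'}(T), and H meets O_{p'}(T) trivially; that is, O_{p'}(T) is a normal p-complement of H in T. -/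
theorem result {G : Type*} [Group G] [Finite G] {p : ℕ} [Fact p.Prime] (H : Subgroup G) (hHp : IsPGroup p H) (hHab : IsMulCommutative H) (hcl : Cfsg.IsExtremelyClosed H) (g : G) (T : Subgroup G) (hT : T = H ⊔ H.map (MulAut.conj g).toMonoidHom) : H ⊔ (Cfsg.pPrimeCore p ↥T).map T.subtype = T ∧ H ⊓ (Cfsg.pPrimeCore p ↥T).map T.subtype = ⊥ := by
  open Subgroup in
  exact by
    have hHT : H ≤ T := hT ▸ le_sup_left
    have hcl' : T ⊓ Subgroup.normalizer (H : Set G) = H := hT ▸ hcl g
    clear hT
    have hX : IsPGroup p (H.subgroupOf T) := hHp.comap_subtype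
    have hN : Subgroup.normalizer ((H.subgroupOf T : Subgroup T) : Set T) = H.subgroupOf T := by
      refine le_antisymm (fun x hx => ?_) le_normalizer
      have h1 : (x : G) ∈ Subgroup.normalizer (H : Set G) := mem_normalizer_iff_map_conj_eq.2
        (eq_of_le_of_card_ge (by rintro _ ⟨y, hy, rfl⟩; exact (mem_normalizer_iff.1 hx ⟨y, hHT hy⟩).1 hy)
          (card_map_of_injective (MulEquiv.injective _)).ge)
      exact (hcl'.le (mem_inf.mpr ⟨x.2, h1⟩) : (x : G) ∈ H)
    obtain ⟨Q, hQ⟩ := Cfsg.Lib.StrongEmb.sylow_of_normalizer_le hX (Subgroup.normalizer ((H.subgroupOf T : Subgroup T) : Set T))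
      le_normalizer (fun Y _ hXY hY => le_antisymm (hY.trans hN.le) hXY) le_rfl
    have hburn : Subgroup.normalizer ((Q : Subgroup T) : Set T) ≤ Subgroup.centralizer ((Q : Subgroup T) : Set T) := by
      rw [hQ, hN]
      intro x hx
      exact mem_centralizer_iff.2 fun y hy => Subtype.ext
        (congrArg Subtype.val (hHab.is_comm.comm ⟨(y : G), hy⟩ ⟨(x : G), hx⟩) :)
    have hc := MonoidHom.ker_transferSylow_isComplement' Q hburn
    set N := (MonoidHom.transferSylow Q hburn).ker
    have hcop := (Cfsg.Lib.Transfer.complement_props hc).1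
    haveI : N.Normal := MonoidHom.normal_ker _
    clear_value N
    refine ⟨le_antisymm (sup_le hHT (map_subtype_le _)) ?_, ?_⟩
    · have h1 : N ⊔ (Q : Subgroup T) = ⊤ := hc.sup_eq_top
      have h2 := congrArg (Subgroup.map T.subtype) h1
      rw [Subgroup.map_sup, ← MonoidHom.range_eq_map, range_subtype, hQ, map_subgroupOf_eq_of_le hHT] at h2
      refine h2.ge.trans ?_
      exact sup_le ((map_mono (Cfsg.Lib.Components.le_pPrimeCore hcop)).trans le_sup_right) le_sup_left
    · refine Cfsg.Lib.Components.coprime_pGroup_disjoint hHp ?_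
      rw [card_map_of_injective T.subtype_injective]
      exact Cfsg.Lib.Components.coprime_card_pPrimeCore p

end Cfsg.Agent.S3020
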