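import Cfsg.Statements.S3023
import Cfsg.Agent.Components.Misc.Parabolic
import Cfsg.Agent.S0542

set_option autoImplicit false
open Cfsg

namespace Cfsg.Agent.S3023

/-- Let p be a prime, G a finite group of parabolic characteristic p (every p-local subgroup containing a Sylow p-subgroup of G has characteristic p), S a Sylow p-subgroup of G and G₁ a subnormal subgroup of G. If the centre of S ∩ G₁ is nontrivial and contained in the centre of S, then G₁ has parabolic characteristic p. -/
theorem result {G : Type*} [Group G] [Finite G] {p : ℕ} [Fact p.Prime] (hG : Cfsg.IsOfParabolicCharacteristic p G) (S : Sylow p G) (G₁ : Subgroup G) (hsn : G₁.IsSubnormal) (hne : ((S : Subgroup G) ⊓ G₁) ⊓ Subgroup.centralizer (((S : Subgroup G) ⊓ G₁ : Subgroup G) : Set G) ≠ ⊥) (hle : ((S : Subgroup G) ⊓ G₁) ⊓ Subgroup.centralizer (((S : Subgroup G) ⊓ G₁ : Subgroup G) : Set G) ≤ (S : Subgroup G) ⊓ Subgroup.centralizer ((S : Subgroup G) : Set G)) : Cfsg.IsOfParabolicCharacteristic p ↥G₁ := by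
  obtain ⟨Q, hQ⟩ := Cfsg.Agent.S0542.result p G₁ hsn S
  refine Cfsg.Lib.Components.parabolic_of_center Q fun z hz1 hzp hz => ?_
  rw [hQ] at hz
  refine Cfsg.Lib.Components.charP_centralizer_subnormal hsn
    (Cfsg.Lib.Components.charP_centralizer_of_parabolic hG S (fun h => hz1 (Subtype.ext h))
      (hle ⟨⟨hz.1, z.2⟩, Subgroup.mem_centralizer_iff.2 fun x hx => ?_⟩))
  exact congrArg Subtype.val (Subgroup.mem_centralizer_iff.1 hz.2 ⟨x, hx.2⟩ hx.1)

end Cfsg.Agent.S3023
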