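import Cfsg.Statements.S3031
import Cfsg.Agent.Components.HSub.Main

set_option autoImplicit false
open Cfsg

namespace Cfsg.Agent.S3031

/-- Let G be a finite group, p the smallest prime dividing |G| and P a Sylow p-subgroup. Suppose that P is cyclic, or that P has a subgroup D with 1 < |D| < |P| such that every subgroup E of P of order |D|, and also every subgroup E of P of order 4 when |D| = 2, satisfies g E g⁻¹ ∩ N_G(E) ≤ E for all g ∈ G (E is strongly closed in its normalizer with respect to G). Then G has a normal p-complement. -/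
theorem result {G : Type*} [Group G] [Finite G] {p : ℕ} [Fact p.Prime] (hdiv : p ∣ Nat.card G)
    (hmin : ∀ q : ℕ, q.Prime → q ∣ Nat.card G → p ≤ q) (P : Sylow p G)
    (h : IsCyclic ↥(P : Subgroup G) ∨ ∃ D : Subgroup G, D ≤ (P : Subgroup G) ∧ 1 < Nat.card D ∧ Nat.card D < Nat.card (P : Subgroup G) ∧
      ∀ E : Subgroup G, E ≤ (P : Subgroup G) → (Nat.card E = Nat.card D ∨ (Nat.card D = 2 ∧ Nat.card E = 4)) →
        ∀ g : G, E.map (MulAut.conj g).toMonoidHom ⊓ Subgroup.normalizer (E : Set G) ≤ E) :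
    Cfsg.HasNormalPComplement p G := by
  classical
  have hpmin : (Nat.card G).minFac = p := by
    refine le_antisymm (Nat.minFac_le_of_dvd (Fact.out : p.Prime).two_le hdiv) ?_
    refine hmin _ (Nat.minFac_prime fun h1 => ?_) (Nat.minFac_dvd _)
    rw [h1, Nat.dvd_one] at hdiv
    exact (Fact.out : p.Prime).ne_one hdiv
  rcases h with hc | ⟨D, hDP, hD1, hD, hE⟩
  · exact ⟨P, _, MonoidHom.normal_ker _, IsCyclic.isComplement' hpmin hc⟩
  obtain ⟨k, hk⟩ := IsPGroup.iff_card.mp (P.2.to_le hDP)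
  have hk1 : 1 ≤ k := by
    rcases Nat.eq_zero_or_pos k with rfl | h
    · rw [pow_zero] at hk; omega
    · exact h
  have key : ∀ E : Subgroup G, E ≤ (P : Subgroup G) →
      (Nat.card E = Nat.card D ∨ (Nat.card D = 2 ∧ Nat.card E = 4)) →
      ∀ g : G, ∀ x ∈ E, g * x * g⁻¹ ∈ (P : Subgroup G) → g * x * g⁻¹ ∈ E := by
    intro E hEP hEc
    have hPN : (P : Subgroup G) ≤ Subgroup.normalizer (E : Set G) := by
      by_contra hne
      set N := (P : Subgroup G) ⊓ Subgroup.normalizer (E : Set G) with hN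
      have hNlt : N < (P : Subgroup G) :=
        lt_of_le_of_ne inf_le_left fun h => hne (inf_eq_left.mp h)
      obtain ⟨u, hu, huN⟩ := SetLike.exists_of_lt (Cfsg.Lib.Transfer.lt_inf_normalizer_of_lt P hNlt)
      have hle : E.map (MulAut.conj u).toMonoidHom ≤ E := by
        intro y hy
        refine hE E hEP hEc u ⟨hy, ?_⟩
        obtain ⟨x, hx, rfl⟩ := hy
        have hm : u * x * u⁻¹ ∈ N :=
          (Subgroup.mem_normalizer_iff.mp hu.2 x).mp ⟨hEP hx, Subgroup.le_normalizer hx⟩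
        exact hm.2
      apply huN
      refine ⟨hu.1, Cfsg.Lib.Transfer.map_conj_eq_self_iff.mp ?_⟩
      exact Subgroup.eq_of_le_of_card_ge hle (le_of_eq (Cfsg.Lib.Transfer.card_map_conj _ u).symm)
    intro g x hx hgx
    exact hE E hEP hEc g ⟨⟨x, hx, rfl⟩, hPN hgx⟩
  refine Cfsg.Lib.HSub.main p _ G rfl hmin P k hk1 (hk ▸ hD) ?_ ?_
  · exact fun E hEP hEc => key E hEP (Or.inl (hEc.trans hk.symm))
  · intro h2 hk1'
    subst h2 hk1'
    refine Cfsg.Lib.HSub.SC.wc fun E hEP hEc => key E hEP (Or.inr ⟨?_, hEc⟩)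
    rw [hk]; rfl

end Cfsg.Agent.S3031
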