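import Cfsg.Statements.S3032
import Cfsg.Agent.Components.HSub.Supersolvable
import Cfsg.Agent.Fusion.Saturation

set_option autoImplicit false
open Cfsg

namespace Cfsg.Agent.S3032


open Subgroup

section

universe v
variable {G : Type v} [Group G] [Finite G]

/-- the subgroups of order `d` of a `p`-subgroup that are strongly closed in their normalizer -/
theorem key {p : ℕ} [Fact p.Prime] {P : Subgroup G} (hP : IsPGroup p P) {E : Subgroup G}
    (hEP : E ≤ P)
    (hE : ∀ g : G, E.map (MulAut.conj g).toMonoidHom ⊓ normalizer (E : Set G) ≤ E) :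
    ∀ g : G, ∀ x ∈ E, g * x * g⁻¹ ∈ P → g * x * g⁻¹ ∈ E := by
  have hPN : P ≤ normalizer (E : Set G) := by
    by_contra hne
    set N := P ⊓ normalizer (E : Set G)
    have hNlt : N < P := lt_of_le_of_ne inf_le_left fun h => hne (inf_eq_left.mp h)
    obtain ⟨u, hu, huN⟩ := SetLike.exists_of_lt (Cfsg.Lib.Fusion.lt_inf_normalizer hP hNlt le_rfl)
    have hle : E.map (MulAut.conj u).toMonoidHom ≤ E := by
      intro y hy
      refine hE u ⟨hy, ?_⟩
      obtain ⟨x, hx, rfl⟩ := hy
      have hm : u * x * u⁻¹ ∈ N :=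
        (mem_normalizer_iff.mp hu.2 x).mp ⟨hEP hx, le_normalizer hx⟩
      exact hm.2
    refine huN ⟨hu.1, Cfsg.Lib.Transfer.map_conj_eq_self_iff.mp ?_⟩
    exact Subgroup.eq_of_le_of_card_ge hle (le_of_eq (Cfsg.Lib.Transfer.card_map_conj _ u).symm)
  intro g x hx hgx
  exact hE g ⟨⟨x, hx, rfl⟩, hPN hgx⟩

/-- the hypothesis -/
def Good (E : Subgroup G) : Prop :=
  ∀ p : ℕ, p.Prime → ∀ P : Subgroup G, P ≤ E → IsPGroup p P → ¬ p ∣ P.relIndex E → ¬ IsCyclic P →
    ∃ k : ℕ, 1 ≤ k ∧ p ^ k < Nat.card P ∧ Cfsg.Lib.HSub.SC P (p ^ k) ∧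
      (p = 2 → k = 1 → Cfsg.Lib.HSub.SC P 4)

/-- a nontrivial normal Sylow subgroup -/
theorem exists_normal_sylow (n : ℕ) : ∀ E : Subgroup G, Nat.card E = n → E.Normal → E ≠ ⊥ →
    Good E → ∃ q : ℕ, q.Prime ∧ ∃ Q : Subgroup G, Q ≤ E ∧ Q.Normal ∧ Q ≠ ⊥ ∧ IsPGroup q Q ∧
      ¬ q ∣ Q.relIndex E := by
  induction n using Nat.strong_induction_on with
  | _ n ih =>
  intro E hn hEn hE1 hgood
  haveI := hEn
  set p := (Nat.card E).minFac
  have hp : p.Prime := Nat.minFac_prime fun h => hE1 (Subgroup.card_eq_one.mp h)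
  haveI := Fact.mk hp
  have hmin : Cfsg.Lib.HSub.Least E p := fun q hq hqd => Nat.minFac_le_of_dvd hq.two_le hqd
  obtain ⟨P⟩ := (inferInstance : Nonempty (Sylow p E))
  have hrelP : ((P : Subgroup E).map E.subtype).relIndex E = (P : Subgroup E).index := by
    show (((P : Subgroup E).map E.subtype).subgroupOf E).index = _
    rw [show ((P : Subgroup E).map E.subtype).subgroupOf E = (P : Subgroup E) from
      comap_map_eq_self_of_injective E.subtype_injective _]
  have hnpc : Cfsg.HasNormalPComplement p E := by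
    by_cases hc : IsCyclic (P : Subgroup E)
    · exact ⟨P, _, MonoidHom.normal_ker _, IsCyclic.isComplement' rfl hc⟩
    have hcP : ¬ IsCyclic ((P : Subgroup E).map E.subtype) := fun h =>
      hc ((Subgroup.equivMapOfInjective _ _ E.subtype_injective).isCyclic.mpr h)
    obtain ⟨k, hk, hkd, hsc, h4⟩ := hgood p hp _ (map_subtype_le _) (P.2.map E.subtype)
      (by rw [hrelP]; exact P.not_dvd_index) hcP
    rw [Subgroup.card_map_of_injective E.subtype_injective] at hkd
    have hback : ∀ m : ℕ, Cfsg.Lib.HSub.SC ((P : Subgroup E).map E.subtype) m →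
        Cfsg.Lib.HSub.SC (P : Subgroup E) m := by
      intro m hm F hF hFc g x hx hgx
      exact (mem_map_iff_mem E.subtype_injective).mp (hm (F.map E.subtype) (map_mono hF)
        (by rw [Subgroup.card_map_of_injective E.subtype_injective, hFc]) g x
        (mem_map_of_mem E.subtype hx) (mem_map_of_mem E.subtype hgx))
    exact Cfsg.Lib.HSub.main p _ E rfl hmin P k hk hkd (hback _ hsc)
      fun h2 h1 => (hback 4 (h4 h2 h1)).wc
  obtain ⟨N, hN, hcompl⟩ := Cfsg.Lib.Transfer.exists_complement_of_hasNormalPComplement hnpc P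
  haveI := hN
  have hidx : N.index = Nat.card (P : Subgroup E) :=
    hcompl.symm.index_eq_card
  have hcardN : Nat.card N = (P : Subgroup E).index := hcompl.index_eq_card.symm
  by_cases hNb : N = ⊥
  · refine ⟨p, hp, E, le_rfl, hEn, hE1, ?_, ?_⟩
    · have hPtop : (P : Subgroup E) = ⊤ := by
        rw [hNb] at hcompl; exact Subgroup.isComplement'_bot_left.mp hcompl
      have h := P.2
      rw [hPtop] at h
      exact h.of_equiv Subgroup.topEquiv
    · rw [relIndex_self, Nat.dvd_one]; exact hp.ne_one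
  haveI : N.Characteristic := characteristic_iff_le_comap.mpr fun e x hx => by
    have h1 : orderOf (QuotientGroup.mk' N (e x)) ∣ Nat.card (P : Subgroup E) := by
      rw [← hidx, index_eq_card]; exact orderOf_dvd_natCard _
    have h2 : orderOf (QuotientGroup.mk' N (e x)) ∣ (P : Subgroup E).index := by
      rw [← hcardN]
      refine (orderOf_map_dvd _ _).trans ?_
      rw [MulEquiv.orderOf_eq]
      exact Subgroup.orderOf_dvd_natCard N hx
    show e x ∈ N
    exact (QuotientGroup.eq_one_iff (e x)).mp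
      (orderOf_eq_one_iff.mp (Nat.eq_one_of_dvd_coprimes P.card_coprime_index h1 h2))
  set N' := N.map E.subtype
  have hN'n : N'.Normal := inferInstance
  have hN'E : N' ≤ E := map_subtype_le N
  have hrelN : N'.relIndex E = Nat.card (P : Subgroup E) := by
    show (N'.subgroupOf E).index = _
    rw [show N'.subgroupOf E = N from comap_map_eq_self_of_injective E.subtype_injective _, hidx]
  obtain ⟨b, hb⟩ := IsPGroup.iff_card.mp P.2
  have hN'card : Nat.card N' = (P : Subgroup E).index := by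
    rw [Subgroup.card_map_of_injective E.subtype_injective, hcardN]
  have hne : ∀ q : ℕ, q.Prime → q ∣ Nat.card N' → q ≠ p := by
    intro q hq hd h
    rw [hN'card, h] at hd
    exact P.not_dvd_index hd
  have hlift : ∀ q : ℕ, q.Prime → q ≠ p → ∀ R : Subgroup G, R ≤ N' → ¬ q ∣ R.relIndex N' →
      ¬ q ∣ R.relIndex E := by
    intro q hq hqp R hR hnd hd
    rw [← relIndex_mul_relIndex R N' E hR hN'E, hrelN, hb] at hd
    rcases hq.dvd_mul.mp hd with h | h
    · exact hnd h
    · exact hqp ((Nat.prime_dvd_prime_iff_eq hq hp).mp (hq.dvd_of_dvd_pow h))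
  have hlt : Nat.card N' < n := by
    rw [hN'card, ← hn, ← (P : Subgroup E).card_mul_index]
    refine lt_mul_of_one_lt_left Nat.card_pos ?_
    refine Finite.one_lt_card_iff_nontrivial.mpr ((nontrivial_iff_ne_bot _).mpr ?_)
    intro h
    have := P.not_dvd_index
    rw [h, index_bot] at this
    exact this (Nat.minFac_dvd _)
  have hgood' : Good N' := by
    intro q hq R hR hRp hnd hc
    refine hgood q hq R (hR.trans hN'E) hRp (hlift q hq ?_ R hR hnd) hc
    refine hne q hq ?_
    haveI := Fact.mk hq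
    obtain ⟨r, hr⟩ := IsPGroup.iff_card.mp hRp
    rcases Nat.eq_zero_or_pos r with rfl | hr0
    · exfalso
      rw [pow_zero] at hr
      refine hc ?_
      rw [Subgroup.card_eq_one.mp hr]
      infer_instance
    · exact ((dvd_pow_self q hr0.ne').trans hr.symm.dvd).trans (Subgroup.card_dvd_of_le hR)
  obtain ⟨q, hq, Q, hQN, hQn, hQ1, hQp, hQnd⟩ := ih _ hlt N' rfl hN'n
    (fun h => hNb ((map_eq_bot_iff_of_injective _ E.subtype_injective).mp h)) hgood'
  refine ⟨q, hq, Q, hQN.trans hN'E, hQn, hQ1, hQp, hlift q hq ?_ Q hQN hQnd⟩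
  refine hne q hq ?_
  haveI := Fact.mk hq
  obtain ⟨r, hr⟩ := IsPGroup.iff_card.mp hQp
  have hr0 : r ≠ 0 := fun h => hQ1 (Subgroup.card_eq_one.mp (by rw [hr, h, pow_zero]))
  exact ((dvd_pow_self q hr0).trans hr.symm.dvd).trans (Subgroup.card_dvd_of_le hQN)

end

universe w

theorem aux : ∀ n : ℕ, ∀ (G : Type w) [Group G] [Finite G], Nat.card G = n →
    ∀ (E : Subgroup G) [E.Normal], Cfsg.IsSupersolvable (G ⧸ E) → Good E →
      Cfsg.IsSupersolvable G := by
  intro n
  induction n using Nat.strong_induction_on with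
  | _ n ih =>
  intro G _ _ hn E _ hGE hgood
  by_cases hE1 : E = ⊥
  · haveI : IsCyclic E := by subst hE1; infer_instance
    exact Cfsg.Lib.SolvStruct.isSupersolvable_of_quotient E hGE
  obtain ⟨q, hq, Q, hQE, hQn, hQ1, hQp, hQnd⟩ := exists_normal_sylow _ E rfl inferInstance hE1 hgood
  haveI := hQn
  haveI := Fact.mk hq
  set π := QuotientGroup.mk' Q
  have hπ : Function.Surjective π := QuotientGroup.mk'_surjective Q
  haveI : (E.map π).Normal := Subgroup.Normal.map inferInstance π hπ
  have hEback : (E.map π).comap π = E := by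
    rw [comap_map_eq, QuotientGroup.ker_mk', sup_eq_left.mpr hQE]
  have hgood' : Good (E.map π) := by
    intro p hp R hR hRp hnd hc
    haveI := Fact.mk hp
    -- a Sylow subgroup of the preimage
    set R₁ := R.comap π
    have hR₁E : R₁ ≤ E := hEback ▸ comap_mono hR
    obtain ⟨S⟩ := (inferInstance : Nonempty (Sylow p R₁))
    set S' := (S : Subgroup R₁).map R₁.subtype
    have hS'R : S' ≤ R₁ := map_subtype_le _
    have hS'p : IsPGroup p S' := S.2.map R₁.subtype
    have hrelS : S'.relIndex R₁ = (S : Subgroup R₁).index := by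
      show (S'.subgroupOf R₁).index = _
      rw [show S'.subgroupOf R₁ = (S : Subgroup R₁) from
        comap_map_eq_self_of_injective R₁.subtype_injective _]
    have hpq : p ≠ q := by
      intro h
      subst h
      refine hc ?_
      have h1 : ¬ p ∣ Nat.card (E.map π) := by
        have h := Subgroup.relIndex_ker E π
        rw [QuotientGroup.ker_mk'] at h
        rw [← h]
        exact hQnd
      obtain ⟨r, hr⟩ := IsPGroup.iff_card.mp hRp
      rcases Nat.eq_zero_or_pos r with rfl | hr0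
      · rw [pow_zero] at hr
        rw [Subgroup.card_eq_one.mp hr]
        infer_instance
      · exact absurd (((dvd_pow_self p hr0.ne').trans hr.symm.dvd).trans (Subgroup.card_dvd_of_le hR)) h1
    obtain ⟨a, ha⟩ := IsPGroup.iff_card.mp hQp
    have hdisj : S' ⊓ Q = ⊥ := by
      obtain ⟨s, hs⟩ := IsPGroup.iff_card.mp hS'p
      exact Cfsg.Lib.Coprime.inf_eq_bot_of_coprime
        (by rw [hs, ha]; exact Nat.Coprime.pow s a ((Nat.coprime_primes hp hq).mpr hpq))
    have hQR : Q ≤ R₁ := fun x hx => by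
      rw [mem_comap, show π x = 1 from (QuotientGroup.eq_one_iff x).mpr hx]; exact one_mem R
    have hcardR : Nat.card R₁ = Nat.card Q * Nat.card R := by
      have h := relIndex_mul_relIndex (⊥ : Subgroup G) Q R₁ bot_le hQR
      rw [relIndex_bot_left, relIndex_bot_left] at h
      rw [← h]
      congr 1
      have hr := Subgroup.relIndex_ker R₁ π
      rw [QuotientGroup.ker_mk', map_comap_eq_self_of_surjective hπ] at hr
      exact hr
    have hcardS : Nat.card S' = Nat.card R := by
      obtain ⟨r, hr⟩ := IsPGroup.iff_card.mp hRp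
      rw [Subgroup.card_map_of_injective R₁.subtype_injective, Sylow.card_eq_multiplicity, hcardR, ha,
        hr, Nat.factorization_mul (pow_ne_zero _ hq.ne_zero) (pow_ne_zero _ hp.ne_zero),
        hp.factorization_pow, hq.factorization_pow]
      simp [Finsupp.single_eq_of_ne hpq]
    have hinj : ∀ F : Subgroup G, F ≤ S' → Nat.card (F.map π) = Nat.card F := by
      intro F hF
      have h := Subgroup.relIndex_ker F π
      rw [QuotientGroup.ker_mk'] at h
      rw [← h, ← inf_relIndex_right, inf_comm, le_bot_iff.mp ((inf_le_inf_right Q hF).trans hdisj.le),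
        relIndex_bot_left]
    have hmapS : S'.map π = R := by
      refine Subgroup.eq_of_le_of_card_ge ?_ (by rw [hinj S' le_rfl, hcardS])
      exact (map_mono hS'R).trans (map_comap_le π R)
    have hnd' : ¬ p ∣ S'.relIndex E := by
      rw [← relIndex_mul_relIndex S' R₁ E hS'R hR₁E, hp.dvd_mul, not_or, hrelS]
      refine ⟨S.not_dvd_index, ?_⟩
      rwa [show R₁ = R.comap π from rfl, ← hEback, relIndex_comap,
        map_comap_eq_self_of_surjective hπ]
    have hcS : ¬ IsCyclic S' := by
      intro h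
      refine hc ?_
      rw [← hmapS]
      exact isCyclic_of_surjective (π.subgroupMap S') (π.subgroupMap_surjective S')
    obtain ⟨k, hk, hkd, hsc, h4⟩ := hgood p hp S' (hS'R.trans hR₁E) hS'p hnd' hcS
    have hconv : ∀ m : ℕ, Cfsg.Lib.HSub.SC S' m → Cfsg.Lib.HSub.SC R m := by
      intro m hm F hF hFc g x hx hgx
      set F₀ := S' ⊓ F.comap π
      have hmap : F₀.map π = F := by
        refine le_antisymm ((map_mono inf_le_right).trans (map_comap_le π F)) fun y hy => ?_
        obtain ⟨s, hs, rfl⟩ := hmapS.ge (hF hy)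
        exact mem_map_of_mem π ⟨hs, hy⟩
      have hF₀ : Nat.card F₀ = m := by rw [← hinj F₀ inf_le_left, hmap, hFc]
      obtain ⟨g, rfl⟩ := hπ g
      rw [← hmap] at hx
      obtain ⟨x, hx, rfl⟩ := hx
      rw [← map_inv, ← map_mul, ← map_mul] at hgx ⊢
      -- move `g x g⁻¹` into `S'` by an element of `Q`
      have hgxR : g * x * g⁻¹ ∈ R₁ := hgx
      obtain ⟨r, hr⟩ := IsPGroup.iff_card.mp hS'p
      have hxp : IsPGroup p (zpowers (⟨g * x * g⁻¹, hgxR⟩ : R₁)) := by
        refine IsPGroup.of_card (n := (orderOf x).factorization p) ?_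
        obtain ⟨i, hi, hi'⟩ := (Nat.dvd_prime_pow hp).mp (hr ▸ Subgroup.orderOf_dvd_natCard _ hx.1)
        rw [Nat.card_zpowers, Subgroup.orderOf_mk, ← MulAut.conj_apply, MulEquiv.orderOf_eq, hi',
          hp.factorization_pow, Finsupp.single_eq_same]
      obtain ⟨T, hT⟩ := hxp.exists_le_sylow
      obtain ⟨c, hc'⟩ := MulAction.exists_smul_eq R₁ T S
      have hcx : (c : G) * (g * x * g⁻¹) * (c : G)⁻¹ ∈ S' := by
        refine ⟨c * ⟨g * x * g⁻¹, hgxR⟩ * c⁻¹, ?_, rfl⟩
        rw [← hc']
        exact Cfsg.Lib.Transfer.mem_conj_sylow_iff.mpr (hT (mem_zpowers _))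
      -- write `c` as a product of an element of `S'` and one of `Q`
      obtain ⟨s, hs, hsc'⟩ : ∃ s ∈ S', π s = π c := hmapS.ge (show π c ∈ R from c.2)
      have hmem : ((s⁻¹ * c) * g) * x * ((s⁻¹ * c) * g)⁻¹ ∈ S' := by
        have := mul_mem (mul_mem (inv_mem hs) hcx) hs
        convert this using 1
        group
      have := mem_map_of_mem π (hm F₀ inf_le_left hF₀ _ x hx hmem)
      rw [hmap] at this
      convert this using 1
      simp [hsc']
    exact ⟨k, hk, hcardS ▸ hkd, hconv _ hsc, fun h2 h1 => hconv 4 (h4 h2 h1)⟩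
  have hssQ : Cfsg.IsSupersolvable (G ⧸ Q) := by
    refine ih _ (hn ▸ Cfsg.Lib.Coprime.card_quotient_lt hQ1) (G ⧸ Q) rfl (E.map π) ?_ hgood'
    exact Cfsg.Lib.SolvStruct.isSupersolvable_of_surjective hGE
      (QuotientGroup.quotientQuotientEquivQuotient Q E hQE).symm.toMonoidHom
      (QuotientGroup.quotientQuotientEquivQuotient Q E hQE).symm.surjective
  by_cases hQc : IsCyclic Q
  · exact Cfsg.Lib.SolvStruct.isSupersolvable_of_quotient Q hssQ
  obtain ⟨k, hk, hkd, hsc, h4⟩ := hgood q hq Q hQE hQp hQnd hQc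
  have hnorm : ∀ m : ℕ, Cfsg.Lib.HSub.SC Q m → ∀ F : Subgroup G, F ≤ Q → Nat.card F = m → F.Normal :=
    fun m hm F hF hFc => ⟨fun x hx g => hm F hF hFc g x hx (hQn.conj_mem x (hF hx) g)⟩
  exact Cfsg.Lib.HSub.supersolvable_of_normal hQp hk hkd (hnorm _ hsc)
    (fun h2 h1 => hnorm 4 (h4 h2 h1)) hssQ

/-- Let G be a finite group and E a normal subgroup with G/E supersolvable. Suppose that for every prime p and every non-cyclic Sylow p-subgroup P of E there is a subgroup D of P with 1 < |D| < |P| such that every subgroup F of P of order |D|, and also every subgroup F of P of order 4 when |D| = 2, satisfies g F g⁻¹ ∩ N_G(F) ≤ F for all g ∈ G. Then G is supersolvable. -/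
theorem result {G : Type*} [Group G] [Finite G] (E : Subgroup G) [E.Normal] (hGE : Cfsg.IsSupersolvable (G ⧸ E))
    (h : ∀ (p : ℕ), p.Prime → ∀ P : Subgroup G, P ≤ E → IsPGroup p P → ¬ p ∣ P.relIndex E → ¬ IsCyclic ↥P →
      ∃ D : Subgroup G, D ≤ P ∧ 1 < Nat.card D ∧ Nat.card D < Nat.card P ∧
        ∀ F : Subgroup G, F ≤ P → (Nat.card F = Nat.card D ∨ (Nat.card D = 2 ∧ Nat.card F = 4)) →
          ∀ g : G, F.map (MulAut.conj g).toMonoidHom ⊓ Subgroup.normalizer (F : Set G) ≤ F) :
    Cfsg.IsSupersolvable G := by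
  refine aux _ G rfl E hGE ?_
  intro p hp P hPE hPp hnd hc
  haveI := Fact.mk hp
  obtain ⟨D, hDP, hD1, hD, hF⟩ := h p hp P hPE hPp hnd hc
  obtain ⟨k, hk⟩ := IsPGroup.iff_card.mp (hPp.to_le hDP)
  refine ⟨k, ?_, hk ▸ hD, fun F hFP hFc => key hPp hFP (hF F hFP (Or.inl (hFc.trans hk.symm))),
    fun h2 h1 F hFP hFc => key hPp hFP (hF F hFP (Or.inr ⟨?_, hFc⟩))⟩
  · rcases Nat.eq_zero_or_pos k with rfl | h
    · rw [pow_zero] at hk; omega
    · exact h
  · rw [hk, h1, h2]; rfl

end Cfsg.Agent.S3032
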