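import Cfsg.Statements.S3036
import Cfsg.Agent.Components.CD.Lattice

set_option autoImplicit false
open Cfsg

namespace Cfsg.Agent.S3036

/-- Let G be a finite non-abelian simple group and A a proper nontrivial subgroup of G. Then |G| > |A| · |C_G(A)|. In particular |G| > |A|² for every nontrivial abelian subgroup A of G. -/
theorem result {G : Type*} [Group G] [Finite G] [IsSimpleGroup G] (hG : ¬ IsMulCommutative G) (A : Subgroup G) (hA1 : A ≠ ⊥) (hA2 : A ≠ ⊤) : Nat.card A * Nat.card ↥(Subgroup.centralizer (A : Set G)) < Nat.card G := by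
  classical
  by_contra hcon
  push Not at hcon
  have hmap : ∀ (g : G) (R : Subgroup G), Cfsg.Lib.CD.meas (R.map (MulAut.conj g).toMonoidHom) =
      Cfsg.Lib.CD.meas R := by
    intro g R
    have hc : ∀ K : Subgroup G, Nat.card (K.map (MulAut.conj g).toMonoidHom) = Nat.card K := fun K =>
      (Nat.card_congr (Subgroup.equivMapOfInjective _ _ (MulAut.conj g).injective).toEquiv).symm
    have hC : Subgroup.centralizer ((R.map (MulAut.conj g).toMonoidHom : Subgroup G) : Set G) =
        (Subgroup.centralizer (R : Set G)).map (MulAut.conj g).toMonoidHom := by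
      ext y
      constructor
      · intro hy
        refine ⟨(MulAut.conj g).symm y, Subgroup.mem_centralizer_iff.2 fun r hr => ?_, (MulAut.conj g).apply_symm_apply y⟩
        apply (MulAut.conj g).injective
        rw [map_mul, map_mul, MulEquiv.apply_symm_apply]
        exact Subgroup.mem_centralizer_iff.1 hy _ ⟨r, hr, rfl⟩
      · rintro ⟨x, hx, rfl⟩
        refine Subgroup.mem_centralizer_iff.2 ?_
        rintro _ ⟨r, hr, rfl⟩
        rw [← map_mul, ← map_mul, Subgroup.mem_centralizer_iff.1 hx r hr]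
    rw [Cfsg.Lib.CD.meas, Cfsg.Lib.CD.meas, hC, hc, hc]
  have hcenter : Subgroup.center G = ⊥ := by
    rcases (inferInstance : (Subgroup.center G).Normal).eq_bot_or_eq_top with h | h
    · exact h
    · exact absurd ⟨⟨fun a b => Subgroup.mem_center_iff.1 (h ▸ Subgroup.mem_top b) a⟩⟩ hG
  obtain ⟨R, hRlarge, hRb, hRt⟩ : ∃ R : Subgroup G, Cfsg.IsCentralizerLarge R ∧ R ≠ ⊥ ∧ R ≠ ⊤ := by
    obtain ⟨R, hR⟩ := Cfsg.Lib.CD.exists_large (P := G)
    by_cases hRb : R = ⊥ ∨ R = ⊤
    · refine ⟨A, Cfsg.Lib.CD.large_iff.2 ?_, hA1, hA2⟩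
      refine le_trans (le_of_eq ?_) hcon
      rw [← (show Cfsg.Lib.CD.meas R = Cfsg.maxCentralizerProduct G from hR)]
      rcases hRb with rfl | rfl
      · rw [Cfsg.Lib.CD.meas, Subgroup.card_bot, one_mul,
          show Subgroup.centralizer ((⊥ : Subgroup G) : Set G) = ⊤ from
            eq_top_iff.2 fun x _ => Subgroup.mem_centralizer_iff.2 fun y hy => by
              rw [Subgroup.mem_bot.1 hy]; simp, Subgroup.card_top]
      · rw [Cfsg.Lib.CD.meas, Subgroup.card_top,
          show Subgroup.centralizer ((⊤ : Subgroup G) : Set G) = Subgroup.center G from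
            (by rw [Subgroup.coe_top, Subgroup.centralizer_univ]), hcenter, Subgroup.card_bot, mul_one]
    · push Not at hRb
      exact ⟨R, hR, hRb.1, hRb.2⟩
  obtain ⟨M, hRM, hM⟩ := Finite.exists_le_maximal
    (p := fun M : Subgroup G => Cfsg.IsCentralizerLarge M ∧ M ≠ ⊤) (a := R) ⟨hRlarge, hRt⟩
  obtain ⟨hMl, hMt⟩ := hM.prop
  have hnorm : M.Normal := by
    refine ⟨fun x hx g => ?_⟩
    set M' := M.map (MulAut.conj g).toMonoidHom with hM'
    have hM'l : Cfsg.IsCentralizerLarge M' := Cfsg.Lib.CD.large_iff.2 (by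
      rw [hM', hmap]; exact Cfsg.Lib.CD.large_iff.1 hMl)
    obtain ⟨hprod, hjl, -⟩ := Cfsg.Lib.CD.large_sup_inf hMl hM'l
    by_cases htop : M ⊔ M' = ⊤
    · exfalso
      have hg : g⁻¹ ∈ ((M ⊔ M' : Subgroup G) : Set G) := by rw [htop]; trivial
      rw [hprod] at hg
      obtain ⟨a, ha, _, ⟨b, hb, rfl⟩, hab⟩ := Set.mem_mul.1 hg
      change a * (g * b * g⁻¹) = g⁻¹ at hab
      have hgM : g ∈ M := by
        have h1 := congrArg (fun w => a⁻¹ * (w * g) * b⁻¹) hab
        have h2 : g = a⁻¹ * b⁻¹ := by simpa [mul_assoc] using h1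
        rw [h2]
        exact mul_mem (inv_mem ha) (inv_mem hb)
      apply hMt
      rw [← htop]
      refine le_antisymm le_sup_left (sup_le le_rfl ?_)
      rintro _ ⟨y, hy, rfl⟩
      exact mul_mem (mul_mem hgM hy) (inv_mem hgM)
    · exact hM.le_of_ge (y := M ⊔ M') ⟨hjl, htop⟩ le_sup_left (Subgroup.mem_sup_right ⟨x, hx, rfl⟩)
  rcases hnorm.eq_bot_or_eq_top with h | h
  · exact hRb (le_bot_iff.1 (h ▸ hRM))
  · exact hMt h

end Cfsg.Agent.S3036
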