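import Cfsg.Statements.S3037

set_option autoImplicit false
open Cfsg

namespace Cfsg.Agent.S3037

/-- Let V and G be subgroups of a finite group with V an elementary abelian p-group (p prime) on which G acts faithfully and irreducibly by conjugation: G normalizes V, G ∩ C(V) = 1, and the only subgroups of V normalized by G are 1 and V. If for some nontrivial subgroup A of G and some real α > 0 one has |V| ≤ |A|^α · |C_V(A)|, then |V| ≤ |G|^α. -/
theorem result {X : Type*} [Group X] [Finite X] {p : ℕ} [Fact p.Prime] (V G : Subgroup X) (hV : Cfsg.IsElementaryAbelian p V)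
    (hGV : G ≤ Subgroup.normalizer (V : Set X)) (hfaith : G ⊓ Subgroup.centralizer (V : Set X) = ⊥)
    (hirr : ∀ W : Subgroup X, W ≤ V → G ≤ Subgroup.normalizer (W : Set X) → W = ⊥ ∨ W = V)
    (A : Subgroup X) (hA : A ≤ G) (hA1 : A ≠ ⊥) (α : ℝ) (hα : 0 < α)
    (hbig : (Nat.card V : ℝ) ≤ (Nat.card A : ℝ) ^ α * (Nat.card ↥(V ⊓ Subgroup.centralizer (A : Set X)) : ℝ)) :
    (Nat.card V : ℝ) ≤ (Nat.card G : ℝ) ^ α := by
  open Subgroup in
  open scoped Classical in
  exact by
    let f : Subgroup X → ℝ := fun H => (Nat.card H : ℝ) ^ α * (Nat.card ↥(V ⊓ centralizer (H : Set X)) : ℝ)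
    have hfpos : ∀ H, 0 < f H := fun H => mul_pos (Real.rpow_pos_of_pos (by exact_mod_cast Nat.card_pos) α)
      (by exact_mod_cast Nat.card_pos)
    have hcardle : ∀ H K : Subgroup X, Nat.card H * Nat.card K ≤ Nat.card ↥(H ⊔ K) * Nat.card ↥(H ⊓ K) := by
      intro H K
      have h1 := relIndex_mul_relIndex ⊥ (H ⊓ K) K bot_le inf_le_right
      have h2 := relIndex_mul_relIndex ⊥ H (H ⊔ K) bot_le le_sup_left
      rw [relIndex_bot_left, relIndex_bot_left] at h1 h2
      rw [inf_relIndex_right] at h1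
      have h3 : H.relIndex K ≤ H.relIndex (H ⊔ K) :=
        relIndex_le_of_le_right le_sup_right index_ne_zero_of_finite
      rw [← h1, ← h2]
      calc Nat.card H * (Nat.card ↥(H ⊓ K) * H.relIndex K)
          ≤ Nat.card H * (Nat.card ↥(H ⊓ K) * H.relIndex (H ⊔ K)) := by gcongr
        _ = _ := by ring
    have hV' : ∀ a ∈ V, ∀ b ∈ V, a * b = b * a := fun a ha b hb => congrArg Subtype.val (hV.1.is_comm.comm ⟨a, ha⟩ ⟨b, hb⟩)
    have hsuper : ∀ H K : Subgroup X, f H * f K ≤ f (H ⊔ K) * f (H ⊓ K) := by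
      intro H K
      set C₁ := V ⊓ centralizer (H : Set X)
      set C₂ := V ⊓ centralizer (K : Set X)
      have e1 : V ⊓ centralizer ((H ⊔ K : Subgroup X) : Set X) = C₁ ⊓ C₂ := by
        refine le_antisymm (le_inf (inf_le_inf_left _ (centralizer_le (SetLike.coe_subset_coe.2 le_sup_left)))
          (inf_le_inf_left _ (centralizer_le (SetLike.coe_subset_coe.2 le_sup_right)))) ?_
        rintro v ⟨⟨hv, h1⟩, -, h2⟩
        refine ⟨hv, mem_centralizer_iff.2 fun y hy => ?_⟩
        have : H ⊔ K ≤ centralizer ({v} : Set X) := sup_le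
          (fun y hy => mem_centralizer_singleton_iff.2 (mem_centralizer_iff.1 h1 y hy))
          (fun y hy => mem_centralizer_singleton_iff.2 (mem_centralizer_iff.1 h2 y hy))
        exact mem_centralizer_singleton_iff.1 (this hy)
      have e2 : C₁ ⊔ C₂ ≤ V ⊓ centralizer ((H ⊓ K : Subgroup X) : Set X) :=
        sup_le (inf_le_inf_left _ (centralizer_le (SetLike.coe_subset_coe.2 inf_le_left)))
          (inf_le_inf_left _ (centralizer_le (SetLike.coe_subset_coe.2 inf_le_right)))
      have h1 : (Nat.card H : ℝ) * Nat.card K ≤ Nat.card ↥(H ⊔ K) * Nat.card ↥(H ⊓ K) := by exact_mod_cast hcardle H K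
      have h2 : (Nat.card C₁ : ℝ) * Nat.card C₂ ≤ Nat.card ↥(C₁ ⊓ C₂) * Nat.card ↥(V ⊓ centralizer ((H ⊓ K : Subgroup X) : Set X)) := by
        have h := (hcardle C₁ C₂).trans (Nat.mul_le_mul_right _ (card_le_of_le e2))
        calc (Nat.card C₁ : ℝ) * Nat.card C₂ ≤ (Nat.card ↥(V ⊓ centralizer ((H ⊓ K : Subgroup X) : Set X)) : ℝ) * Nat.card ↥(C₁ ⊓ C₂) := by exact_mod_cast h
          _ = _ := mul_comm _ _
      show _ * _ * (_ * _) ≤ _ * (Nat.card ↥(V ⊓ centralizer ((H ⊔ K : Subgroup X) : Set X)) : ℝ) * (_ * _)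
      rw [e1]
      calc (Nat.card H : ℝ) ^ α * Nat.card C₁ * ((Nat.card K : ℝ) ^ α * Nat.card C₂)
          = ((Nat.card H : ℝ) * Nat.card K) ^ α * ((Nat.card C₁ : ℝ) * Nat.card C₂) := by
            rw [Real.mul_rpow (by positivity) (by positivity)]; ring
        _ ≤ ((Nat.card ↥(H ⊔ K) : ℝ) * Nat.card ↥(H ⊓ K)) ^ α *
            ((Nat.card ↥(C₁ ⊓ C₂) : ℝ) * Nat.card ↥(V ⊓ centralizer ((H ⊓ K : Subgroup X) : Set X))) :=
            mul_le_mul (Real.rpow_le_rpow (by positivity) h1 hα.le) h2 (by positivity) (by positivity)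
        _ = _ := by rw [Real.mul_rpow (by positivity) (by positivity)]; ring
    let S : Finset (Subgroup X) := (Set.toFinite {H : Subgroup X | H ≤ G}).toFinset
    obtain ⟨H₀, hH₀, hmax⟩ := S.exists_max_image f ⟨A, (Set.Finite.mem_toFinset _).2 hA⟩
    replace hH₀ : H₀ ≤ G := (Set.Finite.mem_toFinset _).1 hH₀
    replace hmax : ∀ H : Subgroup X, H ≤ G → f H ≤ f H₀ := fun H hH => hmax H ((Set.Finite.mem_toFinset _).2 hH)
    have hjoin : ∀ H K : Subgroup X, H ≤ G → K ≤ G → f H = f H₀ → f K = f H₀ → f (H ⊔ K) = f H₀ := by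
      intro H K hH hK e1 e2
      refine le_antisymm (hmax _ (sup_le hH hK)) ?_
      have h := (hsuper H K).trans (mul_le_mul_of_nonneg_left (hmax _ (inf_le_left.trans hH)) (hfpos _).le)
      rw [e1, e2] at h
      exact le_of_mul_le_mul_right h (hfpos _)
    obtain ⟨B, ⟨hBG, hBf⟩, hBmax⟩ := (Set.toFinite {H : Subgroup X | H ≤ G ∧ f H = f H₀}).exists_maximal ⟨H₀, hH₀, rfl⟩
    have htop : ∀ H : Subgroup X, H ≤ G → f H = f H₀ → H ≤ B := fun H hH e =>
      le_sup_right.trans (hBmax ⟨sup_le hBG hH, hjoin B H hBG hH hBf e⟩ le_sup_left)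
    have hBne : B ≠ ⊥ := by
      intro hB
      have h1 : f A = f H₀ := by
        refine le_antisymm (hmax A hA) ?_
        have : f B = (Nat.card V : ℝ) := by
          show (Nat.card B : ℝ) ^ α * (Nat.card ↥(V ⊓ centralizer (B : Set X)) : ℝ) = _
          have e : V ⊓ centralizer (B : Set X) = V := inf_eq_left.2 fun v _ => mem_centralizer_iff.2 fun y hy => by
            rw [mem_bot.1 (show y ∈ (⊥ : Subgroup X) from hB ▸ hy), one_mul, mul_one]
          rw [e, hB, card_bot, Nat.cast_one, Real.one_rpow, one_mul]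
        rw [← hBf, this]
        exact hbig
      exact hA1 (le_bot_iff.1 (hB ▸ htop A hA h1))
    have hGV : ∀ g ∈ G, ∀ v, v ∈ V ↔ g * v * g⁻¹ ∈ V := fun g hg => mem_normalizer_iff.1 (hGV hg)
    have hCconj : ∀ g ∈ G, V ⊓ centralizer ((B.map (MulAut.conj g).toMonoidHom : Subgroup X) : Set X) =
        (V ⊓ centralizer (B : Set X)).map (MulAut.conj g).toMonoidHom := by
      intro g hg
      ext v
      constructor
      · rintro ⟨hv, hc⟩
        refine ⟨g⁻¹ * v * g, ⟨(hGV g hg _).2 (by simpa [mul_assoc] using hv), mem_centralizer_iff.2 fun b hb => ?_⟩,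
          by simp [mul_assoc]⟩
        have h := mem_centralizer_iff.1 hc _ ⟨b, hb, rfl⟩
        simp only [MulEquiv.coe_toMonoidHom, MulAut.conj_apply] at h
        calc b * (g⁻¹ * v * g) = g⁻¹ * ((g * b * g⁻¹) * v) * g := by group
          _ = g⁻¹ * (v * (g * b * g⁻¹)) * g := by rw [h]
          _ = g⁻¹ * v * g * b := by group
      · rintro ⟨u, ⟨hu, hc⟩, rfl⟩
        refine ⟨(hGV g hg u).1 hu, mem_centralizer_iff.2 ?_⟩
        rintro _ ⟨b, hb, rfl⟩
        show g * b * g⁻¹ * (g * u * g⁻¹) = g * u * g⁻¹ * (g * b * g⁻¹)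
        rw [show g * b * g⁻¹ * (g * u * g⁻¹) = g * (b * u) * g⁻¹ by group, mem_centralizer_iff.1 hc b hb]
        group
    have hBconj : ∀ g ∈ G, B.map (MulAut.conj g).toMonoidHom = B := by
      intro g hg
      refine eq_of_le_of_card_ge (htop _ ?_ ?_) (card_map_of_injective (MulEquiv.injective _)).ge
      · rintro _ ⟨b, hb, rfl⟩
        exact G.mul_mem (G.mul_mem hg (hBG hb)) (G.inv_mem hg)
      · rw [← hBf]
        simp only [f]
        rw [hCconj g hg, card_map_of_injective (MulEquiv.injective _), card_map_of_injective (MulEquiv.injective _)]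
    set W := V ⊓ centralizer (B : Set X) with hW
    have hWG : G ≤ normalizer (W : Set X) := by
      intro g hg
      refine mem_normalizer_iff_map_conj_eq.2 ?_
      show W.map (MulAut.conj g).toMonoidHom = W
      rw [hW, ← hCconj g hg, hBconj g hg]
    rcases hirr W inf_le_left hWG with h | h
    · have h1 : (Nat.card V : ℝ) ≤ f B := by rw [hBf]; exact hbig.trans (hmax A hA)
      have h2 : f B = (Nat.card B : ℝ) ^ α := by
        show (Nat.card B : ℝ) ^ α * (Nat.card W : ℝ) = _
        rw [h, card_bot, Nat.cast_one, mul_one]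
      refine h1.trans (h2.le.trans (Real.rpow_le_rpow (by positivity) ?_ hα.le))
      exact_mod_cast card_le_of_le hBG
    · refine absurd (le_bot_iff.1 (hfaith ▸ le_inf hBG (fun b hb => mem_centralizer_iff.2 fun v hv => ?_))) hBne
      exact (mem_centralizer_iff.1 (mem_inf.1 (h.ge hv : v ∈ W)).2 b hb).symm

end Cfsg.Agent.S3037
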