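import Cfsg.Statements.S3038
import Cfsg.Agent.Components.Misc.IsolatedRankTwo
import Cfsg.Agent.Components.Misc.WreathTransfer
import Cfsg.Agent.PGroups.RankTwoIsolated.Shape
import Cfsg.Agent.PGroups.RankTwoIsolated.NoWreath
import Cfsg.Agent.PGroups.Regular
import Cfsg.Agent.Coprime.CommutatorFixedGeneration
import Cfsg.Agent.Frobenius.UniqueSubgroup
import Cfsg.Agent.S1447

set_option autoImplicit false
open Cfsg

namespace Cfsg.Agent.S3038

open Subgroup
open scoped commutatorElement

universe u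

section Inner

variable {K : Type u} [Group K] [Finite K] {p : ℕ} [Fact p.Prime]

theorem mem_norm {T : Subgroup K} {a : K} (h : ∀ c ∈ T, a * c * a⁻¹ ∈ T) :
    a ∈ normalizer (T : Set K) := mem_normalizer_fintype (S := (T : Set K)) h

/-- commutators of a product of a subgroup and a subgroup normalising it -/
theorem commutator_sup_le_aux {P B T : Subgroup K} (hN : P ⊔ B ≤ normalizer (T : Set K))
    (hPP : ⁅P, P⁆ ≤ T) (hPB : ⁅P, B⁆ ≤ T) (hBB : ⁅B, B⁆ ≤ T) : ⁅P ⊔ B, P ⊔ B⁆ ≤ T := by
  have hBP : ⁅B, P⁆ ≤ T := by rw [commutator_comm]; exact hPB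
  have hcen : ∀ a ∈ (P : Set K) ∪ B, ∀ b ∈ P ⊔ B, ⁅a, b⁆ ∈ T := by
    intro a ha b hb
    have haN : a ∈ normalizer (T : Set K) := hN (ha.elim mem_sup_left mem_sup_right)
    rw [← closure_eq P, ← closure_eq B, ← Subgroup.closure_union] at hb
    induction hb using closure_induction with
    | mem b hb =>
      rcases ha with ha | ha <;> rcases hb with hb | hb
      exacts [hPP (commutator_mem_commutator ha hb), hPB (commutator_mem_commutator ha hb),
        hBP (commutator_mem_commutator ha hb), hBB (commutator_mem_commutator ha hb)]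
    | one => simp
    | mul c d hc hd ihc ihd =>
      have hcN : c ∈ normalizer (T : Set K) := by
        rw [Subgroup.closure_union, closure_eq, closure_eq] at hc; exact hN hc
      rw [Cfsg.Lib.CommFixedGen.comm_mul_right]
      exact mul_mem ihc ((mem_normalizer_iff.1 hcN _).1 ihd)
    | inv c hc ihc =>
      have hcN : c ∈ normalizer (T : Set K) := by
        rw [Subgroup.closure_union, closure_eq, closure_eq] at hc; exact hN hc
      rw [show ⁅a, c⁻¹⁆ = c⁻¹ * ⁅a, c⁆⁻¹ * c⁻¹⁻¹ by simp only [commutatorElement_def]; group]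
      exact (mem_normalizer_iff.1 (inv_mem hcN) _).1 (inv_mem ihc)
  rw [commutator_le]
  intro a ha b hb
  rw [← closure_eq P, ← closure_eq B, ← Subgroup.closure_union] at ha
  induction ha using closure_induction with
  | mem a ha => exact hcen a ha b hb
  | one => simp
  | mul c d hc hd ihc ihd =>
    have hcN : c ∈ normalizer (T : Set K) := by
      rw [Subgroup.closure_union, closure_eq, closure_eq] at hc; exact hN hc
    rw [Cfsg.Lib.CommFixedGen.comm_mul_left]
    exact mul_mem ((mem_normalizer_iff.1 hcN _).1 ihd) ihc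
  | inv c hc ihc =>
    have hcN : c ∈ normalizer (T : Set K) := by
      rw [Subgroup.closure_union, closure_eq, closure_eq] at hc; exact hN hc
    rw [show ⁅c⁻¹, b⁆ = c⁻¹ * ⁅c, b⁆⁻¹ * c⁻¹⁻¹ by simp only [commutatorElement_def]; group]
    exact (mem_normalizer_iff.1 (inv_mem hcN) _).1 (inv_mem ihc)

/-- a complement in the normaliser of a Sylow subgroup of a perfect group without wreath quotient -/
theorem exists_complement (hperf : commutator K = ⊤) (S : Sylow p K)
    (hno : ∀ (W : Sylow p (Equiv.Perm (Fin (p ^ 2))))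
      (f : ↥(S : Subgroup K) →* ↥(W : Subgroup (Equiv.Perm (Fin (p ^ 2))))), ¬ Function.Surjective f) :
    ∃ B : Subgroup K, B ≤ normalizer ((S : Subgroup K) : Set K) ∧
      (Nat.card B).Coprime (Nat.card ↥(S : Subgroup K)) ∧ ⁅(S : Subgroup K), B⁆ = (S : Subgroup K) := by
  classical
  set P : Subgroup K := (S : Subgroup K) with hP
  set N := normalizer (P : Set K) with hNdef
  have hPN : P ≤ N := le_normalizer
  haveI : (P.subgroupOf N).Normal := normal_in_normalizer
  have hco : (Nat.card (P.subgroupOf N)).Coprime (P.subgroupOf N).index := by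
    obtain ⟨k, hk⟩ := IsPGroup.iff_card.1 S.2
    rw [Nat.card_congr (subgroupOfEquivOfLe hPN).toEquiv, hk]
    refine Nat.Coprime.pow_left k (((Fact.out : p.Prime).coprime_iff_not_dvd).2 fun h => ?_)
    exact S.not_dvd_index (h.trans (relIndex_dvd_index_of_le hPN))
  obtain ⟨H, hH⟩ := exists_right_complement'_of_coprime hco
  set B := H.map N.subtype with hB
  have hBN : B ≤ N := map_subtype_le H
  have hcard : (Nat.card B).Coprime (Nat.card P) := by
    rw [hB, Subgroup.card_map_of_injective N.subtype_injective,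
      ← Nat.card_congr (subgroupOfEquivOfLe hPN).toEquiv, ← hH.symm.index_eq_card]
    exact hco.symm
  have hNeq : N = P ⊔ B := by
    have h := congrArg (map N.subtype) hH.sup_eq_top
    rw [Subgroup.map_sup, subgroupOf_map_subtype, inf_eq_left.2 hPN, ← MonoidHom.range_eq_map, range_subtype] at h
    exact h.symm
  refine ⟨B, hBN, hcard, ?_⟩
  have hPB : ⁅P, B⁆ ≤ P := Cfsg.Lib.Coprime.commutator_le_of_le_normalizer hBN
  have hPP : ⁅P, P⁆ ≤ P := Cfsg.Lib.Coprime.commutator_le_of_le_normalizer le_normalizer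
  suffices hsuff : ⁅P, B⁆ ⊔ ⁅P, P⁆ = P by
    have h1 := Cfsg.Lib.PGroups.Regular.eq_of_sup_commutator (G := ↥P) S.2
      (H := ⁅P, B⁆.subgroupOf P) (X := ⊤) le_top ?_
    · exact le_antisymm hPB (fun a ha => mem_subgroupOf.1 (h1.ge (mem_top (⟨a, ha⟩ : P))))
    · apply map_injective P.subtype_injective
      rw [Subgroup.map_sup, subgroupOf_map_subtype, inf_eq_left.2 hPB, map_commutator,
        ← MonoidHom.range_eq_map, range_subtype, hsuff]
  set M := ⁅P, B⁆ ⊔ ⁅P, P⁆ with hM
  have hMP : M ≤ P := sup_le hPB hPP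
  refine le_antisymm hMP ?_
  have hsp : P ≤ ⁅N, N⁆ := by
    by_contra hle
    obtain ⟨W, f, hf⟩ := Cfsg.Lib.Misc.WreathTransfer.main S (fun h => hle (by
      rw [hperf, inf_top_eq] at h
      exact inf_eq_left.1 h.symm))
    exact hno W f hf
  set T := M ⊔ ⁅B, B⁆ with hT
  have hTP : P ≤ normalizer (T : Set K) := fun a ha => mem_norm (by
    intro c hc
    rw [show a * c * a⁻¹ = ⁅a, c⁆ * c by simp only [commutatorElement_def]; group]
    refine mul_mem (mem_sup_left ?_) hc
    have hc' : c ∈ P ⊔ B := (sup_le (hMP.trans le_sup_left)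
      ((commutator_le_self B).trans le_sup_right) : T ≤ P ⊔ B) hc
    obtain ⟨q, hq, b, hb, rfl⟩ := (Cfsg.Lib.Coprime.mem_sup_of_le_normalizer hBN).1 hc'
    rw [Cfsg.Lib.CommFixedGen.comm_mul_right,
      show q * ⁅a, b⁆ * q⁻¹ = ⁅q, ⁅a, b⁆⁆ * ⁅a, b⁆ by simp only [commutatorElement_def]; group]
    exact mul_mem (mem_sup_right (commutator_mem_commutator ha hq))
      (mul_mem (mem_sup_right (commutator_mem_commutator hq (hPB (commutator_mem_commutator ha hb))))
        (mem_sup_left (commutator_mem_commutator ha hb))))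
  have hTB : B ≤ normalizer (T : Set K) :=
    Cfsg.Lib.Coprime.le_normalizer_sup (Cfsg.Lib.Coprime.le_normalizer_sup
      (Cfsg.Lib.Coprime.le_normalizer_commutator_right B P)
      (Cfsg.Lib.CommFixedGen.le_normalizer_commutator hBN hBN))
      (Cfsg.Lib.CommFixedGen.le_normalizer_commutator le_normalizer le_normalizer)
  have hle := hsp.trans (hNeq ▸ commutator_sup_le_aux (sup_le hTP hTB)
    ((le_sup_right : ⁅P, P⁆ ≤ M).trans le_sup_left) ((le_sup_left : ⁅P, B⁆ ≤ M).trans le_sup_left)
    le_sup_right)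
  intro a ha
  have hMn : ⁅B, B⁆ ≤ normalizer (M : Set K) := (commutator_le_self B).trans
    (Cfsg.Lib.Coprime.le_normalizer_sup (Cfsg.Lib.Coprime.le_normalizer_commutator_right B P)
      (Cfsg.Lib.CommFixedGen.le_normalizer_commutator hBN hBN))
  obtain ⟨m, hm, c, hc, rfl⟩ := (Cfsg.Lib.Coprime.mem_sup_of_le_normalizer hMn).1 (hle ha)
  have hc1 : c = 1 := Cfsg.Lib.Coprime.eq_one_of_coprime hcard (commutator_le_self B hc)
    (by simpa using mul_mem (inv_mem (hMP hm)) ha)
  rw [hc1, mul_one]
  exact hm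

/-- the shape of a Sylow subgroup with a central element fixed by the complement -/
theorem sylow_shape (hp : p ≠ 2) (S : Sylow p K) (hrk : Cfsg.PRankLE p 2 ↥(S : Subgroup K)) {B : Subgroup K}
    (hBN : B ≤ normalizer ((S : Subgroup K) : Set K))
    (hcop : (Nat.card B).Coprime (Nat.card ↥(S : Subgroup K)))
    (hfull : ⁅(S : Subgroup K), B⁆ = (S : Subgroup K)) (e : K) (he : e ∈ (S : Subgroup K))
    (hec : ∀ a ∈ (S : Subgroup K), a * e = e * a) (hep : e ^ p = 1) (he1 : e ≠ 1)
    (heB : ∀ b ∈ B, b * e = e * b) :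
    (Cfsg.IsExtraspecial p ↥(S : Subgroup K) ∧ Nat.card ↥(S : Subgroup K) = p ^ 3 ∧
        ∀ a : ↥(S : Subgroup K), a ^ p = 1) ∨
    (p = 3 ∧ ∃ k : ℕ, 2 ≤ k ∧ Nat.card ↥(S : Subgroup K) = 3 ^ (2 * k + 1) ∧
      ∃ _ : Group.IsNilpotent ↥(S : Subgroup K), Group.nilpotencyClass ↥(S : Subgroup K) = 2 * k) := by
  classical
  set P : Subgroup K := (S : Subgroup K) with hP
  let act : B → (↥P ≃* ↥P) := fun b => P.normalizerMonoidHom ⟨b, hBN b.2⟩
  have hact : ∀ (b : B) (a : P), ((act b a : P) : K) = b * a * (b : K)⁻¹ := fun b a => rfl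
  refine Cfsg.Lib.PGroups.RankTwoIsolated.shape hp hrk (Set.range act) (e := ⟨e, he⟩)
    (mem_center_iff.2 fun a => Subtype.ext (hec a a.2)) (Subtype.ext (by simpa using hep))
    (fun h => he1 (congrArg Subtype.val h)) ?_ ?_ S.2 ?_
  · rintro _ ⟨b, rfl⟩
    refine Subtype.ext ?_
    rw [hact]
    show (b : K) * e * (b : K)⁻¹ = e
    rw [heB b b.2, mul_inv_cancel_right]
  · intro V hV hcomm w hw
    set V' := V.map P.subtype with hV'
    have hV'P : V' ≤ P := map_subtype_le V
    have hconj : ∀ b : B, ∀ c ∈ V', (b : K) * c * (b : K)⁻¹ ∈ V' := by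
      rintro b _ ⟨v, hv, rfl⟩
      exact ⟨act b v, hV _ ⟨b, rfl⟩ v hv, hact b v⟩
    have hBV : B ≤ normalizer (V' : Set K) := fun b hb =>
      mem_norm fun c hc => hconj ⟨b, hb⟩ c hc
    have hPP : ⁅P, P⁆ ≤ V' := by
      rw [← map_subtype_commutator]
      exact map_mono hcomm
    have hPV : P ≤ normalizer (V' : Set K) := fun a ha =>
      mem_norm fun c hc => by
        rw [show a * c * a⁻¹ = ⁅a, c⁆ * c by simp only [commutatorElement_def]; group]
        exact mul_mem (hPP (commutator_mem_commutator ha (hV'P hc))) hc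
    have hVcop : (Nat.card B).Coprime (Nat.card V') := hcop.coprime_dvd_right (card_dvd_of_le hV'P)
    haveI : Group.IsNilpotent V' := (S.2.to_le hV'P).isNilpotent
    obtain ⟨m, hm, hc⟩ := Cfsg.Lib.Coprime.exists_fixed_of_commutator_mem hBV hVcop
      (Or.inr inferInstance) (k := (w : K)) (hPV w.2) (fun b hb => by
        refine ⟨_, hw _ ⟨⟨b, hb⟩, rfl⟩, ?_⟩
        simp [hact])
    have hwm : (w : K) * m ∈ ⁅P, B⁆ ⊔ V' := mem_sup_left (by rw [hfull]; exact mul_mem w.2 (hV'P hm))
    have h := Cfsg.Lib.CommFixedGen.mem_of_fixed_of_mem_commutator hBN hBV hV'P hPP hcop hwm hc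
    have hw' : (w : K) ∈ V' := by simpa using mul_mem h (inv_mem hm)
    obtain ⟨v, hv, hvw⟩ := hw'
    rwa [← Subtype.ext hvw]
  · intro hm
    have hBp : (Nat.card B).Coprime p := by
      refine Nat.Coprime.coprime_dvd_right ?_ hcop
      exact (orderOf_eq_prime hep he1) ▸ (by simpa using orderOf_dvd_natCard (⟨e, he⟩ : P))
    have h := (Cfsg.Agent.S1447.result p hp P B S.2 hm hBN hBp).2.2.1
    refine he1 (mem_bot.1 (h ▸ ⟨by rw [hfull]; exact he, he, mem_centralizer_iff.2 heB⟩))

end Inner

/-- a `p`-group of odd order centralised by an outside element of order `p` in rank two is cyclic -/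
theorem cyclic_case {G : Type u} [Group G] [Finite G] {p : ℕ} [Fact p.Prime] (hp : p ≠ 2)
    (hrank : Cfsg.PRankLE p 2 G) (R : Subgroup G) (hR : IsPGroup p R) (y : G) (hy : orderOf y = p)
    (hyR : ∀ r ∈ R, r * y = y * r) (hnot : ∀ H : Subgroup G, H ≤ R → y ∉ H) : IsCyclic R := by
  suffices huniq : ∀ a b : R, orderOf a = p → orderOf b = p → b ∈ zpowers a by
    rcases Cfsg.Lib.UniqueSub.isCyclic_or_quaternion hR huniq with h | ⟨h2, -⟩
    · exact h
    · exact absurd h2 hp
  intro a b ha hb
  haveI : Nontrivial R := ⟨⟨a, 1, fun h => by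
    rw [h, orderOf_one] at ha; exact (Fact.out : p.Prime).ne_one ha.symm⟩⟩
  haveI := hR.center_nontrivial
  obtain ⟨k, hk⟩ := IsPGroup.iff_card.1 (hR.to_subgroup (center R))
  have hk0 : k ≠ 0 := by
    rintro rfl
    rw [pow_zero] at hk
    exact (Finite.one_lt_card (α := center R)).ne' hk
  obtain ⟨⟨u, huc⟩, hu⟩ := exists_prime_orderOf_dvd_card' (G := center R) p (hk ▸ dvd_pow_self p hk0)
  rw [Subgroup.orderOf_mk] at hu
  have hprime := (Fact.out : p.Prime)
  have hpow : ∀ c : R, orderOf c = p → (c : G) ^ p = 1 := fun c hc => by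
    rw [← SubgroupClass.coe_pow, ← hc, pow_orderOf_eq_one, Subgroup.coe_one]
  have hu1 : (u : G) ≠ 1 := fun h => by
    have : u = 1 := Subtype.ext h
    rw [this, orderOf_one] at hu; exact hprime.ne_one hu.symm
  have hin : ∀ c : R, orderOf c = p → c ∈ zpowers u := by
    intro c hc
    have h := Cfsg.Lib.PGroups.RankTwoIsolated.mem_zpowers_of_rank hrank
      (u := (u : G)) (e := (c : G)) (y := y) (congrArg Subtype.val (mem_center_iff.1 huc c)).symm
      (hyR u u.2) (hyR c c.2) (hpow u hu) (hpow c hc) (hy ▸ pow_orderOf_eq_one y) hu1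
      (hnot _ ((closure_le R).2 (by rintro g (rfl | rfl) <;> simp)))
    obtain ⟨i, hi⟩ := h
    exact ⟨i, Subtype.ext (by simpa using hi)⟩
  have ha' := Cfsg.Lib.PGroups.RankTwoIsolated.mem_zpowers_symm (X := R) (p := p)
    (hu ▸ pow_orderOf_eq_one u) (ha ▸ pow_orderOf_eq_one a)
    (fun h => by rw [h, orderOf_one] at ha; exact hprime.ne_one ha.symm) (hin a ha)
  exact zpowers_le.2 ha' (hin b hb)

/-- Let G be a finite group and p an odd prime with O_{p'}(G) = 1. Suppose that G has p-rank at most 2 and that some element x of order p is isolated in G and not central. Then F*(G) is a non-abelian simple group, and for every Sylow p-subgroup P of F*(G), either no conjugate of x lies in P and P is cyclic, or some conjugate of x lies in P and either P is extraspecial of order p³ and exponent p, or p = 3 and P has order 3^{2k+1} for some k ≥ 2 and is of maximal class (nilpotency class 2k). Since O_{p'}(G) = 1, such an x is not central modulo O_{p'}(G): the hypotheses describe a counterexample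 to the Z*_p statement in p-rank at most 2, and the conclusion records the structure it would have. -/
theorem result {G : Type*} [Group G] [Finite G] {p : ℕ} [Fact p.Prime] (hp : p ≠ 2) (hcore : Cfsg.pPrimeCore p G = ⊥)
    (hrank : Cfsg.PRankLE p 2 G) (x : G) (hx : orderOf x = p) (hiso : Cfsg.IsIsolated x) (hnc : x ∉ Subgroup.center G) :
    IsSimpleGroup ↥(Cfsg.generalizedFittingSubgroup G) ∧ ¬ IsMulCommutative ↥(Cfsg.generalizedFittingSubgroup G) ∧
    ∀ P : Sylow p ↥(Cfsg.generalizedFittingSubgroup G),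
      ((∀ g : G, g * x * g⁻¹ ∉ ((P : Subgroup ↥(Cfsg.generalizedFittingSubgroup G)).map (Cfsg.generalizedFittingSubgroup G).subtype)) ∧
          IsCyclic ↥(P : Subgroup ↥(Cfsg.generalizedFittingSubgroup G))) ∨
      ((∃ g : G, g * x * g⁻¹ ∈ ((P : Subgroup ↥(Cfsg.generalizedFittingSubgroup G)).map (Cfsg.generalizedFittingSubgroup G).subtype)) ∧
        ((Cfsg.IsExtraspecial p ↥(P : Subgroup ↥(Cfsg.generalizedFittingSubgroup G)) ∧
            Nat.card (P : Subgroup ↥(Cfsg.generalizedFittingSubgroup G)) = p ^ 3 ∧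
            ∀ y ∈ (P : Subgroup ↥(Cfsg.generalizedFittingSubgroup G)), y ^ p = 1) ∨
         (p = 3 ∧ ∃ k : ℕ, 2 ≤ k ∧ Nat.card (P : Subgroup ↥(Cfsg.generalizedFittingSubgroup G)) = 3 ^ (2 * k + 1) ∧
            ∃ _ : Group.IsNilpotent ↥(P : Subgroup ↥(Cfsg.generalizedFittingSubgroup G)),
              Group.nilpotencyClass ↥(P : Subgroup ↥(Cfsg.generalizedFittingSubgroup G)) = 2 * k))) := by
  classical
  obtain ⟨hsimple, hna⟩ := Cfsg.Lib.Misc.IsolatedRankTwo.simple hp hcore hrank x hx hiso hnc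
  refine ⟨hsimple, hna, ?_⟩
  set K := Cfsg.generalizedFittingSubgroup G with hK
  intro P
  set R := (P : Subgroup K).map K.subtype with hR
  have hRK : R ≤ K := map_subtype_le _
  have hRp : IsPGroup p R := P.2.map _
  have hconj : ∀ g : G, Cfsg.IsIsolated (g * x * g⁻¹) := by
    intro g h hc
    have hc' : Commute x ((g⁻¹ * h * g) * x * (g⁻¹ * h * g)⁻¹) := by
      have := hc.map (MulAut.conj g⁻¹).toMonoidHom
      simpa [mul_assoc] using this
    have := congrArg (fun w => g * w * g⁻¹) (hiso _ hc')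
    simpa [mul_assoc] using this
  have hordc : ∀ g : G, orderOf (g * x * g⁻¹) = p := fun g => by
    rw [← MulAut.conj_apply, MulEquiv.orderOf_eq, hx]
  by_cases hex : ∃ g : G, g * x * g⁻¹ ∈ R
  · obtain ⟨g, hg⟩ := hex
    refine Or.inr ⟨⟨g, hg⟩, ?_⟩
    set e := g * x * g⁻¹ with he
    have hcom := Cfsg.Lib.Isolated.commute_of_pgroup (hconj g) hRp hg
    obtain ⟨e', he', hee⟩ := hg
    replace hee : (e' : G) = e := hee
    have heo : orderOf (e' : G) = p := hee ▸ hordc g
    have hrk : Cfsg.PRankLE p 2 ↥(P : Subgroup K) := by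
      intro A hA hexp
      haveI := hA
      have hc := Subgroup.card_map_of_injective (K := A)
        (f := K.subtype.comp (P : Subgroup K).subtype)
        (K.subtype_injective.comp (P : Subgroup K).subtype_injective)
      rw [← hc]
      exact hrank _ inferInstance (by rintro _ ⟨a, ha, rfl⟩; rw [← map_pow, hexp a ha, map_one])
    have hperf : commutator K = ⊤ := by
      rcases (inferInstance : (commutator K).Normal).eq_bot_or_eq_top with h | h
      · refine absurd ⟨⟨fun a b => ?_⟩⟩ hna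
        have h2 : ⁅a, b⁆ ∈ commutator K := commutator_mem_commutator (mem_top a) (mem_top b)
        rw [h, mem_bot, commutatorElement_eq_one_iff_mul_comm] at h2
        exact h2
      · exact h
    obtain ⟨B, hBN, hcop, hfull⟩ := exists_complement hperf P
      (fun W f hf => Cfsg.Lib.PGroups.RankTwoIsolated.no_wreath hp P.2 hrk W f hf)
    have hcomK : ∀ a ∈ (P : Subgroup K), a * e' = e' * a := fun a ha => Subtype.ext (by
      rw [Subgroup.coe_mul, Subgroup.coe_mul, hee]
      exact hcom _ ⟨a, ha, rfl⟩)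
    have heB : ∀ b ∈ B, b * e' = e' * b := by
      intro b hb
      have hm : b * e' * b⁻¹ ∈ (P : Subgroup K) := (mem_normalizer_iff.1 (hBN hb) e').1 he'
      have h1 := hconj g (b : G) (by
        show e * ((b : G) * e * (b : G)⁻¹) = (b : G) * e * (b : G)⁻¹ * e
        have := congrArg Subtype.val (hcomK _ hm)
        simp only [Subgroup.coe_mul, Subgroup.coe_inv, hee] at this
        exact this.symm)
      refine Subtype.ext ?_
      rw [Subgroup.coe_mul, Subgroup.coe_mul, hee]
      exact mul_inv_eq_iff_eq_mul.1 h1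
    have hep : e' ^ p = 1 := Subtype.ext (by
      rw [SubgroupClass.coe_pow, ← heo, pow_orderOf_eq_one, Subgroup.coe_one])
    have he1 : e' ≠ 1 := fun h => by
      rw [h, Subgroup.coe_one, orderOf_one] at heo
      exact (Fact.out : p.Prime).ne_one heo.symm
    rcases sylow_shape hp P hrk hBN hcop hfull e' he' hcomK hep he1 heB with ⟨h1, h2, h3⟩ | h
    · exact Or.inl ⟨h1, h2, fun y hy => congrArg Subtype.val (h3 ⟨y, hy⟩)⟩
    · exact Or.inr h
  · push Not at hex
    refine Or.inl ⟨hex, ?_⟩
    obtain ⟨S, hS⟩ := hRp.exists_le_sylow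
    have hxp : IsPGroup p (Subgroup.zpowers x) :=
      IsPGroup.of_card (n := 1) (by rw [Nat.card_zpowers, hx, pow_one])
    obtain ⟨h, hh⟩ := Cfsg.Lib.Isolated.conj_mem_sylow S _ hxp
    have hyS := hh x (mem_zpowers x)
    have hyR := Cfsg.Lib.Isolated.commute_of_pgroup (hconj h) S.2 hyS
    have hyK : h * x * h⁻¹ ∉ K := by
      intro hk
      have heq : (P : Subgroup K) = (S : Subgroup G).subgroupOf K :=
        (P.3 (S.2.comap_of_injective K.subtype K.subtype_injective)
          (fun a ha => hS ⟨a, ha, rfl⟩)).symm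
      exact hex h ⟨⟨_, hk⟩, heq ▸ (show (⟨_, hk⟩ : K) ∈ (S : Subgroup G).subgroupOf K from hyS), rfl⟩
    have hcyc : IsCyclic R := cyclic_case hp hrank R hRp _ (hordc h)
      (fun r hr => hyR r (hS hr)) (fun H hH hm => hyK (hRK (hH hm)))
    exact isCyclic_of_surjective _
      ((P : Subgroup K).equivMapOfInjective K.subtype K.subtype_injective).symm.surjective

end Cfsg.Agent.S3038
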