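import Cfsg.Statements.S3040
import Cfsg.Agent.ThreePrime.Sthree

set_option autoImplicit false
open Cfsg

namespace Cfsg.Agent.S3040

/-- Let G be a finite group of even order coprime to 3, and let Σ be a group of automorphisms of G isomorphic to the symmetric group of degree 3 that is fixed-point-free (only the identity of G is fixed by every element of Σ). Then G is solvable, O_{2′,2}(G) (the preimage in G of O₂(G/O(G))) has odd index in G, and G = O_{2′,2}(G) C_G(σ) for every element σ of Σ of order 3; that is, O₂(G/O(G)) is a Sylow 2-subgroup of G/O(G) and G/O(G) = O₂(G/O(G)) C_{G/O(G)}(σ). -/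
theorem result {G : Type*} [Group G] [Finite G] (heven : 2 ∣ Nat.card G) (h3 : ¬ 3 ∣ Nat.card G)
    (Sig : Subgroup (MulAut G)) (hS3 : Nonempty (↥Sig ≃* Equiv.Perm (Fin 3))) (hfpf : ∀ g : G, (∀ σ ∈ Sig, σ g = g) → g = 1) :
    Group.IsSolvable G ∧ ¬ 2 ∣ (Cfsg.pPrimePCore 2 G).index ∧ ∀ σ ∈ Sig, orderOf σ = 3 →
      Cfsg.pPrimePCore 2 G ⊔ Subgroup.closure {g : G | σ g = g} = ⊤ := by
  have h6 : Nat.card Sig = 6 := by
    rw [Nat.card_congr hS3.some.toEquiv, Nat.card_perm, Nat.card_fin]; rfl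
  haveI : Fact (Nat.Prime 3) := ⟨Nat.prime_three⟩
  haveI : Finite Sig := Nat.finite_of_card_ne_zero (by omega)
  have hpow : ∀ σ : MulAut G, orderOf σ = 3 → σ ^ 3 = 1 := fun σ h => h ▸ pow_orderOf_eq_one σ
  obtain ⟨s, hs⟩ := exists_prime_orderOf_dvd_card' (G := Sig) 3 (by rw [h6]; decide)
  rw [← Subgroup.orderOf_coe] at hs
  have hodd := Cfsg.Lib.ThreePrime.orderOf_odd_fixed Sig h6 hfpf s.2 hs
  exact ⟨Cfsg.Lib.ThreePrime.solvable_of_odd_fixed h3 (hpow _ hs) hodd,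
    Cfsg.Lib.ThreePrime.odd_index h3 (hpow _ hs) hodd,
    fun σ hσ ho => Cfsg.Lib.ThreePrime.fixed_supplement h3 (hpow σ ho)
      (Cfsg.Lib.ThreePrime.orderOf_odd_fixed Sig h6 hfpf hσ ho)⟩

end Cfsg.Agent.S3040
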