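import Cfsg.Statements.S3041
import Cfsg.Agent.CoprimeFpf.Main
import Cfsg.Agent.HallHigman.ShultGrossChain

set_option autoImplicit false
open Cfsg

namespace Cfsg.Agent.S3041

open Subgroup Cfsg.Lib.CoprimeFpf
open scoped commutatorElement

/-- A fixed-point result of Shult type. Let X be a finite group with a normal subgroup G and a subgroup R of prime order r not dividing |G| such that X = GR, and let ρ be a faithful irreducible representation of X on a nonzero finite-dimensional vector space V over a field of prime characteristic in which R has no nonzero fixed vector. Then either [G, R] = 1, or r has the form 2^m + 1 and [G, R] is a non-abelian special 2-group. -/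
theorem result {X : Type*} [Group X] [Finite X] (G R : Subgroup X) [G.Normal] (hX : G ⊔ R = ⊤) (r : ℕ) (hr : r.Prime)
    (hR : Nat.card R = r) (hcop : ¬ r ∣ Nat.card G)
    {k : Type*} [Field k] {p : ℕ} [Fact p.Prime] [CharP k p] {V : Type*} [AddCommGroup V] [Module k V] [FiniteDimensional k V] [Nontrivial V]
    (ρ : Representation k X V) (hfaith : Function.Injective ρ)
    (hirr : ∀ W : Submodule k V, (∀ x : X, W.map (ρ x) ≤ W) → W = ⊥ ∨ W = ⊤)
    (hfix : ∀ v : V, (∀ x ∈ R, ρ x v = v) → v = 0) :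
    ⁅G, R⁆ = ⊥ ∨ ((∃ m : ℕ, r = 2 ^ m + 1) ∧ ¬ IsMulCommutative ↥⁅G, R⁆ ∧ Cfsg.IsSpecial 2 ↥⁅G, R⁆) := by
  classical
  haveI := Fact.mk hr
  haveI : Fact (Nat.Prime 2) := ⟨Nat.prime_two⟩
  -- a generator of `R`
  haveI : IsCyclic R := isCyclic_of_prime_card hR
  obtain ⟨⟨f, hfR⟩, hgen⟩ := IsCyclic.exists_generator (α := R)
  have hRf : zpowers f = R := by
    refine le_antisymm (zpowers_le.2 hfR) fun x hx => ?_
    obtain ⟨i, hi⟩ := hgen ⟨x, hx⟩
    exact ⟨i, congrArg Subtype.val hi⟩
  subst hRf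
  have hf : orderOf f = r := by rw [← hR, Nat.card_zpowers]
  have hfix1 : ∀ v : V, ρ f v = v → v = 0 := fun v hv => hfix v fun x hx => by
    obtain ⟨i, rfl⟩ := (isOfFinOrder_of_finite f).mem_powers_iff_mem_zpowers.2 hx
    show ρ (f ^ i) v = v
    clear hx
    induction i with
    | zero => simp
    | succ i ih => rw [pow_succ, map_mul, Module.End.mul_apply, hv, ih]
  have hfG : f ∈ normalizer (G : Set X) := by rw [normalizer_eq_top]; exact mem_top f
  -- extend the scalars
  obtain ⟨Φ, hΦ⟩ := Cfsg.Lib.HallHigman.exists_base_change (F := k) (W := V)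
  haveI : CharP (AlgebraicClosure k) p :=
    charP_of_injective_algebraMap (algebraMap k (AlgebraicClosure k)).injective p
  let σ := Φ.toMonoidHom.comp ρ
  have hσ : Function.Injective σ := hΦ.comp hfaith
  have hunit : IsUnit (ρ f - 1) := by
    rw [Module.End.isUnit_iff]
    have hinj : Function.Injective ⇑(ρ f - (1 : Module.End k V)) := fun a b h => by
      refine sub_eq_zero.1 (hfix1 (a - b) ?_)
      rw [LinearMap.sub_apply, LinearMap.sub_apply, Module.End.one_apply, Module.End.one_apply,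
        sub_eq_sub_iff_sub_eq_sub] at h
      rw [map_sub, h]
    exact ⟨hinj, LinearMap.injective_iff_surjective.1 hinj⟩
  have hσfix : ∀ v, σ f v = v → v = 0 := fun v hv => by
    have h1 : IsUnit (σ f - 1) := by
      have := hunit.map Φ
      rwa [map_sub, map_one] at this
    refine ((Module.End.isUnit_iff _).1 h1).1 ?_
    rw [LinearMap.sub_apply, Module.End.one_apply, hv, sub_self, map_zero]
  have hD := pTwo_of_fpf (p := p) hr σ G f hσ hf hfG hcop hσfix
  set D := ⁅G, zpowers f⁆ with hDdef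
  have hDG : D ≤ G := Cfsg.Lib.Coprime.commutator_le_of_le_normalizer (zpowers_le.2 hfG)
  haveI hDn : D.Normal := normal_of_top hX (Cfsg.Lib.Coprime.le_normalizer_commutator_left _ _)
    (Cfsg.Lib.Coprime.le_normalizer_commutator_right _ _ (mem_zpowers f))
  have hcore : ∀ N : Subgroup X, N.Normal → IsPGroup p N → N = ⊥ := fun N hN hNp =>
    normal_pGroup_eq_bot ρ hfaith (fun W hW => hirr W fun x => Submodule.map_le_iff_le_comap.2 fun w hw => hW x w hw)
      N hN hNp
  have hD2 : IsPGroup 2 D := isPGroup_two_of_disjoint hD fun P hP hn hPp =>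
    eq_bot_of_normalized hP hn hPp fun M _ => hcore M
  rcases eq_or_ne D ⊥ with h0 | hne
  · exact Or.inl h0
  have hp2 : p ≠ 2 := by
    rintro rfl
    exact hne (hcore D hDn hD2)
  have hr2 : (2 : ℕ) ≠ r := by
    rintro rfl
    refine hne (card_eq_one.1 ?_)
    obtain ⟨j, hj⟩ := IsPGroup.iff_card.1 hD2
    rcases Nat.eq_zero_or_pos j with rfl | hpos
    · simpa using hj
    · exact absurd ((dvd_pow_self 2 (by omega)).trans (hj ▸ card_dvd_of_le hDG)) hcop
  have hM : Moved D f :=
    Cfsg.Lib.Coprime.commutator_commutator_eq (zpowers_le.2 hfG)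
      (by rw [Nat.card_zpowers, hf]; exact hr.coprime_iff_not_dvd.2 hcop)
      (Or.inl (Group.isSolvable_of_comm fun a b => mul_comm' a b))
  haveI := nontrivial_space hr σ hσ hf
  have hrp : r ≠ p := prime_ne σ hf hσfix
  have hab : AbFix D f := fun A hA hn hc =>
    ab_fixed σ hσ (p := p) (r := r) (hf ▸ pow_orderOf_eq_one f) hσfix A hn hc (by
      obtain ⟨j, hj⟩ := IsPGroup.iff_card.1 (hD2.to_le hA)
      rw [hj]; exact ((Nat.coprime_primes Nat.prime_two Fact.out).2 (Ne.symm hp2)).pow_left j)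
  have hS := str_of_moved hM hD2 hab
  have hnc : ¬ IsMulCommutative D := fun hc => hne (by
    rw [← show ⁅D, zpowers f⁆ = D from hM]
    exact commutator_eq_bot_iff_le_centralizer.2 fun u hu => hS.cen u hu fun v hv =>
      comm_eq_one.2 (congrArg Subtype.val (hc.is_comm.comm ⟨u, hu⟩ ⟨v, hv⟩)))
  obtain ⟨a, ha, ha1⟩ : ∃ a ∈ D ⊓ Fx f, a ≠ 1 := by
    by_contra hh
    push Not at hh
    exact hnc ⟨⟨fun u v => Subtype.ext (comm_eq_one.1 (hh _ (hS.cls.comm u u.2 v v.2)))⟩⟩
  obtain ⟨-, b, -, -, -, hrb, -⟩ :=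
    spectrum σ hσ (p := p) (r := r) (Ne.symm hp2) hr2 hrp hf hσfix D hD2 hM ha ha1
  refine Or.inr ⟨⟨b, hrb⟩, hnc, hD2, ?_, ?_⟩
  · have hZ : center D = (D ⊓ Fx f).subgroupOf D := by
      ext u
      rw [mem_center_iff, mem_subgroupOf]
      exact ⟨fun h => ⟨u.2, hS.cen u u.2 fun v hv => comm_eq_one.2 (congrArg Subtype.val (h ⟨v, hv⟩)).symm⟩,
        fun h v => Subtype.ext (hS.cls.cen u h v v.2).symm⟩
    refine le_antisymm (Cfsg.Lib.Elementary.frattini_le_of_sq_mem fun x => ?_) ?_
    · rw [hZ, mem_subgroupOf]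
      exact hS.pow x x.2
    · refine le_trans (le_of_eq ?_) (Cfsg.Lib.PGroups.commutator_le_frattini hD2)
      refine Subgroup.map_injective D.subtype_injective ?_
      rw [map_subtype_commutator, hZ, map_subgroupOf_eq_of_le inf_le_left, hS.fix_eq]
  · refine Subgroup.map_injective D.subtype_injective ?_
    rw [map_subtype_commutator, ← hS.fix_eq]
    ext u
    constructor
    · exact fun h => ⟨⟨u, h.1⟩, mem_center_iff.2 fun v => Subtype.ext (hS.cls.cen u h v v.2).symm, rfl⟩
    · rintro ⟨y, hy, rfl⟩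
      exact ⟨y.2, hS.cen y y.2 fun v hv =>
        comm_eq_one.2 (congrArg Subtype.val (mem_center_iff.1 hy ⟨v, hv⟩)).symm⟩

end Cfsg.Agent.S3041
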