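import Cfsg.Statements.S3043
import Cfsg.Agent.TICount.Transitive
import Cfsg.Agent.TICount.Semidirect
import Cfsg.Agent.TICount.Linear

set_option autoImplicit false
open Cfsg

namespace Cfsg.Agent.S3043

/-- Let M be a nontrivial subgroup of a finite group G meeting each of its other conjugates trivially, with N_G(M) = M · C_{N_G(M)}(z) for some involution z ∈ N_G(M), and with C_G(x) of odd order for every nontrivial x ∈ M. Then one of the following holds: M is normal in G; the number of involutions of G is at most |G : M|; G is isomorphic to PGL₂(F) or to PSL₂(F) for a finite field F with |F| = |M|, M is an elementary abelian p-group for the characteristic p of F, and |F| ≡ 1 (mod 4) in the PSL₂ case; G is isomorphic to PSL₂(F) with |F| = 2^e, e > 1, and M is cyclic of order 2^e + 1; or for some d ≥ 1, G has an elementary abelian normal subgroup of order 2^{2d} complemented by N_G(M), and N_G(M) is dihedral of order 2(2^d + 1). -/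
theorem result {G : Type*} [Group G] [Finite G] (M : Subgroup G) (hM1 : M ≠ ⊥)
    (hTI : ∀ g : G, M ⊓ M.map (MulAut.conj g).toMonoidHom ≠ ⊥ → M.map (MulAut.conj g).toMonoidHom = M)
    (z : G) (hz : orderOf z = 2) (hzN : z ∈ Subgroup.normalizer (M : Set G))
    (hfac : M ⊔ (Subgroup.normalizer (M : Set G) ⊓ Subgroup.centralizer ({z} : Set G)) = Subgroup.normalizer (M : Set G))
    (hodd : ∀ x ∈ M, x ≠ 1 → Odd (Nat.card ↥(Subgroup.centralizer ({x} : Set G)))) :
    M.Normal ∨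
    Nat.card {g : G // orderOf g = 2} ≤ M.index ∨
    (∃ (F : Type) (_ : Field F) (_ : Fintype F) (p : ℕ) (_ : Fact p.Prime) (_ : CharP F p), Fintype.card F = Nat.card M ∧ Cfsg.IsElementaryAbelian p M ∧
        (Nonempty (G ≃* (GL (Fin 2) F ⧸ Subgroup.center (GL (Fin 2) F))) ∨
         (Fintype.card F % 4 = 1 ∧ Nonempty (G ≃* Matrix.ProjectiveSpecialLinearGroup (Fin 2) F)))) ∨
    (∃ (F : Type) (_ : Field F) (_ : Fintype F) (e : ℕ), 1 < e ∧ Fintype.card F = 2 ^ e ∧ IsCyclic ↥M ∧ Nat.card M = 2 ^ e + 1 ∧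
        Nonempty (G ≃* Matrix.ProjectiveSpecialLinearGroup (Fin 2) F)) ∨
    (∃ (d : ℕ) (E : Subgroup G), 1 ≤ d ∧ E.Normal ∧ Cfsg.IsElementaryAbelian 2 E ∧ Nat.card E = 2 ^ (2 * d) ∧
        E ⊓ Subgroup.normalizer (M : Set G) = ⊥ ∧ E ⊔ Subgroup.normalizer (M : Set G) = ⊤ ∧
        Nonempty (↥(Subgroup.normalizer (M : Set G)) ≃* DihedralGroup (2 ^ d + 1))) := by
  classical
  by_cases hMn : M.Normal
  · exact Or.inl hMn
  by_cases hI : Nat.card {g : G // orderOf g = 2} ≤ M.index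
  · exact Or.inr (Or.inl hI)
  right; right
  have hH : Cfsg.Lib.TICount.Hyp M z := ⟨hM1, hTI, hz, hzN, hfac, hodd⟩
  obtain ⟨hlt, hcover⟩ := hH.count (not_le.1 hI)
  set Ω := G ⧸ Subgroup.normalizer (M : Set G)
  haveI : Fintype Ω := Fintype.ofFinite Ω
  have hC : Cfsg.Lib.TICount.Cfg M z (QuotientGroup.mk 1 : Ω) := by
    refine ⟨hH, ?_, hcover⟩
    ext g
    rw [MulAction.mem_stabilizer_iff]
    show (QuotientGroup.mk (g * 1) : Ω) = QuotientGroup.mk 1 ↔ _
    rw [mul_one, QuotientGroup.eq, mul_one, inv_mem_iff]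
  set k := Nat.card {γ : Ω // γ ≠ (QuotientGroup.mk 1 : Ω) ∧ z • γ = γ} with hk
  rcases Nat.lt_or_ge k 2 with h | h
  · rcases (show k = 0 ∨ k = 1 by omega) with h0 | h1
    · exfalso
      have hn := hC.card_points
      rw [← hk, h0, mul_zero, add_zero] at hn
      refine hMn (Subgroup.normalizer_eq_top_iff.1 (Subgroup.index_eq_one.1 ?_))
      exact hn
    · rcases Cfsg.Lib.TICount.transitive_case hC h1 hlt with h | h
      · exact Or.inl h
      · exact Or.inr (Or.inr h)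
  · have h3 : 3 ≤ Cfsg.Lib.TICount.nfix Ω z := by rw [hC.nfix_eq, ← hk]; omega
    haveI : Nontrivial {γ : Ω // γ ≠ (QuotientGroup.mk 1 : Ω) ∧ z • γ = γ} :=
      Finite.one_lt_card_iff_nontrivial.1 (by omega)
    obtain ⟨⟨β, hβ, hzβ⟩, ⟨γ, hγ, hzγ⟩, hne⟩ :=
      exists_pair_ne {γ : Ω // γ ≠ (QuotientGroup.mk 1 : Ω) ∧ z • γ = γ}
    have hcz := hC.cz_two hβ hγ (fun e => hne (Subtype.ext e)) hzβ hzγ
    obtain ⟨⟨d, hd, hfd⟩, h⟩ := hC.arith hcz h3
    rcases h with ⟨hm, hn⟩ | ⟨hm, hn, hall⟩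
    · exact Or.inr (Or.inr (Cfsg.Lib.TICount.affine_case hC hcz hd hfd hm hn))
    · exact Or.inr (Or.inl (Cfsg.Lib.TICount.linear_case hC hcz hd hfd hm hn hall))

end Cfsg.Agent.S3043
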