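import Cfsg.Statements.S3047
import Cfsg.Agent.RankOneIsolated.Kill
import Cfsg.Agent.RankOneIsolated.SLTwo
import Cfsg.Agent.RankOneIsolated.SUThree
import Cfsg.Agent.Transfer.Basic
import Cfsg.Agent.HallHigman.Drop

set_option autoImplicit false
set_option linter.style.haveILetI false
open Cfsg

namespace Cfsg.Agent.S3047

theorem transport {R : Type*} {X : Type*} [Group R] [Group X] [Finite R] {p : ℕ} [Fact p.Prime] (e : R ≃* X)
    (h : ∃ V : Sylow p X, Cfsg.Lib.RankOneIsolated.Split p V) :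
    ∃ U : Sylow p R, Cfsg.Lib.RankOneIsolated.Split p U := by
  haveI : Finite X := Finite.of_equiv R e.toEquiv
  obtain ⟨V, hV⟩ := h
  have hbot : e.symm.toMonoidHom.ker = ⊥ := (MonoidHom.ker_eq_bot_iff _).2 e.symm.injective
  refine hV.map e.symm.toMonoidHom e.symm.surjective (hbot ▸ bot_le) ?_
  rw [hbot, Subgroup.card_bot, Nat.dvd_one]
  exact (Fact.out : p.Prime).ne_one

/-- Let p ≥ 5 be a prime, G a finite group all of whose composition factors are known simple groups, S a Sylow p-subgroup and P a p-minimal subgroup of G containing S such that O^p(P/O_p(P)) is isomorphic to SL₂(pᵃ), PSL₂(pᵃ), SU₃(pᵃ) or PSU₃(pᵃ) for some a ≥ 1. Let L be the subgroup generated by N_G(S) and the p-minimal subgroups of G containing S other than P. Then either O^p(P) is normal in G, or every p-element of the centre of L lies in O_p(P). -/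
theorem result {G : Type*} [Group G] [Finite G] {p : ℕ} [Fact p.Prime] (hp : 5 ≤ p) (hK : Cfsg.IsCompositionKGroup G)
    (S : Sylow p G) (P : Subgroup G) (hSP : (S : Subgroup G) ≤ P) (hPmin : Cfsg.IsPMinimal p ↥P) [hn : (Cfsg.pCore p ↥P).Normal]
    (hrk1 : ∃ (F : Type) (_ : Field F) (_ : Fintype F) (a : ℕ), 1 ≤ a ∧
      ((Fintype.card F = p ^ a ∧ (Nonempty (↥(Cfsg.pResidual p (↥P ⧸ Cfsg.pCore p ↥P)) ≃* Matrix.SpecialLinearGroup (Fin 2) F) ∨
                                  Nonempty (↥(Cfsg.pResidual p (↥P ⧸ Cfsg.pCore p ↥P)) ≃* Matrix.ProjectiveSpecialLinearGroup (Fin 2) F))) ∨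
       (Fintype.card F = p ^ (2 * a) ∧ (Nonempty (↥(Cfsg.pResidual p (↥P ⧸ Cfsg.pCore p ↥P)) ≃* ↥(Cfsg.SU 3 F (p ^ a))) ∨
                                        Nonempty (↥(Cfsg.pResidual p (↥P ⧸ Cfsg.pCore p ↥P)) ≃* Cfsg.PSU 3 F (p ^ a))))))
    (L : Subgroup G)
    (hL : L = Subgroup.normalizer ((S : Subgroup G) : Set G) ⊔ ⨆ P' : {P' : Subgroup G // (S : Subgroup G) ≤ P' ∧ Cfsg.IsPMinimal p ↥P' ∧ P' ≠ P}, (P' : Subgroup G)) :
    ((Cfsg.pResidual p ↥P).map P.subtype).Normal ∨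
    ∀ z ∈ L ⊓ Subgroup.centralizer (L : Set G), (∃ k : ℕ, orderOf z = p ^ k) → z ∈ (Cfsg.pCore p ↥P).map P.subtype := by
  classical
  refine Or.inr fun z hz hzp => ?_
  obtain ⟨hzL, hzC⟩ := hz
  obtain ⟨k, hk⟩ := hzp
  have hpp : p.Prime := Fact.out
  have hNL : Subgroup.normalizer ((S : Subgroup G) : Set G) ≤ L := hL.symm ▸ le_sup_left
  have hcomm : ∀ n ∈ Subgroup.normalizer ((S : Subgroup G) : Set G), n * z = z * n := fun n hn' =>
    Subgroup.mem_centralizer_iff.1 hzC n (hNL hn')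
  have hzS : z ∈ (S : Subgroup G) := by
    have hzN : Subgroup.zpowers z ≤ Subgroup.normalizer ((S : Subgroup G) : Set G) := by
      rw [Subgroup.zpowers_le, Subgroup.mem_normalizer_iff]
      intro s
      constructor
      · intro hs
        rwa [← hcomm s ((S : Subgroup G).le_normalizer hs), mul_inv_cancel_right]
      · intro hs
        have h := hcomm _ ((S : Subgroup G).le_normalizer hs)
        rw [inv_mul_cancel_right] at h
        exact (mul_left_cancel h).symm ▸ hs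
    have hp' : IsPGroup p (Subgroup.zpowers z) :=
      IsPGroup.iff_card.2 ⟨k, by rw [Nat.card_zpowers, hk]⟩
    have := S.3 (hp'.to_sup_of_normal_right' S.2 hzN) le_sup_right
    exact this ▸ Subgroup.mem_sup_left (Subgroup.mem_zpowers z)
  set π := QuotientGroup.mk' (Cfsg.pCore p P) with hπ
  have hπs : Function.Surjective π := QuotientGroup.mk'_surjective _
  set S' : Sylow p P := S.subtype hSP with hS'
  have hker : Cfsg.pCore p P ≤ (S' : Subgroup P) := by
    have := S'.3 (S'.2.to_sup_of_normal_right (Cfsg.Lib.Components.isPGroup_pCore p)) le_sup_left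
    exact this ▸ le_sup_right
  set T₀ : Sylow p (P ⧸ Cfsg.pCore p P) := S'.mapSurjective hπs with hT₀
  have hcomap : (T₀ : Subgroup (P ⧸ Cfsg.pCore p P)).comap π = S' := by
    rw [hT₀, Sylow.coe_mapSurjective, Subgroup.comap_map_eq, hπ, QuotientGroup.ker_mk', sup_eq_left]
    exact hker
  have hmem : ∀ x : P, x ∈ (S' : Subgroup P) ↔ π x ∈ (T₀ : Subgroup (P ⧸ Cfsg.pCore p P)) :=
    fun x => by rw [← hcomap, Subgroup.mem_comap]
  have hmemS : ∀ x : P, x ∈ (S' : Subgroup P) ↔ (x : G) ∈ (S : Subgroup G) := fun x => by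
    rw [hS', Sylow.coe_subtype, Subgroup.mem_subgroupOf]
  set z₀ : P := ⟨z, hSP hzS⟩ with hz₀
  have hzT : π z₀ ∈ T₀ := (hmem z₀).1 ((hmemS z₀).2 hzS)
  have hzN : ∀ n ∈ Subgroup.normalizer ((T₀ : Subgroup (P ⧸ Cfsg.pCore p P)) : Set (P ⧸ Cfsg.pCore p P)),
      n * π z₀ = π z₀ * n := by
    intro n hn'
    obtain ⟨x, rfl⟩ := hπs n
    have hx : (x : G) ∈ Subgroup.normalizer ((S : Subgroup G) : Set G) := by
      rw [Subgroup.mem_normalizer_iff]
      intro s
      constructor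
      · intro hs
        have h1 : π (x * ⟨s, hSP hs⟩ * x⁻¹) ∈ (T₀ : Subgroup (P ⧸ Cfsg.pCore p P)) := by
          rw [map_mul, map_mul, map_inv]
          exact (Subgroup.mem_normalizer_iff.1 hn' _).1 ((hmem _).1 ((hmemS _).2 hs))
        exact (hmemS _).1 ((hmem _).2 h1)
      · intro hs
        have hsP : s ∈ P := by
          have := P.mul_mem (P.mul_mem (inv_mem x.2) (hSP hs)) x.2
          simpa [mul_assoc] using this
        have h1 := (hmem (x * ⟨s, hsP⟩ * x⁻¹)).1 ((hmemS _).2 hs)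
        rw [map_mul, map_mul, map_inv] at h1
        exact (hmemS _).1 ((hmem _).2 ((Subgroup.mem_normalizer_iff.1 hn' _).2 h1))
    rw [← map_mul, ← map_mul]
    exact congrArg π (Subtype.ext (hcomm x hx))
  obtain ⟨U, hU⟩ : ∃ U : Sylow p (Cfsg.pResidual p (P ⧸ Cfsg.pCore p P)),
      Cfsg.Lib.RankOneIsolated.Split p U := by
    obtain ⟨F, _, _, a, ha, ⟨hF, e⟩ | ⟨hF, e⟩⟩ := hrk1
    · haveI : CharP F p := charP_of_card_eq_prime_pow hF
      rcases e with ⟨⟨e⟩⟩ | ⟨⟨e⟩⟩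
      · exact transport e (Cfsg.Lib.RankOneIsolated.split_slTwo hp)
      · exact transport e (Cfsg.Lib.RankOneIsolated.split_pslTwo hp)
    · haveI : CharP F p := charP_of_card_eq_prime_pow hF
      have hF' : Fintype.card F = (p ^ a) ^ 2 := by rw [hF, ← pow_mul, mul_comm]
      have hq : 3 ≤ p ^ a := le_trans (by omega) (Nat.le_self_pow (by omega) p)
      rcases e with ⟨⟨e⟩⟩ | ⟨⟨e⟩⟩
      · exact transport e (Cfsg.Lib.RankOneIsolated.split_suThree hp hF' hq)
      · exact transport e (Cfsg.Lib.RankOneIsolated.split_psuThree hp hF' hq)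
  obtain ⟨T, hT⟩ := (U.2.map (Cfsg.pResidual p (P ⧸ Cfsg.pCore p P)).subtype).exists_le_sylow
  obtain ⟨g, rfl⟩ := MulAction.exists_smul_eq (P ⧸ Cfsg.pCore p P) T₀ T
  have h1 := Cfsg.Lib.RankOneIsolated.eq_one_of_commute (Cfsg.pResidual p (P ⧸ Cfsg.pCore p P))
    Cfsg.Lib.Transfer.isPGroup_quotient_pResidual Cfsg.Lib.HallHigman.pCore_quotient_pCore hU (g • T₀) hT
    (g * π z₀ * g⁻¹) ?_ ?_
  · rw [mul_inv_eq_one, mul_eq_left, hπ, QuotientGroup.mk'_apply, QuotientGroup.eq_one_iff] at h1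
    exact ⟨z₀, h1, rfl⟩
  · show g * π z₀ * g⁻¹ ∈ ((g • T₀ : Sylow p (P ⧸ Cfsg.pCore p P)) : Subgroup (P ⧸ Cfsg.pCore p P))
    rw [Sylow.coe_subgroup_smul]
    exact Subgroup.smul_mem_pointwise_smul (π z₀) (MulAut.conj g) _ hzT
  · intro n hn'
    have hn2 : g⁻¹ * n * g ∈ Subgroup.normalizer ((T₀ : Subgroup (P ⧸ Cfsg.pCore p P)) : Set (P ⧸ Cfsg.pCore p P)) := by
      refine Cfsg.Lib.RankOneIsolated.smul_eq_iff.1 ?_
      rw [mul_smul, mul_smul, Cfsg.Lib.RankOneIsolated.smul_eq_iff.2 hn', inv_smul_smul]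
    have h := hzN _ hn2
    calc n * (g * π z₀ * g⁻¹) = g * (g⁻¹ * n * g * π z₀) * g⁻¹ := by group
      _ = g * (π z₀ * (g⁻¹ * n * g)) * g⁻¹ := by rw [h]
      _ = g * π z₀ * g⁻¹ * n := by group

end Cfsg.Agent.S3047
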