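import Cfsg.Statements.S3058
import Cfsg.Agent.Components.Embedded.Connect
import Cfsg.Agent.Coprime.Generation
import Cfsg.Agent.S0542

set_option autoImplicit false
open Cfsg

namespace Cfsg.Agent.S3058

/-- Let p be a prime and G a finite group whose Sylow p-subgroups are not chain-connected through nontrivial intersections (so G has a strongly p-embedded subgroup). If N and M are normal subgroups of G whose orders are both divisible by p, then the order of N ∩ M is divisible by p. Consequently, among the normal subgroups of G whose order is divisible by p there is a smallest one (the intersection of all of them). -/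
theorem result {G : Type*} [Group G] [Finite G]
    (p : ℕ) [Fact p.Prime] (hG : ¬ Cfsg.IsSylowChainConnected p G)
    (N M : Subgroup G) [N.Normal] [M.Normal] (hN : p ∣ Nat.card N) (hM : p ∣ Nat.card M) :
    p ∣ Nat.card ↥(N ⊓ M) := by
  open Subgroup in
  open scoped commutatorElement in
  exact by
    by_contra hd
    obtain ⟨H, hH, hpH, hc⟩ := Cfsg.Lib.Embedded.exists_conjCond_of_not_connected hG
    have hnc := Cfsg.Lib.Embedded.norm_of_conj hc
    obtain ⟨S⟩ : Nonempty (Sylow p H) := inferInstance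
    obtain ⟨P, hP⟩ := Cfsg.Lib.Embedded.exists_sylow hpH hnc S
    have hPH : (P : Subgroup G) ≤ H := hP ▸ Subgroup.map_subtype_le _
    have hpick : ∀ L : Subgroup G, L.Normal → p ∣ Nat.card L → ∃ x ∈ L, x ∈ (P : Subgroup G) ∧ orderOf x = p := by
      intro L hL hdL
      obtain ⟨R, hR⟩ := Cfsg.Agent.S0542.result p L hL.isSubnormal P
      obtain ⟨r, hr⟩ := exists_prime_orderOf_dvd_card' p (R.dvd_card_of_dvd_card hdL)
      refine ⟨((r : L) : G), (r : L).2, ?_, by rw [Subgroup.orderOf_coe, Subgroup.orderOf_coe, hr]⟩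
      have : (r : L) ∈ (P : Subgroup G).subgroupOf L := hR ▸ r.2
      exact this
    obtain ⟨x, hxN, hxP, hxo⟩ := hpick N inferInstance hN
    obtain ⟨y, hyM, hyP, hyo⟩ := hpick M inferInstance hM
    set O := N ⊓ M with hO
    haveI hOn : O.Normal := normal_inf_normal N M
    have hsmall : ∀ z ∈ O, z ∈ (P : Subgroup G) → z = 1 := fun z hz hzP => by
      obtain ⟨k, hk⟩ := P.2 ⟨z, hzP⟩
      exact orderOf_eq_one_iff.1 (Nat.eq_one_of_dvd_coprimes
        (((Fact.out : p.Prime).coprime_iff_not_dvd.2 hd).pow_left k)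
        (orderOf_dvd_of_pow_eq_one (congrArg Subtype.val hk)) (orderOf_dvd_natCard O hz))
    have hcommO : ∀ g ∈ N, ∀ h ∈ M, g * h * g⁻¹ * h⁻¹ ∈ O := fun g hg h hh => mem_inf.2
      ⟨by rw [show g * h * g⁻¹ * h⁻¹ = g * (h * g⁻¹ * h⁻¹) by group]
          exact N.mul_mem hg (Normal.conj_mem inferInstance _ (N.inv_mem hg) h),
        M.mul_mem (Normal.conj_mem inferInstance h hh g) (M.inv_mem hh)⟩
    have hxy : Commute x y := by
      have h1 := hsmall _ (hcommO x hxN y hyM)
        ((P : Subgroup G).mul_mem ((P : Subgroup G).mul_mem ((P : Subgroup G).mul_mem hxP hyP)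
          ((P : Subgroup G).inv_mem hxP)) ((P : Subgroup G).inv_mem hyP))
      exact mul_inv_eq_iff_eq_mul.1 (mul_inv_eq_one.1 h1)
    set A := zpowers x ⊔ zpowers y with hA
    have hAP : A ≤ (P : Subgroup G) := sup_le (zpowers_le.2 hxP) (zpowers_le.2 hyP)
    have hxyn : zpowers y ≤ normalizer (zpowers x : Set G) := by
      refine zpowers_le.2 (mem_normalizer_iff_map_conj_eq.2 ?_)
      rw [MonoidHom.map_zpowers]
      congr 1
      show y * x * y⁻¹ = x
      rw [← hxy.eq, mul_inv_cancel_right]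
    have hdec : ∀ u ∈ A, ∃ i j : ℤ, u = x ^ i * y ^ j := by
      intro u hu
      obtain ⟨a, ⟨i, rfl⟩, b, ⟨j, rfl⟩, rfl⟩ := (Cfsg.Lib.Coprime.mem_sup_of_le_normalizer hxyn).1 hu
      exact ⟨i, j, rfl⟩
    haveI : IsMulCommutative A := ⟨⟨fun u v => Subtype.ext (by
      obtain ⟨i, j, hu⟩ := hdec u u.2
      obtain ⟨k, l, hv⟩ := hdec v v.2
      show (u : G) * v = v * u
      rw [hu, hv]
      exact ((((Commute.refl x).zpow_zpow i k).mul_right (hxy.zpow_zpow i l)).mul_left
        ((hxy.symm.zpow_zpow j k).mul_right ((Commute.refl y).zpow_zpow j l))).eq)⟩⟩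
    have hnc2 : ¬ IsCyclic A := by
      intro hcyc
      set a : A := ⟨x, mem_sup_left (mem_zpowers x)⟩
      set b : A := ⟨y, mem_sup_right (mem_zpowers y)⟩
      have ha : orderOf a = p := by rw [Subgroup.orderOf_mk]; exact hxo
      have hb : orderOf b = p := by rw [Subgroup.orderOf_mk]; exact hyo
      have he : zpowers a = zpowers b := by
        obtain ⟨g, hg⟩ := hcyc.exists_ofOrder_eq_natCard
        have hgp : g ^ p = 1 := by
          obtain ⟨i, j, hu⟩ := hdec g g.2
          refine Subtype.ext ?_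
          show (g : G) ^ p = 1
          rw [hu, (hxy.zpow_zpow i j).mul_pow, ← zpow_natCast, ← zpow_natCast, ← zpow_mul, ← zpow_mul, mul_comm i,
            mul_comm j, zpow_mul, zpow_mul, zpow_natCast, zpow_natCast, ← hxo, pow_orderOf_eq_one, hxo, ← hyo,
            pow_orderOf_eq_one, one_zpow, one_zpow, one_mul]
        have hcard : Nat.card A ≤ p := hg ▸ Nat.le_of_dvd (Fact.out : p.Prime).pos (orderOf_dvd_of_pow_eq_one hgp)
        have htop : ∀ c : A, orderOf c = p → zpowers c = ⊤ := fun c hc => eq_of_le_of_card_ge le_top (by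
          rw [Nat.card_zpowers, hc, Subgroup.card_top]; exact hcard)
        rw [htop a ha, htop b hb]
      obtain ⟨i, hi⟩ := (mem_zpowers_iff.1 (he ▸ mem_zpowers a : a ∈ zpowers b))
      have hxM : x ∈ M := by
        have : y ^ i = x := congrArg Subtype.val hi
        exact this ▸ zpow_mem hyM i
      have := hsmall x ⟨hxN, hxM⟩ hxP
      rw [this, orderOf_one] at hxo
      exact (Fact.out : p.Prime).ne_one hxo.symm
    have hcop : (Nat.card A).Coprime (Nat.card O) := by
      obtain ⟨k, hk⟩ := IsPGroup.iff_card.1 (P.2.to_le hAP)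
      rw [hk]
      exact ((Fact.out : p.Prime).coprime_iff_not_dvd.2 hd).pow_left k
    have hOH : O ≤ H := by
      rw [← Cfsg.Lib.Coprime.centralizerJoin_eq hnc2 le_normalizer_of_normal hcop]
      refine iSup₂_le fun a ha => ?_
      refine le_trans ?_ (hnc (zpowers a) (zpowers_le.2 (hPH (hAP ha.1))) (P.2.to_le (zpowers_le.2 (hAP ha.1)))
        (fun h => ha.2 (zpowers_eq_bot.1 h)))
      intro z hz
      refine mem_normalizer_iff_map_conj_eq.2 ?_
      rw [MonoidHom.map_zpowers]
      congr 1
      show z * a * z⁻¹ = a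
      rw [mem_centralizer_singleton_iff.1 (mem_inf.1 hz).2, mul_inv_cancel_right]
    have hconj : ∀ z ∈ (P : Subgroup G), orderOf z = p → ∀ g : G, g * z * g⁻¹ ∈ H → g ∈ H := by
      intro z hz hzo g hgz
      by_contra hg
      refine hc g hg ?_
      have h := Subgroup.orderOf_dvd_natCard (H ⊓ H.map (MulAut.conj g).toMonoidHom)
        (mem_inf.2 ⟨hgz, ⟨z, hPH hz, rfl⟩⟩ : g * z * g⁻¹ ∈ H ⊓ H.map (MulAut.conj g).toMonoidHom)
      rwa [show orderOf (g * z * g⁻¹) = p from (MulEquiv.orderOf_eq (MulAut.conj g) z).trans hzo] at h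
    have hNH : N ≤ H := fun g hg => hconj y hyP hyo g (by
      rw [show g * y * g⁻¹ = (g * y * g⁻¹ * y⁻¹) * y by group]
      exact H.mul_mem (hOH (hcommO g hg y hyM)) (hPH hyP))
    exact hH (eq_top_iff.2 fun g _ => hconj x hxP hxo g (hNH (Normal.conj_mem inferInstance x hxN g)))

end Cfsg.Agent.S3058
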