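import Cfsg.Statements.S3064
import Cfsg.Agent.Components.Misc.IsolatedCentralizing

set_option autoImplicit false
open Cfsg

namespace Cfsg.Agent.S3064

/-- Let S be a Sylow p-subgroup of the finite group G and x an element of S such that (i) x is the only G-conjugate of x lying in S, and (ii) x centralizes every subgroup of order prime to p that it normalizes. Then x lies in the centre of G. -/
theorem result {G : Type*} [Group G] [Finite G] {p : ℕ} [Fact p.Prime]
    (S : Sylow p G) (x : G) (hx : x ∈ S)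
    (hU : ∀ g : G, g⁻¹ * x * g ∈ S → g⁻¹ * x * g = x)
    (hb : ∀ H : Subgroup G, (Nat.card H).Coprime p → (∀ h ∈ H, x * h * x⁻¹ ∈ H) → ∀ h ∈ H, x * h = h * x) :
    x ∈ Subgroup.center G := by
  refine Cfsg.Lib.Misc.IsolatedCentralizing.central _ le_rfl (p := p) x
    (S.2.to_le (Subgroup.zpowers_le.2 hx)) (fun g hg => ?_) hb
  have hconj : ∀ a : G, a * x * a⁻¹ ∈ (S : Subgroup G) → a * x * a⁻¹ = x := fun a ha => by
    have h := hU a⁻¹ (by rwa [inv_inv])
    rwa [inv_inv] at h
  set R := Subgroup.zpowers x ⊔ Subgroup.zpowers (g * x * g⁻¹) with hR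
  have hxp : IsPGroup p (Subgroup.zpowers x) := S.2.to_le (Subgroup.zpowers_le.2 hx)
  have hyp : IsPGroup p (Subgroup.zpowers (g * x * g⁻¹)) := by
    refine (hxp.map (MulAut.conj g).toMonoidHom).to_le ?_
    rw [MonoidHom.map_zpowers]
    exact le_rfl
  have hRp : IsPGroup p R := by
    refine hxp.to_sup_of_normal_left' hyp (Subgroup.zpowers_le.2 (Subgroup.centralizer_le_normalizer _ ?_))
    refine Subgroup.mem_centralizer_iff.2 ?_
    rintro a ⟨i, rfl⟩
    exact (hg.zpow_left i).eq
  obtain ⟨h, hh⟩ := Cfsg.Lib.Isolated.conj_mem_sylow S R hRp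
  have e1 := hconj h (hh x (Subgroup.mem_sup_left (Subgroup.mem_zpowers x)))
  have e2 : h * g * x * (h * g)⁻¹ = x := hconj (h * g) (by
    have := hh _ (Subgroup.mem_sup_right (Subgroup.mem_zpowers (g * x * g⁻¹)))
    rwa [show h * g * x * (h * g)⁻¹ = h * (g * x * g⁻¹) * h⁻¹ by group])
  have e3 : h * (g * x * g⁻¹) * h⁻¹ = h * x * h⁻¹ := by
    rw [e1, show h * (g * x * g⁻¹) * h⁻¹ = h * g * x * (h * g)⁻¹ by group, e2]
  exact mul_left_cancel (mul_right_cancel e3)

end Cfsg.Agent.S3064
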