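import Cfsg.Statements.S3065
import Cfsg.Agent.InvolCalc.OutSolvable
import Cfsg.Agent.S0205

set_option autoImplicit false
open Cfsg

namespace Cfsg.Agent.S3065

/-- Let G be a finite non-abelian simple group with a nontrivial Sylow 2-subgroup S (that is, G has even order). If the automorphism group of S is solvable, then the outer automorphism group Out(G) = Aut(G)/Inn(G) is solvable. -/
theorem result {G : Type*} [Group G] [Finite G] [IsSimpleGroup G]
    (hG : ¬ IsMulCommutative G) (S : Sylow 2 G) (hS1 : (S : Subgroup G) ≠ ⊥) (hS : Group.IsSolvable (MulAut ↥S)) :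
    Group.IsSolvable (Cfsg.Out G) := by
  refine Cfsg.Lib.OutSolvable.out_solvable (@fun H _ _ hH => Cfsg.Agent.S0205.result (G := H) hH)
    (fun N hN hodd => ?_) S hS
  rcases hN.eq_bot_or_eq_top with h | h
  · exact h
  · exfalso
    haveI : Fact (Nat.Prime 2) := ⟨Nat.prime_two⟩
    obtain ⟨k, hk⟩ := S.isPGroup'.exists_card_eq
    have h1 : Odd (Nat.card ↥(S : Subgroup G)) := by
      rw [h, Subgroup.card_top] at hodd
      exact hodd.of_dvd_nat (Subgroup.card_subgroup_dvd_card _)
    refine hS1 (Subgroup.card_eq_one.1 ?_)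
    rcases k with _ | k
    · simpa using hk
    · rw [hk] at h1
      exact absurd h1 (Nat.not_odd_iff_even.2 (Nat.even_pow.2 ⟨even_two, k.succ_ne_zero⟩))

end Cfsg.Agent.S3065
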