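import Cfsg.Statements.S3066
import Cfsg.Agent.OutSol.Rank
import Cfsg.Agent.OutSol.OneClass

set_option autoImplicit false
open Cfsg

namespace Cfsg.Agent.S3066

/-- Let G be a finite non-abelian simple group with a nontrivial Sylow 2-subgroup S (that is, G has even order). Then Out(G) = Aut(G)/Inn(G) is solvable provided one of the following holds: (a) S is generated by two elements; (b) S is generated by three elements and N_G(S)/C_G(S) is not a 2-group (some element of N_G(S) of odd order does not centralize S); (c) the involutions of S commute pairwise and are all conjugate in G. -/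
theorem result {G : Type*} [Group G] [Finite G] [IsSimpleGroup G]
    (hG : ¬ IsMulCommutative G) (S : Sylow 2 G) (hS1 : (S : Subgroup G) ≠ ⊥)
    (h : (∃ a b : ↥S, Subgroup.closure ({a, b} : Set ↥S) = ⊤) ∨
      ((∃ a b c : ↥S, Subgroup.closure ({a, b, c} : Set ↥S) = ⊤) ∧
        ∃ g ∈ Subgroup.normalizer ((S : Subgroup G) : Set G), Odd (orderOf g) ∧ g ∉ Subgroup.centralizer ((S : Subgroup G) : Set G)) ∨
      ((∀ s ∈ S, ∀ t ∈ S, orderOf s = 2 → orderOf t = 2 → s * t = t * s) ∧
        (∀ s ∈ S, ∀ t ∈ S, orderOf s = 2 → orderOf t = 2 → ∃ g : G, g * s * g⁻¹ = t))) :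
    Group.IsSolvable (Cfsg.Out G) := by
  haveI : Fact (Nat.Prime 2) := ⟨Nat.prime_two⟩
  have hO : ∀ N : Subgroup G, N.Normal → Odd (Nat.card N) → N = ⊥ := by
    intro N hN hodd
    rcases hN.eq_bot_or_eq_top with h1 | h1
    · exact h1
    · exfalso
      obtain ⟨k, hk⟩ := IsPGroup.iff_card.1 S.isPGroup'
      have hk0 : k ≠ 0 := fun h0 => hS1 (Subgroup.eq_bot_of_card_eq _ (by rw [hk, h0, pow_zero]))
      have h2 : 2 ∣ Nat.card G := ((dvd_pow_self 2 hk0).trans (dvd_of_eq hk.symm)).trans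
        (Subgroup.card_subgroup_dvd_card _)
      rw [h1, Subgroup.card_top, Nat.odd_iff] at hodd
      omega
  refine Cfsg.Lib.OutSol.out_solvable_of_extenders hO S fun T hT hle => ?_
  haveI := hT
  rcases h with ⟨a, b, hab⟩ | ⟨⟨a, b, c, habc⟩, hodd⟩ | ⟨hc, hconj⟩
  · have habc : Subgroup.closure ({a, b, b} : Set ↥(S : Subgroup G)) = ⊤ := by
      rw [Set.pair_eq_singleton]; exact hab
    obtain ⟨r, -, hr, hr2⟩ := Cfsg.Lib.OutSol.frattini_index_three S.isPGroup' habc
    haveI := Cfsg.Lib.OutSol.isSolvable_mulAut_of_rank_two S.isPGroup' hr (hr2 (Or.inr rfl))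
    haveI := Cfsg.Lib.OutSol.finite_mulAut (S : Subgroup G)
    exact (Subgroup.eq_bot_iff_forall _).2 fun t ht =>
      congrArg Subtype.val (Cfsg.Lib.OutSol.perfect_subsingleton (T := T) inferInstance ⟨t, ht⟩)
  · obtain ⟨r, hr3, hr, -⟩ := Cfsg.Lib.OutSol.frattini_index_three S.isPGroup' habc
    exact Cfsg.Lib.OutSol.three_gen_trivial S hr hr3 hodd T hle
  · exact Cfsg.Lib.OutSol.one_class_trivial S hS1 hc hconj T hle

end Cfsg.Agent.S3066
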