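import Cfsg.Statements.S3067
import Cfsg.Agent.InvolCalc.CoprimeFixedCentralizer

set_option autoImplicit false
open Cfsg

namespace Cfsg.Agent.S3067

/-- Let G be a finite non-abelian simple group, τ an involution of G, and α a nontrivial automorphism of G whose order is coprime to the order of G. Then α moves some element of the centralizer of τ: α does not fix C_G(τ) elementwise. -/
theorem result {G : Type*} [Group G] [Finite G] [IsSimpleGroup G]
    (hG : ¬ IsMulCommutative G) (τ : G) (hτ : orderOf τ = 2) (α : MulAut G) (hα : α ≠ 1)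
    (hcop : (orderOf α).Coprime (Nat.card G)) :
    ∃ c ∈ Subgroup.centralizer ({τ} : Set G), α c ≠ c := by
  obtain ⟨r, hr, hrd⟩ := Nat.exists_prime_and_dvd (n := orderOf α) (fun h => hα (orderOf_eq_one_iff.1 h))
  haveI : Fact r.Prime := ⟨hr⟩
  haveI : Finite (MulAut G) := Finite.of_injective (fun e => (e : G → G)) (fun e f h => MulEquiv.ext (congrFun h))
  set β := α ^ (orderOf α / r) with hβdef
  have hβord : orderOf β = r := orderOf_pow_orderOf_div (orderOf_pos α).ne' hrd
  have hβr : β ^ r = 1 := by rw [← hβord, pow_orderOf_eq_one]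
  have hrG : ¬ r ∣ Nat.card G := fun h => hr.one_lt.ne' (Nat.eq_one_of_dvd_coprimes hcop hrd h)
  by_contra hno
  push_neg at hno
  have hpow : ∀ (i : ℕ) (c : G), α c = c → (α ^ i) c = c := by
    intro i c hc
    induction i with
    | zero => simp
    | succ i ih => rw [pow_succ', MulAut.mul_apply, ih, hc]
  have hC : Subgroup.centralizer ({τ} : Set G) ≤ Cfsg.Lib.CoprimeFixedCentralizer.fixed β :=
    fun c hc => hpow _ c (hno c hc)
  have hcore : (Cfsg.Lib.CoprimeFixedCentralizer.fixed β).normalCore = ⊥ := by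
    refine (Subgroup.Normal.eq_bot_or_eq_top inferInstance).resolve_right fun h => ?_
    have hfix : ∀ g, β g = g := fun g =>
      Subgroup.normalCore_le _ (h.symm ▸ Subgroup.mem_top g)
    have hone : β = 1 := MulEquiv.ext hfix
    rw [hone, orderOf_one] at hβord
    exact hr.one_lt.ne hβord
  have hiso : Cfsg.IsIsolatedInvolution τ := ⟨hτ, fun g hg => by
    have hgK : g * τ * g⁻¹ ∈ Cfsg.Lib.CoprimeFixedCentralizer.fixed β :=
      hC (Subgroup.mem_centralizer_singleton_iff.2 hg.eq.symm)
    have h1K : (1 : G) * τ * 1⁻¹ ∈ Cfsg.Lib.CoprimeFixedCentralizer.fixed β := by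
      simpa using hC (Subgroup.mem_centralizer_singleton_iff.2 rfl)
    have h := Cfsg.Lib.CoprimeFixedCentralizer.mul_inv_mem_normalCore hβr hrG hτ hC g 1 hgK h1K
    rw [hcore, Subgroup.mem_bot, mul_inv_eq_one] at h
    simpa using h⟩
  have hodd := Cfsg.Lib.ZStarApps.odd_card_pPrimeCore (G := G)
  have hO : Cfsg.pPrimeCore 2 G = ⊥ := by
    refine (Subgroup.Normal.eq_bot_or_eq_top inferInstance).resolve_right fun h => ?_
    rw [h, Subgroup.card_top] at hodd
    exact Nat.not_even_iff_odd.2 hodd (even_iff_two_dvd.2 (hτ ▸ orderOf_dvd_natCard τ))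
  have hz : τ ∈ Subgroup.center G := Subgroup.mem_center_iff.2 fun g => by
    have h := Cfsg.Lib.ZStarApps.zstarProp hiso g
    rw [hO, Subgroup.mem_bot, mul_inv_eq_one, mul_inv_eq_iff_eq_mul] at h
    exact h.symm
  rcases (inferInstance : (Subgroup.center G).Normal).eq_bot_or_eq_top with hb | ht
  · rw [hb, Subgroup.mem_bot] at hz
    rw [hz, orderOf_one] at hτ
    omega
  · exact hG ⟨⟨fun a b => Subgroup.mem_center_iff.1 (ht.symm ▸ Subgroup.mem_top b) a⟩⟩

end Cfsg.Agent.S3067
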