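import Cfsg.Statements.S3070
import Cfsg.Agent.PLocal.JAbelian.JComplement

set_option autoImplicit false
open Cfsg

namespace Cfsg.Agent.S3070

/-- Let p ≥ 5 be a prime, S a Sylow p-subgroup of the finite group G and J(S) the subgroup generated by the abelian subgroups of S of largest order. Then G has a normal p-complement if and only if N_G(J(S))/C_G(J(S)) is a p-group (every element of N_G(J(S)) of order prime to p centralizes J(S)). -/
theorem result {G : Type*} [Group G] [Finite G] {p : ℕ} [Fact p.Prime]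
    (hp : 5 ≤ p) (S : Sylow p G) :
    Cfsg.HasNormalPComplement p G ↔
      ∀ g ∈ Subgroup.normalizer (Cfsg.thompsonSubgroupAOf (S : Subgroup G) : Set G), (orderOf g).Coprime p →
        g ∈ Subgroup.centralizer (Cfsg.thompsonSubgroupAOf (S : Subgroup G) : Set G) := by
  classical
  set J := Cfsg.thompsonSubgroupAOf (S : Subgroup G) with hJ
  set N := Subgroup.normalizer (J : Set G) with hNdef
  have hJp : IsPGroup p ↥J := S.2.to_le (Cfsg.Lib.JAb.J_le _)
  constructor
  · intro h g hgN hg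
    obtain ⟨K, hK, hKc, k, hKk⟩ := Cfsg.Lib.Transfer.hasNormalPComplement_iff.1 h
    refine Subgroup.mem_centralizer_iff.2 fun j hj => ?_
    have hgK := (Cfsg.Lib.Transfer.mem_iff_coprime_orderOf hKc hKk g).2 hg
    have h1 : g * j * g⁻¹ * j⁻¹ ∈ K := by
      have := K.mul_mem hgK (hK.conj_mem _ (K.inv_mem hgK) j)
      simpa [mul_assoc] using this
    have h2 : g * j * g⁻¹ * j⁻¹ ∈ J :=
      J.mul_mem ((Subgroup.mem_normalizer_iff.1 hgN j).1 hj) (J.inv_mem hj)
    obtain ⟨n, hn⟩ := IsPGroup.iff_card.1 hJp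
    have h3 : g * j * g⁻¹ * j⁻¹ = 1 := Subgroup.mem_bot.1
      ((Cfsg.Lib.Coprime.inf_eq_bot_of_coprime (hn ▸ hKc.pow_right n)).le ⟨h1, h2⟩)
    calc j * g = (g * j * g⁻¹ * j⁻¹) * (j * g) := by rw [h3, one_mul]
      _ = g * j := by group
  · intro h
    refine Cfsg.Lib.JAb.hasNormalPComplement_of_J hp (Nat.card G) G rfl S ?_
    refine Cfsg.Lib.Transfer.hasNormalPComplement_of_frobenius (G := N) fun Q hQ y hy hyc => ?_
    have hyJ : (y : G) ∈ Subgroup.centralizer (J : Set G) := h y y.2 (by rwa [Subgroup.orderOf_coe])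
    refine Subgroup.mem_centralizer_iff.2 fun q hq => ?_
    -- the commutator lies in a `p`-subgroup of the centraliser of `J`
    have hd : y * q * y⁻¹ * q⁻¹ ∈ Q := Q.mul_mem ((Subgroup.mem_normalizer_iff.1 hy q).1 hq) (Q.inv_mem hq)
    set C := (Subgroup.centralizer (J : Set G)).subgroupOf N with hC
    haveI : C.Normal := Subgroup.normal_subgroupOf_of_le_normalizer
      (Cfsg.Lib.Thompson.normalizer_le_normalizer_centralizer J)
    have hdC : y * q * y⁻¹ * q⁻¹ ∈ C := by
      have hyC : y ∈ C := Subgroup.mem_subgroupOf.2 hyJ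
      have := C.mul_mem hyC ((inferInstance : C.Normal).conj_mem _ (C.inv_mem hyC) q)
      simpa [mul_assoc] using this
    have hdJ : ((y * q * y⁻¹ * q⁻¹ : N) : G) ∈ J := by
      set d : N := y * q * y⁻¹ * q⁻¹
      have hSN : (S : Subgroup G) ≤ N :=
        Subgroup.le_normalizer.trans (Cfsg.Lib.JAb.normalizer_le_normalizer_J _)
      set T : Sylow p N := S.subtype hSN
      obtain ⟨P', hP'⟩ := (hQ.to_le (Subgroup.zpowers_le.2 hd)).exists_le_sylow
      obtain ⟨w, hw⟩ := MulAction.exists_smul_eq N P' T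
      have hmem : MulAut.conj w d ∈ (T : Subgroup N) := by
        rw [← hw, Cfsg.Lib.Transfer.sylow_smul_coe]
        exact Subgroup.mem_map_of_mem _ (hP' (Subgroup.mem_zpowers d))
      have hS : ((w * d * w⁻¹ : N) : G) ∈ (S : Subgroup G) := by
        have h2 : ((MulAut.conj w d : N) : G) ∈ (S : Subgroup G) := hmem
        simpa using h2
      have hcen : ((w * d * w⁻¹ : N) : G) ∈ Subgroup.centralizer (J : Set G) :=
        Subgroup.mem_subgroupOf.1 ((inferInstance : C.Normal).conj_mem d hdC w)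
      obtain ⟨A, hA⟩ := Cfsg.Lib.Fusion.maxAb_nonempty (T := (S : Subgroup G))
      have hA' : ((w * d * w⁻¹ : N) : G) ∈ A := by
        haveI := hA.2.1
        have hle : A ⊔ Subgroup.zpowers ((w * d * w⁻¹ : N) : G) ≤ (S : Subgroup G) :=
          sup_le hA.1 (Subgroup.zpowers_le.2 hS)
        have hc : IsMulCommutative ↥(A ⊔ Subgroup.zpowers ((w * d * w⁻¹ : N) : G)) := by
          refine Cfsg.Lib.JAb.isMulCommutative_sup (Subgroup.le_centralizer_iff.1 ?_)
          exact Subgroup.zpowers_le.2 (Subgroup.centralizer_le (Cfsg.Lib.JAb.le_J hA) hcen)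
        rw [Subgroup.eq_of_le_of_card_ge le_sup_left (hA.2.2 _ hle hc)]
        exact Subgroup.mem_sup_right (Subgroup.mem_zpowers _)
      have hJ' : ((w * d * w⁻¹ : N) : G) ∈ J := Cfsg.Lib.JAb.le_J hA hA'
      exact (Subgroup.mem_normalizer_iff.1 w.2 _).2 (by simpa using hJ')
    have h1 : Cfsg.Lib.JAb.dl (y : G) (q : G) = 1 := by
      have he : Cfsg.Lib.JAb.dl (y : G) (q : G) = (q : G)⁻¹ * ((y * q * y⁻¹ * q⁻¹ : N) : G) * q := by
        simp only [Cfsg.Lib.JAb.dl, Subgroup.coe_mul, InvMemClass.coe_inv]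
        group
      have hJm : Cfsg.Lib.JAb.dl (y : G) (q : G) ∈ J := by
        rw [he]
        have := (Subgroup.mem_normalizer_iff.1 (N.inv_mem q.2) _).1 hdJ
        simpa using this
      refine Cfsg.Lib.JAb.dl_eq_one_of_coprime (by rwa [Subgroup.orderOf_coe])
        (Subgroup.mem_centralizer_iff.1 hyJ _ hJm).symm ?_
      obtain ⟨n, hn⟩ := hJp ⟨_, hJm⟩
      exact ⟨n, congrArg Subtype.val hn⟩
    exact Subtype.ext (Cfsg.Lib.JAb.dl_eq_one_iff.1 h1).symm

end Cfsg.Agent.S3070
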