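import Cfsg.Statements.S3075
import Mathlib.FieldTheory.Finite.Basic
import Mathlib.Tactic.LinearCombination

set_option autoImplicit false
open Cfsg

namespace Cfsg.Agent.S3075

/-- Let p be an odd prime and N a finite group with a normal elementary abelian subgroup A of order p² that is its own centralizer in N, such that N/A is isomorphic to SL₂(p) (over any field F with p elements). Then N splits over A: some subgroup U of N satisfies A ∩ U = 1 and AU = N. -/
theorem result {N : Type*} [Group N] [Finite N] {p : ℕ} [Fact p.Prime] (hp : p ≠ 2)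
    (A : Subgroup N) [A.Normal] (hAcomm : IsMulCommutative A) (hAcard : Nat.card A = p ^ 2) (hAexp : Monoid.exponent ↥A = p)
    (hAself : Subgroup.centralizer (A : Set N) = A)
    {F : Type*} [Field F] [Fintype F] (hF : Fintype.card F = p) (e : N ⧸ A ≃* Matrix.SpecialLinearGroup (Fin 2) F) :
    ∃ U : Subgroup N, A ⊓ U = ⊥ ∧ A ⊔ U = ⊤ := by
  open Subgroup in
  exact by
    have hpp : p.Prime := Fact.out
    have hpodd : Odd p := hpp.odd_of_ne_two hp
    have hAc : ∀ a ∈ A, ∀ b ∈ A, a * b = b * a := fun a ha b hb =>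
      congrArg Subtype.val (hAcomm.is_comm.comm ⟨a, ha⟩ ⟨b, hb⟩)
    have hAp : ∀ a ∈ A, a ^ p = 1 := fun a ha => by
      have h := congrArg Subtype.val (Monoid.pow_exponent_eq_one (⟨a, ha⟩ : A))
      rw [hAexp] at h
      simpa using h
    have hchar : ringChar F ≠ 2 := fun h => by
      have := FiniteField.even_card_iff_char_two.1 h
      rw [hF] at this
      obtain ⟨k, rfl⟩ := hpodd
      omega
    have hF2 : (2 : F) ≠ 0 := Ring.two_ne_zero hchar
    set π := QuotientGroup.mk' A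
    set z : Matrix.SpecialLinearGroup (Fin 2) F := -1
    have hzc : ∀ s, s * z = z * s := fun s => by simp [z]
    have hz1 : z ≠ 1 := fun h => hF2 (by
      have := congrArg (fun M : Matrix.SpecialLinearGroup (Fin 2) F => (M : Matrix (Fin 2) (Fin 2) F) 0 0) h
      simp [z] at this
      linear_combination -this)
    have hz2 : z * z = 1 := by simp [z]
    obtain ⟨t0, ht0⟩ := QuotientGroup.mk'_surjective A (e.symm z)
    set t := t0 ^ p with htdef
    have hπt : π t = e.symm z := by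
      rw [htdef, map_pow, ht0, ← map_pow]
      obtain ⟨k, hk⟩ := hpodd
      rw [hk, pow_succ, pow_mul, pow_two, hz2, one_pow, one_mul]
    have ht2 : t * t = 1 := by
      have h : t0 * t0 ∈ A := (QuotientGroup.eq_one_iff _).1 (by
        show π (t0 * t0) = 1
        rw [map_mul, ht0, ← map_mul, hz2, map_one])
      rw [htdef, ← Commute.mul_pow (Commute.refl t0)]
      exact hAp _ h
    have hcentral : ∀ n : N, ∃ a ∈ A, n * t * n⁻¹ = a * t := fun n => by
      refine ⟨n * t * n⁻¹ * t⁻¹, (QuotientGroup.eq_one_iff _).1 ?_, by group⟩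
      show π (n * t * n⁻¹ * t⁻¹) = 1
      rw [map_mul, map_mul, map_mul, map_inv, map_inv, hπt]
      refine e.injective ?_
      rw [map_mul, map_mul, map_mul, map_inv, map_inv, map_one, e.apply_symm_apply, hzc, mul_inv_cancel_right, mul_inv_cancel]
    have hAn : ∀ n a : N, a ∈ A → n * a * n⁻¹ ∈ A := fun n a ha => (inferInstance : A.Normal).conj_mem a ha n
    -- the two eigen-subgroups of `t`
    have mkF : ∀ ε : ℤ, ∃ E : Subgroup N, E ≤ A ∧ (∀ a, a ∈ E ↔ a ∈ A ∧ t * a * t⁻¹ = a ^ ε) ∧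
        ∀ n : N, ∀ a ∈ E, n * a * n⁻¹ ∈ E := by
      intro ε
      refine ⟨{ carrier := {a | a ∈ A ∧ t * a * t⁻¹ = a ^ ε}
                one_mem' := ⟨one_mem A, by group⟩
                mul_mem' := fun {a b} ha hb => ⟨mul_mem ha.1 hb.1, by
                  rw [Commute.mul_zpow (hAc a ha.1 b hb.1), ← ha.2, ← hb.2]; group⟩
                inv_mem' := fun {a} ha => ⟨inv_mem ha.1, by rw [inv_zpow, ← ha.2]; group⟩ },
        fun a ha => ha.1, fun a => Iff.rfl, fun n a ha => ⟨hAn n a ha.1, ?_⟩⟩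
      obtain ⟨c, hc, hnt⟩ := hcentral n
      have h1 : t * n = c⁻¹ * n * t := by
        calc t * n = c⁻¹ * (c * t) * n := by group
          _ = c⁻¹ * n * t := by rw [← hnt]; group
      calc t * (n * a * n⁻¹) * t⁻¹ = (t * n) * a * (t * n)⁻¹ := by group
        _ = c⁻¹ * (n * (t * a * t⁻¹) * n⁻¹) * c := by rw [h1]; group
        _ = n * (t * a * t⁻¹) * n⁻¹ := by
          rw [ha.2, hAc c⁻¹ (inv_mem hc) _ (hAn n _ (zpow_mem ha.1 ε))]; group
        _ = (n * a * n⁻¹) ^ ε := by rw [ha.2, conj_zpow]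
    obtain ⟨E0, hE0A, hE0, hE0n⟩ := mkF 1
    obtain ⟨E1, hE1A, hE1, hE1n⟩ := mkF (-1)
    have hsplit : ∀ a ∈ A, ∃ u ∈ E0, ∃ v ∈ E1, a * a = u * v := by
      intro a ha
      have hb := hAn t a ha
      refine ⟨a * (t * a * t⁻¹), (hE0 _).2 ⟨mul_mem ha hb, ?_⟩, a * (t * a * t⁻¹)⁻¹,
        (hE1 _).2 ⟨mul_mem ha (inv_mem hb), ?_⟩, ?_⟩
      · rw [zpow_one, hAc a ha _ hb]
        calc t * (t * a * t⁻¹ * a) * t⁻¹ = (t * t) * a * (t * t)⁻¹ * (t * a * t⁻¹) := by group
          _ = a * (t * a * t⁻¹) := by rw [ht2]; group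
          _ = t * a * t⁻¹ * a := hAc a ha _ hb
      · calc t * (a * (t * a * t⁻¹)⁻¹) * t⁻¹ = (t * a * t⁻¹) * ((t * t) * a * (t * t)⁻¹)⁻¹ := by group
          _ = (a * (t * a * t⁻¹)⁻¹) ^ (-1 : ℤ) := by rw [ht2]; group
      · rw [hAc _ hb a ha |> fun h => (show a * (t * a * t⁻¹) * (a * (t * a * t⁻¹)⁻¹) = a * a from by
          rw [← mul_assoc, mul_assoc a (t * a * t⁻¹) a, hAc _ hb a ha]; group)]
    have hroot : ∀ a ∈ A, ∃ b ∈ A, b * b = a := fun a ha => by
      obtain ⟨k, hk⟩ := hpodd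
      refine ⟨a ^ (k + 1), pow_mem ha _, ?_⟩
      rw [← pow_add, show k + 1 + (k + 1) = p + 1 by omega, pow_succ, hAp a ha, one_mul]
    have hE1ne : E1 ≠ ⊥ := fun h => by
      have hcen : t ∈ Subgroup.centralizer (A : Set N) := mem_centralizer_iff.2 fun a ha => by
        obtain ⟨b, hb, rfl⟩ := hroot a ha
        obtain ⟨u, hu, v, hv, huv⟩ := hsplit b hb
        rw [h, mem_bot] at hv
        rw [huv, hv, mul_one]
        have := ((hE0 u).1 hu).2
        rw [zpow_one] at this
        exact (mul_inv_eq_iff_eq_mul.1 this).symm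
      rw [hAself] at hcen
      have h1 : π t = 1 := (QuotientGroup.eq_one_iff t).2 hcen
      rw [hπt] at h1
      exact hz1 (by simpa using congrArg e h1)
    have hE01 : E0 ⊓ E1 = ⊥ := eq_bot_iff.2 fun a ha => by
      obtain ⟨h0, h1⟩ := mem_inf.1 ha
      have e0 := ((hE0 a).1 h0).2
      have e1 := ((hE1 a).1 h1).2
      rw [zpow_one] at e0
      rw [e0, zpow_neg_one] at e1
      have h2 : a ^ 2 = 1 := by rw [pow_two]; nth_rewrite 2 [e1]; exact mul_inv_cancel a
      exact mem_bot.2 (orderOf_eq_one_iff.1 (Nat.eq_one_of_dvd_coprimes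
        ((Nat.coprime_primes Nat.prime_two hpp).2 (Ne.symm hp)) (orderOf_dvd_of_pow_eq_one h2)
        (orderOf_dvd_of_pow_eq_one (hAp a (hE0A h0)))))
    have hE0bot : E0 = ⊥ := by
      by_contra hne
      have hsmall : ∀ E E' : Subgroup N, E ≤ A → E' ≤ A → E ⊓ E' = ⊥ → E' ≠ ⊥ → ∀ a ∈ E, a ≠ 1 → ∀ b ∈ E, b ∈ zpowers a := by
        intro E E' hE hE' hd hne' a ha ha1 b hb
        have hlt : Nat.card E < p ^ 2 := hAcard ▸ lt_of_le_of_ne (Nat.le_of_dvd Nat.card_pos (card_dvd_of_le hE))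
          fun h => hne' (le_bot_iff.1 (hd ▸ le_inf ((hE').trans (eq_of_le_of_card_ge hE h.ge).ge) le_rfl))
        obtain ⟨i, hi, hEc⟩ := (Nat.dvd_prime_pow hpp).1 (hAcard ▸ card_dvd_of_le hE)
        have hao : orderOf a = p := orderOf_eq_prime (hAp a (hE ha)) ha1
        have : zpowers a = E := eq_of_le_of_card_ge (zpowers_le.2 ha) (by
          rw [Nat.card_zpowers, hao, hEc]
          interval_cases i
          · simp [hpp.one_le]
          · simp
          · rw [hEc] at hlt; exact absurd hlt (lt_irrefl _))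
        rw [this]; exact hb
      have hfix : ∀ E : Subgroup N, (∀ n : N, ∀ a ∈ E, n * a * n⁻¹ ∈ E) →
          (∀ a ∈ E, a ≠ 1 → ∀ b ∈ E, b ∈ zpowers a) → ∀ m n : N, ∀ a ∈ E,
            m * (n * a * n⁻¹) * m⁻¹ = n * (m * a * m⁻¹) * n⁻¹ := by
        intro E hEn hE m n a ha
        by_cases ha1 : a = 1
        · subst ha1; group
        obtain ⟨i, hi⟩ := mem_zpowers_iff.1 (hE a ha ha1 _ (hEn n a ha))
        obtain ⟨j, hj⟩ := mem_zpowers_iff.1 (hE a ha ha1 _ (hEn m a ha))
        rw [← hi, ← hj, ← conj_zpow, ← conj_zpow, ← hi, ← hj, ← zpow_mul, ← zpow_mul, mul_comm]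
      have hE0z := hsmall E0 E1 hE0A hE1A hE01 hE1ne
      have hE1z := hsmall E1 E0 hE1A hE0A (inf_comm E0 E1 ▸ hE01) hne
      have habel : ∀ q r : N ⧸ A, q * r = r * q := by
        intro q r
        obtain ⟨m, rfl⟩ := QuotientGroup.mk'_surjective A q
        obtain ⟨n, rfl⟩ := QuotientGroup.mk'_surjective A r
        rw [← map_mul, ← map_mul]
        refine QuotientGroup.eq.2 ?_
        rw [← hAself]
        refine mem_centralizer_iff.2 fun a ha => ?_
        have hc : ∀ E : Subgroup N, (∀ n : N, ∀ a ∈ E, n * a * n⁻¹ ∈ E) → (∀ a ∈ E, a ≠ 1 → ∀ b ∈ E, b ∈ zpowers a) →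
            ∀ u ∈ E, Commute ((m * n)⁻¹ * (n * m)) u := by
          intro E hEn hE u hu
          have h1 := hfix E hEn hE m n u hu
          show (m * n)⁻¹ * (n * m) * u = u * ((m * n)⁻¹ * (n * m))
          calc (m * n)⁻¹ * (n * m) * u = (m * n)⁻¹ * (n * (m * u * m⁻¹) * n⁻¹) * (n * m) := by group
            _ = u * ((m * n)⁻¹ * (n * m)) := by rw [← h1]; group
        obtain ⟨b, hb, rfl⟩ := hroot a ha
        obtain ⟨u, hu, v, hv, huv⟩ := hsplit b hb
        rw [huv]
        exact ((hc E0 hE0n hE0z u hu).mul_right (hc E1 hE1n hE1z v hv)).eq.symm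
      let u1 : Matrix.SpecialLinearGroup (Fin 2) F := ⟨!![1, 1; 0, 1], by simp [Matrix.det_fin_two]⟩
      let u2 : Matrix.SpecialLinearGroup (Fin 2) F := ⟨!![1, 0; 1, 1], by simp [Matrix.det_fin_two]⟩
      have h := congrArg e (habel (e.symm u1) (e.symm u2))
      rw [map_mul, map_mul, e.apply_symm_apply, e.apply_symm_apply] at h
      have hM : (!![1, 1; 0, 1] : Matrix (Fin 2) (Fin 2) F) * !![1, 0; 1, 1] = !![1, 0; 1, 1] * !![1, 1; 0, 1] :=
        congrArg Subtype.val h
      have h00 := congrArg (fun M : Matrix (Fin 2) (Fin 2) F => M 0 0) hM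
      simp [Matrix.mul_apply, Fin.sum_univ_two] at h00
    refine ⟨Subgroup.centralizer ({t} : Set N), eq_bot_iff.2 fun a ha => ?_, eq_top_iff.2 fun n _ => ?_⟩
    · rw [← hE0bot]
      refine (hE0 a).2 ⟨(mem_inf.1 ha).1, ?_⟩
      rw [zpow_one, ← mem_centralizer_singleton_iff.1 (mem_inf.1 ha).2, mul_inv_cancel_right]
    · obtain ⟨c, hc, hnt⟩ := hcentral n
      obtain ⟨b, hb, hbc⟩ := hroot c hc
      have htb : t * b * t⁻¹ = b⁻¹ := by
        obtain ⟨u, hu, v, hv, huv⟩ := hsplit b hb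
        obtain ⟨r, hr, hrb⟩ := hroot b hb
        obtain ⟨u', hu', v', hv', huv'⟩ := hsplit r hr
        rw [hE0bot, mem_bot] at hu'
        rw [hrb, hu', one_mul] at huv'
        rw [huv']
        exact (((hE1 v').1 hv').2).trans (zpow_neg_one v')
      have htb' : t * b = b⁻¹ * t := mul_inv_eq_iff_eq_mul.1 htb
      have h1 : b⁻¹ * n ∈ Subgroup.centralizer ({t} : Set N) := mem_centralizer_singleton_iff.2 (by
        calc b⁻¹ * n * t = b⁻¹ * (c * t) * n := by rw [← hnt]; group
          _ = (b * t) * n := by rw [← hbc]; group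
          _ = t * (b⁻¹ * n) := by
            have e : t * b⁻¹ = b * t := by
              calc t * b⁻¹ = (t * b * t⁻¹)⁻¹ * t := by group
                _ = b * t := by rw [htb, inv_inv]
            rw [← mul_assoc, e])
      rw [show n = b * (b⁻¹ * n) by group]
      exact mul_mem (mem_sup_left hb) (mem_sup_right h1)

end Cfsg.Agent.S3075
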