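import Cfsg.Statements.S3080
import Cfsg.Agent.Components.ZJ.Closed

set_option autoImplicit false
open Cfsg

namespace Cfsg.Agent.S3080

/-- Let p be an odd prime, G a finite group that is p-stable in the normalizer form, P a Sylow p-subgroup such that N_G(U) is p-constrained for every nontrivial subgroup U of P, and D a subgroup of P strongly closed in P with respect to G. Then N_G(Z(J(D))) controls strong G-fusion in P (for every subset A of P and every g ∈ G with gAg⁻¹ ⊆ P, some element of that normalizer acts on A exactly as g does; J(D) is generated by the abelian subgroups of D of largest order), and so does N_G(Ω₁(Z(J_e(D)))) (J_e(D) generated by the elementary abelian subgroups of largest order). -/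
theorem result {G : Type*} [Group G] [Finite G] {p : ℕ} [Fact p.Prime] (hp : p ≠ 2) (P : Sylow p G) (D : Subgroup G) (hD : Cfsg.IsStronglyClosed D (P : Subgroup G)) (hst : Cfsg.IsNormalizerPStable p G) (hc : ∀ U : Subgroup G, U ≤ (P : Subgroup G) → U ≠ ⊥ → Cfsg.IsPConstrained p ↥(Subgroup.normalizer (U : Set G))) : (∀ A : Set G, A ⊆ (P : Subgroup G) → Cfsg.ControlsStrongFusionOf (Subgroup.normalizer ((Cfsg.centerThompsonAOf D) : Set G)) (P : Subgroup G) A) ∧ (∀ A : Set G, A ⊆ (P : Subgroup G) → Cfsg.ControlsStrongFusionOf (Subgroup.normalizer ((Cfsg.omegaOne p (Cfsg.centerThompsonOf p D)) : Set G)) (P : Subgroup G) A) := by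
    refine ⟨Cfsg.Lib.ZJ.controls_of_stronglyClosed P D hD Cfsg.centerThompsonAOf
        (fun T _ => inf_le_left.trans (Subgroup.map_subtype_le _))
        (fun T hT => Cfsg.Lib.ZJ.centerThompsonAOf_ne_bot (P.2.to_le hT))
        (fun g T => Cfsg.Lib.ZJ.centerThompsonAOf_map (MulAut.conj g) T) ?_,
      Cfsg.Lib.ZJ.controls_of_stronglyClosed P D hD (fun T => Cfsg.omegaOne p (Cfsg.centerThompsonOf p T))
        ?_ (fun T hT => Cfsg.Lib.ZJ.omega_ne_bot (P.2.to_le hT)) ?_ ?_⟩
    · exact fun U hU hU1 hg y hy => (Cfsg.Lib.ZJ.local_factor hp hst P hD (hc U hU hU1) hg y hy).1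
    · exact fun T _ => (Subgroup.closure_le _).mpr fun x hx =>
        Cfsg.Lib.Thompson.thompsonSubgroupOf_le T hx.1.1
    · exact fun g T => by rw [Cfsg.Lib.ZJ.map_omegaOne, Cfsg.Lib.ZJ.map_centerThompsonOf]
    · exact fun U hU hU1 hg y hy => (Cfsg.Lib.ZJ.local_factor hp hst P hD (hc U hU hU1) hg y hy).2

end Cfsg.Agent.S3080
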