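import Cfsg.Statements.S3086
import Cfsg.Agent.Components.Timmesfeld.Main
import Cfsg.Agent.Components.Layer

set_option autoImplicit false
open Cfsg

namespace Cfsg.Agent.S3086

/-- The P(G,V)-theorem. Let p be a prime, G a finite group acting faithfully and linearly on a finite vector space V over the field with p elements, and A a nontrivial elementary abelian p-subgroup of G such that |A|·|C_V(A)| ≥ |B|·|C_V(B)| for every subgroup B of A. Then A normalizes every component (subnormal quasisimple subgroup) of G. -/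
theorem result {G V : Type*} [Group G] [Finite G] [AddCommGroup V] [Finite V] (p : ℕ) [Fact p.Prime] [Module (ZMod p) V]
    (ρ : Representation (ZMod p) G V) (hρ : Function.Injective ρ)
    (A : Subgroup G) (hA : A ≠ ⊥) (hAel : Cfsg.IsElementaryAbelian p A)
    (hP : ∀ B : Subgroup G, B ≤ A →
      Nat.card ↥B * Nat.card {v : V // ∀ b ∈ B, ρ b v = v} ≤ Nat.card ↥A * Nat.card {v : V // ∀ a ∈ A, ρ a v = v}) :
    ∀ K : Subgroup G, Cfsg.IsComponent K → A ≤ Subgroup.normalizer (K : Set G) := by
  intro K hK
  classical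
  open Subgroup Cfsg.Lib.Components in
  exact (by
    let φ : G →* AddMonoid.End V :=
      { toFun := fun g => (ρ g).toAddMonoidHom
        map_one' := AddMonoidHom.ext fun v => by show ρ 1 v = v; rw [map_one]; rfl
        map_mul' := fun g h => AddMonoidHom.ext fun v => by show ρ (g * h) v = ρ g (ρ h v); rw [map_mul]; rfl }
    have hgood : Timmesfeld.Good K := by
      refine ⟨comp_perfect hK, fun N hNK hconj => ?_⟩
      haveI : (N.subgroupOf K).Normal := ⟨fun z hz x => hconj x x.2 z hz⟩
      rcases qs_subnormal_eq_top_or_le_center hK.2 (Subgroup.Normal.isSubnormal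
        (inferInstance : (N.subgroupOf K).Normal)) with h | h
      · exact Or.inl (subgroupOf_eq_top.1 h)
      · right
        intro z hz x hx
        exact (congrArg Subtype.val (mem_center_iff.1 (h (show (⟨z, hNK hz⟩ : K) ∈ N.subgroupOf K from hz)) ⟨x, hx⟩)).symm
    have hmap : ∀ g : G, ∀ k ∈ K, g * k * g⁻¹ ∈ K.map (MulAut.conj g).toMonoidHom :=
      fun g k hk => ⟨k, hk, rfl⟩
    have hdich : ∀ g ∈ A, (∀ k ∈ K, g * k * g⁻¹ ∈ K) ∨
        ∀ x ∈ K, ∀ y ∈ K, x * (g * y * g⁻¹) = g * y * g⁻¹ * x := by
      intro g _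
      by_cases h : K = K.map (MulAut.conj g).toMonoidHom
      · exact Or.inl fun k hk => h ▸ hmap g k hk
      · refine Or.inr fun x hx y hy => ?_
        exact (commutatorElement_eq_one_iff_mul_comm.1 (mem_bot.1
          (comp_commute hK (comp_conj hK g) h ▸ commutator_mem_commutator hx (hmap g y hy))))
    have hfix : ∀ B : Subgroup G, Nat.card (Timmesfeld.fixU φ ⊤ B) =
        Nat.card {v : V // ∀ b ∈ B, ρ b v = v} := fun B =>
      Nat.card_congr (Equiv.subtypeEquivRight fun v => ⟨fun h => h.2, fun h => ⟨AddSubgroup.mem_top v, h⟩⟩)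
    obtain ⟨k, hk, hk1⟩ : ∃ k ∈ K, k ≠ 1 := by
      by_contra h
      push Not at h
      exact comp_ne_bot hK ((eq_bot_iff_forall K).2 h)
    have hne : ∃ k ∈ K, ∃ v ∈ (⊤ : AddSubgroup V), φ k v ≠ v := by
      refine ⟨k, hk, ?_⟩
      by_contra hall
      push Not at hall
      apply hk1
      apply hρ
      rw [map_one]
      exact LinearMap.ext fun v => hall v (AddSubgroup.mem_top v)
    have hN := Timmesfeld.offender_normalises φ hgood A hdich
      (fun a ha b hb => congrArg Subtype.val (hAel.1.is_comm.comm (⟨a, ha⟩ : A) ⟨b, hb⟩)) hAel.2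
      (fun v => by rw [← Nat.cast_smul_eq_nsmul (ZMod p), ZMod.natCast_self, zero_smul]) ⊤
      (fun _ _ _ _ => AddSubgroup.mem_top _) (fun _ _ _ _ => AddSubgroup.mem_top _)
      (fun B hB => by rw [hfix, hfix]; exact hP B hB) hne
    intro a ha
    rw [mem_normalizer_iff_map_conj_eq]
    refine Subgroup.eq_of_le_of_card_ge (H := K.map (MulAut.conj a).toMonoidHom) ?_ ?_
    · rintro _ ⟨x, hx, rfl⟩
      exact hN ha x hx
    · exact (Nat.card_congr (K.equivMapOfInjective _ (MulAut.conj a).injective).toEquiv).le)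

end Cfsg.Agent.S3086
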