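import Cfsg.Statements.S3087
import Cfsg.Agent.Components.Misc.Easy

set_option autoImplicit false
open Cfsg

namespace Cfsg.Agent.S3087

/-- Let p be a prime, G a finite group acting linearly on a finite vector space V over the field with p elements, W a G-invariant subspace, and A a subgroup of G with |A|·|C_V(A)| ≥ |B|·|C_V(B)| for every subgroup B of A. Then |A|·|C_W(A)| ≥ |B|·|C_W(B)| for every subgroup B of A that contains C_A(W); that is, the image of A in the group induced on W satisfies the same maximality condition. -/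
theorem result {G V : Type*} [Group G] [Finite G] [AddCommGroup V] [Finite V] (p : ℕ) [Fact p.Prime] [Module (ZMod p) V]
    (ρ : Representation (ZMod p) G V) (W : Submodule (ZMod p) V) (hW : ∀ g : G, ∀ w ∈ W, ρ g w ∈ W)
    (A : Subgroup G)
    (hP : ∀ B : Subgroup G, B ≤ A →
      Nat.card ↥B * Nat.card {v : V // ∀ b ∈ B, ρ b v = v} ≤ Nat.card ↥A * Nat.card {v : V // ∀ a ∈ A, ρ a v = v})
    (B : Subgroup G) (hBA : B ≤ A) (hCB : ∀ a ∈ A, (∀ w ∈ W, ρ a w = w) → a ∈ B) :
    Nat.card ↥B * Nat.card {w : W // ∀ b ∈ B, ρ b w = w} ≤ Nat.card ↥A * Nat.card {w : W // ∀ a ∈ A, ρ a w = w} := by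
  set CA : AddSubgroup V :=
    { carrier := {v : V | ∀ a ∈ A, ρ a v = v}
      zero_mem' := fun a _ => map_zero _
      add_mem' := fun {u v} hu hv a ha => by rw [map_add, hu a ha, hv a ha]
      neg_mem' := fun {u} hu a ha => by rw [map_neg, hu a ha] } with hCA
  set CB : AddSubgroup V :=
    { carrier := {v : V | ∀ a ∈ B, ρ a v = v}
      zero_mem' := fun a _ => map_zero _
      add_mem' := fun {u v} hu hv a ha => by rw [map_add, hu a ha, hv a ha]
      neg_mem' := fun {u} hu a ha => by rw [map_neg, hu a ha] } with hCB'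
  have hle : CA ≤ CB := fun v hv b hb => hv b (hBA hb)
  have key := Cfsg.Lib.Easy.fixed_card_le W.toAddSubgroup CA CB hle
  have eB : Nat.card {w : W // ∀ b ∈ B, ρ b w = w} = Nat.card ↥(W.toAddSubgroup ⊓ CB) :=
    Nat.card_congr ⟨fun w => ⟨w.1.1, w.1.2, w.2⟩, fun v => ⟨⟨v.1, v.2.1⟩, v.2.2⟩,
      fun w => rfl, fun v => rfl⟩
  have eA : Nat.card {w : W // ∀ a ∈ A, ρ a w = w} = Nat.card ↥(W.toAddSubgroup ⊓ CA) :=
    Nat.card_congr ⟨fun w => ⟨w.1.1, w.1.2, w.2⟩, fun v => ⟨⟨v.1, v.2.1⟩, v.2.2⟩,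
      fun w => rfl, fun v => rfl⟩
  have hP' : Nat.card B * Nat.card CB ≤ Nat.card A * Nat.card CA := hP B hBA
  have hpos : 0 < Nat.card CA := Nat.card_pos
  rw [eA, eB]
  refine Nat.le_of_mul_le_mul_right ?_ hpos
  calc Nat.card B * Nat.card ↥(W.toAddSubgroup ⊓ CB) * Nat.card CA
      = Nat.card B * (Nat.card ↥(W.toAddSubgroup ⊓ CB) * Nat.card CA) := mul_assoc _ _ _
    _ ≤ Nat.card B * (Nat.card CB * Nat.card ↥(W.toAddSubgroup ⊓ CA)) := Nat.mul_le_mul_left _ key
    _ = Nat.card B * Nat.card CB * Nat.card ↥(W.toAddSubgroup ⊓ CA) := (mul_assoc _ _ _).symm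
    _ ≤ Nat.card A * Nat.card CA * Nat.card ↥(W.toAddSubgroup ⊓ CA) := Nat.mul_le_mul_right _ hP'
    _ = Nat.card A * Nat.card ↥(W.toAddSubgroup ⊓ CA) * Nat.card CA := Nat.mul_right_comm _ _ _

end Cfsg.Agent.S3087
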