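import Cfsg.Statements.S3091
import Cfsg.Agent.LThreePlane.Common
import Cfsg.Agent.LThreePlane.Small
import Cfsg.Agent.LThreePlane.Count
import Cfsg.Agent.LThreePlane.Plane
-- import your own Cfsg.Agent.* helpers here

set_option autoImplicit false
open Cfsg

namespace Cfsg.Agent.S3091

/-- Let G be a finite group of characteristic 2 type and q = 2ᵉ > 2, F the field with q elements. Let L₁ ≠ L₂ be subgroups of G such that, for i = 1, 2, V_i = O₂(L_i) is elementary abelian with L_i/V_i ≅ SL(2, q) acting on V_i as on its natural 2-dimensional module F² (an additive isomorphism V_i ≅ F² carrying conjugation by g ∈ L_i to multiplication by the matrix of gV_i), and such that J = V₁V₂ is a Sylow 2-subgroup of both L₁ and L₂. Assume that N_G(L₁) and N_G(L₂) are maximal 2-local subgroups of G and that, for a Sylow 2-subgroup T of N_G(L₁), the subgroup generated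 by T, L₁ and L₂ has no nontrivial normal 2-subgroup. Then G has sectional 2-rank at most 4, or F*(G) ≅ L₃(q). -/
theorem result
    {G : Type*} [Group G] [Finite G] (hG : Cfsg.IsCharacteristicTwoType G)
    {F : Type*} [Field F] [Fintype F] (e : ℕ) (he : 2 ≤ e) (hF : Fintype.card F = 2 ^ e)
    (L₁ L₂ : Subgroup G) (hne : L₁ ≠ L₂)
    (φ₁ : ↥L₁ ⧸ Cfsg.pCore 2 ↥L₁ ≃* Matrix.SpecialLinearGroup (Fin 2) F)
    (ψ₁ : Additive ↥(Cfsg.pCore 2 ↥L₁) ≃+ (Fin 2 → F))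
    (h₁ : ∀ (g : ↥L₁) (v : ↥(Cfsg.pCore 2 ↥L₁)),
      ψ₁ (Additive.ofMul ⟨g * v * g⁻¹, Subgroup.Normal.conj_mem inferInstance (v : ↥L₁) v.2 g⟩)
        = Matrix.mulVec ((φ₁ (QuotientGroup.mk g) : Matrix.SpecialLinearGroup (Fin 2) F) : Matrix (Fin 2) (Fin 2) F) (ψ₁ (Additive.ofMul v)))
    (φ₂ : ↥L₂ ⧸ Cfsg.pCore 2 ↥L₂ ≃* Matrix.SpecialLinearGroup (Fin 2) F)
    (ψ₂ : Additive ↥(Cfsg.pCore 2 ↥L₂) ≃+ (Fin 2 → F))
    (h₂ : ∀ (g : ↥L₂) (v : ↥(Cfsg.pCore 2 ↥L₂)),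
      ψ₂ (Additive.ofMul ⟨g * v * g⁻¹, Subgroup.Normal.conj_mem inferInstance (v : ↥L₂) v.2 g⟩)
        = Matrix.mulVec ((φ₂ (QuotientGroup.mk g) : Matrix.SpecialLinearGroup (Fin 2) F) : Matrix (Fin 2) (Fin 2) F) (ψ₂ (Additive.ofMul v)))
    (hJ₁ : ∃ S : Sylow 2 ↥L₁, (S : Subgroup ↥L₁).map L₁.subtype = (Cfsg.pCore 2 ↥L₁).map L₁.subtype ⊔ (Cfsg.pCore 2 ↥L₂).map L₂.subtype)
    (hJ₂ : ∃ S : Sylow 2 ↥L₂, (S : Subgroup ↥L₂).map L₂.subtype = (Cfsg.pCore 2 ↥L₁).map L₁.subtype ⊔ (Cfsg.pCore 2 ↥L₂).map L₂.subtype)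
    (hM₁ : Cfsg.IsMaximalTwoLocal (Subgroup.normalizer (L₁ : Set G))) (hM₂ : Cfsg.IsMaximalTwoLocal (Subgroup.normalizer (L₂ : Set G)))
    (T : Sylow 2 ↥(Subgroup.normalizer (L₁ : Set G)))
    (hO : Cfsg.pCore 2 ↥(((T : Subgroup ↥(Subgroup.normalizer (L₁ : Set G))).map (Subgroup.normalizer (L₁ : Set G)).subtype) ⊔ L₁ ⊔ L₂) = ⊥) :
    Cfsg.SectionalPRankLE 2 4 G ∨
      Nonempty (↥(Cfsg.generalizedFittingSubgroup G) ≃* Matrix.ProjectiveSpecialLinearGroup (Fin 3) F) := by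
  haveI : Fact (Nat.Prime 2) := ⟨Nat.prime_two⟩
  haveI : CharP F 2 := by
    obtain ⟨p, hp⟩ := CharP.exists F
    haveI := hp
    haveI : Fact p.Prime := ⟨CharP.char_is_prime F p⟩
    obtain ⟨n, hpp, hn⟩ := FiniteField.card F p
    rw [hF] at hn
    have h1 : p ∣ 2 ^ e := hn ▸ dvd_pow_self p n.pos.ne'
    have h2 : p = 2 := (Nat.prime_dvd_prime_iff_eq hpp Nat.prime_two).1 (hpp.dvd_of_dvd_pow h1)
    subst h2
    exact hp
  have hq : 4 ≤ Fintype.card F := by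
    rw [hF]
    exact le_trans (by norm_num : 4 ≤ 2 ^ 2) (Nat.pow_le_pow_right (by norm_num) he)
  obtain ⟨S₁, hS₁⟩ := hJ₁
  obtain ⟨S₂, hS₂⟩ := hJ₂
  set A₀ : Cfsg.Lib.LTP.Blk F G := Cfsg.Lib.LTP.blkOf L₁ φ₁ ψ₁ h₁
  set B₀ : Cfsg.Lib.LTP.Blk F G := Cfsg.Lib.LTP.blkOf L₂ φ₂ ψ₂ h₂
  obtain ⟨A, hAL, hAV, hA⟩ := A₀.exists_frame S₁
  obtain ⟨B, hBL, hBV, hB⟩ := B₀.exists_frame S₂
  have hA₀ : A₀.L = L₁ := rfl
  have hB₀ : B₀.L = L₂ := rfl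
  set J₀ := (Cfsg.pCore 2 ↥L₁).map L₁.subtype ⊔ (Cfsg.pCore 2 ↥L₂).map L₂.subtype with hJ₀
  obtain ⟨D, hD1, hD2L, hD2V⟩ := Cfsg.Lib.LTP.exists_duo A B J₀
    (fun g => by rw [← hA g]; exact iff_of_eq (congrArg (g ∈ ·) hS₁.symm))
    (fun g => by rw [← hB g]; exact iff_of_eq (congrArg (g ∈ ·) hS₂.symm))
    (by rw [hAV, hBV]; rfl)
  have hL1 : D.one.L = L₁ := by rw [hD1, hAL]; rfl
  have hL2 : D.two.L = L₂ := by rw [hD2L, hBL]; rfl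
  have hV1 : D.one.V = Cfsg.pCoreOf 2 D.one.L := by rw [hL1, hD1, hAV]; rfl
  have hV2 : D.two.V = Cfsg.pCoreOf 2 D.two.L := by rw [hL2, hD2V, hBV]; rfl
  have hn1 := Cfsg.Lib.LTP.norm_eq D.one hV1 (by rw [hL1]; exact hM₁)
  have hn2 := Cfsg.Lib.LTP.norm_eq D.two hV2 (by rw [hL2]; exact hM₂)
  have hDJ : D.J = J₀ := by rw [D.J_eq_sup, hD1, hD2V, hAV, hBV]; rfl
  -- a Sylow subgroup of the normaliser above the common subgroup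
  let N := Subgroup.normalizer (L₁ : Set G)
  let Tm := (T : Subgroup ↥N).map N.subtype
  have hTm : IsPGroup 2 ↥Tm := T.isPGroup'.map _
  have hTmN : Tm ≤ N := Subgroup.map_subtype_le _
  have hconjT : ∀ P : Subgroup G, IsPGroup 2 ↥P → P ≤ N → ∃ n ∈ N, P ≤ Cfsg.Lib.LTP.cjg n Tm := by
    intro P hP hPN
    refine Cfsg.Lib.LTP.sylow_conj hTmN hTm (fun Q hQ hTQ hQN => le_antisymm ?_ hTQ) hP hPN
    intro x hx
    have hle : (T : Subgroup ↥N) ≤ Q.subgroupOf N := fun u hu => hTQ ⟨u, hu, rfl⟩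
    have := T.3 (hQ.comap_of_injective N.subtype Subtype.val_injective) hle
    exact ⟨⟨x, hQN hx⟩, this.le hx, rfl⟩
  have hJN : D.J ≤ N := by
    have := D.J_le_L1
    rw [hL1] at this
    exact this.trans Subgroup.le_normalizer
  obtain ⟨n, hn, hJn⟩ := hconjT D.J D.J_two hJN
  have hJ'L : Cfsg.Lib.LTP.cjg n⁻¹ D.J ≤ D.one.L := by
    rw [hL1]
    rintro _ ⟨u, hu, rfl⟩
    show n⁻¹ * u * n⁻¹⁻¹ ∈ L₁
    exact (Subgroup.mem_normalizer_iff.1 (inv_mem hn) u).1 (hL1 ▸ D.J_le_L1 hu)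
  obtain ⟨l, hl, hle⟩ := Cfsg.Lib.LTP.sylow_conj D.J_le_L1 D.J_two
    (fun _ a b c => D.J_max a b c) (D.J_two.map (MulAut.conj n⁻¹).toMonoidHom) hJ'L
  have heq : Cfsg.Lib.LTP.cjg n⁻¹ D.J = Cfsg.Lib.LTP.cjg l D.J :=
    Subgroup.eq_of_le_of_card_ge hle (by rw [Cfsg.Lib.LTP.card_cjg, Cfsg.Lib.LTP.card_cjg])
  set T' := Cfsg.Lib.LTP.cjg l⁻¹ Tm
  have hlL : l ∈ L₁ := hL1 ▸ hl
  have hlN : l ∈ N := Subgroup.le_normalizer hlL
  have hJT' : D.J ≤ T' := by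
    intro u hu
    rw [Cfsg.Lib.LTP.mem_cjg, inv_inv]
    have h1 : l * u * l⁻¹ ∈ Cfsg.Lib.LTP.cjg n⁻¹ D.J := heq ▸ Cfsg.Lib.LTP.cjg_mem hu
    have h2 := Cfsg.Lib.LTP.mem_cjg.1 (hJn (Cfsg.Lib.LTP.mem_cjg.1 h1))
    simpa [mul_assoc] using h2
  have hT'N : T' ≤ Subgroup.normalizer (D.one.L : Set G) := by
    rw [hL1]
    rintro _ ⟨u, hu, rfl⟩
    exact mul_mem (mul_mem (inv_mem hlN) (hTmN hu)) (inv_mem (inv_mem hlN))
  have hsup : T' ⊔ L₁ ⊔ L₂ = Tm ⊔ L₁ ⊔ L₂ := by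
    refine le_antisymm (sup_le (sup_le ?_ (le_sup_right.trans le_sup_left)) le_sup_right)
      (sup_le (sup_le ?_ (le_sup_right.trans le_sup_left)) le_sup_right)
    · rintro _ ⟨u, hu, rfl⟩
      have hl' : l ∈ Tm ⊔ L₁ ⊔ L₂ := Subgroup.mem_sup_left (Subgroup.mem_sup_right hlL)
      exact mul_mem (mul_mem (inv_mem hl') (Subgroup.mem_sup_left (Subgroup.mem_sup_left hu)))
        (inv_mem (inv_mem hl'))
    · intro u hu
      have hl' : l ∈ T' ⊔ L₁ ⊔ L₂ := Subgroup.mem_sup_left (Subgroup.mem_sup_right hlL)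
      have h1 : l⁻¹ * u * l⁻¹⁻¹ ∈ T' ⊔ L₁ ⊔ L₂ :=
        Subgroup.mem_sup_left (Subgroup.mem_sup_left (Cfsg.Lib.LTP.cjg_mem hu))
      have h2 := mul_mem (mul_mem hl' h1) (inv_mem hl')
      simpa [mul_assoc] using h2
  have hyp : Cfsg.Lib.LTP.Hyp D := by
    refine Cfsg.Lib.LTP.hyp_of hG hq D hn1 hn2 T' (hTm.map _) hJT' hT'N (fun x hx hord => ?_) ?_
    · rw [hL1] at hx
      obtain ⟨m, hm, hxm⟩ := hconjT (Subgroup.zpowers x)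
        (Cfsg.Lib.LTP.two_of_pow (k := 1) (by rw [pow_one, ← hord, pow_orderOf_eq_one]))
        (Subgroup.zpowers_le.2 hx)
      refine ⟨m * l, hL1 ▸ mul_mem hm hlN, ?_⟩
      have h1 := Cfsg.Lib.LTP.mem_cjg.1 (hxm (Subgroup.mem_zpowers x))
      have h2 : l⁻¹ * (m⁻¹ * x * m) * l⁻¹⁻¹ ∈ T' := Cfsg.Lib.LTP.cjg_mem h1
      simpa [mul_assoc] using h2
    · rw [hL1, hL2, hsup, Cfsg.pCoreOf, show Cfsg.pCore 2 ↥(Tm ⊔ L₁ ⊔ L₂) = ⊥ from hO, Subgroup.map_bot]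
  rcases Nat.lt_or_ge e 3 with h3 | h3
  · left
    refine hyp.sectional_four ?_
    rw [hF, show e = 2 by omega]
    norm_num
  · right
    have h8 : 8 ≤ Fintype.card F := by
      rw [hF]
      exact le_trans (by norm_num : 8 ≤ 2 ^ 3) (Nat.pow_le_pow_right (by norm_num) h3)
    obtain ⟨H, hHn, hH1, hH2, hjs⟩ := hyp.exists_sub h8
    have s : Cfsg.Lib.LTP.Sub D H := ⟨hyp, h8, hHn, hH1, hH2, hjs⟩
    exact s.psl3 s.hall s.swap.hall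

end Cfsg.Agent.S3091
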