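import Cfsg.Statements.S3105
import Cfsg.Agent.SolvStruct.LThreeRadical.Radical
import Cfsg.Agent.SolvStruct.AltFiveRadical.Model

set_option autoImplicit false
open Cfsg

namespace Cfsg.Agent.S3105

/-- Let X be a finite nonsolvable 2-constrained group with no nontrivial normal subgroup of odd order and of sectional 2-rank at most 4, and suppose X/O₂(X) is isomorphic to the projective special linear group of dimension 3 over the field with 2 elements. Then O₂(X) is elementary abelian of order 8 or 16, or is isomorphic to the direct product of a cyclic group of order 4 and an elementary abelian group of order 8. -/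
theorem result {X : Type*} [Group X] [Finite X] (hns : ¬ Group.IsSolvable X) (hc : Cfsg.IsPConstrained 2 X) (hO : Cfsg.oddCore X = ⊥)
    (h4 : Cfsg.SectionalPRankLE 2 4 X) {F : Type*} [Field F] [Fintype F] (hF : Fintype.card F = 2)
    (hQ : Nonempty (X ⧸ Cfsg.pCore 2 X ≃* Matrix.ProjectiveSpecialLinearGroup (Fin 3) F)) :
    (Cfsg.IsElementaryAbelian 2 (Cfsg.pCore 2 X) ∧ (Nat.card ↥(Cfsg.pCore 2 X) = 8 ∨ Nat.card ↥(Cfsg.pCore 2 X) = 16)) ∨
      Nonempty (↥(Cfsg.pCore 2 X) ≃* Multiplicative (ZMod 4) × (Fin 3 → Multiplicative (ZMod 2))) := by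
  classical
  haveI : Fact (Nat.Prime 2) := ⟨Nat.prime_two⟩
  obtain ⟨e⟩ := hQ
  have hf := (ZMod.ringEquivOfPrime F Nat.prime_two hF : ZMod 2 ≃+* F)
  let g : Cfsg.Lib.LThreeRadical.L3 →* Matrix.SpecialLinearGroup (Fin 3) F :=
    Matrix.SpecialLinearGroup.map hf.toRingHom
  have hg : Function.Bijective g := by
    refine ⟨fun A B h => Subtype.ext (Matrix.ext fun i j => hf.injective ?_), fun B => ?_⟩
    · exact congrFun (congrFun (congrArg Subtype.val h) i) j
    · refine ⟨Matrix.SpecialLinearGroup.map hf.symm.toRingHom B, Subtype.ext (Matrix.ext fun i j => ?_)⟩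
      exact hf.apply_symm_apply _
  let σ : Cfsg.Lib.LThreeRadical.L3 ≃* Matrix.SpecialLinearGroup (Fin 3) F := MulEquiv.ofBijective g hg
  have hZ : Subgroup.center (Matrix.SpecialLinearGroup (Fin 3) F) = ⊥ := by
    have hZ3 : Subgroup.center Cfsg.Lib.LThreeRadical.L3 = ⊥ := by
      rcases Cfsg.Lib.LThreeRadical.normal_cases (Subgroup.center Cfsg.Lib.LThreeRadical.L3) with h | h
      · exact h
      exfalso
      have h1 : Cfsg.Lib.LThreeRadical.fE ∈ Subgroup.center Cfsg.Lib.LThreeRadical.L3 := h ▸ Subgroup.mem_top _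
      have h2 := Subgroup.mem_center_iff.1 h1 Cfsg.Lib.LThreeRadical.gE
      revert h2
      decide +kernel
    rw [eq_bot_iff]
    intro x hx
    obtain ⟨y, rfl⟩ := σ.surjective x
    have : y ∈ Subgroup.center Cfsg.Lib.LThreeRadical.L3 := Subgroup.mem_center_iff.2 fun z => σ.injective (by
      rw [map_mul, map_mul]; exact Subgroup.mem_center_iff.1 hx (σ z))
    rw [hZ3, Subgroup.mem_bot] at this
    rw [this, map_one]
    exact one_mem _
  let η : Matrix.ProjectiveSpecialLinearGroup (Fin 3) F ≃* Cfsg.Lib.LThreeRadical.L3 :=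
    ((QuotientGroup.quotientMulEquivOfEq hZ).trans
      (QuotientGroup.quotientBot (G := Matrix.SpecialLinearGroup (Fin 3) F))).trans σ.symm
  let π : X →* Cfsg.Lib.LThreeRadical.L3 :=
    (e.trans η).toMonoidHom.comp (QuotientGroup.mk' (Cfsg.pCore 2 X))
  have E : Cfsg.Lib.LThreeRadical.Setup π (Cfsg.pCore 2 X) := by
    refine ⟨?_, ?_, Cfsg.Lib.Components.isPGroup_pCore 2, h4⟩
    · exact (e.trans η).surjective.comp (QuotientGroup.mk'_surjective _)
    · ext x
      rw [MonoidHom.mem_ker, MonoidHom.comp_apply, MulEquiv.toMonoidHom_eq_coe, MonoidHom.coe_coe,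
        MulEquiv.map_eq_one_iff]
      exact QuotientGroup.eq_one_iff _
  exact Cfsg.Lib.LThreeRadical.radical_structure E (Cfsg.Lib.ZJ.charP_of_isPConstrained hO hc)

end Cfsg.Agent.S3105
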