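import Cfsg.Statements.S3106
import Cfsg.Agent.SolvStruct.AltFiveRadical.Model

set_option autoImplicit false
open Cfsg

namespace Cfsg.Agent.S3106

/-- Let X be a finite nonsolvable 2-constrained group with no nontrivial normal subgroup of odd order and of sectional 2-rank at most 4, and suppose X/O₂(X) contains a subgroup isomorphic to the alternating group of degree 5. Then O₂(X) is elementary abelian of order 16, or O₂(X) is a central product of a quaternion group of order 8 and a dihedral group of order 8 (it has order 32 and is generated by two elementwise-commuting subgroups, one quaternion of order 8 and one dihedral of order 8, meeting in the centre). -/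
theorem result {X : Type*} [Group X] [Finite X] (hns : ¬ Group.IsSolvable X) (hc : Cfsg.IsPConstrained 2 X) (hO : Cfsg.oddCore X = ⊥)
    (h4 : Cfsg.SectionalPRankLE 2 4 X)
    (hQ : ∃ A : Subgroup (X ⧸ Cfsg.pCore 2 X), Nonempty (↥A ≃* ↥(alternatingGroup (Fin 5)))) :
    (Cfsg.IsElementaryAbelian 2 (Cfsg.pCore 2 X) ∧ Nat.card ↥(Cfsg.pCore 2 X) = 16) ∨
      (Nat.card ↥(Cfsg.pCore 2 X) = 32 ∧ ∃ A B : Subgroup ↥(Cfsg.pCore 2 X),
        Nonempty (↥A ≃* QuaternionGroup 2) ∧ Nonempty (↥B ≃* DihedralGroup 4) ∧ (∀ a ∈ A, ∀ b ∈ B, a * b = b * a) ∧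
          A ⊔ B = ⊤ ∧ A ⊓ B = Subgroup.center ↥(Cfsg.pCore 2 X)) := by
  classical
  haveI : Fact (Nat.Prime 2) := ⟨Nat.prime_two⟩
  obtain ⟨A, ⟨e⟩⟩ := hQ
  set P := Cfsg.pCore 2 X
  set m := QuotientGroup.mk' P
  set Y := A.comap m
  have hPY : P ≤ Y := fun x hx => by
    show m x ∈ A
    rw [show m x = 1 from (QuotientGroup.eq_one_iff x).2 hx]
    exact one_mem _
  let π : ↥Y →* ↥(alternatingGroup (Fin 5)) := e.toMonoidHom.comp (m.subgroupComap A)
  have E : Cfsg.Lib.AltFiveRadical.Setup π (P.subgroupOf Y) := by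
    refine ⟨fun q => ?_, ?_, (Cfsg.Lib.Components.isPGroup_pCore 2).comap_of_injective _ Y.subtype_injective,
      Cfsg.Lib.AltFiveRadical.sectional_injective Y.subtype Y.subtype_injective h4⟩
    · obtain ⟨a, rfl⟩ := e.surjective q
      obtain ⟨x, hx⟩ := QuotientGroup.mk'_surjective P a.1
      exact ⟨⟨x, show m x ∈ A by rw [hx]; exact a.2⟩, congrArg e (Subtype.ext hx)⟩
    · ext x
      rw [MonoidHom.mem_ker, Subgroup.mem_subgroupOf]
      show e (m.subgroupComap A x) = 1 ↔ _
      rw [map_eq_one_iff e e.injective, Subtype.ext_iff]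
      exact QuotientGroup.eq_one_iff _
  have hcen : Subgroup.centralizer (P : Set X) ≤ P := Cfsg.Lib.ZJ.charP_of_isPConstrained hO hc
  have hC : Subgroup.centralizer ((P.subgroupOf Y : Subgroup Y) : Set Y) ≤ P.subgroupOf Y := fun y hy =>
    Subgroup.mem_subgroupOf.2 (hcen (Subgroup.mem_centralizer_iff.2 fun p hp => congrArg Subtype.val
      (Subgroup.mem_centralizer_iff.1 hy ⟨p, hPY hp⟩ hp)))
  let i : ↥(P.subgroupOf Y) ≃* ↥P := Subgroup.subgroupOfEquivOfLe hPY
  rcases Cfsg.Lib.AltFiveRadical.radical_structure E hC with ⟨⟨hab, hexp⟩, hcard⟩ | ⟨⟨f⟩⟩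
  · refine Or.inl ⟨⟨⟨⟨fun a b => ?_⟩⟩, fun a ha => ?_⟩, ?_⟩
    · apply i.symm.injective
      rw [map_mul, map_mul]
      exact hab.is_comm.comm _ _
    · exact congrArg Subtype.val (hexp ⟨a, hPY ha⟩ (Subgroup.mem_subgroupOf.2 ha))
    · rw [← Nat.card_congr i.toEquiv]; exact hcard
  · exact Or.inr (Cfsg.Lib.AltFiveRadical.model_split (f.trans i))

end Cfsg.Agent.S3106
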