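import Cfsg.Statements.S3113
import Cfsg.Agent.TwoFusion.TwoDihedral.Main
import Cfsg.Agent.TwoFusion.Product.Split

set_option autoImplicit false
open Cfsg

namespace Cfsg.Agent.S3113

/-- Let G be a finite group with no nontrivial normal subgroup of odd order, no proper normal subgroup of odd index and no normal subgroup of index 2, whose Sylow 2-subgroup S is non-abelian and is the internal direct product of two dihedral subgroups (each of order at least 4). Then G is the internal direct product of two normal subgroups G₁ and G₂, and for a suitable such factorization of S into dihedral subgroups S₁ × S₂ the factor Sᵢ is a Sylow 2-subgroup of Gᵢ for i = 1, 2. -/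
theorem result {G : Type*} [Group G] [Finite G] (hO : Cfsg.oddCore G = ⊥) (hidx : ∀ N : Subgroup G, N.Normal → Odd N.index → N = ⊤)
    (h2 : ∀ N : Subgroup G, N.Normal → N.index ≠ 2)
    (S : Sylow 2 G) (hS : ¬ IsMulCommutative ↥(S : Subgroup G))
    (D₁ D₂ : Subgroup G) (hD : Cfsg.IsInternalDirectProduct D₁ D₂ (S : Subgroup G))
    (hD₁ : ∃ m : ℕ, 2 ≤ m ∧ Nonempty (↥D₁ ≃* DihedralGroup m)) (hD₂ : ∃ m : ℕ, 2 ≤ m ∧ Nonempty (↥D₂ ≃* DihedralGroup m)) :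
    ∃ G₁ G₂ : Subgroup G, G₁.Normal ∧ G₂.Normal ∧ Cfsg.IsInternalDirectProduct G₁ G₂ ⊤ ∧
      ∃ S₁ S₂ : Subgroup G, Cfsg.IsInternalDirectProduct S₁ S₂ (S : Subgroup G) ∧
        (∃ m : ℕ, 2 ≤ m ∧ Nonempty (↥S₁ ≃* DihedralGroup m)) ∧ (∃ m : ℕ, 2 ≤ m ∧ Nonempty (↥S₂ ≃* DihedralGroup m)) ∧
        S₁ ≤ G₁ ∧ S₂ ≤ G₂ ∧ ¬ (2 ∣ (S₁.subgroupOf G₁).index) ∧ ¬ (2 ∣ (S₂.subgroupOf G₂).index) := by
  haveI : Fact (Nat.Prime 2) := ⟨Nat.prime_two⟩
  obtain ⟨m₁, hm₁, ⟨e₁⟩⟩ := hD₁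
  obtain ⟨m₂, hm₂, ⟨e₂⟩⟩ := hD₂
  obtain ⟨d₁⟩ := Cfsg.Lib.TwoDihedral.nonempty_dih
    (S.isPGroup'.of_injective _ (Subgroup.inclusion_injective hD.1)) hm₁ e₁
  obtain ⟨d₂⟩ := Cfsg.Lib.TwoDihedral.nonempty_dih
    (S.isPGroup'.of_injective _ (Subgroup.inclusion_injective hD.2.1)) hm₂ e₂
  obtain ⟨S₁, S₂, hprod, ⟨i₁⟩, ⟨i₂⟩, hcl₁, hcl₂⟩ :=
    Cfsg.Lib.TwoDihedral.exists_closed_factors hD d₁ d₂ h2 hS
  have hO2 : Cfsg.pPrimeCore 2 G = ⊥ := hO
  have hp' := Cfsg.Lib.TwoDihedral.hp_symm hprod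
  haveI hn₁ : (Subgroup.normalClosure (S₁ : Set G)).Normal := Subgroup.normalClosure_normal
  haveI hn₂ : (Subgroup.normalClosure (S₂ : Set G)).Normal := Subgroup.normalClosure_normal
  have htop : Subgroup.normalClosure (S₁ : Set G) ⊔ Subgroup.normalClosure (S₂ : Set G) = ⊤ := by
    have hle : (S : Subgroup G) ≤
        Subgroup.normalClosure (S₁ : Set G) ⊔ Subgroup.normalClosure (S₂ : Set G) := by
      rw [← hprod.2.2.2.2]
      exact sup_le_sup Subgroup.le_normalClosure Subgroup.le_normalClosure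
    refine hidx _ inferInstance ?_
    rw [Nat.odd_iff, ← Nat.two_dvd_ne_zero]
    exact fun h => S.not_dvd_index (h.trans (Subgroup.index_dvd_of_le hle))
  have o₁ := Cfsg.Lib.ProdFusion.odd_relIndex_normalClosure hO2 S hcl₁ hcl₂ hprod
  have o₂ := Cfsg.Lib.ProdFusion.odd_relIndex_normalClosure hO2 S hcl₂ hcl₁ hp'
  exact ⟨_, _, hn₁, hn₂, ⟨le_top, le_top,
      fun a ha b hb => Cfsg.Lib.ProdFusion.commute_normalClosures hO2 S hcl₁ hcl₂ hprod ha hb,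
      Cfsg.Lib.ProdFusion.normalClosures_inf_eq_bot hO2 S hcl₁ hcl₂ hprod, htop⟩,
    S₁, S₂, hprod, ⟨m₁, hm₁, ⟨i₁.symm.trans e₁⟩⟩, ⟨m₂, hm₂, ⟨i₂.symm.trans e₂⟩⟩,
    Subgroup.le_normalClosure, Subgroup.le_normalClosure,
    fun h => (Nat.not_even_iff_odd.mpr o₁) (even_iff_two_dvd.mpr h),
    fun h => (Nat.not_even_iff_odd.mpr o₂) (even_iff_two_dvd.mpr h)⟩

end Cfsg.Agent.S3113
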