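import Cfsg.Statements.S3125
import Cfsg.Agent.S1993
import Cfsg.Agent.Components.KInf.Basic
import Cfsg.Agent.SolvStruct.MinimalNonClosed
import Cfsg.Agent.Coprime.Sylow
import Cfsg.Agent.Chars.Burnside

set_option autoImplicit false
open Cfsg

namespace Cfsg.Agent.S3125


open Subgroup
open scoped commutatorElement

universe u

theorem not_le_commutator {p : ℕ} [Fact p.Prime] (hp : 5 ≤ p) : ∀ (n : ℕ) (G : Type u) [Group G] [Finite G],
    Nat.card G = n → ∀ S : Sylow p G, (S : Subgroup G) ≠ ⊥ →
      normalizer ((S : Subgroup G) : Set G) = S → ¬ (S : Subgroup G) ≤ commutator G := by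
  intro n
  induction n using Nat.strong_induction_on with
  | _ n IH =>
    intro G _ _ hn S hS hNS hle
    set W := Cfsg.inducedFunctor Cfsg.kInfUpper (S : Subgroup G) with hW
    set N := normalizer (W : Set G) with hN
    have hWS : W ≤ (S : Subgroup G) := map_subtype_le _
    have hSN : (S : Subgroup G) ≤ N := by
      intro s hs
      have hchar : (Cfsg.kInfUpper ↥(S : Subgroup G)).map
          (MulAut.conj (⟨s, hs⟩ : (S : Subgroup G))).toMonoidHom = Cfsg.kInfUpper ↥(S : Subgroup G) :=
        Cfsg.Lib.KInf.map_kInfUpper _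
      refine Cfsg.Lib.MinimalNonClosed.mem_normalizer_of_forall ?_
      rintro _ ⟨b, hb, rfl⟩
      exact ⟨_, hchar.le ⟨b, hb, rfl⟩, rfl⟩
    have hfoc : (S : Subgroup G) ≤ ⁅N, N⁆ := by
      have h := (Cfsg.Agent.S1993.result S).1 hp
      rw [inf_eq_left.2 hle] at h
      exact h.le.trans inf_le_right
    haveI hWn : (W.subgroupOf N).Normal :=
      (normal_subgroupOf_iff_le_normalizer (hWS.trans hSN)).2 le_rfl
    set T := S.subtype hSN with hT
    have hTN : normalizer ((T : Subgroup N) : Set N) = T := by
      rw [hT, Sylow.coe_subtype, ← subgroupOf_normalizer_eq hSN, hNS]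
    have hTc : (T : Subgroup N) ≤ commutator N := by
      intro t ht
      rw [hT, Sylow.coe_subtype, mem_subgroupOf] at ht
      have h1 : (commutator N).map N.subtype = ⁅N, N⁆ := Subgroup.map_subtype_commutator N
      obtain ⟨c, hc, hct⟩ := h1.ge (hfoc ht)
      rwa [← Subtype.ext hct]
    have hWT : W.subgroupOf N ≤ (T : Subgroup N) := by
      rw [hT, Sylow.coe_subtype]
      exact fun x hx => hWS hx
    have hWne : W.subgroupOf N ≠ ⊥ := by
      rw [Ne, subgroupOf_eq_bot, disjoint_iff, inf_eq_left.2 (hWS.trans hSN)]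
      rw [hW, Cfsg.inducedFunctor, map_eq_bot_iff_of_injective _ (Subgroup.subtype_injective _)]
      intro hb
      haveI : Nontrivial (S : Subgroup G) := (nontrivial_iff_ne_bot _).2 hS
      haveI := S.2.center_nontrivial
      have h2 : center (S : Subgroup G) = ⊥ := le_bot_iff.1 (Cfsg.Lib.KInf.center_le_upper.trans hb.le)
      exact (nontrivial_iff_ne_bot _).1 inferInstance h2
    have hsurj := QuotientGroup.mk'_surjective (W.subgroupOf N)
    set T' := T.mapSurjective hsurj with hT'
    by_cases hb : (T' : Subgroup (N ⧸ W.subgroupOf N)) = ⊥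
    · rw [hT', Sylow.coe_mapSurjective, Subgroup.map_eq_bot_iff, QuotientGroup.ker_mk'] at hb
      have heq : W = (S : Subgroup G) := le_antisymm hWS fun s hs => by
        have : (⟨s, hSN hs⟩ : N) ∈ (T : Subgroup N) := by rw [hT, Sylow.coe_subtype]; exact hs
        exact hb this
      have hNS' : N = (S : Subgroup G) := by rw [hN, heq, hNS]
      rw [hNS'] at hfoc
      haveI := S.2.isNilpotent
      exact (Cfsg.Lib.Coprime.commutator_lt_of_isNilpotent (T := (S : Subgroup G)) le_rfl hS
        le_normalizer).ne (le_antisymm (commutator_le_self _) hfoc)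
    · have hlt : Nat.card (N ⧸ W.subgroupOf N) < n :=
        (Cfsg.Lib.Coprime.card_quotient_lt hWne).trans_le (hn ▸ N.card_le_card_group)
      refine IH _ hlt _ rfl T' hb ?_ ?_
      · refine le_antisymm (fun x hx => ?_) le_normalizer
        obtain ⟨y, rfl⟩ := hsurj x
        have hy : y ∈ normalizer ((T : Subgroup N) : Set N) := by
          have hpre : ((T' : Subgroup (N ⧸ W.subgroupOf N)).comap (QuotientGroup.mk' _)) = (T : Subgroup N) := by
            rw [hT', Sylow.coe_mapSurjective, comap_map_eq, QuotientGroup.ker_mk', sup_eq_left.2 hWT]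
          rw [← hpre, ← comap_normalizer_eq_of_surjective _ hsurj]
          exact hx
        rw [hTN] at hy
        rw [hT', Sylow.coe_mapSurjective]
        exact ⟨y, hy, rfl⟩
      · rw [hT', Sylow.coe_mapSurjective, _root_.commutator_def, ← Subgroup.map_top_of_surjective _ hsurj,
          ← map_commutator, ← _root_.commutator_def]
        exact map_mono hTc


/-- Let G be a finite group such that, for every prime p dividing the order of G, every Sylow p-subgroup of G is its own normalizer. Then G is not a non-abelian simple group. -/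
theorem result {G : Type*} [Group G] [Finite G]
    (h : ∀ p : ℕ, p.Prime → p ∣ Nat.card G → ∀ P : Sylow p G, Subgroup.normalizer ((P : Subgroup G) : Set G) = P) :
    ¬ (IsSimpleGroup G ∧ ¬ IsMulCommutative G) := by
  rintro ⟨hs, hna⟩
  haveI := hs
  by_cases hp5 : ∃ p : ℕ, p.Prime ∧ p ∣ Nat.card G ∧ 5 ≤ p
  · obtain ⟨p, hp, hpd, h5⟩ := hp5
    haveI := Fact.mk hp
    obtain ⟨S⟩ : Nonempty (Sylow p G) := inferInstance
    refine not_le_commutator h5 _ G rfl S (S.ne_bot_of_dvd_card hpd) (h p hp hpd S) ?_
    rcases IsSimpleGroup.eq_bot_or_eq_top_of_normal (commutator G) inferInstance with hc | hc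
    · exfalso
      refine hna ⟨⟨fun a b => ?_⟩⟩
      rw [← commutatorElement_eq_one_iff_mul_comm, ← Subgroup.mem_bot, ← hc]
      exact Subgroup.commutator_mem_commutator (Subgroup.mem_top a) (Subgroup.mem_top b)
    · rw [hc]; exact le_top
  · push Not at hp5
    have hn : Nat.card G ≠ 0 := Nat.card_pos.ne'
    haveI : Group.IsSolvable G := by
      refine Cfsg.Lib.Chars.burnside_isSolvable 2 3 Nat.prime_two Nat.prime_three G
        ⟨(Nat.card G).factorization 2, (Nat.card G).factorization 3, ?_⟩
      conv_lhs => rw [← Nat.prod_factorization_pow_eq_self hn]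
      rw [← Finset.prod_pair (f := fun s => s ^ (Nat.card G).factorization s) (by norm_num : (2 : ℕ) ≠ 3)]
      refine Finset.prod_subset ?_ fun s _ hs => by simp [Finsupp.notMem_support_iff.1 hs]
      intro s hs
      rw [Nat.support_factorization, Nat.mem_primeFactors] at hs
      have h5 := hp5 s hs.1 hs.2.1
      have h2 := hs.1.two_le
      rw [Finset.mem_insert, Finset.mem_singleton]
      interval_cases s
      · exact Or.inl rfl
      · exact Or.inr rfl
      · exact absurd hs.1 (by norm_num)
    exact hna ⟨⟨IsSimpleGroup.comm_iff_isSolvable.2 inferInstance⟩⟩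

end Cfsg.Agent.S3125
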