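import Cfsg.Statements.S3146
import Cfsg.Agent.TwoTimesSym.Main
import Cfsg.Agent.TwoTimesSym.Model

set_option autoImplicit false
open Cfsg

namespace Cfsg.Agent.S3146

open Cfsg.Lib.TwoTimesSym Equiv in
set_option maxRecDepth 20000 in
theorem model_checks :
    tripleB (n := 6) (swap 0 1) (swap 2 3) (swap 4 5) (swap 0 2 * swap 1 3 * swap 4 5)
      (swap 0 4 * swap 0 2 * (swap 1 5 * swap 1 3)) [0, 2, 4] = true ∧
    tripleB (n := 6) (swap 0 2 * swap 1 3 * swap 4 5) (swap 0 3 * swap 1 2 * swap 4 5)
      (swap 0 1 * swap 2 3 * swap 4 5) (swap 0 1) (swap 1 3 * swap 1 2) [0, 4] = true := by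
  constructor <;> decide +kernel

/-- Let G be a finite group of even order with an involution t whose centralizer is isomorphic to the direct product of a group of order 2 and the symmetric group of degree 6. Then G has a subgroup of index 2. -/
theorem result {G : Type*} [Group G] [Finite G] (hG : Even (Nat.card G)) (t : G) (ht : orderOf t = 2)
    (hC : Nonempty (↥(Subgroup.centralizer ({t} : Set G)) ≃* Multiplicative (ZMod 2) × Equiv.Perm (Fin 6))) :
    ∃ H : Subgroup G, H.index = 2 := by
  obtain ⟨φ⟩ := hC
  obtain ⟨P⟩ := Cfsg.Lib.TwoTimesSym.exists_pair (by norm_num) ht φ model_checks.1 model_checks.2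
    (by decide +kernel) (k := 45) (by decide) (by decide +kernel)
  exact P.index_two

end Cfsg.Agent.S3146
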