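import Cfsg.Statements.S3154
import Cfsg.Agent.LThreeFour.Parabolic
import Cfsg.Agent.S0051

set_option autoImplicit false
set_option linter.style.haveILetI false
open Cfsg

namespace Cfsg.Agent.S3154

open Subgroup

/-- a complement in an elementary abelian 2-group -/
theorem exists_compl {X : Type*} [Group X] [Finite X] {K D : Subgroup X}
    (hK : Cfsg.IsElementaryAbelian 2 K) (hD : D ≤ K) :
    ∃ C : Subgroup X, C ≤ K ∧ C ⊓ D = ⊥ ∧ C ⊔ D = K := by
  haveI : Nonempty {C : Subgroup X // C ≤ K ∧ C ⊓ D = ⊥} := ⟨⟨⊥, bot_le, bot_inf_eq D⟩⟩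
  obtain ⟨C, hC⟩ := Finite.exists_max (fun C : {C : Subgroup X // C ≤ K ∧ C ⊓ D = ⊥} => Nat.card C.1)
  refine ⟨C.1, C.2.1, C.2.2, le_antisymm (sup_le C.2.1 hD) fun x hx => ?_⟩
  by_contra hxn
  have hx2 : x * x = 1 := by rw [← pow_two]; exact hK.2 x hx
  have hxc : ∀ c ∈ C.1, x * c = c * x := fun c hc =>
    congrArg Subtype.val (hK.1.is_comm.comm ⟨x, hx⟩ ⟨c, C.2.1 hc⟩)
  have hxi : x⁻¹ = x := inv_eq_of_mul_eq_one_right hx2
  let C' : Subgroup X :=
    { carrier := {y | y ∈ C.1 ∨ x * y ∈ C.1}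
      one_mem' := Or.inl (one_mem _)
      mul_mem' := by
        rintro a b (ha | ha) (hb | hb)
        · exact Or.inl (mul_mem ha hb)
        · right
          have : x * (a * b) = a * (x * b) := by rw [← mul_assoc, hxc a ha, mul_assoc]
          rw [this]; exact mul_mem ha hb
        · right
          rw [← mul_assoc]; exact mul_mem ha hb
        · left
          have : a * b = (x * a) * (x * b) := by
            have := hxc _ ha
            calc a * b = (x * (x * a)) * b := by rw [← mul_assoc x x a, hx2, one_mul]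
              _ = ((x * a) * x) * b := by rw [this]
              _ = _ := by rw [mul_assoc]
          rw [this]; exact mul_mem ha hb
      inv_mem' := by
        rintro a (ha | ha)
        · exact Or.inl (inv_mem ha)
        · right
          have h1 := hxc _ (inv_mem ha)
          have : x * a⁻¹ = (x * a)⁻¹ := by
            have h2 : (x * a)⁻¹ = a⁻¹ * x := by rw [mul_inv_rev, hxi]
            have h3 : a = x * (x * a) := by rw [← mul_assoc, hx2, one_mul]
            calc x * a⁻¹ = x * ((x * a)⁻¹ * x) := by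
                  conv_lhs => rw [h3, mul_inv_rev, hxi]
              _ = (x * a)⁻¹ * (x * x) := by rw [← mul_assoc, h1, mul_assoc]
              _ = _ := by rw [hx2, mul_one]
          rw [this]; exact inv_mem ha }
  have hC'K : C' ≤ K := by
    rintro y (hy | hy)
    · exact C.2.1 hy
    · simpa [← mul_assoc, hx2] using mul_mem hx (C.2.1 hy)
  have hC'D : C' ⊓ D = ⊥ := by
    refine (eq_bot_iff_forall _).2 fun y hy => ?_
    rcases hy.1 with h | h
    · exact (eq_bot_iff_forall _).1 C.2.2 y ⟨h, hy.2⟩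
    · refine absurd ?_ hxn
      have : x = (x * y) * y⁻¹ := by group
      rw [this]; exact mul_mem_sup h (inv_mem hy.2)
  have hlt : C.1 < C' := by
    refine lt_of_le_of_ne (fun y hy => Or.inl hy) fun he => hxn (le_sup_left (b := D) ?_)
    rw [he]; exact Or.inr (by rw [hx2]; exact one_mem _)
  have := hC ⟨C', hC'K, hC'D⟩
  exact absurd (Subgroup.eq_of_le_of_card_ge hlt.le this) hlt.ne

/-- the preimage of an elementary abelian group with transitive normaliser is elementary abelian -/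
theorem elementary {X : Type*} [Group X] [Finite X] {Z H : Subgroup X} [Z.Normal]
    (hZc : Z ≤ center X) (hZ : ∀ z ∈ Z, z ^ 2 = 1) (hZH : Z ≤ H)
    (h2 : ∀ x ∈ H.map (QuotientGroup.mk' Z), x ^ 2 = 1)
    (hcard : 8 ≤ Nat.card (H.map (QuotientGroup.mk' Z)))
    (htr : ∀ a ∈ H.map (QuotientGroup.mk' Z), ∀ b ∈ H.map (QuotientGroup.mk' Z), a ≠ 1 → b ≠ 1 →
      ∃ g, g * a * g⁻¹ = b) :
    Cfsg.IsElementaryAbelian 2 H := by
  set π := QuotientGroup.mk' Z with hπ
  have hk : ∀ x, π x = 1 ↔ x ∈ Z := fun x => QuotientGroup.eq_one_iff x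
  have hcomm : ∀ z ∈ Z, ∀ x, x * z = z * x := fun z hz x => mem_center_iff.1 (hZc hz) x
  have hsq : ∀ a ∈ H, a * a ∈ Z := fun a ha => by
    rw [← hk, map_mul, ← pow_two]; exact h2 _ (mem_map_of_mem _ ha)
  have hconst : ∀ a ∈ H, ∀ b ∈ H, a ∉ Z → b ∉ Z → a * a = b * b := by
    intro a ha b hb haZ hbZ
    obtain ⟨g, hg⟩ := htr _ (mem_map_of_mem _ ha) _ (mem_map_of_mem _ hb)
      (fun h => haZ ((hk a).1 h)) (fun h => hbZ ((hk b).1 h))
    obtain ⟨n, rfl⟩ := QuotientGroup.mk'_surjective Z g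
    set w := (n * a * n⁻¹)⁻¹ * b with hw
    have hwZ : w ∈ Z := by
      rw [hw, ← hk, map_mul, map_inv, map_mul, map_mul, map_inv]
      change (π n * π a * (π n)⁻¹)⁻¹ * π b = 1
      rw [hg, inv_mul_cancel]
    have hbe : b = n * a * n⁻¹ * w := by rw [hw, mul_inv_cancel_left]
    have hw2 : w * w = 1 := by rw [← pow_two]; exact hZ w hwZ
    have hc2 : n * (a * a) * n⁻¹ = a * a := by
      rw [hcomm _ (hsq a ha) n, mul_inv_cancel_right]
    calc a * a = n * (a * a) * n⁻¹ * (w * w) := by rw [hw2, mul_one, hc2]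
      _ = n * a * n⁻¹ * (n * a * n⁻¹ * w) * w := by group
      _ = n * a * n⁻¹ * (w * (n * a * n⁻¹)) * w := by rw [hcomm w hwZ (n * a * n⁻¹)]
      _ = _ := by rw [hbe]; group
  have hbar : ∀ a ∈ H, ∀ b ∈ H, a ∉ Z → b ∉ Z → a * b ∉ Z → a * b = (a * a) * (b * a) := by
    intro a ha b hb haZ hbZ habZ
    set c := a * a with hc
    have e1 : b * b = c := hconst b hb a ha hbZ haZ
    have e2 : a * b * (a * b) = c := hconst _ (mul_mem ha hb) a ha habZ haZ
    have hc2 : c * c = 1 := by rw [← pow_two]; exact hZ c (hsq a ha)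
    have ai : a⁻¹ = a * c := inv_eq_of_mul_eq_one_right (by rw [← mul_assoc, ← hc, hc2])
    have bi : b⁻¹ = b * c := inv_eq_of_mul_eq_one_right (by rw [← mul_assoc, e1, hc2])
    calc a * b = c * (a * b)⁻¹ := by rw [eq_mul_inv_iff_mul_eq, e2]
      _ = c * (b * c * (a * c)) := by rw [mul_inv_rev, ai, bi]
      _ = c * (b * (c * a) * c) := by group
      _ = c * (b * (a * c) * c) := by rw [hcomm c (hsq a ha) a]
      _ = c * (b * a * (c * c)) := by group
      _ = _ := by rw [hc2, mul_one]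
  have hone : ∀ a ∈ H, a ∉ Z → a * a = 1 := by
    intro a ha haZ
    haveI : Finite (H.map π) := inferInstance
    have hex : ∀ S : Finset ↥(H.map π), S.card < 8 → ∃ b ∈ H, ∀ s ∈ S, π b ≠ (s : X ⧸ Z) := by
      intro S hS
      haveI := Fintype.ofFinite (H.map π)
      obtain ⟨⟨_, b, hb, rfl⟩, hy⟩ : ∃ y, y ∉ S := by
        by_contra hc
        push Not at hc
        have := Finset.eq_univ_iff_forall.2 hc
        rw [this, Finset.card_univ, ← Nat.card_eq_fintype_card] at hS
        omega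
      exact ⟨b, hb, fun s hs he => hy (by
        have : (⟨π b, b, hb, rfl⟩ : ↥(H.map π)) = s := Subtype.ext he
        rw [this]; exact hs)⟩
    classical
    let A : ↥(H.map π) := ⟨π a, a, ha, rfl⟩
    obtain ⟨b, hb, hbS⟩ := hex {1, A} (lt_of_le_of_lt Finset.card_le_two (by norm_num))
    let B : ↥(H.map π) := ⟨π b, b, hb, rfl⟩
    obtain ⟨d, hd, hdS⟩ := hex {1, A, B, A * B} (lt_of_le_of_lt Finset.card_le_four (by norm_num))
    have nb : b ∉ Z := fun h => hbS 1 (by simp) ((hk b).2 h)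
    have nd : d ∉ Z := fun h => hdS 1 (by simp) ((hk d).2 h)
    have inv' : ∀ x ∈ H, (π x)⁻¹ = π x := fun x hx =>
      inv_eq_of_mul_eq_one_right (by rw [← pow_two]; exact h2 _ (mem_map_of_mem _ hx))
    have ne_of : ∀ x ∈ H, ∀ y, π y ≠ π x → x * y ∉ Z := fun x hx y hne h => hne (by
      have := (hk _).2 h
      rw [map_mul, mul_eq_one_iff_inv_eq, inv' x hx] at this
      exact this.symm)
    have nab : a * b ∉ Z := ne_of a ha b (hbS A (by simp))
    have nad : a * d ∉ Z := ne_of a ha d (hdS A (by simp))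
    have nbd : b * d ∉ Z := ne_of b hb d (hdS B (by simp))
    have nabd : a * (b * d) ∉ Z := by
      rw [← mul_assoc]
      refine ne_of (a * b) (mul_mem ha hb) d ?_
      rw [map_mul]
      exact hdS (A * B) (by simp)
    have e1 := hbar a ha b hb haZ nb nab
    have e2 := hbar a ha d hd haZ nd nad
    have e3 := hbar a ha (b * d) (mul_mem hb hd) haZ nbd nabd
    set c := a * a
    have hc2 : c * c = 1 := by rw [← pow_two]; exact hZ c (hsq a ha)
    have hcc := hcomm c (hsq a ha)
    have e4 : a * (b * d) = b * d * a := by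
      calc a * (b * d) = a * b * d := by group
        _ = c * (b * a) * d := by rw [e1]
        _ = c * b * (a * d) := by group
        _ = c * b * (c * (d * a)) := by rw [e2]
        _ = c * (b * c) * (d * a) := by group
        _ = c * (c * b) * (d * a) := by rw [hcc b]
        _ = (c * c) * (b * d * a) := by group
        _ = _ := by rw [hc2, one_mul]
    rw [e4] at e3
    exact right_eq_mul.1 e3
  have hsq1 : ∀ a ∈ H, a * a = 1 := fun a ha => by
    by_cases haZ : a ∈ Z
    · rw [← pow_two]; exact hZ a haZ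
    · exact hone a ha haZ
  have hinv : ∀ a ∈ H, a⁻¹ = a := fun a ha => inv_eq_of_mul_eq_one_right (hsq1 a ha)
  refine ⟨⟨⟨fun a b => Subtype.ext ?_⟩⟩, fun a ha => by rw [pow_two]; exact hsq1 a ha⟩
  show (a : X) * b = b * a
  have h := hinv _ (mul_mem a.2 b.2)
  rw [mul_inv_rev, hinv _ a.2, hinv _ b.2] at h
  exact h.symm

/-- the complement to one of the two subgroups -/
theorem complement {X : Type*} [Group X] [Finite X] {F : Type*} [Field F] {Z : Subgroup X} [Z.Normal]
    {T : Sylow 2 X} {H K : Subgroup X} (hHT : H ≤ T) (hKT : K ≤ T) (hZH : Z ≤ H)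
    (hH : Cfsg.IsElementaryAbelian 2 H) (hK : Cfsg.IsElementaryAbelian 2 K)
    (hgood : Cfsg.Lib.LThreeFourPar.Good F (H.map (QuotientGroup.mk' Z)))
    (hTn : (T : Subgroup X).map (QuotientGroup.mk' Z) ≤
      normalizer (H.map (QuotientGroup.mk' Z) : Set (X ⧸ Z)))
    (hTs : (T : Subgroup X).map (QuotientGroup.mk' Z) ≤
      H.map (QuotientGroup.mk' Z) ⊔ K.map (QuotientGroup.mk' Z)) :
    ∃ C : Subgroup X, C ≤ normalizer (H : Set X) ∧ C ⊓ H = ⊥ ∧ H ⊔ C = normalizer (H : Set X) ∧
        Nonempty (↥C ≃* Matrix.ProjectiveSpecialLinearGroup (Fin 2) F) := by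
  set π := QuotientGroup.mk' Z with hπ
  have hHc : H = (H.map π).comap π := by
    rw [comap_map_eq, hπ, QuotientGroup.ker_mk', sup_of_le_left hZH]
  set N := normalizer (H : Set X) with hN
  have hNimg : ∀ x, x ∈ N ↔ π x ∈ normalizer (H.map π : Set (X ⧸ Z)) := by
    intro x
    have := comap_normalizer_eq_of_surjective (H.map π) (f := π) (QuotientGroup.mk'_surjective Z)
    rw [← hHc] at this
    rw [hN, ← this, mem_comap]
  have hTN : (T : Subgroup X) ≤ N := fun t ht => (hNimg t).2 (hTn (mem_map_of_mem _ ht))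
  obtain ⟨f, hfs, hfk⟩ := hgood.1
  let r : ↥N →* ↥(normalizer (H.map π : Set (X ⧸ Z))) :=
    (π.comp N.subtype).codRestrict _ fun x => (hNimg x).1 x.2
  have hrs : Function.Surjective r := by
    rintro ⟨y, hy⟩
    obtain ⟨x, rfl⟩ := QuotientGroup.mk'_surjective Z y
    exact ⟨⟨x, (hNimg x).2 hy⟩, rfl⟩
  have hker : (f.comp r).ker = H.subgroupOf N := by
    rw [← MonoidHom.comap_ker, hfk]
    ext x
    show π (x : X) ∈ H.map π ↔ (x : X) ∈ H
    conv_rhs => rw [hHc]
    rfl
  haveI : (H.subgroupOf N).Normal := normal_in_normalizer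
  haveI : IsMulCommutative (H.subgroupOf N) := by
    haveI := hH.1
    infer_instance
  obtain ⟨C', hC'K, hC'D, hC'S⟩ := exists_compl hK (inf_le_right (a := H) (b := K))
  have hC'H : C' ⊓ H = ⊥ := eq_bot_iff.2 fun x hx => by
    rw [← hC'D]; exact ⟨hx.1, hx.2, hC'K hx.1⟩
  have hT : (T : Subgroup X) ≤ H ⊔ C' := by
    intro t ht
    have h1 := hTs (mem_map_of_mem _ ht)
    rw [← Subgroup.map_sup, ← mem_comap, comap_map_eq, hπ, QuotientGroup.ker_mk'] at h1
    refine (sup_le (sup_le le_sup_left ?_) (hZH.trans le_sup_left)) h1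
    rw [← hC'S]
    exact sup_le le_sup_right (inf_le_left.trans le_sup_left)
  have hC'T : C' ≤ T := hC'K.trans hKT
  have hU : H.subgroupOf N ⊔ C'.subgroupOf N = (T : Subgroup X).subgroupOf N := by
    rw [← subgroupOf_sup (le_normalizer : H ≤ N) (hC'T.trans hTN),
      le_antisymm (sup_le hHT hC'T) hT]
  have hcop : (Nat.card (H.subgroupOf N)).Coprime ((T : Subgroup X).subgroupOf N).index := by
    obtain ⟨k, hk⟩ := IsPGroup.iff_card.1 (T.isPGroup'.to_le hHT)
    rw [Nat.card_congr (subgroupOfEquivOfLe (le_normalizer : H ≤ N)).toEquiv, hk]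
    refine Nat.Coprime.pow_left k ((Nat.prime_two.coprime_iff_not_dvd).2 fun h => T.not_dvd_index ?_)
    exact h.trans (Dvd.intro _ (relIndex_mul_index hTN))
  obtain ⟨C, hC⟩ := Cfsg.Agent.S0051.result (H.subgroupOf N) ((T : Subgroup X).subgroupOf N)
    (fun x hx => hHT hx) hcop (C'.subgroupOf N) (fun x hx => hC'T hx)
    (eq_bot_iff.2 fun x hx => mem_bot.2 (Subtype.ext (mem_bot.1 (hC'H.le ⟨hx.1, hx.2⟩)))) hU
  refine ⟨C.map N.subtype, map_subtype_le _, ?_, ?_, ?_⟩
  · refine eq_bot_iff.2 ?_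
    rintro x ⟨⟨c, hc, rfl⟩, hx⟩
    have : c ∈ (H.subgroupOf N ⊓ C : Subgroup N) := ⟨hx, hc⟩
    rw [disjoint_iff.1 hC.disjoint, mem_bot] at this
    rw [this]; exact one_mem _
  · conv_rhs => rw [← range_subtype N, MonoidHom.range_eq_map, ← hC.sup_eq_top, Subgroup.map_sup]
    rw [map_subgroupOf_eq_of_le le_normalizer]
  · refine ⟨(C.equivMapOfInjective _ N.subtype_injective).symm.trans
      (MulEquiv.ofBijective ((f.comp r).comp C.subtype) ⟨?_, ?_⟩)⟩
    · refine (injective_iff_map_eq_one _).2 fun c hc => ?_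
      have : (c : N) ∈ H.subgroupOf N ⊓ C := ⟨hker ▸ hc, c.2⟩
      rw [disjoint_iff.1 hC.disjoint, mem_bot] at this
      exact Subtype.ext this
    · intro y
      obtain ⟨x, rfl⟩ := (hfs.comp hrs) y
      obtain ⟨h, hh, c, hc, rfl⟩ := (mem_sup_of_normal_left).1 (hC.sup_eq_top ▸ mem_top x)
      refine ⟨⟨c, hc⟩, ?_⟩
      have : (f.comp r) h = 1 := by rw [← MonoidHom.mem_ker, hker]; exact hh
      show (f.comp r) c = (f.comp r) (h * c)
      rw [map_mul, this, one_mul]

/-- transport of the property along an isomorphism -/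
theorem pull {F : Type*} [Field F] {Q R : Type*} [Group Q] [Group R] (e : Q ≃* R) {A : Subgroup Q}
    (h : Cfsg.Lib.LThreeFourPar.Good F (A.map e.toMonoidHom)) : Cfsg.Lib.LThreeFourPar.Good F A := by
  obtain ⟨⟨f, hfs, hfk⟩, htr, hc⟩ := h
  have hm : ∀ x, x ∈ normalizer (A : Set Q) ↔ e x ∈ normalizer (A.map e.toMonoidHom : Set R) := fun x => by
    rw [← map_equiv_normalizer_eq]
    exact ⟨fun h => ⟨x, h, rfl⟩, fun ⟨y, hy, he⟩ => e.injective he ▸ hy⟩
  let r : ↥(normalizer (A : Set Q)) →* ↥(normalizer (A.map e.toMonoidHom : Set R)) :=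
    (e.toMonoidHom.comp (normalizer (A : Set Q)).subtype).codRestrict _ fun x => (hm x).1 x.2
  have hrs : Function.Surjective r := by
    rintro ⟨y, hy⟩
    obtain ⟨x, rfl⟩ := e.surjective y
    exact ⟨⟨x, (hm x).2 hy⟩, rfl⟩
  refine ⟨⟨f.comp r, hfs.comp hrs, ?_⟩, ?_, ?_⟩
  · rw [← MonoidHom.comap_ker, hfk]
    ext x
    exact ⟨fun ⟨y, hy, he⟩ => show (x : Q) ∈ A from (show y = (x : Q) from e.injective he) ▸ hy, fun h => ⟨_, h, rfl⟩⟩
  · intro a ha b hb ha1 hb1
    obtain ⟨g, hg, he⟩ := htr (e a) ⟨a, ha, rfl⟩ (e b) ⟨b, hb, rfl⟩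
      (fun h => ha1 (e.injective (by rw [h, map_one]))) (fun h => hb1 (e.injective (by rw [h, map_one])))
    obtain ⟨g, rfl⟩ := e.surjective g
    exact ⟨g, (hm g).2 hg, e.injective (by rw [map_mul, map_mul, map_inv, he])⟩
  · intro x hx
    obtain ⟨y, hy, he⟩ := hc (x := e x) (mem_centralizer_iff.2 (by
      rintro _ ⟨a, ha, rfl⟩
      show e a * e x = e x * e a
      rw [← map_mul, mem_centralizer_iff.1 hx a ha, map_mul]))
    exact e.injective he ▸ hy

/-- Let X be a finite quasisimple group whose centre is an elementary abelian 2-group and whose central quotient is isomorphic to the projective special linear group of dimension 3 over the field with 4 elements. Let T be a Sylow 2-subgroup of X and H ≠ K subgroups of T containing the centre Z(X) whose images in X/Z(X) are elementary abelian of order 16 (the two such subgroups of a Sylow 2-subgroup of the quotient). Then H and K are elementary abelian, H ∩ K is the centre of the subgroup they generate, and each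 of N_X(H), N_X(K) is a split extension of H, respectively K, by the projective special linear group of dimension 2 over the field with 4 elements (there is a complement isomorphic to that group). -/
theorem result {X : Type*} [Group X] [Finite X] (hq : Cfsg.IsQuasisimple X) (hZ : Cfsg.IsElementaryAbelian 2 (Subgroup.center X))
    {F : Type*} [Field F] [Fintype F] (hF : Fintype.card F = 4) (hXL : Nonempty ((X ⧸ Subgroup.center X) ≃* Matrix.ProjectiveSpecialLinearGroup (Fin 3) F))
    (T : Sylow 2 X) (H K : Subgroup X) (hHK : H ≠ K) (hHT : H ≤ T) (hKT : K ≤ T) (hZH : Subgroup.center X ≤ H) (hZK : Subgroup.center X ≤ K)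
    (hH : Cfsg.IsElementaryAbelian 2 (H.map (QuotientGroup.mk' (Subgroup.center X))) ∧ Nat.card ↥(H.map (QuotientGroup.mk' (Subgroup.center X))) = 16)
    (hK : Cfsg.IsElementaryAbelian 2 (K.map (QuotientGroup.mk' (Subgroup.center X))) ∧ Nat.card ↥(K.map (QuotientGroup.mk' (Subgroup.center X))) = 16) :
    Cfsg.IsElementaryAbelian 2 H ∧ Cfsg.IsElementaryAbelian 2 K ∧
      H ⊓ K = (Subgroup.center ↥(H ⊔ K)).map (H ⊔ K).subtype ∧
      (∃ C : Subgroup X, C ≤ Subgroup.normalizer (H : Set X) ∧ C ⊓ H = ⊥ ∧ H ⊔ C = Subgroup.normalizer (H : Set X) ∧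
        Nonempty (↥C ≃* Matrix.ProjectiveSpecialLinearGroup (Fin 2) F)) ∧
      (∃ C : Subgroup X, C ≤ Subgroup.normalizer (K : Set X) ∧ C ⊓ K = ⊥ ∧ K ⊔ C = Subgroup.normalizer (K : Set X) ∧
        Nonempty (↥C ≃* Matrix.ProjectiveSpecialLinearGroup (Fin 2) F)) := by
  haveI : Fact (Nat.Prime 2) := ⟨Nat.prime_two⟩
  haveI : CharP F 2 := charP_of_card_eq_prime_pow (f := 2) (by rw [hF]; norm_num)
  set Z := Subgroup.center X with hZdef
  set π := QuotientGroup.mk' Z with hπ
  obtain ⟨e⟩ := hXL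
  have inv : ∀ (A : Subgroup (X ⧸ Z)), (A.map e.toMonoidHom).map e.symm.toMonoidHom = A := fun A => by
    rw [Subgroup.map_map]; simp
  have hne : (H.map π).map e.toMonoidHom ≠ (K.map π).map e.toMonoidHom := by
    intro h
    have h' := congrArg (fun A => A.map e.symm.toMonoidHom) h
    simp only [inv] at h'
    exact hHK (Subgroup.map_injective_of_ker_le π (by rwa [hπ, QuotientGroup.ker_mk'])
      (by rwa [hπ, QuotientGroup.ker_mk']) h')
  have sq : ∀ {L : Subgroup (X ⧸ Z)}, (∀ a ∈ L, a ^ 2 = 1) →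
      ∀ x ∈ L.map e.toMonoidHom, x ^ 2 = 1 := by
    rintro L hL _ ⟨a, ha, rfl⟩
    rw [← map_pow, hL a ha, map_one]
  obtain ⟨gH, gK, hTn, hTs⟩ := Cfsg.Lib.LThreeFourPar.sylow_pair hF (T := ((T : Subgroup X).map π).map e.toMonoidHom)
    ((T.isPGroup'.map π).map _) (Subgroup.map_mono (Subgroup.map_mono hHT))
    (Subgroup.map_mono (Subgroup.map_mono hKT)) hne (sq hH.1.2) (sq hK.1.2)
    (by rw [Subgroup.card_map_of_injective (f := e.toMonoidHom) e.injective]; exact hH.2)
    (by rw [Subgroup.card_map_of_injective (f := e.toMonoidHom) e.injective]; exact hK.2)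
  obtain ⟨-, -, hTn', -⟩ := Cfsg.Lib.LThreeFourPar.sylow_pair hF (T := ((T : Subgroup X).map π).map e.toMonoidHom)
    ((T.isPGroup'.map π).map _) (Subgroup.map_mono (Subgroup.map_mono hKT))
    (Subgroup.map_mono (Subgroup.map_mono hHT)) hne.symm (sq hK.1.2) (sq hH.1.2)
    (by rw [Subgroup.card_map_of_injective (f := e.toMonoidHom) e.injective]; exact hK.2)
    (by rw [Subgroup.card_map_of_injective (f := e.toMonoidHom) e.injective]; exact hH.2)
  have gH' : Cfsg.Lib.LThreeFourPar.Good F (H.map π) := pull e gH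
  have gK' : Cfsg.Lib.LThreeFourPar.Good F (K.map π) := pull e gK
  have pullN : ∀ A : Subgroup (X ⧸ Z),
      ((T : Subgroup X).map π).map e.toMonoidHom ≤ Subgroup.normalizer (A.map e.toMonoidHom : Set _) →
      (T : Subgroup X).map π ≤ Subgroup.normalizer (A : Set (X ⧸ Z)) := fun A h => by
    rw [← Subgroup.map_equiv_normalizer_eq] at h
    exact (Subgroup.map_le_map_iff_of_injective (f := e.toMonoidHom) e.injective).1 h
  have hTs' : (T : Subgroup X).map π ≤ H.map π ⊔ K.map π := by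
    rw [← Subgroup.map_sup] at hTs
    exact (Subgroup.map_le_map_iff_of_injective (f := e.toMonoidHom) e.injective).1 hTs
  have eH := elementary (Z := Z) le_rfl hZ.2 hZH hH.1.2
    (by rw [hH.2]; norm_num) fun a ha b hb h1 h2 => (gH'.2.1 a ha b hb h1 h2).imp fun _ h => h.2
  have eK := elementary (Z := Z) le_rfl hZ.2 hZK hK.1.2
    (by rw [hK.2]; norm_num) fun a ha b hb h1 h2 => (gK'.2.1 a ha b hb h1 h2).imp fun _ h => h.2
  refine ⟨eH, eK, ?_, complement hHT hKT hZH eH eK gH' (pullN _ hTn) hTs',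
    complement hKT hHT hZK eK eH gK' (pullN _ hTn') (sup_comm (H.map π) (K.map π) ▸ hTs')⟩
  apply le_antisymm
  · intro x hx
    refine ⟨⟨x, Subgroup.mem_sup_left hx.1⟩, Subgroup.mem_center_iff.2 fun y => Subtype.ext ?_, rfl⟩
    have : H ⊔ K ≤ Subgroup.centralizer ({x} : Set X) := sup_le
      (fun h hh => Subgroup.mem_centralizer_singleton_iff.2 (congrArg Subtype.val (eH.1.is_comm.comm ⟨h, hh⟩ ⟨x, hx.1⟩)))
      (fun h hh => Subgroup.mem_centralizer_singleton_iff.2 (congrArg Subtype.val (eK.1.is_comm.comm ⟨h, hh⟩ ⟨x, hx.2⟩)))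
    exact Subgroup.mem_centralizer_singleton_iff.1 (this y.2)
  · rintro _ ⟨⟨x, hx⟩, hxc, rfl⟩
    have hc : ∀ y ∈ H ⊔ K, y * x = x * y := fun y hy =>
      congrArg Subtype.val (Subgroup.mem_center_iff.1 hxc ⟨y, hy⟩)
    have key : ∀ L : Subgroup X, L ≤ H ⊔ K → Z ≤ L → Cfsg.Lib.LThreeFourPar.Good F (L.map π) → x ∈ L := by
      intro L hL hZL g
      have h1 : π x ∈ Subgroup.centralizer (L.map π : Set (X ⧸ Z)) := Subgroup.mem_centralizer_iff.2 <| by
        rintro _ ⟨y, hy, rfl⟩
        rw [← map_mul, hc y (hL hy), map_mul]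
      obtain ⟨y, hy, he⟩ := g.2.2 h1
      have : y⁻¹ * x ∈ Z := (QuotientGroup.eq (s := Z)).1 he
      simpa using mul_mem hy (hZL this)
    exact ⟨key H le_sup_left hZH gH', key K le_sup_right hZK gK'⟩

end Cfsg.Agent.S3154
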