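import Cfsg.Statements.S3155
import Mathlib

set_option autoImplicit false
open Cfsg

namespace Cfsg.Agent.S3155

/-- Let B be the direct product of three cyclic groups of order 4. Then the automorphism of B inverting every element is not the square of any automorphism of B. -/
theorem result {B : Type*} [CommGroup B] [Finite B] (hB : Nonempty (B ≃* Multiplicative (ZMod 4 × ZMod 4 × ZMod 4)))
    (τ : B ≃* B) : τ.trans τ ≠ MulEquiv.inv B := by
  intro h
  haveI : Fact (1 < 4) := ⟨by norm_num⟩
  obtain ⟨e⟩ := hB
  let F : (ZMod 4 × ZMod 4 × ZMod 4) →+ (ZMod 4 × ZMod 4 × ZMod 4) :=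
    AddMonoidHom.mk' (fun v => Multiplicative.toAdd (e (τ (e.symm (Multiplicative.ofAdd v))))) fun a b => by
      simp [ofAdd_add, map_mul]
  have hFF : ∀ v, F (F v) = -v := fun v => by
    have h1 : τ (τ (e.symm (Multiplicative.ofAdd v))) = (e.symm (Multiplicative.ofAdd v))⁻¹ :=
      congrFun (congrArg (fun f : B ≃* B => (f : B → B)) h) _
    show Multiplicative.toAdd (e (τ (e.symm (Multiplicative.ofAdd (Multiplicative.toAdd (e (τ (e.symm (Multiplicative.ofAdd v))))))))) = -v
    rw [ofAdd_toAdd, MulEquiv.symm_apply_apply, h1, map_inv, MulEquiv.apply_symm_apply]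
    rfl
  let L := F.toZModLinearMap 4
  have hLL : L.comp L = (-1 : ZMod 4) • LinearMap.id := LinearMap.ext fun v => by
    simp only [LinearMap.comp_apply, LinearMap.smul_apply, LinearMap.id_apply, neg_one_smul]
    exact hFF v
  have hd := congrArg LinearMap.det hLL
  rw [LinearMap.det_comp, LinearMap.det_smul, LinearMap.det_id, Module.finrank_prod, Module.finrank_prod, Module.finrank_self] at hd
  revert hd
  generalize LinearMap.det L = d
  revert d
  decide

end Cfsg.Agent.S3155
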