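import Cfsg.Statements.S3315
import Cfsg.Agent.SuzukiTwo.Unitary

set_option autoImplicit false
open Cfsg

namespace Cfsg.Agent.S3315

open Cfsg.Lib.Classical Cfsg.Lib.Fusion.PSU Cfsg.Lib.SuzukiTwo.Unitary

variable {F : Type*} [Field F] [Fintype F] [CharP F 2] {σ : F →+* F} {hσ : IsConj σ}

theorem bc_inv (g : sylU 3 hσ) : bc g⁻¹ = bc g := by
  have h := bc_mul g⁻¹ g
  rw [inv_mul_cancel, bc_one] at h
  exact CharTwo.add_eq_zero.mp h.symm

/-- The commutator form. -/
def B (σ : F →+* F) (x y : F) : F := x * σ y + y * σ x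

/-- An automorphism of order two modulo inner ones fixes the centre. -/
theorem aut_fix_center (c : MulAut (sylU 3 hσ)) (r : sylU 3 hσ) (hc : ∀ g, c (c g) = r * g * r⁻¹)
    (z : sylU 3 hσ) (hz : z ∈ Subgroup.center (sylU 3 hσ)) : c z = z := by
  classical
  obtain ⟨θ, hθ⟩ := hσ.exists_trace_one
  have h2 : (2 : F) = 0 := CharTwo.two_eq_zero
  have hcen : ∀ {g}, bc g = 0 → bc (c g) = 0 := fun {g} h => by
    rw [← center_iff, Subgroup.mem_center_iff]
    intro y
    obtain ⟨y, rfl⟩ := c.surjective y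
    rw [← map_mul, ← map_mul, Subgroup.mem_center_iff.1 ((center_iff g).2 h) y]
  let lift : F → sylU 3 hσ := fun b => el b (θ * (b * σ b)) (by
    rw [map_mul σ θ, hσ.norm_mem]
    linear_combination (b * σ b) * hθ + (b * σ b) * h2)
  let α : F → F := fun b => bc (c (lift b))
  have hα : ∀ g, bc (c g) = α (bc g) := by
    intro g
    have h : bc (g * (lift (bc g))⁻¹) = 0 := by
      rw [bc_mul, bc_inv, bc_el, CharTwo.add_self_eq_zero]
    have := hcen h
    rw [map_mul, map_inv, bc_mul, bc_inv] at this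
    exact CharTwo.add_eq_zero.mp this
  have hαadd : ∀ a b, α (a + b) = α a + α b := fun a b => by
    rw [← bc_el (hσ := hσ) a (θ * (a * σ a)) (by rw [map_mul σ θ, hσ.norm_mem]; linear_combination (a * σ a) * hθ + (a * σ a) * h2),
      ← bc_el (hσ := hσ) b (θ * (b * σ b)) (by rw [map_mul σ θ, hσ.norm_mem]; linear_combination (b * σ b) * hθ + (b * σ b) * h2),
      ← bc_mul, ← hα, ← hα, ← hα, map_mul, bc_mul]
  have hαα : ∀ a, α (α a) = a := fun a => by
    conv_rhs => rw [← bc_el (hσ := hσ) a (θ * (a * σ a)) (by rw [map_mul σ θ, hσ.norm_mem]; linear_combination (a * σ a) * hθ + (a * σ a) * h2)]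
    show α (bc (c (lift a))) = _
    rw [← hα, hc, bc_mul, bc_mul, bc_inv]
    show _ = bc (lift a)
    linear_combination bc r * h2
  have hfx : ∀ {g : sylU 3 hσ}, bc g = 0 → σ (cc g) = cc g := fun {g} h => by
    have h1 := rel g
    rw [h, zero_mul, add_zero] at h1
    exact (CharTwo.add_eq_zero.mp h1).symm
  let β : F → F := fun x => if h : x + σ x + 0 * σ 0 = 0 then cc (c (el 0 x h)) else 0
  have hβ : ∀ g, bc g = 0 → β (cc g) = cc (c g) := fun g h => by
    have h1 := rel g
    rw [h] at h1
    show dite _ _ _ = _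
    rw [dif_pos h1]
    exact congrArg (fun g => cc (c g)) (ext_coord ((bc_el _ _ _).trans h.symm) (cc_el _ _ _))
  have hmk : ∀ {x}, σ x = x → x + σ x + 0 * σ 0 = 0 := fun {x} hx => by
    rw [hx, zero_mul, add_zero, CharTwo.add_self_eq_zero]
  have hN : ∀ b, β (b * σ b) = α b * σ (α b) := fun b => by
    have h1 : bc (lift b * lift b) = 0 := by rw [bc_mul, CharTwo.add_self_eq_zero]
    have h3 := hβ _ h1
    rw [cc_mul, CharTwo.add_self_eq_zero, zero_add, bc_el, map_mul, cc_mul, CharTwo.add_self_eq_zero, zero_add] at h3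
    exact h3
  have hB : ∀ a b, β (B σ a b) = B σ (α a) (α b) := fun a b => by
    obtain ⟨g, hg⟩ : ∃ g, g * (lift b * lift a) = lift a * lift b := ⟨_, inv_mul_cancel_right _ _⟩
    have h1 : bc g = 0 := by
      have e := congrArg bc hg
      simp only [bc_mul] at e
      linear_combination e
    have h3 : cc g = B σ a b := by
      have e := congrArg cc hg
      rw [cc_mul g, h1, zero_mul, add_zero, cc_mul, cc_mul, bc_el, bc_el] at e
      simp only [B]
      grind
    have h4 : cc (c g) = B σ (α a) (α b) := by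
      have e : cc (c g * (c (lift b) * c (lift a))) = cc (c (lift a) * c (lift b)) := by
        rw [← map_mul, ← map_mul, ← map_mul, hg]
      rw [cc_mul (c g), hcen h1, zero_mul, add_zero, cc_mul, cc_mul] at e
      simp only [B]
      show _ = bc (c (lift a)) * σ (bc (c (lift b))) + bc (c (lift b)) * σ (bc (c (lift a)))
      grind
    rw [← h3, hβ _ h1, h4]
  suffices hfix : ∀ x, σ x = x → β x = x by
    have hbz := (center_iff z).1 hz
    refine ext_coord ((hcen hbz).trans hbz.symm) ?_
    rw [← hβ z hbz]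
    exact hfix _ (hfx hbz)
  by_contra hcon
  push Not at hcon
  obtain ⟨y0, hy0, hy0'⟩ := hcon
  have hcardF := hσ.card_eq_sq
  -- a fixed vector
  have hB0 : ∀ {v w : F}, v ≠ 0 → B σ v w = 0 → σ (w / v) = w / v := fun {v w} hv h => by
    rw [map_div₀, div_eq_div_iff (fun e => hv (hσ.eq_zero.1 e)) hv]
    simp only [B] at h
    linear_combination h - (w * σ v) * h2
  have hα0 : α 0 = 0 := by
    have h := hαadd 0 0
    rw [add_zero, CharTwo.add_self_eq_zero] at h
    exact h
  let D : F →+ F :=
    { toFun := fun b => b + α b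
      map_zero' := by simp [hα0]
      map_add' := fun a b => by rw [hαadd]; ring }
  have hDK : ∀ b, α (D b) = D b := fun b => by
    show α (b + α b) = b + α b
    rw [hαadd, hαα, add_comm]
  have hKer : ∀ b, b ∈ D.ker ↔ α b = b := fun b => by
    rw [AddMonoidHom.mem_ker]
    exact ⟨fun h => (CharTwo.add_eq_zero.mp h).symm, fun h => by show b + α b = 0; rw [h, CharTwo.add_self_eq_zero]⟩
  have hK : Nat.card (fixedField σ) ≤ Nat.card D.ker := by
    have h1 := AddSubgroup.card_mul_index D.ker
    rw [AddSubgroup.index_ker, hcardF] at h1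
    have h3 : Nat.card D.range ≤ Nat.card D.ker := AddSubgroup.card_le_of_le (by
      rintro _ ⟨b, rfl⟩
      exact (hKer _).2 (hDK b))
    have h4 := Nat.mul_le_mul_left (Nat.card D.ker) h3
    rw [h1, ← sq] at h4
    exact (Nat.pow_le_pow_iff_left two_ne_zero).1 h4
  obtain ⟨v, hv, hv0⟩ : ∃ v, α v = v ∧ v ≠ 0 := by
    by_contra! h
    have : Subsingleton D.ker := ⟨fun a b => Subtype.ext ((h _ ((hKer _).1 a.2)).trans (h _ ((hKer _).1 b.2)).symm)⟩
    have := hK.trans (Finite.card_le_one_iff_subsingleton.2 this)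
    have := hσ.two_le_card_fixed
    omega
  -- the map on the line through `v`
  have hline : ∀ {w}, σ (w / v) = w / v → σ (α w / v) = α w / v := fun {w} h => by
    apply hB0 hv0
    have h1 : B σ v w = 0 := by
      have hw : w = w / v * v := (div_mul_cancel₀ _ hv0).symm
      rw [hw]
      simp only [B, map_mul, h]
      linear_combination (w / v * v * σ v) * h2
    have h3 := hB v w
    rw [h1, hv] at h3
    rw [← h3]
    have h5 := hN 0
    simpa [hα0] using h5
  have hNsq : ∀ {x}, σ x = x → (x * v) * σ (x * v) = x * x * (v * σ v) := fun {x} hx => by rw [map_mul, hx]; ring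
  obtain ⟨v', hv', hvl⟩ : ∃ v', α v' = v' ∧ σ (v' / v) ≠ v' / v := by
    by_contra! h
    have hmap : ∀ k : D.ker, (k : F) / v ∈ fixedField σ := fun k => mem_fixedField.2 (h _ ((hKer _).1 k.2))
    let f : D.ker → fixedField σ := fun k => ⟨(k : F) / v, hmap k⟩
    have hf : Function.Injective f := fun a b e => Subtype.ext (by
      have := congrArg Subtype.val e
      simpa [f, div_left_inj' hv0] using this)
    have hs : Function.Surjective f := (Nat.bijective_iff_injective_and_card f |>.2 ⟨hf,
      le_antisymm (Nat.card_le_card_of_injective f hf) hK⟩).2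
    refine hy0' ?_
    have hn : v * σ v ≠ 0 := mul_ne_zero hv0 fun e => hv0 (hσ.eq_zero.1 e)
    obtain ⟨t, ht⟩ := FiniteField.isSquare_of_char_two (F := fixedField σ) (ringChar.eq (fixedField σ) 2)
      (⟨y0 / (v * σ v), by rw [mem_fixedField, map_div₀, hy0, hσ.norm_mem]⟩ : fixedField σ)
    obtain ⟨k, hk⟩ := hs t
    have hk' : α ((t : F) * v) = (t : F) * v := by
      have e : (k : F) = (t : F) * v := by
        have := congrArg Subtype.val hk
        simp only [f] at this
        rw [← this, div_mul_cancel₀ _ hv0]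
      rw [← e]
      exact (hKer _).1 k.2
    have h5 := hN ((t : F) * v)
    rw [hk', hNsq (mem_fixedField.1 t.2), ← show y0 / (v * σ v) = (t : F) * t from congrArg Subtype.val ht,
      div_mul_cancel₀ _ hn] at h5
    exact h5
  set b0 := B σ v v' with hb0
  have hb0ne : b0 ≠ 0 := fun h => hvl (hB0 hv0 h)
  let g : F → F := fun x => α (x * v) / v
  have hgfix : ∀ {x}, σ x = x → σ (g x) = g x := fun {x} hx => hline (by rw [mul_div_cancel_right₀ _ hv0, hx])
  have hgv : ∀ x, α (x * v) = g x * v := fun x => (div_mul_cancel₀ _ hv0).symm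
  have hbb : ∀ {x}, σ x = x → β (x * b0) = g x * b0 := fun {x} hx => by
    have h := hB (x * v) v'
    rw [hv', hgv] at h
    rw [show B σ (x * v) v' = x * b0 by simp only [hb0, B, map_mul, hx]; ring,
      show B σ (g x * v) v' = g x * b0 by simp only [hb0, B, map_mul, hgfix hx]; ring] at h
    exact h
  have hg' : ∀ {y}, σ y = y → α (y * v') = g y * v' := fun {y} hy => by
    have hv'0 : v' ≠ 0 := fun e => hvl (by rw [e, zero_div, map_zero])
    have hq : σ (α (y * v') / v') = α (y * v') / v' := by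
      apply hB0 hv'0
      have h1 : B σ v' (y * v') = 0 := by simp only [B, map_mul, hy]; linear_combination (y * v' * σ v') * h2
      have h3 := hB v' (y * v')
      rw [h1, hv'] at h3
      rw [← h3]
      simpa [hα0] using hN 0
    have h := hB v (y * v')
    rw [hv, show B σ v (y * v') = y * b0 by simp only [hb0, B, map_mul, hy]; ring, hbb hy] at h
    have e : α (y * v') = α (y * v') / v' * v' := (div_mul_cancel₀ _ hv'0).symm
    rw [e] at h ⊢
    rw [show B σ v (α (y * v') / v' * v') = α (y * v') / v' * b0 by simp only [hb0, B, map_mul, hq]; ring] at h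
    rw [mul_right_cancel₀ hb0ne h]
  have hmul : ∀ {x y}, σ x = x → σ y = y → g (x * y) = g x * g y := fun {x y} hx hy => by
    have h := hB (x * v) (y * v')
    rw [hgv, hg' hy, show B σ (x * v) (y * v') = x * y * b0 by simp only [hb0, B, map_mul, hx, hy]; ring,
      hbb (by rw [map_mul, hx, hy]),
      show B σ (g x * v) (g y * v') = g x * g y * b0 by simp only [hb0, B, map_mul, hgfix hx, hgfix hy]; ring] at h
    exact mul_right_cancel₀ hb0ne h
  let γ : fixedField σ →+* fixedField σ :=
    { toFun := fun x => ⟨g x, mem_fixedField.2 (hgfix (mem_fixedField.1 x.2))⟩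
      map_one' := Subtype.ext (by simp [g, hv, hv0])
      map_mul' := fun x y => Subtype.ext (hmul (mem_fixedField.1 x.2) (mem_fixedField.1 y.2))
      map_zero' := Subtype.ext (by simp [g, hα0])
      map_add' := fun x y => Subtype.ext (by simp [g, add_mul, hαadd, add_div]) }
  have hnσ : σ b0 = b0 := by simp only [hb0, B, map_add, map_mul, hσ.invol]; ring
  have hγ : IsConj γ := by
    refine ⟨fun x => Subtype.ext ?_, ?_⟩
    · show g (g x) = x
      show α (g x * v) / v = x
      rw [← hgv, hαα, mul_div_cancel_right₀ _ hv0]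
    · refine ⟨⟨y0 / b0, by rw [mem_fixedField, map_div₀, hy0, hnσ]⟩, fun e => hy0' ?_⟩
      have h := hbb (x := y0 / b0) (by rw [map_div₀, hy0, hnσ])
      rw [div_mul_cancel₀ _ hb0ne, show g (y0 / b0) = y0 / b0 from congrArg Subtype.val e, div_mul_cancel₀ _ hb0ne] at h
      exact h
  -- the quadratic
  set r0 := Nat.card (fixedField γ) with hr0
  have hq2 : Nat.card (fixedField σ) = r0 ^ 2 := hγ.card_eq_sq
  have hgof : ∀ (n : F), σ n = n → β n = n → g (n / b0) = n / b0 := fun n hn hbn => by
    have h := hbb (x := n / b0) (by rw [map_div₀, hn, hnσ])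
    rw [div_mul_cancel₀ _ hb0ne, hbn] at h
    exact (eq_div_iff hb0ne).2 h.symm
  have hpow : ∀ t : F, σ t = t → g t = t → t ^ r0 = t := fun t ht hgt => by
    haveI : Fintype (fixedField γ) := Fintype.ofFinite _
    have h := FiniteField.pow_card (⟨⟨t, mem_fixedField.2 ht⟩, mem_fixedField.2 (Subtype.ext hgt)⟩ : fixedField γ)
    rw [← Nat.card_eq_fintype_card, ← hr0] at h
    simpa using congrArg (fun z : fixedField γ => ((z : fixedField σ) : F)) h
  have hNv : g (v * σ v / b0) = v * σ v / b0 := hgof _ (hσ.norm_mem v) (by have := hN v; rwa [hv] at this)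
  have hNv' : g (v' * σ v' / b0) = v' * σ v' / b0 := hgof _ (hσ.norm_mem v') (by have := hN v'; rwa [hv'] at this)
  have hP := hpow _ (by rw [map_div₀, hσ.norm_mem, hnσ]) hNv
  have hQ := hpow _ (by rw [map_div₀, hσ.norm_mem, hnσ]) hNv'
  -- the root
  set x := v' / v with hx
  have hv'0 : v' ≠ 0 := fun e => hvl (by rw [hx, e, zero_div, map_zero])
  have hsv : σ v ≠ 0 := fun e => hv0 (hσ.eq_zero.1 e)
  set T := b0 / (v * σ v)
  set N := v' * σ v' / (v * σ v)
  have hT : T ^ r0 = T := by
    rw [show T = (v * σ v / b0)⁻¹ from (inv_div _ _).symm, inv_pow, hP]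
  have hNr : N ^ r0 = N := by
    rw [show N = (v' * σ v' / b0) / (v * σ v / b0) by rw [div_div_div_cancel_right₀ hb0ne], div_pow, hP, hQ]
  have hroot : ∀ w : F, w * w + T * w + N = 0 ↔ (w = x ∨ w = σ x) := by
    intro w
    have e : w * w + T * w + N = (w + x) * (w + σ x) := by
      simp only [T, N, hx, map_div₀, hb0, B]
      field_simp
      ring
    rw [e, mul_eq_zero, CharTwo.add_eq_zero, CharTwo.add_eq_zero]
  obtain ⟨k, hk⟩ : ∃ k, r0 = 2 ^ k := by
    haveI : Fintype (fixedField γ) := Fintype.ofFinite _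
    obtain ⟨n, -, hn⟩ := FiniteField.card (fixedField γ) 2
    exact ⟨n, by rw [hr0, Nat.card_eq_fintype_card, hn]⟩
  have hfr : (x ^ r0) * (x ^ r0) + T * x ^ r0 + N = 0 := by
    have h := congrArg (fun z => z ^ r0) ((hroot x).2 (Or.inl rfl))
    simp only [hk] at hT hNr h ⊢
    rw [add_pow_char_pow, add_pow_char_pow, mul_pow, mul_pow, hT, hNr, zero_pow (by positivity)] at h
    exact h
  have hσcomm : (σ x) ^ r0 = σ (x ^ r0) := (map_pow σ x r0).symm
  have hxq : x ^ (r0 ^ 2) = x := by
    rw [sq, pow_mul]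
    rcases (hroot _).1 hfr with h | h
    · rw [h, h]
    · rw [h, hσcomm, h, hσ.invol]
  refine hvl ?_
  show σ x = x
  haveI : Fintype (fixedField σ) := Fintype.ofFinite _
  by_contra hne
  set q := Nat.card (fixedField σ) with hq
  have hq1 : 1 < q := hσ.two_le_card_fixed
  let P : Polynomial F := Polynomial.X ^ q - Polynomial.X
  have hP0 : P ≠ 0 := FiniteField.X_pow_card_sub_X_ne_zero F hq1
  let Z : Finset F := insert x ((Finset.univ : Finset (fixedField σ)).image (fun t : fixedField σ => (t : F)))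
  have hZ : Z.val ⊆ P.roots := by
    intro w hw
    rw [Polynomial.mem_roots hP0]
    simp only [P, Polynomial.IsRoot.def, Polynomial.eval_sub, Polynomial.eval_pow, Polynomial.eval_X, sub_eq_zero]
    rcases Finset.mem_insert.1 hw with rfl | hw
    · rw [hq2]; exact hxq
    · obtain ⟨t, -, rfl⟩ := Finset.mem_image.1 hw
      rw [hq, Nat.card_eq_fintype_card]
      exact congrArg Subtype.val (FiniteField.pow_card t)
  have hdeg := Polynomial.card_le_degree_of_subset_roots hZ
  rw [FiniteField.X_pow_card_sub_X_natDegree_eq F hq1, Finset.card_insert_of_notMem (fun hm => by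
      obtain ⟨t, -, ht⟩ := Finset.mem_image.1 hm
      exact hne (ht ▸ mem_fixedField.1 t.2)),
    Finset.card_image_of_injective _ Subtype.val_injective, Finset.card_univ, ← Nat.card_eq_fintype_card] at hdeg
  omega

/-- Let S be a Sylow 2-subgroup of SU₃(2ⁿ), n ≥ 2 (realised over the field with 4ⁿ elements). If a finite 2-group R contains a subgroup S' of index 2 isomorphic to S, then the centre of S' is contained in the centre of R. -/
theorem result {R : Type*} [Group R] [Finite R]
    (hR : IsPGroup 2 R) (n : ℕ) (hn : 2 ≤ n) {F : Type*} [Field F] [Fintype F] (hF : Fintype.card F = 4 ^ n)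
    (P : Sylow 2 ↥(Cfsg.SU 3 F (2 ^ n))) (S' : Subgroup R) (hS : Nonempty (↥S' ≃* ↥(P : Subgroup ↥(Cfsg.SU 3 F (2 ^ n)))))
    (hidx : S'.index = 2) :
    (Subgroup.center ↥S').map S'.subtype ≤ Subgroup.center R := by
  classical
  haveI : Fact (Nat.Prime 2) := ⟨Nat.prime_two⟩
  have hF' : Fintype.card F = (2 ^ n) ^ 2 := by rw [hF, show (4 : ℕ) = 2 ^ 2 by norm_num, ← pow_mul, ← pow_mul, mul_comm]
  haveI : CharP F 2 := by
    refine CharTwo.of_one_ne_zero_of_two_eq_zero one_ne_zero ?_
    have h0 : ((Fintype.card F : ℕ) : F) = 0 := FiniteField.cast_card_eq_zero F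
    rw [hF', ← pow_mul, Nat.cast_pow, Nat.cast_ofNat] at h0
    exact (pow_eq_zero_iff (by omega)).mp h0
  obtain ⟨E⟩ := exists_equiv hF' 3
  obtain ⟨Q, hQ⟩ := exists_sylow (hσ := powConj_isConj hF') (n := 3) 2
  obtain ⟨eS⟩ := hS
  let Q' := Q.mapSurjective (f := E.toMonoidHom) E.surjective
  let e : S' ≃* sylU 3 (powConj_isConj hF') := (eS.trans (Sylow.equiv P Q')).trans
    ((MulEquiv.subgroupCongr (congrArg (Subgroup.map E.toMonoidHom) hQ : (Q' : Subgroup _) = (sylU 3 (powConj_isConj hF')).map E.toMonoidHom)).trans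
      ((sylU 3 (powConj_isConj hF')).equivMapOfInjective E.toMonoidHom E.injective).symm)
  have hnorm : S'.Normal := Subgroup.normal_of_index_eq_two hidx
  rintro _ ⟨z, hz, rfl⟩
  rw [Subgroup.mem_center_iff]
  intro t
  by_cases ht : t ∈ S'
  · exact congrArg Subtype.val (Subgroup.mem_center_iff.1 hz ⟨t, ht⟩)
  have ht2 : t * t ∈ S' := Subgroup.mul_self_mem_of_index_two hidx t
  let c0 : MulAut S' := MulAut.conjNormal t
  let c := (MulAut.congr e) c0
  have hc : ∀ g, c (c g) = e ⟨t * t, ht2⟩ * g * (e ⟨t * t, ht2⟩)⁻¹ := by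
    intro g
    obtain ⟨s, rfl⟩ := e.surjective g
    show e (c0 (e.symm (e (c0 (e.symm (e s)))))) = _
    rw [e.symm_apply_apply, e.symm_apply_apply, ← map_inv, ← map_mul, ← map_mul]
    congr 1
    ext
    simp [c0, MulAut.conjNormal_apply, mul_assoc]
  have hzc : e z ∈ Subgroup.center (sylU 3 (powConj_isConj hF')) := Subgroup.mem_center_iff.2 fun y => by
    obtain ⟨y, rfl⟩ := e.surjective y
    rw [← map_mul, ← map_mul, Subgroup.mem_center_iff.1 hz y]
  have h := aut_fix_center c _ hc (e z) hzc
  have h1 : c0 z = z := e.injective (by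
    rw [← h]; show _ = e (c0 (e.symm (e z))); rw [e.symm_apply_apply])
  have h3 := congrArg Subtype.val h1
  rw [MulAut.conjNormal_apply] at h3
  exact mul_inv_eq_iff_eq_mul.1 h3

end Cfsg.Agent.S3315
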