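import Cfsg.Statements.S3156
import Cfsg.Agent.SuzukiTwo.Unitary
import Cfsg.Agent.S3315

set_option autoImplicit false
open Cfsg

namespace Cfsg.Agent.S3156

open Cfsg.Lib.Classical Cfsg.Lib.Fusion.PSU Cfsg.Lib.SuzukiTwo.Unitary

variable {F : Type*} [Field F] [Fintype F] [CharP F 2] {σ : F →+* F} {hσ : IsConj σ}

/-- An automorphism of order three cannot fix the centre when the field has sixteen elements. -/
theorem aut_three_eq_one (hσ4 : ∀ x : F, σ x = x ^ 4) (c : MulAut (sylU 3 hσ))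
    (hc : ∀ g, c (c (c g)) = g) (hfix : ∀ z ∈ Subgroup.center (sylU 3 hσ), c z = z) : c = 1 := by
  classical
  obtain ⟨θ, hθ⟩ := hσ.exists_trace_one
  have h2 : (2 : F) = 0 := CharTwo.two_eq_zero
  have hcen : ∀ {g}, bc g = 0 → c g = g := fun {g} h => hfix g ((center_iff g).2 h)
  let lift : F → sylU 3 hσ := fun b => el b (θ * (b * σ b)) (by
    rw [map_mul σ θ, hσ.norm_mem]
    linear_combination (b * σ b) * hθ + (b * σ b) * h2)
  let α : F → F := fun b => bc (c (lift b))
  have hlift : ∀ b, bc (lift b) = b := fun b => bc_el _ _ _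
  have hα : ∀ g, bc (c g) = α (bc g) := by
    intro g
    have h : bc (g * (lift (bc g))⁻¹) = 0 := by
      rw [bc_mul, Cfsg.Agent.S3315.bc_inv, hlift, CharTwo.add_self_eq_zero]
    have h1 := congrArg bc (hcen h)
    rw [map_mul, map_inv, bc_mul, Cfsg.Agent.S3315.bc_inv, h] at h1
    exact CharTwo.add_eq_zero.mp h1
  have hαadd : ∀ a b, α (a + b) = α a + α b := fun a b => by
    conv_lhs => rw [← hlift a, ← hlift b, ← bc_mul, ← hα, map_mul, bc_mul]
  have hααα : ∀ a, α (α (α a)) = a := fun a => by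
    conv_rhs => rw [← hlift a, ← hc (lift a), hα, hα]
  have hN : ∀ b, α b * σ (α b) = b * σ b := fun b => by
    have h1 : bc (lift b * lift b) = 0 := by rw [bc_mul, CharTwo.add_self_eq_zero]
    have h3 := congrArg cc (hcen h1)
    rw [map_mul, cc_mul, CharTwo.add_self_eq_zero, zero_add, cc_mul, CharTwo.add_self_eq_zero, zero_add, hlift] at h3
    exact h3
  have hD : Function.Injective fun b => b + α b + α (α b) := by
    intro a b hab
    have h0 : (a + b) + α (a + b) + α (α (a + b)) = 0 := by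
      rw [hαadd, hαadd]
      linear_combination hab + (b + α b + α (α b)) * h2
    by_contra hne
    set v := a + b with hv
    have hv0 : v ≠ 0 := fun e => hne (CharTwo.add_eq_zero.mp e)
    have hsv : σ v ≠ 0 := fun e => hv0 (hσ.eq_zero.1 e)
    have e2 : α (α v) = v + α v := by linear_combination h0 - (v + α v) * h2
    have hB : α v * σ v + v * σ (α v) = v * σ v := by
      have h := (hN (α v)).trans (hN v)
      rw [e2, map_add] at h
      linear_combination h - hN v + (-(v * σ v)) * h2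
    obtain ⟨w, hw⟩ : ∃ w, w = α v / v := ⟨_, rfl⟩
    have h1 : w * σ w = 1 := by
      rw [hw, map_div₀, div_mul_div_comm, hN, div_self (mul_ne_zero hv0 hsv)]
    have hs : w + σ w = 1 := by
      rw [hw, map_div₀, div_add_div _ _ hv0 hsv, hB, div_self (mul_ne_zero hv0 hsv)]
    have hsq : w * w + w + 1 = 0 := by linear_combination w * hs - h1 + w * h2
    have h3 : σ w = w := by
      rw [hσ4]; linear_combination (w * (w - 1)) * hsq
    rw [h3, CharTwo.add_self_eq_zero] at hs
    exact zero_ne_one hs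
  have hid : ∀ b, α b = b := fun b => by
    obtain ⟨a, rfl⟩ := (Finite.injective_iff_surjective.1 hD) b
    show α (a + α a + α (α a)) = a + α a + α (α a)
    rw [hαadd, hαadd, hααα]
    ring
  refine MulEquiv.ext fun g => ?_
  show c g = g
  set z := g⁻¹ * c g with hz
  have hzb : bc z = 0 := by
    rw [hz, bc_mul, Cfsg.Agent.S3315.bc_inv, hα, hid, CharTwo.add_self_eq_zero]
  have hcg : c g = g * z := by rw [hz, mul_inv_cancel_left]
  have hzz : z * z = 1 := (sq_eq_one_iff z).2 hzb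
  have h := hc g
  simp only [hcg, map_mul, hcen hzb] at h
  have h1 : z * z * z = 1 := by
    have : g * (z * z * z) = g * 1 := by rw [mul_one]; simpa [mul_assoc] using h
    exact mul_left_cancel this
  rw [hzz, one_mul] at h1
  rw [hcg, h1, mul_one]

/-- If a finite group T is isomorphic to a Sylow 2-subgroup of the projective special unitary group of dimension 3 with parameter 4 (realised over the field with 16 elements), then no subgroup of the automorphism group of T is isomorphic to the symmetric group of degree 3. -/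
theorem result {T : Type*} [Group T] [Finite T] (hT : (∃ (F : Type) (_ : Field F) (_ : Fintype F), Fintype.card F = 16 ∧ ∃ S : Sylow 2 (Cfsg.PSU 3 F 4), Nonempty (T ≃* ↥(S : Subgroup (Cfsg.PSU 3 F 4))))) (H : Subgroup (MulAut T)) : ¬ Nonempty (↥H ≃* Equiv.Perm (Fin 3)) := by
  classical
  rintro ⟨ε⟩
  obtain ⟨F, iF, iFF, hF16, S0, ⟨eT⟩⟩ := hT
  have hF : Fintype.card F = (2 ^ 2) ^ 2 := by rw [hF16]; norm_num
  haveI : Fact (Nat.Prime 2) := ⟨Nat.prime_two⟩
  haveI : CharP F 2 := by
    refine CharTwo.of_one_ne_zero_of_two_eq_zero one_ne_zero ?_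
    have h0 : ((Fintype.card F : ℕ) : F) = 0 := FiniteField.cast_card_eq_zero F
    rw [hF, ← pow_mul, Nat.cast_pow, Nat.cast_ofNat] at h0
    exact (pow_eq_zero_iff (by norm_num)).mp h0
  set hσ := powConj_isConj hF
  let S : Sylow 2 (Cfsg.PSU 3 F (2 ^ 2)) := S0
  obtain ⟨E⟩ := exists_equiv hF 3
  set π : antiSU 3 hσ →* Cfsg.PSU 3 F (2 ^ 2) :=
    (QuotientGroup.mk' (Subgroup.center (Cfsg.SU 3 F (2 ^ 2)))).comp E.toMonoidHom
  have hπ : Function.Surjective π := (QuotientGroup.mk'_surjective _).comp E.surjective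
  obtain ⟨Q, hQ⟩ := exists_sylow (hσ := hσ) (n := 3) 2
  have hinj : Function.Injective (π.subgroupMap (sylU 3 hσ)) := by
    refine (injective_iff_map_eq_one _).mpr fun g hg => Subtype.ext (E.injective ?_)
    have hz : E g ∈ Subgroup.center (Cfsg.SU 3 F (2 ^ 2)) :=
      (QuotientGroup.eq_one_iff _).mp (congrArg Subtype.val hg)
    rw [Subgroup.coe_one, map_one, ← orderOf_eq_one_iff]
    have h1 : (E g) ^ Nat.gcd 3 (2 ^ 2 + 1) = 1 := by
      rw [← card_center_SU hF (show 2 ≤ 3 by omega)]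
      exact congrArg Subtype.val (pow_card_eq_one' (G := Subgroup.center (Cfsg.SU 3 F (2 ^ 2))) (x := ⟨E g, hz⟩))
    have h2 := (orderOf_dvd_of_pow_eq_one h1).trans (Nat.gcd_dvd_left _ _)
    obtain ⟨k, hk⟩ := isPGroup_sylU (hσ := hσ) (n := 3) 2 g
    have h3 : orderOf (E g) ∣ 2 ^ k := orderOf_dvd_of_pow_eq_one (by
      rw [← map_pow, show (g : antiSU 3 hσ) ^ 2 ^ k = 1 from congrArg Subtype.val hk, map_one])
    exact Nat.eq_one_of_dvd_coprimes (Nat.Coprime.pow_left k (by norm_num)) h3 h2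
  let e₁ : sylU 3 hσ ≃* (sylU 3 hσ).map π :=
    MulEquiv.ofBijective (π.subgroupMap (sylU 3 hσ)) ⟨hinj, π.subgroupMap_surjective _⟩
  have hS' : ((Q.mapSurjective hπ : Sylow 2 _) : Subgroup (Cfsg.PSU 3 F (2 ^ 2))) = (sylU 3 hσ).map π := by
    rw [Sylow.coe_mapSurjective, hQ]
  let e : sylU 3 hσ ≃* (S : Subgroup (Cfsg.PSU 3 F (2 ^ 2))) :=
    (e₁.trans (MulEquiv.subgroupCongr hS'.symm)).trans (Sylow.equiv (Q.mapSurjective hπ) S)
  let f : T ≃* sylU 3 hσ := MulEquiv.trans (show T ≃* (S : Subgroup (Cfsg.PSU 3 F (2 ^ 2))) from eT) e.symm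
  let ψ : Equiv.Perm (Fin 3) →* MulAut (sylU 3 hσ) :=
    (MulAut.congr f).toMonoidHom.comp (H.subtype.comp ε.symm.toMonoidHom)
  have hψ : Function.Injective ψ :=
    (MulAut.congr f).injective.comp (H.subtype_injective.comp ε.symm.injective)
  have hswap : ∀ a b : Fin 3, ∀ z ∈ Subgroup.center (sylU 3 hσ), ψ (Equiv.swap a b) z = z := fun a b z hz => by
    refine Cfsg.Agent.S3315.aut_fix_center _ 1 (fun g => ?_) z hz
    rw [one_mul, inv_one, mul_one]
    show (ψ (Equiv.swap a b) * ψ (Equiv.swap a b)) g = g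
    rw [← map_mul, Equiv.swap_mul_self, map_one, MulAut.one_apply]
  set ρ : Equiv.Perm (Fin 3) := Equiv.swap 0 1 * Equiv.swap 1 2 with hρ
  have hρ3 : ρ * (ρ * ρ) = 1 := by decide
  have hρ1 : ρ ≠ 1 := by decide
  refine hρ1 (hψ ?_)
  rw [map_one]
  refine aut_three_eq_one (fun x => ?_) _ (fun g => ?_) (fun z hz => ?_)
  · rw [powConj_apply]; norm_num
  · show (ψ ρ * (ψ ρ * ψ ρ)) g = g
    rw [← map_mul, ← map_mul, hρ3, map_one, MulAut.one_apply]
  · rw [hρ, map_mul, MulAut.mul_apply, hswap 1 2 z hz, hswap 0 1 z hz]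

end Cfsg.Agent.S3156
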