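import Cfsg.Statements.S3157
import Cfsg.Agent.PGroups.FpfThree.Model
import Cfsg.Agent.PGroups.CyclicMaximal

set_option autoImplicit false
open Cfsg

namespace Cfsg.Agent.S3157

open Cfsg.FpfThree
open scoped commutatorElement

/-- Let T be a non-abelian group of order 64 admitting automorphisms ρ of order 3 and x of order 2 with x ρ x⁻¹ = ρ⁻¹ (so they generate a symmetric group of degree 3), where ρ fixes only the identity. Then T is isomorphic to a Sylow 2-subgroup of the projective special linear group of dimension 3 over the field with 4 elements, and the subgroup of fixed points of x is dihedral of order 8 or quaternion of order 8. -/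
theorem result {T : Type*} [Group T] [Finite T] (hT : Nat.card T = 64) (hna : ¬ IsMulCommutative T) (ρ x : MulAut T) (hρ : orderOf ρ = 3) (hx : orderOf x = 2)
    (hxr : x * ρ * x⁻¹ = ρ⁻¹) (hfp : ∀ y : T, ρ y = y → y = 1) (C : Subgroup T) (hC : ∀ y : T, y ∈ C ↔ x y = y) :
    (∃ (F : Type) (_ : Field F) (_ : Fintype F), Fintype.card F = 4 ∧
        ∃ S : Sylow 2 (Matrix.ProjectiveSpecialLinearGroup (Fin 3) F), Nonempty (T ≃* ↥(S : Subgroup (Matrix.ProjectiveSpecialLinearGroup (Fin 3) F)))) ∧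
      (Nonempty (↥C ≃* DihedralGroup 4) ∨ Nonempty (↥C ≃* QuaternionGroup 2)) := by
  classical
  haveI : Fact (Nat.Prime 2) := ⟨Nat.prime_two⟩
  have hp : IsPGroup 2 T := IsPGroup.of_card (n := 6) (by rw [hT]; norm_num)
  have hρ3 : ρ ^ 3 = 1 := by rw [← hρ]; exact pow_orderOf_eq_one ρ
  have h : Fpf ρ := ⟨fun t => DFunLike.congr_fun hρ3 t, hfp⟩
  have hx2 : ∀ t, x (x t) = t := fun t => by
    have : x ^ 2 = 1 := by rw [← hx]; exact pow_orderOf_eq_one x
    exact DFunLike.congr_fun this t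
  have hxρ : ∀ t, x (ρ t) = ρ (ρ (x t)) := fun t => by
    have hinv : ρ⁻¹ = ρ * ρ := inv_eq_of_mul_eq_one_right (by rw [← mul_assoc, ← pow_three']; exact hρ3)
    have h1 : x * ρ = ρ * ρ * x := by rw [← hinv, ← hxr, inv_mul_cancel_right]
    exact DFunLike.congr_fun h1 t
  have hc := h.commutator_central hp hT.le
  have com : ∀ a b : T, ∀ t : T, t * ⁅a, b⁆ = ⁅a, b⁆ * t := fun a b t => Subgroup.mem_center_iff.1 (hc a b) t
  -- the pairing `C × C → T`
  have hbij : Function.Bijective (fun p : C × C => (p.1 : T) * ρ p.2) := by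
    constructor
    · rintro ⟨⟨c, hc1⟩, ⟨d, hd1⟩⟩ ⟨⟨c', hc2⟩, ⟨d', hd2⟩⟩ he
      have he' : c * ρ d = c' * ρ d' := he
      have h1 : c'⁻¹ * c = ρ (d' * d⁻¹) := by
        rw [map_mul, map_inv, eq_mul_inv_iff_mul_eq, mul_assoc, he', inv_mul_cancel_left]
      have hf : x (d' * d⁻¹) = d' * d⁻¹ := (hC _).1 (mul_mem hd2 (inv_mem hd1))
      have h2 : x (c'⁻¹ * c) = c'⁻¹ * c := (hC _).1 (mul_mem (inv_mem hc2) hc1)
      rw [h1, hxρ, hf] at h2
      have h3 := h.fpf _ h2
      rw [← map_one ρ] at h3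
      have hdd : d' = d := mul_inv_eq_one.1 (ρ.injective h3)
      rw [hdd] at he'
      exact Prod.ext (Subtype.ext (mul_right_cancel he')) (Subtype.ext hdd.symm)
    · intro t
      obtain ⟨d, hd⟩ := h.psi_bijective.2 (ρ (ρ (t⁻¹ * x t)))
      have hd' : d⁻¹ * ρ d = ρ (ρ (t⁻¹ * x t)) := hd
      have hs : t⁻¹ * x t = ρ d⁻¹ * ρ (ρ d) := by
        rw [← map_mul, hd', h.cube]
      have hsx : x (t⁻¹ * x t) = (t⁻¹ * x t)⁻¹ := by
        rw [map_mul, map_inv, hx2, mul_inv_rev, inv_inv]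
      have hρ2 : Function.Injective fun a : T => a⁻¹ * ρ (ρ a) := h.sq.psi_bijective.1
      have hxd : x d = d := by
        apply hρ2
        show (x d)⁻¹ * ρ (ρ (x d)) = d⁻¹ * ρ (ρ d)
        rw [← map_inv, ← hxρ, ← map_mul, hd', hxρ, hxρ, hsx]
        simp only [h.cube, map_inv, map_mul, hs, mul_inv_rev, inv_inv]
      refine ⟨(⟨t * ρ d⁻¹, (hC _).2 ?_⟩, ⟨d, (hC _).2 hxd⟩), ?_⟩
      · rw [map_mul, hxρ, map_inv, hxd, show x t = t * (t⁻¹ * x t) by group, hs,
          show t * (ρ d⁻¹ * ρ (ρ d)) * ρ (ρ d⁻¹) = t * ρ d⁻¹ * (ρ (ρ d) * ρ (ρ d⁻¹)) by group,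
          ← map_mul, ← map_mul, mul_inv_cancel, map_one, map_one, mul_one]
      · show t * ρ d⁻¹ * ρ d = t
        rw [mul_assoc, ← map_mul, inv_mul_cancel, map_one, mul_one]
  have hcard : Nat.card C = 8 := by
    have := Nat.card_eq_of_bijective _ hbij
    rw [Nat.card_prod, hT] at this
    nlinarith
  -- `C` is not commutative
  have hCna : ∃ a b : C, a * b ≠ b * a := by
    by_contra! hab
    apply hna
    refine ⟨⟨fun s t => ?_⟩⟩
    obtain ⟨⟨c, d⟩, rfl⟩ := hbij.2 s
    obtain ⟨⟨c', d'⟩, rfl⟩ := hbij.2 t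
    have h0 : ∀ a b : C, ⁅(a : T), (b : T)⁆ = 1 := fun a b =>
      commutatorElement_eq_one_iff_mul_comm.2 (congrArg Subtype.val (hab a b))
    apply commutatorElement_eq_one_iff_mul_comm.1
    show ⁅(c : T) * ρ d, (c' : T) * ρ d'⁆ = 1
    rw [comm_mul_left h hc, comm_mul_right h hc, comm_mul_right h hc, (comm_rho h hc _ _).1,
      (comm_rho h hc _ _).2, (comm_rho h hc _ _).2, (comm_rho h hc _ _).1]
    simp [h0]
  obtain ⟨g, hg4⟩ : ∃ g : C, g * g ≠ 1 := by
    by_contra! hh
    obtain ⟨a, b, hab⟩ := hCna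
    apply hab
    rw [← inv_eq_of_mul_eq_one_right (hh (a * b)), mul_inv_rev, inv_eq_of_mul_eq_one_right (hh b),
      inv_eq_of_mul_eq_one_right (hh a)]
  have hord : orderOf g = 4 := by
    have h8 : orderOf g ∣ 2 ^ 3 := by rw [show (2 : ℕ) ^ 3 = Nat.card C by rw [hcard]; norm_num]; exact orderOf_dvd_natCard g
    obtain ⟨k, hk, hke⟩ := (Nat.dvd_prime_pow Nat.prime_two).1 h8
    have h1 : orderOf g ≠ 8 := fun e => by
      obtain ⟨a, b, hab⟩ := hCna
      have htop : Subgroup.zpowers g = ⊤ := Subgroup.eq_top_of_card_eq _ (by rw [Nat.card_zpowers, e, hcard])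
      obtain ⟨i, rfl⟩ := Subgroup.mem_zpowers_iff.1 (htop ▸ Subgroup.mem_top a)
      obtain ⟨j, rfl⟩ := Subgroup.mem_zpowers_iff.1 (htop ▸ Subgroup.mem_top b)
      exact hab (by rw [← zpow_add, ← zpow_add, add_comm])
    have h2 : ¬ orderOf g ∣ 2 := fun e => hg4 (by rw [← pow_two]; exact orderOf_dvd_iff_pow_eq_one.1 e)
    interval_cases k <;> simp_all
  obtain ⟨a, b, -, hcases⟩ := Cfsg.Lib.CyclicMax.classify 3 le_rfl (S := C) (by rw [hcard]; norm_num)
    (Subgroup.zpowers g) (by infer_instance) (by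
      have := (Subgroup.zpowers g).card_mul_index
      rw [Nat.card_zpowers, hord, hcard] at this
      omega) hCna
  have key : ∀ {s : ℤ}, Cfsg.Lib.CyclicMax.TwoGen a b 2 (-1) s → (a : T) ^ 4 = 1 ∧
      ⁅(b : T), (a : T)⁆ = (a : T) * a ∧ ⁅(a : T), (b : T)⁆ = (a : T) * a ∧ (a : T) * a ≠ 1 := by
    intro s hg
    have h4 : (a : T) ^ 4 = 1 := by
      have := pow_orderOf_eq_one a
      rw [hg.ord] at this
      exact_mod_cast congrArg Subtype.val this
    have hb : (b : T) * a * (b : T)⁻¹ = (a : T)⁻¹ := by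
      simpa using congrArg Subtype.val hg.conj
    have hne : (a : T) * a ≠ 1 := fun e => by
      have h2 : orderOf a ∣ 2 := orderOf_dvd_of_pow_eq_one (Subtype.ext (by simpa [pow_two] using e))
      rw [hg.ord] at h2
      norm_num at h2
    have hsq : (a : T)⁻¹ * (a : T)⁻¹ = (a : T) * a := by
      rw [← mul_inv_rev]
      refine inv_eq_of_mul_eq_one_right ?_
      rw [← h4, pow_succ, pow_succ, pow_two]
      group
    have h1 : ⁅(b : T), (a : T)⁆ = (a : T) * a := by
      rw [commutatorElement_def, hb, hsq]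
    refine ⟨h4, h1, ?_, hne⟩
    rw [← commutatorElement_inv, h1, mul_inv_rev, hsq]
  obtain ⟨F, hFf, hFt, hF4⟩ : ∃ (F : Type) (_ : Field F) (_ : Fintype F), Fintype.card F = 4 :=
    ⟨GaloisField 2 2, inferInstance, Fintype.ofFinite _, by
      rw [Fintype.card_eq_nat_card, GaloisField.card 2 2 two_ne_zero]; norm_num⟩
  rcases hcases with hd | hq | ⟨h4, -⟩ | ⟨h4, -⟩
  · obtain ⟨-, hba, -, hne⟩ := key hd
    refine ⟨⟨F, hFf, hFt, hF4, ?_⟩, Or.inl ?_⟩
    · have hb2 : (b : T) * b = 1 := by simpa using congrArg Subtype.val hd.sq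
      refine exists_iso_sylow h hc hT (u := (b : T)) (v := (a : T) * b) hb2 ?_ ?_ hF4
      · have hconj : (b : T) * a * (b : T)⁻¹ = (a : T)⁻¹ := by simpa using congrArg Subtype.val hd.conj
        rw [inv_eq_of_mul_eq_one_right hb2] at hconj
        rw [show (a : T) * b * (a * b) = a * ((b : T) * a * b) by group, hconj, mul_inv_cancel]
      · rw [comm_mul_right h hc, commutatorElement_self, mul_one, hba]
        exact hne
    · simpa using Cfsg.Lib.CyclicMax.toDihedral hd (by norm_num)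
  · obtain ⟨h4, hba, hab, hne⟩ := key hq
    refine ⟨⟨F, hFf, hFt, hF4, ?_⟩, Or.inr ?_⟩
    · set z := (a : T) * a with hz
      have hb2 : (b : T) * b = z := by
        have := congrArg Subtype.val hq.sq
        simpa [hz, pow_two, zpow_two] using this
      have hz2 : z * z = 1 := by
        rw [hz, ← h4, pow_succ, pow_succ, pow_two]; group
      have hzc : ∀ t, t * z = z * t := fun t => by rw [← hab]; exact com _ _ t
      have hρa : ρ (a : T) * ρ a = ρ z := by rw [hz, map_mul]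
      have hρρa : ρ (ρ (a : T)) * ρ (ρ a) = ρ (ρ z) := by rw [hz, map_mul, map_mul]
      have hzr : ∀ t, t * ρ z = ρ z * t := fun t => by rw [← hab, map_commutatorElement]; exact com _ _ t
      have hzrr : ∀ t, t * ρ (ρ z) = ρ (ρ z) * t := fun t => by
        rw [← hab, map_commutatorElement, map_commutatorElement]; exact com _ _ t
      have hn := h.norm_eq z
      have sqprod : ∀ c : T, c * b * (c * b) = ⁅(b : T), c⁆ * (c * c) * (b * b) := fun c => by
        calc c * b * (c * b) = c * ⁅(b : T), c⁆ * c * b * b := by rw [commutatorElement_def]; group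
          _ = ⁅(b : T), c⁆ * (c * c) * (b * b) := by rw [com]; group
      have c1 : ⁅(b : T), ρ (a : T)⁆ = ρ (ρ z) := by rw [(comm_rho h hc _ _).1, hba]
      have c2 : ⁅(b : T), ρ (ρ (a : T))⁆ = ρ z := by rw [(comm_rho h hc _ _).1, c1, h.cube]
      refine exists_iso_sylow h hc hT (u := ρ (a : T) * b) (v := ρ (ρ (a : T)) * b) ?_ ?_ ?_ hF4
      · rw [sqprod, c1, hρa, hb2, ← hzrr (ρ z), hzc (ρ z * ρ (ρ z)), ← mul_assoc]
        exact hn
      · rw [sqprod, c2, hρρa, hb2, hzc (ρ z * ρ (ρ z)), ← mul_assoc]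
        exact hn
      · have d1 : ⁅ρ (a : T), ρ (ρ (a : T))⁆ = 1 :=
          commutatorElement_eq_one_iff_mul_comm.2 (h.commute_rho _)
        have d2 : ⁅ρ (a : T), (b : T)⁆ = ρ (ρ z) := by rw [(comm_rho h hc _ _).2, hab]
        rw [comm_mul_left h hc, comm_mul_right h hc, comm_mul_right h hc, d1, one_mul, d2, c2,
          commutatorElement_self, mul_one]
        intro e
        apply hne
        have e' : ρ z * ρ (ρ z) = 1 := (hzrr _).trans e
        rw [mul_assoc, e', mul_one] at hn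
        exact hn
    · simpa using Cfsg.Lib.CyclicMax.toQuaternion hq le_rfl
  · omega
  · omega

end Cfsg.Agent.S3157
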