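import Cfsg.Statements.S3158
import Mathlib

set_option autoImplicit false
open Cfsg

namespace Cfsg.Agent.S3158

/-- Let U be a group of order q² with q = 2^n ≥ 2, and y an automorphism of U of order q − 1 all of whose nontrivial powers fix only the identity. Let V be a proper normal y-invariant subgroup of U such that V and U/V are elementary abelian 2-groups and there is an isomorphism from V to U/V commuting with the actions of y. Then U is abelian. -/
theorem result {U : Type*} [Group U] [Finite U] (n : ℕ) (hn : 1 ≤ n) (hU : Nat.card U = (2 ^ n) ^ 2)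
    (y : MulAut U) (hy : orderOf y = 2 ^ n - 1) (hfp : ∀ k : ℕ, y ^ k ≠ 1 → ∀ u : U, (y ^ k) u = u → u = 1)
    (V : Subgroup U) [V.Normal] (hV : V ≠ ⊤) (hyV : ∀ v ∈ V, y v ∈ V)
    (hVe : ∀ v ∈ V, v ^ 2 = 1) (hQe : ∀ u : U, u ^ 2 ∈ V) (hQc : ∀ u w : U, u * w * u⁻¹ * w⁻¹ ∈ V)
    (φ : ↥V ≃* U ⧸ V) (hφ : ∀ (v : ↥V) (u : U), (QuotientGroup.mk u : U ⧸ V) = φ v → φ ⟨y v, hyV v v.2⟩ = QuotientGroup.mk (y u)) :
    IsMulCommutative U := by
  classical
  have : Fact (Nat.Prime 2) := ⟨Nat.prime_two⟩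
  let : Fintype U := Fintype.ofFinite U
  have hcV : Nat.card V = 2 ^ n := by
    have h1 := Subgroup.card_eq_card_quotient_mul_card_subgroup V
    rw [← Nat.card_congr φ.toEquiv, hU, ← pow_two] at h1
    exact (Nat.pow_left_injective two_ne_zero h1).symm
  let : MulAction (Subgroup.zpowers y) U := MulAction.compHom U (Subgroup.zpowers y).subtype
  -- `⟨y⟩` is transitive on `V \\ {1}`
  have hyk : ∀ (k : ℕ), ∀ v ∈ V, (y ^ k) v ∈ V := fun k => by
    induction k with
    | zero => intro v hv; simpa using hv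
    | succ k ih =>
      intro v hv
      rw [pow_succ', MulAut.mul_apply]
      exact hyV _ (ih v hv)
  have htrans : ∀ v ∈ V, ∀ w ∈ V, v ≠ 1 → w ≠ 1 → ∃ k : ℕ, (y ^ k) v = w := by
    intro v hv w hw hv1 hw1
    let f : Fin (2 ^ n - 1) → {u : V // u ≠ 1} := fun k =>
      ⟨⟨(y ^ (k : ℕ)) v, hyk k v hv⟩, fun e => hv1 ((y ^ (k : ℕ)).injective ((congrArg Subtype.val e).trans (map_one (y ^ (k : ℕ))).symm))⟩
    have hinj : Function.Injective f := by
      intro i j hij
      have e : (y ^ (i : ℕ)) v = (y ^ (j : ℕ)) v := congrArg (fun z : {u : V // u ≠ 1} => ((z : V) : U)) hij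
      have aux : ∀ a b : ℕ, a ≤ b → b < 2 ^ n - 1 → (y ^ a) v = (y ^ b) v → a = b := fun a b hab hb h => by
        obtain ⟨d, rfl⟩ := Nat.exists_eq_add_of_le hab
        rw [pow_add, MulAut.mul_apply] at h
        have h' : (y ^ d) v = v := ((y ^ a).injective h).symm
        by_contra hd
        refine hv1 (hfp d ?_ v h')
        intro h1
        have := Nat.le_of_dvd (by omega) (orderOf_dvd_of_pow_eq_one h1)
        omega
      rcases le_total (i : ℕ) j with h | h
      · exact Fin.ext (aux _ _ h j.2 e)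
      · exact Fin.ext (aux _ _ h i.2 e.symm).symm
    have hb := hinj.bijective_of_nat_card_le (by
      rw [Nat.card_fin, Nat.card_eq_fintype_card, Fintype.card_subtype_compl, Fintype.card_subtype_eq, ← Nat.card_eq_fintype_card, hcV])
    obtain ⟨k, hk⟩ := hb.2 ⟨⟨w, hw⟩, fun e => hw1 (congrArg Subtype.val e)⟩
    exact ⟨k, congrArg (fun z : {u : V // u ≠ 1} => ((z : V) : U)) hk⟩
  have hVn : Nontrivial V := Finite.one_lt_card_iff_nontrivial.1 (by rw [hcV]; exact Nat.one_lt_two_pow (by omega))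
  have hP : IsPGroup 2 U := IsPGroup.of_card (n := n * 2) (by rw [hU, ← pow_mul])
  have hVc : V ≤ Subgroup.center U := by
    have hne : V ⊓ Subgroup.center U ≠ ⊥ := by
      intro hbot
      let : MulAction (MulAut U) U := inferInstance
      let : MulAction U V := MulAction.compHom V (MulAut.conjNormal (H := V))
      have := hP.exists_fixed_point_of_prime_dvd_card_of_fixed_point V (by rw [hcV]; exact dvd_pow_self 2 (by omega))
        (a := (1 : V)) (fun g => Subtype.ext (by show g * 1 * g⁻¹ = 1; simp))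
      obtain ⟨b, hb, hb1⟩ := this
      refine hb1 (Subtype.ext ?_)
      have : (b : U) ∈ V ⊓ Subgroup.center U := ⟨b.2, Subgroup.mem_center_iff.2 fun g => by
        have := congrArg Subtype.val (hb g)
        change g * b * g⁻¹ = b at this
        exact mul_inv_eq_iff_eq_mul.1 this⟩
      rw [hbot, Subgroup.mem_bot] at this
      exact this.symm
    obtain ⟨⟨z, hzV, hzZ⟩, hz1⟩ := Subgroup.ne_bot_iff_exists_ne_one.1 hne
    intro w hw
    by_cases hw1 : w = 1
    · rw [hw1]; exact one_mem _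
    obtain ⟨k, rfl⟩ := htrans z hzV w hw (fun e => hz1 (Subtype.ext e)) hw1
    exact (Subgroup.centerCharacteristic.fixed (y ^ k)).ge hzZ
  -- squaring only depends on the class modulo `V`
  have hsq : ∀ u w : U, (QuotientGroup.mk u : U ⧸ V) = QuotientGroup.mk w → u ^ 2 = w ^ 2 := fun u w e => by
    have hc := Subgroup.mem_center_iff.1 (hVc (QuotientGroup.eq.1 e))
    have e2 : (u⁻¹ * w) ^ 2 = 1 := hVe _ (QuotientGroup.eq.1 e)
    have e3 : (u * (u⁻¹ * w)) ^ 2 = u ^ 2 := by rw [(show Commute u (u⁻¹ * w) from hc u).mul_pow, e2, mul_one]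
    rw [← e3, mul_inv_cancel_left]
  choose r hr using fun v : V => QuotientGroup.mk_surjective (φ v)
  let t : V → V := fun v => ⟨r v ^ 2, hQe _⟩
  have ht1 : t 1 = 1 := Subtype.ext (by
    show r 1 ^ 2 = 1
    rw [hsq (r 1) 1 (by rw [hr, map_one]; rfl), one_pow])
  let Y : V → V := fun v => ⟨y v, hyV v v.2⟩
  have hYk : ∀ (k : ℕ) (v : V), ((Y^[k] v : V) : U) = (y ^ k) v := fun k v => by
    induction k with
    | zero => rfl
    | succ k ih => rw [Function.iterate_succ_apply', pow_succ', MulAut.mul_apply, ← ih]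
  have hY : ∀ v : V, t (Y v) = Y (t v) := fun v => Subtype.ext (by
    show r (Y v) ^ 2 = y (r v ^ 2)
    rw [map_pow]
    exact hsq _ _ (by rw [hr, hφ v (r v) (hr v)]))
  have hYt : ∀ (k : ℕ) (v : V), t (Y^[k] v) = Y^[k] (t v) := fun k => by
    induction k with
    | zero => intro v; rfl
    | succ k ih => intro v; rw [Function.iterate_succ_apply', Function.iterate_succ_apply', hY, ih]
  obtain ⟨v₀, hv₀⟩ := exists_ne (1 : V)
  have hrep : ∀ v : V, v ≠ 1 → ∃ k, Y^[k] v₀ = v := fun v hv => by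
    obtain ⟨k, hk⟩ := htrans v₀ v₀.2 v v.2 (fun e => hv₀ (Subtype.ext e)) (fun e => hv (Subtype.ext e))
    exact ⟨k, Subtype.ext ((hYk k v₀).trans hk)⟩
  have hadd : ∀ v w : V, t (v * w) = t v * t w := by
    by_cases h0 : t v₀ = 1
    · have : ∀ v : V, t v = 1 := fun v => by
        by_cases hv : v = 1
        · rw [hv, ht1]
        obtain ⟨k, rfl⟩ := hrep v hv
        rw [hYt, h0]
        exact Subtype.ext ((hYk k 1).trans (map_one _))
      intro v w
      rw [this, this, this, one_mul]
    · obtain ⟨j, hj⟩ := hrep _ h0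
      have : ∀ v : V, t v = Y^[j] v := fun v => by
        by_cases hv : v = 1
        · rw [hv, ht1]; exact Subtype.ext ((hYk j 1).trans (map_one _)).symm
        obtain ⟨k, rfl⟩ := hrep v hv
        rw [hYt, ← hj, ← Function.iterate_add_apply, add_comm, Function.iterate_add_apply]
      intro v w
      rw [this, this, this]
      exact Subtype.ext (by rw [Subgroup.coe_mul, hYk, hYk, hYk, Subgroup.coe_mul, map_mul])
  refine ⟨⟨fun a b => ?_⟩⟩
  obtain ⟨va, hva⟩ := φ.surjective (QuotientGroup.mk a)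
  obtain ⟨vb, hvb⟩ := φ.surjective (QuotientGroup.mk b)
  have e := congrArg Subtype.val (hadd va vb)
  change r (va * vb) ^ 2 = r va ^ 2 * r vb ^ 2 at e
  rw [hsq _ (a * b) (by rw [hr, map_mul, hva, hvb]; rfl), hsq (r va) a (by rw [hr, hva]), hsq (r vb) b (by rw [hr, hvb]),
    pow_two, pow_two, pow_two] at e
  simp only [mul_assoc, mul_right_inj] at e
  rw [← mul_assoc, ← mul_assoc, mul_left_inj] at e
  exact e.symm

end Cfsg.Agent.S3158
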