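import Cfsg.Statements.S3163
import Mathlib

set_option autoImplicit false
open Cfsg

namespace Cfsg.Agent.S3163

/-- Let S be a non-abelian finite 2-group which is the product S = AB of two elementary abelian subgroups A and B, and suppose that the centralizer in S of every element of A outside B is exactly A. Then the centralizer of every element of B outside A is exactly B; A and B are maximal elementary abelian subgroups of S and the only ones; the centre of S is A ∩ B; and every element of S outside A ∪ B has centralizer of order at most min(|A|, |B|). -/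
theorem result {S : Type*} [Group S] [Finite S] (hS : IsPGroup 2 S) (hna : ¬ IsMulCommutative S) (A B : Subgroup S)
    (hA : Cfsg.IsElementaryAbelian 2 A) (hB : Cfsg.IsElementaryAbelian 2 B) (hAB : ∀ s : S, ∃ a ∈ A, ∃ b ∈ B, s = a * b)
    (hC : ∀ a ∈ A, a ∉ B → Subgroup.centralizer ({a} : Set S) = A) :
    (∀ b ∈ B, b ∉ A → Subgroup.centralizer ({b} : Set S) = B) ∧
      (∀ E : Subgroup S, Cfsg.IsElementaryAbelian 2 E → (∀ E' : Subgroup S, Cfsg.IsElementaryAbelian 2 E' → E ≤ E' → E' = E) → E = A ∨ E = B) ∧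
      (∀ E' : Subgroup S, Cfsg.IsElementaryAbelian 2 E' → A ≤ E' → E' = A) ∧ (∀ E' : Subgroup S, Cfsg.IsElementaryAbelian 2 E' → B ≤ E' → E' = B) ∧
      Subgroup.center S = A ⊓ B ∧
      (∀ x : S, x ∉ A → x ∉ B → Nat.card ↥(Subgroup.centralizer ({x} : Set S)) ≤ min (Nat.card ↥A) (Nat.card ↥B)) := by
  have hAc : ∀ x ∈ A, ∀ y ∈ A, x * y = y * x := fun x hx y hy =>
    congrArg Subtype.val (hA.1.is_comm.comm (⟨x, hx⟩ : A) ⟨y, hy⟩)
  have hBc : ∀ x ∈ B, ∀ y ∈ B, x * y = y * x := fun x hx y hy =>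
    congrArg Subtype.val (hB.1.is_comm.comm (⟨x, hx⟩ : B) ⟨y, hy⟩)
  have hinA : ∀ a ∈ A, a ∉ B → ∀ s : S, Commute s a → s ∈ A := fun a ha haB s hs => by
    rw [← hC a ha haB]; exact Subgroup.mem_centralizer_singleton_iff.2 hs.eq
  obtain ⟨a₀, ha₀, ha₀B⟩ : ∃ a ∈ A, a ∉ B := by
    by_contra h
    push Not at h
    refine hna ⟨⟨fun s t => ?_⟩⟩
    obtain ⟨a, ha, b, hb, rfl⟩ := hAB s
    obtain ⟨a', ha', b', hb', rfl⟩ := hAB t
    exact hBc _ (mul_mem (h a ha) hb) _ (mul_mem (h a' ha') hb')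
  obtain ⟨b₀, hb₀, hb₀A⟩ : ∃ b ∈ B, b ∉ A := by
    by_contra h
    push Not at h
    refine hna ⟨⟨fun s t => ?_⟩⟩
    obtain ⟨a, ha, b, hb, rfl⟩ := hAB s
    obtain ⟨a', ha', b', hb', rfl⟩ := hAB t
    exact hAc _ (mul_mem ha (h b hb)) _ (mul_mem ha' (h b' hb'))
  -- an element of `A` commuting with one of `B \ A` lies in `B`
  have hab : ∀ a ∈ A, ∀ b ∈ B, b ∉ A → Commute a b → a ∈ B := fun a ha b hb hbA h => by
    by_contra haB
    exact hbA (hinA a ha haB b h.symm)
  have hCB : ∀ b ∈ B, b ∉ A → Subgroup.centralizer ({b} : Set S) = B := by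
    intro b hb hbA
    refine le_antisymm (fun s hs => ?_) fun s hs => Subgroup.mem_centralizer_singleton_iff.2 (hBc s hs b hb)
    obtain ⟨a, ha, b', hb', rfl⟩ := hAB s
    refine mul_mem (hab a ha b hb hbA ?_) hb'
    have h : Commute (a * b') b := Subgroup.mem_centralizer_singleton_iff.1 hs
    have := h.mul_left ((show Commute b' b from hBc b' hb' b hb).inv_left)
    rwa [mul_inv_cancel_right] at this
  have h2 : ∀ x : S, x * x = 1 → x ∈ A ∨ x ∈ B := by
    intro x hx
    obtain ⟨a, ha, b, hb, rfl⟩ := hAB x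
    by_cases haB : a ∈ B
    · exact Or.inr (mul_mem haB hb)
    refine Or.inl (mul_mem ha (hinA a ha haB b ?_))
    have e1 : a * a = 1 := by simpa [pow_two] using hA.2 a ha
    have e2 : b * b = 1 := by simpa [pow_two] using hB.2 b hb
    calc b * a = (a * a) * (b * a) * (b * b) := by rw [e1, e2, one_mul, mul_one]
      _ = a * ((a * b) * (a * b)) * b := by group
      _ = a * b := by rw [hx, mul_one]
  have hsub : ∀ E : Subgroup S, Cfsg.IsElementaryAbelian 2 E → E ≤ A ∨ E ≤ B := by
    intro E hE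
    by_contra h
    push Not at h
    obtain ⟨e, he, heA⟩ := SetLike.not_le_iff_exists.1 h.1
    obtain ⟨f, hf, hfB⟩ := SetLike.not_le_iff_exists.1 h.2
    have hsq : ∀ g ∈ E, g * g = 1 := fun g hg => by simpa [pow_two] using hE.2 g hg
    have heB : e ∈ B := (h2 e (hsq e he)).resolve_left heA
    have hfA : f ∈ A := (h2 f (hsq f hf)).resolve_right hfB
    exact heA (hinA f hfA hfB e (congrArg Subtype.val (hE.1.is_comm.comm (⟨e, he⟩ : E) ⟨f, hf⟩)))
  have hmaxA : ∀ E' : Subgroup S, Cfsg.IsElementaryAbelian 2 E' → A ≤ E' → E' = A := fun E' hE' hle =>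
    (hsub E' hE').elim (fun h => le_antisymm h hle) fun h => absurd (h (hle ha₀)) ha₀B
  have hmaxB : ∀ E' : Subgroup S, Cfsg.IsElementaryAbelian 2 E' → B ≤ E' → E' = B := fun E' hE' hle =>
    (hsub E' hE').elim (fun h => absurd (h (hle hb₀)) hb₀A) fun h => le_antisymm h hle
  refine ⟨hCB, fun E hE hmax => ?_, hmaxA, hmaxB, ?_, ?_⟩
  · rcases hsub E hE with h | h
    · exact Or.inl (hmax A hA h).symm
    · exact Or.inr (hmax B hB h).symm
  · refine le_antisymm ?_ ?_
    · intro z hz
      refine ⟨hinA a₀ ha₀ ha₀B z (Subgroup.mem_center_iff.1 hz a₀).symm, ?_⟩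
      show z ∈ B
      rw [← hCB b₀ hb₀ hb₀A]
      exact Subgroup.mem_centralizer_singleton_iff.2 (Subgroup.mem_center_iff.1 hz b₀).symm
    · intro z hz
      refine Subgroup.mem_center_iff.2 fun s => ?_
      obtain ⟨a, ha, b, hb, rfl⟩ := hAB s
      exact (Commute.mul_left (hAc a ha z hz.1) (hBc b hb z hz.2)).eq
  · intro x hxA hxB
    set C := Subgroup.centralizer ({x} : Set S) with hC'
    obtain ⟨a, ha, b, hb, hx⟩ := hAB x
    have haB : a ∉ B := fun h => hxB (hx ▸ mul_mem h hb)
    have hbA : b ∉ A := fun h => hxA (hx ▸ mul_mem ha h)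
    have hCA : C ⊓ A ≤ A ⊓ B := fun c hc => ⟨hc.2, hab c hc.2 b hb hbA (by
      have h1 : Commute c (a * b) := hx ▸ Subgroup.mem_centralizer_singleton_iff.1 hc.1
      have := ((show Commute c a from hAc c hc.2 a ha).inv_right).mul_right h1
      rwa [inv_mul_cancel_left] at this)⟩
    have hCB' : C ⊓ B ≤ A ⊓ B := fun c hc => ⟨hinA a ha haB c (by
      have h1 : Commute c (a * b) := hx ▸ Subgroup.mem_centralizer_singleton_iff.1 hc.1
      have := h1.mul_right ((show Commute c b from hBc c hc.2 b hb).inv_right)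
      rwa [mul_inv_cancel_right] at this), hc.2⟩
    -- counting
    have gen : ∀ X Y : Subgroup S, (∀ s : S, ∃ u ∈ X, ∃ v ∈ Y, s = u * v) → C ⊓ Y ≤ X ⊓ Y → Nat.card C ≤ Nat.card X := by
      intro X Y hXY hle
      have h1 : Y.relIndex C ≤ Y.relIndex X := by
        refine (Subgroup.relIndex_le_of_le_right le_top (by rw [Subgroup.relIndex_top_right]; exact Subgroup.index_ne_zero_of_finite)).trans ?_
        rw [Subgroup.relIndex_top_right, Subgroup.index, Subgroup.relIndex, Subgroup.index]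
        refine Nat.card_le_card_of_surjective (Quotient.map' (fun u : X => (u : S)) fun u v huv =>
          QuotientGroup.leftRel_apply.2 (by have h0 := QuotientGroup.leftRel_apply.1 huv; exact h0)) fun q => ?_
        induction q using Quotient.inductionOn'
        rename_i s
        obtain ⟨u, hu, v, hv, rfl⟩ := hXY s
        exact ⟨Quotient.mk'' ⟨u, hu⟩, Quotient.sound' (QuotientGroup.leftRel_apply.2 (by
          show u⁻¹ * (u * v) ∈ Y
          rw [inv_mul_cancel_left]; exact hv))⟩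
      rw [← (Y.subgroupOf C).card_mul_index, ← (Y.subgroupOf X).card_mul_index]
      refine Nat.mul_le_mul ?_ h1
      have e : ∀ Z : Subgroup S, Nat.card (Y.subgroupOf Z) = Nat.card ↥(Z ⊓ Y) := fun Z =>
        Nat.card_congr
          { toFun := fun u => ⟨u.1, u.1.2, u.2⟩
            invFun := fun u => ⟨⟨u.1, u.2.1⟩, u.2.2⟩
            left_inv := fun u => rfl
            right_inv := fun u => rfl }
      rw [e, e]
      exact Nat.card_le_card_of_injective _ (Subgroup.inclusion_injective hle)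
    refine le_min (gen A B hAB hCB') (gen B A (fun s => ?_) (hCA.trans (inf_comm A B).le))
    obtain ⟨u, hu, v, hv, he⟩ := hAB s⁻¹
    exact ⟨v⁻¹, inv_mem hv, u⁻¹, inv_mem hu, by rw [← mul_inv_rev, ← he, inv_inv]⟩

end Cfsg.Agent.S3163
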