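import Cfsg.Statements.S3166
import Mathlib

set_option autoImplicit false
open Cfsg

namespace Cfsg.Agent.S3166

/-- Let q = 2^n with n ≥ 1. If q⁴ − q³ + q² − q + 1 is a power p^m of a prime p, then m = 1: the value is never a prime power with exponent greater than 1. -/
theorem result (n p m : ℕ) (hn : 1 ≤ n) (hp : p.Prime) (h : (2 ^ n) ^ 4 - (2 ^ n) ^ 3 + (2 ^ n) ^ 2 - 2 ^ n + 1 = p ^ m) : m = 1 := by
  set q := 2 ^ n with hqdef
  have hq : 2 ≤ q := by
    calc 2 = 2 ^ 1 := rfl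
      _ ≤ q := Nat.pow_le_pow_right (by norm_num) hn
  have l1 : q ^ 3 ≤ q ^ 4 := Nat.pow_le_pow_right (by omega) (by norm_num)
  have l2 : q ≤ q ^ 2 := by simpa using Nat.pow_le_pow_right (show 0 < q by omega) (show 1 ≤ 2 by norm_num)
  have hV : p ^ m + q ^ 3 + q = q ^ 4 + q ^ 2 + 1 := by omega
  rcases Nat.even_or_odd m with ⟨k, hk⟩ | ⟨k, hk⟩
  · exfalso
    set w := p ^ k with hw
    rw [hk, pow_add, ← hw] at hV
    have hV' : (w : ℤ) * w + q ^ 3 + q = q ^ 4 + q ^ 2 + 1 := by exact_mod_cast hV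
    have hq' : (2 : ℤ) ≤ q := by exact_mod_cast hq
    have hlo : 2 * (q : ℤ) ^ 2 - q < 2 * w := by nlinarith
    have hhi : 2 * (w : ℤ) < 2 * (q : ℤ) ^ 2 - q + 1 := by nlinarith
    omega
  rcases Nat.eq_zero_or_pos k with rfl | hk0
  · simpa using hk
  exfalso
  have h2q : 2 ∣ q := dvd_pow_self 2 (by omega)
  have hpodd : ¬ 2 ∣ p := fun h2 => by
    have h3 : 2 ∣ p ^ m := dvd_pow h2 (by omega)
    have : 2 ∣ q ^ 4 := dvd_pow h2q (by norm_num)
    have : 2 ∣ q ^ 3 := dvd_pow h2q (by norm_num)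
    have : 2 ∣ q ^ 2 := dvd_pow h2q (by norm_num)
    omega
  have hp2 : 2 ≤ p := hp.two_le
  -- `q` divides `p - 1`
  have hqp : q ∣ p - 1 := by
    have hS := Nat.geomSum_eq (m := p) hp2 m
    obtain ⟨c, hc⟩ : p - 1 ∣ p ^ m - 1 := by
      have := Nat.pow_sub_one_gcd_pow_sub_one p 1 m
      rw [Nat.gcd_eq_left (one_dvd m), pow_one] at this
      exact this ▸ Nat.gcd_dvd_right _ _
    rw [hc, Nat.mul_div_cancel_left _ (by omega)] at hS
    have hodd : ¬ 2 ∣ c := by
      rw [← hS, ← ZMod.natCast_eq_zero_iff, Nat.cast_sum]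
      have hp1 : (p : ZMod 2) = 1 := by
        rw [← ZMod.natCast_mod, show p % 2 = 1 by omega, Nat.cast_one]
      simp only [Nat.cast_pow, hp1, one_pow, Finset.sum_const, Finset.card_range, nsmul_one]
      rw [ZMod.natCast_eq_zero_iff]; omega
    refine (Nat.Coprime.pow_left n (Nat.prime_two.coprime_iff_not_dvd.2 hodd)).dvd_of_dvd_mul_right ?_
    rw [← hc]
    refine ⟨q ^ 3 + q - q ^ 2 - 1, ?_⟩
    show p ^ m - 1 = q * _
    have l3 : q ^ 2 ≤ q ^ 3 := Nat.pow_le_pow_right (by omega) (by norm_num)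
    rw [Nat.mul_sub, Nat.mul_sub, mul_add, mul_one, ← pow_succ', ← pow_succ', ← pow_two]
    norm_num
    omega
  obtain ⟨a, ha⟩ := hqp
  have ha1 : 1 ≤ a := Nat.one_le_iff_ne_zero.2 fun h0 => by rw [h0, mul_zero] at ha; omega
  have hp' : p = q * a + 1 := by omega
  have hm3 : m = 3 := by
    by_contra hne
    have h5 : p ^ 5 ≤ p ^ m := Nat.pow_le_pow_right (by omega) (by omega)
    have h6 : (q + 1) ^ 5 ≤ p ^ 5 := Nat.pow_le_pow_left (by rw [hp']; nlinarith) _
    have h7 : q ^ 4 + q ^ 2 + 1 < (q + 1) ^ 5 := by nlinarith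
    omega
  rw [hm3, hp'] at hV
  have h9 : a * (3 + 3 * a * q + a * a * q * q) + q * q + 1 = q * q * q + q := by
    apply Nat.eq_of_mul_eq_mul_left (show 0 < q by omega)
    linarith
  have hlt : a * a * a < q := by
    by_contra hh
    push Not at hh
    nlinarith [Nat.mul_le_mul_right (q * q) hh]
  have hdvd : q ∣ 3 * a + 1 := by
    have h10 : q ∣ q * q * q + q := ⟨q * q + 1, by ring⟩
    rw [← h9, show a * (3 + 3 * a * q + a * a * q * q) + q * q + 1 = q * (3 * a * a + a * a * a * q + q) + (3 * a + 1) by ring] at h10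
    exact (Nat.dvd_add_right (dvd_mul_right _ _)).1 h10
  have hle := Nat.le_of_dvd (by omega) hdvd
  have haa : a = 1 := by
    by_contra hne
    have : 4 ≤ a * a := Nat.mul_le_mul (show 2 ≤ a by omega) (show 2 ≤ a by omega)
    nlinarith
  subst haa
  norm_num at hle h9
  interval_cases q <;> omega

end Cfsg.Agent.S3166
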