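import Cfsg.Statements.S3174
import Cfsg.Agent.Classical.TwoGroups.UpperFourMain

set_option autoImplicit false
open Cfsg

namespace Cfsg.Agent.S3174

/-- Let T be a finite 2-group of order at least 2^14 in which the fourth term of the upper central series has order 16. Let W be the centralizer in T of the third term Z₃(T), and suppose the Frattini subgroup of W has order at most 8 and lies in every subgroup of W of index at most 16. Then T has order exactly 2^14; the derived subgroup of W and the Frattini subgroup of W both equal Z₃(T), which is elementary abelian of order 8; the centre of W has order 8; W is normal in T with quotient dihedral of order 8; and W modulo its derived subgroup is elementary abelian of order 2^8. -/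
theorem result {T : Type*} [Group T] [Finite T]
    (hT : IsPGroup 2 T) (ha : 2 ^ 14 ≤ Nat.card T) (hb : Nat.card ↥(Subgroup.upperCentralSeries T 4) = 16)
    (W : Subgroup T) (hW : W = Subgroup.centralizer ((Subgroup.upperCentralSeries T 3 : Subgroup T) : Set T))
    (hc : Nat.card ↥(frattini ↥W) ≤ 8) (hd : ∀ U : Subgroup ↥W, U.index ≤ 16 → frattini ↥W ≤ U) :
    Nat.card T = 2 ^ 14 ∧
      (commutator ↥W).map W.subtype = Subgroup.upperCentralSeries T 3 ∧
      (frattini ↥W).map W.subtype = Subgroup.upperCentralSeries T 3 ∧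
      Nat.card ↥(Subgroup.center ↥W) = 8 ∧
      Nat.card ↥(Subgroup.upperCentralSeries T 3) = 8 ∧ (∀ z ∈ Subgroup.upperCentralSeries T 3, z ^ 2 = 1) ∧
      (∃ (_ : W.Normal), Nonempty (T ⧸ W ≃* DihedralGroup 4)) ∧
      Nat.card (↥W ⧸ commutator ↥W) = 2 ^ 8 ∧ (∀ x : ↥W ⧸ commutator ↥W, x ^ 2 = 1) := by
  obtain S : Cfsg.Lib.Classical.TwoGroups.Setup W := ⟨hT, ha, hb, hW, hc, hd⟩
  haveI := S.normal
  obtain ⟨z₁, z₂, z₃, B⟩ := S.exists_Flag
  obtain ⟨hT', -, hphi, hW', -⟩ := S.sharp
  refine ⟨hT', S.commutator_eq_frattini ▸ hphi, hphi, ?_, S.card_Z (i := 3) (by norm_num),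
    fun z hz => S.sq_eq_one hz, ⟨inferInstance, S.dihedral_quotient B⟩, ?_, ?_⟩
  · rw [← Subgroup.card_map_of_injective W.subtype_injective, S.center_eq, S.card_Z (by norm_num)]
    rfl
  · have h := Subgroup.card_eq_card_quotient_mul_card_subgroup (commutator ↥W)
    have h2 : Nat.card ↥(commutator ↥W) = 2 ^ 3 := by
      rw [← Subgroup.card_map_of_injective W.subtype_injective, S.commutator_eq_frattini]
      exact (congrArg (fun P : Subgroup T => Nat.card P) hphi).trans (S.card_Z (by norm_num))
    rw [h2, hW'] at h
    omega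
  · intro x
    obtain ⟨w, rfl⟩ := QuotientGroup.mk'_surjective _ x
    rw [← map_pow, QuotientGroup.mk'_apply, QuotientGroup.eq_one_iff, S.commutator_eq_frattini]
    exact Cfsg.Lib.PGroups.pow_mem_frattini (hT.to_subgroup W) w

end Cfsg.Agent.S3174
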