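import Cfsg.Statements.S3175
import Cfsg.Agent.Classical.TwoGroups.UpperFourAut
import Cfsg.Agent.Coprime.Sylow
import Cfsg.Agent.Transfer.Basic

set_option autoImplicit false
open Cfsg

namespace Cfsg.Agent.S3175

/-- Let G be a finite group whose Sylow 2-subgroup T has order at least 2^14 and whose upper central series has fourth term of order 16; let W be the centralizer in T of the third term, and suppose the Frattini subgroup of W has order at most 8 and lies in every subgroup of W of index at most 16. Then the normalizer of T in G has a normal 2-complement, and W is weakly closed in T with respect to G. -/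
theorem result {G : Type*} [Group G] [Finite G]
    (T : Sylow 2 G) (ha : 2 ^ 14 ≤ Nat.card ↥(T : Subgroup G))
    (hb : Nat.card ↥(Subgroup.upperCentralSeries ↥(T : Subgroup G) 4) = 16)
    (W : Subgroup ↥(T : Subgroup G))
    (hW : W = Subgroup.centralizer ((Subgroup.upperCentralSeries ↥(T : Subgroup G) 3 : Subgroup ↥(T : Subgroup G)) : Set ↥(T : Subgroup G)))
    (hc : Nat.card ↥(frattini ↥W) ≤ 8)
    (hd : ∀ U : Subgroup ↥W, U.index ≤ 16 → frattini ↥W ≤ U) :
    Cfsg.HasNormalPComplement 2 ↥(Subgroup.normalizer ((T : Subgroup G) : Set G)) ∧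
      Cfsg.IsWeaklyClosed (W.map (T : Subgroup G).subtype) (T : Subgroup G) := by
  obtain S : Cfsg.Lib.Classical.TwoGroups.Setup W := ⟨T.2, ha, hb, hW, hc, hd⟩
  haveI : Fact (Nat.Prime 2) := ⟨Nat.prime_two⟩
  refine ⟨?_, Subgroup.map_subtype_le _, fun g hg => ?_⟩
  · let N : Subgroup G := Subgroup.normalizer ((T : Subgroup G) : Set G)
    let P : Sylow 2 N := T.subtype Subgroup.le_normalizer
    haveI hPn : (P : Subgroup N).Normal := Subgroup.normal_in_normalizer
    have hidx : ¬ 2 ∣ (P : Subgroup N).index := P.not_dvd_index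
    have hcop : (Nat.card (P : Subgroup N)).Coprime (P : Subgroup N).index := by
      obtain ⟨k, hk⟩ := IsPGroup.iff_card.1 P.2
      rw [hk]
      exact ((Nat.prime_two.coprime_iff_not_dvd).2 hidx).pow_left k
    obtain ⟨K, hK⟩ := Subgroup.exists_right_complement'_of_coprime hcop
    have hKc : (Nat.card K).Coprime 2 := by
      rw [← hK.symm.index_eq_card]
      exact ((Nat.prime_two.coprime_iff_not_dvd).2 hidx).symm
    have hcent : ∀ a ∈ K, ∀ t ∈ (T : Subgroup G), (a : G) * t = t * a := by
      intro a haK t ht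
      have hodd : (orderOf (a : G)).Coprime 2 := by
        rw [Subgroup.orderOf_coe]
        refine Nat.Coprime.coprime_dvd_left ?_ hKc
        rw [← Subgroup.orderOf_mk a haK]
        exact orderOf_dvd_natCard _
      obtain ⟨m, hm⟩ : Odd (orderOf (a : G)) := Nat.coprime_two_right.1 hodd
      have hφ : ((T : Subgroup G).normalizerMonoidHom a) ^ (2 * m + 1) = 1 := by
        rw [← map_pow, ← hm, Subgroup.orderOf_coe, pow_orderOf_eq_one, map_one]
      have h := Cfsg.Lib.Coprime.le_centralizer_of_frattini (A := Subgroup.zpowers (a : G)) (K := (T : Subgroup G))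
        (Subgroup.zpowers_le.2 a.2) (by
          obtain ⟨k, hk⟩ := IsPGroup.iff_card.1 (T.2.to_subgroup (frattini ↥(T : Subgroup G)))
          rw [hk, Nat.card_zpowers]
          exact hodd.pow_right k) (fun b hb' k hk => ?_)
      · exact (Subgroup.mem_centralizer_iff.1 (h (Subgroup.mem_zpowers _)) t ht).symm
      have hbN : b ∈ N := Subgroup.zpowers_le.2 a.2 hb'
      have hb1 : ((T : Subgroup G).normalizerMonoidHom ⟨b, hbN⟩) ^ (2 * m + 1) = 1 := by
        rw [← map_pow]
        refine (congrArg _ (Subtype.ext ?_)).trans (map_one _)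
        obtain ⟨i, rfl⟩ := Subgroup.mem_zpowers_iff.1 hb'
        rw [Subgroup.coe_pow, ← zpow_natCast, ← zpow_mul, mul_comm, zpow_mul, zpow_natCast, ← hm,
          pow_orderOf_eq_one, one_zpow]
        rfl
      refine ⟨_, (inferInstance : (frattini ↥(T : Subgroup G)).Normal).mem_comm_iff.1
        (S.aut_mod_frattini _ hb1 ⟨k, hk⟩), rfl⟩
    haveI : K.Normal := by
      rw [← Subgroup.normalizer_eq_top_iff, eq_top_iff, ← hK.sup_eq_top]
      refine sup_le (fun t ht => ?_) Subgroup.le_normalizer
      rw [Subgroup.mem_normalizer_iff]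
      intro a
      have ht' : (t : G) ∈ (T : Subgroup G) := ht
      constructor
      · intro haK
        rwa [show t * a * t⁻¹ = a from Subtype.ext (by
          rw [Subgroup.coe_mul, Subgroup.coe_mul, ← hcent a haK t ht', Subgroup.coe_inv, mul_inv_cancel_right])]
      · intro haK
        have e : t * (t * a * t⁻¹) = t * a * t⁻¹ * t := Subtype.ext (hcent _ haK t ht').symm
        rw [inv_mul_cancel_right, mul_left_cancel_iff] at e
        rwa [← e]
    obtain ⟨k, hk⟩ := IsPGroup.iff_card.1 P.2
    exact (Cfsg.Lib.Transfer.hasNormalPComplement_iff).2 ⟨K, inferInstance, hKc, k, by rw [hK.index_eq_card, hk]⟩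
  · let f : ↥W →* ↥(T : Subgroup G) :=
      { toFun := fun w => ⟨MulAut.conj g ((w : ↥(T : Subgroup G)) : G), hg ⟨_, ⟨_, w.2, rfl⟩, rfl⟩⟩
        map_one' := Subtype.ext (by simp)
        map_mul' := fun u v => Subtype.ext (by simp) }
    have hr := S.range_eq f fun u v h => Subtype.ext (Subtype.ext ((MulAut.conj g).injective (congrArg Subtype.val h)))
    conv_rhs => rw [← hr]
    rw [Subgroup.map_map, MonoidHom.map_range]
    ext y
    constructor
    · rintro ⟨w, hw, rfl⟩
      exact ⟨⟨w, hw⟩, rfl⟩
    · rintro ⟨w, rfl⟩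
      exact ⟨w, w.2, rfl⟩

end Cfsg.Agent.S3175
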