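import Cfsg.Statements.S3178
import Mathlib
import Cfsg.Agent.S0071

set_option autoImplicit false
open Cfsg
open scoped Pointwise

namespace Cfsg.Agent.S3178

variable {G : Type*} [Group G]

theorem commute_of_pow_two_pow {g x : G} (hg : Odd (orderOf g)) (k : ℕ) (h : Commute (g ^ (2 ^ k)) x) : Commute g x := by
  obtain ⟨m, hm⟩ := exists_pow_eq_self_of_coprime (x := g) (n := 2 ^ k) ((Nat.coprime_two_left.2 hg).pow_left k)
  rw [← hm]
  exact h.pow_left m

theorem commute_of_conj {g x : G} (h : g * x * g⁻¹ = x) : Commute g x := by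
  rw [mul_inv_eq_iff_eq_mul] at h
  exact h

/-- Relations in the modular group. -/
theorem structure_facts (S : Subgroup G) (n : ℕ) (hn : 3 ≤ n) (hS : Nat.card S = 2 ^ (n + 1))
    (a b : G) (ha : a ∈ S) (hb : b ∈ S)
    (hao : orderOf a = 2 ^ n) (hbo : orderOf b = 2) (hrel : b * a * b⁻¹ = a ^ (2 ^ (n - 1) + 1)) :
    ∃ z : G, z ∈ S ∧ z ≠ 1 ∧ z * z = 1 ∧ z ≠ b ∧ b * (a * a) = a * a * b ∧
      (∀ x ∈ S, x * x = 1 → x = 1 ∨ x = z ∨ x = b ∨ x = z * b) ∧
      (∀ x ∈ S, x * x ≠ 1 → x ^ (orderOf x / 2) = z) ∧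
      (∀ x ∈ S, ∀ y ∈ S, x * x = y * y → (x ∈ Subgroup.zpowers a ↔ y ∈ Subgroup.zpowers a) → x = y ∨ x = y * z) := by
  obtain ⟨m, rfl⟩ : ∃ m, n = m + 3 := ⟨n - 3, by omega⟩
  rw [show m + 3 - 1 = m + 2 by omega] at hrel
  set z := a ^ (2 ^ (m + 2)) with hz
  have hz2 : z * z = 1 := by
    rw [hz, ← pow_add, ← two_mul, ← pow_succ', ← hao, pow_orderOf_eq_one]
  have hz1 : z ≠ 1 := fun h => by
    have := Nat.le_of_dvd (by positivity) (orderOf_dvd_of_pow_eq_one h)
    rw [hao] at this
    exact absurd this (not_le.2 (Nat.pow_lt_pow_right (by norm_num) (by omega)))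
  have hbb : b * b = 1 := by rw [← sq, ← hbo, pow_orderOf_eq_one]
  have hbi : b⁻¹ = b := inv_eq_of_mul_eq_one_right hbb
  have hbnA : b ∉ Subgroup.zpowers a := fun ⟨i, hi⟩ => hz1 (by
    have hc : b * a * b⁻¹ = a := by
      have hi' : a ^ i = b := hi
      rw [← hi', ← zpow_neg, ← zpow_add_one, ← zpow_add]; simp
    rw [hc, pow_succ, eq_comm] at hrel
    exact mul_eq_right.1 hrel)
  have hzA : z ∈ Subgroup.zpowers a := Subgroup.pow_mem _ (Subgroup.mem_zpowers a) _
  have hAS : Subgroup.zpowers a ≤ S := Subgroup.zpowers_le.2 ha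
  have hidx : (Subgroup.zpowers a).relIndex S = 2 := by
    have h := ((Subgroup.zpowers a).subgroupOf S).card_mul_index
    rw [Nat.card_congr (Subgroup.subgroupOfEquivOfLe hAS).toEquiv, Nat.card_zpowers, hao, hS] at h
    exact Nat.eq_of_mul_eq_mul_left (by positivity) (h.trans (pow_succ 2 _))
  have hcoset : ∀ x ∈ S, x ∉ Subgroup.zpowers a → x * b ∈ Subgroup.zpowers a := fun x hx hxA => by
    have := Subgroup.mul_mem_iff_of_index_two (H := (Subgroup.zpowers a).subgroupOf S) hidx (a := ⟨x, hx⟩) (b := ⟨b, hb⟩)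
    rw [Subgroup.mem_subgroupOf, Subgroup.mem_subgroupOf, Subgroup.mem_subgroupOf] at this
    exact this.2 (iff_of_false hxA hbnA)
  have hsq : ∀ i : ℤ, (a ^ i * b) * (a ^ i * b) = a ^ (((2 : ℤ) ^ (m + 2) + 2) * i) := fun i => by
    have h1 : b * a ^ i * b⁻¹ = (a ^ (2 ^ (m + 2) + 1)) ^ i := by rw [← conj_zpow, hrel]
    rw [hbi] at h1
    calc (a ^ i * b) * (a ^ i * b) = a ^ i * (b * a ^ i * b) := by group
      _ = _ := by
        rw [h1, ← zpow_natCast, ← zpow_mul, ← zpow_add]
        congr 1; push_cast; ring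
  have hkey : ∀ d : ℤ, (2 : ℤ) ^ (m + 3) ∣ 2 * d → a ^ d = 1 ∨ a ^ d = z := fun d hd => by
    rw [pow_succ'] at hd
    obtain ⟨t, rfl⟩ := (mul_dvd_mul_iff_left (by norm_num : (2 : ℤ) ≠ 0)).1 hd
    rw [zpow_mul, show a ^ ((2 : ℤ) ^ (m + 2)) = z by rw [hz, ← zpow_natCast]; norm_num]
    rcases Int.even_or_odd' t with ⟨s, rfl | rfl⟩
    · left; rw [zpow_mul, zpow_two, hz2, one_zpow]
    · right; rw [zpow_add, zpow_mul, zpow_two, hz2, one_zpow, one_mul, zpow_one]
  have hsame : ∀ x ∈ S, ∀ y ∈ S, x * x = y * y → (x ∈ Subgroup.zpowers a ↔ y ∈ Subgroup.zpowers a) → x = y ∨ x = y * z := by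
    intro x hx y hy hxy hiff
    by_cases hxA : x ∈ Subgroup.zpowers a
    · obtain ⟨i, rfl⟩ := hxA
      obtain ⟨j, rfl⟩ := hiff.1 (Subgroup.zpow_mem_zpowers a i)
      simp only [← zpow_add] at hxy
      have h : a ^ (2 * (i - j)) = 1 := by
        rw [show 2 * (i - j) = (i + i) - (j + j) by ring, zpow_sub, hxy, mul_inv_cancel]
      have hd := orderOf_dvd_iff_zpow_eq_one.2 h
      rw [hao] at hd
      push_cast at hd
      rcases hkey _ hd with h' | h'
      · left; show a ^ i = a ^ j; rwa [zpow_sub, mul_inv_eq_one] at h'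
      · right; show a ^ i = a ^ j * z; rw [← h', ← zpow_add, add_sub_cancel]
    · obtain ⟨i, hi⟩ := hcoset x hx hxA
      obtain ⟨j, hj⟩ := hcoset y hy (fun h => hxA (hiff.2 h))
      have hx' : x = a ^ i * b := by rw [show a ^ i = x * b from hi, mul_assoc, hbb, mul_one]
      have hy' : y = a ^ j * b := by rw [show a ^ j = y * b from hj, mul_assoc, hbb, mul_one]
      rw [hx', hy', hsq, hsq] at hxy
      have h : a ^ (((2 : ℤ) ^ (m + 2) + 2) * (i - j)) = 1 := by
        rw [mul_sub, zpow_sub, hxy, mul_inv_cancel]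
      have hd := orderOf_dvd_iff_zpow_eq_one.2 h
      rw [hao] at hd
      push_cast at hd
      rw [show ((2 : ℤ) ^ (m + 2) + 2) * (i - j) = (2 ^ (m + 1) + 1) * (2 * (i - j)) by ring] at hd
      have hcop : IsCoprime ((2 : ℤ) ^ (m + 3)) (2 ^ (m + 1) + 1) :=
        IsCoprime.pow_left ⟨-(2 ^ m), 1, by ring⟩
      have hbz : b * z = z * b := by
        have h1 : b * z * b⁻¹ = (a ^ (2 ^ (m + 2) + 1)) ^ (2 ^ (m + 2)) := by rw [hz, ← conj_pow, hrel]
        rw [← pow_mul, Nat.add_mul, one_mul, pow_add, pow_mul, ← hz,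
          show 2 ^ (m + 2) = 2 * 2 ^ (m + 1) from pow_succ' 2 (m + 1), pow_mul, sq, hz2, one_pow, one_mul,
          mul_inv_eq_iff_eq_mul] at h1
        exact h1
      rcases hkey _ (hcop.dvd_of_dvd_mul_left hd) with h' | h'
      · left; rw [zpow_sub, mul_inv_eq_one] at h'; rw [hx', hy', h']
      · right; rw [hx', hy', mul_assoc, hbz, ← mul_assoc, ← h', ← zpow_add, add_sub_cancel]
  have hba : b * (a * a) = a * a * b := by
    have h1 : b * (a ^ (2 : ℤ)) * b⁻¹ = (a ^ (2 ^ (m + 2) + 1)) ^ (2 : ℤ) := by rw [← conj_zpow, hrel]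
    rw [← zpow_natCast, ← zpow_mul] at h1
    push_cast at h1
    rw [show ((2 : ℤ) ^ (m + 2) + 1) * 2 = 2 ^ (m + 3) + 2 by ring, zpow_add,
      show a ^ ((2 : ℤ) ^ (m + 3)) = 1 by
        rw [show (2 : ℤ) ^ (m + 3) = ((orderOf a : ℕ) : ℤ) by rw [hao]; push_cast; rfl, zpow_natCast, pow_orderOf_eq_one],
      one_mul, mul_inv_eq_iff_eq_mul, zpow_two] at h1
    exact h1
  refine ⟨z, hAS hzA, hz1, hz2, fun h => hbnA (h ▸ hzA), hba, ?_, ?_, hsame⟩
  · intro x hx hx2
    by_cases hxA : x ∈ Subgroup.zpowers a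
    · rcases hsame x hx 1 (one_mem _) (by rw [hx2, one_mul]) (iff_of_true hxA (one_mem _)) with h | h
      · exact Or.inl h
      · exact Or.inr (Or.inl (by rw [h, one_mul]))
    · rcases hsame x hx b hb (by rw [hx2, hbb]) (iff_of_false hxA hbnA) with h | h
      · exact Or.inr (Or.inr (Or.inl h))
      · refine Or.inr (Or.inr (Or.inr ?_))
        have hzb2 : (z * b) * (z * b) = b * b := by
          have h1 := hsq ((2 : ℤ) ^ (m + 2))
          rw [show a ^ ((2 : ℤ) ^ (m + 2)) = z by rw [hz, ← zpow_natCast]; norm_num] at h1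
          rw [h1, hbb, ← orderOf_dvd_iff_zpow_eq_one, hao]
          push_cast
          exact ⟨2 ^ (m + 1) + 1, by ring⟩
        have hzbA : z * b ∉ Subgroup.zpowers a := fun h1 =>
          hbnA (by simpa using (Subgroup.zpowers a).mul_mem ((Subgroup.zpowers a).inv_mem hzA) h1)
        rcases hsame (z * b) (S.mul_mem (hAS hzA) hb) b hb hzb2 (iff_of_false hzbA hbnA) with h' | h'
        · exact absurd (mul_eq_right.1 h') hz1
        · rw [h, h']
  · intro x hx hx2
    obtain ⟨k, hk, hkx⟩ := (Nat.dvd_prime_pow Nat.prime_two).1 (hS ▸ Subgroup.orderOf_dvd_natCard S hx)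
    obtain ⟨j, rfl⟩ : ∃ j, k = j + 2 := ⟨k - 2, by
      by_contra h
      apply hx2
      rw [← sq, ← orderOf_dvd_iff_pow_eq_one, hkx]
      exact pow_dvd_pow 2 (show k ≤ 1 by omega)⟩
    have hxx : x * x ∈ Subgroup.zpowers a := by
      by_cases hxA : x ∈ Subgroup.zpowers a
      · exact Subgroup.mul_mem _ hxA hxA
      · obtain ⟨i, hi⟩ := hcoset x hx hxA
        rw [show x = a ^ i * b by rw [show a ^ i = x * b from hi, mul_assoc, hbb, mul_one], hsq]
        exact Subgroup.zpow_mem_zpowers a _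
    rw [hkx, show 2 ^ (j + 2) / 2 = 2 ^ (j + 1) from by rw [pow_succ]; omega]
    have hwA : x ^ (2 ^ (j + 1)) ∈ Subgroup.zpowers a := by
      rw [pow_succ', pow_mul, sq]; exact Subgroup.pow_mem _ hxx _
    rcases hsame _ (hAS hwA) 1 (one_mem _) (by rw [one_mul, ← pow_add, ← two_mul, ← pow_succ', ← hkx, pow_orderOf_eq_one])
      (iff_of_true hwA (one_mem _)) with h | h
    · exfalso
      have := Nat.le_of_dvd (by positivity) (orderOf_dvd_of_pow_eq_one h)
      rw [hkx] at this
      exact absurd this (not_le.2 (Nat.pow_lt_pow_right (by norm_num) (by omega)))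
    · rw [h, one_mul]

/-- Groups with a modular Sylow 2-subgroup have a normal 2-complement. Let S, of order 2^(n+1) with n ≥ 3, be a Sylow 2-subgroup of a finite group G, and suppose S contains an element a of order 2^n and an involution b with b a b⁻¹ = a^(2^(n-1) + 1); so S is the non-abelian 2-group with a cyclic subgroup of index 2 that is neither dihedral, semidihedral nor generalized quaternion. Then G has a normal 2-complement. -/
theorem result {G : Type*} [Group G] [Finite G]
    (S : Sylow 2 G) (n : ℕ) (hn : 3 ≤ n) (hS : Nat.card ↥(S : Subgroup G) = 2 ^ (n + 1))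
    (a b : G) (ha : a ∈ (S : Subgroup G)) (hb : b ∈ (S : Subgroup G))
    (hao : orderOf a = 2 ^ n) (hbo : orderOf b = 2) (hrel : b * a * b⁻¹ = a ^ (2 ^ (n - 1) + 1)) :
    Cfsg.HasNormalPComplement 2 G := by
  classical
  have : Fact (Nat.Prime 2) := ⟨Nat.prime_two⟩
  obtain ⟨z, hzS, hz1, hz2, hzb, hba, hinv, hpow, hsame⟩ := structure_facts (S : Subgroup G) n hn hS a b ha hb hao hbo hrel
  suffices h : ∃ N : Subgroup G, N.Normal ∧ N.IsComplement' (S : Subgroup G) from h.elim fun N hN => ⟨S, N, hN⟩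
  refine (Cfsg.Agent.S0071.result S).2 fun Q hQ g hg hcop => ?_
  have hgo : Odd (orderOf g) := Nat.coprime_two_right.1 hcop
  rw [Subgroup.mem_normalizer_iff] at hg
  have himg : ∀ x ∈ Q, g * x * g⁻¹ ∈ Q := fun x hx => (hg x).1 hx
  -- once `z` is fixed, everything is fixed
  have hfixed : g * z * g⁻¹ = z → ∀ x ∈ Q, Commute g x := by
    intro hgz
    have hcz : Commute g z := commute_of_conj hgz
    suffices hk : ∀ k : ℕ, ∀ x ∈ Q, x ^ (2 ^ k) = 1 → Commute g x by
      intro x hx
      obtain ⟨k, hk'⟩ := S.isPGroup' ⟨x, hQ hx⟩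
      exact hk k x hx (congrArg Subtype.val hk')
    intro k
    induction k with
    | zero => intro x _ h; rw [pow_zero, pow_one] at h; rw [h]; exact Commute.one_right g
    | succ k ih =>
      intro x hx hxk
      by_cases hx2 : x * x = 1
      · have hcase : ∀ y ∈ Q, y * y = 1 → ¬ Commute g y → y = b ∨ y = z * b := fun y hy hy2 hny => by
          rcases hinv y (hQ hy) hy2 with h | h | h | h
          · exact absurd (h ▸ Commute.one_right g) hny
          · exact absurd (h ▸ hcz) hny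
          · exact Or.inl h
          · exact Or.inr h
        by_contra hnx
        have hconj : ∀ y, y * y = 1 → ¬ Commute g y → (g * y * g⁻¹) * (g * y * g⁻¹) = 1 ∧ ¬ Commute g (g * y * g⁻¹) := fun y hy2 hny => by
          refine ⟨by rw [conj_mul, hy2, mul_one, mul_inv_cancel], fun h => hny ?_⟩
          have h' : g * (g * y * g⁻¹) = (g * y * g⁻¹) * g := h
          rw [inv_mul_cancel_right] at h'
          exact commute_of_conj (mul_left_cancel h')
        obtain ⟨hy2, hny⟩ := hconj x hx2 hnx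
        have hy := himg x hx
        obtain ⟨hw2, hnw⟩ := hconj _ hy2 hny
        have hw := himg _ hy
        have h1 : g * x * g⁻¹ ≠ x := fun h => hnx (commute_of_conj h)
        have h2 : g * (g * x * g⁻¹) * g⁻¹ ≠ g * x * g⁻¹ := fun h => hny (commute_of_conj h)
        have hwx : g * (g * x * g⁻¹) * g⁻¹ = x := by
          rcases hcase x hx hx2 hnx with e | e <;> rcases hcase _ hy hy2 hny with e' | e' <;>
            rcases hcase _ hw hw2 hnw with e'' | e'' <;>
            first
              | exact e''.trans e.symm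
              | exact absurd (e'.trans e.symm) h1
              | exact absurd (e''.trans e'.symm) h2
        refine hnx (commute_of_pow_two_pow hgo 1 (commute_of_conj ?_))
        rw [pow_one, sq]
        calc g * g * x * (g * g)⁻¹ = g * (g * x * g⁻¹) * g⁻¹ := by group
          _ = x := hwx
      · have hxx : Commute g (x * x) := ih _ (Q.mul_mem hx hx) (by rw [← sq, ← pow_mul, ← pow_succ', hxk])
        set y := g * x * g⁻¹ with hy
        set w := g * y * g⁻¹ with hw
        have hy2 : y * y = x * x := by rw [hy, conj_mul, hxx.eq, mul_inv_cancel_right]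
        have hw2 : w * w = x * x := by rw [hw, conj_mul, hy2, hxx.eq, mul_inv_cancel_right]
        have hzq : ∀ u, g * (u * z) * g⁻¹ = (g * u * g⁻¹) * z := fun u => by rw [← conj_mul, hgz]
        have hfin : g * w * g⁻¹ = y → Commute g x := fun h => by
          have hwy : w = x := mul_left_cancel (mul_right_cancel h)
          refine commute_of_pow_two_pow hgo 1 (commute_of_conj ?_)
          rw [pow_one, sq]
          calc g * g * x * (g * g)⁻¹ = w := by rw [hw, hy]; group
            _ = x := hwy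
        have hmem := hsame
        by_cases hxy : (x ∈ Subgroup.zpowers a ↔ y ∈ Subgroup.zpowers a)
        · rcases hsame x (hQ hx) y (hQ (himg x hx)) hy2.symm hxy with h | h
          · exact commute_of_conj h.symm
          · have : w * z = y := by rw [hw, ← hzq, ← h]
            refine commute_of_pow_two_pow hgo 1 (commute_of_conj ?_)
            rw [pow_one, sq]
            calc g * g * x * (g * g)⁻¹ = w := by rw [hw, hy]; group
              _ = w * z * z := by rw [mul_assoc, hz2, mul_one]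
              _ = x := by rw [this, ← h]
        · by_cases hxw : (x ∈ Subgroup.zpowers a ↔ w ∈ Subgroup.zpowers a)
          · rcases hsame w (hQ (himg y (himg x hx))) x (hQ hx) hw2 hxw.symm with h | h
            · exact hfin (by rw [h])
            · refine commute_of_pow_two_pow hgo 2 (commute_of_conj ?_)
              calc g ^ (2 ^ 2) * x * (g ^ (2 ^ 2))⁻¹ = g * (g * w * g⁻¹) * g⁻¹ := by
                    rw [hw, hy, show (2:ℕ) ^ 2 = 4 from rfl]; simp only [pow_succ, pow_zero, one_mul, mul_inv_rev, mul_assoc]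
                _ = g * (g * (x * z) * g⁻¹) * g⁻¹ := by rw [h]
                _ = x := by rw [hzq, hzq, ← hy, ← hw, h, mul_assoc, hz2, mul_one]
          · rcases hsame w (hQ (himg y (himg x hx))) y (hQ (himg x hx)) (hw2.trans hy2.symm) (by tauto) with h | h
            · exact commute_of_conj (mul_left_cancel (mul_right_cancel h))
            · have h1 : g * w * g⁻¹ = y := by rw [h, hzq, ← hw, h, mul_assoc, hz2, mul_one]
              exact hfin h1
  intro q hq
  refine (?_ : Commute g q).eq.symm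
  by_cases hbig : ∃ x ∈ Q, x * x ≠ 1
  · obtain ⟨x, hx, hx2⟩ := hbig
    refine hfixed ?_ q hq
    conv_lhs => rw [← hpow x (hQ hx) hx2]
    rw [← conj_pow]
    have he : orderOf (g * x * g⁻¹) = orderOf x := by
      rw [← MulAut.conj_apply]; exact orderOf_injective (MulAut.conj g).toMonoidHom (MulAut.conj g).injective x
    rw [← he]
    refine hpow _ (hQ (himg x hx)) fun h => hx2 ?_
    rw [conj_mul, mul_inv_eq_one, mul_eq_left] at h
    exact h
  push Not at hbig
  by_cases hqf : g * q * g⁻¹ = q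
  · exact commute_of_conj hqf
  have hzbQ : z ∈ Q ∧ b ∈ Q := by
    have hy := himg q hq
    have hqy := Q.mul_mem hq hy
    have hbb : b * b = 1 := by rw [← sq, ← hbo, pow_orderOf_eq_one]
    rcases hinv q (hQ hq) (hbig q hq) with e | e | e | e
    · exact absurd (by rw [e, mul_one, mul_inv_cancel]) hqf
    all_goals rcases hinv _ (hQ hy) (hbig _ hy) with e' | e' | e' | e'
    all_goals first
      | exact absurd (e'.trans e.symm) hqf
      | (exfalso; rw [mul_inv_eq_one, mul_eq_left] at e'; apply hqf; rw [e', mul_one, mul_inv_cancel])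
      | exact ⟨e ▸ hq, e' ▸ hy⟩
      | exact ⟨e' ▸ hy, e ▸ hq⟩
      | (refine ⟨e ▸ hq, ?_⟩; rw [e', e, ← mul_assoc, hz2, one_mul] at hqy; exact hqy)
      | (refine ⟨e' ▸ hy, ?_⟩; have h := Q.mul_mem hy hq; rw [e', e, ← mul_assoc, hz2, one_mul] at h; exact h)
      | (refine ⟨?_, e ▸ hq⟩; have h := Q.mul_mem hy hq; rw [e', e, mul_assoc, hbb, mul_one] at h; exact h)
      | (refine ⟨?_, e' ▸ hy⟩; rw [e', e, mul_assoc, hbb, mul_one] at hqy; exact hqy)
  refine hfixed ?_ q hq
  set C := Subgroup.centralizer ({z, b} : Set G) with hC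
  have hgC : ∀ c ∈ C, g * c * g⁻¹ ∈ C := fun c hc => by
    rw [Subgroup.mem_centralizer_iff] at hc ⊢
    have hall : ∀ v ∈ Q, v * c = c * v := fun v hv => by
      rcases hinv v (hQ hv) (hbig v hv) with e | e | e | e <;> subst e
      · rw [one_mul, mul_one]
      · exact hc _ (Or.inl rfl)
      · exact hc _ (Or.inr rfl)
      · rw [mul_assoc, hc b (Or.inr rfl), ← mul_assoc, hc z (Or.inl rfl), mul_assoc]
    intro v hv
    have hvQ : v ∈ Q := by rcases hv with rfl | rfl; exacts [hzbQ.1, hzbQ.2]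
    have h1 : g⁻¹ * v * g ∈ Q := (hg _).2 (by simpa [mul_assoc] using hvQ)
    have h2 := congrArg (fun u => g * u * g⁻¹) (hall _ h1)
    simp only [mul_assoc, mul_inv_cancel_left, mul_inv_cancel, mul_one] at h2 ⊢
    exact h2
  have hbz : b * z = z * b := by
    have h1 := hbig _ (Q.mul_mem hzbQ.2 hzbQ.1)
    rw [mul_eq_one_iff_eq_inv, mul_inv_rev, inv_eq_of_mul_eq_one_right hz2,
      inv_eq_of_mul_eq_one_right (show b * b = 1 by rw [← sq, ← hbo, pow_orderOf_eq_one])] at h1
    exact h1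
  have hw2 : a * a * (a * a) ≠ 1 := fun h => by
    have h4 : a ^ 4 = 1 := by rw [← h]; simp only [pow_succ, pow_zero, one_mul, mul_assoc]
    have := Nat.le_of_dvd (by norm_num) (orderOf_dvd_of_pow_eq_one h4)
    rw [hao] at this
    exact absurd this (not_le.2 (lt_of_lt_of_le (by norm_num : 4 < 2 ^ 3) (Nat.pow_le_pow_right (by norm_num) hn)))
  have hwS : a * a ∈ (S : Subgroup G) := (S : Subgroup G).mul_mem ha ha
  have hwz := hpow (a * a) hwS hw2
  have hwC : a * a ∈ C := by
    rw [hC, Subgroup.mem_centralizer_iff]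
    rintro v (rfl | rfl)
    · conv_lhs => rw [← hwz]
      conv_rhs => rw [← hwz]
      exact ((Commute.refl (a * a)).pow_left _).eq
    · exact hba
  obtain ⟨P, hP⟩ := (show IsPGroup 2 ((S : Subgroup G).subgroupOf C) from S.isPGroup'.comap_subtype).exists_le_sylow
  obtain ⟨R, hR⟩ := (P.isPGroup'.map C.subtype).exists_le_sylow
  obtain ⟨u, hu⟩ := MulAction.exists_smul_eq G S R
  have hzu : ∀ x, x ∈ (R : Subgroup G) → x * x ≠ 1 → x ^ (orderOf x / 2) = u * z * u⁻¹ := fun x hx hx2 => by
    rw [← hu] at hx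
    obtain ⟨s, hs, rfl⟩ := hx
    show (MulAut.conj u s) ^ (orderOf (MulAut.conj u s) / 2) = _
    rw [show orderOf (MulAut.conj u s) = orderOf s from orderOf_injective (MulAut.conj u).toMonoidHom (MulAut.conj u).injective s,
      ← map_pow, hpow s hs fun h => hx2 (by
        show MulAut.conj u s * MulAut.conj u s = 1
        rw [← map_mul, h, map_one])]
    rfl
  have hwR : a * a ∈ (R : Subgroup G) := hR ⟨⟨_, hwC⟩, hP hwS, rfl⟩
  have hz' : z = u * z * u⁻¹ := hwz.symm.trans (hzu _ hwR hw2)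
  -- conjugate the image of `a * a` back into `P`
  have hwC' : g * (a * a) * g⁻¹ ∈ C := hgC _ hwC
  obtain ⟨T, hT⟩ := (IsPGroup.to_le (S.isPGroup'.map (MulAut.conj g).toMonoidHom)
    (Subgroup.zpowers_le.2 ⟨a * a, hwS, rfl⟩)).comap_subtype (K := C) |>.exists_le_sylow
  obtain ⟨c, hc⟩ := MulAction.exists_smul_eq C T P
  have hcR : (c : G) * (g * (a * a) * g⁻¹) * (c : G)⁻¹ ∈ (R : Subgroup G) := by
    refine hR ⟨c * ⟨_, hwC'⟩ * c⁻¹, ?_, rfl⟩
    rw [← hc]
    exact ⟨⟨_, hwC'⟩, hT (Subgroup.mem_zpowers _), rfl⟩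
  have hord : orderOf ((c : G) * (g * (a * a) * g⁻¹) * (c : G)⁻¹) = orderOf (a * a) :=
    (orderOf_injective (MulAut.conj (c : G)).toMonoidHom (MulAut.conj (c : G)).injective _).trans
      (orderOf_injective (MulAut.conj g).toMonoidHom (MulAut.conj g).injective _)
  have h := hzu _ hcR (fun h => hw2 (by
    rw [conj_mul, mul_inv_eq_one, mul_eq_left, conj_mul, mul_inv_eq_one, mul_eq_left] at h
    exact h))
  rw [hord, conj_pow, conj_pow, hwz, ← hz', mul_inv_eq_iff_eq_mul] at h
  have hcz : (c : G) * z = z * c := ((Subgroup.mem_centralizer_iff.1 c.2) z (Or.inl rfl)).symm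
  rw [← hcz] at h
  exact mul_left_cancel h

end Cfsg.Agent.S3178
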