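import Cfsg.Statements.S3180
import Cfsg.Agent.InvolCalc.Classes

set_option autoImplicit false
open Cfsg

namespace Cfsg.Agent.S3180

/-- Let P be a Sylow p-subgroup of a finite group J and P₁ a subgroup of P that is weakly closed in P with respect to J. If J acts on a set and two points, each fixed by every element of P₁, lie in one J-orbit, then they lie in one orbit of the normalizer of P₁ in J. -/
theorem result {J : Type*} [Group J] [Finite J]
    {p : ℕ} [Fact p.Prime] (P : Sylow p J) (P₁ : Subgroup J) (hW : Cfsg.IsWeaklyClosed P₁ (P : Subgroup J))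
    {Ω : Type*} [MulAction J Ω] (x y : Ω) (hx : ∀ g ∈ P₁, g • x = x) (hy : ∀ g ∈ P₁, g • y = y)
    (hc : ∃ g : J, g • x = y) :
    ∃ g ∈ Subgroup.normalizer (P₁ : Set J), g • x = y := by
  obtain ⟨g, hg⟩ := hc
  set C := MulAction.stabilizer J y with hC
  have hWp : IsPGroup p P₁ := P.2.to_le hW.1
  set W' := P₁.map (MulAut.conj g).toMonoidHom
  have hWC : P₁ ≤ C := fun w hw => hy w hw
  have hW'C : W' ≤ C := by
    rintro _ ⟨w, hw, rfl⟩
    show (g * w * g⁻¹) • y = y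
    rw [← hg, ← mul_smul, inv_mul_cancel_right, mul_smul, hx w hw]
  obtain ⟨R₁, hR₁⟩ := (hWp.comap_of_injective C.subtype C.subtype_injective).exists_le_sylow
  obtain ⟨R₂, hR₂⟩ := ((hWp.map (MulAut.conj g).toMonoidHom).comap_of_injective C.subtype
    C.subtype_injective).exists_le_sylow
  obtain ⟨c, hc⟩ := MulAction.exists_smul_eq C R₂ R₁
  obtain ⟨a, ha⟩ := Cfsg.Lib.InvolCalc.exists_conj_le P (R₁.2.map C.subtype)
  have h1 : P₁.map (MulAut.conj a⁻¹).toMonoidHom = P₁ := hW.2 _ (by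
    rintro _ ⟨w, hw, rfl⟩
    simpa using ha w ⟨⟨w, hWC hw⟩, hR₁ (Subgroup.mem_comap.mpr hw), rfl⟩)
  have h2 : P₁.map (MulAut.conj (a⁻¹ * (c : J) * g)).toMonoidHom = P₁ := hW.2 _ (by
    rintro _ ⟨w, hw, rfl⟩
    have hw' : g * w * g⁻¹ ∈ W' := ⟨w, hw, rfl⟩
    have hm : c * ⟨g * w * g⁻¹, hW'C hw'⟩ * c⁻¹ ∈ (R₁ : Subgroup C) := by
      rw [← hc, Sylow.coe_subgroup_smul]
      exact ⟨_, hR₂ (Subgroup.mem_comap.mpr hw'), rfl⟩
    have := ha _ ⟨_, hm, rfl⟩
    show a⁻¹ * (c : J) * g * w * (a⁻¹ * (c : J) * g)⁻¹ ∈ (P : Subgroup J)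
    convert this using 1
    simp only [Subgroup.coe_subtype, Subgroup.coe_mul, Subgroup.coe_inv]
    group)
  have h3 : P₁.map (MulAut.conj ((c : J) * g)).toMonoidHom = P₁ := by
    calc _ = (P₁.map (MulAut.conj (a⁻¹ * (c : J) * g)).toMonoidHom).map (MulAut.conj a).toMonoidHom := by
          rw [Cfsg.Lib.InvolCalc.map_conj_map]; congr 3; group
      _ = (P₁.map (MulAut.conj a⁻¹).toMonoidHom).map (MulAut.conj a).toMonoidHom := by rw [h1, h2]
      _ = P₁ := by rw [Cfsg.Lib.InvolCalc.map_conj_map, mul_inv_cancel, Cfsg.Lib.InvolCalc.map_conj_one]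
  refine ⟨(c : J) * g, Subgroup.mem_normalizer_iff.mpr fun w => ?_, ?_⟩
  · conv_rhs => rw [← h3]
    exact ⟨fun hw => ⟨w, hw, rfl⟩, fun ⟨v, hv, e⟩ => (MulAut.conj _).injective e ▸ hv⟩
  · rw [mul_smul, hg]
    exact c.2

end Cfsg.Agent.S3180
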