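import Cfsg.Statements.S3183
import Cfsg.Agent.InvolCalc.Classes

set_option autoImplicit false
open Cfsg

namespace Cfsg.Agent.S3183

/-- Let G be a finite group in which the intersection of any two distinct Sylow 2-subgroups is contained in the centre of some Sylow 2-subgroup, and let S be a Sylow 2-subgroup. Then for every x in S the centralizer of x in S is a Sylow 2-subgroup of the centralizer of x in G (no 2-subgroup centralizing x is larger), and for every other Sylow 2-subgroup T the intersection S ∩ T lies in both the centre of S and the centre of T. -/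
theorem result {G : Type*} [Group G] [Finite G]
    (hCI : ∀ S T : Sylow 2 G, S ≠ T → ∃ U : Sylow 2 G,
      (S : Subgroup G) ⊓ (T : Subgroup G) ≤ (Subgroup.center ↥(U : Subgroup G)).map (U : Subgroup G).subtype)
    (S : Sylow 2 G) :
    (∀ x ∈ (S : Subgroup G), ∀ P : Subgroup G, IsPGroup 2 ↥P → P ≤ Subgroup.centralizer ({x} : Set G) →
        Nat.card ↥P ≤ Nat.card ↥((S : Subgroup G) ⊓ Subgroup.centralizer ({x} : Set G))) ∧
    (∀ T : Sylow 2 G, T ≠ S →
        (S : Subgroup G) ⊓ (T : Subgroup G) ≤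
          (Subgroup.center ↥(S : Subgroup G)).map (S : Subgroup G).subtype ⊓
            (Subgroup.center ↥(T : Subgroup G)).map (T : Subgroup G).subtype) := by
  haveI := Fact.mk Nat.prime_two
  -- part two for arbitrary Sylow subgroups
  have key : ∀ S T : Sylow 2 G, S ≠ T → ∀ d ∈ (S : Subgroup G) ⊓ (T : Subgroup G), ∀ s ∈ (S : Subgroup G), s * d = d * s := by
    intro S T hST
    obtain ⟨U, hU⟩ := hCI S T hST
    set D := (S : Subgroup G) ⊓ (T : Subgroup G) with hD
    have hZU : ∀ (U : Sylow 2 G) (d : G), d ∈ (Subgroup.center ↥(U : Subgroup G)).map (U : Subgroup G).subtype →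
        d ∈ (U : Subgroup G) ∧ ∀ u ∈ (U : Subgroup G), u * d = d * u := by
      rintro U _ ⟨v, hv, rfl⟩
      exact ⟨v.2, fun u hu => congrArg Subtype.val (Subgroup.mem_center_iff.1 hv ⟨u, hu⟩)⟩
    set C := Subgroup.centralizer (D : Set G) with hC
    set E := (S : Subgroup G) ⊓ C with hE
    have hDE : D ≤ E := fun d hd => ⟨hd.1, Subgroup.mem_centralizer_iff.2 fun e he =>
      (hZU U d (hU hd)).2 e (hZU U e (hU he)).1⟩
    by_cases hES : (S : Subgroup G) ≤ C
    · exact fun d hd s hs => (Subgroup.mem_centralizer_iff.1 (hES hs) d hd).symm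
    exfalso
    -- a Sylow subgroup of `G` inside `C` containing `E`
    have hUC : (U : Subgroup G) ≤ C := fun u hu => Subgroup.mem_centralizer_iff.2 fun d hd => ((hZU U d (hU hd)).2 u hu).symm
    obtain ⟨W, hW⟩ := ((S.2.to_le (inf_le_left : E ≤ S)).comap_of_injective C.subtype C.subtype_injective).exists_le_sylow
    obtain ⟨c, hc⟩ := MulAction.exists_smul_eq C (U.subtype hUC) W
    set W' : Sylow 2 G := (c : G) • U with hW'
    have hW'C : (W' : Subgroup G) ≤ C := by
      intro x hx
      rw [hW', Sylow.coe_subgroup_smul, Subgroup.mem_pointwise_smul_iff_inv_smul_mem] at hx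
      have := hUC hx
      rw [← map_inv, MulAut.smul_def, MulAut.conj_apply, inv_inv] at this
      have h2 := C.mul_mem (C.mul_mem c.2 this) (C.inv_mem c.2)
      rwa [show (c : G) * ((c : G)⁻¹ * x * c) * (c : G)⁻¹ = x by group] at h2
    have hEW : E ≤ W' := by
      intro x hx
      have hx' : (⟨x, hx.2⟩ : C) ∈ (W : Subgroup C) := hW hx
      rw [← hc, Sylow.coe_subgroup_smul, Subgroup.mem_pointwise_smul_iff_inv_smul_mem] at hx'
      rw [hW', Sylow.coe_subgroup_smul, Subgroup.mem_pointwise_smul_iff_inv_smul_mem]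
      rw [← map_inv, MulAut.smul_def, MulAut.conj_apply] at hx' ⊢
      exact hx'
    have hne : S ≠ W' := fun e => hES (e ▸ hW'C)
    obtain ⟨V, hV⟩ := hCI S W' hne
    -- `E` is centralized by a Sylow subgroup `V`
    set CE := Subgroup.centralizer (E : Set G)
    have hVC : (V : Subgroup G) ≤ CE := fun v hv => Subgroup.mem_centralizer_iff.2 fun e he =>
      ((hZU V e (hV ⟨he.1, hEW he⟩)).2 v hv).symm
    -- take `g` in the normaliser of `E` in `S`
    haveI := S.2.isNilpotent
    have hlt : E.subgroupOf S < ⊤ := by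
      rw [lt_top_iff_ne_top, Ne, Subgroup.subgroupOf_eq_top]
      exact fun h => hES (h.trans inf_le_right)
    obtain ⟨g, hg, hgE⟩ := SetLike.exists_of_lt (Group.normalizerCondition_of_isNilpotent (G := (S : Subgroup G)) _ hlt)
    have hgN : (g : G) ∈ Subgroup.normalizer (E : Set G) :=
      Subgroup.mem_normalizer_fintype fun w hw => (Subgroup.mem_normalizer_iff.1 hg ⟨w, hw.1⟩).1 hw
    refine hgE ⟨g.2, Subgroup.mem_centralizer_iff.2 fun d hd => Subgroup.mem_centralizer_iff.1
      (?_ : (g : G) ∈ CE) d (hDE hd)⟩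
    set N := Subgroup.normalizer (E : Set G)
    have hCN : CE ≤ N := Subgroup.centralizer_le_normalizer _
    haveI : (CE.subgroupOf N).Normal := by
      refine ⟨fun x hx n => ?_⟩
      show (n : G) * x * (n : G)⁻¹ ∈ CE
      refine Subgroup.mem_centralizer_iff.2 fun e he => ?_
      have he' : (n : G)⁻¹ * e * n ∈ E := by
        have := (Subgroup.mem_normalizer_iff.1 (Subgroup.inv_mem _ n.2) e).1 he
        rwa [inv_inv] at this
      calc e * ((n : G) * x * (n : G)⁻¹) = n * ((n : G)⁻¹ * e * n * x) * (n : G)⁻¹ := by group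
        _ = n * ((x : G) * ((n : G)⁻¹ * e * n)) * (n : G)⁻¹ := by
          have h0 : (n : G)⁻¹ * e * n * (x : G) = (x : G) * ((n : G)⁻¹ * e * n) := Subgroup.mem_centralizer_iff.1 hx _ he'
          rw [h0]
        _ = _ := by group
    obtain ⟨k, hk⟩ := IsPGroup.iff_orderOf.1 S.2 g
    have hodd : ¬ 2 ∣ (CE.subgroupOf N).index := fun h => by
      refine V.not_dvd_index (h.trans ?_)
      refine (dvd_mul_right _ N.index).trans ?_
      show CE.relIndex N * N.index ∣ _
      rw [Subgroup.relIndex_mul_index hCN]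
      exact Subgroup.index_dvd_of_le hVC
    have h1 : (⟨g, hgN⟩ : N) ^ (2 ^ k).gcd (CE.subgroupOf N).index ∈ CE.subgroupOf N := by
      rw [← zpow_natCast, Nat.gcd_eq_gcd_ab, zpow_add, zpow_mul, zpow_mul, zpow_natCast, zpow_natCast]
      refine mul_mem (zpow_mem ?_ _) (zpow_mem (Subgroup.pow_index_mem _ _) _)
      rw [show (⟨g, hgN⟩ : N) ^ 2 ^ k = 1 from Subtype.ext (show (g : G) ^ 2 ^ k = 1 by
        rw [← Subgroup.coe_pow, ← hk, pow_orderOf_eq_one, Subgroup.coe_one])]
      exact one_mem _
    rw [Nat.Coprime.pow_left k (Nat.prime_two.coprime_iff_not_dvd.2 hodd), pow_one] at h1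
    exact h1
  constructor
  · intro x hx P hP hPC
    set C := Subgroup.centralizer ({x} : Set G)
    obtain ⟨W, hW⟩ := ((S.2.to_le (inf_le_left : (S : Subgroup G) ⊓ C ≤ S)).comap_of_injective C.subtype C.subtype_injective).exists_le_sylow
    have hPW : Nat.card P ≤ Nat.card (W : Subgroup C) := by
      obtain ⟨W2, hW2⟩ := (hP.comap_of_injective C.subtype C.subtype_injective).exists_le_sylow
      rw [← Nat.card_congr (Subgroup.subgroupOfEquivOfLe hPC).toEquiv, W.card_eq_multiplicity, ← W2.card_eq_multiplicity]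
      exact Nat.card_le_card_of_injective _ (Subgroup.inclusion_injective hW2)
    refine hPW.trans ?_
    obtain ⟨T, hT⟩ := (W.2.map C.subtype).exists_le_sylow
    by_cases hTS : T = S
    · subst hTS
      refine (le_of_eq (Subgroup.card_subtype (C) (W : Subgroup C)).symm).trans ?_
      have hle : (W : Subgroup C).map C.subtype ≤ (T : Subgroup G) ⊓ C := fun w hw => ⟨hT hw, Subgroup.map_subtype_le _ hw⟩
      exact Nat.card_le_card_of_injective _ (Subgroup.inclusion_injective hle)
    have hxT : x ∈ (T : Subgroup G) := hT ⟨⟨x, Subgroup.mem_centralizer_singleton_iff.2 rfl⟩,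
      hW ⟨hx, Subgroup.mem_centralizer_singleton_iff.2 rfl⟩, rfl⟩
    have hSC : (S : Subgroup G) ≤ C := fun s hs => Subgroup.mem_centralizer_singleton_iff.2
      (key S T (Ne.symm hTS) x ⟨hx, hxT⟩ s hs)
    rw [inf_eq_left.2 hSC]
    refine le_trans ?_ (le_of_eq (T.card_eq_multiplicity.trans S.card_eq_multiplicity.symm))
    refine (le_of_eq (Subgroup.card_subtype C (W : Subgroup C)).symm).trans ?_
    exact Nat.card_le_card_of_injective _ (Subgroup.inclusion_injective hT)
  · intro T hTS
    have hmem : ∀ (U : Subgroup G) (d : G), d ∈ U → (∀ u ∈ U, u * d = d * u) → d ∈ (Subgroup.center U).map U.subtype :=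
      fun U d hd h => ⟨⟨d, hd⟩, Subgroup.mem_center_iff.2 fun u => Subtype.ext (h u u.2), rfl⟩
    exact fun d hd => ⟨hmem _ d hd.1 (key S T (Ne.symm hTS) d hd), hmem _ d hd.2 (key T S hTS d ⟨hd.2, hd.1⟩)⟩

end Cfsg.Agent.S3183
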