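import Cfsg.Statements.S3186
import Cfsg.Agent.AbelianMeet.Final

set_option autoImplicit false
open Cfsg

namespace Cfsg.Agent.S3186

/-- Let G be a non-abelian finite simple group in which the intersection of any two distinct Sylow 2-subgroups is abelian. Then a Sylow 2-subgroup of G is either dihedral (of order at least 4) or of nilpotency class at most two (its derived subgroup is central). -/
theorem result {G : Type*} [Group G] [Finite G] [IsSimpleGroup G]
    (hG : ¬ IsMulCommutative G)
    (hA : ∀ S T : Sylow 2 G, S ≠ T → IsMulCommutative ↥((S : Subgroup G) ⊓ (T : Subgroup G))) (S : Sylow 2 G) :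
    (∃ m : ℕ, 2 ≤ m ∧ Nonempty (↥(S : Subgroup G) ≃* DihedralGroup m)) ∨
      commutator ↥(S : Subgroup G) ≤ Subgroup.center ↥(S : Subgroup G) := by
  by_cases hb : ∀ a ∈ (S : Subgroup G), ∀ b ∈ (S : Subgroup G), ∀ c ∈ (S : Subgroup G),
      a * b * a⁻¹ * b⁻¹ * c = c * (a * b * a⁻¹ * b⁻¹)
  · refine Or.inr ?_
    rw [commutator_eq_closure, Subgroup.closure_le]
    rintro _ ⟨x, y, rfl⟩
    refine Subgroup.mem_center_iff.2 fun z => Subtype.ext ?_
    simpa [commutatorElement_def] using (hb x x.2 y y.2 z z.2).symm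
  · refine Or.inl (Cfsg.Lib.AbelianMeet.Hyp.dihedral ⟨fun P Q hne a ha b hb' => ?_, hb⟩ hG)
    exact congrArg Subtype.val ((hA P Q hne).is_comm.comm ⟨a, ha⟩ ⟨b, hb'⟩)

end Cfsg.Agent.S3186
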