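import Cfsg.Statements.S3190
import Cfsg.Agent.PGroups.Basic

set_option autoImplicit false
open Cfsg

namespace Cfsg.Agent.S3190

/-- Let p be an odd prime and, inside a finite group, let P be a p-subgroup normalized by a Klein four-group T. Let R be a subgroup of P, normal in P and normalized by T, such that P is the product of R with the centralizer of T in P. If T centralizes the centre of P, then T centralizes the centre of R. -/
theorem result {X : Type*} [Group X] [Finite X]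
    {p : ℕ} (hp : p.Prime) (hodd : Odd p) (P T R : Subgroup X) (hP : IsPGroup p ↥P) (hT : IsKleinFour ↥T)
    (hTP : T ≤ Subgroup.normalizer (P : Set X)) (hRP : R ≤ P) (hRn : (R.subgroupOf P).Normal)
    (hTR : T ≤ Subgroup.normalizer (R : Set X)) (hfac : R ⊔ (P ⊓ Subgroup.centralizer (T : Set X)) = P)
    (hZ : T ≤ Subgroup.centralizer (((Subgroup.center ↥P).map P.subtype : Subgroup X) : Set X)) :
    T ≤ Subgroup.centralizer (((Subgroup.center ↥R).map R.subtype : Subgroup X) : Set X) := by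
  haveI := Fact.mk hp
  intro t ht
  set Z := (Subgroup.center ↥R).map R.subtype with hZR
  have hmemZ : ∀ w, w ∈ Z ↔ w ∈ R ∧ ∀ r ∈ R, r * w = w * r := fun w => by
    constructor
    · rintro ⟨v, hv, rfl⟩
      exact ⟨v.2, fun r hr => congrArg Subtype.val (Subgroup.mem_center_iff.1 hv ⟨r, hr⟩)⟩
    · rintro ⟨hw, h⟩
      exact ⟨⟨w, hw⟩, Subgroup.mem_center_iff.2 fun r => Subtype.ext (h r r.2), rfl⟩
  have ht2 : t * t = 1 := by
    haveI := hT
    have := IsKleinFour.mul_self (⟨t, ht⟩ : T)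
    exact congrArg Subtype.val this
  have hconj : ∀ c : X, c ∈ Subgroup.normalizer (R : Set X) → ∀ w ∈ Z, c * w * c⁻¹ ∈ Z := fun c hc w hw => by
    obtain ⟨hwR, hwc⟩ := (hmemZ w).1 hw
    refine (hmemZ _).2 ⟨(Subgroup.mem_normalizer_iff.1 hc w).1 hwR, fun r hr => ?_⟩
    have hr' : c⁻¹ * r * c ∈ R := by
      have := (Subgroup.mem_normalizer_iff.1 (Subgroup.inv_mem _ hc) r).1 hr
      rwa [inv_inv] at this
    calc r * (c * w * c⁻¹) = c * (c⁻¹ * r * c * w) * c⁻¹ := by group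
      _ = c * (w * (c⁻¹ * r * c)) * c⁻¹ := by rw [hwc _ hr']
      _ = _ := by group
  let I : Subgroup X :=
    { carrier := {w | w ∈ Z ∧ t * w * t⁻¹ = w⁻¹}
      one_mem' := ⟨Z.one_mem, by group⟩
      mul_mem' := fun {a b} ha hb => ⟨Z.mul_mem ha.1 hb.1, by
        rw [show t * (a * b) * t⁻¹ = t * a * t⁻¹ * (t * b * t⁻¹) by group, ha.2, hb.2,
          ← mul_inv_rev, ((hmemZ b).1 hb.1).2 a ((hmemZ a).1 ha.1).1]⟩
      inv_mem' := fun {a} ha => ⟨Z.inv_mem ha.1, by
        rw [show t * a⁻¹ * t⁻¹ = (t * a * t⁻¹)⁻¹ by group, ha.2]⟩ }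
  have hIR : I ≤ R := fun w hw => ((hmemZ w).1 hw.1).1
  have hRN : P ≤ Subgroup.normalizer (R : Set X) := (Subgroup.normal_subgroupOf_iff_le_normalizer hRP).1 hRn
  have hPN : P ≤ Subgroup.normalizer (I : Set X) := by
    rw [← hfac, sup_le_iff]
    refine ⟨fun r hr => Subgroup.mem_normalizer_fintype fun w hw => ?_,
      fun c hc => Subgroup.mem_normalizer_fintype fun w hw => ?_⟩
    · rw [((hmemZ w).1 hw.1).2 r hr, mul_inv_cancel_right]; exact hw
    · refine ⟨hconj c (hRN hc.1) w hw.1, ?_⟩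
      have h1 := Subgroup.mem_centralizer_iff.1 hc.2 t ht
      calc t * (c * w * c⁻¹) * t⁻¹ = (t * c) * w * (t * c)⁻¹ := by group
        _ = (c * t) * w * (c * t)⁻¹ := by rw [h1]
        _ = c * (t * w * t⁻¹) * c⁻¹ := by group
        _ = _ := by rw [hw.2]; group
  have hI : I.subgroupOf P = ⊥ := by
    by_contra h
    haveI : (I.subgroupOf P).Normal := (Subgroup.normal_subgroupOf_iff_le_normalizer (hIR.trans hRP)).2 hPN
    obtain ⟨z, hzI, hzc, hzp⟩ := Cfsg.Lib.PGroups.exists_mem_center_of_normal_ne_bot hP h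
    have h1 := Subgroup.mem_centralizer_iff.1 (hZ ht) (z : X) ⟨z, hzc, rfl⟩
    have e : t * (z : X) * t⁻¹ = (z : X)⁻¹ := hzI.2
    have h2 : (z : X)⁻¹ = z := by rw [← e, ← h1, mul_inv_cancel_right]
    have h3 : z * z = 1 := Subtype.ext (show (z : X) * z = 1 by nth_rw 1 [← h2]; exact inv_mul_cancel _)
    have h4 : p ∣ 2 := hzp ▸ orderOf_dvd_of_pow_eq_one (by rw [pow_two]; exact h3)
    rw [(Nat.prime_dvd_prime_iff_eq hp Nat.prime_two).1 h4] at hodd
    exact absurd hodd (by decide)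
  rw [Subgroup.mem_centralizer_iff]
  intro w hw
  obtain ⟨hwR, hwc⟩ := (hmemZ w).1 hw
  have htw := hconj t (hTR ht) w hw
  have hd : w⁻¹ * (t * w * t⁻¹) ∈ I := by
    refine ⟨Z.mul_mem (Z.inv_mem hw) htw, ?_⟩
    rw [show t * (w⁻¹ * (t * w * t⁻¹)) * t⁻¹ = (t * w⁻¹ * t⁻¹) * ((t * t) * w * (t * t)⁻¹) by group, ht2]
    group
  have hd1 : (⟨_, hRP (hIR hd)⟩ : P) ∈ I.subgroupOf P := hd
  rw [hI, Subgroup.mem_bot] at hd1
  have := congrArg Subtype.val hd1
  rw [Subgroup.coe_one, inv_mul_eq_one] at this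
  exact (mul_inv_eq_iff_eq_mul.1 this.symm).symm

end Cfsg.Agent.S3190
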