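import Cfsg.Statements.S3191
import Cfsg.Agent.AltTopType.Main
import Cfsg.Agent.AltTopType.Alt

set_option autoImplicit false
open Cfsg

namespace Cfsg.Agent.S3191

/-- Let n ≥ 1 and r = 2 or 3, and let H be the centralizer in the alternating group of degree 4n + r of an involution moving exactly 4n points (a product of 2n disjoint transpositions). Let G be a finite group that has no normal subgroup of index 2 and that contains an involution t which is central in some Sylow 2-subgroup of G and whose centralizer is isomorphic to H. Then G has exactly n conjugacy classes of involutions. -/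
theorem result (n r : ℕ) (hn : 1 ≤ n) (hr : r = 2 ∨ r = 3)
    (α : ↥(alternatingGroup (Fin (4 * n + r)))) (hα : orderOf α = 2)
    (hα4 : (α : Equiv.Perm (Fin (4 * n + r))).support.card = 4 * n)
    {G : Type*} [Group G] [Finite G] (h2 : ∀ H : Subgroup G, H.Normal → H.index ≠ 2)
    (t : G) (ht : orderOf t = 2) (S : Sylow 2 G) (htS : t ∈ (S : Subgroup G))
    (htZ : ∀ s ∈ (S : Subgroup G), s * t = t * s)
    (hiso : Nonempty (↥(Subgroup.centralizer ({t} : Set G)) ≃*
      ↥(Subgroup.centralizer ({α} : Set ↥(alternatingGroup (Fin (4 * n + r))))))) :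
    Nat.card {c : ConjClasses G // ∃ x ∈ c.carrier, orderOf x = 2} = n := by
  classical
  obtain ⟨e⟩ := hiso
  set a : Equiv.Perm (Fin (4 * n + r)) := (α : Equiv.Perm (Fin (4 * n + r))) with hadef
  have ha2 : a * a = 1 := by
    have h := congrArg Subtype.val (pow_orderOf_eq_one α)
    rw [hα, pow_two] at h
    exact h
  have ha : ∀ x, a (a x) = x := fun x => by
    rw [← Equiv.Perm.mul_apply, ha2, Equiv.Perm.one_apply]
  have hcard : Fintype.card (Cfsg.Lib.AltTop.Pairs a) = 2 * n := by
    have := Cfsg.Lib.AltTop.card_pairs ha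
    omega
  have hfix : (Finset.univ \ a.support).card = r := by
    rw [Finset.card_sdiff_of_subset (Finset.subset_univ _), Finset.card_univ, Fintype.card_fin, hα4]
    omega
  obtain ⟨u₁, hu1, u₂, hu2, hu⟩ := Finset.one_lt_card.1 (show 1 < (Finset.univ \ a.support).card by omega)
  simp only [Finset.mem_sdiff, Finset.mem_univ, true_and, Equiv.Perm.mem_support, not_not] at hu1 hu2
  obtain ⟨T⟩ := Cfsg.Lib.AltTop.exists_setting ha ht (by omega) ⟨n, by omega⟩ hu1 hu2 hu (by omega) rfl e
  refine Cfsg.Lib.AltTop.count_classes T ?_ ?_ h2 S (fun s hs =>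
    Subgroup.mem_centralizer_singleton_iff.2 (htZ s hs)) hcard
  · rw [← pow_two, ← ht, pow_orderOf_eq_one]
  · intro h
    rw [h, orderOf_one] at ht
    omega

end Cfsg.Agent.S3191
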