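import Cfsg.Statements.S3195
import Mathlib
import Cfsg.Agent.Quadratic.BaerSuzuki

set_option autoImplicit false
open Cfsg

namespace Cfsg.Agent.S3195

variable {G : Type*} [Group G]

theorem commute_of_sq {x y : G} (hx : Odd (orderOf x)) (h : Commute y (x * x)) : Commute y x := by
  obtain ⟨m, hm⟩ := exists_pow_eq_self_of_coprime (x := x) (n := 2) (Nat.coprime_two_left.2 hx)
  rw [← hm, sq]
  exact h.pow_right m

theorem eq_one_of_inv_eq {x : G} (hx : Odd (orderOf x)) (h : x⁻¹ = x) : x = 1 := by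
  rw [inv_eq_iff_mul_eq_one, ← sq, ← orderOf_dvd_iff_pow_eq_one, Nat.dvd_prime Nat.prime_two] at h
  rcases h with h | h
  · exact orderOf_eq_one_iff.1 h
  · rw [h] at hx; exact absurd hx (by decide)

theorem exists_inverted [Finite G] {a : G} (ha2 : a * a = 1) (ha : a ∉ Cfsg.pCore 2 G) :
    ∃ x : G, x ≠ 1 ∧ Odd (orderOf x) ∧ a * x * a = x⁻¹ := by
  have : Fact (Nat.Prime 2) := ⟨Nat.prime_two⟩
  have hai : a⁻¹ = a := inv_eq_of_mul_eq_one_right ha2
  have hX : IsPGroup 2 (Subgroup.zpowers a) := fun ⟨g, hg⟩ => ⟨1, by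
    obtain ⟨n, rfl⟩ := hg
    refine Subtype.ext ?_
    show (a ^ n) ^ (2 ^ 1) = 1
    rw [pow_one, ← zpow_natCast, ← zpow_mul, mul_comm, zpow_mul, zpow_natCast, sq, ha2, one_zpow]⟩
  obtain ⟨g, hg⟩ : ∃ g : G, ¬ IsPGroup 2 ↥(Subgroup.zpowers a ⊔ (Subgroup.zpowers a).map (MulAut.conj g).toMonoidHom) := by
    by_contra hall
    push Not at hall
    obtain ⟨N, hN, hNp, hle⟩ := Cfsg.Lib.BaerSuzuki.baer_suzuki _ hall
    exact ha ((le_sSup ⟨hN, hNp⟩ : N ≤ Cfsg.pCore 2 G) (hle (Subgroup.mem_zpowers a)))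
  set a' := g * a * g⁻¹ with ha'
  have ha'2 : a' * a' = 1 := by rw [ha', conj_mul, ha2, mul_one, mul_inv_cancel]
  set d := a * a' with hd
  have hinv : a * d * a⁻¹ = d⁻¹ := by
    rw [hai, hd, mul_inv_rev, hai, inv_eq_of_mul_eq_one_right ha'2, ← mul_assoc, ha2, one_mul]
  have hnd : ¬ ∃ k, orderOf d = 2 ^ k := by
    rintro ⟨k, hk⟩
    apply hg
    have hN : Subgroup.zpowers a ≤ Subgroup.normalizer ((Subgroup.zpowers d : Subgroup G) : Set G) := by
      rw [Subgroup.zpowers_le, Subgroup.mem_normalizer_iff]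
      have hp : ∀ n : ℤ, a * d ^ n * a⁻¹ = d ^ (-n) := fun n => by rw [← conj_zpow, hinv, inv_zpow, zpow_neg]
      intro x
      constructor
      · rintro ⟨n, rfl⟩; exact ⟨-n, (hp n).symm⟩
      · rintro ⟨n, hn⟩
        refine ⟨-n, ?_⟩
        have hx : x = a⁻¹ * d ^ n * a := by rw [show d ^ n = a * x * a⁻¹ from hn]; group
        show d ^ (-n) = x
        rw [hx, ← hp n, hai]
    refine IsPGroup.to_le (IsPGroup.to_sup_of_normal_right' hX
      (IsPGroup.of_card (n := k) (by rw [Nat.card_zpowers, hk])) hN) (sup_le le_sup_left ?_)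
    rw [MonoidHom.map_zpowers, Subgroup.zpowers_le]
    show a' ∈ _
    rw [show a' = a * d by rw [hd, ← mul_assoc, ha2, one_mul]]
    exact mul_mem ((le_sup_left : Subgroup.zpowers a ≤ _) (Subgroup.mem_zpowers a))
      ((le_sup_right : Subgroup.zpowers d ≤ _) (Subgroup.mem_zpowers d))
  obtain ⟨k, m, hm, hdo⟩ := Nat.exists_eq_two_pow_mul_odd (n := orderOf d) (orderOf_pos d).ne'
  refine ⟨d ^ (2 ^ k), fun h => hnd ?_, ?_, ?_⟩
  · obtain ⟨j, -, hj⟩ := (Nat.dvd_prime_pow Nat.prime_two).1 (orderOf_dvd_of_pow_eq_one h)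
    exact ⟨j, hj⟩
  · rw [orderOf_pow' d (by positivity), hdo, Nat.gcd_eq_right (dvd_mul_right _ _), Nat.mul_div_cancel_left _ (by positivity)]
    exact hm
  · rw [← inv_pow, ← hinv, conj_pow, hai]

/-- Let A be a Klein four-subgroup of a finite group G. If every G-conjugate of every involution of A commutes with some involution of A (its centralizer meets A nontrivially), then A meets the largest normal 2-subgroup O₂(G) nontrivially. -/
theorem result {G : Type*} [Group G] [Finite G]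
    (A : Subgroup G) (hA : IsKleinFour ↥A)
    (h : ∀ a ∈ A, a ≠ 1 → ∀ g : G, A ⊓ Subgroup.centralizer ({g * a * g⁻¹} : Set G) ≠ ⊥) :
    A ⊓ Cfsg.pCore 2 G ≠ ⊥ := by
  classical
  intro hbot
  have hnot : ∀ e ∈ A, e ≠ 1 → e ∉ Cfsg.pCore 2 G := fun e he he1 hc =>
    he1 (by have := hbot ▸ (Subgroup.mem_inf.2 ⟨he, hc⟩ : e ∈ A ⊓ Cfsg.pCore 2 G); exact Subgroup.mem_bot.1 this)
  have hsq : ∀ e ∈ A, e * e = 1 := fun e he =>
    congrArg Subtype.val (IsKleinFour.mul_self (G := A) ⟨e, he⟩)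
  have hcomm : ∀ e ∈ A, ∀ f ∈ A, e * f = f * e := fun e he f hf => by
    have h1 := hsq _ (A.mul_mem he hf)
    rw [mul_eq_one_iff_eq_inv, mul_inv_rev, inv_eq_of_mul_eq_one_right (hsq e he), inv_eq_of_mul_eq_one_right (hsq f hf)] at h1
    exact h1
  obtain ⟨u, hu⟩ : ∃ u : A, u ≠ 1 := by
    by_contra! hh
    have h4 := hA.card_four
    have : Subsingleton A := ⟨fun p q => (hh p).trans (hh q).symm⟩
    rw [Nat.card_of_subsingleton (1 : A)] at h4
    omega
  obtain ⟨a, haA, ha1⟩ : ∃ a ∈ A, a ≠ 1 := ⟨u, u.2, fun e => hu (Subtype.ext e)⟩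
  obtain ⟨x, hx1, hxo, hax⟩ := exists_inverted (hsq a haA) (hnot a haA ha1)
  -- the element of `A` centralising `a` and `x * a * x⁻¹`
  obtain ⟨b, ⟨hbA, hbc⟩, hb1⟩ := Subgroup.bot_or_exists_ne_one _ |>.resolve_left (h a haA ha1 x)
  replace hbc : Commute b (x * a * x⁻¹) := Subgroup.mem_centralizer_singleton_iff.1 hbc
  have hxa : x * a * x⁻¹ = x * x * a := by
    rw [← hax, ← mul_assoc (x * a), ← mul_assoc (x * a), mul_assoc x a a, hsq a haA, mul_one]
  have hbx : Commute b x := by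
    refine commute_of_sq hxo ?_
    have h2 : Commute b a := hcomm b hbA a haA
    have := (show Commute b (x * x * a) from hxa ▸ hbc).mul_right h2
    rwa [mul_assoc (x * x), hsq a haA, mul_one] at this
  have hba : b ≠ a := by
    rintro rfl
    rw [hbx.eq, mul_assoc, hsq b hbA, mul_one] at hax
    exact hx1 (eq_one_of_inv_eq hxo hax.symm)
  obtain ⟨z, hz1, hzo, hbz⟩ := exists_inverted (hsq b hbA) (hnot b hbA hb1)
  have hzb : z * b * z⁻¹ = z * z * b := by
    rw [← hbz, ← mul_assoc (z * b), ← mul_assoc (z * b), mul_assoc z b b, hsq b hbA, mul_one]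
  have hmem : ∀ e ∈ A, e ≠ 1 → e ≠ b → e = a ∨ e = a * b := by
    intro e he he1 heb
    let f : Fin 4 → A := ![1, ⟨a, haA⟩, ⟨b, hbA⟩, ⟨a * b, A.mul_mem haA hbA⟩]
    have hf : Function.Injective f := by
      intro i j hij
      replace hij : ((f i : A) : G) = f j := congrArg Subtype.val hij
      have k1 : a ≠ b := fun e => hba e.symm
      have k2 : a * b ≠ 1 := fun e => k1 (by rw [mul_eq_one_iff_eq_inv.1 e, inv_eq_of_mul_eq_one_right (hsq b hbA)])
      have k3 : a * b ≠ a := fun e => hb1 (mul_eq_left.1 e)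
      have k4 : a * b ≠ b := fun e => ha1 (mul_eq_right.1 e)
      fin_cases i <;> fin_cases j <;> simp [f, ha1, hb1, k1, k2, k3, k4, ha1.symm, hb1.symm, k1.symm, k2.symm, k3.symm, k4.symm] at hij ⊢
    have : Fintype A := Fintype.ofFinite A
    have hbij := (Fintype.bijective_iff_injective_and_card f).2 ⟨hf, by rw [Fintype.card_fin, ← Nat.card_eq_fintype_card, hA.card_four]⟩
    obtain ⟨i, hi⟩ := hbij.2 ⟨e, he⟩
    replace hi : ((f i : A) : G) = e := congrArg Subtype.val hi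
    fin_cases i <;> simp [f] at hi
    · exact absurd hi.symm he1
    · exact Or.inl hi.symm
    · exact absurd hi.symm heb
    · exact Or.inr hi.symm
  have hinvx : ∀ e, (e = a ∨ e = a * b) → e * x * e = x⁻¹ := by
    rintro e (rfl | rfl)
    · exact hax
    · rw [mul_assoc a b x, hbx.eq, mul_assoc a (x * b), mul_assoc x b, ← mul_assoc b a b, hcomm b hbA a haA,
        mul_assoc a b b, hsq b hbA, mul_one, ← mul_assoc]
      exact hax
  -- the three conjugates of `A` by powers of `x`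
  have hx3 : ∀ i : ℕ, ∃ e, (e = a ∨ e = a * b) ∧ Commute (x ^ i * e * (x ^ i)⁻¹) (z * b * z⁻¹) := by
    intro i
    obtain ⟨e, ⟨heA, hec⟩, he1⟩ := Subgroup.bot_or_exists_ne_one _ |>.resolve_left (h b hbA hb1 ((x ^ i)⁻¹ * z))
    replace hec : Commute e ((x ^ i)⁻¹ * z * b * ((x ^ i)⁻¹ * z)⁻¹) := Subgroup.mem_centralizer_singleton_iff.1 hec
    have hc : Commute (x ^ i * e * (x ^ i)⁻¹) (z * b * z⁻¹) := by
      have := hec.map (MulAut.conj (x ^ i))
      simp only [MulAut.conj_apply] at this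
      convert this using 1
      group
    refine ⟨e, hmem e heA he1 ?_, hc⟩
    rintro rfl
    rw [((hbx.pow_right i).symm).eq, mul_inv_cancel_right, hzb] at hc
    have h1 : Commute e (z * z) := by
      have := hc.mul_right (Commute.refl e)
      rwa [mul_assoc, hsq e hbA, mul_one] at this
    rw [(commute_of_sq hzo h1).eq, mul_assoc, hsq e hbA, mul_one] at hbz
    exact hz1 (eq_one_of_inv_eq hzo hbz.symm)
  choose e he hec using hx3
  obtain ⟨i, j, hij, hj, heq⟩ : ∃ i j, i < j ∧ j ≤ 2 ∧ e i = e j := by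
    rcases he 0 with h0 | h0 <;> rcases he 1 with h1 | h1 <;> rcases he 2 with h2 | h2
    all_goals first
      | exact ⟨0, 1, by omega, by omega, h0.trans h1.symm⟩
      | exact ⟨0, 2, by omega, by omega, h0.trans h2.symm⟩
      | exact ⟨1, 2, by omega, by omega, h1.trans h2.symm⟩
  obtain ⟨d, rfl⟩ : ∃ d, j = i + d := ⟨j - i, by omega⟩
  set y := x ^ d with hy
  have hyo : Odd (orderOf y) := hxo.of_dvd_nat (orderOf_pow_dvd d)
  have hy1 : y ≠ 1 := fun h1 => by
    have h3 : orderOf x ≤ 2 := (Nat.le_of_dvd (by omega) (orderOf_dvd_of_pow_eq_one h1)).trans (by omega)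
    have h4 := orderOf_pos x
    interval_cases h5 : orderOf x
    · exact hx1 (orderOf_eq_one_iff.1 h5)
    · exact absurd hxo (by decide)
  have hby : Commute b y := hbx.pow_right d
  have hee : e i * e i = 1 := by rcases he i with e' | e' <;> rw [e'] <;> [exact hsq a haA; exact hsq _ (A.mul_mem haA hbA)]
  have heb : e i * b = b * e i := by rcases he i with e' | e' <;> rw [e'] <;> [exact hcomm a haA b hbA; exact hcomm _ (A.mul_mem haA hbA) b hbA]
  have heyy : e i * y * e i = y⁻¹ := by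
    have h1 : e i * x * (e i)⁻¹ = x⁻¹ := by rw [inv_eq_of_mul_eq_one_right hee]; exact hinvx _ (he i)
    have h2 := conj_pow (i := d) (a := e i) (b := x)
    rw [h1, inv_pow, inv_eq_of_mul_eq_one_right hee] at h2
    exact h2.symm
  set e₀ := x ^ i * e i * (x ^ i)⁻¹ with he₀
  have he₀2 : e₀ * e₀ = 1 := by rw [he₀, conj_mul, hee, mul_one, mul_inv_cancel]
  have hxy : Commute (x ^ i) y := (Commute.refl x).pow_pow i d
  have he₀y : e₀ * y * e₀ = y⁻¹ := by
    calc e₀ * y * e₀ = x ^ i * e i * ((x ^ i)⁻¹ * y * x ^ i) * e i * (x ^ i)⁻¹ := by rw [he₀]; group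
      _ = x ^ i * (e i * y * e i) * (x ^ i)⁻¹ := by rw [hxy.inv_left.eq, inv_mul_cancel_right]; group
      _ = y⁻¹ := by rw [heyy, hxy.inv_right.eq, mul_inv_cancel_right]
  have he₁ : x ^ (i + d) * e (i + d) * (x ^ (i + d))⁻¹ = y * e₀ * y⁻¹ := by
    rw [← heq, he₀, pow_add, hxy.eq]; group
  have h1 := hec i
  have h2 := hec (i + d)
  rw [he₁] at h2
  rw [← he₀] at h1
  have hye : y * e₀ * y⁻¹ = y * y * e₀ := by
    rw [← he₀y, ← mul_assoc (y * e₀), ← mul_assoc (y * e₀), mul_assoc y e₀ e₀, he₀2, mul_one]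
  rw [hye] at h2
  have hyw : Commute (z * b * z⁻¹) y := by
    refine commute_of_sq hyo ?_
    have := h2.symm.mul_right h1.symm
    rwa [mul_assoc (y * y), he₀2, mul_one] at this
  have hxb : Commute (x ^ i) b := (hbx.pow_right i).symm
  have he₀b : Commute e₀ b := by
    have := (show Commute (e i) b from heb).map (MulAut.conj (x ^ i))
    simp only [MulAut.conj_apply] at this
    rwa [hxb.eq, mul_inv_cancel_right, ← he₀] at this
  have he₀z : Commute e₀ z := by
    refine commute_of_sq hzo ?_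
    have := h1.mul_right he₀b
    rwa [hzb, mul_assoc, hsq b hbA, mul_one] at this
  have hzy : Commute z y := by
    refine (commute_of_sq hzo ?_).symm
    have := hyw.symm.mul_right hby.symm
    rwa [hzb, mul_assoc, hsq b hbA, mul_one] at this
  -- the final conjugate
  set v := y * z with hv
  have hvo : Odd (orderOf v) := (hyo.mul hzo).of_dvd_nat hzy.symm.orderOf_mul_dvd_mul_orderOf
  have hcA : e i * b ∈ A := by rcases he i with e' | e' <;> rw [e'] <;> [exact A.mul_mem haA hbA; exact A.mul_mem (A.mul_mem haA hbA) hbA]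
  have hc1 : e i * b ≠ 1 := fun h1 => by
    have : b = e i := by rw [mul_eq_one_iff_eq_inv.1 h1, inv_eq_of_mul_eq_one_right (hsq b hbA)]
    rcases he i with e' | e' <;> rw [e'] at this
    · exact hba this
    · exact ha1 (mul_eq_right.1 this.symm)
  obtain ⟨f, ⟨hfA, hfc⟩, hf1⟩ := Subgroup.bot_or_exists_ne_one _ |>.resolve_left (h _ hcA hc1 ((x ^ i)⁻¹ * v * x ^ i))
  replace hfc : Commute f ((x ^ i)⁻¹ * v * x ^ i * (e i * b) * ((x ^ i)⁻¹ * v * x ^ i)⁻¹) := Subgroup.mem_centralizer_singleton_iff.1 hfc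
  have hcv : Commute (x ^ i * f * (x ^ i)⁻¹) (v * (e₀ * b) * v⁻¹) := by
    have := hfc.map (MulAut.conj (x ^ i))
    simp only [MulAut.conj_apply] at this
    convert this using 1
    rw [he₀, mul_assoc (x ^ i * e i), hxb.inv_left.eq]
    group
  have he₀i : e₀⁻¹ = e₀ := inv_eq_of_mul_eq_one_right he₀2
  have hbi : b⁻¹ = b := inv_eq_of_mul_eq_one_right (hsq b hbA)
  have hv₀ : e₀ * b * v * (e₀ * b) = v⁻¹ := by
    calc e₀ * b * v * (e₀ * b) = e₀ * (b * v * b) * e₀ := by
          rw [show e₀ * b * v * (e₀ * b) = e₀ * b * v * (b * e₀) by rw [← he₀b.eq]]; group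
      _ = e₀ * (y * z⁻¹) * e₀ := by
        rw [hv, ← mul_assoc b, hby.eq, mul_assoc y b, mul_assoc y, hbz]
      _ = (e₀ * y * e₀) * (e₀ * z⁻¹ * e₀) := by
        rw [mul_assoc (e₀ * y) e₀, ← mul_assoc e₀ (e₀ * z⁻¹), ← mul_assoc e₀ e₀, he₀2, one_mul]; group
      _ = y⁻¹ * z⁻¹ := by rw [he₀y, he₀z.inv_right.eq, mul_assoc, he₀2, mul_one]
      _ = v⁻¹ := by rw [hv, mul_inv_rev, hzy.inv_inv.eq]
  have hc₀2 : e₀ * b * (e₀ * b) = 1 := by
    rw [he₀b.symm.mul_mul_mul_comm e₀ b, he₀2, hsq b hbA, mul_one]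
  have hveb : v * (e₀ * b) * v⁻¹ = v * v * (e₀ * b) := by
    rw [← hv₀, ← mul_assoc (v * (e₀ * b)), ← mul_assoc (v * (e₀ * b)), mul_assoc v (e₀ * b) (e₀ * b), hc₀2, mul_one]
  rw [hveb] at hcv
  have hfin : ∀ f₀, Commute f₀ (e₀ * b) → Commute f₀ (v * v * (e₀ * b)) → Commute f₀ v := fun f₀ p q => by
    refine commute_of_sq hvo ?_
    have := q.mul_right p
    rwa [mul_assoc, hc₀2, mul_one] at this
  have hzv : ∀ u : G, Odd (orderOf u) → u⁻¹ = u → u = 1 := fun u => eq_one_of_inv_eq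
  by_cases hfb : f = b
  · subst hfb
    rw [hxb.eq, mul_inv_cancel_right] at hcv
    have hc := hfin f (he₀b.symm.mul_right (Commute.refl f)) hcv
    have : Commute f z := by
      have := (hby.inv_right).mul_right hc
      rwa [hv, inv_mul_cancel_left] at this
    rw [this.eq, mul_assoc, hsq f hbA, mul_one] at hbz
    exact hz1 (hzv z hzo hbz.symm)
  · have hfe : f = e i ∨ f = e i * b := by
      rcases hmem f hfA hf1 hfb with rfl | rfl <;> rcases he i with e' | e' <;> rw [e']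
      · exact Or.inl rfl
      · exact Or.inr (by rw [mul_assoc, hsq b hbA, mul_one])
      · exact Or.inr rfl
      · exact Or.inl rfl
    rcases hfe with rfl | rfl
    · rw [← he₀] at hcv
      have hc := hfin e₀ ((Commute.refl e₀).mul_right he₀b) hcv
      have : Commute e₀ y := by
        have := hc.mul_right he₀z.inv_right
        rwa [hv, mul_inv_cancel_right] at this
      rw [this.eq, mul_assoc, he₀2, mul_one] at he₀y
      exact hy1 (hzv y hyo he₀y.symm)
    · have hfe₀ : x ^ i * (e i * b) * (x ^ i)⁻¹ = e₀ * b := by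
        rw [he₀, mul_assoc (x ^ i * e i), hxb.inv_left.eq]; group
      rw [hfe₀] at hcv
      have hc := hfin _ (Commute.refl _) hcv
      rw [hc.eq, mul_assoc, hc₀2, mul_one] at hv₀
      have hv1 : y * z = 1 := hzv v hvo hv₀.symm
      have hyz : y = z⁻¹ := mul_eq_one_iff_eq_inv.1 hv1
      have : Commute e₀ y := hyz ▸ he₀z.inv_right
      rw [this.eq, mul_assoc, he₀2, mul_one] at he₀y
      exact hy1 (hzv y hyo he₀y.symm)

end Cfsg.Agent.S3195
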