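import Cfsg.Statements.S3196
import Mathlib

set_option autoImplicit false
open Cfsg

namespace Cfsg.Agent.S3196

variable {G : Type*} [Group G]

theorem mem_sup_zpowers {u a x : G} (hua : Commute u a) (hx : x ∈ Subgroup.zpowers u ⊔ Subgroup.zpowers a) :
    ∃ i j : ℤ, x = u ^ i * a ^ j := by
  let S : Subgroup G :=
    { carrier := {x | ∃ i j : ℤ, x = u ^ i * a ^ j}
      one_mem' := ⟨0, 0, by simp⟩
      mul_mem' := by
        rintro _ _ ⟨i, j, rfl⟩ ⟨k, l, rfl⟩
        exact ⟨i + k, j + l, by rw [(hua.symm.zpow_zpow j k).mul_mul_mul_comm, zpow_add, zpow_add]⟩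
      inv_mem' := by
        rintro _ ⟨i, j, rfl⟩
        exact ⟨-i, -j, by rw [mul_inv_rev, zpow_neg, zpow_neg, (hua.symm.zpow_zpow j i).inv_inv.eq]⟩ }
  exact (sup_le (Subgroup.zpowers_le.2 (show u ∈ S from ⟨1, 0, by simp⟩))
    (Subgroup.zpowers_le.2 (show a ∈ S from ⟨0, 1, by simp⟩))) hx

set_option maxHeartbeats 1000000 in
/-- Let p be a prime and K a set of subgroups of order p of a finite group G, closed under conjugation, such that at least two distinct members of K commute elementwise, and whenever two distinct members X, Y of K commute: every subgroup of order p of the group XY they generate belongs to K, and every member W of K has centralizer meeting XY nontrivially. Then some member V of K commutes elementwise with every member of K and lies in O_p(G); in particular G is not simple. -/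
theorem result {G : Type*} [Group G] [Finite G]
    {p : ℕ} (hp : p.Prime) (K : Set (Subgroup G)) (hK : ∀ X ∈ K, Nat.card ↥X = p)
    (hKc : ∀ X ∈ K, ∀ g : G, X.map (MulAut.conj g).toMonoidHom ∈ K)
    (hex : ∃ X ∈ K, ∃ Y ∈ K, X ≠ Y ∧ ∀ x ∈ X, ∀ y ∈ Y, x * y = y * x)
    (ha : ∀ X ∈ K, ∀ Y ∈ K, X ≠ Y → (∀ x ∈ X, ∀ y ∈ Y, x * y = y * x) →
      ∀ Z : Subgroup G, Z ≤ X ⊔ Y → Nat.card ↥Z = p → Z ∈ K)
    (hb : ∀ X ∈ K, ∀ Y ∈ K, X ≠ Y → (∀ x ∈ X, ∀ y ∈ Y, x * y = y * x) →
      ∀ W ∈ K, (X ⊔ Y) ⊓ Subgroup.centralizer (W : Set G) ≠ ⊥) :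
    (∃ V ∈ K, (∀ W ∈ K, ∀ v ∈ V, ∀ w ∈ W, v * w = w * v) ∧ V ≤ Cfsg.pCore p G) ∧ ¬ IsSimpleGroup G := by
  classical
  have : Fact p.Prime := ⟨hp⟩
  let P : G → Prop := fun u => Subgroup.zpowers u ∈ K
  have hord : ∀ u, P u → orderOf u = p := fun u hu => by rw [← Nat.card_zpowers]; exact hK _ hu
  have hne : ∀ u, P u → u ≠ 1 := fun u hu h => hp.one_lt.ne (by rw [← hord u hu, h, orderOf_one])
  have hgen : ∀ X ∈ K, ∀ u ∈ X, u ≠ 1 → Subgroup.zpowers u = X := fun X hX u hu hu1 => by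
    refine Subgroup.eq_of_le_of_card_ge (Subgroup.zpowers_le.2 hu) ?_
    have hd : orderOf u ∣ p := hK X hX ▸ Subgroup.orderOf_dvd_natCard X hu
    rw [hK X hX, Nat.card_zpowers, (hp.eq_one_or_self_of_dvd _ hd).resolve_left fun h => hu1 (orderOf_eq_one_iff.1 h)]
  have hgcd : ∀ u, P u → ∀ i : ℤ, u ^ i ≠ 1 → ∃ r : ℤ, (u ^ i) ^ r = u := fun u hu i hi => by
    have h := hgen _ hu (u ^ i) (Subgroup.zpow_mem_zpowers u i) hi
    exact Subgroup.mem_zpowers_iff.1 (h ▸ Subgroup.mem_zpowers u)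
  have hcomm : ∀ u v : G, Commute u v → ∀ x ∈ Subgroup.zpowers u, ∀ y ∈ Subgroup.zpowers v, x * y = y * x := by
    rintro u v huv _ ⟨i, rfl⟩ _ ⟨j, rfl⟩; exact huv.zpow_zpow i j
  -- on a line through `a`, a member not commuting with `a` commutes with a translate of `u`
  have hline : ∀ u a w, P u → P a → P w → Commute u a → ¬ Commute a w → Subgroup.zpowers u ≠ Subgroup.zpowers a →
      ∃ m : ℤ, Commute (u * a ^ m) w ∧ P (u * a ^ m) := by
    intro u a w hu ha' hw hua haw hdiff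
    obtain ⟨x, ⟨hx, hxw⟩, hx1⟩ := Subgroup.bot_or_exists_ne_one _ |>.resolve_left
      (hb _ hu _ ha' hdiff (hcomm u a hua) _ hw)
    obtain ⟨i, j, rfl⟩ := mem_sup_zpowers hua hx
    have hcw : Commute (u ^ i * a ^ j) w := ((Subgroup.mem_centralizer_iff.1 hxw) w (Subgroup.mem_zpowers w)).symm
    have hui : u ^ i ≠ 1 := fun h => by
      rw [h, one_mul] at hcw hx1
      obtain ⟨r, hr⟩ := hgcd a ha' j hx1
      exact haw (hr ▸ hcw.zpow_left r)
    obtain ⟨r, hr⟩ := hgcd u hu i hui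
    have he : (u ^ i * a ^ j) ^ r = u * a ^ (j * r) := by rw [(hua.zpow_zpow i j).mul_zpow, hr, ← zpow_mul]
    refine ⟨j * r, he ▸ hcw.zpow_left r, ?_⟩
    refine ha _ hu _ ha' hdiff (hcomm u a hua) _ (Subgroup.zpowers_le.2 (Subgroup.mul_mem _ ((le_sup_left : Subgroup.zpowers u ≤ _) (Subgroup.mem_zpowers u))
      ((le_sup_right : Subgroup.zpowers a ≤ _) (Subgroup.zpow_mem_zpowers a _)))) ?_
    rw [Nat.card_zpowers]
    refine orderOf_eq_prime ?_ ?_
    · rw [(hua.zpow_right _).mul_pow, ← zpow_natCast (a ^ _), ← zpow_mul, mul_comm, zpow_mul, zpow_natCast,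
        ← hord u hu, pow_orderOf_eq_one, one_mul, hord u hu, ← hord a ha', pow_orderOf_eq_one, one_zpow]
    · intro h
      apply hdiff
      exact hgen _ ha' u (by rw [mul_eq_one_iff_eq_inv.1 h]; exact Subgroup.inv_mem _ (Subgroup.zpow_mem_zpowers a _)) (hne u hu)
  suffices hV : ∃ V ∈ K, ∀ W ∈ K, ∀ v ∈ V, ∀ w ∈ W, v * w = w * v by
    obtain ⟨V, hV, hVc⟩ := hV
    have hle : V ≤ Cfsg.pCore p G := by
      set N := Subgroup.normalClosure (V : Set G)
      have hVle : V ≤ N := Subgroup.le_normalClosure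
      have hab : ∀ x ∈ Group.conjugatesOfSet (V : Set G), ∀ y ∈ Group.conjugatesOfSet (V : Set G), x * y = y * x := by
        intro x hx y hy
        obtain ⟨v, hv, hvx⟩ := Group.mem_conjugatesOfSet_iff.1 hx
        obtain ⟨v', hv', hvy⟩ := Group.mem_conjugatesOfSet_iff.1 hy
        obtain ⟨g, rfl⟩ := isConj_iff.1 hvx
        obtain ⟨g', rfl⟩ := isConj_iff.1 hvy
        have h1 := hVc _ (hKc V hV (g⁻¹ * g')) v hv _ ⟨v', hv', rfl⟩
        simp only [MulEquiv.coe_toMonoidHom, MulAut.conj_apply] at h1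
        calc g * v * g⁻¹ * (g' * v' * g'⁻¹) = g * (v * (g⁻¹ * g' * v' * (g⁻¹ * g')⁻¹)) * g⁻¹ := by group
          _ = g * (g⁻¹ * g' * v' * (g⁻¹ * g')⁻¹ * v) * g⁻¹ := by rw [h1]
          _ = g' * v' * g'⁻¹ * (g * v * g⁻¹) := by group
      have hcN : IsMulCommutative N := Subgroup.isMulCommutative_closure hab
      refine le_trans hVle (le_sSup ⟨Subgroup.normalClosure_normal, ?_⟩)
      intro x
      refine ⟨1, ?_⟩
      obtain ⟨x, hx⟩ := x
      refine Subtype.ext ?_
      show x ^ p ^ 1 = 1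
      rw [pow_one]
      induction hx using Subgroup.closure_induction with
      | mem y hy =>
        obtain ⟨v, hv, hvy⟩ := Group.mem_conjugatesOfSet_iff.1 hy
        obtain ⟨g, rfl⟩ := isConj_iff.1 hvy
        have := congrArg Subtype.val (pow_card_eq_one' (x := (⟨v, hv⟩ : V)))
        rw [hK V hV] at this
        rw [conj_pow, show v ^ p = 1 from this, mul_one, mul_inv_cancel]
      | one => exact one_pow p
      | mul y z hy hz hy1 hz1 =>
        rw [(show Commute y z from congrArg Subtype.val (hcN.is_comm.comm (⟨y, hy⟩ : N) ⟨z, hz⟩)).mul_pow, hy1, hz1, mul_one]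
      | inv y _ hy1 => rw [inv_pow, hy1, inv_one]
    refine ⟨⟨V, hV, hVc, hle⟩, fun hs => ?_⟩
    obtain ⟨X, hX, Y, hY, hXY, hXYc⟩ := hex
    have hX1 : X ≠ ⊤ := fun h => hXY (by
      subst h
      exact (Subgroup.eq_of_le_of_card_ge le_top (by rw [hK Y hY, hK _ hX])).symm)
    set N := Subgroup.normalClosure (V : Set G)
    have hN : N = ⊤ := (Subgroup.normalClosure_normal.eq_bot_or_eq_top).resolve_left fun h => by
      have h1 := hK V hV
      rw [show V = ⊥ from eq_bot_iff.2 ((Subgroup.le_normalClosure (H := V)).trans h.le), Subgroup.card_bot] at h1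
      exact hp.one_lt.ne h1
    have hV' : V.Normal := ⟨fun v hv g => by
      have : ∀ y ∈ (⊤ : Subgroup G), ∀ v ∈ V, Commute y v := by
        rw [← hN]
        intro y hy v hv
        induction hy using Subgroup.closure_induction with
        | mem z hz =>
          obtain ⟨v', hv', hvz⟩ := Group.mem_conjugatesOfSet_iff.1 hz
          obtain ⟨g, rfl⟩ := isConj_iff.1 hvz
          exact (hVc _ (hKc V hV g) v hv _ ⟨v', hv', rfl⟩).symm
        | one => exact Commute.one_left v
        | mul y z _ _ h1 h2 => exact h1.mul_left h2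
        | inv y _ h1 => exact h1.inv_left
      rwa [(this g (Subgroup.mem_top g) v hv).eq, mul_inv_cancel_right]⟩
    rcases hV'.eq_bot_or_eq_top with h | h
    · have h1 := hK V hV
      rw [h, Subgroup.card_bot] at h1
      exact hp.one_lt.ne h1
    · refine hX1 (Subgroup.eq_top_of_card_eq X ?_)
      rw [hK X hX, ← Subgroup.card_top (G := G), ← h, hK V hV]
  by_contra hno
  push Not at hno
  have hbad : ∀ u, P u → ∃ w, P w ∧ ¬ Commute u w := by
    intro u hu
    obtain ⟨W, hW, v, hv, w, hw, hvw⟩ := hno _ hu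
    obtain ⟨i, rfl⟩ := hv
    exact ⟨w, (show Subgroup.zpowers w ∈ K from hgen W hW w hw (fun h => hvw (by rw [h, one_mul, mul_one])) ▸ hW),
      fun h => hvw (h.zpow_left i).eq⟩
  -- a commutator of two members cannot be a member commuting with both
  have hlem : ∀ u v, P u → P v → P (u * v * u⁻¹ * v⁻¹) → Commute u (u * v * u⁻¹ * v⁻¹) → Commute v (u * v * u⁻¹ * v⁻¹) → False := by
    intro u v hu hv hc huc hvc
    set c := u * v * u⁻¹ * v⁻¹ with hcdef
    have hc1 := hne c hc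
    have huv : ¬ Commute u v := fun h => hc1 (by rw [hcdef, h.eq, mul_inv_cancel_right, mul_inv_cancel])
    obtain ⟨w, hw, hcw⟩ := hbad c hc
    have hd1 : Subgroup.zpowers u ≠ Subgroup.zpowers c := fun h => huv (by
      obtain ⟨i, hi⟩ := Subgroup.mem_zpowers_iff.1 (h ▸ Subgroup.mem_zpowers u)
      exact hi ▸ (hvc.zpow_right i).symm)
    have hd2 : Subgroup.zpowers v ≠ Subgroup.zpowers c := fun h => huv (by
      obtain ⟨i, hi⟩ := Subgroup.mem_zpowers_iff.1 (h ▸ Subgroup.mem_zpowers v)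
      exact hi ▸ huc.zpow_right i)
    obtain ⟨m, hm, -⟩ := hline u c w hu hc hw huc hcw hd1
    obtain ⟨l, hl, -⟩ := hline v c w hv hc hw hvc hcw hd2
    apply hcw
    have he : (u * c ^ m) * (v * c ^ l) * (u * c ^ m)⁻¹ * (v * c ^ l)⁻¹ = c := by
      calc (u * c ^ m) * (v * c ^ l) * (u * c ^ m)⁻¹ * (v * c ^ l)⁻¹
          = u * (c ^ m * v) * (c ^ l * (c ^ m)⁻¹) * u⁻¹ * (c ^ l)⁻¹ * v⁻¹ := by group
        _ = u * (v * c ^ m) * ((c ^ m)⁻¹ * c ^ l) * u⁻¹ * (c ^ l)⁻¹ * v⁻¹ := by
            rw [(hvc.zpow_right m).eq, (Commute.zpow_zpow_self c l m).inv_right.eq]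
        _ = u * v * (c ^ l * u⁻¹) * (c ^ l)⁻¹ * v⁻¹ := by group
        _ = u * v * (u⁻¹ * c ^ l) * (c ^ l)⁻¹ * v⁻¹ := by rw [((huc.zpow_right l).inv_left).eq]
        _ = c := by rw [hcdef]; group
    rw [← he]
    exact ((hm.mul_left hl).mul_left hm.inv_left).mul_left hl.inv_left
  obtain ⟨X, hX, Y, hY, hXY, hXYc⟩ := hex
  have hgenr : ∀ X ∈ K, ∃ x, Subgroup.zpowers x = X := fun X hX => by
    obtain ⟨x, hx, hx1⟩ := Subgroup.bot_or_exists_ne_one X |>.resolve_left fun h => by
      have h1 := hK X hX; rw [h, Subgroup.card_bot] at h1; exact hp.one_lt.ne h1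
    exact ⟨x, hgen X hX x hx hx1⟩
  obtain ⟨x, rfl⟩ := hgenr X hX
  obtain ⟨y, rfl⟩ := hgenr Y hY
  have hxy : Commute x y := hXYc x (Subgroup.mem_zpowers x) y (Subgroup.mem_zpowers y)
  obtain ⟨x', hx', hxx'⟩ := hbad x hX
  obtain ⟨m, hzx', hz⟩ := hline y x x' hY hX hx' hxy.symm hxx' hXY.symm
  set z := y * x ^ m with hzdef
  have hxz : Commute x z := hxy.mul_right ((Commute.refl x).zpow_right m)
  have hdx : Subgroup.zpowers x ≠ Subgroup.zpowers z := fun h => hxx' (by
    obtain ⟨i, hi⟩ := Subgroup.mem_zpowers_iff.1 (h ▸ Subgroup.mem_zpowers x)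
    exact hi ▸ hzx'.zpow_left i)
  have hdx' : Subgroup.zpowers x' ≠ Subgroup.zpowers z := fun h => hxx' (by
    obtain ⟨i, hi⟩ := Subgroup.mem_zpowers_iff.1 (h ▸ Subgroup.mem_zpowers x')
    exact hi ▸ hxz.zpow_right i)
  obtain ⟨z', hz', hzz'⟩ := hbad z hz
  obtain ⟨m1, h1z', hP1⟩ := hline x z z' hX hz hz' hxz hzz' hdx
  obtain ⟨m2, h2z', hP2⟩ := hline x' z z' hx' hz hz' hzx'.symm hzz' hdx'
  set u := x * z ^ m1 with hu
  set v := x' * z ^ m2 with hv
  have huv : ¬ Commute u v := fun h => hxx' (by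
    have h1 : Commute u x' := by
      have := h.mul_right ((hxz.mul_left ((Commute.refl z).zpow_left m1)).zpow_right m2).inv_right
      rwa [hv, mul_inv_cancel_right] at this
    have := h1.mul_left (hzx'.zpow_left m1).inv_left
    rwa [hu, mul_inv_cancel_right] at this)
  have huz : Commute u z := hxz.mul_left ((Commute.refl z).zpow_left m1)
  have hvz : Commute v z := hzx'.symm.mul_left ((Commute.refl z).zpow_left m2)
  -- the member `v * z'`
  have hdv : Subgroup.zpowers v ≠ Subgroup.zpowers z' := fun h => hzz' (by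
    obtain ⟨i, hi⟩ := Subgroup.mem_zpowers_iff.1 (h.symm ▸ Subgroup.mem_zpowers z' : z' ∈ Subgroup.zpowers v)
    exact hi ▸ (hvz.zpow_left i).symm)
  have hw : P (v * z') := by
    refine ha _ hP2 _ hz' hdv (hcomm v z' h2z') _ (Subgroup.zpowers_le.2 (Subgroup.mul_mem _ ((le_sup_left : Subgroup.zpowers v ≤ _) (Subgroup.mem_zpowers v))
      ((le_sup_right : Subgroup.zpowers z' ≤ _) (Subgroup.mem_zpowers z')))) ?_
    rw [Nat.card_zpowers]
    refine orderOf_eq_prime (by rw [h2z'.mul_pow, ← hord v hP2, pow_orderOf_eq_one, one_mul, hord v hP2, ← hord z' hz', pow_orderOf_eq_one]) fun h => ?_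
    exact hdv (hgen _ hz' v (by rw [mul_eq_one_iff_eq_inv.1 h]; exact Subgroup.inv_mem _ (Subgroup.mem_zpowers z')) (hne v hP2))
  have hnz : ¬ Commute z (v * z') := fun h => hzz' (by
    have := (hvz.symm.inv_right).mul_right h
    rwa [inv_mul_cancel_left] at this)
  have hduz : Subgroup.zpowers u ≠ Subgroup.zpowers z := fun h => huv (by
    obtain ⟨i, hi⟩ := Subgroup.mem_zpowers_iff.1 (h ▸ Subgroup.mem_zpowers u)
    exact hi ▸ (hvz.zpow_right i).symm)
  obtain ⟨n, hn, -⟩ := hline u z (v * z') hP1 hz hw huz hnz hduz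
  set q := z ^ n with hq
  have hqv : Commute q v := hvz.symm.zpow_left n
  have huq : Commute u q := huz.zpow_right n
  set c := u * v * u⁻¹ * v⁻¹ with hc
  have hcq : c = z' * q * z'⁻¹ * q⁻¹ := by
    have h1 : u * q * (v * z') = v * z' * (u * q) := hn.eq
    have h2 : u * v * (q * z') = v * u * (z' * q) := by
      calc u * v * (q * z') = u * (v * q) * z' := by group
        _ = u * (q * v) * z' := by rw [hqv.eq]
        _ = u * q * (v * z') := by group
        _ = v * z' * (u * q) := h1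
        _ = v * (z' * u) * q := by group
        _ = v * (u * z') * q := by rw [h1z'.eq]
        _ = v * u * (z' * q) := by group
    have huz'' : Commute (v * u) (z' * q) := (h2z'.mul_left h1z').mul_right (hqv.symm.mul_left huq)
    calc c = u * v * (q * z') * ((q * z')⁻¹ * (v * u)⁻¹) := by rw [hc]; group
      _ = (v * u) * (z' * q) * ((q * z')⁻¹ * (v * u)⁻¹) := by rw [h2]
      _ = (z' * q) * (v * u) * ((q * z')⁻¹ * (v * u)⁻¹) := by rw [huz''.eq]
      _ = (z' * q) * ((v * u) * (q * z')⁻¹ * (v * u)⁻¹) := by group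
      _ = (z' * q) * (q * z')⁻¹ := by
        rw [((((h2z'.mul_left h1z').symm).mul_left ((hqv.symm.mul_left huq).symm)).symm).mul_right (Commute.one_right _) |> fun _ =>
          ((hqv.symm.mul_left huq).mul_right (h2z'.mul_left h1z')).inv_right.eq, mul_inv_cancel_right]
      _ = z' * q * z'⁻¹ * q⁻¹ := by group
  have hcu : Commute u c := by
    rw [hcq]; exact (((h1z'.mul_right huq).mul_right h1z'.inv_right).mul_right huq.inv_right)
  have hcv : Commute v c := by
    rw [hcq]; exact (((h2z'.mul_right hqv.symm).mul_right h2z'.inv_right).mul_right hqv.symm.inv_right)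
  have hc1 : c ≠ 1 := fun h => huv (by
    rw [hc, mul_inv_eq_one, mul_inv_eq_iff_eq_mul] at h; exact h)
  -- `⟨c⟩` lies on the line through `u` and its conjugate
  set u' := v * u * v⁻¹ with hu'
  have hu'eq : u' = c⁻¹ * u := by rw [hu', hc]; group
  have hPu' : P u' := by
    show Subgroup.zpowers u' ∈ K
    rw [show Subgroup.zpowers u' = (Subgroup.zpowers u).map (MulAut.conj v).toMonoidHom from by
      rw [MonoidHom.map_zpowers]; rfl]
    exact hKc _ hP1 v
  have huu' : Commute u u' := hu'eq ▸ hcu.inv_right.mul_right (Commute.refl u)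
  have hduu' : Subgroup.zpowers u ≠ Subgroup.zpowers u' := fun h => by
    obtain ⟨i, hi⟩ := Subgroup.mem_zpowers_iff.1 (h.symm ▸ Subgroup.mem_zpowers u' : u' ∈ Subgroup.zpowers u)
    have hce : c = u ^ (1 - i) := by
      rw [zpow_sub, zpow_one, hi, hu'eq]; group
    obtain ⟨r, hr⟩ := hgcd u hP1 (1 - i) (hce ▸ hc1)
    refine huv ?_
    have := hcv.zpow_right r
    rw [hce, hr] at this
    exact this.symm
  have hcmem : c ∈ Subgroup.zpowers u ⊔ Subgroup.zpowers u' := by
    rw [show c = u * u'⁻¹ by rw [hu'eq]; group]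
    exact Subgroup.mul_mem _ ((le_sup_left : Subgroup.zpowers u ≤ _) (Subgroup.mem_zpowers u))
      (Subgroup.inv_mem _ ((le_sup_right : Subgroup.zpowers u' ≤ _) (Subgroup.mem_zpowers u')))
  have hPc : P c := by
    refine ha _ hP1 _ hPu' hduu' (hcomm u u' huu') _ (Subgroup.zpowers_le.2 hcmem) ?_
    rw [Nat.card_zpowers]
    refine orderOf_eq_prime ?_ hc1
    rw [show c = u * u'⁻¹ by rw [hu'eq]; group, huu'.inv_right.mul_pow, inv_pow, ← hord u hP1, pow_orderOf_eq_one, one_mul,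
      hord u hP1, ← hord u' hPu', pow_orderOf_eq_one, inv_one]
  exact hlem u v hP1 hP2 hPc hcu hcv

end Cfsg.Agent.S3196
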