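import Cfsg.Statements.S3200
import Mathlib
import Cfsg.Agent.S0003
import Cfsg.Agent.S0004
import Cfsg.Agent.S0005
import Cfsg.Agent.S0143

set_option autoImplicit false
open Cfsg
open scoped Pointwise

namespace Cfsg.Agent.S3200

universe u

/-- An abelian subgroup of odd order and 2-power index. -/
def HasOddAbelian (H : Type u) [Group H] : Prop :=
  ∃ C : Subgroup H, IsMulCommutative ↥C ∧ Odd (Nat.card C) ∧ ∃ k, C.index = 2 ^ k

theorem card_subgroupOf_mul_relIndex {H : Type u} [Group H] (A B : Subgroup H) :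
    Nat.card (A.subgroupOf B) * A.relIndex B = Nat.card B := (A.subgroupOf B).card_mul_index

theorem relIndex_dvd_index_of_normal' {H : Type u} [Group H] [Finite H] (C N : Subgroup H) [N.Normal] :
    C.relIndex N ∣ C.index := by
  have h1 := card_subgroupOf_mul_relIndex N (N ⊔ C)
  rw [Subgroup.relIndex_sup_left] at h1
  have h2 := card_subgroupOf_mul_relIndex N C
  have h3 := card_subgroupOf_mul_relIndex C (N ⊔ C)
  have h4 := card_subgroupOf_mul_relIndex C N
  have e1 : Nat.card (N.subgroupOf (N ⊔ C)) = Nat.card N := Nat.card_congr (Subgroup.subgroupOfEquivOfLe le_sup_left).toEquiv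
  have e3 : Nat.card (C.subgroupOf (N ⊔ C)) = Nat.card C := Nat.card_congr (Subgroup.subgroupOfEquivOfLe le_sup_right).toEquiv
  have e2 : Nat.card (N.subgroupOf C) = Nat.card (C.subgroupOf N) := by
    rw [← Subgroup.card_map_of_injective C.subtype_injective, ← Subgroup.card_map_of_injective N.subtype_injective,
      Subgroup.subgroupOf_map_subtype, Subgroup.subgroupOf_map_subtype, inf_comm]
  rw [e1] at h1
  rw [e3] at h3
  rw [e2] at h2
  have h5 : C.relIndex N = C.relIndex (N ⊔ C) := by
    refine Nat.eq_of_mul_eq_mul_left (Nat.mul_pos (Nat.card_pos (α := C.subgroupOf N)) (Nat.card_pos (α := C))) ?_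
    calc Nat.card (C.subgroupOf N) * Nat.card C * C.relIndex N
        = Nat.card C * Nat.card N := by rw [← h4]; ring
      _ = Nat.card (C.subgroupOf N) * (N.relIndex C * Nat.card N) := by rw [← h2]; ring
      _ = Nat.card (C.subgroupOf N) * Nat.card ↥(N ⊔ C) := by rw [mul_comm (N.relIndex C), h1]
      _ = _ := by rw [← h3]; ring
  rw [h5, ← Subgroup.relIndex_mul_index (le_sup_right : C ≤ N ⊔ C)]
  exact dvd_mul_right _ _

theorem HasOddAbelian.normal {H : Type u} [Group H] [Finite H] (h : HasOddAbelian H) (N : Subgroup H) [N.Normal] :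
    HasOddAbelian ↥N := by
  obtain ⟨C, hC, hodd, k, hk⟩ := h
  refine ⟨C.subgroupOf N, ⟨⟨fun a b => Subtype.ext (Subtype.ext ?_)⟩⟩, ?_, ?_⟩
  · have := congrArg Subtype.val (hC.is_comm.comm (⟨((a : N) : H), a.2⟩ : C) ⟨((b : N) : H), b.2⟩)
    exact this
  · refine hodd.of_dvd_nat ?_
    rw [← Subgroup.card_map_of_injective N.subtype_injective, Subgroup.subgroupOf_map_subtype]
    exact Subgroup.card_dvd_of_le inf_le_left
  · obtain ⟨j, -, hj⟩ := (Nat.dvd_prime_pow Nat.prime_two).1 (hk ▸ relIndex_dvd_index_of_normal' C N)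
    exact ⟨j, hj⟩

theorem HasOddAbelian.quotient {H : Type u} [Group H] [Finite H] (h : HasOddAbelian H) (N : Subgroup H) [N.Normal] :
    HasOddAbelian (H ⧸ N) := by
  obtain ⟨C, hC, hodd, k, hk⟩ := h
  refine ⟨C.map (QuotientGroup.mk' N), inferInstance, hodd.of_dvd_nat (Subgroup.card_map_dvd _ _), ?_⟩
  obtain ⟨j, -, hj⟩ := (Nat.dvd_prime_pow Nat.prime_two).1 (hk ▸ Subgroup.index_map_dvd (f := QuotientGroup.mk' N) (QuotientGroup.mk'_surjective N) (H := C))
  exact ⟨j, hj⟩

theorem HasOddAbelian.solvable (n : ℕ) : ∀ (H : Type u) [Group H] [Finite H], Nat.card H = n → HasOddAbelian H →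
    Group.IsSolvable H := by
  induction n using Nat.strong_induction_on with
  | _ n ih =>
  intro H _ _ hn h
  by_cases hnt : Nontrivial H
  swap
  · rw [not_nontrivial_iff_subsingleton] at hnt
    exact Group.isSolvable_of_comm fun a b => Subsingleton.elim _ _
  by_cases hs : IsSimpleGroup H
  · obtain ⟨C, hC, hodd, k, hk⟩ := h
    by_cases hCb : C = ⊥
    · subst hCb
      rw [Subgroup.index_bot] at hk
      have : Fact (Nat.Prime 2) := ⟨Nat.prime_two⟩
      have := (IsPGroup.of_card hk).isNilpotent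
      infer_instance
    · obtain ⟨c, hc, hc1⟩ := C.bot_or_exists_ne_one.resolve_left hCb
      have hle : C ≤ Subgroup.centralizer ({c} : Set H) := fun x hx => Subgroup.mem_centralizer_singleton_iff.2
        (congrArg Subtype.val (hC.is_comm.comm ⟨x, hx⟩ ⟨c, hc⟩))
      obtain ⟨j, -, hj⟩ := (Nat.dvd_prime_pow Nat.prime_two).1 (hk ▸ Subgroup.index_dvd_of_le hle)
      have hp := Cfsg.Agent.S0143.result 2 j Nat.prime_two c hc1 hj
      have : Fact (Nat.card H).Prime := ⟨hp⟩
      have : IsCyclic H := isCyclic_of_prime_card rfl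
      exact Group.isSolvable_of_comm fun a b => IsMulCommutative.is_comm.comm a b
  · obtain ⟨N, hN, hNb, hNt⟩ : ∃ N : Subgroup H, N.Normal ∧ N ≠ ⊥ ∧ N ≠ ⊤ := by
      by_contra! hh
      exact hs { eq_bot_or_eq_top_of_normal := fun M hM => or_iff_not_imp_left.2 fun hMb => hh M hM hMb }
    have h1 : Group.IsSolvable ↥N := ih _ (hn ▸ (lt_of_le_of_ne (Subgroup.card_le_card_group N) fun e => hNt (Subgroup.eq_top_of_card_eq N e))) N rfl (h.normal N)
    have h2 : Group.IsSolvable (H ⧸ N) := ih _ (hn ▸ by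
      have := N.card_mul_index
      have h1 : 1 < Nat.card N := (Subgroup.one_lt_card_iff_ne_bot N).2 hNb
      rw [← Subgroup.index_eq_card, ← this]
      exact lt_mul_left (Nat.pos_of_ne_zero Subgroup.index_ne_zero_of_finite) h1) (H ⧸ N) rfl (h.quotient N)
    exact Group.isSolvable_of_ker_le_range N.subtype (QuotientGroup.mk' N) (by simp)

theorem complement_of {H : Type u} [Group H] [Finite H] (h : HasOddAbelian H) :
    ∃ (P : Sylow 2 H) (D : Subgroup H), IsMulCommutative ↥D ∧ Subgroup.IsComplement' (P : Subgroup H) D := by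
  have : Fact (Nat.Prime 2) := ⟨Nat.prime_two⟩
  obtain ⟨C, hC, hodd, k, hk⟩ := h
  obtain ⟨P⟩ := (inferInstance : Nonempty (Sylow 2 H))
  refine ⟨P, C, hC, Subgroup.isComplement'_of_coprime ?_ ?_⟩
  · show Nat.card (P : Subgroup H) * _ = _
    rw [P.card_eq_multiplicity, ← C.card_mul_index, hk, Nat.factorization_mul (Nat.card_pos.ne') (by positivity),
      Finsupp.add_apply, Nat.factorization_eq_zero_of_not_dvd hodd.not_two_dvd_nat, zero_add,
      Nat.prime_two.factorization_pow, Finsupp.single_eq_same, mul_comm]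
  · show Nat.Coprime (Nat.card (P : Subgroup H)) _
    rw [P.card_eq_multiplicity]
    exact (Nat.coprime_two_left.2 hodd).pow_left _

/-- Let H be a finite group in which a Sylow 2-subgroup has an abelian complement (an abelian subgroup meeting it trivially whose product with it is all of H). Then H is solvable, and every subgroup and every quotient group of H again has a Sylow 2-subgroup with an abelian complement. -/
theorem result {H : Type*} [Group H] [Finite H]
    (S : Sylow 2 H) (C : Subgroup H) (hC : IsMulCommutative ↥C) (hSC : Subgroup.IsComplement' (S : Subgroup H) C) :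
    Group.IsSolvable H ∧
    (∀ L : Subgroup H, ∃ (P : Sylow 2 ↥L) (D : Subgroup ↥L), IsMulCommutative ↥D ∧ Subgroup.IsComplement' (P : Subgroup ↥L) D) ∧
    (∀ (N : Subgroup H) [N.Normal], ∃ (P : Sylow 2 (H ⧸ N)) (D : Subgroup (H ⧸ N)),
      IsMulCommutative ↥D ∧ Subgroup.IsComplement' (P : Subgroup (H ⧸ N)) D) := by
  have : Fact (Nat.Prime 2) := ⟨Nat.prime_two⟩
  have hSi : (S : Subgroup H).index = Nat.card C := hSC.symm.index_eq_card
  have hodd : Odd (Nat.card C) := by
    rw [← hSi, Nat.odd_iff]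
    have := S.not_dvd_index
    omega
  obtain ⟨k, hk⟩ := IsPGroup.iff_card.1 S.isPGroup'
  have hCi : C.index = 2 ^ k := by rw [hSC.index_eq_card]; exact hk
  have hH : HasOddAbelian H := ⟨C, hC, hodd, k, hCi⟩
  have hsol : Group.IsSolvable H := HasOddAbelian.solvable _ H rfl hH
  refine ⟨hsol, fun L => complement_of ?_, fun N _ => complement_of (hH.quotient N)⟩
  obtain ⟨a, m, hm, hLc⟩ := Nat.exists_eq_two_pow_mul_odd (n := Nat.card L) Nat.card_pos.ne'
  obtain ⟨D, hD⟩ := Cfsg.Agent.S0003.result (G := L) m (2 ^ a) (by rw [hLc, mul_comm]) ((Nat.coprime_two_right.2 hm).pow_right _)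
  have hDc : Nat.card (D.map L.subtype) = m := (Subgroup.card_map_of_injective L.subtype_injective).trans hD
  obtain ⟨K, hK, hDK⟩ := Cfsg.Agent.S0005.result (G := H) (Nat.card C) (2 ^ k) (by rw [← hCi, Subgroup.card_mul_index])
    ((Nat.coprime_two_right.2 hodd).pow_right _) (D.map L.subtype) (by rw [hDc]; exact (Nat.coprime_two_right.2 hm).pow_right _)
  obtain ⟨g, hg⟩ := Cfsg.Agent.S0004.result (G := H) (Nat.card C) (2 ^ k) (by rw [← hCi, Subgroup.card_mul_index])
    ((Nat.coprime_two_right.2 hodd).pow_right _) C K rfl hK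
  refine ⟨D, ⟨⟨fun x y => Subtype.ext (Subtype.ext ?_)⟩⟩, hD ▸ hm, a, ?_⟩
  · have hmem : ∀ z : D, ((z : L) : H) ∈ MulAut.conj g • C := fun z => hg ▸ hDK ⟨z, z.2, rfl⟩
    obtain ⟨u, hu, hue⟩ := hmem x
    obtain ⟨v, hv, hve⟩ := hmem y
    show ((x : L) : H) * ((y : L) : H) = ((y : L) : H) * ((x : L) : H)
    rw [← hue, ← hve]
    exact (map_mul _ u v).symm.trans ((congrArg _ (congrArg Subtype.val (hC.is_comm.comm (⟨u, hu⟩ : C) ⟨v, hv⟩))).trans (map_mul _ v u))
  · have := D.card_mul_index
    rw [hD, hLc, mul_comm (2 ^ a)] at this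
    exact Nat.eq_of_mul_eq_mul_left hm.pos this

end Cfsg.Agent.S3200
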