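import Cfsg.Statements.S3201
import Cfsg.Agent.S0016
import Cfsg.Agent.PGroups.Basic

set_option autoImplicit false
open Cfsg

namespace Cfsg.Agent.S3201

/-- Let S be a finite 2-group whose centre Z(S) has n ≥ 2 distinct maximal subgroups C₁, …, Cₙ with trivial intersection such that each quotient S/Cᵢ is a non-abelian group with exactly one involution (a generalized quaternion group). Then S is the internal direct product of an elementary abelian subgroup and a non-abelian subgroup with exactly one involution. -/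
theorem result {S : Type*} [Group S] [Finite S]
    (hS : IsPGroup 2 S) (n : ℕ) (hn : 2 ≤ n) (C : Fin n → Subgroup ↥(Subgroup.center S))
    (hCmax : ∀ i, IsCoatom (C i)) (hCinj : Function.Injective C) (hCint : ⨅ i, C i = ⊥)
    (hCq : ∀ i, ∃ (_ : ((C i).map (Subgroup.center S).subtype).Normal),
      ¬ IsMulCommutative (S ⧸ (C i).map (Subgroup.center S).subtype) ∧
      ∃! x : S ⧸ (C i).map (Subgroup.center S).subtype, orderOf x = 2) :
    ∃ E Q : Subgroup S, Cfsg.IsInternalDirectProduct E Q ⊤ ∧ Cfsg.IsElementaryAbelian 2 E ∧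
      ¬ IsMulCommutative ↥Q ∧ ∃! x : ↥Q, orderOf x = 2 := by
  haveI := Fact.mk Nat.prime_two
  have hZd : ∀ i, (C i).index = 2 := fun i =>
    (Cfsg.Lib.PGroups.coatom_normal_index (hS.to_subgroup (Subgroup.center S)) (hCmax i)).2
  set Dm : Fin n → Subgroup S := fun i => (C i).map (Subgroup.center S).subtype with hDm
  have hmem : ∀ i (g : S) (hg : g ∈ Subgroup.center S), g ∈ Dm i ↔ (⟨g, hg⟩ : Subgroup.center S) ∈ C i := fun i g hg =>
    ⟨fun ⟨v, hv, he⟩ => by rw [show (⟨g, hg⟩ : Subgroup.center S) = v from Subtype.ext he.symm]; exact hv, fun h => ⟨_, h, rfl⟩⟩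
  -- the centre is elementary
  have hZe : ∀ g ∈ Subgroup.center S, g * g = 1 := fun g hg => by
    have h1 : (⟨g, hg⟩ : Subgroup.center S) * ⟨g, hg⟩ ∈ ⨅ i, C i := Subgroup.mem_iInf.2 fun i =>
      Subgroup.mul_self_mem_of_index_two (hZd i) _
    rw [hCint, Subgroup.mem_bot] at h1
    exact congrArg Subtype.val h1
  -- an element outside the centre with central square has its square outside every `C i`
  have hsq : ∀ g : S, g ∉ Subgroup.center S → g * g ∈ Subgroup.center S → ∀ i, g * g ∉ Dm i := by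
    intro g hg hgg i hgi
    obtain ⟨hn', -, x, hx, hxu⟩ := hCq i
    haveI := hn'
    obtain ⟨z, hz⟩ : ∃ z : Subgroup.center S, z ∉ C i := by
      by_contra h
      push Not at h
      exact (hCmax i).1 (eq_top_iff.2 fun z _ => h z)
    have hout : ∀ v : S, v ∉ Dm i → v * v ∈ Dm i → orderOf (v : S ⧸ Dm i) = 2 := fun v hv hvv => by
      refine orderOf_eq_prime ?_ fun h => hv ((QuotientGroup.eq_one_iff v).1 h)
      rw [pow_two, ← QuotientGroup.mk_mul]
      exact (QuotientGroup.eq_one_iff _).2 hvv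
    have hzD : (z : S) ∉ Dm i := fun h => hz ((hmem i _ z.2).1 h)
    have hgD : g ∉ Dm i := fun h => hg (Subgroup.map_subtype_le _ h)
    have h2 := (hxu _ (hout g hgD hgi)).trans (hxu _ (hout z hzD (by rw [hZe z z.2]; exact one_mem _))).symm
    have h3 := QuotientGroup.eq.1 h2
    have h4 : g⁻¹ ∈ Subgroup.center S := by
      have := Subgroup.mul_mem _ (Subgroup.map_subtype_le _ h3) (Subgroup.inv_mem _ z.2)
      rwa [mul_inv_cancel_right] at this
    exact hg (inv_mem_iff.1 h4)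
  have huniq2 : ∀ u v : S, ∀ hu : u ∈ Subgroup.center S, ∀ hv : v ∈ Subgroup.center S,
      (∀ i, u ∉ Dm i) → (∀ i, v ∉ Dm i) → u = v := by
    intro u v hu hv hun hvn
    have h1 : (⟨u, hu⟩ : Subgroup.center S) * ⟨v, hv⟩ ∈ ⨅ i, C i := Subgroup.mem_iInf.2 fun i => by
      rw [Subgroup.mul_mem_iff_of_index_two (hZd i), ← hmem i u hu, ← hmem i v hv]
      simp [hun i, hvn i]
    rw [hCint, Subgroup.mem_bot] at h1
    have h2 : u * v = 1 := congrArg Subtype.val h1
    rw [← mul_inv_eq_one, inv_eq_of_mul_eq_one_left (hZe v hv)]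
    exact h2
  -- the first quotient
  let i0 : Fin n := ⟨0, by omega⟩
  obtain ⟨hDn, hna, x0, hx0, hx0u⟩ := hCq i0
  set D := Dm i0 with hD
  haveI := hDn
  rcases Cfsg.Agent.S0016.result 2 (hS.to_quotient D) (fun H K hH hK => by
      obtain ⟨u, hu⟩ := exists_prime_orderOf_dvd_card' 2 (hH ▸ dvd_rfl : 2 ∣ Nat.card H)
      obtain ⟨v, hv⟩ := exists_prime_orderOf_dvd_card' 2 (hK ▸ dvd_rfl : 2 ∣ Nat.card K)
      have e1 := hx0u _ ((Subgroup.orderOf_coe u).trans hu)
      have e2 := hx0u _ ((Subgroup.orderOf_coe v).trans hv)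
      have hH' : Subgroup.zpowers x0 = H := Subgroup.eq_of_le_of_card_ge (Subgroup.zpowers_le.2 (e1 ▸ u.2)) (by rw [hH, Nat.card_zpowers, hx0])
      have hK' : Subgroup.zpowers x0 = K := Subgroup.eq_of_le_of_card_ge (Subgroup.zpowers_le.2 (e2 ▸ v.2)) (by rw [hK, Nat.card_zpowers, hx0])
      exact hH'.symm.trans hK') with hc | ⟨-, m, ⟨e⟩⟩
  · exact absurd ⟨⟨fun a b => @mul_comm' _ _ (@IsCyclic.isMulCommutative _ _ hc) a b⟩⟩ hna
  set f := QuotientGroup.mk' D with hf
  haveI : NeZero (2 ^ m) := ⟨pow_ne_zero _ two_ne_zero⟩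
  obtain ⟨k, rfl⟩ : ∃ k, m = k + 1 := by
    rcases m with _ | k
    · exfalso
      refine hna ⟨⟨fun a b => ?_⟩⟩
      refine IsPGroup.commutative_of_card_eq_prime_sq (p := 2) ?_ a b
      rw [Nat.card_congr e.toEquiv, Nat.card_eq_fintype_card, QuaternionGroup.card]
      norm_num
    · exact ⟨k, rfl⟩
  obtain ⟨a0, ha0⟩ := QuotientGroup.mk'_surjective D (e.symm (QuaternionGroup.a 1))
  obtain ⟨y, hy⟩ := QuotientGroup.mk'_surjective D (e.symm (QuaternionGroup.xa 0))
  have hea : e (f a0) = QuaternionGroup.a 1 := by rw [ha0, MulEquiv.apply_symm_apply]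
  have hey : e (f y) = QuaternionGroup.xa 0 := by rw [hy, MulEquiv.apply_symm_apply]
  have hord4 : ∀ g : S, orderOf (e (f g)) = 4 → g ∉ Subgroup.center S := fun g h hg => by
    have h1 : orderOf (e (f g)) ∣ 2 := orderOf_dvd_of_pow_eq_one (by rw [← map_pow, ← map_pow, pow_two, hZe g hg, map_one, map_one])
    rw [h] at h1
    norm_num at h1
  -- elements with the involution as image are central
  have hinv : ∀ g : S, e (f g) = QuaternionGroup.a (2 ^ (k + 1) : ℕ) → g ∈ Subgroup.center S := by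
    intro g hg
    obtain ⟨z, hz⟩ : ∃ z : Subgroup.center S, z ∉ C i0 := by
      by_contra h
      push Not at h
      exact (hCmax i0).1 (eq_top_iff.2 fun z _ => h z)
    have h1 : orderOf (f g) = 2 := by
      rw [← MulEquiv.orderOf_eq e, hg, QuaternionGroup.orderOf_a, ZMod.val_natCast, Nat.mod_eq_of_lt (by have := Nat.two_pow_pos (k + 1); omega), Nat.gcd_mul_left_left, Nat.mul_div_cancel _ (Nat.two_pow_pos _)]
    have h2 : orderOf (f z) = 2 := by
      refine orderOf_eq_prime (by rw [← map_pow, pow_two, hZe z z.2, map_one]) fun h => hz ((hmem i0 _ z.2).1 ((QuotientGroup.eq_one_iff _).1 h))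
    have h3 := QuotientGroup.eq.1 ((hx0u _ h1).trans (hx0u _ h2).symm)
    have := Subgroup.mul_mem _ (Subgroup.map_subtype_le _ h3) (Subgroup.inv_mem _ z.2)
    rw [mul_inv_cancel_right] at this
    exact inv_mem_iff.1 this
  set w := a0 ^ 2 ^ k with hw
  have hew : e (f w) = QuaternionGroup.a (2 ^ k : ℕ) := by rw [hw, map_pow, map_pow, hea, QuaternionGroup.a_one_pow]
  have hw4 : w ∉ Subgroup.center S := hord4 w (by
    have hlt := Nat.two_pow_pos k
    have e2 : 2 ^ (k + 1) = 2 * 2 ^ k := pow_succ' 2 k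
    rw [hew, QuaternionGroup.orderOf_a, ZMod.val_natCast, Nat.mod_eq_of_lt (by omega), e2,
      show 2 * (2 * 2 ^ k) = 4 * 2 ^ k by ring, Nat.gcd_mul_left_left, Nat.mul_div_cancel _ hlt])
  have hwc : w * w ∈ Subgroup.center S := hinv _ (by
    rw [map_mul, map_mul, hew, QuaternionGroup.a_mul_a, ← Nat.cast_add]
    congr 2
    ring)
  have hyy : ∀ i : ZMod (2 * 2 ^ (k + 1)), ∀ g : S, e (f g) = QuaternionGroup.xa i → g * g = w * w := by
    intro i g hg
    have hgc : g * g ∈ Subgroup.center S := hinv _ (by rw [map_mul, map_mul, hg, ← pow_two, QuaternionGroup.xa_sq])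
    exact huniq2 _ _ hgc hwc (hsq g (hord4 g (by rw [hg, QuaternionGroup.orderOf_xa])) hgc) (hsq w hw4 hwc)
  -- the relation
  have hrel : y * a0 * y⁻¹ = a0⁻¹ := by
    have h1 := hyy 0 y hey
    have h2 := hyy 1 (y * a0) (by rw [map_mul, map_mul, hey, hea, QuaternionGroup.xa_mul_a, zero_add])
    have h3 : a0 * (y * a0) = y := mul_left_cancel (show y * (a0 * (y * a0)) = y * y by rw [h1, ← h2]; group)
    calc y * a0 * y⁻¹ = a0⁻¹ * (a0 * (y * a0)) * y⁻¹ := by group
      _ = a0⁻¹ := by rw [h3, mul_inv_cancel_right]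
  have hrel' : ∀ j : ℤ, y * a0 ^ j = a0 ^ (-j) * y := fun j => by
    rw [← mul_inv_eq_iff_eq_mul, ← conj_zpow, hrel, inv_zpow, zpow_neg]
  have hy2 : y * y = a0 ^ ((2 ^ (k + 1) : ℕ) : ℤ) := by
    rw [hyy 0 y hey, zpow_natCast, hw, ← pow_add, ← two_mul, ← pow_succ']
  let Q : Subgroup S :=
    { carrier := {g | ∃ i : ℤ, g = a0 ^ i ∨ g = a0 ^ i * y}
      one_mem' := ⟨0, Or.inl (zpow_zero a0).symm⟩
      mul_mem' := by
        rintro _ _ ⟨i, rfl | rfl⟩ ⟨j, rfl | rfl⟩
        · exact ⟨i + j, Or.inl (zpow_add a0 i j).symm⟩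
        · exact ⟨i + j, Or.inr (by rw [zpow_add, mul_assoc])⟩
        · exact ⟨i + -j, Or.inr (by rw [mul_assoc, hrel', zpow_add, mul_assoc])⟩
        · refine ⟨i + -j + ((2 ^ (k + 1) : ℕ) : ℤ), Or.inl ?_⟩
          rw [show a0 ^ i * y * (a0 ^ j * y) = a0 ^ i * (y * a0 ^ j) * y by group, hrel', zpow_add, zpow_add, ← hy2]
          group
      inv_mem' := by
        rintro _ ⟨i, rfl | rfl⟩
        · exact ⟨-i, Or.inl (zpow_neg a0 i).symm⟩
        · refine ⟨i - ((2 ^ (k + 1) : ℕ) : ℤ), Or.inr (inv_eq_of_mul_eq_one_right ?_)⟩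
          rw [show a0 ^ i * y * (a0 ^ (i - ((2 ^ (k + 1) : ℕ) : ℤ)) * y) = a0 ^ i * (y * a0 ^ (i - ((2 ^ (k + 1) : ℕ) : ℤ))) * y by group,
            hrel', show a0 ^ i * (a0 ^ (-(i - ((2 ^ (k + 1) : ℕ) : ℤ))) * y) * y = a0 ^ i * a0 ^ (-(i - ((2 ^ (k + 1) : ℕ) : ℤ))) * (y * y) by group,
            hy2, ← zpow_add, ← zpow_add, zpow_eq_one_iff_modEq]
          have hord : (orderOf a0 : ℤ) ∣ 2 * ((2 ^ (k + 1) : ℕ) : ℤ) := by
            rw [← Nat.cast_two, ← Nat.cast_mul, Int.natCast_dvd_natCast]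
            refine orderOf_dvd_of_pow_eq_one ?_
            have e2 : 2 * 2 ^ (k + 1) = (2 ^ k + 2 ^ k) * 2 := by ring
            rw [e2, pow_mul, pow_add, ← hw, pow_two, hZe _ hwc]
          rw [Int.modEq_zero_iff_dvd]
          convert hord using 1
          ring }
  have ha0Q : a0 ∈ Q := ⟨1, Or.inl (zpow_one a0).symm⟩
  have hyQ : y ∈ Q := ⟨0, Or.inr (by rw [zpow_zero, one_mul])⟩
  have hker : ∀ g ∈ Q, f g = 1 → g = 1 := by
    rintro _ ⟨i, rfl | rfl⟩ hfg
    · have h1 : (QuaternionGroup.a 1 : QuaternionGroup (2 ^ (k + 1))) ^ i = 1 := by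
        rw [← hea, ← map_zpow, ← map_zpow, hfg, map_one]
      rw [zpow_eq_one_iff_modEq, QuaternionGroup.orderOf_a_one, Int.modEq_zero_iff_dvd] at h1
      obtain ⟨c, rfl⟩ := h1
      rw [zpow_mul, zpow_natCast, show 2 * 2 ^ (k + 1) = (2 ^ k + 2 ^ k) * 2 by ring, pow_mul, pow_add, ← hw, pow_two, hZe _ hwc, one_zpow]
    · exfalso
      obtain ⟨j, hj⟩ : ∃ j, (QuaternionGroup.a 1 : QuaternionGroup (2 ^ (k + 1))) ^ i = QuaternionGroup.a j := by
        obtain ⟨nn, hnn⟩ : ∃ nn : ℕ, i % (orderOf (QuaternionGroup.a 1 : QuaternionGroup (2 ^ (k + 1))) : ℤ) = nn :=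
          ⟨_, (Int.toNat_of_nonneg (Int.emod_nonneg i (by exact_mod_cast (orderOf_pos _).ne'))).symm⟩
        refine ⟨(nn : ZMod (2 * 2 ^ (k + 1))), ?_⟩
        rw [← zpow_mod_orderOf, hnn, zpow_natCast, QuaternionGroup.a_one_pow]
      have h1 := congrArg e hfg
      rw [map_one, map_mul, map_mul, map_zpow, map_zpow, hea, hey, hj, QuaternionGroup.a_mul_xa] at h1
      simp only [QuaternionGroup.one_def] at h1
      cases h1
  have htop : D ⊔ Q = ⊤ := by
    rw [eq_top_iff]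
    intro g _
    have key : ∀ q ∈ Q, f q = f g → g ∈ D ⊔ Q := fun q hq h => by
      have : g = (g * q⁻¹) * q := by group
      rw [this]
      refine Subgroup.mul_mem_sup ?_ hq
      rw [← QuotientGroup.eq_one_iff, QuotientGroup.mk_mul, QuotientGroup.mk_inv]
      exact mul_inv_eq_one.2 h.symm
    cases hg : e (f g) with
    | a i =>
      refine key (a0 ^ (i.val : ℤ)) ⟨_, Or.inl rfl⟩ (e.injective ?_)
      rw [hg, zpow_natCast, map_pow, map_pow, hea, QuaternionGroup.a_one_pow, ZMod.natCast_zmod_val]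
    | xa i =>
      refine key (y * a0 ^ (i.val : ℤ)) (Q.mul_mem hyQ ⟨_, Or.inl rfl⟩) (e.injective ?_)
      rw [hg, zpow_natCast, map_mul, map_mul, hey, map_pow, map_pow, hea, QuaternionGroup.a_one_pow, ZMod.natCast_zmod_val,
        QuaternionGroup.xa_mul_a, zero_add]
  have hfi : Function.Injective (f.comp Q.subtype) := (injective_iff_map_eq_one _).2 fun g hg => Subtype.ext (hker g g.2 hg)
  refine ⟨D, Q, ⟨le_top, le_top, fun a ha b _ => (Subgroup.mem_center_iff.1 (Subgroup.map_subtype_le _ ha) b).symm, ?_, htop⟩, ⟨⟨⟨fun a b => Subtype.ext ?_⟩⟩, fun a ha => ?_⟩, ?_, ?_⟩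
  · rw [Subgroup.eq_bot_iff_forall]
    exact fun g hg => hker g hg.2 ((QuotientGroup.eq_one_iff g).2 hg.1)
  · exact (Subgroup.mem_center_iff.1 (Subgroup.map_subtype_le _ a.2) b).symm
  · rw [pow_two]; exact hZe a (Subgroup.map_subtype_le _ ha)
  · intro h
    refine hw4 (Subgroup.mem_center_iff.2 fun g => ?_)
    obtain ⟨d, hd, q, hq, rfl⟩ := Subgroup.mem_sup_of_normal_left.1 (htop ▸ Subgroup.mem_top g)
    have h1 : q * w = w * q := congrArg Subtype.val (h.is_comm.comm (⟨q, hq⟩ : Q) ⟨w, Q.pow_mem ha0Q _⟩)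
    rw [mul_assoc, h1, ← mul_assoc, ← mul_assoc, ← (Subgroup.mem_center_iff.1 (Subgroup.map_subtype_le _ hd) w)]
  · refine ⟨⟨w * w, Q.mul_mem (Q.pow_mem ha0Q _) (Q.pow_mem ha0Q _)⟩, ?_, fun q hq => ?_⟩
    · refine orderOf_eq_prime (Subtype.ext (by rw [pow_two]; exact hZe _ hwc)) fun h => ?_
      exact hsq w hw4 hwc i0 (by rw [show w * w = 1 from congrArg Subtype.val h]; exact one_mem _)
    · refine hfi ((hx0u _ ?_).trans (hx0u _ ?_).symm)
      · exact (orderOf_injective _ hfi q).trans hq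
      · refine (orderOf_injective _ hfi _).trans ?_
        refine orderOf_eq_prime (Subtype.ext (by rw [pow_two]; exact hZe _ hwc)) fun h => ?_
        exact hsq w hw4 hwc i0 (by rw [show w * w = 1 from congrArg Subtype.val h]; exact one_mem _)

end Cfsg.Agent.S3201
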