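import Cfsg.Statements.S3202
import Cfsg.Agent.S0016

set_option autoImplicit false
open Cfsg

namespace Cfsg.Agent.S3202

/-- Let S be a finite 2-group of 2-rank exactly 2 and D a maximal subgroup of the centre of S such that S/D is a non-abelian group with exactly one involution (a generalized quaternion group). Then S has a nontrivial cyclic characteristic subgroup. -/
theorem result {S : Type*} [Group S]
    [Finite S] (hS : IsPGroup 2 S) (hr2 : Cfsg.PRankLE 2 2 S) (hr1 : ¬ Cfsg.PRankLE 2 1 S)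
    (D : Subgroup ↥(Subgroup.center S)) (hD : IsCoatom D)
    (hq : ∃ (_ : (D.map (Subgroup.center S).subtype).Normal),
      ¬ IsMulCommutative (S ⧸ D.map (Subgroup.center S).subtype) ∧
      ∃! x : S ⧸ D.map (Subgroup.center S).subtype, orderOf x = 2) :
    ∃ C : Subgroup S, C ≠ ⊥ ∧ IsCyclic ↥C ∧ C.Characteristic := by
  haveI := Fact.mk Nat.prime_two
  obtain ⟨hDn, hna, hu⟩ := hq
  set Dz := D.map (Subgroup.center S).subtype with hDz
  haveI := hDn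
  have hDc : Dz ≤ Subgroup.center S := Subgroup.map_subtype_le _
  have huniq : ∃! H : Subgroup (S ⧸ Dz), Nat.card H = 2 := by
    obtain ⟨x, hx, hxu⟩ := hu
    refine ⟨Subgroup.zpowers x, (Nat.card_zpowers x).trans hx, fun H hH => ?_⟩
    obtain ⟨v, hv⟩ := exists_prime_orderOf_dvd_card' 2 (hH ▸ dvd_rfl : 2 ∣ Nat.card H)
    have hvx : (v : S ⧸ Dz) = x := hxu _ ((Subgroup.orderOf_coe v).trans hv)
    exact (Subgroup.eq_of_le_of_card_ge (Subgroup.zpowers_le.2 (hvx ▸ v.2)) (by rw [hH, Nat.card_zpowers, hx])).symm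
  rcases Cfsg.Agent.S0016.result 2 (hS.to_quotient Dz) (fun H K hH hK => huniq.unique hH hK) with hc | ⟨-, m, ⟨e⟩⟩
  · exact absurd ⟨⟨fun a b => @mul_comm' _ _ (@IsCyclic.isMulCommutative _ _ hc) a b⟩⟩ hna
  obtain ⟨a0, ha0⟩ := QuotientGroup.mk'_surjective Dz (e.symm (QuaternionGroup.a 1))
  obtain ⟨y, hy⟩ := QuotientGroup.mk'_surjective Dz (e.symm (QuaternionGroup.xa 0))
  set f := QuotientGroup.mk' Dz with hf
  set A := (Subgroup.zpowers (f a0)).comap f with hA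
  haveI : NeZero (2 ^ m) := ⟨pow_ne_zero _ two_ne_zero⟩
  have hAdec : ∀ a ∈ A, ∃ i : ℤ, ∃ d ∈ Dz, a = a0 ^ i * d := by
    intro a ha
    obtain ⟨i, hi⟩ := Subgroup.mem_zpowers_iff.1 (Subgroup.mem_comap.1 ha)
    rw [← map_zpow] at hi
    exact ⟨i, (a0 ^ i)⁻¹ * a, QuotientGroup.eq.1 hi, by group⟩
  have hcd : ∀ d ∈ Dz, ∀ g : S, d * g = g * d := fun d hd g => (Subgroup.mem_center_iff.1 (hDc hd) g).symm
  have hAc : ∀ a ∈ A, ∀ b ∈ A, a * b = b * a := by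
    intro a ha b hb
    obtain ⟨i, d, hd, rfl⟩ := hAdec a ha
    obtain ⟨j, d', hd', rfl⟩ := hAdec b hb
    exact ((Commute.mul_left (Commute.mul_right (Commute.zpow_zpow_self a0 i j) (hcd d' hd' _).symm) (hcd d hd _))).eq
  have hall : ∀ g : S, g ∈ A ∨ y⁻¹ * g ∈ A := by
    intro g
    cases hg : e (f g) with
    | a i =>
      refine Or.inl (Subgroup.mem_comap.2 ⟨(i.val : ℤ), e.injective ?_⟩)
      dsimp only
      rw [zpow_natCast, map_pow, ha0, MulEquiv.apply_symm_apply, QuaternionGroup.a_one_pow, ZMod.natCast_zmod_val, hg]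
    | xa i =>
      refine Or.inr (Subgroup.mem_comap.2 ⟨(i.val : ℤ), e.injective ?_⟩)
      dsimp only
      rw [zpow_natCast, map_pow, ha0, MulEquiv.apply_symm_apply, QuaternionGroup.a_one_pow, ZMod.natCast_zmod_val,
        map_mul, map_mul, map_inv, map_inv, hy, MulEquiv.apply_symm_apply, hg, eq_inv_mul_iff_mul_eq,
        QuaternionGroup.xa_mul_a, zero_add]
  have hconjA : ∀ a ∈ A, y * a * y⁻¹ ∈ A := by
    intro a ha
    obtain ⟨i, d, hd, rfl⟩ := hAdec a ha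
    rw [show y * (a0 ^ i * d) * y⁻¹ = (y * a0 * y⁻¹) ^ i * (y * d * y⁻¹) by rw [conj_zpow]; group,
      ← hcd d hd, mul_inv_cancel_right]
    refine A.mul_mem (A.zpow_mem (Subgroup.mem_comap.2 ⟨-1, e.injective ?_⟩) _) (Subgroup.mem_comap.2 ?_)
    · dsimp only
      rw [zpow_neg_one, map_mul, map_mul, map_inv, map_inv, map_mul, map_mul, map_inv, ha0, hy, MulEquiv.apply_symm_apply,
        MulEquiv.apply_symm_apply, eq_mul_inv_iff_mul_eq,
        show (QuaternionGroup.a 1 : QuaternionGroup (2 ^ m))⁻¹ = QuaternionGroup.a (-1) from rfl,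
        QuaternionGroup.a_mul_xa, QuaternionGroup.xa_mul_a]
      congr 1; ring
    · rw [show f d = 1 from (QuotientGroup.eq_one_iff d).2 hd]; exact one_mem _
  let φ : A →* S := MonoidHom.mk' (fun a => y * a * y⁻¹ * (a : S)⁻¹) fun a b => by
    show y * ((a : S) * b) * y⁻¹ * ((a : S) * b)⁻¹ = y * a * y⁻¹ * (a : S)⁻¹ * (y * b * y⁻¹ * (b : S)⁻¹)
    rw [show y * ((a : S) * b) * y⁻¹ * ((a : S) * b)⁻¹ = y * a * y⁻¹ * ((y * b * y⁻¹ * (b : S)⁻¹) * (a : S)⁻¹) by group,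
      hAc _ (A.mul_mem (hconjA b b.2) (A.inv_mem b.2)) _ (A.inv_mem a.2)]
    group
  set R := φ.range with hR
  have ha0A : a0 ∈ A := Subgroup.mem_comap.2 (Subgroup.mem_zpowers _)
  have hRcyc : R ≤ Subgroup.zpowers (φ ⟨a0, ha0A⟩) := by
    rintro _ ⟨⟨a, ha⟩, rfl⟩
    obtain ⟨i, d, hd, rfl⟩ := hAdec a ha
    refine ⟨i, ?_⟩
    show φ ⟨a0, ha0A⟩ ^ i = y * (a0 ^ i * d) * y⁻¹ * (a0 ^ i * d)⁻¹
    rw [← map_zpow]
    show y * a0 ^ i * y⁻¹ * (a0 ^ i)⁻¹ = _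
    rw [show y * (a0 ^ i * d) * y⁻¹ * (a0 ^ i * d)⁻¹ = y * a0 ^ i * ((d * y⁻¹) * (d⁻¹ * (a0 ^ i)⁻¹)) by group, hcd d hd y⁻¹]
    group
  have hRA : R ≤ A := by
    rintro _ ⟨a, rfl⟩
    exact A.mul_mem (hconjA a a.2) (A.inv_mem a.2)
  have hRn : R.Normal := by
    refine ⟨fun r hr g => ?_⟩
    obtain ⟨a, rfl⟩ := hr
    have hy' : ∀ g ∈ A, g * φ a * g⁻¹ = φ a := fun g hg => by
      rw [hAc g hg _ (hRA ⟨a, rfl⟩), mul_inv_cancel_right]
    rcases hall g with h | h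
    · rw [hy' g h]; exact ⟨a, rfl⟩
    · refine ⟨⟨y * a * y⁻¹, hconjA a a.2⟩, ?_⟩
      rw [show g * φ a * g⁻¹ = y * ((y⁻¹ * g) * φ a * (y⁻¹ * g)⁻¹) * y⁻¹ by group, hy' _ h]
      show y * (y * a * y⁻¹) * y⁻¹ * (y * a * y⁻¹)⁻¹ = y * (y * a * y⁻¹ * (a : S)⁻¹) * y⁻¹
      group
  haveI := hRn
  have hle : commutator S ≤ R := by
    rw [← Subgroup.Normal.quotient_commutative_iff_commutator_le]
    have hya : ∀ a ∈ A, Commute ((y : S) : S ⧸ R) (a : S ⧸ R) := fun a ha => by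
      have h1 : ((y * a * y⁻¹ * a⁻¹ : S) : S ⧸ R) = 1 := (QuotientGroup.eq_one_iff _).2 ⟨⟨a, ha⟩, rfl⟩
      rw [QuotientGroup.mk_mul, QuotientGroup.mk_mul, QuotientGroup.mk_mul, QuotientGroup.mk_inv, QuotientGroup.mk_inv] at h1
      exact mul_inv_eq_iff_eq_mul.1 (mul_inv_eq_one.1 h1)
    have hgen : ∀ g : S, ∃ a ∈ A, ∃ k : ℕ, (g : S ⧸ R) = ((y : S) : S ⧸ R) ^ k * (a : S ⧸ R) := fun g => by
      rcases hall g with h | h
      · exact ⟨g, h, 0, by simp⟩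
      · exact ⟨_, h, 1, by rw [pow_one, ← QuotientGroup.mk_mul, mul_inv_cancel_left]⟩
    refine ⟨⟨fun u v => ?_⟩⟩
    obtain ⟨u, rfl⟩ := QuotientGroup.mk_surjective u
    obtain ⟨v, rfl⟩ := QuotientGroup.mk_surjective v
    obtain ⟨a, ha, i, hu⟩ := hgen u
    obtain ⟨b, hb, j, hv⟩ := hgen v
    rw [hu, hv]
    exact (Commute.mul_left (Commute.mul_right (Commute.pow_pow_self _ i j) ((hya b hb).pow_left i))
      (Commute.mul_right ((hya a ha).pow_left j).symm (by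
        show _ * _ = _ * _
        rw [← QuotientGroup.mk_mul, ← QuotientGroup.mk_mul, hAc a ha b hb]))).eq
  refine ⟨commutator S, fun hbot => hna ⟨⟨fun u v => ?_⟩⟩, ?_, inferInstance⟩
  · obtain ⟨u, rfl⟩ := QuotientGroup.mk_surjective u
    obtain ⟨v, rfl⟩ := QuotientGroup.mk_surjective v
    rw [← QuotientGroup.mk_mul, ← QuotientGroup.mk_mul]
    congr 1
    have h1 : u * v * u⁻¹ * v⁻¹ ∈ commutator S := Subgroup.commutator_mem_commutator (Subgroup.mem_top u) (Subgroup.mem_top v)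
    rw [hbot, Subgroup.mem_bot] at h1
    exact mul_inv_eq_iff_eq_mul.1 (mul_inv_eq_one.1 h1)
  · exact isCyclic_of_injective (Subgroup.inclusion (hle.trans hRcyc)) (Subgroup.inclusion_injective _)

end Cfsg.Agent.S3202
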