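import Cfsg.Statements.S3203
import Cfsg.Agent.InvolCalc.Classes

set_option autoImplicit false
open Cfsg

namespace Cfsg.Agent.S3203

open scoped Pointwise


/-- Let S be a Sylow 2-subgroup of a finite group G having exactly two subgroups A ≠ B that are maximal among its elementary abelian subgroups, with S = AB. Then A and B are each weakly closed in S with respect to G, and the normalizer of S normalizes both A and B. -/
theorem result {G : Type*} [Group G] [Finite G] (S : Sylow 2 G)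
    (A B : Subgroup ↥(S : Subgroup G)) (hAB : A ≠ B)
    (hA : Cfsg.IsElementaryAbelian 2 A ∧ ∀ C : Subgroup ↥(S : Subgroup G), Cfsg.IsElementaryAbelian 2 C → A ≤ C → C = A)
    (hB : Cfsg.IsElementaryAbelian 2 B ∧ ∀ C : Subgroup ↥(S : Subgroup G), Cfsg.IsElementaryAbelian 2 C → B ≤ C → C = B)
    (honly : ∀ C : Subgroup ↥(S : Subgroup G), Cfsg.IsElementaryAbelian 2 C →
      (∀ D : Subgroup ↥(S : Subgroup G), Cfsg.IsElementaryAbelian 2 D → C ≤ D → D = C) → C = A ∨ C = B)
    (hprod : ∀ s : ↥(S : Subgroup G), ∃ a ∈ A, ∃ b ∈ B, a * b = s)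
    (A' B' : Subgroup G) (hA' : A' = A.map (S : Subgroup G).subtype) (hB' : B' = B.map (S : Subgroup G).subtype) :
    Cfsg.IsWeaklyClosed A' (S : Subgroup G) ∧ Cfsg.IsWeaklyClosed B' (S : Subgroup G) ∧
      Subgroup.normalizer ((S : Subgroup G) : Set G) ≤ Subgroup.normalizer (A' : Set G) ⊓ Subgroup.normalizer (B' : Set G) := by
  haveI := Fact.mk Nat.prime_two
  set j := (S : Subgroup G).subtype with hj
  have hjinj : Function.Injective j := Subtype.val_injective
  have hEmap : ∀ (C : Subgroup ↥(S : Subgroup G)) (φ : ↥(S : Subgroup G) ≃* ↥(S : Subgroup G)),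
      Cfsg.IsElementaryAbelian 2 C → Cfsg.IsElementaryAbelian 2 (C.map φ.toMonoidHom) := by
    intro C φ hC
    refine ⟨⟨⟨?_⟩⟩, ?_⟩
    · rintro ⟨_, a, ha, rfl⟩ ⟨_, b, hb, rfl⟩
      refine Subtype.ext ?_
      show φ a * φ b = φ b * φ a
      rw [← map_mul, ← map_mul]
      exact congrArg φ (congrArg Subtype.val (hC.1.is_comm.comm (⟨a, ha⟩ : C) ⟨b, hb⟩) :)
    · rintro _ ⟨a, ha, rfl⟩
      show φ a ^ 2 = 1
      rw [← map_pow, hC.2 a ha, map_one]
  -- an automorphism of `S` permutes `A` and `B`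
  have hperm : ∀ φ : ↥(S : Subgroup G) ≃* ↥(S : Subgroup G), A.map φ.toMonoidHom = A ∨ A.map φ.toMonoidHom = B := by
    intro φ
    refine honly _ (hEmap A φ hA.1) fun D hD hle => ?_
    have hd := hA.2 _ (hEmap D φ.symm hD) fun a ha => ⟨φ a, hle ⟨a, ha, rfl⟩, φ.symm_apply_apply a⟩
    exact le_antisymm (fun d hd' => ⟨φ.symm d, hd ▸ ⟨d, hd', rfl⟩, φ.apply_symm_apply d⟩) hle
  -- `A` and `B` are normal in `S`
  have hnorm : ∀ s : ↥(S : Subgroup G), A.map (MulAut.conj s).toMonoidHom = A := by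
    intro s
    refine (hperm (MulAut.conj s)).resolve_right fun h => hAB ?_
    obtain ⟨a, ha, b, hb, he⟩ := hprod s⁻¹
    rw [← h] at hb
    obtain ⟨a', ha', hba⟩ := hb
    change s * a' * s⁻¹ = b at hba
    have hs : s = a⁻¹ * a'⁻¹ := by
      have h1 : a * (s * a' * s⁻¹) = s⁻¹ := by rw [hba, he]
      calc s = a⁻¹ * (a * (s * a' * s⁻¹)) * (s * a'⁻¹) := by group
        _ = _ := by rw [h1]; group
    rw [← h]
    have hsA : s ∈ A := hs ▸ mul_mem (inv_mem ha) (inv_mem ha')
    ext w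
    constructor
    · exact fun hw => ⟨s⁻¹ * w * s, mul_mem (mul_mem (inv_mem hsA) hw) hsA, show s * (s⁻¹ * w * s) * s⁻¹ = w by group⟩
    · rintro ⟨v, hv, rfl⟩
      exact mul_mem (mul_mem hsA hv) (inv_mem hsA)
  have hnA : A.Normal := ⟨fun a ha s => hnorm s ▸ (⟨a, ha, rfl⟩ : s * a * s⁻¹ ∈ A.map (MulAut.conj s).toMonoidHom)⟩
  -- the normalizer of `S` fixes `A`
  have hNA : ∀ g ∈ Subgroup.normalizer ((S : Subgroup G) : Set G), A'.map (MulAut.conj g).toMonoidHom = A' := by
    intro g hg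
    set N := Subgroup.normalizer ((S : Subgroup G) : Set G)
    let act : N → ↥(S : Subgroup G) ≃* ↥(S : Subgroup G) := fun n =>
      { toFun := fun s => ⟨n * s * (n : G)⁻¹, (Subgroup.mem_normalizer_iff.1 n.2 s).1 s.2⟩
        invFun := fun s => ⟨(n : G)⁻¹ * s * n, by
          have := (Subgroup.mem_normalizer_iff.1 (Subgroup.inv_mem _ n.2) s).1 s.2
          rwa [inv_inv] at this⟩
        left_inv := fun s => Subtype.ext (show (n : G)⁻¹ * (n * s * (n : G)⁻¹) * n = s by group)
        right_inv := fun s => Subtype.ext (show (n : G) * ((n : G)⁻¹ * s * n) * (n : G)⁻¹ = s by group)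
        map_mul' := fun u v => Subtype.ext (show (n : G) * (u * v) * (n : G)⁻¹ = n * u * (n : G)⁻¹ * (n * v * (n : G)⁻¹) by group) }
    have hmul : ∀ m n : N, ∀ C : Subgroup ↥(S : Subgroup G), C.map (act (m * n)).toMonoidHom = (C.map (act n).toMonoidHom).map (act m).toMonoidHom := by
      intro m n C
      rw [Subgroup.map_map]
      congr 1
      ext s
      show (m : G) * n * s * ((m : G) * n)⁻¹ = m * (n * s * (n : G)⁻¹) * (m : G)⁻¹
      group
    let K : Subgroup N :=
      { carrier := {n | A.map (act n).toMonoidHom = A}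
        one_mem' := by
          show A.map (act 1).toMonoidHom = A
          convert Subgroup.map_id A using 2
          ext s
          show (1 : G) * s * (1 : G)⁻¹ = s
          group
        mul_mem' := fun {m n} hm hn => by
          show A.map (act (m * n)).toMonoidHom = A
          rw [hmul, hn, hm]
        inv_mem' := fun {n} hn => by
          show A.map (act n⁻¹).toMonoidHom = A
          conv_lhs => rw [← hn]
          rw [← hmul, inv_mul_cancel]
          convert Subgroup.map_id A using 2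
          ext s
          show (1 : G) * s * (1 : G)⁻¹ = s
          group }
    have hK2 : ∀ m n : N, m ∉ K → n ∉ K → m⁻¹ * n ∈ K := by
      intro m n hm hn
      show A.map (act (m⁻¹ * n)).toMonoidHom = A
      rw [hmul, (hperm (act n)).resolve_left hn, ← (hperm (act m)).resolve_left hm, ← hmul, inv_mul_cancel]
      convert Subgroup.map_id A using 2
      ext s
      show (1 : G) * s * (1 : G)⁻¹ = s
      group
    suffices h : (⟨g, hg⟩ : N) ∈ K by
      have h' : A.map (act ⟨g, hg⟩).toMonoidHom = A := h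
      rw [hA', Subgroup.map_map]
      conv_rhs => rw [← h', Subgroup.map_map]
      rfl
    by_contra hgK
    -- the index of `K` is two
    have hSK : (S : Subgroup G).subgroupOf N ≤ K := by
      intro n hn
      show A.map (act n).toMonoidHom = A
      conv_rhs => rw [← hnorm ⟨n, hn⟩]
      congr 1
    have hidx : K.index = 2 := by
      rw [Subgroup.index_eq_two_iff]
      refine ⟨(⟨g, hg⟩ : N), fun b => ?_⟩
      by_cases hb : b ∈ K
      · exact Or.inr ⟨hb, fun hbg => hgK ((K.mul_mem_cancel_left hb).1 hbg)⟩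
      · refine Or.inl ⟨?_, hb⟩
        by_contra hbg
        have h1 := hK2 b _ hb hbg
        rw [← mul_assoc, inv_mul_cancel, one_mul] at h1
        exact hgK h1
    refine S.not_dvd_index (show 2 ∣ (S : Subgroup G).index from ?_)
    rw [← Subgroup.relIndex_mul_index (Subgroup.le_normalizer : (S : Subgroup G) ≤ N)]
    exact (hidx ▸ Subgroup.index_dvd_of_le hSK).mul_right _
  have hA'S : A' ≤ S := by rw [hA']; exact Subgroup.map_subtype_le _
  have hB'S : B' ≤ S := by rw [hB']; exact Subgroup.map_subtype_le _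
  -- conjugating into `S`
  have main : ∀ (X Y : Subgroup ↥(S : Subgroup G)), X ≠ Y → Cfsg.IsElementaryAbelian 2 X → X.Normal → Y.Normal →
      (∀ C, Cfsg.IsElementaryAbelian 2 C → X ≤ C → C = X) → Cfsg.IsElementaryAbelian 2 Y →
      (∀ C : Subgroup ↥(S : Subgroup G), Cfsg.IsElementaryAbelian 2 C → C ≤ X ∨ C ≤ Y) →
      (∀ g ∈ Subgroup.normalizer ((S : Subgroup G) : Set G), (X.map j).map (MulAut.conj g).toMonoidHom = X.map j) →
      Cfsg.IsWeaklyClosed (X.map j) (S : Subgroup G) := by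
    intro X Y hXY hX hXn hYn hXmax hY hsub hN
    refine ⟨Subgroup.map_subtype_le _, fun g hg => ?_⟩
    set X' := (X.map j).map (MulAut.conj g).toMonoidHom with hX'
    have hcardX : Nat.card X' = Nat.card (X.map j) :=
      (Nat.card_congr (Subgroup.equivMapOfInjective _ _ (MulAut.conj g).injective).toEquiv).symm
    have hC : Cfsg.IsElementaryAbelian 2 (X'.subgroupOf (S : Subgroup G)) := by
      refine ⟨⟨⟨?_⟩⟩, ?_⟩
      · rintro ⟨⟨u, hu⟩, _, ⟨a, ha, rfl⟩, hau⟩ ⟨⟨v, hv⟩, _, ⟨b, hb, rfl⟩, hbv⟩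
        refine Subtype.ext (Subtype.ext ?_)
        change (MulAut.conj g) (j a) = u at hau
        change (MulAut.conj g) (j b) = v at hbv
        show u * v = v * u
        rw [← hau, ← hbv, ← map_mul, ← map_mul, ← map_mul, ← map_mul]
        exact congrArg (fun v => (MulAut.conj g) (j v)) (congrArg Subtype.val (hX.1.is_comm.comm (⟨a, ha⟩ : X) ⟨b, hb⟩) :)
      · rintro ⟨u, hu⟩ ⟨_, ⟨a, ha, rfl⟩, hau⟩
        change (MulAut.conj g) (j a) = u at hau
        refine Subtype.ext ?_
        show u ^ 2 = 1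
        rw [← hau, ← map_pow, ← map_pow, hX.2 a ha, map_one, map_one]
    have hle : ∀ Z : Subgroup ↥(S : Subgroup G), X'.subgroupOf (S : Subgroup G) ≤ Z → X' ≤ Z.map j :=
      fun Z hZ u hu => ⟨⟨u, hg hu⟩, hZ hu, rfl⟩
    rcases hsub _ hC with h | h
    · exact Subgroup.eq_of_le_of_card_ge (hle X h) hcardX.ge
    exfalso
    have hX'Y := hle Y h
    -- a conjugate of `Y` centralises `X`
    set CX := Subgroup.centralizer ((X.map j : Subgroup G) : Set G) with hCX
    set Y' := (Y.map j).map (MulAut.conj g⁻¹).toMonoidHom with hY'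
    have hY'C : Y' ≤ CX := by
      rintro _ ⟨_, ⟨b, hb, rfl⟩, rfl⟩
      refine Subgroup.mem_centralizer_iff.2 fun w hw => ?_
      obtain ⟨a, ha, haw⟩ := hX'Y (show g * w * g⁻¹ ∈ X' from ⟨w, hw, rfl⟩)
      have hc := congrArg j (congrArg Subtype.val (hY.1.is_comm.comm (⟨a, ha⟩ : Y) ⟨b, hb⟩))
      simp only [map_mul, Subgroup.coe_mul] at hc
      rw [haw] at hc
      show w * (g⁻¹ * j b * g⁻¹⁻¹) = g⁻¹ * j b * g⁻¹⁻¹ * w
      calc w * (g⁻¹ * j b * g⁻¹⁻¹) = g⁻¹ * ((g * w * g⁻¹) * j b) * g := by group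
        _ = g⁻¹ * (j b * (g * w * g⁻¹)) * g := by rw [hc]
        _ = _ := by group
    have hYp : IsPGroup 2 Y' := ((S.2.to_subgroup Y).map j).map _
    obtain ⟨W, hW⟩ := (hYp.comap_of_injective CX.subtype CX.subtype_injective).exists_le_sylow
    obtain ⟨T, hT⟩ := ((S.2.to_le (inf_le_left : (S : Subgroup G) ⊓ CX ≤ S)).comap_of_injective CX.subtype CX.subtype_injective).exists_le_sylow
    -- `S ⊓ CX` is a Sylow subgroup of `CX`, as `S` normalises it
    have hSN : (S : Subgroup G) ≤ Subgroup.normalizer ((X.map j : Subgroup G) : Set G) := fun s hs =>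
      Subgroup.mem_normalizer_fintype fun w ⟨a, ha, haw⟩ => ⟨⟨s, hs⟩ * a * (⟨s, hs⟩ : ↥(S : Subgroup G))⁻¹, hXn.conj_mem a ha _, by
        rw [map_mul, map_mul, map_inv, haw]; rfl⟩
    have hTS : ∀ c : CX, c ∈ (T : Subgroup CX) → (c : G) ∈ (S : Subgroup G) := by
      intro c hc
      set N := Subgroup.normalizer ((X.map j : Subgroup G) : Set G)
      have hcard : (((S : Subgroup G) ⊓ CX).subgroupOf CX) = (T : Subgroup CX) := by
        refine Subgroup.eq_of_le_of_card_ge hT ?_
        have hCN : CX ≤ N := Subgroup.centralizer_le_normalizer _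
        obtain ⟨n, hn⟩ := Cfsg.Lib.InvolCalc.exists_conj_le (S.subtype hSN) (T.2.map (Subgroup.inclusion hCN))
        let f : ↥(T : Subgroup CX) → ((S : Subgroup G) ⊓ CX).subgroupOf CX := fun v =>
          ⟨⟨(n : G)⁻¹ * v * n, by
            refine Subgroup.mem_centralizer_iff.2 fun w hw => ?_
            have hw' : (n : G) * w * (n : G)⁻¹ ∈ X.map j := (Subgroup.mem_normalizer_iff.1 n.2 w).1 hw
            have := Subgroup.mem_centralizer_iff.1 (v : CX).2 _ hw'
            calc w * ((n : G)⁻¹ * v * n) = (n : G)⁻¹ * ((n : G) * w * (n : G)⁻¹ * v) * n := by group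
              _ = (n : G)⁻¹ * (v * ((n : G) * w * (n : G)⁻¹)) * n := by rw [this]
              _ = _ := by group⟩,
          ⟨by
            have h5 := hn _ ⟨(v : CX), v.2, rfl⟩
            exact h5, by
            show (n : G)⁻¹ * ((v : CX) : G) * n ∈ CX
            refine Subgroup.mem_centralizer_iff.2 fun w hw => ?_
            have hw' : (n : G) * w * (n : G)⁻¹ ∈ X.map j := (Subgroup.mem_normalizer_iff.1 n.2 w).1 hw
            have := Subgroup.mem_centralizer_iff.1 (v : CX).2 _ hw'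
            calc w * ((n : G)⁻¹ * v * n) = (n : G)⁻¹ * ((n : G) * w * (n : G)⁻¹ * v) * n := by group
              _ = (n : G)⁻¹ * (v * ((n : G) * w * (n : G)⁻¹)) * n := by rw [this]
              _ = _ := by group⟩⟩
        refine Nat.card_le_card_of_injective f fun u v h => Subtype.ext (Subtype.ext ?_)
        have h6 : (n : G)⁻¹ * u * n = (n : G)⁻¹ * v * n := congrArg Subtype.val (congrArg Subtype.val h)
        exact mul_left_cancel (mul_right_cancel h6)
      rw [← hcard] at hc
      exact hc.1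
    obtain ⟨c, hc⟩ := MulAction.exists_smul_eq CX W T
    set Y2 := (Y.map j).map (MulAut.conj ((c : G) * g⁻¹)).toMonoidHom with hY2
    have hY2S : Y2 ≤ (S : Subgroup G) ⊓ CX := by
      rintro _ ⟨w, hw, rfl⟩
      have hw' : g⁻¹ * w * g⁻¹⁻¹ ∈ Y' := ⟨w, hw, rfl⟩
      have hm : c * ⟨_, hY'C hw'⟩ * c⁻¹ ∈ (T : Subgroup CX) := by
        rw [← hc, Sylow.coe_subgroup_smul]
        exact ⟨_, hW hw', rfl⟩
      have h1 := hTS _ hm
      have h2 : (c : G) * (g⁻¹ * w * g⁻¹⁻¹) * (c : G)⁻¹ ∈ CX := CX.mul_mem (CX.mul_mem c.2 (hY'C hw')) (CX.inv_mem c.2)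
      have e : (MulAut.conj ((c : G) * g⁻¹)).toMonoidHom w = (c : G) * (g⁻¹ * w * g⁻¹⁻¹) * (c : G)⁻¹ := by
        show (c : G) * g⁻¹ * w * ((c : G) * g⁻¹)⁻¹ = _
        group
      rw [e]
      exact ⟨h1, h2⟩
    -- an elementary abelian subgroup centralising `X` lies in `X`
    have hY2X : Y2 ≤ X.map j := by
      intro w hw
      obtain ⟨hwS, hwC⟩ := hY2S hw
      obtain ⟨v, ⟨b, hb, rfl⟩, hvw⟩ := hw
      have hw2 : (⟨w, hwS⟩ : ↥(S : Subgroup G)) ^ 2 = 1 := Subtype.ext (by
        show w ^ 2 = 1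
        rw [← hvw, ← map_pow, ← map_pow, hY.2 b hb, map_one, map_one])
      have hcom : ∀ a ∈ X, Commute a (⟨w, hwS⟩ : ↥(S : Subgroup G)) := fun a ha =>
        Subtype.ext (Subgroup.mem_centralizer_iff.1 hwC (j a) ⟨a, ha, rfl⟩)
      let E : Subgroup ↥(S : Subgroup G) := Subgroup.closure (insert ⟨w, hwS⟩ (X : Set _))
      have hcl : ∀ u ∈ insert (⟨w, hwS⟩ : ↥(S : Subgroup G)) (X : Set _), ∀ v ∈ insert (⟨w, hwS⟩ : ↥(S : Subgroup G)) (X : Set _), u * v = v * u := by
        rintro u (rfl | hu) v (rfl | hv)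
        · rfl
        · exact (hcom v hv).eq.symm
        · exact (hcom u hu).eq
        · exact congrArg Subtype.val (hX.1.is_comm.comm (⟨u, hu⟩ : X) ⟨v, hv⟩)
      have hEc : IsMulCommutative E := Subgroup.isMulCommutative_closure hcl
      have hE : Cfsg.IsElementaryAbelian 2 E := by
        refine ⟨hEc, fun e he => ?_⟩
        induction he using Subgroup.closure_induction with
        | mem u hu => rcases hu with rfl | hu; exacts [hw2, hX.2 u hu]
        | one => exact one_pow 2
        | mul u v hu hv ihu ihv =>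
          rw [(show Commute u v from congrArg Subtype.val (hEc.is_comm.comm (⟨u, hu⟩ : E) ⟨v, hv⟩)).mul_pow, ihu, ihv, one_mul]
        | inv u _ ih => rw [inv_pow, ih, inv_one]
      have := hXmax E hE fun u hu => Subgroup.subset_closure (Or.inr hu)
      exact ⟨⟨w, hwS⟩, this ▸ Subgroup.subset_closure (Or.inl rfl), rfl⟩
    -- hence both have the same order and are conjugate
    have hcY : Nat.card Y2 = Nat.card (Y.map j) :=
      (Nat.card_congr (Subgroup.equivMapOfInjective _ _ (MulAut.conj _).injective).toEquiv).symm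
    have hle1 : Nat.card (Y.map j) ≤ Nat.card (X.map j) := hcY ▸ Nat.card_le_card_of_injective _ (Subgroup.inclusion_injective hY2X)
    have heq : X' = Y.map j := Subgroup.eq_of_le_of_card_ge hX'Y (hcardX ▸ hle1)
    -- both normal in `S`: conjugate in the normalizer of `S`
    set N := Subgroup.normalizer ((Y.map j : Subgroup G) : Set G)
    have hSN2 : (S : Subgroup G) ≤ N := fun s hs =>
      Subgroup.mem_normalizer_fintype fun w ⟨a, ha, haw⟩ => ⟨⟨s, hs⟩ * a * (⟨s, hs⟩ : ↥(S : Subgroup G))⁻¹, hYn.conj_mem a ha _, by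
        rw [map_mul, map_mul, map_inv, haw]; rfl⟩
    have hgS : ((g • S : Sylow 2 G) : Subgroup G) ≤ N := by
      intro w hw
      rw [Sylow.coe_subgroup_smul, Subgroup.mem_pointwise_smul_iff_inv_smul_mem] at hw
      rw [← map_inv, MulAut.smul_def, MulAut.conj_apply, inv_inv] at hw
      refine Subgroup.mem_normalizer_fintype fun u hu => ?_
      rw [SetLike.mem_coe, ← heq] at hu ⊢
      obtain ⟨v, hv, rfl⟩ := hu
      refine ⟨(g⁻¹ * w * g) * v * (g⁻¹ * w * g)⁻¹, (Subgroup.mem_normalizer_iff.1 (hSN hw) v).1 hv, ?_⟩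
      show g * ((g⁻¹ * w * g) * v * (g⁻¹ * w * g)⁻¹) * g⁻¹ = w * (g * v * g⁻¹) * w⁻¹
      group
    obtain ⟨n, hn⟩ := MulAction.exists_smul_eq N ((g • S).subtype hgS) (S.subtype hSN2)
    have hngS : (n : G) * g ∈ Subgroup.normalizer ((S : Subgroup G) : Set G) := by
      refine Sylow.smul_eq_iff_mem_normalizer.1 ?_
      rw [mul_smul]
      refine Sylow.ext ?_
      have h1 := congrArg (fun P : Sylow 2 N => (P : Subgroup N).map N.subtype) hn
      simp only [Sylow.coe_subgroup_smul, Sylow.coe_subtype, Subgroup.map_subgroupOf_eq_of_le hSN2] at h1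
      rw [← h1, Sylow.coe_subgroup_smul, Sylow.coe_subgroup_smul]
      ext w
      constructor
      · intro hw
        rw [Subgroup.mem_pointwise_smul_iff_inv_smul_mem, ← map_inv, MulAut.smul_def, MulAut.conj_apply, inv_inv] at hw
        refine ⟨⟨w, ?_⟩, ?_, rfl⟩
        · have h4 := hgS (by rw [Sylow.coe_subgroup_smul]; exact hw)
          have := N.mul_mem (N.mul_mem n.2 h4) (N.inv_mem n.2)
          rwa [show (n : G) * ((n : G)⁻¹ * w * n) * (n : G)⁻¹ = w by group] at this
        · rw [SetLike.mem_coe, Subgroup.mem_pointwise_smul_iff_inv_smul_mem]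
          show (((MulAut.conj n)⁻¹ • (⟨w, _⟩ : N) : N) : G) ∈ ((MulAut.conj g • (S : Subgroup G)) : Subgroup G)
          rw [← map_inv, MulAut.smul_def, MulAut.conj_apply]
          simpa using hw
      · rintro ⟨v, hv, rfl⟩
        rw [SetLike.mem_coe, Subgroup.mem_pointwise_smul_iff_inv_smul_mem] at hv
        rw [Subgroup.mem_pointwise_smul_iff_inv_smul_mem]
        have hv' : (((MulAut.conj n)⁻¹ • v : N) : G) ∈ ((MulAut.conj g • (S : Subgroup G)) : Subgroup G) := hv
        rw [← map_inv, MulAut.smul_def, MulAut.conj_apply] at hv' ⊢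
        simpa using hv'
    have h1 := hN _ hngS
    rw [← Cfsg.Lib.InvolCalc.map_conj_map, ← hX', heq] at h1
    have h2 : (Y.map j).map (MulAut.conj (n : G)).toMonoidHom = Y.map j := by
      refine Subgroup.eq_of_le_of_card_ge ?_ (Nat.card_congr (Subgroup.equivMapOfInjective _ _ (MulAut.conj (n : G)).injective).toEquiv).le
      rintro _ ⟨v, hv, rfl⟩
      exact (Subgroup.mem_normalizer_iff.1 n.2 v).1 hv
    exact hXY (Subgroup.map_injective hjinj (h2.symm.trans h1)).symm
  have hsubAB : ∀ C : Subgroup ↥(S : Subgroup G), Cfsg.IsElementaryAbelian 2 C → C ≤ A ∨ C ≤ B := by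
    intro C hC
    obtain ⟨D, ⟨hD, hCD⟩, hmax⟩ := WellFounded.has_min (wellFounded_gt (α := Subgroup ↥(S : Subgroup G)))
      {D | Cfsg.IsElementaryAbelian 2 D ∧ C ≤ D} ⟨C, hC, le_rfl⟩
    have : D = A ∨ D = B := honly D hD fun D' hD' hle => by
      by_contra hne
      exact hmax D' ⟨hD', hCD.trans hle⟩ (lt_of_le_of_ne hle (Ne.symm hne))
    rcases this with rfl | rfl
    · exact Or.inl hCD
    · exact Or.inr hCD
  -- `B` is invariant too
  have hpermB : ∀ φ : ↥(S : Subgroup G) ≃* ↥(S : Subgroup G), A.map φ.toMonoidHom = A → B.map φ.toMonoidHom = B := by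
    intro φ hφ
    have : B.map φ.toMonoidHom = A ∨ B.map φ.toMonoidHom = B := by
      refine honly _ (hEmap B φ hB.1) fun D hD hle => ?_
      have hd := hB.2 _ (hEmap D φ.symm hD) fun a ha => ⟨φ a, hle ⟨a, ha, rfl⟩, φ.symm_apply_apply a⟩
      exact le_antisymm (fun d hd' => ⟨φ.symm d, hd ▸ ⟨d, hd', rfl⟩, φ.apply_symm_apply d⟩) hle
    exact this.resolve_left fun h => hAB (Subgroup.map_injective φ.injective (hφ.trans h.symm))
  have hnB : B.Normal := ⟨fun a ha s => hpermB _ (hnorm s) ▸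
    (⟨a, ha, rfl⟩ : s * a * s⁻¹ ∈ B.map (MulAut.conj s).toMonoidHom)⟩
  have hNB : ∀ g ∈ Subgroup.normalizer ((S : Subgroup G) : Set G), B'.map (MulAut.conj g).toMonoidHom = B' := by
    intro g hg
    let φ : ↥(S : Subgroup G) ≃* ↥(S : Subgroup G) :=
      { toFun := fun s => ⟨g * s * g⁻¹, (Subgroup.mem_normalizer_iff.1 hg s).1 s.2⟩
        invFun := fun s => ⟨g⁻¹ * s * g, by
          have := (Subgroup.mem_normalizer_iff.1 (Subgroup.inv_mem _ hg) s).1 s.2
          rwa [inv_inv] at this⟩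
        left_inv := fun s => Subtype.ext (show g⁻¹ * (g * s * g⁻¹) * g = s by group)
        right_inv := fun s => Subtype.ext (show g * (g⁻¹ * s * g) * g⁻¹ = s by group)
        map_mul' := fun u v => Subtype.ext (show g * (u * v) * g⁻¹ = g * u * g⁻¹ * (g * v * g⁻¹) by group) }
    have hcomp : ∀ C : Subgroup ↥(S : Subgroup G), (C.map φ.toMonoidHom).map j = (C.map j).map (MulAut.conj g).toMonoidHom := by
      intro C; rw [Subgroup.map_map, Subgroup.map_map]; rfl
    have h1 := hNA g hg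
    rw [hA', ← hcomp] at h1
    rw [hB', ← hcomp, hpermB φ (Subgroup.map_injective hjinj h1)]
  refine ⟨hA' ▸ main A B hAB hA.1 hnA hnB hA.2 hB.1 hsubAB (hA' ▸ hNA), hB' ▸ main B A hAB.symm hB.1 hnB hnA hB.2 hA.1 (fun C hC => (hsubAB C hC).symm) (hB' ▸ hNB), fun g hg => ⟨?_, ?_⟩⟩
  · refine Subgroup.mem_normalizer_fintype fun w hw => ?_
    rw [SetLike.mem_coe, ← hNA g hg]; exact ⟨w, hw, rfl⟩
  · refine Subgroup.mem_normalizer_fintype fun w hw => ?_
    rw [SetLike.mem_coe, ← hNB g hg]; exact ⟨w, hw, rfl⟩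

end Cfsg.Agent.S3203
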