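import Cfsg.Statements.S3206
import Cfsg.Agent.AbelianCentExt.Setup
-- import your own Cfsg.Agent.* helpers here

set_option autoImplicit false
open Cfsg

namespace Cfsg.Agent.S3206

/-- Let G be a non-abelian finite simple group with abelian Sylow 2-subgroups, and let t be an involution of G whose centralizer is a maximal subgroup of G and is the direct product of the subgroup generated by t with a subgroup E having a normal subgroup isomorphic to PSL(2, q), q odd and greater than 3, with trivial centralizer in E. Then every finite perfect group having a central 2-subgroup with quotient isomorphic to G has that central subgroup trivial (G has no nontrivial perfect central extension by a 2-group), and every automorphism of G of 2-power order that fixes every element of some Sylow 2-subgroup of G is inner. -/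
theorem result {G : Type*} [Group G] [Finite G] [IsSimpleGroup G]
    (hG : ¬ IsMulCommutative G) (hab : ∀ S : Sylow 2 G, IsMulCommutative ↥(S : Subgroup G))
    (t : G) (ht : orderOf t = 2) (hmax : IsCoatom (Subgroup.centralizer ({t} : Set G)))
    (E : Subgroup G) (hE : Cfsg.IsInternalDirectProduct (Subgroup.zpowers t) E (Subgroup.centralizer ({t} : Set G)))
    {F : Type*} [Field F] [Fintype F] (hFo : Odd (Fintype.card F)) (hF3 : 3 < Fintype.card F)
    (N : Subgroup ↥E) [N.Normal] (hN : Nonempty (↥N ≃* Matrix.ProjectiveSpecialLinearGroup (Fin 2) F))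
    (hNc : Subgroup.centralizer (N : Set ↥E) = ⊥) :
    (∀ (L : Type) (_ : Group L) (_ : Finite L) (Z : Subgroup L) (_ : Z.Normal), commutator L = ⊤ → Z ≤ Subgroup.center L →
        IsPGroup 2 ↥Z → Nonempty (L ⧸ Z ≃* G) → Z = ⊥) ∧
    (∀ (φ : G ≃* G) (k : ℕ), φ ^ (2 ^ k) = 1 → (∃ S : Sylow 2 G, ∀ s ∈ (S : Subgroup G), φ s = s) →
        ∃ g : G, ∀ x : G, φ x = g * x * g⁻¹) := by
  classical
  haveI : Fact (Nat.Prime 2) := ⟨Nat.prime_two⟩
  obtain ⟨eN⟩ := hN
  obtain ⟨S, T, n, m, hcfg⟩ := Cfsg.Lib.AbelianCentExt.exists_config hG hab ht hE hFo hF3 N eN hNc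
  have hScomm := Cfsg.Lib.AbelianCentExt.two_group_comm hab S.2
  have hG2 : 2 ∣ Nat.card G := ht ▸ orderOf_dvd_natCard t
  refine ⟨?_, ?_⟩
  · rintro L _ _ Z hZn hL hZc hZ2 ⟨e⟩
    let π : L →* G := e.toMonoidHom.comp (QuotientGroup.mk' Z)
    have hπ : Function.Surjective π := e.surjective.comp (QuotientGroup.mk'_surjective Z)
    have hker : π.ker = Z := by
      ext x
      simp only [π, MonoidHom.mem_ker, MonoidHom.comp_apply, MulEquiv.coe_toMonoidHom,
        EmbeddingLike.map_eq_one_iff, QuotientGroup.mk'_apply, QuotientGroup.eq_one_iff]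
    have htt : t * t = 1 := by rw [← pow_two, ← ht]; exact pow_orderOf_eq_one t
    have hl := Cfsg.Lib.AbelianCentExt.sylow_lifts_commute hcfg htt hScomm hπ (hker.trans_le hZc)
    have hP2 : IsPGroup 2 ((S : Subgroup G).comap π) :=
      S.2.comap_of_ker_isPGroup π (hker ▸ hZ2)
    obtain ⟨P, hP⟩ := hP2.exists_le_sylow
    have hPeq : (P : Subgroup L) = (S : Subgroup G).comap π := by
      refine le_antisymm (fun x hx => ?_) hP
      have h1 : (S : Subgroup G) ≤ (P : Subgroup L).map π := by
        intro s hs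
        obtain ⟨y, rfl⟩ := hπ s
        exact ⟨y, hP hs, rfl⟩
      rw [Subgroup.mem_comap, ← S.3 (P.2.map π) h1]
      exact ⟨x, hx, rfl⟩
    refine Cfsg.Lib.AbelianCentExt.eq_bot_of_abelian_sylow Z hZc hZ2 hL P ?_ ?_
    · intro z hz
      apply hP
      rw [Subgroup.mem_comap, MonoidHom.mem_ker.mp (hker.symm ▸ hz : z ∈ π.ker)]
      exact one_mem _
    · intro x hx y hy
      rw [hPeq, Subgroup.mem_comap] at hx hy
      exact hl _ hx _ hy x y rfl rfl
  · intro φ k hk hfix
    obtain ⟨P, hP⟩ := hfix
    obtain ⟨j, -, hj⟩ := (Nat.dvd_prime_pow Nat.prime_two).mp (orderOf_dvd_of_pow_eq_one hk)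
    exact Cfsg.Agent.S4593.result (Cfsg.Lib.AbelianCentExt.center_eq_bot hG)
      (Cfsg.Lib.AbelianCentExt.pPrimeCore_two_eq_bot hG2) P (hab P) φ ⟨j, hj⟩ hP

end Cfsg.Agent.S3206
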