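import Cfsg.Statements.S3208
import Mathlib

set_option autoImplicit false
open Cfsg

namespace Cfsg.Agent.S3208

/-- Let j be an involution of a finite group G, H a subgroup of G, and T a Sylow 2-subgroup of H ∩ C_G(j) containing j such that ⟨j⟩ is a characteristic subgroup of T. Then T is a Sylow 2-subgroup of H. -/
theorem result {G : Type*} [Group G] [Finite G]
    (j : G) (hj : orderOf j = 2) (H T : Subgroup G) (hT : T ≤ H ⊓ Subgroup.centralizer ({j} : Set G)) (h2 : IsPGroup 2 ↥T)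
    (hSyl : ¬ 2 ∣ T.relIndex (H ⊓ Subgroup.centralizer ({j} : Set G))) (hjT : j ∈ T)
    (hchar : ((Subgroup.zpowers j).subgroupOf T).Characteristic) :
    ¬ 2 ∣ T.relIndex H := by
  haveI := Fact.mk Nat.prime_two
  set C := H ⊓ Subgroup.centralizer ({j} : Set G) with hC
  have hTH : T ≤ H := hT.trans inf_le_left
  intro hdvd
  -- enlarge `T` inside `H`
  have hT' : IsPGroup 2 ↥(T.subgroupOf H) := h2.comap_of_injective H.subtype H.subtype_injective
  obtain ⟨Q, hQ⟩ := hT'.exists_le_sylow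
  have hne : T.subgroupOf H < Q := lt_of_le_of_ne hQ fun e => Q.not_dvd_index (e ▸ hdvd)
  haveI := Q.2.isNilpotent
  have hlt : (T.subgroupOf H).subgroupOf Q < ⊤ := by
    rw [lt_top_iff_ne_top, Ne, Subgroup.subgroupOf_eq_top]
    exact fun h => hne.not_ge h
  obtain ⟨x, hx, hxT⟩ := SetLike.exists_of_lt (Group.normalizerCondition_of_isNilpotent (G := (Q : Subgroup H)) _ hlt)
  set g : G := ((x : H) : G) with hg
  have hgN : ∀ w : G, w ∈ T ↔ g * w * g⁻¹ ∈ T := by
    intro w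
    have hn := Subgroup.mem_normalizer_iff.1 hx
    constructor
    · intro hw
      exact (hn ⟨⟨w, hTH hw⟩, hQ hw⟩).1 hw
    · intro hw
      have hwH : w ∈ H := by
        have := H.mul_mem (H.mul_mem (H.inv_mem (x : H).2) (hTH hw)) (x : H).2
        rwa [show g⁻¹ * (g * w * g⁻¹) * g = w by group] at this
      have hwQ : (⟨w, hwH⟩ : H) ∈ (Q : Subgroup H) := by
        have h1 : (⟨g * w * g⁻¹, hTH hw⟩ : H) ∈ (Q : Subgroup H) := hQ hw
        have := (Q : Subgroup H).mul_mem ((Q : Subgroup H).mul_mem ((Q : Subgroup H).inv_mem x.2) h1) x.2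
        convert this using 1
        exact Subtype.ext (show w = g⁻¹ * (g * w * g⁻¹) * g by group)
      exact (hn ⟨⟨w, hwH⟩, hwQ⟩).2 hw
  -- `g` fixes `j`
  let φ : T ≃* T :=
    { toFun := fun w => ⟨g * w * g⁻¹, (hgN w).1 w.2⟩
      invFun := fun w => ⟨g⁻¹ * w * g, (hgN _).2 (by
        rw [show g * (g⁻¹ * (w : G) * g) * g⁻¹ = w by group]; exact w.2)⟩
      left_inv := fun w => Subtype.ext (show g⁻¹ * (g * (w : G) * g⁻¹) * g = w by group)
      right_inv := fun w => Subtype.ext (show g * (g⁻¹ * (w : G) * g) * g⁻¹ = w by group)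
      map_mul' := fun u v => Subtype.ext (show g * ((u : G) * v) * g⁻¹ = g * u * g⁻¹ * (g * v * g⁻¹) by group) }
  have hjm : (⟨j, hjT⟩ : T) ∈ (Subgroup.zpowers j).subgroupOf T := Subgroup.mem_zpowers j
  rw [← Subgroup.characteristic_iff_comap_eq.1 hchar φ] at hjm
  obtain ⟨i, hi⟩ : g * j * g⁻¹ ∈ Subgroup.zpowers j := hjm
  dsimp only at hi
  have hgj : g * j * g⁻¹ = j := by
    rcases Int.even_or_odd i with ⟨t, rfl⟩ | ⟨t, rfl⟩
    · exfalso
      rw [← two_mul, zpow_mul, show j ^ (2 : ℤ) = 1 by rw [show (2 : ℤ) = ((2 : ℕ) : ℤ) from rfl, zpow_natCast, ← hj, pow_orderOf_eq_one], one_zpow] at hi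
      have : j = 1 := conj_eq_one_iff.1 hi.symm
      rw [this, orderOf_one] at hj
      exact absurd hj (by norm_num)
    · rw [← hi, zpow_add, zpow_mul, show j ^ (2 : ℤ) = 1 by rw [show (2 : ℤ) = ((2 : ℕ) : ℤ) from rfl, zpow_natCast, ← hj, pow_orderOf_eq_one], one_zpow, one_mul, zpow_one]
  have hgC : g ∈ C := ⟨(x : H).2, Subgroup.mem_centralizer_singleton_iff.2 (mul_inv_eq_iff_eq_mul.1 hgj)⟩
  -- a `2`-element normalising the Sylow subgroup `T` of `C` lies in `T`
  obtain ⟨k, hk⟩ := IsPGroup.iff_orderOf.1 Q.2 x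
  have hg2 : orderOf (⟨g, hgC⟩ : C) = 2 ^ k := by
    rw [← hk, ← Subgroup.orderOf_coe, ← Subgroup.orderOf_coe x, ← Subgroup.orderOf_coe (x : H)]
  set T' := T.subgroupOf C with hT'def
  have hn : (⟨g, hgC⟩ : C) ∈ Subgroup.normalizer (T' : Set C) := Subgroup.mem_normalizer_iff.2 fun w => hgN w
  let P : Sylow 2 C := (h2.comap_of_injective C.subtype C.subtype_injective : IsPGroup 2 T').toSylow hSyl
  have hle : Subgroup.zpowers (⟨g, hgC⟩ : C) ⊔ T' ≤ Subgroup.normalizer (T' : Set C) :=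
    sup_le (Subgroup.zpowers_le.2 hn) Subgroup.le_normalizer
  have hp : IsPGroup 2 ↥(Subgroup.zpowers (⟨g, hgC⟩ : C) ⊔ T') :=
    IsPGroup.to_sup_of_normal_right' (IsPGroup.of_card (by rw [Nat.card_zpowers, hg2]))
      (P.2) (Subgroup.zpowers_le.2 hn)
  have := P.3 hp le_sup_right
  have hgT : (⟨g, hgC⟩ : C) ∈ T' := by
    show (⟨g, hgC⟩ : C) ∈ (P : Subgroup C)
    rw [← this]
    exact Subgroup.mem_sup_left (Subgroup.mem_zpowers _)
  exact hxT hgT

end Cfsg.Agent.S3208
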