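import Cfsg.Statements.S3209
import Mathlib

set_option autoImplicit false
open Cfsg

namespace Cfsg.Agent.S3209

open scoped Pointwise

open Matrix

theorem ne_two {F : Type*} [Field F] [Fintype F] (hF : Odd (Fintype.card F)) : (2 : F) ≠ 0 := by
  refine Ring.two_ne_zero fun h => ?_
  have := FiniteField.even_card_of_char_two h
  rw [← Nat.even_iff] at this
  exact Nat.not_even_iff_odd.2 hF this

theorem sl2_facts {F : Type*} [Field F] [Fintype F] (hF : Odd (Fintype.card F)) :
    (∀ g : SpecialLinearGroup (Fin 2) F, g * g = 1 → g = 1 ∨ g = -1) ∧ (-1 : SpecialLinearGroup (Fin 2) F) ≠ 1 ∧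
      ∃ J : SpecialLinearGroup (Fin 2) F, J * J = -1 ∧ ∀ g : SpecialLinearGroup (Fin 2) F, g * g = -1 → ∃ h, h * J * h⁻¹ = g := by
  classical
  have h2 := ne_two hF
  refine ⟨fun g hg => ?_, fun h => ?_, ⟨!![0, -1; 1, 0], by simp [det_fin_two]⟩, ?_, fun g hg => ?_⟩
  · have hm : (g : Matrix (Fin 2) (Fin 2) F) * g = 1 := congrArg Subtype.val hg
    have hd := g.2
    rw [det_fin_two] at hd
    have e00 := congrFun (congrFun hm 0) 0
    have e01 := congrFun (congrFun hm 0) 1
    have e10 := congrFun (congrFun hm 1) 0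
    have e11 := congrFun (congrFun hm 1) 1
    simp [Matrix.mul_apply, Fin.sum_univ_two] at e00 e01 e10 e11
    set a := (g : Matrix (Fin 2) (Fin 2) F) 0 0
    set b := (g : Matrix (Fin 2) (Fin 2) F) 0 1
    set c := (g : Matrix (Fin 2) (Fin 2) F) 1 0
    set d := (g : Matrix (Fin 2) (Fin 2) F) 1 1
    have ha : a * (a + d) = 2 := by linear_combination e00 + hd
    have hb : b = 0 := by
      have : b * (a + d) = 0 := by linear_combination e01
      exact (mul_eq_zero.1 this).resolve_right fun h => h2 (by rw [← ha, h, mul_zero])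
    have hc : c = 0 := by
      have : c * (a + d) = 0 := by linear_combination e10
      exact (mul_eq_zero.1 this).resolve_right fun h => h2 (by rw [← ha, h, mul_zero])
    have haa : a * a = 1 := by rw [hb, hc] at e00; linear_combination e00
    have had : a * d = 1 := by rw [hb] at hd; linear_combination hd
    have hda : d = a := by
      have : a * (d - a) = 0 := by linear_combination had - haa
      exact sub_eq_zero.1 ((mul_eq_zero.1 this).resolve_left fun h => by simp [h] at haa)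
    rcases mul_self_eq_one_iff.1 haa with h | h
    · left; apply Subtype.ext; ext i j
      fin_cases i <;> fin_cases j
      · exact h
      · exact hb
      · exact hc
      · exact hda.trans h
    · right; apply Subtype.ext; ext i j
      fin_cases i <;> fin_cases j
      · show a = -(1 : Matrix (Fin 2) (Fin 2) F) 0 0; simp [h]
      · show b = -(1 : Matrix (Fin 2) (Fin 2) F) 0 1; simp [hb]
      · show c = -(1 : Matrix (Fin 2) (Fin 2) F) 1 0; simp [hc]
      · show d = -(1 : Matrix (Fin 2) (Fin 2) F) 1 1; simp [hda, h]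
  · have h0 := congrArg (fun m : SpecialLinearGroup (Fin 2) F => (m : Matrix (Fin 2) (Fin 2) F) 0 0) h
    simp at h0
    exact h2 (by linear_combination -h0)
  · apply Subtype.ext
    show (!![0, -1; 1, 0] : Matrix (Fin 2) (Fin 2) F) * !![0, -1; 1, 0] = -1
    ext i j; fin_cases i <;> fin_cases j <;> simp
  · have hm : (g : Matrix (Fin 2) (Fin 2) F) * g = -1 := congrArg Subtype.val hg
    have hd := g.2
    rw [det_fin_two] at hd
    have e00 := congrFun (congrFun hm 0) 0
    have e01 := congrFun (congrFun hm 0) 1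
    have e10 := congrFun (congrFun hm 1) 0
    simp [Matrix.mul_apply, Fin.sum_univ_two] at e00 e01 e10
    set a := (g : Matrix (Fin 2) (Fin 2) F) 0 0 with ha
    set b := (g : Matrix (Fin 2) (Fin 2) F) 0 1 with hb
    set c := (g : Matrix (Fin 2) (Fin 2) F) 1 0 with hc
    set d := (g : Matrix (Fin 2) (Fin 2) F) 1 1 with hdd
    have htr : d = -a := by
      have h : a * (a + d) = 0 := by linear_combination e00 + hd
      rcases mul_eq_zero.1 h with h' | h'
      · have hb' : b * d = 0 := by rw [h'] at e01; linear_combination e01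
        have hbc : b * c = -1 := by rw [h'] at e00; linear_combination e00
        have hd0 : d = 0 := (mul_eq_zero.1 hb').resolve_left fun h'' => by simp [h''] at hbc
        rw [hd0, h', neg_zero]
      · linear_combination h'
    -- a vector with value one
    obtain ⟨x, y, hxy⟩ : ∃ x y : F, c * x ^ 2 - 2 * a * x * y - b * y ^ 2 = 1 := by
      by_cases hc0 : c = 0
      · have haa : a * a = -1 := by rw [hc0] at e00; linear_combination e00
        refine ⟨(1 + b) * a / 2, 1, ?_⟩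
        field_simp
        rw [hc0]
        linear_combination (-4 * (1 + b)) * haa
      · obtain ⟨u, y, huy⟩ := FiniteField.exists_root_sum_quadratic (R := F) (f := Polynomial.X ^ 2)
          (g := Polynomial.X ^ 2 - Polynomial.C c) (Polynomial.degree_X_pow 2)
          (Polynomial.degree_X_pow_sub_C (by norm_num) c) (Nat.odd_iff.1 hF)
        simp at huy
        refine ⟨(u + a * y) / c, y, ?_⟩
        field_simp
        rw [htr] at hd
        linear_combination huy + y ^ 2 * hd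
    let P : SpecialLinearGroup (Fin 2) F := ⟨!![x, a * x + b * y; y, c * x + d * y], by
      rw [det_fin_two]; simp; rw [htr]; linear_combination hxy⟩
    refine ⟨P, ?_⟩
    rw [mul_inv_eq_iff_eq_mul]
    apply Subtype.ext
    show (!![x, a * x + b * y; y, c * x + d * y] : Matrix (Fin 2) (Fin 2) F) * !![0, -1; 1, 0] =
      (g : Matrix (Fin 2) (Fin 2) F) * !![x, a * x + b * y; y, c * x + d * y]
    rw [show (g : Matrix (Fin 2) (Fin 2) F) = !![a, b; c, d] from Matrix.eta_fin_two _]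
    rw [htr] at hd ⊢
    ext i j
    fin_cases i <;> fin_cases j <;> simp [Matrix.mul_apply, Fin.sum_univ_two]
    · linear_combination x * hd
    · linear_combination y * hd


/-- Let L₁ ≅ SL₂(q₁) and L₂ ≅ SL₂(q₂), q₁ and q₂ odd, be elementwise-commuting subgroups of a finite group meeting in ⟨j⟩ for an involution j. Then L₁L₂ has exactly two conjugacy classes of involutions: the central involution j, and one further class (there is an involution x ≠ j in L₁L₂, and every involution of L₁L₂ other than j is conjugate to x by an element of L₁L₂). -/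
theorem result {G : Type*} [Group G] [Finite G]
    {F₁ : Type*} [Field F₁] [Fintype F₁] {F₂ : Type*} [Field F₂] [Fintype F₂]
    (hF₁ : Odd (Fintype.card F₁)) (hF₂ : Odd (Fintype.card F₂)) (L₁ L₂ : Subgroup G)
    (e₁ : ↥L₁ ≃* Matrix.SpecialLinearGroup (Fin 2) F₁) (e₂ : ↥L₂ ≃* Matrix.SpecialLinearGroup (Fin 2) F₂)
    (hc : ∀ x ∈ L₁, ∀ y ∈ L₂, x * y = y * x) (j : G) (hj : orderOf j = 2) (hm : L₁ ⊓ L₂ = Subgroup.zpowers j) :
    ∃ x ∈ L₁ ⊔ L₂, orderOf x = 2 ∧ x ≠ j ∧
      ∀ y ∈ L₁ ⊔ L₂, orderOf y = 2 → y = j ∨ ∃ g ∈ L₁ ⊔ L₂, g * x * g⁻¹ = y := by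
  classical
  obtain ⟨hi1, hn1, J1, hJ1, hc1⟩ := sl2_facts (F := F₁) hF₁
  obtain ⟨hi2, hn2, J2, hJ2, hc2⟩ := sl2_facts (F := F₂) hF₂
  have hj1 : j ∈ L₁ := (hm.symm ▸ Subgroup.mem_zpowers j : j ∈ L₁ ⊓ L₂).1
  have hj2 : j ∈ L₂ := (hm.symm ▸ Subgroup.mem_zpowers j : j ∈ L₁ ⊓ L₂).2
  have hjj : j * j = 1 := by rw [← pow_two, ← hj, pow_orderOf_eq_one]
  have hj0 : j ≠ 1 := fun h => by rw [h, orderOf_one] at hj; exact absurd hj (by norm_num)
  have hej1 : e₁ ⟨j, hj1⟩ = -1 := (hi1 _ (by rw [← map_mul]; exact (congrArg e₁ (Subtype.ext hjj : (⟨j, hj1⟩ : L₁) * ⟨j, hj1⟩ = 1)).trans (map_one e₁))).resolve_left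
    fun h => hj0 (congrArg Subtype.val (e₁.map_eq_one_iff.1 h))
  have hej2 : e₂ ⟨j, hj2⟩ = -1 := (hi2 _ (by rw [← map_mul]; exact (congrArg e₂ (Subtype.ext hjj : (⟨j, hj2⟩ : L₂) * ⟨j, hj2⟩ = 1)).trans (map_one e₂))).resolve_left
    fun h => hj0 (congrArg Subtype.val (e₂.map_eq_one_iff.1 h))
  set s1 := e₁.symm J1 with hs1
  set s2 := e₂.symm J2 with hs2
  have hs1j : (s1 : G) * s1 = j := congrArg Subtype.val (show s1 * s1 = ⟨j, hj1⟩ from e₁.injective (by rw [map_mul, hej1, hs1, e₁.apply_symm_apply, hJ1]))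
  have hs2j : (s2 : G) * s2 = j := congrArg Subtype.val (show s2 * s2 = ⟨j, hj2⟩ from e₂.injective (by rw [map_mul, hej2, hs2, e₂.apply_symm_apply, hJ2]))
  have hsq : ∀ u ∈ L₁, ∀ v ∈ L₂, (u * v) * (u * v) = (u * u) * (v * v) := fun u hu v hv => by
    calc (u * v) * (u * v) = u * (v * u) * v := by group
      _ = u * (u * v) * v := by rw [← hc u hu v hv]
      _ = _ := by group
  have hnotmem : ∀ u ∈ L₁, u * u = j → u ∉ L₂ := fun u hu huj h2 => by
    obtain ⟨i, hi⟩ := Subgroup.mem_zpowers_iff.1 (hm ▸ (⟨hu, h2⟩ : u ∈ L₁ ⊓ L₂) : u ∈ Subgroup.zpowers j)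
    rw [← hi, ← _root_.zpow_add, ← two_mul, _root_.zpow_mul, _root_.zpow_two, hjj, _root_.one_zpow] at huj
    exact hj0 huj.symm
  refine ⟨s1 * s2, Subgroup.mul_mem_sup s1.2 s2.2, orderOf_eq_prime ?_ fun h => ?_, fun h => ?_, fun y hy ho => ?_⟩
  · rw [pow_two, hsq _ s1.2 _ s2.2, hs1j, hs2j, hjj]
  · exact hnotmem _ s1.2 hs1j (by rw [eq_inv_of_mul_eq_one_left h]; exact L₂.inv_mem s2.2)
  · exact hnotmem _ s1.2 hs1j (by rw [show (s1 : G) = j * (s2 : G)⁻¹ by rw [← h]; group]; exact L₂.mul_mem hj2 (L₂.inv_mem s2.2))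
  · have hle : L₂ ≤ Subgroup.normalizer (L₁ : Set G) := fun v hv => Subgroup.mem_normalizer_fintype fun u hu => by
      rw [SetLike.mem_coe, ← hc u hu v hv, mul_inv_cancel_right]; exact hu
    have hy' : y ∈ (L₁ : Set G) * (L₂ : Set G) := by
      rw [← Subgroup.coe_mul_of_right_le_normalizer_left _ _ hle]; exact hy
    obtain ⟨u, hu, v, hv, rfl⟩ := hy'
    dsimp only at ho ⊢
    have hyy : (u * u) * (v * v) = 1 := by rw [← hsq u hu v hv, ← pow_two, ← ho, pow_orderOf_eq_one]
    have huu : u * u ∈ Subgroup.zpowers j := by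
      rw [← hm]; exact ⟨L₁.mul_mem hu hu, by rw [eq_inv_of_mul_eq_one_left hyy]; exact L₂.inv_mem (L₂.mul_mem hv hv)⟩
    have hzj : ∀ z ∈ Subgroup.zpowers j, z = 1 ∨ z = j := fun z hz => by
      obtain ⟨i, rfl⟩ := Subgroup.mem_zpowers_iff.1 hz
      rcases Int.even_or_odd i with ⟨t, rfl⟩ | ⟨t, rfl⟩
      · left; rw [← two_mul, _root_.zpow_mul, _root_.zpow_two, hjj, _root_.one_zpow]
      · right; rw [_root_.zpow_add, _root_.zpow_mul, _root_.zpow_two, hjj, _root_.one_zpow, one_mul, _root_.zpow_one]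
    rcases hzj _ huu with h1 | h1
    · left
      rw [h1, one_mul] at hyy
      have hu' : u = 1 ∨ u = j := by
        rcases hi1 (e₁ ⟨u, hu⟩) (by rw [← map_mul]; exact (congrArg e₁ (Subtype.ext h1 : (⟨u, hu⟩ : L₁) * ⟨u, hu⟩ = 1)).trans (map_one e₁)) with h | h
        · exact Or.inl (congrArg Subtype.val (e₁.map_eq_one_iff.1 h))
        · exact Or.inr (congrArg Subtype.val (e₁.injective (h.trans hej1.symm) : (⟨u, hu⟩ : L₁) = ⟨j, hj1⟩))
      have hv' : v = 1 ∨ v = j := by
        rcases hi2 (e₂ ⟨v, hv⟩) (by rw [← map_mul]; exact (congrArg e₂ (Subtype.ext hyy : (⟨v, hv⟩ : L₂) * ⟨v, hv⟩ = 1)).trans (map_one e₂)) with h | h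
        · exact Or.inl (congrArg Subtype.val (e₂.map_eq_one_iff.1 h))
        · exact Or.inr (congrArg Subtype.val (e₂.injective (h.trans hej2.symm) : (⟨v, hv⟩ : L₂) = ⟨j, hj2⟩))
      rcases hu' with rfl | rfl <;> rcases hv' with rfl | rfl
      · simp at ho
      · exact one_mul _
      · exact mul_one _
      · rw [hjj] at ho; simp at ho
    · right
      rw [h1] at hyy
      have hvv : v * v = j := by
        rw [eq_comm, ← inv_eq_of_mul_eq_one_left hjj]
        exact inv_eq_of_mul_eq_one_right hyy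
      obtain ⟨g1, hg1⟩ := hc1 (e₁ ⟨u, hu⟩) (by rw [← map_mul]; exact (congrArg e₁ (Subtype.ext h1 : (⟨u, hu⟩ : L₁) * ⟨u, hu⟩ = ⟨j, hj1⟩)).trans hej1)
      obtain ⟨g2, hg2⟩ := hc2 (e₂ ⟨v, hv⟩) (by rw [← map_mul]; exact (congrArg e₂ (Subtype.ext hvv : (⟨v, hv⟩ : L₂) * ⟨v, hv⟩ = ⟨j, hj2⟩)).trans hej2)
      have e1' : ((e₁.symm g1 : L₁) : G) * s1 * ((e₁.symm g1 : L₁) : G)⁻¹ = u := by
        have := congrArg Subtype.val (congrArg e₁.symm hg1)
        simpa [hs1] using this
      have e2' : ((e₂.symm g2 : L₂) : G) * s2 * ((e₂.symm g2 : L₂) : G)⁻¹ = v := by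
        have := congrArg Subtype.val (congrArg e₂.symm hg2)
        simpa [hs2] using this
      set a := ((e₁.symm g1 : L₁) : G) with ha
      set b := ((e₂.symm g2 : L₂) : G) with hb
      refine ⟨a * b, Subgroup.mul_mem_sup (e₁.symm g1).2 (e₂.symm g2).2, ?_⟩
      calc a * b * (s1 * s2) * (a * b)⁻¹ = a * (b * s1) * (s2 * b⁻¹) * a⁻¹ := by group
        _ = a * (s1 * b) * (s2 * b⁻¹) * a⁻¹ := by rw [hc _ s1.2 b (e₂.symm g2).2]
        _ = a * s1 * (b * s2 * b⁻¹ * a⁻¹) := by group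
        _ = a * s1 * (a⁻¹ * (b * s2 * b⁻¹)) := by
            rw [hc a⁻¹ (L₁.inv_mem (e₁.symm g1).2) (b * s2 * b⁻¹) (L₂.mul_mem (L₂.mul_mem (e₂.symm g2).2 s2.2) (L₂.inv_mem (e₂.symm g2).2))]
        _ = (a * s1 * a⁻¹) * (b * s2 * b⁻¹) := by group
        _ = u * v := by rw [e1', e2']

end Cfsg.Agent.S3209
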