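import Cfsg.Statements.S3210
import Cfsg.Agent.Known.SLPair.Pair

set_option autoImplicit false
open Cfsg

namespace Cfsg.Agent.S3210

/-- Let G be a finite group with subgroups L₁ ≅ SL₂(q₁) and L₂ ≅ SL₂(q₂), q₁ and q₂ odd prime powers, which commute elementwise and meet in ⟨j⟩ for an involution j, and suppose L₁L₂ has index 2 in C_G(j). Then every element n of C_G(j) outside L₁L₂ either normalizes both L₁ and L₂, or conjugates L₁ onto L₂; in the second case q₁ = q₂ and there is an element n′ of C_G(j) outside L₁L₂ conjugating L₁ onto L₂ with n′² ∈ ⟨j⟩. -/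
theorem result {G : Type*} [Group G] [Finite G]
    {F₁ : Type*} [Field F₁] [Fintype F₁] {F₂ : Type*} [Field F₂] [Fintype F₂]
    (hF₁ : Odd (Fintype.card F₁)) (hF₂ : Odd (Fintype.card F₂)) (L₁ L₂ : Subgroup G)
    (e₁ : ↥L₁ ≃* Matrix.SpecialLinearGroup (Fin 2) F₁) (e₂ : ↥L₂ ≃* Matrix.SpecialLinearGroup (Fin 2) F₂)
    (hc : ∀ x ∈ L₁, ∀ y ∈ L₂, x * y = y * x) (j : G) (hj : orderOf j = 2) (hm : L₁ ⊓ L₂ = Subgroup.zpowers j)
    (hle : L₁ ⊔ L₂ ≤ Subgroup.centralizer ({j} : Set G)) (hi : (L₁ ⊔ L₂).relIndex (Subgroup.centralizer ({j} : Set G)) = 2) (n : G) (hn : n ∈ Subgroup.centralizer ({j} : Set G)) (hn' : n ∉ L₁ ⊔ L₂) :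
    (L₁.map (MulAut.conj n).toMonoidHom = L₁ ∧ L₂.map (MulAut.conj n).toMonoidHom = L₂) ∨
      (L₁.map (MulAut.conj n).toMonoidHom = L₂ ∧ Fintype.card F₁ = Fintype.card F₂ ∧
        ∃ n' ∈ Subgroup.centralizer ({j} : Set G), n' ∉ L₁ ⊔ L₂ ∧ L₁.map (MulAut.conj n').toMonoidHom = L₂ ∧ n' ^ 2 ∈ Subgroup.zpowers j) := by
  classical
  set C := Subgroup.centralizer ({j} : Set G) with hC
  set H := L₁ ⊔ L₂ with hH
  have hjH : j ∈ L₁ ⊓ L₂ := hm.symm ▸ Subgroup.mem_zpowers j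
  have hjL1 : j ∈ L₁ := (Subgroup.mem_inf.1 hjH).1
  have hjL2 : j ∈ L₂ := (Subgroup.mem_inf.1 hjH).2
  have hjc : ∀ h ∈ H, h * j = j * h := fun h hh => Subgroup.mem_centralizer_singleton_iff.1 (hle hh)
  have hjc1 : ∀ l ∈ L₁, l * j = j * l := fun l hl => hjc l (Subgroup.mem_sup_left hl)
  have hjc2 : ∀ l ∈ L₂, l * j = j * l := fun l hl => hjc l (Subgroup.mem_sup_right hl)
  have hidx : (H.subgroupOf C).index = 2 := hi
  have hHn : ∀ c ∈ C, ∀ h ∈ H, c * h * c⁻¹ ∈ H := fun c hc h hh =>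
    (Subgroup.normal_of_index_eq_two hidx).conj_mem ⟨h, hle hh⟩ hh ⟨c, hc⟩
  have hsq : ∀ c ∈ C, c * c ∈ H := fun c hc => Subgroup.mul_self_mem_of_index_two hidx ⟨c, hc⟩
  have hnorm : ∀ x ∈ H, (∀ y ∈ L₁, x * y * x⁻¹ ∈ L₁) ∧ (∀ y ∈ L₂, x * y * x⁻¹ ∈ L₂) := by
    intro x hx
    have h1 : H ≤ Subgroup.normalizer (L₁ : Set G) := sup_le Subgroup.le_normalizer fun b hb => by
      rw [Subgroup.mem_normalizer_iff]
      intro a
      constructor
      · intro ha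
        rwa [show b * a * b⁻¹ = a by rw [← hc a ha b hb, mul_inv_cancel_right]]
      · intro ha
        have : b⁻¹ * (b * a * b⁻¹) * b = b * a * b⁻¹ := by
          rw [mul_assoc, hc _ ha b hb, inv_mul_cancel_left]
        rw [show a = b⁻¹ * (b * a * b⁻¹) * b by group, this]
        exact ha
    have h2 : H ≤ Subgroup.normalizer (L₂ : Set G) := sup_le (fun b hb => by
      rw [Subgroup.mem_normalizer_iff]
      intro a
      constructor
      · intro ha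
        rwa [show b * a * b⁻¹ = a by rw [hc b hb a ha, mul_inv_cancel_right]]
      · intro ha
        have : b⁻¹ * (b * a * b⁻¹) * b = b * a * b⁻¹ := by
          rw [mul_assoc, ← hc b hb _ ha, inv_mul_cancel_left]
        rw [show a = b⁻¹ * (b * a * b⁻¹) * b by group, this]
        exact ha) Subgroup.le_normalizer
    exact ⟨fun y hy => (Subgroup.mem_normalizer_iff.1 (h1 hx) y).1 hy,
      fun y hy => (Subgroup.mem_normalizer_iff.1 (h2 hx) y).1 hy⟩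
  set M₁ := L₁.map (MulAut.conj n).toMonoidHom with hM₁
  set M₂ := L₂.map (MulAut.conj n).toMonoidHom with hM₂
  have hjn : n * j * n⁻¹ = j := mul_inv_eq_iff_eq_mul.2 (Subgroup.mem_centralizer_singleton_iff.1 hn)
  have hcM : ∀ x ∈ M₁, ∀ y ∈ M₂, x * y = y * x := by
    rintro _ ⟨a, ha, rfl⟩ _ ⟨b, hb, rfl⟩
    rw [← map_mul, hc a ha b hb, map_mul]
  have hjM1 : j ∈ M₁ := ⟨j, hjL1, hjn⟩
  have hjM2 : j ∈ M₂ := ⟨j, hjL2, hjn⟩
  have hMH : M₁ ⊔ M₂ = H := by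
    rw [hM₁, hM₂, ← Subgroup.map_sup]
    refine le_antisymm ?_ fun h hh => ?_
    · rintro _ ⟨h, hh, rfl⟩
      exact hHn n hn h hh
    · refine ⟨n⁻¹ * h * n, ?_, by show n * (n⁻¹ * h * n) * n⁻¹ = h; group⟩
      simpa using hHn n⁻¹ (inv_mem hn) h hh
  have hM1 : M₁ ≤ H := hMH ▸ le_sup_left
  have hM2 : M₂ ≤ H := hMH ▸ le_sup_right
  have hMn : ∀ x ∈ H, (∀ y ∈ M₁, x * y * x⁻¹ ∈ M₁) ∧ (∀ y ∈ M₂, x * y * x⁻¹ ∈ M₂) := by
    intro x hx
    have hx' : n⁻¹ * x * n ∈ H := by simpa using hHn n⁻¹ (inv_mem hn) x hx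
    constructor <;> rintro _ ⟨a, ha, rfl⟩
    · refine ⟨_, (hnorm _ hx').1 a ha, ?_⟩
      show n * (n⁻¹ * x * n * a * (n⁻¹ * x * n)⁻¹) * n⁻¹ = x * (n * a * n⁻¹) * x⁻¹
      group
    · refine ⟨_, (hnorm _ hx').2 a ha, ?_⟩
      show n * (n⁻¹ * x * n * a * (n⁻¹ * x * n)⁻¹) * n⁻¹ = x * (n * a * n⁻¹) * x⁻¹
      group
  have hf1 := Cfsg.SLPair.factor hF₁ e₁ hj hjL1 hjc1
  have hf2 := Cfsg.SLPair.factor hF₂ e₂ hj hjL2 hjc2
  have r1 := Cfsg.SLPair.le_or_le_of_factor hc hm hcM hjM1 hjc1 hM1 hM2 (hMH.symm ▸ le_sup_left)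
    (fun x hx => (hMn x (Subgroup.mem_sup_left hx)).1) (fun x hx => (hMn x (Subgroup.mem_sup_left hx)).2) hf1
  have r2 := Cfsg.SLPair.le_or_le_of_factor (fun x hx y hy => (hc y hy x hx).symm)
    (by rw [inf_comm]; exact hm) hcM hjM1 hjc2 (sup_comm L₁ L₂ ▸ hM1) (sup_comm L₁ L₂ ▸ hM2)
    (hMH.symm ▸ le_sup_right)
    (fun x hx => (hMn x (Subgroup.mem_sup_right hx)).1) (fun x hx => (hMn x (Subgroup.mem_sup_right hx)).2) hf2
  have c1 : Nat.card M₁ = Nat.card L₁ :=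
    (Nat.card_congr (L₁.equivMapOfInjective (MulAut.conj n).toMonoidHom (MulAut.conj n).injective).toEquiv).symm
  have c2 : Nat.card M₂ = Nat.card L₂ :=
    (Nat.card_congr (L₂.equivMapOfInjective (MulAut.conj n).toMonoidHom (MulAut.conj n).injective).toEquiv).symm
  have hnot : ∀ M : Subgroup G, 2 < Nat.card M → M ≤ L₁ → M ≤ L₂ → False := by
    intro M hM h1 h2
    have := Subgroup.card_le_of_le (le_inf h1 h2)
    rw [hm, Nat.card_zpowers, hj] at this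
    omega
  have b1 : 2 < Nat.card M₁ := by rw [c1, Nat.card_congr e₁.toEquiv]; exact Cfsg.SLPair.two_lt_card F₁
  have b2 : 2 < Nat.card M₂ := by rw [c2, Nat.card_congr e₂.toEquiv]; exact Cfsg.SLPair.two_lt_card F₂
  rcases r1 with a | a <;> rcases r2 with b | b
  · exact (hnot M₁ b1 b a).elim
  · -- swapped
    have e1 : M₁ = L₂ := Subgroup.eq_of_le_of_card_ge a (by
      rw [c1]; exact c2 ▸ Subgroup.card_le_of_le b)
    have e2 : M₂ = L₁ := Subgroup.eq_of_le_of_card_ge b (by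
      rw [c2]; exact c1 ▸ Subgroup.card_le_of_le a)
    refine Or.inr ⟨e1, Cfsg.SLPair.card_sl_inj (by
      rw [← Nat.card_congr e₁.toEquiv, ← Nat.card_congr e₂.toEquiv, ← c1, e1]), ?_⟩
    have hmap1 : ∀ a ∈ L₁, n * a * n⁻¹ ∈ L₂ := fun a ha => e1 ▸ ⟨a, ha, rfl⟩
    have hmap2 : ∀ a ∈ L₂, n * a * n⁻¹ ∈ L₁ := fun a ha => e2 ▸ ⟨a, ha, rfl⟩
    obtain ⟨x, hx, y, hy, hxy⟩ := Cfsg.SLPair.mem_sup_commute hc (hsq n hn)
    -- `n` commutes with its square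
    have hkey : n⁻¹ * x⁻¹ * n * y ∈ Subgroup.zpowers j := by
      have h1 : n⁻¹ * x⁻¹ * n ∈ L₂ := by
        obtain ⟨a, ha, hae⟩ : x⁻¹ ∈ M₂ := e2.symm ▸ inv_mem hx
        have : n * a * n⁻¹ = x⁻¹ := hae
        rw [← this, show n⁻¹ * (n * a * n⁻¹) * n = a by group]
        exact ha
      have h2 : n⁻¹ * y * n ∈ L₁ := by
        obtain ⟨a, ha, hae⟩ : y ∈ M₁ := e1.symm ▸ hy
        have : n * a * n⁻¹ = y := hae
        rw [← this, show n⁻¹ * (n * a * n⁻¹) * n = a by group]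
        exact ha
      have h3 : n⁻¹ * (x * y) * n = x * y := by rw [← hxy]; group
      have h4 : n⁻¹ * x⁻¹ * n * y = x⁻¹ * (n⁻¹ * y * n) := by
        have h5 : (n⁻¹ * x * n) * (n⁻¹ * y * n) = x * y := by rw [← h3]; group
        have h6 : n⁻¹ * y * n = n⁻¹ * x⁻¹ * n * (x * y) := by rw [← h5]; group
        rw [h6, ← mul_assoc (n⁻¹ * x⁻¹ * n) x y, ← hc x hx _ h1]
        group
      rw [← hm, Subgroup.mem_inf]
      exact ⟨h4 ▸ mul_mem (inv_mem hx) h2, mul_mem h1 hy⟩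
    have hxC : x ∈ C := hle (Subgroup.mem_sup_left hx)
    refine ⟨n * x⁻¹, mul_mem hn (inv_mem hxC), fun h => hn' ?_, ?_, ?_⟩
    · have := mul_mem h (Subgroup.mem_sup_left (T := L₂) hx)
      rwa [inv_mul_cancel_right] at this
    · have : L₁.map (MulAut.conj x⁻¹).toMonoidHom = L₁ := by
        refine le_antisymm ?_ fun a ha => ⟨x * a * x⁻¹, (hnorm x (Subgroup.mem_sup_left hx)).1 a ha, ?_⟩
        · rintro _ ⟨a, ha, rfl⟩
          exact (hnorm x⁻¹ (Subgroup.mem_sup_left (inv_mem hx))).1 a ha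
        · show x⁻¹ * (x * a * x⁻¹) * x⁻¹⁻¹ = a
          group
      rw [map_mul]
      show L₁.map (((MulAut.conj n).toMonoidHom).comp (MulAut.conj x⁻¹).toMonoidHom) = L₂
      rw [← Subgroup.map_map, this]
      exact e1
    · obtain ⟨i, hi'⟩ := Subgroup.mem_zpowers_iff.1 hkey
      have hy' : y * (n⁻¹ * x⁻¹ * n) = j ^ i := by
        rw [show y * (n⁻¹ * x⁻¹ * n) = y * (n⁻¹ * x⁻¹ * n * y) * y⁻¹ by group, ← hi',
          (Commute.zpow_right (hjc2 y hy) i).eq, mul_inv_cancel_right]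
      have hx' : x * j ^ i * x⁻¹ = j ^ i := by
        rw [(Commute.zpow_right (hjc1 x hx) i).eq, mul_inv_cancel_right]
      have : (n * x⁻¹) ^ 2 = j ^ i := by
        rw [pow_two, show n * x⁻¹ * (n * x⁻¹) = n * n * (n⁻¹ * x⁻¹ * n) * x⁻¹ by group, hxy,
          mul_assoc x y, hy', hx']
      rw [this]
      exact zpow_mem (Subgroup.mem_zpowers j) i
  · exact Or.inl ⟨Subgroup.eq_of_le_of_card_ge b c1.ge, Subgroup.eq_of_le_of_card_ge a c2.ge⟩
  · exact (hnot M₂ b2 b a).elim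

end Cfsg.Agent.S3210
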