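import Cfsg.Statements.S3213
import Mathlib

set_option autoImplicit false
open Cfsg

namespace Cfsg.Agent.S3213

/-- multiplication of two by two matrices on quadruples -/
def qmul (a b : ZMod 5 × ZMod 5 × ZMod 5 × ZMod 5) : ZMod 5 × ZMod 5 × ZMod 5 × ZMod 5 :=
  (a.1 * b.1 + a.2.1 * b.2.2.1, a.1 * b.2.1 + a.2.1 * b.2.2.2,
   a.2.2.1 * b.1 + a.2.2.2 * b.2.2.1, a.2.2.1 * b.2.1 + a.2.2.2 * b.2.2.2)

set_option synthInstance.maxSize 4096 in
set_option synthInstance.maxHeartbeats 200000 in
theorem word5 : ∀ a b c d : ZMod 5, a * d - b * c = 1 →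
    qmul (a, b, c, d) (qmul (a, b, c, d) (a, b, c, d)) = (1, 0, 0, 1) → (a, b, c, d) ≠ (1, 0, 0, 1) →
    qmul (qmul (a, b, c, d) (qmul (qmul (0, 1, 4, 2) (a, b, c, d)) (2, 4, 1, 0)))
        (qmul (a, b, c, d) (qmul (qmul (0, 1, 4, 2) (a, b, c, d)) (2, 4, 1, 0))) = (4, 0, 0, 4) ∨
      qmul (qmul (a, b, c, d) (qmul (qmul (1, 3, 2, 2) (a, b, c, d)) (2, 2, 3, 1)))
        (qmul (a, b, c, d) (qmul (qmul (1, 3, 2, 2) (a, b, c, d)) (2, 2, 3, 1))) = (4, 0, 0, 4) := by
  decide +kernel

def enc (M : Matrix.SpecialLinearGroup (Fin 2) (ZMod 5)) : ZMod 5 × ZMod 5 × ZMod 5 × ZMod 5 :=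
  ((M : Matrix (Fin 2) (Fin 2) (ZMod 5)) 0 0, (M : Matrix (Fin 2) (Fin 2) (ZMod 5)) 0 1,
    (M : Matrix (Fin 2) (Fin 2) (ZMod 5)) 1 0, (M : Matrix (Fin 2) (Fin 2) (ZMod 5)) 1 1)

theorem enc_mul (A B : Matrix.SpecialLinearGroup (Fin 2) (ZMod 5)) : enc (A * B) = qmul (enc A) (enc B) := by
  simp [enc, qmul, Matrix.mul_apply, Fin.sum_univ_two]

theorem enc_inv (A : Matrix.SpecialLinearGroup (Fin 2) (ZMod 5)) :
    enc A⁻¹ = ((enc A).2.2.2, -(enc A).2.1, -(enc A).2.2.1, (enc A).1) := by
  simp [enc, Matrix.SpecialLinearGroup.coe_inv, Matrix.adjugate_fin_two]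

def t1 : Matrix.SpecialLinearGroup (Fin 2) (ZMod 5) := ⟨!![0, 1; 4, 2], by rw [Matrix.det_fin_two_of]; decide⟩

def t2 : Matrix.SpecialLinearGroup (Fin 2) (ZMod 5) := ⟨!![1, 3; 2, 2], by rw [Matrix.det_fin_two_of]; decide⟩

theorem enc_t1 : enc t1 = (0, 1, 4, 2) ∧ enc t1⁻¹ = (2, 4, 1, 0) := by
  refine ⟨by simp [enc, t1], ?_⟩
  rw [enc_inv]; simp [enc, t1]; decide

theorem enc_t2 : enc t2 = (1, 3, 2, 2) ∧ enc t2⁻¹ = (2, 2, 3, 1) := by
  refine ⟨by simp [enc, t2], ?_⟩
  rw [enc_inv]; simp [enc, t2]; decide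

theorem exists_word (x : Matrix.SpecialLinearGroup (Fin 2) (ZMod 5)) (hx : x * (x * x) = 1) (hx1 : x ≠ 1) :
    ∃ t : Matrix.SpecialLinearGroup (Fin 2) (ZMod 5),
      (((x * (t * x * t⁻¹)) * (x * (t * x * t⁻¹)) : Matrix.SpecialLinearGroup (Fin 2) (ZMod 5)) :
        Matrix (Fin 2) (Fin 2) (ZMod 5)) = -1 := by
  have hinj : ∀ A B, enc A = enc B → A = B := by
    intro A B h
    simp only [enc, Prod.mk.injEq] at h
    ext i j; fin_cases i <;> fin_cases j <;> simp [h]
  have h1 : enc 1 = (1, 0, 0, 1) := by simp [enc]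
  have hd : (enc x).1 * (enc x).2.2.2 - (enc x).2.1 * (enc x).2.2.1 = 1 :=
    (Matrix.det_fin_two _).symm.trans x.2
  have h3 : qmul (enc x) (qmul (enc x) (enc x)) = (1, 0, 0, 1) := by rw [← enc_mul, ← enc_mul, hx, h1]
  have hne : enc x ≠ (1, 0, 0, 1) := fun h => hx1 (hinj _ _ (h.trans h1.symm))
  have hneg : ∀ A, enc A = (4, 0, 0, 4) → (A : Matrix (Fin 2) (Fin 2) (ZMod 5)) = -1 := by
    intro A h
    simp only [enc, Prod.mk.injEq] at h
    ext i j; fin_cases i <;> fin_cases j <;> simp [h] <;> decide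
  rcases word5 _ _ _ _ hd h3 hne with h | h
  · refine ⟨t1, hneg _ ?_⟩
    simp only [enc_mul, enc_t1.1, enc_t1.2]
    exact h
  · refine ⟨t2, hneg _ ?_⟩
    simp only [enc_mul, enc_t2.1, enc_t2.2]
    exact h

/-- A linear map of order dividing five fixes every invariant subspace of dimension at most three over `F₃`. -/
theorem fixed_of_pow_five {F : Type*} [Field F] [Fintype F] (hF : Fintype.card F = 3) {V : Type*} [AddCommGroup V]
    [Module F V] [Finite V] (f : Module.End F V) (hf : f ^ 5 = 1) (W : Submodule F V) (hW : ∀ v ∈ W, f v ∈ W)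
    (hd : Module.finrank F W ≤ 3) : ∀ v ∈ W, f v = v := by
  classical
  have : Fact (Nat.Prime 5) := ⟨by norm_num⟩
  have := Fintype.ofFinite W
  let σ : Function.End W := fun v => ⟨f v.1, hW _ v.2⟩
  have hσn : ∀ n (v : W), ((σ ^ n) v).1 = (f ^ n) v.1 := by
    intro n
    induction n with
    | zero => intro v; rfl
    | succ n ih => intro v; rw [pow_succ, pow_succ]; exact ih (σ v)
  have hσ : σ ^ (5 : ℕ) ^ 1 = 1 := by
    funext v; apply Subtype.ext; rw [pow_one, hσn, hf]; rfl
  have hm := Equiv.Perm.card_fixedPoints_modEq hσ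
  let K := LinearMap.ker ((f - 1).comp W.subtype)
  have hK : Fintype.card (Function.fixedPoints σ) = Nat.card K := by
    rw [← Nat.card_eq_fintype_card]
    refine Nat.card_congr (Equiv.subtypeEquivRight fun v => ?_)
    show σ v = v ↔ v ∈ LinearMap.ker _
    rw [LinearMap.mem_ker, Subtype.ext_iff]
    simp [σ, sub_eq_zero]
  rw [hK, ← Nat.card_eq_fintype_card, Module.natCard_eq_pow_finrank (K := F),
    Module.natCard_eq_pow_finrank (K := F) (V := K), Nat.card_eq_fintype_card, hF] at hm
  have hle : Module.finrank F K ≤ Module.finrank F W := Submodule.finrank_le _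
  have hKe : Module.finrank F K = Module.finrank F W := by
    have : ∀ i < 4, ∀ j < 4, 3 ^ i % 5 = 3 ^ j % 5 → j = i := by decide
    exact this _ (by omega) _ (by omega) hm
  intro v hv
  have hKt := Submodule.eq_top_of_finrank_eq hKe
  have hmem : (⟨v, hv⟩ : W) ∈ K := hKt ▸ Submodule.mem_top
  rw [LinearMap.mem_ker] at hmem
  simpa [sub_eq_zero] using hmem

/-- Let F be the field with 3 elements and K the field with 5 elements. For every injective homomorphism φ from SL₂(K) into the symplectic group Sp₄(F) (4 × 4 matrices g with g J gᵀ = J for the standard alternating matrix J) and every element x of order 3 of SL₂(K), the vectors of F⁴ fixed by φ(x) form a 2-dimensional subspace that is totally isotropic for the alternating form defined by J. -/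
theorem result {F : Type*} [Field F] [Fintype F] (hF : Fintype.card F = 3)
    {K : Type*} [Field K] [Fintype K] (hK : Fintype.card K = 5)
    (φ : Matrix.SpecialLinearGroup (Fin 2) K →* ↥(Matrix.symplecticGroup (Fin 2) F)) (hφ : Function.Injective φ)
    (x : Matrix.SpecialLinearGroup (Fin 2) K) (hx : orderOf x = 3) :
    Module.finrank F ↥(LinearMap.ker (Matrix.toLin' ((φ x : Matrix (Fin 2 ⊕ Fin 2) (Fin 2 ⊕ Fin 2) F)) - LinearMap.id)) = 2 ∧
      ∀ v w : Fin 2 ⊕ Fin 2 → F, (φ x : Matrix (Fin 2 ⊕ Fin 2) (Fin 2 ⊕ Fin 2) F).mulVec v = v →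
        (φ x : Matrix (Fin 2 ⊕ Fin 2) (Fin 2 ⊕ Fin 2) F).mulVec w = w →
          dotProduct v ((Matrix.J (Fin 2) F).mulVec w) = 0 := by
  classical
  have : Fact (Nat.Prime 3) := ⟨by norm_num⟩
  have : CharP F 3 := charP_of_card_eq_prime hF
  have h30 : (3 : F) = 0 := by simpa using CharP.cast_eq_zero F 3
  have h20 : (2 : F) ≠ 0 := fun h => one_ne_zero (by linear_combination h30 - h : (1 : F) = 0)
  let e : ZMod 5 ≃+* K := ZMod.ringEquivOfPrime K (by norm_num) hK
  let mk : Matrix.SpecialLinearGroup (Fin 2) (ZMod 5) →* Matrix.SpecialLinearGroup (Fin 2) K :=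
    Matrix.SpecialLinearGroup.map e.toRingHom
  let mkInv : Matrix.SpecialLinearGroup (Fin 2) K →* Matrix.SpecialLinearGroup (Fin 2) (ZMod 5) :=
    Matrix.SpecialLinearGroup.map e.symm.toRingHom
  have hmk : ∀ a, mk (mkInv a) = a := fun a => by ext i j; simp [mk, mkInv]
  let Ψ : Matrix.SpecialLinearGroup (Fin 2) K →* Module.End F (Fin 2 ⊕ Fin 2 → F) :=
    { toFun := fun s => Matrix.toLin' (φ s : Matrix (Fin 2 ⊕ Fin 2) (Fin 2 ⊕ Fin 2) F)
      map_one' := by simp only [map_one, OneMemClass.coe_one, Matrix.toLin'_one]; rfl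
      map_mul' := fun a b => by simp only [map_mul, Submonoid.coe_mul, Matrix.toLin'_mul]; rfl }
  have hΨi : Function.Injective Ψ := fun a b h => hφ (Subtype.ext (Matrix.toLin'.injective h))
  have hV : Module.finrank F (Fin 2 ⊕ Fin 2 → F) = 4 := by simp
  -- the word
  have hx3 : x * (x * x) = 1 := by
    have h := pow_orderOf_eq_one x
    rwa [hx, pow_succ', pow_succ', pow_one] at h
  have hx1 : x ≠ 1 := fun h => by rw [h, orderOf_one] at hx; omega
  obtain ⟨t0, ht0⟩ := exists_word (mkInv x) (by rw [← map_mul, ← map_mul, hx3, map_one])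
    (fun h => hx1 (by rw [← hmk x, h, map_one]))
  set y := mk t0 * x * (mk t0)⁻¹ with hy
  set z := x * y * (x * y) with hzdef
  have hz : (z : Matrix (Fin 2) (Fin 2) K) = -1 := by
    have h : z = mk ((mkInv x * (t0 * mkInv x * t0⁻¹)) * (mkInv x * (t0 * mkInv x * t0⁻¹))) := by
      simp only [map_mul, map_inv, hmk, hzdef, hy]
    rw [h]
    ext i j
    simp only [mk, Matrix.SpecialLinearGroup.map_apply_coe, RingHom.mapMatrix_apply, Matrix.map_apply, ht0]
    fin_cases i <;> fin_cases j <;> simp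
  have h2K : (2 : K) ≠ 0 := by
    intro h
    have : (2 : ZMod 5) = 0 := e.injective (by rw [map_ofNat, map_zero]; exact h)
    exact absurd this (by decide)
  have hz1 : z ≠ 1 := by
    intro h
    rw [h] at hz
    have := congrFun (congrFun hz 0) 0
    simp at this
    exact h2K (by linear_combination this)
  have hzz : z * z = 1 := Subtype.ext (by simp [Matrix.SpecialLinearGroup.coe_mul, hz])
  have hzc : ∀ a, z * a = a * z := fun a => Subtype.ext (by simp [Matrix.SpecialLinearGroup.coe_mul, hz])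
  let u0 : Matrix.SpecialLinearGroup (Fin 2) (ZMod 5) := ⟨!![1, 1; 0, 1], by simp [Matrix.det_fin_two_of]⟩
  have hu5 : (mk u0) ^ 5 = 1 := by
    rw [← map_pow, show u0 ^ 5 = 1 from Subtype.ext (by
      simp [u0, Matrix.SpecialLinearGroup.coe_pow, pow_succ, Matrix.one_fin_two]; decide), map_one]
  have hu1 : mk u0 ≠ 1 := by
    intro h
    have h2 := congrFun (congrFun (congrArg Subtype.val h) 0) 1
    change e 1 = (0 : K) at h2
    simp at h2
  -- the central involution acts as minus one
  set Z := Ψ z with hZ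
  have hZZ : ∀ v, Z (Z v) = v := fun v => by
    change (Ψ z * Ψ z) v = v; rw [← map_mul, hzz, map_one]; rfl
  have hneg : ∀ v, Z v = -v := by
    by_contra hcon
    set Wp := LinearMap.ker (Z - 1) with hWp
    set Wm := LinearMap.ker (Z + 1) with hWm
    have hu : ∀ (W : Submodule F (Fin 2 ⊕ Fin 2 → F)), W ≠ ⊤ →
        (∀ v ∈ W, Ψ (mk u0) v ∈ W) → ∀ v ∈ W, Ψ (mk u0) v = v := fun W hW hWu =>
      fixed_of_pow_five hF _ (by rw [← map_pow, hu5, map_one]) W hWu (by
        have := Submodule.finrank_lt hW; rw [hV] at this; omega)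
    have hcom : ∀ a v, Z (Ψ a v) = Ψ a (Z v) := fun a v => by
      change (Ψ z * Ψ a) v = (Ψ a * Ψ z) v; rw [← map_mul, ← map_mul, hzc]
    have hp1 : Wp ≠ ⊤ := fun h => hz1 (hΨi (by
      rw [map_one]
      refine LinearMap.ext fun v => sub_eq_zero.1 ?_
      exact LinearMap.mem_ker.1 (h ▸ Submodule.mem_top : v ∈ Wp)))
    have hm1 : Wm ≠ ⊤ := fun h => hcon fun v => eq_neg_of_add_eq_zero_left
      (LinearMap.mem_ker.1 (h ▸ Submodule.mem_top : v ∈ Wm))
    have hp2 : ∀ v ∈ Wp, Ψ (mk u0) v = v := hu Wp hp1 fun v hv => by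
      simp only [hWp, LinearMap.mem_ker, LinearMap.sub_apply, Module.End.one_apply, sub_eq_zero] at hv ⊢
      rw [hcom, hv]
    have hm2 : ∀ v ∈ Wm, Ψ (mk u0) v = v := hu Wm hm1 fun v hv => by
      simp only [hWm, LinearMap.mem_ker, LinearMap.add_apply, Module.End.one_apply, add_eq_zero_iff_eq_neg] at hv ⊢
      rw [hcom, hv, map_neg]
    refine hu1 (hΨi ?_)
    rw [map_one]
    refine LinearMap.ext fun v => ?_
    have h1 := hp2 (v + Z v) (by simp [hWp, hZZ, add_comm])
    have h2 := hm2 (v - Z v) (by simp [hWm, hZZ])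
    rw [map_add] at h1
    rw [map_sub] at h2
    show Ψ (mk u0) v = v
    have h3 : (2 : F) • Ψ (mk u0) v = (2 : F) • v := by
      rw [two_smul, two_smul]
      have := congrArg₂ (· + ·) h1 h2
      simpa [add_add_sub_cancel] using this
    exact smul_right_injective _ h20 h3
  -- the fixed space
  set g := Ψ x with hg
  set g' := Ψ y with hg'
  set N := g - 1 with hN
  have hN3 : ∀ v, N (N (N v)) = 0 := by
    intro v
    have h : g (g (g v)) = v := by
      change (Ψ x * (Ψ x * Ψ x)) v = v; rw [← map_mul, ← map_mul, hx3, map_one]; rfl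
    simp only [hN, LinearMap.sub_apply, Module.End.one_apply, map_sub, h]
    have h3 : (3 : F) • (g v - g (g v)) = 0 := by rw [h30, zero_smul]
    rw [show (3 : F) = 1 + 1 + 1 by ring, add_smul, add_smul, one_smul] at h3
    linear_combination (norm := module) h3
  set d := Module.finrank F (LinearMap.ker N) with hd
  have hrn : Module.finrank F (LinearMap.range N) + d = 4 := by
    rw [hd, LinearMap.finrank_range_add_finrank_ker, hV]
  have hdle : d ≤ 2 := by
    by_contra hd3
    have hd' : Module.finrank F (LinearMap.ker (g' - 1)) = d := by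
      have hT : Function.Bijective (Ψ (mk t0)) := by
        refine ⟨fun a b h => ?_, fun b => ⟨Ψ (mk t0)⁻¹ b, ?_⟩⟩
        · have := congrArg (Ψ (mk t0)⁻¹) h
          change (Ψ _ * Ψ _) a = (Ψ _ * Ψ _) b at this
          simpa [← map_mul] using this
        · change (Ψ _ * Ψ _) b = b; simp [← map_mul]
      let T := LinearEquiv.ofBijective (Ψ (mk t0)) hT
      suffices he : (LinearMap.ker N).map (T : (Fin 2 ⊕ Fin 2 → F) →ₗ[F] (Fin 2 ⊕ Fin 2 → F)) = LinearMap.ker (g' - 1) by
        rw [hd, ← he]; exact LinearEquiv.finrank_map_eq T _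
      ext v
      rw [Submodule.map_equiv_eq_comap_symm]
      simp only [Submodule.mem_comap, LinearEquiv.coe_coe, LinearMap.mem_ker, hN, LinearMap.sub_apply,
        Module.End.one_apply, sub_eq_zero]
      have h1 : g' v = T (g (T.symm v)) := by
        have h2 : (Ψ (mk t0)⁻¹) v = T.symm v := T.injective (by
          rw [T.apply_symm_apply]; change (Ψ _ * Ψ _) v = v; simp [← map_mul])
        rw [← h2]
        change Ψ y v = (Ψ (mk t0) * (Ψ x * Ψ (mk t0)⁻¹)) v
        rw [← map_mul, ← map_mul, hy, mul_assoc]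
      rw [h1]
      exact ⟨fun h => by rw [h, T.apply_symm_apply], fun h => T.injective (h.trans (T.apply_symm_apply v).symm)⟩
    have hbot : LinearMap.ker N ⊓ LinearMap.ker (g' - 1) = ⊥ := by
      refine (Submodule.eq_bot_iff _).2 fun v hv => ?_
      obtain ⟨h1, h2⟩ := Submodule.mem_inf.1 hv
      simp only [hN, LinearMap.mem_ker, LinearMap.sub_apply, Module.End.one_apply, sub_eq_zero] at h1 h2
      have h : Z v = v := by
        change Ψ (x * y * (x * y)) v = v
        simp only [map_mul, Module.End.mul_apply, ← hg, ← hg', h1, h2]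
      rw [hneg] at h
      have : (2 : F) • v = 0 := by rw [two_smul]; nth_rw 1 [← h]; simp
      exact (smul_eq_zero.1 this).resolve_left h20
    have h := Submodule.finrank_sup_add_finrank_inf_eq (LinearMap.ker N) (LinearMap.ker (g' - 1))
    rw [hbot, finrank_bot, hd'] at h
    have h4 := Submodule.finrank_le (LinearMap.ker N ⊔ LinearMap.ker (g' - 1))
    rw [hV] at h4
    omega
  have hdge : 2 ≤ d := by
    by_contra hd1
    have key : ∀ S : Submodule F (Fin 2 ⊕ Fin 2 → F), Module.finrank F S ≤ Module.finrank F (S.map N) + d := by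
      intro S
      have h := LinearMap.finrank_range_add_finrank_ker (N.comp S.subtype)
      rw [LinearMap.range_comp, Submodule.range_subtype] at h
      have h2 : Module.finrank F (LinearMap.ker (N.comp S.subtype)) ≤ d := by
        rw [(Submodule.equivMapOfInjective S.subtype S.injective_subtype _).finrank_eq]
        refine Submodule.finrank_mono ?_
        rintro _ ⟨c, hc, rfl⟩
        exact hc
      omega
    have k1 := key ⊤
    have k2 := key (Submodule.map N ⊤)
    have k3 := key (Submodule.map N (Submodule.map N ⊤))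
    have hz0 : Submodule.map N (Submodule.map N (Submodule.map N ⊤)) = ⊥ := by
      rw [eq_bot_iff]
      rintro _ ⟨_, ⟨_, ⟨v, -, rfl⟩, rfl⟩, rfl⟩
      exact hN3 v
    rw [hz0, finrank_bot] at k3
    rw [finrank_top, hV] at k1
    omega
  have hd2 : d = 2 := le_antisymm hdle hdge
  -- the form
  let ω : (Fin 2 ⊕ Fin 2 → F) → (Fin 2 ⊕ Fin 2 → F) → F := fun v w => dotProduct v ((Matrix.J (Fin 2) F).mulVec w)
  have hinv : ∀ v w, ω (g v) (g w) = ω v w := by
    intro v w
    have h := SymplecticGroup.mem_iff'.1 (φ x).2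
    show dotProduct ((φ x : Matrix _ _ F).mulVec v) ((Matrix.J (Fin 2) F).mulVec ((φ x : Matrix _ _ F).mulVec w)) = _
    rw [← Matrix.vecMul_transpose, ← Matrix.dotProduct_mulVec, Matrix.mulVec_mulVec, Matrix.mulVec_mulVec, h]
  have hskew : ∀ v w, ω w v = -ω v w := by
    intro v w
    show dotProduct w ((Matrix.J (Fin 2) F).mulVec v) = -dotProduct v ((Matrix.J (Fin 2) F).mulVec w)
    rw [Matrix.dotProduct_mulVec, dotProduct_comm, ← Matrix.mulVec_transpose, Matrix.J_transpose, Matrix.neg_mulVec,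
      dotProduct_neg]
  have halt : ∀ v, ω v v = 0 := fun v => by
    have h := hskew v v
    exact (mul_eq_zero.1 (show (2 : F) * ω v v = 0 by linear_combination h)).resolve_left h20
  have hadd : ∀ a b w, ω (a + b) w = ω a w + ω b w := fun a b w => add_dotProduct _ _ _
  have hsub : ∀ a b w, ω (a - b) w = ω a w - ω b w := fun a b w => sub_dotProduct _ _ _
  have hsmul : ∀ (c : F) a w, ω (c • a) w = c * ω a w := fun c a w => smul_dotProduct _ _ _
  have hperp : ∀ a w, g w = w → ω (N a) w = 0 := by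
    intro a w hw
    rw [show N a = g a - a from rfl, hsub]
    nth_rw 1 [← hw]
    rw [hinv, sub_self]
  have hNN : ∀ v, N (N v) = 0 := by
    intro u
    by_contra hu0
    set v1 := N (N u) with hv1
    set v2 := N u with hv2
    have hli : LinearIndependent F ![v1, v2] := by
      refine linearIndependent_fin2.2 ⟨fun h => hu0 ?_, fun c hc => ?_⟩
      · simp only [Matrix.cons_val_one, Matrix.head_cons, Matrix.cons_val_fin_one] at h; rw [hv1, h, map_zero]
      · simp only [Matrix.cons_val_one, Matrix.head_cons, Matrix.cons_val_fin_one, Matrix.cons_val_zero] at hc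
        have h1 : N (c • v2) = 0 := by rw [hc, hv1]; exact hN3 u
        rw [map_smul, ← hv1] at h1
        rcases smul_eq_zero.1 h1 with h1 | h1
        · rw [h1, zero_smul] at hc; exact hu0 hc.symm
        · exact hu0 h1
    have hsp : Submodule.span F (Set.range ![v1, v2]) = LinearMap.range N := by
      refine Submodule.eq_of_le_of_finrank_eq ?_ ?_
      · rw [Submodule.span_le]
        rintro _ ⟨i, rfl⟩
        fin_cases i
        · exact LinearMap.mem_range_self N (N u)
        · exact LinearMap.mem_range_self N u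
      · rw [finrank_span_eq_card hli, Fintype.card_fin]; omega
    have hg1 : g v1 = v1 := sub_eq_zero.1 (hN3 u)
    have hv2mem : ∀ w, w ∈ LinearMap.range N → ω w v2 = 0 := by
      intro w hw
      rw [← hsp, Matrix.range_cons, Matrix.range_cons, Matrix.range_empty, Set.union_empty,
        Set.singleton_union, Submodule.mem_span_pair] at hw
      obtain ⟨a, b, rfl⟩ := hw
      rw [hadd, hsmul, hsmul, halt, hskew, hv2, hperp u v1 hg1]
      ring
    refine hu0 ?_
    have hfix : ∀ a, ω (g a) v2 = ω a v2 := fun a => by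
      have h := hv2mem (N a) (LinearMap.mem_range_self N a)
      rw [show N a = g a - a from rfl, hsub, sub_eq_zero] at h
      exact h
    have hgv : g v2 = v2 := by
      have h : ∀ a, ω a (g v2) = ω a v2 := by
        intro a
        obtain ⟨b, rfl⟩ : ∃ b, g b = a := ⟨Ψ (x * x) a, by
          change (Ψ x * Ψ (x * x)) a = a; rw [← map_mul, hx3, map_one]; rfl⟩
        rw [hinv]; exact (hfix b).symm
      have h' : (Matrix.J (Fin 2) F).mulVec (g v2) = (Matrix.J (Fin 2) F).mulVec v2 :=
        dotProduct_eq _ _ fun a => by rw [dotProduct_comm, dotProduct_comm _ a]; exact h a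
      exact Matrix.mulVec_injective_of_isUnit ((Matrix.isUnit_iff_isUnit_det _).2 (Matrix.isUnit_det_J _ _)) h'
    exact sub_eq_zero.2 hgv
  refine ⟨hd2, fun v w hv hw => ?_⟩
  have hrk : LinearMap.range N = LinearMap.ker N := Submodule.eq_of_le_of_finrank_eq
    (by rintro _ ⟨a, rfl⟩; exact hNN a) (by omega)
  obtain ⟨a, rfl⟩ : v ∈ LinearMap.range N := hrk ▸ (LinearMap.mem_ker.2 (sub_eq_zero.2 hv))
  exact hperp a w hw

end Cfsg.Agent.S3213
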