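import Cfsg.Statements.S3215
import Mathlib
import Cfsg.Agent.Coprime.Fitting
import Cfsg.Agent.Frobenius.FpfGroups
import Cfsg.Agent.S0005
import Cfsg.Agent.S0086

set_option autoImplicit false
open Cfsg
open scoped commutatorElement

namespace Cfsg.Agent.S3215

variable {H : Type*} [Group H] [Finite H]

/-- A nontrivial element of odd order and a nontrivial element of `O₂(H)` never commute. -/
theorem no_commute (hsol : Group.IsSolvable H) (hO : Cfsg.oddCore H = ⊥)
    (hI : ∀ t : H, orderOf t = 2 → Cfsg.HasNormalPComplement 2 ↥(Subgroup.centralizer ({t} : Set H)))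
    (x y : H) (hxo : Odd (orderOf x)) (hx : x ≠ 1) (hyY : y ∈ Cfsg.pCore 2 H) (hy : y ≠ 1) : ¬ Commute x y := by
  have : Fact (Nat.Prime 2) := ⟨Nat.prime_two⟩
  intro hxy
  set Y := Cfsg.pCore 2 H with hYdef
  have hYn : Y.Normal := Cfsg.Lib.Components.pCore_normal' 2
  have hY2 : IsPGroup 2 Y := Cfsg.Lib.Components.isPGroup_pCore 2
  have hcl : ∀ t ∈ Y, orderOf t = 2 → Commute x t → ∀ c ∈ Y, Commute c t → Commute x c := by
    intro t _ ht hxt c hc hct
    obtain ⟨P, N, hNn, hN⟩ := hI t ht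
    set xc : Subgroup.centralizer ({t} : Set H) := ⟨x, Subgroup.mem_centralizer_singleton_iff.2 hxt.eq⟩ with hxc
    set cc : Subgroup.centralizer ({t} : Set H) := ⟨c, Subgroup.mem_centralizer_singleton_iff.2 hct.eq⟩ with hcc
    have hxN : xc ∈ N := by
      rw [Cfsg.Agent.S0086.result P N hN, ← Subgroup.orderOf_coe]
      exact Nat.coprime_two_right.2 hxo
    have hk : xc * cc * xc⁻¹ * cc⁻¹ ∈ N := by
      have h1 := hNn.conj_mem _ (N.inv_mem hxN) cc
      have h2 := N.mul_mem hxN h1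
      rwa [← mul_assoc, ← mul_assoc] at h2
    have ho1 : Odd (orderOf (x * c * x⁻¹ * c⁻¹)) := by
      have := (Cfsg.Agent.S0086.result P N hN _).1 hk
      rw [← Subgroup.orderOf_coe] at this
      exact Nat.coprime_two_right.1 this
    obtain ⟨k, hk2⟩ := hY2 ⟨x * c * x⁻¹ * c⁻¹, Y.mul_mem (hYn.conj_mem c hc x) (Y.inv_mem hc)⟩
    obtain ⟨j, -, hj⟩ := (Nat.dvd_prime_pow Nat.prime_two).1 (orderOf_dvd_of_pow_eq_one (congrArg Subtype.val hk2))
    rcases Nat.eq_zero_or_pos j with rfl | hj0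
    · rw [pow_zero, orderOf_eq_one_iff, mul_inv_eq_one, mul_inv_eq_iff_eq_mul] at hj
      exact hj
    · exfalso
      simp only at hj
      rw [hj] at ho1
      exact absurd ho1 (by simp [Nat.odd_pow_iff hj0.ne', parity_simps])
  obtain ⟨k, hk⟩ := hY2 ⟨y, hyY⟩
  obtain ⟨j, -, hj⟩ := (Nat.dvd_prime_pow Nat.prime_two).1 (orderOf_dvd_of_pow_eq_one (congrArg Subtype.val hk))
  simp only at hj
  have hj0 : j ≠ 0 := fun h => hy (by rw [h, pow_zero, orderOf_eq_one_iff] at hj; exact hj)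
  set t := y ^ (2 ^ (j - 1)) with ht
  have hto : orderOf t = 2 := by
    rw [ht, orderOf_pow' y (by positivity), hj, Nat.gcd_eq_right (pow_dvd_pow 2 (by omega)), Nat.pow_div (by omega) two_pos,
      show j - (j - 1) = 1 by omega, pow_one]
  have htY : t ∈ Y := Y.pow_mem hyY _
  have : Nontrivial Y := ⟨⟨⟨y, hyY⟩, 1, fun h => hy (congrArg Subtype.val h)⟩⟩
  have : Nontrivial (Subgroup.center Y) := hY2.center_nontrivial
  obtain ⟨n, hn, hcard⟩ := (IsPGroup.nontrivial_iff_card (hY2.to_subgroup (Subgroup.center Y))).1 inferInstance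
  obtain ⟨z, hz⟩ := exists_prime_orderOf_dvd_card' (G := Subgroup.center Y) 2 (hcard ▸ dvd_pow_self 2 (by omega))
  have hzc : ∀ c ∈ Y, Commute c ((z : Y) : H) := fun c hc =>
    congrArg Subtype.val ((Subgroup.mem_center_iff.1 z.2) ⟨c, hc⟩)
  have hzo : orderOf ((z : Y) : H) = 2 := by rw [Subgroup.orderOf_coe, Subgroup.orderOf_coe, hz]
  have hxz : Commute x ((z : Y) : H) := hcl t htY hto (hxy.pow_right _) _ (z : Y).2 (hzc t htY).symm
  have hxC : x ∈ Y := by
    refine Cfsg.Lib.Coprime.centralizer_pCore_le 2 hO (Subgroup.mem_centralizer_iff.2 fun c hc => ?_)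
    exact (hcl _ (z : Y).2 hzo hxz c hc (hzc c hc)).eq.symm
  obtain ⟨k, hk⟩ := hY2 ⟨x, hxC⟩
  exact hx (orderOf_eq_one_iff.1 (Nat.eq_one_of_dvd_coprimes
    ((Nat.coprime_two_right.2 hxo).pow_right k) dvd_rfl (orderOf_dvd_of_pow_eq_one (congrArg Subtype.val hk))))

/-- A nontrivial element of odd order commutes with no involution. -/
theorem no_commute_involution (hsol : Group.IsSolvable H) (hO : Cfsg.oddCore H = ⊥)
    (hI : ∀ t : H, orderOf t = 2 → Cfsg.HasNormalPComplement 2 ↥(Subgroup.centralizer ({t} : Set H)))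
    (x t : H) (hxo : Odd (orderOf x)) (hx : x ≠ 1) (ht : orderOf t = 2) : ¬ Commute x t := by
  classical
  have : Fact (Nat.Prime 2) := ⟨Nat.prime_two⟩
  intro hxt
  set Y := Cfsg.pCore 2 H with hYdef
  have hYn : Y.Normal := Cfsg.Lib.Components.pCore_normal' 2
  have hY2 : IsPGroup 2 Y := Cfsg.Lib.Components.isPGroup_pCore 2
  by_cases hYb : Y = ⊥
  · refine hx (Subgroup.mem_bot.1 (hYb ▸ Cfsg.Lib.Coprime.centralizer_pCore_le 2 hO (Subgroup.mem_centralizer_iff.2 fun c hc => ?_)))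
    rw [SetLike.mem_coe, ← hYdef, hYb, Subgroup.mem_bot] at hc
    rw [hc, one_mul, mul_one]
  · haveI : Fintype Y := Fintype.ofFinite Y
    have : Nontrivial Y := (Subgroup.nontrivial_iff_ne_bot Y).2 hYb
    obtain ⟨n, hn, hcard⟩ := (IsPGroup.nontrivial_iff_card hY2).1 inferInstance
    let σ : Equiv.Perm Y := ((MulAut.conjNormal t : MulAut Y)).toEquiv
    have hσ : σ ^ (2 ^ 1) = 1 := by
      rw [pow_one, sq]
      refine Equiv.ext fun c => Subtype.ext ?_
      show t * (t * (c : H) * t⁻¹) * t⁻¹ = c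
      have ht2 : t * t = 1 := by rw [← sq, ← ht, pow_orderOf_eq_one]
      rw [inv_eq_of_mul_eq_one_right ht2, ← mul_assoc t, ← mul_assoc t t, ht2, one_mul, mul_assoc, ht2, mul_one]
    obtain ⟨c, hc, hc1⟩ := Equiv.Perm.exists_fixed_point_of_prime' (p := 2) (by rw [← Nat.card_eq_fintype_card, hcard]; exact dvd_pow_self 2 (by omega))
      hσ (a := 1) (by ext; show t * (1 : H) * t⁻¹ = 1; rw [mul_one, mul_inv_cancel])
    have hct : Commute t (c : H) := by
      have h2 : t * (c : H) * t⁻¹ = c := congrArg Subtype.val hc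
      exact mul_inv_eq_iff_eq_mul.1 h2
    obtain ⟨P, N, hNn, hN⟩ := hI t ht
    set xc : Subgroup.centralizer ({t} : Set H) := ⟨x, Subgroup.mem_centralizer_singleton_iff.2 hxt.eq⟩
    set cc : Subgroup.centralizer ({t} : Set H) := ⟨c, Subgroup.mem_centralizer_singleton_iff.2 hct.eq.symm⟩
    have hxN : xc ∈ N := by
      rw [Cfsg.Agent.S0086.result P N hN, ← Subgroup.orderOf_coe]
      exact Nat.coprime_two_right.2 hxo
    have hk : xc * cc * xc⁻¹ * cc⁻¹ ∈ N := by
      have h1 := hNn.conj_mem _ (N.inv_mem hxN) cc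
      have h2 := N.mul_mem hxN h1
      rwa [← mul_assoc, ← mul_assoc] at h2
    have ho1 : Nat.Coprime (orderOf (x * (c : H) * x⁻¹ * (c : H)⁻¹)) 2 := by
      have := (Cfsg.Agent.S0086.result P N hN _).1 hk
      rwa [← Subgroup.orderOf_coe] at this
    obtain ⟨k, hk2⟩ := hY2 ⟨x * (c : H) * x⁻¹ * (c : H)⁻¹, Y.mul_mem (hYn.conj_mem c c.2 x) (Y.inv_mem c.2)⟩
    have := Nat.eq_one_of_dvd_coprimes (ho1.pow_right k) dvd_rfl (orderOf_dvd_of_pow_eq_one (congrArg Subtype.val hk2))
    rw [orderOf_eq_one_iff, mul_inv_eq_one, mul_inv_eq_iff_eq_mul] at this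
    exact no_commute hsol hO hI x c hxo hx c.2 (fun h => hc1 (Subtype.ext h)) this

theorem sylow_cyclic (hsol : Group.IsSolvable H) (hO : Cfsg.oddCore H = ⊥)
    (hI : ∀ t : H, orderOf t = 2 → Cfsg.HasNormalPComplement 2 ↥(Subgroup.centralizer ({t} : Set H)))
    (p : ℕ) [Fact p.Prime] (hp : p ≠ 2) (P : Subgroup H) (hP : IsPGroup p P) : IsCyclic P := by
  have : Fact (Nat.Prime 2) := ⟨Nat.prime_two⟩
  have hYn : (Cfsg.pCore 2 H).Normal := Cfsg.Lib.Components.pCore_normal' 2
  by_cases hYb : Cfsg.pCore 2 H = ⊥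
  · have : Subsingleton H := ⟨fun u v => by
      have hall : ∀ w : H, w = 1 := fun w => Subgroup.mem_bot.1 (hYb ▸ Cfsg.Lib.Coprime.centralizer_pCore_le 2 hO
        (Subgroup.mem_centralizer_iff.2 fun c hc => by
          rw [SetLike.mem_coe, hYb, Subgroup.mem_bot] at hc
          rw [hc, one_mul, mul_one]))
      rw [hall u, hall v]⟩
    infer_instance
  have hfp : Cfsg.Lib.Frobenius.Fpf P (Cfsg.pCore 2 H) := fun a ha ha1 => by
    rw [eq_bot_iff]
    rintro v ⟨hv, hva⟩
    rw [Subgroup.mem_bot]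
    by_contra hv1
    refine no_commute hsol hO hI a v ?_ ha1 hv hv1 (Subgroup.mem_centralizer_singleton_iff.1 hva).symm
    obtain ⟨k, hk⟩ := hP ⟨a, ha⟩
    exact ((Nat.Prime.odd_of_ne_two Fact.out hp).pow).of_dvd_nat (orderOf_dvd_of_pow_eq_one (congrArg Subtype.val hk))
  rcases hfp.isCyclic_or_quaternion (p := p) Subgroup.le_normalizer_of_normal hYb hP with h | ⟨h, -⟩
  · exact h
  · exact absurd h hp

theorem card_comap_mk (Y : Subgroup H) [Y.Normal] (M : Subgroup (H ⧸ Y)) :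
    Nat.card (M.comap (QuotientGroup.mk' Y)) = Nat.card Y * Nat.card M := by
  have h1 := (M.comap (QuotientGroup.mk' Y)).card_mul_index
  rw [Subgroup.index_comap_of_surjective M (QuotientGroup.mk'_surjective Y), ← Y.card_mul_index, Subgroup.index_eq_card Y,
    ← M.card_mul_index, ← mul_assoc] at h1
  exact Nat.eq_of_mul_eq_mul_right (Nat.pos_of_ne_zero Subgroup.index_ne_zero_of_finite) h1

/-- Let H be a finite solvable group with no nontrivial normal subgroup of odd order in which the centralizer of every involution has a normal 2-complement. Let X be a Hall 2'-subgroup of H (odd order, index a power of 2) and Y = O₂(H). Then no non-identity element of X commutes with a non-identity element of Y (so for X ≠ 1 the group XY is a Frobenius group with kernel Y), every Sylow subgroup of X is cyclic, XY is normal in H, and H/XY is a cyclic 2-group. -/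
theorem result {H : Type*} [Group H] [Finite H] (hsol : Group.IsSolvable H)
    (hO : Cfsg.oddCore H = ⊥)
    (hI : ∀ t : H, orderOf t = 2 → Cfsg.HasNormalPComplement 2 ↥(Subgroup.centralizer ({t} : Set H)))
    (X : Subgroup H) (hXodd : Odd (Nat.card X)) (hXidx : ∃ k : ℕ, X.index = 2 ^ k) :
    (∀ x ∈ X, x ≠ 1 → ∀ y ∈ Cfsg.pCore 2 H, y ≠ 1 → x * y ≠ y * x) ∧
      (∀ (p : ℕ) [Fact p.Prime] (P : Sylow p ↥X), IsCyclic ↥(P : Subgroup ↥X)) ∧
      (X ⊔ Cfsg.pCore 2 H).Normal ∧
      ∀ hN : (X ⊔ Cfsg.pCore 2 H).Normal, IsCyclic (H ⧸ (X ⊔ Cfsg.pCore 2 H)) ∧ IsPGroup 2 (H ⧸ (X ⊔ Cfsg.pCore 2 H)) := by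
  classical
  have : Fact (Nat.Prime 2) := ⟨Nat.prime_two⟩
  obtain ⟨kX, hkX⟩ := hXidx
  refine ⟨fun x hx hx1 y hy hy1 => no_commute hsol hO hI x y (hXodd.of_dvd_nat (Subgroup.orderOf_dvd_natCard X hx)) hx1 hy hy1, ?_, ?_⟩
  · intro p hp P
    by_cases hp2 : p = 2
    · subst hp2
      have : Subsingleton (P : Subgroup X) := by
        rw [← Finite.card_le_one_iff_subsingleton]
        obtain ⟨n, hn⟩ := IsPGroup.iff_card.1 P.isPGroup'
        rcases Nat.eq_zero_or_pos n with rfl | h0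
        · rw [hn, pow_zero]
        · exact absurd ((dvd_pow_self 2 h0.ne').trans (hn ▸ Subgroup.card_subgroup_dvd_card (P : Subgroup X))) hXodd.not_two_dvd_nat
      infer_instance
    · have := sylow_cyclic hsol hO hI p hp2 ((P : Subgroup X).map X.subtype) (P.isPGroup'.map _)
      exact isCyclic_of_surjective ((P : Subgroup X).equivMapOfInjective X.subtype X.subtype_injective).symm (MulEquiv.surjective _)
  set Y := Cfsg.pCore 2 H with hYdef
  have hYn : Y.Normal := Cfsg.Lib.Components.pCore_normal' 2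
  have hY2 : IsPGroup 2 Y := Cfsg.Lib.Components.isPGroup_pCore 2
  suffices hmain : (X ⊔ Y).Normal ∧ ∀ hN : (X ⊔ Y).Normal, IsCyclic (H ⧸ (X ⊔ Y)) from
    ⟨hmain.1, fun hN => ⟨hmain.2 hN, by
      obtain ⟨j, -, hj⟩ := (Nat.dvd_prime_pow Nat.prime_two).1 (hkX ▸ Subgroup.index_dvd_of_le (le_sup_left : X ≤ X ⊔ Y))
      exact IsPGroup.of_card (n := j) (by rw [← Subgroup.index_eq_card]; exact hj)⟩⟩
  set π := QuotientGroup.mk' Y with hπ
  have hπs : Function.Surjective π := QuotientGroup.mk'_surjective _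
  have hXY : (X ⊔ Y) = (X.map π).comap π := by
    rw [Subgroup.comap_map_eq, QuotientGroup.ker_mk']
  have hXc : Odd (Nat.card (X.map π)) := hXodd.of_dvd_nat (Subgroup.card_map_dvd _ _)
  obtain ⟨jX, -, hXi⟩ := (Nat.dvd_prime_pow Nat.prime_two).1 (hkX ▸ Subgroup.index_map_dvd (f := π) hπs (H := X))
  by_cases hX1 : X.map π = ⊥
  · have htop : X ⊔ Y = ⊤ := by
      rw [hXY, hX1]
      rw [Subgroup.index_eq_card X] at *
      rw [← Subgroup.comap_top π]
      congr 1
      rw [eq_comm, eq_bot_iff]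
      intro q _
      have h2 : IsPGroup 2 (H ⧸ Y) := IsPGroup.of_card (n := jX) (by rw [← Subgroup.index_bot, ← hX1]; exact hXi)
      have hle : (⊤ : Subgroup (H ⧸ Y)).comap π ≤ Y :=
        Cfsg.Lib.Components.le_pCore (by
          rw [Subgroup.comap_top]
          obtain ⟨nY, hnY⟩ := IsPGroup.iff_card.1 hY2
          obtain ⟨nQ, hnQ⟩ := IsPGroup.iff_card.1 h2
          exact IsPGroup.of_card (n := nY + nQ) (by
            rw [Subgroup.card_top, ← Y.card_mul_index, Subgroup.index_eq_card, hnY, hnQ, pow_add]))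
      obtain ⟨h, rfl⟩ := hπs q
      exact Subgroup.mem_bot.2 ((QuotientGroup.eq_one_iff h).2 (hle (Subgroup.mem_top _)))
    exact ⟨htop ▸ inferInstance, fun hN => by
      have : Subsingleton (H ⧸ (X ⊔ Y)) := by
        rw [← Finite.card_le_one_iff_subsingleton, ← Subgroup.index_eq_card, htop, Subgroup.index_top]
      infer_instance⟩
  -- `O₂(H/Y) = 1`
  have hcore : ∀ M : Subgroup (H ⧸ Y), M.Normal → IsPGroup 2 M → M = ⊥ := fun M hMn hM => by
    have hle : M.comap π ≤ Y := Cfsg.Lib.Components.le_pCore (hn := hMn.comap π) (by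
      obtain ⟨nY, hnY⟩ := IsPGroup.iff_card.1 hY2
      obtain ⟨nQ, hnQ⟩ := IsPGroup.iff_card.1 hM
      refine IsPGroup.of_card (n := nY + nQ) ?_
      rw [card_comap_mk, hnY, hnQ, pow_add])
    rw [eq_bot_iff]
    intro q hq
    obtain ⟨h, rfl⟩ := hπs q
    exact Subgroup.mem_bot.2 ((QuotientGroup.eq_one_iff h).2 (hle hq))
  have : Nontrivial (H ⧸ Y) := by
    by_contra hh
    rw [not_nontrivial_iff_subsingleton] at hh
    exact hX1 (Subsingleton.elim _ _)
  obtain ⟨M, hMn, hMab, hMb⟩ : ∃ M : Subgroup (H ⧸ Y), M.Normal ∧ IsMulCommutative M ∧ M ≠ ⊥ := by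
    obtain ⟨n, hn⟩ := Group.IsSolvable.solvable (G := H ⧸ Y)
    classical
    have hex : ∃ n, derivedSeries (H ⧸ Y) n = ⊥ := ⟨n, hn⟩
    have hpos : 0 < Nat.find hex := Nat.pos_of_ne_zero fun h => by
      have := Nat.find_spec hex
      rw [h] at this
      exact top_ne_bot this
    refine ⟨derivedSeries _ (Nat.find hex - 1), derivedSeries_normal _ _, ⟨⟨fun u v => ?_⟩⟩, Nat.find_min hex (by omega)⟩
    have := Nat.find_spec hex
    rw [show Nat.find hex = Nat.find hex - 1 + 1 by omega, derivedSeries_succ, eq_bot_iff] at this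
    exact Subtype.ext (commutatorElement_eq_one_iff_mul_comm.1 (Subgroup.mem_bot.1 (this (Subgroup.commutator_mem_commutator u.2 v.2))))
  set q := (Nat.card M).minFac with hq
  have hM1 : Nat.card M ≠ 1 := fun h => hMb (Subgroup.card_eq_one.1 h)
  have hqp : Fact q.Prime := ⟨Nat.minFac_prime hM1⟩
  -- the elements of order dividing `q`
  let M0 : Subgroup (H ⧸ Y) :=
    { carrier := {u | u ∈ M ∧ u ^ q = 1}
      one_mem' := ⟨M.one_mem, one_pow q⟩
      mul_mem' := fun {u v} hu hv => ⟨M.mul_mem hu.1 hv.1, by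
        rw [(show Commute u v from congrArg Subtype.val (hMab.is_comm.comm (⟨u, hu.1⟩ : M) ⟨v, hv.1⟩)).mul_pow, hu.2, hv.2, mul_one]⟩
      inv_mem' := fun {u} hu => ⟨M.inv_mem hu.1, by rw [inv_pow, hu.2, inv_one]⟩ }
  have hM0n : M0.Normal := ⟨fun u hu g => ⟨hMn.conj_mem u hu.1 g, by rw [conj_pow, hu.2, mul_one, mul_inv_cancel]⟩⟩
  have hM0p : IsPGroup q M0 := fun u => ⟨1, Subtype.ext (by rw [pow_one]; exact u.2.2)⟩
  obtain ⟨f, hf⟩ := exists_prime_orderOf_dvd_card' (G := M) q (Nat.minFac_dvd _)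
  have hfo : orderOf (f : H ⧸ Y) = q := (Subgroup.orderOf_coe f).trans hf
  have hfM0 : (f : H ⧸ Y) ∈ M0 := ⟨f.2, by rw [← hfo]; exact pow_orderOf_eq_one _⟩
  have hq2 : q ≠ 2 := fun h => by
    have := hcore M0 hM0n (h ▸ hM0p)
    have h1 := Subgroup.mem_bot.1 (this ▸ hfM0)
    rw [h1, orderOf_one] at hfo
    exact hqp.out.one_lt.ne hfo
  -- `M0` is the group generated by `f`
  obtain ⟨Q', hQ'⟩ := hM0p.exists_le_sylow
  obtain ⟨Q, hQ⟩ := Sylow.mapSurjective_surjective (f := π) hπs q Q'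
  have hQc := sylow_cyclic hsol hO hI q hq2 (Q : Subgroup H) Q.isPGroup'
  have hQ'c : IsCyclic (Q' : Subgroup (H ⧸ Y)) := by
    rw [← hQ, Sylow.coe_mapSurjective]
    exact isCyclic_of_surjective (π.subgroupMap (Q : Subgroup H)) (π.subgroupMap_surjective _)
  have hM0c : IsCyclic M0 := Subgroup.isCyclic_of_le hQ'
  have hM0e : M0 = Subgroup.zpowers (f : H ⧸ Y) := by
    refine (Subgroup.eq_of_le_of_card_ge (Subgroup.zpowers_le.2 hfM0) ?_).symm
    rw [Nat.card_zpowers, hfo, ← hM0c.exponent_eq_card]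
    exact Nat.le_of_dvd hqp.out.pos (Monoid.exponent_dvd_of_forall_pow_eq_one fun u => Subtype.ext u.2.2)
  -- the centraliser of `M0` has odd order
  set C := Subgroup.centralizer (M0 : Set (H ⧸ Y)) with hC
  have hCn : C.Normal := Subgroup.normal_centralizer
  have hCodd : Odd (Nat.card C) := by
    rw [Nat.odd_iff]
    by_contra hev
    obtain ⟨α, hα⟩ := exists_prime_orderOf_dvd_card' (G := C) 2 (Nat.dvd_of_mod_eq_zero (by omega))
    -- work in the preimage
    obtain ⟨x0, hx0⟩ := hπs (f : H ⧸ Y)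
    obtain ⟨s0, hs0⟩ := hπs (α : H ⧸ Y)
    set W := (Subgroup.zpowers (f : H ⧸ Y) ⊔ Subgroup.zpowers (α : H ⧸ Y)).comap π with hW
    set W0 := (Subgroup.zpowers (f : H ⧸ Y)).comap π with hW0
    have hle : W0 ≤ W := Subgroup.comap_mono le_sup_left
    have hW0n : W0.Normal := (hM0e ▸ hM0n).comap π
    obtain ⟨R⟩ := (inferInstance : Nonempty (Sylow q W0))
    set P := (R : Subgroup W0).map W0.subtype
    have hfr : Subgroup.normalizer (P : Set H) ⊔ W0 = ⊤ := Sylow.normalizer_sup_eq_top R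
    obtain ⟨s, hs, hsN, hso⟩ : ∃ s, orderOf s = 2 ∧ s ∈ Subgroup.normalizer (P : Set H) ∧ π s ∈ C := by
      set NC := Subgroup.normalizer (P : Set H) ⊓ C.comap π
      have hmem : s0 ∈ Subgroup.normalizer (P : Set H) ⊔ W0 := hfr ▸ Subgroup.mem_top _
      rw [Subgroup.mem_sup_of_normal_right] at hmem
      obtain ⟨u, hu, w, hw, huw⟩ := hmem
      have hwC : π w ∈ C := by
        rw [hC, hM0e, Subgroup.mem_centralizer_iff]
        rintro _ ⟨i, rfl⟩
        obtain ⟨j, hj⟩ := hw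
        rw [← show (f : H ⧸ Y) ^ j = π w from hj]
        exact zpow_mul_comm _ _ _
      have huC : π u ∈ C := by
        rw [show π u = (α : H ⧸ Y) * (π w)⁻¹ by rw [← hs0, ← huw, map_mul, mul_inv_cancel_right]]
        exact C.mul_mem α.2 (C.inv_mem hwC)
      have huf : π u = (α : H ⧸ Y) * (π w)⁻¹ := by rw [← hs0, ← huw, map_mul, mul_inv_cancel_right]
      have hue : Even (orderOf u) := by
        rw [← Nat.not_odd_iff_even]
        intro hodd
        have h1 : Odd (orderOf (π u)) := hodd.of_dvd_nat (orderOf_map_dvd π u)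
        obtain ⟨j, hj⟩ := hw
        have hfα : Commute (α : H ⧸ Y) (f : H ⧸ Y) :=
          ((Subgroup.mem_centralizer_iff.1 α.2) _ hfM0).symm
        have hαw : Commute (α : H ⧸ Y) (π w)⁻¹ := by
          rw [← show (f : H ⧸ Y) ^ j = π w from hj]; exact (hfα.zpow_right j).inv_right
        have hαo : orderOf (α : H ⧸ Y) = 2 := (Subgroup.orderOf_coe α).trans hα
        have h2 : (α : H ⧸ Y) = π u * π w := by rw [huf, inv_mul_cancel_right]
        have h3 : Odd (orderOf (π u * π w)) := by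
          have hc : Commute (π u) (π w) := by rw [huf]; exact (by simpa using hαw.inv_right : Commute (α : H ⧸ Y) (π w)).mul_left (Commute.refl (π w)).inv_left
          refine (h1.mul ?_).of_dvd_nat hc.orderOf_mul_dvd_mul_orderOf
          rw [← show (f : H ⧸ Y) ^ j = π w from hj]
          exact ((Nat.Prime.odd_of_ne_two hqp.out hq2)).of_dvd_nat (hfo ▸ orderOf_dvd_of_mem_zpowers ⟨j, rfl⟩)
        rw [← h2, hαo] at h3
        exact absurd h3 (by decide)
      obtain ⟨i, hi⟩ := hue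
      refine ⟨u ^ i, ?_, Subgroup.pow_mem _ hu _, by rw [map_pow]; exact C.pow_mem huC _⟩
      have hop := orderOf_pos u
      rw [orderOf_pow' u (by omega), hi, Nat.gcd_eq_right (⟨2, by omega⟩ : i ∣ i + i)]
      rw [← two_mul, Nat.mul_div_cancel _ (by omega)]
    have hRc : orderOf x0 ≠ 0 := (orderOf_pos x0).ne'
    have hWc : q ∣ Nat.card W0 := by
      rw [hW0, card_comap_mk, Nat.card_zpowers, hfo]; exact dvd_mul_left _ _
    obtain ⟨n, hn⟩ := IsPGroup.iff_card.1 R.isPGroup'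
    have hn0 : n ≠ 0 := fun h => R.not_dvd_index (by
      rw [← (R : Subgroup W0).card_mul_index, show Nat.card (R : Subgroup W0) = 1 by rw [hn, h, pow_zero], one_mul] at hWc
      exact hWc)
    obtain ⟨r, hr⟩ := exists_prime_orderOf_dvd_card' (G := (R : Subgroup W0)) q (by rw [hn]; exact dvd_pow_self q hn0)
    set x := ((r : W0) : H) with hx
    have hxo : orderOf x = q := by rw [hx, Subgroup.orderOf_coe, Subgroup.orderOf_coe, hr]
    have hxP : x ∈ P := ⟨r, r.2, rfl⟩
    have hxC : π s * π x = π x * π s := by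
      have h1 : π x ∈ M0 := hM0e ▸ (r : W0).2
      exact ((Subgroup.mem_centralizer_iff.1 hso) _ h1).symm
    have hconj : s * x * s⁻¹ ∈ P := (Subgroup.mem_normalizer_iff.1 hsN x).1 hxP
    have hdiff : s * x * s⁻¹ * x⁻¹ ∈ P ⊓ Y := by
      refine ⟨P.mul_mem hconj (P.inv_mem hxP), (QuotientGroup.eq_one_iff _).1 ?_⟩
      show π (s * x * s⁻¹ * x⁻¹) = 1
      rw [map_mul, map_mul, map_mul, map_inv, map_inv, hxC, mul_inv_cancel_right, mul_inv_cancel]
    have hPq : IsPGroup q P := R.isPGroup'.map _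
    have hbot : P ⊓ Y = ⊥ := (IsPGroup.disjoint_of_ne q 2 hq2 P Y hPq hY2).eq_bot
    rw [hbot, Subgroup.mem_bot, mul_inv_eq_one, mul_inv_eq_iff_eq_mul] at hdiff
    exact no_commute_involution hsol hO hI x s (hxo ▸ Nat.Prime.odd_of_ne_two hqp.out hq2)
      (fun h => hqp.out.one_lt.ne (by rw [← hxo, h, orderOf_one])) hs hdiff.symm
  -- `C` lies in the Hall subgroup
  have hCX : C ≤ X.map π := by
    have h1 := Subgroup.card_mul_index (C ⊔ X.map π)
    have h2 : Odd (Nat.card ↥(C ⊔ X.map π)) := by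
      haveI := hCn
      exact (hCodd.mul hXc).of_dvd_nat (Cfsg.Lib.Components.card_sup_dvd_mul C (X.map π))
    have h3 : Nat.card ↥(C ⊔ X.map π) ∣ Nat.card (X.map π) := by
      have h4 : Nat.card ↥(C ⊔ X.map π) ∣ Nat.card (X.map π) * 2 ^ jX := by
        rw [← hXi, Subgroup.card_mul_index]; exact Subgroup.card_subgroup_dvd_card _
      exact ((Nat.coprime_two_right.2 h2).pow_right jX).dvd_of_dvd_mul_right h4
    have := Subgroup.eq_of_le_of_card_ge (le_sup_right : X.map π ≤ C ⊔ X.map π) (Nat.le_of_dvd Nat.card_pos h3)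
    exact this ▸ le_sup_left
  haveI := hM0n
  have hM0card : Nat.card M0 = q := by rw [hM0e, Nat.card_zpowers, hfo]
  haveI : IsCyclic (MulAut M0) := (MulEquiv.isCyclic (IsCyclic.mulAutMulEquiv M0)).2 (by
    rw [hM0card]; exact ZMod.isCyclic_units_prime hqp.out)
  let φ : H ⧸ Y →* MulAut M0 := MulAut.conjNormal
  have hkerφ : φ.ker ≤ X.map π := fun u hu => hCX (Subgroup.mem_centralizer_iff.2 fun v hv => by
    have h1 : u * v * u⁻¹ = v := by
      have h2 := congrArg Subtype.val (DFunLike.congr_fun (hu : φ u = 1) (⟨v, hv⟩ : M0))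
      exact h2
    exact (mul_inv_eq_iff_eq_mul.1 h1).symm)
  have hXn : (X.map π).Normal := by
    rw [show X.map π = ((X.map π).map φ).comap φ by rw [Subgroup.comap_map_eq, sup_eq_left.2 hkerφ]]
    exact (Subgroup.normal_of_isMulCommutative ((X.map π).map φ.rangeRestrict)).comap φ.rangeRestrict |> fun h => by
      convert h using 1
      ext u
      simp [Subtype.ext_iff]
  refine ⟨hXY ▸ hXn.comap π, fun hN => ?_⟩
  haveI := hXn
  have : IsCyclic φ.range := inferInstance
  have hc : IsCyclic ((H ⧸ Y) ⧸ φ.ker) := isCyclic_of_surjective (QuotientGroup.quotientKerEquivRange φ).symm (MulEquiv.surjective _)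
  let g1 : ((H ⧸ Y) ⧸ φ.ker) →* ((H ⧸ Y) ⧸ X.map π) :=
    QuotientGroup.map φ.ker (X.map π) (MonoidHom.id _) (by simpa using hkerφ)
  have hg1 : Function.Surjective g1 := fun u => by
    obtain ⟨v, rfl⟩ := QuotientGroup.mk'_surjective (X.map π) u
    exact ⟨QuotientGroup.mk v, rfl⟩
  haveI := isCyclic_of_surjective g1 hg1
  let g2 : H →* (H ⧸ Y) ⧸ X.map π := (QuotientGroup.mk' (X.map π)).comp π
  have hg2k : g2.ker = X ⊔ Y := by rw [hXY, ← MonoidHom.comap_ker, QuotientGroup.ker_mk']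
  exact isCyclic_of_surjective
    ((QuotientGroup.quotientMulEquivOfEq hg2k.symm).trans
      (QuotientGroup.quotientKerEquivOfSurjective g2 ((QuotientGroup.mk'_surjective _).comp hπs))).symm (MulEquiv.surjective _)

end Cfsg.Agent.S3215
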