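import Cfsg.Statements.S3222
import Cfsg.Agent.LocalThree.TwoSymFourMain
import Cfsg.Agent.Classical.Misc.PSLOver

set_option autoImplicit false
open Cfsg

namespace Cfsg.Agent.S3222

/-- Let G be a finite group of even order such that (1) some involution t lying in the centre of a Sylow 2-subgroup of G has C_G(t) ≅ Z₂ × S₄, and (2) every Sylow 2-subgroup S of G satisfies C_G(S′) = S, where S′ is the derived subgroup of S. Then G = C_G(t) if G is solvable, and G ≅ S₆ otherwise. -/
theorem result {G : Type*} [Group G] [Finite G] (hev : Even (Nat.card G))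
    (t : G) (ht : orderOf t = 2) (T : Sylow 2 G) (htT : t ∈ (T : Subgroup G)) (htc : ∀ s ∈ (T : Subgroup G), s * t = t * s)
    (e : ↥(Subgroup.centralizer ({t} : Set G)) ≃* (Multiplicative (ZMod 2) × Equiv.Perm (Fin 4)))
    (h2 : ∀ S : Sylow 2 G, Subgroup.centralizer ((⁅(S : Subgroup G), (S : Subgroup G)⁆ : Subgroup G) : Set G) = (S : Subgroup G)) :
    (Group.IsSolvable G → Subgroup.centralizer ({t} : Set G) = ⊤) ∧
      (¬ Group.IsSolvable G → Nonempty (G ≃* Equiv.Perm (Fin 6))) := by
  classical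
  have : Fact (Nat.Prime 2) := ⟨Nat.prime_two⟩
  set C := Subgroup.centralizer ({t} : Set G) with hC
  have hC48 : Nat.card C = 48 := by rw [Nat.card_congr e.toEquiv]; exact Cfsg.Lib.TwoSymFour.card_A
  have hTC : (T : Subgroup G) ≤ C := fun s hs => Subgroup.mem_centralizer_singleton_iff.2 (htc s hs)
  have hT16 : ∀ P : Sylow 2 G, Nat.card (P : Subgroup G) = 16 := by
    intro P
    obtain ⟨k, hk⟩ := P.isPGroup'.exists_card_eq
    have hd : Nat.card (T : Subgroup G) ∣ 48 := hC48 ▸ Subgroup.card_dvd_of_le hTC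
    rw [T.card_eq_multiplicity, ← P.card_eq_multiplicity, hk] at hd
    have hk4 : k ≤ 4 := by
      by_contra hlt
      have : 2 ^ 5 ∣ 48 := (pow_dvd_pow 2 (by omega)).trans hd
      norm_num at this
    have h16 : 16 ∣ Nat.card G := (show 16 ∣ 48 by norm_num).trans (hC48 ▸ C.card_subgroup_dvd_card)
    have := P.pow_dvd_card_of_pow_dvd_card (n := 4) (by simpa using h16)
    rw [hk, Nat.pow_dvd_pow_iff_le_right (by norm_num)] at this
    rw [hk, show k = 4 by omega]
    norm_num
  have hcen : ∀ c : C, (⟨t, Subgroup.mem_centralizer_singleton_iff.2 rfl⟩ : C) * c =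
      c * ⟨t, Subgroup.mem_centralizer_singleton_iff.2 rfl⟩ := fun c =>
    Subtype.ext (Subgroup.mem_centralizer_singleton_iff.1 c.2).symm
  have het : e ⟨t, Subgroup.mem_centralizer_singleton_iff.2 rfl⟩ = (Cfsg.Lib.TwoSymFour.τ, 1) := by
    refine (Cfsg.Lib.TwoSymFour.center_A _ fun a => ?_).resolve_left fun e1 => ?_
    · obtain ⟨c, rfl⟩ := e.surjective a
      rw [← map_mul, ← map_mul, hcen]
    · have e2 : t = 1 := congrArg Subtype.val (e.injective (e1.trans (map_one e).symm))
      rw [e2, orderOf_one] at ht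
      omega
  let f : Cfsg.Lib.TwoSymFour.A →* G := C.subtype.comp e.symm.toMonoidHom
  have hf : Cfsg.Lib.TwoSymFour.Hyp f t := by
    refine ⟨C.subtype_injective.comp e.symm.injective, ?_, ?_, hT16, h2⟩
    · rw [MonoidHom.range_comp, MonoidHom.range_eq_top.2 e.symm.surjective, ← MonoidHom.range_eq_map,
        Subgroup.range_subtype]
    · show ((e.symm (Cfsg.Lib.TwoSymFour.τ, 1) : C) : G) = t
      rw [← het, MulEquiv.symm_apply_apply]
  rcases Cfsg.Lib.TwoSymFour.main hf with h | ⟨h, hns⟩
  · refine ⟨fun _ => h, fun hns => absurd ?_ hns⟩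
    have := Cfsg.Lib.Classical.PSLOver.solvable_sym
    have hsurj : Function.Surjective f := fun g => by
      have hg : g ∈ C := by rw [hC, h]; trivial
      exact ⟨e ⟨g, hg⟩, by simp [f]⟩
    exact Group.isSolvable_of_surjective hsurj
  · exact ⟨fun hs => absurd hs hns, fun _ => h⟩

end Cfsg.Agent.S3222
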