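import Cfsg.Statements.S3229
import Cfsg.Agent.CoThreeM.Final

set_option autoImplicit false
open Cfsg

namespace Cfsg.Agent.S3229

/-- Let G be a finite group with an involution e such that C_G(e) ≅ Z₂ × M₁₂ and e lies in O²(G) (the subgroup generated by the elements of odd order). Then G is isomorphic to the third Conway group Co₃. -/
theorem result {G : Type*} [Group G] [Finite G]
    (e : G) (he : orderOf e = 2) (hC : Nonempty (↥(Subgroup.centralizer ({e} : Set G)) ≃* (Multiplicative (ZMod 2) × ↥Cfsg.Spor.M12)))
    (hO : e ∈ Cfsg.pResidual 2 G) : Cfsg.Spor.IsoCo3 G :=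
  Cfsg.Lib.CoThreeM.isoCo3_of_cent he hC hO

end Cfsg.Agent.S3229
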