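import Cfsg.Statements.S3244
import Cfsg.Agent.EarlyCharTwo.Main

set_option autoImplicit false
open Cfsg

namespace Cfsg.Agent.S3244

/-- Say that a finite group G is of characteristic 2 type in the early sense when a Sylow 2-subgroup S of G has a self-centralizing normal subgroup of rank at least 3, S normalizes no nontrivial subgroup of odd order, and every 2-local subgroup of G is 2-constrained. If G is a non-abelian simple group of characteristic 2 type in this sense, then for some maximal 2-local subgroup M of G the centre of O₂(M) is not cyclic. -/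
theorem result {G : Type*} [Group G] [Finite G] [IsSimpleGroup G]
    (hG : ¬ IsMulCommutative G) (S : Sylow 2 G) (A : Subgroup G) (hA : Cfsg.IsSCN (S : Subgroup G) A) (hA3 : ¬ Cfsg.PRankLE 2 2 ↥A)
    (hinv : ∀ X : Subgroup G, Odd (Nat.card ↥X) → (S : Subgroup G) ≤ Subgroup.normalizer (X : Set G) → X = ⊥)
    (hcon : ∀ T : Subgroup G, IsPGroup 2 T → T ≠ ⊥ → Cfsg.IsPConstrained 2 ↥(Subgroup.normalizer (T : Set G))) :
    ∃ M : Subgroup G, Cfsg.IsMaximalTwoLocal M ∧ ¬ IsCyclic ↥(Subgroup.center ↥(Cfsg.pCore 2 ↥M)) := by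
  classical
  by_contra hno
  have hcyc : ∀ M : Subgroup G, Cfsg.IsMaximalTwoLocal M →
      IsCyclic ↥(Subgroup.center ↥(Cfsg.pCore 2 ↥M)) :=
    fun M hM => by_contra fun h => hno ⟨M, hM, h⟩
  have hS1 : (S : Subgroup G) ≠ ⊥ := by
    intro e
    refine hA3 fun B _ _ => ?_
    have hA1 : A = ⊥ := le_bot_iff.1 (e ▸ hA.1)
    have : Nat.card ↥B ≤ Nat.card ↥A := Subgroup.card_le_card_group B
    have hA0 : Nat.card ↥A = 1 := by rw [hA1, Subgroup.card_bot]
    omega
  obtain ⟨z, hzS, hz, hzc⟩ := Cfsg.Lib.EarlyCharTwo.exists_central_involution S.2 hS1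
  have hiso := Cfsg.Lib.EarlyCharTwo.isolated_of_cyclic hcon
    (fun t ht => Cfsg.Lib.EarlyCharTwo.cores_eq_bot hcon S hA hA3 hinv ht) hcyc S hz hzS hzc
  obtain ⟨N, hN, hNodd, hcomm⟩ := Cfsg.Agent.S0215.result S z hz hzS hiso
  rcases IsSimpleGroup.eq_bot_or_eq_top_of_normal N hN with hN1 | hN1
  · have hzcen : z ∈ Subgroup.center G := Subgroup.mem_center_iff.2 fun g => by
      have h := hcomm g
      rw [hN1, Subgroup.mem_bot, mul_inv_eq_one, mul_inv_eq_iff_eq_mul] at h
      exact h.symm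
    rcases IsSimpleGroup.eq_bot_or_eq_top_of_normal (Subgroup.center G) inferInstance with hc | hc
    · rw [hc, Subgroup.mem_bot] at hzcen
      rw [hzcen, orderOf_one] at hz
      omega
    · exact hG ⟨⟨fun a b => ((Subgroup.mem_center_iff.1 (hc ▸ Subgroup.mem_top a : a ∈ Subgroup.center G)) b).symm⟩⟩
  · rw [hN1, Subgroup.card_top] at hNodd
    have h2 : 2 ∣ Nat.card G := hz ▸ orderOf_dvd_natCard z
    exact (Nat.not_even_iff_odd.2 hNodd) (even_iff_two_dvd.2 h2)

end Cfsg.Agent.S3244
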