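import Cfsg.Statements.S3247
import Mathlib
import Cfsg.Agent.PLocal.Constrained

set_option autoImplicit false
open Cfsg
open Subgroup Cfsg.Lib.Components

namespace Cfsg.Agent.S3247

universe u

theorem constrained_congr {G H : Type u} [Group G] [Finite G] [Group H] [Finite H] {p : ℕ} [Fact p.Prime]
    (e : G ≃* H) (h : Cfsg.IsPConstrained p G) : Cfsg.IsPConstrained p H := by
  haveI : (Cfsg.pPrimeCore p G).Normal := pPrimeCore_normal' p
  refine Cfsg.Lib.Constraint.isPConstrained_of_map
    (φ := (QuotientGroup.mk' (Cfsg.pPrimeCore p G)).comp e.symm.toMonoidHom) ?_ ?_ (Cfsg.Lib.Constraint.isPConstrained_iff.mp h)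
  · exact (QuotientGroup.mk'_surjective _).comp e.symm.surjective
  · rw [← pPrimeCore_map_equiv e, ← MonoidHom.comap_ker, QuotientGroup.ker_mk']
    exact (Subgroup.map_equiv_eq_comap_symm e _).symm

/-- The isomorphism between the normalizer inside `M` and the normalizer in `G`. -/
theorem constrained_normalizer_of_le {G : Type u} [Group G] [Finite G] {p : ℕ} [Fact p.Prime] (M T : Subgroup G)
    (hT : IsPGroup p T) (hTM : T ≤ M) (h : Cfsg.IsPConstrained p M) :
    Cfsg.IsPConstrained p ↥(M ⊓ normalizer (T : Set G)) ∧ Cfsg.IsPConstrained p ↥(M ⊓ centralizer (T : Set G)) := by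
  obtain ⟨h1, h2⟩ := Cfsg.Lib.Constraint.isPConstrained_local h (T.subgroupOf M)
    (hT.of_equiv (subgroupOfEquivOfLe hTM).symm)
  constructor
  · have heq : (normalizer ((T.subgroupOf M : Subgroup M) : Set M)).map M.subtype = M ⊓ normalizer (T : Set G) := by
      ext g
      constructor
      · rintro ⟨⟨g, hg⟩, hgN, rfl⟩
        refine ⟨hg, mem_normalizer_iff.2 fun x => ⟨fun hx => (mem_normalizer_iff.1 hgN ⟨x, hTM hx⟩).1 hx, fun hx => ?_⟩⟩
        have hxM : x ∈ M := by simpa [mul_assoc] using M.mul_mem (M.mul_mem (M.inv_mem hg) (hTM hx)) hg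
        exact (mem_normalizer_iff.1 hgN ⟨x, hxM⟩).2 hx
      · rintro ⟨hg, hgN⟩
        exact ⟨⟨g, hg⟩, mem_normalizer_iff.2 fun x => mem_normalizer_iff.1 hgN (x : G), rfl⟩
    rw [← heq]
    exact constrained_congr (equivMapOfInjective _ _ M.subtype_injective) h1
  · have heq : (centralizer ((T.subgroupOf M : Subgroup M) : Set M)).map M.subtype = M ⊓ centralizer (T : Set G) := by
      ext g
      constructor
      · rintro ⟨⟨g, hg⟩, hgN, rfl⟩
        exact ⟨hg, mem_centralizer_iff.2 fun x hx => congrArg Subtype.val (mem_centralizer_iff.1 hgN ⟨x, hTM hx⟩ hx)⟩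
      · rintro ⟨hg, hgN⟩
        exact ⟨⟨g, hg⟩, mem_centralizer_iff.2 fun x hx => Subtype.ext (mem_centralizer_iff.1 hgN (x : G) hx), rfl⟩
    rw [← heq]
    exact constrained_congr (equivMapOfInjective _ _ M.subtype_injective) h2

/-- A group with a normal `p`-subgroup whose centralizer is constrained is constrained. -/
theorem constrained_of_centralizer {N : Type u} [Group N] [Finite N] {p : ℕ} [Fact p.Prime] (T : Subgroup N) [T.Normal]
    (hT : IsPGroup p T) (h : Cfsg.IsPConstrained p ↥(centralizer (T : Set N))) : Cfsg.IsPConstrained p N := by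
  rw [Cfsg.Lib.Constraint.isPConstrained_iff]
  haveI : (Cfsg.pPrimeCore p N).Normal := pPrimeCore_normal' p
  set π := QuotientGroup.mk' (Cfsg.pPrimeCore p N)
  set C := centralizer (T : Set N)
  have hmap : C.map π = centralizer ((T.map π : Subgroup _) : Set _) :=
    Cfsg.Lib.Constraint.isPConstrained_of_pSolvable_centralizer.map_centralizer_of_coprime_ker hT
  have hCn : C.Normal := Subgroup.normal_centralizer
  haveI : (C.map π).Normal := hCn.map π (QuotientGroup.mk'_surjective _)
  haveI : (T.map π).Normal := Subgroup.Normal.map inferInstance π (QuotientGroup.mk'_surjective _)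
  have hTle : T.map π ≤ Cfsg.pCore p _ := Cfsg.Lib.Components.le_pCore (hT.map π)
  have hker : (π.subgroupMap C).ker = Cfsg.pPrimeCore p C := by
    apply map_injective C.subtype_injective
    rw [pPrimeCore_map_subtype_eq hCn.isSubnormal]
    ext z
    constructor
    · rintro ⟨w, hw, rfl⟩
      exact ⟨(QuotientGroup.eq_one_iff (w : N)).mp (congrArg Subtype.val hw), w.2⟩
    · rintro ⟨hz, hzC⟩
      exact ⟨⟨z, hzC⟩, Subtype.ext ((QuotientGroup.eq_one_iff z).mpr hz), rfl⟩
  have hc : CharPGroup p ↥(C.map π) := charP_congr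
    ((QuotientGroup.quotientMulEquivOfEq hker.symm).trans
      (QuotientGroup.quotientKerEquivOfSurjective _ (π.subgroupMap_surjective C)))
    (Cfsg.Lib.Constraint.isPConstrained_iff.mp h)
  intro c hcc
  have hcC : c ∈ C.map π := hmap ▸ centralizer_le (fun x hx => hTle hx) hcc
  haveI hn : (Cfsg.pCore p ↥(C.map π)).Characteristic := Cfsg.Lib.Components.pCore_characteristic
  have hle : (Cfsg.pCore p ↥(C.map π)).map (C.map π).subtype ≤ Cfsg.pCore p _ :=
    Cfsg.Lib.Components.le_pCore ((isPGroup_pCore p).map _)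
  have := hc (show (⟨c, hcC⟩ : C.map π) ∈ centralizer (Cfsg.pCore p ↥(C.map π) : Set ↥(C.map π)) from
    mem_centralizer_iff.2 fun x hx => Subtype.ext (mem_centralizer_iff.1 hcc _ (hle ⟨x, hx, rfl⟩)))
  exact hle ⟨⟨c, hcC⟩, this, rfl⟩

/-- Let G be a finite group and p a prime; here a p-local subgroup means the normalizer of a nontrivial p-subgroup, other than G itself. If every p-local subgroup of G that is maximal among p-local subgroups is p-constrained, or if the centralizer of every element of order p of G is p-constrained, then every p-local subgroup of G is p-constrained. -/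
theorem result {G : Type*} [Group G] [Finite G] (p : ℕ) [hp : Fact p.Prime]
    (h : (∀ M : Subgroup G, (∃ T : Subgroup G, IsPGroup p ↥T ∧ T ≠ ⊥ ∧ M = Subgroup.normalizer (T : Set G)) → M ≠ ⊤ →
        (∀ M' : Subgroup G, (∃ T' : Subgroup G, IsPGroup p ↥T' ∧ T' ≠ ⊥ ∧ M' = Subgroup.normalizer (T' : Set G)) → M' ≠ ⊤ → M ≤ M' → M = M') →
        Cfsg.IsPConstrained p ↥M) ∨
      (∀ x : G, orderOf x = p → Cfsg.IsPConstrained p ↥(Subgroup.centralizer ({x} : Set G))))
    (T : Subgroup G) (hT : IsPGroup p ↥T) (hT1 : T ≠ ⊥) (hTG : Subgroup.normalizer (T : Set G) ≠ ⊤) :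
    Cfsg.IsPConstrained p ↥(Subgroup.normalizer (T : Set G)) := by
  have : Finite G := inferInstance
  rcases h with h | h
  · obtain ⟨M, hle, hM⟩ := Set.Finite.exists_le_maximal (s := {M : Subgroup G | (∃ T' : Subgroup G, IsPGroup p ↥T' ∧ T' ≠ ⊥ ∧ M = Subgroup.normalizer (T' : Set G)) ∧ M ≠ ⊤})
      (Set.toFinite _) (a := Subgroup.normalizer (T : Set G)) ⟨⟨T, hT, hT1, rfl⟩, hTG⟩
    have hMc := h M hM.prop.1 hM.prop.2 fun M' h1 h2 h3 => le_antisymm h3 (hM.2 ⟨h1, h2⟩ h3)
    have := (constrained_normalizer_of_le M T hT (le_normalizer.trans hle) hMc).1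
    rwa [inf_eq_right.2 hle] at this
  · haveI : Nontrivial T := (Subgroup.nontrivial_iff_ne_bot T).2 hT1
    have hZ : Nontrivial (Subgroup.center T) := hT.center_nontrivial
    obtain ⟨n, hn, hcard⟩ := (IsPGroup.nontrivial_iff_card (hT.to_subgroup (Subgroup.center T))).1 hZ
    obtain ⟨z, hz⟩ := exists_prime_orderOf_dvd_card' (G := Subgroup.center T) p (hcard ▸ dvd_pow_self p (by omega))
    set x : G := ((z : T) : G) with hx
    have hxo : orderOf x = p := by rw [hx, Subgroup.orderOf_coe, Subgroup.orderOf_coe, hz]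
    have hTx : T ≤ centralizer ({x} : Set G) := fun t ht => mem_centralizer_singleton_iff.2
      (congrArg Subtype.val ((Subgroup.mem_center_iff.1 z.2) ⟨t, ht⟩))
    have hc := (constrained_normalizer_of_le _ T hT hTx (h x hxo)).2
    have hCx : centralizer (T : Set G) ≤ centralizer ({x} : Set G) := centralizer_le (Set.singleton_subset_iff.2 (z : T).2)
    rw [inf_eq_right.2 hCx] at hc
    set N := normalizer (T : Set G)
    refine constrained_of_centralizer (T.subgroupOf N) (hT.of_equiv (subgroupOfEquivOfLe le_normalizer).symm) ?_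
    have heq : (centralizer ((T.subgroupOf N : Subgroup N) : Set N)).map N.subtype = centralizer (T : Set G) := by
      ext g
      constructor
      · rintro ⟨⟨g, hg⟩, hgN, rfl⟩
        exact mem_centralizer_iff.2 fun y hy => congrArg Subtype.val (mem_centralizer_iff.1 hgN ⟨y, le_normalizer hy⟩ hy)
      · intro hgC
        exact ⟨⟨g, Cfsg.Lib.Thompson.centralizer_le_normalizer _ hgC⟩, mem_centralizer_iff.2 fun y hy => Subtype.ext (mem_centralizer_iff.1 hgC (y : G) hy), rfl⟩
    rw [← heq] at hc
    exact constrained_congr (equivMapOfInjective _ _ N.subtype_injective).symm hc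

end Cfsg.Agent.S3247
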