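import Cfsg.Statements.S3246
import Cfsg.Agent.Components.Misc.CharTwoSignalizer
import Cfsg.Agent.PLocal.Constrained
import Cfsg.Agent.S3247

set_option autoImplicit false
set_option linter.style.haveILetI false
open Cfsg

namespace Cfsg.Agent.S3246

/-- Let G be a finite group whose Sylow 2-subgroup S has a self-centralizing normal subgroup of rank at least 3. Suppose that either every maximal 2-local subgroup of G is 2-constrained with no nontrivial normal subgroup of odd order, or the centralizer of every involution of G is 2-constrained with no nontrivial normal subgroup of odd order. Then S normalizes no nontrivial subgroup of G of odd order and every 2-local subgroup of G is 2-constrained. -/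
theorem result {G : Type*} [Group G] [Finite G]
    (S : Sylow 2 G) (A : Subgroup G) (hA : Cfsg.IsSCN (S : Subgroup G) A) (hA3 : ¬ Cfsg.PRankLE 2 2 ↥A)
    (h : (∀ M : Subgroup G, Cfsg.IsMaximalTwoLocal M → Cfsg.IsPConstrained 2 ↥M ∧ Cfsg.oddCore ↥M = ⊥) ∨
      (∀ t : G, orderOf t = 2 → Cfsg.IsPConstrained 2 ↥(Subgroup.centralizer ({t} : Set G)) ∧
        Cfsg.oddCore ↥(Subgroup.centralizer ({t} : Set G)) = ⊥)) :
    (∀ X : Subgroup G, Odd (Nat.card ↥X) → (S : Subgroup G) ≤ Subgroup.normalizer (X : Set G) → X = ⊥) ∧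
      (∀ T : Subgroup G, IsPGroup 2 ↥T → T ≠ ⊥ → Cfsg.IsPConstrained 2 ↥(Subgroup.normalizer (T : Set G))) := by
  classical
  haveI : Fact (Nat.Prime 2) := ⟨Nat.prime_two⟩
  have hex : ∀ N : Subgroup G, Cfsg.IsTwoLocal N → ∃ M, Cfsg.IsMaximalTwoLocal M ∧ N ≤ M := by
    intro N hN
    obtain ⟨M, ⟨hM, hNM⟩, hmax⟩ := exists_maximal_of_wellFoundedGT
      (fun M : Subgroup G => Cfsg.IsTwoLocal M ∧ N ≤ M) ⟨N, hN, le_rfl⟩
    exact ⟨M, ⟨hM, fun N' hN' hle => le_antisymm (hmax ⟨hN', hNM.trans hle⟩ hle) hle⟩, hNM⟩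
  have hMc : (∀ M : Subgroup G, Cfsg.IsMaximalTwoLocal M → Cfsg.IsPConstrained 2 ↥M ∧ Cfsg.oddCore ↥M = ⊥) →
      ∀ T : Subgroup G, IsPGroup 2 T → T ≠ ⊥ →
        Cfsg.Lib.Components.CharPGroup 2 ↥(Subgroup.normalizer (T : Set G)) := by
    intro h1 T hT hT1
    obtain ⟨M, hM, hle⟩ := hex _ ⟨T, hT, hT1, rfl⟩
    have hc : Cfsg.Lib.Components.CharPGroup 2 ↥M :=
      (Cfsg.Lib.Constraint.charP_quotient_bot (h1 M hM).2).mp (Cfsg.Lib.Constraint.isPConstrained_iff.mp (h1 M hM).1)
    have hn := Cfsg.Lib.Components.charP_normalizer_subgroup hc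
      (P := T.subgroupOf M) (hT.comap_of_injective M.subtype M.subtype_injective)
    refine Cfsg.Lib.Components.charP_congr ((MulEquiv.subgroupCongr ?_).trans (Subgroup.subgroupOfEquivOfLe hle)) hn
    exact (Subgroup.subgroupOf_normalizer_eq ((Subgroup.le_normalizer).trans hle)).symm
  have hcent : ∀ t : G, orderOf t = 2 →
      Cfsg.Lib.Components.CharPGroup 2 ↥(Subgroup.centralizer ({t} : Set G)) := by
    intro t ht
    rcases h with h1 | h2
    · have hu : t * t = 1 := by rw [← pow_two, ← ht, pow_orderOf_eq_one]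
      have ht1 : t ≠ 1 := fun e => by rw [e, orderOf_one] at ht; omega
      rw [Cfsg.Lib.CharTwoFour.centralizer_eq_normalizer hu ht1]
      exact hMc h1 _ (IsPGroup.of_card (n := 1) (by rw [Nat.card_zpowers, ht]; rfl)) (by simp [ht1])
    · exact (Cfsg.Lib.Constraint.charP_quotient_bot (h2 t ht).2).mp
        (Cfsg.Lib.Constraint.isPConstrained_iff.mp (h2 t ht).1)
  refine ⟨fun X hX hSX => ?_, fun T hT hT1 => ?_⟩
  · refine Cfsg.Lib.CharTwoSignalizer.odd_invariant_eq_bot S ?_ hcent hX hSX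
    obtain ⟨B, hBc, hB2, hB8⟩ : ∃ B : Subgroup A, IsMulCommutative B ∧ (∀ a ∈ B, a ^ 2 = 1) ∧ 2 ^ 2 < Nat.card B := by
      by_contra! hcon
      exact hA3 fun B hBc hB2 => hcon B hBc hB2
    set B' := B.map A.subtype with hB'
    have hB'S : B' ≤ (S : Subgroup G) := (Subgroup.map_subtype_le _).trans hA.1
    have hB'2 : IsPGroup 2 B' := S.2.to_le hB'S
    have hBcard : Nat.card B' = Nat.card B := Subgroup.card_map_of_injective A.subtype_injective
    obtain ⟨k, hk⟩ := IsPGroup.iff_card.mp hB'2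
    have hk3 : 3 ≤ k := by
      have h4 : 2 ^ 2 < 2 ^ k := by rw [← hk, hBcard]; exact hB8
      exact (Nat.pow_lt_pow_iff_right (by norm_num)).mp h4
    obtain ⟨E, hEc⟩ := Sylow.exists_subgroup_card_pow_prime (G := ↥B') 2 (n := 3)
      (by rw [hk]; exact pow_dvd_pow 2 hk3)
    refine ⟨E.map B'.subtype, (Subgroup.map_subtype_le _).trans hB'S, ⟨⟨⟨?_⟩⟩, ?_⟩, ?_⟩
    · rintro ⟨_, ⟨⟨_, x, hx, rfl⟩, -, rfl⟩⟩ ⟨_, ⟨⟨_, y, hy, rfl⟩, -, rfl⟩⟩
      refine Subtype.ext ?_
      have hxy : x * y = y * x := congrArg Subtype.val (mul_comm' (⟨x, hx⟩ : B) ⟨y, hy⟩)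
      exact (map_mul A.subtype x y).symm.trans ((congrArg A.subtype hxy).trans (map_mul A.subtype y x))
    · rintro _ ⟨⟨_, x, hx, rfl⟩, -, rfl⟩
      exact (map_pow (A.subtype) x 2).symm.trans (by rw [hB2 x hx, map_one])
    · rw [Subgroup.card_map_of_injective B'.subtype_injective, hEc]; norm_num
  · rcases h with h1 | h2
    · exact Cfsg.Lib.Constraint.isPConstrained_iff.mpr
        ((Cfsg.Lib.Constraint.charP_quotient_bot (Cfsg.Lib.Components.charP_iff.mp (hMc h1 T hT hT1)).1).mpr
          (hMc h1 T hT hT1))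
    · by_cases hTG : Subgroup.normalizer (T : Set G) = ⊤
      · obtain ⟨z, hz, hzc⟩ : ∃ z ∈ T, orderOf z = 2 ∧ T ≤ Subgroup.centralizer ({z} : Set G) := by
          haveI : Nontrivial T := (Subgroup.nontrivial_iff_ne_bot T).mpr hT1
          haveI := hT.center_nontrivial
          obtain ⟨⟨z, hz⟩, hzo⟩ : ∃ z : Subgroup.center T, orderOf z = 2 := by
            obtain ⟨n, hn⟩ := IsPGroup.iff_card.mp (hT.to_subgroup (Subgroup.center T))
            refine exists_prime_orderOf_dvd_card' 2 ?_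
            have : 1 < Nat.card (Subgroup.center T) := Finite.one_lt_card
            rcases n with _ | n
            · rw [hn, pow_zero] at this; omega
            · rw [hn, pow_succ]; exact dvd_mul_left 2 _
          refine ⟨(z : G), z.2, by rwa [Subgroup.orderOf_mk, ← Subgroup.orderOf_coe] at hzo, fun y hy =>
            Subgroup.mem_centralizer_singleton_iff.mpr (congrArg Subtype.val (Subgroup.mem_center_iff.mp hz ⟨y, hy⟩))⟩
        haveI : T.Normal := Subgroup.normalizer_eq_top_iff.mp hTG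
        have hle : Subgroup.centralizer (T : Set G) ≤ Subgroup.centralizer ({z} : Set G) :=
          Subgroup.centralizer_le (Set.singleton_subset_iff.mpr hz)
        have hG : Cfsg.IsPConstrained 2 G := by
          refine Cfsg.Agent.S3247.constrained_of_centralizer T hT ?_
          have := (Cfsg.Agent.S3247.constrained_normalizer_of_le (Subgroup.centralizer ({z} : Set G)) T hT hzc.2
            (h2 z hzc.1).1).2
          rwa [inf_eq_right.mpr hle] at this
        exact (Cfsg.Lib.Constraint.isPConstrained_local hG T hT).1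
      · exact Cfsg.Agent.S3247.result 2 (Or.inr fun x hx => (h2 x hx).1) T hT hT1 hTG

end Cfsg.Agent.S3246
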