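import Cfsg.Statements.S3254
import Cfsg.Agent.S0497
import Cfsg.Agent.S4706
import Cfsg.Agent.Known.SLTwo.Torus
import Cfsg.Agent.PermGroups.DegreeThriceP.Small
import Cfsg.Agent.PermGroups.DegreeThriceP.Three
import Cfsg.Agent.PermGroups.DegreeThriceP.Two
import Cfsg.Agent.PermGroups.DegreeThriceP.Parameters

set_option autoImplicit false
open Cfsg
open Cfsg.Lib.Chars Cfsg.Lib.PermGroups.PrimeExceptional Cfsg.Lib.PermGroups.DegreeThriceP
open scoped Classical Pointwise

namespace Cfsg.Agent.S3254

/-- Let p > 3 be a prime and G a finite non-abelian simple group acting faithfully and transitively on a set Ω of 3p points, such that the normalizer of a Sylow p-subgroup of G has order 2p. If the action is primitive then p = 5 and G ≅ A₆; if it is imprimitive then p = 2^m + 1 for some m and G ≅ PSL₂(2^m). -/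
theorem result {G : Type*} [Group G] [Finite G] [IsSimpleGroup G] (hG : ¬ IsMulCommutative G)
    (p : ℕ) (hp : p.Prime) (hp3 : 3 < p) {Ω : Type*} [Fintype Ω] [MulAction G Ω] [FaithfulSMul G Ω]
    (htr : MulAction.IsPretransitive G Ω) (hΩ : Fintype.card Ω = 3 * p)
    (P : Sylow p G) (hN : Nat.card ↥(Subgroup.normalizer ((P : Subgroup G) : Set G)) = 2 * p) :
    (MulAction.IsPreprimitive G Ω → p = 5 ∧ Nonempty (G ≃* ↥(alternatingGroup (Fin 6)))) ∧
      (¬ MulAction.IsPreprimitive G Ω → ∃ (F : Type) (_ : Field F) (_ : Fintype F) (m : ℕ), Fintype.card F = 2 ^ m ∧ p = 2 ^ m + 1 ∧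
        Nonempty (G ≃* Matrix.ProjectiveSpecialLinearGroup (Fin 2) F)) := by
  classical
  have : Fact p.Prime := ⟨hp⟩
  have : Fintype G := Fintype.ofFinite G
  have : MulAction.IsPretransitive G Ω := htr
  have hcΩ : Nat.card Ω = 3 * p := by rw [Nat.card_eq_fintype_card, hΩ]
  have : Nonempty Ω := Fintype.card_pos_iff.1 (by omega)
  obtain ⟨v⟩ := this
  have hGv : 3 * p * Nat.card (MulAction.stabilizer G v) = Nat.card G := by
    rw [← (MulAction.stabilizer G v).card_mul_index, MulAction.index_stabilizer_of_transitive, hcΩ, mul_comm]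
  have hpG : p ∣ Nat.card G := ⟨3 * Nat.card (MulAction.stabilizer G v), by rw [← hGv]; ring⟩
  have hPcard : Nat.card (P : Subgroup G) = p := by
    obtain ⟨n, hn⟩ := IsPGroup.iff_card.1 P.isPGroup'
    have hd : p ^ n ∣ 2 * p := by
      rw [← hn, ← hN]; exact Subgroup.card_dvd_of_le Subgroup.le_normalizer
    have hn0 : n ≠ 0 := by
      rintro rfl
      rw [pow_zero] at hn
      have := P.dvd_card_of_dvd_card hpG
      rw [hn] at this
      exact hp.not_dvd_one this
    have hn2 : n ≤ 1 := by
      by_contra hc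
      have h2 : p * p ∣ 2 * p := by rw [← sq]; exact (pow_dvd_pow p (by omega)).trans hd
      have := Nat.le_of_dvd two_pos (Nat.dvd_of_mul_dvd_mul_right hp.pos h2)
      omega
    rw [hn, show n = 1 by omega, pow_one]
  have hsimple : ∀ K : Subgroup G, K.Normal → K = ⊥ ∨ K = ⊤ := fun K hK =>
    IsSimpleGroup.eq_bot_or_eq_top_of_normal K hK
  have hnonab : ∀ {A : Type} [CommGroup A] (f : G →* A), ¬Function.Injective f := fun {A} _ f hf =>
    hG ⟨⟨fun a b => hf (by rw [map_mul, map_mul, mul_comm])⟩⟩
  have hPn : ¬(P : Subgroup G).Normal := fun hn => by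
    rcases hsimple _ hn with e | e
    · rw [e, Subgroup.card_bot] at hPcard; omega
    · rw [e, Subgroup.card_top] at hPcard
      rw [hPcard] at hGv
      have := Nat.le_of_dvd hp.pos ⟨_, hGv.symm⟩
      omega
  obtain ⟨⟨t, htP⟩, ht'⟩ := exists_prime_orderOf_dvd_card' (G := (P : Subgroup G)) p (by rw [hPcard])
  have hot : orderOf t = p := (Subgroup.orderOf_coe (⟨t, htP⟩ : (P : Subgroup G))).trans ht'
  have hPt : Subgroup.zpowers t = (P : Subgroup G) :=
    Subgroup.eq_of_le_of_card_ge (Subgroup.zpowers_le.2 htP) (by rw [Nat.card_zpowers, hot, hPcard])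
  have hfree : ∀ a : Ω, t • a ≠ a := by
    intro a ha
    have h1 : Nat.card (MulAction.stabilizer G a) * (3 * p) = Nat.card G := by
      rw [← hcΩ, ← MulAction.index_stabilizer_of_transitive G a, Subgroup.card_mul_index]
    have h2 : p ∣ Nat.card (MulAction.stabilizer G a) := by
      have ha' : t ∈ MulAction.stabilizer G a := ha
      have h5 := Subgroup.orderOf_dvd_natCard (s := MulAction.stabilizer G a) ha'
      exact hot ▸ h5
    have h3 : p * p ∣ Nat.card G := h1 ▸ Nat.mul_dvd_mul h2 (dvd_mul_left p 3)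
    rw [← (P : Subgroup G).card_mul_index, hPcard] at h3
    exact P.not_dvd_index (Nat.dvd_of_mul_dvd_mul_left hp.pos h3)
  have hcent : ∀ g : G, Commute g t → g ∈ Subgroup.zpowers t := by
    intro g hg
    by_contra hgP
    rw [hPt] at hgP
    have hgc : g ∈ Subgroup.centralizer ((P : Subgroup G) : Set G) := Subgroup.mem_centralizer_iff.2 fun x hx => by
      rw [SetLike.mem_coe, ← hPt] at hx
      obtain ⟨i, rfl⟩ := hx
      exact ((hg.zpow_right i).eq).symm
    have hle : Subgroup.centralizer ((P : Subgroup G) : Set G) ≤ Subgroup.normalizer ((P : Subgroup G) : Set G) :=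
      Subgroup.centralizer_le_normalizer _
    have hPC : (P : Subgroup G) ≤ Subgroup.centralizer ((P : Subgroup G) : Set G) := fun x hx => by
      refine Subgroup.mem_centralizer_iff.2 fun y hy => ?_
      rw [SetLike.mem_coe, ← hPt] at hy
      rw [← hPt] at hx
      obtain ⟨i, rfl⟩ := hy
      obtain ⟨j, rfl⟩ := hx
      exact zpow_mul_comm t i j
    have h1 := Subgroup.card_dvd_of_le hle
    have h2 := Subgroup.card_dvd_of_le hPC
    rw [hN] at h1
    rw [hPcard] at h2
    obtain ⟨c, hc⟩ := h2
    rw [hc, mul_comm 2 p] at h1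
    have hc2 : c ∣ 2 := Nat.dvd_of_mul_dvd_mul_left hp.pos h1
    rcases (Nat.dvd_prime Nat.prime_two).1 hc2 with rfl | rfl
    · rw [mul_one] at hc
      exact hgP (Subgroup.eq_of_le_of_card_ge hPC (by rw [hc, hPcard]) ▸ hgc)
    have hNC : Subgroup.centralizer ((P : Subgroup G) : Set G) = Subgroup.normalizer ((P : Subgroup G) : Set G) :=
      Subgroup.eq_of_le_of_card_ge hle (by rw [hc, hN, mul_comm])
    have h3 := (MonoidHom.ker_transferSylow_isComplement' P hNC.ge).card_mul
    rw [hPcard] at h3
    rcases hsimple (MonoidHom.transferSylow P hNC.ge).ker inferInstance with e | e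
    · rw [e, Subgroup.card_bot, one_mul] at h3
      rw [← h3] at hGv
      have := Nat.le_of_dvd hp.pos ⟨_, hGv.symm⟩
      omega
    · rw [e, Subgroup.card_top] at h3
      have := Nat.card_pos (α := G)
      have := (Nat.mul_eq_left (by omega : Nat.card G ≠ 0)).1 h3
      omega
  constructor
  · intro hprim
    let h : Setting G p :=
      { t := t, order := hot, odd := by omega, cent := hcent, normCard := by rw [hPt]; exact hN }
    have hmin : ∀ K : Subgroup G, K.Normal → h.t ∉ K → K = ⊥ := fun K hK ht =>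
      (hsimple K hK).resolve_right fun e => ht (e ▸ Subgroup.mem_top _)
    have hP : (P : Subgroup G) = h.P := hPt.symm
    have hlin : ∀ χ : Cfsg.IrrCharacter G, (χ : G → ℂ) 1 = 1 → χ = principal G := by
      intro χ hχ
      obtain ⟨f, hf⟩ := exists_hom_of_deg_one (isCharacter_of_irr χ.2) hχ
      rcases hsimple f.ker inferInstance with e | e
      · exact absurd ((MonoidHom.ker_eq_bot_iff f).1 e) (hnonab f)
      · refine Subtype.ext (funext fun g => ?_)
        rw [hf]
        show ((f g : ℂˣ) : ℂ) = 1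
        rw [show f g = 1 from (MonoidHom.mem_ker (f := f)).1 (e ▸ Subgroup.mem_top g), Units.val_one]
    rcases h.decomp_three (α := Ω) hp3 hcΩ hfree hlin with
      ⟨b, θ, μ, hx, rfl | ⟨rfl, ψ, hψθ, hψ1, hψd, hπ⟩ | ⟨rfl, hπ⟩⟩ | ⟨χ₁, χ₂, hne, h1, h2, hd1, hd2, hp5, hπ⟩
    · exact (false_of_small (α := Ω) hx hp3 hΩ P hP hmin).elim
    · obtain ⟨hp5, h360⟩ := card_eq_of_three hx hp3 hΩ hfree ψ hψθ hψ1 hψd hπ P hP hmin
      exact ⟨hp5, Cfsg.Agent.S0497.result h360⟩
    · exact (false_of_two hx hp3 hΩ hfree hπ P hP hmin).elim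
    · obtain ⟨w, hwN, hwP, hww, -⟩ := h.exists_inverter
      have hw1 : w ≠ 1 := fun e => hwP (e ▸ one_mem _)
      exact (false_of_seven (by rw [hΩ, hp5]) χ₁ χ₂ hne h1 h2 hd1 hd2 hπ hw1 hww).elim
  · intro himp
    obtain ⟨B, hB, hBnt⟩ : ∃ B : Set Ω, MulAction.IsBlock G B ∧ ¬MulAction.IsTrivialBlock B := by
      by_contra hc
      push Not at hc
      exact himp ⟨fun {B} hB => hc B hB⟩
    rw [MulAction.IsTrivialBlock, not_or] at hBnt
    obtain ⟨hBsub, hBuniv⟩ := hBnt
    have hBne : B.Nonempty := (Set.not_subsingleton_iff.1 hBsub).nonempty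
    have hB1 : 1 < B.ncard := Set.one_lt_ncard_iff_nontrivial.2 (Set.not_subsingleton_iff.1 hBsub)
    have hmul := hB.ncard_block_mul_ncard_orbit_eq hBne
    rw [hcΩ] at hmul
    let T := MulAction.orbit G B
    have hTcard : Nat.card T = (MulAction.orbit G B).ncard := Nat.card_coe_set_eq _
    let φ : G →* Equiv.Perm T := MulAction.toPermHom G T
    have hφ : Function.Injective φ := by
      rw [← MonoidHom.ker_eq_bot_iff]
      refine (hsimple _ inferInstance).resolve_right fun e => hBuniv ?_
      ext z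
      simp only [Set.mem_univ, iff_true]
      obtain ⟨x, hx⟩ := hBne
      obtain ⟨g, rfl⟩ := MulAction.exists_smul_eq G x z
      have : φ g = 1 := (MonoidHom.mem_ker (f := φ)).1 (e ▸ Subgroup.mem_top g)
      have h2 : g • B = B := congrArg Subtype.val (Equiv.Perm.ext_iff.1 this ⟨B, MulAction.mem_orbit_self B⟩)
      rw [← h2]
      exact Set.smul_mem_smul_set hx
    obtain ⟨hB3, hTp⟩ : B.ncard = 3 ∧ Nat.card T = p := by
      rw [hTcard]
      have hBd : B.ncard ∣ 3 * p := ⟨_, hmul.symm⟩
      rcases (show B.ncard = 3 ∨ B.ncard = p ∨ B.ncard = 3 * p by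
            obtain ⟨a, b, ha, hb, e⟩ := Nat.dvd_mul.1 hBd
            rcases (Nat.dvd_prime Nat.prime_three).1 ha with rfl | rfl <;>
              rcases (Nat.dvd_prime hp).1 hb with rfl | rfl <;> omega) with e | e | e
      · rw [e] at hmul
        exact ⟨e, Nat.eq_of_mul_eq_mul_left (by norm_num) hmul⟩
      · exfalso
        rw [e, mul_comm 3 p] at hmul
        have hT3 : Nat.card T = 3 := hTcard.trans (Nat.eq_of_mul_eq_mul_left hp.pos hmul)
        have hle := Nat.card_le_card_of_injective φ hφ
        rw [Nat.card_perm, hT3] at hle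
        have h6 : Nat.card (Equiv.Perm T) = 6 := by rw [Nat.card_perm, hT3]; rfl
        have hdvd := Subgroup.card_dvd_of_injective φ hφ
        rw [h6] at hdvd
        have := Nat.le_of_dvd (by norm_num) (hpG.trans hdvd)
        have : p ≠ 4 := fun e => by rw [e] at hp; norm_num at hp
        have : p = 5 ∨ p = 6 := by omega
        rcases this with e | e
        · have := hpG.trans hdvd; rw [e] at this; norm_num at this
        · rw [e] at hp; norm_num at hp
      · exfalso
        exact hBuniv (Set.eq_of_subset_of_ncard_le (Set.subset_univ _) (by rw [Set.ncard_univ, hcΩ, e]))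
    have : Fintype T := Fintype.ofFinite T
    let R : Subgroup (Equiv.Perm T) := φ.range
    let e : G ≃* R := MonoidHom.ofInjective hφ
    let Q : Sylow p R := P.mapSurjective (f := e.toMonoidHom) e.surjective
    have hQN : Nat.card (Subgroup.normalizer ((Q : Subgroup R) : Set R)) = 2 * p := by
      show Nat.card (Subgroup.normalizer (((P : Subgroup G).map e.toMonoidHom : Subgroup R) : Set R)) = 2 * p
      rw [← Subgroup.map_equiv_normalizer_eq, ← hN]
      exact (Nat.card_congr ((Subgroup.normalizer ((P : Subgroup G) : Set G)).equivMapOfInjective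
        e.toMonoidHom e.injective).toEquiv).symm
    rcases Cfsg.Agent.S4706.result (by omega : 2 < p) (by rw [← Nat.card_eq_fintype_card]; exact hTp) R Q hQN with
      hn | ⟨m, F, iF, iFF, hpm, hq, ⟨ψ⟩⟩
    · exfalso
      apply hPn
      have := Subgroup.Normal.comap hn e.toMonoidHom
      rwa [show ((Q : Subgroup R)).comap e.toMonoidHom = (P : Subgroup G) from
        Subgroup.comap_map_eq_self_of_injective e.injective _] at this
    · have : Fact (Nat.Prime 2) := ⟨Nat.prime_two⟩
      have hm : m ≠ 0 := by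
        rintro rfl
        rw [pow_zero] at hpm
        omega
      obtain ⟨r, hr⟩ := CharP.exists F
      obtain ⟨k, hr', hk⟩ := FiniteField.card F r
      have hr2 : r = 2 := by
        have h1 : r ∣ 2 ^ m := by rw [← hq, hk]; exact dvd_pow_self r k.ne_zero
        exact (Nat.prime_dvd_prime_iff_eq hr' Nat.prime_two).1 (hr'.dvd_of_dvd_pow h1)
      subst hr2
      exact ⟨F, iF, iFF, m, hq, hpm, ⟨(e.trans ψ).trans (MulEquiv.ofBijective Cfsg.Lib.GLTwo.prj
        ⟨Cfsg.Lib.GLTwo.prj_injective, QuotientGroup.mk'_surjective _⟩)⟩⟩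

end Cfsg.Agent.S3254
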