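import Cfsg.Statements.S3262
import Cfsg.Agent.TwoPointFive.Main

set_option autoImplicit false
open Cfsg

namespace Cfsg.Agent.S3262

/-- Let G be a finite doubly transitive permutation group on a set Ω with no regular normal subgroup, in which the stabilizer of two points is isomorphic to the alternating group A₅. Then either Ω has 7 points and G ≅ A₇, or Ω has 12 points and G is isomorphic to the Mathieu group M₁₁. -/
theorem result {G : Type*} [Group G] [Finite G] {Ω : Type*} [Fintype Ω] [MulAction G Ω] [FaithfulSMul G Ω]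
    (h2 : MulAction.IsMultiplyPretransitive G Ω 2) (a b : Ω) (hab : a ≠ b)
    (hnr : ∀ N : Subgroup G, N.Normal → MulAction.IsPretransitive ↥N Ω → (∀ x : Ω, MulAction.stabilizer ↥N x = ⊥) → False)
    (e : ↥(MulAction.stabilizer G a ⊓ MulAction.stabilizer G b) ≃* ↥(alternatingGroup (Fin 5))) :
    (Fintype.card Ω = 7 ∧ Nonempty (G ≃* ↥(alternatingGroup (Fin 7)))) ∨ (Fintype.card Ω = 12 ∧ Cfsg.Spor.IsoM11 G) := by
  classical
  have hp : Cfsg.Lib.TwoPointFive.Pairs G Ω :=
    ⟨fun p q r s hpq hrs => (MulAction.is_two_pretransitive_iff.1 h2) hpq hrs⟩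
  have hT : Cfsg.Lib.TwoPointFive.TwoA5 G Ω :=
    { toPairs := hp
      faith := fun g hg => eq_of_smul_eq_smul (α := Ω) fun x => (hg x).trans (one_smul G x).symm
      iso := fun c d hcd => by
        obtain ⟨g, hga, hgb⟩ := hp.move a b c d hab hcd
        refine ⟨MulEquiv.trans ?_ e⟩
        exact
          { toFun := fun x => ⟨g⁻¹ * x.1 * g,
              show (g⁻¹ * x.1 * g) • a = a by rw [mul_smul, mul_smul, hga, show x.1 • c = c from x.2.1, ← hga,
                inv_smul_smul],
              show (g⁻¹ * x.1 * g) • b = b by rw [mul_smul, mul_smul, hgb, show x.1 • d = d from x.2.2, ← hgb,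
                inv_smul_smul]⟩
            invFun := fun y => ⟨g * y.1 * g⁻¹,
              show (g * y.1 * g⁻¹) • c = c by rw [← hga, mul_smul, inv_smul_smul, mul_smul, show y.1 • a = a from y.2.1],
              show (g * y.1 * g⁻¹) • d = d by rw [← hgb, mul_smul, inv_smul_smul, mul_smul, show y.1 • b = b from y.2.2]⟩
            left_inv := fun x => Subtype.ext (show g * (g⁻¹ * x.1 * g) * g⁻¹ = x.1 by group)
            right_inv := fun y => Subtype.ext (show g⁻¹ * (g * y.1 * g⁻¹) * g = y.1 by group)
            map_mul' := fun x x' => Subtype.ext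
              (show g⁻¹ * (x.1 * x'.1) * g = g⁻¹ * x.1 * g * (g⁻¹ * x'.1 * g) by group) }
      nr := hnr
      two := Finite.one_lt_card_iff_nontrivial.2 ⟨a, b, hab⟩ }
  obtain ⟨i, hi2, hin, hi⟩ := hT.exists_i
  rw [← Nat.card_eq_fintype_card]
  exact hT.main hi2 hin hi

end Cfsg.Agent.S3262
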