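import Cfsg.Statements.S3265
import Cfsg.Agent.InvolCalc.SymGraph.Last
import Cfsg.Agent.InvolCalc.SymGraph.Diam

set_option autoImplicit false
open Cfsg

namespace Cfsg.Agent.S3265

theorem comm_conj {α : Type*} [Fintype α] [DecidableEq α] (h4 : 4 ≤ Fintype.card α) {t : Equiv.Perm α}
    (htt : ∀ q, t (t q) = q) (hne : t ≠ 1) : ∃ s, IsConj t s ∧ s ≠ t ∧ t * s = s * t := by
  obtain ⟨a, ha⟩ : ∃ a, t a ≠ a := by
    by_contra h
    push Not at h
    exact hne (Equiv.ext h)
  set b := t a with hb
  have hba : t b = a := htt a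
  by_cases h : ∃ c, c ≠ a ∧ c ≠ b ∧ t c ≠ c
  · obtain ⟨c, hca, hcb, hc⟩ := h
    set d := t c with hd
    have hdc : t d = c := htt c
    have hda : d ≠ a := fun e => hcb (by rw [← hdc, e])
    have hdb : d ≠ b := fun e => hca (by rw [← hdc, e, hba])
    refine ⟨Equiv.swap a c * t * (Equiv.swap a c)⁻¹, isConj_iff.2 ⟨_, rfl⟩, ?_, ?_⟩
    · intro e
      have := congrArg (fun f : Equiv.Perm α => f a) e
      simp only [Equiv.Perm.mul_apply, Equiv.swap_inv, Equiv.swap_apply_left, ← hd, ← hb,
        Equiv.swap_apply_of_ne_of_ne hda hc] at this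
      exact hdb this
    · ext q
      simp only [Equiv.Perm.mul_apply, Equiv.swap_inv]
      by_cases q1 : q = a
      · subst q1
        simp [← hd, ← hb, hba, hdc, Equiv.swap_apply_of_ne_of_ne hda hc,
          Equiv.swap_apply_of_ne_of_ne ha hcb.symm]
      by_cases q2 : q = b
      · subst q2
        simp [hba, ← hd, hdc, Equiv.swap_apply_of_ne_of_ne hda hc, Equiv.swap_apply_of_ne_of_ne ha hcb.symm]
      by_cases q3 : q = c
      · subst q3
        simp [← hd, ← hb, hba, hdc, Equiv.swap_apply_of_ne_of_ne hda hc, Equiv.swap_apply_of_ne_of_ne ha hcb.symm]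
      by_cases q4 : q = d
      · subst q4
        simp [← hb, hba, hdc, Equiv.swap_apply_of_ne_of_ne hda hc, Equiv.swap_apply_of_ne_of_ne ha hcb.symm]
      have u1 : t q ≠ a := fun e => q2 (by rw [hb, ← e, htt])
      have u2 : t q ≠ c := fun e => q4 (by rw [hd, ← e, htt])
      simp [Equiv.swap_apply_of_ne_of_ne q1 q3, Equiv.swap_apply_of_ne_of_ne u1 u2, htt]
  · push Not at h
    have heq : t = Equiv.swap a b := by
      ext q
      by_cases q1 : q = a
      · rw [q1, Equiv.swap_apply_left]
      by_cases q2 : q = b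
      · rw [q2, Equiv.swap_apply_right, hba]
      rw [Equiv.swap_apply_of_ne_of_ne q1 q2, h q q1 q2]
    obtain ⟨c, -, hc⟩ := Finset.exists_mem_notMem_of_card_lt_card (s := ({a, b} : Finset α)) (t := Finset.univ) (by
      have := Finset.card_le_two (a := a) (b := b)
      rw [Finset.card_univ]
      omega)
    obtain ⟨d, -, hd⟩ := Finset.exists_mem_notMem_of_card_lt_card (s := ({a, b, c} : Finset α)) (t := Finset.univ) (by
      have := Finset.card_le_three (a := a) (b := b) (c := c)
      rw [Finset.card_univ]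
      omega)
    simp only [Finset.mem_insert, Finset.mem_singleton, not_or] at hc hd
    refine ⟨Equiv.swap c d, ?_, ?_, ?_⟩
    · rw [heq]
      exact Equiv.Perm.isConj_swap (Ne.symm ha) (Ne.symm hd.2.2)
    · intro e
      have := congrArg (fun f : Equiv.Perm α => f c) e
      simp only [Equiv.swap_apply_left] at this
      exact hd.2.2 (this.trans (h c hc.1 hc.2))
    · rw [heq]
      refine (Equiv.Perm.Disjoint.commute fun q => ?_).eq
      by_cases q1 : q = a
      · exact Or.inr (by rw [q1, Equiv.swap_apply_of_ne_of_ne (Ne.symm hc.1) (Ne.symm hd.1)])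
      by_cases q2 : q = b
      · exact Or.inr (by rw [q2, Equiv.swap_apply_of_ne_of_ne (Ne.symm hc.2) (Ne.symm hd.2.1)])
      exact Or.inl (Equiv.swap_apply_of_ne_of_ne q1 q2)

/-- Let n ≥ 5 and let X be a conjugacy class of involutions of the symmetric group of degree n. The graph on X joining two distinct involutions whose product has odd order is connected and has diameter exactly 2. -/
theorem result (n : ℕ) (hn : 5 ≤ n) (t : Equiv.Perm (Fin n)) (ht : orderOf t = 2) :
    (SimpleGraph.fromRel fun x y : {x : Equiv.Perm (Fin n) // IsConj t x} =>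
        Odd (orderOf (x.1 * y.1))).Connected ∧
      (SimpleGraph.fromRel fun x y : {x : Equiv.Perm (Fin n) // IsConj t x} =>
        Odd (orderOf (x.1 * y.1))).diam = 2 := by
  have h2 : t * t = 1 := by rw [← pow_two, ← ht]; exact pow_orderOf_eq_one t
  have happ : ∀ x : Equiv.Perm (Fin n), IsConj t x → ∀ q, x (x q) = q := by
    intro x hx q
    obtain ⟨g, rfl⟩ := isConj_iff.1 hx
    have e : g * t * g⁻¹ * (g * t * g⁻¹) = 1 := by
      calc g * t * g⁻¹ * (g * t * g⁻¹) = g * (t * t) * g⁻¹ := by group
        _ = 1 := by rw [h2]; group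
    exact congrArg (fun f : Equiv.Perm (Fin n) => f q) e
  refine SymGraph.class_graph t h2 (fun x y hx hy _ => SymGraph.main (by simpa using hn) (happ x hx) (happ y hy)
    (hx.symm.trans hy)) (comm_conj (by simp; omega) (happ t (IsConj.refl t)) fun e => ?_)
  simp [e] at ht

end Cfsg.Agent.S3265
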