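import Cfsg.Statements.S3266
import Cfsg.Agent.InvolCalc.PSLGraph.Final

set_option autoImplicit false
open Cfsg

namespace Cfsg.Agent.S3266

/-- Let F be a finite field with at least 4 elements and let X be a conjugacy class of involutions of PSL(2, F). The graph on X joining two distinct involutions whose product has odd order is connected and has diameter exactly 2. -/
theorem result {F : Type*} [Field F] [Fintype F] (hF : 4 ≤ Fintype.card F)
    (t : Matrix.ProjectiveSpecialLinearGroup (Fin 2) F) (ht : orderOf t = 2) :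
    (SimpleGraph.fromRel fun x y : {x : Matrix.ProjectiveSpecialLinearGroup (Fin 2) F // IsConj t x} =>
        Odd (orderOf (x.1 * y.1))).Connected ∧
      (SimpleGraph.fromRel fun x y : {x : Matrix.ProjectiveSpecialLinearGroup (Fin 2) F // IsConj t x} =>
        Odd (orderOf (x.1 * y.1))).diam = 2 := by
  have h2 : t * t = 1 := by have h := pow_orderOf_eq_one t; rwa [ht, pow_two] at h
  have ht1 : t ≠ 1 := fun e => by simp [e] at ht
  have hcl : ∀ x, IsConj t x → x * x = 1 ∧ x ≠ 1 := by
    intro x hx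
    obtain ⟨g, rfl⟩ := isConj_iff.1 hx
    refine ⟨?_, fun e => ht1 (by simpa using e)⟩
    calc g * t * g⁻¹ * (g * t * g⁻¹) = g * (t * t) * g⁻¹ := by group
      _ = 1 := by rw [h2]; group
  refine SymGraph.class_graph t h2 (fun x y hx hy _ =>
    PSLGraph.good hF (hcl x hx).1 (hcl x hx).2 (hcl y hy).1 (hcl y hy).2) ?_
  obtain ⟨s, hs, hs1, hst, hc⟩ := PSLGraph.commuting hF h2 ht1
  obtain ⟨z, hz, h1, -⟩ := PSLGraph.good hF h2 ht1 hs hs1
  have hzz : z * z = 1 := by
    obtain ⟨g, rfl⟩ := isConj_iff.1 hz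
    calc g * s * g⁻¹ * (g * s * g⁻¹) = g * (s * s) * g⁻¹ := by group
      _ = 1 := by rw [hs]; group
  exact ⟨s, (PSLGraph.conj_of_odd h2 hzz h1).trans hz.symm, hst, hc⟩

end Cfsg.Agent.S3266
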