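import Cfsg.Statements.S3276
import Cfsg.Agent.InvolCalc.Dihedral

set_option autoImplicit false
open Cfsg

namespace Cfsg.Agent.S3276

/-- Let x and y be commuting, non-conjugate involutions of a finite group G, and suppose that for every involution u commuting with x, each conjugate of y that commutes with u also commutes with y. Then the normal closure of y is a proper, normal, elementary abelian 2-subgroup of G; and if y is the only involution of that normal closure commuting with x, it has order at most 4. -/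
theorem result {G : Type*} [Group G] [Finite G] (x y : G) (hx : orderOf x = 2) (hy : orderOf y = 2)
    (hxy : Commute x y) (hnc : ¬ IsConj x y)
    (hstar : ∀ u : G, orderOf u = 2 → Commute u x → ∀ g : G, Commute (g * y * g⁻¹) u → Commute (g * y * g⁻¹) y) :
    Subgroup.normalClosure ({y} : Set G) ≠ ⊤ ∧ Cfsg.IsElementaryAbelian 2 (Subgroup.normalClosure ({y} : Set G)) ∧
      ((∀ u ∈ Subgroup.normalClosure ({y} : Set G), orderOf u = 2 → Commute u x → u = y) →
        Nat.card ↥(Subgroup.normalClosure ({y} : Set G)) ≤ 4) := by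
  have hconjord : ∀ g : G, orderOf (g * y * g⁻¹) = 2 := fun g => by
    rw [show g * y * g⁻¹ = MulAut.conj g y from rfl, MulEquiv.orderOf_eq, hy]
  have hcy : ∀ g : G, Commute (g * y * g⁻¹) y := by
    intro g
    have heven : Even (orderOf (x * (g * y * g⁻¹))) := by
      by_contra h
      obtain ⟨d, -, hd⟩ := Cfsg.Lib.InvolCalc.conj_of_odd hx (hconjord g) (Nat.not_even_iff_odd.1 h)
      exact hnc (isConj_iff.2 ⟨g⁻¹ * d, by
        rw [show g⁻¹ * d * x * (g⁻¹ * d)⁻¹ = g⁻¹ * (d * x * d⁻¹) * g by group, hd]; group⟩)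
    obtain ⟨hu, hux, huz⟩ := Cfsg.Lib.InvolCalc.central_spec hx (hconjord g) heven
    exact hstar _ hu hux g huz.symm
  set N := Subgroup.normalClosure ({y} : Set G) with hN
  have hgen : ∀ u ∈ Group.conjugatesOfSet ({y} : Set G), ∃ g : G, g * y * g⁻¹ = u := fun u hu => by
    obtain ⟨a, ha, hau⟩ := Group.mem_conjugatesOfSet_iff.1 hu
    rw [Set.mem_singleton_iff] at ha
    subst ha
    exact isConj_iff.1 hau
  have hgc : ∀ u ∈ Group.conjugatesOfSet ({y} : Set G), ∀ v ∈ Group.conjugatesOfSet ({y} : Set G), u * v = v * u := by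
    intro u hu v hv
    obtain ⟨g, rfl⟩ := hgen u hu
    obtain ⟨h, rfl⟩ := hgen v hv
    have := (hcy (h⁻¹ * g)).map (MulAut.conj h).toMonoidHom
    simp only [MulEquiv.coe_toMonoidHom, MulAut.conj_apply] at this
    rw [show h * (h⁻¹ * g * y * (h⁻¹ * g)⁻¹) * h⁻¹ = g * y * g⁻¹ by group] at this
    exact this.eq
  have hNc : IsMulCommutative N := Subgroup.isMulCommutative_closure hgc
  have hcomm : ∀ u ∈ N, ∀ v ∈ N, u * v = v * u := fun u hu v hv =>
    congrArg Subtype.val (hNc.is_comm.comm (⟨u, hu⟩ : N) ⟨v, hv⟩)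
  have hy2 : y * y = 1 := Cfsg.Lib.InvolCalc.sq_of_order_two hy
  have hNe : ∀ u ∈ N, u * u = 1 := by
    intro u hu
    induction hu using Subgroup.closure_induction with
    | mem v hv =>
      obtain ⟨g, rfl⟩ := hgen v hv
      rw [show g * y * g⁻¹ * (g * y * g⁻¹) = g * (y * y) * g⁻¹ by group, hy2, mul_one, mul_inv_cancel]
    | one => exact one_mul 1
    | mul a b ha hb iha ihb =>
      rw [show a * b * (a * b) = a * (b * a) * b by group, hcomm b hb a ha, show a * (a * b) * b = (a * a) * (b * b) by group, iha, ihb, one_mul]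
    | inv a _ ih => rw [← mul_inv_rev, ih, inv_one]
  have hyN : y ∈ N := Subgroup.subset_normalClosure rfl
  refine ⟨fun htop => ?_, ⟨hNc, fun u hu => by rw [pow_two]; exact hNe u hu⟩, fun huniq => ?_⟩
  · have hz : ∀ g, g * y * g⁻¹ = y := fun g => by
      rw [hcomm g (htop ▸ Subgroup.mem_top g) y hyN, mul_inv_cancel_right]
    have hle : N ≤ Subgroup.zpowers y := by
      rw [hN, Subgroup.normalClosure, Subgroup.closure_le]
      intro u hu
      obtain ⟨g, rfl⟩ := hgen u hu
      rw [hz g]; exact Subgroup.mem_zpowers y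
    obtain ⟨i, hi⟩ := Subgroup.mem_zpowers_iff.1 (hle (htop ▸ Subgroup.mem_top x : x ∈ N))
    rcases Int.even_or_odd i with ⟨t, rfl⟩ | ⟨t, rfl⟩
    · rw [← two_mul, zpow_mul, zpow_two, hy2, one_zpow] at hi
      exact Cfsg.Lib.InvolCalc.ne_one_of_order_two hx hi.symm
    · rw [zpow_add, zpow_mul, zpow_two, hy2, one_zpow, one_mul, zpow_one] at hi
      exact hnc (hi ▸ IsConj.refl y)
  have hNn : N.Normal := Subgroup.normalClosure_normal
  have hx2 : x * x = 1 := Cfsg.Lib.InvolCalc.sq_of_order_two hx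
  have hfix : ∀ u ∈ N, x * u * x⁻¹ = u → u ∈ ({1, y} : Set G) := fun u hu h => by
    by_cases h1 : u = 1
    · exact Or.inl h1
    · exact Or.inr (huniq u hu (Cfsg.Lib.InvolCalc.order_two_of_mul_self (hNe u hu) h1)
        (show Commute u x from (mul_inv_eq_iff_eq_mul.1 h).symm))
  let φ : N →* N := MonoidHom.mk' (fun u => ⟨u * (x * u * x⁻¹), mul_mem u.2 (hNn.conj_mem _ u.2 x)⟩) fun u v => Subtype.ext (by
    show (u : G) * v * (x * (u * v) * x⁻¹) = u * (x * u * x⁻¹) * (v * (x * v * x⁻¹))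
    rw [show (u : G) * v * (x * (u * v) * x⁻¹) = u * (v * (x * u * x⁻¹)) * (x * v * x⁻¹) by group,
      hcomm v v.2 _ (hNn.conj_mem _ u.2 x)]
    group)
  have hsmall : ∀ K : Subgroup N, (∀ u ∈ K, x * (u : G) * x⁻¹ = u) → Nat.card K ≤ 2 := fun K hK => by
    classical
    refine (Nat.card_le_card_of_injective (fun u : K => decide (((u : N) : G) = 1)) fun u v h => ?_).trans (by simp)
    have hu := hfix _ (u : N).2 (hK u u.2)
    have hv := hfix _ (v : N).2 (hK v v.2)
    refine Subtype.ext (Subtype.ext ?_)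
    have hyne : y ≠ 1 := Cfsg.Lib.InvolCalc.ne_one_of_order_two hy
    rcases hu with hu | hu <;> rcases hv with hv | hv <;> simp_all
  rw [← φ.ker.card_mul_index, Subgroup.index_ker]
  refine Nat.mul_le_mul (hsmall _ fun u hu => ?_) (hsmall _ fun u hu => ?_)
  · have h1 : (u : G) * (x * u * x⁻¹) = 1 := congrArg Subtype.val (MonoidHom.mem_ker.1 hu)
    exact mul_left_cancel (h1.trans (hNe u u.2).symm)
  · obtain ⟨v, rfl⟩ := hu
    show x * ((v : G) * (x * v * x⁻¹)) * x⁻¹ = v * (x * v * x⁻¹)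
    rw [show x * ((v : G) * (x * v * x⁻¹)) * x⁻¹ = x * v * x⁻¹ * ((x * x) * v * (x * x)⁻¹) by group, hx2,
      one_mul, inv_one, mul_one, hcomm _ (hNn.conj_mem _ v.2 x) _ v.2]

end Cfsg.Agent.S3276
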