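import Cfsg.Statements.S3280
import Cfsg.Agent.SelfCentFour.Main
import Cfsg.Agent.SelfCentFour.Reduce
import Cfsg.Agent.S3331
import Cfsg.Agent.S3278
-- import your own Cfsg.Agent.* helpers here

set_option autoImplicit false
open Cfsg

namespace Cfsg.Agent.S3280

/-- A non-cyclic finite simple group containing an element whose centralizer has order at most 4 is isomorphic to the alternating group of degree 5, 6 or 7, or to PSL(2, 7). -/
theorem result {G : Type*} [Group G] [Finite G] [IsSimpleGroup G] (hG : ¬ IsCyclic G)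
    (w : G) (hw : Nat.card ↥(Subgroup.centralizer ({w} : Set G)) ≤ 4) :
    Nonempty (G ≃* ↥(alternatingGroup (Fin 5))) ∨ Nonempty (G ≃* ↥(alternatingGroup (Fin 6))) ∨
      Nonempty (G ≃* ↥(alternatingGroup (Fin 7))) ∨
      (∃ (F : Type) (_ : Field F) (_ : Fintype F), Fintype.card F = 7 ∧ Nonempty (G ≃* Matrix.ProjectiveSpecialLinearGroup (Fin 2) F)) := by
  haveI : Fact (Nat.Prime 2) := ⟨Nat.prime_two⟩
  obtain ⟨E, hE⟩ := Cfsg.Agent.S0204.result hG
  have hEc : Nat.card E = 4 := hE.card_four
  have hwC : w ∈ Subgroup.centralizer ({w} : Set G) := Subgroup.mem_centralizer_singleton_iff.2 rfl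
  have hbig : 4 < Nat.card G := by
    by_contra hle
    have hEtop : E = ⊤ := Subgroup.eq_top_of_le_card E (by omega)
    have hcomm : ∀ a b : G, a * b = b * a := fun a b => by
      haveI := hE
      have sq : ∀ g : G, g * g = 1 := fun g =>
        congrArg Subtype.val (IsKleinFour.mul_self (⟨g, hEtop ▸ Subgroup.mem_top g⟩ : E))
      have hi : ∀ g : G, g⁻¹ = g := fun g => inv_eq_of_mul_eq_one_right (sq g)
      rw [← hi (a * b), mul_inv_rev, hi, hi]
    letI : CommGroup G := { ‹Group G› with mul_comm := hcomm }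
    exact hG inferInstance
  have hw1 : w ≠ 1 := by
    rintro rfl
    have htop : Subgroup.centralizer ({(1 : G)} : Set G) = ⊤ :=
      eq_top_iff.2 fun x _ => Subgroup.mem_centralizer_singleton_iff.2 (by simp)
    rw [htop, Subgroup.card_top] at hw
    omega
  have hwd : orderOf w ∣ Nat.card (Subgroup.centralizer ({w} : Set G)) := by
    rw [← Subgroup.orderOf_mk w hwC]; exact orderOf_dvd_natCard _
  have hwne : orderOf w ≠ 1 := fun e => hw1 (orderOf_eq_one_iff.1 e)
  have finish : ∀ v : G, orderOf v = 4 → Nat.card (Subgroup.centralizer ({v} : Set G)) = 4 →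
      Nonempty (G ≃* ↥(alternatingGroup (Fin 5))) ∨ Nonempty (G ≃* ↥(alternatingGroup (Fin 6))) ∨
      Nonempty (G ≃* ↥(alternatingGroup (Fin 7))) ∨
      (∃ (F : Type) (_ : Field F) (_ : Fintype F), Fintype.card F = 7 ∧
        Nonempty (G ≃* Matrix.ProjectiveSpecialLinearGroup (Fin 2) F)) := by
    intro v hv hvc
    obtain ⟨S, s, D⟩ := Cfsg.Lib.SelfCentFour.exists_data hG hv hvc
    exact Or.inr (Cfsg.Lib.SelfCentFour.main D)
  rcases (show Nat.card (Subgroup.centralizer ({w} : Set G)) = 1 ∨
      Nat.card (Subgroup.centralizer ({w} : Set G)) = 2 ∨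
      Nat.card (Subgroup.centralizer ({w} : Set G)) = 3 ∨
      Nat.card (Subgroup.centralizer ({w} : Set G)) = 4 by
    have := (Nat.card_pos : 0 < Nat.card (Subgroup.centralizer ({w} : Set G)))
    omega) with hc | hc | hc | hc
  · rw [hc, Nat.dvd_one] at hwd
    exact absurd hwd hwne
  · -- a Sylow subgroup of order two
    rw [hc] at hwd
    have hwo : orderOf w = 2 := ((Nat.dvd_prime Nat.prime_two).1 hwd).resolve_left hwne
    obtain ⟨S, hS⟩ := (IsPGroup.of_card (n := 1) (by rw [Nat.card_zpowers, hwo, pow_one]) :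
      IsPGroup 2 (Subgroup.zpowers w)).exists_le_sylow
    have hwS : w ∈ (S : Subgroup G) := hS (Subgroup.mem_zpowers w)
    haveI : Nontrivial (S : Subgroup G) := ⟨⟨⟨w, hwS⟩, 1, fun e => hw1 (congrArg Subtype.val e)⟩⟩
    haveI := S.2.center_nontrivial
    obtain ⟨⟨⟨z, hzS⟩, hzc⟩, hz1⟩ := exists_ne (1 : ↥(Subgroup.center (S : Subgroup G)))
    have hzw : z = w := by
      have heq : Subgroup.zpowers w = Subgroup.centralizer ({w} : Set G) :=
        Subgroup.eq_of_le_of_card_ge (Subgroup.zpowers_le.2 hwC) (by rw [hc, Nat.card_zpowers, hwo])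
      have hz : z ∈ Subgroup.zpowers w := by
        rw [heq]
        exact Subgroup.mem_centralizer_singleton_iff.2
          (congrArg Subtype.val (Subgroup.mem_center_iff.1 hzc ⟨w, hwS⟩)).symm
      obtain ⟨i, rfl⟩ := Subgroup.mem_zpowers_iff.1 hz
      rw [← zpow_mod_orderOf, hwo]
      rcases Int.emod_two_eq_zero_or_one i with e | e <;> rw [show ((2 : ℕ) : ℤ) = 2 from rfl, e]
      · refine absurd ?_ hz1
        apply Subtype.ext; apply Subtype.ext
        show w ^ i = 1
        rw [← zpow_mod_orderOf, hwo, show ((2 : ℕ) : ℤ) = 2 from rfl, e, zpow_zero]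
      · rw [zpow_one]
    subst hzw
    have hle : (S : Subgroup G) ≤ Subgroup.centralizer ({z} : Set G) := fun x hx =>
      Subgroup.mem_centralizer_singleton_iff.2 (congrArg Subtype.val (Subgroup.mem_center_iff.1 hzc ⟨x, hx⟩))
    obtain ⟨p, hp, q, hq, hpo, hqo, hpq⟩ := Cfsg.Lib.SelfCentFour.klein_in_sylow hG S
    have heq : Subgroup.zpowers z = Subgroup.centralizer ({z} : Set G) :=
      Subgroup.eq_of_le_of_card_ge (Subgroup.zpowers_le.2 hwC) (by rw [hc, Nat.card_zpowers, hwo])
    have key : ∀ x ∈ (S : Subgroup G), orderOf x = 2 → x = z := by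
      intro x hx hxo
      have hm := hle hx
      rw [← heq] at hm
      obtain ⟨i, rfl⟩ := Subgroup.mem_zpowers_iff.1 hm
      rw [← zpow_mod_orderOf, hwo] at hxo ⊢
      rcases Int.emod_two_eq_zero_or_one i with e | e <;> rw [show ((2 : ℕ) : ℤ) = 2 from rfl, e] at hxo ⊢
      · rw [zpow_zero, orderOf_one] at hxo; omega
      · rw [zpow_one]
    exact absurd ((key p hp hpo).trans (key q hq hqo).symm) hpq
  · -- order three
    rw [hc] at hwd
    have hwo : orderOf w = 3 := ((Nat.dvd_prime Nat.prime_three).1 hwd).resolve_left hwne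
    have heq : Subgroup.zpowers w = Subgroup.centralizer ({w} : Set G) :=
      Subgroup.eq_of_le_of_card_ge (Subgroup.zpowers_le.2 hwC) (by rw [hc, Nat.card_zpowers, hwo])
    have hCX : Subgroup.centralizer ((Subgroup.zpowers w : Subgroup G) : Set G) = Subgroup.zpowers w := by
      haveI := Fintype.ofFinite G
      rw [Cfsg.Lib.Blocks.centralizer_zpowers, ← heq]
    rcases Cfsg.Agent.S3331.result (Subgroup.zpowers w) (by rw [Nat.card_zpowers, hwo]) hCX with
      ⟨N, hN, hnil, -, hq⟩ | ⟨N, hN, -, -, ⟨f⟩⟩ | ⟨⟨f⟩⟩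
    · exfalso
      rcases hN.eq_bot_or_eq_top with rfl | rfl
      · rcases hq with hq | ⟨⟨f⟩⟩
        · rw [Nat.card_congr QuotientGroup.quotientBot.toEquiv] at hq
          omega
        · have g := QuotientGroup.quotientBot.symm.trans f
          haveI : Nontrivial (Equiv.Perm (Fin 3)) := inferInstance
          haveI : IsSimpleGroup (Equiv.Perm (Fin 3)) :=
            IsSimpleGroup.isSimpleGroup_of_surjective g.toMonoidHom g.surjective
          rcases (inferInstance : (alternatingGroup (Fin 3)).Normal).eq_bot_or_eq_top with e | e <;>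
            have h := nat_card_alternatingGroup (α := Fin 3)
          · rw [e, Subgroup.card_bot] at h; norm_num [Nat.factorial] at h
          · rw [e, Subgroup.card_top, Nat.card_perm] at h; norm_num [Nat.factorial] at h
      · have hnilG : Group.IsNilpotent G :=
          (Group.isNilpotent_congr Subgroup.topEquiv).1 hnil
        haveI := hnilG
        have hcomm : ∀ a b : G, a * b = b * a := IsSimpleGroup.comm_iff_isSolvable.2 inferInstance
        letI : CommGroup G := { ‹Group G› with mul_comm := hcomm }
        exact hG inferInstance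
    · rcases hN.eq_bot_or_eq_top with rfl | rfl
      · exact Or.inl ⟨QuotientGroup.quotientBot.symm.trans f⟩
      · exfalso
        have h1 := Nat.card_congr f.toEquiv
        rw [← Subgroup.index_eq_card, Subgroup.index_top, nat_card_alternatingGroup] at h1
        norm_num [Nat.factorial] at h1
    · exact Or.inr (Or.inr (Or.inr ⟨ZMod 7, @ZMod.instField 7 ⟨by norm_num⟩, inferInstance, ZMod.card 7, ⟨f⟩⟩))
  · -- order four
    rw [hc] at hwd
    have hwo : orderOf w = 2 ∨ orderOf w = 4 := by
      have := Nat.le_of_dvd (by norm_num) hwd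
      interval_cases h : orderOf w <;> omega
    rcases hwo with hwo | hwo
    · by_cases hcyc : ∃ v ∈ Subgroup.centralizer ({w} : Set G), orderOf v = 4
      · obtain ⟨v, hv, hvo⟩ := hcyc
        refine finish v hvo ?_
        have hz : Subgroup.zpowers v = Subgroup.centralizer ({w} : Set G) :=
          Subgroup.eq_of_le_of_card_ge (Subgroup.zpowers_le.2 hv) (by rw [hc, Nat.card_zpowers, hvo])
        have hvw : w ∈ Subgroup.zpowers v := hz ▸ hwC
        have hle : Subgroup.centralizer ({v} : Set G) = Subgroup.centralizer ({w} : Set G) := by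
          refine le_antisymm (fun x hx => ?_) (fun x hx => ?_)
          · obtain ⟨i, hi⟩ := Subgroup.mem_zpowers_iff.1 hvw
            rw [Subgroup.mem_centralizer_singleton_iff, ← hi]
            exact ((show Commute x v from Subgroup.mem_centralizer_singleton_iff.1 hx).zpow_right i).eq
          · rw [← hz] at hx
            obtain ⟨i, rfl⟩ := Subgroup.mem_zpowers_iff.1 hx
            exact Subgroup.mem_centralizer_singleton_iff.2 ((Commute.refl v).zpow_left i).eq
        rw [hle, hc]
      · refine Or.inl (Cfsg.Agent.S3278.result w hwo (Subgroup.centralizer ({w} : Set G)) le_rfl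
          ⟨hc, ?_⟩ (by simp) (by rw [Subgroup.subgroupOf_self]; infer_instance))
        refine Nat.dvd_antisymm (Monoid.exponent_dvd_of_forall_pow_eq_one fun x => ?_) ?_
        · push Not at hcyc
          have hd : orderOf (x : G) ∣ 2 ^ 2 := by
            rw [Subgroup.orderOf_coe]; norm_num; rw [← hc]; exact orderOf_dvd_natCard _
          obtain ⟨k, hk, hke⟩ := (Nat.dvd_prime_pow Nat.prime_two).1 hd
          have hne4 : orderOf (x : G) ≠ 4 := hcyc x x.2
          rw [Subgroup.orderOf_coe] at hne4
          refine Subtype.ext ?_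
          push_cast
          rw [← orderOf_dvd_iff_pow_eq_one, Subgroup.orderOf_coe]
          rw [Subgroup.orderOf_coe] at hke
          rw [hke]
          interval_cases k
          · norm_num
          · norm_num
          · norm_num at hke; exact absurd hke hne4
        · have h : orderOf (⟨w, hwC⟩ : Subgroup.centralizer ({w} : Set G)) = 2 := by
            rw [Subgroup.orderOf_mk, hwo]
          exact h ▸ Monoid.order_dvd_exponent _
    · exact finish w hwo hc

end Cfsg.Agent.S3280
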