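import Cfsg.Statements.S3283
import Cfsg.Agent.LargeExtra.EightSmith.Main
-- import your own Cfsg.Agent.* helpers here

set_option autoImplicit false
open Cfsg

namespace Cfsg.Agent.S3283

/-- Let G be a finite group with an involution z whose centralizer M has Q = O₂(M) extraspecial of order 2⁹ with C_M(Q) ≤ Q, and M/Q isomorphic to S₃ × A₆ or to S₃ × S₆. Then G is not simple. -/
theorem result {G : Type*} [Group G] [Finite G] (z : G) (hz : orderOf z = 2)
    (hQ : Cfsg.IsExtraspecial 2 ↥(Cfsg.pCore 2 ↥(Subgroup.centralizer ({z} : Set G)))) (hQ9 : Nat.card ↥(Cfsg.pCore 2 ↥(Subgroup.centralizer ({z} : Set G))) = 2 ^ 9)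
    (hCQ : Subgroup.centralizer ((Cfsg.pCore 2 ↥(Subgroup.centralizer ({z} : Set G))) : Set ↥(Subgroup.centralizer ({z} : Set G))) ≤ Cfsg.pCore 2 ↥(Subgroup.centralizer ({z} : Set G)))
    (hMQ : Nonempty (↥(Subgroup.centralizer ({z} : Set G)) ⧸ Cfsg.pCore 2 ↥(Subgroup.centralizer ({z} : Set G)) ≃* (Equiv.Perm (Fin 3) × ↥(alternatingGroup (Fin 6)))) ∨
      Nonempty (↥(Subgroup.centralizer ({z} : Set G)) ⧸ Cfsg.pCore 2 ↥(Subgroup.centralizer ({z} : Set G)) ≃* (Equiv.Perm (Fin 3) × Equiv.Perm (Fin 6)))) :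
    ¬ IsSimpleGroup G := by
  intro hG
  have key : ∀ T : Cfsg.Lib.LargeExtra.EightSmith.HS
      (↥(Subgroup.centralizer ({z} : Set G)) ⧸ Cfsg.pCore 2 ↥(Subgroup.centralizer ({z} : Set G))), False :=
    fun T => Cfsg.Lib.LargeExtra.EightSmith.not_simple hz hQ hQ9 hCQ T hG
  rcases hMQ with ⟨⟨e⟩⟩ | ⟨⟨e⟩⟩
  · exact key
      { f := ((MonoidHom.id (Equiv.Perm (Fin 3))).prodMap (alternatingGroup (Fin 6)).subtype).comp e.toMonoidHom
        inj := (Function.Injective.prodMap Function.injective_id Subtype.val_injective).comp e.injective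
        w_mem := ⟨e.symm (Cfsg.Lib.LargeExtra.EightSmith.cyc3, 1), by simp⟩
        alt_mem := fun σ hσ => ⟨e.symm (1, ⟨σ, hσ⟩), by simp⟩ }
  · exact key
      { f := e.toMonoidHom
        inj := e.injective
        w_mem := ⟨e.symm (Cfsg.Lib.LargeExtra.EightSmith.cyc3, 1), by simp⟩
        alt_mem := fun σ _ => ⟨e.symm (1, σ), by simp⟩ }

end Cfsg.Agent.S3283
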