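import Cfsg.Statements.S3294
import Cfsg.Agent.PGroups.AutCyclicIndexTwo
import Cfsg.Agent.Coprime.SolvableBasics
import Cfsg.Agent.Coprime.Fitting

set_option autoImplicit false
open Cfsg

namespace Cfsg.Agent.S3294

/-- A finite solvable group whose Sylow 2-subgroups are generalized quaternion of order at least 32 has a normal 2-complement. -/
theorem result {G : Type*} [Group G] [Finite G] (hsol : Group.IsSolvable G) (T : Sylow 2 G) (n : ℕ) (hn : 3 ≤ n) (hT : Nonempty ((T : Subgroup G) ≃* QuaternionGroup (2 ^ n))) : Cfsg.HasNormalPComplement 2 G := by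
  haveI := Fact.mk Nat.prime_two
  haveI := hsol
  set O := Cfsg.pPrimeCore 2 G with hO
  set f := QuotientGroup.mk' O with hf
  have hfs : Function.Surjective f := QuotientGroup.mk'_surjective O
  set S := T.mapSurjective hfs with hS
  set R := Cfsg.pCore 2 (G ⧸ O) with hR
  have hRS : R ≤ S := Cfsg.Lib.Coprime.pCore_le_sylow 2 S
  have hcR : Subgroup.centralizer (R : Set (G ⧸ O)) ≤ R :=
    Cfsg.Lib.Coprime.centralizer_pCore_le 2 Cfsg.Lib.Coprime.pPrimeCore_quotient_eq_bot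
  haveI : R.Normal := by rw [hR]; infer_instance
  -- the Sylow subgroup of the quotient is a copy of `T`
  obtain ⟨eT⟩ := hT
  have hinj : Function.Injective (f.comp (T : Subgroup G).subtype) := by
    rw [injective_iff_map_eq_one]
    intro t ht
    have ht' : (t : G) ∈ O := (QuotientGroup.eq_one_iff (t : G)).1 ht
    obtain ⟨j, hj⟩ := IsPGroup.iff_orderOf.1 T.2 t
    refine orderOf_eq_one_iff.1 (Nat.eq_one_of_dvd_coprimes
      ((Cfsg.Lib.Components.coprime_card_pPrimeCore (G := G) 2).pow_right j) ?_ hj.dvd)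
    rw [← Subgroup.orderOf_coe, ← Subgroup.orderOf_mk _ ht']
    exact orderOf_dvd_natCard (⟨(t : G), ht'⟩ : O)
  haveI : NeZero (2 ^ n) := ⟨pow_ne_zero _ two_ne_zero⟩
  set ρ := (eT.symm (QuaternionGroup.a 1) : (T : Subgroup G)) with hρ
  set r := f (ρ : G) with hr
  have hrS : r ∈ (S : Subgroup (G ⧸ O)) := ⟨_, ρ.2, rfl⟩
  have hord : ∀ t : (T : Subgroup G), orderOf (f (t : G)) = orderOf (eT t) := fun t => by
    rw [MulEquiv.orderOf_eq]; exact orderOf_injective _ hinj t
  have hrord : orderOf r = 2 ^ (n + 1) := by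
    rw [hr, hord, hρ, MulEquiv.apply_symm_apply, QuaternionGroup.orderOf_a_one, pow_succ']
  -- the elements outside the cyclic subgroup
  have hcase : ∀ x ∈ (S : Subgroup (G ⧸ O)), x ∈ Subgroup.zpowers r ∨ orderOf x = 4 ∧ x * r * x⁻¹ = r⁻¹ ∧ ∀ y ∈ (S : Subgroup (G ⧸ O)), y ∉ Subgroup.zpowers r → x⁻¹ * y ∈ Subgroup.zpowers r := by
    have hcyc : ∀ (t : (T : Subgroup G)) (i : ZMod (2 * 2 ^ n)), eT t = QuaternionGroup.a i → f (t : G) ∈ Subgroup.zpowers r := by
      intro t i hi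
      refine ⟨(i.val : ℤ), ?_⟩
      show r ^ (i.val : ℤ) = _
      rw [zpow_natCast, hr, ← map_pow, ← Subgroup.coe_pow]
      congr 2
      exact eT.injective (by rw [map_pow, hρ, MulEquiv.apply_symm_apply, hi, QuaternionGroup.a_one_pow, ZMod.natCast_zmod_val])
    rintro _ ⟨t, ht, rfl⟩
    cases hti : eT ⟨t, ht⟩ with
    | a i => exact Or.inl (hcyc ⟨t, ht⟩ i hti)
    | xa i =>
      refine Or.inr ⟨?_, ?_, ?_⟩
      · rw [show t = ((⟨t, ht⟩ : (T : Subgroup G)) : G) from rfl, hord, hti, QuaternionGroup.orderOf_xa]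
      · rw [hr, ← map_inv, ← map_mul, ← map_mul, ← map_inv]
        congr 1
        refine congrArg Subtype.val (show (⟨t, ht⟩ : (T : Subgroup G)) * ρ * (⟨t, ht⟩ : (T : Subgroup G))⁻¹ = ρ⁻¹ from eT.injective ?_)
        rw [map_mul, map_mul, map_inv, map_inv, hti, hρ, MulEquiv.apply_symm_apply, mul_inv_eq_iff_eq_mul,
          show (QuaternionGroup.a 1 : QuaternionGroup (2 ^ n))⁻¹ = QuaternionGroup.a (-1) from rfl,
          QuaternionGroup.a_mul_xa, QuaternionGroup.xa_mul_a]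
        congr 1; ring
      · rintro _ ⟨u, hu, rfl⟩ hur
        cases hui : eT ⟨u, hu⟩ with
        | a j => exact absurd (hcyc ⟨u, hu⟩ j hui) hur
        | xa j =>
          have h := hcyc (⟨t, ht⟩⁻¹ * ⟨u, hu⟩) (j - i) (by
            rw [map_mul, map_inv, hti, hui, inv_mul_eq_iff_eq_mul, QuaternionGroup.xa_mul_a]
            congr 1; ring)
          rw [Subgroup.coe_mul, Subgroup.coe_inv, map_mul, map_inv] at h
          exact h
  have hRp : IsPGroup 2 R := S.2.to_le hRS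
  -- the automorphisms of `R` form a `2`-group
  have hA : IsPGroup 2 (MulAut R) := by
    by_cases hle : R ≤ Subgroup.zpowers r
    · haveI : IsCyclic R := isCyclic_of_injective (Subgroup.inclusion hle) (Subgroup.inclusion_injective hle)
      exact Cfsg.Lib.AutCyclicIndexTwo.aut_two_group_of_cyclic hRp
    obtain ⟨s, hsR, hsr⟩ := SetLike.not_le_iff_exists.1 hle
    obtain ⟨hs4, hsinv, hsy⟩ := (hcase s (hRS hsR)).resolve_left hsr
    have hr2 : r ^ 2 ∈ R := by
      have h1 : r * s * r⁻¹ * s⁻¹ ∈ R := R.mul_mem ((inferInstance : R.Normal).conj_mem s hsR r) (R.inv_mem hsR)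
      rw [show r * s * r⁻¹ * s⁻¹ = r * (s * r * s⁻¹)⁻¹ by group, hsinv, inv_inv, ← pow_two] at h1
      exact h1
    obtain ⟨g, hg⟩ := (isCyclic_of_injective (Subgroup.inclusion (inf_le_right : R ⊓ Subgroup.zpowers r ≤ _)) (Subgroup.inclusion_injective _) : IsCyclic ↥(R ⊓ Subgroup.zpowers r)).exists_zpow_surjective
    obtain ⟨j, hj⟩ := IsPGroup.iff_orderOf.1 hRp ⟨(g : G ⧸ O), g.2.1⟩
    rw [Subgroup.orderOf_mk] at hj
    have hgbig : 8 ≤ 2 ^ j := by
      obtain ⟨i, hi⟩ := hg ⟨r ^ 2, hr2, Subgroup.pow_mem _ (Subgroup.mem_zpowers r) 2⟩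
      have h2 : orderOf (r ^ 2) ∣ 2 ^ j := hj ▸ orderOf_dvd_of_mem_zpowers ⟨i, congrArg Subtype.val hi⟩
      rw [orderOf_pow' r (by norm_num), hrord, Nat.gcd_eq_right (dvd_pow_self 2 (by omega)),
        pow_succ, Nat.mul_div_cancel _ (by norm_num)] at h2
      calc 8 = 2 ^ 3 := rfl
        _ ≤ 2 ^ n := Nat.pow_le_pow_right (by norm_num) hn
        _ ≤ _ := Nat.le_of_dvd (pow_pos (by norm_num) _) h2
    have hg' : orderOf (⟨(g : G ⧸ O), g.2.1⟩ : R) = 2 ^ j := by rw [Subgroup.orderOf_mk]; exact hj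
    have hz : ∀ x : R, x ∈ Subgroup.zpowers (⟨(g : G ⧸ O), g.2.1⟩ : R) ↔ (x : G ⧸ O) ∈ Subgroup.zpowers r := by
      intro x
      constructor
      · rintro ⟨i, rfl⟩
        exact Subgroup.zpow_mem _ g.2.2 i
      · intro hx
        obtain ⟨i, hi⟩ := hg ⟨x, x.2, hx⟩
        refine ⟨i, Subtype.ext ?_⟩
        have h0 := congrArg Subtype.val hi
        simp only [Subgroup.coe_zpow] at h0 ⊢
        exact h0
    refine Cfsg.Lib.AutCyclicIndexTwo.aut_two_group hg' ?_ fun x hx => ?_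
    · rw [Subgroup.index_eq_two_iff]
      refine ⟨⟨s, hsR⟩, fun b => ?_⟩
      by_cases hb : (b : G ⧸ O) ∈ Subgroup.zpowers r
      · exact Or.inr ⟨(hz b).2 hb, fun h => hsr ((Subgroup.mul_mem_cancel_left _ hb).1 ((hz _).1 h))⟩
      · refine Or.inl ⟨(hz _).2 ?_, fun h => hb ((hz b).1 h)⟩
        obtain ⟨-, hbinv, hby⟩ := (hcase b (hRS b.2)).resolve_left hb
        have h1 := hby s (hRS hsR) hsr
        have h2 : (b : G ⧸ O) * b ∈ Subgroup.zpowers r := by
          have := hby (b : G ⧸ O)⁻¹ (inv_mem (hRS b.2)) fun h => hb (inv_mem_iff.1 h)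
          rw [← mul_inv_rev] at this
          exact inv_mem_iff.1 this
        show (b : G ⧸ O) * s ∈ Subgroup.zpowers r
        rw [show (b : G ⧸ O) * s = (b : G ⧸ O) * b * ((b : G ⧸ O)⁻¹ * s) by group]
        exact mul_mem h2 h1
    · refine (hz x).2 ?_
      by_contra hxr
      obtain ⟨hx4, -, -⟩ := (hcase x (hRS x.2)).resolve_left hxr
      rw [Subgroup.orderOf_coe, hx, hg'] at hx4
      omega
  -- so the quotient is a `2`-group
  have hQ : IsPGroup 2 (G ⧸ O) := by
    intro x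
    let φ : G ⧸ O →* MulAut R := MulAut.conjNormal
    obtain ⟨i, hi⟩ := hA (φ x)
    have hmem : x ^ 2 ^ i ∈ R := hcR (Subgroup.mem_centralizer_iff.2 fun y hy => by
      have h1 := congrArg Subtype.val (DFunLike.congr_fun ((map_pow φ x (2 ^ i)).trans hi) (⟨y, hy⟩ : R))
      simp only [φ, MulAut.conjNormal_apply, MulAut.one_apply] at h1
      exact (mul_inv_eq_iff_eq_mul.1 h1).symm)
    obtain ⟨l, hl⟩ := hRp ⟨_, hmem⟩
    refine ⟨i + l, ?_⟩
    rw [pow_add, pow_mul]
    exact congrArg Subtype.val hl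
  refine ⟨T, O, inferInstance, Subgroup.isComplement'_of_disjoint_and_mul_eq_univ ?_ ?_⟩
  · rw [Subgroup.disjoint_def]
    intro x hxO hxT
    have := hinj (a₁ := ⟨x, hxT⟩) (a₂ := 1) (by
      rw [map_one]; exact (QuotientGroup.eq_one_iff x).2 hxO)
    exact congrArg Subtype.val this
  · rw [← Subgroup.normal_mul]
    have htop : (S : Subgroup (G ⧸ O)) = ⊤ := (S.3 (hQ.to_subgroup ⊤) le_top).symm
    rw [Sylow.coe_mapSurjective] at htop
    have := congrArg (Subgroup.comap f) htop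
    rw [Subgroup.comap_map_eq, Subgroup.comap_top, hf, QuotientGroup.ker_mk', sup_comm] at this
    rw [this, Subgroup.coe_top]

end Cfsg.Agent.S3294
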