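import Cfsg.Statements.S3300
import Cfsg.Agent.InvolCalc.LargeTransfer.Invol

set_option autoImplicit false
open Cfsg

namespace Cfsg.Agent.S3300

/-- Let G be a finite group with no nontrivial 2-group quotient (O^2(G) = G), z an involution of G with H = C_G(z), and suppose E = O_2(H) is extraspecial with C_G(E) ≤ E and of order 2^(2n+1) with n ≥ 3. If H has a normal subgroup of index 2, then z is conjugate in G to an element of E other than z. -/
theorem result {G : Type*} [Group G] [Finite G] (hres : Cfsg.pResidual 2 G = ⊤) (z : G) (hz : orderOf z = 2)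
    (E : Subgroup G) (hE : E = (Cfsg.pCore 2 ↥(Subgroup.centralizer ({z} : Set G))).map (Subgroup.centralizer ({z} : Set G)).subtype)
    (hext : Cfsg.IsExtraspecial 2 ↥E) (hcent : Subgroup.centralizer (E : Set G) ≤ E) (n : ℕ) (hn : 3 ≤ n) (hcard : Nat.card ↥E = 2 ^ (2 * n + 1))
    (K : Subgroup G) (hKH : K ≤ Subgroup.centralizer ({z} : Set G))
    (hKn : ∀ h ∈ Subgroup.centralizer ({z} : Set G), K.map (MulAut.conj h).toMonoidHom = K)
    (hKi : K.relIndex (Subgroup.centralizer ({z} : Set G)) = 2) :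
    ∃ g : G, g * z * g⁻¹ ∈ E ∧ g * z * g⁻¹ ≠ z := by
  classical
  haveI := Fintype.ofFinite G
  obtain ⟨V, -⟩ := Lib.LargeTransfer.frame hz hE hext hcent
  have L := Lib.LargeTransfer.lin_of hres hKi
  have h128 : 128 ≤ Nat.card E := by
    rw [hcard]
    calc 128 = 2 ^ 7 := by norm_num
      _ ≤ _ := Nat.pow_le_pow_right (by norm_num) (by omega)
  by_contra! hweak
  obtain ⟨x, hxz, hxx, hx⟩ := Lib.LargeTransfer.exists_invol V L (by omega)
    (Lib.LargeTransfer.flat_of_big V L h128) (Lib.LargeTransfer.exists_outside hKi)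
  have hlow : ∀ (g : G) (k : ℕ), 2 ≤ k → k ∣ orderOf x → Commute (g⁻¹ * x ^ k * g) z →
      Lib.LargeTransfer.chiOf K (g⁻¹ * x ^ k * g) = 0 := by
    intro g k h2 hk _
    have : orderOf x ∣ 2 := orderOf_dvd_of_pow_eq_one (by rw [pow_two, hxx])
    have hk2 : k = 2 := le_antisymm (Nat.le_of_dvd two_pos (hk.trans this)) h2
    rw [hk2, pow_two, hxx, mul_one, inv_mul_cancel, L.one]
  refine one_ne_zero (hx.symm.trans (Lib.LargeTransfer.total V L hxz hlow fun c O => ?_))
  have h2 : (Lib.LargeTransfer.orb E c).card ≠ 2 := fun h2 =>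
    Lib.LargeTransfer.no_two V h128 hweak O.cj O.cne O.cz h2
  obtain ⟨i, hi⟩ := O.orb_pow
  by_cases h8 : 8 ≤ (Lib.LargeTransfer.orb E c).card
  · exact O.sum_large hxx h8
  have h4 : (Lib.LargeTransfer.orb E c).card ≤ 4 := by
    rw [hi] at h8 ⊢
    rcases i with - | - | - | i <;> simp [pow_succ] at h8 ⊢
    omega
  obtain ⟨a, ha, b, hb, hac, hbc, hn⟩ := V.noncomm_stab (c := c)
    (lt_of_le_of_lt (Nat.mul_le_mul (Nat.pow_le_pow_right (by norm_num) h4) h4) (by omega))
  refine O.sum_small (m := 1) (by rw [pow_one, pow_two, hxx])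
    (Lib.LargeTransfer.tw_z_zero V L O.cj O.cz ha hb hac hbc hn) (fun g _ => ?_) h2
  rw [hxx, mul_one, inv_mul_cancel, L.one]

end Cfsg.Agent.S3300
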