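import Cfsg.Statements.S3301
import Cfsg.Agent.InvolCalc.LargeTransfer.Small
import Cfsg.Agent.SolvStruct.PGroupBasics

set_option autoImplicit false
open Cfsg

namespace Cfsg.Agent.S3301

/-- Let G be a finite group with no nontrivial 2-group quotient (O^2(G) = G), z an involution of G with H = C_G(z), and suppose E = O_2(H) is extraspecial with C_G(E) ≤ E. Then the Sylow 2-subgroups of H/[H, H] are elementary abelian: every element of 2-power order of the abelianization of H has order at most 2. -/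
theorem result {G : Type*} [Group G] [Finite G] (hres : Cfsg.pResidual 2 G = ⊤) (z : G) (hz : orderOf z = 2)
    (E : Subgroup G) (hE : E = (Cfsg.pCore 2 ↥(Subgroup.centralizer ({z} : Set G))).map (Subgroup.centralizer ({z} : Set G)).subtype)
    (hext : Cfsg.IsExtraspecial 2 ↥E) (hcent : Subgroup.centralizer (E : Set G) ≤ E) :
    ∀ q : Abelianization ↥(Subgroup.centralizer ({z} : Set G)), (∃ k : ℕ, orderOf q = 2 ^ k) → q ^ 2 = 1 := by
  classical
  haveI := Fintype.ofFinite G
  haveI : Fact (Nat.Prime 2) := ⟨Nat.prime_two⟩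
  obtain ⟨V, hmax⟩ := Lib.LargeTransfer.frame hz hE hext hcent
  obtain ⟨n, hn, hcard⟩ := Lib.SolvStruct.extraspecial_card_odd_power hext
  rintro q ⟨k, hk⟩
  by_contra hq
  have hqk : q ^ 2 ^ k = 1 := hk ▸ pow_orderOf_eq_one q
  by_cases hn1 : n = 1
  · subst hn1
    obtain ⟨h, rfl⟩ := QuotientGroup.mk_surjective q
    obtain ⟨a, r, hr, hord⟩ := Nat.exists_eq_two_pow_mul_odd (orderOf_pos h).ne'
    have hcz : Commute h.1 z := Subgroup.mem_centralizer_singleton_iff.1 h.2
    have h1 := Lib.LargeTransfer.sq_mem_commutator V (h := h.1 ^ r) (by rw [hcard]; norm_num) hmax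
      (hcz.pow_left r) (a := a) (by
        rw [← pow_mul, mul_comm, ← hord, ← SubmonoidClass.coe_pow, pow_orderOf_eq_one]; rfl)
    have h2 : (h ^ r * h ^ r : ↥(Subgroup.centralizer ({z} : Set G))) ∈
        commutator ↥(Subgroup.centralizer ({z} : Set G)) := by
      rw [← Subgroup.map_subtype_commutator] at h1
      obtain ⟨w, hw, hw'⟩ := h1
      have : w = h ^ r * h ^ r := Subtype.ext hw'
      exact this ▸ hw
    have h3 : (Abelianization.of h ^ 2) ^ r = 1 := by
      rw [← pow_mul, mul_comm, pow_mul, pow_two, ← map_pow, ← map_mul]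
      exact (QuotientGroup.eq_one_iff _).2 h2
    have h4 : (Abelianization.of h ^ 2) ^ 2 ^ k = 1 := by
      rw [← pow_mul, mul_comm, pow_mul, show (Abelianization.of h) ^ 2 ^ k = 1 from hqk, one_pow]
    refine hq ?_
    show Abelianization.of h ^ 2 = 1
    exact orderOf_eq_one_iff.1 (Nat.dvd_one.1 (((Nat.coprime_two_left.2 hr).pow_left k) ▸
      Nat.dvd_gcd (orderOf_dvd_of_pow_eq_one h4) (orderOf_dvd_of_pow_eq_one h3)))
  · obtain ⟨φ, w, hw⟩ := Lib.LargeTransfer.exists_four hqk hq
    obtain ⟨w', rfl⟩ := QuotientGroup.mk_surjective w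
    have h32 : 32 ≤ Nat.card E := by
      rw [hcard]
      calc 32 = 2 ^ 5 := by norm_num
        _ ≤ _ := Nat.pow_le_pow_right (by norm_num) (by omega)
    refine Lib.LargeTransfer.no_four V hres h32 (fun h => ?_) hmax (φ.comp Abelianization.of) ⟨w', hw⟩
    rw [hcard]
    have : n ≠ 2 := fun e => h (by rw [hcard, e]; norm_num)
    calc 128 = 2 ^ 7 := by norm_num
      _ ≤ _ := Nat.pow_le_pow_right (by norm_num) (by omega)

end Cfsg.Agent.S3301
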