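import Cfsg.Statements.S3303
import Cfsg.Agent.PGroups.AutCyclicIndexTwo
import Cfsg.Agent.Coprime.SolvableBasics
import Cfsg.Agent.Coprime.Fitting

set_option autoImplicit false
open Cfsg

namespace Cfsg.Agent.S3303

open scoped Pointwise


/-- Let G be a finite solvable group in which the intersection of any two distinct Sylow 2-subgroups is cyclic. Then G/O(G) has a normal Sylow 2-subgroup, where O(G) is the largest normal subgroup of odd order. -/
theorem result {G : Type*} [Group G] [Finite G] (hs : Group.IsSolvable G)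
    (hC : ∀ S T : Sylow 2 G, S ≠ T → IsCyclic ↥((S : Subgroup G) ⊓ (T : Subgroup G))) :
    ∃ P : Sylow 2 (G ⧸ Cfsg.oddCore G), (P : Subgroup (G ⧸ Cfsg.oddCore G)).Normal := by
  haveI := Fact.mk Nat.prime_two
  haveI := hs
  set O := Cfsg.pPrimeCore 2 G with hO
  haveI hOn : O.Normal := by rw [hO]; infer_instance
  set f := QuotientGroup.mk' O with hf
  have hfs : Function.Surjective f := QuotientGroup.mk'_surjective O
  obtain ⟨S0⟩ : Nonempty (Sylow 2 (G ⧸ O)) := inferInstance
  by_contra hno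
  push Not at hno
  set R := Cfsg.pCore 2 (G ⧸ O) with hR
  haveI hRn : R.Normal := by rw [hR]; infer_instance
  have hcR : Subgroup.centralizer (R : Set (G ⧸ O)) ≤ R :=
    Cfsg.Lib.Coprime.centralizer_pCore_le 2 Cfsg.Lib.Coprime.pPrimeCore_quotient_eq_bot
  have hRp : IsPGroup 2 R := S0.2.to_le (Cfsg.Lib.Coprime.pCore_le_sylow 2 S0)
  -- a `2`-subgroup over `R`
  set N := R.comap f with hN
  haveI : N.Normal := hRn.comap f
  obtain ⟨R0⟩ : Nonempty (Sylow 2 N) := inferInstance
  set P0 := (R0 : Subgroup N).map N.subtype with hP0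
  have hN0 : (R0 : Subgroup N).map (f.comp N.subtype) = R := by
    have hg : Function.Surjective (f.subgroupComap R) := f.subgroupComap_surjective_of_surjective R hfs
    have h1 : ((R0.mapSurjective hg : Sylow 2 R) : Subgroup R) = ⊤ := ((R0.mapSurjective hg).3 (hRp.to_subgroup ⊤) le_top).symm
    rw [Sylow.coe_mapSurjective] at h1
    have h2 := congrArg (Subgroup.map R.subtype) h1
    rw [Subgroup.map_map, ← MonoidHom.range_eq_map, Subgroup.range_subtype] at h2
    exact h2
  obtain ⟨S, hS⟩ := (R0.2.map N.subtype : IsPGroup 2 P0).exists_le_sylow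
  -- two Sylow subgroups over `P0` with different images
  obtain ⟨x, hx⟩ : ∃ x : G ⧸ O, x • S.mapSurjective hfs ≠ S.mapSurjective hfs := by
    by_contra h
    push Not at h
    refine hno (S.mapSurjective hfs) ⟨fun a ha g => ?_⟩
    have hg := Sylow.smul_eq_iff_mem_normalizer.1 (h g)
    exact (Subgroup.mem_normalizer_iff.1 hg a).1 ha
  obtain ⟨g, rfl⟩ := hfs x
  obtain ⟨m, hm, k, hk, rfl⟩ : ∃ m ∈ Subgroup.normalizer (P0 : Set G), ∃ k ∈ N, g = m * k := by
    have hfr := Sylow.normalizer_sup_eq_top R0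
    have hg : g ∈ Subgroup.normalizer (P0 : Set G) ⊔ N := hfr.symm ▸ Subgroup.mem_top g
    obtain ⟨m, hm, k, hk, h⟩ := Subgroup.mem_sup_of_normal_right.1 hg
    exact ⟨m, hm, k, hk, h.symm⟩
  have hkS : f k • S.mapSurjective hfs = S.mapSurjective hfs := by
    refine Sylow.smul_eq_iff_mem_normalizer.2 (Subgroup.le_normalizer ?_)
    exact Cfsg.Lib.Coprime.pCore_le_sylow 2 (S.mapSurjective hfs) hk
  rw [map_mul, mul_smul, hkS] at hx
  have hST : S ≠ m • S := fun e => hx (Sylow.smul_eq_iff_mem_normalizer.2 (Subgroup.mem_normalizer_fintype fun a ha => by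
    have hm2 := Sylow.smul_eq_iff_mem_normalizer.1 e.symm
    obtain ⟨b, hb, rfl⟩ := ha
    exact ⟨m * b * m⁻¹, (Subgroup.mem_normalizer_iff.1 hm2 b).1 hb, by simp⟩))
  have hP0S : P0 ≤ (S : Subgroup G) ⊓ ((m • S : Sylow 2 G) : Subgroup G) := fun a ha => ⟨hS ha, by
    show a ∈ ((m • S : Sylow 2 G) : Subgroup G)
    rw [Sylow.coe_subgroup_smul, Subgroup.mem_pointwise_smul_iff_inv_smul_mem, ← map_inv, MulAut.smul_def, MulAut.conj_apply]
    exact hS ((Subgroup.mem_normalizer_iff.1 (Subgroup.inv_mem _ hm) a).1 ha)⟩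
  haveI := hC S (m • S) hST
  haveI : IsCyclic P0 := isCyclic_of_injective (Subgroup.inclusion hP0S) (Subgroup.inclusion_injective hP0S)
  -- so `R` is cyclic and the quotient is a `2`-group
  haveI : IsCyclic R := by
    have e : P0.map f = R := by rw [hP0, Subgroup.map_map]; exact hN0
    exact isCyclic_of_surjective ((MulEquiv.subgroupCongr e).toMonoidHom.comp (f.subgroupMap P0))
      ((MulEquiv.subgroupCongr e).surjective.comp (f.subgroupMap_surjective P0))
  have hA := Cfsg.Lib.AutCyclicIndexTwo.aut_two_group_of_cyclic hRp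
  have hQ : IsPGroup 2 (G ⧸ O) := by
    intro x
    let φ : G ⧸ O →* MulAut R := MulAut.conjNormal
    obtain ⟨i, hi⟩ := hA (φ x)
    have hmem : x ^ 2 ^ i ∈ R := hcR (Subgroup.mem_centralizer_iff.2 fun y hy => by
      have h1 := congrArg Subtype.val (DFunLike.congr_fun ((map_pow φ x (2 ^ i)).trans hi) (⟨y, hy⟩ : R))
      simp only [φ, MulAut.conjNormal_apply, MulAut.one_apply] at h1
      exact (mul_inv_eq_iff_eq_mul.1 h1).symm)
    obtain ⟨l, hl⟩ := hRp ⟨_, hmem⟩
    refine ⟨i + l, ?_⟩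
    rw [pow_add, pow_mul]
    exact congrArg Subtype.val hl
  refine hno S0 ?_
  rw [(S0.3 (hQ.to_subgroup ⊤) le_top).symm]
  infer_instance

end Cfsg.Agent.S3303
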