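import Cfsg.Statements.S3305
import Mathlib

set_option autoImplicit false
open Cfsg

namespace Cfsg.Agent.S3305

/-- If any two distinct Sylow 2-subgroups of the finite group G intersect in a cyclic group, then the same holds in every quotient group G/H, H a normal subgroup of G. -/
theorem result {G : Type*} [Group G] [Finite G]
    (hC : ∀ S T : Sylow 2 G, S ≠ T → IsCyclic ↥((S : Subgroup G) ⊓ (T : Subgroup G))) (H : Subgroup G) [H.Normal] :
    ∀ S T : Sylow 2 (G ⧸ H), S ≠ T → IsCyclic ↥((S : Subgroup (G ⧸ H)) ⊓ (T : Subgroup (G ⧸ H))) := by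
  classical
  have : Fact (Nat.Prime 2) := ⟨Nat.prime_two⟩
  intro S T hST
  set π := QuotientGroup.mk' H
  have hπ : Function.Surjective π := QuotientGroup.mk'_surjective H
  set S' := (S : Subgroup (G ⧸ H)).comap π
  set T' := (T : Subgroup (G ⧸ H)).comap π
  obtain ⟨P⟩ : Nonempty (Sylow 2 ↥(S' ⊓ T')) := inferInstance
  set P' := (P : Subgroup ↥(S' ⊓ T')).map (S' ⊓ T').subtype
  have hP : IsPGroup 2 P' := P.2.map _
  have hPle : P' ≤ S' ⊓ T' := Subgroup.map_subtype_le _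
  -- a Sylow subgroup of `G` inside a preimage
  have key : ∀ (U : Sylow 2 (G ⧸ H)), P' ≤ (U : Subgroup (G ⧸ H)).comap π →
      ∃ S₀ : Sylow 2 G, P' ≤ (S₀ : Subgroup G) ∧ (S₀ : Subgroup G).map π = (U : Subgroup (G ⧸ H)) := by
    intro U hU
    set U' := (U : Subgroup (G ⧸ H)).comap π
    have hp : IsPGroup 2 (P'.subgroupOf U') := hP.of_equiv (Subgroup.subgroupOfEquivOfLe hU).symm
    obtain ⟨Q, hQ⟩ := hp.exists_le_sylow
    set Q' := (Q : Subgroup U').map U'.subtype
    have hQ' : IsPGroup 2 Q' := Q.2.map _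
    have hidx : ¬ 2 ∣ Q'.index := by
      rw [← Subgroup.relIndex_mul_index (Subgroup.map_subtype_le _ : Q' ≤ U')]
      refine Nat.Prime.not_dvd_mul Nat.prime_two ?_ ?_
      · rw [Subgroup.relIndex, show Q'.subgroupOf U' = (Q : Subgroup U') from Subgroup.comap_map_eq_self_of_injective U'.subtype_injective _]
        exact Q.not_dvd_index
      · rw [Subgroup.index_comap_of_surjective _ hπ]
        exact U.not_dvd_index
    refine ⟨hQ'.toSylow hidx, fun z hz => ?_, ?_⟩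
    · exact ⟨⟨z, hU hz⟩, hQ hz, rfl⟩
    · show Q'.map π = _
      have hle : Q'.map π ≤ (U : Subgroup (G ⧸ H)) := by
        rintro _ ⟨_, ⟨w, -, rfl⟩, rfl⟩
        exact w.2
      have hidx' : ¬ 2 ∣ (Q'.map π).index := fun h => hidx (h.trans (Subgroup.index_map_dvd Q' hπ))
      exact (congrArg Sylow.toSubgroup (show (hQ'.map π).toSylow hidx' = U from Sylow.ext (((hQ'.map π).toSylow hidx').is_maximal' U.2 hle).symm) : _)
  obtain ⟨S₀, hS₀, hS₀e⟩ := key S (hPle.trans inf_le_left)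
  obtain ⟨T₀, hT₀, hT₀e⟩ := key T (hPle.trans inf_le_right)
  have hne : S₀ ≠ T₀ := fun e => hST (Sylow.ext (by rw [← hS₀e, e, hT₀e]))
  have : IsCyclic ↥((S₀ : Subgroup G) ⊓ (T₀ : Subgroup G)) := hC S₀ T₀ hne
  have hPc : IsCyclic P' := isCyclic_of_surjective _ (Subgroup.subgroupOfEquivOfLe (le_inf hS₀ hT₀)).surjective
  set D := (S : Subgroup (G ⧸ H)) ⊓ (T : Subgroup (G ⧸ H))
  let f : ↥(S' ⊓ T') →* D := (π.comp (S' ⊓ T').subtype).codRestrict D fun w => ⟨w.2.1, w.2.2⟩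
  have hf : Function.Surjective f := fun d => by
    obtain ⟨w, hw⟩ := hπ d.1
    exact ⟨⟨w, by show π w ∈ (S : Subgroup (G ⧸ H)); rw [hw]; exact d.2.1, by show π w ∈ (T : Subgroup (G ⧸ H)); rw [hw]; exact d.2.2⟩, Subtype.ext hw⟩
  have hD : IsPGroup 2 D := S.2.to_le inf_le_left
  -- the image of a Sylow subgroup is everything
  have himg : (P : Subgroup ↥(S' ⊓ T')).map f = ⊤ := by
    rw [← Subgroup.index_eq_one]
    by_contra h1
    obtain ⟨k, hk⟩ := hD.index ((P : Subgroup ↥(S' ⊓ T')).map f)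
    have h2 : 2 ∣ ((P : Subgroup ↥(S' ⊓ T')).map f).index := by
      rw [hk]; refine dvd_pow_self 2 fun h0 => h1 ?_
      rw [hk, h0, pow_zero]
    exact P.not_dvd_index (h2.trans (Subgroup.index_map_dvd _ hf))
  have : IsCyclic (P : Subgroup ↥(S' ⊓ T')) := isCyclic_of_surjective _ ((P : Subgroup ↥(S' ⊓ T')).equivMapOfInjective _ (S' ⊓ T').subtype_injective).symm.surjective
  exact isCyclic_of_surjective (f.comp (P : Subgroup ↥(S' ⊓ T')).subtype) fun d => by
    obtain ⟨w, hw, e⟩ : d ∈ (P : Subgroup ↥(S' ⊓ T')).map f := by rw [himg]; trivial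
    exact ⟨⟨w, hw⟩, e⟩

end Cfsg.Agent.S3305
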