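import Cfsg.Statements.S3309
import Mathlib
import Cfsg.Agent.S0076
import Cfsg.Agent.S0111

set_option autoImplicit false
open Cfsg
open scoped Pointwise

namespace Cfsg.Agent.S3309

set_option synthInstance.maxSize 1000

abbrev T := Multiplicative (ZMod 2) × DihedralGroup 4

def tau : T := (Multiplicative.ofAdd 1, 1)
def zeta : T := (1, DihedralGroup.r 2)

/-- membership in the two elementary abelian subgroups of order eight -/
def InE (i : ZMod 4) (x : T) : Prop :=
  x.2 = DihedralGroup.r 0 ∨ x.2 = DihedralGroup.r 2 ∨ x.2 = DihedralGroup.sr i ∨ x.2 = DihedralGroup.sr (i + 2)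

instance (i : ZMod 4) (x : T) : Decidable (InE i x) := by unfold InE; infer_instance

def elem (i : ZMod 4) : Subgroup T where
  carrier := {x | InE i x}
  one_mem' := by revert i; decide +kernel
  mul_mem' := by
    intro a b
    revert a b i
    decide +kernel
  inv_mem' := by
    intro a
    revert a i
    decide +kernel

theorem only_two (i : ZMod 4) : ∀ x y : T, x * x = 1 → y * y = 1 → x * y = y * x → InE i x → ¬ InE (i + 1) x → InE i y := by
  revert i; decide +kernel

theorem cover : ∀ x : T, x * x = 1 → ∀ i : ZMod 4, InE i x ∨ InE (i + 1) x := by decide +kernel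

theorem meet (i : ZMod 4) : ∀ x : T, InE i x → InE (i + 1) x → x = 1 ∨ x = zeta ∨ x = tau ∨ x = tau * zeta := by
  revert i; decide +kernel

theorem elem_normal (i : ZMod 4) : ∀ s x : T, InE i x → InE i (s * x * s⁻¹) := by revert i; decide +kernel
theorem elem_sq (i : ZMod 4) : ∀ x : T, InE i x → x * x = 1 := by revert i; decide +kernel
theorem elem_comm (i : ZMod 4) : ∀ x y : T, InE i x → InE i y → x * y = y * x := by revert i; decide +kernel
theorem elem_card (i : ZMod 4) : (Finset.univ.filter fun x : T => InE i x).card = 8 := by revert i; decide +kernel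
theorem tau_central : ∀ x : T, x * tau = tau * x := by decide +kernel
theorem zeta_central : ∀ x : T, x * zeta = zeta * x := by decide +kernel
theorem zeta_sq : ∃ x : T, x * x = zeta := by decide +kernel
theorem tau_not_sq : ∀ x : T, x * x ≠ tau := by decide +kernel
theorem sq_eq : ∀ x : T, x * x = 1 ∨ x * x = zeta := by decide +kernel

theorem card_elem (i : ZMod 4) : Nat.card (elem i) = 8 := by
  rw [← elem_card i]
  exact Nat.subtype_card _ (fun x => by simp only [Finset.mem_filter, Finset.mem_univ, true_and]; rfl)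

theorem E_mem (i : ZMod 4) : InE i tau ∧ InE i (1, DihedralGroup.sr i) ∧ InE i (tau * (1, DihedralGroup.sr i)) := by
  revert i; decide +kernel

/-- the five fused elements -/
def five (i : ZMod 4) : Finset T := {tau, (1, DihedralGroup.sr i), tau * (1, DihedralGroup.sr i),
  (1, DihedralGroup.r 1) * (1, DihedralGroup.sr i) * (1, DihedralGroup.r 1)⁻¹,
  (1, DihedralGroup.r 1) * (tau * (1, DihedralGroup.sr i)) * (1, DihedralGroup.r 1)⁻¹}

theorem five_card (i : ZMod 4) : (five i).card = 5 := by revert i; decide +kernel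
theorem five_cover (i : ZMod 4) : ∀ v : T, InE i v → v = 1 ∨ v = zeta ∨ v = tau * zeta ∨ v ∈ five i := by
  revert i; decide +kernel

def bit (x : T) : ZMod 2 := Multiplicative.toAdd x.1
def par (x : T) : ZMod 2 := match x.2 with
  | DihedralGroup.r i => (i.val : ZMod 2)
  | DihedralGroup.sr i => (i.val : ZMod 2)
def flip' (x : T) : ZMod 2 := match x.2 with
  | DihedralGroup.r _ => 0
  | DihedralGroup.sr _ => 1
def chi (a b : ZMod 2) (x : T) : ZMod 2 := bit x + a * par x + b * flip' x

theorem chi_mul : ∀ (a b : ZMod 2), ∀ x y : T, chi a b (x * y) = chi a b x + chi a b y := by decide +kernel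
theorem chi_inv : ∀ (a b : ZMod 2), ∀ x : T, chi a b x = 0 → chi a b x⁻¹ = 0 := by decide +kernel
theorem chi_one : ∀ (a b : ZMod 2), chi a b 1 = 0 := by decide +kernel
theorem chi_tau : ∀ a b : ZMod 2, chi a b tau = 1 := by decide +kernel
theorem chi_flip : ∀ c : ZMod 2, Xor' (c + 1 = 0) (c = 0) := by
  unfold Xor'; decide +kernel
theorem tau_facts : tau * zeta * zeta = tau ∧ tau * zeta ≠ tau ∧ tau * tau = 1 := by decide +kernel
theorem chi_list : ∀ (a b : ZMod 2) (u : T), chi a b u = 0 → u * u = 1 → u = 1 ∨ u = zeta ∨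
      (((b = 0 ∧ (u = (1, DihedralGroup.sr 0) ∨ u = (1, DihedralGroup.r 1) * (1, DihedralGroup.sr 0) * (1, DihedralGroup.r 1)⁻¹)) ∨
        (b = 1 ∧ (u = tau * (1, DihedralGroup.sr 0) ∨ u = (1, DihedralGroup.r 1) * (tau * (1, DihedralGroup.sr 0)) * (1, DihedralGroup.r 1)⁻¹))) ∨
      ((a + b = 0 ∧ (u = (1, DihedralGroup.sr 1) ∨ u = (1, DihedralGroup.r 1) * (1, DihedralGroup.sr 1) * (1, DihedralGroup.r 1)⁻¹)) ∨
        (a + b = 1 ∧ (u = tau * (1, DihedralGroup.sr 1) ∨ u = (1, DihedralGroup.r 1) * (tau * (1, DihedralGroup.sr 1)) * (1, DihedralGroup.r 1)⁻¹)))) := by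
  decide +kernel
theorem bits : ¬ ((1 : ZMod 2) = 0) ∧ ((1 : ZMod 2) + 1 = 0) ∧ ¬ ((0 : ZMod 2) = 1) := by decide +kernel
theorem hgen : ∀ (i : ZMod 4) (x : T), InE (i + 1 + 1) x → InE i x := by decide +kernel

variable {G : Type*} [Group G] [Finite G]

/-- An element normalising a Sylow subgroup cannot swap two things that the subgroup fixes. -/
theorem no_swap (S : Sylow 2 G) {β : Type*} [MulAction G β] (n : G) (hn : n ∈ Subgroup.normalizer ((S : Subgroup G) : Set G))
    (x : β) (hx : ∀ s ∈ (S : Subgroup G), s • x = x) (h2 : n • n • x = x) : n • x = x := by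
  have : Fact (Nat.Prime 2) := ⟨Nat.prime_two⟩
  obtain ⟨a, q, hq, hnq⟩ := Nat.exists_eq_two_pow_mul_odd (n := orderOf n) (orderOf_pos n).ne'
  have hq2 : n ^ q ∈ (S : Subgroup G) := by
    have hp : IsPGroup 2 (Subgroup.zpowers (n ^ q)) := by
      refine IsPGroup.of_card (n := a) ?_
      rw [Nat.card_zpowers, orderOf_pow' n hq.pos.ne', hnq, Nat.gcd_eq_right (dvd_mul_left _ _), Nat.mul_div_cancel _ hq.pos]
    have hle : Subgroup.zpowers (n ^ q) ≤ Subgroup.normalizer ((S : Subgroup G) : Set G) :=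
      Subgroup.zpowers_le.2 (Subgroup.pow_mem _ hn q)
    have hsup := IsPGroup.to_sup_of_normal_right' hp S.isPGroup' hle
    exact (S.is_maximal' hsup le_sup_right).le ((le_sup_left : _ ≤ Subgroup.zpowers (n ^ q) ⊔ (S : Subgroup G)) (Subgroup.mem_zpowers _))
  obtain ⟨m, rfl⟩ := hq
  have hm : ∀ k : ℕ, (n ^ (2 * k)) • x = x := fun k => by
    induction k with
    | zero => rw [Nat.mul_zero, pow_zero, one_smul]
    | succ k ih => rw [Nat.mul_succ, pow_add, mul_smul, sq, mul_smul, h2, ih]
  have h3 := hx _ hq2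
  rw [pow_succ', mul_smul, hm] at h3
  exact h3

/-- A group with Sylow subgroup `C₂ × D₈`. -/
theorem contradiction' (S : Sylow 2 G) (φ : T →* G) (hφ : Function.Injective φ) (hrange : φ.range = (S : Subgroup G))
    (htr : ∀ M : Subgroup T, M.index = 2 → tau ∉ M → ∃ u ∈ M, u * u = 1 ∧ IsConj (φ tau) (φ u)) : False := by
  classical
  have : Fact (Nat.Prime 2) := ⟨Nat.prime_two⟩
  have hS : ∀ x, φ x ∈ (S : Subgroup G) := fun x => hrange ▸ ⟨x, rfl⟩
  have hpre : ∀ s ∈ (S : Subgroup G), ∃ x, φ x = s := fun s hs => by rw [← hrange] at hs; exact hs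
  -- fusion of the central involutions
  have hfus : ∀ u : T, (∀ x, x * u = u * x) → IsConj (φ tau) (φ u) →
      ∃ n ∈ Subgroup.normalizer ((S : Subgroup G) : Set G), n * φ tau * n⁻¹ = φ u := by
    intro u hu hc
    obtain ⟨g, hg⟩ := isConj_iff.1 hc
    obtain ⟨n, hn, hne⟩ := Cfsg.Agent.S0076.result S {φ tau} {φ u} (Set.singleton_subset_iff.2 (hS tau)) (Set.singleton_subset_iff.2 (hS u))
      (fun s hs => by
        obtain ⟨x, rfl⟩ := hpre s hs
        rw [Set.image_singleton, ← map_inv, ← map_mul, ← map_mul, tau_central x, mul_inv_cancel_right])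
      (fun s hs => by
        obtain ⟨x, rfl⟩ := hpre s hs
        rw [Set.image_singleton, ← map_inv, ← map_mul, ← map_mul, hu x, mul_inv_cancel_right])
      g (by rw [Set.image_singleton, hg])
    rw [Set.image_singleton, Set.singleton_eq_singleton_iff] at hne
    exact ⟨n, hn, hne⟩
  have hconjS : ∀ n ∈ Subgroup.normalizer ((S : Subgroup G) : Set G), ∀ x, ∃ y, φ y = n * φ x * n⁻¹ := fun n hn x =>
    hpre _ ((Subgroup.mem_normalizer_iff.1 hn _).1 (hS x))
  have hnz : ¬ IsConj (φ tau) (φ zeta) := fun hc => by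
    obtain ⟨n, hn, hne⟩ := hfus zeta zeta_central hc
    obtain ⟨w, hw⟩ := zeta_sq
    obtain ⟨y, hy⟩ := hconjS n⁻¹ ((Subgroup.normalizer _).inv_mem hn) w
    refine tau_not_sq y (hφ ?_)
    rw [map_mul, hy, conj_mul, ← map_mul, hw, ← hne]; group
  have hntz : ¬ IsConj (φ tau) (φ (tau * zeta)) := fun hc => by
    obtain ⟨n, hn, hne⟩ := hfus _ (fun x => by rw [← mul_assoc, tau_central, mul_assoc, zeta_central, mul_assoc]) hc
    obtain ⟨w, hw⟩ := zeta_sq
    obtain ⟨y, hy⟩ := hconjS n hn w
    have hz : n * φ zeta * n⁻¹ = φ zeta := by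
      have h1 : φ (y * y) = n * φ zeta * n⁻¹ := by rw [map_mul, hy, conj_mul, ← map_mul, hw]
      rcases sq_eq y with h | h
      · rw [h, map_one, eq_comm, mul_inv_eq_one, mul_eq_left, ← φ.map_one] at h1
        exact absurd (hφ h1) (by decide)
      · rw [← h1, h]
    have h2 : n * φ (tau * zeta) * n⁻¹ = φ tau := by
      rw [map_mul, ← conj_mul, hne, hz, ← map_mul]
      exact congrArg φ tau_facts.1
    let A : MulAction G G := MulAction.compHom G (MulAut.conj : G →* MulAut G)
    have h3 : n * φ tau * n⁻¹ = φ tau := @no_swap G _ _ S G A n hn (φ tau) (fun s hs => by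
      obtain ⟨x, rfl⟩ := hpre s hs
      show φ x * φ tau * (φ x)⁻¹ = φ tau
      rw [← map_mul, tau_central, map_mul, mul_inv_cancel_right]) (by
      show n * (n * φ tau * n⁻¹) * n⁻¹ = φ tau
      rw [hne, h2])
    rw [hne] at h3
    exact absurd (hφ h3) tau_facts.2.1
  -- fusion inside an elementary abelian subgroup of order eight
  let E : ZMod 4 → Subgroup G := fun i => (elem i).map φ
  have hEc : ∀ i, Nat.card (E i) = 8 := fun i => (Subgroup.card_map_of_injective hφ).trans (card_elem i)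
  have hEtau : ∀ i, φ tau ∈ E i := fun i => ⟨tau, Or.inl rfl, rfl⟩
  have hnorm : ∀ i, ∀ u, InE i u → IsConj (φ tau) (φ u) → ∃ h ∈ Subgroup.normalizer (E i : Set G), h * φ tau * h⁻¹ = φ u := by
    intro i u hu hc
    obtain ⟨g, hg⟩ := isConj_iff.1 hc.symm
    set C := Subgroup.centralizer ({φ tau} : Set G)
    have hSC : (S : Subgroup G) ≤ C := fun s hs => by
      obtain ⟨x, rfl⟩ := hpre s hs
      rw [Subgroup.mem_centralizer_singleton_iff, ← map_mul, tau_central, map_mul]
    have hEi : ∀ w ∈ E i, w * φ u = φ u * w := by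
      rintro _ ⟨x, hx, rfl⟩
      rw [← map_mul, elem_comm i x u hx hu, map_mul]
    set F := (E i).map (MulAut.conj g).toMonoidHom
    have hFC : F ≤ C := by
      rintro _ ⟨w, hw, rfl⟩
      rw [Subgroup.mem_centralizer_singleton_iff, ← hg]
      show g * w * g⁻¹ * (g * φ u * g⁻¹) = g * φ u * g⁻¹ * (g * w * g⁻¹)
      rw [conj_mul, conj_mul, hEi w hw]
    have hF2 : IsPGroup 2 F := (IsPGroup.of_card (n := 3) (hEc i)).map _
    obtain ⟨P, hP⟩ := (hF2.of_equiv (Subgroup.subgroupOfEquivOfLe hFC).symm).exists_le_sylow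
    set SC : Sylow 2 C := S.subtype hSC
    obtain ⟨c, hcP⟩ := MulAction.exists_smul_eq C P SC
    set h := (c : G) * g with hh
    have hhu : h * φ u * h⁻¹ = φ tau := by
      have hct : (c : G) * φ tau = φ tau * c := Subgroup.mem_centralizer_singleton_iff.1 c.2
      calc h * φ u * h⁻¹ = c * (g * φ u * g⁻¹) * (c : G)⁻¹ := by rw [hh]; group
        _ = φ tau := by rw [hg, hct, mul_inv_cancel_right]
    have hhS : ∀ w ∈ E i, h * w * h⁻¹ ∈ (S : Subgroup G) := fun w hw => by
      have h1 : (⟨g * w * g⁻¹, hFC ⟨w, hw, rfl⟩⟩ : C) ∈ (P : Subgroup C) := hP ⟨w, hw, rfl⟩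
      have h2 : c * ⟨g * w * g⁻¹, hFC ⟨w, hw, rfl⟩⟩ * c⁻¹ ∈ (SC : Subgroup C) := by rw [← hcP]; exact ⟨_, h1, rfl⟩
      have h3 : (c : G) * (g * w * g⁻¹) * (c : G)⁻¹ ∈ (S : Subgroup G) := h2
      rw [hh]; convert h3 using 1; group
    set K := ((E i).map (MulAut.conj h).toMonoidHom).comap φ with hK
    have hKmap : K.map φ = (E i).map (MulAut.conj h).toMonoidHom := by
      rw [hK, Subgroup.map_comap_eq, inf_eq_right, hrange]
      rintro _ ⟨w, hw, rfl⟩
      exact hhS w hw
    have hKc : Nat.card K = 8 := by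
      rw [← Subgroup.card_map_of_injective hφ (K := K), hKmap, Subgroup.card_map_of_injective (MulAut.conj h).injective, hEc]
    have hKE : ∀ x ∈ K, ∃ w ∈ E i, φ x = h * w * h⁻¹ := fun x hx => by
      obtain ⟨w, hw, hwe⟩ := hx
      exact ⟨w, hw, hwe.symm⟩
    have hK2 : ∀ x ∈ K, x * x = 1 := fun x hx => hφ (by
      obtain ⟨w, ⟨v, hv, rfl⟩, hxw⟩ := hKE x hx
      rw [map_mul, hxw, conj_mul, ← map_mul, elem_sq i v hv, map_one, mul_one, mul_inv_cancel])
    have hKcomm : ∀ x ∈ K, ∀ y ∈ K, x * y = y * x := fun x hx y hy => hφ (by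
      obtain ⟨w, ⟨v, hv, rfl⟩, hxw⟩ := hKE x hx
      obtain ⟨w', ⟨v', hv', rfl⟩, hyw⟩ := hKE y hy
      rw [map_mul, map_mul, hxw, hyw, conj_mul, conj_mul, ← map_mul, elem_comm i v v' hv hv', map_mul])
    obtain ⟨x0, hx0, hx0z⟩ : ∃ x ∈ K, ¬ (x = 1 ∨ x = zeta ∨ x = tau ∨ x = tau * zeta) := by
      by_contra! hh'
      have : (K : Set T) ⊆ ({1, zeta, tau, tau * zeta} : Finset T) := fun x hx => by
        rcases hh' x hx with e | e | e | e <;> simp [e]
      have h4 := Set.ncard_le_ncard this (Finset.finite_toSet _)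
      rw [← Nat.card_coe_set_eq] at h4
      rw [Set.ncard_coe_finset] at h4
      have h5 : ({1, zeta, tau, tau * zeta} : Finset T).card ≤ 4 := Finset.card_le_four
      have : Nat.card K ≤ 4 := h4.trans h5
      omega
    have hone : ∀ j, InE j x0 → ¬ InE (j + 1) x0 → K = elem j := fun j hj hj' =>
      Subgroup.eq_of_le_of_card_ge (fun y hy => only_two j x0 y (hK2 _ hx0) (hK2 _ hy) (hKcomm _ hx0 _ hy) hj hj') (by rw [hKc, card_elem])
    have hmap : ∀ j, K = elem j → (E i).map (MulAut.conj h).toMonoidHom = E j := fun j hj => by rw [← hKmap, hj]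
    have hdone : (E i).map (MulAut.conj h).toMonoidHom = E i → ∃ h ∈ Subgroup.normalizer (E i : Set G), h * φ tau * h⁻¹ = φ u := fun he => by
      refine ⟨h⁻¹, (Subgroup.normalizer _).inv_mem (Subgroup.mem_normalizer_iff.2 fun w => ?_), by rw [← hhu]; group⟩
      constructor
      · intro hw; rw [← he]; exact ⟨w, hw, rfl⟩
      · intro hw
        rw [← he] at hw
        obtain ⟨w', hw', hwe⟩ := hw
        rw [show w = w' from mul_left_cancel (mul_right_cancel hwe.symm)]
        exact hw'
    rcases cover x0 (hK2 _ hx0) i with hj | hj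
    · exact hdone (hmap i (hone i hj fun hj' => hx0z (meet i x0 hj hj')))
    · by_cases hji : InE i x0
      · exact absurd (meet i x0 hji hj) hx0z
      have hj2 : K = elem (i + 1) := hone (i + 1) hj (by
        intro hc'
        have : InE i x0 := by
          exact hgen i x0 hc'
        exact hji this)
      -- both subgroups are normal in the Sylow subgroup, hence not conjugate
      exfalso
      have hnS : ∀ j, ∀ s ∈ (S : Subgroup G), (fun y => s * y * s⁻¹) '' (E j : Set G) = E j := fun j => by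
        have hle : ∀ s ∈ (S : Subgroup G), ∀ w ∈ E j, s * w * s⁻¹ ∈ E j := by
          intro s hs w hw
          obtain ⟨x, rfl⟩ := hpre s hs
          obtain ⟨v, hv, rfl⟩ := hw
          exact ⟨x * v * x⁻¹, elem_normal j x v hv, by rw [map_mul, map_mul, map_inv]⟩
        intro s hs
        refine Set.Subset.antisymm ?_ fun w hw => ⟨s⁻¹ * w * s⁻¹⁻¹, hle _ ((S : Subgroup G).inv_mem hs) w hw, by group⟩
        rintro _ ⟨w, hw, rfl⟩
        exact hle s hs w hw
      have hES : ∀ j, (E j : Set G) ⊆ (S : Subgroup G) := fun j w hw => by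
        obtain ⟨v, -, rfl⟩ := hw; exact hS v
      obtain ⟨n, hn, hne⟩ := Cfsg.Agent.S0076.result S (E i : Set G) (E (i + 1) : Set G) (hES _) (hES _) (hnS _) (hnS _) h (by
        rw [← hmap _ hj2]; rfl)
      let A : MulAction G (Subgroup G) := MulAction.compHom (Subgroup G) (MulAut.conj : G →* MulAut G)
      have hact : ∀ (a : G) (D : Subgroup G), @HSMul.hSMul G (Subgroup G) (Subgroup G) (@instHSMul _ _ A.toSMul) a D = D.map (MulAut.conj a).toMonoidHom := fun a D => rfl
      have hn1 : (E i).map (MulAut.conj n).toMonoidHom = E (i + 1) := SetLike.coe_injective hne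
      -- `n` maps `E (i+1)` back to `E i`
      have hn2 : (E (i + 1)).map (MulAut.conj n).toMonoidHom = E i := by
        set D := ((E (i + 1)).map (MulAut.conj n).toMonoidHom).comap φ with hD
        have hDmap : D.map φ = (E (i + 1)).map (MulAut.conj n).toMonoidHom := by
          rw [hD, Subgroup.map_comap_eq, inf_eq_right, hrange]
          rintro _ ⟨w, hw, rfl⟩
          exact (Subgroup.mem_normalizer_iff.1 hn w).1 (hES _ hw)
        have hDc : Nat.card D = 8 := by
          rw [← Subgroup.card_map_of_injective hφ (K := D), hDmap, Subgroup.card_map_of_injective (MulAut.conj n).injective, hEc]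
        have hD2 : ∀ x ∈ D, x * x = 1 := fun x hx => hφ (by
          obtain ⟨w, ⟨v, hv, rfl⟩, hxw⟩ := hx
          have hxw' : n * φ v * n⁻¹ = φ x := hxw
          rw [map_mul, ← hxw', conj_mul, ← map_mul, elem_sq _ v hv, map_one, mul_one, mul_inv_cancel])
        have hDcomm : ∀ x ∈ D, ∀ y ∈ D, x * y = y * x := fun x hx y hy => hφ (by
          obtain ⟨w, ⟨v, hv, rfl⟩, hxw⟩ := hx
          obtain ⟨w', ⟨v', hv', rfl⟩, hyw⟩ := hy
          have hxw' : n * φ v * n⁻¹ = φ x := hxw
          have hyw' : n * φ v' * n⁻¹ = φ y := hyw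
          rw [map_mul, map_mul, ← hxw', ← hyw', conj_mul, conj_mul, ← map_mul, elem_comm _ v v' hv hv', map_mul])
        obtain ⟨y0, hy0, hy0z⟩ : ∃ y ∈ D, ¬ (y = 1 ∨ y = zeta ∨ y = tau ∨ y = tau * zeta) := by
          by_contra! hh'
          have : (D : Set T) ⊆ ({1, zeta, tau, tau * zeta} : Finset T) := fun x hx => by
            rcases hh' x hx with e | e | e | e <;> simp [e]
          have h4 := Set.ncard_le_ncard this (Finset.finite_toSet _)
          rw [← Nat.card_coe_set_eq] at h4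
          rw [Set.ncard_coe_finset] at h4
          have h5 : ({1, zeta, tau, tau * zeta} : Finset T).card ≤ 4 := Finset.card_le_four
          have : Nat.card D ≤ 4 := h4.trans h5
          omega
        rcases cover y0 (hD2 _ hy0) i with hj' | hj'
        · rw [← hDmap, show D = elem i from Subgroup.eq_of_le_of_card_ge
            (fun y hy => only_two i y0 y (hD2 _ hy0) (hD2 _ hy) (hDcomm _ hy0 _ hy) hj' fun e => hy0z (meet i y0 hj' e)) (by rw [hDc, card_elem])]
        · exfalso
          have hD' : D = elem (i + 1) := Subgroup.eq_of_le_of_card_ge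
            (fun y hy => only_two (i+1) y0 y (hD2 _ hy0) (hD2 _ hy) (hDcomm _ hy0 _ hy) hj' fun e => hy0z (meet i y0 (hgen i y0 e) hj')) (by rw [hDc, card_elem])
          rw [hD'] at hDmap
          have heq : E i = E (i + 1) := Subgroup.map_injective (MulAut.conj n).injective (hn1.trans hDmap)
          have h0 : InE (i + 1) x0 := hj
          obtain ⟨v, hv, hve⟩ := (heq ▸ (⟨x0, h0, rfl⟩ : φ x0 ∈ E (i + 1)) : φ x0 ∈ E i)
          exact hji (hφ hve ▸ hv)
      have hfix := @no_swap G _ _ S (Subgroup G) A n hn (E i) (fun s hs => by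
        rw [hact]; exact SetLike.coe_injective (hnS i s hs)) (by rw [hact, hact, hn1, hn2])
      rw [hact, hn1] at hfix
      obtain ⟨v, hv, hve⟩ := (hfix ▸ (⟨x0, hj, rfl⟩ : φ x0 ∈ E (i + 1)) : φ x0 ∈ E i)
      exact hji (hφ hve ▸ hv)
  -- two fused classes in one elementary abelian subgroup
  have hfive : ∀ i, IsConj (φ tau) (φ (1, DihedralGroup.sr i)) → IsConj (φ tau) (φ (tau * (1, DihedralGroup.sr i))) → False := by
    intro i hc1 hc2
    set N := Subgroup.normalizer (E i : Set G)
    let act : N →* MulAut (E i) := (MulAut.conjNormal (H := (E i).subgroupOf N)) |> fun f =>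
      ((MulAut.congr (Subgroup.subgroupOfEquivOfLe (Subgroup.le_normalizer))).toMonoidHom.comp f)
    have hactv : ∀ (n : N) (w : E i), ((act n w : E i) : G) = (n : G) * w * (n : G)⁻¹ := fun n w => rfl
    set R := act.range
    set t0 : E i := ⟨φ tau, hEtau i⟩
    have hmemO : ∀ v : T, InE i v → IsConj (φ tau) (φ v) → ∀ hv : φ v ∈ E i, (⟨φ v, hv⟩ : E i) ∈ MulAction.orbit R t0 := fun v hv hc hv' => by
      obtain ⟨h, hh, hhe⟩ := hnorm i v hv hc
      exact ⟨⟨act ⟨h, hh⟩, ⟨h, hh⟩, rfl⟩, Subtype.ext (by show ((act ⟨h, hh⟩ t0 : E i) : G) = φ v; rw [hactv]; exact hhe)⟩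
    have hclass : ∀ v : T, IsConj (φ tau) (φ v) → IsConj (φ tau) (φ ((1, DihedralGroup.r 1) * v * (1, DihedralGroup.r 1)⁻¹)) :=
      fun v hc => hc.trans (isConj_iff.2 ⟨φ (1, DihedralGroup.r 1), by rw [map_mul, map_mul, map_inv]⟩)
    let L : Finset T := five i
    have hLi : ∀ v ∈ L, InE i v ∧ IsConj (φ tau) (φ v) := by
      intro v hv
      have hE' := E_mem
      simp only [L, five, Finset.mem_insert, Finset.mem_singleton] at hv
      rcases hv with rfl | rfl | rfl | rfl | rfl
      exacts [⟨(hE' i).1, IsConj.refl _⟩, ⟨(hE' i).2.1, hc1⟩, ⟨(hE' i).2.2, hc2⟩,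
        ⟨elem_normal i _ _ (hE' i).2.1, hclass _ hc1⟩, ⟨elem_normal i _ _ (hE' i).2.2, hclass _ hc2⟩]
    have hLcard : L.card = 5 := five_card i
    have hOcard : (MulAction.orbit R t0).ncard = 5 := by
      have himg : MulAction.orbit R t0 = (fun v => if h : φ v ∈ E i then (⟨φ v, h⟩ : E i) else t0) '' (L : Set T) := by
        refine Set.Subset.antisymm ?_ ?_
        · rintro w ⟨⟨σ, ⟨n, hn⟩, rfl⟩, rfl⟩
          obtain ⟨v, hv, hve⟩ := (act ⟨n, hn⟩ t0).2
          have hc : IsConj (φ tau) (φ v) := isConj_iff.2 ⟨n, by rw [hve, hactv]⟩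
          have hall := five_cover
          rcases hall i v hv with e | e | e | e
          · rw [e, map_one, isConj_comm, isConj_one_right, ← φ.map_one] at hc
            exact absurd (hφ hc) (by decide +kernel)
          · exact absurd (e ▸ hc) hnz
          · exact absurd (e ▸ hc) hntz
          · refine ⟨v, e, ?_⟩
            simp only [dif_pos (show φ v ∈ E i from ⟨v, hv, rfl⟩)]
            exact Subtype.ext hve
        · rintro _ ⟨v, hv, rfl⟩
          have h' : φ v ∈ E i := ⟨v, (hLi v hv).1, rfl⟩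
          simp only [dif_pos h']
          exact hmemO v (hLi v hv).1 (hLi v hv).2 h'
      rw [himg, Set.InjOn.ncard_image, Set.ncard_coe_finset, hLcard]
      intro v hv w hw hvw
      simp only [dif_pos (show φ v ∈ E i from ⟨v, (hLi v hv).1, rfl⟩), dif_pos (show φ w ∈ E i from ⟨w, (hLi w hw).1, rfl⟩)] at hvw
      exact hφ (congrArg Subtype.val hvw)
    have h5 : 5 ∣ Nat.card R := by
      have := (MulAction.stabilizer R t0).index_dvd_card
      rwa [MulAction.index_stabilizer, hOcard] at this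
    have : Fact (Nat.Prime 5) := ⟨by norm_num⟩
    obtain ⟨σ, hσ⟩ := exists_prime_orderOf_dvd_card' (G := R) 5 h5
    let Fx : Subgroup (E i) := ((σ : MulAut (E i)).toMonoidHom).eqLocus (MonoidHom.id _)
    have hmod := (IsPGroup.of_card (p := 5) (n := 1) (G := Subgroup.zpowers σ) (by rw [Nat.card_zpowers, hσ, pow_one])).card_modEq_card_fixedPoints (E i)
    have hfp : (MulAction.fixedPoints (Subgroup.zpowers σ) (E i)) = (Fx : Set (E i)) := by
      ext w
      constructor
      · intro hw; exact hw ⟨σ, Subgroup.mem_zpowers σ⟩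
      · rintro hw ⟨_, k, rfl⟩
        have hw' : (σ : MulAut (E i)) w = w := hw
        show (((σ ^ k : R) : MulAut (E i))) w = w
        rw [SubgroupClass.coe_zpow]
        exact MulAction.mem_stabilizer_iff.1 ((MulAction.stabilizer (MulAut (E i)) w).zpow_mem (MulAction.mem_stabilizer_iff.2 hw') k)
    rw [hfp, hEc] at hmod
    have hd : Nat.card Fx ∣ 8 := hEc i ▸ Subgroup.card_subgroup_dvd_card Fx
    have hFc : Nat.card Fx = 8 := by
      have h1 : Nat.card Fx % 5 = 3 := hmod.symm
      have h2 := Nat.le_of_dvd (by norm_num) hd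
      interval_cases h : Nat.card Fx <;> omega
    have hσ1 : σ = 1 := Subtype.ext (MulEquiv.ext fun w => by
      have : w ∈ Fx := (Subgroup.eq_top_of_card_eq Fx (hFc.trans (hEc i).symm)).symm ▸ Subgroup.mem_top w
      exact this)
    rw [hσ1, orderOf_one] at hσ
    norm_num at hσ
  -- the four maximal subgroups
  have hclass' : ∀ v : T, IsConj (φ tau) (φ ((1, DihedralGroup.r 1) * v * (1, DihedralGroup.r 1)⁻¹)) → IsConj (φ tau) (φ v) :=
    fun v hc => hc.trans (isConj_iff.2 ⟨(φ (1, DihedralGroup.r 1))⁻¹, by rw [map_mul, map_mul, map_inv]; group⟩)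
  have hM : ∀ a b : ZMod 2, ∃ u : T, chi a b u = 0 ∧ u * u = 1 ∧ IsConj (φ tau) (φ u) := by
    intro a b
    let M : Subgroup T :=
      { carrier := {x | chi a b x = 0}
        one_mem' := chi_one a b
        mul_mem' := fun {x y} hx hy => by
          show chi a b (x * y) = 0
          rw [chi_mul, show chi a b x = 0 from hx, show chi a b y = 0 from hy, add_zero]
        inv_mem' := fun {x} hx => chi_inv a b x hx }
    obtain ⟨u, hu, hu2, huc⟩ := htr M (Subgroup.index_eq_two_iff.2 ⟨tau, fun x => by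
      show Xor' (chi a b (x * tau) = 0) (chi a b x = 0)
      rw [chi_mul, chi_tau]
      exact chi_flip _⟩) (fun h => by
      have h' : chi a b tau = 0 := h
      rw [chi_tau] at h'
      exact one_ne_zero h')
    exact ⟨u, hu, hu2, huc⟩
  let P0 := IsConj (φ tau) (φ (1, DihedralGroup.sr 0))
  let P1 := IsConj (φ tau) (φ (tau * (1, DihedralGroup.sr 0)))
  let Q0 := IsConj (φ tau) (φ (1, DihedralGroup.sr 1))
  let Q1 := IsConj (φ tau) (φ (tau * (1, DihedralGroup.sr 1)))
  have hlist := chi_list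
  have hcase : ∀ a b : ZMod 2, ((b = 0 ∧ P0) ∨ (b = 1 ∧ P1)) ∨ ((a + b = 0 ∧ Q0) ∨ (a + b = 1 ∧ Q1)) := fun a b => by
    obtain ⟨u, hu, hu2, huc⟩ := hM a b
    rcases hlist a b u hu hu2 with rfl | rfl | h
    · rw [map_one, isConj_comm, isConj_one_right, ← φ.map_one] at huc
      exact absurd (hφ huc) (by decide +kernel)
    · exact absurd huc hnz
    · rcases h with (⟨hb, rfl | rfl⟩ | ⟨hb, rfl | rfl⟩) | (⟨hb, rfl | rfl⟩ | ⟨hb, rfl | rfl⟩)
      exacts [Or.inl (Or.inl ⟨hb, huc⟩), Or.inl (Or.inl ⟨hb, hclass' _ huc⟩), Or.inl (Or.inr ⟨hb, huc⟩), Or.inl (Or.inr ⟨hb, hclass' _ huc⟩),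
        Or.inr (Or.inl ⟨hb, huc⟩), Or.inr (Or.inl ⟨hb, hclass' _ huc⟩), Or.inr (Or.inr ⟨hb, huc⟩), Or.inr (Or.inr ⟨hb, hclass' _ huc⟩)]
  have hP : ¬ (P0 ∧ P1) := fun h => hfive 0 h.1 h.2
  have hQ : ¬ (Q0 ∧ Q1) := fun h => hfive 1 h.1 h.2
  obtain ⟨n2, n3, n4⟩ := bits
  have k1 := hcase 0 0
  have k2 := hcase 1 0
  have k3 := hcase 0 1
  have k4 := hcase 1 1
  simp only [zero_add, add_zero, n2, n3, n4, true_and, false_and, or_false, false_or] at k1 k2 k3 k4
  tauto

/-- A finite group whose Sylow 2-subgroups are isomorphic to the direct product of a group of order 2 and the dihedral group of order 8 is not a non-abelian simple group. -/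
theorem result {G : Type*} [Group G] [Finite G] (S : Sylow 2 G) (hS : Nonempty (↥(S : Subgroup G) ≃* Multiplicative (ZMod 2) × DihedralGroup 4))
    [IsSimpleGroup G] (hG : ¬ IsMulCommutative G) : False := by
  obtain ⟨e⟩ := hS
  let φ : T →* G := (S : Subgroup G).subtype.comp e.symm.toMonoidHom
  have hφ : Function.Injective φ := (S : Subgroup G).subtype_injective.comp e.symm.injective
  have hrange : φ.range = (S : Subgroup G) := by
    rw [MonoidHom.range_comp, MonoidHom.range_eq_top.2 e.symm.surjective, ← MonoidHom.range_eq_map, Subgroup.range_subtype]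
  refine contradiction' S φ hφ hrange fun M hM htau => ?_
  have hto : orderOf (φ tau) = 2 := by
    rw [orderOf_injective φ hφ]
    exact orderOf_eq_prime (by decide +kernel) (by decide +kernel)
  have hrel : (M.map φ).relIndex (S : Subgroup G) = 2 := by
    rw [← hrange, MonoidHom.range_eq_map, Subgroup.relIndex_map_map_of_injective _ _ hφ, Subgroup.relIndex_top_right, hM]
  rcases Cfsg.Agent.S0111.result S (M.map φ) (hrange ▸ Subgroup.map_le_range φ M) hrel (φ tau) hto (hrange ▸ ⟨tau, rfl⟩)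
      (fun ⟨x, hx, hxe⟩ => htau (hφ hxe ▸ hx)) with ⟨K, hK, hKi, -⟩ | ⟨g, u, hu, hue⟩
  · exfalso
    rcases hK.eq_bot_or_eq_top with rfl | rfl
    · rw [Subgroup.index_bot] at hKi
      have : Fact (Nat.Prime 2) := ⟨Nat.prime_two⟩
      have := isCyclic_of_prime_card (α := G) hKi
      exact hG inferInstance
    · simp at hKi
  · refine ⟨u, hu, hφ ?_, isConj_iff.2 ⟨g, hue.symm⟩⟩
    rw [map_mul, hue, conj_mul, ← map_mul, show tau * tau = 1 by decide +kernel, map_one, mul_one, mul_inv_cancel]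

end Cfsg.Agent.S3309
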