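import Cfsg.Statements.S3313
import Cfsg.Agent.LocalThree.HallJankoType.Exclude
import Cfsg.Agent.LocalThree.HallJankoType.Glue

set_option autoImplicit false
open Cfsg

namespace Cfsg.Agent.S3313

/-- The order of a simple group with the involution pattern of the Hall–Janko group. Let G be a non-abelian finite simple group with exactly two conjugacy classes of involutions, represented by z and t, such that: F*(C_G(z)) is an extraspecial 2-group; Q = O₂(C_G(z)) has order 32 and C_G(z) is the semidirect product of Q by a subgroup isomorphic to A₅; every involution of Q is conjugate to z and every other involution of C_G(z) is conjugate to t; C_G(t) is an internal direct product V × B with V a four-group containing t and B ≅ A₅; every involution of B is conjugate to z and every other involution of C_G(t) is conjugate to t. Then |G| = 604800. -/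
theorem result {G : Type*} [Group G] [Finite G]
    [IsSimpleGroup G] (hna : ¬ IsMulCommutative G) (z t : G) (hz : orderOf z = 2) (ht : orderOf t = 2)
    (hzt : ¬ IsConj z t) (hcl : ∀ x : G, orderOf x = 2 → IsConj x z ∨ IsConj x t)
    (hex : Cfsg.IsExtraspecial 2 ↥(Cfsg.generalizedFittingSubgroup ↥(Subgroup.centralizer ({z} : Set G))))
    (hQ : Nat.card ↥(Cfsg.pCore 2 ↥(Subgroup.centralizer ({z} : Set G))) = 32)
    (K : Subgroup G) (hK : Nonempty (↥K ≃* alternatingGroup (Fin 5)))
    (hKC : K ⊔ (Cfsg.pCore 2 ↥(Subgroup.centralizer ({z} : Set G))).map (Subgroup.centralizer ({z} : Set G)).subtype = Subgroup.centralizer ({z} : Set G))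
    (hKQ : K ⊓ (Cfsg.pCore 2 ↥(Subgroup.centralizer ({z} : Set G))).map (Subgroup.centralizer ({z} : Set G)).subtype = ⊥)
    (hQz : ∀ x ∈ (Cfsg.pCore 2 ↥(Subgroup.centralizer ({z} : Set G))).map (Subgroup.centralizer ({z} : Set G)).subtype, orderOf x = 2 → IsConj x z)
    (hCz : ∀ x ∈ Subgroup.centralizer ({z} : Set G), orderOf x = 2 →
      x ∉ (Cfsg.pCore 2 ↥(Subgroup.centralizer ({z} : Set G))).map (Subgroup.centralizer ({z} : Set G)).subtype → IsConj x t)
    (V B : Subgroup G) (hVB : Cfsg.IsInternalDirectProduct V B (Subgroup.centralizer ({t} : Set G)))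
    (hV : Nat.card ↥V = 4) (hV2 : ∀ v ∈ V, v ^ 2 = 1) (htV : t ∈ V) (hB : Nonempty (↥B ≃* alternatingGroup (Fin 5)))
    (hBz : ∀ x ∈ B, orderOf x = 2 → IsConj x z)
    (hCt : ∀ x ∈ Subgroup.centralizer ({t} : Set G), orderOf x = 2 → x ∉ B → IsConj x t) :
    Nat.card G = 604800 := by
  haveI : Fact (Nat.Prime 2) := ⟨Nat.prime_two⟩
  classical
  set C := Subgroup.centralizer ({z} : Set G) with hC
  set Q := Cfsg.pCore 2 ↥C with hQdef
  haveI hQn : Q.Normal := Cfsg.Lib.Components.pCore_normal' 2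
  obtain ⟨z₀, hx, -⟩ := Cfsg.Lib.LargeExtra.exists_x2 hex
  have hFQ : Cfsg.generalizedFittingSubgroup ↥C = Q := by
    refine le_antisymm (Cfsg.Lib.Components.le_pCore hx.isP) ?_
    exact le_trans (Cfsg.Lib.Components.le_fitting (Cfsg.Lib.Components.isPGroup_pCore 2).isNilpotent) le_sup_right
  have hex' : Cfsg.IsExtraspecial 2 Q := hFQ ▸ hex
  have hK' : K ≤ C := le_sup_left.trans hKC.le
  have hcompl : Subgroup.IsComplement' Q (K.subgroupOf C) := by
    have hd : Disjoint Q (K.subgroupOf C) := by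
      refine disjoint_iff.2 ((Subgroup.eq_bot_iff_forall _).2 fun x hx => ?_)
      have h1 : (x : G) ∈ K ⊓ Q.map C.subtype := ⟨Subgroup.mem_subgroupOf.1 hx.2, x, hx.1, rfl⟩
      rw [hKQ, Subgroup.mem_bot] at h1
      exact Subtype.ext h1
    refine Subgroup.isComplement'_of_disjoint_and_mul_eq_univ hd ?_
    rw [← Subgroup.normal_mul]
    have h : Q ⊔ K.subgroupOf C = ⊤ := by
      refine Subgroup.map_injective C.subtype_injective ?_
      rw [Subgroup.map_sup, Subgroup.map_subgroupOf_eq_of_le hK', ← MonoidHom.range_eq_map, Subgroup.range_subtype,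
        sup_comm, hKC]
    rw [h, Subgroup.coe_top]
  obtain ⟨ek⟩ := hK
  let e2 : ↥C ⧸ Q ≃* ↥(alternatingGroup (Fin 5)) :=
    (hcompl.symm.QuotientMulEquiv.trans (Subgroup.subgroupOfEquivOfLe hK')).trans ek
  have hnwc : Cfsg.Lib.HallJankoType.Hyp.NotWeaklyClosed z Q := by
    obtain ⟨a, σ, D⟩ : ∃ (a : Fin 5 → G) (σ : ↥C →* Equiv.Perm (Fin 5)),
        Cfsg.Lib.HallJankoType.Data z (Q.map C.subtype) a σ :=
      Cfsg.Lib.HallJankoType.exists_data_of hz Q hFQ hex' hQ (e2.toMonoidHom.comp (QuotientGroup.mk' Q))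
        (e2.surjective.comp (QuotientGroup.mk'_surjective Q)) (by
          ext c
          rw [MonoidHom.mem_ker]
          show e2 (c : ↥C ⧸ Q) = 1 ↔ _
          rw [MulEquiv.map_eq_one_iff, QuotientGroup.eq_one_iff])
    obtain ⟨hq, hqq, hq1, hqz⟩ := D.frame.pt_invol (i := 0) (Or.inl rfl)
    obtain ⟨g, hg⟩ := isConj_iff.1 (hQz _ hq (Cfsg.Lib.InvolCalc.order_two_of_mul_self hqq hq1)).symm
    obtain ⟨c, hc, hca⟩ := Subgroup.mem_map.1 hq
    have hca' : (c : G) = g * z * g⁻¹ := hca.trans hg.symm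
    refine ⟨g, ⟨hca' ▸ c.2, ?_⟩, by rw [hg]; exact hqz⟩
    rwa [show (⟨g * z * g⁻¹, hca' ▸ c.2⟩ : ↥C) = c from Subtype.ext hca'.symm]
  obtain ⟨a, σ, H⟩ := Cfsg.Lib.HallJankoType.exists_hyp_of_equiv hz Q hFQ hex' hQ (e2.toMonoidHom.comp (QuotientGroup.mk' Q))
    (e2.surjective.comp (QuotientGroup.mk'_surjective Q)) (by
      ext c
      rw [MonoidHom.mem_ker]
      show e2 (c : ↥C ⧸ Q) = 1 ↔ _
      rw [MulEquiv.map_eq_one_iff, QuotientGroup.eq_one_iff]) hnwc ⟨z, t, hz, ht, hzt⟩
  obtain ⟨u, hu⟩ := H.exists_outer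
  exact (H.card_eq hu).1

end Cfsg.Agent.S3313
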