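import Cfsg.Statements.S3342
import Cfsg.Agent.LocalThree.SpCentre.CaseN
import Cfsg.Agent.LocalThree.SpCentre.SixEnd
-- import your own Cfsg.Agent.* helpers here

set_option autoImplicit false
open Cfsg

namespace Cfsg.Agent.S3342

/-- Let G be a finite group and a ∈ G an element of order 3 whose centralizer C has O₃(C) extraspecial of order 27 and exponent 3 with C/O₃(C) isomorphic to SL(2,3), and suppose some elementary abelian J ≤ C of order 27 normalizes no non-trivial subgroup of G of order prime to 3. If a is not conjugate to its inverse, then G has a normal subgroup of index 3 or G is isomorphic to PSp(4,3). If a is conjugate to its inverse, then ⟨a⟩ is normal in G, or G is isomorphic to the full automorphism group of PSp(4,3), or G is isomorphic to Sp(6,2). -/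
theorem result {G : Type*} [Group G] [Finite G]
    (a : G) (ha : orderOf a = 3) (C : Subgroup G) (hC : C = Subgroup.centralizer ({a} : Set G))
    (hR : Cfsg.IsExtraspecial 3 (Cfsg.pCore 3 C)) (hRcard : Nat.card (Cfsg.pCore 3 C) = 27)
    (hRexp : ∀ r ∈ Cfsg.pCore 3 C, r ^ 3 = 1)
    (e : C ⧸ Cfsg.pCore 3 C ≃* Matrix.SpecialLinearGroup (Fin 2) (ZMod 3))
    (J : Subgroup G) (hJC : J ≤ C) (hJcomm : IsMulCommutative J) (hJexp : ∀ j ∈ J, j ^ 3 = 1) (hJcard : Nat.card J = 27)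
    (hJsig : ∀ K : Subgroup G, (Nat.card K).Coprime 3 → (∀ j ∈ J, K.map (MulAut.conj j).toMonoidHom = K) → K = ⊥)
    (F : Type*) [Field F] [Fintype F] (hF : Fintype.card F = 3)
    (F₂ : Type*) [Field F₂] [Fintype F₂] (hF₂ : Fintype.card F₂ = 2) :
    ((∀ g : G, g * a * g⁻¹ ≠ a⁻¹) →
      (∃ N : Subgroup G, N.Normal ∧ N.index = 3) ∨ Nonempty (G ≃* Cfsg.PSp 2 F)) ∧
    ((∃ g : G, g * a * g⁻¹ = a⁻¹) →
      Subgroup.normalizer (Subgroup.zpowers a : Set G) = ⊤ ∨ Nonempty (G ≃* MulAut (Cfsg.PSp 2 F)) ∨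
        Nonempty (G ≃* Matrix.symplecticGroup (Fin 3) F₂)) := by
  classical
  obtain ⟨D, hDa, -⟩ := Cfsg.Lib.SpCentre.exists_data a ha C hC hR hRcard hRexp e J hJC hJcomm hJexp hJcard hJsig
  obtain ⟨L, hLa, -⟩ := Cfsg.Lib.SpCentre.exists_loc D
  have haL : L.ι Cfsg.Lib.AmalgamSpFour.vZ = a := hLa.trans hDa
  subst haL
  have hne : ¬ (-Cfsg.Lib.AmalgamSpFour.vZ = Cfsg.Lib.AmalgamSpFour.vZ) := by decide +kernel
  rcases L.cases with h | ⟨h, hex⟩ | h | h
  · refine ⟨fun _ => Or.inl (L.one_image h), fun hr => ?_⟩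
    obtain ⟨w, hw, e'⟩ := L.real_iff.1 hr
    exact absurd (e'.symm.trans (h w hw)) hne
  · exact ⟨fun hr => absurd (L.real_iff.2 hex) (by push Not; exact hr), fun _ => Or.inl (L.two_image h hex)⟩
  · refine ⟨fun _ => Or.inr (L.four_image h hF), fun ⟨g, hg⟩ => absurd hg (L.real_not_WL h g)⟩
  · obtain ⟨E, rfl⟩ := Cfsg.Lib.SpCentre.Full.exists_full L h
    refine ⟨fun hr => absurd (E.toLoc.real_iff.2 ⟨_, (h _).2 Cfsg.Lib.SpCentre.negW_facts.1,
      by decide +kernel⟩) (by push Not; exact hr), fun _ => ?_⟩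
    by_cases hN : ∀ g : G, g * E.ι (1, 0, 0) = E.ι (1, 0, 0) * g → g ∈ Subgroup.normalizer (E.J : Set G)
    · exact Or.inr (Or.inl (E.case_N hN hF))
    · push Not at hN
      obtain ⟨S, rfl⟩ := E.exists_sx hN
      exact Or.inr (Or.inr (S.six_image hF₂))

end Cfsg.Agent.S3342
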