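import Cfsg.Statements.S3347
import Cfsg.Agent.SmithTyrer.Finish
import Cfsg.Agent.Blocks.SylowNormalize
import Cfsg.Agent.SolvStruct.PLengthSeries
import Cfsg.Agent.Components.Cores

set_option autoImplicit false
open Cfsg

namespace Cfsg.Agent.S3347

open Cfsg.Lib.SmithTyrer

universe u

/-- An element centralized by the normalizer has non-trivial transfer. -/
theorem pResidual_ne_top_of_fixed {G : Type u} [Group G] [Finite G] {p : ℕ} [hp : Fact p.Prime]
    (P : Sylow p G) [IsMulCommutative (P : Subgroup G)] {x : G} (hx : x ∈ P) (hx1 : x ≠ 1)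
    (hfix : ∀ n ∈ Subgroup.normalizer ((P : Subgroup G) : Set G), n * x * n⁻¹ = x) :
    Cfsg.pResidual p G ≠ ⊤ := by
  intro htop
  haveI : (P : Subgroup G).FiniteIndex := inferInstance
  letI : CommGroup (P : Subgroup G) :=
    { (inferInstance : Group (P : Subgroup G)) with mul_comm := fun a b => mul_comm' a b }
  set V := MonoidHom.transfer (MonoidHom.id (P : Subgroup G)) with hV
  have key : ∀ (k : ℕ) (g₀ : G), g₀⁻¹ * x ^ k * g₀ ∈ (P : Subgroup G) →
      g₀⁻¹ * x ^ k * g₀ = x ^ k := by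
    intro k g₀ hk
    obtain ⟨n, hn, e⟩ := P.conj_eq_normalizer_conj_of_mem (x ^ k) g₀ (pow_mem hx k) hk
    rw [e]
    have h := hfix n⁻¹ (inv_mem hn)
    rw [inv_inv] at h
    calc n⁻¹ * x ^ k * n = (n⁻¹ * x * n⁻¹⁻¹) ^ k := by rw [conj_pow, inv_inv]
      _ = x ^ k := by rw [inv_inv, h]
  have hVx := MonoidHom.transfer_eq_pow (MonoidHom.id (P : Subgroup G)) x key
  have hker : Cfsg.pResidual p G ≤ V.ker := by
    rw [Cfsg.pResidual, Subgroup.closure_le]
    intro g hg
    rw [SetLike.mem_coe, MonoidHom.mem_ker]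
    have h2 : orderOf (V g) ∣ orderOf g := orderOf_map_dvd _ g
    obtain ⟨k, hk⟩ := IsPGroup.iff_orderOf.1 P.2 (V g)
    rw [hk] at h2
    have h3 : p ^ k ∣ 1 := by
      rw [← ((Nat.Coprime.pow_right k hg) : (orderOf g).Coprime (p ^ k))]
      exact Nat.dvd_gcd h2 dvd_rfl
    rw [Nat.dvd_one.1 h3, orderOf_eq_one_iff] at hk
    exact hk
  have hVx1 : V x = 1 := MonoidHom.mem_ker.1 (hker (htop ▸ Subgroup.mem_top x))
  rw [hV, hVx] at hVx1
  have h4 : x ^ (P : Subgroup G).index = 1 := congrArg Subtype.val hVx1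
  obtain ⟨k, hk⟩ := IsPGroup.iff_orderOf.1 P.2 ⟨x, hx⟩
  rw [Subgroup.orderOf_mk] at hk
  have h5 : orderOf x ∣ 1 := by
    rw [← ((hp.out.coprime_iff_not_dvd.2 P.not_dvd_index).symm.pow_right k :
      ((P : Subgroup G).index).Coprime (p ^ k))]
    exact Nat.dvd_gcd (orderOf_dvd_of_pow_eq_one h4) (hk ▸ dvd_rfl)
  exact hx1 (orderOf_eq_one_iff.1 (Nat.dvd_one.1 h5))

/-- The inverted case. -/
theorem pLengthLE_one_of_setup {G : Type u} [Group G] [Finite G] {p : ℕ} [hp : Fact p.Prime]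
    {P : Sylow p G} {τ : G} [Fintype G] (s : Setup P τ) (hnc : ¬ IsCyclic (P : Subgroup G)) :
    Cfsg.PLengthLE p 1 G := by
  classical
  set O := Cfsg.pPrimeCore p G with hO
  set π₀ := QuotientGroup.mk' O with hπ₀
  have hs : Function.Surjective π₀ := QuotientGroup.mk'_surjective _
  letI : Fintype (G ⧸ O) := Fintype.ofFinite _
  let Q : Sylow p (G ⧸ O) := P.mapSurjective hs
  have hQ : (Q : Subgroup (G ⧸ O)) = (P : Subgroup G).map π₀ := Sylow.coe_mapSurjective hs P
  have hcop : (Nat.card O).Coprime p := Cfsg.Lib.Components.coprime_card_pPrimeCore p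
  have hinj : ∀ x ∈ (P : Subgroup G), π₀ x = 1 → x = 1 := fun x hx h => by
    have hxO : x ∈ O := (QuotientGroup.eq_one_iff x).1 h
    obtain ⟨k, hk⟩ := s.orderOf_pow hx
    have h1 : orderOf x ∣ 1 := by
      rw [← ((Nat.Coprime.pow_right k hcop) : (Nat.card O).Coprime (p ^ k))]
      exact Nat.dvd_gcd (Subgroup.orderOf_dvd_natCard O hxO) (hk ▸ dvd_rfl)
    exact orderOf_eq_one_iff.1 (Nat.dvd_one.1 h1)
  have hcent : ∀ n ∈ Subgroup.centralizer ((P : Subgroup G) : Set G),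
      π₀ n ∈ Subgroup.centralizer ((Q : Subgroup (G ⧸ O)) : Set (G ⧸ O)) := fun n hn => by
    rw [Subgroup.mem_centralizer_iff, hQ]
    intro y hy
    obtain ⟨x, hx, rfl⟩ := Subgroup.mem_map.1 hy
    rw [← map_mul, ← map_mul, Subgroup.mem_centralizer_iff.1 hn x hx]
  have hmap := Cfsg.Lib.Blocks.SylowNorm.map_normalizer_sylow O P
  have sQ : Setup Q (π₀ τ) :=
    { odd := s.odd
      comm := fun a ha b hb => by
        change a ∈ (Q : Subgroup (G ⧸ O)) at ha
        change b ∈ (Q : Subgroup (G ⧸ O)) at hb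
        rw [hQ] at ha hb
        obtain ⟨x, hx, rfl⟩ := Subgroup.mem_map.1 ha
        obtain ⟨y, hy, rfl⟩ := Subgroup.mem_map.1 hb
        rw [← map_mul, ← map_mul, s.comm x hx y hy]
      mem := by
        rw [hQ, ← hmap]
        exact Subgroup.mem_map_of_mem _ s.mem
      inverts := fun a ha => by
        change a ∈ (Q : Subgroup (G ⧸ O)) at ha
        rw [hQ] at ha
        obtain ⟨x, hx, rfl⟩ := Subgroup.mem_map.1 ha
        rw [← map_inv π₀ τ, ← map_mul, ← map_mul, ← map_inv, s.inverts x hx]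
      norm := fun n hn => by
        rw [hQ, ← hmap] at hn
        obtain ⟨m, hm, rfl⟩ := Subgroup.mem_map.1 hn
        rcases s.norm m hm with h | h
        · exact Or.inl (hcent m h)
        · refine Or.inr ?_
          rw [← map_inv, ← map_mul]
          exact hcent _ h }
  have hncQ : ¬ IsCyclic (Q : Subgroup (G ⧸ O)) := fun h => hnc (by
    haveI := h
    refine isCyclic_of_injective
      ((π₀.comp (P : Subgroup G).subtype).codRestrict (Q : Subgroup (G ⧸ O)) fun x => by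
        rw [hQ]; exact Subgroup.mem_map_of_mem _ x.2) ?_
    refine (injective_iff_map_eq_one _).2 fun x hx => Subtype.ext ?_
    exact hinj x x.2 (congrArg Subtype.val hx))
  have hcore : ∀ N : Subgroup (G ⧸ O), N.Normal → ¬ p ∣ Nat.card N → N = ⊥ := fun N hN hd => by
    refine le_bot_iff.1 (le_trans (Cfsg.Lib.Components.le_pPrimeCore (hn := hN)
      ((hp.out.coprime_iff_not_dvd.2 hd).symm)) ?_)
    rw [Cfsg.Lib.Coprime.pPrimeCore_quotient_eq_bot]
  haveI hQn : (Q : Subgroup (G ⧸ O)).Normal := sQ.sylow_normal hncQ hcore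
  set ρ := QuotientGroup.mk' (Q : Subgroup (G ⧸ O))
  have h1 : Cfsg.PLengthLE p 0 π₀.ker := by
    rw [Cfsg.Lib.PLengthSeries.pLengthLE_zero_iff, QuotientGroup.ker_mk']
    exact hcop
  have h2 : Cfsg.PLengthLE p 1 ρ.ker := Cfsg.Lib.PLengthSeries.pLengthLE_one_of_isPGroup (by
    rw [QuotientGroup.ker_mk']; exact Q.2)
  have h3 : Cfsg.PLengthLE p 0 ((G ⧸ O) ⧸ (Q : Subgroup (G ⧸ O))) := by
    rw [Cfsg.Lib.PLengthSeries.pLengthLE_zero_iff, ← Subgroup.index_eq_card]
    exact (hp.out.coprime_iff_not_dvd.2 Q.not_dvd_index).symm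
  exact Cfsg.Lib.PLengthSeries.pLengthLE_extend π₀ h1
    (Cfsg.Lib.PLengthSeries.pLengthLE_extend ρ h2 h3)

/-- Let G be a finite group, p an odd prime, and P an abelian, non-cyclic Sylow p-subgroup of G with [N_G(P) : C_G(P)] = 2. Then either O^p(G) is a proper subgroup of G, or G has p-length 1 (G = O_{p',p,p'}(G)). -/
theorem result {G : Type*} [Group G] [Finite G]
    (p : ℕ) [Fact p.Prime] (hp : p ≠ 2) (P : Sylow p G) (hab : IsMulCommutative (P : Subgroup G)) (hnc : ¬ IsCyclic (P : Subgroup G))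
    (hidx : ((Subgroup.centralizer ((P : Subgroup G) : Set G)).subgroupOf (Subgroup.normalizer ((P : Subgroup G) : Set G))).index = 2) :
    Cfsg.pResidual p G ≠ ⊤ ∨ Cfsg.PLengthLE p 1 G := by
  classical
  letI : Fintype G := Fintype.ofFinite G
  haveI := hab
  set N := Subgroup.normalizer ((P : Subgroup G) : Set G) with hN
  set C := Subgroup.centralizer ((P : Subgroup G) : Set G) with hC
  have hcomm : ∀ x ∈ P, ∀ y ∈ P, x * y = y * x := fun x hx y hy =>
    congrArg Subtype.val (mul_comm' (⟨x, hx⟩ : (P : Subgroup G)) ⟨y, hy⟩)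
  obtain ⟨τ, hτ⟩ : ∃ τ : N, τ ∉ C.subgroupOf N := by
    by_contra h
    push Not at h
    rw [show C.subgroupOf N = ⊤ from eq_top_iff.2 fun x _ => h x, Subgroup.index_top] at hidx
    norm_num at hidx
  have hnorm : ∀ n ∈ N, n ∈ C ∨ (τ : G)⁻¹ * n ∈ C := fun n hn => by
    by_cases h : n ∈ C
    · exact Or.inl h
    · refine Or.inr ?_
      have := (Subgroup.mul_mem_iff_of_index_two hidx (a := τ⁻¹) (b := ⟨n, hn⟩)).2
        ⟨fun h' => absurd (inv_mem_iff.1 h') hτ, fun h' => absurd h' h⟩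
      exact this
  have hτ2 : (τ : G) * τ ∈ C := by
    have := (Subgroup.mul_mem_iff_of_index_two hidx (a := τ) (b := τ)).2 Iff.rfl
    exact this
  by_cases hfix : ∀ x ∈ P, (τ : G) * x * (τ : G)⁻¹ = x → x = 1
  · refine Or.inr (pLengthLE_one_of_setup (τ := (τ : G)) ⟨hp, hcomm, τ.2, fun x hx => ?_,
      hnorm⟩ hnc)
    have hx' : (τ : G) * x * (τ : G)⁻¹ ∈ P := (Subgroup.mem_normalizer_iff.1 τ.2 x).1 hx
    have h := hfix (x * ((τ : G) * x * (τ : G)⁻¹)) (mul_mem hx hx') ?_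
    · exact eq_inv_of_mul_eq_one_right h
    · have h2 : x * ((τ : G) * τ) = (τ : G) * τ * x := Subgroup.mem_centralizer_iff.1 hτ2 x hx
      calc (τ : G) * (x * ((τ : G) * x * (τ : G)⁻¹)) * (τ : G)⁻¹
          = (τ : G) * x * (τ : G)⁻¹ * ((τ : G) * τ * x * (τ : G)⁻¹ * (τ : G)⁻¹) := by group
        _ = (τ : G) * x * (τ : G)⁻¹ * x := by rw [← h2]; group
        _ = x * ((τ : G) * x * (τ : G)⁻¹) := hcomm _ hx' x hx
  · push Not at hfix
    obtain ⟨x, hx, hxτ, hx1⟩ := hfix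
    refine Or.inl (pResidual_ne_top_of_fixed P hx hx1 fun n hn => ?_)
    have hCfix : ∀ c ∈ C, c * x * c⁻¹ = x := fun c hc => by
      rw [← (Subgroup.mem_centralizer_iff.1 hc x hx : x * c = c * x), mul_inv_cancel_right]
    rcases hnorm n hn with h | h
    · exact hCfix n h
    · calc n * x * n⁻¹ = (τ : G) * (((τ : G)⁻¹ * n) * x * ((τ : G)⁻¹ * n)⁻¹) * (τ : G)⁻¹ := by group
        _ = x := by rw [hCfix _ h, hxτ]

end Cfsg.Agent.S3347
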