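import Mathlib
import Cfsg.Statements.S3349
-- import your own Cfsg.Agent.* helpers here

set_option autoImplicit false
open Cfsg

namespace Cfsg.Agent.S3349

/-- Let Q be a finite extraspecial p-group and α an automorphism of Q fixing every element of some maximal abelian subgroup of Q. Then the order of α is a power of p. -/
theorem result {Q : Type*} [Group Q] [Finite Q]
    (p : ℕ) [Fact p.Prime] (hQ : Cfsg.IsExtraspecial p Q) (α : MulAut Q)
    (A : Subgroup Q) (hA : IsMulCommutative A) (hmax : ∀ B : Subgroup Q, A ≤ B → IsMulCommutative B → B = A)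
    (hfix : ∀ a ∈ A, α a = a) :
    ∃ k : ℕ, orderOf α = p ^ k := by
  classical
  obtain ⟨⟨hPG, hZ, hcomm⟩, -⟩ := hQ
  -- a maximal abelian subgroup is self-centralizing and normal
  have hab : ∀ a ∈ A, ∀ b ∈ A, a * b = b * a := fun a ha b hb => congrArg Subtype.val (hA.is_comm.comm ⟨a, ha⟩ ⟨b, hb⟩)
  have hcent : ∀ c : Q, (∀ a ∈ A, a * c = c * a) → c ∈ A := by
    intro c hc
    have hcl : IsMulCommutative (Subgroup.closure ((A : Set Q) ∪ {c})) := Subgroup.isMulCommutative_closure (fun x hx y hy => by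
      rcases hx with hx | rfl <;> rcases hy with hy | rfl
      exacts [hab x hx y hy, hc x hx, (hc y hy).symm, rfl])
    rw [← hmax _ (fun a ha => Subgroup.subset_closure (Or.inl ha)) hcl]
    exact Subgroup.subset_closure (Or.inr rfl)
  have hnorm : ∀ a ∈ A, ∀ x : Q, x * a * x⁻¹ ∈ A := fun a ha x => by
    have h1 : x * a * x⁻¹ * a⁻¹ ∈ Subgroup.center Q := by
      rw [← hcomm, ← commutatorElement_def]
      exact Subgroup.commutator_mem_commutator (Subgroup.mem_top _) (Subgroup.mem_top _)
    have h2 : x * a * x⁻¹ * a⁻¹ ∈ A := hcent _ fun b _ => Subgroup.mem_center_iff.mp h1 b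
    simpa using mul_mem h2 ha
  -- the displacement of each element lies in `A`
  have hd : ∀ x : Q, x⁻¹ * α x ∈ A := fun x => hcent _ fun a ha => by
    have e : x * a * x⁻¹ = α x * a * (α x)⁻¹ := by
      have := hfix _ (hnorm a ha x)
      rw [map_mul, map_mul, map_inv, hfix a ha] at this
      exact this.symm
    calc a * (x⁻¹ * α x) = x⁻¹ * (x * a * x⁻¹) * α x := by group
      _ = x⁻¹ * α x * a := by rw [e]; group
  have hpow : ∀ (k : ℕ) (x : Q), (α ^ k) x = x * (x⁻¹ * α x) ^ k := by
    intro k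
    induction k with
    | zero => intro x; simp
    | succ k ih =>
      intro x
      rw [pow_succ', MulAut.mul_apply, ih x, map_mul, hfix _ (pow_mem (hd x) k), pow_succ', ← mul_assoc x, mul_inv_cancel_left]
  obtain ⟨n, hn⟩ := hPG.exists_card_eq
  have h1 : α ^ (p ^ n) = 1 := by
    refine MulEquiv.ext fun x => ?_
    rw [hpow, ← hn, pow_card_eq_one', mul_one]; rfl
  obtain ⟨k, -, hk⟩ := (Nat.dvd_prime_pow (Fact.out : p.Prime)).mp (orderOf_dvd_of_pow_eq_one h1)
  exact ⟨k, hk⟩

end Cfsg.Agent.S3349
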