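import Cfsg.Agent.Frobenius.ProductComplement
import Mathlib
import Cfsg.Statements.S3357
-- import your own Cfsg.Agent.* helpers here

set_option autoImplicit false
open Cfsg

namespace Cfsg.Agent.S3357

/-- Let G be a finite group that occurs as a Frobenius complement. Then G has a faithful irreducible representation over an algebraic closure of the rationals in which no non-identity element of G has 1 as an eigenvalue: there are n ≥ 1 and an injective homomorphism ρ from G to GL(n) over that field, with no invariant subspace other than 0 and the whole space, such that for g ≠ 1 the only vector fixed by ρ(g) is 0. -/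
theorem result {G : Type*} [Group G] [Finite G]
    (hFC : ∃ (L : Type) (_ : Group L) (_ : Finite L) (H : Subgroup L), Cfsg.IsFrobeniusComplement H ∧ Nonempty (G ≃* H)) :
    ∃ (n : ℕ) (ρ : G →* GL (Fin n) (AlgebraicClosure ℚ)), 0 < n ∧ Function.Injective ρ ∧
      (∀ W : Submodule (AlgebraicClosure ℚ) (Fin n → AlgebraicClosure ℚ),
        (∀ g : G, ∀ w ∈ W, ((ρ g : GL (Fin n) (AlgebraicClosure ℚ)) : Matrix (Fin n) (Fin n) (AlgebraicClosure ℚ)).mulVec w ∈ W) → W = ⊥ ∨ W = ⊤) ∧
      ∀ g : G, g ≠ 1 → ∀ v : Fin n → AlgebraicClosure ℚ,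
        ((ρ g : GL (Fin n) (AlgebraicClosure ℚ)) : Matrix (Fin n) (Fin n) (AlgebraicClosure ℚ)).mulVec v = v → v = 0 := by
  classical
  obtain ⟨L, i1, i2, H, hH, ⟨e⟩⟩ := hFC
  have hcrit : Cfsg.Lib.Frobenius.ProductComplement.Crit G :=
    (Cfsg.Lib.Frobenius.ProductComplement.crit_of_complement hH).comap e.toMonoidHom e.injective
  obtain ⟨ψ, hψ1, hψ⟩ := hcrit
  -- the space of functions whose sums over translates of subgroups of prime order vanish
  let V : Submodule (AlgebraicClosure ℚ) (G → AlgebraicClosure ℚ) :=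
    { carrier := {f | Cfsg.Lib.Frobenius.ProductComplement.SumZero G f}
      add_mem' := fun {f g} hf hg c hc z => by
        simp only [Pi.add_apply, Finset.sum_add_distrib]; rw [hf c hc z, hg c hc z, add_zero]
      zero_mem' := fun c _ z => by simp
      smul_mem' := fun a f hf c hc z => by
        simp only [Pi.smul_apply, smul_eq_mul, ← Finset.mul_sum]; rw [hf c hc z, mul_zero] }
  have hsh : ∀ (g : G), ∀ f ∈ V, (fun z => f (z * g)) ∈ V := fun g f hf c hc z => by
    have := hf c hc (z * g)
    simpa [mul_assoc] using this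
  let σ : G →* Module.End (AlgebraicClosure ℚ) V :=
    { toFun := fun g =>
        { toFun := fun f => ⟨fun z => (f : G → AlgebraicClosure ℚ) (z * g), hsh g f f.2⟩
          map_add' := fun f f' => Subtype.ext (funext fun z => rfl)
          map_smul' := fun a f => Subtype.ext (funext fun z => rfl) }
      map_one' := LinearMap.ext fun f => Subtype.ext (funext fun z => by
        show (f : G → AlgebraicClosure ℚ) (z * 1) = _
        rw [mul_one]; rfl)
      map_mul' := fun a b => LinearMap.ext fun f => Subtype.ext (funext fun z => by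
        show (f : G → AlgebraicClosure ℚ) (z * (a * b)) = (f : G → AlgebraicClosure ℚ) (z * a * b)
        rw [mul_assoc]) }
  have hfpf : ∀ g : G, g ≠ 1 → ∀ f : V, σ g f = f → f = 0 := by
    intro g hg f hf
    have hinv : ∀ (i : ℕ) (z : G), (f : G → AlgebraicClosure ℚ) (z * g ^ i) = (f : G → AlgebraicClosure ℚ) z := by
      intro i
      induction i with
      | zero => simp
      | succ i ih =>
        intro z
        rw [pow_succ, ← mul_assoc]
        exact (congrFun (congrArg Subtype.val hf) (z * g ^ i)).trans (ih z)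
    obtain ⟨q, hq, hqd⟩ := Nat.exists_prime_and_dvd (show orderOf g ≠ 1 by simpa using hg)
    set c := g ^ (orderOf g / q) with hc
    have hoc : orderOf c = q := orderOf_pow_orderOf_div (orderOf_pos g).ne' hqd
    ext z
    have := f.2 (z * c * z⁻¹) (by rw [← MulAut.conj_apply, MulEquiv.orderOf_eq, hoc]; exact hq) z
    rw [← MulAut.conj_apply, MulEquiv.orderOf_eq, hoc] at this
    simp only [MulAut.conj_apply, conj_pow, inv_mul_cancel_right, hc, ← pow_mul, hinv, Finset.sum_const, Finset.card_range,
      nsmul_eq_mul, mul_eq_zero] at this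
    rcases this with h | h
    · exact absurd (Nat.cast_eq_zero.mp h) hq.ne_zero
    · simpa using h
  -- a minimal invariant subspace
  let S : Set (Submodule (AlgebraicClosure ℚ) V) := {U | U ≠ ⊥ ∧ ∀ g : G, ∀ u ∈ U, σ g u ∈ U}
  have hS : S.Nonempty := by
    refine ⟨⊤, fun h => hψ1 ?_, fun g u _ => Submodule.mem_top⟩
    let f₀ : V := ⟨fun z => algebraMap ℚ (AlgebraicClosure ℚ) (ψ z), fun c hc z => by
      rw [← map_sum, hψ c hc z, map_zero]⟩
    have h0 : f₀ = 0 := by
      have : f₀ ∈ (⊤ : Submodule (AlgebraicClosure ℚ) V) := Submodule.mem_top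
      rw [h, Submodule.mem_bot] at this
      exact this
    exact (map_eq_zero _).mp (congrFun (congrArg Subtype.val h0) 1)
  obtain ⟨U, hUS, hUmin⟩ := WellFounded.has_min wellFounded_lt S hS
  let τ : G →* Module.End (AlgebraicClosure ℚ) U :=
    { toFun := fun g => (σ g).restrict (hUS.2 g)
      map_one' := LinearMap.ext fun u => Subtype.ext (by simp [LinearMap.restrict_apply])
      map_mul' := fun a b => LinearMap.ext fun u => Subtype.ext (by simp [LinearMap.restrict_apply]) }
  haveI : Nontrivial U := Submodule.nontrivial_iff_ne_bot.mpr hUS.1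
  haveI : Module.Free (AlgebraicClosure ℚ) U := Module.Free.of_basis (Module.Basis.ofVectorSpace (AlgebraicClosure ℚ) U)
  set n := Module.finrank (AlgebraicClosure ℚ) U with hn
  have hn0 : 0 < n := by rw [hn]; exact Module.finrank_pos (R := AlgebraicClosure ℚ) (M := U)
  let b := Module.finBasis (AlgebraicClosure ℚ) U
  let ρ : G →* GL (Fin n) (AlgebraicClosure ℚ) :=
    (Units.map (LinearMap.toMatrixAlgEquiv b).toMonoidHom).comp τ.toHomUnits
  have hρ : ∀ (g : G) (v : Fin n → AlgebraicClosure ℚ),
      ((ρ g : GL (Fin n) (AlgebraicClosure ℚ)) : Matrix (Fin n) (Fin n) (AlgebraicClosure ℚ)).mulVec v = b.equivFun (τ g (b.equivFun.symm v)) := by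
    intro g v
    show (LinearMap.toMatrix b b (τ g)).mulVec v = _
    have h := LinearMap.toMatrix_mulVec_repr b b (τ g) (b.equivFun.symm v)
    rw [← Module.Basis.equivFun_apply, ← Module.Basis.equivFun_apply, LinearEquiv.apply_symm_apply] at h
    exact h
  refine ⟨n, ρ, hn0, ?_, fun W hW => ?_, fun g hg v hv => ?_⟩
  · rw [injective_iff_map_eq_one]
    intro g hg
    by_contra hg1
    obtain ⟨u, hu, hu0⟩ := (Submodule.ne_bot_iff U).mp hUS.1
    refine hu0 (hfpf g hg1 u ?_)
    have h := hρ g (b.equivFun ⟨u, hu⟩)
    rw [hg, Units.val_one, Matrix.one_mulVec, LinearEquiv.symm_apply_apply] at h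
    exact (congrArg Subtype.val (b.equivFun.injective h)).symm
  · let W' : Submodule (AlgebraicClosure ℚ) V := (W.comap b.equivFun.toLinearMap).map U.subtype
    by_cases hW' : W' = ⊥
    · refine Or.inl ((Submodule.eq_bot_iff W).mpr fun w hw => ?_)
      have h1 : (b.equivFun.symm w : V) ∈ W' := ⟨b.equivFun.symm w, by
        show b.equivFun (b.equivFun.symm w) ∈ W
        rw [LinearEquiv.apply_symm_apply]; exact hw, rfl⟩
      rw [hW', Submodule.mem_bot] at h1
      have h2 : b.equivFun.symm w = 0 := Subtype.ext h1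
      exact b.equivFun.symm.injective (h2.trans (map_zero _).symm)
    · refine Or.inr (eq_top_iff.mpr fun w _ => ?_)
      have hmem : W' ∈ S := ⟨hW', by
        rintro g _ ⟨u, hu, rfl⟩
        refine ⟨τ g u, ?_, rfl⟩
        have := hW g _ hu
        rw [hρ] at this
        simpa using this⟩
      have hle : W' ≤ U := by rintro _ ⟨u, -, rfl⟩; exact u.2
      have heq : W' = U := eq_of_le_of_not_lt hle (hUmin W' hmem)
      obtain ⟨u, hu, huv⟩ : (b.equivFun.symm w : V) ∈ W' := heq.ge (b.equivFun.symm w).2
      rw [Subtype.ext huv] at hu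
      change b.equivFun (b.equivFun.symm w) ∈ W at hu
      rwa [LinearEquiv.apply_symm_apply] at hu
  · rw [hρ] at hv
    have h1 : τ g (b.equivFun.symm v) = b.equivFun.symm v := b.equivFun.injective (by rw [hv, LinearEquiv.apply_symm_apply])
    have h2 : (b.equivFun.symm v : V) = 0 := hfpf g hg _ (congrArg Subtype.val h1)
    have h3 : b.equivFun.symm v = 0 := Subtype.ext h2
    exact b.equivFun.symm.injective (h3.trans (map_zero _).symm)

end Cfsg.Agent.S3357
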