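import Cfsg.Statements.S3358
import Cfsg.Agent.SolvStruct.Zassenhaus.Rep
import Cfsg.Agent.SolvStruct.Zassenhaus.Six
import Cfsg.Agent.Frobenius.ZPresentation
-- import your own Cfsg.Agent.* helpers here

set_option autoImplicit false
open Cfsg

namespace Cfsg.Agent.S3358

/-- Structure of solvable Frobenius complements. Let G be a finite solvable group that occurs as a Frobenius complement. Then G has a normal subgroup G₀ such that G/G₀ is isomorphic to a subgroup of Sym(4) (G₀ is the kernel of a homomorphism to Sym(4)), all Sylow subgroups of G₀ are cyclic, and G₀ has a presentation ⟨x, y | x^n = 1, y^m = 1, x⁻¹ y x = y^r⟩ with n, m ≥ 1, gcd(r − 1, m) = gcd(n, m) = 1 and r^(n/n′) ≡ 1 (mod m), where n′ is the product of the distinct primes dividing n. -/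
theorem result {G : Type*} [Group G] [Finite G] (hsol : Group.IsSolvable G)
    (hFC : ∃ (L : Type) (_ : Group L) (_ : Finite L) (H : Subgroup L), Cfsg.IsFrobeniusComplement H ∧ Nonempty (G ≃* H)) :
    ∃ G₀ : Subgroup G, G₀.Normal ∧
      (∃ f : G →* Equiv.Perm (Fin 4), f.ker = G₀) ∧
      (∀ (p : ℕ) [Fact p.Prime] (P : Sylow p G₀), IsCyclic P) ∧
      ∃ n m r : ℕ, 0 < n ∧ 0 < m ∧ Nat.Coprime (r - 1) m ∧ Nat.Coprime n m ∧ 1 ≤ r ∧
        r ^ (n / ∏ p ∈ n.primeFactors, p) % m = 1 % m ∧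
        Nonempty (G₀ ≃* PresentedGroup
          ({FreeGroup.of (0 : Fin 2) ^ n, FreeGroup.of (1 : Fin 2) ^ m,
            (FreeGroup.of (0 : Fin 2))⁻¹ * FreeGroup.of 1 * FreeGroup.of 0 * (FreeGroup.of (1 : Fin 2) ^ r)⁻¹} :
            Set (FreeGroup (Fin 2)))) := by
  obtain ⟨L, i1, i2, H, hH, ⟨e⟩⟩ := hFC
  obtain ⟨V, φ, hV, hφ⟩ := Cfsg.Lib.SolvStruct.Zassenhaus.exists_fpf_rep
    ((Cfsg.Lib.Frobenius.ProductComplement.crit_of_complement hH).comap e.toMonoidHom e.injective)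
  obtain ⟨N, ⟨hN, hNz, h6⟩, -⟩ := hφ.six_types
  haveI := hN
  haveI := hNz
  haveI := hsol
  haveI := hV
  have hns5 : ¬ Group.IsSolvable (Equiv.Perm (Fin 5)) := Equiv.Perm.fin_5_not_solvable
  refine ⟨N, hN, ?_, fun p hp P => hNz.isZGroup p hp.out P,
    Cfsg.Lib.ZPres.exists_presentation (hφ.restrict N)⟩
  rcases h6 with h | ⟨f, -, hk⟩ | ⟨f, -, hk⟩ | ⟨f, -, hk⟩ | ⟨f, hf, -⟩ | ⟨f, hf, -⟩
  · exact ⟨1, by rw [MonoidHom.ker_one, h]⟩
  · have hc : Nat.card (DihedralGroup 2) = 4 := DihedralGroup.nat_card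
    let ι : DihedralGroup 2 →* Equiv.Perm (Fin 4) :=
      ((Finite.equivFinOfCardEq hc).permCongrHom.toMonoidHom).comp
        (MulAction.toPermHom (DihedralGroup 2) (DihedralGroup 2))
    refine ⟨ι.comp f, ?_⟩
    have hι : Function.Injective ι :=
      (Finite.equivFinOfCardEq hc).permCongrHom.injective.comp MulAction.toPerm_injective
    rw [← hk]
    ext x
    simp only [MonoidHom.mem_ker, MonoidHom.comp_apply, map_eq_one_iff ι hι]
  · refine ⟨(alternatingGroup (Fin 4)).subtype.comp f, ?_⟩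
    rw [← hk]
    ext x
    simp only [MonoidHom.mem_ker, MonoidHom.comp_apply, map_eq_one_iff _ (Subgroup.subtype_injective _)]
  · exact ⟨f, hk⟩
  · exfalso
    haveI : Group.IsSolvable (alternatingGroup (Fin 5)) := Group.isSolvable_of_surjective hf
    exact hns5 (Group.isSolvable_of_ker_le_range (alternatingGroup (Fin 5)).subtype
      (Equiv.Perm.sign (α := Fin 5)) (fun x hx => ⟨⟨x, hx⟩, rfl⟩))
  · exact absurd (Group.isSolvable_of_surjective hf) hns5

end Cfsg.Agent.S3358
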