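import Cfsg.Statements.S3361
import Cfsg.Agent.LinearPerm.SolvableRegular
-- import your own Cfsg.Agent.* helpers here

set_option autoImplicit false
open Cfsg

namespace Cfsg.Agent.S3361

/-- Let q be a prime and V a non-trivial finite vector space over the field with q elements, and let G be a finite solvable group acting faithfully and linearly on V and regularly on the non-zero vectors (transitively, with only the identity fixing a non-zero vector). Then either V can be identified with the additive group of a finite field F so that every element of G acts as x ↦ a·σ(x) (a ∈ F, σ a field automorphism), or V has 5^2, 7^2, 11^2 or 23^2 elements. Moreover, if q ≠ 2 then G has a normal subgroup of index 2, except that when V has 25 elements G may be isomorphic to SL(2,3) and when V has 121 elements G may be isomorphic to SL(2,3) × C₅. -/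
theorem result
    (q : ℕ) [Fact q.Prime] {V : Type*} [AddCommGroup V] [Module (ZMod q) V] [Finite V] [Nontrivial V]
    {G : Type*} [Group G] [Finite G] (hsol : Group.IsSolvable G)
    (ρ : G →* (V ≃ₗ[ZMod q] V)) (hρ : Function.Injective ρ)
    (htrans : ∀ v w : V, v ≠ 0 → w ≠ 0 → ∃ g : G, ρ g v = w)
    (hreg : ∀ v : V, v ≠ 0 → ∀ g : G, ρ g v = v → g = 1) :
    ((∃ (F : Type) (_ : Field F) (_ : Fintype F) (e : V ≃+ F),
        ∀ g : G, ∃ (a : F) (σ : F ≃+* F), ∀ v : V, e (ρ g v) = a * σ (e v)) ∨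
      Nat.card V ∈ ({25, 49, 121, 529} : Set ℕ)) ∧
    (q ≠ 2 → (∃ N : Subgroup G, N.Normal ∧ N.index = 2) ∨
      (Nat.card V = 25 ∧ Nonempty (G ≃* Matrix.SpecialLinearGroup (Fin 2) (ZMod 3))) ∨
      (Nat.card V = 121 ∧ Nonempty (G ≃* Matrix.SpecialLinearGroup (Fin 2) (ZMod 3) × Multiplicative (ZMod 5)))) := by
  classical
  let eH : G ≃* ρ.range := MonoidHom.ofInjective hρ
  have heH : ∀ g, ((eH g : ρ.range) : V ≃ₗ[ZMod q] V) = ρ g := fun g => rfl
  have hreg' : ∀ v w : V, v ≠ 0 → w ≠ 0 → ∃! h : ρ.range, (h : V ≃ₗ[ZMod q] V) v = w := by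
    intro v w hv hw
    obtain ⟨g, hg⟩ := htrans v w hv hw
    refine ⟨eH g, hg, fun h hh => ?_⟩
    obtain ⟨k, rfl⟩ := eH.surjective h
    rw [heH] at hh
    congr 1
    have hfix : ρ (g⁻¹ * k) v = v := by
      rw [map_mul, LinearEquiv.mul_apply, hh, ← hg, ← LinearEquiv.mul_apply, ← map_mul, inv_mul_cancel, map_one]
      rfl
    exact (inv_mul_eq_one.1 (hreg v hv _ hfix)).symm
  haveI : Group.IsSolvable ρ.range :=
    haveI := hsol; Group.isSolvable_of_surjective (f := eH.toMonoidHom) eH.surjective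
  by_cases hI : ∀ A : Subgroup ρ.range, A.Normal → IsCyclic A → ∃ W : Submodule (ZMod q) V, W ≠ ⊥ ∧ W ≠ ⊤ ∧
      ∀ a ∈ A, ∀ v ∈ W, ((a : ρ.range) : V ≃ₗ[ZMod q] V) v ∈ W
  · obtain ⟨hcard, hrest⟩ := Cfsg.Lib.SolvableRegular.exceptional hreg' inferInstance hI
    refine ⟨Or.inr (by rcases hcard with h | h | h | h <;> simp [h]), fun _ => ?_⟩
    rcases hrest with ⟨M, hM, hMi⟩ | ⟨h, ⟨f⟩⟩ | ⟨h, ⟨f⟩⟩
    · exact Or.inl ⟨M.comap eH.toMonoidHom, hM.comap _,
        (Subgroup.index_comap_of_surjective M (f := eH.toMonoidHom) eH.surjective).trans hMi⟩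
    · exact Or.inr (Or.inl ⟨h, ⟨eH.trans f⟩⟩)
    · exact Or.inr (Or.inr ⟨h, ⟨eH.trans f⟩⟩)
  · push Not at hI
    obtain ⟨A, hAn, hAc, hA⟩ := hI
    haveI := hAn
    obtain ⟨F, fF, ftF, e, he⟩ := Cfsg.Lib.SolvableRegular.semilinear A hAc fun W hW => by
      by_contra hne
      push Not at hne
      obtain ⟨a, ha, v, hv, hnot⟩ := hA W hne.1 hne.2
      exact hnot (hW a ha v hv)
    have hsl : ∀ g : G, ∃ (a : F) (σ : F ≃+* F), ∀ v : V, e (ρ g v) = a * σ (e v) := fun g => he (eH g)
    refine ⟨Or.inl ⟨F, fF, ftF, e, hsl⟩, fun hq2 => Or.inl ?_⟩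
    refine Cfsg.Lib.SolvableRegular.index_two_of_semilinear (fun g => (ρ g).toAddEquiv) (fun v => ?_)
      (fun g h v => ?_) e ?_ hsl htrans
    · show ρ 1 v = v
      rw [map_one]; rfl
    · show ρ (g * h) v = ρ g (ρ h v)
      rw [map_mul]; rfl
    · intro h2
      have hqF : (q : F) = 0 := by
        have h1 : e (q • e.symm 1) = (q : F) := by rw [map_nsmul, e.apply_symm_apply, nsmul_one]
        rw [← h1, ← Nat.cast_smul_eq_nsmul (ZMod q), ZMod.natCast_self, zero_smul, map_zero]
      have h3 : ringChar F ∣ q := ringChar.dvd hqF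
      rw [h2] at h3
      exact hq2 ((Nat.prime_dvd_prime_iff_eq Nat.prime_two Fact.out).1 h3).symm

end Cfsg.Agent.S3361
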