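import Cfsg.Statements.S3362
import Cfsg.Agent.Small.M12

set_option autoImplicit false
open Cfsg

namespace Cfsg.Agent.S3362

open Cfsg.Lib.PermCert in
/-- An explicit construction of the Mathieu groups of degrees 11 and 12. On the points 0, …, 11 let s = (3 4 5)(6 7 8)(9 10 11), t = (3 6 9)(4 7 10)(5 8 11), u = (4 6 5 9)(7 8 11 10), v = (4 7 5 11)(6 10 9 8), w = (4 10 5 8)(6 11 9 7), x₁ = (0 3)(6 7)(8 10)(9 11), x₂ = (0 1)(6 9)(7 10)(8 11), x₃ = (1 2)(6 11)(7 9)(8 10) (each written as a product of transpositions). Then the group M₁₂ generated by all eight permutations is sharply 5-transitive on the 12 points and has order 95040, and the group M₁₁ generated by the first seven has order 7920 and is the stabilizer of the point 2 in M₁₂. -/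
theorem result
    (s t u v w x₁ x₂ x₃ : Equiv.Perm (Fin 12))
    (hs : s = Equiv.swap (3 : Fin 12) 5 * Equiv.swap (3 : Fin 12) 4 * Equiv.swap (6 : Fin 12) 8 * Equiv.swap (6 : Fin 12) 7 * Equiv.swap (9 : Fin 12) 11 * Equiv.swap (9 : Fin 12) 10) (ht : t = Equiv.swap (3 : Fin 12) 9 * Equiv.swap (3 : Fin 12) 6 * Equiv.swap (4 : Fin 12) 10 * Equiv.swap (4 : Fin 12) 7 * Equiv.swap (5 : Fin 12) 11 * Equiv.swap (5 : Fin 12) 8)
    (hu : u = Equiv.swap (4 : Fin 12) 9 * Equiv.swap (4 : Fin 12) 5 * Equiv.swap (4 : Fin 12) 6 * Equiv.swap (7 : Fin 12) 10 * Equiv.swap (7 : Fin 12) 11 * Equiv.swap (7 : Fin 12) 8) (hv : v = Equiv.swap (4 : Fin 12) 11 * Equiv.swap (4 : Fin 12) 5 * Equiv.swap (4 : Fin 12) 7 * Equiv.swap (6 : Fin 12) 8 * Equiv.swap (6 : Fin 12) 9 * Equiv.swap (6 : Fin 12) 10) (hw : w = Equiv.swap (4 : Fin 12) 8 * Equiv.swap (4 : Fin 12) 5 * Equiv.swap (4 : Fin 12) 10 *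 Equiv.swap (6 : Fin 12) 7 * Equiv.swap (6 : Fin 12) 9 * Equiv.swap (6 : Fin 12) 11)
    (hx₁ : x₁ = Equiv.swap (0 : Fin 12) 3 * Equiv.swap (6 : Fin 12) 7 * Equiv.swap (8 : Fin 12) 10 * Equiv.swap (9 : Fin 12) 11) (hx₂ : x₂ = Equiv.swap (0 : Fin 12) 1 * Equiv.swap (6 : Fin 12) 9 * Equiv.swap (7 : Fin 12) 10 * Equiv.swap (8 : Fin 12) 11)
    (hx₃ : x₃ = Equiv.swap (1 : Fin 12) 2 * Equiv.swap (6 : Fin 12) 11 * Equiv.swap (7 : Fin 12) 9 * Equiv.swap (8 : Fin 12) 10)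
    (M₁₂ M₁₁ : Subgroup (Equiv.Perm (Fin 12))) (hM₁₂ : M₁₂ = Subgroup.closure {s, t, u, v, w, x₁, x₂, x₃})
    (hM₁₁ : M₁₁ = Subgroup.closure {s, t, u, v, w, x₁, x₂}) :
    MulAction.IsMultiplyPretransitive M₁₂ (Fin 12) 5 ∧ (∀ y : Fin 5 ↪ Fin 12, MulAction.stabilizer M₁₂ y = ⊥) ∧
    Nat.card M₁₂ = 95040 ∧ Nat.card M₁₁ = 7920 ∧
    M₁₁ = M₁₂ ⊓ MulAction.stabilizer (Equiv.Perm (Fin 12)) (2 : Fin 12) := by
  open Cfsg.Lib.M12Chain in
  have e : ∀ (p : Equiv.Perm (Fin 12)) (q : PP), (∀ x, p x = perm 12 q x) → p = perm 12 q :=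
    fun p q h => Equiv.ext h
  have es : s = perm 12 Cfsg.Lib.M12Chain.s := e _ _ (by subst hs; decide +kernel)
  have et : t = perm 12 Cfsg.Lib.M12Chain.t := e _ _ (by subst ht; decide +kernel)
  have eu : u = perm 12 Cfsg.Lib.M12Chain.u := e _ _ (by subst hu; decide +kernel)
  have ev : v = perm 12 Cfsg.Lib.M12Chain.v := e _ _ (by subst hv; decide +kernel)
  have ew : w = perm 12 Cfsg.Lib.M12Chain.w := e _ _ (by subst hw; decide +kernel)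
  have e1 : x₁ = perm 12 Cfsg.Lib.M12Chain.x1 := e _ _ (by subst hx₁; decide +kernel)
  have e2 : x₂ = perm 12 Cfsg.Lib.M12Chain.x2 := e _ _ (by subst hx₂; decide +kernel)
  have e3 : x₃ = perm 12 Cfsg.Lib.M12Chain.x3 := e _ _ (by subst hx₃; decide +kernel)
  have h12 : M₁₂ = Cfsg.Lib.M12Chain.G12 := by
    rw [hM₁₂, Cfsg.Lib.M12Chain.G12, Cfsg.Lib.M12Chain.closure_gens
      [Cfsg.Lib.M12Chain.s, Cfsg.Lib.M12Chain.t, Cfsg.Lib.M12Chain.u, Cfsg.Lib.M12Chain.v,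
        Cfsg.Lib.M12Chain.w, Cfsg.Lib.M12Chain.x1, Cfsg.Lib.M12Chain.x2, Cfsg.Lib.M12Chain.x3]
      Cfsg.Lib.M12Chain.m12Chain rfl, es, et, eu, ev, ew, e1, e2, e3]
    congr 1; ext g; simp only [List.map_cons, List.map_nil, List.mem_cons, List.not_mem_nil, or_false, Set.mem_insert_iff, Set.mem_singleton_iff, Set.mem_ofPred_eq]
  have h11 : M₁₁ = Cfsg.Lib.M12Chain.G11 := by
    rw [hM₁₁, Cfsg.Lib.M12Chain.G11, Cfsg.Lib.M12Chain.closure_gens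
      [Cfsg.Lib.M12Chain.s, Cfsg.Lib.M12Chain.t, Cfsg.Lib.M12Chain.u, Cfsg.Lib.M12Chain.v,
        Cfsg.Lib.M12Chain.w, Cfsg.Lib.M12Chain.x1, Cfsg.Lib.M12Chain.x2]
      (Cfsg.Lib.M12Chain.m12Chain.drop 1) rfl, es, et, eu, ev, ew, e1, e2]
    congr 1; ext g; simp only [List.map_cons, List.map_nil, List.mem_cons, List.not_mem_nil, or_false, Set.mem_insert_iff, Set.mem_singleton_iff, Set.mem_ofPred_eq]
  subst h12 h11
  exact ⟨Cfsg.Lib.M12Chain.pretransitive, Cfsg.Lib.M12Chain.stabilizer_eq_bot,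
    Cfsg.Lib.M12Chain.card_G12, Cfsg.Lib.M12Chain.card_G11, Cfsg.Lib.M12Chain.G11_eq⟩

end Cfsg.Agent.S3362
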