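import Cfsg.Statements.S3366
import Cfsg.Agent.Recognition.HeisSL.Main
import Cfsg.Agent.Classical.Symp.Matrix

set_option autoImplicit false
open Cfsg

namespace Cfsg.Agent.S3366

open Matrix Cfsg.Lib.HeisSL in
open scoped MatrixGroups in
theorem center_eq {F : Type*} [Field F] [Fintype F] (hF : Fintype.card F = 3)
    (z : symplecticGroup (Fin 2) F) (hz : z ∈ Subgroup.center (symplecticGroup (Fin 2) F)) :
    z = 1 ∨ (z : Matrix (Fin 2 ⊕ Fin 2) (Fin 2 ⊕ Fin 2) F) = -1 := by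
  have hneg : (-1 : Matrix (Fin 2 ⊕ Fin 2) (Fin 2 ⊕ Fin 2) F) ∈ symplecticGroup (Fin 2) F := by
    rw [SymplecticGroup.mem_iff]; simp
  have hc : (⟨-1, hneg⟩ : symplecticGroup (Fin 2) F) ∈ Subgroup.center (symplecticGroup (Fin 2) F) :=
    Subgroup.mem_center_iff.2 fun g => Subtype.ext (by simp)
  have h2 : Nat.card (Subgroup.center (symplecticGroup (Fin 2) F)) = 2 := by
    rw [Cfsg.Lib.Classical.card_center_symplecticGroup (by norm_num), Nat.card_eq_fintype_card, hF]; rfl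
  by_cases h1 : z = 1
  · exact Or.inl h1
  · right
    obtain ⟨y, -, hy⟩ := (Nat.card_eq_two_iff' (1 : Subgroup.center (symplecticGroup (Fin 2) F))).1 h2
    have e1 := hy ⟨z, hz⟩ (fun h => h1 (congrArg Subtype.val h))
    have e2 := hy ⟨⟨-1, hneg⟩, hc⟩ (fun h => by
      have := congrArg (fun w : Subgroup.center (symplecticGroup (Fin 2) F) =>
        ((w : symplecticGroup (Fin 2) F) : Matrix (Fin 2 ⊕ Fin 2) (Fin 2 ⊕ Fin 2) F) (.inl 0) (.inl 0)) h
      simp at this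
      haveI hch : CharP F 3 := (CharP.charP_iff_prime_eq_zero Nat.prime_three).2
        (by rw [← hF]; exact Nat.cast_card_eq_zero F)
      exact Ring.neg_one_ne_one_of_char_ne_two (by rw [ringChar.eq F 3]; norm_num) this)
    exact congrArg (fun w : Subgroup.center (symplecticGroup (Fin 2) F) =>
      ((w : symplecticGroup (Fin 2) F) : Matrix (Fin 2 ⊕ Fin 2) (Fin 2 ⊕ Fin 2) F)) (e1.trans e2.symm)

open Matrix Cfsg.Lib.HeisSL in
open scoped MatrixGroups in
theorem model_equiv {F : Type*} [Field F] [Fintype F] [CharP F 3] (hF : Fintype.card F = 3)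
    {X : Type*} [Group X] (Ψ : Mdl → X) (hΨ : Function.Bijective Ψ)
    (hmul : ∀ m n, Ψ (m * n) = Ψ m * Ψ n) :
    orderOf (QuotientGroup.mk (sp tv) : Cfsg.PSp 2 F) = 3 ∧
      Nonempty (X ≃* Subgroup.centralizer ({(QuotientGroup.mk (sp tv) : Cfsg.PSp 2 F)} : Set (Cfsg.PSp 2 F))) := by
  have htv : ∀ m : Mdl, m * tv = tv * m := fun m => by
    ext a b <;> simp [tv, add_comm]
  have h3 : (sp (F := F) tv) ^ 3 = 1 := by
    rw [pow_succ, pow_two, ← sp_mul, ← sp_mul, ← sp_one]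
    congr 1
    ext a b <;> simp [tv, Cfsg.Lib.HeisSL.one]
    all_goals decide
  have hne : sp (F := F) tv ≠ 1 := fun h => by
    rw [← sp_one] at h
    exact absurd (congrArg Mdl.z (sp_inj h)) (by decide)
  have hnc : (QuotientGroup.mk (sp tv) : Cfsg.PSp 2 F) ≠ 1 := fun h => by
    rcases center_eq hF _ ((QuotientGroup.eq_one_iff _).1 h) with h' | h'
    · exact hne h'
    · have e := congrArg (fun M : Matrix (Fin 2 ⊕ Fin 2) (Fin 2 ⊕ Fin 2) F => M (.inl 0) (.inl 0)) h'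
      simp [sp, mat, tv, Matrix.fromBlocks] at e
      exact Ring.neg_one_ne_one_of_char_ne_two (by rw [ringChar.eq F 3]; norm_num) e.symm
  refine ⟨orderOf_eq_prime (by rw [← QuotientGroup.mk_pow, h3, QuotientGroup.mk_one]) hnc, ?_⟩
  let Φ : X → Cfsg.PSp 2 F := fun x => QuotientGroup.mk (sp ((Equiv.ofBijective Ψ hΨ).symm x))
  have hΦ : ∀ m, Φ (Ψ m) = QuotientGroup.mk (sp m) := fun m => by
    show QuotientGroup.mk (sp ((Equiv.ofBijective Ψ hΨ).symm ((Equiv.ofBijective Ψ hΨ) m))) = _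
    rw [Equiv.symm_apply_apply]
  let Φh : X →* Cfsg.PSp 2 F := MonoidHom.mk' Φ (fun x y => by
    obtain ⟨m, rfl⟩ := hΨ.2 x
    obtain ⟨n, rfl⟩ := hΨ.2 y
    rw [← hmul, hΦ, hΦ, hΦ, sp_mul, QuotientGroup.mk_mul])
  have hinj : Function.Injective Φh := by
    intro x y h
    obtain ⟨m, rfl⟩ := hΨ.2 x
    obtain ⟨n, rfl⟩ := hΨ.2 y
    have h' : (QuotientGroup.mk (sp m) : Cfsg.PSp 2 F) = QuotientGroup.mk (sp n) := by
      rw [← hΦ, ← hΦ]; exact h
    rcases center_eq hF _ (QuotientGroup.eq.1 h') with e | e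
    · exact congrArg Ψ (sp_inj (inv_mul_eq_one.1 e))
    · have e2 : (sp (F := F) n : Matrix (Fin 2 ⊕ Fin 2) (Fin 2 ⊕ Fin 2) F) = -(sp (F := F) m : Matrix (Fin 2 ⊕ Fin 2) (Fin 2 ⊕ Fin 2) F) := by
        conv_lhs => rw [← mul_inv_cancel_left (sp (F := F) m) (sp (F := F) n), Submonoid.coe_mul]
        rw [e, mul_neg, mul_one]
      have e3 := congrArg (fun M : Matrix (Fin 2 ⊕ Fin 2) (Fin 2 ⊕ Fin 2) F => M (.inl 0) (.inl 0)) e2
      simp [sp, mat, Matrix.fromBlocks] at e3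
      exact absurd e3.symm (Ring.neg_one_ne_one_of_char_ne_two (by rw [ringChar.eq F 3]; norm_num))
  have hrange : Φh.range = Subgroup.centralizer {(QuotientGroup.mk (sp tv) : Cfsg.PSp 2 F)} := by
    apply le_antisymm
    · rintro _ ⟨x, rfl⟩
      obtain ⟨m, rfl⟩ := hΨ.2 x
      rw [Subgroup.mem_centralizer_singleton_iff]
      show Φ (Ψ m) * _ = _ * Φ (Ψ m)
      rw [hΦ, ← QuotientGroup.mk_mul, ← QuotientGroup.mk_mul, ← sp_mul, ← sp_mul, htv]
    · intro q hq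
      obtain ⟨g, rfl⟩ := QuotientGroup.mk_surjective q
      rw [Subgroup.mem_centralizer_singleton_iff, ← QuotientGroup.mk_mul, ← QuotientGroup.mk_mul,
        QuotientGroup.eq] at hq
      obtain ⟨w, hwdef⟩ : ∃ w, w = g * sp tv * g⁻¹ * (sp tv)⁻¹ := ⟨_, rfl⟩
      have hw : w ∈ Subgroup.center (symplecticGroup (Fin 2) F) := by
        have h := (inferInstance : (Subgroup.center (symplecticGroup (Fin 2) F)).Normal).conj_mem _ hq (sp tv * g)
        have e : sp tv * g * ((g * sp tv)⁻¹ * (sp tv * g)) * (sp tv * g)⁻¹ = w⁻¹ := by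
          rw [hwdef]; group
        rw [e] at h
        exact inv_mem_iff.1 h
      have hw2 : w * w = 1 := by
        rcases center_eq hF w hw with h | h
        · rw [h, one_mul]
        · apply Subtype.ext; rw [Submonoid.coe_mul, h]; simp
      have hwT : Commute w (sp tv) := (Subgroup.mem_center_iff.1 hw (sp tv)).symm
      have e : (w * sp tv) ^ 3 = 1 := by
        have : w * sp tv = g * sp tv * g⁻¹ := by rw [hwdef]; group
        rw [this, conj_pow, h3]; group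
      rw [hwT.mul_pow, h3, mul_one, pow_succ, pow_two, hw2, one_mul] at e
      have hcomm : g * sp tv = sp tv * g := by
        rw [e] at hwdef
        rw [eq_comm, mul_inv_eq_one, mul_inv_eq_iff_eq_mul] at hwdef
        exact hwdef
      obtain ⟨m, hm⟩ := exists_sp hF g hcomm
      refine ⟨Ψ m, ?_⟩
      show Φ (Ψ m) = _
      rw [hΦ]
      rcases hm with h | h
      · rw [show g = sp m from Subtype.ext h]
      · refine QuotientGroup.eq.2 ?_
        rw [Subgroup.mem_center_iff]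
        have e1 : ((((sp m)⁻¹ * g : symplecticGroup (Fin 2) F)) : Matrix (Fin 2 ⊕ Fin 2) (Fin 2 ⊕ Fin 2) F) = -1 := by
          rw [Submonoid.coe_mul, h, mul_neg, show mat (F := F) m = (sp (F := F) m : Matrix (Fin 2 ⊕ Fin 2) (Fin 2 ⊕ Fin 2) F) from rfl,
            ← Submonoid.coe_mul, inv_mul_cancel]
          simp
        intro k
        apply Subtype.ext
        show (k : Matrix (Fin 2 ⊕ Fin 2) (Fin 2 ⊕ Fin 2) F) * ((((sp m)⁻¹ * g : symplecticGroup (Fin 2) F)) : Matrix (Fin 2 ⊕ Fin 2) (Fin 2 ⊕ Fin 2) F) = ((((sp m)⁻¹ * g : symplecticGroup (Fin 2) F)) : Matrix (Fin 2 ⊕ Fin 2) (Fin 2 ⊕ Fin 2) F) * (k : Matrix (Fin 2 ⊕ Fin 2) (Fin 2 ⊕ Fin 2) F)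
        rw [e1]
        simp
  exact ⟨(MonoidHom.ofInjective hinj).trans (MulEquiv.subgroupCongr hrange)⟩

/-- Let X be a finite group with O₃(X) extraspecial of order 27 and exponent 3, X/O₃(X) isomorphic to SL(2,3), O₂(X) = 1, and a Sylow 3-subgroup of X containing an elementary abelian subgroup of order 27. Then X is isomorphic to the centralizer in PSp(4,3) of a 3-central element of order 3 (an element of order 3 in the centre of a Sylow 3-subgroup). -/
theorem result {X : Type*} [Group X] [Finite X]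
    (hR : Cfsg.IsExtraspecial 3 (Cfsg.pCore 3 X)) (hRcard : Nat.card (Cfsg.pCore 3 X) = 27)
    (hRexp : ∀ r ∈ Cfsg.pCore 3 X, r ^ 3 = 1)
    (e : X ⧸ Cfsg.pCore 3 X ≃* Matrix.SpecialLinearGroup (Fin 2) (ZMod 3))
    (hO2 : Cfsg.pCore 2 X = ⊥)
    (hE : ∃ E : Subgroup X, IsMulCommutative E ∧ (∀ a ∈ E, a ^ 3 = 1) ∧ Nat.card E = 27)
    (F : Type*) [Field F] [Fintype F] (hF : Fintype.card F = 3) :
    ∃ (c : Cfsg.PSp 2 F) (S : Sylow 3 (Cfsg.PSp 2 F)), orderOf c = 3 ∧ c ∈ (S : Subgroup (Cfsg.PSp 2 F)) ∧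
      c ∈ Subgroup.centralizer ((S : Subgroup (Cfsg.PSp 2 F)) : Set (Cfsg.PSp 2 F)) ∧
      Nonempty (X ≃* Subgroup.centralizer ({c} : Set (Cfsg.PSp 2 F))) := by
  classical
  haveI : Fact (Nat.Prime 3) := ⟨Nat.prime_three⟩
  haveI : CharP F 3 := (CharP.charP_iff_prime_eq_zero Nat.prime_three).2
    (by rw [← hF]; exact Nat.cast_card_eq_zero F)
  obtain ⟨⟨-, -, hder⟩, hZ⟩ := hR
  haveI : Nontrivial (Subgroup.center (Cfsg.pCore 3 X)) := Finite.one_lt_card_iff_nontrivial.1 (by rw [hZ]; norm_num)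
  obtain ⟨z₀, hz₀⟩ := exists_ne (1 : Subgroup.center (Cfsg.pCore 3 X))
  obtain ⟨c₀, hc₀⟩ : ∃ c₀ : X, c₀ = ((z₀ : Cfsg.pCore 3 X) : X) := ⟨_, rfl⟩
  have hc3 : c₀ ^ 3 = 1 := hRexp c₀ (hc₀ ▸ (z₀ : Cfsg.pCore 3 X).2)
  have hgen : ∀ w : Cfsg.pCore 3 X, w ∈ Subgroup.center (Cfsg.pCore 3 X) →
      ∃ k : ZMod 3, (w : X) = Cfsg.Lib.HeisSL.pw c₀ k := by
    intro w hw
    obtain ⟨n, hn⟩ := mem_powers_of_prime_card (g := z₀) (g' := ⟨w, hw⟩) hZ hz₀
    refine ⟨(n : ZMod 3), ?_⟩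
    rw [Cfsg.Lib.HeisSL.pw_natCast hc3, hc₀]
    exact (congrArg (fun v : Subgroup.center (Cfsg.pCore 3 X) => ((v : Cfsg.pCore 3 X) : X)) hn).symm
  have P : Cfsg.Lib.HeisSL.Shape (Cfsg.pCore 3 X) c₀ := {
    nR := inferInstance
    cardR := hRcard
    exp := hRexp
    cmem := hc₀ ▸ (z₀ : Cfsg.pCore 3 X).2
    cne := fun h => hz₀ (Subtype.ext (Subtype.ext (hc₀ ▸ h)))
    cen := fun r hr => by
      rw [hc₀]
      exact (congrArg Subtype.val (Subgroup.mem_center_iff.1 z₀.2 ⟨r, hr⟩)).symm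
    ctr := fun z hz h => hgen ⟨z, hz⟩ (Subgroup.mem_center_iff.2 fun r => Subtype.ext (h r r.2).symm)
    der := fun r hr s hs => by
      refine hgen ⟨r * s * r⁻¹ * s⁻¹, mul_mem (mul_mem (mul_mem hr hs) (inv_mem hr)) (inv_mem hs)⟩ ?_
      rw [← hder]
      exact Subgroup.commutator_mem_commutator (Subgroup.mem_top (⟨r, hr⟩ : Cfsg.pCore 3 X))
        (Subgroup.mem_top ⟨s, hs⟩) }
  let π : X →* Matrix.SpecialLinearGroup (Fin 2) (ZMod 3) := e.toMonoidHom.comp (QuotientGroup.mk' (Cfsg.pCore 3 X))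
  have hker : π.ker = Cfsg.pCore 3 X := by
    ext x
    simp [π, MonoidHom.mem_ker]
  have hsurj : Function.Surjective π := e.surjective.comp (QuotientGroup.mk'_surjective _)
  have hO2' : ∀ s : X, s * s = 1 → (∀ g, g * s = s * g) → s = 1 := by
    intro s hs2 hs
    have hn : (Subgroup.zpowers s).Normal := ⟨fun y hy g => by
      obtain ⟨k, rfl⟩ := Subgroup.mem_zpowers_iff.1 hy
      rw [((Commute.zpow_right (show Commute g s from hs g) k)).eq, mul_inv_cancel_right]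
      exact hy⟩
    have hp : IsPGroup 2 (Subgroup.zpowers s) := fun y => ⟨1, by
      obtain ⟨k, hk⟩ := Subgroup.mem_zpowers_iff.1 y.2
      apply Subtype.ext
      rw [Subgroup.coe_pow, ← hk, pow_one, sq, ← zpow_add, ← two_mul, zpow_mul, zpow_two, hs2, one_zpow]
      rfl⟩
    have h : Subgroup.zpowers s ≤ Cfsg.pCore 2 X := le_sSup ⟨hn, hp⟩
    rw [hO2, le_bot_iff, Subgroup.zpowers_eq_bot] at h
    exact h
  have hnab : ∃ r ∈ Cfsg.pCore 3 X, ∃ s ∈ Cfsg.pCore 3 X, r * s ≠ s * r := by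
    by_contra h
    push_neg at h
    have : Subgroup.center (Cfsg.pCore 3 X) = ⊤ := eq_top_iff.2 fun w _ =>
      Subgroup.mem_center_iff.2 fun r => Subtype.ext (h r r.2 w w.2)
    rw [this, Subgroup.card_top, hRcard] at hZ
    norm_num at hZ
  obtain ⟨Ψ, hΨ, hmul⟩ := P.exists_iso π hker hsurj hO2' hE hnab
  obtain ⟨ho, ⟨E'⟩⟩ := model_equiv hF Ψ hΨ hmul
  obtain ⟨c, hc⟩ : ∃ c : Cfsg.PSp 2 F, c = QuotientGroup.mk (Cfsg.Lib.HeisSL.sp Cfsg.Lib.HeisSL.tv) := ⟨_, rfl⟩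
  rw [← hc] at ho E'
  have hX : Nat.card X = 648 := by
    rw [Subgroup.card_eq_card_quotient_mul_card_subgroup (Cfsg.pCore 3 X), Nat.card_congr e.toEquiv,
      Cfsg.Lib.HeisSL.card_sl, hRcard]
  have hC : Nat.card (Subgroup.centralizer ({c} : Set (Cfsg.PSp 2 F))) = 648 := by
    rw [← hX, Nat.card_congr E'.toEquiv]
  have hG : Nat.card (Cfsg.PSp 2 F) = 25920 := by
    have h := Subgroup.card_eq_card_quotient_mul_card_subgroup (Subgroup.center (Matrix.symplecticGroup (Fin 2) F))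
    rw [Cfsg.Lib.Classical.card_symplecticGroup, Cfsg.Lib.Classical.card_center_symplecticGroup (by norm_num),
      Nat.card_eq_fintype_card (α := F), hF] at h
    norm_num [Finset.prod_range_succ] at h
    show Nat.card (Cfsg.PSp 2 F) = 25920
    rw [show Cfsg.PSp 2 F = (Matrix.symplecticGroup (Fin 2) F ⧸ Subgroup.center (Matrix.symplecticGroup (Fin 2) F)) from rfl]
    rw [Nat.card_eq_fintype_card]
    omega
  let c' : Subgroup.centralizer ({c} : Set (Cfsg.PSp 2 F)) :=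
    ⟨c, Subgroup.mem_centralizer_singleton_iff.2 rfl⟩
  have hc' : IsPGroup 3 (Subgroup.zpowers c') := IsPGroup.of_card (n := 1) (by
    rw [Nat.card_zpowers, pow_one, ← Subgroup.orderOf_coe]
    exact ho)
  obtain ⟨P₀, hP₀⟩ := hc'.exists_le_sylow
  have h81 : 3 ^ 4 ∣ Nat.card (P₀ : Subgroup (Subgroup.centralizer ({c} : Set (Cfsg.PSp 2 F)))) :=
    P₀.pow_dvd_card_of_pow_dvd_card (by rw [hC]; norm_num)
  obtain ⟨S, hS⟩ := (P₀.2.map (Subgroup.centralizer ({c} : Set (Cfsg.PSp 2 F))).subtype).exists_le_sylow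
  have hSle : (S : Subgroup (Cfsg.PSp 2 F)) = P₀.1.map (Subgroup.centralizer ({c} : Set (Cfsg.PSp 2 F))).subtype := by
    refine (Subgroup.eq_of_le_of_card_ge hS ?_).symm
    rw [Subgroup.card_map_of_injective (Subgroup.subtype_injective _)]
    obtain ⟨k, hk⟩ := IsPGroup.iff_card.1 S.2
    have hd : 3 ^ k ∣ 25920 := hk ▸ hG ▸ Subgroup.card_subgroup_dvd_card _
    have hk4 : k ≤ 4 := by
      by_contra hlt
      exact absurd ((pow_dvd_pow 3 (show 5 ≤ k by omega)).trans hd) (by norm_num)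
    rw [hk]
    exact (Nat.pow_le_pow_right (by norm_num) hk4).trans (Nat.le_of_dvd Nat.card_pos h81)
  refine ⟨c, S, ho, ?_, ?_, ⟨E'⟩⟩
  · rw [hSle]
    exact ⟨c', hP₀ (Subgroup.mem_zpowers c'), rfl⟩
  · rw [Subgroup.mem_centralizer_iff]
    intro y hy
    rw [SetLike.mem_coe, hSle] at hy
    obtain ⟨y', -, rfl⟩ := hy
    exact Subgroup.mem_centralizer_singleton_iff.1 y'.2

end Cfsg.Agent.S3366
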