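import Mathlib
import Cfsg.Statements.S3375
-- import your own Cfsg.Agent.* helpers here

set_option autoImplicit false
open Cfsg

namespace Cfsg.Agent.S3375

/-- Let γ be an automorphism of order 2 of a finite group H. (i) If γ fixes only the identity, then H is abelian and γ inverts every element. (ii) If γ has exactly two fixed points and H has a subgroup of index 2, then H has a γ-invariant abelian subgroup of index 2 on which γ acts by inversion. -/
theorem result {H : Type*} [Group H] [Finite H] (γ : MulAut H) (hγ : orderOf γ = 2) :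
    ((∀ h : H, γ h = h → h = 1) → (∀ a b : H, a * b = b * a) ∧ ∀ h : H, γ h = h⁻¹) ∧
    ((Nat.card {h : H // γ h = h} = 2 ∧ ∃ M : Subgroup H, M.index = 2) →
      ∃ A : Subgroup H, A.index = 2 ∧ IsMulCommutative A ∧ (∀ a ∈ A, γ a ∈ A) ∧ ∀ a ∈ A, γ a = a⁻¹) := by
  classical
  haveI := Fintype.ofFinite H
  have hinv : ∀ h, γ (γ h) = h := fun h => by
    have e := DFunLike.congr_fun (show γ ^ 2 = 1 by rw [← hγ]; exact pow_orderOf_eq_one γ) h
    rwa [sq, MulAut.mul_apply, MulAut.one_apply] at e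
  have hfpf : ∀ (K : Type u_1) [Group K] [Finite K] (δ : K →* K), (∀ h, δ (δ h) = h) → (∀ h, δ h = h → h = 1) →
      (∀ a b : K, a * b = b * a) ∧ ∀ h, δ h = h⁻¹ := by
    intro K _ _ δ hi hf
    have hF : MonoidHom.FixedPointFree δ := hf
    have he := hF.coe_eq_inv_of_involutive hi
    refine ⟨fun a b => ?_, fun h => congrFun he h⟩
    have hab := δ.map_mul a b
    simp only [he, mul_inv_rev] at hab
    have := congrArg (·⁻¹) hab
    simpa [mul_inv_rev] using this
  refine ⟨fun hf => hfpf H γ.toMonoidHom hinv hf, ?_⟩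
  rintro ⟨hcard, M₀, hM₀⟩
  -- an invariant subgroup of index two
  obtain ⟨M, hM2, hMγ⟩ : ∃ M : Subgroup H, M.index = 2 ∧ ∀ x, x ∈ M → γ x ∈ M := by
    by_cases hall : ∀ x, x ∈ M₀ ↔ γ x ∈ M₀
    · exact ⟨M₀, hM₀, fun x hx => (hall x).mp hx⟩
    push Not at hall
    obtain ⟨a, ha⟩ := hall
    let M : Subgroup H :=
      { carrier := {x | x ∈ M₀ ↔ γ x ∈ M₀}
        one_mem' := by simp
        mul_mem' := fun {x y} hx hy => by
          simp only [Set.mem_setOf_eq, map_mul] at hx hy ⊢
          rw [Subgroup.mul_mem_iff_of_index_two hM₀, Subgroup.mul_mem_iff_of_index_two hM₀, hx, hy]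
        inv_mem' := fun {x} hx => by
          simp only [Set.mem_setOf_eq, map_inv, inv_mem_iff] at hx ⊢
          exact hx }
    refine ⟨M, Subgroup.index_eq_two_iff.mpr ⟨a, fun b => ?_⟩, fun x hx => ?_⟩
    · show Xor' (b * a ∈ M₀ ↔ γ (b * a) ∈ M₀) (b ∈ M₀ ↔ γ b ∈ M₀)
      rw [map_mul, Subgroup.mul_mem_iff_of_index_two hM₀, Subgroup.mul_mem_iff_of_index_two hM₀]
      unfold Xor'; tauto
    · show γ x ∈ M₀ ↔ γ (γ x) ∈ M₀
      rw [hinv]; exact Iff.symm hx
  -- the two fixed points
  set F := Finset.univ.filter fun h : H => γ h = h with hFdef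
  have hF2 : F.card = 2 := by
    rw [hFdef, ← Fintype.card_subtype, ← Nat.card_eq_fintype_card]; exact hcard
  by_cases hz : ∀ h, γ h = h → h ∈ M
  · -- every element of `M` is a quotient `x⁻¹ γ x`
    set I := Finset.univ.image fun x : H => x⁻¹ * γ x with hI
    have hIM : I ⊆ Finset.univ.filter (· ∈ M) := fun y hy => by
      obtain ⟨x, -, rfl⟩ := Finset.mem_image.mp hy
      refine Finset.mem_filter.mpr ⟨Finset.mem_univ _, ?_⟩
      rw [Subgroup.mul_mem_iff_of_index_two hM2, inv_mem_iff]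
      exact ⟨hMγ x, fun h => by rw [← hinv x]; exact hMγ _ h⟩
    have hle := Finset.card_le_mul_card_image (f := fun x : H => x⁻¹ * γ x) Finset.univ 2 (fun y hy => by
      obtain ⟨x, -, hxy⟩ := Finset.mem_image.mp hy
      rw [← hF2]
      refine Finset.card_le_card_of_injOn (fun u => u * x⁻¹) (fun u hu => ?_) (fun u _ v _ h => mul_right_cancel h)
      simp only [Finset.coe_filter, Finset.mem_univ, true_and, Set.mem_setOf_eq, hFdef] at hu ⊢
      rw [map_mul, map_inv]
      have e : γ u = u * x⁻¹ * γ x := by rw [mul_assoc, hxy, ← hu, mul_inv_cancel_left]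
      rw [e, mul_inv_cancel_right])
    rw [Finset.card_univ, ← hI, ← Nat.card_eq_fintype_card] at hle
    have hMc : (Finset.univ.filter (· ∈ M)).card = Nat.card M := by
      rw [Nat.card_eq_fintype_card, Fintype.card_subtype]
    have hidx := M.card_mul_index
    rw [hM2] at hidx
    have heq := Finset.eq_of_subset_of_card_le hIM (by omega)
    have hM' : ∀ a ∈ M, γ a = a⁻¹ := fun a ha => by
      have : a ∈ I := heq ▸ Finset.mem_filter.mpr ⟨Finset.mem_univ _, ha⟩
      obtain ⟨x, -, rfl⟩ := Finset.mem_image.mp this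
      rw [map_mul, map_inv, hinv, mul_inv_rev, inv_inv]
    refine ⟨M, hM2, ⟨⟨fun a b => Subtype.ext ?_⟩⟩, fun a ha => hMγ a ha, hM'⟩
    have hab := map_mul γ (a : H) b
    rw [hM' _ (mul_mem a.2 b.2), hM' _ a.2, hM' _ b.2, ← mul_inv_rev, inv_inj] at hab
    exact hab
  · push Not at hz
    obtain ⟨z, hzf, hzM⟩ := hz
    let δ : M →* M := (γ.toMonoidHom.comp M.subtype).codRestrict M fun x => hMγ x x.2
    obtain ⟨hc, hi⟩ := hfpf M δ (fun h => Subtype.ext (hinv h)) (fun h hh => by
      by_contra h1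
      have hsub : ({1, z, (h : H)} : Finset H) ⊆ F := fun w hw => by
        simp only [Finset.mem_insert, Finset.mem_singleton] at hw
        refine Finset.mem_filter.mpr ⟨Finset.mem_univ _, ?_⟩
        rcases hw with rfl | rfl | rfl
        exacts [map_one γ, hzf, congrArg Subtype.val hh]
      have h3 : ({1, z, (h : H)} : Finset H).card = 3 := Finset.card_eq_three.mpr ⟨1, z, h,
        fun e => hzM (e ▸ M.one_mem), fun e => h1 (Subtype.ext e.symm), fun e => hzM (e ▸ h.2), rfl⟩
      have := Finset.card_le_card hsub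
      omega)
    exact ⟨M, hM2, ⟨⟨hc⟩⟩, fun a ha => hMγ a ha, fun a ha => congrArg Subtype.val (hi ⟨a, ha⟩)⟩

end Cfsg.Agent.S3375
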