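import Cfsg.Agent.Presentations.BinaryIcosahedral
import Mathlib
import Cfsg.Statements.S3377
-- import your own Cfsg.Agent.* helpers here

set_option autoImplicit false
open Cfsg

namespace Cfsg.Agent.S3377

/-- The alternating group of degree 5 has the presentation ⟨x, y | x³ = 1, y⁵ = 1, (xy)² = 1⟩: the group so presented is isomorphic to Alt(5). -/
theorem result :
    Nonempty (PresentedGroup ({FreeGroup.of (0 : Fin 2) ^ 3, FreeGroup.of (1 : Fin 2) ^ 5,
        (FreeGroup.of (0 : Fin 2) * FreeGroup.of 1) ^ 2} : Set (FreeGroup (Fin 2))) ≃* alternatingGroup (Fin 5)) := by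
  haveI := Fact.mk (show Nat.Prime 3 by norm_num)
  haveI := Fact.mk (show Nat.Prime 5 by norm_num)
  haveI := Fact.mk Nat.prime_two
  haveI : IsSimpleGroup (alternatingGroup (Fin 5)) := alternatingGroup.isSimpleGroup (by simp)
  let sa : alternatingGroup (Fin 5) := ⟨Equiv.swap 0 1 * Equiv.swap 1 2, Equiv.Perm.mem_alternatingGroup.mpr (by decide +kernel)⟩
  let sb : alternatingGroup (Fin 5) := ⟨finRotate 5 ^ 2, Equiv.Perm.mem_alternatingGroup.mpr (by decide +kernel)⟩
  have hsa : sa ^ 3 = 1 := by decide +kernel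
  have hsb : sb ^ 5 = 1 := by decide +kernel
  have hsab : (sa * sb) ^ 2 = 1 := by decide +kernel
  have hrels : ∀ r ∈ Cfsg.Lib.Presentations.icosaRels, FreeGroup.lift ![sa, sb] r = 1 := by
    intro r hr
    simp only [Cfsg.Lib.Presentations.icosaRels, Set.mem_insert_iff, Set.mem_singleton_iff] at hr
    rcases hr with rfl | rfl | rfl <;> simp [hsa, hsb, hsab]
  let φ := PresentedGroup.toGroup hrels
  have hsur : Function.Surjective φ := by
    rw [← MonoidHom.range_eq_top]
    have ha : sa ∈ φ.range := ⟨PresentedGroup.of 0, PresentedGroup.toGroup.of hrels⟩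
    have hb : sb ∈ φ.range := ⟨PresentedGroup.of 1, PresentedGroup.toGroup.of hrels⟩
    have hc60 : Nat.card (alternatingGroup (Fin 5)) = 60 := by rw [nat_card_alternatingGroup, Nat.card_fin]; rfl
    have d3 : 3 ∣ Nat.card φ.range := by
      have h := Subgroup.orderOf_dvd_natCard φ.range ha
      rwa [orderOf_eq_prime hsa (by decide +kernel)] at h
    have d5 : 5 ∣ Nat.card φ.range := by
      have h := Subgroup.orderOf_dvd_natCard φ.range hb
      rwa [orderOf_eq_prime hsb (by decide +kernel)] at h
    have d2 : 2 ∣ Nat.card φ.range := by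
      have h := Subgroup.orderOf_dvd_natCard φ.range (mul_mem ha hb)
      rwa [orderOf_eq_prime hsab (by decide +kernel)] at h
    obtain ⟨k, hk⟩ : 30 ∣ Nat.card φ.range := Nat.Coprime.mul_dvd_of_dvd_of_dvd (show Nat.Coprime 15 2 by norm_num)
      (Nat.Coprime.mul_dvd_of_dvd_of_dvd (show Nat.Coprime 3 5 by norm_num) d3 d5) d2
    have hm := φ.range.card_mul_index
    rw [hc60, hk] at hm
    by_contra hne
    have hidx : φ.range.index = 2 := by
      have h1 := Subgroup.one_lt_index_of_ne_top hne
      have h2 : k * φ.range.index = 2 := by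
        have : 30 * (k * φ.range.index) = 30 * 2 := by rw [← mul_assoc, hm]
        omega
      have h3 := Nat.le_of_dvd (by norm_num) (Dvd.intro_left k h2)
      omega
    rcases (Subgroup.normal_of_index_eq_two hidx).eq_bot_or_eq_top with h | h
    · rw [h, Subgroup.index_bot, hc60] at hidx; norm_num at hidx
    · exact hne h
  obtain ⟨hfin, hle⟩ := Cfsg.Lib.Presentations.icosa_card
  haveI := hfin
  exact ⟨MulEquiv.ofBijective φ (hsur.bijective_of_nat_card_le (by rw [nat_card_alternatingGroup, Nat.card_fin]; exact hle))⟩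

end Cfsg.Agent.S3377
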