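import Mathlib.GroupTheory.SpecificGroups.ZGroup
import Mathlib
import Cfsg.Statements.S3379
-- import your own Cfsg.Agent.* helpers here

set_option autoImplicit false
open Cfsg

namespace Cfsg.Agent.S3379

/-- Let G be a finite group all of whose Sylow subgroups are cyclic. Then G is generated by two elements x and y of coprime orders n and m with x⁻¹yx = y^r, where gcd(r − 1, m) = 1 and r^n ≡ 1 (mod m). -/
theorem result {G : Type*} [Group G] [Finite G]
    (hZ : ∀ (p : ℕ) [Fact p.Prime] (P : Sylow p G), IsCyclic (P : Subgroup G)) :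
    ∃ (x y : G) (n m r : ℕ), Subgroup.closure {x, y} = ⊤ ∧ orderOf x = n ∧ orderOf y = m ∧
      x⁻¹ * y * x = y ^ r ∧ Nat.Coprime (r - 1) m ∧ Nat.Coprime n m ∧ 1 ≤ r ∧ r ^ n % m = 1 % m := by
  classical
  haveI : IsZGroup G := ⟨fun p hp P => by haveI := Fact.mk hp; exact hZ p P⟩
  obtain ⟨K, hK⟩ := Subgroup.exists_right_complement'_of_coprime (IsZGroup.coprime_commutator_index G)
  have hKc : IsCyclic K := by
    haveI : IsCyclic (G ⧸ commutator G) := inferInstanceAs (IsCyclic (Abelianization G))
    exact isCyclic_of_surjective hK.symm.QuotientMulEquiv hK.symm.QuotientMulEquiv.surjective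
  have hNc : IsCyclic (commutator G) := IsZGroup.isCyclic_commutator G
  obtain ⟨x₀, hx₀⟩ := IsCyclic.exists_generator (α := K)
  obtain ⟨y₀, hy₀⟩ := IsCyclic.exists_generator (α := commutator G)
  set x : G := (x₀ : G) with hxdef
  set y : G := (y₀ : G) with hydef
  have hxn : orderOf x = Nat.card K := by rw [hxdef, Subgroup.orderOf_coe, orderOf_eq_card_of_forall_mem_zpowers hx₀]
  have hym : orderOf y = Nat.card (commutator G) := by rw [hydef, Subgroup.orderOf_coe, orderOf_eq_card_of_forall_mem_zpowers hy₀]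
  have hNy : ∀ g ∈ commutator G, g ∈ Subgroup.zpowers y := fun g hg => by
    obtain ⟨k, hk⟩ := Subgroup.mem_zpowers_iff.mp (hy₀ ⟨g, hg⟩)
    exact ⟨k, (SubgroupClass.coe_zpow y₀ k).symm.trans (congrArg Subtype.val hk)⟩
  have hcl : Subgroup.closure {x, y} = ⊤ := by
    rw [eq_top_iff, ← hK.sup_eq_top]
    refine sup_le (fun g hg => ?_) (fun g hg => ?_)
    · have hyc : y ∈ Subgroup.closure ({x, y} : Set G) := Subgroup.subset_closure (Set.mem_insert_of_mem x (Set.mem_singleton y))
      exact (Subgroup.zpowers_le (g := y)).mpr hyc (hNy g hg)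
    · obtain ⟨k, hk⟩ := Subgroup.mem_zpowers_iff.mp (hx₀ ⟨g, hg⟩)
      have hgk : x ^ k = g := (SubgroupClass.coe_zpow x₀ k).symm.trans (congrArg Subtype.val hk)
      rw [← hgk]
      exact zpow_mem (Subgroup.subset_closure (Set.mem_insert _ _)) k
  obtain ⟨k, hk⟩ := (isOfFinOrder_of_finite y).mem_powers_iff_mem_zpowers.mpr
    (hNy _ ((inferInstance : (commutator G).Normal).conj_mem' y y₀.2 x))
  simp only at hk
  obtain ⟨r, hr1, hr⟩ : ∃ r, 1 ≤ r ∧ x⁻¹ * y * x = y ^ r := by
    rcases Nat.eq_zero_or_pos k with rfl | hk0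
    · exact ⟨orderOf y, orderOf_pos y, by rw [← hk, pow_orderOf_eq_one, pow_zero]⟩
    · exact ⟨k, hk0, hk.symm⟩
  set n := orderOf x with hn
  set m := orderOf y with hm
  refine ⟨x, y, n, m, r, hcl, rfl, rfl, hr, ?_, ?_, hr1, ?_⟩
  · set z := y ^ (r - 1) with hz
    set D := Subgroup.zpowers z with hD
    have hzy : Commute z y := (Commute.refl y).pow_left _
    have hzx : x⁻¹ * z * x = z ^ r := by
      rw [hz, show x⁻¹ * y ^ (r - 1) * x = (x⁻¹ * y * x) ^ (r - 1) by
        rw [show x⁻¹ * y * x = x⁻¹ * y * x⁻¹⁻¹ by rw [inv_inv], conj_pow, inv_inv], hr, ← pow_mul, ← pow_mul, mul_comm]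
    haveI hDn : D.Normal := by
      rw [← Subgroup.normalizer_eq_top_iff, eq_top_iff, ← hcl, Subgroup.closure_le]
      rintro g (rfl | rfl)
      · have h1 : D.map (MulAut.conj x⁻¹).toMonoidHom ≤ D := by
          rw [hD, MonoidHom.map_zpowers, Subgroup.zpowers_le]
          show (MulAut.conj x⁻¹) z ∈ D
          rw [MulAut.conj_apply, inv_inv, hzx]
          exact pow_mem (Subgroup.mem_zpowers z) r
        have h2 := Subgroup.eq_of_le_of_card_ge h1 (le_of_eq (Nat.card_congr (Subgroup.equivMapOfInjective D _ (MulAut.conj x⁻¹).injective).toEquiv))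
        have h3 : x⁻¹ ∈ Subgroup.normalizer (D : Set G) := Subgroup.mem_normalizer_iff.mpr fun a => by
          constructor
          · intro ha; exact h2.le ⟨a, ha, by simp⟩
          · intro ha
            obtain ⟨b, hb, hba⟩ := h2.ge ha
            have : b = a := (MulAut.conj x⁻¹).injective (hba.trans (by simp))
            exact this ▸ hb
        simpa using inv_mem h3
      · refine Subgroup.mem_normalizer_iff.mpr fun a => ?_
        have key : ∀ b ∈ D, y * b * y⁻¹ = b := fun b hb => by
          obtain ⟨j, rfl⟩ := Subgroup.mem_zpowers_iff.mp hb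
          rw [(hzy.zpow_left j).symm.eq, mul_inv_cancel_right]
        refine ⟨fun ha => by rw [key a ha]; exact ha, fun ha => ?_⟩
        have h1 := key _ ha
        have h2 : y * a * y⁻¹ = a := mul_left_cancel (mul_right_cancel (h1 : y * (y * a * y⁻¹) * y⁻¹ = y * a * y⁻¹))
        rwa [h2] at ha
    have hcomm : ∀ a b : G, (QuotientGroup.mk' D a) * (QuotientGroup.mk' D b) = (QuotientGroup.mk' D b) * (QuotientGroup.mk' D a) := by
      have hxy : Commute (QuotientGroup.mk' D x) (QuotientGroup.mk' D y) := by
        have h1 : QuotientGroup.mk' D (x⁻¹ * y * x * y⁻¹) = 1 := by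
          refine (QuotientGroup.eq_one_iff _).mpr ?_
          rw [hr, show y ^ r * y⁻¹ = y ^ (r - 1) by
            conv_lhs => rw [← Nat.sub_add_cancel hr1, pow_succ, mul_inv_cancel_right]]
          exact Subgroup.mem_zpowers z
        rw [map_mul, map_mul, map_mul, map_inv, map_inv, mul_inv_eq_one, mul_assoc, inv_mul_eq_iff_eq_mul] at h1
        exact h1.symm
      have hgen : ∀ a, ∀ c ∈ ({x, y} : Set G), Commute (QuotientGroup.mk' D a) (QuotientGroup.mk' D c) := by
        intro a c hc
        have ha : a ∈ Subgroup.closure {x, y} := hcl ▸ Subgroup.mem_top a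
        induction ha using Subgroup.closure_induction with
        | mem b hb => rcases hb with rfl | rfl <;> rcases hc with rfl | rfl <;> first | exact hxy | exact hxy.symm | exact Commute.refl _
        | one => rw [map_one]; exact Commute.one_left _
        | mul b d _ _ hb hd => rw [map_mul]; exact hb.mul_left hd
        | inv b _ hb => rw [map_inv]; exact hb.inv_left
      intro a b
      have hb : b ∈ Subgroup.closure {x, y} := hcl ▸ Subgroup.mem_top b
      refine (show Commute (QuotientGroup.mk' D a) (QuotientGroup.mk' D b) from ?_)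
      induction hb using Subgroup.closure_induction with
      | mem c hc => exact hgen a c hc
      | one => rw [map_one]; exact Commute.one_right _
      | mul b d _ _ hb hd => rw [map_mul]; exact hb.mul_right hd
      | inv b _ hb => rw [map_inv]; exact hb.inv_right
    have hND : commutator G ≤ D := by
      rw [commutator_def, Subgroup.commutator_le]
      intro a _ b _
      refine (QuotientGroup.eq_one_iff _).mp ?_
      rw [← QuotientGroup.mk'_apply, map_commutatorElement, commutatorElement_eq_one_iff_mul_comm]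
      exact hcomm a b
    have h1 : m ∣ orderOf z := by
      rw [hym, ← Nat.card_zpowers]
      exact Subgroup.card_dvd_of_le hND
    have h2 : orderOf z = m := Nat.dvd_antisymm (orderOf_pow_dvd _) h1
    rw [hz, orderOf_pow, ← hm] at h2
    have hm0 : 0 < m := orderOf_pos y
    rcases Nat.div_eq_self.mp h2 with h3 | h3
    · omega
    · rw [Nat.coprime_comm]; exact h3
  · rw [hxn, hym, Nat.coprime_comm]
    exact hK.symm.index_eq_card ▸ IsZGroup.coprime_commutator_index G
  · have h1 : ∀ j : ℕ, (x ^ j)⁻¹ * y * x ^ j = y ^ (r ^ j) := by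
      intro j
      induction j with
      | zero => simp
      | succ j ih =>
        calc (x ^ (j + 1))⁻¹ * y * x ^ (j + 1) = x⁻¹ * ((x ^ j)⁻¹ * y * x ^ j) * x := by rw [pow_succ]; group
          _ = (x⁻¹ * y * x⁻¹⁻¹) ^ (r ^ j) := by rw [ih, conj_pow, inv_inv]
          _ = y ^ (r ^ (j + 1)) := by rw [inv_inv, hr, ← pow_mul, ← pow_succ']
    have h2 := h1 n
    rw [hn, pow_orderOf_eq_one, inv_one, one_mul, mul_one] at h2
    exact pow_eq_pow_iff_modEq.mp (h2.symm.trans (pow_one y).symm)

end Cfsg.Agent.S3379
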