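import Cfsg.Agent.Elementary.AutTwoGroupFixed
import Mathlib
import Cfsg.Statements.S3382
-- import your own Cfsg.Agent.* helpers here

set_option autoImplicit false
open Cfsg

namespace Cfsg.Agent.S3382

attribute [-simp] ZMod.inv_coe_unit
set_option maxHeartbeats 1000000

/-- Let q = 2^m + 1 be a prime other than 5. Then the automorphism group of the group of linear maps of F_q² of the forms (x, y) ↦ (a x, ± a⁻¹ y) and (x, y) ↦ (± a⁻¹ y, a x) with a ≠ 0 is itself a 2-group. -/
theorem result (q m : ℕ) [Fact q.Prime] (hq : q = 2 ^ m + 1) (hq5 : q ≠ 5)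
    (T : Subgroup ((Fin 2 → ZMod q) ≃ₗ[ZMod q] (Fin 2 → ZMod q)))
    (hT : ∀ f, f ∈ T ↔ ∃ a s : ZMod q, a ≠ 0 ∧ (s = 1 ∨ s = -1) ∧
      ((∀ v, f v = ![a * v 0, s * a⁻¹ * v 1]) ∨ (∀ v, f v = ![s * a⁻¹ * v 1, a * v 0]))) :
    IsPGroup 2 (MulAut T) := by
  classical
  haveI : NeZero q := ⟨(Fact.out : q.Prime).ne_zero⟩
  by_cases hq2 : q = 2
  · subst hq2
    have h2 : ∀ f : T, f = 1 ∨ ∀ v, f.1 v = ![v 1, v 0] := by
      intro f
      obtain ⟨a, s, ha, hs, h⟩ := (hT f.1).mp f.2
      have ha1 : a = 1 := by revert ha; fin_cases a <;> first | (intro h; exact absurd rfl h) | (intro; rfl)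
      have hs1 : s = 1 := by rcases hs with rfl | rfl <;> [rfl; exact ZMod.neg_eq_self_mod_two 1]
      subst ha1 hs1
      rcases h with h | h
      · left; refine Subtype.ext (LinearEquiv.ext fun v => ?_)
        show f.1 v = v
        rw [h]; funext i; fin_cases i <;> simp
      · right; intro v; rw [h]; simp
    haveI : Finite T := Finite.of_injective (fun f => (f.1 : (Fin 2 → ZMod 2) → (Fin 2 → ZMod 2))) fun f g e => Subtype.ext (LinearEquiv.ext (congrFun e))
    refine Cfsg.Lib.AutFixed.isPGroup_two fun φ _ _ _ _ => MulEquiv.ext fun x => ?_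
    show φ x = x
    rcases h2 x with rfl | hx
    · rw [map_one]
    · rcases h2 (φ x) with e | e
      · rw [e, φ.injective (e.trans (map_one φ).symm)]
      · exact Subtype.ext (LinearEquiv.ext fun v => (e v).trans (hx v).symm)
  have hq3 : 3 ≤ q := by
    have := (Fact.out : q.Prime).two_le
    omega
  have hm1 : 1 ≤ m := by rcases Nat.eq_zero_or_pos m with rfl | h <;> [simp at hq; exact h] <;> omega
  have hn1 : (1 : ZMod q) ≠ -1 := by
    intro h
    have h2 : ((2 : ℕ) : ZMod q) = 0 := by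
      push_cast; linear_combination h
    have := Nat.le_of_dvd (by norm_num) ((ZMod.natCast_eq_zero_iff 2 q).mp h2)
    omega
  -- the two kinds of elements
  have hd : ∀ (a : (ZMod q)ˣ) (e : Bool), ∃ f : T, ∀ v, f.1 v = ![(a : ZMod q) * v 0, (if e then -1 else 1) * (a : ZMod q)⁻¹ * v 1] := by
    intro a e
    have hne : (if e then (-1 : ZMod q) else 1) * (a : ZMod q)⁻¹ ≠ 0 := by cases e <;> simp
    let f : (Fin 2 → ZMod q) ≃ₗ[ZMod q] (Fin 2 → ZMod q) :=
      LinearEquiv.piCongrRight fun i => LinearEquiv.smulOfUnit (![a, Units.mk0 _ hne] i)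
    have hf : ∀ v, f v = ![(a : ZMod q) * v 0, (if e then -1 else 1) * (a : ZMod q)⁻¹ * v 1] := fun v => by
      funext i; fin_cases i <;> simp [f, LinearEquiv.smulOfUnit, DistribMulAction.toLinearEquiv_apply, Units.smul_def]
    exact ⟨⟨f, (hT f).mpr ⟨a, if e then -1 else 1, a.ne_zero, by cases e <;> simp, Or.inl hf⟩⟩, hf⟩
  have hw : ∀ (a : (ZMod q)ˣ) (e : Bool), ∃ f : T, ∀ v, f.1 v = ![(if e then -1 else 1) * (a : ZMod q)⁻¹ * v 1, (a : ZMod q) * v 0] := by
    intro a e
    have hne : (if e then (-1 : ZMod q) else 1) * (a : ZMod q)⁻¹ ≠ 0 := by cases e <;> simp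
    let f : (Fin 2 → ZMod q) ≃ₗ[ZMod q] (Fin 2 → ZMod q) :=
      (LinearEquiv.funCongrLeft (ZMod q) (ZMod q) (Equiv.swap (0 : Fin 2) 1)).trans
        (LinearEquiv.piCongrRight fun i => LinearEquiv.smulOfUnit (![Units.mk0 _ hne, a] i))
    have hf : ∀ v, f v = ![(if e then -1 else 1) * (a : ZMod q)⁻¹ * v 1, (a : ZMod q) * v 0] := fun v => by
      funext i; fin_cases i <;> simp [f, LinearEquiv.smulOfUnit, DistribMulAction.toLinearEquiv_apply, Units.smul_def]
    exact ⟨⟨f, (hT f).mpr ⟨a, if e then -1 else 1, a.ne_zero, by cases e <;> simp, Or.inr hf⟩⟩, hf⟩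
  choose D hD using hd
  choose W hW using hw
  have ext2 : ∀ f g : T, (∀ v, f.1 v = g.1 v) → f = g := fun f g h => Subtype.ext (LinearEquiv.ext h)
  have mulv : ∀ f g : T, ∀ v, (f * g).1 v = f.1 (g.1 v) := fun f g v => rfl
  have all : ∀ f : T, ∃ a e, f = D a e ∨ f = W a e := by
    intro f
    obtain ⟨a, s, ha, hs, h⟩ := (hT f.1).mp f.2
    refine ⟨Units.mk0 a ha, decide (s = -1), h.imp (fun h => ext2 _ _ fun v => ?_) (fun h => ext2 _ _ fun v => ?_)⟩ <;>
      rcases hs with rfl | rfl <;> simp [h, hD, hW, hn1]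
  have hDD : ∀ a b e e', D a e * D b e' = D (a * b) (xor e e') := fun a b e e' => ext2 _ _ fun v => by
    rw [mulv, hD, hD, hD]; funext i; fin_cases i <;> cases e <;> cases e' <;> simp <;> ring
  have hWW : ∀ a e, W a e * W a e = D (if e then -1 else 1) false := fun a e => ext2 _ _ fun v => by
    rw [mulv, hW, hW, hD]; funext i; fin_cases i <;> cases e <;> simp <;> field_simp
  have hD1 : D 1 false = 1 := ext2 _ _ fun v => by rw [hD]; funext i; fin_cases i <;> simp
  have hDinj : ∀ a b e e', D a e = D b e' → a = b ∧ e = e' := by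
    intro a b e e' h
    have h' := congrArg (fun f : T => f.1 ![1, 1]) h
    simp only [hD] at h'
    have h0 : (a : ZMod q) = b := by simpa using congrFun h' 0
    have hab := Units.ext h0
    subst hab
    have h1 := congrFun h' 1
    cases e <;> cases e' <;> simp at h1 ⊢ <;>
      first | exact hn1 (mul_left_cancel₀ (inv_ne_zero a.ne_zero) (by linear_combination h1)) | exact hn1 (mul_left_cancel₀ (inv_ne_zero a.ne_zero) (by linear_combination -h1))
  have hWinj : ∀ a b e e', W a e = W b e' → a = b ∧ e = e' := by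
    intro a b e e' h
    have h' := congrArg (fun f : T => f.1 ![1, 1]) h
    simp only [hW] at h'
    have h0 : (a : ZMod q) = b := by simpa using congrFun h' 1
    have hab := Units.ext h0
    subst hab
    have h1 := congrFun h' 0
    cases e <;> cases e' <;> simp at h1 ⊢ <;>
      first | exact hn1 (mul_left_cancel₀ (inv_ne_zero a.ne_zero) (by linear_combination h1)) | exact hn1 (mul_left_cancel₀ (inv_ne_zero a.ne_zero) (by linear_combination -h1))
  have hDW : ∀ a b e e', D a e ≠ W b e' := fun a b e e' h => by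
    have h' := congrFun (congrArg (fun f : T => f.1 ![1, 0]) h) 0
    simp [hD, hW] at h'
  have hcomm : ∀ a b e e', D a e * W b e' = W b e' * D a e ↔ (a * a = if e then -1 else 1) := by
    intro a b e e'
    constructor
    · intro h
      have h' := congrFun (congrArg (fun f : T => f.1 ![1, 0]) h) 1
      simp only [mulv, hD, hW] at h'
      refine Units.ext ?_
      cases e <;> simp at h' ⊢ <;> field_simp at h' <;> first | (linear_combination h') | (linear_combination -h')
    · intro h
      have hv : (a : ZMod q) * a = if e then -1 else 1 := by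
        cases e <;> simpa using congrArg Units.val h
      refine ext2 _ _ fun v => ?_
      rw [mulv, mulv, hD, hW, hD, hW]
      funext i
      fin_cases i <;> cases e <;> cases e' <;> simp at hv ⊢ <;> field_simp <;>
        first | (linear_combination (v 0) * hv) | (linear_combination -(v 0) * hv) | (linear_combination (v 1) * hv) | (linear_combination -(v 1) * hv)
  have hpow : ∀ a e (i : ℕ), D a e ^ i = D (a ^ i) (decide (Odd i) && e) := by
    intro a e i
    induction i with
    | zero => simp [hD1]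
    | succ i ih =>
      rw [pow_succ, ih, hDD, ← pow_succ]
      congr 1
      cases e <;> by_cases h : Odd i <;> simp [h, Nat.odd_add_one]
  have hunits : Fintype.card (ZMod q)ˣ = 2 ^ m := by rw [ZMod.card_units, hq]; omega
  haveI : Finite T := by
    refine Finite.of_surjective (fun z : (ZMod q)ˣ × Bool × Bool => if z.2.2 then W z.1 z.2.1 else D z.1 z.2.1) fun f => ?_
    obtain ⟨a, e, rfl | rfl⟩ := all f
    · exact ⟨(a, e, false), rfl⟩
    · exact ⟨(a, e, true), rfl⟩
  have hTcard : Nat.card T ≤ 4 * (q - 1) := by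
    refine (Nat.card_le_card_of_surjective (fun z : (ZMod q)ˣ × Bool × Bool => if z.2.2 then W z.1 z.2.1 else D z.1 z.2.1) fun f => ?_).trans ?_
    · obtain ⟨a, e, rfl | rfl⟩ := all f
      · exact ⟨(a, e, false), rfl⟩
      · exact ⟨(a, e, true), rfl⟩
    · rw [Nat.card_prod, Nat.card_prod, Nat.card_eq_fintype_card, ZMod.card_units, Nat.card_eq_fintype_card, Fintype.card_bool]; omega
  have hm1u : (-1 : (ZMod q)ˣ) ≠ 1 := fun h => hn1 (by simpa using (congrArg Units.val h).symm)
  refine Cfsg.Lib.AutFixed.isPGroup_two fun φ r hr hr2 hφ => ?_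
  haveI := Fact.mk hr
  let H : Subgroup T :=
    { carrier := {x | φ x = x}
      one_mem' := map_one φ
      mul_mem' := fun {x y} (hx : φ x = x) (hy : φ y = y) => by show φ (x * y) = x * y; rw [map_mul, hx, hy]
      inv_mem' := fun {x} (hx : φ x = x) => by show φ x⁻¹ = x⁻¹; rw [map_inv, hx] }
  suffices hH : 4 * (q - 1) ≤ Nat.card H by
    have : H = ⊤ := Subgroup.eq_top_of_card_eq H (le_antisymm (Subgroup.card_le_card_group H) (hTcard.trans hH))
    exact MulEquiv.ext fun x => (this.symm ▸ Subgroup.mem_top x : x ∈ H)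
  rcases (show q = 3 ∨ 5 < q by
    rcases (show q = 3 ∨ q = 4 ∨ 5 < q by omega) with h | h | h
    · exact Or.inl h
    · exact absurd (h ▸ (Fact.out : q.Prime)) (by norm_num)
    · exact Or.inr h) with rfl | hq7
  · -- the dihedral group of order eight
    have hu : ∀ a : (ZMod 3)ˣ, a * a = 1 := fun a => by
      have : a ^ Fintype.card (ZMod 3)ˣ = 1 := pow_card_eq_one
      rwa [ZMod.card_units, show 3 - 1 = 2 from rfl, pow_two] at this
    have hcu : Nat.card (ZMod 3)ˣ = 2 := by rw [Nat.card_eq_fintype_card, ZMod.card_units]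
    have hnsq : ∀ f : T, f * f ≠ 1 → ∃ a, f = W a true := by
      intro f hf
      obtain ⟨a, e, rfl | rfl⟩ := all f
      · exact absurd (by rw [hDD, hu, Bool.xor_self, hD1]) hf
      · cases e
        · exact absurd (by rw [hWW]; simpa using hD1) hf
        · exact ⟨a, rfl⟩
    have hsq : ∀ a, W a true * W a true ≠ 1 := fun a h => by
      rw [hWW, ← hD1] at h
      exact hm1u (by simpa using (hDinj _ _ _ _ h).1)
    have hcard1 : Nat.card {x : T // x * x ≠ 1} = 2 ^ 1 := by
      rw [pow_one]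
      refine Eq.trans ?_ hcu
      exact (Nat.card_eq_of_bijective (fun a => (⟨W a true, hsq a⟩ : {x : T // x * x ≠ 1}))
        ⟨fun a b h => (hWinj _ _ _ _ (congrArg Subtype.val h)).1, fun x => (hnsq x.1 x.2).imp fun a ha => Subtype.ext ha.symm⟩).symm
    obtain ⟨x, hx, hxf⟩ := Cfsg.Lib.AutFixed.exists_fixed_mem φ hr2 hφ (fun x => x * x ≠ 1)
      (fun x hx h => hx (φ.injective (by rw [map_mul, h, map_one]))) hcard1
    obtain ⟨a₀, rfl⟩ := hnsq x hx
    -- noncentral involutions
    let F : T → Prop := fun y => y * y = 1 ∧ ¬ y * W a₀ true = W a₀ true * y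
    have hFD : ∀ a, F (D a true) := fun a => ⟨by rw [hDD, hu, Bool.xor_self, hD1], fun h => hm1u (by
      have := (hcomm a a₀ true true).mp h
      rw [hu] at this; simpa using this.symm)⟩
    have hDf : ∀ a, D a false * W a₀ true = W a₀ true * D a false := fun a => (hcomm a a₀ false true).mpr (by simpa using hu a)
    have hFW : ∀ a, F (W a false) := fun a => ⟨by rw [hWW]; simpa using hD1, fun h => by
      have h' := congrFun (congrArg (fun f : T => f.1 ![1, 0]) h) 0
      simp only [mulv, hW] at h'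
      have e1 : (a : ZMod 3)⁻¹ * a₀ = -((a₀ : ZMod 3)⁻¹ * a) := by simpa using h'
      have ha : (a : ZMod 3)⁻¹ = a := by rw [← Units.val_inv_eq_inv_val, inv_eq_of_mul_eq_one_right (hu a)]
      have ha' : (a₀ : ZMod 3)⁻¹ = a₀ := by rw [← Units.val_inv_eq_inv_val, inv_eq_of_mul_eq_one_right (hu a₀)]
      rw [ha, ha'] at e1
      refine hn1 (mul_right_cancel₀ (mul_ne_zero a.ne_zero a₀.ne_zero) ?_)
      linear_combination e1⟩
    have hFall : ∀ y, F y → ∃ z : (ZMod 3)ˣ × Bool, y = if z.2 then D z.1 true else W z.1 false := by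
      rintro y ⟨hy, hy2⟩
      obtain ⟨a, e, rfl | rfl⟩ := all y <;> cases e
      · exact absurd (hDf a) hy2
      · exact ⟨(a, true), rfl⟩
      · exact ⟨(a, false), rfl⟩
      · exact absurd hy (hsq a)
    have hFmem : ∀ z : (ZMod 3)ˣ × Bool, F (if z.2 then D z.1 true else W z.1 false) := by
      rintro ⟨a, e⟩; cases e
      exacts [hFW a, hFD a]
    have hcard2 : Nat.card {y : T // F y} = 2 ^ 2 := by
      rw [show (2 : ℕ) ^ 2 = Nat.card ((ZMod 3)ˣ × Bool) by rw [Nat.card_prod, hcu, Nat.card_eq_fintype_card, Fintype.card_bool]; norm_num]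
      refine (Nat.card_eq_of_bijective (fun z => (⟨_, hFmem z⟩ : {y : T // F y}))
        ⟨?_, fun x => (hFall x.1 x.2).imp fun z hz => Subtype.ext hz.symm⟩).symm
      rintro ⟨a, e⟩ ⟨b, e'⟩ h
      have h' := congrArg Subtype.val h
      cases e <;> cases e' <;> simp at h'
      · rw [(hWinj _ _ _ _ h').1]
      · exact absurd h'.symm (hDW _ _ _ _)
      · exact absurd h' (hDW _ _ _ _)
      · rw [(hDinj _ _ _ _ h').1]
    obtain ⟨y, hy, hyf⟩ := Cfsg.Lib.AutFixed.exists_fixed_mem φ hr2 hφ F (fun y hy => by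
      refine ⟨by rw [← map_mul, hy.1, map_one], fun h => hy.2 ?_⟩
      nth_rw 1 [← hxf] at h
      nth_rw 2 [← hxf] at h
      rw [← map_mul, ← map_mul] at h
      exact φ.injective h) hcard2
    have hord : orderOf (W a₀ true) = 4 := by
      haveI := Fact.mk Nat.prime_two
      have h2 := orderOf_eq_prime_pow (p := 2) (n := 1) (x := W a₀ true) (by rw [pow_one, pow_two]; exact hsq a₀)
        (by rw [show 2 ^ (1 + 1) = 2 + 2 from rfl, pow_add, pow_two, hWW, hDD]; simp [hD1])
      simpa using h2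
    have h2 := Cfsg.Lib.AutFixed.two_mul_card_le (Subgroup.zpowers_le.mpr (show W a₀ true ∈ H from hxf))
      ⟨y, hyf, fun hz => hy.2 (by obtain ⟨i, rfl⟩ := Subgroup.mem_zpowers_iff.mp hz; exact ((Commute.refl (W a₀ true)).zpow_left i).eq)⟩
    rw [Nat.card_zpowers, hord] at h2
    omega
  · -- large cases
    have hm3 : 3 ≤ m := by
      by_contra h
      have : 2 ^ m ≤ 2 ^ 2 := Nat.pow_le_pow_right (by norm_num) (by omega)
      omega
    have h8 : 2 ^ 3 ≤ 2 ^ m := Nat.pow_le_pow_right (by norm_num) hm3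
    have hWord : ∀ a e, orderOf (W a e) ≤ 4 := fun a e => orderOf_le_of_pow_eq_one (by norm_num) (by
      rw [show 4 = 2 + 2 from rfl, pow_add, pow_two, hWW, hDD]; cases e <;> simp [hD1])
    haveI : Fact (Nat.Prime 2) := ⟨Nat.prime_two⟩
    obtain ⟨g, hg⟩ := IsCyclic.exists_generator (α := (ZMod q)ˣ)
    have hgord : orderOf g = q - 1 := by rw [orderOf_eq_card_of_forall_mem_zpowers hg, Nat.card_eq_fintype_card, ZMod.card_units]
    have hE : ∀ f : T, orderOf f = q - 1 ↔ ∃ a e, orderOf a = q - 1 ∧ f = D a e := by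
      intro f
      constructor
      · intro hf
        obtain ⟨a, e, rfl | rfl⟩ := all f
        · refine ⟨a, e, ?_, rfl⟩
          by_contra hne
          have hd : orderOf a ∣ 2 ^ m := by rw [← hunits]; exact orderOf_dvd_card
          obtain ⟨j, hj, hje⟩ := (Nat.dvd_prime_pow Nat.prime_two).mp hd
          have hj' : j ≤ m - 1 := by
            by_contra h
            rw [show j = m by omega] at hje
            exact hne (by rw [hje, hq]; omega)
          have h1 : a ^ 2 ^ (m - 1) = 1 := orderOf_dvd_iff_pow_eq_one.mp (hje ▸ pow_dvd_pow 2 hj')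
          have h2 : D a e ^ 2 ^ (m - 1) = 1 := by
            rw [hpow, h1, decide_eq_false (Nat.not_odd_iff_even.mpr (Nat.even_pow.mpr ⟨even_two, by omega⟩)), Bool.false_and, hD1]
          have h3 := orderOf_le_of_pow_eq_one (by positivity) h2
          have h4 : 2 ^ m = 2 ^ (m - 1) * 2 := by rw [← pow_succ]; congr 1; omega
          have h5 : 0 < 2 ^ (m - 1) := by positivity
          omega
        · have := hWord a e; omega
      · rintro ⟨a, e, ha, rfl⟩
        refine Nat.dvd_antisymm (orderOf_dvd_of_pow_eq_one ?_) ?_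
        · rw [hpow, ← ha, pow_orderOf_eq_one, ha, show q - 1 = 2 ^ m by omega,
            decide_eq_false (Nat.not_odd_iff_even.mpr (Nat.even_pow.mpr ⟨even_two, by omega⟩)), Bool.false_and, hD1]
        · have := pow_orderOf_eq_one (D a e)
          rw [hpow, ← hD1] at this
          rw [← ha]; exact orderOf_dvd_of_pow_eq_one (hDinj _ _ _ _ this).1
    have hcardE : Nat.card {f : T // orderOf f = q - 1} = 2 ^ m := by
      have hb : Function.Bijective (fun z : {a : (ZMod q)ˣ // orderOf a = q - 1} × Bool =>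
          (⟨D z.1.1 z.2, (hE _).mpr ⟨_, _, z.1.2, rfl⟩⟩ : {f : T // orderOf f = q - 1})) := by
        refine ⟨fun z z' h => ?_, fun x => ?_⟩
        · obtain ⟨h1, h2⟩ := hDinj _ _ _ _ (congrArg Subtype.val h)
          exact Prod.ext (Subtype.ext h1) h2
        · obtain ⟨a, e, ha, hx⟩ := (hE x.1).mp x.2
          exact ⟨(⟨a, ha⟩, e), Subtype.ext hx.symm⟩
      rw [← Nat.card_eq_of_bijective _ hb, Nat.card_prod, Nat.card_eq_fintype_card (α := Bool), Fintype.card_bool,
        Nat.card_eq_fintype_card, Fintype.card_subtype, IsCyclic.card_orderOf_eq_totient (by rw [ZMod.card_units]),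
        hq, Nat.add_sub_cancel, Nat.totient_prime_pow Nat.prime_two (by omega)]
      simp [← pow_succ, show m - 1 + 1 = m by omega]
    obtain ⟨x, hx, hxf⟩ := Cfsg.Lib.AutFixed.exists_fixed_mem φ hr2 hφ (fun x => orderOf x = q - 1)
      (fun x hx => (show orderOf (φ x) = orderOf x from orderOf_injective φ.toMonoidHom φ.injective x).trans hx) hcardE
    -- the centraliser of all elements of maximal order
    let C : T → Prop := fun y => ∀ z : T, orderOf z = q - 1 → z * y = y * z
    have hCD : ∀ a e, C (D a e) := fun a e z hz => by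
      obtain ⟨b, e', -, rfl⟩ := (hE z).mp hz
      rw [hDD, hDD, mul_comm, Bool.xor_comm]
    have hCW : ∀ a e, ¬ C (W a e) := fun a e h => by
      have h1 := (hcomm g a false e).mp (h _ ((hE _).mpr ⟨g, false, hgord, rfl⟩))
      have h2 := orderOf_le_of_pow_eq_one (by norm_num) (show g ^ 2 = 1 by rw [pow_two]; simpa using h1)
      omega
    have hCall : ∀ f, C f → ∃ a e, f = D a e := fun f hf => by
      obtain ⟨a, e, rfl | rfl⟩ := all f
      exacts [⟨a, e, rfl⟩, absurd hf (hCW a e)]
    have hCφ : ∀ f, C f → C (φ f) := fun f hf z hz => by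
      have := congrArg φ (hf (φ.symm z) (by rwa [← orderOf_injective φ.toMonoidHom φ.injective (φ.symm z), MulEquiv.coe_toMonoidHom, φ.apply_symm_apply]))
      rwa [map_mul, map_mul, φ.apply_symm_apply] at this
    have hnC : ∀ f, ¬ C f → ¬ C (φ f) := fun f hf h => hf fun z hz => φ.injective (by
      rw [map_mul, map_mul]; exact h (φ z) (by rw [← hz]; exact orderOf_injective φ.toMonoidHom φ.injective z))
    let F : T → Prop := fun f => C f ∧ f * f = 1 ∧ ¬ ∃ h : T, h * h = f
    have hsqv : ∀ f : T, ∃ a, f * f = D a false := fun f => by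
      obtain ⟨a, e, rfl | rfl⟩ := all f
      · exact ⟨a * a, by rw [hDD, Bool.xor_self]⟩
      · exact ⟨_, hWW a e⟩
    have hFmem : ∀ a : (ZMod q)ˣ, a * a = 1 → F (D a true) := fun a ha => ⟨hCD a true, by rw [hDD, ha, Bool.xor_self, hD1], fun ⟨f, hf⟩ => by
      obtain ⟨b, hb⟩ := hsqv f
      exact absurd (hDinj _ _ _ _ (hb.symm.trans hf)).2 (by decide)⟩
    have hFall : ∀ f, F f → ∃ a : (ZMod q)ˣ, a * a = 1 ∧ f = D a true := by
      rintro f ⟨hf, hf2, hf3⟩
      obtain ⟨a, e, rfl⟩ := hCall f hf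
      rw [hDD, ← hD1] at hf2
      have ha := (hDinj _ _ _ _ hf2).1
      cases e
      · exfalso
        apply hf3
        rcases Units.eq_or_eq_neg_of_sq_eq_sq a 1 (by rw [pow_two, one_pow, ha]) with rfl | rfl
        · exact ⟨1, by rw [one_mul, hD1]⟩
        · exact ⟨W 1 true, by rw [hWW]; rfl⟩
      · exact ⟨a, ha, rfl⟩
    have hcardF : Nat.card {f : T // F f} = 2 ^ 1 := by
      rw [pow_one, Nat.card_eq_two_iff]
      refine ⟨⟨_, hFmem 1 (one_mul 1)⟩, ⟨_, hFmem (-1) (by simp)⟩, fun h => hm1u (hDinj _ _ _ _ (congrArg Subtype.val h)).1.symm, Set.eq_univ_of_forall fun x => ?_⟩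
      obtain ⟨a, ha, hx⟩ := hFall x.1 x.2
      rcases Units.eq_or_eq_neg_of_sq_eq_sq a 1 (by rw [pow_two, one_pow, ha]) with rfl | rfl
      · exact Or.inl (Subtype.ext hx)
      · exact Or.inr (Subtype.ext hx)
    obtain ⟨y, hy, hyf⟩ := Cfsg.Lib.AutFixed.exists_fixed_mem φ hr2 hφ F (fun f hf => ⟨hCφ f hf.1, by rw [← map_mul, hf.2.1, map_one],
      fun ⟨h, hh⟩ => hf.2.2 ⟨φ.symm h, φ.injective (by rw [map_mul, φ.apply_symm_apply, hh])⟩⟩) hcardF
    have hcardW : Nat.card {f : T // ¬ C f} = 2 ^ (m + 1) := by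
      have hb : Function.Bijective (fun z : (ZMod q)ˣ × Bool => (⟨W z.1 z.2, hCW _ _⟩ : {f : T // ¬ C f})) := by
        refine ⟨fun z z' h => ?_, fun x => ?_⟩
        · obtain ⟨h1, h2⟩ := hWinj _ _ _ _ (congrArg Subtype.val h); exact Prod.ext h1 h2
        · obtain ⟨a, e, h | h⟩ := all x.1
          · exact absurd (h ▸ hCD a e) x.2
          · exact ⟨(a, e), Subtype.ext h.symm⟩
      rw [← Nat.card_eq_of_bijective _ hb, Nat.card_prod, Nat.card_eq_fintype_card, hunits, Nat.card_eq_fintype_card, Fintype.card_bool, pow_succ]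
    obtain ⟨w, hw, hwf⟩ := Cfsg.Lib.AutFixed.exists_fixed_mem φ hr2 hφ (fun f => ¬ C f) hnC hcardW
    set A := Subgroup.zpowers x
    set B := A ⊔ Subgroup.zpowers y
    have hyA : y ∉ A := by
      rintro hyA
      obtain ⟨a, e, ha, rfl⟩ := (hE x).mp hx
      obtain ⟨b, hb, rfl⟩ := hFall y hy
      rw [← mem_powers_iff_mem_zpowers] at hyA
      obtain ⟨i, hi⟩ := hyA
      change D a e ^ i = D b true at hi
      rw [hpow] at hi
      obtain ⟨h1, h2⟩ := hDinj _ _ _ _ hi
      simp only [Bool.and_eq_true, decide_eq_true_eq] at h2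
      have hdiv : orderOf a ∣ i * 2 := orderOf_dvd_of_pow_eq_one (by rw [pow_mul, h1, pow_two, hb])
      rw [ha, hq, Nat.add_sub_cancel] at hdiv
      have : 2 ∣ i := by
        have h4 : 2 * 2 ∣ i * 2 := (show 2 * 2 ∣ 2 ^ m from (show (2:ℕ) * 2 = 2 ^ 2 from rfl) ▸ pow_dvd_pow 2 (by omega)).trans hdiv
        omega
      exact Nat.not_even_iff_odd.mpr h2.1 (even_iff_two_dvd.mpr this)
    have hCx : C x := by obtain ⟨a, e, -, rfl⟩ := (hE x).mp hx; exact hCD a e
    have hwB : w ∉ B := by
      let Cs : Subgroup T := Subgroup.centralizer {z : T | orderOf z = q - 1}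
      have hBC : B ≤ Cs := sup_le (Subgroup.zpowers_le.mpr (Subgroup.mem_centralizer_iff.mpr hCx))
        (Subgroup.zpowers_le.mpr (Subgroup.mem_centralizer_iff.mpr hy.1))
      exact fun h => hw fun z hz => Subgroup.mem_centralizer_iff.mp (hBC h) z hz
    have h1 : 2 * Nat.card A ≤ Nat.card B := Cfsg.Lib.AutFixed.two_mul_card_le (le_sup_left : A ≤ B) ⟨y, Subgroup.mem_sup_right (Subgroup.mem_zpowers y), hyA⟩
    have h2 := Cfsg.Lib.AutFixed.two_mul_card_le (show B ≤ H from sup_le (Subgroup.zpowers_le.mpr hxf) (Subgroup.zpowers_le.mpr hyf)) ⟨w, hwf, hwB⟩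
    have hA : Nat.card A = q - 1 := by rw [Nat.card_zpowers, hx]
    omega

end Cfsg.Agent.S3382
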