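import Cfsg.Agent.Frobenius.Kernel
import Mathlib
import Cfsg.Statements.S3383
-- import your own Cfsg.Agent.* helpers here

set_option autoImplicit false
open Cfsg

namespace Cfsg.Agent.S3383

/-- Let H be a Frobenius complement in a finite group L and K the Frobenius kernel (as a subgroup). Then K is characteristic in L, and every normal subgroup of L either contains K or is contained in K. -/
theorem result {L : Type*} [Group L] [Finite L]
    (H : Subgroup L) (hH : Cfsg.IsFrobeniusComplement H)
    (K : Subgroup L) (hK : (K : Set L) = Cfsg.frobeniusKernel H) :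
    K.Characteristic ∧ ∀ N : Subgroup L, N.Normal → K ≤ N ∨ N ≤ K := by
  classical
  obtain ⟨N₀, hN₀, hN₀n, hc⟩ := Cfsg.Lib.Frobenius.exists_kernel hH
  obtain rfl : K = N₀ := SetLike.coe_injective (hK.trans hN₀.symm)
  haveI := hN₀n
  have hcard : Nat.card K = H.index := by rw [← Cfsg.Lib.Frobenius.card_kernel hH]; exact Nat.card_congr (Equiv.setCongr hK)
  have hcop : Nat.Coprime (Nat.card K) K.index := by
    rw [hc.symm.index_eq_card, hcard]
    obtain ⟨d, hd⟩ := Cfsg.Lib.Frobenius.card_dvd_card_kernel_sub_one hH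
    have hpos : 0 < H.index := Nat.pos_of_ne_zero Subgroup.index_ne_zero_of_finite
    rw [show H.index = Nat.card H * d + 1 by omega]
    exact (Nat.coprime_mul_right_add_left 1 (Nat.card H) d).mpr (Nat.coprime_one_left _) |> fun h => by
      simpa [Nat.coprime_comm] using h
  refine ⟨Subgroup.characteristic_iff_comap_le.mpr fun φ => ?_, fun N hN => ?_⟩
  · intro x hx
    have h1 : orderOf (φ x) ∣ Nat.card K := Subgroup.orderOf_dvd_natCard K hx
    rw [show orderOf (φ x) = orderOf x from MulEquiv.orderOf_eq φ x] at h1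
    have h2 : orderOf (QuotientGroup.mk' K x) = 1 := Nat.eq_one_of_dvd_coprimes hcop
      ((orderOf_map_dvd _ x).trans h1) (orderOf_dvd_natCard (QuotientGroup.mk' K x))
    exact (QuotientGroup.eq_one_iff x).mp (orderOf_eq_one_iff.mp h2)
  by_cases hle : N ≤ K
  · exact Or.inr hle
  left
  obtain ⟨x, hxN, hxK⟩ := SetLike.not_le_iff_exists.mp hle
  rw [← SetLike.mem_coe, hK, Cfsg.Lib.Frobenius.mem_kernel_iff, not_or] at hxK
  obtain ⟨hx1, hx⟩ := hxK
  push Not at hx
  obtain ⟨g, hg⟩ := hx
  rw [Cfsg.Lib.Coprime.mem_conjMap] at hg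
  set h := g⁻¹ * x * g with hhdef
  have hhN : h ∈ N := by simpa using hN.conj_mem x hxN g⁻¹
  have hh1 : h ≠ 1 := fun e => hx1 (by
    rw [show x = g * h * g⁻¹ by rw [hhdef]; group, e, mul_one, mul_inv_cancel])
  let f : K → K := fun k => ⟨k * h * (k : L)⁻¹ * h⁻¹, by
    have := mul_mem k.2 (hN₀n.conj_mem _ (inv_mem k.2) h)
    simpa [mul_assoc] using this⟩
  have hf : Function.Injective f := fun a b hab => by
    have e : (a : L) * h * (a : L)⁻¹ = b * h * (b : L)⁻¹ := mul_right_cancel (congrArg Subtype.val hab)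
    have hc' : ((b : L)⁻¹ * a) * h = h * ((b : L)⁻¹ * a) := by
      calc ((b : L)⁻¹ * a) * h = (b : L)⁻¹ * ((a : L) * h * (a : L)⁻¹) * a := by group
        _ = _ := by rw [e]; group
    have hmem := Cfsg.Lib.Frobenius.mem_of_commute hH hg hh1 hc'
    have := Subgroup.disjoint_def.mp hc.disjoint (mul_mem (inv_mem b.2) a.2) hmem
    exact Subtype.ext (inv_mul_eq_one.mp this).symm
  intro y hy
  obtain ⟨k, hk⟩ := Finite.injective_iff_surjective.mp hf ⟨y, hy⟩
  rw [← show (f k : L) = y from congrArg Subtype.val hk]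
  exact mul_mem (hN.conj_mem h hhN k) (inv_mem hhN)

end Cfsg.Agent.S3383
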