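import Mathlib

/-! Intersections of a subgroup with its translates under an automorphism, each step of index `p`
(Glauberman's bound for isomorphic subgroups of index `p`). -/

set_option autoImplicit false

namespace Cfsg.Agent.ShiftChain

open Subgroup

variable {G : Type*} [Group G]

/-- subgroup generated by the window `lo ≤ k < hi` of a sequence -/
def win (y : ℕ → G) (lo hi : ℕ) : Subgroup G := Subgroup.closure (y '' Set.Ico lo hi)

theorem mem_win {y : ℕ → G} {lo hi k : ℕ} (h1 : lo ≤ k) (h2 : k < hi) : y k ∈ win y lo hi :=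
  Subgroup.subset_closure ⟨k, ⟨h1, h2⟩, rfl⟩

theorem win_le {y : ℕ → G} {lo hi : ℕ} {S : Subgroup G}
    (h : ∀ k, lo ≤ k → k < hi → y k ∈ S) : win y lo hi ≤ S := by
  rw [win, Subgroup.closure_le]
  rintro _ ⟨k, ⟨h1, h2⟩, rfl⟩
  exact h k h1 h2

theorem win_mono {y : ℕ → G} {lo hi lo' hi' : ℕ} (h1 : lo' ≤ lo) (h2 : hi ≤ hi') :
    win y lo hi ≤ win y lo' hi' :=
  win_le fun k hk1 hk2 => mem_win (by omega) (by omega)

theorem win_commute {y : ℕ → G} {lo hi : ℕ} {w c : G} (hc : c ∈ win y lo hi)
    (h : ∀ k, lo ≤ k → k < hi → Commute (y k) w) : Commute c w := by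
  have : win y lo hi ≤ Subgroup.centralizer ({w} : Set G) := win_le fun k h1 h2 =>
    Subgroup.mem_centralizer_singleton_iff.2 (h k h1 h2)
  exact Subgroup.mem_centralizer_singleton_iff.1 (this hc)

/-- Index-`p` data: the shift of the chain is the sequence `y`, all windows of length `k ≤ t`
have order `p ^ k`. The purely combinatorial part of the bound. -/
theorem bound_of_windows [Finite G] (p t n : ℕ) (hp : p.Prime) (ht : 1 ≤ t) (hn : 1 ≤ n)
    (σ : MulAut G) (y : ℕ → G) (hσ : ∀ i, σ (y i) = y (i + 1))
    (hord : orderOf (y 0) = p)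
    (hcard : ∀ k, k ≤ t → Nat.card (win y 0 k) = p ^ k)
    (hcentre : ∀ k, k < t → ¬ ∀ j, j < t + n → Commute (y k) (y j)) :
    ∃ u, 1 ≤ u ∧ u ≤ t ∧ 2 * u ≤ t + n ∧ 2 * t ≤ 3 * u ∧
      (∀ i j, i ≤ j + (u - 1) → j ≤ i + (u - 1) → Commute (y i) (y j)) ∧
      (u = t ∨ ¬ Commute (y 0) (y u)) := by
  classical
  haveI : Fact p.Prime := ⟨hp⟩
  have hσn : ∀ i, y i = (σ ^ i) (y 0) := by
    intro i
    induction i with
    | zero => rfl
    | succ i ih => rw [pow_succ', MulAut.mul_apply, ← ih, hσ]
  have hsh : ∀ s i, (σ ^ s) (y i) = y (s + i) := by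
    intro s i
    rw [hσn i, hσn (s + i), pow_add, MulAut.mul_apply]
  have hordi : ∀ i, orderOf (y i) = p := by
    intro i
    rw [hσn i, ← hord]
    exact orderOf_injective (σ ^ i).toMonoidHom (σ ^ i).injective _
  -- commutators lie in the open window
  have hcomm : ∀ d, 1 ≤ d → d < t → y 0 * y d * (y 0)⁻¹ * (y d)⁻¹ ∈ win y 1 d := by
    intro d hd1 hd2
    set L := win y 0 (d + 1) with hL
    set A := win y 0 d with hA
    set B := win y 1 (d + 1) with hB
    have hBA : B = A.map σ.toMonoidHom := by
      apply le_antisymm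
      · refine win_le fun k h1 h2 => ⟨y (k - 1), mem_win (Nat.zero_le _) (by omega), ?_⟩
        change σ (y (k - 1)) = y k
        rw [hσ]
        congr 1
        omega
      · rw [Subgroup.map_le_iff_le_comap]
        refine win_le fun k h1 h2 => ?_
        change σ (y k) ∈ B
        rw [hσ]
        exact mem_win (by omega) (by omega)
    have hcA : Nat.card A = p ^ d := hcard d (by omega)
    have hcB : Nat.card B = p ^ d := by
      rw [hBA, Subgroup.card_map_of_injective σ.injective, hcA]
    have hcL : Nat.card L = p ^ (d + 1) := hcard (d + 1) (by omega)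
    have hAL : A ≤ L := win_mono le_rfl (by omega)
    have hBL : B ≤ L := win_mono (by omega) le_rfl
    have hnorm : ∀ H : Subgroup G, H ≤ L → Nat.card H = p ^ d → ∀ h ∈ H, ∀ l ∈ L,
        l * h * l⁻¹ ∈ H := by
      intro H hH hcH h hh l hl
      have hLp : IsPGroup p L := IsPGroup.of_card hcL
      have hidx : (H.subgroupOf L).index = p := by
        have h1 := Subgroup.card_mul_index (H.subgroupOf L)
        rw [Nat.card_congr (Subgroup.subgroupOfEquivOfLe hH).toEquiv, hcH, hcL, pow_succ] at h1
        exact Nat.eq_of_mul_eq_mul_left (pow_pos hp.pos d) h1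
      have hmin : (Nat.card L).minFac = p := by
        rw [hcL, Nat.pow_minFac (by omega), hp.minFac_eq]
      haveI := Subgroup.normal_of_index_eq_minFac_card (H := H.subgroupOf L) (by rw [hidx, hmin])
      exact Subgroup.Normal.conj_mem (inferInstance : (H.subgroupOf L).Normal) ⟨h, hH hh⟩
        (by rw [Subgroup.mem_subgroupOf]; exact hh) ⟨l, hl⟩
    have hy0 : y 0 ∈ A := mem_win le_rfl (by omega)
    have hyd : y d ∈ B := mem_win (by omega) (by omega)
    have hcinA : y 0 * y d * (y 0)⁻¹ * (y d)⁻¹ ∈ A := by
      have h1 := hnorm A hAL hcA _ (A.inv_mem hy0) _ (hBL hyd)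
      have h2 := A.mul_mem hy0 h1
      simpa [mul_assoc] using h2
    have hcinB : y 0 * y d * (y 0)⁻¹ * (y d)⁻¹ ∈ B := by
      have h1 := hnorm B hBL hcB _ hyd _ (hAL hy0)
      exact B.mul_mem h1 (B.inv_mem hyd)
    have hM : win y 1 d ≤ A ⊓ B :=
      le_inf (win_mono (by omega) le_rfl) (win_mono le_rfl (by omega))
    have hcM : Nat.card (win y 1 d) = p ^ (d - 1) := by
      have : win y 1 d = (win y 0 (d - 1)).map σ.toMonoidHom := by
        apply le_antisymm
        · refine win_le fun k h1 h2 => ⟨y (k - 1), mem_win (Nat.zero_le _) (by omega), ?_⟩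
          change σ (y (k - 1)) = y k
          rw [hσ]
          congr 1
          omega
        · rw [Subgroup.map_le_iff_le_comap]
          refine win_le fun k h1 h2 => ?_
          change σ (y k) ∈ win y 1 d
          rw [hσ]
          exact mem_win (by omega) (by omega)
      rw [this, Subgroup.card_map_of_injective σ.injective, hcard (d - 1) (by omega)]
    have hABne : A ⊓ B ≠ A := by
      intro h
      have hABle : A ≤ B := inf_eq_left.1 h
      have hLB : L ≤ B := by
        refine win_le fun k _ hk => ?_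
        by_cases h0 : k < d
        · exact hABle (mem_win (Nat.zero_le _) h0)
        · have : k = d := by omega
          exact this ▸ hyd
      have h3 := Nat.le_of_dvd Nat.card_pos (Subgroup.card_dvd_of_le hLB)
      rw [hcL, hcB] at h3
      exact absurd h3 (not_le.2 (Nat.pow_lt_pow_right hp.one_lt (by omega)))
    obtain ⟨e, he, hce⟩ := (Nat.dvd_prime_pow hp).1
      (hcA ▸ Subgroup.card_dvd_of_le (inf_le_left : A ⊓ B ≤ A))
    have hed : e < d := by
      rcases Nat.lt_or_ge e d with h | h
      · exact h
      · exfalso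
        apply hABne
        apply Subgroup.eq_of_le_of_card_ge inf_le_left
        rw [hcA, hce]
        exact Nat.pow_le_pow_right hp.pos h
    have hMeq : win y 1 d = A ⊓ B := by
      apply Subgroup.eq_of_le_of_card_ge hM
      rw [hcM, hce]
      exact Nat.pow_le_pow_right hp.pos (by omega)
    rw [hMeq]
    exact ⟨hcinA, hcinB⟩
  -- shifting
  have hshc : ∀ s i j, Commute (y i) (y j) ↔ Commute (y (s + i)) (y (s + j)) := by
    intro s i j
    rw [← hsh s i, ← hsh s j]
    exact ⟨fun h => h.map (σ ^ s).toMonoidHom, fun h => by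
      have := h.map (σ ^ s).symm.toMonoidHom
      simpa using this⟩
  -- the first non-commuting distance
  have hex : ∃ u, 1 ≤ u ∧ (u = t ∨ ¬ Commute (y 0) (y u)) := ⟨t, ht, Or.inl rfl⟩
  set u := Nat.find hex with hu
  obtain ⟨hu1, hu2⟩ := Nat.find_spec hex
  rw [← hu] at hu1 hu2
  have hut : u ≤ t := Nat.find_min' hex ⟨ht, Or.inl rfl⟩
  have hnear : ∀ i j, i ≤ j + (u - 1) → j ≤ i + (u - 1) → Commute (y i) (y j) := by
    have key : ∀ i d, d < u → Commute (y i) (y (i + d)) := by
      intro i d hd
      have h0 : Commute (y 0) (y d) := by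
        rcases Nat.eq_zero_or_pos d with h | h
        · rw [h]
        · by_contra hne
          exact Nat.find_min hex hd ⟨h, Or.inr hne⟩
      exact (hshc i 0 d).1 h0
    intro i j h1 h2
    rcases le_total i j with h | h
    · obtain ⟨d, rfl⟩ := Nat.exists_eq_add_of_le h
      exact key i d (by omega)
    · obtain ⟨d, rfl⟩ := Nat.exists_eq_add_of_le h
      exact (key j d (by omega)).symm
  -- central element bound
  have hhi : 2 * u ≤ t + n := by
    by_contra hlt
    apply hcentre (u - 1) (by omega)
    intro j hj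
    exact hnear _ _ (by omega) (by omega)
  -- abelian-window bound
  have hlo : 2 * t ≤ 3 * u := by
    rcases hu2 with h | h
    · omega
    rcases Nat.lt_or_ge u t with hult | hult
    swap
    · omega
    set c := y 0 * y u * (y 0)⁻¹ * (y u)⁻¹ with hc
    have hc1 : c ≠ 1 := by
      intro hc1
      apply h
      have h1 : y 0 * y u * (y 0)⁻¹ = y u := by
        rwa [hc, mul_inv_eq_one] at hc1
      exact mul_inv_eq_iff_eq_mul.1 h1
    have hcw : c ∈ win y 1 u := hcomm u hu1 hult
    -- largest lower end
    set a := Nat.findGreatest (fun a => c ∈ win y a u) u with ha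
    have ha1 : 1 ≤ a := Nat.le_findGreatest (by omega) hcw
    have hca : c ∈ win y a u := Nat.findGreatest_spec (P := fun a => c ∈ win y a u) hu1 hcw
    have hau : a < u := by
      by_contra hge
      have : win y a u ≤ ⊥ := win_le fun k h1 h2 => by omega
      exact hc1 (Subgroup.mem_bot.1 (this hca))
    have hamax : c ∉ win y (a + 1) u := fun hh =>
      absurd (Nat.le_findGreatest (P := fun a => c ∈ win y a u) (Nat.succ_le_of_lt hau) hh) (by rw [← ha]; omega)
    -- least upper end
    have hexb : ∃ b, c ∈ win y a (b + 1) := ⟨u - 1, by rwa [Nat.sub_add_cancel hu1]⟩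
    set b := Nat.find hexb with hb
    have hcb : c ∈ win y a (b + 1) := Nat.find_spec hexb
    have hbu : b + 1 ≤ u := by
      have := Nat.find_min' hexb (m := u - 1) (by rwa [Nat.sub_add_cancel hu1])
      omega
    have hab : a ≤ b := by
      by_contra hlt
      have : win y a (b + 1) ≤ ⊥ := win_le fun k h1 h2 => by omega
      exact hc1 (Subgroup.mem_bot.1 (this hcb))
    have hbmin : c ∉ win y a b := by
      intro hh
      rcases Nat.eq_zero_or_pos b with h0 | h0
      · omega
      have := Nat.find_min' hexb (m := b - 1) (by rwa [Nat.sub_add_cancel h0])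
      omega
    -- window cardinalities
    have hwcard : ∀ lo k, k ≤ t → Nat.card (win y lo (lo + k)) = p ^ k := by
      intro lo k hk
      have : win y lo (lo + k) = (win y 0 k).map (σ ^ lo).toMonoidHom := by
        apply le_antisymm
        · refine win_le fun i h1 h2 => ⟨y (i - lo), mem_win (Nat.zero_le _) (by omega), ?_⟩
          change (σ ^ lo) (y (i - lo)) = y i
          rw [hsh]
          congr 1
          omega
        · rw [Subgroup.map_le_iff_le_comap]
          refine win_le fun i h1 h2 => ?_
          change (σ ^ lo) (y i) ∈ win y lo (lo + k)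
          rw [hsh]
          exact mem_win (by omega) (by omega)
      rw [this, Subgroup.card_map_of_injective (σ ^ lo).injective, hcard k hk]
    -- a maximal sub-window centralised by `w`
    have hpeel : ∀ (W S : Subgroup G) (k : ℕ) (w z : G), S ≤ W → Nat.card W = p ^ (k + 1) →
        Nat.card S = p ^ k → (∀ x ∈ S, Commute x w) → z ∈ W → Commute z w → z ∉ S →
        ∀ x ∈ W, Commute x w := by
      intro W S k w z hSW hcW hcS hS hz hzw hzS x hx
      set C := W ⊓ Subgroup.centralizer ({w} : Set G) with hC
      have hSC : S < C := lt_of_le_of_ne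
        (fun x hx => ⟨hSW hx, Subgroup.mem_centralizer_singleton_iff.2 (hS x hx)⟩)
        (fun h => hzS (h.symm ▸ ⟨hz, Subgroup.mem_centralizer_singleton_iff.2 hzw⟩))
      obtain ⟨e, he, hce⟩ := (Nat.dvd_prime_pow hp).1
        (hcW ▸ Subgroup.card_dvd_of_le (inf_le_left : C ≤ W))
      have hek : k + 1 ≤ e := by
        by_contra hlt
        apply hSC.ne
        apply Subgroup.eq_of_le_of_card_ge hSC.le
        rw [hce, hcS]
        exact Nat.pow_le_pow_right hp.pos (by omega)
      have hCW : C = W := by
        apply Subgroup.eq_of_le_of_card_ge inf_le_left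
        rw [hce, hcW]
        exact Nat.pow_le_pow_right hp.pos hek
      exact Subgroup.mem_centralizer_singleton_iff.1 (hCW.symm.le hx).2
    by_contra hlt
    -- one of the two shifts stays inside
    rcases Nat.lt_or_ge (a + u) t with hcase | hcase
    · set w := y (a + u) with hw
      have hd : y 0 * w * (y 0)⁻¹ * w⁻¹ ∈ win y 1 (a + u) := hcomm (a + u) (by omega) hcase
      set d := y 0 * w * (y 0)⁻¹ * w⁻¹ with hd'
      have hdu : Commute d (y u) := win_commute hd fun k h1 h2 => hnear k u (by omega) (by omega)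
      have hwu : Commute w (y u) := hnear _ _ (by omega) (by omega)
      have hcw' : Commute c w := by
        have e1 : w * y u * w⁻¹ = y u := by rw [hwu.eq, mul_inv_cancel_right]
        have e0 : w * y 0 * w⁻¹ = d⁻¹ * y 0 := by rw [hd']; group
        have e2 : d⁻¹ * c * d = c := by
          have e3 : Commute d⁻¹ (y u) := hdu.inv_left
          have : w * c * w⁻¹ = d⁻¹ * c * d := by
            calc w * c * w⁻¹
                = (w * y 0 * w⁻¹) * (w * y u * w⁻¹) * (w * y 0 * w⁻¹)⁻¹ * (w * y u * w⁻¹)⁻¹ := by
                  rw [hc]; group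
              _ = d⁻¹ * c * (y u * d * (y u)⁻¹) := by rw [e1, e0, hc]; group
              _ = d⁻¹ * c * d := by rw [← hdu.eq, mul_inv_cancel_right]
          have hdc : Commute c d := by
            refine win_commute hca fun k h1 h2 => ?_
            exact (win_commute hd fun i i1 i2 => hnear i k (by omega) (by omega)).symm
          rw [mul_assoc, hdc.eq, inv_mul_cancel_left]
        have : w * c * w⁻¹ = c := by
          calc w * c * w⁻¹
              = (w * y 0 * w⁻¹) * (w * y u * w⁻¹) * (w * y 0 * w⁻¹)⁻¹ * (w * y u * w⁻¹)⁻¹ := by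
                rw [hc]; group
            _ = d⁻¹ * c * (y u * d * (y u)⁻¹) := by rw [e1, e0, hc]; group
            _ = d⁻¹ * c * d := by rw [← hdu.eq, mul_inv_cancel_right]
            _ = c := e2
        exact (mul_inv_eq_iff_eq_mul.1 this).symm
      obtain ⟨k, hk⟩ : ∃ k, u = a + (k + 1) := ⟨u - a - 1, by omega⟩
      have hW := hwcard a (k + 1) (by omega)
      have hS := hwcard (a + 1) k (by omega)
      rw [← hk] at hW
      rw [show a + 1 + k = u by omega] at hS
      have hall := hpeel (win y a u) (win y (a + 1) u) k w c (win_mono (by omega) le_rfl) hW hS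
        (fun x hx => win_commute hx fun i i1 i2 => hnear i _ (by omega) (by omega)) hca hcw' hamax
        (y a) (mem_win le_rfl hau)
      exact h ((hshc a 0 u).2 hall)
    · rcases Nat.lt_or_ge (2 * u - b) t with hcase2 | hcase2
      swap
      · omega
      set s := u - b with hs
      set c' := (σ ^ s) c with hc'
      have hc'eq : c' = y s * y (s + u) * (y s)⁻¹ * (y (s + u))⁻¹ := by
        rw [hc', hc]
        simp only [map_mul, map_inv, hsh, Nat.add_zero]
      have hmem : ∀ lo hi, c ∈ win y lo hi → c' ∈ win y (s + lo) (s + hi) := by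
        intro lo hi hm
        refine (show win y lo hi ≤ (win y (s + lo) (s + hi)).comap (σ ^ s).toMonoidHom from
          win_le fun i h1 h2 => ?_) hm
        change (σ ^ s) (y i) ∈ win y (s + lo) (s + hi)
        rw [hsh]
        exact mem_win (by omega) (by omega)
      have hc'S : c' ∉ win y (s + a) u := by
        intro hh
        apply hbmin
        have : win y (s + a) u ≤ (win y a b).map (σ ^ s).toMonoidHom := by
          refine win_le fun i h1 h2 => ⟨y (i - s), mem_win (by omega) (by omega), ?_⟩
          change (σ ^ s) (y (i - s)) = y i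
          rw [hsh]
          congr 1
          omega
        obtain ⟨c₂, hc₂, he⟩ := this hh
        have : c₂ = c := (σ ^ s).injective he
        exact this ▸ hc₂
      set w := y 0 with hw
      set d := w * y (s + u) * w⁻¹ * (y (s + u))⁻¹ with hd'
      have hd : d ∈ win y 1 (s + u) := hcomm (s + u) (by omega) (by omega)
      have hws : Commute w (y s) := hnear _ _ (by omega) (by omega)
      have hds : Commute d (y s) := win_commute hd fun k h1 h2 => hnear k s (by omega) (by omega)
      have hcw' : Commute c' w := by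
        have e1 : w * y s * w⁻¹ = y s := by rw [hws.eq, mul_inv_cancel_right]
        have e0 : w * y (s + u) * w⁻¹ = d * y (s + u) := by rw [hd']; group
        have hdc : Commute c' d := by
          refine win_commute (hmem a (b + 1) hcb) fun k h1 h2 => ?_
          exact (win_commute hd fun i i1 i2 => hnear i k (by omega) (by omega)).symm
        have : w * c' * w⁻¹ = c' := by
          calc w * c' * w⁻¹
              = (w * y s * w⁻¹) * (w * y (s + u) * w⁻¹) * (w * y s * w⁻¹)⁻¹ *
                  (w * y (s + u) * w⁻¹)⁻¹ := by rw [hc'eq]; group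
            _ = (y s * d * (y s)⁻¹) * c' * d⁻¹ := by rw [e1, e0, hc'eq]; group
            _ = d * c' * d⁻¹ := by rw [← hds.eq, mul_inv_cancel_right]
            _ = c' := by rw [← hdc.eq, mul_inv_cancel_right]
        exact (mul_inv_eq_iff_eq_mul.1 this).symm
      obtain ⟨k, hk⟩ : ∃ k, u = s + a + k := ⟨u - s - a, by omega⟩
      have hW := hwcard (s + a) (k + 1) (by omega)
      have hS := hwcard (s + a) k (by omega)
      rw [show s + a + (k + 1) = u + 1 by omega] at hW
      rw [← hk] at hS
      have hc'W : c' ∈ win y (s + a) (u + 1) := by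
        have := hmem a (b + 1) hcb
        rwa [show s + (b + 1) = u + 1 by omega] at this
      have hall := hpeel (win y (s + a) (u + 1)) (win y (s + a) u) k w c'
        (win_mono le_rfl (by omega)) hW hS
        (fun x hx => win_commute hx fun i i1 i2 => hnear i _ (by omega) (by omega)) hc'W hcw' hc'S
        (y u) (mem_win (by omega) (by omega))
      exact h hall.symm
  exact ⟨u, hu1, hut, hhi, hlo, hnear, hu2⟩

/-- intersection of the first `k + 1` translates -/
def chain (σ : MulAut G) (P : Subgroup G) : ℕ → Subgroup G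
  | 0 => P
  | k + 1 => chain σ P k ⊓ (chain σ P k).map σ.toMonoidHom

theorem chain_succ' (σ : MulAut G) (P : Subgroup G) (k : ℕ) :
    chain σ P (k + 1) = P ⊓ (chain σ P k).map σ.toMonoidHom := by
  induction k with
  | zero => rfl
  | succ k ih =>
    change chain σ P (k + 1) ⊓ (chain σ P (k + 1)).map σ.toMonoidHom = _
    conv_lhs => arg 1; rw [ih]
    rw [inf_assoc]
    congr 1
    refine inf_eq_right.2 (Subgroup.map_mono ?_)
    exact inf_le_left

theorem chain_le (σ : MulAut G) (P : Subgroup G) : ∀ k, chain σ P k ≤ P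
  | 0 => le_rfl
  | k + 1 => inf_le_left.trans (chain_le σ P k)

/-- Glauberman's bound, with the generating sequence. -/
theorem order_data [Finite G] (P : Subgroup G) (σ : MulAut G) (p n : ℕ) (hp : p.Prime)
    (hn : 1 ≤ n)
    (hN : ((P ⊓ P.map σ.toMonoidHom).subgroupOf (P.map σ.toMonoidHom)).Normal)
    (hidx : (P ⊓ P.map σ.toMonoidHom).relIndex (P.map σ.toMonoidHom) = p)
    (h1 : ∀ Q : Subgroup G, Q ≤ P → (Q.subgroupOf P).Normal → Q.map σ.toMonoidHom = Q → Q = ⊥)
    (h2 : ∀ z ∈ P, (∀ i, i ≤ n → ∀ x ∈ P, Commute z ((σ ^ i) x)) → z = 1) :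
    ∃ (t : ℕ) (y : ℕ → G) (u : ℕ), Nat.card P = p ^ t ∧ 1 ≤ t ∧ (∀ i, σ (y i) = y (i + 1)) ∧
      P = win y 0 t ∧ (∀ lo k, k ≤ t → Nat.card (win y lo (lo + k)) = p ^ k) ∧
      (∀ i, orderOf (y i) = p) ∧
      1 ≤ u ∧ u ≤ t ∧ 2 * u ≤ t + n ∧ 2 * t ≤ 3 * u ∧
      (∀ i j, i ≤ j + (u - 1) → j ≤ i + (u - 1) → Commute (y i) (y j)) ∧
      (u = t ∨ ¬ Commute (y 0) (y u)) := by
  classical
  haveI : Fact p.Prime := ⟨hp⟩
  set D := chain σ P with hD
  have hcardσ : ∀ H : Subgroup G, Nat.card (H.map σ.toMonoidHom) = Nat.card H := fun H =>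
    Subgroup.card_map_of_injective σ.injective
  have hsub : ∀ k, D (k + 1) ≤ (D k).map σ.toMonoidHom := fun k => inf_le_right
  have hσsub : ∀ k, (D (k + 1)).map σ.toMonoidHom ≤ (D k).map σ.toMonoidHom := fun k =>
    Subgroup.map_mono inf_le_left
  -- a step is normal of index dividing `p`
  have hstep : ∀ k, (∀ l ∈ (D k).map σ.toMonoidHom, ∀ d ∈ D (k + 1), l * d * l⁻¹ ∈ D (k + 1)) ∧
      (Nat.card (D (k + 1)) = Nat.card (D k) ∨ Nat.card (D (k + 1)) * p = Nat.card (D k)) := by
    intro k
    have hLP : (D k).map σ.toMonoidHom ≤ P.map σ.toMonoidHom := Subgroup.map_mono (chain_le σ P k)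
    have heq : D (k + 1) = (P ⊓ P.map σ.toMonoidHom) ⊓ (D k).map σ.toMonoidHom := by
      rw [inf_assoc, inf_eq_right.2 hLP]
      exact chain_succ' σ P k
    constructor
    · intro l hl d hd
      rw [heq] at hd ⊢
      rw [Subgroup.mem_inf] at hd ⊢
      exact ⟨hN.conj_mem ⟨d, (Subgroup.mem_inf.1 hd.1).2⟩
          (by rw [Subgroup.mem_subgroupOf]; exact hd.1) ⟨l, hLP hl⟩,
        mul_mem (mul_mem hl hd.2) (inv_mem hl)⟩
    · haveI := hN
      have hdvd : (D (k + 1)).relIndex ((D k).map σ.toMonoidHom) ∣ p := by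
        rw [heq, Subgroup.inf_relIndex_right, ← hidx]
        have h3 := Subgroup.relIndex_dvd_index_of_normal
          ((P ⊓ P.map σ.toMonoidHom).subgroupOf (P.map σ.toMonoidHom))
          (((D k).map σ.toMonoidHom).subgroupOf (P.map σ.toMonoidHom))
        rwa [Subgroup.relIndex_subgroupOf hLP] at h3
      have h4 := Subgroup.card_mul_index ((D (k + 1)).subgroupOf ((D k).map σ.toMonoidHom))
      rw [Nat.card_congr (Subgroup.subgroupOfEquivOfLe (hsub k)).toEquiv, hcardσ] at h4
      change Nat.card (D (k + 1)) * (D (k + 1)).relIndex ((D k).map σ.toMonoidHom) = _ at h4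
      rcases (Nat.dvd_prime hp).1 hdvd with h | h
      · exact Or.inl (by rw [← h4, h, mul_one])
      · exact Or.inr (by rw [← h4, h])
  -- stabilisation
  have hex : ∃ k, Nat.card (D (k + 1)) = Nat.card (D k) := by
    by_contra hne
    push Not at hne
    have hdec : ∀ k, Nat.card (D k) + k ≤ Nat.card P := by
      intro k
      induction k with
      | zero => simp [hD, chain]
      | succ k ih =>
        have h5 := Nat.le_of_dvd Nat.card_pos (Subgroup.card_dvd_of_le
          (show D (k + 1) ≤ D k from inf_le_left))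
        have := hne k
        omega
    have := hdec (Nat.card P)
    have h6 : 0 < Nat.card (D (Nat.card P)) := Nat.card_pos
    omega
  set t := Nat.find hex with ht
  have htspec : Nat.card (D (t + 1)) = Nat.card (D t) := Nat.find_spec hex
  have hdrop : ∀ k, k < t → Nat.card (D (k + 1)) * p = Nat.card (D k) := fun k hk =>
    (hstep k).2.resolve_left (Nat.find_min hex hk)
  have hstab : D (t + 1) = D t := Subgroup.eq_of_le_of_card_ge inf_le_left htspec.ge
  have hinv : (D t).map σ.toMonoidHom = D t := by
    have : D t ≤ (D t).map σ.toMonoidHom := hstab ▸ hsub t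
    exact (Subgroup.eq_of_le_of_card_ge this (hcardσ _).le).symm
  -- generation of each step by the two smaller translates
  have hgen : ∀ j, j + 1 < t →
      D (j + 1) ⊔ (D (j + 1)).map σ.toMonoidHom = (D j).map σ.toMonoidHom := by
    intro j hj
    have hle : D (j + 1) ⊔ (D (j + 1)).map σ.toMonoidHom ≤ (D j).map σ.toMonoidHom :=
      sup_le (hsub j) (hσsub j)
    refine Subgroup.eq_of_le_of_card_ge hle ?_
    rw [hcardσ, ← hdrop j (by omega)]
    obtain ⟨q, hq⟩ := Subgroup.card_dvd_of_le (le_sup_left :
      D (j + 1) ≤ D (j + 1) ⊔ (D (j + 1)).map σ.toMonoidHom)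
    have hdvd2 : q ∣ p := by
      have h7 := Subgroup.card_dvd_of_le hle
      rw [hcardσ, ← hdrop j (by omega), hq] at h7
      exact Nat.dvd_of_mul_dvd_mul_left Nat.card_pos h7
    rcases (Nat.dvd_prime hp).1 hdvd2 with h | h
    · exfalso
      rw [h, mul_one] at hq
      have he := Subgroup.eq_of_le_of_card_ge le_sup_left hq.le
      have h8 : (D (j + 1)).map σ.toMonoidHom ≤ D (j + 1) := le_sup_right.trans he.ge
      have h9 : D (j + 2) = D (j + 1) :=
        inf_eq_left.2 (Subgroup.eq_of_le_of_card_ge h8 (hcardσ _).ge).ge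
      exact Nat.find_min hex hj (by rw [h9])
    · rw [hq, h]
  -- the stable term is normal in `P`
  have hNormD : ∀ j, j ≤ t → D j ≤ Subgroup.normalizer (D t : Set G) := by
    have hnorm_map : ∀ H : Subgroup G, H ≤ Subgroup.normalizer (D t : Set G) →
        H.map σ.toMonoidHom ≤ Subgroup.normalizer (D t : Set G) := by
      intro H hH
      refine (Subgroup.map_mono hH).trans ?_
      rw [Subgroup.map_equiv_normalizer_eq (D t) σ, hinv]
    have hpull : ∀ H : Subgroup G, H.map σ.toMonoidHom ≤ Subgroup.normalizer (D t : Set G) →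
        H ≤ Subgroup.normalizer (D t : Set G) := by
      intro H hH x hx
      have := hH (Subgroup.mem_map_of_mem σ.toMonoidHom hx)
      rw [← hinv, ← Subgroup.map_equiv_normalizer_eq (D t) σ] at this
      obtain ⟨x', hx', he⟩ := this
      exact σ.injective he ▸ hx'
    intro j hj
    induction hjd : t - j generalizing j with
    | zero =>
      obtain rfl : j = t := by omega
      exact Subgroup.le_normalizer
    | succ m ih =>
      have ih' := ih (j + 1) (by omega) (by omega)
      apply hpull
      rcases Nat.lt_or_ge (j + 1) t with h | h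
      · rw [← hgen j h]
        exact sup_le ih' (hnorm_map _ ih')
      · have htj : j + 1 = t := by omega
        rw [← htj]
        intro l hl
        rw [Subgroup.mem_normalizer_iff]
        intro d
        refine ⟨fun hd => (hstep j).1 l hl d hd, fun hd => ?_⟩
        have := (hstep j).1 l⁻¹ (inv_mem hl) _ hd
        simpa [mul_assoc] using this
  have hDbot : D t = ⊥ := h1 _ (chain_le σ P t)
    ((Subgroup.normal_subgroupOf_iff_le_normalizer (chain_le σ P t)).2 (hNormD 0 (Nat.zero_le _)))
    hinv
  have hcardD : ∀ m, m ≤ t → Nat.card (D (t - m)) = p ^ m := by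
    intro m hm
    induction m with
    | zero => simp [hDbot]
    | succ m ih =>
      rw [← hdrop (t - (m + 1)) (by omega), show t - (m + 1) + 1 = t - m by omega,
        ih (by omega), pow_succ]
  have hPcard : Nat.card P = p ^ t := by
    have := hcardD t le_rfl
    rwa [Nat.sub_self] at this
  have ht1 : 1 ≤ t := by
    by_contra h0
    have h0' : t = 0 := by omega
    have hPbot : Nat.card P = 1 := by rw [hPcard, h0', pow_zero]
    have h10 := Subgroup.relIndex_dvd_card (P ⊓ P.map σ.toMonoidHom) (P.map σ.toMonoidHom)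
    rw [hidx, hcardσ, hPbot] at h10
    exact hp.one_lt.ne' (Nat.dvd_one.1 h10)
  have htop : Nat.card (D (t - 1)) = p := by rw [hcardD 1 ht1, pow_one]
  obtain ⟨x, hx1⟩ := exists_prime_orderOf_dvd_card' (G := D (t - 1)) p (by rw [htop])
  have hxord : orderOf (x : G) = p := by rw [Subgroup.orderOf_coe, hx1]
  have hxgen : D (t - 1) = Subgroup.zpowers (x : G) := by
    symm
    apply Subgroup.eq_of_le_of_card_ge (Subgroup.zpowers_le.2 x.2)
    rw [Nat.card_zpowers, hxord, htop]
  set y : ℕ → G := fun i => (σ ^ i) ((σ ^ (t - 1)).symm (x : G)) with hy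
  have hyσ : ∀ i, σ (y i) = y (i + 1) := fun i => by simp [hy, pow_succ', MulAut.mul_apply]
  have hmapwin : ∀ lo hi, (win y lo hi).map σ.toMonoidHom = win y (lo + 1) (hi + 1) := by
    intro lo hi
    apply le_antisymm
    · rw [Subgroup.map_le_iff_le_comap]
      refine win_le fun k h1 h2 => ?_
      change σ (y k) ∈ win y (lo + 1) (hi + 1)
      rw [hyσ]
      exact mem_win (by omega) (by omega)
    · refine win_le fun k h1 h2 => ⟨y (k - 1), mem_win (by omega) (by omega), ?_⟩
      change σ (y (k - 1)) = y k
      rw [hyσ]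
      congr 1
      omega
  have hwin : ∀ m, 1 ≤ m → m ≤ t → D (t - m) = win y (t - m) t := by
    intro m hm hmt
    induction m, hm using Nat.le_induction with
    | base =>
      rw [hxgen, Subgroup.zpowers_eq_closure, win]
      congr 1
      have hIco : Set.Ico (t - 1) t = {t - 1} := by
        ext k
        simp only [Set.mem_Ico, Set.mem_singleton_iff]
        omega
      rw [hIco, Set.image_singleton]
      simp [hy]
    | succ m hm ih =>
      have hj : t - (m + 1) + 1 = t - m := by omega
      have h11 := hgen (t - (m + 1)) (by omega)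
      rw [hj, ih (by omega), hmapwin] at h11
      apply Subgroup.map_injective (f := σ.toMonoidHom) σ.injective
      change (D (t - (m + 1))).map σ.toMonoidHom = (win y (t - (m + 1)) t).map σ.toMonoidHom
      rw [← h11, hmapwin]
      apply le_antisymm
      · exact sup_le (win_mono (by omega) (by omega)) (win_mono (by omega) (by omega))
      · refine win_le fun k h1 h2 => ?_
        by_cases hk : k < t
        · exact Subgroup.mem_sup_left (mem_win (by omega) hk)
        · exact Subgroup.mem_sup_right (mem_win (by omega) (by omega))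
  have hPwin : P = win y 0 t := by
    have := hwin t ht1 le_rfl
    rwa [Nat.sub_self] at this
  have hwc : ∀ lo k, Nat.card (win y (lo + 1) (k + 1)) = Nat.card (win y lo k) := fun lo k => by
    rw [← hmapwin, hcardσ]
  have hwin0 : ∀ k, k ≤ t → Nat.card (win y 0 k) = p ^ k := by
    intro k hk
    rcases Nat.eq_zero_or_pos k with rfl | hk0
    · have : win y 0 0 = ⊥ := le_bot_iff.1 (win_le fun i _ h => absurd h (Nat.not_lt_zero i))
      simp [this]
    have hshift : ∀ s, Nat.card (win y s (s + k)) = Nat.card (win y 0 k) := by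
      intro s
      induction s with
      | zero => rw [Nat.zero_add]
      | succ s ih => rw [show s + 1 + k = s + k + 1 by omega, hwc, ih]
    rw [← hshift (t - k), Nat.sub_add_cancel hk, ← hwin k hk0 hk, hcardD k hk]
  have hord0 : orderOf (y 0) = p := by
    have : y 0 = (σ ^ (t - 1)).symm (x : G) := by simp [hy]
    rw [this, ← hxord]
    exact orderOf_injective (σ ^ (t - 1)).symm.toMonoidHom (σ ^ (t - 1)).symm.injective _
  have hcentre : ∀ k, k < t → ¬ ∀ j, j < t + n → Commute (y k) (y j) := by
    intro k hk hall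
    have hkP : y k ∈ P := hPwin ▸ mem_win (Nat.zero_le _) hk
    have h12 : y k = 1 := by
      refine h2 _ hkP fun i hi z hz => ?_
      rw [hPwin] at hz
      have : (σ ^ i) z ∈ win y i (i + t) := by
        refine (show win y 0 t ≤ (win y i (i + t)).comap (σ ^ i).toMonoidHom from
          win_le fun j h1 h2 => ?_) hz
        change (σ ^ i) (y j) ∈ win y i (i + t)
        rw [show (σ ^ i) (y j) = y (i + j) by simp [hy, pow_add, MulAut.mul_apply]]
        exact mem_win (by omega) (by omega)
      exact (win_commute this fun j h1 h2 => (hall j (by omega)).symm).symm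
    have : y k = (σ ^ k) (y 0) := by simp [hy]
    rw [this, map_eq_one_iff (σ ^ k) (σ ^ k).injective] at h12
    rw [h12, orderOf_one] at hord0
    exact hp.one_lt.ne hord0
  obtain ⟨u, hu⟩ := bound_of_windows p t n hp ht1 hn σ y hyσ hord0 hwin0 hcentre
  refine ⟨t, y, u, hPcard, ht1, hyσ, hPwin, ?_, ?_, hu⟩
  · intro lo k hk
    induction lo with
    | zero => rw [Nat.zero_add]; exact hwin0 k hk
    | succ s ih => rw [show s + 1 + k = s + k + 1 by omega, hwc, ih]
  · intro i
    rw [show y i = (σ ^ i) (y 0) by simp [hy], ← hord0]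
    exact orderOf_injective (σ ^ i).toMonoidHom (σ ^ i).injective _

/-- Glauberman's bound. -/
theorem order_bound [Finite G] (P : Subgroup G) (σ : MulAut G) (p n : ℕ) (hp : p.Prime)
    (hn : 1 ≤ n)
    (hN : ((P ⊓ P.map σ.toMonoidHom).subgroupOf (P.map σ.toMonoidHom)).Normal)
    (hidx : (P ⊓ P.map σ.toMonoidHom).relIndex (P.map σ.toMonoidHom) = p)
    (h1 : ∀ Q : Subgroup G, Q ≤ P → (Q.subgroupOf P).Normal → Q.map σ.toMonoidHom = Q → Q = ⊥)
    (h2 : ∀ z ∈ P, (∀ i, i ≤ n → ∀ x ∈ P, Commute z ((σ ^ i) x)) → z = 1) :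
    ∃ t : ℕ, Nat.card P = p ^ t ∧ 1 ≤ t ∧ t ≤ 3 * n ∧ t ≠ 3 * n - 1 := by
  obtain ⟨t, y, u, hP, ht, -, -, -, -, hu1, hut, hhi, hlo, -, -⟩ :=
    order_data P σ p n hp hn hN hidx h1 h2
  exact ⟨t, hP, ht, by omega, by omega⟩

end Cfsg.Agent.ShiftChain
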