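import Cfsg.Statements.S3385
import Cfsg.Agent.ShiftChain

set_option autoImplicit false
open Cfsg

namespace Cfsg.Agent.S3385

open Cfsg.Agent.ShiftChain in
/-- The two elementary abelian subgroups of order sixteen of the middle window are interchanged or fixed together. -/
theorem six_pair {G : Type*} [Group G] [Finite G] (s : ℕ → G) (σ : MulAut G)
    (hσ : ∀ i, σ (s i) = s (i + 1))
    (hcard : ∀ lo k, k ≤ 6 → Nat.card (win s lo (lo + k)) = 2 ^ k) (hord : ∀ i, orderOf (s i) = 2)
    (hnear : ∀ i j, i ≤ j + 3 → j ≤ i + 3 → Commute (s i) (s j))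
    (hfar : ¬ Commute (s 0) (s 4)) :
    (∀ g : G, (∀ q ∈ win s 1 6, g * q * g⁻¹ ∈ win s 1 6) →
      (∀ q ∈ win s 1 5, g * q * g⁻¹ ∈ win s 1 5) → ∀ q ∈ win s 2 6, g * q * g⁻¹ ∈ win s 2 6) ∧
    (∀ g : G, (∀ q ∈ win s 1 6, g * q * g⁻¹ ∈ win s 1 6) →
      (∀ q ∈ win s 2 6, g * q * g⁻¹ ∈ win s 2 6) → ∀ q ∈ win s 1 5, g * q * g⁻¹ ∈ win s 1 5) := by
  classical
  set L₁ := win s 1 5 with hL1
  set L₅ := win s 2 6 with hL5
  set Q := win s 1 6 with hQdef
  have hcQ : Nat.card Q = 32 := hcard 1 5 (by omega)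
  have hc1 : Nat.card L₁ = 16 := hcard 1 4 (by omega)
  have hc5 : Nat.card L₅ = 16 := hcard 2 4 (by omega)
  have hcz : Nat.card (win s 2 5) = 8 := hcard 2 3 (by omega)
  have hshift : ∀ i j, Commute (s i) (s j) ↔ Commute (s (i + 1)) (s (j + 1)) := fun i j => by
    rw [← hσ i, ← hσ j]
    exact ⟨fun h => h.map σ.toMonoidHom, fun h => by simpa using h.map σ.symm.toMonoidHom⟩
  have hfar15 : ¬ Commute (s 1) (s 5) := fun h => hfar ((hshift 0 4).2 h)
  have hz : ∀ z ∈ win s 2 5, ∀ q ∈ Q, Commute z q := fun z hz' q hq =>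
    win_commute hz' fun k h1 h2 => (win_commute hq fun j j1 j2 => hnear j k (by omega) (by omega)).symm
  have hz2 : ∀ z ∈ win s 2 5, z ^ 2 = 1 := by
    intro z hz'
    induction hz' using Subgroup.closure_induction with
    | mem a ha =>
      obtain ⟨k, -, rfl⟩ := ha
      rw [← hord k, pow_orderOf_eq_one]
    | one => simp
    | mul a b ha hb iha ihb =>
      rw [(hz a ha b (win_mono (by omega) (by omega) hb)).mul_pow, iha, ihb, one_mul]
    | inv a _ iha => rw [inv_pow, iha, inv_one]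
  have hs1L5 : s 1 ∉ L₅ := fun h => by
    have h1 : Q ≤ L₅ := win_le fun k k1 k2 => by
      rcases Nat.lt_or_ge k 2 with hk | hk
      · rwa [show k = 1 by omega]
      · exact mem_win hk k2
    have := Subgroup.card_dvd_of_le h1
    rw [hcQ, hc5] at this
    omega
  have hs5L1 : s 5 ∉ L₁ := fun h => by
    have h1 : Q ≤ L₁ := win_le fun k k1 k2 => by
      rcases Nat.lt_or_ge k 5 with hk | hk
      · exact mem_win k1 hk
      · rwa [show k = 5 by omega]
    have := Subgroup.card_dvd_of_le h1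
    rw [hcQ, hc1] at this
    omega
  have hidx : ∀ A B : Subgroup G, A ≤ B → Nat.card B = 2 * Nat.card A →
      (A.subgroupOf B).index = 2 := by
    intro A B hAB hc
    have h1 := Subgroup.card_mul_index (A.subgroupOf B)
    rw [Nat.card_congr (Subgroup.subgroupOfEquivOfLe hAB).toEquiv, hc, mul_comm 2] at h1
    exact Nat.eq_of_mul_eq_mul_left Nat.card_pos h1
  -- the elementary abelian subgroups of order sixteen
  have hclass : ∀ E : Subgroup G, E ≤ Q → Nat.card E = 16 → (∀ a ∈ E, a ^ 2 = 1) →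
      E = L₁ ∨ E = L₅ := by
    intro E hEQ hcE hE2
    by_contra hne
    push Not at hne
    obtain ⟨a, ha, haL⟩ : ∃ a ∈ E, a ∉ L₁ :=
      SetLike.not_le_iff_exists.1 fun h => hne.1 (Subgroup.eq_of_le_of_card_ge h (by rw [hcE, hc1]))
    obtain ⟨b, hb, hbL⟩ : ∃ b ∈ E, b ∉ L₅ :=
      SetLike.not_le_iff_exists.1 fun h => hne.2 (Subgroup.eq_of_le_of_card_ge h (by rw [hcE, hc5]))
    obtain ⟨c, hc, hc1', hc5'⟩ : ∃ c ∈ E, c ∉ L₁ ∧ c ∉ L₅ := by
      by_cases h1 : a ∈ L₅
      · by_cases h2 : b ∈ L₁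
        · refine ⟨a * b, mul_mem ha hb, fun h => haL ?_, fun h => hbL ?_⟩
          · have := mul_mem h (inv_mem h2); rwa [mul_inv_cancel_right] at this
          · have := mul_mem (inv_mem h1) h; rwa [inv_mul_cancel_left] at this
        · exact ⟨b, hb, h2, hbL⟩
      · exact ⟨a, ha, haL, h1⟩
    have hs5Q : s 5 ∈ Q := mem_win (by omega) (by omega)
    have h1 : c * (s 5)⁻¹ ∈ L₁ := by
      have := (Subgroup.mul_mem_iff_of_index_two
        (hidx L₁ Q (win_mono le_rfl (by omega)) (by rw [hcQ, hc1])) (a := ⟨c, hEQ hc⟩)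
        (b := ⟨(s 5)⁻¹, inv_mem hs5Q⟩)).2 (iff_of_false hc1' (fun h => hs5L1 (by simpa using inv_mem (show (s 5)⁻¹ ∈ L₁ from h))))
      exact this
    have h2 : c * (s 5)⁻¹ ∉ win s 2 5 := fun h => hc5' (by
      have := mul_mem (win_mono le_rfl (show 5 ≤ 6 by omega) h : c * (s 5)⁻¹ ∈ L₅)
        (mem_win (y := s) (show 2 ≤ 5 by omega) (show 5 < 6 by omega))
      rwa [inv_mul_cancel_right] at this)
    have h3 : (s 1)⁻¹ * (c * (s 5)⁻¹) ∈ win s 2 5 := by
      have := (Subgroup.mul_mem_iff_of_index_two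
        (hidx (win s 2 5) L₁ (win_mono (by omega) le_rfl) (by rw [hc1, hcz]))
        (a := ⟨(s 1)⁻¹, inv_mem (mem_win le_rfl (by omega))⟩) (b := ⟨_, h1⟩)).2
        (iff_of_false (fun h => hs1L5 (win_mono le_rfl (by omega)
          (by simpa using inv_mem (show (s 1)⁻¹ ∈ win s 2 5 from h) : s 1 ∈ win s 2 5))) h2)
      exact this
    set z := (s 1)⁻¹ * (c * (s 5)⁻¹)
    have hc' : c = s 1 * s 5 * z := by
      rw [mul_assoc, ← (hz z h3 (s 5) hs5Q).eq]
      simp [z, mul_assoc]
    have hsq : (s 1 * s 5) ^ 2 = 1 := by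
      have := hE2 c hc
      rw [hc', (hz z h3 _ (mul_mem (mem_win (by omega) (by omega)) hs5Q)).symm.mul_pow,
        hz2 z h3, mul_one] at this
      exact this
    apply hfar15
    have e1 : (s 1)⁻¹ = s 1 := by
      rw [inv_eq_iff_mul_eq_one, ← sq, ← hord 1, pow_orderOf_eq_one]
    have e5 : (s 5)⁻¹ = s 5 := by
      rw [inv_eq_iff_mul_eq_one, ← sq, ← hord 5, pow_orderOf_eq_one]
    rw [sq] at hsq
    have h4 := eq_inv_of_mul_eq_one_left hsq
    rw [mul_inv_rev, e1, e5] at h4
    exact h4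
  have hexp : ∀ lo, ∀ a ∈ win s lo (lo + 4), a ^ 2 = 1 := by
    intro lo a ha
    induction ha using Subgroup.closure_induction with
    | mem a ha =>
      obtain ⟨k, -, rfl⟩ := ha
      rw [← hord k, pow_orderOf_eq_one]
    | one => simp
    | mul a b ha hb iha ihb =>
      have : Commute a b := win_commute ha fun k k1 k2 =>
        (win_commute hb fun j j1 j2 => hnear j k (by omega) (by omega)).symm
      rw [this.mul_pow, iha, ihb, one_mul]
    | inv a _ iha => rw [inv_pow, iha, inv_one]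
  have hne15 : L₁ ≠ L₅ := fun h => hs1L5 (h ▸ mem_win le_rfl (by omega))
  have himg : ∀ g : G, (∀ q ∈ Q, g * q * g⁻¹ ∈ Q) → ∀ lo, 1 ≤ lo → lo ≤ 2 →
      (win s lo (lo + 4)).map (MulAut.conj g).toMonoidHom = L₁ ∨
        (win s lo (lo + 4)).map (MulAut.conj g).toMonoidHom = L₅ := by
    intro g hg lo h1 h2
    refine hclass _ ?_ ?_ ?_
    · rintro _ ⟨a, ha, rfl⟩
      exact hg a (win_mono (by omega) (by omega) ha)
    · rw [Subgroup.card_map_of_injective (MulAut.conj g).injective, hcard lo 4 (by omega)]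
      rfl
    · rintro _ ⟨a, ha, rfl⟩
      rw [← map_pow, hexp lo a ha, map_one]
  have hfixed : ∀ (g : G) (L : Subgroup G), (∀ q ∈ L, g * q * g⁻¹ ∈ L) →
      L.map (MulAut.conj g).toMonoidHom = L := fun g L hL => by
    refine Subgroup.eq_of_le_of_card_ge ?_ (Subgroup.card_map_of_injective (MulAut.conj g).injective).ge
    rintro _ ⟨a, ha, rfl⟩
    exact hL a ha
  refine ⟨fun g hg h1 q hq => ?_, fun g hg h5 q hq => ?_⟩
  · rcases himg g hg 2 (by omega) le_rfl with h | h
    · exact absurd (Subgroup.map_injective (f := (MulAut.conj g).toMonoidHom) (MulAut.conj g).injective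
        (h.trans (hfixed g L₁ h1).symm)).symm hne15
    · exact h.le ⟨q, hq, rfl⟩
  · rcases himg g hg 1 le_rfl (by omega) with h | h
    · exact h.le ⟨q, hq, rfl⟩
    · exact absurd (Subgroup.map_injective (f := (MulAut.conj g).toMonoidHom) (MulAut.conj g).injective
        (h.trans (hfixed g L₅ h5).symm)) hne15

/-- Sims' Theorem on primitive groups with a suborbit of length 3. Let G be a finite group acting faithfully and primitively on a set Ω, and suppose the stabilizer of a point a has an orbit of length 3 on Ω. Then the stabilizer of a has order 2^k · 3 for some k ≤ 4. -/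
theorem result {G : Type*} [Group G] [Finite G] {Ω : Type*} [MulAction G Ω] [FaithfulSMul G Ω]
    (hprim : MulAction.IsPreprimitive G Ω) (a b : Ω)
    (h3 : Nat.card (MulAction.orbit (MulAction.stabilizer G a) b) = 3) :
    ∃ k : ℕ, k ≤ 4 ∧ Nat.card ↥(MulAction.stabilizer G a) = 2 ^ k * 3 := by
  classical
  haveI : Fact (Nat.Prime 2) := ⟨Nat.prime_two⟩
  haveI := hprim
  have hab : b ≠ a := fun h => by
    subst h
    have : MulAction.orbit (MulAction.stabilizer G b) b = {b} := by
      ext c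
      simp only [MulAction.mem_orbit_iff, Set.mem_singleton_iff]
      exact ⟨fun ⟨g, hg⟩ => hg.symm.trans g.2, fun h => ⟨1, by rw [h, one_smul]⟩⟩
    rw [this] at h3
    simp at h3
  haveI : Nontrivial Ω := ⟨b, a, hab⟩
  set A := MulAction.stabilizer G a with hA
  set B := MulAction.stabilizer G b with hB
  set P := A ⊓ B with hP
  have hPA : P ≤ A := inf_le_left
  have hPB : P ≤ B := inf_le_right
  have hcardA : Nat.card A = Nat.card P * 3 := by
    have h1 := Subgroup.card_mul_index (MulAction.stabilizer A b)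
    rw [MulAction.index_stabilizer, ← Nat.card_coe_set_eq, h3] at h1
    rw [← h1]
    congr 1
    have h2 : MulAction.stabilizer A b = P.subgroupOf A := by
      ext x
      rw [Subgroup.mem_subgroupOf, MulAction.mem_stabilizer_iff]
      exact ⟨fun h => ⟨x.2, h⟩, fun h => h.2⟩
    rw [h2, Nat.card_congr (Subgroup.subgroupOfEquivOfLe hPA).toEquiv]
  obtain ⟨g₀, hg₀⟩ := MulAction.exists_smul_eq G a b
  have hstab : ∀ g : G, ∀ x : Ω, (MulAction.stabilizer G x).map (MulAut.conj g).toMonoidHom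
      = MulAction.stabilizer G (g • x) := fun g x => (MulAction.stabilizer_smul_eq_stabilizer_map_conj g x).symm
  have hcardB : Nat.card B = Nat.card P * 3 := by
    rw [← hcardA, hA, hB, ← hg₀, ← hstab g₀ a, Subgroup.card_map_of_injective (MulAut.conj g₀).injective]
  have hbot : ∀ N : Subgroup G, (∀ x : G, ∀ m ∈ N, x * m * x⁻¹ ∈ N) → N ≤ A → N = ⊥ := by
    intro N hN hNA
    rw [eq_bot_iff]
    intro m hm
    refine Subgroup.mem_bot.2 (FaithfulSMul.eq_of_smul_eq_smul (α := Ω) fun c => ?_)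
    obtain ⟨x, rfl⟩ := MulAction.exists_smul_eq G a c
    have h1 : (x⁻¹ * m * x⁻¹⁻¹) • a = a := hNA (hN x⁻¹ m hm)
    rw [inv_inv] at h1
    calc m • x • a = x • (x⁻¹ * m * x) • a := by rw [← mul_smul, ← mul_smul]; group
      _ = (1 : G) • x • a := by rw [h1, one_smul]
  have hcoA : IsCoatom A := MulAction.IsPreprimitive.isCoatom_stabilizer_of_isPreprimitive G a
  have hcoB : IsCoatom B := MulAction.IsPreprimitive.isCoatom_stabilizer_of_isPreprimitive G b
  have hAB : A ≠ B → A ⊔ B = ⊤ := fun h => by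
    refine hcoA.2 _ (lt_of_le_of_ne le_sup_left fun h' => h ?_)
    have hBA : B ≤ A := h'.symm ▸ le_sup_right
    exact (eq_or_lt_of_le hBA).elim Eq.symm fun hlt => absurd (hcoB.2 A hlt) hcoA.1
  have hnorm2 : ∀ (N : Subgroup G), (∀ x ∈ A, ∀ m ∈ N, x * m * x⁻¹ ∈ N) →
      (∀ x ∈ B, ∀ m ∈ N, x * m * x⁻¹ ∈ N) → N ≤ A → A ≠ B → N = ⊥ := by
    intro N h1 h2 hNA hne
    refine hbot N (fun x m hm => ?_) hNA
    have key : ∀ x : G, (∀ m ∈ N, x * m * x⁻¹ ∈ N) → x ∈ Subgroup.normalizer (N : Set G) := by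
      intro x hx
      have he : N.map (MulAut.conj x).toMonoidHom = N := by
        refine Subgroup.eq_of_le_of_card_ge ?_ (Subgroup.card_map_of_injective (MulAut.conj x).injective).ge
        rintro _ ⟨m, hm, rfl⟩
        exact hx m hm
      rw [Subgroup.mem_normalizer_iff]
      intro m
      refine ⟨fun hm => hx m hm, fun hm => ?_⟩
      obtain ⟨m', hm', he'⟩ := he.ge hm
      have : m' = m := by simpa using he'
      exact this ▸ hm'
    have hle : A ⊔ B ≤ Subgroup.normalizer (N : Set G) :=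
      sup_le (fun y hy => key y (h1 y hy)) (fun y hy => key y (h2 y hy))
    rw [hAB hne] at hle
    exact (Subgroup.mem_normalizer_iff.1 (hle (Subgroup.mem_top x)) m).1 hm
  by_cases hP1 : P = ⊥
  · exact ⟨0, Nat.zero_le _, by rw [hcardA, hP1, Subgroup.card_bot, pow_zero]⟩
  have hne : A ≠ B := by
    intro h
    have hPA' : P = A := by rw [hP, ← h, inf_idem]
    have h1 : Nat.card P = Nat.card A := by rw [hPA']
    have h2 : 0 < Nat.card P := Nat.card_pos
    omega
  -- `P` is a 2-group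
  have horb : ∀ (S : Subgroup G) (c : Ω), Nat.card (MulAction.orbit S c) = 3 →
      ∀ x ∈ S, Odd (orderOf x) → x • c = c → ∀ h ∈ S, x • h • c = h • c := by
    intro S c hS x hxS hxo hxc h hh
    by_cases he : h • c = c
    · rw [he, hxc]
    have hsq : x • x • h • c = h • c := by
      by_cases h1 : x • h • c = h • c
      · rw [h1, h1]
      by_contra h2
      have hmem : ∀ k ∈ S, k • c ∈ MulAction.orbit S c := fun k hk => ⟨⟨k, hk⟩, rfl⟩
      let F : Fin 4 → MulAction.orbit S c := ![⟨c, MulAction.mem_orbit_self c⟩, ⟨h • c, hmem h hh⟩,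
        ⟨x • h • c, by rw [← mul_smul]; exact hmem _ (mul_mem hxS hh)⟩,
        ⟨x • x • h • c, by rw [← mul_smul, ← mul_smul]; exact hmem _ (mul_mem (mul_mem hxS hxS) hh)⟩]
      have h01 : c ≠ x • h • c := fun h' => he (MulAction.injective x (h'.symm.trans hxc.symm))
      have h03 : c ≠ x • x • h • c := fun h' => h01 (MulAction.injective x (hxc.trans h'))
      have h23 : x • h • c ≠ x • x • h • c := fun h' => h1 (MulAction.injective x h').symm
      have hF : Function.Injective F := by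
        intro i j hij
        have hij' := congrArg Subtype.val hij
        fin_cases i <;> fin_cases j <;> simp [F] at hij' ⊢
        all_goals first
          | exact absurd hij'.symm he | exact absurd hij' he
          | exact absurd hij' h01 | exact absurd hij'.symm h01
          | exact absurd hij' h03 | exact absurd hij'.symm h03
          | exact absurd hij' h1 | exact absurd hij'.symm h1
          | exact absurd hij' h2 | exact absurd hij'.symm h2
          | exact absurd hij' h23 | exact absurd hij'.symm h23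
      haveI : Finite (MulAction.orbit S c) := Nat.finite_of_card_ne_zero (by omega)
      have := Nat.card_le_card_of_injective F hF
      rw [Nat.card_fin, hS] at this
      omega
    obtain ⟨j, hj⟩ := hxo
    have hx2 : x ^ 2 ∈ MulAction.stabilizer G (h • c) := by
      rw [MulAction.mem_stabilizer_iff, sq, mul_smul, hsq]
    have hxe : x = (x ^ 2) ^ (j + 1) := by
      rw [← pow_mul, show 2 * (j + 1) = orderOf x + 1 by omega, pow_succ, pow_orderOf_eq_one, one_mul]
    rw [hxe]
    exact pow_mem hx2 _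
  have horbB : Nat.card (MulAction.orbit B a) = 3 := by
    have h1 := Subgroup.card_mul_index (MulAction.stabilizer B a)
    rw [MulAction.index_stabilizer, ← Nat.card_coe_set_eq] at h1
    have h2 : MulAction.stabilizer B a = P.subgroupOf B := by
      ext x
      rw [Subgroup.mem_subgroupOf, MulAction.mem_stabilizer_iff]
      exact ⟨fun h => ⟨h, x.2⟩, fun h => h.1⟩
    rw [h2, Nat.card_congr (Subgroup.subgroupOfEquivOfLe hPB).toEquiv, hcardB] at h1
    exact Nat.eq_of_mul_eq_mul_left Nat.card_pos h1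
  set M := Subgroup.closure {x : G | x ∈ P ∧ Odd (orderOf x)} with hM
  have hMbot : M = ⊥ := by
    have hgen : ∀ (S : Subgroup G) (c : Ω), Nat.card (MulAction.orbit S c) = 3 →
        (∀ x, x ∈ P ↔ x ∈ S ∧ x • c = c) → ∀ h ∈ S, ∀ m ∈ M, h * m * h⁻¹ ∈ M := by
      intro S c hS hiff h hh m hm
      have hle : M ≤ M.comap (MulAut.conj h).toMonoidHom := by
        rw [hM, Subgroup.closure_le]
        rintro x ⟨hx, hxo⟩
        obtain ⟨hxS, hxc⟩ := (hiff x).1 hx
        refine Subgroup.subset_closure ⟨(hiff _).2 ⟨mul_mem (mul_mem hh hxS) (inv_mem hh), ?_⟩, ?_⟩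
        · have h1 := horb S c hS x hxS hxo hxc h⁻¹ (inv_mem hh)
          show (h * x * h⁻¹) • c = c
          rw [mul_smul, mul_smul, h1, smul_inv_smul]
        · show Odd (orderOf ((MulAut.conj h) x))
          rwa [show orderOf ((MulAut.conj h) x) = orderOf x from
            orderOf_injective (MulAut.conj h).toMonoidHom (MulAut.conj h).injective x]
      exact hle hm
    refine hnorm2 M (hgen A b h3 fun x => ?_) (hgen B a horbB fun x => ?_) ?_ hne
    · exact ⟨fun h => ⟨h.1, h.2⟩, fun h => ⟨h.1, h.2⟩⟩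
    · exact ⟨fun h => ⟨h.2, h.1⟩, fun h => ⟨h.2, h.1⟩⟩
    · exact (Subgroup.closure_le _).2 fun x hx => hx.1.1
  have hP2 : IsPGroup 2 P := by
    intro x
    obtain ⟨k, m, hm, hkm⟩ := Nat.exists_eq_two_pow_mul_odd (orderOf_pos (x : G)).ne'
    refine ⟨k, Subtype.ext ?_⟩
    have hmem : (x : G) ^ 2 ^ k ∈ M := Subgroup.subset_closure ⟨pow_mem x.2 _, by
      rw [orderOf_pow, hkm, Nat.gcd_mul_right_left, Nat.mul_div_cancel_left _ (pow_pos two_pos k)]
      exact hm⟩
    rw [hMbot, Subgroup.mem_bot] at hmem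
    simpa using hmem
  -- the translation
  obtain ⟨g, hga, hgP⟩ : ∃ g : G, g • a = b ∧ P.map (MulAut.conj g).toMonoidHom ≠ P := by
    by_contra hno
    push Not at hno
    apply hP1
    have h0 : ∀ x ∈ A, ∀ m ∈ P, x * m * x⁻¹ ∈ P := by
      intro x hx m hm
      have h1 := hno (g₀ * x) (by rw [mul_smul, show x • a = a from hx, hg₀])
      have h2 := hno g₀ hg₀
      have h5 : MulAut.conj (g₀ * x) m ∈ P.map (MulAut.conj g₀).toMonoidHom := by
        rw [h2]
        exact h1.le ⟨m, hm, rfl⟩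
      obtain ⟨m', hm', he⟩ := h5
      have he' : m' = x * m * x⁻¹ := (MulAut.conj g₀).injective (by
        rw [show (MulAut.conj g₀) (x * m * x⁻¹) = MulAut.conj (g₀ * x) m by simp [mul_assoc]]
        exact he)
      exact he' ▸ hm'
    refine hnorm2 P h0 ?_ hPA hne
    intro x hx m hm
    have hA' : g₀⁻¹ * x * g₀ ∈ A := by
      show (g₀⁻¹ * x * g₀) • a = a
      rw [mul_smul, mul_smul, hg₀, show x • b = b from hx, ← hg₀, inv_smul_smul]
    have h2 := hno g₀ hg₀
    have hm0 : g₀⁻¹ * m * g₀ ∈ P := by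
      obtain ⟨m', hm', he⟩ := h2.ge hm
      have : g₀⁻¹ * m * g₀ = m' := by rw [← he]; simp [mul_assoc]
      exact this ▸ hm'
    have h4 := h2.le ⟨_, h0 _ hA' _ hm0, rfl⟩
    simpa [mul_assoc] using h4
  set σ : MulAut G := MulAut.conj g with hσ
  have hσA : A.map σ.toMonoidHom = B := by rw [hσ, hA, hstab, hga]
  set C := B.map σ.toMonoidHom with hC
  have hPσB : P.map σ.toMonoidHom ≤ B := (Subgroup.map_mono hPA).trans hσA.le
  have hPσ2 : IsPGroup 2 ↥(P.map σ.toMonoidHom) := hP2.map _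
  have hPσcard : Nat.card (P.map σ.toMonoidHom) = Nat.card P := Subgroup.card_map_of_injective σ.injective
  have hidxB : P.relIndex B = 3 := by
    have h1 := Subgroup.card_mul_index (P.subgroupOf B)
    rw [Nat.card_congr (Subgroup.subgroupOfEquivOfLe hPB).toEquiv, hcardB] at h1
    exact Nat.eq_of_mul_eq_mul_left Nat.card_pos h1
  have hne' : ¬ P.map σ.toMonoidHom ≤ P := fun h =>
    hgP (Subgroup.eq_of_le_of_card_ge h hPσcard.ge)
  have hidx2 : (P ⊓ P.map σ.toMonoidHom).relIndex (P.map σ.toMonoidHom) = 2 := by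
    rw [Subgroup.inf_relIndex_right]
    have h1 : P.relIndex (P.map σ.toMonoidHom) ≤ 3 :=
      hidxB ▸ Subgroup.relIndex_le_of_le_right hPσB (by rw [hidxB]; norm_num)
    obtain ⟨e, he⟩ := IsPGroup.iff_card.1 hPσ2
    have h2 : P.relIndex (P.map σ.toMonoidHom) ∣ 2 ^ e := he ▸ Subgroup.relIndex_dvd_card _ _
    obtain ⟨i, -, hi⟩ := (Nat.dvd_prime_pow Nat.prime_two).1 h2
    rw [hi] at h1 ⊢
    rcases i with _ | _ | i
    · exact absurd (Subgroup.relIndex_eq_one.1 (by rw [hi, pow_zero])) hne'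
    · rfl
    · rw [pow_succ, pow_succ] at h1
      have : 0 < 2 ^ i := pow_pos two_pos i
      omega
  have hN2 : ((P ⊓ P.map σ.toMonoidHom).subgroupOf (P.map σ.toMonoidHom)).Normal :=
    Subgroup.normal_of_index_eq_two hidx2
  have hsupB : ∀ S : Subgroup G, P ≤ S → P.map σ.toMonoidHom ≤ S → B ≤ S := by
    intro S h1 h2
    set U := P ⊔ P.map σ.toMonoidHom
    have hUB : U ≤ B := sup_le hPB hPσB
    suffices U = B from this ▸ sup_le h1 h2
    obtain ⟨q, hq⟩ := Subgroup.card_dvd_of_le (le_sup_left : P ≤ U)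
    have h5 := Subgroup.card_dvd_of_le hUB
    rw [hq, hcardB] at h5
    rcases (Nat.dvd_prime Nat.prime_three).1 (Nat.dvd_of_mul_dvd_mul_left Nat.card_pos h5) with h | h
    · exfalso
      exact hne' (le_sup_right.trans (Subgroup.eq_of_le_of_card_ge le_sup_left (by rw [hq, h, mul_one])).ge)
    · exact Subgroup.eq_of_le_of_card_ge hUB (by rw [hq, h, hcardB])
  have hBC : B ≠ C := fun h => hne (Subgroup.map_injective (f := σ.toMonoidHom) σ.injective
    (by rw [hσA, ← hC]; exact h))
  have hconjσ : ∀ (S N : Subgroup G), N.map σ.toMonoidHom = N →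
      (∀ x ∈ S.map σ.toMonoidHom, ∀ m ∈ N, x * m * x⁻¹ ∈ N) → ∀ x ∈ S, ∀ m ∈ N, x * m * x⁻¹ ∈ N := by
    intro S N hN h x hx m hm
    have h1 := h _ ⟨x, hx, rfl⟩ _ (hN.le ⟨m, hm, rfl⟩)
    obtain ⟨m', hm', he⟩ := hN.ge h1
    have : m' = x * m * x⁻¹ := σ.injective (by
      refine he.trans ?_
      simp)
    exact this ▸ hm'
  have hnormsup : ∀ (N : Subgroup G), (∀ x ∈ P, ∀ m ∈ N, x * m * x⁻¹ ∈ N) →
      (∀ x ∈ P.map σ.toMonoidHom, ∀ m ∈ N, x * m * x⁻¹ ∈ N) → ∀ x ∈ B, ∀ m ∈ N, x * m * x⁻¹ ∈ N := by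
    intro N h1 h2 x hx
    let S : Subgroup G :=
      { carrier := {x | N.map (MulAut.conj x).toMonoidHom = N}
        one_mem' := by show N.map _ = N; rw [map_one]; exact Subgroup.map_id _
        mul_mem' := fun {x y} hx hy => by
          show N.map _ = N
          calc N.map (MulAut.conj (x * y)).toMonoidHom
              = (N.map (MulAut.conj y).toMonoidHom).map (MulAut.conj x).toMonoidHom := by
                rw [Subgroup.map_map]; congr 1; ext a; simp [mul_assoc]
            _ = N := by rw [hy, hx]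
        inv_mem' := fun {x} hx => by
          show N.map _ = N
          calc N.map (MulAut.conj x⁻¹).toMonoidHom
              = (N.map (MulAut.conj x).toMonoidHom).map (MulAut.conj x⁻¹).toMonoidHom := by rw [hx]
            _ = N := by
              rw [Subgroup.map_map]
              refine Eq.trans ?_ (Subgroup.map_id N)
              congr 1; ext a; simp [mul_assoc] }
    have key : ∀ x : G, (∀ m ∈ N, x * m * x⁻¹ ∈ N) → x ∈ S := fun x hx => by
      refine Subgroup.eq_of_le_of_card_ge ?_ (Subgroup.card_map_of_injective (MulAut.conj x).injective).ge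
      rintro _ ⟨m, hm, rfl⟩
      exact hx m hm
    have hx' : x ∈ S := hsupB S (fun y hy => key y (h1 y hy)) (fun y hy => key y (h2 y hy)) hx
    exact fun m hm => (show N.map _ = N from hx').le ⟨m, hm, rfl⟩
  have hh1 : ∀ N : Subgroup G, N ≤ P → (N.subgroupOf P).Normal → N.map σ.toMonoidHom = N → N = ⊥ := by
    intro N hNP hNn hNσ
    have hP' : ∀ x ∈ P, ∀ m ∈ N, x * m * x⁻¹ ∈ N := fun x hx m hm =>
      hNn.conj_mem ⟨m, hNP hm⟩ hm ⟨x, hx⟩
    have hσP' : ∀ x ∈ P.map σ.toMonoidHom, ∀ m ∈ N, x * m * x⁻¹ ∈ N := by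
      rintro _ ⟨x, hx, rfl⟩ m hm
      obtain ⟨m', hm', rfl⟩ := hNσ.ge hm
      refine hNσ.le ⟨x * m' * x⁻¹, hP' x hx m' hm', ?_⟩
      simp
    have hB' := hnormsup N hP' hσP'
    exact hnorm2 N (hconjσ A N hNσ (by rw [hσA]; exact hB')) hB' (hNP.trans hPA) hne
  have hh2 : ∀ z ∈ P, (∀ i, i ≤ 2 → ∀ p ∈ P, Commute z ((σ ^ i) p)) → z = 1 := by
    intro z hz hcom
    have hzB : B ≤ Subgroup.centralizer ({z} : Set G) := by
      refine hsupB _ (fun p hp => ?_) ?_
      · exact Subgroup.mem_centralizer_singleton_iff.2 (by simpa using (hcom 0 (by omega) p hp).symm.eq)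
      · rintro _ ⟨p, hp, rfl⟩
        exact Subgroup.mem_centralizer_singleton_iff.2 (by simpa using (hcom 1 (by omega) p hp).symm.eq)
    have hzC : B ≤ (Subgroup.centralizer ({z} : Set G)).comap σ.toMonoidHom := by
      refine hsupB _ (fun p hp => ?_) ?_
      · exact Subgroup.mem_centralizer_singleton_iff.2 (by simpa using (hcom 1 (by omega) p hp).symm.eq)
      · rintro _ ⟨p, hp, rfl⟩
        exact Subgroup.mem_centralizer_singleton_iff.2
          (by simpa [pow_two, MulAut.mul_apply] using (hcom 2 le_rfl p hp).symm.eq)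
    have hCz : C ≤ Subgroup.centralizer ({z} : Set G) := Subgroup.map_le_iff_le_comap.2 hzC
    have htop : B ⊔ C = ⊤ := by
      refine hcoB.2 _ (lt_of_le_of_ne le_sup_left fun h' => hBC ?_)
      have hCB : C ≤ B := h'.symm ▸ le_sup_right
      exact (Subgroup.eq_of_le_of_card_ge hCB (Subgroup.card_map_of_injective σ.injective).ge).symm
    have hall : ⊤ ≤ Subgroup.centralizer ({z} : Set G) := htop ▸ sup_le hzB hCz
    have hz1 := hbot (Subgroup.zpowers z) (fun x m hm => by
      obtain ⟨i, rfl⟩ := Subgroup.mem_zpowers_iff.1 hm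
      rw [((show Commute x z from Subgroup.mem_centralizer_singleton_iff.1 (hall (Subgroup.mem_top x))).zpow_right i).eq,
        mul_inv_cancel_right]
      exact hm) (Subgroup.zpowers_le.2 (hPA hz))
    exact Subgroup.zpowers_eq_bot.1 hz1
  obtain ⟨t, s, u, ht, -, hs, hPwin, hcard, hord, hu1, hut, hhi, hlo, hnear, hu⟩ :=
    Cfsg.Agent.ShiftChain.order_data P σ 2 2 Nat.prime_two (by omega) hN2 hidx2 hh1 hh2
  refine ⟨t, ?_, by rw [hcardA, ht]⟩
  by_contra hlt
  obtain rfl : t = 6 := by omega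
  obtain rfl : u = 4 := by omega
  obtain ⟨hpair1, hpair5⟩ := six_pair s σ hs hcard hord hnear (hu.resolve_left (by omega))
  open Cfsg.Agent.ShiftChain in
  exact by
    have hmapwin : ∀ lo hi, (win s lo hi).map σ.toMonoidHom = win s (lo + 1) (hi + 1) := by
      intro lo hi
      apply le_antisymm
      · rw [Subgroup.map_le_iff_le_comap]
        refine win_le fun k h1 h2 => ?_
        show σ (s k) ∈ win s (lo + 1) (hi + 1)
        rw [hs]
        exact mem_win (by omega) (by omega)
      · refine win_le fun k h1 h2 => ⟨s (k - 1), mem_win (by omega) (by omega), ?_⟩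
        show σ (s (k - 1)) = s k
        rw [hs]; congr 1; omega
    have hσPwin : P.map σ.toMonoidHom = win s 1 7 := by rw [hPwin, hmapwin]
    -- maximal subgroups of a 2-group are normal
    have hnormal : ∀ lo lo', lo' ≤ lo → lo + 5 ≤ lo' + 6 → ∀ x ∈ win s lo' (lo' + 6),
        ∀ m ∈ win s lo (lo + 5), x * m * x⁻¹ ∈ win s lo (lo + 5) := by
      intro lo lo' h1 h2 x hx m hm
      have hle : win s lo (lo + 5) ≤ win s lo' (lo' + 6) := win_mono h1 h2
      have hidx : ((win s lo (lo + 5)).subgroupOf (win s lo' (lo' + 6))).index = 2 := by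
        have h5 := Subgroup.card_mul_index ((win s lo (lo + 5)).subgroupOf (win s lo' (lo' + 6)))
        rw [Nat.card_congr (Subgroup.subgroupOfEquivOfLe hle).toEquiv, hcard lo 5 (by omega),
          hcard lo' 6 le_rfl, show (2:ℕ) ^ 6 = 2 ^ 5 * 2 from rfl] at h5
        exact Nat.eq_of_mul_eq_mul_left (by norm_num) h5
      exact (Subgroup.normal_of_index_eq_two hidx).conj_mem ⟨m, hle hm⟩ hm ⟨x, hx⟩
    have hmeet : ∀ lo, win s lo (lo + 5) ⊓ win s (lo + 1) (lo + 6) = win s (lo + 1) (lo + 5) := by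
      intro lo
      refine (Subgroup.eq_of_le_of_card_ge
        (le_inf (win_mono (by omega) le_rfl) (win_mono le_rfl (by omega))) ?_).symm
      have hne5 : win s lo (lo + 5) ⊓ win s (lo + 1) (lo + 6) ≠ win s lo (lo + 5) := by
        intro h
        have h6 : win s lo (lo + 6) ≤ win s (lo + 1) (lo + 6) := win_le fun k k1 k2 => by
          rcases Nat.lt_or_ge k (lo + 1) with hk | hk
          · exact (inf_eq_left.1 h) (mem_win k1 (by omega))
          · exact mem_win hk k2
        have := Subgroup.card_dvd_of_le h6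
        rw [hcard lo 6 le_rfl, show lo + 6 = lo + 1 + 5 from rfl, hcard (lo + 1) 5 (by omega)] at this
        norm_num at this
      obtain ⟨e, he, hce⟩ := (Nat.dvd_prime_pow Nat.prime_two).1
        ((hcard lo 5 (by omega)) ▸ Subgroup.card_dvd_of_le
          (inf_le_left : win s lo (lo + 5) ⊓ win s (lo + 1) (lo + 6) ≤ win s lo (lo + 5)))
      rw [hce, show lo + 5 = lo + 1 + 4 from rfl, hcard (lo + 1) 4 (by omega)]
      refine Nat.pow_le_pow_right two_pos ?_
      by_contra hgt
      apply hne5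
      apply Subgroup.eq_of_le_of_card_ge inf_le_left
      rw [hce, hcard lo 5 (by omega)]
      exact Nat.pow_le_pow_right two_pos (by omega)
    have hQP : ∀ x ∈ P, ∀ q ∈ win s 1 6, x * q * x⁻¹ ∈ win s 1 6 := fun x hx =>
      hnormal 1 0 (by omega) (by omega) x (hPwin ▸ hx)
    have hQσP : ∀ x ∈ P.map σ.toMonoidHom, ∀ q ∈ win s 1 6, x * q * x⁻¹ ∈ win s 1 6 := fun x hx =>
      hnormal 1 1 le_rfl (by omega) x (hσPwin ▸ hx)
    have hL1P : ∀ x ∈ P, ∀ q ∈ win s 1 5, x * q * x⁻¹ ∈ win s 1 5 := by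
      intro x hx q hq
      rw [← hmeet 0] at hq ⊢
      exact ⟨hnormal 0 0 le_rfl (by omega) x (hPwin ▸ hx) q hq.1, hQP x hx q hq.2⟩
    have hL5σP : ∀ x ∈ P.map σ.toMonoidHom, ∀ q ∈ win s 2 6, x * q * x⁻¹ ∈ win s 2 6 := by
      intro x hx q hq
      rw [← hmeet 1] at hq ⊢
      exact ⟨hQσP x hx q hq.1, hnormal 2 1 (by omega) (by omega) x (hσPwin ▸ hx) q hq.2⟩
    have hB1 := hnormsup (win s 1 5) hL1P
      (fun x hx => hpair5 x (hQσP x hx) (hL5σP x hx))
    have hB5 := hnormsup (win s 2 6)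
      (fun x hx => hpair1 x (hQP x hx) (hL1P x hx)) hL5σP
    have hC5 : ∀ x ∈ C, ∀ q ∈ win s 2 6, x * q * x⁻¹ ∈ win s 2 6 := by
      rintro _ ⟨x, hx, rfl⟩ q hq
      rw [← hmapwin 1 5] at hq ⊢
      obtain ⟨q', hq', rfl⟩ := hq
      exact ⟨_, hB1 x hx q' hq', by simp⟩
    have h2P : win s 2 6 ≤ P := hPwin ▸ win_mono (by omega) le_rfl
    have hbot5 : win s 2 6 = ⊥ := by
      refine hbot _ (fun x m hm => ?_) (h2P.trans hPA)
      let S : Subgroup G :=
        { carrier := {x | (win s 2 6).map (MulAut.conj x).toMonoidHom = win s 2 6}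
          one_mem' := by show Subgroup.map _ _ = _; rw [map_one]; exact Subgroup.map_id _
          mul_mem' := fun {x y} hx hy => by
            show Subgroup.map _ _ = _
            calc (win s 2 6).map (MulAut.conj (x * y)).toMonoidHom
                = ((win s 2 6).map (MulAut.conj y).toMonoidHom).map (MulAut.conj x).toMonoidHom := by
                  rw [Subgroup.map_map]; congr 1; ext a; simp [mul_assoc]
              _ = win s 2 6 := by rw [hy, hx]
          inv_mem' := fun {x} hx => by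
            show Subgroup.map _ _ = _
            calc (win s 2 6).map (MulAut.conj x⁻¹).toMonoidHom
                = ((win s 2 6).map (MulAut.conj x).toMonoidHom).map (MulAut.conj x⁻¹).toMonoidHom := by rw [hx]
              _ = win s 2 6 := by
                rw [Subgroup.map_map]
                refine Eq.trans ?_ (Subgroup.map_id _)
                congr 1; ext a; simp [mul_assoc] }
      have key : ∀ (U : Subgroup G), (∀ x ∈ U, ∀ q ∈ win s 2 6, x * q * x⁻¹ ∈ win s 2 6) → U ≤ S := by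
        intro U hU x hx
        refine Subgroup.eq_of_le_of_card_ge ?_ (Subgroup.card_map_of_injective (MulAut.conj x).injective).ge
        rintro _ ⟨m, hm, rfl⟩
        exact hU x hx m hm
      have htop : B ⊔ C = ⊤ := by
        refine hcoB.2 _ (lt_of_le_of_ne le_sup_left fun h' => hBC ?_)
        have hCB : C ≤ B := h'.symm ▸ le_sup_right
        exact (Subgroup.eq_of_le_of_card_ge hCB (Subgroup.card_map_of_injective σ.injective).ge).symm
      have hx : x ∈ S := (sup_le (key B hB5) (key C hC5)) (htop ▸ Subgroup.mem_top x)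
      exact (show Subgroup.map _ _ = _ from hx).le ⟨m, hm, rfl⟩
    have := hcard 2 4 (by omega)
    rw [hbot5, Subgroup.card_bot] at this
    norm_num at this

end Cfsg.Agent.S3385
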