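import Mathlib
import Cfsg.Statements.S3389
-- import your own Cfsg.Agent.* helpers here

set_option autoImplicit false
open Cfsg

namespace Cfsg.Agent.S3389

/-- Let G be a finite group acting faithfully and transitively on a finite set Ω with fixity k ≥ 1: every non-identity element fixes at most k points and some non-identity element fixes exactly k points. Then |Z(G)| divides k; if k = 2 then |G| is even; and for every prime p > k dividing |G| and every point α, either p does not divide |G_α| or G_α contains a Sylow p-subgroup of G. -/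
theorem result {G : Type*} [Group G] [Finite G] {Ω : Type*} [Fintype Ω] [MulAction G Ω] [FaithfulSMul G Ω]
    (htr : MulAction.IsPretransitive G Ω) (k : ℕ) (hk : 1 ≤ k)
    (hfix : ∀ g : G, g ≠ 1 → Nat.card (MulAction.fixedBy Ω g) ≤ k) (hex : ∃ g : G, g ≠ 1 ∧ Nat.card (MulAction.fixedBy Ω g) = k) :
    Nat.card (Subgroup.center G) ∣ k ∧ (k = 2 → 2 ∣ Nat.card G) ∧
      ∀ (p : ℕ), p.Prime → k < p → p ∣ Nat.card G → ∀ α : Ω,
        ¬ p ∣ Nat.card (MulAction.stabilizer G α) ∨ ¬ p ∣ (MulAction.stabilizer G α).index := by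
  classical
  haveI := htr
  haveI := Fintype.ofFinite G
  obtain ⟨g₀, hg₀, hg₀k⟩ := hex
  haveI : Nonempty Ω := by
    by_contra h
    rw [not_nonempty_iff] at h
    exact hg₀ (FaithfulSMul.eq_of_smul_eq_smul (α := Ω) fun η => isEmptyElim η)
  refine ⟨?_, fun hk2 => ?_, fun p hp hkp _ α => ?_⟩
  · -- the centre acts semiregularly on the fixed points
    set Z := Subgroup.center G
    have hZ : ∀ z : Z, z ≠ 1 → ∀ x : Ω, (z : G) • x ≠ x := fun z hz x hx => hz (Subtype.ext
      (FaithfulSMul.eq_of_smul_eq_smul (α := Ω) fun η => by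
        obtain ⟨u, rfl⟩ := MulAction.exists_smul_eq G x η
        rw [← mul_smul, (Subgroup.mem_center_iff.mp z.2 u).symm, mul_smul, hx, OneMemClass.coe_one, one_smul]))
    letI : MulAction Z (MulAction.fixedBy Ω g₀) :=
      { smul := fun z x => ⟨(z : G) • (x : Ω), by
          show g₀ • ((z : G) • (x : Ω)) = (z : G) • (x : Ω)
          rw [← mul_smul, Subgroup.mem_center_iff.mp z.2 g₀, mul_smul, x.2]⟩
        one_smul := fun x => Subtype.ext (one_smul G (x : Ω))
        mul_smul := fun a b x => Subtype.ext (mul_smul (a : G) (b : G) (x : Ω)) }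
    haveI : Fintype (MulAction.fixedBy Ω g₀) := Fintype.ofFinite _
    have hB := MulAction.sum_card_fixedBy_eq_card_orbits_mul_card_group Z (MulAction.fixedBy Ω g₀)
    simp only [Fintype.card_eq_nat_card] at hB
    rw [Finset.sum_eq_single (1 : Z) (fun z _ hz => by
        rw [Nat.card_eq_zero]; left
        exact ⟨fun x => hZ z hz x.1.1 (congrArg Subtype.val x.2)⟩) (fun h => absurd (Finset.mem_univ _) h)] at hB
    rw [show Nat.card (MulAction.fixedBy (MulAction.fixedBy Ω g₀) (1 : Z)) = k from
      (Nat.card_congr (Equiv.subtypeUnivEquiv fun x => one_smul Z x)).trans hg₀k] at hB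
    exact ⟨_, hB.trans (mul_comm _ _)⟩
  · subst hk2
    by_contra hodd
    -- two fixed points and a Sylow subgroup of their stabilizer
    obtain ⟨α, β, hαβ, hFset⟩ : ∃ α β, α ≠ β ∧ MulAction.fixedBy Ω g₀ = {α, β} := by
      have := hg₀k
      rw [Nat.card_coe_set_eq, Set.ncard_eq_two] at this
      exact this
    set K := MulAction.stabilizer G α ⊓ MulAction.stabilizer G β
    have hgK : g₀ ∈ K := ⟨(hFset.ge (Or.inl rfl) : g₀ • α = α), (hFset.ge (Or.inr rfl) : g₀ • β = β)⟩
    obtain ⟨q, hq, hqK⟩ := Nat.exists_prime_and_dvd (n := Nat.card K) (fun e => hg₀ (by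
      have := Subgroup.card_eq_one.mp e; rw [this] at hgK; exact hgK))
    haveI := Fact.mk hq
    obtain ⟨Q⟩ : Nonempty (Sylow q K) := inferInstance
    set Q' := (Q : Subgroup K).map K.subtype with hQ'
    have hQK : Q' ≤ K := Subgroup.map_subtype_le _
    have hQne : Q' ≠ ⊥ := fun e => Q.ne_bot_of_dvd_card hqK ((Subgroup.map_eq_bot_iff_of_injective _ K.subtype_injective).mp e)
    obtain ⟨x, hxQ, hx1⟩ := Q'.bot_or_exists_ne_one.resolve_left hQne
    have hxfix : MulAction.fixedBy Ω x = {α, β} := by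
      symm
      refine Set.eq_of_subset_of_ncard_le (Set.insert_subset (hQK hxQ).1 (Set.singleton_subset_iff.mpr (hQK hxQ).2)) ?_
      rw [Set.ncard_pair hαβ, ← Nat.card_coe_set_eq]
      exact hfix x hx1
    have hN : ∀ y ∈ Subgroup.normalizer (Q' : Set G), (y • α = α ∧ y • β = β) ∨ (y • α = β ∧ y • β = α) := by
      intro y hy
      have hpt : ∀ η ∈ ({α, β} : Set Ω), y • η ∈ ({α, β} : Set Ω) := fun η hη => by
        rw [← hxfix, MulAction.mem_fixedBy]
        have hx' : y⁻¹ * x * y ∈ Q' := by
          simpa using (Subgroup.mem_normalizer_iff.mp (inv_mem hy) x).mp hxQ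
        have : (y⁻¹ * x * y) • η = η := by
          rcases hη with rfl | rfl
          exacts [(hQK hx').1, (hQK hx').2]
        rw [mul_smul, mul_smul, inv_smul_eq_iff] at this
        exact this
      rcases hpt α (Or.inl rfl) with e | e <;> rcases hpt β (Or.inr rfl) with e' | e'
      · exact absurd (smul_left_cancel y (e.trans e'.symm)) hαβ
      · exact Or.inl ⟨e, e'⟩
      · exact Or.inr ⟨e, e'⟩
      · exact absurd (smul_left_cancel y (e.trans e'.symm)) hαβ
    have hnoswap : ∀ y : G, y • α = β → y • β ≠ α := by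
      intro y h1 h2
      have hev : ∀ j, y ^ (2 * j) • α = α := by
        intro j
        induction j with
        | zero => simp
        | succ j ih => rw [mul_add, mul_one, add_comm, pow_add, mul_smul, ih, sq, mul_smul, h1, h2]
      obtain ⟨j, hj⟩ := Nat.odd_iff.mpr (Nat.two_dvd_ne_zero.mp (fun h => hodd (h.trans (orderOf_dvd_natCard y))))
      have := pow_orderOf_eq_one y
      rw [hj, pow_succ'] at this
      have e := congrArg (· • α) this
      simp only [mul_smul, hev, h1, one_smul] at e
      exact hαβ e.symm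
    have hNK : Subgroup.normalizer (Q' : Set G) ≤ K := fun y hy =>
      (hN y hy).elim (fun h => ⟨h.1, h.2⟩) (fun h => absurd h.2 (hnoswap y h.1))
    -- hence a Sylow subgroup of the whole group
    obtain ⟨P, hP⟩ := (Q.2.map K.subtype).exists_le_sylow
    have hPeq : (P : Subgroup G) = Q' := by
      by_contra hne
      haveI : Group.IsNilpotent (P : Subgroup G) := P.2.isNilpotent
      have hlt : Q'.subgroupOf P < ⊤ := lt_top_iff_ne_top.mpr fun h =>
        hne (le_antisymm (Subgroup.subgroupOf_eq_top.mp h) hP)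
      obtain ⟨y, hyN, hyQ⟩ := SetLike.exists_of_lt (Group.normalizerCondition_of_isNilpotent _ hlt)
      have hyK : (y : G) ∈ K := hNK (Subgroup.mem_normalizer_fintype fun z hz => by
        exact Subgroup.mem_subgroupOf.mp ((Subgroup.mem_normalizer_iff.mp hyN ⟨z, hP hz⟩).mp (Subgroup.mem_subgroupOf.mpr hz)))
      have hmax := Q.3 (P.2.comap_of_injective K.subtype K.subtype_injective) (fun z hz => hP ⟨z, hz, rfl⟩)
      exact hyQ (Subgroup.mem_subgroupOf.mpr ⟨⟨y, hyK⟩, hmax.le y.2, rfl⟩)
    -- move `α` to `β` normalizing it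
    obtain ⟨g, hg⟩ := MulAction.exists_smul_eq G α β
    set S := MulAction.stabilizer G α
    have hP1 : (P : Subgroup G) ≤ S := hPeq ▸ hQK.trans inf_le_left
    have hP2 : ((g⁻¹ • P : Sylow q G) : Subgroup G) ≤ S := by
      rintro _ ⟨z, hz, rfl⟩
      have hzb : z • β = β := (hQK (hPeq ▸ hz)).2
      show (g⁻¹ * z * g⁻¹⁻¹) • α = α
      rw [inv_inv, mul_smul, mul_smul, hg, hzb, inv_smul_eq_iff, hg]
    obtain ⟨h, hh⟩ := MulAction.exists_smul_eq S (P.subtype hP1) ((g⁻¹ • P).subtype hP2)
    rw [Sylow.smul_subtype] at hh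
    have hh' : (h : G) • P = g⁻¹ • P := Sylow.subtype_injective hh
    have hgh : g * h ∈ Subgroup.normalizer (Q' : Set G) := by
      rw [← hPeq]
      exact Sylow.smul_eq_iff_mem_normalizer.mp (by rw [mul_smul, hh', smul_inv_smul])
    have hghα : (g * (h : G)) • α = β := by rw [mul_smul, MulAction.mem_stabilizer_iff.mp h.2, hg]
    rcases hN _ hgh with e | e
    · exact hαβ (e.1.symm.trans hghα)
    · exact hnoswap _ hghα e.2
  · haveI := Fact.mk hp
    by_contra h
    push Not at h
    obtain ⟨h1, h2⟩ := h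
    obtain ⟨x, hx⟩ := exists_prime_orderOf_dvd_card' p h1
    have hxo : orderOf (x : G) = p := by rw [Subgroup.orderOf_coe, hx]
    haveI : Fintype (MulAction.fixedPoints (Subgroup.zpowers (x : G)) Ω) := Fintype.ofFinite _
    have hP : IsPGroup p (Subgroup.zpowers (x : G)) := IsPGroup.of_card (n := 1) (by rw [Nat.card_zpowers, hxo, pow_one])
    have hmod := hP.card_modEq_card_fixedPoints Ω
    rw [MulAction.index_stabilizer_of_transitive G α] at h2
    have hd : p ∣ Nat.card (MulAction.fixedPoints (Subgroup.zpowers (x : G)) Ω) :=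
      (Nat.modEq_zero_iff_dvd.mp ((hmod.symm).trans (Nat.modEq_zero_iff_dvd.mpr h2)))
    have hsub : MulAction.fixedPoints (Subgroup.zpowers (x : G)) Ω ⊆ MulAction.fixedBy Ω (x : G) :=
      fun η hη => hη ⟨x, Subgroup.mem_zpowers _⟩
    have hmem : α ∈ MulAction.fixedPoints (Subgroup.zpowers (x : G)) Ω := by
      rintro ⟨y, i, rfl⟩
      exact MulAction.mem_stabilizer_iff.mp (zpow_mem x.2 i)
    haveI : Nonempty (MulAction.fixedPoints (Subgroup.zpowers (x : G)) Ω) := ⟨⟨α, hmem⟩⟩
    have h3 := Nat.le_of_dvd Nat.card_pos hd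
    have h4 := Set.ncard_le_ncard hsub
    rw [← Nat.card_coe_set_eq, ← Nat.card_coe_set_eq] at h4
    have := hfix (x : G) (fun e => hp.ne_one (by rw [← hxo, e, orderOf_one]))
    omega

end Cfsg.Agent.S3389
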