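import Cfsg.Statements.S3390
import Cfsg.Agent.S3224
import Cfsg.Agent.S0206
-- import your own Cfsg.Agent.* helpers here

set_option autoImplicit false
open Cfsg

namespace Cfsg.Agent.S3390

/-- Sign of a semiregular permutation of even order. -/
theorem sign_semiregular {X : Type*} [Fintype X] [DecidableEq X] (τ : Equiv.Perm X) (o : ℕ) (ho : Even o) (ho0 : 0 < o)
    (hpow : τ ^ o = 1) (hfree : ∀ x, τ x ≠ x → ∀ j, 0 < j → j < o → (τ ^ j) x ≠ x) :
    Equiv.Perm.sign τ = (-1) ^ ((Fintype.card X - Fintype.card (Function.fixedPoints τ)) / o) := by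
  have hrep : τ.cycleType = Multiset.replicate τ.cycleType.card o := by
    refine Multiset.eq_replicate_card.mpr fun l hl => ?_
    obtain ⟨c, τ', he, hd, hc, hcard⟩ := Equiv.Perm.mem_cycleType_iff.mp hl
    obtain ⟨x, hx⟩ := Finset.card_pos.mp (show 0 < c.support.card from (Finset.Nonempty.card_pos hc.nonempty_support))
    rw [Equiv.Perm.mem_support] at hx
    have hτ'x : τ' x = x := (hd x).resolve_left hx
    have hpw : ∀ j : ℕ, (τ ^ j) x = (c ^ j) x := fun j => by
      rw [he, hd.commute.mul_pow, Equiv.Perm.mul_apply, Equiv.Perm.pow_apply_eq_self_of_apply_eq_self hτ'x]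
    have hτx : τ x ≠ x := by
      have := hpw 1
      rw [pow_one, pow_one] at this
      rwa [this]
    have hlo : l ∣ o := by
      rw [← hcard, ← hc.orderOf, orderOf_dvd_iff_pow_eq_one]
      refine (hc.pow_eq_one_iff).mpr ⟨x, hx, ?_⟩
      rw [← hpw, hpow, Equiv.Perm.one_apply]
    rcases lt_or_eq_of_le (Nat.le_of_dvd ho0 hlo) with h | h
    · refine absurd ?_ (hfree x hτx l (Equiv.Perm.two_le_of_mem_cycleType hl |>.trans' one_le_two) h)
      rw [hpw, ← hcard, ← hc.orderOf, pow_orderOf_eq_one, Equiv.Perm.one_apply]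
    · exact h
  rw [Equiv.Perm.sign_of_cycleType_eq_replicate ho0 hrep, if_neg (Nat.not_odd_iff_even.mpr ho)]


/-- Let G be a finite group acting faithfully and transitively on a finite set Ω with fixity 2 (every non-identity element fixes at most two points, and some fixes exactly two). Let α ∈ Ω and S a Sylow 2-subgroup of G. Then one of the following holds: the stabilizer S_α of α in S is trivial; S is dihedral or semidihedral and either |S_α| = 2 or |S : S_α| = 2; |S| ≥ 4, S has exactly one orbit of size 2 on Ω, every other S-orbit is regular, and G has a normal subgroup of index 2 or of index |S| which is a Frobenius group; or S ≤ G_α. -/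
theorem result {G : Type*} [Group G] [Finite G] {Ω : Type*} [Fintype Ω] [MulAction G Ω] [FaithfulSMul G Ω] (htr : MulAction.IsPretransitive G Ω)
    (hfix : ∀ g : G, g ≠ 1 → Nat.card (MulAction.fixedBy Ω g) ≤ 2) (hex : ∃ g : G, g ≠ 1 ∧ Nat.card (MulAction.fixedBy Ω g) = 2) (α : Ω) (S : Sylow 2 G) :
    (S : Subgroup G) ⊓ MulAction.stabilizer G α = ⊥ ∨
    (((∃ n : ℕ, Nonempty (↥(S : Subgroup G) ≃* DihedralGroup n)) ∨ Cfsg.IsQuasiDihedral ↥(S : Subgroup G)) ∧
       (Nat.card ↥((S : Subgroup G) ⊓ MulAction.stabilizer G α) = 2 ∨ ((S : Subgroup G) ⊓ MulAction.stabilizer G α).relIndex (S : Subgroup G) = 2)) ∨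
    (4 ≤ Nat.card (S : Subgroup G) ∧
       (∃ ω : Ω, Nat.card (MulAction.orbit ↥(S : Subgroup G) ω) = 2 ∧
          ∀ ω' : Ω, ω' ∉ MulAction.orbit ↥(S : Subgroup G) ω → Nat.card (MulAction.orbit ↥(S : Subgroup G) ω') = Nat.card (S : Subgroup G)) ∧
       ∃ N : Subgroup G, N.Normal ∧ (N.index = 2 ∨ N.index = Nat.card (S : Subgroup G)) ∧ (∃ H : Subgroup ↥N, Cfsg.IsFrobeniusComplement H)) ∨
    (S : Subgroup G) ≤ MulAction.stabilizer G α := by
  classical
  haveI := htr
  haveI : Fact (Nat.Prime 2) := ⟨Nat.prime_two⟩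
  haveI : Fintype G := Fintype.ofFinite G
  set S' : Subgroup G := (S : Subgroup G) with hS'
  set T : Subgroup G := S' ⊓ MulAction.stabilizer G α with hTdef
  by_cases hT1 : T = ⊥
  · exact Or.inl hT1
  by_cases hTS : S' ≤ MulAction.stabilizer G α
  · exact Or.inr (Or.inr (Or.inr hTS))
  refine Or.inr ?_
  have hTle : T ≤ S' := inf_le_left
  haveI : Group.IsNilpotent S' := S.2.isNilpotent
  -- the normalizer condition
  obtain ⟨g, hgS, hgT, hgn⟩ : ∃ g ∈ S', g ∉ T ∧ ∀ t ∈ T, g⁻¹ * t * g ∈ T := by
    have hlt : T.subgroupOf S' < ⊤ := by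
      rw [lt_top_iff_ne_top, ne_eq, Subgroup.subgroupOf_eq_top]
      exact fun h => hTS (h.trans inf_le_right)
    obtain ⟨x, hx, hxT⟩ := SetLike.exists_of_lt ((Group.normalizerCondition_of_isNilpotent (G := S')) _ hlt)
    refine ⟨x, x.2, hxT, fun t ht => ?_⟩
    have h1 := (Subgroup.mem_normalizer_iff.mp (inv_mem hx) (⟨t, hTle ht⟩ : S')).mp ht
    simpa [Subgroup.mem_subgroupOf] using h1
  set β := g • α with hβ
  have hβα : β ≠ α := fun h => hgT ⟨hgS, h⟩
  have three : ∀ x : G, x ≠ 1 → ∀ a b c : Ω, a ≠ b → a ≠ c → b ≠ c → x • a = a → x • b = b → x • c = c → False := by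
    intro x hx a b c hab hac hbc ha hb hc
    have h1 := hfix x hx
    rw [Nat.card_coe_set_eq] at h1
    have h2 : ({a, b, c} : Set Ω).ncard = 3 := Set.ncard_eq_three.mpr ⟨a, b, c, hab, hac, hbc, rfl⟩
    have h3 : ({a, b, c} : Set Ω) ⊆ MulAction.fixedBy Ω x := by
      rintro y (rfl | rfl | rfl)
      exacts [ha, hb, hc]
    have := Set.ncard_le_ncard h3
    omega
  have hTβ : ∀ t ∈ T, t • β = β := by
    intro t ht
    have h1 : (g⁻¹ * t * g) • α = α := (hgn t ht).2
    rwa [mul_smul, mul_smul, inv_smul_eq_iff] at h1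
  have hTα : ∀ t ∈ T, t • α = α := fun t ht => ht.2
  have hF : ∀ t ∈ T, t ≠ 1 → ∀ x : Ω, t • x = x → x = α ∨ x = β := by
    intro t ht ht1 x hx
    by_contra h
    rw [not_or] at h
    exact three t ht1 α β x hβα.symm (Ne.symm h.1) (Ne.symm h.2) (hTα t ht) (hTβ t ht) hx
  obtain ⟨t₀, ht₀, ht₀1⟩ := T.bot_or_exists_ne_one.resolve_left hT1
  have hgβ : g • β = α := by
    have h1 : t₀ • (g • β) = g • β := by
      have h2 : (g⁻¹ * t₀ * g) • β = β := hTβ _ (hgn t₀ ht₀)
      rwa [mul_smul, mul_smul, inv_smul_eq_iff] at h2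
    exact (hF t₀ ht₀ ht₀1 _ h1).resolve_right fun h => hβα (smul_left_cancel g h)
  -- the stabilizer of the pair
  have hsm : ∀ (a : G), (a • α = α ∨ a • α = β) → (a • β = α ∨ a • β = β) → a ∈ S' →
      (a ∈ T ∨ g⁻¹ * a ∈ T) := by
    intro a h1 h2 ha
    rcases h1 with h1 | h1
    · exact Or.inl ⟨ha, h1⟩
    · exact Or.inr ⟨mul_mem (S'.inv_mem hgS) ha, by
        show (g⁻¹ * a) • α = α
        rw [mul_smul, h1, inv_smul_eq_iff]⟩
  let D : Subgroup G :=
    { carrier := {a | a ∈ S' ∧ (a ∈ T ∨ g⁻¹ * a ∈ T)}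
      one_mem' := ⟨one_mem _, Or.inl (one_mem _)⟩
      mul_mem' := by
        rintro a b ⟨ha, ha'⟩ ⟨hb, hb'⟩
        have hp : ∀ c, (c ∈ T ∨ g⁻¹ * c ∈ T) → (c • α = α ∨ c • α = β) ∧ (c • β = α ∨ c • β = β) := by
          rintro c (h | h)
          · exact ⟨Or.inl (hTα c h), Or.inr (hTβ c h)⟩
          · have h1 := hTα _ h
            have h2 := hTβ _ h
            rw [mul_smul, inv_smul_eq_iff] at h1 h2
            exact ⟨Or.inr h1, Or.inl (h2.trans hgβ)⟩
        obtain ⟨a1, a2⟩ := hp a ha'
        obtain ⟨b1, b2⟩ := hp b hb'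
        refine ⟨mul_mem ha hb, hsm _ ?_ ?_ (mul_mem ha hb)⟩
        · rw [mul_smul]; rcases b1 with e | e <;> rw [e] <;> assumption
        · rw [mul_smul]; rcases b2 with e | e <;> rw [e] <;> assumption
      inv_mem' := by
        rintro a ⟨ha, ha'⟩
        have hp : (a • α = α ∧ a • β = β) ∨ (a • α = β ∧ a • β = α) := by
          rcases ha' with h | h
          · exact Or.inl ⟨hTα a h, hTβ a h⟩
          · have h1 := hTα _ h
            have h2 := hTβ _ h
            rw [mul_smul, inv_smul_eq_iff] at h1 h2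
            exact Or.inr ⟨h1, h2.trans hgβ⟩
        refine ⟨inv_mem ha, hsm _ ?_ ?_ (inv_mem ha)⟩
        · rcases hp with ⟨h1, -⟩ | ⟨-, h2⟩
          · exact Or.inl (inv_smul_eq_iff.mpr h1.symm)
          · exact Or.inr (inv_smul_eq_iff.mpr h2.symm)
        · rcases hp with ⟨-, h2⟩ | ⟨h1, -⟩
          · exact Or.inr (inv_smul_eq_iff.mpr h2.symm)
          · exact Or.inl (inv_smul_eq_iff.mpr h1.symm) }
  have hDle : D ≤ S' := fun a ha => ha.1
  have hDmem : ∀ a : G, a ∈ D ↔ a ∈ S' ∧ (a ∈ T ∨ g⁻¹ * a ∈ T) := fun a => Iff.rfl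
  have hTD : T ≤ D := fun a ha => ⟨hTle ha, Or.inl ha⟩
  have hTD2 : T.relIndex D = 2 := by
    rw [Subgroup.relIndex, Subgroup.index_eq_two_iff]
    refine ⟨⟨g⁻¹, inv_mem (show g ∈ D from ⟨hgS, Or.inr (by rw [inv_mul_cancel]; exact one_mem _)⟩)⟩, fun b => ?_⟩
    show Xor (((b : G) * g⁻¹) ∈ T) ((b : G) ∈ T)
    rcases b.2.2 with h | h
    · exact Or.inr ⟨h, fun h2 => hgT (inv_mem_iff.mp ((Subgroup.mul_mem_cancel_left T h).mp h2))⟩
    · refine Or.inl ⟨?_, fun h2 => hgT (inv_mem_iff.mp ((Subgroup.mul_mem_cancel_right T h2).mp h))⟩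
      refine ⟨mul_mem b.2.1 (S'.inv_mem hgS), ?_⟩
      show ((b : G) * g⁻¹) • α = α
      have h3 := hTβ _ h
      rw [mul_smul, inv_smul_eq_iff, hgβ] at h3
      rw [mul_smul, show g⁻¹ • α = β from inv_smul_eq_iff.mpr hgβ.symm, h3]
  have hTDc : 2 * Nat.card T = Nat.card D := by
    rw [← hTD2, mul_comm, ← Subgroup.relIndex_bot_left, ← Subgroup.relIndex_bot_left]
    exact Subgroup.relIndex_mul_relIndex ⊥ T D bot_le hTD
  have hmemD : ∀ a ∈ S', (a • α = α ∨ a • α = β) → a ∈ D := by
    intro a ha h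
    refine ⟨ha, ?_⟩
    rcases h with h | h
    · exact Or.inl ⟨ha, h⟩
    · exact Or.inr ⟨mul_mem (S'.inv_mem hgS) ha, by
        show (g⁻¹ * a) • α = α
        rw [mul_smul, inv_smul_eq_iff]; exact h⟩
  -- transfer from the subgroup to G
  have hsmall : ∀ u ∈ S', u ≠ 1 → u * u = 1 → Nat.card ↥(S' ⊓ Subgroup.centralizer ({u} : Set G)) = 4 →
      (((∃ n : ℕ, Nonempty (↥S' ≃* DihedralGroup n)) ∨ Cfsg.IsQuasiDihedral ↥S') ∨ Nat.card S' = 4) := by
    intro u hu hu1 huu hc
    have ho : orderOf (⟨u, hu⟩ : S') = 2 := orderOf_eq_prime (Subtype.ext (by rw [Subgroup.coe_pow, sq]; exact huu))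
      (fun h => hu1 (congrArg Subtype.val h))
    have hcc : Nat.card ↥(Subgroup.centralizer ({⟨u, hu⟩} : Set S')) = 4 := by
      rw [← hc]
      refine Nat.card_congr
        { toFun := fun a => ⟨((a : S') : G), (a : S').2, Subgroup.mem_centralizer_singleton_iff.mpr
            (congrArg Subtype.val (Subgroup.mem_centralizer_singleton_iff.mp a.2))⟩
          invFun := fun a => ⟨⟨a, a.2.1⟩, Subgroup.mem_centralizer_singleton_iff.mpr
            (Subtype.ext (Subgroup.mem_centralizer_singleton_iff.mp a.2.2))⟩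
          left_inv := fun a => rfl
          right_inv := fun a => rfl }
    rcases Cfsg.Agent.S3224.result S.2 ⟨u, hu⟩ ho hcc with h | h | h
    exacts [Or.inl (Or.inl h), Or.inl (Or.inr h), Or.inr h]
  obtain ⟨a₂, ha₂⟩ := IsPGroup.iff_card.mp S.2
  have hT2 : 2 ∣ Nat.card T := by
    obtain ⟨e, he⟩ := IsPGroup.iff_card.mp (S.2.to_le hTle)
    rcases e with _ | e
    · exact absurd (Subgroup.card_eq_one.mp (by rw [he, pow_zero])) hT1
    · rw [he, pow_succ]; exact dvd_mul_left 2 _
  by_cases hDS : D = S'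
  swap
  · -- the pair is not invariant
    obtain ⟨h, hhS, hhD, hhn⟩ : ∃ h ∈ S', h ∉ D ∧ ∀ t ∈ D, h * t * h⁻¹ ∈ D := by
      have hlt : D.subgroupOf S' < ⊤ := by
        rw [lt_top_iff_ne_top, ne_eq, Subgroup.subgroupOf_eq_top]
        exact fun h => hDS (le_antisymm hDle h)
      obtain ⟨x, hx, hxT⟩ := SetLike.exists_of_lt ((Group.normalizerCondition_of_isNilpotent (G := S')) _ hlt)
      refine ⟨x, x.2, hxT, fun t ht => ?_⟩
      have h1 := (Subgroup.mem_normalizer_iff.mp hx (⟨t, hDle ht⟩ : S')).mp ht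
      simpa [Subgroup.mem_subgroupOf] using h1
    have hout : ∀ t ∈ T, t ≠ 1 → g⁻¹ * (h * t * h⁻¹) ∈ T := by
      intro t ht ht1
      refine ((hDmem _).mp (hhn t (hTD ht))).2.resolve_left fun hc => hhD (hmemD h hhS (hF _ hc (fun e => ht1 ?_) (h • α) ?_))
      · simpa using e
      · rw [mul_smul, mul_smul, inv_smul_smul, hTα t ht]
    have hTle2 : Nat.card T ≤ 2 := by
      by_contra hc
      obtain ⟨t, ht, ht1, ht2⟩ : ∃ t ∈ T, t ≠ 1 ∧ t ≠ t₀⁻¹ := by
        by_contra hno
        push Not at hno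
        apply hc
        have h1 : (T : Set G) ⊆ {1, t₀⁻¹} := fun t ht => by
          rcases eq_or_ne t 1 with e | e
          exacts [Or.inl e, Or.inr (hno t ht e)]
        have := (Set.ncard_le_ncard h1).trans (((Set.ncard_insert_le _ _).trans (by rw [Set.ncard_singleton])) : _ ≤ 2)
        rwa [← Nat.card_coe_set_eq] at this
      have hprod : t * t₀ ≠ 1 := fun e => ht2 (eq_inv_of_mul_eq_one_left e)
      have e3 := hTα _ (hout _ (mul_mem ht ht₀) hprod)
      have e1 := hTα _ (hout t ht ht1)
      have e2 := hTα _ (hout t₀ ht₀ ht₀1)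
      have e2' := hTβ _ (hout t₀ ht₀ ht₀1)
      have e1' := hTβ _ (hout t ht ht1)
      rw [mul_smul, inv_smul_eq_iff] at e1 e2 e3 e1' e2'
      rw [show h * (t * t₀) * h⁻¹ = (h * t * h⁻¹) * (h * t₀ * h⁻¹) by group, mul_smul, e2] at e3
      exact hβα ((e3.symm.trans e1').trans hgβ)
    have hT2c : Nat.card T = 2 := le_antisymm hTle2 (Nat.le_of_dvd Nat.card_pos hT2)
    have huniq : ∀ t ∈ T, t ≠ 1 → t = t₀ := by
      intro t ht ht1
      obtain ⟨a, b, hab, he⟩ := Set.ncard_eq_two.mp ((Nat.card_coe_set_eq _).symm.trans hT2c : (T : Set G).ncard = 2)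
      have hm : ∀ x ∈ T, x = a ∨ x = b := fun x hx => by
        have : x ∈ (T : Set G) := hx
        rwa [he] at this
      rcases hm 1 (one_mem T) with h1 | h1 <;> rcases hm t ht with h2 | h2 <;> rcases hm t₀ ht₀ with h3 | h3
      all_goals first | exact h2.trans h3.symm | exact absurd (h2.trans h1.symm) ht1 | exact absurd (h3.trans h1.symm) ht₀1
    have ht₀2 : t₀ * t₀ = 1 := by
      by_contra hne
      exact ht₀1 (mul_eq_right.mp (huniq _ (mul_mem ht₀ ht₀) hne))
    have hCD : S' ⊓ Subgroup.centralizer ({t₀} : Set G) = D := by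
      refine le_antisymm ?_ fun a ha => Subgroup.mem_inf.mpr ⟨hDle ha, ?_⟩
      · intro a ha
        refine hmemD a ha.1 (hF t₀ ht₀ ht₀1 _ ?_)
        rw [← mul_smul, ← Subgroup.mem_centralizer_singleton_iff.mp ha.2, mul_smul, hTα t₀ ht₀]
      · rw [Subgroup.mem_centralizer_singleton_iff]
        have hn : a * t₀ * a⁻¹ ∈ T := by
          rcases ha.2 with h1 | h1
          · exact mul_mem (mul_mem h1 ht₀) (inv_mem h1)
          · refine ⟨mul_mem (mul_mem (hDle ha) (hTle ht₀)) (S'.inv_mem (hDle ha)), ?_⟩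
            show (a * t₀ * a⁻¹) • α = α
            have h2 := hTβ _ h1
            rw [mul_smul, inv_smul_eq_iff, hgβ] at h2
            rw [mul_smul, mul_smul, show a⁻¹ • α = β from inv_smul_eq_iff.mpr h2.symm, hTβ t₀ ht₀, h2]
        have := huniq _ hn (fun e => ht₀1 (by simpa using e))
        rwa [mul_inv_eq_iff_eq_mul] at this
    have hc4 : Nat.card ↥(S' ⊓ Subgroup.centralizer ({t₀} : Set G)) = 4 := by
      rw [hCD, ← hTDc, hT2c]
    rcases hsmall t₀ (hTle ht₀) ht₀1 ht₀2 hc4 with h1 | h1
    · exact Or.inl ⟨h1, Or.inl hT2c⟩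
    · exact absurd (Subgroup.eq_of_le_of_card_ge hDle (by rw [h1, ← hTDc, hT2c])) hDS
  -- the pair is invariant
  have hidx : T.relIndex S' = 2 := hDS ▸ hTD2
  have hSc : 2 * Nat.card T = Nat.card S' := hDS ▸ hTDc
  have hS4 : 4 ≤ Nat.card S' := by
    have := Nat.le_of_dvd Nat.card_pos hT2
    omega
  have hcasesS : ∀ a ∈ S', (a ∈ T) ∨ (a • α = β ∧ a • β = α) := by
    intro a ha
    obtain ⟨-, h | h⟩ := (hDmem a).mp (hDS ▸ ha : a ∈ D)
    · exact Or.inl h
    · have h1 := hTα _ h
      have h2 := hTβ _ h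
      rw [mul_smul, inv_smul_eq_iff] at h1 h2
      exact Or.inr ⟨h1, h2.trans hgβ⟩
  by_cases hfree : ∀ γ : Ω, γ ≠ α → γ ≠ β → ∀ a ∈ S', a • γ = γ → a = 1
  swap
  · -- an involution outside T with a fixed point
    push Not at hfree
    obtain ⟨γ, hγα, hγβ, u, hu, huγ, hu1⟩ := hfree
    have huT : u ∉ T := fun h => (hF u h hu1 γ huγ).elim hγα hγβ
    obtain ⟨hu', hu''⟩ := (hcasesS u hu).resolve_left huT
    have huu : u * u = 1 := by
      by_contra hne
      rcases hF _ (⟨mul_mem hu hu, by show (u * u) • α = α; rw [mul_smul, hu', hu'']⟩ : u * u ∈ T) hne γ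
        (by rw [mul_smul, huγ, huγ]) with h | h
      exacts [hγα h, hγβ h]
    set C := S' ⊓ Subgroup.centralizer ({u} : Set G)
    have huC : u ∈ C := ⟨hu, Subgroup.mem_centralizer_singleton_iff.mpr rfl⟩
    have hTC : Nat.card ↥(T ⊓ C) ≤ 2 := by
      refine le_trans (Nat.card_le_card_of_injective (fun c : ↥(T ⊓ C) => (⟨(c : G) • γ, ?_⟩ : MulAction.fixedBy Ω u)) ?_)
        (hfix u hu1)
      · show u • ((c : G) • γ) = (c : G) • γ
        rw [← mul_smul, ← Subgroup.mem_centralizer_singleton_iff.mp c.2.2.2, mul_smul, huγ]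
      · intro c d hcd
        have h1 : ((d : G)⁻¹ * c) • γ = γ := by
          rw [mul_smul, inv_smul_eq_iff]; exact congrArg Subtype.val hcd
        by_contra hne
        rcases hF _ (mul_mem (inv_mem d.2.1) c.2.1) (fun e => hne (Subtype.ext (inv_mul_eq_one.mp e).symm)) γ h1 with h | h
        exacts [hγα h, hγβ h]
    have hC4 : Nat.card C ≤ 4 := by
      have h1 : (T ⊓ C).relIndex C ≤ 2 := by
        rw [Subgroup.inf_relIndex_right, ← hidx]
        exact Subgroup.relIndex_le_of_le_right inf_le_left (by rw [hidx]; norm_num)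
      calc Nat.card C = Nat.card ↥(T ⊓ C) * (T ⊓ C).relIndex C := by
            rw [← Subgroup.relIndex_bot_left, ← Subgroup.relIndex_bot_left]
            exact (Subgroup.relIndex_mul_relIndex ⊥ _ _ bot_le inf_le_right).symm
        _ ≤ 2 * 2 := Nat.mul_le_mul hTC h1
    have hC2 : Nat.card C ≠ 2 := by
      intro hC
      have hmem : ∀ c ∈ C, c = 1 ∨ c = u := by
        intro c hc
        obtain ⟨a, b, hab, he⟩ := Set.ncard_eq_two.mp ((Nat.card_coe_set_eq _).symm.trans hC : (C : Set G).ncard = 2)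
        have hm : ∀ x ∈ C, x = a ∨ x = b := fun x hx => by
          have : x ∈ (C : Set G) := hx
          rwa [he] at this
        rcases hm 1 (one_mem C) with h1 | h1 <;> rcases hm c hc with h2 | h2 <;> rcases hm u huC with h3 | h3
        all_goals first | exact Or.inl (h2.trans h1.symm) | exact Or.inr (h2.trans h3.symm) | exact absurd (h3.trans h1.symm) hu1
      have hlt : (Subgroup.zpowers u).subgroupOf S' < ⊤ := by
        rw [lt_top_iff_ne_top, ne_eq, Subgroup.subgroupOf_eq_top]
        intro hle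
        have h1 := Subgroup.card_le_of_le hle
        rw [Nat.card_zpowers, orderOf_eq_prime (by rw [sq, huu]) hu1] at h1
        omega
      obtain ⟨x, hx, hxu⟩ := SetLike.exists_of_lt ((Group.normalizerCondition_of_isNilpotent (G := S')) _ hlt)
      have h2 := (Subgroup.mem_normalizer_iff.mp hx (⟨u, hu⟩ : S')).mp (Subgroup.mem_zpowers u)
      rw [Subgroup.mem_subgroupOf] at h2
      obtain ⟨i, hi⟩ := Subgroup.mem_zpowers_iff.mp h2
      simp only [Subgroup.coe_mul, Subgroup.coe_inv] at hi
      have h3 : u ^ i = 1 ∨ u ^ i = u := by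
        rcases Int.even_or_odd i with ⟨k, rfl⟩ | ⟨k, rfl⟩
        · left; rw [zpow_add, ← (Commute.refl u).mul_zpow, huu, one_zpow]
        · right; rw [zpow_add, two_mul, zpow_add, ← (Commute.refl u).mul_zpow, huu, one_zpow, one_mul, zpow_one]
      rcases h3 with h3 | h3
      · rw [h3] at hi
        exact hu1 (by simpa using hi.symm)
      · rw [h3] at hi
        apply hxu
        rw [Subgroup.mem_subgroupOf]
        rcases hmem x ⟨x.2, Subgroup.mem_centralizer_singleton_iff.mpr (by
            rw [eq_mul_inv_iff_mul_eq] at hi; exact hi.symm)⟩ with e | e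
        · rw [e]; exact one_mem _
        · rw [e]; exact Subgroup.mem_zpowers u
    have hC4' : Nat.card C = 4 := by
      obtain ⟨e, he⟩ := IsPGroup.iff_card.mp (S.2.to_le (inf_le_left : C ≤ S'))
      have h1 : 1 < Nat.card C := by
        rw [Finite.one_lt_card_iff_nontrivial]
        exact ⟨⟨u, huC⟩, 1, fun e => hu1 (congrArg Subtype.val e)⟩
      rw [he] at hC4 hC2 h1 ⊢
      rcases e with _ | _ | _ | e
      · simp at h1
      · simp at hC2
      · norm_num
      · exfalso
        have : 2 ^ 3 ≤ 2 ^ (e + 3) := Nat.pow_le_pow_right two_pos (by omega)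
        omega
    refine Or.inl ⟨?_, Or.inr hidx⟩
    rcases hsmall u hu hu1 huu hC4' with h1 | h1
    · exact h1
    · -- order four
      have hT2c : Nat.card T = 2 := by omega
      have ht2 : t₀ * t₀ = 1 := by
        have h3 := Subgroup.orderOf_dvd_natCard T ht₀
        rw [hT2c] at h3
        rw [← sq]
        exact orderOf_dvd_iff_pow_eq_one.mp h3
      have hne : t₀ ≠ u := fun e => huT (e ▸ ht₀)
      obtain ⟨e⟩ := Cfsg.Agent.S0206.result t₀ u (orderOf_eq_prime (by rw [sq, ht2]) ht₀1) (orderOf_eq_prime (by rw [sq, huu]) hu1) hne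
      have hcl : Subgroup.closure ({t₀, u} : Set G) = S' := by
        refine Subgroup.eq_of_le_of_card_ge ?_ ?_
        · rw [Subgroup.closure_le]
          rintro y (rfl | rfl)
          exacts [hTle ht₀, hu]
        · set L := Subgroup.closure ({t₀, u} : Set G)
          have hL : L ≤ S' := by
            rw [Subgroup.closure_le]
            rintro y (rfl | rfl)
            exacts [hTle ht₀, hu]
          have h4 := Subgroup.card_dvd_of_le hL
          rw [h1] at h4 ⊢
          have h5 : 3 ≤ Nat.card L := by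
            have hsub : ({1, t₀, u} : Set G) ⊆ L := by
              rintro y (rfl | rfl | rfl)
              exacts [one_mem _, Subgroup.subset_closure (Or.inl rfl), Subgroup.subset_closure (Or.inr rfl)]
            have := Set.ncard_le_ncard hsub
            rwa [Set.ncard_eq_three.mpr ⟨_, _, _, ht₀1.symm, hu1.symm, hne, rfl⟩, ← Nat.card_coe_set_eq] at this
          have := Nat.le_of_dvd (by norm_num) h4
          interval_cases h6 : Nat.card L
          · exact absurd h4 (by norm_num)
          · exact le_rfl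
      exact Or.inl ⟨_, ⟨(MulEquiv.subgroupCongr hcl).symm.trans e⟩⟩
  -- all other orbits are regular
  refine Or.inr (Or.inl ⟨hS4, ⟨α, ?_, ?_⟩, ?_⟩)
  · have h1 : MulAction.orbit S' α = {α, β} := by
      refine Set.Subset.antisymm ?_ ?_
      · rintro _ ⟨⟨a, ha⟩, rfl⟩
        rcases hcasesS a ha with h | ⟨h, -⟩
        exacts [Or.inl (hTα a h), Or.inr h]
      · rintro _ (rfl | rfl)
        exacts [MulAction.mem_orbit_self _, ⟨⟨g, hgS⟩, rfl⟩]
    rw [Nat.card_coe_set_eq, h1, Set.ncard_pair hβα.symm]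
  · intro γ hγ
    have hγα : γ ≠ α := fun e => hγ (e ▸ MulAction.mem_orbit_self _)
    have hγβ : γ ≠ β := fun e => hγ (e ▸ ⟨⟨g, hgS⟩, rfl⟩)
    have hst : MulAction.stabilizer S' γ = ⊥ := by
      rw [eq_bot_iff]
      intro a ha
      exact Subtype.ext (hfree γ hγα hγβ a a.2 ha)
    rw [Nat.card_coe_set_eq, ← MulAction.index_stabilizer, hst, Subgroup.index_bot]
  -- the congruence
  obtain ⟨k, hn⟩ : ∃ k, Nat.card Ω = k * Nat.card S' + 2 := by
    haveI : Fintype S' := Fintype.ofFinite _
    have hB := MulAction.sum_card_fixedBy_eq_card_orbits_mul_card_group S' Ω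
    simp only [Fintype.card_eq_nat_card] at hB
    have hterm : ∀ a : S', Nat.card (MulAction.fixedBy Ω a) =
        (if a = 1 then Nat.card Ω - 2 else 0) + (if (a : G) ∈ T then 2 else 0) := by
      intro a
      have hΩ2 : 2 ≤ Nat.card Ω := by
        have := Set.ncard_le_ncard (Set.subset_univ ({α, β} : Set Ω))
        rwa [Set.ncard_pair hβα.symm, Set.ncard_univ] at this
      by_cases ha : a = 1
      · subst ha
        rw [if_pos rfl, if_pos (show ((1 : S') : G) ∈ T from one_mem T), Nat.sub_add_cancel hΩ2]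
        exact Nat.card_congr (Equiv.subtypeUnivEquiv fun x => one_smul S' x)
      · rw [if_neg ha, zero_add]
        have ha' : (a : G) ≠ 1 := fun e => ha (Subtype.ext e)
        by_cases haT : (a : G) ∈ T
        · rw [if_pos haT, Nat.card_coe_set_eq]
          have : MulAction.fixedBy Ω a = {α, β} := by
            ext x
            refine ⟨fun hx => hF _ haT ha' x hx, ?_⟩
            rintro (rfl | rfl)
            exacts [hTα _ haT, hTβ _ haT]
          rw [this, Set.ncard_pair hβα.symm]
        · rw [if_neg haT, Nat.card_eq_zero]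
          left
          refine ⟨fun x => ?_⟩
          obtain ⟨h1, h2⟩ := (hcasesS a a.2).resolve_left haT
          by_cases hxα : x.1 = α
          · exact hβα (h1.symm.trans (by have := x.2; rw [MulAction.mem_fixedBy, hxα] at this; exact this))
          by_cases hxβ : x.1 = β
          · exact hβα ((h2.symm.trans (by have := x.2; rw [MulAction.mem_fixedBy, hxβ] at this; exact this)).symm)
          exact ha' (hfree x.1 hxα hxβ a a.2 x.2)
    rw [Finset.sum_congr rfl fun a _ => hterm a, Finset.sum_add_distrib, Finset.sum_ite_eq', if_pos (Finset.mem_univ _),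
      ← Finset.sum_filter, Finset.sum_const, smul_eq_mul] at hB
    have hcT : (Finset.univ.filter fun a : S' => (a : G) ∈ T).card = Nat.card T := by
      rw [← Fintype.card_subtype, Fintype.card_eq_nat_card]
      exact Nat.card_congr (Subgroup.subgroupOfEquivOfLe hTle).toEquiv
    rw [hcT, mul_comm (Nat.card T), hSc] at hB
    set c := Nat.card (Quotient (MulAction.orbitRel S' Ω))
    have h2 : 2 ≤ Nat.card Ω := by
      have := Set.ncard_le_ncard (Set.subset_univ ({α, β} : Set Ω))
      rwa [Set.ncard_pair hβα.symm, Set.ncard_univ] at this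
    refine ⟨c - 1, ?_⟩
    rw [Nat.sub_one_mul]
    omega
  have hgo : orderOf g ≠ 1 := fun e => hgT (orderOf_eq_one_iff.mp e ▸ one_mem T)
  -- an index two subgroup
  obtain ⟨N, hNn, hN2, hgN, hTN⟩ : ∃ N : Subgroup G, N.Normal ∧ N.index = 2 ∧ g ∉ N ∧ T ≤ N := by
    by_cases hcyc : IsCyclic S'
    · have hmin : (Nat.card G).minFac = 2 :=
        (Nat.minFac_eq_two_iff _).mpr ((hT2.trans (Subgroup.card_subgroup_dvd_card T)))
      have hnc := IsCyclic.normalizer_le_centralizer hmin (P := S) hcyc
      set f := MonoidHom.transferSylow S hnc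
      have hK : Subgroup.IsComplement' f.ker S' := MonoidHom.ker_transferSylow_isComplement' S hnc
      haveI := hcyc
      letI : CommGroup S' := IsCyclic.commGroup
      have hfinj : ∀ a ∈ S', f a = 1 → a = 1 := fun a ha he =>
        Subgroup.disjoint_def.mp hK.disjoint (MonoidHom.mem_ker.mpr he) ha
      have hsurj : Function.Surjective f := by
        intro y
        obtain ⟨a, ha⟩ := Finite.injective_iff_surjective.mp (show Function.Injective fun a : S' => f a from fun a b hab => by
          have h1 : f ((a : G)⁻¹ * b) = 1 := by rw [map_mul, map_inv, inv_mul_eq_one]; exact hab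
          exact Subtype.ext (inv_mul_eq_one.mp (hfinj _ (mul_mem (inv_mem a.2) b.2) h1))) y
        exact ⟨a, ha⟩
      set Tb := T.map f
      have hTc : Nat.card Tb = Nat.card T := by
        refine Nat.card_congr (Equiv.ofBijective (fun a : T => (⟨f a, Subgroup.mem_map_of_mem f a.2⟩ : Tb)) ⟨fun a b hab => ?_, ?_⟩).symm
        · have h1 : f ((a : G)⁻¹ * b) = 1 := by
            rw [map_mul, map_inv, inv_mul_eq_one]; exact congrArg Subtype.val hab
          exact Subtype.ext (inv_mul_eq_one.mp (hfinj _ (mul_mem (inv_mem (hTle a.2)) (hTle b.2)) h1))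
        · rintro ⟨_, a, ha, rfl⟩
          exact ⟨⟨a, ha⟩, rfl⟩
      refine ⟨Tb.comap f, Subgroup.Normal.comap inferInstance f, ?_, ?_, Subgroup.le_comap_map f T⟩
      · rw [Subgroup.index_comap_of_surjective _ hsurj]
        have h1 := Tb.card_mul_index
        rw [hTc, ← hSc, mul_comm 2] at h1
        exact Nat.eq_of_mul_eq_mul_left Nat.card_pos h1
      · rintro ⟨t, ht, he⟩
        have h1 : f (t⁻¹ * g) = 1 := by rw [map_mul, map_inv, inv_mul_eq_one]; exact he
        have h2 := hfinj _ (mul_mem (inv_mem (hTle ht)) hgS) h1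
        exact hgT ((inv_mul_eq_one.mp h2) ▸ ht)
    · -- the sign
      have hord : ∀ a ∈ S', ∀ l, orderOf a = l → a ≠ 1 → 2 ∣ Nat.card S' / l ∧ Even l ∧ l ∣ Nat.card S' := by
        intro a ha l hl ha1
        subst hl
        have hd : orderOf a ∣ Nat.card S' := Subgroup.orderOf_dvd_natCard S' ha
        obtain ⟨e, he, heq⟩ := (Nat.dvd_prime_pow Nat.prime_two).mp (ha₂ ▸ hd)
        have he0 : e ≠ 0 := fun h => ha1 (orderOf_eq_one_iff.mp (by rw [heq, h, pow_zero]))
        have hlt : e < a₂ := by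
          refine lt_of_le_of_ne he fun h => hcyc (isCyclic_of_orderOf_eq_card (⟨a, ha⟩ : S') ?_)
          rw [Subgroup.orderOf_mk, heq, h, ← ha₂]
        refine ⟨?_, ?_, hd⟩
        · rw [ha₂, heq, Nat.pow_div he two_pos]; exact dvd_pow_self 2 (by omega)
        · rw [heq]; exact Nat.even_pow.mpr ⟨even_two, he0⟩
      let φ : G →* ℤˣ := Equiv.Perm.sign.comp (MulAction.toPermHom G Ω)
      have hfreepow : ∀ a ∈ S', ∀ x : Ω, x ≠ α → x ≠ β → ∀ j, 0 < j → j < orderOf a → a ^ j • x ≠ x := by
        intro a ha x hxα hxβ j hj0 hj hx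
        exact pow_ne_one_of_lt_orderOf hj0.ne' hj (hfree x hxα hxβ _ (pow_mem ha j) hx)
      have hTN : ∀ t ∈ T, φ t = 1 := by
        intro t ht
        by_cases ht1 : t = 1
        · rw [ht1, map_one]
        obtain ⟨hdiv, hev, hdvd⟩ := hord t (hTle ht) _ rfl ht1
        show Equiv.Perm.sign (MulAction.toPermHom G Ω t) = 1
        rw [sign_semiregular _ (orderOf t) hev (orderOf_pos t) (by rw [← map_pow, pow_orderOf_eq_one, map_one]) ?_]
        · have hfx : Fintype.card (Function.fixedPoints (MulAction.toPermHom G Ω t)) = 2 := by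
            rw [Fintype.card_eq_nat_card, Nat.card_coe_set_eq]
            have : Function.fixedPoints (MulAction.toPermHom G Ω t) = {α, β} := by
              ext x
              refine ⟨fun hx => hF t ht ht1 x hx, ?_⟩
              rintro (rfl | rfl)
              exacts [hTα _ ht, hTβ _ ht]
            rw [this, Set.ncard_pair hβα.symm]
          rw [hfx, Fintype.card_eq_nat_card, hn, Nat.add_sub_cancel, Nat.mul_div_assoc _ hdvd]
          obtain ⟨c, hc⟩ := hdiv
          rw [hc, mul_left_comm, pow_mul, neg_one_sq, one_pow]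
        · intro x hx j hj0 hj
          rw [← map_pow]
          refine hfreepow t (hTle ht) x ?_ ?_ j hj0 hj
          · rintro rfl; exact hx (hTα t ht)
          · rintro rfl; exact hx (hTβ t ht)
      have hg : φ g = -1 := by
        obtain ⟨hdiv, hev, hdvd⟩ := hord g hgS _ rfl (fun e => hgo (by rw [e, orderOf_one]))
        set σ := MulAction.toPermHom G Ω g with hσ
        set τ := σ * Equiv.swap α β
        have hτα : τ α = α := by
          show σ (Equiv.swap α β α) = α
          rw [Equiv.swap_apply_left]; exact hgβ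
        have hτβ : τ β = β := by
          show σ (Equiv.swap α β β) = β
          rw [Equiv.swap_apply_right]; exact hβ.symm
        have hτo : ∀ x, x ≠ α → x ≠ β → ∀ j, (τ ^ j) x = g ^ j • x := by
          intro x hxα hxβ j
          induction j with
          | zero => simp
          | succ j ih =>
            have h1 : g ^ j • x ≠ α ∧ g ^ j • x ≠ β := by
              constructor <;> intro e
              · rcases hcasesS _ (pow_mem hgS j) with h | ⟨-, h⟩
                · exact hxα (smul_left_cancel _ (e.trans (hTα _ h).symm))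
                · exact hxβ (smul_left_cancel _ (e.trans h.symm))
              · rcases hcasesS _ (pow_mem hgS j) with h | ⟨h, -⟩
                · exact hxβ (smul_left_cancel _ (e.trans (hTβ _ h).symm))
                · exact hxα (smul_left_cancel _ (e.trans h.symm))
            rw [pow_succ', Equiv.Perm.mul_apply, ih, pow_succ', mul_smul]
            show σ (Equiv.swap α β _) = _
            rw [Equiv.swap_apply_of_ne_of_ne h1.1 h1.2]
            rfl
        have hpow : τ ^ orderOf g = 1 := by
          ext x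
          by_cases hxα : x = α
          · rw [hxα, Equiv.Perm.pow_apply_eq_self_of_apply_eq_self hτα, Equiv.Perm.one_apply]
          by_cases hxβ : x = β
          · rw [hxβ, Equiv.Perm.pow_apply_eq_self_of_apply_eq_self hτβ, Equiv.Perm.one_apply]
          rw [hτo x hxα hxβ, pow_orderOf_eq_one, one_smul, Equiv.Perm.one_apply]
        have hfr : ∀ x, τ x ≠ x → ∀ j, 0 < j → j < orderOf g → (τ ^ j) x ≠ x := by
          intro x hx j hj0 hj
          have hxα : x ≠ α := by rintro rfl; exact hx hτα
          have hxβ : x ≠ β := by rintro rfl; exact hx hτβ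
          rw [hτo x hxα hxβ]
          exact hfreepow g hgS x hxα hxβ j hj0 hj
        have hfx : Fintype.card (Function.fixedPoints τ) = 2 := by
          rw [Fintype.card_eq_nat_card, Nat.card_coe_set_eq]
          have : Function.fixedPoints τ = {α, β} := by
            ext x
            refine ⟨fun hx => ?_, ?_⟩
            · by_contra hne
              rw [Set.mem_insert_iff, Set.mem_singleton_iff, not_or] at hne
              have h1 := hτo x hne.1 hne.2 1
              rw [pow_one, pow_one] at h1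
              exact hgT ((hfree x hne.1 hne.2 g hgS (h1.symm.trans hx)) ▸ one_mem T)
            · rintro (rfl | rfl)
              exacts [hτα, hτβ]
          rw [this, Set.ncard_pair hβα.symm]
        have hsτ : Equiv.Perm.sign τ = 1 := by
          rw [sign_semiregular τ _ hev (orderOf_pos g) hpow hfr, hfx, Fintype.card_eq_nat_card, hn, Nat.add_sub_cancel,
            Nat.mul_div_assoc _ hdvd]
          obtain ⟨c, hc⟩ := hdiv
          rw [hc, mul_left_comm, pow_mul, neg_one_sq, one_pow]
        show Equiv.Perm.sign σ = -1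
        have : σ = τ * Equiv.swap α β := by rw [mul_assoc, Equiv.swap_mul_self, mul_one]
        rw [this, map_mul, hsτ, Equiv.Perm.sign_swap hβα.symm, one_mul]
      refine ⟨φ.ker, inferInstance, ?_, ?_, fun t ht => MonoidHom.mem_ker.mpr (hTN t ht)⟩
      · rw [Subgroup.index_ker, MonoidHom.range_eq_top.mpr, Subgroup.card_top, Nat.card_eq_fintype_card, Fintype.card_units_int]
        intro y
        rcases Int.units_eq_one_or y with rfl | rfl
        exacts [⟨1, map_one φ⟩, ⟨g, hg⟩]
      · intro h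
        rw [MonoidHom.mem_ker, hg] at h
        exact absurd h (by decide)
  -- Frobenius
  haveI := hNn
  set St := MulAction.stabilizer G α
  have hΩpos : Nat.card Ω * Nat.card St = Nat.card G := by
    rw [← Subgroup.index_mul_card St, MulAction.index_stabilizer_of_transitive]
  have hrel : ¬ 2 ∣ T.relIndex St := by
    intro hd
    have hfac : Nat.card St = Nat.card T * T.relIndex St := by
      rw [← Subgroup.relIndex_bot_left, ← Subgroup.relIndex_bot_left]
      exact (Subgroup.relIndex_mul_relIndex ⊥ T St bot_le inf_le_right).symm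
    obtain ⟨r, hr⟩ := hd
    have hG : Nat.card S' * S'.index = Nat.card G := Subgroup.card_mul_index S'
    apply (show ¬ 2 ∣ S'.index from S.not_dvd_index)
    rw [← hΩpos, hfac, hr, hn] at hG
    have h5 : Nat.card S' * S'.index = Nat.card S' * ((k * Nat.card S' + 2) * r) := by
      rw [hG, ← hSc]; ring
    rw [Nat.eq_of_mul_eq_mul_left Nat.card_pos h5]
    exact Dvd.dvd.mul_right (dvd_add (Dvd.dvd.mul_left (hSc ▸ dvd_mul_right 2 _) k) dvd_rfl) r
  have hSyl : ∀ x ∈ St, x ∈ N := by
    intro x hx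
    obtain ⟨e, m, hm, hxe⟩ := Nat.exists_eq_pow_mul_and_not_dvd (orderOf_pos x).ne' 2 (by norm_num)
    have hxm : x ^ m ∈ N := by
      have hTp : IsPGroup 2 (T.subgroupOf St) := (S.2.to_le hTle).of_equiv
        (Subgroup.subgroupOfEquivOfLe (inf_le_right : T ≤ St)).symm
      have hm2 : ¬ 2 ∣ (T.subgroupOf St).index := hrel
      let P : Sylow 2 St := hTp.toSylow hm2
      have hxp : IsPGroup 2 (Subgroup.zpowers (⟨x, hx⟩ ^ m : St)) := by
        refine IsPGroup.of_card (n := e) ?_
        rw [Nat.card_zpowers, orderOf_pow, Subgroup.orderOf_mk, hxe, Nat.gcd_mul_left_left,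
          Nat.mul_div_cancel _ (Nat.pos_of_ne_zero (by rintro rfl; exact hm (dvd_zero 2)))]
      obtain ⟨R, hR⟩ := hxp.exists_le_sylow
      obtain ⟨y, hy⟩ := MulAction.exists_smul_eq St P R
      have h1 := hR (Subgroup.mem_zpowers _)
      rw [← hy, Sylow.coe_subgroup_smul, Subgroup.mem_pointwise_smul_iff_inv_smul_mem] at h1
      have h2 : (y : G)⁻¹ * x ^ m * y ∈ N := by
        apply hTN
        have := (IsPGroup.toSylow_coe hTp hm2).le h1
        simpa [Subgroup.mem_subgroupOf, MulAut.smul_def] using this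
      have := hNn.conj_mem _ h2 (y : G)
      simpa [mul_assoc] using this
    rcases Nat.even_or_odd m with ⟨c, rfl⟩ | ⟨c, rfl⟩
    · exact absurd ⟨c, (two_mul c).symm⟩ hm
    · rw [pow_succ, pow_mul] at hxm
      exact (Subgroup.mul_mem_cancel_left N (pow_mem (Subgroup.sq_mem_of_index_two hN2 x) c)).mp hxm
  refine ⟨N, hNn, Or.inl hN2, (MulAction.stabilizer N α), ?_, ?_, ?_⟩
  · intro h
    have h1 : (⟨t₀, hTN ht₀⟩ : N) ∈ MulAction.stabilizer N α := hTα t₀ ht₀
    rw [h, Subgroup.mem_bot] at h1
    exact ht₀1 (congrArg Subtype.val h1)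
  · intro h
    have hfixN : ∀ y ∈ N, ∀ x : Ω, y • x = x := by
      intro y hy x
      obtain ⟨a, rfl⟩ := MulAction.exists_smul_eq G α x
      have h1 : (⟨a⁻¹ * y * a, by simpa using hNn.conj_mem y hy a⁻¹⟩ : N) ∈ MulAction.stabilizer N α := h ▸ Subgroup.mem_top _
      have h2 : (a⁻¹ * y * a) • α = α := h1
      rwa [mul_smul, mul_smul, inv_smul_eq_iff] at h2
    exact ht₀1 (FaithfulSMul.eq_of_smul_eq_smul (α := Ω) fun x => by rw [one_smul]; exact hfixN _ (hTN ht₀) x)
  · intro y hy
    rw [eq_bot_iff]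
    intro h hm
    obtain ⟨hh, hh'⟩ := Subgroup.mem_inf.mp hm
    rw [Subgroup.mem_pointwise_smul_iff_inv_smul_mem] at hh'
    rw [Subgroup.mem_bot]
    by_contra hh1
    have hαh : (h : G) • α = α := hh
    set δ := (y : G) • α
    have hδ : δ ≠ α := hy
    have hδh : (h : G) • δ = δ := by
      have h2 : ((y : G)⁻¹ * h * y) • α = α := by
        have h3 : (MulAut.conj y)⁻¹ • h ∈ MulAction.stabilizer N α := hh'
        simpa [MulAut.smul_def, MulAction.mem_stabilizer_iff, Subgroup.smul_def] using h3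
      rwa [mul_smul, mul_smul, inv_smul_eq_iff] at h2
    -- a power of prime order
    obtain ⟨p, hp, hpd⟩ := Nat.exists_prime_and_dvd (n := orderOf (h : G)) (fun e => hh1 (Subtype.ext (orderOf_eq_one_iff.mp e)))
    haveI := Fact.mk hp
    obtain ⟨c, hc⟩ := hpd
    set x := (h : G) ^ c with hxdef
    have hxo : orderOf x = p := by
      rw [hxdef, orderOf_pow_of_dvd (fun e => by rw [e, mul_zero] at hc; exact (orderOf_pos (h : G)).ne' hc) ⟨p, by rw [hc, mul_comm]⟩,
        hc, Nat.mul_div_cancel _ (Nat.pos_of_ne_zero fun e => by rw [e, mul_zero] at hc; exact (orderOf_pos (h : G)).ne' hc)]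
    have hx1 : x ≠ 1 := fun e => hp.ne_one (by rw [← hxo, e, orderOf_one])
    have hxN : x ∈ N := pow_mem h.2 c
    have hxα : x • α = α := (pow_mem hαh c : (h : G) ^ c ∈ MulAction.stabilizer G α)
    have hxδ : x • δ = δ := (pow_mem hδh c : (h : G) ^ c ∈ MulAction.stabilizer G δ)
    have hxonly : ∀ z, x • z = z → z = α ∨ z = δ := fun z hz => by
      by_contra hne
      rw [not_or] at hne
      exact three x hx1 α δ z hδ.symm (Ne.symm hne.1) (Ne.symm hne.2) hxα hxδ hz
    have hβN : β ∉ MulAction.orbit N α := by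
      rintro ⟨a, ha⟩
      have ha' : (a : G) • α = β := ha
      have h1 : g⁻¹ * a ∈ St := by
        show (g⁻¹ * (a : G)) • α = α
        rw [mul_smul, inv_smul_eq_iff]; exact ha'
      exact hgN (inv_mem_iff.mp ((Subgroup.mul_mem_cancel_right N a.2).mp (hSyl _ h1)))
    by_cases hp2 : p = 2
    · subst hp2
      -- an involution is conjugate into T inside the stabilizer
      have hTp : IsPGroup 2 (T.subgroupOf St) := (S.2.to_le hTle).of_equiv
        (Subgroup.subgroupOfEquivOfLe (inf_le_right : T ≤ St)).symm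
      have hm2 : ¬ 2 ∣ (T.subgroupOf St).index := hrel
      have hxS : x ∈ St := hxα
      have hxp : IsPGroup 2 (Subgroup.zpowers (⟨x, hxS⟩ : St)) := IsPGroup.of_card (n := 1) (by
        rw [Nat.card_zpowers, Subgroup.orderOf_mk, hxo, pow_one])
      obtain ⟨R, hR⟩ := hxp.exists_le_sylow
      obtain ⟨z, hz⟩ := MulAction.exists_smul_eq St (hTp.toSylow hm2) R
      have h1 := hR (Subgroup.mem_zpowers _)
      rw [← hz, Sylow.coe_subgroup_smul, Subgroup.mem_pointwise_smul_iff_inv_smul_mem] at h1
      have h2 : (z : G)⁻¹ * x * z ∈ T := by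
        have := (IsPGroup.toSylow_coe hTp hm2).le h1
        simpa [Subgroup.mem_subgroupOf, MulAut.smul_def] using this
      have h3 : ((z : G)⁻¹ * x * z) ≠ 1 := fun e => hx1 (by
        rw [mul_assoc, inv_mul_eq_one, eq_comm, mul_eq_right] at e; exact e)
      have h4 : ((z : G)⁻¹ * x * z) • ((z : G)⁻¹ • δ) = (z : G)⁻¹ • δ := by
        rw [← mul_smul, mul_assoc, mul_inv_cancel, mul_one, mul_smul, hxδ]
      rcases hF _ h2 h3 _ h4 with e | e
      · rw [inv_smul_eq_iff, show (z : G) • α = α from z.2] at e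
        exact hδ e
      · apply hβN
        rw [inv_smul_eq_iff] at e
        refine ⟨⟨(z : G)⁻¹ * y, mul_mem (inv_mem (hSyl _ z.2)) y.2⟩, ?_⟩
        show ((z : G)⁻¹ * y) • α = β
        rw [mul_smul, show (y : G) • α = δ from rfl, e, inv_smul_smul]
    · -- odd primes
      set Z := Subgroup.zpowers x
      have hZ : IsPGroup p Z := IsPGroup.of_card (n := 1) (by rw [Nat.card_zpowers, hxo, pow_one])
      have hZN : Z ≤ N := Subgroup.zpowers_le.mpr hxN
      have key : ∀ w : Ω, Nat.card (MulAction.orbit N w) ≡ {z | z ∈ MulAction.orbit N w ∧ x • z = z}.ncard [MOD p] := by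
        intro w
        letI : MulAction Z (MulAction.orbit N w) := MulAction.compHom _ (Subgroup.inclusion hZN)
        have h1 := hZ.card_modEq_card_fixedPoints (MulAction.orbit N w)
        suffices he : Nat.card (MulAction.fixedPoints Z (MulAction.orbit N w)) =
            {z | z ∈ MulAction.orbit N w ∧ x • z = z}.ncard by rwa [he] at h1
        rw [← Nat.card_coe_set_eq]
        refine Nat.card_congr
          { toFun := fun a => ⟨a.1.1, a.1.2, congrArg Subtype.val (a.2 ⟨x, Subgroup.mem_zpowers x⟩)⟩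
            invFun := fun a => ⟨⟨a.1, a.2.1⟩, fun b => by
              obtain ⟨i, hi⟩ := Subgroup.mem_zpowers_iff.mp b.2
              apply Subtype.ext
              show (b : G) • (a : Ω) = a
              rw [← hi]
              exact (zpow_mem (show x ∈ MulAction.stabilizer G (a : Ω) from a.2.2) i)⟩
            left_inv := fun a => rfl
            right_inv := fun a => rfl }
      have e1 : {z | z ∈ MulAction.orbit N α ∧ x • z = z} = {α, δ} := by
        ext z
        refine ⟨fun hz => hxonly z hz.2, ?_⟩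
        rintro (rfl | rfl)
        exacts [⟨MulAction.mem_orbit_self _, hxα⟩, ⟨⟨y, rfl⟩, hxδ⟩]
      have e2 : {z | z ∈ MulAction.orbit N β ∧ x • z = z} = ∅ := by
        ext z
        simp only [Set.mem_setOf_eq, Set.mem_empty_iff_false, iff_false, not_and]
        intro hz hzx
        have hsymm : MulAction.orbit N z = MulAction.orbit N β := MulAction.orbit_eq_iff.mpr hz
        apply hβN
        rcases hxonly z hzx with rfl | rfl
        · rw [hsymm]; exact MulAction.mem_orbit_self _
        · rw [← MulAction.orbit_eq_iff.mpr (show δ ∈ MulAction.orbit N α from ⟨y, rfl⟩), hsymm]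
          exact MulAction.mem_orbit_self _
      have hcard : Nat.card (MulAction.orbit N β) = Nat.card (MulAction.orbit N α) := by
        refine (Nat.card_congr ((MulAction.toPerm g : Equiv.Perm Ω).subtypeEquiv fun z => ?_)).symm
        show z ∈ MulAction.orbit N α ↔ g • z ∈ MulAction.orbit N β
        constructor
        · rintro ⟨a, rfl⟩
          refine ⟨⟨g * a * g⁻¹, hNn.conj_mem _ a.2 g⟩, ?_⟩
          show (g * a * g⁻¹) • g • α = g • (a : G) • α
          rw [← mul_smul, inv_mul_cancel_right, mul_smul]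
        · rintro ⟨a, ha⟩
          refine ⟨⟨g⁻¹ * a * g, by simpa using hNn.conj_mem _ a.2 g⁻¹⟩, ?_⟩
          show (g⁻¹ * a * g) • α = z
          rw [mul_smul, mul_smul, ← hβ, show (a : G) • β = g • z from ha, inv_smul_smul]
      have k1 := key α
      have k2 := key β
      rw [e1, Set.ncard_pair hδ.symm] at k1
      rw [e2, Set.ncard_empty, hcard] at k2
      have := (Nat.modEq_zero_iff_dvd).mp (k1.symm.trans k2)
      exact hp2 ((Nat.prime_dvd_prime_iff_eq hp Nat.prime_two).mp this)

end Cfsg.Agent.S3390
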