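import Cfsg.Statements.S3391
import Cfsg.Agent.Suz.Fixity
import Cfsg.Agent.Suz.Lie

set_option autoImplicit false
open Cfsg

namespace Cfsg.Agent.S3391

/-- Let q = 2^{2m+1} ≥ 8 and let G be isomorphic to the Suzuki group Sz(q). If G acts faithfully and transitively on a finite set Ω with fixity 2 (every non-identity element fixes at most two points, and some fixes exactly two), then either |Ω| = q² + 1 and the action is 2-transitive, or |Ω| = q²(q² + 1) and the point stabilizers have order q − 1. -/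
theorem result {G : Type*} [Group G] [Finite G] (F : Type) [Field F] [Fintype F] (m : ℕ) (hm : 1 ≤ m) (hF : Fintype.card F = 2 ^ (2 * m + 1))
    (e : G ≃* ↥(Cfsg.Lie.Sz F (2 ^ (m + 1)))) {Ω : Type*} [Fintype Ω] [MulAction G Ω] [FaithfulSMul G Ω] (htr : MulAction.IsPretransitive G Ω)
    (hfix : ∀ g : G, g ≠ 1 → Nat.card (MulAction.fixedBy Ω g) ≤ 2) (hex : ∃ g : G, g ≠ 1 ∧ Nat.card (MulAction.fixedBy Ω g) = 2) :
    (Fintype.card Ω = Fintype.card F ^ 2 + 1 ∧ MulAction.IsMultiplyPretransitive G Ω 2) ∨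
    (Fintype.card Ω = Fintype.card F ^ 2 * (Fintype.card F ^ 2 + 1) ∧ ∀ α : Ω, Nat.card (MulAction.stabilizer G α) = Fintype.card F - 1) := by
  classical
  have Q : Cfsg.Lib.Suz.Par F m := ⟨hm, hF⟩
  let φ : ↥(Cfsg.Sz F m) ≃* G := (Cfsg.Lib.Suz.lieEquiv Q).trans e.symm
  let : MulAction ↥(Cfsg.Sz F m) Ω := MulAction.compHom Ω φ.toMonoidHom
  have htr' : MulAction.IsPretransitive ↥(Cfsg.Sz F m) Ω := ⟨fun a b => by
    obtain ⟨g, hg⟩ := htr.exists_smul_eq a b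
    exact ⟨φ.symm g, by show φ (φ.symm g) • a = b; rwa [φ.apply_symm_apply]⟩⟩
  have hfix' : ∀ g : ↥(Cfsg.Sz F m), g ≠ 1 → Nat.card (MulAction.fixedBy Ω g) ≤ 2 := fun g hg =>
    hfix (φ g) fun h => hg (φ.injective (h.trans (map_one φ).symm))
  have hex' : ∃ g : ↥(Cfsg.Sz F m), g ≠ 1 ∧ Nat.card (MulAction.fixedBy Ω g) = 2 := by
    obtain ⟨g, hg, h2⟩ := hex
    obtain ⟨x, rfl⟩ := φ.surjective g
    exact ⟨x, fun h => hg (by rw [h, map_one]), h2⟩
  rcases Cfsg.Lib.Suz.Fixity.main Q htr' hfix' hex' with ⟨h1, h2⟩ | ⟨h1, h2⟩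
  · refine Or.inl ⟨h1, ?_⟩
    rw [MulAction.is_two_pretransitive_iff] at h2 ⊢
    intro a b c d hab hcd
    obtain ⟨g, g1, g2⟩ := h2 hab hcd
    exact ⟨φ g, g1, g2⟩
  · refine Or.inr ⟨h1, fun α => (Nat.card_congr ?_).trans (h2 α)⟩
    exact (φ.toEquiv.subtypeEquiv fun x => Iff.rfl).symm

end Cfsg.Agent.S3391
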