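import Cfsg.Statements.S3718
import Cfsg.Agent.OneComposite.Main
-- import your own Cfsg.Agent.* helpers here

set_option autoImplicit false
open Cfsg

namespace Cfsg.Agent.S3718

/-- Let G be a finite simple group whose set of element orders contains at most one composite number (at most one element order that is neither 1 nor a prime). Then G is cyclic of prime order, or isomorphic to PSL₂(q) for q ∈ {5, 7, 8, 9, 11, 13, 16}, to PSL₃(4), to the Suzuki group Sz(8), to PSL₂(3ⁿ) with (3ⁿ − 1)/2 and (3ⁿ + 1)/4 both prime, or to PSL₂(2ⁿ) with 2ⁿ − 1 and (2ⁿ + 1)/3 both prime. -/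
theorem result {G : Type*} [Group G] [Finite G] [IsSimpleGroup G]
    (h1 : {n : ℕ | n ∈ Set.range (orderOf : G → ℕ) ∧ 1 < n ∧ ¬ n.Prime}.Subsingleton) :
    (Nat.card G).Prime ∨
    (∃ (F : Type) (_ : Field F) (_ : Fintype F), (Fintype.card F = 5 ∨ Fintype.card F = 7 ∨ Fintype.card F = 8 ∨ Fintype.card F = 9 ∨
        Fintype.card F = 11 ∨ Fintype.card F = 13 ∨ Fintype.card F = 16) ∧ Nonempty (G ≃* Matrix.ProjectiveSpecialLinearGroup (Fin 2) F)) ∨
    (∃ (F : Type) (_ : Field F) (_ : Fintype F), Fintype.card F = 4 ∧ Nonempty (G ≃* Matrix.ProjectiveSpecialLinearGroup (Fin 3) F)) ∨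
    (∃ (F : Type) (_ : Field F) (_ : Fintype F), Fintype.card F = 8 ∧ Nonempty (G ≃* ↥(Cfsg.Lie.Sz F 4))) ∨
    (∃ (F : Type) (_ : Field F) (_ : Fintype F), ∃ n r s : ℕ, r.Prime ∧ s.Prime ∧ 3 ^ n - 1 = 2 * r ∧ 3 ^ n + 1 = 4 * s ∧
        Fintype.card F = 3 ^ n ∧ Nonempty (G ≃* Matrix.ProjectiveSpecialLinearGroup (Fin 2) F)) ∨
    (∃ (F : Type) (_ : Field F) (_ : Fintype F), ∃ n r : ℕ, (2 ^ n - 1).Prime ∧ r.Prime ∧ 2 ^ n + 1 = 3 * r ∧
        Fintype.card F = 2 ^ n ∧ Nonempty (G ≃* Matrix.ProjectiveSpecialLinearGroup (Fin 2) F)) := by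
  by_cases hab : IsMulCommutative G
  · letI : CommGroup G := { (inferInstance : Group G) with mul_comm := fun a b => hab.is_comm.comm a b }
    exact Or.inl IsSimpleGroup.prime_card
  refine Or.inr ?_
  have hone : Cfsg.Lib.OneComposite.One G := fun g k hg hg' hk hk' =>
    h1 ⟨⟨g, rfl⟩, hg, hg'⟩ ⟨⟨k, rfl⟩, hk, hk'⟩
  have hns : ¬ Group.IsSolvable G := fun hs => by
    haveI := hs
    exact hab ⟨⟨fun a b => IsSimpleGroup.comm_iff_isSolvable.mpr hs a b⟩⟩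
  by_cases hcit : Cfsg.Lib.CITGroups.CIT G
  · rcases Cfsg.Lib.CITGroups.classification_of (Cfsg.Lie.IsoSuzuki G)
        (fun M hZ => Cfsg.Lib.SuzukiUnique.zassenhaus_iso (G := G) (Ω := G ⧸ M) hZ) hcit hab with
      ⟨F, i1, i2, hq, ⟨e⟩⟩ | h3 | ⟨F, i1, i2, m, hm, hF, ⟨e⟩⟩
    · have hns' : ¬ Group.IsSolvable (Matrix.ProjectiveSpecialLinearGroup (Fin 2) F) := fun hs => by
        haveI := hs
        exact hns (Group.isSolvable_of_isSolvable_injective (f := e.toMonoidHom) e.injective)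
      rcases (hone.of_injective e.symm.toMonoidHom e.symm.injective).psl_cases hns' hq with
        (h4 | h5 | h7 | h9 | h16) | ⟨n, r, hn, hr, hnr, hq'⟩
      · haveI : Fact (Nat.Prime 5) := ⟨by norm_num⟩
        obtain ⟨e4⟩ := Cfsg.Agent.S0252.result h4
        obtain ⟨e5⟩ := Cfsg.Agent.S0253.result (F := ZMod 5) (ZMod.card 5)
        exact Or.inl ⟨ZMod 5, inferInstance, inferInstance, by simp, ⟨(e.trans e4).trans e5.symm⟩⟩
      · exact Or.inl ⟨F, i1, i2, by simp [h5], ⟨e⟩⟩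
      · exact Or.inl ⟨F, i1, i2, by simp [h7], ⟨e⟩⟩
      · exact Or.inl ⟨F, i1, i2, by simp [h9], ⟨e⟩⟩
      · exact Or.inl ⟨F, i1, i2, by simp [h16], ⟨e⟩⟩
      · exact Or.inr (Or.inr (Or.inr (Or.inr ⟨F, i1, i2, n, r, hn, hr, hnr, hq', ⟨e⟩⟩)))
    · exact Or.inr (Or.inl h3)
    · obtain rfl := Cfsg.Lib.OneComposite.One.sz_cases hm hF (hone.of_injective e.symm.toMonoidHom e.symm.injective)
      exact Or.inr (Or.inr (Or.inl ⟨F, i1, i2, by rw [hF]; norm_num, ⟨e⟩⟩))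
  · obtain ⟨p, t, d, hp, hp2, ht, hd, hc⟩ := Cfsg.Lib.OneComposite.exists_two_mul_of_not_cit hcit
    obtain ⟨F, i1, i2, hq, he⟩ := hone.psl_of_two_mul hab hp hp2 ht hd hc
    rcases hq with hq | ⟨n, r, s, hr, hs, h3r, h3s, hq⟩
    · exact Or.inl ⟨F, i1, i2, by rcases hq with hq | hq | hq | hq <;> simp [hq], he⟩
    · exact Or.inr (Or.inr (Or.inr (Or.inl ⟨F, i1, i2, n, r, s, hr, hs, h3r, h3s, hq, he⟩)))

end Cfsg.Agent.S3718
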