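import Cfsg.Statements.S3410
import Cfsg.Agent.ONanAbelian.Hyperplanes
import Cfsg.Agent.ThreeTransposition.PairNormaliser.AlmostSimple
-- import your own Cfsg.Agent.* helpers here

set_option autoImplicit false
open Cfsg

namespace Cfsg.Agent.S3410

/-- Let a finite group G act faithfully and 2-transitively on a finite set X, and let N be an abelian normal subgroup of the stabilizer of a point x which is not semiregular on the remaining points (some non-identity element of N fixes a second point). Then the generalized Fitting subgroup of G is isomorphic to PSL_n(F) for some n ≥ 3 and some finite field F. -/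
theorem result {G X : Type*} [Group G] [Finite G] [Fintype X]
    [MulAction G X] [FaithfulSMul G X] (h2 : MulAction.IsMultiplyPretransitive G X 2) (x : X)
    (N : Subgroup G) (hNle : N ≤ MulAction.stabilizer G x)
    (hNnormal : ∀ g ∈ MulAction.stabilizer G x, ∀ n ∈ N, g * n * g⁻¹ ∈ N) (hNab : IsMulCommutative N)
    (hnsr : ∃ n ∈ N, n ≠ 1 ∧ ∃ y : X, y ≠ x ∧ n • y = y) :
    ∃ (F : Type) (_ : Field F) (_ : Fintype F) (n : ℕ), 3 ≤ n ∧
      Nonempty (↥(Cfsg.generalizedFittingSubgroup G) ≃* Matrix.ProjectiveSpecialLinearGroup (Fin n) F) := by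
  classical
  haveI := Fintype.ofFinite G
  obtain ⟨n₀, hn₀, hn1, y, hyx, hny⟩ := hnsr
  set p := (orderOf n₀).minFac with hpdef
  have hop : orderOf n₀ ≠ 1 := fun e => hn1 (orderOf_eq_one_iff.1 e)
  have hp : p.Prime := Nat.minFac_prime hop
  obtain ⟨m, hmN, hm1, hmp, hmy⟩ : ∃ m ∈ N, m ≠ 1 ∧ m ^ p = 1 ∧ m • y = y := by
    refine ⟨n₀ ^ (orderOf n₀ / p), pow_mem hn₀ _, ?_, ?_, ?_⟩
    · intro e
      have hpos : 0 < orderOf n₀ := orderOf_pos n₀
      have h1 : orderOf n₀ ≤ orderOf n₀ / p :=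
        Nat.le_of_dvd (Nat.div_pos (Nat.minFac_le hpos) hp.pos) (orderOf_dvd_of_pow_eq_one e)
      have h2 := Nat.div_lt_self hpos hp.one_lt
      omega
    · rw [← pow_mul, Nat.div_mul_cancel (Nat.minFac_dvd _), pow_orderOf_eq_one]
    · exact (MulAction.stabilizer G y).pow_mem (MulAction.mem_stabilizer_iff.2 hny) _
  have hcomm : ∀ a ∈ N, ∀ b ∈ N, a * b = b * a := fun a ha b hb =>
    congrArg Subtype.val (hNab.is_comm.comm ⟨a, ha⟩ ⟨b, hb⟩)
  haveI := h2
  haveI := MulAction.isPretransitive_of_is_two_pretransitive (G := G) (α := X)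
  choose c hc using fun z : X => MulAction.exists_smul_eq G x z
  let T₀ : Subgroup G :=
    { carrier := {a | a ∈ N ∧ a ^ p = 1}
      one_mem' := ⟨one_mem N, one_pow p⟩
      mul_mem' := fun {a b} ha hb => ⟨mul_mem ha.1 hb.1, by
        rw [Commute.mul_pow (hcomm a ha.1 b hb.1), ha.2, hb.2, one_mul]⟩
      inv_mem' := fun {a} ha => ⟨inv_mem ha.1, by rw [inv_pow, ha.2, inv_one]⟩ }
  have hconj₀ : ∀ s : G, s • x = x → ∀ a ∈ T₀, s * a * s⁻¹ ∈ T₀ := fun s hs a ha =>
    ⟨hNnormal s (MulAction.mem_stabilizer_iff.2 hs) a ha.1, by rw [conj_pow, ha.2, mul_one,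
      mul_inv_cancel]⟩
  let T : X → Subgroup G := fun z => T₀.map (MulAut.conj (c z)).toMonoidHom
  have hT : ∀ z a, a ∈ T z ↔ ∃ b ∈ T₀, c z * b * (c z)⁻¹ = a := fun z a => by
    simp only [T, Subgroup.mem_map, MulEquiv.coe_toMonoidHom, MulAut.conj_apply]
  let Δ : Cfsg.Lib.ONanAbelian.Setting G X :=
    { p := p
      hp := hp
      T := T
      T_le := fun z a ha => by
        obtain ⟨b, hb, rfl⟩ := (hT z a).1 ha
        rw [MulAction.mem_stabilizer_iff, mul_smul, mul_smul,
          inv_smul_eq_iff.2 (hc z).symm, MulAction.mem_stabilizer_iff.1 (hNle hb.1), hc z]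
      T_comm := fun z a ha b hb => by
        obtain ⟨a', ha', rfl⟩ := (hT z a).1 ha
        obtain ⟨b', hb', rfl⟩ := (hT z b).1 hb
        rw [conj_mul, conj_mul, hcomm a' ha'.1 b' hb'.1]
      T_pow := fun z a ha => by
        obtain ⟨a', ha', rfl⟩ := (hT z a).1 ha
        rw [conj_pow, ha'.2, mul_one, mul_inv_cancel]
      T_conj := fun g z a ha => by
        obtain ⟨b, hb, rfl⟩ := (hT z a).1 ha
        refine (hT _ _).2 ⟨((c (g • z))⁻¹ * g * c z) * b * ((c (g • z))⁻¹ * g * c z)⁻¹,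
          hconj₀ _ ?_ b hb, by group⟩
        rw [mul_smul, mul_smul, hc z, inv_smul_eq_iff, hc]
      trans2 := fun a b a' b' h h' => (MulAction.is_two_pretransitive_iff.1 h2) h h'
      faith := fun g hg => eq_of_smul_eq_smul (α := X) fun z => by rw [hg, one_smul]
      exists_pair := by
        refine ⟨x, y, Ne.symm hyx, (Subgroup.ne_bot_iff_exists_ne_one).2
          ⟨⟨m, (hT x m).2 ⟨(c x)⁻¹ * m * c x, ?_, by group⟩, MulAction.mem_stabilizer_iff.2 hmy⟩,
            fun e => hm1 (congrArg Subtype.val e :)⟩⟩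
        have h := hconj₀ (c x)⁻¹ (by rw [inv_smul_eq_iff, hc]) m ⟨hmN, hmp⟩
        rwa [inv_inv] at h }
  obtain ⟨M, F, fF, fFin, hM, N', hN', ⟨e⟩, hcent⟩ := Δ.exists_psl
  haveI := hN'
  haveI hs : IsSimpleGroup (Matrix.ProjectiveSpecialLinearGroup (Fin (M + 1)) F) :=
    Cfsg.Lib.Classical.isSimpleGroup_PSL (by rw [Fintype.card_fin]; omega)
  haveI : Nontrivial N' := e.toEquiv.nontrivial
  have hs' : IsSimpleGroup N' := IsSimpleGroup.isSimpleGroup_of_surjective e.symm.toMonoidHom e.symm.surjective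
  have hna : ¬ IsMulCommutative N' := by
    intro h
    have hle : N' ≤ Subgroup.centralizer (N' : Set G) := fun a ha b hb =>
      congrArg Subtype.val (h.is_comm.comm ⟨b, hb⟩ ⟨a, ha⟩)
    rw [hcent] at hle
    exact (Subgroup.nontrivial_iff_ne_bot N').1 inferInstance (le_bot_iff.1 hle)
  refine ⟨F, fF, fFin, M + 1, by omega, ⟨?_⟩⟩
  rw [Cfsg.Lib.ThreeTr.genFitting_of_simple_normal hs' hna hcent]
  exact e

end Cfsg.Agent.S3410
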