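import Cfsg.Statements.S3412
import Cfsg.Agent.Recognition.CommGraphLThree.Main
-- import your own Cfsg.Agent.* helpers here

set_option autoImplicit false
open Cfsg

namespace Cfsg.Agent.S3412

/-- Let H be a finite group whose commuting graph (vertices the non-identity elements, two joined when they commute) is isomorphic to that of PSL_3(3): there is a bijection between the non-identity elements of H and of PSL_3(3) under which two elements commute exactly when their images do. Then H ≅ PSL_3(3). -/
theorem result {H : Type*} [Group H] [Finite H]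
    (f : {h : H // h ≠ 1} ≃ {g : Matrix.ProjectiveSpecialLinearGroup (Fin 3) (ZMod 3) // g ≠ 1})
    (hf : ∀ x y : {h : H // h ≠ 1}, (x : H) * y = y * x ↔ ((f x) : Matrix.ProjectiveSpecialLinearGroup (Fin 3) (ZMod 3)) * (f y) = (f y) * (f x)) :
    Nonempty (H ≃* Matrix.ProjectiveSpecialLinearGroup (Fin 3) (ZMod 3)) := by
  classical
  let e : Cfsg.Lib.LThreeThree.SL33 ≃* Matrix.ProjectiveSpecialLinearGroup (Fin 3) (ZMod 3) :=
    QuotientGroup.quotientBot.symm.trans (QuotientGroup.quotientMulEquivOfEq Cfsg.Lib.LThreeThree.center_SL33.symm)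
  let F : H ≃ Matrix.ProjectiveSpecialLinearGroup (Fin 3) (ZMod 3) :=
    (Equiv.optionSubtypeNe (1 : H)).symm.trans
      ((Equiv.optionCongr f).trans (Equiv.optionSubtypeNe (1 : Matrix.ProjectiveSpecialLinearGroup (Fin 3) (ZMod 3))))
  have h1 : F 1 = 1 := by simp [F]
  have hne : ∀ (a : H) (ha : a ≠ 1), F a = f ⟨a, ha⟩ := fun a ha => by simp [F, ha]
  have hF : ∀ a b, a * b = b * a ↔ F a * F b = F b * F a := by
    intro a b
    rcases eq_or_ne a 1 with rfl | ha
    · simp [h1]
    rcases eq_or_ne b 1 with rfl | hb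
    · simp [h1]
    rw [hne a ha, hne b hb]
    exact hf ⟨a, ha⟩ ⟨b, hb⟩
  exact Cfsg.Lib.CommGraphLThree.equiv_of_comm (F.trans e.symm.toEquiv) (by simp [h1]) (fun a b => by
    rw [hF a b]
    show _ ↔ e.symm (F a) * e.symm (F b) = e.symm (F b) * e.symm (F a)
    rw [← map_mul e.symm, ← map_mul e.symm, e.symm.injective.eq_iff])

end Cfsg.Agent.S3412
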