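import Cfsg.Statements.S3413
import Cfsg.Agent.Recognition.MathieuEleven.Eleven
-- import your own Cfsg.Agent.* helpers here

set_option autoImplicit false
open Cfsg

namespace Cfsg.Agent.S3413

/-- Let H be a finite group whose commuting graph (vertices the non-identity elements, two joined when they commute) is isomorphic to that of the Mathieu group M_11: there is a bijection between the non-identity elements of H and of M_11 under which two elements commute exactly when their images do. Then H ≅ M_11. -/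
theorem result {H : Type*} [Group H] [Finite H]
    (f : {h : H // h ≠ 1} ≃ {g : ↥Cfsg.Spor.M11 // g ≠ 1})
    (hf : ∀ x y : {h : H // h ≠ 1}, (x : H) * y = y * x ↔ ((f x) : ↥Cfsg.Spor.M11) * (f y) = (f y) * (f x)) :
    Nonempty (H ≃* ↥Cfsg.Spor.M11) := by
  classical
  have := Cfsg.Lib.Golay.isSimple_M11
  have hM : Nat.card ↥Cfsg.Spor.M11 = 7920 := Cfsg.Lib.Golay.card_M11
  have hH : Nat.card H = 7920 := by
    have h1 := Nat.card_congr f
    have e1 : Nat.card {h : H // h ≠ 1} + 1 = Nat.card H := by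
      rw [show Nat.card {a : H // a ≠ 1} = ({1}ᶜ : Set H).ncard from rfl, Set.ncard_compl, Set.ncard_singleton]
      exact Nat.sub_add_cancel Nat.card_pos
    have e2 : Nat.card {g : ↥Cfsg.Spor.M11 // g ≠ 1} + 1 = Nat.card ↥Cfsg.Spor.M11 := by
      rw [show Nat.card {a : ↥Cfsg.Spor.M11 // a ≠ 1} = ({1}ᶜ : Set ↥Cfsg.Spor.M11).ncard from rfl, Set.ncard_compl,
        Set.ncard_singleton]
      exact Nat.sub_add_cancel Nat.card_pos
    rw [← e1, h1, e2, hM]
  have hcard : ∀ x : {h : H // h ≠ 1}, Nat.card ↥(Subgroup.centralizer ({(x : H)} : Set H)) =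
      Nat.card ↥(Subgroup.centralizer ({((f x) : ↥Cfsg.Spor.M11)} : Set ↥Cfsg.Spor.M11)) := by
    intro x
    rw [← Cfsg.Lib.MathieuEleven.ncard_commuting_ne_one, ← Cfsg.Lib.MathieuEleven.ncard_commuting_ne_one]
    congr 1
    let e : {y : H // y ≠ 1 ∧ (x : H) * y = y * x} ≃
        {y : ↥Cfsg.Spor.M11 // y ≠ 1 ∧ ((f x) : ↥Cfsg.Spor.M11) * y = y * (f x)} :=
      (Equiv.subtypeSubtypeEquivSubtypeInter _ _).symm.trans
        ((Equiv.subtypeEquiv f fun y => hf x y).trans
          (Equiv.subtypeSubtypeEquivSubtypeInter (fun y : ↥Cfsg.Spor.M11 => y ≠ 1)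
            (fun y => ((f x) : ↥Cfsg.Spor.M11) * y = y * (f x))))
    exact Nat.card_congr e
  refine Cfsg.Lib.MathieuEleven.equiv_M11_of_centralizers hH ?_
  let e : {h : H // h ≠ 1 ∧ Nat.card ↥(Subgroup.centralizer ({h} : Set H)) = 11} ≃
      {g : ↥Cfsg.Spor.M11 // g ≠ 1 ∧ Nat.card ↥(Subgroup.centralizer ({g} : Set ↥Cfsg.Spor.M11)) = 11} :=
    (Equiv.subtypeSubtypeEquivSubtypeInter (fun h : H => h ≠ 1) _).symm.trans
      ((Equiv.subtypeEquiv f fun x => by rw [hcard x]).trans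
        (Equiv.subtypeSubtypeEquivSubtypeInter (fun g : ↥Cfsg.Spor.M11 => g ≠ 1)
          (fun g => Nat.card ↥(Subgroup.centralizer ({g} : Set ↥Cfsg.Spor.M11)) = 11)))
  refine le_of_le_of_eq ?_ (Nat.card_congr e).symm
  rw [← Cfsg.Lib.MathieuEleven.ncard_order_eleven_simple (G := ↥Cfsg.Spor.M11) hM]
  refine Set.ncard_le_ncard (t := {g : ↥Cfsg.Spor.M11 |
    g ≠ 1 ∧ Nat.card ↥(Subgroup.centralizer ({g} : Set ↥Cfsg.Spor.M11)) = 11}) (fun g hg => ?_) (Set.toFinite _)
  have hg' : orderOf g = 11 := hg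
  exact ⟨fun e => by rw [e, orderOf_one] at hg'; omega, Cfsg.Lib.MathieuEleven.centralizer_eleven hM hg'⟩

end Cfsg.Agent.S3413
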