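import Cfsg.Statements.S3421
import Cfsg.Agent.PSLOrderSpec.Odd
import Cfsg.Agent.PSLOrderSpec.Even
import Cfsg.Agent.S2475
import Cfsg.Agent.Classical.Misc.SmallPSL
import Cfsg.Agent.Classical.Misc.PSLEmbed

set_option autoImplicit false
open Cfsg

namespace Cfsg.Agent.S3421

/-- Let F be a finite field with more than 3 elements. A finite group G is isomorphic to PSL(2, F) if and only if G has the same set of element orders and the same order as PSL(2, F). -/
theorem result {G : Type*} [Group G] [Finite G] {F : Type*} [Field F] [Fintype F] (hF : 3 < Fintype.card F) :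
    Nonempty (G ≃* Matrix.ProjectiveSpecialLinearGroup (Fin 2) F) ↔
      (Set.range (orderOf : G → ℕ) = Set.range (orderOf : Matrix.ProjectiveSpecialLinearGroup (Fin 2) F → ℕ) ∧
        Nat.card G = Nat.card (Matrix.ProjectiveSpecialLinearGroup (Fin 2) F)) := by
  classical
  constructor
  · rintro ⟨w⟩
    refine ⟨?_, Nat.card_congr w.toEquiv⟩
    ext m
    constructor
    · rintro ⟨g, rfl⟩; exact ⟨w g, MulEquiv.orderOf_eq w g⟩
    · rintro ⟨g, rfl⟩; exact ⟨w.symm g, MulEquiv.orderOf_eq w.symm g⟩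
  rintro ⟨hspec, hcard⟩
  obtain ⟨p, hp⟩ := CharP.exists F
  haveI := hp
  obtain ⟨n, hpr, hq⟩ := FiniteField.card F p
  haveI := Fact.mk hpr
  set q := Fintype.card F with hqdef
  have hS := Cfsg.Agent.S2475.result (F := F) p (by omega)
  rw [← hqdef, ← hspec] at hS
  have hP := Cfsg.Lib.Classical.SmallPSL.card_psl hqdef.symm
  rw [← hcard] at hP
  have hsq : q ^ 2 - 1 = (q - 1) * (q + 1) := by
    rw [mul_comm, ← Nat.sq_sub_sq, one_pow]
  rw [hsq] at hP
  have mem : ∀ g : G, orderOf g ∣ p ∨ orderOf g ∣ (q - 1) / Nat.gcd 2 (q - 1) ∨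
      orderOf g ∣ (q + 1) / Nat.gcd 2 (q - 1) := fun g => by
    have h : orderOf g ∈ Set.range (orderOf : G → ℕ) := ⟨g, rfl⟩
    rw [hS] at h
    exact h
  have ex : ∀ m : ℕ, m ∣ (q - 1) / Nat.gcd 2 (q - 1) ∨ m ∣ (q + 1) / Nat.gcd 2 (q - 1) →
      ∃ g : G, orderOf g = m := fun m hm => by
    have h : m ∈ Set.range (orderOf : G → ℕ) := by rw [hS]; exact Or.inr hm
    exact h
  suffices h : ∃ (E : Type) (_ : Field E) (_ : Fintype E), Fintype.card E = q ∧
      Nonempty (G ≃* Matrix.ProjectiveSpecialLinearGroup (Fin 2) E) by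
    obtain ⟨E, _, _, hE, ⟨w⟩⟩ := h
    let c : E ≃+* F := FiniteField.ringEquivOfCardEq hE
    have hinj := Cfsg.Lib.Classical.PSLEmbed.pslMap_injective (c : E →+* F)
    refine ⟨w.trans (MulEquiv.ofBijective _ (hinj.bijective_of_nat_card_le ?_))⟩
    exact le_of_eq (Nat.eq_of_mul_eq_mul_left (Nat.gcd_pos_of_pos_left _ (by norm_num))
      ((Cfsg.Lib.Classical.SmallPSL.card_psl hqdef.symm).trans
        (Cfsg.Lib.Classical.SmallPSL.card_psl hE).symm))
  have hn0 : (n : ℕ) ≠ 0 := n.ne_zero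
  have hpq : p ∣ q := hq ▸ dvd_pow_self p hn0
  rcases eq_or_ne p 2 with rfl | hp2
  · have hn2 : 2 ≤ (n : ℕ) := by
      by_contra h
      have h1 : (n : ℕ) = 1 := by omega
      rw [h1] at hq
      omega
    have hg : Nat.gcd 2 (q - 1) = 1 := Nat.coprime_two_left.2 (Nat.odd_iff.2 (by omega))
    rw [hg] at hP mem ex
    rw [one_mul] at hP
    refine Cfsg.Lib.PSLOrderSpec.psl_even (n : ℕ) hq hn2 hP ?_ (ex _ (Or.inr (by rw [Nat.div_one])))
    simpa using mem
  · have hqo : q % 2 = 1 := by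
      rcases Nat.even_or_odd q with h | h
      · exact absurd ((Nat.prime_dvd_prime_iff_eq Nat.prime_two hpr).1
          (Nat.prime_two.dvd_of_dvd_pow (hq ▸ h.two_dvd : 2 ∣ p ^ (n : ℕ)))).symm hp2
      · exact Nat.odd_iff.1 h
    have hg : Nat.gcd 2 (q - 1) = 2 := Nat.gcd_eq_left (by omega)
    rw [hg] at hP mem ex
    obtain ⟨a, ha⟩ : 2 ∣ q - 1 := by omega
    have ha1 : (q - 1) / 2 = a := by omega
    have hc1 : (q + 1) / 2 = a + 1 := by omega
    rw [ha1, hc1] at mem ex
    rw [ha, show q + 1 = 2 * (a + 1) by omega] at hP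
    have hp3 : 3 ≤ p := by have := hpr.two_le; omega
    have hpa : p.Coprime a := (Nat.Prime.coprime_iff_not_dvd hpr).2 fun h => by
      have h1 := Nat.dvd_sub hpq (show p ∣ q - 1 from ha ▸ h.mul_left 2)
      rw [Nat.sub_sub_self (by omega : 1 ≤ q)] at h1
      have := Nat.le_of_dvd (by norm_num) h1
      omega
    have hpc : p.Coprime (a + 1) := (Nat.Prime.coprime_iff_not_dvd hpr).2 fun h => by
      have h1 : p ∣ q + 1 := (show q + 1 = 2 * (a + 1) by omega) ▸ h.mul_left 2
      rw [Nat.dvd_add_right hpq] at h1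
      have := Nat.le_of_dvd (by norm_num) h1
      omega
    have hq5 : 5 ≤ q := by omega
    have haa : a.Coprime (a + 1) := by simp
    rcases Nat.even_or_odd a with hev | hod
    · exact Cfsg.Lib.PSLOrderSpec.psl_odd (p := p) (e := a) (b := a + 1)
        ⟨hpr, hp2, ⟨n, hn0, hq⟩, hq5, hev.two_dvd, by omega, by omega, by omega, haa, hpa, hpc,
          Nat.eq_of_mul_eq_mul_left (by norm_num : 0 < 2) (hP.trans (by ring)), mem,
          ex a (Or.inl dvd_rfl), ex (a + 1) (Or.inr dvd_rfl)⟩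
    · exact Cfsg.Lib.PSLOrderSpec.psl_odd (p := p) (e := a + 1) (b := a)
        ⟨hpr, hp2, ⟨n, hn0, hq⟩, hq5, by obtain ⟨k, hk⟩ := hod; omega, by omega, by omega, by omega,
          haa.symm, hpc, hpa,
          Nat.eq_of_mul_eq_mul_left (by norm_num : 0 < 2) (hP.trans (by ring)),
          fun g => by rcases mem g with r | r | r <;> tauto,
          ex (a + 1) (Or.inr dvd_rfl), ex a (Or.inl dvd_rfl)⟩

end Cfsg.Agent.S3421
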