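import Mathlib
import Cfsg.Statements.S3443
-- import your own Cfsg.Agent.* helpers here

set_option autoImplicit false
open Cfsg

namespace Cfsg.Agent.S3443

/-- Let G be a finite group and V a normal elementary abelian subgroup of G (abelian of prime exponent p, possibly trivial). Then the semidirect product V ⋊ G, with G acting on V by conjugation, has exactly the same set of element orders as G. -/
theorem result {G : Type*} [Group G] [Finite G] (V : Subgroup G) [V.Normal] (p : ℕ) (hp : p.Prime)
    (hcomm : ∀ x y : V, x * y = y * x) (hexp : ∀ x : V, x ^ p = 1) :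
    Set.range (orderOf : V ⋊[MulAut.conjNormal] G → ℕ) = Set.range (orderOf : G → ℕ) := by
  classical
  haveI := Fact.mk hp
  set φ : G →* MulAut V := MulAut.conjNormal with hφ
  ext n
  constructor
  swap
  · rintro ⟨g, rfl⟩
    exact ⟨SemidirectProduct.inr g, orderOf_injective _ SemidirectProduct.inr_injective g⟩
  rintro ⟨x, rfl⟩
  -- the multiplication map to the group
  let ψ : V ⋊[φ] G →* G := SemidirectProduct.lift V.subtype (MonoidHom.id G) fun g => by
    ext v; simp [hφ]
  set a := SemidirectProduct.rightHom x with ha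
  set b := ψ x with hb
  have hx : orderOf x = (orderOf a).lcm (orderOf b) := by
    refine Nat.dvd_antisymm (orderOf_dvd_of_pow_eq_one ?_) (Nat.lcm_dvd (orderOf_map_dvd _ x) (orderOf_map_dvd _ x))
    set m := (orderOf a).lcm (orderOf b)
    have h1 : SemidirectProduct.rightHom (x ^ m) = 1 := by
      rw [map_pow]; exact orderOf_dvd_iff_pow_eq_one.mp (Nat.dvd_lcm_left _ _)
    have h2 : ψ (x ^ m) = 1 := by
      rw [map_pow]; exact orderOf_dvd_iff_pow_eq_one.mp (Nat.dvd_lcm_right _ _)
    have h3 : (x ^ m).right = 1 := h1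
    have h4 : ((x ^ m).left : G) * (x ^ m).right = 1 := h2
    rw [h3, mul_one] at h4
    exact SemidirectProduct.ext (Subtype.ext h4) h3
  set k := orderOf (QuotientGroup.mk' V a) with hk
  have hab : QuotientGroup.mk' V b = QuotientGroup.mk' V a := by
    show QuotientGroup.mk' V ((x.left : G) * x.right) = QuotientGroup.mk' V x.right
    rw [map_mul, show QuotientGroup.mk' V (x.left : G) = 1 from (QuotientGroup.eq_one_iff _).mpr x.left.2, one_mul]
  have key : ∀ c : G, QuotientGroup.mk' V c = QuotientGroup.mk' V a → orderOf c = k ∨ orderOf c = k * p := by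
    intro c hc
    have hkc : k ∣ orderOf c := by rw [hk, ← hc]; exact orderOf_map_dvd _ c
    have hmem : c ^ k ∈ V := (QuotientGroup.eq_one_iff _).mp (by
      show QuotientGroup.mk' V (c ^ k) = 1
      rw [map_pow, hc, hk, pow_orderOf_eq_one])
    have hdvd : orderOf c ∣ k * p := orderOf_dvd_of_pow_eq_one (by
      rw [pow_mul]; exact congrArg Subtype.val (hexp ⟨_, hmem⟩))
    obtain ⟨d, hd⟩ := hkc
    rw [hd] at hdvd ⊢
    have hk0 : 0 < k := orderOf_pos _
    rcases (Nat.dvd_prime hp).mp ((Nat.mul_dvd_mul_iff_left hk0).mp hdvd) with e | e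
    · exact Or.inl (by rw [e, mul_one])
    · exact Or.inr (by rw [e])
  rw [hx]
  rcases key a rfl with e1 | e1 <;> rcases key b hab with e2 | e2
  · exact ⟨a, by rw [e1, e2, Nat.lcm_self]⟩
  · exact ⟨b, by rw [e1, e2, Nat.lcm_eq_right (dvd_mul_right k p)]⟩
  · exact ⟨a, by rw [e1, e2, Nat.lcm_eq_left (dvd_mul_right k p)]⟩
  · exact ⟨a, by rw [e1, e2, Nat.lcm_self]⟩

end Cfsg.Agent.S3443
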