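import Cfsg.Agent.Elementary.FiberSpectrum
import Mathlib
import Cfsg.Statements.S3444
-- import your own Cfsg.Agent.* helpers here

set_option autoImplicit false
open Cfsg

namespace Cfsg.Agent.S3444

/-- A finite group with a non-trivial solvable normal subgroup is not determined by its set of element orders, not even up to finitely many possibilities: for every bound N there is a finite group of order greater than N with exactly the same set of element orders. -/
theorem result {G : Type*} [Group G] [Finite G] (K : Subgroup G) [K.Normal] (hK : K ≠ ⊥)
    (hs : Group.IsSolvable K) (N : ℕ) :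
    ∃ (H : Type) (_ : Group H) (_ : Fintype H), N < Fintype.card H ∧ Set.range (orderOf : H → ℕ) = Set.range (orderOf : G → ℕ) := by
  obtain ⟨V, hV, hne, p, hp, hVp⟩ := Cfsg.Lib.FiberSpectrum.exists_prime_exponent_normal K hK hs
  haveI := hV
  exact Cfsg.Lib.FiberSpectrum.exists_large V hne hp hVp N

end Cfsg.Agent.S3444
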