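import Mathlib
import Cfsg.Statements.S3448
-- import your own Cfsg.Agent.* helpers here

set_option autoImplicit false
open Cfsg

namespace Cfsg.Agent.S3448

/-- The set of element orders of the direct product of two copies of the alternating group of degree 5 is {1, 2, 3, 5, 6, 10, 15}. (It is shared by the direct product of two Frobenius groups of orders 50 and 75, so this direct product is not determined by its element orders.) -/
theorem result : Set.range (orderOf : alternatingGroup (Fin 5) × alternatingGroup (Fin 5) → ℕ) = {1, 2, 3, 5, 6, 10, 15} := by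
  have hA : ∀ g : alternatingGroup (Fin 5), orderOf g = 1 ∨ orderOf g = 2 ∨ orderOf g = 3 ∨ orderOf g = 5 := by
    have h : ∀ g : alternatingGroup (Fin 5), g ^ 2 = 1 ∨ g ^ 3 = 1 ∨ g ^ 5 = 1 := by decide +kernel
    intro g
    rcases h g with e | e | e
    · rcases (Nat.dvd_prime (by norm_num)).mp (orderOf_dvd_of_pow_eq_one e) with h' | h' <;> simp [h']
    · rcases (Nat.dvd_prime (by norm_num)).mp (orderOf_dvd_of_pow_eq_one e) with h' | h' <;> simp [h']
    · rcases (Nat.dvd_prime (by norm_num)).mp (orderOf_dvd_of_pow_eq_one e) with h' | h' <;> simp [h']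
  have hex : ∀ q, q = 1 ∨ q = 2 ∨ q = 3 ∨ q = 5 → ∃ g : alternatingGroup (Fin 5), orderOf g = q := by
    intro q hq
    rcases hq with rfl | rfl | rfl | rfl
    · exact ⟨1, orderOf_one⟩
    · haveI : Fact (Nat.Prime 2) := ⟨Nat.prime_two⟩
      exact ⟨⟨Equiv.swap 0 1 * Equiv.swap 2 3, Equiv.Perm.mem_alternatingGroup.mpr (by decide)⟩, orderOf_eq_prime (by decide +kernel) (by decide +kernel)⟩
    · haveI : Fact (Nat.Prime 3) := ⟨Nat.prime_three⟩
      exact ⟨⟨Equiv.swap 0 1 * Equiv.swap 0 2, Equiv.Perm.mem_alternatingGroup.mpr (by decide)⟩, orderOf_eq_prime (by decide +kernel) (by decide +kernel)⟩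
    · haveI : Fact (Nat.Prime 5) := ⟨by norm_num⟩
      exact ⟨⟨finRotate 5, Equiv.Perm.mem_alternatingGroup.mpr (by decide +kernel)⟩, orderOf_eq_prime (by decide +kernel) (by decide +kernel)⟩
  ext n
  simp only [Set.mem_range, Set.mem_insert_iff, Set.mem_singleton_iff, Prod.exists, Prod.orderOf]
  constructor
  · rintro ⟨a, b, rfl⟩
    rcases hA a with e | e | e | e <;> rcases hA b with e' | e' | e' | e' <;> rw [e, e'] <;> decide
  · intro hn
    obtain ⟨p, q, hp, hq, rfl⟩ : ∃ p q, (p = 1 ∨ p = 2 ∨ p = 3 ∨ p = 5) ∧ (q = 1 ∨ q = 2 ∨ q = 3 ∨ q = 5) ∧ p.lcm q = n := by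
      rcases hn with rfl | rfl | rfl | rfl | rfl | rfl | rfl
      exacts [⟨1, 1, by decide⟩, ⟨2, 1, by decide⟩, ⟨3, 1, by decide⟩, ⟨5, 1, by decide⟩, ⟨2, 3, by decide⟩,
        ⟨2, 5, by decide⟩, ⟨3, 5, by decide⟩]
    obtain ⟨a, ha⟩ := hex p hp
    obtain ⟨b, hb⟩ := hex q hq
    exact ⟨a, b, by rw [ha, hb]⟩

end Cfsg.Agent.S3448
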