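import Mathlib
import Cfsg.Statements.S3449
-- import your own Cfsg.Agent.* helpers here

set_option autoImplicit false
open Cfsg

namespace Cfsg.Agent.S3449

/-- The direct product of three copies of the alternating group of degree 5 has exactly the same set of element orders as the cyclic group of order 30, namely the divisors of 30; in particular a direct power of a non-abelian simple group need not be determined by its element orders. -/
theorem result : Set.range (orderOf : alternatingGroup (Fin 5) × alternatingGroup (Fin 5) × alternatingGroup (Fin 5) → ℕ) =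
      Set.range (orderOf : Multiplicative (ZMod 30) → ℕ) := by
  have hA : ∀ g : alternatingGroup (Fin 5), orderOf g = 1 ∨ orderOf g = 2 ∨ orderOf g = 3 ∨ orderOf g = 5 := by
    have h : ∀ g : alternatingGroup (Fin 5), g ^ 2 = 1 ∨ g ^ 3 = 1 ∨ g ^ 5 = 1 := by decide +kernel
    intro g
    rcases h g with e | e | e
    · rcases (Nat.dvd_prime (by norm_num)).mp (orderOf_dvd_of_pow_eq_one e) with h' | h' <;> simp [h']
    · rcases (Nat.dvd_prime (by norm_num)).mp (orderOf_dvd_of_pow_eq_one e) with h' | h' <;> simp [h']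
    · rcases (Nat.dvd_prime (by norm_num)).mp (orderOf_dvd_of_pow_eq_one e) with h' | h' <;> simp [h']
  have hex : ∀ q, q = 1 ∨ q = 2 ∨ q = 3 ∨ q = 5 → ∃ g : alternatingGroup (Fin 5), orderOf g = q := by
    intro q hq
    rcases hq with rfl | rfl | rfl | rfl
    · exact ⟨1, orderOf_one⟩
    · haveI : Fact (Nat.Prime 2) := ⟨Nat.prime_two⟩
      exact ⟨⟨Equiv.swap 0 1 * Equiv.swap 2 3, Equiv.Perm.mem_alternatingGroup.mpr (by decide)⟩, orderOf_eq_prime (by decide +kernel) (by decide +kernel)⟩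
    · haveI : Fact (Nat.Prime 3) := ⟨Nat.prime_three⟩
      exact ⟨⟨Equiv.swap 0 1 * Equiv.swap 0 2, Equiv.Perm.mem_alternatingGroup.mpr (by decide)⟩, orderOf_eq_prime (by decide +kernel) (by decide +kernel)⟩
    · haveI : Fact (Nat.Prime 5) := ⟨by norm_num⟩
      exact ⟨⟨finRotate 5, Equiv.Perm.mem_alternatingGroup.mpr (by decide +kernel)⟩, orderOf_eq_prime (by decide +kernel) (by decide +kernel)⟩
  have hcard : Nat.card (Multiplicative (ZMod 30)) = 30 := by rw [Nat.card_eq_fintype_card]; rfl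
  ext n
  simp only [Set.mem_range, Prod.exists, Prod.orderOf]
  constructor
  · rintro ⟨a, b, c, rfl⟩
    have hdvd : (orderOf a).lcm ((orderOf b).lcm (orderOf c)) ∣ 30 := by
      have h30 : ∀ x : alternatingGroup (Fin 5), orderOf x ∣ 30 := fun x => by
        rcases hA x with e | e | e | e <;> rw [e] <;> norm_num
      exact Nat.lcm_dvd (h30 a) (Nat.lcm_dvd (h30 b) (h30 c))
    obtain ⟨g, hg⟩ := IsCyclic.exists_ofOrder_eq_natCard (α := Multiplicative (ZMod 30))
    rw [hcard] at hg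
    obtain ⟨d, hd⟩ := hdvd
    refine ⟨g ^ d, ?_⟩
    rw [orderOf_pow_of_dvd (by rintro rfl; simp at hd) (Dvd.intro_left _ (hg.symm ▸ hd.symm)), hg]
    exact Nat.div_eq_of_eq_mul_left (Nat.pos_of_ne_zero (by rintro rfl; simp at hd)) hd
  · rintro ⟨g, rfl⟩
    have hd : orderOf g ∣ 30 := (orderOf_dvd_natCard g).trans hcard.dvd
    obtain ⟨p, q, r, hp, hq, hr, he⟩ : ∃ p q r, (p = 1 ∨ p = 2 ∨ p = 3 ∨ p = 5) ∧ (q = 1 ∨ q = 2 ∨ q = 3 ∨ q = 5) ∧
        (r = 1 ∨ r = 2 ∨ r = 3 ∨ r = 5) ∧ p.lcm (q.lcm r) = orderOf g := by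
      have : orderOf g ∈ Nat.divisors 30 := Nat.mem_divisors.mpr ⟨hd, by norm_num⟩
      rw [show Nat.divisors 30 = {1, 2, 3, 5, 6, 10, 15, 30} by decide] at this
      simp only [Finset.mem_insert, Finset.mem_singleton] at this
      rcases this with e | e | e | e | e | e | e | e <;> rw [e]
      exacts [⟨1, 1, 1, by decide⟩, ⟨2, 1, 1, by decide⟩, ⟨3, 1, 1, by decide⟩, ⟨5, 1, 1, by decide⟩,
        ⟨2, 3, 1, by decide⟩, ⟨2, 5, 1, by decide⟩, ⟨3, 5, 1, by decide⟩, ⟨2, 3, 5, by decide⟩]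
    obtain ⟨a, ha⟩ := hex p hp
    obtain ⟨b, hb⟩ := hex q hq
    obtain ⟨c, hc⟩ := hex r hr
    exact ⟨a, b, c, by rw [ha, hb, hc, he]⟩

end Cfsg.Agent.S3449
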