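import Cfsg.Statements.S3452
import Cfsg.Agent.Spectra.PGLTwins
-- import your own Cfsg.Agent.* helpers here

set_option autoImplicit false
open Cfsg

namespace Cfsg.Agent.S3452

theorem two_ne_zero' {F : Type*} [Field F] [Fintype F] (h : Fintype.card F % 2 = 1) : (2 : F) ≠ 0 :=
  Ring.two_ne_zero fun h2 => by
    have := FiniteField.even_card_iff_char_two.1 h2
    omega

theorem range_orderOf_congr {R S : Type*} [CommRing R] [CommRing S] (e : R ≃+* S) :
    Set.range (orderOf : Matrix.GeneralLinearGroup (Fin 2) R ⧸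
        Subgroup.center (Matrix.GeneralLinearGroup (Fin 2) R) → ℕ)
      = Set.range (orderOf : Matrix.GeneralLinearGroup (Fin 2) S ⧸
        Subgroup.center (Matrix.GeneralLinearGroup (Fin 2) S) → ℕ) := by
  let e0 : Matrix.GeneralLinearGroup (Fin 2) R ≃* Matrix.GeneralLinearGroup (Fin 2) S :=
    Units.mapEquiv e.mapMatrix.toMulEquiv
  have hcen : (Subgroup.center (Matrix.GeneralLinearGroup (Fin 2) R)).map e0.toMonoidHom
      = Subgroup.center (Matrix.GeneralLinearGroup (Fin 2) S) := by
    ext x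
    rw [Subgroup.mem_map]
    constructor
    · rintro ⟨y, hy, rfl⟩
      rw [Subgroup.mem_center_iff] at hy ⊢
      intro z
      obtain ⟨w, rfl⟩ := e0.surjective z
      show e0 w * e0 y = e0 y * e0 w
      rw [← map_mul, ← map_mul, hy w]
    · intro hx
      refine ⟨e0.symm x, ?_, e0.apply_symm_apply x⟩
      rw [Subgroup.mem_center_iff] at hx ⊢
      intro w
      apply e0.injective
      rw [map_mul, map_mul, e0.apply_symm_apply, hx]
  let f := QuotientGroup.congr (Subgroup.center (Matrix.GeneralLinearGroup (Fin 2) R))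
    (Subgroup.center (Matrix.GeneralLinearGroup (Fin 2) S)) e0 hcen
  ext m
  constructor
  · rintro ⟨x, rfl⟩
    exact ⟨f x, f.orderOf_eq x⟩
  · rintro ⟨x, rfl⟩
    exact ⟨f.symm x, f.symm.orderOf_eq x⟩

/-- For F a finite field whose number of elements is a prime or equals 9, the group PGL(2,F) = GL(2,F)/Z(GL(2,F)) is not determined by its set of element orders: for every bound N there is a finite group of order greater than N with exactly the same set of element orders as PGL(2,F). -/
theorem result {F : Type*} [Field F] [Fintype F] (hF : (Fintype.card F).Prime ∨ Fintype.card F = 9) (N : ℕ) :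
    ∃ (H : Type) (_ : Group H) (_ : Fintype H), N < Fintype.card H ∧
      Set.range (orderOf : H → ℕ) = Set.range (orderOf : Matrix.GeneralLinearGroup (Fin 2) F ⧸ Subgroup.center (Matrix.GeneralLinearGroup (Fin 2) F) → ℕ) := by
  suffices key : ∃ (H : Type) (_ : Group H) (_ : Finite H), N < Nat.card H ∧
      Set.range (orderOf : H → ℕ) = Set.range (orderOf : Matrix.GeneralLinearGroup (Fin 2) F ⧸
        Subgroup.center (Matrix.GeneralLinearGroup (Fin 2) F) → ℕ) by
    obtain ⟨H, i1, i2, hN, hs⟩ := key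
    haveI := Fintype.ofFinite H
    exact ⟨H, i1, inferInstance, by rwa [← Nat.card_eq_fintype_card], hs⟩
  obtain ⟨p, hp⟩ := CharP.exists F
  haveI : Fact p.Prime := ⟨CharP.char_is_prime F p⟩
  obtain ⟨j, hpp, hj⟩ := FiniteField.card F p
  have hlt2 : N < 2 ^ (N + 1) := lt_trans Nat.lt_two_pow_self (Nat.pow_lt_pow_right one_lt_two (Nat.lt_succ_self N))
  rcases hF with hprime | h9
  · have hqp : Fintype.card F = p := by
      rw [hj] at hprime ⊢
      have h1 : (j : ℕ) = 1 := Nat.Prime.eq_one_of_pow hprime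
      rw [h1, pow_one]
    have ht : p = 2 ∨ p = 3 ∨ 5 ≤ p := by
      have := hpp.two_le
      by_cases h4 : p = 4
      · subst h4; norm_num at hpp
      omega
    rcases ht with hp2 | hp3 | hp5
    · subst hp2
      obtain ⟨H, i1, i2, hc, hs⟩ := Cfsg.Agent.Spectra.PGLTwins.two_twin N
      refine ⟨H, i1, i2, lt_of_lt_of_le hlt2 (le_trans (Nat.pow_le_pow_left (by norm_num) _) hc), ?_⟩
      rw [hs, ← Cfsg.Agent.Spectra.PGLTwins.pgl_two_zmod]
      have e : ZMod 2 ≃+* F := ZMod.ringEquivOfPrime F hpp hqp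
      exact range_orderOf_congr e
    · subst hp3
      obtain ⟨H, i1, i2, hc, hs⟩ := Cfsg.Agent.Spectra.PGLTwins.three_twin N
      refine ⟨H, i1, i2, lt_of_lt_of_le hlt2 (le_trans (Nat.pow_le_pow_left (by norm_num) _) hc), ?_⟩
      rw [hs, Cfsg.Agent.Spectra.PGL.pgl_spectrum (F := F) 3 (two_ne_zero' (by rw [hqp])), hqp]
      ext m
      simp only [Set.mem_ofPred_eq, Finset.mem_insert, Finset.mem_singleton, exists_eq_or_imp, exists_eq_left]
      constructor
      · rintro (h | h)
        · exact Or.inl h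
        · exact Or.inr (Or.inr h)
      · rintro (h | h | h)
        · exact Or.inl h
        · exact Or.inr (h.trans (by decide))
        · exact Or.inr h
    · let eR : ZMod p ≃+* F := ZMod.ringEquivOfPrime F hpp hqp
      obtain ⟨H, i1, i2, hc, hs⟩ := Cfsg.Agent.Spectra.TraceClass.exists_twin (F := ZMod p) p (ZMod.card p) hp5 N
      refine ⟨H, i1, i2, lt_of_lt_of_le hlt2 hc, ?_⟩
      rw [hs, Cfsg.Agent.Spectra.PGL.pgl_spectrum (F := F) p
        (two_ne_zero' (by rw [hqp]; exact Nat.odd_iff.mp (hpp.odd_of_ne_two (by omega)))), hqp]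
  · have hp3 : p = 3 := by
      have h : p ∣ 3 ^ 2 := by
        rw [show (3 : ℕ) ^ 2 = 9 from rfl, ← h9, hj]
        exact dvd_pow_self p j.pos.ne'
      exact (Nat.prime_dvd_prime_iff_eq hpp Nat.prime_three).mp (hpp.dvd_of_dvd_pow h)
    subst hp3
    obtain ⟨H, i1, i2, hc, hs⟩ := Cfsg.Agent.Spectra.PGLTwins.nine_twin N
    refine ⟨H, i1, i2, lt_of_lt_of_le hlt2 hc, ?_⟩
    rw [hs, Cfsg.Agent.Spectra.PGL.pgl_spectrum (F := F) 3 (two_ne_zero' (by rw [h9])), h9]

end Cfsg.Agent.S3452
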