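import Cfsg.Statements.S3466
import Cfsg.Agent.SpecSymp.ModelLower
import Cfsg.Agent.SpecSymp.Lower
import Cfsg.Agent.S3439
import Cfsg.Agent.S3444

set_option autoImplicit false
open Cfsg

namespace Cfsg.Agent.S3466

/-- Let F be a finite field with q ≥ 3 elements such that q is not of the form 3^(2t+1) with t ≥ 1. Then PSp(4,F) is not determined by its set of element orders, not even up to finitely many groups: for every bound N there is a finite group of order greater than N with exactly the same set of element orders as PSp(4,F). -/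
theorem result {F : Type*} [Field F] [Fintype F] (h3 : 3 ≤ Fintype.card F) (hq : ∀ t : ℕ, 1 ≤ t → Fintype.card F ≠ 3 ^ (2 * t + 1)) (N : ℕ) :
    ∃ (H : Type) (_ : Group H) (_ : Fintype H), N < Fintype.card H ∧ Set.range (orderOf : H → ℕ) = Set.range (orderOf : Cfsg.PSp 2 F → ℕ) := by
  classical
  by_cases hq3 : Fintype.card F = 3
  · obtain ⟨H, hG, hF, hs, hr⟩ := Cfsg.Agent.S3439.result hq3
    letI := hG
    letI := hF
    have hne : (⊤ : Subgroup H) ≠ ⊥ := by
      intro e
      haveI : Subsingleton H := ⟨fun a b => (Subgroup.mem_bot.1 (e ▸ Subgroup.mem_top a)).trans (Subgroup.mem_bot.1 (e ▸ Subgroup.mem_top b)).symm⟩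
      obtain ⟨p, hp⟩ := CharP.exists F
      haveI : Fact p.Prime := ⟨CharP.char_is_prime F p⟩
      obtain ⟨x, hx⟩ := Cfsg.Lib.SpecSymp.psp_exists (p := p) h3 (d := p * (Fintype.card F + 1)) (Or.inr (Or.inr (Or.inl rfl)))
      obtain ⟨y, hy⟩ : orderOf x ∈ Set.range (orderOf : H → ℕ) := hr ▸ ⟨x, rfl⟩
      rw [Subsingleton.elim y 1, orderOf_one, hx] at hy
      have := (Fact.out : p.Prime).two_le
      nlinarith
    haveI := hs
    obtain ⟨H', hG', hF', hc, hr'⟩ := Cfsg.Agent.S3444.result (⊤ : Subgroup H) hne inferInstance N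
    exact ⟨H', hG', hF', hc, hr'.trans hr⟩
  · obtain ⟨p, hp⟩ := CharP.exists F
    haveI hpf : Fact p.Prime := ⟨CharP.char_is_prime F p⟩
    obtain ⟨⟨f, hf⟩, -, hqf⟩ := FiniteField.card F p
    change Fintype.card F = p ^ f at hqf
    let E := GaloisField p (2 * f)
    letI : Fintype E := Fintype.ofFinite E
    have hE : Fintype.card E = (p ^ f) ^ 2 := by
      rw [← Nat.card_eq_fintype_card, GaloisField.card p (2 * f) (by omega), ← pow_mul, mul_comm]
    have hV : ∀ {ι : Type}, ∀ v : Matrix ι ι E, p • v = 0 := fun v => Cfsg.Lib.SpecSymp.nsmul_zero_mat p v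
    have fin : ∀ {ι : Type} [Fintype ι] [Nonempty ι] {Γ : Type} [Group Γ] (ρ : Γ →* AddMonoid.End (Matrix ι ι E)),
        (∀ e : Cfsg.Lib.SpecSymp.aff ρ, ∃ d, Cfsg.Lib.SpecSymp.Spec p (p ^ f) d ∧ orderOf e ∣ d) →
        (∀ d, Cfsg.Lib.SpecSymp.Spec p (p ^ f) d → ∃ e : Cfsg.Lib.SpecSymp.aff ρ, orderOf e = d) →
        ∃ (H : Type) (_ : Group H) (_ : Fintype H), N < Fintype.card H ∧
          Set.range (orderOf : H → ℕ) = Set.range (orderOf : Cfsg.PSp 2 F → ℕ) := by
      intro ι _ _ Γ _ ρ hu hl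
      obtain ⟨H, hG, hF, hc, hr⟩ := Cfsg.Lib.FiberSpectrum.exists_large (Cfsg.Lib.SpecSymp.trans ρ)
        (Cfsg.Lib.SpecSymp.trans_ne_bot ρ) hpf.out (Cfsg.Lib.SpecSymp.trans_pow ρ hV) N
      exact ⟨H, hG, hF, hc, hr.trans (Cfsg.Lib.SpecSymp.range_eq _ hu hl
        (fun x => hqf ▸ Cfsg.Lib.SpecSymp.psp_dvd x)
        (fun d hd => Cfsg.Lib.SpecSymp.psp_exists h3 (hqf ▸ hd)))⟩
    rcases hpf.out.eq_two_or_odd with h2 | h2
    · exact fin _ (Cfsg.Lib.SpecSymp.upper_two p f h2 hf hE) fun d hd => Cfsg.Lib.SpecSymp.lower_two p f h2 hf hE hd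
    by_cases hp3 : p = 3
    · have hev : Even f := by
        rcases Nat.even_or_odd f with h | ⟨t, ht⟩
        · exact h
        · refine absurd ?_ (hq t ?_)
          · rw [hqf, hp3, ht]
          · by_contra h0
            exact hq3 (by rw [hqf, hp3, ht, show t = 0 by omega]; norm_num)
      exact fin _ (Cfsg.Lib.SpecSymp.upper_three p f hp3 hev hf hE) fun d hd => Cfsg.Lib.SpecSymp.lower_three p f hp3 hf hE hd
    · have h5 : 5 ≤ p := by
        have := hpf.out.two_le
        have : p ≠ 4 := fun e => by rw [e] at h2; omega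
        omega
      exact fin _ (Cfsg.Lib.SpecSymp.upper_five p f h5 hf hE) fun d hd => Cfsg.Lib.SpecSymp.lower_five p f h5 hf hE hd

end Cfsg.Agent.S3466
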