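import Mathlib.FieldTheory.Finite.GaloisField
import Cfsg.Agent.Elementary.FiberSpectrum
import Cfsg.Agent.Elementary.AffineFour
import Mathlib
import Cfsg.Statements.S3491
-- import your own Cfsg.Agent.* helpers here

set_option autoImplicit false
open Cfsg

namespace Cfsg.Agent.S3491

/-- The alternating group of degree 6 is not determined by its set of element orders, not even up to finitely many groups: for every bound N there is a finite group of order greater than N with exactly the same set of element orders as the alternating group of degree 6. -/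
theorem result (N : ℕ) : ∃ (H : Type) (_ : Group H) (_ : Fintype H), N < Fintype.card H ∧ Set.range (orderOf : H → ℕ) = Set.range (orderOf : alternatingGroup (Fin 6) → ℕ) := by
    haveI := Fact.mk Nat.prime_two
    let F := GaloisField 2 2
    haveI : Fintype F := Fintype.ofFinite _
    have hF : Fintype.card F = 4 := by
      rw [← Nat.card_eq_fintype_card, GaloisField.card 2 2 (by norm_num)]; norm_num
    rw [← Cfsg.Lib.AffineFour.range_orderOf hF]
    haveI : Finite (Cfsg.Lib.AffineFour.aff F) := inferInstance
    refine Cfsg.Lib.FiberSpectrum.exists_large (Cfsg.Lib.AffineFour.top F).ker ?_ Nat.prime_two ?_ N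
    · intro e
      let v : Cfsg.Lib.AffineFour.aff F := Cfsg.Lib.AffineFour.mk' !![1, 0, 1; 0, 1, 0; 0, 0, 1] (by simp [Matrix.det_fin_three]) (by simp)
      have hv : v ∈ (Cfsg.Lib.AffineFour.top F).ker := by
        rw [MonoidHom.mem_ker]
        ext i j
        fin_cases i <;> fin_cases j <;> simp [v, Cfsg.Lib.AffineFour.top, Cfsg.Lib.AffineFour.mk']
      rw [e, Subgroup.mem_bot] at hv
      have := congrArg (fun y : Cfsg.Lib.AffineFour.aff F => (y.1 : Matrix (Fin 3) (Fin 3) F) 0 2) hv
      simp [v, Cfsg.Lib.AffineFour.mk'] at this
    · intro x hx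
      rw [MonoidHom.mem_ker] at hx
      obtain ⟨a0, a1, a2⟩ := x.2
      have h := fun i j => congrFun (congrFun hx i) j
      have h00 := h 0 0; have h01 := h 0 1; have h10 := h 1 0; have h11 := h 1 1
      simp [Cfsg.Lib.AffineFour.top] at h00 h01 h10 h11
      have h2 := Cfsg.Lib.AffineFour.two_eq_zero hF
      apply Subtype.ext
      apply Subtype.ext
      rw [SubmonoidClass.coe_pow, Matrix.SpecialLinearGroup.coe_pow, OneMemClass.coe_one, Matrix.SpecialLinearGroup.coe_one]
      ext i j
      fin_cases i <;> fin_cases j <;> simp [pow_two, Matrix.mul_apply, Fin.sum_univ_three, a0, a1, a2, h00, h01, h10, h11] <;> rw [← two_mul, h2, zero_mul]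

end Cfsg.Agent.S3491
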