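import Cfsg.Statements.S3492
import Cfsg.Agent.SuzSquare.Main

set_option autoImplicit false
open Cfsg

namespace Cfsg.Agent.S3492

/-- The direct product of two copies of the Suzuki group Sz(2⁷) is determined by its set of element orders: a finite group with exactly the same set of element orders is isomorphic to it. -/
theorem result {G : Type*} [Group G] [Finite G] {F : Type*} [Field F] [Fintype F] (hF : Fintype.card F = 2 ^ 7)
    (h : Set.range (orderOf : G → ℕ) = Set.range (orderOf : Cfsg.Lie.Sz F (2 ^ 4) × Cfsg.Lie.Sz F (2 ^ 4) → ℕ)) :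
    Nonempty (G ≃* Cfsg.Lie.Sz F (2 ^ 4) × Cfsg.Lie.Sz F (2 ^ 4)) := by
  have Q : Cfsg.Lib.Suz.Par F 3 := ⟨by norm_num, hF⟩
  exact Cfsg.Lib.SuzSquare.iso_of_orders (m := 3) (by norm_num) Q (Cfsg.Lib.Suz.lieEquiv Q) h

end Cfsg.Agent.S3492
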