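import Cfsg.Statements.S3493
import Cfsg.Agent.PrimTypes.Basic
import Cfsg.Agent.PrimTypes.MaximalCentralizers

set_option autoImplicit false
open Cfsg

namespace Cfsg.Agent.S3493

open Subgroup

/-- A point stabiliser primitive on an orbit: nothing strictly between two-point and one-point stabiliser. -/
theorem eq_top_of_moves {G Ω : Type*} [Group G] [MulAction G Ω] {a ω : Ω}
    (h : MulAction.IsPreprimitive (MulAction.stabilizer G a) (MulAction.orbit (MulAction.stabilizer G a) ω))
    (X : Subgroup (MulAction.stabilizer G a))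
    (hle : ∀ g : MulAction.stabilizer G a, (g : G) • ω = ω → g ∈ X)
    (x : MulAction.stabilizer G a) (hx : x ∈ X) (hxω : (x : G) • ω ≠ ω) : X = ⊤ := by
  haveI := h
  let ω' : MulAction.orbit (MulAction.stabilizer G a) ω := ⟨ω, MulAction.mem_orbit_self ω⟩
  have hst : MulAction.stabilizer (MulAction.stabilizer G a) ω' ≤ X := fun g hg =>
    hle g (congrArg Subtype.val (MulAction.mem_stabilizer_iff.1 hg))
  rcases MulAction.IsPreprimitive.isTrivialBlock_of_isBlock (MulAction.IsBlock.of_orbit hst) with e | e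
  · exact absurd (congrArg Subtype.val (e (⟨⟨x, hx⟩, rfl⟩ : x • ω' ∈ MulAction.orbit X ω')
      (MulAction.mem_orbit_self ω'))) hxω
  · refine eq_top_iff.2 fun g _ => ?_
    obtain ⟨⟨y, hy⟩, he⟩ : g • ω' ∈ MulAction.orbit X ω' := e.symm ▸ Set.mem_univ _
    have hy' : (y : G) • ω = (g : G) • ω := congrArg Subtype.val he
    have := hle (y⁻¹ * g) (by rw [Subgroup.coe_mul, Subgroup.coe_inv, mul_smul, ← hy', inv_smul_smul])
    exact mul_inv_cancel_left y g ▸ mul_mem hy this

/-- An extremely primitive permutation group is of affine type or almost simple. Let a finite group G act faithfully and primitively on a finite set Ω with at least two points, in such a way that every point stabilizer acts primitively on each of its own orbits in Ω (an orbit of size one counts as primitive). Then either G has a non-trivial abelian normal subgroup whose elements other than the identity fix no point (affine type), or G has a non-abelian simple normal subgroup with trivial centralizer (almost simple).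 -/
theorem result {G : Type*} [Group G] [Finite G] {Ω : Type*} [Fintype Ω] [MulAction G Ω] [FaithfulSMul G Ω] (hΩ : 2 ≤ Fintype.card Ω) (hprim : MulAction.IsPreprimitive G Ω) (hep : ∀ (α : Ω) (ω : Ω), MulAction.IsPreprimitive (MulAction.stabilizer G α) (MulAction.orbit (MulAction.stabilizer G α) ω)) :
    (∃ N : Subgroup G, N.Normal ∧ N ≠ ⊥ ∧ IsMulCommutative N ∧ ∀ ω : Ω, MulAction.stabilizer N ω = ⊥) ∨ (∃ T : Subgroup G, T.Normal ∧ IsSimpleGroup T ∧ ¬ IsMulCommutative T ∧ Subgroup.centralizer (T : Set G) = ⊥) := by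
  classical
  haveI := hprim
  obtain ⟨a⟩ : Nonempty Ω := Fintype.card_pos_iff.1 (by omega)
  haveI : Nontrivial Ω := Fintype.one_lt_card_iff_nontrivial.1 hΩ
  have hG : (⊤ : Subgroup G) ≠ ⊥ := fun h => by
    obtain ⟨x, y, hxy⟩ := exists_pair_ne Ω
    obtain ⟨g, hg⟩ := MulAction.exists_smul_eq G x y
    have : g = 1 := by simpa [h] using Subgroup.mem_top g
    exact hxy (by rw [← hg, this, one_smul])
  obtain ⟨N, hmN⟩ := (Set.toFinite {K : Subgroup G | K.Normal ∧ K ≠ ⊥}).exists_minimal ⟨⊤, inferInstance, hG⟩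
  obtain ⟨hN, hne⟩ := hmN.prop
  haveI := hN
  have hmin : ∀ K : Subgroup G, K.Normal → K ≤ N → K = ⊥ ∨ K = N := fun K hK hle =>
    or_iff_not_imp_left.2 fun h0 => le_antisymm hle (hmN.le_of_le ⟨hK, h0⟩ hle)
  by_cases hab : IsMulCommutative N
  · obtain ⟨r, hr, hpow, htr, hreg⟩ := Cfsg.Lib.PrimTypes.abelian_regular hprim hN hne hmin hab
    exact Or.inl ⟨N, hN, hne, hab, hreg⟩
  haveI : MulAction.IsPretransitive N Ω := Cfsg.Lib.PrimTypes.pretransitive_of_normal hprim N hne
  obtain ⟨S, hSN, hS, hnaS, hSn, hZ, hsup, hfam, hconj, hgen⟩ :=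
    Cfsg.Lib.PrimTypes.exists_simple_factor hN hne hmin hab
  set A := MulAction.stabilizer G a with hA
  have hdich : ∀ (g s : G), s ∈ S → g * s * g⁻¹ ∈ S ∨ (g * s * g⁻¹ ∈ N ⊓ centralizer (S : Set G) ∧
      S.map (MulAut.conj g).toMonoidHom ≠ S) := fun g s hs => by
    have hmem : g * s * g⁻¹ ∈ S.map (MulAut.conj g).toMonoidHom := ⟨s, hs, by simp⟩
    by_cases e : S.map (MulAut.conj g).toMonoidHom = S
    · exact Or.inl (e ▸ hmem)
    · exact Or.inr ⟨((hconj g).resolve_left e) hmem, e⟩
  have hfix : ∀ g ∈ A, ∀ s : G, g • s • a = (g * s * g⁻¹) • a := fun g hg s => by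
    rw [mul_smul, mul_smul, show g⁻¹ • a = a from MulAction.mem_stabilizer_iff.1 (inv_mem hg)]
  -- the contradiction for trivial intersection with the stabiliser
  have hdiag : S ⊓ A = ⊥ → (∀ t ∈ S, ∃ g ∈ A, t⁻¹ * g ∈ centralizer (S : Set G)) → False := by
    intro hSA hlift
    have hinj : ∀ u ∈ S, ∀ v ∈ S, u • a = v • a → u = v := fun u hu v hv h => by
      have : v⁻¹ * u ∈ S ⊓ A := mem_inf.2 ⟨mul_mem (inv_mem hv) hu, MulAction.mem_stabilizer_iff.2 (by
        rw [mul_smul, h, inv_smul_smul])⟩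
      rw [hSA, mem_bot, inv_mul_eq_one] at this
      exact this.symm
    have hcj : ∀ t ∈ S, ∀ g : G, t⁻¹ * g ∈ centralizer (S : Set G) → ∀ s ∈ S, g * s * g⁻¹ = t * s * t⁻¹ := by
      intro t ht g hg s hs
      have h1 := mem_centralizer_iff.1 hg s hs
      calc g * s * g⁻¹ = t * ((t⁻¹ * g) * s) * g⁻¹ := by group
        _ = t * (s * (t⁻¹ * g)) * g⁻¹ := by rw [h1]
        _ = t * s * t⁻¹ := by group
    refine Cfsg.Lib.PrimTypes.false_of_maximal_centralizers hS hnaS
      (fun s : S => (MulAction.stabilizer G ((s : G) • a)).subgroupOf A) ?_ ?_ ?_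
    · intro s hs
      constructor
      · intro htop
        have hall : ∀ t : S, t * s = s * t := fun t => by
          obtain ⟨g, hg, hc⟩ := hlift t t.2
          have hgs : g • (s : G) • a = (s : G) • a :=
            MulAction.mem_stabilizer_iff.1 (Subgroup.mem_subgroupOf.1 (htop.symm ▸ mem_top (⟨g, hg⟩ : A)))
          rw [hfix g hg, hcj t t.2 g hc s s.2] at hgs
          have := hinj _ (mul_mem (mul_mem t.2 s.2) (inv_mem t.2)) _ s.2 hgs
          exact Subtype.ext (mul_inv_eq_iff_eq_mul.1 this)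
        haveI := hS
        rcases IsSimpleGroup.eq_bot_or_eq_top_of_normal (center S) inferInstance with e | e
        · exact hs (mem_bot.1 (e ▸ mem_center_iff.2 hall))
        · exact hnaS ⟨⟨fun u v => (mem_center_iff.1 (e ▸ mem_top u) v).symm⟩⟩
      · intro Y hY
        obtain ⟨x, hx, hx'⟩ := SetLike.exists_of_lt hY
        refine eq_top_of_moves (hep a ((s : G) • a)) Y (fun g hg => hY.le ?_) x hx fun h => hx' ?_
        · exact Subgroup.mem_subgroupOf.2 (MulAction.mem_stabilizer_iff.2 hg)
        · exact Subgroup.mem_subgroupOf.2 (MulAction.mem_stabilizer_iff.2 h)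
    · intro s i hs _ g hg
      rw [mem_subgroupOf, MulAction.mem_stabilizer_iff, hfix g g.2] at hg ⊢
      rw [Subgroup.coe_pow, ← conj_pow]
      rcases hdich g s s.2 with h | ⟨h, -⟩
      · rw [hinj _ h _ s.2 hg]
      · have hc : Commute (s : G) ((g : G) * s * (g : G)⁻¹) := mem_centralizer_iff.1 h.2 s s.2
        have h1 : (s : G)⁻¹ * ((g : G) * s * (g : G)⁻¹) ∈ A := MulAction.mem_stabilizer_iff.2 (by
          rw [mul_smul, hg, inv_smul_smul])
        have h2 := pow_mem h1 i
        rw [hc.inv_left.mul_pow, inv_pow, MulAction.mem_stabilizer_iff, mul_smul, inv_smul_eq_iff] at h2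
        exact h2
    · intro t
      obtain ⟨g, hg, hc⟩ := hlift t t.2
      refine ⟨⟨g, hg⟩, fun s hs => ⟨?_, ?_⟩⟩
      · ext x
        have e : g • (s : G) • a = (↑(t * s * t⁻¹) : G) • a := by
          rw [hfix g hg, hcj t t.2 g hc s s.2]; rfl
        rw [mem_map_equiv, MulAut.conj_symm_apply, mem_subgroupOf, mem_subgroupOf, MulAction.mem_stabilizer_iff,
          MulAction.mem_stabilizer_iff, ← e, Subgroup.coe_mul, Subgroup.coe_mul, Subgroup.coe_inv]
        show (g⁻¹ * (x : G) * g) • (s : G) • a = (s : G) • a ↔ (x : G) • g • (s : G) • a = g • (s : G) • a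
        rw [mul_smul, mul_smul, inv_smul_eq_iff]
      · rw [mem_subgroupOf, MulAction.mem_stabilizer_iff]
        show g • (s : G) • a = (s : G) • a ↔ t * s = s * t
        rw [hfix g hg, hcj t t.2 g hc s s.2]
        constructor
        · intro h
          exact Subtype.ext (mul_inv_eq_iff_eq_mul.1 (hinj _ (mul_mem (mul_mem t.2 s.2) (inv_mem t.2)) _ s.2 h))
        · intro h
          rw [show (t : G) * s * (t : G)⁻¹ = s from mul_inv_eq_iff_eq_mul.2 (congrArg Subtype.val h)]
  set M := N ⊓ centralizer (S : Set G) with hM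
  set K := A ⊓ N with hK
  by_cases hSN' : S = N
  · subst hSN'
    refine Or.inr ⟨S, hN, hS, hnaS, ?_⟩
    by_contra hC
    haveI : (centralizer (S : Set G)).Normal := ⟨fun x hx g => by
      rw [mem_centralizer_iff] at hx ⊢
      intro s hs
      have hs' : g⁻¹ * s * g ∈ S := by simpa using hN.conj_mem s hs g⁻¹
      calc s * (g * x * g⁻¹) = g * ((g⁻¹ * s * g) * x) * g⁻¹ := by group
        _ = g * (x * (g⁻¹ * s * g)) * g⁻¹ := by rw [hx _ hs']
        _ = g * x * g⁻¹ * s := by group⟩
    haveI : MulAction.IsPretransitive (centralizer (S : Set G)) Ω :=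
      Cfsg.Lib.PrimTypes.pretransitive_of_normal hprim _ hC
    refine hdiag (eq_bot_iff.2 fun x hx => mem_bot.2 ?_) fun t ht => ?_
    · exact Cfsg.Lib.PrimTypes.semiregular_of_centralized hprim hC (le_centralizer_iff.1 le_rfl) hx.1
        (MulAction.mem_stabilizer_iff.1 hx.2)
    · obtain ⟨⟨c, hc⟩, hca⟩ := MulAction.exists_smul_eq (centralizer (S : Set G)) a (t⁻¹ • a)
      have hca' : c • a = t⁻¹ • a := hca
      exact ⟨t * c, MulAction.mem_stabilizer_iff.2 (by rw [mul_smul, hca', smul_inv_smul]), by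
        rw [inv_mul_cancel_left]; exact hc⟩
  exfalso
  have hcommSM : ∀ s ∈ S, ∀ m ∈ M, s * m = m * s := fun s hs m hm => mem_centralizer_iff.1 hm.2 s hs
  have hnc : ∀ n ∈ normalizer (S : Set G), ∀ x ∈ centralizer (S : Set G), n * x * n⁻¹ ∈ centralizer (S : Set G) := by
    intro n hn x hx
    rw [mem_centralizer_iff] at hx ⊢
    intro s hs
    have hs' : n⁻¹ * s * n ∈ S := by simpa using (mem_normalizer_iff.1 (inv_mem hn) s).1 hs
    calc s * (n * x * n⁻¹) = n * ((n⁻¹ * s * n) * x) * n⁻¹ := by group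
      _ = n * (x * (n⁻¹ * s * n)) * n⁻¹ := by rw [hx _ hs']
      _ = n * x * n⁻¹ * s := by group
  have hMN : N ≤ normalizer (M : Set G) := fun n hn => mem_normalizer_iff.2 fun x =>
    ⟨fun hx => mem_inf.2 ⟨hN.conj_mem x hx.1 n, hnc n (hSn hn) x hx.2⟩, fun hx => by
      have h1 := hN.conj_mem _ hx.1 n⁻¹
      have h2 := hnc n⁻¹ (hSn (inv_mem hn)) _ hx.2
      simp only [inv_inv] at h1 h2
      exact mem_inf.2 ⟨by simpa [mul_assoc] using h1, by simpa [mul_assoc] using h2⟩⟩
  have hKM : ∀ x, x ∈ K ⊔ M → ∃ k ∈ K, ∃ m ∈ M, k * m = x := fun x hx => by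
    rw [← SetLike.mem_coe, coe_mul_of_left_le_normalizer_right K M (inf_le_right.trans hMN)] at hx
    exact Set.mem_mul.1 hx
  by_cases hfull : S ≤ K ⊔ M
  · refine hdiag ?_ fun t ht => ?_
    · by_contra h0
      have hSK : S ≤ A := by
        have := hfam (S ⊓ A) inf_le_left h0 (hsup.trans (sup_le (hfull.trans (sup_le ?_ ?_)) ?_))
        · exact inf_eq_left.1 this
        · exact fun k hk => mem_normalizer_iff.2 fun x =>
            and_congr (mem_normalizer_iff.1 (hSn hk.2) x) (mem_normalizer_iff.1 (le_normalizer hk.1) x)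
        all_goals
          intro m hm
          refine mem_normalizer_iff.2 fun x => ⟨fun hx => ?_, fun hx => ?_⟩
          · rwa [← hcommSM x hx.1 m hm, mul_inv_cancel_right]
          · have h1 := hcommSM _ hx.1 m hm
            have e : m * x * m⁻¹ = x := by
              calc m * x * m⁻¹ = m⁻¹ * (m * (m * x * m⁻¹)) := by group
                _ = m⁻¹ * ((m * x * m⁻¹) * m) := by rw [h1]
                _ = x := by group
            rwa [e] at hx
      have hall : N ≤ A := by
        rw [hgen]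
        refine iSup_le fun g => ?_
        obtain ⟨⟨n, hn⟩, hna⟩ := MulAction.exists_smul_eq N (g⁻¹ • a) a
        have hna' : n • g⁻¹ • a = a := hna
        intro x hx
        rw [mem_map_equiv, MulAut.conj_symm_apply] at hx
        have hx' : (n * (g⁻¹ * x * g) * n⁻¹) • a = a :=
          MulAction.mem_stabilizer_iff.1 (hSK ((mem_normalizer_iff.1 (hSn hn) _).1 hx))
        rw [MulAction.mem_stabilizer_iff]
        simp only [mul_smul] at hx'
        have : n⁻¹ • a = g⁻¹ • a := by rw [inv_smul_eq_iff, hna']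
        rw [this, smul_inv_smul, ← hna', smul_left_cancel_iff, hna', inv_smul_eq_iff, smul_inv_smul] at hx'
        exact hx'
      obtain ⟨x, y, hxy⟩ := exists_pair_ne Ω
      have : ∀ z : Ω, z = a := fun z => by
        obtain ⟨⟨n, hn⟩, rfl⟩ := MulAction.exists_smul_eq N a z
        exact MulAction.mem_stabilizer_iff.1 (hall hn)
      exact hxy ((this x).trans (this y).symm)
    · obtain ⟨k, hk, m, hm, rfl⟩ := hKM t (hfull ht)
      refine ⟨k, hk.1, ?_⟩
      rw [mul_inv_rev, inv_mul_cancel_right]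
      exact inv_mem hm.2
  -- the normaliser of the factor in the stabiliser
  set X := (normalizer (S : Set G)).subgroupOf A with hX
  have hXtop : X ≠ ⊤ := fun h => by
    refine hSN' (le_antisymm hSN (hgen.le.trans (iSup_le fun g => ?_)))
    obtain ⟨⟨n, hn⟩, hna⟩ := MulAction.exists_smul_eq N a (g • a)
    have hna' : n • a = g • a := hna
    have hgA : n⁻¹ * g ∈ A := MulAction.mem_stabilizer_iff.2 (by rw [mul_smul, ← hna', inv_smul_smul])
    have hgn : g ∈ normalizer (S : Set G) := by
      have h1 : n⁻¹ * g ∈ normalizer (S : Set G) :=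
        mem_subgroupOf.1 (h.symm ▸ mem_top (⟨n⁻¹ * g, hgA⟩ : A) : (⟨n⁻¹ * g, hgA⟩ : A) ∈ X)
      exact mul_inv_cancel_left n g ▸ mul_mem (hSn hn) h1
    intro x hx
    rw [mem_map_equiv, MulAut.conj_symm_apply] at hx
    simpa [mul_assoc] using (mem_normalizer_iff.1 hgn _).1 hx
  have hXs : ∀ s ∈ S, s ∉ K ⊔ M → ∀ g : A, g ∈ X → (g : G) • s • a = s • a := by
    intro s hs hsKM g hg
    by_contra hmove
    refine hXtop (eq_top_of_moves (hep a (s • a)) X (fun h hh => ?_) g hg hmove)
    rw [hX, mem_subgroupOf]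
    by_contra hn
    rcases hdich h s hs with e | ⟨e, -⟩
    · refine hn (mem_normalizer_iff.2 fun x => ?_)
      rcases hconj (h : G) with e' | e'
      · have key := SetLike.ext_iff.1 e' ((h : G) * x * (h : G)⁻¹)
        rw [mem_map_equiv, MulAut.conj_symm_apply] at key
        rw [← key]
        simp [mul_assoc]
      · exfalso
        have h1 : (h : G) * s * (h : G)⁻¹ ∈ S ⊓ centralizer (S : Set G) :=
          mem_inf.2 ⟨e, (e' ⟨s, hs, by simp⟩).2⟩
        rw [hZ, mem_bot, conj_eq_one_iff] at h1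
        exact hsKM (h1 ▸ one_mem _)
    · rw [hfix h h.2] at hh
      have h1 : s⁻¹ * ((h : G) * s * (h : G)⁻¹) ∈ K := mem_inf.2
        ⟨MulAction.mem_stabilizer_iff.2 (by rw [mul_smul, hh, inv_smul_smul]),
          mul_mem (inv_mem (hSN hs)) e.1⟩
      have h2 : s⁻¹ ∈ K ⊔ M :=
        mul_inv_cancel_right s⁻¹ ((h : G) * s * (h : G)⁻¹) ▸ mul_mem (mem_sup_left h1) (inv_mem (mem_sup_right e))
      exact hsKM (inv_mem_iff.1 h2)
  by_cases hK0 : K = ⊥
  swap
  · -- the stabiliser in N is normal in N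
    have hSK : S ≤ normalizer (K : Set G) := by
      intro s hs
      have key : ∀ u ∈ S, u ∉ K ⊔ M → u ∈ normalizer (K : Set G) := by
        intro u hu hu'
        refine inv_mem_iff.1 ?_
        haveI : Finite (K : Set G) := Finite.of_injective (fun x : (K : Set G) => (x : G)) Subtype.val_injective
        refine mem_normalizer_iff.2 fun x => ?_
        have hmap : K.map (MulAut.conj u⁻¹).toMonoidHom ≤ K := by
          rintro _ ⟨k, hk, rfl⟩
          have h1 := hXs u hu hu' ⟨k, hk.1⟩ (mem_subgroupOf.2 (hSn hk.2))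
          have h1' : k • u • a = u • a := h1
          refine mem_inf.2 ⟨MulAction.mem_stabilizer_iff.2 ?_, ?_⟩
          · simp only [MulEquiv.coe_toMonoidHom, MulAut.conj_apply, inv_inv, mul_smul]
            rw [h1', inv_smul_smul]
          · simpa using hN.conj_mem k hk.2 u⁻¹
        have heq := eq_of_le_of_card_ge hmap
          (le_of_eq (card_map_of_injective (f := (MulAut.conj u⁻¹).toMonoidHom) (MulAut.conj u⁻¹).injective).symm)
        conv_rhs => rw [← heq, mem_map_equiv, MulAut.conj_symm_apply]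
        simp [mul_assoc]
      by_cases hs' : s ∈ K ⊔ M
      · obtain ⟨s₀, hs₀, hs₀'⟩ := SetLike.not_le_iff_exists.1 hfull
        have h1 := key (s₀ * s) (mul_mem hs₀ hs) fun h => hs₀' (by
          simpa using mul_mem h (inv_mem hs'))
        simpa using mul_mem (inv_mem (key s₀ hs₀ hs₀')) h1
      · exact key s hs hs'
    have hNK : N ≤ normalizer (K : Set G) := by
      rw [hgen]
      refine iSup_le fun g => ?_
      obtain ⟨⟨n, hn⟩, hna⟩ := MulAction.exists_smul_eq N (g⁻¹ • a) a
      have hna' : n • g⁻¹ • a = a := hna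
      intro x hx
      rw [mem_map_equiv, MulAut.conj_symm_apply] at hx
      -- `n * g⁻¹` fixes `a`
      have hc : n * g⁻¹ ∈ normalizer (K : Set G) := mem_normalizer_iff.2 fun y => and_congr
        (mem_normalizer_iff.1 (le_normalizer (show n * g⁻¹ ∈ A from MulAction.mem_stabilizer_iff.2 (by
          rw [mul_smul, hna']))) y)
        (mem_normalizer_iff.1 (normalizer_eq_top (H := N) ▸ mem_top (n * g⁻¹) : n * g⁻¹ ∈ normalizer (N : Set G)) y)
      have h1 := hSK ((mem_normalizer_iff.1 (hSn hn) _).1 hx)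
      have h2 := mul_mem (mul_mem (inv_mem hc) h1) hc
      have e : (n * g⁻¹)⁻¹ * (n * (g⁻¹ * x * g) * n⁻¹) * (n * g⁻¹) = x := by group
      rwa [e] at h2
    refine hK0 (eq_bot_iff.2 fun k hk => mem_bot.2 (eq_of_smul_eq_smul (α := Ω) fun z => ?_))
    obtain ⟨⟨n, hn⟩, rfl⟩ := MulAction.exists_smul_eq N a z
    show k • n • a = (1 : G) • n • a
    have h1 : (n⁻¹ * k * n⁻¹⁻¹) • a = a :=
      MulAction.mem_stabilizer_iff.1 ((mem_normalizer_iff.1 (inv_mem (hNK hn)) k).1 hk).1
    rw [inv_inv, mul_smul, mul_smul, inv_smul_eq_iff] at h1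
    rw [one_smul]; exact h1
  -- regular normal subgroup: a fixed element
  obtain ⟨s₀, hs₀, hs₀'⟩ := SetLike.not_le_iff_exists.1 hfull
  have hcent : ∀ g : A, g ∈ X → (g : G) * s₀ * (g : G)⁻¹ = s₀ := by
    intro g hg
    have h := hXs s₀ hs₀ hs₀' g hg
    rw [hfix g g.2] at h
    have h1 : s₀⁻¹ * ((g : G) * s₀ * (g : G)⁻¹) ∈ K := mem_inf.2
      ⟨MulAction.mem_stabilizer_iff.2 (by rw [mul_smul, h, inv_smul_smul]),
        mul_mem (inv_mem (hSN hs₀)) (hN.conj_mem _ (hSN hs₀) _)⟩
    rw [hK0, mem_bot, inv_mul_eq_one] at h1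
    exact h1.symm
  have hpair : ∀ g h : A, S.map (MulAut.conj (g : G)).toMonoidHom = S.map (MulAut.conj (h : G)).toMonoidHom →
      (g : G) * s₀ * (g : G)⁻¹ = (h : G) * s₀ * (h : G)⁻¹ := by
    intro g h e
    have hn : ((h⁻¹ * g : A) : G) ∈ normalizer (S : Set G) := by
      refine mem_normalizer_iff.2 fun x => ?_
      constructor
      · intro hx
        have : (g : G) * x * (g : G)⁻¹ ∈ S.map (MulAut.conj (h : G)).toMonoidHom := e ▸ ⟨x, hx, by simp⟩
        rw [mem_map_equiv, MulAut.conj_symm_apply] at this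
        simpa [mul_assoc] using this
      · intro hx
        have : (g : G) * x * (g : G)⁻¹ ∈ S.map (MulAut.conj (g : G)).toMonoidHom := by
          rw [e]
          exact ⟨_, hx, by simp [mul_assoc]⟩
        rw [mem_map_equiv, MulAut.conj_symm_apply] at this
        simpa [mul_assoc] using this
    have h1 := hcent _ (mem_subgroupOf.2 hn)
    simp only [Subgroup.coe_mul, Subgroup.coe_inv] at h1
    calc (g : G) * s₀ * (g : G)⁻¹ = (h : G) * ((h : G)⁻¹ * (g : G) * s₀ * ((h : G)⁻¹ * (g : G))⁻¹) * (h : G)⁻¹ := by group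
      _ = (h : G) * s₀ * (h : G)⁻¹ := by rw [h1]
  haveI : Fintype A := Fintype.ofFinite A
  set E : Finset G := Finset.univ.image (fun g : A => (g : G) * s₀ * (g : G)⁻¹) with hE
  have hEc : (E : Set G).Pairwise Commute := by
    intro x hx y hy hxy
    simp only [hE, Finset.coe_image, Finset.coe_univ, Set.image_univ, Set.mem_range] at hx hy
    obtain ⟨g, rfl⟩ := hx
    obtain ⟨h, rfl⟩ := hy
    rcases hconj (((g⁻¹ * h : A)) : G) with e | e
    · refine absurd (hpair g h ?_) hxy
      ext x
      rw [mem_map_equiv, mem_map_equiv, MulAut.conj_symm_apply, MulAut.conj_symm_apply]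
      have := SetLike.ext_iff.1 e ((g : G)⁻¹ * x * (g : G))
      rw [mem_map_equiv, MulAut.conj_symm_apply] at this
      rw [← this]
      simp [mul_assoc]
    · have hm := mem_centralizer_iff.1 (e ⟨s₀, hs₀, rfl⟩).2 s₀ hs₀
      simp only [MulEquiv.coe_toMonoidHom, MulAut.conj_apply, Subgroup.coe_mul, Subgroup.coe_inv] at hm
      calc (g : G) * s₀ * (g : G)⁻¹ * ((h : G) * s₀ * (h : G)⁻¹)
          = (g : G) * (s₀ * ((g : G)⁻¹ * (h : G) * s₀ * ((g : G)⁻¹ * (h : G))⁻¹)) * (g : G)⁻¹ := by group
        _ = (g : G) * (((g : G)⁻¹ * (h : G) * s₀ * ((g : G)⁻¹ * (h : G))⁻¹) * s₀) * (g : G)⁻¹ := by rw [hm]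
        _ = (h : G) * s₀ * (h : G)⁻¹ * ((g : G) * s₀ * (g : G)⁻¹) := by group
  set d := E.noncommProd id hEc with hd
  have hsE : s₀ ∈ E := Finset.mem_image.2 ⟨1, Finset.mem_univ _, by simp⟩
  have hdN : d ∈ N := N.noncommProd_mem hEc (fun x hx => by
    obtain ⟨g, -, rfl⟩ := Finset.mem_image.1 hx
    exact hN.conj_mem _ (hSN hs₀) _)
  have hd1 : d ≠ 1 := by
    intro h
    have hrest : (E.erase s₀).noncommProd id (hEc.mono (by simp)) ∈ M :=
      M.noncommProd_mem _ fun x hx => by
        obtain ⟨hne', hx⟩ := Finset.mem_erase.1 hx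
        obtain ⟨g, -, rfl⟩ := Finset.mem_image.1 hx
        rcases hconj (g : G) with e | e
        · refine absurd ?_ hne'
          have := hpair g 1 (by rw [e]; ext x; simp)
          simpa using this
        · exact e ⟨s₀, hs₀, by simp⟩
    have h1 : s₀ ∈ S ⊓ centralizer (S : Set G) := by
      refine mem_inf.2 ⟨hs₀, ?_⟩
      have he := Finset.mul_noncommProd_erase E hsE id hEc
      rw [← hd, h] at he
      simp only [id_eq] at he
      exact eq_inv_of_mul_eq_one_left he ▸ inv_mem hrest.2
    rw [hZ, mem_bot] at h1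
    exact hs₀' (h1 ▸ one_mem _)
  have hdc : ∀ h ∈ A, h * d = d * h := by
    intro h hh
    have hc : MulAut.conj h d = d := by
      rw [hd, Finset.map_noncommProd]
      simp only [id_eq]
      have himg : E.image (MulAut.conj h) = E := by
        refine Finset.eq_of_subset_of_card_le (fun x hx => ?_)
          (le_of_eq (Finset.card_image_of_injective _ (MulAut.conj h).injective).symm)
        obtain ⟨y, hy, rfl⟩ := Finset.mem_image.1 hx
        obtain ⟨g, -, rfl⟩ := Finset.mem_image.1 hy
        refine Finset.mem_image.2 ⟨⟨h, hh⟩ * g, Finset.mem_univ _, ?_⟩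
        simp [mul_assoc]
      unfold Finset.noncommProd
      congr 1
      conv_rhs => rw [← himg]
      rw [Finset.image_val_of_injOn (MulAut.conj h).injective.injOn, Multiset.map_map]
      rfl
    rw [MulAut.conj_apply] at hc
    exact mul_inv_eq_iff_eq_mul.1 hc
  set D := N ⊓ centralizer (A : Set G) with hD
  have hdD : d ∈ D := mem_inf.2 ⟨hdN, mem_centralizer_iff.2 hdc⟩
  have hco := MulAction.IsPreprimitive.isCoatom_stabilizer_of_isPreprimitive (G := G) a
  rcases (hco.le_iff).1 (le_sup_left : A ≤ A ⊔ D) with e | e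
  · have hAn : A.Normal := by
      refine normalizer_eq_top_iff.1 (top_le_iff.1 (e ▸ sup_le le_normalizer fun x hx => ?_))
      exact mem_normalizer_iff.2 fun y => by
        constructor
        · intro hy
          rwa [← mem_centralizer_iff.1 hx.2 y hy, mul_inv_cancel_right]
        · intro hy
          have h1 := mem_centralizer_iff.1 hx.2 _ hy
          have e' : x * y * x⁻¹ = y := by
            calc x * y * x⁻¹ = x⁻¹ * (x * (x * y * x⁻¹)) := by group
              _ = x⁻¹ * ((x * y * x⁻¹) * x) := by rw [h1]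
              _ = y := by group
          rwa [e'] at hy
    refine hXtop (eq_top_iff.2 fun g _ => ?_)
    have : (g : G) = 1 := eq_of_smul_eq_smul (α := Ω) fun z => by
      obtain ⟨h, rfl⟩ := MulAction.exists_smul_eq G a z
      have := MulAction.mem_stabilizer_iff.1 (hAn.conj_mem _ g.2 h⁻¹)
      rw [inv_inv, mul_smul, mul_smul, inv_smul_eq_iff] at this
      rw [one_smul]; exact this
    rw [hX, mem_subgroupOf, this]
    exact one_mem _
  · have : d ∈ K := mem_inf.2 ⟨e.le (mem_sup_right hdD), hdN⟩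
    rw [hK0, mem_bot] at this
    exact hd1 this

end Cfsg.Agent.S3493
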