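import Mathlib
import Cfsg.Statements.S3495
-- import your own Cfsg.Agent.* helpers here

set_option autoImplicit false
open Cfsg

namespace Cfsg.Agent.S3495

/-- Let a finite group G act faithfully and primitively on a finite set Ω with non-trivial point stabilizers, each acting primitively on every one of its orbits (an extremely primitive group), and suppose G has an elementary abelian normal p-subgroup N acting regularly on Ω (affine type). Then every non-trivial subgroup M of a point stabilizer G_α that is normal in G_α has the same orbits on Ω as G_α, and normalizes no subgroup of N other than 1 and N. -/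
theorem result {G : Type*} [Group G] [Finite G] {Ω : Type*} [Fintype Ω] [MulAction G Ω] [FaithfulSMul G Ω] (hprim : MulAction.IsPreprimitive G Ω) (hH : ∀ α : Ω, MulAction.stabilizer G α ≠ ⊥) (hep : ∀ (α : Ω) (ω : Ω), MulAction.IsPreprimitive (MulAction.stabilizer G α) (MulAction.orbit (MulAction.stabilizer G α) ω))
    (N : Subgroup G) [N.Normal] (hNc : IsMulCommutative N) (p : ℕ) (hp : p.Prime) (hNp : ∀ n ∈ N, n ^ p = 1)
    (hNtr : MulAction.IsPretransitive N Ω) (hNreg : ∀ ω : Ω, MulAction.stabilizer N ω = ⊥) (α : Ω) (M : Subgroup G) (hM : M ≠ ⊥) (hMle : M ≤ MulAction.stabilizer G α)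
    (hMn : MulAction.stabilizer G α ≤ Subgroup.normalizer (M : Set G)) :
    (∀ ω : Ω, MulAction.orbit M ω = MulAction.orbit (MulAction.stabilizer G α) ω) ∧
    (∀ L : Subgroup G, L ≤ N → M ≤ Subgroup.normalizer (L : Set G) → L = ⊥ ∨ L = N) := by
  classical
  haveI := hprim.toIsPretransitive
  set H := MulAction.stabilizer G α with hHdef
  have hNn := (inferInstance : N.Normal)
  have hnα : ∀ ω : Ω, ∃ n ∈ N, n • α = ω := fun ω => by
    obtain ⟨n, hn⟩ := hNtr.exists_smul_eq α ω
    exact ⟨n, n.2, hn⟩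
  have huniq : ∀ a ∈ N, ∀ b ∈ N, a • α = b • α → a = b := fun a ha b hb h => by
    have : (⟨b⁻¹ * a, mul_mem (inv_mem hb) ha⟩ : N) ∈ MulAction.stabilizer N α := by
      show (b⁻¹ * a) • α = α
      rw [mul_smul, h, inv_smul_smul]
    rw [hNreg α, Subgroup.mem_bot] at this
    exact (inv_mul_eq_one.mp (congrArg Subtype.val this)).symm
  have hconj : ∀ h ∈ H, ∀ n : G, (h * n * h⁻¹) • α = h • n • α := fun h hh n => by
    rw [mul_smul, mul_smul, MulAction.mem_stabilizer_iff.mp (inv_mem hh)]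
  have hNab : ∀ a ∈ N, ∀ b ∈ N, a * b = b * a := fun a ha b hb =>
    congrArg Subtype.val (hNc.is_comm.comm ⟨a, ha⟩ ⟨b, hb⟩)
  haveI : Nontrivial Ω := by
    obtain ⟨m, hm, hm1⟩ := M.bot_or_exists_ne_one.resolve_left hM
    by_contra hnt
    rw [not_nontrivial_iff_subsingleton] at hnt
    exact hm1 (FaithfulSMul.eq_of_smul_eq_smul (α := Ω) fun a => Subsingleton.elim _ _)
  have hco : IsCoatom H := (MulAction.isCoatom_stabilizer_iff_preprimitive G α).mpr hprim
  -- subgroups of `N` invariant under the point stabilizer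
  have hinvar : ∀ L : Subgroup G, L ≤ N → (∀ h ∈ H, ∀ l ∈ L, h * l * h⁻¹ ∈ L) → L = ⊥ ∨ L = N := by
    intro L hLN hL
    let S : Subgroup G :=
      { carrier := {g | ∃ l ∈ L, g • α = l • α}
        one_mem' := ⟨1, L.one_mem, rfl⟩
        mul_mem' := by
          rintro a b ⟨l, hl, ha⟩ ⟨k, hk, hb⟩
          have hh : l⁻¹ * a ∈ H := MulAction.mem_stabilizer_iff.mpr (by rw [mul_smul, ha, inv_smul_smul])
          refine ⟨l * ((l⁻¹ * a) * k * (l⁻¹ * a)⁻¹), mul_mem hl (hL _ hh k hk), ?_⟩
          rw [mul_smul l, hconj _ hh, ← hb, ← mul_smul, ← mul_smul]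
          group
        inv_mem' := by
          rintro a ⟨l, hl, ha⟩
          have hh : l⁻¹ * a ∈ H := MulAction.mem_stabilizer_iff.mpr (by rw [mul_smul, ha, inv_smul_smul])
          refine ⟨(l⁻¹ * a)⁻¹ * l⁻¹ * ((l⁻¹ * a)⁻¹)⁻¹, hL _ (inv_mem hh) _ (inv_mem hl), ?_⟩
          rw [hconj _ (inv_mem hh), ← mul_smul]
          group }
    have hHS : H ≤ S := fun h hh => ⟨1, L.one_mem, by rw [one_smul]; exact hh⟩
    rcases hco.le_iff.mp hHS with e | e
    · refine Or.inr (le_antisymm hLN fun n hn => ?_)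
      obtain ⟨l, hl, hle⟩ : n ∈ S := e ▸ Subgroup.mem_top n
      exact huniq n hn l (hLN hl) hle ▸ hl
    · refine Or.inl ((Subgroup.eq_bot_iff_forall _).mpr fun l hl => ?_)
      have : l ∈ H := e ▸ (⟨l, hl, rfl⟩ : l ∈ S)
      exact huniq l (hLN hl) 1 N.one_mem (by rw [one_smul]; exact this)
  -- only the base point is fixed by `M`
  have hC : ∀ n ∈ N, (∀ m ∈ M, m • n • α = n • α) → n = 1 := by
    let L : Subgroup G := Subgroup.centralizer (M : Set G) ⊓ N
    have hcen : ∀ n ∈ N, (∀ m ∈ M, m • n • α = n • α) → n ∈ L := fun n hn h => ⟨Subgroup.mem_centralizer_iff.mpr fun m hm => by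
      have := huniq _ (hNn.conj_mem n hn m) n hn (by rw [hconj m (hMle hm)]; exact h m hm)
      exact mul_inv_eq_iff_eq_mul.mp this, hn⟩
    rcases hinvar L inf_le_right (fun h hh l hl => by
      refine hcen _ (hNn.conj_mem l hl.2 h) fun m hm => ?_
      have hm' : h⁻¹ * m * h ∈ M := by
        simpa using (Subgroup.mem_normalizer_iff.mp (hMn (inv_mem hh)) m).mp hm
      rw [hconj h hh, ← mul_smul, show m * h = h * (h⁻¹ * m * h) by group, mul_smul, ← hconj _ (hMle hm')]
      rw [Subgroup.mem_centralizer_iff.mp hl.1 _ hm', mul_inv_cancel_right]) with e | e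
    · intro n hn h; exact (Subgroup.mem_bot).mp (e ▸ hcen n hn h)
    · exfalso
      apply hM
      refine (Subgroup.eq_bot_iff_forall _).mpr fun m hm => FaithfulSMul.eq_of_smul_eq_smul (α := Ω) fun ω => ?_
      obtain ⟨n, hn, rfl⟩ := hnα ω
      have hnL : n ∈ L := e.symm ▸ hn
      rw [one_smul, ← hconj m (hMle hm), Subgroup.mem_centralizer_iff.mp hnL.1 m hm, mul_inv_cancel_right]
  have horb : ∀ ω : Ω, MulAction.orbit M ω = MulAction.orbit H ω := by
    intro ω
    refine Set.Subset.antisymm (fun x ⟨m, hm⟩ => ⟨⟨m, hMle m.2⟩, hm⟩) ?_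
    haveI := hep α ω
    let M' : Subgroup H := M.subgroupOf H
    haveI : M'.Normal := ⟨fun n hn h => by
      have := (Subgroup.mem_normalizer_iff.mp (hMn h.2) n).mp hn
      exact this⟩
    by_cases hω : ω = α
    · subst hω
      rintro x ⟨h, rfl⟩
      exact ⟨1, (one_smul M _).trans (MulAction.mem_stabilizer_iff.mp h.2).symm⟩
    -- otherwise the orbit of `M` is a nontrivial block
    have hb := (MulAction.IsBlock.orbit_of_normal (G := H) (N := M') (⟨ω, MulAction.mem_orbit_self ω⟩ : MulAction.orbit H ω))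
    rcases MulAction.IsPreprimitive.isTrivialBlock_of_isBlock hb with ht | ht
    · exfalso
      obtain ⟨n, hn, rfl⟩ := hnα ω
      refine hω ((congrArg (· • α) (hC n hn fun m hm => ?_)).trans (one_smul G α))
      exact congrArg Subtype.val (ht ⟨⟨⟨m, hMle hm⟩, hm⟩, rfl⟩ (MulAction.mem_orbit_self _))
    · intro x hx
      obtain ⟨m, hm⟩ := Set.eq_univ_iff_forall.mp ht ⟨x, hx⟩
      exact ⟨⟨_, m.2⟩, congrArg Subtype.val hm⟩
  refine ⟨horb, fun L hLN hML => hinvar L hLN fun h hh l hl => ?_⟩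
  obtain ⟨m, hm⟩ : h • l • α ∈ MulAction.orbit M (l • α) := (horb (l • α)).symm ▸ ⟨⟨h, hh⟩, rfl⟩
  have : h * l * h⁻¹ = (m : G) * l * (m : G)⁻¹ := huniq _ (hNn.conj_mem l (hLN hl) h) _ (hNn.conj_mem l (hLN hl) m)
    (by rw [hconj h hh, hconj _ (hMle m.2)]; exact hm.symm)
  rw [this]
  exact (Subgroup.mem_normalizer_iff.mp (hML m.2) l).mp hl

end Cfsg.Agent.S3495
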