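import Cfsg.Agent.S0548
import Cfsg.Agent.Frobenius.FpfGroups
import Cfsg.Agent.Coprime.Fitting
import Cfsg.Agent.Elementary.FpfSemilinear
import Cfsg.Agent.Elementary.PrimitiveFitting
import Cfsg.Agent.Elementary.ExtremelyPrimitive
import Mathlib
import Cfsg.Statements.S3496
-- import your own Cfsg.Agent.* helpers here

set_option autoImplicit false
open Cfsg

namespace Cfsg.Agent.S3496

/-- The soluble extremely primitive groups. Let a finite solvable group G act faithfully and primitively on a finite set Ω with p ^ d points (p prime), with non-trivial point stabilizers each acting primitively on every one of its orbits. Then there is a prime q such that every orbit of a point stabilizer G_α other than {α} has exactly q points, q divides p ^ d − 1 but no p ^ i − 1 with 0 < i < d, and G_α has a normal subgroup T of order q with G_α generated by T and one further element and the order of G_α dividing q·d (so G_α is cyclic of order q, or an extension of T by a cyclic group of order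 dividing d). -/
theorem result {G : Type*} [Group G] [Finite G] {Ω : Type*} [Fintype Ω] [MulAction G Ω] [FaithfulSMul G Ω] [Group.IsSolvable G] (p d : ℕ) (hp : p.Prime) (hcard : Fintype.card Ω = p ^ d)
    (hprim : MulAction.IsPreprimitive G Ω) (hH : ∀ α : Ω, MulAction.stabilizer G α ≠ ⊥) (hep : ∀ (α : Ω) (ω : Ω), MulAction.IsPreprimitive (MulAction.stabilizer G α) (MulAction.orbit (MulAction.stabilizer G α) ω)) (α : Ω) :
    ∃ q : ℕ, q.Prime ∧ (∀ ω : Ω, ω ≠ α → Nat.card (MulAction.orbit (MulAction.stabilizer G α) ω) = q) ∧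
      q ∣ p ^ d - 1 ∧ (∀ i : ℕ, 0 < i → i < d → ¬ q ∣ p ^ i - 1) ∧
      ∃ T : Subgroup G, T ≤ MulAction.stabilizer G α ∧ MulAction.stabilizer G α ≤ Subgroup.normalizer (T : Set G) ∧ Nat.card T = q ∧
        (∃ h : G, MulAction.stabilizer G α = T ⊔ Subgroup.zpowers h) ∧ Nat.card (MulAction.stabilizer G α) ∣ q * d := by
  classical
  haveI := hprim.toIsPretransitive
  haveI := Fact.mk hp
  set H := MulAction.stabilizer G α with hHdef
  have hH1 := hH α
  have hmove : ∀ y : Ω, y ≠ α → MulAction.IsPreprimitive H (MulAction.orbit H y) ∧ FaithfulSMul H (MulAction.orbit H y) :=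
    fun y hy => ⟨hep α y, ⟨fun {a b} hab => by
      have h1 : (((b⁻¹ * a : H)) : G) = 1 := Cfsg.Lib.ExtremelyPrimitive.faithful_suborbit hprim hep hy
        (MulAction.mem_stabilizer_iff.mp (b⁻¹ * a).2) fun x hx => by
          have h2 := congrArg Subtype.val (hab ⟨x, hx⟩)
          show (((b : G))⁻¹ * (a : G)) • x = x
          rw [mul_smul, show (a : G) • x = (b : G) • x from h2, inv_smul_smul]
      exact (inv_mul_eq_one.mp (Subtype.ext h1)).symm⟩⟩
  haveI : Nontrivial H := (Subgroup.nontrivial_iff_ne_bot H).mpr hH1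
  haveI : Group.IsSolvable H := Group.isSolvable_of_isSolvable_injective (f := H.subtype) H.subtype_injective
  haveI : Nontrivial G := H.subtype_injective.nontrivial
  haveI : Nontrivial Ω := Cfsg.Lib.PrimitiveFitting.nontrivial_space (X := G) inferInstance
  obtain ⟨ω₀, hω₀⟩ := exists_ne α
  set F := Cfsg.fittingSubgroup H with hFdef
  have hF : F ≠ ⊥ := Cfsg.Lib.Coprime.fitting_ne_bot
  obtain ⟨hc, hcen, -, q, e, hq, hcardF, hexpF⟩ := (let ⟨a, b⟩ := hmove ω₀ hω₀
    haveI := b
    Cfsg.Lib.PrimitiveFitting.fitting_elementary a hF)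
  haveI := Fact.mk hq
  haveI : F.Normal := inferInstance
  have hfree : ∀ f ∈ F, ∀ y : Ω, y ≠ α → f • y = y → f = 1 := fun f hf y hy hfy => by
    obtain ⟨a, b⟩ := hmove y hy
    haveI := b
    exact (Cfsg.Lib.PrimitiveFitting.fitting_elementary a hF).2.2.1 f hf ⟨y, MulAction.mem_orbit_self y⟩ (Subtype.ext hfy)
  have horb : ∀ y : Ω, y ≠ α → ∀ h : H, ∃ f ∈ F, f • y = h • y := fun y hy h => by
    obtain ⟨a, b⟩ := hmove y hy
    haveI := b
    obtain ⟨f, hf⟩ := (Cfsg.Lib.PrimitiveFitting.normal_transitive a F hF).exists_smul_eq ⟨y, MulAction.mem_orbit_self y⟩ ⟨h • y, MulAction.mem_orbit y h⟩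
    exact ⟨f, f.2, congrArg Subtype.val hf⟩
  have horbcard : ∀ y : Ω, y ≠ α → Nat.card (MulAction.orbit H y) = Nat.card F := fun y hy => by
    refine (Nat.card_congr (Equiv.ofBijective (fun f : F => (⟨(f : H) • y, MulAction.mem_orbit y _⟩ : MulAction.orbit H y)) ⟨fun f g hfg => ?_, ?_⟩)).symm
    · have h1 : (f : H) • y = (g : H) • y := congrArg Subtype.val hfg
      have h2 := hfree _ (g⁻¹ * f).2 y hy (by
        show ((g : H)⁻¹ * f) • y = y
        rw [mul_smul, h1, inv_smul_smul])
      exact (inv_mul_eq_one.mp (Subtype.ext h2)).symm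
    · rintro ⟨z, h, rfl⟩
      obtain ⟨f, hf, hfy⟩ := horb y hy h
      exact ⟨⟨f, hf⟩, Subtype.ext hfy⟩
  -- the regular normal subgroup
  set M := Cfsg.fittingSubgroup G with hMdef
  have hMne : M ≠ ⊥ := Cfsg.Lib.Coprime.fitting_ne_bot
  haveI : M.Normal := inferInstance
  obtain ⟨hMc, -, hMfree, p', d', hp', hcardM, hexpM⟩ := Cfsg.Lib.PrimitiveFitting.fitting_elementary hprim hMne
  have hMtr := Cfsg.Lib.PrimitiveFitting.normal_transitive hprim M hMne
  let pt : M → Ω := fun m => (m : G) • α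
  have hpt : Function.Bijective pt := ⟨fun m n h => by
      have h2 := hMfree _ (n⁻¹ * m).2 α (by
        show ((n : G)⁻¹ * m) • α = α
        rw [mul_smul, show (m : G) • α = (n : G) • α from h, inv_smul_smul])
      exact (inv_mul_eq_one.mp (Subtype.ext h2)).symm,
    fun y => (hMtr.exists_smul_eq α y).imp fun m hm => hm⟩
  have hMcard : Nat.card M = p ^ d := by
    rw [Nat.card_congr (Equiv.ofBijective pt hpt), Nat.card_eq_fintype_card, hcard]
  have hd : 0 < d := Nat.pos_of_ne_zero fun h0 => by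
    have := Fintype.one_lt_card (α := Ω)
    rw [hcard, h0, pow_zero] at this
    exact lt_irrefl _ this
  obtain rfl : p' = p := by
    have h1 : p ∣ p' ^ d' := by rw [← hcardM, hMcard]; exact dvd_pow_self p hd.ne'
    exact ((Nat.prime_dvd_prime_iff_eq hp hp').mp (hp.dvd_of_dvd_pow h1)).symm
  have hmin : ∀ K : Subgroup G, K.Normal → K ≤ M → K = ⊥ ∨ K = M := fun K hK hKM => by
    refine or_iff_not_imp_left.mpr fun hKne => le_antisymm hKM fun m hm => ?_
    haveI := hK
    obtain ⟨k, hk⟩ := (Cfsg.Lib.PrimitiveFitting.normal_transitive hprim K hKne).exists_smul_eq α (m • α)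
    have := hpt.1 (a₁ := ⟨(k : G), hKM k.2⟩) (a₂ := ⟨m, hm⟩) hk
    have e1 : (k : G) = m := congrArg Subtype.val this
    exact e1 ▸ k.2
  have hconjα : ∀ (h : H) (m : G), ((h : G) * m * (h : G)⁻¹) • α = (h : G) • m • α := fun h m => by
    rw [mul_smul, mul_smul, MulAction.mem_stabilizer_iff.mp (inv_mem h.2)]
  -- conjugation as linear maps
  letI : CommGroup M := { mul_comm := fun a b => Subtype.ext (hMc a a.2 b b.2) }
  haveI hmod : Module (ZMod p') (Additive M) :=
    AddCommGroup.zmodModule (n := p') fun v => Additive.toMul.injective (Subtype.ext (by simpa using hexpM _ (Additive.toMul v).2))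
  let σ₀ : H →* Module.End (ZMod p') (Additive M) :=
    { toFun := fun x => (MonoidHom.toAdditive (MulAut.conjNormal (x : G) : MulAut M).toMonoidHom).toZModLinearMap p'
      map_one' := LinearMap.ext fun v => by simp
      map_mul' := fun x y => LinearMap.ext fun v => by simp }
  let σ := σ₀.toHomUnits
  have hσ : ∀ (h : H) (v : Additive M), pt (Additive.toMul ((σ h : Module.End (ZMod p') (Additive M)) v)) = (h : G) • pt (Additive.toMul v) := fun h v => by
    rw [← hconjα h]
    rfl
  have hσinj : Function.Injective σ := by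
    intro a b hab
    apply Subtype.ext
    refine FaithfulSMul.eq_of_smul_eq_smul (α := Ω) fun y => ?_
    obtain ⟨m, rfl⟩ := hpt.2 y
    have h1 := hσ a (Additive.ofMul m)
    rw [hab, hσ b (Additive.ofMul m)] at h1
    exact h1.symm
  -- the Fitting subgroup has prime order
  let T : Subgroup G := F.map H.subtype
  have hTM : T ≤ Subgroup.normalizer (M : Set G) := by rw [Subgroup.normalizer_eq_top]; exact le_top
  have hfpfT : Cfsg.Lib.Frobenius.Fpf T M := by
    rintro _ ⟨f, hf, rfl⟩ hne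
    refine (Subgroup.eq_bot_iff_forall _).mpr fun m hm => ?_
    by_contra hm1
    refine hne ?_
    have hfix : (f : G) • m • α = m • α := by
      rw [← hconjα f, show (f : G) * m = m * f from (Subgroup.mem_centralizer_singleton_iff.mp hm.2).symm, mul_inv_cancel_right]
    have hma : m • α ≠ α := fun h => hm1 (congrArg Subtype.val (hpt.1 (a₁ := ⟨m, hm.1⟩) (a₂ := 1) (show m • α = ((1 : M) : G) • α by rw [h, OneMemClass.coe_one, one_smul])))
    rw [hfree f hf _ hma hfix, map_one]
  haveI : IsMulCommutative T := ⟨⟨by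
    rintro ⟨_, a, ha, rfl⟩ ⟨_, b, hb, rfl⟩
    exact Subtype.ext (congrArg H.subtype (hc a ha b hb))⟩⟩
  have hTcard : Nat.card T = Nat.card F := (Nat.card_congr (Subgroup.equivMapOfInjective F _ H.subtype_injective).toEquiv).symm
  have hFq : Nat.card F = q := by
    obtain ⟨g, hg⟩ := (hfpfT.isCyclic_of_comm hTM hMne).exists_generator
    have h1 : Nat.card T ∣ q := by
      rw [← orderOf_eq_card_of_forall_mem_zpowers hg]
      refine orderOf_dvd_of_pow_eq_one (Subtype.ext ?_)
      obtain ⟨f, hf, hfg⟩ := g.2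
      rw [SubgroupClass.coe_pow, ← hfg, ← map_pow, hexpF f hf, map_one, Subgroup.coe_one]
    rw [hTcard] at h1
    refine ((Nat.dvd_prime hq).mp h1).resolve_left fun h => hF (Subgroup.eq_bot_of_card_eq F h)
  have hqd : q ∣ p' ^ d - 1 := by
    rw [← hFq, ← hTcard, ← hMcard]
    exact hfpfT.card_dvd hTM
  haveI : IsCyclic F := isCyclic_of_prime_card hFq
  obtain ⟨f₀, hf₀⟩ := IsCyclic.exists_generator (α := F)
  have hf₀ord : orderOf (f₀ : H) = q := by
    rw [Subgroup.orderOf_coe, orderOf_eq_card_of_forall_mem_zpowers hf₀, hFq]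
  have hf₀ne : (f₀ : H) ≠ 1 := fun h => by
    rw [h, orderOf_one] at hf₀ord
    exact hq.ne_one hf₀ord.symm
  set x := σ (f₀ : H) with hxdef
  have hxq : x ^ q = 1 := by rw [hxdef, ← map_pow, hexpF _ f₀.2, map_one]
  have hx1 : x ≠ 1 := fun h => hf₀ne (hσinj (h.trans (map_one σ).symm))
  have hxfpf : ∀ v : Additive M, (x : Module.End (ZMod p') (Additive M)) v = v → v = 0 := fun v hv => by
    by_contra hv0
    have hma : pt (Additive.toMul v) ≠ α := fun h => hv0 (Additive.toMul.injective (hpt.1 (a₂ := 1) (show pt (Additive.toMul v) = ((1 : M) : G) • α by rw [h, OneMemClass.coe_one, one_smul])))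
    refine hf₀ne (hfree _ f₀.2 _ hma ?_)
    show ((f₀ : H) : G) • pt (Additive.toMul v) = pt (Additive.toMul v)
    rw [← hσ, hv]
  -- a complement
  set C := MulAction.stabilizer H ω₀ with hCdef
  have hCF : ∀ c ∈ C, c ∈ F → c = 1 := fun c hcC hcF => hfree c hcF ω₀ hω₀ hcC
  have hHC : Nat.card H = q * Nat.card C := by
    rw [← C.index_mul_card, MulAction.index_stabilizer, ← Nat.card_coe_set_eq, horbcard ω₀ hω₀, hFq]
  have hcommF : ∀ c : H, c * f₀ = f₀ * c → c ∈ F := fun c hcc => by
    refine hcen.le (Subgroup.mem_centralizer_iff.mpr fun f hf => ?_)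
    obtain ⟨k, hk⟩ := Subgroup.mem_zpowers_iff.mp (hf₀ ⟨f, hf⟩)
    have hk' : f = (f₀ : H) ^ k := by
      rw [← SubgroupClass.coe_zpow, hk]
    rw [hk']
    exact (Commute.zpow_left (show Commute (f₀ : H) c from hcc.symm) k).eq
  -- irreducibility
  have hirr : ∀ W : Submodule (ZMod p') (Additive M), (∀ w ∈ W, (x : Module.End (ZMod p') (Additive M)) w ∈ W) → W = ⊥ ∨ W = ⊤ := by
    intro W hW
    by_cases hC1 : C = ⊥
    · -- the stabilizer is its Fitting subgroup
      have hHF : ∀ h : H, ∃ k : ℕ, h = (f₀ : H) ^ k := fun h => by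
        have htop : F = ⊤ := F.eq_top_of_card_eq (by rw [hHC, hC1, Subgroup.card_bot, mul_one, hFq])
        obtain ⟨k, hk⟩ := (isOfFinOrder_of_finite f₀).mem_powers_iff_mem_zpowers.mpr (hf₀ ⟨h, htop ▸ Subgroup.mem_top h⟩)
        exact ⟨k, (congrArg Subtype.val hk).symm.trans (SubgroupClass.coe_pow _ _)⟩
      let K : Subgroup G := (AddSubgroup.toSubgroup' W.toAddSubgroup).map M.subtype
      have hK : ∀ {m : M}, (m : G) ∈ K ↔ Additive.ofMul m ∈ W := fun {m} =>
        ⟨fun ⟨n, hn, hnm⟩ => by rw [← Subtype.ext hnm]; exact hn, fun h => ⟨m, h, rfl⟩⟩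
      have hpow : ∀ k : ℕ, ∀ w ∈ W, ((x ^ k : (Module.End (ZMod p') (Additive M))ˣ) : Module.End (ZMod p') (Additive M)) w ∈ W := by
        intro k
        induction k with
        | zero => intro w hw; simpa using hw
        | succ k ih => intro w hw; rw [pow_succ, Units.val_mul, Module.End.mul_apply]; exact ih _ (hW w hw)
      have hinv : ∀ h ∈ H, ∀ g ∈ K, h * g * h⁻¹ ∈ K := by
        rintro h hh _ ⟨n, hn, rfl⟩
        obtain ⟨k, hk⟩ := hHF ⟨h, hh⟩
        have h1 := hpow k (Additive.ofMul n) hn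
        rw [hxdef, ← map_pow, ← hk] at h1
        exact ⟨_, h1, rfl⟩
      have hnorm : H ≤ Subgroup.normalizer (K : Set G) := fun h hh => Subgroup.mem_normalizer_iff.mpr fun g =>
        ⟨fun hg => hinv h hh g hg, fun hg => by
          have h2 := hinv _ (inv_mem hh) _ hg
          simpa [mul_assoc] using h2⟩
      rcases (Cfsg.Agent.S0548.result hprim M hMne hmin α).2.2 K (Subgroup.map_subtype_le _) hnorm with h | h
      · refine Or.inl ((Submodule.eq_bot_iff _).mpr fun w hw => ?_)
        have h2 : ((Additive.toMul w : M) : G) ∈ K := hK.mpr hw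
        rw [h, Subgroup.mem_bot] at h2
        exact Additive.toMul.injective (Subtype.ext h2)
      · exact Or.inr (eq_top_iff.mpr fun w _ => hK.mp (h.symm ▸ (Additive.toMul w).2 : ((Additive.toMul w : M) : G) ∈ K))
    -- counting fixed points
    obtain ⟨c₁, hc₁, hc₁1⟩ := C.bot_or_exists_ne_one.resolve_left hC1
    have hcyc : ∀ c ∈ C, ∀ c' ∈ C, c * c' = c' * c := fun c hcC c' hcC' => by
      haveI : IsCyclic (MulAut F) := by
        have e := IsCyclic.mulAutMulEquiv F
        rw [hFq] at e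
        exact e.isCyclic.mpr (ZMod.isCyclic_units_prime hq)
      have h1 : MulAut.conjNormal c * MulAut.conjNormal c' = (MulAut.conjNormal c' * MulAut.conjNormal c : MulAut F) :=
        IsMulCommutative.is_comm.comm _ _
      rw [← map_mul, ← map_mul, ← mul_inv_eq_one, ← map_inv, ← map_mul] at h1
      have h2 := congrArg (fun a : MulAut F => ((a f₀ : F) : H)) h1
      simp only [MulAut.conjNormal_apply, MulAut.one_apply] at h2
      have h3 := hcommF _ (mul_inv_eq_iff_eq_mul.mp h2)
      have h4 := hCF _ (mul_mem (mul_mem hcC hcC') (inv_mem (mul_mem hcC' hcC))) h3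
      exact mul_inv_eq_one.mp h4
    have huniq : ∀ y : Ω, y ≠ α → ∀ f ∈ F, ∀ c ∈ C, c ≠ 1 → c • y = y → c • f • y = f • y → f = 1 := by
      intro y hy f hf c hcC hc1 h1 h2
      have h3 : (f⁻¹ * c * f * c⁻¹) • y = y := by
        rw [mul_smul, mul_smul, mul_smul, show c⁻¹ • y = y by rw [inv_smul_eq_iff, h1], h2, inv_smul_smul]
      have h4 : f⁻¹ * c * f * c⁻¹ = 1 := hfree _ (by
        rw [show f⁻¹ * c * f * c⁻¹ = f⁻¹ * (c * f * c⁻¹) by group]
        exact mul_mem (inv_mem hf) (‹F.Normal›.conj_mem f hf c)) y hy h3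
      have h5 : c * f = f * c := by
        calc c * f = f * (f⁻¹ * c * f * c⁻¹) * c := by group
          _ = f * c := by rw [h4, mul_one]
      by_contra hf1
      refine hc1 (hCF c hcC (hcommF c ?_))
      have hgen : (f₀ : H) ∈ Subgroup.zpowers f := by
        have h6 := Subgroup.mem_zpowers_iff.mp (mem_zpowers_of_prime_card hFq (g := (⟨f, hf⟩ : F)) (g' := f₀) (fun h => hf1 (congrArg Subtype.val h)))
        obtain ⟨k, hk⟩ := h6
        exact ⟨k, (SubgroupClass.coe_zpow _ _).symm.trans (congrArg Subtype.val hk)⟩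
      obtain ⟨k, hk⟩ := hgen
      rw [← hk]
      exact (Commute.zpow_right (show Commute c f from h5) k).eq
    let S : Set Ω := {y | y ≠ α ∧ ∀ c ∈ C, c • y = y}
    have hFS : Nat.card F * S.ncard = Fintype.card Ω - 1 := by
      have h0 : ∀ y : Ω, y ≠ α → ∀ h : H, h • y ≠ α := fun y hy h he => hy (by
        have : (h : G) • y = (h : G) • α := he.trans (MulAction.mem_stabilizer_iff.mp h.2).symm
        exact smul_left_cancel (h : G) this)
      let Φ : F × S → {y : Ω // y ≠ α} := fun a => ⟨(a.1 : H) • (a.2 : Ω), h0 _ a.2.2.1 _⟩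
      have hΦ : Function.Bijective Φ := by
        constructor
        · rintro ⟨f, y⟩ ⟨g, z⟩ h
          have h1 : (f : H) • (y : Ω) = (g : H) • (z : Ω) := congrArg Subtype.val h
          have h2 : ((g⁻¹ * f : F) : H) • (y : Ω) = z := by
            show ((g : H)⁻¹ * f) • (y : Ω) = z
            rw [mul_smul, h1, inv_smul_smul]
          have h3 : g⁻¹ * f = 1 := Subtype.ext (huniq y y.2.1 _ (g⁻¹ * f).2 c₁ hc₁ hc₁1 (y.2.2 _ hc₁) (by
            rw [h2]; exact z.2.2 _ hc₁))
          obtain rfl := (inv_mul_eq_one.mp h3)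
          simp only [Prod.mk.injEq, true_and]
          exact Subtype.ext (by rw [← h2, inv_mul_cancel]; exact (one_smul H _).symm)
        · rintro ⟨y, hy⟩
          obtain ⟨f1, hf1, hcy⟩ := horb y hy c₁
          -- write `c₁` as an element of `F` times an element fixing `y`
          set c0 := f1⁻¹ * c₁ with hc0
          have hc0y : c0 • y = y := by rw [hc0, mul_smul, ← hcy, inv_smul_smul]
          have hc0F : c0 ∉ F := fun h => hc₁1 (hCF c₁ hc₁ (by
            have := mul_mem hf1 h
            rwa [hc0, mul_inv_cancel_left] at this))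
          let ψ : F → F := fun f => f * ⟨c0 * (f : H)⁻¹ * c0⁻¹, ‹F.Normal›.conj_mem _ (inv_mem f.2) c0⟩
          have hψ : Function.Injective ψ := fun f g hfg => by
            have h1 : (f : H) * (c0 * (f : H)⁻¹ * c0⁻¹) = g * (c0 * (g : H)⁻¹ * c0⁻¹) := congrArg Subtype.val hfg
            have h2 : ((g⁻¹ * f : F) : H) * c0 = c0 * ((g⁻¹ * f : F) : H) := by
              show (g : H)⁻¹ * f * c0 = c0 * ((g : H)⁻¹ * f)
              calc (g : H)⁻¹ * f * c0 = (g : H)⁻¹ * (f * (c0 * (f : H)⁻¹ * c0⁻¹)) * c0 * f := by group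
                _ = (g : H)⁻¹ * (g * (c0 * (g : H)⁻¹ * c0⁻¹)) * c0 * f := by rw [h1]
                _ = c0 * ((g : H)⁻¹ * f) := by group
            by_contra hne
            refine hc0F (hcommF c0 ?_)
            obtain ⟨k, hk⟩ := Subgroup.mem_zpowers_iff.mp (mem_zpowers_of_prime_card hFq (g := g⁻¹ * f) (g' := f₀) (fun h => hne (inv_mul_eq_one.mp h).symm))
            rw [← hk, SubgroupClass.coe_zpow]
            exact (Commute.zpow_right (show Commute c0 _ from h2.symm) k).eq
          obtain ⟨f2, hf2⟩ := (Finite.injective_iff_surjective.mp hψ) ⟨f1, hf1⟩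
          have hf2' : (f2 : H) * (c0 * (f2 : H)⁻¹ * c0⁻¹) = f1 := congrArg Subtype.val hf2
          set y0 := (f2 : H) • y with hy0
          have hy0fix : c₁ • y0 = y0 := by
            have : c₁ * (f2 : H) = (f2 : H) * c0 := by
              calc c₁ * (f2 : H) = f1 * c0 * f2 := by rw [hc0]; group
                _ = (f2 : H) * (c0 * (f2 : H)⁻¹ * c0⁻¹) * c0 * f2 := by rw [hf2']
                _ = (f2 : H) * c0 := by group
            rw [hy0, ← mul_smul, this, mul_smul, hc0y]
          refine ⟨⟨f2⁻¹, ⟨y0, h0 y hy _, fun c hcC => ?_⟩⟩, Subtype.ext (inv_smul_smul _ _)⟩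
          obtain ⟨f, hf, hfc⟩ := horb y0 (h0 y hy _) c
          have h5 : c₁ • f • y0 = f • y0 := by
            rw [hfc, ← mul_smul, hcyc c₁ hc₁ c hcC, mul_smul, hy0fix]
          rw [← hfc, huniq y0 (h0 y hy _) f hf c₁ hc₁ hc₁1 hy0fix h5, one_smul]
      have := Nat.card_congr (Equiv.ofBijective Φ hΦ)
      rw [Nat.card_prod, Nat.card_coe_set_eq] at this
      rw [this, Nat.card_eq_fintype_card, Fintype.card_subtype_compl, Fintype.card_subtype_eq]
    let L : Subgroup G := M ⊓ Subgroup.centralizer ((C.map H.subtype : Subgroup G) : Set G)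
    have hLS : Nat.card L = S.ncard + 1 := by
      have h1 : Nat.card L = ({y | ∀ c ∈ C, c • y = y} : Set Ω).ncard := by
        rw [← Nat.card_coe_set_eq]
        refine Nat.card_congr (Equiv.ofBijective (fun m => ⟨(m : G) • α, fun c hcC => ?_⟩) ⟨fun m n h => ?_, ?_⟩)
        · show (c : G) • (m : G) • α = (m : G) • α
          rw [← hconjα c, show (c : G) * (m : G) = (m : G) * (c : G) from Subgroup.mem_centralizer_iff.mp m.2.2 _ ⟨c, hcC, rfl⟩, mul_inv_cancel_right]
        · exact Subtype.ext (congrArg Subtype.val (hpt.1 (a₁ := ⟨m, m.2.1⟩) (a₂ := ⟨n, n.2.1⟩) (congrArg Subtype.val h)) :)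
        · rintro ⟨y, hy⟩
          obtain ⟨m, rfl⟩ := hpt.2 y
          refine ⟨⟨m, m.2, Subgroup.mem_centralizer_iff.mpr ?_⟩, rfl⟩
          rintro _ ⟨c, hcC, rfl⟩
          have h2 : ((c : G) * m * (c : G)⁻¹) = m := congrArg Subtype.val (hpt.1 (a₁ := ⟨_, ‹M.Normal›.conj_mem m m.2 c⟩) (a₂ := m) (by
            show ((c : G) * m * (c : G)⁻¹) • α = (m : G) • α
            rw [hconjα c]; exact hy c hcC))
          exact mul_inv_eq_iff_eq_mul.mp h2
      rw [h1, show ({y | ∀ c ∈ C, c • y = y} : Set Ω) = insert α S by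
        ext y
        by_cases hy : y = α
        · subst hy
          simp only [Set.mem_setOf_eq, Set.mem_insert_iff, true_or, iff_true]
          exact fun c _ => MulAction.mem_stabilizer_iff.mp c.2
        · simp [S, hy],
        Set.ncard_insert_of_notMem (fun h => h.1 rfl)]
    obtain ⟨a, ha, hLa⟩ := (Nat.dvd_prime_pow hp).mp (hMcard ▸ Subgroup.card_dvd_of_le (inf_le_left : L ≤ M))
    rw [hLS] at hLa
    rw [hFq, hcard, show S.ncard = p' ^ a - 1 by omega] at hFS
    have hVcard : Nat.card (Additive M) = p' ^ d := (Nat.card_congr Additive.toMul).trans hMcard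
    obtain ⟨i, hi⟩ : ∃ i, Nat.card W = p' ^ i :=
      ⟨_, by rw [Module.natCard_eq_pow_finrank (K := ZMod p'), Nat.card_zmod]⟩
    have hqW : q ∣ p' ^ i - 1 := hi ▸ Cfsg.Lib.FpfSemilinear.dvd_card_sub_one x hxq hxfpf W hW
    have hid : i ≤ d := by
      rw [← Nat.pow_le_pow_iff_right hp.one_lt, ← hi, ← hVcard]
      exact Nat.card_le_card_of_injective _ Subtype.val_injective
    rcases Nat.eq_zero_or_pos i with rfl | hi0
    · refine Or.inl ((Submodule.eq_bot_iff _).mpr fun w hw => ?_)
      have := (Nat.card_eq_one_iff_unique.mp (hi.trans (pow_zero _))).1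
      exact congrArg Subtype.val (Subsingleton.elim (⟨w, hw⟩ : W) 0)
    rcases hid.eq_or_lt with rfl | hid
    · refine Or.inr ?_
      apply Submodule.toAddSubgroup_injective
      exact (W.toAddSubgroup).eq_top_of_card_eq (hi.trans hVcard.symm)
    exfalso
    set g := Nat.gcd i d
    have hg : q ∣ p' ^ g - 1 := by
      rw [← Nat.pow_sub_one_gcd_pow_sub_one]
      exact Nat.dvd_gcd hqW hqd
    have hg0 : 0 < g := Nat.gcd_pos_of_pos_left _ hi0
    have hgd : 2 * g ≤ d := by
      obtain ⟨k, hk⟩ := Nat.gcd_dvd_right i d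
      have h2 : 2 ≤ k := by
        by_contra hk2
        interval_cases k
        · omega
        · have : d ∣ i := by rw [hk, mul_one]; exact Nat.gcd_dvd_left i d
          have := Nat.le_of_dvd hi0 this
          omega
      calc 2 * g ≤ k * g := Nat.mul_le_mul_right g h2
        _ = d := by rw [mul_comm]; exact hk.symm
    have hp2 := hp.two_le
    have h1g : 1 < p' ^ g := Nat.one_lt_pow hg0.ne' hp.one_lt
    have h1d : 1 < p' ^ d := Nat.one_lt_pow hd.ne' hp.one_lt
    have h2 : q < p' ^ g := lt_of_le_of_lt (Nat.le_of_dvd (by omega) hg) (by omega)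
    have ha2 : g < a := by
      by_contra hle
      push Not at hle
      have h3 : q * (p' ^ a - 1) < p' ^ g * p' ^ g := by
        calc q * (p' ^ a - 1) ≤ q * p' ^ g := Nat.mul_le_mul_left _ ((Nat.sub_le _ _).trans (Nat.pow_le_pow_right hp.pos hle))
          _ < p' ^ g * p' ^ g := (Nat.mul_lt_mul_right (by omega)).mpr h2
      have h4 : q * (p' ^ a - 1) ≤ (p' ^ g - 1) * (p' ^ g - 1) :=
        Nat.mul_le_mul (by omega) (by have := Nat.pow_le_pow_right hp.pos hle; omega)
      have h5 : p' ^ g * p' ^ g ≤ p' ^ d := by rw [← pow_add]; exact Nat.pow_le_pow_right hp.pos (by omega)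
      have h6 : (p' ^ g - 1) * (p' ^ g - 1) + 1 < p' ^ g * p' ^ g := by
        obtain ⟨u, hu⟩ : ∃ u, p' ^ g = u + 2 := ⟨p' ^ g - 2, by omega⟩
        rw [hu, show u + 2 - 1 = u + 1 by omega]
        ring_nf; omega
      omega
    have had : a < d := by
      by_contra h
      obtain rfl : a = d := by omega
      have h3 : 2 * (p' ^ a - 1) ≤ q * (p' ^ a - 1) := Nat.mul_le_mul_right _ hq.two_le
      omega
    have hda : d - a < a := by
      by_contra h
      have h3 : q * (p' ^ a - 1) < p' ^ g * p' ^ a := by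
        calc q * (p' ^ a - 1) ≤ q * p' ^ a := Nat.mul_le_mul_left _ (Nat.sub_le _ _)
          _ < p' ^ g * p' ^ a := (Nat.mul_lt_mul_right (Nat.pow_pos hp.pos)).mpr h2
      have h4 : p' ^ g * p' ^ a ≤ p' ^ d := by rw [← pow_add]; exact Nat.pow_le_pow_right hp.pos (by omega)
      have h5 : g + a < d ∨ g + a = d := by omega
      rcases h5 with h5 | h5
      · have h6 : p' ^ g * p' ^ a * 2 ≤ p' ^ d := by
          calc p' ^ g * p' ^ a * 2 ≤ p' ^ g * p' ^ a * p' := Nat.mul_le_mul_left _ hp2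
            _ = p' ^ (g + a + 1) := by rw [pow_succ, pow_add]
            _ ≤ p' ^ d := Nat.pow_le_pow_right hp.pos h5
        omega
      · omega
    have h3 : p' ^ d - 1 = p' ^ (d - a) * (p' ^ a - 1) + (p' ^ (d - a) - 1) := by
      have := Nat.one_le_pow (d - a) p' hp.pos
      have h4 : p' ^ (d - a) * (p' ^ a - 1) + p' ^ (d - a) = p' ^ d := by
        rw [← Nat.mul_succ, show (p' ^ a - 1).succ = p' ^ a by have := Nat.one_le_pow a p' hp.pos; omega, ← pow_add, Nat.sub_add_cancel had.le]
      omega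
    have h4 : p' ^ (d - a) < p' ^ a := Nat.pow_lt_pow_right hp.one_lt hda
    have h5 : 1 < p' ^ (d - a) := Nat.one_lt_pow (by omega) hp.one_lt
    have h6 : p' ^ a - 1 ∣ p' ^ (d - a) - 1 := by
      have : p' ^ a - 1 ∣ p' ^ d - 1 := ⟨q, by rw [← hFS, mul_comm]⟩
      rw [h3] at this
      exact (Nat.dvd_add_right (dvd_mul_left _ _)).mp this
    have := Nat.le_of_dvd (by omega) h6
    omega
  haveI : Finite (Additive M) := inferInstanceAs (Finite M)
  obtain ⟨hprim', hgal⟩ := Cfsg.Lib.FpfSemilinear.irreducible_facts (d := d) ((Nat.card_congr Additive.toMul).trans hMcard) x hxq hx1 hirr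
  have hCd : Nat.card C ∣ d := hgal C (σ.comp C.subtype) (fun c => by
      obtain ⟨k, hk⟩ := (isOfFinOrder_of_finite f₀).mem_powers_iff_mem_zpowers.mpr (hf₀ ⟨(c : H) * f₀ * (c : H)⁻¹, ‹F.Normal›.conj_mem _ f₀.2 _⟩)
      refine ⟨k, ?_⟩
      rw [MonoidHom.comp_apply, hxdef, ← map_inv, ← map_mul, ← map_mul, ← map_pow]
      exact congrArg σ ((congrArg Subtype.val hk).symm.trans (SubgroupClass.coe_pow _ _)))
    (fun c hcx => by
      have h1 : σ ((c : H) * f₀) = σ (f₀ * c) := by rw [map_mul, map_mul]; exact hcx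
      exact Subtype.ext (hCF c c.2 (hcommF c (hσinj h1))))
  haveI : IsCyclic C := by
    haveI : IsCyclic (MulAut F) := by
      have e := IsCyclic.mulAutMulEquiv F
      rw [hFq] at e
      exact e.isCyclic.mpr (ZMod.isCyclic_units_prime hq)
    refine isCyclic_of_injective ((MulAut.conjNormal : H →* MulAut F).comp C.subtype) ((injective_iff_map_eq_one _).mpr fun c hc1 => ?_)
    have h2 := congrArg (fun a : MulAut F => ((a f₀ : F) : H)) hc1
    simp only [MonoidHom.comp_apply, MulAut.conjNormal_apply, MulAut.one_apply, Subgroup.coe_subtype] at h2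
    exact Subtype.ext (hCF c c.2 (hcommF c (mul_inv_eq_iff_eq_mul.mp h2)))
  obtain ⟨h₀, hh₀⟩ := IsCyclic.exists_generator (α := C)
  refine ⟨q, hq, fun y hy => (horbcard y hy).trans hFq, hqd, hprim', T, Subgroup.map_subtype_le F, ?_, hTcard.trans hFq, ⟨((h₀ : H) : G), ?_⟩, ?_⟩
  · intro g hg
    refine Subgroup.mem_normalizer_iff.mpr fun m => ⟨?_, ?_⟩
    · rintro ⟨f, hf, rfl⟩
      exact ⟨⟨g, hg⟩ * f * ⟨g, hg⟩⁻¹, ‹F.Normal›.conj_mem f hf _, rfl⟩
    · rintro ⟨f, hf, hfe⟩
      refine ⟨⟨g, hg⟩⁻¹ * f * ⟨g, hg⟩, by simpa using ‹F.Normal›.conj_mem f hf (⟨g, hg⟩⁻¹), ?_⟩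
      rw [map_mul, map_mul, hfe, map_inv]
      show g⁻¹ * (g * m * g⁻¹) * g = m
      group
  · refine le_antisymm (fun g hg => ?_) (sup_le (Subgroup.map_subtype_le F) ((Subgroup.zpowers_le).mpr (h₀ : H).2))
    obtain ⟨f, hf, hfg⟩ := horb ω₀ hω₀ ⟨g, hg⟩
    have hfc : f⁻¹ * ⟨g, hg⟩ ∈ C := by
      show (f⁻¹ * ⟨g, hg⟩) • ω₀ = ω₀
      rw [mul_smul, ← hfg, inv_smul_smul]
    obtain ⟨k, hk⟩ := Subgroup.mem_zpowers_iff.mp (hh₀ ⟨_, hfc⟩)
    have h1 : g = (f : G) * ((h₀ : H) : G) ^ k := by
      have h2 := congrArg (fun c : C => ((c : H) : G)) hk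
      simp only [SubgroupClass.coe_zpow, Subgroup.coe_mul, Subgroup.coe_inv] at h2
      rw [h2, mul_inv_cancel_left]
    rw [h1]
    exact mul_mem (Subgroup.mem_sup_left ⟨f, hf, rfl⟩) (Subgroup.mem_sup_right (zpow_mem (Subgroup.mem_zpowers _) k))
  · rw [hHC]
    exact mul_dvd_mul_left q hCd

end Cfsg.Agent.S3496
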