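import Cfsg.Agent.PermGroups.Moves
import Cfsg.Agent.Elementary.PrimitiveFitting
import Cfsg.Agent.Elementary.ExtremelyPrimitive
import Mathlib
import Cfsg.Statements.S3497
-- import your own Cfsg.Agent.* helpers here

set_option autoImplicit false
open Cfsg

namespace Cfsg.Agent.S3497

/-- Restrictions on the point stabilizer of an extremely primitive group. Let a finite group G act faithfully and primitively on a finite set Ω with point stabilizers H = G_α whose order is neither 1 nor a prime, each acting primitively on every one of its orbits. Then H has trivial center, the Fitting subgroup F(H) is an elementary abelian p-group for some prime p, and if F(H) ≠ 1 has order p ^ e then p ^ e divides the number of points minus one and H / F(H) embeds in GL_e(p) (there is a homomorphism from H to GL_e(p) with kernel exactly F(H)). -/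
theorem result {G : Type*} [Group G] [Finite G] {Ω : Type*} [Fintype Ω] [MulAction G Ω] [FaithfulSMul G Ω] (hprim : MulAction.IsPreprimitive G Ω) (hep : ∀ (α : Ω) (ω : Ω), MulAction.IsPreprimitive (MulAction.stabilizer G α) (MulAction.orbit (MulAction.stabilizer G α) ω)) (α : Ω)
    (hH1 : MulAction.stabilizer G α ≠ ⊥) (hHp : ¬ (Nat.card (MulAction.stabilizer G α)).Prime) :
    Subgroup.center (MulAction.stabilizer G α) = ⊥ ∧
    IsMulCommutative (Cfsg.fittingSubgroup (MulAction.stabilizer G α)) ∧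
    ∃ p e : ℕ, p.Prime ∧ Nat.card (Cfsg.fittingSubgroup (MulAction.stabilizer G α)) = p ^ e ∧
      (∀ x ∈ Cfsg.fittingSubgroup (MulAction.stabilizer G α), x ^ p = 1) ∧
      (Cfsg.fittingSubgroup (MulAction.stabilizer G α) ≠ ⊥ →
        p ^ e ∣ Fintype.card Ω - 1 ∧
        ∃ φ : MulAction.stabilizer G α →* GL (Fin e) (ZMod p), φ.ker = Cfsg.fittingSubgroup (MulAction.stabilizer G α)) := by
  classical
  haveI := hprim.toIsPretransitive
  set H := MulAction.stabilizer G α with hH
  have hmove : ∀ ω : Ω, ω ≠ α → MulAction.IsPreprimitive H (MulAction.orbit H ω) ∧ FaithfulSMul H (MulAction.orbit H ω) :=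
    fun ω hω => ⟨hep α ω, ⟨fun {a b} hab => by
      have h1 : (((b⁻¹ * a : H)) : G) = 1 := Cfsg.Lib.ExtremelyPrimitive.faithful_suborbit hprim hep hω
        (MulAction.mem_stabilizer_iff.mp (b⁻¹ * a).2) fun x hx => by
          have h2 := congrArg Subtype.val (hab ⟨x, hx⟩)
          show (((b : G))⁻¹ * (a : G)) • x = x
          rw [mul_smul, show (a : G) • x = (b : G) • x from h2, inv_smul_smul]
      exact (inv_mul_eq_one.mp (Subtype.ext h1)).symm⟩⟩
  obtain ⟨ω, hω⟩ : ∃ ω : Ω, ω ≠ α := by
    obtain ⟨h, hh, hh1⟩ := H.bot_or_exists_ne_one.resolve_left hH1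
    by_contra hc
    push Not at hc
    exact hh1 (FaithfulSMul.eq_of_smul_eq_smul (α := Ω) fun x => by rw [hc (h • x), one_smul, hc x])
  obtain ⟨hp, hf⟩ := hmove ω hω
  haveI := hf
  refine ⟨Cfsg.Lib.PrimitiveFitting.center_eq_bot hp hHp, ?_⟩
  by_cases hF : Cfsg.fittingSubgroup H = ⊥
  · refine ⟨⟨⟨fun a b => ?_⟩⟩, 2, 0, Nat.prime_two, by rw [hF, Subgroup.card_bot, pow_zero], fun x hx => ?_, fun h => absurd hF h⟩
    · have ha := Subgroup.mem_bot.mp (le_of_eq hF a.2)
      have hb := Subgroup.mem_bot.mp (le_of_eq hF b.2)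
      exact Subtype.ext (by simp [ha, hb])
    · rw [hF, Subgroup.mem_bot] at hx
      rw [hx, one_pow]
  obtain ⟨hc, hcen, hfree, p, e, hpp, hcard, hexp⟩ := Cfsg.Lib.PrimitiveFitting.fitting_elementary hp hF
  haveI := Fact.mk hpp
  refine ⟨⟨⟨fun a b => Subtype.ext (hc a a.2 b b.2)⟩⟩, p, e, hpp, hcard, hexp, fun _ => ⟨?_, ?_⟩⟩
  · have hset : ({α}ᶜ : Set Ω).ncard = Fintype.card Ω - 1 := by
      rw [Set.ncard_compl, Set.ncard_singleton, Nat.card_eq_fintype_card]
    rw [← hset]
    refine Cfsg.Lib.PermGroups.dvd_card_of_orbits (G := H) (Cfsg.fittingSubgroup H) _ _ (fun k hk x hx => ?_) fun x hx => ?_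
    · intro h
      refine hx ?_
      have : (k : G) • x = (k : G) • α := by rw [MulAction.mem_stabilizer_iff.mp k.2]; exact h
      exact smul_left_cancel (k : G) this
    · obtain ⟨hp', hf'⟩ := hmove x hx
      haveI := hf'
      obtain ⟨-, -, hfree', -⟩ := Cfsg.Lib.PrimitiveFitting.fitting_elementary hp' hF
      rw [← hcard]
      refine dvd_of_eq (Nat.card_congr (Equiv.ofBijective (fun f => ⟨f • x, MulAction.mem_orbit x f⟩) ⟨fun f g hfg => ?_, fun ⟨y, f, hy⟩ => ⟨f, Subtype.ext hy⟩⟩))
      have h1 := congrArg Subtype.val hfg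
      have h2 : ((g⁻¹ * f : Cfsg.fittingSubgroup H) : H) = 1 := hfree' _ (g⁻¹ * f).2 ⟨x, MulAction.mem_orbit_self x⟩ (Subtype.ext (by
        show (g⁻¹ * f) • x = x
        rw [mul_smul, show f • x = g • x from h1, inv_smul_smul]))
      exact (inv_mul_eq_one.mp (Subtype.ext h2)).symm
  · haveI : (Cfsg.fittingSubgroup H).Normal := inferInstance
    obtain ⟨φ, hφ⟩ := Cfsg.Lib.PrimitiveFitting.exists_matrix_hom (Cfsg.fittingSubgroup H) hc hcard hexp
    exact ⟨φ, hφ.trans hcen⟩

end Cfsg.Agent.S3497
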