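import Cfsg.Agent.Thompson.FixedPointFree
import Mathlib
import Cfsg.Statements.S3498
-- import your own Cfsg.Agent.* helpers here

set_option autoImplicit false
open Cfsg

namespace Cfsg.Agent.S3498

/-- A maximal subgroup of a finite almost simple group does not have prime order. Here G is almost simple in the sense that it has a non-abelian simple normal subgroup T with trivial centralizer. -/
theorem result {G : Type*} [Group G] [Finite G] (T : Subgroup G) [T.Normal] (hT : IsSimpleGroup T) (hTc : ¬ IsMulCommutative T)
    (hC : Subgroup.centralizer (T : Set G) = ⊥) (H : Subgroup G) (hmax : IsCoatom H) : ¬ (Nat.card H).Prime := by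
  classical
  intro hq
  set q := Nat.card H
  haveI := Fact.mk hq
  obtain ⟨h, hh⟩ : ∃ h : H, orderOf h = q := exists_prime_orderOf_dvd_card' q dvd_rfl
  have hh1 : (h : G) ≠ 1 := fun e => hq.ne_one (by rw [← hh, show h = 1 from Subtype.ext e, orderOf_one])
  by_cases hHT : H ≤ T
  · -- a self-normalizing Sylow subgroup of prime order
    have hneT : H ≠ T := fun e => hTc (by
      subst e
      haveI := isCyclic_of_prime_card (α := H) (p := q) rfl
      exact ⟨⟨fun a b => IsMulCommutative.is_comm.comm a b⟩⟩)
    have hTtop : T = ⊤ := (hmax.le_iff.mp hHT).resolve_right (Ne.symm hneT)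
    have hnorm : Subgroup.normalizer (H : Set G) = H := by
      rcases hmax.le_iff.mp (Subgroup.le_normalizer (H := H)) with e | e
      · exfalso
        haveI : H.Normal := Subgroup.normalizer_eq_top_iff.mp e
        haveI := hT
        rcases IsSimpleGroup.eq_bot_or_eq_top_of_normal (H.subgroupOf T) inferInstance with e' | e'
        · rw [Subgroup.subgroupOf_eq_bot, disjoint_iff, inf_eq_left.mpr hHT] at e'
          exact hh1 ((Subgroup.mem_bot).mp (e' ▸ h.2))
        · exact hneT (le_antisymm hHT (Subgroup.subgroupOf_eq_top.mp e'))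
      · exact e
    obtain ⟨P, hP⟩ := (IsPGroup.of_card (n := 1) (pow_one q).symm : IsPGroup q H).exists_le_sylow
    have hPH : (P : Subgroup G) = H := by
      by_contra hne
      haveI : Group.IsNilpotent (P : Subgroup G) := P.2.isNilpotent
      have hlt : H.subgroupOf P < ⊤ := lt_top_iff_ne_top.mpr fun h' => hne (le_antisymm (Subgroup.subgroupOf_eq_top.mp h') hP)
      obtain ⟨y, hyN, hyH⟩ := SetLike.exists_of_lt (Group.normalizerCondition_of_isNilpotent _ hlt)
      refine hyH (Subgroup.mem_subgroupOf.mpr (hnorm.le (Subgroup.mem_normalizer_fintype fun z hz => ?_)))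
      exact Subgroup.mem_subgroupOf.mp ((Subgroup.mem_normalizer_iff.mp hyN ⟨z, hP hz⟩).mp (Subgroup.mem_subgroupOf.mpr hz))
    have hab : ∀ a ∈ H, ∀ b ∈ H, a * b = b * a := fun a ha b hb => by
      haveI := isCyclic_of_prime_card (α := H) (p := q) rfl
      exact congrArg Subtype.val (IsMulCommutative.is_comm.comm (⟨a, ha⟩ : H) ⟨b, hb⟩)
    have hN : Subgroup.normalizer (P : Set G) ≤ Subgroup.centralizer (P : Set G) := by
      rw [show ((P : Sylow q G) : Set G) = ((P : Subgroup G) : Set G) from rfl, hPH, hnorm]
      exact fun a ha => Subgroup.mem_centralizer_iff.mpr fun b hb => hab b hb a ha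
    have hc := MonoidHom.ker_transferSylow_isComplement' P hN
    set N := (MonoidHom.transferSylow P hN).ker
    haveI : IsSimpleGroup G := by
      haveI := hT
      exact (MulEquiv.isSimpleGroup_congr ((MulEquiv.subgroupCongr hTtop).trans Subgroup.topEquiv)).mp hT
    rcases IsSimpleGroup.eq_bot_or_eq_top_of_normal N inferInstance with e | e
    · have := hc.card_mul
      rw [e, Subgroup.card_bot, one_mul, hPH] at this
      exact hmax.1 (Subgroup.eq_top_of_card_eq H this)
    · have hd := hc.disjoint
      rw [e, top_disjoint, hPH] at hd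
      exact hh1 ((Subgroup.mem_bot).mp (hd ▸ h.2))
  · -- a fixed-point-free automorphism of prime order
    have hTH : ¬ T ≤ H := fun hle => by
      have hd : T.subgroupOf H = ⊥ ∨ T.subgroupOf H = ⊤ := by
        haveI := isCyclic_of_prime_card (α := H) (p := q) rfl
        rcases hq.eq_one_or_self_of_dvd _ (Subgroup.card_subgroup_dvd_card (T.subgroupOf H)) with e | e
        · exact Or.inl (Subgroup.card_eq_one.mp e)
        · exact Or.inr (Subgroup.eq_top_of_card_eq _ e)
      rcases hd with e | e
      · rw [Subgroup.subgroupOf_eq_bot, disjoint_iff, inf_eq_left.mpr hle] at e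
        exact hTc (by subst e; exact ⟨⟨fun a b => Subsingleton.elim _ _⟩⟩)
      · exact hHT (Subgroup.subgroupOf_eq_top.mp e)
    set C := Subgroup.centralizer ({(h : G)} : Set G)
    have hHC : H ≤ C := fun x hx => Subgroup.mem_centralizer_singleton_iff.mpr (by
      haveI := isCyclic_of_prime_card (α := H) (p := q) rfl
      exact congrArg Subtype.val (IsMulCommutative.is_comm.comm (⟨x, hx⟩ : H) h))
    have hCtop : C ≠ ⊤ := fun e => by
      have : (h : G) ∈ Subgroup.centralizer (T : Set G) := Subgroup.mem_centralizer_iff.mpr fun t _ =>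
        Subgroup.mem_centralizer_singleton_iff.mp (e ▸ Subgroup.mem_top t : t ∈ C)
      rw [hC] at this
      exact hh1 (Subgroup.mem_bot.mp this)
    have hCH : C = H := (hmax.le_iff.mp hHC).resolve_left hCtop
    let φ : T →* T := (MulAut.conjNormal (H := T) (h : G)).toMonoidHom
    have hiter : ∀ (k : ℕ) (t : T), (φ^[k] t : G) = (h : G) ^ k * t * ((h : G) ^ k)⁻¹ := by
      intro k
      induction k with
      | zero => simp
      | succ k ih =>
        intro t
        rw [Function.iterate_succ_apply', pow_succ']
        show ((MulAut.conjNormal (H := T) (h : G)) (φ^[k] t) : G) = _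
        rw [MulAut.conjNormal_apply, ih]; group
    have hnil : Group.IsNilpotent T := Cfsg.Lib.Thompson.isNilpotent_of_fpf φ (fun t ht => by
      have hc : (t : G) ∈ C := Subgroup.mem_centralizer_singleton_iff.mpr (by
        have e := congrArg Subtype.val ht
        change (h : G) * t * (h : G)⁻¹ = t at e
        rw [mul_inv_eq_iff_eq_mul] at e
        exact e.symm)
      rw [hCH] at hc
      by_contra ht1
      have hgen : Subgroup.zpowers (⟨t, hc⟩ : H) = ⊤ := zpowers_eq_top_of_prime_card (p := q) rfl
        (fun e => ht1 (Subtype.ext (show (t : G) = 1 from congrArg (fun x : H => (x : G)) e)))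
      exact hHT fun x hx => by
        obtain ⟨i, hi⟩ := hgen.ge (Subgroup.mem_top (⟨x, hx⟩ : H))
        rw [show x = (t : G) ^ i from (congrArg Subtype.val hi).symm]
        exact zpow_mem t.2 i) hq
      (funext fun t => Subtype.ext (by
        rw [hiter, show (h : G) ^ q = 1 by rw [← hh, ← Subgroup.orderOf_coe, pow_orderOf_eq_one]]; simp))
    haveI := hT
    haveI : Nontrivial T := IsSimpleGroup.toNontrivial
    apply hTc
    have hcen : Subgroup.center T = ⊤ := (IsSimpleGroup.eq_bot_or_eq_top_of_normal (Subgroup.center T) inferInstance).resolve_left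
      fun e => by
        haveI := hnil
        exact absurd e (Group.IsNilpotent.center_ne_bot T)
    exact ⟨⟨fun a b => (Subgroup.mem_center_iff.mp (hcen ▸ Subgroup.mem_top b : b ∈ Subgroup.center T) a)⟩⟩

end Cfsg.Agent.S3498
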