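import Cfsg.Statements.S3501
import Cfsg.Agent.Recognition.OneDerangementClass
-- import your own Cfsg.Agent.* helpers here

set_option autoImplicit false
open Cfsg

namespace Cfsg.Agent.S3501

/-- Let a finite group G act faithfully and primitively on a finite set Ω with at least two points, and suppose G is not almost simple (it has no non-abelian simple normal subgroup with trivial centralizer). Then the derangements of G form a single conjugacy class if and only if G is sharply 2-transitive (2-transitive, and no non-identity element fixes two points). -/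
theorem result {G : Type*} [Group G] [Finite G] {Ω : Type*} [Fintype Ω] [MulAction G Ω] [FaithfulSMul G Ω] (hΩ : 2 ≤ Fintype.card Ω) (hprim : MulAction.IsPreprimitive G Ω) (hnas : ¬ ∃ T : Subgroup G, T.Normal ∧ IsSimpleGroup T ∧ ¬ IsMulCommutative T ∧ Subgroup.centralizer (T : Set G) = ⊥) :
    Nat.card {c : ConjClasses G // ∃ g : G, ConjClasses.mk g = c ∧ ∀ ω : Ω, g • ω ≠ ω} = 1 ↔ (MulAction.IsMultiplyPretransitive G Ω 2 ∧ ∀ g : G, g ≠ 1 → ∀ a b : Ω, a ≠ b → g • a = a → g • b ≠ b) := by
  classical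
  haveI hnt : Nontrivial Ω := Fintype.one_lt_card_iff_nontrivial.mp (by omega)
  haveI := hprim
  obtain ⟨a⟩ : Nonempty Ω := inferInstance
  obtain ⟨d, hd⟩ : ∃ d : G, ∀ ω : Ω, d • ω ≠ ω := by
    have hne : MulAction.stabilizer G a ≠ ⊤ := fun h => by
      obtain ⟨b, hb⟩ := exists_ne a
      obtain ⟨g, hg⟩ := MulAction.exists_smul_eq G a b
      exact hb (hg.symm.trans (h.symm ▸ Subgroup.mem_top g : g ∈ MulAction.stabilizer G a))
    obtain ⟨d, hd⟩ := Cfsg.Lib.SolvStruct.exists_not_mem_conj _ hne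
    refine ⟨d, fun ω h => ?_⟩
    obtain ⟨x, rfl⟩ := MulAction.exists_smul_eq G a ω
    exact hd x (by rw [MulAction.mem_stabilizer_iff, mul_smul, mul_smul, h, inv_smul_smul])
  rw [Nat.card_eq_one_iff_unique]
  constructor
  · rintro ⟨hs, -⟩
    refine Cfsg.Lib.OneDerangementClass.forward hnt hprim hnas fun g h hg hh => ?_
    have e := @Subsingleton.elim _ hs ⟨ConjClasses.mk g, g, rfl, hg⟩ ⟨ConjClasses.mk h, h, rfl, hh⟩
    exact ConjClasses.mk_eq_mk_iff_isConj.mp (congrArg Subtype.val e)
  · rintro ⟨h2, hfree⟩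
    refine ⟨⟨fun c c' => ?_⟩, ⟨ConjClasses.mk d, d, rfl, hd⟩⟩
    obtain ⟨c, g, rfl, hg⟩ := c
    obtain ⟨c', h, rfl, hh⟩ := c'
    exact Subtype.ext (ConjClasses.mk_eq_mk_iff_isConj.mpr
      (Cfsg.Lib.OneDerangementClass.backward hnt h2 hfree g h hg hh))

end Cfsg.Agent.S3501
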