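import Mathlib
import Cfsg.Statements.S3504
-- import your own Cfsg.Agent.* helpers here

set_option autoImplicit false
open Cfsg

namespace Cfsg.Agent.S3504

/-- For n ≥ 5, the fixed-point-free permutations of prime order in the symmetric group of degree n form a single conjugacy class if and only if n is a prime power. -/
theorem result (n : ℕ) (hn : 5 ≤ n) :
    Nat.card {c : ConjClasses (Equiv.Perm (Fin n)) // ∃ g : Equiv.Perm (Fin n), ConjClasses.mk g = c ∧ (orderOf g).Prime ∧ ∀ i : Fin n, g i ≠ i} = 1 ↔ IsPrimePow n := by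
  classical
  rw [isPrimePow_iff_card_primeFactors_eq_one]
  have hsupp : ∀ g : Equiv.Perm (Fin n), (∀ i, g i ≠ i) → g.support = Finset.univ := fun g hg =>
    Finset.eq_univ_of_forall fun i => Equiv.Perm.mem_support.mpr (hg i)
  have htype : ∀ g : Equiv.Perm (Fin n), (orderOf g).Prime → (∀ i, g i ≠ i) →
      g.cycleType = Multiset.replicate (n / orderOf g) (orderOf g) ∧ orderOf g ∈ n.primeFactors := by
    intro g hg hfix
    obtain ⟨m, hm⟩ := Equiv.Perm.cycleType_prime_order hg
    have hs := g.sum_cycleType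
    rw [hsupp g hfix, Finset.card_univ, Fintype.card_fin, hm, Multiset.sum_replicate, smul_eq_mul] at hs
    refine ⟨?_, Nat.mem_primeFactors.mpr ⟨hg, ⟨m + 1, by rw [mul_comm]; exact hs.symm⟩, by omega⟩⟩
    have hdiv : n / orderOf g = m + 1 := Nat.div_eq_of_eq_mul_left hg.pos hs.symm
    rw [hdiv, hm]
  set S := {c : ConjClasses (Equiv.Perm (Fin n)) // ∃ g : Equiv.Perm (Fin n), ConjClasses.mk g = c ∧ (orderOf g).Prime ∧ ∀ i : Fin n, g i ≠ i} with hS
  let f : S → n.primeFactors := fun c => ⟨orderOf c.2.choose, (htype _ c.2.choose_spec.2.1 c.2.choose_spec.2.2).2⟩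
  have hf : Function.Bijective f := by
    constructor
    · intro c c' h
      have e : orderOf c.2.choose = orderOf c'.2.choose := congrArg Subtype.val h
      apply Subtype.ext
      rw [← c.2.choose_spec.1, ← c'.2.choose_spec.1, ConjClasses.mk_eq_mk_iff_isConj, Equiv.Perm.isConj_iff_cycleType_eq,
        (htype _ c.2.choose_spec.2.1 c.2.choose_spec.2.2).1, (htype _ c'.2.choose_spec.2.1 c'.2.choose_spec.2.2).1, e]
    · rintro ⟨p, hp⟩
      obtain ⟨hpp, hpn, -⟩ := Nat.mem_primeFactors.mp hp
      obtain ⟨g, hg⟩ := (Equiv.Perm.exists_with_cycleType_iff (Fin n) (m := Multiset.replicate (n / p) p)).mpr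
        ⟨by rw [Multiset.sum_replicate, smul_eq_mul, Nat.div_mul_cancel hpn, Fintype.card_fin],
         fun a ha => (Multiset.eq_of_mem_replicate ha) ▸ hpp.two_le⟩
      have hne : n / p ≠ 0 := by
        intro h; have := Nat.div_mul_cancel hpn; rw [h, zero_mul] at this; omega
      have hord : orderOf g = p := by
        rw [← Equiv.Perm.lcm_cycleType, hg, ← Nat.succ_pred hne]
        refine Nat.dvd_antisymm (Multiset.lcm_dvd.mpr fun b hb => by rw [Multiset.eq_of_mem_replicate hb]) (Multiset.dvd_lcm ?_)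
        simp
      have hfix : ∀ i, g i ≠ i := fun i => Equiv.Perm.mem_support.mp (by
        rw [Finset.eq_univ_of_card g.support (by rw [← g.sum_cycleType, hg, Multiset.sum_replicate, smul_eq_mul, Nat.div_mul_cancel hpn, Fintype.card_fin])]
        exact Finset.mem_univ i)
      set c : S := ⟨ConjClasses.mk g, g, rfl, hord ▸ hpp, hfix⟩ with hc
      refine ⟨c, Subtype.ext ?_⟩
      show orderOf c.2.choose = p
      obtain ⟨u, hu⟩ := isConj_iff.mp (ConjClasses.mk_eq_mk_iff_isConj.mp c.2.choose_spec.1)
      rw [← hord, ← hu, ← MulAut.conj_apply]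
      exact (orderOf_injective (MulAut.conj u).toMonoidHom (MulAut.conj u).injective _).symm
  rw [Nat.card_eq_of_bijective f hf, Nat.card_eq_fintype_card, Fintype.card_coe]

end Cfsg.Agent.S3504
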