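import Mathlib
import Cfsg.Statements.S3508
-- import your own Cfsg.Agent.* helpers here

set_option autoImplicit false
open Cfsg

namespace Cfsg.Agent.S3508

/-- Let a finite group G act faithfully on a set Ω with p ^ m points (p prime) and have an elementary abelian normal p-subgroup N acting regularly on Ω (so G is a group of affine transformations of an m-dimensional space over the field with p elements). If G contains an element of order p ^ r with r ≥ 1, then p ^ (r − 1) ≤ m. In particular an element of order p ^ m forces m ≤ 2, and m ≤ 1 when p is odd. -/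
theorem result {G : Type*} [Group G] [Finite G] {Ω : Type*} [Fintype Ω] [MulAction G Ω] [FaithfulSMul G Ω] (p m : ℕ) (hp : p.Prime) (hcard : Fintype.card Ω = p ^ m)
    (N : Subgroup G) [N.Normal] (hNc : IsMulCommutative N) (hNp : ∀ n ∈ N, n ^ p = 1)
    (hNtr : MulAction.IsPretransitive N Ω) (hNreg : ∀ ω : Ω, MulAction.stabilizer N ω = ⊥)
    (g : G) (r : ℕ) (hr : 1 ≤ r) (hg : orderOf g = p ^ r) :
    p ^ (r - 1) ≤ m ∧ (r = m → m ≤ 2 ∧ (2 < p → m ≤ 1)) := by
  classical
  haveI := Fact.mk hp
  have hcN : ∀ a ∈ N, ∀ b ∈ N, a * b = b * a := fun a ha b hb => congrArg Subtype.val (hNc.is_comm.comm (⟨a, ha⟩ : N) ⟨b, hb⟩)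
  letI : CommGroup N := { (inferInstance : Group N) with mul_comm := fun a b => hNc.is_comm.comm a b }
  haveI : Module (ZMod p) (Additive N) := AddCommGroup.zmodModule (fun v => Subtype.ext (hNp _ v.toMul.2))
  haveI : Nonempty Ω := Fintype.card_pos_iff.mp (by rw [hcard]; exact pow_pos hp.pos m)
  obtain ⟨ω⟩ := (inferInstance : Nonempty Ω)
  -- N is in bijection with Ω
  have hbij : Function.Bijective (fun a : N => a • ω) := by
    refine ⟨fun a b h => ?_, fun x => hNtr.exists_smul_eq ω x⟩
    have : b⁻¹ * a ∈ MulAction.stabilizer N ω := by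
      show (b⁻¹ * a) • ω = ω
      rw [mul_smul, show a • ω = b • ω from h, inv_smul_smul]
    rw [hNreg, Subgroup.mem_bot, inv_mul_eq_one] at this
    exact this.symm
  have hNcard : Nat.card (Additive N) = p ^ m := by
    show Nat.card N = p ^ m
    rw [Nat.card_eq_of_bijective _ hbij, Nat.card_eq_fintype_card, hcard]
  haveI : Finite (Additive N) := Finite.of_equiv N Additive.ofMul
  haveI : Module.Finite (ZMod p) (Additive N) := Module.Finite.of_finite
  have hfin : Module.finrank (ZMod p) (Additive N) = m := by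
    have h := Module.natCard_eq_pow_finrank (K := ZMod p) (V := Additive N)
    rw [hNcard, Nat.card_zmod] at h
    exact (Nat.pow_right_injective hp.two_le h).symm
  obtain ⟨⟨n, hn⟩, hnω⟩ := hNtr.exists_smul_eq ω (g • ω)
  change n • ω = g • ω at hnω
  set h := n⁻¹ * g with hh
  have hgh : g = n * h := by rw [hh, mul_inv_cancel_left]
  have hfixh : h • ω = ω := by rw [hh, mul_smul, ← hnω, inv_smul_smul]
  have hfixpow : ∀ j : ℕ, h ^ j • ω = ω := by
    intro j; induction j with
    | zero => rw [pow_zero, one_smul]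
    | succ j ih => rw [pow_succ, mul_smul, hfixh, ih]
  have hone : ∀ a ∈ N, a • ω = ω → a = 1 := fun a ha e => by
    have : (⟨a, ha⟩ : N) ∈ MulAction.stabilizer N ω := e
    rw [hNreg, Subgroup.mem_bot] at this
    exact congrArg Subtype.val this
  let φ : Module.End (ZMod p) (Additive N) :=
    AddMonoidHom.toZModLinearMap p (MonoidHom.toAdditive (MulAut.conjNormal (H := N) h).toMonoidHom)
  have hφ : ∀ (i : ℕ) (v : Additive N), (((φ ^ i) v).toMul : G) = h ^ i * (v.toMul : G) * (h ^ i)⁻¹ := by
    intro i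
    induction i with
    | zero => intro v; simp
    | succ i ih =>
      intro v
      rw [pow_succ' φ, Module.End.mul_apply, pow_succ']
      show ((MulAut.conjNormal (H := N) h) (((φ ^ i) v).toMul) : G) = _
      rw [MulAut.conjNormal_apply, ih]; group
  set v₀ : Additive N := Additive.ofMul ⟨n, hn⟩
  have hpow : ∀ k : ℕ, g ^ k = (((∑ i ∈ Finset.range k, φ ^ i) v₀).toMul : G) * h ^ k := by
    intro k
    induction k with
    | zero => simp
    | succ k ih =>
      rw [Finset.sum_range_succ', pow_zero, LinearMap.add_apply, Module.End.one_apply, toMul_add, Subgroup.coe_mul]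
      have e : (∑ i ∈ Finset.range k, φ ^ (i + 1)) v₀ = φ ((∑ i ∈ Finset.range k, φ ^ i) v₀) := by
        rw [← Module.End.mul_apply, Finset.mul_sum]
        simp_rw [← pow_succ']
      rw [e, pow_succ' g, ih, hcN _ (SetLike.coe_mem _) _ (SetLike.coe_mem _)]
      show _ = n * ((MulAut.conjNormal (H := N) h) ((∑ i ∈ Finset.range k, φ ^ i) v₀).toMul : G) * h ^ (k + 1)
      rw [MulAut.conjNormal_apply, hgh, pow_succ' h k]; group
  -- a power of h that acts trivially on N is trivial
  have hfaith : ∀ j : ℕ, φ ^ j = 1 → h ^ j = 1 := by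
    intro j hj
    refine FaithfulSMul.eq_of_smul_eq_smul (α := Ω) fun x => ?_
    obtain ⟨⟨a, ha⟩, rfl⟩ := hbij.2 x
    have e := hφ j (Additive.ofMul ⟨a, ha⟩)
    rw [hj] at e
    simp only [Module.End.one_apply, toMul_ofMul] at e
    show h ^ j • a • ω = (1 : G) • a • ω
    rw [one_smul, ← mul_smul, ← (eq_mul_inv_iff_mul_eq.mp e), mul_smul, hfixpow]
  have hgpr : g ^ p ^ r = 1 := hg ▸ pow_orderOf_eq_one g
  have hhpr : h ^ p ^ r = 1 := by
    have e := hpow (p ^ r)
    rw [hgpr] at e
    have e2 := eq_inv_of_mul_eq_one_right e.symm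
    exact hone _ (e2 ▸ inv_mem (SetLike.coe_mem _)) (hfixpow _)
  have hφpr : φ ^ p ^ r = 1 := LinearMap.ext fun v => by
    apply Additive.toMul.injective; apply Subtype.ext
    rw [hφ, hhpr]; simp
  -- Frobenius identities in characteristic p
  have hfrob : ∀ s : ℕ, (φ - 1) ^ p ^ s = φ ^ p ^ s - 1 := fun s => by
    have e := congrArg (Polynomial.aeval φ) (show ((Polynomial.X : Polynomial (ZMod p)) - 1) ^ p ^ s = Polynomial.X ^ p ^ s - 1 by
      rw [sub_pow_char_pow, one_pow])
    simpa using e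
  have hgeom : ∀ s : ℕ, (φ - 1) ^ (p ^ s - 1) = ∑ i ∈ Finset.range (p ^ s), φ ^ i := fun s => by
    have e := congrArg (Polynomial.aeval φ) (show ((Polynomial.X : Polynomial (ZMod p)) - 1) ^ (p ^ s - 1) = ∑ i ∈ Finset.range (p ^ s), Polynomial.X ^ i by
      apply mul_right_cancel₀ (Polynomial.X_sub_C_ne_zero (1 : ZMod p))
      rw [map_one, ← pow_succ, Nat.sub_add_cancel (Nat.one_le_pow _ _ hp.pos), geom_sum_mul, sub_pow_char_pow, one_pow])
    simpa using e
  have hnil : (φ - 1) ^ m = 0 := by
    have h0 : IsNilpotent (φ - 1) := ⟨p ^ r, by rw [hfrob, hφpr, sub_self]⟩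
    have e := (φ - 1).aeval_self_charpoly
    rw [IsNilpotent.charpoly_eq_X_pow_finrank h0, hfin, map_pow, Polynomial.aeval_X] at e
    exact e
  have main : p ^ (r - 1) ≤ m := by
    by_contra hlt
    have hz : ∀ j, m ≤ j → (φ - 1) ^ j = 0 := fun j hj => by
      rw [← Nat.sub_add_cancel hj, pow_add, hnil, mul_zero]
    have hφs : φ ^ p ^ (r - 1) = 1 := sub_eq_zero.mp (by rw [← hfrob]; exact hz _ (by omega))
    have e := hpow (p ^ (r - 1))
    rw [← hgeom, hz _ (by omega), hfaith _ hφs, LinearMap.zero_apply, toMul_zero, OneMemClass.coe_one, one_mul] at e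
    have := orderOf_dvd_of_pow_eq_one e
    rw [hg, Nat.pow_dvd_pow_iff_le_right hp.one_lt] at this
    omega
  refine ⟨main, fun hrm => ?_⟩
  subst hrm
  refine ⟨?_, fun hp2 => ?_⟩
  · by_contra h3
    have h1 : 2 ^ (r - 1) ≤ r := (Nat.pow_le_pow_left hp.two_le _).trans main
    obtain ⟨j, rfl⟩ : ∃ j, r = j + 3 := ⟨r - 3, by omega⟩
    rw [show j + 3 - 1 = j + 2 by omega, pow_add] at h1
    have := @Nat.lt_two_pow_self j
    omega
  · by_contra h3
    have h1 : 3 ^ (r - 1) ≤ r := (Nat.pow_le_pow_left hp2 _).trans main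
    obtain ⟨j, rfl⟩ : ∃ j, r = j + 2 := ⟨r - 2, by omega⟩
    rw [show j + 2 - 1 = j + 1 by omega, pow_succ] at h1
    have := @Nat.lt_pow_self j 3 (by norm_num)
    omega

end Cfsg.Agent.S3508
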