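import Mathlib
import Cfsg.Statements.S3511
-- import your own Cfsg.Agent.* helpers here

set_option autoImplicit false
open Cfsg

namespace Cfsg.Agent.S3511

/-- Let a finite group G act faithfully on a set Ω. If every element of G of square-free order has a regular cycle (an orbit of the cyclic group it generates with trivial stabilizer), then every element of G has a regular cycle. -/
theorem result {G : Type*} [Group G] [Finite G] {Ω : Type*} [MulAction G Ω] [FaithfulSMul G Ω]
    (h : ∀ g : G, Squarefree (orderOf g) → ∃ ω : Ω, MulAction.stabilizer (Subgroup.zpowers g) ω = ⊥) (g : G) :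
    ∃ ω : Ω, MulAction.stabilizer (Subgroup.zpowers g) ω = ⊥ := by
  classical
  set n := orderOf g with hn
  have hn0 : 0 < n := orderOf_pos g
  set r := ∏ q ∈ n.primeFactors, q with hr
  have hrn : r ∣ n := Nat.prod_primeFactors_dvd n
  have hrsq : Squarefree r := by
    rw [hr, ← Nat.radical_eq_prod_primeFactors]; exact UniqueFactorizationMonoid.squarefree_radical
  set h' := g ^ (n / r) with hh'
  have hord : orderOf h' = r := orderOf_pow_orderOf_div hn0.ne' hrn
  obtain ⟨ω, hω⟩ := h h' (hord ▸ hrsq)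
  refine ⟨ω, (Subgroup.eq_bot_iff_forall _).mpr fun x hx => ?_⟩
  by_contra hx1
  obtain ⟨q, hq, hqd⟩ := Nat.exists_prime_and_dvd (n := orderOf x) (fun e => hx1 (orderOf_eq_one_iff.mp e))
  set y := x ^ (orderOf x / q) with hy
  have hyo : orderOf y = q := orderOf_pow_orderOf_div (orderOf_pos x).ne' hqd
  have hys : y ∈ MulAction.stabilizer (Subgroup.zpowers g) ω := pow_mem hx _
  have hyg : (y : G) ∈ Subgroup.zpowers g := y.2
  have hqn : q ∣ n := by
    rw [← hyo, ← Subgroup.orderOf_coe y]; exact orderOf_dvd_of_mem_zpowers hyg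
  have hqr : q ∣ r := Finset.dvd_prod_of_mem _ (hq.mem_primeFactors hqn hn0.ne')
  obtain ⟨j, hj⟩ := hyg
  have hdvd : (n : ℤ) ∣ j * r := by
    rw [orderOf_dvd_iff_zpow_eq_one, zpow_mul, show g ^ j = (y : G) from hj, zpow_natCast]
    exact orderOf_dvd_iff_pow_eq_one.mp (by rw [Subgroup.orderOf_coe, hyo]; exact hqr)
  have hmem : (y : G) ∈ Subgroup.zpowers h' := by
    obtain ⟨d, hd⟩ := hrn
    have hd' : n / r = d := by
      rw [hd, Nat.mul_div_cancel_left _ (Nat.pos_of_dvd_of_pos (Dvd.intro d hd.symm) hn0)]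
    rw [hd] at hdvd
    obtain ⟨c, hc⟩ := hdvd
    have hjd : j = d * c := by
      have hr0 : (r : ℤ) ≠ 0 := by exact_mod_cast hrsq.ne_zero
      apply mul_right_cancel₀ hr0
      rw [hc]; push_cast; ring
    exact ⟨c, by show h' ^ c = _; rw [hh', hd', ← show g ^ j = (y : G) from hj, hjd, zpow_mul, zpow_natCast]⟩
  have : (⟨y, hmem⟩ : Subgroup.zpowers h') ∈ MulAction.stabilizer (Subgroup.zpowers h') ω := hys
  rw [hω, Subgroup.mem_bot] at this
  rw [← Subgroup.orderOf_coe, show (y : G) = 1 from congrArg Subtype.val this, orderOf_one] at hyo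
  exact hq.ne_one hyo.symm

end Cfsg.Agent.S3511
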