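import Cfsg.Agent.Elementary.RelIndexProduct
import Mathlib
import Cfsg.Statements.S3514
-- import your own Cfsg.Agent.* helpers here

set_option autoImplicit false
open Cfsg

namespace Cfsg.Agent.S3514

/-- Let p be a prime, V a finite vector space over the field with p elements, and H a group of linear transformations of V all of whose orbits on V have size coprime to p. (i) Every normal subgroup K of H has all its orbits on V of size coprime to p. (ii) If N is a group of linear transformations of V of order coprime to p that is normalized by H, then the group generated by N and H has all its orbits on V of size coprime to p. -/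
theorem result (p : ℕ) [Fact p.Prime] {V : Type*} [AddCommGroup V] [Module (ZMod p) V] [Finite V]
    (H : Subgroup (V ≃ₗ[ZMod p] V)) (hH : ∀ v : V, ¬ p ∣ Nat.card {u : V | ∃ h ∈ H, h v = u}) :
    (∀ K : Subgroup (V ≃ₗ[ZMod p] V), K ≤ H → H ≤ Subgroup.normalizer (K : Set (V ≃ₗ[ZMod p] V)) →
        ∀ v : V, ¬ p ∣ Nat.card {u : V | ∃ k ∈ K, k v = u}) ∧
    (∀ N : Subgroup (V ≃ₗ[ZMod p] V), ¬ p ∣ Nat.card N → H ≤ Subgroup.normalizer (N : Set (V ≃ₗ[ZMod p] V)) →
        ∀ v : V, ¬ p ∣ Nat.card {u : V | ∃ x ∈ N ⊔ H, x v = u}) := by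
  classical
  have key : ∀ (v : V) (K : Subgroup (V ≃ₗ[ZMod p] V)),
      Nat.card {u : V | ∃ k ∈ K, k v = u} = (MulAction.stabilizer (V ≃ₗ[ZMod p] V) v).relIndex K := by
    intro v K
    rw [Subgroup.relIndex, show (MulAction.stabilizer (V ≃ₗ[ZMod p] V) v).subgroupOf K = MulAction.stabilizer K v from rfl,
      MulAction.index_stabilizer, ← Nat.card_coe_set_eq]
    refine Nat.card_congr (Equiv.setCongr ?_)
    ext u
    exact ⟨fun ⟨k, hk, e⟩ => ⟨⟨k, hk⟩, e⟩, fun ⟨k, e⟩ => ⟨k.1, k.2, e⟩⟩
  haveI : Finite (V ≃ₗ[ZMod p] V) := Finite.of_injective _ (DFunLike.coe_injective)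
  refine ⟨fun K hKH hn v hd => hH v ?_, fun N hN hn v hd => ?_⟩
  · rw [key] at hd ⊢
    set S := MulAction.stabilizer (V ≃ₗ[ZMod p] V) v
    have h1 : (S ⊓ H).relIndex K = S.relIndex K := by
      rw [← Subgroup.inf_relIndex_right (S ⊓ H) K, inf_assoc, inf_eq_right.mpr hKH, Subgroup.inf_relIndex_right]
    have hU := Cfsg.Lib.RelIndexProduct.relIndex_eq_of_product (T := S ⊓ H) (X := K) (U := K ⊔ (S ⊓ H)) le_sup_left
      fun u hu => Cfsg.Lib.RelIndexProduct.exists_mul_of_mem_sup (inf_le_right.trans hn) hu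
    have hmul := Subgroup.relIndex_mul_relIndex (S ⊓ H) (K ⊔ (S ⊓ H)) H le_sup_right (sup_le hKH inf_le_right)
    rw [hU, h1, Subgroup.inf_relIndex_right] at hmul
    exact hd.trans (Dvd.intro _ hmul)
  · rw [key] at hd
    set S := MulAction.stabilizer (V ≃ₗ[ZMod p] V) v
    have hpr : p.Prime := Fact.out
    set S' := S ⊓ (N ⊔ H) with hS'
    set T := N ⊔ S' with hT
    have hN' : N ⊔ H ≤ Subgroup.normalizer (N : Set (V ≃ₗ[ZMod p] V)) := sup_le Subgroup.le_normalizer hn
    have hT1 := Subgroup.relIndex_mul_relIndex S' T (N ⊔ H) le_sup_right (sup_le le_sup_left inf_le_right)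
    rw [show S'.relIndex (N ⊔ H) = S.relIndex (N ⊔ H) from Subgroup.inf_relIndex_right S (N ⊔ H)] at hT1
    rw [← hT1] at hd
    rcases hpr.dvd_mul.mp hd with h | h
    · apply hN
      rw [Cfsg.Lib.RelIndexProduct.relIndex_eq_of_product (T := S') (X := N) (U := T) le_sup_left
        fun u hu => Cfsg.Lib.RelIndexProduct.exists_mul_of_mem_sup (inf_le_right.trans hN') hu] at h
      exact h.trans (Subgroup.relIndex_dvd_card _ _)
    · apply hH v
      rw [key]
      rw [Cfsg.Lib.RelIndexProduct.relIndex_eq_of_product (T := T) (X := H) (U := N ⊔ H) le_sup_right (fun u hu => by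
        obtain ⟨x, hx, t, ht, e⟩ := Cfsg.Lib.RelIndexProduct.exists_mul_of_mem_sup' hn ((sup_comm N H) ▸ hu)
        exact ⟨x, hx, t, Subgroup.mem_sup_left ht, e⟩)] at h
      refine h.trans ((Subgroup.relIndex_dvd_of_le_left H (le_sup_right : S' ≤ T)).trans ?_)
      rw [← Subgroup.inf_relIndex_right S' H, hS', inf_assoc, inf_eq_right.mpr (le_sup_right : H ≤ N ⊔ H),
        Subgroup.inf_relIndex_right]

end Cfsg.Agent.S3514
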