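import Cfsg.Agent.Elementary.AffineExtend
import Mathlib
import Cfsg.Statements.S3515
-- import your own Cfsg.Agent.* helpers here

set_option autoImplicit false
open Cfsg

namespace Cfsg.Agent.S3515

/-- Every primitive affine permutation group of degree p² is 3-closed. Let p be a prime and G a group of permutations of the plane V = F_p² consisting of affine maps x ↦ Ax + b, containing all translations, and acting primitively on V. Then any permutation σ of V that agrees on every triple of points with some element of G (σ preserves every G-orbit on ordered triples) already lies in G. -/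
theorem result (p : ℕ) [Fact p.Prime] (G : Subgroup (Equiv.Perm (Fin 2 → ZMod p)))
    (haff : (G : Set (Equiv.Perm (Fin 2 → ZMod p))) ⊆ {τ : Equiv.Perm (Fin 2 → ZMod p) | ∃ (A : (Fin 2 → ZMod p) ≃ₗ[ZMod p] (Fin 2 → ZMod p)) (b : Fin 2 → ZMod p), ∀ x, τ x = A x + b})
    (htrans : ∀ b : Fin 2 → ZMod p, ∃ g ∈ G, ∀ x, g x = x + b) (hprim : MulAction.IsPreprimitive G (Fin 2 → ZMod p))
    (σ : Equiv.Perm (Fin 2 → ZMod p)) (hσ : (∀ t : Fin 3 → (Fin 2 → ZMod p), ∃ g ∈ G, ∀ i, σ (t i) = g (t i))) : σ ∈ G := by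
  classical
  obtain ⟨g, hg, hgt⟩ := hσ ![0, Pi.single 0 1, Pi.single 1 1]
  have hτ : ∀ t : Fin 3 → (Fin 2 → ZMod p), ∃ (A : (Fin 2 → ZMod p) ≃ₗ[ZMod p] (Fin 2 → ZMod p)) (b : (Fin 2 → ZMod p)), ∀ i, (g⁻¹ * σ) (t i) = A (t i) + b := fun t => by
    obtain ⟨g', hg', hg't⟩ := hσ t
    obtain ⟨A, b, hAb⟩ := haff (mul_mem (inv_mem hg) hg')
    exact ⟨A, b, fun i => by rw [← hAb, Equiv.Perm.mul_apply, Equiv.Perm.mul_apply, hg't]⟩
  have hfix : ∀ i, (g⁻¹ * σ) (![0, Pi.single 0 1, Pi.single 1 1] i) = ![0, Pi.single 0 1, Pi.single 1 1] i := fun i => by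
    rw [Equiv.Perm.mul_apply, hgt, Equiv.Perm.inv_def, Equiv.symm_apply_apply]
  set τ := g⁻¹ * σ with hτdef
  have h0 : τ 0 = 0 := hfix 0
  have h1 : τ (Pi.single 0 1) = Pi.single 0 1 := hfix 1
  have h3 : τ (Pi.single 1 1) = Pi.single 1 1 := hfix 2
  suffices τ = 1 by
    have e : σ = g := by rwa [hτdef, inv_mul_eq_one, eq_comm] at this
    exact e ▸ hg
  apply Equiv.ext
  intro v
  show τ v = v
  by_cases hp : p = 2
  · subst hp
    have hc : ∀ c : ZMod 2, c = 0 ∨ c = 1 := fun c => by fin_cases c <;> first | (left; rfl) | (right; rfl)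
    have key : ∀ w : (Fin 2 → ZMod 2), w = 0 ∨ w = Pi.single 0 1 ∨ w = Pi.single 1 1 ∨ w = Pi.single 0 1 + Pi.single 1 1 := by
      intro w
      simp only [funext_iff, Fin.forall_fin_two]
      rcases hc (w 0) with a | a <;> rcases hc (w 1) with b | b <;> simp [a, b]
    rcases key v with rfl | rfl | rfl | rfl
    · exact h0
    · exact h1
    · exact h3
    · rcases key (τ (Pi.single 0 1 + Pi.single 1 1)) with e | e | e | e
      · have := congrFun (τ.injective (e.trans h0.symm)) 0; simp at this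
      · have := congrFun (τ.injective (e.trans h1.symm)) 1; simp at this
      · have := congrFun (τ.injective (e.trans h3.symm)) 0; simp at this
      · exact e
  · have h2 : (2 : ZMod p) ≠ 0 := by
      intro e
      have e' : ((2 : ℕ) : ZMod p) = 0 := by simpa using e
      exact hp ((Nat.prime_dvd_prime_iff_eq (Fact.out) Nat.prime_two).mp ((ZMod.natCast_eq_zero_iff _ _).mp e'))
    obtain ⟨A, hA⟩ := Cfsg.Lib.AffineExtend.affine_of_triples h2 τ hτ
    have e : (A : (Fin 2 → ZMod p) →ₗ[ZMod p] (Fin 2 → ZMod p)) = LinearMap.id := (Pi.basisFun (ZMod p) (Fin 2)).ext fun i => by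
      rw [Pi.basisFun_apply]
      show A (Pi.single i 1) = Pi.single i 1
      have := hA (Pi.single i 1)
      fin_cases i
      · rw [h0, add_zero] at this; exact this.symm.trans h1
      · rw [h0, add_zero] at this; exact this.symm.trans h3
    rw [hA, h0, add_zero]
    exact LinearMap.congr_fun e v

end Cfsg.Agent.S3515
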