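import Cfsg.Agent.Elementary.AffineExtend
import Mathlib
import Cfsg.Statements.S3516
-- import your own Cfsg.Agent.* helpers here

set_option autoImplicit false
open Cfsg

namespace Cfsg.Agent.S3516

/-- Let p be an odd prime, d ≥ 3, and G a group of affine permutations x ↦ Ax + b of V = F_p^d containing all translations and all maps x ↦ Ax with A of determinant 1. Then the 3-closure of G is the full affine group: a permutation σ of V agrees on every triple of points with some element of G if and only if σ is an affine map. -/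
theorem result (p : ℕ) [Fact p.Prime] (hp : p ≠ 2) (d : ℕ) (hd : 3 ≤ d) (G : Subgroup (Equiv.Perm (Fin d → ZMod p)))
    (haff : (G : Set (Equiv.Perm (Fin d → ZMod p))) ⊆ {τ : Equiv.Perm (Fin d → ZMod p) | ∃ (A : (Fin d → ZMod p) ≃ₗ[ZMod p] (Fin d → ZMod p)) (b : Fin d → ZMod p), ∀ x, τ x = A x + b})
    (htrans : ∀ b : Fin d → ZMod p, ∃ g ∈ G, ∀ x, g x = x + b)
    (hsl : ∀ A : (Fin d → ZMod p) ≃ₗ[ZMod p] (Fin d → ZMod p), LinearMap.det (A : (Fin d → ZMod p) →ₗ[ZMod p] (Fin d → ZMod p)) = 1 → ∃ g ∈ G, ∀ x, g x = A x)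
    (σ : Equiv.Perm (Fin d → ZMod p)) :
    (∀ t : Fin 3 → (Fin d → ZMod p), ∃ g ∈ G, ∀ i, σ (t i) = g (t i)) ↔ σ ∈ {τ : Equiv.Perm (Fin d → ZMod p) | ∃ (A : (Fin d → ZMod p) ≃ₗ[ZMod p] (Fin d → ZMod p)) (b : Fin d → ZMod p), ∀ x, τ x = A x + b} := by
  classical
  have h2 : (2 : ZMod p) ≠ 0 := by
    intro e
    have e' : ((2 : ℕ) : ZMod p) = 0 := by simpa using e
    exact hp ((Nat.prime_dvd_prime_iff_eq (Fact.out) Nat.prime_two).mp ((ZMod.natCast_eq_zero_iff _ _).mp e'))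
  constructor
  · intro h
    obtain ⟨A, hA⟩ := Cfsg.Lib.AffineExtend.affine_of_triples h2 σ (fun t => by
      obtain ⟨g, hg, hgt⟩ := h t
      obtain ⟨A, b, hAb⟩ := haff hg
      exact ⟨A, b, fun i => (hgt i).trans (hAb _)⟩)
    exact ⟨A, σ 0, hA⟩
  · rintro ⟨A, b, hAb⟩ t
    set W : Submodule (ZMod p) (Fin d → ZMod p) := Submodule.span (ZMod p) (Set.range ![t 1 - t 0, t 2 - t 0])
    have hW : W < ⊤ := lt_top_iff_ne_top.mpr fun e => by
      have h1 := finrank_range_le_card (R := ZMod p) ![t 1 - t 0, t 2 - t 0]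
      rw [Set.finrank, show Submodule.span (ZMod p) (Set.range ![t 1 - t 0, t 2 - t 0]) = ⊤ from e, finrank_top, Module.finrank_fin_fun, Fintype.card_fin] at h1
      omega
    have hdet : LinearMap.det (A : (Fin d → ZMod p) →ₗ[ZMod p] (Fin d → ZMod p)) ≠ 0 := A.isUnit_det'.ne_zero
    obtain ⟨D, hD, hDW⟩ := Cfsg.Lib.AffineExtend.exists_det_fix hW (inv_ne_zero hdet)
    obtain ⟨g₁, hg₁, hg₁e⟩ := hsl (D.trans A) (by rw [LinearEquiv.coe_trans, LinearMap.det_comp, hD, mul_inv_cancel₀ hdet])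
    obtain ⟨g₂, hg₂, hg₂e⟩ := htrans (σ (t 0) - A (D (t 0)))
    refine ⟨g₂ * g₁, mul_mem hg₂ hg₁, fun i => ?_⟩
    rw [Equiv.Perm.mul_apply, hg₂e, hg₁e, LinearEquiv.trans_apply]
    have key : ∀ j, t j - t 0 ∈ W → σ (t j) = A (D (t j)) + (σ (t 0) - A (D (t 0))) := fun j hj => by
      have e : A (D (t j)) - A (D (t 0)) = A (t j) - A (t 0) := by rw [← map_sub, ← map_sub D, hDW _ hj, map_sub]
      rw [add_sub, add_sub_right_comm, e, hAb, hAb]
      abel
    fin_cases i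
    · simp
    · exact key 1 (Submodule.subset_span ⟨0, rfl⟩)
    · exact key 2 (Submodule.subset_span ⟨1, rfl⟩)

end Cfsg.Agent.S3516
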