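import Cfsg.Agent.Elementary.AffineExtend
import Mathlib
import Cfsg.Statements.S3517
-- import your own Cfsg.Agent.* helpers here

set_option autoImplicit false
open Cfsg

namespace Cfsg.Agent.S3517

/-- For d ≥ 3, the 3-closure of the affine group AGL_d(2) acting on F_2^d is the full symmetric group: every permutation of F_2^d agrees on every ordered triple of points with some affine map (AGL_d(2) is 3-transitive). -/
theorem result (d : ℕ) (hd : 3 ≤ d) (σ : Equiv.Perm (Fin d → ZMod 2)) (t : Fin 3 → (Fin d → ZMod 2)) :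
    ∃ (A : (Fin d → ZMod 2) ≃ₗ[ZMod 2] (Fin d → ZMod 2)) (b : Fin d → ZMod 2), ∀ i, σ (t i) = A (t i) + b := by
  classical
  have one : ∀ u w : (Fin d → ZMod 2), u ≠ 0 → w ≠ 0 → ∃ A : (Fin d → ZMod 2) ≃ₗ[ZMod 2] (Fin d → ZMod 2), A u = w := fun u w hu hw => by
    obtain ⟨A, hA⟩ := Cfsg.Lib.AffineExtend.exists_equiv_extend (v := ![u]) (w := ![w]) (K := ZMod 2) (linearIndependent_unique_iff.mpr (by simpa using hu)) (linearIndependent_unique_iff.mpr (by simpa using hw))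
    exact ⟨A, hA 0⟩
  have hsc : ∀ c : ZMod 2, c = 0 ∨ c = 1 := by decide
  set u₁ := t 1 - t 0 with hu₁
  set u₂ := t 2 - t 0 with hu₂
  set w₁ := σ (t 1) - σ (t 0) with hw₁
  set w₂ := σ (t 2) - σ (t 0) with hw₂
  have e₁ : w₁ = 0 ↔ u₁ = 0 := by rw [hw₁, hu₁, sub_eq_zero, sub_eq_zero, σ.injective.eq_iff]
  have e₂ : w₂ = 0 ↔ u₂ = 0 := by rw [hw₂, hu₂, sub_eq_zero, sub_eq_zero, σ.injective.eq_iff]
  have e₃ : w₁ = w₂ ↔ u₁ = u₂ := by rw [hw₁, hw₂, hu₁, hu₂, sub_left_inj, sub_left_inj, σ.injective.eq_iff]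
  have li : ∀ a b : (Fin d → ZMod 2), a ≠ 0 → b ≠ 0 → a ≠ b → LinearIndependent (ZMod 2) ![a, b] := fun a b ha hb hab => by
    rw [linearIndependent_fin2]
    refine ⟨hb, fun c => ?_⟩
    show c • b ≠ a
    rcases hsc c with rfl | rfl
    · rw [zero_smul]; exact ha.symm
    · rw [one_smul]; exact hab.symm
  obtain ⟨A, hA₁, hA₂⟩ : ∃ A : (Fin d → ZMod 2) ≃ₗ[ZMod 2] (Fin d → ZMod 2), A u₁ = w₁ ∧ A u₂ = w₂ := by
    by_cases h1 : u₁ = 0
    · by_cases h2 : u₂ = 0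
      · exact ⟨LinearEquiv.refl _ _, by simp [h1, e₁.mpr h1], by simp [h2, e₂.mpr h2]⟩
      · obtain ⟨A, hA⟩ := one u₂ w₂ h2 (fun e => h2 (e₂.mp e))
        exact ⟨A, by rw [h1, map_zero, e₁.mpr h1], hA⟩
    · by_cases h2 : u₂ = 0
      · obtain ⟨A, hA⟩ := one u₁ w₁ h1 (fun e => h1 (e₁.mp e))
        exact ⟨A, hA, by rw [h2, map_zero, e₂.mpr h2]⟩
      · by_cases h3 : u₁ = u₂
        · obtain ⟨A, hA⟩ := one u₁ w₁ h1 (fun e => h1 (e₁.mp e))
          exact ⟨A, hA, by rw [← h3, hA, e₃.mpr h3]⟩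
        · obtain ⟨A, hA⟩ := Cfsg.Lib.AffineExtend.exists_equiv_extend (li u₁ u₂ h1 h2 h3) (li w₁ w₂ (fun e => h1 (e₁.mp e)) (fun e => h2 (e₂.mp e)) (fun e => h3 (e₃.mp e)))
          exact ⟨A, hA 0, hA 1⟩
  refine ⟨A, σ (t 0) - A (t 0), fun i => ?_⟩
  fin_cases i
  · simp
  · show σ (t 1) = A (t 1) + (σ (t 0) - A (t 0))
    rw [hu₁, map_sub, hw₁] at hA₁
    rw [add_sub, add_sub_right_comm, hA₁, sub_add_cancel]
  · show σ (t 2) = A (t 2) + (σ (t 0) - A (t 0))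
    rw [hu₂, map_sub, hw₂] at hA₂
    rw [add_sub, add_sub_right_comm, hA₂, sub_add_cancel]

end Cfsg.Agent.S3517
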