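import Cfsg.Agent.Elementary.ProperAffineClosed
import Mathlib
import Cfsg.Statements.S3518
-- import your own Cfsg.Agent.* helpers here

set_option autoImplicit false
open Cfsg

namespace Cfsg.Agent.S3518

/-- Closures of subgroups of the one-dimensional affine group. Let p be a prime and G a group of permutations of F_p lying in the affine group AGL₁(p) = {x ↦ ax + b, a ≠ 0} and containing all translations. (1) If G is a proper subgroup of AGL₁(p), then G is 2-closed: a permutation of F_p agreeing on every ordered pair of points with some element of G lies in G. (2) Every permutation of F_p agrees on every ordered pair with some element of AGL₁(p) (the 2-closure of AGL₁(p) is the symmetric group). (3) AGL₁(p) is 3-closed: a permutation agreeing on every ordered triple with some affine map is affine. -/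
theorem result (p : ℕ) [Fact p.Prime] (G : Subgroup (Equiv.Perm (ZMod p))) (hG : G ≤ Cfsg.affineGroup (ZMod p))
    (htrans : ∀ b : ZMod p, ∃ g ∈ G, ∀ x, g x = x + b) :
    (G ≠ Cfsg.affineGroup (ZMod p) → ∀ σ : Equiv.Perm (ZMod p), (∀ t : Fin 2 → ZMod p, ∃ g ∈ G, ∀ i, σ (t i) = g (t i)) → σ ∈ G) ∧
    (∀ σ : Equiv.Perm (ZMod p), (∀ t : Fin 2 → ZMod p, ∃ g ∈ Cfsg.affineGroup (ZMod p), ∀ i, σ (t i) = g (t i))) ∧
    (∀ σ : Equiv.Perm (ZMod p), (∀ t : Fin 3 → ZMod p, ∃ g ∈ Cfsg.affineGroup (ZMod p), ∀ i, σ (t i) = g (t i)) → σ ∈ Cfsg.affineGroup (ZMod p)) := by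
  classical
  have hA : ∀ (a : (ZMod p)ˣ) (b : ZMod p), ∃ g ∈ Cfsg.affineGroup (ZMod p), ∀ x, g x = (a : ZMod p) * x + b := fun a b =>
    ⟨(Units.mulLeft a).trans (Equiv.addRight b), ⟨a, b, fun x => rfl⟩, fun x => rfl⟩
  refine ⟨fun hne σ hσ => ?_, fun σ t => ?_, fun σ hσ => ?_⟩
  · -- the multipliers
    let H : Subgroup (ZMod p)ˣ :=
      { carrier := {a | ∃ g ∈ G, ∃ b, ∀ x, g x = (a : ZMod p) * x + b}
        one_mem' := ⟨1, one_mem G, 0, fun x => by simp⟩
        mul_mem' := by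
          rintro a a' ⟨g, hg, b, hb⟩ ⟨g', hg', b', hb'⟩
          exact ⟨g * g', mul_mem hg hg', (a : ZMod p) * b' + b, fun x => by
            rw [Equiv.Perm.mul_apply, hb', hb, Units.val_mul]; ring⟩
        inv_mem' := by
          rintro a ⟨g, hg, b, hb⟩
          refine ⟨g⁻¹, inv_mem hg, -((a⁻¹ : (ZMod p)ˣ) : ZMod p) * b, fun x => g.injective ?_⟩
          rw [Equiv.Perm.inv_def, Equiv.apply_symm_apply, hb, mul_add, ← mul_assoc, Units.mul_inv, one_mul,
            neg_mul, mul_neg, ← mul_assoc, Units.mul_inv, one_mul, neg_add_cancel_right] }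
    have hfull : ∀ (a : (ZMod p)ˣ), a ∈ H → ∀ b, ∀ σ : Equiv.Perm (ZMod p), (∀ x, σ x = (a : ZMod p) * x + b) → σ ∈ G := by
      intro a ⟨g, hg, b', hb'⟩ b σ hσ
      obtain ⟨t, ht, hte⟩ := htrans (b - b')
      have : σ = t * g := Equiv.ext fun x => by rw [Equiv.Perm.mul_apply, hte, hb', hσ]; ring
      rw [this]; exact mul_mem ht hg
    have hH : H ≠ ⊤ := fun e => hne (le_antisymm hG (by
      rintro g ⟨a, b, hab⟩; exact hfull a (e ▸ Subgroup.mem_top a) b g hab))
    obtain ⟨a, ha, b, hb⟩ := Cfsg.Lib.ProperAffine.exists_affine H hH σ (fun x y => by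
      obtain ⟨g, hg, hgt⟩ := hσ ![x, y]
      obtain ⟨a, b, hab⟩ := hG hg
      refine ⟨a, ⟨g, hg, b, hab⟩, ?_⟩
      have h0 : σ x = g x := hgt 0
      have h1 : σ y = g y := hgt 1
      rw [h0, h1, hab, hab]; ring)
    exact hfull a ha b σ hb
  · by_cases h : t 0 = t 1
    · obtain ⟨g, hg, hge⟩ := hA 1 (σ (t 0) - t 0)
      refine ⟨g, hg, fun i => ?_⟩
      fin_cases i <;> simp [hge, ← h]
    · have hne : (σ (t 1) - σ (t 0)) / (t 1 - t 0) ≠ 0 :=
        div_ne_zero (sub_ne_zero.mpr (σ.injective.ne (Ne.symm h))) (sub_ne_zero.mpr (Ne.symm h))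
      obtain ⟨g, hg, hge⟩ := hA (Units.mk0 _ hne) (σ (t 0) - (σ (t 1) - σ (t 0)) / (t 1 - t 0) * t 0)
      refine ⟨g, hg, fun i => ?_⟩
      fin_cases i
      · simp [hge]
      · show σ (t 1) = g (t 1)
        rw [hge, Units.val_mk0]
        have := sub_ne_zero.mpr (Ne.symm h)
        field_simp; ring
  · refine ⟨Units.mk0 (σ 1 - σ 0) (sub_ne_zero.mpr (σ.injective.ne one_ne_zero)), σ 0, fun x => ?_⟩
    obtain ⟨g, ⟨a, b, hab⟩, hgt⟩ := hσ ![0, 1, x]
    have h0 : σ 0 = g 0 := hgt 0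
    have h1 : σ 1 = g 1 := hgt 1
    have h2 : σ x = g x := hgt 2
    rw [Units.val_mk0, h0, h1, h2, hab, hab, hab]; ring

end Cfsg.Agent.S3518
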