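import Cfsg.Statements.S3520
import Cfsg.Agent.PrimTypes.Dichotomy

set_option autoImplicit false
open Cfsg

namespace Cfsg.Agent.S3520

/-- Let a finite group G act faithfully and primitively on a finite set Ω with at least two points, suppose G is not almost simple (no non-abelian simple normal subgroup with trivial centralizer), and suppose the derangements of G form exactly two conjugacy classes. Then either Ω has 3 points and G has order 3; or G has a non-trivial abelian normal subgroup N acting regularly, every non-identity element of G fixes at most one point (so, when n > 3, G is a Frobenius group with kernel N), the number n of points is odd and a point stabilizer has order (n − 1)/2; or G is 2-transitive with a non-trivial abelian regular normal subgroup and some non-identity element fixes at least two points (a non-Frobenius 2-transitive affine group). -/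
theorem result {G : Type*} [Group G] [Finite G] {Ω : Type*} [Fintype Ω] [MulAction G Ω] [FaithfulSMul G Ω] (hΩ : 2 ≤ Fintype.card Ω) (hprim : MulAction.IsPreprimitive G Ω) (hnas : ¬ ∃ T : Subgroup G, T.Normal ∧ IsSimpleGroup T ∧ ¬ IsMulCommutative T ∧ Subgroup.centralizer (T : Set G) = ⊥)
    (hκ : Nat.card {c : ConjClasses G // ∃ g : G, ConjClasses.mk g = c ∧ ∀ ω : Ω, g • ω ≠ ω} = 2) (α : Ω) :
    (Fintype.card Ω = 3 ∧ Nat.card G = 3) ∨
    ((∃ N : Subgroup G, N.Normal ∧ N ≠ ⊥ ∧ IsMulCommutative N ∧ ∀ ω : Ω, MulAction.stabilizer N ω = ⊥) ∧ (∀ g : G, g ≠ 1 → Nat.card (MulAction.fixedBy Ω g) ≤ 1) ∧ ¬ 2 ∣ Fintype.card Ω ∧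
        2 * Nat.card (MulAction.stabilizer G α) = Fintype.card Ω - 1) ∨
    ((∃ N : Subgroup G, N.Normal ∧ N ≠ ⊥ ∧ IsMulCommutative N ∧ ∀ ω : Ω, MulAction.stabilizer N ω = ⊥) ∧ MulAction.IsMultiplyPretransitive G Ω 2 ∧ ∃ g : G, g ≠ 1 ∧ 2 ≤ Nat.card (MulAction.fixedBy Ω g)) := by
  classical
  haveI := hprim
  haveI : Nontrivial Ω := Fintype.one_lt_card_iff_nontrivial.1 hΩ
  -- no three pairwise non-conjugate derangements
  have hthree : ∀ d₁ d₂ d₃ : G, (∀ ω : Ω, d₁ • ω ≠ ω) → (∀ ω : Ω, d₂ • ω ≠ ω) → (∀ ω : Ω, d₃ • ω ≠ ω) →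
      (IsConj d₁ d₂ → False) → (IsConj d₁ d₃ → False) → (IsConj d₂ d₃ → False) → False := by
    intro d₁ d₂ d₃ h₁ h₂ h₃ h12 h13 h23
    let f : Fin 3 → {c : ConjClasses G // ∃ g : G, ConjClasses.mk g = c ∧ ∀ ω : Ω, g • ω ≠ ω} :=
      ![⟨_, d₁, rfl, h₁⟩, ⟨_, d₂, rfl, h₂⟩, ⟨_, d₃, rfl, h₃⟩]
    have hinj : Function.Injective f := by
      intro i j e
      have e' := congrArg Subtype.val e
      fin_cases i <;> fin_cases j <;> first
        | rfl
        | exact (h12 (ConjClasses.mk_eq_mk_iff_isConj.1 e')).elim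
        | exact (h12 (ConjClasses.mk_eq_mk_iff_isConj.1 e'.symm)).elim
        | exact (h13 (ConjClasses.mk_eq_mk_iff_isConj.1 e')).elim
        | exact (h13 (ConjClasses.mk_eq_mk_iff_isConj.1 e'.symm)).elim
        | exact (h23 (ConjClasses.mk_eq_mk_iff_isConj.1 e')).elim
        | exact (h23 (ConjClasses.mk_eq_mk_iff_isConj.1 e'.symm)).elim
    have := Nat.card_le_card_of_injective f hinj
    rw [hκ, Nat.card_eq_fintype_card, Fintype.card_fin] at this
    omega
  have hG : (⊤ : Subgroup G) ≠ ⊥ := fun h => by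
    obtain ⟨x, y, hxy⟩ := exists_pair_ne Ω
    obtain ⟨g, hg⟩ := MulAction.exists_smul_eq G x y
    have : g = 1 := by simpa [h] using Subgroup.mem_top g
    exact hxy (by rw [← hg, this, one_smul])
  obtain ⟨N, hmN⟩ := (Set.toFinite {K : Subgroup G | K.Normal ∧ K ≠ ⊥}).exists_minimal ⟨⊤, inferInstance, hG⟩
  obtain ⟨hN, hne⟩ := hmN.prop
  haveI := hN
  have hmin : ∀ K : Subgroup G, K.Normal → K ≤ N → K = ⊥ ∨ K = N := fun K hK hle =>
    or_iff_not_imp_left.2 fun h0 => le_antisymm hle (hmN.le_of_le ⟨hK, h0⟩ hle)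
  by_cases hab : IsMulCommutative N
  swap
  · exfalso
    obtain ⟨S, hSN, hS, hnaS, hZ, hconj, hder⟩ :=
      Cfsg.Lib.PrimTypes.exists_derangement_factor hprim hnas hN hne hmin hab
    have h3 := Cfsg.Lib.PrimTypes.exists_three_primes hS hnaS
    obtain ⟨p₁, p₂, p₃, hp₁, hp₂, hp₃, h12, h13, h23⟩ := Finset.two_lt_card_iff.1 h3
    have hel : ∀ p ∈ (Nat.card S).primeFactors, ∃ s ∈ S, orderOf s = p ∧ s ≠ 1 := fun p hp => by
      obtain ⟨hpp, hd, -⟩ := Nat.mem_primeFactors.1 hp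
      haveI := Fact.mk hpp
      obtain ⟨s, hs⟩ := exists_prime_orderOf_dvd_card' p hd
      rw [← Subgroup.orderOf_coe] at hs
      exact ⟨s, s.2, hs, fun h => hpp.ne_one (by rw [← hs, h, orderOf_one])⟩
    obtain ⟨s₁, hs₁, ho₁, hn₁⟩ := hel p₁ hp₁
    obtain ⟨s₂, hs₂, ho₂, hn₂⟩ := hel p₂ hp₂
    obtain ⟨s₃, hs₃, ho₃, hn₃⟩ := hel p₃ hp₃
    have hord : ∀ {u v : G}, IsConj u v → orderOf u = orderOf v := fun {u v} h => by
      obtain ⟨c, rfl⟩ := isConj_iff.1 h
      exact ((MulAut.conj c).orderOf_eq u).symm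
    rcases hder with hall | ⟨⟨x, hx, hx1, hxy⟩, g, hg⟩
    · exact hthree s₁ s₂ s₃ (hall s₁ hs₁ hn₁) (hall s₂ hs₂ hn₂) (hall s₃ hs₃ hn₃)
        (fun h => h12 (ho₁ ▸ ho₂ ▸ hord h)) (fun h => h13 (ho₁ ▸ ho₃ ▸ hord h))
        (fun h => h23 (ho₂ ▸ ho₃ ▸ hord h))
    set M := N ⊓ Subgroup.centralizer (S : Set G) with hM
    have hy : ∀ s ∈ S, g * s * g⁻¹ ∈ M := fun s hs => hg ⟨s, hs, by simp⟩
    have hyo : ∀ s : G, orderOf (g * s * g⁻¹) = orderOf s := fun s => (MulAut.conj g).orderOf_eq s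
    have hy1 : ∀ s : G, s ≠ 1 → g * s * g⁻¹ ≠ 1 := fun s hs h => hs (conj_eq_one_iff.1 h)
    have hSM : ∀ u ∈ S, u ∈ M → u = 1 := fun u hu hu' => Subgroup.mem_bot.1 (hZ ▸ Subgroup.mem_inf.2 ⟨hu, hu'.2⟩)
    have hsplit : ∀ u u' v v', u ∈ S → u' ∈ S → v ∈ M → v' ∈ M → u * v = u' * v' → u = u' ∧ v = v' := by
      intro u u' v v' hu hu' hv hv' e
      have e' : u'⁻¹ * u = v' * v⁻¹ := by
        rw [inv_mul_eq_iff_eq_mul, ← mul_assoc, ← e, mul_inv_cancel_right]
      have h1 := hSM _ (mul_mem (inv_mem hu') hu) (e' ▸ mul_mem hv' (inv_mem hv))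
      rw [inv_mul_eq_one] at h1
      subst h1
      exact ⟨rfl, mul_left_cancel e⟩
    have hx1y : ∀ s ∈ S, s ≠ 1 → ¬ IsConj x (x * (g * s * g⁻¹)) := by
      intro s hs hs1 hc
      obtain ⟨c, hc⟩ := isConj_iff.1 hc
      have hm : c * x * c⁻¹ ∈ S.map (MulAut.conj c).toMonoidHom := ⟨x, hx, by simp⟩
      rcases hconj c with e | e
      · rw [e] at hm
        exact hy1 s hs1 (hsplit _ _ _ _ hm hx (one_mem M) (hy s hs) (by rw [mul_one]; exact hc)).2.symm
      · exact hx1 (hsplit _ _ _ _ (one_mem S) hx (e hm) (hy s hs) (by rw [one_mul]; exact hc)).1.symm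
    have hxyy : ∀ s ∈ S, ∀ s' ∈ S, s ≠ 1 → s' ≠ 1 → IsConj (x * (g * s * g⁻¹)) (x * (g * s' * g⁻¹)) →
        orderOf s = orderOf s' := by
      intro s hs s' hs' hs1 hs1' hc
      obtain ⟨c, hc⟩ := isConj_iff.1 hc
      have hm₁ : c * x * c⁻¹ ∈ S.map (MulAut.conj c).toMonoidHom := ⟨x, hx, by simp⟩
      have hm₂ : c * (g * s * g⁻¹) * c⁻¹ ∈ S.map (MulAut.conj (c * g)).toMonoidHom := ⟨s, hs, by simp [mul_assoc]⟩
      have hprod : (c * x * c⁻¹) * (c * (g * s * g⁻¹) * c⁻¹) = x * (g * s' * g⁻¹) := by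
        rw [← hc]; group
      rcases hconj (c * g) with e' | e' <;> rcases hconj c with e | e
      · exfalso
        rw [e] at hm₁; rw [e'] at hm₂
        exact hy1 s' hs1' (hsplit _ _ _ _ (mul_mem hm₁ hm₂) hx (one_mem M) (hy s' hs') (by rw [mul_one]; exact hprod)).2.symm
      · rw [e'] at hm₂
        have hcomm : (c * x * c⁻¹) * (c * (g * s * g⁻¹) * c⁻¹) = (c * (g * s * g⁻¹) * c⁻¹) * (c * x * c⁻¹) :=
          (Subgroup.mem_centralizer_iff.1 (e hm₁).2 _ hm₂).symm
        obtain ⟨h1, h2⟩ := hsplit _ _ _ _ hm₂ hx (e hm₁) (hy s' hs') (hcomm.symm.trans hprod)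
        have o1 := congrArg orderOf h1
        have o2 := congrArg orderOf h2
        rw [← MulAut.conj_apply, MulEquiv.orderOf_eq, hyo] at o1
        rw [← MulAut.conj_apply, MulEquiv.orderOf_eq, hyo] at o2
        exact o1.trans o2
      · rw [e] at hm₁
        obtain ⟨h1, h2⟩ := hsplit _ _ _ _ hm₁ hx (e' hm₂) (hy s' hs') hprod
        have o2 := congrArg orderOf h2
        rwa [← MulAut.conj_apply, MulEquiv.orderOf_eq, hyo, hyo] at o2
      · exfalso
        exact hx1 (hsplit _ _ _ _ (one_mem S) hx (mul_mem (e hm₁) (e' hm₂)) (hy s' hs') (by rw [one_mul]; exact hprod)).1.symm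
    exact hthree x (x * (g * s₁ * g⁻¹)) (x * (g * s₂ * g⁻¹))
      (fun ω => by simpa using hxy 1 (one_mem _) ω) (hxy _ (hy s₁ hs₁)) (hxy _ (hy s₂ hs₂))
      (hx1y s₁ hs₁ hn₁) (hx1y s₂ hs₂ hn₂)
      (fun h => h12 (ho₁ ▸ ho₂ ▸ hxyy s₁ hs₁ s₂ hs₂ hn₁ hn₂ h))
  -- the affine case
  obtain ⟨r, hr, hpow, htr, hreg⟩ := Cfsg.Lib.PrimTypes.abelian_regular hprim hN hne hmin hab
  haveI := htr
  have hNex : ∃ N : Subgroup G, N.Normal ∧ N ≠ ⊥ ∧ IsMulCommutative N ∧ ∀ ω : Ω, MulAction.stabilizer N ω = ⊥ :=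
    ⟨N, hN, hne, hab, hreg⟩
  refine Or.inr ?_
  have hfree : ∀ m ∈ N, ∀ ω : Ω, m • ω = ω → m = 1 := fun m hm ω h => by
    have : (⟨m, hm⟩ : N) ∈ MulAction.stabilizer N ω := h
    rw [hreg ω, Subgroup.mem_bot] at this
    exact congrArg Subtype.val this
  have hcomN : ∀ u ∈ N, ∀ v ∈ N, u * v = v * u := fun u hu v hv =>
    congrArg Subtype.val (hab.is_comm.comm (⟨u, hu⟩ : N) ⟨v, hv⟩)
  have hNinj : ∀ u ∈ N, ∀ v ∈ N, u • α = v • α → u = v := fun u hu v hv h => by
    have := hfree (v⁻¹ * u) (mul_mem (inv_mem hv) hu) α (by rw [mul_smul, h, inv_smul_smul])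
    exact (inv_mul_eq_one.1 this).symm
  have hdec : ∀ g : G, ∃ m ∈ N, ∃ a ∈ MulAction.stabilizer G α, g = m * a := fun g => by
    obtain ⟨⟨m, hm⟩, hma⟩ := MulAction.exists_smul_eq N α (g • α)
    have hma' : m • α = g • α := hma
    exact ⟨m, hm, m⁻¹ * g, MulAction.mem_stabilizer_iff.2 (by rw [mul_smul, ← hma', inv_smul_smul]),
      (mul_inv_cancel_left m g).symm⟩
  have hAN : ∀ a ∈ MulAction.stabilizer G α, ∀ m ∈ N, a • m • α = (a * m * a⁻¹) • α := fun a ha m _ => by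
    rw [mul_smul, mul_smul, show a⁻¹ • α = α from MulAction.mem_stabilizer_iff.1 (inv_mem ha)]
  -- the coset of a stabiliser element
  have hcoset : ∀ a ∈ MulAction.stabilizer G α, ∀ m ∈ N, (∃ ω : Ω, (m * a) • ω = ω) ↔
      ∃ k ∈ N, m * a = k * a * k⁻¹ := by
    intro a ha m hm
    constructor
    · rintro ⟨ω, hω⟩
      obtain ⟨⟨k, hk⟩, rfl⟩ := MulAction.exists_smul_eq N α ω
      have hω' : (m * a) • k • α = k • α := hω
      refine ⟨k, hk, ?_⟩
      have hk' : a * k * a⁻¹ ∈ N := hN.conj_mem k hk a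
      have h1 : m * (a * k * a⁻¹) = k := by
        refine hNinj _ (mul_mem hm hk') _ hk ?_
        rw [mul_smul, ← hAN a ha k hk, ← mul_smul, hω']
      calc m * a = (m * (a * k * a⁻¹)) * a * k⁻¹ := by group
        _ = k * a * k⁻¹ := by rw [h1]
    · rintro ⟨k, hk, e⟩
      exact ⟨k • α, by rw [e, mul_smul, mul_smul, inv_smul_smul, MulAction.mem_stabilizer_iff.1 ha]⟩
  have hcardN : Nat.card N = Fintype.card Ω := by
    rw [← Nat.card_eq_fintype_card]
    refine Nat.card_eq_of_bijective (fun m : N => (m : G) • α) ⟨fun u v h => Subtype.ext (hNinj _ u.2 _ v.2 h), ?_⟩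
    intro ω
    obtain ⟨m, hm⟩ := MulAction.exists_smul_eq N α ω
    exact ⟨m, hm⟩
  haveI : Fintype N := Fintype.ofFinite N
  have hφ : ∀ a : G, ∀ k, k ∈ N → k * a * k⁻¹ * a⁻¹ ∈ N := fun a k hk => by
    rw [mul_assoc k a, mul_assoc k]
    exact mul_mem hk (hN.conj_mem _ (inv_mem hk) a)
  by_cases hout : ∃ g : G, g ∉ N ∧ ∀ ω : Ω, g • ω ≠ ω
  · obtain ⟨g, hgN, hg⟩ := hout
    refine Or.inr ⟨hNex, ?_, ?_⟩
    · -- transitivity on pairs
      have hconjN : ∀ u ∈ N, ∀ v ∈ N, u ≠ 1 → v ≠ 1 → ∃ a ∈ MulAction.stabilizer G α, a * u * a⁻¹ = v := by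
        intro u hu v hv hu1 hv1
        have hc : IsConj u v := by
          by_contra h
          have hnotN : ∀ w ∈ N, ¬ IsConj w g := fun w hw h => by
            obtain ⟨c, hc⟩ := isConj_iff.1 h
            exact hgN (hc ▸ hN.conj_mem w hw c)
          exact hthree u v g (fun ω e => hu1 (hfree u hu ω e)) (fun ω e => hv1 (hfree v hv ω e)) hg h
            (hnotN u hu) (hnotN v hv)
        obtain ⟨c, hc⟩ := isConj_iff.1 hc
        obtain ⟨m, hm, a, ha, rfl⟩ := hdec c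
        refine ⟨a, ha, ?_⟩
        have h1 : a * u * a⁻¹ ∈ N := hN.conj_mem u hu a
        calc a * u * a⁻¹ = m⁻¹ * (m * a * u * (m * a)⁻¹) * m := by group
          _ = m⁻¹ * v * m := by rw [hc]
          _ = v := by rw [hcomN _ (inv_mem hm) v hv, inv_mul_cancel_right]
      rw [MulAction.is_two_pretransitive_iff]
      intro p q p' q' hpq hpq'
      obtain ⟨⟨m, hm⟩, rfl⟩ := MulAction.exists_smul_eq N α p
      obtain ⟨⟨m', hm'⟩, rfl⟩ := MulAction.exists_smul_eq N α p'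
      change m • α ≠ q at hpq
      change m' • α ≠ q' at hpq'
      obtain ⟨⟨u, hu⟩, hu'⟩ := MulAction.exists_smul_eq N α (m⁻¹ • q)
      obtain ⟨⟨v, hv⟩, hv'⟩ := MulAction.exists_smul_eq N α (m'⁻¹ • q')
      change u • α = m⁻¹ • q at hu'
      change v • α = m'⁻¹ • q' at hv'
      obtain ⟨a, ha, hauv⟩ := hconjN u hu v hv
        (fun h => hpq (by rw [h, one_smul] at hu'; conv_lhs => rw [hu', smul_inv_smul]))
        (fun h => hpq' (by rw [h, one_smul] at hv'; conv_lhs => rw [hv', smul_inv_smul]))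
      refine ⟨m' * a * m⁻¹, ?_, ?_⟩
      · show (m' * a * m⁻¹) • m • α = m' • α
        rw [mul_smul, mul_smul, inv_smul_smul, MulAction.mem_stabilizer_iff.1 ha]
      · show (m' * a * m⁻¹) • q = q'
        rw [mul_smul, mul_smul, ← hu', hAN a ha u hu, hauv, hv', smul_inv_smul]
    · by_contra hno
      push Not at hno
      obtain ⟨m, hm, a, ha, rfl⟩ := hdec g
      have ha1 : a ≠ 1 := fun h => hgN (by rw [h, mul_one]; exact hm)
      have hinj : Function.Injective (fun k : N => (⟨(k : G) * a * (k : G)⁻¹ * a⁻¹, hφ a k k.2⟩ : N)) := by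
        intro k l e
        have e' : (k : G) * a * (k : G)⁻¹ * a⁻¹ = (l : G) * a * (l : G)⁻¹ * a⁻¹ := congrArg Subtype.val e
        rw [mul_left_inj] at e'
        by_contra hkl
        have hfixk : ((l : G)⁻¹ * (k : G)) • α = α := by
          by_contra hmv
          have h2 : 2 ≤ Nat.card (MulAction.fixedBy Ω a) := by
            rw [Nat.card_eq_fintype_card]
            refine Fintype.one_lt_card_iff.2 ⟨⟨α, MulAction.mem_stabilizer_iff.1 ha⟩,
              ⟨((l : G)⁻¹ * (k : G)) • α, ?_⟩, fun h => hmv (congrArg Subtype.val h).symm⟩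
            have hc : a * ((l : G)⁻¹ * (k : G)) = ((l : G)⁻¹ * (k : G)) * a := by
              calc a * ((l : G)⁻¹ * (k : G)) = (l : G)⁻¹ * ((l : G) * a * (l : G)⁻¹) * (k : G) := by group
                _ = (l : G)⁻¹ * ((k : G) * a * (k : G)⁻¹) * (k : G) := by rw [e']
                _ = ((l : G)⁻¹ * (k : G)) * a := by group
            show a • _ = _
            rw [← mul_smul, hc, mul_smul, MulAction.mem_stabilizer_iff.1 ha]
          exact absurd h2 (not_le.2 (hno a ha1))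
        exact hkl (Subtype.ext (inv_mul_eq_one.1 (hfree _ (mul_mem (inv_mem l.2) k.2) α hfixk)).symm)
      obtain ⟨k, hk⟩ := (Finite.injective_iff_surjective.1 hinj) ⟨m, hm⟩
      have hk' : (k : G) * a * (k : G)⁻¹ * a⁻¹ = m := congrArg Subtype.val hk
      obtain ⟨ω, hω⟩ := (hcoset a ha m hm).2 ⟨k, k.2, by rw [← hk', inv_mul_cancel_right]⟩
      exact hg ω hω
  · push Not at hout
    -- Frobenius
    have hfrob : ∀ a ∈ MulAction.stabilizer G α, a ≠ 1 → ∀ k ∈ N, a * k = k * a → k = 1 := by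
      intro a ha ha1 k hk hc
      by_contra hk1
      have haN : a ∉ N := fun h => ha1 (hfree a h α (MulAction.mem_stabilizer_iff.1 ha))
      have hsurj : Function.Surjective (fun l : N => (⟨(l : G) * a * (l : G)⁻¹ * a⁻¹, hφ a l l.2⟩ : N)) := by
        intro m
        obtain ⟨l, hl, e⟩ := (hcoset a ha m m.2).1 (hout ((m : G) * a) fun h => haN (by
          simpa using mul_mem (inv_mem m.2) h))
        exact ⟨⟨l, hl⟩, Subtype.ext (by show l * a * l⁻¹ * a⁻¹ = m; rw [← e, mul_inv_cancel_right])⟩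
      have := (Finite.injective_iff_surjective.2 hsurj) (a₁ := ⟨k, hk⟩) (a₂ := 1) (Subtype.ext (by
        show k * a * k⁻¹ * a⁻¹ = (1 : G) * a * (1 : G)⁻¹ * a⁻¹
        rw [← hc]; group))
      exact hk1 (congrArg Subtype.val this)
    set A := MulAction.stabilizer G α with hA
    let C := {c : ConjClasses G // ∃ g : G, ConjClasses.mk g = c ∧ ∀ ω : Ω, g • ω ≠ ω}
    have hrep : ∀ c : C, c.2.choose ∈ N ∧ c.2.choose ≠ 1 := fun c => by
      have h := c.2.choose_spec.2
      refine ⟨?_, fun e => ?_⟩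
      · by_contra hn
        obtain ⟨ω, hω⟩ := hout _ hn
        exact h ω hω
      · exact h α (by rw [e, one_smul])
    let f : C × A → {m : N // m ≠ 1} := fun z =>
      ⟨⟨(z.2 : G) * z.1.2.choose * (z.2 : G)⁻¹, hN.conj_mem _ (hrep z.1).1 _⟩, fun e =>
        (hrep z.1).2 (conj_eq_one_iff.1 (congrArg Subtype.val e))⟩
    have hf : Function.Bijective f := by
      refine ⟨fun ⟨c, a⟩ ⟨c', a'⟩ e => ?_, fun ⟨⟨m, hm⟩, hm1⟩ => ?_⟩
      · have e' : (a : G) * c.2.choose * (a : G)⁻¹ = (a' : G) * c'.2.choose * (a' : G)⁻¹ :=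
          congrArg (fun z : {m : N // m ≠ 1} => ((z : N) : G)) e
        have hcc : c = c' := Subtype.ext (by
          rw [← c.2.choose_spec.1, ← c'.2.choose_spec.1, ConjClasses.mk_eq_mk_iff_isConj, isConj_iff]
          refine ⟨(a' : G)⁻¹ * a, ?_⟩
          calc ((a' : G)⁻¹ * a) * c.2.choose * ((a' : G)⁻¹ * a)⁻¹
              = (a' : G)⁻¹ * ((a : G) * c.2.choose * (a : G)⁻¹) * a' := by group
            _ = c'.2.choose := by rw [e']; group)
        subst hcc
        refine Prod.ext rfl (Subtype.ext ?_)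
        by_contra hne'
        refine (hrep c).2 (hfrob ((a' : G)⁻¹ * a) (mul_mem (inv_mem a'.2) a.2)
          (fun h => hne' (inv_mul_eq_one.1 h).symm) _ (hrep c).1 ?_)
        calc ((a' : G)⁻¹ * a) * c.2.choose = (a' : G)⁻¹ * ((a : G) * c.2.choose * (a : G)⁻¹) * a := by group
          _ = (a' : G)⁻¹ * ((a' : G) * c.2.choose * (a' : G)⁻¹) * a := by rw [e']
          _ = c.2.choose * ((a' : G)⁻¹ * a) := by group
      · have hm1' : m ≠ 1 := fun e => hm1 (Subtype.ext e)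
        let c : C := ⟨ConjClasses.mk m, m, rfl, fun ω h => hm1' (hfree m hm ω h)⟩
        obtain ⟨d, hd⟩ := isConj_iff.1 (ConjClasses.mk_eq_mk_iff_isConj.1 c.2.choose_spec.1)
        obtain ⟨l, hl, a, ha, rfl⟩ := hdec d
        refine ⟨(c, ⟨a, ha⟩), Subtype.ext (Subtype.ext ?_)⟩
        show a * c.2.choose * a⁻¹ = m
        calc a * c.2.choose * a⁻¹ = l⁻¹ * (l * a * c.2.choose * (l * a)⁻¹) * l := by group
          _ = l⁻¹ * m * l := by rw [hd]
          _ = m := by rw [hcomN _ (inv_mem hl) m hm, inv_mul_cancel_right]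
    have hcount : 2 * Nat.card A = Fintype.card Ω - 1 := by
      rw [← hcardN, ← hκ, ← Nat.card_prod, Nat.card_congr (Equiv.ofBijective f hf), Nat.card_eq_fintype_card,
        Nat.card_eq_fintype_card, Fintype.card_subtype_compl, Fintype.card_subtype_eq]
    refine Or.inl ⟨hNex, fun g hg => ?_, fun h2 => ?_, hcount⟩
    · rw [Nat.card_eq_fintype_card, Fintype.card_le_one_iff]
      rintro ⟨ω, hω⟩ ⟨ω', hω'⟩
      by_contra hne'
      obtain ⟨⟨k, hk⟩, rfl⟩ := MulAction.exists_smul_eq N α ω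
      obtain ⟨⟨l, hl⟩, rfl⟩ := MulAction.exists_smul_eq N α ω'
      have hω1 : g • k • α = k • α := hω
      have hω1' : g • l • α = l • α := hω'
      set a := k⁻¹ * g * k with ha
      have haA : a ∈ A := MulAction.mem_stabilizer_iff.2 (by rw [ha, mul_smul, mul_smul, hω1, inv_smul_smul])
      have ha1 : a ≠ 1 := fun h => hg (by rw [show g = k * a * k⁻¹ by rw [ha]; group, h]; group)
      have hkl : k⁻¹ * l ∈ N := mul_mem (inv_mem hk) hl
      have hfixl : a • (k⁻¹ * l) • α = (k⁻¹ * l) • α := by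
        rw [ha, ← mul_smul, show k⁻¹ * g * k * (k⁻¹ * l) = k⁻¹ * (g * l) by group, mul_smul, mul_smul, hω1',
          ← mul_smul]
      rw [hAN a haA _ hkl] at hfixl
      have h1 := hNinj _ (hN.conj_mem _ hkl a) _ hkl hfixl
      have := hfrob a haA ha1 _ hkl (mul_inv_eq_iff_eq_mul.1 h1)
      exact hne' (Subtype.ext (by
        show k • α = l • α
        rw [inv_mul_eq_one.1 this]))
    · have := Nat.card_pos (α := A)
      omega

end Cfsg.Agent.S3520
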