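import Cfsg.Statements.S3521
import Cfsg.Agent.ExtremeAffine.Linear
import Cfsg.Agent.Elementary.ExtremelyPrimitive
import Cfsg.Agent.S3493

set_option autoImplicit false
open Cfsg

namespace Cfsg.Agent.S3521

/-- Let a finite group G that is not solvable act faithfully and primitively on a finite set with p ^ d points (p prime), with a non-trivial abelian normal subgroup acting regularly (affine type) and with non-trivial point stabilizers each acting primitively on every one of its orbits (an insoluble extremely primitive group of affine type). Then p = 2; and if moreover G is not 2-transitive, then a point stabilizer is almost simple (it has a non-abelian simple normal subgroup with trivial centralizer). -/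
theorem result {G : Type*} [Group G] [Finite G] {Ω : Type*} [Fintype Ω] [MulAction G Ω] [FaithfulSMul G Ω] (p d : ℕ) (hp : p.Prime) (hcard : Fintype.card Ω = p ^ d) (hsol : ¬ Group.IsSolvable G)
    (N : Subgroup G) [N.Normal] (hN : N ≠ ⊥) (hNc : IsMulCommutative N) (hNreg : ∀ ω : Ω, MulAction.stabilizer N ω = ⊥)
    (hprim : MulAction.IsPreprimitive G Ω) (hH : ∀ α : Ω, MulAction.stabilizer G α ≠ ⊥) (hep : ∀ (α : Ω) (ω : Ω), MulAction.IsPreprimitive (MulAction.stabilizer G α) (MulAction.orbit (MulAction.stabilizer G α) ω)) (α : Ω) :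
    p = 2 ∧ (¬ MulAction.IsMultiplyPretransitive G Ω 2 → ∃ T : Subgroup (MulAction.stabilizer G α), T.Normal ∧ IsSimpleGroup T ∧ ¬ IsMulCommutative T ∧ Subgroup.centralizer (T : Set (MulAction.stabilizer G α)) = ⊥) := by
  classical
  haveI := hprim.toIsPretransitive
  obtain ⟨M, hMmin⟩ := (Set.toFinite {K : Subgroup G | K.Normal ∧ K ≠ ⊥ ∧ K ≤ N}).exists_minimal
    ⟨N, inferInstance, hN, le_rfl⟩
  obtain ⟨hM, hM0, hMN⟩ := hMmin.prop
  haveI := hM
  have hmin : ∀ K : Subgroup G, K.Normal → K ≤ M → K = ⊥ ∨ K = M := fun K hK hle =>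
    or_iff_not_imp_left.2 fun h0 => le_antisymm hle (hMmin.le_of_le ⟨hK, h0, hle.trans hMN⟩ hle)
  have hMc : ∀ a b : M, a * b = b * a := fun a b => Subtype.ext
    (congrArg (fun z : N => (z : G)) (hNc.is_comm.comm ⟨a, hMN a.2⟩ ⟨b, hMN b.2⟩) :)
  obtain ⟨r, hr, hpow, htr, hreg⟩ :=
    Cfsg.Lib.PrimTypes.abelian_regular hprim hM hM0 hmin (isMulCommutative_iff.2 hMc)
  haveI := htr
  set H := MulAction.stabilizer G α with hHdef
  have hinj : Function.Injective fun m : M => (m : G) • α := by
    intro a b hab
    have h : b⁻¹ * a ∈ MulAction.stabilizer M α :=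
      MulAction.mem_stabilizer_iff.2 (show (b⁻¹ * a) • α = α by
        rw [mul_smul, inv_smul_eq_iff]; exact hab)
    rw [hreg α, Subgroup.mem_bot] at h
    exact (inv_mul_eq_one.1 h).symm
  have hsurj : ∀ ω : Ω, ∃ m : M, (m : G) • α = ω := fun ω => MulAction.exists_smul_eq M α ω
  -- the prime
  have hcardM : Nat.card M = p ^ d := by
    rw [← hcard, ← Nat.card_eq_fintype_card]
    exact Nat.card_congr (Equiv.ofBijective _ ⟨hinj, hsurj⟩)
  obtain ⟨m₁, hm₁, hm₁'⟩ := Subgroup.ne_bot_iff_exists_ne_one.1 hM0 |> fun ⟨m, hm⟩ =>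
    (⟨m, m.2, hm⟩ : ∃ m : M, (m : G) ∈ M ∧ m ≠ 1)
  have hrp : r = p := by
    haveI := Fact.mk hr
    have ho : orderOf m₁ = r := orderOf_eq_prime (Subtype.ext (by simpa using hpow m₁ hm₁)) hm₁'
    have hdvd : r ∣ p ^ d := hcardM ▸ ho ▸ orderOf_dvd_natCard m₁
    exact (Nat.prime_dvd_prime_iff_eq hr hp).1 (hr.dvd_of_dvd_pow hdvd)
  subst hrp
  let φ : H →* MulAut M := (MulAut.conjNormal : G →* MulAut M).comp H.subtype
  have hφ : ∀ (h : H) (m : M), ((φ h m : M) : G) = (h : G) * m * (h : G)⁻¹ := fun h m =>
    MulAut.conjNormal_apply _ _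
  have hact : ∀ (h : H) (m : M), (h : G) • (m : G) • α = ((φ h m : M) : G) • α := fun h m => by
    rw [hφ, mul_smul, mul_smul, MulAction.mem_stabilizer_iff.1 (inv_mem h.2)]
  have hfix : ∀ (h : H) (m : M), (h : G) • (m : G) • α = (m : G) • α ↔ φ h m = m := fun h m => by
    rw [hact]
    exact ⟨fun e => hinj e, fun e => by rw [e]⟩
  have hfaith : ∀ h : H, (∀ m : M, φ h m = m) → h = 1 := fun h hh => Subtype.ext (eq_of_smul_eq_smul fun ω => by
    obtain ⟨m, rfl⟩ := hsurj ω
    rw [(hfix h m).2 (hh m), OneMemClass.coe_one, one_smul])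
  have hHns : ¬ Group.IsSolvable H := by
    intro hs
    haveI := hs
    haveI : Group.IsSolvable M := Group.isSolvable_of_comm hMc
    have hsur : Function.Surjective ((QuotientGroup.mk' M).comp H.subtype) := by
      intro q
      obtain ⟨g, rfl⟩ := QuotientGroup.mk'_surjective M q
      obtain ⟨m, hm⟩ := hsurj (g • α)
      refine ⟨⟨(m : G)⁻¹ * g, MulAction.mem_stabilizer_iff.2 (by rw [mul_smul, ← hm, inv_smul_smul])⟩, ?_⟩
      have h1 : QuotientGroup.mk' M ((m : G)⁻¹) = 1 := (QuotientGroup.eq_one_iff _).2 (inv_mem m.2)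
      show QuotientGroup.mk' M ((m : G)⁻¹ * g) = _
      rw [map_mul, h1, one_mul]
    haveI := Group.isSolvable_of_surjective hsur
    exact hsol ((Group.isSolvable_iff_subgroup_quotient M).2 ⟨inferInstance, inferInstance⟩)
  -- the characteristic is two
  have hr2 : r = 2 := by
    by_contra hne
    refine hHns ?_
    rcases Nat.even_or_odd (Nat.card H) with heven | hodd
    · obtain ⟨t, ht⟩ := exists_prime_orderOf_dvd_card' (G := H) 2 heven.two_dvd
      obtain ⟨w, hw⟩ : ∃ w : M, φ t w ≠ w := by
        by_contra hall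
        push Not at hall
        rw [hfaith t hall, orderOf_one] at ht
        norm_num at ht
      have htt : ∀ u : M, φ t (φ t u) = u := fun u => by
        rw [← MulAut.mul_apply, ← map_mul, ← pow_two, ← ht, pow_orderOf_eq_one, map_one, MulAut.one_apply]
      set v : M := w⁻¹ * φ t w with hv
      have hv1 : v ≠ 1 := fun h => hw (inv_mul_eq_one.1 h).symm
      have htv : φ t v = v⁻¹ := by
        rw [hv, map_mul, map_inv, htt, mul_inv_rev, inv_inv]
      clear_value v
      clear hv
      have hvv : v⁻¹ ≠ v := by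
        intro h
        have h2 : v ^ 2 = 1 := by rw [pow_two]; nth_rewrite 1 [← h]; exact inv_mul_cancel v
        have h3 : v ^ r = 1 := Subtype.ext (by simpa using hpow v v.2)
        obtain ⟨k, hk⟩ := hr.odd_of_ne_two hne
        exact hv1 (by rwa [hk, pow_succ, pow_mul, h2, one_pow, one_mul] at h3)
      let X : Subgroup H :=
        { carrier := {h | φ h v = v ∨ φ h v = v⁻¹}
          one_mem' := Or.inl (by rw [map_one, MulAut.one_apply])
          mul_mem' := fun {a b} ha hb => by
            show φ (a * b) v = v ∨ φ (a * b) v = v⁻¹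
            rw [map_mul φ, MulAut.mul_apply]
            rcases hb with hb | hb <;> rw [hb] <;> rcases ha with ha | ha <;> simp [ha, map_inv]
          inv_mem' := fun {a} ha => by
            show φ a⁻¹ v = v ∨ φ a⁻¹ v = v⁻¹
            rw [map_inv]
            rcases ha with ha | ha
            · left; exact (φ a).symm_apply_eq.2 ha.symm
            · right
              refine (φ a).symm_apply_eq.2 ?_
              rw [map_inv, ha, inv_inv] }
      have hX : X = ⊤ := Cfsg.Agent.S3493.eq_top_of_moves (hep α ((v : G) • α)) X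
        (fun h hh => Or.inl ((hfix h v).1 hh)) t (Or.inr htv) (fun h => hvv (htv.symm.trans ((hfix t v).1 h)))
      have hmem : ∀ h : H, φ h v = v ∨ φ h v = v⁻¹ := fun h => (hX ▸ Subgroup.mem_top h : h ∈ X)
      have hvα : (v : G) • α ≠ α := fun h => hv1 (hinj (show (v : G) • α = ((1 : M) : G) • α by
        rw [h, OneMemClass.coe_one, one_smul]))
      have hsq : ∀ h : H, h * h = 1 := by
        intro h
        refine Subtype.ext (Cfsg.Lib.ExtremelyPrimitive.faithful_suborbit hprim hep hvα (h * h).2 ?_)
        rintro _ ⟨k, rfl⟩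
        show ((h * h : H) : G) • (k : G) • (v : G) • α = (k : G) • (v : G) • α
        have hhv : φ (h * h) v = v := by
          rw [map_mul φ, MulAut.mul_apply]
          rcases hmem h with e | e <;> rw [e]
          · exact e
          · rw [map_inv, e, inv_inv]
        rw [hact k v, hfix]
        rcases hmem k with e | e <;> rw [e]
        · exact hhv
        · rw [map_inv, hhv]
      refine Group.isSolvable_of_comm fun a b => ?_
      have hi : ∀ c : H, c⁻¹ = c := fun c => inv_eq_of_mul_eq_one_right (hsq c)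
      calc a * b = (a * b)⁻¹ := (hi _).symm
        _ = b * a := by rw [mul_inv_rev, hi, hi]
    · exact Cfsg.Agent.S0205.result hodd
  subst hr2
  refine ⟨rfl, fun _ => ?_⟩
  letI : CommGroup M := { (inferInstance : Group M) with mul_comm := hMc }
  letI : DistribMulAction H (Additive M) :=
    { smul := fun h x => Additive.ofMul (φ h x.toMul)
      one_smul := fun x => by show Additive.ofMul (φ 1 x.toMul) = x; rw [map_one]; rfl
      mul_smul := fun a b x => by
        show Additive.ofMul (φ (a * b) x.toMul) = _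
        rw [map_mul]; rfl
      smul_zero := fun a => by show Additive.ofMul (φ a 1) = _; rw [map_one]; rfl
      smul_add := fun a x y => by
        show Additive.ofMul (φ a (x.toMul * y.toMul)) = _
        rw [map_mul]; rfl }
  haveI : Finite (Additive M) := inferInstanceAs (Finite M)
  have hsm : ∀ (h : H) (x : Additive M), h • x = x ↔ φ h x.toMul = x.toMul := fun h x =>
    ⟨fun e => congrArg Additive.toMul e, fun e => congrArg Additive.ofMul e⟩
  refine Cfsg.Lib.ExtremeAffine.almost_simple (V := Additive M) (fun h hh => hfaith h fun m =>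
    (hsm h (Additive.ofMul m)).1 (hh _)) (fun x => ?_) (fun X hX => ?_) (fun x hx X hle a ha hax => ?_) hHns
  · show Additive.ofMul (x.toMul * x.toMul) = 0
    have h3 : x.toMul ^ 2 = (1 : M) := Subtype.ext (by simpa using hpow x.toMul x.toMul.2)
    rw [← pow_two, h3]
    rfl
  · let K : Subgroup G := (AddSubgroup.toSubgroup' X).map M.subtype
    have hKM : K ≤ M := Subgroup.map_subtype_le _
    have hK : K.Normal := ⟨by
      rintro _ ⟨m, hm, rfl⟩ g
      obtain ⟨m', hm'⟩ := hsurj (g • α)
      let h : H := ⟨(m' : G)⁻¹ * g, MulAction.mem_stabilizer_iff.2 (by rw [mul_smul, ← hm', inv_smul_smul])⟩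
      refine ⟨φ h m, hX h (Additive.ofMul m) hm, ?_⟩
      show ((φ h m : M) : G) = g * m * g⁻¹
      have hc : (m' : G) * ((φ h m : M) : G) * (m' : G)⁻¹ = ((φ h m : M) : G) := by
        rw [mul_inv_eq_iff_eq_mul]
        exact congrArg Subtype.val (hMc m' (φ h m))
      rw [← hc, hφ]
      show (m' : G) * ((m' : G)⁻¹ * g * m * ((m' : G)⁻¹ * g)⁻¹) * (m' : G)⁻¹ = g * m * g⁻¹
      group⟩
    rcases hmin K hK hKM with e | e
    · left
      rw [eq_bot_iff]
      intro y hy
      have : (y.toMul : G) ∈ K := ⟨y.toMul, hy, rfl⟩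
      rw [e, Subgroup.mem_bot, OneMemClass.coe_eq_one] at this
      exact AddSubgroup.mem_bot.2 this
    · right
      rw [eq_top_iff]
      intro y _
      obtain ⟨z, hz, hzy⟩ := e.ge y.toMul.2
      rw [Subtype.ext hzy] at hz
      exact hz
  · refine Cfsg.Agent.S3493.eq_top_of_moves (hep α ((x.toMul : G) • α)) X (fun h hh => hle ?_) a ha
      (fun h => hax ((hsm a x).2 ((hfix a _).1 h)))
    exact MulAction.mem_stabilizer_iff.2 ((hsm h x).2 ((hfix h _).1 hh))

end Cfsg.Agent.S3521
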