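import Mathlib
import Cfsg.Statements.S3524
-- import your own Cfsg.Agent.* helpers here

set_option autoImplicit false
open Cfsg

namespace Cfsg.Agent.S3524

/-- A permutation group with a base is closed at one level above the base size. Let G be a group of permutations of a set Ω and suppose some k points α₁, …, α_k are fixed simultaneously only by the identity of G (a base of size k). Then G is (k+1)-closed: a permutation of Ω that agrees on every (k+1)-tuple of points with some element of G belongs to G. -/
theorem result {Ω : Type*} (G : Subgroup (Equiv.Perm Ω)) (k : ℕ) (α : Fin k → Ω)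
    (hbase : ∀ g ∈ G, (∀ i, g (α i) = α i) → g = 1) (σ : Equiv.Perm Ω)
    (hσ : ∀ t : Fin (k + 1) → Ω, ∃ g ∈ G, ∀ i, σ (t i) = g (t i)) : σ ∈ G := by
  classical
  rcases isEmpty_or_nonempty Ω with h | h
  · rw [Subsingleton.elim σ 1]; exact one_mem G
  obtain ⟨ω₀⟩ := h
  obtain ⟨g, hg, hge⟩ := hσ (Fin.snoc α ω₀)
  have hα : ∀ i, σ (α i) = g (α i) := fun i => by simpa using hge i.castSucc
  suffices σ = g by rw [this]; exact hg
  refine Equiv.ext fun ω => ?_
  obtain ⟨g', hg', hge'⟩ := hσ (Fin.snoc α ω)
  have : g⁻¹ * g' = 1 := hbase _ (mul_mem (inv_mem hg) hg') fun i => by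
    rw [Equiv.Perm.mul_apply, Equiv.Perm.inv_eq_iff_eq, ← hα i]
    simpa using (hge' i.castSucc).symm
  rw [inv_mul_eq_one] at this
  subst this
  simpa using hge' (Fin.last k)

end Cfsg.Agent.S3524
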