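import Cfsg.Statements.S3531
import Cfsg.Agent.JankoSquare.Main

set_option autoImplicit false
open Cfsg

namespace Cfsg.Agent.S3531

/-- Let J be the first Janko group. A finite group with the same set of element orders as J × J is isomorphic to J × J. -/
theorem result {G : Type*} [Group G] [Finite G]
    (h : Set.range (orderOf : G → ℕ) = Set.range (orderOf : ↥Cfsg.Spor.J1 × ↥Cfsg.Spor.J1 → ℕ)) :
    Nonempty (G ≃* ↥Cfsg.Spor.J1 × ↥Cfsg.Spor.J1) := by
  classical
  haveI := Cfsg.Lib.Janko.finite_J
  exact Cfsg.Lib.JankoSquare.iso_of_orders h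

end Cfsg.Agent.S3531
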