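import Cfsg.Statements.S3532
import Cfsg.Agent.Elementary.AffineField
import Cfsg.Agent.Known.SLTwo.Spectrum

set_option autoImplicit false
open Cfsg

namespace Cfsg.Agent.S3532

/-- Let q ≥ 4 be a prime power and L = PSL(2,q). There is a finite solvable group with the same set of element orders as L × L (so L × L is not determined by its spectrum). -/
theorem result {F : Type*} [Field F] [Fintype F] (hF : 4 ≤ Fintype.card F) :
    ∃ (H : Type) (_ : Group H) (_ : Finite H), Group.IsSolvable H ∧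
      Set.range (orderOf : H → ℕ) = Set.range (orderOf : Matrix.ProjectiveSpecialLinearGroup (Fin 2) F × Matrix.ProjectiveSpecialLinearGroup (Fin 2) F → ℕ) := by
  classical
  obtain ⟨p, hchar⟩ := CharP.exists F
  have hp : Fact p.Prime := ⟨CharP.char_is_prime F p⟩
  obtain ⟨k, -, hk⟩ := FiniteField.card F p
  set q := Fintype.card F with hq
  set d := Nat.gcd 2 (q - 1)
  have hd1 : d ∣ q - 1 := Nat.gcd_dvd_right _ _
  have hd2 : d ∣ q + 1 := by
    have := Nat.dvd_add hd1 (Nat.gcd_dvd_left 2 (q - 1))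
    rwa [show q - 1 + 2 = q + 1 by omega] at this
  set r := (q - 1) / d
  set s := (q + 1) / d
  let K₁ := GaloisField p k
  let K₂ := GaloisField p (2 * k)
  have : Fintype K₁ := Fintype.ofFinite _
  have : Fintype K₂ := Fintype.ofFinite _
  have h1 : Nat.card K₁ = q := by rw [GaloisField.card p k k.pos.ne', hk]
  have h2 : Nat.card K₂ = q ^ 2 := by
    rw [GaloisField.card p (2 * k) (by positivity), hk, ← pow_mul, mul_comm]
  obtain ⟨ζ₁, hζ₁⟩ := Cfsg.Lib.AffField.exists_unit_orderOf (K := K₁) (d := r)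
    (by rw [h1]; exact Nat.div_dvd_of_dvd hd1)
  obtain ⟨ζ₂, hζ₂⟩ := Cfsg.Lib.AffField.exists_unit_orderOf (K := K₂) (d := s)
    (by rw [h2]
        exact (Nat.div_dvd_of_dvd hd2).trans ⟨q - 1, by simpa using Nat.sq_sub_sq q 1⟩)
  let A := Cfsg.Lib.AffField.Aff K₁ (Subgroup.zpowers ζ₁)
  let B := Cfsg.Lib.AffField.Aff K₂ (Subgroup.zpowers ζ₂)
  have sA : Group.IsSolvable A := by
    refine solvable_of_ker_le_range (SemidirectProduct.inl (φ := (Cfsg.Lib.AffField.act K₁).comp (Subgroup.zpowers ζ₁).subtype))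
      SemidirectProduct.rightHom ?_
    rw [SemidirectProduct.range_inl_eq_ker_rightHom]
  have sB : Group.IsSolvable B := by
    refine solvable_of_ker_le_range (SemidirectProduct.inl (φ := (Cfsg.Lib.AffField.act K₂).comp (Subgroup.zpowers ζ₂).subtype))
      SemidirectProduct.rightHom ?_
    rw [SemidirectProduct.range_inl_eq_ker_rightHom]
  refine ⟨A × B, inferInstance, inferInstance, inferInstance, ?_⟩
  have hA : ∀ m, m ∈ Set.range (orderOf : A → ℕ) ↔ m ∣ p ∨ m ∣ r := fun m => by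
    rw [Cfsg.Lib.AffField.mem_spectrum_iff p ζ₁, hζ₁]
  have hB : ∀ m, m ∈ Set.range (orderOf : B → ℕ) ↔ m ∣ p ∨ m ∣ s := fun m => by
    rw [Cfsg.Lib.AffField.mem_spectrum_iff p ζ₂, hζ₂]
  have hP : ∀ m, m ∈ Set.range (orderOf : Matrix.ProjectiveSpecialLinearGroup (Fin 2) F → ℕ) ↔
      m ∣ p ∨ m ∣ r ∨ m ∣ s := Cfsg.Lib.GLTwo.psl_spectrum p
  have mkH : ∀ a b, (a ∣ p ∨ a ∣ r) → (b ∣ p ∨ b ∣ s) → Nat.lcm a b ∈ Set.range (orderOf : A × B → ℕ) := by
    intro a b ha hb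
    obtain ⟨x, rfl⟩ := (hA a).mpr ha
    obtain ⟨y, rfl⟩ := (hB b).mpr hb
    exact ⟨(x, y), Prod.orderOf (x, y)⟩
  ext m
  constructor
  · rintro ⟨⟨x, y⟩, rfl⟩
    obtain ⟨x', hx'⟩ := (hP (orderOf x)).mpr (((hA _).mp ⟨x, rfl⟩).imp_right Or.inl)
    obtain ⟨y', hy'⟩ := (hP (orderOf y)).mpr (((hB _).mp ⟨y, rfl⟩).imp_right Or.inr)
    exact ⟨(x', y'), by rw [Prod.orderOf, Prod.orderOf, hx', hy']⟩
  · rintro ⟨⟨x, y⟩, rfl⟩
    rw [Prod.orderOf]
    show Nat.lcm (orderOf x) (orderOf y) ∈ _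
    rcases (hP _).mp ⟨x, rfl⟩ with hx | hx | hx <;> rcases (hP _).mp ⟨y, rfl⟩ with hy | hy | hy
    · exact mkH _ _ (Or.inl hx) (Or.inl hy)
    · rw [Nat.lcm_comm]; exact mkH _ _ (Or.inr hy) (Or.inl hx)
    · exact mkH _ _ (Or.inl hx) (Or.inr hy)
    · exact mkH _ _ (Or.inr hx) (Or.inl hy)
    · rw [← Nat.lcm_one_right (Nat.lcm (orderOf x) (orderOf y))]
      exact mkH _ _ (Or.inr (Nat.lcm_dvd hx hy)) (Or.inl (one_dvd _))
    · exact mkH _ _ (Or.inr hx) (Or.inr hy)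
    · rw [Nat.lcm_comm]; exact mkH _ _ (Or.inl hy) (Or.inr hx)
    · rw [Nat.lcm_comm]; exact mkH _ _ (Or.inr hy) (Or.inr hx)
    · rw [← Nat.lcm_one_left (Nat.lcm (orderOf x) (orderOf y))]
      exact mkH _ _ (Or.inl (one_dvd _)) (Or.inr (Nat.lcm_dvd hx hy))

end Cfsg.Agent.S3532
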