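import Mathlib
import Cfsg.Statements.S3546
-- import your own Cfsg.Agent.* helpers here

set_option autoImplicit false
open Cfsg

namespace Cfsg.Agent.S3546

/-- Let G act faithfully and transitively on a finite set and let D be the subgroup of G generated by the derangements (the elements fixing no point). Then D is itself transitive, and D contains every element of G whose number of fixed points is different from 1. -/
theorem result {G Ω : Type*} [Group G] [Finite G] [MulAction G Ω] [FaithfulSMul G Ω] [Finite Ω]
    (htrans : MulAction.IsPretransitive G Ω) :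
    MulAction.IsPretransitive ↥(Subgroup.closure {g : G | ∀ ω : Ω, g • ω ≠ ω}) Ω ∧
    ∀ g : G, Nat.card (MulAction.fixedBy Ω g) ≠ 1 → g ∈ Subgroup.closure {g : G | ∀ ω : Ω, g • ω ≠ ω} := by
  classical
  haveI := Fintype.ofFinite G
  haveI := Fintype.ofFinite Ω
  set S := {g : G | ∀ ω : Ω, g • ω ≠ ω}
  set H := Subgroup.closure S with hH
  rcases isEmpty_or_nonempty Ω with hem | hne
  · exact ⟨⟨fun a => isEmptyElim a⟩, fun g _ => Subgroup.subset_closure fun ω => isEmptyElim ω⟩
  haveI := htrans
  have hG : (∑ g : G, Nat.card (MulAction.fixedBy Ω g)) = Nat.card G := by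
    have hB := MulAction.sum_card_fixedBy_eq_card_orbits_mul_card_group G Ω
    haveI : Subsingleton (MulAction.orbitRel.Quotient G Ω) :=
      (MulAction.pretransitive_iff_subsingleton_quotient G Ω).mp htrans
    haveI : Nonempty (MulAction.orbitRel.Quotient G Ω) := ⟨Quotient.mk'' (Classical.arbitrary Ω)⟩
    have h1 : Nat.card (MulAction.orbitRel.Quotient G Ω) = 1 := Nat.card_eq_one_iff_unique.mpr ⟨‹_›, ‹_›⟩
    simp only [Fintype.card_eq_nat_card] at hB
    rw [h1, one_mul] at hB
    exact hB
  set r := Nat.card (MulAction.orbitRel.Quotient H Ω) with hr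
  have hH' : (∑ g ∈ (Finset.univ.filter fun g : G => g ∈ H), Nat.card (MulAction.fixedBy Ω g)) = r * Nat.card H := by
    have := MulAction.sum_card_fixedBy_eq_card_orbits_mul_card_group H Ω
    simp only [Fintype.card_eq_nat_card] at this
    rw [hr]
    refine Eq.trans ?_ this
    rw [Finset.sum_subtype (p := fun g => g ∈ H) _ (fun g => by simp)]
    exact Finset.sum_congr rfl fun g _ => rfl
  have hout : ∀ g, g ∉ H → 1 ≤ Nat.card (MulAction.fixedBy Ω g) := fun g hg => by
    obtain ⟨ω, hω⟩ : ∃ ω : Ω, g • ω = ω := by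
      by_contra hne'
      push Not at hne'
      exact hg (Subgroup.subset_closure hne')
    haveI : Nonempty (MulAction.fixedBy Ω g) := ⟨⟨ω, hω⟩⟩
    exact Nat.card_pos
  have hsplit := Finset.sum_filter_add_sum_filter_not Finset.univ (fun g : G => g ∈ H)
    (fun g => Nat.card (MulAction.fixedBy Ω g))
  rw [hG, hH'] at hsplit
  set T := Finset.univ.filter (fun g : G => g ∉ H) with hT
  have hcardT : Nat.card H + T.card = Nat.card G := by
    rw [Nat.card_eq_fintype_card (α := G), ← Finset.card_univ,
      ← Finset.card_filter_add_card_filter_not (s := Finset.univ) (fun g : G => g ∈ H)]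
    congr 1
    rw [Nat.card_eq_fintype_card, Fintype.card_subtype]
  have hge : T.card ≤ ∑ g ∈ T, Nat.card (MulAction.fixedBy Ω g) := by
    rw [Finset.card_eq_sum_ones]
    exact Finset.sum_le_sum fun g hg => hout g (Finset.mem_filter.mp hg).2
  have hH0 : 0 < Nat.card H := Nat.card_pos
  have hr0 : 0 < r := by
    haveI : Nonempty (MulAction.orbitRel.Quotient H Ω) := ⟨Quotient.mk'' (Classical.arbitrary Ω)⟩
    exact Nat.card_pos
  have hr1 : r = 1 := by
    by_contra hne1
    have : 2 * Nat.card H ≤ r * Nat.card H := Nat.mul_le_mul_right _ (by omega)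
    omega
  refine ⟨(MulAction.pretransitive_iff_subsingleton_quotient H Ω).mpr (Nat.card_eq_one_iff_unique.mp hr1).1, fun g hg => ?_⟩
  by_contra hgH
  rw [hr1, one_mul] at hsplit
  have : T.card < ∑ g ∈ T, Nat.card (MulAction.fixedBy Ω g) := by
    rw [Finset.card_eq_sum_ones]
    exact Finset.sum_lt_sum (fun x hx => hout x (Finset.mem_filter.mp hx).2)
      ⟨g, by simp [hT, hgH], by have := hout g hgH; omega⟩
  omega

end Cfsg.Agent.S3546
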