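import Cfsg.Agent.S3546
import Mathlib
import Cfsg.Statements.S3547
-- import your own Cfsg.Agent.* helpers here

set_option autoImplicit false
open Cfsg

namespace Cfsg.Agent.S3547

/-- Let G act faithfully and transitively on a finite set Ω, let D be the subgroup generated by the derangements, and let r_G and r_D be the numbers of orbits of G and of D on ordered pairs of points (the permutation ranks). Then r_D − 1 = (r_G − 1)·[G : D]. -/
theorem result {G Ω : Type*} [Group G] [Finite G] [MulAction G Ω] [FaithfulSMul G Ω] [Finite Ω]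
    (htrans : MulAction.IsPretransitive G Ω) :
    Nat.card (MulAction.orbitRel.Quotient ↥(Subgroup.closure {g : G | ∀ ω : Ω, g • ω ≠ ω}) (Ω × Ω)) - 1 =
      (Nat.card (MulAction.orbitRel.Quotient G (Ω × Ω)) - 1) * (Subgroup.closure {g : G | ∀ ω : Ω, g • ω ≠ ω}).index := by
  classical
  haveI := Fintype.ofFinite G
  haveI := Fintype.ofFinite Ω
  set H := Subgroup.closure {g : G | ∀ ω : Ω, g • ω ≠ ω}
  rcases isEmpty_or_nonempty Ω with hem | hne
  · haveI : IsEmpty (MulAction.orbitRel.Quotient G (Ω × Ω)) := ⟨fun q => Quotient.inductionOn' q isEmptyElim⟩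
    haveI : IsEmpty (MulAction.orbitRel.Quotient H (Ω × Ω)) := ⟨fun q => Quotient.inductionOn' q isEmptyElim⟩
    simp [Nat.card_eq_zero]
  have hfix := (Cfsg.Agent.S3546.result (G := G) (Ω := Ω) htrans).2
  have hsq : ∀ g : G, Nat.card (MulAction.fixedBy (Ω × Ω) g) = Nat.card (MulAction.fixedBy Ω g) * Nat.card (MulAction.fixedBy Ω g) := fun g => by
    rw [← Nat.card_prod]
    exact Nat.card_congr ⟨fun x => (⟨x.1.1, (Prod.ext_iff.mp x.2).1⟩, ⟨x.1.2, (Prod.ext_iff.mp x.2).2⟩),
      fun y => ⟨(y.1.1, y.2.1), Prod.ext y.1.2 y.2.2⟩, fun _ => rfl, fun _ => rfl⟩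
  set R := Nat.card (MulAction.orbitRel.Quotient G (Ω × Ω)) with hR
  set r := Nat.card (MulAction.orbitRel.Quotient H (Ω × Ω)) with hr
  have hG : (∑ g : G, Nat.card (MulAction.fixedBy (Ω × Ω) g)) = R * Nat.card G := by
    have hB := MulAction.sum_card_fixedBy_eq_card_orbits_mul_card_group G (Ω × Ω)
    simp only [Fintype.card_eq_nat_card] at hB
    exact hB
  have hH' : (∑ g ∈ (Finset.univ.filter fun g : G => g ∈ H), Nat.card (MulAction.fixedBy (Ω × Ω) g)) = r * Nat.card H := by
    have hB := MulAction.sum_card_fixedBy_eq_card_orbits_mul_card_group H (Ω × Ω)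
    simp only [Fintype.card_eq_nat_card] at hB
    refine Eq.trans ?_ hB
    rw [Finset.sum_subtype (p := fun g => g ∈ H) _ (fun g => by simp)]
    exact Finset.sum_congr rfl fun g _ => rfl
  have hsplit := Finset.sum_filter_add_sum_filter_not Finset.univ (fun g : G => g ∈ H)
    (fun g => Nat.card (MulAction.fixedBy (Ω × Ω) g))
  rw [hG, hH', Finset.sum_congr rfl (g := fun _ => 1) (s₁ := Finset.univ.filter (fun g : G => g ∉ H)) (fun g hg => by
    have hg' := (Finset.mem_filter.mp hg).2
    rw [hsq, show Nat.card (MulAction.fixedBy Ω g) = 1 by by_contra h; exact hg' (hfix g h)]),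
    ← Finset.card_eq_sum_ones] at hsplit
  set T := Finset.univ.filter (fun g : G => g ∉ H) with hT
  have hcardT : Nat.card H + T.card = Nat.card G := by
    rw [Nat.card_eq_fintype_card (α := G), ← Finset.card_univ,
      ← Finset.card_filter_add_card_filter_not (s := Finset.univ) (fun g : G => g ∈ H)]
    congr 1
    rw [Nat.card_eq_fintype_card, Fintype.card_subtype]
  have hidx := H.card_mul_index
  have hR0 : 0 < R := by
    haveI : Nonempty (MulAction.orbitRel.Quotient G (Ω × Ω)) := ⟨Quotient.mk'' (Classical.arbitrary _)⟩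
    exact Nat.card_pos
  have hr0 : 0 < r := by
    haveI : Nonempty (MulAction.orbitRel.Quotient H (Ω × Ω)) := ⟨Quotient.mk'' (Classical.arbitrary _)⟩
    exact Nat.card_pos
  obtain ⟨R', hR'⟩ : ∃ R', R = R' + 1 := ⟨R - 1, by omega⟩
  obtain ⟨r', hr'⟩ : ∃ r', r = r' + 1 := ⟨r - 1, by omega⟩
  rw [hR', hr', Nat.add_sub_cancel, Nat.add_sub_cancel]
  rw [hR', hr'] at hsplit
  apply Nat.eq_of_mul_eq_mul_left (show 0 < Nat.card H from Nat.card_pos)
  rw [← hidx] at hcardT hsplit
  nlinarith

end Cfsg.Agent.S3547
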