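import Cfsg.Agent.Elementary.DerangementIndex
import Mathlib
import Cfsg.Statements.S3548
-- import your own Cfsg.Agent.* helpers here

set_option autoImplicit false
open Cfsg

namespace Cfsg.Agent.S3548

/-- Let G act faithfully and transitively on a finite set with n ≥ 2 points and let D be the subgroup generated by the derangements. Then the index of D in G divides n − 1, and if it equals n − 1 then n is a prime power. -/
theorem result {G Ω : Type*} [Group G] [Finite G] [MulAction G Ω] [FaithfulSMul G Ω] [Finite Ω]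
    (htrans : MulAction.IsPretransitive G Ω) (hΩ : 2 ≤ Nat.card Ω) :
    (Subgroup.closure {g : G | ∀ ω : Ω, g • ω ≠ ω}).index ∣ Nat.card Ω - 1 ∧
    ((Subgroup.closure {g : G | ∀ ω : Ω, g • ω ≠ ω}).index = Nat.card Ω - 1 → IsPrimePow (Nat.card Ω)) := by
  classical
  haveI := htrans
  haveI : Nonempty Ω := (Nat.card_pos_iff.mp (by omega : 0 < Nat.card Ω)).1
  obtain ⟨a⟩ := (inferInstance : Nonempty Ω)
  have hd := Cfsg.Lib.DerangementIndex.index_dvd_sub_one (G := G) a (Set.mem_univ a) (fun _ _ _ _ => Set.mem_univ _)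
  rw [Set.ncard_univ] at hd
  refine ⟨hd, fun heq => ?_⟩
  set K := Cfsg.Lib.DerangementIndex.dergroup G Ω with hK
  change K.index = Nat.card Ω - 1 at heq
  haveI : MulAction.IsPretransitive K Ω := Cfsg.Lib.DerangementIndex.trans_dergroup
  -- the stabiliser is transitive on the other points, with two-point stabilisers inside K
  have key : ∀ b, b ≠ a → MulAction.orbit (MulAction.stabilizer G a) b = {a}ᶜ ∧ K.subgroupOf (MulAction.stabilizer G a) ≤ MulAction.stabilizer (MulAction.stabilizer G a) b := by
    intro b hb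
    have hsub : MulAction.orbit (MulAction.stabilizer G a) b ⊆ {a}ᶜ := by
      rintro x ⟨g, rfl⟩ (e : g • b = a)
      have e' : (g : G) • b = (g : G) • a := e.trans g.2.symm
      exact hb (smul_left_cancel _ e')
    have hc : ({a}ᶜ : Set Ω).ncard = Nat.card Ω - 1 := by rw [Set.ncard_compl, Set.ncard_singleton]
    have hle : MulAction.stabilizer (MulAction.stabilizer G a) b ≤ K.subgroupOf (MulAction.stabilizer G a) :=
      fun g hg => Cfsg.Lib.DerangementIndex.stabilizer_le_dergroup (Ne.symm hb) g.2 hg
    have hidx : (MulAction.stabilizer (MulAction.stabilizer G a) b).index = Nat.card Ω - 1 := by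
      refine le_antisymm ?_ (Nat.le_of_dvd (Nat.pos_of_ne_zero Subgroup.index_ne_zero_of_finite) (heq ▸ ?_))
      · rw [MulAction.index_stabilizer, ← hc]; exact Set.ncard_le_ncard hsub
      · rw [← Cfsg.Lib.DerangementIndex.relIndex_stabilizer a]; exact Subgroup.index_dvd_of_le hle
    refine ⟨Set.eq_of_subset_of_ncard_le hsub (by rw [hc, ← hidx, MulAction.index_stabilizer]), ?_⟩
    intro g hg
    by_contra h
    have hlt : MulAction.stabilizer (MulAction.stabilizer G a) b < K.subgroupOf (MulAction.stabilizer G a) :=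
      lt_of_le_of_ne hle fun e => h (e ▸ hg)
    have := Subgroup.index_strictAnti hlt
    rw [hidx] at this
    have e2 : (K.subgroupOf (MulAction.stabilizer G a)).index = Nat.card Ω - 1 :=
      (Cfsg.Lib.DerangementIndex.relIndex_stabilizer a).trans heq
    omega
  -- K is regular
  have hreg : ∀ k ∈ K, k • a = a → k = 1 := fun k hk hka => FaithfulSMul.eq_of_smul_eq_smul fun x => by
    rw [one_smul]
    by_cases hx : x = a
    · rw [hx, hka]
    · exact (key x hx).2 (x := ⟨k, hka⟩) hk
  have hKc : Nat.card K = Nat.card Ω := by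
    refine Nat.card_eq_of_bijective (fun k : K => k • a) ⟨fun k l h => ?_, fun x => MulAction.exists_smul_eq K a x⟩
    have e : (k : G) • a = (l : G) • a := h
    have := hreg _ (mul_mem (inv_mem l.2) k.2) (by rw [mul_smul, e, inv_smul_smul])
    exact Subtype.ext (inv_mul_eq_one.mp this).symm
  -- all nontrivial elements of K have the same order
  obtain ⟨q, hq, hqd⟩ := Nat.exists_prime_and_dvd (show Nat.card K ≠ 1 by omega)
  haveI := Fact.mk hq
  obtain ⟨z, hz⟩ := exists_prime_orderOf_dvd_card' q hqd
  have hconj : ∀ k : K, k ≠ 1 → orderOf k = q := by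
    intro k hk
    have hne : ∀ k : K, k ≠ 1 → (k : G) • a ≠ a := fun k hk h => hk (Subtype.ext (hreg k k.2 h))
    have hz1 : z ≠ 1 := fun e => hq.ne_one (by rw [← hz, e, orderOf_one])
    obtain ⟨g, hg⟩ := ((key _ (hne z hz1)).1.symm ▸ hne k hk : (k : G) • a ∈ MulAction.orbit (MulAction.stabilizer G a) ((z : G) • a))
    change (g : G) • (z : G) • a = (k : G) • a at hg
    have hKn : K.Normal := by
      refine ⟨fun x hx y => ?_⟩
      have : K.map (MulAut.conj y).toMonoidHom ≤ K := by
        rw [hK, Cfsg.Lib.DerangementIndex.dergroup, MonoidHom.map_closure, Subgroup.closure_le]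
        rintro _ ⟨u, hu, rfl⟩
        refine Subgroup.subset_closure fun ω hω => hu (y⁻¹ • ω) ?_
        change (y * u * y⁻¹) • ω = ω at hω
        rw [mul_smul, mul_smul] at hω
        exact (inv_smul_eq_iff.mpr hω.symm).symm
      exact this ⟨x, hx, rfl⟩
    have hm : (g : G) * z * (g : G)⁻¹ ∈ K := hKn.conj_mem z z.2 g
    have e : (k : G) = (g : G) * z * (g : G)⁻¹ := by
      have := hreg _ (mul_mem (inv_mem k.2) hm) (by
        rw [mul_smul, mul_smul, mul_smul, show ((g : G)⁻¹) • a = a from inv_smul_eq_iff.mpr g.2.symm, hg, inv_smul_smul])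
      exact inv_mul_eq_one.mp this
    rw [← Subgroup.orderOf_coe, e, ← MulAut.conj_apply]
    exact (orderOf_injective (MulAut.conj (g : G)).toMonoidHom (MulAut.conj (g : G)).injective z).trans ((Subgroup.orderOf_coe z).trans hz)
  have hp : IsPGroup q K := fun k => by
    by_cases hk : k = 1
    · exact ⟨0, by rw [hk, one_pow]⟩
    · exact ⟨1, by rw [pow_one, ← hconj k hk, pow_orderOf_eq_one]⟩
  obtain ⟨e, he⟩ := IsPGroup.iff_card.mp hp
  rw [← hKc, he]
  refine hq.isPrimePow.pow ?_
  rintro rfl
  rw [pow_zero] at he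
  omega

end Cfsg.Agent.S3548
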