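import Mathlib
import Cfsg.Statements.S3554
-- import your own Cfsg.Agent.* helpers here

set_option autoImplicit false
open Cfsg

namespace Cfsg.Agent.S3554

/-- Let G act faithfully and transitively on a finite set and suppose G has a non-trivial cyclic normal subgroup. Then some element of G of prime order fixes no point. -/
theorem result {G Ω : Type*} [Group G] [Finite G] [MulAction G Ω] [FaithfulSMul G Ω] [Finite Ω]
    (htrans : MulAction.IsPretransitive G Ω) (C : Subgroup G) (hC : C.Normal) (hC1 : C ≠ ⊥) (hcyc : IsCyclic ↥C) :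
    ∃ g : G, (orderOf g).Prime ∧ ∀ ω : Ω, g • ω ≠ ω := by
  classical
  haveI : C.Normal := hC
  have h1 : 1 < Nat.card C := (Subgroup.one_lt_card_iff_ne_bot C).mpr hC1
  obtain ⟨q, hq, hqd⟩ := Nat.exists_prime_and_dvd (ne_of_gt h1)
  haveI := Fact.mk hq
  obtain ⟨c, hc⟩ := exists_prime_orderOf_dvd_card' q hqd
  refine ⟨c, by rw [Subgroup.orderOf_coe, hc]; exact hq, fun ω hω => ?_⟩
  have hall : ∀ η : Ω, (c : G) • η = η := fun η => by
    obtain ⟨k, rfl⟩ := htrans.exists_smul_eq ω η
    -- the conjugate is a power of `c`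
    set y : C := ⟨k⁻¹ * c * k, by simpa using hC.conj_mem c c.2 k⁻¹⟩ with hy
    have hyo : orderOf y = q := by
      rw [← Subgroup.orderOf_coe, ← hc, ← Subgroup.orderOf_coe c, hy]
      simpa using (MulAut.conj k⁻¹).orderOf_eq (c : G)
    have hmem : y ∈ Subgroup.zpowers c := by
      haveI := Fintype.ofFinite C
      haveI := hcyc
      have hsub : (Finset.univ.filter fun z : C => z ∈ Subgroup.zpowers c) ⊆
          Finset.univ.filter fun z : C => z ^ q = 1 := fun z hz => by
        obtain ⟨i, rfl⟩ := (Finset.mem_filter.mp hz).2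
        refine Finset.mem_filter.mpr ⟨Finset.mem_univ _, ?_⟩
        show (c ^ i) ^ q = 1
        rw [← zpow_natCast, ← zpow_mul, mul_comm, zpow_mul, zpow_natCast, ← hc, pow_orderOf_eq_one, one_zpow]
      have hle : (Finset.univ.filter fun z : C => z ^ q = 1).card ≤ (Finset.univ.filter fun z : C => z ∈ Subgroup.zpowers c).card := by
        refine (IsCyclic.card_pow_eq_one_le hq.pos).trans (le_of_eq ?_)
        rw [← hc, ← Nat.card_zpowers, Nat.card_eq_fintype_card, Fintype.card_subtype]
      have : y ∈ Finset.univ.filter fun z : C => z ∈ Subgroup.zpowers c := by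
        rw [Finset.eq_of_subset_of_card_le hsub hle]
        exact Finset.mem_filter.mpr ⟨Finset.mem_univ _, by rw [← hyo, pow_orderOf_eq_one]⟩
      exact (Finset.mem_filter.mp this).2
    obtain ⟨j, hj⟩ := hmem
    have hjω : ((c : G) ^ j) • ω = ω := MulAction.mem_fixedBy.mp (MulAction.fixedBy_subset_fixedBy_zpow _ (c : G) j hω)
    rw [show (c : G) ^ j = k⁻¹ * c * k from congrArg Subtype.val hj, mul_smul, mul_smul, inv_smul_eq_iff] at hjω
    exact hjω
  have hone : (c : G) = 1 := FaithfulSMul.eq_of_smul_eq_smul (α := Ω) fun η => by rw [hall, one_smul]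
  rw [← Subgroup.orderOf_coe, hone, orderOf_one] at hc
  exact hq.ne_one hc.symm

end Cfsg.Agent.S3554
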