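import Cfsg.Statements.S3555
import Cfsg.Agent.Frobenius.Kernel
-- import your own Cfsg.Agent.* helpers here

set_option autoImplicit false
open Cfsg

namespace Cfsg.Agent.S3555

section

open Finset

variable {G Ω : Type*} [Group G] [MulAction G Ω]

/-- If all fixed-point-free elements are involutions then nontrivial elements fix at most one
point. -/
theorem fixed_le_one [Fintype G] [Fintype Ω] [DecidableEq Ω] [FaithfulSMul G Ω]
    (htrans : MulAction.IsPretransitive G Ω) (hinv : ∀ g : G, (∀ ω : Ω, g • ω ≠ ω) → g * g = 1)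
    {g : G} (hg : g ≠ 1) {a b : Ω} (ha : g • a = a) (hb : g • b = b) : a = b := by
  classical
  by_contra hab
  set f : G → ℕ := fun x => (univ.filter fun ω : Ω => x • ω = ω).card with hf
  set n := Fintype.card Ω with hn
  set D := univ.filter fun x : G => ∀ ω : Ω, x • ω ≠ ω with hD
  set h := (univ.filter fun x : G => x • a = a).card with hh
  set T := ∑ x ∈ univ.filter (fun x : G => x • a = a), f x with hT
  have hconj : ∀ (c : G) (x : G) (ω : Ω), (c * x * c⁻¹) • (c • ω) = c • ω ↔ x • ω = ω := by
    intro c x ω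
    rw [← mul_smul, inv_mul_cancel_right, mul_smul, smul_left_cancel_iff]
  have hfc : ∀ c x : G, f (c * x * c⁻¹) = f x := by
    intro c x
    symm
    refine card_equiv (MulAction.toPerm c) fun ω => ?_
    simp only [mem_filter, mem_univ, true_and, MulAction.toPerm_apply]
    exact (hconj c x ω).symm
  have hstab : ∀ ω : Ω, (univ.filter fun x : G => x • ω = ω).card = h ∧
      ∑ x ∈ univ.filter (fun x : G => x • ω = ω), f x = T := by
    intro ω
    obtain ⟨c, rfl⟩ := htrans.exists_smul_eq a ω
    constructor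
    · symm
      refine card_equiv (MulAut.conj c).toEquiv fun x => ?_
      simp only [mem_filter, mem_univ, true_and]
      exact (hconj c x a).symm
    · symm
      refine sum_equiv (MulAut.conj c).toEquiv (fun x => ?_) fun x _ => (hfc c x).symm
      simp only [mem_filter, mem_univ, true_and]
      exact (hconj c x a).symm
  have hG : Fintype.card G = n * h := by
    have := (card_eq_sum_card_fiberwise (f := fun x : G => x • a) (s := univ) (t := univ)
      fun _ _ => mem_univ _)
    rw [← card_univ, this, hn, ← card_univ, ← smul_eq_mul, ← sum_const]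
    refine sum_congr rfl fun ω _ => ?_
    obtain ⟨c, rfl⟩ := htrans.exists_smul_eq a ω
    refine (card_equiv (Equiv.mulLeft c) fun x => ?_).symm
    simp [mul_smul]
  have hS1 : ∑ x : G, f x = n * h := by
    calc ∑ x : G, f x = ∑ ω : Ω, (univ.filter fun x : G => x • ω = ω).card := by
          simp only [hf, card_filter]
          exact sum_comm
      _ = n * h := by simp [(fun ω => (hstab ω).1), hn]
  have hS2 : ∑ x : G, f x * f x = n * T := by
    calc ∑ x : G, f x * f x
        = ∑ ω : Ω, ∑ x ∈ univ.filter (fun x : G => x • ω = ω), f x := by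
          simp only [sum_filter]
          rw [sum_comm]
          refine sum_congr rfl fun x _ => ?_
          rw [← sum_filter, sum_const, smul_eq_mul]
      _ = n * T := by simp [(fun ω => (hstab ω).2), hn]
  have hTs : T = ∑ β : Ω, (univ.filter fun x : G => x • a = a ∧ x • β = β).card := by
    simp only [hT, hf, card_filter, sum_filter, ite_and]
    rw [sum_comm]
    exact sum_congr rfl fun x _ => by split <;> simp
  have hDle : D.card + h ≤ T := by
    have hDs : D.card = ∑ β : Ω, (D.filter fun x : G => x • a = β).card :=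
      card_eq_sum_card_fiberwise fun _ _ => mem_univ _
    rw [hTs, hDs, ← sum_erase_add _ _ (mem_univ a),
      ← sum_erase_add (univ : Finset Ω) (fun β => (univ.filter fun x : G => x • a = a ∧ x • β = β).card)
        (mem_univ a)]
    have h0 : (D.filter fun x : G => x • a = a).card = 0 := by
      rw [card_eq_zero, filter_eq_empty_iff]
      intro x hx
      exact (mem_filter.1 hx).2 a
    simp only [h0, add_zero, and_self]
    refine Nat.add_le_add_right (sum_le_sum fun β _ => ?_) _
    by_cases hex : ∃ c, c ∈ D ∧ c • a = β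
    · obtain ⟨c, hcD, hc⟩ := hex
      refine card_le_card_of_injOn (fun x => c * x) (fun x hx => ?_)
        fun x _ y _ hxy => mul_left_cancel hxy
      obtain ⟨hxD, hxa⟩ := mem_filter.1 hx
      have hx2 := hinv x (mem_filter.1 hxD).2
      have hc2 := hinv c (mem_filter.1 hcD).2
      have hxb : x • β = a := by rw [← hxa, ← mul_smul, hx2, one_smul]
      have hcb : c • β = a := by rw [← hc, ← mul_smul, hc2, one_smul]
      simp [mul_smul, hxa, hxb, hcb, hc]
    · have : (D.filter fun x : G => x • a = β).card = 0 := by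
        rw [card_eq_zero, filter_eq_empty_iff]
        exact fun x hx he => hex ⟨x, hx, he⟩
      omega
  set E : G → ℤ := fun x => if ∀ ω : Ω, x • ω ≠ ω then 0
    else ((f x : ℤ) - 1) * ((n : ℤ) - f x) with hE
  have hsum : ((n : ℤ) * D.card) - ∑ x : G, E x
      = ∑ x : G, ((f x : ℤ) - 1) * ((f x : ℤ) - n) := by
    rw [hD, card_filter, Nat.cast_sum, mul_sum, ← sum_sub_distrib]
    refine sum_congr rfl fun x _ => ?_
    by_cases hx : ∀ ω : Ω, x • ω ≠ ω
    · have : f x = 0 := by simpa [hf, filter_eq_empty_iff] using hx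
      rw [hE]
      simp only [if_pos hx, this]
      push_cast
      ring
    · rw [hE]
      simp only [if_neg hx]
      push_cast
      ring
  have hrhs : ∑ x : G, ((f x : ℤ) - 1) * ((f x : ℤ) - n)
      = (n : ℤ) * T - ((n : ℤ) * h) := by
    have e1 : ∑ x : G, (f x : ℤ) = (n : ℤ) * h := by exact_mod_cast hS1
    have e2 : ∑ x : G, (f x : ℤ) * f x = (n : ℤ) * T := by exact_mod_cast hS2
    calc ∑ x : G, ((f x : ℤ) - 1) * ((f x : ℤ) - n)
        = ∑ x : G, (((f x : ℤ) * f x - ((n : ℤ) + 1) * f x) + (n : ℤ)) :=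
          sum_congr rfl fun x _ => by ring
      _ = _ := by
          rw [sum_add_distrib, sum_sub_distrib, ← mul_sum, e1, e2, sum_const, card_univ, hG]
          push_cast
          ring
  have hfn : ∀ x : G, f x ≤ n := fun x => (card_le_univ _)
  have hnn : ∀ x : G, 0 ≤ E x := by
    intro x
    by_cases hx : ∀ ω : Ω, x • ω ≠ ω
    · simp [hE, hx]
    · have h1 : 1 ≤ f x := by
        push Not at hx
        obtain ⟨ω, hω⟩ := hx
        exact card_pos.2 ⟨ω, by simp [hω]⟩
      rw [hE]
      simp only [if_neg hx]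
      have := hfn x
      exact mul_nonneg (by omega) (by omega)
  have hEg : 0 < E g := by
    have hne : ¬ ∀ ω : Ω, g • ω ≠ ω := fun hx => hx a ha
    have h2 : 2 ≤ f g := by
      have hsub : ({a, b} : Finset Ω) ⊆ univ.filter fun ω : Ω => g • ω = ω := by
        intro ω hω
        simp only [Finset.mem_insert, Finset.mem_singleton] at hω
        rcases hω with rfl | rfl <;> simp [ha, hb]
      simpa [hf, card_pair hab] using card_le_card hsub
    have hlt : f g < n := by
      refine lt_of_le_of_ne (hfn g) fun he => hg (eq_of_smul_eq_smul fun ω : Ω => ?_)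
      have hω : ω ∈ univ.filter fun ω : Ω => g • ω = ω := by
        rw [eq_univ_of_card _ he]
        exact mem_univ ω
      simpa using hω
    rw [hE]
    simp only [if_neg hne]
    exact mul_pos (by omega) (by omega)
  have hpos : 0 < ∑ x : G, E x :=
    lt_of_lt_of_le hEg (single_le_sum (fun x _ => hnn x) (mem_univ g))
  have hle : (n : ℤ) * D.card + (n : ℤ) * h ≤ (n : ℤ) * T := by
    exact_mod_cast (mul_add n D.card h) ▸ Nat.mul_le_mul_left n hDle
  linarith

end

/-- Let G act faithfully and transitively on a finite set and suppose every element of G fixing no point is an involution. Then either G is an elementary abelian 2-group, or G is a Frobenius group whose Frobenius kernel is an elementary abelian 2-group: G has a Frobenius complement H, and the elements lying in no conjugate of H, together with the identity, pairwise commute and square to the identity. -/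
theorem result {G Ω : Type*} [Group G] [Finite G] [MulAction G Ω] [FaithfulSMul G Ω] [Finite Ω]
    (htrans : MulAction.IsPretransitive G Ω) (hinv : ∀ g : G, (∀ ω : Ω, g • ω ≠ ω) → orderOf g = 2) :
    (IsMulCommutative G ∧ ∀ g : G, g ^ 2 = 1) ∨
    (∃ H : Subgroup G, Cfsg.IsFrobeniusComplement H ∧
      (∀ x ∈ Cfsg.frobeniusKernel H, x ^ 2 = 1) ∧
      ∀ x ∈ Cfsg.frobeniusKernel H, ∀ y ∈ Cfsg.frobeniusKernel H, x * y = y * x) := by
  classical
  haveI := Fintype.ofFinite G
  haveI := Fintype.ofFinite Ω
  have hinv' : ∀ g : G, (∀ ω : Ω, g • ω ≠ ω) → g * g = 1 := fun g hg => by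
    rw [← pow_two, ← hinv g hg, pow_orderOf_eq_one]
  have elem : ∀ K : Set G, (∀ x ∈ K, x ^ 2 = 1) → (∀ x ∈ K, ∀ y ∈ K, x * y ∈ K) →
      ∀ x ∈ K, ∀ y ∈ K, x * y = y * x := by
    intro K h2 hm x hx y hy
    have e : ∀ z ∈ K, z⁻¹ = z := fun z hz =>
      inv_eq_of_mul_eq_one_right (by rw [← pow_two, h2 z hz])
    have h' := e _ (hm x hx y hy)
    rw [mul_inv_rev, e x hx, e y hy] at h'
    exact h'.symm
  rcases isEmpty_or_nonempty Ω with hΩ | ⟨⟨a⟩⟩
  · have h1 : ∀ g : G, g = 1 := fun g => eq_of_smul_eq_smul fun ω : Ω => isEmptyElim ω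
    exact Or.inl ⟨⟨⟨fun x y => by rw [h1 x, h1 y]⟩⟩, fun g => by rw [h1 g, one_pow]⟩
  set H := MulAction.stabilizer G a with hH
  have hconj : ∀ {g : G} {ω : Ω}, g • ω = ω → ∃ c : G, c • a = ω ∧ c⁻¹ * g * c ∈ H := by
    intro g ω hgω
    obtain ⟨c, hc⟩ := htrans.exists_smul_eq a ω
    refine ⟨c, hc, ?_⟩
    rw [hH, MulAction.mem_stabilizer_iff, mul_smul, mul_smul, hc, hgω, inv_smul_eq_iff, hc]
  by_cases hbot : H = ⊥
  · left
    have h2 : ∀ g : G, g ^ 2 = 1 := by
      intro g
      by_cases hg : ∀ ω : Ω, g • ω ≠ ω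
      · rw [pow_two, hinv' g hg]
      · push Not at hg
        obtain ⟨ω, hω⟩ := hg
        obtain ⟨c, -, hc⟩ := hconj hω
        rw [hbot, Subgroup.mem_bot, mul_assoc, inv_mul_eq_one] at hc
        have : g = 1 := by simpa using hc.symm
        rw [this, one_pow]
    exact ⟨⟨⟨fun x y => elem Set.univ (fun z _ => h2 z) (fun _ _ _ _ => trivial) x trivial y
      trivial⟩⟩, h2⟩
  right
  have hfrob : Cfsg.IsFrobeniusComplement H := by
    refine ⟨hbot, fun htop => hbot ?_, fun g hg => ?_⟩
    · rw [eq_bot_iff]
      intro x _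
      rw [Subgroup.mem_bot]
      refine eq_of_smul_eq_smul fun ω : Ω => ?_
      obtain ⟨c, rfl⟩ := htrans.exists_smul_eq a ω
      have hc : c ∈ H := htop ▸ Subgroup.mem_top c
      have hx : x ∈ H := htop ▸ Subgroup.mem_top x
      rw [hH, MulAction.mem_stabilizer_iff] at hc hx
      rw [one_smul, hc, hx]
    · rw [eq_bot_iff]
      rintro x ⟨hx1, hx2⟩
      rw [Subgroup.mem_bot]
      by_contra hne
      refine hg ?_
      have hx2' : g⁻¹ * x * g ∈ H := Cfsg.Lib.Coprime.mem_conjMap.1 hx2
      change x ∈ H at hx1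
      rw [hH, MulAction.mem_stabilizer_iff] at hx1 hx2' ⊢
      have hxg : x • (g • a) = g • a := by
        rwa [mul_smul, mul_smul, inv_smul_eq_iff] at hx2'
      exact (fixed_le_one htrans hinv' hne hx1 hxg).symm
  refine ⟨H, hfrob, ?_, ?_⟩
  all_goals
    have h2 : ∀ x ∈ Cfsg.frobeniusKernel H, x ^ 2 = 1 := by
      intro x hx
      rcases hx with rfl | hx
      · simp
      rw [pow_two]
      refine hinv' x fun ω hω => ?_
      obtain ⟨c, -, hc⟩ := hconj hω
      exact hx c (Cfsg.Lib.Coprime.mem_conjMap.2 hc)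
  · exact h2
  · obtain ⟨N, hN, -, -⟩ := Cfsg.Lib.Frobenius.exists_kernel hfrob
    refine elem _ h2 fun x hx y hy => ?_
    rw [← hN] at hx hy ⊢
    exact N.mul_mem hx hy

end Cfsg.Agent.S3555
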