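import Cfsg.Statements.S3556
import Cfsg.Agent.PrimTypes.Basic

set_option autoImplicit false
open Cfsg

namespace Cfsg.Agent.S3556

/-- Let G act faithfully and primitively on a finite set with at least two points, and suppose that for some fixed prime p every element of G fixing no point has order a power of p. Then G is of affine type (it has a regular normal subgroup that is an elementary abelian r-group for some prime r) or almost simple (it has a non-abelian simple normal subgroup with trivial centralizer). -/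
theorem result {G Ω : Type*} [Group G] [Finite G] [MulAction G Ω] [FaithfulSMul G Ω] [Finite Ω]
    (hprim : MulAction.IsPreprimitive G Ω) (hΩ : 2 ≤ Nat.card Ω) (p : ℕ) (hp : p.Prime)
    (hder : ∀ g : G, (∀ ω : Ω, g • ω ≠ ω) → ∃ k : ℕ, orderOf g = p ^ k) :
    (∃ (N : Subgroup G) (r : ℕ), r.Prime ∧ N.Normal ∧ Cfsg.IsElementaryAbelian r N ∧
      MulAction.IsPretransitive N Ω ∧ ∀ a : Ω, MulAction.stabilizer N a = ⊥) ∨
    (∃ T : Subgroup G, T.Normal ∧ IsSimpleGroup ↥T ∧ ¬ IsMulCommutative ↥T ∧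
      Subgroup.centralizer (T : Set G) = ⊥) := by
  haveI := Fact.mk hp
  haveI := hprim
  obtain ⟨a⟩ : Nonempty Ω := (Nat.card_pos_iff.1 (by omega : 0 < Nat.card Ω)).1
  have hG : (⊤ : Subgroup G) ≠ ⊥ := fun h => by
    obtain ⟨x, y, hxy⟩ := Finite.one_lt_card_iff_nontrivial.1 hΩ
    obtain ⟨g, hg⟩ := MulAction.exists_smul_eq G x y
    have : g = 1 := by simpa [h] using Subgroup.mem_top g
    exact hxy (by rw [← hg, this, one_smul])
  obtain ⟨N, hmN⟩ := (Set.toFinite {K : Subgroup G | K.Normal ∧ K ≠ ⊥}).exists_minimal ⟨⊤, inferInstance, hG⟩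
  obtain ⟨hN, hne⟩ := hmN.prop
  haveI := hN
  have hmin : ∀ K : Subgroup G, K.Normal → K ≤ N → K = ⊥ ∨ K = N := fun K hK hle =>
    or_iff_not_imp_left.2 fun h0 => le_antisymm hle (hmN.le_of_le ⟨hK, h0⟩ hle)
  by_cases hab : IsMulCommutative N
  · obtain ⟨r, hr, hpow, htr, hreg⟩ := Cfsg.Lib.PrimTypes.abelian_regular hprim hN hne hmin hab
    exact Or.inl ⟨N, r, hr, hN, ⟨hab, hpow⟩, htr, hreg⟩
  obtain ⟨S, hSN, hS, hnaS, hSn, hZ, hsup, hfam, hconj, hgen⟩ :=
    Cfsg.Lib.PrimTypes.exists_simple_factor hN hne hmin hab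
  set M := N ⊓ Subgroup.centralizer (S : Set G) with hM
  -- derangements have prime power order
  have hnd : ∀ g : G, (∀ k : ℕ, g ^ p ^ k ≠ 1) → ∃ ω : Ω, g • ω = ω := fun g hg => by
    by_contra hfix
    push Not at hfix
    obtain ⟨k, hk⟩ := hder g hfix
    exact hg k (hk ▸ pow_orderOf_eq_one g)
  by_cases hSN' : S = N
  · subst hSN'
    refine Or.inr ⟨S, hN, hS, hnaS, ?_⟩
    by_contra hC
    haveI : (Subgroup.centralizer (S : Set G)).Normal := ⟨fun x hx g => by
      rw [Subgroup.mem_centralizer_iff] at hx ⊢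
      intro s hs
      have hs' : g⁻¹ * s * g ∈ S := by simpa using hN.conj_mem s hs g⁻¹
      calc s * (g * x * g⁻¹) = g * ((g⁻¹ * s * g) * x) * g⁻¹ := by group
        _ = g * (x * (g⁻¹ * s * g)) * g⁻¹ := by rw [hx _ hs']
        _ = g * x * g⁻¹ * s := by group⟩
    obtain ⟨s, hs, hsp⟩ := Cfsg.Lib.PrimTypes.exists_not_ppow hS hnaS p
    obtain ⟨ω, hω⟩ := hnd s hsp
    have := Cfsg.Lib.PrimTypes.semiregular_of_centralized hprim hC (Subgroup.le_centralizer_iff.1 le_rfl) hs hω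
    exact hsp 0 (by rw [this, one_pow])
  exfalso
  haveI : MulAction.IsPretransitive N Ω := Cfsg.Lib.PrimTypes.pretransitive_of_normal hprim N hne
  set K := MulAction.stabilizer G a ⊓ N with hK
  have hcommSM : ∀ s ∈ S, ∀ m ∈ M, s * m = m * s := fun s hs m hm => Subgroup.mem_centralizer_iff.1 hm.2 s hs
  have hMN : N ≤ Subgroup.normalizer (M : Set G) := fun n hn => Subgroup.mem_normalizer_iff.2 fun x => by
    refine and_congr (Subgroup.mem_normalizer_iff.1 (Subgroup.le_normalizer hn) x) ?_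
    simp only [SetLike.mem_coe, Subgroup.mem_centralizer_iff]
    constructor
    · intro hx s hs
      have hs' : n⁻¹ * s * n ∈ S := by
        simpa using (Subgroup.mem_normalizer_iff.1 (inv_mem (hSn hn)) s).1 hs
      calc s * (n * x * n⁻¹) = n * ((n⁻¹ * s * n) * x) * n⁻¹ := by group
        _ = n * (x * (n⁻¹ * s * n)) * n⁻¹ := by rw [hx _ hs']
        _ = n * x * n⁻¹ * s := by group
    · intro hx s hs
      have hs' := (Subgroup.mem_normalizer_iff.1 (hSn hn) s).1 hs
      calc s * x = n⁻¹ * ((n * s * n⁻¹) * (n * x * n⁻¹)) * n := by group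
        _ = n⁻¹ * ((n * x * n⁻¹) * (n * s * n⁻¹)) * n := by rw [hx _ hs']
        _ = x * s := by group
  have hKM : ∀ x, x ∈ K ⊔ M → ∃ k ∈ K, ∃ m ∈ M, k * m = x := fun x hx => by
    rw [← SetLike.mem_coe, Subgroup.coe_mul_of_left_le_normalizer_right K M (inf_le_right.trans hMN)] at hx
    exact Set.mem_mul.1 hx
  have hNSM : ∀ n ∈ N, ∃ s ∈ S, ∃ m ∈ M, s * m = n := fun n hn => by
    have := hsup hn
    rw [← SetLike.mem_coe, Subgroup.coe_mul_of_left_le_normalizer_right S M (hSN.trans hMN)] at this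
    exact Set.mem_mul.1 this
  have hfixK : ∀ n ∈ N, ∀ g ∈ N, g • n • a = n • a → n⁻¹ * g * n ∈ K := fun n hn g hg h =>
    Subgroup.mem_inf.2 ⟨MulAction.mem_stabilizer_iff.2 (by rw [mul_smul, mul_smul, h, inv_smul_smul]),
      mul_mem (mul_mem (inv_mem hn) hg) hn⟩
  by_cases hfull : S ≤ K ⊔ M
  · have hdis : S ⊓ K = ⊥ := by
      by_contra h0
      have hSK : S ≤ K := by
        have := hfam (S ⊓ K) inf_le_left h0 (hsup.trans (sup_le (hfull.trans (sup_le ?_ ?_)) ?_))
        · exact inf_eq_left.1 this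
        · exact fun k hk => Subgroup.mem_normalizer_iff.2 fun x =>
            and_congr (Subgroup.mem_normalizer_iff.1 (hSn hk.2) x)
              (Subgroup.mem_normalizer_iff.1 (Subgroup.le_normalizer hk) x)
        all_goals
          intro m hm
          refine Subgroup.mem_normalizer_iff.2 fun x => ⟨fun hx => ?_, fun hx => ?_⟩
          · rwa [← hcommSM x hx.1 m hm, mul_inv_cancel_right]
          · have h1 := hcommSM _ hx.1 m hm
            have e : m * x * m⁻¹ = x := by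
              calc m * x * m⁻¹ = m⁻¹ * (m * (m * x * m⁻¹)) := by group
                _ = m⁻¹ * ((m * x * m⁻¹) * m) := by rw [h1]
                _ = x := by group
            rwa [e] at hx
      have hall : N ≤ MulAction.stabilizer G a := by
        rw [hgen]
        refine iSup_le fun g => ?_
        obtain ⟨⟨n, hn⟩, hna⟩ := MulAction.exists_smul_eq N (g⁻¹ • a) a
        have hna' : n • g⁻¹ • a = a := hna
        intro x hx
        rw [Subgroup.mem_map_equiv, MulAut.conj_symm_apply] at hx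
        have hx' : (n * (g⁻¹ * x * g) * n⁻¹) • a = a :=
          MulAction.mem_stabilizer_iff.1 (Subgroup.mem_inf.1 (hSK ((Subgroup.mem_normalizer_iff.1 (hSn hn) _).1 hx))).1
        rw [MulAction.mem_stabilizer_iff]
        simp only [mul_smul] at hx'
        have : n⁻¹ • a = g⁻¹ • a := by rw [inv_smul_eq_iff, hna']
        rw [this, smul_inv_smul, ← hna', smul_left_cancel_iff, hna', inv_smul_eq_iff, smul_inv_smul] at hx'
        exact hx'
      obtain ⟨x, y, hxy⟩ := Finite.one_lt_card_iff_nontrivial.1 hΩ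
      have : ∀ z : Ω, z = a := fun z => by
        obtain ⟨⟨n, hn⟩, rfl⟩ := MulAction.exists_smul_eq N a z
        exact MulAction.mem_stabilizer_iff.1 (hall hn)
      exact hxy ((this x).trans (this y).symm)
    obtain ⟨s, hs, hsp⟩ := Cfsg.Lib.PrimTypes.exists_not_ppow hS hnaS p
    obtain ⟨ω, hω⟩ := hnd s hsp
    obtain ⟨⟨n, hn⟩, rfl⟩ := MulAction.exists_smul_eq N a ω
    have h1 : n⁻¹ * s * n ∈ S ⊓ K :=
      ⟨by simpa using (Subgroup.mem_normalizer_iff.1 (inv_mem (hSn hn)) s).1 hs, hfixK n hn s (hSN hs) hω⟩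
    rw [hdis, Subgroup.mem_bot] at h1
    exact hsp 0 (by rw [show s = n * (n⁻¹ * s * n) * n⁻¹ by group, h1]; group)
  · have hH : ((K ⊔ M).subgroupOf S) ≠ ⊤ := fun h => hfull (Subgroup.subgroupOf_eq_top.1 h)
    obtain ⟨x, hx⟩ := Cfsg.Lib.SolvStruct.exists_not_mem_conj _ hH
    obtain ⟨g, hg⟩ : ∃ g : G, S.map (MulAut.conj g).toMonoidHom ≤ M := by
      by_contra hno
      push Not at hno
      refine hSN' (le_antisymm hSN (hgen.le.trans (iSup_le fun g => ?_)))
      exact ((hconj g).resolve_right (hno g)).le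
    obtain ⟨s₀, hs₀, hsp⟩ := Cfsg.Lib.PrimTypes.exists_not_ppow hS hnaS p
    set y := g * s₀ * g⁻¹ with hy
    have hyM : y ∈ M := hg ⟨s₀, hs₀, by simp [y]⟩
    have hxy : ∀ k : ℕ, ((x : G) * y) ^ p ^ k ≠ 1 := fun k h => by
      rw [(show Commute (x : G) y from hcommSM x x.2 y hyM).mul_pow] at h
      have h2 : y ^ p ^ k ∈ S ⊓ Subgroup.centralizer (S : Set G) :=
        Subgroup.mem_inf.2 ⟨eq_inv_of_mul_eq_one_right h ▸ inv_mem (pow_mem x.2 _), (pow_mem hyM _).2⟩
      rw [hZ, Subgroup.mem_bot, hy, conj_pow, mul_inv_eq_one, mul_eq_left] at h2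
      exact hsp k h2
    obtain ⟨ω, hω⟩ := hnd _ hxy
    obtain ⟨⟨n, hn⟩, rfl⟩ := MulAction.exists_smul_eq N a ω
    have h1 := hfixK n hn _ (mul_mem (hSN x.2) hyM.1) hω
    obtain ⟨s, hs, m, hm, rfl⟩ := hNSM n hn
    refine hx ⟨s, hs⟩ ?_
    rw [Subgroup.mem_subgroupOf]
    have hxs : s⁻¹ * (x : G) * s ∈ S := mul_mem (mul_mem (inv_mem hs) x.2) hs
    have hym : m⁻¹ * y * m ∈ M := mul_mem (mul_mem (inv_mem hm) hyM) hm
    have e : (s * m)⁻¹ * ((x : G) * y) * (s * m) = s⁻¹ * (x : G) * s * (m⁻¹ * y * m) := by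
      calc (s * m)⁻¹ * ((x : G) * y) * (s * m) = m⁻¹ * ((s⁻¹ * x) * (y * s)) * m := by group
        _ = m⁻¹ * ((s⁻¹ * x) * (s * y)) * m := by rw [hcommSM s hs y hyM]
        _ = m⁻¹ * ((s⁻¹ * x * s) * (y * m)) := by group
        _ = m⁻¹ * (s⁻¹ * x * s) * (y * m) := by group
        _ = (s⁻¹ * x * s) * m⁻¹ * (y * m) := by rw [hcommSM _ hxs _ (inv_mem hm)]
        _ = s⁻¹ * (x : G) * s * (m⁻¹ * y * m) := by group
    have h2 : s⁻¹ * (x : G) * s * (m⁻¹ * y * m) ∈ K ⊔ M := Subgroup.mem_sup_left (e ▸ h1)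
    have h3 := mul_mem h2 (inv_mem (Subgroup.mem_sup_right hym : m⁻¹ * y * m ∈ K ⊔ M))
    rwa [mul_inv_cancel_right] at h3

end Cfsg.Agent.S3556
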