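import Mathlib

/-!
Schur rings over cyclic groups: a primitive group containing a regular cyclic subgroup of composite
order is doubly transitive.
-/

set_option autoImplicit false
set_option linter.style.haveILetI false

namespace Cfsg.Lib.SchurCyclic

section Rings
open Finset

variable {p m : ℕ}

/-- An invariant subset of differences, for a set `G` of permutations of `ZMod n`. -/
def InvSchur {n : ℕ} (G : Subgroup (Equiv.Perm (ZMod n))) {C : Type*} (K : ZMod n → C) : Prop :=
  ∀ σ ∈ G, ∀ a b, K (σ b - σ a) = K (b - a)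

variable {n : ℕ} [NeZero n] (G : Subgroup (Equiv.Perm (ZMod n)))

/-- The orbit of `x` under the stabilizer of `0`. -/
def TSchur (x : ZMod n) : Set (ZMod n) := {y | ∃ σ ∈ G, σ 0 = 0 ∧ σ x = y}

theorem TSchur_self (x : ZMod n) : x ∈ TSchur G x := ⟨1, G.one_mem, rfl, rfl⟩

theorem TSchur_eq {x y : ZMod n} (h : y ∈ TSchur G x) : TSchur G y = TSchur G x := by
  obtain ⟨s, hs, hs0, hsx⟩ := h
  ext z
  constructor
  · rintro ⟨t, ht, ht0, htz⟩
    exact ⟨t * s, G.mul_mem ht hs, by simp [hs0, ht0], by simp [hsx, htz]⟩
  · rintro ⟨t, ht, ht0, htz⟩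
    refine ⟨t * s⁻¹, G.mul_mem ht (G.inv_mem hs), ?_, ?_⟩
    · have : s⁻¹ 0 = 0 := Equiv.Perm.inv_eq_iff_eq.mpr hs0.symm
      rw [Equiv.Perm.mul_apply, this, ht0]
    · have : s⁻¹ y = x := Equiv.Perm.inv_eq_iff_eq.mpr hsx.symm
      rw [Equiv.Perm.mul_apply, this, htz]

variable {G} (hT : ∀ k : ZMod n, Equiv.addRight k ∈ G)
include hT

theorem inv_TSchur (x : ZMod n) : InvSchur G (fun y => (y ∈ TSchur G x)) := by
  intro s hs a b
  show (_ ∈ _) = (_ ∈ _)
  have hmem : s b - s a ∈ TSchur G (b - a) := by
    refine ⟨Equiv.addRight (- s a) * s * Equiv.addRight a,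
      G.mul_mem (G.mul_mem (hT _) hs) (hT _), ?_, ?_⟩
    · simp
    · simp [sub_eq_add_neg]
  apply propext
  constructor
  · intro h
    rw [← TSchur_eq G h, TSchur_eq G hmem]
    exact TSchur_self G _
  · intro h
    rw [← TSchur_eq G h]
    exact hmem

omit hT in
theorem inv_const_TSchur {C : Type*} {K : ZMod n → C} (hK : InvSchur G K) {x y : ZMod n}
    (h : y ∈ TSchur G x) : K y = K x := by
  obtain ⟨s, hs, hs0, hsx⟩ := h
  have := hK s hs 0 x
  rwa [hs0, hsx, sub_zero, sub_zero] at this

omit hT in
theorem inv_convSchur {R : Type*} [CommRing R] {K L : ZMod n → R} (hK : InvSchur G K)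
    (hL : InvSchur G L) : InvSchur G (fun x => ∑ a, K a * L (x - a)) := by
  intro s hs u v
  calc ∑ a, K a * L (s v - s u - a) = ∑ c, K (c - s u) * L (s v - c) := by
        refine Fintype.sum_equiv (Equiv.addRight (s u)) _ _ (fun a => ?_)
        simp only [Equiv.coe_addRight]
        rw [add_sub_cancel_right, sub_sub, add_comm]
    _ = ∑ c, K (c - u) * L (v - c) := by
        refine (Fintype.sum_equiv s _ _ (fun c => ?_)).symm
        rw [hK s hs u c, hL s hs c v]
    _ = ∑ a, K a * L (v - u - a) := by
        refine (Fintype.sum_equiv (Equiv.addRight u) _ _ (fun a => ?_)).symm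
        simp only [Equiv.coe_addRight]
        rw [add_sub_cancel_right, sub_sub, add_comm]

omit hT in
theorem schurSchur [Fact p.Prime] {K : ZMod n → ZMod p} (hK : InvSchur G K) :
    InvSchur G (fun x => ∑ a with p • a = x, K a) := by
  classical
  let alg : (ZMod n → ZMod p) → AddMonoidAlgebra (ZMod p) (ZMod n) :=
    fun f => ∑ a, AddMonoidAlgebra.single a (f a)
  have hco : ∀ f x, (alg f).coeff x = f x := by
    intro f x
    simp [alg, Finsupp.single_apply]
  have hmul : ∀ f h, alg f * alg h = alg (fun x => ∑ a, f a * h (x - a)) := by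
    intro f h
    simp only [alg, Finset.sum_mul_sum, AddMonoidAlgebra.single_mul_single]
    rw [show (∑ x, AddMonoidAlgebra.single x (∑ a, f a * h (x - a))) =
      ∑ x, ∑ a, AddMonoidAlgebra.single x (f a * h (x - a)) from
        Finset.sum_congr rfl fun x _ => map_sum (AddMonoidAlgebra.singleAddHom x) _ _]
    rw [Finset.sum_comm (γ := ZMod n) (f := fun x a => AddMonoidAlgebra.single x (f a * h (x - a)))]
    refine Finset.sum_congr rfl fun a _ => ?_
    refine Fintype.sum_equiv (Equiv.addLeft a) _ _ (fun b => ?_)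
    rw [Equiv.coe_addLeft, add_sub_cancel_left]
  have hpow : ∀ i, ∃ L, InvSchur G L ∧ alg L = alg K ^ (i + 1) := by
    intro i
    induction i with
    | zero => exact ⟨K, hK, by simp⟩
    | succ i ih =>
      obtain ⟨L, hL, hLe⟩ := ih
      exact ⟨_, inv_convSchur hL hK, by rw [← hmul, hLe, ← pow_succ]⟩
  obtain ⟨L, hL, hLe⟩ := hpow (p - 1)
  have hp1 : p - 1 + 1 = p := Nat.succ_pred_eq_of_pos (Fact.out : p.Prime).pos
  rw [hp1] at hLe
  have : CharP (AddMonoidAlgebra (ZMod p) (ZMod n)) p :=
    charP_of_injective_ringHom (f := AddMonoidAlgebra.singleZeroRingHom)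
      (fun a b h => by
        have := congrArg (fun v => v.coeff 0) h
        simpa [Finsupp.single_apply] using this) p
  have hfrob : alg K ^ p = ∑ a, AddMonoidAlgebra.single (p • a) (K a) := by
    simp only [alg]
    rw [sum_pow_char]
    refine Finset.sum_congr rfl fun a _ => ?_
    rw [AddMonoidAlgebra.single_pow, ZMod.pow_card]
  have hQ : (fun x => ∑ a with p • a = x, K a) = L := by
    funext x
    rw [← hco L x, hLe, hfrob, Finset.sum_filter]
    simp [Finsupp.single_apply]
  rw [hQ]
  exact hL

end Rings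

open scoped Finset Pointwise

theorem not_isPreprimitive {Ω : Type*} [Fintype Ω] {N p : ℕ} [NeZero N] (hp : p.Prime)
    (hpN : p ∣ N) (hne' : N ≠ p) (G : Subgroup (Equiv.Perm Ω)) (e : ZMod N ≃ Ω)
    (he : ∀ k : ZMod N, ∃ τ ∈ G, ∀ i, τ (e i) = e (i + k))
    (h2 : ¬ MulAction.IsMultiplyPretransitive G Ω 2) : ¬ MulAction.IsPreprimitive G Ω := by
  classical
  haveI : Fact p.Prime := ⟨hp⟩
  let G' : Subgroup (Equiv.Perm (ZMod N)) := G.map (e.symm.permCongrHom).toMonoidHom
  have hG' : ∀ σ, σ ∈ G' ↔ ∃ τ ∈ G, σ = e.symm.permCongr τ := by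
    intro σ
    simp only [G', Subgroup.mem_map]
    constructor
    · rintro ⟨τ, h1, h2⟩; exact ⟨τ, h1, h2.symm⟩
    · rintro ⟨τ, h1, h2⟩; exact ⟨τ, h1, h2.symm⟩
  have hT : ∀ k : ZMod N, Equiv.addRight k ∈ G' := by
    intro k
    obtain ⟨τ, hτ, hτe⟩ := he k
    refine (hG' _).mpr ⟨τ, hτ, ?_⟩
    ext i
    simp [Equiv.permCongr_apply, hτe]
  have hblock : MulAction.IsPreprimitive G Ω → ∀ H : AddSubgroup (ZMod N),
      InvSchur G' (fun y => y ∈ H) → H = ⊥ ∨ H = ⊤ := by
    intro hprim H hH
    have hB : MulAction.IsBlock G (e '' (H : Set (ZMod N))) := by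
      rw [MulAction.isBlock_iff_smul_eq_of_mem]
      rintro τ a ⟨u, hu, rfl⟩ ⟨v, hv, hveq⟩
      have hσ : e.symm.permCongr (τ : Equiv.Perm Ω) ∈ G' := (hG' _).mpr ⟨_, τ.2, rfl⟩
      have key : ∀ y, (e.symm.permCongr (τ : Equiv.Perm Ω) y ∈ H) ↔ y ∈ H := by
        intro y
        have h1 : e.symm.permCongr (τ : Equiv.Perm Ω) u = v := by
          have h2 : (τ : Equiv.Perm Ω) (e u) = e v := hveq.symm
          simp [Equiv.permCongr_apply, h2]
        have := hH _ hσ u y
        rw [h1] at this
        simp only [eq_iff_iff] at this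
        rw [sub_eq_add_neg, sub_eq_add_neg, H.add_mem_cancel_right (H.neg_mem hv),
          H.add_mem_cancel_right (H.neg_mem hu)] at this
        exact this
      ext b
      constructor
      · rintro ⟨c, ⟨y, hy, rfl⟩, rfl⟩
        refine ⟨e.symm.permCongr (τ : Equiv.Perm Ω) y, (key y).mpr hy, ?_⟩
        simp [Equiv.permCongr_apply, Subgroup.smul_def]
      · rintro ⟨y, hy, rfl⟩
        obtain ⟨x, hx⟩ := (e.symm.permCongr (τ : Equiv.Perm Ω)).surjective y
        refine ⟨e x, ⟨x, (key x).mp (hx ▸ hy), rfl⟩, ?_⟩
        rw [← hx]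
        simp [Equiv.permCongr_apply, Subgroup.smul_def]
    rcases hprim.isTrivialBlock_of_isBlock hB with h | h
    · left
      refine (AddSubgroup.eq_bot_iff_forall H).mpr fun x hx => ?_
      exact e.injective (h ⟨x, hx, rfl⟩ ⟨0, H.zero_mem, rfl⟩)
    · right
      refine (AddSubgroup.eq_top_iff' H).mpr fun x => ?_
      obtain ⟨y, hy, hyx⟩ : e x ∈ e '' (H : Set (ZMod N)) := h ▸ trivial
      exact e.injective hyx ▸ hy
  have hnp : ¬ MulAction.IsPreprimitive G Ω := by
    intro hprim
    have hblk := hblock hprim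
    let μ : ZMod N →+ ZMod N := nsmulAddMonoidHom p
    set P := μ.ker with hP
    have hPmem : ∀ a, a ∈ P ↔ p • a = 0 := fun a => AddMonoidHom.mem_ker
    obtain ⟨q, hqN⟩ := hpN
    have hpq : p * q = N := hqN.symm
    have hpN : p ∣ N := ⟨q, hqN⟩
    have hq0 : 0 < q := Nat.pos_of_ne_zero fun h => NeZero.ne N (by rw [hqN, h, mul_zero])
    have hPcard : #(Finset.univ.filter (fun a : ZMod N => p • a = 0)) = p := by
      have : Finset.univ.filter (fun a : ZMod N => p • a = 0) =
          (Finset.range p).image (fun i : ℕ => ((i * q : ℕ) : ZMod N)) := by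
        ext a
        simp only [Finset.mem_filter, Finset.mem_univ, true_and, Finset.mem_image, Finset.mem_range]
        constructor
        · intro ha
          have h1 : ((p * a.val : ℕ) : ZMod N) = 0 := by
            rw [Nat.cast_mul, ZMod.natCast_zmod_val, ← nsmul_eq_mul]; exact ha
          rw [ZMod.natCast_eq_zero_iff] at h1
          obtain ⟨i, hi⟩ := (Nat.mul_dvd_mul_iff_left hp.pos).mp
            ((hpq.trans rfl).symm ▸ h1 : p * q ∣ p * a.val)
          refine ⟨i, ?_, ?_⟩
          · have := ZMod.val_lt a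
            rw [hi] at this
            have h' : q * i < q * p := lt_of_lt_of_le this (le_of_eq (by rw [← hpq, mul_comm]))
            exact Nat.lt_of_mul_lt_mul_left h'
          · rw [mul_comm, ← hi, ZMod.natCast_zmod_val]
        · rintro ⟨i, _, rfl⟩
          rw [nsmul_eq_mul, ← Nat.cast_mul, ZMod.natCast_eq_zero_iff, ← hpq]
          exact ⟨i, by ring⟩
      rw [this, Finset.card_image_of_injOn, Finset.card_range]
      intro i hi k hk h
      simp only [Finset.coe_range, Set.mem_Iio] at hi hk
      have h' : i * q % N = k * q % N := (ZMod.natCast_eq_natCast_iff' _ _ _).mp h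
      rw [Nat.mod_eq_of_lt (by rw [← hpq]; exact Nat.mul_lt_mul_of_pos_right hi hq0),
        Nat.mod_eq_of_lt (by rw [← hpq]; exact Nat.mul_lt_mul_of_pos_right hk hq0)] at h'
      exact Nat.eq_of_mul_eq_mul_right hq0 h'
    have hfib : ∀ t : ZMod N, #(Finset.univ.filter (fun a : ZMod N => p • a = p • t)) = p := by
      intro t
      refine Eq.trans ?_ hPcard
      refine Finset.card_equiv (Equiv.subRight t) (fun a => ?_)
      simp only [Finset.mem_filter, Finset.mem_univ, true_and, Equiv.subRight_apply,
        smul_sub, sub_eq_zero]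
    have hPne : P ≠ ⊥ := by
      intro h
      have : #(Finset.univ.filter (fun a : ZMod N => p • a = 0)) ≤ 1 := by
        refine Finset.card_le_one.mpr fun a ha b hb => ?_
        simp only [Finset.mem_filter, Finset.mem_univ, true_and, ← hPmem, h,
          AddSubgroup.mem_bot] at ha hb
        rw [ha, hb]
      rw [hPcard] at this
      exact absurd hp.two_le (by omega)
    have hPtop : P ≠ ⊤ := by
      intro h
      have h1 : ((p : ℕ) : ZMod N) = 0 := by
        simpa using (hPmem 1).mp (h ▸ AddSubgroup.mem_top (1 : ZMod N))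
      exact hne' ((hp.eq_one_or_self_of_dvd N ((ZMod.natCast_eq_zero_iff _ _).mp h1)).resolve_left
        (fun h2 => hp.ne_one (Nat.dvd_one.mp (h2 ▸ hpN))))
    have hμtop : μ.range ≠ ⊤ := by
      intro h
      obtain ⟨a, ha⟩ : (1 : ZMod N) ∈ μ.range := h ▸ AddSubgroup.mem_top _
      have ha' : p • a = (1 : ZMod N) := ha
      have hu : IsUnit ((p : ℕ) : ZMod N) := IsUnit.of_mul_eq_one a (by rw [← nsmul_eq_mul, ha'])
      have h3 := (ZMod.isUnit_iff_coprime p N).mp hu
      exact hp.ne_one (Nat.Coprime.eq_one_of_dvd h3 hpN)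
    -- an orbit inside a proper subgroup is zero
    have hgen : ∀ x, x ≠ 0 → ∀ H : AddSubgroup (ZMod N), H ≠ ⊤ → TSchur G' x ⊆ (H : Set _) →
        False := by
      intro x hx H hH hsub
      let K := AddSubgroup.closure (TSchur G' x)
      have hK : InvSchur G' (fun y => y ∈ K) := by
        have one : ∀ σ ∈ G', ∀ d, d ∈ K → ∀ a, σ (a + d) - σ a ∈ K := by
          intro σ hσ d hd
          induction hd using AddSubgroup.closure_induction with
          | mem d hd =>
            intro a
            refine AddSubgroup.subset_closure ?_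
            have := inv_TSchur hT x σ hσ a (a + d)
            simp only [add_sub_cancel_left, eq_iff_iff] at this
            exact this.mpr hd
          | zero => intro a; simp [K]
          | add d1 d2 _ _ h1 h2 =>
            intro a
            have := K.add_mem (h2 (a + d1)) (h1 a)
            rw [← add_assoc]
            simpa using this
          | neg d _ h1 =>
            intro a
            have := K.neg_mem (h1 (a + -d))
            simpa using this
        intro σ hσ a b
        simp only [eq_iff_iff]
        constructor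
        · intro h
          have := one σ⁻¹ (G'.inv_mem hσ) _ h (σ a)
          simpa using this
        · intro h
          have := one σ hσ _ h a
          simpa using this
      rcases hblk K hK with h | h
      · exact hx (AddSubgroup.mem_bot.mp (h ▸ AddSubgroup.subset_closure (TSchur_self G' x)))
      · exact hH (top_le_iff.mp (h ▸ (AddSubgroup.closure_le H).mpr hsub))
    let ind : ZMod N → ZMod N → ZMod p := fun x y => if y ∈ TSchur G' x then 1 else 0
    have hind : ∀ x, InvSchur G' (ind x) := by
      intro x σ hσ a b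
      have h := inv_TSchur hT x σ hσ a b
      simp only [eq_iff_iff] at h
      simp only [ind, h]
    have hzero : ∀ x y, y ≠ 0 → (∑ a with p • a = y, ind x a) = 0 := by
      intro x y hy
      by_contra hne
      refine hgen y hy μ.range hμtop ?_
      intro y' hy'
      have h1 : (∑ a with p • a = y', ind x a) = ∑ a with p • a = y, ind x a :=
        inv_const_TSchur (schurSchur (hind x)) hy'
      rw [← h1] at hne
      obtain ⟨a, ha, -⟩ := Finset.exists_ne_zero_of_sum_ne_zero hne
      simp only [Finset.mem_filter, Finset.mem_univ, true_and] at ha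
      exact ⟨a, ha⟩
    have hper : ∀ x t, t ∈ TSchur G' x → p • t ≠ 0 → ∀ h, p • h = 0 → t + h ∈ TSchur G' x := by
      intro x t ht ht0 h hh
      set S := Finset.univ.filter (fun a : ZMod N => p • a = p • t)
      set S' := S.filter (fun a => a ∈ TSchur G' x)
      have h1 : ((#S' : ℕ) : ZMod p) = 0 := by
        rw [← hzero x (p • t) ht0, Finset.sum_boole]
      have h2 : #S' = p := by
        have ha : #S' ≤ p := (Finset.card_filter_le S _).trans (hfib t).le
        have hb : 0 < #S' := Finset.card_pos.mpr ⟨t, by simp [S', S, ht]⟩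
        exact le_antisymm ha (Nat.le_of_dvd hb ((ZMod.natCast_eq_zero_iff _ _).mp h1))
      have h3 : S' = S := Finset.eq_of_subset_of_card_le (Finset.filter_subset _ _) (by rw [h2]; exact (hfib t).le)
      have h4 : t + h ∈ S' := by
        rw [h3]; exact Finset.mem_filter.mpr ⟨Finset.mem_univ _, by rw [smul_add, hh, add_zero]⟩
      exact (Finset.mem_filter.mp h4).2
    have hmeet : ∀ x, x ≠ 0 → ∃ t ∈ TSchur G' x, p • t = 0 := by
      intro x hx
      by_contra hcon
      push Not at hcon
      let K : AddSubgroup (ZMod N) :=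
        { carrier := {h | ∀ t, t + h ∈ TSchur G' x ↔ t ∈ TSchur G' x}
          zero_mem' := by intro t; simp
          add_mem' := by
            intro a b ha hb t
            rw [← add_assoc, hb, ha]
          neg_mem' := by
            intro a ha t
            rw [← ha (t + -a)]; simp }
      have hKmem : ∀ h, h ∈ K ↔ ∀ t, t + h ∈ TSchur G' x ↔ t ∈ TSchur G' x := fun h => Iff.rfl
      have hKpair : ∀ a b, b - a ∈ K ↔ ∀ c, (c - a ∈ TSchur G' x ↔ c - b ∈ TSchur G' x) := by
        intro a b
        rw [hKmem]
        constructor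
        · intro h c
          have := h (c - b)
          simpa using this
        · intro h t
          have := h (t + b)
          rw [add_sub_cancel_right] at this
          rw [← this]
          simp [add_sub_assoc]
      have hK : InvSchur G' (fun y => y ∈ K) := by
        intro σ hσ a b
        simp only [eq_iff_iff]
        rw [hKpair, hKpair]
        have key : ∀ u v, σ v - σ u ∈ TSchur G' x ↔ v - u ∈ TSchur G' x := fun u v => by
          have h := inv_TSchur hT x σ hσ u v
          simpa only [eq_iff_iff] using h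
        constructor
        · intro h c
          rw [← key a c, ← key b c]; exact h _
        · intro h c
          obtain ⟨c, rfl⟩ := σ.surjective c
          rw [key, key]; exact h c
      have hle : P ≤ K := by
        intro h hh
        rw [hKmem]
        intro t
        have hh' := (hPmem h).mp hh
        constructor
        · intro ht
          have := hper x (t + h) ht (hcon _ ht) (-h) (by simp [hh'])
          simpa using this
        · intro ht
          exact hper x t ht (hcon _ ht) h hh'
      rcases hblk K hK with h | h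
      · exact hPne (le_bot_iff.mp (h ▸ hle))
      · have h1 := ((hKmem (-x)).mp (h ▸ AddSubgroup.mem_top _) x).mpr (TSchur_self G' x)
        rw [add_neg_cancel] at h1
        exact hcon 0 h1 (smul_zero p)
    -- two distinct orbits
    obtain ⟨x1, x2, hx1, hx2, hx12⟩ : ∃ x1 x2 : ZMod N, x1 ≠ 0 ∧ x2 ≠ 0 ∧ x2 ∉ TSchur G' x1 := by
      by_contra hcon
      push Not at hcon
      apply h2
      rw [MulAction.is_two_pretransitive_iff]
      intro a b c d hab hcd
      have k1 : e.symm b - e.symm a ≠ 0 := sub_ne_zero.mpr (e.symm.injective.ne hab.symm)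
      have k2 : e.symm d - e.symm c ≠ 0 := sub_ne_zero.mpr (e.symm.injective.ne hcd.symm)
      obtain ⟨σ, hσ, hσ0, hσx⟩ := hcon _ _ k1 k2
      have hρ : Equiv.addRight (e.symm c) * σ * Equiv.addRight (- e.symm a) ∈ G' :=
        G'.mul_mem (G'.mul_mem (hT _) hσ) (hT _)
      obtain ⟨τ, hτ, hτe⟩ := (hG' _).mp hρ
      have ev : ∀ y, τ (e y) = e ((Equiv.addRight (e.symm c) * σ * Equiv.addRight (- e.symm a)) y) := by
        intro y
        rw [hτe]; simp [Equiv.permCongr_apply]
      refine ⟨⟨τ, hτ⟩, ?_, ?_⟩
      · have h := ev (e.symm a)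
        simpa [hσ0, Subgroup.smul_def] using h
      · have h := ev (e.symm b)
        rw [Equiv.apply_symm_apply] at h
        simp only [Subgroup.smul_def, Equiv.Perm.smul_def, h, Equiv.Perm.mul_apply,
          Equiv.coe_addRight, ← sub_eq_add_neg, hσx, sub_add_cancel, Equiv.apply_symm_apply]
    let Z := Finset.univ.filter (fun a : ZMod N => p • a = 0)
    let S : ZMod N → Finset (ZMod N) := fun x => Z.filter (fun a => a ∈ TSchur G' x)
    have hdisj : Disjoint (S x1) (S x2) := by
      rw [Finset.disjoint_left]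
      intro a ha hb
      have ha' := (Finset.mem_filter.mp ha).2
      have hb' := (Finset.mem_filter.mp hb).2
      exact hx12 (TSchur_eq G' ha' ▸ (TSchur_eq G' hb').symm ▸ TSchur_self G' x2)
    have hS0 : ∀ x, x ≠ 0 → (0 : ZMod N) ∉ S x := by
      intro x hx h
      obtain ⟨σ, hσ, hσ0, hσx⟩ := (Finset.mem_filter.mp h).2
      exact hx (σ.injective (hσx.trans hσ0.symm))
    have hsum : #(S x1) + #(S x2) < p := by
      rw [← Finset.card_union_of_disjoint hdisj]
      refine lt_of_lt_of_le (Finset.card_lt_card (s := S x1 ∪ S x2) (t := Z) ?_) hPcard.le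
      rw [Finset.ssubset_iff_of_subset (Finset.union_subset (Finset.filter_subset _ _) (Finset.filter_subset _ _))]
      exact ⟨0, by simp [Z], fun h => (Finset.mem_union.mp h).elim (hS0 x1 hx1) (hS0 x2 hx2)⟩
    obtain ⟨x, hx, hsmall⟩ : ∃ x, x ≠ 0 ∧ 2 * #(S x) < p := by
      rcases le_total (#(S x1)) (#(S x2)) with h | h
      · exact ⟨x1, hx1, by omega⟩
      · exact ⟨x2, hx2, by omega⟩
    obtain ⟨u, hu, hu0⟩ := hmeet x hx
    obtain ⟨y, hy, hy0⟩ : ∃ y ∈ TSchur G' x, p • y ≠ 0 := by
      by_contra hcon
      push Not at hcon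
      exact hgen x hx P hPtop (fun t ht => (hPmem t).mpr (hcon t ht))
    let F : ZMod N → ZMod p := ind x
    have hCC := inv_convSchur (hind x) (hind x)
    have huy : y ∈ TSchur G' u := by rw [TSchur_eq G' hu]; exact hy
    have heq : ∑ a, F a * F (y - a) = ∑ a, F a * F (u - a) := inv_const_TSchur hCC huy
    -- periodic sums vanish
    have hvan : ∀ φ : ZMod N → ZMod p, (∀ a h, p • h = 0 → φ (a + h) = φ a) → ∑ a, φ a = 0 := by
      intro φ hφ
      rw [← Finset.sum_fiberwise Finset.univ (fun a => p • a) φ]
      refine Finset.sum_eq_zero fun b _ => ?_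
      by_cases hb : ∃ t, p • t = b
      · obtain ⟨t, rfl⟩ := hb
        rw [Finset.sum_congr rfl (g := fun _ => φ t) (fun a ha => by
          simp only [Finset.mem_filter, Finset.mem_univ, true_and] at ha
          have := hφ t (a - t) (by rw [smul_sub, ha, sub_self])
          rwa [add_sub_cancel] at this), Finset.sum_const, hfib t, nsmul_eq_mul, ZMod.natCast_self,
          zero_mul]
      · rw [Finset.filter_eq_empty_iff.mpr (fun {a} _ h => hb ⟨a, h⟩), Finset.sum_empty]
    have hFP : ∀ a h, p • a ≠ 0 → p • h = 0 → F (a + h) = F a := by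
      intro a h ha hh
      have : a + h ∈ TSchur G' x ↔ a ∈ TSchur G' x := by
        constructor
        · intro ht
          have := hper x (a + h) ht (by simpa [smul_add, hh] using ha) (-h) (by simp [hh])
          simpa using this
        · intro ht; exact hper x a ht ha h hh
      simp only [F, ind, this]
    let φ : ZMod N → ZMod N → ZMod p := fun c a =>
      if p • a ≠ 0 ∧ p • (c - a) ≠ 0 then F a * F (c - a) else 0
    have hφ : ∀ c, ∑ a, φ c a = 0 := by
      intro c
      refine hvan _ (fun a h hh => ?_)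
      have e1 : p • (a + h) = p • a := by rw [smul_add, hh, add_zero]
      have e2 : p • (c - (a + h)) = p • (c - a) := by rw [smul_sub, e1, smul_sub]
      simp only [φ, e1, e2]
      by_cases hc : p • a ≠ 0 ∧ p • (c - a) ≠ 0
      · rw [if_pos hc, if_pos hc, hFP a h hc.1 hh, sub_add_eq_sub_sub,
          sub_eq_add_neg (c - a) h, hFP (c - a) (-h) hc.2 (by simp [hh])]
      · rw [if_neg hc, if_neg hc]
    have hFy : ∀ a, p • a = 0 → F (y - a) = 1 := by
      intro a ha
      rw [sub_eq_add_neg, hFP y (-a) hy0 (by simp [ha])]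
      simp [F, ind, hy]
    have hZS : ∑ a ∈ Z, F a = (#(S x) : ZMod p) := by
      simp only [F, ind, Finset.sum_boole, S]
    have hyy : ∑ a, F a * F (y - a) = 2 * (#(S x) : ZMod p) := by
      have e1 : ∀ a, F a * F (y - a) = φ y a + (if p • a = 0 then F a else 0) +
          (if p • (y - a) = 0 then F (y - a) else 0) := by
        intro a
        by_cases h1 : p • a = 0
        · have h2 : p • (y - a) ≠ 0 := by rwa [smul_sub, h1, sub_zero]
          simp only [φ]
          rw [if_neg (fun h => h.1 h1), if_pos h1, if_neg h2, hFy a h1]; ring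
        · by_cases h2 : p • (y - a) = 0
          · have h3 : F a = 1 := by
              have := hFy (y - a) h2
              rwa [sub_sub_cancel] at this
            simp only [φ]
            rw [if_neg (fun h => h.2 h2), if_neg h1, if_pos h2, h3]; ring
          · simp only [φ]
            rw [if_pos ⟨h1, h2⟩, if_neg h1, if_neg h2]; ring
      have e2 : ∑ a, (if p • (y - a) = 0 then F (y - a) else 0) = ∑ a, (if p • a = 0 then F a else 0) :=
        Fintype.sum_equiv (Equiv.subLeft y) _ _ (fun a => rfl)
      rw [Finset.sum_congr rfl (fun a _ => e1 a), Finset.sum_add_distrib, Finset.sum_add_distrib,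
        hφ, zero_add, e2, ← Finset.sum_filter, hZS, two_mul]
    obtain ⟨c, hc, hcu⟩ : ∃ c : ℕ, c ≤ #(S x) ∧ ∑ a, F a * F (u - a) = (c : ZMod p) := by
      refine ⟨#((S x).filter (fun a => u - a ∈ TSchur G' x)), Finset.card_filter_le _ _, ?_⟩
      have e1 : ∀ a, F a * F (u - a) = φ u a + (if p • a = 0 then F a * F (u - a) else 0) := by
        intro a
        by_cases h1 : p • a = 0
        · simp only [φ]
          rw [if_neg (fun h => h.1 h1), if_pos h1, zero_add]
        · have h2 : p • (u - a) ≠ 0 := by rwa [smul_sub, hu0, zero_sub, neg_ne_zero]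
          simp only [φ]
          rw [if_pos ⟨h1, h2⟩, if_neg h1, add_zero]
      rw [Finset.sum_congr rfl (fun a _ => e1 a), Finset.sum_add_distrib, hφ, zero_add,
        ← Finset.sum_filter]
      simp only [F, ind, ite_zero_mul_ite_zero, one_mul, Finset.sum_boole, S, Z, Finset.filter_filter, and_assoc]
    rw [hyy, hcu] at heq
    have hspos : 0 < #(S x) := Finset.card_pos.mpr ⟨u, Finset.mem_filter.mpr ⟨Finset.mem_filter.mpr ⟨Finset.mem_univ _, hu0⟩, hu⟩⟩
    have h5 : ((2 * #(S x) : ℕ) : ZMod p) = (c : ZMod p) := by push_cast; exact heq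
    rw [ZMod.natCast_eq_natCast_iff', Nat.mod_eq_of_lt hsmall, Nat.mod_eq_of_lt (by omega)] at h5
    omega
  exact hnp

end Cfsg.Lib.SchurCyclic
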