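import Cfsg.Statements.S3559
import Cfsg.Agent.SchurCyclic

set_option autoImplicit false
open Cfsg

namespace Cfsg.Agent.S3559

/-- Let G act faithfully and transitively on a finite set whose number of points n ≥ 2 is not a prime power, and suppose G has a cyclic subgroup acting regularly (transitively with trivial point stabilizers). Then G is imprimitive or doubly transitive. -/
theorem result {G Ω : Type*} [Group G] [Finite G] [MulAction G Ω] [FaithfulSMul G Ω] [Finite Ω]
    (htrans : MulAction.IsPretransitive G Ω) (hn : 2 ≤ Nat.card Ω) (hnp : ¬ IsPrimePow (Nat.card Ω))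
    (C : Subgroup G) (hcyc : IsCyclic ↥C) (hC : MulAction.IsPretransitive ↥C Ω ∧ ∀ a : Ω, MulAction.stabilizer ↥C a = ⊥) :
    ¬ MulAction.IsPreprimitive G Ω ∨ MulAction.IsMultiplyPretransitive G Ω 2 := by
  classical
  haveI := Fintype.ofFinite Ω
  obtain ⟨htC, hstab⟩ := hC
  rw [or_iff_not_imp_right]
  intro h2 hprim
  set N := Nat.card Ω with hN
  haveI : NeZero N := ⟨by omega⟩
  haveI : Nonempty Ω := (Nat.card_pos_iff.mp (by omega)).1
  let w : Ω := Classical.arbitrary Ω
  obtain ⟨c, hc⟩ := hcyc.exists_generator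
  have hbij : Function.Bijective (fun x : C => x • w) := by
    refine ⟨fun x y h => ?_, fun a => htC.exists_smul_eq w a⟩
    have h1 : y⁻¹ * x ∈ MulAction.stabilizer C w := by
      rw [MulAction.mem_stabilizer_iff, mul_smul, show x • w = y • w from h, inv_smul_smul]
    rw [hstab w, Subgroup.mem_bot, inv_mul_eq_one] at h1
    exact h1.symm
  have hord : orderOf c = N := by
    rw [orderOf_eq_card_of_forall_mem_zpowers hc, Nat.card_congr (Equiv.ofBijective _ hbij)]
  let φ : ZMod N → C := fun i => c ^ i.val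
  have hφ : ∀ i k, φ (i + k) = φ k * φ i := by
    intro i k
    simp only [φ, ← pow_add]
    rw [ZMod.val_add, pow_eq_pow_iff_modEq, hord, Nat.ModEq, Nat.mod_mod, add_comm]
  have hφbij : Function.Bijective φ := by
    refine (Nat.bijective_iff_injective_and_card φ).mpr ⟨fun i k h => ?_, ?_⟩
    · simp only [φ, pow_inj_mod, hord] at h
      rw [Nat.mod_eq_of_lt (ZMod.val_lt i), Nat.mod_eq_of_lt (ZMod.val_lt k)] at h
      exact ZMod.val_injective N h
    · rw [Nat.card_zmod, Nat.card_congr (Equiv.ofBijective _ hbij)]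
  let e : ZMod N ≃ Ω := (Equiv.ofBijective φ hφbij).trans (Equiv.ofBijective _ hbij)
  let R : Subgroup (Equiv.Perm Ω) := (MulAction.toPermHom G Ω).range
  obtain ⟨p, hp, hpN⟩ := Nat.exists_prime_and_dvd (show N ≠ 1 by omega)
  refine Cfsg.Lib.SchurCyclic.not_isPreprimitive hp hpN (fun h => hnp (h ▸ hp.isPrimePow)) R e
    (fun k => ⟨MulAction.toPermHom G Ω ((φ k : C) : G), ⟨_, rfl⟩, fun i => ?_⟩) ?_ ?_
  · show ((φ k : C) : G) • (φ i • w) = φ (i + k) • w
    rw [hφ, mul_smul]; rfl
  · intro hR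
    apply h2
    rw [MulAction.is_two_pretransitive_iff] at hR ⊢
    intro a b u v hab huv
    obtain ⟨⟨_, g, rfl⟩, hga, hgb⟩ := hR hab huv
    exact ⟨g, hga, hgb⟩
  · haveI : MulAction.IsPretransitive R Ω :=
      ⟨fun a b => by
        obtain ⟨g, hg⟩ := htrans.exists_smul_eq a b
        exact ⟨⟨_, g, rfl⟩, hg⟩⟩
    refine ⟨fun {B} hB => hprim.isTrivialBlock_of_isBlock ?_⟩
    rw [MulAction.isBlock_iff_smul_eq_of_mem]
    intro g a ha hga
    exact hB.smul_eq_of_mem (g := ⟨MulAction.toPermHom G Ω g, g, rfl⟩) ha hga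

end Cfsg.Agent.S3559
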