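import Cfsg.Agent.Elementary.HammingPrimitive
import Mathlib
import Cfsg.Statements.S3560
-- import your own Cfsg.Agent.* helpers here

set_option autoImplicit false
open Cfsg

namespace Cfsg.Agent.S3560

/-- Let K be a finite group isomorphic to a direct product of r ≥ 2 groups all of the same order m ≥ 3. Then K is not a B-group: there is a primitive but not doubly transitive permutation group (on some finite set) containing a regular subgroup isomorphic to K. -/
theorem result {K : Type*} [Group K] [Finite K] {ι : Type*} [Fintype ι] (F : ι → Type*) [∀ i, Group (F i)]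
    (hr : 2 ≤ Fintype.card ι) (m : ℕ) (hm : 3 ≤ m) (hcard : ∀ i, Nat.card (F i) = m) (e : K ≃* (∀ i, F i)) :
    ∃ (n : ℕ) (G R : Subgroup (Equiv.Perm (Fin n))), R ≤ G ∧ Nonempty (↥R ≃* K) ∧
      MulAction.IsPretransitive ↥R (Fin n) ∧ (∀ a : Fin n, MulAction.stabilizer ↥R a = ⊥) ∧
      MulAction.IsPreprimitive ↥G (Fin n) ∧ ¬ MulAction.IsMultiplyPretransitive ↥G (Fin n) 2 := by
  classical
  haveI : ∀ i, Finite (F i) := fun i => Nat.finite_of_card_ne_zero (by rw [hcard]; omega)
  let u : ∀ i, F i ≃ Fin m := fun i => Finite.equivFinOfCardEq (hcard i)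
  let c : Fin (Fintype.card (ι → Fin m)) ≃ (ι → Fin m) := (Fintype.equivFin _).symm
  let w : (∀ i, F i) ≃ (ι → Fin m) := Equiv.piCongrRight u
  let L : K → ι → Equiv.Perm (Fin m) := fun k i => (u i).permCongr (Equiv.mulLeft (e k i))
  let φ : K →* Equiv.Perm (Fin (Fintype.card (ι → Fin m))) :=
    MonoidHom.mk' (fun k => Cfsg.Lib.Hamming.mono c 1 (L k)) fun k l => Equiv.ext fun a => c.injective (funext fun i => by
      simp [Cfsg.Lib.Hamming.mono_apply, L, mul_assoc])
  have hφ : ∀ k a i, c (φ k a) i = u i (e k i * (u i).symm (c a i)) := fun k a i => by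
    show c (Cfsg.Lib.Hamming.mono c 1 (L k) a) i = _
    simp [Cfsg.Lib.Hamming.mono_apply, L]
  have hfree : ∀ k a, φ k a = a → k = 1 := fun k a h => e.injective (funext fun i => by
    have := congrArg (fun z => c z i) h
    simp only [hφ] at this
    have h2 := (u i).injective (this.trans ((u i).apply_symm_apply _).symm)
    rw [map_one]; exact mul_eq_right.mp h2)
  obtain ⟨o⟩ : Nonempty (Fin (Fintype.card (ι → Fin m))) := ⟨Fintype.equivFin _ fun _ => ⟨0, by omega⟩⟩
  have hinj : Function.Injective φ := (injective_iff_map_eq_one φ).mpr fun k h => hfree k o (by rw [h]; rfl)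
  obtain ⟨i, j, hij⟩ := Fintype.exists_pair_of_one_lt_card (show 1 < Fintype.card ι by omega)
  haveI : NeZero m := ⟨by omega⟩
  have hthird : ∀ x y : Fin m, ∃ z, z ≠ x ∧ z ≠ y := fun x y => by
    obtain ⟨z, hz⟩ : ∃ z, z ∉ ({x, y} : Finset (Fin m)) := by
      refine (Finset.exists_mem_notMem_of_card_lt_card (t := Finset.univ) ?_).imp fun z hz => hz.2
      rw [Finset.card_univ, Fintype.card_fin]; exact (Finset.card_le_two).trans_lt (by omega)
    simp only [Finset.mem_insert, Finset.mem_singleton, not_or] at hz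
    exact ⟨z, hz⟩
  refine ⟨_, Cfsg.Lib.Hamming.isoGroup c, φ.range, ?_, ⟨(MonoidHom.ofInjective hinj).symm⟩, ⟨fun a b => ?_⟩, fun a => ?_,
    Cfsg.Lib.Hamming.isPreprimitive_isoGroup c hthird, Cfsg.Lib.Hamming.not_twoTransitive c (fun x => (hthird x x).imp fun z hz => hz.1) i j hij o⟩
  · rintro _ ⟨k, rfl⟩; exact Cfsg.Lib.Hamming.mono_mem c 1 (L k)
  · refine ⟨⟨φ (e.symm fun l => (u l).symm (c b l) * ((u l).symm (c a l))⁻¹), ⟨_, rfl⟩⟩, c.injective (funext fun l => ?_)⟩
    show c (φ _ a) l = c b l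
    rw [hφ, MulEquiv.apply_symm_apply, inv_mul_cancel_right, Equiv.apply_symm_apply]
  · rw [eq_bot_iff]
    rintro ⟨_, k, rfl⟩ hk
    rw [Subgroup.mem_bot]
    refine Subtype.ext ?_
    show φ k = 1
    rw [hfree k a hk, map_one]

end Cfsg.Agent.S3560
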