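import Cfsg.Statements.S3572
import Cfsg.Agent.DihedralBGroup.Main

set_option autoImplicit false
open Cfsg

namespace Cfsg.Agent.S3572

/-- A finite primitive permutation group containing a dihedral subgroup that acts regularly (transitively with trivial point stabilizers) is doubly transitive. -/
theorem result {G Ω : Type*} [Group G] [Finite G] [MulAction G Ω] [FaithfulSMul G Ω] [Finite Ω]
    (hprim : MulAction.IsPreprimitive G Ω) (D : Subgroup G) (m : ℕ) (hD : Nonempty (↥D ≃* DihedralGroup m))
    (hDreg : MulAction.IsPretransitive ↥D Ω ∧ ∀ a : Ω, MulAction.stabilizer ↥D a = ⊥) :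
    MulAction.IsMultiplyPretransitive G Ω 2 := by
  classical
  obtain ⟨e⟩ := hD
  have hm0 : m ≠ 0 := by
    rintro rfl
    have : Finite (DihedralGroup 0) := Finite.of_equiv _ e.toEquiv
    exact not_finite (DihedralGroup 0)
  have : NeZero m := ⟨hm0⟩
  rcases isEmpty_or_nonempty Ω with hΩ | ⟨⟨a₀⟩⟩
  · rw [MulAction.is_two_pretransitive_iff]
    intro a
    exact isEmptyElim a
  let φ : DihedralGroup m →* G := D.subtype.comp e.symm.toMonoidHom
  have hbij : Function.Bijective fun h : DihedralGroup m => φ h • a₀ := by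
    constructor
    · intro h h' hh
      have h1 : (e.symm h)⁻¹ * e.symm h' ∈ MulAction.stabilizer (↥D) a₀ := by
        rw [MulAction.mem_stabilizer_iff, mul_smul, inv_smul_eq_iff]
        exact hh.symm
      rw [hDreg.2, Subgroup.mem_bot, inv_mul_eq_one] at h1
      exact e.symm.injective h1
    · intro b
      obtain ⟨g, hg⟩ := hDreg.1.exists_smul_eq a₀ b
      refine ⟨e g, ?_⟩
      show (e.symm (e g) : G) • a₀ = b
      rw [e.symm_apply_apply]
      exact hg
  rcases Nat.lt_or_ge m 2 with hm | hm
  · have hcard : Nat.card Ω = 2 := by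
      rw [← Nat.card_eq_of_bijective _ hbij, DihedralGroup.nat_card]
      omega
    rw [MulAction.is_two_pretransitive_iff]
    intro a b c d hab hcd
    obtain ⟨g, hg⟩ := hprim.toIsPretransitive.exists_smul_eq a c
    refine ⟨g, hg, ?_⟩
    by_contra hne
    have hbc : g • b ≠ c := fun h => hab (MulAction.injective g (hg.trans h.symm))
    have : Fintype Ω := Fintype.ofFinite Ω
    have h3 : ({c, d, g • b} : Finset Ω).card = 3 :=
      Finset.card_eq_three.mpr ⟨c, d, g • b, hcd, hbc.symm, fun h => hne h.symm, rfl⟩
    have := Finset.card_le_univ ({c, d, g • b} : Finset Ω)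
    rw [Nat.card_eq_fintype_card] at hcard
    omega
  · exact Cfsg.Lib.DihedralB.two_pretransitive hm hprim φ a₀ hbij

end Cfsg.Agent.S3572
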