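import Mathlib
import Cfsg.Statements.S3573
-- import your own Cfsg.Agent.* helpers here

set_option autoImplicit false
open Cfsg

namespace Cfsg.Agent.S3573

/-- Let 1 ≤ k with 2k < n and consider the symmetric group of degree n acting on the k-subsets of an n-set. Let r be a prime dividing the number C(n,k) of k-subsets. If r is odd, then every permutation of order r fixes some k-subset if and only if r ≤ k and the remainder of k modulo r is at most the remainder of n modulo r. If r = 2, then every involution fixes some k-subset if and only if k is even or n is odd. -/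
theorem result (n k : ℕ) (hk : 1 ≤ k) (hkn : 2 * k < n) (r : ℕ) (hr : r.Prime) (hrd : r ∣ Nat.choose n k) :
    (r ≠ 2 → ((∀ σ : Equiv.Perm (Fin n), orderOf σ = r → ∃ s : Finset (Fin n), s.card = k ∧ s.image σ = s) ↔
      (r ≤ k ∧ k % r ≤ n % r))) ∧
    (r = 2 → ((∀ σ : Equiv.Perm (Fin n), orderOf σ = 2 → ∃ s : Finset (Fin n), s.card = k ∧ s.image σ = s) ↔
      (Even k ∨ Odd n))) := by
  classical
  haveI := Fact.mk hr
  have hrn : r ≤ n := by
    have h1 : r ∣ n.factorial := hrd.trans ⟨k.factorial * (n - k).factorial, by
      rw [← Nat.choose_mul_factorial_mul_factorial (show k ≤ n by omega), mul_assoc]⟩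
    exact (Nat.Prime.dvd_factorial hr).mp h1
  have key : (∀ σ : Equiv.Perm (Fin n), orderOf σ = r → ∃ s : Finset (Fin n), s.card = k ∧ s.image σ = s) ↔ k % r ≤ n % r := by
    constructor
    · intro hall
      obtain ⟨σ, hσ⟩ := (Equiv.Perm.exists_with_cycleType_iff (Fin n) (m := Multiset.replicate (n / r) r)).mpr
        ⟨by rw [Multiset.sum_replicate, smul_eq_mul, Fintype.card_fin]; exact Nat.div_mul_le_self n r,
         fun a ha => (Multiset.eq_of_mem_replicate ha) ▸ hr.two_le⟩
      have hne : n / r ≠ 0 := (Nat.div_pos hrn hr.pos).ne'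
      have hord : orderOf σ = r := by
        rw [← Equiv.Perm.lcm_cycleType, hσ, ← Nat.succ_pred hne]
        refine Nat.dvd_antisymm (Multiset.lcm_dvd.mpr fun b hb => by rw [Multiset.eq_of_mem_replicate hb]) (Multiset.dvd_lcm ?_)
        simp
      obtain ⟨s, hsk, hs⟩ := hall σ hord
      have hmem : ∀ x, x ∈ s ↔ σ x ∈ s := fun x => by
        constructor
        · intro hx; rw [← hs]; exact Finset.mem_image_of_mem _ hx
        · intro hx; rw [← hs] at hx; obtain ⟨y, hy, e⟩ := Finset.mem_image.mp hx; exact σ.injective e ▸ hy
      set f : Function.End s := fun x => ⟨σ x.1, (hmem x.1).mp x.2⟩ with hf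
      have hit : ∀ (i : ℕ) (x : s), ((f^[i] x : s) : Fin n) = (σ ^ i) x.1 := by
        intro i
        induction i with
        | zero => intro x; rfl
        | succ i ih => intro x; rw [Function.iterate_succ_apply', pow_succ', Equiv.Perm.mul_apply, ← ih x]
      have hfr : f^[r ^ 1] = id := funext fun x => Subtype.ext (by
        rw [hit, pow_one, ← hord, pow_orderOf_eq_one]; rfl)
      have hmod := Equiv.Perm.card_fixedPoints_modEq (p := r) (n := 1) hfr
      rw [Fintype.card_coe, hsk] at hmod
      have hfix : Fintype.card (Function.fixedPoints f) ≤ n % r := by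
        have hsupp : σ.support.card = n / r * r := by rw [← σ.sum_cycleType, hσ, Multiset.sum_replicate, smul_eq_mul]
        calc Fintype.card (Function.fixedPoints f) ≤ Fintype.card ↥(σ.supportᶜ) :=
              Fintype.card_le_of_injective (fun x => ⟨x.1.1, Finset.mem_compl.mpr (fun h => Equiv.Perm.mem_support.mp h (congrArg Subtype.val x.2))⟩)
                (fun a b h => Subtype.ext (Subtype.ext (congrArg (fun t : ↥(σ.supportᶜ) => (t : Fin n)) h)))
          _ = n % r := by
            rw [Fintype.card_coe, Finset.card_compl, hsupp, Fintype.card_fin]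
            have := Nat.div_add_mod' n r; omega
      calc k % r = Fintype.card (Function.fixedPoints f) % r := hmod
        _ ≤ _ := (Nat.mod_le _ _).trans hfix
    · intro hkr σ hσ
      obtain ⟨i, hi⟩ := Equiv.Perm.cycleType_prime_order (hσ ▸ hr)
      rw [hσ] at hi
      set F := σ.cycleFactorsFinset
      have hF : F.card = i + 1 := by
        have := congrArg Multiset.card hi
        rwa [Equiv.Perm.cycleType_def, Multiset.card_map, Multiset.card_replicate] at this
      have hFr : ∀ c ∈ F, c.support.card = r := fun c hc => by
        have : c.support.card ∈ σ.cycleType := by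
          rw [Equiv.Perm.cycleType_def]; exact Multiset.mem_map_of_mem _ hc
        rw [hi] at this; exact Multiset.eq_of_mem_replicate this
      have hsupp : σ.support.card = (i + 1) * r := by rw [← σ.sum_cycleType, hi, Multiset.sum_replicate, smul_eq_mul]
      obtain ⟨C, hC, hCc⟩ := Finset.exists_subset_card_eq (s := F) (n := min (k / r) (i + 1)) (by rw [hF]; exact min_le_right _ _)
      set U := C.biUnion fun c => c.support
      have hU : U.card = min (k / r) (i + 1) * r := by
        rw [Finset.card_biUnion, Finset.sum_congr rfl (fun c hc => hFr c (hC hc)), Finset.sum_const, hCc, smul_eq_mul]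
        intro a ha b hb hab
        exact (σ.cycleFactorsFinset_pairwise_disjoint (hC ha) (hC hb) hab).disjoint_support
      have hn : (i + 1) * r ≤ n := by rw [← hsupp]; exact (Finset.card_le_univ _).trans_eq (Fintype.card_fin n)
      have hbound : k - U.card ≤ (σ.supportᶜ).card := by
        rw [hU, Finset.card_compl, hsupp, Fintype.card_fin]
        rcases le_total (k / r) (i + 1) with h | h
        · rw [min_eq_left h]
          have h1 := Nat.div_add_mod' k r
          have h2 : n % r ≤ n - (i + 1) * r := by
            have e : n - (i + 1) * r + (i + 1) * r = n := Nat.sub_add_cancel hn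
            calc n % r = (n - (i + 1) * r + (i + 1) * r) % r := by rw [e]
              _ = (n - (i + 1) * r) % r := Nat.add_mul_mod_self_right _ _ _
              _ ≤ _ := Nat.mod_le _ _
          omega
        · rw [min_eq_right h]; omega
      obtain ⟨W, hW, hWc⟩ := Finset.exists_subset_card_eq hbound
      have hUle : U.card ≤ k := by
        rw [hU]; exact (Nat.mul_le_mul_right r (min_le_left _ _)).trans (Nat.div_mul_le_self k r)
      have hdisj : Disjoint U W := Finset.disjoint_left.mpr fun x hx hx' => by
        obtain ⟨c, hc, hxc⟩ := Finset.mem_biUnion.mp hx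
        exact Finset.mem_compl.mp (hW hx') (Equiv.Perm.mem_cycleFactorsFinset_support_le (hC hc) hxc)
      refine ⟨U ∪ W, by rw [Finset.card_union_of_disjoint hdisj, hWc]; omega, Finset.eq_of_subset_of_card_le ?_ (Finset.card_image_of_injective _ σ.injective).ge⟩
      intro y hy
      obtain ⟨x, hx, rfl⟩ := Finset.mem_image.mp hy
      rcases Finset.mem_union.mp hx with h | h
      · obtain ⟨c, hc, hxc⟩ := Finset.mem_biUnion.mp h
        refine Finset.mem_union_left _ (Finset.mem_biUnion.mpr ⟨c, hc, ?_⟩)
        rw [← (Equiv.Perm.mem_cycleFactorsFinset_iff.mp (hC hc)).2 x hxc]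
        exact Equiv.Perm.apply_mem_support.mpr hxc
      · rw [show σ x = x from Equiv.Perm.notMem_support.mp (Finset.mem_compl.mp (hW h))]
        exact Finset.mem_union_right _ h
  refine ⟨fun _ => key.trans ⟨fun h => ⟨?_, h⟩, fun h => h.2⟩, fun h2 => ?_⟩
  · by_contra hlt
    rw [Nat.mod_eq_of_lt (by omega : k < r)] at h
    have hz : r ∣ (n % r).choose k := by
      have hl := Choose.choose_modEq_choose_mod_mul_choose_div_nat (p := r) (n := n) (k := k)
      rw [Nat.mod_eq_of_lt (by omega : k < r), Nat.div_eq_of_lt (by omega : k < r), Nat.choose_zero_right, mul_one] at hl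
      exact (Nat.ModEq.dvd_iff hl dvd_rfl).mp hrd
    have hd2 : r ∣ (n % r).factorial := hz.trans ⟨k.factorial * (n % r - k).factorial, by
      rw [← Nat.choose_mul_factorial_mul_factorial h, mul_assoc]⟩
    exact absurd ((Nat.Prime.dvd_factorial hr).mp hd2) (by have := Nat.mod_lt n hr.pos; omega)
  · subst h2
    rw [key, Nat.even_iff, Nat.odd_iff]; omega

end Cfsg.Agent.S3573
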