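import Cfsg.Statements.S3583
import Cfsg.Agent.ClassSizePSL.OddLift

set_option autoImplicit false
open Cfsg

namespace Cfsg.Agent.S3583

/-- Let F be a finite field with q elements, where either q is even and q > 2, or q is odd and q ≥ 7, and let G be a finite group whose set of conjugacy class sizes equals that of PSL(2,F). Then G is the direct product of a normal subgroup isomorphic to PSL(2,F) and a central (hence abelian) subgroup: there are subgroups N and A of G with N normal and isomorphic to PSL(2,F), A contained in the centre, N ∩ A = 1 and NA = G. -/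
theorem result {F : Type*} [Field F] [Fintype F]
    (hq : (2 ∣ Fintype.card F ∧ 2 < Fintype.card F) ∨ (¬ 2 ∣ Fintype.card F ∧ 7 ≤ Fintype.card F))
    {G : Type*} [Group G] [Finite G]
    (h : Set.range (fun g : G => (Subgroup.centralizer ({g} : Set G)).index) = Set.range (fun g : (Matrix.ProjectiveSpecialLinearGroup (Fin 2) F) => (Subgroup.centralizer ({g} : Set (Matrix.ProjectiveSpecialLinearGroup (Fin 2) F))).index)) :
    ∃ N A : Subgroup G, N.Normal ∧ A ≤ Subgroup.center G ∧ N ⊓ A = ⊥ ∧ N ⊔ A = ⊤ ∧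
      Nonempty (N ≃* Matrix.ProjectiveSpecialLinearGroup (Fin 2) F) := by
  have hr := h.trans Cfsg.Lib.GLTwo.range_eq
  rcases hq with ⟨he, h2⟩ | ⟨hodd, h7⟩
  · haveI : CharP F 2 := ringChar.eq_iff.1
      (FiniteField.even_card_iff_char_two.2 (Nat.mod_eq_zero_of_dvd he))
    obtain ⟨r, hr1⟩ : ∃ r, Fintype.card F = r + 1 := ⟨Fintype.card F - 1, by omega⟩
    rw [Cfsg.Lib.GLTwo.even_range (by omega)] at hr
    refine Cfsg.Lib.ClassSizePSL.even_main (r := r) (Nat.odd_iff.2 (by omega)) (by omega) ?_ hr1
    rw [hr, hr1, Nat.add_sub_cancel, show (r + 1) ^ 2 - 1 = r * (r + 2) by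
      rw [show (r + 1) ^ 2 = r * (r + 2) + 1 by ring, Nat.add_sub_cancel],
      show r + 1 + 1 = r + 2 from rfl]
  · obtain ⟨a, b, D⟩ := Cfsg.Lib.ClassSizePSL.oddData_of_range hodd h7 h
    exact D.main rfl

end Cfsg.Agent.S3583
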