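import Cfsg.Statements.S3590
import Cfsg.Agent.SpecSympEight.Main

set_option autoImplicit false
open Cfsg

namespace Cfsg.Agent.S3590

/-- Let F be a finite field of characteristic 2. Then PSp(8,F) is not determined by its set of element orders, not even up to finitely many groups: for every bound there is a finite group of larger order with exactly the same set of element orders as PSp(8,F). -/
theorem result {F : Type*} [Field F] [Fintype F]
    [CharP F 2] (M : ℕ) :
    ∃ (H : Type) (_ : Group H) (_ : Fintype H), M < Fintype.card H ∧ Set.range (orderOf : H → ℕ) = Set.range (orderOf : Cfsg.PSp 4 F → ℕ) := by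
  classical
  obtain ⟨ζ, hζ⟩ := Cfsg.Lib.Known.AutPSLn.Invol.exists_root_free F
  obtain ⟨H, hG, hF, hc, hr⟩ := Cfsg.Lib.FiberSpectrum.exists_large
    (Cfsg.Lib.SpecSymp.trans (Cfsg.Lib.SpecSympEight.rhoMinus hζ))
    (Cfsg.Lib.SpecSymp.trans_ne_bot _) Nat.prime_two
    (Cfsg.Lib.SpecSymp.trans_pow _ Cfsg.Lib.SpecSympEight.two_smul_zero) M
  exact ⟨H, hG, hF, hc, hr.trans (Cfsg.Lib.SpecSymp.range_eq _ (Cfsg.Lib.SpecSympEight.upper hζ)
    (fun d hd => Cfsg.Lib.SpecSympEight.lower hζ hd) Cfsg.Lib.SpecSympEight.psp_dvd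
    fun d hd => Cfsg.Lib.SpecSympEight.psp_exists hd)⟩

end Cfsg.Agent.S3590
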