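import Cfsg.Statements.S3592
import Cfsg.Agent.Recognition.MathieuEleven.Eleven
-- import your own Cfsg.Agent.* helpers here

set_option autoImplicit false
open Cfsg

namespace Cfsg.Agent.S3592

/-- Let M be the Mathieu group M₁₁ (order 7920). If a finite group G has the same order as M and the same set of values of the function 'number of elements of order n' (taken over the element orders n that occur), then G is isomorphic to M. -/
theorem result {G : Type*} [Group G] [Finite G]
    (hcard : Nat.card G = Nat.card ↥Cfsg.Spor.M11)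
    (hnse : {c : ℕ | 0 < c ∧ ∃ n : ℕ, c = Nat.card {g : G // orderOf g = n}} =
      {c : ℕ | 0 < c ∧ ∃ n : ℕ, c = Nat.card {g : ↥Cfsg.Spor.M11 // orderOf g = n}}) :
    Nonempty (G ≃* ↥Cfsg.Spor.M11) := by
  have := Cfsg.Lib.Golay.isSimple_M11
  have hM : Nat.card ↥Cfsg.Spor.M11 = 7920 := Cfsg.Lib.Golay.card_M11
  refine Cfsg.Lib.MathieuEleven.equiv_M11_of_nse (hcard.trans hM) fun n hn => ?_
  obtain ⟨-, m, hm⟩ : {g : G | orderOf g = n}.ncard ∈
      {c : ℕ | 0 < c ∧ ∃ n : ℕ, c = Nat.card {g : ↥Cfsg.Spor.M11 // orderOf g = n}} :=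
    hnse ▸ ⟨hn, n, (Nat.card_coe_set_eq _).symm⟩
  rw [hm]
  show Nat.card ↥{g : ↥Cfsg.Spor.M11 | orderOf g = m} = 1 ∨ _
  rw [Nat.card_coe_set_eq, show Nat.card {g : ↥Cfsg.Spor.M11 // orderOf g = m} =
    {g : ↥Cfsg.Spor.M11 | orderOf g = m}.ncard from Nat.card_coe_set_eq _]
  by_cases h1 : m = 1
  · left
    rw [h1, Set.ncard_eq_one]
    exact ⟨1, by ext g; simp [orderOf_eq_one_iff]⟩
  by_cases h11 : m = 11
  · right; left
    rw [h11]
    exact Cfsg.Lib.MathieuEleven.ncard_order_eleven_simple hM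
  · right; right
    exact Cfsg.Lib.MathieuEleven.eleven_dvd_ncard_order hM h1 h11

end Cfsg.Agent.S3592
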