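import Cfsg.Statements.S3593
import Cfsg.Agent.M12Nse.Main

set_option autoImplicit false
open Cfsg

namespace Cfsg.Agent.S3593

/-- Let M be the Mathieu group M₁₂ (order 95040). If a finite group G has the same order as M and the same set of values of the function 'number of elements of order n' (taken over the element orders n that occur), then G is isomorphic to M. -/
theorem result {G : Type*} [Group G] [Finite G]
    (hcard : Nat.card G = Nat.card ↥Cfsg.Spor.M12)
    (hnse : {c : ℕ | 0 < c ∧ ∃ n : ℕ, c = Nat.card {g : G // orderOf g = n}} =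
      {c : ℕ | 0 < c ∧ ∃ n : ℕ, c = Nat.card {g : ↥Cfsg.Spor.M12 // orderOf g = n}}) :
    Nonempty (G ≃* ↥Cfsg.Spor.M12) := by
  have hG : Nat.card G = 95040 := hcard.trans Cfsg.Lib.M12Nse.card_M12
  refine Cfsg.Lib.M12Nse.iso_M12 ⟨hG, fun n => ?_⟩
  by_cases h : Nat.card {g : G // orderOf g = n} = 0
  · show Nat.card {g : G // orderOf g = n} ∈ Cfsg.Lib.M12Nse.nseVals
    simp [h, Cfsg.Lib.M12Nse.nseVals]
  · have hm : Nat.card {g : G // orderOf g = n} ∈
        {c : ℕ | 0 < c ∧ ∃ n : ℕ, c = Nat.card {g : G // orderOf g = n}} := ⟨Nat.pos_of_ne_zero h, n, rfl⟩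
    rw [hnse] at hm
    obtain ⟨-, m, hm⟩ := hm
    show Nat.card {g : G // orderOf g = n} ∈ Cfsg.Lib.M12Nse.nseVals
    rw [hm]
    exact Cfsg.Lib.M12Nse.m12_count_mem m

end Cfsg.Agent.S3593
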