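import Cfsg.Statements.S3596
import Cfsg.Agent.M24Nse.Main
import Cfsg.Agent.M24Nse.Census
import Cfsg.Agent.M24Nse.Spectrum

set_option autoImplicit false
open Cfsg

namespace Cfsg.Agent.S3596

/-- Let M be the Mathieu group M₂₄ (order 244823040). If a finite group G has the same order as M and the same set of values of the function 'number of elements of order n' (taken over the element orders n that occur), then G is isomorphic to M. -/
theorem result {G : Type*} [Group G] [Finite G]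
    (hcard : Nat.card G = Nat.card ↥Cfsg.M24)
    (hnse : {c : ℕ | 0 < c ∧ ∃ n : ℕ, c = Nat.card {g : G // orderOf g = n}} =
      {c : ℕ | 0 < c ∧ ∃ n : ℕ, c = Nat.card {g : ↥Cfsg.M24 // orderOf g = n}}) :
    Nonempty (G ≃* ↥Cfsg.M24) := by
  have hG : Nat.card G = 244823040 := hcard.trans Cfsg.Lib.M24Nse.card_M24
  refine Cfsg.Lib.M24Nse.iso_of_counts (Cfsg.Lib.M24Nse.counts ⟨hG, fun n => ?_, fun v hv => ?_⟩)
  · by_cases h : Nat.card {g : G // orderOf g = n} = 0
    · show Nat.card {g : G // orderOf g = n} ∈ Cfsg.Lib.M24Nse.nseVals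
      simp [h, Cfsg.Lib.M24Nse.nseVals]
    · have hm : Nat.card {g : G // orderOf g = n} ∈
          {c : ℕ | 0 < c ∧ ∃ n : ℕ, c = Nat.card {g : G // orderOf g = n}} := ⟨Nat.pos_of_ne_zero h, n, rfl⟩
      rw [hnse] at hm
      obtain ⟨-, m, hm⟩ := hm
      show Nat.card {g : G // orderOf g = n} ∈ Cfsg.Lib.M24Nse.nseVals
      rw [hm]
      exact Cfsg.Lib.M24Nse.m24_count_mem m
  · obtain ⟨m, hm⟩ := Cfsg.Lib.M24Nse.m24_count_surj v hv
    have hpos : ∀ w ∈ Cfsg.Lib.M24Nse.nseVals.tail, 0 < w := by decide +kernel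
    have h : v ∈ {c : ℕ | 0 < c ∧ ∃ n : ℕ, c = Nat.card {g : ↥Cfsg.M24 // orderOf g = n}} :=
      ⟨hpos v hv, m, hm.symm⟩
    rw [← hnse] at h
    obtain ⟨-, k, hk⟩ := h
    exact ⟨k, hk.symm⟩

end Cfsg.Agent.S3596
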