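import Cfsg.Statements.S3598
import Cfsg.Agent.ClassSizePSL.DegreeMultiset

set_option autoImplicit false
open Cfsg

namespace Cfsg.Agent.S3598

/-- Let p be a prime and F a field with p² elements. If a finite group G has, for every d, the same number of irreducible complex characters of degree d as PSL(2,F) (the same first column of the character table, with multiplicities), then G is isomorphic to PSL(2,F). -/
theorem result {F : Type*} [Field F] [Fintype F] (p : ℕ) (hp : p.Prime)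
    (hF : Fintype.card F = p ^ 2) {G : Type*} [Group G] [Finite G]
    (h : ∀ d : ℕ, Nat.card {χ : Cfsg.IrrCharacter G // (χ : G → ℂ) 1 = (d : ℂ)} =
      Nat.card {χ : Cfsg.IrrCharacter (Matrix.ProjectiveSpecialLinearGroup (Fin 2) F) // (χ : Matrix.ProjectiveSpecialLinearGroup (Fin 2) F → ℂ) 1 = (d : ℂ)}) :
    Nonempty (G ≃* Matrix.ProjectiveSpecialLinearGroup (Fin 2) F) := by
  classical
  obtain ⟨e, he⟩ := Cfsg.Lib.ClassSizePSL.Degrees.exists_equiv h
  have hp2 := hp.two_le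
  have h4 : 4 ≤ Fintype.card F := by rw [hF]; nlinarith
  have hperf := Cfsg.Lib.ClassSizePSL.psl_commutator_eq_top h4
  have huniq := Cfsg.Lib.ClassSizePSL.Degrees.eq_principal hperf e he
  have hcard := Cfsg.Lib.ClassSizePSL.Degrees.card_eq e he
  have hpsl := Cfsg.Lib.Classical.SmallPSL.card_psl (F := F) rfl
  rw [← hcard] at hpsl
  rcases hp.eq_two_or_odd' with rfl | hodd
  · have hq : Fintype.card F = 4 := by rw [hF]; rfl
    rw [hq] at hpsl
    norm_num at hpsl
    have hdeg : ∀ χ : Cfsg.IrrCharacter G, χ = ⟨fun _ => 1, Cfsg.Lib.Chars.isIrrCharacter_one⟩ ∨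
        4 ∣ Cfsg.Lib.Chars.deg (χ : G → ℂ) ∨ 3 ∣ Cfsg.Lib.Chars.deg (χ : G → ℂ) ∨
          5 ∣ Cfsg.Lib.Chars.deg (χ : G → ℂ) := fun χ => by
      rcases Cfsg.Lib.ClassSizePSL.Degrees.psl_deg_four hq (e χ) with h | h | h | h <;>
        rw [he] at h
      · exact .inl (huniq χ h)
      · exact .inr (.inl (by rw [h]))
      · exact .inr (.inr (.inr (by rw [h])))
      · exact .inr (.inr (.inl (by rw [h])))
    have hcases : ∀ x : G, x ≠ 1 → Cfsg.Lib.ClassSizePSL.cc x = 3 + 1 ∨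
        Cfsg.Lib.ClassSizePSL.cc x = 3 ∨ Cfsg.Lib.ClassSizePSL.cc x = 3 + 2 := by
      intro x hx
      have hord : orderOf x ∣ Cfsg.Lib.ClassSizePSL.cc x := by
        rw [← Nat.card_zpowers]
        exact Subgroup.card_dvd_of_le (Subgroup.zpowers_le.2
          (Subgroup.mem_centralizer_singleton_iff.2 rfl))
      have h1 : Cfsg.Lib.ClassSizePSL.cc x ≠ 1 := fun h => hx (orderOf_eq_one_iff.1
        (Nat.dvd_one.1 (h ▸ hord)))
      rcases Cfsg.Lib.ClassSizePSL.Degrees.cc_dvd_part (A := 4) (B := 3) (C := 5) (by norm_num)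
        (by norm_num) (by norm_num) (by norm_num) (by norm_num) (by norm_num) (by omega) hdeg hx
        with h | h | h
      · exact .inl (Nat.dvd_antisymm h (Cfsg.Lib.ClassSizePSL.Degrees.sq_dvd_cc Nat.prime_two
          (m := 15) (by omega) (by decide) (hord.trans h)))
      · exact .inr (.inl (((Nat.dvd_prime Nat.prime_three).1 h).resolve_left h1))
      · exact .inr (.inr (((Nat.dvd_prime Nat.prime_five).1 h).resolve_left h1))
    obtain ⟨-, K, iK, iKt, hK, ⟨f⟩⟩ := Cfsg.Lib.ClassSizePSL.Even.main_quot (P := G) (r := 3)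
      (by decide) le_rfl (by omega) hcases (fun x hx => .inr (by
        rcases hcases x hx with h | h | h
        · exact ⟨2, Nat.prime_two, IsPGroup.of_card (n := 2) h⟩
        · exact ⟨3, Nat.prime_three, IsPGroup.of_card (n := 1) h⟩
        · exact ⟨5, Nat.prime_five, IsPGroup.of_card (n := 1) h⟩))
    obtain ⟨g⟩ := Cfsg.Lib.ClassSizePSL.psl_congr (F := K) (K := F) (hK.trans hq.symm)
    exact ⟨f.trans g⟩
  · obtain ⟨j, hj⟩ := hodd
    obtain ⟨i, hi⟩ := Nat.even_mul_succ_self j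
    obtain ⟨u, hu, hq⟩ : ∃ u, Even u ∧ p ^ 2 = 4 * u + 1 :=
      ⟨j * (j + 1), ⟨i, hi⟩, by rw [hj]; ring⟩
    have hu1 : 1 ≤ u := by omega
    have hq' : Fintype.card F = 4 * u + 1 := hF.trans hq
    rw [show Nat.gcd 2 (Fintype.card F - 1) = 2 from Nat.gcd_eq_left ⟨2 * u, by omega⟩,
      show Fintype.card F ^ 2 - 1 = 2 * ((2 * u + 1) * (4 * u)) by
        rw [hq', show (4 * u + 1) ^ 2 = 2 * ((2 * u + 1) * (4 * u)) + 1 by ring,
          Nat.add_sub_cancel], hF] at hpsl
    obtain ⟨-, -, K, iK, iKt, hK, ⟨f⟩⟩ := (Cfsg.Lib.ClassSizePSL.Degrees.hyp_odd (G := G) hp hu hu1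
      hq (Nat.eq_of_mul_eq_mul_left two_pos (by rw [hpsl]; ring)) huniq fun χ => by
        rw [← he χ]; exact Cfsg.Lib.ClassSizePSL.Degrees.psl_deg hu1 hq' (e χ)).isSimple_and_psl
    obtain ⟨g⟩ := Cfsg.Lib.ClassSizePSL.psl_congr (F := K) (K := F) (hK.trans hF.symm)
    exact ⟨f.trans g⟩

end Cfsg.Agent.S3598
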