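import Mathlib
import Cfsg.Statements.S3622
-- import your own Cfsg.Agent.* helpers here

set_option autoImplicit false
open Cfsg

namespace Cfsg.Agent.S3622

/-- Let G be a group of permutations of a finite set, m ≥ 2, and α a point. Say a permutation σ is k-approximated by a set S of permutations if for every k points there is a member of S agreeing with σ at those points. Suppose every permutation that is (m-1)-approximated by the stabilizer of α in G lies in that stabilizer (the stabilizer is (m-1)-closed). Then every permutation that is m-approximated by G lies in G (G is m-closed). -/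
theorem result {Ω : Type*} [Finite Ω] (G : Subgroup (Equiv.Perm Ω)) (m : ℕ) (hm : 2 ≤ m) (α : Ω)
    (hclosed : ∀ σ : Equiv.Perm Ω,
      (∀ t : Fin (m - 1) → Ω, ∃ g ∈ MulAction.stabilizer ↥G α, ∀ i, (g : Equiv.Perm Ω) (t i) = σ (t i)) →
      σ ∈ G ∧ σ α = α) :
    ∀ σ : Equiv.Perm Ω, (∀ t : Fin m → Ω, ∃ g ∈ G, ∀ i, g (t i) = σ (t i)) → σ ∈ G := by
  intro σ hσ
  obtain ⟨m', rfl⟩ : ∃ m', m = m' + 1 := ⟨m - 1, by omega⟩
  obtain ⟨g, hg, hge⟩ := hσ fun _ => α
  have hgα : g α = σ α := hge 0
  obtain ⟨hτ, -⟩ := hclosed (g⁻¹ * σ) fun t => by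
    obtain ⟨k, hk, hke⟩ := hσ (Fin.cons α (fun i => t (Fin.cast (by omega) i)))
    have hkα : k α = σ α := by simpa using hke 0
    refine ⟨⟨g⁻¹ * k, mul_mem (inv_mem hg) hk⟩, MulAction.mem_stabilizer_iff.mpr ?_, fun i => ?_⟩
    · show (g⁻¹ * k) α = α
      rw [Equiv.Perm.mul_apply, hkα, Equiv.Perm.inv_eq_iff_eq, hgα]
    · show (g⁻¹ * k) (t i) = (g⁻¹ * σ) (t i)
      rw [Equiv.Perm.mul_apply, Equiv.Perm.mul_apply]
      have := hke (Fin.succ (Fin.cast (by omega) i))
      simp only [Fin.cons_succ, Fin.cast_cast, Fin.cast_eq_self] at this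
      rw [this]
  simpa using mul_mem hg hτ

end Cfsg.Agent.S3622
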