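import Cfsg.Statements.S3626
import Cfsg.Agent.Recognition.ReeCube.Spectrum
import Cfsg.Agent.Chev.GTwoOdd.ReeS.Final
-- import your own Cfsg.Agent.* helpers here

set_option autoImplicit false
open Cfsg

namespace Cfsg.Agent.S3626

/-- Let R be the small Ree group over the field with q = 3^(2m+1) ≥ 27 elements. Then there are finite groups of arbitrarily large order with exactly the same set of element orders as R × R × R. -/
theorem result {K : Type*} [Field K] [Fintype K] {m : ℕ} (hm : 1 ≤ m) (hK : Fintype.card K = 3 ^ (2 * m + 1)) (N : ℕ) :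
    ∃ (H : Type) (_ : Group H) (_ : Fintype H), N < Fintype.card H ∧
      Set.range (orderOf : H → ℕ) = Set.range (orderOf : ↥(Cfsg.Lie.twistedG2 K (3 ^ m)) × ↥(Cfsg.Lie.twistedG2 K (3 ^ m)) × ↥(Cfsg.Lie.twistedG2 K (3 ^ m)) → ℕ) := by
  obtain ⟨X, hX⟩ := Cfsg.Lib.Chev.Ree.exists_ree hK
  subst hX
  change ∃ (H : Type) (_ : Group H) (_ : Fintype H), N < Fintype.card H ∧
    Set.range (orderOf : H → ℕ) = Set.range (orderOf : ↥X.G1 × ↥X.G1 × ↥X.G1 → ℕ)
  haveI : Fact (Nat.Prime 3) := ⟨Nat.prime_three⟩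
  haveI := Cfsg.Lib.Chev.Ree.charP_three hK
  let L : Type := Shrink.{0} K
  letI : Fintype L := Fintype.ofFinite L
  let eK : L ≃+* K := Shrink.ringEquiv.{0} K
  have hL : Fintype.card L = 3 ^ (2 * X.m + 1) := by
    rw [← hK]; exact Fintype.card_congr eK.toEquiv
  haveI : CharP L 3 := Cfsg.Lib.Chev.Ree.charP_three hL
  let R₀ : Type := Shrink.{0} ↥X.G1
  let eR : R₀ ≃* ↥X.G1 := Shrink.mulEquiv
  haveI : Finite R₀ := Finite.of_equiv _ eR.symm.toEquiv
  let E := Cfsg.Agent.Spectra.TwistedTensor.Ext L N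
  haveI : Finite E := Finite.of_equiv _ SemidirectProduct.equivProd.symm
  letI : Fintype (R₀ × R₀ × E) := Fintype.ofFinite _
  refine ⟨R₀ × R₀ × E, inferInstance, inferInstance, ?_, ?_⟩
  · rw [← Nat.card_eq_fintype_card, Nat.card_prod, Nat.card_prod]
    have h1 : N < Nat.card E := by
      rw [Nat.card_congr SemidirectProduct.equivProd, Nat.card_prod]
      refine lt_of_lt_of_le ?_ (Nat.le_mul_of_pos_right _ Nat.card_pos)
      rw [Nat.card_congr Multiplicative.toAdd, Nat.card_fun, Nat.card_fin]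
      exact (Nat.lt_succ_self N).trans (Nat.lt_pow_self Finite.one_lt_card)
    refine h1.trans_le ((Nat.le_mul_of_pos_left _ Nat.card_pos).trans (Nat.le_mul_of_pos_left _ Nat.card_pos))
  · have hR : Set.range (orderOf : R₀ → ℕ) = Set.range (orderOf : ↥X.G1 → ℕ) := by
      ext d
      constructor
      · rintro ⟨x, rfl⟩; exact ⟨eR x, eR.orderOf_eq x⟩
      · rintro ⟨x, rfl⟩; exact ⟨eR.symm x, eR.symm.orderOf_eq x⟩
    have hO : ∀ d, d ∈ Set.range (orderOf : R₀ → ℕ) ↔ (d ∣ 6 ∨ d ∣ 9 ∨ d ∣ Fintype.card K - 1 ∨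
        d ∣ 2 * Cfsg.Lib.ReeStruct.nn X ∨ d ∣ Cfsg.Lib.ReeStruct.lo X ∨ d ∣ Cfsg.Lib.ReeStruct.hi X) := fun d => by
      rw [hR]; exact Cfsg.Lib.ReeStruct.element_orders X hm d
    have hE := Cfsg.Agent.Recognition.ReeCube.ext_spectrum (K := L) (α := 2 * X.m + 1) (by omega) ⟨X.m, rfl⟩ hL N
    have hnn : (3 ^ (2 * X.m + 1) + 1) / 2 = 2 * Cfsg.Lib.ReeStruct.nn X := by
      have h4 : 3 ^ (2 * X.m + 1) % 4 = 3 := by
        rw [pow_succ, pow_mul, Nat.mul_mod, Nat.pow_mod]; norm_num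
      rw [Cfsg.Lib.ReeStruct.nn, hK]
      omega
    have h3 : Set.range (orderOf : R₀ × R₀ × E → ℕ) = Set.range (orderOf : R₀ × R₀ × R₀ → ℕ) := by
      refine Cfsg.Agent.Recognition.ReeCube.cube_range (Cfsg.Lib.ReeStruct.lo X) (Cfsg.Lib.ReeStruct.hi X) ?_
        (fun d hd => (hO d).2 (by tauto)) (fun d hd => (hO d).2 (by tauto)) ?_
      · intro d hd
        rw [hE] at hd
        obtain ⟨n, hn, hdn⟩ := hd
        simp only [Finset.mem_insert, Finset.mem_singleton] at hn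
        rw [hnn, ← hK] at hn
        refine (hO d).2 ?_
        rcases hn with rfl | rfl | rfl | rfl <;> tauto
      · intro d hd
        rw [hE, hnn, ← hK]
        simp only [Set.mem_ofPred_eq, Finset.mem_insert, Finset.mem_singleton, exists_eq_or_imp, exists_eq_left]
        have := (hO d).1 hd
        tauto
    rw [h3]
    let e3 : R₀ × R₀ × R₀ ≃* ↥X.G1 × ↥X.G1 × ↥X.G1 := MulEquiv.prodCongr eR (MulEquiv.prodCongr eR eR)
    ext d
    constructor
    · rintro ⟨x, rfl⟩; exact ⟨e3 x, e3.orderOf_eq x⟩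
    · rintro ⟨x, rfl⟩; exact ⟨e3.symm x, e3.symm.orderOf_eq x⟩

end Cfsg.Agent.S3626
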