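import Cfsg.Statements.S3627
import Cfsg.Agent.Spectra.JankoFourth

set_option autoImplicit false
open Cfsg

namespace Cfsg.Agent.S3627

open Cfsg.Agent.Spectra.JankoFourth

/-- Let J be the first Janko group. Then there are finite groups of arbitrarily large order with exactly the same set of element orders as J × J × J × J. -/
theorem result (N : ℕ) : ∃ (H : Type) (_ : Group H) (_ : Fintype H), N < Fintype.card H ∧
      Set.range (orderOf : H → ℕ) = Set.range (orderOf : ↥Cfsg.Spor.J1 × ↥Cfsg.Spor.J1 × ↥Cfsg.Spor.J1 × ↥Cfsg.Spor.J1 → ℕ) := by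
  haveI := Cfsg.Lib.Janko.finite_J
  haveI : Finite (Frob (N + 1)) := Nat.finite_of_card_ne_zero (by rw [card_frob]; positivity)
  refine ⟨Twin (N + 1), inferInstance, Fintype.ofFinite _, ?_, twin_spectrum (N + 1) N.succ_pos⟩
  rw [Fintype.card_eq_nat_card]
  have h1 : N < Nat.card (Frob (N + 1)) := by
    rw [card_frob]
    have := Nat.lt_pow_self (n := N + 1) (a := 1331) (by norm_num)
    omega
  refine h1.trans_le ?_
  exact Nat.card_le_card_of_injective (fun x => (1, 1, 1, x)) fun x y h => by simpa using h

end Cfsg.Agent.S3627
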