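import Cfsg.Statements.S3648
import Cfsg.Agent.NseProjLine.Target
import Cfsg.Agent.NseProjLine.Struct
-- import your own Cfsg.Agent.* helpers here

set_option autoImplicit false
open Cfsg

namespace Cfsg.Agent.S3648

/-- For a finite group X let nse(X) be the set of values of the function 'number of elements of order k' over the element orders k that occur. Let F be a finite field of odd order q > 3 and P = PGL(2, F) = GL(2, F) modulo its centre. If G is a finite group with the same order as P and nse(G) = nse(P), then G is isomorphic to P. -/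
theorem result {F : Type*} [Field F] [Fintype F] (hodd : Odd (Fintype.card F)) (h3 : 3 < Fintype.card F)
    {G : Type*} [Group G] [Finite G] (hcard : Nat.card G = Nat.card (GL (Fin 2) F ⧸ Subgroup.center (GL (Fin 2) F)))
    (hnse : {c : ℕ | 0 < c ∧ ∃ n : ℕ, c = Nat.card {g : G // orderOf g = n}} = {c : ℕ | 0 < c ∧ ∃ n : ℕ, c = Nat.card {g : (GL (Fin 2) F ⧸ Subgroup.center (GL (Fin 2) F)) // orderOf g = n}}) :
    Nonempty (G ≃* (GL (Fin 2) F ⧸ Subgroup.center (GL (Fin 2) F))) := by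
  classical
  obtain ⟨p, hcp⟩ := CharP.exists F
  obtain ⟨⟨f, hf⟩, hp, hpf⟩ := FiniteField.card F p
  replace hpf : Fintype.card F = p ^ f := hpf
  have := Fact.mk hp
  have hpodd : p ≠ 2 := fun e => by
    have h : Odd (p ^ f) := hpf ▸ hodd
    rw [e, Nat.odd_pow_iff hf.ne'] at h
    exact absurd h (by decide)
  have h2 : (2 : F) ≠ 0 := Ring.two_ne_zero (by rw [ringChar.eq F p]; exact hpodd)
  set q := Fintype.card F
  have htwo := Cfsg.Lib.NseProjLine.cnt_target_two (F := F) h2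
  have hp' := Cfsg.Lib.NseProjLine.cnt_target_p hpf hcp
  have hcardP := Cfsg.Lib.NseProjLine.card_target (F := F)
  have hG : Nat.card G = q * (q ^ 2 - 1) := hcard.trans hcardP
  have hsq : ∃ n, Cfsg.Lib.SameOrder.cnt G n = q ^ 2 := by
    have hmem : q ^ 2 ∈ {c : ℕ | 0 < c ∧ ∃ n : ℕ, c = Nat.card {g : G // orderOf g = n}} := by
      rw [hnse]; exact ⟨pow_pos Fintype.card_pos 2, 2, htwo.symm⟩
    obtain ⟨-, n, hn⟩ := hmem
    exact ⟨n, hn.symm⟩
  have hval : ∀ n, Cfsg.Lib.SameOrder.cnt G n ≠ 0 → Cfsg.Lib.SameOrder.cnt G n = 1 ∨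
      Cfsg.Lib.SameOrder.cnt G n = q ^ 2 - 1 ∨ q ∣ Cfsg.Lib.SameOrder.cnt G n := by
    intro n hn
    have hmem : Cfsg.Lib.SameOrder.cnt G n ∈
        {c : ℕ | 0 < c ∧ ∃ n : ℕ, c = Nat.card {g : G // orderOf g = n}} :=
      ⟨Nat.pos_of_ne_zero hn, n, rfl⟩
    rw [hnse] at hmem
    obtain ⟨-, k, hk⟩ := hmem
    rcases eq_or_ne k 1 with rfl | hk1
    · exact Or.inl (hk.trans (Cfsg.Lib.SameOrder.cnt_one (G := Matrix.ProjGenLinGroup (Fin 2) F)))
    rcases eq_or_ne k p with rfl | hkp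
    · exact Or.inr (Or.inl (hk.trans hp'))
    · exact Or.inr (Or.inr (hk ▸ Cfsg.Lib.NseProjLine.cnt_target_dvd hpf hcp hk1 hkp))
  obtain ⟨h2G, hpG, hiso⟩ := Cfsg.Lib.NseProjLine.isolated_of_counts hp hpodd hf hpf hG hsq hval
  obtain ⟨F', iF, iFF, hF', ⟨e⟩⟩ :=
    Cfsg.Lib.NseProjLine.Hyp.exists_iso ⟨hp, hpodd, hf, hpf, h3, hG, h2G, hpG, hiso⟩
  let σ : F' ≃+* F := FiniteField.ringEquivOfCardEq (hF'.trans rfl)
  let ψ : GL (Fin 2) F' ≃* GL (Fin 2) F := Units.mapEquiv σ.mapMatrix.toMulEquiv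
  have hψ : (Subgroup.center (GL (Fin 2) F')).map ψ.toMonoidHom = Subgroup.center (GL (Fin 2) F) := by
    ext y
    rw [Subgroup.mem_map]
    constructor
    · rintro ⟨x, hx, rfl⟩
      refine Subgroup.mem_center_iff.2 fun g => ?_
      obtain ⟨g', rfl⟩ := ψ.surjective g
      show ψ g' * ψ x = ψ x * ψ g'
      rw [← map_mul, ← map_mul, Subgroup.mem_center_iff.1 hx g']
    · intro hy
      refine ⟨ψ.symm y, Subgroup.mem_center_iff.2 fun g => ψ.injective ?_, ψ.apply_symm_apply y⟩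
      rw [map_mul, map_mul, ψ.apply_symm_apply]
      exact Subgroup.mem_center_iff.1 hy (ψ g)
  exact ⟨e.trans (QuotientGroup.congr _ _ ψ hψ)⟩

end Cfsg.Agent.S3648
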