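import Cfsg.Statements.S3660
import Cfsg.Agent.Elementary.NaturalModulePowers

set_option autoImplicit false
open Cfsg

namespace Cfsg.Agent.S3660

/-- The prime graph of a finite group has the prime divisors of its order as vertices, two distinct primes p, q being joined when the group has an element of order pq; two groups have the same prime graph when they have the same prime divisors and the same joined pairs. Let F be a finite field of characteristic 2 with at least 4 elements. Then there are finite groups of arbitrarily large order with the same prime graph as PSL(2,F); in particular PSL(2,F) is not determined by its prime graph. -/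
theorem result {F : Type*} [Field F] [Fintype F] [CharP F 2] (hF : 4 ≤ Fintype.card F) (N : ℕ) :
    ∃ (H : Type) (_ : Group H) (_ : Finite H), N < Nat.card H ∧
      ((∀ p : ℕ, p.Prime → (p ∣ Nat.card (Matrix.ProjectiveSpecialLinearGroup (Fin 2) F) ↔ p ∣ Nat.card H)) ∧
      (∀ p q : ℕ, p.Prime → q.Prime → p ≠ q → ((∃ g : (Matrix.ProjectiveSpecialLinearGroup (Fin 2) F), orderOf g = p * q) ↔ (∃ g : H, orderOf g = p * q)))) := by
  classical
  have : Fact (Nat.Prime 2) := ⟨Nat.prime_two⟩
  obtain ⟨k, -, hk⟩ := FiniteField.card F 2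
  let K := GaloisField 2 k
  have : Fintype K := Fintype.ofFinite _
  have hK : Fintype.card K = Fintype.card F := by
    rw [← Nat.card_eq_fintype_card, GaloisField.card 2 k k.pos.ne', hk]
  let H := Cfsg.Lib.NatModule.Ext K N
  refine ⟨H, inferInstance, inferInstance, Cfsg.Lib.NatModule.le_card K N, ?_⟩
  have hspec : ∀ m, (∃ g : Matrix.ProjectiveSpecialLinearGroup (Fin 2) F, orderOf g = m) ↔
      ∃ g : Matrix.SpecialLinearGroup (Fin 2) K, orderOf g = m := by
    intro m
    have h1 := Cfsg.Lib.GLTwo.psl_spectrum (F := F) 2 m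
    have h2 := Cfsg.Lib.GLTwo.psl_spectrum (F := K) 2 m
    rw [hK] at h2
    refine (h1.trans h2.symm).trans ⟨?_, ?_⟩
    · rintro ⟨x, rfl⟩
      obtain ⟨s, rfl⟩ := QuotientGroup.mk'_surjective _ x
      exact ⟨s, (orderOf_injective _ Cfsg.Lib.GLTwo.prj_injective s).symm⟩
    · rintro ⟨s, rfl⟩
      exact ⟨Cfsg.Lib.GLTwo.prj s, orderOf_injective _ Cfsg.Lib.GLTwo.prj_injective s⟩
  have hdiv : ∀ {G : Type _} [Group G] [Finite G] (p : ℕ), p.Prime → (p ∣ Nat.card G ↔ ∃ g : G, orderOf g = p) := by
    intro G _ _ p hp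
    have := Fact.mk hp
    exact ⟨fun h => exists_prime_orderOf_dvd_card' p h, fun ⟨g, hg⟩ => hg ▸ orderOf_dvd_natCard g⟩
  constructor
  · intro p hp
    rw [hdiv p hp, hspec]
    by_cases h2 : p = 2
    · subst h2
      constructor
      · rintro ⟨g, hg⟩
        exact hg ▸ (orderOf_injective (SemidirectProduct.inr : Matrix.SpecialLinearGroup (Fin 2) K →* H)
          SemidirectProduct.inr_injective g ▸ orderOf_dvd_natCard _)
      · intro _
        rw [← hspec]
        exact (Cfsg.Lib.GLTwo.psl_spectrum (F := F) 2 2).2 (Or.inl dvd_rfl)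
    · have h4 : ¬ p ∣ 4 := fun h => h2 ((Nat.prime_dvd_prime_iff_eq hp Nat.prime_two).mp (hp.dvd_of_dvd_pow (n := 2) h))
      rw [← Cfsg.Lib.NatModule.exists_orderOf_iff (n := N) p h4]
      constructor
      · rintro ⟨g, hg⟩; exact hg ▸ orderOf_dvd_natCard g
      · intro h; have := Fact.mk hp; exact exists_prime_orderOf_dvd_card' p h
  · intro p q hp hq hpq
    rw [hspec, ← Cfsg.Lib.NatModule.exists_orderOf_iff (n := N) (p * q) ?_]
    intro h
    have h1 := (Nat.prime_dvd_prime_iff_eq hp Nat.prime_two).mp (hp.dvd_of_dvd_pow (n := 2) ((dvd_mul_right p q).trans h))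
    have h2 := (Nat.prime_dvd_prime_iff_eq hq Nat.prime_two).mp (hq.dvd_of_dvd_pow (n := 2) ((dvd_mul_left q p).trans h))
    exact hpq (h1.trans h2.symm)

end Cfsg.Agent.S3660
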