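import Cfsg.Statements.S3662
import Cfsg.Agent.PrimeGraph.GTwoFour

set_option autoImplicit false
open Cfsg

namespace Cfsg.Agent.S3662

/-- The prime graph of a finite group has the prime divisors of its order as vertices, two distinct primes p, q being joined when the group has an element of order pq; two groups have the same prime graph when they have the same prime divisors and the same joined pairs. Let F be the field with 4 elements and L the Chevalley group of type G₂ over F. There are finite groups of arbitrarily large order with the same prime graph as L. -/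
theorem result {F : Type*} [Field F] [Fintype F] (hF : Fintype.card F = 4) (N : ℕ) :
    ∃ (H : Type) (_ : Group H) (_ : Finite H), N < Nat.card H ∧
      ((∀ p : ℕ, p.Prime → (p ∣ Nat.card ↥(Cfsg.Lie.chevG2.group F) ↔ p ∣ Nat.card H)) ∧
      (∀ p q : ℕ, p.Prime → q.Prime → p ≠ q → ((∃ g : ↥(Cfsg.Lie.chevG2.group F), orderOf g = p * q) ↔ (∃ g : H, orderOf g = p * q)))) := by
  let e : F ≃+* Cfsg.Lib.PrimeGraph.KQuad := FiniteField.ringEquivOfCardEq (hF.trans Cfsg.Lib.PrimeGraph.KQuad.card_eq.symm)
  obtain ⟨i⟩ : Nonempty (↥(Cfsg.Lie.chevG2.group F) ≃* Cfsg.Lib.PrimeGraph.GF4) := ⟨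
    (Subgroup.equivMapOfInjective _ (Matrix.GeneralLinearGroup.map (n := Cfsg.Lie.chevG2.Idx) e.toRingHom) (fun a b h =>
      Units.ext (Matrix.map_injective (f := e.toRingHom) e.injective (congrArg Units.val h)))).trans
      (MulEquiv.subgroupCongr (Cfsg.Lib.Chev.Ok.map_group Cfsg.Lib.Chev.G2.ok e))⟩
  obtain ⟨H, iG, iF, hN, hd, he⟩ := Cfsg.Lib.PrimeGraph.unbounded_GF4 N
  refine ⟨H, iG, iF, hN, fun q hq => ?_, fun r s hr hs hrs => ?_⟩
  · refine Iff.trans ?_ (hd q hq)
    exact iff_of_eq (congrArg (q ∣ ·) (Nat.card_congr i.toEquiv))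
  · refine Iff.trans ?_ (he r s hr hs hrs)
    constructor
    · rintro ⟨x, hx⟩
      exact ⟨i x, (orderOf_injective i.toMonoidHom i.injective x).trans hx⟩
    · rintro ⟨x, hx⟩
      obtain ⟨z, rfl⟩ := i.surjective x
      exact ⟨z, (orderOf_injective i.toMonoidHom i.injective z).symm.trans hx⟩

end Cfsg.Agent.S3662
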