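import Cfsg.Statements.S3663
import Cfsg.Agent.Spectra.UThreeFourGraph.Twin
import Cfsg.Agent.S0278
import Cfsg.Agent.S0279

set_option autoImplicit false
open Cfsg

namespace Cfsg.Agent.S3663

open Cfsg.Agent.Spectra.UThreeFourGraph

variable {F : Type*} [Field F] [Fintype F]

theorem center_trivial (hF : Fintype.card F = 16) : Subgroup.center ↥(Cfsg.SU 3 F 4) = ⊥ :=
  Subgroup.card_eq_one.mp
    ((Cfsg.Agent.S0279.result (F := F) (q := 4) (by rw [hF]; norm_num) 3 (by norm_num)).trans (by norm_num))

theorem card_su (hF : Fintype.card F = 16) : Nat.card ↥(Cfsg.SU 3 F 4) = 62400 := by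
  have h := Cfsg.Agent.S0278.result (F := F) (q := 4) (by rw [hF]; norm_num) 3 (by norm_num)
  simp [Finset.prod_range_succ, Nat.even_iff] at h
  omega

/-- The matrices over the concrete field realised as a group in the lowest universe. -/
theorem exists_model (hF : Fintype.card F = 16) : ∃ (L : Type) (_ : Group L) (_ : Model L),
    Nonempty (L ≃* Cfsg.PSU 3 F 4) := by
  obtain ⟨φ, hφ⟩ := exists_hom hF
  haveI : CharP F 2 := charP_two hF
  let e : Cfsg.PSU 3 F 4 ≃* ↥(Cfsg.SU 3 F 4) :=
    (QuotientGroup.quotientMulEquivOfEq (center_trivial hF)).trans QuotientGroup.quotientBot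
  let ψ : Mat3 ≃+* Matrix (Fin 3) (Fin 3) F := (RingEquiv.ofBijective φ hφ).mapMatrix
  let ι : ↥(Cfsg.SU 3 F 4) →* Matrix (Fin 3) (Fin 3) F :=
    { toFun := fun x => ((x : Matrix.SpecialLinearGroup (Fin 3) F) : Matrix (Fin 3) (Fin 3) F)
      map_one' := rfl
      map_mul' := fun _ _ => rfl }
  have hι : Function.Injective ι := fun a b h => Subtype.ext (Subtype.ext h)
  let ρ : ↥(Cfsg.SU 3 F 4) →* Mat3 := ψ.symm.toMonoidHom.comp ι
  have hρ : Function.Injective ρ := ψ.symm.injective.comp hι
  have hmap : ∀ A : Mat3, (ψ A).map (fun a => (a * a) * (a * a)) = ψ (A.map fun a => (a * a) * (a * a)) := by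
    intro A
    ext i j
    simp [ψ]
  have hdet : ∀ A : Mat3, (ψ A).det = φ A.det := fun A => (RingHom.map_det φ A).symm
  have htr : ∀ A : Mat3, (ψ A).transpose = ψ A.transpose := fun A => by ext i j; simp [ψ]
  have hunit : ∀ g, UnitOne (ρ g) := by
    intro g
    have hψ : ψ (ρ g) = ι g := ψ.apply_symm_apply _
    refine ⟨ψ.injective ?_, hφ.1 ?_⟩
    · rw [map_mul, map_one, ← hmap, ← htr, hψ]
      exact (mem_SU_iff _).mp g.2
    · rw [← hdet, hψ, map_one]
      exact (g : Matrix.SpecialLinearGroup (Fin 3) F).2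
  have hlift : ∀ A : Mat3, UnitOne A → ∃ g, ρ g = A := by
    intro A hA
    have hd : (ψ A).det = 1 := by rw [hdet, hA.2, map_one]
    have hu : (ψ A).transpose * (ψ A).map (fun a => (a * a) * (a * a)) = 1 := by
      rw [htr, hmap, ← map_mul, hA.1, map_one]
    exact ⟨⟨⟨ψ A, hd⟩, (mem_SU_iff _).mpr hu⟩, ψ.symm_apply_apply A⟩
  let L : Subgroup Mat3ˣ := ρ.toHomUnits.range
  have hinj : Function.Injective ρ.toHomUnits := fun a b h => hρ (congrArg Units.val h)
  let η : ↥(Cfsg.SU 3 F 4) ≃* L := MonoidHom.ofInjective hinj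
  refine ⟨L, inferInstance,
    { rho := (Units.coeHom Mat3).comp L.subtype
      inj := fun a b h => Subtype.ext (Units.ext h)
      lift := fun A hA => by
        obtain ⟨g, hg⟩ := hlift A hA
        exact ⟨η g, hg⟩
      unitary := fun x => by
        obtain ⟨g, rfl⟩ := η.surjective x
        exact hunit g
      card := by rw [← Nat.card_congr η.toEquiv, card_su hF] }, ⟨η.symm.trans e.symm⟩⟩

/-- The prime graph of a finite group has the prime divisors of its order as vertices, two distinct primes p, q being joined when the group has an element of order pq; two groups have the same prime graph when they have the same prime divisors and the same joined pairs. Let F be the field with 16 elements and L = PSU(3,4) realised over F. There are finite groups of arbitrarily large order with the same prime graph as L. -/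
theorem result {F : Type*} [Field F] [Fintype F] (hF : Fintype.card F = 16) (N : ℕ) :
    ∃ (H : Type) (_ : Group H) (_ : Finite H), N < Nat.card H ∧
      ((∀ p : ℕ, p.Prime → (p ∣ Nat.card (Cfsg.PSU 3 F 4) ↔ p ∣ Nat.card H)) ∧
      (∀ p q : ℕ, p.Prime → q.Prime → p ≠ q → ((∃ g : (Cfsg.PSU 3 F 4), orderOf g = p * q) ↔ (∃ g : H, orderOf g = p * q)))) := by
  obtain ⟨L, _, M, ⟨e⟩⟩ := exists_model hF
  haveI := M.finite_L
  haveI := M.finite_twinBase
  haveI : Finite (M.Twin (N + 1)) := Finite.of_equiv _ SemidirectProduct.equivProd.symm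
  refine ⟨M.Twin (N + 1), inferInstance, inferInstance, ?_, fun p hp => ?_, fun p q hp hq hne => ?_⟩
  · rw [M.card_twin]
    have h1 : N + 1 < 5 ^ (12 * (N + 1)) := lt_of_le_of_lt (by omega) (Nat.lt_pow_self (by norm_num))
    have h2 := Nat.le_mul_of_pos_right (5 ^ (12 * (N + 1))) (Nat.card_pos (α := M.twinBase))
    omega
  · rw [← Nat.card_congr e.toEquiv]
    exact (M.same_graph (N + 1)).1 p hp
  · refine Iff.trans ⟨fun ⟨g, hg⟩ => ⟨e.symm g, by rw [e.symm.orderOf_eq, hg]⟩,
      fun ⟨g, hg⟩ => ⟨e g, by rw [e.orderOf_eq, hg]⟩⟩ ((M.same_graph (N + 1)).2 p q hp hq hne)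

end Cfsg.Agent.S3663
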