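import Cfsg.Statements.S3664
import Cfsg.Agent.PrimeGraph.SzEight
import Cfsg.Agent.PrimeGraph.PSpSixThree

set_option autoImplicit false
open Cfsg

namespace Cfsg.Agent.S3664

/-- The prime graph of a finite group has the prime divisors of its order as vertices, two distinct primes p, q being joined when the group has an element of order pq; two groups have the same prime graph when they have the same prime divisors and the same joined pairs. Let F be the field with 3 elements and L = PSp(6,F). There are finite groups of arbitrarily large order with the same prime graph as L (a prime graph shared by the orthogonal groups Ω₇(3) and PΩ⁺₈(3)). -/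
theorem result {F : Type*} [Field F] [Fintype F] (hF : Fintype.card F = 3) (N : ℕ) :
    ∃ (H : Type) (_ : Group H) (_ : Finite H), N < Nat.card H ∧
      ((∀ p : ℕ, p.Prime → (p ∣ Nat.card (Cfsg.PSp 3 F) ↔ p ∣ Nat.card H)) ∧
      (∀ p q : ℕ, p.Prime → q.Prime → p ≠ q → ((∃ g : (Cfsg.PSp 3 F), orderOf g = p * q) ↔ (∃ g : H, orderOf g = p * q)))) := by
  obtain ⟨H, iG, iF, hN, hd, he⟩ := Cfsg.Lib.PrimeGraph.SzEight.unbounded N
  obtain ⟨hq, hp⟩ := Cfsg.Lib.PrimeGraph.psp_six_three hF
  refine ⟨H, iG, iF, hN, fun p h => (hq p h).trans (hd p h).symm, fun r s hr hs hrs => ?_⟩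
  rcases lt_or_gt_of_ne hrs with h | h
  · exact (hp r s hr hs h).trans (he r s hr hs h).symm
  · rw [mul_comm]
    exact (hp s r hs hr h).trans (he s r hs hr h).symm

end Cfsg.Agent.S3664
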