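import Cfsg.Statements.S3668
import Cfsg.Agent.Small.DegreeGraph.Reduce.Cases

set_option autoImplicit false
open Cfsg

namespace Cfsg.Agent.S3668

/-- The character degree graph of a finite group has as vertices the primes dividing some irreducible complex character degree, two distinct primes being joined when their product divides some irreducible character degree; two groups have the same character degree graph when they have the same vertices and the same joined pairs. Let S be a finite non-abelian simple group of order less than 6000. If a finite group G has the same order as S and the same character degree graph as S, then G is isomorphic to S. -/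
theorem result {S : Type*} [Group S] [Finite S] [IsSimpleGroup S] (hS : ¬ IsMulCommutative S)
    (hlt : Nat.card S < 6000) {G : Type*} [Group G] [Finite G] (hcard : Nat.card G = Nat.card S) (hΓ : Cfsg.degreePrimes G = Cfsg.degreePrimes S ∧ Cfsg.degreeGraph G = Cfsg.degreeGraph S) :
    Nonempty (G ≃* S) := by
  open Cfsg.Lib.Small.DegreeGraph in
  have hmem := card_mem_of_lt hS hlt
  open Cfsg.Lib.Small.DegreeGraph in
  have hmem' : Nat.card S ∈ orders := hmem
  obtain ⟨hP, hA⟩ := hΓ
  have hyp : Cfsg.Lib.Small.DegreeGraph.Hyp G (Nat.card S) :=
    { card := hcard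
      mem := hmem'
      top := hP ▸ Cfsg.Lib.Small.DegreeGraph.topPrime_mem hmem'
      odd := fun h => by
        rw [hP]
        simp only [List.mem_cons, List.not_mem_nil, or_false] at h
        rcases h with e | e | e | e <;> simp only [Cfsg.Lib.Small.DegreeGraph.oddPrime, e] <;> norm_num
        · exact Cfsg.Lib.Small.DegreeGraph.two_mem_168 e
        · exact (Cfsg.Lib.Small.DegreeGraph.data_504 e).1
        · exact (Cfsg.Lib.Small.DegreeGraph.degreePrimes_2520 e).1
        · exact (Cfsg.Lib.Small.DegreeGraph.degreePrimes_5616 e).1 }
  have : Fact (Cfsg.Lib.Small.DegreeGraph.topPrime (Nat.card S)).Prime :=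
    ⟨Cfsg.Lib.Small.DegreeGraph.topPrime_prime hmem'⟩
  have : IsSimpleGroup G := hyp.isSimpleGroup
    (fun e => hA ▸ (Cfsg.Lib.Small.DegreeGraph.data_504 e).2)
    (fun e => hA ▸ Cfsg.Lib.Small.DegreeGraph.adj_360 e)
    (fun e => hP ▸ (Cfsg.Lib.Small.DegreeGraph.degreePrimes_2520 e).2.1)
  exact Cfsg.Lib.Small.DegreeGraph.nonempty_equiv hmem' hcard

end Cfsg.Agent.S3668
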