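import Cfsg.Agent.Small.Toolkit
import Cfsg.Agent.S0157
import Cfsg.Agent.Classical.Misc.SixtyGroup
import Cfsg.Agent.Blocks.ItoDegrees
import Mathlib
import Cfsg.Statements.S3669
-- import your own Cfsg.Agent.* helpers here

set_option autoImplicit false
open Cfsg

namespace Cfsg.Agent.S3669

/-- The character degree graph of a finite group has as vertices the primes dividing some irreducible complex character degree, two distinct primes being joined when their product divides some irreducible character degree; two groups have the same character degree graph when they have the same vertices and the same joined pairs. A finite group of order 60 with the same character degree graph as the alternating group A₅ (whose character degrees are 1, 3, 4, 5, so the graph has vertices 2, 3, 5 and no edges) is isomorphic to A₅. -/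
theorem result {G : Type*} [Group G] [Finite G] (hcard : Nat.card G = 60)
    (hΓ : Cfsg.degreePrimes G = Cfsg.degreePrimes (alternatingGroup (Fin 5)) ∧ Cfsg.degreeGraph G = Cfsg.degreeGraph (alternatingGroup (Fin 5))) : Nonempty (G ≃* alternatingGroup (Fin 5)) := by
  classical
  haveI h5p := Fact.mk (show Nat.Prime 5 by norm_num)
  haveI h3p := Fact.mk (show Nat.Prime 3 by norm_num)
  -- five divides a degree of the alternating group
  have hA : 5 ∈ Cfsg.degreePrimes (alternatingGroup (Fin 5)) := by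
    haveI : IsSimpleGroup (alternatingGroup (Fin 5)) := alternatingGroup.isSimpleGroup (by simp)
    have hc : Nat.card (alternatingGroup (Fin 5)) = 60 := by rw [nat_card_alternatingGroup, Nat.card_fin]; rfl
    obtain ⟨P⟩ : Nonempty (Sylow 5 (alternatingGroup (Fin 5))) := inferInstance
    have hsyl : ∀ Q : Sylow 5 (alternatingGroup (Fin 5)), Nat.card (Q : Subgroup (alternatingGroup (Fin 5))) = 5 :=
      Cfsg.Lib.Classical.SixtyGroup.sylow_card_of (m := 12) (by omega) (by norm_num)
    have h6 : Nat.card (Sylow 5 (alternatingGroup (Fin 5))) = 6 := by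
      have h1 : Nat.card (Sylow 5 (alternatingGroup (Fin 5))) % 5 = 1 := card_sylow_modEq_one 5 _
      have h2 := Cfsg.Lib.Small.card_sylow_dvd P
      rw [hsyl, hc] at h2
      have h3 : Nat.card (Sylow 5 (alternatingGroup (Fin 5))) ∣ 12 := Nat.dvd_of_mul_dvd_mul_right (by norm_num) (show _ * 5 ∣ 12 * 5 from h2)
      have h4 := Nat.le_of_dvd (by norm_num) h3
      have h5 : Nat.card (Sylow 5 (alternatingGroup (Fin 5))) ≠ 1 := fun h1' => by
        haveI : Subsingleton (Sylow 5 (alternatingGroup (Fin 5))) := (Nat.card_eq_one_iff_unique.mp h1').1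
        rcases (P.normal_of_subsingleton).eq_bot_or_eq_top with e | e
        · have := hsyl P; rw [e, Subgroup.card_bot] at this; norm_num at this
        · have := hsyl P; rw [e, Subgroup.card_top, hc] at this; norm_num at this
      generalize Nat.card (Sylow 5 (alternatingGroup (Fin 5))) = k at *
      interval_cases k <;> omega
    have htrans : ∀ c y z : Sylow 5 (alternatingGroup (Fin 5)), y ≠ c → z ≠ c → ∃ g : alternatingGroup (Fin 5), g • c = c ∧ g • y = z := by
      intro c y z hy hz
      set O := MulAction.orbit (c : Subgroup (alternatingGroup (Fin 5))) y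
      have hfixc : ∀ k ∈ (c : Subgroup (alternatingGroup (Fin 5))), k • c = c := fun k hk => Sylow.smul_eq_iff_mem_normalizer.mpr (Subgroup.le_normalizer hk)
      have hO : O ⊆ {c}ᶜ := by
        rintro w ⟨k, rfl⟩ hw
        exact hy (smul_left_cancel (k : alternatingGroup (Fin 5)) ((show (k : alternatingGroup (Fin 5)) • y = c from hw).trans (hfixc k k.2).symm))
      have hdvd : O.ncard ∣ 5 := by
        have := (MulAction.stabilizer (c : Subgroup (alternatingGroup (Fin 5))) y).index_mul_card
        rw [MulAction.index_stabilizer, hsyl] at this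
        exact Dvd.intro _ this
      have hne1 : O.ncard ≠ 1 := by
        intro h1
        obtain ⟨w, hw⟩ := Set.ncard_eq_one.mp h1
        have hwy : y = w := by have : y ∈ O := MulAction.mem_orbit_self y; rwa [hw] at this
        refine hy (Sylow.ext ?_)
        have hle : (c : Subgroup (alternatingGroup (Fin 5))) ≤ Subgroup.normalizer ((y : Subgroup (alternatingGroup (Fin 5))) : Set (alternatingGroup (Fin 5))) := fun k hk => by
          refine Sylow.smul_eq_iff_mem_normalizer.mp ?_
          have : (⟨k, hk⟩ : (c : Subgroup (alternatingGroup (Fin 5)))) • y ∈ O := MulAction.mem_orbit y _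
          rw [hw] at this
          exact (show k • y = w from this).trans hwy.symm
        have hsup : IsPGroup 5 ((c : Subgroup (alternatingGroup (Fin 5))) ⊔ (y : Subgroup (alternatingGroup (Fin 5))) : Subgroup _) :=
          IsPGroup.to_sup_of_normal_right' c.2 y.2 hle
        exact (y.3 hsup le_sup_right).symm.trans (c.3 hsup le_sup_left)
      have h5 : O.ncard = 5 := ((Nat.dvd_prime h5p.out).mp hdvd).resolve_left hne1
      have hall : O = {c}ᶜ := Set.eq_of_subset_of_ncard_le hO (by rw [Set.ncard_compl, Set.ncard_singleton, h6, h5]) (Set.toFinite _)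
      obtain ⟨k, hk⟩ : z ∈ O := by rw [hall]; exact hz
      exact ⟨k, hfixc k k.2, hk⟩
    have h2t : MulAction.IsMultiplyPretransitive (alternatingGroup (Fin 5)) (Sylow 5 (alternatingGroup (Fin 5))) 2 := by
      refine MulAction.is_two_pretransitive_iff.mpr fun {a b c d} hab hcd => ?_
      obtain ⟨g, hg⟩ := MulAction.exists_smul_eq (alternatingGroup (Fin 5)) a c
      obtain ⟨h, hh1, hh2⟩ := htrans c (g • b) d (fun e => hab (smul_left_cancel g (hg.trans e.symm))) (Ne.symm hcd)
      exact ⟨h * g, by rw [mul_smul, hg, hh1], by rw [mul_smul, hh2]⟩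
    have hirr := (Cfsg.Agent.S0157.result (G := alternatingGroup (Fin 5)) (Sylow 5 (alternatingGroup (Fin 5))) (by omega)).mpr h2t
    refine ⟨h5p.out, 5, ⟨⟨_, hirr⟩, ?_⟩, dvd_rfl⟩
    show ⌊(((Nat.card (MulAction.fixedBy (Sylow 5 (alternatingGroup (Fin 5))) (1 : alternatingGroup (Fin 5))) : ℂ) - 1)).re⌋₊ = 5
    have h1 : Nat.card (MulAction.fixedBy (Sylow 5 (alternatingGroup (Fin 5))) (1 : alternatingGroup (Fin 5))) = 6 := by
      rw [MulAction.fixedBy_one_eq_univ, Nat.card_univ, h6]
    rw [h1]
    norm_num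
  -- Sylow subgroups of order five
  have hsylG : ∀ Q : Sylow 5 G, Nat.card (Q : Subgroup G) = 5 :=
    Cfsg.Lib.Classical.SixtyGroup.sylow_card_of (m := 12) (by omega) (by norm_num)
  have hnn : ∀ Q : Sylow 5 G, ¬ (Q : Subgroup G).Normal := fun Q hQn => by
    haveI := hQn
    rw [← hΓ.1] at hA
    obtain ⟨-, e, ⟨χ, rfl⟩, hdvd⟩ := hA
    obtain ⟨m, ρ, hρ, hρχ⟩ := χ.2
    haveI := hρ
    haveI : IsCyclic (Q : Subgroup G) := isCyclic_of_prime_card (hsylG Q)
    have hd := Cfsg.Agent.S0169.result ρ (Q : Subgroup G) fun a ha b hb =>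
      congrArg Subtype.val ((IsCyclic.commGroup (α := (Q : Subgroup G))).mul_comm ⟨a, ha⟩ ⟨b, hb⟩)
    have hdd : Cfsg.charDegree (χ : G → ℂ) = Module.finrank ℂ (Fin m → ℂ) := by
      apply Nat.cast_injective (R := ℂ)
      rw [show Cfsg.charDegree (χ : G → ℂ) = Cfsg.Lib.Chars.deg (χ : G → ℂ) from rfl, ← Cfsg.Lib.Chars.irr_apply_one_eq_deg χ, ← hρχ, ρ.char_one]
    rw [hdd] at hdvd
    exact Q.not_dvd_index (hdvd.trans hd)
  obtain ⟨P⟩ : Nonempty (Sylow 5 G) := inferInstance
  have hn6 : Nat.card (Sylow 5 G) = 6 := by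
    have h1 : Nat.card (Sylow 5 G) % 5 = 1 := card_sylow_modEq_one 5 _
    have h2 := Cfsg.Lib.Small.card_sylow_dvd P
    rw [hsylG, hcard] at h2
    have h3 : Nat.card (Sylow 5 G) ∣ 12 := Nat.dvd_of_mul_dvd_mul_right (by norm_num) (show _ * 5 ∣ 12 * 5 from h2)
    have h4 := Nat.le_of_dvd (by norm_num) h3
    have h5 : Nat.card (Sylow 5 G) ≠ 1 := fun h1' => by
      haveI : Subsingleton (Sylow 5 G) := (Nat.card_eq_one_iff_unique.mp h1').1
      exact hnn P P.normal_of_subsingleton
    generalize Nat.card (Sylow 5 G) = k at *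
    interval_cases k <;> omega
  have hN10 : ∀ Q : Sylow 5 G, Nat.card (Subgroup.normalizer ((Q : Subgroup G) : Set G)) = 10 := fun Q => by
    have h := Cfsg.Lib.Small.card_normalizer_mul Q
    rw [hn6, hcard] at h
    omega
  -- a normal subgroup of small order centralizes each element of order five
  have hcentral : ∀ (N : Subgroup G), (∀ g : G, ∀ n ∈ N, g * n * g⁻¹ ∈ N) → Nat.card N ≤ 4 → ∀ Q : Sylow 5 G, N ≤ Subgroup.centralizer ((Q : Subgroup G) : Set G) := by
    intro N hN hle Q n hn
    refine Subgroup.mem_centralizer_iff.mpr fun y hy => ?_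
    have hy5 : (⟨y, hy⟩ : (Q : Subgroup G)) ^ 5 = 1 := by
      exact (congrArg (fun k => (⟨y, hy⟩ : (Q : Subgroup G)) ^ k) (hsylG Q)).symm.trans pow_card_eq_one'
    have hy5' : y ^ 5 = 1 := congrArg Subtype.val hy5
    letI : MulAction (Subgroup.zpowers y) N :=
      { smul := fun g m => ⟨(g : G) * m * (g : G)⁻¹, hN _ _ m.2⟩
        one_smul := fun m => Subtype.ext (by show ((1 : Subgroup.zpowers y) : G) * _ * _ = _; simp)
        mul_smul := fun a b m => Subtype.ext (by
          show ((a * b : Subgroup.zpowers y) : G) * (m : G) * ((a * b : Subgroup.zpowers y) : G)⁻¹ = (a : G) * ((b : G) * (m : G) * (b : G)⁻¹) * (a : G)⁻¹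
          simp [mul_assoc]) }
    have hdvd : (MulAction.orbit (Subgroup.zpowers y) (⟨n, hn⟩ : N)).ncard ∣ 5 := by
      refine dvd_trans ?_ (Nat.card_zpowers y ▸ orderOf_dvd_of_pow_eq_one hy5')
      rw [← (MulAction.stabilizer (Subgroup.zpowers y) (⟨n, hn⟩ : N)).index_mul_card, MulAction.index_stabilizer]
      exact dvd_mul_right _ _
    have hlt : (MulAction.orbit (Subgroup.zpowers y) (⟨n, hn⟩ : N)).ncard ≤ 4 :=
      (Set.ncard_le_ncard (Set.subset_univ _) (Set.toFinite _)).trans (by rw [Set.ncard_univ]; exact hle)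
    have h1 : (MulAction.orbit (Subgroup.zpowers y) (⟨n, hn⟩ : N)).ncard = 1 :=
      ((Nat.dvd_prime h5p.out).mp hdvd).resolve_right (by omega)
    obtain ⟨w, hw⟩ := Set.ncard_eq_one.mp h1
    have h2 : (⟨y, Subgroup.mem_zpowers y⟩ : Subgroup.zpowers y) • (⟨n, hn⟩ : N) = (⟨n, hn⟩ : N) := by
      have a1 := MulAction.mem_orbit (⟨n, hn⟩ : N) (⟨y, Subgroup.mem_zpowers y⟩ : Subgroup.zpowers y)
      have a2 : (⟨n, hn⟩ : N) ∈ MulAction.orbit (Subgroup.zpowers y) (⟨n, hn⟩ : N) := MulAction.mem_orbit_self _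
      rw [hw, Set.mem_singleton_iff] at a1 a2
      exact a1.trans a2.symm
    exact mul_inv_eq_iff_eq_mul.mp (congrArg Subtype.val h2 : y * n * y⁻¹ = n)
  refine Cfsg.Lib.Classical.SixtyGroup.iso_alt_five (Cfsg.Lib.Classical.SixtyGroup.simple_of_sixty hcard fun N hN hc => ?_) hcard
  simp only [Finset.mem_insert, Finset.mem_singleton] at hc
  rcases eq_or_ne (Nat.card N) 5 with h5 | h5
  · obtain ⟨Q, hQ⟩ := (IsPGroup.of_card (n := 1) (h5.trans (pow_one 5).symm)).exists_le_sylow
    have := Subgroup.eq_of_le_of_card_ge hQ (by rw [hsylG, h5])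
    exact hnn Q (this ▸ hN)
  have hle : Nat.card N ≤ 4 := by omega
  have hd10 : Nat.card N ∣ 10 := by
    rw [← hN10 P]
    exact Subgroup.card_dvd_of_le ((hcentral N (fun g n hn => hN.conj_mem n hn g) hle P).trans (Subgroup.centralizer_le_normalizer _))
  have hN2 : Nat.card N = 2 := by
    rcases hc with e | e | e | e
    · exact e
    · rw [e] at hd10; norm_num at hd10
    · rw [e] at hd10; norm_num at hd10
    · exact absurd e h5
  -- Burnside transfer
  have hPN : Subgroup.normalizer ((P : Subgroup G) : Set G) ≤ Subgroup.centralizer ((P : Subgroup G) : Set G) := by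
    haveI : IsCyclic (P : Subgroup G) := isCyclic_of_prime_card (hsylG P)
    have hPc : (P : Subgroup G) ≤ Subgroup.centralizer ((P : Subgroup G) : Set G) := fun a ha => Subgroup.mem_centralizer_iff.mpr fun b hb =>
      congrArg Subtype.val ((IsCyclic.commGroup (α := (P : Subgroup G))).mul_comm ⟨b, hb⟩ ⟨a, ha⟩)
    have hNc := hcentral N (fun g n hn => hN.conj_mem n hn g) hle P
    have h1 : (P : Subgroup G) ⊔ N ≤ Subgroup.centralizer ((P : Subgroup G) : Set G) := sup_le hPc hNc
    have h5' : 5 ∣ Nat.card ((P : Subgroup G) ⊔ N : Subgroup G) := by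
      have h := Subgroup.card_dvd_of_le (le_sup_left : (P : Subgroup G) ≤ (P : Subgroup G) ⊔ N)
      rwa [hsylG] at h
    have h2' : 2 ∣ Nat.card ((P : Subgroup G) ⊔ N : Subgroup G) := hN2 ▸ Subgroup.card_dvd_of_le le_sup_right
    have h10 : 10 ∣ Nat.card ((P : Subgroup G) ⊔ N : Subgroup G) := Nat.Coprime.mul_dvd_of_dvd_of_dvd (show Nat.Coprime 2 5 by norm_num) h2' h5'
    have h3 := Subgroup.eq_of_le_of_card_ge (h1.trans (Subgroup.centralizer_le_normalizer _)) ((hN10 P).le.trans (Nat.le_of_dvd Nat.card_pos h10))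
    exact h3.ge.trans h1
  set K := (MonoidHom.transferSylow P hPN).ker
  have hK : K.IsComplement' (P : Subgroup G) := MonoidHom.ker_transferSylow_isComplement' P hPN
  have hK12 : Nat.card K = 12 := by
    have := hK.card_mul
    rw [hsylG P, hcard] at this
    omega
  haveI : K.Normal := MonoidHom.normal_ker _
  have hKi : K.index = 5 := by
    have := K.card_mul_index
    rw [hK12, hcard] at this
    omega
  obtain ⟨Q⟩ : Nonempty (Sylow 3 K) := inferInstance
  set R := (Q : Subgroup K).map K.subtype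
  have hR : Nat.card R = 3 := by
    rw [← Nat.card_congr (Subgroup.equivMapOfInjective _ _ K.subtype_injective).toEquiv]
    exact Cfsg.Lib.Classical.SixtyGroup.sylow_card_of (m := 4) (by omega) (by norm_num) Q
  have htop : Subgroup.normalizer (R : Set G) ⊔ K = ⊤ := Sylow.normalizer_sup_eq_top Q
  have h5N : 5 ∣ Nat.card (Subgroup.normalizer (R : Set G)) := by
    have h1 : K.relIndex (Subgroup.normalizer (R : Set G)) = 5 := by
      rw [← hKi, ← Subgroup.relIndex_top_right, ← htop, Subgroup.relIndex_sup_right]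
    exact h1 ▸ Subgroup.relIndex_dvd_card _ _
  obtain ⟨y, hy⟩ := exists_prime_orderOf_dvd_card' 5 h5N
  have hy' : orderOf (y : G) = 5 := by rw [Subgroup.orderOf_coe, hy]
  obtain ⟨S, hS⟩ := (IsPGroup.of_card (n := 1) (show Nat.card (Subgroup.zpowers (y : G)) = 5 ^ 1 by rw [Nat.card_zpowers, hy', pow_one])).exists_le_sylow
  have hSeq := Subgroup.eq_of_le_of_card_ge hS (by rw [hsylG, Nat.card_zpowers, hy'])
  letI : MulAction (Subgroup.zpowers (y : G)) R :=
    { smul := fun g m => ⟨(g : G) * m * (g : G)⁻¹, (Subgroup.mem_normalizer_iff.mp ((Subgroup.zpowers_le.mpr y.2) g.2) _).mp m.2⟩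
      one_smul := fun m => Subtype.ext (by show ((1 : Subgroup.zpowers (y : G)) : G) * _ * _ = _; simp)
      mul_smul := fun a b m => Subtype.ext (by
        show ((a * b : Subgroup.zpowers (y : G)) : G) * (m : G) * ((a * b : Subgroup.zpowers (y : G)) : G)⁻¹ = (a : G) * ((b : G) * (m : G) * (b : G)⁻¹) * (a : G)⁻¹
        simp [mul_assoc]) }
  have hRS : R ≤ Subgroup.normalizer ((S : Subgroup G) : Set G) := by
    intro r hr
    refine Subgroup.centralizer_le_normalizer _ (Subgroup.mem_centralizer_iff.mpr fun z hz => ?_)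
    rw [SetLike.mem_coe, ← hSeq] at hz
    have hdvd : (MulAction.orbit (Subgroup.zpowers (y : G)) (⟨r, hr⟩ : R)).ncard ∣ 5 := by
      rw [← hy', ← Nat.card_zpowers, ← (MulAction.stabilizer (Subgroup.zpowers (y : G)) (⟨r, hr⟩ : R)).index_mul_card, MulAction.index_stabilizer]
      exact dvd_mul_right _ _
    have hlt : (MulAction.orbit (Subgroup.zpowers (y : G)) (⟨r, hr⟩ : R)).ncard ≤ 3 :=
      (Set.ncard_le_ncard (Set.subset_univ _) (Set.toFinite _)).trans (by rw [Set.ncard_univ]; exact hR.le)
    obtain ⟨w, hw⟩ := Set.ncard_eq_one.mp (((Nat.dvd_prime h5p.out).mp hdvd).resolve_right (by omega))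
    have a1 := MulAction.mem_orbit (⟨r, hr⟩ : R) (⟨z, hz⟩ : Subgroup.zpowers (y : G))
    have a2 : (⟨r, hr⟩ : R) ∈ MulAction.orbit (Subgroup.zpowers (y : G)) (⟨r, hr⟩ : R) := MulAction.mem_orbit_self _
    rw [hw, Set.mem_singleton_iff] at a1 a2
    exact mul_inv_eq_iff_eq_mul.mp (congrArg Subtype.val (a1.trans a2.symm) : z * r * z⁻¹ = r)
  have := Subgroup.card_dvd_of_le hRS
  rw [hR, hN10] at this
  norm_num at this

end Cfsg.Agent.S3669
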