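import Cfsg.Statements.S3670
import Cfsg.Agent.Spectra.DegreeTwin.Solvable
import Cfsg.Agent.Spectra.DegreeTwin.Eigen
import Cfsg.Agent.S0278

set_option autoImplicit false
open Cfsg

namespace Cfsg.Agent.S3670

open Cfsg.Agent.Spectra Cfsg.Agent.Spectra.DegreeTwin

theorem triangle_psu {F : Type*} [Field F] [Fintype F] (hF : Fintype.card F = 9) :
    Triangle (Cfsg.PSU 3 F 3) := by
  obtain ⟨φ, hφ⟩ := exists_nine_hom hF
  haveI : CharP F 3 := by
    haveI : CharP Nine 3 := by
      haveI : Fact (Nat.Prime 3) := ⟨Nat.prime_three⟩
      exact charP_of_injective_algebraMap (algebraMap (ZMod 3) Nine).injective 3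
    exact charP_of_injective_ringHom hφ.1 3
  let e : Cfsg.PSU 3 F 3 ≃* ↥(Cfsg.SU 3 F 3) :=
    (QuotientGroup.quotientMulEquivOfEq (center_su φ)).trans QuotientGroup.quotientBot
  let ψ : Matrix (Fin 3) (Fin 3) Nine ≃+* Matrix (Fin 3) (Fin 3) F :=
    (RingEquiv.ofBijective φ hφ).mapMatrix
  let ι : ↥(Cfsg.SU 3 F 3) →* Matrix (Fin 3) (Fin 3) F :=
    { toFun := fun x => ((x : Matrix.SpecialLinearGroup (Fin 3) F) : Matrix (Fin 3) (Fin 3) F)
      map_one' := rfl
      map_mul' := fun _ _ => rfl }
  have hι : Function.Injective ι := fun a b h => Subtype.ext (Subtype.ext h)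
  refine Model.triangle
    { rho := ψ.symm.toMonoidHom.comp (ι.comp e.toMonoidHom)
      inj := ψ.symm.injective.comp (hι.comp e.injective)
      lift := fun A hA => ?_
      card := ?_ }
  · obtain ⟨g, hg⟩ := exists_su_of_unitOne φ hA
    refine ⟨e.symm g, ?_⟩
    show ψ.symm (ι (e (e.symm g))) = A
    rw [e.apply_symm_apply, RingEquiv.symm_apply_eq]
    exact hg
  · rw [Nat.card_congr e.toEquiv]
    have h := Cfsg.Agent.S0278.result (F := F) (q := 3) (by rw [hF]; norm_num) 3 (by norm_num)
    simp [Finset.prod_range_succ, Nat.even_iff] at h
    omega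

/-- The character degree graph of a finite group has as vertices the primes dividing some irreducible complex character degree, two distinct primes being joined when their product divides some irreducible character degree; two groups have the same character degree graph when they have the same vertices and the same joined pairs. Let F be the field with 9 elements and L = PSU(3,3) realised over F (order 6048). There is a finite solvable group of order 6048 with the same character degree graph as L; so L is not determined by its order together with its character degree graph. -/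
theorem result {F : Type*} [Field F] [Fintype F] (hF : Fintype.card F = 9) :
    ∃ (H : Type) (_ : Group H) (_ : Fintype H), Group.IsSolvable H ∧ Nat.card H = 6048 ∧ Cfsg.degreePrimes H = Cfsg.degreePrimes (Cfsg.PSU 3 F 3) ∧ Cfsg.degreeGraph H = Cfsg.degreeGraph (Cfsg.PSU 3 F 3) := by
  have : Finite (Cfsg.PSU 3 F 3) := inferInstance
  exact ⟨DegreeTwin.Twin, inferInstance, inferInstance, isSolvable_twin, card_twin,
    same_graph triangle_twin (triangle_psu hF)⟩

end Cfsg.Agent.S3670
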