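import Cfsg.Agent.S0721
import Cfsg.Agent.Elementary.PrimitiveFitting
import Mathlib
import Cfsg.Statements.S3680
-- import your own Cfsg.Agent.* helpers here

set_option autoImplicit false
open Cfsg

namespace Cfsg.Agent.S3680

/-- The socle of a finite primitive permutation group. Let a finite group G act faithfully and primitively on a set Ω, and let N be the subgroup generated by the minimal normal subgroups of G. Then either N is an elementary abelian p-group for some prime p and acts regularly on Ω (transitively with trivial point stabilizers), or N is isomorphic to a direct product of m ≥ 1 copies of a non-abelian simple group. -/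
theorem result {G Ω : Type*} [Group G] [Finite G] [MulAction G Ω] [FaithfulSMul G Ω] [Finite Ω]
    (hprim : MulAction.IsPreprimitive G Ω) (N : Subgroup G)
    (hN : N = sSup {V : Subgroup G | V.Normal ∧ V ≠ ⊥ ∧ ∀ M : Subgroup G, M.Normal → M ≤ V → M = ⊥ ∨ M = V}) :
    (∃ p : ℕ, p.Prime ∧ IsMulCommutative N ∧ (∀ x : N, x ^ p = 1) ∧
      MulAction.IsPretransitive N Ω ∧ ∀ ω : Ω, MulAction.stabilizer N ω = ⊥) ∨
    (∃ (T : Type) (_ : Group T) (m : ℕ), 1 ≤ m ∧ IsSimpleGroup T ∧ ¬ IsMulCommutative T ∧ Nonempty (N ≃* (Fin m → T))) := by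
  classical
  rcases subsingleton_or_nontrivial G with hG | hG
  · refine Or.inl ⟨2, Nat.prime_two, ⟨⟨fun a b => Subsingleton.elim _ _⟩⟩, fun x => Subsingleton.elim _ _, ⟨fun a b => ?_⟩, fun ω => Subsingleton.elim _ _⟩
    obtain ⟨g, hg⟩ := hprim.toIsPretransitive.exists_smul_eq a b
    refine ⟨1, ?_⟩
    rw [← hg, Subsingleton.elim g 1, one_smul, one_smul]
  haveI := hprim.toIsPretransitive
  haveI : Nontrivial Ω := Cfsg.Lib.PrimitiveFitting.nontrivial_space (X := G) inferInstance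
  obtain ⟨α⟩ : Nonempty Ω := inferInstance
  set S := {V : Subgroup G | V.Normal ∧ V ≠ ⊥ ∧ ∀ M : Subgroup G, M.Normal → M ≤ V → M = ⊥ ∨ M = V} with hS
  obtain ⟨M₁, hM₁⟩ : S.Nonempty := by
    obtain ⟨V, ⟨hVn, hV⟩, hmin⟩ := Set.exists_min_image {V : Subgroup G | V.Normal ∧ V ≠ ⊥} (fun V => Nat.card V) (Set.toFinite _) ⟨⊤, inferInstance, top_ne_bot⟩
    exact ⟨V, hVn, hV, fun M hMn hMV => or_iff_not_imp_left.mpr fun hM => Subgroup.eq_of_le_of_card_ge hMV (hmin M ⟨hMn, hM⟩)⟩
  -- facts about two different minimal normal subgroups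
  have hcommute : ∀ A ∈ S, ∀ B ∈ S, A ≠ B → ∀ a ∈ A, ∀ b ∈ B, a * b = b * a := by
    intro A hA B hB hne
    haveI := hA.1
    haveI := hB.1
    refine fun a ha b hb => Subgroup.commute_of_normal_of_disjoint A B hA.1 hB.1 (disjoint_iff.mpr ?_) a b ha hb
    rcases hA.2.2 (A ⊓ B) inferInstance inf_le_left with h | h
    · exact h
    rcases hB.2.2 (A ⊓ B) inferInstance inf_le_right with h' | h'
    · exact h'
    exact absurd (h.symm.trans h') hne
  have htr : ∀ A ∈ S, MulAction.IsPretransitive A Ω := fun A hA => by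
    haveI := hA.1
    exact Cfsg.Lib.PrimitiveFitting.normal_transitive hprim A hA.2.1
  have hfree : ∀ A ∈ S, ∀ c : G, (∀ a ∈ A, a * c = c * a) → ∀ y : Ω, c • y = y → c = 1 := fun A hA c hc y hy =>
    Cfsg.Lib.PrimitiveFitting.eq_one_of_fixed A (htr A hA) hc hy
  haveI hn1 := hM₁.1
  obtain ⟨T, hT, m, hTs, hm, ⟨e₁⟩⟩ := Cfsg.Agent.S0721.result M₁ hM₁.2.1 hM₁.2.2
  by_cases hTc : IsMulCommutative T
  · -- affine type
    have hc : ∀ a ∈ M₁, ∀ b ∈ M₁, a * b = b * a := fun a ha b hb =>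
      congrArg Subtype.val (e₁.injective (a₁ := ⟨a, ha⟩ * ⟨b, hb⟩) (a₂ := ⟨b, hb⟩ * ⟨a, ha⟩) (by
        rw [map_mul, map_mul]; funext i; exact hTc.is_comm.comm _ _))
    have huni : ∀ A ∈ S, A = M₁ := fun A hA => by
      by_contra hne
      refine hA.2.1 (((hM₁.2.2 A hA.1 fun a ha => ?_).resolve_right hne))
      rw [← Cfsg.Lib.PrimitiveFitting.centralizer_eq hprim M₁ hM₁.2.1 hc]
      exact Subgroup.mem_centralizer_iff.mpr fun b hb => (hcommute A hA M₁ hM₁ hne a ha b hb).symm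
    have hNM : N = M₁ := by
      rw [hN]
      exact le_antisymm (sSup_le fun A hA => (huni A hA).le) (le_sSup hM₁)
    obtain ⟨p, hp, hpd⟩ := Nat.exists_prime_and_dvd ((Subgroup.one_lt_card_iff_ne_bot M₁).mpr hM₁.2.1).ne'
    haveI := Fact.mk hp
    let V : Subgroup G :=
      { carrier := {x | x ∈ M₁ ∧ x ^ p = 1}
        one_mem' := ⟨one_mem M₁, one_pow p⟩
        mul_mem' := fun {a b} ha hb => ⟨mul_mem ha.1 hb.1, by
          rw [(show Commute a b from hc a ha.1 b hb.1).mul_pow, ha.2, hb.2, one_mul]⟩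
        inv_mem' := fun {a} ha => ⟨inv_mem ha.1, by rw [inv_pow, ha.2, inv_one]⟩ }
    have hV : V = M₁ := by
      refine (hM₁.2.2 V ⟨fun x hx g => ⟨hn1.conj_mem x hx.1 g, by rw [conj_pow, hx.2, mul_one, mul_inv_cancel]⟩⟩ fun x hx => hx.1).resolve_left fun e => ?_
      obtain ⟨x, hx⟩ := exists_prime_orderOf_dvd_card' p hpd
      have hm' : (x : G) ∈ V := ⟨x.2, by rw [← hx, ← Subgroup.orderOf_coe, pow_orderOf_eq_one]⟩
      rw [e, Subgroup.mem_bot] at hm'
      exact hp.ne_one (by rw [← hx, ← Subgroup.orderOf_coe, hm', orderOf_one])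
    subst hNM
    refine Or.inl ⟨p, hp, ⟨⟨fun a b => Subtype.ext (hc a a.2 b b.2)⟩⟩, fun x => Subtype.ext ?_, htr _ hM₁, fun y => (Subgroup.eq_bot_iff_forall _).mpr fun x hx => Subtype.ext (hfree _ hM₁ x (fun a ha => hc a ha x x.2) y hx)⟩
    rw [SubgroupClass.coe_pow, Subgroup.coe_one]
    exact (hV.ge x.2).2
  by_cases huni : ∀ A ∈ S, A = M₁
  · have hNM : N = M₁ := by
      rw [hN]
      exact le_antisymm (sSup_le fun A hA => (huni A hA).le) (le_sSup hM₁)
    subst hNM
    exact Or.inr ⟨T, hT, m, hm, hTs, hTc, ⟨e₁⟩⟩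
  push Not at huni
  obtain ⟨M₂, hM₂, hne⟩ := huni
  have hc12 : ∀ a ∈ M₁, ∀ b ∈ M₂, a * b = b * a := hcommute M₁ hM₁ M₂ hM₂ hne.symm
  -- the centralizer of the first is the second
  have hcen : ∀ c : G, (∀ a ∈ M₁, a * c = c * a) → c ∈ M₂ := fun c hc => by
    obtain ⟨b, hb⟩ := (htr M₂ hM₂).exists_smul_eq α (c • α)
    have h1 : (b : G)⁻¹ * c = 1 := hfree M₁ hM₁ _ (fun a ha => by
      rw [← mul_assoc, show a * (b : G)⁻¹ = (b : G)⁻¹ * a from hc12 a ha _ (inv_mem b.2), mul_assoc, hc a ha, mul_assoc]) α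
      (by rw [mul_smul, ← show (b : G) • α = c • α from hb, inv_smul_smul])
    rw [← inv_mul_eq_one.mp h1]
    exact b.2
  have huni2 : ∀ A ∈ S, A = M₁ ∨ A = M₂ := fun A hA => or_iff_not_imp_left.mpr fun h =>
    (hM₂.2.2 A hA.1 fun a ha => hcen a fun b hb => (hcommute A hA M₁ hM₁ h a ha b hb).symm).resolve_left hA.2.1
  have hNM : N = M₁ ⊔ M₂ := by
    rw [hN]
    refine le_antisymm (sSup_le fun A hA => ?_) (sup_le (le_sSup hM₁) (le_sSup hM₂))
    rcases huni2 A hA with h | h <;> rw [h]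
    exacts [le_sup_left, le_sup_right]
  -- the two are isomorphic
  have hex : ∀ a : M₁, ∃ b : M₂, (b : G) • α = (a : G)⁻¹ • α := fun a => (htr M₂ hM₂).exists_smul_eq α _
  choose φ hφ using hex
  have hφinj : ∀ b b' : M₂, (b : G) • α = (b' : G) • α → b = b' := fun b b' h => by
    refine (inv_mul_eq_one.mp (Subtype.ext (hfree M₁ hM₁ _ (fun a ha => hc12 a ha _ (b'⁻¹ * b).2) α ?_))).symm
    show ((b' : G)⁻¹ * b) • α = α
    rw [mul_smul, h, inv_smul_smul]
  let Φ : M₁ →* M₂ := MonoidHom.mk' φ fun a b => hφinj _ _ (by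
    show (φ (a * b) : G) • α = ((φ a : G) * φ b) • α
    rw [hφ, Subgroup.coe_mul, mul_inv_rev, mul_smul, mul_smul, hφ, ← mul_smul (φ a : G),
      ← hc12 _ (inv_mem b.2) _ (φ a).2, mul_smul, hφ])
  have hΦ : Function.Bijective Φ := by
    constructor
    · intro a b hab
      have h1 : (a : G)⁻¹ • α = (b : G)⁻¹ • α := by rw [← hφ, ← hφ]; exact congrArg (fun z : M₂ => (z : G) • α) hab
      have h2 : (b : G) * (a : G)⁻¹ = 1 := hfree M₂ hM₂ _ (fun c hc => (hc12 _ (b * a⁻¹).2 c hc).symm) α (by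
        rw [mul_smul, h1, smul_inv_smul])
      exact (Subtype.ext (mul_inv_eq_one.mp h2)).symm
    · intro b
      obtain ⟨a, ha⟩ := (htr M₁ hM₁).exists_smul_eq ((b : G) • α) α
      refine ⟨a, hφinj _ _ ?_⟩
      show (φ a : G) • α = (b : G) • α
      rw [hφ, inv_smul_eq_iff]
      exact ha.symm
  have hdis : ∀ g, g ∈ M₁ → g ∈ M₂ → g = 1 := fun g h1 h2 => by
    haveI := hM₂.1
    rcases hM₁.2.2 (M₁ ⊓ M₂) inferInstance inf_le_left with h | h
    · exact (Subgroup.eq_bot_iff_forall _).mp h g ⟨h1, h2⟩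
    · exact absurd ((hM₂.2.2 M₁ hn1 (h ▸ inf_le_right)).resolve_left hM₁.2.1).symm hne
  let f : M₁ × M₂ →* G := MonoidHom.noncommCoprod M₁.subtype M₂.subtype fun a b => hc12 a a.2 b b.2
  have hf : Function.Injective f := by
    rw [injective_iff_map_eq_one]
    rintro ⟨a, b⟩ hab
    have hab' : (a : G) * b = 1 := hab
    have ha1 : (a : G) = 1 := hdis _ a.2 (by rw [eq_inv_of_mul_eq_one_left hab']; exact inv_mem b.2)
    rw [ha1, one_mul] at hab'
    exact Prod.ext (Subtype.ext ha1) (Subtype.ext hab')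
  have hrange : f.range = M₁ ⊔ M₂ := by
    apply le_antisymm
    · rintro _ ⟨⟨a, b⟩, rfl⟩
      exact Subgroup.mul_mem_sup a.2 b.2
    · exact sup_le (fun a ha => ⟨(⟨a, ha⟩, 1), mul_one a⟩) (fun b hb => ⟨(1, ⟨b, hb⟩), one_mul b⟩)
  let E : (Fin m → T) × (Fin m → T) ≃* (Fin (m + m) → T) :=
    { toFun := fun z => Fin.append z.1 z.2
      invFun := fun z => (fun i => z (Fin.castAdd m i), fun i => z (Fin.natAdd m i))
      left_inv := fun z => Prod.ext (funext fun i => Fin.append_left z.1 z.2 i) (funext fun i => Fin.append_right z.1 z.2 i)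
      right_inv := fun z => by
        funext i
        induction i using Fin.addCases with
        | left j => exact Fin.append_left _ _ j
        | right j => exact Fin.append_right _ _ j
      map_mul' := fun z w => by
        funext i
        induction i using Fin.addCases with
        | left j => rw [Pi.mul_apply, Fin.append_left, Fin.append_left, Fin.append_left]; rfl
        | right j => rw [Pi.mul_apply, Fin.append_right, Fin.append_right, Fin.append_right]; rfl }
  subst hNM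
  refine Or.inr ⟨T, hT, m + m, by omega, hTs, hTc, ⟨?_⟩⟩
  exact ((MulEquiv.subgroupCongr hrange.symm).trans (MonoidHom.ofInjective hf).symm).trans
    ((MulEquiv.prodCongr e₁ ((MulEquiv.ofBijective Φ hΦ).symm.trans e₁)).trans E)

end Cfsg.Agent.S3680
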