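import Mathlib.GroupTheory.GroupAction.Jordan
import Mathlib
import Cfsg.Statements.S3681
-- import your own Cfsg.Agent.* helpers here

set_option autoImplicit false
open Cfsg

namespace Cfsg.Agent.S3681

/-- Bochert's bound for primitive groups. Let a finite group G act faithfully and primitively on a finite set Ω with n elements, and suppose the image of G in the symmetric group of Ω does not contain the alternating group of Ω. Then |G| · ⌊(n + 1)/2⌋! ≤ n!, that is, the index of G in the symmetric group is at least ⌊(n + 1)/2⌋!. -/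
theorem result {G Ω : Type*} [Group G] [Finite G] [MulAction G Ω] [FaithfulSMul G Ω] [Fintype Ω] [DecidableEq Ω]
    (hprim : MulAction.IsPreprimitive G Ω) (hA : ¬ alternatingGroup Ω ≤ (MulAction.toPermHom G Ω).range) :
    Nat.card G * Nat.factorial ((Fintype.card Ω + 1) / 2) ≤ Nat.factorial (Fintype.card Ω) := by
  classical
  set φ := MulAction.toPermHom G Ω with hφ
  have hφi : Function.Injective φ := MulAction.toPerm_injective
  have hne : (Finset.univ.filter fun Γ : Finset Ω => ∀ g : G, (∀ x ∉ Γ, g • x = x) → g = 1).Nonempty :=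
    ⟨∅, by simp only [Finset.mem_filter, Finset.mem_univ, true_and]; exact fun g hg => FaithfulSMul.eq_of_smul_eq_smul fun x : Ω => by rw [hg x (by simp), one_smul]⟩
  obtain ⟨Γ, hΓ, hmax⟩ := Finset.exists_max_image _ Finset.card hne
  simp only [Finset.mem_filter, Finset.mem_univ, true_and] at hΓ
  set n := Fintype.card Ω
  have hcount : Nat.card G * Γ.card.factorial ≤ n.factorial := by
    have hinj : Function.Injective (fun z : G × Equiv.Perm {x // x ∈ Γ} => φ z.1 * Equiv.Perm.ofSubtype z.2) := by
      rintro ⟨g, s⟩ ⟨g', s'⟩ h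
      have e : φ (g'⁻¹ * g) = Equiv.Perm.ofSubtype (s' * s⁻¹) := by
        rw [map_mul, map_inv, map_mul, map_inv, eq_mul_inv_iff_mul_eq, mul_assoc]
        exact inv_mul_eq_iff_eq_mul.mpr h
      have hg : g'⁻¹ * g = 1 := hΓ _ fun x hx => by
        show φ (g'⁻¹ * g) x = x
        rw [e, Equiv.Perm.ofSubtype_apply_of_not_mem _ hx]
      obtain rfl : g' = g := inv_mul_eq_one.mp hg
      exact Prod.ext rfl (Equiv.Perm.ofSubtype_injective (mul_left_cancel h))
    have := Nat.card_le_card_of_injective _ hinj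
    rwa [Nat.card_prod, Nat.card_perm, Nat.card_perm, Nat.card_eq_fintype_card (α := Ω), Nat.card_eq_fintype_card (α := {x // x ∈ Γ}), Fintype.card_coe] at this
  refine le_trans (Nat.mul_le_mul_left _ (Nat.factorial_le ?_)) hcount
  by_contra hlt
  push Not at hlt
  have hbig : ∀ Δ : Finset Ω, Γ.card < Δ.card → ∃ g : G, (∀ z ∉ Δ, g • z = z) ∧ g ≠ 1 := fun Δ hΔ => by
    by_contra h
    push Not at h
    exact absurd (hmax Δ (by simp only [Finset.mem_filter, Finset.mem_univ, true_and]; exact h)) (by omega)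
  obtain ⟨x, hx, hx1⟩ := hbig Γᶜ (by rw [Finset.card_compl]; omega)
  obtain ⟨a, ha⟩ : ∃ a, x • a ≠ a := by
    by_contra h; push Not at h; exact hx1 (FaithfulSMul.eq_of_smul_eq_smul fun z : Ω => by rw [h, one_smul])
  have haΓ : a ∉ Γ := fun h => ha (hx a (by simpa using h))
  obtain ⟨y, hy, hy1⟩ := hbig (insert a Γ) (by rw [Finset.card_insert_of_notMem haΓ]; omega)
  have hya : y • a ≠ a := fun h => hy1 (hΓ y fun z hz => by
    by_cases e : z = a
    · rw [e, h]
    · exact hy z (by simp [e, hz]))
  -- supports meet only in `a`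
  have hmeet : ∀ z, x • z ≠ z → y • z ≠ z → z = a := fun z hxz hyz => by
    by_contra e
    have : z ∈ Γ := by
      by_contra h; exact hyz (hy z (by simp [e, h]))
    exact hxz (hx z (by simpa using this))
  set X := φ x
  set Y := φ y
  have hX : ∀ z, X z = x • z := fun _ => rfl
  have hY : ∀ z, Y z = y • z := fun _ => rfl
  have hmeet' : ∀ z, X z ≠ z → Y z ≠ z → z = a := hmeet
  have hXa : X a ≠ a := ha
  have hYa : Y a ≠ a := hya
  have hyx : Y (X a) = X a := by_contra fun h => hXa (hmeet' (X a) (fun e => hXa (X.injective e)) h)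
  have hxy : X (Y a) = Y a := by_contra fun h => hYa (hmeet' (Y a) h (fun e => hYa (Y.injective e)))
  set C := X * Y * X⁻¹ * Y⁻¹ with hC
  have hne1 : C ≠ 1 := fun h => by
    have h2 : X * Y = Y * X := by rw [hC, mul_inv_eq_one, mul_inv_eq_iff_eq_mul] at h; exact h
    have := congrArg (fun P : Equiv.Perm Ω => P a) h2
    simp only [Equiv.Perm.mul_apply, hxy, hyx] at this
    exact hYa (hmeet' (Y a) (fun _ => hXa (X.injective (by rw [← this, hxy]))) (fun e => hYa (Y.injective e)))
  have hsub : C.support ⊆ {a, X a, Y a} := by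
    intro z hz
    simp only [Finset.mem_insert, Finset.mem_singleton]
    by_contra h
    simp only [not_or] at h
    obtain ⟨h1, h2, h3⟩ := h
    apply Equiv.Perm.mem_support.mp hz
    show X (Y (X⁻¹ (Y⁻¹ z))) = z
    by_cases hy0 : Y z = z
    · rw [show Y⁻¹ z = z from Equiv.Perm.inv_eq_iff_eq.mpr hy0.symm]
      have hw : Y (X⁻¹ z) = X⁻¹ z := by
        by_contra e
        have hxw : X (X⁻¹ z) = z := by simp
        by_cases hxz : X (X⁻¹ z) = X⁻¹ z
        · have e0 : X⁻¹ z = z := hxz.symm.trans hxw
          rw [e0] at e; exact e hy0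
        · exact h2 (by rw [← hmeet' _ hxz e, hxw])
      rw [hw]; simp
    · have hxz : X z = z := by_contra fun e => h1 (hmeet' z e hy0)
      have hxw : X (Y⁻¹ z) = Y⁻¹ z := by
        by_contra e
        have hyw : Y (Y⁻¹ z) = z := by simp
        have hyn : Y (Y⁻¹ z) ≠ Y⁻¹ z := fun e' => hy0 (by
          have e0 : Y⁻¹ z = z := e'.symm.trans hyw
          rw [e0] at hyw; exact hyw)
        exact h3 (by rw [← hmeet' _ e hyn, hyw])
      rw [show X⁻¹ (Y⁻¹ z) = Y⁻¹ z from Equiv.Perm.inv_eq_iff_eq.mpr hxw.symm]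
      simp [hxz]
  have h3c : C.IsThreeCycle := by
    rw [← card_support_eq_three_iff]
    have hle := (Finset.card_le_card hsub).trans Finset.card_le_three
    have h1 : C.support.card ≠ 1 := Equiv.Perm.card_support_ne_one C
    have h2 : C.support.card ≠ 2 := fun e => by
      have := (Equiv.Perm.card_support_eq_two.mp e).sign_eq
      have hs : Equiv.Perm.sign C = 1 := by
        rw [hC]; simp only [map_mul, map_inv]
        rcases Int.units_eq_one_or (Equiv.Perm.sign X) with a | a <;> rcases Int.units_eq_one_or (Equiv.Perm.sign Y) with b | b <;> rw [a, b] <;> decide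
      rw [hs] at this; exact absurd this (by decide)
    have h0 : C.support.card ≠ 0 := fun e => hne1 (Equiv.Perm.support_eq_empty_iff.mp (Finset.card_eq_zero.mp e))
    omega
  haveI := hprim
  have hrange : MulAction.IsPreprimitive φ.range Ω := by
    let f : Ω →ₑ[φ.rangeRestrict] Ω := ⟨id, fun g z => rfl⟩
    exact MulAction.IsPreprimitive.of_surjective (f := f) Function.surjective_id
  exact hA (Equiv.Perm.alternatingGroup_le_of_isPreprimitive_of_isThreeCycle_mem hrange h3c
    (mul_mem (mul_mem (mul_mem ⟨x, rfl⟩ ⟨y, rfl⟩) (inv_mem ⟨x, rfl⟩)) (inv_mem ⟨y, rfl⟩)))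

end Cfsg.Agent.S3681
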