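import Mathlib
import Cfsg.Statements.S3683
-- import your own Cfsg.Agent.* helpers here

set_option autoImplicit false
open Cfsg

namespace Cfsg.Agent.S3683

/-- Let a finite group G act faithfully and primitively on a set Ω, and suppose the stabilizer of a point a fixes a second point b ≠ a (a suborbit of length 1 other than {a}). Then the stabilizer of a is trivial and G is cyclic of prime order. -/
theorem result {G Ω : Type*} [Group G] [Finite G] [MulAction G Ω] [FaithfulSMul G Ω] [Finite Ω]
    (hprim : MulAction.IsPreprimitive G Ω) (a b : Ω) (hab : a ≠ b) (hfix : ∀ g : G, g • a = a → g • b = b) :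
    MulAction.stabilizer G a = ⊥ ∧ IsCyclic G ∧ (Nat.card G).Prime := by
  classical
  haveI : MulAction.IsPretransitive G Ω := hprim.toIsPretransitive
  haveI : Nontrivial Ω := ⟨⟨a, b, hab⟩⟩
  set H := MulAction.stabilizer G a with hH
  have hco : IsCoatom H := (MulAction.isCoatom_stabilizer_iff_preprimitive G a).mpr hprim
  obtain ⟨g, hg⟩ := MulAction.exists_smul_eq G a b
  have hgH : g ∉ H := fun h => hab (hg ▸ (MulAction.mem_stabilizer_iff.mp h).symm)
  have hnorm : g ∈ Subgroup.normalizer (H : Set G) := by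
    have hle : H ≤ H.map (MulAut.conj g).toMonoidHom := fun x hx => by
      refine ⟨g⁻¹ * x * g, MulAction.mem_stabilizer_iff.mpr ?_, by simp [mul_assoc]⟩
      rw [mul_smul, mul_smul, hg, hfix x (MulAction.mem_stabilizer_iff.mp hx), ← hg, inv_smul_smul]
    have heq := Subgroup.eq_of_le_of_card_ge hle (le_of_eq (Nat.card_congr
      (Subgroup.equivMapOfInjective H _ (MulAut.conj g).injective).toEquiv).symm)
    refine Subgroup.mem_normalizer_iff.mpr fun x => ?_
    conv_rhs => rw [heq]
    exact (Subgroup.mem_map_iff_mem (MulAut.conj g).injective).symm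
  have htop : Subgroup.normalizer (H : Set G) = ⊤ :=
    (hco.le_iff.mp Subgroup.le_normalizer).resolve_right fun e => hgH (e ▸ hnorm)
  haveI hn : H.Normal := Subgroup.normalizer_eq_top_iff.mp htop
  have hbot : H = ⊥ := (Subgroup.eq_bot_iff_forall _).mpr fun x hx => FaithfulSMul.eq_of_smul_eq_smul (α := Ω) fun η => by
    obtain ⟨k, rfl⟩ := MulAction.exists_smul_eq G a η
    have := MulAction.mem_stabilizer_iff.mp (hn.conj_mem x hx k⁻¹)
    rw [inv_inv, mul_smul, mul_smul, inv_smul_eq_iff] at this
    rw [this, one_smul]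
  have hgen : ∀ x : G, x ≠ 1 → Subgroup.zpowers x = ⊤ := fun x hx =>
    (hco.le_iff.mp (by rw [hbot]; exact bot_le)).resolve_right fun e =>
      hx (Subgroup.zpowers_eq_bot.mp (e.trans hbot))
  have hg1 : g ≠ 1 := fun e => hgH (e ▸ H.one_mem)
  refine ⟨hbot, ⟨g, fun y => (hgen g hg1).ge (Subgroup.mem_top y)⟩, ?_⟩
  obtain ⟨q, hq, hqd⟩ := Nat.exists_prime_and_dvd (n := Nat.card G) (by
    intro e; haveI := (Nat.card_eq_one_iff_unique.mp e).1; exact hg1 (Subsingleton.elim _ _))
  haveI := Fact.mk hq
  obtain ⟨c, hc⟩ := exists_prime_orderOf_dvd_card' q hqd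
  rw [show Nat.card G = orderOf c by
    rw [← Nat.card_zpowers, hgen c (fun e => hq.ne_one (by rw [← hc, e, orderOf_one])), Subgroup.card_top], hc]
  exact hq

end Cfsg.Agent.S3683
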