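import Cfsg.Agent.InvolCalc.Dihedral
import Mathlib
import Cfsg.Statements.S3684
-- import your own Cfsg.Agent.* helpers here

set_option autoImplicit false
open Cfsg

namespace Cfsg.Agent.S3684

/-- Let a finite group G act faithfully and primitively on a set Ω, and suppose the stabilizer of a point a has an orbit of length 2. Then the stabilizer of a has order 2 and G is isomorphic to the dihedral group of order 2p for some prime p. -/
theorem result {G Ω : Type*} [Group G] [Finite G] [MulAction G Ω] [FaithfulSMul G Ω] [Finite Ω]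
    (hprim : MulAction.IsPreprimitive G Ω) (a b : Ω) (h2 : Nat.card (MulAction.orbit (MulAction.stabilizer G a) b) = 2) :
    Nat.card (MulAction.stabilizer G a) = 2 ∧ ∃ p : ℕ, p.Prime ∧ Nonempty (G ≃* DihedralGroup p) := by
  classical
  haveI : MulAction.IsPretransitive G Ω := hprim.toIsPretransitive
  haveI : Fintype (MulAction.orbit (MulAction.stabilizer G a) b) := Fintype.ofFinite _
  set H := MulAction.stabilizer G a with hH
  have hne : a ≠ b := fun e => by
    have hsub : MulAction.orbit H b ⊆ {b} := by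
      rintro _ ⟨h, rfl⟩
      subst e
      exact MulAction.mem_stabilizer_iff.mp h.2
    have := Set.ncard_le_ncard hsub
    rw [Set.ncard_singleton, ← Nat.card_coe_set_eq, h2] at this
    omega
  haveI : Nontrivial Ω := ⟨⟨a, b, hne⟩⟩
  have hco : IsCoatom H := (MulAction.isCoatom_stabilizer_iff_preprimitive G a).mpr hprim
  set H' := MulAction.stabilizer G b with hH'
  obtain ⟨g, hg⟩ := MulAction.exists_smul_eq G a b
  have hH'eq : H' = H.map (MulAut.conj g).toMonoidHom := by
    rw [hH', ← hg, MulAction.stabilizer_smul_eq_stabilizer_map_conj]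
  have hcardeq : Nat.card H' = Nat.card H := by
    rw [hH'eq]
    exact (Nat.card_congr (Subgroup.equivMapOfInjective H _ (MulAut.conj g).injective).toEquiv).symm
  set K := H ⊓ H' with hK
  have hKH : K.relIndex H = 2 := by
    rw [hK, Subgroup.inf_relIndex_left, ← h2]
    have : H'.subgroupOf H = MulAction.stabilizer H b := rfl
    rw [Subgroup.relIndex, this, MulAction.index_stabilizer, ← Nat.card_coe_set_eq]
  have hHc : Nat.card K * 2 = Nat.card H := by
    rw [← hKH, Subgroup.relIndex, ← Nat.card_congr (Subgroup.subgroupOfEquivOfLe (inf_le_left : K ≤ H)).toEquiv,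
      Subgroup.card_mul_index]
  have hKH' : K.relIndex H' = 2 := by
    have h := Subgroup.card_mul_index (K.subgroupOf H')
    rw [Nat.card_congr (Subgroup.subgroupOfEquivOfLe (inf_le_right : K ≤ H')).toEquiv, hcardeq, ← hHc] at h
    exact Nat.eq_of_mul_eq_mul_left Nat.card_pos h
  -- the two-point stabilizer is normal, hence trivial
  have hnorm : ∀ S : Subgroup G, K ≤ S → K.relIndex S = 2 → S ≤ Subgroup.normalizer (K : Set G) := fun S hS hi => by
    haveI : (K.subgroupOf S).Normal := Subgroup.normal_of_index_eq_two hi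
    exact Subgroup.normal_subgroupOf_iff_le_normalizer hS |>.mp inferInstance
  have hH'le : ¬ H' ≤ H := fun hle => by
    have e : H' = H := Subgroup.eq_of_le_of_card_ge hle hcardeq.ge
    have hsub : MulAction.orbit H b ⊆ {b} := by
      rintro _ ⟨h, rfl⟩
      exact MulAction.mem_stabilizer_iff.mp (show (h : G) ∈ H' from e.symm ▸ h.2)
    have := Set.ncard_le_ncard hsub
    rw [Set.ncard_singleton, ← Nat.card_coe_set_eq, h2] at this
    omega
  have hgen : H ⊔ H' = ⊤ := (hco.le_iff.mp le_sup_left).resolve_right fun e => hH'le (e ▸ le_sup_right)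
  have hKn : K.Normal := Subgroup.normalizer_eq_top_iff.mp (top_le_iff.mp (hgen ▸ sup_le (hnorm H inf_le_left hKH) (hnorm H' inf_le_right hKH')))
  have hKbot : K = ⊥ := (Subgroup.eq_bot_iff_forall _).mpr fun x hx => FaithfulSMul.eq_of_smul_eq_smul (α := Ω) fun η => by
    obtain ⟨k, rfl⟩ := MulAction.exists_smul_eq G a η
    have := MulAction.mem_stabilizer_iff.mp ((hKn.conj_mem x hx k⁻¹).1)
    rw [inv_inv, mul_smul, mul_smul, inv_smul_eq_iff] at this
    rw [this, one_smul]
  have hH2 : Nat.card H = 2 := by rw [← hHc, hKbot, Subgroup.card_bot]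
  refine ⟨hH2, ?_⟩
  -- the group is generated by two involutions
  obtain ⟨⟨t, ht⟩, ht1, htu⟩ := (Nat.card_eq_two_iff' (1 : H)).mp hH2
  have ht1' : t ≠ 1 := fun e => ht1 (Subtype.ext e)
  haveI : Fact (Nat.Prime 2) := ⟨Nat.prime_two⟩
  have hto : orderOf t = 2 := by
    refine orderOf_eq_prime ?_ ht1'
    rw [← hH2]
    exact congrArg Subtype.val (pow_card_eq_one' (x := (⟨t, ht⟩ : H)))
  set s := g * t * g⁻¹ with hs
  have hso : orderOf s = 2 := by rw [hs, ← hto]; exact (MulAut.conj g).orderOf_eq t
  have hHz : H ≤ Subgroup.zpowers t := fun x hx => by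
    by_cases h1 : x = 1
    · exact h1 ▸ Subgroup.one_mem _
    · rw [show x = t from congrArg Subtype.val (htu ⟨x, hx⟩ fun e => h1 (congrArg Subtype.val e))]
      exact Subgroup.mem_zpowers t
  have hcl : Subgroup.closure ({t, s} : Set G) = ⊤ := by
    refine top_le_iff.mp (hgen ▸ sup_le ?_ ?_)
    · exact hHz.trans (Subgroup.zpowers_le.mpr (Subgroup.subset_closure (by simp)))
    · rw [hH'eq]
      refine (Subgroup.map_mono hHz).trans ?_
      rw [MonoidHom.map_zpowers, Subgroup.zpowers_le]
      exact Subgroup.subset_closure (by simp [hs])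
  have hts : t ≠ s := fun e => hH'le (by
    rw [hH'eq]
    refine (Subgroup.map_mono hHz).trans ?_
    rw [MonoidHom.map_zpowers, Subgroup.zpowers_le]
    show g * t * g⁻¹ ∈ H
    rw [← hs, ← e]; exact ht)
  obtain ⟨f⟩ := Cfsg.Lib.InvolCalc.exists_dihedral_equiv hto hso hts
  set n := orderOf (t * s) with hn
  let fG : G ≃* DihedralGroup n := (Subgroup.topEquiv.symm.trans (MulEquiv.subgroupCongr hcl.symm)).trans f
  have hn1 : n ≠ 1 := fun e => hts (by
    have h := orderOf_eq_one_iff.mp e
    rw [mul_eq_one_iff_eq_inv, Cfsg.Lib.InvolCalc.inv_of_order_two hso] at h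
    exact h)
  obtain ⟨q, hq, hqn⟩ := Nat.exists_prime_and_dvd hn1
  set r := (t * s) ^ (n / q) with hr
  have hrq : orderOf r = q := orderOf_pow_orderOf_div (orderOf_pos _).ne' hqn
  have htr : t * r * t⁻¹ = r⁻¹ := by
    rw [hr, ← zpow_natCast, mul_inv_eq_iff_eq_mul, ← zpow_neg]
    exact Cfsg.Lib.InvolCalc.flip_zpow hto hso _
  have hsr : s * r * s⁻¹ = r⁻¹ := by
    rw [show s = t * (t * s) by rw [← mul_assoc, ← sq, ← hto, pow_orderOf_eq_one, one_mul]]
    calc t * (t * s) * r * (t * (t * s))⁻¹ = t * ((t * s) * r * (t * s)⁻¹) * t⁻¹ := by group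
      _ = t * r * t⁻¹ := by rw [hr, (Commute.self_pow (t * s) _).eq, mul_inv_cancel_right]
      _ = r⁻¹ := htr
  haveI hRn : (Subgroup.zpowers r).Normal := Subgroup.normalizer_eq_top_iff.mp (top_le_iff.mp (hcl ▸ (Subgroup.closure_le _).mpr (by
    have key : ∀ u : G, u * r * u⁻¹ = r⁻¹ → u ∈ Subgroup.normalizer (Subgroup.zpowers r : Set G) := by
      intro u hu
      refine Subgroup.mem_normalizer_fintype fun x hx => ?_
      obtain ⟨i, rfl⟩ := hx
      refine ⟨-i, ?_⟩
      show r ^ (-i) = u * r ^ i * u⁻¹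
      rw [← conj_zpow, hu, inv_zpow, zpow_neg]
    intro u hu
    rcases hu with rfl | rfl
    exacts [key _ htr, key _ hsr])))
  have hrH : r ∉ H := fun hrH => by
    have hr1 : r ≠ 1 := fun e => hq.ne_one (by rw [← hrq, e, orderOf_one])
    have hrt : r = t := congrArg Subtype.val (htu ⟨r, hrH⟩ fun e => hr1 (congrArg Subtype.val e))
    have hHn : H.Normal := by
      have : Subgroup.zpowers r = H := Subgroup.eq_of_le_of_card_ge (Subgroup.zpowers_le.mpr hrH)
        (by rw [hH2, Nat.card_zpowers, hrt, hto])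
      exact this ▸ hRn
    refine hH'le ?_
    rw [hH'eq]
    rintro _ ⟨x, hx, rfl⟩
    exact hHn.conj_mem x hx g
  have htop : H ⊔ Subgroup.zpowers r = ⊤ := (hco.le_iff.mp le_sup_left).resolve_right fun e =>
    hrH (e ▸ Subgroup.mem_sup_right (Subgroup.mem_zpowers r))
  have hle : Nat.card G ≤ 2 * q := by
    calc Nat.card G = ((H ⊔ Subgroup.zpowers r : Subgroup G) : Set G).ncard := by
          rw [htop, Subgroup.coe_top, Set.ncard_univ]
      _ ≤ (H : Set G).ncard * (Subgroup.zpowers r : Set G).ncard := by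
          rw [Subgroup.mul_normal H (Subgroup.zpowers r)]
          exact Set.natCard_mul_le
      _ = 2 * q := by
          rw [← Nat.card_coe_set_eq, ← Nat.card_coe_set_eq, SetLike.coe_sort_coe, SetLike.coe_sort_coe, hH2, Nat.card_zpowers, hrq]
  rw [Nat.card_congr fG.toEquiv, DihedralGroup.nat_card] at hle
  have hnq : n = q := le_antisymm (by omega) (Nat.le_of_dvd (orderOf_pos _) hqn)
  exact ⟨n, hnq ▸ hq, ⟨fG⟩⟩

end Cfsg.Agent.S3684
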