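import Cfsg.Statements.S3685
import Cfsg.Agent.LocalEven.Goldschmidt.SubdegreeThree

set_option autoImplicit false
open Cfsg MulAction Cfsg.Lib.Amalgam Cfsg.Lib.Goldschmidt

namespace Cfsg.Agent.S3685

/-- Let a finite group G act faithfully and primitively on a set Ω, and suppose the stabilizer of a point a has an orbit of length 3. Then the stabilizer of a is isomorphic to one of: the cyclic group of order 3, the symmetric group of degree 3, the dihedral group of order 12, the symmetric group of degree 4, or the direct product of the symmetric group of degree 4 with a group of order 2. -/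
theorem result {G Ω : Type*} [Group G] [Finite G] [MulAction G Ω] [FaithfulSMul G Ω] [Finite Ω]
    (hprim : MulAction.IsPreprimitive G Ω) (a b : Ω) (h3 : Nat.card (MulAction.orbit (MulAction.stabilizer G a) b) = 3) :
    Nonempty (MulAction.stabilizer G a ≃* Multiplicative (ZMod 3)) ∨ Nonempty (MulAction.stabilizer G a ≃* Equiv.Perm (Fin 3)) ∨
      Nonempty (MulAction.stabilizer G a ≃* DihedralGroup 6) ∨ Nonempty (MulAction.stabilizer G a ≃* Equiv.Perm (Fin 4)) ∨
      Nonempty (MulAction.stabilizer G a ≃* Equiv.Perm (Fin 4) × Multiplicative (ZMod 2)) := by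
  haveI := hprim
  haveI : Nontrivial Ω := by
    have h : Nat.card (MulAction.orbit (MulAction.stabilizer G a) b) ≤ Nat.card Ω :=
      Nat.card_le_card_of_injective _ Subtype.val_injective
    exact Finite.one_lt_card_iff_nontrivial.mp (by omega)
  have hsub : ((stabilizer G a) ⊓ (stabilizer G b)).subgroupOf (stabilizer G a) = stabilizer (stabilizer G a) b := by
    ext x
    rw [Subgroup.mem_subgroupOf, Subgroup.mem_inf]
    exact ⟨fun h => h.2, fun h => ⟨x.2, h⟩⟩
  have h31 : ((stabilizer G a) ⊓ (stabilizer G b)).relIndex (stabilizer G a) = 3 := by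
    show (((stabilizer G a) ⊓ (stabilizer G b)).subgroupOf (stabilizer G a)).index = 3
    rw [hsub, index_stabilizer, ← Nat.card_coe_set_eq]
    exact h3
  obtain ⟨g, hg⟩ := exists_smul_eq G a b
  have hM : stabilizer G b = cs g (stabilizer G a) := hg ▸ stabilizer_smul_eq_stabilizer_map_conj g a
  have h32 : ((stabilizer G a) ⊓ (stabilizer G b)).relIndex (stabilizer G b) = 3 := by
    have h1 := Subgroup.relIndex_mul_relIndex ⊥ _ _ (bot_le (a := (stabilizer G a) ⊓ (stabilizer G b)))
      (inf_le_left : _ ≤ stabilizer G a)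
    have h2 := Subgroup.relIndex_mul_relIndex ⊥ _ _ (bot_le (a := (stabilizer G a) ⊓ (stabilizer G b)))
      (inf_le_right : _ ≤ stabilizer G b)
    have hc : Nat.card (stabilizer G b) = Nat.card (stabilizer G a) := by
      rw [hM]
      exact (Nat.card_congr ((stabilizer G a).equivMapOfInjective _ (MulAut.conj g).injective).toEquiv).symm
    simp only [Subgroup.relIndex_bot_left] at h1 h2
    rw [hc, ← h1, h31] at h2
    exact Nat.eq_of_mul_eq_mul_left Nat.card_pos h2
  refine Cfsg.Lib.Goldschmidt.five_types ?_ ?_ h31 h32 g hM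
  · have hco := IsPreprimitive.isCoatom_stabilizer_of_isPreprimitive G a
    refine hco.2 _ (lt_of_le_of_ne le_sup_left fun e => ?_)
    have : stabilizer G b ≤ stabilizer G a := sup_eq_left.mp e.symm
    rw [inf_eq_right.mpr this, Subgroup.relIndex_self] at h32
    omega
  · intro N hN hn
    refine (Subgroup.eq_bot_iff_forall N).mpr fun n hn' => ?_
    refine eq_of_smul_eq_smul fun c : Ω => ?_
    obtain ⟨y, rfl⟩ := exists_smul_eq G a c
    have h := mem_stabilizer_iff.mp (hN (hn.conj_mem n hn' y⁻¹)).1
    rw [inv_inv, mul_smul, mul_smul, inv_smul_eq_iff] at h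
    rw [h, one_smul]

end Cfsg.Agent.S3685
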