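import Cfsg.Statements.S3686
import Cfsg.Agent.SubdegThree.Small
import Cfsg.Agent.SubdegThree.Dodeca
import Cfsg.Agent.SubdegThree.SdFinal
import Cfsg.Agent.SubdegThree.TimesFinal

set_option autoImplicit false
open Cfsg
open Cfsg.Lib.SubdegThree

namespace Cfsg.Agent.S3686

/-- Let G be a finite insoluble group acting faithfully and primitively on a set Ω so that the stabilizer of a point a has an orbit of length 3. Then G is isomorphic to one of: the alternating or the symmetric group of degree 5, PGL(2, 7), PSL(2, 11), PSL(2, 13), PSL(2, p) for a prime p ≡ ±1 (mod 16), PSL(3, 3), or a group containing a normal subgroup of index 2 isomorphic to PSL(3, 3) with trivial centralizer. -/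
theorem result {G Ω : Type*} [Group G] [Finite G] [MulAction G Ω] [FaithfulSMul G Ω] [Finite Ω]
    (hsol : ¬ Group.IsSolvable G) (hprim : MulAction.IsPreprimitive G Ω) (a b : Ω) (h3 : Nat.card (MulAction.orbit (MulAction.stabilizer G a) b) = 3) :
    Nonempty (G ≃* alternatingGroup (Fin 5)) ∨ Nonempty (G ≃* Equiv.Perm (Fin 5)) ∨
      Nonempty (G ≃* GL (Fin 2) (ZMod 7) ⧸ Subgroup.center (GL (Fin 2) (ZMod 7))) ∨
      Nonempty (G ≃* Matrix.ProjectiveSpecialLinearGroup (Fin 2) (ZMod 11)) ∨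
      Nonempty (G ≃* Matrix.ProjectiveSpecialLinearGroup (Fin 2) (ZMod 13)) ∨
      (∃ p : ℕ, p.Prime ∧ (p % 16 = 1 ∨ p % 16 = 15) ∧ Nonempty (G ≃* Matrix.ProjectiveSpecialLinearGroup (Fin 2) (ZMod p))) ∨
      Nonempty (G ≃* Matrix.ProjectiveSpecialLinearGroup (Fin 3) (ZMod 3)) ∨
      (∃ N : Subgroup G, N.Normal ∧ N.index = 2 ∧ Subgroup.centralizer (N : Set G) = ⊥ ∧
        Nonempty (N ≃* Matrix.ProjectiveSpecialLinearGroup (Fin 3) (ZMod 3))) := by
  obtain ⟨A, P, g, h, hT, hPA, hrel, hP, hg, hgP⟩ := exists_data hsol hprim a b h3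
  rcases hT with ⟨⟨e⟩⟩ | ⟨⟨e⟩⟩ | ⟨⟨e⟩⟩ | ⟨⟨e⟩⟩ | ⟨⟨e⟩⟩
  · exact absurd (by rw [Nat.card_congr e.toEquiv, Nat.card_congr Multiplicative.toAdd, Nat.card_zmod])
      h.card_ne_three
  · exact Or.inl (h.s_three e)
  · rcases h.d_twelve e hPA hrel hP hg hgP with h1 | h1 | h1 | h1
    · exact Or.inr (Or.inl h1)
    · exact Or.inr (Or.inr (Or.inl h1))
    · exact Or.inr (Or.inr (Or.inr (Or.inl h1)))
    · exact Or.inr (Or.inr (Or.inr (Or.inr (Or.inl h1))))
  · obtain ⟨D, hA, hsimple, hla, S, hPS, h16⟩ := h.sym_setup e hPA hrel hP hg hgP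
    rcases D.dih_or_semi S.2 hPS (by omega) with hd | hQD
    · exact Or.inr (Or.inr (Or.inr (Or.inr (Or.inr (Or.inl (D.psl_of_dihedral h hA hsimple hla S hPS h16 hd))))))
    · exact Or.inr (Or.inr (Or.inr (Or.inr (Or.inr (Or.inr (Or.inl (D.psl3_of_semi h hA hsimple S hPS h16 hQD)))))))
  · obtain ⟨D⟩ := h.exists_timesSit e hPA hrel hP hg hgP
    obtain ⟨B⟩ := D.exists_sub
    exact Or.inr (Or.inr (Or.inr (Or.inr (Or.inr (Or.inr (Or.inr
      ⟨B.N, B.normal, B.index, B.cent, B.psl3⟩))))))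

end Cfsg.Agent.S3686
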