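import Cfsg.Statements.S3687
import Cfsg.Agent.AltSuborbit.Structure
-- import your own Cfsg.Agent.* helpers here

set_option autoImplicit false
open Cfsg

namespace Cfsg.Agent.S3687

/-- Let a finite group G act faithfully and primitively on a set Ω, let a and b be points such that the orbit Δ of b under the stabilizer H of a has d ≥ 6 elements, and suppose that the permutation group induced by H on Δ contains the alternating group of Δ (the image of H in the symmetric group of Δ has index at most 2) while H does not act faithfully on Δ. Then either H induces exactly the alternating group of Δ and H is isomorphic to the direct product of the alternating groups of degrees d and d - 1; or H induces the full symmetric group of Δ and H is isomorphic to one of: the direct product of the symmetric groups of degrees d and d - 1, the direct product of the symmetric group of degree d with the alternating group of degree d - 1, or the subgroup of the direct product of the symmetric groups of degrees d and d - 1 consisting of the pairs of permutations with equal signs. -/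
theorem result {G Ω : Type*} [Group G] [Finite G] [MulAction G Ω] [FaithfulSMul G Ω] [Finite Ω]
    (hprim : MulAction.IsPreprimitive G Ω) (a b : Ω) (d : ℕ) (hd : Nat.card (MulAction.orbit (MulAction.stabilizer G a) b) = d) (h6 : 6 ≤ d)
    (halt : (MulAction.toPermHom (MulAction.stabilizer G a) (MulAction.orbit (MulAction.stabilizer G a) b)).range.index ≤ 2)
    (hunf : ¬ Function.Injective (MulAction.toPermHom (MulAction.stabilizer G a) (MulAction.orbit (MulAction.stabilizer G a) b))) :
    ((MulAction.toPermHom (MulAction.stabilizer G a) (MulAction.orbit (MulAction.stabilizer G a) b)).range.index = 2 ∧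
      Nonempty (MulAction.stabilizer G a ≃* alternatingGroup (Fin d) × alternatingGroup (Fin (d - 1)))) ∨
    ((MulAction.toPermHom (MulAction.stabilizer G a) (MulAction.orbit (MulAction.stabilizer G a) b)).range = ⊤ ∧
      (Nonempty (MulAction.stabilizer G a ≃* Equiv.Perm (Fin d) × Equiv.Perm (Fin (d - 1))) ∨
       Nonempty (MulAction.stabilizer G a ≃* Equiv.Perm (Fin d) × alternatingGroup (Fin (d - 1))) ∨
       Nonempty (MulAction.stabilizer G a ≃* ((Equiv.Perm.sign.comp (MonoidHom.fst (Equiv.Perm (Fin d)) (Equiv.Perm (Fin (d - 1))))) *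
         (Equiv.Perm.sign.comp (MonoidHom.snd (Equiv.Perm (Fin d)) (Equiv.Perm (Fin (d - 1)))))).ker))) := by
  classical
  obtain ⟨S, -, hd₂⟩ := Cfsg.Lib.ThompsonWielandt.setting_of_primitive hprim a b d hd (by omega)
  set A := MulAction.stabilizer G a with hA
  set B := MulAction.stabilizer G b with hB
  set Δ := MulAction.orbit A b with hΔ
  set ρ := MulAction.toPermHom A Δ with hρ
  let b' : Δ := ⟨b, MulAction.mem_orbit_self b⟩
  let e : Δ ≃ Fin d := (Finite.equivFin _).trans (finCongr hd)
  let f : A →* Equiv.Perm (Fin d) := e.permCongrHom.toMonoidHom.comp ρ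
  have hfrange : f.range = ρ.range.map e.permCongrHom.toMonoidHom := MonoidHom.range_comp _ _
  have hidx : f.range.index = ρ.range.index := by
    rw [hfrange]
    exact Subgroup.index_map_equiv ρ.range e.permCongrHom
  have hstab : ∀ x : A, f x (e b') = e b' ↔ (x : G) ∈ A ⊓ B := by
    intro x
    show e (x • e.symm (e b')) = e b' ↔ _
    rw [e.apply_eq_iff_eq, e.symm_apply_apply, Subtype.ext_iff]
    exact ⟨fun h => ⟨x.2, h⟩, fun h => h.2⟩
  have hker : ∀ x : A, f x = 1 ↔ (x : G) ∈ f.ker.map A.subtype := fun x =>
    (Subgroup.mem_map_iff_mem A.subtype_injective (K := f.ker) (x := x)).symm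
  let P : Cfsg.Lib.AltSuborbit.Act d A (A ⊓ B) (f.ker.map A.subtype) :=
    ⟨f, e b', Equiv.Perm.alternatingGroup_le_of_index_le_two (hidx ▸ halt), hstab, hker, inf_le_left, by
      rintro _ ⟨x, hx, rfl⟩
      exact (hstab x).1 (by rw [MonoidHom.mem_ker.1 hx]; rfl)⟩
  have hK : f.ker.map A.subtype ≠ ⊥ := by
    intro h
    refine hunf ?_
    rw [Subgroup.map_eq_bot_iff_of_injective _ A.subtype_injective, MonoidHom.ker_eq_bot_iff] at h
    exact fun x y hxy => h (congrArg e.permCongrHom hxy)
  obtain ⟨L, C, hCP⟩ := Cfsg.Lib.AltSuborbit.exists_cfg h6 S P hK hd₂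
  have hCf : C.P.f.range = f.range := by rw [hCP]
  haveI : Nontrivial (Fin d) := Fin.nontrivial_iff_two_le.2 (by omega)
  rcases C.structure_cases with ⟨h1, h2⟩ | ⟨h1, h2 | h2⟩
  · exact Or.inl ⟨by rw [← hidx, ← hCf, h1, alternatingGroup.index_eq_two], h2⟩
  · exact Or.inr ⟨Subgroup.index_eq_one.1 (by rw [← hidx, ← hCf, h1, Subgroup.index_top]), Or.inl h2⟩
  · exact Or.inr ⟨Subgroup.index_eq_one.1 (by rw [← hidx, ← hCf, h1, Subgroup.index_top]), Or.inr (Or.inr h2)⟩

end Cfsg.Agent.S3687
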