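import Cfsg.Statements.S3693
import Cfsg.Agent.Components.Misc.ThompsonWielandt

set_option autoImplicit false
set_option linter.style.haveILetI false
open Cfsg

namespace Cfsg.Agent.S3693

/-- Let a finite group G act faithfully and primitively on a set Ω, let a and b be points such that the orbit Δ of b under the stabilizer H of a has length d ≥ 2, and consider the permutation group induced on Δ by the elements of H fixing b. If that induced group has trivial Fitting subgroup (no non-trivial nilpotent normal subgroup), then the two-point stabilizer of a and b has trivial Fitting subgroup and the order of H divides d! · ((d - 1)!)^d. -/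
theorem result {G Ω : Type*} [Group G] [Finite G] [MulAction G Ω] [FaithfulSMul G Ω] [Finite Ω]
    (hprim : MulAction.IsPreprimitive G Ω) (a b : Ω) (d : ℕ) (hd : Nat.card (MulAction.orbit (MulAction.stabilizer G a) b) = d) (h2 : 2 ≤ d)
    (hF : Cfsg.fittingSubgroup ↥(((MulAction.stabilizer G b).subgroupOf (MulAction.stabilizer G a)).map (MulAction.toPermHom (MulAction.stabilizer G a) (MulAction.orbit (MulAction.stabilizer G a) b))) = ⊥) :
    Cfsg.fittingSubgroup ↥(MulAction.stabilizer G a ⊓ MulAction.stabilizer G b) = ⊥ ∧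
      Nat.card (MulAction.stabilizer G a) ∣ Nat.factorial d * (Nat.factorial (d - 1)) ^ d := by
  classical
  obtain ⟨S, hd₁, hd₂⟩ := Cfsg.Lib.ThompsonWielandt.setting_of_primitive hprim a b d hd h2
  set M₁ := MulAction.stabilizer G a with hM₁
  set M₂ := MulAction.stabilizer G b with hM₂
  set f := MulAction.toPermHom M₁ (MulAction.orbit M₁ b) with hf
  have hcore : ∀ q : ℕ, q.Prime → Cfsg.Lib.Sft.qcore q (M₁ ⊓ M₂) = ⊥ := by
    intro q hq
    haveI := Fact.mk hq
    refine S.inter_cores_eq_bot ?_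
    set K := M₂.subgroupOf M₁ with hK
    let ψ : ↥(M₁ ⊓ M₂) →* ↥(K.map f) :=
      (f.comp (Subgroup.inclusion inf_le_left)).codRestrict (K.map f)
        (fun x => ⟨Subgroup.inclusion inf_le_left x, Subgroup.mem_subgroupOf.mpr x.2.2, rfl⟩)
    have hψ : Function.Surjective ψ := by
      rintro ⟨_, y, hy, rfl⟩
      exact ⟨⟨(y : G), y.2, Subgroup.mem_subgroupOf.mp hy⟩, rfl⟩
    haveI : ((Cfsg.pCore q ↥(M₁ ⊓ M₂)).map ψ).Normal := Subgroup.Normal.map inferInstance _ hψ
    have hp : IsPGroup q ↥((Cfsg.pCore q ↥(M₁ ⊓ M₂)).map ψ) := (Cfsg.Lib.Components.isPGroup_pCore q).map _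
    have hbot : (Cfsg.pCore q ↥(M₁ ⊓ M₂)).map ψ = ⊥ :=
      le_bot_iff.mp (hF ▸ Cfsg.Lib.Components.le_fitting hp.isNilpotent)
    rintro _ ⟨x, hx, rfl⟩
    refine ⟨⟨(x : G), x.2.1⟩, fun m => ?_, rfl⟩
    show (m : G) * (x : G) * (m : G)⁻¹ ∈ M₁ ⊓ M₂
    refine Subgroup.mem_inf.mpr ⟨M₁.mul_mem (M₁.mul_mem m.2 x.2.1) (M₁.inv_mem m.2), ?_⟩
    have h1 : ψ x = 1 := Subgroup.mem_bot.mp (hbot ▸ Subgroup.mem_map_of_mem ψ hx)
    have h2' := congrArg (fun σ : ↥(K.map f) => (σ : Equiv.Perm (MulAction.orbit M₁ b))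
      ⟨m⁻¹ • b, MulAction.mem_orbit _ _⟩) h1
    have h3 : (x : G) • ((m : G)⁻¹ • b) = (m : G)⁻¹ • b := congrArg Subtype.val h2'
    rw [MulAction.mem_stabilizer_iff, mul_smul, mul_smul, h3, smul_inv_smul]
  refine ⟨?_, S.card_dvd_of_inter_cores hd₁ hd₂ (by omega) hcore⟩
  rw [Cfsg.Lib.Components.fitting_eq_iSup_pCore, iSup_eq_bot]
  exact fun q => Cfsg.Lib.ThompsonWielandt.pCore_eq_bot_iff_qcore.mp (hcore q.1 q.2)

end Cfsg.Agent.S3693
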