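import Mathlib
import Cfsg.Statements.S3696
-- import your own Cfsg.Agent.* helpers here

set_option autoImplicit false
open Cfsg

namespace Cfsg.Agent.S3696

/-- Let p be a prime, Ω a finite set with n ≥ p elements, and A an abelian p-subgroup of the symmetric group on Ω whose elements of order dividing p number p^k (so k is the rank of A). Then |A| · k^k ≤ n^k, that is, |A| ≤ (n/k)^k. -/
theorem result {Ω : Type*} [Fintype Ω] [DecidableEq Ω]
    (p : ℕ) (hp : p.Prime) (hn : p ≤ Fintype.card Ω) (A : Subgroup (Equiv.Perm Ω)) (hA : IsPGroup p A) (hab : IsMulCommutative A)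
    (k : ℕ) (hk : Nat.card {x : A // x ^ p = 1} = p ^ k) :
    Nat.card A * k ^ k ≤ Fintype.card Ω ^ k := by
  classical
  haveI := Fact.mk hp
  have amgm : ∀ a b i d : ℕ, 1 ≤ d → a ^ i * b ^ d * (i + d) ^ (i + d) ≤ (a + b) ^ (i + d) * (i ^ i * d ^ d) := by
    intro a b i d hd
    rcases Nat.eq_zero_or_pos i with rfl | hi
    · simp only [pow_zero, one_mul, zero_add]; gcongr; omega
    have hiR : (0:ℝ) < i := by exact_mod_cast hi
    have hdR : (0:ℝ) < d := by exact_mod_cast hd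
    have hJ : (0:ℝ) < (i:ℝ) + d := by positivity
    have h := Real.geom_mean_le_arith_mean2_weighted (w₁ := (i:ℝ) / (i + d)) (w₂ := (d:ℝ) / (i + d)) (p₁ := (a:ℝ) / i) (p₂ := (b:ℝ) / d)
      (by positivity) (by positivity) (by positivity) (by positivity) (by field_simp)
    rw [show (i:ℝ) / (i + d) * ((a:ℝ) / i) + (d:ℝ) / (i + d) * ((b:ℝ) / d) = ((a:ℝ) + b) / (i + d) by field_simp] at h
    have h2 := pow_le_pow_left₀ (by positivity) h (i + d)
    rw [mul_pow, ← Real.rpow_natCast (((a:ℝ) / i) ^ ((i:ℝ) / (i + d))), ← Real.rpow_natCast (((b:ℝ) / d) ^ ((d:ℝ) / (i + d))),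
      ← Real.rpow_mul (by positivity), ← Real.rpow_mul (by positivity), Nat.cast_add, div_mul_cancel₀ _ hJ.ne', div_mul_cancel₀ _ hJ.ne',
      Real.rpow_natCast, Real.rpow_natCast, div_pow, div_pow, div_pow, div_mul_div_comm, div_le_div_iff₀ (by positivity) (by positivity)] at h2
    exact_mod_cast h2
  have horb : ∀ (H : Subgroup (Equiv.Perm Ω)) (ω : Ω),
      Nat.card H = (MulAction.orbit H ω).ncard * Nat.card ↥(H ⊓ MulAction.stabilizer (Equiv.Perm Ω) ω) := by
    intro H ω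
    rw [← MulAction.index_stabilizer, ← Nat.card_congr (⟨fun x => ⟨x.1.1, x.1.2, x.2⟩, fun x => ⟨⟨x.1, x.2.1⟩, x.2.2⟩, fun _ => rfl, fun _ => rfl⟩ :
      MulAction.stabilizer H ω ≃ ↥(H ⊓ MulAction.stabilizer (Equiv.Perm Ω) ω)), Subgroup.index_mul_card]
  have hcomm : ∀ g ∈ A, ∀ a ∈ A, g * a = a * g := fun g hg a ha =>
    congrArg Subtype.val (hab.is_comm.comm (⟨g, hg⟩ : A) ⟨a, ha⟩)
  let T : Subgroup (Equiv.Perm Ω) :=
    { carrier := {x | x ∈ A ∧ x ^ p = 1}
      mul_mem' := fun {x y} hx hy => ⟨mul_mem hx.1 hy.1, by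
        rw [(show Commute x y from hcomm x hx.1 y hy.1).mul_pow, hx.2, hy.2, one_mul]⟩
      one_mem' := ⟨one_mem _, one_pow _⟩
      inv_mem' := fun {x} hx => ⟨inv_mem hx.1, by rw [inv_pow, hx.2, inv_one]⟩ }
  have main : ∀ N, ∀ K : Subgroup (Equiv.Perm Ω), Nat.card K = N → K ≤ A → ∀ U : Set Ω,
      (∀ a ∈ A, ∀ x ∈ U, a x ∈ U) → (∀ x ∉ U, ∀ g ∈ K, g x = x) → ∀ j, Nat.card ↥(K ⊓ T) = p ^ j → Nat.card K * j ^ j ≤ U.ncard ^ j := by
    intro N
    induction N using Nat.strong_induction_on with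
    | h N IH =>
      intro K hK hKA U hU hfix j hj
      by_cases hbot : K = ⊥
      · subst hbot
        rw [bot_inf_eq, Subgroup.card_bot] at hj
        rcases pow_eq_one_iff.mp hj.symm |> fun h => h with h | h
        · exact absurd h hp.one_lt.ne'
        · subst h; simp
      haveI : Nontrivial K := (Subgroup.nontrivial_iff_ne_bot K).mpr hbot
      have hKp : IsPGroup p K := hA.to_le hKA
      obtain ⟨n', hn'⟩ := IsPGroup.iff_card.mp hKp
      have hpd : p ∣ Nat.card K := by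
        rw [hn']; refine dvd_pow_self p ?_
        rintro rfl
        rw [pow_zero] at hn'
        exact absurd hn' (Finite.one_lt_card).ne'
      obtain ⟨z, hz⟩ := exists_prime_orderOf_dvd_card' p hpd
      have hz1 : (z : Equiv.Perm Ω) ≠ 1 := fun e => hp.ne_one (by rw [← hz, ← Subgroup.orderOf_coe, e, orderOf_one])
      obtain ⟨ω, hω⟩ : ∃ ω, (z : Equiv.Perm Ω) ω ≠ ω := by
        by_contra hn; push Not at hn; exact hz1 (Equiv.ext hn)
      have hzT : (z : Equiv.Perm Ω) ∈ K ⊓ T := ⟨z.2, hKA z.2, by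
        rw [← hz, ← Subgroup.orderOf_coe]; exact pow_orderOf_eq_one _⟩
      set O := MulAction.orbit A ω with hO
      have hωU : ω ∈ U := by
        by_contra h; exact hω (hfix ω h z z.2)
      have hOU : O ⊆ U := by rintro x ⟨a, rfl⟩; exact hU a a.2 ω hωU
      set K' := K ⊓ MulAction.stabilizer (Equiv.Perm Ω) ω with hK'
      have hsub : ∀ H : Subgroup (Equiv.Perm Ω), H ≤ A → MulAction.orbit H ω ⊆ O := by
        rintro H hH x ⟨a, rfl⟩; exact ⟨⟨a, hH a.2⟩, rfl⟩
      have h1 := horb K ω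
      have h2 := horb (K ⊓ T) ω
      rw [inf_right_comm, hj] at h2
      obtain ⟨j', hj'⟩ := IsPGroup.iff_card.mp (hA.to_le (show K' ⊓ T ≤ A from (inf_le_left.trans inf_le_left).trans hKA))
      obtain ⟨d, -, hd⟩ := (Nat.dvd_prime_pow hp).mp (Dvd.intro _ h2.symm)
      rw [hd, hj', ← pow_add] at h2
      have hjd : j = j' + d := by rw [Nat.pow_right_injective hp.two_le h2]; omega
      have hd1 : 1 ≤ d := by
        by_contra h
        rw [show d = 0 by omega, pow_zero, Set.ncard_eq_one] at hd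
        obtain ⟨w, hw⟩ := hd
        have m1 : ω ∈ MulAction.orbit ↥(K ⊓ T) ω := MulAction.mem_orbit_self ω
        have m2 : (z : Equiv.Perm Ω) ω ∈ MulAction.orbit ↥(K ⊓ T) ω := ⟨⟨z, hzT⟩, rfl⟩
        rw [hw, Set.mem_singleton_iff] at m1 m2
        exact hω (m2.trans m1.symm)
      set m := (MulAction.orbit K ω).ncard
      have hmu : m ≤ O.ncard := Set.ncard_le_ncard (hsub K hKA)
      have hdu : 2 ^ d ≤ O.ncard := (Nat.pow_le_pow_left hp.two_le d).trans
        (hd ▸ Set.ncard_le_ncard (hsub _ (inf_le_left.trans hKA)))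
      have hmd : m * d ^ d ≤ O.ncard ^ d := by
        obtain ⟨e, rfl⟩ : ∃ e, d = e + 1 := ⟨d - 1, by omega⟩
        calc m * (e + 1) ^ (e + 1) ≤ O.ncard * (2 ^ e) ^ (e + 1) := by gcongr; exact Nat.lt_two_pow_self
          _ = O.ncard * (2 ^ (e + 1)) ^ e := by rw [← pow_mul, ← pow_mul, mul_comm e]
          _ ≤ O.ncard * O.ncard ^ e := by gcongr
          _ = O.ncard ^ (e + 1) := by rw [pow_succ, mul_comm]
      have hlt : Nat.card K' < N := by
        rw [← hK, h1]
        refine lt_mul_of_one_lt_left Nat.card_pos ?_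
        rw [Set.one_lt_ncard]
        exact ⟨_, ⟨z, rfl⟩, ω, MulAction.mem_orbit_self ω, hω⟩
      have ih := IH _ hlt K' rfl (inf_le_left.trans hKA) (U \ O)
        (fun a ha x hx => ⟨hU a ha x hx.1, fun hax => hx.2 (by
          obtain ⟨b, hb⟩ := hax
          refine ⟨⟨a⁻¹ * b, mul_mem (inv_mem ha) b.2⟩, ?_⟩
          show a⁻¹ ((b : Equiv.Perm Ω) ω) = x
          rw [show (b : Equiv.Perm Ω) ω = a x from hb, Equiv.Perm.inv_def, Equiv.symm_apply_apply])⟩)
        (fun x hx g hg => by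
          by_cases hxU : x ∈ U
          · obtain ⟨a, rfl⟩ : x ∈ O := by_contra fun h => hx ⟨hxU, h⟩
            show (g * (a : Equiv.Perm Ω)) ω = (a : Equiv.Perm Ω) ω
            rw [hcomm g (hKA hg.1) a a.2, Equiv.Perm.mul_apply, show g ω = ω from hg.2]
          · exact hfix x hxU g hg.1) j' hj'
      have hcard : (U \ O).ncard + O.ncard = U.ncard := Set.ncard_sdiff_add_ncard_of_subset hOU
      have hpos : 0 < j' ^ j' * d ^ d := Nat.mul_pos Nat.pow_self_pos Nat.pow_self_pos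
      refine Nat.le_of_mul_le_mul_right ?_ hpos
      rw [h1, ← hK', hjd, ← hcard]
      calc m * Nat.card K' * (j' + d) ^ (j' + d) * (j' ^ j' * d ^ d)
          = (Nat.card K' * j' ^ j') * (m * d ^ d) * (j' + d) ^ (j' + d) := by ring
        _ ≤ (U \ O).ncard ^ j' * O.ncard ^ d * (j' + d) ^ (j' + d) := by gcongr
        _ ≤ _ := amgm _ _ _ _ hd1
  have hAT : A ⊓ T = T := inf_eq_right.mpr fun x hx => hx.1
  have := main _ A rfl le_rfl Set.univ (fun _ _ _ _ => trivial) (fun x hx => absurd trivial hx) k (by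
    rw [hAT, ← hk]
    exact Nat.card_congr ⟨fun x => ⟨⟨x.1, x.2.1⟩, Subtype.ext x.2.2⟩, fun x => ⟨x.1.1, x.1.2, congrArg Subtype.val x.2⟩, fun _ => rfl, fun _ => rfl⟩)
  rwa [Set.ncard_univ, Nat.card_eq_fintype_card (α := Ω)] at this

end Cfsg.Agent.S3696
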