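import Cfsg.Statements.S3699
import Cfsg.Agent.CITGroups.NonSolvable
import Cfsg.Agent.Suz.Subfield
import Cfsg.Agent.Suz.Partition
import Cfsg.Agent.Components.Misc.Zsigmondy
import Cfsg.Agent.S3633

set_option autoImplicit false
open Cfsg

namespace Cfsg.Agent.S3699

open Cfsg.Lib.Suz Subgroup

section Sz

variable {F : Type*} [Field F] [Fintype F] {m : ℕ} (Q : Par F m)
include Q

theorem tori_coprime : Odd (2 ^ (2 * m + 1) - 1) ∧ Odd (2 ^ (2 * m + 1) + 2 ^ (m + 1) + 1) ∧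
    Odd (2 ^ (2 * m + 1) - 2 ^ (m + 1) + 1) ∧
    (2 ^ (2 * m + 1) - 1).Coprime (2 ^ (2 * m + 1) + 2 ^ (m + 1) + 1) ∧
    (2 ^ (2 * m + 1) - 1).Coprime (2 ^ (2 * m + 1) - 2 ^ (m + 1) + 1) ∧
    (2 ^ (2 * m + 1) + 2 ^ (m + 1) + 1).Coprime (2 ^ (2 * m + 1) - 2 ^ (m + 1) + 1) ∧
    (2 ^ (2 * m + 1) + 2 ^ (m + 1) + 1) * (2 ^ (2 * m + 1) - 2 ^ (m + 1) + 1) = (2 ^ (2 * m + 1)) ^ 2 + 1 ∧
    1 < 2 ^ (2 * m + 1) - 1 ∧ 1 < 2 ^ (2 * m + 1) - 2 ^ (m + 1) + 1 := by
  have hm := Q.hm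
  have hq8 : 8 ≤ 2 ^ (2 * m + 1) := le_trans (by norm_num) (Nat.pow_le_pow_right two_pos (show 3 ≤ 2 * m + 1 by omega))
  have hs : 2 ^ (m + 1) * 2 ^ (m + 1) = 2 * 2 ^ (2 * m + 1) := by rw [← pow_add, ← pow_succ']; congr 1; ring
  have hlt : 2 ^ (m + 1) < 2 ^ (2 * m + 1) := Nat.pow_lt_pow_right one_lt_two (by omega)
  have heq : 2 ∣ 2 ^ (2 * m + 1) := dvd_pow_self 2 (by omega)
  have hes : 2 ∣ 2 ^ (m + 1) := dvd_pow_self 2 (by omega)
  have hco := coprime_orders Q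
  set q := 2 ^ (2 * m + 1) with hq
  set s := 2 ^ (m + 1) with hs'
  have hprod : (q + s + 1) * (q - s + 1) = q ^ 2 + 1 := by
    zify [hlt.le] at hs ⊢
    linear_combination (norm := ring) -1 * hs
  have hb : Odd (q + s + 1) := by rw [Nat.odd_iff]; omega
  have hc : Odd (q - s + 1) := by rw [Nat.odd_iff]; omega
  have hbc : (q + s + 1).Coprime (q - s + 1) := by
    refine Nat.coprime_of_dvd fun p hp h1 h2 => ?_
    have h3 : p ∣ 2 * s := by
      have h := Nat.dvd_sub h1 h2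
      rwa [show q + s + 1 - (q - s + 1) = 2 * s by omega] at h
    rw [hs', ← pow_succ'] at h3
    have h4 := (Nat.prime_dvd_prime_iff_eq hp Nat.prime_two).1 (hp.dvd_of_dvd_pow h3)
    subst h4
    omega
  have hcq := (hco.coprime_dvd_right (dvd_mul_left _ _)).symm
  rw [← hprod] at hcq
  exact ⟨by rw [Nat.odd_iff]; omega, hb, hc, hcq.coprime_dvd_right (dvd_mul_right _ _),
    hcq.coprime_dvd_right (dvd_mul_left _ _), hbc, hprod, by omega, by omega⟩

/-- The centraliser of an element of odd prime order is an abelian group of one of three odd orders. -/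
theorem edge {x : Cfsg.Sz F m} {r s : ℕ} (hr : r.Prime) (hs : s.Prime) (hrs : r ≠ s) (hx : orderOf x = r * s) :
    ∃ k ∈ ({2 ^ (2 * m + 1) - 1, 2 ^ (2 * m + 1) + 2 ^ (m + 1) + 1,
      2 ^ (2 * m + 1) - 2 ^ (m + 1) + 1} : Set ℕ), r * s ∣ k := by
  have hx1 : x ≠ 1 := fun e => by
    rw [e, orderOf_one] at hx
    exact hr.ne_one (Nat.eq_one_of_mul_eq_one_right hx.symm)
  have hmem : x ∈ tor x := mem_tor.2 (Commute.refl x)
  have hd := hx ▸ Subgroup.orderOf_dvd_natCard _ hmem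
  rcases cent_cases Q hx1 with ⟨h2, -⟩ | ⟨-, hk⟩
  · exfalso
    haveI : Fact (Nat.Prime 2) := ⟨Nat.prime_two⟩
    obtain ⟨k, hk⟩ := IsPGroup.iff_card.1 h2
    rw [hk] at hd
    exact hrs (((Nat.prime_dvd_prime_iff_eq hr Nat.prime_two).1 (hr.dvd_of_dvd_pow (dvd_of_mul_right_dvd hd))).trans
      ((Nat.prime_dvd_prime_iff_eq hs Nat.prime_two).1 (hs.dvd_of_dvd_pow (dvd_of_mul_left_dvd hd))).symm)
  · exact ⟨_, hk, hd⟩

theorem not_edge_two {r : ℕ} (hr : r.Prime) (hr2 : r ≠ 2) : ¬ ∃ x : Cfsg.Sz F m, orderOf x = r * 2 := by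
  rintro ⟨x, hx⟩
  obtain ⟨k, hk, hd⟩ := edge Q hr Nat.prime_two hr2 hx
  obtain ⟨ha, hb, hc, -⟩ := tori_coprime Q
  have hodd : Odd k := by
    rcases hk with rfl | rfl | rfl <;> assumption
  exact Nat.not_even_iff_odd.2 hodd (even_iff_two_dvd.2 (dvd_of_mul_left_dvd hd))

theorem card_primes {r : ℕ} (hr : r.Prime) (hr2 : r ≠ 2) (hd : r ∣ Nat.card (Cfsg.Sz F m)) :
    r ∣ 2 ^ (4 * (2 * m + 1)) - 1 := by
  rw [card_Sz Q] at hd
  have e1 : (2 ^ (2 * m + 1)) ^ 2 + 1 ∣ 2 ^ (4 * (2 * m + 1)) - 1 := by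
    refine ⟨(2 ^ (2 * m + 1)) ^ 2 - 1, ?_⟩
    rw [← Nat.sq_sub_sq, ← pow_mul, ← pow_mul, one_pow]
    congr 2
    ring
  have e2 : 2 ^ (2 * m + 1) - 1 ∣ 2 ^ (4 * (2 * m + 1)) - 1 :=
    Nat.pow_sub_one_dvd_pow_sub_one 2 (dvd_mul_left _ _)
  rcases (Nat.Prime.dvd_mul hr).1 hd with h | h
  · rcases (Nat.Prime.dvd_mul hr).1 h with h | h
    · exact absurd ((Nat.prime_dvd_prime_iff_eq hr Nat.prime_two).1 (hr.dvd_of_dvd_pow (hr.dvd_of_dvd_pow h))) hr2
    · exact h.trans e1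
  · exact h.trans e2

/-- The parameter is determined by the prime divisors. -/
theorem param_dvd {K : Type*} [Field K] [Fintype K] {k : ℕ} (R : Par K k)
    (h : ∀ r : ℕ, r.Prime → r ≠ 2 → r ∣ Nat.card (Cfsg.Sz F m) → r ∣ Nat.card (Cfsg.Sz K k)) :
    2 * m + 1 ∣ 2 * k + 1 := by
  have hm := Q.hm
  obtain ⟨r, hr, hrd, hmin⟩ := Cfsg.Lib.Zsigmondy.zsigmondy 2 (4 * (2 * m + 1)) one_lt_two (by omega)
    (by omega) (by omega)
  have hr2 : r ≠ 2 := fun e => by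
    subst e
    have h1 : 2 ∣ 2 ^ (4 * (2 * m + 1)) := dvd_pow_self 2 (by omega)
    have h2 := Nat.one_le_two_pow (n := 4 * (2 * m + 1))
    omega
  have hSz : r ∣ Nat.card (Cfsg.Sz F m) := by
    rw [card_Sz Q]
    have e : 2 ^ (4 * (2 * m + 1)) - 1 = ((2 ^ (2 * m + 1)) ^ 2 + 1) * ((2 ^ (2 * m + 1)) ^ 2 - 1) := by
      rw [← Nat.sq_sub_sq, ← pow_mul, ← pow_mul, one_pow]
      congr 2
      ring
    rw [e] at hrd
    rcases (Nat.Prime.dvd_mul hr).1 hrd with h1 | h1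
    · exact Dvd.dvd.mul_right (Dvd.dvd.mul_left h1 _) _
    · rw [← pow_mul] at h1
      exact absurd h1 (hmin _ (by omega) (by omega))
  have h1 := card_primes R hr hr2 (h r hr hr2 hSz)
  have h2 := Nat.dvd_gcd hrd h1
  rw [Nat.pow_sub_one_gcd_pow_sub_one, Nat.gcd_mul_left] at h2
  by_contra hnd
  refine hmin _ (by positivity) ?_ h2
  refine Nat.mul_lt_mul_of_pos_left (lt_of_le_of_ne (Nat.gcd_le_left _ (by omega)) fun e => hnd ?_) (by norm_num)
  exact e ▸ Nat.gcd_dvd_right _ _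

end Sz

/-- Let `q = 2^(2m+1) ≥ 8` and `S = Sz(q)` the Suzuki group. If a finite group `G` has the same prime graph as `S` (same prime divisors of the order; for distinct primes `r, s` an element of order `rs` in one iff in the other), then `G/O₂(G)` is isomorphic to `S`. The known proof uses the classification of finite simple groups. -/
theorem result {F : Type*} [Field F] [Fintype F] (m : ℕ) (hm : 1 ≤ m)
    (hF : Fintype.card F = 2 ^ (2 * m + 1)) {G : Type*} [Group G] [Finite G]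
    (h : ((∀ r : ℕ, r.Prime → (r ∣ Nat.card ↥(Cfsg.Lie.Sz F (2 ^ (m + 1))) ↔ r ∣ Nat.card G)) ∧
      (∀ r s : ℕ, r.Prime → s.Prime → r ≠ s → ((∃ x : ↥(Cfsg.Lie.Sz F (2 ^ (m + 1))), orderOf x = r * s) ↔ (∃ y : G, orderOf y = r * s))))) :
    Nonempty (G ⧸ Cfsg.pCore 2 G ≃* ↥(Cfsg.Lie.Sz F (2 ^ (m + 1)))) := by
  classical
  haveI : Fact (Nat.Prime 2) := ⟨Nat.prime_two⟩
  obtain ⟨hpi, hedge⟩ := h
  have Q : Par F m := ⟨hm, hF⟩
  set eL := lieEquiv Q
  have hcardL : Nat.card ↥(Cfsg.Lie.Sz F (2 ^ (m + 1))) = Nat.card (Cfsg.Sz F m) := (Nat.card_congr eL.toEquiv).symm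
  have hnoedge : ∀ r s : ℕ, r.Prime → s.Prime → r ≠ s → (¬ ∃ x : Cfsg.Sz F m, orderOf x = r * s) →
      ¬ ∃ y : G, orderOf y = r * s := fun r s hr hs hne hno hy => by
    obtain ⟨x, hx⟩ := (hedge r s hr hs hne).2 hy
    exact hno ⟨eL.symm x, by rw [MulEquiv.orderOf_eq, hx]⟩
  have hpi' : ∀ r : ℕ, r.Prime → (r ∣ Nat.card (Cfsg.Sz F m) ↔ r ∣ Nat.card G) := fun r hr => by
    rw [← hcardL]; exact hpi r hr
  -- involution centralisers
  have hcit : Cfsg.Lib.CITGroups.CIT G := by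
    intro t ht
    rw [IsPGroup.iff_orderOf]
    rintro ⟨g, hg⟩
    rw [orderOf_mk]
    by_contra hng
    obtain ⟨r, n, hr, hr2, hn⟩ := Cfsg.Lib.CITGroups.exists_odd_prime hng
    have hc : Commute (g ^ n) t := Commute.pow_left (mem_centralizer_singleton_iff.1 hg) n
    refine hnoedge r 2 hr Nat.prime_two hr2 (not_edge_two Q hr hr2) ⟨g ^ n * t, ?_⟩
    rw [hc.orderOf_mul_eq_mul_orderOf_of_coprime, hn, ht]
    rw [hn, ht]
    exact (Nat.coprime_primes hr Nat.prime_two).2 hr2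
  -- three primes
  obtain ⟨ha, hb, hc, hab, hac, hbc, hprod, ha1, hc1⟩ := tori_coprime Q
  set A := 2 ^ (2 * m + 1) - 1 with hA
  set B := 2 ^ (2 * m + 1) + 2 ^ (m + 1) + 1 with hB
  set C := 2 ^ (2 * m + 1) - 2 ^ (m + 1) + 1 with hC
  obtain ⟨a, hap, had⟩ := Nat.exists_prime_and_dvd (show A ≠ 1 by omega)
  obtain ⟨b, hbp, hbd⟩ := Nat.exists_prime_and_dvd (show B ≠ 1 by
    have := Nat.one_le_two_pow (n := m + 1)
    omega)
  obtain ⟨c, hcp, hcd⟩ := Nat.exists_prime_and_dvd (show C ≠ 1 by omega)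
  have hsep : ∀ {x y u v : ℕ}, x.Prime → x ∣ u → y ∣ v → u.Coprime v → x ≠ y := fun hx hxu hyv huv e =>
    hx.ne_one (Nat.eq_one_of_dvd_coprimes huv hxu (e ▸ hyv))
  have hne : a ≠ b ∧ a ≠ c ∧ b ≠ c := ⟨hsep hap had hbd hab, hsep hap had hcd hac, hsep hbp hbd hcd hbc⟩
  have hcardS : Nat.card (Cfsg.Sz F m) = (2 ^ (2 * m + 1)) ^ 2 * (B * C) * A := by rw [card_Sz Q, hprod]
  have hns : ¬ Group.IsSolvable G := by
    have hd : ∀ r ∈ ({a, b, c} : Finset ℕ), r.Prime ∧ r ∣ Nat.card G := fun r hr => by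
      simp only [Finset.mem_insert, Finset.mem_singleton] at hr
      rcases hr with rfl | rfl | rfl
      · exact ⟨hap, (hpi' _ hap).1 (hcardS ▸ dvd_mul_of_dvd_right had _)⟩
      · exact ⟨hbp, (hpi' _ hbp).1 (hcardS ▸ dvd_mul_of_dvd_left (dvd_mul_of_dvd_right (dvd_mul_of_dvd_left hbd _) _) _)⟩
      · exact ⟨hcp, (hpi' _ hcp).1 (hcardS ▸ dvd_mul_of_dvd_left (dvd_mul_of_dvd_right (dvd_mul_of_dvd_right hcd _) _) _)⟩
    haveI : (⊥ : Subgroup G).Normal := inferInstance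
    refine (Cfsg.Agent.S3633.result {a, b, c} (by
      rw [Finset.card_insert_of_notMem (by simp [hne.1, hne.2.1]), Finset.card_pair hne.2.2])
      ⟨hd, ?_⟩ ⊥ inferInstance).2
    intro r hr s hs hrs
    refine hnoedge r s (hd r hr).1 (hd s hs).1 hrs ?_
    rintro ⟨x, hx⟩
    obtain ⟨k, hk, hkd⟩ := edge Q (hd r hr).1 (hd s hs).1 hrs hx
    have hkr := dvd_of_mul_right_dvd hkd
    have hks := dvd_of_mul_left_dvd hkd
    have hkk : ∀ {y : ℕ}, y ∈ ({a, b, c} : Finset ℕ) → y ∣ k → (k = A ∧ y = a) ∨ (k = B ∧ y = b) ∨ (k = C ∧ y = c) := by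
      intro y hy hyk
      have hyp := (hd y hy).1
      simp only [Finset.mem_insert, Finset.mem_singleton] at hy
      rcases hk with rfl | rfl | rfl <;> rcases hy with rfl | rfl | rfl
      all_goals first
        | exact Or.inl ⟨rfl, rfl⟩
        | exact Or.inr (Or.inl ⟨rfl, rfl⟩)
        | exact Or.inr (Or.inr ⟨rfl, rfl⟩)
        | exact absurd rfl (hsep hyp hyk had hab.symm)
        | exact absurd rfl (hsep hyp hyk had hac.symm)
        | exact absurd rfl (hsep hyp hyk hbd hab)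
        | exact absurd rfl (hsep hyp hyk hbd hbc.symm)
        | exact absurd rfl (hsep hyp hyk hcd hac)
        | exact absurd rfl (hsep hyp hyk hcd hbc)
    have hAB : A ≠ B := fun e => absurd (Nat.eq_one_of_dvd_coprimes hab dvd_rfl (dvd_of_eq e)) (by omega)
    have hAC : A ≠ C := fun e => absurd (Nat.eq_one_of_dvd_coprimes hac dvd_rfl (dvd_of_eq e)) (by omega)
    have hBC : B ≠ C := fun e => absurd (Nat.eq_one_of_dvd_coprimes hbc (dvd_of_eq e.symm) dvd_rfl) (by omega)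
    rcases hkk hr hkr with ⟨e1, rfl⟩ | ⟨e1, rfl⟩ | ⟨e1, rfl⟩ <;>
      rcases hkk hs hks with ⟨e2, rfl⟩ | ⟨e2, rfl⟩ | ⟨e2, rfl⟩ <;> omega
  -- the quotient by the largest normal 2-subgroup
  set R := Cfsg.pCore 2 G
  obtain ⟨hRn, hR⟩ := Cfsg.Lib.Components.pCore_normal_and_isPGroup (G := G) 2
  haveI := hRn
  have hcitQ : Cfsg.Lib.CITGroups.CIT (G ⧸ R) := hcit.quotient R hR
  have hnsQ : ¬ Group.IsSolvable (G ⧸ R) := fun hs => hns (by
    haveI := hs
    haveI := hR.isNilpotent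
    exact Group.isSolvable_of_ker_le_range R.subtype (QuotientGroup.mk' R)
      (by rw [QuotientGroup.ker_mk', range_subtype]))
  have h2Q : ∀ N : Subgroup (G ⧸ R), N.Normal → IsPGroup 2 N → N = ⊥ := fun N hN hp => by
    haveI := hN
    have hle : N.comap (QuotientGroup.mk' R) ≤ R := le_sSup
      (show _ ∈ {A : Subgroup G | A.Normal ∧ IsPGroup 2 A} from
        ⟨hN.comap _, hp.comap_of_ker_isPGroup _ (by rw [QuotientGroup.ker_mk']; exact hR)⟩)
    refine (eq_bot_iff_forall N).2 fun v hv => ?_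
    obtain ⟨g, rfl⟩ := QuotientGroup.mk'_surjective R v
    exact (QuotientGroup.eq_one_iff g).2 (hle hv)
  obtain ⟨N, hNn, hNs, hNna, hNc⟩ := hcitQ.exists_simple hnsQ h2Q
  haveI := hNn
  haveI := hNs
  have hcardQ : Nat.card G = Nat.card (G ⧸ R) * Nat.card R := R.card_eq_card_quotient_mul_card_subgroup
  have hQd : Nat.card (G ⧸ R) ∣ Nat.card G := Dvd.intro _ hcardQ.symm
  have h3N : ¬ 3 ∣ Nat.card N := fun h3 => by
    have h4 := (hpi' 3 Nat.prime_three).2 ((h3.trans (card_subgroup_dvd_card N)).trans hQd)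
    rw [card_Sz Q] at h4
    have e4 : (2 : ℕ) ^ (2 * m + 1) % 3 = 2 := by rw [pow_succ, pow_mul, Nat.mul_mod, Nat.pow_mod]; norm_num
    generalize hqq : (2 : ℕ) ^ (2 * m + 1) = q at h4 e4
    rcases (Nat.Prime.dvd_mul Nat.prime_three).1 h4 with h5 | h5
    · rcases (Nat.Prime.dvd_mul Nat.prime_three).1 h5 with h6 | h6
      · have := Nat.prime_three.dvd_of_dvd_pow h6
        omega
      · have : (q ^ 2 + 1) % 3 = 2 := by simp [Nat.add_mod, Nat.pow_mod, e4]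
        omega
    · omega
  obtain ⟨K, iK, iKK, k, hk, hK, ⟨e0⟩⟩ := (hcitQ.subgroup N).isoSuzuki hNna h3N
  have P : Par K k := ⟨hk, hK⟩
  set e : N ≃* Cfsg.Sz K k := e0.trans (lieEquiv P).symm
  -- the socle is everything
  have hNtop : N = ⊤ := by
    refine top_le_iff.1 fun g _ => ?_
    obtain ⟨c', σ, hφ⟩ := exists_inner_mul_field P (MulAut.congr e (MulAut.conjNormal g))
    set g' : G ⧸ R := ((e.symm c' : N) : G ⧸ R)⁻¹ * g with hg'
    have hact : MulAut.congr e (MulAut.conjNormal g') = fld P σ := by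
      rw [hg', map_mul, map_mul, hφ, ← mul_assoc]
      refine (mul_eq_right).2 (MulEquiv.ext fun x => ?_)
      rw [MulAut.mul_apply]
      show e (MulAut.conjNormal ((e.symm c' : N) : G ⧸ R)⁻¹ (e.symm (c' * x * c'⁻¹))) = x
      rw [← e.eq_symm_apply]
      refine Subtype.ext ?_
      rw [MulAut.conjNormal_apply, map_mul, map_mul, map_inv]
      simp [mul_assoc]
    set z : N := e.symm (uu P 0 1)
    have hz : orderOf (z : G ⧸ R) = 2 := by
      rw [orderOf_coe, MulEquiv.orderOf_eq, orderOf_eq_prime_iff]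
      refine ⟨?_, fun e1 => one_ne_zero (uu_inj P (e1.trans (uu_zero P).symm)).2⟩
      rw [uu_sq, zero_pow (Nat.succ_ne_zero _), uu_zero]
    have hgz : g' ∈ centralizer ({(z : G ⧸ R)} : Set (G ⧸ R)) := by
      have h1 : e (MulAut.conjNormal g' z) = uu P 0 1 := by
        show MulAut.congr e (MulAut.conjNormal g') (uu P 0 1) = _
        rw [hact, fld_uu, map_zero, map_one]
      rw [← e.eq_symm_apply] at h1
      have h2 := congrArg Subtype.val h1
      rw [MulAut.conjNormal_apply] at h2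
      exact mem_centralizer_singleton_iff.2 (mul_inv_eq_iff_eq_mul.1 h2)
    obtain ⟨j, hj⟩ := (hcitQ _ hz) ⟨g', hgz⟩
    have hσ : σ = 1 := by
      have h1 : σ ^ 2 ^ j = 1 := by
        refine fld_inner P (c := 1) ?_
        rw [map_pow, ← hact, ← map_pow, ← map_pow, show g' ^ 2 ^ j = 1 from congrArg Subtype.val hj, map_one,
          map_one, map_one]
      haveI := charP P
      have h2 : orderOf σ ∣ 2 * k + 1 :=
        (Cfsg.Lib.Known.ChevAut.ringAut_facts (F := K) 2 (2 * k + 1) P.hF).2 ▸ orderOf_dvd_natCard σ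
      rw [← orderOf_eq_one_iff]
      exact Nat.eq_one_of_dvd_coprimes (Nat.Coprime.pow_left j (Nat.coprime_two_left.2 (odd_two_mul_add_one k)))
        (orderOf_dvd_of_pow_eq_one h1) h2
    have hg1 : g' ∈ centralizer (N : Set (G ⧸ R)) := by
      rw [hσ, map_one] at hact
      have h2 : MulAut.conjNormal g' = (1 : MulAut N) := (MulAut.congr e).injective (hact.trans (map_one _).symm)
      refine mem_centralizer_iff.2 fun y hy => ?_
      have h3 := congrArg Subtype.val (DFunLike.congr_fun h2 ⟨y, hy⟩)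
      rw [MulAut.conjNormal_apply] at h3
      exact (mul_inv_eq_iff_eq_mul.1 h3).symm
    rw [hNc, mem_bot, hg', inv_mul_eq_one] at hg1
    exact hg1 ▸ SetLike.coe_mem _
  have eQ : (G ⧸ R) ≃* Cfsg.Sz K k := (Subgroup.topEquiv.symm.trans (MulEquiv.subgroupCongr hNtop.symm)).trans e
  -- equal parameters
  obtain ⟨j, hjR⟩ := IsPGroup.iff_card.1 hR
  have hprimes : ∀ r : ℕ, r.Prime → r ≠ 2 → (r ∣ Nat.card (Cfsg.Sz F m) ↔ r ∣ Nat.card (Cfsg.Sz K k)) := by
    intro r hr hr2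
    rw [hpi' r hr, ← Nat.card_congr eQ.toEquiv, hcardQ, hjR]
    refine ⟨fun hd => ?_, fun hd => dvd_mul_of_dvd_left hd _⟩
    exact ((Nat.Prime.dvd_mul hr).1 hd).resolve_right fun h2 =>
      hr2 ((Nat.prime_dvd_prime_iff_eq hr Nat.prime_two).1 (hr.dvd_of_dvd_pow h2))
  have h1 := param_dvd Q P fun r hr hr2 => (hprimes r hr hr2).1
  have h2 := param_dvd P Q fun r hr hr2 => (hprimes r hr hr2).2
  obtain rfl : k = m := by
    have := Nat.dvd_antisymm h1 h2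
    omega
  obtain ⟨ι⟩ := exists_embedding Q P dvd_rfl
  have hcard : Nat.card (Cfsg.Sz K k) = Nat.card (Cfsg.Sz F k) := by rw [card_Sz P, card_Sz Q]
  have hbij := (Nat.bijective_iff_injective_and_card (emb Q P dvd_rfl ι)).2 ⟨emb_injective Q P dvd_rfl ι, hcard⟩
  exact ⟨(eQ.trans (MulEquiv.ofBijective (emb Q P dvd_rfl ι) hbij)).trans eL⟩

end Cfsg.Agent.S3699
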