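import Mathlib
import Cfsg.Statements.S3704
-- import your own Cfsg.Agent.* helpers here

set_option autoImplicit false
open Cfsg

namespace Cfsg.Agent.S3704

/-- Let G be a finite group acting faithfully and 2-transitively on a finite set Ω of size n, and let H be a subgroup of index n in G which is not transitive on Ω and fixes no point of Ω. Then H has exactly two orbits on Ω. -/
theorem result {G Ω : Type*} [Group G] [Finite G] [MulAction G Ω] [FaithfulSMul G Ω] [Finite Ω] (h2 : MulAction.IsMultiplyPretransitive G Ω 2) (H : Subgroup G) (hidx : H.index = Nat.card Ω) (hnt : ¬ MulAction.IsPretransitive H Ω) (hfix : ∀ a : Ω, ∃ h : H, h • a ≠ a) : Nat.card (MulAction.orbitRel.Quotient H Ω) = 2 := by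
  classical
  haveI := Fintype.ofFinite Ω
  haveI := Fintype.ofFinite G
  haveI : MulAction.IsPretransitive G Ω := MulAction.isPretransitive_of_is_two_pretransitive
  set n := Nat.card Ω with hn
  have hne : Nonempty Ω := by
    rcases isEmpty_or_nonempty Ω with h | h
    · exact absurd (hn ▸ hidx) (by rw [Nat.card_of_isEmpty]; exact Subgroup.index_ne_zero_of_finite)
    · exact h
  obtain ⟨a₀⟩ := hne
  haveI : Nonempty (MulAction.orbitRel.Quotient H Ω) := ⟨Quotient.mk'' a₀⟩
  refine le_antisymm ?_ ?_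
  swap
  · by_contra h
    haveI : Subsingleton (MulAction.orbitRel.Quotient H Ω) := Finite.card_le_one_iff_subsingleton.mp (by omega)
    exact hnt ((MulAction.pretransitive_iff_subsingleton_quotient H Ω).mpr inferInstance)
  by_contra h3
  push Not at h3
  rw [Nat.card_eq_fintype_card, Fintype.two_lt_card_iff] at h3
  obtain ⟨q₁, q₂, q₃, h12, h13, h23⟩ := h3
  obtain ⟨x₁, rfl⟩ := Quotient.exists_rep q₁
  obtain ⟨x₂, rfl⟩ := Quotient.exists_rep q₂
  obtain ⟨x₃, rfl⟩ := Quotient.exists_rep q₃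
  let O : Ω → Finset Ω := fun x => (MulAction.orbit H x).toFinset
  have hO : ∀ x y, y ∈ O x ↔ (⟦y⟧ : MulAction.orbitRel.Quotient H Ω) = ⟦x⟧ := fun x y => by
    show y ∈ (MulAction.orbit H x).toFinset ↔ _
    rw [Set.mem_toFinset, Quotient.eq, MulAction.orbitRel_apply]
  have hinv : ∀ (x : Ω) (h : H) (f : Ω → ℚ), ∑ y ∈ O x, f ((h : G) • y) = ∑ y ∈ O x, f y := by
    intro x h f
    refine Finset.sum_nbij' (fun y => h • y) (fun y => h⁻¹ • y) ?_ ?_ (fun y _ => inv_smul_smul h y) (fun y _ => smul_inv_smul h y) (fun y _ => rfl)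
    · intro y hy; simp only [O, Set.coe_toFinset, Finset.mem_coe, Set.mem_toFinset] at hy ⊢; exact (MulAction.mem_orbit_of_mem_orbit h hy)
    · intro y hy; simp only [O, Set.coe_toFinset, Finset.mem_coe, Set.mem_toFinset] at hy ⊢; exact (MulAction.mem_orbit_of_mem_orbit h⁻¹ hy)
  let M : Ω → ((Ω → ℚ) →ₗ[ℚ] (G ⧸ H → ℚ)) := fun x =>
    { toFun := fun v q => ∑ y ∈ O x, v (q.out • y)
      map_add' := fun u v => funext fun q => by simp [Finset.sum_add_distrib]
      map_smul' := fun c v => funext fun q => by simp [Finset.mul_sum] }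
  have hM : ∀ x v (g : G), M x v (QuotientGroup.mk g) = ∑ y ∈ O x, v (g • y) := fun x v g => by
    obtain ⟨h, hh⟩ := QuotientGroup.mk_out_eq_mul H g
    show ∑ y ∈ O x, v ((QuotientGroup.mk g : G ⧸ H).out • y) = _
    rw [hh, ← hinv x h (fun y => v (g • y))]
    exact Finset.sum_congr rfl fun y _ => by rw [mul_smul]
  -- the incidence map of an orbit is injective
  have hne12 : x₂ ∉ O x₁ := fun h => h12 ((hO x₁ x₂).mp h).symm
  have hk : (O x₁).card < n := by
    rw [hn, Nat.card_eq_fintype_card, ← Finset.card_univ]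
    exact Finset.card_lt_card (Finset.ssubset_univ_iff.mpr fun e => hne12 (e ▸ Finset.mem_univ _))
  have hk0 : 0 < (O x₁).card := Finset.card_pos.mpr ⟨x₁, (hO _ _).mpr rfl⟩
  have hinj : Function.Injective (M x₁) := by
    refine (injective_iff_map_eq_zero (M x₁)).mpr fun v hv => ?_
    set k := (O x₁).card
    have h0 : ∀ g : G, ∑ y ∈ O x₁, v (g • y) = 0 := fun g => by rw [← hM, hv]; rfl
    set c := ∑ g : G, v (g • x₁) * v (g • x₂) with hc
    set A := ∑ g : G, v (g • x₁) * v (g • x₁) with hA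
    have hxy : x₁ ≠ x₂ := fun e => h12 (by rw [e])
    have hcon : ∀ x y : Ω, x ≠ y → ∑ g : G, v (g • x) * v (g • y) = c := fun x y hne => by
      obtain ⟨g₀, e1, e2⟩ := (MulAction.is_two_pretransitive_iff).mp h2 hxy hne
      exact Fintype.sum_equiv (Equiv.mulRight g₀) _ _ fun g => by simp [mul_smul, e1, e2]
    have hdiag : ∀ x : Ω, ∑ g : G, v (g • x) * v (g • x) = A := fun x => by
      obtain ⟨g₀, e1⟩ := MulAction.exists_smul_eq G x₁ x
      exact Fintype.sum_equiv (Equiv.mulRight g₀) _ _ fun g => by simp [mul_smul, e1]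
    have hgen : ∀ s : Finset Ω, ∑ g : G, (∑ x ∈ s, v (g • x)) ^ 2 = (s.card : ℚ) * A + ((s.card : ℚ) * s.card - s.card) * c := fun s => by
      simp only [pow_two, Finset.sum_mul_sum]
      rw [Finset.sum_comm, Finset.sum_congr rfl (g := fun _ => A + ((s.card : ℚ) - 1) * c) (fun x hx => ?_)]
      · rw [Finset.sum_const, nsmul_eq_mul]; ring
      · rw [Finset.sum_comm, ← Finset.add_sum_erase _ _ hx, hdiag,
          Finset.sum_congr rfl (g := fun _ => c) (fun y hy => hcon x y (Finset.ne_of_mem_erase hy).symm),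
          Finset.sum_const, Finset.card_erase_of_mem hx, nsmul_eq_mul, Nat.cast_sub (Finset.card_pos.mpr ⟨x, hx⟩), Nat.cast_one]
    have e1 := hgen (O x₁)
    rw [Finset.sum_eq_zero (fun g _ => by rw [h0, pow_two, mul_zero])] at e1
    have e2 := hgen Finset.univ
    have hpos : 0 ≤ ∑ g : G, (∑ x ∈ Finset.univ, v (g • x)) ^ 2 := Finset.sum_nonneg fun g _ => sq_nonneg _
    rw [e2, Finset.card_univ, ← Nat.card_eq_fintype_card, ← hn] at hpos
    have hA0 : 0 ≤ A := Finset.sum_nonneg fun g _ => mul_self_nonneg _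
    have hkQ : (0 : ℚ) < k := by exact_mod_cast hk0
    have hknQ : (k : ℚ) < n := by exact_mod_cast hk
    have hA' : A = -((k : ℚ) - 1) * c := by
      refine mul_left_cancel₀ hkQ.ne' ?_
      linarith
    have hc0 : 0 ≤ c := by
      have h1 : 0 ≤ ((n : ℚ) * ((n : ℚ) - k)) * c := by rw [hA'] at hpos; linarith
      exact nonneg_of_mul_nonneg_right h1 (by nlinarith)
    have hk1 : (1 : ℚ) ≤ k := by exact_mod_cast hk0
    have hAz : A = 0 := le_antisymm (by rw [hA']; nlinarith) hA0
    funext y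
    obtain ⟨g, hg⟩ := MulAction.exists_smul_eq G x₁ y
    have := (Finset.sum_eq_zero_iff_of_nonneg (fun g _ => mul_self_nonneg (v (g • x₁)))).mp hAz g (Finset.mem_univ _)
    rw [← hg]; exact mul_self_eq_zero.mp this
  have hbij : Function.Bijective (M x₁) := by
    refine ⟨hinj, ?_⟩
    haveI : Fintype (G ⧸ H) := Fintype.ofFinite _
    refine (LinearMap.injective_iff_surjective_of_finrank_eq_finrank ?_).mp hinj
    rw [Module.finrank_fintype_fun_eq_card, Module.finrank_fintype_fun_eq_card, ← Nat.card_eq_fintype_card, ← Nat.card_eq_fintype_card]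
    exact hidx.symm
  let e := LinearEquiv.ofBijective (M x₁) hbij
  let T : (Ω → ℚ) →ₗ[ℚ] (Ω → ℚ) := (e.symm : (G ⧸ H → ℚ) →ₗ[ℚ] (Ω → ℚ)).comp (M x₂)
  have hT : ∀ v, M x₁ (T v) = M x₂ v := fun v => e.apply_symm_apply (M x₂ v)
  have hequiv : ∀ (g : G) v x, T (fun y => v (g • y)) x = T v (g • x) := by
    intro g v x
    have : T (fun y => v (g • y)) = fun y => T v (g • y) := hinj (funext fun q => by
      obtain ⟨g', rfl⟩ := QuotientGroup.mk_surjective q
      rw [hT, hM, hM, Finset.sum_congr rfl (fun y _ => (congrArg v (mul_smul g g' y)).symm), ← hM x₂ v (g * g'),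
        ← hT, hM]
      exact Finset.sum_congr rfl fun y _ => by rw [mul_smul])
    rw [this]
  set α := T (Pi.single x₁ 1) x₁ with hα
  set β := T (Pi.single x₁ 1) x₂ with hβ
  have hxy : x₁ ≠ x₂ := fun e => h12 (by rw [e])
  have hsingle : ∀ (g : G) (b : Ω), (fun y => (Pi.single (g • b) 1 : Ω → ℚ) (g • y)) = Pi.single b 1 := fun g b => funext fun y => by
    simp [Pi.single_apply]
  have hTd : ∀ b x, T (Pi.single b 1) x = if x = b then α else β := by
    intro b x
    split_ifs with hxb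
    · subst hxb
      obtain ⟨g, hg⟩ := MulAction.exists_smul_eq G x x₁
      rw [hα, ← hsingle g x, hequiv, hg]
    · obtain ⟨g, e1, e2⟩ := (MulAction.is_two_pretransitive_iff).mp h2 (Ne.symm hxb) hxy
      rw [hβ, ← hsingle g b, hequiv, e1, e2]
  have hval : ∀ x, (if x ∈ O x₂ then (1 : ℚ) else 0) = (α - β) * (if x ∈ O x₁ then 1 else 0) + β * (O x₁).card := by
    intro x
    have := congrFun (hT (Pi.single x 1)) (QuotientGroup.mk (1 : G))
    rw [hM, hM] at this
    simp only [one_smul, hTd, Pi.single_apply] at this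
    rw [← Finset.sum_ite_eq' (O x₂) x (fun _ => (1 : ℚ)), ← this,
      ← Finset.sum_ite_eq' (O x₁) x (fun _ => (1 : ℚ)), Finset.mul_sum, mul_comm β, ← nsmul_eq_mul, ← Finset.sum_const,
      ← Finset.sum_add_distrib]
    exact Finset.sum_congr rfl fun y _ => by split_ifs <;> ring
  have m1 : x₁ ∈ O x₁ := (hO _ _).mpr rfl
  have m2 : x₂ ∈ O x₂ := (hO _ _).mpr rfl
  have n12 : x₁ ∉ O x₂ := fun h => h12 ((hO _ _).mp h)
  have n31 : x₃ ∉ O x₁ := fun h => h13 ((hO _ _).mp h).symm
  have n32 : x₃ ∉ O x₂ := fun h => h23 ((hO _ _).mp h).symm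
  have v2 := hval x₂
  have v3 := hval x₃
  simp only [m2, hne12, n31, n32, if_true, if_false] at v2 v3
  linarith

end Cfsg.Agent.S3704
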