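import Cfsg.Statements.S3710
import Cfsg.Agent.Known.Phan.Nine
-- import your own Cfsg.Agent.* helpers here

set_option autoImplicit false
open Cfsg

namespace Cfsg.Agent.S3710

/-- Recognition of unitary groups over the field with 9 elements from a weak Phan system. Let F be a field with 9 elements and n ≥ 4. Let G be a group with subgroups U_0, …, U_{n−1}, each isomorphic to SU(2, 9), and, for consecutive indices, subgroups V_{i,i+1} in which U_i and U_{i+1} form a standard pair (via an isomorphism from SU(3, 9) or PSU(3, 9) carrying the block-diagonal subgroups, or their images, onto U_i and U_{i+1}); suppose U_i and U_j commute elementwise whenever the indices differ by at least 2, that G is generated by the U_i and the V_{i,i+1}, and moreover that for each i the subgroup generated by V_{i,i+1} and V_{i+1,i+2} is a homomorphic image of SU(4, 9). Then G is a homomorphic image of SU(n+1, 9). (G is not assumed finite.) -/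
theorem result {G : Type*} [Group G] (n : ℕ) (hn : 4 ≤ n)
    (F : Type*) [Field F] [Fintype F] (hF : Fintype.card F = 9)
    (U : Fin n → Subgroup G) (e : ∀ i, ↥(Cfsg.SU 2 F 3) ≃* ↥(U i))
    (V : Fin n → Fin n → Subgroup G)
    (h1 : ∀ i j : Fin n, (i : ℕ) + 2 ≤ j → ∀ x ∈ U i, ∀ y ∈ U j, x * y = y * x)
    (h2 : ∀ i j : Fin n, (i : ℕ) + 1 = j → Cfsg.IsStandardUnitaryPair (V i j) (U i) (U j) F 3)
    (hgen : (⨆ i, U i) ⊔ (⨆ (i : Fin n) (j : Fin n) (_ : (i : ℕ) + 1 = j), V i j) = ⊤)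
    (h4 : ∀ i j k : Fin n, (i : ℕ) + 1 = j → (j : ℕ) + 1 = k →
      ∃ g : ↥(Cfsg.SU 4 F 3) →* ↥(V i j ⊔ V j k), Function.Surjective g) :
    ∃ f : ↥(Cfsg.SU (n + 1) F 3) →* G, Function.Surjective f := by
  haveI : Fact (Fintype.card F = 3 ^ 2) := ⟨by rw [hF]; norm_num⟩
  refine Cfsg.Lib.Known.Phan.recog (q := 3) le_rfl n (by omega) U e V h1 h2 hgen
    (Or.inr fun U' f hU' hf i hik => ?_)
  obtain ⟨g, hg⟩ := h4 ⟨i, by omega⟩ ⟨i + 1, by omega⟩ ⟨i + 2, by omega⟩ rfl rfl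
  obtain ⟨p, hp, hpr⟩ := Cfsg.Lib.Known.Phan.exists_edge (h2 ⟨i, by omega⟩ ⟨i + 1, by omega⟩ rfl) (e _) (e _)
  obtain ⟨p', hp', hpr'⟩ :=
    Cfsg.Lib.Known.Phan.exists_edge (h2 ⟨i + 1, by omega⟩ ⟨i + 2, by omega⟩ rfl) (e _) (e _)
  have hgr : ((Subgroup.subtype _).comp g).range = V ⟨i, by omega⟩ ⟨i + 1, by omega⟩ ⊔
      V ⟨i + 1, by omega⟩ ⟨i + 2, by omega⟩ := by
    rw [MonoidHom.range_comp, MonoidHom.range_eq_top.mpr hg, ← MonoidHom.range_eq_map, Subgroup.range_subtype]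
  obtain ⟨Φ, hΦ0, hΦ1⟩ := Cfsg.Lib.Known.Phan.base_nine (hf.edge i (by omega)) (hf.edge (i + 1) (by omega))
    (hf.agree i (by omega)) (fun a ha b hb => by
      rw [hU' i (by omega)] at ha
      rw [hU' (i + 1 + 1) (by omega)] at hb
      exact h1 ⟨i, by omega⟩ ⟨i + 1 + 1, by omega⟩ le_rfl a ha b hb)
    ((Subgroup.subtype _).comp g)
    (by
      rw [hgr, hU' i (by omega), ← hp.left, ← hpr]
      exact le_sup_of_le_left (by rintro _ ⟨s, rfl⟩; exact ⟨_, rfl⟩))
    (by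
      rw [hgr, hU' (i + 1) (by omega), ← hp.right, ← hpr]
      exact le_sup_of_le_left (by rintro _ ⟨s, rfl⟩; exact ⟨_, rfl⟩))
    (by
      rw [hgr, hU' (i + 1 + 1) (by omega), ← hp'.right, ← hpr']
      exact le_sup_of_le_right (by rintro _ ⟨s, rfl⟩; exact ⟨_, rfl⟩))
  refine ⟨Φ, fun j hj => ?_⟩
  rcases (show j = 0 ∨ j = 1 by omega) with rfl | rfl
  · exact hΦ0
  · exact hΦ1

end Cfsg.Agent.S3710
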