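import Cfsg.Statements.S3716
import Cfsg.Agent.LocalThree.Order9.Wrap

set_option autoImplicit false
open Cfsg

namespace Cfsg.Agent.S3716

/-- Let G be a finite group with an elementary abelian Sylow 3-subgroup M of order 9 which is self-centralizing (C_G(M) = M), let N = N_G(M), and suppose C_G(g) ≤ N for every nonidentity g ∈ M. If the Sylow 2-subgroups of N are dihedral of order 8, then G is not simple. -/
theorem result {G : Type*} [Group G] [Finite G] (M : Sylow 3 G) (hM9 : Nat.card ↥(M : Subgroup G) = 9)
    (hMel : ∀ m ∈ (M : Subgroup G), m ^ 3 = 1)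
    (hCM : Subgroup.centralizer ((M : Subgroup G) : Set G) = (M : Subgroup G))
    (N : Subgroup G) (hN : N = Subgroup.normalizer ((M : Subgroup G) : Set G))
    (hCg : ∀ g ∈ (M : Subgroup G), g ≠ 1 → Subgroup.centralizer ({g} : Set G) ≤ N)
    (hS : ∀ S : Sylow 2 ↥N, Nonempty (↥(S : Subgroup ↥N) ≃* DihedralGroup 4)) :
    ¬ IsSimpleGroup G := by
  subst hN
  intro hsimp
  rcases Cfsg.Lib.Order9.main8_sylow M hM9 hMel hCM hCg hS with hn | ⟨⟨e⟩⟩
  · rcases hsimp.eq_bot_or_eq_top_of_normal _ hn with h | h
    · rw [h, Subgroup.card_bot] at hM9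
      omega
    · obtain ⟨T⟩ := (inferInstance : Nonempty (Sylow 2
        (Subgroup.normalizer ((M : Subgroup G) : Set G))))
      obtain ⟨f⟩ := hS T
      have h8 : Nat.card T = 8 := by rw [Nat.card_congr f.toEquiv, DihedralGroup.nat_card]
      have hd := (Subgroup.card_subgroup_dvd_card T.toSubgroup).trans
        (Subgroup.card_subgroup_dvd_card _)
      rw [h8] at hd
      rw [← Subgroup.card_top (G := G), ← h, hM9] at hd
      omega
  · have := e.isSimpleGroup_congr.1 hsimp
    rcases this.eq_bot_or_eq_top_of_normal (alternatingGroup (Fin 6)) inferInstance with h | h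
    · have h360 := congrArg (fun H : Subgroup _ => Nat.card H) h
      simp only [Subgroup.card_bot] at h360
      rw [nat_card_alternatingGroup, Nat.card_fin] at h360
      norm_num [Nat.factorial] at h360
    · have h360 := congrArg (fun H : Subgroup _ => Nat.card H) h
      simp only [Subgroup.card_top, Nat.card_perm, Nat.card_fin] at h360
      rw [nat_card_alternatingGroup, Nat.card_fin] at h360
      norm_num [Nat.factorial] at h360

end Cfsg.Agent.S3716
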