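import Cfsg.Statements.S3733
import Mathlib

set_option autoImplicit false
open Cfsg

namespace Cfsg.Agent.S3733

/-- Let A and V be subgroups of a finite group with V abelian and nontrivial and A normalizing V. Suppose a nonempty finite family of proper subgroups of A partitions A: every non-identity element of A lies in exactly one member. If the number of members minus one is coprime to the order of V, then some member B of the family has a non-identity fixed point on V, that is V ∩ C(B) ≠ 1. -/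
theorem result {G : Type*} [Group G] [Finite G] (A V : Subgroup G) (hVab : IsMulCommutative V) (hV : V ≠ ⊥) (hAV : A ≤ Subgroup.normalizer (V : Set G)) (𝒜 : Finset (Subgroup G)) (hne : 𝒜.Nonempty) (hprop : ∀ B ∈ 𝒜, B < A) (hpart : ∀ a ∈ A, a ≠ 1 → ∃! B, B ∈ 𝒜 ∧ a ∈ B) (hk : (𝒜.card - 1).Coprime (Nat.card V)) : ∃ B ∈ 𝒜, V ⊓ Subgroup.centralizer (B : Set G) ≠ ⊥ := by
  classical
  have := Fintype.ofFinite G
  by_contra hcon
  push Not at hcon
  let : CommGroup V :=
    { (inferInstance : Group V) with mul_comm := hVab.is_comm.comm }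
  let f : V → G → V := fun v a =>
    if h : a ∈ A then ⟨a * v * a⁻¹, (Subgroup.mem_normalizer_iff.mp (hAV h) v).mp v.2⟩ else 1
  have hfval : ∀ v : V, ∀ a ∈ A, (f v a : G) = a * v * a⁻¹ := fun v a ha => by simp [f, dif_pos ha]
  let S : Subgroup G → Finset G := fun B => Finset.univ.filter (fun a => a ∈ B)
  let N : Subgroup G → V → V := fun B v => ∏ a ∈ S B, f v a
  have hfix : ∀ B : Subgroup G, B ≤ A → ∀ v : V, (N B v : G) ∈ Subgroup.centralizer (B : Set G) := by
    intro B hBA v
    rw [Subgroup.mem_centralizer_iff]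
    intro c hc
    have hcA : c ∈ A := hBA hc
    let φ : V →* V := MonoidHom.mk'
      (fun w => ⟨c * w * c⁻¹, (Subgroup.mem_normalizer_iff.mp (hAV hcA) w).mp w.2⟩)
      fun u w => Subtype.ext (by simp only [Subgroup.coe_mul]; group)
    have h1 : φ (N B v) = N B v := by
      rw [map_prod]
      refine Finset.prod_bij (fun a _ => c * a) (fun a ha => ?_) (fun _ _ _ _ h => mul_left_cancel h)
        (fun b hb => ⟨c⁻¹ * b, ?_, mul_inv_cancel_left c b⟩) (fun a ha => ?_)
      · simp only [S, Finset.mem_filter, Finset.mem_univ, true_and] at ha ⊢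
        exact B.mul_mem hc ha
      · simp only [S, Finset.mem_filter, Finset.mem_univ, true_and] at hb ⊢
        exact B.mul_mem (B.inv_mem hc) hb
      · simp only [S, Finset.mem_filter, Finset.mem_univ, true_and] at ha
        refine Subtype.ext ?_
        show c * (f v a : G) * c⁻¹ = (f v (c * a) : G)
        rw [hfval v a (hBA ha), hfval v (c * a) (A.mul_mem hcA (hBA ha))]
        group
    have h2 : c * (N B v : G) * c⁻¹ = N B v := congrArg Subtype.val h1
    exact mul_inv_eq_iff_eq_mul.mp h2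
  have hone : ∀ B ∈ 𝒜, ∀ v : V, N B v = 1 := by
    intro B hB v
    have : (N B v : G) ∈ V ⊓ Subgroup.centralizer (B : Set G) := ⟨(N B v).2, hfix B (hprop B hB).le v⟩
    rw [hcon B hB, Subgroup.mem_bot] at this
    exact Subtype.ext this
  obtain ⟨B₀, hB₀⟩ := hne
  have hA : ∀ v : V, N A v = 1 := by
    intro v
    have : (N A v : G) ∈ V ⊓ Subgroup.centralizer (B₀ : Set G) :=
      ⟨(N A v).2, Subgroup.centralizer_le (hprop B₀ hB₀).le (hfix A le_rfl v)⟩
    rw [hcon B₀ hB₀, Subgroup.mem_bot] at this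
    exact Subtype.ext this
  have hf1 : ∀ v : V, f v 1 = v := fun v => Subtype.ext (by rw [hfval v 1 A.one_mem]; simp)
  have hsplit : ∀ (B : Subgroup G) (v : V), N B v = v * ∏ a ∈ (S B).erase 1, f v a := fun B v => by
    show ∏ a ∈ S B, f v a = _
    rw [← Finset.mul_prod_erase (S B) (f v) (a := 1) (by simp [S]), hf1]
  have hU : (S A).erase 1 = 𝒜.biUnion (fun B => (S B).erase 1) := by
    ext a
    simp only [Finset.mem_erase, Finset.mem_biUnion, S, Finset.mem_filter, Finset.mem_univ, true_and]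
    constructor
    · rintro ⟨ha1, haA⟩
      obtain ⟨B, ⟨hB, haB⟩, -⟩ := hpart a haA ha1
      exact ⟨B, hB, ha1, haB⟩
    · rintro ⟨B, hB, ha1, haB⟩
      exact ⟨ha1, (hprop B hB).le haB⟩
  have hdisj : Set.PairwiseDisjoint (𝒜 : Set (Subgroup G)) (fun B => (S B).erase 1) := by
    intro B hB C hC hBC
    rw [Function.onFun, Finset.disjoint_left]
    intro a ha ha'
    simp only [Finset.mem_erase, S, Finset.mem_filter, Finset.mem_univ, true_and] at ha ha'
    exact hBC ((hpart a ((hprop B hB).le ha.2) ha.1).unique ⟨hB, ha.2⟩ ⟨hC, ha'.2⟩)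
  refine hV ((Subgroup.eq_bot_iff_forall _).mpr fun v hv => ?_)
  have h1 := hA ⟨v, hv⟩
  rw [hsplit, hU, Finset.prod_biUnion hdisj,
    Finset.prod_congr rfl (fun B hB => show ∏ a ∈ (S B).erase 1, f ⟨v, hv⟩ a = (⟨v, hv⟩ : V)⁻¹ from
      eq_inv_of_mul_eq_one_right ((hsplit B ⟨v, hv⟩).symm.trans (hone B hB _))),
    Finset.prod_const, inv_pow, mul_inv_eq_one] at h1
  have hk1 : 1 ≤ 𝒜.card := Finset.card_pos.mpr ⟨B₀, hB₀⟩
  have h2 : (⟨v, hv⟩ : V) ^ (𝒜.card - 1) = 1 := by
    apply mul_right_cancel (b := (⟨v, hv⟩ : V))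
    rw [← pow_succ, Nat.sub_add_cancel hk1, one_mul]
    exact h1.symm
  have h3 : (⟨v, hv⟩ : V) = 1 := orderOf_eq_one_iff.mp
    (Nat.eq_one_of_dvd_coprimes hk (orderOf_dvd_of_pow_eq_one h2) (orderOf_dvd_natCard _))
  exact congrArg Subtype.val h3

end Cfsg.Agent.S3733
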