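import Cfsg.Statements.S3734
import Cfsg.Agent.Coprime.CyclicQuotient

set_option autoImplicit false
open Cfsg

namespace Cfsg.Agent.S3734

open Cfsg.Lib.Coprime
open scoped commutatorElement

/-- Let A and G be subgroups of a finite group with A abelian, A normalizing G and the orders of A and G coprime. Then G is generated by the fixed-point subgroups C_G(B) of those subgroups B of A for which A/B is cyclic (that is, A = ⟨B, a⟩ for some a), and [G, A] is generated by the commutator subgroups [C_G(B), A] over the same subgroups B. -/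
theorem result {X : Type*} [Group X] [Finite X] (A G : Subgroup X) (hAab : IsMulCommutative A) (hAG : A ≤ Subgroup.normalizer (G : Set X)) (hcop : (Nat.card A).Coprime (Nat.card G)) : (⨆ B ∈ {B : Subgroup X | B ≤ A ∧ ∃ a ∈ A, B ⊔ Subgroup.zpowers a = A}, G ⊓ Subgroup.centralizer (B : Set X)) = G ∧ (⨆ B ∈ {B : Subgroup X | B ≤ A ∧ ∃ a ∈ A, B ⊔ Subgroup.zpowers a = A}, ⁅G ⊓ Subgroup.centralizer (B : Set X), A⁆) = ⁅G, A⁆ := by
  haveI := hAab
  have part1 : ∀ K : Subgroup X, A ≤ Subgroup.normalizer (K : Set X) → (Nat.card A).Coprime (Nat.card K) →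
      (⨆ B ∈ cyclicQuot A, K ⊓ Subgroup.centralizer (B : Set X)) = K := fun K h1 h2 =>
    le_antisymm (iSup₂_le fun _ _ => inf_le_left)
      (le_join_cyclicQuot _ ⊥ K le_rfl bot_le h1 h2 bot_le)
  refine ⟨part1 G hAG hcop, le_antisymm (iSup₂_le fun B _ => Subgroup.commutator_mono inf_le_left le_rfl) ?_⟩
  set Y := ⨆ B ∈ cyclicQuot A, ⁅G ⊓ Subgroup.centralizer (B : Set X), A⁆
  show ⁅G, A⁆ ≤ Y
  have hsol : Group.IsSolvable A := Group.isSolvable_of_comm fun a b => mul_comm' a b
  set K := ⁅G, A⁆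
  have hKG : K ≤ G := commutator_le_of_le_normalizer hAG
  have hAK : A ≤ Subgroup.normalizer (K : Set X) := le_normalizer_commutator_right A G
  set C := K ⊓ Subgroup.centralizer (A : Set X)
  have hBA : ∀ B ∈ cyclicQuot A, A ≤ Subgroup.normalizer (B : Set X) := fun B hB =>
    le_normalizer_of_le_centralizer (le_centralizer_of_abelian.trans (Subgroup.centralizer_le hB.1))
  have hYsplit : K ≤ Y ⊔ C := by
    rw [← part1 K hAK (coprime_of_le hKG hcop)]
    refine iSup₂_le fun B hB => ?_
    have hAKB := le_normalizer_inf_centralizer hAK (hBA B hB)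
    have h1 := commutator_sup_centralizer hAKB (coprime_of_le (inf_le_left.trans hKG) hcop) (Or.inl hsol)
    rw [← h1]
    refine sup_le_sup ((Subgroup.commutator_mono (inf_le_inf_right _ hKG) le_rfl).trans
      (le_iSup₂ (f := fun B (_ : B ∈ cyclicQuot A) => ⁅G ⊓ Subgroup.centralizer (B : Set X), A⁆) B hB)) ?_
    exact inf_le_inf_right _ inf_le_left
  have hAY : A ≤ Subgroup.normalizer (Y : Set X) := fun a ha => by
    rw [← conjMap_eq_self_iff, conjMap, Subgroup.map_iSup]
    refine iSup_congr fun B => ?_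
    rw [Subgroup.map_iSup]
    refine iSup_congr fun hB => ?_
    rw [Subgroup.map_commutator]
    exact congrArg₂ (fun P Q : Subgroup X => ⁅P, Q⁆)
      (conjMap_eq_self (le_normalizer_inf_centralizer hAG (hBA B hB) ha)) (conjMap_eq_self (Subgroup.le_normalizer ha))
  have hCY : C ≤ Subgroup.normalizer (Y : Set X) := fun c hc => by
    rw [← conjMap_eq_self_iff, conjMap, Subgroup.map_iSup]
    refine iSup_congr fun B => ?_
    rw [Subgroup.map_iSup]
    refine iSup_congr fun hB => ?_
    rw [Subgroup.map_commutator]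
    exact congrArg₂ (fun P Q : Subgroup X => ⁅P, Q⁆)
      (conjMap_eq_self (Subgroup.le_normalizer ⟨hKG hc.1, Subgroup.centralizer_le hB.1 hc.2⟩))
      (conjMap_eq_self (le_normalizer_of_le_centralizer
        (le_refl (Subgroup.centralizer (A : Set X))) hc.2))
  have hK2 : K = ⁅K, A⁆ := (commutator_commutator_eq hAG hcop (Or.inl hsol)).symm
  rw [hK2, Subgroup.commutator_le]
  intro k hk a ha
  obtain ⟨y, hy, c, hc, rfl⟩ := (mem_sup_of_le_normalizer hCY).1 (hYsplit hk)
  have hca : a * c = c * a := Subgroup.mem_centralizer_iff.1 hc.2 a ha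
  have h1 : ⁅y * c, a⁆ = y * (a * y⁻¹ * a⁻¹) := by
    calc ⁅y * c, a⁆ = y * (c * a) * c⁻¹ * y⁻¹ * a⁻¹ := by simp only [commutatorElement_def]; group
      _ = _ := by rw [← hca]; group
  rw [h1]
  exact mul_mem hy ((Subgroup.mem_normalizer_iff.1 (hAY ha) _).1 (inv_mem hy))

end Cfsg.Agent.S3734
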