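import Cfsg.Statements.S3735
import Cfsg.Agent.SolvStruct.Zipper
import Cfsg.Agent.Coprime.Basic

set_option autoImplicit false
open Cfsg

namespace Cfsg.Agent.S3735

open scoped Pointwise

/-- Clifford's Theorem for actions on finite abelian groups, first part. Let H and V be subgroups of a finite group with V abelian and H normalizing V, and let A be a normal subgroup of H. If every H-invariant subgroup of V has an H-invariant complement in V, then every A-invariant subgroup of V has an A-invariant complement in V. -/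
theorem result {G : Type*} [Group G] [Finite G] (H A V : Subgroup G) (hVab : IsMulCommutative V) (hHV : H ≤ Subgroup.normalizer (V : Set G)) (hAH : A ≤ H) (hAn : H ≤ Subgroup.normalizer (A : Set G)) (hss : ∀ U : Subgroup G, U ≤ V → H ≤ Subgroup.normalizer (U : Set G) → ∃ W : Subgroup G, W ≤ V ∧ H ≤ Subgroup.normalizer (W : Set G) ∧ U ⊓ W = ⊥ ∧ U ⊔ W = V) (U : Subgroup G) (hUV : U ≤ V) (hAU : A ≤ Subgroup.normalizer (U : Set G)) : ∃ W : Subgroup G, W ≤ V ∧ A ≤ Subgroup.normalizer (W : Set G) ∧ U ⊓ W = ⊥ ∧ U ⊔ W = V := by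
  haveI := hVab
  have hle_norm : ∀ W : Subgroup G, W ≤ V → V ≤ Subgroup.normalizer (W : Set G) := fun W hW v hv => by
    refine Subgroup.mem_normalizer_iff.2 fun x => ⟨fun hx => ?_, fun hx => ?_⟩
    · have h : v * x = x * v := congrArg Subtype.val (mul_comm' (⟨v, hv⟩ : V) ⟨x, hW hx⟩)
      rwa [h, mul_inv_cancel_right]
    · have h : v * (v * x * v⁻¹) = v * x * v⁻¹ * v := congrArg Subtype.val (mul_comm' (⟨v, hv⟩ : V) ⟨_, hW hx⟩)
      rw [inv_mul_cancel_right] at h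
      rwa [mul_left_cancel h] at hx
  let inv : Subgroup G → Prop := fun S => S ≤ V ∧ A ≤ Subgroup.normalizer (S : Set G)
  let mins : Set (Subgroup G) := {S | S ≠ ⊥ ∧ inv S ∧ ∀ T, inv T → T ≤ S → T = ⊥ ∨ T = S}
  have hexists : ∀ W, inv W → W ≠ ⊥ → ∃ S ∈ mins, S ≤ W := by
    intro W hW hne
    obtain ⟨S, hSW, hS⟩ := Finite.exists_le_minimal (p := fun T => inv T ∧ T ≠ ⊥) ⟨hW, hne⟩
    exact ⟨S, ⟨hS.prop.2, hS.prop.1, fun T hT hTS => or_iff_not_imp_left.2 fun hTb =>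
      le_antisymm hTS (hS.le_of_le ⟨hT, hTb⟩ hTS)⟩, hSW⟩
  set Y := sSup mins
  have hYV : Y ≤ V := sSup_le fun S hS => hS.2.1.1
  have hmap : ∀ h ∈ H, ∀ S ∈ mins, MulAut.conj h • S ∈ mins := by
    intro h hh S hS
    have key : ∀ g ∈ H, ∀ T, inv T → inv (MulAut.conj g • T) := by
      intro g hg T hT
      constructor
      · rintro _ ⟨t, ht, rfl⟩
        exact (Subgroup.mem_normalizer_iff.1 (hHV hg) t).1 (hT.1 ht)
      · intro a ha
        have ha' : g⁻¹ * a * g ∈ A := (Subgroup.mem_normalizer_iff''.1 (hAn hg) a).1 ha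
        rw [show MulAut.conj g • T = Cfsg.Lib.Coprime.conjMap g T from rfl,
          Cfsg.Lib.Coprime.normalizer_conjMap, Cfsg.Lib.Coprime.mem_conjMap]
        exact hT.2 ha'
    refine ⟨fun e => hS.1 ?_, key h hh S hS.2.1, fun T hT hTS => ?_⟩
    · have := congrArg (fun X => MulAut.conj h⁻¹ • X) e
      simpa [smul_smul, ← map_mul] using this
    · have h2 : MulAut.conj h⁻¹ • T ≤ S := by
        rintro _ ⟨t, ht, rfl⟩
        obtain ⟨s, hs, hst⟩ := hTS ht
        rw [← hst]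
        simpa [mul_assoc] using hs
      have hback : T = MulAut.conj h • (MulAut.conj h⁻¹ • T) := by simp [smul_smul, ← map_mul]
      rcases hS.2.2 _ (key _ (inv_mem hh) T hT) h2 with e | e
      · exact Or.inl (by rw [hback, e, Subgroup.smul_bot])
      · exact Or.inr (by rw [hback, e])
  have hHY : H ≤ Subgroup.normalizer (Y : Set G) := fun h hh => by
    refine Cfsg.Lib.SolvStruct.mem_normalizer_of_conj_smul_le ?_
    rw [Cfsg.Lib.SolvStruct.conj_smul_eq_map, Subgroup.map_le_iff_le_comap]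
    exact sSup_le fun S hS => Subgroup.map_le_iff_le_comap.1 (le_sSup (hmap h hh S hS))
  obtain ⟨W0, hW0, hHW0, hYW0, hsup⟩ := hss Y hYV hHY
  have hY : Y = V := by
    by_cases hb : W0 = ⊥
    · rwa [hb, sup_bot_eq] at hsup
    · obtain ⟨S, hS, hSW⟩ := hexists W0 ⟨hW0, hAH.trans hHW0⟩ hb
      exact absurd (le_bot_iff.1 ((le_inf (le_sSup hS) hSW).trans hYW0.le)) hS.1
  obtain ⟨W, -, hW⟩ := Finite.exists_le_maximal (p := fun T => inv T ∧ U ⊓ T = ⊥) (a := ⊥)
    ⟨⟨bot_le, by rw [Subgroup.normalizer_eq_top_iff.2 inferInstance]; exact le_top⟩, inf_bot_eq U⟩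
  obtain ⟨⟨hWV, hAW⟩, hUW⟩ := hW.prop
  refine ⟨W, hWV, hAW, hUW, le_antisymm (sup_le hUV hWV) ?_⟩
  rw [← hY]
  refine sSup_le fun S hS => ?_
  by_contra hSle
  have hAUW : A ≤ Subgroup.normalizer ((U ⊔ W : Subgroup G) : Set G) := Cfsg.Lib.Coprime.le_normalizer_sup hAU hAW
  have hmeet : (U ⊔ W) ⊓ S = ⊥ := by
    rcases hS.2.2 ((U ⊔ W) ⊓ S) ⟨inf_le_left.trans (sup_le hUV hWV),
      Cfsg.Lib.Coprime.le_normalizer_inf hAUW hS.2.1.2⟩ inf_le_right with e | e
    · exact e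
    · exact absurd (inf_eq_right.1 e) hSle
  have hbig : U ⊓ (W ⊔ S) = ⊥ := by
    rw [eq_bot_iff]
    rintro x ⟨hxU, hx⟩
    obtain ⟨w, hw, s, hs, rfl⟩ := (Cfsg.Lib.Coprime.mem_sup_of_le_normalizer (hS.2.1.1.trans (hle_norm W hWV))).1 hx
    have hsUW : s ∈ U ⊔ W := by
      have := mul_mem (Subgroup.mem_sup_right (inv_mem hw) : w⁻¹ ∈ U ⊔ W) (Subgroup.mem_sup_left hxU)
      rwa [inv_mul_cancel_left] at this
    have hs1 : s = 1 := Subgroup.mem_bot.1 (hmeet.le ⟨hsUW, hs⟩)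
    subst hs1
    rw [mul_one] at hxU ⊢
    exact hUW.le ⟨hxU, hw⟩
  exact hSle ((le_sup_right.trans (hW.le_of_ge ⟨⟨sup_le hWV hS.2.1.1,
    Cfsg.Lib.Coprime.le_normalizer_sup hAW hS.2.1.2⟩, hbig⟩ le_sup_left)).trans le_sup_right)

end Cfsg.Agent.S3735
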