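import Cfsg.Statements.S3736
import Cfsg.Agent.Coprime.Generation
import Cfsg.Agent.PGroups.Basic
import Cfsg.Agent.PGroups.Commutators

set_option autoImplicit false
open Cfsg

namespace Cfsg.Agent.S3736

open Subgroup Cfsg.Lib.Coprime
open scoped commutatorElement

theorem char_normalized {X : Type*} [Group X] {P : Subgroup X} (K : Subgroup P) [hK : K.Characteristic] :
    normalizer (P : Set X) ≤ normalizer ((K.map P.subtype : Subgroup X) : Set X) := by
  intro g hg
  rw [← conjMap_eq_self_iff, conjMap, Subgroup.map_map]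
  conv_rhs => rw [← Subgroup.characteristic_iff_map_eq.mp hK (P.normalizerMonoidHom ⟨g, hg⟩), Subgroup.map_map]
  exact congrArg (fun f => K.map f) (MonoidHom.ext fun x => rfl)

theorem fixed_le_derived {X : Type*} [Group X] [Finite X] {A P : Subgroup X}
    (hAP : A ≤ normalizer (P : Set X)) (hcop : (Nat.card A).Coprime (Nat.card P))
    (hgen : P ≤ ⁅P, A⁆) : P ⊓ centralizer (A : Set X) ≤ (commutator P).map P.subtype := by
  classical
  haveI := Fintype.ofFinite A
  rintro x ⟨hxP, hxC⟩
  let ν : Abelianization P →* Abelianization P := ∏ a : A, (abAut hAP a).toMonoidHom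
  have hν : ∀ v, ν v = ∏ a : A, abAut hAP a v := fun v => MonoidHom.finsetProd_apply _ _ v
  have hkill : ∀ (a : A) (v : Abelianization P), ν (abAut hAP a v) = ν v := by
    intro a v
    rw [hν, hν]
    refine Fintype.prod_equiv (Equiv.mulRight a) _ _ fun b => ?_
    simp [map_mul, MulAut.mul_apply]
  have hab : ∀ (a : A) (v : P), abAut hAP a (Abelianization.of v) =
      Abelianization.of (P.normalizerMonoidHom (Subgroup.inclusion hAP a) v) := fun a v => rfl
  have htriv : P ≤ ((ν.comp Abelianization.of).ker).map P.subtype := by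
    refine hgen.trans (commutator_le.2 fun r hr a ha => ?_)
    refine ⟨⟨r, hr⟩ * (P.normalizerMonoidHom (Subgroup.inclusion hAP ⟨a, ha⟩) ⟨r, hr⟩)⁻¹, ?_, ?_⟩
    · show ν (Abelianization.of _) = 1
      rw [map_mul, map_inv, ← hab, map_mul, map_inv, hkill, mul_inv_cancel]
    · show r * (a * r * a⁻¹)⁻¹ = ⁅r, a⁆
      rw [commutatorElement_def]; group
  obtain ⟨y, hy, hyx⟩ := htriv hxP
  obtain rfl : y = ⟨x, hxP⟩ := Subtype.ext hyx
  have h1 : ν (Abelianization.of (⟨x, hxP⟩ : P)) = Abelianization.of (⟨x, hxP⟩ : P) ^ Nat.card A := by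
    rw [hν, Nat.card_eq_fintype_card, ← Finset.card_univ, ← Finset.prod_const]
    refine Finset.prod_congr rfl fun a _ => ?_
    rw [hab]
    refine congrArg _ (Subtype.ext ?_)
    show (a : X) * x * (a : X)⁻¹ = x
    rw [mem_centralizer_iff.mp hxC a a.2, mul_inv_cancel_right]
  have h2 : Abelianization.of (⟨x, hxP⟩ : P) ^ Nat.card A = 1 := h1.symm.trans hy
  have h3 : Abelianization.of (⟨x, hxP⟩ : P) = 1 :=
    orderOf_eq_one_iff.1 (Nat.eq_one_of_dvd_coprimes hcop (orderOf_dvd_of_pow_eq_one h2)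
      ((orderOf_map_dvd _ _).trans (orderOf_dvd_natCard _)))
  exact ⟨⟨x, hxP⟩, by rwa [SetLike.mem_coe, ← Abelianization.ker_of, MonoidHom.mem_ker], rfl⟩


/-- The Hall–Higman reduction for a minimal non-trivial action. Let B, A and P be subgroups of a finite group with P a p-group, B normalizing P, and A a normal subgroup of B of order prime to p. Suppose A does not centralize P but centralizes every proper B-invariant subgroup of P. Then [P, A] = P; P is elementary abelian or special; B acts irreducibly on P/Φ(P), that is, the only B-invariant subgroups of P containing Φ(P) are Φ(P) and P; and if p is odd then every element of P has order dividing p. -/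
theorem result {X : Type*} [Group X] [Finite X] {p : ℕ} [Fact p.Prime] (B A P : Subgroup X) (hP : IsPGroup p P) (hBP : B ≤ Subgroup.normalizer (P : Set X)) (hAB : A ≤ B) (hAn : B ≤ Subgroup.normalizer (A : Set X)) (hAp : (Nat.card A).Coprime p) (hnt : ⁅P, A⁆ ≠ ⊥) (hmin : ∀ U : Subgroup X, U < P → B ≤ Subgroup.normalizer (U : Set X) → ⁅U, A⁆ = ⊥) : ⁅P, A⁆ = P ∧ (Cfsg.IsElementaryAbelian p P ∨ Cfsg.IsSpecial p ↥P) ∧ (∀ U : Subgroup X, (frattini ↥P).map P.subtype ≤ U → U ≤ P → B ≤ Subgroup.normalizer (U : Set X) → U = (frattini ↥P).map P.subtype ∨ U = P) ∧ (p ≠ 2 → ∀ x ∈ P, x ^ p = 1) := by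
  have hp : p.Prime := Fact.out
  have hAP : A ≤ normalizer (P : Set X) := hAB.trans hBP
  have hcop : (Nat.card A).Coprime (Nat.card P) := by
    obtain ⟨k, hk⟩ := hP.exists_card_eq
    rw [hk]; exact hAp.pow_right k
  haveI : Group.IsNilpotent P := hP.isNilpotent
  have hsol : Group.IsSolvable A ∨ Group.IsSolvable P := Or.inr inferInstance
  -- `[P, A] = P`
  have hPA : ⁅P, A⁆ = P := by
    by_contra hne
    refine hnt ?_
    rw [← commutator_commutator_eq hAP hcop hsol]
    refine hmin _ (lt_of_le_of_ne (commutator_le_of_le_normalizer hAP) hne) fun b hb => ?_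
    rw [← conjMap_eq_self_iff, conjMap, map_commutator]
    exact congrArg₂ (fun U V : Subgroup X => ⁅U, V⁆) (conjMap_eq_self (hBP hb)) (conjMap_eq_self (hAn hb))
  have hfix : ∀ U : Subgroup X, U < P → B ≤ normalizer (U : Set X) → U ≤ P ⊓ centralizer (A : Set X) :=
    fun U hU hB => le_inf hU.le (commutator_eq_bot_iff_le_centralizer.1 (hmin U hU hB))
  have hPne : P ≠ ⊥ := fun e => hnt (by rw [e]; exact commutator_bot_left A)
  haveI : Nontrivial P := (nontrivial_iff_ne_bot P).2 hPne
  set Fr := (frattini ↥P).map P.subtype with hFr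
  set D := (commutator ↥P).map P.subtype with hD
  set C := P ⊓ centralizer (A : Set X) with hC
  have hlift : ∀ K : Subgroup ↥P, K.map P.subtype = P → K = ⊤ := fun K h => by
    rw [eq_top_iff]
    intro x _
    obtain ⟨y, hy, hyx⟩ := h.ge x.2
    rwa [← Subtype.ext hyx]
  have hFrlt : Fr < P := by
    refine lt_of_le_of_ne (map_subtype_le _) fun e => ?_
    obtain ⟨M, hM⟩ : ∃ M : Subgroup P, IsCoatom M :=
      (eq_top_or_exists_le_coatom (⊥ : Subgroup P)).resolve_left bot_ne_top |>.imp fun M h => h.1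
    exact hM.1 (top_le_iff.1 ((hlift _ e).ge.trans (frattini_le_coatom hM)))
  have hBFr : B ≤ normalizer (Fr : Set X) := hBP.trans (char_normalized (frattini ↥P))
  have hFC : Fr ≤ C := hfix Fr hFrlt hBFr
  have hCD : C ≤ D := fixed_le_derived hAP hcop hPA.ge
  have hDF : D ≤ Fr := map_mono (Cfsg.Lib.PGroups.commutator_le_frattini hP)
  have hFCD : Fr = D := le_antisymm (hFC.trans hCD) hDF
  -- `Φ(P)` is central
  have hcentral : ∀ w ∈ Fr, ∀ r ∈ P, r * w = w * r := by
    intro w hw r hr
    have hle : P ≤ centralizer ({w} : Set X) := by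
      rw [← hPA]
      refine commutator_le.2 fun r hr a ha => mem_centralizer_singleton_iff.2 ?_
      have hrw : ∀ s ∈ P, s * w * s⁻¹ ∈ Fr := fun s hs => by
        obtain ⟨y, hy, hyw⟩ := hw
        exact ⟨⟨s, hs⟩ * y * ⟨s, hs⟩⁻¹, Subgroup.Normal.conj_mem inferInstance y hy _, by rw [← hyw]; rfl⟩
      have hfa : ∀ z ∈ Fr, a * z = z * a := fun z hz => mem_centralizer_iff.1 (hFC hz).2 a ha
      have h1 := hfa _ (hrw r⁻¹ (inv_mem hr))
      have h2 := hfa w hw
      rw [inv_inv] at h1
      rw [commutatorElement_def]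
      calc r * a * r⁻¹ * a⁻¹ * w = r * a * r⁻¹ * (a⁻¹ * (w * a)) * a⁻¹ := by group
        _ = r * a * (r⁻¹ * w * r) * r⁻¹ * a⁻¹ := by rw [← h2]; group
        _ = r * ((r⁻¹ * w * r) * a) * r⁻¹ * a⁻¹ := by rw [← h1]; group
        _ = _ := by group
    exact mem_centralizer_singleton_iff.1 (hle hr)
  have hFcen : frattini ↥P ≤ center ↥P := fun y hy => mem_center_iff.2 fun r =>
    Subtype.ext (hcentral _ ⟨y, hy, rfl⟩ _ r.2)
  have hDeq : frattini ↥P = commutator ↥P := map_injective P.subtype_injective hFCD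
  have hcases : Cfsg.IsElementaryAbelian p P ∨ Cfsg.IsSpecial p ↥P := by
    by_cases hab : IsMulCommutative P
    · refine Or.inl ⟨hab, fun x hx => ?_⟩
      have h1 := Cfsg.Lib.PGroups.pow_mem_frattini hP ⟨x, hx⟩
      have h2 : commutator ↥P = ⊥ := by
        rw [commutator_def, commutator_eq_bot_iff_le_centralizer]
        exact fun a _ => mem_centralizer_iff.2 fun b _ => mul_comm' b a
      rw [hDeq, h2, mem_bot] at h1
      simpa using congrArg Subtype.val h1
    · refine Or.inr ⟨hP, le_antisymm hFcen ?_, le_antisymm (hDeq ▸ hFcen) ?_⟩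
      all_goals
        have hlt : (center ↥P).map P.subtype < P := lt_of_le_of_ne (map_subtype_le _) fun e => hab
          ⟨⟨fun a b => (mem_center_iff.1 ((hlift _ e).ge (mem_top a)) b).symm⟩⟩
        have hle := (hfix _ hlt (hBP.trans (char_normalized (center ↥P)))).trans hCD
        have := (map_le_map_iff_of_injective P.subtype_injective).1 hle
      · exact hDeq ▸ this
      · exact this
  refine ⟨hPA, hcases, fun U hFU hUP hBU => ?_, fun hp2 x hx => ?_⟩
  · by_cases hU : U = P
    · exact Or.inr hU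
    · exact Or.inl (le_antisymm (((hfix U (lt_of_le_of_ne hUP hU) hBU).trans hCD).trans hDF) hFU)
  have hcl : ⁅commutator ↥P, (⊤ : Subgroup ↥P)⁆ = ⊥ := by
    rw [commutator_eq_bot_iff_le_centralizer, coe_top, centralizer_univ]
    exact hDeq ▸ hFcen
  let π : P →* P := MonoidHom.mk' (fun y => y ^ p) fun y z => by
    have hc := Cfsg.Lib.PGroups.commutator_mem_center_of_class_two hcl z y
    obtain ⟨k, hk⟩ := Cfsg.Lib.PGroups.dvd_choose_two hp hp2
    have h1 : ⁅z, y⁆ ^ p = 1 := by
      rw [← Cfsg.Lib.PGroups.commutator_pow_left_of_commute (mem_center_iff.1 hc z).symm,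
        commutatorElement_eq_one_iff_mul_comm]
      exact (mem_center_iff.1 (hFcen (Cfsg.Lib.PGroups.pow_mem_frattini hP z)) y).symm
    rw [Cfsg.Lib.PGroups.mul_pow_of_central hc, hk, pow_mul, h1, one_pow, mul_one]
  have hker : P ≤ π.ker.map P.subtype := by
    nth_rewrite 1 [← hPA]
    refine commutator_le.2 fun r hr a ha => ?_
    have hra : a * r * a⁻¹ ∈ P := (mem_normalizer_iff.1 (hAP ha) r).1 hr
    refine ⟨⟨r, hr⟩ * ⟨a * r * a⁻¹, hra⟩⁻¹, ?_, ?_⟩
    · rw [SetLike.mem_coe, MonoidHom.mem_ker, map_mul, map_inv, mul_inv_eq_one]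
      refine Subtype.ext ?_
      show r ^ p = (a * r * a⁻¹) ^ p
      have hm : r ^ p ∈ Fr := ⟨⟨r, hr⟩ ^ p, Cfsg.Lib.PGroups.pow_mem_frattini hP _, rfl⟩
      rw [conj_pow, mem_centralizer_iff.1 (hFC hm).2 a ha, mul_inv_cancel_right]
    · show r * (a * r * a⁻¹)⁻¹ = ⁅r, a⁆
      rw [commutatorElement_def]; group
  obtain ⟨y, hy, hyx⟩ := hker hx
  rw [← hyx]
  exact congrArg Subtype.val hy

end Cfsg.Agent.S3736
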