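import Cfsg.Statements.S3738
import Cfsg.Agent.S3736
import Cfsg.Agent.Coprime.Sylow
import Cfsg.Agent.SolvStruct.SThree.PGroupCase

set_option autoImplicit false
open Cfsg

namespace Cfsg.Agent.S3738

open scoped commutatorElement


/-- Let d be a non-identity 3-element of a finite group and P a 2-subgroup normalized by d on which ⟨d⟩ acts faithfully (no non-identity power of d centralizes P) and without non-identity fixed points (C_P(d) = 1). If every abelian subgroup of P has 2-rank at most 2, then d has order 3. -/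
theorem result {X : Type*} [Group X] [Finite X] (d : X) (n : ℕ) (hn : 1 ≤ n) (hd : orderOf d = 3 ^ n) (P : Subgroup X) (hP : IsPGroup 2 P) (hdP : d ∈ Subgroup.normalizer (P : Set X)) (hfaith : Subgroup.zpowers d ⊓ Subgroup.centralizer (P : Set X) = ⊥) (hfpf : P ⊓ Subgroup.centralizer {d} = ⊥) (hrank : ∀ V : Subgroup X, V ≤ P → IsMulCommutative V → Cfsg.PRankLE 2 2 V) : orderOf d = 3 := by
  by_contra hne
  haveI : Fact (Nat.Prime 2) := ⟨Nat.prime_two⟩
  haveI : Fact (Nat.Prime 3) := ⟨Nat.prime_three⟩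
  set e := d ^ 3 with he
  have hn2 : 2 ≤ n := by
    rcases Nat.lt_or_ge n 2 with h | h
    · exact absurd (by rw [hd, show n = 1 by omega, pow_one]) hne
    · exact h
  have he1 : e ∉ Subgroup.centralizer (P : Set X) := by
    intro h
    have h1 : e ∈ Subgroup.zpowers d ⊓ Subgroup.centralizer (P : Set X) := ⟨Subgroup.npow_mem_zpowers d 3, h⟩
    rw [hfaith, Subgroup.mem_bot] at h1
    have h2 : orderOf d ∣ 3 := orderOf_dvd_of_pow_eq_one h1
    rw [hd] at h2
    have h3 := Nat.le_of_dvd (by norm_num) h2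
    have h4 : 3 ^ 2 ≤ 3 ^ n := Nat.pow_le_pow_right (by norm_num) hn2
    omega
  obtain ⟨U, -, hU⟩ := Finite.exists_le_minimal (p := fun U : Subgroup X => U ≤ P ∧ d ∈ Subgroup.normalizer (U : Set X) ∧ e ∉ Subgroup.centralizer (U : Set X))
    (a := P) ⟨le_rfl, hdP, he1⟩
  obtain ⟨hUP, hdU, heU⟩ := hU.prop
  have hUp : IsPGroup 2 U := hP.to_le hUP
  have hel : ∀ W : Subgroup X, W ≤ U → (∀ a ∈ W, ∀ b ∈ W, a * b = b * a) → (∀ a ∈ W, a ^ 2 = 1) → Nat.card W ≤ 4 := by
    intro W hW hc hs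
    haveI hWc : IsMulCommutative W := ⟨⟨fun a b => Subtype.ext (hc a a.2 b b.2)⟩⟩
    have h := hrank W (hW.trans hUP) hWc ⊤ ⟨⟨fun a b => Subtype.ext (hWc.is_comm.comm (a : W) b)⟩⟩ (fun a _ => Subtype.ext (hs a a.2))
    simpa using h
  have hfd : ∀ x ∈ U, d * x = x * d → x = 1 := fun x hx h => by
    have : x ∈ P ⊓ Subgroup.centralizer {d} := ⟨hUP hx, Subgroup.mem_centralizer_singleton_iff.2 h.symm⟩
    rwa [hfpf, Subgroup.mem_bot] at this
  -- `d ^ 3` centralises the small invariant subgroups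
  have hsmall : ∀ W : Subgroup X, W ≤ U → Nat.card W ≤ 4 → d ∈ Subgroup.normalizer (W : Set X) →
      (e ∈ Subgroup.centralizer (W : Set X)) ∧ (1 < Nat.card W → Nat.card W = 4) := by
    intro W hWU hW hdW
    let f : {w : W // w ≠ 1} → {w : W // w ≠ 1} := fun w =>
      ⟨⟨d * w.1 * d⁻¹, (Subgroup.mem_normalizer_iff.1 hdW _).1 w.1.2⟩, fun h => w.2 (Subtype.ext (by
        have := congrArg Subtype.val h
        simpa using this))⟩
    have hf : ∀ m w, ((f^[m] w).1 : X) = d ^ m * w.1 * (d ^ m)⁻¹ := by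
      intro m
      induction m with
      | zero => intro w; simp
      | succ m ih => intro w; rw [Function.iterate_succ_apply']; show d * _ * d⁻¹ = _; rw [ih, pow_succ']; group
    have hcard : Nat.card {w : W // w ≠ 1} + 1 ≤ Nat.card W := by
      classical
      haveI : Fintype W := Fintype.ofFinite _
      have h1 : 0 < Fintype.card W := Fintype.card_pos
      rw [Nat.card_eq_fintype_card, Nat.card_eq_fintype_card, Fintype.card_subtype_compl, Fintype.card_subtype_eq]
      omega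
    have hper : ∀ w, Function.minimalPeriod f w ∣ 3 ∧ (Nat.card W < 4 → Function.minimalPeriod f w = 1) := by
      intro w
      have h1 : Function.minimalPeriod f w ∣ 3 ^ n := Function.IsPeriodicPt.minimalPeriod_dvd (Subtype.ext (Subtype.ext (by
        show ((f^[3 ^ n] w).1 : X) = w.1
        rw [hf, ← hd, pow_orderOf_eq_one]; simp)))
      have h2 : Function.minimalPeriod f w ≤ Nat.card {w : W // w ≠ 1} := by
        have h := Nat.card_le_card_of_injective (fun i : Fin (Function.minimalPeriod f w) => f^[(i : ℕ)] w)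
          (fun i j h => Fin.ext (Function.iterate_injOn_Iio_minimalPeriod (Set.mem_Iio.2 i.2) (Set.mem_Iio.2 j.2) h))
        rwa [Nat.card_fin] at h
      obtain ⟨i, -, hi⟩ := (Nat.dvd_prime_pow Nat.prime_three).1 h1
      rw [hi] at h2 ⊢
      have h3 : i < 2 := by
        by_contra h
        have := Nat.pow_le_pow_right (n := 3) (by norm_num) (not_lt.1 h)
        omega
      interval_cases i
      · simp
      · exact ⟨by simp, fun h => absurd h2 (by omega)⟩
    have hfix : ∀ m, ∀ x (hx : x ∈ W) (h1 : (⟨x, hx⟩ : W) ≠ 1), Function.minimalPeriod f ⟨⟨x, hx⟩, h1⟩ ∣ m →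
        d ^ m * x = x * d ^ m := by
      intro m x hx h1 h
      have h2 : f^[m] ⟨⟨x, hx⟩, h1⟩ = ⟨⟨x, hx⟩, h1⟩ := Function.isPeriodicPt_iff_minimalPeriod_dvd.2 h
      have h3 := congrArg (fun z : {w : W // w ≠ 1} => (z.1 : X)) h2
      simp only [hf] at h3
      exact mul_inv_eq_iff_eq_mul.1 h3
    refine ⟨Subgroup.mem_centralizer_iff.2 fun x hx => ?_, fun hlt => ?_⟩
    · rcases eq_or_ne x 1 with rfl | hx1
      · simp
      · exact (hfix 3 x hx (fun h => hx1 (congrArg Subtype.val h)) (hper _).1).symm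
    · by_contra hne4
      obtain ⟨⟨x, hx⟩, hx1⟩ : ∃ x : W, x ≠ 1 := by
        haveI := Finite.one_lt_card_iff_nontrivial.1 hlt
        exact exists_ne 1
      refine hx1 (Subtype.ext (hfd x (hWU hx) ?_))
      simpa using hfix 1 x hx hx1 (by rw [(hper _).2 (by omega)])
  have hcoe : ∀ K : Subgroup U, K.map U.subtype ≤ U := fun K => Subgroup.map_subtype_le K
  obtain ⟨-, hsp, hirr, -⟩ := Cfsg.Agent.S3736.result (p := 2) (Subgroup.zpowers d) (Subgroup.zpowers e) U hUp
    (Subgroup.zpowers_le.2 hdU) (Subgroup.zpowers_le.2 (Subgroup.npow_mem_zpowers d 3))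
    (by
      refine le_trans ?_ (Subgroup.centralizer_le_normalizer _)
      refine Subgroup.zpowers_le.2 (Subgroup.mem_centralizer_iff.2 fun z hz => ?_)
      obtain ⟨i, rfl⟩ := Subgroup.mem_zpowers_iff.1 hz
      exact (((Commute.refl d).pow_left 3).zpow_left i).eq)
    (by
      rw [Nat.card_zpowers]
      refine Nat.Coprime.coprime_dvd_left (orderOf_pow_dvd 3) ?_
      rw [hd]
      exact Nat.Coprime.pow_left _ (by norm_num))
    (by
      intro h
      rw [Subgroup.commutator_comm, Subgroup.commutator_eq_bot_iff_le_centralizer] at h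
      exact heU (h (Subgroup.mem_zpowers e)))
    (by
      intro W hW hdW
      rw [Subgroup.commutator_comm, Subgroup.commutator_eq_bot_iff_le_centralizer, Subgroup.zpowers_le]
      by_contra h
      exact hW.not_ge (hU.le_of_le ⟨hW.le.trans hUP, hdW (Subgroup.mem_zpowers d), h⟩ hW.le))
  rcases hsp with hea | hspec
  · refine heU (hsmall U le_rfl (hel U le_rfl (fun a ha b hb => ?_) fun a ha => hea.2 a ha) hdU).1
    exact congrArg Subtype.val (hea.1.is_comm.comm (⟨a, ha⟩ : U) ⟨b, hb⟩)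
  set Z := (Subgroup.center U).map U.subtype with hZdef
  have hZU : Z ≤ U := hcoe _
  have hdZ : d ∈ Subgroup.normalizer (Z : Set X) :=
    Cfsg.Lib.SThree.normalizer_le_normalizer_map_characteristic (Subgroup.center U) hdU
  have hcent : ∀ z ∈ Z, ∀ u ∈ U, u * z = z * u := by
    rintro _ ⟨z, hz, rfl⟩ u hu
    exact congrArg Subtype.val (Subgroup.mem_center_iff.1 hz ⟨u, hu⟩)
  have hcomm : ∀ u ∈ U, ∀ v ∈ U, ⁅u, v⁆ ∈ Z := fun u hu v hv =>
    ⟨⁅(⟨u, hu⟩ : U), ⟨v, hv⟩⁆, hspec.2.2 ▸ Subgroup.commutator_mem_commutator (Subgroup.mem_top _) (Subgroup.mem_top _), rfl⟩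
  have hsqZ : ∀ u ∈ U, u ^ 2 ∈ Z := fun u hu =>
    ⟨(⟨u, hu⟩ : U) ^ 2, hspec.2.1 ▸ Cfsg.Lib.PGroups.pow_mem_frattini hUp _, rfl⟩
  -- the centre has exponent two
  have hcsq : ∀ u ∈ U, ∀ v ∈ U, ⁅u, v⁆ ^ 2 = 1 := by
    intro u hu v hv
    have h1 : ⁅u ^ 2, v⁆ = 1 :=
      commutatorElement_eq_one_iff_mul_comm.2 (hcent _ (hsqZ u hu) v hv).symm
    rw [← h1]
    calc ⁅u, v⁆ ^ 2 = ⁅u, v⁆ * ⁅u, v⁆ := pow_two _
      _ = (u * ⁅u, v⁆) * u⁻¹ * ⁅u, v⁆ := by rw [hcent _ (hcomm u hu v hv) u hu]; group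
      _ = ⁅u ^ 2, v⁆ := by simp only [commutatorElement_def, pow_two]; group
  have hZexp : ∀ z ∈ Z, z ^ 2 = 1 := by
    rintro _ ⟨z, hz, rfl⟩
    rw [← hspec.2.2] at hz
    have h1 : z ^ 2 = 1 ∧ z ∈ Subgroup.center U := by
      refine ⟨?_, hspec.2.2 ▸ hz⟩
      rw [commutator_def, Subgroup.commutator_def] at hz
      induction hz using Subgroup.closure_induction with
      | mem x hx =>
        obtain ⟨a, -, b, -, rfl⟩ := hx
        exact Subtype.ext (hcsq a a.2 b b.2)
      | one => simp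
      | mul x y hx hy ihx ihy =>
        have hxc : x ∈ Subgroup.center U := by
          rw [← hspec.2.2, commutator_def, Subgroup.commutator_def]; exact hx
        have hcm : Commute x y := (Subgroup.mem_center_iff.1 hxc y).symm
        rw [hcm.mul_pow, ihx, ihy, one_mul]
      | inv x _ ih => rw [inv_pow, ih, inv_one]
    exact congrArg Subtype.val h1.1
  have hZ4le : Nat.card Z ≤ 4 := hel Z hZU (fun a ha b hb => hcent b hb a (hZU ha)) hZexp
  have heZ := (hsmall Z hZU hZ4le hdZ).1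
  have hZ4 : Nat.card Z = 4 := by
    refine (hsmall Z hZU hZ4le hdZ).2 ?_
    rw [hZdef, Subgroup.card_map_of_injective U.subtype_injective]
    haveI : Nontrivial U := (Subgroup.nontrivial_iff_ne_bot U).2 fun h => heU (by
      rw [h]; exact Subgroup.mem_centralizer_iff.2 fun x hx => by rw [Subgroup.mem_bot.1 hx]; simp)
    haveI := hUp.center_nontrivial
    exact Finite.one_lt_card
  -- involutions lie in the centre
  have hinv : ∀ u ∈ U, u ^ 2 = 1 → u ∈ Z := by
    intro u hu h2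
    by_contra huZ
    have hd : Disjoint Z (Subgroup.zpowers u) := by
      rw [Subgroup.disjoint_def]
      intro x hxZ hx
      obtain ⟨i, rfl⟩ := Subgroup.mem_zpowers_iff.1 hx
      rcases Int.even_or_odd i with ⟨j, rfl⟩ | ⟨j, rfl⟩
      · rw [show u ^ (j + j) = (u ^ 2) ^ j by rw [← zpow_natCast u 2, ← zpow_mul]; congr 1; omega, h2, one_zpow]
      · refine absurd ?_ huZ
        rwa [show u ^ (2 * j + 1) = (u ^ 2) ^ j * u by rw [zpow_add_one, ← zpow_natCast u 2, ← zpow_mul]; norm_num, h2, one_zpow, one_mul] at hxZ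
    have hN : Subgroup.zpowers u ≤ Subgroup.normalizer (Z : Set X) := by
      refine le_trans ?_ (Subgroup.centralizer_le_normalizer _)
      exact Subgroup.zpowers_le.2 (Subgroup.mem_centralizer_iff.2 fun z hz => (hcent z hz u hu).symm)
    have h8 := Cfsg.Lib.Coprime.card_sup_mul_card_inf hN
    rw [disjoint_iff.1 hd, Subgroup.card_bot, mul_one, hZ4, Nat.card_zpowers,
      orderOf_eq_prime h2 (fun h => huZ (h ▸ one_mem _))] at h8
    have hmem : ∀ a ∈ Z ⊔ Subgroup.zpowers u, a ∈ U ∧ a * u = u * a ∧ a ^ 2 = 1 := by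
      intro a ha
      obtain ⟨z, hz, w, hw, rfl⟩ := (Cfsg.Lib.Coprime.mem_sup_of_le_normalizer hN).1 ha
      obtain ⟨i, rfl⟩ := Subgroup.mem_zpowers_iff.1 hw
      have hc : Commute z u := (hcent z hz u hu).symm
      refine ⟨mul_mem (hZU hz) (zpow_mem hu i), ((hc.mul_left ((Commute.refl u).zpow_left i))).eq, ?_⟩
      rw [(hc.zpow_right i).mul_pow, hZexp z hz, one_mul, ← zpow_natCast, zpow_comm, zpow_natCast, h2, one_zpow]
    have := hel (Z ⊔ Subgroup.zpowers u) (fun a ha => (hmem a ha).1) (fun a ha b hb => by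
      obtain ⟨z, hz, w, hw, rfl⟩ := (Cfsg.Lib.Coprime.mem_sup_of_le_normalizer hN).1 hb
      obtain ⟨i, rfl⟩ := Subgroup.mem_zpowers_iff.1 hw
      exact ((show Commute a z from hcent z hz a (hmem a ha).1).mul_right
        ((show Commute a u from (hmem a ha).2.1).zpow_right i)).eq) fun a ha => (hmem a ha).2.2
    omega
  -- `d ^ 3` has no fixed points outside the centre
  have hfpe : ∀ u ∈ U, e * u = u * e → u ∈ Z := by
    have hF : (frattini ↥U).map U.subtype = Z := by rw [hspec.2.1]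
    rcases hirr (U ⊓ Subgroup.centralizer {e})
        (by
          rw [hF]
          exact le_inf hZU fun z hz => Subgroup.mem_centralizer_singleton_iff.2 (Subgroup.mem_centralizer_iff.1 heZ z hz))
        inf_le_left
        (Subgroup.zpowers_le.2 (Cfsg.Lib.Coprime.mem_normalizer_of_conj_mem
          (fun x hx => ⟨(Subgroup.mem_normalizer_iff.1 hdU x).1 hx.1, by
            have h := Subgroup.mem_centralizer_singleton_iff.1 hx.2
            have hde : Commute d e := (Commute.refl d).pow_right 3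
            exact Subgroup.mem_centralizer_singleton_iff.2 (((hde.symm.mul_right (show Commute e x from h.symm)).mul_right hde.symm.inv_right).eq.symm)⟩)
          (fun x hx => ⟨by simpa using (Subgroup.mem_normalizer_iff.1 (inv_mem hdU) x).1 hx.1, by
            have h := Subgroup.mem_centralizer_singleton_iff.1 hx.2
            have hde : Commute d e := (Commute.refl d).pow_right 3
            exact Subgroup.mem_centralizer_singleton_iff.2 (((hde.symm.inv_right.mul_right (show Commute e x from h.symm)).mul_right hde.symm).eq.symm)⟩))) with h | h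
    · intro u hu heu
      rw [← hF, ← h]
      exact ⟨hu, Subgroup.mem_centralizer_singleton_iff.2 heu.symm⟩
    · exact absurd (Subgroup.mem_centralizer_iff.2 fun u hu => Subgroup.mem_centralizer_singleton_iff.1 (h.ge hu).2) heU
  -- counting orbits
  let T := {u : U // (u : X) ∉ Z}
  let act : MulAction (Subgroup.zpowers d) T :=
    { smul := fun q u => ⟨⟨q * u.1 * (q : X)⁻¹, (Subgroup.mem_normalizer_iff.1 (Subgroup.zpowers_le.2 hdU q.2) _).1 u.1.2⟩,
        fun h => u.2 ((Subgroup.mem_normalizer_iff.1 (Subgroup.zpowers_le.2 hdZ q.2) _).2 h)⟩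
      one_smul := fun u => Subtype.ext (Subtype.ext (by show ((1 : Subgroup.zpowers d) : X) * _ * _ = _; simp))
      mul_smul := fun a b u => Subtype.ext (Subtype.ext (by show ((a * b : Subgroup.zpowers d) : X) * _ * _ = _ * (_ * _ * _) * _; simp [mul_assoc])) }
  letI := act
  have h9T : 9 ∣ Nat.card T := by
    classical
    haveI : Fintype (MulAction.orbitRel.Quotient (Subgroup.zpowers d) T) := Fintype.ofFinite _
    rw [Nat.card_congr (MulAction.selfEquivSigmaOrbits (Subgroup.zpowers d) T), Nat.card_sigma]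
    refine Finset.dvd_sum fun o _ => ?_
    set u := o.out
    obtain ⟨i, -, hi⟩ := (Nat.dvd_prime_pow Nat.prime_three).1 (show (MulAction.stabilizer (Subgroup.zpowers d) u).index ∣ 3 ^ n by
      rw [← hd, ← Nat.card_zpowers]; exact Subgroup.index_dvd_card _)
    rw [Nat.card_coe_set_eq, ← MulAction.index_stabilizer]
    rcases Nat.lt_or_ge i 2 with h | h
    · exfalso
      have h3 : (MulAction.stabilizer (Subgroup.zpowers d) u).index ∣ 3 := hi ▸ by interval_cases i <;> norm_num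
      have hmem : (⟨d, Subgroup.mem_zpowers d⟩ : Subgroup.zpowers d) ^ 3 ∈ MulAction.stabilizer (Subgroup.zpowers d) u := by
        obtain ⟨c, hc⟩ := h3
        rw [hc, pow_mul]
        exact pow_mem (Subgroup.pow_index_mem _ _) c
      have h4 := congrArg (fun t : T => ((t.1 : U) : X)) (MulAction.mem_stabilizer_iff.1 hmem)
      exact u.2 (hfpe _ u.1.2 (mul_inv_eq_iff_eq_mul.1 h4))
    · rw [hi]
      exact (show (3 : ℕ) ^ 2 ∣ 3 ^ i from pow_dvd_pow 3 h)
  have hTc : Nat.card U = Nat.card T + 4 := by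
    classical
    haveI : Fintype U := Fintype.ofFinite _
    have h1 : Nat.card {u : U // (u : X) ∈ Z} = 4 := by
      rw [← hZ4]
      exact Nat.card_congr ⟨fun u => ⟨(u.1 : X), u.2⟩, fun z => ⟨⟨z.1, hZU z.2⟩, z.2⟩, fun _ => rfl, fun _ => rfl⟩
    rw [← Nat.card_congr (Equiv.sumCompl (fun u : U => (u : X) ∈ Z)), Nat.card_sum, h1, Nat.add_comm]
  obtain ⟨x₁, hx1U, hx1Z⟩ : ∃ x ∈ U, x ∉ Z := by
    by_contra h
    push Not at h
    exact heU (Subgroup.centralizer_le h heZ)
  have hbig : 256 ≤ Nat.card U := by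
    obtain ⟨a, ha⟩ := IsPGroup.iff_card.1 hUp
    haveI : Nonempty T := ⟨⟨⟨x₁, hx1U⟩, hx1Z⟩⟩
    have hTpos : 0 < Nat.card T := Nat.card_pos
    obtain ⟨c, hc⟩ := h9T
    rw [ha] at hTc ⊢
    rcases Nat.lt_or_ge a 8 with h | h
    · exfalso; interval_cases a <;> omega
    · exact le_trans (by norm_num) (Nat.pow_le_pow_right (n := 2) (by norm_num) h)
  -- the final configuration
  set a := x₁ ^ 2 with ha
  have haZ : a ∈ Z := hsqZ x₁ hx1U
  have ha1 : a ≠ 1 := fun h => hx1Z (hinv x₁ hx1U h)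
  set C := U ⊓ Subgroup.centralizer {x₁} with hCdef
  have hC64 : 64 ≤ Nat.card C := by
    let φ : U →* Z :=
      { toFun := fun u => ⟨⁅x₁, (u : X)⁆, hcomm x₁ hx1U u u.2⟩
        map_one' := Subtype.ext (commutatorElement_one_right _)
        map_mul' := fun u v => Subtype.ext (by
          show ⁅x₁, (u : X) * v⁆ = ⁅x₁, (u : X)⁆ * ⁅x₁, (v : X)⁆
          calc ⁅x₁, (u : X) * v⁆ = ⁅x₁, (u : X)⁆ * ((u : X) * ⁅x₁, (v : X)⁆) * (u : X)⁻¹ := by simp only [commutatorElement_def]; group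
            _ = _ := by rw [hcent _ (hcomm x₁ hx1U v v.2) u u.2]; group) }
    have h1 : Nat.card φ.ker ≤ Nat.card C :=
      Nat.card_le_card_of_injective (fun u : φ.ker => (⟨((u : U) : X), (u : U).2, Subgroup.mem_centralizer_singleton_iff.2
        (commutatorElement_eq_one_iff_mul_comm.1 (congrArg Subtype.val u.2 : ⁅x₁, ((u : U) : X)⁆ = 1)).symm⟩ : C))
        (fun u v h => Subtype.ext (Subtype.ext (congrArg Subtype.val h :)))
    have h2 := φ.ker.card_mul_index
    rw [Subgroup.index_ker] at h2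
    have h3 : Nat.card φ.range ≤ 4 := hZ4 ▸ Subgroup.card_le_card_group φ.range
    have h4 := Nat.mul_le_mul_left (Nat.card φ.ker) h3
    omega
  -- growing subgroups
  have hgrow : ∀ H : Subgroup X, Z ≤ H → H ≤ U → ∀ y ∈ U, y ∉ Z → Nat.card (H ⊔ Subgroup.zpowers y : Subgroup X) ≤ 2 * Nat.card H := by
    intro H hZH hHU y hy hyZ
    have hN : Subgroup.zpowers y ≤ Subgroup.normalizer (H : Set X) := Subgroup.zpowers_le.2 <| by
      refine Cfsg.Lib.Coprime.mem_normalizer_of_conj_mem (fun h hh => ?_) (fun h hh => ?_)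
      · rw [show y * h * y⁻¹ = ⁅y, h⁆ * h by simp only [commutatorElement_def]; group]
        exact mul_mem (hZH (hcomm y hy h (hHU hh))) hh
      · rw [show y⁻¹ * h * y = ⁅y⁻¹, h⁆ * h by simp only [commutatorElement_def]; group]
        exact mul_mem (hZH (hcomm _ (inv_mem hy) h (hHU hh))) hh
    have h1 := Cfsg.Lib.Coprime.card_sup_mul_card_inf hN
    have h2 : 2 ≤ Nat.card (H ⊓ Subgroup.zpowers y : Subgroup X) := by
      have hne : (H ⊓ Subgroup.zpowers y : Subgroup X) ≠ ⊥ := fun hb => by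
        have : y ^ 2 ∈ (H ⊓ Subgroup.zpowers y : Subgroup X) := ⟨hZH (hsqZ y hy), Subgroup.npow_mem_zpowers y 2⟩
        rw [hb, Subgroup.mem_bot] at this
        exact hyZ (hinv y hy this)
      exact (Subgroup.one_lt_card_iff_ne_bot _).2 hne
    have h3 : Nat.card (Subgroup.zpowers y) ≤ 4 := by
      rw [Nat.card_zpowers]
      refine Nat.le_of_dvd (by norm_num) (orderOf_dvd_of_pow_eq_one ?_)
      rw [show (4 : ℕ) = 2 * 2 from rfl, pow_mul, hZexp _ (hsqZ y hy)]
    have h4 := Nat.mul_le_mul_left (Nat.card H) h3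
    have h5 := Nat.mul_le_mul_left (Nat.card (H ⊔ Subgroup.zpowers y : Subgroup X)) h2
    omega
  set K := Subgroup.zpowers a with hK
  have hKZ : K ≤ Z := Subgroup.zpowers_le.2 haZ
  set D := Z ⊔ Subgroup.zpowers x₁ with hD
  have hDU : D ≤ U := sup_le hZU (Subgroup.zpowers_le.2 hx1U)
  have hsq : ∀ y ∈ C, y ∉ D → y ^ 2 ∈ Z ∧ y ^ 2 ∉ K := by
    intro y hy hyD
    refine ⟨hsqZ y hy.1, fun h => ?_⟩
    obtain ⟨i, hi⟩ := Subgroup.mem_zpowers_iff.1 h
    have hc : Commute y x₁ := Subgroup.mem_centralizer_singleton_iff.1 hy.2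
    have hor : y ^ 2 = 1 ∨ y ^ 2 = a := by
      rcases Int.even_or_odd i with ⟨j, rfl⟩ | ⟨j, rfl⟩
      · left; rw [← hi, show a ^ (j + j) = (a ^ 2) ^ j by rw [← zpow_natCast a 2, ← zpow_mul]; congr 1; omega, hZexp a haZ, one_zpow]
      · right; rw [← hi, zpow_add_one, zpow_mul, zpow_two, ← pow_two, hZexp a haZ, one_zpow, one_mul]
    rcases hor with h | h
    · exact hyD (Subgroup.mem_sup_left (hinv y hy.1 h))
    · refine hyD ?_
      have h2 : y * x₁ ∈ Z := hinv _ (mul_mem hy.1 hx1U) (by rw [hc.mul_pow, h, ← ha, ← pow_two, hZexp a haZ])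
      simpa using mul_mem (Subgroup.mem_sup_left h2 : y * x₁ ∈ D) (inv_mem (Subgroup.mem_sup_right (Subgroup.mem_zpowers x₁) : x₁ ∈ D))
  have hK2 : (K.subgroupOf Z).index = 2 := by
    have h1 := (K.subgroupOf Z).card_mul_index
    have hKc : Nat.card K = 2 := (Nat.card_zpowers a).trans (orderOf_eq_prime (hZexp a haZ) ha1)
    rw [Nat.card_congr (Subgroup.subgroupOfEquivOfLe hKZ).toEquiv, hZ4, hKc] at h1
    omega
  have hmul : ∀ z ∈ Z, ∀ w ∈ Z, z * w ∈ K ↔ (z ∈ K ↔ w ∈ K) := fun z hz w hw => by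
    simpa [Subgroup.mem_subgroupOf] using Subgroup.mul_mem_iff_of_index_two hK2 (a := (⟨z, hz⟩ : Z)) (b := ⟨w, hw⟩)
  have hsqmul : ∀ u ∈ U, ∀ v ∈ U, (u * v) ^ 2 = u ^ 2 * v ^ 2 * ⁅v, u⁆ := by
    intro u hu v hv
    calc (u * v) ^ 2 = u * (⁅v, u⁆ * u) * v * v := by simp only [commutatorElement_def, pow_two]; group
      _ = u * u * (⁅v, u⁆ * (v * v)) := by rw [← hcent _ (hcomm v hv u hu) u hu]; group
      _ = _ := by rw [← hcent _ (hcomm v hv u hu) (v * v) (mul_mem hv hv)]; simp only [pow_two, mul_assoc]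
  have hkey : ∀ u ∈ C, ∀ v ∈ C, u ∉ D → v ∉ D → u * v ∉ D → ⁅v, u⁆ ∉ K := by
    intro u hu v hv h1 h2 h3 h
    obtain ⟨a1, a2⟩ := hsq u hu h1
    obtain ⟨b1, b2⟩ := hsq v hv h2
    obtain ⟨c1, c2⟩ := hsq _ (mul_mem hu hv) h3
    refine c2 ?_
    rw [hsqmul u hu.1 v hv.1, hmul _ (mul_mem a1 b1) _ (hcomm v hv.1 u hu.1), hmul _ a1 _ b1]
    exact iff_of_true (iff_of_false a2 b2) h
  have hpick : ∀ H : Subgroup X, Nat.card H < 64 → ∃ y ∈ C, y ∉ H := by
    intro H hH
    by_contra h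
    push Not at h
    have := Nat.le_of_dvd Nat.card_pos (Subgroup.card_dvd_of_le h)
    omega
  have hD8 : Nat.card D ≤ 8 := (hgrow Z le_rfl hZU x₁ hx1U hx1Z).trans (by omega)
  obtain ⟨y, hyC, hyD⟩ := hpick D (by omega)
  set D₁ := D ⊔ Subgroup.zpowers y
  have hD1 : Nat.card D₁ ≤ 16 := (hgrow D le_sup_left hDU y hyC.1 fun h => hyD (Subgroup.mem_sup_left h)).trans (by omega)
  have hD1U : D₁ ≤ U := sup_le hDU (Subgroup.zpowers_le.2 hyC.1)
  obtain ⟨z, hzC, hzD⟩ := hpick D₁ (by omega)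
  have hDD : D ≤ D₁ := le_sup_left
  set D₂ := D₁ ⊔ Subgroup.zpowers z
  have hD2 : Nat.card D₂ ≤ 32 := (hgrow D₁ (le_sup_left.trans hDD) hD1U z hzC.1 fun h => hzD (hDD (Subgroup.mem_sup_left h))).trans (by omega)
  obtain ⟨w, hwC, hwD⟩ := hpick D₂ (by omega)
  have hDD2 : D₁ ≤ D₂ := le_sup_left
  have hyD1 : y ∈ D₁ := Subgroup.mem_sup_right (Subgroup.mem_zpowers y)
  have hzD2 : z ∈ D₂ := Subgroup.mem_sup_right (Subgroup.mem_zpowers z)
  have nzD : z ∉ D := fun h => hzD (hDD h)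
  have nwD : w ∉ D := fun h => hwD (hDD2 (hDD h))
  have nyz : y * z ∉ D := fun h => hzD (by simpa using mul_mem (inv_mem hyD1) (hDD h))
  have out : ∀ m ∈ D₂, m * w ∉ D := fun m hm h => hwD (by simpa using mul_mem (inv_mem hm) (hDD2 (hDD h)))
  have k1 := hkey y hyC w hwC hyD nwD (out y (hDD2 hyD1))
  have k2 := hkey z hzC w hwC nzD nwD (out z hzD2)
  have k3 := hkey (y * z) (mul_mem hyC hzC) w hwC nyz nwD (out _ (mul_mem (hDD2 hyD1) hzD2))
  refine k3 ?_
  rw [show ⁅w, y * z⁆ = ⁅w, y⁆ * ⁅w, z⁆ by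
    calc ⁅w, y * z⁆ = ⁅w, y⁆ * (y * ⁅w, z⁆) * y⁻¹ := by simp only [commutatorElement_def]; group
      _ = _ := by rw [hcent _ (hcomm w hwC.1 z hzC.1) y hyC.1]; group]
  exact (hmul _ (hcomm w hwC.1 y hyC.1) _ (hcomm w hwC.1 z hzC.1)).2 (iff_of_false k1 k2)

end Cfsg.Agent.S3738
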