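import Cfsg.Statements.S3739
import Cfsg.Agent.S3738
import Cfsg.Agent.Coprime.Generation
import Cfsg.Agent.Components.Cores
import Cfsg.Agent.PGroups.Basic

set_option autoImplicit false
open Cfsg

namespace Cfsg.Agent.S3739

theorem eq_of_card_two {K : Type*} [Group K] (h : Nat.card K = 2) {v w : K} (hv : v ≠ 1) (hw : w ≠ 1) : v = w := by
  obtain ⟨a, -, hu⟩ := (Nat.card_eq_two_iff' (1 : K)).1 h
  exact (hu v hv).trans (hu w hw).symm

set_option maxHeartbeats 2000000


/-- Let G be a finite group with C_G(O₂(G)) ≤ O₂(G) containing an element of order 6, and let d be a non-identity 3-element of G normalizing a nontrivial elementary abelian 2-subgroup W with C_W(d) = 1. Then G has an elementary abelian subgroup of order 8. -/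
theorem result {G : Type*} [Group G] [Finite G] (hchar : Subgroup.centralizer (Cfsg.pCore 2 G : Set G) ≤ Cfsg.pCore 2 G) (hsix : ∃ g : G, orderOf g = 6) (d : G) (hd1 : d ≠ 1) (hd : IsPGroup 3 ↥(Subgroup.zpowers d)) (W : Subgroup G) (hW : Cfsg.IsElementaryAbelian 2 W) (hW1 : W ≠ ⊥) (hdW : d ∈ Subgroup.normalizer (W : Set G)) (hfpf : W ⊓ Subgroup.centralizer {d} = ⊥) : ∃ E : Subgroup G, Cfsg.IsElementaryAbelian 2 E ∧ Nat.card E = 8 := by
  by_contra hno
  haveI : Fact (Nat.Prime 2) := ⟨Nat.prime_two⟩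
  haveI : Fact (Nat.Prime 3) := ⟨Nat.prime_three⟩
  have hle4 : ∀ V : Subgroup G, (∀ a ∈ V, ∀ b ∈ V, a * b = b * a) → (∀ a ∈ V, a ^ 2 = 1) → Nat.card V ≤ 4 := by
    intro V hc hs
    by_contra h
    have hVp : IsPGroup 2 V := fun v => ⟨1, Subtype.ext (by simpa using hs v v.2)⟩
    obtain ⟨k, hk⟩ := IsPGroup.iff_card.1 hVp
    obtain ⟨K, hK⟩ := Sylow.exists_subgroup_card_pow_prime (G := V) 2 (n := 3) (by
      rw [hk]
      refine pow_dvd_pow 2 ?_
      by_contra h3
      have := Nat.pow_le_pow_right (n := 2) two_pos (show k ≤ 2 by omega)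
      omega)
    refine hno ⟨K.map V.subtype, ⟨⟨⟨fun a b => Subtype.ext (hc a (Subgroup.map_subtype_le K a.2) b (Subgroup.map_subtype_le K b.2))⟩⟩,
      fun a ha => hs a (Subgroup.map_subtype_le K ha)⟩, ?_⟩
    rw [Subgroup.card_map_of_injective V.subtype_injective, hK]; norm_num
  have hext : ∀ V : Subgroup G, (∀ a ∈ V, ∀ b ∈ V, a * b = b * a) → (∀ a ∈ V, a ^ 2 = 1) → Nat.card V = 4 →
      ∀ t : G, t ^ 2 = 1 → (∀ a ∈ V, a * t = t * a) → t ∈ V := by
    intro V hc hs hV t ht hct
    let V' := Subgroup.closure ((V : Set G) ∪ {t})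
    have hgen : ∀ a ∈ (V : Set G) ∪ {t}, ∀ b ∈ (V : Set G) ∪ {t}, a * b = b * a := by
      rintro a (ha | ha) b (hb | hb)
      · exact hc a ha b hb
      · rw [Set.mem_singleton_iff.1 hb]; exact hct a ha
      · rw [Set.mem_singleton_iff.1 ha]; exact (hct b hb).symm
      · rw [Set.mem_singleton_iff.1 ha, Set.mem_singleton_iff.1 hb]
    haveI hcm : IsMulCommutative V' := Subgroup.isMulCommutative_closure hgen
    have hc' : ∀ a ∈ V', ∀ b ∈ V', a * b = b * a := fun a ha b hb => congrArg Subtype.val (hcm.is_comm.comm (⟨a, ha⟩ : V') ⟨b, hb⟩)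
    have hs' : ∀ a ∈ V', a ^ 2 = 1 := by
      intro a ha
      induction ha using Subgroup.closure_induction with
      | mem x hx =>
        rcases hx with hx | hx
        · exact hs x hx
        · rw [Set.mem_singleton_iff.1 hx]; exact ht
      | one => simp
      | mul x y hx hy ihx ihy => rw [(show Commute x y from hc' x hx y hy).mul_pow, ihx, ihy, one_mul]
      | inv x _ ih => rw [inv_pow, ih, inv_one]
    have hle : V ≤ V' := fun a ha => Subgroup.subset_closure (Or.inl ha)
    rw [Subgroup.eq_of_le_of_card_ge hle (by rw [hV]; exact hle4 V' hc' hs')]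
    exact Subgroup.subset_closure (Or.inr rfl)
  set Q := Cfsg.pCore 2 G with hQdef
  have hQp : IsPGroup 2 Q := Cfsg.Lib.Components.isPGroup_pCore 2
  haveI hQn : Q.Normal := Cfsg.Lib.Components.pCore_normal' 2
  have hQne : Q ≠ ⊥ := fun h => hd1 (by
    have := hchar (show d ∈ Subgroup.centralizer (Q : Set G) from
      Subgroup.mem_centralizer_iff.2 fun q hq => by rw [h] at hq; rw [Subgroup.mem_bot.1 hq]; simp)
    rwa [h, Subgroup.mem_bot] at this)
  haveI hWc : IsMulCommutative W := hW.1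
  have hWcomm : ∀ a ∈ W, ∀ b ∈ W, a * b = b * a := fun a ha b hb => congrArg Subtype.val (hWc.is_comm.comm (⟨a, ha⟩ : W) ⟨b, hb⟩)
  have hdfix : ∀ w ∈ W, d * w = w * d → w = 1 := fun w hw h => by
    have : w ∈ W ⊓ Subgroup.centralizer {d} := ⟨hw, Subgroup.mem_centralizer_singleton_iff.2 h.symm⟩
    rwa [hfpf, Subgroup.mem_bot] at this
  have hW4 : Nat.card W = 4 := by
    have hWp : IsPGroup 2 W := fun v => ⟨1, Subtype.ext (by simpa using hW.2 v v.2)⟩
    obtain ⟨k, hk⟩ := IsPGroup.iff_card.1 hWp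
    have h1 := hle4 W hWcomm hW.2
    have h2 : 1 < Nat.card W := (Subgroup.one_lt_card_iff_ne_bot W).2 hW1
    have hk2 : k ≤ 2 := by
      by_contra h
      have := Nat.pow_le_pow_right (n := 2) two_pos (show 3 ≤ k by omega)
      omega
    interval_cases k
    · omega
    · exfalso
      obtain ⟨⟨w, hw⟩, hw1⟩ : ∃ w : W, w ≠ 1 := by
        haveI := Finite.one_lt_card_iff_nontrivial.1 h2
        exact exists_ne 1
      refine hw1 (Subtype.ext (hdfix w hw ?_))
      have hd' : d * w * d⁻¹ ∈ W := (Subgroup.mem_normalizer_iff.1 hdW w).1 hw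
      have key : ∀ v : W, v ≠ 1 → v = ⟨w, hw⟩ := fun v hv => eq_of_card_two (hk.trans (pow_one 2)) hv hw1
      have := congrArg Subtype.val (key ⟨d * w * d⁻¹, hd'⟩ fun h => hw1 (by
        refine Subtype.ext ?_
        simpa using congrArg Subtype.val h))
      exact mul_inv_eq_iff_eq_mul.1 this
    · simpa using hk
  -- the involutions of the centre of `Q`
  let Z₀ : Subgroup G :=
    { carrier := {z | z ∈ Q ∧ (∀ q ∈ Q, q * z = z * q) ∧ z ^ 2 = 1}
      one_mem' := ⟨one_mem _, fun q _ => by simp, one_pow 2⟩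
      mul_mem' := by
        rintro a b ⟨ha, ha', ha2⟩ ⟨hb, hb', hb2⟩
        refine ⟨mul_mem ha hb, fun q hq => ((show Commute q a from ha' q hq).mul_right (show Commute q b from hb' q hq)).eq, ?_⟩
        rw [(show Commute a b from hb' a ha).mul_pow, ha2, hb2, one_mul]
      inv_mem' := by
        rintro a ⟨ha, ha', ha2⟩
        exact ⟨inv_mem ha, fun q hq => ((show Commute q a from ha' q hq).inv_right).eq, by rw [inv_pow, ha2, inv_one]⟩ }
  have hZQ : Z₀ ≤ Q := fun z hz => hz.1
  have hZc : ∀ a ∈ Z₀, ∀ b ∈ Z₀, a * b = b * a := fun a ha b hb => hb.2.1 a (hZQ ha)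
  have hZs : ∀ a ∈ Z₀, a ^ 2 = 1 := fun a ha => ha.2.2
  have hZconj : ∀ g : G, ∀ z ∈ Z₀, g * z * g⁻¹ ∈ Z₀ := by
    rintro g z ⟨hz, hz', hz2⟩
    refine ⟨hQn.conj_mem z hz g, fun q hq => ?_, by rw [conj_pow, hz2, mul_one, mul_inv_cancel]⟩
    have h := hz' _ (hQn.conj_mem q hq g⁻¹)
    calc q * (g * z * g⁻¹) = g * ((g⁻¹ * q * g⁻¹⁻¹) * z) * g⁻¹ := by group
      _ = g * (z * (g⁻¹ * q * g⁻¹⁻¹)) * g⁻¹ := by rw [h]
      _ = (g * z * g⁻¹) * q := by group
  have hZne : ∃ z ∈ Z₀, z ≠ 1 := by
    haveI : Nontrivial Q := (Subgroup.nontrivial_iff_ne_bot Q).2 hQne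
    haveI := hQp.center_nontrivial
    obtain ⟨⟨z, hz⟩, hzne⟩ := exists_ne (1 : Subgroup.center Q)
    obtain ⟨y, hyc, hyz, hyo⟩ := Cfsg.Lib.PGroups.exists_mem_center_of_normal_ne_bot hQp (N := Subgroup.center Q) (fun h => hzne (by
      rw [h, Subgroup.mem_bot] at hz; exact Subtype.ext hz))
    refine ⟨y, ⟨y.2, fun q hq => congrArg Subtype.val (Subgroup.mem_center_iff.1 hyz ⟨q, hq⟩), ?_⟩, fun h => ?_⟩
    · rw [← SubmonoidClass.coe_pow, ← hyo, pow_orderOf_eq_one]; rfl
    · rw [show y = 1 from Subtype.ext h, orderOf_one] at hyo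
      norm_num at hyo
  have hZ4 : Nat.card Z₀ = 4 := by
    have h1 := hle4 Z₀ hZc hZs
    have hZp : IsPGroup 2 Z₀ := fun v => ⟨1, Subtype.ext (by simpa using hZs v v.2)⟩
    obtain ⟨k, hk⟩ := IsPGroup.iff_card.1 hZp
    obtain ⟨z, hz, hz1⟩ := hZne
    have h2 : 1 < Nat.card Z₀ := (Subgroup.one_lt_card_iff_ne_bot _).2 fun h => hz1 (by rw [h] at hz; exact Subgroup.mem_bot.1 hz)
    have hk2 : k ≤ 2 := by
      by_contra h
      have := Nat.pow_le_pow_right (n := 2) two_pos (show 3 ≤ k by omega)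
      omega
    interval_cases k
    · omega
    · exfalso
      have hfix : ∀ g : G, g * z = z * g := fun g => by
        have key : ∀ v : Z₀, v ≠ 1 → v = ⟨z, hz⟩ := fun v hv => by
          exact eq_of_card_two (hk.trans (pow_one 2)) hv fun h => hz1 (congrArg Subtype.val h)
        have := congrArg Subtype.val (key ⟨g * z * g⁻¹, hZconj g z hz⟩ fun h => hz1 (by simpa using congrArg Subtype.val h))
        exact mul_inv_eq_iff_eq_mul.1 this
      have hzW : z ∈ W := hext W hWcomm hW.2 hW4 z (hZs z hz) fun a _ => hfix a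
      exact hz1 (hdfix z hzW (hfix d))
    · simpa using hk
  set C := Subgroup.centralizer (Z₀ : Set G) with hC
  have hinvC : ∀ t : G, t ^ 2 = 1 → t ∈ C → t ∈ Z₀ := fun t ht htC =>
    hext Z₀ hZc hZs hZ4 t ht (fun a ha => Subgroup.mem_centralizer_iff.1 htC a ha)
  -- the three involutions
  have hfour : ∀ a ∈ Z₀, a ≠ 1 → ∀ b ∈ Z₀, b ≠ 1 → b ≠ a → ∀ v ∈ Z₀, v = 1 ∨ v = a ∨ v = b ∨ v = a * b := by
    intro a ha ha1 b hb hb1 hba v hv
    have hab1 : a * b ≠ 1 := fun h => hba (by
      rw [← inv_eq_of_mul_eq_one_right h]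
      exact (eq_inv_of_mul_eq_one_left (by rw [← pow_two]; exact hZs a ha)).symm)
    classical
    haveI : Fintype Z₀ := Fintype.ofFinite _
    let s : Finset Z₀ := {1, ⟨a, ha⟩, ⟨b, hb⟩, ⟨a * b, mul_mem ha hb⟩}
    have hs : s = Finset.univ := by
      refine Finset.eq_univ_of_card s ?_
      rw [← Nat.card_eq_fintype_card, hZ4]
      simp only [s]
      rw [Finset.card_insert_of_notMem, Finset.card_insert_of_notMem, Finset.card_insert_of_notMem, Finset.card_singleton]
      · simp only [Finset.mem_singleton, Subtype.ext_iff]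
        intro h; exact ha1 (mul_eq_right.1 h.symm)
      · simp only [Finset.mem_insert, Finset.mem_singleton, Subtype.ext_iff]
        rintro (h | h)
        · exact hba h.symm
        · exact hb1 (mul_eq_left.1 h.symm)
      · simp only [Finset.mem_insert, Finset.mem_singleton, Subtype.ext_iff, OneMemClass.coe_one]
        rintro (h | h | h)
        · exact ha1 h.symm
        · exact hb1 h.symm
        · exact hab1 h.symm
    have hmem : (⟨v, hv⟩ : Z₀) ∈ s := hs ▸ Finset.mem_univ _
    simpa [s, Subtype.ext_iff] using hmem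
  have hbot : ∀ g : G, g ∈ C ↔ ∀ a ∈ Z₀, g * a = a * g := fun g =>
    ⟨fun h a ha => (Subgroup.mem_centralizer_iff.1 h a ha).symm, fun h => Subgroup.mem_centralizer_iff.2 fun a ha => (h a ha).symm⟩
  -- an element whose cube is in `C` and which fixes an involution lies in `C`
  have hthree : ∀ g : G, g ^ 3 ∈ C → ∀ a ∈ Z₀, a ≠ 1 → g * a = a * g → g ∈ C := by
    intro g hg a ha ha1 hga
    refine (hbot g).2 fun b hb => ?_
    rcases eq_or_ne b 1 with rfl | hb1
    · simp
    rcases eq_or_ne b a with rfl | hba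
    · exact hga
    set c := g * b * g⁻¹ with hc
    have e1 : g * a * g⁻¹ = a := mul_inv_eq_iff_eq_mul.2 hga
    rcases hfour a ha ha1 b hb hb1 hba c (hZconj g b hb) with h | h | h | h
    · exact absurd (by simpa [hc] using h) hb1
    · exact absurd (mul_left_cancel (mul_right_cancel (h.trans e1.symm))) hba
    · exact mul_inv_eq_iff_eq_mul.1 h
    · exfalso
      have e2 : g * (a * b) * g⁻¹ = b := by
        calc g * (a * b) * g⁻¹ = (g * a * g⁻¹) * (g * b * g⁻¹) := by group
          _ = a * (a * b) := by rw [e1, ← hc, h]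
          _ = b := by rw [← mul_assoc, ← pow_two, hZs a ha, one_mul]
      have e3 : g ^ 3 * b * (g ^ 3)⁻¹ = a * b := by
        calc g ^ 3 * b * (g ^ 3)⁻¹ = g * (g * (g * b * g⁻¹) * g⁻¹) * g⁻¹ := by rw [pow_succ, pow_two]; group
          _ = g * b * g⁻¹ := by rw [← hc, h, e2]; exact h
          _ = a * b := h
      rw [(hbot _).1 hg b hb, mul_inv_cancel_right] at e3
      exact ha1 (mul_eq_right.1 e3.symm)
  -- `W` is the group of central involutions of `Q`
  have hsq2 : ∀ g : G, g ^ 2 = 1 → ∃ a ∈ Z₀, a ≠ 1 ∧ g * a = a * g := by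
    intro g hg
    obtain ⟨a, ha, ha1⟩ := hZne
    set c := g * a * g⁻¹ with hc
    rcases eq_or_ne c a with h | h
    · exact ⟨a, ha, ha1, mul_inv_eq_iff_eq_mul.1 h⟩
    refine ⟨a * c, mul_mem ha (hZconj g a ha), fun he => h ?_, ?_⟩
    · rw [← inv_eq_of_mul_eq_one_right he]
      exact (eq_inv_of_mul_eq_one_left (by rw [← pow_two]; exact hZs a ha)).symm
    · have hgg : g⁻¹ = g := inv_eq_of_mul_eq_one_right (by rw [← pow_two]; exact hg)
      have h1 : g * c * g⁻¹ = a := by
        rw [hc, show g * (g * a * g⁻¹) * g⁻¹ = g ^ 2 * a * (g ^ 2)⁻¹ by rw [pow_two]; group, hg]; simp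
      refine mul_inv_eq_iff_eq_mul.1 ?_
      rw [show g * (a * c) * g⁻¹ = (g * a * g⁻¹) * (g * c * g⁻¹) by group, ← hc, h1]
      exact hZc _ (hZconj g a ha) _ ha
  have hWZ : W = Z₀ := by
    suffices h : W ≤ C by
      exact Subgroup.eq_of_le_of_card_ge (fun w hw => hinvC w (hW.2 w hw) (h hw)) (by rw [hW4, hZ4])
    by_contra hWC
    -- `d` acts on `W ⊓ C`
    have hbotWC : W ⊓ C = ⊥ := by
      rw [Subgroup.eq_bot_iff_forall]
      intro w hw
      by_contra hw1
      set c := d * w * d⁻¹ with hc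
      have hcW : c ∈ W := (Subgroup.mem_normalizer_iff.1 hdW w).1 hw.1
      have hcC : c ∈ C := (hbot c).2 fun a ha => by
        have h := (hbot w).1 hw.2 _ (hZconj d⁻¹ a ha)
        calc c * a = d * (w * (d⁻¹ * a * d⁻¹⁻¹)) * d⁻¹ := by rw [hc]; group
          _ = d * ((d⁻¹ * a * d⁻¹⁻¹) * w) * d⁻¹ := by rw [h]
          _ = a * c := by rw [hc]; group
      have hcw : c ≠ w := fun h => hw1 (hdfix w hw.1 (mul_inv_eq_iff_eq_mul.1 h))
      refine hWC fun v hv => ?_
      have hWw : ∀ u ∈ W, u ∈ C := by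
        have hc1 : c ≠ 1 := fun h => hw1 (by simpa [hc] using h)
        have hK : W ⊓ C = W := Subgroup.eq_of_le_of_card_ge inf_le_left (by
          classical
          rw [hW4]
          have hwz : w ∈ Z₀ := hinvC w (hW.2 w hw.1) hw.2
          have hcz : c ∈ Z₀ := hinvC c (hW.2 c hcW) hcC
          have : Z₀ ≤ W ⊓ C := fun v hv => by
            rcases hfour w hwz hw1 c hcz hc1 hcw v hv with rfl | rfl | rfl | rfl
            · exact one_mem _
            · exact hw
            · exact ⟨hcW, hcC⟩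
            · exact mul_mem hw ⟨hcW, hcC⟩
          exact hZ4 ▸ Nat.le_of_dvd Nat.card_pos (Subgroup.card_dvd_of_le this))
        exact fun u hu => (hK.ge hu).2
      exact hWw v hv
    have hnt : ∀ w ∈ W, w ≠ 1 → w ∉ C := fun w hw h1 hwC =>
      h1 (Subgroup.mem_bot.1 (hbotWC ▸ (⟨hw, hwC⟩ : w ∈ W ⊓ C)))
    obtain ⟨⟨u, hu⟩, hu1⟩ : ∃ w : W, w ≠ 1 := by
      haveI := (Subgroup.nontrivial_iff_ne_bot W).2 hW1
      exact exists_ne 1
    have hu1' : u ≠ 1 := fun h => hu1 (Subtype.ext h)
    set v := d * u * d⁻¹ with hv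
    have hvW : v ∈ W := (Subgroup.mem_normalizer_iff.1 hdW u).1 hu
    have hvu : v ≠ u := fun h => hu1' (hdfix u hu (mul_inv_eq_iff_eq_mul.1 h))
    have hv1 : v ≠ 1 := fun h => hu1' (by simpa [hv] using h)
    obtain ⟨a, ha, ha1, hua⟩ := hsq2 u (hW.2 u hu)
    have huv := hWcomm u hu v hvW
    -- `v` preserves the unique fixed involution of `u`
    obtain ⟨b, hb, hbu⟩ : ∃ b ∈ Z₀, u * b ≠ b * u := by
      have := hnt u hu hu1'
      rw [hbot] at this
      push Not at this
      exact this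
    have hb1 : b ≠ 1 := fun h => hbu (by rw [h]; simp)
    have hba : b ≠ a := fun h => hbu (h ▸ hua)
    have huniq : ∀ c ∈ Z₀, c ≠ 1 → u * c = c * u → c = a := by
      intro c hc hc1 huc
      rcases hfour a ha ha1 b hb hb1 hba c hc with rfl | rfl | rfl | rfl
      · exact absurd rfl hc1
      · rfl
      · exact absurd huc hbu
      · refine absurd ?_ hbu
        have : Commute u (a⁻¹ * (a * b)) := (show Commute u a from hua).inv_right.mul_right huc
        rw [inv_mul_cancel_left] at this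
        exact this.eq
    have hva : v * a = a * v := by
      refine mul_inv_eq_iff_eq_mul.1 (huniq _ (hZconj v a ha) (fun h => ha1 (by simpa using h)) ?_)
      exact ((show Commute u v from huv).mul_right (show Commute u a from hua) |>.mul_right (show Commute u v from huv).inv_right).eq
    -- both act as the same transposition
    have hact : ∀ g : G, g ∉ C → g * a = a * g → g * b * g⁻¹ = a * b := by
      intro g hg hga
      have e1 : g * a * g⁻¹ = a := mul_inv_eq_iff_eq_mul.2 hga
      rcases hfour a ha ha1 b hb hb1 hba _ (hZconj g b hb) with h | h | h | h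
      · exact absurd (by simpa using h) hb1
      · exact absurd (mul_left_cancel (mul_right_cancel (h.trans e1.symm))) hba
      · refine absurd ((hbot g).2 fun c hc => ?_) hg
        have hgb : g * b = b * g := mul_inv_eq_iff_eq_mul.1 h
        rcases hfour a ha ha1 b hb hb1 hba c hc with rfl | rfl | rfl | rfl
        · simp
        · exact hga
        · exact hgb
        · exact ((show Commute g a from hga).mul_right (show Commute g b from hgb)).eq
      · exact h
    have hu' := hact u (hnt u hu hu1') hua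
    have hv' := hact v (hnt v hvW hv1) hva
    refine hnt (v⁻¹ * u) (mul_mem (inv_mem hvW) hu) (fun h => hvu (inv_mul_eq_one.1 h)) ((hbot _).2 fun c hc => ?_)
    have hb' : v⁻¹ * u * b = b * (v⁻¹ * u) := by
      refine mul_inv_eq_iff_eq_mul.1 ?_
      calc v⁻¹ * u * b * (v⁻¹ * u)⁻¹ = v⁻¹ * (u * b * u⁻¹) * v := by group
        _ = v⁻¹ * (v * b * v⁻¹) * v := by rw [hu', hv']
        _ = b := by group
    have ha' : Commute (v⁻¹ * u) a := (show Commute v a from hva).inv_left.mul_left hua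
    rcases hfour a ha ha1 b hb hb1 hba c hc with rfl | rfl | rfl | rfl
    · simp
    · exact ha'.eq
    · exact hb'
    · exact (ha'.mul_right hb').eq
  -- `3`-elements outside `C`
  have hdC : d ∉ C := fun h => by
    obtain ⟨z, hz, hz1⟩ := hZne
    exact hz1 (hdfix z (hWZ ▸ hz) ((hbot d).1 h z hz))
  have hout : ∀ t : G, IsPGroup 3 (Subgroup.zpowers t) → t ∉ C →
      orderOf t = 3 ∧ ∀ q ∈ Q, t * q = q * t → q = 1 := by
    intro t ht htC
    obtain ⟨m, hm⟩ := IsPGroup.iff_card.1 ht
    rw [Nat.card_zpowers] at hm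
    have hfix : ∀ a ∈ Z₀, t * a = a * t → a = 1 := by
      intro a ha hta
      by_contra ha1
      have key : ∀ i, t ^ 3 ^ i ∈ C → t ∈ C := by
        intro i
        induction i with
        | zero => simp
        | succ i ih =>
          intro h
          exact ih (hthree _ (by rw [← pow_mul, ← pow_succ]; exact h) a ha ha1 ((show Commute t a from hta).pow_left _).eq)
      exact htC (key m (by rw [← hm, pow_orderOf_eq_one]; exact one_mem _))
    have hcq : ∀ q ∈ Q, t * q = q * t → q = 1 := by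
      intro q hq htq
      by_contra hq1
      have hqp := (hQp.to_le (Subgroup.zpowers_le.2 hq))
      obtain ⟨i, hi⟩ := IsPGroup.iff_card.1 hqp
      rw [Nat.card_zpowers] at hi
      obtain ⟨j, rfl⟩ : ∃ j, i = j + 1 := ⟨i - 1, by
        rcases Nat.eq_zero_or_pos i with h | h
        · exact absurd (orderOf_eq_one_iff.1 (by rw [hi, h, pow_zero])) hq1
        · omega⟩
      have hne : q ^ 2 ^ j ≠ 1 := fun h => by
        have := Nat.le_of_dvd (Nat.two_pow_pos j) (hi ▸ orderOf_dvd_of_pow_eq_one h)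
        rw [pow_succ] at this
        have := Nat.two_pow_pos j
        omega
      have h2 : (q ^ 2 ^ j) ^ 2 = 1 := by rw [← pow_mul, ← pow_succ, ← hi, pow_orderOf_eq_one]
      have hmem : q ^ 2 ^ j ∈ Z₀ := hinvC _ h2 (Subgroup.mem_centralizer_iff.2 fun a ha =>
        (show Commute a (q ^ 2 ^ j) from ((show Commute q a from ha.2.1 q hq).pow_left _).symm).eq)
      exact hne (hfix _ hmem ((show Commute t q from htq).pow_right _).eq)
    refine ⟨?_, hcq⟩
    have hm1 : 1 ≤ m := by
      rcases Nat.eq_zero_or_pos m with h | h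
      · exfalso
        rw [h, pow_zero, orderOf_eq_one_iff] at hm
        exact htC (hm ▸ one_mem C)
      · exact h
    refine Cfsg.Agent.S3738.result t m hm1 hm Q hQp (by rw [Subgroup.normalizer_eq_top]; exact Subgroup.mem_top _) ?_ ?_ ?_
    · rw [Subgroup.eq_bot_iff_forall]
      intro y hy
      refine orderOf_eq_one_iff.1 (Nat.eq_one_of_dvd_coprimes (a := 3 ^ m) (b := Nat.card Q) ?_ ?_ ?_)
      · obtain ⟨k, hk⟩ := IsPGroup.iff_card.1 hQp
        rw [hk]
        exact Nat.Coprime.pow _ _ (by norm_num)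
      · have := Subgroup.orderOf_dvd_natCard _ hy.1
        rwa [Nat.card_zpowers, hm] at this
      · exact Subgroup.orderOf_dvd_natCard _ (hchar hy.2)
    · rw [Subgroup.eq_bot_iff_forall]
      exact fun q hq => hcq q hq.1 (Subgroup.mem_centralizer_singleton_iff.1 hq.2).symm
    · intro V hV hVc A hA hA2
      have := hle4 (A.map V.subtype) (by
        rintro _ ⟨a, ha, rfl⟩ _ ⟨b, hb, rfl⟩
        exact congrArg Subtype.val (hVc.is_comm.comm a b)) (by
        rintro _ ⟨a, ha, rfl⟩
        exact congrArg Subtype.val (hA2 a ha))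
      rw [Subgroup.card_map_of_injective V.subtype_injective] at this
      simpa using this
  -- the element of order `3` in `C`
  obtain ⟨g, hg⟩ := hsix
  have hx3 : orderOf (g ^ 2) = 3 := by rw [orderOf_pow, hg]; norm_num
  have hxC : g ^ 2 ∈ C := by
    have hz2 : (g ^ 3) ^ 2 = 1 := by rw [← pow_mul, show 3 * 2 = orderOf g by rw [hg], pow_orderOf_eq_one]
    have hcomm : Commute (g ^ 2) (g ^ 3) := (Commute.refl g).pow_pow 2 3
    have hcube : (g ^ 2) ^ 3 ∈ C := by rw [← hx3, pow_orderOf_eq_one]; exact one_mem _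
    have hzne : g ^ 3 ≠ 1 := fun h => by
      have := Nat.le_of_dvd (by norm_num) (orderOf_dvd_of_pow_eq_one h)
      omega
    by_cases hzC : g ^ 3 ∈ C
    · exact hthree _ hcube _ (hinvC _ hz2 hzC) hzne hcomm.eq
    · obtain ⟨a, ha, ha1, hza⟩ := hsq2 _ hz2
      set x := g ^ 2
      set z := g ^ 3
      have hzc : z * (x * a * x⁻¹) = (x * a * x⁻¹) * z :=
        ((hcomm.symm.mul_right (show Commute z a from hza)).mul_right hcomm.symm.inv_right).eq
      refine hthree _ hcube a ha ha1 (mul_inv_eq_iff_eq_mul.1 ?_)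
      by_contra hne
      refine hzC ((hbot z).2 fun c hc => ?_)
      have hb1 : x * a * x⁻¹ ≠ 1 := fun h => ha1 (by simpa using h)
      rcases hfour a ha ha1 _ (hZconj x a ha) hb1 hne c hc with rfl | rfl | rfl | rfl
      · simp
      · exact hza
      · exact hzc
      · exact ((show Commute z a from hza).mul_right hzc).eq
  obtain ⟨P, hP⟩ : ∃ P : Sylow 3 G, g ^ 2 ∈ (P : Subgroup G) := by
    obtain ⟨P, hP⟩ := (IsPGroup.of_card (G := Subgroup.zpowers (g ^ 2)) (p := 3) (n := 1) (by rw [Nat.card_zpowers, hx3, pow_one])).exists_le_sylow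
    exact ⟨P, hP (Subgroup.mem_zpowers _)⟩
  obtain ⟨P', hP'⟩ := hd.exists_le_sylow
  obtain ⟨h, hh⟩ := MulAction.exists_smul_eq G P' P
  set t := h * d * h⁻¹ with ht
  have htP : t ∈ (P : Subgroup G) := by
    rw [← hh, Sylow.smul_def, Sylow.pointwise_smul_def]
    exact ⟨d, hP' (Subgroup.mem_zpowers d), rfl⟩
  haveI hCn : C.Normal := ⟨fun c hc k => (hbot _).2 fun a ha => by
    have h1 := (hbot c).1 hc _ (hZconj k⁻¹ a ha)
    calc k * c * k⁻¹ * a = k * (c * (k⁻¹ * a * k⁻¹⁻¹)) * k⁻¹ := by group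
      _ = k * ((k⁻¹ * a * k⁻¹⁻¹) * c) * k⁻¹ := by rw [h1]
      _ = a * (k * c * k⁻¹) := by group⟩
  have htC : t ∉ C := fun hc => hdC (by
    have := hCn.conj_mem t hc h⁻¹
    rwa [ht, show h⁻¹ * (h * d * h⁻¹) * h⁻¹⁻¹ = d by group] at this)
  obtain ⟨x, hxC', hxc, hxo⟩ := Cfsg.Lib.PGroups.exists_mem_center_of_normal_ne_bot P.2
    (N := C.subgroupOf P) (fun hb => by
      have : (⟨g ^ 2, hP⟩ : (P : Subgroup G)) ∈ C.subgroupOf P := hxC
      rw [hb, Subgroup.mem_bot] at this
      have h1 : g ^ 2 = 1 := congrArg Subtype.val this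
      rw [h1, orderOf_one] at hx3
      norm_num at hx3)
  have hxt : (x : G) * t = t * x := (congrArg Subtype.val (Subgroup.mem_center_iff.1 hxc ⟨t, htP⟩)).symm
  have hxo' : orderOf (x : G) = 3 := by rw [Subgroup.orderOf_coe]; exact hxo
  have htp : IsPGroup 3 (Subgroup.zpowers t) := P.2.to_le (Subgroup.zpowers_le.2 htP)
  have ht3 : orderOf t = 3 := (hout t htp htC).1
  set A := Subgroup.closure ({(x : G), t} : Set G) with hA
  haveI hAc : IsMulCommutative A := Subgroup.isMulCommutative_closure (by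
    rintro a (rfl | rfl) b (rfl | rfl) <;> first | rfl | exact hxt | exact hxt.symm)
  have hAelt : ∀ a ∈ A, ∃ i j : ℤ, a = (x : G) ^ i * t ^ j := fun a ha => by
    induction ha using Subgroup.closure_induction with
    | mem y hy =>
      rcases hy with rfl | rfl
      · exact ⟨1, 0, by simp⟩
      · exact ⟨0, 1, by simp⟩
    | one => exact ⟨0, 0, by simp⟩
    | mul y z _ _ ihy ihz =>
      obtain ⟨i, j, rfl⟩ := ihy
      obtain ⟨k, l, rfl⟩ := ihz
      refine ⟨i + k, j + l, ?_⟩
      rw [zpow_add, zpow_add]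
      exact ((show Commute (x : G) t from hxt).zpow_zpow k j).symm.mul_mul_mul_comm _ _
    | inv y _ ihy =>
      obtain ⟨i, j, rfl⟩ := ihy
      refine ⟨-i, -j, ?_⟩
      rw [mul_inv_rev, zpow_neg, zpow_neg]
      exact (((show Commute (x : G) t from hxt).zpow_zpow i j).inv_inv).symm.eq
  have hA3 : ∀ a ∈ A, a ^ 3 = 1 := by
    intro a ha
    obtain ⟨i, j, rfl⟩ := hAelt a ha
    rw [((show Commute (x : G) t from hxt).zpow_zpow i j).mul_pow, ← zpow_natCast ((x : G) ^ i), zpow_comm, zpow_natCast,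
      ← zpow_natCast (t ^ j), zpow_comm, zpow_natCast]
    rw [orderOf_dvd_iff_pow_eq_one.1 hxo'.dvd, orderOf_dvd_iff_pow_eq_one.1 ht3.dvd]
    simp
  have hAP : A ≤ (P : Subgroup G) := by
    rw [hA, Subgroup.closure_le]
    rintro _ (rfl | rfl)
    · exact x.2
    · exact htP
  have hncyc : ¬ IsCyclic A := by
    intro hcy
    obtain ⟨a, ha⟩ := hcy.exists_generator
    have h3 : Nat.card A ≤ 3 := by
      rw [← orderOf_eq_card_of_forall_mem_zpowers ha, ← Subgroup.orderOf_coe]
      exact Nat.le_of_dvd (by norm_num) (orderOf_dvd_of_pow_eq_one (hA3 a a.2))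
    have heq : Subgroup.zpowers (x : G) = A := Subgroup.eq_of_le_of_card_ge
      (Subgroup.zpowers_le.2 (Subgroup.subset_closure (Or.inl rfl))) (by rw [Nat.card_zpowers, hxo']; exact h3)
    refine htC (Subgroup.zpowers_le.2 (show (x : G) ∈ C from hxC') ?_)
    rw [heq]
    exact Subgroup.subset_closure (Or.inr rfl)
  have hcop : (Nat.card A).Coprime (Nat.card Q) := by
    obtain ⟨i, hi⟩ := IsPGroup.iff_card.1 hQp
    obtain ⟨j, hj⟩ := IsPGroup.iff_card.1 (P.2.to_le hAP)
    rw [hi, hj]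
    exact Nat.Coprime.pow _ _ (by norm_num)
  have hgen := Cfsg.Lib.Coprime.centralizerJoin_eq hncyc (le_top.trans (Subgroup.normalizer_eq_top (H := Q)).ge) hcop
  have hxQ : (x : G) ∈ Subgroup.centralizer (Q : Set G) := by
    refine Subgroup.mem_centralizer_iff.2 fun q hq => ?_
    have hsub : Cfsg.Lib.Coprime.centralizerJoin A Q ≤ Subgroup.centralizer {(x : G)} := by
      refine iSup₂_le fun a ha => ?_
      intro q hq
      obtain ⟨hqQ, hqa⟩ := hq
      obtain ⟨i, j, rfl⟩ := hAelt a ha.1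
      by_cases hj : t ^ j = 1
      · rw [hj, mul_one] at hqa
        refine Subgroup.mem_centralizer_singleton_iff.2 ?_
        have hne : (x : G) ^ i ≠ 1 := fun h => ha.2 (by rw [h, hj, mul_one])
        obtain ⟨l, hl⟩ : (x : G) ∈ Subgroup.zpowers ((x : G) ^ i) := by
          have : Subgroup.zpowers ((x : G) ^ i) = Subgroup.zpowers (x : G) :=
            Subgroup.eq_of_le_of_card_ge (Subgroup.zpowers_le.2 (Subgroup.zpow_mem_zpowers _ i)) (by
              rw [Nat.card_zpowers, Nat.card_zpowers, hxo']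
              exact (orderOf_eq_prime (by rw [← zpow_natCast, zpow_comm, zpow_natCast, orderOf_dvd_iff_pow_eq_one.1 hxo'.dvd, one_zpow]) hne).ge)
          rw [this]; exact Subgroup.mem_zpowers _
        rw [← hl]
        exact ((show Commute q ((x : G) ^ i) from Subgroup.mem_centralizer_singleton_iff.1 hqa).zpow_right l).eq
      · have hnC : (x : G) ^ i * t ^ j ∉ C := by
          intro hc
          have h1 : t ^ j ∈ C := by simpa using mul_mem (inv_mem (zpow_mem (show (x : G) ∈ C from hxC') i)) hc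
          have h2 : Subgroup.zpowers (t ^ j) = Subgroup.zpowers t :=
            Subgroup.eq_of_le_of_card_ge (Subgroup.zpowers_le.2 (Subgroup.zpow_mem_zpowers _ j)) (by
              rw [Nat.card_zpowers, Nat.card_zpowers, ht3]
              exact (orderOf_eq_prime (by rw [← zpow_natCast, zpow_comm, zpow_natCast, orderOf_dvd_iff_pow_eq_one.1 ht3.dvd, one_zpow]) hj).ge)
          exact htC (Subgroup.zpowers_le.2 h1 (h2 ▸ Subgroup.mem_zpowers t))
        rw [(hout _ (P.2.to_le (Subgroup.zpowers_le.2 (hAP ha.1))) hnC).2 q hqQ (Subgroup.mem_centralizer_singleton_iff.1 hqa).symm]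
        exact one_mem _
    exact Subgroup.mem_centralizer_singleton_iff.1 (hsub (hgen.ge hq))
  have hxQ' : (x : G) ∈ Q := hchar hxQ
  have := Subgroup.orderOf_dvd_natCard Q hxQ'
  obtain ⟨i, hi⟩ := IsPGroup.iff_card.1 hQp
  rw [hxo', hi] at this
  exact absurd (Nat.prime_three.dvd_of_dvd_pow this) (by norm_num)

end Cfsg.Agent.S3739
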