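import Cfsg.Statements.S3740
import Cfsg.Agent.Known.SLTwo.Torus
import Cfsg.Agent.Classical.Misc.SLTwoTori
import Cfsg.Agent.Quadratic.SLTwoDickson

set_option autoImplicit false
open Cfsg

namespace Cfsg.Agent.S3740

open Subgroup
open scoped MatrixGroups Pointwise commutatorElement

variable {F : Type} [Field F] [Fintype F] {p : ℕ} [Fact p.Prime] [CharP F p]

/-- The `p'`-elements centralising a non-trivial `p`-element are `±1`. -/
lemma cent_small (hp : p ≠ 2) {a g : SL(2, F)} (ha : IsPGroup p (zpowers a)) (ha1 : a ≠ 1)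
    (hc : Commute g a) (hg : (orderOf g).Coprime p) : g = 1 ∨ g = -1 := by
  classical
  obtain ⟨k, hk⟩ := IsPGroup.iff_orderOf.1 ha ⟨a, mem_zpowers a⟩
  rw [Subgroup.orderOf_mk] at hk
  have hk0 : k ≠ 0 := by rintro rfl; rw [pow_zero, orderOf_eq_one_iff] at hk; exact ha1 hk
  have hpp : p.Prime := Fact.out
  set b := a ^ p ^ (k - 1) with hb
  have hbo : orderOf b = p := by
    rw [hb, orderOf_pow' a (pow_ne_zero _ hpp.ne_zero), hk,
      Nat.gcd_eq_right (pow_dvd_pow p (by omega)), Nat.pow_div (by omega) hpp.pos,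
      show k - (k - 1) = 1 by omega, pow_one]
  obtain ⟨hns, htr⟩ := (Cfsg.Lib.GLTwo.orderOf_eq_char_iff p b).1 hbo
  have hgb : g ∈ centralizer ({b} : Set SL(2, F)) :=
    mem_centralizer_singleton_iff.2 (hc.pow_right _).eq
  have hbb : b ∈ centralizer ({b} : Set SL(2, F)) := mem_centralizer_singleton_iff.2 rfl
  have h1 : orderOf g ∣ Nat.card (centralizer ({b} : Set SL(2, F))) := by
    exact Subgroup.orderOf_dvd_natCard _ hgb
  have h2 : p ∣ Nat.card (centralizer ({b} : Set SL(2, F))) := hbo ▸ Subgroup.orderOf_dvd_natCard _ hbb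
  obtain ⟨n, hn0, hn⟩ := FiniteField.card F p
  have hpq : p ∣ Fintype.card F := hn ▸ dvd_pow_self p n.ne_zero
  have hq := Fintype.one_lt_card (α := F)
  have hdvd : orderOf g ∣ 2 := by
    rcases Cfsg.Lib.GLTwo.kinds hns with ⟨-, h⟩ | ⟨-, h⟩ | ⟨-, h⟩
    · rw [h] at h2
      exact absurd ((Nat.dvd_add_right hpq).1 h2) hpp.not_dvd_one
    · rw [h] at h2
      have h3 := Nat.dvd_sub hpq h2
      rw [Nat.sub_sub_self (by omega)] at h3
      exact absurd h3 hpp.not_dvd_one
    · rw [h, hn] at h1
      exact ((hg.pow_right (n : ℕ)).dvd_of_dvd_mul_right h1).trans (Nat.gcd_dvd_left _ _)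
  have h2F : (2 : F) ≠ 0 := fun h => hp ((Nat.prime_dvd_prime_iff_eq hpp Nat.prime_two).1
    ((CharP.cast_eq_zero_iff F p 2).1 (by exact_mod_cast h)))
  apply Cfsg.Lib.GLTwo.eq_pm_one_of_sq h2F
  rw [← pow_two, ← orderOf_dvd_iff_pow_eq_one]
  exact hdvd

/-- An invariant `p'`-subgroup is either central or receives a copy of `SL₂(p)`. -/
lemma dichotomy (hp : p ≠ 2) {a : SL(2, F)} (ha : IsPGroup p (zpowers a)) (ha1 : a ≠ 1)
    (K : Subgroup SL(2, F)) (hK : (Nat.card K).Coprime p) (haK : a ∈ normalizer (K : Set SL(2, F))) :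
    (∀ x ∈ K, x = 1 ∨ x = -1) ∨
      (Nat.card ↥(K ⊔ zpowers a) = Nat.card K * Nat.card (zpowers a) ∧
      ∃ φ : Matrix.SpecialLinearGroup (Fin 2) (ZMod p) →* SL(2, F),
        Function.Injective φ ∧ φ.range ≤ K ⊔ zpowers a ∧
          ∀ x, (orderOf x).Coprime p → φ x ∈ K) := by
  classical
  set H := K ⊔ zpowers a with hH
  have hle : H ≤ normalizer (K : Set SL(2, F)) := sup_le le_normalizer (zpowers_le.2 haK)
  have hKH : K ≤ H := le_sup_left
  have : (K.subgroupOf H).Normal := normal_subgroupOf_of_le_normalizer hle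
  obtain ⟨k, hk⟩ := IsPGroup.iff_card.1 ha
  have hint : K ⊓ zpowers a = ⊥ := disjoint_iff.1 (disjoint_of_coprime_natCard (by
    rw [hk]; exact hK.pow_right k))
  have hcard : Nat.card H = Nat.card K * Nat.card (zpowers a) := by
    have hAH : zpowers a ≤ H := le_sup_right
    have hcomp : IsComplement' (K.subgroupOf H) ((zpowers a).subgroupOf H) := by
      refine isComplement'_of_disjoint_and_mul_eq_univ ?_ ?_
      · rw [disjoint_iff, eq_bot_iff]
        intro x hx
        have h1 : (x : SL(2, F)) ∈ K ⊓ zpowers a := ⟨mem_subgroupOf.1 hx.1, mem_subgroupOf.1 hx.2⟩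
        rw [hint, Subgroup.mem_bot] at h1
        exact Subgroup.mem_bot.2 (Subtype.ext h1)
      · rw [← Subgroup.normal_mul, ← Subgroup.subgroupOf_sup hKH hAH, Subgroup.subgroupOf_self]
        rfl
    rw [← hcomp.card_mul, Nat.card_congr (subgroupOfEquivOfLe hKH).toEquiv,
      Nat.card_congr (subgroupOfEquivOfLe hAH).toEquiv]
  by_cases hcent : ∀ x ∈ K, Commute x a
  · refine Or.inl fun x hx => cent_small hp ha ha1 (hcent x hx) ?_
    exact Nat.Coprime.coprime_dvd_left (Subgroup.orderOf_dvd_natCard _ hx) hK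
  · refine Or.inr ⟨hcard, ?_⟩
    have hmulti : 1 < Nat.card (Sylow p H) := by
      by_contra hle1
      have hone : Nat.card (Sylow p H) = 1 := le_antisymm (not_lt.1 hle1) Nat.card_pos
      obtain ⟨hsub, -⟩ := Nat.card_eq_one_iff_unique.1 hone
      have hpA : IsPGroup p ((zpowers a).subgroupOf H) :=
        ha.of_equiv (subgroupOfEquivOfLe (le_sup_right : zpowers a ≤ H)).symm
      obtain ⟨S, hS⟩ := hpA.exists_le_sylow
      have hSn : (S : Subgroup H).Normal := S.normal_of_subsingleton
      apply hcent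
      intro x hx
      have hxH : x ∈ H := hKH hx
      have hSK : (S : Subgroup H) ⊓ K.subgroupOf H = ⊥ := disjoint_iff.1 (disjoint_of_coprime_natCard (by
        obtain ⟨j, hj⟩ := IsPGroup.iff_card.1 S.isPGroup'
        rw [hj, Nat.card_congr (subgroupOfEquivOfLe hKH).toEquiv]
        exact (hK.symm).pow_left j))
      have haH : a ∈ H := (le_sup_right : zpowers a ≤ H) (mem_zpowers a)
      have haS : (⟨a, haH⟩ : H) ∈ (S : Subgroup H) := hS (mem_subgroupOf.2 (mem_zpowers a))
      have hm : ⁅(⟨x, hxH⟩ : H), (⟨a, haH⟩ : H)⁆ ∈ (S : Subgroup H) ⊓ K.subgroupOf H := by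
        rw [commutatorElement_def]
        refine ⟨(S : Subgroup H).mul_mem (hSn.conj_mem _ haS _) ((S : Subgroup H).inv_mem haS), ?_⟩
        rw [mul_assoc, mul_assoc]
        refine (K.subgroupOf H).mul_mem (mem_subgroupOf.2 hx) ?_
        rw [← mul_assoc]
        exact ‹(K.subgroupOf H).Normal›.conj_mem _ ((K.subgroupOf H).inv_mem (mem_subgroupOf.2 hx)) _
      rw [hSK, Subgroup.mem_bot, commutatorElement_eq_one_iff_commute] at hm
      exact congrArg Subtype.val hm.eq
    obtain ⟨φ, hφ, hφle⟩ := Cfsg.Lib.SLTwoSub.exists_copy hp (Nat.card H) H rfl hmulti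
    refine ⟨φ, hφ, hφle, fun x hx => ?_⟩
    let y : H := ⟨φ x, hφle ⟨x, rfl⟩⟩
    have hy : orderOf y ∣ orderOf x := by
      rw [← Subgroup.orderOf_coe]; exact orderOf_map_dvd φ x
    have hidx : (K.subgroupOf H).index = p ^ k := by
      apply Nat.eq_of_mul_eq_mul_left (Nat.card_pos (α := K))
      have h1 := Subgroup.card_mul_index (K.subgroupOf H)
      rw [Nat.card_congr (subgroupOfEquivOfLe hKH).toEquiv, hcard, hk] at h1
      exact h1
    have h1 : orderOf (QuotientGroup.mk' (K.subgroupOf H) y) ∣ orderOf x :=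
      (orderOf_map_dvd _ y).trans hy
    have h2 : orderOf (QuotientGroup.mk' (K.subgroupOf H) y) ∣ p ^ k := by
      rw [← hidx, Subgroup.index_eq_card]; exact orderOf_dvd_natCard _
    have h3 := Nat.dvd_gcd h1 h2
    rw [(hx.pow_right k).gcd_eq_one, Nat.dvd_one, orderOf_eq_one_iff] at h3
    exact mem_subgroupOf.1 ((QuotientGroup.eq_one_iff y).1 h3)

/-- Abelian invariant `p'`-subgroups are central. -/
lemma abelian_small (hp : p ≠ 2) {a : SL(2, F)} (ha : IsPGroup p (zpowers a)) (ha1 : a ≠ 1)
    (K : Subgroup SL(2, F)) (hK : (Nat.card K).Coprime p) (haK : a ∈ normalizer (K : Set SL(2, F)))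
    (hab : ∀ x ∈ K, ∀ y ∈ K, x * y = y * x) : ∀ x ∈ K, x = 1 ∨ x = -1 := by
  rcases dichotomy hp ha ha1 K hK haK with h | ⟨-, φ, hφ, -, hm⟩
  · exact h
  · exfalso
    have h2 : (2 : ZMod p) ≠ 0 := fun h => hp ((Nat.prime_dvd_prime_iff_eq Fact.out Nat.prime_two).mp
      ((ZMod.natCast_eq_zero_iff 2 p).mp (by exact_mod_cast h)))
    obtain ⟨i, j, hne, hQ⟩ := Cfsg.Lib.Classical.SLTwoTori.exists_quaternion_pair (F := ZMod p) h2
    have hord : ∀ x ∈ Subgroup.closure ({i, j} : Set (Matrix.SpecialLinearGroup (Fin 2) (ZMod p))),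
        (orderOf x).Coprime p := by
      intro x hx
      obtain ⟨m, hm'⟩ := IsPGroup.iff_orderOf.1 hQ ⟨x, hx⟩
      rw [Subgroup.orderOf_mk] at hm'
      rw [hm']
      exact ((Nat.coprime_primes Nat.prime_two Fact.out).2 (Ne.symm hp)).pow_left m
    apply hne
    apply hφ
    rw [map_mul, map_mul]
    exact hab _ (hm i (hord i (Subgroup.subset_closure (by simp)))) _ (hm j (hord j (Subgroup.subset_closure (by simp))))

/-- An invariant Sylow subgroup. -/
lemma exists_invariant (R : Subgroup SL(2, F)) {a : SL(2, F)} (ha : IsPGroup p (zpowers a))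
    (hR : (Nat.card R).Coprime p) (haR : a ∈ normalizer (R : Set SL(2, F))) (r : ℕ) [Fact r.Prime] :
    ∃ S : Subgroup SL(2, F), S ≤ R ∧ Nat.card S = r ^ (Nat.card R).factorization r ∧
      a ∈ normalizer (S : Set SL(2, F)) := by
  classical
  let T := {S : Subgroup SL(2, F) // S ≤ R ∧ Nat.card S = r ^ (Nat.card R).factorization r}
  have hstab : ∀ g ∈ zpowers a, ∀ x ∈ R, g * x * g⁻¹ ∈ R := fun g hg x hx =>
    (mem_normalizer_iff.1 ((zpowers_le.2 haR) hg) x).1 hx
  letI act : MulAction (zpowers a) T :=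
    { smul := fun g S => ⟨S.1.map (MulAut.conj (g : SL(2, F))).toMonoidHom, by
        rintro _ ⟨x, hx, rfl⟩
        exact hstab g g.2 x (S.2.1 hx), by
        rw [card_map_of_injective (MulAut.conj (g : SL(2, F))).injective]; exact S.2.2⟩
      one_smul := fun S => Subtype.ext (by
        show S.1.map (MulAut.conj ((1 : zpowers a) : SL(2, F))).toMonoidHom = S.1
        ext x; simp [Subgroup.mem_map])
      mul_smul := fun g h S => Subtype.ext (by
        show S.1.map (MulAut.conj ((g * h : zpowers a) : SL(2, F))).toMonoidHom =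
          (S.1.map (MulAut.conj (h : SL(2, F))).toMonoidHom).map (MulAut.conj (g : SL(2, F))).toMonoidHom
        rw [Subgroup.map_map]
        congr 1
        ext x : 1
        simp [mul_assoc]) }
  let e : T ≃ Sylow r R :=
    { toFun := fun S => Sylow.ofCard (S.1.subgroupOf R) (by
        rw [Nat.card_congr (subgroupOfEquivOfLe S.2.1).toEquiv]; exact S.2.2)
      invFun := fun P => ⟨(P : Subgroup R).map R.subtype, map_subtype_le _, by
        rw [card_map_of_injective R.subtype_injective]; exact P.card_eq_multiplicity⟩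
      left_inv := fun S => Subtype.ext (by
        simp only [Sylow.coe_ofCard, Subgroup.subgroupOf_map_subtype, inf_eq_left.2 S.2.1])
      right_inv := fun P => Sylow.ext (by
        simp only [Sylow.coe_ofCard]
        exact comap_map_eq_self_of_injective R.subtype_injective _) }
  have hT : ¬ p ∣ Nat.card T := by
    rw [Nat.card_congr e]
    intro h
    obtain ⟨P⟩ : Nonempty (Sylow r R) := inferInstance
    have h1 : Nat.card (Sylow r R) ∣ Nat.card R :=
      (Sylow.card_eq_index_normalizer P) ▸ Subgroup.index_dvd_card _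
    exact (Fact.out : p.Prime).not_dvd_one (hR ▸ Nat.dvd_gcd (h.trans h1) dvd_rfl)
  obtain ⟨S, hS⟩ := ha.nonempty_fixed_point_of_prime_not_dvd_card T hT
  refine ⟨S.1, S.2.1, S.2.2, ?_⟩
  have h1 : S.1.map (MulAut.conj a).toMonoidHom = S.1 := congrArg Subtype.val (hS ⟨a, mem_zpowers a⟩)
  rw [mem_normalizer_iff]
  intro x
  constructor
  · intro hx; rw [← h1]; exact ⟨x, hx, rfl⟩
  · intro hx
    rw [← h1] at hx
    obtain ⟨y, hy, hxy⟩ := hx
    have : y = x := by simpa [MulAut.conj_apply] using hxy
    rwa [← this]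

/-- Let F be a finite field of odd characteristic p and let a be a p-element of SL₂(F) normalizing a subgroup R of order prime to p with [R, a] ≠ 1. Then p = 3, R is a quaternion group of order 8, and R⟨a⟩ is isomorphic to SL₂(3). -/
theorem result (F : Type) [Field F] [Fintype F] {p : ℕ} [Fact p.Prime] [CharP F p] (hp : p ≠ 2) (a : Matrix.SpecialLinearGroup (Fin 2) F) (ha : IsPGroup p ↥(Subgroup.zpowers a)) (R : Subgroup (Matrix.SpecialLinearGroup (Fin 2) F)) (hR : (Nat.card R).Coprime p) (haR : a ∈ Subgroup.normalizer (R : Set (Matrix.SpecialLinearGroup (Fin 2) F))) (hnt : ⁅R, Subgroup.zpowers a⁆ ≠ ⊥) : p = 3 ∧ Nonempty (↥R ≃* QuaternionGroup 2) ∧ Nonempty (↥(R ⊔ Subgroup.zpowers a) ≃* Matrix.SpecialLinearGroup (Fin 2) (ZMod 3)) := by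
  classical
  have hpp : p.Prime := Fact.out
  have ha1 : a ≠ 1 := by
    rintro rfl
    exact hnt (by rw [zpowers_one_eq_bot, commutator_bot_right])
  -- R is not central
  have hbig : ¬ ∀ x ∈ R, x = 1 ∨ x = -1 := by
    intro h
    apply hnt
    rw [commutator_eq_bot_iff_le_centralizer]
    intro x hx
    rw [mem_centralizer_iff]
    intro y _
    rcases h x hx with rfl | rfl
    · simp
    · simp
  rcases dichotomy hp ha ha1 R hR haR with h | ⟨hcard, φ, hφ, hφle, hmem⟩
  · exact absurd h hbig
  -- R is a 2-group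
  have hR2 : IsPGroup 2 R := by
    apply IsPGroup.of_card (n := (Nat.card R).factorization 2)
    apply Nat.eq_of_factorization_eq Nat.card_pos.ne' (pow_ne_zero _ two_ne_zero)
    intro r
    rw [Nat.Prime.factorization_pow Nat.prime_two, Finsupp.single_apply]
    split_ifs with h2
    · rw [← h2]
    · by_cases hr : r.Prime
      · by_contra hne
        have : Fact r.Prime := ⟨hr⟩
        have hrd : r ∣ Nat.card R := Nat.dvd_of_factorization_pos hne
        have hrp : r ≠ p := fun e => hpp.not_dvd_one (hR ▸ Nat.dvd_gcd (e ▸ hrd) dvd_rfl)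
        obtain ⟨S, hSR, hSc, haS⟩ := exists_invariant R ha hR haR r
        rcases Cfsg.Lib.Classical.SLTwoTori.unique_sub p hrp S (IsPGroup.of_card hSc) with hc | ⟨e, -⟩
        · have hab : ∀ x ∈ S, ∀ y ∈ S, x * y = y * x := fun x hx y hy => by
            have := hc
            exact congrArg Subtype.val ((IsCyclic.isMulCommutative (α := S)).is_comm.comm ⟨x, hx⟩ ⟨y, hy⟩)
          have hS := abelian_small hp ha ha1 S
            (Nat.Coprime.coprime_dvd_left (Subgroup.card_dvd_of_le hSR) hR) haS hab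
          obtain ⟨x, hx⟩ := exists_prime_orderOf_dvd_card' (G := S) r
            (hSc ▸ dvd_pow_self r hne)
          rw [← Subgroup.orderOf_coe] at hx
          rcases hS x.1 x.2 with h | h
          · rw [h, orderOf_one] at hx; exact hr.one_lt.ne hx
          · rw [h] at hx
            have : r ∣ 2 := hx ▸ orderOf_dvd_of_pow_eq_one (by simp)
            exact h2 ((Nat.prime_dvd_prime_iff_eq hr Nat.prime_two).1 this).symm
        · exact h2 e.symm
      · rw [Nat.factorization_eq_zero_of_not_prime _ hr]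
  -- R is the quaternion group of order 8
  have hQ : Nonempty (↥R ≃* QuaternionGroup 2) := by
    rcases Cfsg.Lib.Classical.SLTwoTori.unique_sub p (Ne.symm hp) R hR2 with hc | ⟨-, m, ⟨f⟩⟩
    · exact absurd (abelian_small hp ha ha1 R hR haR fun x hx y hy => by
        have := hc
        exact congrArg Subtype.val ((IsCyclic.isMulCommutative (α := R)).is_comm.comm ⟨x, hx⟩ ⟨y, hy⟩)) hbig
    · rcases Nat.lt_trichotomy m 1 with hm | hm | hm
      · obtain rfl : m = 0 := by omega
        refine absurd (abelian_small hp ha ha1 R hR haR fun x hx y hy => ?_) hbig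
        have hcomm : ∀ u v : QuaternionGroup (2 ^ 0), u * v = v * u := by decide
        exact congrArg Subtype.val (f.injective (a₁ := ⟨x, hx⟩ * ⟨y, hy⟩) (a₂ := ⟨y, hy⟩ * ⟨x, hx⟩)
          (by rw [map_mul, map_mul, hcomm]))
      · subst hm; exact ⟨f⟩
      · exfalso
        have : NeZero (2 ^ m) := ⟨pow_ne_zero _ two_ne_zero⟩
        let C : Subgroup SL(2, F) := closure {x | x ∈ R ∧ 8 ≤ orderOf x}
        have hCR : C ≤ R := (closure_le _).2 fun x hx => hx.1
        have hform : ∀ x, ∀ hx : x ∈ R, 8 ≤ orderOf x → ∃ i, f ⟨x, hx⟩ = QuaternionGroup.a i := by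
          intro x hx h8
          cases hfx : f ⟨x, hx⟩ with
          | a i => exact ⟨i, rfl⟩
          | xa i =>
            exfalso
            have := congrArg orderOf hfx
            rw [MulEquiv.orderOf_eq, Subgroup.orderOf_mk, QuaternionGroup.orderOf_xa] at this
            omega
        have hCab : IsMulCommutative C := by
          apply Subgroup.isMulCommutative_closure
          rintro x ⟨hx, hx8⟩ y ⟨hy, hy8⟩
          obtain ⟨i, hi⟩ := hform x hx hx8
          obtain ⟨j, hj⟩ := hform y hy hy8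
          exact congrArg Subtype.val (f.injective (a₁ := ⟨x, hx⟩ * ⟨y, hy⟩) (a₂ := ⟨y, hy⟩ * ⟨x, hx⟩)
            (by rw [map_mul, map_mul, hi, hj, QuaternionGroup.a_mul_a, QuaternionGroup.a_mul_a, add_comm]))
        have haC : a ∈ normalizer (C : Set SL(2, F)) := by
          have key : ∀ g ∈ normalizer (R : Set SL(2, F)), C.map (MulAut.conj g).toMonoidHom ≤ C := by
            intro g hg
            rw [MonoidHom.map_closure, closure_le]
            rintro _ ⟨x, ⟨hx, hx8⟩, rfl⟩
            refine subset_closure ⟨(mem_normalizer_iff.1 hg x).1 hx, ?_⟩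
            show 8 ≤ orderOf ((MulAut.conj g) x)
            rw [MulEquiv.orderOf_eq]; exact hx8
          rw [mem_normalizer_iff]
          intro x
          refine ⟨fun hx => key a haR ⟨x, hx, rfl⟩, fun hx => ?_⟩
          have := key a⁻¹ (inv_mem haR) ⟨_, hx, rfl⟩
          simpa [mul_assoc] using this
        have hC := abelian_small hp ha ha1 C
          (Nat.Coprime.coprime_dvd_left (Subgroup.card_dvd_of_le hCR) hR) haC
          (fun x hx y hy => congrArg Subtype.val (hCab.is_comm.comm ⟨x, hx⟩ ⟨y, hy⟩))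
        let u : R := f.symm (QuaternionGroup.a 1)
        have hu : 8 ≤ orderOf (u : SL(2, F)) := by
          rw [Subgroup.orderOf_coe, MulEquiv.orderOf_eq, QuaternionGroup.orderOf_a_one]
          have : 2 ^ 2 ≤ 2 ^ m := Nat.pow_le_pow_right (by norm_num) hm
          omega
        rcases hC u (subset_closure ⟨u.2, hu⟩) with h | h
        · rw [h, orderOf_one] at hu; omega
        · rw [h] at hu
          have := Nat.le_of_dvd (by norm_num) (orderOf_dvd_of_pow_eq_one (show (-1 : SL(2, F)) ^ 2 = 1 by simp))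
          omega
  obtain ⟨eQ⟩ := hQ
  have hR8 : Nat.card R = 8 := by
    rw [Nat.card_congr eQ.toEquiv, Nat.card_eq_fintype_card, QuaternionGroup.card]
  -- p = 3
  have hp3 : p = 3 := by
    let ψ := φ.codRestrict (R ⊔ zpowers a) fun g => hφle ⟨g, rfl⟩
    have hdvd : Nat.card (Matrix.SpecialLinearGroup (Fin 2) (ZMod p)) ∣ Nat.card ↥(R ⊔ zpowers a) :=
      Subgroup.card_dvd_of_injective (f := ψ) fun x y h => hφ (congrArg Subtype.val h)
    rw [Cfsg.Lib.Classical.SLTwoTori.card_SL2, ZMod.card, hcard, hR8] at hdvd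
    obtain ⟨k, hk⟩ := IsPGroup.iff_card.1 ha
    rw [hk] at hdvd
    have hco : (p ^ 2 - 1).Coprime (p ^ k) := by
      apply Nat.Coprime.pow_right
      apply Nat.Coprime.symm
      rw [hpp.coprime_iff_not_dvd]
      intro h
      have h1 := Nat.dvd_sub (dvd_pow_self p two_ne_zero) h
      rw [Nat.sub_sub_self (Nat.one_le_pow _ _ hpp.pos)] at h1
      exact hpp.not_dvd_one h1
    have h8 := Nat.le_of_dvd (by norm_num) (hco.dvd_of_dvd_mul_right ((dvd_mul_left _ p).trans hdvd))
    have h9 : p ^ 2 ≤ 9 := by omega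
    have := hpp.two_le
    by_contra hne
    have h10 : 4 ≤ p := by omega
    nlinarith
  subst hp3
  -- a has order 3
  have ha3 : a ^ 3 = 1 := by
    by_contra hne
    have hb : IsPGroup 3 (zpowers (a ^ 3)) := ha.to_le (zpowers_le.2 (pow_mem (mem_zpowers a) 3))
    have hcent : ∀ x ∈ R, Commute x (a ^ 3) := by
      intro x hx
      let T := {y : SL(2, F) // y ∈ R ∧ orderOf y = 4}
      by_cases h4 : orderOf x = 4
      · -- the six elements of order 4
        letI act : MulAction (zpowers a) T :=
          { smul := fun g y => ⟨(g : SL(2, F)) * y.1 * (g : SL(2, F))⁻¹,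
              (mem_normalizer_iff.1 ((zpowers_le.2 haR) g.2) y.1).1 y.2.1, by
              rw [← MulAut.conj_apply, MulEquiv.orderOf_eq]; exact y.2.2⟩
            one_smul := fun y => Subtype.ext (by
              show ((1 : zpowers a) : SL(2, F)) * y.1 * ((1 : zpowers a) : SL(2, F))⁻¹ = y.1
              simp)
            mul_smul := fun g h y => Subtype.ext (by
              show ((g * h : zpowers a) : SL(2, F)) * y.1 * ((g * h : zpowers a) : SL(2, F))⁻¹ =
                (g : SL(2, F)) * ((h : SL(2, F)) * y.1 * (h : SL(2, F))⁻¹) * (g : SL(2, F))⁻¹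
              simp [mul_assoc]) }
        let y : T := ⟨x, hx, h4⟩
        obtain ⟨j, hj⟩ := IsPGroup.card_orbit ha y
        have hT : Nat.card T ≤ 8 := by
          rw [← hR8]
          exact Nat.card_le_card_of_injective (fun z : T => (⟨z.1, z.2.1⟩ : R))
            (fun u v h => Subtype.ext (congrArg (fun w : R => (w : SL(2, F))) h))
        have horb : Nat.card (MulAction.orbit (zpowers a) y) ≤ 8 :=
          le_trans (Nat.card_le_card_of_injective Subtype.val Subtype.val_injective) hT
        have hj1 : j ≤ 1 := by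
          by_contra hlt
          have : 3 ^ 2 ≤ 3 ^ j := Nat.pow_le_pow_right (by norm_num) (by omega)
          rw [hj] at horb; omega
        have hidx : (MulAction.stabilizer (zpowers a) y).index ∣ 3 := by
          rw [MulAction.index_stabilizer, ← Nat.card_coe_set_eq, hj]
          exact (pow_dvd_pow 3 hj1).trans (by norm_num)
        have hmem : (⟨a, mem_zpowers a⟩ : zpowers a) ^ 3 ∈ MulAction.stabilizer (zpowers a) y := by
          have : (MulAction.stabilizer (zpowers a) y).Normal := by
            have : IsMulCommutative (zpowers a) := inferInstance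
            exact ⟨fun n hn g => by rw [this.is_comm.comm g n, mul_inv_cancel_right]; exact hn⟩
          rw [← QuotientGroup.eq_one_iff, QuotientGroup.mk_pow, ← orderOf_dvd_iff_pow_eq_one]
          exact (_root_.orderOf_dvd_natCard _).trans hidx
        have := congrArg Subtype.val (MulAction.mem_stabilizer_iff.1 hmem)
        change a ^ 3 * x * (a ^ 3)⁻¹ = x at this
        exact (mul_inv_eq_iff_eq_mul.1 this).symm
      · -- elements of order at most 2
        have : (x : SL(2, F)) ^ 2 = 1 := by
          have hq : ∀ q : QuaternionGroup 2, q ^ 2 = 1 ∨ (q ^ 4 = 1 ∧ q ^ 2 ≠ 1) := by decide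
          rcases hq (eQ ⟨x, hx⟩) with h | ⟨h, h'⟩
          · rw [← map_pow, MulEquiv.map_eq_one_iff] at h
            exact congrArg Subtype.val h
          · rw [← map_pow, MulEquiv.map_eq_one_iff] at h
            have h4' : x ^ 4 = 1 := congrArg Subtype.val h
            by_contra h2
            apply h4
            exact orderOf_eq_prime_pow (p := 2) (n := 1) (by simpa using h2) (by simpa using h4')
        have h2F : (2 : F) ≠ 0 := fun h => hp ((Nat.prime_dvd_prime_iff_eq hpp Nat.prime_two).1
          ((CharP.cast_eq_zero_iff F 3 2).1 (by exact_mod_cast h)))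
        rcases Cfsg.Lib.GLTwo.eq_pm_one_of_sq h2F (by rw [← pow_two]; exact this) with rfl | rfl
        · exact Commute.one_left _
        · exact Commute.neg_one_left _
    exact hbig fun x hx => cent_small hp hb hne (hcent x hx)
      (Nat.Coprime.coprime_dvd_left (Subgroup.orderOf_dvd_natCard _ hx) hR)
  have hca : Nat.card (zpowers a) = 3 := by rw [Nat.card_zpowers]; exact orderOf_eq_prime ha3 ha1
  refine ⟨rfl, ⟨eQ⟩, ⟨?_⟩⟩
  have hrange : φ.range = R ⊔ zpowers a := by
    apply eq_of_le_of_card_ge hφle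
    rw [hcard, hR8, hca, ← Nat.card_congr (MonoidHom.ofInjective hφ).toEquiv,
      Cfsg.Lib.Classical.SLTwoTori.card_SL2, ZMod.card]
    norm_num
  exact (MulEquiv.subgroupCongr hrange.symm).trans (MonoidHom.ofInjective hφ).symm

end Cfsg.Agent.S3740
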