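import Cfsg.Statements.S3741
import Cfsg.Agent.PGroups.Basic
import Cfsg.Agent.Coprime.Action

set_option autoImplicit false
open Cfsg

namespace Cfsg.Agent.S3741

open scoped commutatorElement

/-- Let A and B be subgroups of a finite p-group with [A, B] ≤ A ∩ B and [A, B] of order at most p. Then |A : C_A(B)| = |B : C_B(A)|. -/
theorem result {G : Type*} [Group G] [Finite G] {p : ℕ} [Fact p.Prime] (hG : IsPGroup p G) (A B : Subgroup G) (hAB : ⁅A, B⁆ ≤ A ⊓ B) (hcard : Nat.card ↥⁅A, B⁆ ≤ p) : (A ⊓ Subgroup.centralizer (B : Set G)).relIndex A = (B ⊓ Subgroup.centralizer (A : Set G)).relIndex B := by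
  have hp : p.Prime := Fact.out
  have key : ∀ A B : Subgroup G, ⁅A, B⁆ ≤ A ⊓ B → Nat.card ↥⁅A, B⁆ ≤ p →
      (B ⊓ Subgroup.centralizer (A : Set G)).relIndex B ≤ (A ⊓ Subgroup.centralizer (B : Set G)).relIndex A := by
    intro A B hAB hcard
    set K := A ⊓ Subgroup.centralizer (B : Set G)
    set C := ⁅A, B⁆ with hC
    have hcen : ∀ c ∈ C, ∀ b ∈ B, b * c = c * b := by
      intro c hc b hb
      have hBC : B ≤ Subgroup.normalizer (C : Set G) := Cfsg.Lib.Coprime.le_normalizer_commutator_right B A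
      by_cases hC1 : C = ⊥
      · rw [hC1, Subgroup.mem_bot] at hc; simp [hc]
      have hCB : C ≤ B := hAB.trans inf_le_right
      obtain ⟨k, hk⟩ := IsPGroup.iff_card.mp (hG.to_subgroup C)
      have hk1 : k = 1 := by
        rcases k with _ | _ | k
        · exact absurd (Subgroup.card_eq_one.mp (by rw [hk, pow_zero])) hC1
        · rfl
        · exfalso
          have h2 : p ^ 2 ≤ p ^ (k + 1 + 1) := Nat.pow_le_pow_right hp.pos (by omega)
          rw [hk] at hcard
          have : p < p ^ 2 := by rw [sq]; exact lt_mul_of_one_lt_left hp.pos hp.one_lt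
          omega
      have : (C.subgroupOf B).Normal := (Subgroup.normal_subgroupOf_iff_le_normalizer hCB).mpr hBC
      have hle := Cfsg.Lib.PGroups.le_center_of_card_eq_prime (hG.to_subgroup B) (N := C.subgroupOf B) (by
        rw [Nat.card_congr (Subgroup.subgroupOfEquivOfLe hCB).toEquiv, hk, hk1, pow_one])
      exact congrArg Subtype.val (Subgroup.mem_center_iff.mp (hle (show ⟨c, hCB hc⟩ ∈ C.subgroupOf B from hc)) ⟨b, hb⟩)
    have hone : ∀ a ∈ A, (B ⊓ Subgroup.centralizer ({a} : Set G)).relIndex B ≤ p := by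
      intro a ha
      let f : B →* G := MonoidHom.mk' (fun b => ⁅a, (b : G)⁆) fun u v => by
        have h1 := hcen _ (Subgroup.commutator_mem_commutator ha v.2) u u.2
        simp only [commutatorElement_def, Subgroup.coe_mul] at h1 ⊢
        calc a * ((u : G) * v) * a⁻¹ * ((u : G) * v)⁻¹
            = a * u * a⁻¹ * ((a * v * a⁻¹ * (v : G)⁻¹) * (u : G)⁻¹) := by group
          _ = a * u * a⁻¹ * ((u : G)⁻¹ * ((a * v * a⁻¹ * (v : G)⁻¹) * u) * (u : G)⁻¹) := by
              rw [← h1, inv_mul_cancel_left]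
          _ = _ := by group
      have hker : f.ker = (B ⊓ Subgroup.centralizer ({a} : Set G)).subgroupOf B := by
        ext b
        show ⁅a, (b : G)⁆ = 1 ↔ _
        rw [commutatorElement_eq_one_iff_mul_comm, Subgroup.mem_subgroupOf, Subgroup.mem_inf,
          Subgroup.mem_centralizer_singleton_iff]
        exact ⟨fun h => ⟨b.2, h.symm⟩, fun h => h.2.symm⟩
      rw [Subgroup.relIndex, ← hker, Subgroup.index_ker]
      refine le_trans (Subgroup.card_le_of_le ?_) hcard
      rintro _ ⟨b, rfl⟩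
      exact Subgroup.commutator_mem_commutator ha b.2
    obtain ⟨X, ⟨hKX, hXA, hX⟩, hmax⟩ := exists_maximal_of_wellFoundedGT
      (fun X : Subgroup G => K ≤ X ∧ X ≤ A ∧
        (B ⊓ Subgroup.centralizer (X : Set G)).relIndex B ≤ K.relIndex X) ⟨K, le_rfl, inf_le_left, by
        rw [Subgroup.relIndex_self, show B ⊓ Subgroup.centralizer (K : Set G) = B from
          inf_eq_left.mpr (Subgroup.le_centralizer_iff.mp inf_le_right), Subgroup.relIndex_self]⟩
    suffices hXeq : X = A by rw [hXeq] at hX; exact hX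
    by_contra hne
    obtain ⟨a, ha, haX⟩ := SetLike.exists_of_lt (lt_of_le_of_ne hXA hne)
    set Y := X ⊔ Subgroup.zpowers a
    have hlt : X < Y := lt_of_le_of_ne le_sup_left fun e =>
      haX (e ▸ Subgroup.mem_sup_right (Subgroup.mem_zpowers a))
    refine hlt.not_ge (hmax ⟨hKX.trans hlt.le, sup_le hXA (Subgroup.zpowers_le.mpr ha), ?_⟩ hlt.le)
    have hp' : p ≤ X.relIndex Y := by
      obtain ⟨k, hk⟩ := (hG.to_subgroup Y).index (X.subgroupOf Y)
      change X.relIndex Y = p ^ k at hk
      rw [hk]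
      refine Nat.le_self_pow (fun h0 => hlt.not_ge (Subgroup.relIndex_eq_one.mp ?_)) p
      rw [hk, h0, pow_zero]
    have hsub : (B ⊓ Subgroup.centralizer (X : Set G)) ⊓ (B ⊓ Subgroup.centralizer ({a} : Set G)) ≤
        B ⊓ Subgroup.centralizer (Y : Set G) := by
      rintro g ⟨⟨hg, hgX⟩, ⟨-, hga⟩⟩
      refine ⟨hg, ?_⟩
      have : Y ≤ Subgroup.centralizer ({g} : Set G) := sup_le
        (fun u hu => Subgroup.mem_centralizer_singleton_iff.mpr (Subgroup.mem_centralizer_iff.mp hgX u hu))
        (Subgroup.zpowers_le.mpr (Subgroup.mem_centralizer_singleton_iff.mpr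
          (Subgroup.mem_centralizer_singleton_iff.mp hga).symm))
      exact Subgroup.mem_centralizer_iff.mpr fun u hu => Subgroup.mem_centralizer_singleton_iff.mp (this hu)
    calc (B ⊓ Subgroup.centralizer (Y : Set G)).relIndex B
        ≤ ((B ⊓ Subgroup.centralizer (X : Set G)) ⊓ (B ⊓ Subgroup.centralizer ({a} : Set G))).relIndex B :=
          Nat.le_of_dvd (Nat.pos_of_ne_zero Subgroup.index_ne_zero_of_finite)
            (Subgroup.relIndex_dvd_of_le_left B hsub)
      _ ≤ _ := Subgroup.relIndex_inf_le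
      _ ≤ K.relIndex X * p := Nat.mul_le_mul hX (hone a ha)
      _ ≤ K.relIndex X * X.relIndex Y := Nat.mul_le_mul_left _ hp'
      _ = K.relIndex Y := Subgroup.relIndex_mul_relIndex K X Y hKX hlt.le
  exact le_antisymm (key B A (by rw [Subgroup.commutator_comm, inf_comm]; exact hAB)
    (by rwa [Subgroup.commutator_comm])) (key A B hAB hcard)

end Cfsg.Agent.S3741
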