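import Cfsg.Statements.S3744
import Cfsg.Agent.Coprime.PComplementPSolvable

set_option autoImplicit false
open Cfsg

namespace Cfsg.Agent.S3744

open Cfsg.Lib.Coprime

theorem toHall {G : Type*} [Group G] [Finite G] {p : ℕ} [hp : Fact p.Prime] {H : Subgroup G}
    (h : (Nat.card H).Coprime p) (hi : ∃ n : ℕ, H.index = p ^ n) :
    Cfsg.IsPiHall {q : ℕ | q ≠ p} H :=
  ⟨fun q _ hd e => hp.out.coprime_iff_not_dvd.1 h.symm (e ▸ hd), fun q hq hne hd => by
    obtain ⟨n, hn⟩ := hi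
    exact hne ((Nat.prime_dvd_prime_iff_eq hq hp.out).1 (hq.dvd_of_dvd_pow (hn ▸ hd)))⟩

theorem ofHall {G : Type*} [Group G] [Finite G] {p : ℕ} [hp : Fact p.Prime] {H : Subgroup G}
    (h : Cfsg.IsPiHall {q : ℕ | q ≠ p} H) : (Nat.card H).Coprime p ∧ ∃ n : ℕ, H.index = p ^ n := by
  refine ⟨(hp.out.coprime_iff_not_dvd.2 fun hd => h.1 p hp.out hd rfl).symm, _,
    Nat.eq_prime_pow_of_unique_prime_dvd H.index_ne_zero_of_finite fun {q} hq hd => ?_⟩
  by_contra hne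
  exact h.2 q hq hne hd


/-- A finite p-soluble group has a p-complement, all its p-complements are conjugate, and every subgroup of order prime to p lies in one of them. Here a p-complement is a subgroup of order prime to p whose index is a power of p. -/
theorem result {G : Type*} [Group G] [Finite G] {p : ℕ} [Fact p.Prime] (hG : Cfsg.IsPSolvable p G) : (∃ H : Subgroup G, (Nat.card H).Coprime p ∧ ∃ n : ℕ, H.index = p ^ n) ∧ (∀ H₁ H₂ : Subgroup G, (Nat.card H₁).Coprime p → (∃ n : ℕ, H₁.index = p ^ n) → (Nat.card H₂).Coprime p → (∃ n : ℕ, H₂.index = p ^ n) → ∃ g : G, H₂ = H₁.map (MulAut.conj g).toMonoidHom) ∧ (∀ U : Subgroup G, (Nat.card U).Coprime p → ∃ H : Subgroup G, (Nat.card H).Coprime p ∧ (∃ n : ℕ, H.index = p ^ n) ∧ ∃ g : G, U.map (MulAut.conj g).toMonoidHom ≤ H) := by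
  obtain ⟨H, hH⟩ := pHall_exists_aux (p := p) _ G le_rfl hG
  refine ⟨⟨H, ofHall hH⟩, fun H₁ H₂ a1 a2 b1 b2 => ?_, fun U hU => ?_⟩
  · obtain ⟨g, hg⟩ := pHall_contain_aux (p := p) _ G le_rfl hG H₁ H₂ (toHall a1 a2)
      ((Fact.out : p.Prime).coprime_iff_not_dvd.1 b1.symm)
    exact ⟨g, eq_of_le_of_card_eq hg
      (by rw [card_conjMap, piHall_card_eq (toHall a1 a2) (toHall b1 b2)])⟩
  · obtain ⟨g, hg⟩ := pHall_contain_aux (p := p) _ G le_rfl hG H U hH
      ((Fact.out : p.Prime).coprime_iff_not_dvd.1 hU.symm)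
    exact ⟨H, (ofHall hH).1, (ofHall hH).2, g⁻¹, (conjMap_mono hg).trans (conjMap_inv_conjMap g H).le⟩

end Cfsg.Agent.S3744
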