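import Cfsg.Statements.S3746
import Cfsg.Agent.Components.Layer
import Cfsg.Agent.Coprime.Action

set_option autoImplicit false
open Cfsg

namespace Cfsg.Agent.S3746

open scoped commutatorElement

/-- Let Z ≤ Z(G) be a central subgroup of a finite group G and E a subgroup of G containing Z whose image E/Z is a component of G/Z (subnormal and quasisimple). Then the derived subgroup [E, E] is a component of G. -/
theorem result {G : Type*} [Group G] [Finite G] (Z : Subgroup G) (hZ : Z ≤ Subgroup.center G) [Z.Normal] (E : Subgroup G) (hZE : Z ≤ E) (hE : Cfsg.IsComponent (E.map (QuotientGroup.mk' Z))) : Cfsg.IsComponent ⁅E, E⁆ := by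
  set π := QuotientGroup.mk' Z with hπ
  set Ē := E.map π with hĒ
  have hsurj := QuotientGroup.mk'_surjective Z
  have hcomap : Ē.comap π = E := Subgroup.comap_map_eq_self (by rw [hπ, QuotientGroup.ker_mk']; exact hZE)
  have hEsub : E.IsSubnormal := hcomap ▸ hE.1.comap π
  set D := ⁅E, E⁆ with hD
  have hDE : D ≤ E := Subgroup.commutator_le_self E
  have hZc : ∀ z ∈ Z, ∀ g : G, g * z = z * g := fun z hz g => Subgroup.mem_center_iff.mp (hZ hz) g
  have hdecomp : ∀ N : Subgroup G, Ē ≤ N.map π → ∀ e ∈ E, ∃ n ∈ N, ∃ z ∈ Z, e = n * z := by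
    intro N hN e he
    obtain ⟨n, hn, hne⟩ := hN ⟨e, he, rfl⟩
    refine ⟨n, hn, n⁻¹ * e, ?_, by group⟩
    rw [← QuotientGroup.eq]
    exact hne
  have hcommle : ∀ N : Subgroup G, Ē ≤ N.map π → D ≤ ⁅N, N⁆ := by
    intro N hN
    rw [hD, Subgroup.commutator_le]
    intro a ha b hb
    obtain ⟨n, hn, z, hz, rfl⟩ := hdecomp N hN a ha
    obtain ⟨m, hm, t, ht, rfl⟩ := hdecomp N hN b hb
    have h1 : ⁅n * z, m * t⁆ = ⁅n, m⁆ := by
      simp only [commutatorElement_def, mul_inv_rev]
      have a1 := hZc z hz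
      have a2 := hZc t ht
      calc n * z * (m * t) * (z⁻¹ * n⁻¹) * (t⁻¹ * m⁻¹)
          = n * (z * m) * (t * z⁻¹) * n⁻¹ * t⁻¹ * m⁻¹ := by group
        _ = n * (m * z) * (z⁻¹ * t) * n⁻¹ * t⁻¹ * m⁻¹ := by
            rw [← a1 m, show t * z⁻¹ = z⁻¹ * t from (Commute.inv_right (a1 t)).eq]
        _ = n * m * (t * n⁻¹) * t⁻¹ * m⁻¹ := by group
        _ = _ := by rw [← a2 n⁻¹]; group
    rw [h1]
    exact Subgroup.commutator_mem_commutator hn hm
  have hĒperf : ⁅Ē, Ē⁆ = Ē := Cfsg.Lib.Components.comp_perfect hE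
  have hDimg : Ē ≤ D.map π := by rw [hD, Subgroup.map_commutator, ← hĒ, hĒperf]
  have hDperf : ⁅D, D⁆ = D := le_antisymm (Subgroup.commutator_le_self D) (hcommle D hDimg)
  have hDn : E ≤ Subgroup.normalizer (D : Set G) := Cfsg.Lib.Coprime.le_normalizer_commutator_left E E
  have hDsub : D.IsSubnormal := Cfsg.Lib.Components.isSubnormal_of_normal_in hEsub hDE hDn
  have hDne : D ≠ ⊥ := by
    intro h
    have h2 : Ē = ⊥ := le_bot_iff.mp (hDimg.trans (by rw [h, Subgroup.map_bot]))
    exact Cfsg.Lib.Components.comp_ne_bot hE h2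
  have hDnt : Nontrivial D := (Subgroup.nontrivial_iff_ne_bot D).mpr hDne
  refine ⟨hDsub, Cfsg.Lib.Components.isQuasisimple_of_perfect_of_subnormal hDnt ?_ ?_⟩
  · apply Subgroup.map_injective D.subtype_injective
    rw [Subgroup.map_commutator, ← MonoidHom.range_eq_map, Subgroup.range_subtype, hDperf]
  · intro N hN hNtop
    set N' := N.map D.subtype
    have hN'D : N' ≤ D := Subgroup.map_subtype_le N
    have hDN' : D ≤ Subgroup.normalizer (N' : Set G) := by
      have h1 := Subgroup.le_normalizer_map D.subtype (H := N)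
      rw [Subgroup.normalizer_eq_top_iff.mpr hN, ← MonoidHom.range_eq_map, Subgroup.range_subtype] at h1
      exact h1
    have hEN' : E ≤ Subgroup.normalizer (N' : Set G) := by
      intro e he
      obtain ⟨d, hd, z, hz, rfl⟩ := hdecomp D hDimg e he
      refine Subgroup.mul_mem _ (hDN' hd) (Subgroup.mem_normalizer_iff.mpr fun w => ?_)
      rw [← hZc z hz w, mul_inv_cancel_right]
    have hsn : (N'.map π).IsSubnormal :=
      (Cfsg.Lib.Components.isSubnormal_of_normal_in hEsub (hN'D.trans hDE) hEN').map hsurj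
    rcases Cfsg.Lib.Components.qs_subnormal_eq_top_or_le_center hE.2
      (hsn.subgroupOf (K := Ē)) with h | h
    · exfalso
      have h1 : Ē ≤ N'.map π := Subgroup.subgroupOf_eq_top.mp h
      have h2 : N' = D := le_antisymm hN'D ((hcommle N' h1).trans (Subgroup.commutator_le_self N'))
      apply hNtop
      apply Subgroup.map_injective D.subtype_injective
      rw [← MonoidHom.range_eq_map, Subgroup.range_subtype]; exact h2
    · have hNE : ⁅N', E⁆ ≤ Z := by
        rw [Subgroup.commutator_le]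
        intro n hn e he
        rw [← QuotientGroup.eq_one_iff, ← QuotientGroup.mk'_apply, map_commutatorElement,
          commutatorElement_eq_one_iff_mul_comm]
        have hnE : π n ∈ Ē := ⟨n, hDE (hN'D hn), rfl⟩
        have := Subgroup.mem_center_iff.mp (@h ⟨π n, hnE⟩ ⟨n, hn, rfl⟩) ⟨π e, ⟨e, he, rfl⟩⟩
        exact (congrArg Subtype.val this).symm
      have hZE1 : ⁅Z, E⁆ = ⊥ := by
        rw [Subgroup.commutator_eq_bot_iff_le_centralizer]
        exact fun z hz => Subgroup.mem_centralizer_iff.mpr fun e _ => hZc z hz e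
      have h3 : ⁅⁅E, E⁆, N'⁆ = ⊥ := Subgroup.commutator_commutator_eq_bot_of_rotate
        (le_bot_iff.mp ((Subgroup.commutator_mono ((Subgroup.commutator_comm E N').le.trans hNE) le_rfl).trans hZE1.le))
        (le_bot_iff.mp ((Subgroup.commutator_mono hNE le_rfl).trans hZE1.le))
      intro n hn
      rw [Subgroup.mem_center_iff]
      intro d
      refine Subtype.ext ?_
      exact commutatorElement_eq_one_iff_mul_comm.mp (by
        have := Subgroup.commutator_mem_commutator (H₁ := D) (H₂ := N') d.2 ⟨n, hn, rfl⟩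
        rwa [h3, Subgroup.mem_bot] at this)

end Cfsg.Agent.S3746
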