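import Cfsg.Statements.S3747
import Cfsg.Agent.Components.Structure

set_option autoImplicit false
open Cfsg

namespace Cfsg.Agent.S3747

open scoped commutatorElement

/-- Let G be a finite group. (a) If K is a component of G with trivial centre, then the normal closure of K in G is a minimal normal subgroup of G. (b) If the Fitting subgroup of G is trivial, then the layer E(G) is generated by the minimal normal subgroups of G. -/
theorem result {G : Type*} [Group G] [Finite G] : (∀ K : Subgroup G, Cfsg.IsComponent K → Subgroup.center ↥K = ⊥ → (Subgroup.normalClosure (K : Set G) ≠ ⊥ ∧ ∀ N : Subgroup G, N.Normal → N ≤ Subgroup.normalClosure (K : Set G) → N = ⊥ ∨ N = Subgroup.normalClosure (K : Set G))) ∧ (Cfsg.fittingSubgroup G = ⊥ → sSup {N : Subgroup G | N ≠ ⊥ ∧ N.Normal ∧ ∀ N' : Subgroup G, N'.Normal → N' ≤ N → N' = ⊥ ∨ N' = N} = Cfsg.layer G) := by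
  have key : ∀ K : Subgroup G, IsComponent K → Subgroup.center ↥K = ⊥ →
      Subgroup.normalClosure (K : Set G) ≠ ⊥ ∧ ∀ N : Subgroup G, N.Normal →
        N ≤ Subgroup.normalClosure (K : Set G) → N = ⊥ ∨ N = Subgroup.normalClosure (K : Set G) := by
    intro K hK hZ
    set M := Subgroup.normalClosure (K : Set G)
    have hKM : K ≤ M := Subgroup.le_normalClosure
    refine ⟨fun e => Cfsg.Lib.Components.comp_ne_bot hK (le_bot_iff.mp (hKM.trans e.le)), fun N hN hNM => ?_⟩
    by_cases hall : ∃ g : G, K.map (MulAut.conj g).toMonoidHom ≤ N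
    · right
      obtain ⟨g, hg⟩ := hall
      refine le_antisymm hNM (Subgroup.normalClosure_le_normal fun k hk => ?_)
      have := hN.conj_mem _ (hg ⟨k, hk, rfl⟩) g⁻¹
      show k ∈ N
      convert this using 1
      simp
      group
    · left
      push Not at hall
      classical
      have hfin := Fintype.ofFinite G
      let s : Finset (Subgroup G) := Finset.univ.image fun g : G => K.map (MulAut.conj g).toMonoidHom
      have hs : ∀ L ∈ s, IsComponent L := by
        intro L hL
        obtain ⟨g, -, rfl⟩ := Finset.mem_image.mp hL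
        exact Cfsg.Lib.Components.comp_conj hK g
      have hcen : ∀ L ∈ s, ∀ l ∈ L, ∀ n ∈ N, n * l = l * n := by
        intro L hL l hl n hn
        obtain ⟨g, -, rfl⟩ := Finset.mem_image.mp hL
        exact (Cfsg.Lib.Components.commute_of_commutator_eq_bot
          (Cfsg.Lib.Components.comp_commute_of_not_le (Cfsg.Lib.Components.comp_conj hK g)
            hN.isSubnormal (hall g)) hl hn).symm
      have hMs : M ≤ s.sup id := by
        rw [show M = Subgroup.normalClosure (K : Set G) from rfl, Subgroup.normalClosure, Subgroup.closure_le]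
        intro w hw
        obtain ⟨k, hk, hkw⟩ := Group.mem_conjugatesOfSet_iff.mp hw
        obtain ⟨g, rfl⟩ := isConj_iff.mp hkw
        exact (Finset.le_sup (f := id) (Finset.mem_image.mpr ⟨g, Finset.mem_univ g, rfl⟩) :
          K.map (MulAut.conj g).toMonoidHom ≤ s.sup id) ⟨k, hk, rfl⟩
      have hbot : s.sup (fun L => L ⊓ Subgroup.centralizer (L : Set G)) = ⊥ := by
        refine le_bot_iff.mp (Finset.sup_le fun L hL => ?_)
        obtain ⟨g, -, rfl⟩ := Finset.mem_image.mp hL
        rintro _ ⟨⟨k, hk, rfl⟩, hc⟩
        have hkZ : (⟨k, hk⟩ : K) ∈ Subgroup.center K := by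
          rw [Subgroup.mem_center_iff]
          intro k'
          refine Subtype.ext ?_
          have := Subgroup.mem_centralizer_iff.mp hc _ ⟨k', k'.2, rfl⟩
          exact (MulAut.conj g).injective (by simpa using this)
        rw [hZ, Subgroup.mem_bot] at hkZ
        have hk1 : k = 1 := congrArg Subtype.val hkZ
        rw [Subgroup.mem_bot, hk1, map_one]
      rw [Subgroup.eq_bot_iff_forall]
      intro n hn
      have := Cfsg.Lib.Components.central_mem_iSup_centers s hs n (hMs (hNM hn))
        (fun L hL l hl => hcen L hL l hl n hn)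
      rwa [hbot, Subgroup.mem_bot] at this
  refine ⟨key, fun hF => le_antisymm (sSup_le ?_) (sSup_le fun K hK => ?_)⟩
  · rintro N ⟨hNne, hN, hmin⟩
    have hns : N.IsSubnormal := hN.isSubnormal
    rcases hmin ((Cfsg.layer N).map N.subtype) inferInstance (Subgroup.map_subtype_le _) with h | h
    · exfalso
      rw [Subgroup.map_eq_bot_iff_of_injective _ N.subtype_injective] at h
      have hFN : Cfsg.fittingSubgroup N = ⊥ := by
        apply Subgroup.map_injective N.subtype_injective
        rw [Cfsg.Lib.Components.fitting_map_subtype_eq hns, hF, bot_inf_eq, Subgroup.map_bot]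
      have hgen : Cfsg.generalizedFittingSubgroup N = ⊥ := by
        rw [Cfsg.generalizedFittingSubgroup, h, hFN, bot_sup_eq]
      have := Cfsg.Lib.Components.centralizer_genFitting_le (G := N)
      rw [hgen, le_bot_iff, Subgroup.eq_bot_iff_forall] at this
      exact hNne ((Subgroup.eq_bot_iff_forall N).mpr fun x hx => congrArg Subtype.val
        (this ⟨x, hx⟩ (Subgroup.mem_centralizer_iff.mpr fun y hy => by
          rw [SetLike.mem_coe, Subgroup.mem_bot] at hy; simp [hy])))
    · exact h ▸ (Cfsg.Lib.Components.layer_map_subtype_le hns).trans inf_le_left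
  · have hKc : K ⊓ Subgroup.centralizer (K : Set G) = ⊥ := by
      refine le_bot_iff.mp ?_
      have h1 : K ⊓ Subgroup.centralizer (K : Set G) ≤ Cfsg.layer G ⊓ Subgroup.centralizer (Cfsg.layer G : Set G) := by
        rw [Cfsg.Lib.Components.layer_inf_centralizer_eq]
        exact le_iSup (fun L : {K : Subgroup G // IsComponent K} =>
          (L : Subgroup G) ⊓ Subgroup.centralizer ((L : Subgroup G) : Set G)) ⟨K, hK⟩
      rwa [Cfsg.Lib.Components.layer_inf_centralizer_eq_fitting, hF, bot_inf_eq] at h1
    have hZ : Subgroup.center K = ⊥ := by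
      apply Subgroup.map_injective K.subtype_injective
      rw [Cfsg.Lib.Components.center_map_eq, hKc, Subgroup.map_bot]
    obtain ⟨hne, hmin⟩ := key K hK hZ
    exact le_sSup_of_le ⟨hne, inferInstance, hmin⟩ Subgroup.le_normalClosure

end Cfsg.Agent.S3747
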