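import Cfsg.Statements.S3748
import Cfsg.Agent.SolvStruct.Zipper
import Cfsg.Agent.Components.GenFitting
import Cfsg.Agent.S0064

set_option autoImplicit false
open Cfsg

namespace Cfsg.Agent.S3748

/-- Call a proper subgroup M of G primitive when M = N_G(N) for every non-trivial normal subgroup N of M. If M is a primitive subgroup of the finite group G, then no non-trivial subnormal subgroup of G is contained in M; in particular M ∩ F(G) = 1. -/
theorem result {G : Type*} [Group G] [Finite G] (M : Subgroup G) (hM : M ≠ ⊤) (hprim : ∀ N : Subgroup G, N ≤ M → M ≤ Subgroup.normalizer (N : Set G) → N ≠ ⊥ → Subgroup.normalizer (N : Set G) = M) : (∀ L : Subgroup G, L.IsSubnormal → L ≤ M → L = ⊥) ∧ M ⊓ Cfsg.fittingSubgroup G = ⊥ := by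
  open Cfsg.Lib.SolvStruct in
  set S : Set (Subgroup G) := {L | L.IsSubnormal ∧ L ≤ M}
  have hN : (sSup S).IsSubnormal := Cfsg.Lib.SolvStruct.isSubnormal_sSup S fun U hU => hU.1
  set N := sSup S
  have hNM : N ≤ M := sSup_le fun U hU => hU.2
  have hbot : N = ⊥ := by
    by_contra hne
    have hnorm : Subgroup.normalizer (N : Set G) = M := by
      refine hprim N hNM (fun m hm => ?_) hne
      refine Cfsg.Lib.SolvStruct.mem_normalizer_of_conj_smul_le (le_sSup ⟨hN.map (MulEquiv.surjective _), ?_⟩)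
      rintro _ ⟨x, hx, rfl⟩
      exact mul_mem (mul_mem hm (hNM hx)) (inv_mem hm)
    obtain ⟨g, hg, hgN⟩ := Cfsg.Lib.SolvStruct.exists_conj_le_normalizer hN N le_rfl Subgroup.le_normalizer
      (hnorm ▸ hM)
    exact hg (Cfsg.Lib.SolvStruct.mem_normalizer_of_conj_smul_le
      (le_sSup ⟨hN.map (MulEquiv.surjective _), hgN.trans hnorm.le⟩))
  have key : ∀ L : Subgroup G, L.IsSubnormal → L ≤ M → L = ⊥ := fun L h1 h2 =>
    le_bot_iff.1 (hbot ▸ le_sSup (show L ∈ S from ⟨h1, h2⟩))
  refine ⟨key, key _ ?_ inf_le_left⟩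
  haveI := Cfsg.Lib.Components.isNilpotent_fitting (G := G)
  exact Subgroup.IsSubnormal.trans inf_le_right (Cfsg.Agent.S0064.result.1 inferInstance _)
    (Subgroup.Normal.isSubnormal inferInstance)

end Cfsg.Agent.S3748
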