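import Cfsg.Statements.S3749
import Cfsg.Agent.Coprime.Sylow
import Cfsg.Agent.Components.Cores
import Cfsg.Agent.PGroups.Basic

set_option autoImplicit false
open Cfsg

namespace Cfsg.Agent.S3749

open Subgroup


/-- Call a proper subgroup M of G primitive when M = N_G(N) for every non-trivial normal subgroup N of M. Let M be a primitive subgroup of the finite group G, p a prime with O_p(M) ≠ 1, and N a normal subgroup of G with M ∩ N = 1. Then p does not divide the order of N; for every prime q there is exactly one Sylow q-subgroup of N normalized by M; and if the order of N has at least two prime divisors then M is not a maximal subgroup of G. -/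
theorem result {G : Type*} [Group G] [Finite G] (M : Subgroup G) (hM : M ≠ ⊤) (hprim : ∀ N : Subgroup G, N ≤ M → M ≤ Subgroup.normalizer (N : Set G) → N ≠ ⊥ → Subgroup.normalizer (N : Set G) = M) {p : ℕ} [Fact p.Prime] (hOp : Cfsg.pCore p ↥M ≠ ⊥) (N : Subgroup G) [N.Normal] (hMN : M ⊓ N = ⊥) : ¬ p ∣ Nat.card N ∧ (∀ q : ℕ, [Fact q.Prime] → ∃! Q : Sylow q ↥N, M ≤ Subgroup.normalizer ((Q : Subgroup ↥N).map N.subtype : Set G)) ∧ ((∃ q r : ℕ, q.Prime ∧ r.Prime ∧ q ≠ r ∧ q ∣ Nat.card N ∧ r ∣ Nat.card N) → ¬ IsCoatom M) := by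
  classical
  have hp : p.Prime := Fact.out
  set T := (Cfsg.pCore p ↥M).map M.subtype with hT
  have hTM : T ≤ M := map_subtype_le _
  have hTne : T ≠ ⊥ := by rwa [Ne, hT, map_eq_bot_iff_of_injective _ M.subtype_injective]
  have hTp : IsPGroup p T := (Cfsg.Lib.Components.isPGroup_pCore p).map _
  have hMT : M ≤ normalizer (T : Set G) := fun m hm =>
    le_normalizer_map M.subtype ⟨⟨m, hm⟩, by
      rw [normalizer_eq_top_iff.2 (Cfsg.Lib.Components.pCore_normal' p)]; exact mem_top _, rfl⟩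
  have hNT : normalizer (T : Set G) = M := hprim T hTM hMT hTne
  have hCN : ∀ x ∈ N, x ∈ centralizer (T : Set G) → x = 1 := fun x hxN hxC => by
    have h : x ∈ normalizer (T : Set G) :=
      Cfsg.Lib.Coprime.mem_normalizer_of_conj_mem
        (fun y hy => by rwa [← mem_centralizer_iff.1 hxC y hy, mul_inv_cancel_right])
        (fun y hy => by rwa [mul_assoc, mem_centralizer_iff.1 hxC y hy, inv_mul_cancel_left])
    exact mem_bot.1 (hMN.le ⟨hNT.le h, hxN⟩)
  have hpN : ¬ p ∣ Nat.card N := by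
    intro hd
    letI : MulAction T N := MulAction.compHom N ((MulAut.conjNormal (H := N)).comp T.subtype)
    have hfix : (1 : N) ∈ MulAction.fixedPoints T N := fun t => map_one ((MulAut.conjNormal (H := N)) (t : G))
    obtain ⟨z, hz, hz1⟩ := hTp.exists_fixed_point_of_prime_dvd_card_of_fixed_point N hd hfix
    refine hz1.symm (Subtype.ext (hCN z z.2 (mem_centralizer_iff.2 fun t ht => ?_))).symm.symm
    have h := congrArg Subtype.val (hz ⟨t, ht⟩)
    exact mul_inv_eq_iff_eq_mul.1 h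
  obtain ⟨k, hk⟩ := hTp.exists_card_eq
  have hcop : (Nat.card T).Coprime (Nat.card N) := by
    rw [hk]; exact Nat.Coprime.pow_left k (hp.coprime_iff_not_dvd.2 hpN)
  haveI := hTp.isNilpotent
  have hTN : T ≤ normalizer (N : Set G) := le_normalizer_of_normal
  have huniq : ∀ q : ℕ, [Fact q.Prime] → ∀ Q R : Sylow q ↥N,
      T ≤ normalizer ((Q : Subgroup ↥N).map N.subtype : Set G) →
      T ≤ normalizer ((R : Subgroup ↥N).map N.subtype : Set G) → Q = R := by
    intro q _ Q R hQ hR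
    obtain ⟨c, hc, rfl⟩ := Cfsg.Lib.Coprime.invariant_sylow_conj hTN hcop (Or.inl inferInstance) q Q R hQ hR
    rw [show c = 1 from Subtype.ext (hCN c c.2 hc), one_smul]
  have hsyl : ∀ q : ℕ, [Fact q.Prime] → ∃! Q : Sylow q ↥N, M ≤ normalizer ((Q : Subgroup ↥N).map N.subtype : Set G) := by
    intro q _
    obtain ⟨Q, hQ⟩ := Cfsg.Lib.Coprime.exists_invariant_sylow hTN hcop (Or.inl inferInstance) q
    refine ⟨Q, fun m hm => ?_, fun R hR => huniq q R Q (hTM.trans hR) hQ⟩
    set Q₀ := (Q : Subgroup ↥N).map N.subtype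
    have hle : Cfsg.Lib.Coprime.conjMap m Q₀ ≤ N := by
      rintro _ ⟨x, hx, rfl⟩
      exact Subgroup.Normal.conj_mem inferInstance x (map_subtype_le _ hx) m
    let R : Sylow q ↥N := Sylow.ofCard ((Cfsg.Lib.Coprime.conjMap m Q₀).subgroupOf N) (by
      rw [Nat.card_congr (subgroupOfEquivOfLe hle).toEquiv, Cfsg.Lib.Coprime.card_conjMap,
        card_map_of_injective N.subtype_injective, Q.card_eq_multiplicity])
    have hR : (R : Subgroup ↥N).map N.subtype = Cfsg.Lib.Coprime.conjMap m Q₀ := by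
      rw [Sylow.coe_ofCard, map_subgroupOf_eq_of_le hle]
    have hTR : T ≤ normalizer ((R : Subgroup ↥N).map N.subtype : Set G) := by
      rw [hR, Cfsg.Lib.Coprime.normalizer_conjMap]
      intro t ht
      rw [Cfsg.Lib.Coprime.mem_conjMap]
      exact hQ ((mem_normalizer_iff''.1 (hMT hm) t).1 ht)
    rw [← Cfsg.Lib.Coprime.conjMap_eq_self_iff, ← hR, huniq q R Q hTR hQ]
  refine ⟨hpN, hsyl, ?_⟩
  rintro ⟨q, r, hq, hr, hqr, hqN, hrN⟩ hmax
  haveI := Fact.mk hq
  obtain ⟨Q, hQ, -⟩ := hsyl q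
  set Q₀ := (Q : Subgroup ↥N).map N.subtype with hQ₀
  have hQN : Q₀ ≤ N := map_subtype_le _
  have hQne : Q₀ ≠ ⊥ := fun e => by
    rw [hQ₀, map_eq_bot_iff_of_injective _ N.subtype_injective] at e
    exact Q.ne_bot_of_dvd_card hqN e
  have hnot : ¬ Q₀ ≤ M := fun h => hQne (le_bot_iff.1 ((le_inf h hQN).trans hMN.le))
  have htop : normalizer (Q₀ : Set G) = ⊤ :=
    hmax.2 _ (lt_of_le_of_ne hQ fun e => hnot (le_normalizer.trans e.symm.le))
  have hnQ : Q₀.Normal := normalizer_eq_top_iff.1 htop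
  have hL : Q₀ ⊔ M = ⊤ := hmax.2 _ (lt_of_le_of_ne le_sup_right fun e => hnot (le_sup_left.trans e.symm.le))
  have h1 := Cfsg.Lib.Coprime.card_sup_mul_card_inf (N := Q₀) (H := M) (htop.symm ▸ le_top)
  have h2 : Q₀ ⊓ M = ⊥ := le_bot_iff.1 ((le_inf inf_le_right (inf_le_left.trans hQN)).trans hMN.le)
  rw [hL, h2, card_top, card_bot, mul_one] at h1
  have h3 := Cfsg.Lib.Coprime.card_sup_of_inf_eq_bot (N := N) (H := M) le_normalizer_of_normal
    (by rw [inf_comm]; exact hMN)
  have h4 : Nat.card N ≤ Nat.card Q₀ := by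
    refine Nat.le_of_mul_le_mul_right ?_ (Nat.card_pos (α := M))
    rw [← h1, ← h3]; exact card_le_card_group _
  rw [hQ₀, card_map_of_injective N.subtype_injective] at h4
  obtain ⟨j, hj⟩ := Q.2.exists_card_eq
  have h5 := eq_top_of_card_eq (Q : Subgroup ↥N) (le_antisymm (card_le_card_group _) h4)
  rw [h5, card_top] at hj
  exact hqr ((Nat.prime_dvd_prime_iff_eq hr hq).1 (hr.dvd_of_dvd_pow (hj ▸ hrN))).symm

end Cfsg.Agent.S3749
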