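import Cfsg.Statements.S3750
import Mathlib
import Cfsg.Agent.Components.GenFitting
import Cfsg.Agent.Coprime.SolvableBasics

set_option autoImplicit false
open Cfsg

namespace Cfsg.Agent.S3750

open Subgroup

/-- Call a proper subgroup M of G primitive when M = N_G(N) for every non-trivial normal subgroup N of M. Let M be a primitive subgroup of the finite group G and N a normal subgroup of G with M ∩ F*(N) ≠ 1. Then F(G) = 1 and F*(N) = F*(G) = E(G); in particular every minimal normal subgroup of G is contained in N. -/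
theorem result {G : Type*} [Group G] [Finite G] (M : Subgroup G) (hM : M ≠ ⊤) (hprim : ∀ N : Subgroup G, N ≤ M → M ≤ Subgroup.normalizer (N : Set G) → N ≠ ⊥ → Subgroup.normalizer (N : Set G) = M) (N : Subgroup G) [N.Normal] (hMF : M ⊓ (Cfsg.generalizedFittingSubgroup ↥N).map N.subtype ≠ ⊥) : Cfsg.fittingSubgroup G = ⊥ ∧ (Cfsg.generalizedFittingSubgroup ↥N).map N.subtype = Cfsg.generalizedFittingSubgroup G ∧ Cfsg.generalizedFittingSubgroup G = Cfsg.layer G ∧ ∀ K : Subgroup G, K.Normal → K ≠ ⊥ → (∀ K' : Subgroup G, K'.Normal → K' ≤ K → K' = ⊥ ∨ K' = K) → K ≤ N := by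
  classical
  have hNsn : N.IsSubnormal := Subgroup.Normal.isSubnormal inferInstance
  set FN := (Cfsg.generalizedFittingSubgroup ↥N).map N.subtype with hFN
  haveI : FN.Normal := ConjAct.normal_of_characteristic_of_normal
  set A := M ⊓ FN
  have hMA : M ≤ normalizer (A : Set G) := by
    intro m hm
    refine Cfsg.Lib.Coprime.mem_normalizer_of_conj_mem (fun a ha => ?_) (fun a ha => ?_)
    · exact ⟨mul_mem (mul_mem hm ha.1) (M.inv_mem hm), (inferInstance : FN.Normal).conj_mem a ha.2 m⟩
    · refine ⟨mul_mem (mul_mem (M.inv_mem hm) ha.1) hm, ?_⟩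
      simpa using (inferInstance : FN.Normal).conj_mem a ha.2 m⁻¹
  have hNA : normalizer (A : Set G) = M := hprim A inf_le_left hMA hMF
  have key : ∀ K : Subgroup G, K.Normal → ⁅K, A⁆ = ⊥ → K = ⊥ := by
    intro K hK hc
    by_contra hne
    have hKM : K ≤ M := hNA ▸ (commutator_eq_bot_iff_le_centralizer.mp hc).trans (centralizer_le_normalizer _)
    refine hM (eq_top_iff.mpr ?_)
    rw [← hprim K hKM (by rw [normalizer_eq_top_iff.mpr hK]; exact le_top) hne, normalizer_eq_top_iff.mpr hK]
  have hFNN : FN ≤ N := map_subtype_le _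
  have hmin : ∀ K : Subgroup G, K.Normal → K ≠ ⊥ →
      (∀ K' : Subgroup G, K'.Normal → K' ≤ K → K' = ⊥ ∨ K' = K) → K ≤ N := by
    intro K hK hne hm
    rcases hm (K ⊓ N) inferInstance inf_le_left with h | h
    · refine absurd (key K hK (eq_bot_iff.mpr ?_)) hne
      exact (commutator_mono le_rfl (inf_le_right.trans hFNN)).trans ((commutator_le_inf K N).trans h.le)
    · exact h ▸ inf_le_right
  haveI : Group.IsNilpotent (fittingSubgroup G) := Cfsg.Lib.Components.isNilpotent_fitting
  set FF := (fittingSubgroup ↥N).map N.subtype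
  set EN := (layer ↥N).map N.subtype
  haveI : FF.Normal := ConjAct.normal_of_characteristic_of_normal
  haveI : Group.IsNilpotent FF :=
    Cfsg.Lib.Components.isNilpotent_map (Cfsg.Lib.Components.isNilpotent_fitting) _
  have hFNeq : FN = EN ⊔ FF := Subgroup.map_sup _ _ _
  have hF : fittingSubgroup G = ⊥ := by
    by_contra hne
    obtain ⟨V, ⟨hVn, hV0, hVF⟩, hVmin⟩ := WellFounded.has_min (wellFounded_lt (α := Subgroup G))
      {V | V.Normal ∧ V ≠ ⊥ ∧ V ≤ fittingSubgroup G} ⟨_, inferInstance, hne, le_rfl⟩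
    have hmV : ∀ K' : Subgroup G, K'.Normal → K' ≤ V → K' = ⊥ ∨ K' = V := fun K' hn hle => by
      rcases eq_or_ne K' ⊥ with h | h
      · exact Or.inl h
      · exact Or.inr (le_antisymm hle (not_lt_iff_le_imp_ge.mp (hVmin K' ⟨hn, h, hle.trans hVF⟩) hle))
    have hVN := hmin V hVn hV0 hmV
    have hVFF : V ≤ FF := by
      haveI : (V.subgroupOf N).Normal := inferInstance
      have h1 : V.subgroupOf N ≤ fittingSubgroup ↥N := Cfsg.Lib.Components.le_fitting
        (Group.nilpotent_of_mulEquiv (_h := Cfsg.Lib.Components.isNilpotent_of_le inferInstance hVF)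
          (subgroupOfEquivOfLe hVN).symm)
      rw [← map_subgroupOf_eq_of_le hVN]
      exact map_mono h1
    set Z := (center FF).map FF.subtype
    haveI : Z.Normal := ConjAct.normal_of_characteristic_of_normal
    have hVZ : V ⊓ Z ≠ ⊥ := by
      intro h
      haveI : (V.subgroupOf FF).Normal := inferInstance
      have h1 := Cfsg.Lib.Coprime.inf_center_ne_bot (N := V.subgroupOf FF) (fun e => hV0 (by
        rw [← map_subgroupOf_eq_of_le hVFF, e, Subgroup.map_bot]))
      refine h1 (Subgroup.map_injective FF.subtype_injective ?_)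
      rw [Subgroup.map_inf _ _ _ FF.subtype_injective, map_subgroupOf_eq_of_le hVFF, Subgroup.map_bot]
      exact h
    have hVZ' : V ≤ Z := (hmV (V ⊓ Z) inferInstance inf_le_left).resolve_left hVZ ▸ inf_le_right
    refine hV0 (key V hVn (eq_bot_iff.mpr ((commutator_mono hVZ' inf_le_right).trans ?_)))
    rw [hFNeq, le_bot_iff, commutator_comm, commutator_eq_bot_iff_le_centralizer, sup_le_iff]
    refine ⟨?_, ?_⟩
    · have h2 : ⁅EN, FF⁆ = ⊥ := by
        rw [← map_commutator, Cfsg.Lib.Components.layer_commute_fitting, Subgroup.map_bot]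
      exact (commutator_eq_bot_iff_le_centralizer.mp h2).trans (centralizer_le (map_subtype_le _))
    · intro f hf
      refine mem_centralizer_iff.mpr ?_
      rintro _ ⟨z, hz, rfl⟩
      exact (congrArg Subtype.val (mem_center_iff.mp hz (⟨f, hf⟩ : FF))).symm
  have hFF : FF = ⊥ := by
    rw [eq_bot_iff, ← hF]
    exact Cfsg.Lib.Components.le_fitting inferInstance
  have hlayer : EN = layer G := by
    refine le_antisymm ((Cfsg.Lib.Components.layer_map_subtype_le hNsn).trans inf_le_left) (sSup_le fun L hL => ?_)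
    by_cases hLN : L ≤ N
    · rw [← map_subgroupOf_eq_of_le hLN]
      exact map_mono (Cfsg.Lib.Components.comp_le_layer (Cfsg.Lib.Components.comp_subgroupOf hL hLN))
    · exfalso
      haveI : (centralizer (N : Set G)).Normal := Subgroup.normal_centralizer
      have h1 : L ≤ centralizer (N : Set G) :=
        commutator_eq_bot_iff_le_centralizer.mp (Cfsg.Lib.Components.comp_commute_of_not_le hL hNsn hLN)
      rw [key _ inferInstance (commutator_eq_bot_iff_le_centralizer.mpr
        (centralizer_le (SetLike.coe_subset_coe.mpr (inf_le_right.trans hFNN)))), le_bot_iff] at h1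
      exact Cfsg.Lib.Components.comp_ne_bot hL h1
  have hgen : generalizedFittingSubgroup G = layer G := by
    rw [generalizedFittingSubgroup, hF, sup_bot_eq]
  refine ⟨hF, ?_, hgen, hmin⟩
  rw [hFNeq, hFF, sup_bot_eq, hgen, hlayer]

end Cfsg.Agent.S3750
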