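import Cfsg.Statements.S3751
import Cfsg.Agent.Components.Cores
import Cfsg.Agent.Components.PComponents

set_option autoImplicit false
open Cfsg

namespace Cfsg.Agent.S3751

open Subgroup
open scoped commutatorElement

theorem normalizer_le_char {G : Type*} [Group G] (H : Subgroup G) (C : Subgroup ↥H) [C.Characteristic] :
    normalizer (H : Set G) ≤ normalizer ((C.map H.subtype : Subgroup G) : Set G) := by
  refine le_normalizer_iff.2 fun a ha => ?_
  rintro _ ⟨c, hc, rfl⟩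
  exact ⟨H.normalizerMonoidHom ⟨a, ha⟩ c, characteristic_iff_le_comap.1 inferInstance _ hc, rfl⟩

def Loc {G : Type*} [Group G] (p : ℕ) (M : Subgroup G) : Prop :=
  ∃ T : Subgroup G, IsPGroup p T ∧ T ≠ ⊥ ∧ M = normalizer (T : Set G)

def MaxLoc {G : Type*} [Group G] (p : ℕ) (M : Subgroup G) : Prop :=
  Loc p M ∧ ∀ L : Subgroup G, Loc p L → M ≤ L → L = M

def O {G : Type*} [Group G] (p : ℕ) (M : Subgroup G) : Subgroup G := (Cfsg.pCore p ↥M).map M.subtype

variable {G : Type*} [Group G] [Finite G] {p : ℕ} [hp : Fact p.Prime]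

theorem exists_max {L : Subgroup G} (h : Loc p L) : ∃ M, MaxLoc p M ∧ L ≤ M := by
  obtain ⟨M, hLM, hM⟩ := Finite.exists_le_maximal (p := fun W : Subgroup G => Loc p W) h
  exact ⟨M, ⟨hM.prop, fun W hW hMW => le_antisymm (hM.le_of_ge hW hMW) hMW⟩, hLM⟩

theorem O_isPGroup (M : Subgroup G) : IsPGroup p (O p M) := (Cfsg.Lib.Components.isPGroup_pCore p).map _

theorem O_le (M : Subgroup G) : O p M ≤ M := map_subtype_le _

theorem le_normalizer_O (M : Subgroup G) : M ≤ normalizer (O p M : Set G) :=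
  le_normalizer.trans (normalizer_le_char M _)

theorem le_O {M N : Subgroup G} (hNM : N ≤ M) (hn : M ≤ normalizer (N : Set G)) (hN : IsPGroup p N) : N ≤ O p M := by
  haveI : (N.subgroupOf M).Normal := normal_subgroupOf_of_le_normalizer hn
  have h : N.subgroupOf M ≤ Cfsg.pCore p ↥M := Cfsg.Lib.Components.le_pCore (hN.of_equiv (subgroupOfEquivOfLe hNM).symm)
  rw [O, ← inf_eq_left.2 hNM, ← subgroupOf_map_subtype]
  exact map_mono h

theorem O_ne_bot {M : Subgroup G} (h : Loc p M) : O p M ≠ ⊥ := by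
  obtain ⟨T, hT, hTne, rfl⟩ := h
  exact fun e => hTne (le_bot_iff.1 (e ▸ le_O le_normalizer le_rfl hT))

theorem normalizer_O {M : Subgroup G} (h : MaxLoc p M) : normalizer (O p M : Set G) = M :=
  h.2 _ ⟨O p M, O_isPGroup M, O_ne_bot h.1, rfl⟩ (le_normalizer_O M)

theorem normalizer_self {M : Subgroup G} (h : MaxLoc p M) : normalizer (M : Set G) = M :=
  le_antisymm ((normalizer_le_char M _).trans (normalizer_O h).le) le_normalizer

theorem conjLoc {M : Subgroup G} (h : MaxLoc p M) (x : G) : MaxLoc p (M.map (MulAut.conj x).toMonoidHom) := by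
  have key : ∀ (y : G) (L : Subgroup G), Loc p L → Loc p (L.map (MulAut.conj y).toMonoidHom) := by
    rintro y L ⟨T, hT, hTne, rfl⟩
    refine ⟨T.map (MulAut.conj y).toMonoidHom, hT.map _, ?_, ?_⟩
    · rw [Ne, map_eq_bot_iff_of_injective _ (MulEquiv.injective _)]; exact hTne
    · exact map_normalizer_eq_of_bijective T (MulEquiv.bijective (MulAut.conj y))
  refine ⟨key x M h.1, fun L hL hle => ?_⟩
  have hid : ∀ y : G, ∀ W : Subgroup G, (W.map (MulAut.conj y).toMonoidHom).map (MulAut.conj y⁻¹).toMonoidHom = W := by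
    intro y W
    rw [map_map]
    convert map_id W using 2
    ext u; simp [mul_assoc]
  have h1 := h.2 _ (key x⁻¹ L hL) (by rw [← hid x M]; exact map_mono hle)
  rw [← h1]
  have := hid x⁻¹ L
  rw [inv_inv] at this
  exact this.symm

theorem pair (hloc : Cfsg.IsOfLocalCharacteristic p G) {M₁ M₂ : Subgroup G} (h₁ : MaxLoc p M₁) (h₂ : MaxLoc p M₂)
    (hne : M₁ ≠ M₂) (h12 : O p M₁ ≤ M₂) (h21 : O p M₂ ≤ M₁) :
    ∃ M₁ M₂ : Subgroup G, M₁ ≠ M₂ ∧ (∀ A : Subgroup G, A ≠ ⊥ → A ≤ M₁ ⊓ M₂ → (M₁ ≤ Subgroup.normalizer (A : Set G) → M₂ ⊓ Subgroup.normalizer (A : Set G) = M₁ ⊓ M₂) ∧ (M₂ ≤ Subgroup.normalizer (A : Set G) → M₁ ⊓ Subgroup.normalizer (A : Set G) = M₁ ⊓ M₂)) ∧ Subgroup.centralizer (Cfsg.pCore p ↥M₁ : Set ↥M₁) ≤ Cfsg.pCore p ↥M₁ ∧ Subgroup.centralizer (Cfsg.pCore p ↥M₂ : Set ↥M₂) ≤ Cfsg.pCore p ↥M₂ ∧ (Cfsg.pCore p ↥M₁).map M₁.subtype ⊔ (Cfsg.pCore p ↥M₂).map M₂.subtype ≤ M₁ ⊓ M₂ := by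
  have hchar : ∀ M : Subgroup G, Loc p M → centralizer (Cfsg.pCore p ↥M : Set ↥M) ≤ Cfsg.pCore p ↥M := by
    rintro M ⟨T, hT, hTne, rfl⟩; exact hloc.2 T hT hTne
  have key : ∀ M : Subgroup G, MaxLoc p M → ∀ A : Subgroup G, A ≠ ⊥ → A ≤ M → M ≤ normalizer (A : Set G) →
      normalizer (A : Set G) = M := by
    intro M hM A hA hAM hn
    haveI hAn : (A.subgroupOf M).Normal := normal_subgroupOf_of_le_normalizer hn
    set Q := Cfsg.pCore p ↥M
    have hne : A.subgroupOf M ⊓ Q ≠ ⊥ := by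
      intro hbot
      haveI : Q.Normal := inferInstance
      have hc : A.subgroupOf M ≤ centralizer (Q : Set ↥M) := fun a ha q hq => by
        have h1 : ⁅q, a⁆ ∈ A.subgroupOf M ⊓ Q := ⟨by
          rw [commutatorElement_def]; exact Subgroup.mul_mem _ (hAn.conj_mem a ha q) (Subgroup.inv_mem _ ha), by
          rw [show ⁅q, a⁆ = q * (a * q⁻¹ * a⁻¹) by rw [commutatorElement_def]; group]
          exact Subgroup.mul_mem _ hq ((inferInstance : Q.Normal).conj_mem _ (Subgroup.inv_mem _ hq) a)⟩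
        rw [hbot, mem_bot, commutatorElement_eq_one_iff_mul_comm] at h1
        exact h1
      have hle : A.subgroupOf M ≤ A.subgroupOf M ⊓ Q := le_inf le_rfl (hc.trans (hchar M hM.1))
      rw [hbot, le_bot_iff, subgroupOf_eq_bot, disjoint_iff, inf_eq_left.2 hAM] at hle
      exact hA hle
    have hB : O p A ≠ ⊥ := by
      intro hb
      apply hne
      have h1 : (A.subgroupOf M ⊓ Q).map M.subtype ≤ O p A := by
        refine le_O ?_ ?_ (((Cfsg.Lib.Components.isPGroup_pCore p).to_le inf_le_right).map _)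
        · rintro _ ⟨u, hu, rfl⟩; exact hu.1
        · haveI : (A.subgroupOf M ⊓ Q).Normal := inferInstance
          refine le_normalizer_iff.2 fun a ha => ?_
          rintro _ ⟨u, hu, rfl⟩
          exact ⟨(⟨a, hAM ha⟩ : ↥M) * u * (⟨a, hAM ha⟩ : ↥M)⁻¹, (inferInstance : (A.subgroupOf M ⊓ Q).Normal).conj_mem u hu _, rfl⟩
      rw [hb, le_bot_iff, map_eq_bot_iff_of_injective _ M.subtype_injective] at h1
      exact h1
    have hle := normalizer_le_char A (Cfsg.pCore p ↥A)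
    have h2 := hM.2 (normalizer (O p A : Set G)) ⟨O p A, O_isPGroup A, hB, rfl⟩ (hn.trans hle)
    exact le_antisymm (hle.trans h2.le) hn
  refine ⟨M₁, M₂, hne, fun A hA hle => ⟨fun h => ?_, fun h => ?_⟩, hchar M₁ h₁.1, hchar M₂ h₂.1,
    sup_le (le_inf (O_le M₁) h12) (le_inf h21 (O_le M₂))⟩
  · rw [key M₁ h₁ A hA (hle.trans inf_le_left) h, inf_comm]
  · rw [key M₂ h₂ A hA (hle.trans inf_le_right) h]


/-- Two distinct subgroups M₁, M₂ of G form a primitive pair when, for {i, j} = {1, 2}, every non-trivial normal subgroup A of M_i contained in M₁ ∩ M₂ satisfies N_{M_j}(A) = M₁ ∩ M₂; the pair has characteristic p when moreover C_{M_i}(O_p(M_i)) ≤ O_p(M_i) for both i and O_p(M₁)O_p(M₂) ≤ M₁ ∩ M₂. Let G be a finite group, p a prime dividing its order, with O_p(G) = 1 and every p-local subgroup of characteristic p. Then either G has a primitive pair of characteristic p, or every maximal p-local subgroup M of G is strongly p-embedded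 in G: M is a proper subgroup, p divides its order, and for every g ∉ M the order of M ∩ gMg⁻¹ is prime to p. -/
theorem result {G : Type*} [Group G] [Finite G] {p : ℕ} [Fact p.Prime] (hloc : Cfsg.IsOfLocalCharacteristic p G) (hOp : Cfsg.pCore p G = ⊥) : (∃ M₁ M₂ : Subgroup G, M₁ ≠ M₂ ∧ (∀ A : Subgroup G, A ≠ ⊥ → A ≤ M₁ ⊓ M₂ → (M₁ ≤ Subgroup.normalizer (A : Set G) → M₂ ⊓ Subgroup.normalizer (A : Set G) = M₁ ⊓ M₂) ∧ (M₂ ≤ Subgroup.normalizer (A : Set G) → M₁ ⊓ Subgroup.normalizer (A : Set G) = M₁ ⊓ M₂)) ∧ Subgroup.centralizer (Cfsg.pCore p ↥M₁ : Set ↥M₁) ≤ Cfsg.pCore p ↥M₁ ∧ Subgroup.centralizer (Cfsg.pCore p ↥M₂ : Set ↥M₂) ≤ Cfsg.pCore p ↥M₂ ∧ (Cfsg.pCore p ↥M₁).map M₁.subtype ⊔ (Cfsg.pCore p ↥M₂).map M₂.subtype ≤ M₁ ⊓ M₂) ∨ (∀ M : Subgroup G, (∃ T : Subgroup G, IsPGroup p T ∧ T ≠ ⊥ ∧ M = Subgroup.normalizer (T : Set G)) → (∀ L : Subgroup G, (∃ T : Subgroup G, IsPGroup p T ∧ T ≠ ⊥ ∧ L = Subgroup.normalizer (T : Set G)) → M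 ≤ L → L = M) → M ≠ ⊤ ∧ p ∣ Nat.card M ∧ ∀ g : G, g ∉ M → ¬ p ∣ Nat.card ↥(M ⊓ M.map (MulAut.conj g).toMonoidHom)) := by
  classical
  rw [or_iff_not_imp_left]
  intro hno M hM hMmax
  have hMX : MaxLoc p M := ⟨hM, fun L hL h => hMmax L hL h⟩
  have hdis : ∀ A B : Subgroup G, MaxLoc p A → MaxLoc p B → A ≠ B → ¬ p ∣ Nat.card ↥(A ⊓ B) := by
    intro A B hA hB hAB hdvd
    obtain ⟨⟨x, hx⟩⟩ : Nonempty {x : ↥(A ⊓ B) // orderOf x = p} := by
      obtain ⟨x, hx⟩ := exists_prime_orderOf_dvd_card' p hdvd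
      exact ⟨⟨x, hx⟩⟩
    let S : Set (Subgroup G × Subgroup G × Subgroup G) :=
      {t | MaxLoc p t.1 ∧ MaxLoc p t.2.1 ∧ t.1 ≠ t.2.1 ∧ t.2.2 ≤ t.1 ⊓ t.2.1 ∧ IsPGroup p t.2.2 ∧ t.2.2 ≠ ⊥}
    have hne : S.Nonempty := by
      refine ⟨(A, B, Subgroup.zpowers (x : G)), hA, hB, hAB, Subgroup.zpowers_le.2 x.2, ?_, ?_⟩
      · exact IsPGroup.of_card (n := 1) (by rw [Nat.card_zpowers, Subgroup.orderOf_coe, hx, pow_one])
      · rw [Ne, Subgroup.zpowers_eq_bot]
        intro h1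
        rw [← Subgroup.orderOf_coe, h1, orderOf_one] at hx
        exact (Fact.out : p.Prime).one_lt.ne hx
    obtain ⟨⟨M₁, M₂, T⟩, ⟨h1, h2, h12, hT, hTp, hTne⟩, hmax⟩ :=
      Set.exists_max_image S (fun t => Nat.card t.2.2) (Set.toFinite _) hne
    obtain ⟨K, hK, hKT⟩ := exists_max (⟨T, hTp, hTne, rfl⟩ : Loc p (Subgroup.normalizer (T : Set G)))
    -- growing `T`
    have hgrow : ∀ X : Subgroup G, MaxLoc p X → T ≤ X → ∀ T' : Subgroup G, IsPGroup p T' → T < T' → T' ≤ X →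
        X = K ∧ ∃ x : G, x ∈ Subgroup.normalizer (T : Set G) ∧ x ∈ T' ∧ x ∉ T := by
      intro X hX hTX T' hT'p hlt hT'X
      haveI := hT'p.isNilpotent
      have hlt' : T.subgroupOf T' < ⊤ := by
        rw [lt_top_iff_ne_top, Ne, Subgroup.subgroupOf_eq_top]; exact hlt.not_ge
      obtain ⟨y, hy, hyn⟩ := SetLike.exists_of_lt (Group.normalizerCondition_of_isNilpotent _ hlt')
      have hyN : (y : G) ∈ Subgroup.normalizer (T : Set G) := by
        rw [Subgroup.mem_normalizer_iff] at hy ⊢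
        intro t
        constructor
        · intro ht
          exact (hy ⟨t, hlt.le ht⟩).1 ht
        · intro ht
          have h' : (y : G)⁻¹ * ((y : G) * t * (y : G)⁻¹) * y ∈ T' := mul_mem (mul_mem (inv_mem y.2) (hlt.le ht)) y.2
          rw [show (y : G)⁻¹ * ((y : G) * t * (y : G)⁻¹) * y = t by group] at h'
          exact (hy ⟨t, h'⟩).2 ht
      refine ⟨?_, y, hyN, y.2, hyn⟩
      by_contra hXK
      have h3 := hmax (X, K, T' ⊓ Subgroup.normalizer (T : Set G)) ⟨hX, hK, hXK,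
        le_inf (inf_le_left.trans hT'X) (inf_le_right.trans hKT), hT'p.to_le inf_le_left,
        fun e => hTne (le_bot_iff.1 (e ▸ le_inf hlt.le Subgroup.le_normalizer))⟩
      have h4 : T < T' ⊓ Subgroup.normalizer (T : Set G) :=
        lt_of_le_of_ne (le_inf hlt.le Subgroup.le_normalizer) fun e => hyn (show (y : G) ∈ T from e.symm ▸ ⟨y.2, hyN⟩)
      exact absurd (Subgroup.eq_of_le_of_card_ge h4.le h3) h4.ne
    -- a maximal `p`-subgroup contains the core
    have hOT : ∀ X : Subgroup G, T ≤ X → (∀ T' : Subgroup G, IsPGroup p T' → T ≤ T' → T' ≤ X → T' = T) → O p X ≤ T := by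
      intro X hTX hsat
      have := hsat (O p X ⊔ T) (IsPGroup.to_sup_of_normal_left' (O_isPGroup X) hTp (hTX.trans (le_normalizer_O X)))
        le_sup_right (sup_le (O_le X) hTX)
      exact le_sup_left.trans this.le
    have hone : ∀ X Y : Subgroup G, MaxLoc p X → MaxLoc p Y → X ≠ Y → T ≤ X → T ≤ Y →
        (∀ T' : Subgroup G, IsPGroup p T' → T ≤ T' → T' ≤ Y → T' = T) → False := by
      intro X Y hX hY hXY hTX hTY hsatY
      by_cases hsatX : ∀ T' : Subgroup G, IsPGroup p T' → T ≤ T' → T' ≤ X → T' = T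
      · exact hno (pair hloc hX hY hXY ((hOT X hTX hsatX).trans hTY) ((hOT Y hTY hsatY).trans hTX))
      push_neg at hsatX
      obtain ⟨T', hT'p, hle, hT'X, hne⟩ := hsatX
      obtain ⟨-, z, hzN, hzT', hzT⟩ := hgrow X hX hTX T' hT'p (lt_of_le_of_ne hle hne.symm) hT'X
      have hzY : z ∉ Y := fun hzY => by
        have := hsatY (T' ⊓ Y) (hT'p.to_le inf_le_left) (le_inf hle hTY) inf_le_right
        exact hzT (this.le ⟨hzT', hzY⟩)
      set Y' := Y.map (MulAut.conj z).toMonoidHom with hY'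
      have hTz : T.map (MulAut.conj z).toMonoidHom = T := Subgroup.mem_normalizer_iff_map_conj_eq.1 hzN
      have hTY' : T ≤ Y' := hTz ▸ Subgroup.map_mono hTY
      have hsatY' : ∀ U : Subgroup G, IsPGroup p U → T ≤ U → U ≤ Y' → U = T := by
        intro U hU hTU hUY
        have hT' : T ≤ U.comap (MulAut.conj z).toMonoidHom := by
          intro t ht
          show (MulAut.conj z).toMonoidHom t ∈ U
          exact hTU (hTz ▸ ⟨t, ht, rfl⟩)
        have h5 := hsatY (U.comap (MulAut.conj z).toMonoidHom) (hU.comap_of_injective _ (MulEquiv.injective _)) hT'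
          (fun u hu => by
            obtain ⟨v, hv, hvu⟩ := hUY hu
            exact (MulEquiv.injective _ hvu) ▸ hv)
        rw [← hTz, ← h5, Subgroup.map_comap_eq_self_of_surjective (MulEquiv.surjective _)]
      have hne' : Y ≠ Y' := fun e => hzY (by
        rw [← normalizer_self hY]
        exact Subgroup.mem_normalizer_iff_map_conj_eq.2 e.symm)
      exact hno (pair hloc hY (conjLoc hY z) hne' ((hOT Y hTY hsatY).trans hTY') ((hOT Y' hTY' hsatY').trans hTY))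
    by_cases hs1 : ∀ T' : Subgroup G, IsPGroup p T' → T ≤ T' → T' ≤ M₁ → T' = T
    · exact hone M₂ M₁ h2 h1 (Ne.symm h12) (hT.trans inf_le_right) (hT.trans inf_le_left) hs1
    by_cases hs2 : ∀ T' : Subgroup G, IsPGroup p T' → T ≤ T' → T' ≤ M₂ → T' = T
    · exact hone M₁ M₂ h1 h2 h12 (hT.trans inf_le_left) (hT.trans inf_le_right) hs2
    push_neg at hs1 hs2
    obtain ⟨T₁, hp1, hle1, hX1, hne1⟩ := hs1
    obtain ⟨T₂, hp2, hle2, hX2, hne2⟩ := hs2
    exact h12 (((hgrow M₁ h1 (hT.trans inf_le_left) T₁ hp1 (lt_of_le_of_ne hle1 hne1.symm) hX1).1).trans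
      ((hgrow M₂ h2 (hT.trans inf_le_right) T₂ hp2 (lt_of_le_of_ne hle2 hne2.symm) hX2).1).symm)
  obtain ⟨T, hT, hTne, hMT⟩ := hM
  refine ⟨fun htop => ?_, ?_, fun g hg => ?_⟩
  · haveI : T.Normal := Subgroup.normalizer_eq_top_iff.1 (hMT ▸ htop)
    exact hTne (le_bot_iff.1 (hOp ▸ Cfsg.Lib.Components.le_pCore hT))
  · have hTM : T ≤ M := hMT ▸ Subgroup.le_normalizer
    obtain ⟨n, hn0, hn⟩ := hT.nontrivial_iff_card.1 ((Subgroup.nontrivial_iff_ne_bot T).2 hTne)
    exact ((dvd_pow_self p (by omega : n ≠ 0)).trans hn.symm.dvd).trans (Subgroup.card_dvd_of_le hTM)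
  · refine hdis M _ hMX (conjLoc hMX g) fun e => hg ?_
    rw [← normalizer_self hMX]
    exact Subgroup.mem_normalizer_iff_map_conj_eq.2 e.symm

end Cfsg.Agent.S3751
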