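import Cfsg.Statements.S3752
import Cfsg.Agent.Components.GenFitting
import Cfsg.Agent.OddLocal.FittingHall
import Cfsg.Agent.OddLocal.SmallStructure
import Cfsg.Agent.Transfer.Basic

set_option autoImplicit false
open Cfsg

namespace Cfsg.Agent.S3752

open Subgroup
open scoped commutatorElement

universe u

variable {G : Type u} [Group G] [Finite G]

private theorem mem_normalizer_of_set {S : Set G} {g : G} (h : ∀ x ∈ S, g * x * g⁻¹ ∈ S) :
    g ∈ normalizer ((Subgroup.closure S : Subgroup G) : Set G) := by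
  have hle : (Subgroup.closure S).map (MulAut.conj g).toMonoidHom ≤ Subgroup.closure S := by
    rw [MonoidHom.map_closure, closure_le]
    rintro _ ⟨x, hx, rfl⟩
    exact subset_closure (h x hx)
  have heq := eq_of_le_of_card_ge hle (card_map_of_injective (MulAut.conj g).injective).ge
  rw [mem_normalizer_iff]
  intro x
  constructor
  · exact fun hx => heq.le ⟨x, hx, rfl⟩
  · intro hx
    obtain ⟨y, hy, hyx⟩ := heq.ge hx
    rwa [(MulAut.conj g).injective (hyx : MulAut.conj g y = MulAut.conj g x)] at hy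

/-- The properties used of the pair Fitting subgroup, `p`-core of one of the two groups. -/
private structure Core (p : ℕ) (M F P : Subgroup G) : Prop where
  le : F ≤ M
  normF : M ≤ normalizer (F : Set G)
  normP : M ≤ normalizer (P : Set G)
  PF : P ≤ F
  isP : IsPGroup p ↥P
  memP : ∀ x ∈ F, (∃ k, orderOf x = p ^ k) → x ∈ P
  comm : ∀ x ∈ F, ∀ y ∈ F, (orderOf x).Coprime (orderOf y) → Commute x y
  self : ∀ z ∈ M, (∀ f ∈ F, Commute z f) → z ∈ F

private theorem map_normalizer (M : Subgroup G) (K : Subgroup ↥M) [K.Normal] :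
    M ≤ normalizer ((K.map M.subtype : Subgroup G) : Set G) := by
  have h := le_normalizer_map (H := K) M.subtype
  rw [normalizer_eq_top, ← MonoidHom.range_eq_map, range_subtype] at h
  exact h

private theorem core_of {p : ℕ} [Fact p.Prime] (M : Subgroup G)
    (hc : centralizer (Cfsg.fittingSubgroup ↥M : Set ↥M) ≤ Cfsg.fittingSubgroup ↥M) :
    Core p M ((Cfsg.fittingSubgroup ↥M).map M.subtype) ((Cfsg.pCore p ↥M).map M.subtype) := by
  haveI hnil : Group.IsNilpotent ↥(Cfsg.fittingSubgroup ↥M) := Cfsg.Lib.Components.isNilpotent_fitting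
  refine ⟨map_subtype_le _, map_normalizer M _, map_normalizer M _, map_mono ?_,
    (Cfsg.Lib.Components.isPGroup_pCore p).map _, ?_, ?_, ?_⟩
  · exact Cfsg.Lib.Components.le_fitting ((Cfsg.Lib.Components.isPGroup_pCore p).isNilpotent)
  · rintro _ ⟨x, hx, rfl⟩ ⟨k, hk⟩
    exact mem_map_of_mem _ (Cfsg.Lib.OddP.mem_pCore_of_mem_fitting hx
      (show x ^ p ^ k = 1 by rw [← hk, coe_subtype, orderOf_coe, pow_orderOf_eq_one]))
  · rintro _ ⟨x, hx, rfl⟩ _ ⟨y, hy, rfl⟩ h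
    rw [coe_subtype, orderOf_coe, orderOf_coe, ← orderOf_mk x hx, ← orderOf_mk y hy] at h
    exact ((Cfsg.Lib.FittingHall.commute_coprime h).map (Cfsg.fittingSubgroup ↥M).subtype).map M.subtype
  · intro z hz h
    exact ⟨⟨z, hz⟩, hc (mem_centralizer_iff.2 fun f hf => Subtype.ext (h f ⟨f, hf, rfl⟩).eq.symm), rfl⟩

private theorem comm_pprime {p : ℕ} [Fact p.Prime] {N F P P₁ : Subgroup G} (hN : Core p N F P)
    (hp₁ : IsPGroup p ↥P₁) (hn : F ≤ normalizer (P₁ : Set G)) {u : G} (hu : u ∈ P₁) (huN : u ∈ N)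
    {x : G} (hx : x ∈ F) (hxc : (orderOf x).Coprime p) : Commute u x := by
  set w := u * x * u⁻¹ * x⁻¹ with hw
  have hwF : w ∈ F := mul_mem ((mem_normalizer_iff.1 (hN.normF huN) x).1 hx) (inv_mem hx)
  have hw1 : w ∈ P₁ := by
    rw [hw, show u * x * u⁻¹ * x⁻¹ = u * (x * u⁻¹ * x⁻¹) by group]
    exact mul_mem hu ((mem_normalizer_iff.1 (hn hx) _).1 (inv_mem hu))
  obtain ⟨k, hk⟩ := IsPGroup.iff_orderOf.1 hp₁ ⟨w, hw1⟩
  rw [orderOf_mk] at hk
  have hcop : (orderOf w).Coprime (orderOf x) := by rw [hk]; exact (Nat.Coprime.pow_right k hxc).symm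
  have hcw := hN.comm w hwF x hx hcop
  have h := hcw.orderOf_mul_eq_mul_orderOf_of_coprime hcop
  rw [show w * x = u * x * u⁻¹ by rw [hw]; group,
    show orderOf (u * x * u⁻¹) = orderOf x from (MulAut.conj u).orderOf_eq x] at h
  have h1 : orderOf w = 1 := by
    have := orderOf_pos x
    nlinarith
  rw [orderOf_eq_one_iff, hw, mul_inv_eq_one, mul_inv_eq_iff_eq_mul] at h1
  exact h1

private theorem key {p : ℕ} [hp : Fact p.Prime] {N F P P₁ : Subgroup G} (hN : Core p N F P)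
    (hp₁ : IsPGroup p ↥P₁) (hn : F ≤ normalizer (P₁ : Set G)) {u : G} (hu : u ∈ P₁) (huN : u ∈ N)
    {c : G} (hcN : c ∈ N) (hc : (orderOf c).Coprime p) (hcP : ∀ y ∈ P, Commute c y) : Commute u c := by
  set z := u * c * u⁻¹ * c⁻¹ with hz
  have hzF : ∀ f ∈ F, Commute z f := by
    intro f hf
    obtain ⟨a, b, ha, hb, rfl, hak, hbc⟩ := Cfsg.Lib.Transfer.exists_pPart p f
    have haF : a ∈ F := zpowers_le.2 hf ha
    have hbF : b ∈ F := zpowers_le.2 hf hb
    refine Commute.mul_right ?_ ?_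
    · have haP := hN.memP a haF hak
      have h1 : Commute c (u⁻¹ * a * u) := hcP _ (by
        have := (mem_normalizer_iff''.1 (hN.normP huN) a).1 haP
        simpa using this)
      have h2 : Commute c⁻¹ a := (hcP a haP).inv_left
      show u * c * u⁻¹ * c⁻¹ * a = a * (u * c * u⁻¹ * c⁻¹)
      calc u * c * u⁻¹ * c⁻¹ * a = u * c * u⁻¹ * (c⁻¹ * a) := by group
        _ = u * (c * (u⁻¹ * a * u)) * u⁻¹ * c⁻¹ := by rw [h2.eq]; group
        _ = _ := by rw [h1.eq]; group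
    · have hbn : c⁻¹ * b * c ∈ F := by
        have := (mem_normalizer_iff''.1 (hN.normF hcN) b).1 hbF
        simpa using this
      have h1 : Commute u (c⁻¹ * b * c) := comm_pprime hN hp₁ hn hu huN hbn (by
        rwa [show orderOf (c⁻¹ * b * c) = orderOf b by
          simpa using (MulAut.conj c⁻¹).orderOf_eq b])
      have h2 : Commute u b := comm_pprime hN hp₁ hn hu huN hbF hbc
      show u * c * u⁻¹ * c⁻¹ * b = b * (u * c * u⁻¹ * c⁻¹)
      calc u * c * u⁻¹ * c⁻¹ * b = u * c * (u⁻¹ * (c⁻¹ * b * c)) * c⁻¹ := by group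
        _ = u * c * ((c⁻¹ * b * c) * u⁻¹) * c⁻¹ := by rw [h1.inv_left.eq]
        _ = (u * b) * c * u⁻¹ * c⁻¹ := by group
        _ = _ := by rw [h2.eq]; group
  have hzN : z ∈ N := mul_mem (mul_mem (mul_mem huN hcN) (inv_mem huN)) (inv_mem hcN)
  have hz1 := hN.self z hzN hzF
  obtain ⟨a, b, ha, hb, hab, ⟨k, hk⟩, hbc⟩ := Cfsg.Lib.Transfer.exists_pPart p z
  obtain ⟨i, hi⟩ := ha
  obtain ⟨j, hj⟩ := hb
  have hbF : b ∈ F := hj ▸ zpow_mem hz1 j
  have haF : a ∈ F := hi ▸ zpow_mem hz1 i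
  -- the order of `b * c` is prime to `p`
  have hbz : ∀ f ∈ F, Commute b f := fun f hf => hj ▸ (hzF f hf).zpow_left j
  have hpow : ∀ n : ℕ, ∃ e : G, e ∈ F ∧ (orderOf e).Coprime p ∧ (b * c) ^ n = e * c ^ n := by
    intro n
    induction n with
    | zero => exact ⟨1, one_mem _, by simp, by simp⟩
    | succ n ih =>
      obtain ⟨e, he, hec, heq⟩ := ih
      have hm : c ^ n * b * (c ^ n)⁻¹ ∈ F := (mem_normalizer_iff.1 (hN.normF (pow_mem hcN n)) b).1 hbF
      have hcen : Commute (c ^ n * b * (c ^ n)⁻¹) e := by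
        have he' : (c ^ n)⁻¹ * e * c ^ n ∈ F := by
          have := (mem_normalizer_iff''.1 (hN.normF (pow_mem hcN n)) e).1 he
          simpa using this
        show c ^ n * b * (c ^ n)⁻¹ * e = e * (c ^ n * b * (c ^ n)⁻¹)
        calc c ^ n * b * (c ^ n)⁻¹ * e = c ^ n * (b * ((c ^ n)⁻¹ * e * c ^ n)) * (c ^ n)⁻¹ := by group
          _ = _ := by rw [(hbz _ he').eq]; group
      refine ⟨e * (c ^ n * b * (c ^ n)⁻¹), mul_mem he hm, ?_, ?_⟩
      · refine Nat.Coprime.coprime_dvd_left hcen.symm.orderOf_mul_dvd_mul_orderOf (Nat.Coprime.mul_left hec ?_)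
        rwa [show orderOf (c ^ n * b * (c ^ n)⁻¹) = orderOf b from (MulAut.conj (c ^ n)).orderOf_eq b]
      · rw [pow_succ, heq, pow_succ]; group
  obtain ⟨e, -, hec, heq⟩ := hpow (orderOf c)
  rw [pow_orderOf_eq_one, mul_one] at heq
  have hbc' : (orderOf (b * c)).Coprime p := by
    refine Nat.Coprime.coprime_dvd_left (orderOf_dvd_of_pow_eq_one (n := orderOf c * orderOf e) ?_) (Nat.Coprime.mul_left hc hec)
    rw [pow_mul, heq, pow_orderOf_eq_one]
  have hac : Commute a (b * c) := by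
    refine Commute.mul_right ((hbz a haF).symm) ?_
    exact (hcP a (hN.memP a haF ⟨k, hk⟩)).symm
  have hcop : (orderOf a).Coprime (orderOf (b * c)) := by rw [hk]; exact (Nat.Coprime.pow_right k hbc').symm
  have h := hac.orderOf_mul_eq_mul_orderOf_of_coprime hcop
  have huc : a * (b * c) = u * c * u⁻¹ := by rw [← mul_assoc, hab, hz]; group
  rw [huc, show orderOf (u * c * u⁻¹) = orderOf c from (MulAut.conj u).orderOf_eq c] at h
  have ha1 : a = 1 := by
    rw [← orderOf_eq_one_iff, ← Nat.dvd_one]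
    have hd : orderOf a ∣ orderOf c := Dvd.intro _ h.symm
    have hcd : (orderOf a).Coprime (orderOf c) := by rw [hk]; exact (Nat.Coprime.pow_right k hc).symm
    exact (hcd.eq_one_of_dvd hd) ▸ dvd_rfl
  rw [ha1, one_mul] at hab
  rw [hab] at hbF hbc
  have hub : Commute u z := comm_pprime hN hp₁ hn hu huN hbF hbc
  have hconj : ∀ n : ℕ, u ^ n * c * (u ^ n)⁻¹ = z ^ n * c := by
    intro n
    induction n with
    | zero => simp
    | succ n ih =>
      calc u ^ (n + 1) * c * (u ^ (n + 1))⁻¹ = u * (u ^ n * c * (u ^ n)⁻¹) * u⁻¹ := by rw [pow_succ']; group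
        _ = (u * z ^ n) * c * u⁻¹ := by rw [ih]; group
        _ = z ^ n * (u * c * u⁻¹ * c⁻¹) * c := by rw [(hub.pow_right n).eq]; group
        _ = z ^ (n + 1) * c := by rw [← hz, ← pow_succ]
  obtain ⟨l, hl⟩ := IsPGroup.iff_orderOf.1 hp₁ ⟨u, hu⟩
  rw [orderOf_mk] at hl
  have h1 := hconj (orderOf u)
  rw [pow_orderOf_eq_one, inv_one, one_mul, mul_one] at h1
  have h2 : orderOf z ∣ p ^ l := hl ▸ orderOf_dvd_of_pow_eq_one (mul_eq_right.1 h1.symm)
  have h3 : z = 1 := orderOf_eq_one_iff.1 ((Nat.Coprime.pow_right l hbc).eq_one_of_dvd h2)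
  have h4 := hz.symm.trans h3
  rw [mul_inv_eq_one, mul_inv_eq_iff_eq_mul] at h4
  exact h4

private theorem comp_le_layer (M N : Subgroup G)
    (h₁ : (Cfsg.generalizedFittingSubgroup ↥M).map M.subtype ≤ N)
    (h₂ : (Cfsg.generalizedFittingSubgroup ↥N).map N.subtype ≤ M) :
    (Cfsg.layer ↥M).map M.subtype ≤ (Cfsg.layer ↥N).map N.subtype := by
  rw [Cfsg.layer, sSup_eq_iSup, Subgroup.map_iSup]
  refine iSup_le fun L => ?_
  rw [Subgroup.map_iSup]
  refine iSup_le fun hL => ?_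
  set L' := L.map M.subtype with hL'
  have hLM : L' ≤ M := map_subtype_le _
  have hLN : L' ≤ N := (map_mono ((Cfsg.Lib.Components.comp_le_layer hL).trans Cfsg.Lib.Components.layer_le_genFitting)).trans h₁
  have hperf : ⁅L', L'⁆ = L' := by rw [hL', ← map_commutator, Cfsg.Lib.Components.comp_perfect hL]
  set H := (Cfsg.generalizedFittingSubgroup ↥N).map N.subtype with hH
  have hmem : L' ≤ H := by
    set D := M ⊓ N
    set D' := D.subgroupOf M
    have hle : L ≤ D' := fun x hx => mem_subgroupOf.2 ⟨x.2, hLN ⟨x, hx, rfl⟩⟩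
    set e := subgroupOfEquivOfLe (inf_le_left : D ≤ M)
    set K := (L.subgroupOf D').map e.toMonoidHom with hKdef
    have hK : Cfsg.IsComponent K := Cfsg.Lib.Components.comp_map_equiv (Cfsg.Lib.Components.comp_subgroupOf hL hle) e
    have hKmap : K.map D.subtype = L' := by
      have h := congrArg (Subgroup.map M.subtype) (map_subgroupOf_eq_of_le hle)
      rw [Subgroup.map_map] at h
      rw [hKdef, Subgroup.map_map, hL', ← h]
      rfl
    haveI : (H.subgroupOf D).Normal := normal_subgroupOf_of_le_normalizer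
      (inf_le_right.trans (map_normalizer N _))
    rcases Cfsg.Lib.Components.comp_le_or_commute hK (Subgroup.Normal.isSubnormal (inferInstance : (H.subgroupOf D).Normal)) with h | h
    · rw [← hKmap]
      exact (map_mono h).trans (by rw [subgroupOf_map_subtype]; exact inf_le_left)
    · intro x hx
      refine ⟨⟨x, hLN hx⟩, Cfsg.Lib.Components.centralizer_genFitting_le (mem_centralizer_iff.2 fun f hf => Subtype.ext ?_), rfl⟩
      obtain ⟨k, hk, rfl⟩ := hKmap.ge hx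
      have hfD : (f : G) ∈ D := ⟨h₂ ⟨f, hf, rfl⟩, f.2⟩
      have hfH : (⟨f, hfD⟩ : ↥D) ∈ H.subgroupOf D := mem_subgroupOf.2 ⟨f, hf, rfl⟩
      rw [commutator_eq_bot_iff_le_centralizer] at h
      have e := congrArg Subtype.val (mem_centralizer_iff.1 (h hk) _ hfH)
      exact e
  -- a perfect subgroup of `F*` lies in the layer
  set L'' := L'.subgroupOf N
  have hL''le : L'' ≤ Cfsg.generalizedFittingSubgroup ↥N := by
    intro x hx
    obtain ⟨y, hy, hyx⟩ := hmem hx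
    rwa [← Subtype.ext hyx]
  have hperf'' : ⁅L'', L''⁆ = L'' := by
    refine map_injective N.subtype_injective ?_
    rw [map_commutator, map_subgroupOf_eq_of_le hLN, hperf]
  set q := QuotientGroup.mk' (Cfsg.layer ↥N)
  have himg : L''.map q ≤ (Cfsg.fittingSubgroup ↥N).map q := by
    refine (map_mono hL''le).trans ?_
    rw [Cfsg.generalizedFittingSubgroup, Subgroup.map_sup,
      (Subgroup.map_eq_bot_iff _).2 (QuotientGroup.ker_mk' (Cfsg.layer ↥N)).ge, bot_sup_eq]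
  haveI : Group.IsNilpotent ↥((Cfsg.fittingSubgroup ↥N).map q) :=
    Cfsg.Lib.Components.isNilpotent_map Cfsg.Lib.Components.isNilpotent_fitting q
  haveI hnil : Group.IsNilpotent ↥(L''.map q) := Cfsg.Lib.Components.isNilpotent_of_le inferInstance himg
  have hbot : L''.map q = ⊥ := by
    haveI : Group.IsSolvable ↥(L''.map q) := inferInstance
    by_contra hne
    haveI : Nontrivial ↥(L''.map q) := (nontrivial_iff_ne_bot _).2 hne
    refine (Group.IsSolvable.commutator_lt_of_ne_bot (G := ↥(L''.map q)) (H := ⊤) top_ne_bot).ne ?_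
    refine map_injective (L''.map q).subtype_injective ?_
    rw [map_commutator, ← MonoidHom.range_eq_map, range_subtype, ← map_commutator, hperf'']
  rw [Subgroup.map_eq_bot_iff, QuotientGroup.ker_mk'] at hbot
  calc L' = L''.map N.subtype := (map_subgroupOf_eq_of_le hLN).symm
    _ ≤ _ := map_mono hbot

/-- Bender's Theorem on primitive pairs. Two distinct subgroups M₁, M₂ of G form a primitive pair when, for {i, j} = {1, 2}, every non-trivial normal subgroup A of M_i contained in M₁ ∩ M₂ satisfies N_{M_j}(A) = M₁ ∩ M₂; the pair has characteristic p when moreover C_{M_i}(O_p(M_i)) ≤ O_p(M_i) for both i and O_p(M₁)O_p(M₂) ≤ M₁ ∩ M₂. If (M₁, M₂) is a primitive pair of the finite group G with F*(M₁) ≤ M₂ and F*(M₂) ≤ M₁, then for some prime p the pair has characteristic p. -/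
theorem result {G : Type*} [Group G] [Finite G] (M₁ M₂ : Subgroup G) (hne : M₁ ≠ M₂) (hP : ∀ A : Subgroup G, A ≠ ⊥ → A ≤ M₁ ⊓ M₂ → (M₁ ≤ Subgroup.normalizer (A : Set G) → M₂ ⊓ Subgroup.normalizer (A : Set G) = M₁ ⊓ M₂) ∧ (M₂ ≤ Subgroup.normalizer (A : Set G) → M₁ ⊓ Subgroup.normalizer (A : Set G) = M₁ ⊓ M₂)) (h₁ : (Cfsg.generalizedFittingSubgroup ↥M₁).map M₁.subtype ≤ M₂) (h₂ : (Cfsg.generalizedFittingSubgroup ↥M₂).map M₂.subtype ≤ M₁) : ∃ p : ℕ, p.Prime ∧ Subgroup.centralizer (Cfsg.pCore p ↥M₁ : Set ↥M₁) ≤ Cfsg.pCore p ↥M₁ ∧ Subgroup.centralizer (Cfsg.pCore p ↥M₂ : Set ↥M₂) ≤ Cfsg.pCore p ↥M₂ ∧ (Cfsg.pCore p ↥M₁).map M₁.subtype ⊔ (Cfsg.pCore p ↥M₂).map M₂.subtype ≤ M₁ ⊓ M₂ := by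
  classical
  have hsub : ∀ (A : Subgroup G), A ≤ M₁ ⊓ M₂ → M₁ ≤ Subgroup.normalizer (A : Set G) → M₂ ≤ Subgroup.normalizer (A : Set G) → A = ⊥ := by
    intro A hA hn₁ hn₂
    by_contra hne'
    obtain ⟨h12, h21⟩ := hP A hne' hA
    have e1 := h12 hn₁
    have e2 := h21 hn₂
    rw [inf_eq_left.2 hn₂] at e1
    rw [inf_eq_left.2 hn₁] at e2
    exact hne (e2.trans e1.symm)
  have hE : (Cfsg.layer ↥M₁).map M₁.subtype = (Cfsg.layer ↥M₂).map M₂.subtype :=
    le_antisymm (comp_le_layer M₁ M₂ h₁ h₂) (comp_le_layer M₂ M₁ h₂ h₁)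
  have hEb : (Cfsg.layer ↥M₁).map M₁.subtype = ⊥ := by
    refine hsub _ (le_inf (Subgroup.map_subtype_le _) (hE ▸ Subgroup.map_subtype_le _)) (map_normalizer M₁ _) ?_
    rw [hE]; exact map_normalizer M₂ _
  have hEb₂ : (Cfsg.layer ↥M₂).map M₂.subtype = ⊥ := hE ▸ hEb
  rw [Subgroup.map_eq_bot_iff_of_injective _ M₁.subtype_injective] at hEb
  rw [Subgroup.map_eq_bot_iff_of_injective _ M₂.subtype_injective] at hEb₂
  have hc₁ := Cfsg.Lib.Components.centralizer_fitting_le_iff.2 hEb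
  have hc₂ := Cfsg.Lib.Components.centralizer_fitting_le_iff.2 hEb₂
  rw [Cfsg.generalizedFittingSubgroup, hEb, bot_sup_eq] at h₁
  rw [Cfsg.generalizedFittingSubgroup, hEb₂, bot_sup_eq] at h₂
  -- a prime of the Fitting subgroup
  have hF₁ : Cfsg.fittingSubgroup ↥M₁ ≠ ⊥ := by
    intro hb
    have hM₁ : M₁ = ⊥ := by
      refine (Subgroup.eq_bot_iff_forall _).2 fun x hx => ?_
      have := hc₁ (x := ⟨x, hx⟩) (by rw [hb]; exact Subgroup.mem_centralizer_iff.2 fun y hy => by rw [(Subgroup.mem_bot.1 hy), one_mul, mul_one])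
      rw [hb, Subgroup.mem_bot] at this
      exact congrArg Subtype.val this
    have hb₂ : Cfsg.fittingSubgroup ↥M₂ = ⊥ := by
      rw [hM₁, le_bot_iff, Subgroup.map_eq_bot_iff_of_injective _ M₂.subtype_injective] at h₂
      exact h₂
    refine hne (hM₁.trans ((Subgroup.eq_bot_iff_forall _).2 fun x hx => ?_).symm)
    have := hc₂ (x := ⟨x, hx⟩) (by rw [hb₂]; exact Subgroup.mem_centralizer_iff.2 fun y hy => by rw [(Subgroup.mem_bot.1 hy), one_mul, mul_one])
    rw [hb₂, Subgroup.mem_bot] at this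
    exact congrArg Subtype.val this
  obtain ⟨f, hf, hf1⟩ := (Subgroup.ne_bot_iff_exists_ne_one.1 hF₁ : ∃ a : ↥(Cfsg.fittingSubgroup ↥M₁), a ≠ 1) |> fun ⟨a, ha⟩ => (⟨(a : ↥M₁), a.2, fun e => ha (Subtype.ext e)⟩ : ∃ f : ↥M₁, f ∈ Cfsg.fittingSubgroup ↥M₁ ∧ f ≠ 1)
  obtain ⟨p, hp, hpd⟩ := Nat.exists_prime_and_dvd (mt orderOf_eq_one_iff.1 hf1)
  haveI : Fact p.Prime := ⟨hp⟩
  have C₁ := core_of (p := p) M₁ hc₁
  have C₂ := core_of (p := p) M₂ hc₂
  set P₁ := (Cfsg.pCore p ↥M₁).map M₁.subtype with hP₁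
  set P₂ := (Cfsg.pCore p ↥M₂).map M₂.subtype with hP₂
  set F₁ := (Cfsg.fittingSubgroup ↥M₁).map M₁.subtype
  set F₂ := (Cfsg.fittingSubgroup ↥M₂).map M₂.subtype
  have hF1D : F₁ ≤ M₁ ⊓ M₂ := le_inf C₁.le h₁
  have hF2D : F₂ ≤ M₁ ⊓ M₂ := le_inf h₂ C₂.le
  have hn₂₁ : F₂ ≤ Subgroup.normalizer (P₁ : Set G) := (hF2D.trans inf_le_left).trans C₁.normP
  have hn₁₂ : F₁ ≤ Subgroup.normalizer (P₂ : Set G) := (hF1D.trans inf_le_right).trans C₂.normP
  have hP₁ne : P₁ ≠ ⊥ := by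
    intro hb
    set t := ((f : G) ^ (orderOf (f : G) / p)) with ht
    have hpd' : p ∣ orderOf (f : G) := by rwa [Subgroup.orderOf_coe]
    have hto : orderOf t = p := by
      rw [ht, orderOf_pow_of_dvd (Nat.div_pos (Nat.le_of_dvd (orderOf_pos _) hpd') hp.pos).ne' (Nat.div_dvd_of_dvd hpd'),
        Nat.div_div_self hpd' (orderOf_pos _).ne']
    have := C₁.memP t (pow_mem (Subgroup.mem_map_of_mem _ hf : (f : G) ∈ F₁) _) ⟨1, by rw [hto, pow_one]⟩
    rw [hb, Subgroup.mem_bot] at this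
    rw [this, orderOf_one] at hto
    exact hp.ne_one hto.symm
  have hP₂ne : P₂ ≠ ⊥ := by
    intro hb
    refine hP₁ne ((Subgroup.eq_bot_iff_forall _).2 fun x hx => ?_)
    have hxN : x ∈ M₂ := (hF1D (C₁.PF hx)).2
    have hxF : x ∈ F₂ := C₂.self x hxN fun y hy => by
      obtain ⟨a, b, ha, hb', rfl, hak, hbc⟩ := Cfsg.Lib.Transfer.exists_pPart p y
      have := C₂.memP a (Subgroup.zpowers_le.2 hy ha) hak
      rw [hb, Subgroup.mem_bot] at this
      rw [this, one_mul]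
      exact comm_pprime C₂ C₁.isP hn₂₁ hx hxN (Subgroup.zpowers_le.2 hy hb') hbc
    obtain ⟨k, hk⟩ := IsPGroup.iff_orderOf.1 C₁.isP ⟨x, hx⟩
    rw [Subgroup.orderOf_mk] at hk
    have := C₂.memP x hxF ⟨k, hk⟩
    rwa [hb, Subgroup.mem_bot] at this
  -- the elements of order prime to `p` centralizing a core
  let S : Set G := {c | c ∈ M₁ ∧ (orderOf c).Coprime p ∧ ∀ y ∈ P₁, Commute c y}
  have hA₁ : ∀ c ∈ M₂, (orderOf c).Coprime p → (∀ y ∈ P₂, Commute c y) → c ∈ S := by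
    intro c hc hcp hcP
    have hcomm : ∀ y ∈ P₁, Commute c y := fun y hy =>
      (key C₂ C₁.isP hn₂₁ hy (hF1D (C₁.PF hy)).2 hc hcp hcP).symm
    have hnor : c ∈ Subgroup.normalizer (P₁ : Set G) :=
      Subgroup.centralizer_le_normalizer _ (Subgroup.mem_centralizer_iff.2 fun y hy => (hcomm y hy).eq.symm)
    exact ⟨((((hP P₁ hP₁ne (C₁.PF.trans hF1D)).1 C₁.normP).le ⟨hc, hnor⟩)).1, hcp, hcomm⟩
  have hA₂ : ∀ c ∈ S, c ∈ M₂ ∧ ∀ y ∈ P₂, Commute c y := by
    rintro c ⟨hc, hcp, hcP⟩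
    have hcomm : ∀ y ∈ P₂, Commute c y := fun y hy =>
      (key C₁ C₂.isP hn₁₂ hy (hF2D (C₂.PF hy)).1 hc hcp hcP).symm
    have hnor : c ∈ Subgroup.normalizer (P₂ : Set G) :=
      Subgroup.centralizer_le_normalizer _ (Subgroup.mem_centralizer_iff.2 fun y hy => (hcomm y hy).eq.symm)
    exact ⟨((((hP P₂ hP₂ne (C₂.PF.trans hF2D)).2 C₂.normP).le ⟨hc, hnor⟩)).2, hcomm⟩
  have hB : Subgroup.closure S = ⊥ := by
    refine hsub _ ((Subgroup.closure_le _).2 fun c hc => ⟨hc.1, (hA₂ c hc).1⟩) (fun g hg => mem_normalizer_of_set ?_)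
      (fun g hg => mem_normalizer_of_set ?_)
    · rintro c ⟨hc, hcp, hcP⟩
      refine ⟨mul_mem (mul_mem hg hc) (inv_mem hg), ?_, fun y hy => ?_⟩
      · rwa [show orderOf (g * c * g⁻¹) = orderOf c from (MulAut.conj g).orderOf_eq c]
      · have h := (hcP (g⁻¹ * y * g) (by simpa using (Subgroup.mem_normalizer_iff''.1 (C₁.normP hg) y).1 hy)).map (MulAut.conj g).toMonoidHom
        simpa [mul_assoc] using h
    · intro c hc
      obtain ⟨hc₂, hcP⟩ := hA₂ c hc
      refine hA₁ _ (mul_mem (mul_mem hg hc₂) (inv_mem hg)) ?_ fun y hy => ?_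
      · rw [show orderOf (g * c * g⁻¹) = orderOf c from (MulAut.conj g).orderOf_eq c]
        exact hc.2.1
      · have h := (hcP (g⁻¹ * y * g) (by simpa using (Subgroup.mem_normalizer_iff''.1 (C₂.normP hg) y).1 hy)).map (MulAut.conj g).toMonoidHom
        simpa [mul_assoc] using h
  rw [Subgroup.closure_eq_bot_iff] at hB
  have hfin : ∀ (M : Subgroup G), (∀ c ∈ M, (orderOf c).Coprime p →
      (∀ y ∈ (Cfsg.pCore p ↥M).map M.subtype, Commute c y) → c = 1) →
      Subgroup.centralizer (Cfsg.pCore p ↥M : Set ↥M) ≤ Cfsg.pCore p ↥M := by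
    intro M hM
    refine Cfsg.Lib.Components.le_pCore (IsPGroup.iff_orderOf.2 fun x => ?_)
    obtain ⟨a, b, ha, hb', hab, hak, hbc⟩ := Cfsg.Lib.Transfer.exists_pPart p (x : ↥M)
    have hb1 : b = 1 := Subtype.ext (hM b b.2 (by rwa [Subgroup.orderOf_coe]) (by
      rintro _ ⟨y, hy, rfl⟩
      exact (Commute.map (x := b) (y := y) (Subgroup.mem_centralizer_iff.1 (Subgroup.zpowers_le.2 x.2 hb') y hy).symm M.subtype)))
    rw [hb1, mul_one] at hab
    obtain ⟨k, hk⟩ := hak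
    exact ⟨k, by rw [← Subgroup.orderOf_coe, ← hab, hk]⟩
  refine ⟨p, hp, hfin M₁ fun c hc hcp hcP => ?_, hfin M₂ fun c hc hcp hcP => ?_,
    sup_le (C₁.PF.trans hF1D) (C₂.PF.trans hF2D)⟩
  · exact hB (show c ∈ S from ⟨hc, hcp, hcP⟩)
  · exact hB (hA₁ c hc hcp hcP)

end Cfsg.Agent.S3752
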