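import Cfsg.Statements.S3753
import Cfsg.Agent.SolvStruct.KInfCore
import Cfsg.Agent.S2004

set_option autoImplicit false
open Cfsg

namespace Cfsg.Agent.S3753

open Subgroup

universe u

private theorem twoGroup_comm {X : Type u} [Group X] [Finite X] (h : ∀ S : Sylow 2 X, IsMulCommutative ↥(S : Subgroup X))
    (T : Subgroup X) (hT : IsPGroup 2 T) : IsMulCommutative ↥T := by
  obtain ⟨S, hS⟩ := hT.exists_le_sylow
  haveI := h S
  refine ⟨⟨fun a b => Subtype.ext ?_⟩⟩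
  have e := congrArg Subtype.val (mul_comm' (⟨a, hS a.2⟩ : ↥(S : Subgroup X)) ⟨b, hS b.2⟩)
  exact e

private theorem no_sl2 {p : ℕ} [Fact p.Prime] (hp : p ≠ 2) {X : Type u} [Group X] [Finite X]
    (h : ∀ S : Sylow 2 X, IsMulCommutative ↥(S : Subgroup X)) (H : Subgroup X) :
    ¬ Cfsg.Involves (Matrix.SpecialLinearGroup (Fin 2) (ZMod p)) ↥H := by
  rintro ⟨K, R, hn, ⟨e⟩⟩
  haveI := hn
  haveI : Fact (Nat.Prime 2) := ⟨Nat.prime_two⟩
  let q : ↥K →* Matrix.SpecialLinearGroup (Fin 2) (ZMod p) := e.toMonoidHom.comp (QuotientGroup.mk' (R.subgroupOf K))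
  have hq : Function.Surjective q := e.surjective.comp (QuotientGroup.mk'_surjective _)
  obtain ⟨a, b, hab⟩ := ZMod.sq_add_sq p (-1)
  let i : Matrix.SpecialLinearGroup (Fin 2) (ZMod p) := ⟨!![0, 1; -1, 0], by rw [Matrix.det_fin_two]; simp⟩
  let j : Matrix.SpecialLinearGroup (Fin 2) (ZMod p) := ⟨!![a, b; b, -a], by
    rw [Matrix.det_fin_two]; simp; linear_combination -hab⟩
  have ci : ((i : Matrix.SpecialLinearGroup (Fin 2) (ZMod p)) : Matrix (Fin 2) (Fin 2) (ZMod p)) = !![0, 1; -1, 0] := rfl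
  have cj : ((j : Matrix.SpecialLinearGroup (Fin 2) (ZMod p)) : Matrix (Fin 2) (Fin 2) (ZMod p)) = !![a, b; b, -a] := rfl
  have hi2 : ((i * i : Matrix.SpecialLinearGroup (Fin 2) (ZMod p)) : Matrix (Fin 2) (Fin 2) (ZMod p)) = -1 := by
    rw [Matrix.SpecialLinearGroup.coe_mul, ci]
    ext r s; fin_cases r <;> fin_cases s <;> simp [Matrix.mul_apply, Fin.sum_univ_two]
  have hj2 : ((j * j : Matrix.SpecialLinearGroup (Fin 2) (ZMod p)) : Matrix (Fin 2) (Fin 2) (ZMod p)) = -1 := by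
    rw [Matrix.SpecialLinearGroup.coe_mul, cj]
    ext r s
    fin_cases r <;> fin_cases s <;> simp [Matrix.mul_apply, Fin.sum_univ_two] <;> first | linear_combination hab | ring
  have h4 : ∀ x : Matrix.SpecialLinearGroup (Fin 2) (ZMod p),
      ((x * x : Matrix.SpecialLinearGroup (Fin 2) (ZMod p)) : Matrix (Fin 2) (Fin 2) (ZMod p)) = -1 → x ^ 4 = 1 := by
    intro x hx
    rw [pow_succ, pow_succ, pow_succ, pow_one, mul_assoc]
    apply Subtype.ext
    rw [Matrix.SpecialLinearGroup.coe_mul, hx]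
    simp
  have hi : i ^ 4 = 1 := h4 i hi2
  have hj : j ^ 4 = 1 := h4 j hj2
  have hnorm : zpowers j ≤ normalizer ((zpowers i : Subgroup _) : Set _) := by
    rw [zpowers_le, ← Cfsg.Lib.Transfer.map_conj_eq_self_iff, MonoidHom.map_zpowers]
    have : (MulAut.conj j).toMonoidHom i = i⁻¹ := by
      show j * i * j⁻¹ = i⁻¹
      rw [mul_inv_eq_iff_eq_mul, eq_inv_mul_iff_mul_eq]
      apply Subtype.ext
      simp only [Matrix.SpecialLinearGroup.coe_mul, ci, cj]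
      ext r s
      fin_cases r <;> fin_cases s <;> simp [Matrix.mul_apply, Fin.sum_univ_two]
    rw [this, zpowers_inv]
  have hpg : ∀ x : Matrix.SpecialLinearGroup (Fin 2) (ZMod p), x ^ 4 = 1 → IsPGroup 2 ↥(zpowers x) := by
    rintro x hx ⟨y, hy⟩
    obtain ⟨m, rfl⟩ := mem_zpowers_iff.1 hy
    refine ⟨2, Subtype.ext ?_⟩
    show (x ^ m) ^ 2 ^ 2 = 1
    rw [← zpow_natCast, ← zpow_mul, mul_comm, zpow_mul, show ((2 ^ 2 : ℕ) : ℤ) = ((4 : ℕ) : ℤ) by norm_num, zpow_natCast, hx, one_zpow]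
  have hT : IsPGroup 2 ↥(zpowers j ⊔ zpowers i) := IsPGroup.to_sup_of_normal_right' (hpg j hj) (hpg i hi) hnorm
  obtain ⟨Q, hQ⟩ := hT.exists_le_sylow
  obtain ⟨S, hS⟩ := Sylow.mapSurjective_surjective hq 2 Q
  have hSQ : ((S : Subgroup ↥K).map q) = Q := by rw [← Sylow.coe_mapSurjective hq, hS]
  obtain ⟨x, hx, hxi⟩ := hSQ.ge (hQ (mem_sup_right (mem_zpowers i)))
  obtain ⟨y, hy, hyj⟩ := hSQ.ge (hQ (mem_sup_left (mem_zpowers j)))
  have hcomm := (twoGroup_comm h _ ((S.2.map K.subtype).map H.subtype)).is_comm.comm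
    ⟨_, mem_map_of_mem _ (mem_map_of_mem _ hx)⟩ ⟨_, mem_map_of_mem _ (mem_map_of_mem _ hy)⟩
  have hxy : x * y = y * x := Subtype.ext (Subtype.ext (congrArg Subtype.val hcomm :))
  have hij : i * j = j * i := by rw [← hxi, ← hyj, ← map_mul, hxy, map_mul]
  have e00 := congrArg (fun M : Matrix.SpecialLinearGroup (Fin 2) (ZMod p) => (M : Matrix (Fin 2) (Fin 2) (ZMod p)) 0 0) hij
  have e01 := congrArg (fun M : Matrix.SpecialLinearGroup (Fin 2) (ZMod p) => (M : Matrix (Fin 2) (Fin 2) (ZMod p)) 0 1) hij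
  simp [Matrix.SpecialLinearGroup.coe_mul, ci, cj, Matrix.mul_apply, Fin.sum_univ_two] at e00 e01
  have h2 : (2 : ZMod p) ≠ 0 := fun h0 => hp ((Nat.prime_dvd_prime_iff_eq Fact.out Nat.prime_two).1
    ((ZMod.natCast_eq_zero_iff 2 p).1 (by exact_mod_cast h0)))
  have hb : b = 0 := (mul_eq_zero.1 (show (2 : ZMod p) * b = 0 by linear_combination e00)).resolve_left h2
  have ha : a = 0 := (mul_eq_zero.1 (show (2 : ZMod p) * a = 0 by linear_combination -e01)).resolve_left h2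
  rw [ha, hb] at hab
  simp at hab

private theorem core_eq {p : ℕ} [Fact p.Prime] (hp : p ≠ 2) {G : Type u} [Group G] [Finite G] (M : Subgroup G)
    (h : ∀ S : Sylow 2 ↥M, IsMulCommutative ↥(S : Subgroup ↥M))
    (hc : centralizer (Cfsg.pCore p ↥M : Set ↥M) ≤ Cfsg.pCore p ↥M) (S : Subgroup G) (hS : IsPGroup p S)
    (hSM : S ≤ M) (hPS : (Cfsg.pCore p ↥M).map M.subtype ≤ S) :
    Cfsg.inducedFunctor Cfsg.kInfLower S = Cfsg.inducedFunctor Cfsg.kInfLower ((Cfsg.pCore p ↥M).map M.subtype) := by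
  have hst : ∀ (N : Subgroup ↥M) [N.Normal], Cfsg.IsNormalizerPStable p (↥M ⧸ N) := by
    intro N _
    have hs := Cfsg.Agent.S2004.result hp (fun P _ _ => no_sl2 hp h (normalizer (P : Set ↥M))) ⊤ N
    let f : (↥M ⧸ N) →* (↥(⊤ : Subgroup ↥M) ⧸ N.subgroupOf ⊤) :=
      QuotientGroup.map N (N.subgroupOf ⊤) ((topEquiv : ↥(⊤ : Subgroup ↥M) ≃* ↥M).symm.toMonoidHom)
        (fun x (hx : x ∈ N) => mem_subgroupOf.2 hx)
    refine Cfsg.Lib.KInf.normalizerPStable_of_injective f ?_ hs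
    rw [← MonoidHom.ker_eq_bot_iff, eq_bot_iff]
    intro x hx
    obtain ⟨x, rfl⟩ := QuotientGroup.mk'_surjective N x
    rw [MonoidHom.mem_ker] at hx
    have hx' : (topEquiv.symm x : ↥(⊤ : Subgroup ↥M)) ∈ N.subgroupOf ⊤ := (QuotientGroup.eq_one_iff _).1 hx
    exact mem_bot.2 ((QuotientGroup.eq_one_iff x).2 (mem_subgroupOf.1 hx'))
  have hmap : (S.subgroupOf M).map M.subtype = S := map_subgroupOf_eq_of_le hSM
  have h1 := Cfsg.Lib.KInfCore.kInf_eq_core hst hc (S.subgroupOf M) (hS.comap_of_injective M.subtype M.subtype_injective)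
    (fun x hx => mem_subgroupOf.2 (hPS (mem_map_of_mem _ hx)))
  have h2 := congrArg (Subgroup.map M.subtype) h1
  have hW := Cfsg.Lib.KInf.isCharPFunctor_lower.{u} (p := p)
  have hS' : IsPGroup p ↥(S.subgroupOf M) := hS.comap_of_injective M.subtype M.subtype_injective
  rw [Cfsg.Lib.Functor.map_induced hW hS' M.subtype_injective.injOn,
    Cfsg.Lib.Functor.map_induced hW (Cfsg.Lib.Components.isPGroup_pCore p) M.subtype_injective.injOn, hmap] at h2
  exact h2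

/-- Two distinct subgroups M₁, M₂ of G form a primitive pair when, for {i, j} = {1, 2}, every non-trivial normal subgroup A of M_i contained in M₁ ∩ M₂ satisfies N_{M_j}(A) = M₁ ∩ M₂; the pair has characteristic p when moreover C_{M_i}(O_p(M_i)) ≤ O_p(M_i) for both i and O_p(M₁)O_p(M₂) ≤ M₁ ∩ M₂. If the finite group G has a primitive pair (M₁, M₂) of characteristic p for some prime p, then M₁ or M₂ has non-abelian Sylow 2-subgroups. In particular no group of odd order has a primitive pair of characteristic p. -/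
theorem result {G : Type*} [Group G] [Finite G] {p : ℕ} [Fact p.Prime] (M₁ M₂ : Subgroup G) (hne : M₁ ≠ M₂) (hP : ∀ A : Subgroup G, A ≠ ⊥ → A ≤ M₁ ⊓ M₂ → (M₁ ≤ Subgroup.normalizer (A : Set G) → M₂ ⊓ Subgroup.normalizer (A : Set G) = M₁ ⊓ M₂) ∧ (M₂ ≤ Subgroup.normalizer (A : Set G) → M₁ ⊓ Subgroup.normalizer (A : Set G) = M₁ ⊓ M₂)) (hc₁ : Subgroup.centralizer (Cfsg.pCore p ↥M₁ : Set ↥M₁) ≤ Cfsg.pCore p ↥M₁) (hc₂ : Subgroup.centralizer (Cfsg.pCore p ↥M₂ : Set ↥M₂) ≤ Cfsg.pCore p ↥M₂) (hO : (Cfsg.pCore p ↥M₁).map M₁.subtype ⊔ (Cfsg.pCore p ↥M₂).map M₂.subtype ≤ M₁ ⊓ M₂) : (∃ S : Sylow 2 ↥M₁, ¬ IsMulCommutative (S : Subgroup ↥M₁)) ∨ (∃ S : Sylow 2 ↥M₂, ¬ IsMulCommutative (S : Subgroup ↥M₂)) := by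
  classical
  by_contra hcon
  push Not at hcon
  obtain ⟨hab₁, hab₂⟩ := hcon
  have hnorm : ∀ (M : Subgroup G), M ≤ Subgroup.normalizer (((Cfsg.pCore p ↥M).map M.subtype : Subgroup G) : Set G) := by
    intro M
    have h := Subgroup.le_normalizer_map (H := Cfsg.pCore p ↥M) M.subtype
    rw [Subgroup.normalizer_eq_top, ← MonoidHom.range_eq_map, Subgroup.range_subtype] at h
    exact h
  set P₁ := (Cfsg.pCore p ↥M₁).map M₁.subtype with hP₁
  set P₂ := (Cfsg.pCore p ↥M₂).map M₂.subtype with hP₂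
  have hP₁D : P₁ ≤ M₁ ⊓ M₂ := le_sup_left.trans hO
  have hP₂D : P₂ ≤ M₁ ⊓ M₂ := le_sup_right.trans hO
  have hp₁ : IsPGroup p ↥P₁ := (Cfsg.Lib.Components.isPGroup_pCore p).map _
  have hp₂ : IsPGroup p ↥P₂ := (Cfsg.Lib.Components.isPGroup_pCore p).map _
  have hsub : ∀ (A : Subgroup G), A ≤ M₁ ⊓ M₂ → M₁ ≤ Subgroup.normalizer (A : Set G) → M₂ ≤ Subgroup.normalizer (A : Set G) → A = ⊥ := by
    intro A hA hn₁ hn₂
    by_contra hne'
    obtain ⟨h12, h21⟩ := hP A hne' hA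
    have e1 := h12 hn₁
    have e2 := h21 hn₂
    rw [inf_eq_left.2 hn₂] at e1
    rw [inf_eq_left.2 hn₁] at e2
    exact hne (e2.trans e1.symm)
  have hbot : ∀ (M : Subgroup G), Subgroup.centralizer (Cfsg.pCore p ↥M : Set ↥M) ≤ Cfsg.pCore p ↥M →
      (Cfsg.pCore p ↥M).map M.subtype = ⊥ → M = ⊥ := by
    intro M hc hb
    rw [Subgroup.map_eq_bot_iff_of_injective _ M.subtype_injective] at hb
    refine (Subgroup.eq_bot_iff_forall _).2 fun x hx => ?_
    have := hc (x := ⟨x, hx⟩) (by rw [hb]; exact Subgroup.mem_centralizer_iff.2 fun y hy => by rw [Subgroup.mem_bot.1 hy, one_mul, mul_one])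
    rw [hb, Subgroup.mem_bot] at this
    exact congrArg Subtype.val this
  have hne₁ : P₁ ⊔ P₂ ≠ ⊥ := by
    intro hb
    rw [sup_eq_bot_iff] at hb
    exact hne ((hbot M₁ hc₁ hb.1).trans (hbot M₂ hc₂ hb.2).symm)
  by_cases h2 : p = 2
  · subst h2
    have key : ∀ (M : Subgroup G), (∀ S : Sylow 2 ↥M, IsMulCommutative ↥(S : Subgroup ↥M)) →
        Subgroup.centralizer (Cfsg.pCore 2 ↥M : Set ↥M) ≤ Cfsg.pCore 2 ↥M → ∀ T : Subgroup G, T ≤ M → IsPGroup 2 T →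
        T ≤ (Cfsg.pCore 2 ↥M).map M.subtype := by
      intro M hab hc T hTM hT
      have hT' : IsPGroup 2 ↥(T.subgroupOf M) := hT.comap_of_injective M.subtype M.subtype_injective
      have hsup : IsPGroup 2 ↥(T.subgroupOf M ⊔ Cfsg.pCore 2 ↥M) :=
        IsPGroup.to_sup_of_normal_right' hT' (Cfsg.Lib.Components.isPGroup_pCore 2)
          (by rw [Subgroup.normalizer_eq_top]; exact le_top)
      haveI := twoGroup_comm hab _ hsup
      intro x hx
      refine ⟨⟨x, hTM hx⟩, hc (Subgroup.mem_centralizer_iff.2 fun y hy => ?_), rfl⟩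
      have e := congrArg Subtype.val (mul_comm' (⟨y, Subgroup.mem_sup_right hy⟩ : ↥(T.subgroupOf M ⊔ Cfsg.pCore 2 ↥M))
        ⟨⟨x, hTM hx⟩, Subgroup.mem_sup_left (Subgroup.mem_subgroupOf.2 hx)⟩)
      exact e
    have he : P₁ = P₂ := le_antisymm (key M₂ hab₂ hc₂ P₁ (hP₁D.trans inf_le_right) hp₁)
      (key M₁ hab₁ hc₁ P₂ (hP₂D.trans inf_le_left) hp₂)
    have := hsub P₁ hP₁D (hnorm M₁) (he ▸ hnorm M₂)
    exact hne₁ (by rw [← he, this, sup_idem])
  · have hS : IsPGroup p ↥(P₂ ⊔ P₁) := IsPGroup.to_sup_of_normal_right' hp₂ hp₁ ((hP₂D.trans inf_le_left).trans (hnorm M₁))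
    have hSD : P₂ ⊔ P₁ ≤ M₁ ⊓ M₂ := sup_le hP₂D hP₁D
    have e₁ := core_eq h2 M₁ hab₁ hc₁ _ hS (hSD.trans inf_le_left) le_sup_right
    have e₂ := core_eq h2 M₂ hab₂ hc₂ _ hS (hSD.trans inf_le_right) le_sup_left
    have hW := Cfsg.Lib.KInf.isCharPFunctor_lower (p := p)
    have h := hsub (Cfsg.inducedFunctor Cfsg.kInfLower (P₂ ⊔ P₁)) ((Cfsg.Lib.Functor.induced_le _).trans hSD)
      (by rw [e₁]; exact (hnorm M₁).trans (Cfsg.Lib.Functor.normalizer_le_normalizer_induced hW hp₁))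
      (by rw [e₂]; exact (hnorm M₂).trans (Cfsg.Lib.Functor.normalizer_le_normalizer_induced hW hp₂))
    exact Cfsg.Lib.Functor.induced_ne_bot hW hS (by rwa [sup_comm]) h

end Cfsg.Agent.S3753
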