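import Cfsg.Statements.S3755
import Cfsg.Agent.Components.Misc.SmallOffender

set_option autoImplicit false
set_option linter.style.haveILetI false
open Cfsg

namespace Cfsg.Agent.S3755

/-- Let M and V be subgroups of a finite group with V an elementary abelian 2-group, M normalizing V and acting faithfully on it (M ∩ C(V) = 1), and C_M(O_{2'}(M)) ≤ O_{2'}(M). If some elementary abelian 2-subgroup A of M satisfies |V : C_V(A)| < |A|², then M has a section isomorphic to the symmetric group of degree 3. -/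
theorem result {X : Type*} [Group X] [Finite X] (M V : Subgroup X) (hV : Cfsg.IsElementaryAbelian 2 V) (hMV : M ≤ Subgroup.normalizer (V : Set X)) (hfaith : M ⊓ Subgroup.centralizer (V : Set X) = ⊥) (hcon : Subgroup.centralizer (Cfsg.pPrimeCore 2 ↥M : Set ↥M) ≤ Cfsg.pPrimeCore 2 ↥M) (A : Subgroup X) (hAM : A ≤ M) (hA : Cfsg.IsElementaryAbelian 2 A) (hsmall : (V ⊓ Subgroup.centralizer (A : Set X)).relIndex V < Nat.card A ^ 2) : Cfsg.Involves (Equiv.Perm (Fin 3)) ↥M := by
  classical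
  by_contra hS3
  set O := Cfsg.Lib.Sft.qcore' 2 M with hO
  have hOodd : Odd (Nat.card O) := by
    rw [Nat.odd_iff, ← Nat.two_dvd_ne_zero]
    exact (Nat.Prime.coprime_iff_not_dvd Nat.prime_two).mp (Cfsg.Lib.Sft.coprime_qcore'.symm)
  have hOM : O ≤ M := Cfsg.Lib.Sft.qcore'_le
  have hAf : A ⊓ Subgroup.centralizer (O : Set X) = ⊥ := by
    rw [eq_bot_iff]
    rintro a ⟨haA, haC⟩
    have hmem : (⟨a, hAM haA⟩ : M) ∈ Cfsg.pPrimeCore 2 M := hcon (Subgroup.mem_centralizer_iff.mpr
      fun b hb => Subtype.ext (Subgroup.mem_centralizer_iff.mp haC b ⟨b, hb, rfl⟩))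
    have haO : a ∈ O := ⟨_, hmem, rfl⟩
    rw [Subgroup.mem_bot, ← orderOf_eq_one_iff]
    refine Nat.eq_one_of_dvd_coprimes ?_ (orderOf_dvd_of_pow_eq_one (hA.2 a haA))
      (Subgroup.orderOf_dvd_natCard O haO)
    exact hOodd.coprime_two_left
  have h := Cfsg.Lib.SmallOffender.sq_card_le_relIndex hV (hOM.trans hMV)
    (le_bot_iff.mp (hfaith ▸ inf_le_inf_right _ hOM)) hOodd A hA (hAM.trans hMV)
    (hAM.trans ((Subgroup.le_normalizer).trans Cfsg.Lib.Sft.le_normalizer_qcore')) hAf ?_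
  · omega
  intro a haA x hxO hx3 hax
  refine hS3 (Cfsg.Lib.SmallOffender.involves_perm_three (x := (⟨x, hOM hxO⟩ : M)) (a := ⟨a, hAM haA⟩)
    ?_ ?_ ?_ ?_)
  · exact Subtype.ext (by simpa [hx3] using pow_orderOf_eq_one x)
  · exact Subtype.ext (by simpa [pow_two] using hA.2 a haA)
  · exact Subtype.ext hax
  · intro h1
    have : x = 1 := congrArg Subtype.val h1
    rw [this, orderOf_one] at hx3
    omega

end Cfsg.Agent.S3755
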