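import Cfsg.Statements.S3760


set_option autoImplicit false
open Cfsg

namespace Cfsg.Agent.S3760

/-- Let the group G act transitively on a set X, let x ∈ X with stabilizer H = G_x, and let K ≤ H. Then N_G(K) acts transitively on the set of fixed points of K if and only if every G-conjugate of K contained in H is already an H-conjugate of K. -/
theorem result {G : Type*} [Group G] {X : Type*} [MulAction G X] (htrans : ∀ a b : X, ∃ g : G, g • a = b) (x : X) (K : Subgroup G) (hK : K ≤ MulAction.stabilizer G x) : (∀ a b : X, (∀ k ∈ K, k • a = a) → (∀ k ∈ K, k • b = b) → ∃ g ∈ Subgroup.normalizer (K : Set G), g • a = b) ↔ ∀ g : G, K.map (MulAut.conj g).toMonoidHom ≤ MulAction.stabilizer G x → ∃ h ∈ MulAction.stabilizer G x, K.map (MulAut.conj g).toMonoidHom = K.map (MulAut.conj h).toMonoidHom := by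
  constructor
  · intro h g hg
    obtain ⟨n, hn, hnx⟩ := h x (g⁻¹ • x) (fun k hk => hK hk) fun k hk => by
      have : g * k * g⁻¹ ∈ MulAction.stabilizer G x := hg ⟨k, hk, rfl⟩
      rw [MulAction.mem_stabilizer_iff, mul_smul, mul_smul] at this
      exact eq_inv_smul_iff.mpr this
    refine ⟨g * n, by rw [MulAction.mem_stabilizer_iff, mul_smul, hnx, smul_inv_smul], ?_⟩
    ext y
    simp only [Subgroup.mem_map, MulEquiv.coe_toMonoidHom, MulAut.conj_apply]
    constructor
    · rintro ⟨k, hk, rfl⟩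
      exact ⟨n⁻¹ * k * n, (Subgroup.mem_normalizer_iff''.mp hn k).mp hk, by group⟩
    · rintro ⟨k, hk, rfl⟩
      exact ⟨n * k * n⁻¹, (Subgroup.mem_normalizer_iff.mp hn k).mp hk, by group⟩
  · intro h a b ha hb
    have key : ∀ a : X, (∀ k ∈ K, k • a = a) →
        ∃ n ∈ Subgroup.normalizer (K : Set G), n • a = x := by
      intro a ha
      obtain ⟨g, hg⟩ := htrans a x
      obtain ⟨t, ht, hgt⟩ := h g (by
        rintro _ ⟨k, hk, rfl⟩
        show g * k * g⁻¹ ∈ MulAction.stabilizer G x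
        rw [MulAction.mem_stabilizer_iff, mul_smul, mul_smul, ← hg, inv_smul_smul, ha k hk])
      refine ⟨t⁻¹ * g, Subgroup.mem_normalizer_iff.mpr fun k => ⟨fun hk => ?_, fun hk => ?_⟩, by
        rw [mul_smul, hg, inv_smul_eq_iff]
        exact (MulAction.mem_stabilizer_iff.mp ht).symm⟩
      · obtain ⟨k', hk', he⟩ := (hgt ▸ Subgroup.mem_map_of_mem _ hk :
          (MulAut.conj g).toMonoidHom k ∈ K.map (MulAut.conj t).toMonoidHom)
        have he' : t * k' * t⁻¹ = g * k * g⁻¹ := he
        have : t⁻¹ * g * k * (t⁻¹ * g)⁻¹ = k' := by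
          calc t⁻¹ * g * k * (t⁻¹ * g)⁻¹ = t⁻¹ * (g * k * g⁻¹) * t := by group
            _ = k' := by rw [← he']; group
        rwa [this]
      · obtain ⟨k', hk', he⟩ := (hgt.symm ▸ Subgroup.mem_map_of_mem _ hk :
          (MulAut.conj t).toMonoidHom (t⁻¹ * g * k * (t⁻¹ * g)⁻¹) ∈ K.map (MulAut.conj g).toMonoidHom)
        have he' : g * k' * g⁻¹ = t * (t⁻¹ * g * k * (t⁻¹ * g)⁻¹) * t⁻¹ := he
        have : k' = k := by
          calc k' = g⁻¹ * (g * k' * g⁻¹) * g := by group
            _ = k := by rw [he']; group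
        rwa [← this]
    obtain ⟨n, hn, hna⟩ := key a ha
    obtain ⟨m, hm, hmb⟩ := key b hb
    exact ⟨m⁻¹ * n, mul_mem (inv_mem hm) hn, by rw [mul_smul, hna, ← hmb, inv_smul_smul]⟩

end Cfsg.Agent.S3760
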