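import Cfsg.Statements.S3763
import Mathlib
import Cfsg.Prelude
import Cfsg.Agent.PGroups.ExtraspecialIso
import Cfsg.Agent.Coprime.Basic

set_option autoImplicit false
open Cfsg

namespace Cfsg.Agent.S3763

open Subgroup Cfsg.Lib.PGroups.ExtraspecialIso
open scoped commutatorElement

universe u

/-- The two-rank is `r`. -/
def Rk (E : Type*) [Group E] (r : ℕ) : Prop :=
  Cfsg.PRankLE 2 r E ∧ ∃ A : Subgroup E, IsMulCommutative A ∧ (∀ a ∈ A, a ^ 2 = 1) ∧ Nat.card A = 2 ^ r

theorem Rk.le_iff {E : Type*} [Group E] {r : ℕ} (h : Rk E r) (k : ℕ) : Cfsg.PRankLE 2 k E ↔ r ≤ k := by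
  refine ⟨fun hk => ?_, fun hk A hA hA2 => (h.1 A hA hA2).trans (Nat.pow_le_pow_right (by norm_num) hk)⟩
  obtain ⟨A, hA, hA2, hc⟩ := h.2
  exact (Nat.pow_le_pow_iff_right (by norm_num)).1 (hc ▸ hk A hA hA2)

/-- adjoin a commuting involution -/
theorem adjoin {E : Type*} [Group E] [Finite E] (A : Subgroup E) (hA : IsMulCommutative A) (hA2 : ∀ a ∈ A, a ^ 2 = 1)
    {x : E} (hx : x ^ 2 = 1) (hxA : ∀ a ∈ A, Commute x a) (hnot : x ∉ A) :
    ∃ B : Subgroup E, IsMulCommutative B ∧ (∀ a ∈ B, a ^ 2 = 1) ∧ x ∈ B ∧ Nat.card B = 2 * Nat.card A := by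
  have hAc : ∀ a ∈ A, ∀ b ∈ A, Commute a b := fun a ha b hb => congrArg Subtype.val (hA.is_comm.comm (⟨a, ha⟩ : A) ⟨b, hb⟩)
  have hxc : zpowers x ≤ centralizer (A : Set E) := zpowers_le.2 (mem_centralizer_iff.2 fun a ha => (hxA a ha).symm)
  have hx1 : x ≠ 1 := fun e => hnot (e ▸ one_mem A)
  have ho : orderOf x = 2 := orderOf_eq_prime hx hx1
  have hmem : ∀ b : E, b ∈ A ⊔ zpowers x → ∃ a ∈ A, b = a ∨ b = a * x := by
    intro b hb
    have hn : zpowers x ≤ normalizer (A : Set E) := hxc.trans (centralizer_le_normalizer _)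
    have hb' : b ∈ ((A ⊔ zpowers x : Subgroup E) : Set E) := hb
    rw [Subgroup.coe_mul_of_right_le_normalizer_left A _ hn] at hb'
    obtain ⟨a, ha, y, hy, rfl⟩ := Set.mem_mul.1 hb'
    obtain ⟨i, rfl⟩ := mem_zpowers_iff.1 hy
    refine ⟨a, ha, ?_⟩
    rw [← zpow_mod_orderOf, ho]
    rcases Int.emod_two_eq_zero_or_one i with e | e
    · left; simp [e]
    · right; simp [e]
  refine ⟨A ⊔ zpowers x, ⟨⟨fun u v => ?_⟩⟩, fun u hu => ?_, mem_sup_right (mem_zpowers x), ?_⟩
  · obtain ⟨a, ha, hu⟩ := hmem u u.2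
    obtain ⟨b, hb, hv⟩ := hmem v v.2
    refine Subtype.ext ?_
    show Commute (u : E) v
    rcases hu with hu | hu <;> rcases hv with hv | hv <;> rw [hu, hv]
    · exact hAc a ha b hb
    · exact (hAc a ha b hb).mul_right (hxA a ha).symm
    · exact (hAc a ha b hb).mul_left (hxA b hb)
    · exact ((hAc a ha b hb).mul_right (hxA a ha).symm).mul_left ((hxA b hb).mul_right (Commute.refl x))
  · obtain ⟨a, ha, e | e⟩ := hmem u hu
    · rw [e]; exact hA2 a ha
    · rw [e, ((hxA a ha).symm).mul_pow, hA2 a ha, hx, mul_one]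
  · rw [Cfsg.Lib.Coprime.card_sup_of_inf_eq_bot (hxc.trans (centralizer_le_normalizer _))
      (disjoint_iff.1 (Disjoint.symm (by
        rw [Subgroup.disjoint_def]
        intro y hy hyA
        obtain ⟨i, rfl⟩ := mem_zpowers_iff.1 hy
        rw [← zpow_mod_orderOf, ho] at hyA ⊢
        rcases Int.emod_two_eq_zero_or_one i with e | e
        · simp [e]
        · exact absurd (by simpa [e] using hyA) hnot))), Nat.card_zpowers, ho, mul_comm]

theorem rk_all : ∀ (n : ℕ) (E : Type u) [Group E] [Finite E] (z : E), Nat.card E ≤ n → ES 2 E z →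
    ∃ m : ℕ, Nat.card E = 2 ^ (2 * m + 1) ∧
      ((numInv E = 2 ^ (2 * m) + 2 ^ m ∧ Rk E (m + 1)) ∨ (numInv E + 2 ^ m = 2 ^ (2 * m) ∧ Rk E m)) := by
  intro n
  induction n with
  | zero => intro E _ _ _ h; exact absurd h (by have := Nat.card_pos (α := E); omega)
  | succ n ih =>
    intro E _ _ z hn h
    haveI : Fact (Nat.Prime 2) := ⟨Nat.prime_two⟩
    have hcen : Nat.card (center E) = 2 := by rw [h.cen, Nat.card_zpowers, h.ord]
    have hz : IsMulCommutative (center E) ∧ ∀ a ∈ center E, a ^ 2 = 1 := ⟨inferInstance, fun a ha => by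
      rcases h.eq_one_or (h.cen.le ha) with rfl | rfl
      · exact one_pow 2
      · rw [← h.ord, pow_orderOf_eq_one]⟩
    by_cases hall : ∀ x : E, x ∈ center E
    · refine ⟨0, by simpa using h.card_of_all hall, Or.inl ⟨?_, fun A _ _ => ?_, center E, hz.1, hz.2, by simpa using hcen⟩⟩
      · have h1 : ∀ g : E, g ^ 2 = 1 := fun g => by
          rw [← h.card_of_all hall]; exact pow_card_eq_one'
        rw [numInv, Nat.card_congr (Equiv.subtypeUnivEquiv h1), h.card_of_all hall]
        norm_num
      · exact (card_le_card_group A).trans (by rw [h.card_of_all hall]; norm_num)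
    push Not at hall
    obtain ⟨x₀, hx₀⟩ := hall
    rcases h.kind hx₀ with ⟨x, y, hxc, hxy, hx, hy⟩ | ⟨hq, hC⟩
    · set C := pairCentralizer x y with hCdef
      have hc : Nat.card E = 2 * 2 * Nat.card C := h.card_eq hxy
      have h1 : 1 ≤ Nat.card C := Nat.card_pos
      obtain ⟨m, hm, hi⟩ := ih C ⟨z, h.z_mem x y⟩ (by omega) (h.restrict hxy)
      have hup : ∀ r, Rk C r → Rk E (r + 1) := by
        intro r hr
        have hbound : ∀ A : Subgroup E, IsMulCommutative A → (∀ a ∈ A, a ^ 2 = 1) → x ∈ A → Nat.card A ≤ 2 ^ (r + 1) := by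
          intro A hA hA2 hxA
          have key : ∀ a ∈ A, a ∈ C ∨ x * a ∈ C := by
            intro a ha
            obtain ⟨i, j, c, hc, rfl⟩ := h.exists_coord hxy a
            obtain ⟨hcx, hcy⟩ := mem_pairCentralizer.1 hc
            have hco : Commute x (x ^ i * y ^ j * c) := congrArg Subtype.val (hA.is_comm.comm (⟨x, hxA⟩ : A) ⟨_, ha⟩)
            have hj : Commute (y ^ j) x := by
              have h2 : Commute (x ^ i * y ^ j * c) x := hco.symm
              have h3 : Commute ((x ^ i)⁻¹ * (x ^ i * y ^ j * c) * c⁻¹) x :=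
                (((Commute.pow_self x i).inv_left).mul_left h2).mul_left hcx.inv_left
              simpa [mul_assoc] using h3
            have hj2 : 2 ∣ j := by
              have e := commutatorElement_eq_one_iff_mul_comm.2 hj.eq
              rw [Cfsg.Lib.PGroups.commutator_pow_left_of_commute ((mem_center_iff.1 (h.mem_center (hxy ▸ mem_zpowers z)) y).symm), hxy,
                ← orderOf_dvd_iff_pow_eq_one, h.ord] at e
              exact e
            obtain ⟨t, rfl⟩ := hj2
            rw [pow_mul, hy, one_pow, mul_one]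
            rcases Nat.even_or_odd' i with ⟨s, rfl | rfl⟩
            · left; rw [pow_mul, hx, one_pow, one_mul]; exact hc
            · right
              rw [← mul_assoc, ← pow_succ', show 2 * s + 1 + 1 = 2 * (s + 1) by ring, pow_mul, hx, one_pow, one_mul]
              exact hc
          have hle : Nat.card A ≤ 2 * Nat.card (A.subgroupOf C) := by
            classical
            have : Function.Injective (fun a : A => if h' : (a : E) ∈ C then (((⟨⟨a, h'⟩, a.2⟩ : A.subgroupOf C)), false)
                else ((⟨⟨x * a, (key a a.2).resolve_left h'⟩, A.mul_mem hxA a.2⟩ : A.subgroupOf C), true)) := by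
              intro a b hab
              simp only at hab
              split_ifs at hab with ha hb hb
              · exact Subtype.ext (congrArg (fun w : A.subgroupOf C × Bool => ((w.1 : C) : E)) hab)
              · exact absurd (congrArg Prod.snd hab) (by simp)
              · exact absurd (congrArg Prod.snd hab) (by simp)
              · exact Subtype.ext (mul_left_cancel (congrArg (fun w : A.subgroupOf C × Bool => ((w.1 : C) : E)) hab))
            refine (Nat.card_le_card_of_injective _ this).trans ?_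
            rw [Nat.card_prod, Nat.card_eq_fintype_card (α := Bool), Fintype.card_bool, mul_comm]
          refine hle.trans ?_
          rw [pow_succ']
          refine Nat.mul_le_mul_left 2 (hr.1 _ ⟨⟨fun a b => Subtype.ext (Subtype.ext ?_)⟩⟩ fun a ha => Subtype.ext (hA2 _ ha))
          exact congrArg (fun w : A => (w : E)) (hA.is_comm.comm (⟨(a : C), a.2⟩ : A) ⟨(b : C), b.2⟩)
        refine ⟨fun A hA hA2 => ?_, ?_⟩
        · by_cases hxA : x ∈ A
          · exact hbound A hA hA2 hxA
          set A₁ := A ⊓ centralizer {x} with hA₁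
          have hA₁le : Nat.card A ≤ 2 * Nat.card A₁ := by
            classical
            by_cases hall' : ∀ a ∈ A, Commute x a
            · rw [hA₁, inf_eq_left.2 fun a ha => mem_centralizer_singleton_iff.2 (hall' a ha).eq.symm]
              omega
            push Not at hall'
            obtain ⟨a₀, ha₀, hna₀⟩ := hall'
            have hcc : ∀ a : E, ¬ Commute x a → ⁅a, x⁆ = z := fun a ha =>
              (h.eq_one_or (h.comm a x)).resolve_left fun e => ha (commutatorElement_eq_one_iff_mul_comm.1 e).symm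
            have : Function.Injective (fun a : A => if h' : Commute x (a : E) then
                ((⟨a, a.2, mem_centralizer_singleton_iff.2 h'.eq.symm⟩ : A₁), false)
                else ((⟨a₀ * a, A.mul_mem ha₀ a.2, mem_centralizer_singleton_iff.2 (commutatorElement_eq_one_iff_mul_comm.1 (by
                  rw [Cfsg.Lib.PGroups.commutator_mul_left_of_central (h.mem_center (h.comm _ _)), hcc a h', hcc a₀ hna₀,
                    ← pow_two, ← h.ord, pow_orderOf_eq_one]))⟩ : A₁), true)) := by
              intro a b hab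
              simp only at hab
              split_ifs at hab with ha hb hb
              · exact Subtype.ext (congrArg (fun w : A₁ × Bool => (w.1 : E)) hab)
              · exact absurd (congrArg Prod.snd hab) (by simp)
              · exact absurd (congrArg Prod.snd hab) (by simp)
              · exact Subtype.ext (mul_left_cancel (congrArg (fun w : A₁ × Bool => (w.1 : E)) hab))
            refine (Nat.card_le_card_of_injective _ this).trans ?_
            rw [Nat.card_prod, Nat.card_eq_fintype_card (α := Bool), Fintype.card_bool, mul_comm]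
          obtain ⟨B, hB, hB2, hxB, hBc⟩ := adjoin A₁
            ⟨⟨fun a b => Subtype.ext (congrArg (fun w : A => (w : E)) (hA.is_comm.comm (⟨a, a.2.1⟩ : A) ⟨b, b.2.1⟩))⟩⟩
            (fun a ha => hA2 a ha.1) hx (fun a ha => (mem_centralizer_singleton_iff.1 ha.2).symm) (fun hh => hxA hh.1)
          exact hA₁le.trans (hBc ▸ hbound B hB hB2 hxB)
        · obtain ⟨A, hA, hA2, hAc⟩ := hr.2
          obtain ⟨B, hB, hB2, -, hBc⟩ := adjoin (A.map C.subtype)
            (by infer_instance) (by rintro _ ⟨a, ha, rfl⟩; simpa using congrArg Subtype.val (hA2 a ha)) hx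
            (by rintro _ ⟨a, ha, rfl⟩; exact ((mem_pairCentralizer.1 a.2).1).symm)
            (by
              rintro ⟨a, ha, e⟩
              refine h.z_ne_one ?_
              rw [← hxy, commutatorElement_eq_one_iff_mul_comm, show x = (a : E) from e.symm]
              exact (mem_pairCentralizer.1 a.2).2.symm)
          exact ⟨B, hB, hB2, by rw [hBc, card_map_of_injective C.subtype_injective, hAc, pow_succ']⟩
      refine ⟨m + 1, by rw [hc, hm]; ring, ?_⟩
      have e1 : 2 ^ (2 * (m + 1)) = 4 * 2 ^ (2 * m) := by ring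
      have e2 : 2 ^ (2 * m + 1) = 2 * 2 ^ (2 * m) := by ring
      have e3 : 2 ^ (m + 1) = 2 * 2 ^ m := by ring
      have hnum := h.numInv_dihedral hxy hx hy
      rw [← hCdef, hm] at hnum
      rcases hi with ⟨hi, hr⟩ | ⟨hi, hr⟩
      · exact Or.inl ⟨by omega, hup _ hr⟩
      · exact Or.inr ⟨by omega, hup _ hr⟩
    · obtain ⟨h8, h2⟩ := h.quaternion_facts hx₀ hq hC
      refine ⟨1, h8, Or.inr ⟨by rw [h2]; norm_num, fun A _ hA2 => ?_, center E, hz.1, hz.2, by simpa using hcen⟩⟩
      rw [pow_one, ← hcen]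
      refine card_le_of_le fun a ha => ?_
      by_contra hh
      exact h.z_ne_one ((hq a hh).symm.trans (hA2 a ha))


/-- Let E be an extraspecial 2-group of order 2^(2n+1). Then the largest elementary abelian subgroups of E have order 2^n or 2^(n+1); and two extraspecial 2-groups of the same order whose largest elementary abelian subgroups have the same order are isomorphic. -/
theorem result {E : Type*} [Group E] [Finite E] (hE : Cfsg.IsExtraspecial 2 E) (n : ℕ) (hn : Nat.card E = 2 ^ (2 * n + 1)) : ((Cfsg.PRankLE 2 n E ∧ ¬ Cfsg.PRankLE 2 (n - 1) E) ∨ (Cfsg.PRankLE 2 (n + 1) E ∧ ¬ Cfsg.PRankLE 2 n E)) ∧ ∀ (E' : Type*) [Group E'] [Finite E'], Cfsg.IsExtraspecial 2 E' → Nat.card E' = Nat.card E → (∀ k : ℕ, Cfsg.PRankLE 2 k E ↔ Cfsg.PRankLE 2 k E') → Nonempty (E ≃* E') := by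
  haveI : Fact (Nat.Prime 2) := ⟨Nat.prime_two⟩
  obtain ⟨z, hz, hz1⟩ := exists_z hE
  have h := ES.of_isExtraspecial hE hz hz1
  obtain ⟨m, hm, hcases⟩ := rk_all _ E z le_rfl h
  obtain rfl : m = n := by
    have := Nat.pow_right_injective le_rfl (hm.symm.trans hn)
    omega
  refine ⟨?_, fun E' _ _ hE' hcard hiff => ?_⟩
  · rcases hcases with ⟨-, hr⟩ | ⟨hi, hr⟩
    · exact Or.inr ⟨(hr.le_iff _).2 le_rfl, fun hh => absurd ((hr.le_iff _).1 hh) (by omega)⟩
    · rcases Nat.eq_zero_or_pos m with rfl | hpos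
      · simp at hi
        have : 0 < numInv E := by
          rw [numInv]; haveI : Nonempty {g : E // g ^ 2 = 1} := ⟨⟨1, one_pow 2⟩⟩
          exact Nat.card_pos
        omega
      · exact Or.inl ⟨(hr.le_iff _).2 le_rfl, fun hh => absurd ((hr.le_iff _).1 hh) (by omega)⟩
  · obtain ⟨z', hz', hz1'⟩ := exists_z hE'
    have h' := ES.of_isExtraspecial hE' hz' hz1'
    obtain ⟨m', hm', hcases'⟩ := rk_all _ E' z' le_rfl h'
    obtain rfl : m' = m := by
      have := Nat.pow_right_injective le_rfl (hm'.symm.trans (hcard.trans hm))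
      omega
    have key : ∀ {r r' : ℕ}, Rk E r → Rk E' r' → r = r' := fun {r r'} hr hr' =>
      le_antisymm ((hr.le_iff r').1 ((hiff r').2 ((hr'.le_iff r').2 le_rfl))) ((hr'.le_iff r).1 ((hiff r).1 ((hr.le_iff r).2 le_rfl)))
    obtain ⟨f, -⟩ := iso_two _ E z E' z' le_rfl h h' hcard.symm (by
      rcases hcases with ⟨hi, hr⟩ | ⟨hi, hr⟩ <;> rcases hcases' with ⟨hi', hr'⟩ | ⟨hi', hr'⟩ <;>
        have := key hr hr' <;> omega)
    exact ⟨f⟩

end Cfsg.Agent.S3763
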