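import Cfsg.Statements.S3764
import Mathlib
import Cfsg.Agent.OddLocal.FpfExceptional

set_option autoImplicit false
open Cfsg

namespace Cfsg.Agent.S3764

open Subgroup
open scoped commutatorElement

/-- Let p, q, r be distinct primes and let X, Q, V be subgroups of a finite group with X of order r, Q an extraspecial q-group normalized by X with C_Q(X) = Z(Q), and V an elementary abelian p-group normalized by X and Q on which XQ acts faithfully ((X ⊔ Q) ∩ C(V) = 1). If C_V(X) = 1, then q = 2, r = 2^n + 1 for some n, and Q has order 2^(2n+1). -/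
theorem result {G : Type*} [Group G] [Finite G] {p q r : ℕ} (hp : p.Prime) (hq : q.Prime) (hr : r.Prime) (hpq : p ≠ q) (hpr : p ≠ r) (hqr : q ≠ r) (X Q V : Subgroup G) (hX : Nat.card X = r) (hQ : Cfsg.IsExtraspecial q ↥Q) (hXQ : X ≤ Subgroup.normalizer (Q : Set G)) (hCQ : Q ⊓ Subgroup.centralizer (X : Set G) = (Subgroup.center ↥Q).map Q.subtype) (hV : Cfsg.IsElementaryAbelian p V) (hXV : X ≤ Subgroup.normalizer (V : Set G)) (hQV : Q ≤ Subgroup.normalizer (V : Set G)) (hfaith : (X ⊔ Q) ⊓ Subgroup.centralizer (V : Set G) = ⊥) (hCV : V ⊓ Subgroup.centralizer (X : Set G) = ⊥) : q = 2 ∧ ∃ n : ℕ, r = 2 ^ n + 1 ∧ Nat.card Q = 2 ^ (2 * n + 1) := by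
  classical
  haveI := Fact.mk hp
  haveI := Fact.mk hr
  set H := X ⊔ Q with hH
  obtain ⟨⟨x, hxX⟩, hgen⟩ := (isCyclic_of_prime_card hX).exists_generator
  have hxr : x ^ r = 1 := by
    have h1 : (⟨x, hxX⟩ : X) ^ r = 1 := by rw [← hX, pow_card_eq_one']
    exact congrArg Subtype.val h1
  have hXx : X = zpowers x := by
    refine le_antisymm (fun a ha => ?_) (zpowers_le.mpr hxX)
    obtain ⟨k, hk⟩ := mem_zpowers_iff.mp (hgen ⟨a, ha⟩)
    exact ⟨k, congrArg Subtype.val hk⟩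
  have hcentX : ∀ g : G, x * g = g * x → g ∈ centralizer (X : Set G) := fun g hg => by
    rw [hXx]
    refine mem_centralizer_iff.mpr fun a ha => ?_
    obtain ⟨k, rfl⟩ := mem_zpowers_iff.mp ha
    exact (Commute.zpow_left hg k).eq
  have hxH : x ∈ H := mem_sup_left hxX
  obtain ⟨n, ρ, hρ, hfix⟩ := Cfsg.Lib.FpfExceptional.exists_fpf_rep hr hpr.symm hV (sup_le hXV hQV) hfaith
    hxH hxr (fun v hv hvx => by
      have h1 : v ∈ V ⊓ centralizer (X : Set G) := ⟨hv, hcentX v hvx⟩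
      rwa [hCV, mem_bot] at h1)
  set K := AlgebraicClosure (ZMod p)
  haveI : CharP K p := charP_of_injective_algebraMap (algebraMap (ZMod p) K).injective p
  have hne : ∀ s : ℕ, s.Prime → s ≠ p → (s : K) ≠ 0 := fun s hs hsp h =>
    hsp (((Nat.prime_dvd_prime_iff_eq hp hs).mp ((CharP.cast_eq_zero_iff K p s).mp h)).symm)
  set Q' := Q.subgroupOf H with hQ'
  set e : Q' ≃* Q := subgroupOfEquivOfLe (le_sup_right : Q ≤ H)
  set x' : H := ⟨x, hxH⟩
  have hxr' : x' ^ r = 1 := Subtype.ext hxr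
  have hxN : x' ∈ normalizer (Q' : Set H) := mem_normalizer_iff.mpr fun a =>
    mem_normalizer_iff.mp (hXQ hxX) (a : G)
  haveI := Fact.mk hq
  obtain ⟨⟨hQq, -, hcomQ⟩, hcard⟩ := hQ
  have hcenter : ∀ u : Q', u ∈ center Q' ↔ e u ∈ center Q := fun u => by
    simp only [mem_center_iff]
    refine ⟨fun h g => ?_, fun h g => e.injective (by rw [map_mul, map_mul, h])⟩
    obtain ⟨g', rfl⟩ := e.surjective g
    rw [← map_mul, h, map_mul]
  have hQK : ((Nat.card Q' : ℕ) : K) ≠ 0 := by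
    obtain ⟨j, hj⟩ := IsPGroup.iff_card.mp hQq
    rw [Nat.card_congr e.toEquiv, hj, Nat.cast_pow]
    exact pow_ne_zero j (hne q hq hpq.symm)
  have hQp : IsPGroup q Q' := hQq.comap_of_injective H.subtype H.subtype_injective
  haveI := hQp.isNilpotent
  have hcardZ : Nat.card (center Q') = q := by
    rw [← hcard]
    exact Nat.card_congr (e.toEquiv.subtypeEquiv fun u => hcenter u)
  have hcop : (Nat.card (zpowers x')).Coprime (Nat.card Q') := by
    obtain ⟨j, hj⟩ := IsPGroup.iff_card.mp hQp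
    rw [Nat.card_zpowers, hj]
    exact Nat.Coprime.coprime_dvd_left (orderOf_dvd_of_pow_eq_one hxr')
      (((Nat.coprime_primes hr hq).mpr hqr.symm).pow_right j)
  have hxZ : ∀ c ∈ center Q', x' * (c : H) = (c : H) * x' := by
    intro c hc
    have h1 : ((c : H) : G) ∈ Q ⊓ centralizer (X : Set G) := hCQ.ge ⟨e c, (hcenter c).mp hc, rfl⟩
    exact Subtype.ext (mem_centralizer_iff.mp h1.2 x hxX)
  have hcm : ∀ u w : Q', ⁅u, w⁆ ∈ center Q' := fun u w => by
    rw [hcenter, map_commutatorElement, ← hcomQ]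
    exact commutator_mem_commutator (mem_top _) (mem_top _)
  obtain ⟨a₀, b₀, hab⟩ : ∃ a b : Q', ⁅a, b⁆ ≠ 1 := by
    by_contra hall
    push Not at hall
    have h1 : commutator Q = ⊥ := by
      rw [_root_.commutator_def, eq_bot_iff, commutator_le]
      intro a _ b _
      obtain ⟨a, rfl⟩ := e.surjective a
      obtain ⟨b, rfl⟩ := e.surjective b
      rw [mem_bot, ← map_commutatorElement, hall, map_one]
    rw [← hcomQ, h1, card_bot] at hcard
    exact hq.ne_one hcard.symm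
  refine (Cfsg.Lib.FpfExceptional.nonabelian_fixed_or_count ρ Q' hQK hr (hne r hr hpr.symm) hxr' hxN
    inferInstance hcop (fun a ha b hb c hc => ?_) (fun a ha b hb => ?_) hxZ (Or.inr (hcardZ ▸ hq)) ?_
    a₀.2 b₀.2 (fun h => hab (Subtype.ext ?_))).elim (fun ⟨v, hv, hvx⟩ => absurd (hfix v hvx) hv) ?_
  · exact congrArg Subtype.val (mem_center_iff.mp (hcm ⟨a, ha⟩ ⟨b, hb⟩) ⟨c, hc⟩).symm
  · exact hxZ _ (hcm ⟨a, ha⟩ ⟨b, hb⟩)
  · intro a ha
    have h1 : (a : G) ∈ Q ⊓ centralizer (X : Set G) := by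
      refine ⟨ha.1, hcentX _ ?_⟩
      exact congrArg Subtype.val (mem_centralizer_singleton_iff.mp ha.2).symm
    rw [hCQ] at h1
    obtain ⟨z, hz, hza⟩ := h1
    refine mem_centralizer_iff.mpr fun c hc => Subtype.ext ?_
    show (c : G) * (a : G) = (a : G) * (c : G)
    rw [← hza]
    exact congrArg Subtype.val (mem_center_iff.mp hz (⟨(c : G), hc⟩ : Q))
  · exact hρ (h.trans (map_one ρ).symm)
  rintro ⟨d, hd, hdr, hdT⟩
  have hQd : Nat.card Q = d * d * q := by
    rw [← Nat.card_congr e.toEquiv, card_eq_card_quotient_mul_card_subgroup (center Q'), hdT, hcardZ]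
  obtain ⟨j, hj⟩ := IsPGroup.iff_card.mp hQq
  obtain ⟨hq2, b, -, hdb, hrb⟩ := Cfsg.Lib.FpfExceptional.exceptional_numbers hr hq hd hdr
    (show d ∣ q ^ j by rw [← hj, hQd, mul_assoc]; exact dvd_mul_right d _)
  subst hq2
  exact ⟨rfl, b, hrb, by rw [hQd, hdb]; ring⟩

end Cfsg.Agent.S3764
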