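import Cfsg.Statements.S3765
import Mathlib
import Cfsg.Agent.OddLocal.FpfExceptional

set_option autoImplicit false
open Cfsg

namespace Cfsg.Agent.S3765

open Subgroup

/-- Let p, q, r be distinct primes and let X, Q, V be subgroups of a finite group with X of order r normalizing the q-group Q and acting faithfully on it (X ∩ C(Q) = 1), and V a nontrivial elementary abelian p-group normalized by X and Q on which XQ acts faithfully. If q = 2 and r has the form 2^n + 1, assume in addition that Q is abelian. Then C_V(X) ≠ 1. -/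
theorem result {G : Type*} [Group G] [Finite G] {p q r : ℕ} (hp : p.Prime) (hq : q.Prime) (hr : r.Prime) (hpq : p ≠ q) (hpr : p ≠ r) (hqr : q ≠ r) (X Q V : Subgroup G) (hX : Nat.card X = r) (hQ : IsPGroup q Q) (hXQ : X ≤ Subgroup.normalizer (Q : Set G)) (hXfaith : X ⊓ Subgroup.centralizer (Q : Set G) = ⊥) (hV : Cfsg.IsElementaryAbelian p V) (hV1 : V ≠ ⊥) (hXV : X ≤ Subgroup.normalizer (V : Set G)) (hQV : Q ≤ Subgroup.normalizer (V : Set G)) (hfaith : (X ⊔ Q) ⊓ Subgroup.centralizer (V : Set G) = ⊥) (hexc : q = 2 → (∃ n : ℕ, r = 2 ^ n + 1) → IsMulCommutative Q) : V ⊓ Subgroup.centralizer (X : Set G) ≠ ⊥ := by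
  intro hCV
  classical
  haveI := Fact.mk hp
  haveI := Fact.mk hr
  set H := X ⊔ Q with hH
  obtain ⟨⟨x, hxX⟩, hgen⟩ := (isCyclic_of_prime_card hX).exists_generator
  have hxr : x ^ r = 1 := by
    have h1 : (⟨x, hxX⟩ : X) ^ r = 1 := by rw [← hX, pow_card_eq_one']
    exact congrArg Subtype.val h1
  have hXx : X = zpowers x := by
    refine le_antisymm (fun a ha => ?_) (zpowers_le.mpr hxX)
    obtain ⟨k, hk⟩ := mem_zpowers_iff.mp (hgen ⟨a, ha⟩)
    exact ⟨k, congrArg Subtype.val hk⟩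
  have hcentX : ∀ g : G, x * g = g * x → g ∈ centralizer (X : Set G) := fun g hg => by
    rw [hXx]
    refine mem_centralizer_iff.mpr fun a ha => ?_
    obtain ⟨k, rfl⟩ := mem_zpowers_iff.mp ha
    exact (Commute.zpow_left hg k).eq
  have hxH : x ∈ H := mem_sup_left hxX
  obtain ⟨n, ρ, hρ, hfix⟩ := Cfsg.Lib.FpfExceptional.exists_fpf_rep hr hpr.symm hV (sup_le hXV hQV) hfaith
    hxH hxr (fun v hv hvx => by
      have h1 : v ∈ V ⊓ centralizer (X : Set G) := ⟨hv, hcentX v hvx⟩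
      rwa [hCV, mem_bot] at h1)
  set K := AlgebraicClosure (ZMod p)
  haveI : CharP K p := charP_of_injective_algebraMap (algebraMap (ZMod p) K).injective p
  have hne : ∀ s : ℕ, s.Prime → s ≠ p → (s : K) ≠ 0 := fun s hs hsp h =>
    hsp (((Nat.prime_dvd_prime_iff_eq hp hs).mp ((CharP.cast_eq_zero_iff K p s).mp h)).symm)
  set Q' := Q.subgroupOf H with hQ'
  set e : Q' ≃* Q := subgroupOfEquivOfLe (le_sup_right : Q ≤ H)
  set x' : H := ⟨x, hxH⟩
  have hxr' : x' ^ r = 1 := Subtype.ext hxr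
  have hxN : x' ∈ normalizer (Q' : Set H) := mem_normalizer_iff.mpr fun a =>
    mem_normalizer_iff.mp (hXQ hxX) (a : G)
  haveI := Fact.mk hq
  have hQp : IsPGroup q Q' := hQ.comap_of_injective H.subtype H.subtype_injective
  rcases Cfsg.Lib.FpfExceptional.centralizes_or_exceptional ρ hρ hr hq hqr.symm (hne r hr hpr.symm)
    (hne q hq hpq.symm) hxr' hfix _ Q' rfl hQp hxN with hc | ⟨hq2, hb, a, ha, c, hc, hac⟩
  · have h1 : x ∈ X ⊓ centralizer (Q : Set G) := ⟨hxX, mem_centralizer_iff.mpr fun a ha =>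
      congrArg Subtype.val (mem_centralizer_iff.mp hc ⟨a, mem_sup_right ha⟩ ha)⟩
    rw [hXfaith, mem_bot] at h1
    rw [h1, zpowers_one_eq_bot] at hXx
    rw [hXx, card_bot] at hX
    exact hr.ne_one hX.symm
  · refine hac (Subtype.ext ?_)
    exact congrArg (Subtype.val (p := (· ∈ Q))) ((hexc hq2 hb).is_comm.comm ⟨(a : G), ha⟩ ⟨(c : G), hc⟩)

end Cfsg.Agent.S3765
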