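import Cfsg.Statements.S3766
import Cfsg.Agent.Components.GenFitting

set_option autoImplicit false
open Cfsg

namespace Cfsg.Agent.S3766

open Subgroup
open scoped commutatorElement

theorem sup_commutator_le {G : Type*} [Group G] {A B C D : Subgroup G} [A.Normal] [B.Normal] [D.Normal]
    (h1 : ⁅A, C⁆ ≤ D) (h2 : ⁅B, C⁆ ≤ D) : ⁅A ⊔ B, C⁆ ≤ D := by
  refine commutator_le.2 fun x hx c hc => ?_
  obtain ⟨a, ha, b, hb, rfl⟩ := mem_sup_of_normal_left.1 hx
  rw [show ⁅a * b, c⁆ = a * ⁅b, c⁆ * a⁻¹ * ⁅a, c⁆ by simp only [commutatorElement_def]; group]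
  exact mul_mem (Subgroup.Normal.conj_mem inferInstance _ (h2 (commutator_mem_commutator hb hc)) a)
    (h1 (commutator_mem_commutator ha hc))

/-- a nilpotent normal subgroup centralises every chief factor -/
theorem centralizes_chief {G : Type*} [Group G] (F U V : Subgroup G) [F.Normal] [U.Normal] [V.Normal]
    (hF : Group.IsNilpotent F) (hVU : V < U)
    (hchief : ∀ W : Subgroup G, W.Normal → V ≤ W → W ≤ U → W = V ∨ W = U) : ⁅U, F⁆ ≤ V := by
  have hUF : ⁅U, F⁆ ≤ U := commutator_le_left U F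
  rcases hchief (⁅U, F⁆ ⊔ V) inferInstance le_sup_right (sup_le hUF hVU.le) with h | h
  · exact le_sup_left.trans h.le
  exfalso
  have hn : ∀ k, (F.lowerCentralSeries k).Normal := fun k => by
    induction k with
    | zero => exact ‹F.Normal›
    | succ k ih => exact commutator_normal _ _
  have key : ∀ k, U ≤ F.lowerCentralSeries k ⊔ V := by
    intro k
    induction k with
    | zero => exact h.ge.trans (sup_le_sup_right (commutator_le_right U F) V)
    | succ k ih =>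
      haveI := hn k
      haveI : (F.lowerCentralSeries (k + 1)).Normal := hn _
      refine h.ge.trans (sup_le ((commutator_mono ih le_rfl).trans ?_) le_sup_right)
      exact sup_commutator_le le_sup_left ((commutator_le_left V F).trans le_sup_right)
  obtain ⟨n, hn'⟩ := (isNilpotent_iff_lowerCentralSeries (S := F)).1 hF
  exact hVU.not_ge (by simpa [hn'] using key n)

/-- a subgroup acting trivially on the chief factors below `F` and with `[L,L] ≤ F` is nilpotent -/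
theorem nilpotent_of_centralizes {G : Type*} [Group G] [Finite G] (L F : Subgroup G) [F.Normal]
    (hLL : ⁅L, L⁆ ≤ F)
    (h : ∀ U V : Subgroup G, U.Normal → V.Normal → V < U →
      (∀ W : Subgroup G, W.Normal → V ≤ W → W ≤ U → W = V ∨ W = U) → U ≤ F → ⁅U, L⁆ ≤ V) :
    Group.IsNilpotent L := by
  suffices key : ∀ (n : ℕ) (U : Subgroup G), Nat.card U = n → U.Normal → U ≤ F →
      ∀ j, L.lowerCentralSeries j ≤ U → ∃ m, L.lowerCentralSeries m = ⊥ by
    refine (isNilpotent_iff_lowerCentralSeries (S := L)).2 (key _ F rfl inferInstance le_rfl 1 ?_)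
    exact hLL
  intro n
  induction n using Nat.strong_induction_on with
  | _ n ih =>
    intro U hU hUn hUF j hj
    by_cases hb : U = ⊥
    · exact ⟨j, le_bot_iff.1 (hb ▸ hj)⟩
    obtain ⟨V, -, hV⟩ := Finite.exists_le_maximal (p := fun W : Subgroup G => W.Normal ∧ W < U) (a := ⊥)
      ⟨inferInstance, bot_lt_iff_ne_bot.2 hb⟩
    have hc : ∀ W : Subgroup G, W.Normal → V ≤ W → W ≤ U → W = V ∨ W = U := fun W hW h1 h2 =>
      or_iff_not_imp_right.2 fun hne => le_antisymm (hV.le_of_ge ⟨hW, lt_of_le_of_ne h2 hne⟩ h1) h1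
    refine ih (Nat.card V) ?_ V rfl hV.prop.1 (hV.prop.2.le.trans hUF) (j + 1) ?_
    · rw [← hU]
      exact lt_of_le_of_ne (card_le_of_le hV.prop.2.le)
        fun e => hV.prop.2.ne (eq_of_le_of_card_ge hV.prop.2.le e.ge)
    · exact (commutator_mono hj le_rfl).trans (h U V hUn hV.prop.1 hV.prop.2 hc hUF)


/-- Let G be a finite solvable group and N a normal subgroup of G. Call a pair V < U of normal subgroups of G a chief factor of G when no normal subgroup of G lies strictly between them; an element g centralizes the chief factor U/V when u g u⁻¹ g⁻¹ ∈ V for all u ∈ U. Then an element of G lies in the Fitting subgroup F(N) if and only if it lies in N and centralizes every chief factor of G; and also if and only if it lies in N and centralizes every chief factor U/V of G with U ≤ F(N). -/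
theorem result {G : Type*} [Group G] [Finite G] (hG : Group.IsSolvable G) (N : Subgroup G) [N.Normal] (g : G) : (g ∈ (Cfsg.fittingSubgroup ↥N).map N.subtype ↔ g ∈ N ∧ ∀ U V : Subgroup G, (U.Normal ∧ V.Normal ∧ V < U ∧ ∀ W : Subgroup G, W.Normal → V ≤ W → W ≤ U → W = V ∨ W = U) → ∀ u ∈ U, u * g * u⁻¹ * g⁻¹ ∈ V) ∧ (g ∈ (Cfsg.fittingSubgroup ↥N).map N.subtype ↔ g ∈ N ∧ ∀ U V : Subgroup G, (U.Normal ∧ V.Normal ∧ V < U ∧ ∀ W : Subgroup G, W.Normal → V ≤ W → W ≤ U → W = V ∨ W = U) → U ≤ (Cfsg.fittingSubgroup ↥N).map N.subtype → ∀ u ∈ U, u * g * u⁻¹ * g⁻¹ ∈ V) := by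
  set F := (Cfsg.fittingSubgroup ↥N).map N.subtype with hFdef
  haveI hFn : F.Normal := by rw [hFdef]; infer_instance
  have hFN : F ≤ N := Subgroup.map_subtype_le _
  have hFnil : Group.IsNilpotent F := by
    haveI := Cfsg.Lib.Components.isNilpotent_fitting (G := ↥N)
    exact Group.nilpotent_of_mulEquiv ((Cfsg.fittingSubgroup ↥N).equivMapOfInjective N.subtype N.subtype_injective)
  have fwd : g ∈ F → g ∈ N ∧ ∀ U V : Subgroup G, (U.Normal ∧ V.Normal ∧ V < U ∧ ∀ W : Subgroup G, W.Normal → V ≤ W → W ≤ U → W = V ∨ W = U) → ∀ u ∈ U, u * g * u⁻¹ * g⁻¹ ∈ V := by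
    intro hg
    refine ⟨hFN hg, ?_⟩
    rintro U V ⟨hU, hV, hlt, hc⟩ u hu
    haveI := hU
    haveI := hV
    exact centralizes_chief F U V hFnil hlt hc (Subgroup.commutator_mem_commutator hu hg)
  suffices hbwd : (g ∈ N ∧ ∀ U V : Subgroup G, (U.Normal ∧ V.Normal ∧ V < U ∧ ∀ W : Subgroup G, W.Normal → V ≤ W → W ≤ U → W = V ∨ W = U) → U ≤ F → ∀ u ∈ U, u * g * u⁻¹ * g⁻¹ ∈ V) → g ∈ F from
    ⟨⟨fwd, fun h => hbwd ⟨h.1, fun U V hc _ => h.2 U V hc⟩⟩, ⟨fun hg => ⟨(fwd hg).1, fun U V hc _ => (fwd hg).2 U V hc⟩, hbwd⟩⟩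
  intro hg
  let C : Subgroup G :=
    { carrier := {x | x ∈ N ∧ ∀ U V : Subgroup G, (U.Normal ∧ V.Normal ∧ V < U ∧ ∀ W : Subgroup G, W.Normal → V ≤ W → W ≤ U → W = V ∨ W = U) → U ≤ F → ∀ u ∈ U, u * x * u⁻¹ * x⁻¹ ∈ V}
      one_mem' := ⟨one_mem N, fun U V _ _ u _ => by simp⟩
      mul_mem' := by
        rintro a b ⟨ha, ha'⟩ ⟨hb, hb'⟩
        refine ⟨mul_mem ha hb, fun U V hc hUF u hu => ?_⟩
        rw [show u * (a * b) * u⁻¹ * (a * b)⁻¹ = (u * a * u⁻¹ * a⁻¹) * (a * (u * b * u⁻¹ * b⁻¹) * a⁻¹) by group]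
        exact mul_mem (ha' U V hc hUF u hu) (hc.2.1.conj_mem _ (hb' U V hc hUF u hu) a)
      inv_mem' := by
        rintro a ⟨ha, ha'⟩
        refine ⟨inv_mem ha, fun U V hc hUF u hu => ?_⟩
        rw [show u * a⁻¹ * u⁻¹ * a⁻¹⁻¹ = a⁻¹ * (u * a * u⁻¹ * a⁻¹)⁻¹ * a⁻¹⁻¹ by group]
        exact hc.2.1.conj_mem _ (inv_mem (ha' U V hc hUF u hu)) a⁻¹ }
  haveI hCn : C.Normal := ⟨fun a ⟨ha, ha'⟩ x => ⟨Subgroup.Normal.conj_mem inferInstance a ha x, fun U V hc hUF u hu => by
    rw [show u * (x * a * x⁻¹) * u⁻¹ * (x * a * x⁻¹)⁻¹ = x * ((x⁻¹ * u * x) * a * (x⁻¹ * u * x)⁻¹ * a⁻¹) * x⁻¹ by group]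
    exact hc.2.1.conj_mem _ (ha' U V hc hUF _ (hc.1.conj_mem' u hu x)) x⟩⟩
  suffices hC : C ≤ F from hC hg
  haveI : Group.IsSolvable G := hG
  obtain ⟨n, hn⟩ := (Group.isSolvable_def (G := ↥C)).1 inferInstance
  have hnor : ∀ k, ((derivedSeries ↥C k).map C.subtype).Normal := fun k => inferInstance
  by_contra hCF
  have hex : ∀ k, ¬ (derivedSeries ↥C k).map C.subtype ≤ F → ∃ L : Subgroup G, L.Normal ∧ L ≤ C ∧ ¬ L ≤ F ∧ ⁅L, L⁆ ≤ F := by
    intro k hk
    induction hd : n - k generalizing k with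
    | zero =>
      exfalso
      refine hk ?_
      have hle : derivedSeries ↥C k ≤ ⊥ := (derivedSeries_antitone ↥C (show n ≤ k by omega)).trans hn.le
      rw [le_bot_iff.1 hle, Subgroup.map_bot]
      exact bot_le
    | succ d ihd =>
      by_cases hk1 : (derivedSeries ↥C (k + 1)).map C.subtype ≤ F
      · refine ⟨_, hnor k, Subgroup.map_subtype_le _, hk, ?_⟩
        rw [← Subgroup.map_commutator]
        exact hk1
      · exact ihd (k + 1) hk1 (by omega)
  obtain ⟨L, hLn, hLC, hLF, hLL⟩ := hex 0 (fun h => hCF (by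
    rwa [derivedSeries_zero, ← MonoidHom.range_eq_map, Subgroup.range_subtype] at h))
  haveI := hLn
  have hLN : L ≤ N := fun x hx => (hLC hx).1
  have hLnil : Group.IsNilpotent L := nilpotent_of_centralizes L F hLL fun U V hU hV hlt hc hUF =>
    Subgroup.commutator_le.2 fun u hu x hx => (hLC hx).2 U V ⟨hU, hV, hlt, hc⟩ hUF u hu
  haveI := hLnil
  refine hLF fun x hx => ⟨⟨x, hLN hx⟩, Cfsg.Lib.Components.le_fitting (N := L.subgroupOf N)
    (Group.nilpotent_of_mulEquiv (Subgroup.subgroupOfEquivOfLe hLN).symm) hx, rfl⟩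

end Cfsg.Agent.S3766
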