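import Cfsg.Statements.S3767
import Mathlib
import Cfsg.Agent.SolvStruct.CyclicSymplectic
import Cfsg.Agent.PGroups.Basic
import Cfsg.Agent.Coprime.Sylow
import Cfsg.Agent.Coprime.Hall

set_option autoImplicit false
open Cfsg

namespace Cfsg.Agent.S3767

open Subgroup
open scoped commutatorElement

/-- Let P be an extraspecial p-group of order p^(2n+1) and H a cyclic group of order h prime to p acting on P (inside a common finite group: H normalizes P) so that C_P(x) = Z(P) for every non-identity x ∈ H. Then h divides p^n + 1 or h divides p^n − 1. -/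
theorem result {G : Type*} [Group G] [Finite G] {p : ℕ} [Fact p.Prime] (P H : Subgroup G) (hP : Cfsg.IsExtraspecial p ↥P) (n : ℕ) (hn : Nat.card P = p ^ (2 * n + 1)) (hH : IsCyclic H) (hcop : (Nat.card H).Coprime p) (hHP : H ≤ Subgroup.normalizer (P : Set G)) (hfix : ∀ x ∈ H, x ≠ 1 → P ⊓ Subgroup.centralizer {x} = (Subgroup.center ↥P).map P.subtype) : Nat.card H ∣ p ^ n + 1 ∨ Nat.card H ∣ p ^ n - 1 := by
  classical
  have hp : p.Prime := Fact.out
  set h := Nat.card H with hh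
  have hh0 : 0 < h := Nat.card_pos
  rcases Nat.lt_or_ge h 3 with hsmall | hbig
  · obtain h1 | h1 : h = 1 ∨ h = 2 := by omega
    · left; rw [h1]; exact one_dvd _
    · right
      rw [h1] at hcop ⊢
      have hodd : Odd p := Nat.coprime_two_left.mp hcop
      exact (Nat.Odd.sub_odd hodd.pow odd_one).two_dvd
  obtain ⟨⟨x, hxH⟩, hgen⟩ := hH.exists_generator
  have hxo : orderOf x = h := by
    rw [← Subgroup.orderOf_mk x hxH, orderOf_eq_card_of_forall_mem_zpowers hgen]
  have hxN : x ∈ normalizer (P : Set G) := hHP hxH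
  obtain ⟨⟨hPp, hfrat, hcomm⟩, hcard⟩ := hP
  haveI : IsCyclic (center P) := isCyclic_of_prime_card hcard
  let ω : center P ≃* Multiplicative (ZMod p) := (hcard ▸ zmodCyclicMulEquiv (G := center P) inferInstance).symm
  have hcm : ∀ a b : P, ⁅a, b⁆ ∈ center P := fun a b => by
    rw [← hcomm]; exact commutator_mem_commutator (mem_top a) (mem_top b)
  have hcmul : ∀ a b c : P, ⁅a * b, c⁆ = ⁅a, c⁆ * ⁅b, c⁆ := fun a b c => by
    have h1 : ⁅a * b, c⁆ = a * ⁅b, c⁆ * a⁻¹ * ⁅a, c⁆ := by simp [commutatorElement_def, mul_assoc]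
    rw [h1, mem_center_iff.mp (hcm b c) a, mul_inv_cancel_right]
    exact mem_center_iff.mp (hcm a c) _
  have hcmul' : ∀ a b c : P, ⁅a, b * c⁆ = ⁅a, b⁆ * ⁅a, c⁆ := fun a b c => by
    have h1 : ⁅a, b * c⁆ = ⁅a, b⁆ * (b * ⁅a, c⁆ * b⁻¹) := by simp [commutatorElement_def, mul_assoc]
    rw [h1, mem_center_iff.mp (hcm a c) b, mul_inv_cancel_right]
  set Z := center P with hZ
  have hquot : ∀ a : P ⧸ Z, a ^ p = 1 := fun a => by
    induction a using QuotientGroup.induction_on with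
    | _ a => rw [← QuotientGroup.mk_pow, QuotientGroup.eq_one_iff, ← hfrat]; exact Cfsg.Lib.PGroups.pow_mem_frattini hPp a
  have hcommq : ∀ a b : P ⧸ Z, a * b = b * a := by
    intro a b
    induction a using QuotientGroup.induction_on with
    | _ a =>
      induction b using QuotientGroup.induction_on with
      | _ b =>
        rw [← QuotientGroup.mk_mul, ← QuotientGroup.mk_mul, QuotientGroup.eq]
        have h1 : (a * b)⁻¹ * (b * a) = ⁅b⁻¹, a⁻¹⁆ := by simp [commutatorElement_def, mul_assoc]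
        rw [h1]; exact hcm _ _
  letI : CommGroup (P ⧸ Z) := { (inferInstance : Group (P ⧸ Z)) with mul_comm := hcommq }
  letI : Module (ZMod p) (Additive (P ⧸ Z)) := AddCommGroup.zmodModule (n := p) fun a =>
    congrArg Additive.ofMul (hquot a.toMul)
  haveI : Module.Finite (ZMod p) (Additive (P ⧸ Z)) := Module.Finite.of_finite
  let B₀ : P → P → ZMod p := fun a b => Multiplicative.toAdd (ω ⟨⁅a, b⁆, hcm a b⟩)
  have hB₀l : ∀ a b c, B₀ (a * b) c = B₀ a c + B₀ b c := fun a b c => by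
    show Multiplicative.toAdd (ω ⟨_, _⟩) = Multiplicative.toAdd (ω ⟨_, _⟩) + Multiplicative.toAdd (ω ⟨_, _⟩)
    rw [← toAdd_mul, ← map_mul]
    congr 2
    exact Subtype.ext (hcmul a b c)
  have hB₀r : ∀ a b c, B₀ a (b * c) = B₀ a b + B₀ a c := fun a b c => by
    show Multiplicative.toAdd (ω ⟨_, _⟩) = Multiplicative.toAdd (ω ⟨_, _⟩) + Multiplicative.toAdd (ω ⟨_, _⟩)
    rw [← toAdd_mul, ← map_mul]
    congr 2
    exact Subtype.ext (hcmul' a b c)
  have hB₀0 : ∀ a b, B₀ a b = 0 ↔ ⁅a, b⁆ = 1 := fun a b => by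
    show Multiplicative.toAdd (ω ⟨⁅a, b⁆, hcm a b⟩) = 0 ↔ _
    rw [toAdd_eq_zero, MulEquiv.map_eq_one_iff, ← Subtype.val_inj, OneMemClass.coe_one]
  have hB₀Z : ∀ a b : P, a ∈ Z → B₀ a b = 0 ∧ B₀ b a = 0 := fun a b ha =>
    ⟨(hB₀0 a b).mpr (commutatorElement_eq_one_iff_mul_comm.mpr (mem_center_iff.mp ha b).symm),
      (hB₀0 b a).mpr (commutatorElement_eq_one_iff_mul_comm.mpr (mem_center_iff.mp ha b))⟩
  let B₁ : P ⧸ Z → P ⧸ Z → ZMod p := Quotient.lift₂ B₀ (fun a b a' b' ha hb => by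
    obtain ⟨m, hm, rfl⟩ : ∃ m ∈ Z, a * m = a' := ⟨a⁻¹ * a', QuotientGroup.leftRel_apply.mp ha, mul_inv_cancel_left a a'⟩
    obtain ⟨m', hm', rfl⟩ : ∃ m ∈ Z, b * m = b' := ⟨b⁻¹ * b', QuotientGroup.leftRel_apply.mp hb, mul_inv_cancel_left b b'⟩
    rw [hB₀l, hB₀r, hB₀r, (hB₀Z m b hm).1, (hB₀Z m m' hm).1, (hB₀Z m' a hm').2, add_zero, add_zero, add_zero])
  have hB₁ : ∀ a b : P, B₁ a b = B₀ a b := fun a b => rfl
  have hrep : ∀ u : Additive (P ⧸ Z), ∃ a : P, Additive.ofMul (a : P ⧸ Z) = u := fun u =>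
    ⟨_, congrArg Additive.ofMul (QuotientGroup.out_eq' u.toMul)⟩
  let B : LinearMap.BilinForm (ZMod p) (Additive (P ⧸ Z)) :=
    AddMonoidHom.toZModLinearMap p (AddMonoidHom.mk'
      (fun u => AddMonoidHom.toZModLinearMap p (AddMonoidHom.mk' (fun v => B₁ u.toMul v.toMul) (fun v w => by
        obtain ⟨a, rfl⟩ := hrep u; obtain ⟨b, rfl⟩ := hrep v; obtain ⟨c, rfl⟩ := hrep w
        exact hB₀r a b c)))
      (fun u v => by
        refine LinearMap.ext fun w => ?_
        obtain ⟨a, rfl⟩ := hrep u; obtain ⟨b, rfl⟩ := hrep v; obtain ⟨c, rfl⟩ := hrep w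
        exact hB₀l a b c))
  have hB : ∀ a b : P, B (Additive.ofMul (a : P ⧸ Z)) (Additive.ofMul (b : P ⧸ Z)) = B₀ a b := fun a b => rfl
  -- the automorphism
  let σ : normalizer (P : Set G) →* MulAut P := P.normalizerMonoidHom
  set s := σ ⟨x, hxN⟩ with hs
  have hsv : ∀ (i : ℕ) (a : P), (((s ^ i) a : P) : G) = x ^ i * a * (x ^ i)⁻¹ := fun i a => by
    rw [hs, ← map_pow]; rfl
  let F : MulAut P →* Module.End (ZMod p) (Additive (P ⧸ Z)) :=
    { toFun := fun e => AddMonoidHom.toZModLinearMap p (MonoidHom.toAdditive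
        (QuotientGroup.map Z Z e.toMonoidHom (fun z hz =>
          characteristic_iff_le_comap.mp (inferInstance : Z.Characteristic) e hz)))
      map_one' := LinearMap.ext fun u => by obtain ⟨a, rfl⟩ := hrep u; rfl
      map_mul' := fun e f => LinearMap.ext fun u => by obtain ⟨a, rfl⟩ := hrep u; rfl }
  have hF : ∀ (e : MulAut P) (a : P), F e (Additive.ofMul (a : P ⧸ Z)) = Additive.ofMul ((e a : P) : P ⧸ Z) :=
    fun e a => rfl
  have hcentx : ∀ z : P, z ∈ Z → x * (z : G) * x⁻¹ = z := fun z hz => by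
    have hx1 : x ≠ 1 := fun e => by rw [e, orderOf_one] at hxo; omega
    have h1 : (z : G) ∈ P ⊓ centralizer ({x} : Set G) := (hfix x hxH hx1).ge ⟨z, hz, rfl⟩
    rw [mul_inv_eq_iff_eq_mul]
    exact (mem_centralizer_singleton_iff.mp h1.2).symm
  have hinv : ∀ u v, B (F s u) (F s v) = B u v := fun u v => by
    obtain ⟨a, rfl⟩ := hrep u; obtain ⟨b, rfl⟩ := hrep v
    rw [hF, hF, hB, hB]
    show Multiplicative.toAdd (ω ⟨_, _⟩) = Multiplicative.toAdd (ω ⟨_, _⟩)
    congr 2
    refine Subtype.ext (Subtype.ext ?_)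
    have h0 : ∀ c : P, ((s c : P) : G) = x * c * x⁻¹ := fun c => by simpa using hsv 1 c
    show ((⁅s a, s b⁆ : P) : G) = ((⁅a, b⁆ : P) : G)
    rw [← map_commutatorElement, h0, hcentx _ (hcm a b)]
  haveI := hPp.isNilpotent
  have hPsol : Group.IsSolvable P := inferInstance
  have hfree : ∀ i, 0 < i → i < h → ∀ u, F (s ^ i) u = u → u = 0 := by
    intro i hi0 hih u hu
    obtain ⟨a, rfl⟩ := hrep u
    rw [hF] at hu
    have hu' : (a : P)⁻¹ * (s ^ i) a ∈ Z := QuotientGroup.eq.mp (Additive.ofMul.injective hu).symm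
    set y := x ^ i with hy
    have hyH : y ∈ H := pow_mem hxH i
    have hy1 : y ≠ 1 := pow_ne_one_of_lt_orderOf hi0.ne' (hxo.symm ▸ hih)
    have hyN : y ∈ normalizer (P : Set G) := hHP hyH
    set D := Z.map P.subtype
    have hyD : y ∈ normalizer (D : Set G) := by
      refine Cfsg.Lib.Coprime.mem_normalizer_of_conj_mem ?_ ?_
      · rintro _ ⟨z, hz, rfl⟩
        exact ⟨P.normalizerMonoidHom ⟨y, hyN⟩ z, characteristic_iff_le_comap.mp inferInstance _ hz, rfl⟩
      · rintro _ ⟨z, hz, rfl⟩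
        refine ⟨P.normalizerMonoidHom ⟨y⁻¹, inv_mem hyN⟩ z, characteristic_iff_le_comap.mp inferInstance _ hz, ?_⟩
        show y⁻¹ * (z : G) * y⁻¹⁻¹ = y⁻¹ * (z : G) * y
        rw [inv_inv]
    have hk : ∀ g ∈ zpowers y, (a : G)⁻¹ * g * a * g⁻¹ ∈ D := by
      intro g hg
      obtain ⟨j, rfl⟩ := mem_powers_iff_mem_zpowers.mpr hg
      clear hg
      induction j with
      | zero => simp
      | succ j ih =>
        have h1 : y * ((a : G)⁻¹ * y ^ j * a * (y ^ j)⁻¹) * y⁻¹ ∈ D := (mem_normalizer_iff.mp hyD _).mp ih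
        have h2 : (a : G)⁻¹ * (y * a * y⁻¹) ∈ D :=
          ⟨_, hu', by rw [Subgroup.subtype_apply, Subgroup.coe_mul, Subgroup.coe_inv, hsv]⟩
        have := mul_mem h2 h1
        simp only [pow_succ', mul_inv_rev, mul_assoc] at this ⊢
        simpa [mul_assoc] using this
    have hcop' : (Nat.card (zpowers y)).Coprime (Nat.card P) := by
      refine Nat.Coprime.coprime_dvd_left (Subgroup.card_dvd_of_le (zpowers_le.mpr hyH)) ?_
      rw [hn]; exact hcop.pow_right _
    obtain ⟨d, hd, hdc⟩ := Cfsg.Lib.Coprime.exists_fixed_in_coset (A := zpowers y) (D := D) (zpowers_le.mpr hyD)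
      (Cfsg.Lib.Coprime.coprime_of_le (map_subtype_le _) hcop')
      (Or.inr (Cfsg.Lib.Coprime.isSolvable_of_le (map_subtype_le _) hPsol)) hk
    obtain ⟨d', hd', rfl⟩ := hd
    have h3 : ((a * d' : P) : G) ∈ P ⊓ centralizer ({y} : Set G) := ⟨(a * d').2,
      mem_centralizer_singleton_iff.mpr (mem_centralizer_iff.mp hdc y (mem_zpowers y)).symm⟩
    rw [hfix y hyH hy1] at h3
    obtain ⟨z, hz, hze⟩ := h3
    have h4 : a * d' ∈ Z := by rwa [show a * d' = z from (Subtype.ext hze).symm]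
    have h5 := mul_mem h4 (inv_mem hd')
    rw [mul_inv_cancel_right] at h5
    rw [(QuotientGroup.eq_one_iff a).mpr h5]; rfl
  -- matrices
  let b := Module.finBasis (ZMod p) (Additive (P ⧸ Z))
  have hdim : Module.finrank (ZMod p) (Additive (P ⧸ Z)) = 2 * n := by
    refine Nat.pow_right_injective hp.two_le (?_ : p ^ _ = p ^ _)
    have hpow := Module.natCard_eq_pow_finrank (K := ZMod p) (V := Additive (P ⧸ Z))
    rw [Nat.card_zmod] at hpow
    rw [← hpow]
    refine Nat.eq_of_mul_eq_mul_right hp.pos ?_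
    rw [← pow_succ, ← hn, card_eq_card_quotient_mul_card_subgroup Z, hcard]
    rfl
  have hsh : s ^ h = 1 := MulEquiv.ext fun a => Subtype.ext (by
    rw [hsv, ← hxo, pow_orderOf_eq_one]; simp)
  refine Cfsg.Lib.CyclicSymplectic.dvd_of_fixed_point_free n (by rw [Fintype.card_fin]; exact hdim) hbig hcop
    (LinearMap.toMatrixAlgEquiv b (F s)) (LinearMap.toMatrix₂ b b B) ?_ ?_ ?_ ?_
  · rw [← map_pow, ← map_pow, hsh, map_one, map_one]
  · rw [Matrix.isUnit_iff_isUnit_det, isUnit_iff_ne_zero, ← LinearMap.separatingLeft_iff_det_ne_zero b]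
    intro u hu
    obtain ⟨a, rfl⟩ := hrep u
    have ha : a ∈ Z := mem_center_iff.mpr fun c => by
      have h1 := hu (Additive.ofMul (c : P ⧸ Z))
      rw [hB, hB₀0, commutatorElement_eq_one_iff_mul_comm] at h1
      exact h1.symm
    rw [(QuotientGroup.eq_one_iff a).mpr ha]; rfl
  · show (LinearMap.toMatrix b b (F s)).transpose * LinearMap.toMatrix₂ b b B * LinearMap.toMatrix b b (F s) = _
    rw [← LinearMap.toMatrix₂_compl₁₂]
    congr 1
    exact LinearMap.ext fun u => LinearMap.ext fun v => hinv u v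
  · intro i hi0 hih v hv
    rw [← map_pow, ← map_pow] at hv
    have h1 : b.equivFun (F (s ^ i) (b.equivFun.symm v)) = v := by
      conv_rhs => rw [← hv]
      have h2 := LinearMap.toMatrix_mulVec_repr b b (F (s ^ i)) (b.equivFun.symm v)
      funext j
      have h3 := congrFun h2 j
      rw [show (⇑(b.repr (b.equivFun.symm v))) = v from b.equivFun.apply_symm_apply v] at h3
      exact h3.symm
    have h4 := hfree i hi0 hih _ (b.equivFun.injective (h1.trans (b.equivFun.apply_symm_apply v).symm))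
    rw [← b.equivFun.apply_symm_apply v, h4, map_zero]

end Cfsg.Agent.S3767
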