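import Cfsg.Statements.S3768
import Cfsg.Agent.Frobenius.Kernel

set_option autoImplicit false
open Cfsg

namespace Cfsg.Agent.S3768

/-- Let G be a finite Frobenius group with Frobenius complement R and Frobenius kernel K (the identity together with the elements in no conjugate of R), and let N be a normal subgroup of G not containing K. Then G/N is a Frobenius group with Frobenius complement RN/N whose Frobenius kernel is the image of K. -/
theorem result {G : Type*} [Group G] [Finite G] (R : Subgroup G) (hR : Cfsg.IsFrobeniusComplement R) (N : Subgroup G) [N.Normal] (hKN : ¬ Cfsg.frobeniusKernel R ⊆ N) : Cfsg.IsFrobeniusComplement (R.map (QuotientGroup.mk' N)) ∧ Cfsg.frobeniusKernel (R.map (QuotientGroup.mk' N)) = QuotientGroup.mk' N '' Cfsg.frobeniusKernel R := by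
  obtain ⟨K, hK, hKn, hKc⟩ := Cfsg.Lib.Frobenius.exists_kernel hR
  haveI := hKn
  have hKne : K ≠ ⊥ := fun h => hR.2.1 (Subgroup.eq_top_of_card_eq R (by
    rw [← hKc.card_mul, h, Subgroup.card_bot, one_mul]))
  have hfp := (Cfsg.Lib.Frobenius.isFrobeniusComplement_iff_fpf hKc hKne hR.1).mp hR
  have hinj : ∀ r ∈ R, r ≠ 1 → Function.Injective (fun k : K => (k : G) * r * (k : G)⁻¹ * r⁻¹) := by
    intro r hr hr1 a b hab
    simp only [mul_left_inj] at hab
    have hm : (b : G)⁻¹ * a ∈ K ⊓ Subgroup.centralizer {r} := by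
      refine ⟨K.mul_mem (K.inv_mem b.2) a.2, Subgroup.mem_centralizer_singleton_iff.mpr ?_⟩
      calc (b : G)⁻¹ * a * r = (b : G)⁻¹ * ((a : G) * r * (a : G)⁻¹) * a := by group
        _ = r * ((b : G)⁻¹ * a) := by rw [hab]; group
    rw [hfp r hr hr1, Subgroup.mem_bot, inv_mul_eq_one] at hm
    exact Subtype.ext hm.symm
  have hsurj : ∀ r ∈ R, r ≠ 1 → ∀ k ∈ K, ∃ c : K, (c : G) * r * (c : G)⁻¹ * r⁻¹ = k := by
    intro r hr hr1 k hk
    let f : K → K := fun c => ⟨(c : G) * r * (c : G)⁻¹ * r⁻¹, by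
      rw [mul_assoc, mul_assoc, ← mul_assoc r]
      exact mul_mem c.2 (hKn.conj_mem _ (K.inv_mem c.2) r)⟩
    obtain ⟨c, hc⟩ := Finite.surjective_of_injective (f := f)
      (fun a b h => hinj r hr hr1 (congrArg Subtype.val h)) ⟨k, hk⟩
    exact ⟨c, congrArg Subtype.val hc⟩
  have hNK : N ≤ K := by
    intro x hx
    by_contra hxK
    refine hKN fun k hk => ?_
    have hx' : x ∉ Cfsg.frobeniusKernel R := fun h => hxK (by rw [← SetLike.mem_coe, hK]; exact h)
    simp only [Cfsg.frobeniusKernel, Set.mem_setOf_eq, not_or, not_forall, not_not] at hx'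
    obtain ⟨hx1, a, ha⟩ := hx'
    have hy : a⁻¹ * x * a ∈ R := Cfsg.Lib.Coprime.mem_conjMap.mp ha
    have hy1 : a⁻¹ * x * a ≠ 1 := fun h => hx1 (by
      have := congrArg (fun z => a * z * a⁻¹) h
      simpa [mul_assoc] using this)
    have hyN : a⁻¹ * x * a ∈ N := by simpa using Subgroup.Normal.conj_mem inferInstance x hx a⁻¹
    have hk' : k ∈ K := by rw [← SetLike.mem_coe, hK]; exact hk
    obtain ⟨c, hc⟩ := hsurj _ hy hy1 k hk'
    rw [← hc]
    exact mul_mem (Subgroup.Normal.conj_mem inferInstance _ hyN _) (inv_mem hyN)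
  set f := QuotientGroup.mk' N with hf
  have hfs : Function.Surjective f := QuotientGroup.mk'_surjective N
  haveI : (K.map f).Normal := hKn.map f hfs
  have hRN : ∀ r ∈ R, r ∈ N → r = 1 := fun r hr hrN =>
    Subgroup.disjoint_def.mp hKc.disjoint (hNK hrN) hr
  have hcomp : (K.map f).IsComplement' (R.map f) := by
    refine Subgroup.isComplement'_of_disjoint_and_mul_eq_univ (Subgroup.disjoint_def.mpr ?_) ?_
    · intro y hy1 hy2
      obtain ⟨k, hk, rfl⟩ := Subgroup.mem_map.mp hy1
      obtain ⟨r, hr, hkr⟩ := Subgroup.mem_map.mp hy2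
      rw [hf, QuotientGroup.mk'_apply, QuotientGroup.mk'_apply, QuotientGroup.eq] at hkr
      have hrK : r ∈ K := by
        have h := mul_mem hk (inv_mem (hNK hkr))
        simpa [mul_assoc] using h
      have hr1 := Subgroup.disjoint_def.mp hKc.disjoint hrK hr
      rw [hf, QuotientGroup.mk'_apply, QuotientGroup.eq_one_iff]
      simpa [hr1] using hkr
    · refine Set.eq_univ_of_forall fun y => ?_
      obtain ⟨x, rfl⟩ := hfs y
      obtain ⟨⟨k, r⟩, hkr⟩ := hKc.2 x
      exact ⟨f k, Subgroup.mem_map_of_mem f k.2, f r, Subgroup.mem_map_of_mem f r.2, by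
        show f k * f r = f x; rw [← map_mul]; exact congrArg f hkr⟩
  have hKbne : K.map f ≠ ⊥ := fun h => hKN fun k hk => by
    have hk' : k ∈ K := by rw [← SetLike.mem_coe, hK]; exact hk
    have := Subgroup.mem_map_of_mem f hk'
    rwa [h, Subgroup.mem_bot, hf, QuotientGroup.mk'_apply, QuotientGroup.eq_one_iff] at this
  have hRbne : R.map f ≠ ⊥ := fun h => hR.1 ((Subgroup.eq_bot_iff_forall R).mpr fun r hr => by
    have := Subgroup.mem_map_of_mem f hr
    rw [h, Subgroup.mem_bot, hf, QuotientGroup.mk'_apply, QuotientGroup.eq_one_iff] at this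
    exact hRN r hr this)
  have hF : Cfsg.IsFrobeniusComplement (R.map f) := by
    rw [Cfsg.Lib.Frobenius.isFrobeniusComplement_iff_fpf hcomp hKbne hRbne]
    intro y hy hy1
    obtain ⟨r, hr, rfl⟩ := Subgroup.mem_map.mp hy
    have hr1 : r ≠ 1 := fun h => hy1 (by rw [h, map_one])
    rw [Subgroup.eq_bot_iff_forall]
    rintro z ⟨hz, hzc⟩
    obtain ⟨k, hk, rfl⟩ := Subgroup.mem_map.mp hz
    replace hzc := Subgroup.mem_centralizer_singleton_iff.mp hzc
    have h0 : f (k * r * k⁻¹ * r⁻¹) = 1 := by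
      rw [map_mul, map_mul, map_mul, map_inv, map_inv, hzc]
      group
    rw [hf, QuotientGroup.mk'_apply, QuotientGroup.eq_one_iff] at h0
    let g : N → N := fun c => ⟨(c : G) * r * (c : G)⁻¹ * r⁻¹, by
      rw [mul_assoc, mul_assoc, ← mul_assoc r]
      exact mul_mem c.2 (Subgroup.Normal.conj_mem inferInstance _ (N.inv_mem c.2) r)⟩
    obtain ⟨n, hn⟩ := Finite.surjective_of_injective (f := g) (fun a b h => by
      have := hinj r hr hr1 (a₁ := ⟨a, hNK a.2⟩) (a₂ := ⟨b, hNK b.2⟩) (congrArg Subtype.val h)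
      exact Subtype.ext (congrArg (fun t : K => (t : G)) this)) ⟨_, h0⟩
    have := hinj r hr hr1 (a₁ := ⟨n, hNK n.2⟩) (a₂ := ⟨k, hk⟩) (congrArg Subtype.val hn)
    rw [hf, QuotientGroup.mk'_apply, QuotientGroup.eq_one_iff,
      ← show (n : G) = k from congrArg (fun t : K => (t : G)) this]
    exact n.2
  refine ⟨hF, ?_⟩
  rw [← Cfsg.Lib.Frobenius.normal_eq_kernel hF hcomp, ← hK, Subgroup.coe_map]

end Cfsg.Agent.S3768
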