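import Cfsg.Statements.S3769
import Mathlib
import Cfsg.Agent.OddLocal.FixedPointFreeGroup
import Cfsg.Agent.Coprime.Sylow

set_option autoImplicit false
open Cfsg

namespace Cfsg.Agent.S3769

open Subgroup
open scoped commutatorElement

/-- Let G and V be subgroups of a finite group with G solvable of odd order normalizing V, V an elementary abelian ℓ-group for a prime ℓ not dividing the order of G, and suppose G has a normal Hall subgroup K with a complement R of prime order. If C_V(R) = 1, then [R, K] centralizes V. -/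
theorem result {X : Type*} [Group X] [Finite X] (G : Subgroup X) (hsolv : Group.IsSolvable G) (hodd : Odd (Nat.card G)) (V : Subgroup X) {ℓ : ℕ} (hℓ : ℓ.Prime) (hV : Cfsg.IsElementaryAbelian ℓ V) (hℓG : ¬ ℓ ∣ Nat.card G) (hGV : G ≤ Subgroup.normalizer (V : Set X)) (K R : Subgroup X) (hKG : K ≤ G) (hKn : G ≤ Subgroup.normalizer (K : Set X)) (hHall : (Nat.card K).Coprime (K.relIndex G)) (hRG : R ≤ G) (hR : (Nat.card R).Prime) (hKR : K ⊓ R = ⊥) (hKRG : K ⊔ R = G) (hCV : V ⊓ Subgroup.centralizer (R : Set X) = ⊥) : ⁅R, K⁆ ≤ Subgroup.centralizer (V : Set X) := by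
  classical
  haveI := Fact.mk hℓ
  haveI := hV.1
  letI : CommGroup V := { (inferInstance : Group V) with mul_comm := mul_comm' }
  set r := Nat.card R with hr
  have hRK : R ≤ normalizer (K : Set X) := hRG.trans hKn
  haveI : (K.subgroupOf G).Normal := by
    constructor
    intro k hk g
    exact (mem_normalizer_iff.mp (hKn g.2) _).mp hk
  have hdvd : r ∣ K.relIndex G := by
    show r ∣ (K.subgroupOf G).index
    refine Subgroup.card_dvd_of_injective ((QuotientGroup.mk' (K.subgroupOf G)).comp (inclusion hRG)) ?_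
    refine (injective_iff_map_eq_one _).mpr fun a ha => ?_
    have h1 : (a : X) ∈ K ⊓ R := ⟨(QuotientGroup.eq_one_iff (N := K.subgroupOf G) (inclusion hRG a)).mp ha, a.2⟩
    rw [hKR, mem_bot] at h1
    exact Subtype.ext h1
  have hcop : (Nat.card R).Coprime (Nat.card K) := (hHall.coprime_dvd_right hdvd).symm
  let φ : G →* MulAut V := V.normalizerMonoidHom.comp (inclusion hGV)
  have hφ : ∀ (g : G) (v : V), ((φ g v : V) : X) = (g : X) * v * (g : X)⁻¹ := fun g v => rfl
  obtain ⟨⟨x, hxR⟩, hgen⟩ := (isCyclic_of_prime_card (p := r) (hp := ⟨hR⟩) rfl).exists_generator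
  have hxr : x ^ r = 1 := congrArg Subtype.val (pow_card_eq_one' : (⟨x, hxR⟩ : R) ^ Nat.card R = 1)
  have hRx : ∀ a ∈ R, ∃ k : ℤ, x ^ k = a := fun a ha => by
    obtain ⟨k, hk⟩ := mem_zpowers_iff.mp (hgen ⟨a, ha⟩)
    exact ⟨k, congrArg Subtype.val hk⟩
  set xg : G := ⟨x, hRG hxR⟩
  have hfix : ∀ m : V, φ xg m = m → m = 1 := fun m hm => by
    have h1 : x * (m : X) * x⁻¹ = m := congrArg Subtype.val hm
    have h2 : (m : X) ∈ V ⊓ centralizer (R : Set X) := by
      refine ⟨m.2, mem_centralizer_iff.mpr fun a ha => ?_⟩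
      obtain ⟨k, rfl⟩ := hRx a ha
      exact (Commute.zpow_left (mul_inv_eq_iff_eq_mul.mp h1) k).eq
    rw [hCV, mem_bot] at h2
    exact Subtype.ext h2
  let C := (centralizer ({φ xg} : Set (MulAut V))).comap φ
  set K' := K.subgroupOf G
  have hKsol : Group.IsSolvable K := Cfsg.Lib.Coprime.isSolvable_of_le hKG hsolv
  have hKC : K' ≤ C := by
    have hidx : (C.subgroupOf K').index = 1 := by
      rw [Nat.eq_one_iff_not_exists_prime_dvd]
      intro q hq hqd
      haveI := Fact.mk hq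
      obtain ⟨Q, hQ⟩ := Cfsg.Lib.Coprime.exists_invariant_sylow hRK hcop (Or.inr hKsol) q
      let e : K' ≃* K := subgroupOfEquivOfLe hKG
      let Q' : Sylow q K' := Q.comapOfInjective e.toMonoidHom e.injective (by
        rw [MonoidHom.range_eq_top.mpr e.surjective]; exact le_top)
      refine Q'.not_dvd_index (hqd.trans (index_dvd_of_le fun u hu => ?_))
      have hqK : q ∣ Nat.card K := (hqd.trans (index_dvd_card _)).trans (Nat.card_congr e.toEquiv).dvd
      have hrq : r ≠ q := fun h => hR.ne_one (Nat.eq_one_of_dvd_coprimes hcop dvd_rfl (h ▸ hqK))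
      have hqG : q ∣ Nat.card G := hqK.trans (card_dvd_of_le hKG)
      have hq2 : q ≠ 2 := fun h => (Nat.not_even_iff_odd.mpr hodd) (even_iff_two_dvd.mpr (h ▸ hqG))
      have hrℓ : r ≠ ℓ := fun h => hℓG (h ▸ card_dvd_of_le hRG)
      have hqℓ : q ≠ ℓ := fun h => hℓG (h ▸ hqG)
      set QG := ((Q : Subgroup K).map K.subtype).subgroupOf G
      have hQGp : IsPGroup q QG := (Q.2.map K.subtype).comap_of_injective G.subtype G.subtype_injective
      have hxN : xg ∈ normalizer (QG : Set G) := mem_normalizer_iff.mpr fun a =>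
        mem_normalizer_iff.mp (hQ hxR) (a : X)
      have h1 := Cfsg.Lib.OddP.commute_of_no_fixed_elementary (p := ℓ) (fun m => Subtype.ext (hV.2 m m.2)) φ xg
        hR hq hrq hq2 hrℓ hqℓ (Subtype.ext hxr) hfix QG hQGp hxN (u : G) ⟨e u, hu, rfl⟩
      exact mem_comap.mpr (mem_centralizer_singleton_iff.mpr h1.symm)
    intro k hk
    exact (subgroupOf_eq_top.mp (index_eq_one.mp hidx)) hk
  rw [commutator_le]
  intro a ha k hk
  obtain ⟨i, rfl⟩ := hRx a ha
  have hc : φ (xg ^ i) * φ ⟨k, hKG hk⟩ = φ ⟨k, hKG hk⟩ * φ (xg ^ i) := by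
    have h1 : φ ⟨k, hKG hk⟩ * φ xg = φ xg * φ ⟨k, hKG hk⟩ :=
      mem_centralizer_singleton_iff.mp (hKC (show (⟨k, hKG hk⟩ : G) ∈ K' from hk))
    rw [map_zpow]
    exact (Commute.zpow_left h1.symm i).eq
  refine mem_centralizer_iff.mpr fun v hv => ?_
  have h2 : φ ⁅xg ^ i, (⟨k, hKG hk⟩ : G)⁆ = 1 := by
    rw [map_commutatorElement, commutatorElement_eq_one_iff_mul_comm]; exact hc
  have h3 := congrArg (fun f : MulAut V => ((f ⟨v, hv⟩ : V) : X)) h2
  rw [hφ] at h3
  simp only [MulAut.one_apply] at h3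
  have h4 : ((⁅xg ^ i, (⟨k, hKG hk⟩ : G)⁆ : G) : X) = ⁅x ^ i, k⁆ := by
    simp [commutatorElement_def, xg]
  rw [h4] at h3
  exact (mul_inv_eq_iff_eq_mul.mp h3).symm

end Cfsg.Agent.S3769
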