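import Cfsg.Statements.S3770
import Mathlib
import Cfsg.Agent.Frobenius.Kernel
import Cfsg.Agent.S1446

set_option autoImplicit false
open Cfsg

namespace Cfsg.Agent.S3770

/-- Let G and V be subgroups of a finite group with G a Frobenius group with complement R of prime order and kernel K, G normalizing V, and V an elementary abelian ℓ-group for a prime ℓ not dividing the order of G. If C_V(R) has order ℓ, then the derived subgroup of K centralizes V. -/
theorem result {X : Type*} [Group X] [Finite X] (G : Subgroup X) (V : Subgroup X) {ℓ : ℕ} (hℓ : ℓ.Prime) (hV : Cfsg.IsElementaryAbelian ℓ V) (hℓG : ¬ ℓ ∣ Nat.card G) (hGV : G ≤ Subgroup.normalizer (V : Set X)) (R : Subgroup ↥G) (hR : Cfsg.IsFrobeniusComplement R) (hRp : (Nat.card R).Prime) (hCV : Nat.card ↥(V ⊓ Subgroup.centralizer ((R.map G.subtype : Subgroup X) : Set X)) = ℓ) : ⁅Subgroup.closure (Subtype.val '' Cfsg.frobeniusKernel R), Subgroup.closure (Subtype.val '' Cfsg.frobeniusKernel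 R)⁆ ≤ Subgroup.centralizer (V : Set X) := by
  haveI := hℓ
  haveI := Fact.mk hℓ
  obtain ⟨N, hN, hNn, hc⟩ := Cfsg.Lib.Frobenius.exists_kernel hR
  haveI := hNn
  rw [← hN, ← Subgroup.coe_subtype, ← Subgroup.coe_map, Subgroup.closure_eq]
  set K := N.map G.subtype with hKdef
  set R' := R.map G.subtype with hR'def
  have hKG : K ≤ G := Subgroup.map_subtype_le _
  have hRG : R' ≤ G := Subgroup.map_subtype_le _
  have hsup : K ⊔ R' = G := by
    rw [hKdef, hR'def, ← Subgroup.map_sup, hc.sup_eq_top, ← MonoidHom.range_eq_map, Subgroup.range_subtype]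
  have hinf : K ⊓ R' = ⊥ := by
    rw [hKdef, hR'def, ← Subgroup.map_inf _ _ _ G.subtype_injective, hc.disjoint.eq_bot, Subgroup.map_bot]
  have hGK : G ≤ Subgroup.normalizer (K : Set X) := fun g hg =>
    Cfsg.Lib.Coprime.mem_normalizer_of_conj_mem
      (fun x ⟨n, hn, hx⟩ => ⟨⟨g, hg⟩ * n * (⟨g, hg⟩ : G)⁻¹, hNn.conj_mem n hn _, by rw [← hx]; rfl⟩)
      (fun x ⟨n, hn, hx⟩ => ⟨(⟨g, hg⟩ : G)⁻¹ * n * ⟨g, hg⟩, by
        simpa using hNn.conj_mem n hn (⟨g, hg⟩ : G)⁻¹, by rw [← hx]; rfl⟩)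
  have hN0 : N ≠ ⊥ := fun h => hR.2.1 (by simpa [h] using hc.sup_eq_top)
  have hfpf := (Cfsg.Lib.Frobenius.isFrobeniusComplement_iff_fpf hc hN0 hR.1).mp hR
  have hfrob : ∀ r ∈ R', r ≠ 1 → K ⊓ Subgroup.centralizer ({r} : Set X) = ⊥ := by
    rintro r ⟨r', hr', rfl⟩ hr1
    rw [eq_bot_iff]
    rintro x ⟨⟨k, hk, rfl⟩, hxc⟩
    have hmem : k ∈ N ⊓ Subgroup.centralizer ({r'} : Set G) :=
      ⟨hk, Subgroup.mem_centralizer_singleton_iff.mpr
        (Subtype.ext (Subgroup.mem_centralizer_singleton_iff.mp hxc))⟩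
    rw [hfpf r' hr' (fun h => hr1 (by rw [h, map_one])), Subgroup.mem_bot] at hmem
    rw [hmem, map_one]; exact one_mem _
  haveI : IsMulCommutative V := hV.1
  have hVp : IsPGroup ℓ V := fun v => ⟨1, by
    apply Subtype.ext
    rw [pow_one, Subgroup.coe_pow, Subgroup.coe_one]
    exact hV.2 v v.2⟩
  obtain ⟨n, hn⟩ := IsPGroup.iff_card.mp hVp
  have hcopG : (Nat.card G).Coprime (Nat.card V) := by
    rw [hn]
    exact ((hℓ.coprime_iff_not_dvd.mpr hℓG).pow_left n).symm
  have hKV : K ≤ Subgroup.normalizer (V : Set X) := hKG.trans hGV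
  obtain ⟨hdec1, hdec2⟩ := Cfsg.Lib.Coprime.abelian_coprime_decomp hKV
    (hcopG.coprime_dvd_left (Subgroup.card_dvd_of_le hKG))
  set M := ⁅V, K⁆ with hM
  have hMV : M ≤ V := Cfsg.Lib.Coprime.commutator_le_of_le_normalizer hKV
  haveI : IsMulCommutative M := ⟨⟨fun a b => Subtype.ext
    (congrArg Subtype.val (mul_comm' (⟨a, hMV a.2⟩ : V) ⟨b, hMV b.2⟩) :)⟩⟩
  have hconjM : ∀ g ∈ G, M.map (MulAut.conj g).toMonoidHom = M := fun g hg => by
    have h1 : ∀ A : Subgroup X, g ∈ Subgroup.normalizer (A : Set X) →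
        A.map (MulAut.conj g).toMonoidHom = A := fun A h => Cfsg.Lib.Coprime.conjMap_eq_self h
    rw [hM, Subgroup.map_commutator, h1 V (hGV hg), h1 K (hGK hg)]
  have hGM : G ≤ Subgroup.normalizer (M : Set X) := fun g hg =>
    Cfsg.Lib.Coprime.conjMap_eq_self_iff.mp (hconjM g hg)
  have hcyc : IsCyclic ↥(M ⊓ Subgroup.centralizer (R' : Set X)) := by
    haveI : IsCyclic ↥(V ⊓ Subgroup.centralizer (R' : Set X)) := isCyclic_of_prime_card hCV
    exact isCyclic_of_injective (Subgroup.inclusion (inf_le_inf_right _ hMV))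
      (Subgroup.inclusion_injective _)
  have hCK : M ⊓ Subgroup.centralizer (K : Set X) = ⊥ := by
    rw [eq_bot_iff]
    rintro x ⟨hx1, hx2⟩
    rw [← hdec1]
    exact ⟨⟨hMV hx1, hx2⟩, hx1⟩
  have hmain := Cfsg.Agent.S1446.commutator_centralizes K R' M hinf (hRG.trans hGK) hfrob
    (by rwa [hR'def, Subgroup.card_map_of_injective G.subtype_injective])
    ((hVp.to_le hMV).isNilpotent)
    (hsup.le.trans hGM) (by rw [hsup]; exact hcopG.coprime_dvd_right (Subgroup.card_dvd_of_le hMV))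
    hCK hcyc
  rw [Subgroup.le_centralizer_iff, ← hdec2]
  refine sup_le ?_ (Subgroup.le_centralizer_iff.mp hmain)
  refine Subgroup.le_centralizer_iff.mp (le_trans ?_ (Subgroup.centralizer_le (SetLike.coe_subset_coe.mpr inf_le_right)))
  exact (Cfsg.Lib.Coprime.commutator_le_of_le_normalizer Subgroup.le_normalizer).trans
    (Subgroup.le_centralizer_iff.mp le_rfl)

end Cfsg.Agent.S3770
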