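import Cfsg.Statements.S3772
import Cfsg.Agent.PGroups.Basic
import Cfsg.Agent.Elementary.Basics

set_option autoImplicit false
open Cfsg

namespace Cfsg.Agent.S3772

open scoped commutatorElement


/-- Let G be a finite 2-group whose Frattini subgroup Φ(G) has order 2, with |G : Φ(G)| = 2^d, and let j be the number of elements x of G with x² = 1. Then j = 2^d, or j = 2^d + 2^(d−r) or j = 2^d − 2^(d−r) for some positive integer r with 2r ≤ d. Moreover if d = 2r and j is 2^d + 2^r or 2^d − 2^r, then G is extraspecial. -/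
theorem result {G : Type*} [Group G] [Finite G] (hG : IsPGroup 2 G) (hΦ : Nat.card (frattini G) = 2) (d : ℕ) (hd : (frattini G).index = 2 ^ d) : (Nat.card {x : G // x ^ 2 = 1} = 2 ^ d ∨ ∃ r : ℕ, 1 ≤ r ∧ 2 * r ≤ d ∧ (Nat.card {x : G // x ^ 2 = 1} = 2 ^ d + 2 ^ (d - r) ∨ Nat.card {x : G // x ^ 2 = 1} + 2 ^ (d - r) = 2 ^ d)) ∧ (∀ r : ℕ, d = 2 * r → (Nat.card {x : G // x ^ 2 = 1} = 2 ^ d + 2 ^ r ∨ Nat.card {x : G // x ^ 2 = 1} + 2 ^ r = 2 ^ d) → Cfsg.IsExtraspecial 2 G) := by
  classical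
  haveI : Fact (Nat.Prime 2) := ⟨Nat.prime_two⟩
  haveI : Fintype G := Fintype.ofFinite G
  have hΦc : frattini G ≤ Subgroup.center G := Cfsg.Lib.PGroups.le_center_of_card_eq_prime hG hΦ
  obtain ⟨z, hzΦ, hz1, hall⟩ : ∃ z ∈ frattini G, z ≠ 1 ∧ ∀ x ∈ frattini G, x = 1 ∨ x = z := by
    haveI : Fintype (frattini G) := Fintype.ofFinite _
    obtain ⟨a, b, hab, hu⟩ := Nat.card_eq_two_iff.1 hΦ
    have key : ∀ y : frattini G, y = a ∨ y = b := fun y => by
      have : y ∈ ({a, b} : Set (frattini G)) := hu ▸ Set.mem_univ y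
      simpa using this
    rcases key 1 with h | h
    · refine ⟨b, b.2, fun h' => hab (h ▸ (Subtype.ext h'.symm)), fun x hx => ?_⟩
      rcases key ⟨x, hx⟩ with e | e
      · exact Or.inl (by rw [show x = ((⟨x, hx⟩ : frattini G) : G) from rfl, e, ← h]; rfl)
      · exact Or.inr (by rw [show x = ((⟨x, hx⟩ : frattini G) : G) from rfl, e])
    · refine ⟨a, a.2, fun h' => hab ((Subtype.ext h' : a = 1).trans h), fun x hx => ?_⟩
      rcases key ⟨x, hx⟩ with e | e
      · exact Or.inr (by rw [show x = ((⟨x, hx⟩ : frattini G) : G) from rfl, e])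
      · exact Or.inl (by rw [show x = ((⟨x, hx⟩ : frattini G) : G) from rfl, e, ← h]; rfl)
  have hsq : ∀ x : G, x ^ 2 = 1 ∨ x ^ 2 = z := fun x => hall _ (Cfsg.Lib.PGroups.pow_mem_frattini hG x)
  have hcom : ∀ x y : G, ⁅x, y⁆ = 1 ∨ ⁅x, y⁆ = z := fun x y =>
    hall _ (Cfsg.Lib.PGroups.commutator_le_frattini hG (Subgroup.commutator_mem_commutator (Subgroup.mem_top x) (Subgroup.mem_top y)))
  have hzc : ∀ x : G, x * z = z * x := fun x => Subgroup.mem_center_iff.1 (hΦc hzΦ) x
  have hzz : z * z = 1 := by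
    rcases hall _ (mul_mem hzΦ hzΦ) with h | h
    · exact h
    · exact absurd (mul_eq_left.1 h) hz1
  let ε : G → ℤ := fun w => if w = 1 then 1 else -1
  have hεz : ε z = -1 := if_neg hz1
  have hε1 : ε 1 = 1 := if_pos rfl
  let χ : G → ℤ := fun x => ε (x ^ 2)
  have hεmul : ∀ a b : G, (a = 1 ∨ a = z) → (b = 1 ∨ b = z) → ε (a * b) = ε a * ε b := by
    intro a b ha hb
    rcases ha with rfl | rfl <;> rcases hb with rfl | rfl <;> simp [hε1, hεz, hzz]
  have hεsq : ∀ a : G, ε a * ε a = 1 := fun a => by by_cases h : a = 1 <;> simp [ε, h]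
  have hmul : ∀ x u : G, χ (x * u) = χ x * χ u * ε ⁅u, x⁆ := by
    intro x u
    have e : (x * u) ^ 2 = x ^ 2 * ⁅u, x⁆ * u ^ 2 := by
      have h1 : (x * u) ^ 2 = x * (⁅u, x⁆ * (x * u * u)) := by
        rw [commutatorElement_def, pow_two]; group
      have h2 : x * ⁅u, x⁆ = ⁅u, x⁆ * x := by
        rcases hcom u x with h | h <;> rw [h]
        · rw [mul_one, one_mul]
        · exact hzc x
      rw [h1, ← mul_assoc, h2, mul_assoc]
      have h3 : ∀ w : G, ⁅u, x⁆ * w = w * ⁅u, x⁆ := fun w => by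
        rcases hcom u x with h | h <;> rw [h]
        · rw [mul_one, one_mul]
        · exact (hzc w).symm
      rw [← h3 (x ^ 2)]
      simp only [pow_two, mul_assoc]
    show ε ((x * u) ^ 2) = ε (x ^ 2) * ε (u ^ 2) * ε ⁅u, x⁆
    have h12 : x ^ 2 * ⁅u, x⁆ = 1 ∨ x ^ 2 * ⁅u, x⁆ = z := by
      rcases hsq x with h | h <;> rcases hcom u x with h' | h' <;> rw [h, h'] <;> simp [hzz]
    rw [e, hεmul _ _ h12 (hsq u), hεmul _ _ (hsq x) (hcom u x)]
    ring
  let T : ℤ := ∑ x : G, χ x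
  let Z := Subgroup.center G
  have hsum0 : ∀ u : G, u ∉ Z → ∑ x : G, ε ⁅u, x⁆ = 0 := by
    intro u hu
    obtain ⟨g, hg⟩ : ∃ g : G, ⁅u, g⁆ ≠ 1 := by
      by_contra h
      push Not at h
      exact hu (Subgroup.mem_center_iff.2 fun g => (commutatorElement_eq_one_iff_mul_comm.1 (h g)).symm)
    have hgz : ⁅u, g⁆ = z := (hcom u g).resolve_left hg
    have hneg : ∀ x, ε ⁅u, g * x⁆ = -ε ⁅u, x⁆ := by
      intro x
      have e : ⁅u, g * x⁆ = ⁅u, g⁆ * ⁅u, x⁆ := by
        have e0 : ⁅u, g * x⁆ = ⁅u, g⁆ * (g * ⁅u, x⁆ * g⁻¹) := by simp only [commutatorElement_def]; group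
        rw [e0]
        congr 1
        rcases hcom u x with h | h <;> rw [h]
        · group
        · rw [hzc, mul_inv_cancel_right]
      rw [e, hεmul _ _ (hcom u g) (hcom u x), hgz, hεz]; ring
    have h := (Equiv.sum_comp (Equiv.mulLeft g) (fun x => ε ⁅u, x⁆)).symm
    simp only [Equiv.coe_mulLeft, hneg, Finset.sum_neg_distrib] at h
    linarith
  have hTT : T * T = (Nat.card G : ℤ) * ∑ u : Z, χ u := by
    calc T * T = ∑ x : G, ∑ u : G, χ x * χ (x * u) := by
          simp only [T, Finset.sum_mul_sum]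
          exact Finset.sum_congr rfl fun x _ => (Equiv.sum_comp (Equiv.mulLeft x) (fun y => χ x * χ y)).symm
      _ = ∑ u : G, χ u * ∑ x : G, ε ⁅u, x⁆ := by
          rw [Finset.sum_comm]
          refine Finset.sum_congr rfl fun u _ => ?_
          rw [Finset.mul_sum]
          refine Finset.sum_congr rfl fun x _ => ?_
          rw [hmul, ← mul_assoc, ← mul_assoc, show χ x * χ x = 1 from hεsq _, one_mul]
      _ = ∑ u : G, if u ∈ Z then (Nat.card G : ℤ) * χ u else 0 := by
          refine Finset.sum_congr rfl fun u _ => ?_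
          by_cases hu : u ∈ Z
          · rw [if_pos hu]
            have : ∀ x : G, ε ⁅u, x⁆ = 1 := fun x => by
              rw [commutatorElement_eq_one_iff_mul_comm.2 (Subgroup.mem_center_iff.1 hu x).symm, hε1]
            simp [this, Nat.card_eq_fintype_card, mul_comm]
          · rw [if_neg hu, hsum0 u hu, mul_zero]
      _ = (Nat.card G : ℤ) * ∑ u : Z, χ u := by
          rw [← Finset.sum_filter, Finset.mul_sum, Finset.sum_subtype _ (p := fun u => u ∈ Z) (fun u => by simp)]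
  have hGc : Nat.card G = 2 ^ (d + 1) := by rw [← (frattini G).card_mul_index, hΦ, hd, pow_succ']
  have hj : T = 2 * (Nat.card {x : G // x ^ 2 = 1} : ℤ) - 2 ^ (d + 1) := by
    have h : T = ∑ x : G, (2 * (if x ^ 2 = 1 then (1 : ℤ) else 0) - 1) :=
      Finset.sum_congr rfl fun x _ => by simp only [χ, ε]; split_ifs <;> norm_num
    rw [h, Finset.sum_sub_distrib, ← Finset.mul_sum, Finset.sum_boole, Nat.card_eq_fintype_card,
      Fintype.card_subtype]
    simp [← Nat.card_eq_fintype_card, hGc]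
  obtain ⟨m, hm⟩ := IsPGroup.iff_card.1 (hG.to_subgroup Z)
  have hm1 : 1 ≤ m := by
    rcases Nat.eq_zero_or_pos m with h | h
    · exfalso
      have h2 := Subgroup.card_dvd_of_le hΦc
      rw [hΦ, hm, h] at h2
      norm_num at h2
    · exact h
  have hmd : m ≤ d + 1 := by
    have h2 := Subgroup.card_subgroup_dvd_card Z
    rw [hm, hGc] at h2
    exact (Nat.pow_dvd_pow_iff_le_right (by norm_num)).1 h2
  by_cases hchi : ∀ u ∈ Z, u ^ 2 = 1
  swap
  · -- the character is not trivial on the centre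
    push Not at hchi
    obtain ⟨w, hw, hw2⟩ := hchi
    have hs : ∑ u : Z, χ u = 0 := by
      have h := (Equiv.sum_comp (Equiv.mulLeft (⟨w, hw⟩ : Z)) (fun u : Z => χ u)).symm
      have hneg : ∀ u : Z, χ (((⟨w, hw⟩ : Z) * u : Z) : G) = -χ u := fun u => by
        rw [Subgroup.coe_mul, hmul]
        rw [show ε ⁅(u : G), w⁆ = 1 by rw [commutatorElement_eq_one_iff_mul_comm.2 (Subgroup.mem_center_iff.1 hw u), hε1]]
        rw [show χ w = -1 from if_neg hw2]; ring
      simp only [Equiv.coe_mulLeft, hneg, Finset.sum_neg_distrib] at h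
      linarith
    rw [hs, mul_zero] at hTT
    have hT0 : T = 0 := mul_self_eq_zero.1 hTT
    rw [hT0, pow_succ] at hj
    have hjd : Nat.card {x : G // x ^ 2 = 1} = 2 ^ d := by
      exact_mod_cast (show (Nat.card {x : G // x ^ 2 = 1} : ℤ) = 2 ^ d by linarith)
    refine ⟨Or.inl hjd, fun r _ hor => ?_⟩
    have := Nat.two_pow_pos r
    omega
  have hs : ∑ u : Z, χ u = (2 : ℤ) ^ m := by
    have : ∀ u : Z, χ u = 1 := fun u => if_pos (hchi u u.2)
    simp [this, ← Nat.card_eq_fintype_card, hm]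
  rw [hs, hGc] at hTT
  push_cast at hTT
  rw [← pow_add] at hTT
  have habs : T.natAbs * T.natAbs = 2 ^ (d + 1 + m) := by
    have := congrArg Int.natAbs hTT
    rwa [Int.natAbs_mul, Int.natAbs_pow] at this
  obtain ⟨e, -, he⟩ := (Nat.dvd_prime_pow Nat.prime_two).1 (Dvd.intro _ habs)
  have h2e : e + e = d + 1 + m := by
    rw [he, ← pow_add] at habs
    exact Nat.pow_right_injective (le_refl 2) habs
  obtain ⟨k, rfl⟩ : ∃ k, e = k + 1 := ⟨e - 1, by omega⟩
  have hkd : k < d := by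
    rcases Nat.lt_or_ge k d with h | h
    · exact h
    exfalso
    have hZt : Z = ⊤ := Subgroup.eq_top_of_card_eq Z (by rw [hm, hGc]; congr 1; omega)
    obtain ⟨x, hx⟩ : ∃ x : G, x ^ 2 ≠ 1 := by
      by_contra hno
      push Not at hno
      -- elementary abelian groups have trivial Frattini subgroup
      have hbot : frattini G = ⊥ := Cfsg.Lib.Elementary.frattini_eq_bot_of_sq hno
      rw [hbot, Subgroup.card_bot] at hΦ
      norm_num at hΦ
    exact hx (hchi x (hZt ▸ Subgroup.mem_top x))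
  have hcases : T = 2 * 2 ^ k ∨ T = -(2 * 2 ^ k) := by
    rcases Int.natAbs_eq T with h | h <;> rw [h, he, pow_succ'] <;> push_cast
    · exact Or.inl rfl
    · exact Or.inr rfl
  set j := Nat.card {x : G // x ^ 2 = 1}
  have hjk : j = 2 ^ d + 2 ^ k ∨ j + 2 ^ k = 2 ^ d := by
    rw [pow_succ] at hj
    rcases hcases with h | h <;> rw [h] at hj
    · left
      exact_mod_cast (show (j : ℤ) = 2 ^ d + 2 ^ k by linarith)
    · right
      exact_mod_cast (show (j : ℤ) + 2 ^ k = 2 ^ d by linarith)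
  refine ⟨Or.inr ⟨d - k, by omega, by omega, by rwa [Nat.sub_sub_self hkd.le]⟩, fun r hr hor => ?_⟩
  have hkr : k = r := by
    have := Nat.two_pow_pos r
    have := Nat.two_pow_pos k
    refine Nat.pow_right_injective (le_refl 2) ?_
    show 2 ^ k = 2 ^ r
    omega
  have hZc : Nat.card Z = 2 := by rw [hm, show m = 1 by omega, pow_one]
  have hΦZ : frattini G = Z := Subgroup.eq_of_le_of_card_ge hΦc (by rw [hΦ]; exact hZc.le)
  refine ⟨⟨hG, hΦZ, le_antisymm ((Cfsg.Lib.PGroups.commutator_le_frattini hG).trans hΦc) ?_⟩, hZc⟩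
  obtain ⟨u, hu⟩ : ∃ u : G, u ∉ Z := by
    by_contra hno
    push Not at hno
    have : Z = ⊤ := (Subgroup.eq_top_iff' Z).2 hno
    rw [this, Subgroup.card_top, hGc] at hZc
    have := Nat.pow_right_injective (le_refl 2) (hZc.trans (pow_one 2).symm)
    omega
  obtain ⟨g, hg⟩ : ∃ g : G, ⁅u, g⁆ ≠ 1 := by
    by_contra h
    push Not at h
    exact hu (Subgroup.mem_center_iff.2 fun g => (commutatorElement_eq_one_iff_mul_comm.1 (h g)).symm)
  show Z ≤ commutator G
  rw [← hΦZ]
  intro x hx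
  rcases hall x hx with rfl | rfl
  · exact one_mem _
  · rw [← (hcom u g).resolve_left hg]
    exact Subgroup.commutator_mem_commutator (Subgroup.mem_top u) (Subgroup.mem_top g)

end Cfsg.Agent.S3772
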