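import Cfsg.Statements.S3773
import Mathlib
import Cfsg.Agent.PGroups.Anisotropic
import Cfsg.Agent.PGroups.Basic
import Cfsg.Agent.Elementary.Basics

set_option autoImplicit false
open Cfsg

namespace Cfsg.Agent.S3773

open Subgroup
open scoped commutatorElement

/-- Let G be a finite 2-group of nilpotency class at most 2 and exponent dividing 4 in which the elements x with x² = 1 form a subgroup N. Then |G| ≤ |N|³, and |G| < |N|³ unless G is special. -/
theorem result {G : Type*} [Group G] [Finite G] (hG : IsPGroup 2 G) (hcl : (⊤ : Subgroup G).lowerCentralSeries 2 = ⊥) (hexp : ∀ x : G, x ^ 4 = 1) (hN : ∀ x y : G, x ^ 2 = 1 → y ^ 2 = 1 → (x * y) ^ 2 = 1) : Nat.card G ≤ Nat.card {x : G // x ^ 2 = 1} ^ 3 ∧ (¬ Cfsg.IsSpecial 2 G → Nat.card G < Nat.card {x : G // x ^ 2 = 1} ^ 3) := by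
  classical
  haveI : Fact (Nat.Prime 2) := ⟨Nat.prime_two⟩
  have hcent : ∀ x y : G, x * y * x⁻¹ * y⁻¹ ∈ center G := by
    intro x y
    refine mem_center_iff.mpr fun g => ?_
    have h1 : ⁅⁅x, y⁆, g⁆ ∈ (⊤ : Subgroup G).lowerCentralSeries 2 := by
      rw [Subgroup.lowerCentralSeries_succ, Subgroup.lowerCentralSeries_succ, Subgroup.lowerCentralSeries_zero]
      exact commutator_mem_commutator (commutator_mem_commutator (mem_top x) (mem_top y)) (mem_top g)
    rw [hcl, mem_bot, commutatorElement_eq_one_iff_mul_comm, commutatorElement_def] at h1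
    exact h1.symm
  let c : G → G → G := fun x y => x * y * x⁻¹ * y⁻¹
  have hcen : ∀ x y, ∀ g : G, g * c x y = c x y * g := fun x y => mem_center_iff.mp (hcent x y)
  have hswap : ∀ x y : G, x * y = c x y * (y * x) := fun x y => by simp [c, mul_assoc]
  have hmulR : ∀ x y z, c x (y * z) = c x y * c x z := fun x y z => by
    calc c x (y * z) = (x * y * x⁻¹ * y⁻¹) * (y * c x z * y⁻¹) := by simp [c, mul_assoc]
      _ = _ := by rw [hcen x z y, mul_inv_cancel_right]
  have hmulL : ∀ x y z, c (x * y) z = c x z * c y z := fun x y z => by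
    calc c (x * y) z = (x * c y z * x⁻¹) * c x z := by simp [c, mul_assoc]
      _ = _ := by rw [hcen y z x, mul_inv_cancel_right, hcen y z]
  have hsqmul : ∀ x y : G, (x * y) ^ 2 = c y x * (x ^ 2 * y ^ 2) := fun x y => by
    calc (x * y) ^ 2 = x * (y * x) * y := by rw [pow_two]; group
      _ = x * (c y x * (x * y)) * y := by rw [← hswap y x]
      _ = (x * c y x) * (x * y) * y := by group
      _ = c y x * (x ^ 2 * y ^ 2) := by rw [hcen y x x, pow_two, pow_two]; group
  have hp4 : ∀ x y : G, c x y ^ 4 = 1 := fun x y => hexp _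
  have hcx2 : ∀ x y : G, c (x ^ 2) (y ^ 2) = 1 := fun x y => by
    rw [pow_two, pow_two, hmulL, hmulR, ← pow_two (c x y), ← pow_two, ← pow_mul]; exact hp4 x y
  have hc2 : ∀ x y : G, c y x ^ 2 = 1 := fun x y => by
    have h := hexp (x * y)
    have h2 : (x * y) ^ 4 = c y x ^ 2 * (c (y ^ 2) (x ^ 2) * ((x ^ 2) ^ 2 * (y ^ 2) ^ 2)) := by
      rw [← hsqmul, show 4 = 2 * 2 from rfl, pow_mul (x * y) 2 2, hsqmul x y]
      exact Commute.mul_pow (hcen y x _).symm 2
    rw [h2, hcx2, one_mul, ← pow_mul, ← pow_mul] at h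
    rwa [hexp, hexp, mul_one, mul_one] at h
  have hsqc : ∀ x : G, x ^ 2 ∈ center G := fun x => mem_center_iff.mpr fun g => by
    have h1 : c (x ^ 2) g = 1 := by rw [pow_two, hmulL, ← pow_two]; exact hc2 g x
    have h2 := hswap (x ^ 2) g
    rw [h1, one_mul] at h2
    exact h2.symm
  -- the subgroup of central involutions
  let M : Subgroup G :=
    { carrier := {x | x ∈ center G ∧ x ^ 2 = 1}
      one_mem' := ⟨one_mem _, one_pow _⟩
      mul_mem' := fun ha hb => ⟨mul_mem ha.1 hb.1, hN _ _ ha.2 hb.2⟩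
      inv_mem' := fun ha => ⟨inv_mem ha.1, by rw [inv_pow, ha.2, inv_one]⟩ }
  haveI : M.Normal := ⟨fun m hm g => by
    have h : g * m * g⁻¹ = m := by rw [mem_center_iff.mp hm.1 g, mul_inv_cancel_right]
    rw [h]; exact hm⟩
  let Ω : Subgroup G :=
    { carrier := {x | x ^ 2 = 1}
      one_mem' := one_pow _
      mul_mem' := fun ha hb => hN _ _ ha hb
      inv_mem' := fun {a} ha => show a⁻¹ ^ 2 = 1 by rw [inv_pow, (ha : a ^ 2 = 1), inv_one] }
  have hΩcard : Nat.card {x : G // x ^ 2 = 1} = Nat.card Ω := rfl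
  have hsqM : ∀ x : G, x ^ 2 ∈ M := fun x => ⟨hsqc x, by rw [← pow_mul]; exact hexp x⟩
  have hcM : ∀ x y : G, c x y ∈ M := fun x y => ⟨hcent x y, hc2 y x⟩
  have hcomm : ∀ a b : G ⧸ M, a * b = b * a := by
    intro a b
    induction a using QuotientGroup.induction_on with
    | _ a =>
      induction b using QuotientGroup.induction_on with
      | _ b =>
        rw [← QuotientGroup.mk_mul, ← QuotientGroup.mk_mul, QuotientGroup.eq]
        have h1 : (a * b)⁻¹ * (b * a) = c b⁻¹ a⁻¹ := by simp [c, mul_assoc]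
        rw [h1]; exact hcM _ _
  letI : CommGroup (G ⧸ M) := { (inferInstance : Group (G ⧸ M)) with mul_comm := hcomm }
  letI : CommGroup M := { (inferInstance : Group M) with mul_comm := fun a b => Subtype.ext (mem_center_iff.mp b.2.1 a) }
  letI : Module (ZMod 2) (Additive M) := AddCommGroup.zmodModule (n := 2) fun m =>
    congrArg Additive.ofMul (Subtype.ext m.toMul.2.2 : m.toMul ^ 2 = 1)
  have hquot : ∀ a : G ⧸ M, a ^ 2 = 1 := fun a => by
    induction a using QuotientGroup.induction_on with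
    | _ a => rw [← QuotientGroup.mk_pow, QuotientGroup.eq_one_iff]; exact hsqM a
  letI : Module (ZMod 2) (Additive (G ⧸ M)) := AddCommGroup.zmodModule (n := 2) fun a =>
    congrArg Additive.ofMul (hquot a.toMul)
  haveI : Module.Finite (ZMod 2) (Additive (G ⧸ M)) := Module.Finite.of_finite
  haveI : Module.Finite (ZMod 2) (Additive M) := Module.Finite.of_finite
  let Q : G ⧸ M → M := Quotient.lift (fun x => (⟨x ^ 2, hsqM x⟩ : M)) (fun a b hab => Subtype.ext (by
    obtain ⟨m, hm, rfl⟩ : ∃ m ∈ M, a * m = b := ⟨a⁻¹ * b, QuotientGroup.leftRel_apply.mp hab, mul_inv_cancel_left a b⟩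
    show a ^ 2 = (a * m) ^ 2
    rw [(Commute.mul_pow (mem_center_iff.mp hm.1 a : Commute a m)), hm.2, mul_one]))
  have hQ : ∀ x : G, ((Q (QuotientGroup.mk x) : M) : G) = x ^ 2 := fun x => rfl
  let q : Additive (G ⧸ M) → Additive M := fun v => Additive.ofMul (Q v.toMul)
  have hpolar : ∀ x y : G, ((Additive.toMul (Cfsg.Lib.Anisotropic.polar q (Additive.ofMul (x : G ⧸ M))
      (Additive.ofMul (y : G ⧸ M))) : M) : G) = c y x := fun x y => by
    show (x * y) ^ 2 / x ^ 2 / y ^ 2 = c y x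
    rw [hsqmul, div_eq_iff_eq_mul, div_eq_iff_eq_mul, mul_assoc (c y x) (y ^ 2), mem_center_iff.mp (hsqc x) (y ^ 2)]
  have hbil : ∀ u v w, Cfsg.Lib.Anisotropic.polar q (u + v) w =
      Cfsg.Lib.Anisotropic.polar q u w + Cfsg.Lib.Anisotropic.polar q v w := by
    intro u v w
    obtain ⟨x, rfl⟩ : ∃ x : G, Additive.ofMul (x : G ⧸ M) = u := ⟨_, congrArg Additive.ofMul (QuotientGroup.out_eq' u.toMul)⟩
    obtain ⟨y, rfl⟩ : ∃ y : G, Additive.ofMul (y : G ⧸ M) = v := ⟨_, congrArg Additive.ofMul (QuotientGroup.out_eq' v.toMul)⟩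
    obtain ⟨z, rfl⟩ : ∃ z : G, Additive.ofMul (z : G ⧸ M) = w := ⟨_, congrArg Additive.ofMul (QuotientGroup.out_eq' w.toMul)⟩
    refine Additive.toMul.injective (Subtype.ext ?_)
    rw [← ofMul_mul, ← QuotientGroup.mk_mul, toMul_add, Subgroup.coe_mul, hpolar, hpolar, hpolar, hmulR]
  -- the subspace of involutions and a complement
  let W : Submodule (ZMod 2) (Additive (G ⧸ M)) :=
    AddSubgroup.toZModSubmodule 2 (Subgroup.toAddSubgroup (Ω.map (QuotientGroup.mk' M)))
  have hWmem : ∀ x : G, Additive.ofMul (x : G ⧸ M) ∈ W ↔ x ^ 2 = 1 := by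
    intro x
    refine ⟨?_, fun h => ⟨x, h, rfl⟩⟩
    rintro ⟨y, hy, e⟩
    obtain ⟨m, hm, rfl⟩ : ∃ m ∈ M, y * m = x :=
      ⟨y⁻¹ * x, QuotientGroup.eq.mp (Additive.ofMul.injective e), mul_inv_cancel_left y x⟩
    exact hN _ _ hy hm.2
  obtain ⟨U, hU⟩ := Submodule.exists_isCompl W
  have haniso : ∀ u : U, q u = 0 → u = 0 := fun u hu => by
    obtain ⟨x, hx⟩ : ∃ x : G, Additive.ofMul (x : G ⧸ M) = (u : Additive (G ⧸ M)) :=
      ⟨_, congrArg Additive.ofMul (QuotientGroup.out_eq' (Additive.toMul (u : Additive (G ⧸ M))))⟩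
    have h1 : x ^ 2 = 1 := by
      rw [← hx] at hu
      exact congrArg (fun m : Additive M => (m.toMul : G)) hu
    exact Subtype.ext (Submodule.disjoint_def.1 hU.disjoint _ (hx ▸ (hWmem x).2 h1) u.2)
  have hmain := Cfsg.Lib.Anisotropic.finrank_le (fun u : U => q u) (fun u v w => hbil u v w) haniso
  have hMΩ : M ≤ Ω := fun m hm => hm.2
  have hΩ2 : IsPGroup 2 Ω := hG.to_subgroup Ω
  have hcardG : Nat.card G = Nat.card U * Nat.card Ω := by
    have h1 : Nat.card (Additive (G ⧸ M)) = Nat.card U * Nat.card W := by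
      rw [← Nat.card_prod]
      exact Nat.card_congr (Submodule.prodEquivOfIsCompl U W hU.symm).symm.toEquiv
    have h2 : Nat.card W * Nat.card M = Nat.card Ω := by
      have h3 := card_eq_card_quotient_mul_card_subgroup (M.subgroupOf Ω)
      rw [h3, Nat.card_congr (subgroupOfEquivOfLe hMΩ).toEquiv]
      congr 1
      have h4 : M.subgroupOf Ω = ((QuotientGroup.mk' M).comp Ω.subtype).ker := by
        rw [← MonoidHom.comap_ker, QuotientGroup.ker_mk']; rfl
      rw [h4, Nat.card_congr (QuotientGroup.quotientKerEquivRange _).toEquiv, MonoidHom.range_comp, range_subtype]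
      rfl
    rw [card_eq_card_quotient_mul_card_subgroup M, ← h2, ← mul_assoc]
    exact congrArg (· * Nat.card M) h1
  have hcardU : Nat.card U = 2 ^ Module.finrank (ZMod 2) U := by
    rw [Module.natCard_eq_pow_finrank (K := ZMod 2), Nat.card_zmod]
  have hcardM : Nat.card M = 2 ^ Module.finrank (ZMod 2) (Additive M) := by
    rw [show Nat.card M = Nat.card (Additive M) from rfl, Module.natCard_eq_pow_finrank (K := ZMod 2), Nat.card_zmod]
  have hUM : Nat.card U ≤ Nat.card M ^ 2 := by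
    rw [hcardU, hcardM, ← pow_mul, mul_comm]
    exact Nat.pow_le_pow_right (by norm_num) hmain
  have hMle : Nat.card M ≤ Nat.card Ω := Subgroup.card_le_of_le hMΩ
  have hle : Nat.card G ≤ Nat.card Ω ^ 3 := by
    rw [hcardG, pow_succ]
    exact Nat.mul_le_mul_right _ (hUM.trans (Nat.pow_le_pow_left hMle 2))
  rw [hΩcard]
  refine ⟨hle, fun hsp => lt_of_le_of_ne hle fun he => hsp ?_⟩
  have h5 : Nat.card U = Nat.card Ω ^ 2 := by
    rw [hcardG, pow_succ] at he
    exact Nat.eq_of_mul_eq_mul_right Nat.card_pos he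
  have hMΩeq : M = Ω := Subgroup.eq_of_le_of_card_ge hMΩ (le_of_pow_le_pow_left₀ two_ne_zero (Nat.zero_le _) (h5 ▸ hUM))
  have hdim : Module.finrank (ZMod 2) U = 2 * Module.finrank (ZMod 2) (Additive M) := by
    refine Nat.pow_right_injective le_rfl (?_ : 2 ^ _ = 2 ^ _)
    rw [← hcardU, h5, ← hMΩeq, hcardM, ← pow_mul, mul_comm]
  obtain ⟨hspan, hrad⟩ := Cfsg.Lib.Anisotropic.polar_props_of_eq (fun u : U => q u) (fun u v w => hbil u v w) haniso hdim
  have hWbot : W = ⊥ := by
    rw [Submodule.eq_bot_iff]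
    intro w hw
    obtain ⟨x, rfl⟩ : ∃ x : G, Additive.ofMul (x : G ⧸ M) = w := ⟨_, congrArg Additive.ofMul (QuotientGroup.out_eq' w.toMul)⟩
    rw [ofMul_eq_zero, QuotientGroup.eq_one_iff, hMΩeq]
    exact (hWmem x).1 hw
  have hUtop : ∀ v, v ∈ U := fun v => by
    have h := hU.codisjoint.eq_top
    rw [hWbot, bot_sup_eq] at h
    exact h ▸ Submodule.mem_top
  have hcenter : center G = M := by
    refine le_antisymm (fun z hz => ?_) fun z hz => hz.1
    have h1 := hrad ⟨_, hUtop (Additive.ofMul (z : G ⧸ M))⟩ fun v => by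
      obtain ⟨y, hy⟩ : ∃ y : G, Additive.ofMul (y : G ⧸ M) = (v : Additive (G ⧸ M)) :=
        ⟨_, congrArg Additive.ofMul (QuotientGroup.out_eq' (Additive.toMul (v : Additive (G ⧸ M))))⟩
      show Cfsg.Lib.Anisotropic.polar q _ (v : Additive (G ⧸ M)) = 0
      rw [← hy]
      refine Additive.toMul.injective (Subtype.ext ((hpolar z y).trans ?_))
      show y * z * y⁻¹ * z⁻¹ = 1
      rw [mem_center_iff.mp hz y, mul_inv_cancel_right, mul_inv_cancel]
    exact (QuotientGroup.eq_one_iff z).1 (Additive.ofMul.injective (congrArg Subtype.val h1))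
  have hMcomm : M ≤ commutator G := by
    intro m hm
    let S : Submodule (ZMod 2) (Additive M) :=
      AddSubgroup.toZModSubmodule 2 (Subgroup.toAddSubgroup ((commutator G).subgroupOf M))
    have h1 : (⊤ : Submodule (ZMod 2) (Additive M)) ≤ S := by
      rw [← hspan, Submodule.span_le]
      rintro _ ⟨⟨u, v⟩, rfl⟩
      obtain ⟨x, hx⟩ : ∃ x : G, Additive.ofMul (x : G ⧸ M) = (u : Additive (G ⧸ M)) :=
        ⟨_, congrArg Additive.ofMul (QuotientGroup.out_eq' (Additive.toMul (u : Additive (G ⧸ M))))⟩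
      obtain ⟨y, hy⟩ : ∃ y : G, Additive.ofMul (y : G ⧸ M) = (v : Additive (G ⧸ M)) :=
        ⟨_, congrArg Additive.ofMul (QuotientGroup.out_eq' (Additive.toMul (v : Additive (G ⧸ M))))⟩
      show ((Additive.toMul (Cfsg.Lib.Anisotropic.polar q (u : Additive (G ⧸ M)) (v : Additive (G ⧸ M))) : M) : G) ∈ commutator G
      rw [← hx, ← hy, hpolar]
      exact commutator_mem_commutator (mem_top y) (mem_top x)
    exact h1 (x := Additive.ofMul (⟨m, hm⟩ : M)) trivial
  have hφM : frattini G ≤ M := by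
    exact Cfsg.Lib.Elementary.frattini_le_of_sq_mem hsqM
  refine ⟨hG, le_antisymm (hcenter ▸ hφM) (hcenter ▸ hMcomm.trans (Cfsg.Lib.PGroups.commutator_le_frattini hG)),
    le_antisymm ((Cfsg.Lib.PGroups.commutator_le_frattini hG).trans (hcenter ▸ hφM)) (hcenter ▸ hMcomm)⟩

end Cfsg.Agent.S3773
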