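import Cfsg.Statements.S3775


set_option autoImplicit false
open Cfsg

namespace Cfsg.Agent.S3775

theorem exists_pow_idempotent {M : Type*} [Monoid M] [Finite M] (a : M) :
    ∃ n : ℕ, 1 ≤ n ∧ a ^ (n + n) = a ^ n := by
  obtain ⟨i, j, hne, hij⟩ := Finite.exists_ne_map_eq_of_infinite (fun k : ℕ => a ^ k)
  wlog hlt : i < j generalizing i j
  · exact this j i hne.symm hij.symm (by omega)
  have hper : ∀ k, i ≤ k → ∀ m, a ^ (k + m * (j - i)) = a ^ k := by
    intro k hk m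
    induction m with
    | zero => rw [zero_mul, add_zero]
    | succ m ih =>
      have h1 : k + (m + 1) * (j - i) = (k + m * (j - i) - i) + j := by
        rw [add_mul, one_mul]; omega
      rw [h1, pow_add, show a ^ j = a ^ i from hij.symm, ← pow_add, Nat.sub_add_cancel (by omega), ih]
  refine ⟨(i + 1) * (j - i), Nat.mul_pos (by omega) (by omega), hper _ ?_ _⟩
  calc i ≤ (i + 1) * 1 := by omega
    _ ≤ (i + 1) * (j - i) := Nat.mul_le_mul_left _ (by omega)

theorem exists_decomposition {A : Type*} [CommGroup A] [Finite A] {p : ℕ} [Fact p.Prime] (hA : IsPGroup p A)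
    (X : Subgroup (MulAut A)) (hX : (Nat.card X).Coprime p) (f : A →* A) (U₁ V₁ U₂ V₂ : Subgroup A)
    (i1 : ∀ x ∈ X, U₁.map x.toMonoidHom = U₁) (i2 : ∀ x ∈ X, V₁.map x.toMonoidHom = V₁)
    (i3 : ∀ x ∈ X, U₂.map x.toMonoidHom = U₂) (i4 : ∀ x ∈ X, V₂.map x.toMonoidHom = V₂)
    (l1 : V₁ ≤ U₁) (l2 : V₂ ≤ U₂) (c1 : ∀ u ∈ U₁, f u * u⁻¹ ∈ V₁) (c2 : ∀ u ∈ U₂, f u ∈ V₂)
    (n1 : ∃ u ∈ U₁, u ∉ V₁) (n2 : ∃ u ∈ U₂, u ∉ V₂) :
    ∃ B C : Subgroup A, B ≠ ⊥ ∧ C ≠ ⊥ ∧ (∀ x ∈ X, B.map x.toMonoidHom = B) ∧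
      (∀ x ∈ X, C.map x.toMonoidHom = C) ∧ B ⊓ C = ⊥ ∧ B ⊔ C = ⊤ := by
  classical
  haveI : Finite (MulAut A) := Finite.of_injective (fun e => (e : A → A)) DFunLike.coe_injective
  haveI : Finite (Monoid.End A) := Finite.of_injective (fun e : A →* A => (e : A → A)) DFunLike.coe_injective
  haveI := Fintype.ofFinite X
  let S : A →* A := ∏ x : X, ((x : MulAut A).toMonoidHom.comp (f.comp ((x : MulAut A)⁻¹).toMonoidHom))
  have hS : ∀ a, S a = ∏ x : X, (x : MulAut A) (f ((x : MulAut A)⁻¹ a)) := fun a =>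
    MonoidHom.finsetProd_apply _ _ _
  have hScomm : ∀ y ∈ X, ∀ a, S (y a) = y (S a) := by
    intro y hy a
    rw [hS, hS, map_prod]
    refine (Fintype.prod_equiv (Equiv.mulLeft (⟨y, hy⟩ : X)) _ _ fun x => ?_).symm
    show y ((x : MulAut A) _) = (y * (x : MulAut A)) (f ((y * (x : MulAut A))⁻¹ (y a)))
    simp [mul_inv_rev]
  obtain ⟨E, hE⟩ := IsPGroup.iff_card.1 hA
  set m : ℤ := Nat.gcdA (Nat.card X) (p ^ E) with hm
  have hme : ∀ a : A, (a ^ Nat.card X) ^ m = a := by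
    intro a
    have h1 := Nat.gcd_eq_gcd_ab (Nat.card X) (p ^ E)
    rw [show Nat.gcd (Nat.card X) (p ^ E) = 1 from hX.pow_right E, Nat.cast_one] at h1
    have h2 : a ^ ((Nat.card X : ℤ) * m) * a ^ (((p ^ E : ℕ) : ℤ) * Nat.gcdB (Nat.card X) (p ^ E)) = a := by
      rw [← zpow_add, hm, ← h1, zpow_one]
    have h3 : a ^ (((p ^ E : ℕ) : ℤ) * Nat.gcdB (Nat.card X) (p ^ E)) = 1 := by
      rw [zpow_mul, zpow_natCast, ← hE, pow_card_eq_one', one_zpow]
    rw [h3, mul_one, zpow_mul, zpow_natCast] at h2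
    exact h2
  let F : Monoid.End A := (zpowGroupHom m).comp S
  have hF : ∀ a, F a = (S a) ^ m := fun a => rfl
  have hFcomm : ∀ y ∈ X, ∀ a, F (y a) = y (F a) := fun y hy a => by rw [hF, hF, hScomm y hy, map_zpow]
  have mem_inv : ∀ {B : Subgroup A}, (∀ x ∈ X, B.map x.toMonoidHom = B) → ∀ {x : MulAut A}, x ∈ X → ∀ {b : A}, b ∈ B → x b ∈ B :=
    fun {B} hB {x} hx {b} hb => (hB x hx).le ⟨b, hb, rfl⟩
  have hF1 : ∀ u ∈ U₁, F u * u⁻¹ ∈ V₁ := by
    intro u hu
    have h1 : S u * (u ^ Nat.card X)⁻¹ ∈ V₁ := by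
      rw [hS, Nat.card_eq_fintype_card, ← Finset.card_univ, ← Finset.prod_const, ← Finset.prod_inv_distrib,
        ← Finset.prod_mul_distrib]
      refine prod_mem fun x _ => ?_
      have h2 := mem_inv i2 x.2 (c1 _ (mem_inv i1 (X.inv_mem x.2) hu))
      rw [map_mul, map_inv] at h2
      simpa using h2
    have h3 := V₁.zpow_mem h1 m
    rwa [mul_zpow, inv_zpow, hme] at h3
  have hF2 : ∀ u ∈ U₂, F u ∈ V₂ := by
    intro u hu
    rw [hF, hS]
    exact V₂.zpow_mem (prod_mem fun x _ => mem_inv i4 x.2 (c2 _ (mem_inv i3 (X.inv_mem x.2) hu))) m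
  obtain ⟨k, hk, hidem⟩ := exists_pow_idempotent F
  set g : Monoid.End A := F ^ k with hg
  have hsucc : ∀ j : ℕ, ∀ a, (F ^ (j + 1)) a = F ((F ^ j) a) := fun j a => by rw [pow_succ']; rfl
  have hg1 : ∀ j : ℕ, ∀ u ∈ U₁, (F ^ j) u * u⁻¹ ∈ V₁ := by
    intro j
    induction j with
    | zero => intro u _; simp [V₁.one_mem]
    | succ j ih =>
      intro u hu
      have hju : (F ^ j) u ∈ U₁ := by simpa using U₁.mul_mem (l1 (ih u hu)) hu
      have := V₁.mul_mem (hF1 _ hju) (ih u hu)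
      rw [hsucc]
      simpa [mul_assoc] using this
  have hg2 : ∀ j : ℕ, ∀ u ∈ U₂, (F ^ (j + 1)) u ∈ V₂ := by
    intro j
    induction j with
    | zero => intro u hu; simpa using hF2 u hu
    | succ j ih => intro u hu; rw [hsucc]; exact hF2 _ (l2 (ih u hu))
  have hgc : ∀ j : ℕ, ∀ y ∈ X, ∀ a, (F ^ j) (y a) = y ((F ^ j) a) := by
    intro j
    induction j with
    | zero => intro y _ a; rfl
    | succ j ih => intro y hy a; rw [hsucc, hsucc, ih y hy, hFcomm y hy]
  have hgg : ∀ a, g (g a) = g a := fun a => by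
    have h := congrArg (fun e : Monoid.End A => e a) hidem
    simp only [pow_add] at h
    exact h
  let g' : A →* A := g
  refine ⟨g'.ker, g'.range, ?_, ?_, ?_, ?_, ?_, ?_⟩
  · intro hb
    obtain ⟨u, hu, huV⟩ := n2
    have hinj := (MonoidHom.ker_eq_bot_iff g').1 hb
    have h1 : g u = u := hinj (hgg u)
    obtain ⟨j, rfl⟩ : ∃ j, k = j + 1 := ⟨k - 1, by omega⟩
    exact huV (h1 ▸ hg2 j u hu)
  · intro hb
    obtain ⟨u, hu, huV⟩ := n1
    have h1 : g u = 1 := by
      have : g' u ∈ g'.range := ⟨u, rfl⟩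
      rwa [hb, Subgroup.mem_bot] at this
    have h2 := hg1 k u hu
    rw [← hg, h1, one_mul] at h2
    exact huV (by simpa using h2)
  · intro x hx
    refine le_antisymm ?_ fun b hb => ⟨(x⁻¹) b, ?_, by simp⟩
    · rintro _ ⟨b, hb, rfl⟩
      show g (x b) = 1
      rw [hg, hgc k x hx, ← hg, show g b = 1 from hb, map_one]
    · show g ((x⁻¹) b) = 1
      rw [hg, hgc k _ (X.inv_mem hx), ← hg, show g b = 1 from hb, map_one]
  · intro x hx
    refine le_antisymm ?_ ?_
    · rintro _ ⟨_, ⟨b, rfl⟩, rfl⟩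
      exact ⟨x b, hgc k x hx b⟩
    · rintro _ ⟨b, rfl⟩
      refine ⟨g ((x⁻¹) b), ⟨_, rfl⟩, ?_⟩
      show x (g ((x⁻¹) b)) = g b
      rw [hg, ← hgc k x hx]
      simp
  · rw [Subgroup.eq_bot_iff_forall]
    rintro _ ⟨hb, c, rfl⟩
    exact (hgg c).symm.trans hb
  · refine eq_top_iff.2 fun a _ => ?_
    have h1 : a * (g a)⁻¹ ∈ g'.ker := by
      show g (a * (g a)⁻¹) = 1
      rw [map_mul, map_inv, hgg, mul_inv_cancel]
    have := Subgroup.mul_mem_sup h1 (show g' a ∈ g'.range from ⟨a, rfl⟩)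
    rwa [show g' a = g a from rfl, inv_mul_cancel_right] at this



/-- Let A be a finite abelian p-group and X a group of automorphisms of A of order prime to p. Call a subgroup of A invariant when every element of X maps it onto itself. Then the following are equivalent: (i) A is not the direct product of two nontrivial invariant subgroups; (ii) every invariant subgroup of A is one of the subgroups Ω_i(A) = {a : a^(p^i) = 1}; (iii) the subgroup Ω₁(A) of elements of order dividing p has no invariant subgroups other than 1 and itself. -/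
theorem result {A : Type*} [CommGroup A] [Finite A] {p : ℕ} [Fact p.Prime] (hA : IsPGroup p A) (X : Subgroup (MulAut A)) (hX : (Nat.card X).Coprime p) : ((¬ ∃ B C : Subgroup A, B ≠ ⊥ ∧ C ≠ ⊥ ∧ (∀ x ∈ X, B.map x.toMonoidHom = B) ∧ (∀ x ∈ X, C.map x.toMonoidHom = C) ∧ B ⊓ C = ⊥ ∧ B ⊔ C = ⊤) ↔ (∀ B : Subgroup A, (∀ x ∈ X, B.map x.toMonoidHom = B) → ∃ i : ℕ, ∀ a : A, a ∈ B ↔ a ^ p ^ i = 1)) ∧ ((∀ B : Subgroup A, (∀ x ∈ X, B.map x.toMonoidHom = B) → ∃ i : ℕ, ∀ a : A, a ∈ B ↔ a ^ p ^ i = 1) ↔ (∀ B : Subgroup A, (∀ x ∈ X, B.map x.toMonoidHom = B) → (∀ b ∈ B, b ^ p = 1) → B = ⊥ ∨ ∀ a : A, a ∈ B ↔ a ^ p = 1)) := by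
  classical
  have hp : p.Prime := Fact.out
  set I : Prop := ∀ B : Subgroup A, (∀ x ∈ X, B.map x.toMonoidHom = B) → ∃ i : ℕ, ∀ a : A, a ∈ B ↔ a ^ p ^ i = 1 with hI
  set O : Prop := ∀ B : Subgroup A, (∀ x ∈ X, B.map x.toMonoidHom = B) → (∀ b ∈ B, b ^ p = 1) → B = ⊥ ∨ ∀ a : A, a ∈ B ↔ a ^ p = 1 with hO
  have mem_inv : ∀ {B : Subgroup A}, (∀ x ∈ X, B.map x.toMonoidHom = B) → ∀ {x : MulAut A}, x ∈ X → ∀ {b : A}, b ∈ B → x b ∈ B :=
    fun {B} hB {x} hx {b} hb => (hB x hx).le ⟨b, hb, rfl⟩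
  have h23 : I → O := by
    intro hI' B hB hexp
    obtain ⟨i, hi⟩ := hI' B hB
    rcases Nat.eq_zero_or_pos i with rfl | h0
    · left
      exact (Subgroup.eq_bot_iff_forall _).2 fun b hb => by simpa using (hi b).1 hb
    · refine Or.inr fun a => ⟨hexp a, fun ha => (hi a).2 ?_⟩
      obtain ⟨j, rfl⟩ : ∃ j, i = j + 1 := ⟨i - 1, by omega⟩
      rw [pow_succ', pow_mul, ha, one_pow]
  have h32 : O → I := by
    intro hO' B hB
    obtain ⟨N, hN⟩ := IsPGroup.iff_card.1 hA
    have hex : ∃ i, ∀ b ∈ B, b ^ p ^ i = 1 := ⟨N, fun b _ => by rw [← hN]; exact pow_card_eq_one'⟩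
    refine ⟨Nat.find hex, fun a => ⟨fun ha => Nat.find_spec hex a ha, ?_⟩⟩
    suffices ∀ j ≤ Nat.find hex, ∀ a : A, a ^ p ^ j = 1 → a ∈ B from this _ le_rfl a
    intro j
    induction j with
    | zero => intro _ a ha; rw [pow_zero, pow_one] at ha; exact ha ▸ B.one_mem
    | succ j ih =>
      intro hj a ha
      set i := Nat.find hex with hi
      let R : Subgroup A := B.map (powMonoidHom (p ^ (i - 1)))
      have hR : ∀ x ∈ X, R.map x.toMonoidHom = R := by
        intro x hx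
        rw [Subgroup.map_map, show x.toMonoidHom.comp (powMonoidHom (p ^ (i - 1))) =
          (powMonoidHom (p ^ (i - 1))).comp x.toMonoidHom from MonoidHom.ext fun b => map_pow x b _,
          ← Subgroup.map_map, hB x hx]
      have hRp : ∀ r ∈ R, r ^ p = 1 := by
        rintro _ ⟨b, hb, rfl⟩
        show (b ^ p ^ (i - 1)) ^ p = 1
        rw [← pow_mul, ← pow_succ, show i - 1 + 1 = i by omega]
        exact Nat.find_spec hex b hb
      rcases hO' R hR hRp with h | h
      · exact absurd (fun b hb => (Subgroup.eq_bot_iff_forall _).1 h _ ⟨b, hb, rfl⟩) (Nat.find_min hex (show i - 1 < i by omega))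
      · have h1 : (a ^ p ^ j) ^ p = 1 := by rw [← pow_mul, ← pow_succ, ha]
        obtain ⟨c, hc, hca⟩ := (h _).2 h1
        have h2 : (a * (c ^ p ^ (i - 1 - j))⁻¹) ^ p ^ j = 1 := by
          rw [mul_pow, inv_pow, ← pow_mul c, ← pow_add, show i - 1 - j + j = i - 1 by omega,
            show c ^ p ^ (i - 1) = a ^ p ^ j from hca, mul_inv_cancel]
        have h3 := B.mul_mem (ih (by omega) _ h2) (B.pow_mem hc (p ^ (i - 1 - j)))
        rwa [inv_mul_cancel_right] at h3
  have h21 : I → ¬ ∃ B C : Subgroup A, B ≠ ⊥ ∧ C ≠ ⊥ ∧ (∀ x ∈ X, B.map x.toMonoidHom = B) ∧ (∀ x ∈ X, C.map x.toMonoidHom = C) ∧ B ⊓ C = ⊥ ∧ B ⊔ C = ⊤ := by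
    rintro hI' ⟨B, C, hB0, hC0, hB, hC, hBC, -⟩
    have key : ∀ D : Subgroup A, D ≠ ⊥ → (∀ x ∈ X, D.map x.toMonoidHom = D) → ∀ a : A, a ^ p = 1 → a ∈ D := by
      intro D hD0 hD a ha
      obtain ⟨i, hi⟩ := hI' D hD
      rcases Nat.eq_zero_or_pos i with rfl | h0
      · exact absurd ((Subgroup.eq_bot_iff_forall _).2 fun b hb => by simpa using (hi b).1 hb) hD0
      · obtain ⟨j, rfl⟩ : ∃ j, i = j + 1 := ⟨i - 1, by omega⟩
        exact (hi a).2 (by rw [pow_succ', pow_mul, ha, one_pow])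
    obtain ⟨N, hN⟩ := IsPGroup.iff_card.1 (hA.to_subgroup B)
    haveI : Nontrivial B := (Subgroup.nontrivial_iff_ne_bot B).2 hB0
    have hd : p ∣ Nat.card B := by
      have h1 := Finite.one_lt_card (α := B)
      rcases N with _ | N
      · rw [hN, pow_zero] at h1; exact absurd h1 (lt_irrefl 1)
      · rw [hN, pow_succ]; exact dvd_mul_left _ _
    obtain ⟨b, hb⟩ := exists_prime_orderOf_dvd_card' (G := B) p hd
    rw [← Subgroup.orderOf_coe] at hb
    have : (b : A) ∈ B ⊓ C := ⟨b.2, key C hC0 hC b (hb ▸ pow_orderOf_eq_one _)⟩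
    rw [hBC, Subgroup.mem_bot] at this
    rw [this, orderOf_one] at hb
    exact hp.one_lt.ne hb
  refine ⟨⟨fun hno => h32 ?_, h21⟩, ⟨h23, h32⟩⟩
  -- an indecomposable group has irreducible socle
  intro W hW hWp
  by_contra hcon
  push Not at hcon
  obtain ⟨hW0, a₁, ha₁⟩ := hcon
  obtain ⟨e₁, he₁⟩ : ∃ a : A, a ∉ W ∧ a ^ p = 1 := by
    rcases ha₁ with ⟨h, h'⟩ | ⟨h, h'⟩
    · exact absurd (hWp a₁ h) h'
    · exact ⟨a₁, h, h'⟩
  obtain ⟨w₀, hw₀, hw₀1⟩ := (W.bot_or_exists_ne_one).resolve_left hW0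
  -- the exponent
  obtain ⟨N, hN⟩ := IsPGroup.iff_card.1 hA
  have hex : ∃ i, ∀ a : A, a ^ p ^ i = 1 := ⟨N, fun a => by rw [← hN]; exact pow_card_eq_one'⟩
  obtain ⟨e, he, hemin⟩ : ∃ e, (∀ a : A, a ^ p ^ e = 1) ∧ ∀ m < e, ∃ a : A, a ^ p ^ m ≠ 1 :=
    ⟨Nat.find hex, Nat.find_spec hex, fun m hm => by simpa using Nat.find_min hex hm⟩
  have he1 : 1 ≤ e := Nat.one_le_iff_ne_zero.2 fun h => hw₀1 (by simpa [h] using he w₀)
  obtain ⟨ι, _, n, hn, ⟨φ⟩⟩ := CommGroup.equiv_prod_multiplicative_zmod_of_finite A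
  have hne : ∀ i, n i ∣ p ^ e := fun i => by
    have h1 := congrArg (fun z => Multiplicative.toAdd (z i)) (congrArg φ (he (φ.symm (Pi.mulSingle i (Multiplicative.ofAdd 1)))))
    simp only [map_pow, MulEquiv.apply_symm_apply, Pi.pow_apply, Pi.mulSingle_eq_same, map_one, Pi.one_apply,
      toAdd_pow, toAdd_ofAdd, toAdd_one, nsmul_eq_mul, mul_one] at h1
    exact (ZMod.natCast_eq_zero_iff _ _).1 h1
  have hni : ∀ i, ∃ k, k ≤ e ∧ n i = p ^ k := fun i => (Nat.dvd_prime_pow hp).1 (hne i)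
  suffices ∃ (f : A →* A) (U₁ V₁ U₂ V₂ : Subgroup A), (∀ x ∈ X, U₁.map x.toMonoidHom = U₁) ∧
      (∀ x ∈ X, V₁.map x.toMonoidHom = V₁) ∧ (∀ x ∈ X, U₂.map x.toMonoidHom = U₂) ∧
      (∀ x ∈ X, V₂.map x.toMonoidHom = V₂) ∧ V₁ ≤ U₁ ∧ V₂ ≤ U₂ ∧ (∀ u ∈ U₁, f u * u⁻¹ ∈ V₁) ∧
      (∀ u ∈ U₂, f u ∈ V₂) ∧ (∃ u ∈ U₁, u ∉ V₁) ∧ ∃ u ∈ U₂, u ∉ V₂ by
    obtain ⟨f, U₁, V₁, U₂, V₂, i1, i2, i3, i4, l1, l2, c1, c2, n1, n2⟩ := this
    exact hno (exists_decomposition hA X hX f U₁ V₁ U₂ V₂ i1 i2 i3 i4 l1 l2 c1 c2 n1 n2)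
  have inv_range : ∀ m : ℕ, ∀ x ∈ X, (powMonoidHom m : A →* A).range.map x.toMonoidHom = (powMonoidHom m : A →* A).range := by
    intro m x hx
    refine le_antisymm ?_ fun a ha => ?_
    · rintro _ ⟨_, ⟨b, rfl⟩, rfl⟩
      exact ⟨x b, (map_pow x b m).symm⟩
    · obtain ⟨b, rfl⟩ := ha
      exact ⟨(x⁻¹) b ^ m, ⟨(x⁻¹) b, rfl⟩, by simp⟩
  have inv_ker : ∀ m : ℕ, ∀ x ∈ X, (powMonoidHom m : A →* A).ker.map x.toMonoidHom = (powMonoidHom m : A →* A).ker := by
    intro m x hx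
    refine le_antisymm ?_ fun a ha => ?_
    · rintro _ ⟨b, hb, rfl⟩
      show (x b) ^ m = 1
      rw [← map_pow, show b ^ m = 1 from hb, map_one]
    · refine ⟨(x⁻¹) a, ?_, by simp⟩
      show ((x⁻¹) a) ^ m = 1
      rw [← map_pow, show a ^ m = 1 from ha, map_one]
  by_cases hhom : ∀ i, n i = p ^ e
  · -- homocyclic: lift a projection of the socle onto `W`
    let V : Subgroup A := (powMonoidHom p : A →* A).ker
    have hVp : ∀ v : Additive V, p • v = 0 := fun v => Additive.toMul.injective (Subtype.ext v.toMul.2)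
    letI : Module (ZMod p) (Additive V) := AddCommGroup.zmodModule (n := p) hVp
    have hWV : W ≤ V := hWp
    let Ws : Submodule (ZMod p) (Additive V) := AddSubgroup.toZModSubmodule p (Subgroup.toAddSubgroup (W.subgroupOf V))
    obtain ⟨g, hg⟩ := LinearMap.exists_extend (LinearMap.id : Ws →ₗ[ZMod p] Ws)
    let Pr : V →* A := { toFun := fun v => (((g (Additive.ofMul v)) : Additive V).toMul : V)
                         map_one' := by simp
                         map_mul' := fun a b => by simp [map_add] }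
    have hPrW : ∀ v, Pr v ∈ W := fun v => (g (Additive.ofMul v)).2
    have hPr : ∀ v : V, (v : A) ∈ W → Pr v = v := by
      intro v hv
      have h1 := LinearMap.congr_fun hg ⟨Additive.ofMul v, hv⟩
      exact congrArg (fun z : Ws => (((z : Additive V).toMul : V) : A)) h1
    have hsurj : ∀ v : A, v ^ p = 1 → ∃ b : A, b ^ p ^ (e - 1) = v := by
      intro v hv
      have h1 : ∀ i, ∃ c : ZMod (n i), ((p ^ (e - 1) : ℕ) : ZMod (n i)) * c = Multiplicative.toAdd (φ v i) := by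
        intro i
        have h2 : (p : ZMod (n i)) * Multiplicative.toAdd (φ v i) = 0 := by
          have h3 := congrArg (fun z => Multiplicative.toAdd (z i)) (congrArg φ hv)
          simpa [map_pow] using h3
        haveI : NeZero (n i) := ⟨by have := hn i; omega⟩
        obtain ⟨t, ht⟩ : ∃ t : ℕ, (t : ZMod (n i)) = Multiplicative.toAdd (φ v i) := ⟨_, ZMod.natCast_rightInverse _⟩
        rw [← ht, ← Nat.cast_mul, ZMod.natCast_eq_zero_iff, hhom i] at h2
        obtain ⟨c, hc⟩ := (Nat.mul_dvd_mul_iff_left hp.pos).1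
          (show p * p ^ (e - 1) ∣ p * t by rwa [← pow_succ', show e - 1 + 1 = e by omega])
        exact ⟨c, by rw [← ht, hc, Nat.cast_mul]⟩
      choose c hc using h1
      refine ⟨φ.symm fun i => Multiplicative.ofAdd (c i), φ.injective (funext fun i => Multiplicative.toAdd.injective ?_)⟩
      rw [map_pow, MulEquiv.apply_symm_apply, Pi.pow_apply, toAdd_pow, toAdd_ofAdd, nsmul_eq_mul]
      exact hc i
    have hbV : ∀ a : A, a ^ p ^ (e - 1) ∈ V := fun a => by
      show (a ^ p ^ (e - 1)) ^ p = 1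
      rw [← pow_mul, ← pow_succ, show e - 1 + 1 = e by omega, he]
    choose y hy using fun i => hsurj (Pr ⟨_, hbV (φ.symm (Pi.mulSingle i (Multiplicative.ofAdd 1)))⟩) (hWp _ (hPrW _))
    have hlift : ∀ i, ∃ h : Multiplicative (ZMod (n i)) →* A, h (Multiplicative.ofAdd 1) = y i := by
      intro i
      have hz : (zmultiplesHom (Additive A) (Additive.ofMul (y i))) ((n i : ℕ) : ℤ) = 0 := by
        rw [zmultiplesHom_apply, natCast_zsmul, hhom i]
        exact congrArg Additive.ofMul (he (y i))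
      refine ⟨AddMonoidHom.toMultiplicativeLeft (ZMod.lift (n i) ⟨_, hz⟩), ?_⟩
      show Additive.toMul ((ZMod.lift (n i) ⟨_, hz⟩) 1) = y i
      have h1 := ZMod.lift_coe (n i) ⟨_, hz⟩ 1
      simp only [Int.cast_one] at h1
      rw [h1]
      simp
    choose h hh using hlift
    let f₀ : (∀ i, Multiplicative (ZMod (n i))) →* A :=
      ∏ i, (h i).comp (Pi.evalMonoidHom (fun j => Multiplicative (ZMod (n j))) i)
    let f : A →* A := f₀.comp φ.toMonoidHom
    have hf : ∀ i, f (φ.symm (Pi.mulSingle i (Multiplicative.ofAdd 1))) = y i := by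
      intro i
      show f₀ (φ (φ.symm _)) = _
      rw [MulEquiv.apply_symm_apply, MonoidHom.finsetProd_apply, Finset.prod_eq_single i]
      · simp [hh i]
      · intro j _ hji
        simp [Pi.mulSingle_eq_of_ne hji]
      · simp
    have hagree : ∀ a : A, (f a) ^ p ^ (e - 1) = Pr ⟨_, hbV a⟩ := by
      let ψ : A →* V := (powMonoidHom (p ^ (e - 1)) : A →* A).codRestrict V hbV
      have h1 : ((powMonoidHom (p ^ (e - 1)) : A →* A).comp f).comp φ.symm.toMonoidHom =
          (Pr.comp ψ).comp φ.symm.toMonoidHom := by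
        refine MonoidHom.functions_ext _ _ _ fun i z => ?_
        haveI : NeZero (n i) := ⟨by have := hn i; omega⟩
        obtain ⟨t, rfl⟩ : ∃ t : ℕ, Multiplicative.ofAdd ((1 : ZMod (n i))) ^ t = z :=
          ⟨(Multiplicative.toAdd z).val, Multiplicative.toAdd.injective (by simp)⟩
        rw [Pi.mulSingle_pow, map_pow, map_pow]
        congr 1
        show f (φ.symm _) ^ p ^ (e - 1) = _
        rw [hf, hy]
        rfl
      intro a
      have h2 := DFunLike.congr_fun h1 (φ a)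
      simp only [MonoidHom.comp_apply, MulEquiv.coe_toMonoidHom, MulEquiv.symm_apply_apply] at h2
      exact h2
    have hfV : ∀ v : V, f v = Pr v := by
      intro v
      obtain ⟨b, hb⟩ := hsurj v v.2
      have h1 := hagree b
      rw [← map_pow] at h1
      rw [show (v : A) = b ^ p ^ (e - 1) from hb.symm, h1]
      congr 1
      exact Subtype.ext hb
    refine ⟨f, W, ⊥, V, W, hW, fun x _ => Subgroup.map_bot _, inv_ker p, hW, bot_le, hWV, fun u hu => ?_,
      fun u hu => ?_, ⟨w₀, hw₀, fun h => hw₀1 (Subgroup.mem_bot.1 h)⟩, ⟨e₁, he₁.2, he₁.1⟩⟩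
    · rw [Subgroup.mem_bot, hfV ⟨u, hWV hu⟩, hPr ⟨u, hWV hu⟩ hu, mul_inv_cancel]
    · rw [hfV ⟨u, hu⟩]; exact hPrW _
  · -- not homocyclic: project onto the factors of largest order
    push Not at hhom
    obtain ⟨i₀, hi₀⟩ := hhom
    let mask : (∀ i, Multiplicative (ZMod (n i))) →* (∀ i, Multiplicative (ZMod (n i))) :=
      { toFun := fun z i => if n i = p ^ e then z i else 1
        map_one' := funext fun i => by simp
        map_mul' := fun a b => funext fun i => by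
          simp only [Pi.mul_apply]; split_ifs <;> simp }
    let f : A →* A := φ.symm.toMonoidHom.comp (mask.comp φ.toMonoidHom)
    refine ⟨f, ⊤, (powMonoidHom (p ^ (e - 1)) : A →* A).ker, (powMonoidHom (p ^ (e - 1)) : A →* A).ker,
      (powMonoidHom p : A →* A).range, fun x hx => Subgroup.map_top_of_surjective _ x.surjective, inv_ker _, inv_ker _,
      inv_range p, le_top, ?_, fun u _ => ?_, fun u hu => ?_, ?_, ?_⟩
    · rintro _ ⟨b, rfl⟩
      show (b ^ p) ^ p ^ (e - 1) = 1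
      rw [← pow_mul, ← pow_succ', show e - 1 + 1 = e by omega, he]
    · show (f u * u⁻¹) ^ p ^ (e - 1) = 1
      refine φ.injective (funext fun i => ?_)
      simp only [f, mask, map_pow, map_mul, map_inv, MonoidHom.comp_apply, MulEquiv.coe_toMonoidHom,
        MulEquiv.apply_symm_apply, MonoidHom.coe_mk, OneHom.coe_mk, Pi.pow_apply, Pi.mul_apply, Pi.inv_apply,
        map_one, Pi.one_apply]
      split_ifs with hi
      · simp
      · rw [one_mul]
        obtain ⟨k, hk, hnk⟩ := hni i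
        have hdvd : n i ∣ p ^ (e - 1) := by
          rw [hnk]
          refine pow_dvd_pow p ?_
          rcases hk.eq_or_lt with rfl | h
          · exact absurd hnk hi
          · omega
        apply Multiplicative.toAdd.injective
        rw [toAdd_pow, nsmul_eq_mul, (ZMod.natCast_eq_zero_iff _ _).2 hdvd, zero_mul, toAdd_one]
    · have hu' : u ^ p ^ (e - 1) = 1 := hu
      have h1 : ∀ i, ∃ c : ZMod (n i), n i = p ^ e → (p : ZMod (n i)) * c = Multiplicative.toAdd (φ u i) := by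
        intro i
        by_cases hi : n i = p ^ e
        · haveI : NeZero (n i) := ⟨by have := hn i; omega⟩
          obtain ⟨t, ht⟩ : ∃ t : ℕ, (t : ZMod (n i)) = Multiplicative.toAdd (φ u i) := ⟨_, ZMod.natCast_rightInverse _⟩
          have h2 := congrArg (fun z => Multiplicative.toAdd (z i)) (congrArg φ hu')
          simp only [map_pow, Pi.pow_apply, toAdd_pow, nsmul_eq_mul, map_one, Pi.one_apply, toAdd_one] at h2
          rw [← ht, ← Nat.cast_mul, ZMod.natCast_eq_zero_iff, hi] at h2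
          obtain ⟨c, hc⟩ := (Nat.mul_dvd_mul_iff_left (pow_pos hp.pos (e - 1))).1
            (show p ^ (e - 1) * p ∣ p ^ (e - 1) * t by rwa [← pow_succ, show e - 1 + 1 = e by omega])
          exact ⟨c, fun _ => by rw [← ht, hc, Nat.cast_mul]⟩
        · exact ⟨0, fun h => absurd h hi⟩
      choose c hc using h1
      refine ⟨φ.symm fun i => if n i = p ^ e then Multiplicative.ofAdd (c i) else 1, φ.injective (funext fun i => ?_)⟩
      simp only [powMonoidHom_apply, f, mask, map_pow, MonoidHom.comp_apply, MulEquiv.coe_toMonoidHom,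
        MulEquiv.apply_symm_apply, MonoidHom.coe_mk, OneHom.coe_mk, Pi.pow_apply]
      split_ifs with hi
      · apply Multiplicative.toAdd.injective
        rw [toAdd_pow, toAdd_ofAdd, nsmul_eq_mul, hc i hi]
      · simp
    · obtain ⟨a, ha⟩ := hemin (e - 1) (by omega)
      exact ⟨a, Subgroup.mem_top a, ha⟩
    · refine ⟨φ.symm (Pi.mulSingle i₀ (Multiplicative.ofAdd 1)), ?_, ?_⟩
      · rw [MonoidHom.mem_ker, powMonoidHom_apply]
        refine φ.injective (funext fun i => ?_)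
        rw [map_pow, MulEquiv.apply_symm_apply, Pi.pow_apply, show φ 1 = 1 from map_one φ, Pi.one_apply]
        by_cases hi : i = i₀
        · subst hi
          rw [Pi.mulSingle_eq_same]
          obtain ⟨k, hk, hnk⟩ := hni i
          have hdvd : n i ∣ p ^ (e - 1) := by
            rw [hnk]
            refine pow_dvd_pow p ?_
            rcases hk.eq_or_lt with rfl | h
            · exact absurd hnk hi₀
            · omega
          apply Multiplicative.toAdd.injective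
          rw [toAdd_pow, nsmul_eq_mul, (ZMod.natCast_eq_zero_iff _ _).2 hdvd, zero_mul, toAdd_one]
        · rw [Pi.mulSingle_eq_of_ne hi, one_pow]
      · rintro ⟨b, hb⟩
        obtain ⟨k, -, hnk⟩ := hni i₀
        have hk0 : k ≠ 0 := fun h0 => by have := hn i₀; rw [hnk, h0, pow_zero] at this; omega
        have h2 := congrArg (fun z => Multiplicative.toAdd (z i₀)) (congrArg φ hb)
        simp only [powMonoidHom_apply, map_pow, MulEquiv.apply_symm_apply, Pi.pow_apply, Pi.mulSingle_eq_same,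
          toAdd_pow, toAdd_ofAdd, nsmul_eq_mul] at h2
        have hdvd : p ∣ n i₀ := hnk ▸ dvd_pow_self p hk0
        have h3 := congrArg (ZMod.castHom hdvd (ZMod p)) h2
        rw [map_mul, map_natCast, map_one, ZMod.natCast_self, zero_mul] at h3
        exact zero_ne_one h3

end Cfsg.Agent.S3775
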