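import Cfsg.Statements.S3777
import Cfsg.Agent.PGroups.BreadthGraded

set_option autoImplicit false
open Cfsg

namespace Cfsg.Agent.S3777

/-- Vaughan-Lee's Theorem: if G is a finite p-group in which every conjugacy class has at most p^b elements (every element has centralizer of index at most p^b), then the derived subgroup of G has order at most p^(b(b+1)/2). -/
theorem result {G : Type*} [Group G] [Finite G] {p : ℕ} [Fact p.Prime] (hG : IsPGroup p G) (b : ℕ) (hb : ∀ x : G, (Subgroup.centralizer ({x} : Set G)).index ≤ p ^ b) : Nat.card (commutator G) ≤ p ^ (b * (b + 1) / 2) := by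
  haveI := hG.isNilpotent
  obtain ⟨c, hc⟩ : ∃ c, Cfsg.Lib.LieFpf.lcs G c = ⊥ :=
    ⟨_, Subgroup.lowerCentralSeries_nilpotencyClass⟩
  obtain ⟨N, hN⟩ := IsPGroup.iff_card.1 hG
  have h := Cfsg.Lib.Breadth.card_span_le (p := p) ⟨N, (Cfsg.Lib.Breadth.card_gr hc).trans hN⟩
    (Cfsg.Lib.Breadth.generates c) b (by
      rintro x ⟨g, rfl⟩
      exact (Cfsg.Lib.Breadth.ad_ker_index_le hc g).trans (hb g))
  rw [← Subgroup.top_lowerCentralSeries_one]
  exact (Cfsg.Lib.Breadth.card_lcs_one_le hc).trans h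
end Cfsg.Agent.S3777
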