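import Cfsg.Statements.S3778


set_option autoImplicit false
open Cfsg

namespace Cfsg.Agent.S3778

open scoped commutatorElement

open scoped Classical in
theorem key {G : Type*} [Group G] [Finite G] {p : ℕ} [Fact p.Prime] (hG : IsPGroup p G)
    (x : G) (n : ℕ) (T : Finset ℕ) (hT : ∀ i ∈ T, i < n ∧ ∃ g ∈ (⊤ : Subgroup G).lowerCentralSeries i,
      ⁅g, x⁆ ∉ (⊤ : Subgroup G).lowerCentralSeries (i + 2)) :
    p ^ T.card ≤ ((⊤ : Subgroup G).lowerCentralSeries n ⊔ Subgroup.centralizer ({x} : Set G)).index := by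
  induction n generalizing T with
  | zero =>
    have : T = ∅ := Finset.eq_empty_of_forall_notMem fun i hi => absurd (hT i hi).1 (Nat.not_lt_zero _)
    simp [this]
  | succ n ih =>
    set γ := (⊤ : Subgroup G).lowerCentralSeries with hγ
    set C := Subgroup.centralizer ({x} : Set G) with hC
    haveI : ∀ i, (γ i).Normal := fun i => by infer_instance
    have hle : γ (n + 1) ⊔ C ≤ γ n ⊔ C :=
      sup_le_sup_right ((⊤ : Subgroup G).lowerCentralSeries_antitone (Nat.le_succ n)) C
    have hrec := ih (T.erase n) (fun i hi => by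
      obtain ⟨hne, hi⟩ := Finset.mem_erase.1 hi
      obtain ⟨h1, h2⟩ := hT i hi
      exact ⟨by omega, h2⟩)
    have hidx : (γ (n + 1) ⊔ C).index = (γ (n + 1) ⊔ C).relIndex (γ n ⊔ C) * (γ n ⊔ C).index :=
      (Subgroup.relIndex_mul_index hle).symm
    by_cases hn : n ∈ T
    · have hne : (γ (n + 1) ⊔ C).relIndex (γ n ⊔ C) ≠ 1 := by
        intro h
        rw [Subgroup.relIndex_eq_one] at h
        obtain ⟨-, g, hg, hgx⟩ := hT n hn
        have hg' : g ∈ γ (n + 1) ⊔ C := h (Subgroup.mem_sup_left hg)
        obtain ⟨u, hu, v, hv, huv⟩ := Subgroup.mem_sup_of_normal_left.1 hg'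
        refine hgx ?_
        have hvx : x * v = v * x := Subgroup.mem_centralizer_iff.1 hv x rfl
        have e : ⁅g, x⁆ = ⁅u, x⁆ := by
          rw [← huv, commutatorElement_def, commutatorElement_def, mul_inv_rev]
          calc u * v * x * (v⁻¹ * u⁻¹) * x⁻¹ = u * (v * x) * v⁻¹ * u⁻¹ * x⁻¹ := by group
            _ = u * x * u⁻¹ * x⁻¹ := by rw [← hvx]; group
        rw [e]
        show ⁅u, x⁆ ∈ ⁅γ (n + 1), (⊤ : Subgroup G)⁆
        exact Subgroup.commutator_mem_commutator hu (Subgroup.mem_top x)
      have hdvd : (γ (n + 1) ⊔ C).relIndex (γ n ⊔ C) ∣ Nat.card G :=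
        (Subgroup.index_dvd_card _).trans (Subgroup.card_subgroup_dvd_card _)
      obtain ⟨k, hk⟩ := IsPGroup.iff_card.1 hG
      rw [hk, Nat.dvd_prime_pow (Fact.out : p.Prime)] at hdvd
      obtain ⟨j, -, hj⟩ := hdvd
      have hj1 : j ≠ 0 := by rintro rfl; exact hne (by simpa using hj)
      rw [hidx, hj, ← Finset.card_erase_add_one hn, pow_succ, mul_comm (p ^ _) p]
      exact Nat.mul_le_mul (Nat.le_self_pow hj1 p) hrec
    · rw [hidx, ← Finset.erase_eq_of_notMem hn]
      refine hrec.trans (Nat.le_mul_of_pos_left _ (Nat.pos_of_ne_zero ?_))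
      exact Subgroup.index_ne_zero_of_finite


/-- If G is a finite p-group in which every conjugacy class has at most p^b elements (every element has centralizer of index at most p^b), then G is abelian when b = 0, and when b ≥ 1 its nilpotency class c satisfies (c − 1)(p − 1) < bp, that is c < bp/(p − 1) + 1, and hence c ≤ 2b. -/
theorem result {G : Type*} [Group G] [Finite G] {p : ℕ} [Fact p.Prime] (hG : IsPGroup p G) (b : ℕ) (hb : ∀ x : G, (Subgroup.centralizer ({x} : Set G)).index ≤ p ^ b) : ∃ c : ℕ, (⊤ : Subgroup G).lowerCentralSeries c = ⊥ ∧ (b ≠ 0 → (c - 1) * (p - 1) < b * p ∧ c ≤ 2 * b) ∧ (b = 0 → c ≤ 1) := by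
  classical
  set γ := (⊤ : Subgroup G).lowerCentralSeries with hγ
  have hp : p.Prime := Fact.out
  haveI : Group.IsNilpotent G := hG.isNilpotent
  have hex : ∃ n, γ n = ⊥ := Subgroup.nilpotent_iff_lowerCentralSeries.1 inferInstance
  set c := Nat.find hex with hc
  refine ⟨c, Nat.find_spec hex, fun hb0 => ?_, fun hb0 => ?_⟩
  swap
  · refine Nat.find_le ?_
    show ⁅(⊤ : Subgroup G), ⊤⁆ = ⊥
    rw [Subgroup.commutator_eq_bot_iff_le_centralizer]
    intro g _ h _
    have h1 := hb g
    rw [hb0, pow_zero] at h1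
    have h2 : (Subgroup.centralizer ({g} : Set G)).index = 1 :=
      le_antisymm h1 (Nat.pos_of_ne_zero Subgroup.index_ne_zero_of_finite)
    have h3 : h ∈ Subgroup.centralizer ({g} : Set G) := by
      rw [Subgroup.index_eq_one.1 h2]; exact Subgroup.mem_top h
    exact (Subgroup.mem_centralizer_iff.1 h3 g rfl).symm
  have hmain : (c - 1) * (p - 1) < b * p := by
    rcases Nat.eq_zero_or_pos (c - 1) with h | hcpos
    · rw [h, zero_mul]; exact Nat.mul_pos (Nat.pos_of_ne_zero hb0) hp.pos
    haveI : ∀ i, (γ i).Normal := fun i => by infer_instance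
    let D : ℕ → Subgroup G := fun i =>
      (Subgroup.centralizer (((γ i).map (QuotientGroup.mk' (γ (i + 2)))) : Set (G ⧸ γ (i + 2)))).comap
        (QuotientGroup.mk' (γ (i + 2)))
    have hD : ∀ i x, x ∈ D i ↔ ∀ g ∈ γ i, ⁅g, x⁆ ∈ γ (i + 2) := by
      intro i x
      simp only [D, Subgroup.mem_comap, Subgroup.mem_centralizer_iff]
      constructor
      · intro h g hg
        rw [← QuotientGroup.eq_one_iff]
        have := h (QuotientGroup.mk' _ g) ⟨g, hg, rfl⟩
        show QuotientGroup.mk' (γ (i + 2)) ⁅g, x⁆ = 1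
        rw [map_commutatorElement, commutatorElement_eq_one_iff_mul_comm]
        exact this
      · rintro h _ ⟨g, hg, rfl⟩
        have : QuotientGroup.mk' (γ (i + 2)) ⁅g, x⁆ = 1 := (QuotientGroup.eq_one_iff _).2 (h g hg)
        rw [map_commutatorElement, commutatorElement_eq_one_iff_mul_comm] at this
        exact this
    have hproper : ∀ i < c - 1, p * Nat.card ↥(D i) ≤ Nat.card G := by
      intro i hi
      have hne : D i ≠ ⊤ := by
        intro h
        have hstep : γ (i + 1) ≤ γ (i + 2) := Subgroup.commutator_le.2 fun g hg x _ =>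
          (hD i x).1 (by rw [h]; exact Subgroup.mem_top x) g hg
        have hst : ∀ k, γ (i + 1) ≤ γ (i + 1 + k) := by
          intro k
          induction k with
          | zero => exact le_rfl
          | succ k ih => exact hstep.trans (Subgroup.commutator_mono ih le_rfl)
        have hbot : γ (i + 1) = ⊥ := le_bot_iff.1 <| (hst c).trans <| by
          rw [← Nat.find_spec hex]
          exact (⊤ : Subgroup G).lowerCentralSeries_antitone (by omega)
        have hm : c ≤ i + 1 := Nat.find_le hbot
        omega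
      obtain ⟨k, hk⟩ := hG.index (D i)
      have hk0 : k ≠ 0 := by
        rintro rfl; exact hne (Subgroup.index_eq_one.1 (by simpa using hk))
      calc p * Nat.card ↥(D i) ≤ (D i).index * Nat.card ↥(D i) :=
            Nat.mul_le_mul_right _ (hk ▸ Nat.le_self_pow hk0 p)
        _ = Nat.card G := Subgroup.index_mul_card _
    haveI : Fintype G := Fintype.ofFinite G
    let s : G → ℕ := fun x => ((Finset.range (c - 1)).filter fun i => x ∉ D i).card
    have hs : ∀ x, s x ≤ b := by
      intro x
      refine (Nat.pow_le_pow_iff_right hp.one_lt).1 ?_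
      refine ((key hG x (c - 1) _ fun i hi => ?_).trans ?_).trans (hb x)
      · obtain ⟨hi1, hi2⟩ := Finset.mem_filter.1 hi
        refine ⟨Finset.mem_range.1 hi1, ?_⟩
        rw [hD] at hi2
        push_neg at hi2
        exact hi2
      · exact Nat.le_of_dvd (Nat.pos_of_ne_zero Subgroup.index_ne_zero_of_finite)
          (Subgroup.index_dvd_of_le le_sup_right)
    have hs1 : s 1 = 0 := by
      simp only [s, Finset.card_eq_zero, Finset.filter_eq_empty_iff, not_not]
      exact fun i _ => Subgroup.one_mem _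
    have hlt : ∑ x, s x < b * Nat.card G := by
      calc ∑ x, s x < ∑ _x : G, b :=
            Finset.sum_lt_sum (fun x _ => hs x) ⟨1, Finset.mem_univ _, by rw [hs1]; omega⟩
        _ = b * Nat.card G := by
            rw [Finset.sum_const, Finset.card_univ, smul_eq_mul, mul_comm, Nat.card_eq_fintype_card]
    have hswap : ∑ x, s x = ∑ i ∈ Finset.range (c - 1), ((Finset.univ : Finset G).filter fun x => x ∉ D i).card := by
      simp only [s, Finset.card_filter]
      exact Finset.sum_comm
    have hge : ∀ i ∈ Finset.range (c - 1), (p - 1) * Nat.card G ≤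
        p * ((Finset.univ : Finset G).filter fun x => x ∉ D i).card := by
      intro i hi
      have h1 := hproper i (Finset.mem_range.1 hi)
      have h2 : ((Finset.univ : Finset G).filter fun x => x ∈ D i).card = Nat.card ↥(D i) := by
        rw [Nat.card_eq_fintype_card, Fintype.card_subtype]
      have h3 := Finset.card_filter_add_card_filter_not (s := (Finset.univ : Finset G)) (fun x => x ∈ D i)
      rw [h2, Finset.card_univ, ← Nat.card_eq_fintype_card] at h3
      obtain ⟨q, rfl⟩ : ∃ q, p = q + 1 := ⟨p - 1, by have := hp.pos; omega⟩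
      simp only [Nat.add_sub_cancel]
      nlinarith
    have hsum : (c - 1) * ((p - 1) * Nat.card G) ≤ p * ∑ x, s x := by
      rw [hswap, Finset.mul_sum]
      have := Finset.card_nsmul_le_sum (Finset.range (c - 1)) _ _ hge
      simpa using this
    have h4 : ((c - 1) * (p - 1)) * Nat.card G < (b * p) * Nat.card G := by
      have := Nat.mul_lt_mul_of_pos_left hlt hp.pos
      nlinarith
    exact Nat.lt_of_mul_lt_mul_right h4
  refine ⟨hmain, ?_⟩
  by_contra hcon
  have h5 : 2 * b * (p - 1) ≤ (c - 1) * (p - 1) := Nat.mul_le_mul_right _ (by omega)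
  have h6 : b * p ≤ 2 * b * (p - 1) := by
    have := hp.two_le
    obtain ⟨q, rfl⟩ : ∃ q, p = q + 2 := ⟨p - 2, by omega⟩
    rw [show q + 2 - 1 = q + 1 from rfl]
    nlinarith
  omega

end Cfsg.Agent.S3778
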