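import Cfsg.Statements.S3780
import Cfsg.Agent.PGroups.Basic

set_option autoImplicit false
open Cfsg

namespace Cfsg.Agent.S3780

open Subgroup

theorem exists_gen {V : Type*} [CommGroup V] [Finite V] {p : ℕ} [hp : Fact p.Prime] :
    ∀ (e : ℕ) (H : Subgroup V), H.index ∣ p ^ e → ∃ S : Finset V, S.card ≤ e ∧ H ⊔ closure (S : Set V) = ⊤ := by
  classical
  intro e
  induction e with
  | zero =>
    intro H hH
    rw [pow_zero, Nat.dvd_one, index_eq_one] at hH
    exact ⟨∅, le_rfl, by simp [hH]⟩
  | succ e ih =>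
    intro H hH
    by_cases ht : H = ⊤
    · exact ⟨∅, Nat.zero_le _, by simp [ht]⟩
    obtain ⟨x, -, hx⟩ := SetLike.exists_of_lt (lt_top_iff_ne_top.2 ht)
    set K := H ⊔ zpowers x
    have hidx : K.index ∣ p ^ e := by
      obtain ⟨i, hi, he⟩ := (Nat.dvd_prime_pow hp.out).1 hH
      obtain ⟨j, hj, he'⟩ := (Nat.dvd_prime_pow hp.out).1 ((index_dvd_of_le (le_sup_left : H ≤ K)).trans hH)
      rw [he']
      refine pow_dvd_pow p ?_
      have hlt : K.index < H.index := index_strictAnti (lt_of_le_of_ne le_sup_left fun h => hx (h.symm ▸ mem_sup_right (mem_zpowers x)))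
      rw [he, he'] at hlt
      have := (Nat.pow_lt_pow_iff_right hp.out.one_lt).1 hlt
      omega
    obtain ⟨S, hS, hgen⟩ := ih K hidx
    refine ⟨insert x S, (Finset.card_insert_le _ _).trans (by omega), ?_⟩
    rw [eq_top_iff, ← hgen]
    refine sup_le (sup_le le_sup_left ?_) ?_
    · rw [zpowers_le]
      exact mem_sup_right (subset_closure (by simp))
    · exact le_sup_of_le_right (closure_mono (by simp))

theorem card_ker_pow {Ω : Type*} [AddCommGroup Ω] [Finite Ω] (β : AddMonoid.End Ω) :
    ∀ k : ℕ, Nat.card (AddMonoidHom.ker (β ^ k : AddMonoid.End Ω)) ≤ Nat.card (AddMonoidHom.ker β) ^ k := by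
  intro k
  induction k with
  | zero =>
    have : Subsingleton (AddMonoidHom.ker (β ^ 0 : AddMonoid.End Ω)) := ⟨fun a b => Subtype.ext (by
      have ha : (β ^ 0 : AddMonoid.End Ω) a = 0 := a.2
      have hb : (β ^ 0 : AddMonoid.End Ω) b = 0 := b.2
      have h0 : ∀ x : Ω, (β ^ 0 : AddMonoid.End Ω) x = x := fun x => by rw [pow_zero]; rfl
      exact ((h0 _).symm.trans ha).trans (((h0 _).symm.trans hb)).symm)⟩
    rw [pow_zero (Nat.card (AddMonoidHom.ker β))]
    exact Finite.card_le_one_iff_subsingleton.2 this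
  | succ k ih =>
    let K := AddMonoidHom.ker (β ^ (k + 1) : AddMonoid.End Ω)
    let f : K →+ AddMonoidHom.ker (β ^ k : AddMonoid.End Ω) :=
      ((β : Ω →+ Ω).comp K.subtype).codRestrict _ fun x => by
        show (β ^ k : AddMonoid.End Ω) (β x) = 0
        have : (β ^ (k + 1) : AddMonoid.End Ω) (x : Ω) = 0 := x.2
        rw [pow_succ] at this
        exact this
    have h1 := AddSubgroup.card_eq_card_quotient_mul_card_addSubgroup f.ker
    rw [h1, pow_succ]
    refine Nat.mul_le_mul (le_trans ?_ ih) ?_
    · rw [Nat.card_congr (QuotientAddGroup.quotientKerEquivRange f).toEquiv]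
      exact Nat.card_le_card_of_injective _ Subtype.val_injective
    · refine Nat.card_le_card_of_injective (fun x => (⟨((x : K) : Ω), ?_⟩ : AddMonoidHom.ker β)) ?_
      · exact congrArg Subtype.val x.2
      · intro a b h
        have h' := congrArg Subtype.val h
        exact Subtype.ext (Subtype.ext h')


/-- Let V be a finite abelian p-group and α an automorphism of V of order p whose fixed-point subgroup has order p^n. Then V can be generated by pn elements: some subset of V with at most pn elements generates V. -/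
theorem result {V : Type*} [CommGroup V] [Finite V] {p : ℕ} [Fact p.Prime] (hV : IsPGroup p V) (α : MulAut V) (hα : orderOf α = p) (n : ℕ) (hfix : Nat.card {v : V // α v = v} = p ^ n) : ∃ S : Finset V, S.card ≤ p * n ∧ Subgroup.closure (S : Set V) = ⊤ := by
  classical
  have hp : p.Prime := Fact.out
  let pw : V →* V := powMonoidHom p
  set Ω := pw.ker
  have hΩcard : Nat.card Ω ≤ p ^ (p * n) := by
    have hmem : ∀ v ∈ Ω, α v ∈ Ω := fun v hv => by
      rw [MonoidHom.mem_ker] at hv ⊢
      show α v ^ p = 1
      rw [← map_pow, show v ^ p = 1 from hv, map_one]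
    let a : AddMonoid.End (Additive Ω) := MonoidHom.toAdditive
      ((α.toMonoidHom.comp Ω.subtype).codRestrict Ω fun x => hmem _ x.2)
    set β : AddMonoid.End (Additive Ω) := a - 1 with hβ
    have hpz : (p : AddMonoid.End (Additive Ω)) = 0 := by
      refine AddMonoidHom.ext fun x => ?_
      show p • x = 0
      exact Subtype.ext x.toMul.2
    have ha : ∀ (k : ℕ) (x : Additive Ω), (((a ^ k) x).toMul : V) = (α ^ k) (x.toMul : V) := by
      intro k
      induction k with
      | zero => intro x; rfl
      | succ k ih =>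
        intro x
        rw [pow_succ, pow_succ]
        show (((a ^ k) (a x)).toMul : V) = (α ^ k) (α (x.toMul : V))
        rw [ih]
        rfl
    have hap : a ^ p = 1 := AddMonoidHom.ext fun x => Subtype.ext (by
      show (((a ^ p) x).toMul : V) = (x.toMul : V)
      rw [ha, ← hα, pow_orderOf_eq_one]; rfl)
    have hβp : β ^ p = 0 := by
      obtain ⟨r, hr⟩ := (Commute.one_right β).exists_add_pow_prime_eq hp
      rw [hβ, sub_add_cancel, hap, one_pow, hpz] at hr
      simp only [zero_mul, add_zero] at hr
      rw [hβ]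
      exact right_eq_add.1 hr
    have h1 := card_ker_pow β p
    have hker : AddMonoidHom.ker (β ^ p : AddMonoid.End (Additive Ω)) = ⊤ := by
      rw [hβp]; exact AddMonoidHom.ker_zero
    rw [hker, AddSubgroup.card_top] at h1
    refine le_trans h1 ((Nat.pow_le_pow_left ?_ p).trans (by rw [← pow_mul, mul_comm]))
    rw [← hfix]
    refine Nat.card_le_card_of_injective (fun x => ⟨((x : Additive Ω).toMul : V), ?_⟩) ?_
    · have h2 : a (x : Additive Ω) - (x : Additive Ω) = 0 := x.2
      exact congrArg (fun y : Additive Ω => (y.toMul : V)) (sub_eq_zero.1 h2)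
    · intro x y h
      have h' := congrArg Subtype.val h
      exact Subtype.ext (Subtype.ext h')
  have hidx : pw.range.index = Nat.card Ω := by
    apply Nat.eq_of_mul_eq_mul_left (Nat.card_pos (α := pw.range))
    rw [Subgroup.card_mul_index, Subgroup.card_eq_card_quotient_mul_card_subgroup Ω,
      Nat.card_congr (QuotientGroup.quotientKerEquivRange pw).toEquiv]
  obtain ⟨e, he⟩ := (hV.to_subgroup Ω).exists_card_eq
  rw [he] at hidx hΩcard
  obtain ⟨S, hS, hgen⟩ := exists_gen (p := p) e pw.range (hidx ▸ dvd_rfl)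
  refine ⟨S, hS.trans ((Nat.pow_le_pow_iff_right hp.one_lt).1 hΩcard), ?_⟩
  by_contra hne
  obtain ⟨M, hM, hSM⟩ := (eq_top_or_exists_le_coatom (Subgroup.closure (S : Set V))).resolve_left hne
  have hi := (Cfsg.Lib.PGroups.coatom_normal_index hV hM).2
  refine hM.1 (top_le_iff.1 (hgen.ge.trans (sup_le ?_ hSM)))
  rintro _ ⟨v, rfl⟩
  show v ^ p ∈ M
  rw [← hi]
  exact M.pow_index_mem v

end Cfsg.Agent.S3780
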