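import Cfsg.Statements.S3781
import Cfsg.Agent.SolvStruct.Basics
import Cfsg.Agent.Coprime.Sylow

set_option autoImplicit false
open Cfsg

namespace Cfsg.Agent.S3781

theorem iterate_normal {G : Type*} [Group G] (X : Subgroup G) [X.Normal] :
    ∀ j, ((fun Y : Subgroup G => ⁅Y, (⊤ : Subgroup G)⁆)^[j] X).Normal := by
  intro j
  induction j with
  | zero => assumption
  | succ j ih =>
    rw [Function.iterate_succ_apply']
    infer_instance

theorem commutator_lcs_le {G : Type*} [Group G] [Finite G] : ∀ (k : ℕ) (X : Subgroup G) [X.Normal],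
    ⁅X, (⊤ : Subgroup G).lowerCentralSeries k⁆ ≤ (fun Y : Subgroup G => ⁅Y, (⊤ : Subgroup G)⁆)^[k + 1] X := by
  intro k
  induction k with
  | zero => intro X _; exact le_rfl
  | succ k ih =>
    intro X _
    haveI := iterate_normal X (k + 1 + 1)
    rw [Subgroup.lowerCentralSeries_succ, Subgroup.commutator_comm]
    refine Cfsg.Lib.SolvStruct.three_subgroup_le ?_ ?_
    · rw [Subgroup.commutator_comm (⊤ : Subgroup G) X, Function.iterate_succ_apply]
      exact ih ⁅X, (⊤ : Subgroup G)⁆
    · rw [Function.iterate_succ_apply']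
      exact Subgroup.commutator_mono (ih X) le_rfl



/-- Let G be a finite p-group and n ≥ 1, and write γ_1(G) = G, γ_{k+1}(G) = [γ_k(G), G], and likewise γ_k(N) for a subgroup N. Let N be a normal subgroup of G contained in γ_n(G). If i > 1 and γ_{i+1}(N) ≠ 1, then |γ_i(N) : γ_{i+1}(N)| ≥ p^n. -/
theorem result {G : Type*} [Group G] [Finite G] {p : ℕ} [Fact p.Prime] (hG : IsPGroup p G) (n : ℕ) (hn : 1 ≤ n) (N : Subgroup G) [N.Normal] (hN : N ≤ (⊤ : Subgroup G).lowerCentralSeries (n - 1)) (i : ℕ) (hi : 1 < i) (hne : N.lowerCentralSeries i ≠ ⊥) : p ^ n ≤ (N.lowerCentralSeries i).relIndex (N.lowerCentralSeries (i - 1)) := by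
  have hp : p.Prime := Fact.out
  obtain ⟨i, rfl⟩ : ∃ j, i = j + 1 := ⟨i - 1, by omega⟩
  rw [Nat.add_sub_cancel]
  set X := N.lowerCentralSeries i with hX
  set Z := N.lowerCentralSeries (i + 1) with hZ
  have hZX : Z = ⁅X, N⁆ := Subgroup.lowerCentralSeries_succ N i
  have hZleX : Z ≤ X := hZX ▸ Subgroup.commutator_le_left X N
  by_contra hlt
  push Not at hlt
  set π := QuotientGroup.mk' Z with hπ
  have hsurj : Function.Surjective π := QuotientGroup.mk'_surjective Z
  haveI : Group.IsNilpotent G := hG.isNilpotent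
  haveI : Group.IsNilpotent (⊤ : Subgroup (G ⧸ Z)) := ((hG.to_quotient Z).to_subgroup ⊤).isNilpotent
  have hcard : Nat.card (X.map π) = Z.relIndex X := by
    rw [← Subgroup.relIndex_bot_left, ← Subgroup.relIndex_comap, MonoidHom.comap_bot, hπ, QuotientGroup.ker_mk']
  obtain ⟨m, hm⟩ := IsPGroup.iff_card.1 ((hG.to_quotient Z).to_subgroup (X.map π))
  have hmn : m < n := by
    rw [← hcard, hm] at hlt
    exact (Nat.pow_lt_pow_iff_right hp.one_lt).1 hlt
  set D : ℕ → Subgroup G := fun j => (fun Y : Subgroup G => ⁅Y, (⊤ : Subgroup G)⁆)^[j] X with hD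
  have hDs : ∀ j, D (j + 1) = ⁅D j, (⊤ : Subgroup G)⁆ := fun j => Function.iterate_succ_apply' _ j X
  have hstep : ∀ j, (D j).map π = ⊥ ∨ Nat.card ((D j).map π) * p ^ j ≤ p ^ m := by
    intro j
    induction j with
    | zero => exact Or.inr (by rw [pow_zero, mul_one]; exact hm.le)
    | succ j ih =>
      rw [hDs, Subgroup.map_commutator, Subgroup.map_top_of_surjective π hsurj]
      rcases ih with h | h
      · left; rw [h, Subgroup.commutator_bot_left]
      by_cases hb : (D j).map π = ⊥
      · left; rw [hb, Subgroup.commutator_bot_left]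
      right
      haveI : (D j).Normal := iterate_normal X j
      haveI : ((D j).map π).Normal := Subgroup.Normal.map inferInstance π hsurj
      have hlt2 := Cfsg.Lib.Coprime.commutator_lt_of_isNilpotent (T := (⊤ : Subgroup (G ⧸ Z))) le_top hb
        (by rw [Subgroup.normalizer_eq_top])
      obtain ⟨a, ha⟩ := IsPGroup.iff_card.1 ((hG.to_quotient Z).to_subgroup ((D j).map π))
      obtain ⟨b, hb'⟩ := IsPGroup.iff_card.1 ((hG.to_quotient Z).to_subgroup ⁅(D j).map π, (⊤ : Subgroup (G ⧸ Z))⁆)
      have hab : b < a := by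
        refine (Nat.pow_lt_pow_iff_right hp.one_lt).1 ?_
        rw [← ha, ← hb']
        refine lt_of_le_of_ne (Nat.le_of_dvd Nat.card_pos (Subgroup.card_dvd_of_le hlt2.le)) fun e => hlt2.ne ?_
        exact Subgroup.eq_of_le_of_card_ge hlt2.le e.ge
      refine le_trans ?_ h
      rw [hb', ha, ← pow_add, ← pow_add]
      exact Nat.pow_le_pow_right hp.pos (by omega)
  have hDm : D (n - 1) ≤ Z := by
    have h1 : (D (n - 1)).map π = ⊥ := by
      rcases hstep (n - 1) with h | h
      · exact h
      · refine Subgroup.card_eq_one.1 (le_antisymm ?_ Nat.card_pos)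
        have h2 : p ^ m ≤ p ^ (n - 1) := Nat.pow_le_pow_right hp.pos (by omega)
        exact Nat.le_of_mul_le_mul_right (by rw [one_mul]; exact h.trans h2) (pow_pos hp.pos _)
    rwa [Subgroup.map_eq_bot_iff, hπ, QuotientGroup.ker_mk'] at h1
  have h1 : Z ≤ ⁅Z, (⊤ : Subgroup G)⁆ := by
    refine hZX.le.trans ((Subgroup.commutator_mono le_rfl hN).trans ?_)
    refine (commutator_lcs_le (n - 1) X).trans ?_
    rw [Function.iterate_succ_apply']
    exact Subgroup.commutator_mono hDm le_rfl
  haveI : Group.IsNilpotent (⊤ : Subgroup G) := (hG.to_subgroup ⊤).isNilpotent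
  have h2 := Cfsg.Lib.Coprime.commutator_lt_of_isNilpotent (T := (⊤ : Subgroup G)) le_top hne
    (by rw [Subgroup.normalizer_eq_top])
  exact h2.not_ge h1

end Cfsg.Agent.S3781
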