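import Cfsg.Statements.S3784
import Mathlib

set_option autoImplicit false
open Cfsg

namespace Cfsg.Agent.S3784

/-- Let p, q be primes and a, b positive integers with p^a = q^b + 1. Then either p = 2, b = 1, a is prime and q = 2^a − 1; or q = 2, a = 1, b is a power of 2 and p = 2^b + 1; or p^a = 9 and q^b = 8. -/
theorem result (p q a b : ℕ) (hp : p.Prime) (hq : q.Prime) (ha : 1 ≤ a) (hb : 1 ≤ b) (h : p ^ a = q ^ b + 1) : (p = 2 ∧ b = 1 ∧ a.Prime ∧ q + 1 = 2 ^ a) ∨ (q = 2 ∧ a = 1 ∧ (∃ m : ℕ, b = 2 ^ m) ∧ p = 2 ^ b + 1) ∨ (p ^ a = 9 ∧ q ^ b = 8) := by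
  have oddSum : ∀ (t n : ℕ), Odd t → Odd n → Odd (∑ i ∈ Finset.range n, t ^ i) := by
    intro t n ht hn
    rw [Finset.odd_sum_iff_odd_card_odd]
    rw [Finset.filter_true_of_mem (fun i _ => ht.pow), Finset.card_range]
    exact hn
  by_cases hq2 : q = 2
  · subst hq2
    have hpo : Odd (p ^ a) := by
      rw [h]; exact (Nat.even_pow.mpr ⟨even_two, by omega⟩).add_one
    have hp1 : Odd p := (Nat.odd_pow_iff (by omega)).mp hpo
    rcases Nat.even_or_odd a with ⟨c, rfl⟩ | hao
    · right; right
      set u := p ^ c with hu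
      have hu1 : 3 ≤ u := by
        have : p ≤ u := Nat.le_self_pow (by omega) p
        obtain ⟨k, hk⟩ := hp1
        have := hp.two_le
        omega
      rw [pow_add, ← hu] at h
      have hfac : (u - 1) * (u + 1) = 2 ^ b := by
        obtain ⟨v, hv⟩ : ∃ v, u = v + 1 := ⟨u - 1, by omega⟩
        rw [hv] at h ⊢
        rw [Nat.add_sub_cancel]
        have : v * (v + 1 + 1) + 1 = (v + 1) * (v + 1) := by ring
        omega
      obtain ⟨i, -, hi⟩ := (Nat.dvd_prime_pow Nat.prime_two).mp ⟨_, hfac.symm⟩
      obtain ⟨j, -, hj⟩ := (Nat.dvd_prime_pow Nat.prime_two).mp (Dvd.intro_left _ hfac)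
      have hi1 : i = 1 := by
        rcases i with _ | _ | i
        · simp at hi; omega
        · rfl
        · exfalso
          have : (2:ℕ) ^ (i + 2) = 4 * 2 ^ i := by ring
          rcases j with _ | _ | j
          · simp at hj; omega
          · simp at hj; omega
          · have : (2:ℕ) ^ (j + 2) = 4 * 2 ^ j := by ring
            omega
      subst hi1
      have hu3 : u = 3 := by omega
      rw [pow_add, ← hu, hu3]
      rw [hu3] at h
      constructor <;> omega
    · right; left
      have hpa : p ^ a - 1 = 2 ^ b := by rw [h, Nat.add_sub_cancel]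
      have hdiv : (∑ i ∈ Finset.range a, p ^ i) ∣ 2 ^ b := by
        rw [← hpa]
        have h1 := geom_sum_mul_of_one_le hp.one_le a
        exact ⟨_, h1.symm⟩
      obtain ⟨i, -, hi⟩ := (Nat.dvd_prime_pow Nat.prime_two).mp hdiv
      have hSo := oddSum p a hp1 hao
      rw [hi] at hSo
      have hi0 : i = 0 := by
        by_contra h0
        exact (Nat.not_even_iff_odd.mpr hSo) (Nat.even_pow.mpr ⟨even_two, h0⟩)
      rw [hi0, pow_zero] at hi
      have ha1 : a = 1 := by
        by_contra hne
        have h2 : 1 + p ≤ ∑ i ∈ Finset.range a, p ^ i := by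
          calc 1 + p = ∑ i ∈ Finset.range 2, p ^ i := by simp [Finset.sum_range_succ]
            _ ≤ _ := Finset.sum_le_sum_of_subset (Finset.range_subset_range.mpr (by omega))
        have := hp.two_le
        omega
      subst ha1
      rw [pow_one] at h
      exact ⟨rfl, rfl, Nat.pow_of_pow_add_prime (by norm_num) (by omega) (h ▸ hp), h⟩
  · left
    have hqo : Odd q := hq.odd_of_ne_two hq2
    have hp2 : p = 2 := by
      have : Even (p ^ a) := by rw [h]; exact hqo.pow.add_one
      exact (Nat.prime_dvd_prime_iff_eq Nat.prime_two hp).mp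
        (Nat.prime_two.dvd_of_dvd_pow this.two_dvd) |>.symm
    subst hp2
    have hq3 : 3 ≤ q := by have := hq.two_le; omega
    have hb1 : b = 1 := by
      rcases Nat.even_or_odd b with ⟨c, rfl⟩ | hbo
      · exfalso
        have h4 : q ^ (c + c) % 4 = 1 := by
          rw [pow_add, ← mul_pow, Nat.pow_mod]
          have : (q * q) % 4 = 1 := by
            obtain ⟨k, rfl⟩ := hqo
            rw [show (2 * k + 1) * (2 * k + 1) = 4 * (k * k + k) + 1 by ring]
            omega
          rw [this, one_pow, Nat.one_mod]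
        have hqc : 3 ≤ q ^ (c + c) := le_trans hq3 (Nat.le_self_pow (by omega) q)
        rcases a with _ | _ | a
        · omega
        · omega
        · rw [show (2:ℕ) ^ (a + 2) = 4 * 2 ^ a by ring] at h
          omega
      · by_contra hne
        have hdiv : (q + 1) ∣ q ^ b + 1 := by simpa using hbo.nat_add_dvd_pow_add_pow q 1
        obtain ⟨S, hS⟩ := hdiv
        have hSo : Odd S := by
          have hint : (((q:ℤ) + 1)) * S = (q:ℤ) ^ b + 1 := by exact_mod_cast hS.symm
          have hgeo := geom_sum_mul (-(q:ℤ)) b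
          rw [hbo.neg_pow] at hgeo
          have hSe : (S : ℤ) = ∑ i ∈ Finset.range b, (-(q:ℤ)) ^ i := by
            apply mul_left_cancel₀ (show (q:ℤ) + 1 ≠ 0 by omega)
            linear_combination hint + hgeo
          rw [← Int.odd_coe_nat, hSe, Int.odd_iff, Finset.sum_int_mod,
            Finset.sum_congr rfl (fun i _ => Int.odd_iff.mp ((((Int.odd_coe_nat q).mpr hqo).neg).pow (n := i))),
            Finset.sum_const, Finset.card_range, nsmul_one, ← Int.odd_iff, Int.odd_coe_nat]
          exact hbo
        rw [← h] at hS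
        obtain ⟨i, -, hi⟩ := (Nat.dvd_prime_pow Nat.prime_two).mp (Dvd.intro_left _ hS.symm)
        have hi0 : i = 0 := by
          by_contra h0
          rw [hi] at hSo
          exact (Nat.not_even_iff_odd.mpr hSo) (Nat.even_pow.mpr ⟨even_two, h0⟩)
        rw [hi, hi0, pow_zero, mul_one] at hS
        have : q ^ 1 < q ^ b := Nat.pow_lt_pow_right (by omega) (by omega)
        rw [pow_one] at this
        omega
    subst hb1
    rw [pow_one] at h
    refine ⟨rfl, rfl, ?_, h.symm⟩
    have hq' : (2 ^ a - 1).Prime := by rw [h, Nat.add_sub_cancel]; exact hq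
    exact (Nat.prime_of_pow_sub_one_prime (by
      rintro rfl
      omega) hq').2

end Cfsg.Agent.S3784
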