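import Cfsg.Statements.S3785
import Cfsg.Agent.Coprime.Fitting
import Cfsg.Agent.Transfer.Basic
import Cfsg.Agent.S0120
import Cfsg.Agent.Transfer.FrobeniusApps
import Cfsg.Agent.Coprime.Sylow
import Cfsg.Agent.Components.GenFitting

set_option autoImplicit false
open Cfsg

namespace Cfsg.Agent.S3785

/-- Let G be a finite solvable group whose Fitting subgroup F(G) has odd order. If an element g of G commutes with every element of prime order of F(G), then g ∈ F(G). -/
theorem result {G : Type*} [Group G] [Finite G] (hG : Group.IsSolvable G) (hodd : Odd (Nat.card (Cfsg.fittingSubgroup G))) (g : G) (hg : ∀ x ∈ Cfsg.fittingSubgroup G, (orderOf x).Prime → g * x = x * g) : g ∈ Cfsg.fittingSubgroup G := by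
  have := hG
  set F := Cfsg.fittingSubgroup G
  have hFnil : Group.IsNilpotent F := Cfsg.Lib.Components.isNilpotent_fitting
  let D : Subgroup G :=
    { carrier := {d | ∀ x ∈ F, (orderOf x).Prime → d * x = x * d}
      one_mem' := fun x _ _ => by simp
      mul_mem' := fun {a b} ha hb x hx hp => by
        rw [mul_assoc, hb x hx hp, ← mul_assoc, ha x hx hp, mul_assoc]
      inv_mem' := fun {a} ha x hx hp => ((show Commute a x from ha x hx hp).inv_left).eq }
  have hDn : D.Normal := ⟨fun d hd c x hx hp => by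
    have h1 := hd (c⁻¹ * x * c) (by simpa using (inferInstance : F.Normal).conj_mem x hx c⁻¹) (by
      rw [show c⁻¹ * x * c = (MulAut.conj c⁻¹).toMonoidHom x by simp]
      rwa [orderOf_injective _ (MulAut.conj c⁻¹).injective])
    calc c * d * c⁻¹ * x = c * (d * (c⁻¹ * x * c)) * c⁻¹ := by group
      _ = c * (c⁻¹ * x * c * d) * c⁻¹ := by rw [h1]
      _ = _ := by group⟩
  -- elements of prime power order centralise the other Sylow subgroups of the Fitting subgroup
  have hcent : ∀ (p q : ℕ), p.Prime → q.Prime → p ≠ q → ∀ d ∈ D, (∃ i, orderOf d = q ^ i) →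
      ∀ x ∈ F, (∃ j, orderOf x = p ^ j) → d * x = x * d := by
    intro p q hp hq hpq d hd ⟨i, hi⟩ x hx ⟨j, hj⟩
    have := Fact.mk hp
    by_cases hj0 : j = 0
    · rw [hj0, pow_zero, orderOf_eq_one_iff] at hj; simp [hj]
    have hp2 : p ≠ 2 := by
      rintro rfl
      exact Nat.not_even_iff_odd.mpr hodd (even_iff_two_dvd.mpr
        ((hj ▸ dvd_pow_self 2 hj0 : 2 ∣ orderOf x).trans (Subgroup.orderOf_dvd_natCard F hx)))
    obtain ⟨P, hP⟩ := (IsPGroup.of_card (p := p) (n := j) (G := Subgroup.zpowers (⟨x, hx⟩ : F))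
      (by rw [Nat.card_zpowers, Subgroup.orderOf_mk, hj])).exists_le_sylow
    have htf : Group.IsNilpotent F ↔ ∀ (p : ℕ) (_ : Fact p.Prime) (P : Sylow p F), (P : Subgroup F).Normal :=
      (Group.isNilpotent_of_finite_tfae (G := F)).out 0 3
    have hPn : (P : Subgroup F).Normal := htf.mp hFnil p ‹_› P
    have : (P : Subgroup F).Characteristic := P.characteristic_of_normal hPn
    set U := (P : Subgroup F).map F.subtype
    have hUn : U.Normal := ConjAct.normal_of_characteristic_of_normal
    let α : MulAut U :=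
      { toFun := fun u => ⟨d * u * d⁻¹, hUn.conj_mem u u.2 d⟩
        invFun := fun u => ⟨d⁻¹ * u * d, by simpa using hUn.conj_mem u u.2 d⁻¹⟩
        left_inv := fun u => Subtype.ext (by simp [mul_assoc])
        right_inv := fun u => Subtype.ext (by simp [mul_assoc])
        map_mul' := fun u v => Subtype.ext (by simp [mul_assoc]) }
    have hαpow : ∀ m : ℕ, ∀ u : U, (((α ^ m) u : U) : G) = d ^ m * u * (d ^ m)⁻¹ := by
      intro m
      induction m with
      | zero => intro u; simp
      | succ m ih => intro u; rw [pow_succ', pow_succ', MulAut.mul_apply]; show d * _ * d⁻¹ = _; rw [ih]; group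
    have hα : α = 1 := Cfsg.Agent.S0120.result hp2 (P.2.map _) α (by
      refine Nat.Coprime.coprime_dvd_left (orderOf_dvd_of_pow_eq_one (n := q ^ i) (MulEquiv.ext fun u => Subtype.ext ?_))
        (((Nat.coprime_primes hq hp).mpr hpq.symm).pow_left i)
      rw [hαpow, ← hi, pow_orderOf_eq_one]; simp)
      (fun u hu => Subtype.ext (by
        show d * (u : G) * d⁻¹ = u
        rw [mul_inv_eq_iff_eq_mul]
        have hu' : (u : G) ^ p = 1 := by simpa using congrArg Subtype.val hu
        rcases (Nat.dvd_prime hp).mp (orderOf_dvd_of_pow_eq_one hu') with h1 | h1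
        · rw [orderOf_eq_one_iff.mp h1]; simp
        · exact hd u (Subgroup.map_subtype_le _ u.2) (by rw [h1]; exact hp)))
    have h2 := congrArg (fun β : MulAut U => ((β ⟨x, ⟨⟨x, hx⟩, hP (Subgroup.mem_zpowers _), rfl⟩⟩ : U) : G)) hα
    exact mul_inv_eq_iff_eq_mul.mp h2
  -- elements of coprime prime power orders of `D` commute
  have hcomm : ∀ q r : ℕ, q.Prime → r.Prime → q ≠ r → ∀ d ∈ D, (∃ i, orderOf d = q ^ i) →
      ∀ e ∈ D, (∃ k, orderOf e = r ^ k) → d * e = e * d := by
    intro q r hq hr hqr d hd hd' e he he'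
    have := Fact.mk hq
    obtain ⟨i, hi⟩ := hd'
    obtain ⟨k, hk⟩ := he'
    have hF : ∀ x ∈ F, (∀ p, p.Prime → ∀ y ∈ Subgroup.zpowers x, (∃ j, orderOf y = p ^ j) →
        (d * e * d⁻¹ * e⁻¹) * y = y * (d * e * d⁻¹ * e⁻¹)) →
        (d * e * d⁻¹ * e⁻¹) * x = x * (d * e * d⁻¹ * e⁻¹) := by
      intro x hx h
      have : Subgroup.zpowers x ≤ Subgroup.centralizer ({d * e * d⁻¹ * e⁻¹} : Set G) :=
        Cfsg.Lib.Transfer.le_of_forall_prime_pow fun y hy p j hp hj =>
          Subgroup.mem_centralizer_singleton_iff.mpr (h p hp y hy ⟨j, hj⟩).symm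
      exact (Subgroup.mem_centralizer_singleton_iff.mp (this (Subgroup.mem_zpowers x))).symm
    set c := d * e * d⁻¹ * e⁻¹
    have hcF : c ∈ Subgroup.centralizer (F : Set G) := Subgroup.mem_centralizer_iff.mpr fun x hx =>
      (hF x hx (fun p hp y hy hj => by
        have hyF : y ∈ F := (Subgroup.zpowers_le.mpr hx) hy
        by_cases hpq : p = q
        · -- then `e` centralises `y` and all its conjugates
          subst hpq
          have h1 := hcent p r hp hr hqr e he ⟨k, hk⟩ y hyF hj
          have h2 := hcent p r hp hr hqr e he ⟨k, hk⟩ (d⁻¹ * y * d)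
            (by simpa using (inferInstance : F.Normal).conj_mem y hyF d⁻¹) (by
              obtain ⟨j, hj⟩ := hj
              refine ⟨j, ?_⟩
              rw [show d⁻¹ * y * d = (MulAut.conj d⁻¹).toMonoidHom y by simp,
                orderOf_injective _ (MulAut.conj d⁻¹).injective, hj])
          have h2' : e * (d⁻¹ * y * d) * e⁻¹ = d⁻¹ * y * d := mul_inv_eq_iff_eq_mul.mpr h2
          show d * e * d⁻¹ * e⁻¹ * y = y * (d * e * d⁻¹ * e⁻¹)
          have h1' : e⁻¹ * y = y * e⁻¹ := ((show Commute e y from h1).inv_left).eq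
          calc d * e * d⁻¹ * e⁻¹ * y = d * (e * (d⁻¹ * y * d) * e⁻¹) * e * d⁻¹ * e⁻¹ := by
                rw [mul_assoc (d * e * d⁻¹), h1']; group
            _ = _ := by rw [h2']; group
        · have hdy := hcent p q hp hq hpq d hd ⟨i, hi⟩ y hyF hj
          have hy' : e⁻¹ * y * e ∈ F := by simpa using (inferInstance : F.Normal).conj_mem y hyF e⁻¹
          have hdy' := hcent p q hp hq hpq d hd ⟨i, hi⟩ (e⁻¹ * y * e) hy' (by
              obtain ⟨j, hj⟩ := hj
              refine ⟨j, ?_⟩
              rw [show e⁻¹ * y * e = (MulAut.conj e⁻¹).toMonoidHom y by simp,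
                orderOf_injective _ (MulAut.conj e⁻¹).injective, hj])
          show d * e * d⁻¹ * e⁻¹ * y = y * (d * e * d⁻¹ * e⁻¹)
          have hdy'' : d⁻¹ * (e⁻¹ * y * e) * d = e⁻¹ * y * e := by
            rw [mul_assoc, ← hdy', inv_mul_cancel_left]
          calc d * e * d⁻¹ * e⁻¹ * y = d * e * (d⁻¹ * (e⁻¹ * y * e) * d) * d⁻¹ * e⁻¹ := by group
            _ = d * y * (e * d⁻¹ * e⁻¹) := by rw [hdy'']; group
            _ = _ := by rw [hdy]; group)).symm
    have hcF' : c ∈ F := Cfsg.Lib.Coprime.centralizer_fitting_le hcF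
    obtain ⟨c₁, c₂, hc₁, hc₂, hc12, ⟨a, hc₁o⟩, hc₂o⟩ := Cfsg.Lib.Transfer.exists_pPart q c
    have hmem : ∀ w ∈ Subgroup.zpowers c, w ∈ F ∧ w * c = c * w := fun w hw =>
      ⟨(Subgroup.zpowers_le.mpr hcF') hw, by obtain ⟨z, rfl⟩ := hw; exact ((Commute.refl c).zpow_left z).eq⟩
    have he1 : e * c₁ = c₁ * e := hcent q r hq hr hqr e he ⟨k, hk⟩ c₁ (hmem _ hc₁).1 ⟨a, hc₁o⟩
    have hd2 : d * c₂ = c₂ * d := by
      have : Subgroup.zpowers c₂ ≤ Subgroup.centralizer ({d} : Set G) :=
        Cfsg.Lib.Transfer.le_of_forall_prime_pow fun y hy s j hs hj => by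
          by_cases hj0 : j = 0
          · rw [hj0, pow_zero, orderOf_eq_one_iff] at hj; rw [hj]; exact Subgroup.one_mem _
          refine Subgroup.mem_centralizer_singleton_iff.mpr (hcent s q hs hq ?_ d hd ⟨i, hi⟩ y
            (Subgroup.zpowers_le.mpr (hmem _ hc₂).1 hy) ⟨j, hj⟩).symm
          rintro rfl
          refine hq.ne_one (Nat.eq_one_of_dvd_coprimes hc₂o ?_ dvd_rfl)
          exact ((dvd_pow_self s hj0).trans hj.symm.dvd).trans
            ((Subgroup.orderOf_dvd_natCard _ hy).trans (Nat.card_zpowers c₂).dvd)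
      exact (Subgroup.mem_centralizer_singleton_iff.mp (this (Subgroup.mem_zpowers c₂))).symm
    have hec : e * c₁ = c₁ * e := he1
    have hc1c2 : Commute c₁ c₂ := by
      obtain ⟨z, rfl⟩ := hc₁; obtain ⟨z', rfl⟩ := hc₂; exact (Commute.refl c).zpow_zpow z z'
    -- the `q`-part of `c` is trivial
    have hde : d * e * d⁻¹ = c₁ * (c₂ * e) := by
      rw [← mul_assoc, hc12]; show d * e * d⁻¹ = d * e * d⁻¹ * e⁻¹ * e; group
    have hc₁1 : c₁ = 1 := by
      have hcomm2 : Commute c₁ (c₂ * e) := hc1c2.mul_right hec.symm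
      have h1 : c₁ ^ r ^ k * (c₂ * e) ^ r ^ k = 1 := by
        rw [← hcomm2.mul_pow, ← hde, conj_pow, ← hk, pow_orderOf_eq_one]; group
      -- `c₂ * e` has order prime to `q`
      have h2 : orderOf c₁ ∣ r ^ k * orderOf (c₂ * e) := by
        apply orderOf_dvd_of_pow_eq_one
        rw [pow_mul, eq_inv_of_mul_eq_one_left h1, inv_pow, ← pow_mul, mul_comm, pow_mul, pow_orderOf_eq_one]
        simp
      have hqe : ¬ q ∣ orderOf (c₂ * e) := by
        let Z : Subgroup G := Subgroup.centralizer (F : Set G)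
        have hZF : Z ≤ F := Cfsg.Lib.Coprime.centralizer_fitting_le
        have hc2Z : c₂ ∈ Z := (Subgroup.zpowers_le.mpr hcF) hc₂
        let W : Subgroup G :=
          { carrier := {w | w ∈ Z ∧ (orderOf w).Coprime q}
            one_mem' := ⟨Z.one_mem, by rw [orderOf_one]; exact Nat.coprime_one_left q⟩
            mul_mem' := fun {u v} hu hv => ⟨Z.mul_mem hu.1 hv.1, ((hu.2.mul_left hv.2).coprime_dvd_left
              (Commute.orderOf_mul_dvd_mul_orderOf (show Commute u v from Subgroup.mem_centralizer_iff.mp hv.1 u (hZF hu.1))))⟩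
            inv_mem' := fun {u} hu => ⟨Z.inv_mem hu.1, by rw [orderOf_inv]; exact hu.2⟩ }
        have hWq : (Nat.card W).Coprime q := by
          rw [Nat.coprime_comm, hq.coprime_iff_not_dvd]
          intro hd
          obtain ⟨w, hw⟩ := exists_prime_orderOf_dvd_card' q hd
          have h3 := w.2.2
          rw [Subgroup.orderOf_coe, hw, Nat.coprime_self] at h3
          exact hq.ne_one h3
        have heW : Subgroup.zpowers e ≤ Subgroup.normalizer (W : Set G) := by
          have hconj : ∀ g w : G, w ∈ W → g * w * g⁻¹ ∈ W := fun g w hw =>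
            ⟨(inferInstance : Z.Normal).conj_mem w hw.1 g, by
              rw [show g * w * g⁻¹ = (MulAut.conj g).toMonoidHom w by simp,
                orderOf_injective _ (MulAut.conj g).injective]
              exact hw.2⟩
          exact fun g _ => Cfsg.Lib.Coprime.mem_normalizer_of_conj_mem (hconj g)
            (fun w hw => by simpa using hconj g⁻¹ w hw)
        intro hqd
        have h3 := hqd.trans (Subgroup.orderOf_dvd_natCard (W ⊔ Subgroup.zpowers e)
          (Subgroup.mul_mem_sup (show c₂ ∈ W from ⟨hc2Z, hc₂o⟩) (Subgroup.mem_zpowers e)))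
        have h4 := Cfsg.Lib.Coprime.card_sup_mul_card_inf heW
        have h5 : q ∣ Nat.card W * Nat.card (Subgroup.zpowers e) := h4 ▸ Dvd.dvd.mul_right h3 _
        rcases hq.dvd_mul.mp h5 with h6 | h6
        · exact hq.ne_one (Nat.eq_one_of_dvd_coprimes hWq h6 dvd_rfl)
        · rw [Nat.card_zpowers, hk] at h6
          exact hqr ((Nat.prime_dvd_prime_iff_eq hq hr).mp (hq.dvd_of_dvd_pow h6))
      rw [hc₁o] at h2
      refine orderOf_eq_one_iff.mp (hc₁o.trans (Nat.eq_one_of_dvd_coprimes ?_ dvd_rfl h2))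
      exact (Nat.Coprime.mul_right (((Nat.coprime_primes hq hr).mpr hqr).pow_right k)
        (hq.coprime_iff_not_dvd.mpr hqe)).pow_left a
    have hcc : c = c₂ := by rw [← hc12, hc₁1, one_mul]
    have hit : ∀ m : ℕ, d ^ m * e * (d ^ m)⁻¹ = c ^ m * e := by
      intro m
      induction m with
      | zero => simp
      | succ m ihm =>
        have hdc : d * c ^ m * d⁻¹ = c ^ m := by
          rw [← hcc] at hd2
          rw [((show Commute d c from hd2).pow_right m).eq, mul_inv_cancel_right]
        calc d ^ (m + 1) * e * (d ^ (m + 1))⁻¹ = d * (d ^ m * e * (d ^ m)⁻¹) * d⁻¹ := by rw [pow_succ']; group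
          _ = (d * c ^ m * d⁻¹) * (d * e * d⁻¹) := by rw [ihm]; group
          _ = c ^ m * (c * e) := by rw [hdc]; show _ = c ^ m * (d * e * d⁻¹ * e⁻¹ * e); group
          _ = _ := by rw [pow_succ]; exact (mul_assoc _ _ _).symm
    have hcq : c ^ q ^ i = 1 := by
      have h1 := hit (q ^ i)
      rw [show d ^ (q ^ i) = 1 from hi ▸ pow_orderOf_eq_one d, one_mul, inv_one, mul_one] at h1
      exact mul_right_cancel (h1.symm.trans (one_mul e).symm)
    have hc1 : c = 1 := orderOf_eq_one_iff.mp (Nat.eq_one_of_dvd_coprimes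
      (hcc ▸ hc₂o.pow_right i : (orderOf c).Coprime (q ^ i)) dvd_rfl (orderOf_dvd_of_pow_eq_one hcq))
    exact mul_inv_eq_iff_eq_mul.mp (mul_inv_eq_one.mp hc1)
  have hDnil : Group.IsNilpotent D := by
    have htfae : Group.IsNilpotent D ↔ ∀ (p : ℕ) (_ : Fact p.Prime) (P : Sylow p D), (P : Subgroup D).Normal :=
      (Group.isNilpotent_of_finite_tfae (G := D)).out 0 3
    refine htfae.mpr fun q hq P => ?_
    rw [← Subgroup.normalizer_eq_top_iff, ← Subgroup.index_eq_one]
    refine Nat.eq_one_iff_not_exists_prime_dvd.mpr fun r hr hd => ?_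
    have := Fact.mk hr
    obtain ⟨S⟩ := (inferInstance : Nonempty (Sylow r D))
    by_cases hrq : r = q
    · subst hrq
      exact P.not_dvd_index (hd.trans (Subgroup.index_dvd_of_le Subgroup.le_normalizer))
    refine S.not_dvd_index (hd.trans (Subgroup.index_dvd_of_le fun s hs => ?_))
    obtain ⟨k, hk⟩ := IsPGroup.iff_orderOf.mp S.2 ⟨s, hs⟩
    rw [Subgroup.orderOf_mk] at hk
    refine Subgroup.centralizer_le_normalizer _ (Subgroup.mem_centralizer_iff.mpr fun u hu => ?_)
    obtain ⟨j, hj⟩ := IsPGroup.iff_orderOf.mp P.2 ⟨u, hu⟩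
    rw [Subgroup.orderOf_mk] at hj
    exact Subtype.ext (hcomm q r hq.out hr (Ne.symm hrq) u u.2 ⟨j, (Subgroup.orderOf_coe u).trans hj⟩
      s s.2 ⟨k, (Subgroup.orderOf_coe s).trans hk⟩)
  exact Cfsg.Lib.Components.le_fitting hDnil hg

end Cfsg.Agent.S3785
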