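import Cfsg.Statements.S3786
import Cfsg.Agent.SolvStruct.PLengthSeries
import Cfsg.Agent.HallHigman.AgemoCommute
import Cfsg.Agent.GaschutzYen.Basic
import Cfsg.Agent.S3783

set_option autoImplicit false
open Cfsg

namespace Cfsg.Agent.S3786

open Subgroup

universe u

variable {p : ℕ} [hp : Fact p.Prime]

/-- Either `p` is not a Fermat prime or the Sylow `2`-subgroups are abelian. -/
def GoodHyp (p : ℕ) (G : Type*) [Group G] : Prop :=
  (¬ ∃ k : ℕ, p = 2 ^ k + 1) ∨ ∀ S : Sylow 2 G, IsMulCommutative (S : Subgroup G)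

theorem GoodHyp.map {G H : Type*} [Group G] [Group H] [Finite G] (h : GoodHyp p G) (f : G →* H)
    (hf : Function.Surjective f) : GoodHyp p H := by
  refine h.imp_right fun hab Q => ?_
  obtain ⟨S, rfl⟩ := Sylow.mapSurjective_surjective hf 2 Q
  haveI := hab S
  exact Subgroup.map_isMulCommutative _ f

theorem zero_case {G : Type*} [Group G] [Finite G]
    (hexp : ∀ (P : Sylow p G), ∀ x ∈ (P : Subgroup G), x ^ p ^ 0 = 1) : Cfsg.PLengthLE p 0 G := by
  rw [Cfsg.Lib.PLengthSeries.pLengthLE_zero_iff]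
  refine (hp.out.coprime_iff_not_dvd.2 fun hd => ?_).symm
  obtain ⟨x, hx⟩ := exists_prime_orderOf_dvd_card' (G := G) p hd
  obtain ⟨P, hP⟩ := (IsPGroup.of_card (n := 1) (show Nat.card (zpowers x) = p ^ 1 by
    rw [Nat.card_zpowers, hx, pow_one])).exists_le_sylow
  have h1 := hexp P x (hP (mem_zpowers x))
  rw [pow_zero, pow_one] at h1
  exact hp.out.ne_one (by rw [← hx, h1, orderOf_one])

theorem exp_drop_good (hp2 : p ≠ 2) {H : Type u} [Group H] [Finite H] (hgood : GoodHyp p H)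
    (hsol : Cfsg.IsPSolvable p H) (hO : Cfsg.pCore p H = ⊥) {V : Type u} [AddCommGroup V] [Module (ZMod p) V]
    [Finite V] (ρ : H →* Module.End (ZMod p) V) (hρ : Function.Injective ρ) (n : ℕ) (x : H)
    (hx : x ^ p ^ (n + 1) = 1) (hker : (ρ x - 1) ^ (p ^ (n + 1) - 1) = 0) : x ^ p ^ n = 1 := by
  by_contra hy
  haveI : Nontrivial V := by
    by_contra hV
    rw [not_nontrivial_iff_subsingleton] at hV
    haveI := hV
    exact hy (by rw [show x = 1 from hρ (LinearMap.ext fun v => Subsingleton.elim _ _), one_pow])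
  have ho : orderOf x = p ^ (n + 1) := orderOf_eq_prime_pow hy hx
  rcases Cfsg.Lib.HallHigman.theorem_B_field (F := ZMod p) hsol hO ρ hρ x (n + 1) ho _ hker with
    h | ⟨n₀, q, m, h1, -, h2, h3, h4, h5, -⟩
  · have := pow_pos hp.out.pos (n + 1)
    omega
  have hodd : Odd p := hp.out.odd_of_ne_two hp2
  have hq2 : q = 2 := by
    have heven : Even (q ^ m) := h4 ▸ ((hodd.pow).tsub_odd odd_one)
    exact h2.even_iff.1 (Nat.even_pow.1 heven).1
  subst hq2
  rcases hgood with hnf | hab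
  · have hdvd : p - 1 ∣ 2 ^ m := h4 ▸ Nat.sub_one_dvd_pow_sub_one p n₀
    obtain ⟨j, -, hj⟩ := (Nat.dvd_prime_pow Nat.prime_two).1 hdvd
    exact hnf ⟨j, by have := hp.out.two_le; omega⟩
  · haveI : Fact (Nat.Prime 2) := ⟨Nat.prime_two⟩
    obtain ⟨Q⟩ := (inferInstance : Nonempty (Sylow 2 H))
    exact h5 Q (hab Q)

theorem main_one (hp2 : p ≠ 2) : ∀ (n : ℕ) (G : Type u) [Group G] [Finite G], Cfsg.IsPSolvable p G →
    GoodHyp p G → (∀ (P : Sylow p G), ∀ x ∈ (P : Subgroup G), x ^ p ^ n = 1) → Cfsg.PLengthLE p n G := by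
  intro n
  induction n with
  | zero => intro G _ _ _ _ hexp; exact zero_case hexp
  | succ n ih =>
    intro G _ _ hsol hgood hexp
    set π := QuotientGroup.mk' (Cfsg.pPrimeCore p G)
    have hπ : Function.Surjective π := QuotientGroup.mk'_surjective _
    have hO : Cfsg.pPrimeCore p (G ⧸ Cfsg.pPrimeCore p G) = ⊥ := Cfsg.Lib.Coprime.pPrimeCore_quotient_eq_bot
    have hsol1 := Cfsg.Lib.GaschutzYen.isPSolvable_quotient (p := p) (Cfsg.pPrimeCore p G) hsol
    have hexp1 := Cfsg.Agent.S3783.exp_map π hπ hexp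
    set ρ := QuotientGroup.mk' (Cfsg.pCore p (G ⧸ Cfsg.pPrimeCore p G))
    have hρ : Function.Surjective ρ := QuotientGroup.mk'_surjective _
    obtain ⟨V, iA, iM, iF, σ, hσ, hnorm⟩ := Cfsg.Lib.HallHigman.exists_faithful_module hsol1 hO (n + 1) hexp1
    have hsol2 := Cfsg.Lib.GaschutzYen.isPSolvable_quotient (p := p) (Cfsg.pCore p (G ⧸ Cfsg.pPrimeCore p G)) hsol1
    have h3 := ih _ hsol2 ((hgood.map π hπ).map ρ hρ)
      (fun P x hx => by
        have hx' := Cfsg.Agent.S3783.exp_map ρ hρ hexp1 P x hx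
        refine exp_drop_good hp2 ((hgood.map π hπ).map ρ hρ) hsol2
          Cfsg.Lib.HallHigman.pCore_quotient_pCore σ hσ n x hx' (hnorm x ?_)
        obtain ⟨k, -, hk⟩ := (Nat.dvd_prime_pow hp.out).1 (orderOf_dvd_of_pow_eq_one hx')
        exact ⟨k, hk⟩)
    have h1 : Cfsg.PLengthLE p 0 π.ker := by
      rw [Cfsg.Lib.PLengthSeries.pLengthLE_zero_iff, QuotientGroup.ker_mk']
      exact Cfsg.Lib.Components.coprime_card_pPrimeCore p
    have h2 : Cfsg.PLengthLE p 1 ρ.ker := Cfsg.Lib.PLengthSeries.pLengthLE_one_of_isPGroup (by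
      rw [QuotientGroup.ker_mk']; exact Cfsg.Lib.Components.isPGroup_pCore p)
    have h4 := Cfsg.Lib.PLengthSeries.pLengthLE_extend π h1 (Cfsg.Lib.PLengthSeries.pLengthLE_extend ρ h2 h3)
    rw [show n + 1 = 0 + (1 + n) by ring]
    exact h4

theorem main_two (hp2 : p ≠ 2) : ∀ (n : ℕ) (G : Type u) [Group G] [Finite G], Cfsg.IsPSolvable p G →
    (∀ (P : Sylow p G), ∀ x ∈ (P : Subgroup G), x ^ p ^ n = 1) → Cfsg.PLengthLE p (2 * n) G := by
  intro n
  induction n with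
  | zero => intro G _ _ _ hexp; exact zero_case hexp
  | succ n ih =>
    intro G _ _ hsol hexp
    set π := QuotientGroup.mk' (Cfsg.pPrimeCore p G)
    have hπ : Function.Surjective π := QuotientGroup.mk'_surjective _
    have hO : Cfsg.pPrimeCore p (G ⧸ Cfsg.pPrimeCore p G) = ⊥ := Cfsg.Lib.Coprime.pPrimeCore_quotient_eq_bot
    have hsol1 := Cfsg.Lib.GaschutzYen.isPSolvable_quotient (p := p) (Cfsg.pPrimeCore p G) hsol
    have hexp1 := Cfsg.Agent.S3783.exp_map π hπ hexp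
    set ρ := QuotientGroup.mk' (Cfsg.pCore p (G ⧸ Cfsg.pPrimeCore p G))
    have hρ : Function.Surjective ρ := QuotientGroup.mk'_surjective _
    obtain ⟨V, iA, iM, iF, σ, hσ, hnorm⟩ := Cfsg.Lib.HallHigman.exists_faithful_module hsol1 hO (n + 1) hexp1
    have hsol2 := Cfsg.Lib.GaschutzYen.isPSolvable_quotient (p := p) (Cfsg.pCore p (G ⧸ Cfsg.pPrimeCore p G)) hsol1
    have hexp2 := Cfsg.Agent.S3783.exp_map ρ hρ hexp1
    set H := (G ⧸ Cfsg.pPrimeCore p G) ⧸ Cfsg.pCore p (G ⧸ Cfsg.pPrimeCore p G)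
    set π' := QuotientGroup.mk' (Cfsg.pPrimeCore p H)
    have hπ' : Function.Surjective π' := QuotientGroup.mk'_surjective _
    have hO' : Cfsg.pPrimeCore p (H ⧸ Cfsg.pPrimeCore p H) = ⊥ := Cfsg.Lib.Coprime.pPrimeCore_quotient_eq_bot
    have hsol3 := Cfsg.Lib.GaschutzYen.isPSolvable_quotient (p := p) (Cfsg.pPrimeCore p H) hsol2
    have hexp3 := Cfsg.Agent.S3783.exp_map π' hπ' hexp2
    set ρ' := QuotientGroup.mk' (Cfsg.pCore p (H ⧸ Cfsg.pPrimeCore p H))
    have hρ' : Function.Surjective ρ' := QuotientGroup.mk'_surjective _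
    have hcomm : ∀ (P : Sylow p (H ⧸ Cfsg.pPrimeCore p H)),
        ∀ x ∈ (P : Subgroup (H ⧸ Cfsg.pPrimeCore p H)), ∀ y ∈ (P : Subgroup (H ⧸ Cfsg.pPrimeCore p H)),
        Commute (x ^ p ^ n) (y ^ p ^ n) := by
      intro P x hx y hy
      obtain ⟨S, rfl⟩ := Sylow.mapSurjective_surjective hπ' p P
      obtain ⟨a, ha, rfl⟩ := hx
      obtain ⟨b, hb, rfl⟩ := hy
      rw [← map_pow, ← map_pow]
      refine Commute.map ?_ π'
      refine Cfsg.Lib.HallHigman.agemo_commute_zmod hp2 hsol2 Cfsg.Lib.HallHigman.pCore_quotient_pCore σ hσ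
        (S : Subgroup H) S.2 (hexp2 S) (fun s hs => hnorm s ?_) a b ha hb
      obtain ⟨k, -, hk⟩ := (Nat.dvd_prime_pow hp.out).1 (orderOf_dvd_of_pow_eq_one (hexp2 S s hs))
      exact ⟨k, hk⟩
    have h5 := ih _ (Cfsg.Lib.GaschutzYen.isPSolvable_quotient (p := p) (Cfsg.pCore p (H ⧸ Cfsg.pPrimeCore p H)) hsol3)
      (fun P x hx => by
        obtain ⟨S, rfl⟩ := Sylow.mapSurjective_surjective hρ' p P
        obtain ⟨a, ha, rfl⟩ := hx
        rw [← map_pow]
        exact (QuotientGroup.eq_one_iff _).2 (Cfsg.Lib.HallHigman.exp_drop_two hp2 hsol3 hO' hexp3 hcomm S a ha))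
    have h1 : Cfsg.PLengthLE p 0 π.ker := by
      rw [Cfsg.Lib.PLengthSeries.pLengthLE_zero_iff, QuotientGroup.ker_mk']
      exact Cfsg.Lib.Components.coprime_card_pPrimeCore p
    have h2 : Cfsg.PLengthLE p 1 ρ.ker := Cfsg.Lib.PLengthSeries.pLengthLE_one_of_isPGroup (by
      rw [QuotientGroup.ker_mk']; exact Cfsg.Lib.Components.isPGroup_pCore p)
    have h1' : Cfsg.PLengthLE p 0 π'.ker := by
      rw [Cfsg.Lib.PLengthSeries.pLengthLE_zero_iff, QuotientGroup.ker_mk']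
      exact Cfsg.Lib.Components.coprime_card_pPrimeCore p
    have h2' : Cfsg.PLengthLE p 1 ρ'.ker := Cfsg.Lib.PLengthSeries.pLengthLE_one_of_isPGroup (by
      rw [QuotientGroup.ker_mk']; exact Cfsg.Lib.Components.isPGroup_pCore p)
    have h4 := Cfsg.Lib.PLengthSeries.pLengthLE_extend π h1 (Cfsg.Lib.PLengthSeries.pLengthLE_extend ρ h2
      (Cfsg.Lib.PLengthSeries.pLengthLE_extend π' h1' (Cfsg.Lib.PLengthSeries.pLengthLE_extend ρ' h2' h5)))
    rw [show 2 * (n + 1) = 0 + (1 + (0 + (1 + 2 * n))) by ring]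
    exact h4

/-- The Hall–Higman bound on p-length. Let p be an odd prime and G a finite p-soluble group whose Sylow p-subgroups have exponent dividing p^e. (a) If p is not of the form 2^k + 1, or if the Sylow 2-subgroups of G are abelian, then G has p-length at most e. (b) In every case G has p-length at most 2e. -/
theorem result {G : Type*} [Group G] [Finite G] {p : ℕ} [Fact p.Prime] (hp : p ≠ 2) (hG : Cfsg.IsPSolvable p G) (e : ℕ) (hexp : ∀ (P : Sylow p G), ∀ x ∈ (P : Subgroup G), x ^ p ^ e = 1) : (((¬ ∃ k : ℕ, p = 2 ^ k + 1) ∨ ∀ S : Sylow 2 G, IsMulCommutative (S : Subgroup G)) → Cfsg.PLengthLE p e G) ∧ Cfsg.PLengthLE p (2 * e) G := by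
  exact ⟨fun h => main_one hp e G hG h hexp, main_two hp e G hG hexp⟩

end Cfsg.Agent.S3786
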