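import Cfsg.Statements.S3787
import Mathlib
import Cfsg.Prelude
import Cfsg.Agent.HallHigman.SplitModule
import Cfsg.Agent.SolvStruct.PLengthSeries
import Cfsg.Agent.GaschutzYen.Basic
import Cfsg.Agent.Quadratic.StableQd
import Cfsg.Agent.Components.Qd.Free
import Cfsg.Agent.Components.Sfour.Section

set_option autoImplicit false
open Cfsg

namespace Cfsg.Agent.S3787

open Subgroup Module

universe u

theorem eq_two_pow {p n₀ q m : ℕ} (hp : p.Prime) (hp2 : p ≠ 2) (hq : q.Prime) (h1 : 1 ≤ n₀) (hm : 1 ≤ m)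
    (h : p ^ n₀ - 1 = q ^ m) (hn : n₀ = 1) : ∃ k : ℕ, p = 2 ^ k + 1 := by
  subst hn
  rw [pow_one] at h
  have hqe : q = 2 := by
    obtain ⟨s, hs⟩ := hp.odd_of_ne_two hp2
    have h2 : 2 ∣ q ^ m := ⟨s, by omega⟩
    exact ((Nat.prime_dvd_prime_iff_eq Nat.prime_two hq).1 (Nat.prime_two.dvd_of_dvd_pow h2)).symm
  subst hqe
  exact ⟨m, by have := hp.two_le; omega⟩

theorem main {G : Type u} [Group G] [Finite G] {p : ℕ} [hp : Fact p.Prime] (hp2 : p ≠ 2)
    (hnf : ¬ ∃ k : ℕ, p = 2 ^ k + 1) (hG : Cfsg.IsPSolvable p G) (P : Sylow p G)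
    (hwr : ∀ (W : Type) [Group W] [Finite W], (∃ (B : Subgroup W) (t : W), B.Normal ∧ IsMulCommutative B ∧
      (∀ b ∈ B, b ^ p = 1) ∧ Nat.card B = p ^ p ∧ orderOf t = p ∧ t ∉ B ∧ Nat.card W = p ^ (p + 1) ∧
      Nat.card ↥(B ⊓ Subgroup.centralizer ({t} : Set W)) = p) → ¬ Cfsg.Involves W ↥(P : Subgroup G)) :
    Cfsg.PLengthLE p 1 G := by
  classical
  set π₀ := QuotientGroup.mk' (Cfsg.pPrimeCore p G) with hπ₀
  have hs : Function.Surjective π₀ := QuotientGroup.mk'_surjective _
  have hsol1 := Cfsg.Lib.GaschutzYen.isPSolvable_quotient (p := p) (Cfsg.pPrimeCore p G) hG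
  obtain ⟨Γ, iG, iF, π, K, V, iA, iM, iV, ι, ρ, hπ, hι, hrange, hWn, hWK, hWKsup, hker, hρ, hact, hKsol, hKcore⟩ :=
    Cfsg.Lib.HallHigman.exists_split_module hsol1 Cfsg.Lib.Coprime.pPrimeCore_quotient_eq_bot
  by_cases hK : (Nat.card K).Coprime p
  · set ρ₁ := QuotientGroup.mk' (Cfsg.pCore p (G ⧸ Cfsg.pPrimeCore p G))
    have hρ₁ : Function.Surjective ρ₁ := QuotientGroup.mk'_surjective _
    have h1 : Cfsg.PLengthLE p 0 π₀.ker := by
      rw [Cfsg.Lib.PLengthSeries.pLengthLE_zero_iff, QuotientGroup.ker_mk']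
      exact Cfsg.Lib.Components.coprime_card_pPrimeCore p
    have h2 : Cfsg.PLengthLE p 1 ρ₁.ker := Cfsg.Lib.PLengthSeries.pLengthLE_one_of_isPGroup (by
      rw [QuotientGroup.ker_mk']; exact Cfsg.Lib.Components.isPGroup_pCore p)
    have h3 : Cfsg.PLengthLE p 0 ((G ⧸ Cfsg.pPrimeCore p G) ⧸ Cfsg.pCore p (G ⧸ Cfsg.pPrimeCore p G)) := by
      rw [Cfsg.Lib.PLengthSeries.pLengthLE_zero_iff]
      refine hK.coprime_dvd_left ?_
      haveI := hWn
      have e1 : ι.range.comap π = Cfsg.pCore p (G ⧸ Cfsg.pPrimeCore p G) := by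
        rw [hrange, comap_map_eq, sup_eq_left.2 hker]
      have hidx : ι.range.index = Nat.card K := by
        have h4 : Nat.card ↥(ι.range ⊔ K) * Nat.card ↥(ι.range ⊓ K) = Nat.card ι.range * Nat.card K :=
          Cfsg.Lib.Coprime.card_sup_mul_card_inf (le_top.trans (normalizer_eq_top_iff.2 hWn).ge)
        rw [hWK, hWKsup, card_top, card_bot, mul_one] at h4
        exact Nat.eq_of_mul_eq_mul_left Nat.card_pos (by rw [card_mul_index, h4])
      rw [← index_eq_card, ← e1, index_comap_of_surjective _ hπ, hidx]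
    exact Cfsg.Lib.PLengthSeries.pLengthLE_extend π₀ h1 (Cfsg.Lib.PLengthSeries.pLengthLE_extend ρ₁ h2 h3)
  exfalso
  obtain ⟨x, hx⟩ := exists_prime_orderOf_dvd_card' (G := K) p (by
    by_contra hd; exact hK ((hp.out.coprime_iff_not_dvd.2 hd).symm))
  haveI : Nontrivial K := ⟨⟨x, 1, fun e => hp.out.ne_one (by rw [← hx, e, orderOf_one])⟩⟩
  haveI : Nontrivial V := by
    by_contra hh
    rw [not_nontrivial_iff_subsingleton] at hh
    exact (not_subsingleton K) ⟨fun a b => hρ (LinearMap.ext fun v => Subsingleton.elim _ _)⟩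
  set T := ρ x - 1 with hT
  have hTp : T ^ p = 0 := by
    haveI : CharP (Module.End (ZMod p) V) p :=
      charP_of_injective_algebraMap (algebraMap (ZMod p) (Module.End (ZMod p) V)).injective p
    haveI : ExpChar (Module.End (ZMod p) V) p := ExpChar.prime hp.out
    rw [hT, sub_pow_expChar_of_commute (p := p) (Commute.one_right (ρ x)), one_pow, ← map_pow,
      show x ^ p = 1 from hx ▸ pow_orderOf_eq_one x, map_one, sub_self]
  obtain ⟨w, hw⟩ : ∃ w, (T ^ (p - 1)) w ≠ 0 := by
    by_contra hall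
    push Not at hall
    rcases Cfsg.Lib.HallHigman.theorem_B_field hKsol hKcore ρ hρ x 1 (by rw [hx, pow_one]) (p - 1)
      (LinearMap.ext hall) with h | ⟨n₀, q, m, h1, h2, h3, h4, h5, -, -⟩
    · rw [pow_one] at h; have := hp.out.two_le; omega
    · exact hnf (eq_two_pow hp.out hp2 h3 h1 h4 h5 (by omega))
  set u : Fin p → V := fun i => (T ^ (i : ℕ)) w with hu
  have hTge : ∀ i, p ≤ i → (T ^ i) w = 0 := fun i hi => by rw [pow_eq_zero_of_le hi hTp, LinearMap.zero_apply]
  have hli : LinearIndependent (ZMod p) u := by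
    rw [Fintype.linearIndependent_iff]
    intro c hc
    by_contra hne
    push Not at hne
    obtain ⟨i₀, hi₀⟩ := hne
    set s := Finset.univ.filter fun i : Fin p => c i ≠ 0
    have hs : s.Nonempty := ⟨i₀, by simp [s, hi₀]⟩
    set i := s.min' hs with hi
    have hci : c i ≠ 0 := (Finset.mem_filter.1 (s.min'_mem hs)).2
    have h1 := congrArg (T ^ (p - 1 - (i : ℕ))) hc
    rw [map_zero, map_sum, Finset.sum_eq_single i (fun j _ hj => ?_) (fun h => absurd (Finset.mem_univ i) h)] at h1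
    · rw [map_smul, hu, ← Module.End.mul_apply, ← pow_add, Nat.sub_add_cancel (by omega)] at h1
      exact (smul_ne_zero hci hw) h1
    · rw [map_smul]
      by_cases hcj : c j = 0
      · rw [hcj, zero_smul]
      · have : i < j := lt_of_le_of_ne (s.min'_le j (by simp [s, hcj])) (Ne.symm hj)
        rw [hu, ← Module.End.mul_apply, ← pow_add, hTge _ (by have : (i : ℕ) < j := this; omega), smul_zero]
  set S := Submodule.span (ZMod p) (Set.range u) with hS
  have hTS : ∀ v ∈ S, T v ∈ S := by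
    intro v hv
    have : S ≤ S.comap T := by
      rw [hS, Submodule.span_le]
      rintro _ ⟨i, rfl⟩
      simp only [SetLike.mem_coe, Submodule.mem_comap, hu]
      rw [← Module.End.mul_apply, ← pow_succ']
      by_cases h : (i : ℕ) + 1 < p
      · exact Submodule.subset_span ⟨⟨_, h⟩, rfl⟩
      · rw [hTge _ (by omega)]; exact zero_mem _
    exact this hv
  have hxS : ∀ v ∈ S, ρ x v ∈ S := fun v hv => by
    rw [show ρ x v = T v + v by simp [hT]]
    exact add_mem (hTS v hv) hv
  have hcardS : Nat.card S = p ^ p := by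
    rw [Module.natCard_eq_pow_finrank (K := ZMod p), Nat.card_zmod, hS, finrank_span_eq_card hli, Fintype.card_fin]
  -- the section
  set B : Subgroup Γ := (AddSubgroup.toSubgroup S.toAddSubgroup).map ι with hB
  have hmemB : ∀ v, ι (Multiplicative.ofAdd v) ∈ B ↔ v ∈ S := fun v => by
    rw [hB, mem_map_iff_mem hι]; rfl
  have hBe : ∀ b ∈ B, ∃ v ∈ S, b = ι (Multiplicative.ofAdd v) := by
    rintro _ ⟨m, hm, rfl⟩; exact ⟨Multiplicative.toAdd m, hm, rfl⟩
  set t : Γ := (x : Γ) with htdef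
  have ht : orderOf t = p := by rw [htdef, Subgroup.orderOf_coe, hx]
  have hBrange : B ≤ ι.range := map_le_range _ _
  have htB : t ∈ normalizer (B : Set Γ) := by
    refine Cfsg.Lib.HallHigman.mem_normalizer_of_conj_le fun b hb => ?_
    obtain ⟨v, hv, rfl⟩ := hBe b hb
    rw [← hact, hmemB]
    exact hxS v hv
  have htnB : t ∉ B := fun h => by
    have h1 : t ∈ ι.range ⊓ K := ⟨hBrange h, x.2⟩
    rw [hWK, mem_bot] at h1
    rw [h1, orderOf_one] at ht
    exact hp.out.ne_one ht.symm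
  have hcardB : Nat.card B = p ^ p := by
    rw [hB, card_map_of_injective hι, ← hcardS]
    exact Nat.card_congr (Equiv.subtypeEquiv Multiplicative.toAdd fun _ => Iff.rfl)
  set X := B ⊔ zpowers t
  have hBX : B ≤ X := le_sup_left
  have htX : t ∈ X := (le_sup_right : zpowers t ≤ X) (mem_zpowers t)
  have hcardX : Nat.card X = p ^ (p + 1) := by
    have h1 : Nat.card ↥(B ⊔ zpowers t) * Nat.card ↥(B ⊓ zpowers t) = Nat.card B * Nat.card (zpowers t) :=
      Cfsg.Lib.Coprime.card_sup_mul_card_inf (zpowers_le.2 htB)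
    have h2 : B ⊓ zpowers t = ⊥ := by
      rw [eq_bot_iff, ← hWK]
      exact inf_le_inf hBrange (zpowers_le.2 x.2)
    rw [h2, card_bot, mul_one, hcardB, Nat.card_zpowers, ht, ← pow_succ] at h1
    exact h1
  have hXp : IsPGroup p X := IsPGroup.of_card hcardX
  have hBexp : ∀ b ∈ B, b ^ p = 1 := by
    intro b hb
    obtain ⟨v, -, rfl⟩ := hBe b hb
    rw [← map_pow, ← ofAdd_nsmul, ← Nat.cast_smul_eq_nsmul (ZMod p), ZMod.natCast_self, zero_smul, ofAdd_zero, map_one]
  have hBcomm : ∀ a ∈ B, ∀ b ∈ B, a * b = b * a := by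
    intro a ha b hb
    obtain ⟨v, -, rfl⟩ := hBe a ha
    obtain ⟨v', -, rfl⟩ := hBe b hb
    exact (map_mul ι _ _).symm.trans ((congrArg ι (mul_comm _ _)).trans (map_mul ι _ _))
  have hcentB : Nat.card ↥(B ⊓ centralizer ({t} : Set Γ)) = p := by
    have heq : B ⊓ centralizer ({t} : Set Γ) = zpowers (ι (Multiplicative.ofAdd (u ⟨p - 1, by have := hp.out.two_le; omega⟩))) := by
      have hlast : T (u ⟨p - 1, by have := hp.out.two_le; omega⟩) = 0 := by
        rw [hu, ← Module.End.mul_apply, ← pow_succ', hTge _ (show p ≤ p - 1 + 1 by omega)]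
      have hfix : ∀ v, t * ι (Multiplicative.ofAdd v) = ι (Multiplicative.ofAdd v) * t ↔ T v = 0 := fun v => by
        rw [← mul_inv_eq_iff_eq_mul, ← hact, hι.eq_iff, Multiplicative.ofAdd.injective.eq_iff, hT,
          LinearMap.sub_apply, Module.End.one_apply, sub_eq_zero]
      refine le_antisymm ?_ (zpowers_le.2 ⟨(hmemB _).2 (Submodule.subset_span ⟨_, rfl⟩),
        mem_centralizer_singleton_iff.2 ((hfix _).2 hlast).symm⟩)
      rintro b ⟨hb, hbt⟩
      obtain ⟨v, hv, rfl⟩ := hBe b hb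
      have hTv := (hfix v).1 (mem_centralizer_singleton_iff.1 hbt).symm
      obtain ⟨c, rfl⟩ := (Submodule.mem_span_range_iff_exists_fun (ZMod p)).1 hv
      have hc : ∀ i : Fin p, (i : ℕ) + 1 < p → c i = 0 := by
        intro i hi
        let c' : Fin p → ZMod p := fun j => if h : 0 < (j : ℕ) then c ⟨j - 1, by omega⟩ else 0
        have hsum : ∑ j, c' j • u j = 0 := by
          rw [← hTv, map_sum]
          simp only [map_smul]
          refine Finset.sum_bij_ne_zero (fun j _ _ => ⟨(j : ℕ) - 1, by omega⟩) (fun _ _ _ => Finset.mem_univ _) ?_ ?_ ?_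
          · intro a _ ha b _ hb e
            have ha' : 0 < (a : ℕ) := by
              by_contra h; exact ha (by simp only [c']; rw [dif_neg h, zero_smul])
            have hb' : 0 < (b : ℕ) := by
              by_contra h; exact hb (by simp only [c']; rw [dif_neg h, zero_smul])
            have := congrArg Fin.val e
            exact Fin.ext (by simp at this; omega)
          · intro b _ hb
            by_cases hbp : (b : ℕ) + 1 < p
            · refine ⟨⟨b + 1, hbp⟩, Finset.mem_univ _, ?_, Fin.ext (by simp)⟩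
              simp only [c', hu, Nat.succ_pos, dif_pos]
              rw [pow_succ', Module.End.mul_apply]
              simpa [hu] using hb
            · exact absurd (by rw [hu, ← Module.End.mul_apply, ← pow_succ', hTge _ (by omega), smul_zero]) hb
          · intro a _ ha
            have ha' : 0 < (a : ℕ) := by
              by_contra h; exact ha (by simp only [c']; rw [dif_neg h, zero_smul])
            simp only [c', dif_pos ha', hu]
            rw [← Module.End.mul_apply T, ← pow_succ', Nat.sub_add_cancel ha']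
        have h5 := Fintype.linearIndependent_iff.1 hli c' hsum ⟨i + 1, hi⟩
        have h6 : c' ⟨i + 1, hi⟩ = c i := dif_pos (Nat.succ_pos _)
        rwa [h6] at h5
      rw [Finset.sum_eq_single (⟨p - 1, by have := hp.out.two_le; omega⟩ : Fin p) (fun j _ hj => by
        rw [hc j (by have := Fin.val_ne_of_ne hj; simp at this; omega), zero_smul])
        (fun h => absurd (Finset.mem_univ _) h)]
      refine mem_zpowers_iff.2 ⟨((c ⟨p - 1, by have := hp.out.two_le; omega⟩).val : ℤ), ?_⟩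
      rw [zpow_natCast, ← map_pow, ← ofAdd_nsmul, ← Nat.cast_smul_eq_nsmul (ZMod p), ZMod.natCast_zmod_val]
    rw [heq, Nat.card_zpowers]
    refine orderOf_eq_prime (hBexp _ ((hmemB _).2 (Submodule.subset_span ⟨_, rfl⟩))) fun e => hw ?_
    have h1 := hι (e.trans (map_one ι).symm)
    simpa [hu] using h1
  -- transfer to the given Sylow subgroup
  set F := π.comp π₀
  obtain ⟨T₁, hT₁⟩ := hXp.exists_le_sylow
  obtain ⟨S₁, hS₁⟩ := Sylow.mapSurjective_surjective (f := F) (hπ.comp hs) p T₁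
  have hinv : Cfsg.Involves ↥X ↥(P : Subgroup G) := by
    have h1 : Cfsg.Involves ↥X ↥(T₁ : Subgroup Γ) :=
      Cfsg.Lib.QdFree.involves_of_injective (inclusion_injective hT₁) (Cfsg.Lib.Sfour.involves_self _)
    have h2 : Cfsg.Involves ↥X ↥((S₁ : Subgroup G).map F) := by rw [← hS₁] at h1; exact h1
    have h3 : Cfsg.Involves ↥X ↥(S₁ : Subgroup G) :=
      Cfsg.Lib.QuadPair.involves_of_surjective (F.subgroupMap_surjective _) h2
    exact Cfsg.Lib.QuadPair.involves_of_surjective (f := (P.equiv S₁).toMonoidHom) (P.equiv S₁).surjective h3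
  haveI : Small.{0} ↥X := Countable.toSmall _
  let e : ↥X ≃* Shrink.{0} ↥X := Shrink.mulEquiv.symm
  have hB' : (B.subgroupOf X).Normal :=
    normal_subgroupOf_of_le_normalizer (sup_le le_normalizer (zpowers_le.2 htB))
  refine hwr (Shrink.{0} ↥X) ⟨(B.subgroupOf X).map e.toMonoidHom, e ⟨t, htX⟩, hB'.map _ e.surjective, ?_, ?_, ?_, ?_,
    ?_, ?_, ?_⟩ ?_
  · refine ⟨⟨?_⟩⟩
    rintro ⟨_, a, ha, rfl⟩ ⟨_, b, hb, rfl⟩
    refine Subtype.ext ?_
    show e a * e b = e b * e a
    rw [← map_mul, ← map_mul]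
    exact congrArg e (Subtype.ext (hBcomm a ha b hb))
  · rintro _ ⟨a, ha, rfl⟩
    show e a ^ p = 1
    rw [← map_pow, show a ^ p = 1 from Subtype.ext (hBexp a ha), map_one]
  · rw [card_map_of_injective e.injective, Nat.card_congr (subgroupOfEquivOfLe hBX).toEquiv, hcardB]
  · rw [MulEquiv.orderOf_eq, Subgroup.orderOf_mk, ht]
  · rintro ⟨a, ha, hae⟩
    exact htnB ((e.injective hae) ▸ ha : (⟨t, htX⟩ : X) ∈ B.subgroupOf X)
  · rw [← Nat.card_congr e.toEquiv, hcardX]
  · rw [← hcentB]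
    refine Nat.card_congr (Equiv.ofBijective (fun z => ⟨((e.symm z.1 : X) : Γ), ?_, ?_⟩) ⟨?_, ?_⟩)
    · obtain ⟨a, ha, hae⟩ := z.2.1
      rw [← hae]; simpa [mem_subgroupOf] using ha
    · refine mem_centralizer_singleton_iff.2 ?_
      have h := congrArg e.symm (mem_centralizer_singleton_iff.1 z.2.2)
      rw [map_mul, map_mul, e.symm_apply_apply] at h
      exact congrArg Subtype.val h
    · exact fun a b h => Subtype.ext (e.symm.injective (Subtype.ext (congrArg (fun z : ↥(B ⊓ centralizer ({t} : Set Γ)) => (z : Γ)) h)))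
    · rintro ⟨b, hb, hbt⟩
      refine ⟨⟨e ⟨b, hBX hb⟩, ⟨⟨b, hBX hb⟩, hb, rfl⟩, mem_centralizer_singleton_iff.2 ?_⟩, Subtype.ext (by simp)⟩
      rw [← map_mul, ← map_mul]
      exact congrArg e (Subtype.ext (mem_centralizer_singleton_iff.1 hbt))
  · obtain ⟨Kx, Rx, hR, ⟨e'⟩⟩ := hinv
    exact ⟨Kx, Rx, hR, ⟨e'.trans e⟩⟩


/-- Let G be a finite p-soluble group, p an odd prime not of the form 2^k + 1, and suppose the wreath product C_p ≀ C_p (of order p^(p+1)) is not involved in a Sylow p-subgroup of G: no section of a Sylow p-subgroup is isomorphic to it. Then G has p-length at most 1. -/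
theorem result {G : Type*} [Group G] [Finite G] {p : ℕ} [Fact p.Prime] (hp2 : p ≠ 2) (hnf : (¬ ∃ k : ℕ, p = 2 ^ k + 1)) (hG : Cfsg.IsPSolvable p G) (P : Sylow p G) (hwr : ∀ (W : Type) [Group W] [Finite W], (∃ (B : Subgroup W) (t : W), B.Normal ∧ IsMulCommutative B ∧ (∀ b ∈ B, b ^ p = 1) ∧ Nat.card B = p ^ p ∧ orderOf t = p ∧ t ∉ B ∧ Nat.card W = p ^ (p + 1) ∧ Nat.card ↥(B ⊓ Subgroup.centralizer ({t} : Set W)) = p) → ¬ Cfsg.Involves W ↥(P : Subgroup G)) : Cfsg.PLengthLE p 1 G := by
  exact main hp2 hnf hG P hwr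

end Cfsg.Agent.S3787
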