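import Cfsg.Statements.S3788
import Mathlib
import Cfsg.Prelude
import Cfsg.Agent.HallHigman.Complemented
import Cfsg.Agent.Components.Sfour.Section
import Cfsg.Agent.Quadratic.StableQd
import Cfsg.Agent.GaschutzYen.Basic

set_option autoImplicit false
open Cfsg

namespace Cfsg.Agent.S3788

open Subgroup

universe u

variable {p : ℕ} [hp : Fact p.Prime]

theorem core {G : Type u} [Group G] [Finite G] (hsol : Cfsg.IsPSolvable p G) (hO : Cfsg.pPrimeCore p G = ⊥)
    (P : Sylow p G) (a : G) (haP : a ∈ (P : Subgroup G))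
    (hn : ∀ g ∈ (P : Subgroup G), g * a * g⁻¹ ∈ zpowers a) (h : p ≠ 2 ∨ ¬ Cfsg.Involves (Equiv.Perm (Fin 4)) G) :
    a ∈ Cfsg.pCore p G := by
  classical
  obtain ⟨Γ, iG, iF, π, W, K, hπ, hWn, hW, hWc, hWp, hWK, hWKsup, hcent, hker⟩ :=
    Cfsg.Lib.HallHigman.exists_complemented hsol hO
  haveI := hWn
  have hcomap : W.comap π = Cfsg.pCore p G := by
    rw [hW, comap_map_eq, sup_eq_left.2 hker]
  rw [← hcomap]
  show π a ∈ W
  by_contra haW
  -- a power whose image has order `p` modulo `W`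
  obtain ⟨k, hk⟩ := P.2 ⟨a, haP⟩
  have hk' : a ^ p ^ k = 1 := congrArg Subtype.val hk
  have hex : ∃ m : ℕ, π a ^ p ^ m ∈ W := ⟨k, by rw [← map_pow, hk', map_one]; exact one_mem _⟩
  obtain ⟨m, hm⟩ : ∃ m, Nat.find hex = m + 1 := by
    rcases hf : Nat.find hex with _ | m
    · have := Nat.find_spec hex
      rw [hf, pow_zero, pow_one] at this
      exact absurd this haW
    · exact ⟨m, rfl⟩
  set b := π a ^ p ^ m with hb
  have hbp : b ^ p ∈ W := by
    have := Nat.find_spec hex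
    rw [hm, pow_succ, pow_mul] at this
    exact this
  have hbW : b ∉ W := Nat.find_min hex (by omega)
  have hbn : ∀ g ∈ (P : Subgroup G), π g * b * (π g)⁻¹ ∈ zpowers b := by
    intro g hg
    obtain ⟨s, hs⟩ := mem_zpowers_iff.1 (hn g hg)
    refine mem_zpowers_iff.2 ⟨s, ?_⟩
    rw [hb, ← map_pow, ← map_inv, ← map_mul, ← map_mul, ← map_zpow, ← conj_pow, ← hs, ← zpow_natCast a,
      ← zpow_natCast (a ^ s), ← zpow_mul, ← zpow_mul, mul_comm]
  have hWb : ∀ w ∈ W, w * b * w⁻¹ * b⁻¹ ∈ zpowers (b ^ p) := by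
    intro w hw
    obtain ⟨q, hq, rfl⟩ := (hW.le hw : w ∈ (Cfsg.pCore p G).map π)
    have h1 : π q * b * (π q)⁻¹ * b⁻¹ ∈ W := by
      rw [show π q * b * (π q)⁻¹ * b⁻¹ = π q * (b * (π q)⁻¹ * b⁻¹) by group]
      exact mul_mem hw (hWn.conj_mem _ (inv_mem hw) b)
    have h2 : π q * b * (π q)⁻¹ * b⁻¹ ∈ zpowers b :=
      mul_mem (hbn q (Cfsg.Lib.Coprime.pCore_le_sylow p P hq)) (inv_mem (mem_zpowers b))
    obtain ⟨i, hi⟩ := mem_zpowers_iff.1 h2
    have hdvd : (p : ℤ) ∣ i := by
      by_contra hnd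
      refine hbW ?_
      obtain ⟨u, v, huv⟩ := (Int.isCoprime_iff_gcd_eq_one.2 (show Int.gcd (p : ℤ) i = 1 by
        rw [Int.gcd_eq_natAbs, Int.natAbs_natCast]
        exact hp.out.coprime_iff_not_dvd.2 fun hd => hnd (Int.natCast_dvd.2 hd)))
      have h3 : b = (b ^ p) ^ u * (b ^ i) ^ v := by
        rw [← zpow_natCast b p, ← zpow_mul, ← zpow_mul, ← zpow_add, mul_comm (p : ℤ), mul_comm i, huv, zpow_one]
      rw [h3]
      exact mul_mem (zpow_mem hbp u) (zpow_mem (hi ▸ h1) v)
    obtain ⟨j, rfl⟩ := hdvd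
    exact mem_zpowers_iff.2 ⟨j, by rw [← hi, zpow_mul, zpow_natCast]⟩
  obtain ⟨v, hv, hvb⟩ : ∃ v ∈ W, v * b ≠ b * v := by
    by_contra hh
    push Not at hh
    exact hbW (hcent b fun w hw => (hh w hw).symm)
  rcases eq_or_ne p 2 with rfl | hp2
  · -- a transvection
    have h4 := h.resolve_left (fun e => e rfl)
    haveI : (centralizer (W : Set Γ)).Normal := inferInstance
    have hCW : centralizer (W : Set Γ) = W := le_antisymm
      (fun g hg => hcent g fun w hw => (mem_centralizer_iff.1 hg w hw).symm)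
      (fun g hg => mem_centralizer_iff.2 fun w hw => hWc w hw g hg)
    have hcore : Cfsg.pCore 2 (Γ ⧸ centralizer (W : Set Γ)) = ⊥ := by
      set f := (QuotientGroup.mk' (centralizer (W : Set Γ))).comp π
      have hf : Function.Surjective f := (QuotientGroup.mk'_surjective _).comp hπ
      have hkf : f.ker = Cfsg.pCore 2 G := by
        rw [← MonoidHom.comap_ker, QuotientGroup.ker_mk', hCW, hcomap]
      haveI := Cfsg.Lib.Components.pCore_normal' (G := Γ ⧸ centralizer (W : Set Γ)) 2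
      haveI : ((Cfsg.pCore 2 (Γ ⧸ centralizer (W : Set Γ))).comap f).Normal := Subgroup.Normal.comap inferInstance _
      have hle := Cfsg.Lib.Components.le_pCore ((Cfsg.Lib.Components.isPGroup_pCore 2).comap_of_ker_isPGroup f
        (by rw [hkf]; exact Cfsg.Lib.Components.isPGroup_pCore 2))
      rw [eq_bot_iff, ← map_comap_eq_self_of_surjective hf (Cfsg.pCore 2 _)]
      refine (map_mono hle).trans ?_
      rw [← hkf]
      exact ((Subgroup.map_eq_bot_iff _).2 le_rfl).le
    have hidx : Nat.card W ≤ 2 * Nat.card ↥(W ⊓ centralizer ({b} : Set Γ)) := by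
      set c := v * b * v⁻¹ * b⁻¹ with hc
      have hc1 : c ≠ 1 := fun e => hvb (by rwa [hc, mul_inv_eq_one, mul_inv_eq_iff_eq_mul] at e)
      have hb2 : (b ^ 2) ^ 2 = 1 := hWp _ hbp
      have hcases : ∀ w ∈ W, w * b * w⁻¹ * b⁻¹ = 1 ∨ w * b * w⁻¹ * b⁻¹ = b ^ 2 := by
        intro w hw
        obtain ⟨i, hi⟩ := mem_zpowers_iff.1 (hWb w hw)
        rcases Int.even_or_odd' i with ⟨j, rfl | rfl⟩ <;> rw [← hi]
        · left; rw [zpow_mul, zpow_two, ← pow_two, hb2, one_zpow]
        · right; rw [zpow_add, zpow_mul, zpow_two, ← pow_two, hb2, one_zpow, one_mul, zpow_one]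
      set D := W ⊓ centralizer ({b} : Set Γ)
      have hcover : ∀ w ∈ W, w ∈ D ∨ v⁻¹ * w ∈ D := by
        intro w hw
        by_cases hwb : w * b = b * w
        · exact Or.inl ⟨hw, mem_centralizer_singleton_iff.2 hwb⟩
        right
        refine ⟨W.mul_mem (W.inv_mem hv) hw, mem_centralizer_singleton_iff.2 ?_⟩
        have hw' := (hcases w hw).resolve_left fun e => hwb (by rwa [mul_inv_eq_one, mul_inv_eq_iff_eq_mul] at e)
        have hv' := (hcases v hv).resolve_left hc1
        rw [← hv', mul_inv_eq_iff_eq_mul, inv_mul_cancel_right] at hw'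
        calc v⁻¹ * w * b = v⁻¹ * (w * b * w⁻¹) * w := by group
          _ = v⁻¹ * (v * b * v⁻¹) * w := by rw [hw']
          _ = b * (v⁻¹ * w) := by group
      haveI := Fintype.ofFinite Γ
      rw [show Nat.card W = (W : Set Γ).toFinset.card from (Nat.card_eq_fintype_card).trans (Set.toFinset_card _).symm,
        show Nat.card D = (D : Set Γ).toFinset.card from (Nat.card_eq_fintype_card).trans (Set.toFinset_card _).symm, two_mul]
      refine le_trans (Finset.card_le_card (t := (D : Set Γ).toFinset ∪ (D : Set Γ).toFinset.image (v * ·)) ?_)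
        (le_trans (Finset.card_union_le _ _) (Nat.add_le_add_left Finset.card_image_le _))
      intro w hw
      rcases hcover w (by simpa using hw) with h1 | h1
      · exact Finset.mem_union_left _ (by simpa using h1)
      · exact Finset.mem_union_right _ (Finset.mem_image.2 ⟨v⁻¹ * w, by simpa using h1, by group⟩)
    exact h4 (Cfsg.Lib.QuadPair.involves_of_surjective hπ (Cfsg.Lib.Sfour.involves_of_transvection (E := W)
      (fun e he => by rw [← pow_two]; exact hWp e he) hcore (a := b) (fun hc => hbW (hCW ▸ hc))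
      (by rw [← pow_two, hCW]; exact hbp) hidx))
  · -- `p` is odd
    obtain ⟨w, hw, c, hc, hwc⟩ := mem_sup_of_normal_left.1 (hWKsup.ge (mem_top b))
    set d := c * w * c⁻¹ * w⁻¹ with hd
    have hdW : d ∈ W := mul_mem (hWn.conj_mem w hw c) (inv_mem hw)
    have hdb : d * b = b * d := by
      have h1 := hWb w⁻¹ (inv_mem hw)
      have h2 : w⁻¹ * b * w⁻¹⁻¹ * b⁻¹ = d := by
        rw [← hwc, hd]
        calc w⁻¹ * (w * c) * w⁻¹⁻¹ * (w * c)⁻¹ = (c * w * c⁻¹) * w⁻¹ := by group
          _ = c * w * c⁻¹ * w⁻¹ := rfl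
      rw [h2] at h1
      obtain ⟨j, hj⟩ := mem_zpowers_iff.1 h1
      rw [← hj]
      exact (((Commute.refl b).pow_left p).zpow_left j).eq
    have hcd : c * d * c⁻¹ = d := by
      calc c * d * c⁻¹ = w⁻¹ * (b * d * b⁻¹) * w := by rw [← hwc]; group
        _ = w⁻¹ * d * w := by rw [← hdb, mul_inv_cancel_right]
        _ = d := by rw [mul_assoc, hWc d hdW w hw, inv_mul_cancel_left]
    have hi : ∀ i : ℕ, c ^ i * w * (c ^ i)⁻¹ = d ^ i * w := by
      intro i
      induction i with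
      | zero => simp
      | succ i ih =>
        calc c ^ (i + 1) * w * (c ^ (i + 1))⁻¹ = c * (c ^ i * w * (c ^ i)⁻¹) * c⁻¹ := by rw [pow_succ']; group
          _ = (c * d * c⁻¹) ^ i * (c * w * c⁻¹) := by rw [ih, conj_pow]; group
          _ = d ^ (i + 1) * w := by rw [hcd, pow_succ, hd]; group
    have hpow : ∀ N : ℕ, (w * c) ^ N = d ^ (N * (N - 1) / 2) * w ^ N * c ^ N := by
      intro N
      induction N with
      | zero => simp
      | succ N ih =>
        have h2 : (N + 1) * (N + 1 - 1) / 2 = N * (N - 1) / 2 + N := by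
          rcases N with _ | N
          · rfl
          · rw [show (N + 1 + 1) * (N + 1 + 1 - 1) = (N + 1) * (N + 1 - 1) + (N + 1) * 2 by simp; ring,
              Nat.add_mul_div_right _ _ two_pos]
        have hdw : Commute (w ^ N) d := (show Commute w d from hWc w hw d hdW).pow_left N
        rw [pow_succ, ih, h2, show d ^ (N * (N - 1) / 2) * w ^ N * c ^ N * (w * c) =
          d ^ (N * (N - 1) / 2) * (w ^ N * (c ^ N * w * (c ^ N)⁻¹)) * (c ^ N * c) by group, hi,
          ← mul_assoc (w ^ N), (hdw.pow_right N).eq, mul_assoc (d ^ N), ← pow_succ, ← pow_succ, ← mul_assoc,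
          ← pow_add]
    obtain ⟨t, ht⟩ : p ∣ p * (p - 1) / 2 := by
      obtain ⟨s, hs⟩ := hp.out.odd_of_ne_two hp2
      exact ⟨s, by rw [hs, show 2 * s + 1 - 1 = 2 * s by omega, ← mul_assoc, mul_comm (2 * s + 1) 2, mul_assoc,
        Nat.mul_div_cancel_left _ two_pos]⟩
    have hbc : b ^ p = c ^ p := by
      rw [← hwc, hpow, ht, pow_mul, hWp d hdW, one_pow, hWp w hw, one_mul, one_mul]
    have hb1 : b ^ p = 1 := by
      have h1 : b ^ p ∈ W ⊓ K := ⟨hbp, hbc ▸ pow_mem hc p⟩
      rwa [hWK, mem_bot] at h1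
    refine hvb ?_
    have h1 := hWb v hv
    rw [hb1, zpowers_one_eq_bot, mem_bot, mul_inv_eq_one, mul_inv_eq_iff_eq_mul] at h1
    exact h1


/-- Let G be a finite p-soluble group, P a Sylow p-subgroup of G and A a cyclic normal subgroup of P. If p is odd, or if no section of G is isomorphic to the symmetric group of degree 4, then A ≤ O_{p',p}(G). -/
theorem result {G : Type*} [Group G] [Finite G] {p : ℕ} [Fact p.Prime] (hG : Cfsg.IsPSolvable p G) (P : Sylow p G) (A : Subgroup G) (hAP : A ≤ (P : Subgroup G)) (hAn : (P : Subgroup G) ≤ Subgroup.normalizer (A : Set G)) (hA : IsCyclic A) (h : p ≠ 2 ∨ ¬ Cfsg.Involves (Equiv.Perm (Fin 4)) G) : A ≤ Cfsg.pPrimePCore p G := by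
  set π₀ := QuotientGroup.mk' (Cfsg.pPrimeCore p G) with hπ₀
  have hs : Function.Surjective π₀ := QuotientGroup.mk'_surjective _
  haveI := hA
  obtain ⟨a, ha⟩ := IsCyclic.exists_generator (α := A)
  have hAa : A = zpowers (a : G) := le_antisymm (fun x hx => by
      obtain ⟨i, hi⟩ := mem_zpowers_iff.1 (ha ⟨x, hx⟩)
      exact mem_zpowers_iff.2 ⟨i, congrArg Subtype.val hi⟩) (zpowers_le.2 a.2)
  show A ≤ (Cfsg.pCore p (G ⧸ Cfsg.pPrimeCore p G)).comap π₀
  rw [← map_le_iff_le_comap, hAa, MonoidHom.map_zpowers, zpowers_le]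
  refine core (Cfsg.Lib.GaschutzYen.isPSolvable_quotient (p := p) _ hG) Cfsg.Lib.Coprime.pPrimeCore_quotient_eq_bot
    (Sylow.mapSurjective hs P) (π₀ a) ⟨a, hAP a.2, rfl⟩ ?_ (h.imp_right fun hn hi =>
      hn (Cfsg.Lib.QuadPair.involves_of_surjective hs hi))
  rintro _ ⟨g, hg, rfl⟩
  have h1 := (mem_normalizer_iff.1 (hAn hg) a).1 a.2
  rw [← map_inv, ← map_mul, ← map_mul, ← MonoidHom.map_zpowers, ← hAa]
  exact mem_map_of_mem _ h1

end Cfsg.Agent.S3788
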