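import Cfsg.Statements.S3789
import Cfsg.Agent.SolvStruct.PLengthSeries
import Cfsg.Agent.HallHigman.DerivedLength
import Cfsg.Agent.GaschutzYen.Basic

set_option autoImplicit false
open Cfsg

namespace Cfsg.Agent.S3789

open Subgroup Cfsg.Lib.HallHigman

universe u

variable {p : ℕ} [hp : Fact p.Prime]

theorem map_bot_of {G H : Type*} [Group G] [Group H] [Finite G] {n : ℕ} (f : G →* H) (hf : Function.Surjective f)
    (h : ∀ P : Sylow p G, derSub (P : Subgroup G) n = ⊥) (P : Sylow p H) : derSub (P : Subgroup H) n = ⊥ := by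
  obtain ⟨S, rfl⟩ := Sylow.mapSurjective_surjective hf p P
  show derSub ((S : Subgroup G).map f) n = ⊥
  rw [← derSub_map, h S, Subgroup.map_bot]

theorem main (hp2 : p ≠ 2) : ∀ (n : ℕ) (G : Type u) [Group G] [Finite G], Cfsg.IsPSolvable p G →
    (∀ P : Sylow p G, derSub (P : Subgroup G) n = ⊥) → Cfsg.PLengthLE p n G := by
  intro n
  induction n with
  | zero =>
    intro G _ _ _ h
    rw [Cfsg.Lib.PLengthSeries.pLengthLE_zero_iff]
    refine (hp.out.coprime_iff_not_dvd.2 fun hd => ?_).symm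
    obtain ⟨P⟩ := (inferInstance : Nonempty (Sylow p G))
    exact Sylow.not_dvd_index P (by rw [show (P : Subgroup G) = ⊥ from h P, index_bot]; exact hd)
  | succ n ih =>
    intro G _ _ hsol h
    set π := QuotientGroup.mk' (Cfsg.pPrimeCore p G)
    have hπ : Function.Surjective π := QuotientGroup.mk'_surjective _
    have hO : Cfsg.pPrimeCore p (G ⧸ Cfsg.pPrimeCore p G) = ⊥ := Cfsg.Lib.Coprime.pPrimeCore_quotient_eq_bot
    have hsol1 := Cfsg.Lib.GaschutzYen.isPSolvable_quotient (p := p) (Cfsg.pPrimeCore p G) hsol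
    set ρ := QuotientGroup.mk' (Cfsg.pCore p (G ⧸ Cfsg.pPrimeCore p G))
    have hρ : Function.Surjective ρ := QuotientGroup.mk'_surjective _
    have h3 := ih _ (Cfsg.Lib.GaschutzYen.isPSolvable_quotient (p := p) (Cfsg.pCore p (G ⧸ Cfsg.pPrimeCore p G)) hsol1)
      (fun P => by
        obtain ⟨S, rfl⟩ := Sylow.mapSurjective_surjective hρ p P
        show derSub ((S : Subgroup (G ⧸ Cfsg.pPrimeCore p G)).map ρ) n = ⊥
        rw [← derSub_map, eq_bot_iff]
        refine (map_mono (derived_drop hp2 hsol1 hO S n (map_bot_of π hπ h S))).trans ?_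
        exact (QuotientGroup.map_mk'_self _).le)
    have h1 : Cfsg.PLengthLE p 0 π.ker := by
      rw [Cfsg.Lib.PLengthSeries.pLengthLE_zero_iff, QuotientGroup.ker_mk']
      exact Cfsg.Lib.Components.coprime_card_pPrimeCore p
    have h2 : Cfsg.PLengthLE p 1 ρ.ker := Cfsg.Lib.PLengthSeries.pLengthLE_one_of_isPGroup (by
      rw [QuotientGroup.ker_mk']; exact Cfsg.Lib.Components.isPGroup_pCore p)
    have h4 := Cfsg.Lib.PLengthSeries.pLengthLE_extend π h1 (Cfsg.Lib.PLengthSeries.pLengthLE_extend ρ h2 h3)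
    rw [show n + 1 = 0 + (1 + n) by ring]
    exact h4

/-- Let p be an odd prime and G a finite p-soluble group whose Sylow p-subgroups have derived length at most d. Then G has p-length at most d. -/
theorem result {G : Type*} [Group G] [Finite G] {p : ℕ} [Fact p.Prime] (hp : p ≠ 2) (hG : Cfsg.IsPSolvable p G) (d : ℕ) (hd : ∀ P : Sylow p G, derivedSeries ↥(P : Subgroup G) d = ⊥) : Cfsg.PLengthLE p d G := by
  exact main hp d G hG fun P => by rw [derSub_eq_map, hd P, Subgroup.map_bot]

end Cfsg.Agent.S3789
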