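import Cfsg.Statements.S3790
import Mathlib
import Cfsg.Prelude
import Cfsg.Agent.SolvStruct.PLengthSeries
import Cfsg.Agent.Coprime.SolvableBasics

set_option autoImplicit false
open Cfsg

namespace Cfsg.Agent.S3790

open Subgroup Cfsg.Lib.PLengthSeries

universe u

theorem coprime_card_of {n p : ℕ} (hn : n ≠ 0) (hp : p.Prime) (h : ¬ p ∣ n) : n.Coprime p :=
  ((hp.coprime_iff_not_dvd).2 h).symm

theorem main {p : ℕ} [Fact p.Prime] (l : ℕ → ℕ) : ∀ s : Finset ℕ, (∀ q ∈ s, q.Prime ∧ q ≠ p) →
    ∀ (G : Type u) [Group G] [Finite G], (∀ t : ℕ, t.Prime → t ∣ Nat.card G → t = p ∨ t ∈ s) →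
    (∀ q ∈ s, Cfsg.PLengthLE q (l q) G) → Cfsg.PLengthLE p (∏ q ∈ s, (1 + l q)) G := by
  intro s
  induction s using Finset.induction_on with
  | empty =>
    intro _ G _ _ hc _
    rw [Finset.prod_empty]
    refine pLengthLE_one_of_isPGroup (IsPGroup.of_card (n := (Nat.card G).primeFactorsList.length) ?_)
    exact Nat.eq_prime_pow_of_unique_prime_dvd Nat.card_pos.ne'
      fun {t} ht htd => (hc t ht htd).resolve_right (Finset.notMem_empty t)
  | @insert q s hqs ih =>
    intro hs G _ _ hc hl
    haveI := Fact.mk (hs q (Finset.mem_insert_self q s)).1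
    have hqp := (hs q (Finset.mem_insert_self q s)).2
    set M := ∏ x ∈ s, (1 + l x)
    rw [Finset.prod_insert hqs]
    suffices inner : ∀ (k : ℕ) (G : Type u) [Group G] [Finite G], (∀ t : ℕ, t.Prime → t ∣ Nat.card G → t = p ∨ t ∈ insert q s) →
        Cfsg.PLengthLE q k G → (∀ x ∈ s, Cfsg.PLengthLE x (l x) G) → Cfsg.PLengthLE p ((1 + k) * M) G from
      inner _ G hc (hl q (Finset.mem_insert_self q s)) fun x hx => hl x (Finset.mem_insert_of_mem hx)
    have hq' : ∀ (G : Type u) [Group G] [Finite G], (∀ t : ℕ, t.Prime → t ∣ Nat.card G → t = p ∨ t ∈ insert q s) →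
        (Nat.card G).Coprime q → (∀ x ∈ s, Cfsg.PLengthLE x (l x) G) → Cfsg.PLengthLE p M G := by
      intro G _ _ hc hcop hl
      refine ih (fun x hx => hs x (Finset.mem_insert_of_mem hx)) G (fun t ht htd => ?_) hl
      rcases hc t ht htd with h | h
      · exact Or.inl h
      · rcases Finset.mem_insert.1 h with rfl | h
        · exact absurd (Nat.eq_one_of_dvd_coprimes hcop htd dvd_rfl) ht.ne_one
        · exact Or.inr h
    intro k
    induction k with
    | zero =>
      intro G _ _ hc hk hl
      rw [add_zero, one_mul]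
      exact hq' G hc (pLengthLE_zero_iff.1 hk) hl
    | succ k ihk =>
      intro G _ _ hc hk hl
      set Q := Cfsg.pPrimeCore q G
      set π := QuotientGroup.mk' Q
      have hπ : Function.Surjective π := QuotientGroup.mk'_surjective Q
      have hO : Cfsg.pPrimeCore q (G ⧸ Q) = ⊥ := Cfsg.Lib.Coprime.pPrimeCore_quotient_eq_bot
      set ρ := QuotientGroup.mk' (Cfsg.pCore q (G ⧸ Q))
      have hρ : Function.Surjective ρ := QuotientGroup.mk'_surjective _
      have hl1 : ∀ x ∈ s, Cfsg.PLengthLE x (l x) π.ker := fun x hx => by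
        haveI := Fact.mk (hs x (Finset.mem_insert_of_mem hx)).1
        exact pLengthLE_of_injective π.ker.subtype π.ker.subtype_injective (hl x hx)
      have h1 : Cfsg.PLengthLE p M π.ker := by
        refine hq' _ (fun t ht htd => hc t ht (htd.trans (card_subgroup_dvd_card _))) ?_ hl1
        rw [QuotientGroup.ker_mk']
        exact Cfsg.Lib.Components.coprime_card_pPrimeCore q
      have h2 : Cfsg.PLengthLE p 0 ρ.ker := by
        rw [pLengthLE_zero_iff, QuotientGroup.ker_mk']
        obtain ⟨j, hj⟩ := IsPGroup.iff_card.1 (Cfsg.Lib.Components.isPGroup_pCore (G := G ⧸ Q) q)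
        rw [hj]
        exact Nat.Coprime.pow_left _ ((Nat.coprime_primes Fact.out Fact.out).2 hqp)
      have h3 : Cfsg.PLengthLE p ((1 + k) * M) ((G ⧸ Q) ⧸ Cfsg.pCore q (G ⧸ Q)) := by
        refine ihk _ (fun t ht htd => hc t ht (htd.trans ((card_dvd_of_surjective ρ hρ).trans (card_dvd_of_surjective π hπ))))
          (pLengthLE_map_pred ρ hρ ?_ (pLengthLE_map π hπ hk)) fun x hx => pLengthLE_map ρ hρ (pLengthLE_map π hπ (hl x hx))
        rw [QuotientGroup.ker_mk']
        exact series_two_le hO
      have h4 := pLengthLE_extend π h1 (pLengthLE_extend ρ h2 h3)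
      rw [show (1 + (k + 1)) * M = M + (0 + (1 + k) * M) by ring]
      exact h4


/-- Let G be a finite solvable group and p a prime. Suppose p₁, …, p_r are distinct primes, all different from p, that include every prime dividing the order of G other than p, and that G has p_i-length at most l_i for each i. Then G has p-length at most the product of the numbers 1 + l_i. -/
theorem result {G : Type*} [Group G] [Finite G] (hG : Group.IsSolvable G) (p : ℕ) [Fact p.Prime] (r : ℕ) (q : Fin r → ℕ) (hq : ∀ i, (q i).Prime ∧ q i ≠ p) (hinj : Function.Injective q) (hcover : ∀ s : ℕ, s.Prime → s ∣ Nat.card G → s ≠ p → ∃ i, q i = s) (l : Fin r → ℕ) (hl : ∀ i, Cfsg.PLengthLE (q i) (l i) G) : Cfsg.PLengthLE p (Finset.univ.prod fun i => 1 + l i) G := by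
  classical
  let L : ℕ → ℕ := fun s => if h : ∃ i, q i = s then l h.choose else 0
  have hL : ∀ i, L (q i) = l i := by
    intro i
    have h : ∃ j, q j = q i := ⟨i, rfl⟩
    simp only [L, dif_pos h]
    exact congrArg l (hinj h.choose_spec)
  have h := main (p := p) L (Finset.univ.image q) ?_ G ?_ ?_
  · rw [Finset.prod_image fun a _ b _ e => hinj e] at h
    simpa [hL] using h
  · intro x hx
    obtain ⟨i, -, rfl⟩ := Finset.mem_image.1 hx
    exact hq i
  · intro t ht htd
    by_cases htp : t = p
    · exact Or.inl htp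
    · obtain ⟨i, hi⟩ := hcover t ht htd htp
      exact Or.inr (Finset.mem_image.2 ⟨i, Finset.mem_univ i, hi⟩)
  · intro x hx
    obtain ⟨i, -, rfl⟩ := Finset.mem_image.1 hx
    rw [hL]; exact hl i

end Cfsg.Agent.S3790
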