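import Cfsg.Statements.S3791
import Mathlib
import Cfsg.Prelude
import Cfsg.Agent.SolvStruct.PLengthSeries
import Cfsg.Agent.Coprime.SolvableBasics

set_option autoImplicit false
open Cfsg

namespace Cfsg.Agent.S3791

open Subgroup

universe u

theorem derived_of_injective {A B : Type*} [Group A] [Group B] (f : A →* B) (hf : Function.Injective f) {d : ℕ}
    (h : derivedSeries B d = ⊥) : derivedSeries A d = ⊥ :=
  (map_eq_bot_iff_of_injective _ hf).1 (le_bot_iff.1 ((map_derivedSeries_le_derivedSeries f d).trans h.le))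

theorem derived_of_surjective {A B : Type*} [Group A] [Group B] (f : A →* B) (hf : Function.Surjective f) {d : ℕ}
    (h : derivedSeries A d = ⊥) : derivedSeries B d = ⊥ := by
  rw [← map_derivedSeries_eq hf, h, Subgroup.map_bot]

theorem derived_extend {A B : Type*} [Group A] [Group B] (f : A →* B) {m d : ℕ}
    (hm : derivedSeries B m = ⊥) (hd : derivedSeries f.ker d = ⊥) : derivedSeries A (m + d) = ⊥ := by
  have key : ∀ j, derivedSeries A (m + j) ≤ (derivedSeries f.ker j).map f.ker.subtype := by
    intro j
    induction j with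
    | zero =>
      rw [derivedSeries_zero, ← MonoidHom.range_eq_map, Subgroup.range_subtype]
      exact (Subgroup.map_eq_bot_iff _).1 (le_bot_iff.1 ((map_derivedSeries_le_derivedSeries f m).trans hm.le))
    | succ j ih =>
      rw [← add_assoc, derivedSeries_succ, derivedSeries_succ, map_commutator]
      exact commutator_mono ih ih
  have := key d
  rwa [hd, Subgroup.map_bot, le_bot_iff] at this

theorem main {r : ℕ} (q : Fin r → ℕ) (hq : ∀ i, (q i).Prime) (d : Fin r → ℕ) :
    ∀ (n : ℕ) (l : Fin r → ℕ) (G : Type u) [Group G] [Finite G], (Finset.univ.sum l) = n →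
    (∀ s : ℕ, s.Prime → s ∣ Nat.card G → ∃ i, q i = s) →
    (∀ i, ∀ S : Sylow (q i) G, derivedSeries ↥(S : Subgroup G) (d i) = ⊥) →
    (∀ i, Cfsg.PLengthLE (q i) (l i) G) → derivedSeries G (Finset.univ.sum fun i => d i * l i) = ⊥ := by
  intro n
  induction n using Nat.strong_induction_on with
  | _ n ih =>
  intro l G _ _ hn hcover hd hl
  set D := Finset.univ.sum fun i => d i * l i with hD
  have hle : ∀ i, derivedSeries G D ≤ Cfsg.pPrimeCore (q i) G := by
    intro i
    haveI := Fact.mk (hq i)
    set Q := Cfsg.pPrimeCore (q i) G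
    set π := QuotientGroup.mk' Q
    have hπ : Function.Surjective π := QuotientGroup.mk'_surjective Q
    have hO : Cfsg.pPrimeCore (q i) (G ⧸ Q) = ⊥ := Cfsg.Lib.Coprime.pPrimeCore_quotient_eq_bot
    have hl' := fun j => Cfsg.Lib.PLengthSeries.pLengthLE_map π hπ (hl j)
    suffices h : derivedSeries (G ⧸ Q) D = ⊥ by
      have h2 := (map_derivedSeries_le_derivedSeries π D).trans h.le
      rwa [le_bot_iff, Subgroup.map_eq_bot_iff, QuotientGroup.ker_mk'] at h2
    rcases Nat.eq_zero_or_pos (l i) with h0 | hpos
    · have h1 := hl' i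
      rw [h0] at h1
      change (Cfsg.upperPSeries (q i) (G ⧸ Q) 1).1 = ⊤ at h1
      rw [Cfsg.Lib.PLengthSeries.series_one, hO] at h1
      exact le_bot_iff.1 (le_top.trans h1.ge)
    set R := Cfsg.pCore (q i) (G ⧸ Q) with hR
    set ρ := QuotientGroup.mk' R
    have hρ : Function.Surjective ρ := QuotientGroup.mk'_surjective R
    set f := ρ.comp π
    have hf : Function.Surjective f := hρ.comp hπ
    let l' := Function.update l i (l i - 1)
    have hsum : Finset.univ.sum l' < n := by
      rw [← hn]
      refine Finset.sum_lt_sum (fun j _ => ?_) ⟨i, Finset.mem_univ i, ?_⟩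
      · rcases eq_or_ne j i with rfl | hne
        · simp [l']
        · simp [l', hne]
      · simp [l']; omega
    have hK : derivedSeries ((G ⧸ Q) ⧸ R) (Finset.univ.sum fun j => d j * l' j) = ⊥ := by
      refine ih _ hsum l' _ rfl (fun s hs hsd => hcover s hs (hsd.trans (card_dvd_of_surjective f hf))) (fun j S => ?_) fun j => ?_
      · haveI := Fact.mk (hq j)
        obtain ⟨S₀, rfl⟩ := Sylow.mapSurjective_surjective hf (q j) S
        exact derived_of_surjective _ (f.subgroupMap_surjective (S₀ : Subgroup G)) (hd j S₀)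
      · rcases eq_or_ne j i with rfl | hne
        · have h2 : l' j = l j - 1 := by simp [l']
          rw [h2]
          refine Cfsg.Lib.PLengthSeries.pLengthLE_map_pred ρ hρ ?_ ?_
          · rw [QuotientGroup.ker_mk']; exact Cfsg.Lib.PLengthSeries.series_two_le hO
          · rw [Nat.sub_add_cancel hpos]; exact hl' j
        · simp [l', hne]
          exact Cfsg.Lib.PLengthSeries.pLengthLE_map ρ hρ (hl' j)
    have hDeq : D = (Finset.univ.sum fun j => d j * l' j) + d i := by
      rw [hD, ← Finset.add_sum_erase _ _ (Finset.mem_univ i), ← Finset.add_sum_erase _ _ (Finset.mem_univ i)]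
      have h3 : ∀ j ∈ Finset.univ.erase i, d j * l' j = d j * l j := fun j hj => by
        simp [l', Finset.ne_of_mem_erase hj]
      rw [Finset.sum_congr rfl h3]
      have h4 : d i * l' i + d i = d i * l i := by
        simp only [l', Function.update_self]
        calc d i * (l i - 1) + d i = d i * (l i - 1 + 1) := by ring
          _ = d i * l i := by rw [Nat.sub_add_cancel hpos]
      omega
    rw [hDeq]
    refine derived_extend ρ hK ?_
    obtain ⟨S₀⟩ : Nonempty (Sylow (q i) G) := inferInstance
    obtain ⟨S, hS⟩ := (Cfsg.Lib.Components.isPGroup_pCore (G := G ⧸ Q) (q i)).exists_le_sylow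
    obtain ⟨S₁, rfl⟩ := Sylow.mapSurjective_surjective hπ (q i) S
    have h5 := derived_of_surjective _ (π.subgroupMap_surjective (S₁ : Subgroup G)) (hd i S₁)
    have h6 : ρ.ker ≤ (S₁ : Subgroup G).map π := by rw [QuotientGroup.ker_mk']; exact hS
    exact derived_of_injective (Subgroup.inclusion h6) (Subgroup.inclusion_injective h6) h5
  rw [eq_bot_iff]
  intro x hx
  by_contra hx1
  obtain ⟨s, hs, hsd⟩ := Nat.exists_prime_and_dvd (n := orderOf x) (fun e => hx1 (mem_bot.2 (orderOf_eq_one_iff.1 e)))
  obtain ⟨i, rfl⟩ := hcover s hs (hsd.trans (orderOf_dvd_natCard x))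
  have h1 : orderOf x ∣ Nat.card (Cfsg.pPrimeCore (q i) G) := by
    rw [← Subgroup.orderOf_mk x (hle i hx)]; exact orderOf_dvd_natCard _
  exact hs.one_lt.ne' (Nat.eq_one_of_dvd_coprimes (Cfsg.Lib.Components.coprime_card_pPrimeCore (q i)) (hsd.trans h1) dvd_rfl)


/-- The Hall–Higman bound on derived length: let G be a finite solvable group, let p₁, …, p_r be distinct primes that include every prime dividing the order of G, and suppose that for each i the Sylow p_i-subgroups of G have derived length at most d_i and G has p_i-length at most l_i. Then G has derived length at most Σ d_i l_i. -/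
theorem result {G : Type*} [Group G] [Finite G] (hG : Group.IsSolvable G) (r : ℕ) (q : Fin r → ℕ) (hq : ∀ i, (q i).Prime) (hinj : Function.Injective q) (hcover : ∀ s : ℕ, s.Prime → s ∣ Nat.card G → ∃ i, q i = s) (d l : Fin r → ℕ) (hd : ∀ i, ∀ P : Subgroup G, (haveI := Fact.mk (hq i); ∃ S : Sylow (q i) G, (S : Subgroup G) = P) → derivedSeries ↥P (d i) = ⊥) (hl : ∀ i, Cfsg.PLengthLE (q i) (l i) G) : derivedSeries G (Finset.univ.sum fun i => d i * l i) = ⊥ := by
  exact main q hq d _ l G rfl hcover (fun i S => hd i _ ⟨S, rfl⟩) hl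

end Cfsg.Agent.S3791
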