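import Cfsg.Statements.S3799
import Cfsg.Agent.PGroups.HeisenbergGL

set_option autoImplicit false
open Cfsg

namespace Cfsg.Agent.S3799

/-- For every odd prime p and every n ≥ 1 there is an extraspecial p-group of order p^(1+2n) and exponent p; concretely, the general linear group of degree n + 2 over the field with p elements contains such a subgroup. -/
theorem result (p : ℕ) [Fact p.Prime] (hp : p ≠ 2) (n : ℕ) (hn : 1 ≤ n) : ∃ E : Subgroup (Matrix.GeneralLinearGroup (Fin (n + 2)) (ZMod p)), Cfsg.IsExtraspecial p ↥E ∧ Nat.card E = p ^ (1 + 2 * n) ∧ ∀ x ∈ E, x ^ p = 1 := by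
  open Cfsg.Lib.HeisGL in
  have hrank : Module.finrank (ZMod p) (V p n) = n + 2 := by
    simp [Module.finrank_prod, Module.finrank_fin_fun]
    ring
  let b := Module.finBasisOfFinrankEq (ZMod p) (V p n) hrank
  let e : (Module.End (ZMod p) (V p n))ˣ ≃* Matrix.GeneralLinearGroup (Fin (n + 2)) (ZMod p) :=
    Units.mapEquiv (LinearMap.toMatrixAlgEquiv b).toMulEquiv
  let E := (heis p n).map e.toMonoidHom
  let f : heis p n ≃* E := (heis p n).equivMapOfInjective e.toMonoidHom e.injective
  refine ⟨E, map_isExtraspecial hp hn f, by rw [← Nat.card_congr f.toEquiv, card_heis], ?_⟩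
  rintro _ ⟨u, hu, rfl⟩
  show e u ^ p = 1
  rw [← map_pow]
  have := congrArg Subtype.val (pow_prime hp (⟨u, hu⟩ : heis p n))
  simpa using congrArg e this

end Cfsg.Agent.S3799
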