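import Cfsg.Statements.S3800
import Cfsg.Agent.Components.BalanceDelta

set_option autoImplicit false
open Cfsg

namespace Cfsg.Agent.S3800

/-- Let G be a finite group, N a normal subgroup of G whose order is prime to p, and P a p-subgroup of G. Then in G/N the normalizer of the image of P is the image of N_G(P), and the centralizer of the image of P is the image of C_G(P). -/
theorem result {G : Type*} [Group G] [Finite G] {p : ℕ} [Fact p.Prime] (N : Subgroup G) [N.Normal] (hN : (Nat.card N).Coprime p) (P : Subgroup G) (hP : IsPGroup p P) : Subgroup.normalizer ((P.map (QuotientGroup.mk' N)) : Set (G ⧸ N)) = (Subgroup.normalizer (P : Set G)).map (QuotientGroup.mk' N) ∧ Subgroup.centralizer ((P.map (QuotientGroup.mk' N)) : Set (G ⧸ N)) = (Subgroup.centralizer (P : Set G)).map (QuotientGroup.mk' N) := by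
  have hk : (Nat.card (QuotientGroup.mk' N).ker).Coprime p := by rwa [QuotientGroup.ker_mk']
  have hs := QuotientGroup.mk'_surjective N
  refine ⟨(Cfsg.Lib.Components.normalizer_map_of_coprime_ker hs hk hP).symm, le_antisymm ?_ ?_⟩
  · intro y hy
    have hy' : y ∈ Subgroup.normalizer ((P.map (QuotientGroup.mk' N)) : Set (G ⧸ N)) :=
      Subgroup.centralizer_le_normalizer _ hy
    rw [← Cfsg.Lib.Components.normalizer_map_of_coprime_ker hs hk hP] at hy'
    obtain ⟨g, hg, rfl⟩ := hy'
    refine ⟨g, Subgroup.mem_centralizer_iff.mpr fun b hb => ?_, rfl⟩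
    have hd : P ⊓ (QuotientGroup.mk' N).ker = ⊥ :=
      Cfsg.Lib.Components.coprime_pGroup_disjoint hP hk
    have h1 : g * b * g⁻¹ * b⁻¹ ∈ P ⊓ (QuotientGroup.mk' N).ker := by
      refine Subgroup.mem_inf.mpr ⟨mul_mem ((Subgroup.mem_normalizer_iff.mp hg b).mp hb) (inv_mem hb), ?_⟩
      rw [MonoidHom.mem_ker, map_mul, map_mul, map_mul, map_inv, map_inv,
        ← Subgroup.mem_centralizer_iff.mp hy _ (Subgroup.mem_map_of_mem _ hb)]
      group
    rw [hd, Subgroup.mem_bot] at h1
    calc b * g = (g * b * g⁻¹ * b⁻¹) * (b * g) := by rw [h1, one_mul]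
      _ = g * b := by group
  · rintro _ ⟨x, hx, rfl⟩
    refine Subgroup.mem_centralizer_iff.mpr ?_
    rintro _ ⟨b, hb, rfl⟩
    rw [← map_mul, ← map_mul, Subgroup.mem_centralizer_iff.mp hx b hb]

end Cfsg.Agent.S3800
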