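import Cfsg.Statements.S3801
import Cfsg.Agent.SolvStruct.PLengthSeries
import Cfsg.Agent.S3783
import Cfsg.Agent.S0018
import Cfsg.Agent.Blocks.ItoDegrees
import Cfsg.Agent.TwoLength.Agemo
import Cfsg.Agent.TwoLength.Drop

set_option autoImplicit false
set_option linter.style.haveILetI false
open Cfsg

namespace Cfsg.Agent.S3801

open Subgroup Cfsg.Lib.TwoLength

universe u

variable {G : Type u} [Group G] [Finite G]

theorem base (hsol : Group.IsSolvable G) (hexp : ∀ (P : Sylow 2 G), ∀ x ∈ (P : Subgroup G), x ^ 2 ^ 1 = 1) :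
    Cfsg.PLengthLE 2 1 G := by
  haveI : Fact (Nat.Prime 2) := ⟨Nat.prime_two⟩
  haveI := hsol
  set π := QuotientGroup.mk' (Cfsg.pPrimeCore 2 G)
  have hπ : Function.Surjective π := QuotientGroup.mk'_surjective _
  obtain ⟨P⟩ := (inferInstance : Nonempty (Sylow 2 G))
  have hab : IsMulCommutative (P : Subgroup G) := ⟨⟨fun a b => Subtype.ext (by
    have h : ∀ z ∈ (P : Subgroup G), z⁻¹ = z := fun z hz => by
      have := hexp P z hz
      rw [pow_one, pow_two] at this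
      exact inv_eq_of_mul_eq_one_left this
    show (a : G) * b = b * a
    have hab := h _ (mul_mem a.2 b.2)
    rw [mul_inv_rev, h _ a.2, h _ b.2] at hab
    exact hab.symm)⟩⟩
  have hN := Cfsg.Agent.S0018.result 2 P hab
  set N := (P : Subgroup G) ⊔ Cfsg.pPrimeCore 2 G
  haveI := hN
  have hq : Cfsg.PLengthLE 2 0 (G ⧸ N) := by
    rw [Cfsg.Lib.PLengthSeries.pLengthLE_zero_iff]
    refine (Nat.prime_two.coprime_iff_not_dvd.2 fun hd => ?_).symm
    exact P.not_dvd_index ((show 2 ∣ N.index from hd).trans (index_dvd_of_le le_sup_left))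
  have hsupK : Cfsg.PLengthLE 2 1 (QuotientGroup.mk' N).ker := by
    let f := (π.comp (QuotientGroup.mk' N).ker.subtype).rangeRestrict
    have hf : Function.Surjective f := MonoidHom.rangeRestrict_surjective _
    have h1 : Cfsg.PLengthLE 2 0 f.ker := by
      rw [Cfsg.Lib.PLengthSeries.pLengthLE_zero_iff]
      refine Nat.Coprime.coprime_dvd_left ?_ (Cfsg.Lib.Components.coprime_card_pPrimeCore (G := G) 2)
      let i : f.ker →* Cfsg.pPrimeCore 2 G :=
        { toFun := fun z => ⟨((z : (QuotientGroup.mk' N).ker) : G), (QuotientGroup.eq_one_iff _).1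
            (congrArg Subtype.val (MonoidHom.mem_ker.1 z.2))⟩
          map_one' := rfl
          map_mul' := fun _ _ => rfl }
      exact Subgroup.card_dvd_of_injective i fun a b e =>
        Subtype.ext (Subtype.ext (congrArg Subtype.val e :))
    have h2 : Cfsg.PLengthLE 2 1 (π.comp (QuotientGroup.mk' N).ker.subtype).range := by
      refine Cfsg.Lib.PLengthSeries.pLengthLE_one_of_isPGroup ((P.2.map π).to_le ?_)
      rintro _ ⟨⟨g, hg⟩, rfl⟩
      rw [QuotientGroup.ker_mk'] at hg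
      obtain ⟨a, ha, b, hb, rfl⟩ := mem_sup_of_normal_right.1 hg
      exact ⟨a, ha, by
        show π a = π (a * b)
        rw [map_mul, show π b = 1 from (QuotientGroup.eq_one_iff b).2 hb, mul_one]⟩
    have h3 := Cfsg.Lib.PLengthSeries.pLengthLE_extend f h1 h2
    rwa [zero_add] at h3
  have h := Cfsg.Lib.PLengthSeries.pLengthLE_extend (QuotientGroup.mk' N) hsupK hq
  rwa [add_zero] at h

theorem main : ∀ (k : ℕ) (G : Type u) [Group G] [Finite G], Group.IsSolvable G → Cfsg.IsPSolvable 2 G →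
    (∀ (P : Sylow 2 G), ∀ x ∈ (P : Subgroup G), x ^ 2 ^ (k + 1) = 1) → Cfsg.PLengthLE 2 (2 * k + 1) G := by
  haveI : Fact (Nat.Prime 2) := ⟨Nat.prime_two⟩
  intro k
  induction k with
  | zero => intro G _ _ hsol _ hexp; simpa using base hsol hexp
  | succ k ih =>
    intro G _ _ hsolv hsol hexp
    haveI := hsolv
    set π := QuotientGroup.mk' (Cfsg.pPrimeCore 2 G)
    have hπ : Function.Surjective π := QuotientGroup.mk'_surjective _
    have hO : Cfsg.pPrimeCore 2 (G ⧸ Cfsg.pPrimeCore 2 G) = ⊥ := Cfsg.Lib.Coprime.pPrimeCore_quotient_eq_bot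
    have hsol1 := Cfsg.Lib.GaschutzYen.isPSolvable_quotient (p := 2) (Cfsg.pPrimeCore 2 G) hsol
    have hexp1 := Cfsg.Agent.S3783.exp_map π hπ hexp
    set ρ := QuotientGroup.mk' (Cfsg.pCore 2 (G ⧸ Cfsg.pPrimeCore 2 G))
    have hρ : Function.Surjective ρ := QuotientGroup.mk'_surjective _
    obtain ⟨V, iA, iM, iF, σ, hσ, hnorm⟩ := Cfsg.Lib.HallHigman.exists_faithful_module hsol1 hO (k + 2) hexp1
    have hsol2 := Cfsg.Lib.GaschutzYen.isPSolvable_quotient (p := 2) (Cfsg.pCore 2 (G ⧸ Cfsg.pPrimeCore 2 G)) hsol1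
    have hexp2 := Cfsg.Agent.S3783.exp_map ρ hρ hexp1
    set H := (G ⧸ Cfsg.pPrimeCore 2 G) ⧸ Cfsg.pCore 2 (G ⧸ Cfsg.pPrimeCore 2 G)
    set π' := QuotientGroup.mk' (Cfsg.pPrimeCore 2 H)
    have hπ' : Function.Surjective π' := QuotientGroup.mk'_surjective _
    have hO' : Cfsg.pPrimeCore 2 (H ⧸ Cfsg.pPrimeCore 2 H) = ⊥ := Cfsg.Lib.Coprime.pPrimeCore_quotient_eq_bot
    have hsol3 := Cfsg.Lib.GaschutzYen.isPSolvable_quotient (p := 2) (Cfsg.pPrimeCore 2 H) hsol2
    have hexp3 := Cfsg.Agent.S3783.exp_map π' hπ' hexp2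
    set ρ' := QuotientGroup.mk' (Cfsg.pCore 2 (H ⧸ Cfsg.pPrimeCore 2 H))
    have hρ' : Function.Surjective ρ' := QuotientGroup.mk'_surjective _
    let b := Module.finBasis (ZMod 2) V
    let ι := AlgebraicClosure (ZMod 2)
    haveI : CharP ι 2 := charP_of_injective_algebraMap (algebraMap (ZMod 2) ι).injective 2
    let Φ : Module.End (ZMod 2) V →+* Module.End ι (Fin (Module.finrank (ZMod 2) V) → ι) :=
      ((Matrix.toLinAlgEquiv' : Matrix _ _ ι ≃ₐ[ι] _).toRingEquiv.toRingHom.comp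
        (algebraMap (ZMod 2) ι).mapMatrix).comp (LinearMap.toMatrixAlgEquiv b).toRingEquiv.toRingHom
    have hΦ : Function.Injective Φ := by
      intro f g e
      exact (LinearMap.toMatrixAlgEquiv b).injective
        (Matrix.map_injective (algebraMap (ZMod 2) ι).injective (Matrix.toLinAlgEquiv'.injective e))
    have hrel : ∀ P : Sylow 2 (H ⧸ Cfsg.pPrimeCore 2 H), ∃ F : Subgroup (H ⧸ Cfsg.pPrimeCore 2 H),
        (P : Subgroup _) ≤ normalizer (F : Set (H ⧸ Cfsg.pPrimeCore 2 H)) ∧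
        (∀ s ∈ (P : Subgroup _), s ^ 2 ^ (k + 1) ∈ F) ∧ ∀ g ∈ (P : Subgroup _), ∀ x ∈ (P : Subgroup _), ∀ e,
          e = g ^ 2 ^ (k + 1 - 1) * (x ^ 2 ^ (k + 1 - 1))⁻¹ → e ^ 2 ∈ F → e ^ 4 = 1 → Commute e (x ^ 2 ^ (k + 1)) := by
      intro P
      obtain ⟨S, rfl⟩ := Sylow.mapSurjective_surjective hπ' 2 P
      have hinj : ∀ a ∈ (S : Subgroup H), π' a = 1 → a = 1 := by
        intro a ha h
        refine Cfsg.Lib.Coprime.eq_one_of_coprime ?_ ha ((QuotientGroup.eq_one_iff a).1 h)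
        obtain ⟨i, hi⟩ := IsPGroup.iff_card.1 S.2
        rw [hi]
        exact (Cfsg.Lib.Components.coprime_card_pPrimeCore (G := H) 2).symm.pow_left _
      have hdegS : ∀ s ∈ (S : Subgroup H), ((Φ.toMonoidHom.comp σ) s - 1) ^ (2 ^ (k + 1 + 1) - 1) = 0 := by
        intro s hs
        obtain ⟨j, -, hj⟩ := (Nat.dvd_prime_pow Nat.prime_two).1 (orderOf_dvd_of_pow_eq_one (hexp2 S s hs))
        show (Φ (σ s) - 1) ^ _ = 0
        rw [← map_one Φ, ← map_sub, ← map_pow, hnorm s ⟨j, hj⟩, map_zero]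
      have hinjρ : Function.Injective (Φ.toMonoidHom.comp σ) := hΦ.comp hσ
      refine ⟨(fixGroup (S : Subgroup H)).map π', ?_, ?_, ?_⟩
      · exact (map_mono (le_normalizer_fixGroup _)).trans (le_normalizer_map π')
      · rintro _ ⟨s, hs, rfl⟩
        rw [← map_pow]
        exact mem_map_of_mem _ (pow_mem_fixGroup _ hinjρ _ (k + 1) (hexp2 S) hdegS hs)
      · rintro _ ⟨g, hg, rfl⟩ _ ⟨x, hx, rfl⟩ e rfl he2 he4
        rw [← map_pow, ← map_pow, ← map_inv, ← map_mul] at he2 he4 ⊢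
        have heS : g ^ 2 ^ (k + 1 - 1) * (x ^ 2 ^ (k + 1 - 1))⁻¹ ∈ (S : Subgroup H) :=
          mul_mem (pow_mem hg _) (inv_mem (pow_mem hx _))
        rw [← map_pow] at he2 he4
        obtain ⟨f, hf, hfe⟩ := he2
        have hfeq : f = (g ^ 2 ^ (k + 1 - 1) * (x ^ 2 ^ (k + 1 - 1))⁻¹) ^ 2 := by
          refine mul_inv_eq_one.1 (hinj _ (mul_mem (fixGroup_le _ hf) (inv_mem (pow_mem heS _))) ?_)
          rw [map_mul, map_inv, hfe, mul_inv_cancel]
        rw [← map_pow]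
        exact (agemo_relation hsol2 Cfsg.Lib.HallHigman.pCore_quotient_pCore _ hinjρ S S.2 (k + 1) (hexp2 S) hdegS
          g x hg hx _ rfl (hfeq ▸ hf) (hinj _ (pow_mem heS _) he4)).map π'
    have h5 := ih (_ ⧸ Cfsg.pCore 2 (H ⧸ Cfsg.pPrimeCore 2 H)) inferInstance
      (Cfsg.Lib.GaschutzYen.isPSolvable_quotient (p := 2) (Cfsg.pCore 2 (H ⧸ Cfsg.pPrimeCore 2 H)) hsol3)
      (fun P x hx => by
        obtain ⟨S, rfl⟩ := Sylow.mapSurjective_surjective hρ' 2 P
        obtain ⟨a, ha, rfl⟩ := hx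
        rw [← map_pow]
        exact (QuotientGroup.eq_one_iff _).2 (pow_mem_pCore (k + 1) (by omega) hsol3 hO' hexp3 hrel S a ha))
    have h1 : Cfsg.PLengthLE 2 0 π.ker := by
      rw [Cfsg.Lib.PLengthSeries.pLengthLE_zero_iff, QuotientGroup.ker_mk']
      exact Cfsg.Lib.Components.coprime_card_pPrimeCore 2
    have h2 : Cfsg.PLengthLE 2 1 ρ.ker := Cfsg.Lib.PLengthSeries.pLengthLE_one_of_isPGroup (by
      rw [QuotientGroup.ker_mk']; exact Cfsg.Lib.Components.isPGroup_pCore 2)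
    have h1' : Cfsg.PLengthLE 2 0 π'.ker := by
      rw [Cfsg.Lib.PLengthSeries.pLengthLE_zero_iff, QuotientGroup.ker_mk']
      exact Cfsg.Lib.Components.coprime_card_pPrimeCore 2
    have h2' : Cfsg.PLengthLE 2 1 ρ'.ker := Cfsg.Lib.PLengthSeries.pLengthLE_one_of_isPGroup (by
      rw [QuotientGroup.ker_mk']; exact Cfsg.Lib.Components.isPGroup_pCore 2)
    have h4 := Cfsg.Lib.PLengthSeries.pLengthLE_extend π h1 (Cfsg.Lib.PLengthSeries.pLengthLE_extend ρ h2
      (Cfsg.Lib.PLengthSeries.pLengthLE_extend π' h1' (Cfsg.Lib.PLengthSeries.pLengthLE_extend ρ' h2' h5)))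
    rw [show 2 * (k + 1) + 1 = 0 + (1 + (0 + (1 + (2 * k + 1)))) by ring]
    exact h4

/-- Gross's bound on the 2-length: if the Sylow 2-subgroups of a finite solvable group have exponent dividing 2^e, e ≥ 1, the 2-length is at most 2e − 1. -/
theorem result {G : Type*} [Group G] [Finite G] (hG : Group.IsSolvable G) (e : ℕ) (he : 1 ≤ e) (hexp : ∀ (P : Sylow 2 G), ∀ x ∈ (P : Subgroup G), x ^ 2 ^ e = 1) : Cfsg.PLengthLE 2 (2 * e - 1) G := by
  haveI : Fact (Nat.Prime 2) := ⟨Nat.prime_two⟩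
  haveI := hG
  obtain ⟨k, rfl⟩ : ∃ k, e = k + 1 := ⟨e - 1, by omega⟩
  rw [show 2 * (k + 1) - 1 = 2 * k + 1 by omega]
  exact main k G hG (Cfsg.Lib.Blocks.isPSolvable_of_solvable (p := 2) hG) hexp

end Cfsg.Agent.S3801
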