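import Cfsg.Statements.S3802
import Cfsg.Agent.SolvStruct.Subnormal

set_option autoImplicit false
open Cfsg

namespace Cfsg.Agent.S3802

/-- Let G be a finite group, M a maximal subgroup of G and N a subnormal subgroup of G contained in M. Then N is contained in every conjugate of M, that is, N lies in the core of M in G. -/
theorem result {G : Type*} [Group G] [Finite G] (M N : Subgroup G) (hM : IsCoatom M) (hN : N.IsSubnormal) (hNM : N ≤ M) :
    N ≤ Subgroup.normalCore M := by
  obtain ⟨S, hNS, hS⟩ := Finite.exists_le_maximal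
    (p := fun S : Subgroup G => S.IsSubnormal ∧ S ≤ M) (a := N) ⟨hN, hNM⟩
  have hinv : ∀ m ∈ M, S.map (MulAut.conj m).toMonoidHom ≤ S := fun m hm => by
    have h1 : (S.map (MulAut.conj m).toMonoidHom).IsSubnormal :=
      hS.prop.1.map (MulAut.conj m).surjective
    have h2 : S.map (MulAut.conj m).toMonoidHom ≤ M := by
      rintro _ ⟨s, hs, rfl⟩
      exact mul_mem (mul_mem hm (hS.prop.2 hs)) (inv_mem hm)
    exact le_sup_right.trans (hS.le_of_ge
      ⟨Cfsg.Lib.SolvStruct.isSubnormal_sup hS.prop.1 h1, sup_le hS.prop.2 h2⟩ le_sup_left)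
  have hMn : M ≤ Subgroup.normalizer (S : Set G) := fun m hm => by
    refine Subgroup.mem_normalizer_iff.mpr fun y => ⟨fun hy => hinv m hm ⟨y, hy, rfl⟩, fun hy => ?_⟩
    have := hinv m⁻¹ (inv_mem hm) ⟨_, hy, rfl⟩
    simpa [mul_assoc] using this
  have hSn : S.Normal := by
    rcases hM.le_iff.mp hMn with h | h
    · exact Subgroup.normalizer_eq_top_iff.mp h
    · rcases Subgroup.IsSubnormal.iff_eq_top_or_exists.mp hS.prop.1 with h' | ⟨K, hK, hKs, hKn⟩
      · exact absurd (top_le_iff.mp (h' ▸ hS.prop.2)) hM.1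
      · rw [Subgroup.normal_subgroupOf_iff_le_normalizer hK.le, h] at hKn
        exact absurd (hS.le_of_ge ⟨hKs, hKn⟩ hK.le) hK.not_ge
  haveI := hSn
  exact hNS.trans (Subgroup.normal_le_normalCore.mpr hS.prop.2)

end Cfsg.Agent.S3802
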