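import Cfsg.Statements.S3803
import Cfsg.Agent.Coprime.OmegaTwo
import Cfsg.Agent.SolvStruct.MinimalNonClosed

set_option autoImplicit false
open Cfsg

namespace Cfsg.Agent.S3803

theorem exists_between {X : Type*} [Group X] [Finite X] {P E : Subgroup X} (hP : IsPGroup 2 P) (hEP : E ≤ P)
    {i j l : ℕ} (hl : Nat.card P = 2 ^ l) (hi : Nat.card E = 2 ^ i) (hij : i ≤ j) (hjl : j ≤ l) :
    ∃ F : Subgroup X, F ≤ P ∧ Nat.card F = 2 ^ j ∧ E ≤ F := by
  haveI : Fact (Nat.Prime 2) := ⟨Nat.prime_two⟩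
  obtain ⟨F, hFc, hF⟩ := Sylow.exists_subgroup_card_pow_prime_le (G := P) 2
    (n := i) (m := j) (hl ▸ pow_dvd_pow 2 hjl) (E.subgroupOf P)
    ((Nat.card_congr (Subgroup.subgroupOfEquivOfLe hEP).toEquiv).trans hi) hij
  exact ⟨F.map P.subtype, Subgroup.map_subtype_le _,
    (Subgroup.card_map_of_injective P.subtype_injective).trans hFc,
    fun e he => ⟨⟨e, hEP he⟩, hF he, rfl⟩⟩

theorem centralizes_of_coatoms {X : Type*} [Group X] [Finite X] {A F : Subgroup X} (hF : IsPGroup 2 F)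
    (hA : Odd (Nat.card A)) (hAF : A ≤ Subgroup.normalizer (F : Set X))
    (hmax : ∀ M : Subgroup F, IsCoatom M → A ≤ Subgroup.normalizer ((M.map F.subtype : Subgroup X) : Set X)) :
    A ≤ Subgroup.centralizer (F : Set X) := by
  haveI : Fact (Nat.Prime 2) := ⟨Nat.prime_two⟩
  refine Cfsg.Lib.Coprime.le_centralizer_of_frattini hAF ?_ fun a ha f hf => ?_
  · exact (Cfsg.Lib.Coprime.coprime_odd_two_group hA hF).coprime_dvd_right (Subgroup.card_subgroup_dvd_card _)
  · have haf : a * f * a⁻¹ ∈ F := (Subgroup.mem_normalizer_iff.1 (hAF ha) f).1 hf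
    refine ⟨⟨a * f * a⁻¹, haf⟩ * (⟨f, hf⟩ : F)⁻¹, ?_, rfl⟩
    unfold frattini Order.radical
    refine Subgroup.mem_iInf.2 fun M => Subgroup.mem_iInf.2 fun hM => ?_
    have hiff : (⟨a * f * a⁻¹, haf⟩ : F) ∈ M ↔ (⟨f, hf⟩ : F) ∈ M := by
      have h := Subgroup.mem_normalizer_iff.1 (hmax M hM ha) f
      constructor
      · intro h1
        obtain ⟨y, hy, hye⟩ := h.2 ⟨_, h1, rfl⟩
        have he : y = (⟨f, hf⟩ : F) := Subtype.ext hye
        rwa [he] at hy
      · intro h1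
        obtain ⟨y, hy, hye⟩ := h.1 ⟨_, h1, rfl⟩
        have he : y = (⟨a * f * a⁻¹, haf⟩ : F) := Subtype.ext hye
        rwa [he] at hy
    rw [Subgroup.mul_mem_iff_of_index_two (Cfsg.Lib.PGroups.coatom_normal_index hF hM).2, Subgroup.inv_mem_iff]
    exact hiff

theorem centralizes_cyclic {X : Type*} [Group X] [Finite X] {A E : Subgroup X} (hE : IsPGroup 2 E)
    (hc : IsCyclic E) (hA : Odd (Nat.card A)) (hAE : A ≤ Subgroup.normalizer (E : Set X)) :
    A ≤ Subgroup.centralizer (E : Set X) := by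
  refine centralizes_of_coatoms hE hA hAE fun M _ a ha => ?_
  refine Cfsg.Lib.MinimalNonClosed.mem_normalizer_of_forall ?_
  rintro _ ⟨y, hy, rfl⟩
  have hconj : a * (y : X) * a⁻¹ ∈ E := (Subgroup.mem_normalizer_iff.1 (hAE ha) _).1 y.2
  refine ⟨⟨_, hconj⟩, ?_, rfl⟩
  haveI := hc
  obtain ⟨m, hm⟩ := MonoidHom.map_cyclic (E.normalizerMonoidHom ⟨a, hAE ha⟩).toMonoidHom
  have hy' : (⟨_, hconj⟩ : E) = y ^ m := hm y
  rw [hy']
  exact M.zpow_mem hy m

/-- Let P be a 2-subgroup and A a subgroup of odd order of a finite group, with A normalizing P. Let D ≤ P with 1 < |D| < |P|. If every subgroup of P of order |D|, and also every subgroup of P of order 4 in case |D| = 2, is normalized by A, then A centralizes P. -/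
theorem result {X : Type*} [Group X] [Finite X] (P A D : Subgroup X) (hP : IsPGroup 2 P) (hA : Odd (Nat.card A))
    (hAP : A ≤ Subgroup.normalizer (P : Set X)) (hDP : D ≤ P) (hD1 : 1 < Nat.card D) (hD2 : Nat.card D < Nat.card P)
    (hinv : ∀ E : Subgroup X, E ≤ P → (Nat.card E = Nat.card D ∨ (Nat.card D = 2 ∧ Nat.card E = 4)) → A ≤ Subgroup.normalizer (E : Set X)) :
    A ≤ Subgroup.centralizer (P : Set X) := by
  haveI : Fact (Nat.Prime 2) := ⟨Nat.prime_two⟩
  obtain ⟨k, hk⟩ := IsPGroup.iff_card.1 (hP.to_le hDP)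
  obtain ⟨l, hl⟩ := IsPGroup.iff_card.1 hP
  have hk1 : 1 ≤ k := Nat.one_le_iff_ne_zero.2 fun h => by rw [h, pow_zero] at hk; omega
  have hkl : k < l := by rw [hk, hl] at hD2; exact (Nat.pow_lt_pow_iff_right (by norm_num)).1 hD2
  refine Cfsg.Lib.Coprime.le_centralizer_of_fix_four hP hA hAP fun x hxP hx4 a ha => ?_
  have hx : Subgroup.zpowers x ≤ P := Subgroup.zpowers_le.2 hxP
  obtain ⟨i, hi, hxo⟩ := (Nat.dvd_prime_pow Nat.prime_two).1
    (orderOf_dvd_of_pow_eq_one (show x ^ (2 ^ 2) = 1 from hx4))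
  have hzc : Nat.card (Subgroup.zpowers x) = 2 ^ i := (Nat.card_zpowers x).trans hxo
  suffices ∃ E : Subgroup X, x ∈ E ∧ A ≤ Subgroup.centralizer (E : Set X) by
    obtain ⟨E, hxE, hE⟩ := this
    exact (Subgroup.mem_centralizer_iff.1 (hE ha) x hxE).symm
  by_cases hik : i ≤ k
  · -- inside a subgroup of the given order
    obtain ⟨E, hEP, hEc, hxE⟩ : ∃ E : Subgroup X, E ≤ P ∧ Nat.card E = 2 ^ k ∧ Subgroup.zpowers x ≤ E :=
      exists_between hP hx hl hzc hik hkl.le
    refine ⟨E, hxE (Subgroup.mem_zpowers x), ?_⟩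
    have hEinv := hinv E hEP (Or.inl (by rw [hEc, hk]))
    by_cases hEcyc : IsCyclic E
    · exact centralizes_cyclic (hP.to_le hEP) hEcyc hA hEinv
    obtain ⟨F, hFP, hFc, hEF⟩ : ∃ F : Subgroup X, F ≤ P ∧ Nat.card F = 2 ^ (k + 1) ∧ E ≤ F :=
      exists_between hP hEP hl hEc (Nat.le_succ k) hkl
    have hFcyc : ¬ IsCyclic F := fun h => hEcyc
      (isCyclic_of_injective (Subgroup.inclusion hEF) (Subgroup.inclusion_injective hEF))
    have hmax : ∀ M : Subgroup F, IsCoatom M → A ≤ Subgroup.normalizer ((M.map F.subtype : Subgroup X) : Set X) := by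
      intro M hM
      refine hinv _ ((Subgroup.map_subtype_le _).trans hFP) (Or.inl ?_)
      rw [Subgroup.card_map_of_injective F.subtype_injective, hk]
      have h1 := M.card_mul_index
      rw [(Cfsg.Lib.PGroups.coatom_normal_index (hP.to_le hFP) hM).2, hFc, pow_succ] at h1
      exact Nat.eq_of_mul_eq_mul_right (by norm_num) h1
    have hFinv : A ≤ Subgroup.normalizer (F : Set X) := by
      intro b hb
      refine Cfsg.Lib.MinimalNonClosed.mem_normalizer_of_forall fun f hf => ?_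
      obtain ⟨M, hM, hfM⟩ : ∃ M : Subgroup F, IsCoatom M ∧ (⟨f, hf⟩ : F) ∈ M := by
        rcases eq_top_or_exists_le_coatom (Subgroup.zpowers (⟨f, hf⟩ : F)) with h | ⟨M, hM, hle⟩
        · exact absurd ⟨⟨⟨f, hf⟩, fun y => (h ▸ Subgroup.mem_top y :)⟩⟩ hFcyc
        · exact ⟨M, hM, hle (Subgroup.mem_zpowers _)⟩
      exact Subgroup.map_subtype_le M ((Subgroup.mem_normalizer_iff.1 (hmax M hM hb) f).1 ⟨_, hfM, rfl⟩)
    exact (centralizes_of_coatoms (hP.to_le hFP) hA hFinv hmax).trans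
      (Subgroup.centralizer_le (SetLike.coe_subset_coe.2 hEF))
  · -- an element of order four, subgroups of order two given
    have hk' : k = 1 := by omega
    have hi' : i = 2 := by omega
    refine ⟨Subgroup.zpowers x, Subgroup.mem_zpowers x, centralizes_cyclic (hP.to_le hx) inferInstance hA
      (hinv _ hx (Or.inr ⟨by rw [hk, hk']; rfl, by rw [hzc, hi']; rfl⟩))⟩

end Cfsg.Agent.S3803
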