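import Cfsg.Statements.S3804
import Cfsg.Agent.SolvStruct.Products

set_option autoImplicit false
open Cfsg

namespace Cfsg.Agent.S3804

open scoped Pointwise

/-- Let G and H be subgroups of a finite group with G normalizing H, fix a real number α > 0, and for a subgroup A of G put m(A) = |A|^α · |C_H(A)|. Let A and B be nontrivial subgroups of G at which m attains its maximum over all nontrivial subgroups of G, and assume that A ∩ B ≠ 1 or that this maximum is at least |H|. Then AB = BA is a subgroup at which m is again maximal, C_H(A ∩ B) = C_H(A) C_H(B), and if A ∩ B ≠ 1 then m is maximal at A ∩ B as well. -/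
theorem result {X : Type*} [Group X] [Finite X] (G H : Subgroup X) (hGH : G ≤ Subgroup.normalizer (H : Set X)) (α : ℝ) (hα : 0 < α)
    (A B : Subgroup X) (hA : A ≤ G) (hB : B ≤ G) (hA1 : A ≠ ⊥) (hB1 : B ≠ ⊥)
    (hAmax : ∀ A' : Subgroup X, A' ≤ G → A' ≠ ⊥ → (fun A : Subgroup X => ((Nat.card A : ℝ) ^ α) * (Nat.card ↥(H ⊓ Subgroup.centralizer (A : Set X)) : ℝ)) A' ≤ (fun A : Subgroup X => ((Nat.card A : ℝ) ^ α) * (Nat.card ↥(H ⊓ Subgroup.centralizer (A : Set X)) : ℝ)) A)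
    (hBmax : ∀ A' : Subgroup X, A' ≤ G → A' ≠ ⊥ → (fun A : Subgroup X => ((Nat.card A : ℝ) ^ α) * (Nat.card ↥(H ⊓ Subgroup.centralizer (A : Set X)) : ℝ)) A' ≤ (fun A : Subgroup X => ((Nat.card A : ℝ) ^ α) * (Nat.card ↥(H ⊓ Subgroup.centralizer (A : Set X)) : ℝ)) B)
    (hcase : A ⊓ B ≠ ⊥ ∨ (Nat.card H : ℝ) ≤ (fun A : Subgroup X => ((Nat.card A : ℝ) ^ α) * (Nat.card ↥(H ⊓ Subgroup.centralizer (A : Set X)) : ℝ)) A) :
    (∀ a ∈ A, ∀ b ∈ B, ∃ b' ∈ B, ∃ a' ∈ A, a * b = b' * a') ∧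
    (∀ A' : Subgroup X, A' ≤ G → A' ≠ ⊥ → (fun A : Subgroup X => ((Nat.card A : ℝ) ^ α) * (Nat.card ↥(H ⊓ Subgroup.centralizer (A : Set X)) : ℝ)) A' ≤ (fun A : Subgroup X => ((Nat.card A : ℝ) ^ α) * (Nat.card ↥(H ⊓ Subgroup.centralizer (A : Set X)) : ℝ)) (A ⊔ B)) ∧
    (∀ h ∈ H ⊓ Subgroup.centralizer ((A ⊓ B : Subgroup X) : Set X), ∃ u ∈ H ⊓ Subgroup.centralizer (A : Set X), ∃ v ∈ H ⊓ Subgroup.centralizer (B : Set X), h = u * v) ∧
    (A ⊓ B ≠ ⊥ → ∀ A' : Subgroup X, A' ≤ G → A' ≠ ⊥ → (fun A : Subgroup X => ((Nat.card A : ℝ) ^ α) * (Nat.card ↥(H ⊓ Subgroup.centralizer (A : Set X)) : ℝ)) A' ≤ (fun A : Subgroup X => ((Nat.card A : ℝ) ^ α) * (Nat.card ↥(H ⊓ Subgroup.centralizer (A : Set X)) : ℝ)) (A ⊓ B)) := by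
  classical
  set f : Subgroup X → Subgroup X := fun A => H ⊓ Subgroup.centralizer (A : Set X) with hf
  set a : ℝ := (Nat.card A : ℝ)
  set b : ℝ := (Nat.card B : ℝ)
  set d : ℝ := (Nat.card (A ⊓ B : Subgroup X) : ℝ)
  set j : ℝ := (Nat.card (A ⊔ B : Subgroup X) : ℝ)
  set cA : ℝ := (Nat.card (f A) : ℝ)
  set cB : ℝ := (Nat.card (f B) : ℝ)
  set cd : ℝ := (Nat.card (f (A ⊓ B)) : ℝ)
  set cj : ℝ := (Nat.card (f (A ⊔ B)) : ℝ)
  have hpos : ∀ K : Subgroup X, (0 : ℝ) < Nat.card K := fun K => Nat.cast_pos.mpr Nat.card_pos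
  have hM : b ^ α * cB = a ^ α * cA := le_antisymm (hAmax B hB hB1) (hBmax A hA hA1)
  have hsub : ((A : Set X) * (B : Set X)) ⊆ ((A ⊔ B : Subgroup X) : Set X) := by
    rintro _ ⟨u, hu, v, hv, rfl⟩
    exact Subgroup.mul_mem_sup hu hv
  have hfj : f (A ⊔ B) = f A ⊓ f B := by
    refine le_antisymm (le_inf (inf_le_inf_left H (Subgroup.centralizer_le (SetLike.coe_subset_coe.mpr le_sup_left)))
      (inf_le_inf_left H (Subgroup.centralizer_le (SetLike.coe_subset_coe.mpr le_sup_right)))) ?_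
    rintro h ⟨⟨hh, hhA⟩, -, hhB⟩
    refine ⟨hh, ?_⟩
    have : A ⊔ B ≤ Subgroup.centralizer ({h} : Set X) := sup_le
      (fun u hu => Subgroup.mem_centralizer_singleton_iff.mpr (Subgroup.mem_centralizer_iff.mp hhA u hu))
      (fun u hu => Subgroup.mem_centralizer_singleton_iff.mpr (Subgroup.mem_centralizer_iff.mp hhB u hu))
    exact Subgroup.mem_centralizer_iff.mpr fun u hu => Subgroup.mem_centralizer_singleton_iff.mp (this hu)
  have hsubC : ((f A : Set X) * (f B : Set X)) ⊆ (f (A ⊓ B) : Set X) := by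
    rintro _ ⟨u, hu, v, hv, rfl⟩
    exact Subgroup.mul_mem _ (inf_le_inf_left H (Subgroup.centralizer_le (SetLike.coe_subset_coe.mpr inf_le_left)) hu)
      (inf_le_inf_left H (Subgroup.centralizer_le (SetLike.coe_subset_coe.mpr inf_le_right)) hv)
  have e1 : ((Nat.card ↥((A : Set X) * (B : Set X)) : ℕ) : ℝ) * d = a * b := by
    simp only [a, b, d, ← Nat.cast_mul, Cfsg.Lib.SolvStruct.card_setMul_mul_card_inf]
  have e2 : ((Nat.card ↥((f A : Set X) * (f B : Set X)) : ℕ) : ℝ) * cj = cA * cB := by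
    simp only [cA, cB, cj, hfj, ← Nat.cast_mul, Cfsg.Lib.SolvStruct.card_setMul_mul_card_inf]
  have l1 : a * b ≤ j * d := e1 ▸ mul_le_mul_of_nonneg_right
    (Nat.cast_le.mpr (Nat.card_mono (Set.toFinite _) hsub)) (hpos _).le
  have l2 : cA * cB ≤ cd * cj := e2 ▸ mul_le_mul_of_nonneg_right
    (Nat.cast_le.mpr (Nat.card_mono (Set.toFinite _) hsubC)) (hpos _).le
  have hj : j ^ α * cj ≤ a ^ α * cA := hAmax _ (sup_le hA hB) (fun e => hA1 (eq_bot_iff.mpr (e ▸ le_sup_left)))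
  have hd : d ^ α * cd ≤ a ^ α * cA := by
    by_cases h0 : A ⊓ B = ⊥
    · have h1 : d = 1 := by simp [d, h0]
      have h2 : cd ≤ (Nat.card H : ℝ) := Nat.cast_le.mpr (Subgroup.card_le_of_le inf_le_left)
      rw [h1, Real.one_rpow, one_mul]
      exact h2.trans (hcase.resolve_left (fun h => h h0))
    · exact hAmax _ (inf_le_left.trans hA) h0
  have pa : 0 < a ^ α * cA := mul_pos (Real.rpow_pos_of_pos (hpos _) α) (hpos _)
  have pd : 0 < d ^ α * cd := mul_pos (Real.rpow_pos_of_pos (hpos _) α) (hpos _)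
  have pj : 0 < j ^ α * cj := mul_pos (Real.rpow_pos_of_pos (hpos _) α) (hpos _)
  have hprod : (a ^ α * cA) * (a ^ α * cA) ≤ (j ^ α * cj) * (d ^ α * cd) := by
    nth_rewrite 2 [← hM]
    calc a ^ α * cA * (b ^ α * cB) = (a * b) ^ α * (cA * cB) := by
          rw [Real.mul_rpow (hpos _).le (hpos _).le]; ring
      _ ≤ (j * d) ^ α * (cd * cj) := by
          refine mul_le_mul (Real.rpow_le_rpow (mul_pos (hpos _) (hpos _)).le l1 hα.le) l2
            (mul_pos (hpos _) (hpos _)).le (Real.rpow_nonneg (mul_pos (hpos _) (hpos _)).le α)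
      _ = _ := by rw [Real.mul_rpow (hpos _).le (hpos _).le]; ring
  have hjeq : j ^ α * cj = a ^ α * cA := by
    refine le_antisymm hj ?_
    by_contra hlt
    nlinarith [mul_lt_mul_of_pos_right (not_le.mp hlt) pd, mul_le_mul_of_nonneg_left hd pa.le]
  have hdeq : d ^ α * cd = a ^ α * cA := by
    refine le_antisymm hd ?_
    by_contra hlt
    nlinarith [mul_lt_mul_of_pos_left (not_le.mp hlt) pj]
  have heq : (a * b) ^ α * (cA * cB) = (j * d) ^ α * (cd * cj) := by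
    rw [Real.mul_rpow (hpos _).le (hpos _).le, Real.mul_rpow (hpos _).le (hpos _).le]
    calc a ^ α * b ^ α * (cA * cB) = (a ^ α * cA) * (b ^ α * cB) := by ring
      _ = (j ^ α * cj) * (d ^ α * cd) := by rw [hjeq, hdeq, hM]
      _ = _ := by ring
  have hab : a * b = j * d := by
    refine le_antisymm l1 (le_of_not_gt fun hlt => ?_)
    have h1 := Real.rpow_lt_rpow (mul_pos (hpos A) (hpos B)).le hlt hα
    have h2 := mul_lt_mul_of_lt_of_le_of_nonneg_of_pos h1 l2 (Real.rpow_nonneg (mul_pos (hpos A) (hpos B)).le α)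
      (mul_pos (hpos _) (hpos _))
    exact h2.ne heq
  have hcc : cA * cB = cd * cj := by
    rw [← hab] at heq
    exact mul_left_cancel₀ (Real.rpow_pos_of_pos (mul_pos (hpos _) (hpos _)) α).ne' heq
  have hset : ((A : Set X) * (B : Set X)) = ((A ⊔ B : Subgroup X) : Set X) := by
    have hc : Nat.card ↥((A : Set X) * (B : Set X)) = Nat.card ↥(A ⊔ B) :=
      Nat.cast_injective (mul_right_cancel₀ (hpos _).ne' (e1.trans hab))
    refine Set.eq_of_subset_of_ncard_le hsub (le_of_eq ?_) (Set.toFinite _)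
    rw [← Nat.card_coe_set_eq, ← Nat.card_coe_set_eq, hc]; rfl
  have hsetC : ((f A : Set X) * (f B : Set X)) = (f (A ⊓ B) : Set X) := by
    have hc : Nat.card ↥((f A : Set X) * (f B : Set X)) = Nat.card ↥(f (A ⊓ B)) :=
      Nat.cast_injective (mul_right_cancel₀ (hpos _).ne' (e2.trans hcc))
    refine Set.eq_of_subset_of_ncard_le hsubC (le_of_eq ?_) (Set.toFinite _)
    rw [← Nat.card_coe_set_eq, ← Nat.card_coe_set_eq, hc]; rfl
  refine ⟨fun u hu v hv => ?_, fun A' h1 h2 => (hAmax A' h1 h2).trans hjeq.ge, fun h hh => ?_,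
    fun _ A' h1 h2 => (hAmax A' h1 h2).trans hdeq.ge⟩
  · have h1 : (u * v)⁻¹ ∈ (A : Set X) * (B : Set X) := by
      rw [hset]; exact Subgroup.inv_mem _ (Subgroup.mul_mem_sup hu hv)
    obtain ⟨a', ha', b', hb', e⟩ := Set.mem_mul.mp h1
    refine ⟨b'⁻¹, B.inv_mem hb', a'⁻¹, A.inv_mem ha', ?_⟩
    rw [← mul_inv_rev, e, inv_inv]
  · have h1 : h ∈ (f A : Set X) * (f B : Set X) := by rw [hsetC]; exact hh
    obtain ⟨u, hu, v, hv, e⟩ := Set.mem_mul.mp h1
    exact ⟨u, hu, v, hv, e.symm⟩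

end Cfsg.Agent.S3804
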