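import Cfsg.Statements.S3806
import Mathlib
import Cfsg.Prelude
import Cfsg.Agent.PGroups.MaxClass
import Cfsg.Agent.HallHigman.Drop

set_option autoImplicit false
open Cfsg

namespace Cfsg.Agent.S3806

open Subgroup
open scoped commutatorElement

universe u

variable {p : ℕ} [hp : Fact p.Prime]

theorem commutator_lcs_le {X : Type u} [Group X] : ∀ (j i : ℕ),
    ⁅(⊤ : Subgroup X).lowerCentralSeries i, (⊤ : Subgroup X).lowerCentralSeries j⁆ ≤
      (⊤ : Subgroup X).lowerCentralSeries (i + j + 1) := by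
  intro j
  induction j with
  | zero => intro i; rw [Subgroup.lowerCentralSeries_zero, add_zero, Subgroup.lowerCentralSeries_succ]
  | succ j ih =>
    intro i
    set π := QuotientGroup.mk' ((⊤ : Subgroup X).lowerCentralSeries (i + (j + 1) + 1))
    have hπ : ∀ A : Subgroup X, A ≤ (⊤ : Subgroup X).lowerCentralSeries (i + (j + 1) + 1) → A.map π = ⊥ := fun A hA => by
      rw [Subgroup.map_eq_bot_iff, QuotientGroup.ker_mk']; exact hA
    suffices h : (⁅(⊤ : Subgroup X).lowerCentralSeries i, (⊤ : Subgroup X).lowerCentralSeries (j + 1)⁆).map π = ⊥ by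
      rwa [Subgroup.map_eq_bot_iff, QuotientGroup.ker_mk'] at h
    rw [commutator_comm, Subgroup.lowerCentralSeries_succ _ j, map_commutator, map_commutator]
    refine commutator_commutator_eq_bot_of_rotate ?_ ?_
    · rw [← map_commutator, ← map_commutator]
      refine hπ _ ?_
      rw [commutator_comm ⊤, ← Subgroup.lowerCentralSeries_succ]
      exact (ih (i + 1)).trans (le_of_eq (by congr 1; omega))
    · rw [← map_commutator, ← map_commutator]
      refine hπ _ ((commutator_mono (ih i) le_rfl).trans (le_of_eq ?_))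
      rw [← Subgroup.lowerCentralSeries_succ]
      congr 1

theorem poly_norm (n : ℕ) : ∑ i ∈ Finset.range n, ((Polynomial.X : Polynomial ℤ) + 1) ^ i =
    ∑ l ∈ Finset.range n, (n.choose (l + 1)) • (Polynomial.X : Polynomial ℤ) ^ l := by
  refine mul_right_cancel₀ Polynomial.X_ne_zero ?_
  have h1 := geom_sum_mul ((Polynomial.X : Polynomial ℤ) + 1) n
  rw [add_sub_cancel_right] at h1
  rw [h1, sub_eq_iff_eq_add, add_pow, Finset.sum_range_succ', Finset.sum_mul]
  simp only [one_pow, mul_one, pow_zero, Nat.choose_zero_right, Nat.cast_one, nsmul_eq_mul]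
  exact congrArg (· + (1 : Polynomial ℤ)) (Finset.sum_congr rfl fun l _ => by ring)

theorem norm_apply {M : Type u} [AddCommGroup M] (σ : AddMonoid.End M) (n : ℕ) (X : M) :
    ∑ i ∈ Finset.range n, (σ ^ i) X = ∑ l ∈ Finset.range n, (n.choose (l + 1)) • ((σ - 1) ^ l) X := by
  have h2 := congrArg (Polynomial.eval₂ (Int.castRingHom (AddMonoid.End M)) (σ - 1)) (poly_norm n)
  simp only [Polynomial.eval₂_finsetSum] at h2
  have hL : ∀ i : ℕ, Polynomial.eval₂ (Int.castRingHom (AddMonoid.End M)) (σ - 1) ((Polynomial.X + 1) ^ i) = σ ^ i := by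
    intro i
    induction i with
    | zero => simp
    | succ i ih =>
      rw [pow_succ, pow_succ, Polynomial.eval₂_mul_noncomm _ _ (fun _ => Int.cast_commute _ _), ih, Polynomial.eval₂_add,
        Polynomial.eval₂_X, Polynomial.eval₂_one, sub_add_cancel]
  have hR : ∀ c l : ℕ, Polynomial.eval₂ (Int.castRingHom (AddMonoid.End M)) (σ - 1) (c • (Polynomial.X : Polynomial ℤ) ^ l) =
      c • (σ - 1) ^ l := by
    intro c l
    induction c with
    | zero => simp
    | succ c ihc => rw [succ_nsmul, succ_nsmul, Polynomial.eval₂_add, ihc, Polynomial.eval₂_X_pow]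
  simp only [hL, hR] at h2
  have h3 := congrArg (fun f => (AddMonoid.End.instFunLike M).coe f X) h2
  exact (map_sum (AddMonoidHom.eval X) (fun i => (σ ^ i : AddMonoid.End M)) _).symm.trans
    (h3.trans ((map_sum (AddMonoidHom.eval X) _ _).trans (Finset.sum_congr rfl fun l _ => map_nsmul (AddMonoidHom.eval X) _ _)))

set_option maxHeartbeats 1000000 in
theorem section_elementary {S : Type u} [Group S] [Finite S] [Group.IsNilpotent S] {n : ℕ} (hcard : Nat.card S = p ^ n)
    (hn : 2 ≤ n) (hmax : Group.nilpotencyClass S = n - 1) (k : ℕ) (hk : 1 ≤ k) (hnk : 2 * k + 1 ≤ n) (hpk : k + 2 ≤ p) :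
    ∃ (H : Subgroup S) (N : Subgroup H) (_ : N.Normal), True ∧ (∀ x y : H, (x * y)⁻¹ * (y * x) ∈ N) ∧ (∀ x : H, x ^ p ∈ N) ∧
      Nat.card (H ⧸ N) = p ^ (k + 1) := by
  classical
  have hP : IsPGroup p S := IsPGroup.of_card hcard
  set L := fun m => (⊤ : Subgroup S).lowerCentralSeries m with hL
  haveI hLn : ∀ m, (L m).Normal := fun m => inferInstance
  have hanti : ∀ {a b : ℕ}, a ≤ b → L b ≤ L a := fun h => Subgroup.lowerCentralSeries_antitone _ h
  have hLsucc : ∀ m, L (m + 1) = ⁅L m, ⊤⁆ := fun m => Subgroup.lowerCentralSeries_succ _ _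
  have hL1c : L 1 = commutator S := top_lowerCentralSeries_one
  have hpowc : ∀ g : S, g ^ p ∈ L 1 := fun g => by
    rw [hL1c, ← Cfsg.Lib.MaxClass.frattini_eq_commutator n S hcard (by omega) hmax]
    exact Cfsg.Lib.PGroups.pow_mem_frattini hP g
  have hL1 : (L 1).index = p ^ 2 := hL1c ▸ Cfsg.Lib.MaxClass.commutator_index n S hcard hn hmax
  rcases Nat.lt_or_ge k 2 with hk2 | hk2
  · obtain rfl : k = 1 := by omega
    refine ⟨⊤, (L 1).subgroupOf ⊤, inferInstance, trivial, fun x y => ?_, fun x => hpowc _, ?_⟩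
    · have h1 : ⁅((y : S))⁻¹, ((x : S))⁻¹⁆ ∈ L 1 := by rw [hLsucc]; exact commutator_mem_commutator (mem_top _) (mem_top _)
      rw [mem_subgroupOf]
      simpa [commutatorElement_def, mul_assoc] using h1
    · rw [← index_eq_card, ← relIndex, relIndex_top_right, hL1]
  -- strictness and indices
  have hbot : L (n - 1) = ⊥ := by rw [hL]; simp only; rw [← hmax]; exact Subgroup.lowerCentralSeries_nilpotencyClass
  have hstrict : ∀ m, m + 1 ≤ n - 1 → ¬ L m ≤ L (m + 1) := by
    intro m hm hle
    have hall : ∀ i, L m ≤ L (m + i) := by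
      intro i
      induction i with
      | zero => exact le_rfl
      | succ i ih =>
        refine hle.trans ?_
        rw [← add_assoc, hLsucc, hLsucc]
        exact commutator_mono ih le_rfl
    have h1 := hall (n - 1 - m)
    rw [Nat.add_sub_cancel' (by omega), hbot, le_bot_iff] at h1
    have := Subgroup.lowerCentralSeries_eq_bot_iff_nilpotencyClass_le.1 h1
    omega
  have hidx : ∀ m, 1 ≤ m → m ≤ n - 1 → (L m).index = p ^ (m + 1) := by
    have hlo : ∀ m, 1 ≤ m → m ≤ n - 1 → ∃ r, (L m).index = p ^ r ∧ m + 1 ≤ r := by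
      intro m
      induction m with
      | zero => intro h; omega
      | succ m ih =>
        intro _ hm
        rcases Nat.eq_zero_or_pos m with rfl | hm0
        · exact ⟨2, hL1, le_rfl⟩
        obtain ⟨r, hr, hr'⟩ := ih hm0 (by omega)
        obtain ⟨r2, hr2⟩ := hP.index (L (m + 1))
        refine ⟨r2, hr2, ?_⟩
        have h1 := (L (m + 1)).index
        have h2 : (L m).index < (L (m + 1)).index := by
          refine index_strictAnti (lt_of_le_of_ne (hanti (Nat.le_succ m)) fun e => hstrict m hm e.ge)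
        rw [hr, hr2] at h2
        have := (Nat.pow_lt_pow_iff_right hp.out.one_lt).1 h2
        omega
    have hhi : ∀ i, ∀ m, 1 ≤ m → m + i = n - 1 → (L m).index ≤ p ^ (m + 1) := by
      intro i
      induction i with
      | zero => intro m _ hm; rw [add_zero] at hm; rw [hm, hbot, index_bot, hcard]; exact Nat.pow_le_pow_right hp.out.pos (by omega)
      | succ i ih =>
        intro m hm hmi
        have h1 := ih (m + 1) (by omega) (by omega)
        have h2 : (L m).index < (L (m + 1)).index := by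
          refine index_strictAnti (lt_of_le_of_ne (hanti (Nat.le_succ m)) fun e => hstrict m (by omega) e.ge)
        obtain ⟨r, hr, -⟩ := hlo m hm (by omega)
        rw [hr] at h2 ⊢
        have := (Nat.pow_lt_pow_iff_right hp.out.one_lt).1 (h2.trans_le h1)
        exact Nat.pow_le_pow_right hp.out.pos (by omega)
    intro m hm hm'
    obtain ⟨r, hr, hr'⟩ := hlo m hm hm'
    have h1 := hhi (n - 1 - m) m hm (by omega)
    rw [hr] at h1 ⊢
    rw [le_antisymm ((Nat.pow_le_pow_iff_right hp.out.one_lt).1 h1) hr']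
  have hrel : ∀ m, 1 ≤ m → m + 1 ≤ n - 1 → (L (m + 1)).relIndex (L m) = p := by
    intro m hm hm'
    have h1 := relIndex_mul_index (hanti (Nat.le_succ m))
    rw [hidx m hm (by omega), hidx (m + 1) (by omega) hm', pow_succ p (m + 1), mul_comm] at h1
    exact Nat.eq_of_mul_eq_mul_left (pow_pos hp.out.pos _) h1
  have hcyc : ∀ m, 1 ≤ m → m + 1 ≤ n - 1 → ∀ a ∈ L m, a ∉ L (m + 1) → zpowers a ⊔ L (m + 1) = L m := by
    intro m hm hm' a ha ha'
    have hXle : zpowers a ⊔ L (m + 1) ≤ L m := sup_le (zpowers_le.2 ha) (hanti (Nat.le_succ m))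
    have h1 := relIndex_mul_relIndex (L (m + 1)) (zpowers a ⊔ L (m + 1)) (L m) le_sup_right hXle
    rw [hrel m hm hm'] at h1
    rcases (Nat.dvd_prime hp.out).1 ⟨_, h1.symm⟩ with e | e
    · exact absurd (relIndex_eq_one.1 e ((le_sup_left : zpowers a ≤ _) (mem_zpowers a))) ha'
    · rw [e] at h1
      exact le_antisymm hXle (relIndex_eq_one.1 ((Nat.mul_eq_left hp.out.ne_zero).1 h1))
  -- two-step centralizers
  let C : ℕ → Subgroup S := fun i =>
    (centralizer (((L i).map (QuotientGroup.mk' (L (i + 2))) : Subgroup _) : Set (S ⧸ L (i + 2)))).comap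
      (QuotientGroup.mk' (L (i + 2)))
  have hmC : ∀ i g, g ∈ C i ↔ ∀ w ∈ L i, ⁅g, w⁆ ∈ L (i + 2) := by
    intro i g
    simp only [C, mem_comap, mem_centralizer_iff]
    constructor
    · intro h w hw
      rw [← QuotientGroup.eq_one_iff]
      show QuotientGroup.mk' (L (i + 2)) ⁅g, w⁆ = 1
      rw [map_commutatorElement, commutatorElement_eq_one_iff_mul_comm]
      exact (h _ ⟨w, hw, rfl⟩).symm
    · rintro h _ ⟨w, hw, rfl⟩
      have h1 := (QuotientGroup.eq_one_iff _).2 (h w hw)
      change QuotientGroup.mk' (L (i + 2)) ⁅g, w⁆ = 1 at h1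
      rw [map_commutatorElement, commutatorElement_eq_one_iff_mul_comm] at h1
      exact h1.symm
  have hL1C : ∀ i, L 1 ≤ C i := fun i g hg => (hmC i g).2 fun w hw =>
    hanti (by omega) (commutator_lcs_le i 1 (commutator_mem_commutator hg hw))
  have hCne : ∀ i, i + 2 ≤ n - 1 → C i ≠ ⊤ := by
    intro i hi e
    refine hstrict (i + 1) (by omega) ?_
    rw [hLsucc i, commutator_comm]
    exact commutator_le.2 fun g _ w hw => (hmC i g).1 (e.ge (mem_top g)) w hw
  have hcardC : ∀ T : Subgroup S, T ≠ ⊤ → Nat.card T ≤ p ^ (n - 1) := by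
    intro T hT
    obtain ⟨r, hr⟩ := IsPGroup.iff_card.1 (hP.to_subgroup T)
    rw [hr]
    refine Nat.pow_le_pow_right hp.out.pos ?_
    by_contra hh
    have h1 := T.card_dvd_of_le le_top
    have h2 : r ≤ n := by
      rw [card_top, hr, hcard] at h1
      exact (Nat.pow_dvd_pow_iff_le_right hp.out.one_lt).1 h1
    exact hT (card_eq_iff_eq_top T |>.1 (by rw [hr, hcard, show r = n by omega]))
  have hcover : ∀ (T : Subgroup S), T ≠ ⊤ → ∃ g, g ∉ T ∧ ∀ i, 1 ≤ i → i ≤ k → g ∉ C i := by
    intro T hT
    by_contra hh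
    push Not at hh
    haveI := Fintype.ofFinite S
    have h1 : (Finset.univ : Finset S) ⊆ (T : Set S).toFinset ∪ (Finset.Icc 1 k).biUnion fun i => (C i : Set S).toFinset := by
      intro g _
      by_cases hg : g ∈ T
      · exact Finset.mem_union_left _ (by simpa using hg)
      · obtain ⟨i, h1, h2, h3⟩ := hh g hg
        exact Finset.mem_union_right _ (Finset.mem_biUnion.2 ⟨i, Finset.mem_Icc.2 ⟨h1, h2⟩, by simpa using h3⟩)
    have hc : ∀ U : Subgroup S, U ≠ ⊤ → (U : Set S).toFinset.card ≤ p ^ (n - 1) := fun U hU => by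
      rw [Set.toFinset_card, ← Nat.card_eq_fintype_card]; exact hcardC U hU
    have h2 := (Finset.card_le_card h1).trans ((Finset.card_union_le _ _).trans
      (Nat.add_le_add (hc T hT) (Finset.card_biUnion_le.trans (Finset.sum_le_card_nsmul _ _ (p ^ (n - 1))
        fun i hi => hc _ (hCne i (by have := (Finset.mem_Icc.1 hi).2; omega))))))
    rw [Finset.card_univ, ← Nat.card_eq_fintype_card, hcard, Nat.card_Icc, smul_eq_mul,
      show n = (n - 1) + 1 by omega, pow_succ, show n - 1 + 1 - 1 = n - 1 by omega] at h2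
    have h3 : (k + 1) * p ^ (n - 1) < p ^ (n - 1) * p := by
      rw [mul_comm]; exact Nat.mul_lt_mul_of_pos_left (by omega) (pow_pos hp.out.pos _)
    rw [show k + 1 - 1 = k by omega] at h2
    nlinarith
  have hL1top : L 1 ≠ ⊤ := fun e => by
    rw [e, index_top] at hL1; exact (Nat.one_lt_pow (by norm_num) hp.out.one_lt).ne hL1
  obtain ⟨s, hs1, hsC⟩ := hcover (L 1) hL1top
  set U := zpowers s ⊔ L 1
  have hUidx : U.index ∣ p ∧ ∀ t, t ∉ U → zpowers t ⊔ U = ⊤ := by
    have h1 := relIndex_mul_index (le_sup_right : L 1 ≤ U)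
    rw [hL1] at h1
    have hr : (L 1).relIndex U ≠ 1 := fun e => hs1 (relIndex_eq_one.1 e ((le_sup_left : zpowers s ≤ U) (mem_zpowers s)))
    obtain ⟨a, ha, ha'⟩ := (Nat.dvd_prime_pow hp.out).1 ⟨_, h1.symm⟩
    have ha0 : a ≠ 0 := fun e => hr (by rw [ha', e, pow_zero])
    have hU : U.index ∣ p := by
      rw [ha'] at h1
      obtain ⟨b, hb, hb'⟩ := (Nat.dvd_prime_pow hp.out).1 (Dvd.intro_left _ h1)
      rw [hb', ← pow_add] at h1
      have := Nat.pow_right_injective hp.out.two_le h1
      rw [hb']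
      exact Nat.dvd_trans (Nat.pow_dvd_pow p (show b ≤ 1 by omega)) (by rw [pow_one])
    refine ⟨hU, fun t ht => ?_⟩
    have h2 := relIndex_mul_index (le_sup_right : U ≤ zpowers t ⊔ U)
    rcases (Nat.dvd_prime hp.out).1 hU with e | e
    · exact absurd ((index_eq_one.1 e).ge (mem_top t)) ht
    rw [e] at h2
    rcases (Nat.dvd_prime hp.out).1 ⟨_, h2.symm⟩ with e' | e'
    · exact absurd (relIndex_eq_one.1 e' ((le_sup_left : zpowers t ≤ _) (mem_zpowers t))) ht
    · rw [e'] at h2
      exact index_eq_one.1 ((Nat.mul_eq_left hp.out.ne_zero).1 h2)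
  obtain ⟨t, htU, htC⟩ := hcover U fun e => by
    have h3 : ⊤ ≤ C 1 ⊔ zpowers s := by
      rw [← e]; exact sup_le le_sup_right ((hL1C 1).trans le_sup_left)
    have h4 : Nat.card S ≤ p ^ (n - 1) := by
      rw [← card_top, ← e]
      refine hcardC _ fun e2 => ?_
      haveI hcy : IsCyclic (S ⧸ L 1) := by
        refine ⟨QuotientGroup.mk s, fun q => ?_⟩
        obtain ⟨g, rfl⟩ := QuotientGroup.mk_surjective q
        obtain ⟨a, ha, b, hb, rfl⟩ := mem_sup_of_normal_right.1 (e2.ge (mem_top g) : g ∈ zpowers s ⊔ L 1)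
        obtain ⟨i, rfl⟩ := mem_zpowers_iff.1 ha
        exact ⟨i, by
          show (QuotientGroup.mk s : S ⧸ L 1) ^ i = QuotientGroup.mk (s ^ i * b)
          rw [QuotientGroup.mk_mul, (QuotientGroup.eq_one_iff b).2 hb, mul_one, QuotientGroup.mk_zpow]⟩
      have h5 : IsCyclic (S ⧸ frattini S) := isCyclic_of_surjective (QuotientGroup.quotientMulEquivOfEq
        ((Cfsg.Lib.MaxClass.frattini_eq_commutator n S hcard (by omega) hmax).trans hL1c.symm).symm).toMonoidHom
        (MulEquiv.surjective _)
      haveI := Cfsg.Lib.PGroups.isCyclic_of_isCyclic_quotient_frattini (P := S)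
      letI : CommGroup S := IsCyclic.commGroup
      exact Cfsg.Lib.MaxClass.not_comm (X := S) (n := n) (by omega) hmax fun a b => mul_comm a b
    rw [hcard] at h4
    have := (Nat.pow_le_pow_iff_right hp.out.one_lt).1 h4
    omega
  -- powers of uniform elements
  have hgp : ∀ g, (∀ i, 1 ≤ i → i ≤ k → g ∉ C i) → g ^ p ∈ L (k + 1) := by
    intro g hg
    suffices h : ∀ i, 1 ≤ i → i ≤ k + 1 → g ^ p ∈ L i from h _ (by omega) le_rfl
    intro i
    induction i with
    | zero => intro h; omega
    | succ i ih =>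
      intro _ hi
      rcases Nat.eq_zero_or_pos i with rfl | hi0
      · exact hpowc g
      by_contra hh
      refine hg i hi0 (by omega) ((hmC i g).2 fun w hw => ?_)
      rw [← hcyc i hi0 (by omega) _ (ih hi0 (by omega)) hh] at hw
      obtain ⟨a, ha, b, hb, rfl⟩ := mem_sup_of_normal_right.1 hw
      obtain ⟨l, rfl⟩ := mem_zpowers_iff.1 ha
      have hc : ⁅g, (g ^ p) ^ l⁆ = 1 := commutatorElement_eq_one_iff_mul_comm.2
        (((Commute.refl g).pow_right p).zpow_right l).eq
      have e : ⁅g, (g ^ p) ^ l * b⁆ = ⁅g, (g ^ p) ^ l⁆ * ((g ^ p) ^ l * ⁅g, b⁆ * ((g ^ p) ^ l)⁻¹) := by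
        simp only [commutatorElement_def]; group
      rw [e, hc, one_mul]
      refine (hLn _).conj_mem _ ?_ _
      rw [hLsucc, commutator_comm]
      exact commutator_mem_commutator (mem_top g) hb
  -- the section
  set M := L (2 * k)
  set π := QuotientGroup.mk' M
  have hπs : Function.Surjective π := QuotientGroup.mk'_surjective M
  set A := (L (k - 1)).map π with hA
  haveI hAn : A.Normal := Subgroup.Normal.map inferInstance _ hπs
  obtain ⟨a₀, ha₀, ha₀'⟩ : ∃ a ∈ L (k - 1), a ∉ L k := by
    by_contra hh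
    push Not at hh
    exact hstrict (k - 1) (by omega) (fun a ha => by rw [show k - 1 + 1 = k by omega]; exact hh a ha)
  have hHk : zpowers a₀ ⊔ L k = L (k - 1) := by
    have := hcyc (k - 1) (by omega) (by omega) a₀ ha₀ (by rw [show k - 1 + 1 = k by omega]; exact ha₀')
    rwa [show k - 1 + 1 = k by omega] at this
  have hcommA : ∀ x ∈ L (k - 1), ∀ y ∈ L (k - 1), π x * π y = π y * π x := by
    have h0 : ∀ u ∈ L k, ∀ y ∈ L (k - 1), Commute (π u) (π y) := fun u hu y hy => by
      refine commutatorElement_eq_one_iff_mul_comm.1 ?_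
      rw [← map_commutatorElement]
      exact (QuotientGroup.eq_one_iff _).2 (hanti (by omega) (commutator_lcs_le (k - 1) k
        (commutator_mem_commutator hu hy)))
    intro x hx y hy
    have hy' := hy
    rw [← hHk] at hx hy'
    obtain ⟨a, ha, u, hu, rfl⟩ := mem_sup_of_normal_right.1 hx
    obtain ⟨b, hb, v, hv, rfl⟩ := mem_sup_of_normal_right.1 hy'
    obtain ⟨i, rfl⟩ := mem_zpowers_iff.1 ha
    obtain ⟨l, rfl⟩ := mem_zpowers_iff.1 hb
    refine Commute.eq ?_
    rw [map_mul, map_mul]
    have h1 : Commute (π u) (π (a₀ ^ l)) := h0 u hu _ (zpow_mem ha₀ l)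
    have h2 : Commute (π v) (π (a₀ ^ i)) := h0 v hv _ (zpow_mem ha₀ i)
    have h3 : Commute (π u) (π v) := h0 u hu _ (hanti (Nat.sub_le k 1) hv)
    have h4 : Commute (π (a₀ ^ i)) (π (a₀ ^ l)) := (Commute.zpow_zpow (Commute.refl a₀) i l).map π
    exact (h4.mul_right h2.symm).mul_left (h1.mul_right h3)
  haveI : IsMulCommutative A := ⟨⟨by
    rintro ⟨_, x, hx, rfl⟩ ⟨_, y, hy, rfl⟩; exact Subtype.ext (hcommA x hx y hy)⟩⟩
  suffices hexp : ∀ i, ∀ j, k - 1 ≤ j → j + i = 2 * k → ∀ a ∈ L j, π a ^ p = 1 by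
    refine ⟨L (k - 1), M.subgroupOf (L (k - 1)), inferInstance, trivial, fun x y => ?_, fun x => ?_, ?_⟩
    · rw [mem_subgroupOf, ← QuotientGroup.eq_one_iff (N := M)]
      show π (((x * y)⁻¹ * (y * x) : L (k - 1)) : S) = 1
      simp only [Subgroup.coe_mul, Subgroup.coe_inv, map_mul, map_inv]
      rw [hcommA x x.2 y y.2, inv_mul_cancel]
    · rw [mem_subgroupOf, ← QuotientGroup.eq_one_iff (N := M), Subgroup.coe_pow]
      show π ((x : S) ^ p) = 1
      rw [map_pow]
      exact hexp _ (k - 1) le_rfl (Nat.add_sub_cancel' (by omega)) x x.2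
    · rw [← index_eq_card]
      show M.relIndex (L (k - 1)) = _
      have h1 := relIndex_mul_index (hanti (show k - 1 ≤ 2 * k by omega))
      rw [hidx (k - 1) (by omega) (by omega), hidx (2 * k) (by omega) (by omega),
        show 2 * k + 1 = k + 1 + (k - 1 + 1) by omega, pow_add p (k + 1)] at h1
      exact Nat.eq_of_mul_eq_mul_right (pow_pos hp.out.pos _) h1
  intro i
  induction i with
  | zero =>
    intro j _ hj a ha
    rw [add_zero] at hj
    subst hj
    rw [show π a = 1 from (QuotientGroup.eq_one_iff a).2 ha, one_pow]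
  | succ i ih =>
    intro j hkj hj a ha
    obtain ⟨g, hg, w, hw, hnot⟩ : ∃ g, (∀ l, 1 ≤ l → l ≤ k → g ∉ C l) ∧ ∃ w ∈ L (j - 1), ⁅w, g⁆ ∉ L (j + 1) := by
      by_contra hh
      push Not at hh
      have hin : ∀ g, (∀ l, 1 ≤ l → l ≤ k → g ∉ C l) → g ∈ C (j - 1) := fun g hg => (hmC _ g).2 fun w hw => by
        rw [← commutatorElement_inv, show j - 1 + 2 = j + 1 by omega]
        exact inv_mem (hh g hg w hw)
      refine hCne (j - 1) (by omega) (top_le_iff.1 ?_)
      rw [← (hUidx.2 t htU)]
      exact sup_le (zpowers_le.2 (hin t htC)) (sup_le (zpowers_le.2 (hin s hsC)) (hL1C _))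
    set x := ⁅w, g⁆ with hxdef
    have hxj : x ∈ L j := by
      rw [show j = j - 1 + 1 by omega, hLsucc]; exact commutator_mem_commutator hw (mem_top g)
    have hxH : π x ∈ A := ⟨x, hanti (by omega) hxj, rfl⟩
    open scoped IsMulCommutative in
    have hxp : π x ^ p = 1 := by
      set gb := π g
      let σ : AddMonoid.End (Additive A) := MonoidHom.toAdditive (MulAut.conjNormal (H := A) gb).toMonoidHom
      set X : Additive A := Additive.ofMul ⟨π x, hxH⟩ with hX
      have hδ : ∀ l, (((Additive.toMul (((σ - 1) ^ l) X) : A)) : S ⧸ M) ∈ (L (j + l)).map π := by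
        intro l
        induction l with
        | zero => exact ⟨x, hxj, rfl⟩
        | succ l ihl =>
          obtain ⟨y, hy, hye⟩ := ihl
          refine ⟨⁅g, y⁆, ?_, ?_⟩
          · rw [← add_assoc, hLsucc, commutator_comm]; exact commutator_mem_commutator (mem_top g) hy
          · rw [pow_succ', AddMonoid.End.coe_mul, Function.comp_apply, commutatorElement_def, map_mul, map_mul, map_mul,
              map_inv, map_inv, hye]
            set Y := ((σ - 1) ^ l) X
            show _ = (((Additive.toMul (σ Y - Y) : A)) : S ⧸ M)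
            rw [toMul_sub, Subgroup.coe_div, div_eq_mul_inv]
            rfl
      have hkill : ∀ (l : ℕ), 1 ≤ l → j + l ≤ 2 * k → p • ((σ - 1) ^ l) X = 0 := by
        intro l hl hl'
        obtain ⟨y, hy, hye⟩ := hδ l
        have h1 := ih (j + 1) (by omega) (by omega) y (hanti (by omega) hy)
        apply Additive.toMul.injective
        refine Subtype.ext ?_
        rw [toMul_nsmul, Subgroup.coe_pow, ← hye, h1]
        rfl
      have hbig : ∀ l, 2 * k ≤ j + l → ((σ - 1) ^ l) X = 0 := by
        intro l hl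
        obtain ⟨y, hy, hye⟩ := hδ l
        apply Additive.toMul.injective
        refine Subtype.ext ?_
        rw [← hye]
        exact (QuotientGroup.eq_one_iff y).2 (hanti hl hy)
      have hsum : ∀ m : ℕ, (((Additive.toMul (∑ i ∈ Finset.range m, (σ ^ i) X) : A)) : S ⧸ M)
          = ((List.range m).map fun i => gb ^ i * π x * (gb ^ i)⁻¹).prod := by
        intro m
        induction m with
        | zero => simp
        | succ m ihm =>
          rw [Finset.sum_range_succ, List.range_succ, List.map_append, List.prod_append, toMul_add,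
            Subgroup.coe_mul, ihm]
          congr 1
          have hσi : ∀ (i : ℕ) (Z : Additive A), (((Additive.toMul ((σ ^ i) Z) : A)) : S ⧸ M) =
              gb ^ i * ((Additive.toMul Z : A) : S ⧸ M) * (gb ^ i)⁻¹ := by
            intro i
            induction i with
            | zero => intro Z; simp
            | succ i ihi =>
              intro Z
              rw [pow_succ', AddMonoid.End.coe_mul, Function.comp_apply]
              show gb * (((Additive.toMul ((σ ^ i) Z) : A)) : S ⧸ M) * gb⁻¹ = _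
              rw [ihi, pow_succ']
              group
          simp only [List.map_cons, List.map_nil, List.prod_cons, List.prod_nil, mul_one]
          exact hσi m X
      have h0 : ∑ i ∈ Finset.range p, (σ ^ i) X = 0 := by
        apply Additive.toMul.injective
        refine Subtype.ext ((hsum p).trans ?_)
        have h1 := Cfsg.Lib.HallHigman.mul_pow_eq_norm gb (π x) p
        have h2 : (π x * gb) ^ p = gb ^ p := by
          have e : π x * gb = π w * gb * (π w)⁻¹ := by
            rw [hxdef, commutatorElement_def, map_mul, map_mul, map_mul, map_inv, map_inv]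
            simp only [gb]
            group
          rw [e, conj_pow]
          have hcm : Commute (π w) (gb ^ p) := by
            refine commutatorElement_eq_one_iff_mul_comm.1 ?_
            rw [← map_pow, ← map_commutatorElement]
            exact (QuotientGroup.eq_one_iff _).2 (hanti (show 2 * k ≤ j - 1 + (k + 1) + 1 by omega)
              (commutator_lcs_le (k + 1) (j - 1) (commutator_mem_commutator hw (hgp g hg))))
          rw [hcm.eq, mul_inv_cancel_right]
        rw [h2] at h1
        rw [mul_eq_right.1 h1.symm]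
        rfl
      rw [norm_apply, Finset.sum_eq_single 0 (fun l hl hl0 => ?_)
        (fun h => absurd (Finset.mem_range.2 hp.out.pos) h)] at h0
      · have h3 := congrArg (fun z : Additive A => (((Additive.toMul z : A)) : S ⧸ M)) h0
        simpa [X, toMul_nsmul] using h3
      · rcases Nat.lt_or_ge (j + l) (2 * k) with hl' | hl'
        · obtain ⟨c, hc⟩ := hp.out.dvd_choose_self (Nat.succ_ne_zero l) (show l + 1 < p by omega)
          rw [hc, mul_nsmul, hkill l (Nat.one_le_iff_ne_zero.2 hl0) (by omega), nsmul_zero]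
        · rw [hbig l hl', nsmul_zero]
    rw [← hcyc j (by omega) (by omega) x hxj hnot] at ha
    obtain ⟨b, hb, c, hc, rfl⟩ := mem_sup_of_normal_right.1 ha
    obtain ⟨l, rfl⟩ := mem_zpowers_iff.1 hb
    have hcm : Commute (π (x ^ l)) (π c) :=
      hcommA _ (hanti (by omega) (zpow_mem hxj l)) _ (hanti (by omega) hc)
    rw [map_mul, hcm.mul_pow, ih (j + 1) (by omega) (by omega) c hc, mul_one, map_zpow]
    rw [← zpow_natCast (π x ^ l) p, ← zpow_mul, mul_comm l, zpow_mul, zpow_natCast, hxp, one_zpow]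


/-- Let p be a prime and S a finite p-group of order pⁿ (n ≥ 2) of maximal nilpotency class n − 1 whose sectional p-rank is exactly k (every section has p-rank at most k, and some section has p-rank k). If p ≥ k + 2 then the order of S is at most p^(2k). -/
theorem result {S : Type*} [Group S] [Finite S] (p : ℕ) [Fact p.Prime] (hS : IsPGroup p S) [Group.IsNilpotent S]
    (n : ℕ) (hn : 2 ≤ n) (hcard : Nat.card S = p ^ n) (hmax : Group.nilpotencyClass S = n - 1)
    (k : ℕ) (hk : 1 ≤ k) (hsr : Cfsg.SectionalPRankLE p k S ∧ ¬ Cfsg.SectionalPRankLE p (k - 1) S)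
    (hpk : k + 2 ≤ p) : Nat.card S ≤ p ^ (2 * k) := by
  by_contra hlt
  push Not at hlt
  have hp1 := (Fact.out : p.Prime).one_lt
  rw [hcard] at hlt
  have hn2 : 2 * k + 1 ≤ n := (Nat.pow_lt_pow_iff_right hp1).1 hlt
  obtain ⟨H, N, hN, -, hcomm, hpow, hq⟩ := section_elementary hcard hn hmax k hk hn2 hpk
  haveI := hN
  have h1 := hsr.1 H N ⊤ ⟨⟨fun a b => by
      obtain ⟨a, -⟩ := a
      obtain ⟨b, -⟩ := b
      obtain ⟨x, rfl⟩ := QuotientGroup.mk_surjective a
      obtain ⟨y, rfl⟩ := QuotientGroup.mk_surjective b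
      exact Subtype.ext (QuotientGroup.eq.2 (hcomm x y))⟩⟩ (fun a _ => by
      obtain ⟨x, rfl⟩ := QuotientGroup.mk_surjective a
      exact (QuotientGroup.eq_one_iff _).2 (hpow x))
  rw [card_top, hq] at h1
  have := (Nat.pow_le_pow_iff_right hp1).1 h1
  omega

end Cfsg.Agent.S3806
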