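import Cfsg.Statements.S3866
import Mathlib

set_option autoImplicit false
open Cfsg

namespace Cfsg.Agent.S3866

/-- Let A be a commutative normal subgroup of the finite group G with G generated by A and an element x. Then a ↦ x a x⁻¹ a⁻¹ is a surjective homomorphism from A onto the commutator subgroup of G whose kernel is the centralizer of x in A; in particular the commutator subgroup has order equal to the index in A of that centralizer. -/
theorem result {G : Type*} [Group G] [Finite G] (A : Subgroup G) [A.Normal] (hA : IsMulCommutative A) (x : G) (hgen : A ⊔ Subgroup.zpowers x = ⊤) : (∀ a ∈ A, x * a * x⁻¹ * a⁻¹ ∈ commutator G) ∧ (∀ c ∈ commutator G, ∃ a ∈ A, x * a * x⁻¹ * a⁻¹ = c) ∧ (∀ a ∈ A, ∀ b ∈ A, x * (a * b) * x⁻¹ * (a * b)⁻¹ = (x * a * x⁻¹ * a⁻¹) * (x * b * x⁻¹ * b⁻¹)) ∧ Nat.card (commutator G) * Nat.card ↥(A ⊓ Subgroup.centralizer ({x} : Set G)) = Nat.card A := by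
  have hAab : ∀ a ∈ A, ∀ b ∈ A, a * b = b * a := fun a ha b hb =>
    congrArg Subtype.val (hA.is_comm.comm ⟨a, ha⟩ ⟨b, hb⟩)
  have hnA : ∀ a ∈ A, x * a * x⁻¹ ∈ A := fun a ha => ‹A.Normal›.conj_mem a ha x
  have hmul : ∀ a ∈ A, ∀ b ∈ A, x * (a * b) * x⁻¹ * (a * b)⁻¹ = (x * a * x⁻¹ * a⁻¹) * (x * b * x⁻¹ * b⁻¹) := by
    intro a ha b hb
    have h1 := hAab _ (A.inv_mem ha) (x * b * x⁻¹ * b⁻¹) (A.mul_mem (hnA b hb) (A.inv_mem hb))
    calc x * (a * b) * x⁻¹ * (a * b)⁻¹ = x * a * x⁻¹ * (x * b * x⁻¹ * b⁻¹ * a⁻¹) := by group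
      _ = x * a * x⁻¹ * (a⁻¹ * (x * b * x⁻¹ * b⁻¹)) := by rw [h1]
      _ = _ := by group
  let φ : A →* G := MonoidHom.mk' (fun a => x * (a : G) * x⁻¹ * (a : G)⁻¹) (fun a b => hmul a a.2 b b.2)
  have hφA : ∀ a : A, φ a ∈ A := fun a => A.mul_mem (hnA a a.2) (A.inv_mem a.2)
  have hle : φ.range ≤ commutator G := by
    rintro _ ⟨a, rfl⟩
    exact Subgroup.commutator_mem_commutator (Subgroup.mem_top x) (Subgroup.mem_top (a : G))
  have hnorm : φ.range.Normal := by
    rw [← Subgroup.normalizer_eq_top_iff, eq_top_iff, ← hgen]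
    refine sup_le (fun a ha => Subgroup.mem_normalizer_iff.mpr fun w => ?_) (Subgroup.zpowers_le.mpr ?_)
    · constructor
      · intro hw
        obtain ⟨c, rfl⟩ := hw
        rw [hAab a ha _ (hφA c), mul_inv_cancel_right]
        exact ⟨c, rfl⟩
      · rintro ⟨c, hc⟩
        have h1 : w = a⁻¹ * φ c * a := by rw [hc]; group
        rw [h1, hAab _ (A.inv_mem ha) _ (hφA c), inv_mul_cancel_right]
        exact ⟨c, rfl⟩
    · refine Subgroup.mem_normalizer_iff.mpr fun w => ⟨?_, ?_⟩
      · rintro ⟨c, rfl⟩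
        exact ⟨⟨x * (c : G) * x⁻¹, hnA c c.2⟩, by simp [φ]; group⟩
      · rintro ⟨c, hc⟩
        have hc' : x⁻¹ * (c : G) * x ∈ A := by simpa using ‹A.Normal›.conj_mem c c.2 x⁻¹
        refine ⟨⟨_, hc'⟩, ?_⟩
        have h1 : w = x⁻¹ * φ c * x := by rw [hc]; group
        rw [h1]
        simp [φ]
        group
  have hcomm : commutator G ≤ φ.range := by
    rw [← QuotientGroup.ker_mk' φ.range]
    set π := QuotientGroup.mk' φ.range
    let K : Subgroup G := (Subgroup.center (G ⧸ φ.range)).comap π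
    have hxa : ∀ a ∈ A, π x * π a = π a * π x := fun a ha => by
      have h1 : π (x * a * x⁻¹ * a⁻¹) = 1 := (QuotientGroup.eq_one_iff _).mpr ⟨⟨a, ha⟩, rfl⟩
      rw [map_mul, map_mul, map_mul, map_inv, map_inv, mul_inv_eq_one, mul_inv_eq_iff_eq_mul] at h1
      exact h1
    have hcent : ∀ g : G, π g ∈ Subgroup.center _ := by
      have key : ∀ (h : G), (∀ a ∈ A, Commute (π h) (π a)) → Commute (π h) (π x) → π h ∈ Subgroup.center _ := by
        intro h h1 h2
        rw [Subgroup.mem_center_iff]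
        intro q
        obtain ⟨g, rfl⟩ := QuotientGroup.mk'_surjective _ q
        have : g ∈ (Subgroup.centralizer ({π h} : Set (G ⧸ φ.range))).comap π := by
          suffices hT : A ⊔ Subgroup.zpowers x ≤ (Subgroup.centralizer ({π h} : Set (G ⧸ φ.range))).comap π from
            hT (hgen ▸ Subgroup.mem_top g)
          exact sup_le (fun a ha => Subgroup.mem_centralizer_singleton_iff.mpr (h1 a ha).symm.eq)
            (Subgroup.zpowers_le.mpr (Subgroup.mem_centralizer_singleton_iff.mpr h2.symm.eq))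
        exact Subgroup.mem_centralizer_singleton_iff.mp this
      intro g
      suffices hT : A ⊔ Subgroup.zpowers x ≤ K from hT (hgen ▸ Subgroup.mem_top g)
      exact sup_le (fun a ha => key a (fun b hb => (show a * b = b * a from hAab a ha b hb) |> congrArg π
          |> fun e => by rw [map_mul, map_mul] at e; exact e) (hxa a ha).symm)
        (Subgroup.zpowers_le.mpr (key x hxa (Commute.refl _)))
    rw [commutator_def, Subgroup.commutator_le]
    intro u _ v _
    rw [MonoidHom.mem_ker, map_commutatorElement, commutatorElement_eq_one_iff_mul_comm]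
    exact (Subgroup.mem_center_iff.mp (hcent u) (π v)).symm
  have heq : commutator G = φ.range := le_antisymm hcomm hle
  refine ⟨fun a ha => hle ⟨⟨a, ha⟩, rfl⟩, fun c hc => ?_, hmul, ?_⟩
  · obtain ⟨a, ha⟩ := hcomm hc
    exact ⟨a, a.2, ha⟩
  · have hker : φ.ker = (A ⊓ Subgroup.centralizer ({x} : Set G)).subgroupOf A := by
      ext a
      simp only [φ, MonoidHom.mem_ker, MonoidHom.mk'_apply, Subgroup.mem_subgroupOf, Subgroup.mem_inf,
        Subgroup.mem_centralizer_singleton_iff, SetLike.coe_mem, true_and, mul_inv_eq_one,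
        mul_inv_eq_iff_eq_mul]
      rw [one_mul]; exact eq_comm
    rw [heq, ← Nat.card_congr (Subgroup.subgroupOfEquivOfLe (inf_le_left : A ⊓ Subgroup.centralizer ({x} : Set G) ≤ A)).toEquiv,
      ← hker, ← Nat.card_congr (QuotientGroup.quotientKerEquivRange φ).toEquiv]
    exact (Subgroup.card_eq_card_quotient_mul_card_subgroup φ.ker).symm

end Cfsg.Agent.S3866
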