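import Cfsg.Statements.S3807
import Cfsg.Agent.PGroups.Bounds
import Cfsg.Agent.S3866

set_option autoImplicit false
open Cfsg

namespace Cfsg.Agent.S3807

open scoped commutatorElement

/-- Let S be a non-abelian finite p-group with an abelian subgroup A of index p. Then [S : Z(S)] = p·#[S,S], and either [S,S] has order p, S/Z(S) is elementary abelian of order p², and S has exactly p + 1 abelian subgroups of index p; or [S,S] has order at least p² and A is the only abelian subgroup of index p in S. -/
theorem result {S : Type*} [Group S] [Finite S] (p : ℕ) [Fact p.Prime] (hS : IsPGroup p S) (hna : ¬ IsMulCommutative S)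
    (A : Subgroup S) (hA : IsMulCommutative ↥A) (hAi : A.index = p) :
    (Subgroup.center S).index = p * Nat.card (commutator S) ∧
      ((Nat.card (commutator S) = p ∧ Cfsg.IsElementaryAbelian p (⊤ : Subgroup (S ⧸ Subgroup.center S)) ∧
          Nat.card (S ⧸ Subgroup.center S) = p ^ 2 ∧
          Nat.card {B : Subgroup S // IsMulCommutative ↥B ∧ B.index = p} = p + 1) ∨
        (p ^ 2 ≤ Nat.card (commutator S) ∧ ∀ B : Subgroup S, IsMulCommutative ↥B → B.index = p → B = A)) := by
  have hp : p.Prime := Fact.out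
  have hco : ∀ B : Subgroup S, B.index = p → ∀ C, B < C → C = ⊤ := fun B hB C hC => by
    have h1 := Subgroup.relIndex_mul_index hC.le
    rw [hB] at h1
    rcases (Nat.dvd_prime hp).mp (Dvd.intro_left _ h1) with h2 | h2
    · exact Subgroup.index_eq_one.mp h2
    · rw [h2] at h1
      exact absurd (Subgroup.relIndex_eq_one.mp
        (Nat.eq_of_mul_eq_mul_right hp.pos (h1.trans (one_mul p).symm))) hC.not_ge
  have hcoA : IsCoatom A := ⟨fun e => hp.ne_one (by rw [← hAi, e, Subgroup.index_top]), hco A hAi⟩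
  have hAn : A.Normal := (Cfsg.Lib.PGroups.coatom_normal_index hS hcoA).1
  have comm_of_gen : ∀ K : Set S, Subgroup.closure K = ⊤ → (∀ a ∈ K, ∀ b ∈ K, a * b = b * a) → False := by
    intro K hK h
    have := Subgroup.isMulCommutative_closure h
    exact hna ⟨⟨fun u v => congrArg Subtype.val (this.is_comm.comm
      (⟨u, hK.ge (Subgroup.mem_top u)⟩ : Subgroup.closure K) ⟨v, hK.ge (Subgroup.mem_top v)⟩)⟩⟩
  set Z := Subgroup.center S with hZdef
  have hZle : ∀ B : Subgroup S, IsMulCommutative B → B.index = p → Z ≤ B := by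
    intro B hB hBi z hz
    by_contra hzB
    have htop : B ⊔ Z = ⊤ := hco B hBi _ (left_lt_sup.mpr fun hle => hzB (hle hz))
    refine comm_of_gen ((B : Set S) ∪ (Z : Set S)) (by rw [Subgroup.closure_union, Subgroup.closure_eq, Subgroup.closure_eq, htop]) ?_
    rintro a (ha | ha) b (hb | hb)
    · exact congrArg Subtype.val (hB.is_comm.comm ⟨a, ha⟩ ⟨b, hb⟩)
    · exact Subgroup.mem_center_iff.mp hb a
    · exact (Subgroup.mem_center_iff.mp ha b).symm
    · exact Subgroup.mem_center_iff.mp hb a
  obtain ⟨x, -, hx⟩ := SetLike.exists_of_lt (lt_top_iff_ne_top.mpr hcoA.1)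
  have hgen : A ⊔ Subgroup.zpowers x = ⊤ :=
    hco A hAi _ (left_lt_sup.mpr fun hle => hx (hle (Subgroup.mem_zpowers x)))
  have hZeq : A ⊓ Subgroup.centralizer ({x} : Set S) = Z := by
    refine le_antisymm (fun z ⟨hzA, hzx⟩ => Subgroup.mem_center_iff.mpr fun g => ?_)
      (le_inf (hZle A hA hAi) (Subgroup.center_le_centralizer _))
    have : A ⊔ Subgroup.zpowers x ≤ Subgroup.centralizer ({z} : Set S) := sup_le
      (fun a ha => Subgroup.mem_centralizer_singleton_iff.mpr
        (congrArg Subtype.val (hA.is_comm.comm ⟨a, ha⟩ ⟨z, hzA⟩)))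
      (Subgroup.zpowers_le.mpr (Subgroup.mem_centralizer_singleton_iff.mpr
        (Subgroup.mem_centralizer_singleton_iff.mp hzx).symm))
    exact Subgroup.mem_centralizer_singleton_iff.mp (this (hgen ▸ Subgroup.mem_top g))
  have hcard := (Cfsg.Agent.S3866.result A hA x hgen).2.2.2
  rw [hZeq] at hcard
  have hidx : Z.index = p * Nat.card (commutator S) := by
    apply Nat.eq_of_mul_eq_mul_left (Nat.card_pos (α := Z))
    rw [Z.card_mul_index, ← A.card_mul_index, hAi, ← hcard]; ring
  refine ⟨hidx, ?_⟩
  obtain ⟨k, hk⟩ := IsPGroup.iff_card.mp (hS.to_subgroup (commutator S))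
  rcases k with _ | _ | k
  · exfalso
    refine hna ⟨⟨fun a b => ?_⟩⟩
    have h1 : ⁅a, b⁆ ∈ commutator S := Subgroup.commutator_mem_commutator (Subgroup.mem_top a) (Subgroup.mem_top b)
    have hb : commutator S = ⊥ := Subgroup.card_eq_one.mp (by rw [hk, pow_zero])
    rw [hb, Subgroup.mem_bot] at h1
    exact commutatorElement_eq_one_iff_mul_comm.mp h1
  · left
    rw [zero_add, pow_one] at hk
    have hQ : Nat.card (S ⧸ Z) = p ^ 2 := by rw [← Subgroup.index_eq_card, hidx, hk, sq]
    have hQab : IsMulCommutative (S ⧸ Z) := IsPGroup.isMulCommutative_of_card_eq_prime_sq hQ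
    have hnc : ¬ IsCyclic (S ⧸ Z) := fun h => hna
      ⟨⟨fun a b => commutative_of_cyclic_center_quotient (QuotientGroup.mk' Z)
        (by rw [QuotientGroup.ker_mk']) a b⟩⟩
    have hexp : ∀ q : S ⧸ Z, q ^ p = 1 := by
      intro q
      obtain ⟨i, hi2, hi⟩ := (Nat.dvd_prime_pow hp).mp (hQ ▸ _root_.orderOf_dvd_natCard q)
      rcases (show i ≤ 1 ∨ i = 2 by omega) with h1 | rfl
      · exact orderOf_dvd_iff_pow_eq_one.mp (hi.dvd.trans (by simpa using pow_dvd_pow p h1))
      · exact absurd (isCyclic_of_orderOf_eq_card q (hi.trans hQ.symm)) hnc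
    refine ⟨hk, ⟨⟨⟨fun a b => Subtype.ext (hQab.is_comm.comm _ _)⟩⟩, fun q _ => hexp q⟩, hQ, ?_⟩
    -- abelian subgroups of index `p` and subgroups of order `p` of the quotient
    let e : {B : Subgroup S // IsMulCommutative ↥B ∧ B.index = p} ≃
        {K : Subgroup (S ⧸ Z) // Nat.card K = p} :=
      { toFun := fun B => ⟨B.1.map (QuotientGroup.mk' Z), by
          have hle := hZle B.1 B.2.1 B.2.2
          rw [← Subgroup.relIndex_ker, QuotientGroup.ker_mk']
          have h1 := Subgroup.relIndex_mul_index hle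
          rw [B.2.2, hidx, hk] at h1
          exact Nat.eq_of_mul_eq_mul_right hp.pos h1⟩
        invFun := fun K => ⟨K.1.comap (QuotientGroup.mk' Z), by
          constructor
          · let f : K.1.comap (QuotientGroup.mk' Z) →* K.1 :=
              ((QuotientGroup.mk' Z).comp (K.1.comap (QuotientGroup.mk' Z)).subtype).codRestrict K.1 fun u => u.2
            have : IsCyclic K.1 := isCyclic_of_prime_card (p := p) K.2
            refine ⟨⟨fun a b => commutative_of_cyclic_center_quotient f (fun u hu => ?_) a b⟩⟩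
            rw [Subgroup.mem_center_iff]
            intro v
            have hu' : (u : S) ∈ Z := (QuotientGroup.eq_one_iff _).mp (congrArg Subtype.val hu)
            exact Subtype.ext (Subgroup.mem_center_iff.mp hu' v)
          · rw [Subgroup.index_comap_of_surjective _ (QuotientGroup.mk'_surjective Z)]
            apply Nat.eq_of_mul_eq_mul_left hp.pos
            rw [← sq, ← hQ, ← K.1.card_mul_index, K.2]⟩
        left_inv := fun B => Subtype.ext (Subgroup.comap_map_eq_self (by
          rw [QuotientGroup.ker_mk']; exact hZle B.1 B.2.1 B.2.2))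
        right_inv := fun K => Subtype.ext
          (Subgroup.map_comap_eq_self_of_surjective (QuotientGroup.mk'_surjective Z) K.1) }
    rw [Nat.card_congr e]
    classical
    have := Fintype.ofFinite (S ⧸ Z)
    set T := {K : Subgroup (S ⧸ Z) // Nat.card K = p}
    have hz : ∀ q : S ⧸ Z, q ≠ 1 → Nat.card (Subgroup.zpowers q) = p := fun q hq => by
      rw [Nat.card_zpowers]; exact orderOf_eq_prime (hexp q) hq
    let e2 : (Σ K : T, {q : K.1 // q ≠ 1}) ≃ {q : S ⧸ Z // q ≠ 1} :=
      { toFun := fun s => ⟨s.2.1.1, fun h => s.2.2 (Subtype.ext h)⟩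
        invFun := fun q => ⟨⟨Subgroup.zpowers q.1, hz q.1 q.2⟩,
          ⟨⟨q.1, Subgroup.mem_zpowers q.1⟩, fun h => q.2 (congrArg Subtype.val h)⟩⟩
        left_inv := fun ⟨⟨K, hK⟩, ⟨⟨q, hqK⟩, hq⟩⟩ => by
          have hq1 : q ≠ 1 := fun h => hq (Subtype.ext h)
          have : Subgroup.zpowers q = K := Subgroup.eq_of_le_of_card_ge (Subgroup.zpowers_le.mpr hqK)
            (by rw [hK, hz q hq1])
          subst this
          rfl
        right_inv := fun q => rfl }
    have hc := Nat.card_congr e2
    rw [Nat.card_sigma] at hc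
    have hne : ∀ (M : Type _) [One M] [Finite M], Nat.card {q : M // q ≠ 1} = Nat.card M - 1 := by
      intro M _ _
      have := Fintype.ofFinite M
      rw [Nat.card_eq_fintype_card, Nat.card_eq_fintype_card, Fintype.card_subtype_compl,
        Fintype.card_subtype_eq]
    rw [hne, hQ] at hc
    have hT : ∀ K : T, Nat.card {q : K.1 // q ≠ 1} = p - 1 := fun K => by rw [hne, K.2]
    rw [Finset.sum_congr rfl (fun K _ => hT K), Finset.sum_const, Finset.card_univ, smul_eq_mul,
      ← Nat.card_eq_fintype_card, show p ^ 2 - 1 = (p + 1) * (p - 1) by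
        rw [← one_pow 2, Nat.sq_sub_sq, one_pow]] at hc
    exact Nat.eq_of_mul_eq_mul_right (by have := hp.two_le; omega) hc
  · right
    have hge : p ^ 2 ≤ Nat.card (commutator S) := by rw [hk]; exact Nat.pow_le_pow_right hp.pos (by omega)
    refine ⟨hge, fun B hB hBi => ?_⟩
    by_contra hne
    have hAB : A ⊔ B = ⊤ := by
      refine hco A hAi _ (left_lt_sup.mpr fun hle => hne ?_)
      exact Subgroup.eq_of_le_of_card_ge hle (Nat.le_of_mul_le_mul_right
        (le_of_eq (show Nat.card A * p = Nat.card B * p by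
          conv_lhs => rw [← hAi, A.card_mul_index]
          conv_rhs => rw [← hBi, B.card_mul_index])) hp.pos)
    have hle : A ⊓ B ≤ Z := by
      rintro z ⟨hzA, hzB⟩
      rw [Subgroup.mem_center_iff]
      intro g
      have : A ⊔ B ≤ Subgroup.centralizer ({z} : Set S) := sup_le
        (fun a ha => Subgroup.mem_centralizer_singleton_iff.mpr
          (congrArg Subtype.val (hA.is_comm.comm ⟨a, ha⟩ ⟨z, hzA⟩)))
        (fun a ha => Subgroup.mem_centralizer_singleton_iff.mpr
          (congrArg Subtype.val (hB.is_comm.comm ⟨a, ha⟩ ⟨z, hzB⟩)))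
      exact Subgroup.mem_centralizer_singleton_iff.mp (this (hAB ▸ Subgroup.mem_top g))
    have h1 : Z.index ≤ p * p := by
      refine le_trans (Nat.le_of_dvd (Nat.pos_of_ne_zero Subgroup.index_ne_zero_of_finite)
        (Subgroup.index_dvd_of_le hle)) (Subgroup.index_inf_le.trans ?_)
      rw [hAi, hBi]
    rw [hidx] at h1
    have h2 := Nat.le_of_mul_le_mul_left h1 hp.pos
    have h3 : p < p ^ 2 := by rw [sq]; exact lt_mul_of_one_lt_left hp.pos hp.one_lt
    omega

end Cfsg.Agent.S3807
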