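import Cfsg.Statements.S3808
import Cfsg.Agent.PGroups.Basic

set_option autoImplicit false
open Cfsg

namespace Cfsg.Agent.S3808

/-- Let S be a finite p-group with an extraspecial subgroup Q of index p. Then either Z(S) = Z(Q), or S = Q·Z(S) and Z(S) has order p². -/
theorem result {S : Type*} [Group S] [Finite S] (p : ℕ) [Fact p.Prime] (hS : IsPGroup p S) (Q : Subgroup S) (hQ : Cfsg.IsExtraspecial p ↥Q) (hQi : Q.index = p) :
    Subgroup.center S = (Subgroup.center ↥Q).map Q.subtype ∨
      (Q ⊔ Subgroup.center S = ⊤ ∧ Nat.card (Subgroup.center S) = p ^ 2) := by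
  have hp : p.Prime := Fact.out
  have hQn : Q.Normal := by
    have hco : IsCoatom Q := by
      refine ⟨fun e => hp.ne_one (by rw [← hQi, e, Subgroup.index_top]), fun B hB => ?_⟩
      have h1 := Subgroup.relIndex_mul_index hB.le
      rw [hQi] at h1
      rcases (Nat.dvd_prime hp).mp (Dvd.intro_left _ h1) with h2 | h2
      · exact Subgroup.index_eq_one.mp h2
      · rw [h2] at h1
        exact absurd (Subgroup.relIndex_eq_one.mp
          (Nat.eq_of_mul_eq_mul_right hp.pos (h1.trans (one_mul p).symm))) hB.not_ge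
    exact (Cfsg.Lib.PGroups.coatom_normal_index hS hco).1
  set ZQ := (Subgroup.center ↥Q).map Q.subtype
  have hle : Q ⊓ Subgroup.center S ≤ ZQ := fun z ⟨hzQ, hzZ⟩ =>
    ⟨⟨z, hzQ⟩, Subgroup.mem_center_iff.mpr fun g => Subtype.ext (Subgroup.mem_center_iff.mp hzZ g), rfl⟩
  have hZQc : Nat.card ZQ = p := by rw [Subgroup.card_subtype, hQ.2]
  have hQne : Q ≠ ⊥ := by
    rintro rfl
    have := hQ.2
    have h1 := Subgroup.card_le_card_group (Subgroup.center ↥(⊥ : Subgroup S))
    rw [Subgroup.card_bot] at h1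
    have := hp.two_le
    omega
  have heq : Q ⊓ Subgroup.center S = ZQ := by
    obtain ⟨z, hzQ, hzZ, hzo⟩ := Cfsg.Lib.PGroups.exists_mem_center_of_normal_ne_bot hS (N := Q) hQne
    refine Subgroup.eq_of_le_of_card_ge hle ?_
    rw [hZQc, ← hzo, ← Nat.card_zpowers]
    exact Subgroup.card_le_of_le (Subgroup.zpowers_le.mpr ⟨hzQ, hzZ⟩)
  by_cases hZ : Subgroup.center S ≤ Q
  · left; rw [← heq, inf_eq_right.mpr hZ]
  · right
    have hlt : Q < Q ⊔ Subgroup.center S := left_lt_sup.mpr hZ
    have h1 := Subgroup.relIndex_mul_index hlt.le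
    rw [hQi] at h1
    have htop : Q ⊔ Subgroup.center S = ⊤ := by
      rcases (Nat.dvd_prime hp).mp (Dvd.intro_left _ h1) with h2 | h2
      · exact Subgroup.index_eq_one.mp h2
      · rw [h2] at h1
        exact absurd (Subgroup.relIndex_eq_one.mp
          (Nat.eq_of_mul_eq_mul_right hp.pos (h1.trans (one_mul p).symm))) hlt.not_ge
    refine ⟨htop, ?_⟩
    have h3 := Subgroup.relIndex_sup_left (Subgroup.center S) Q
    have h4 := Subgroup.card_mul_index ((Q.subgroupOf (Subgroup.center S)))
    rw [show (Q.subgroupOf (Subgroup.center S)).index = p from ?_] at h4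
    · rw [← h4, ← Subgroup.inf_subgroupOf_right,
        Nat.card_congr (Subgroup.subgroupOfEquivOfLe inf_le_right).toEquiv, heq, hZQc, sq]
    · rw [← hQi]
      show Q.relIndex _ = _
      rw [← Subgroup.relIndex_top_right (H := Q), ← htop, sup_comm, Subgroup.relIndex_sup_right]

end Cfsg.Agent.S3808
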