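import Cfsg.Statements.S3809
import Cfsg.Agent.PGroups.Basic
import Cfsg.Agent.SolvStruct.PGroupBasics

set_option autoImplicit false
open Cfsg

namespace Cfsg.Agent.S3809

/-- Let S be a finite p-group with an extraspecial subgroup of index p. Then S has order p^(2+2n) for some n ≥ 1, derived length at most 3, and exponent dividing p³. -/
theorem result {S : Type*} [Group S] [Finite S] (p : ℕ) [Fact p.Prime] (hS : IsPGroup p S) (Q : Subgroup S) (hQ : Cfsg.IsExtraspecial p ↥Q) (hQi : Q.index = p) :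
    (∃ n : ℕ, 1 ≤ n ∧ Nat.card S = p ^ (2 + 2 * n)) ∧ derivedSeries S 3 = ⊥ ∧ ∀ x : S, x ^ (p ^ 3) = 1 := by
  have hp : p.Prime := Fact.out
  have hQn : Q.Normal := by
    have hco : IsCoatom Q := by
      refine ⟨fun e => hp.ne_one (by rw [← hQi, e, Subgroup.index_top]), fun B hB => ?_⟩
      have h1 := Subgroup.relIndex_mul_index hB.le
      rw [hQi] at h1
      rcases (Nat.dvd_prime hp).mp (Dvd.intro_left _ h1) with h2 | h2
      · exact Subgroup.index_eq_one.mp h2
      · rw [h2] at h1
        exact absurd (Subgroup.relIndex_eq_one.mp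
          (Nat.eq_of_mul_eq_mul_right hp.pos (h1.trans (one_mul p).symm))) hB.not_ge
    exact (Cfsg.Lib.PGroups.coatom_normal_index hS hco).1
  obtain ⟨n, hn, hQc⟩ := Cfsg.Lib.SolvStruct.extraspecial_card_odd_power hQ
  refine ⟨⟨n, hn, ?_⟩, ?_, ?_⟩
  · rw [← Q.card_mul_index, hQi, hQc]; ring
  · have hQ' : commutator Q = Subgroup.center Q := hQ.1.2.2
    have h1 : derivedSeries S 1 ≤ Q := by
      rw [derivedSeries_one, commutator_def, Subgroup.commutator_le]
      have : IsCyclic (S ⧸ Q) := isCyclic_of_prime_card (p := p) ((Subgroup.index_eq_card Q).symm.trans hQi)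
      intro a _ b _
      rw [← QuotientGroup.eq_one_iff, ← QuotientGroup.mk'_apply, map_commutatorElement,
        commutatorElement_eq_one_iff_mul_comm]
      exact mul_comm' _ _
    have h2 : derivedSeries S 2 ≤ (Subgroup.center Q).map Q.subtype := by
      rw [← hQ', commutator_def, Subgroup.map_commutator, ← MonoidHom.range_eq_map, Subgroup.range_subtype,
        derivedSeries_succ]
      exact Subgroup.commutator_mono h1 h1
    rw [derivedSeries_succ, eq_bot_iff]
    refine le_trans (Subgroup.commutator_mono h2 h2) (le_of_eq ?_)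
    rw [Subgroup.commutator_eq_bot_iff_le_centralizer]
    rintro _ ⟨u, hu, rfl⟩ _ ⟨v, hv, rfl⟩
    exact congrArg Subtype.val (Subgroup.mem_center_iff.mp hu v)
  · intro x
    have h1 : x ^ p ∈ Q := by
      rw [← QuotientGroup.eq_one_iff, QuotientGroup.mk_pow, ← hQi, Subgroup.index_eq_card]
      exact pow_card_eq_one'
    have h2 : (⟨x ^ p, h1⟩ : Q) ^ p ∈ Subgroup.center Q :=
      hQ.1.2.1 ▸ Cfsg.Lib.PGroups.pow_mem_frattini hQ.1.1 _
    have h3 : ((⟨x ^ p, h1⟩ : Q) ^ p) ^ p = 1 := orderOf_dvd_iff_pow_eq_one.mp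
      ((Subgroup.orderOf_dvd_natCard _ h2).trans hQ.2.dvd)
    have h4 := congrArg Subtype.val h3
    simp only [SubgroupClass.coe_pow, OneMemClass.coe_one] at h4
    rw [← h4, ← pow_mul, ← pow_mul]; congr 1; ring

end Cfsg.Agent.S3809
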