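import Cfsg.Statements.S3810
import Cfsg.Agent.PGroups.Bounds
import Cfsg.Agent.SolvStruct.PGroupBasics

set_option autoImplicit false
open Cfsg

namespace Cfsg.Agent.S3810

/-- Let S be a finite p-group with an extraspecial subgroup of index p. Then S has an abelian subgroup of index p if and only if S has order p⁴. -/
theorem result {S : Type*} [Group S] [Finite S] (p : ℕ) [Fact p.Prime] (hS : IsPGroup p S) (Q : Subgroup S) (hQ : Cfsg.IsExtraspecial p ↥Q) (hQi : Q.index = p) :
    (∃ A : Subgroup S, IsMulCommutative ↥A ∧ A.index = p) ↔ Nat.card S = p ^ 4 := by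
  have hp : p.Prime := Fact.out
  have hQna : ¬ IsMulCommutative Q := by
    intro h
    have h1 : commutator Q = ⊥ := by
      rw [eq_bot_iff, commutator_def, Subgroup.commutator_le]
      intro a _ b _
      rw [Subgroup.mem_bot, commutatorElement_eq_one_iff_mul_comm]
      exact mul_comm' a b
    have h2 := hQ.2
    rw [← hQ.1.2.2, h1, Subgroup.card_bot] at h2
    exact hp.ne_one h2.symm
  obtain ⟨n, hn, hQc⟩ := Cfsg.Lib.SolvStruct.extraspecial_card_odd_power hQ
  have hS4 : Nat.card S = p ^ (2 * n + 2) := by rw [← Q.card_mul_index, hQi, hQc]; ring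
  constructor
  · rintro ⟨A, hA, hAi⟩
    set B := A.subgroupOf Q
    have hB : IsMulCommutative B := ⟨⟨fun u v => Subtype.ext (Subtype.ext (by
      have h1 := congrArg Subtype.val (hA.is_comm.comm (⟨_, u.2⟩ : A) ⟨_, v.2⟩)
      exact h1))⟩⟩
    have hBi : B.index ≤ p := by
      show A.relIndex Q ≤ p
      rw [← hAi, ← Subgroup.inf_relIndex_right]
      have h1 := Subgroup.relIndex_inf_le (H := A) (K := Q) (L := Q)
      rw [Subgroup.relIndex_self, mul_one] at h1
      refine h1.trans (Nat.le_of_dvd (Nat.pos_of_ne_zero Subgroup.index_ne_zero_of_finite) ?_)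
      rw [← Subgroup.relIndex_top_right]
      by_cases hQA : Q ≤ A
      · rw [Subgroup.relIndex_eq_one.mpr hQA]; exact one_dvd _
      · have hco : IsCoatom A := by
          refine ⟨fun e => hp.ne_one (by rw [← hAi, e, Subgroup.index_top]), fun C hC => ?_⟩
          have h1 := Subgroup.relIndex_mul_index hC.le
          rw [hAi] at h1
          rcases (Nat.dvd_prime hp).mp (Dvd.intro_left _ h1) with h2 | h2
          · exact Subgroup.index_eq_one.mp h2
          · rw [h2] at h1
            exact absurd (Subgroup.relIndex_eq_one.mp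
              (Nat.eq_of_mul_eq_mul_right hp.pos (h1.trans (one_mul p).symm))) hC.not_ge
        have := (Cfsg.Lib.PGroups.coatom_normal_index hS hco).1
        rw [Subgroup.relIndex_top_right]
        exact Subgroup.relIndex_dvd_index_of_normal A Q
    have hBne : B ≠ ⊤ := fun e => hQna (by
      rw [e] at hB
      exact ⟨⟨fun u v => congrArg Subtype.val (hB.is_comm.comm ⟨u, Subgroup.mem_top u⟩ ⟨v, Subgroup.mem_top v⟩)⟩⟩)
    obtain ⟨k, hk⟩ := hQ.1.1.index B
    have hk1 : k = 1 := by
      rcases k with _ | _ | k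
      · exact absurd (Subgroup.index_eq_one.mp (by rw [hk, pow_zero])) hBne
      · rfl
      · exfalso
        have : p < p ^ (k + 1 + 1) := by
          calc p = p ^ 1 := (pow_one p).symm
            _ < _ := Nat.pow_lt_pow_right hp.one_lt (by omega)
        omega
    have ht := Cfsg.Lib.SolvStruct.relIndex_centralizer_tower hQ.1.1 hQ.1.2.2.le hQ.2 1 B ⊤ le_top
      (by rw [Subgroup.relIndex_top_right, hk, hk1])
    rw [Subgroup.coe_top, Subgroup.centralizer_univ] at ht
    have hBC : B ≤ Subgroup.centralizer (B : Set Q) := Subgroup.le_centralizer B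
    have hc1 : Nat.card (Subgroup.centralizer (B : Set Q)) ≤ p ^ 2 := by
      have h1 := Subgroup.relIndex_mul_relIndex ⊥ (Subgroup.center Q) (Subgroup.centralizer (B : Set Q))
        bot_le (Subgroup.center_le_centralizer _)
      rw [Subgroup.relIndex_bot_left, Subgroup.relIndex_bot_left, hQ.2] at h1
      rw [← h1, sq]
      exact Nat.mul_le_mul_left _ (pow_one p ▸ ht)
    have hc2 := B.card_mul_index
    rw [hk, hk1, pow_one, hQc] at hc2
    have hc3 : p ^ (2 * n + 1) ≤ p ^ 3 := by
      rw [← hc2, pow_succ]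
      exact Nat.mul_le_mul_right _ ((Subgroup.card_le_of_le hBC).trans hc1)
    have := (Nat.pow_le_pow_iff_right hp.one_lt).mp hc3
    rw [hS4, show n = 1 by omega]
  · intro h4
    obtain ⟨A, ⟨hAn, hAab⟩, hmax⟩ := exists_maximal_of_wellFoundedGT
      (fun A : Subgroup S => A.Normal ∧ IsMulCommutative A) ⟨⊥, inferInstance, inferInstance⟩
    have hC := Cfsg.Lib.PGroups.centralizer_eq_self_of_maximal_normal_abelian hS A hAab
      (fun B hB hBab hAB => le_antisymm (hmax ⟨hB, hBab⟩ hAB) hAB)
    obtain ⟨a, -, ha⟩ := (Nat.dvd_prime_pow hp).mp (h4 ▸ A.card_subgroup_dvd_card)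
    obtain ⟨i, -, hi⟩ := (Nat.dvd_prime_pow hp).mp (h4 ▸ A.index_dvd_card)
    have hb := Cfsg.Lib.PGroups.index_centralizer_le_of_normal hS a A hAn ha
    rw [hC, hi] at hb
    have hai : a + i = 4 := Nat.pow_right_injective hp.two_le (show p ^ (a + i) = p ^ 4 by
      rw [pow_add, ← ha, ← hi, A.card_mul_index, h4])
    have hle := (Nat.pow_le_pow_iff_right hp.one_lt).mp hb
    have ha3 : 3 ≤ a := by
      by_contra hcon
      interval_cases a <;> omega
    refine ⟨A, hAab, ?_⟩
    rcases (show i = 0 ∨ i = 1 by omega) with rfl | rfl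
    · exfalso
      apply hQna
      have hAt := Subgroup.index_eq_one.mp (hi.trans (pow_zero p))
      refine ⟨⟨fun u v => Subtype.ext ?_⟩⟩
      have h1 := congrArg Subtype.val (hAab.is_comm.comm
        (⟨u, hAt.ge (Subgroup.mem_top _)⟩ : A) ⟨v, hAt.ge (Subgroup.mem_top _)⟩)
      exact h1
    · rw [hi, pow_one]

end Cfsg.Agent.S3810
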