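import Cfsg.Statements.S3811
import Mathlib
import Cfsg.Agent.Coprime.Hall

set_option autoImplicit false
open Cfsg

namespace Cfsg.Agent.S3811


open Subgroup Cfsg.Lib.Coprime
open scoped commutatorElement

universe u

variable {G : Type u} [Group G] [Finite G] {p : ℕ} [hp : Fact p.Prime]

omit hp in
theorem normalizer_lt (hG : Group.IsNilpotent G) {S : Subgroup G} (h : S ≠ ⊤) :
    S < normalizer (S : Set G) :=
  Group.normalizerCondition_of_isNilpotent S (lt_top_iff_ne_top.2 h)

omit hp in
theorem lt_normalizer_inf (hG : Group.IsNilpotent G) {S K : Subgroup G} (h : S < K) :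
    S < K ⊓ normalizer (S : Set G) := by
  refine lt_of_le_of_ne (le_inf h.le le_normalizer) fun e => ?_
  haveI := hG
  have h1 : S.subgroupOf K ≠ ⊤ := fun e' => h.not_ge (subgroupOf_eq_top.1 e')
  obtain ⟨x, hx, hxS⟩ := SetLike.exists_of_lt (normalizer_lt (G := K) inferInstance h1)
  have h2 : (x : G) ∈ K ⊓ normalizer (S : Set G) := ⟨x.2, mem_normalizer_iff.2 fun y => by
    constructor
    · intro hy
      exact (mem_normalizer_iff.1 hx ⟨y, h.le hy⟩).1 hy
    · intro hy
      have hyK : y ∈ K := by
        have := K.mul_mem (K.mul_mem (K.inv_mem x.2) (h.le hy)) x.2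
        simpa [mul_assoc] using this
      exact (mem_normalizer_iff.1 hx ⟨y, hyK⟩).2 hy⟩
  rw [← e] at h2
  exact hxS h2

/-- Consequences of index `p` in the normalizer. -/
theorem eq_of_lt_of_le {S K : Subgroup G} (h : S < K) (hK : K ≤ normalizer (S : Set G))
    (hS : S.relIndex (normalizer (S : Set G)) = p) : K = normalizer (S : Set G) := by
  have h1 := relIndex_mul_relIndex S K (normalizer (S : Set G)) h.le hK
  rw [hS] at h1
  rcases (Nat.dvd_prime hp.out).1 (Dvd.intro _ h1) with h2 | h2
  · exact absurd (relIndex_eq_one.1 h2) h.not_ge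
  · rw [h2] at h1
    have h3 : K.relIndex (normalizer (S : Set G)) = 1 :=
      Nat.eq_of_mul_eq_mul_left hp.out.pos (by rw [mul_one]; exact h1)
    exact le_antisymm hK (relIndex_eq_one.1 h3)

omit [Finite G] hp in
theorem mem_normalizer_of_commutator {S : Subgroup G} [Finite G] {c : G} (h : ∀ e ∈ S, c * e * c⁻¹ * e⁻¹ ∈ S) :
    c ∈ normalizer (S : Set G) := by
  have h1 : conjMap c S ≤ S := by
    intro a ha
    rw [mem_conjMap] at ha
    have := mul_mem (h _ ha) ha
    simpa [mul_assoc] using this
  exact conjMap_eq_self_iff.1 (eq_of_le_of_card_eq h1 (card_conjMap c S))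

omit [Finite G] hp in
theorem relIndex_quotient (Z : Subgroup G) [Z.Normal] {S : Subgroup G} (hS : Z ≤ S) :
    (S.map (QuotientGroup.mk' Z)).relIndex (normalizer ((S.map (QuotientGroup.mk' Z) : Subgroup (G ⧸ Z)) : Set (G ⧸ Z)))
      = S.relIndex (normalizer (S : Set G)) := by
  have hcm : (S.map (QuotientGroup.mk' Z)).comap (QuotientGroup.mk' Z) = S := by
    rw [comap_map_eq, QuotientGroup.ker_mk', sup_eq_left.2 hS]
  have hN : (normalizer (S : Set G)).map (QuotientGroup.mk' Z) =
      normalizer ((S.map (QuotientGroup.mk' Z) : Subgroup (G ⧸ Z)) : Set (G ⧸ Z)) := by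
    have h := comap_normalizer_eq_of_surjective (S.map (QuotientGroup.mk' Z)) (QuotientGroup.mk'_surjective Z)
    rw [hcm] at h
    rw [← h, map_comap_eq_self_of_surjective (QuotientGroup.mk'_surjective Z)]
  rw [← hN, ← relIndex_comap, hcm]

/-- The orbit of `E` below the second normalizer has size `p`. -/
theorem second_step (hG : IsPGroup p G) (E : Subgroup G) (hab : ∀ a ∈ E, ∀ b ∈ E, a * b = b * a)
    (hC : centralizer (E : Set G) ≤ E) (hN : E.relIndex (normalizer (E : Set G)) = p)
    (htop : normalizer (E : Set G) ≠ ⊤) :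
    (normalizer (E : Set G)).relIndex (normalizer ((normalizer (E : Set G) : Subgroup G) : Set G)) = p := by
  set N := normalizer (E : Set G) with hNdef
  set L := normalizer (N : Set G)
  haveI := hG.isNilpotent
  have hEN : E ≤ N := le_normalizer
  have hNL : N < L := normalizer_lt hG.isNilpotent htop
  obtain ⟨k, hk⟩ : ∃ k, N.relIndex L = p ^ k := by
    obtain ⟨m, hm⟩ := IsPGroup.iff_card.1 (hG.to_subgroup L)
    obtain ⟨k, -, hk⟩ := (Nat.dvd_prime_pow hp.out).1 (hm ▸ relIndex_dvd_card N L)
    exact ⟨k, hk⟩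
  have hk0 : k ≠ 0 := fun h => hNL.not_ge (relIndex_eq_one.1 (by rw [hk, h, pow_zero]))
  have hcardN : Nat.card E * p = Nat.card N := by
    rw [← hN, ← relIndex_bot_left E, relIndex_mul_relIndex _ _ _ bot_le hEN, relIndex_bot_left]
  -- conjugates of `E` in `N`
  have hconjN : ∀ g ∈ L, conjMap g E ≤ N := fun g hg => by
    rw [← conjMap_eq_self (H := N) hg]; exact conjMap_mono hEN
  have hconjC : ∀ g : G, ∀ a ∈ conjMap g E, ∀ b ∈ conjMap g E, a * b = b * a := by
    intro g a ha b hb
    obtain ⟨a, ha, rfl⟩ := ha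
    obtain ⟨b, hb, rfl⟩ := hb
    rw [← map_mul, ← map_mul, hab a ha b hb]
  classical
  set Z := centralizer (N : Set G) with hZdef
  have hZE : Z ≤ E := (centralizer_le hEN).trans hC
  have hZlt : Z ≠ E := by
    intro e
    have h1 : N ≤ E := fun n hn => hC (mem_centralizer_iff.2 fun a ha =>
      (mem_centralizer_iff.1 (e.ge ha) n hn).symm)
    rw [relIndex_eq_one.2 h1] at hN
    exact hp.out.ne_one hN.symm
  have hZinv : ∀ g ∈ L, conjMap g Z = Z := fun g hg => by
    refine eq_of_le_of_card_eq (fun a ha => ?_) (card_conjMap g Z)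
    rw [mem_conjMap] at ha
    refine mem_centralizer_iff.2 fun m hm => ?_
    have h3 : g⁻¹ * m * g ∈ N := by
      simpa using (mem_normalizer_iff.1 (inv_mem hg) m).1 hm
    have h4 := mem_centralizer_iff.1 ha _ h3
    calc m * a = g * ((g⁻¹ * m * g) * (g⁻¹ * a * g)) * g⁻¹ := by group
      _ = g * ((g⁻¹ * a * g) * (g⁻¹ * m * g)) * g⁻¹ := by rw [h4]
      _ = a * m := by group
  have hEinf : ∀ g ∈ L, conjMap g E ≠ E → conjMap g E ⊓ E = Z ∧ Nat.card E = Nat.card Z * p := by
    intro g hg hne
    have hlt : E < E ⊔ conjMap g E := lt_of_le_of_ne le_sup_left fun e =>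
      hne (eq_of_le_of_card_eq (le_sup_right.trans e.ge) (card_conjMap g E))
    have hsup : E ⊔ conjMap g E = N := eq_of_lt_of_le hlt (sup_le hEN (hconjN g hg)) hN
    have h1 : E ⊓ conjMap g E ≤ Z := by
      rw [hZdef, ← hsup, le_centralizer_iff]
      exact sup_le (fun a ha => mem_centralizer_iff.2 fun b hb => hab b hb.1 a ha)
        (fun a ha => mem_centralizer_iff.2 fun b hb => hconjC g b hb.2 a ha)
    have h2 : Nat.card ↥(E ⊔ conjMap g E) * Nat.card ↥(E ⊓ conjMap g E) = Nat.card E * Nat.card (conjMap g E) :=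
      card_sup_mul_card_inf (hconjN g hg)
    rw [hsup, card_conjMap, ← hcardN, mul_assoc, mul_comm p] at h2
    have h3 := Nat.eq_of_mul_eq_mul_left Nat.card_pos h2
    obtain ⟨i, hi⟩ := IsPGroup.iff_card.1 (hG.to_subgroup Z)
    obtain ⟨j, hj⟩ := IsPGroup.iff_card.1 (hG.to_subgroup E)
    obtain ⟨l, hl⟩ := IsPGroup.iff_card.1 (hG.to_subgroup (E ⊓ conjMap g E))
    have h4 : l ≤ i := by
      refine (Nat.pow_le_pow_iff_right hp.out.one_lt).1 ?_
      rw [← hl, ← hi]; exact Nat.le_of_dvd Nat.card_pos (card_dvd_of_le h1)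
    have h5 : i < j := by
      refine (Nat.pow_lt_pow_iff_right hp.out.one_lt).1 ?_
      rw [← hi, ← hj]
      exact lt_of_le_of_ne (Nat.le_of_dvd Nat.card_pos (card_dvd_of_le hZE))
        fun e => hZlt (eq_of_le_of_card_eq hZE e)
    rw [hl, hj, ← pow_succ] at h3
    have h6 := Nat.pow_right_injective hp.out.two_le h3
    refine ⟨inf_comm (α := Subgroup G) _ _ ▸ eq_of_le_of_card_eq h1 (by rw [hl, hi, show l = i by omega]), ?_⟩
    rw [hi, hj, ← pow_succ, show j = i + 1 by omega]
  have hint : ∀ g ∈ L, ∀ h ∈ L, conjMap g E ≠ conjMap h E → conjMap g E ⊓ conjMap h E = Z := by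
    intro g hg h hh hne
    have hne' : conjMap (h⁻¹ * g) E ≠ E := fun e => hne (by
      rw [show g = h * (h⁻¹ * g) by group, ← conjMap_mul, e])
    rw [show g = h * (h⁻¹ * g) by group, ← conjMap_mul, ← conjMap_inf,
      (hEinf _ (mul_mem (inv_mem hh) hg) hne').1, hZinv h hh]
  clear_value Z
  -- count
  haveI := Fintype.ofFinite G
  have hstab : ∀ g ∈ L, conjMap g E = E → g ∈ N := fun g _ e => conjMap_eq_self_iff.1 e
  choose rep hrep using QuotientGroup.mk_surjective (s := N.subgroupOf L)
  have hinjE : ∀ u v, conjMap ((rep u : L) : G) E = conjMap ((rep v : L) : G) E → u = v := by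
    intro u v e
    rw [← hrep u, ← hrep v, QuotientGroup.eq]
    refine hstab _ (mul_mem (inv_mem (rep u).2) (rep v).2) ?_
    show conjMap ((rep u : G)⁻¹ * (rep v : G)) E = E
    rw [← conjMap_mul, ← e, conjMap_inv_conjMap]
  have hinE : ∀ g : G, ∀ a ∈ E, g * a * g⁻¹ ∈ conjMap g E := fun g a ha => by
    rw [mem_conjMap]; simpa [mul_assoc] using ha
  let f : (L ⧸ N.subgroupOf L) × {a : E // (a : G) ∉ Z} → {a : N // (a : G) ∉ Z} := fun w =>
    ⟨⟨(rep w.1 : G) * (w.2.1 : G) * (rep w.1 : G)⁻¹, hconjN _ (rep w.1).2 (hinE _ _ w.2.1.2)⟩, fun hz => by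
      have hz' := (hZinv _ (rep w.1).2).ge hz
      rw [mem_conjMap] at hz'
      exact w.2.2 (by simpa [mul_assoc] using hz')⟩
  have hinj : Function.Injective f := by
    rintro ⟨u, a⟩ ⟨v, b⟩ e
    have e' : (rep u : G) * (a.1 : G) * (rep u : G)⁻¹ = (rep v : G) * (b.1 : G) * (rep v : G)⁻¹ :=
      congrArg (fun t : {a : N // (a : G) ∉ Z} => ((t.1 : N) : G)) e
    have huv : u = v := by
      by_contra hne
      refine (f (u, a)).2 ((hint _ (rep u).2 _ (rep v).2 fun h => hne (hinjE u v h)).le ⟨hinE _ _ a.1.2, ?_⟩)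
      show (rep u : G) * (a.1 : G) * (rep u : G)⁻¹ ∈ conjMap (rep v : G) E
      rw [e']
      exact hinE _ _ b.1.2
    subst huv
    exact Prod.ext rfl (Subtype.ext (Subtype.ext (mul_left_cancel (mul_right_cancel e'))))
  have hle := Nat.card_le_card_of_injective f hinj
  have hcomp : ∀ S : Subgroup G, Z ≤ S → Nat.card {a : S // (a : G) ∉ Z} = Nat.card S - Nat.card Z := by
    intro S hS
    rw [Nat.card_eq_fintype_card, Fintype.card_subtype_compl, ← Nat.card_eq_fintype_card, ← Nat.card_eq_fintype_card,
      show Nat.card {a : S // (a : G) ∈ Z} = Nat.card (Z.subgroupOf S) from rfl,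
      Nat.card_congr (subgroupOfEquivOfLe hS).toEquiv]
  rw [Nat.card_prod, hcomp E hZE, hcomp N (hZE.trans hEN),
    show Nat.card (L ⧸ N.subgroupOf L) = N.relIndex L from rfl, hk, ← hcardN] at hle
  -- the index of `Z` in `E`
  obtain ⟨g, hg, hgE⟩ : ∃ g ∈ L, conjMap g E ≠ E := by
    by_contra hh
    push Not at hh
    exact hNL.not_ge fun g hg => hstab g hg (hh g hg)
  have hcz : Nat.card E = Nat.card Z * p := (hEinf g hg hgE).2
  rw [hcz, mul_assoc, ← Nat.mul_sub_one, ← Nat.mul_sub_one] at hle
  rw [mul_left_comm] at hle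
  have h3 : p ^ k * (p - 1) ≤ p * p - 1 := Nat.le_of_mul_le_mul_left hle Nat.card_pos
  have h4 : p * p - 1 = (p + 1) * (p - 1) := by rw [← Nat.mul_self_sub_mul_self_eq p 1, mul_one]
  rw [h4] at h3
  have h5 : p ^ k ≤ p + 1 := Nat.le_of_mul_le_mul_right h3 (by have := hp.out.two_le; omega)
  rw [hk]
  rcases Nat.lt_or_ge k 2 with h | h
  · rw [show k = 1 by omega, pow_one]
  · have h6 : p * p ≤ p ^ k := by rw [← sq]; exact Nat.pow_le_pow_right hp.out.pos h
    have := hp.out.two_le
    nlinarith

/-- The chain and the class bound. -/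
theorem core (p : ℕ) [hp : Fact p.Prime] : ∀ (n : ℕ) (G : Type u) [Group G] [Finite G], Nat.card G ≤ n →
    IsPGroup p G → ∀ E : Subgroup G, (∀ a ∈ E, ∀ b ∈ E, a * b = b * a) → centralizer (E : Set G) ≤ E →
    E.relIndex (normalizer (E : Set G)) = p →
    (∀ K : Subgroup G, E ≤ K → K ≠ ⊤ → K.relIndex (normalizer (K : Set G)) = p) ∧
    ∀ (i : ℕ) (K : Subgroup G), E ≤ K → K ≠ ⊤ → K.index * p ^ i = E.index → K.lowerCentralSeries (i + 1) = ⊥ := by
  intro n
  induction n with
  | zero => intro G _ _ h; exact absurd h (not_le.2 Nat.card_pos)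
  | succ n ih =>
    intro G _ _ hn hG E hab hC hN
    haveI := hG.isNilpotent
    set N := normalizer (E : Set G) with hNdef
    have hEN : E < N := lt_of_le_of_ne le_normalizer fun e => by
      rw [← e, relIndex_self] at hN; exact hp.out.ne_one hN.symm
    haveI : Nontrivial G := by
      by_contra hh
      rw [not_nontrivial_iff_subsingleton] at hh
      exact hEN.ne (Subsingleton.elim _ _)
    haveI : Nontrivial (center G) := hG.center_nontrivial
    obtain ⟨w, hw⟩ := exists_ne (1 : center G)
    obtain ⟨z, hz⟩ := exists_prime_orderOf_dvd_card' (G := center G) p (by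
      obtain ⟨m, hm⟩ := IsPGroup.iff_card.1 (hG.to_subgroup (center G))
      rw [hm]
      refine dvd_pow_self p fun h => hw ?_
      haveI := (Nat.card_eq_one_iff_unique.1 (by rw [hm, h, pow_zero] : Nat.card (center G) = 1)).1
      exact Subsingleton.elim _ _)
    set Z := zpowers (z : G) with hZdef
    have hZc : Z ≤ center G := zpowers_le.2 z.2
    haveI : Z.Normal := ⟨fun a ha g => by rw [mem_center_iff.1 (hZc ha) g, mul_inv_cancel_right]; exact ha⟩
    have hZE : Z ≤ E := (hZc.trans (center_le_centralizer _)).trans hC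
    have hZb : Z ≠ ⊥ := by
      intro e
      have h1 : Nat.card Z = 1 := by rw [e, card_bot]
      rw [hZdef, Nat.card_zpowers, Subgroup.orderOf_coe, hz] at h1
      exact hp.out.ne_one h1
    set π := QuotientGroup.mk' Z with hπ
    have hcard : Nat.card (G ⧸ Z) ≤ n := by have := card_quotient_lt (G := G) hZb; omega
    have hGq : IsPGroup p (G ⧸ Z) := hG.to_quotient Z
    have hmem : ∀ {S : Subgroup G}, Z ≤ S → ∀ {g : G}, π g ∈ S.map π → g ∈ S := by
      intro S hS g hg
      have : g ∈ (S.map π).comap π := hg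
      rwa [comap_map_eq, QuotientGroup.ker_mk', sup_eq_left.2 hS] at this
    have hne : ∀ {S : Subgroup G}, Z ≤ S → S ≠ ⊤ → S.map π ≠ ⊤ := fun {S} hS h e => h (eq_top_iff.2 fun g _ =>
      hmem hS (e.ge (mem_top _)))
    have hidx : ∀ {S : Subgroup G}, Z ≤ S → (S.map π).index = S.index := fun {S} hS =>
      index_map_eq _ (QuotientGroup.mk'_surjective Z) (by rwa [QuotientGroup.ker_mk'])
    have hlift : ∀ (S : Subgroup G) (m : ℕ), (S.map π).lowerCentralSeries m = ⊥ → S.lowerCentralSeries m ≤ Z :=
      fun S m h => by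
        rw [← map_lowerCentralSeries, Subgroup.map_eq_bot_iff, QuotientGroup.ker_mk'] at h
        exact h
    have hcentral : ∀ (S : Subgroup G) (m : ℕ), S.lowerCentralSeries m ≤ Z → S.lowerCentralSeries (m + 1) = ⊥ := by
      intro S m h
      rw [Subgroup.lowerCentralSeries_succ, eq_bot_iff, commutator_le]
      intro a ha b _
      exact mem_bot.2 (commutatorElement_eq_one_iff_mul_comm.2 (mem_center_iff.1 (hZc (h ha)) b).symm)
    have hover : ∀ K : Subgroup G, E ≤ K → K ≠ E → N ≤ K := by
      intro K hEK hne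
      have h1 := lt_normalizer_inf hG.isNilpotent (lt_of_le_of_ne hEK hne.symm)
      exact (eq_of_lt_of_le h1 inf_le_right hN).ge.trans inf_le_left
    by_cases hA : ⁅N, N⁆ ≤ Z
    · have habq : ∀ a ∈ N.map π, ∀ b ∈ N.map π, a * b = b * a := by
        rintro _ ⟨a, ha, rfl⟩ _ ⟨b, hb, rfl⟩
        rw [← commutatorElement_eq_one_iff_mul_comm, ← map_commutatorElement]
        exact (QuotientGroup.eq_one_iff _).2 (hA (commutator_mem_commutator ha hb))
      have hCq : centralizer ((N.map π : Subgroup (G ⧸ Z)) : Set (G ⧸ Z)) ≤ N.map π := by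
        intro c hc
        obtain ⟨c, rfl⟩ := QuotientGroup.mk'_surjective Z c
        refine mem_map_of_mem π (mem_normalizer_of_commutator fun e he => hZE ?_)
        refine (QuotientGroup.eq_one_iff _).1 ?_
        have h := mem_centralizer_iff.1 hc (π e) (mem_map_of_mem π (hEN.le he))
        show π (c * e * c⁻¹ * e⁻¹) = 1
        rw [map_mul, map_mul, map_mul, ← h, map_inv, map_inv, mul_inv_cancel_right, mul_inv_cancel]
      have hZN : Z ≤ N := hZE.trans hEN.le
      have hrec : N ≠ ⊤ → (∀ K : Subgroup G, N ≤ K → K ≠ ⊤ → K.relIndex (normalizer (K : Set G)) = p) ∧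
          ∀ (i : ℕ) (K : Subgroup G), N ≤ K → K ≠ ⊤ → K.index * p ^ i = N.index → K.lowerCentralSeries (i + 1) ≤ Z := by
        intro hNt
        obtain ⟨h1, h2⟩ := ih (G ⧸ Z) hcard hGq (N.map π) habq hCq
          (by rw [hπ, relIndex_quotient Z hZN]; exact second_step hG E hab hC hN hNt)
        refine ⟨fun K hK hKt => ?_, fun i K hK hKt hi => ?_⟩
        · rw [← relIndex_quotient Z (hZN.trans hK)]
          exact h1 _ (map_mono hK) (hne (hZN.trans hK) hKt)
        · exact hlift K _ (h2 i _ (map_mono hK) (hne (hZN.trans hK) hKt) (by rw [hidx (hZN.trans hK), hidx hZN, hi]))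
      have hEidx : E.index = p * N.index := by rw [← hN]; exact (relIndex_mul_index hEN.le).symm
      refine ⟨fun K hK hKt => ?_, fun i K hK hKt hi => ?_⟩
      · by_cases hKE : K = E
        · subst hKE; exact hN
        · have hNK := hover K hK hKE
          exact (hrec fun e => hKt (top_le_iff.1 (e ▸ hNK))).1 K hNK hKt
      · by_cases hKE : K = E
        · subst hKE
          have hi0 : i = 0 := by
            by_contra h
            have h1 : 1 < p ^ i := Nat.one_lt_pow h hp.out.one_lt
            have h2 : 0 < K.index := Nat.pos_of_ne_zero index_ne_zero_of_finite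
            nlinarith
          subst hi0
          rw [Subgroup.lowerCentralSeries_succ, Subgroup.lowerCentralSeries_zero, eq_bot_iff, commutator_le]
          intro a ha b hb
          exact mem_bot.2 (commutatorElement_eq_one_iff_mul_comm.2 (hab a ha b hb))
        · have hNK := hover K hK hKE
          have hlt : K.index < E.index := by
            have h1 := relIndex_mul_index hNK
            have h2 : 0 < N.relIndex K := Nat.pos_of_ne_zero fun h => by
              rw [h, zero_mul] at h1; exact index_ne_zero_of_finite h1.symm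
            have h3 : 0 < K.index := Nat.pos_of_ne_zero index_ne_zero_of_finite
            rw [hEidx, ← h1]
            calc K.index = 1 * K.index := (one_mul _).symm
              _ < p * (N.relIndex K * K.index) := by
                rw [← mul_assoc]
                exact Nat.mul_lt_mul_of_pos_right
                  (lt_of_lt_of_le hp.out.one_lt (Nat.le_mul_of_pos_right p h2)) h3
          obtain ⟨j, rfl⟩ : ∃ j, i = j + 1 := by
            refine ⟨i - 1, ?_⟩
            rcases Nat.eq_zero_or_pos i with rfl | h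
            · rw [pow_zero, mul_one] at hi; omega
            · omega
          refine hcentral K (j + 1) ((hrec fun e => hKt (top_le_iff.1 (e ▸ hNK))).2 j K hNK hKt ?_)
          rw [hEidx, pow_succ, ← mul_assoc, mul_comm p N.index] at hi
          exact Nat.eq_of_mul_eq_mul_right hp.out.pos hi
    · have hCq : centralizer ((E.map π : Subgroup (G ⧸ Z)) : Set (G ⧸ Z)) ≤ E.map π := by
        intro c hc
        obtain ⟨c, rfl⟩ := QuotientGroup.mk'_surjective Z c
        have hcN : c ∈ N := mem_normalizer_of_commutator fun e he => hZE <| by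
          refine (QuotientGroup.eq_one_iff _).1 ?_
          have h := mem_centralizer_iff.1 hc (π e) (mem_map_of_mem π he)
          show π (c * e * c⁻¹ * e⁻¹) = 1
          rw [map_mul, map_mul, map_mul, ← h, map_inv, map_inv, mul_inv_cancel_right, mul_inv_cancel]
        refine mem_map_of_mem π (by_contra fun hcE => hA ?_)
        have hsup : E ⊔ zpowers c = N := eq_of_lt_of_le
          (lt_of_le_of_ne le_sup_left fun e => hcE (e.ge (mem_sup_right (mem_zpowers c))))
          (sup_le hEN.le (zpowers_le.2 hcN)) hN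
        set C := E.map π ⊔ zpowers (π c)
        have hCC : C ≤ centralizer (C : Set (G ⧸ Z)) := by
          have hEc : E.map π ≤ centralizer (C : Set (G ⧸ Z)) := by
            rw [le_centralizer_iff]
            refine sup_le ?_ (zpowers_le.2 hc)
            rintro _ ⟨b, hb, rfl⟩
            refine mem_centralizer_iff.2 ?_
            rintro _ ⟨a, ha, rfl⟩
            rw [← map_mul, ← map_mul, hab a ha b hb]
          refine sup_le hEc (zpowers_le.2 (mem_centralizer_iff.2 fun a ha => ?_))
          have h2 : C ≤ centralizer ({π c} : Set (G ⧸ Z)) :=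
            sup_le (fun b hb => mem_centralizer_singleton_iff.2 (mem_centralizer_iff.1 hc b hb))
              (zpowers_le.2 (mem_centralizer_singleton_iff.2 rfl))
          exact mem_centralizer_singleton_iff.1 (h2 ha)
        have h2 : ⁅N, N⁆.map π = ⊥ := by
          rw [map_commutator, ← hsup, Subgroup.map_sup, MonoidHom.map_zpowers, eq_bot_iff, commutator_le]
          intro a ha b hb
          exact mem_bot.2 (commutatorElement_eq_one_iff_mul_comm.2 (mem_centralizer_iff.1 (hCC hb) a ha))
        rwa [Subgroup.map_eq_bot_iff, QuotientGroup.ker_mk'] at h2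
      obtain ⟨h1, h2⟩ := ih (G ⧸ Z) hcard hGq (E.map π)
        (by rintro _ ⟨a, ha, rfl⟩ _ ⟨b, hb, rfl⟩; rw [← map_mul, ← map_mul, hab a ha b hb]) hCq
        (by rw [hπ, relIndex_quotient Z hZE]; exact hN)
      have hchain : ∀ K : Subgroup G, E ≤ K → K ≠ ⊤ → K.relIndex (normalizer (K : Set G)) = p := fun K hK hKt => by
        rw [← relIndex_quotient Z (hZE.trans hK)]
        exact h1 _ (map_mono hK) (hne (hZE.trans hK) hKt)
      refine ⟨hchain, fun i K hK hKt hi => ?_⟩
      have h3 : (K.map π).lowerCentralSeries (i + 1) = ⊥ :=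
        h2 i _ (map_mono hK) (hne (hZE.trans hK) hKt) (by rw [hidx (hZE.trans hK), hidx hZE, hi])
      set X := K.lowerCentralSeries i with hX
      have hXE : X ≤ E := by
        intro x hx
        refine hmem hZE (hCq (mem_centralizer_iff.2 ?_))
        rintro _ ⟨e, he, rfl⟩
        have h5 : π ⁅x, e⁆ = 1 := by
          refine mem_bot.1 (h3 ▸ ?_)
          rw [map_commutatorElement, Subgroup.lowerCentralSeries_succ, ← map_lowerCentralSeries]
          exact commutator_mem_commutator (mem_map_of_mem π hx) (mem_map_of_mem π (hK he))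
        rw [map_commutatorElement, commutatorElement_eq_one_iff_mul_comm] at h5
        exact h5.symm
      set L := normalizer (K : Set G)
      have hKL : K < L := normalizer_lt hG.isNilpotent hKt
      have hXg : ∀ g ∈ L, conjMap g X = X := fun g hg => by
        show (K.lowerCentralSeries i).map _ = _
        rw [map_lowerCentralSeries]
        congr 1
        exact conjMap_eq_self (H := K) hg
      set S := {a : G | ∃ g ∈ L, a ∈ conjMap g E}
      set J := closure S
      have hJK : J ≤ K := (closure_le K).2 (by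
        rintro a ⟨g, hg, ha⟩
        exact (conjMap_eq_self (H := K) hg).le (conjMap_mono hK ha))
      have hEJ : E ≤ J := fun a ha => subset_closure ⟨1, one_mem _, by rwa [conjMap_one]⟩
      have hLJ : L ≤ normalizer (J : Set G) := by
        intro l hl
        refine conjMap_eq_self_iff.1 (eq_of_le_of_card_eq ?_ (card_conjMap l J))
        show (closure S).map _ ≤ closure S
        rw [MonoidHom.map_closure]
        refine closure_mono ?_
        rintro _ ⟨a, ⟨g, hg, ha⟩, rfl⟩
        exact ⟨l * g, mul_mem hl hg, by rw [← conjMap_mul]; exact ⟨a, ha, rfl⟩⟩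
      have hJ : J = K := by
        by_contra hne'
        have hlt : J < K := lt_of_le_of_ne hJK hne'
        have e := eq_of_lt_of_le hlt (hKL.le.trans hLJ) (hchain J hEJ fun e => hKt (top_le_iff.1 (e ▸ hJK)))
        exact hKL.not_ge (hLJ.trans e.ge)
      rw [Subgroup.lowerCentralSeries_succ, commutator_eq_bot_iff_le_centralizer, le_centralizer_iff, ← hX]
      refine hJ.ge.trans ((closure_le _).2 ?_)
      rintro a ⟨g, hg, ha⟩
      refine mem_centralizer_iff.2 fun b hb => ?_
      have hb' : b ∈ conjMap g E := conjMap_mono hXE ((hXg g hg).ge hb)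
      obtain ⟨a, ha, rfl⟩ := ha
      obtain ⟨b, hb', rfl⟩ := hb'
      rw [← map_mul, ← map_mul, hab b hb' a ha]

theorem lower_bound (hG : IsPGroup p G) (E : Subgroup G) (hC : centralizer (E : Set G) ≤ E)
    (hchain : ∀ K : Subgroup G, E ≤ K → K ≠ ⊤ → K.relIndex (normalizer (K : Set G)) = p)
    (K : Subgroup G) [Group.IsNilpotent K] (hK : E ≤ K) (hKt : K ≠ ⊤) (c : ℕ)
    (hc : Group.nilpotencyClass K = c + 1) : E.index ≤ K.index * p ^ c := by
  set B : ℕ → Subgroup G := fun j => (E.subgroupOf K ⊔ Subgroup.upperCentralSeries K j).map K.subtype with hB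
  have hB1 : B 1 = E := by
    simp only [hB]
    rw [sup_eq_left.2 ?_, map_subgroupOf_eq_of_le hK]
    rw [Subgroup.upperCentralSeries_one]
    intro a ha
    exact hC (mem_centralizer_iff.2 fun e he => congrArg Subtype.val (mem_center_iff.1 ha ⟨e, hK he⟩))
  have hBtop : B (c + 1) = K := by
    simp only [hB]
    rw [show Subgroup.upperCentralSeries K (c + 1) = ⊤ from hc ▸ Subgroup.upperCentralSeries_nilpotencyClass, sup_top_eq,
      ← MonoidHom.range_eq_map, range_subtype]
  have hmono : ∀ j, B j ≤ B (j + 1) := fun j =>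
    map_mono (sup_le_sup_left (Subgroup.upperCentralSeries_mono K (Nat.le_succ j)) _)
  have hEB : ∀ j, E ≤ B j := fun j => by
    refine le_trans ?_ (map_mono (le_sup_left : E.subgroupOf K ≤ _))
    rw [map_subgroupOf_eq_of_le hK]
  have hnorm : ∀ j, B (j + 1) ≤ normalizer (B j : Set G) := by
    intro j
    refine le_trans (map_mono ?_) (le_normalizer_map K.subtype)
    refine sup_le ((le_sup_left : E.subgroupOf K ≤ E.subgroupOf K ⊔ Subgroup.upperCentralSeries K j).trans le_normalizer) ?_
    intro g hg
    exact mem_normalizer_of_commutator fun h _ => mem_sup_right (Subgroup.mem_upperCentralSeries_succ_iff.1 hg h)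
  have hstep : ∀ j, j ≤ c → E.index ≤ (B (j + 1)).index * p ^ j := by
    intro j
    induction j with
    | zero => intro _; rw [hB1, pow_zero, mul_one]
    | succ j ih =>
      intro hj
      have h1 := ih (by omega)
      have hBK : B (j + 1) ≤ K := map_subtype_le _
      have hne : B (j + 1) ≠ ⊤ := fun e => hKt (top_le_iff.1 (e ▸ hBK))
      have h2 : (B (j + 1)).relIndex (B (j + 1 + 1)) ≤ p := by
        rw [← hchain (B (j + 1)) (hEB _) hne]
        have := relIndex_mul_relIndex (B (j + 1)) (B (j + 1 + 1)) (normalizer (B (j + 1) : Set G)) (hmono _) (hnorm _)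
        rw [← this]
        exact Nat.le_mul_of_pos_right _ (Nat.pos_of_ne_zero fun h => by
          rw [h, mul_zero, hchain _ (hEB _) hne] at this
          exact hp.out.pos.ne this)
      have h3 := relIndex_mul_index (hmono (j + 1))
      calc E.index ≤ (B (j + 1)).index * p ^ j := h1
        _ ≤ p * (B (j + 1 + 1)).index * p ^ j := Nat.mul_le_mul_right _ (h3 ▸ Nat.mul_le_mul_right _ h2)
        _ = _ := by ring
  have := hstep c le_rfl
  rwa [hBtop] at this

theorem main (hG : IsPGroup p G) (E : Subgroup G) (hab : IsMulCommutative E)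
    (hC : centralizer (E : Set G) ≤ E) (hN : E.relIndex (normalizer (E : Set G)) = p) :
    (∀ K L : Subgroup G, E ≤ K → E ≤ L → K ≤ L ∨ L ≤ K) ∧
      (∀ K : Subgroup G, E ≤ K → K ≠ ⊤ → K.relIndex (normalizer (K : Set G)) = p) ∧
      ∀ (i : ℕ) (K : Subgroup G) [Group.IsNilpotent ↥K], E ≤ K → K ≠ ⊤ → K.index * p ^ i = E.index →
        Group.nilpotencyClass ↥K = i + 1 := by
  have hab' : ∀ a ∈ E, ∀ b ∈ E, a * b = b * a := fun a ha b hb =>
    congrArg Subtype.val (hab.is_comm.comm ⟨a, ha⟩ ⟨b, hb⟩)
  obtain ⟨hchain, hclass⟩ := core p _ G le_rfl hG E hab' hC hN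
  refine ⟨fun K L hK hL => ?_, hchain, fun i K _ hK hKt hi => ?_⟩
  · by_contra hh
    push Not at hh
    set J := K ⊓ L
    have hJt : J ≠ ⊤ := fun e => hh.2 ((le_top : L ≤ ⊤).trans (e.ge.trans inf_le_left))
    have h := hchain J (le_inf hK hL) hJt
    have h1 := lt_normalizer_inf hG.isNilpotent (lt_of_le_of_ne inf_le_left fun e => hh.1 (e ▸ inf_le_right) : J < K)
    have h2 := lt_normalizer_inf hG.isNilpotent (lt_of_le_of_ne inf_le_right fun e => hh.2 (e ▸ inf_le_left) : J < L)
    have e1 := eq_of_lt_of_le h1 inf_le_right h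
    have e2 := eq_of_lt_of_le h2 inf_le_right h
    exact h1.not_ge (le_inf inf_le_left ((e1.le.trans e2.ge).trans inf_le_left))
  · have hup : Group.nilpotencyClass K ≤ i + 1 := by
      rw [← Subgroup.lowerCentralSeries_eq_bot_iff_nilpotencyClass_le]
      refine (map_eq_bot_iff_of_injective _ K.subtype_injective).1 ?_
      rw [Subgroup.top_subtype_lowerCentralSeries]
      exact hclass i K hK hKt hi
    obtain ⟨c, hc⟩ : ∃ c, Group.nilpotencyClass K = c + 1 := by
      refine ⟨Group.nilpotencyClass K - 1, (Nat.sub_add_cancel (Nat.pos_of_ne_zero fun h => ?_)).symm⟩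
      rw [nilpotencyClass_zero_iff_subsingleton] at h
      have hKb : K = ⊥ := (eq_bot_iff_forall _).2 fun a ha =>
        congrArg Subtype.val (Subsingleton.elim (⟨a, ha⟩ : K) 1)
      have hEb : E = ⊥ := le_bot_iff.1 (hKb ▸ hK)
      rw [hEb, coe_bot, show centralizer ({1} : Set G) = ⊤ from eq_top_iff.2 fun g _ =>
        mem_centralizer_singleton_iff.2 (by simp)] at hC
      exact hKt (top_le_iff.1 (hC.trans bot_le))
    have hlow := lower_bound hG E hC hchain K hK hKt c hc
    rw [← hi] at hlow
    have := (Nat.pow_le_pow_iff_right hp.out.one_lt).1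
      (Nat.le_of_mul_le_mul_left hlow (Nat.pos_of_ne_zero index_ne_zero_of_finite))
    omega


/-- Let P be a finite p-group and E an abelian subgroup of P that contains its centralizer, has index p in its normalizer, and has index at least p² in P. Then the subgroups of P containing E are totally ordered by inclusion, each proper one has index p in its normalizer (so they form the normalizer tower of E, with all steps of index p), and the i-th member of the tower above E has nilpotency class i + 1 whenever it is a proper subgroup of P. -/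
theorem result {P : Type*} [Group P] [Finite P] (p : ℕ) [Fact p.Prime] (hP : IsPGroup p P)
    (E : Subgroup P) (hEab : IsMulCommutative ↥E) (hC : Subgroup.centralizer (E : Set P) ≤ E)
    (hN : (E.subgroupOf (Subgroup.normalizer (E : Set P))).index = p) (hidx : p ^ 2 ≤ E.index) :
    (∀ K L : Subgroup P, E ≤ K → E ≤ L → K ≤ L ∨ L ≤ K) ∧
      (∀ K : Subgroup P, E ≤ K → K ≠ ⊤ → (K.subgroupOf (Subgroup.normalizer (K : Set P))).index = p) ∧
      ∀ (i : ℕ) (K : Subgroup P) [Group.IsNilpotent ↥K], E ≤ K → K ≠ ⊤ → K.index * p ^ i = E.index →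
        Group.nilpotencyClass ↥K = i + 1 := by
  exact main hP E hEab hC hN

end Cfsg.Agent.S3811
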