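import Cfsg.Statements.S3815


set_option autoImplicit false
open Cfsg

namespace Cfsg.Agent.S3815

/-- Let G be a finite group, p a prime and d ∈ G an element of order prime to p. If dg has order prime to p for every element g ∈ G of order prime to p, then d ∈ O_{p'}(G). -/
theorem result {G : Type*} [Group G] [Finite G] {p : ℕ} [Fact p.Prime]
    (d : G) (hd : (orderOf d).Coprime p)
    (h : ∀ g : G, (orderOf g).Coprime p → (orderOf (d * g)).Coprime p) :
    d ∈ Cfsg.pPrimeCore p G := by
  have hconj : ∀ u x : G, orderOf (u * x * u⁻¹) = orderOf x := fun u x => by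
    rw [← MulAut.conj_apply]; exact (MulAut.conj u).orderOf_eq x
  let D : Subgroup G :=
    { carrier := {x | ∀ g : G, (orderOf g).Coprime p → (orderOf (x * g)).Coprime p}
      one_mem' := fun g hg => by rwa [one_mul]
      mul_mem' := fun {a b} ha hb g hg => by rw [mul_assoc]; exact ha _ (hb g hg)
      inv_mem' := fun {a} ha g hg => by
        have hpow : ∀ k : ℕ, ∀ g : G, (orderOf g).Coprime p → (orderOf (a ^ k * g)).Coprime p := by
          intro k
          induction k with
          | zero => intro g hg; rwa [pow_zero, one_mul]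
          | succ k ih => intro g hg; rw [pow_succ', mul_assoc]; exact ha _ (ih g hg)
        have e : a⁻¹ = a ^ (orderOf a - 1) := by
          refine inv_eq_of_mul_eq_one_right ?_
          rw [← pow_succ', Nat.sub_add_cancel (orderOf_pos a), pow_orderOf_eq_one]
        rw [e]
        exact hpow _ g hg }
  have hn : D.Normal := ⟨fun x hx u g hg => by
    have h1 : (orderOf (x * (u⁻¹ * g * u))).Coprime p := hx _ (by
      have := hconj u⁻¹ g
      rw [inv_inv] at this
      rwa [this])
    rw [← hconj u] at h1
    rwa [show u * x * u⁻¹ * g = u * (x * (u⁻¹ * g * u)) * u⁻¹ by group]⟩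
  have hD : (Nat.card D).Coprime p := by
    refine Nat.coprime_comm.mp (((Fact.out : p.Prime).coprime_iff_not_dvd).mpr fun hdvd => ?_)
    obtain ⟨x, hx⟩ := exists_prime_orderOf_dvd_card' p hdvd
    have h1 := x.2 1 (by rw [orderOf_one]; exact Nat.coprime_one_left p)
    rw [mul_one, Subgroup.orderOf_coe, hx] at h1
    exact (Fact.out : p.Prime).ne_one ((Nat.coprime_self p).mp h1)
  exact (le_sSup ⟨hn, hD⟩ : D ≤ Cfsg.pPrimeCore p G) h

end Cfsg.Agent.S3815
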