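import Cfsg.Statements.S3816
import Cfsg.Agent.Coprime.Flavell.Main

set_option autoImplicit false
set_option linter.style.haveILetI false
open Cfsg

namespace Cfsg.Agent.S3816

/-- Let p be an odd prime, H a finite solvable group of order prime to p, and x an automorphism of H of order p (so P = ⟨x⟩ has prime order p > 2 and acts coprimely on H). For h ∈ H let [h, P] be the subgroup generated by the commutators h⁻¹·xⁱ(h), and let [H, P] be the subgroup generated by all of these. Then the fixed points of x in [H, P] are generated by the fixed points of x in the subgroups [h, P], h ∈ H. -/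
theorem result {H : Type*} [Group H] [Finite H]
    [Group.IsSolvable H] {p : ℕ} [Fact p.Prime] (hp : p ≠ 2) (hcop : (Nat.card H).Coprime p)
    (x : MulAut H) (hx : orderOf x = p) :
    Subgroup.closure {c : H | ∃ h : H, ∃ i : ℕ, c = h⁻¹ * (x ^ i) h} ⊓ (x : H →* H).eqLocus (MonoidHom.id H) =
      ⨆ h : H, Subgroup.closure {c : H | ∃ i : ℕ, c = h⁻¹ * (x ^ i) h} ⊓ (x : H →* H).eqLocus (MonoidHom.id H) := by
  classical
  refine le_antisymm ?_ (iSup_le fun h => inf_le_inf_right _ (Subgroup.closure_mono ?_))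
  swap
  · rintro c ⟨i, hi⟩
    exact ⟨h, i, hi⟩
  let G := H ⋊[(Subgroup.zpowers x).subtype] (Subgroup.zpowers x)
  haveI : Finite G := Finite.of_equiv _ SemidirectProduct.equivProd.symm
  let f : H →* G := SemidirectProduct.inl
  let y : G := SemidirectProduct.inr ⟨x, Subgroup.mem_zpowers x⟩
  have hf : Function.Injective f := SemidirectProduct.inl_injective
  have hord : orderOf y = p := by
    show orderOf (SemidirectProduct.inr (⟨x, Subgroup.mem_zpowers x⟩ : Subgroup.zpowers x) : G) = p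
    rw [orderOf_injective _ SemidirectProduct.inr_injective, Subgroup.orderOf_mk, hx]
  have hconj : ∀ (i : ℕ) (h : H), y ^ i * f h * (y ^ i)⁻¹ = f ((x ^ i) h) := by
    intro i h
    have e : y ^ i = SemidirectProduct.inr ((⟨x, Subgroup.mem_zpowers x⟩ : Subgroup.zpowers x) ^ i) :=
      (map_pow _ _ i).symm
    rw [e, ← map_inv]
    exact (SemidirectProduct.inl_aut _ h).symm
  have hnorm : y ∈ Subgroup.normalizer (f.range : Set G) := by
    refine Subgroup.mem_normalizer_fintype ?_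
    rintro _ ⟨h, rfl⟩
    exact ⟨x h, by simpa using (hconj 1 h).symm⟩
  have hHyp : Cfsg.Lib.Flavell.Hyp y f.range := by
    refine ⟨hnorm, ?_, Group.isSolvable_of_surjective f.rangeRestrict_surjective⟩
    rw [Nat.card_zpowers, hord, ← Nat.card_congr (MonoidHom.ofInjective hf).toEquiv]
    exact hcop.symm
  have hy2 : y ∈ Subgroup.zpowers (y ^ 2) := by
    obtain ⟨k, hk⟩ := (Fact.out : p.Prime).eq_two_or_odd'.resolve_left hp
    refine Subgroup.mem_zpowers_iff.2 ⟨(k + 1 : ℕ), ?_⟩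
    rw [zpow_natCast, ← pow_mul, show 2 * (k + 1) = p + 1 by omega, pow_succ, ← hord, pow_orderOf_eq_one, one_mul]
  have hcm : ∀ h : H, (Subgroup.closure {c : H | ∃ i : ℕ, c = h⁻¹ * (x ^ i) h}).map f =
      Cfsg.Lib.Flavell.cm y (f h) := by
    intro h
    rw [Cfsg.Lib.Flavell.cm, MonoidHom.map_closure]
    congr 1
    ext c
    constructor
    · rintro ⟨_, ⟨i, rfl⟩, rfl⟩
      exact ⟨i, by rw [hconj, map_mul, map_inv]⟩
    · rintro ⟨i, rfl⟩
      exact ⟨_, ⟨i, rfl⟩, by rw [hconj, map_mul, map_inv]⟩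
  have hfix : ∀ c : H, f c ∈ Cfsg.Lib.Flavell.cent y ↔
      c ∈ (x : H →* H).eqLocus (MonoidHom.id H) := by
    intro c
    have e := hconj 1 c
    rw [pow_one, pow_one] at e
    rw [Cfsg.Lib.Flavell.mem_cent]
    constructor
    · intro h1
      refine hf ?_
      show f (x c) = f c
      rw [← e, h1, mul_inv_cancel_right]
    · intro (h1 : x c = c)
      rw [← mul_inv_eq_iff_eq_mul, e, h1]
  intro c hc
  have hmain := Cfsg.Lib.Flavell.fixed_points_le_D hHyp hy2
  have h1 : f c ∈ ⁅f.range, Subgroup.zpowers y⁆ ⊓ Cfsg.Lib.Flavell.cent y := by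
    refine ⟨?_, (hfix c).2 hc.2⟩
    have : Subgroup.closure {c : H | ∃ h : H, ∃ i : ℕ, c = h⁻¹ * (x ^ i) h} ≤
        ⁅f.range, Subgroup.zpowers y⁆.comap f := by
      rw [Subgroup.closure_le]
      rintro _ ⟨h, i, rfl⟩
      exact Cfsg.Lib.Flavell.cm_le_commutator (K := f.range) ⟨h, rfl⟩
        ((hcm h).le ⟨_, Subgroup.subset_closure ⟨i, rfl⟩, rfl⟩)
    exact this hc.1
  have h2 : Cfsg.Lib.Flavell.D y f.range ≤
      (⨆ h : H, Subgroup.closure {c : H | ∃ i : ℕ, c = h⁻¹ * (x ^ i) h} ⊓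
        (x : H →* H).eqLocus (MonoidHom.id H)).map f := by
    refine iSup₂_le ?_
    rintro _ ⟨h, rfl⟩ z ⟨hz, hz'⟩
    obtain ⟨d, hd, rfl⟩ := (hcm h).ge hz
    exact ⟨d, Subgroup.mem_iSup_of_mem h ⟨hd, (hfix d).1 hz'⟩, rfl⟩
  obtain ⟨d, hd, he⟩ := h2 (hmain h1)
  exact hf he ▸ hd

end Cfsg.Agent.S3816
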