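import Cfsg.Statements.S3818
import Cfsg.Agent.Coprime.HalfFixed.Main

set_option autoImplicit false
set_option linter.style.haveILetI false
open Cfsg

namespace Cfsg.Agent.S3818

/-- Let G be a finite solvable group and P a subgroup of G of prime order p > 3 whose conjugates generate G. Let V be a faithful irreducible representation of G over a field of positive characteristic, finite-dimensional. Then the subspace of V fixed by P has dimension less than half the dimension of V. -/
theorem result {G : Type*} [Group G] [Finite G] [Group.IsSolvable G]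
    {p : ℕ} [Fact p.Prime] (hp : 3 < p) (P : Subgroup G) (hP : Nat.card P = p) (hgen : Subgroup.normalClosure (P : Set G) = ⊤)
    {k : Type*} [Field k] (ℓ : ℕ) [Fact ℓ.Prime] [CharP k ℓ]
    {V : Type*} [AddCommGroup V] [Module k V] [FiniteDimensional k V]
    (ρ : Representation k G V) [ρ.IsIrreducible] (hfaith : Function.Injective ρ) :
    2 * Module.finrank k ↥(⨅ g : ↥P, LinearMap.ker (ρ (g : G) - LinearMap.id)) < Module.finrank k V := by
  classical
  haveI : IsCyclic P := isCyclic_of_prime_card hP
  obtain ⟨⟨x, hxP⟩, hx⟩ := IsCyclic.exists_generator (α := P)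
  have hord : orderOf x = p := by
    rw [← Subgroup.orderOf_mk (H := P) x hxP, orderOf_eq_card_of_forall_mem_zpowers hx, hP]
  have hPz : P ≤ Subgroup.zpowers x := fun g hg => by
    obtain ⟨n, hn⟩ := Subgroup.mem_zpowers_iff.1 (hx ⟨g, hg⟩)
    exact Subgroup.mem_zpowers_iff.2 ⟨n, by simpa using congrArg Subtype.val hn⟩
  have hgen' : Subgroup.normalClosure {x} = ⊤ := by
    rw [eq_top_iff, ← hgen]
    refine Subgroup.normalClosure_le_normal fun g hg => ?_
    exact (Subgroup.zpowers_le.2 (Subgroup.subset_normalClosure (Set.mem_singleton x))) (hPz hg)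
  have hirr : Cfsg.Lib.HalfFixed.Irr (k := k) (V := V) ρ := by
    intro W hW
    let S : Subrepresentation ρ := ⟨W, fun g v hv => hW g v hv⟩
    rcases IsSimpleOrder.eq_bot_or_eq_top S with h | h
    · exact Or.inl (congrArg Subrepresentation.toSubmodule h)
    · exact Or.inr (congrArg Subrepresentation.toSubmodule h)
  have hx1 : x ≠ 1 := fun h => by
    rw [h, orderOf_one] at hord
    exact (Fact.out : p.Prime).ne_one hord.symm
  have hρx : ρ x ≠ 1 := fun h => hx1 (hfaith (h.trans (map_one ρ).symm))
  have hxp : x ^ p = 1 := by rw [← hord]; exact pow_orderOf_eq_one x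
  have hmain := Cfsg.Lib.HalfFixed.fixed_lt_half (k := k) (V := V) hp ρ hirr hgen' hxp hρx
  refine lt_of_le_of_lt (Nat.mul_le_mul_left 2 (Submodule.finrank_mono ?_)) hmain
  exact iInf_le_of_le ⟨x, hxP⟩ le_rfl

end Cfsg.Agent.S3818
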