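import Cfsg.Statements.S3819
import Cfsg.Agent.SolvStruct.FourPrimes.Tools
import Cfsg.Agent.Coprime.Action
import Cfsg.Agent.Components.PxQ

set_option autoImplicit false
set_option linter.style.haveILetI false
set_option linter.unusedSectionVars false
open Cfsg

namespace Cfsg.Agent.S3819

open Subgroup
open scoped commutatorElement

/-- The statement when `O_{q'}(H) = 1`. -/
theorem core_case {G : Type*} [Group G] [Finite G] {p q : ℕ} [Fact p.Prime] [Fact q.Prime]
    {H P X J : Subgroup G} [H.Normal] (hP : IsPGroup p P) (hH : (Nat.card H).Coprime p)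
    (hsol : Group.IsSolvable ↥⁅H, P⁆)
    (hcore : ∀ M : Subgroup G, M ≤ H → H ≤ normalizer (M : Set G) →
      (Nat.card M).Coprime q → M = ⊥)
    {z : G} (hz : IsPGroup q (zpowers z)) (hzH : z ∈ H)
    (hXH : X ≤ H) (hXz : X ≤ centralizer ({z} : Set G)) (hXc : (Nat.card X).Coprime q)
    (hXn : H ⊓ centralizer ({z} : Set G) ≤ normalizer (X : Set G))
    (hPX : P ≤ normalizer (X : Set G))
    (hJH : J ≤ H ⊓ centralizer (P : Set G)) (hJc : (Nat.card J).Coprime q)
    (hJn : H ⊓ centralizer (P : Set G) ≤ normalizer (J : Set G)) :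
    X ⊓ J = ⊥ ∧ ⁅X, P⁆ = ⊥ := by
  set K : Subgroup G := ⁅H, P⁆ with hK
  have hKH : K ≤ H := commutator_le_left H P
  have hHK : H ≤ normalizer (K : Set G) := Cfsg.Lib.Coprime.le_normalizer_commutator_left P H
  haveI : Group.IsSolvable ↥K := hsol
  have hK1 : Cfsg.pPrimeCore q ↥K = ⊥ := by
    have hn : H ≤ normalizer ((Cfsg.pPrimeCore q ↥K).map K.subtype : Set G) := by
      intro h hh
      refine Cfsg.Lib.Coprime.mem_normalizer_of_conj_mem ?_ ?_
      · rintro _ ⟨a, ha, rfl⟩
        haveI : (Cfsg.pPrimeCore q ↥K).Characteristic :=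
          Cfsg.Lib.Components.pPrimeCore_characteristic
        exact ⟨_, (characteristic_iff_map_eq.1 (inferInstance :
          (Cfsg.pPrimeCore q ↥K).Characteristic) (K.normalizerMonoidHom ⟨h, hHK hh⟩)).le
          (mem_map_of_mem _ ha), rfl⟩
      · rintro _ ⟨a, ha, rfl⟩
        haveI : (Cfsg.pPrimeCore q ↥K).Characteristic :=
          Cfsg.Lib.Components.pPrimeCore_characteristic
        refine ⟨_, (characteristic_iff_map_eq.1 (inferInstance :
          (Cfsg.pPrimeCore q ↥K).Characteristic) (K.normalizerMonoidHom ⟨h⁻¹, hHK (inv_mem hh)⟩)).le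
          (mem_map_of_mem _ ha), ?_⟩
        simp
    have := hcore _ ((map_subtype_le _).trans hKH) hn (by
      rw [card_map_of_injective K.subtype_injective]
      exact Cfsg.Lib.Components.coprime_card_pPrimeCore q)
    exact (map_eq_bot_iff_of_injective _ K.subtype_injective).1 this
  set Q : Subgroup G := Cfsg.Lib.FourPrimes.core q K with hQ
  have hQp : IsPGroup q Q := Cfsg.Lib.FourPrimes.core_isPGroup q K
  have hQK : Q ≤ K := Cfsg.Lib.FourPrimes.core_le q K
  have hHQ : H ≤ normalizer (Q : Set G) :=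
    hHK.trans (Cfsg.Lib.FourPrimes.core_le_normalizer q K)
  have hCQ : ∀ k ∈ K, k ∈ centralizer (Q : Set G) → k ∈ Q := by
    intro k hk hc
    have : (⟨k, hk⟩ : K) ∈ centralizer (Cfsg.pCore q ↥K : Set ↥K) :=
      mem_centralizer_iff.2 fun c hc' =>
        Subtype.ext (mem_centralizer_iff.1 hc c ⟨c, hc', rfl⟩)
    exact ⟨_, Cfsg.Lib.Coprime.centralizer_pCore_le q hK1 this, rfl⟩
  have hcopQ : (Nat.card X).Coprime (Nat.card Q) := by
    obtain ⟨n, hn⟩ := IsPGroup.iff_card.1 hQp
    rw [hn]; exact hXc.pow_right n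
  have hXQ : X ≤ centralizer (Q : Set G) := by
    intro x hx
    have h := Cfsg.Lib.Components.pxq_element (p := q) (x := x) (P := zpowers z)
      (hXc.coprime_dvd_left (Subgroup.orderOf_dvd_natCard X hx)) hz
      (by
        rw [zpowers_eq_closure, centralizer_closure]
        exact hXz hx)
      Q hQp (zpowers_le.2 (hHQ hzH)) (hHQ (hXH hx)) (by
        rintro c ⟨hcQ, hcz⟩
        have hcn : c ∈ normalizer (X : Set G) := hXn ⟨hKH (hQK hcQ),
          mem_centralizer_singleton_iff.2 (mem_centralizer_iff.1 hcz z (mem_zpowers z)).symm⟩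
        have h1 : ⁅c, x⁆ ∈ X := by
          rw [commutatorElement_def]
          exact mul_mem ((mem_normalizer_iff.1 hcn x).1 hx) (inv_mem hx)
        have h2 : ⁅c, x⁆ ∈ Q := by
          rw [commutatorElement_def, mul_assoc c x, mul_assoc]
          exact mul_mem hcQ ((mem_normalizer_iff.1 (hHQ (hXH hx)) _).1 (inv_mem hcQ))
        exact mem_centralizer_singleton_iff.2 (commutatorElement_eq_one_iff_mul_comm.1
          (Cfsg.Lib.Coprime.eq_one_of_coprime hcopQ h1 h2)))
    exact mem_centralizer_iff.2 fun c hc => mem_centralizer_singleton_iff.1 (h hc)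
  have hXK : X ⊓ K = ⊥ := (eq_bot_iff_forall _).2 fun x hx =>
    Cfsg.Lib.Coprime.eq_one_of_coprime hcopQ hx.1 (hCQ x hx.2 (hXQ hx.1))
  refine ⟨?_, ?_⟩
  · set I : Subgroup G := X ⊓ J with hI
    have hIK : K ≤ centralizer (I : Set G) := by
      intro k hk
      refine Cfsg.Lib.Coprime.centralizes_of_coprime_chain (D := Q)
        (hcopQ.coprime_dvd_left (card_dvd_of_le inf_le_left)) (inf_le_left.trans hXQ)
        fun a ha => hCQ _ ?_ ?_
      · have : k⁻¹ * a * k * a⁻¹ = k⁻¹ * (a * k * a⁻¹) := by group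
        rw [this]
        exact mul_mem (inv_mem hk) ((mem_normalizer_iff.1 (hHK (hXH ha.1)) k).1 hk)
      · refine mul_mem (mem_centralizer_iff.2 fun c hc => ?_) (inv_mem (hXQ ha.1))
        have hc' : k * c * k⁻¹ ∈ Q := (mem_normalizer_iff.1 (hHQ (hKH hk)) c).1 hc
        have := mem_centralizer_iff.1 (hXQ ha.1) _ hc'
        calc c * (k⁻¹ * a * k) = k⁻¹ * (k * c * k⁻¹ * a) * k := by group
          _ = k⁻¹ * (a * (k * c * k⁻¹)) * k := by rw [this]
          _ = k⁻¹ * a * k * c := by group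
    have hcop : (Nat.card P).Coprime (Nat.card H) := by
      obtain ⟨n, hn⟩ := IsPGroup.iff_card.1 hP
      rw [hn]; exact (hH.pow_right n).symm
    have hHM : H ≤ normalizer ((J ⊓ centralizer (K : Set G) : Subgroup G) : Set G) := by
      have hPH : P ≤ normalizer (H : Set G) := by rw [normalizer_eq_top]; exact le_top
      have := Cfsg.Lib.Coprime.commutator_sup_centralizer hPH hcop
        (Or.inl (by haveI := hP.isNilpotent; infer_instance))
      rw [← this]
      refine sup_le (fun k hk => ?_) (fun c hc => ?_)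
      · refine Cfsg.Lib.Coprime.mem_normalizer_of_conj_mem (fun m hm => ?_) (fun m hm => ?_)
        · rw [mem_centralizer_iff.1 hm.2 k hk, mul_inv_cancel_right]; exact hm
        · rw [mul_assoc, ← mem_centralizer_iff.1 hm.2 k hk, inv_mul_cancel_left]; exact hm
      · have key : ∀ c ∈ H ⊓ centralizer (P : Set G), ∀ m ∈ J ⊓ centralizer (K : Set G),
            c * m * c⁻¹ ∈ J ⊓ centralizer (K : Set G) := fun c hc m hm => by
          refine ⟨(mem_normalizer_iff.1 (hJn hc) m).1 hm.1, mem_centralizer_iff.2 fun k hk => ?_⟩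
          have hk' : c⁻¹ * k * c ∈ K := (mem_normalizer_iff''.1 (hHK hc.1) k).1 hk
          have := mem_centralizer_iff.1 hm.2 _ hk'
          calc k * (c * m * c⁻¹) = c * (c⁻¹ * k * c * m) * c⁻¹ := by group
            _ = c * (m * (c⁻¹ * k * c)) * c⁻¹ := by rw [this]
            _ = c * m * c⁻¹ * k := by group
        exact Cfsg.Lib.Coprime.mem_normalizer_of_conj_mem (key c hc)
          (fun m hm => by simpa using key c⁻¹ (inv_mem hc) m hm)
    have hM := hcore _ (inf_le_left.trans (hJH.trans inf_le_left)) hHM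
      (hJc.coprime_dvd_left (card_dvd_of_le inf_le_left))
    rw [eq_bot_iff, ← hM]
    exact fun i hi => ⟨hi.2, mem_centralizer_iff.2 fun k hk =>
      (mem_centralizer_iff.1 (hIK hk) i hi).symm⟩
  · rw [eq_bot_iff, ← hXK]
    exact le_inf (Cfsg.Lib.Coprime.commutator_le_of_le_normalizer hPX)
      (commutator_mono hXH le_rfl)

/-- Let G be a finite group with Sylow p-subgroup P and H = O_{p'}(G), and suppose G = PH and the commutator subgroup [H, P] is solvable. Let q be a prime and z an element of q-power order of C_H(P). Then (O_{q'}(C_H(z)) ∩ O_{q'}(C_H(P))) · [O_{q'}(C_H(z)), P] ≤ O_{q'}(H). -/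
theorem result {G : Type*} [Group G] [Finite G] {p : ℕ} [Fact p.Prime]
    (P : Sylow p G) (hPH : Cfsg.pPrimeCore p G ⊔ (P : Subgroup G) = ⊤)
    (hsol : Group.IsSolvable ↥⁅Cfsg.pPrimeCore p G, (P : Subgroup G)⁆)
    {q : ℕ} [Fact q.Prime] (z : G) (hzH : z ∈ Cfsg.pPrimeCore p G) (hzP : z ∈ Subgroup.centralizer ((P : Subgroup G) : Set G))
    (hz : ∃ k : ℕ, orderOf z = q ^ k) :
    ((Cfsg.pPrimeCore q ↥(Cfsg.pPrimeCore p G ⊓ Subgroup.centralizer ({z} : Set G))).map
        (Cfsg.pPrimeCore p G ⊓ Subgroup.centralizer ({z} : Set G)).subtype ⊓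
      (Cfsg.pPrimeCore q ↥(Cfsg.pPrimeCore p G ⊓ Subgroup.centralizer ((P : Subgroup G) : Set G))).map
        (Cfsg.pPrimeCore p G ⊓ Subgroup.centralizer ((P : Subgroup G) : Set G)).subtype) ⊔
    ⁅(Cfsg.pPrimeCore q ↥(Cfsg.pPrimeCore p G ⊓ Subgroup.centralizer ({z} : Set G))).map
        (Cfsg.pPrimeCore p G ⊓ Subgroup.centralizer ({z} : Set G)).subtype, (P : Subgroup G)⁆ ≤
    (Cfsg.pPrimeCore q ↥(Cfsg.pPrimeCore p G)).map (Cfsg.pPrimeCore p G).subtype := by
  set H : Subgroup G := Cfsg.pPrimeCore p G with hH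
  set CZ : Subgroup G := H ⊓ centralizer ({z} : Set G) with hCZ
  set CP : Subgroup G := H ⊓ centralizer ((P : Subgroup G) : Set G) with hCP
  set N : Subgroup G := (Cfsg.pPrimeCore q ↥H).map H.subtype with hN
  set X : Subgroup G := (Cfsg.pPrimeCore q ↥CZ).map CZ.subtype with hX
  set J : Subgroup G := (Cfsg.pPrimeCore q ↥CP).map CP.subtype with hJ
  haveI : H.Normal := Cfsg.Lib.Components.pPrimeCore_normal' p
  haveI : (Cfsg.pPrimeCore q ↥H).Characteristic := Cfsg.Lib.Components.pPrimeCore_characteristic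
  haveI hNn : N.Normal := inferInstance
  have hNH : N ≤ H := map_subtype_le _
  have hNq : (Nat.card N).Coprime q := by
    rw [hN, card_map_of_injective H.subtype_injective]
    exact Cfsg.Lib.Components.coprime_card_pPrimeCore q
  have hHp : (Nat.card H).Coprime p := Cfsg.Lib.Components.coprime_card_pPrimeCore p
  set π := QuotientGroup.mk' N with hπ
  have hπs : Function.Surjective π := QuotientGroup.mk'_surjective N
  haveI : (H.map π).Normal := Normal.map inferInstance π hπs
  have hzq : IsPGroup q (zpowers z) := by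
    obtain ⟨k, hk⟩ := hz
    exact Cfsg.Lib.FourPrimes.isPGroup_zpowers' hk
  have conjX : ∀ g ∈ normalizer (CZ : Set G), g ∈ normalizer (X : Set G) := fun g hg =>
    Cfsg.Lib.Coprime.mem_normalizer_of_conj_mem
      (by
        rintro _ ⟨a, ha, rfl⟩
        haveI : (Cfsg.pPrimeCore q ↥CZ).Characteristic :=
          Cfsg.Lib.Components.pPrimeCore_characteristic
        exact ⟨_, (characteristic_iff_map_eq.1 (inferInstance :
          (Cfsg.pPrimeCore q ↥CZ).Characteristic) (CZ.normalizerMonoidHom ⟨g, hg⟩)).le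
          (mem_map_of_mem _ ha), rfl⟩)
      (by
        rintro _ ⟨a, ha, rfl⟩
        haveI : (Cfsg.pPrimeCore q ↥CZ).Characteristic :=
          Cfsg.Lib.Components.pPrimeCore_characteristic
        refine ⟨_, (characteristic_iff_map_eq.1 (inferInstance :
          (Cfsg.pPrimeCore q ↥CZ).Characteristic) (CZ.normalizerMonoidHom ⟨g⁻¹, inv_mem hg⟩)).le
          (mem_map_of_mem _ ha), ?_⟩
        simp)
  have conjJ : ∀ g ∈ CP, g ∈ normalizer (J : Set G) := fun g hg =>
    le_normalizer_map (H := Cfsg.pPrimeCore q ↥CP) CP.subtype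
      ⟨⟨g, hg⟩, (by rw [normalizer_eq_top]; exact mem_top _), rfl⟩
  have hXn : H.map π ⊓ centralizer ({π z} : Set (G ⧸ N)) ≤ normalizer (X.map π : Set (G ⧸ N)) := by
    rintro _ ⟨⟨h, hh, rfl⟩, hc⟩
    obtain ⟨n, hn, hc'⟩ := Cfsg.Lib.Coprime.exists_fixed_of_commutator_mem (A := zpowers z)
      (N := N) (k := h) (by rw [normalizer_eq_top]; exact le_top)
      (by obtain ⟨k, hk⟩ := IsPGroup.iff_card.1 hzq; rw [hk]; exact (hNq.pow_right k).symm)
      (Or.inl (by haveI := hzq.isNilpotent; infer_instance)) (by rw [normalizer_eq_top]; exact mem_top _) (by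
        intro a ha
        obtain ⟨i, rfl⟩ := mem_zpowers_iff.1 ha
        rw [← QuotientGroup.eq_one_iff]
        change π (z ^ i * h * (z ^ i)⁻¹ * h⁻¹) = 1
        have hcomm : Commute (π z ^ i) (π h) :=
          Commute.zpow_left (mem_centralizer_singleton_iff.1 hc).symm i
        simp only [map_mul, map_inv, map_zpow]
        rw [hcomm.eq]; group)
    have hm : h * n ∈ CZ := ⟨mul_mem hh (hNH hn),
      mem_centralizer_singleton_iff.2 (mem_centralizer_iff.1 hc' z (mem_zpowers z)).symm⟩
    have : π h = π (h * n) := by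
      rw [map_mul, show π n = 1 from (QuotientGroup.eq_one_iff n).2 hn, mul_one]
    rw [this]
    exact le_normalizer_map (H := X) π ⟨_, conjX _ (le_normalizer hm), rfl⟩
  have hJn : H.map π ⊓ centralizer (((P : Subgroup G).map π : Subgroup (G ⧸ N)) : Set (G ⧸ N))
      ≤ normalizer (J.map π : Set (G ⧸ N)) := by
    rintro _ ⟨⟨h, hh, rfl⟩, hc⟩
    obtain ⟨n, hn, hc'⟩ := Cfsg.Lib.Coprime.exists_fixed_of_commutator_mem (A := (P : Subgroup G))
      (N := N) (k := h) (by rw [normalizer_eq_top]; exact le_top)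
      (by
        obtain ⟨k, hk⟩ := IsPGroup.iff_card.1 P.isPGroup'
        rw [hk]; exact ((hHp.coprime_dvd_left (card_dvd_of_le hNH)).pow_right k).symm)
      (Or.inl (by haveI := P.isPGroup'.isNilpotent; infer_instance)) (by rw [normalizer_eq_top]; exact mem_top _) (by
        intro a ha
        rw [← QuotientGroup.eq_one_iff]
        change π (a * h * a⁻¹ * h⁻¹) = 1
        simp only [map_mul, map_inv]
        rw [mem_centralizer_iff.1 hc (π a) (mem_map_of_mem _ ha)]; group)
    have hm : h * n ∈ CP := ⟨mul_mem hh (hNH hn), hc'⟩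
    have : π h = π (h * n) := by
      rw [map_mul, show π n = 1 from (QuotientGroup.eq_one_iff n).2 hn, mul_one]
    rw [this]
    exact le_normalizer_map (H := J) π ⟨_, conjJ _ hm, rfl⟩
  have hPX : (P : Subgroup G) ≤ normalizer (X : Set G) := fun a ha => conjX a <| by
    have key : ∀ a ∈ (P : Subgroup G), ∀ c ∈ CZ, a * c * a⁻¹ ∈ CZ := fun a ha c hc => by
      refine ⟨Normal.conj_mem inferInstance c hc.1 a, mem_centralizer_singleton_iff.2 ?_⟩
      have h1 : Commute a z := mem_centralizer_iff.1 hzP a ha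
      have h2 : Commute c z := mem_centralizer_singleton_iff.1 hc.2
      exact ((h1.mul_left h2).mul_left h1.inv_left).eq
    exact Cfsg.Lib.Coprime.mem_normalizer_of_conj_mem (key a ha)
      (fun c hc => by simpa using key a⁻¹ (inv_mem ha) c hc)
  have hcard : ∀ (A : Subgroup G), (Nat.card A).Coprime q → (Nat.card (A.map π)).Coprime q :=
    fun A h => h.coprime_dvd_left (card_map_dvd A π)
  have hcore : ∀ M : Subgroup (G ⧸ N), M ≤ H.map π → H.map π ≤ normalizer (M : Set (G ⧸ N)) →
      (Nat.card M).Coprime q → M = ⊥ := by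
    intro M hM hn hc
    set M0 : Subgroup G := M.comap π ⊓ H with hM0
    haveI : (M0.subgroupOf H).Normal := normal_subgroupOf_of_le_normalizer fun h hh => by
      refine Cfsg.Lib.Coprime.mem_normalizer_of_conj_mem (fun m hm => ⟨?_, ?_⟩) (fun m hm => ⟨?_, ?_⟩)
      · change π (h * m * h⁻¹) ∈ M
        rw [map_mul, map_mul, map_inv]
        exact (mem_normalizer_iff.1 (hn (mem_map_of_mem _ hh)) _).1 hm.1
      · exact Normal.conj_mem inferInstance m hm.2 h
      · change π (h⁻¹ * m * h) ∈ M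
        rw [map_mul, map_mul, map_inv]
        exact (mem_normalizer_iff''.1 (hn (mem_map_of_mem _ hh)) _).1 hm.1
      · simpa using Normal.conj_mem inferInstance m hm.2 h⁻¹
    have hd : Nat.card M0 ∣ Nat.card M * Nat.card N := by
      have h1 := card_dvd_of_le (inf_le_left : M0 ≤ M.comap π)
      rw [Cfsg.Lib.Coprime.card_comap_mk', mul_comm] at h1
      exact h1
    have h0 : M0.subgroupOf H ≤ Cfsg.pPrimeCore q ↥H := Cfsg.Lib.Components.le_pPrimeCore (by
      rw [Nat.card_congr (subgroupOfEquivOfLe (inf_le_right : M0 ≤ H)).toEquiv]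
      exact (hc.mul_left hNq).coprime_dvd_left hd)
    rw [eq_bot_iff]
    intro m hm
    obtain ⟨h, hh, rfl⟩ := hM hm
    exact mem_bot.2 ((QuotientGroup.eq_one_iff h).2 ⟨⟨h, hh⟩, h0 (show (⟨h, hh⟩ : H) ∈ M0.subgroupOf H from ⟨hm, hh⟩), rfl⟩)
  haveI hK : Group.IsSolvable ↥⁅H.map π, (P : Subgroup G).map π⁆ := by
    rw [← map_commutator]
    haveI := hsol
    exact Group.isSolvable_of_surjective (f := π.subgroupMap ⁅H, (P : Subgroup G)⁆)
      (π.subgroupMap_surjective _)
  obtain ⟨h1, h2⟩ := core_case (p := p) (q := q) (H := H.map π) (P := (P : Subgroup G).map π)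
    (X := X.map π) (J := J.map π) (z := π z) (P.isPGroup'.map π)
    (hHp.coprime_dvd_left (card_map_dvd H π)) hK hcore
    (by rw [← MonoidHom.map_zpowers]; exact hzq.map π) (mem_map_of_mem _ hzH)
    (map_mono ((map_subtype_le _).trans inf_le_left))
    (by
      rintro _ ⟨x, hx, rfl⟩
      have hc := mem_centralizer_singleton_iff.1 ((map_subtype_le _ hx) : x ∈ CZ).2
      rw [mem_centralizer_singleton_iff, ← map_mul, hc, map_mul])
    (hcard X (by
      rw [hX, card_map_of_injective CZ.subtype_injective]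
      exact Cfsg.Lib.Components.coprime_card_pPrimeCore q))
    hXn ((map_mono hPX).trans (le_normalizer_map π))
    (by
      rintro _ ⟨x, hx, rfl⟩
      have hx' : x ∈ CP := map_subtype_le _ hx
      refine ⟨mem_map_of_mem _ hx'.1, mem_centralizer_iff.2 ?_⟩
      rintro _ ⟨a, ha, rfl⟩
      rw [← map_mul, mem_centralizer_iff.1 hx'.2 a ha, map_mul])
    (hcard J (by
      rw [hJ, card_map_of_injective CP.subtype_injective]
      exact Cfsg.Lib.Components.coprime_card_pPrimeCore q))
    hJn
  refine sup_le ?_ ?_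
  · intro i hi
    have : π i ∈ X.map π ⊓ J.map π := ⟨mem_map_of_mem _ hi.1, mem_map_of_mem _ hi.2⟩
    rw [h1] at this
    exact (QuotientGroup.eq_one_iff i).1 (mem_bot.1 this)
  · rw [← map_commutator] at h2
    intro i hi
    exact (QuotientGroup.eq_one_iff i).1 (mem_bot.1 (h2.le (mem_map_of_mem _ hi)))

end Cfsg.Agent.S3819
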