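import Cfsg.Statements.S3820


set_option autoImplicit false
open Cfsg

namespace Cfsg.Agent.S3820

/-- Call a subgroup H of G pronormal if H and gHg⁻¹ are conjugate inside ⟨H, gHg⁻¹⟩ for every g ∈ G. Let S ≤ H ≤ G be subgroups of a finite group with S pronormal in G (for instance S a Sylow subgroup). Then H is pronormal in G if and only if H and gHg⁻¹ are conjugate inside ⟨H, gHg⁻¹⟩ for every g ∈ N_G(S). In particular H is pronormal whenever N_G(S) ≤ H. -/
theorem result {G : Type*} [Group G] [Finite G] (S H : Subgroup G) (hSH : S ≤ H)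
    (hS : Cfsg.IsPronormal S) :
    Cfsg.IsPronormal H ↔
      ∀ g ∈ Subgroup.normalizer (S : Set G), ∃ w ∈ H ⊔ H.map (MulAut.conj g).toMonoidHom,
        H.map (MulAut.conj g).toMonoidHom = H.map (MulAut.conj w).toMonoidHom := by
  refine ⟨fun h g _ => h g, fun h g => ?_⟩
  obtain ⟨x, hx, hgx⟩ := hS g
  have hx' : x ∈ H ⊔ H.map (MulAut.conj g).toMonoidHom :=
    sup_le_sup hSH (Subgroup.map_mono hSH) hx
  have hn : x⁻¹ * g ∈ Subgroup.normalizer (S : Set G) := by
    refine Subgroup.mem_normalizer_iff.mpr fun k => ⟨fun hk => ?_, fun hk => ?_⟩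
    · obtain ⟨k', hk', he⟩ := (hgx ▸ Subgroup.mem_map_of_mem _ hk :
        (MulAut.conj g).toMonoidHom k ∈ S.map (MulAut.conj x).toMonoidHom)
      have he' : x * k' * x⁻¹ = g * k * g⁻¹ := he
      have : x⁻¹ * g * k * (x⁻¹ * g)⁻¹ = k' := by
        calc x⁻¹ * g * k * (x⁻¹ * g)⁻¹ = x⁻¹ * (g * k * g⁻¹) * x := by group
          _ = k' := by rw [← he']; group
      rwa [this]
    · obtain ⟨k', hk', he⟩ := (hgx.symm ▸ Subgroup.mem_map_of_mem _ hk :
        (MulAut.conj x).toMonoidHom (x⁻¹ * g * k * (x⁻¹ * g)⁻¹) ∈ S.map (MulAut.conj g).toMonoidHom)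
      have he' : g * k' * g⁻¹ = x * (x⁻¹ * g * k * (x⁻¹ * g)⁻¹) * x⁻¹ := he
      have : k' = k := by
        calc k' = g⁻¹ * (g * k' * g⁻¹) * g := by group
          _ = k := by rw [he']; group
      rwa [← this]
  obtain ⟨w, hw, hgw⟩ := h _ hn
  have hle : H ⊔ H.map (MulAut.conj (x⁻¹ * g)).toMonoidHom ≤ H ⊔ H.map (MulAut.conj g).toMonoidHom := by
    refine sup_le le_sup_left ?_
    rintro _ ⟨k, hk, rfl⟩
    have hmem : g * k * g⁻¹ ∈ H ⊔ H.map (MulAut.conj g).toMonoidHom :=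
      Subgroup.mem_sup_right ⟨k, hk, rfl⟩
    have := mul_mem (mul_mem (inv_mem hx') hmem) hx'
    show x⁻¹ * g * k * (x⁻¹ * g)⁻¹ ∈ _
    simpa [mul_assoc] using this
  refine ⟨x * w, mul_mem hx' (hle hw), ?_⟩
  have := congrArg (Subgroup.map (MulAut.conj x).toMonoidHom) hgw
  simp only [Subgroup.map_map] at this
  convert this using 2 <;> ext k <;> simp [mul_assoc]

end Cfsg.Agent.S3820
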