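import Cfsg.Statements.S3821


set_option autoImplicit false
open Cfsg

namespace Cfsg.Agent.S3821

/-- Let A be a normal subgroup of the finite group G and H a subgroup of A. Then H is pronormal in G (H and gHg⁻¹ conjugate inside ⟨H, gHg⁻¹⟩ for every g ∈ G) if and only if H is pronormal in A and G = A · N_G(H). -/
theorem result {G : Type*} [Group G] [Finite G] (A H : Subgroup G) [A.Normal] (hHA : H ≤ A) :
    Cfsg.IsPronormal H ↔ (Cfsg.IsPronormal (H.subgroupOf A) ∧ A ⊔ Subgroup.normalizer (H : Set G) = ⊤) := by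
  have key : ∀ (a : A), (H.subgroupOf A).map (MulAut.conj a).toMonoidHom
      = (H.map (MulAut.conj (a : G)).toMonoidHom).subgroupOf A := fun a => by
    ext y
    simp only [Subgroup.mem_subgroupOf, Subgroup.mem_map, MulEquiv.coe_toMonoidHom, MulAut.conj_apply]
    exact ⟨fun ⟨k, hk, he⟩ => ⟨k, hk, congrArg Subtype.val he⟩,
      fun ⟨k, hk, he⟩ => ⟨⟨k, hHA hk⟩, hk, Subtype.ext he⟩⟩
  have hcA : ∀ a : G, a ∈ A → H.map (MulAut.conj a).toMonoidHom ≤ A := fun a ha => by
    rintro _ ⟨k, hk, rfl⟩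
    exact mul_mem (mul_mem ha (hHA hk)) (inv_mem ha)
  have hsup : ∀ a : G, a ∈ A → ((H ⊔ H.map (MulAut.conj a).toMonoidHom).subgroupOf A)
      = H.subgroupOf A ⊔ (H.map (MulAut.conj a).toMonoidHom).subgroupOf A := fun a ha =>
    Subgroup.subgroupOf_sup hHA (hcA a ha)
  constructor
  · intro h
    refine ⟨fun a => ?_, eq_top_iff.mpr fun g _ => ?_⟩
    · obtain ⟨x, hx, he⟩ := h a
      have hxA : x ∈ A := sup_le hHA (hcA a a.2) hx
      refine ⟨⟨x, hxA⟩, ?_, by rw [key, key, he]⟩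
      rw [key, ← hsup a a.2]
      exact hx
    · obtain ⟨x, hx, he⟩ := h g
      have hgA : H.map (MulAut.conj g).toMonoidHom ≤ A := by
        rintro _ ⟨k, hk, rfl⟩
        exact (inferInstance : A.Normal).conj_mem k (hHA hk) g
      have hxA : x ∈ A := sup_le hHA hgA hx
      have hn : x⁻¹ * g ∈ Subgroup.normalizer (H : Set G) := by
        refine Subgroup.mem_normalizer_iff.mpr fun k => ⟨fun hk => ?_, fun hk => ?_⟩
        · obtain ⟨k', hk', he⟩ := (he ▸ Subgroup.mem_map_of_mem _ hk :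
            (MulAut.conj g).toMonoidHom k ∈ H.map (MulAut.conj x).toMonoidHom)
          have he' : x * k' * x⁻¹ = g * k * g⁻¹ := he
          have : x⁻¹ * g * k * (x⁻¹ * g)⁻¹ = k' := by
            calc x⁻¹ * g * k * (x⁻¹ * g)⁻¹ = x⁻¹ * (g * k * g⁻¹) * x := by group
              _ = k' := by rw [← he']; group
          rwa [this]
        · obtain ⟨k', hk', he⟩ := (he.symm ▸ Subgroup.mem_map_of_mem _ hk :
            (MulAut.conj x).toMonoidHom (x⁻¹ * g * k * (x⁻¹ * g)⁻¹) ∈ H.map (MulAut.conj g).toMonoidHom)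
          have he' : g * k' * g⁻¹ = x * (x⁻¹ * g * k * (x⁻¹ * g)⁻¹) * x⁻¹ := he
          have : k' = k := by
            calc k' = g⁻¹ * (g * k' * g⁻¹) * g := by group
              _ = k := by rw [he']; group
          rwa [← this]
      have := Subgroup.mul_mem_sup hxA hn
      rwa [mul_inv_cancel_left] at this
  · rintro ⟨hA, htop⟩ g
    have hg : g ∈ A ⊔ Subgroup.normalizer (H : Set G) := htop ▸ Subgroup.mem_top g
    rw [← SetLike.mem_coe, Subgroup.normal_mul] at hg
    obtain ⟨a, ha, n, hn, rfl⟩ := hg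
    have hHn : H.map (MulAut.conj (a * n)).toMonoidHom = H.map (MulAut.conj a).toMonoidHom := by
      ext y
      simp only [Subgroup.mem_map, MulEquiv.coe_toMonoidHom, MulAut.conj_apply]
      constructor
      · rintro ⟨k, hk, rfl⟩
        exact ⟨n * k * n⁻¹, (Subgroup.mem_normalizer_iff.mp hn k).mp hk, by group⟩
      · rintro ⟨k, hk, rfl⟩
        exact ⟨n⁻¹ * k * n, (Subgroup.mem_normalizer_iff''.mp hn k).mp hk, by group⟩
    obtain ⟨x, hx, he⟩ := hA ⟨a, ha⟩
    rw [hHn]
    rw [key, ← hsup a ha] at hx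
    refine ⟨x, hx, ?_⟩
    rw [key, key] at he
    exact (Subgroup.subgroupOf_inj.mp he |> fun h => by
      rwa [inf_eq_left.mpr (hcA a ha), inf_eq_left.mpr (hcA x x.2)] at h)

end Cfsg.Agent.S3821
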