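import Cfsg.Statements.S3822
import Cfsg.Agent.Coprime.HalfFixed.Maximal
import Cfsg.Agent.Components.PComponents

set_option autoImplicit false
set_option linter.style.haveILetI false
open Cfsg

namespace Cfsg.Agent.S3822

/-- Let G be a finite group and P a subgroup of prime order p > 3. Consider the solvable subgroups A of G of the form A = ⟨P, aPa⁻¹⟩ for some a ∈ A, and let A be maximal under inclusion among them. Then for every nilpotent subgroup V of G normalized by A, the subgroup F(A)V generated by the Fitting subgroup of A and V is nilpotent. -/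
theorem result {G : Type*} [Group G] [Finite G]
    {p : ℕ} [Fact p.Prime] (hp : 3 < p) (P : Subgroup G) (hP : Nat.card P = p) (A : Subgroup G)
    (hA : Group.IsSolvable ↥A ∧ ∃ a ∈ A, A = P ⊔ P.map (MulAut.conj a).toMonoidHom)
    (hmax : ∀ B : Subgroup G, A ≤ B → Group.IsSolvable ↥B → (∃ b ∈ B, B = P ⊔ P.map (MulAut.conj b).toMonoidHom) → B = A)
    (V : Subgroup G) (hV : Group.IsNilpotent ↥V) (hAV : A ≤ Subgroup.normalizer (V : Set G)) :
    Group.IsNilpotent ↥((Cfsg.fittingSubgroup ↥A).map A.subtype ⊔ V) := by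
  classical
  obtain ⟨hsolA, a, ha, hgen⟩ := hA
  set F := (Cfsg.fittingSubgroup ↥A).map A.subtype with hF
  set W := F ⊔ V with hW
  haveI := hV
  let Q : ℕ → Subgroup G := fun q => (Cfsg.pCore q ↥A).map A.subtype
  let R : ℕ → Subgroup G := fun r => (Cfsg.pCore r ↥V).map V.subtype
  have hQle : ∀ q, Q q ≤ A := fun q => Subgroup.map_subtype_le _
  have hRle : ∀ r, R r ≤ V := fun r => Subgroup.map_subtype_le _
  have hQn : ∀ q, A ≤ Subgroup.normalizer (Q q : Set G) := fun q => by
    haveI := (Cfsg.Lib.Components.pCore_normal_and_isPGroup (G := ↥A) q).1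
    intro g hg
    refine Subgroup.mem_normalizer_fintype ?_
    rintro _ ⟨y, hy, rfl⟩
    exact ⟨⟨g, hg⟩ * y * ⟨g, hg⟩⁻¹, (inferInstance : (Cfsg.pCore q ↥A).Normal).conj_mem y hy _, rfl⟩
  have hRnV : ∀ r, Subgroup.normalizer (V : Set G) ≤ Subgroup.normalizer (R r : Set G) := fun r => by
    haveI : (Cfsg.pCore r ↥V).Characteristic := Cfsg.Lib.Components.pCore_characteristic
    exact Cfsg.Lib.HalfFixed.normalizer_le_map_of_characteristic V _
  have hQp : ∀ q, IsPGroup q (Q q) := fun q => (Cfsg.Lib.Components.isPGroup_pCore q).map _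
  have hRp : ∀ r, IsPGroup r (R r) := fun r => (Cfsg.Lib.Components.isPGroup_pCore r).map _
  have hQR : ∀ q r : ℕ, q.Prime → r.Prime → q ≠ r → Q q ≤ Subgroup.centralizer (R r : Set G) := by
    intro q r hq hr hqr
    haveI := Fact.mk hq
    haveI := Fact.mk hr
    exact Cfsg.Lib.HalfFixed.centralizes_of_maximal hp P hP A hsolA ha hgen hmax hqr (Q q) (hQle q) (hQn q)
      (hQp q) _ (R r) rfl (hRp r) (hAV.trans (hRnV r))
  have hFeq : F = ⨆ q : {q : ℕ // q.Prime}, Q q := by
    rw [hF, Cfsg.Lib.Components.fitting_eq_iSup_pCore, Subgroup.map_iSup]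
  have hVeq : V = ⨆ r : {r : ℕ // r.Prime}, R r := by
    have h1 : (⊤ : Subgroup V) ≤ Cfsg.fittingSubgroup ↥V :=
      Cfsg.Lib.Components.le_fitting ((Group.isNilpotent_congr (Subgroup.topEquiv)).mpr hV)
    have h2 : ((Cfsg.fittingSubgroup ↥V).map V.subtype) = V := by
      rw [top_le_iff.1 h1, ← MonoidHom.range_eq_map, Subgroup.range_subtype]
    conv_lhs => rw [← h2, Cfsg.Lib.Components.fitting_eq_iSup_pCore, Subgroup.map_iSup]
  have hQF : ∀ q : {q : ℕ // q.Prime}, Q q ≤ F := fun q => hFeq ▸ le_iSup (fun q : {q : ℕ // q.Prime} => Q q) q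
  have hcomm : ∀ {X Y : Subgroup G}, X ≤ Subgroup.centralizer (Y : Set G) → X ≤ Subgroup.normalizer (Y : Set G) :=
    fun h => h.trans (Subgroup.centralizer_le_normalizer _)
  -- the normal subgroups `Q_r R_r`
  have hS : ∀ r : {r : ℕ // r.Prime}, W ≤ Subgroup.normalizer ((Q r ⊔ R r : Subgroup G) : Set G) := by
    intro r
    rw [hW]
    refine sup_le ?_ ?_
    · exact (Subgroup.map_subtype_le _).trans (Cfsg.Lib.Coprime.le_normalizer_sup (hQn r) (hAV.trans (hRnV r)))
    · conv_lhs => rw [hVeq]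
      refine iSup_le fun s => ?_
      by_cases hsr : s = r
      · subst hsr
        exact le_sup_right.trans Subgroup.le_normalizer
      · refine Cfsg.Lib.Coprime.le_normalizer_sup (hcomm ?_) (((hRle s).trans Subgroup.le_normalizer).trans (hRnV r))
        exact Subgroup.le_centralizer_iff.1 (hQR r s r.2 s.2 (fun e => hsr (Subtype.ext e.symm)))
  have hle : ∀ r : {r : ℕ // r.Prime}, Q r ⊔ R r ≤ W := fun r =>
    sup_le ((hQF r).trans le_sup_left) ((hRle r).trans le_sup_right)
  have hfit : (⊤ : Subgroup W) ≤ Cfsg.fittingSubgroup ↥W := by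
    rw [← Subgroup.map_le_map_iff_of_injective W.subtype_injective, ← MonoidHom.range_eq_map,
      Subgroup.range_subtype]
    have key : ∀ r : {r : ℕ // r.Prime}, Q r ⊔ R r ≤ (Cfsg.fittingSubgroup ↥W).map W.subtype := by
      intro r
      haveI := Fact.mk r.2
      haveI : ((Q r ⊔ R r).subgroupOf W).Normal := Subgroup.normal_subgroupOf_of_le_normalizer (hS r)
      have hpg : IsPGroup r ↥((Q r ⊔ R r).subgroupOf W) :=
        ((hQp r).to_sup_of_normal_right' (hRp r) ((hQle r).trans (hAV.trans (hRnV r)))).of_equiv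
          (Subgroup.subgroupOfEquivOfLe (hle r)).symm
      rw [← Subgroup.map_subgroupOf_eq_of_le (hle r)]
      exact Subgroup.map_mono (Cfsg.Lib.Components.le_fitting hpg.isNilpotent)
    rw [hW] at key ⊢
    refine sup_le ?_ ?_
    · conv_lhs => rw [hFeq]
      exact iSup_le fun q => le_sup_left.trans (key q)
    · conv_lhs => rw [hVeq]
      exact iSup_le fun r => le_sup_right.trans (key r)
  have hWn : Group.IsNilpotent ↥(⊤ : Subgroup W) :=
    top_le_iff.1 hfit ▸ Cfsg.Lib.Components.isNilpotent_fitting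
  exact (Group.isNilpotent_congr Subgroup.topEquiv).mp hWn

end Cfsg.Agent.S3822
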