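import Cfsg.Statements.S3824
import Cfsg.Agent.Chars.Burnside
import Cfsg.Agent.Coprime.Sylow
import Mathlib

set_option autoImplicit false
open Cfsg

namespace Cfsg.Agent.S3824

universe u

theorem solvable_aux (n : ℕ) : ∀ (G : Type u) [Group G] [Finite G], Nat.card G = n →
    ∀ A : Subgroup G, IsMulCommutative A → ∀ {k : ℕ}, A.index ∣ 2 ^ k → Group.IsSolvable G := by
  induction n using Nat.strong_induction_on with
  | _ n ih =>
  intro G _ _ hn A hA k hk
  by_cases hs : ∃ N : Subgroup G, N.Normal ∧ N ≠ ⊥ ∧ N ≠ ⊤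
  · obtain ⟨N, hN, hb, ht⟩ := hs
    haveI := hN
    haveI : Group.IsSolvable N := by
      refine ih _ ?_ N rfl (A.subgroupOf N) ⟨⟨fun x y => ?_⟩⟩ (k := k) ?_
      · rw [← hn]
        exact lt_of_le_of_ne N.card_le_card_group fun e => ht (N.eq_top_of_card_eq e)
      · have h := congrArg Subtype.val
          (mul_comm' (⟨((x : N) : G), x.2⟩ : A) ⟨((y : N) : G), y.2⟩)
        exact Subtype.ext (Subtype.ext (by simpa using h))
      · refine dvd_trans ?_ hk
        show A.relIndex N ∣ A.index
        have h1 : A.relIndex N = A.relIndex (N ⊔ A) := by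
          have e1 := Cfsg.Lib.Coprime.card_sup_mul_card_inf (N := N) (H := A)
            Subgroup.le_normalizer_of_normal
          have e2 := Subgroup.relIndex_mul_relIndex ⊥ A (N ⊔ A) bot_le le_sup_right
          have e3 := Subgroup.relIndex_mul_relIndex ⊥ (N ⊓ A) N bot_le inf_le_left
          rw [Subgroup.relIndex_bot_left, Subgroup.relIndex_bot_left] at e2 e3
          rw [Subgroup.inf_relIndex_left] at e3
          rw [← e2, ← e3] at e1
          refine Nat.eq_of_mul_eq_mul_left (Nat.mul_pos (Nat.card_pos (α := A))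
            (Nat.card_pos (α := (N ⊓ A : Subgroup G)))) ?_
          linarith [e1]
        rw [h1]
        exact ⟨_, (Subgroup.relIndex_mul_index le_sup_right).symm⟩
    haveI : Group.IsSolvable (G ⧸ N) := by
      refine ih _ ?_ (G ⧸ N) rfl (A.map (QuotientGroup.mk' N)) inferInstance
        (dvd_trans (Subgroup.index_map_dvd A (QuotientGroup.mk'_surjective N)) hk)
      rw [← hn, Subgroup.card_eq_card_quotient_mul_card_subgroup N]
      exact lt_mul_of_one_lt_right Nat.card_pos ((Subgroup.one_lt_card_iff_ne_bot N).mpr hb)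
    exact Group.isSolvable_of_ker_le_range (G' := N) N.subtype (QuotientGroup.mk' N) (by simp)
  push Not at hs
  by_cases hAb : A = ⊥
  · subst hAb
    rw [Subgroup.index_bot] at hk
    obtain ⟨j, -, hj⟩ := (Nat.dvd_prime_pow Nat.prime_two).mp hk
    haveI := Fact.mk Nat.prime_two
    haveI := (IsPGroup.of_card hj : IsPGroup 2 G).isNilpotent
    infer_instance
  obtain ⟨a, ha, ha1⟩ := A.bot_or_exists_ne_one.resolve_left hAb
  haveI : Nontrivial G := ⟨⟨a, 1, ha1⟩⟩
  haveI : IsSimpleGroup G := ⟨fun H hH => or_iff_not_imp_left.mpr (hs H hH)⟩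
  have hdvd : Nat.card {x : G // IsConj a x} ∣ 2 ^ k := by
    have h1 : MulAction.orbit (ConjAct G) a = {x : G | IsConj a x} := by
      ext x; rw [ConjAct.mem_orbit_conjAct]; exact isConj_comm
    have h2 := MulAction.index_stabilizer (ConjAct G) a
    rw [h1, Set.ncard_def, ← Set.Finite.cast_ncard_eq (Set.toFinite _), ENat.toNat_coe] at h2
    have h3 : (MulAction.stabilizer (ConjAct G) a).index ∣ A.index := by
      have hle : A.map (ConjAct.toConjAct : G ≃* ConjAct G).toMonoidHom ≤
          MulAction.stabilizer (ConjAct G) a := by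
        rintro _ ⟨x, hx, rfl⟩
        rw [MulAction.mem_stabilizer_iff]
        show ConjAct.toConjAct x • a = a
        rw [ConjAct.toConjAct_smul,
          show x * a = a * x from congrArg Subtype.val (mul_comm' (⟨x, hx⟩ : A) ⟨a, ha⟩),
          mul_inv_cancel_right]
      exact (Subgroup.index_dvd_of_le hle).trans
        (Subgroup.index_map_dvd _ (ConjAct.toConjAct : G ≃* ConjAct G).surjective)
    show Nat.card ({x : G | IsConj a x} : Set G) ∣ _
    rw [Nat.card_coe_set_eq, ← h2]
    exact h3.trans hk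
  obtain ⟨j, -, hj⟩ := (Nat.dvd_prime_pow Nat.prime_two).mp hdvd
  have hp := Cfsg.Lib.Chars.prime_card_of_class_prime_pow 2 j Nat.prime_two a ha1 hj
  haveI := Fact.mk hp
  haveI : IsCyclic G := isCyclic_of_prime_card rfl
  exact Group.isSolvable_of_comm fun x y => IsCyclic.commGroup.mul_comm x y


/-- Every finite group having an abelian subgroup whose index is a power of 2 is solvable. -/
theorem result {G : Type*} [Group G] [Finite G]
    (A : Subgroup G) (hA : IsMulCommutative A) (hidx : ∃ k : ℕ, A.index = 2 ^ k) : Group.IsSolvable G := by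
  obtain ⟨k, hk⟩ := hidx
  exact solvable_aux _ G rfl A hA ((Nat.dvd_prime_pow Nat.prime_two).mpr ⟨k, le_rfl, hk⟩ : A.index ∣ 2 ^ k)

end Cfsg.Agent.S3824
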