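import Cfsg.Statements.S3825
import Mathlib

set_option autoImplicit false
open Cfsg

namespace Cfsg.Agent.S3825

open scoped commutatorElement

/-- Let U be a subgroup of a finite group H and w an involution of H normalizing U and commuting with exactly two elements of U, the identity and y. If V is a non-cyclic elementary abelian 2-subgroup of U containing y which is normal in U and invariant under w, then V is a Sylow 2-subgroup of U, V has order 4, and U/V is abelian. -/
theorem result {H : Type*} [Group H] [Finite H] (U : Subgroup H) (w : H) (hw : orderOf w = 2)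
    (hwU : w ∈ Subgroup.normalizer (U : Set H)) (y : H) (hy : y ≠ 1) (hyU : y ∈ U)
    (hfix : ∀ u ∈ U, w * u * w⁻¹ = u ↔ (u = 1 ∨ u = y))
    (V : Subgroup H) (hVU : V ≤ U) (hVn : (V.subgroupOf U).Normal) (hVw : ∀ v ∈ V, w * v * w⁻¹ ∈ V)
    (hVe : Cfsg.IsElementaryAbelian 2 V) (hVc : ¬ IsCyclic ↥V) (hyV : y ∈ V) :
    ¬ 2 ∣ V.relIndex U ∧ Nat.card ↥V = 4 ∧ ⁅U, U⁆ ≤ V := by
  have hw2 : w * w = 1 := by rw [← sq, ← hw, pow_orderOf_eq_one]
  have hwi : w⁻¹ = w := inv_eq_of_mul_eq_one_right hw2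
  have hwmem : ∀ u ∈ U, w * u * w⁻¹ ∈ U := fun u hu => (Subgroup.mem_normalizer_iff.mp hwU u).mp hu
  have hcom : ∀ a ∈ V, ∀ b ∈ V, a * b = b * a := fun a ha b hb =>
    congrArg Subtype.val (hVe.1.is_comm.comm ⟨a, ha⟩ ⟨b, hb⟩)
  have hinvV : ∀ v ∈ V, v⁻¹ = v := fun v hv => inv_eq_of_mul_eq_one_right (by rw [← sq]; exact hVe.2 v hv)
  -- the key step: a commutator with `w` lying in `V` is fixed by `w`
  have hkey : ∀ u ∈ U, w * u * w⁻¹ * u⁻¹ ∈ V → w * u * w⁻¹ * u⁻¹ = 1 ∨ w * u * w⁻¹ * u⁻¹ = y := by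
    intro u hu hv
    refine (hfix _ (hVU hv)).mp ?_
    have h1 : w * (w * u * w⁻¹ * u⁻¹) * w⁻¹ = (w * u * w⁻¹ * u⁻¹)⁻¹ := by
      calc w * (w * u * w⁻¹ * u⁻¹) * w⁻¹ = (w * w) * u * (w⁻¹ * u⁻¹ * w⁻¹) := by group
        _ = u * (w * u⁻¹ * w⁻¹) := by rw [hw2, one_mul, hwi]
        _ = _ := by group
    rw [h1, hinvV _ hv]
  set d : H → H := fun u => w * u * w⁻¹ * u⁻¹ with hd
  have hsep : ∀ u ∈ U, ∀ u' ∈ U, d u = d u' → u' = u ∨ u' = u * y := by
    intro u hu u' hu' h
    have h1 : w * (u⁻¹ * u') * w⁻¹ = u⁻¹ * u' := by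
      calc w * (u⁻¹ * u') * w⁻¹ = (w * u * w⁻¹)⁻¹ * (w * u' * w⁻¹) := by group
        _ = (d u * u)⁻¹ * (d u' * u') := by simp only [hd]; group
        _ = _ := by rw [h]; group
    rcases (hfix _ (U.mul_mem (U.inv_mem hu) hu')).mp h1 with h2 | h2
    · exact Or.inl (inv_mul_eq_one.mp h2).symm
    · exact Or.inr (inv_mul_eq_iff_eq_mul.mp h2)
  classical
  have := Fintype.ofFinite H
  -- every set of elements of `U` with commutators in `V` has at most four elements
  have hfour : ∀ T : Finset H, (∀ u ∈ T, u ∈ U ∧ d u ∈ V) → T.card ≤ 4 := by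
    intro T hT
    have h1 : ∀ z, (T.filter fun u => d u = z).card ≤ 2 := by
      intro z
      rcases (T.filter fun u => d u = z).eq_empty_or_nonempty with h | ⟨u₀, hu₀⟩
      · simp [h]
      · rw [Finset.mem_filter] at hu₀
        refine (Finset.card_le_card (t := {u₀, u₀ * y}) fun u hu => ?_).trans (Finset.card_le_two)
        rw [Finset.mem_filter] at hu
        rcases hsep u₀ (hT _ hu₀.1).1 u (hT _ hu.1).1 (hu₀.2.trans hu.2.symm) with h | h <;> simp [h]
    have h2 := Finset.card_le_mul_card_image T 2 (fun z _ => h1 z) (f := d)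
    have h3 : (T.image d).card ≤ 2 := by
      refine (Finset.card_le_card (t := {1, y}) fun z hz => ?_).trans Finset.card_le_two
      obtain ⟨u, hu, rfl⟩ := Finset.mem_image.mp hz
      rcases hkey u (hT _ hu).1 (hT _ hu).2 with h | h <;> simp [hd, h]
    omega
  have hdV : ∀ v ∈ V, d v ∈ V := fun v hv => V.mul_mem (hVw v hv) (V.inv_mem hv)
  have hV4 : Nat.card V = 4 := by
    have hle : Nat.card V ≤ 4 := by
      have := hfour (Finset.univ.filter (· ∈ V)) (fun u hu => by
        simp only [Finset.mem_filter, Finset.mem_univ, true_and] at hu; exact ⟨hVU hu, hdV u hu⟩)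
      rwa [← Fintype.card_subtype, ← Nat.card_eq_fintype_card] at this
    have hp2 : IsPGroup 2 V := fun v => ⟨1, Subtype.ext (hVe.2 v v.2)⟩
    have := Fact.mk Nat.prime_two
    obtain ⟨k, hk⟩ := IsPGroup.iff_card.mp hp2
    rcases k with _ | _ | _ | k
    · exact absurd (by
        have : Subsingleton V := (Nat.card_eq_one_iff_unique.mp (by simpa using hk)).1
        exact isCyclic_of_subsingleton) hVc
    · exact absurd (isCyclic_of_prime_card (p := 2) (by simpa using hk)) hVc
    · simpa using hk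
    · exfalso
      rw [hk, show k + 1 + 1 + 1 = k + 3 from rfl, pow_add] at hle
      have := Nat.one_le_pow k 2 (by norm_num)
      omega
  have hfixQ : ∀ u ∈ U, d u ∈ V → u ∈ V := by
    intro u hu hdu
    by_contra huV
    have := hfour (insert u (Finset.univ.filter (· ∈ V))) (fun z hz => by
      rcases Finset.mem_insert.mp hz with rfl | hz
      · exact ⟨hu, hdu⟩
      · simp only [Finset.mem_filter, Finset.mem_univ, true_and] at hz; exact ⟨hVU hz, hdV z hz⟩)
    rw [Finset.card_insert_of_notMem (by simp [huV]), ← Fintype.card_subtype,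
      ← Nat.card_eq_fintype_card, hV4] at this
    omega
  -- `w` inverts `U / V`
  set π := QuotientGroup.mk' (V.subgroupOf U)
  let W : U →* U := MonoidHom.mk' (fun u => ⟨w * u * w⁻¹, hwmem u u.2⟩)
    fun a b => Subtype.ext (by simp only [Subgroup.coe_mul]; group)
  let τ : U ⧸ V.subgroupOf U →* U ⧸ V.subgroupOf U :=
    QuotientGroup.map _ _ W (fun u hu => hVw u hu)
  have hτ : ∀ u : U, τ (π u) = π (W u) := fun u => rfl
  have hτfix : ∀ q, τ q = q → q = 1 := by
    intro q hq
    obtain ⟨u, rfl⟩ := QuotientGroup.mk'_surjective _ q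
    rw [hτ] at hq
    refine (QuotientGroup.eq_one_iff u).mpr (hfixQ u u.2 ?_)
    have h1 : π (W u * u⁻¹) = 1 := by rw [map_mul, hq, map_inv, mul_inv_cancel]
    exact (QuotientGroup.eq_one_iff (W u * u⁻¹)).mp h1
  have hττ : ∀ q, τ (τ q) = q := by
    intro q
    obtain ⟨u, rfl⟩ := QuotientGroup.mk'_surjective _ q
    rw [hτ, hτ]
    refine congrArg π (Subtype.ext ?_)
    show w * (w * (u : H) * w⁻¹) * w⁻¹ = u
    rw [hwi, ← mul_assoc, ← mul_assoc, hw2, one_mul, mul_assoc, hw2, mul_one]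
  have hinv : ∀ q, τ q = q⁻¹ := by
    intro q
    have hinj : Function.Injective fun z => z⁻¹ * τ z := fun a b hab => by
      have h1 : τ (b * a⁻¹) = b * a⁻¹ := by
        simp only at hab
        have h2 : τ a = a * b⁻¹ * τ b := by rw [mul_assoc, ← hab, mul_inv_cancel_left]
        rw [map_mul, map_inv, h2]
        group
      exact (mul_inv_eq_one.mp (hτfix _ h1)).symm
    obtain ⟨z, rfl⟩ := Finite.surjective_of_injective hinj q
    simp only
    rw [map_mul, map_inv, hττ, mul_inv_rev, inv_inv]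
  refine ⟨fun h2 => ?_, hV4, ?_⟩
  · have := Fact.mk Nat.prime_two
    obtain ⟨q, hq⟩ := exists_prime_orderOf_dvd_card' (G := U ⧸ V.subgroupOf U) 2 h2
    have h1 : q⁻¹ = q := inv_eq_of_mul_eq_one_right (by rw [← sq, ← hq, pow_orderOf_eq_one])
    have := hτfix q (by rw [hinv, h1])
    rw [this, orderOf_one] at hq
    omega
  · rw [Subgroup.commutator_le]
    intro a ha b hb
    have h1 : π ⁅(⟨a, ha⟩ : U), ⟨b, hb⟩⁆ = 1 := by
      rw [map_commutatorElement, commutatorElement_eq_one_iff_mul_comm]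
      set x := π ⟨a, ha⟩
      set z := π ⟨b, hb⟩
      have h3 : (x * z)⁻¹ = x⁻¹ * z⁻¹ := by rw [← hinv, map_mul, hinv, hinv]
      exact inv_injective (by rw [h3, mul_inv_rev])
    exact (QuotientGroup.eq_one_iff ⁅(⟨a, ha⟩ : U), (⟨b, hb⟩ : U)⁆).mp h1

end Cfsg.Agent.S3825
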