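import Cfsg.Statements.S3835
import Cfsg.Agent.Fusion.Qd
import Cfsg.Agent.Quadratic.SLTwoDickson

set_option autoImplicit false
open Cfsg

namespace Cfsg.Agent.S3835

open scoped commutatorElement

open Cfsg.Lib.Fusion Matrix

/-- A `p`-group of permutations of fewer than `p²` points is commutative. -/
theorem comm_of_pgroup {Ω G : Type*} [Group G] [Finite Ω] [MulAction G Ω] [FaithfulSMul G Ω] {p : ℕ} [Fact p.Prime]
    (P : Subgroup G) [Finite P] (hP : IsPGroup p P) (hn : Nat.card Ω < p ^ 2) (a b : P) : a * b = b * a := by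
  rw [← commutatorElement_eq_one_iff_mul_comm]
  refine Subtype.ext (eq_of_smul_eq_smul (α := Ω) fun x => ?_)
  rw [Subgroup.coe_one, one_smul]
  change ⁅a, b⁆ • x = x
  rw [← MulAction.mem_stabilizer_iff]
  obtain ⟨k, hk⟩ := hP.index (MulAction.stabilizer P x)
  have hle : (MulAction.stabilizer P x).index ≤ Nat.card Ω := by
    rw [MulAction.index_stabilizer]
    exact Nat.card_le_card_of_injective _ Subtype.val_injective
  have hk2 : k < 2 := by
    by_contra h
    push Not at h
    have := Nat.pow_le_pow_right (Fact.out : p.Prime).pos h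
    omega
  interval_cases k
  · rw [pow_zero, Subgroup.index_eq_one] at hk
    rw [hk]; trivial
  · rw [pow_one] at hk
    haveI hN : (MulAction.stabilizer P x).Normal := by
      haveI := hP.isNilpotent
      refine Subgroup.NormalizerCondition.normal_of_coatom _ Group.normalizerCondition_of_isNilpotent ?_
      refine ⟨fun h => (Fact.out : p.Prime).ne_one (by rw [← hk, h, Subgroup.index_top]), fun K hK => ?_⟩
      rcases (Fact.out : p.Prime).eq_one_or_self_of_dvd _ (hk ▸ Subgroup.index_dvd_of_le hK.le) with h | h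
      · exact Subgroup.index_eq_one.1 h
      · have := Subgroup.relIndex_mul_index hK.le
        rw [h, hk] at this
        exact absurd (Subgroup.relIndex_eq_one.1 (Nat.mul_right_cancel (Fact.out : p.Prime).pos (by rw [this, one_mul])))
          (not_le_of_gt hK)
    have hc : Nat.card (P ⧸ MulAction.stabilizer P x) = p := by rw [← Subgroup.index_eq_card, hk]
    haveI := isCyclic_of_prime_card hc
    rw [← QuotientGroup.eq_one_iff]
    show QuotientGroup.mk' _ ⁅a, b⁆ = 1
    rw [map_commutatorElement, commutatorElement_eq_one_iff_mul_comm]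
    exact mul_comm' _ _

/-- The affine action of `Qd(p)`. -/
def actFun {p : ℕ} (a : qd p) (v : Fin 2 → ZMod p) : Fin 2 → ZMod p :=
  fun i => (a.1.1 *ᵥ ![v 0, v 1, 1]) i.castSucc

theorem actFun_aff {p : ℕ} (M : SpecialLinearGroup (Fin 2) (ZMod p)) (w v : Fin 2 → ZMod p) :
    actFun (aff M w) v = (M : Matrix (Fin 2) (Fin 2) (ZMod p)) *ᵥ v + w := by
  ext i
  fin_cases i <;>
    simp [actFun, aff, affMat, Matrix.mulVec, dotProduct, Fin.sum_univ_three, Fin.sum_univ_two]

theorem actFun_mul {p : ℕ} [Fact p.Prime] (a b : qd p) (v : Fin 2 → ZMod p) : actFun (a * b) v = actFun a (actFun b v) := by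
  obtain ⟨M, w, rfl⟩ := exists_eq_aff a
  obtain ⟨N, u, rfl⟩ := exists_eq_aff b
  rw [aff_mul, actFun_aff, actFun_aff, actFun_aff, mulVec_add, Matrix.mulVec_mulVec, Matrix.SpecialLinearGroup.coe_mul,
    add_assoc]

theorem actFun_one {p : ℕ} (v : Fin 2 → ZMod p) : actFun (1 : qd p) v = v := by
  rw [← aff_one, actFun_aff, Matrix.SpecialLinearGroup.coe_one, one_mulVec, add_zero]

/-- The affine action as permutations. -/
def actHom {p : ℕ} [Fact p.Prime] : qd p →* Equiv.Perm (Fin 2 → ZMod p) where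
  toFun a := ⟨actFun a, actFun a⁻¹, fun v => by rw [← actFun_mul, inv_mul_cancel, actFun_one],
    fun v => by rw [← actFun_mul, mul_inv_cancel, actFun_one]⟩
  map_one' := Equiv.ext actFun_one
  map_mul' a b := Equiv.ext (actFun_mul a b)

theorem actHom_injective {p : ℕ} [Fact p.Prime] : Function.Injective (actHom (p := p)) := by
  rw [injective_iff_map_eq_one]
  intro a ha
  obtain ⟨M, w, rfl⟩ := exists_eq_aff a
  have h : ∀ v, (M : Matrix (Fin 2) (Fin 2) (ZMod p)) *ᵥ v + w = v := fun v => by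
    rw [← actFun_aff]; exact Equiv.congr_fun ha v
  have hw : w = 0 := by simpa using h 0
  have hM : M = 1 := Subtype.ext (Matrix.ext_of_mulVec_single fun i => by
    rw [Matrix.SpecialLinearGroup.coe_one, one_mulVec]; simpa [hw] using h (Pi.single i 1))
  rw [hw, hM, aff_one]

theorem sign_eq_one {p : ℕ} [Fact p.Prime] (hp : p ≠ 2) (χ : qd p →* ℤˣ) (a : qd p) : χ a = 1 := by
  have hodd : ∀ b : qd p, b ^ p = 1 → χ b = 1 := by
    intro b hb
    have h2 : χ b ^ p = 1 := by rw [← map_pow, hb, map_one]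
    rcases Int.units_eq_one_or (χ b) with h | h
    · exact h
    · exact absurd (h ▸ h2) (by rw [((Fact.out : p.Prime).odd_of_ne_two hp).neg_one_pow]; decide)
  obtain ⟨M, w, rfl⟩ := exists_eq_aff a
  rw [show aff M w = transl (Multiplicative.ofAdd w) * linear M from (transl_mul_linear M _).symm, map_mul,
    hodd _ (by rw [← map_pow, ← ofAdd_nsmul, char_nsmul_eq_zero, ofAdd_zero, map_one]), one_mul]
  have hpow : ∀ (t : ZMod p) (k : ℕ), (!![1, t; 0, 1] : Matrix (Fin 2) (Fin 2) (ZMod p)) ^ k = !![1, k * t; 0, 1] := by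
    intro t k
    induction k with
    | zero => simp [Matrix.one_fin_two]
    | succ k ih => rw [pow_succ, ih]; simp [Matrix.mul_fin_two]; ring
  have hpow' : ∀ (t : ZMod p) (k : ℕ), (!![1, 0; t, 1] : Matrix (Fin 2) (Fin 2) (ZMod p)) ^ k = !![1, 0; k * t, 1] := by
    intro t k
    induction k with
    | zero => simp [Matrix.one_fin_two]
    | succ k ih => rw [pow_succ, ih]; simp [Matrix.mul_fin_two]; ring
  have htop := Cfsg.Lib.SLTwoSub.closure_transvections ((χ.comp linear).ker)
    (fun g hg => hodd _ (by rw [← map_pow, ← map_one (linear (p := p))]; congr 1; exact Subtype.ext (by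
      rw [Matrix.SpecialLinearGroup.coe_pow, hg, hpow]; simp [Matrix.one_fin_two])))
    (fun g hg => hodd _ (by rw [← map_pow, ← map_one (linear (p := p))]; congr 1; exact Subtype.ext (by
      rw [Matrix.SpecialLinearGroup.coe_pow, hg, hpow']; simp [Matrix.one_fin_two])))
  exact (MonoidHom.mem_ker).1 (htop.symm ▸ Subgroup.mem_top M : M ∈ (χ.comp linear).ker)
where
  char_nsmul_eq_zero {p : ℕ} {w : Fin 2 → ZMod p} : p • w = 0 := by
    ext i; simp

/-- The unitriangular elements form a noncommutative `p`-subgroup. -/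
theorem exists_nonabelian (p : ℕ) [Fact p.Prime] : ∃ P : Subgroup (qd p), IsPGroup p P ∧ ∃ a b : P, a * b ≠ b * a := by
  let T : Subgroup (qd p) :=
    { carrier := {a | ∃ t w, a = aff ⟨!![1, t; 0, 1], by simp [Matrix.det_fin_two]⟩ w}
      one_mem' := ⟨0, 0, by rw [← aff_one]; congr 1; exact Subtype.ext (by simp [Matrix.one_fin_two])⟩
      mul_mem' := by
        rintro _ _ ⟨t, w, rfl⟩ ⟨s, u, rfl⟩
        refine ⟨t + s, (!![1, t; 0, 1] : Matrix (Fin 2) (Fin 2) (ZMod p)) *ᵥ u + w, ?_⟩
        refine (aff_mul _ _ _ _).trans ?_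
        congr 1
        refine Subtype.ext ?_
        show (!![1, t; 0, 1] : Matrix (Fin 2) (Fin 2) (ZMod p)) * !![1, s; 0, 1] = _
        simp [Matrix.mul_fin_two, add_comm]
      inv_mem' := by
        rintro _ ⟨t, w, rfl⟩
        refine ⟨-t, -((!![1, -t; 0, 1] : Matrix (Fin 2) (Fin 2) (ZMod p)) *ᵥ w), ?_⟩
        rw [inv_eq_iff_mul_eq_one, ← aff_one]
        refine (aff_mul _ _ _ _).trans ?_
        congr 1
        · refine Subtype.ext ?_
          show (!![1, t; 0, 1] : Matrix (Fin 2) (Fin 2) (ZMod p)) * !![1, -t; 0, 1] = _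
          simp [Matrix.mul_fin_two, Matrix.one_fin_two]
        · rw [mulVec_neg, Matrix.mulVec_mulVec]
          simp [Matrix.mul_fin_two]
          }
  have hcard : Nat.card T ∣ p ^ 3 := by
    have e : T ≃ ZMod p × (Fin 2 → ZMod p) :=
      (Equiv.ofBijective (fun x : ZMod p × (Fin 2 → ZMod p) =>
          (⟨aff ⟨!![1, x.1; 0, 1], by simp [Matrix.det_fin_two]⟩ x.2, x.1, x.2, rfl⟩ : T))
        ⟨fun x y h => by
            obtain ⟨h1, h2⟩ := aff_inj (congrArg Subtype.val h)
            exact Prod.ext (by simpa using congrFun (congrFun (congrArg Subtype.val h1) 0) 1) h2,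
         fun ⟨_, t, w, h⟩ => ⟨(t, w), Subtype.ext h.symm⟩⟩).symm
    rw [Nat.card_congr e, Nat.card_prod, Nat.card_fun, Nat.card_zmod, Nat.card_fin, ← pow_succ']
  obtain ⟨k, -, hk⟩ := (Nat.dvd_prime_pow Fact.out).1 hcard
  refine ⟨T, IsPGroup.of_card hk, ⟨_, 1, 0, rfl⟩, ⟨_, 0, ![0, 1], rfl⟩, fun h => ?_⟩
  have h' := congrArg Subtype.val h
  simp only [Subgroup.coe_mul] at h'
  have := congrFun (aff_inj (((aff_mul _ _ _ _).symm.trans h').trans (aff_mul _ _ _ _))).2 0
  simp [Matrix.mulVec, dotProduct] at this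


/-- Let p be an odd prime and n a natural number. The alternating group of degree n has a subgroup isomorphic to Qd(p) (the natural semidirect product of an elementary abelian group of order p² by SL₂(p)) if and only if n ≥ p²; and if n < p² then Qd(p) is not even involved in it. -/
theorem result {p : ℕ} [Fact p.Prime] (hp : p ≠ 2) (n : ℕ) : ((∃ H : Subgroup (alternatingGroup (Fin n)), Nonempty (↥H ≃* ↥(Cfsg.qd p))) ↔ p ^ 2 ≤ n) ∧ (n < p ^ 2 → ¬ Cfsg.Involves ↥(Cfsg.qd p) ↥(alternatingGroup (Fin n))) := by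
  classical
  have hinv : n < p ^ 2 → ¬ Cfsg.Involves ↥(Cfsg.qd p) ↥(alternatingGroup (Fin n)) := by
    rintro hn ⟨K, R, hR, ⟨e⟩⟩
    haveI := hR
    obtain ⟨T, hT, a, b, hab⟩ := exists_nonabelian p
    let π : K →* qd p := e.toMonoidHom.comp (QuotientGroup.mk' _)
    have hπ : Function.Surjective π := e.surjective.comp (QuotientGroup.mk'_surjective _)
    obtain ⟨Q, hQ⟩ := hT.exists_le_sylow
    obtain ⟨Q0, hQ0⟩ := Sylow.mapSurjective_surjective hπ p Q
    obtain ⟨x, hx, hxa⟩ := (hQ0 ▸ hQ a.2 : (a : qd p) ∈ (Q0.mapSurjective hπ : Subgroup (qd p)))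
    obtain ⟨y, hy, hyb⟩ := (hQ0 ▸ hQ b.2 : (b : qd p) ∈ (Q0.mapSurjective hπ : Subgroup (qd p)))
    have hxy := comm_of_pgroup (Ω := Fin n) ((Q0 : Subgroup K).map K.subtype) (Q0.2.map K.subtype)
      (by rw [Nat.card_fin]; exact hn) ⟨_, x, hx, rfl⟩ ⟨_, y, hy, rfl⟩
    have hxy' : x * y = y * x := by
      have h1 := congrArg Subtype.val hxy
      exact Subtype.ext h1
    refine hab (Subtype.ext ?_)
    show (a : qd p) * b = b * a
    rw [← hxa, ← hyb, ← map_mul, ← map_mul, hxy']
  refine ⟨⟨fun ⟨H, ⟨e⟩⟩ => ?_, fun hn => ?_⟩, hinv⟩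
  · by_contra hn
    refine hinv (not_le.1 hn) ⟨H, ⊥, ?_, ⟨?_⟩⟩
    · rw [Subgroup.bot_subgroupOf]; infer_instance
    · exact ((QuotientGroup.quotientMulEquivOfEq (Subgroup.bot_subgroupOf H)).trans QuotientGroup.quotientBot).trans e
  · obtain ⟨ι⟩ : Nonempty ((Fin 2 → ZMod p) ↪ Fin n) := Function.Embedding.nonempty_of_card_le (by
      simpa using hn)
    let φ : qd p →* Equiv.Perm (Fin n) := (Equiv.Perm.viaEmbeddingHom ι).comp actHom
    have hφ : ∀ a, φ a ∈ alternatingGroup (Fin n) := fun a =>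
      Equiv.Perm.mem_alternatingGroup.2 (sign_eq_one hp (Equiv.Perm.sign.comp φ) a)
    have hinj : Function.Injective (φ.codRestrict (alternatingGroup (Fin n)) hφ) := fun a b h =>
      actHom_injective (Equiv.Perm.viaEmbeddingHom_injective ι (congrArg Subtype.val h))
    exact ⟨_, ⟨(MonoidHom.ofInjective hinj).symm⟩⟩

end Cfsg.Agent.S3835
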