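import Cfsg.Statements.S3838
import Cfsg.Agent.Transfer.Tate
import Cfsg.Agent.Transfer.Frobenius
import Cfsg.Agent.Coprime.Action

set_option autoImplicit false
open Cfsg

namespace Cfsg.Agent.S3838

open Subgroup
open scoped commutatorElement


/-- Let G be a finite group with Sylow p-subgroup P such that N_G(P) has a normal p-complement. Then N_G(Q) has a normal p-complement for every subgroup Q with [P, P] ≤ Q ≤ Φ(P). -/
theorem result {G : Type*} [Group G] [Finite G] {p : ℕ} [Fact p.Prime] (P : Sylow p G) (hN : Cfsg.HasNormalPComplement p ↥(Subgroup.normalizer ((P : Subgroup G) : Set G))) (Q : Subgroup G) (h1 : (commutator ↥(P : Subgroup G)).map (P : Subgroup G).subtype ≤ Q) (h2 : Q ≤ (frattini ↥(P : Subgroup G)).map (P : Subgroup G).subtype) : Cfsg.HasNormalPComplement p ↥(Subgroup.normalizer (Q : Set G)) := by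
  classical
  have hp : p.Prime := Fact.out
  have hQP : Q ≤ (P : Subgroup G) := h2.trans (map_subtype_le _)
  have hPY : (P : Subgroup G) ≤ normalizer (Q : Set G) := fun r hr => by
    refine Cfsg.Lib.Coprime.mem_normalizer_of_conj_mem (fun q hq => ?_) (fun q hq => ?_)
    · have hc : r * q * r⁻¹ * q⁻¹ ∈ Q := h1 ⟨⁅(⟨r, hr⟩ : (P : Subgroup G)), ⟨q, hQP hq⟩⁆,
        commutator_mem_commutator (mem_top _) (mem_top _), by simp [commutatorElement_def]⟩
      have := mul_mem hc hq
      rwa [inv_mul_cancel_right] at this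
    · have hc : r⁻¹ * q * r * q⁻¹ ∈ Q := h1 ⟨⁅(⟨r⁻¹, inv_mem hr⟩ : (P : Subgroup G)), ⟨q, hQP hq⟩⁆,
        commutator_mem_commutator (mem_top _) (mem_top _), by simp [commutatorElement_def]⟩
      have := mul_mem hc hq
      rwa [inv_mul_cancel_right] at this
  set Y := normalizer (Q : Set G) with hY
  set Qy := Q.subgroupOf Y
  haveI : Qy.Normal := Subgroup.normal_in_normalizer
  let PY : Sylow p Y := P.subtype hPY
  have hPYc : (PY : Subgroup Y) = (P : Subgroup G).subgroupOf Y := Sylow.coe_subtype P hPY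
  set φ := QuotientGroup.mk' Qy
  let Pb : Sylow p (Y ⧸ Qy) := PY.mapSurjective (QuotientGroup.mk'_surjective Qy)
  have hPb : (Pb : Subgroup (Y ⧸ Qy)) = (PY : Subgroup Y).map φ := rfl
  have habel : ∀ a ∈ (PY : Subgroup Y), ∀ b ∈ (PY : Subgroup Y), φ a * φ b = φ b * φ a := by
    intro a ha b hb
    rw [hPYc, mem_subgroupOf] at ha hb
    rw [← commutatorElement_eq_one_iff_mul_comm, ← map_commutatorElement]
    refine (QuotientGroup.eq_one_iff _).2 ?_
    show ((⁅a, b⁆ : Y) : G) ∈ Q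
    exact h1 ⟨⁅(⟨a, ha⟩ : (P : Subgroup G)), ⟨b, hb⟩⁆, commutator_mem_commutator (mem_top _) (mem_top _), by
      simp [commutatorElement_def]⟩
  have hQyP : Qy ≤ (PY : Subgroup Y) := fun x hx => by
    rw [hPYc, mem_subgroupOf]; exact hQP hx
  have hcentral : normalizer (Pb : Set (Y ⧸ Qy)) ≤ centralizer (Pb : Set (Y ⧸ Qy)) := by
    intro x hx
    obtain ⟨z, rfl⟩ := QuotientGroup.mk'_surjective Qy x
    have hback : ∀ w : Y, φ w ∈ (Pb : Subgroup (Y ⧸ Qy)) → (w : G) ∈ (P : Subgroup G) := by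
      intro w hw
      have h : w ∈ ((PY : Subgroup Y).map φ).comap φ := hw
      rw [comap_map_eq, QuotientGroup.ker_mk', sup_eq_left.2 hQyP, hPYc, mem_subgroupOf] at h
      exact h
    have hzN : (z : G) ∈ normalizer ((P : Subgroup G) : Set G) := by
      refine Cfsg.Lib.Coprime.mem_normalizer_of_conj_mem (fun w hw => ?_) (fun w hw => ?_)
      · have h : φ (⟨w, hPY hw⟩ : Y) ∈ (Pb : Subgroup (Y ⧸ Qy)) :=
          ⟨⟨w, hPY hw⟩, by rw [SetLike.mem_coe, hPYc, mem_subgroupOf]; exact hw, rfl⟩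
        exact hback (z * ⟨w, hPY hw⟩ * z⁻¹) (by
          rw [map_mul, map_mul, map_inv]; exact (mem_normalizer_iff.1 hx _).1 h)
      · have h : φ (⟨w, hPY hw⟩ : Y) ∈ (Pb : Subgroup (Y ⧸ Qy)) :=
          ⟨⟨w, hPY hw⟩, by rw [SetLike.mem_coe, hPYc, mem_subgroupOf]; exact hw, rfl⟩
        exact hback (z⁻¹ * ⟨w, hPY hw⟩ * z) (by
          rw [map_mul, map_mul, map_inv]; exact (mem_normalizer_iff''.1 hx _).1 h)
    set N := normalizer ((P : Subgroup G) : Set G)
    obtain ⟨a, b, hag, hbg, hab, ⟨k, hak⟩, hb⟩ := Cfsg.Lib.Transfer.exists_pPart (G := Y) p z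
    have hzle : ∀ w ∈ zpowers z, (w : G) ∈ N := by
      intro w hw
      obtain ⟨i, rfl⟩ := mem_zpowers_iff.1 hw
      simpa using zpow_mem hzN i
    have haP : (a : G) ∈ (P : Subgroup G) := by
      have hpa : IsPGroup p (zpowers (a : G)) :=
        IsPGroup.of_card (n := k) (by rw [Nat.card_zpowers, Subgroup.orderOf_coe, hak])
      exact (P.3 (P.2.to_sup_of_normal_left' hpa (zpowers_le.2 (hzle a hag))) le_sup_left).le
        (mem_sup_right (mem_zpowers _))
    have hbC : ∀ w ∈ (P : Subgroup G), w * (b : G) = (b : G) * w := by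
      intro w hw
      have h := Cfsg.Lib.Transfer.centralize_of_hasNormalPComplement (G := N) hN
        ((P : Subgroup G).subgroupOf N) (P.2.of_equiv (subgroupOfEquivOfLe le_normalizer).symm)
        ⟨b, hzle b hbg⟩ (by rw [normalizer_eq_top_iff.2 normal_in_normalizer]; exact mem_top _)
        (by rw [Subgroup.orderOf_mk, Subgroup.orderOf_coe]; exact hb)
      exact congrArg Subtype.val (mem_centralizer_iff.1 h ⟨w, le_normalizer hw⟩ hw)
    refine mem_centralizer_iff.2 fun q hq => ?_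
    obtain ⟨w, hw, rfl⟩ := hq
    have hw' : (w : G) ∈ (P : Subgroup G) := by rwa [SetLike.mem_coe, hPYc, mem_subgroupOf] at hw
    have e1 : φ w * φ a = φ a * φ w := habel w hw a (by rw [hPYc, mem_subgroupOf]; exact haP)
    have e2 : φ w * φ b = φ b * φ w := by
      rw [← map_mul, ← map_mul]; exact congrArg φ (Subtype.ext (hbC _ hw'))
    rw [← hab, map_mul]
    calc φ w * (φ a * φ b) = φ a * (φ w * φ b) := by rw [← mul_assoc, e1, mul_assoc]
      _ = _ := by rw [e2, mul_assoc]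
  have hYq : Cfsg.HasNormalPComplement p (Y ⧸ Qy) :=
    Cfsg.Lib.Transfer.hasNormalPComplement_of_isComplement' (MonoidHom.ker_transferSylow_isComplement' Pb hcentral)
  obtain ⟨Nb, hNb, hNc, m, hNi⟩ := Cfsg.Lib.Transfer.hasNormalPComplement_iff.1 hYq
  set K := Nb.comap φ
  haveI : K.Normal := hNb.comap φ
  obtain ⟨j, hj⟩ := Pb.2.exists_card_eq
  have hKP : K ⊓ (PY : Subgroup Y) ≤ Qy := fun x ⟨hx1, hx2⟩ => by
    refine (QuotientGroup.eq_one_iff x).1 ?_
    exact Cfsg.Lib.Coprime.eq_one_of_coprime (N := Nb) (H := (Pb : Subgroup (Y ⧸ Qy)))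
      (by rw [hj]; exact hNc.pow_right j) hx1 ⟨x, hx2, rfl⟩
  have hfr : Qy ≤ (frattini PY).map (PY : Subgroup Y).subtype := by
    intro x hx
    refine ⟨⟨x, hQyP hx⟩, ?_, rfl⟩
    rw [SetLike.mem_coe]
    simp only [frattini, Order.radical, mem_iInf]
    intro M hM
    let e : (PY : Subgroup Y) ≃* (P : Subgroup G) :=
      (MulEquiv.subgroupCongr hPYc).trans (subgroupOfEquivOfLe hPY)
    have hM' : IsCoatom (M.map e.toMonoidHom) := (e.mapSubgroup.isCoatom_iff M).2 hM
    obtain ⟨y, hy, hyx⟩ := h2 hx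
    have hymem : y ∈ M.map e.toMonoidHom := frattini_le_coatom hM' hy
    obtain ⟨v, hv, hve⟩ := hymem
    have : v = ⟨x, hQyP hx⟩ := e.injective (Subtype.ext (by
      rw [show e v = y from hve]; exact hyx.trans rfl))
    rwa [← this]
  have hK : Cfsg.HasNormalPComplement p K :=
    Cfsg.Lib.Transfer.hasNormalPComplement_of_le_frattini PY K (hKP.trans hfr)
  rw [Cfsg.Lib.Transfer.hasNormalPComplement_iff_pResidual] at hK ⊢
  have hle : Cfsg.pResidual p Y ≤ (Cfsg.pResidual p K).map K.subtype := (closure_le _).2 fun x hx => by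
    have hxK : x ∈ K := (Cfsg.Lib.Transfer.mem_iff_coprime_orderOf hNc hNi (φ x)).2
      (Nat.Coprime.coprime_dvd_left (orderOf_map_dvd φ x) hx)
    exact ⟨⟨x, hxK⟩, Cfsg.Lib.Transfer.mem_pResidual_of_coprime (by rw [Subgroup.orderOf_mk]; exact hx), rfl⟩
  refine Nat.Coprime.coprime_dvd_left ((card_dvd_of_le hle).trans (card_map_dvd _ _)) hK

end Cfsg.Agent.S3838
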