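import Cfsg.Statements.S3857
import Mathlib
import Cfsg.Agent.SolvStruct.DisconnectedGraph

set_option autoImplicit false
open Cfsg

namespace Cfsg.Agent.S3857

open Subgroup

/-- A finite solvable group whose prime graph (prime divisors of the order, two distinct primes joined when there is an element of order their product) is disconnected is a Frobenius group or a 2-Frobenius group (it has normal subgroups H < K with K a Frobenius group with kernel H and G/H a Frobenius group with kernel K/H). -/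
theorem result {G : Type*} [Group G] [Finite G] (hsol : Group.IsSolvable G)
    (hdisc : (∃ A : Set ℕ, (∃ a ∈ A, a.Prime ∧ a ∣ Nat.card G) ∧ (∃ b ∉ A, b.Prime ∧ b ∣ Nat.card G) ∧
      ∀ a ∈ A, ∀ b ∉ A, a.Prime → b.Prime → a ∣ Nat.card G → b ∣ Nat.card G → ¬ ∃ g : G, orderOf g = a * b)) :
    (∃ C : Subgroup G, Cfsg.IsFrobeniusComplement C) ∨
    (∃ (H K : Subgroup G) (_ : H.Normal), K.Normal ∧ H < K ∧
      (∃ C : Subgroup ↥K, Cfsg.IsFrobeniusComplement C ∧ Cfsg.frobeniusKernel C = (H.subgroupOf K : Set ↥K)) ∧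
      (∃ C : Subgroup (G ⧸ H), Cfsg.IsFrobeniusComplement C ∧ Cfsg.frobeniusKernel C = (K.map (QuotientGroup.mk' H) : Set (G ⧸ H)))) := by
  classical
  obtain ⟨A, ⟨a, haA, ha, had⟩, ⟨b, hbA, hb, hbd⟩, hno⟩ := hdisc
  haveI := hsol
  haveI : Nontrivial G := by
    rw [← Finite.one_lt_card_iff_nontrivial]
    exact lt_of_lt_of_le ha.one_lt (Nat.le_of_dvd Nat.card_pos had)
  obtain ⟨T, -, hTn, hT0, hTmin⟩ := Cfsg.Lib.Coprime.exists_minimal_normal (G := G) (K := ⊤) inferInstance top_ne_bot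
  haveI := hTn
  obtain ⟨-, q, hq, hTq, -⟩ := Cfsg.Lib.Coprime.minimal_normal_solvable inferInstance hT0 hTmin
  haveI := Fact.mk hq
  obtain ⟨j, hj⟩ := IsPGroup.iff_card.1 hTq
  have hsep : ∀ c d : ℕ, c.Prime → d.Prime → c ∈ A → d ∉ A → ∀ g : G, orderOf g ≠ c * d :=
    fun c d hc hd hcA hdA g e => hno c hcA d hdA hc hd
      ((dvd_mul_right c d).trans (e ▸ orderOf_dvd_natCard g))
      ((dvd_mul_left d c).trans (e ▸ orderOf_dvd_natCard g)) ⟨g, e⟩
  have hT : ∀ r, r.Prime → r ∣ Nat.card T → r = q := fun r hr hd =>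
    (Nat.prime_dvd_prime_iff_eq hr hq).1 (hr.dvd_of_dvd_pow (hj ▸ hd))
  by_cases hqA : q ∈ A
  · exact Cfsg.Lib.DisconnectedGraph.main (P := fun r => r ∈ A) hsep hb hbA hbd
      ⟨T, hTn, hT0, fun r hr hd => (hT r hr hd) ▸ hqA⟩
  · exact Cfsg.Lib.DisconnectedGraph.main (P := fun r => r ∉ A)
      (fun c d hc hd hcA hdA g e => hsep d c hd hc (not_not.1 hdA) hcA g (e.trans (mul_comm c d)))
      ha (not_not.2 haA) had ⟨T, hTn, hT0, fun r hr hd => (hT r hr hd) ▸ hqA⟩

end Cfsg.Agent.S3857
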