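import Cfsg.Statements.S3858
import Mathlib

set_option autoImplicit false
open Cfsg

namespace Cfsg.Agent.S3858

/-- Let G be a finite group with a normal non-abelian simple subgroup T whose centralizer is trivial (G almost simple with socle T), r a prime and R a Sylow r-subgroup of G meeting T nontrivially. Then R lies in exactly one maximal subgroup of G if and only if G has exactly one conjugacy class of maximal subgroups whose index is prime to r. -/
theorem result {G : Type*} [Group G] [Finite G] (T : Subgroup G) [T.Normal] (hT : IsSimpleGroup T) (hna : ¬ IsMulCommutative T)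
    (hC : Subgroup.centralizer (T : Set G) = ⊥) {r : ℕ} [Fact r.Prime] (R : Sylow r G) (hR0 : (R : Subgroup G) ⊓ T ≠ ⊥) :
    (∃! M : Subgroup G, IsCoatom M ∧ (R : Subgroup G) ≤ M) ↔
      ((∃ M : Subgroup G, IsCoatom M ∧ ¬ r ∣ M.index) ∧
        ∀ M₁ M₂ : Subgroup G, IsCoatom M₁ → ¬ r ∣ M₁.index → IsCoatom M₂ → ¬ r ∣ M₂.index → ∃ g : G, M₂ = M₁.map (MulAut.conj g).toMonoidHom) := by
  have hRtop : Subgroup.normalizer ((R : Subgroup G) : Set G) ≠ ⊤ := by
    intro h
    have hn : (R : Subgroup G).Normal := Subgroup.normalizer_eq_top_iff.mp h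
    have hn' : ((R : Subgroup G).subgroupOf T).Normal := hn.subgroupOf T
    rcases hn'.eq_bot_or_eq_top with h1 | h1
    · rw [Subgroup.subgroupOf_eq_bot, disjoint_iff] at h1
      exact hR0 h1
    · rw [Subgroup.subgroupOf_eq_top] at h1
      have hTp : IsPGroup r T := R.2.to_le h1
      have hnt : Nontrivial T := hT.toNontrivial
      have hc := hTp.center_nontrivial
      rcases (inferInstance : (Subgroup.center T).Normal).eq_bot_or_eq_top with h2 | h2
      · exact absurd h2 ((Subgroup.nontrivial_iff_ne_bot _).mp hc)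
      · exact hna ⟨⟨fun a b => Subgroup.mem_center_iff.mp (h2 ▸ Subgroup.mem_top b) a⟩⟩
  have hco : ∀ (M : Subgroup G) (g : G), IsCoatom M → IsCoatom (M.map (MulAut.conj g).toMonoidHom) :=
    fun M g hM => (OrderIso.isCoatom_iff ((MulAut.conj g).mapSubgroup) M).mpr hM
  have hsyl : ∀ M : Subgroup G, ¬ r ∣ M.index → ∃ a : G, ((a • R : Sylow r G) : Subgroup G) ≤ M := by
    intro M hM
    obtain ⟨Q⟩ := (inferInstance : Nonempty (Sylow r M))
    obtain ⟨S, hS⟩ := (Q.2.map M.subtype).exists_le_sylow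
    obtain ⟨a, ha⟩ := MulAction.exists_smul_eq G R S
    refine ⟨a, ?_⟩
    rw [ha]
    refine (Subgroup.eq_of_le_of_card_ge hS ?_).ge.trans (Subgroup.map_subtype_le _)
    rw [Subgroup.card_map_of_injective M.subtype_injective, S.card_eq_multiplicity,
      Q.card_eq_multiplicity, ← M.card_mul_index, Nat.factorization_mul Nat.card_pos.ne'
        Subgroup.index_ne_zero_of_finite, Finsupp.add_apply, Nat.factorization_eq_zero_of_not_dvd hM,
      add_zero]
  have hndvd : ∀ M : Subgroup G, (R : Subgroup G) ≤ M → ¬ r ∣ M.index := fun M hM h =>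
    R.not_dvd_index (h.trans (Subgroup.index_dvd_of_le hM))
  constructor
  · rintro ⟨M, ⟨hM, hRM⟩, huq⟩
    refine ⟨⟨M, hM, hndvd M hRM⟩, fun M₁ M₂ h1 h1' h2 h2' => ?_⟩
    have key : ∀ M₁ : Subgroup G, IsCoatom M₁ → ¬ r ∣ M₁.index →
        ∃ a : G, M₁ = M.map (MulAut.conj a).toMonoidHom := by
      intro M₁ h1 h1'
      obtain ⟨a, ha⟩ := hsyl M₁ h1'
      refine ⟨a, ?_⟩
      have h3 : M₁.map (MulAut.conj a⁻¹).toMonoidHom = M := huq _ ⟨hco _ _ h1, fun w hw =>
        ⟨a * w * a⁻¹, ha ⟨w, hw, rfl⟩, by simp [mul_assoc]⟩⟩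
      rw [← h3, Subgroup.map_map]
      convert (Subgroup.map_id M₁).symm using 2
      ext w
      simp [mul_assoc]
    obtain ⟨a, rfl⟩ := key M₁ h1 h1'
    obtain ⟨b, rfl⟩ := key M₂ h2 h2'
    refine ⟨b * a⁻¹, ?_⟩
    rw [Subgroup.map_map]
    congr 1
    ext w
    simp [mul_assoc]
  · rintro ⟨⟨M, hM, hMr⟩, hconj⟩
    obtain ⟨M₀, hM₀, hNM⟩ := (eq_top_or_exists_le_coatom _).resolve_left hRtop
    have hR0M : (R : Subgroup G) ≤ M₀ := Subgroup.le_normalizer.trans hNM
    refine ⟨M₀, ⟨hM₀, hR0M⟩, fun M₁ ⟨h1, h1R⟩ => ?_⟩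
    obtain ⟨g, hg⟩ := hconj M₀ M₁ hM₀ (hndvd _ hR0M) h1 (hndvd _ h1R)
    have hgR : ((g • R : Sylow r G) : Subgroup G) ≤ M₁ := by
      rw [hg]
      exact Subgroup.map_mono hR0M
    obtain ⟨m, hm⟩ := MulAction.exists_smul_eq M₁ ((g • R).subtype hgR) (R.subtype h1R)
    rw [Sylow.smul_subtype] at hm
    have hm' : (m : G) • g • R = R := Sylow.subtype_injective hm
    rw [← mul_smul] at hm'
    have hn : (m : G) * g ∈ M₀ := hNM (Sylow.smul_eq_iff_mem_normalizer.mp hm')
    have h4 : M₁ = M₁.map (MulAut.conj (m : G)).toMonoidHom := by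
      refine (Subgroup.eq_of_le_of_card_ge (fun w hw => ?_)
        (Subgroup.card_map_of_injective (MulAut.conj (m : G)).injective).ge).symm
      obtain ⟨u, hu, rfl⟩ := hw
      exact M₁.mul_mem (M₁.mul_mem m.2 hu) (M₁.inv_mem m.2)
    generalize (m : G) = k at h4 hn
    rw [h4, hg, Subgroup.map_map]
    refine Subgroup.eq_of_le_of_card_ge (fun w hw => ?_) ?_
    · obtain ⟨u, hu, rfl⟩ := hw
      show k * (g * u * g⁻¹) * k⁻¹ ∈ M₀
      rw [show k * (g * u * g⁻¹) * k⁻¹ = (k * g) * u * (k * g)⁻¹ by group]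
      exact M₀.mul_mem (M₀.mul_mem hn hu) (M₀.inv_mem hn)
    · exact (Subgroup.card_map_of_injective
        ((MulAut.conj k).injective.comp (MulAut.conj g).injective)).ge

end Cfsg.Agent.S3858
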