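import Cfsg.Statements.S3859
import Mathlib

set_option autoImplicit false
open Cfsg

namespace Cfsg.Agent.S3859

open scoped Pointwise

/-- Let G be a finite group with a normal non-abelian simple subgroup T whose centralizer is trivial (G almost simple with socle T), r a prime and R a Sylow r-subgroup of G meeting T nontrivially. If R lies in exactly one maximal subgroup of G, then G/T is an r-group. -/
theorem result {G : Type*} [Group G] [Finite G] (T : Subgroup G) [T.Normal] (hT : IsSimpleGroup T) (hna : ¬ IsMulCommutative T)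
    (hC : Subgroup.centralizer (T : Set G) = ⊥) {r : ℕ} [Fact r.Prime] (R : Sylow r G) (hR0 : (R : Subgroup G) ⊓ T ≠ ⊥)
    (huniq : ∃! M : Subgroup G, IsCoatom M ∧ (R : Subgroup G) ≤ M) : IsPGroup r (G ⧸ T) := by
  obtain ⟨M, ⟨hM, hRM⟩, huq⟩ := huniq
  set R₀ := (R : Subgroup G) ⊓ T
  have hnorm : Subgroup.normalizer (R₀ : Set G) ≠ ⊤ := by
    intro h
    have hn : R₀.Normal := Subgroup.normalizer_eq_top_iff.mp h
    have hn' : (R₀.subgroupOf T).Normal := hn.subgroupOf T
    rcases hn'.eq_bot_or_eq_top with h1 | h1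
    · rw [Subgroup.subgroupOf_eq_bot, disjoint_iff, inf_assoc, inf_idem] at h1
      exact hR0 h1
    · rw [Subgroup.subgroupOf_eq_top] at h1
      have hTp : IsPGroup r T := R.2.to_le (h1.trans inf_le_left)
      have hnt : Nontrivial T := hT.toNontrivial
      have hc := hTp.center_nontrivial
      rcases (inferInstance : (Subgroup.center T).Normal).eq_bot_or_eq_top with h2 | h2
      · exact absurd h2 ((Subgroup.nontrivial_iff_ne_bot _).mp hc)
      · exact hna ⟨⟨fun a b => Subgroup.mem_center_iff.mp (h2 ▸ Subgroup.mem_top b) a⟩⟩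
  have hRN : (R : Subgroup G) ≤ Subgroup.normalizer (R₀ : Set G) := fun g hg => by
    rw [Subgroup.mem_normalizer_iff]
    intro w
    refine ⟨fun hw => ⟨?_, ‹T.Normal›.conj_mem _ hw.2 g⟩, fun hw => ⟨?_, ?_⟩⟩
    · exact Subgroup.mul_mem _ (Subgroup.mul_mem _ hg hw.1) (Subgroup.inv_mem _ hg)
    · have := Subgroup.mul_mem _ (Subgroup.mul_mem _ (Subgroup.inv_mem _ hg) hw.1) hg
      rwa [show g⁻¹ * (g * w * g⁻¹) * g = w by group] at this
    · have := ‹T.Normal›.conj_mem _ hw.2 g⁻¹
      rwa [show g⁻¹ * (g * w * g⁻¹) * g⁻¹⁻¹ = w by group] at this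
  obtain ⟨M', hM', hNM⟩ := (eq_top_or_exists_le_coatom _).resolve_left hnorm
  have hMM : M' = M := huq M' ⟨hM', hRN.trans hNM⟩
  subst hMM
  obtain ⟨Q, hQ⟩ : ∃ Q : Sylow r T, (Q : Subgroup T) = (R : Subgroup G).subgroupOf T := by
    have hp : IsPGroup r ((R : Subgroup G).subgroupOf T) := R.2.comap_subtype
    obtain ⟨Q, hQ⟩ := hp.exists_le_sylow
    refine ⟨Q, le_antisymm ?_ hQ⟩
    obtain ⟨R', hR'⟩ := (Q.2.map T.subtype).exists_le_sylow
    have hle : R₀ ≤ (R' : Subgroup G) := fun w hw => hR' ⟨⟨w, hw.2⟩, hQ hw.1, rfl⟩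
    obtain ⟨g, hg⟩ := MulAction.exists_smul_eq G R R'
    have hcard : Nat.card ((R' : Subgroup G) ⊓ T : Subgroup G) ≤ Nat.card R₀ := by
      have h1 : MulAut.conj g • R₀ = (R' : Subgroup G) ⊓ T := by
        rw [Subgroup.smul_inf, ← hg, Sylow.coe_subgroup_smul]
        congr 1
        exact Subgroup.Normal.conj_smul_eq_self g T
      rw [← h1]
      exact (Subgroup.card_map_of_injective (MulAut.conj g).injective).le
    have hcard2 : Nat.card (Q : Subgroup T) ≤ Nat.card ((R : Subgroup G).subgroupOf T) := by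
      calc Nat.card (Q : Subgroup T) = Nat.card ((Q : Subgroup T).map T.subtype) :=
            (Subgroup.card_map_of_injective T.subtype_injective).symm
        _ ≤ Nat.card ((R' : Subgroup G) ⊓ T : Subgroup G) :=
            Subgroup.card_le_of_le (le_inf hR' (Subgroup.map_subtype_le _))
        _ ≤ Nat.card R₀ := hcard
        _ = Nat.card (R₀.subgroupOf T) :=
            (Nat.card_congr (Subgroup.subgroupOfEquivOfLe inf_le_right).toEquiv).symm
        _ = Nat.card ((R : Subgroup G).subgroupOf T) := by rw [Subgroup.inf_subgroupOf_right]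
    exact (Subgroup.eq_of_le_of_card_ge hQ hcard2).ge
  have hFr := Q.normalizer_sup_eq_top
  rw [hQ, Subgroup.subgroupOf_map_subtype] at hFr
  by_contra hcon
  have hne : (R : Subgroup G) ⊔ T ≠ ⊤ := by
    intro h
    apply hcon
    have hsurj : (R : Subgroup G).map (QuotientGroup.mk' T) = ⊤ := by
      have h1 : ((R : Subgroup G) ⊔ T).map (QuotientGroup.mk' T) = ⊤ := by
        rw [h]; exact Subgroup.map_top_of_surjective _ (QuotientGroup.mk'_surjective T)
      rwa [Subgroup.map_sup, QuotientGroup.map_mk'_self, sup_bot_eq] at h1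
    have hq := R.2.map (QuotientGroup.mk' T)
    rw [hsurj] at hq
    exact hq.of_equiv Subgroup.topEquiv
  obtain ⟨M₂, hM₂, hle⟩ := (eq_top_or_exists_le_coatom ((R : Subgroup G) ⊔ T)).resolve_left hne
  have hMM : M₂ = M' := huq M₂ ⟨hM₂, le_sup_left.trans hle⟩
  subst hMM
  exact hM'.1 (top_le_iff.mp (hFr ▸ sup_le hNM (le_sup_right.trans hle)))

end Cfsg.Agent.S3859
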