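import Cfsg.Statements.S3862
import Cfsg.Agent.Transfer.Frobenius
import Cfsg.Agent.PGroups.Basic
import Cfsg.Agent.SolvStruct.Zipper

set_option autoImplicit false
open Cfsg

namespace Cfsg.Agent.S3862

/-- If every 2-element of the finite group G that is conjugate to its inverse lies in the centre of G, then G has a normal 2-complement. -/
theorem result {G : Type*} [Group G] [Finite G] (h : ∀ x : G, (∃ j : ℕ, orderOf x = 2 ^ j) → IsConj x x⁻¹ → x ∈ Subgroup.center G) : Cfsg.HasNormalPComplement 2 G := by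
  refine Cfsg.Lib.Transfer.hasNormalPComplement_of_frobenius fun Q hQ g hg hcop => ?_
  by_contra hgQ
  let bad : Subgroup G → Prop := fun U => IsPGroup 2 U ∧ g ∈ Subgroup.normalizer (U : Set G) ∧
    ¬ ∀ r ∈ U, g * r * g⁻¹ = r
  have hbad : bad Q := ⟨hQ, hg, fun hall => hgQ (Subgroup.mem_centralizer_iff.2 fun r hr => by
    have := hall r hr
    exact (mul_inv_eq_iff_eq_mul.1 this).symm)⟩
  obtain ⟨U, -, hUmin⟩ := Finite.exists_le_minimal (p := bad) hbad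
  obtain ⟨hU2, hgU, hUnc⟩ := hUmin.prop
  have hcent : ∀ V : Subgroup G, V < U → g ∈ Subgroup.normalizer (V : Set G) → ∀ r ∈ V, g * r * g⁻¹ = r := by
    intro V hV hgV
    by_contra hno
    exact hV.ne (hUmin.eq_of_le ⟨hU2.to_le hV.le, hgV, hno⟩ hV.le)
  -- the commutators with `g` generate `U`
  have hconj : ∀ r ∈ U, g * r * g⁻¹ ∈ U := fun r hr => (Subgroup.mem_normalizer_iff.1 hgU r).1 hr
  set L : Subgroup G := Subgroup.closure {c | ∃ r ∈ U, c = r⁻¹ * (g * r * g⁻¹)}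
  have hLU : L ≤ U := (Subgroup.closure_le U).2 fun c ⟨r, hr, hc⟩ => hc ▸ mul_mem (inv_mem hr) (hconj r hr)
  have hnormal_of_map : ∀ V : Subgroup G, (∀ r ∈ V, g * r * g⁻¹ ∈ V) → g ∈ Subgroup.normalizer (V : Set G) :=
    fun V hV => Cfsg.Lib.SolvStruct.mem_normalizer_of_conj_smul_le (by rintro _ ⟨r, hr, rfl⟩; exact hV r hr)
  have hLeq : L = U := by
    by_contra hne
    have hLn : g ∈ Subgroup.normalizer (L : Set G) := Cfsg.Lib.SolvStruct.mem_normalizer_of_conj_smul_le (by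
      rw [Cfsg.Lib.SolvStruct.conj_smul_eq_map, Subgroup.map_le_iff_le_comap]
      refine (Subgroup.closure_le _).2 fun c ⟨r, hr, hc⟩ => ?_
      show g * c * g⁻¹ ∈ L
      exact Subgroup.subset_closure ⟨g * r * g⁻¹, hconj r hr, by rw [hc]; group⟩)
    refine hUnc fun r hr => ?_
    have hfix := hcent L (lt_of_le_of_ne hLU hne) hLn
    obtain ⟨c, hc, hce⟩ : ∃ c ∈ L, g * r * g⁻¹ = r * c :=
      ⟨r⁻¹ * (g * r * g⁻¹), Subgroup.subset_closure ⟨r, hr, rfl⟩, by group⟩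
    have hpow : ∀ n : ℕ, g ^ n * r * (g ^ n)⁻¹ = r * c ^ n := by
      intro n
      induction n with
      | zero => simp
      | succ n ih =>
        calc g ^ (n + 1) * r * (g ^ (n + 1))⁻¹ = g * (g ^ n * r * (g ^ n)⁻¹) * g⁻¹ := by
              rw [pow_succ']; group
          _ = (g * r * g⁻¹) * (g * c ^ n * g⁻¹) := by rw [ih]; group
          _ = _ := by rw [hfix _ (pow_mem hc n), hce, mul_assoc, ← pow_succ']
    have h1 := hpow (orderOf g)
    rw [pow_orderOf_eq_one, one_mul, inv_one, mul_one] at h1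
    have h2 : c ^ orderOf g = 1 := by simpa using h1.symm
    obtain ⟨k, hk⟩ := hU2.exists_card_eq
    have h3 : orderOf c ∣ 2 ^ k := hk ▸ Subgroup.orderOf_dvd_natCard U (hLU hc)
    have h4 : orderOf c ∣ 1 := by
      have hc2 : (orderOf g).Coprime (2 ^ k) := Nat.Coprime.pow_right k hcop
      exact hc2 ▸ Nat.dvd_gcd (orderOf_dvd_of_pow_eq_one h2) h3
    rw [hce, orderOf_eq_one_iff.1 (Nat.dvd_one.1 h4), mul_one]
  have hind : ∀ V : Subgroup G, V ≤ U → (∀ r ∈ U, r⁻¹ * (g * r * g⁻¹) ∈ V) → V = U := fun V hV hc =>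
    le_antisymm hV (hLeq.ge.trans ((Subgroup.closure_le V).2 fun c ⟨r, hr, e⟩ => e ▸ hc r hr))
  -- squares
  set W : Subgroup G := Subgroup.closure {s | ∃ r ∈ U, s = r * r}
  have hWU : W ≤ U := (Subgroup.closure_le U).2 fun s ⟨r, hr, hs⟩ => hs ▸ mul_mem hr hr
  have hcommW : ∀ a ∈ U, ∀ b ∈ U, a * b * a⁻¹ * b⁻¹ ∈ W := by
    intro a ha b hb
    rw [show a * b * a⁻¹ * b⁻¹ = (a * a) * ((a⁻¹ * b) * (a⁻¹ * b)) * (b⁻¹ * b⁻¹) by group]
    exact mul_mem (mul_mem (Subgroup.subset_closure ⟨a, ha, rfl⟩)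
      (Subgroup.subset_closure ⟨_, mul_mem (inv_mem ha) hb, rfl⟩))
      (Subgroup.subset_closure ⟨_, inv_mem hb, rfl⟩)
  have hWlt : W < U := by
    refine lt_of_le_of_ne hWU fun e => hUnc ?_
    haveI : Nontrivial U := by
      refine (Subgroup.nontrivial_iff_ne_bot U).2 fun e' => hUnc fun r hr => ?_
      rw [e', Subgroup.mem_bot] at hr
      simp [hr]
    obtain ⟨M, hM⟩ : ∃ M : Subgroup U, IsCoatom M :=
      (eq_top_or_exists_le_coatom (⊥ : Subgroup U)).resolve_left bot_ne_top |>.imp fun M h => h.1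
    haveI : Group.IsNilpotent U := hU2.isNilpotent
    have hi : M.index = 2 := (Cfsg.Lib.PGroups.coatom_normal_index hU2 hM).2
    have hle : W ≤ M.map U.subtype := (Subgroup.closure_le _).2 fun s ⟨r, hr, hs⟩ =>
      ⟨⟨r, hr⟩ * ⟨r, hr⟩, Subgroup.mul_self_mem_of_index_two hi _, hs.symm⟩
    refine absurd ?_ hM.1
    rw [eq_top_iff]
    intro x _
    obtain ⟨y, hy, hyx⟩ := hle (e.ge x.2)
    rwa [← Subtype.ext hyx]
  have hWn : g ∈ Subgroup.normalizer (W : Set G) := Cfsg.Lib.SolvStruct.mem_normalizer_of_conj_smul_le (by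
    rw [Cfsg.Lib.SolvStruct.conj_smul_eq_map, Subgroup.map_le_iff_le_comap]
    refine (Subgroup.closure_le _).2 fun s ⟨r, hr, hs⟩ => ?_
    show g * s * g⁻¹ ∈ W
    exact Subgroup.subset_closure ⟨g * r * g⁻¹, hconj r hr, by rw [hs]; group⟩)
  have hWfix := hcent W hWlt hWn
  have hWcent : ∀ w ∈ W, ∀ r ∈ U, r * w = w * r := by
    intro w hw r hr
    have hV : (Subgroup.centralizer ({w} : Set G) ⊓ U) = U := by
      refine hind _ inf_le_right fun r hr => ⟨?_, U.mul_mem (U.inv_mem hr) (hconj r hr)⟩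
      refine Subgroup.mem_centralizer_singleton_iff.2 ?_
      have hrw : r * w * r⁻¹ ∈ W := by
        have := mul_mem (hcommW r hr w (hWU hw)) hw
        rwa [show r * w * r⁻¹ * w⁻¹ * w = r * w * r⁻¹ by group] at this
      have h1 := hWfix _ hrw
      have h2 := hWfix w hw
      have h3 : (g * r * g⁻¹) * w * (g * r * g⁻¹)⁻¹ = r * w * r⁻¹ := by
        calc _ = (g * r * g⁻¹) * (g * w * g⁻¹) * (g * r * g⁻¹)⁻¹ := by rw [h2]
          _ = g * (r * w * r⁻¹) * g⁻¹ := by group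
          _ = _ := h1
      calc r⁻¹ * (g * r * g⁻¹) * w = r⁻¹ * ((g * r * g⁻¹) * w * (g * r * g⁻¹)⁻¹) * (g * r * g⁻¹) := by group
        _ = _ := by rw [h3]; group
    exact Subgroup.mem_centralizer_singleton_iff.1 (hV.ge hr).1
  -- a moved element is conjugate to its inverse
  obtain ⟨x, hxU, hxg⟩ : ∃ x ∈ U, g * x * g⁻¹ ≠ x := by push Not at hUnc; exact hUnc
  have hxW : ∀ u ∈ U, x * u * x⁻¹ * u⁻¹ ∈ W := fun u hu => hcommW x hxU u hu
  let D : Subgroup G :=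
    { carrier := {d | ∃ u ∈ U, d = x * u * x⁻¹ * u⁻¹}
      one_mem' := ⟨1, one_mem U, by group⟩
      mul_mem' := by
        rintro _ _ ⟨u, hu, rfl⟩ ⟨v, hv, rfl⟩
        refine ⟨u * v, mul_mem hu hv, ?_⟩
        calc x * u * x⁻¹ * u⁻¹ * (x * v * x⁻¹ * v⁻¹) = (x * u * x⁻¹ * u⁻¹) * (u * (x * v * x⁻¹ * v⁻¹) * u⁻¹) := by
              rw [show u * (x * v * x⁻¹ * v⁻¹) * u⁻¹ = x * v * x⁻¹ * v⁻¹ by
                rw [hWcent _ (hxW v hv) u hu, mul_inv_cancel_right]]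
          _ = _ := by group
      inv_mem' := by
        rintro _ ⟨u, hu, rfl⟩
        refine ⟨u⁻¹, inv_mem hu, ?_⟩
        calc (x * u * x⁻¹ * u⁻¹)⁻¹ = u⁻¹ * (x * u * x⁻¹ * u⁻¹)⁻¹ * u := by
              rw [hWcent _ (inv_mem (hxW u hu)) u⁻¹ (inv_mem hu), inv_mul_cancel_right]
          _ = _ := by group }
  have hDW : D ≤ W := fun d ⟨u, hu, hd⟩ => hd ▸ hxW u hu
  let R : Subgroup G :=
    { carrier := {r | r ∈ U ∧ ∀ u ∈ U, r * u * r⁻¹ * u⁻¹ ∈ D}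
      one_mem' := ⟨one_mem U, fun u hu => by simp⟩
      mul_mem' := by
        rintro a b ⟨ha, ha'⟩ ⟨hb, hb'⟩
        refine ⟨mul_mem ha hb, fun u hu => ?_⟩
        have h1 : a * (b * u * b⁻¹ * u⁻¹) * a⁻¹ = b * u * b⁻¹ * u⁻¹ := by
          rw [hWcent _ (hcommW b hb u hu) a ha, mul_inv_cancel_right]
        rw [show a * b * u * (a * b)⁻¹ * u⁻¹ = a * (b * u * b⁻¹ * u⁻¹) * a⁻¹ * (a * u * a⁻¹ * u⁻¹) by group, h1]
        exact mul_mem (hb' u hu) (ha' u hu)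
      inv_mem' := by
        rintro a ⟨ha, ha'⟩
        refine ⟨inv_mem ha, fun u hu => ?_⟩
        have h := inv_mem (ha' u hu)
        rwa [show a⁻¹ * u * a⁻¹⁻¹ * u⁻¹ = (a * u * a⁻¹ * u⁻¹)⁻¹ by
          calc a⁻¹ * u * a⁻¹⁻¹ * u⁻¹ = a⁻¹ * (a * u * a⁻¹ * u⁻¹)⁻¹ * a := by group
            _ = _ := by rw [hWcent _ (inv_mem (hcommW a ha u hu)) a⁻¹ (inv_mem ha), inv_mul_cancel_right]] }
  have hgR : g ∈ Subgroup.normalizer (R : Set G) := hnormal_of_map R fun r ⟨hr, hr'⟩ => by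
    refine ⟨hconj r hr, fun u hu => ?_⟩
    have hu' : g⁻¹ * u * g ∈ U := (Subgroup.mem_normalizer_iff''.1 hgU u).1 hu
    have h1 := hr' _ hu'
    have h2 := hWfix _ (hDW h1)
    rw [show g * r * g⁻¹ * u * (g * r * g⁻¹)⁻¹ * u⁻¹ =
      g * (r * (g⁻¹ * u * g) * r⁻¹ * (g⁻¹ * u * g)⁻¹) * g⁻¹ by group, h2]
    exact h1
  have hxR : x ∈ R := ⟨hxU, fun u hu => ⟨u, hu, rfl⟩⟩
  have hR : R = U := by
    by_contra hne
    exact hxg (hcent R (lt_of_le_of_ne (fun r hr => hr.1) hne) hgR x hxR)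
  have hcD : ∀ a ∈ U, ∀ b ∈ U, a * b * a⁻¹ * b⁻¹ ∈ D := fun a ha b hb => (hR.ge ha : a ∈ R).2 b hb
  let T : Subgroup G :=
    { carrier := {c | c ∈ U ∧ c * c ∈ D}
      one_mem' := ⟨one_mem U, by simp⟩
      mul_mem' := by
        rintro a b ⟨ha, ha'⟩ ⟨hb, hb'⟩
        refine ⟨mul_mem ha hb, ?_⟩
        have h1 : a * (b * a * b⁻¹ * a⁻¹) * a⁻¹ = b * a * b⁻¹ * a⁻¹ := by
          rw [hWcent _ (hcommW b hb a ha) a ha, mul_inv_cancel_right]
        rw [show a * b * (a * b) = a * (b * a * b⁻¹ * a⁻¹) * a⁻¹ * (a * a) * (b * b) by group, h1]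
        exact mul_mem (mul_mem (hcD b hb a ha) ha') hb'
      inv_mem' := by
        rintro a ⟨ha, ha'⟩
        exact ⟨inv_mem ha, by rw [show a⁻¹ * a⁻¹ = (a * a)⁻¹ by group]; exact inv_mem ha'⟩ }
  have hT : T = U := by
    refine hind T (fun c hc => hc.1) fun r hr => ⟨mul_mem (inv_mem hr) (hconj r hr), ?_⟩
    set s := g * r * g⁻¹
    have hs : s ∈ U := hconj r hr
    have hsq : s * s = r * r := by
      calc s * s = g * (r * r) * g⁻¹ := by simp only [s]; group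
        _ = _ := hWfix _ (Subgroup.subset_closure ⟨r, hr, rfl⟩)
    have h1 : r⁻¹ * (s * r⁻¹ * s⁻¹ * r⁻¹⁻¹) * r = s * r⁻¹ * s⁻¹ * r⁻¹⁻¹ := by
      rw [hWcent _ (hcommW s hs r⁻¹ (inv_mem hr)) r⁻¹ (inv_mem hr), inv_mul_cancel_right]
    rw [show r⁻¹ * s * (r⁻¹ * s) = r⁻¹ * (s * r⁻¹ * s⁻¹ * r⁻¹⁻¹) * r * ((r * r)⁻¹ * (s * s)) by group, h1, hsq,
      inv_mul_cancel, mul_one]
    exact hcD s hs r⁻¹ (inv_mem hr)
  obtain ⟨u, hu, he⟩ := (hT.ge hxU : x ∈ T).2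
  have hreal : IsConj x x⁻¹ := by
    refine (isConj_iff.2 ⟨u, ?_⟩).symm
    calc u * x⁻¹ * u⁻¹ = x⁻¹ * (x * u * x⁻¹ * u⁻¹) := by group
      _ = x⁻¹ * (x * x) := by rw [← he]
      _ = x := by group
  have hord : ∃ j : ℕ, orderOf x = 2 ^ j := by
    obtain ⟨k, hk⟩ := hU2 ⟨x, hxU⟩
    have h' : x ^ 2 ^ k = 1 := by simpa using congrArg Subtype.val hk
    obtain ⟨j, -, hj⟩ := (Nat.dvd_prime_pow Nat.prime_two).1 (orderOf_dvd_of_pow_eq_one h')
    exact ⟨j, hj⟩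
  refine hxg ?_
  rw [Subgroup.mem_center_iff.1 (h x hord hreal) g, mul_inv_cancel_right]

end Cfsg.Agent.S3862
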