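import Cfsg.Statements.S3863
import Cfsg.Agent.Counting.Real

set_option autoImplicit false
open Cfsg

namespace Cfsg.Agent.S3863

/-- Let x be an element of the finite group G that is conjugate to its inverse. Then some 2-element conjugates x to its inverse; if the conjugacy class of x has odd size then x ^ 2 = 1; and x lies in, and is conjugate to its inverse inside, every normal subgroup of odd index. -/
theorem result {G : Type*} [Group G] [Finite G] (x : G) (hx : IsConj x x⁻¹) : (∃ t : G, (∃ j : ℕ, orderOf t = 2 ^ j) ∧ t * x * t⁻¹ = x⁻¹) ∧ (Odd (Subgroup.centralizer ({x} : Set G)).index → x ^ 2 = 1) ∧ ∀ (N : Subgroup G) [N.Normal], Odd N.index → ∃ hxN : x ∈ N, IsConj (⟨x, hxN⟩ : N) (⟨x, hxN⟩ : N)⁻¹ := by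
  obtain ⟨g, hg⟩ := isConj_iff.mp hx
  obtain ⟨t, ht2, ht⟩ := Cfsg.Lib.Real'.exists_two_element_inverting hg
  refine ⟨⟨t, ht2, ht⟩, fun h => Cfsg.Lib.Real'.sq_eq_one_of_odd_index hx h, fun N _ hN => ?_⟩
  have hcard : Nat.card (G ⧸ N) = N.index := (Subgroup.index_eq_card N).symm
  obtain ⟨j, hj⟩ := ht2
  have htN : t ∈ N := by
    rw [← QuotientGroup.eq_one_iff, ← orderOf_eq_one_iff]
    refine Nat.eq_one_of_dvd_coprimes (k := orderOf (t : G ⧸ N))
      (Nat.Coprime.pow_left j (Nat.coprime_two_left.mpr hN))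
      (hj ▸ orderOf_map_dvd (QuotientGroup.mk' N) t) (hcard ▸ _root_.orderOf_dvd_natCard _)
  have hxN : x ∈ N := by
    rw [← QuotientGroup.eq_one_iff, ← orderOf_eq_one_iff]
    refine Nat.eq_one_of_dvd_coprimes (k := orderOf (x : G ⧸ N))
      (Nat.coprime_two_left.mpr hN) (orderOf_dvd_of_pow_eq_one ?_) (hcard ▸ _root_.orderOf_dvd_natCard _)
    have h1 := congrArg (QuotientGroup.mk' N) ht
    simp only [map_mul, map_inv, QuotientGroup.mk'_apply] at h1
    rw [(QuotientGroup.eq_one_iff t).mpr htN] at h1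
    simp only [one_mul, inv_one, mul_one] at h1
    rw [sq]
    nth_rewrite 1 [h1]
    exact inv_mul_cancel _
  exact ⟨hxN, isConj_iff.mpr ⟨⟨t, htN⟩, Subtype.ext (by simpa using ht)⟩⟩

end Cfsg.Agent.S3863
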