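import Cfsg.Statements.S3864
import Cfsg.Agent.S1254
import Cfsg.Agent.TwoFusion.FusionTools

set_option autoImplicit false
open Cfsg

namespace Cfsg.Agent.S3864

private theorem two_key : ∀ x y : Multiplicative (ZMod 2), y ≠ 1 → x ≠ 1 → y = x := by decide

/-- The characters of order two of a dihedral group of even degree. -/
private def par {N : ℕ} (hN : 2 ∣ N) (c : ZMod 2) : DihedralGroup N →* Multiplicative (ZMod 2) :=
  MonoidHom.mk' (fun d => Multiplicative.ofAdd (match d with
    | DihedralGroup.r i => ZMod.castHom hN (ZMod 2) i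
    | DihedralGroup.sr i => ZMod.castHom hN (ZMod 2) i + c)) (by
    rintro (i | i) (k | k) <;>
      simp only [DihedralGroup.r_mul_r, DihedralGroup.r_mul_sr, DihedralGroup.sr_mul_r, DihedralGroup.sr_mul_sr,
        map_add, map_sub, ← ofAdd_add] <;>
      congr 1 <;>
      generalize ZMod.castHom hN (ZMod 2) i = a <;> generalize ZMod.castHom hN (ZMod 2) k = b <;>
      revert a b c <;> decide)

/-- Complements: conjugacy between elements of the Sylow subgroup happens inside it. -/
private theorem conj_in_sylow {G : Type*} [Group G] [Finite G] {T N : Subgroup G} [N.Normal]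
    (hN : N.IsComplement' T) {a b : G} (ha : a ∈ T) (hb : b ∈ T) (h : IsConj a b) :
    ∃ t ∈ T, t * a * t⁻¹ = b := by
  obtain ⟨g, hg⟩ := isConj_iff.1 h
  obtain ⟨⟨⟨k, hk⟩, ⟨t, ht⟩⟩, hkt⟩ := hN.2 g
  have hkt' : k * t = g := hkt
  refine ⟨t, ht, ?_⟩
  have h1 : b * (t * a * t⁻¹)⁻¹ ∈ N := by
    rw [← hg, ← hkt', show k * t * a * (k * t)⁻¹ * (t * a * t⁻¹)⁻¹ =
      k * ((t * a * t⁻¹) * k⁻¹ * (t * a * t⁻¹)⁻¹) by group]
    exact mul_mem hk ((inferInstance : N.Normal).conj_mem _ (inv_mem hk) _)
  have h2 : b * (t * a * t⁻¹)⁻¹ ∈ T := mul_mem hb (inv_mem (mul_mem (mul_mem ht ha) (inv_mem ht)))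
  have h3 : b * (t * a * t⁻¹)⁻¹ ∈ N ⊓ T := ⟨h1, h2⟩
  rw [disjoint_iff.1 hN.disjoint, Subgroup.mem_bot, mul_inv_eq_one] at h3
  exact h3.symm

/-- Let G be a finite group whose Sylow 2-subgroups are dihedral of order 2 ^ n with n ≥ 3, and count the conjugacy classes of involutions of G. Then exactly one of the following holds: there is one class of involutions and no normal subgroup of index 2; there are two classes of involutions, a normal subgroup of index 2 and none of index 4; there are three classes of involutions and G has a normal 2-complement. -/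
theorem result {G : Type*} [Group G] [Finite G] (P : Sylow 2 G) (n : ℕ) (hn : 3 ≤ n) (hdih : Nonempty (↥(P : Subgroup G) ≃* DihedralGroup (2 ^ (n - 1)))) : (Nat.card {C : ConjClasses G // ∃ g : G, ConjClasses.mk g = C ∧ orderOf g = 2} = 1 ∧ ∀ N : Subgroup G, N.Normal → N.index ≠ 2) ∨ (Nat.card {C : ConjClasses G // ∃ g : G, ConjClasses.mk g = C ∧ orderOf g = 2} = 2 ∧ (∃ N : Subgroup G, N.Normal ∧ N.index = 2) ∧ ∀ N : Subgroup G, N.Normal → N.index ≠ 4) ∨ (Nat.card {C : ConjClasses G // ∃ g : G, ConjClasses.mk g = C ∧ orderOf g = 2} = 3 ∧ Cfsg.HasNormalPComplement 2 G) := by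
  classical
  haveI : Fact (Nat.Prime 2) := ⟨Nat.prime_two⟩
  obtain ⟨eS⟩ := hdih
  obtain ⟨L, rfl⟩ : ∃ L, n = L + 3 := ⟨n - 3, by omega⟩
  rw [show L + 3 - 1 = L + 2 by omega] at eS
  set T : Subgroup G := (P : Subgroup G) with hT
  set N := 2 ^ (L + 2) with hNdef
  haveI : NeZero N := ⟨(Nat.two_pow_pos _).ne'⟩
  have hN2 : 2 ∣ N := dvd_pow_self 2 (by omega)
  let ι : DihedralGroup N →* G := T.subtype.comp eS.symm.toMonoidHom
  have hinj : Function.Injective ι := Subtype.val_injective.comp eS.symm.injective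
  have hιT : ∀ d, ι d ∈ T := fun d => (eS.symm d).2
  have hsur : ∀ x ∈ T, ∃ d, ι d = x := fun x hx => ⟨eS ⟨x, hx⟩, by simp [ι]⟩
  have hιord : ∀ d, orderOf (ι d) = orderOf d := fun d => orderOf_injective ι hinj d
  set Q : ℕ := 2 ^ L with hQdef
  have hNQ : N = 4 * Q := by rw [hNdef, hQdef, pow_add]; ring
  have hQpos : 0 < Q := Nat.two_pow_pos _
  set q : ZMod N := ((Q : ℕ) : ZMod N) with hqdef
  set h : ZMod N := ((2 * Q : ℕ) : ZMod N) with hhdef
  have hqq : q + q = h := by rw [hqdef, hhdef, ← Nat.cast_add, ← two_mul]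
  have hh2 : h + h = 0 := by rw [hhdef, ← Nat.cast_add, show 2 * Q + 2 * Q = N by omega, ZMod.natCast_self]
  have hh0 : h ≠ 0 := by
    rw [hhdef, Ne, ZMod.natCast_eq_zero_iff]
    intro hd
    have := Nat.le_of_dvd (by omega) hd
    omega
  have hhneg : -h = h := neg_eq_of_add_eq_zero_right hh2
  have htor : ∀ i : ZMod N, i + i = 0 → i = 0 ∨ i = h := by
    intro i hi
    have hlt := ZMod.val_lt i
    have h' : (((i.val + i.val : ℕ) : ZMod N)) = 0 := by
      rw [Nat.cast_add, ZMod.natCast_zmod_val]; exact hi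
    rw [ZMod.natCast_eq_zero_iff] at h'
    obtain ⟨c, hc⟩ := h'
    rcases Nat.lt_or_ge c 1 with hc0 | hc1
    · left
      rw [← ZMod.natCast_zmod_val i, show i.val = 0 by
        rw [show c = 0 by omega, mul_zero] at hc; omega, Nat.cast_zero]
    · right
      have hc2 : c = 1 := by nlinarith
      subst hc2
      rw [hhdef, ← ZMod.natCast_zmod_val i, show i.val = 2 * Q by omega]
  set z : G := ι (DihedralGroup.r h) with hzdef
  set s₀ : G := ι (DihedralGroup.sr 0) with hs0def
  set s₁ : G := ι (DihedralGroup.sr 1) with hs1def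
  have hzsq : z = ι (DihedralGroup.r q) * ι (DihedralGroup.r q) := by
    rw [← map_mul, DihedralGroup.r_mul_r, hqq]
  have hzo : orderOf z = 2 := by
    rw [hzdef, hιord]
    refine orderOf_eq_prime ?_ fun e => hh0 ?_
    · rw [pow_two, DihedralGroup.r_mul_r, hh2]; rfl
    · rw [DihedralGroup.one_def] at e; exact DihedralGroup.r.inj e
  have hs0o : orderOf s₀ = 2 := by rw [hs0def, hιord, DihedralGroup.orderOf_sr]
  have hs1o : orderOf s₁ = 2 := by rw [hs1def, hιord, DihedralGroup.orderOf_sr]
  have hrinv : ∀ d : DihedralGroup N, orderOf d = 2 → (∃ i, d = DihedralGroup.sr i) ∨ d = DihedralGroup.r h := by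
    rintro (i | i) hd
    · have h' := pow_orderOf_eq_one (DihedralGroup.r i)
      rw [hd, pow_two, DihedralGroup.r_mul_r, DihedralGroup.one_def] at h'
      rcases htor i (DihedralGroup.r.inj h') with e | e
      · rw [e, ← DihedralGroup.one_def, orderOf_one] at hd; omega
      · exact Or.inr (by rw [e])
    · exact Or.inl ⟨i, rfl⟩
  have hsr : ∀ i : ZMod N, IsConj (ι (DihedralGroup.sr i)) s₀ ∨ IsConj (ι (DihedralGroup.sr i)) s₁ := by
    intro i
    have key : ∀ k j : ZMod N, i = j + k + k → IsConj (ι (DihedralGroup.sr i)) (ι (DihedralGroup.sr j)) := by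
      intro k j e
      refine isConj_iff.2 ⟨ι (DihedralGroup.r k), ?_⟩
      rw [← map_inv, ← map_mul, ← map_mul, DihedralGroup.inv_r, DihedralGroup.r_mul_sr, DihedralGroup.sr_mul_r, e]
      congr 2; ring
    obtain ⟨k, hk⟩ := Nat.even_or_odd' i.val
    rcases hk with hk | hk
    · exact Or.inl (key (k : ZMod N) 0 (by rw [← ZMod.natCast_zmod_val i, hk]; push_cast; ring))
    · exact Or.inr (key (k : ZMod N) 1 (by rw [← ZMod.natCast_zmod_val i, hk]; push_cast; ring))
  have hclass : ∀ x : G, orderOf x = 2 → IsConj x z ∨ IsConj x s₀ ∨ IsConj x s₁ := by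
    intro x hx
    obtain ⟨g, hg⟩ := Cfsg.Lib.TwoFusion.exists_conj_mem_sylow P (k := 1) (by rw [hx, pow_one])
    obtain ⟨d, hd⟩ := hsur _ hg
    have hc : IsConj x (ι d) := isConj_iff.2 ⟨g, hd.symm⟩
    have hdo : orderOf d = 2 := by
      rw [← hιord, hd, show orderOf (g * x * g⁻¹) = orderOf x from (MulAut.conj g).orderOf_eq x, hx]
    rcases hrinv d hdo with ⟨i, rfl⟩ | rfl
    · rcases hsr i with e | e
      · exact Or.inr (Or.inl (hc.trans e))
      · exact Or.inr (Or.inr (hc.trans e))
    · exact Or.inl hc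
  set X : Set (ConjClasses G) := {ConjClasses.mk z, ConjClasses.mk s₀, ConjClasses.mk s₁} with hXdef
  have hcount : Nat.card {C : ConjClasses G // ∃ g : G, ConjClasses.mk g = C ∧ orderOf g = 2} = X.ncard := by
    rw [← Nat.card_coe_set_eq]
    refine Nat.card_congr (Equiv.subtypeEquivRight fun C => ?_)
    constructor
    · rintro ⟨g, rfl, hg⟩
      rcases hclass g hg with e | e | e
      · exact Or.inl (ConjClasses.mk_eq_mk_iff_isConj.2 e)
      · exact Or.inr (Or.inl (ConjClasses.mk_eq_mk_iff_isConj.2 e))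
      · exact Or.inr (Or.inr (ConjClasses.mk_eq_mk_iff_isConj.2 e))
    · rintro (rfl | rfl | rfl)
      · exact ⟨z, rfl, hzo⟩
      · exact ⟨s₀, rfl, hs0o⟩
      · exact ⟨s₁, rfl, hs1o⟩
  -- a transfer when one class of reflections is isolated
  have htr : ∀ c : ZMod 2, ∀ i : ZMod N, par hN2 c (DihedralGroup.sr i) ≠ 1 →
      (∀ a : G, IsConj (ι (DihedralGroup.sr i)) a → a ∈ T → ∀ d, ι d = a → par hN2 c d ≠ 1) →
      ∃ M : Subgroup G, M.Normal ∧ M.index = 2 := by
    intro c i hi hcl
    set K := (par hN2 c).ker.map ι with hKdef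
    have hrange : ι.range = T := le_antisymm (by rintro _ ⟨d, rfl⟩; exact hιT d) fun x hx => hsur x hx
    have hKT : K ≤ T := (Subgroup.map_le_range _ _).trans hrange.le
    have hKmem : ∀ d, ι d ∈ K ↔ par hN2 c d = 1 := fun d => by
      rw [hKdef, Subgroup.mem_map_iff_mem hinj, MonoidHom.mem_ker]
    have hK : K.relIndex T = 2 := by
      rw [← hrange, MonoidHom.range_eq_map, hKdef, Subgroup.relIndex_map_map_of_injective _ _ hinj, Subgroup.relIndex_top_right,
        Subgroup.index_ker]
      have : (par hN2 c).range = ⊤ := by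
        refine eq_top_iff.2 fun x _ => ?_
        by_cases hx : x = 1
        · rw [hx]; exact one_mem _
        · exact ⟨DihedralGroup.sr i, two_key x _ hi hx⟩
      rw [this, Nat.card_congr Subgroup.topEquiv.toEquiv, Nat.card_eq_fintype_card]
      rfl
    obtain ⟨M, h1, h2, -⟩ := Cfsg.Lib.TwoFusion.exists_index_two_of_transfer P K hKT hK (ι (DihedralGroup.sr i)) (hιT _)
      (fun e => hi ((hKmem _).1 e)) (fun k a ha => by
        rcases Nat.even_or_odd k with ⟨j, rfl⟩ | ⟨j, rfl⟩
        · rw [← map_pow, ← two_mul, pow_mul, pow_two, DihedralGroup.sr_mul_self, one_pow, map_one, mul_one, mul_inv_cancel]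
        · have e : ι (DihedralGroup.sr i) ^ (2 * j + 1) = ι (DihedralGroup.sr i) := by
            rw [← map_pow, pow_succ, pow_mul, pow_two, DihedralGroup.sr_mul_self, one_pow, one_mul]
          rw [e] at ha ⊢
          obtain ⟨d, hd⟩ := hsur _ ha
          refine iff_of_false (fun e' => ?_) (fun e' => hi ((hKmem _).1 e'))
          rw [← hd] at e'
          exact hcl _ (isConj_iff.2 ⟨a, rfl⟩) ha d hd ((hKmem d).1 e'))
    exact ⟨M, h1, h2⟩
  have hval : ∀ (c : ZMod 2) (k : ℕ), par hN2 c (DihedralGroup.sr (k : ZMod N)) = Multiplicative.ofAdd ((k : ZMod 2) + c) := by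
    intro c k
    show Multiplicative.ofAdd (ZMod.castHom hN2 (ZMod 2) (k : ZMod N) + c) = _
    rw [map_natCast]
  have hpar0 : par hN2 0 (DihedralGroup.sr 1) ≠ 1 := by
    rw [← Nat.cast_one, hval]; simp
  have hpar1 : par hN2 1 (DihedralGroup.sr 0) ≠ 1 := by
    rw [← Nat.cast_zero, hval]; simp
  -- conjugation inside the Sylow subgroup keeps the parity
  have hpar2 : ∀ c : ZMod 2, ∀ i j : ZMod N, ¬ IsConj (ι (DihedralGroup.sr i)) z →
      (∀ k, par hN2 c (DihedralGroup.sr k) = 1 → IsConj (ι (DihedralGroup.sr k)) (ι (DihedralGroup.sr j))) →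
      ¬ IsConj (ι (DihedralGroup.sr i)) (ι (DihedralGroup.sr j)) →
      ∀ a : G, IsConj (ι (DihedralGroup.sr i)) a → a ∈ T → ∀ d, ι d = a → par hN2 c d ≠ 1 := by
    intro c i j hiz hk hij a ha _ d hd e
    have hdo : orderOf d = 2 := by
      obtain ⟨g, hg⟩ := isConj_iff.1 ha
      rw [← hιord, hd, ← hg, show orderOf (g * ι (DihedralGroup.sr i) * g⁻¹) = orderOf (ι (DihedralGroup.sr i)) from
        (MulAut.conj g).orderOf_eq _, hιord, DihedralGroup.orderOf_sr]
    rcases hrinv d hdo with ⟨k, rfl⟩ | rfl
    · exact hij (ha.trans (hd ▸ hk k e))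
    · exact hiz (ha.trans (IsConj.refl a) |>.trans (by rw [← hd]))
  have hclass0 : ∀ k, par hN2 0 (DihedralGroup.sr k) = 1 → IsConj (ι (DihedralGroup.sr k)) s₀ := by
    intro k e
    obtain ⟨j, hj⟩ := Nat.even_or_odd' k.val
    rcases hj with hj | hj
    · refine isConj_iff.2 ⟨ι (DihedralGroup.r (j : ZMod N)), ?_⟩
      rw [hs0def, ← map_inv, ← map_mul, ← map_mul, DihedralGroup.inv_r, DihedralGroup.r_mul_sr, DihedralGroup.sr_mul_r,
        ← ZMod.natCast_zmod_val k, hj]
      congr 2; push_cast; ring
    · exfalso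
      rw [← ZMod.natCast_zmod_val k, hj, hval, Nat.cast_add, Nat.cast_one] at e
      rw [Nat.cast_mul, show ((2 : ℕ) : ZMod 2) = 0 from rfl, zero_mul] at e
      simp at e
  have hclass1 : ∀ k, par hN2 1 (DihedralGroup.sr k) = 1 → IsConj (ι (DihedralGroup.sr k)) s₁ := by
    intro k e
    obtain ⟨j, hj⟩ := Nat.even_or_odd' k.val
    rcases hj with hj | hj
    · exfalso
      rw [← ZMod.natCast_zmod_val k, hj, hval] at e
      rw [Nat.cast_mul, show ((2 : ℕ) : ZMod 2) = 0 from rfl, zero_mul] at e
      simp at e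
    · refine isConj_iff.2 ⟨ι (DihedralGroup.r (j : ZMod N)), ?_⟩
      rw [hs1def, ← map_inv, ← map_mul, ← map_mul, DihedralGroup.inv_r, DihedralGroup.r_mul_sr, DihedralGroup.sr_mul_r,
        ← ZMod.natCast_zmod_val k, hj]
      congr 2; push_cast; ring
  -- a normal subgroup of index four is impossible once a reflection is fused with `z`
  have hfour : ∀ u v : G, u ∈ T → v ∈ T → u * u = 1 → v * v = 1 → IsConj u z →
      (∀ x ∈ T, x ∈ Subgroup.closure ({u, v} : Set G)) → ∀ M : Subgroup G, M.Normal → M.index ≠ 4 := by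
    intro u v huT hvT hu hv huz hgen M hM hM4
    haveI := hM
    have hcard : Nat.card (G ⧸ M) = 2 ^ 2 := by rw [← Subgroup.index_eq_card, hM4]; rfl
    set π := QuotientGroup.mk' M
    have hcomm : ∀ a b : G ⧸ M, a * b = b * a := IsPGroup.commutative_of_card_eq_prime_sq hcard
    have hπu : π u * π u = 1 := by rw [← map_mul, hu, map_one]
    have hπv : π v * π v = 1 := by rw [← map_mul, hv, map_one]
    have hsq : ∀ x ∈ Subgroup.closure ({u, v} : Set G), π x * π x = 1 := by
      intro x hx
      induction hx using Subgroup.closure_induction with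
      | mem a ha => rcases ha with rfl | rfl <;> assumption
      | one => simp
      | mul a b _ _ iha ihb =>
        rw [map_mul]
        calc π a * π b * (π a * π b) = π a * (π b * π a) * π b := by group
          _ = π a * (π a * π b) * π b := by rw [hcomm (π b) (π a)]
          _ = (π a * π a) * (π b * π b) := by group
          _ = 1 := by rw [iha, ihb, one_mul]
      | inv a _ iha => rw [map_inv, ← mul_inv_rev, iha, inv_one]
    have hzM : π z = 1 := by
      rw [hzsq, map_mul]; exact hsq _ (hgen _ (hιT _))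
    have huM : u ∈ M := by
      obtain ⟨g, hg⟩ := isConj_iff.1 huz.symm
      rw [← QuotientGroup.eq_one_iff]
      show π u = 1
      rw [← hg, map_mul, map_mul, hzM, map_inv, mul_one, mul_inv_cancel]
    have hTM : ∀ x ∈ T, π x ∈ Subgroup.zpowers (π v) := by
      intro x hx
      have := Subgroup.mem_map_of_mem π (hgen x hx)
      rw [MonoidHom.map_closure, Set.image_pair, show π u = 1 from (QuotientGroup.eq_one_iff u).2 huM] at this
      refine (Subgroup.closure_le _).2 ?_ this
      rintro a (rfl | rfl)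
      · exact one_mem _
      · exact Subgroup.mem_zpowers _
    have hle : T ≤ (Subgroup.zpowers (π v)).comap π := hTM
    have hd : ((Subgroup.zpowers (π v)).comap π).index ∣ T.index := Subgroup.index_dvd_of_le hle
    rw [Subgroup.index_comap_of_surjective _ (QuotientGroup.mk'_surjective M)] at hd
    have hprod := (Subgroup.zpowers (π v)).card_mul_index
    rw [hcard, Nat.card_zpowers] at hprod
    have hov : orderOf (π v) ≤ 2 := Nat.le_of_dvd two_pos (orderOf_dvd_of_pow_eq_one (by rw [pow_two]; exact hπv))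
    have hpos := orderOf_pos (π v)
    refine P.not_dvd_index (dvd_trans ?_ hd)
    rcases (show orderOf (π v) = 1 ∨ orderOf (π v) = 2 by omega) with e | e <;> rw [e] at hprod
    · exact ⟨2, by omega⟩
    · exact ⟨1, by omega⟩
  have hgen : ∀ x ∈ T, x ∈ Subgroup.closure ({s₀, s₁} : Set G) := by
    intro x hx
    obtain ⟨d, rfl⟩ := hsur x hx
    have h1 : ∀ k : ℕ, ι (DihedralGroup.r (k : ZMod N)) ∈ Subgroup.closure ({s₀, s₁} : Set G) := by
      intro k
      rw [← DihedralGroup.r_one_pow, map_pow]
      refine pow_mem ?_ k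
      rw [show DihedralGroup.r (1 : ZMod N) = DihedralGroup.sr 0 * DihedralGroup.sr 1 by rw [DihedralGroup.sr_mul_sr, sub_zero], map_mul]
      exact mul_mem (Subgroup.subset_closure (Or.inl rfl)) (Subgroup.subset_closure (Or.inr rfl))
    rcases d with i | i
    · rw [← ZMod.natCast_zmod_val i]; exact h1 _
    · rw [show DihedralGroup.sr i = DihedralGroup.sr 0 * DihedralGroup.r i by rw [DihedralGroup.sr_mul_r, zero_add], map_mul,
        ← ZMod.natCast_zmod_val i]
      exact mul_mem (Subgroup.subset_closure (Or.inl rfl)) (h1 _)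
  have hs0sq : s₀ * s₀ = 1 := by rw [hs0def, ← map_mul, DihedralGroup.sr_mul_self, map_one]
  have hs1sq : s₁ * s₁ = 1 := by rw [hs1def, ← map_mul, DihedralGroup.sr_mul_self, map_one]
  by_cases h0 : IsConj s₀ z
  · by_cases h1 : IsConj s₁ z
    · left
      refine ⟨?_, fun M hM hM2 => ?_⟩
      · rw [hcount, hXdef, ConjClasses.mk_eq_mk_iff_isConj.2 h0, ConjClasses.mk_eq_mk_iff_isConj.2 h1]
        simp
      · have hsq : ∀ x : G, x * x ∈ M := fun x => Subgroup.mul_self_mem_of_index_two hM2 x
        have hzM : z ∈ M := hzsq ▸ hsq _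
        have hcl : ∀ s, IsConj s z → s ∈ M := by
          intro s hs
          obtain ⟨g, hg⟩ := isConj_iff.1 hs.symm
          exact hg ▸ hM.conj_mem z hzM g
        refine P.not_dvd_index ((by rw [hM2] : 2 ∣ M.index).trans (Subgroup.index_dvd_of_le fun x hx => ?_))
        refine (Subgroup.closure_le _).2 ?_ (hgen x hx)
        rintro a (rfl | rfl)
        · exact hcl _ h0
        · exact hcl _ h1
    · right; left
      have h01 : ¬ IsConj s₁ s₀ := fun e => h1 (e.trans h0)
      refine ⟨?_, htr 0 1 hpar0 (hpar2 0 1 0 h1 hclass0 h01), hfour s₀ s₁ (hιT _) (hιT _) hs0sq hs1sq h0 hgen⟩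
      rw [hcount, hXdef, ConjClasses.mk_eq_mk_iff_isConj.2 h0, Set.insert_eq_of_mem (Set.mem_insert _ _)]
      exact Set.ncard_pair fun e => h1 (ConjClasses.mk_eq_mk_iff_isConj.1 e).symm
  · by_cases h1 : IsConj s₁ z
    · right; left
      have h10 : ¬ IsConj s₀ s₁ := fun e => h0 (e.trans h1)
      refine ⟨?_, htr 1 0 hpar1 (hpar2 1 0 1 h0 hclass1 h10),
        hfour s₁ s₀ (hιT _) (hιT _) hs1sq hs0sq h1 (by rw [Set.pair_comm]; exact hgen)⟩
      rw [hcount, hXdef, ConjClasses.mk_eq_mk_iff_isConj.2 h1, Set.pair_comm (ConjClasses.mk s₀),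
        Set.insert_eq_of_mem (Set.mem_insert _ _)]
      exact Set.ncard_pair fun e => h0 (ConjClasses.mk_eq_mk_iff_isConj.1 e).symm
    · right; right
      have hnz : ∀ i, ¬ IsConj (ι (DihedralGroup.sr i)) z := by
        intro i e
        rcases hsr i with e' | e'
        · exact h0 (e'.symm.trans e)
        · exact h1 (e'.symm.trans e)
      have hcompl : Cfsg.HasNormalPComplement 2 G := by
        refine (Cfsg.Agent.S1254.result P N (by omega) eS).2 fun U hUT hU => ?_
        refine le_antisymm ?_ (sup_le (Subgroup.centralizer_le_normalizer _) inf_le_right)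
        intro g hg
        haveI := hU
        have hUinv : ∀ d, ι d ∈ U → d = 1 ∨ (∃ i, d = DihedralGroup.sr i) ∨ d = DihedralGroup.r h := by
          intro d hd
          by_cases hd1 : d = 1
          · exact Or.inl hd1
          refine Or.inr (hrinv d (orderOf_eq_prime (hinj ?_) hd1))
          rw [map_pow, map_one, pow_two]
          exact congrArg Subtype.val (IsKleinFour.mul_self (⟨ι d, hd⟩ : ↥U))
        -- `U` contains `z` and a reflection
        have hlt : ∀ a : G, ∃ x ∈ U, x ≠ 1 ∧ x ≠ a := by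
          intro a
          by_contra hno
          push Not at hno
          have hsub : (U : Set G) ⊆ {1, a} := fun x hx => by
            by_cases hx1 : x = 1
            · exact Or.inl hx1
            · exact Or.inr (hno x hx hx1)
          have := Set.ncard_le_ncard hsub (Set.toFinite _)
          rw [← Nat.card_coe_set_eq] at this
          have h2 : ({1, a} : Set G).ncard ≤ 2 := (Set.ncard_insert_le _ _).trans (by simp)
          have h4 : Nat.card (U : Set G) = 4 := hU.card_four
          omega
        obtain ⟨u, huU, hu1, huz⟩ := hlt z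
        obtain ⟨du, rfl⟩ := hsur u (hUT huU)
        obtain ⟨i, rfl⟩ : ∃ i, du = DihedralGroup.sr i := by
          rcases hUinv du huU with e | e | e
          · exact absurd (by rw [e, map_one]) hu1
          · exact e
          · exact absurd (by rw [e]) huz
        have hform : ∀ x ∈ U, x = 1 ∨ x = z ∨ x = ι (DihedralGroup.sr i) ∨ x = ι (DihedralGroup.sr (i + h)) := by
          intro x hx
          obtain ⟨d, rfl⟩ := hsur x (hUT hx)
          rcases hUinv d hx with rfl | ⟨k, rfl⟩ | rfl
          · exact Or.inl (map_one ι)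
          · have hm := mul_mem huU hx
            rw [← map_mul, DihedralGroup.sr_mul_sr] at hm
            rcases hUinv _ hm with e | ⟨j, e⟩ | e
            · rw [DihedralGroup.one_def] at e
              exact Or.inr (Or.inr (Or.inl (by rw [sub_eq_zero.1 (DihedralGroup.r.inj e)])))
            · exact DihedralGroup.noConfusion rfl (heq_of_eq e)
            · exact Or.inr (Or.inr (Or.inr (by rw [← DihedralGroup.r.inj e, add_sub_cancel])))
          · exact Or.inr (Or.inl rfl)
        obtain ⟨v, hvU, hv1, hvu⟩ := hlt (ι (DihedralGroup.sr i))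
        have hzU : z ∈ U := by
          rcases hform v hvU with e | e | e | e
          · exact absurd e hv1
          · exact e ▸ hvU
          · exact absurd e hvu
          · have := mul_mem huU (e ▸ hvU)
            rwa [← map_mul, DihedralGroup.sr_mul_sr, add_sub_cancel_left] at this
        have hzfix : g * z * g⁻¹ = z := by
          have hm := (Subgroup.mem_normalizer_iff.1 hg z).1 hzU
          rcases hform _ hm with e | e | e | e
          · rw [mul_inv_eq_one, mul_eq_left] at e
            rw [e, orderOf_one] at hzo; omega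
          · exact e
          · exact absurd (isConj_iff.2 ⟨g, e⟩ : IsConj z _).symm (hnz i)
          · exact absurd (isConj_iff.2 ⟨g, e⟩ : IsConj z _).symm (hnz (i + h))
        have hCmem : ∀ w : G, w * z * w⁻¹ = z → w * ι (DihedralGroup.sr i) * w⁻¹ = ι (DihedralGroup.sr i) →
            w ∈ Subgroup.centralizer (U : Set G) := by
          intro w hwz hwu
          refine Subgroup.mem_centralizer_iff.2 fun x hx => ?_
          have hwh : w * ι (DihedralGroup.sr (i + h)) * w⁻¹ = ι (DihedralGroup.sr (i + h)) := by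
            rw [← DihedralGroup.sr_mul_r, map_mul, show w * (ι (DihedralGroup.sr i) * ι (DihedralGroup.r h)) * w⁻¹ =
              (w * ι (DihedralGroup.sr i) * w⁻¹) * (w * ι (DihedralGroup.r h) * w⁻¹) by group, hwu, ← hzdef, hwz]
          rcases hform x hx with rfl | rfl | rfl | rfl
          · simp
          · exact (mul_inv_eq_iff_eq_mul.1 hwz).symm
          · exact (mul_inv_eq_iff_eq_mul.1 hwu).symm
          · exact (mul_inv_eq_iff_eq_mul.1 hwh).symm
        have hm := (Subgroup.mem_normalizer_iff.1 hg _).1 huU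
        rcases hform _ hm with e | e | e | e
        · rw [mul_inv_eq_one, mul_eq_left] at e
          exact absurd e hu1
        · exact absurd (isConj_iff.2 ⟨g, e⟩) (hnz i)
        · exact Subgroup.mem_sup_left (hCmem g hzfix e)
        · set t := ι (DihedralGroup.r q) with ht
          have htz : t * z * t⁻¹ = z := by
            rw [ht, hzdef, ← map_inv, ← map_mul, ← map_mul, DihedralGroup.inv_r, DihedralGroup.r_mul_r, DihedralGroup.r_mul_r]
            congr 2; ring
          have htu : t * ι (DihedralGroup.sr i) * t⁻¹ = ι (DihedralGroup.sr (i + h)) := by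
            rw [ht, ← map_inv, ← map_mul, ← map_mul, DihedralGroup.inv_r, DihedralGroup.r_mul_sr, DihedralGroup.sr_mul_r]
            congr 2
            rw [← hhneg, ← hqq]; ring
          have hC : t⁻¹ * g ∈ Subgroup.centralizer (U : Set G) := hCmem _
            (by
              calc t⁻¹ * g * z * (t⁻¹ * g)⁻¹ = t⁻¹ * (g * z * g⁻¹) * t := by group
                _ = t⁻¹ * z * t := by rw [hzfix]
                _ = t⁻¹ * (t * z * t⁻¹) * t := by rw [htz]
                _ = z := by group)
            (by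
              calc t⁻¹ * g * ι (DihedralGroup.sr i) * (t⁻¹ * g)⁻¹ = t⁻¹ * (g * ι (DihedralGroup.sr i) * g⁻¹) * t := by group
                _ = t⁻¹ * (t * ι (DihedralGroup.sr i) * t⁻¹) * t := by rw [e, htu]
                _ = _ := by group)
          have htN : t ∈ Subgroup.normalizer (U : Set G) := by
            have := mul_mem hg (inv_mem (Subgroup.centralizer_le_normalizer _ hC))
            rwa [mul_inv_rev, inv_inv, ← mul_assoc, mul_inv_cancel, one_mul] at this
          rw [show g = t * (t⁻¹ * g) by group]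
          exact Subgroup.mul_mem _ (Subgroup.mem_sup_right ⟨hιT _, htN⟩) (Subgroup.mem_sup_left hC)
      refine ⟨?_, hcompl⟩
      obtain ⟨M, hMn, hM⟩ := Cfsg.Lib.Transfer.exists_complement_of_hasNormalPComplement hcompl P
      haveI := hMn
      have h01 : ¬ IsConj s₀ s₁ := by
        intro e
        obtain ⟨t, ht, hte⟩ := conj_in_sylow hM (hιT _) (hιT _) e
        obtain ⟨d, rfl⟩ := hsur t ht
        rw [← map_inv, ← map_mul, ← map_mul] at hte
        have hd := congrArg (par hN2 0) (hinj hte)
        rw [map_mul, map_mul, map_inv, mul_comm (par hN2 0 d), mul_inv_cancel_right] at hd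
        exact hpar0 (hd.symm.trans (by
          rw [show (0 : ZMod N) = ((0 : ℕ) : ZMod N) from Nat.cast_zero.symm, hval]; simp))
      rw [hcount, hXdef, Set.ncard_insert_of_notMem ?_, Set.ncard_pair fun e => h01 (ConjClasses.mk_eq_mk_iff_isConj.1 e)]
      rintro (e | e)
      · exact h0 (ConjClasses.mk_eq_mk_iff_isConj.1 e).symm
      · exact h1 (ConjClasses.mk_eq_mk_iff_isConj.1 e).symm

end Cfsg.Agent.S3864
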