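-- Statement S3865: maximal class Sylow subgroups.
import Cfsg.Statements.S3865
import Cfsg.Agent.PGroups.SelfCentPSq
import Cfsg.Agent.PGroups.MaxClassSelfCent

set_option autoImplicit false
set_option linter.style.haveILetI false
open Cfsg

namespace Cfsg.Agent.S3865

open Subgroup
open scoped commutatorElement

/-- Let G be a finite group whose Sylow p-subgroup P has order p ^ n with n ≥ 2 and nilpotency class n - 1 (maximal class), whose largest normal subgroup of order prime to p is trivial, and which has no proper normal subgroup of index prime to p. Then either some x ∈ P has a centralizer in G whose order has p-part p ^ 2, or G is quasisimple with centre of order at most p. -/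
theorem result {G : Type*} [Group G] [Finite G] (p : ℕ) [Fact p.Prime] (P : Sylow p G) (n : ℕ) (hP : Nat.card P = p ^ n) (hn : 2 ≤ n) (hmax : Group.nilpotencyClass ↥(P : Subgroup G) = n - 1) (hcore : Cfsg.pPrimeCore p G = ⊥) (hres : ∀ N : Subgroup G, N.Normal → (N.index).Coprime p → N = ⊤) : (∃ x ∈ (P : Subgroup G), (Nat.card (Subgroup.centralizer ({x} : Set G))).factorization p = 2) ∨ (Cfsg.IsQuasisimple G ∧ Nat.card (Subgroup.center G) ≤ p) := by
  classical
  have hpp : p.Prime := Fact.out
  refine or_iff_not_imp_left.2 fun hno => ?_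
  push Not at hno
  -- translation of centralizers
  have hcard : ∀ t : (P : Subgroup G), Nat.card (centralizer ({t} : Set (P : Subgroup G))) =
      Nat.card ↥((P : Subgroup G) ⊓ centralizer ({(t : G)} : Set G)) := by
    intro t
    have e : centralizer ({t} : Set (P : Subgroup G)) = (centralizer ({(t : G)} : Set G)).subgroupOf P := by
      ext g
      simp only [mem_subgroupOf, mem_centralizer_singleton_iff, Subtype.ext_iff, coe_mul]
    rw [e, ← inf_subgroupOf_left]
    exact Nat.card_congr (subgroupOfEquivOfLe inf_le_left).toEquiv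
  have hexact : ∀ s : G, s ∈ (P : Subgroup G) →
      Nat.card ↥((P : Subgroup G) ⊓ centralizer ({s} : Set G)) = p ^ 2 →
      ¬ p ^ 3 ∣ Nat.card (centralizer ({s} : Set G)) → False := by
    intro s hs hD h3
    refine hno s hs (le_antisymm ?_ ?_)
    · by_contra h
      exact h3 ((hpp.pow_dvd_iff_le_factorization Nat.card_pos.ne').2 (by omega))
    · rw [← hpp.pow_dvd_iff_le_factorization Nat.card_pos.ne', ← hD]
      exact card_dvd_of_le inf_le_right
  have hPp : IsPGroup p (P : Subgroup G) := P.isPGroup'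
  have hn3 : 3 ≤ n := by
    by_contra h
    obtain rfl : n = 2 := by omega
    refine hexact 1 (one_mem _) ?_ ?_
    · rw [show centralizer ({(1 : G)} : Set G) = ⊤ from eq_top_iff.2 fun g _ =>
        mem_centralizer_singleton_iff.2 (by simp), inf_top_eq]
      exact hP
    · intro h3
      have h := h3.trans (card_subgroup_dvd_card _)
      rw [← (P : Subgroup G).card_mul_index] at h
      change _ ∣ Nat.card P * _ at h
      rw [hP, pow_succ] at h
      exact P.not_dvd_index ((Nat.mul_dvd_mul_iff_left (pow_pos hpp.pos 2)).1 h)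
  haveI : Group.IsNilpotent (P : Subgroup G) := hPp.isNilpotent
  obtain ⟨hZP, -, -⟩ := Cfsg.Lib.MaxClass.center_facts n (P : Subgroup G) hP hn3 hmax
  have hcore' : ∀ N : Subgroup G, N.Normal → (Nat.card N).Coprime p → N = ⊥ := fun N h1 h2 =>
    le_bot_iff.1 (hcore ▸ le_sSup ⟨h1, h2⟩)
  -- every proper normal subgroup is central
  have hmain : ∀ N : Subgroup G, N.Normal → N ≠ ⊤ → N ≤ center G := by
    intro N hNn hNtop
    set K := (P : Subgroup G) ⊓ N with hK
    have hKP : ¬ (P : Subgroup G) ≤ N := fun h => hNtop (hres N hNn (by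
      refine Nat.Coprime.coprime_dvd_left (index_dvd_of_le h) ?_
      exact (hpp.coprime_iff_not_dvd.2 P.not_dvd_index).symm))
    obtain ⟨e, he⟩ := IsPGroup.iff_card.1 (hPp.to_le (inf_le_left : K ≤ P))
    have hidx := Cfsg.Lib.SelfCentPSq.not_dvd_relIndex_inf P N
    have hNc : Nat.card N = Nat.card K * (P : Subgroup G).relIndex N := by
      rw [hK, ← inf_relIndex_right, ← relIndex_bot_left, ← relIndex_bot_left,
        relIndex_mul_relIndex _ _ _ bot_le inf_le_right]
    rcases Nat.eq_zero_or_pos e with rfl | he1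
    · rw [he, pow_zero, one_mul] at hNc
      rw [hcore' N hNn (hNc ▸ (hpp.coprime_iff_not_dvd.2 hidx).symm)]
      exact bot_le
    rcases Nat.lt_or_ge e 2 with he2 | he2
    swap
    · exfalso
      obtain ⟨t, htK, ht⟩ := Cfsg.Lib.MaxClassSelfCent.exists_card_centralizer_sq hP hn hmax
        (K := N.subgroupOf P) (fun h => hKP (subgroupOf_eq_top.1 h))
      rw [hcard] at ht
      refine hexact t t.2 ht (Cfsg.Lib.SelfCentPSq.not_dvd_card_centralizer P N t.2 htK ht ?_)
      rw [← hK, he]
      exact Nat.pow_dvd_pow p he2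
    obtain rfl : e = 1 := by omega
    rw [pow_one] at he
    have hKp : IsPGroup p K := hPp.to_le inf_le_left
    have hKn : ∀ g ∈ (P : Subgroup G), ∀ x ∈ K, g * x * g⁻¹ ∈ K := fun g hg x hx =>
      ⟨Subgroup.mul_mem _ (Subgroup.mul_mem _ hg hx.1) (Subgroup.inv_mem _ hg), hNn.conj_mem x hx.2 g⟩
    have hKcent : ∀ g ∈ (P : Subgroup G), ∀ x ∈ K, g * x = x * g := fun g hg x hx =>
      (Cfsg.Lib.SelfCentPSq.commute_of_prime_order hPp inf_le_left he hKn hg hx).eq
    have hPC : (P : Subgroup G) ≤ centralizer (K : Set G) := fun g hg =>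
      mem_centralizer_iff.2 fun x hx => (hKcent g hg x hx).symm
    have hPnK : (P : Subgroup G) ≤ Subgroup.normalizer (K : Set G) := hPC.trans (centralizer_le_normalizer _)
    -- a normalizing element of `P` in `N` fixes `K`
    have hfix : ∀ a ∈ N, a ∈ Subgroup.normalizer ((P : Subgroup G) : Set G) → a ∈ centralizer (K : Set G) := by
      intro a haN haP
      obtain ⟨x, hx, y, hy, hxy⟩ : ∃ x ∈ (P : Subgroup G), ∃ y ∈ (P : Subgroup G), ⁅x, y⁆ ∈ K ∧ ⁅x, y⁆ ≠ 1 := by
        have hnc := Cfsg.Lib.MaxClass.not_comm (X := (P : Subgroup G)) hn3 hmax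
        set ZP := center (P : Subgroup G)
        have hKZ : ∀ w ∈ ZP, (w : G) ∈ K := by
          have h : K.subgroupOf P = ZP := by
            refine eq_of_le_of_card_ge (fun w hw => mem_center_iff.2 fun g => Subtype.ext (hKcent g g.2 w hw)) ?_
            rw [hZP, Nat.card_congr (subgroupOfEquivOfLe inf_le_left).toEquiv, he]
          exact fun w hw => h.ge hw
        obtain ⟨-, hq, -⟩ := Cfsg.Lib.MaxClass.center_facts n (P : Subgroup G) hP hn3 hmax
        haveI : Nontrivial ((P : Subgroup G) ⧸ ZP) := Finite.one_lt_card_iff_nontrivial.1 (by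
          rw [hq]; exact Nat.one_lt_pow (by omega) hpp.one_lt)
        haveI := (hPp.to_quotient ZP).center_nontrivial
        obtain ⟨⟨wq, hwq⟩, hne⟩ := exists_ne (1 : center ((P : Subgroup G) ⧸ ZP))
        obtain ⟨w, rfl⟩ := QuotientGroup.mk'_surjective ZP wq
        have hwZ : w ∉ ZP := fun h => hne (Subtype.ext ((QuotientGroup.eq_one_iff w).2 h))
        obtain ⟨g, hg⟩ : ∃ g, g * w ≠ w * g := by
          by_contra h; push Not at h; exact hwZ (mem_center_iff.2 h)
        have hgw : ⁅g, w⁆ ∈ ZP := by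
          rw [← QuotientGroup.eq_one_iff]
          show QuotientGroup.mk' ZP ⁅g, w⁆ = 1
          rw [map_commutatorElement, commutatorElement_eq_one_iff_mul_comm]
          exact mem_center_iff.1 hwq _
        refine ⟨g, g.2, w, w.2, hKZ _ hgw, fun h => hg ?_⟩
        exact Subtype.ext (commutatorElement_eq_one_iff_mul_comm.1 h)
      have hmov : ∀ u ∈ (P : Subgroup G), ∃ k ∈ K, a * u * a⁻¹ = u * k := fun u hu => by
        have h1 : a * u * a⁻¹ ∈ (P : Subgroup G) := (mem_normalizer_iff.1 haP u).1 hu
        refine ⟨u⁻¹ * (a * u * a⁻¹), ⟨Subgroup.mul_mem _ (Subgroup.inv_mem _ hu) h1, ?_⟩, by group⟩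
        have h2 := N.mul_mem (hNn.conj_mem a haN u⁻¹) (N.inv_mem haN)
        rwa [show u⁻¹ * a * u⁻¹⁻¹ * a⁻¹ = u⁻¹ * (a * u * a⁻¹) by group] at h2
      obtain ⟨k₁, hk₁, e₁⟩ := hmov x hx
      obtain ⟨k₂, hk₂, e₂⟩ := hmov y hy
      have hcomm : a * ⁅x, y⁆ * a⁻¹ = ⁅x, y⁆ := by
        have h : a * ⁅x, y⁆ * a⁻¹ = ⁅a * x * a⁻¹, a * y * a⁻¹⁆ := by
          simp only [commutatorElement_def]; group
        rw [h, e₁, e₂, commutatorElement_def, commutatorElement_def]
        have a1 : Commute k₁ y := (hKcent y hy k₁ hk₁).symm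
        have a2 : Commute k₁ k₂ := (hKcent k₂ hk₂.1 k₁ hk₁).symm
        have a3 : Commute k₂ x⁻¹ := (hKcent x⁻¹ (Subgroup.inv_mem _ hx) k₂ hk₂).symm
        calc x * k₁ * (y * k₂) * (x * k₁)⁻¹ * (y * k₂)⁻¹
            = x * (k₁ * (y * k₂)) * k₁⁻¹ * x⁻¹ * k₂⁻¹ * y⁻¹ := by group
          _ = x * y * (k₂ * x⁻¹) * k₂⁻¹ * y⁻¹ := by rw [(a1.mul_right a2).eq]; group
          _ = x * y * x⁻¹ * y⁻¹ := by rw [a3.eq]; group
      have hle : K ≤ zpowers ⁅x, y⁆ := by
        refine (eq_of_le_of_card_ge (zpowers_le.2 hxy.1) ?_).ge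
        rw [he, Nat.card_zpowers]
        have h1 : orderOf ⁅x, y⁆ ∣ p := by
          have := orderOf_dvd_natCard K hxy.1
          rwa [he] at this
        rw [((Nat.dvd_prime hpp).1 h1).resolve_left (by rw [orderOf_eq_one_iff]; exact hxy.2)]
      refine mem_centralizer_iff.2 fun k hk => ?_
      obtain ⟨i, rfl⟩ := mem_zpowers_iff.1 (hle hk)
      have h2 : Commute a ⁅x, y⁆ := mul_inv_eq_iff_eq_mul.1 hcomm
      exact (h2.zpow_right i).eq.symm
    -- Frattini argument in `(P N) ∩ N_G(K)`
    set H := ((P : Subgroup G) ⊔ N) ⊓ Subgroup.normalizer (K : Set G)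
    have hPH : (P : Subgroup G) ≤ H := le_inf le_sup_left hPnK
    have hNC : N ⊓ Subgroup.normalizer (K : Set G) ≤ centralizer (K : Set G) := by
      intro a ha
      set C0 := (centralizer (K : Set G)).subgroupOf H
      haveI : C0.Normal := ⟨fun c hc g => by
        rw [mem_subgroupOf] at hc ⊢
        refine mem_centralizer_iff.2 fun k hk => ?_
        have hk' : (g : G)⁻¹ * k * g ∈ K := by
          have := (mem_normalizer_iff.1 (Subgroup.inv_mem _ g.2.2) k).1 hk
          rwa [inv_inv] at this
        have := mem_centralizer_iff.1 hc _ hk'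
        simp only [coe_mul, coe_inv]
        calc k * ((g : G) * c * (g : G)⁻¹) = g * (((g : G)⁻¹ * k * g) * c) * (g : G)⁻¹ := by group
          _ = g * (c * ((g : G)⁻¹ * k * g)) * (g : G)⁻¹ := by rw [this]
          _ = (g : G) * c * (g : G)⁻¹ * k := by group⟩
      have htop := Sylow.normalizer_sup_eq_top' (P.subtype hPH) (N := C0) (fun g hg => hPC hg)
      have hmem : (⟨a, mem_inf.2 ⟨mem_sup_right ha.1, ha.2⟩⟩ : H) ∈
          Subgroup.normalizer ((P.subtype hPH : Sylow p H) : Subgroup H) ⊔ C0 := htop ▸ mem_top _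
      obtain ⟨b, hb, c, hc, hbc⟩ := mem_sup_of_normal_right.1 hmem
      have hbP : (b : G) ∈ Subgroup.normalizer ((P : Subgroup G) : Set G) := by
        refine mem_normalizer_iff.2 fun y => ⟨fun hy => ?_, fun hy => ?_⟩
        · exact mem_subgroupOf.1 ((mem_normalizer_iff.1 hb ⟨y, hPH hy⟩).1 hy)
        · have hyH : y ∈ H := by
            have := H.mul_mem (H.mul_mem (H.inv_mem b.2) (hPH hy)) b.2
            simpa [mul_assoc] using this
          exact mem_subgroupOf.1 ((mem_normalizer_iff.1 hb ⟨y, hyH⟩).2 hy)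
      haveI := hNn
      obtain ⟨g, hg, ν, hν, hgν⟩ := mem_sup_of_normal_right.1 (b.2.1 : (b : G) ∈ (P : Subgroup G) ⊔ N)
      have hνP : ν ∈ Subgroup.normalizer ((P : Subgroup G) : Set G) := by
        rw [show ν = g⁻¹ * (b : G) by rw [← hgν]; group]
        exact Subgroup.mul_mem _ (Subgroup.inv_mem _ (le_normalizer hg)) hbP
      have hbC : (b : G) ∈ centralizer (K : Set G) := by
        rw [← hgν]; exact Subgroup.mul_mem _ (hPC hg) (hfix ν hν hνP)
      have e : (b : G) * (c : G) = a := congrArg Subtype.val hbc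
      rw [← e]
      exact Subgroup.mul_mem _ hbC hc
    -- Burnside transfer in `N`
    have hKN : K ≤ N := inf_le_right
    have hKSyl : Nat.card (K.subgroupOf N) = p ^ (Nat.card N).factorization p := by
      rw [Nat.card_congr (subgroupOfEquivOfLe hKN).toEquiv, hNc, he,
        Nat.factorization_mul hpp.ne_zero (fun h : (P : Subgroup G).relIndex N = 0 => hidx (h ▸ dvd_zero p)), Finsupp.add_apply,
        Nat.factorization_eq_zero_of_not_dvd hidx, hpp.factorization, Finsupp.single_eq_same, add_zero, pow_one]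
    set Q : Sylow p N := Sylow.ofCard _ hKSyl
    have hQ : Subgroup.normalizer ((Q : Subgroup N) : Set N) ≤ centralizer ((Q : Subgroup N) : Set N) := by
      intro x hx
      have hxK : (x : G) ∈ Subgroup.normalizer (K : Set G) := by
        refine mem_normalizer_iff.2 fun y => ⟨fun hy => ?_, fun hy => ?_⟩
        · exact mem_subgroupOf.1 ((mem_normalizer_iff.1 hx ⟨y, hKN hy⟩).1 hy)
        · have hyN : y ∈ N := by
            have := N.mul_mem (N.mul_mem (N.inv_mem x.2) (hKN hy)) x.2
            simpa [mul_assoc] using this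
          exact mem_subgroupOf.1 ((mem_normalizer_iff.1 hx ⟨y, hyN⟩).2 hy)
      exact mem_centralizer_iff.2 fun y hy => Subtype.ext (mem_centralizer_iff.1 (hNC ⟨x.2, hxK⟩) y hy)
    set O := (MonoidHom.transferSylow Q hQ).ker
    have hOp : ¬ p ∣ Nat.card O := MonoidHom.not_dvd_card_ker_transferSylow Q hQ
    set O' := O.map N.subtype
    have hOn : O'.Normal := by
      have hOmem : ∀ x : G, x ∈ O' ↔ x ∈ N ∧ ¬ p ∣ orderOf x := by
        intro x
        constructor
        · rintro ⟨y, hy, rfl⟩
          refine ⟨y.2, fun h => hOp (h.trans ?_)⟩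
          rw [Subgroup.coe_subtype, orderOf_coe]
          exact orderOf_dvd_natCard O hy
        · rintro ⟨hxN, hxo⟩
          refine ⟨⟨x, hxN⟩, ?_, rfl⟩
          have h1 : orderOf ((MonoidHom.transferSylow Q hQ) ⟨x, hxN⟩) ∣ orderOf x :=
            (orderOf_map_dvd _ _).trans (Subgroup.orderOf_coe (⟨x, hxN⟩ : N)).symm.dvd
          obtain ⟨i, hi⟩ := (IsPGroup.iff_orderOf.1 Q.isPGroup') ((MonoidHom.transferSylow Q hQ) ⟨x, hxN⟩)
          rw [hi] at h1
          show (MonoidHom.transferSylow Q hQ) ⟨x, hxN⟩ = 1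
          rw [← orderOf_eq_one_iff, hi]
          rcases Nat.eq_zero_or_pos i with rfl | hi0
          · rw [pow_zero]
          · exact absurd ((dvd_pow_self p hi0.ne').trans h1) hxo
      refine ⟨fun x hx g => ?_⟩
      rw [hOmem] at hx ⊢
      refine ⟨hNn.conj_mem x hx.1 g, ?_⟩
      have h := MulEquiv.orderOf_eq (MulAut.conj g) x
      rw [MulAut.conj_apply] at h
      rw [h]
      exact hx.2
    have hO : O' = ⊥ := hcore' O' hOn (by
      rw [card_map_of_injective N.subtype_injective]
      exact (hpp.coprime_iff_not_dvd.2 hOp).symm)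
    have hOb : O = ⊥ := by
      rwa [map_eq_bot_iff_of_injective _ N.subtype_injective] at hO
    have hNK : N = K := by
      refine (eq_of_le_of_card_ge hKN ?_).symm
      have h := (MonoidHom.ker_transferSylow_isComplement' Q hQ).card_mul_card
      rw [show Nat.card (MonoidHom.transferSylow Q hQ).ker = 1 from card_eq_one.2 hOb, one_mul] at h
      rw [← h]
      exact (Nat.card_congr (subgroupOfEquivOfLe hKN).toEquiv).le
    -- `N` of order `p` is central
    haveI := hNn
    have hC : centralizer (N : Set G) = ⊤ := by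
      refine hres _ inferInstance ?_
      refine Nat.Coprime.coprime_dvd_left (index_dvd_of_le (hNK ▸ hPC)) ?_
      exact (hpp.coprime_iff_not_dvd.2 P.not_dvd_index).symm
    intro g hg
    exact mem_center_iff.2 fun h => (mem_centralizer_iff.1 (hC.ge (mem_top h)) g hg).symm
  -- `P` is not the whole group
  have hPtop : ¬ (P : Subgroup G) = ⊤ := by
    intro h
    obtain ⟨t, -, ht⟩ := Cfsg.Lib.MaxClassSelfCent.exists_card_centralizer_sq hP hn hmax
      (K := (⊥ : Subgroup (P : Subgroup G))) (fun e => by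
        haveI : Nontrivial (P : Subgroup G) := Finite.one_lt_card_iff_nontrivial.1 (by
          rw [hP]; exact Nat.one_lt_pow (by omega) hpp.one_lt)
        exact bot_ne_top e)
    rw [hcard] at ht
    refine hexact t t.2 ht fun h3 => ?_
    have h' : (P : Subgroup G) ⊓ centralizer ({(t : G)} : Set G) = centralizer ({(t : G)} : Set G) := by
      exact inf_eq_right.2 (le_top.trans h.ge)
    rw [h'] at ht
    rw [ht] at h3
    exact absurd (Nat.le_of_dvd (pow_pos hpp.pos 2) h3) (Nat.pow_lt_pow_right hpp.one_lt (by norm_num)).not_ge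
  have hcne : center G ≠ ⊤ := fun h => by
    apply Cfsg.Lib.MaxClass.not_comm (X := (P : Subgroup G)) hn3 hmax
    intro a b
    exact Subtype.ext (mem_center_iff.1 (h.ge (mem_top (b : G))) a)
  have hperf : _root_.commutator G = ⊤ := by
    by_contra hne
    have hc := hmain _ inferInstance hne
    set M := (P : Subgroup G) ⊔ _root_.commutator G with hM
    have hMn : M.Normal := ⟨fun m hm g => by
      have h1 : ⁅g, m⁆ ∈ _root_.commutator G := commutator_mem_commutator (mem_top g) (mem_top m)
      have h2 := M.mul_mem ((le_sup_right : _root_.commutator G ≤ M) h1) hm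
      rwa [show ⁅g, m⁆ * m = g * m * g⁻¹ by rw [commutatorElement_def]; group] at h2⟩
    have hMtop : M = ⊤ := hres M hMn (Nat.Coprime.coprime_dvd_left (index_dvd_of_le le_sup_left)
      (hpp.coprime_iff_not_dvd.2 P.not_dvd_index).symm)
    have hPn : (P : Subgroup G).Normal := ⟨fun x hx g => by
      have hg : g ∈ (P : Subgroup G) ⊔ _root_.commutator G := hMtop.ge (mem_top g)
      obtain ⟨u, hu, v, hv, rfl⟩ := mem_sup_of_normal_right.1 hg
      have hv' := mem_center_iff.1 (hc hv) x
      rw [show u * v * x * (u * v)⁻¹ = u * (v * x * v⁻¹) * u⁻¹ by group, ← hv', mul_inv_cancel_right]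
      exact Subgroup.mul_mem _ (Subgroup.mul_mem _ hu hx) (Subgroup.inv_mem _ hu)⟩
    exact hPtop (hres _ hPn (hpp.coprime_iff_not_dvd.2 P.not_dvd_index).symm)
  refine ⟨⟨⟨hperf⟩, ?_⟩, ?_⟩
  · haveI : Nontrivial (G ⧸ center G) := QuotientGroup.nontrivial_iff.2 hcne
    refine ⟨fun N' hN' => ?_⟩
    set π := QuotientGroup.mk' (center G)
    by_cases h : N'.comap π = ⊤
    · right
      rw [← map_comap_eq_self_of_surjective (QuotientGroup.mk'_surjective (center G)) N']
      rw [h, map_top_of_surjective _ (QuotientGroup.mk'_surjective _)]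
    · left
      have h1 := hmain _ (hN'.comap π) h
      rw [← map_comap_eq_self_of_surjective (QuotientGroup.mk'_surjective (center G)) N',
        Subgroup.map_eq_bot_iff, QuotientGroup.ker_mk']
      exact h1
  · -- the centre
    haveI hZn : (center G).Normal := inferInstance
    have hZpg : IsPGroup p (center G) := by
      rw [IsPGroup.iff_card]
      refine ⟨(Nat.card (center G)).primeFactorsList.length, Nat.eq_prime_pow_of_unique_prime_dvd
        Nat.card_pos.ne' fun {q} hq hdvd => ?_⟩
      by_contra hne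
      haveI := Fact.mk hq
      obtain ⟨z, hz⟩ := exists_prime_orderOf_dvd_card' q hdvd
      have hzn : (zpowers (z : G)).Normal := ⟨fun w hw g => by
        rw [mem_center_iff.1 (zpowers_le.2 z.2 hw) g, mul_inv_cancel_right]; exact hw⟩
      have := hcore' _ hzn (by
        rw [Nat.card_zpowers, Subgroup.orderOf_coe, hz]
        exact (Nat.coprime_primes hq hpp).2 hne)
      rw [zpowers_eq_bot] at this
      have hz1 : z = 1 := Subtype.ext this
      rw [hz1, orderOf_one] at hz
      exact hq.ne_one hz.symm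
    obtain ⟨Q, hQ⟩ := hZpg.exists_le_sylow
    obtain ⟨g, hg⟩ := MulAction.exists_smul_eq G Q P
    have hZle : center G ≤ (P : Subgroup G) := by
      intro z hz
      rw [← hg, Sylow.coe_subgroup_smul]
      refine ⟨z, hQ hz, ?_⟩
      show g * z * g⁻¹ = z
      rw [mem_center_iff.1 hz g, mul_inv_cancel_right]
    have h1 : (center G).subgroupOf P ≤ center (P : Subgroup G) := fun z hz => mem_center_iff.2 fun y =>
      Subtype.ext (mem_center_iff.1 hz y)
    calc Nat.card (center G) = Nat.card ((center G).subgroupOf (P : Subgroup G)) :=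
          (Nat.card_congr (subgroupOfEquivOfLe hZle).toEquiv).symm
      _ ≤ Nat.card (center (P : Subgroup G)) := card_le_of_le h1
      _ = p := hZP

end Cfsg.Agent.S3865
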