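import Cfsg.Statements.S3867
import Mathlib
import Cfsg.Agent.Coprime.Basic

set_option autoImplicit false
open Cfsg

namespace Cfsg.Agent.S3867

/-- Let M and N be nontrivial normal subgroups of the finite group G with M ⊓ N trivial, and let p be a prime. Writing n(X) for the number of Sylow p-subgroups of a group X, one has n(G) · n(G/MN) = n(G/M) · n(G/N). -/
theorem result {G : Type*} [Group G] [Finite G] (p : ℕ) [Fact p.Prime] (M N : Subgroup G) [M.Normal] [N.Normal] (hM : M ≠ ⊥) (hN : N ≠ ⊥) (hMN : M ⊓ N = ⊥) : Nat.card (Sylow p G) * Nat.card (Sylow p (G ⧸ (M ⊔ N))) = Nat.card (Sylow p (G ⧸ M)) * Nat.card (Sylow p (G ⧸ N)) := by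
  obtain ⟨P⟩ := (inferInstance : Nonempty (Sylow p G))
  set Np := Subgroup.normalizer ((P : Subgroup G) : Set G)
  have hcount : ∀ (K : Subgroup G) [K.Normal], Nat.card (Sylow p (G ⧸ K)) = (Np ⊔ K).index := by
    intro K _
    rw [Sylow.card_eq_index_normalizer (P.mapSurjective (QuotientGroup.mk'_surjective K))]
    change (Subgroup.normalizer (((P.mapSurjective (QuotientGroup.mk'_surjective K) : Sylow p (G ⧸ K)) :
      Subgroup (G ⧸ K)) : Set (G ⧸ K))).index = _
    rw [Sylow.coe_mapSurjective]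
    have hnm : Subgroup.normalizer ((P : Subgroup G).map (QuotientGroup.mk' K) : Set (G ⧸ K)) =
        Np.map (QuotientGroup.mk' K) := by
      refine le_antisymm (fun q hq => ?_) (Subgroup.le_normalizer_map _)
      obtain ⟨g, rfl⟩ := QuotientGroup.mk'_surjective K q
      set L := ((P : Subgroup G).map (QuotientGroup.mk' K)).comap (QuotientGroup.mk' K)
      have hPL : (P : Subgroup G) ≤ L := Subgroup.le_comap_map _ _
      have hgL : ((g • P : Sylow p G) : Subgroup G) ≤ L := by
        rintro _ ⟨u, hu, rfl⟩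
        show QuotientGroup.mk' K (g * u * g⁻¹) ∈ (P : Subgroup G).map (QuotientGroup.mk' K)
        rw [map_mul, map_mul, map_inv]
        exact (Subgroup.mem_normalizer_iff.mp hq _).mp ⟨u, hu, rfl⟩
      obtain ⟨l, hl⟩ := MulAction.exists_smul_eq L ((g • P).subtype hgL) (P.subtype hPL)
      rw [Sylow.smul_subtype] at hl
      have hn : (l : G) * g ∈ Np := by
        refine Sylow.smul_eq_iff_mem_normalizer.mp ?_
        rw [mul_smul]
        exact Sylow.subtype_injective hl
      obtain ⟨u, hu, hul⟩ := l.2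
      refine ⟨u⁻¹ * ((l : G) * g), Np.mul_mem (Np.inv_mem (Subgroup.le_normalizer hu)) hn, ?_⟩
      rw [map_mul, map_mul, map_inv, hul, inv_mul_cancel_left]
    rw [hnm, Subgroup.index_map, QuotientGroup.ker_mk',
      MonoidHom.range_eq_top.mpr (QuotientGroup.mk'_surjective K), Subgroup.index_top, mul_one]
  have hG : Nat.card (Sylow p G) = Np.index := Sylow.card_eq_index_normalizer P
  rw [hcount, hcount M, hcount N, hG]
  have hsup : ∀ X : Subgroup G, X.relIndex (X ⊔ M) = X.relIndex M := fun X => by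
    have a1 := Subgroup.relIndex_mul_relIndex (X ⊓ M) X (X ⊔ M) inf_le_left le_sup_left
    have a2 := Subgroup.relIndex_mul_relIndex (X ⊓ M) M (X ⊔ M) inf_le_right le_sup_right
    rw [Subgroup.inf_relIndex_right, Subgroup.relIndex_sup_right] at a2
    rw [Subgroup.inf_relIndex_left, ← a2, mul_comm (X.relIndex M)] at a1
    exact Nat.eq_of_mul_eq_mul_left
      (Nat.pos_of_ne_zero (Subgroup.index_ne_zero_of_finite (H := M.subgroupOf X))) a1
  have hinf : M ⊓ (Np ⊔ N) = M ⊓ Np := by
    refine le_antisymm ?_ (inf_le_inf_left M le_sup_left)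
    rintro m ⟨hm, hmN⟩
    obtain ⟨v, hv, n, hn, rfl⟩ := Subgroup.mem_sup_of_normal_right.mp hmN
    refine ⟨hm, ?_⟩
    -- `[P, m]` lies in `M ⊓ (P ⊔ N)`, a `p`-group normalised by `P`
    set W := M ⊓ ((P : Subgroup G) ⊔ N)
    have hWp : IsPGroup p W := by
      let f : W →* G ⧸ N := (QuotientGroup.mk' N).comp W.subtype
      have hf : Function.Injective f := (injective_iff_map_eq_one f).mpr fun w hw => by
        have h2 : (w : G) ∈ M ⊓ N := ⟨w.2.1, (QuotientGroup.eq_one_iff _).mp hw⟩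
        rw [hMN, Subgroup.mem_bot] at h2
        exact Subtype.ext h2
      refine IsPGroup.of_injective ((P.2.map (QuotientGroup.mk' N)))
        (f.codRestrict ((P : Subgroup G).map (QuotientGroup.mk' N)) fun w => ?_)
        ((MonoidHom.injective_codRestrict _ _ _).mpr hf)
      obtain ⟨u, hu, t, ht, e⟩ := Subgroup.mem_sup_of_normal_right.mp w.2.2
      refine ⟨u, hu, ?_⟩
      show (u : G ⧸ N) = ((w : G) : G ⧸ N)
      rw [← e, QuotientGroup.mk_mul, (QuotientGroup.eq_one_iff t).mpr ht, mul_one]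
    have hPW : (P : Subgroup G) ≤ Subgroup.normalizer (W : Set G) := by
      intro u hu
      have key : ∀ u ∈ (P : Subgroup G), ∀ w ∈ W, u * w * u⁻¹ ∈ W := fun u hu w hw =>
        ⟨‹M.Normal›.conj_mem w hw.1 u, Subgroup.mul_mem _ (Subgroup.mul_mem _ (Subgroup.mem_sup_left hu) hw.2)
          (Subgroup.inv_mem _ (Subgroup.mem_sup_left hu))⟩
      refine Subgroup.mem_normalizer_iff.mpr fun w => ⟨key u hu w, fun h => ?_⟩
      have := key u⁻¹ (Subgroup.inv_mem _ hu) _ h
      rwa [show u⁻¹ * (u * w * u⁻¹) * u⁻¹⁻¹ = w by group] at this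
    have hWP : W ≤ (P : Subgroup G) :=
      le_sup_right.trans (P.3 (IsPGroup.to_sup_of_normal_right' P.2 hWp hPW) le_sup_left).le
    have hle : Cfsg.Lib.Coprime.conjMap (v * n) (P : Subgroup G) ≤ (P : Subgroup G) := by
      rintro _ ⟨u, hu, rfl⟩
      show v * n * u * (v * n)⁻¹ ∈ (P : Subgroup G)
      have hW' : v * n * u * (v * n)⁻¹ * u⁻¹ ∈ W := by
        refine ⟨?_, ?_⟩
        · rw [show v * n * u * (v * n)⁻¹ * u⁻¹ = v * n * (u * (v * n)⁻¹ * u⁻¹) by group]
          exact M.mul_mem hm (‹M.Normal›.conj_mem _ (M.inv_mem hm) u)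
        · rw [show v * n * u * (v * n)⁻¹ * u⁻¹ =
              (v * n * v⁻¹) * (v * u * v⁻¹) * (v * n⁻¹ * v⁻¹) * u⁻¹ by group]
          refine Subgroup.mul_mem _ (Subgroup.mul_mem _ (Subgroup.mul_mem _
            (Subgroup.mem_sup_right (‹N.Normal›.conj_mem n hn v))
            (Subgroup.mem_sup_left ((Subgroup.mem_normalizer_iff.mp hv u).mp hu)))
            (Subgroup.mem_sup_right (‹N.Normal›.conj_mem _ (N.inv_mem hn) v)))
            (Subgroup.mem_sup_left (Subgroup.inv_mem _ hu))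
      have := Subgroup.mul_mem (P : Subgroup G) (hWP hW') hu
      rwa [inv_mul_cancel_right] at this
    exact Cfsg.Lib.Coprime.conjMap_eq_self_iff.mp
      (Cfsg.Lib.Coprime.eq_of_le_of_card_eq hle (Cfsg.Lib.Coprime.card_conjMap _ _))
  have h2 : (Np ⊔ N).relIndex M = Np.relIndex M := by
    rw [← Subgroup.inf_relIndex_right, inf_comm, hinf, inf_comm, Subgroup.inf_relIndex_right]
  have e1 : Np.relIndex M = Np.relIndex (Np ⊔ M) := (hsup Np).symm
  have hd := Subgroup.relIndex_mul_index (show Np ≤ Np ⊔ M from le_sup_left)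
  have hd2 := Subgroup.relIndex_mul_index (show Np ⊔ N ≤ Np ⊔ (M ⊔ N) from sup_le le_sup_left (le_sup_right.trans le_sup_right))
  have e2 : (Np ⊔ N).relIndex (Np ⊔ (M ⊔ N)) = Np.relIndex M := by
    rw [← h2, show Np ⊔ (M ⊔ N) = (Np ⊔ N) ⊔ M by rw [sup_comm M N, sup_assoc], hsup]
  rw [← hd, ← hd2, e2, ← e1]
  ring

end Cfsg.Agent.S3867
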