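import Cfsg.Statements.S3870


set_option autoImplicit false
open Cfsg

namespace Cfsg.Agent.S3870

/-- Let G be a finite simple group whose Sylow p-subgroups are not normal but such that every proper subgroup of G has a normal Sylow p-subgroup. Then any two distinct Sylow p-subgroups of G intersect trivially, and for every Sylow p-subgroup P the normalizer of every non-identity subgroup of P lies in the normalizer of P. -/
theorem result {G : Type*} [Group G] [Finite G] [IsSimpleGroup G] {p : ℕ} [Fact p.Prime]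
    (hnc : ¬ Cfsg.IsPClosed p G) (hsub : ∀ H : Subgroup G, H ≠ ⊤ → Cfsg.IsPClosed p ↥H) :
    (∀ P Q : Sylow p G, P ≠ Q → (P : Subgroup G) ⊓ (Q : Subgroup G) = ⊥) ∧
      ∀ (P : Sylow p G) (R : Subgroup G), R ≤ P → R ≠ ⊥ →
        Subgroup.normalizer (R : Set G) ≤ Subgroup.normalizer ((P : Subgroup G) : Set G) := by
  have hp : p.Prime := Fact.out
  have pgrp : ∀ {H : Subgroup G}, H ≠ ⊤ → ∀ {A B : Subgroup G}, A ≤ H → B ≤ H →
      IsPGroup p A → IsPGroup p B → ∃ T : Subgroup G, IsPGroup p T ∧ A ≤ T ∧ B ≤ T := by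
    intro H hH A B hA hB pA pB
    obtain ⟨S⟩ : Nonempty (Sylow p H) := inferInstance
    have hn := hsub H hH S
    have hle : ∀ {A : Subgroup G}, A ≤ H → IsPGroup p A →
        A ≤ (S : Subgroup H).map H.subtype := by
      intro A hA pA x hx
      obtain ⟨S', hS'⟩ := (pA.comap_of_injective H.subtype H.subtype_injective).exists_le_sylow
      have := Sylow.unique_of_normal S hn
      have : S' = S := Subsingleton.elim _ _
      subst this
      exact ⟨⟨x, hA hx⟩, hS' (show (⟨x, hA hx⟩ : H) ∈ A.comap H.subtype from hx), rfl⟩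
    exact ⟨_, S.2.map H.subtype, hle hA pA, hle hB pB⟩
  have notN : ∀ R : Subgroup G, R ≠ ⊥ → IsPGroup p R → Subgroup.normalizer (R : Set G) ≠ ⊤ := by
    intro R hR pR htop
    have hn : R.Normal := Subgroup.normalizer_eq_top_iff.mp htop
    rcases hn.eq_bot_or_eq_top with h | h
    · exact hR h
    · refine hnc fun P => ?_
      have : (P : Subgroup G) = ⊤ := (P.3 (h ▸ pR) le_top).symm
      rw [this]; infer_instance
  have grow : ∀ (P : Sylow p G) (D : Subgroup G), D < (P : Subgroup G) →
      D < (P : Subgroup G) ⊓ Subgroup.normalizer (D : Set G) := by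
    intro P D hlt
    refine lt_of_le_of_ne (le_inf hlt.le Subgroup.le_normalizer) fun he => ?_
    have hP : Group.IsNilpotent (P : Subgroup G) := P.2.isNilpotent
    have hD' : D.subgroupOf (P : Subgroup G) < ⊤ := lt_top_iff_ne_top.mpr fun h =>
      lt_irrefl D (lt_of_lt_of_le hlt (Subgroup.subgroupOf_eq_top.mp h))
    have h := Group.normalizerCondition_of_isNilpotent _ hD'
    rw [← Subgroup.subgroupOf_normalizer_eq hlt.le] at h
    refine h.ne ?_
    ext z
    simp only [Subgroup.mem_subgroupOf]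
    refine ⟨fun hz => Subgroup.le_normalizer hz, fun hz => ?_⟩
    rw [he]; exact ⟨z.2, hz⟩
  have hTI : ∀ (n : ℕ) (P Q : Sylow p G), P ≠ Q →
      Nat.card G - Nat.card ↥((P : Subgroup G) ⊓ (Q : Subgroup G)) = n →
        (P : Subgroup G) ⊓ (Q : Subgroup G) = ⊥ := by
    intro n
    induction n using Nat.strong_induction_on with
    | _ n ih =>
    intro P Q hPQ hn
    by_contra hD
    set D := (P : Subgroup G) ⊓ (Q : Subgroup G) with hDdef
    have hDP : D < (P : Subgroup G) := lt_of_le_of_ne inf_le_left fun e =>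
      hPQ (Sylow.ext (P.3 Q.2 (e ▸ inf_le_right : (P : Subgroup G) ≤ Q)).symm)
    have hDQ : D < (Q : Subgroup G) := lt_of_le_of_ne inf_le_right fun e =>
      hPQ (Sylow.ext (Q.3 P.2 (e ▸ inf_le_left : (Q : Subgroup G) ≤ P)))
    have pD : IsPGroup p D := P.2.to_le inf_le_left
    obtain ⟨T, pT, hT1, hT2⟩ := pgrp (notN D hD pD)
      (inf_le_right : (P : Subgroup G) ⊓ Subgroup.normalizer (D : Set G) ≤ _)
      (inf_le_right : (Q : Subgroup G) ⊓ Subgroup.normalizer (D : Set G) ≤ _)
      (P.2.to_le inf_le_left) (Q.2.to_le inf_le_left)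
    obtain ⟨R, hR⟩ := pT.exists_le_sylow
    have key : ∀ S : Sylow p G, D < (S : Subgroup G) →
        (S : Subgroup G) ⊓ Subgroup.normalizer (D : Set G) ≤ T → S = R := by
      intro S hDS hST
      by_contra hSR
      have hbig : D < (S : Subgroup G) ⊓ (R : Subgroup G) :=
        lt_of_lt_of_le (grow S D hDS) (le_inf inf_le_left (hST.trans hR))
      have hcard : Nat.card D < Nat.card ↥((S : Subgroup G) ⊓ (R : Subgroup G)) := by
        refine lt_of_le_of_ne (Nat.le_of_dvd Nat.card_pos (Subgroup.card_dvd_of_le hbig.le)) fun e =>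
          hbig.ne (Subgroup.eq_of_le_of_card_ge hbig.le e.ge)
      have hG : Nat.card ↥((S : Subgroup G) ⊓ (R : Subgroup G)) ≤ Nat.card G :=
        Nat.le_of_dvd Nat.card_pos (Subgroup.card_subgroup_dvd_card _)
      have := ih _ (by omega) S R hSR rfl
      exact hD (eq_bot_iff.mpr (this ▸ hbig.le))
    exact hPQ ((key P hDP hT1).trans (key Q hDQ hT2).symm)
  refine ⟨fun P Q hPQ => hTI _ P Q hPQ rfl, fun P R hRP hR g hg => ?_⟩
  rw [Subgroup.mem_normalizer_iff] at hg
  by_contra hgN
  have hne : g • P ≠ P := fun e => hgN (Sylow.smul_eq_iff_mem_normalizer.mp e)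
  refine hR (eq_bot_iff.mpr ((le_inf hRP ?_).trans (hTI _ P (g • P) (Ne.symm hne) rfl).le))
  intro r hr
  refine ⟨g⁻¹ * r * g, hRP ((hg (g⁻¹ * r * g)).mpr (by simpa [mul_assoc] using hr)), ?_⟩
  show g * (g⁻¹ * r * g) * g⁻¹ = r
  group

end Cfsg.Agent.S3870
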