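import Cfsg.Statements.S3872
import Cfsg.Agent.PGroups.Regular
import Cfsg.Agent.PGroups.HallPetrescu

set_option autoImplicit false
open Cfsg

namespace Cfsg.Agent.S3872

open scoped commutatorElement


/-- Say that a finite group is p-exponent closed when its elements of order dividing p form a subgroup. Let G be a finite p-group that is not p-exponent closed, but all of whose proper subgroups and proper quotients are. Then G is generated by two elements, has nilpotency class at least p, has exponent p², has cyclic center, and has order at least p^(p+1). -/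
theorem result {G : Type*} [Group G] [Finite G] {p : ℕ} [Fact p.Prime] (hG : IsPGroup p G)
    (hnc : ¬ (∃ H : Subgroup G, (H : Set G) = {g : G | g ^ p = 1})) (hsub : ∀ K : Subgroup G, K ≠ ⊤ → (∃ H : Subgroup ↥K, (H : Set ↥K) = {g : ↥K | g ^ p = 1}))
    (hquo : ∀ (N : Subgroup G) [N.Normal], N ≠ ⊥ → (∃ H : Subgroup (G ⧸ N), (H : Set (G ⧸ N)) = {g : (G ⧸ N) | g ^ p = 1})) :
    (∃ x y : G, Subgroup.closure ({x, y} : Set G) = ⊤) ∧ (⊤ : Subgroup G).lowerCentralSeries (p - 1) ≠ ⊥ ∧
      Monoid.exponent G = p ^ 2 ∧ IsCyclic ↥(Subgroup.center G) ∧ p ^ (p + 1) ≤ Nat.card G := by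
  classical
  have hp : p.Prime := Fact.out
  haveI : Group.IsNilpotent G := hG.isNilpotent
  obtain ⟨x, y, hx, hy, hxy⟩ : ∃ x y : G, x ^ p = 1 ∧ y ^ p = 1 ∧ (x * y) ^ p ≠ 1 := by
    by_contra h
    push_neg at h
    exact hnc ⟨{ carrier := {g : G | g ^ p = 1}
                 one_mem' := one_pow _
                 mul_mem' := fun {a b} ha hb => h a b ha hb
                 inv_mem' := fun {a} ha => by simpa [inv_pow] using ha }, rfl⟩
  set K := Subgroup.closure ({x, y} : Set G) with hK
  have hxK : x ∈ K := Subgroup.subset_closure (Set.mem_insert _ _)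
  have hyK : y ∈ K := Subgroup.subset_closure (Set.mem_insert_of_mem _ rfl)
  have hKtop : K = ⊤ := by
    by_contra hne
    obtain ⟨H, hH⟩ := hsub K hne
    have m : ∀ u : ↥K, u ∈ H ↔ u ^ p = 1 := fun u => by rw [← SetLike.mem_coe, hH]; rfl
    have h1 := (m (⟨x, hxK⟩ * ⟨y, hyK⟩)).1 (mul_mem ((m _).2 (Subtype.ext (by simpa using hx))) ((m _).2 (Subtype.ext (by simpa using hy))))
    exact hxy (by simpa using congrArg (Subtype.val) h1)
  haveI : Nontrivial G := ⟨⟨(x * y) ^ p, 1, hxy⟩⟩
  set w := (x * y) ^ p with hw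
  have hall : ∀ N : Subgroup G, N.Normal → N ≠ ⊥ → ∀ g : G, g ^ p ∈ N := by
    intro N hNn hN g
    haveI := hNn
    obtain ⟨H, hH⟩ := hquo N hN
    have m : ∀ u : G ⧸ N, u ∈ H ↔ u ^ p = 1 := fun u => by rw [← SetLike.mem_coe, hH]; rfl
    have hle : K ≤ H.comap (QuotientGroup.mk' N) := (Subgroup.closure_le _).2 <| by
      rintro u (rfl | rfl)
      · show QuotientGroup.mk' N u ∈ H
        rw [m, ← map_pow, hx, map_one]
      · show QuotientGroup.mk' N u ∈ H
        rw [m, ← map_pow, hy, map_one]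
    rw [hKtop] at hle
    have h1 := (m _).1 (hle (Subgroup.mem_top g))
    rw [← map_pow] at h1
    exact (QuotientGroup.eq_one_iff _).1 h1
  have hnorm : ∀ z ∈ Subgroup.center G, (Subgroup.zpowers z).Normal := fun z hz =>
    ⟨fun a ha g => by
      obtain ⟨k, rfl⟩ := ha
      have : g * z ^ k = z ^ k * g := Subgroup.mem_center_iff.1 (zpow_mem hz k) g
      show g * z ^ k * g⁻¹ ∈ _
      rw [this, mul_inv_cancel_right]; exact Subgroup.zpow_mem_zpowers z k⟩
  haveI : Nontrivial ↥(Subgroup.center G) := hG.center_nontrivial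
  obtain ⟨z₀, hz₀⟩ := exists_prime_orderOf_dvd_card' (G := ↥(Subgroup.center G)) p <| by
    obtain ⟨n, hn0, hn⟩ := (hG.to_subgroup (Subgroup.center G)).nontrivial_iff_card.1 inferInstance
    rw [hn]; exact dvd_pow_self p (by omega)
  rw [← Subgroup.orderOf_coe] at hz₀
  have hord : ∀ z ∈ Subgroup.center G, z ≠ 1 → z ^ p = 1 → Subgroup.zpowers z = Subgroup.zpowers w := by
    intro z hz hz1 hzp
    have hoz : orderOf z = p := orderOf_eq_prime hzp hz1
    have h1 : w ∈ Subgroup.zpowers z := hall _ (hnorm z hz) (by simpa using hz1) (x * y)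
    refine (Subgroup.eq_of_le_of_card_ge ((Subgroup.zpowers_le).2 h1) ?_).symm
    rw [Nat.card_zpowers, Nat.card_zpowers, hoz]
    have hdvd : orderOf w ∣ p := by
      rw [← hoz]; obtain ⟨k, hk⟩ := h1; rw [← hk]; exact orderOf_dvd_of_pow_eq_one (by rw [← zpow_natCast, ← zpow_mul, mul_comm, zpow_mul, zpow_natCast, pow_orderOf_eq_one, one_zpow])
    rcases (Nat.dvd_prime hp).1 hdvd with h | h
    · exact absurd (orderOf_eq_one_iff.1 h) hxy
    · omega
  have hz₀1 : (z₀ : G) ≠ 1 := fun h => by rw [h, orderOf_one] at hz₀; exact hp.one_lt.ne hz₀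
  have hz₀p : (z₀ : G) ^ p = 1 := by rw [← hz₀]; exact pow_orderOf_eq_one _
  have hwz : Subgroup.zpowers (z₀ : G) = Subgroup.zpowers w := hord _ z₀.2 hz₀1 hz₀p
  have hgw : ∀ g : G, g ^ p ∈ Subgroup.zpowers w := fun g => by
    rw [← hwz]; exact hall _ (hnorm _ z₀.2) (by simpa using hz₀1) g
  have hsq : ∀ g : G, g ^ p ^ 2 = 1 := by
    intro g
    have h1 : g ^ p ∈ Subgroup.zpowers (z₀ : G) := hwz ▸ hgw g
    obtain ⟨k, hk⟩ := h1
    rw [pow_two, pow_mul, ← hk, ← zpow_natCast, ← zpow_mul, mul_comm, zpow_mul, zpow_natCast, hz₀p, one_zpow]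
  have hcl : (⊤ : Subgroup G).lowerCentralSeries (p - 1) ≠ ⊥ := by
    intro h
    obtain ⟨H, -, hH⟩ := Cfsg.Lib.PGroups.Regular.exists_omega (Cfsg.Lib.PGroups.HallPetrescu.isRegular_of_class_lt hG h) 1
    exact hnc ⟨H, by simpa using hH⟩
  refine ⟨⟨x, y, hKtop⟩, hcl, ?_, ?_, ?_⟩
  · obtain ⟨j, hj, hje⟩ := (Nat.dvd_prime_pow hp).1 (Monoid.exponent_dvd_of_forall_pow_eq_one hsq)
    interval_cases j
    · exact absurd (by simpa [hje] using Monoid.pow_exponent_eq_one (x * y)) (fun h : x * y = 1 => hxy (by simp [hw, h]))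
    · exact absurd (by simpa [hje] using Monoid.pow_exponent_eq_one (x * y)) hxy
    · exact hje
  · by_cases hc : ∀ z ∈ Subgroup.center G, z ^ p = 1
    · have : Subgroup.center G = Subgroup.zpowers w := by
        refine le_antisymm (fun z hz => ?_) (hwz ▸ Subgroup.zpowers_le.2 z₀.2)
        by_cases hz1 : z = 1
        · rw [hz1]; exact one_mem _
        · rw [← hord z hz hz1 (hc z hz)]; exact Subgroup.mem_zpowers z
      rw [this]; exact Subgroup.isCyclic_zpowers w
    · push_neg at hc
      obtain ⟨z, hz, hzp⟩ := hc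
      have hzw : Subgroup.zpowers (z ^ p) = Subgroup.zpowers w :=
        hord _ (pow_mem hz p) hzp (by rw [← pow_mul, ← pow_two]; exact hsq z)
      have : Subgroup.center G = Subgroup.zpowers z := by
        refine le_antisymm (fun u hu => ?_) (Subgroup.zpowers_le.2 hz)
        have h1 : u ^ p ∈ Subgroup.zpowers (z ^ p) := hzw ▸ hgw u
        obtain ⟨k, hk⟩ := h1
        have hv : (u * (z ^ k)⁻¹) ^ p = 1 := by
          have hc : Commute u (z ^ k)⁻¹ := (Subgroup.mem_center_iff.1 (inv_mem (zpow_mem hz k)) u)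
          rw [hc.mul_pow, inv_pow, ← zpow_natCast (z ^ k) p, ← zpow_mul, mul_comm, zpow_mul, zpow_natCast, ← hk, mul_inv_cancel]
        have hmem : u * (z ^ k)⁻¹ ∈ Subgroup.zpowers z := by
          by_cases hv1 : u * (z ^ k)⁻¹ = 1
          · rw [hv1]; exact one_mem _
          · have h2 := hord _ (mul_mem hu (inv_mem (zpow_mem hz k))) hv1 hv
            have h3 : u * (z ^ k)⁻¹ ∈ Subgroup.zpowers (z ^ p) := by rw [hzw, ← h2]; exact Subgroup.mem_zpowers _
            exact Subgroup.zpowers_le.2 (pow_mem (Subgroup.mem_zpowers z) p) h3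
        simpa using mul_mem hmem (Subgroup.zpow_mem_zpowers z k)
      rw [this]; exact Subgroup.isCyclic_zpowers z
  · set γ := (⊤ : Subgroup G).lowerCentralSeries with hγ
    have hanti := (⊤ : Subgroup G).lowerCentralSeries_antitone
    obtain ⟨c, hc⟩ := Subgroup.nilpotent_iff_lowerCentralSeries.1 (inferInstance : Group.IsNilpotent G)
    have hne : ∀ i ≤ p - 1, γ i ≠ ⊥ := fun i hi h => hcl (le_bot_iff.1 (h ▸ hanti hi))
    have hlt : ∀ i, γ i ≠ ⊥ → γ (i + 1) < γ i := by
      intro i hi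
      refine lt_of_le_of_ne (hanti (Nat.le_succ i)) fun heq => hi ?_
      have hst : ∀ k, γ (i + k) = γ i := by
        intro k
        induction k with
        | zero => rfl
        | succ k ih => show ⁅γ (i + k), ⊤⁆ = γ i; rw [ih]; exact heq
      exact le_bot_iff.1 ((hst c).symm.le.trans (hc ▸ hanti (Nat.le_add_left c i)))
    have hcard : ∀ i ≤ p - 1, p ^ i * p ≤ Nat.card ↥(γ (p - 1 - i)) := by
      intro i
      induction i with
      | zero =>
        intro _
        obtain ⟨n, hn⟩ := IsPGroup.iff_card.1 (hG.to_subgroup (γ (p - 1 - 0)))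
        have : n ≠ 0 := by rintro rfl; exact hne (p - 1 - 0) (by omega) (Subgroup.eq_bot_of_card_eq _ (by simpa using hn))
        rw [hn, pow_zero, one_mul]; exact Nat.le_self_pow this p
      | succ i ih =>
        intro hi
        have h := hlt (p - 1 - (i + 1)) (hne _ (by omega))
        rw [show p - 1 - (i + 1) + 1 = p - 1 - i by omega] at h
        obtain ⟨k, hk⟩ := (hG.to_subgroup _).index ((γ (p - 1 - i)).subgroupOf (γ (p - 1 - (i + 1))))
        have hk0 : k ≠ 0 := by
          rintro rfl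
          exact h.not_ge (Subgroup.relIndex_eq_one.1 (by simpa using hk))
        rw [← Subgroup.card_mul_index ((γ (p - 1 - i)).subgroupOf (γ (p - 1 - (i + 1)))),
          Nat.card_congr (Subgroup.subgroupOfEquivOfLe h.le).toEquiv, hk, pow_succ (n := i), mul_right_comm]
        exact Nat.mul_le_mul (ih (by omega)) (Nat.le_self_pow hk0 p)
    have h2 := hp.two_le
    have hD := hcard (p - 2) (by omega)
    rw [show p - 1 - (p - 2) = 1 by omega] at hD
    obtain ⟨k, hk⟩ := hG.index (γ 1)
    have hk2 : 2 ≤ k := by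
      by_contra hcon
      haveI : (γ 1).Normal := by infer_instance
      have hcyc : IsCyclic (G ⧸ γ 1) := by
        interval_cases k
        · haveI : Subsingleton (G ⧸ γ 1) := (Nat.card_eq_one_iff_unique.1 (by rw [← Subgroup.index_eq_card, hk, pow_zero])).1
          exact isCyclic_of_subsingleton
        · exact isCyclic_of_prime_card (p := p) (by rw [← Subgroup.index_eq_card, hk, pow_one])
      obtain ⟨g, hg⟩ := hcyc.exists_zpow_surjective (G := G ⧸ γ 1)
      obtain ⟨g, rfl⟩ := QuotientGroup.mk_surjective g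
      have htop : Subgroup.zpowers g ⊔ ⁅(⊤ : Subgroup G), ⊤⁆ = ⊤ := by
        rw [eq_top_iff]
        intro u _
        obtain ⟨j, hj⟩ := hg (QuotientGroup.mk u)
        have hj' : (QuotientGroup.mk (g ^ j) : G ⧸ γ 1) = QuotientGroup.mk u := hj
        rw [show u = g ^ j * ((g ^ j)⁻¹ * u) by group]
        exact Subgroup.mul_mem_sup (Subgroup.zpow_mem_zpowers g j) (QuotientGroup.eq.1 hj')
      have hcyc2 := Cfsg.Lib.PGroups.Regular.eq_of_sup_commutator hG le_top htop
      refine hne 1 (by omega) ?_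
      show ⁅(⊤ : Subgroup G), ⊤⁆ = ⊥
      rw [← hcyc2, Subgroup.commutator_eq_bot_iff_le_centralizer]
      rintro _ ⟨a, rfl⟩ _ ⟨b, rfl⟩
      show g ^ b * g ^ a = g ^ a * g ^ b
      rw [← zpow_add, ← zpow_add, add_comm]
    rw [← Subgroup.card_mul_index (γ 1), hk, show p + 1 = p - 2 + 1 + 2 by omega, pow_add, pow_succ]
    exact Nat.mul_le_mul hD (Nat.pow_le_pow_right hp.pos hk2)

end Cfsg.Agent.S3872
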