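import Cfsg.Statements.S3873
import Cfsg.Agent.SolvStruct.MinimalNonClosed

set_option autoImplicit false
open Cfsg

namespace Cfsg.Agent.S3873

theorem omega_of_isPClosed {Γ : Type*} [Group Γ] [Finite Γ] {p : ℕ} [Fact p.Prime]
    (hexp : ∀ (g : Γ) (k : ℕ), g ^ p ^ k = 1 → g ^ p = 1) (hc : Cfsg.IsPClosed p Γ) :
    ∃ H : Subgroup Γ, (H : Set Γ) = {g : Γ | g ^ p = 1} := by
  obtain ⟨P⟩ := (inferInstance : Nonempty (Sylow p Γ))
  haveI := Sylow.unique_of_normal P (hc P)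
  refine ⟨P, Set.ext fun x => ⟨fun hx => ?_, fun hx => ?_⟩⟩
  · obtain ⟨k, hk⟩ := P.2 ⟨x, hx⟩
    exact hexp x k (congrArg Subtype.val hk)
  · have hz : IsPGroup p (Subgroup.zpowers x) := by
      rintro ⟨y, i, rfl⟩
      refine ⟨1, Subtype.ext ?_⟩
      show (x ^ i) ^ (p ^ 1) = 1
      rw [pow_one, ← zpow_natCast, ← zpow_mul, mul_comm, zpow_mul, zpow_natCast,
        show x ^ p = 1 from hx, one_zpow]
    obtain ⟨Q, hQ⟩ := hz.exists_le_sylow
    exact Subsingleton.elim Q P ▸ hQ (Subgroup.mem_zpowers x)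

theorem isPClosed_of_omega {Γ : Type*} [Group Γ] [Finite Γ] {p : ℕ} [Fact p.Prime]
    (hexp : ∀ (g : Γ) (k : ℕ), g ^ p ^ k = 1 → g ^ p = 1)
    (h : ∃ H : Subgroup Γ, (H : Set Γ) = {g : Γ | g ^ p = 1}) : Cfsg.IsPClosed p Γ := by
  obtain ⟨H, hH⟩ := h
  have hHn : H.Normal := ⟨fun a ha g => by
    rw [← SetLike.mem_coe, hH, Set.mem_setOf_eq] at ha ⊢
    rw [conj_pow, ha]; group⟩
  intro P
  have hHp : IsPGroup p H := fun a => ⟨1, by
    rw [pow_one]
    exact Subtype.ext (by have := a.2; rwa [← SetLike.mem_coe, hH, Set.mem_setOf_eq] at this)⟩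
  have hPH : (P : Subgroup Γ) ≤ H := fun x hx => by
    obtain ⟨k, hk⟩ := P.2 ⟨x, hx⟩
    rw [← SetLike.mem_coe, hH]
    exact hexp x k (congrArg Subtype.val hk)
  exact P.3 hHp hPH ▸ hHn



/-- Say that a finite group is p-exponent closed when its elements of order dividing p form a subgroup. Let G be a finite group that is not p-exponent closed, but all of whose proper subgroups and proper quotients are, and suppose G is neither simple nor a p-group. Then there is a prime q ≠ p such that G has order p · q^e, where e is the multiplicative order of q modulo p, and G has a normal elementary abelian subgroup of order q^e that is a minimal normal subgroup of G. -/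
theorem result {G : Type*} [Group G] [Finite G] {p : ℕ} [Fact p.Prime]
    (hnc : ¬ (∃ H : Subgroup G, (H : Set G) = {g : G | g ^ p = 1})) (hsub : ∀ K : Subgroup G, K ≠ ⊤ → (∃ H : Subgroup ↥K, (H : Set ↥K) = {g : ↥K | g ^ p = 1}))
    (hquo : ∀ (N : Subgroup G) [N.Normal], N ≠ ⊥ → (∃ H : Subgroup (G ⧸ N), (H : Set (G ⧸ N)) = {g : (G ⧸ N) | g ^ p = 1}))
    (hns : ¬ IsSimpleGroup G) (hnp : ¬ IsPGroup p G) :
    ∃ q : ℕ, q.Prime ∧ q ≠ p ∧ Nat.card G = p * q ^ orderOf (q : ZMod p) ∧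
      ∃ A : Subgroup G, A.Normal ∧ Nat.card ↥A = q ^ orderOf (q : ZMod p) ∧ Cfsg.IsElementaryAbelian q A ∧
        ∀ B : Subgroup G, B.Normal → B ≤ A → B = ⊥ ∨ B = A := by
  classical
  have hp : p.Prime := Fact.out
  haveI : Nontrivial G := by
    by_contra h
    rw [not_nontrivial_iff_subsingleton] at h
    exact hnp fun g => ⟨0, Subsingleton.elim _ _⟩
  obtain ⟨N₀, hN₀n, hN₀b, hN₀t⟩ : ∃ N : Subgroup G, N.Normal ∧ N ≠ ⊥ ∧ N ≠ ⊤ := by
    by_contra h
    push Not at h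
    exact hns { eq_bot_or_eq_top_of_normal := fun N hN => by
                  by_cases hb : N = ⊥
                  · exact Or.inl hb
                  · exact Or.inr (h N hN hb) }
  obtain ⟨N, hNle, hN⟩ := exists_minimal_le_of_wellFoundedLT
    (fun N : Subgroup G => N.Normal ∧ N ≠ ⊥) N₀ ⟨hN₀n, hN₀b⟩
  haveI := hN.1.1
  have hNb := hN.1.2
  have hNt : N ≠ ⊤ := fun h => hN₀t (top_le_iff.1 (h ▸ hNle))
  -- the quotient by `N` has exponent `p`
  obtain ⟨W₀, hW₀⟩ := hquo N hNb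
  have hW : ∀ g : G, g ^ p ∈ N := by
    by_contra hne
    push Not at hne
    obtain ⟨g, hg⟩ := hne
    have hWt : W₀.comap (QuotientGroup.mk' N) ≠ ⊤ := fun h => by
      have h1 : (g : G ⧸ N) ∈ (W₀ : Set (G ⧸ N)) :=
        (show g ∈ W₀.comap (QuotientGroup.mk' N) from h ▸ Subgroup.mem_top g)
      rw [hW₀, Set.mem_setOf_eq, ← QuotientGroup.mk_pow] at h1
      exact hg ((QuotientGroup.eq_one_iff _).1 h1)
    obtain ⟨K, hK⟩ := hsub _ hWt
    refine hnc ⟨K.map (Subgroup.subtype _), ?_⟩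
    ext x
    constructor
    · rintro ⟨y, hy, rfl⟩
      rw [hK] at hy
      exact congrArg Subtype.val hy
    · intro hx
      have hxW : x ∈ W₀.comap (QuotientGroup.mk' N) := by
        show (x : G ⧸ N) ∈ (W₀ : Set (G ⧸ N))
        rw [hW₀, Set.mem_setOf_eq, ← QuotientGroup.mk_pow, show x ^ p = 1 from hx, QuotientGroup.mk_one]
      refine ⟨⟨x, hxW⟩, ?_, rfl⟩
      rw [hK]
      exact Subtype.ext hx
  -- `N` has no element of order `p`
  obtain ⟨K, hK⟩ := hsub N hNt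
  have hKn : (K.map N.subtype).Normal := ⟨fun a ha g => by
    obtain ⟨y, hy, rfl⟩ := ha
    refine ⟨⟨g * y * g⁻¹, hN.1.1.conj_mem y y.2 g⟩, ?_, rfl⟩
    rw [hK] at hy ⊢
    refine Subtype.ext ?_
    have hy' : (y : G) ^ p = 1 := congrArg Subtype.val hy
    show (g * (y : G) * g⁻¹) ^ p = 1
    rw [conj_pow, hy']
    group⟩
  have hK1 : ∀ a ∈ N, a ^ p = 1 → a = 1 := by
    intro a ha hap
    by_contra ha1
    have hmem : a ∈ K.map N.subtype := ⟨⟨a, ha⟩, by rw [hK]; exact Subtype.ext hap, rfl⟩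
    refine hnp fun g => ⟨2, ?_⟩
    have hKb : K.map N.subtype ≠ ⊥ := fun h => ha1 (by rwa [h, Subgroup.mem_bot] at hmem)
    obtain ⟨y, hy, hyg⟩ := hN.2 ⟨hKn, hKb⟩ (Subgroup.map_subtype_le _) (hW g)
    rw [hK] at hy
    have hy' : (y : G) ^ p = 1 := congrArg Subtype.val hy
    rw [pow_two, pow_mul, ← hyg]
    exact hy'
  have hpN : ¬ p ∣ Nat.card N := fun hd => by
    obtain ⟨z, hz⟩ := exists_prime_orderOf_dvd_card' (G := N) p hd
    rw [← Subgroup.orderOf_coe] at hz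
    rw [hK1 z z.2 (hz ▸ pow_orderOf_eq_one _), orderOf_one] at hz
    exact hp.one_lt.ne hz
  have hexp : ∀ (g : G) (k : ℕ), g ^ p ^ k = 1 → g ^ p = 1 := by
    intro g k hk
    refine orderOf_eq_one_iff.1 (Nat.eq_one_of_dvd_coprimes (k := orderOf (g ^ p))
      ((Nat.Coprime.pow_right k (hp.coprime_iff_not_dvd.2 hpN).symm)) ?_ ?_)
    · exact Subgroup.orderOf_dvd_natCard N (hW g)
    · refine orderOf_dvd_of_pow_eq_one ?_
      rw [← pow_mul, mul_comm, pow_mul, hk, one_pow]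
  have hexpQ : ∀ (M : Subgroup G) [M.Normal] (y : G ⧸ M) (k : ℕ), y ^ p ^ k = 1 → y ^ p = 1 := by
    intro M _ y k hk
    obtain ⟨g, rfl⟩ := QuotientGroup.mk_surjective y
    obtain ⟨a, m, hpm, hgo⟩ := Nat.exists_eq_pow_mul_and_not_dvd (orderOf_pos g).ne' p hp.ne_one
    have h1 : (g ^ m) ^ p = 1 := hexp (g ^ m) a (by rw [← pow_mul, mul_comm, ← hgo, pow_orderOf_eq_one])
    refine orderOf_dvd_iff_pow_eq_one.1 (Nat.Coprime.dvd_of_dvd_mul_left (n := p) ?_
      (orderOf_dvd_of_pow_eq_one (show ((g : G ⧸ M)) ^ (m * p) = 1 by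
        rw [pow_mul, ← QuotientGroup.mk_pow, ← QuotientGroup.mk_pow, h1, QuotientGroup.mk_one])))
    exact Nat.Coprime.coprime_dvd_left (orderOf_dvd_of_pow_eq_one hk)
      (Nat.Coprime.pow_left _ (hp.coprime_iff_not_dvd.2 hpm))
  refine Cfsg.Lib.MinimalNonClosed.structure_minimal (fun hc => hnc ?_) (fun H hH => ?_)
    (fun M _ hM => ?_) hns
  · exact omega_of_isPClosed hexp hc
  · exact isPClosed_of_omega (fun g k hk => Subtype.ext (hexp g k (congrArg Subtype.val hk))) (hsub H hH)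
  · exact isPClosed_of_omega (hexpQ M) (hquo M hM)

end Cfsg.Agent.S3873
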