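import Cfsg.Statements.S3875
import Cfsg.Agent.SolvStruct.BrauerOrder
import Cfsg.Agent.SolvStruct.MinimalNonClosed
import Cfsg.Agent.Classical.Misc.SmallPSL

set_option autoImplicit false
open Cfsg

namespace Cfsg.Agent.S3875


universe u

theorem lower_bound (p : ℕ) [Fact p.Prime] (hp : p ≠ 2) (m : ℕ)
    (hleast : ∀ k : ℕ, IsPrimePow k → k % p = 1 → m ≤ k) :
    ∀ (n : ℕ) (H : Type) [Group H] [Finite H], Nat.card H = n → ¬ Cfsg.IsPClosed p H →
      min (p * m) (p * (p ^ 2 - 1) / 2) ≤ n := by
  have hpp : p.Prime := Fact.out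
  intro n
  induction n using Nat.strong_induction_on with
  | _ n IH =>
    intro H _ _ hn hnc
    by_cases hsub : ∀ K : Subgroup H, K ≠ ⊤ → Cfsg.IsPClosed p ↥K
    swap
    · push Not at hsub
      obtain ⟨K, hK, hKc⟩ := hsub
      have hlt : Nat.card K < n := hn ▸ lt_of_le_of_ne K.card_le_card_group
        (fun h => hK (K.eq_top_of_card_eq h))
      exact (IH _ hlt K rfl hKc).trans hlt.le
    by_cases hquo : ∀ (N : Subgroup H) [N.Normal], N ≠ ⊥ → Cfsg.IsPClosed p (H ⧸ N)
    swap
    · push Not at hquo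
      obtain ⟨N, hN, hNb, hNc⟩ := hquo
      have hlt : Nat.card (H ⧸ N) < n := by
        rw [← Subgroup.index_eq_card, ← hn, ← N.card_mul_index]
        exact lt_mul_left (Nat.pos_of_ne_zero N.index_ne_zero_of_finite)
          (N.one_lt_card_iff_ne_bot.2 hNb)
      exact (IH _ hlt (H ⧸ N) rfl hNc).trans hlt.le
    by_cases hs : IsSimpleGroup H
    · obtain ⟨P⟩ : Nonempty (Sylow p H) := inferInstance
      have hna : ¬ IsMulCommutative H := fun h => hnc fun Q =>
        ⟨fun a ha g => by rwa [mul_comm' g a, mul_inv_cancel_right]⟩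
      have hPn : ¬ (P : Subgroup H).Normal := fun h =>
        hnc (Cfsg.Lib.MinimalNonClosed.isPClosed_of_normal_sylow P h)
      obtain ⟨v, hv⟩ := IsPGroup.iff_card.1 P.2
      rcases Nat.lt_or_ge v 2 with hv2 | hv2
      · have hP : Nat.card (P : Subgroup H) = p := by
          interval_cases v
          · exact absurd (Subgroup.card_eq_one.1 (by simpa using hv) ▸ inferInstance) hPn
          · simpa using hv
        exact (min_le_right _ _).trans (hn ▸ Cfsg.Lib.BrauerOrder.order_bound hna hp P hP)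
      · have h1 : p + 1 ≤ (Subgroup.normalizer ((P : Subgroup H) : Set H)).index := by
          have hne : (Subgroup.normalizer ((P : Subgroup H) : Set H)).index ≠ 1 := fun h =>
            hPn (Subgroup.normalizer_eq_top_iff.1 (Subgroup.index_eq_one.1 h))
          have hmod := card_sylow_modEq_one p H
          rw [P.card_eq_index_normalizer] at hmod
          have hpos := (Subgroup.normalizer ((P : Subgroup H) : Set H)).index_ne_zero_of_finite
          obtain ⟨I, hI⟩ : ∃ I, (Subgroup.normalizer ((P : Subgroup H) : Set H)).index = I := ⟨_, rfl⟩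
          have hmod' : I ≡ 1 [MOD p] := hI ▸ hmod
          rw [hI] at hne hpos ⊢
          have := Nat.le_of_dvd (show 0 < I - 1 by omega) ((Nat.modEq_iff_dvd' (by omega)).1 hmod'.symm)
          omega
        have h2 : p ^ 2 ≤ Nat.card (Subgroup.normalizer ((P : Subgroup H) : Set H)) :=
          ((Nat.pow_le_pow_right hpp.pos hv2).trans hv.ge).trans
            (Subgroup.card_le_of_le Subgroup.le_normalizer)
        have h3 := Nat.mul_le_mul h2 h1
        rw [Subgroup.card_mul_index, hn] at h3
        refine (min_le_right _ _).trans (le_trans ?_ h3)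
        refine (Nat.div_le_self _ _).trans ?_
        calc p * (p ^ 2 - 1) ≤ p * p ^ 2 := Nat.mul_le_mul_left _ (Nat.sub_le _ _)
          _ ≤ p ^ 2 * (p + 1) := by
            have : 0 ≤ p ^ 2 := Nat.zero_le _
            nlinarith
    · obtain ⟨q, hq, hqp, hcard, -⟩ :=
        Cfsg.Lib.MinimalNonClosed.structure_minimal hnc hsub hquo hs
      haveI := Fact.mk hq
      have hq0 : (q : ZMod p) ≠ 0 := fun h =>
        hqp ((Nat.prime_dvd_prime_iff_eq hpp hq).1 ((ZMod.natCast_eq_zero_iff _ _).1 h)).symm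
      have he : 0 < orderOf (q : ZMod p) := orderOf_pos_iff.2
        (isOfFinOrder_iff_pow_eq_one.2 ⟨p - 1, by have := hpp.two_le; omega,
          ZMod.pow_card_sub_one_eq_one hq0⟩)
      have h1 : q ^ orderOf (q : ZMod p) % p = 1 := by
        have h : ((q ^ orderOf (q : ZMod p) : ℕ) : ZMod p) = ((1 : ℕ) : ZMod p) := by
          rw [Nat.cast_pow, pow_orderOf_eq_one, Nat.cast_one]
        have h2 := (ZMod.natCast_eq_natCast_iff' _ _ _).1 h
        rwa [Nat.one_mod_eq_one.2 hpp.ne_one] at h2
      refine (min_le_left _ _).trans ?_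
      rw [← hn, hcard]
      exact Nat.mul_le_mul_left _ (hleast _ ((hq.isPrimePow).pow he.ne') h1)

theorem exists_semidirect (p : ℕ) [Fact p.Prime] (m : ℕ) (hm : IsPrimePow m) (hm1 : m % p = 1) :
    ∃ (H : Type) (_ : Group H) (_ : Finite H), Nat.card H = p * m ∧ ¬ Cfsg.IsPClosed p H := by
  classical
  obtain ⟨q, k, hq, hk, rfl⟩ := (isPrimePow_nat_iff m).1 hm
  haveI := Fact.mk hq
  have hF : Nat.card (GaloisField q k) = q ^ k := GaloisField.card q k hk.ne'
  haveI : Finite (GaloisField q k) :=
    Nat.finite_of_card_ne_zero (by rw [hF]; exact pow_ne_zero _ hq.ne_zero)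
  have hpd : p ∣ Nat.card (GaloisField q k)ˣ := by
    rw [Nat.card_units, hF, ← hm1]
    exact Nat.dvd_sub_mod _
  obtain ⟨u, hu⟩ := exists_prime_orderOf_dvd_card' (G := (GaloisField q k)ˣ) p hpd
  let φ : ↥(Subgroup.zpowers u) →* MulAut (Multiplicative (GaloisField q k)) :=
    { toFun := fun v => AddEquiv.toMultiplicative
        { toFun := fun a => ((v : (GaloisField q k)ˣ) : GaloisField q k) * a
          invFun := fun a => (((v : (GaloisField q k)ˣ)⁻¹ : (GaloisField q k)ˣ) : GaloisField q k) * a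
          left_inv := fun a => by beta_reduce; rw [← mul_assoc, Units.inv_mul, one_mul]
          right_inv := fun a => by beta_reduce; rw [← mul_assoc, Units.mul_inv, one_mul]
          map_add' := fun a b => mul_add _ a b }
      map_one' := MulEquiv.ext fun a => congrArg Multiplicative.ofAdd (one_mul a.toAdd)
      map_mul' := fun v w => MulEquiv.ext fun a => congrArg Multiplicative.ofAdd
        (mul_assoc ((v : (GaloisField q k)ˣ) : GaloisField q k) _ a.toAdd) }
  haveI : Finite (Multiplicative (GaloisField q k) ⋊[φ] ↥(Subgroup.zpowers u)) :=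
    Finite.of_equiv _ SemidirectProduct.equivProd.symm
  refine ⟨Multiplicative (GaloisField q k) ⋊[φ] ↥(Subgroup.zpowers u), inferInstance, inferInstance,
    ?_, ?_⟩
  · rw [SemidirectProduct.card, Nat.card_zpowers, hu, mul_comm]
    exact congrArg (p * ·) hF
  · intro hc
    set y : Multiplicative (GaloisField q k) ⋊[φ] ↥(Subgroup.zpowers u) :=
      SemidirectProduct.inr ⟨u, Subgroup.mem_zpowers u⟩ with hy
    have hyp : orderOf y = p := by
      rw [hy, orderOf_injective _ SemidirectProduct.inr_injective, Subgroup.orderOf_mk, hu]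
    obtain ⟨P, hP⟩ := (IsPGroup.of_card (n := 1) (by rw [Nat.card_zpowers, hyp, pow_one]) :
      IsPGroup p (Subgroup.zpowers y)).exists_le_sylow
    set a : Multiplicative (GaloisField q k) := Multiplicative.ofAdd 1 with ha
    set z := SemidirectProduct.inl a * y * (SemidirectProduct.inl a)⁻¹ * y⁻¹ with hz
    have hzP : z ∈ (P : Subgroup _) :=
      mul_mem ((hc P).conj_mem y (hP (Subgroup.mem_zpowers y)) _) (inv_mem (hP (Subgroup.mem_zpowers y)))
    have hzv : z = SemidirectProduct.inl (a * (φ ⟨u, Subgroup.mem_zpowers u⟩) a⁻¹) := by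
      ext <;> simp [hz, hy]
    have h1 : orderOf z = 1 := by
      obtain ⟨j, hj⟩ := IsPGroup.iff_card.1 P.2
      have hd1 : orderOf z ∣ p ^ j := hj ▸ Subgroup.orderOf_dvd_natCard _ hzP
      have hd2 : orderOf z ∣ q ^ k := by
        rw [hzv, orderOf_injective _ SemidirectProduct.inl_injective]
        exact hF ▸ orderOf_dvd_natCard _
      refine Nat.eq_one_of_dvd_coprimes (Nat.Coprime.pow_left j ?_) hd1 hd2
      refine ((Fact.out : p.Prime).coprime_iff_not_dvd).2 fun h => ?_
      rw [Nat.mod_eq_zero_of_dvd h] at hm1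
      exact zero_ne_one hm1
    rw [orderOf_eq_one_iff, hzv] at h1
    have h2 := congrArg Multiplicative.toAdd (SemidirectProduct.inl_injective (h1.trans (map_one _).symm))
    have h3 : (1 : GaloisField q k) + (u : GaloisField q k) * -1 = 0 := h2
    have h4 : u = 1 := Units.ext (by rw [Units.val_one]; linear_combination -h3)
    rw [h4, orderOf_one] at hu
    exact (Fact.out : p.Prime).ne_one hu.symm

theorem exists_linear (p : ℕ) [Fact p.Prime] (h5 : 5 ≤ p) :
    ∃ (H : Type) (_ : Group H) (_ : Finite H), Nat.card H = p * (p ^ 2 - 1) / 2 ∧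
      ¬ Cfsg.IsPClosed p H := by
  have hpp : p.Prime := Fact.out
  have hodd : Odd p := hpp.odd_of_ne_two (by omega)
  have hc := Cfsg.Lib.Classical.SmallPSL.card_psl (F := ZMod p) (q := p) (ZMod.card p)
  have hgcd : Nat.gcd 2 (p - 1) = 2 := by
    obtain ⟨r, hr⟩ := hodd
    exact Nat.gcd_eq_left ⟨r, by omega⟩
  rw [hgcd] at hc
  refine ⟨Matrix.ProjectiveSpecialLinearGroup (Fin 2) (ZMod p), inferInstance, inferInstance,
    by omega, fun hcl => ?_⟩
  haveI : IsSimpleGroup (Matrix.ProjectiveSpecialLinearGroup (Fin 2) (ZMod p)) :=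
    Matrix.ProjectiveSpecialLinearGroup.rank_two_simple (by rw [Nat.card_eq_fintype_card, ZMod.card]; omega)
  obtain ⟨P⟩ : Nonempty (Sylow p (Matrix.ProjectiveSpecialLinearGroup (Fin 2) (ZMod p))) := inferInstance
  have hcop : ¬ p ∣ p ^ 2 - 1 := fun h => by
    have h1 : p ∣ p ^ 2 := dvd_pow_self p two_ne_zero
    have h2 := Nat.dvd_sub h1 h
    rw [Nat.sub_sub_self (Nat.one_le_pow _ _ hpp.pos)] at h2
    exact hpp.not_dvd_one h2
  rcases IsSimpleGroup.eq_bot_or_eq_top_of_normal _ (hcl P) with h | h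
  · have hd : p ∣ Nat.card (Matrix.ProjectiveSpecialLinearGroup (Fin 2) (ZMod p)) :=
      (((Nat.coprime_primes hpp Nat.prime_two).2 (by omega)).dvd_of_dvd_mul_left
        (hc ▸ Dvd.intro _ rfl))
    exact P.ne_bot_of_dvd_card hd h
  · obtain ⟨j, hj⟩ := IsPGroup.iff_card.1 P.2
    rw [h, Subgroup.card_top] at hj
    have hd : p ^ 2 - 1 ∣ 2 * p ^ j := hj ▸ hc ▸ dvd_mul_left _ _
    have hd2 : p ^ 2 - 1 ∣ 2 :=
      (Nat.Coprime.pow_right j ((hpp.coprime_iff_not_dvd.2 hcop).symm)).dvd_of_dvd_mul_right hd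
    have := Nat.le_of_dvd two_pos hd2
    have : 25 ≤ p ^ 2 := Nat.pow_le_pow_left h5 2
    omega


/-- Let p be an odd prime and let m be the least prime power congruent to 1 modulo p. Then the least order of a finite group whose Sylow p-subgroups are not normal is the smaller of p · m and p(p² − 1)/2: every finite group whose Sylow p-subgroups are not normal has at least that order, and some group of exactly that order has non-normal Sylow p-subgroups. -/
theorem result (p : ℕ) [Fact p.Prime] (hp : p ≠ 2) (m : ℕ) (hm : IsPrimePow m) (hm1 : m % p = 1)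
    (hleast : ∀ k : ℕ, IsPrimePow k → k % p = 1 → m ≤ k) :
    (∀ (H : Type) [Group H] [Finite H], ¬ Cfsg.IsPClosed p H → min (p * m) (p * (p ^ 2 - 1) / 2) ≤ Nat.card H) ∧
      ∃ (H : Type) (_ : Group H) (_ : Finite H), Nat.card H = min (p * m) (p * (p ^ 2 - 1) / 2) ∧ ¬ Cfsg.IsPClosed p H := by
  have hpp : p.Prime := Fact.out
  refine ⟨fun H _ _ hnc => lower_bound p hp m hleast _ H rfl hnc, ?_⟩
  rcases le_or_gt (p * m) (p * (p ^ 2 - 1) / 2) with h | h
  · rw [min_eq_left h]
    exact exists_semidirect p m hm hm1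
  · rw [min_eq_right h.le]
    refine exists_linear p ?_
    have h2 := hpp.two_le
    by_contra h5
    push Not at h5
    interval_cases p
    · exact hp rfl
    · have := hleast 4 ((isPrimePow_nat_iff 4).2 ⟨2, 2, Nat.prime_two, two_pos, rfl⟩) rfl
      omega
    · norm_num at hpp

end Cfsg.Agent.S3875
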