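import Cfsg.Statements.S3878
import Mathlib
import Cfsg.Prelude
import Cfsg.Agent.S0675
import Cfsg.Agent.S0547
import Cfsg.Agent.Coprime.Hall
import Cfsg.Agent.Transfer.Frobenius

set_option autoImplicit false
open Cfsg

namespace Cfsg.Agent.S3878

open Subgroup Equiv

theorem two_pretransitive_even {X : Type*} [Finite X] [Nontrivial X] (H : Subgroup (Equiv.Perm X))
    (h2 : MulAction.IsMultiplyPretransitive H X 2) : 2 ∣ Nat.card H := by
  obtain ⟨a, b, hab⟩ := exists_pair_ne X
  obtain ⟨g, hga, hgb⟩ := MulAction.is_two_pretransitive_iff.1 h2 hab hab.symm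
  by_contra hodd
  have ho : (orderOf g).Coprime 2 :=
    Nat.Coprime.coprime_dvd_left (orderOf_dvd_natCard g) ((Nat.prime_two.coprime_iff_not_dvd.2 hodd).symm)
  obtain ⟨k, hk⟩ := exists_pow_eq_self_of_coprime (x := g) ho.symm
  have hfix : g ^ 2 ∈ MulAction.stabilizer H a := by
    rw [MulAction.mem_stabilizer_iff, pow_two, mul_smul, hga, hgb]
  have := pow_mem hfix k
  rw [hk, MulAction.mem_stabilizer_iff, hga] at this
  exact hab this.symm

theorem solvable_prime_degree (q : ℕ) [Fact q.Prime] (H : Subgroup (Equiv.Perm (Fin q)))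
    [MulAction.IsPretransitive H (Fin q)] [Group.IsSolvable H] : Nat.card H ∣ q * (q - 1) := by
  have hq : q.Prime := Fact.out
  haveI : NeZero q := ⟨hq.ne_zero⟩
  have hprim : MulAction.IsPreprimitive H (Fin q) := MulAction.IsPreprimitive.of_prime_card (by simpa using hq)
  have hne : (⊤ : Subgroup H) ≠ ⊥ := by
    intro e
    haveI : Subsingleton H := Subgroup.subsingleton_iff.1 (subsingleton_of_top_le_bot e.le)
    obtain ⟨a, b, hab⟩ : ∃ a b : Fin q, a ≠ b := ⟨0, ⟨1, hq.one_lt⟩, by simp [Fin.ext_iff]⟩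
    obtain ⟨g, hg⟩ := MulAction.exists_smul_eq H a b
    rw [Subsingleton.elim g 1, one_smul] at hg
    exact hab hg
  obtain ⟨M, -, hMn, hM, hmin⟩ := Cfsg.Lib.Coprime.exists_minimal_normal inferInstance hne
  haveI := hMn
  obtain ⟨htr, hst, p, d, hp, hd, hqd, hMd⟩ := Cfsg.Agent.S0547.result hprim M hM hmin
  have hMq : Nat.card M = q := by rw [hMd, ← hqd]; simp
  haveI : IsCyclic M := isCyclic_of_prime_card hMq
  set f : H →* MulAut M := MulAut.conjNormal with hf
  have hker : f.ker ≤ M := by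
    intro c hc
    have hcomm : ∀ m : M, c * (m : H) = m * c := fun m => by
      have h1 : ((f c m : M) : H) = m := by rw [show f c = 1 from hc]; rfl
      rw [hf, MulAut.conjNormal_apply] at h1
      exact mul_inv_eq_iff_eq_mul.1 h1
    obtain ⟨m, hm⟩ := @MulAction.exists_smul_eq M (Fin q) _ htr 0 (c • (0 : Fin q))
    have hm' : (m : H) • (0 : Fin q) = c • (0 : Fin q) := hm
    have hfix : ∀ w : Fin q, ((m : H)⁻¹ * c) • w = w := by
      intro w
      obtain ⟨t, rfl⟩ := @MulAction.exists_smul_eq M (Fin q) _ htr 0 w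
      show ((m : H)⁻¹ * c) • ((t : H) • (0 : Fin q)) = (t : H) • (0 : Fin q)
      have hmt : (t : H) * m = m * t := congrArg Subtype.val (IsMulCommutative.is_comm.comm t m)
      rw [← mul_smul, mul_assoc, hcomm t, show (m : H)⁻¹ * ((t : H) * c) = (t : H) * ((m : H)⁻¹ * c) by
        rw [← mul_assoc, ← mul_assoc]; congr 1; rw [inv_mul_eq_iff_eq_mul, ← mul_assoc, ← hmt, mul_inv_cancel_right],
        mul_smul, mul_smul, ← hm', inv_smul_smul]
    have : (m : H)⁻¹ * c = 1 := FaithfulSMul.eq_of_smul_eq_smul fun w => by rw [hfix w, one_smul]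
    rw [inv_mul_eq_one] at this
    exact this ▸ m.2
  rw [← Subgroup.card_mul_index f.ker]
  refine Nat.mul_dvd_mul ((card_dvd_of_le hker).trans hMq.dvd) ?_
  rw [index_ker]
  refine (card_subgroup_dvd_card f.range).trans ?_
  rw [IsCyclic.card_mulAut, hMq, Nat.totient_prime hq]

theorem sylow_le_of_hall {G : Type*} [Group G] [Finite G] {p : ℕ} [Fact p.Prime] (H : Subgroup G)
    (hH : ¬ p ∣ H.index) : ∃ P : Sylow p G, (P : Subgroup G) ≤ H := by
  obtain ⟨T⟩ : Nonempty (Sylow p H) := inferInstance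
  have hp' : IsPGroup p ((T : Subgroup H).map H.subtype) := T.2.map _
  refine ⟨hp'.toSylow ?_, map_subtype_le _⟩
  rw [index_map, H.subtype.ker_eq_bot_iff.2 H.subtype_injective, sup_bot_eq, Subgroup.range_subtype]
  exact Fact.out (p := p.Prime) |>.not_dvd_mul T.not_dvd_index hH

theorem not_E (π : Set ℕ) {p q : ℕ} (hp : p.Prime) (hq : q.Prime) (hpπ : p ∈ π) (hqπ : q ∈ π) (hpq : p < q)
    {r : ℕ} (hr : r.Prime) (hrπ : r ∉ π) :
    ∃ n : ℕ, ¬ Cfsg.IsEPiGroup π (Equiv.Perm (Fin n)) := by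
  have hdvd : ∀ (n s : ℕ) (H : Subgroup (Equiv.Perm (Fin n))), s.Prime → s ≤ n → s ∈ π → Cfsg.IsPiHall π H →
      s ∣ Nat.card H := by
    intro n s H hs hsn hsπ hH
    have h1 : s ∣ Nat.card H * H.index := by
      rw [card_mul_index, Nat.card_perm, Nat.card_fin]; exact hs.dvd_factorial.2 hsn
    exact (hs.dvd_mul.1 h1).resolve_right (hH.2 s hs hsπ)
  by_cases h2 : (2 : ℕ) ∈ π
  · have hswap : ∀ (n : ℕ), n.Prime → n ∈ π → (∃ r', r'.Prime ∧ r' ∉ π ∧ r' ≤ n) → ¬ Cfsg.IsEPiGroup π (Equiv.Perm (Fin n)) := by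
      classical
      rintro n hn hnπ ⟨r', hr', hr'π, hr'n⟩ ⟨H, hH⟩
      haveI := Fact.mk Nat.prime_two
      haveI : NeZero n := ⟨hn.ne_zero⟩
      obtain ⟨P, hP⟩ := sylow_le_of_hall (p := 2) H (hH.2 2 Nat.prime_two h2)
      set t : Equiv.Perm (Fin n) := Equiv.swap 0 ⟨1, hn.one_lt⟩ with ht
      have hne : (0 : Fin n) ≠ ⟨1, hn.one_lt⟩ := by simp [Fin.ext_iff]
      have hts : t.IsSwap := ⟨0, ⟨1, hn.one_lt⟩, hne, rfl⟩
      have ht2 : IsPGroup 2 (zpowers t) :=
        IsPGroup.of_card (n := 1) (by rw [Nat.card_zpowers, hts.orderOf, pow_one])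
      obtain ⟨P', hP'⟩ := ht2.exists_le_sylow
      obtain ⟨g, hg⟩ := MulAction.exists_smul_eq (Equiv.Perm (Fin n)) P' P
      have hmem : g * t * g⁻¹ ∈ H := by
        refine hP ?_
        rw [← hg, Cfsg.Lib.Transfer.sylow_smul_coe, Cfsg.Lib.Transfer.mem_map_conj]
        have : g⁻¹ * (g * t * g⁻¹) * g = t := by group
        rw [this]; exact hP' (mem_zpowers t)
      have hsw : (g * t * g⁻¹).IsSwap :=
        ⟨g 0, g ⟨1, hn.one_lt⟩, g.injective.ne hne, by rw [ht, Equiv.swap_apply_apply]⟩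
      have htop : H = ⊤ := Equiv.Perm.subgroup_eq_top_of_swap_mem (by simpa using hn)
        (by rw [Fintype.card_fin, ← Nat.card_eq_fintype_card]; exact hdvd n n H hn le_rfl hnπ hH) hmem hsw
      refine hr'π (hH.1 r' hr' ?_)
      rw [htop, card_top, Nat.card_perm, Nat.card_fin]
      exact hr'.dvd_factorial.2 hr'n
    have hne : ∃ s, s.Prime ∧ s ∉ π := ⟨r, hr, hrπ⟩
    classical
    set r₀ := Nat.find hne with hr₀
    obtain ⟨hr0, hr0π⟩ : r₀.Prime ∧ r₀ ∉ π := Nat.find_spec hne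
    by_cases hbig : ∃ s, s.Prime ∧ s ∈ π ∧ r₀ < s
    · obtain ⟨s, hs, hsπ, hlt⟩ := hbig
      exact ⟨s, hswap s hs hsπ ⟨r₀, hr0, hr0π, hlt.le⟩⟩
    push Not at hbig
    have hlow : ∀ s, s.Prime → (s ∈ π ↔ s < r₀) := fun s hs =>
      ⟨fun h => lt_of_le_of_ne (hbig s hs h) fun e => hr0π (e ▸ h), fun h => by
        by_contra hh; exact Nat.find_min hne h ⟨hs, hh⟩⟩
    have hq0 : 3 ≤ q ∧ q < r₀ := ⟨by have := hp.two_le; omega, (hlow q hq).1 hqπ⟩
    have hr5 : 5 ≤ r₀ := by
      have : r₀ ≠ 4 := fun e => absurd (e ▸ hr0) (by norm_num)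
      omega
    refine ⟨r₀ + 1, ?_⟩
    rintro ⟨H, hH⟩
    haveI := Fact.mk hr0
    have hev : 2 ∣ r₀ + 1 := by
      rcases hr0.eq_two_or_odd with e | e <;> omega
    have hnp : ∀ s, s.Prime → s ∣ r₀ + 1 → s < r₀ := by
      intro s hs hsd
      have := Nat.le_of_dvd (by omega) hsd
      rcases eq_or_ne s (r₀ + 1) with e | e
      · rcases hs.eq_two_or_odd with e' | e' <;> omega
      rcases eq_or_ne s r₀ with e' | e'
      · subst e'
        have : r₀ ∣ 1 := (Nat.dvd_add_right dvd_rfl).1 hsd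
        have := Nat.le_of_dvd one_pos this
        omega
      omega
    have hfact : (r₀ + 1).factorial = r₀ * ((r₀ + 1) * (r₀ - 1).factorial) := by
      rw [Nat.factorial_succ, ← Nat.mul_factorial_pred hr0.ne_zero]; ring
    have hidx : H.index ∣ r₀ := by
      have h1 : H.index ∣ r₀ * ((r₀ + 1) * (r₀ - 1).factorial) := by
        have h0 := H.index_dvd_card
        rwa [Nat.card_perm, Nat.card_fin, hfact] at h0
      refine Nat.Coprime.dvd_of_dvd_mul_right (Nat.coprime_of_dvd fun s hs hs1 hs2 => ?_) h1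
      refine hH.2 s hs ((hlow s hs).2 ?_) hs1
      rcases hs.dvd_mul.1 hs2 with h | h
      · exact hnp s hs h
      · have := hs.dvd_factorial.1 h; omega
    set f := MulAction.toPermHom (Equiv.Perm (Fin (r₀ + 1))) (Equiv.Perm (Fin (r₀ + 1)) ⧸ H) with hf
    have hkerH : f.ker ≤ H := by
      rw [hf, ← Subgroup.normalCore_eq_ker]; exact normalCore_le H
    have hker : f.ker = ⊥ := by
      by_contra hk
      haveI := (Subgroup.nontrivial_iff_ne_bot _).2 hk
      have hle := (Equiv.Perm.alternatingGroup_le_of_normal (by rw [Nat.card_fin]; omega) this).trans hkerH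
      have h3 : H.index ∣ 2 := by
        have := index_dvd_of_le hle
        rwa [alternatingGroup.index_eq_two] at this
      have h4 : H.index = 1 := by
        refine Nat.eq_one_of_dvd_coprimes ?_ hidx h3
        exact (Nat.coprime_primes hr0 Nat.prime_two).2 (by omega)
      refine hr0π (hH.1 r₀ hr0 ?_)
      rw [index_eq_one.1 h4, card_top, Nat.card_perm, Nat.card_fin]
      exact hr0.dvd_factorial.2 (by omega)
    have := Nat.card_le_card_of_injective _ ((MonoidHom.ker_eq_bot_iff f).1 hker)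
    rw [Nat.card_perm, Nat.card_perm, Nat.card_fin, ← Subgroup.index_eq_card] at this
    have h5 := (Nat.factorial_le (Nat.le_of_dvd hr0.pos hidx)).trans_lt' (lt_of_lt_of_le
      (Nat.factorial_lt hr0.pos |>.2 (Nat.lt_succ_self r₀)) this)
    exact lt_irrefl _ h5
  · refine ⟨q, ?_⟩
    rintro ⟨H, hH⟩
    haveI := Fact.mk hq
    haveI : NeZero q := ⟨hq.ne_zero⟩
    haveI : Nontrivial (Fin q) := Fin.nontrivial_iff_two_le.2 hq.two_le
    classical
    have hqH := hdvd q q H hq le_rfl hqπ hH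
    haveI htr : MulAction.IsPretransitive H (Fin q) := by
      obtain ⟨σ, hσ⟩ := exists_prime_orderOf_dvd_card' (G := H) q hqH
      have hσ1 : orderOf (σ : Equiv.Perm (Fin q)) = Fintype.card (Fin q) := by
        rw [Subgroup.orderOf_coe, hσ, Fintype.card_fin]
      have hcyc : (σ : Equiv.Perm (Fin q)).IsCycle := Equiv.Perm.isCycle_of_prime_order'' (by simpa using hq) hσ1
      have hsupp : (σ : Equiv.Perm (Fin q)).support = Finset.univ :=
        Finset.eq_univ_of_card _ (hcyc.orderOf.symm.trans hσ1)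
      refine ⟨fun a b => ?_⟩
      obtain ⟨i, hi⟩ := hcyc.exists_zpow_eq
        (Equiv.Perm.mem_support.1 (hsupp ▸ Finset.mem_univ a)) (Equiv.Perm.mem_support.1 (hsupp ▸ Finset.mem_univ b))
      exact ⟨σ ^ i, by rw [← hi]; rfl⟩
    rcases Cfsg.Agent.S0675.result (by simpa using hq) H with hsol | h2t
    · haveI := hsol
      have h1 := solvable_prime_degree q H
      haveI := Fact.mk hp
      have hp2 : p ≠ 2 := fun e => h2 (e ▸ hpπ)
      have hfull : p ^ (Nat.card (Equiv.Perm (Fin q))).factorization p ∣ q * (q - 1) := by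
        obtain ⟨P, hP⟩ := sylow_le_of_hall (p := p) H (hH.2 p hp hpπ)
        rw [← P.card_eq_multiplicity]
        exact (card_dvd_of_le hP).trans h1
      rw [Nat.card_perm, Nat.card_fin] at hfull
      have h3 : p ^ q.factorial.factorization p ∣ q - 1 :=
        (Nat.Coprime.pow_left _ ((Nat.coprime_primes hp hq).2 hpq.ne)).dvd_of_dvd_mul_left hfull
      have h4 : p ∣ q - 1 := (dvd_pow_self p
        (hp.factorization_pos_of_dvd (Nat.factorial_ne_zero q) (hp.dvd_factorial.2 hpq.le)).ne').trans h3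
      have hne' : p ≠ q - 1 := by
        intro e
        have := hp.eq_two_or_odd; have := hq.eq_two_or_odd; have := hp.two_le
        omega
      have h5 : p * (q - 1) ∣ q.factorial := by
        refine Dvd.dvd.trans ?_ (Nat.factorial_dvd_factorial (Nat.sub_le q 1))
        rw [← Nat.mul_factorial_pred (show q - 1 ≠ 0 by have := hq.two_le; omega), mul_comm p]
        exact Nat.mul_dvd_mul_left _ (hp.dvd_factorial.2 (by
          have := Nat.le_of_dvd (by have := hq.two_le; omega) h4; omega))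
      have h6 : p ^ (q.factorial.factorization p + 1) ∣ q.factorial := by
        rw [pow_succ']
        exact (Nat.mul_dvd_mul_left p h3).trans h5
      exact Nat.pow_succ_factorization_not_dvd (Nat.factorial_ne_zero q) hp h6
    · exact h2 (hH.1 2 Nat.prime_two (two_pretransitive_even H h2t))

theorem E_of_D {π : Set ℕ} {G : Type*} [Group G] [Finite G] (h : Cfsg.IsDPiGroup π G) : Cfsg.IsEPiGroup π G := by
  have hmax : ∀ K : Subgroup G, Cfsg.IsPiSubgroup π K → ∃ M, K ≤ M ∧ Maximal (Cfsg.IsPiSubgroup π) M := by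
    intro K hK
    exact (Set.toFinite {M : Subgroup G | Cfsg.IsPiSubgroup π M}).exists_le_maximal hK
  obtain ⟨H, -, hH⟩ := hmax ⊥ (fun s hs hd => by rw [card_bot] at hd; exact absurd (Nat.le_of_dvd one_pos hd) hs.one_lt.not_ge)
  refine ⟨H, hH.prop, fun s hs hsπ hd => ?_⟩
  haveI := Fact.mk hs
  obtain ⟨P⟩ : Nonempty (Sylow s G) := inferInstance
  obtain ⟨M, hPM, hM⟩ := hmax P (fun t ht htd => by
    obtain ⟨k, hk⟩ := IsPGroup.iff_card.1 P.2
    rw [hk] at htd
    exact (Nat.prime_dvd_prime_iff_eq ht hs).1 (ht.dvd_of_dvd_pow htd) ▸ hsπ)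
  obtain ⟨g, rfl⟩ := h M H hM hH
  refine P.not_dvd_index (hd.trans ?_)
  exact (index_map_equiv M (MulAut.conj g)).dvd.trans (index_dvd_of_le hPM)


/-- For a set of primes π the following are equivalent: every finite group has a Hall π-subgroup; in every finite group the maximal π-subgroups are pairwise conjugate; π contains at most one prime or contains every prime. -/
theorem result (π : Set ℕ) :
    ((∀ (G : Type) [Group G] [Finite G], Cfsg.IsEPiGroup π G) ↔
      ((∀ p q : ℕ, p.Prime → q.Prime → p ∈ π → q ∈ π → p = q) ∨ ∀ p : ℕ, p.Prime → p ∈ π)) ∧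
    ((∀ (G : Type) [Group G] [Finite G], Cfsg.IsDPiGroup π G) ↔
      ((∀ p q : ℕ, p.Prime → q.Prime → p ∈ π → q ∈ π → p = q) ∨ ∀ p : ℕ, p.Prime → p ∈ π)) := by
  have pos : ((∀ p q : ℕ, p.Prime → q.Prime → p ∈ π → q ∈ π → p = q) ∨ ∀ p : ℕ, p.Prime → p ∈ π) →
      ∀ (G : Type) [Group G] [Finite G], Cfsg.IsDPiGroup π G := by
    rintro (hone | hall) G _ _ H K hH hK
    · by_cases hex : ∃ s, s.Prime ∧ s ∈ π
      · obtain ⟨s, hs, hsπ⟩ := hex
        haveI := Fact.mk hs
        have hpg : ∀ L : Subgroup G, Cfsg.IsPiSubgroup π L ↔ IsPGroup s L := by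
          intro L
          constructor
          · intro hL
            refine IsPGroup.of_card (n := (Nat.card L).primeFactorsList.length) ?_
            exact Nat.eq_prime_pow_of_unique_prime_dvd Nat.card_pos.ne' fun {t} ht htd => hone t s ht hs (hL t ht htd) hsπ
          · intro hL t ht htd
            obtain ⟨k, hk⟩ := IsPGroup.iff_card.1 hL
            rw [hk] at htd
            exact (Nat.prime_dvd_prime_iff_eq ht hs).1 (ht.dvd_of_dvd_pow htd) ▸ hsπ
        let P : Sylow s G := ⟨H, (hpg H).1 hH.prop, fun {Q} hQ hle => le_antisymm (hH.le_of_ge ((hpg Q).2 hQ) hle) hle⟩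
        let P' : Sylow s G := ⟨K, (hpg K).1 hK.prop, fun {Q} hQ hle => le_antisymm (hK.le_of_ge ((hpg Q).2 hQ) hle) hle⟩
        obtain ⟨g, hg⟩ := MulAction.exists_smul_eq G P P'
        exact ⟨g, (congrArg (fun T : Sylow s G => (T : Subgroup G)) hg).symm.trans (Cfsg.Lib.Transfer.sylow_smul_coe g P)⟩
      · push Not at hex
        have : ∀ L : Subgroup G, Maximal (Cfsg.IsPiSubgroup π) L → L = ⊥ := fun L hL => by
          refine eq_bot_of_card_eq L (Nat.eq_one_iff_not_exists_prime_dvd.2 fun s hs hd => hex s hs (hL.prop s hs hd))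
        exact ⟨1, by rw [this H hH, this K hK, Subgroup.map_bot]⟩
    · have : ∀ L : Subgroup G, Maximal (Cfsg.IsPiSubgroup π) L → L = ⊤ := fun L hL =>
        top_le_iff.1 (hL.le_of_ge (fun s hs _ => hall s hs) le_top)
      exact ⟨1, by rw [this H hH, this K hK, Subgroup.map_top_of_surjective _ (MulAut.conj (1 : G)).surjective]⟩
  have neg : (∀ (G : Type) [Group G] [Finite G], Cfsg.IsEPiGroup π G) →
      (∀ p q : ℕ, p.Prime → q.Prime → p ∈ π → q ∈ π → p = q) ∨ ∀ p : ℕ, p.Prime → p ∈ π := by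
    intro h
    by_contra hcon
    push Not at hcon
    obtain ⟨⟨p, q, hp, hq, hpπ, hqπ, hne⟩, r, hr, hrπ⟩ := hcon
    rcases lt_or_gt_of_ne hne with hlt | hlt
    · obtain ⟨n, hn⟩ := not_E π hp hq hpπ hqπ hlt hr hrπ
      exact hn (h _)
    · obtain ⟨n, hn⟩ := not_E π hq hp hqπ hpπ hlt hr hrπ
      exact hn (h _)
  refine ⟨⟨neg, fun hc G _ _ => E_of_D (pos hc G)⟩, ⟨fun h => neg fun G _ _ => E_of_D (h G), pos⟩⟩

end Cfsg.Agent.S3878
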