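import Cfsg.Statements.S3883
import Cfsg.Agent.PGroups.MetaOdd.Main
import Cfsg.Agent.PGroups.Basic

set_option autoImplicit false
open Cfsg

namespace Cfsg.Agent.S3883

/-- Let p be an odd prime and G a finite metacyclic p-group (G has a cyclic normal subgroup with cyclic quotient). Suppose G is non-abelian. Then an element g of G lies outside the Frattini subgroup if and only if its centralizer C_G(g) is abelian. -/
theorem result {G : Type*} [Group G] [Finite G] {p : ℕ} [Fact p.Prime] (hp : p ≠ 2) (hG : IsPGroup p G) (hmc : Cfsg.IsMetacyclic G) (hna : ¬ IsMulCommutative G) (g : G) :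
    g ∉ frattini G ↔ IsMulCommutative ↥(Subgroup.centralizer ({g} : Set G)) := by
  open Cfsg.Lib.MetaOdd in
  obtain ⟨S⟩ := exists_setup hG hmc
  have hn : 0 < S.n := by
    rcases Nat.eq_zero_or_pos S.n with h | h
    · refine absurd ?_ hna
      have h1 : ∀ x : G, x ∈ Subgroup.center G := fun x => by
        have hi := S.index_center hp
        rw [h, mul_zero, pow_zero, Subgroup.index_eq_one] at hi
        exact hi ▸ Subgroup.mem_top x
      exact ⟨⟨fun x y => Subgroup.mem_center_iff.1 (h1 y) x⟩⟩
    · exact h
  obtain ⟨k, hk, e₁, e₂, he, hg⟩ := exists_prim (S.P g)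
  have hCiff : IsMulCommutative ↥(Subgroup.centralizer ({g} : Set G)) ↔ k = 0 := by
    rw [S.comm_iff_iso hp]
    have hbox : S.P '' (Subgroup.centralizer ({g} : Set G) : Set G) = box e₁ e₂ 0 (S.n - k) := by
      rw [← perp_single he hk, ← hg]
      refine Set.Subset.antisymm ?_ fun X hX => ?_
      · rintro _ ⟨x, hx, rfl⟩; exact (S.mem_centralizer_singleton_iff_det hp).1 hx
      · obtain ⟨x, rfl⟩ := S.P_surjective hp X
        exact ⟨x, (S.mem_centralizer_singleton_iff_det hp).2 hX, rfl⟩
    rw [hbox, iso_box_iff he]
    omega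
  rw [hCiff]
  constructor
  · intro hgF
    by_contra hk0
    refine hgF ?_
    have hmem : g ∈ Subgroup.closure {x : G | ∃ y : G, y ^ p ^ 1 = x} := by
      rw [S.mem_closure_powers_iff hp hn, hg, mem_dvec_iff he hn]
      omega
    refine (show Subgroup.closure {x : G | ∃ y : G, y ^ p ^ 1 = x} ≤ frattini G from ?_) hmem
    rw [Subgroup.closure_le]
    rintro _ ⟨y, rfl⟩
    rw [pow_one]
    exact Cfsg.Lib.PGroups.pow_mem_frattini hG y
  · intro hk0 hgF
    subst hk0
    rw [pow_zero, one_smul] at hg
    let L : Subgroup G :=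
      { carrier := {x | (p : R p S.n) ∣ det (S.P x) e₂}
        one_mem' := by simp [S.P_one, det]
        mul_mem' := fun {x y} hx hy => by
          show (p : R p S.n) ∣ _
          rw [S.P_mul, det]
          simp only [Prod.fst_add, Prod.snd_add, Prod.smul_fst, Prod.smul_snd, smul_eq_mul]
          rw [show ((S.P x).1 + S.mu (S.P x) * (S.P y).1) * e₂.2 - ((S.P x).2 + S.mu (S.P x) * (S.P y).2) * e₂.1 =
            det (S.P x) e₂ + S.mu (S.P x) * det (S.P y) e₂ by simp only [det]; ring]
          exact dvd_add hx (Dvd.dvd.mul_left hy _)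
        inv_mem' := fun {x} hx => by
          show (p : R p S.n) ∣ _
          have h := S.P_mul x x⁻¹
          rw [mul_inv_cancel, S.P_one] at h
          have h2 := congrArg (fun X => det X e₂) h
          rw [show det (0 : Vec p S.n) e₂ = 0 by simp [det], show det (S.P x + S.mu (S.P x) • S.P x⁻¹) e₂ =
            det (S.P x) e₂ + S.mu (S.P x) * det (S.P x⁻¹) e₂ by simp [det]; ring] at h2
          have h3 : (p : R p S.n) ∣ S.mu (S.P x) * det (S.P x⁻¹) e₂ := by
            rw [eq_neg_of_add_eq_zero_right h2.symm]; exact dvd_neg.2 hx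
          exact ((S.mu_unit (S.P x)).dvd_mul_left).1 h3 }
    have hcardL : Nat.card L = Nat.card (Subgroup.center G) * p ^ (2 * S.n - 1) := by
      have hset : {X : Vec p S.n | (p : R p S.n) ∣ det X e₂} = box e₁ e₂ 1 0 := by
        ext X; simp [box, pow_zero, isUnit_one.dvd]
      calc Nat.card L = Nat.card {x // S.P x ∈ {X : Vec p S.n | (p : R p S.n) ∣ det X e₂}} := rfl
        _ = _ := by
          rw [S.card_preimage hp, hset, ncard_box he hn (Nat.zero_le _)]
          congr 2
          omega
    have hLidx : L.index = p := by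
      have h := Subgroup.card_mul_index L
      rw [hcardL, S.card_group hp, mul_assoc] at h
      refine Nat.eq_of_mul_eq_mul_left (pow_pos (Fact.out : p.Prime).pos (2 * S.n - 1))
        ((Nat.eq_of_mul_eq_mul_left Nat.card_pos h).trans ?_)
      rw [← pow_succ]
      congr 1
      omega
    have hgL : g ∈ L := by
      have hco : IsCoatom L := by
        refine ⟨fun h => ?_, fun K hK => ?_⟩
        · rw [h, Subgroup.index_top] at hLidx
          exact (Fact.out : p.Prime).ne_one hLidx.symm
        · have hdvd := Subgroup.index_dvd_of_le hK.le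
          rw [hLidx] at hdvd
          rcases (Nat.dvd_prime Fact.out).1 hdvd with h | h
          · exact Subgroup.index_eq_one.1 h
          · refine absurd (Subgroup.eq_of_le_of_card_ge hK.le ?_) hK.ne
            refine Nat.le_of_mul_le_mul_right (c := p) ?_ (Fact.out : p.Prime).pos
            nth_rw 1 [← h]
            nth_rw 1 [← hLidx]
            rw [Subgroup.card_mul_index, Subgroup.card_mul_index]
      exact frattini_le_coatom hco hgF
    have h1 : (p : R p S.n) ^ 1 ∣ (p : R p S.n) ^ 0 * 1 := by
      have h : (p : R p S.n) ∣ det (S.P g) e₂ := hgL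
      rw [hg, he] at h
      simpa using h
    exact absurd (le_of_pow_dvd hn isUnit_one h1) (by omega)

end Cfsg.Agent.S3883
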