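import Cfsg.Statements.S3885
import Cfsg.Agent.PGroups.MetaOdd.Main

set_option autoImplicit false
open Cfsg

namespace Cfsg.Agent.S3885

/-- Let p be an odd prime and G a finite metacyclic p-group (G has a cyclic normal subgroup with cyclic quotient). Then every abelian subgroup K of G containing the center of G is the center of its own centralizer: K = Z(C_G(K)). -/
theorem result {G : Type*} [Group G] [Finite G] {p : ℕ} [Fact p.Prime] (hp : p ≠ 2) (hG : IsPGroup p G) (hmc : Cfsg.IsMetacyclic G) (K : Subgroup G) (hK : IsMulCommutative ↥K) (hZ : Subgroup.center G ≤ K) :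
    K = Subgroup.centralizer (K : Set G) ⊓ Subgroup.centralizer (Subgroup.centralizer (K : Set G) : Set G) := by
  open Cfsg.Lib.MetaOdd in
  obtain ⟨S⟩ := exists_setup hG hmc
  have h1 : S.P '' (Subgroup.centralizer (Subgroup.centralizer (K : Set G) : Set G) : Set G) = S.P '' (K : Set G) := by
    rw [S.image_centralizer hp, S.image_centralizer hp, perp_perp (S.P_image_isMod hp K)]
  have hKC : K ≤ Subgroup.centralizer (Subgroup.centralizer (K : Set G) : Set G) := fun k hk =>
    Subgroup.mem_centralizer_iff.2 fun c hc => (Subgroup.mem_centralizer_iff.1 hc k hk).symm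
  have h2 : Subgroup.centralizer (Subgroup.centralizer (K : Set G) : Set G) = K := by
    refine (Subgroup.eq_of_le_of_card_ge hKC ?_).symm
    rw [S.card_eq_of_center_le hp hZ, S.card_eq_of_center_le hp (Subgroup.center_le_centralizer _), h1]
  rw [h2]
  exact (inf_eq_right.2 (fun k hk => Subgroup.mem_centralizer_iff.2 fun k' hk' =>
    congrArg Subtype.val (hK.is_comm.comm (⟨k', hk'⟩ : K) ⟨k, hk⟩))).symm

end Cfsg.Agent.S3885
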