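import Cfsg.Statements.S3886
import Cfsg.Agent.PGroups.MetaOdd.Main

set_option autoImplicit false
open Cfsg

namespace Cfsg.Agent.S3886

/-- Let p be an odd prime and G a finite metacyclic p-group (G has a cyclic normal subgroup with cyclic quotient). Then the largest value of |R| · |Z(R)| over subgroups R of G is |G : G'|², and the subgroups attaining it (the centrally large subgroups) are exactly the non-abelian subgroups together with the maximal abelian subgroups of G. -/
theorem result {G : Type*} [Group G] [Finite G] {p : ℕ} [Fact p.Prime] (hp : p ≠ 2) (hG : IsPGroup p G) (hmc : Cfsg.IsMetacyclic G) : Cfsg.maxCentralProduct G = (commutator G).index ^ 2 ∧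
    ∀ R : Subgroup G, Cfsg.IsCentrallyLarge R ↔ (¬ IsMulCommutative ↥R ∨ Maximal (fun K : Subgroup G => IsMulCommutative ↥K) R) := by
  open Cfsg.Lib.MetaOdd in
  obtain ⟨S⟩ := exists_setup hG hmc
  have hidx := S.index_commutator hp
  have key : ∀ R : Subgroup G, Nat.card R * Nat.card (Subgroup.center R) ≤ (commutator G).index ^ 2 ∧
      (Nat.card R * Nat.card (Subgroup.center R) = (commutator G).index ^ 2 ↔
        (¬ IsMulCommutative R ∨ Maximal (fun K : Subgroup G => IsMulCommutative ↥K) R)) := by
    intro R
    by_cases hR : IsMulCommutative R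
    · have hcard : Nat.card (Subgroup.center R) = Nat.card R := by
        have htop : Subgroup.center R = ⊤ := (Subgroup.eq_top_iff' _).2 fun x =>
          Subgroup.mem_center_iff.2 fun g => hR.is_comm.comm g x
        rw [htop, Subgroup.card_top]
      have hle := (S.comm_iff_card hp hG R).1 hR
      rw [hcard, ← sq]
      refine ⟨Nat.pow_le_pow_left hle 2, fun h => Or.inr ((S.maximal_comm_iff hp hG R).2 ?_), ?_⟩
      · exact Nat.pow_left_injective (by norm_num) h
      · rintro (h | h)
        · exact absurd hR h
        · rw [(S.maximal_comm_iff hp hG R).1 h]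
    · have hZ := S.center_le_of_not_comm hp hG hR
      have hsub : Subgroup.centralizer (R : Set G) ≤ R := by
        intro x hx
        obtain ⟨y, hy, hyx⟩ := perp_subset_of_not_iso (S.P_image_isMod hp R)
          (fun h => hR ((S.comm_iff_iso hp R).2 h)) ((S.mem_centralizer_iff_det hp).1 hx)
        simpa using R.mul_mem hy (hZ ((S.P_eq_iff hp).1 hyx))
      have hcard : Nat.card (Subgroup.center R) = Nat.card (Subgroup.centralizer (R : Set G)) := by
        rw [← Subgroup.card_map_of_injective R.subtype_injective, Cfsg.Lib.Components.center_map_eq,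
          inf_eq_right.2 hsub]
      have hval : Nat.card R * Nat.card (Subgroup.center R) = (commutator G).index ^ 2 := by
        rw [hcard, S.card_eq_of_center_le hp hZ, S.card_eq_of_center_le hp (Subgroup.center_le_centralizer _),
          S.image_centralizer hp, hidx, mul_pow, ← pow_mul, mul_comm S.n 2, ← ncard_mul_perp (S.P_image_isMod hp R)]
        ring
      exact ⟨hval.le, fun _ => Or.inl hR, fun _ => hval⟩
  have hmax : Cfsg.maxCentralProduct G = (commutator G).index ^ 2 := by
    refine IsGreatest.csSup_eq ⟨⟨⊤, (key ⊤).2.2 ?_⟩, ?_⟩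
    · by_cases h : IsMulCommutative (⊤ : Subgroup G)
      · exact Or.inr ⟨h, fun K _ _ => le_top⟩
      · exact Or.inl h
    · rintro _ ⟨T, rfl⟩
      exact (key T).1
  refine ⟨hmax, fun R => ?_⟩
  rw [Cfsg.IsCentrallyLarge, hmax]
  exact (key R).2

end Cfsg.Agent.S3886
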