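import Cfsg.Statements.S3887
import Cfsg.Agent.PGroups.MetaOdd.Main

set_option autoImplicit false
open Cfsg

namespace Cfsg.Agent.S3887

/-- Let p be an odd prime and G a finite metacyclic p-group (G has a cyclic normal subgroup with cyclic quotient). Then a subgroup R of G maximizes |R| · |C_G(R)| over all subgroups of G if and only if R contains the center of G. -/
theorem result {G : Type*} [Group G] [Finite G] {p : ℕ} [Fact p.Prime] (hp : p ≠ 2) (hG : IsPGroup p G) (hmc : Cfsg.IsMetacyclic G) (R : Subgroup G) : Cfsg.IsCentralizerLarge R ↔ Subgroup.center G ≤ R := by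
  open Cfsg.Lib.MetaOdd in
  obtain ⟨S⟩ := exists_setup hG hmc
  have key : ∀ R : Subgroup G, Nat.card R * Nat.card (Subgroup.centralizer (R : Set G)) ≤
      Nat.card (Subgroup.center G) ^ 2 * p ^ (2 * S.n) ∧
      (Nat.card R * Nat.card (Subgroup.centralizer (R : Set G)) = Nat.card (Subgroup.center G) ^ 2 * p ^ (2 * S.n) ↔
        Subgroup.center G ≤ R) := by
    intro R
    have hC : Nat.card (Subgroup.centralizer (R : Set G)) =
        Nat.card (Subgroup.center G) * (perp (S.P '' (R : Set G))).ncard := by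
      rw [S.card_eq_of_center_le hp (Subgroup.center_le_centralizer _), S.image_centralizer hp]
    have hB : Nat.card (↥(R ⊔ Subgroup.center G)) * Nat.card (Subgroup.centralizer (R : Set G)) =
        Nat.card (Subgroup.center G) ^ 2 * p ^ (2 * S.n) := by
      rw [S.card_eq_of_center_le hp le_sup_right, S.ncard_image_le_sup hp, hC, ← ncard_mul_perp (S.P_image_isMod hp R)]
      ring
    rw [← hB]
    refine ⟨Nat.mul_le_mul_right _ (Subgroup.card_le_of_le le_sup_left), fun h => ?_, fun h => by rw [sup_eq_left.2 h]⟩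
    exact sup_eq_left.1 (Subgroup.eq_of_le_of_card_ge le_sup_left (Nat.eq_of_mul_eq_mul_right Nat.card_pos h).ge).symm
  have hmax : Cfsg.maxCentralizerProduct G = Nat.card (Subgroup.center G) ^ 2 * p ^ (2 * S.n) := by
    refine IsGreatest.csSup_eq ⟨⟨⊤, (key ⊤).2.2 le_top⟩, ?_⟩
    rintro _ ⟨T, rfl⟩
    exact (key T).1
  rw [Cfsg.IsCentralizerLarge, hmax]
  exact (key R).2

end Cfsg.Agent.S3887
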