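import Cfsg.Statements.S3889


set_option autoImplicit false
open Cfsg

namespace Cfsg.Agent.S3889

/-- A finite abelian group that is the union of a family of proper subgroups any two of which intersect trivially is elementary abelian: its exponent is a prime. -/
theorem result {G : Type*} [CommGroup G] [Finite G] (𝓑 : Set (Subgroup G)) (hprop : ∀ B ∈ 𝓑, B ≠ ⊤)
    (hcov : ∀ g : G, ∃ B ∈ 𝓑, g ∈ B) (hdisj : ∀ B ∈ 𝓑, ∀ C ∈ 𝓑, B ≠ C → B ⊓ C = ⊥) :
    (Monoid.exponent G).Prime := by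
  obtain ⟨B₁, hB₁, h1⟩ := hcov 1
  obtain ⟨t, ht⟩ : ∃ t, t ∉ B₁ := by
    by_contra hall
    push Not at hall
    exact hprop B₁ hB₁ (eq_top_iff.mpr fun x _ => hall x)
  have ht1 : t ≠ 1 := fun e => ht (e ▸ h1)
  have uniq : ∀ x : G, x ≠ 1 → ∀ B ∈ 𝓑, ∀ C ∈ 𝓑, x ∈ B → x ∈ C → B = C := by
    intro x hx B hB C hC hxB hxC
    by_contra hne
    exact hx (Subgroup.mem_bot.mp (hdisj B hB C hC hne ▸ ⟨hxB, hxC⟩ : x ∈ (⊥ : Subgroup G)))
  have key : ∀ g h : G, g ≠ 1 → h ≠ 1 → (∀ B ∈ 𝓑, g ∈ B → h ∉ B) → orderOf h ∣ orderOf g := by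
    intro g h hg hh hsep
    by_contra hnd
    have hpow : h ^ orderOf g ≠ 1 := fun e => hnd (orderOf_dvd_of_pow_eq_one e)
    obtain ⟨C, hC, hhC⟩ := hcov h
    obtain ⟨D, hD, hD'⟩ := hcov (g * h)
    have e : (g * h) ^ orderOf g = h ^ orderOf g := by rw [mul_pow, pow_orderOf_eq_one, one_mul]
    have hCD : C = D := uniq _ hpow C hC D hD (pow_mem hhC _) (e ▸ pow_mem hD' _)
    subst hCD
    have hgC : g ∈ C := by simpa using mul_mem hD' (inv_mem hhC)
    exact hsep C hC hgC hhC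
  have sym : ∀ g h : G, g ≠ 1 → h ≠ 1 → (∀ B ∈ 𝓑, g ∈ B → h ∉ B) → orderOf g = orderOf h :=
    fun g h hg hh hsep => Nat.dvd_antisymm
      (key h g hh hg fun B hB hhB hgB => hsep B hB hgB hhB) (key g h hg hh hsep)
  obtain ⟨Bt, hBt, htBt⟩ := hcov t
  obtain ⟨u, hu⟩ : ∃ u, u ∉ Bt := by
    by_contra hall
    push Not at hall
    exact hprop Bt hBt (eq_top_iff.mpr fun x _ => hall x)
  have hu1 : u ≠ 1 := fun e => hu (e ▸ Bt.one_mem)
  have hsame : ∀ g : G, g ≠ 1 → orderOf g = orderOf t := by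
    intro g hg
    have htu : orderOf t = orderOf u := sym t u ht1 hu1 fun B hB htB =>
      (uniq t ht1 B hB Bt hBt htB htBt).symm ▸ hu
    by_cases hgBt : g ∈ Bt
    · rw [htu]
      exact sym g u hg hu1 fun B hB hgB => (uniq g hg B hB Bt hBt hgB hgBt).symm ▸ hu
    · exact sym g t hg ht1 fun B hB hgB htB => hgBt ((uniq t ht1 B hB Bt hBt htB htBt) ▸ hgB)
  obtain ⟨r, hr, hrd⟩ := Nat.exists_prime_and_dvd (fun e => ht1 (orderOf_eq_one_iff.mp e))
  have hw : t ^ (orderOf t / r) ≠ 1 := fun e => by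
    have := orderOf_pow_orderOf_div (orderOf_pos t).ne' hrd
    rw [e, orderOf_one] at this
    exact hr.ne_one this.symm
  have htr : orderOf t = r := by
    rw [← hsame _ hw]
    exact orderOf_pow_orderOf_div (orderOf_pos t).ne' hrd
  have hexp : Monoid.exponent G = r := by
    refine ((Nat.dvd_prime hr).mp (Monoid.exponent_dvd_of_forall_pow_eq_one fun g => ?_)).resolve_left ?_
    · by_cases hg : g = 1
      · rw [hg, one_pow]
      · exact orderOf_dvd_iff_pow_eq_one.mp (by rw [hsame g hg, htr])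
    · intro e
      have := htr ▸ e ▸ Monoid.order_dvd_exponent t
      exact hr.ne_one (Nat.dvd_one.mp this)
  rwa [hexp]

end Cfsg.Agent.S3889
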