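import Cfsg.Statements.S3892
-- import your own Cfsg.Agent.* helpers here

set_option autoImplicit false
open Cfsg

namespace Cfsg.Agent.S3892

open Equiv Equiv.Perm in
theorem commute_cycle {β : Type*} [Fintype β] [DecidableEq β] {g x : Perm β} (hx : x.IsCycle) (h : Commute g x) :
    ∃ i : ℕ, (g * (x ^ i)⁻¹).support ⊆ x.supportᶜ := by
  obtain ⟨a, ha⟩ := hx.nonempty_support
  obtain ⟨i, hi⟩ := hx.exists_pow_eq (mem_support.1 ha) (mem_support.1 ((mem_support_iff_of_commute h a).2 ha))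
  refine ⟨i, fun b hb => Finset.mem_compl.2 fun hbs => ?_⟩
  rw [mem_support] at hb
  have hq : Commute (g * (x ^ i)⁻¹) x := h.mul_left ((Commute.refl x).pow_left i).inv_left
  have hfix : (g * (x ^ i)⁻¹) ((x ^ i) a) = (x ^ i) a := by
    rw [mul_apply, Perm.inv_def, Equiv.symm_apply_apply, hi]
  have hai : x ((x ^ i) a) ≠ (x ^ i) a := mem_support.1 (pow_apply_mem_support.2 ha)
  obtain ⟨j, rfl⟩ := hx.exists_pow_eq hai (mem_support.1 hbs)
  exact hb (by rw [← mul_apply, (hq.pow_right j).eq, mul_apply, hfix])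

open Equiv Equiv.Perm in
theorem central_power {β : Type*} [Fintype β] [DecidableEq β] {G : Type*} [Group G] (ι : G →* Perm β)
    (hι : Function.Injective ι) (A : Subgroup G) (hA : Group.IsNilpotent A) (hA1 : A ≠ ⊥) (m : ℕ)
    (hcent : ∀ g : G, ∀ x : Perm β, x.IsCycle → x.support.card = m → Commute (ι g) x →
      ι g ∈ Subgroup.zpowers x) :
    ∃ z : Perm β, z ≠ 1 ∧ (∀ h ∈ A, Commute z (ι h)) ∧
      ∀ g ∈ A, (ι g).IsCycle → (ι g).support.card = m → z ∈ Subgroup.zpowers (ι g) ∧ z.support = (ι g).support := by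
  haveI : Nontrivial A := (Subgroup.nontrivial_iff_ne_bot A).2 hA1
  haveI := hA
  haveI : Nontrivial (Subgroup.center A) := (Subgroup.nontrivial_iff_ne_bot _).2 (Group.IsNilpotent.center_ne_bot A)
  obtain ⟨z, hz⟩ := exists_ne (1 : Subgroup.center A)
  have hcomm : ∀ h ∈ A, Commute (ι ((z : A) : G)) (ι h) := fun h hh => by
    have h0 : Commute ((z : A) : G) h := (congrArg Subtype.val (Subgroup.mem_center_iff.1 z.2 ⟨h, hh⟩)).symm
    exact h0.map ι
  have hz1 : ι ((z : A) : G) ≠ 1 := fun h => hz (Subtype.ext (Subtype.ext (hι (by simpa using h))))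
  refine ⟨_, hz1, hcomm, fun g hg hcyc hm => ?_⟩
  have hmem := hcent _ _ hcyc hm (hcomm g hg)
  refine ⟨hmem, ?_⟩
  rw [← mem_powers_iff_mem_zpowers, Submonoid.mem_powers_iff] at hmem
  obtain ⟨i, hi⟩ := hmem
  rw [← hi] at hz1 ⊢
  refine Finset.Subset.antisymm (support_pow_le _ i) fun a ha => ?_
  rw [mem_support] at ha ⊢
  exact fun h => hz1 ((hcyc.pow_eq_one_iff' ha).2 h)

open Equiv Equiv.Perm in
theorem no_common_power {β : Type*} [Fintype β] [DecidableEq β] (s : Finset β) (hs : 4 ≤ s.card)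
    (x z : Perm β) (hxc : x.IsCycle) (hxs : x.support = s) (hz : z ≠ 1)
    (hall : ∀ y : Perm β, y.IsCycle → y.support = s → z ∈ Subgroup.zpowers y) : False := by
  have hpow : ∀ y : Perm β, y.IsCycle → y.support = s → ∀ u v : Perm β, u ∈ Subgroup.zpowers y →
      v ∈ Subgroup.zpowers y → ∀ p ∈ s, u p = v p → u = v := by
    intro y hy hys u v hu hv p hp h
    rw [← mem_powers_iff_mem_zpowers, Submonoid.mem_powers_iff] at hu hv
    obtain ⟨i, rfl⟩ := hu
    obtain ⟨j, rfl⟩ := hv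
    exact hy.pow_eq_pow_iff.2 ⟨p, mem_support.1 (hys.symm ▸ hp), h⟩
  have hne : ∀ p ∈ s, z p ≠ p := fun p hp h =>
    hz (hpow x hxc hxs z 1 (hall x hxc hxs) (one_mem _) p hp h)
  have hmem : ∀ p, z p ∈ s ↔ p ∈ s := by
    obtain ⟨i, hi⟩ := Subgroup.mem_zpowers_iff.1 (hall x hxc hxs)
    intro p
    rw [← hxs, ← hi]
    exact zpow_apply_mem_support
  have hconj : ∀ d ∈ s, ∀ e ∈ s, ∃ y : Perm β, y.IsCycle ∧ y.support = s ∧
      z ∈ Subgroup.zpowers y ∧ swap d e * z * swap d e ∈ Subgroup.zpowers y := by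
    intro d hd e he
    have hyc : (swap d e * x * (swap d e)⁻¹).IsCycle := hxc.conj
    have hys : (swap d e * x * (swap d e)⁻¹).support = s := by
      ext p
      rw [support_conj, Finset.mem_map_equiv, hxs, Equiv.symm_swap]
      rcases eq_or_ne p d with rfl | h1
      · rw [swap_apply_left]; exact iff_of_true he hd
      rcases eq_or_ne p e with rfl | h2
      · rw [swap_apply_right]; exact iff_of_true hd he
      rw [swap_apply_of_ne_of_ne h1 h2]
    refine ⟨_, hyc, hys, hall _ hyc hys, ?_⟩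
    obtain ⟨i, hi⟩ := Subgroup.mem_zpowers_iff.1 (hall x hxc hxs)
    refine Subgroup.mem_zpowers_iff.2 ⟨i, ?_⟩
    rw [conj_zpow, hi, swap_inv]
  obtain ⟨a, ha⟩ : s.Nonempty := Finset.card_pos.1 (by omega)
  have hc : z a ∈ s := (hmem a).2 ha
  set c := z a with hca
  have hpair : ∀ d ∈ s, ∀ e ∈ s, d ≠ a → d ≠ c → e ≠ a → e ≠ c → e ≠ d → z d = e := by
    intro d hd e he hda hdc hea hec hed
    obtain ⟨y, hy, hys, hzy, hwy⟩ := hconj d hd e he
    have hw : swap d e * z * swap d e = z := hpow y hy hys _ _ hwy hzy a ha (by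
      rw [mul_apply, mul_apply, swap_apply_of_ne_of_ne hda.symm hea.symm, ← hca,
        swap_apply_of_ne_of_ne hdc.symm hec.symm])
    by_contra hzd
    have h := DFunLike.congr_fun hw d
    rw [mul_apply, mul_apply, swap_apply_left] at h
    have h2 : z e = z d := by
      rw [← swap_apply_self d e (z e), h, swap_apply_of_ne_of_ne (hne d hd) hzd]
    exact hed (z.injective h2)
  set T := (s.erase a).erase c
  have hT : T.card = s.card - 2 := by
    rw [Finset.card_erase_of_mem (Finset.mem_erase.2 ⟨hne a ha, hc⟩), Finset.card_erase_of_mem ha]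
    omega
  have hTmem : ∀ p ∈ T, p ∈ s ∧ p ≠ a ∧ p ≠ c := fun p hp => by
    simp only [T, Finset.mem_erase] at hp
    exact ⟨hp.2.2, hp.2.1, hp.1⟩
  obtain ⟨d, hd⟩ : T.Nonempty := Finset.card_pos.1 (by omega)
  obtain ⟨e, he⟩ : (T.erase d).Nonempty := Finset.card_pos.1 (by rw [Finset.card_erase_of_mem hd]; omega)
  obtain ⟨hed, he⟩ := Finset.mem_erase.1 he
  obtain ⟨hds, hda, hdc⟩ := hTmem d hd
  obtain ⟨hes, hea, hec⟩ := hTmem e he
  have hzd := hpair d hds e hes hda hdc hea hec hed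
  by_cases h5 : 5 ≤ s.card
  · obtain ⟨f, hf⟩ : ((T.erase d).erase e).Nonempty := Finset.card_pos.1 (by
      rw [Finset.card_erase_of_mem (Finset.mem_erase.2 ⟨hed, he⟩), Finset.card_erase_of_mem hd]; omega)
    simp only [Finset.mem_erase] at hf
    obtain ⟨hfe, hfd, hf⟩ := hf
    obtain ⟨hfs, hfa, hfc⟩ := hTmem f hf
    exact hfe ((hpair d hds f hfs hda hdc hfa hfc hfd).symm.trans hzd)
  -- four points
  have hze := hpair e hes d hds hea hec hda hdc hed.symm
  have hs4 : ({a, c, d, e} : Finset β) = s := by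
    refine Finset.eq_of_subset_of_card_le ?_ ?_
    · intro p hp
      simp only [Finset.mem_insert, Finset.mem_singleton] at hp
      rcases hp with rfl | rfl | rfl | rfl <;> assumption
    · have h4 : ({a, c, d, e} : Finset β).card = 4 := by
        rw [Finset.card_insert_of_notMem, Finset.card_insert_of_notMem, Finset.card_pair hed.symm]
        · simp [hdc.symm, hec.symm]
        · simp [(hne a ha).symm, hda.symm, hea.symm, hca]
      omega
  have hzc : z c = a := by
    have h := (hmem c).2 hc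
    rw [← hs4] at h
    simp only [Finset.mem_insert, Finset.mem_singleton] at h
    rcases h with h | h | h | h
    · exact h
    · exact absurd h (hne c hc)
    · exact absurd (z.injective (h.trans hze.symm)) hec.symm
    · exact absurd (z.injective (h.trans hzd.symm)) hdc.symm
  obtain ⟨y, hy, hys, hzy, hwy⟩ := hconj c hc d hds
  have hinv : ∀ u v : Perm β, u ∈ Subgroup.zpowers y → v ∈ Subgroup.zpowers y → u * u = 1 → v * v = 1 →
      u ≠ 1 → v ≠ 1 → u = v := by
    intro u v hu hv huu hvv hu1 hv1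
    have ho : orderOf y = 4 := by rw [hy.orderOf, hys]; omega
    rw [← mem_powers_iff_mem_zpowers, Submonoid.mem_powers_iff] at hu hv
    obtain ⟨i, rfl⟩ := hu
    obtain ⟨j, rfl⟩ := hv
    rw [← pow_add, ← orderOf_dvd_iff_pow_eq_one, ho] at huu hvv
    rw [Ne, ← orderOf_dvd_iff_pow_eq_one, ho] at hu1 hv1
    rw [pow_eq_pow_iff_modEq, ho, Nat.ModEq]
    omega
  have hwfix : ∀ p, p ∉ s → swap c d p = p := fun p hp => swap_apply_of_ne_of_ne (fun h => hp (h ▸ hc)) (fun h => hp (h ▸ hds))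
  have hzz : z * z = 1 := hpow x hxc hxs _ _ (mul_mem (hall x hxc hxs) (hall x hxc hxs)) (one_mem _) a ha
    (by rw [mul_apply, ← hca, hzc, one_apply])
  have hw1 : swap c d * z * swap c d ≠ 1 := by
    intro h
    have := DFunLike.congr_fun h a
    rw [mul_apply, mul_apply, swap_apply_of_ne_of_ne (hne a ha).symm hda.symm, ← hca, swap_apply_left] at this
    exact hda this
  have h := hinv z _ hzy hwy hzz (by simp only [mul_assoc, swap_mul_self_mul]; rw [← mul_assoc z, hzz, one_mul, swap_mul_self]) hz hw1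
  have := DFunLike.congr_fun h a
  rw [mul_apply, mul_apply, swap_apply_of_ne_of_ne (hne a ha).symm hda.symm, ← hca, swap_apply_left] at this
  exact hdc this.symm

/-- permutations preserving a finite set -/
def preserver {β : Type*} (s : Finset β) : Subgroup (Equiv.Perm β) where
  carrier := {g | ∀ a, g a ∈ s ↔ a ∈ s}
  one_mem' := fun _ => Iff.rfl
  mul_mem' := fun {g h} hg hh a => (hg (h a)).trans (hh a)
  inv_mem' := fun {g} hg a => by
    have := hg (g⁻¹ a)
    rw [← Equiv.Perm.mul_apply, mul_inv_cancel, Equiv.Perm.one_apply] at this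
    exact this.symm

open Equiv Equiv.Perm in
theorem key {β : Type*} [Fintype β] [DecidableEq β] {G : Type*} [Group G] (ι : G →* Perm β)
    (hι : Function.Injective ι) (m : ℕ) (hm : 3 ≤ m) (hmn : m ≤ Fintype.card β)
    (hin : ∀ y : Perm β, y.IsCycle → y.support.card = m → ∃ g : G, ι g = y)
    (hcent : ∀ g : G, ∀ x : Perm β, x.IsCycle → x.support.card = m → Commute (ι g) x →
      ι g ∈ Subgroup.zpowers x)
    (R : Finset (Subgroup G)) (hRtop : ∀ r ∈ R, r ≠ ⊤)
    (hR : ∀ A : Subgroup G, Group.IsNilpotent A → ∀ g ∈ A, (ι g).IsCycle → (ι g).support.card = m →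
      ∃ r ∈ R, A ≤ r)
    (hcard : R.card < (Finset.univ.powersetCard m : Finset (Finset β)).card ∨
      (4 ≤ m ∧ R.card ≤ (Finset.univ.powersetCard m : Finset (Finset β)).card)) :
    ¬ ∃ 𝓐 : Finset (Subgroup G), ((∀ A ∈ 𝓐, A ≠ ⊤) ∧ (∀ g : G, ∃ A ∈ 𝓐, g ∈ A)) ∧
      (∀ 𝓑 : Finset (Subgroup G), (∀ A ∈ 𝓑, A ≠ ⊤) ∧ (∀ g : G, ∃ A ∈ 𝓑, g ∈ A) → 𝓐.card ≤ 𝓑.card) ∧
      (∀ A ∈ 𝓐, Group.IsNilpotent ↥A) := by
  classical
  rintro ⟨𝓐, ⟨htop, hcov⟩, hmin, hnil⟩
  set X := 𝓐.filter (fun A => ∃ g ∈ A, (ι g).IsCycle ∧ (ι g).support.card = m) with hX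
  -- the minimal cover has at most as many such members as there are members in `R`
  have hXR : X.card ≤ R.card := by
    have hnew : (∀ A ∈ (𝓐 \ X) ∪ R, A ≠ ⊤) ∧ (∀ g : G, ∃ A ∈ (𝓐 \ X) ∪ R, g ∈ A) := by
      refine ⟨fun A hA => ?_, fun g => ?_⟩
      · rcases Finset.mem_union.1 hA with h | h
        · exact htop A (Finset.mem_sdiff.1 h).1
        · exact hRtop A h
      · obtain ⟨A, hA, hg⟩ := hcov g
        by_cases hAX : A ∈ X
        · obtain ⟨x, hx, hx1, hx2⟩ := (Finset.mem_filter.1 hAX).2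
          obtain ⟨r, hr, hle⟩ := hR A (hnil A hA) x hx hx1 hx2
          exact ⟨r, Finset.mem_union_right _ hr, hle hg⟩
        · exact ⟨A, Finset.mem_union_left _ (Finset.mem_sdiff.2 ⟨hA, hAX⟩), hg⟩
    have h1 := (hmin _ hnew).trans (Finset.card_union_le _ _)
    rw [Finset.card_sdiff_of_subset (Finset.filter_subset _ _)] at h1
    have := Finset.card_le_card (Finset.filter_subset (fun A : Subgroup G => ∃ g ∈ A, (ι g).IsCycle ∧ (ι g).support.card = m) 𝓐)
    rw [← hX] at this h1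
    omega
  -- the support attached to a member
  let supp : Subgroup G → Finset β := fun A =>
    if h : ∃ g ∈ A, (ι g).IsCycle ∧ (ι g).support.card = m then (ι h.choose).support else ∅
  have hsupp : ∀ A ∈ 𝓐, ∀ g ∈ A, (ι g).IsCycle → (ι g).support.card = m → supp A = (ι g).support := by
    intro A hA g hg h1 h2
    have h : ∃ g ∈ A, (ι g).IsCycle ∧ (ι g).support.card = m := ⟨g, hg, h1, h2⟩
    simp only [supp, dif_pos h]
    obtain ⟨hg', h1', h2'⟩ := h.choose_spec
    have hA1 : A ≠ ⊥ := fun e => h1.ne_one (by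
      rw [e, Subgroup.mem_bot] at hg
      rw [hg, map_one])
    obtain ⟨z, -, -, hz⟩ := central_power ι hι A (hnil A hA) hA1 m hcent
    rw [← (hz _ hg' h1' h2').2, ← (hz g hg h1 h2).2]
  have hexists : ∀ t ∈ (Finset.univ.powersetCard m : Finset (Finset β)), ∃ y : Perm β, y.IsCycle ∧ y.support = t := by
    intro t ht
    rw [Finset.mem_powersetCard] at ht
    have hlen : t.toList.length = m := by rw [Finset.length_toList, ht.2]
    refine ⟨t.toList.formPerm, List.isCycle_formPerm t.nodup_toList (by omega), ?_⟩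
    rw [List.support_formPerm_of_nodup _ t.nodup_toList (fun a h => by rw [h, List.length_singleton] at hlen; omega)]
    simp
  have himg : (Finset.univ.powersetCard m : Finset (Finset β)) ⊆ X.image supp := by
    intro t ht
    obtain ⟨y, hy, hyt⟩ := hexists t ht
    have hyc : y.support.card = m := hyt ▸ (Finset.mem_powersetCard.1 ht).2
    obtain ⟨g, rfl⟩ := hin y hy hyc
    obtain ⟨A, hA, hg⟩ := hcov g
    exact Finset.mem_image.2 ⟨A, Finset.mem_filter.2 ⟨hA, g, hg, hy, hyc⟩, (hsupp A hA g hg hy hyc).trans hyt⟩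
  have hPX := (Finset.card_le_card himg).trans Finset.card_image_le
  rcases hcard with h | ⟨h4, h⟩
  · omega
  have hinj : Set.InjOn supp X := Finset.injOn_of_card_image_eq
    (le_antisymm Finset.card_image_le ((hXR.trans h).trans (Finset.card_le_card himg)))
  obtain ⟨t, ht⟩ : (Finset.univ.powersetCard m : Finset (Finset β)).Nonempty :=
    Finset.powersetCard_nonempty.2 (by rwa [Finset.card_univ])
  obtain ⟨x, hx, hxt⟩ := hexists t ht
  have htm := (Finset.mem_powersetCard.1 ht).2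
  obtain ⟨g, hg⟩ := hin x hx (hxt ▸ htm)
  subst hg
  obtain ⟨A, hA, hgA⟩ := hcov g
  have hA1 : A ≠ ⊥ := fun e => hx.ne_one (by
    rw [e, Subgroup.mem_bot] at hgA
    rw [hgA, map_one])
  obtain ⟨z, hz1, -, hz⟩ := central_power ι hι A (hnil A hA) hA1 m hcent
  refine no_common_power t (by omega) _ z hx hxt hz1 fun y hy hyt => ?_
  have hyc : y.support.card = m := hyt ▸ htm
  obtain ⟨g', rfl⟩ := hin y hy hyc
  obtain ⟨A', hA', hgA'⟩ := hcov g'
  have hxc : (ι g).support.card = m := hxt ▸ htm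
  have hAA : A' = A := hinj (Finset.mem_filter.2 ⟨hA', g', hgA', hy, hyc⟩)
    (Finset.mem_filter.2 ⟨hA, g, hgA, hx, hxc⟩)
    (by rw [hsupp A' hA' g' hgA' hy hyc, hsupp A hA g hgA hx hxc, hxt, hyt])
  exact (hz g' (hAA ▸ hgA') hy hyc).1

open Equiv Equiv.Perm in
theorem stabilisers {β : Type*} [Fintype β] [DecidableEq β] {G : Type*} [Group G] (ι : G →* Perm β)
    (hι : Function.Injective ι) (m : ℕ) (hm : 4 ≤ m) (hmn : m < Fintype.card β)
    (hin : ∀ y : Perm β, y.IsCycle → y.support.card = m → ∃ g : G, ι g = y)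
    (hcent : ∀ g : G, ∀ x : Perm β, x.IsCycle → x.support.card = m → Commute (ι g) x →
      ι g ∈ Subgroup.zpowers x)
    (hmove : ∀ s : Finset β, s.card = m → ∃ g : G, ι g ∉ preserver s) :
    ¬ ∃ 𝓐 : Finset (Subgroup G), ((∀ A ∈ 𝓐, A ≠ ⊤) ∧ (∀ g : G, ∃ A ∈ 𝓐, g ∈ A)) ∧
      (∀ 𝓑 : Finset (Subgroup G), (∀ A ∈ 𝓑, A ≠ ⊤) ∧ (∀ g : G, ∃ A ∈ 𝓑, g ∈ A) → 𝓐.card ≤ 𝓑.card) ∧
      (∀ A ∈ 𝓐, Group.IsNilpotent ↥A) := by
  classical
  refine key ι hι m (by omega) hmn.le hin hcent
    ((Finset.univ.powersetCard m).image fun s => (preserver s).comap ι) ?_ ?_ (Or.inr ⟨hm, Finset.card_image_le⟩)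
  · intro r hr htop
    obtain ⟨s, hs, rfl⟩ := Finset.mem_image.1 hr
    obtain ⟨g, hg⟩ := hmove s (Finset.mem_powersetCard.1 hs).2
    exact hg (Subgroup.mem_comap.1 (htop ▸ Subgroup.mem_top g))
  · intro A hA g hg h1 h2
    refine ⟨_, Finset.mem_image.2 ⟨(ι g).support, Finset.mem_powersetCard.2 ⟨Finset.subset_univ _, h2⟩, rfl⟩, ?_⟩
    have hA1 : A ≠ ⊥ := fun e => h1.ne_one (by
      rw [e, Subgroup.mem_bot] at hg
      rw [hg, map_one])
    obtain ⟨z, -, hcomm, hz⟩ := central_power ι hι A hA hA1 m hcent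
    intro h hh a
    rw [← (hz g hg h1 h2).2]
    exact mem_support_iff_of_commute (hcomm h hh).symm a

open Equiv Equiv.Perm in
theorem cent_alt {n m : ℕ} (hm : n ≤ m + 2) (g : alternatingGroup (Fin n)) (x : Perm (Fin n)) (hx : x.IsCycle)
    (hc : x.support.card = m) (hxe : sign x = 1) (hcomm : Commute ((g : Perm (Fin n))) x) :
    (g : Perm (Fin n)) ∈ Subgroup.zpowers x := by
  obtain ⟨i, hi⟩ := commute_cycle hx hcomm
  have h2 : ((g : Perm (Fin n)) * (x ^ i)⁻¹).support.card ≤ 2 := by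
    refine (Finset.card_le_card hi).trans ?_
    rw [Finset.card_compl, Fintype.card_fin, hc]
    omega
  have h1 : (g : Perm (Fin n)) * (x ^ i)⁻¹ = 1 := by
    rcases Nat.lt_or_ge ((g : Perm (Fin n)) * (x ^ i)⁻¹).support.card 2 with h | h
    · exact card_support_le_one.1 (by omega)
    · have hsw := card_support_eq_two.1 (le_antisymm h2 h)
      have := hsw.sign_eq
      rw [map_mul, map_inv, map_pow, hxe, Equiv.Perm.mem_alternatingGroup.1 g.2, one_pow, inv_one, one_mul] at this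
      exact absurd this (by decide)
  rw [mul_inv_eq_one] at h1
  exact h1 ▸ Subgroup.npow_mem_zpowers x i

open Equiv Equiv.Perm in
theorem cent_sym {n m : ℕ} (hm : n ≤ m + 1) (g x : Perm (Fin n)) (hx : x.IsCycle)
    (hc : x.support.card = m) (hcomm : Commute g x) : g ∈ Subgroup.zpowers x := by
  obtain ⟨i, hi⟩ := commute_cycle hx hcomm
  have h1 : g * (x ^ i)⁻¹ = 1 := card_support_le_one.1 ((Finset.card_le_card hi).trans (by
    rw [Finset.card_compl, Fintype.card_fin, hc]
    omega))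
  rw [mul_inv_eq_one] at h1
  exact h1 ▸ Subgroup.npow_mem_zpowers x i

open Equiv Equiv.Perm in
theorem cycle_even {β : Type*} [Fintype β] [DecidableEq β] {x : Perm β} (hx : x.IsCycle) (h : Odd x.support.card) :
    sign x = 1 := by
  rw [hx.sign, h.neg_one_pow, neg_neg]

open Equiv Equiv.Perm in
theorem member_cyclic {β : Type*} [Fintype β] [DecidableEq β] {G : Type*} [Group G] (ι : G →* Perm β)
    (hι : Function.Injective ι)
    (hcent : ∀ g : G, ∀ x : Perm β, x.IsCycle → x.support.card = 3 → Commute (ι g) x →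
      ι g ∈ Subgroup.zpowers x)
    (A : Subgroup G) (hA : Group.IsNilpotent A) {g : G} (hg : g ∈ A) (h1 : (ι g).IsCycle)
    (h2 : (ι g).support.card = 3) : ∀ h ∈ A, ι h ∈ Subgroup.zpowers (ι g) := by
  have hA1 : A ≠ ⊥ := fun e => h1.ne_one (by
    rw [e, Subgroup.mem_bot] at hg
    rw [hg, map_one])
  obtain ⟨z, hz1, hcomm, hz⟩ := central_power ι hι A hA hA1 3 hcent
  intro h hh
  refine hcent h _ h1 h2 ?_
  have hmem := (hz g hg h1 h2).1
  obtain ⟨i, hi⟩ := Subgroup.mem_zpowers_iff.1 hmem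
  haveI : Fact (Nat.Prime 3) := ⟨Nat.prime_three⟩
  have hcard : Nat.card (Subgroup.zpowers (ι g)) = 3 := by rw [Nat.card_zpowers, h1.orderOf, h2]
  have hgen : Subgroup.zpowers z = Subgroup.zpowers (ι g) := by
    refine Subgroup.eq_of_le_of_card_ge (Subgroup.zpowers_le.2 hmem) ?_
    have hdvd := Subgroup.card_dvd_of_le (Subgroup.zpowers_le.2 hmem)
    rw [hcard] at hdvd ⊢
    rcases (Nat.dvd_prime Nat.prime_three).1 hdvd with h | h
    · exact absurd (orderOf_eq_one_iff.1 (by rwa [← Nat.card_zpowers])) hz1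
    · omega
  have : ι g ∈ Subgroup.zpowers z := hgen ▸ Subgroup.mem_zpowers _
  obtain ⟨j, hj⟩ := Subgroup.mem_zpowers_iff.1 this
  rw [← hj]
  exact (hcomm h hh).symm.zpow_right j

/-- A cover of a group is a finite set of proper subgroups whose union is the whole group; it is minimal when no cover has fewer members, and nilpotent when all its members are nilpotent. The alternating groups of degree at least 5 and the symmetric groups of degree at least 4 have no nilpotent minimal cover. -/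
theorem result (n : ℕ) :
    (5 ≤ n → ¬ ∃ 𝓐 : Finset (Subgroup ↥(alternatingGroup (Fin n))), ((∀ A ∈ 𝓐, A ≠ ⊤) ∧ (∀ g : ↥(alternatingGroup (Fin n)), ∃ A ∈ 𝓐, g ∈ A)) ∧ (∀ 𝓑 : Finset (Subgroup ↥(alternatingGroup (Fin n))), (∀ A ∈ 𝓑, A ≠ ⊤) ∧ (∀ g : ↥(alternatingGroup (Fin n)), ∃ A ∈ 𝓑, g ∈ A) → 𝓐.card ≤ 𝓑.card) ∧ (∀ A ∈ 𝓐, Group.IsNilpotent ↥A)) ∧
    (4 ≤ n → ¬ ∃ 𝓐 : Finset (Subgroup (Equiv.Perm (Fin n))), ((∀ A ∈ 𝓐, A ≠ ⊤) ∧ (∀ g : (Equiv.Perm (Fin n)), ∃ A ∈ 𝓐, g ∈ A)) ∧ (∀ 𝓑 : Finset (Subgroup (Equiv.Perm (Fin n))), (∀ A ∈ 𝓑, A ≠ ⊤) ∧ (∀ g : (Equiv.Perm (Fin n)), ∃ A ∈ 𝓑, g ∈ A) → 𝓐.card ≤ 𝓑.card) ∧ (∀ A ∈ 𝓐, Group.IsNilpotent ↥A)) := by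
  classical
  open Equiv Equiv.Perm in
  constructor
  · intro hn
    have hι : Function.Injective ((alternatingGroup (Fin n)).subtype) := Subtype.val_injective
    have hin : ∀ m, Odd m → ∀ y : Perm (Fin n), y.IsCycle → y.support.card = m →
        ∃ g : alternatingGroup (Fin n), (alternatingGroup (Fin n)).subtype g = y := fun m hm y hy hc =>
      ⟨⟨y, Equiv.Perm.mem_alternatingGroup.2 (cycle_even hy (hc ▸ hm))⟩, rfl⟩
    have hcent : ∀ m, Odd m → n ≤ m + 2 → ∀ g : alternatingGroup (Fin n), ∀ x : Perm (Fin n), x.IsCycle →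
        x.support.card = m → Commute ((alternatingGroup (Fin n)).subtype g) x →
        (alternatingGroup (Fin n)).subtype g ∈ Subgroup.zpowers x := fun m hm hm2 g x hx hc h =>
      cent_alt hm2 g x hx hc (cycle_even hx (hc ▸ hm)) h
    rcases Nat.lt_or_ge n 6 with h6 | h6
    · obtain rfl : n = 5 := by omega
      refine key _ hι 3 le_rfl (by simp) (hin 3 (by decide)) (hcent 3 (by decide) le_rfl)
        (Finset.univ.image fun a : Fin 5 => MulAction.stabilizer (alternatingGroup (Fin 5)) a) ?_ ?_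
        (Or.inl ((Finset.card_image_le).trans_lt (by rw [Finset.card_powersetCard]; decide)))
      · intro r hr htop
        obtain ⟨a, -, rfl⟩ := Finset.mem_image.1 hr
        have h0 : ∀ a : Fin 5, ∃ g : alternatingGroup (Fin 5), (g : Perm (Fin 5)) a ≠ a := by
          intro a
          refine ⟨⟨swap a (a + 1) * swap (a + 1) (a + 2), Equiv.Perm.mem_alternatingGroup.2 ?_⟩, ?_⟩
          · revert a; decide
          · revert a; decide
        obtain ⟨g, hg⟩ := h0 a
        exact hg (MulAction.mem_stabilizer_iff.1 (htop ▸ Subgroup.mem_top g))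
      · intro A hA g hg h1 h2
        obtain ⟨a, ha⟩ : ∃ a : Fin 5, a ∉ ((alternatingGroup (Fin 5)).subtype g).support := by
          by_contra hh
          push Not at hh
          rw [Finset.eq_univ_iff_forall.2 hh] at h2
          simp at h2
        refine ⟨_, Finset.mem_image.2 ⟨a, Finset.mem_univ a, rfl⟩, fun h hh => ?_⟩
        obtain ⟨i, hi⟩ := Subgroup.mem_zpowers_iff.1
          (member_cyclic _ hι (hcent 3 (by decide) le_rfl) A hA hg h1 h2 h hh)
        rw [MulAction.mem_stabilizer_iff]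
        show (h : Perm (Fin 5)) a = a
        rw [show (h : Perm (Fin 5)) = ((alternatingGroup (Fin 5)).subtype g) ^ i from hi.symm]
        exact notMem_support.1 fun h' => ha (support_zpow_le _ i h')
    · obtain ⟨m, hm, hm2, hmn⟩ : ∃ m, Odd m ∧ n ≤ m + 2 ∧ m < n := by
        rcases Nat.even_or_odd n with ⟨k, rfl⟩ | ⟨k, rfl⟩
        · exact ⟨k + k - 1, ⟨k - 1, by omega⟩, by omega, by omega⟩
        · exact ⟨2 * k - 1, ⟨k - 1, by omega⟩, by omega, by omega⟩
      refine stabilisers _ hι m (by omega) (by simpa using hmn) (hin m hm) (hcent m hm hm2) fun s hs => ?_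
      obtain ⟨a, ha⟩ : ∃ a, a ∈ s := Finset.card_pos.1 (by omega) |>.exists_mem
      obtain ⟨b, hb⟩ : ∃ b, b ∈ sᶜ := (Finset.card_pos.1 (by rw [Finset.card_compl, Fintype.card_fin]; omega)).exists_mem
      rw [Finset.mem_compl] at hb
      obtain ⟨c, hc⟩ : ∃ c, c ∈ s.erase a := (Finset.card_pos.1 (by rw [Finset.card_erase_of_mem ha]; omega)).exists_mem
      obtain ⟨hca, hcs⟩ := Finset.mem_erase.1 hc
      have hab : a ≠ b := fun h => hb (h ▸ ha)
      have hcb : c ≠ b := fun h => hb (h ▸ hcs)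
      refine ⟨⟨swap a b * swap a c, Equiv.Perm.mem_alternatingGroup.2 ?_⟩, fun h => hb ?_⟩
      · rw [map_mul, sign_swap hab, sign_swap hca.symm]; decide
      · have h' := (h c).2 hcs
        simp only [Subgroup.coe_subtype, mul_apply, swap_apply_right, swap_apply_left] at h'
        exact h'
  · intro hn
    rcases Nat.lt_or_ge n 5 with h5 | h5
    · obtain rfl : n = 4 := by omega
      refine key (MonoidHom.id (Perm (Fin 4))) Function.injective_id 3 le_rfl (by simp)
        (fun y _ _ => ⟨y, rfl⟩) (fun g x hx hc h => cent_sym le_rfl g x hx hc h) {alternatingGroup (Fin 4)} ?_ ?_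
        (Or.inl (by rw [Finset.card_powersetCard]; decide))
      · intro r hr htop
        rw [Finset.mem_singleton] at hr
        subst hr
        have h := htop ▸ Subgroup.mem_top (swap (0 : Fin 4) 1)
        rw [Equiv.Perm.mem_alternatingGroup] at h
        exact absurd h (by decide)
      · intro A hA g hg h1 h2
        refine ⟨_, Finset.mem_singleton_self _, fun h hh => ?_⟩
        have hmem := member_cyclic (MonoidHom.id (Perm (Fin 4))) Function.injective_id
          (fun g x hx hc h => cent_sym le_rfl g x hx hc h) A hA hg h1 h2 h hh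
        simp only [MonoidHom.id_apply] at hmem h1 h2
        refine (Subgroup.zpowers_le.2 ?_) hmem
        exact Equiv.Perm.mem_alternatingGroup.2 (cycle_even h1 (h2 ▸ (by decide : Odd 3)))
    · refine stabilisers (MonoidHom.id (Perm (Fin n))) Function.injective_id (n - 1) (by omega)
        (by simp; omega) (fun y _ _ => ⟨y, rfl⟩) (fun g x hx hc h => cent_sym (by omega) g x hx hc h) fun s hs => ?_
      obtain ⟨a, ha⟩ : ∃ a, a ∈ s := Finset.card_pos.1 (by omega) |>.exists_mem
      obtain ⟨b, hb⟩ : ∃ b, b ∈ sᶜ := (Finset.card_pos.1 (by rw [Finset.card_compl, Fintype.card_fin]; omega)).exists_mem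
      rw [Finset.mem_compl] at hb
      refine ⟨swap a b, fun h => hb ?_⟩
      have h' := (h a).2 ha
      simpa using h'

end Cfsg.Agent.S3892
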