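import Cfsg.Statements.S3893
import Cfsg.Agent.SolvStruct.NilpotentCover
import Cfsg.Agent.Suz.Lie
import Cfsg.Agent.Suz.Partition
import Cfsg.Agent.Coprime.SolvableBasics

set_option autoImplicit false
open Cfsg

namespace Cfsg.Agent.S3893

/-- A cover of a group is a finite set of proper subgroups whose union is the whole group; it is minimal when no cover has fewer members, and nilpotent when all its members are nilpotent. The Suzuki groups Sz(q), q = 2^(2m+1) with m ≥ 1, have no nilpotent minimal cover. -/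
theorem result {F : Type*} [Field F] [Fintype F] (m : ℕ) (hm : 1 ≤ m) (hF : Fintype.card F = 2 ^ (2 * m + 1)) :
    ¬ ∃ 𝓐 : Finset (Subgroup ↥(Cfsg.Lie.Sz F (2 ^ (m + 1)))), ((∀ A ∈ 𝓐, A ≠ ⊤) ∧ (∀ g : ↥(Cfsg.Lie.Sz F (2 ^ (m + 1))), ∃ A ∈ 𝓐, g ∈ A)) ∧ (∀ 𝓑 : Finset (Subgroup ↥(Cfsg.Lie.Sz F (2 ^ (m + 1)))), (∀ A ∈ 𝓑, A ≠ ⊤) ∧ (∀ g : ↥(Cfsg.Lie.Sz F (2 ^ (m + 1))), ∃ A ∈ 𝓑, g ∈ A) → 𝓐.card ≤ 𝓑.card) ∧ (∀ A ∈ 𝓐, Group.IsNilpotent ↥A) := by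
  classical
  have Q : Cfsg.Lib.Suz.Par F m := ⟨hm, hF⟩
  haveI := Cfsg.Lib.Suz.finite_Sz (F := F) (m := m)
  haveI := Cfsg.Lib.Suz.simple Q
  set e := Cfsg.Lib.Suz.lieEquiv Q with he
  set U := Cfsg.Lib.Suz.uSub Q with hUdef
  set H := (Cfsg.Lib.Suz.hHom Q).range with hHdef
  set B := Subgroup.normalizer (U : Set (Cfsg.Sz F m)) with hBdef
  have hcen : ∀ (K : Subgroup (Cfsg.Sz F m)),
      (∀ x ∈ K, x ≠ 1 → Subgroup.centralizer ({x} : Set (Cfsg.Sz F m)) ≤ K) →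
      ∀ x ∈ K.map e.toMonoidHom, x ≠ 1 →
        Subgroup.centralizer ({x} : Set ↥(Cfsg.Lie.Sz F (2 ^ (m + 1)))) ≤ K.map e.toMonoidHom := by
    rintro K hK _ ⟨y, hy, rfl⟩ hy1 z hz
    obtain ⟨w, rfl⟩ := e.surjective z
    refine ⟨w, hK y hy (fun h => hy1 (by rw [h, map_one])) (Subgroup.mem_centralizer_singleton_iff.2
      (e.injective ?_)), rfl⟩
    rw [map_mul, map_mul]
    exact Subgroup.mem_centralizer_singleton_iff.1 hz
  have hU : ∀ x ∈ U, x ≠ 1 → Subgroup.centralizer ({x} : Set (Cfsg.Sz F m)) ≤ U := fun x hx hx1 g hg =>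
    Cfsg.Lib.Suz.cent_uu Q hx hx1 (Subgroup.mem_centralizer_singleton_iff.1 hg)
  have hH : ∀ x ∈ H, x ≠ 1 → Subgroup.centralizer ({x} : Set (Cfsg.Sz F m)) ≤ H := by
    rintro _ ⟨k, rfl⟩ hk g hg
    exact Cfsg.Lib.Suz.cent_hI Q (fun h => hk (by rw [h, map_one]))
      (Subgroup.mem_centralizer_singleton_iff.1 hg)
  obtain ⟨k, hk⟩ := Cfsg.Lib.Suz.exists_unit_ne_one Q
  have hk1 : Cfsg.Lib.Suz.hHom Q k ≠ 1 := fun h =>
    hk (Cfsg.Lib.Suz.hHom_injective Q (h.trans (map_one _).symm))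
  have hu1 : Cfsg.Lib.Suz.uu Q (1 : F) 0 ≠ 1 := fun h =>
    one_ne_zero (Cfsg.Lib.Suz.uu_inj Q (h.trans (Cfsg.Lib.Suz.uu_zero Q).symm)).1
  have hUH : U ⊓ H = ⊥ := by
    refine Cfsg.Lib.Coprime.inf_eq_bot_of_coprime ?_
    rw [hUdef, hHdef, Cfsg.Lib.Suz.card_uSub Q, (Cfsg.Lib.Suz.range_data Q).2, ← pow_mul]
    refine Nat.Coprime.pow_left _ (Nat.prime_two.coprime_iff_not_dvd.2 fun h => ?_)
    have h2 : 2 ∣ 2 ^ (2 * m + 1) := dvd_pow_self 2 (by omega)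
    have := Nat.dvd_sub h2 h
    rw [Nat.sub_sub_self (Nat.one_le_two_pow)] at this
    norm_num at this
  have hB : B ≠ ⊤ := fun h => by
    rw [hBdef, Subgroup.normalizer_eq_top_iff] at h
    rcases IsSimpleGroup.eq_bot_or_eq_top_of_normal U h with h' | h'
    · have := Cfsg.Lib.Suz.uu_mem Q (1 : F) 0
      rw [← hUdef, h', Subgroup.mem_bot] at this
      exact hu1 this
    · have hmem : Cfsg.Lib.Suz.hHom Q k ∈ U ⊓ H := ⟨h' ▸ Subgroup.mem_top _, k, rfl⟩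
      rw [hUH, Subgroup.mem_bot] at hmem
      exact hk1 hmem
  have hHB : H ≤ B := by
    rintro _ ⟨l, rfl⟩
    rw [hBdef, hUdef, Cfsg.Lib.Suz.normalizer_uSub Q]
    exact Cfsg.Lib.Suz.H_inf m l
  refine Cfsg.Lib.NilpotentCover.no_cover (U := U.map e.toMonoidHom) (H := H.map e.toMonoidHom)
    (B := B.map e.toMonoidHom) ?_ (Subgroup.map_mono Subgroup.le_normalizer) (Subgroup.map_mono hHB)
    ?_ (hcen U hU) (hcen H hH) (u := e (Cfsg.Lib.Suz.uu Q (1 : F) 0))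
    (v := e (Cfsg.Lib.Suz.hHom Q k)) ⟨_, Cfsg.Lib.Suz.uu_mem Q _ _, rfl⟩
    (fun h => hu1 (e.injective (h.trans (map_one e).symm))) ⟨_, ⟨k, rfl⟩, rfl⟩
    (fun h => hk1 (e.injective (h.trans (map_one e).symm)))
  · intro h
    refine hB ((Subgroup.map_injective (f := e.toMonoidHom) e.injective) ?_)
    rw [Subgroup.map_top_of_surjective _ e.surjective]
    exact h
  · rw [← Subgroup.map_inf _ _ e.toMonoidHom e.injective, hUH, Subgroup.map_bot]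

end Cfsg.Agent.S3893
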