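import Cfsg.Statements.S3895
import Cfsg.Agent.InvolCalc.ZStarApps
import Cfsg.Agent.Transfer.Basic
import Cfsg.Agent.Coprime.Basic
import Cfsg.Agent.Components.PComponents

set_option autoImplicit false
open Cfsg

namespace Cfsg.Agent.S3895

universe u
open Subgroup

variable {G : Type u} [Group G] [Finite G]

/-- The classes of `2`-elements. -/
abbrev Cl (G : Type u) [Group G] : Type u := {c : ConjClasses G // ∀ x ∈ c.carrier, ∃ k : ℕ, orderOf x = 2 ^ k}

theorem two_of_isConj {a b : G} (h : IsConj a b) (ha : ∃ k : ℕ, orderOf a = 2 ^ k) : ∃ k : ℕ, orderOf b = 2 ^ k := by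
  obtain ⟨g, rfl⟩ := isConj_iff.1 h
  rwa [show orderOf (g * a * g⁻¹) = orderOf a from (MulAut.conj g).orderOf_eq a]

def clMk (a : G) (ha : ∃ k : ℕ, orderOf a = 2 ^ k) : Cl G :=
  ⟨ConjClasses.mk a, fun _ hx => two_of_isConj (ConjClasses.mk_eq_mk_iff_isConj.1 (ConjClasses.mem_carrier_iff_mk_eq.1 hx).symm) ha⟩

theorem two_of_mem {P : Sylow 2 G} {a : G} (ha : a ∈ (P : Subgroup G)) : ∃ k : ℕ, orderOf a = 2 ^ k := by
  obtain ⟨k, hk⟩ := IsPGroup.iff_orderOf.1 P.2 ⟨a, ha⟩
  exact ⟨k, by rwa [Subgroup.orderOf_mk] at hk⟩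

theorem exists_rep (P : Sylow 2 G) (c : Cl G) : ∃ a ∈ (P : Subgroup G), ConjClasses.mk a = c.1 := by
  obtain ⟨c, hc⟩ := c
  obtain ⟨x, rfl⟩ := ConjClasses.mk_surjective c
  obtain ⟨k, hk⟩ := hc x ConjClasses.mem_carrier_mk
  obtain ⟨R, hR⟩ := (IsPGroup.of_card (p := 2) (n := k) (show Nat.card (zpowers x) = 2 ^ k by rw [Nat.card_zpowers, hk])).exists_le_sylow
  obtain ⟨g, hg⟩ := MulAction.exists_smul_eq G R P
  refine ⟨g * x * g⁻¹, ?_, ConjClasses.mk_eq_mk_iff_isConj.2 (isConj_iff.2 ⟨g, rfl⟩).symm⟩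
  rw [← hg, Sylow.coe_subgroup_smul]
  exact ⟨x, hR (mem_zpowers x), rfl⟩

/-- The classes of `2`-elements in the quotient by an odd normal subgroup. -/
theorem card_le_quotient (N : Subgroup G) [N.Normal] (hN : (Nat.card N).Coprime 2) :
    Nat.card (Cl G) ≤ Nat.card (Cl (G ⧸ N)) := by
  classical
  have hord : ∀ a : G, (∃ k : ℕ, orderOf a = 2 ^ k) → ∀ n : ℕ, a ^ n ∈ N → a ^ n = 1 := by
    rintro a ⟨k, hk⟩ n hn
    refine orderOf_eq_one_iff.1 (Nat.eq_one_of_dvd_coprimes (hN.pow_right k) ?_ ?_)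
    · rw [← Subgroup.orderOf_mk (a ^ n) hn]; exact orderOf_dvd_natCard _
    · rw [← hk]; exact orderOf_pow_dvd n
  have hrep : ∀ c : Cl G, ∃ a : G, (∃ k : ℕ, orderOf a = 2 ^ k) ∧ ConjClasses.mk a = c.1 := fun c => by
    obtain ⟨a, ha⟩ := ConjClasses.mk_surjective c.1
    exact ⟨a, c.2 a (ha ▸ ConjClasses.mem_carrier_mk), ha⟩
  choose r hr2 hrc using hrep
  have him : ∀ a : G, (∃ k : ℕ, orderOf a = 2 ^ k) → ∃ k : ℕ, orderOf (QuotientGroup.mk' N a) = 2 ^ k := by
    rintro a ⟨k, hk⟩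
    obtain ⟨j, -, hj⟩ := (Nat.dvd_prime_pow Nat.prime_two).1 (hk ▸ orderOf_map_dvd (QuotientGroup.mk' N) a)
    exact ⟨j, hj⟩
  refine Nat.card_le_card_of_injective (fun c => clMk (QuotientGroup.mk' N (r c)) (him _ (hr2 c))) fun c d hcd => ?_
  have h1 : IsConj (QuotientGroup.mk' N (r c)) (QuotientGroup.mk' N (r d)) :=
    ConjClasses.mk_eq_mk_iff_isConj.1 (congrArg Subtype.val hcd)
  obtain ⟨q, hq⟩ := isConj_iff.1 h1
  obtain ⟨g, rfl⟩ := QuotientGroup.mk'_surjective N q
  set a := g * r c * g⁻¹ with ha_def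
  have ha : ∃ k : ℕ, orderOf a = 2 ^ k := two_of_isConj (isConj_iff.2 ⟨g, rfl⟩) (hr2 c)
  set b := r d with hb_def
  have hab : QuotientGroup.mk' N a = QuotientGroup.mk' N b := by rw [← hq, ha_def, map_mul, map_mul, map_inv]
  set X := (zpowers (QuotientGroup.mk' N a)).comap (QuotientGroup.mk' N) with hX
  have haX : a ∈ X := mem_zpowers (QuotientGroup.mk' N a)
  have hbX : b ∈ X := by show QuotientGroup.mk' N b ∈ zpowers (QuotientGroup.mk' N a); rw [← hab]; exact mem_zpowers _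
  -- powers are detected in the quotient
  have hinj : ∀ u : G, (∃ k : ℕ, orderOf u = 2 ^ k) → orderOf (QuotientGroup.mk' N u) = orderOf u := fun u hu => by
    refine Nat.dvd_antisymm (orderOf_map_dvd _ u) (orderOf_dvd_of_pow_eq_one (hord u hu _ ?_))
    rw [← QuotientGroup.eq_one_iff, QuotientGroup.mk_pow]
    exact pow_orderOf_eq_one (QuotientGroup.mk' N u)
  have hsyl : ∀ u, u ∈ X → (∃ k : ℕ, orderOf u = 2 ^ k) → orderOf (QuotientGroup.mk' N u) = orderOf (QuotientGroup.mk' N a) →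
      ∃ T : Sylow 2 ↥X, (T : Subgroup ↥X) = (zpowers u).subgroupOf X := by
    intro u hu hu2 ho
    obtain ⟨k, hk⟩ := hu2
    refine ⟨Sylow.ofCard ((zpowers u).subgroupOf X) ?_, rfl⟩
    have hcX : Nat.card ↥X = 2 ^ k * Nat.card N := by
      have h0 : N ≤ X := fun n hn => by
        show QuotientGroup.mk' N n ∈ zpowers (QuotientGroup.mk' N a)
        rw [show QuotientGroup.mk' N n = 1 from (QuotientGroup.eq_one_iff n).2 hn]; exact one_mem _
      have hr' := Subgroup.relIndex_comap (⊥ : Subgroup (G ⧸ N)) (QuotientGroup.mk' N) X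
      rw [MonoidHom.comap_bot, QuotientGroup.ker_mk', hX,
        Subgroup.map_comap_eq_self_of_surjective (QuotientGroup.mk'_surjective N), Subgroup.relIndex_bot_left,
        Nat.card_zpowers, ← ho, hinj u ⟨k, hk⟩, hk, ← hX] at hr'
      rw [← Subgroup.relIndex_bot_left X, ← Subgroup.relIndex_mul_relIndex ⊥ N X bot_le h0, hr',
        Subgroup.relIndex_bot_left, mul_comm]
    rw [Nat.card_congr (Subgroup.subgroupOfEquivOfLe (zpowers_le.2 hu)).toEquiv, Nat.card_zpowers, hk, hcX,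
      Nat.factorization_mul (pow_ne_zero _ two_ne_zero) Nat.card_pos.ne']
    simp [Nat.prime_two.factorization_self,
      Nat.factorization_eq_zero_of_not_dvd ((Nat.Prime.coprime_iff_not_dvd Nat.prime_two).1 hN.symm)]
  obtain ⟨T₁, hT₁⟩ := hsyl a haX ha rfl
  obtain ⟨T₂, hT₂⟩ := hsyl b hbX (hr2 d) (by rw [hab])
  obtain ⟨x, hx⟩ := MulAction.exists_smul_eq ↥X T₁ T₂
  have hm : (⟨(x : G) * a * (x : G)⁻¹, X.mul_mem (X.mul_mem x.2 haX) (X.inv_mem x.2)⟩ : ↥X) ∈ (T₂ : Subgroup ↥X) := by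
    rw [← hx, Sylow.coe_subgroup_smul]
    refine ⟨⟨a, haX⟩, ?_, Subtype.ext rfl⟩
    rw [SetLike.mem_coe, hT₁]; exact mem_zpowers a
  rw [hT₂] at hm
  obtain ⟨i, hi⟩ := hm
  have hi' : b ^ i = (x : G) * a * (x : G)⁻¹ := hi
  have h2 : QuotientGroup.mk' N (b ^ i) = QuotientGroup.mk' N b := by
    rw [hi', map_mul, map_mul, map_inv, ← hab]
    obtain ⟨l, hl⟩ := (x.2 : QuotientGroup.mk' N x ∈ zpowers (QuotientGroup.mk' N a))
    rw [← hl, ← zpow_add_one, ← zpow_neg, ← zpow_add, add_neg_cancel_comm, zpow_one]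
  have h3 : b ^ i = b := by
    conv_rhs => rw [← zpow_one b]
    rw [map_zpow] at h2
    rw [zpow_eq_zpow_iff_modEq, ← hinj b (hr2 d), ← zpow_eq_zpow_iff_modEq, zpow_one]
    exact h2
  refine Subtype.ext ?_
  rw [← hrc c, ← hrc d, ConjClasses.mk_eq_mk_iff_isConj]
  refine (isConj_iff.2 ⟨g, rfl⟩).trans (isConj_iff.2 ⟨x, ?_⟩)
  rw [← hi', h3]

theorem compl_of_large : ∀ (n : ℕ) (G : Type u) [Group G] [Finite G], Nat.card G = n → ∀ P : Sylow 2 G,
    Nat.card ↥(P : Subgroup G) < 2 * Nat.card (Cl G) → Cfsg.HasNormalPComplement 2 G := by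
  intro n
  induction n using Nat.strong_induction_on with
  | _ n ih =>
  intro G _ _ hG P hlarge
  classical
  haveI : Fact (Nat.Prime 2) := ⟨Nat.prime_two⟩
  rw [Cfsg.Lib.Transfer.hasNormalPComplement_iff]
  by_cases hO : Cfsg.pPrimeCore 2 G ≠ ⊥
  · set N := Cfsg.pPrimeCore 2 G
    haveI : N.Normal := Cfsg.Lib.Components.pPrimeCore_normal' 2
    have hlt : Nat.card (G ⧸ N) < n := by
      rw [← hG, Subgroup.card_eq_card_quotient_mul_card_subgroup N]
      exact lt_mul_of_one_lt_right Nat.card_pos ((Subgroup.one_lt_card_iff_ne_bot _).mpr hO)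
    have hcop := Cfsg.Lib.Components.coprime_card_pPrimeCore (G := G) 2
    set Pq := P.mapSurjective (QuotientGroup.mk'_surjective N)
    have hle : Nat.card ↥(Pq : Subgroup (G ⧸ N)) ≤ Nat.card ↥(P : Subgroup G) :=
      Nat.card_le_card_of_surjective _ (MonoidHom.subgroupMap_surjective (QuotientGroup.mk' N) (P : Subgroup G))
    have := ih _ hlt (G ⧸ N) rfl Pq (lt_of_le_of_lt hle (hlarge.trans_le (Nat.mul_le_mul_left 2 (card_le_quotient N hcop))))
    rw [Cfsg.Lib.Transfer.hasNormalPComplement_iff] at this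
    obtain ⟨M, hMn, hMc, k, hk⟩ := this
    refine ⟨M.comap (QuotientGroup.mk' N), hMn.comap _, ?_, k, by
      rw [Subgroup.index_comap_of_surjective _ (QuotientGroup.mk'_surjective N), hk]⟩
    have h0 : N ≤ M.comap (QuotientGroup.mk' N) := fun x hx => by
      show QuotientGroup.mk' N x ∈ M
      rw [show QuotientGroup.mk' N x = 1 from (QuotientGroup.eq_one_iff x).2 hx]; exact one_mem _
    have hr' := Subgroup.relIndex_comap (⊥ : Subgroup (G ⧸ N)) (QuotientGroup.mk' N) (M.comap (QuotientGroup.mk' N))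
    rw [MonoidHom.comap_bot, QuotientGroup.ker_mk', Subgroup.map_comap_eq_self_of_surjective (QuotientGroup.mk'_surjective N),
      Subgroup.relIndex_bot_left] at hr'
    rw [← Subgroup.relIndex_bot_left (M.comap _), ← Subgroup.relIndex_mul_relIndex ⊥ N _ bot_le h0, hr', Subgroup.relIndex_bot_left]
    exact hcop.mul_left hMc
  push_neg at hO
  by_cases hP1 : Nat.card ↥(P : Subgroup G) = 1
  · refine ⟨⊤, inferInstance, ?_, 0, by simp⟩
    rw [Subgroup.card_top, Nat.coprime_comm, Nat.prime_two.coprime_iff_not_dvd]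
    intro hd
    have := P.ne_bot_of_dvd_card hd
    exact this (Subgroup.eq_bot_of_card_eq _ hP1)
  by_cases hiso : ∀ z ∈ (P : Subgroup G), z ≠ 1 → ∃ y ∈ (P : Subgroup G), y ≠ z ∧ IsConj z y
  · -- every class meets `P` twice
    exfalso
    haveI : Fintype G := Fintype.ofFinite G
    let S : Finset G := Finset.univ.filter fun x => x ∈ (P : Subgroup G) ∧ x ≠ 1
    have hS : S.card + 1 = Nat.card ↥(P : Subgroup G) := by
      have h1 : Finset.univ.filter (fun x : G => x ∈ (P : Subgroup G)) = insert 1 S := by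
        ext x
        simp only [S, Finset.mem_filter, Finset.mem_univ, true_and, Finset.mem_insert]
        constructor
        · intro hx; by_cases h : x = 1 <;> simp [h, hx]
        · rintro (rfl | h)
          · exact one_mem _
          · exact h.1
      rw [Nat.card_eq_fintype_card, Fintype.card_subtype, h1, Finset.card_insert_of_notMem (by simp [S])]
    let T : Finset (ConjClasses G) := S.image ConjClasses.mk
    have hcov : Nat.card (Cl G) ≤ T.card + 1 := by
      refine le_trans (Nat.card_le_card_of_injective (fun c : Cl G => (⟨c.1, ?_⟩ : ↥(insert (ConjClasses.mk (1 : G)) T)))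
        fun c d h => Subtype.ext (congrArg Subtype.val h :)) ?_
      · obtain ⟨a, ha, hac⟩ := exists_rep P c
        rw [← hac]
        by_cases h1 : a = 1
        · rw [h1]; exact Finset.mem_insert_self _ _
        · exact Finset.mem_insert_of_mem (Finset.mem_image.2 ⟨a, Finset.mem_filter.2 ⟨Finset.mem_univ _, ha, h1⟩, rfl⟩)
      · rw [Nat.card_eq_fintype_card, Fintype.card_coe]
        exact Finset.card_insert_le _ _
    have h2 : T.card * 2 ≤ S.card := by
      refine (le_of_eq (mul_comm _ _)).trans (Finset.mul_card_image_le_card (f := ConjClasses.mk) S 2 fun c hc => ?_)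
      obtain ⟨z, hz, rfl⟩ := Finset.mem_image.1 hc
      obtain ⟨-, hzP, hz1⟩ := Finset.mem_filter.1 hz
      obtain ⟨y, hy, hyz, hc⟩ := hiso z hzP hz1
      refine le_trans (le_of_eq (Finset.card_pair hyz).symm) (Finset.card_le_card ?_)
      intro w hw
      rw [Finset.mem_filter]
      rcases Finset.mem_insert.1 hw with rfl | hw
      · refine ⟨Finset.mem_filter.2 ⟨Finset.mem_univ _, hy, fun h1 => hz1 ?_⟩, ConjClasses.mk_eq_mk_iff_isConj.2 hc.symm⟩
        obtain ⟨g, hg⟩ := isConj_iff.1 hc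
        rw [h1] at hg
        exact conj_eq_one_iff.1 hg
      · rw [Finset.mem_singleton] at hw; subst hw; exact ⟨hz, rfl⟩
    have heven : 2 ∣ Nat.card ↥(P : Subgroup G) := by
      obtain ⟨k, hk⟩ := P.2.exists_card_eq
      rw [hk] at hP1 ⊢
      exact dvd_pow_self 2 (by rintro rfl; exact hP1 (pow_zero 2))
    omega
  push_neg at hiso
  obtain ⟨z, hzP, hz1, huniq⟩ := hiso
  have huniq : ∀ y ∈ (P : Subgroup G), IsConj z y → y = z := fun y hy hc => by
    by_contra hne; exact huniq y hy hne hc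
  -- uniqueness in every Sylow subgroup
  have huR : ∀ (R : Sylow 2 G) (y y' : G), y ∈ (R : Subgroup G) → y' ∈ (R : Subgroup G) → IsConj z y → IsConj z y' → y = y' := by
    intro R y y' hy hy' hc hc'
    obtain ⟨h, hh⟩ := MulAction.exists_smul_eq G R P
    have hm : ∀ w ∈ (R : Subgroup G), IsConj z w → h * w * h⁻¹ = z := fun w hw hcw => by
      refine huniq _ ?_ (hcw.trans (isConj_iff.2 ⟨h, rfl⟩))
      rw [← hh, Sylow.coe_subgroup_smul]
      exact ⟨w, hw, rfl⟩
    have := (hm y hy hc).trans (hm y' hy' hc').symm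
    exact mul_left_cancel (mul_right_cancel this)
  have hzc : ∀ q ∈ (P : Subgroup G), q * z = z * q := fun q hq => by
    have := huniq _ (mul_mem (mul_mem hq hzP) (inv_mem hq)) (isConj_iff.2 ⟨q, rfl⟩)
    exact mul_inv_eq_iff_eq_mul.1 this
  obtain ⟨k, hk⟩ := two_of_mem hzP
  obtain ⟨j, rfl⟩ : ∃ j, k = j + 1 := ⟨k - 1, by
    rcases Nat.eq_zero_or_pos k with rfl | h
    · rw [pow_zero, orderOf_eq_one_iff] at hk; exact absurd hk hz1
    · omega⟩
  set t := z ^ 2 ^ j with ht
  have hto : orderOf t = 2 := by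
    rw [ht, orderOf_pow' _ (pow_ne_zero _ two_ne_zero), hk, Nat.gcd_eq_right (pow_dvd_pow 2 (Nat.le_succ j)),
      Nat.pow_div (Nat.le_succ j) two_pos]
    simp
  have htP : t ∈ (P : Subgroup G) := pow_mem hzP _
  have htu : ∀ s ∈ (P : Subgroup G), IsConj t s → s = t := by
    intro s hs hc
    obtain ⟨g, hg⟩ := isConj_iff.1 hc
    set C := centralizer ({s} : Set G)
    have hzC : z ∈ C := mem_centralizer_singleton_iff.2 (hzc s hs).symm
    have hz'C : g * z * g⁻¹ ∈ C := by
      rw [mem_centralizer_singleton_iff, ← hg]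
      exact (((Commute.refl z).pow_right (2 ^ j)).map (MulAut.conj g).toMonoidHom).eq
    have hp2 : ∀ w : G, ∀ hw : w ∈ C, orderOf w = 2 ^ (j + 1) → ∃ S : Sylow 2 ↥C, (⟨w, hw⟩ : ↥C) ∈ (S : Subgroup ↥C) := by
      intro w hw ho
      obtain ⟨S, hS⟩ := (IsPGroup.of_card (p := 2) (n := j + 1) (show Nat.card (zpowers (⟨w, hw⟩ : ↥C)) = 2 ^ (j + 1) by
        rw [Nat.card_zpowers, Subgroup.orderOf_mk, ho])).exists_le_sylow
      exact ⟨S, hS (mem_zpowers _)⟩
    obtain ⟨S₁, hS₁⟩ := hp2 z hzC hk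
    obtain ⟨S₂, hS₂⟩ := hp2 _ hz'C ((show orderOf (g * z * g⁻¹) = orderOf z from (MulAut.conj g).orderOf_eq z).trans hk)
    obtain ⟨c, hc⟩ := MulAction.exists_smul_eq ↥C S₂ S₁
    obtain ⟨R, hR⟩ := (S₁.2.map C.subtype).exists_le_sylow
    have hm : (c : G) * (g * z * g⁻¹) * (c : G)⁻¹ ∈ (R : Subgroup G) := by
      refine hR ⟨c * ⟨_, hz'C⟩ * c⁻¹, ?_, rfl⟩
      rw [SetLike.mem_coe, ← hc, Sylow.coe_subgroup_smul]
      exact ⟨_, hS₂, rfl⟩
    have he := huR R _ z hm (hR ⟨⟨z, hzC⟩, hS₁, rfl⟩) ((isConj_iff.2 ⟨g, rfl⟩).trans (isConj_iff.2 ⟨c, rfl⟩)) (IsConj.refl z)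
    have h4 : (c : G) * s * (c : G)⁻¹ = s := mul_inv_eq_iff_eq_mul.2 (mem_centralizer_singleton_iff.1 c.2)
    calc s = (c : G) * (g * t * g⁻¹) * (c : G)⁻¹ := by rw [hg, h4]
      _ = t := by rw [ht, ← conj_pow, ← conj_pow, he]
  have hiso : Cfsg.IsIsolatedInvolution t := by
    refine ⟨hto, fun g hcm => ?_⟩
    set s := g * t * g⁻¹
    haveI : IsMulCommutative ↥(closure ({t, s} : Set G)) := Subgroup.isMulCommutative_closure (by
      intro u hu v hv
      rcases hu with rfl | rfl <;> rcases hv with rfl | rfl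
      exacts [rfl, hcm, hcm.symm, rfl])
    have hpD : IsPGroup 2 ↥(closure ({t, s} : Set G)) := fun u => ⟨1, Subtype.ext (by
      obtain ⟨u, hu⟩ := u
      show u ^ 2 ^ 1 = 1
      induction hu using Subgroup.closure_induction with
      | mem v hv =>
        rcases hv with rfl | rfl
        · rw [pow_one, ← hto]; exact pow_orderOf_eq_one _
        · rw [pow_one, conj_pow, ← hto, pow_orderOf_eq_one, mul_one, mul_inv_cancel]
      | one => exact one_pow _
      | mul v w hv hw h1 h2 =>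
        rw [(show Commute v w from congrArg Subtype.val (mul_comm' (⟨v, hv⟩ : ↥(closure ({t, s} : Set G))) ⟨w, hw⟩)).mul_pow, h1, h2, one_mul]
      | inv v _ h1 => rw [inv_pow, h1, inv_one])⟩
    obtain ⟨R, hR⟩ := hpD.exists_le_sylow
    obtain ⟨h, hh⟩ := MulAction.exists_smul_eq G R P
    have hm : ∀ w ∈ (R : Subgroup G), h * w * h⁻¹ ∈ (P : Subgroup G) := fun w hw => by
      rw [← hh, Sylow.coe_subgroup_smul]; exact ⟨w, hw, rfl⟩
    have e1 := htu _ (hm t (hR (subset_closure (Set.mem_insert _ _)))) (isConj_iff.2 ⟨h, rfl⟩)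
    have e2 := htu _ (hm s (hR (subset_closure (Set.mem_insert_of_mem _ rfl)))) ((isConj_iff.2 ⟨g, rfl⟩).trans (isConj_iff.2 ⟨h, rfl⟩))
    exact mul_left_cancel (mul_right_cancel (e2.trans e1.symm))
  have htc : ∀ g : G, g * t = t * g := fun g => by
    have h := Cfsg.Lib.ZStarApps.zstarProp hiso g
    rw [hO, mem_bot, mul_inv_eq_one, mul_inv_eq_iff_eq_mul] at h
    exact h.symm
  set T := zpowers t with hTdef
  have hTc : Nat.card T = 2 := by rw [hTdef, Nat.card_zpowers, hto]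
  haveI hTn : T.Normal := ⟨fun w hw g => by
    obtain ⟨i, rfl⟩ := hw
    show g * t ^ i * g⁻¹ ∈ T
    rw [((show Commute g t from htc g).zpow_right i).eq, mul_inv_cancel_right]
    exact zpow_mem_zpowers t i⟩
  have hT2 : ∀ w ∈ T, w = 1 ∨ w = t := fun w hw => by
    obtain ⟨i, rfl⟩ := hw
    show t ^ i = 1 ∨ t ^ i = t
    rw [← zpow_mod_orderOf, hto]
    rcases Int.emod_two_eq_zero_or_one i with h | h <;> simp [h]
  have hlt : Nat.card (G ⧸ T) < n := by
    rw [← hG, Subgroup.card_eq_card_quotient_mul_card_subgroup T, hTc]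
    have : 0 < Nat.card (G ⧸ T) := Nat.card_pos
    omega
  set π := QuotientGroup.mk' T
  set Pq := P.mapSurjective (QuotientGroup.mk'_surjective T)
  have hPq : 2 * Nat.card ↥(Pq : Subgroup (G ⧸ T)) = Nat.card ↥(P : Subgroup G) := by
    have hTP : T ≤ (P : Subgroup G) := zpowers_le.2 htP
    have h1 := Subgroup.relIndex_ker (K := (P : Subgroup G)) π
    rw [QuotientGroup.ker_mk'] at h1
    show 2 * Nat.card ↥((P : Subgroup G).map π) = _
    have h2 := Subgroup.relIndex_mul_relIndex ⊥ T (P : Subgroup G) bot_le hTP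
    rw [Subgroup.relIndex_bot_left, Subgroup.relIndex_bot_left, hTc] at h2
    rw [← h1]; exact h2
  have hk2 : Nat.card (Cl G) ≤ 2 * Nat.card (Cl (G ⧸ T)) := by
    haveI : Fintype (Cl G) := Fintype.ofFinite _
    haveI : Fintype (Cl (G ⧸ T)) := Fintype.ofFinite _
    let f : Cl G → Cl (G ⧸ T) := fun c => ⟨ConjClasses.map π c.1, fun y hy => by
      obtain ⟨a, ha⟩ := ConjClasses.mk_surjective c.1
      obtain ⟨k, hk⟩ := c.2 a (ha ▸ ConjClasses.mem_carrier_mk)
      rw [← ha, ConjClasses.mem_carrier_iff_mk_eq] at hy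
      obtain ⟨j, -, hj⟩ := (Nat.dvd_prime_pow Nat.prime_two).1 (hk ▸ orderOf_map_dvd π a)
      exact two_of_isConj (ConjClasses.mk_eq_mk_iff_isConj.1 hy.symm) ⟨j, hj⟩⟩
    have := Finset.card_le_mul_card_image (f := f) (Finset.univ : Finset (Cl G)) 2 fun d hd => by
      obtain ⟨c, -, rfl⟩ := Finset.mem_image.1 hd
      obtain ⟨a, ha⟩ := ConjClasses.mk_surjective c.1
      refine le_trans (Finset.card_le_card_of_injOn (fun e => e.1) (t := ({ConjClasses.mk a, ConjClasses.mk (a * t)} : Finset (ConjClasses G)))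
        (fun e he => ?_) (Subtype.val_injective.injOn)) Finset.card_le_two
      obtain ⟨b, hb⟩ := ConjClasses.mk_surjective e.1
      have he' : ConjClasses.map π e.1 = ConjClasses.map π c.1 := congrArg Subtype.val (Finset.mem_filter.1 he).2
      rw [← hb, ← ha] at he'
      obtain ⟨q, hq⟩ := isConj_iff.1 (ConjClasses.mk_eq_mk_iff_isConj.1 he')
      obtain ⟨g, rfl⟩ := QuotientGroup.mk'_surjective T q
      rw [← map_inv, ← map_mul, ← map_mul] at hq
      have hin : a⁻¹ * (g * b * g⁻¹) ∈ T := QuotientGroup.eq.1 hq.symm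
      show e.1 ∈ ({ConjClasses.mk a, ConjClasses.mk (a * t)} : Finset (ConjClasses G))
      rw [← hb, show ConjClasses.mk b = ConjClasses.mk (g * b * g⁻¹) from ConjClasses.mk_eq_mk_iff_isConj.2 (isConj_iff.2 ⟨g, rfl⟩)]
      rcases hT2 _ hin with h | h
      · rw [inv_mul_eq_one.1 h]; simp
      · rw [inv_mul_eq_iff_eq_mul.1 h]; simp
    rw [Nat.card_eq_fintype_card, Nat.card_eq_fintype_card]
    exact this.trans (Nat.mul_le_mul_left 2 (Finset.card_le_univ _))
  have := ih _ hlt (G ⧸ T) rfl Pq (by omega)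
  rw [Cfsg.Lib.Transfer.hasNormalPComplement_iff] at this
  obtain ⟨M, hMn, hMc, k', hk'⟩ := this
  -- the preimage is `T`, so `G` is a `2`-group
  set M' := M.comap π with hM'
  haveI hM'n : M'.Normal := hMn.comap π
  have hTM : T ≤ M' := fun x hx => by
    show π x ∈ M
    rw [show π x = 1 from (QuotientGroup.eq_one_iff x).2 hx]; exact one_mem _
  have hrel : T.relIndex M' = Nat.card M := by
    have hr' := Subgroup.relIndex_comap (⊥ : Subgroup (G ⧸ T)) π M'
    rwa [MonoidHom.comap_bot, QuotientGroup.ker_mk', hM', Subgroup.map_comap_eq_self_of_surjective (QuotientGroup.mk'_surjective T),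
      Subgroup.relIndex_bot_left, ← hM'] at hr'
  obtain ⟨K, hKM, hKsup, hKc⟩ := Cfsg.Lib.Coprime.exists_complement_in hTM
    (by rw [Subgroup.normalizer_eq_top_iff.2 inferInstance]; exact le_top) (by rw [hrel, hTc]; exact hMc.symm)
  have hodd : ∀ u ∈ M', (orderOf u).Coprime 2 → u ∈ K := by
    intro u hu hu2
    rw [← hKsup] at hu
    obtain ⟨v, hv, w, hw, rfl⟩ := Subgroup.mem_sup_of_normal_left.1 hu
    rcases hT2 v hv with rfl | rfl
    · rwa [one_mul]
    · exfalso
      have hw2 : (orderOf w).Coprime 2 := Nat.Coprime.coprime_dvd_left (by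
        rw [← Subgroup.orderOf_mk w hw]; exact orderOf_dvd_natCard _) (hKc ▸ hrel ▸ hMc)
      have hc : Commute t w := (show Commute w t from htc w).symm
      rw [hc.orderOf_mul_eq_mul_orderOf_of_coprime (hto.symm ▸ hw2.symm), hto] at hu2
      exact absurd (Nat.Coprime.coprime_dvd_left (dvd_mul_right 2 _) hu2) (by norm_num)
  have hKcop : (Nat.card K).Coprime 2 := by rw [hKc, hrel]; exact hMc
  haveI hKn : K.Normal := ⟨fun u hu g => hodd _ (hM'n.conj_mem u (hKM hu) g) (by
    have h' : (orderOf u).Coprime 2 := hKcop.coprime_dvd_left (by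
      rw [← Subgroup.orderOf_mk u hu]; exact orderOf_dvd_natCard _)
    rwa [show orderOf (g * u * g⁻¹) = orderOf u from (MulAut.conj g).orderOf_eq u])⟩
  have hK1 : K = ⊥ := le_bot_iff.1 (hO ▸ Cfsg.Lib.Components.le_pPrimeCore hKcop)
  have hM1 : Nat.card M = 1 := by rw [← hrel, ← hKc, hK1, Subgroup.card_bot]
  refine ⟨⊥, inferInstance, by simp, k' + 1, ?_⟩
  rw [Subgroup.index_bot, Subgroup.card_eq_card_quotient_mul_card_subgroup T, hTc, pow_succ, ← hk', ← M.card_mul_index, hM1, one_mul]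


/-- Let G be a finite group with Sylow 2-subgroup P, and write k₂(G) for the number of conjugacy classes of G consisting of 2-elements (elements of 2-power order, the identity included). Then k₂(G) > |P|/2 if and only if G has a normal 2-complement and P has more than |P|/2 conjugacy classes. -/
theorem result {G : Type*} [Group G] [Finite G] (P : Sylow 2 G) :
    Nat.card ↥(P : Subgroup G) < 2 * Nat.card {c : ConjClasses G // ∀ x ∈ c.carrier, ∃ k : ℕ, orderOf x = 2 ^ k} ↔
      Cfsg.HasNormalPComplement 2 G ∧ Nat.card ↥(P : Subgroup G) < 2 * Nat.card (ConjClasses ↥(P : Subgroup G)) := by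
  classical
  haveI : Fact (Nat.Prime 2) := ⟨Nat.prime_two⟩
  let ψ : ConjClasses ↥(P : Subgroup G) → Cl G :=
    Quotient.lift (fun a : ↥(P : Subgroup G) => clMk (a : G) (two_of_mem a.2)) fun a b h => by
      refine Subtype.ext (ConjClasses.mk_eq_mk_iff_isConj.2 ?_)
      exact MonoidHom.map_isConj (P : Subgroup G).subtype h
  have hsurj : Function.Surjective ψ := by
    intro c
    obtain ⟨a, ha, hac⟩ := exists_rep P c
    exact ⟨ConjClasses.mk ⟨a, ha⟩, Subtype.ext hac⟩
  constructor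
  · intro h
    refine ⟨compl_of_large _ G rfl P h, lt_of_lt_of_le h (Nat.mul_le_mul_left 2 (Nat.card_le_card_of_surjective ψ hsurj))⟩
  · rintro ⟨hc, hP⟩
    obtain ⟨N, hNn, hNc, k, hk⟩ := Cfsg.Lib.Transfer.hasNormalPComplement_iff.1 hc
    haveI := hNn
    refine lt_of_lt_of_le hP (Nat.mul_le_mul_left 2 (Nat.card_le_card_of_injective ψ ?_))
    intro c d hcd
    obtain ⟨a, rfl⟩ := ConjClasses.mk_surjective c
    obtain ⟨b, rfl⟩ := ConjClasses.mk_surjective d
    obtain ⟨g, hg⟩ := isConj_iff.1 (ConjClasses.mk_eq_mk_iff_isConj.1 (congrArg Subtype.val hcd : ConjClasses.mk (a : G) = ConjClasses.mk (b : G)))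
    rw [ConjClasses.mk_eq_mk_iff_isConj, isConj_iff]
    set f := (QuotientGroup.mk' N).comp (P : Subgroup G).subtype with hf
    have hinj : Function.Injective f := by
      rw [injective_iff_map_eq_one]
      intro u hu
      have huN : (u : G) ∈ N := (QuotientGroup.eq_one_iff _).1 hu
      obtain ⟨j, hj⟩ := two_of_mem u.2
      refine Subtype.ext (orderOf_eq_one_iff.1 (Nat.eq_one_of_dvd_coprimes (hNc.pow_right j) ?_ hj.dvd))
      rw [← Subgroup.orderOf_mk (u : G) huN]; exact orderOf_dvd_natCard _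
    have hbij : Function.Surjective f := by
      refine ((Nat.bijective_iff_injective_and_card f).2 ⟨hinj, ?_⟩).2
      rw [← Subgroup.index_eq_card, hk]
      obtain ⟨j, hj⟩ := P.2.exists_card_eq
      have h1 := Subgroup.card_mul_index N
      rw [hk] at h1
      have h4 := P.card_eq_multiplicity
      have h3 : (Nat.card G).factorization 2 = k := by
        rw [← h1, Nat.factorization_mul Nat.card_pos.ne' (pow_ne_zero _ two_ne_zero)]
        simp [Nat.prime_two.factorization_self,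
          Nat.factorization_eq_zero_of_not_dvd ((Nat.Prime.coprime_iff_not_dvd Nat.prime_two).1 hNc.symm)]
      rw [h4, h3]
    obtain ⟨u, hu⟩ := hbij (QuotientGroup.mk' N g)
    refine ⟨u, hinj ?_⟩
    rw [map_mul, map_mul, map_inv, hu, hf]
    simp only [MonoidHom.comp_apply, Subgroup.coe_subtype]
    rw [← map_inv, ← map_mul, ← map_mul, hg]

end Cfsg.Agent.S3895
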