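import Cfsg.Statements.S3898
import Cfsg.Agent.SolvStruct.ClassCount
import Cfsg.Agent.S3895

set_option autoImplicit false
open Cfsg

namespace Cfsg.Agent.S3898

/-- Let π be a finite set of primes containing 2 and G a finite group. Write k_π(G) for the number of conjugacy classes of G consisting of π-elements (elements all of whose order's prime divisors lie in π) and |G|_π for the π-part of the order of G. If k_π(G) > |G|_π/2, then G has a normal π-complement (a normal subgroup of order prime to π whose index is a π-number) and an abelian Hall subgroup for the set of odd primes in π. -/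
theorem result {G : Type*} [Group G] [Finite G] (π : Finset ℕ) (hπ : ∀ r ∈ π, r.Prime) (h2 : 2 ∈ π)
    (hk : π.prod (fun r => r ^ (Nat.card G).factorization r) < 2 * Nat.card {c : ConjClasses G // ∀ x ∈ c.carrier, ∀ r : ℕ, r.Prime → r ∣ orderOf x → r ∈ π}) :
    (∃ N : Subgroup G, N.Normal ∧ (∀ r : ℕ, r.Prime → r ∣ Nat.card ↥N → r ∉ π) ∧ ∀ r : ℕ, r.Prime → r ∣ N.index → r ∈ π) ∧ ∃ H : Subgroup G, Cfsg.IsPiHall ((↑π : Set ℕ) \ {2}) H ∧ IsMulCommutative ↥H := by
  classical
  change _ < 2 * Cfsg.Lib.ClassCount.kpi π G at hk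
  have hq : ∀ q (_ : q ∈ π) (hq' : Fact q.Prime), q ^ (Nat.card G).factorization q < 2 * Cfsg.Lib.ClassCount.kpi {q} G := by
    intro q hq hq'
    have hle := Cfsg.Lib.ClassCount.kpi_le_kp (G := G) hπ hq
    have he : π.prod (fun r => r ^ (Nat.card G).factorization r) = q ^ (Nat.card G).factorization q *
        Cfsg.Lib.ClassCount.piPart (π.erase q) G := Cfsg.Lib.ClassCount.piPart_eq hq
    rw [he] at hk
    by_contra hcon
    have e1 := Nat.mul_le_mul_right (Cfsg.Lib.ClassCount.piPart (π.erase q) G) (not_lt.1 hcon)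
    have e2 := Nat.mul_le_mul_left 2 hle
    nlinarith
  -- the normal 2-complement
  haveI h2f : Fact (Nat.Prime 2) := ⟨Nat.prime_two⟩
  obtain ⟨T⟩ : Nonempty (Sylow 2 G) := inferInstance
  have hT : Nat.card ↥(T : Subgroup G) < 2 * Nat.card {c : ConjClasses G // ∀ x ∈ c.carrier, ∃ k : ℕ, orderOf x = 2 ^ k} := by
    rw [← Cfsg.Lib.ClassCount.kpi_singleton, T.card_eq_multiplicity]
    exact hq 2 h2 h2f
  have hcop := Cfsg.Lib.Transfer.hasNormalPComplement_iff_pResidual.1 ((Cfsg.Agent.S3895.result T).1 hT).1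
  obtain ⟨a, ha⟩ := Cfsg.Lib.Transfer.exists_index_pResidual (G := G) (p := 2)
  set K := Cfsg.pResidual 2 G with hKdef
  set σ := π.erase 2 with hσdef
  have hσ : ∀ r ∈ σ, r.Prime := fun r hr => hπ r (Finset.mem_of_mem_erase hr)
  have hK2 : ∀ r : ℕ, r ∣ Nat.card ↥K → r ≠ 2 := fun r hd e =>
    Nat.prime_two.coprime_iff_not_dvd.1 hcop.symm (e ▸ hd)
  have hloc : ∀ r (_ : r ∈ σ) (S : Sylow r ↥K), IsMulCommutative ↥(S : Subgroup ↥K) ∧ Cfsg.HasNormalPComplement r ↥K := by
    intro r hr S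
    haveI : Fact r.Prime := ⟨hσ r hr⟩
    have hr2 : r ≠ 2 := Finset.ne_of_mem_erase hr
    have hf : (Nat.card ↥K).factorization r = (Nat.card G).factorization r := by
      have h0 : ((2 : ℕ) ^ a).factorization r = 0 := by
        rw [Nat.Prime.factorization_pow Nat.prime_two, Finsupp.single_eq_of_ne hr2]
      rw [← K.card_mul_index, ha, Nat.factorization_mul Nat.card_pos.ne' (by positivity),
        Finsupp.add_apply, h0, add_zero]
    have hQc : Nat.card ↥((S : Subgroup ↥K).map K.subtype) = r ^ (Nat.card G).factorization r := by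
      rw [Subgroup.card_map_of_injective K.subtype_injective, S.card_eq_multiplicity, hf]
    let Q : Sylow r G := Sylow.ofCard ((S : Subgroup ↥K).map K.subtype) hQc
    have hQ : (Q : Subgroup G) = (S : Subgroup ↥K).map K.subtype := Sylow.coe_ofCard _ hQc
    obtain ⟨hab, hcen⟩ := Cfsg.Lib.ClassCount.half_criterion hr2 Q
      (by rw [Q.card_eq_multiplicity]; exact hq r (Finset.mem_of_mem_erase hr) inferInstance)
    refine ⟨⟨⟨fun x y => ?_⟩⟩, ?_⟩
    · have := mul_comm' (⟨_, hQ.ge (Subgroup.mem_map_of_mem _ x.2)⟩ : ↥(Q : Subgroup G)) ⟨_, hQ.ge (Subgroup.mem_map_of_mem _ y.2)⟩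
      have h := congrArg Subtype.val this
      exact Subtype.ext (Subtype.ext h)
    · refine Cfsg.Lib.Transfer.hasNormalPComplement_of_isComplement' (MonoidHom.ker_transferSylow_isComplement' S fun g hg => ?_)
      have hgn : ((g : ↥K) : G) ∈ Subgroup.normalizer ((Q : Subgroup G) : Set G) := by
        rw [hQ]
        exact (Subgroup.le_normalizer_map (H := (S : Subgroup ↥K)) K.subtype) ⟨g, hg, rfl⟩
      have hodd : Odd (orderOf ((g : ↥K) : G)) := by
        rw [Subgroup.orderOf_coe, ← Nat.not_even_iff_odd, even_iff_two_dvd]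
        exact fun hd => hK2 2 (hd.trans (orderOf_dvd_natCard g)) rfl
      have hgc := hcen _ hgn hodd
      exact fun s hs => Subtype.ext (hgc _ (hQ.ge (Subgroup.mem_map_of_mem K.subtype hs)))
  have hN : ∀ r (_ : r ∈ σ), Cfsg.HasNormalPComplement r ↥K := fun r hr => by
    obtain ⟨S⟩ : Nonempty (Sylow r ↥K) := inferInstance
    exact (hloc r hr S).2
  obtain ⟨N, hn, h1, h3, -⟩ := Cfsg.Lib.ClassCount.exists_pi_complement σ hσ hN
  haveI := hn
  have hmem : ∀ x : ↥K, x ∈ N ↔ ∀ r ∈ σ, ¬ r ∣ orderOf x := by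
    intro x
    constructor
    · intro hx r hr hd
      exact h1 r (hσ r hr) (hd.trans (by rw [← Subgroup.orderOf_mk x hx]; exact orderOf_dvd_natCard _)) hr
    · intro hx
      rw [← QuotientGroup.eq_one_iff, ← orderOf_eq_one_iff, Nat.eq_one_iff_not_exists_prime_dvd]
      intro r hr hd
      exact hx r (h3 r hr (hd.trans (by rw [Subgroup.index_eq_card]; exact orderOf_dvd_natCard _)))
        (hd.trans (orderOf_map_dvd (QuotientGroup.mk' N) x))
  refine ⟨⟨N.map K.subtype, ⟨?_⟩, ?_, ?_⟩, ?_⟩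
  · rintro _ ⟨x, hx, rfl⟩ g
    refine ⟨⟨g * (x : G) * g⁻¹, (inferInstance : K.Normal).conj_mem _ x.2 g⟩, (hmem _).2 fun r hr => ?_, rfl⟩
    rw [← Subgroup.orderOf_coe, show orderOf (g * (x : G) * g⁻¹) = orderOf (x : G) from (MulAut.conj g).orderOf_eq _,
      Subgroup.orderOf_coe]
    exact (hmem x).1 hx r hr
  · intro r hr hd hrπ
    rw [Subgroup.card_map_of_injective K.subtype_injective] at hd
    by_cases he : r = 2
    · exact hK2 r (hd.trans N.card_subgroup_dvd_card) he
    · exact h1 r hr hd (Finset.mem_erase.2 ⟨he, hrπ⟩)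
  · intro r hr hd
    rw [Subgroup.index_map_subtype, ha] at hd
    rcases hr.dvd_mul.1 hd with h' | h'
    · exact Finset.mem_of_mem_erase (h3 r hr h')
    · rw [(Nat.prime_dvd_prime_iff_eq hr Nat.prime_two).1 (hr.dvd_of_dvd_pow h')]
      exact h2
  · obtain ⟨H, ⟨hH1, hH2⟩, hHc⟩ := Cfsg.Lib.ClassCount.exists_abelian_hall σ σ hσ subset_rfl hN fun r hr S => (hloc r hr S).1
    refine ⟨H.map K.subtype, ⟨fun r hr hd => ?_, fun r hr hrσ hd => ?_⟩, inferInstance⟩
    · rw [Subgroup.card_map_of_injective K.subtype_injective] at hd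
      have h' := hH1 r hr hd
      exact ⟨Finset.mem_of_mem_erase h', Finset.ne_of_mem_erase (Finset.mem_coe.1 h')⟩
    · rw [Subgroup.index_map_subtype, ha] at hd
      rcases hr.dvd_mul.1 hd with h' | h'
      · exact hH2 r hr (Finset.mem_coe.2 (Finset.mem_erase.2 ⟨hrσ.2, hrσ.1⟩)) h'
      · exact hrσ.2 ((Nat.prime_dvd_prime_iff_eq hr Nat.prime_two).1 (hr.dvd_of_dvd_pow h'))

end Cfsg.Agent.S3898
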