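import Cfsg.Statements.S3899
import Cfsg.Agent.SolvStruct.ClassCount

set_option autoImplicit false
open Cfsg

namespace Cfsg.Agent.S3899

/-- Let π be a finite non-empty set of odd primes with smallest member p and G a finite group. Write k_π(G) for the number of conjugacy classes of G consisting of π-elements (elements all of whose order's prime divisors lie in π) and |G|_π for the π-part of the order of G. If k_π(G) > (p + 1)|G|_π/(2p), then G has a normal π-complement (a normal subgroup of order prime to π whose index is a π-number) and an abelian Hall π-subgroup. -/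
theorem result {G : Type*} [Group G] [Finite G] (π : Finset ℕ) (hπ : ∀ r ∈ π, r.Prime) (h2 : 2 ∉ π) (p : ℕ) (hp : p ∈ π)
    (hmin : ∀ r ∈ π, p ≤ r) (hk : (p + 1) * π.prod (fun r => r ^ (Nat.card G).factorization r) < 2 * p * Nat.card {c : ConjClasses G // ∀ x ∈ c.carrier, ∀ r : ℕ, r.Prime → r ∣ orderOf x → r ∈ π}) :
    (∃ N : Subgroup G, N.Normal ∧ (∀ r : ℕ, r.Prime → r ∣ Nat.card ↥N → r ∉ π) ∧ ∀ r : ℕ, r.Prime → r ∣ N.index → r ∈ π) ∧ ∃ H : Subgroup G, Cfsg.IsPiHall (↑π : Set ℕ) H ∧ IsMulCommutative ↥H := by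
  classical
  have hq : ∀ q (_ : q ∈ π) (Q : Sylow q G), IsMulCommutative ↥(Q : Subgroup G) ∧ Cfsg.HasNormalPComplement q G := by
    intro q hq Q
    haveI : Fact q.Prime := ⟨hπ q hq⟩
    refine Cfsg.Lib.ClassCount.strong_criterion (fun e : q = 2 => h2 (e ▸ hq)) Q ?_
    have hle := Cfsg.Lib.ClassCount.kpi_le_kp (G := G) hπ hq
    have he : π.prod (fun r => r ^ (Nat.card G).factorization r) = q ^ (Nat.card G).factorization q *
        Cfsg.Lib.ClassCount.piPart (π.erase q) G := Cfsg.Lib.ClassCount.piPart_eq hq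
    change Cfsg.Lib.ClassCount.kpi π G ≤ _ at hle
    change _ < 2 * p * Cfsg.Lib.ClassCount.kpi π G at hk
    rw [he] at hk
    rw [Q.card_eq_multiplicity]
    set R := Cfsg.Lib.ClassCount.piPart (π.erase q) G
    set c := q ^ (Nat.card G).factorization q
    have h3 : (p + 1) * c < 2 * p * Cfsg.Lib.ClassCount.kpi {q} G := by
      by_contra hcon
      have e1 := Nat.mul_le_mul_right R (not_lt.1 hcon)
      have e2 := Nat.mul_le_mul_left (2 * p) hle
      nlinarith
    have hpq := hmin q hq
    have hp1 := (hπ p hp).two_le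
    by_contra hcon
    have e1 := Nat.mul_le_mul_left p (not_lt.1 hcon)
    have e2 := Nat.mul_lt_mul_of_pos_left h3 (show 0 < q by omega)
    have e3 : p * c ≤ q * c := Nat.mul_le_mul_right c hpq
    nlinarith
  have hN : ∀ r (_ : r ∈ π), Cfsg.HasNormalPComplement r G := fun r hr => by
    haveI : Fact r.Prime := ⟨hπ r hr⟩
    obtain ⟨Q⟩ : Nonempty (Sylow r G) := inferInstance
    exact (hq r hr Q).2
  obtain ⟨N, hn, h1, h3, -⟩ := Cfsg.Lib.ClassCount.exists_pi_complement π hπ hN
  exact ⟨⟨N, hn, h1, h3⟩, Cfsg.Lib.ClassCount.exists_abelian_hall π π hπ subset_rfl hN fun r hr Q => (hq r hr Q).1⟩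

end Cfsg.Agent.S3899
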