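import Cfsg.Statements.S3901
import Cfsg.Agent.S0183
import Cfsg.Agent.S0225
import Cfsg.Agent.Chars.Burnside
import Cfsg.Agent.SolvStruct.MinimalNonClosed
import Cfsg.Agent.OddLocal.FittingHall

set_option autoImplicit false
open Cfsg

namespace Cfsg.Agent.S3901


open Subgroup
open scoped commutatorElement Pointwise

universe u

variable {G : Type u} [Group G] [Finite G]

theorem not_isPrimePow_mul {x y : G} (hc : Commute x y) (hx1 : x ≠ 1) (hy1 : y ≠ 1)
    (hcop : (orderOf x).Coprime (orderOf y)) : ¬ IsPrimePow (orderOf (x * y)) := by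
  intro h
  rw [hc.orderOf_mul_eq_mul_orderOf_of_coprime hcop] at h
  have hx := orderOf_pos x
  have hy := orderOf_pos y
  rcases (hcop.isPrimePow_dvd_mul h).1 dvd_rfl with h' | h'
  · exact hy1 (orderOf_eq_one_iff.1 (by
      have := Nat.le_of_dvd hx h'
      nlinarith))
  · exact hx1 (orderOf_eq_one_iff.1 (by
      have := Nat.le_of_dvd hy h'
      nlinarith))

theorem mem_of_commute (N : Subgroup G) (h : ∀ g : G, g ∉ N → IsPrimePow (orderOf g)) {x y : G}
    (hc : Commute x y) (hcop : (orderOf x).Coprime (orderOf y)) (hy : y ∈ N) (hy1 : y ≠ 1) :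
    x ∈ N := by
  by_contra hx
  refine not_isPrimePow_mul hc (fun e => hx (e ▸ N.one_mem)) hy1 hcop (h _ fun hxy => hx ?_)
  simpa using mul_mem hxy (inv_mem hy)

theorem coprime_of_dvd_pow {a b p i : ℕ} (hp : p.Prime) (ha : a = p ^ i) (hb : ¬ p ∣ b) :
    a.Coprime b := ha ▸ Nat.Coprime.pow_left i (hp.coprime_iff_not_dvd.2 hb)

/-- No Klein four group above `N`, in terms of a supplement acting on an abelian subgroup of odd
order. -/
theorem key (N : Subgroup G) [N.Normal] (h : ∀ g : G, g ∉ N → IsPrimePow (orderOf g))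
    (B T : Subgroup G) (hBc : IsMulCommutative B) (hBN : B ≤ N) (hB : B ≠ ⊥)
    (hBo : Odd (Nat.card B)) (hTB : T ≤ normalizer (B : Set G))
    (hcent : ∀ y ∈ T, y ∈ N → (∃ i, orderOf y = 2 ^ i) → y ∈ centralizer (B : Set G))
    (U : Subgroup G) (hUT : U ≤ T) (hU : IsPGroup 2 U) {u w : G} (hu : u ∈ U) (hw : w ∈ U)
    (hu2 : u * u ∈ N) (hw2 : w * w ∈ N) (huN : u ∉ N) (hwN : w ∉ N) : u * w⁻¹ ∈ N := by
  haveI := Fact.mk Nat.prime_two
  have htwo : ∀ v ∈ U, ∃ i, orderOf v = 2 ^ i := fun v hv => by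
    obtain ⟨i, hi⟩ := IsPGroup.iff_orderOf.1 hU ⟨v, hv⟩
    exact ⟨i, by rw [← hi, Subgroup.orderOf_mk]⟩
  have hodd : ∀ b ∈ B, ¬ 2 ∣ orderOf b := fun b hb hd =>
    hBo.not_two_dvd_nat (hd.trans (B.orderOf_dvd_natCard hb))
  have hinv : ∀ v ∈ U, v * v ∈ N → v ∉ N → ∀ b ∈ B, v * b * v⁻¹ = b⁻¹ := by
    intro v hv hv2 hvN b hb
    have hc := hcent _ (T.mul_mem (hUT hv) (hUT hv)) hv2 (htwo _ (mul_mem hv hv))
    have h2 : v * v * b = b * (v * v) := (Subgroup.mem_centralizer_iff.1 hc b hb).symm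
    have hb' : v * b * v⁻¹ ∈ B := (Subgroup.mem_normalizer_iff.1 (hTB (hUT hv)) b).1 hb
    have hcomm : b * (v * b * v⁻¹) = v * b * v⁻¹ * b :=
      congrArg Subtype.val (mul_comm' (⟨b, hb⟩ : B) ⟨_, hb'⟩)
    have hfix : Commute v (b * (v * b * v⁻¹)) := by
      have h3 : v * (b * (v * b * v⁻¹)) * v⁻¹ = b * (v * b * v⁻¹) := by
        calc v * (b * (v * b * v⁻¹)) * v⁻¹ = v * b * v⁻¹ * (v * v * b * (v * v)⁻¹) := by group
          _ = v * b * v⁻¹ * b := by rw [h2, mul_inv_cancel_right]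
          _ = b * (v * b * v⁻¹) := hcomm.symm
      calc v * (b * (v * b * v⁻¹)) = v * (b * (v * b * v⁻¹)) * v⁻¹ * v := by group
        _ = b * (v * b * v⁻¹) * v := by rw [h3]
    by_contra hne
    refine hvN (mem_of_commute N h hfix ?_ (hBN (mul_mem hb hb')) fun e => hne ?_)
    · obtain ⟨i, hi⟩ := htwo v hv
      exact coprime_of_dvd_pow Nat.prime_two hi (hodd _ (mul_mem hb hb'))
    · exact eq_inv_of_mul_eq_one_right e
  obtain ⟨b, hb, hb1⟩ := B.bot_or_exists_ne_one.resolve_left hB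
  obtain ⟨i, hi⟩ := htwo _ (mul_mem hu (inv_mem hw))
  refine mem_of_commute N h ?_ (coprime_of_dvd_pow Nat.prime_two hi (hodd b hb)) (hBN hb) hb1
  have hwb : w⁻¹ * b * w = b⁻¹ := by
    have := congrArg (fun z => w⁻¹ * z⁻¹ * w) (hinv w hw hw2 hwN b hb)
    simp only [inv_inv] at this
    rw [← this]; group
  show u * w⁻¹ * b = b * (u * w⁻¹)
  calc u * w⁻¹ * b = u * (w⁻¹ * b * w) * u⁻¹ * (u * w⁻¹) := by group
    _ = u * b⁻¹ * u⁻¹ * (u * w⁻¹) := by rw [hwb]
    _ = b * (u * w⁻¹) := by rw [hinv u hu hu2 huN b⁻¹ (inv_mem hb), inv_inv]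

/-- A fixed-point-free element of prime order forces a coprime normal subgroup to act trivially. -/
theorem centralizes_of_fpf (K B : Subgroup G) (hBc : IsMulCommutative B)
    (hKB : K ≤ normalizer (B : Set G)) (x : G) {q : ℕ} [hq : Fact q.Prime]
    (hxB : x ∈ normalizer (B : Set G))
    (hxK : x ∈ normalizer (K : Set G)) (hord : ∀ k ∈ K, (k * x) ^ q = 1)
    (hnot : x ∉ K)
    (hcop : (Nat.card K).Coprime (Nat.card B))
    (hfix : ∀ k ∈ K, ∀ b ∈ B, Commute (k * x) b → b = 1) : K ≤ centralizer (B : Set G) := by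
  classical
  let := Fintype.ofFinite K
  letI : CommGroup B := { mul_comm := mul_comm' }
  let C : normalizer (B : Set G) →* MulAut B := B.normalizerMonoidHom
  have hCv : ∀ (n : normalizer (B : Set G)) (b : B), ((C n b : B) : G) = (n : G) * b * (n : G)⁻¹ :=
    fun n b => rfl
  let X : normalizer (B : Set G) := ⟨x, hxB⟩
  let ι : K → normalizer (B : Set G) := fun k => ⟨k, hKB k.2⟩
  have hxpow : ∀ j : ℕ, x ^ j ∈ normalizer (K : Set G) := fun j => pow_mem hxK j
  have hmem : ∀ (k : K) (j : ℕ), ((k : G) * x) ^ j * (x ^ j)⁻¹ ∈ K := by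
    intro k j
    induction j with
    | zero => simp
    | succ j ih =>
      have h1 : (k : G) * (x * (((k : G) * x) ^ j * (x ^ j)⁻¹) * x⁻¹) ∈ K :=
        K.mul_mem k.2 ((Subgroup.mem_normalizer_iff.1 hxK _).1 ih)
      convert h1 using 1
      rw [pow_succ', pow_succ']; group
  -- norms
  have hnorm : ∀ (k : K) (b : B), ∏ j ∈ Finset.range q, C ((ι k * X) ^ j) b = 1 := by
    intro k b
    set s := ∏ j ∈ Finset.range q, C ((ι k * X) ^ j) b with hs
    have hy : (ι k * X) ^ q = 1 := Subtype.ext (by simpa using hord k k.2)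
    have hfixed : C (ι k * X) s = s := by
      rw [hs, map_prod]
      have : ∀ j, C (ι k * X) (C ((ι k * X) ^ j) b) = C ((ι k * X) ^ (j + 1)) b := fun j => by
        rw [pow_succ']
        exact (DFunLike.congr_fun (map_mul C (ι k * X) ((ι k * X) ^ j)) b).symm
      simp only [this]
      have h1 := Finset.prod_range_succ' (fun j => C ((ι k * X) ^ j) b) q
      rw [Finset.prod_range_succ, hy, pow_zero] at h1
      exact (mul_right_cancel h1).symm
    refine Subtype.ext (hfix k k.2 s s.2 ?_)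
    have h2 := congrArg Subtype.val hfixed
    rw [hCv] at h2
    show (k : G) * x * s = s * ((k : G) * x)
    calc (k : G) * x * s = (k : G) * x * s * ((k : G) * x)⁻¹ * ((k : G) * x) := by group
      _ = s * ((k : G) * x) := by
        congr 1
  -- the bijections
  have hbij : ∀ j, 0 < j → j < q →
      Function.Bijective (fun k : K => (⟨((k : G) * x) ^ j * (x ^ j)⁻¹, hmem k j⟩ : K)) := by
    intro j hj0 hjq
    refine Finite.injective_iff_bijective.1 fun a c hac => ?_
    have h1 : ((a : G) * x) ^ j = ((c : G) * x) ^ j :=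
      mul_right_cancel (congrArg Subtype.val hac)
    have hcopj : j.Coprime q :=
      ((hq.out.coprime_iff_not_dvd).2 fun hd => absurd (Nat.le_of_dvd hj0 hd) (by omega)).symm
    obtain ⟨t, ht⟩ := Nat.exists_mul_mod_eq_one_of_coprime hcopj hq.out.one_lt
    have h2 : ∀ k ∈ K, (((k : G) * x) ^ j) ^ t = (k : G) * x := fun k hk => by
      rw [← pow_mul, ← Nat.div_add_mod (j * t) q, ht.2, pow_succ, pow_mul, hord k hk, one_pow,
        one_mul]
    have h3 := congrArg (· ^ t) h1
    simp only [h2 a a.2, h2 c c.2] at h3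
    exact Subtype.ext (mul_right_cancel h3)
  -- the average
  intro g hg
  rw [Subgroup.mem_centralizer_iff]
  intro b0 hb0
  let P : B → B := fun b => ∏ k : K, C (ι k) b
  have hPfix : ∀ b, C (ι ⟨g, hg⟩) (P b) = P b := fun b => by
    show C (ι ⟨g, hg⟩) (∏ k : K, C (ι k) b) = _
    rw [map_prod]
    refine Fintype.prod_equiv (Equiv.mulLeft (⟨g, hg⟩ : K)) _ _ fun k => ?_
    rw [← MulAut.mul_apply, ← map_mul]
    rfl
  set b : B := ⟨b0, hb0⟩ with hb
  have hsum : ∏ k : K, ∏ j ∈ Finset.range q, C ((ι k * X) ^ j) b = 1 :=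
    Finset.prod_eq_one fun k _ => hnorm k b
  rw [Finset.prod_comm, Finset.range_eq_Ico, Finset.prod_eq_prod_Ico_succ_bot hq.out.pos] at hsum
  simp only [pow_zero, map_one, MulAut.one_apply, Finset.prod_const, Finset.card_univ] at hsum
  have hstep : ∀ j ∈ Finset.Ico (0 + 1) q, ∏ k : K, C ((ι k * X) ^ j) b = P (C (X ^ j) b) := by
    intro j hj
    rw [Finset.mem_Ico] at hj
    refine Fintype.prod_bijective _ (hbij j (by omega) hj.2) _ _ fun k => ?_
    rw [← MulAut.mul_apply, ← map_mul]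
    congr 2
    exact Subtype.ext (by simp [ι, X])
  rw [Finset.prod_congr rfl hstep] at hsum
  have hPprod : ∀ j, C (ι ⟨g, hg⟩) (P (C (X ^ j) b)) = P (C (X ^ j) b) := fun j => hPfix _
  have hbn : C (ι ⟨g, hg⟩) (b ^ Fintype.card K) = b ^ Fintype.card K := by
    rw [eq_inv_of_mul_eq_one_left hsum, map_inv, map_prod]
    simp only [hPprod]
  have hbfix : C (ι ⟨g, hg⟩) b = b := by
    rw [← Nat.card_eq_fintype_card] at hbn
    rw [map_pow] at hbn
    exact (powCoprime (G := B) hcop.symm).injective hbn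
  have h5 := congrArg Subtype.val hbfix
  rw [hCv] at h5
  change g * b0 * g⁻¹ = b0 at h5
  calc b0 * g = g * b0 * g⁻¹ * g := by rw [h5]
    _ = g * b0 := by group

theorem solvable_of_no_klein (hcp : ∀ g : G, g ≠ 1 → IsPrimePow (orderOf g))
    (hk : ∀ E : Subgroup G, ¬ IsKleinFour E) : Group.IsSolvable G := by
  rcases Nat.even_or_odd (Nat.card G) with he | ho
  swap
  · refine Cfsg.Agent.S0183.result ho fun x hx => ?_
    obtain ⟨p, i, hp, hi, hxo⟩ := (isPrimePow_nat_iff _).1 (hcp x hx)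
    haveI := Fact.mk hp
    refine (IsPGroup.iff_orderOf.2 ?_ : IsPGroup p (centralizer ({x} : Set G))).isNilpotent
    rintro ⟨y, hy⟩
    rw [Subgroup.orderOf_mk]
    by_cases hy1 : y = 1
    · exact ⟨0, by simp [hy1]⟩
    obtain ⟨r, j, hr, hj, hyo⟩ := (isPrimePow_nat_iff _).1 (hcp y hy1)
    refine ⟨j, ?_⟩
    by_cases hrp : r = p
    · rw [← hrp, hyo]
    have hcop : (orderOf x).Coprime (orderOf y) := by
      rw [← hxo, ← hyo]
      exact Nat.Coprime.pow i j ((Nat.coprime_primes hp hr).2 (Ne.symm hrp))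
    have hc : Commute x y := (Subgroup.mem_centralizer_singleton_iff.1 hy).symm
    exact absurd (hcp _ fun e => hx (by
      have : orderOf x ∣ 1 := by
        have h1 : x = y⁻¹ := eq_inv_of_mul_eq_one_left e
        have h2 : orderOf x = orderOf y := by rw [h1, orderOf_inv]
        rw [← h2] at hcop
        exact ((Nat.coprime_self _).1 hcop) ▸ dvd_rfl
      exact orderOf_eq_one_iff.1 (Nat.dvd_one.1 this))) (not_isPrimePow_mul hc hx hy1 hcop)
  · obtain ⟨z, hz, M, hMn, hMo, hzM⟩ := Cfsg.Agent.S0225.result he hk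
    haveI := hMn
    have hz1 : z ≠ 1 := fun e => by rw [e, orderOf_one] at hz; omega
    have hzz : z * z = 1 := by rw [← pow_two, ← hz, pow_orderOf_eq_one]
    have hzi : z⁻¹ = z := inv_eq_of_mul_eq_one_right hzz
    let φ : M →* M :=
      { toFun := fun a => ⟨z * a * z⁻¹, hMn.conj_mem a a.2 z⟩
        map_one' := Subtype.ext (by simp)
        map_mul' := fun a b => Subtype.ext (by simp) }
    have hfpf : MonoidHom.FixedPointFree φ := by
      intro a ha
      have h1 : z * (a : G) * z⁻¹ = a := congrArg Subtype.val ha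
      by_contra ha1
      have ha1' : (a : G) ≠ 1 := fun e => ha1 (Subtype.ext e)
      have hc : Commute z (a : G) := by
        show z * (a : G) = a * z
        calc z * (a : G) = z * a * z⁻¹ * z := by group
          _ = a * z := by rw [h1]
      have hcop : (orderOf z).Coprime (orderOf (a : G)) := hz ▸
        (Nat.prime_two.coprime_iff_not_dvd.2 fun hd =>
          hMo.not_two_dvd_nat (hd.trans (M.orderOf_dvd_natCard a.2)))
      refine not_isPrimePow_mul hc hz1 ha1' hcop (hcp _ fun e => ?_)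
      have h2 : (a : G) = z⁻¹ := eq_inv_of_mul_eq_one_right e
      rw [h2, orderOf_inv, hz] at hcop
      norm_num at hcop
    have hinv : Function.Involutive φ := fun a => Subtype.ext (by
      show z * (z * (a : G) * z⁻¹) * z⁻¹ = a
      calc z * (z * (a : G) * z⁻¹) * z⁻¹ = (z * z) * a * (z * z)⁻¹ := by group
        _ = a := by rw [hzz, one_mul, inv_one, mul_one])
    letI : CommGroup M := { mul_comm := fun a b => (hfpf.commute_all_of_involutive hinv a b).eq }
    haveI : Group.IsSolvable M := inferInstance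
    haveI : Fact (Nat.Prime 2) := ⟨Nat.prime_two⟩
    have hQ : IsPGroup 2 (G ⧸ M) := by
      refine IsPGroup.iff_orderOf.2 fun c => ?_
      obtain ⟨y, rfl⟩ := QuotientGroup.mk'_surjective M c
      by_contra hnot
      have h0 : orderOf (QuotientGroup.mk' M y) ≠ 1 := fun e => hnot ⟨0, by rw [pow_zero]; exact e⟩
      obtain ⟨r, j, hr, hj, hyo⟩ := (isPrimePow_nat_iff _).1
        (hcp y fun e => h0 (by rw [e, map_one, orderOf_one]))
      obtain ⟨i, hij, hi⟩ := (Nat.dvd_prime_pow hr).1 (hyo ▸ orderOf_map_dvd (QuotientGroup.mk' M) y)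
      have hr2 : r ≠ 2 := fun e => hnot ⟨i, e ▸ hi⟩
      have hzQ : QuotientGroup.mk' M z ≠ 1 := fun e => by
        have : z ∈ M := (QuotientGroup.eq_one_iff z).1 e
        exact hMo.not_two_dvd_nat (hz ▸ M.orderOf_dvd_natCard this)
      have hzo : orderOf (QuotientGroup.mk' M z) ∣ 2 := hz ▸ orderOf_map_dvd _ z
      have hcop : (orderOf (QuotientGroup.mk' M z)).Coprime (orderOf (QuotientGroup.mk' M y)) := by
        rw [hi]
        exact Nat.Coprime.coprime_dvd_left hzo
          (Nat.Coprime.pow_right i ((Nat.coprime_primes Nat.prime_two hr).2 (Ne.symm hr2)))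
      have hc : Commute (QuotientGroup.mk' M z) (QuotientGroup.mk' M y) := by
        show QuotientGroup.mk' M z * QuotientGroup.mk' M y = QuotientGroup.mk' M y * QuotientGroup.mk' M z
        rw [← commutatorElement_eq_one_iff_mul_comm, ← map_commutatorElement, commutatorElement_def]
        exact (QuotientGroup.eq_one_iff _).2 (hzM y)
      have hy1 : QuotientGroup.mk' M y ≠ 1 := fun e => h0 (by rw [e, orderOf_one])
      have hbad := not_isPrimePow_mul hc hzQ hy1 hcop
      have hne : z * y ≠ 1 := fun e => by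
        have h1 : QuotientGroup.mk' M z * QuotientGroup.mk' M y = 1 := by rw [← map_mul, e, map_one]
        have h2 : orderOf (QuotientGroup.mk' M z) = orderOf (QuotientGroup.mk' M y) := by
          rw [eq_inv_of_mul_eq_one_left h1, orderOf_inv]
        rw [h2, Nat.coprime_self] at hcop
        exact h0 hcop
      refine hbad ?_
      rw [← map_mul]
      refine (hcp (z * y) hne).dvd (orderOf_map_dvd _ _) fun e => ?_
      rw [map_mul, hc.orderOf_mul_eq_mul_orderOf_of_coprime hcop] at e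
      exact h0 (Nat.eq_one_of_mul_eq_one_left e)
    haveI := hQ.isNilpotent
    exact solvable_of_ker_le_range M.subtype (QuotientGroup.mk' M) (by simp)

theorem sylow_center (S : Subgroup G) {s : ℕ} [Fact s.Prime] (hS : IsPGroup s S) (hS1 : S ≠ ⊥) :
    IsMulCommutative ↥((center S).map S.subtype) ∧ (center S).map S.subtype ≠ ⊥ ∧
      IsPGroup s ↥((center S).map S.subtype) ∧
      normalizer (S : Set G) ≤ normalizer (((center S).map S.subtype : Subgroup G) : Set G) := by
  refine ⟨inferInstance, ?_, (hS.to_subgroup _).map _, ?_⟩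
  · haveI : Nontrivial S := (nontrivial_iff_ne_bot _).2 hS1
    haveI := hS.center_nontrivial
    intro h
    rw [map_eq_bot_iff_of_injective _ S.subtype_injective] at h
    exact (nontrivial_iff_ne_bot _).1 inferInstance h
  · intro g hg
    refine Cfsg.Lib.MinimalNonClosed.mem_normalizer_of_forall ?_
    rintro _ ⟨⟨c, hc⟩, hcc, rfl⟩
    refine ⟨⟨g * c * g⁻¹, (Subgroup.mem_normalizer_iff.1 hg c).1 hc⟩,
      Subgroup.mem_center_iff.2 fun a => Subtype.ext ?_, rfl⟩
    obtain ⟨a, ha⟩ := a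
    have h1 := congrArg Subtype.val (Subgroup.mem_center_iff.1 hcc
      ⟨g⁻¹ * a * g, (Subgroup.mem_normalizer_iff.1 hg _).2 (by simpa [mul_assoc] using ha)⟩)
    change g⁻¹ * a * g * c = c * (g⁻¹ * a * g) at h1
    show a * (g * c * g⁻¹) = g * c * g⁻¹ * a
    calc a * (g * c * g⁻¹) = g * (g⁻¹ * a * g * c) * g⁻¹ := by group
      _ = g * (c * (g⁻¹ * a * g)) * g⁻¹ := by rw [h1]
      _ = g * c * g⁻¹ * a := by group

theorem solvable_quotient (N : Subgroup G) [N.Normal] (h : ∀ g : G, g ∉ N → IsPrimePow (orderOf g))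
    {r : ℕ} [hr : Fact r.Prime] (hr2 : r ≠ 2) (hrN : r ∣ Nat.card N) : Group.IsSolvable (G ⧸ N) := by
  classical
  haveI := Fact.mk Nat.prime_two
  obtain ⟨R⟩ : Nonempty (Sylow r N) := inferInstance
  set RG := (R : Subgroup N).map N.subtype with hRG
  obtain ⟨T, hT0, hmin⟩ := exists_minimal_le_of_wellFoundedLT
    (fun T : Subgroup G => T ⊔ N = ⊤ ∧ T ≤ normalizer (RG : Set G)) (normalizer (RG : Set G))
    ⟨Sylow.normalizer_sup_eq_top R, le_rfl⟩
  clear hT0
  have hTN := hmin.1.1
  have hTR := hmin.1.2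
  set T0 := N.subgroupOf T with hT0def
  -- `T0` is nilpotent
  haveI hnil : Group.IsNilpotent T0 := by
    refine ((Group.isNilpotent_of_finite_tfae (G := T0)).out 0 3).2 fun s hs P => ?_
    haveI := hs
    have hsup := Sylow.normalizer_sup_eq_top P
    set A := (normalizer (((P : Subgroup T0).map T0.subtype : Subgroup T) : Set T)).map T.subtype
    have hA : A ≤ T := map_subtype_le _
    have hA' : A ⊔ N = ⊤ := by
      rw [eq_top_iff, ← hTN]
      refine sup_le (fun t ht => ?_) le_sup_right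
      have h1 := congrArg (Subgroup.map T.subtype) hsup
      rw [Subgroup.map_sup, ← MonoidHom.range_eq_map, Subgroup.range_subtype] at h1
      have h2 : T0.map T.subtype ≤ N := by
        rintro _ ⟨a, ha, rfl⟩
        exact ha
      exact (h1.ge.trans (sup_le_sup le_rfl h2)) ht
    have hAT : A = T := le_antisymm hA (hmin.2 ⟨hA', hA.trans hTR⟩ hA)
    have htop : normalizer (((P : Subgroup T0).map T0.subtype : Subgroup T) : Set T) = ⊤ := by
      refine Subgroup.map_injective T.subtype_injective (hAT.trans ?_)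
      rw [← MonoidHom.range_eq_map, Subgroup.range_subtype]
    haveI := normalizer_eq_top_iff.1 htop
    have hc : (P : Subgroup T0) = ((P : Subgroup T0).map T0.subtype).subgroupOf T0 := by
      rw [subgroupOf, comap_map_eq_self_of_injective T0.subtype_injective]
    rw [hc]
    infer_instance
  have hcp : ∀ c : G ⧸ N, c ≠ 1 → IsPrimePow (orderOf c) := by
    intro c hc
    obtain ⟨y, rfl⟩ := QuotientGroup.mk'_surjective N c
    exact (h y fun hy => hc ((QuotientGroup.eq_one_iff y).2 hy)).dvd (orderOf_map_dvd _ _)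
      fun e => hc (orderOf_eq_one_iff.1 e)
  have hsurj : Function.Surjective ((QuotientGroup.mk' N).comp T.subtype) := by
    rw [← MonoidHom.range_eq_top, MonoidHom.range_comp, Subgroup.range_subtype, eq_top_iff,
      ← Subgroup.map_top_of_surjective _ (QuotientGroup.mk'_surjective N), ← hTN, Subgroup.map_sup,
      sup_le_iff]
    refine ⟨le_rfl, ?_⟩
    rintro _ ⟨a, ha, rfl⟩
    rw [show QuotientGroup.mk' N a = 1 from (QuotientGroup.eq_one_iff a).2 ha]
    exact one_mem _
  have hnoklein : ∀ B : Subgroup G, IsMulCommutative B → B ≤ N → B ≠ ⊥ → Odd (Nat.card B) →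
      T ≤ normalizer (B : Set G) →
      (∀ y ∈ T, y ∈ N → (∃ i, orderOf y = 2 ^ i) → y ∈ centralizer (B : Set G)) →
      Group.IsSolvable (G ⧸ N) := by
    intro B hBc hBN hB hBo hTB hcent
    refine solvable_of_no_klein hcp fun E hE => ?_
    set π := (QuotientGroup.mk' N).comp T.subtype with hπ
    let ρ : ↥(E.comap π) →* ↥E := π.subgroupComap E
    have hρ : Function.Surjective ρ := fun e => by
      obtain ⟨t, ht⟩ := hsurj e
      exact ⟨⟨t, show π t ∈ E from by rw [hπ]; exact ht.symm ▸ e.2⟩, Subtype.ext ht⟩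
    obtain ⟨U⟩ : Nonempty (Sylow 2 ↥(E.comap π)) := inferInstance
    have hUtop : (U : Subgroup ↥(E.comap π)).map ρ = ⊤ := by
      have hE2 : IsPGroup 2 E := IsPGroup.of_card (n := 2) (by rw [hE.card_four]; norm_num)
      have h1 := (U.mapSurjective hρ).3 (hE2.to_subgroup ⊤) le_top
      rw [Sylow.coe_mapSurjective] at h1
      exact h1.symm
    set U' := ((U : Subgroup ↥(E.comap π)).map (E.comap π).subtype).map T.subtype with hU'
    have hlift : ∀ e : E, ∃ v ∈ U', QuotientGroup.mk' N v = e := fun e => by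
      obtain ⟨a, ha, hae⟩ := hUtop.ge (mem_top e)
      exact ⟨_, ⟨_, ⟨a, ha, rfl⟩, rfl⟩, congrArg Subtype.val hae⟩
    haveI := hE
    obtain ⟨a, c, ha, hc, hac⟩ : ∃ a c : E, a ≠ 1 ∧ c ≠ 1 ∧ a ≠ c := by
      haveI := Fintype.ofFinite E
      have h4 : Fintype.card E = 4 := by rw [← Nat.card_eq_fintype_card, hE.card_four]
      obtain ⟨a, ha⟩ := Fintype.exists_ne_of_one_lt_card (by omega : 1 < Fintype.card E) 1
      obtain ⟨c, hc⟩ : (((Finset.univ : Finset E).erase 1).erase a).Nonempty := Finset.card_pos.1 (by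
        rw [Finset.card_erase_of_mem (Finset.mem_erase.2 ⟨ha, Finset.mem_univ a⟩),
          Finset.card_erase_of_mem (Finset.mem_univ 1), Finset.card_univ, h4]
        norm_num)
      simp only [Finset.mem_erase, Finset.mem_univ, and_true] at hc
      exact ⟨a, c, ha, hc.2, Ne.symm hc.1⟩
    obtain ⟨u, hu, hua⟩ := hlift a
    obtain ⟨w, hw, hwc⟩ := hlift c
    have hsq : ∀ (e : E) (v : G), QuotientGroup.mk' N v = e → v * v ∈ N := fun e v hv => by
      refine (QuotientGroup.eq_one_iff _).1 ?_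
      change QuotientGroup.mk' N (v * v) = 1
      rw [map_mul, hv, ← Subgroup.coe_mul, IsKleinFour.mul_self, OneMemClass.coe_one]
    have hnot : ∀ (e : E) (v : G), QuotientGroup.mk' N v = e → e ≠ 1 → v ∉ N := fun e v hv he hvN =>
      he (Subtype.ext (hv.symm.trans ((QuotientGroup.eq_one_iff v).2 hvN)))
    have hmem := key N h B T hBc hBN hB hBo hTB hcent U' (map_subtype_le _)
      ((U.2.map _).map _) hu hw (hsq a u hua) (hsq c w hwc) (hnot a u hua ha) (hnot c w hwc hc)
    have h1 : QuotientGroup.mk' N (u * w⁻¹) = 1 := (QuotientGroup.eq_one_iff _).2 hmem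
    rw [map_mul, map_inv, hua, hwc, mul_inv_eq_one] at h1
    exact hac (Subtype.ext h1)
  by_cases hT02 : IsPGroup 2 T0
  swap
  · -- an odd Sylow subgroup of `T0`
    obtain ⟨s, hs, hsd, hs2⟩ : ∃ s : ℕ, s.Prime ∧ s ∣ Nat.card T0 ∧ s ≠ 2 := by
      by_contra hno
      push Not at hno
      refine hT02 (IsPGroup.of_card (n := (Nat.card T0).primeFactorsList.length) ?_)
      exact Nat.eq_prime_pow_of_unique_prime_dvd Nat.card_pos.ne' fun hd hdd => hno _ hd hdd
    haveI := Fact.mk hs
    obtain ⟨S⟩ : Nonempty (Sylow s T0) := inferInstance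
    have hnormal := ((Group.isNilpotent_of_finite_tfae (G := T0)).out 0 3).1 hnil
    haveI : (S : Subgroup T0).Normal := hnormal s inferInstance S
    haveI := Sylow.characteristic_of_normal S inferInstance
    set SG := ((S : Subgroup T0).map T0.subtype).map T.subtype with hSG
    have hSne : SG ≠ ⊥ := by
      rw [hSG, Ne, map_eq_bot_iff_of_injective _ T.subtype_injective,
        map_eq_bot_iff_of_injective _ T0.subtype_injective]
      exact S.ne_bot_of_dvd_card hsd
    have hTS : T ≤ normalizer (SG : Set G) := by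
      haveI : ((S : Subgroup T0).map T0.subtype).Normal := ConjAct.normal_of_characteristic_of_normal
      intro t ht
      refine Cfsg.Lib.MinimalNonClosed.mem_normalizer_of_forall ?_
      rintro _ ⟨c, hc, rfl⟩
      exact ⟨⟨t, ht⟩ * c * ⟨t, ht⟩⁻¹, Subgroup.Normal.conj_mem inferInstance c hc _, rfl⟩
    obtain ⟨hBc, hB, hBs, hBN'⟩ := sylow_center SG ((S.2.map _).map _) hSne
    have hBS : (center SG).map SG.subtype ≤ SG := map_subtype_le _
    refine hnoklein _ hBc (hBS.trans ?_) hB ?_ (hTS.trans hBN') ?_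
    · rintro _ ⟨c, ⟨d, hd, rfl⟩, rfl⟩
      exact d.2
    · obtain ⟨i, hi⟩ := IsPGroup.iff_card.1 hBs
      rw [hi]; exact (hs.odd_of_ne_two hs2).pow
    · intro y hyT hyN hy2
      rw [Subgroup.mem_centralizer_iff]
      intro b hb
      obtain ⟨c, ⟨d, hd, rfl⟩, rfl⟩ := hBS hb
      obtain ⟨i, hi⟩ := hy2
      obtain ⟨j, hj⟩ := IsPGroup.iff_orderOf.1 S.2 ⟨d, hd⟩
      have hyo : orderOf (⟨⟨y, hyT⟩, hyN⟩ : T0) = 2 ^ i := by
        rw [← Subgroup.orderOf_coe, ← Subgroup.orderOf_coe]; exact hi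
      have hdo : orderOf d = s ^ j := by
        rw [← hj, ← Subgroup.orderOf_coe ⟨d, hd⟩]
      have hcop : (orderOf (⟨⟨y, hyT⟩, hyN⟩ : T0)).Coprime (orderOf d) := by
        rw [hyo, hdo]
        exact Nat.Coprime.pow i j ((Nat.coprime_primes Nat.prime_two hs).2 (Ne.symm hs2))
      exact congrArg (fun z : T0 => ((z : T) : G))
        (Cfsg.Lib.FittingHall.commute_coprime hcop).eq.symm
  -- `T0` is a 2-group
  have hRne : RG ≠ ⊥ := by
    rw [hRG, Ne, map_eq_bot_iff_of_injective _ N.subtype_injective]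
    exact R.ne_bot_of_dvd_card hrN
  obtain ⟨hBc, hB, hBr, hBN'⟩ := sylow_center RG (R.2.map _) hRne
  set B := (center RG).map RG.subtype with hBdef
  have hBN : B ≤ N := (map_subtype_le _).trans (map_subtype_le _)
  have hTB : T ≤ normalizer (B : Set G) := hTR.trans hBN'
  have hBo : Odd (Nat.card B) := by
    obtain ⟨i, hi⟩ := IsPGroup.iff_card.1 hBr
    rw [hi]; exact (hr.out.odd_of_ne_two hr2).pow
  set K := T0.map T.subtype with hK
  have hK2 : IsPGroup 2 K := hT02.map _
  have hKmem : ∀ y : G, y ∈ K ↔ y ∈ T ∧ y ∈ N := fun y => by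
    constructor
    · rintro ⟨t, ht, rfl⟩; exact ⟨t.2, ht⟩
    · exact fun hy => ⟨⟨y, hy.1⟩, hy.2, rfl⟩
  by_cases hKB : K ≤ centralizer (B : Set G)
  · exact hnoklein B hBc hBN hB hBo hTB fun y hyT hyN _ => hKB ((hKmem y).2 ⟨hyT, hyN⟩)
  -- only two primes
  have hprimes : ∀ q : ℕ, q.Prime → q ∣ Nat.card (G ⧸ N) → q = 2 ∨ q = r := by
    intro q hq hqd
    by_contra hne
    rw [not_or] at hne
    haveI := Fact.mk hq
    obtain ⟨⟨x, hxT⟩, hx⟩ := exists_prime_orderOf_dvd_card' (G := T) q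
      (hqd.trans (Subgroup.card_dvd_of_surjective _ hsurj))
    rw [Subgroup.orderOf_mk] at hx
    obtain ⟨i, hi⟩ := IsPGroup.iff_card.1 hK2
    have hqK : ¬ q ∣ Nat.card K := fun hd => hne.1
      ((Nat.prime_dvd_prime_iff_eq hq Nat.prime_two).1 (hq.dvd_of_dvd_pow (hi ▸ hd)))
    have hxK : x ∉ K := fun hxK => hqK (hx ▸ K.orderOf_dvd_natCard hxK)
    have hkN : ∀ k ∈ K, k * x ∉ N := fun k hk hkx => hxK ((hKmem x).2
      ⟨hxT, by simpa using mul_mem (inv_mem ((hKmem k).1 hk).2) hkx⟩)
    have hxn : x ∈ normalizer (K : Set G) := Cfsg.Lib.MinimalNonClosed.mem_normalizer_of_forall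
      fun k hk => (hKmem _).2 ⟨T.mul_mem (T.mul_mem hxT ((hKmem k).1 hk).1) (T.inv_mem hxT),
        ‹N.Normal›.conj_mem k ((hKmem k).1 hk).2 x⟩
    have hpowN : ∀ k ∈ K, (k * x) ^ q ∈ K := fun k hk => by
      refine (hKmem _).2 ⟨T.pow_mem (T.mul_mem ((hKmem k).1 hk).1 hxT) q,
        (QuotientGroup.eq_one_iff _).1 ?_⟩
      change QuotientGroup.mk' N ((k * x) ^ q) = 1
      rw [map_pow, map_mul, show QuotientGroup.mk' N k = 1 from
        (QuotientGroup.eq_one_iff k).2 ((hKmem k).1 hk).2, one_mul, ← map_pow, ← hx,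
        pow_orderOf_eq_one, map_one]
    have hord : ∀ k ∈ K, (k * x) ^ q = 1 := by
      intro k hk
      obtain ⟨s, j, hs, hj, hso⟩ := (isPrimePow_nat_iff _).1 (h _ (hkN k hk))
      have hqs : q ∣ orderOf (k * x) := by
        have h1 : orderOf (QuotientGroup.mk' N (k * x)) ∣ q := by
          rw [map_mul, show QuotientGroup.mk' N k = 1 from
            (QuotientGroup.eq_one_iff k).2 ((hKmem k).1 hk).2, one_mul, ← hx]
          exact orderOf_map_dvd _ _
        rcases hq.eq_one_or_self_of_dvd _ h1 with e | e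
        · exact absurd ((QuotientGroup.eq_one_iff _).1 (orderOf_eq_one_iff.1 e)) (hkN k hk)
        · exact e ▸ orderOf_map_dvd _ _
      have hsq' : s = q := ((Nat.prime_dvd_prime_iff_eq hq hs).1 (hq.dvd_of_dvd_pow (hso ▸ hqs))).symm
      refine orderOf_eq_one_iff.1 (Nat.eq_one_of_dvd_coprimes (Nat.Coprime.pow j i
        ((Nat.coprime_primes hs Nat.prime_two).2 (hsq' ▸ hne.1))) ?_ ?_)
      · exact hso ▸ orderOf_pow_dvd q
      · exact hi ▸ K.orderOf_dvd_natCard (hpowN k hk)
    refine hKB (centralizes_of_fpf K B hBc (fun k hk => hTB ((hKmem k).1 hk).1) x (hTB hxT) hxn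
      hord hxK ?_ ?_)
    · rw [hi]
      exact Nat.Coprime.pow_left i (Nat.prime_two.coprime_iff_not_dvd.2 hBo.not_two_dvd_nat)
    · intro k hk b hb hc
      by_contra hb1
      refine hkN k hk (mem_of_commute N h hc ?_ (hBN hb) hb1)
      obtain ⟨j, hj⟩ := IsPGroup.iff_card.1 hBr
      exact ((Nat.coprime_primes hq hr.out).2 hne.2).pow_right j |>.coprime_dvd_left
        (orderOf_dvd_of_pow_eq_one (hord k hk)) |>.coprime_dvd_right (hj ▸ B.orderOf_dvd_natCard hb)
  refine Cfsg.Lib.Chars.burnside_isSolvable 2 r Nat.prime_two hr.out _ ?_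
  have hn : Nat.card (G ⧸ N) ≠ 0 := Nat.card_pos.ne'
  refine ⟨(Nat.card (G ⧸ N)).factorization 2, (Nat.card (G ⧸ N)).factorization r, ?_⟩
  conv_lhs => rw [← Nat.prod_factorization_pow_eq_self hn]
  rw [← Finset.prod_pair (f := fun s => s ^ (Nat.card (G ⧸ N)).factorization s) (Ne.symm hr2)]
  refine Finset.prod_subset ?_ fun s _ hs => by
    simp [Finsupp.notMem_support_iff.1 hs]
  intro s hs
  rw [Nat.support_factorization, Nat.mem_primeFactors] at hs
  rw [Finset.mem_insert, Finset.mem_singleton]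
  exact hprimes s hs.1 hs.2.1


/-- Let N be a non-trivial normal subgroup of the finite group G such that every element of G outside N has prime power order. If N is not solvable, then G/N is solvable. -/
theorem result {G : Type*} [Group G] [Finite G] (N : Subgroup G) [N.Normal] (hN : N ≠ ⊥) (hns : ¬ Group.IsSolvable ↥N)
    (h : ∀ x : G, x ∉ N → IsPrimePow (orderOf x)) : Group.IsSolvable (G ⧸ N) := by
  classical
  obtain ⟨r, hr, hrd, hr2⟩ : ∃ r : ℕ, r.Prime ∧ r ∣ Nat.card N ∧ r ≠ 2 := by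
    by_contra hno
    push Not at hno
    haveI := Fact.mk Nat.prime_two
    have h2 : IsPGroup 2 N := IsPGroup.of_card (n := (Nat.card N).primeFactorsList.length)
      (Nat.eq_prime_pow_of_unique_prime_dvd Nat.card_pos.ne' fun hd hdd => hno _ hd hdd)
    haveI := h2.isNilpotent
    exact hns inferInstance
  haveI := Fact.mk hr
  exact solvable_quotient N h hr2 hrd

end Cfsg.Agent.S3901
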