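import Cfsg.Statements.S3903
import Cfsg.Agent.Transfer.Basic
import Cfsg.Agent.Coprime.Sylow

set_option autoImplicit false
open Cfsg

namespace Cfsg.Agent.S3903

open Subgroup

private theorem solvable_pgroup {H : Type*} [Group H] [Finite H] {p : ℕ} [Fact p.Prime] (h : IsPGroup p H) :
    Group.IsSolvable H := by
  haveI := h.isNilpotent
  infer_instance

/-- A `p`-group meeting a coset is normalized only by `p`-groups. -/
private theorem normalizer_pgroup {G : Type*} [Group G] [Finite G] {p : ℕ} [hp : Fact p.Prime] (N : Subgroup G) [N.Normal]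
    (hq : ∀ k : G, (orderOf k).Coprime p → k ∈ N)
    (hC : ∀ y : G, y ∉ N → (∃ i, orderOf y = p ^ i) → IsPGroup p ↥(centralizer ({y} : Set G)))
    (D : Subgroup G) (hD : IsPGroup p D) (hDN : ¬ D ≤ N) : IsPGroup p ↥(normalizer (D : Set G)) := by
  classical
  refine IsPGroup.of_card (n := (Nat.card ↥(normalizer (D : Set G))).factorization p) ?_
  rw [Nat.eq_prime_pow_of_unique_prime_dvd Nat.card_pos.ne' (p := p) fun {q} hqp hqd => ?_]
  · rw [Nat.Prime.factorization_pow hp.out, Finsupp.single_eq_same]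
  by_contra hne
  haveI : Fact q.Prime := ⟨hqp⟩
  obtain ⟨⟨k, hk⟩, hko⟩ := exists_prime_orderOf_dvd_card' q hqd
  rw [Subgroup.orderOf_mk] at hko
  have hkN : k ∈ N := hq k (by rw [hko]; exact (Nat.coprime_primes hqp hp.out).2 hne)
  obtain ⟨d, hdD, hdN⟩ := SetLike.not_le_iff_exists.1 hDN
  let α := {a : G // a ∈ D ∧ d⁻¹ * a ∈ N}
  have hstab : ∀ u : ↥(zpowers k), ∀ a : α, (u : G) * a * (u : G)⁻¹ ∈ D ∧ d⁻¹ * ((u : G) * a * (u : G)⁻¹) ∈ N := by
    rintro ⟨u, hu⟩ ⟨a, haD, haN⟩
    refine ⟨(mem_normalizer_iff.1 (zpowers_le.2 hk hu) a).1 haD, ?_⟩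
    show d⁻¹ * (u * a * u⁻¹) ∈ N
    have huN : u ∈ N := zpowers_le.2 hkN hu
    rw [show d⁻¹ * (u * a * u⁻¹) = (d⁻¹ * u * d) * (d⁻¹ * a) * u⁻¹ by group]
    refine mul_mem (mul_mem ?_ haN) (inv_mem huN)
    have := (inferInstance : N.Normal).conj_mem u huN d⁻¹
    rwa [inv_inv] at this
  letI : MulAction ↥(zpowers k) α :=
    { smul := fun u a => ⟨(u : G) * a * (u : G)⁻¹, hstab u a⟩
      one_smul := fun a => Subtype.ext (by show (1 : G) * a * (1 : G)⁻¹ = a; group)
      mul_smul := fun u v a => Subtype.ext (by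
        show ((u : G) * v) * a * ((u : G) * v)⁻¹ = (u : G) * ((v : G) * a * (v : G)⁻¹) * (u : G)⁻¹
        group) }
  have hcard : Nat.card α = Nat.card ↥(D ⊓ N) := by
    refine Nat.card_congr ⟨fun a => ⟨d⁻¹ * a.1, D.mul_mem (D.inv_mem hdD) a.2.1, a.2.2⟩,
      fun b => ⟨d * b.1, D.mul_mem hdD b.2.1, by rw [inv_mul_cancel_left]; exact b.2.2⟩, fun a => ?_, fun b => ?_⟩
    · exact Subtype.ext (mul_inv_cancel_left d a.1)
    · exact Subtype.ext (inv_mul_cancel_left d b.1)
  have hmod := (IsPGroup.of_card (p := q) (n := 1) (by rw [Nat.card_zpowers, hko, pow_one]) :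
    IsPGroup q ↥(zpowers k)).card_modEq_card_fixedPoints α
  have hne0 : Nat.card (MulAction.fixedPoints ↥(zpowers k) α) ≠ 0 := by
    intro h0
    rw [h0, hcard] at hmod
    obtain ⟨i, hi⟩ := IsPGroup.iff_card.1 (hD.to_le (inf_le_left : D ⊓ N ≤ D))
    rw [hi] at hmod
    exact hne ((Nat.prime_dvd_prime_iff_eq hqp hp.out).1 (hqp.dvd_of_dvd_pow (Nat.modEq_zero_iff_dvd.1 hmod)))
  obtain ⟨⟨⟨a, haD, haN⟩, hfix⟩⟩ := (Nat.card_ne_zero.1 hne0).1
  have haN' : a ∉ N := fun h => hdN (by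
    have := mul_mem h (inv_mem haN)
    rwa [mul_inv_rev, inv_inv, mul_inv_cancel_left] at this)
  obtain ⟨i, hi⟩ := IsPGroup.iff_orderOf.1 hD ⟨a, haD⟩
  rw [Subgroup.orderOf_mk] at hi
  have hka : k ∈ centralizer ({a} : Set G) := by
    have := congrArg Subtype.val (hfix ⟨k, mem_zpowers k⟩)
    exact mem_centralizer_singleton_iff.2 (mul_inv_eq_iff_eq_mul.1 (this : k * a * k⁻¹ = a))
  obtain ⟨j, hj⟩ := IsPGroup.iff_orderOf.1 (hC a haN' ⟨i, hi⟩) ⟨k, hka⟩
  rw [Subgroup.orderOf_mk, hko] at hj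
  exact hne ((Nat.prime_dvd_prime_iff_eq hqp hp.out).1 (hqp.dvd_of_dvd_pow hj.dvd))

/-- Let N be a proper normal subgroup of the finite group G such that every element x of G outside N has prime power order and has centralizer C_G(x) a maximal subgroup of G. Then N is solvable. -/
theorem result {G : Type*} [Group G] [Finite G] (N : Subgroup G) [N.Normal] (hN : N ≠ ⊤)
    (h : ∀ x : G, x ∉ N → IsPrimePow (orderOf x) ∧ IsCoatom (Subgroup.centralizer ({x} : Set G))) : Group.IsSolvable ↥N := by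
  classical
  by_contra hns
  have hGns : ¬ Group.IsSolvable G := fun hs => hns (by haveI := hs; infer_instance)
  obtain ⟨x, -, hxN⟩ := SetLike.exists_of_lt (lt_top_iff_ne_top.2 hN)
  obtain ⟨p, a, hp, ha, hxo⟩ := (h x hxN).1
  have hp' : p.Prime := Nat.prime_iff.2 hp
  haveI : Fact p.Prime := ⟨hp'⟩
  -- centralizers of `p`-elements outside `N`
  have hC : ∀ y : G, y ∉ N → (∃ i, orderOf y = p ^ i) → IsPGroup p ↥(Subgroup.centralizer ({y} : Set G)) := by
    rintro y hy ⟨i, hi⟩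
    refine IsPGroup.iff_orderOf.2 fun ⟨w, hw⟩ => ?_
    obtain ⟨u, b, -, hb, hub, ⟨j, hj⟩, hbc⟩ := Cfsg.Lib.Transfer.exists_pPart p w
    have hbC : b ∈ Subgroup.centralizer ({y} : Set G) := Subgroup.zpowers_le.2 hw hb
    have hcomm : Commute y b := (Subgroup.mem_centralizer_singleton_iff.1 hbC).symm
    have hcop : (orderOf y).Coprime (orderOf b) := by rw [hi]; exact (Nat.Coprime.pow_right i hbc).symm
    have hyb : y * b ∉ N := by
      intro hm
      have h1 : y ^ orderOf b ∈ N := by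
        have := pow_mem hm (orderOf b)
        rwa [hcomm.mul_pow, pow_orderOf_eq_one, mul_one] at this
      obtain ⟨e, he⟩ := exists_pow_eq_self_of_coprime hcop.symm
      exact hy (he ▸ pow_mem h1 e)
    obtain ⟨r, n, hr, -, hn⟩ := (h _ hyb).1
    rw [hcomm.orderOf_mul_eq_mul_orderOf_of_coprime hcop, hi] at hn
    have hi0 : i ≠ 0 := fun e => hy (by
      rw [e, pow_zero, orderOf_eq_one_iff] at hi; rw [hi]; exact one_mem _)
    have hr' := Nat.prime_iff.2 hr
    have hpr : p = r := (Nat.prime_dvd_prime_iff_eq hp' hr').1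
      (hp'.dvd_of_dvd_pow (hn ▸ Dvd.dvd.mul_right (dvd_pow_self p hi0) _))
    have hb1 : b = 1 := by
      by_contra hb1
      obtain ⟨t, ht, htd⟩ := Nat.exists_prime_and_dvd (mt orderOf_eq_one_iff.1 hb1)
      have htr : t = r := (Nat.prime_dvd_prime_iff_eq ht hr').1 (ht.dvd_of_dvd_pow (hn ▸ dvd_mul_of_dvd_right htd _))
      exact hp'.coprime_iff_not_dvd.1 hbc.symm (by rw [hpr, ← htr]; exact htd)
    exact ⟨j, by rw [Subgroup.orderOf_mk, ← hub, hb1, mul_one, hj]⟩
  -- the centralizer of `x` is a Sylow subgroup and a maximal subgroup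
  obtain ⟨P, hP⟩ := (hC x hxN ⟨a, hxo.symm⟩).exists_le_sylow
  have hPne : ∀ S : Sylow p G, (S : Subgroup G) ≠ ⊤ := fun S e => hGns (solvable_pgroup
    (S.2.of_equiv ((MulEquiv.subgroupCongr e).trans Subgroup.topEquiv)))
  have hmax : ∀ y : G, y ∉ N → ∀ S : Sylow p G, Subgroup.centralizer ({y} : Set G) ≤ (S : Subgroup G) →
      Subgroup.centralizer ({y} : Set G) = (S : Subgroup G) :=
    fun y hy S hS => (hS.lt_or_eq.resolve_left fun hlt => hPne S ((h y hy).2.2 _ hlt))
  have hPeq := hmax x hxN P hP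
  have hco : IsCoatom (P : Subgroup G) := hPeq ▸ (h x hxN).2
  have hNP : N ⊔ (P : Subgroup G) = ⊤ := by
    refine hco.2 _ (lt_of_le_of_ne le_sup_right fun e => hns ?_)
    exact solvable_pgroup (P.2.to_le (le_sup_left.trans e.ge))
  have hquot : IsPGroup p (G ⧸ N) := by
    refine P.2.of_surjective ((QuotientGroup.mk' N).comp (P : Subgroup G).subtype) fun c => ?_
    obtain ⟨g, rfl⟩ := QuotientGroup.mk'_surjective N c
    obtain ⟨n, hn, s, hs, rfl⟩ := Subgroup.mem_sup_of_normal_left.1 (show g ∈ N ⊔ (P : Subgroup G) by rw [hNP]; exact Subgroup.mem_top g)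
    refine ⟨⟨s, hs⟩, ?_⟩
    show QuotientGroup.mk' N s = QuotientGroup.mk' N (n * s)
    rw [map_mul, show QuotientGroup.mk' N n = 1 from (QuotientGroup.eq_one_iff n).2 hn, one_mul]
  have hloc := fun D hD hDN => normalizer_pgroup (p := p) N
    (fun k hk => Cfsg.Lib.Transfer.mem_of_isPGroup_quotient_of_coprime N hquot hk) hC D hD hDN
  -- two Sylow subgroups meeting outside `N` coincide
  have hTI : ∀ A B : Sylow p G, ¬ ((A : Subgroup G) ⊓ (B : Subgroup G) ≤ N) → A = B := by
    intro A B hAB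
    by_contra hne
    obtain ⟨⟨A, B⟩, ⟨hAB, hne⟩, hbig⟩ := Set.exists_max_image
      {t : Sylow p G × Sylow p G | ¬ ((t.1 : Subgroup G) ⊓ (t.2 : Subgroup G) ≤ N) ∧ t.1 ≠ t.2}
      (fun t => Nat.card ↥((t.1 : Subgroup G) ⊓ (t.2 : Subgroup G))) (Set.toFinite _) ⟨(A, B), hAB, hne⟩
    simp only at hAB hne
    set D := (A : Subgroup G) ⊓ (B : Subgroup G) with hDdef
    obtain ⟨C, hC'⟩ := (hloc D (A.2.to_le inf_le_left) hAB).exists_le_sylow
    have key : ∀ S : Sylow p G, D ≤ (S : Subgroup G) → D ≠ (S : Subgroup G) → S = C := by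
      intro S hDS hDne
      by_contra hSC
      haveI : Group.IsNilpotent ↥(S : Subgroup G) := S.2.isNilpotent
      have hlt : D.subgroupOf (S : Subgroup G) < ⊤ := lt_top_iff_ne_top.2 fun e =>
        hDne (le_antisymm hDS (Subgroup.subgroupOf_eq_top.1 e))
      obtain ⟨u, hu, huD⟩ := SetLike.exists_of_lt (Group.normalizerCondition_of_isNilpotent _ hlt)
      have hun : (u : G) ∈ Subgroup.normalizer (D : Set G) := by
        refine Subgroup.mem_normalizer_iff.2 fun d => ?_
        constructor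
        · intro hd
          exact Subgroup.mem_subgroupOf.1 ((Subgroup.mem_normalizer_iff.1 hu ⟨d, hDS hd⟩).1 (Subgroup.mem_subgroupOf.2 hd))
        · intro hd
          have hdS : d ∈ (S : Subgroup G) := by
            have := mul_mem (mul_mem (inv_mem u.2) (hDS hd)) u.2
            rwa [show (u : G)⁻¹ * ((u : G) * d * (u : G)⁻¹) * u = d by group] at this
          exact Subgroup.mem_subgroupOf.1 ((Subgroup.mem_normalizer_iff.1 hu ⟨d, hdS⟩).2 (Subgroup.mem_subgroupOf.2 hd))
      have hlt' : D < (S : Subgroup G) ⊓ (C : Subgroup G) :=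
        lt_of_le_of_ne (le_inf hDS (Subgroup.le_normalizer.trans hC')) fun e =>
          huD (Subgroup.mem_subgroupOf.2 (e.ge ⟨u.2, hC' hun⟩))
      have hb := hbig (S, C) ⟨fun hle => hAB (hlt'.le.trans hle), hSC⟩
      exact hlt'.ne (Subgroup.eq_of_le_of_card_ge hlt'.le hb)
    have hA : D ≠ (A : Subgroup G) := fun e => hne (Sylow.ext (Subgroup.eq_of_le_of_card_ge (e.ge.trans inf_le_right)
      (by rw [A.card_eq_multiplicity, B.card_eq_multiplicity])))
    have hB : D ≠ (B : Subgroup G) := fun e => hne (Sylow.ext (Subgroup.eq_of_le_of_card_ge (e.ge.trans inf_le_left)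
      (by rw [A.card_eq_multiplicity, B.card_eq_multiplicity])).symm)
    exact hne ((key A inf_le_left hA).trans (key B inf_le_right hB).symm)
  have hxP : x ∈ (P : Subgroup G) := hPeq ▸ Subgroup.mem_centralizer_singleton_iff.2 rfl
  have hcent : ∀ y ∈ (P : Subgroup G), y ∉ N → ∀ s ∈ (P : Subgroup G), s * y = y * s := by
    intro y hy hyN s hs
    obtain ⟨i, hi⟩ := IsPGroup.iff_orderOf.1 P.2 ⟨y, hy⟩
    rw [Subgroup.orderOf_mk] at hi
    obtain ⟨S, hS⟩ := (hC y hyN ⟨i, hi⟩).exists_le_sylow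
    have hxS : x ∈ (S : Subgroup G) := hS (Subgroup.mem_centralizer_singleton_iff.2 (by
      have := Subgroup.mem_centralizer_singleton_iff.1 (hPeq.ge hy)
      exact this.symm))
    have hSP : S = P := hTI S P fun hle => hxN (hle ⟨hxS, hxP⟩)
    have := hmax y hyN S hS
    rw [hSP] at this
    exact Subgroup.mem_centralizer_singleton_iff.1 (this.ge hs)
  have hxc : ∀ s ∈ (P : Subgroup G), s * x = x * s := hcent x hxP hxN
  have hab : ∀ u ∈ (P : Subgroup G), ∀ v ∈ (P : Subgroup G), v * u = u * v := by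
    intro u hu v hv
    by_cases huN : u ∈ N
    · have hux : u * x ∉ N := fun hm => hxN (by have := mul_mem (inv_mem huN) hm; rwa [inv_mul_cancel_left] at this)
      have e := hcent _ (mul_mem hu hxP) hux v hv
      refine mul_right_cancel (b := x) ?_
      rw [mul_assoc, e, mul_assoc, ← hxc v hv, ← mul_assoc]
    · exact hcent u hu huN v hv
  have hPnot : ¬ (P : Subgroup G) ≤ N := fun hle => hxN (hle hxP)
  have hNPeq : Subgroup.normalizer ((P : Subgroup G) : Set G) = (P : Subgroup G) := by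
    obtain ⟨S, hS⟩ := (hloc _ P.2 hPnot).exists_le_sylow
    have hSP : (P : Subgroup G) = S := Subgroup.eq_of_le_of_card_ge (Subgroup.le_normalizer.trans hS)
      (by rw [S.card_eq_multiplicity, P.card_eq_multiplicity])
    exact le_antisymm (hS.trans hSP.ge) Subgroup.le_normalizer
  have hle : Subgroup.normalizer ((P : Subgroup G) : Set G) ≤ Subgroup.centralizer ((P : Subgroup G) : Set G) := by
    rw [hNPeq]; exact fun u hu => Subgroup.mem_centralizer_iff.2 fun v hv => hab u hu v hv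
  obtain ⟨K, hKn, hK⟩ := Cfsg.Lib.Transfer.exists_complement_of_hasNormalPComplement
    (Cfsg.Lib.Transfer.hasNormalPComplement_of_isComplement' (MonoidHom.ker_transferSylow_isComplement' P hle)) P
  haveI := hKn
  have hKP := hK.card_mul
  have hKcop : (Nat.card ↥K).Coprime p := by
    have := P.card_coprime_index
    rw [hK.index_eq_card] at this
    obtain ⟨i, hi⟩ := IsPGroup.iff_card.1 P.2
    have hi0 : i ≠ 0 := fun e => hPnot (by
      rw [Subgroup.eq_bot_of_card_eq (P : Subgroup G) (by rw [hi, e, pow_zero])]; exact bot_le)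
    rw [hi] at this
    exact ((Nat.coprime_pow_left_iff (Nat.pos_of_ne_zero hi0) _ _).1 this).symm
  have hK1 : Nat.card ↥K ≠ 1 := fun e => hPne P (Subgroup.eq_top_of_card_eq _ (by rw [← hKP, e, one_mul]))
  obtain ⟨q, hq, hqd⟩ := Nat.exists_prime_and_dvd hK1
  haveI : Fact q.Prime := ⟨hq⟩
  obtain ⟨Q⟩ : Nonempty (Sylow q ↥K) := inferInstance
  set Q₀ := (Q : Subgroup ↥K).map K.subtype with hQ₀
  set M := Subgroup.normalizer (Q₀ : Set G) with hMdef
  have hfr : M ⊔ K = ⊤ := Sylow.normalizer_sup_eq_top Q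
  have hdvd : p ^ (Nat.card G).factorization p ∣ Nat.card ↥M := by
    have hd : Nat.card G ∣ Nat.card ↥M * Nat.card ↥K := by
      have e := Cfsg.Lib.Coprime.card_sup_mul_card_inf (N := K) (H := M)
        (by rw [Subgroup.normalizer_eq_top]; exact le_top)
      rw [sup_comm, hfr, Subgroup.card_top] at e
      rw [mul_comm (Nat.card ↥M), ← e]; exact dvd_mul_right _ _
    exact (Nat.Coprime.pow_left _ hKcop.symm).dvd_of_dvd_mul_right ((Nat.ordProj_dvd _ p).trans hd)
  obtain ⟨R, hR⟩ := Sylow.exists_subgroup_card_pow_prime p hdvd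
  have hR' : Nat.card ↥(R.map M.subtype) = p ^ (Nat.card G).factorization p := by
    rw [Subgroup.card_map_of_injective M.subtype_injective, hR]
  obtain ⟨g, hg⟩ := MulAction.exists_smul_eq G (Sylow.ofCard (R.map M.subtype) hR') P
  set Q₁ := Q₀.map (MulAut.conj g).toMonoidHom with hQ₁
  have hPQ : (P : Subgroup G) ≤ Subgroup.normalizer (Q₁ : Set G) := by
    rw [← hg, Sylow.coe_subgroup_smul, Sylow.coe_ofCard]
    refine le_trans ?_ (Subgroup.le_normalizer_map (MulAut.conj g).toMonoidHom)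
    exact Subgroup.map_mono (Subgroup.map_subtype_le R)
  have hQ₁q : IsPGroup q ↥Q₁ := (Q.2.map _).map _
  have hQ₁P : ¬ Q₁ ≤ (P : Subgroup G) := by
    intro hle'
    obtain ⟨i, hi⟩ := IsPGroup.iff_card.1 (P.2.to_le hle')
    have hqQ : q ∣ Nat.card ↥Q₁ := by
      rw [hQ₁, Subgroup.card_map_of_injective (MulAut.conj g).injective, hQ₀, Subgroup.card_map_of_injective K.subtype_injective]
      exact Q.dvd_card_of_dvd_card hqd
    rw [hi] at hqQ
    exact hq.coprime_iff_not_dvd.1 ((Nat.coprime_primes hq (Fact.out)).2 fun e =>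
      hp'.coprime_iff_not_dvd.1 hKcop.symm (by rw [← e]; exact hqd)) (hq.dvd_of_dvd_pow hqQ)
  have htop : Q₁ ⊔ (P : Subgroup G) = ⊤ :=
    hco.2 _ (lt_of_le_of_ne le_sup_right fun e => hQ₁P (le_sup_left.trans e.ge))
  haveI : Q₁.Normal := Subgroup.normalizer_eq_top_iff.1 (top_le_iff.1 (htop.ge.trans (sup_le Subgroup.le_normalizer hPQ)))
  haveI := solvable_pgroup hQ₁q
  have hquot' : IsPGroup p (G ⧸ Q₁) := by
    refine P.2.of_surjective ((QuotientGroup.mk' Q₁).comp (P : Subgroup G).subtype) fun c => ?_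
    obtain ⟨g, rfl⟩ := QuotientGroup.mk'_surjective Q₁ c
    obtain ⟨n, hn, s, hs, rfl⟩ := Subgroup.mem_sup_of_normal_left.1 (show g ∈ Q₁ ⊔ (P : Subgroup G) by rw [htop]; exact Subgroup.mem_top g)
    refine ⟨⟨s, hs⟩, ?_⟩
    show QuotientGroup.mk' Q₁ s = QuotientGroup.mk' Q₁ (n * s)
    rw [map_mul, show QuotientGroup.mk' Q₁ n = 1 from (QuotientGroup.eq_one_iff n).2 hn, one_mul]
  haveI := solvable_pgroup hquot'
  exact hGns (Group.isSolvable_of_ker_le_range Q₁.subtype (QuotientGroup.mk' Q₁)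
    (by rw [QuotientGroup.ker_mk', Subgroup.range_subtype]))

end Cfsg.Agent.S3903
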