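import Cfsg.Statements.S3904
import Cfsg.Agent.SolvStruct.MaxCentralizer

set_option autoImplicit false
open Cfsg

namespace Cfsg.Agent.S3904

open scoped commutatorElement

open Subgroup in
theorem class_two {G : Type*} [Group G] [Finite G] (hna : ¬ IsMulCommutative G)
    (h : ∀ x : G, x ∉ center G → IsCoatom (centralizer ({x} : Set G)))
    (hcl : ∀ a b : G, ⁅a, b⁆ ∈ center G) :
    ∃ p : ℕ, p.Prime ∧ Cfsg.IsElementaryAbelian p (⊤ : Subgroup (G ⧸ center G)) := by
  classical
  have hmul : ∀ a b x : G, ⁅a * b, x⁆ = ⁅a, x⁆ * ⁅b, x⁆ := fun a b x => by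
    have hc : a * ⁅b, x⁆ * a⁻¹ = ⁅b, x⁆ := by rw [mem_center_iff.1 (hcl b x) a, mul_inv_cancel_right]
    rw [show ⁅a * b, x⁆ = a * ⁅b, x⁆ * a⁻¹ * ⁅a, x⁆ by rw [commutatorElement_def, commutatorElement_def, commutatorElement_def]; group, hc]
    exact (mem_center_iff.1 (hcl a x) ⁅b, x⁆)
  have hpow : ∀ (a x : G) (n : ℕ), ⁅a ^ n, x⁆ = ⁅a, x⁆ ^ n := fun a x n => by
    induction n with
    | zero => simp
    | succ n ih => rw [pow_succ, pow_succ, hmul, ih]
  have hinv : ∀ a x : G, ⁅a, x⁆⁻¹ = ⁅x, a⁆ := fun a x => commutatorElement_inv a x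
  -- every centralizer is normal of prime index
  have hidx : ∀ x : G, x ∉ center G → ∃ r : ℕ, r.Prime ∧ ∀ g : G, ⁅g, x⁆ ^ r = 1 := by
    intro x hx
    haveI hn : (centralizer ({x} : Set G)).Normal := ⟨fun c hc g => by
      rw [mem_centralizer_singleton_iff] at hc ⊢
      refine commutatorElement_eq_one_iff_mul_comm.1 ?_
      rw [hmul, hmul, commutatorElement_eq_one_iff_mul_comm.2 hc, mul_one, ← hmul, mul_inv_cancel, commutatorElement_one_left]⟩
    have hcoat := h x hx
    set C := centralizer ({x} : Set G) with hC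
    haveI : Nontrivial (G ⧸ C) := by
      rw [← Finite.one_lt_card_iff_nontrivial, ← Subgroup.index_eq_card]
      exact one_lt_index_of_ne_top hcoat.1
    obtain ⟨r, hr, hrd⟩ := Nat.exists_prime_and_dvd (n := Nat.card (G ⧸ C)) (Finite.one_lt_card (α := G ⧸ C)).ne'
    haveI := Fact.mk hr
    obtain ⟨y, hy⟩ := exists_prime_orderOf_dvd_card' r hrd
    have hy1 : y ≠ 1 := fun e => by rw [e, orderOf_one] at hy; exact hr.one_lt.ne hy
    have htop : (zpowers y).comap (QuotientGroup.mk' C) = ⊤ := by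
      refine hcoat.2 _ (lt_of_le_of_ne (fun c hc => ?_) fun e => hy1 ?_)
      · show QuotientGroup.mk' C c ∈ zpowers y
        rw [show QuotientGroup.mk' C c = 1 from (QuotientGroup.eq_one_iff c).2 hc]; exact one_mem _
      · obtain ⟨g, rfl⟩ := QuotientGroup.mk'_surjective C y
        have : g ∈ C := e ▸ (mem_zpowers _)
        exact (QuotientGroup.eq_one_iff g).2 this
    refine ⟨r, hr, fun g => ?_⟩
    have hg : g ^ r ∈ C := by
      rw [← QuotientGroup.eq_one_iff, QuotientGroup.mk_pow]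
      have : QuotientGroup.mk' C g ∈ zpowers y := by
        have := mem_top g; rw [← htop] at this; exact this
      obtain ⟨k, hk⟩ := this
      change y ^ k = ((g : G) : G ⧸ C) at hk
      rw [← hk, ← zpow_natCast, ← zpow_mul, mul_comm, zpow_mul, zpow_natCast, ← hy, pow_orderOf_eq_one, one_zpow]
    rw [← hpow]
    exact commutatorElement_eq_one_iff_mul_comm.2 (mem_centralizer_singleton_iff.1 hg)
  obtain ⟨x₀, hx₀⟩ : ∃ x : G, x ∉ center G := by
    by_contra hall
    push_neg at hall
    exact hna ⟨⟨fun a b => mem_center_iff.1 (hall b) a⟩⟩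
  obtain ⟨p, hp, hp0⟩ := hidx x₀ hx₀
  have hmulr : ∀ g x y : G, ⁅g, x * y⁆ = ⁅g, x⁆ * ⁅g, y⁆ := fun g x y => by
    rw [← hinv, hmul, mul_inv_rev, hinv, hinv]
    exact mem_center_iff.1 (hcl g x) ⁅g, y⁆
  have hcop : ∀ {c : G} {r s : ℕ}, r.Prime → s.Prime → r ≠ s → c ^ r = 1 → c ^ s = 1 → c = 1 := by
    intro c r s hr hs hrs h1 h2
    have := pow_gcd_eq_one.2 ⟨h1, h2⟩
    rwa [(Nat.coprime_primes hr hs).2 hrs, pow_one] at this
  have hall : ∀ x g : G, ⁅g, x⁆ ^ p = 1 := by
    intro x g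
    by_cases hx : x ∈ center G
    · rw [commutatorElement_eq_one_iff_mul_comm.2 (mem_center_iff.1 hx g), one_pow]
    obtain ⟨r, hr, hrx⟩ := hidx x hx
    by_contra hne
    have hrp : r ≠ p := fun e => hne (e ▸ hrx g)
    by_cases hxy : x * x₀ ∈ center G
    · have := commutatorElement_eq_one_iff_mul_comm.2 (mem_center_iff.1 hxy g)
      rw [hmulr, mul_eq_one_iff_eq_inv] at this
      exact hne (by rw [this, inv_pow, hp0, inv_one])
    obtain ⟨s, hs, hsx⟩ := hidx (x * x₀) hxy
    have hsplit : ∀ g, ⁅g, x⁆ ^ s * ⁅g, x₀⁆ ^ s = 1 := fun g => by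
      rw [← (show Commute ⁅g, x⁆ ⁅g, x₀⁆ from mem_center_iff.1 (hcl g x₀) ⁅g, x⁆).mul_pow, ← hmulr, hsx]
    have h1 : ∀ g, ⁅g, x⁆ ^ s = 1 := fun g => by
      refine hcop hr hp hrp ?_ ?_
      · rw [← pow_mul, mul_comm, pow_mul, hrx, one_pow]
      · rw [mul_eq_one_iff_eq_inv.1 (hsplit g), inv_pow, ← pow_mul, mul_comm, pow_mul, hp0, one_pow, inv_one]
    rcases eq_or_ne s p with hsp | hsp
    · exact hne (hsp ▸ h1 g)
    · refine hx₀ (mem_center_iff.2 fun a => commutatorElement_eq_one_iff_mul_comm.1 (hcop hs hp hsp ?_ (hp0 a)))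
      have := hsplit a
      rwa [h1, one_mul] at this
  refine ⟨p, hp, ⟨⟨fun a b => Subtype.ext ?_⟩⟩, fun y _ => ?_⟩
  · obtain ⟨a', ha⟩ := QuotientGroup.mk'_surjective (center G) a.1
    obtain ⟨b', hb⟩ := QuotientGroup.mk'_surjective (center G) b.1
    show a.1 * b.1 = b.1 * a.1
    rw [← ha, ← hb, ← commutatorElement_eq_one_iff_mul_comm, ← map_commutatorElement]
    exact (QuotientGroup.eq_one_iff _).2 (hcl _ _)
  · obtain ⟨a, rfl⟩ := QuotientGroup.mk'_surjective (center G) y
    rw [← map_pow]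
    refine (QuotientGroup.eq_one_iff _).2 (mem_center_iff.2 fun g => ?_)
    refine (commutatorElement_eq_one_iff_mul_comm.1 ?_).symm
    rw [hpow, hall]


/-- Let G be a non-abelian finite group in which the centralizer of every non-central element is a maximal subgroup. Then G/Z(G) is either an elementary abelian p-group for some prime p, or a minimal non-abelian group (non-abelian with all proper subgroups abelian) of order p^a · q for distinct primes p, q with a normal Sylow p-subgroup. -/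
theorem result {G : Type*} [Group G] [Finite G] (hna : ¬ IsMulCommutative G)
    (h : ∀ x : G, x ∉ Subgroup.center G → IsCoatom (Subgroup.centralizer ({x} : Set G))) :
    (∃ p : ℕ, p.Prime ∧ Cfsg.IsElementaryAbelian p (⊤ : Subgroup (G ⧸ Subgroup.center G))) ∨
    (¬ IsMulCommutative (G ⧸ Subgroup.center G) ∧ (∀ H : Subgroup (G ⧸ Subgroup.center G), H ≠ ⊤ → IsMulCommutative ↥H) ∧
      ∃ p q a : ℕ, p.Prime ∧ q.Prime ∧ p ≠ q ∧ Nat.card (G ⧸ Subgroup.center G) = p ^ a * q ∧
        ∀ P : Subgroup (G ⧸ Subgroup.center G), Nat.card ↥P = p ^ a → P.Normal) := by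
  classical
  set Z := Subgroup.center G with hZdef
  by_cases hcl : ∀ a b : G, ⁅a, b⁆ ∈ Z
  · exact Or.inl (class_two hna h hcl)
  right
  have hQna : ¬ IsMulCommutative (G ⧸ Z) := fun hc => hcl fun a b => by
    haveI := hc
    rw [← QuotientGroup.eq_one_iff]
    show QuotientGroup.mk' Z ⁅a, b⁆ = 1
    rw [map_commutatorElement, commutatorElement_eq_one_iff_mul_comm]
    exact mul_comm' _ _
  -- maximality of a centralizer
  have hmax : ∀ {x : G}, x ∉ Z → ∀ {S : Subgroup G}, Subgroup.centralizer ({x} : Set G) ≤ S → ∀ {w : G},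
      w ∈ S → w ∉ Subgroup.centralizer ({x} : Set G) → S = ⊤ := fun hx _ hle w hw hw' =>
    (h _ hx).2 _ (lt_of_le_of_ne hle fun e => hw' (e ▸ hw))
  haveI : Group.IsSolvable G := Cfsg.Lib.SolvStruct.isSolvable_of_centralizers_maximal h
  -- some centralizer is normal
  obtain ⟨x, hx, hMn⟩ : ∃ x : G, x ∉ Z ∧ (Subgroup.centralizer ({x} : Set G)).Normal := by
    obtain ⟨n, hn⟩ := (inferInstance : Group.IsSolvable G).solvable
    have hex : ∃ k, derivedSeries G k ≤ Z := ⟨n, by rw [hn]; exact bot_le⟩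
    have hk0 : Nat.find hex ≠ 0 := fun e => hna (by
      have := Nat.find_spec hex
      rw [e, derivedSeries_zero] at this
      exact ⟨⟨fun a b => Subgroup.mem_center_iff.1 (this (Subgroup.mem_top b)) a⟩⟩)
    obtain ⟨k, hk⟩ := Nat.exists_eq_succ_of_ne_zero hk0
    have hN1 : ¬ derivedSeries G k ≤ Z := Nat.find_min hex (by omega)
    have hN2 : derivedSeries G (k + 1) ≤ Z := by
      have := Nat.find_spec hex; rwa [hk] at this
    set N := derivedSeries G k with hNdef
    haveI hNn : N.Normal := derivedSeries_normal G k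
    by_cases hab : ∀ a ∈ N, ∀ b ∈ N, a * b = b * a
    · obtain ⟨x, hxN, hxZ⟩ := SetLike.not_le_iff_exists.1 hN1
      refine ⟨x, hxZ, ⟨fun c hc g => ?_⟩⟩
      have hder : ∀ v : G, ⁅g, v⁆ ∈ Subgroup.centralizer ({x} : Set G) := by
        intro v
        by_cases hv : ∀ a ∈ N, v * a = a * v
        · rw [Subgroup.mem_centralizer_singleton_iff]
          have hm : g⁻¹ * x * g⁻¹⁻¹ ∈ N := hNn.conj_mem x hxN g⁻¹
          rw [inv_inv] at hm
          have h1 : v⁻¹ * x = x * v⁻¹ := ((show Commute v x from hv x hxN).inv_left).eq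
          calc ⁅g, v⁆ * x = g * v * g⁻¹ * (v⁻¹ * x) := by rw [commutatorElement_def]; group
            _ = g * v * g⁻¹ * (x * v⁻¹) := by rw [h1]
            _ = g * (v * (g⁻¹ * x * g)) * g⁻¹ * v⁻¹ := by group
            _ = g * ((g⁻¹ * x * g) * v) * g⁻¹ * v⁻¹ := by rw [hv _ hm]
            _ = x * ⁅g, v⁆ := by rw [commutatorElement_def]; group
        · push_neg at hv
          obtain ⟨a, ha, hva⟩ := hv
          have hvZ : v ∉ Z := fun hz => hva (Subgroup.mem_center_iff.1 hz a).symm
          have htop := hmax hvZ (le_sup_left : _ ≤ Subgroup.centralizer ({v} : Set G) ⊔ N)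
            (Subgroup.mem_sup_right ha) (fun hc => hva (Subgroup.mem_centralizer_singleton_iff.1 hc).symm)
          have hg : g ∈ Subgroup.centralizer ({v} : Set G) ⊔ N := htop ▸ Subgroup.mem_top g
          obtain ⟨n, hn', c, hc, rfl⟩ := Subgroup.mem_sup_of_normal_left.1 (sup_comm (Subgroup.centralizer ({v} : Set G)) N ▸ hg)
          have e : ⁅n * c, v⁆ = n * (v * n⁻¹ * v⁻¹) := by
            have hc' := Subgroup.mem_centralizer_singleton_iff.1 hc
            rw [commutatorElement_def]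
            calc n * c * v * (n * c)⁻¹ * v⁻¹ = n * (c * v) * c⁻¹ * n⁻¹ * v⁻¹ := by group
              _ = n * (v * c) * c⁻¹ * n⁻¹ * v⁻¹ := by rw [hc']
              _ = _ := by group
          rw [e, Subgroup.mem_centralizer_singleton_iff]
          exact hab _ (mul_mem hn' (hNn.conj_mem _ (inv_mem hn') v)) x hxN
      rw [show g * c * g⁻¹ = ⁅g, c⁆ * c by rw [commutatorElement_def]; group]
      exact mul_mem (hder c) hc
    · push_neg at hab
      obtain ⟨a, ha, b, hb, hne⟩ := hab
      have haZ : a ∉ Z := fun hz => hne (Subgroup.mem_center_iff.1 hz b).symm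
      refine ⟨a, haZ, ⟨fun c hc g => ?_⟩⟩
      have htop := hmax haZ (le_sup_right : _ ≤ N ⊔ Subgroup.centralizer ({a} : Set G))
        (Subgroup.mem_sup_left hb) (fun hc => hne (Subgroup.mem_centralizer_singleton_iff.1 hc).symm)
      have hcom : ∀ u : G, ⁅u, a⁆ ∈ Z := by
        intro u
        have hu : u ∈ N ⊔ Subgroup.centralizer ({a} : Set G) := htop ▸ Subgroup.mem_top u
        obtain ⟨n, hn', d, hd, rfl⟩ := Subgroup.mem_sup_of_normal_left.1 hu
        have e : ⁅n * d, a⁆ = ⁅n, a⁆ := by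
          have hd' := Subgroup.mem_centralizer_singleton_iff.1 hd
          rw [commutatorElement_def, commutatorElement_def]
          calc n * d * a * (n * d)⁻¹ * a⁻¹ = n * (d * a) * d⁻¹ * n⁻¹ * a⁻¹ := by group
            _ = n * (a * d) * d⁻¹ * n⁻¹ * a⁻¹ := by rw [hd']
            _ = _ := by group
        rw [e]
        exact hN2 (Subgroup.commutator_mem_commutator hn' ha)
      rw [Subgroup.mem_centralizer_singleton_iff] at hc ⊢
      have h1 : g⁻¹ * a * g = ⁅g⁻¹, a⁆ * a := by rw [commutatorElement_def]; group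
      calc g * c * g⁻¹ * a = g * (c * (g⁻¹ * a * g)) * g⁻¹ := by group
        _ = g * (⁅g⁻¹, a⁆ * (c * a)) * g⁻¹ := by
            rw [h1, ← mul_assoc c, Subgroup.mem_center_iff.1 (hcom g⁻¹) c, mul_assoc ⁅g⁻¹, a⁆]
        _ = g * (⁅g⁻¹, a⁆ * a * c) * g⁻¹ := by rw [hc, mul_assoc ⁅g⁻¹, a⁆]
        _ = a * (g * c * g⁻¹) := by rw [← h1]; group
  set M := Subgroup.centralizer ({x} : Set G) with hMdef
  haveI := hMn
  have hMc := h x hx
  have hZM : Z ≤ M := Subgroup.center_le_centralizer _
  -- `M` is abelian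
  have hMab : ∀ a ∈ M, ∀ b ∈ M, a * b = b * a := by
    by_contra hcon
    push_neg at hcon
    obtain ⟨m, hm, b, hb, hmb⟩ := hcon
    set Y := M ⊓ Subgroup.centralizer (M : Set G) with hYdef
    have hxY : x ∈ Y := ⟨Subgroup.mem_centralizer_singleton_iff.2 rfl, fun u hu => Subgroup.mem_centralizer_singleton_iff.1 hu⟩
    haveI hYn : Y.Normal := ⟨fun y hy g => ⟨hMn.conj_mem y hy.1 g, fun u hu => by
      have hm' : g⁻¹ * u * g ∈ M := by simpa using hMn.conj_mem u hu g⁻¹
      have := hy.2 _ hm'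
      calc u * (g * y * g⁻¹) = g * (g⁻¹ * u * g * y) * g⁻¹ := by group
        _ = g * (y * (g⁻¹ * u * g)) * g⁻¹ := by rw [this]
        _ = g * y * g⁻¹ * u := by group⟩⟩
    have hout : ∀ u ∈ M, (∃ v ∈ M, u * v ≠ v * u) → ∃ g, g ∉ M ∧ g * u = u * g := by
      rintro u hu ⟨v, hv, huv⟩
      have huZ : u ∉ Z := fun hz => huv (Subgroup.mem_center_iff.1 hz v).symm
      by_contra hno
      push_neg at hno
      have hle : Subgroup.centralizer ({u} : Set G) ≤ M := fun g hg => by
        by_contra hgM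
        exact hno g hgM (Subgroup.mem_centralizer_singleton_iff.1 hg)
      rcases eq_or_lt_of_le hle with he | hlt
      · exact huv (Subgroup.mem_centralizer_singleton_iff.1 (he ▸ hv)).symm
      · exact hMc.1 ((h u huZ).2 M hlt)
    obtain ⟨g, hgM, hgm⟩ := hout m hm ⟨b, hb, hmb⟩
    have hgZ : g ∉ Z := fun hz => hgM (hZM hz)
    have hYg : ∀ y ∈ Y, g * y = y * g → y ∈ Z := by
      intro y hy hgy
      by_contra hyZ
      have hle : M ≤ Subgroup.centralizer ({y} : Set G) := fun u hu =>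
        Subgroup.mem_centralizer_singleton_iff.2 (hy.2 u hu)
      exact (h y hyZ).1 (hMc.2 _ (lt_of_le_of_ne hle fun e => hgM ((SetLike.ext_iff.1 e g).2 (Subgroup.mem_centralizer_singleton_iff.2 hgy))))
    set D := Subgroup.centralizer ({g} : Set G) ⊓ M with hDdef
    have hmD : m ∈ D := ⟨Subgroup.mem_centralizer_singleton_iff.2 hgm.symm, hm⟩
    have htop : Y ⊔ Subgroup.centralizer ({g} : Set G) = ⊤ :=
      hmax hgZ le_sup_right (Subgroup.mem_sup_left hxY) (fun hc => hgM
        (Subgroup.mem_centralizer_singleton_iff.2 (Subgroup.mem_centralizer_singleton_iff.1 hc).symm))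
    have hDn : D.Normal := ⟨fun d hd e => by
      have he : e ∈ Y ⊔ Subgroup.centralizer ({g} : Set G) := htop ▸ Subgroup.mem_top e
      obtain ⟨y, hy, c, hc, rfl⟩ := Subgroup.mem_sup_of_normal_left.1 he
      have hcd : c * d * c⁻¹ ∈ D := ⟨Subgroup.mul_mem _ (Subgroup.mul_mem _ hc hd.1) (Subgroup.inv_mem _ hc), hMn.conj_mem d hd.2 c⟩
      rw [show y * c * d * (y * c)⁻¹ = y * (c * d * c⁻¹) * y⁻¹ by group,
        ← hy.2 _ hcd.2, mul_inv_cancel_right]
      exact hcd⟩
    have hkey : ∀ u v : G, v ∈ D → ∀ y ∈ Y, u * (y * v) = (y * v) * u → y⁻¹ * (u * y * u⁻¹) ∈ Z ∧ ⁅u, v⁆ ∈ Z := by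
      intro u v hv y hy he
      have hv' : u * v * u⁻¹ ∈ D := hDn.conj_mem v hv u
      have e1 : (u * y * u⁻¹) * (u * v * u⁻¹) = y * v := by
        rw [show (u * y * u⁻¹) * (u * v * u⁻¹) = u * (y * v) * u⁻¹ by group, he, mul_inv_cancel_right]
      have e2 : y⁻¹ * (u * y * u⁻¹) = v * (u * v * u⁻¹)⁻¹ := by
        calc y⁻¹ * (u * y * u⁻¹) = y⁻¹ * ((u * y * u⁻¹) * (u * v * u⁻¹)) * (u * v * u⁻¹)⁻¹ := by group
          _ = v * (u * v * u⁻¹)⁻¹ := by rw [e1]; group
      have hin : y⁻¹ * (u * y * u⁻¹) ∈ Z := by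
        refine hYg _ (mul_mem (inv_mem hy) (hYn.conj_mem y hy u)) ?_
        rw [e2]
        exact (Subgroup.mem_centralizer_singleton_iff.1 (mul_mem hv.1 (inv_mem hv'.1))).symm
      refine ⟨hin, ?_⟩
      rw [show ⁅u, v⁆ = (v * (u * v * u⁻¹)⁻¹)⁻¹ by rw [commutatorElement_def]; group, ← e2]
      exact inv_mem hin
    -- preimage of the centralizer in the quotient
    let T : G → Subgroup G := fun w =>
      (Subgroup.centralizer ({QuotientGroup.mk' Z w} : Set (G ⧸ Z))).comap (QuotientGroup.mk' Z)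
    have hT : ∀ u w, u ∈ T w ↔ ⁅u, w⁆ ∈ Z := fun u w => by
      show QuotientGroup.mk' Z u ∈ Subgroup.centralizer _ ↔ _
      rw [← QuotientGroup.eq_one_iff ⁅u, w⁆, ← QuotientGroup.mk'_apply, map_commutatorElement, Subgroup.mem_centralizer_singleton_iff, commutatorElement_eq_one_iff_mul_comm]
    have hCT : ∀ w, Subgroup.centralizer ({w} : Set G) ≤ T w := fun w u hu => by
      rw [hT, commutatorElement_eq_one_iff_mul_comm.2 (Subgroup.mem_centralizer_singleton_iff.1 hu)]
      exact one_mem _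
    have hYT : ∀ y ∈ Y, T y = ⊤ := by
      intro y hy
      have hne : (y * m) * b ≠ b * (y * m) := by
        intro e
        refine hmb ?_
        rw [mul_assoc, show b * (y * m) = y * (b * m) by rw [← mul_assoc, hy.2 b hb, mul_assoc]] at e
        exact mul_left_cancel e
      obtain ⟨u, huM, hu⟩ := hout (y * m) (mul_mem hy.1 hm) ⟨b, hb, hne⟩
      have hin : u ∈ T y := by
        rw [hT, show ⁅u, y⁆ = y * (y⁻¹ * (u * y * u⁻¹)) * y⁻¹ by rw [commutatorElement_def]; group]
        exact (inferInstance : Z.Normal).conj_mem _ (hkey u m hmD y hy hu).1 y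
      refine hMc.2 _ (lt_of_le_of_ne (fun u hu => hCT y (Subgroup.mem_centralizer_singleton_iff.2 (hy.2 u hu))) fun e => huM ((SetLike.ext_iff.1 e u).2 hin))
    have hDT : ∀ d ∈ D, T d = ⊤ := by
      intro d hd
      by_cases hdc : ∀ v ∈ M, d * v = v * d
      · exact hYT d ⟨hd.2, fun u hu => (hdc u hu).symm⟩
      push_neg at hdc
      obtain ⟨v, hv, hdv⟩ := hdc
      have hne : (x * d) * v ≠ v * (x * d) := by
        intro e
        refine hdv ?_
        rw [mul_assoc, show v * (x * d) = x * (v * d) by rw [← mul_assoc, hxY.2 v hv, mul_assoc]] at e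
        exact mul_left_cancel e
      obtain ⟨u, huM, hu⟩ := hout (x * d) (mul_mem hxY.1 hd.2) ⟨v, hv, hne⟩
      have hdZ : d ∉ Z := fun hz => hdv (Subgroup.mem_center_iff.1 hz v).symm
      refine hmax hdZ (hCT d) ((hT u d).2 (hkey u d hd x hxY hu).2) fun hc => huM ?_
      have h1 := Subgroup.mem_centralizer_singleton_iff.1 hc
      refine Subgroup.mem_centralizer_singleton_iff.2 ?_
      rw [← mul_assoc, mul_assoc x d u, ← h1, ← mul_assoc] at hu
      exact mul_right_cancel hu
    have hgT : T g = ⊤ := hmax hgZ (hCT g) (w := x) (by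
        rw [hT, show ⁅x, g⁆ = ⁅g, x⁆⁻¹ by rw [commutatorElement_inv]]
        exact inv_mem ((hT g x).1 (hYT x hxY ▸ Subgroup.mem_top g)))
      (fun hc => hgM (Subgroup.mem_centralizer_singleton_iff.2 (Subgroup.mem_centralizer_singleton_iff.1 hc).symm))
    set Z₂ := (Subgroup.center (G ⧸ Z)).comap (QuotientGroup.mk' Z) with hZ₂
    have hin : ∀ w, T w = ⊤ → w ∈ Z₂ := by
      intro w hw
      show QuotientGroup.mk' Z w ∈ Subgroup.center _
      rw [Subgroup.mem_center_iff]
      intro q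
      obtain ⟨u, rfl⟩ := QuotientGroup.mk'_surjective Z q
      exact Subgroup.mem_centralizer_singleton_iff.1 (show u ∈ T w by rw [hw]; exact Subgroup.mem_top u)
    have hMle : M ≤ Z₂ := by
      intro u hu
      have hu' : u ∈ Y ⊔ Subgroup.centralizer ({g} : Set G) := htop ▸ Subgroup.mem_top u
      obtain ⟨y, hy, c, hc, rfl⟩ := Subgroup.mem_sup_of_normal_left.1 hu'
      refine mul_mem (hin y (hYT y hy)) (hin c (hDT c ⟨hc, ?_⟩))
      simpa using M.mul_mem (M.inv_mem hy.1) hu
    have hall : Z₂ = ⊤ := hMc.2 _ (lt_of_le_of_ne hMle fun e => hgM ((SetLike.ext_iff.1 e g).2 (hin g hgT)))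
    exact hcl fun u v => (hT u v).1 (by
      show QuotientGroup.mk' Z u ∈ Subgroup.centralizer _
      rw [Subgroup.mem_centralizer_singleton_iff]
      exact Subgroup.mem_center_iff.1 (show v ∈ Z₂ by rw [hall]; exact Subgroup.mem_top v) _)
  have hmin : ∀ y, y ∉ M → ∀ m ∈ M, m * y = y * m → m ∈ Z := by
    intro y hy m hm hmy
    by_contra hmZ
    have hle : M ≤ Subgroup.centralizer ({m} : Set G) := fun u hu =>
      Subgroup.mem_centralizer_singleton_iff.2 (hMab u hu m hm)
    exact (h m hmZ).1 (hMc.2 _ (lt_of_le_of_ne hle fun e => hy ((SetLike.ext_iff.1 e y).2 (Subgroup.mem_centralizer_singleton_iff.2 hmy.symm))))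
  have hder : commutator G ≤ M := by
    by_contra hnot
    have htop : M ⊔ commutator G = ⊤ := hMc.2 _ (lt_of_le_of_ne le_sup_left fun e => hnot (le_trans le_sup_right e.symm.le))
    haveI : Nontrivial (G ⧸ M) := by
      rw [← Finite.one_lt_card_iff_nontrivial, ← Subgroup.index_eq_card]
      exact Subgroup.one_lt_index_of_ne_top hMc.1
    have h1 := Group.IsSolvable.commutator_lt_top_of_nontrivial (G ⧸ M)
    refine h1.ne (eq_top_iff.2 fun q _ => ?_)
    obtain ⟨u, rfl⟩ := QuotientGroup.mk'_surjective M q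
    obtain ⟨a, ha, b, hb, rfl⟩ := Subgroup.mem_sup_of_normal_left.1 (show u ∈ M ⊔ commutator G by rw [htop]; exact Subgroup.mem_top u)
    rw [map_mul, show QuotientGroup.mk' M a = 1 from (QuotientGroup.eq_one_iff a).2 ha, one_mul]
    have h2 : (commutator G).map (QuotientGroup.mk' M) ≤ commutator (G ⧸ M) := by
      rw [commutator_def, Subgroup.map_commutator]; exact Subgroup.commutator_mono le_top le_top
    exact h2 ⟨b, hb, rfl⟩
  -- normal subgroups between `Z` and `M`
  have hirr : ∀ J : Subgroup G, J.Normal → Z ≤ J → J ≤ M → ∀ j ∈ J, j ∉ Z → J = M := by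
    intro J hJ hZJ hJM j hj hjZ
    obtain ⟨y, hy⟩ : ∃ y, y ∉ M := by
      by_contra hall; push_neg at hall
      exact hMc.1 (eq_top_iff.2 fun u _ => hall u)
    have hyZ : y ∉ Z := fun hz => hy (hZM hz)
    have htop := hmax hyZ (le_sup_right : _ ≤ J ⊔ Subgroup.centralizer ({y} : Set G))
      (Subgroup.mem_sup_left hj) (fun hc => hjZ (hmin y hy j (hJM hj) (Subgroup.mem_centralizer_singleton_iff.1 hc)))
    refine le_antisymm hJM fun u hu => ?_
    haveI := hJ
    obtain ⟨a, ha, c, hc, rfl⟩ := Subgroup.mem_sup_of_normal_left.1 (show u ∈ J ⊔ _ from htop ▸ Subgroup.mem_top u)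
    refine mul_mem ha (hZJ (hmin y hy c ?_ (Subgroup.mem_centralizer_singleton_iff.1 hc)))
    simpa using M.mul_mem (M.inv_mem (hJM ha)) hu
  refine ⟨hQna, fun H hH => ?_, ?_⟩
  · set H' := H.comap (QuotientGroup.mk' Z) with hH'
    have hcomm : ∀ a ∈ H', ∀ b ∈ H', (QuotientGroup.mk' Z ⁅a, b⁆ : G ⧸ Z) = 1 := by
      by_cases hsub : H' ≤ M
      · intro a ha b hb
        rw [commutatorElement_eq_one_iff_mul_comm.2 (hMab a (hsub ha) b (hsub hb)), map_one]
      obtain ⟨y, hyH, hy⟩ := SetLike.not_le_iff_exists.1 hsub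
      have htop : M ⊔ H' = ⊤ := hMc.2 _ (lt_of_le_of_ne le_sup_left fun e => hy ((SetLike.ext_iff.1 e y).2 (Subgroup.mem_sup_right hyH)))
      set J := H' ⊓ M with hJ
      have hZH' : Z ≤ H' := fun z hz => by
        show QuotientGroup.mk' Z z ∈ H
        rw [show QuotientGroup.mk' Z z = 1 from (QuotientGroup.eq_one_iff z).2 hz]; exact one_mem _
      have hJn : J.Normal := ⟨fun j hj e => by
        obtain ⟨m, hm, k, hk, rfl⟩ := Subgroup.mem_sup_of_normal_left.1 (show e ∈ M ⊔ H' from htop ▸ Subgroup.mem_top e)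
        have hkj : k * j * k⁻¹ ∈ J := ⟨H'.mul_mem (H'.mul_mem hk hj.1) (H'.inv_mem hk), hMn.conj_mem j hj.2 k⟩
        rw [show m * k * j * (m * k)⁻¹ = m * (k * j * k⁻¹) * m⁻¹ by group, hMab m hm _ hkj.2, mul_inv_cancel_right]
        exact hkj⟩
      have hJZ : J ≤ Z := by
        intro j hj
        by_contra hjZ
        have hJM := hirr J hJn (le_inf hZH' hZM) inf_le_right j hj hjZ
        have : H' = ⊤ := top_le_iff.1 (htop ▸ sup_le (hJM ▸ inf_le_left) le_rfl)
        exact hH (eq_top_iff.2 fun q _ => by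
          obtain ⟨u, rfl⟩ := QuotientGroup.mk'_surjective Z q
          exact (show u ∈ H' by rw [this]; exact Subgroup.mem_top u))
      intro a ha b hb
      refine (QuotientGroup.eq_one_iff _).2 (hJZ ⟨?_, ?_⟩)
      · rw [commutatorElement_def]; exact H'.mul_mem (H'.mul_mem (H'.mul_mem ha hb) (H'.inv_mem ha)) (H'.inv_mem hb)
      · exact hder (Subgroup.commutator_mem_commutator (Subgroup.mem_top a) (Subgroup.mem_top b))
    refine ⟨⟨fun a b => Subtype.ext ?_⟩⟩
    obtain ⟨a', ha'⟩ := QuotientGroup.mk'_surjective Z a.1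
    obtain ⟨b', hb'⟩ := QuotientGroup.mk'_surjective Z b.1
    show a.1 * b.1 = b.1 * a.1
    rw [← ha', ← hb', ← commutatorElement_eq_one_iff_mul_comm, ← map_commutatorElement]
    exact hcomm a' (show QuotientGroup.mk' Z a' ∈ H by rw [ha']; exact a.2) b' (show QuotientGroup.mk' Z b' ∈ H by rw [hb']; exact b.2)
  · obtain ⟨m₀, hm₀, hm₀Z⟩ : ∃ m ∈ M, m ∉ Z := ⟨x, Subgroup.mem_centralizer_singleton_iff.2 rfl, hx⟩
    set π := QuotientGroup.mk' Z with hπdef
    set MQ := M.map π with hMQdef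
    haveI : Nontrivial ↥MQ := by
      rw [Subgroup.nontrivial_iff_ne_bot, Ne, hMQdef, Subgroup.map_eq_bot_iff, QuotientGroup.ker_mk']
      exact fun hle => hm₀Z (hle hm₀)
    obtain ⟨p, hp, hpd⟩ := Nat.exists_prime_and_dvd (n := Nat.card ↥MQ) (Finite.one_lt_card (α := ↥MQ)).ne'
    haveI := Fact.mk hp
    obtain ⟨⟨w, hw⟩, hwo⟩ := exists_prime_orderOf_dvd_card' p hpd
    obtain ⟨j, hj, rfl⟩ := hw
    let J : Subgroup G :=
      { carrier := {m | m ∈ M ∧ m ^ p ∈ Z}
        one_mem' := ⟨one_mem _, by rw [one_pow]; exact one_mem _⟩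
        mul_mem' := fun {a b} ha hb => ⟨M.mul_mem ha.1 hb.1, by
          rw [(show Commute a b from hMab a ha.1 b hb.1).mul_pow]; exact Z.mul_mem ha.2 hb.2⟩
        inv_mem' := fun {a} ha => ⟨M.inv_mem ha.1, by rw [inv_pow]; exact Z.inv_mem ha.2⟩ }
    have hJn : J.Normal := ⟨fun a ha e => ⟨hMn.conj_mem a ha.1 e, by
      rw [conj_pow]; exact (inferInstance : Z.Normal).conj_mem _ ha.2 e⟩⟩
    have hjp : j ^ p ∈ Z := by
      rw [← QuotientGroup.eq_one_iff, QuotientGroup.mk_pow]
      have := pow_orderOf_eq_one (⟨π j, j, hj, rfl⟩ : ↥MQ)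
      rw [hwo] at this
      exact congrArg Subtype.val this
    have hjZ : j ∉ Z := fun hz => hp.one_lt.ne (by
      rw [← hwo, orderOf_eq_one_iff.2]
      exact Subtype.ext ((QuotientGroup.eq_one_iff j).2 hz))
    have hJM : J = M := hirr J hJn (fun z hz => ⟨hZM hz, pow_mem hz p⟩) (fun a ha => ha.1) j ⟨hj, hjp⟩ hjZ
    have hMp : IsPGroup p ↥MQ := by
      rintro ⟨_, m, hm, rfl⟩
      refine ⟨1, Subtype.ext ?_⟩
      have hm' : m ∈ J := by rw [hJM]; exact hm
      show π m ^ p ^ 1 = 1
      rw [pow_one, ← map_pow]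
      exact (QuotientGroup.eq_one_iff _).2 hm'.2
    obtain ⟨a, ha⟩ := hMp.exists_card_eq
    -- the index of `M` is prime
    haveI : Nontrivial (G ⧸ M) := by
      rw [← Finite.one_lt_card_iff_nontrivial, ← Subgroup.index_eq_card]
      exact Subgroup.one_lt_index_of_ne_top hMc.1
    obtain ⟨q, hq, hqd⟩ := Nat.exists_prime_and_dvd (n := Nat.card (G ⧸ M)) (Finite.one_lt_card (α := G ⧸ M)).ne'
    haveI := Fact.mk hq
    obtain ⟨y', hy'⟩ := exists_prime_orderOf_dvd_card' q hqd
    obtain ⟨y, rfl⟩ := QuotientGroup.mk'_surjective M y'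
    have hy : y ∉ M := fun hm => hq.one_lt.ne (by
      rw [← hy', orderOf_eq_one_iff.2]; exact (QuotientGroup.eq_one_iff y).2 hm)
    have hyq : y ^ q ∈ M := by
      rw [← QuotientGroup.eq_one_iff, QuotientGroup.mk_pow, ← hy']; exact pow_orderOf_eq_one _
    have hqM : M.index = q := by
      rw [Subgroup.index_eq_card]
      have hz : Subgroup.zpowers (QuotientGroup.mk' M y) = ⊤ := by
        have h1 : (Subgroup.zpowers (QuotientGroup.mk' M y)).comap (QuotientGroup.mk' M) = ⊤ := by
          refine hMc.2 _ (lt_of_le_of_ne (fun c hc => ?_) fun e => hy ((SetLike.ext_iff.1 e y).2 (show QuotientGroup.mk' M y ∈ Subgroup.zpowers (QuotientGroup.mk' M y) from Subgroup.mem_zpowers _)))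
          show QuotientGroup.mk' M c ∈ Subgroup.zpowers (QuotientGroup.mk' M y)
          rw [show QuotientGroup.mk' M c = 1 from (QuotientGroup.eq_one_iff c).2 hc]; exact one_mem _
        rw [← Subgroup.map_comap_eq_self_of_surjective (QuotientGroup.mk'_surjective M) (Subgroup.zpowers _), h1,
          ← MonoidHom.range_eq_map]
        exact MonoidHom.range_eq_top.2 (QuotientGroup.mk'_surjective M)
      rw [← Subgroup.card_top, ← hz, Nat.card_zpowers, hy']
    have hcard : Nat.card (G ⧸ Z) = p ^ a * q := by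
      have h1 := Subgroup.card_mul_index MQ
      rw [ha, hMQdef, Subgroup.index_map_eq M (QuotientGroup.mk'_surjective Z) (by rw [QuotientGroup.ker_mk']; exact hZM), hqM] at h1
      exact h1.symm
    have hpq : p ≠ q := by
      intro hpq
      subst hpq
      refine hcl fun u v => ?_
      have hQp : IsPGroup p (G ⧸ Z) := IsPGroup.of_card (n := a + 1) (by rw [hcard, pow_succ])
      haveI := hQp.isNilpotent
      have hyZ : y ∉ Z := fun hz => hy (hZM hz)
      set C := Subgroup.centralizer ({y} : Set G)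
      have hZC : Z ≤ C := Subgroup.center_le_centralizer _
      have hCc : IsCoatom (C.map π) := by
        have hcom : (C.map π).comap π = C := by rw [Subgroup.comap_map_eq, QuotientGroup.ker_mk', sup_eq_left.2 hZC]
        refine ⟨fun e => (h y hyZ).1 (show C = ⊤ by rw [← hcom, e, Subgroup.comap_top]), fun L hL => ?_⟩
        have hs := QuotientGroup.mk'_surjective Z
        have := (h y hyZ).2 (L.comap π) (lt_of_eq_of_lt hcom.symm ((Subgroup.comap_lt_comap_of_surjective hs).2 hL))
        exact Subgroup.comap_injective hs (this.trans (Subgroup.comap_top π).symm)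
      have hCQn : (C.map π).Normal :=
        Subgroup.NormalizerCondition.normal_of_coatom _ Group.normalizerCondition_of_isNilpotent hCc
      have hCn : C.Normal := by
        have hcom : (C.map π).comap π = C := by rw [Subgroup.comap_map_eq, QuotientGroup.ker_mk', sup_eq_left.2 hZC]
        rw [← hcom]; exact hCQn.comap π
      -- `[G, y] ≤ M ∩ C = Z`
      have hinZ : ∀ m ∈ M, ⁅m, y⁆ ∈ Z := by
        intro m hm
        refine hmin y hy _ ?_ (Subgroup.mem_centralizer_singleton_iff.1 ?_)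
        · rw [show ⁅m, y⁆ = m * (y * m⁻¹ * y⁻¹) by rw [commutatorElement_def]; group]
          exact M.mul_mem hm (hMn.conj_mem _ (M.inv_mem hm) y)
        · rw [show ⁅m, y⁆ = (m * y * m⁻¹) * y⁻¹ by rw [commutatorElement_def]]
          exact C.mul_mem (hCn.conj_mem y (Subgroup.mem_centralizer_singleton_iff.2 rfl) m) (C.inv_mem (Subgroup.mem_centralizer_singleton_iff.2 rfl))
      have htop : M ⊔ Subgroup.zpowers y = ⊤ := hMc.2 _ (lt_of_le_of_ne le_sup_left fun e =>
        hy ((SetLike.ext_iff.1 e y).2 (Subgroup.mem_sup_right (Subgroup.mem_zpowers y))))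
      have hcen : ∀ e : G, QuotientGroup.mk' Z e ∈ Subgroup.center (G ⧸ Z) := by
        have hgen : ∀ e f : G, (e ∈ M ∨ e = y) → (f ∈ M ∨ f = y) → π e * π f = π f * π e := by
          intro e f he hf
          rw [← commutatorElement_eq_one_iff_mul_comm, ← map_commutatorElement]
          refine (QuotientGroup.eq_one_iff _).2 ?_
          rcases he with he | rfl <;> rcases hf with hf | rfl
          · rw [commutatorElement_eq_one_iff_mul_comm.2 (hMab e he f hf)]; exact one_mem _
          · exact hinZ e he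
          · rw [← commutatorElement_inv]; exact Z.inv_mem (hinZ f hf)
          · rw [commutatorElement_self]; exact one_mem _
        intro e
        rw [Subgroup.mem_center_iff]
        intro qq
        obtain ⟨f, rfl⟩ := QuotientGroup.mk'_surjective Z qq
        have hle : ∀ f, (f ∈ M ∨ f = y) → ∀ e : G, π e * π f = π f * π e := by
          intro f hf e
          have : M ⊔ Subgroup.zpowers y ≤ (Subgroup.centralizer ({π f} : Set (G ⧸ Z))).comap π := sup_le
            (fun u hu => Subgroup.mem_centralizer_singleton_iff.2 (hgen u f (Or.inl hu) hf))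
            (Subgroup.zpowers_le.2 (Subgroup.mem_centralizer_singleton_iff.2 (hgen y f (Or.inr rfl) hf)))
          exact Subgroup.mem_centralizer_singleton_iff.1 (this (by rw [htop]; exact Subgroup.mem_top e))
        have : M ⊔ Subgroup.zpowers y ≤ (Subgroup.centralizer ({π e} : Set (G ⧸ Z))).comap π := sup_le
          (fun u hu => Subgroup.mem_centralizer_singleton_iff.2 (hle u (Or.inl hu) e).symm)
          (Subgroup.zpowers_le.2 (Subgroup.mem_centralizer_singleton_iff.2 (hle y (Or.inr rfl) e).symm))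
        exact Subgroup.mem_centralizer_singleton_iff.1 (this (by rw [htop]; exact Subgroup.mem_top f))
      rw [← QuotientGroup.eq_one_iff]
      show π ⁅u, v⁆ = 1
      rw [map_commutatorElement, commutatorElement_eq_one_iff_mul_comm]
      exact Subgroup.mem_center_iff.1 (hcen v) _
    refine ⟨p, q, a, hp, hq, hpq, hcard, fun P hP => ?_⟩
    haveI hMQn : MQ.Normal := hMn.map π (QuotientGroup.mk'_surjective Z)
    have hle : P ≤ MQ := by
      intro u hu
      have h1 := orderOf_map_dvd (QuotientGroup.mk' MQ) u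
      have h2 : orderOf (QuotientGroup.mk' MQ u) ∣ q := by
        have := orderOf_dvd_natCard (QuotientGroup.mk' MQ u)
        rwa [← Subgroup.index_eq_card, Subgroup.index_map_eq M (QuotientGroup.mk'_surjective Z)
          (by rw [QuotientGroup.ker_mk']; exact hZM), hqM] at this
      have h3 : orderOf u ∣ p ^ a := hP ▸ Subgroup.orderOf_coe (⟨u, hu⟩ : P) ▸ orderOf_dvd_natCard _
      have h4 := Nat.dvd_gcd (h1.trans h3) h2
      rw [((Nat.coprime_primes hp hq).2 hpq).pow_left a, Nat.dvd_one, orderOf_eq_one_iff] at h4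
      exact (QuotientGroup.eq_one_iff u).1 h4
    rw [show P = MQ from Subgroup.eq_of_le_of_card_ge hle (by rw [hP, ha])]
    exact hMQn

end Cfsg.Agent.S3904
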