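import Cfsg.Statements.S3905
import Cfsg.Agent.MaxCentralizer
import Cfsg.Agent.PGroups.Basic

set_option autoImplicit false
open Cfsg
open scoped Pointwise

namespace Cfsg.Agent.S3905

section
open Subgroup Cfsg.Lib.MaxCent

variable {G : Type*} [Group G] [Finite G]

/-- a subgroup containing the prime power powers of an element contains it -/
theorem mem_of_parts (S : Subgroup G) : ∀ g : G, (∀ (r : ℕ), r.Prime → ∀ b ∈ zpowers g, (∃ k : ℕ, b ^ r ^ k = 1) → b ∈ S) → g ∈ S := by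
  intro g
  induction h : orderOf g using Nat.strong_induction_on generalizing g with
  | _ n ih =>
  intro hg
  rcases eq_or_ne n 1 with h1 | h1
  · rw [h1] at h; rw [orderOf_eq_one_iff.1 h]; exact one_mem _
  obtain ⟨r, hr, hrn⟩ := Nat.exists_prime_and_dvd h1
  haveI := Fact.mk hr
  obtain ⟨a, c, ha, hc, hac, hak, hcr⟩ := exists_parts r g
  have hlt : orderOf c < n := by
    refine lt_of_le_of_ne (h ▸ Nat.le_of_dvd (orderOf_pos g) (orderOf_dvd_of_mem_zpowers hc)) fun e => hr.ne_one ?_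
    exact Nat.eq_one_of_dvd_coprimes hcr.symm dvd_rfl (e.symm ▸ hrn)
  rw [hac]
  exact mul_mem (hg r hr a ha hak) (ih _ hlt c rfl fun s hs b hb => hg s hs b (zpowers_le.2 hc hb))

theorem exists_prime_power_nc {N : Subgroup G} {x : G} (hx : NC N x) :
    ∃ (r : ℕ) (_ : Fact r.Prime) (b : G), NC N b ∧ ∃ k : ℕ, b ^ r ^ k = 1 := by
  by_contra hno
  refine hx.2 (mem_of_parts _ x fun r hr b hb hbk => ?_)
  by_contra hbc
  exact hno ⟨r, ⟨hr⟩, b, ⟨zpowers_le.2 hx.1 hb, hbc⟩, hbk⟩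

theorem pgroup_zpowers {p : ℕ} {b : G} (hb : ∃ k : ℕ, b ^ p ^ k = 1) : IsPGroup p (zpowers b) := by
  rintro ⟨w, hw⟩
  obtain ⟨i, rfl⟩ := mem_zpowers_iff.1 hw
  obtain ⟨k, hk⟩ := hb
  refine ⟨k, Subtype.ext ?_⟩
  show (b ^ i) ^ p ^ k = 1
  rw [← zpow_natCast, ← zpow_mul, mul_comm, zpow_mul, zpow_natCast, hk, one_zpow]

theorem core_data {N : Subgroup G} [N.Normal] (H : Hyp N) {x : G} (hx : NC N x) :
    ∃ (p : ℕ) (_ : Fact p.Prime) (R : Subgroup G), R.Normal ∧ R ≤ N ∧ IsPGroup p R ∧ ¬ R ≤ centralizer (N : Set G) ∧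
      (∀ u ∈ R, ∀ v ∈ R, u⁻¹ * v⁻¹ * u * v ∈ centralizer (N : Set G)) ∧
      (∀ u ∈ R, u ^ p ∈ centralizer (N : Set G)) ∧
      (N ≤ R ⊔ (N ⊓ centralizer (N : Set G)) ∨
        ∃ (l : ℕ) (_ : Fact l.Prime) (a : G), l ≠ p ∧ NC N a ∧ (∃ k : ℕ, a ^ l ^ k = 1) ∧
          a ^ l ∈ centralizer (N : Set G) ∧ R ⊓ centralizer ({a} : Set G) ≤ centralizer (N : Set G) ∧
          N ≤ R ⊔ zpowers a ⊔ (N ⊓ centralizer (N : Set G))) := by
  classical
  obtain ⟨r₀, hr₀, b₀, hb₀, hb₀k⟩ := exists_prime_power_nc hx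
  obtain ⟨p, hp, R₀, hR₀n, hR₀N, hR₀p, hR₀c⟩ := exists_normal H hb₀ hb₀k
  haveI := Fintype.ofFinite (Subgroup G)
  obtain ⟨R, hRm, hRmax⟩ := Finset.exists_max_image
    (Finset.univ.filter fun R : Subgroup G => R.Normal ∧ R ≤ N ∧ IsPGroup p R ∧ R₀ ≤ R) (fun R => Nat.card R)
    ⟨R₀, Finset.mem_filter.2 ⟨Finset.mem_univ _, hR₀n, hR₀N, hR₀p, le_rfl⟩⟩
  obtain ⟨hRn, hRN, hRp, hR0⟩ := (Finset.mem_filter.1 hRm).2
  have hRc : ¬ R ≤ centralizer (N : Set G) := fun h => hR₀c (hR0.trans h)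
  have hbig : ∀ L : Subgroup G, L.Normal → L ≤ N → IsPGroup p L → R ≤ L → L ≤ R := by
    intro L h1 h2 h3 h4
    exact (eq_of_le_of_card_ge h4 (hRmax L (Finset.mem_filter.2 ⟨Finset.mem_univ _, h1, h2, h3, hR0.trans h4⟩))).ge
  -- the Frattini subgroup is central
  set Φ := (frattini R).map R.subtype
  have hΦR : Φ ≤ R := map_subtype_le _
  have hΦc : Φ ≤ centralizer (N : Set G) := by
    intro b hb
    rw [mem_centralizer_iff]
    intro w hw
    by_cases hwc : w ∈ centralizer (N : Set G)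
    · exact (mem_centralizer_iff.1 hwc b (hRN (hΦR hb))).symm
    have hb' : b ∈ centralizer ({w} : Set G) := by
      by_contra hbw
      have htop : Φ ⊔ centralizer ({w} : Set G) = ⊤ :=
        (H w hw hwc).2 _ (lt_of_le_of_ne le_sup_right fun e => hbw (e.ge (mem_sup_left hb)))
      haveI : Φ.Normal := inferInstance
      have h1 : (centralizer ({w} : Set G)).subgroupOf R ⊔ frattini R = ⊤ := by
        rw [eq_top_iff]
        rintro ⟨r, hr⟩ -
        obtain ⟨u, ⟨u', hu', rfl⟩, c, hc, huc⟩ := mem_sup_of_normal_left.1 (htop.ge (mem_top r))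
        have hcR : c ∈ R := by
          have : c = (R.subtype u')⁻¹ * r := by rw [← huc, inv_mul_cancel_left]
          rw [this]; exact mul_mem (inv_mem u'.2) hr
        have : (⟨r, hr⟩ : R) = u' * ⟨c, hcR⟩ := Subtype.ext huc.symm
        rw [this]
        exact mul_mem (mem_sup_right hu') (mem_sup_left hc)
      have h2 := frattini_nongenerating h1
      exact hbw (h2.ge (mem_top (⟨b, hΦR hb⟩ : R)))
    exact (mem_centralizer_singleton_iff.1 hb').symm
  have hcomm : ∀ u ∈ R, ∀ v ∈ R, u⁻¹ * v⁻¹ * u * v ∈ centralizer (N : Set G) := by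
    intro u hu v hv
    refine hΦc ⟨(⟨u, hu⟩ : R)⁻¹ * ⟨v, hv⟩⁻¹ * ⟨u, hu⟩ * ⟨v, hv⟩, ?_, rfl⟩
    haveI := Cfsg.Lib.PGroups.isMulCommutative_quotient_frattini hRp
    rw [SetLike.mem_coe, ← QuotientGroup.eq_one_iff, QuotientGroup.mk_mul, QuotientGroup.mk_mul, QuotientGroup.mk_mul,
      mul_assoc _ ((⟨u, hu⟩ : R) : R ⧸ frattini R) _, mul_comm' ((⟨u, hu⟩ : R) : R ⧸ frattini R) _, mul_assoc,
      ← mul_assoc ((⟨v, hv⟩⁻¹ : R) : R ⧸ frattini R)]
    simp
  have hpow : ∀ u ∈ R, u ^ p ∈ centralizer (N : Set G) := fun u hu =>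
    hΦc ⟨(⟨u, hu⟩ : R) ^ p, Cfsg.Lib.PGroups.pow_mem_frattini hRp _, rfl⟩
  refine ⟨p, hp, R, hRn, hRN, hRp, hRc, hcomm, hpow, ?_⟩
  -- elements of prime power order for other primes
  have hfix : ∀ (q : ℕ) [Fact q.Prime] (y : G), q ≠ p → NC N y → (∃ k : ℕ, y ^ q ^ k = 1) →
      R ⊔ centralizer ({y} : Set G) = ⊤ ∧ R ⊓ centralizer ({y} : Set G) ≤ centralizer (N : Set G) ∧
      (∀ b ∈ N, b * y = y * b → (∃ k : ℕ, b ^ p ^ k = 1) → b ∈ centralizer (N : Set G)) := by
    intro q _ y hqp hy hyk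
    have hns := star H hRN hRp hRc hqp.symm hy hyk
    have htop : R ⊔ centralizer ({y} : Set G) = ⊤ :=
      (H y hy.1 hy.2).2 _ (lt_of_le_of_ne le_sup_right fun e => hns (le_sup_left.trans e.ge))
    set R0 := R ⊓ centralizer ({y} : Set G)
    have hR0c : R0 ≤ centralizer (N : Set G) := by
      by_contra hc
      have hnorm : normalizer (R0 : Set G) = ⊤ := by
        have hgen : ∀ g, (g ∈ R ∨ g ∈ centralizer ({y} : Set G)) → ∀ u ∈ R0, g * u * g⁻¹ ∈ R0 := by
          rintro g hg u hu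
          refine ⟨hRn.conj_mem u hu.1 g, ?_⟩
          rcases hg with hg | hg
          · have h1 := hcomm g⁻¹ (inv_mem hg) u⁻¹ (inv_mem hu.1)
            simp only [inv_inv] at h1
            have h2 : g * u * g⁻¹ * u⁻¹ ∈ centralizer ({y} : Set G) :=
              mem_centralizer_singleton_iff.2 (mem_centralizer_iff.1 h1 y hy.1).symm
            have := mul_mem h2 hu.2
            simpa using this
          · exact (centralizer ({y} : Set G)).mul_mem ((centralizer ({y} : Set G)).mul_mem hg hu.2) ((centralizer ({y} : Set G)).inv_mem hg)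
        rw [eq_top_iff, ← htop]
        refine sup_le (fun g hg => ?_) (fun g hg => ?_) <;> rw [Subgroup.mem_normalizer_iff] <;> intro u
        · exact ⟨hgen g (Or.inl hg) u, fun h => by
            have := hgen g⁻¹ (Or.inl (inv_mem hg)) _ h
            simpa [mul_assoc] using this⟩
        · exact ⟨hgen g (Or.inr hg) u, fun h => by
            have := hgen g⁻¹ (Or.inr (inv_mem hg)) _ h
            simpa [mul_assoc] using this⟩
      haveI : R0.Normal := normalizer_eq_top_iff.1 hnorm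
      exact star H (inf_le_left.trans hRN) (hRp.to_le inf_le_left) hc hqp.symm hy hyk inf_le_right
    refine ⟨htop, hR0c, fun b hb hby hbk => ?_⟩
    by_contra hbc
    have hcomm2 : ∀ u v : G, u ∈ N → v ∈ N → u * y = y * u → v * y = y * v → (∃ k : ℕ, u ^ p ^ k = 1) →
        Commute u v := by
      intro u v hu hv huy hvy huk
      by_cases huc : u ∈ centralizer (N : Set G)
      · exact (mem_centralizer_iff.1 huc v hv).symm
      have h1 := eq_cent H ⟨hu, huc⟩ hy huy (coprime_of_pow huk (by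
        obtain ⟨k, hk⟩ := hyk
        exact (((Nat.coprime_primes (Fact.out : q.Prime) hp.out).2 hqp).pow_left k).coprime_dvd_left
          (orderOf_dvd_of_pow_eq_one hk)))
      have hv' : v ∈ centralizer ({u} : Set G) := by rw [h1, mem_centralizer_singleton_iff]; exact hvy
      exact (mem_centralizer_singleton_iff.1 hv').symm
    let Cp : Subgroup G :=
      { carrier := {u | u ∈ N ∧ u * y = y * u ∧ ∃ k : ℕ, u ^ p ^ k = 1}
        one_mem' := ⟨one_mem _, by simp, 0, one_pow _⟩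
        mul_mem' := by
          rintro u v ⟨hu, huy, i, hi⟩ ⟨hv, hvy, j, hj⟩
          refine ⟨mul_mem hu hv, ?_, i + j, ?_⟩
          · exact ((show Commute u y from huy).mul_left (show Commute v y from hvy)).eq
          rw [(hcomm2 u v hu hv huy hvy ⟨i, hi⟩).mul_pow, pow_add, pow_mul, hi, one_pow, one_mul,
            mul_comm (p ^ i), pow_mul, hj, one_pow]
        inv_mem' := by
          rintro u ⟨hu, huy, i, hi⟩
          exact ⟨inv_mem hu, (show Commute u y from huy).inv_left.eq, i, by rw [inv_pow, hi, inv_one]⟩ }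
    have hCp : IsPGroup p Cp := fun u => ⟨u.2.2.2.choose, Subtype.ext u.2.2.2.choose_spec⟩
    haveI := hRn
    have hnorm : normalizer ((R ⊔ Cp : Subgroup G) : Set G) = ⊤ := by
      rw [eq_top_iff, ← htop]
      refine sup_le (le_sup_left.trans le_normalizer) fun g hg => ?_
      refine Cfsg.Lib.Transfer.map_conj_eq_self_iff.1 ?_
      refine eq_of_le_of_card_ge ?_ (by rw [card_map_of_injective (f := (MulAut.conj g).toMonoidHom) (MulAut.conj g).injective])
      rw [Subgroup.map_sup]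
      refine sup_le_sup ?_ ?_
      · rintro _ ⟨u, hu, rfl⟩
        exact hRn.conj_mem u hu g
      · rintro _ ⟨u, ⟨hu, huy, i, hi⟩, rfl⟩
        rw [mem_centralizer_singleton_iff] at hg
        refine ⟨(inferInstance : N.Normal).conj_mem u hu g, ?_, i, ?_⟩
        · show g * u * g⁻¹ * y = y * (g * u * g⁻¹)
          exact (((show Commute g y from hg).mul_left (show Commute u y from huy)).mul_left
            (show Commute g y from hg).inv_left).eq
        · rw [show (MulAut.conj g).toMonoidHom u = g * u * g⁻¹ from rfl, conj_pow, hi, mul_one, mul_inv_cancel]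
    have hle := hbig (R ⊔ Cp) (normalizer_eq_top_iff.1 hnorm) (sup_le hRN fun u (hu : u ∈ N ∧ _) => hu.1)
      (hRp.to_sup_of_normal_left hCp) le_sup_left
    exact hbc (hR0c ⟨hle (mem_sup_right (show b ∈ Cp from ⟨hb, hby, hbk⟩)), mem_centralizer_singleton_iff.2 hby⟩)
  by_cases hone : ∀ (q : ℕ), q.Prime → q ≠ p → ∀ y : G, y ∈ N → (∃ k : ℕ, y ^ q ^ k = 1) → y ∈ centralizer (N : Set G)
  · left
    set Zn := N ⊓ centralizer (N : Set G)
    have hq : IsPGroup p (N ⧸ center N) := by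
      intro w
      obtain ⟨g, rfl⟩ := QuotientGroup.mk_surjective w
      obtain ⟨a, b, ha, hb, hab, ⟨k, hk⟩, hbp⟩ := exists_parts p (g : G)
      refine ⟨k, ?_⟩
      have hbc : b ∈ centralizer (N : Set G) := mem_of_parts _ b fun r hr c hc hck => by
        by_cases hrp : r = p
        · subst hrp
          obtain ⟨j, hj⟩ := hck
          have h1 : orderOf c = 1 := Nat.eq_one_of_dvd_coprimes (hbp.pow_right j) (orderOf_dvd_of_mem_zpowers hc)
            (orderOf_dvd_of_pow_eq_one hj)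
          rw [orderOf_eq_one_iff.1 h1]; exact one_mem _
        · exact hone r hr hrp c (zpowers_le.2 g.2 (zpowers_le.2 hb hc)) hck
      rw [← QuotientGroup.mk_pow, QuotientGroup.eq_one_iff, mem_center_iff]
      intro u
      apply Subtype.ext
      have hcab : Commute a b := by
        obtain ⟨i, rfl⟩ := mem_zpowers_iff.1 ha
        obtain ⟨j, rfl⟩ := mem_zpowers_iff.1 hb
        exact Commute.zpow_zpow (Commute.refl _) i j
      show (u : G) * (g : G) ^ p ^ k = (g : G) ^ p ^ k * u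
      rw [hab, hcab.mul_pow, hk, one_mul]
      exact mem_centralizer_iff.1 (pow_mem hbc _) _ u.2
    haveI := hq.isNilpotent
    haveI : Group.IsNilpotent N := Subgroup.isNilpotent_of_ker_le_center (QuotientGroup.mk' (center N))
      (by rw [QuotientGroup.ker_mk'])
    obtain ⟨T⟩ : Nonempty (Sylow p N) := inferInstance
    haveI hTn : (T : Subgroup N).Normal := Sylow.normal_of_normalizerCondition Group.normalizerCondition_of_isNilpotent T
    haveI : (T : Subgroup N).Characteristic := T.characteristic_of_normal hTn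
    set T' := (T : Subgroup N).map N.subtype
    haveI : T'.Normal := inferInstance
    haveI := hRn
    have hT'R : T' ≤ R := le_sup_right.trans (hbig (R ⊔ T') inferInstance (sup_le hRN (map_subtype_le _))
      (hRp.to_sup_of_normal_left (T.2.map _)) le_sup_left)
    intro g hg
    refine mem_of_parts _ g fun r hr b hb hbk => ?_
    have hbN : b ∈ N := zpowers_le.2 hg hb
    by_cases hrp : r = p
    · subst hrp
      obtain ⟨T₂, hT₂⟩ := ((pgroup_zpowers hbk).comap_of_injective N.subtype Subtype.val_injective).exists_le_sylow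
      haveI := Sylow.unique_of_normal T hTn
      rw [Subsingleton.elim T₂ T] at hT₂
      exact mem_sup_left (hT'R ⟨⟨b, hbN⟩, hT₂ (show (⟨b, hbN⟩ : N) ∈ (zpowers b).comap N.subtype from mem_zpowers b), rfl⟩)
    · exact mem_sup_right ⟨hbN, hone r hr hrp b hbN hbk⟩
  right
  push Not at hone
  obtain ⟨q, hq, hqp, y, hyN, hyk, hyc⟩ := hone
  haveI := Fact.mk hq
  have hy : NC N y := ⟨hyN, hyc⟩
  obtain ⟨htop, hR0c, hpc⟩ := hfix q y hqp hy hyk
  set C := N ⊓ centralizer ({y} : Set G)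
  haveI : Group.IsNilpotent C := nilpotent_inf H hy hyk
  haveI hCcn : (centralizer (N : Set G)).Normal := Subgroup.normal_centralizer
  set Zc := (centralizer (N : Set G)).subgroupOf C
  haveI : Zc.Normal := inferInstance
  haveI : Nontrivial (C ⧸ Zc) := by
    refine ⟨⟨((⟨y, hyN, mem_centralizer_singleton_iff.2 rfl⟩ : C) : C ⧸ Zc), 1, fun e => hyc ?_⟩⟩
    exact ((QuotientGroup.eq_one_iff (N := Zc) (⟨y, hyN, mem_centralizer_singleton_iff.2 rfl⟩ : C)).1 e : _)
  haveI : Nontrivial (center (C ⧸ Zc)) := (Subgroup.nontrivial_iff_ne_bot _).2 (Group.IsNilpotent.center_ne_bot _)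
  obtain ⟨l, hl, hldvd⟩ := Nat.exists_prime_and_dvd (Finite.one_lt_card (α := center (C ⧸ Zc))).ne'
  haveI := Fact.mk hl
  obtain ⟨e, he⟩ := exists_prime_orderOf_dvd_card' l hldvd
  obtain ⟨c, hc⟩ := QuotientGroup.mk_surjective (e : C ⧸ Zc)
  obtain ⟨a, b, ha, hb, hab, hak, hbl⟩ := exists_parts l (c : G)
  have hcl : (c : G) ^ l ∈ centralizer (N : Set G) := by
    have h1 : (c : C ⧸ Zc) ^ l = 1 := by
      rw [hc, ← SubgroupClass.coe_pow, ← he, pow_orderOf_eq_one, OneMemClass.coe_one]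
    rw [← QuotientGroup.mk_pow, QuotientGroup.eq_one_iff] at h1
    exact h1
  have hbc : b ∈ centralizer (N : Set G) := by
    have hbmem : b ^ l ∈ centralizer (N : Set G) := by
      obtain ⟨i, hi⟩ := mem_zpowers_iff.1 hb
      rw [← hi, ← zpow_natCast, ← zpow_mul, mul_comm, zpow_mul, zpow_natCast]
      exact zpow_mem hcl i
    obtain ⟨u, v, huv⟩ := (Nat.isCoprime_iff_coprime).2 hbl
    have hb1 : b ^ (u * (orderOf b : ℤ)) = 1 := by
      rw [mul_comm, zpow_mul, zpow_natCast, pow_orderOf_eq_one, one_zpow]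
    rw [show b = b ^ (u * (orderOf b : ℤ)) * b ^ (v * (l : ℤ)) by rw [← zpow_add, huv, zpow_one], hb1, one_mul,
      mul_comm, zpow_mul, zpow_natCast]
    exact zpow_mem hbmem v
  have haC : a ∈ C := zpowers_le.2 c.2 ha
  have hanc : a ∉ centralizer (N : Set G) := fun h => by
    have h1 : (c : C ⧸ Zc) = 1 := (QuotientGroup.eq_one_iff c).2 (by
      show (c : G) ∈ centralizer (N : Set G)
      rw [hab]; exact mul_mem h hbc)
    rw [hc] at h1
    rw [show e = 1 from Subtype.ext h1, orderOf_one] at he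
    exact hl.one_lt.ne he
  have hlp : l ≠ p := by
    rintro rfl
    exact hanc (hpc a haC.1 (mem_centralizer_singleton_iff.1 haC.2) hak)
  have hal : a ^ l ∈ centralizer (N : Set G) := by
    obtain ⟨i, hi⟩ := mem_zpowers_iff.1 ha
    rw [← hi, ← zpow_natCast, ← zpow_mul, mul_comm, zpow_mul, zpow_natCast]
    exact zpow_mem hcl i
  obtain ⟨-, hRa, -⟩ := hfix l a hlp ⟨haC.1, hanc⟩ hak
  refine ⟨l, ⟨hl⟩, a, hlp, ⟨haC.1, hanc⟩, hak, hal, hRa, ?_⟩
  set Zn := N ⊓ centralizer (N : Set G)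
  set L := R ⊔ zpowers a ⊔ Zn
  have hLN : L ≤ N := sup_le (sup_le hRN (zpowers_le.2 haC.1)) inf_le_left
  have haL : a ∈ L := mem_sup_left (mem_sup_right (mem_zpowers a))
  haveI := hRn
  haveI hZn : Zn.Normal := Subgroup.normal_inf_normal _ _
  have hdec : ∀ n ∈ N, ∃ r ∈ R, ∃ d ∈ C, r * d = n := by
    intro n hn
    obtain ⟨r, hr, d, hd, rfl⟩ := mem_sup_of_normal_left.1 (htop.ge (mem_top n))
    exact ⟨r, hr, d, ⟨by simpa using mul_mem (inv_mem (hRN hr)) hn, hd⟩, rfl⟩
  have hcommC : ∀ d ∈ C, d * a * d⁻¹ * a⁻¹ ∈ Zn := by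
    intro d hd
    have h1 : ((⟨d, hd⟩ : C) : C ⧸ Zc) * (c : C ⧸ Zc) = (c : C ⧸ Zc) * ((⟨d, hd⟩ : C) : C ⧸ Zc) := by
      rw [hc]; exact (Subgroup.mem_center_iff.1 e.2 _)
    rw [← QuotientGroup.mk_mul, ← QuotientGroup.mk_mul, QuotientGroup.eq] at h1
    have h2 : ((d * c)⁻¹ * (c * d) : G) ∈ centralizer (N : Set G) := h1
    refine Subgroup.mem_inf.2 ⟨N.mul_mem (N.mul_mem (N.mul_mem hd.1 haC.1) (N.inv_mem hd.1)) (N.inv_mem haC.1), ?_⟩
    have hca : QuotientGroup.mk' (centralizer (N : Set G)) a = QuotientGroup.mk' (centralizer (N : Set G)) (c : G) := by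
      rw [hab, map_mul, show QuotientGroup.mk' (centralizer (N : Set G)) b = 1 from (QuotientGroup.eq_one_iff b).2 hbc, mul_one]
    rw [← QuotientGroup.eq_one_iff] at h2 ⊢
    change QuotientGroup.mk' (centralizer (N : Set G)) _ = 1 at h2 ⊢
    simp only [map_mul, map_inv, hca] at h2 ⊢
    rw [inv_mul_eq_one] at h2
    rw [h2, mul_inv_cancel_right, mul_inv_cancel]
  have hLn : L.Normal := by
    refine normal_of_invariant H hLN (fun n hn => ?_) fun h => hanc (h haL)
    obtain ⟨r, hr, d, hd, rfl⟩ := hdec n hn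
    have hmap : L.map (MulAut.conj d).toMonoidHom ≤ L := by
      rw [show L = R ⊔ zpowers a ⊔ Zn from rfl, Subgroup.map_sup, Subgroup.map_sup, MonoidHom.map_zpowers]
      refine sup_le (sup_le ?_ ?_) ?_
      · rintro _ ⟨u, hu, rfl⟩
        exact mem_sup_left (mem_sup_left (hRn.conj_mem u hu d))
      · rw [zpowers_le]
        show d * a * d⁻¹ ∈ _
        rw [← inv_mul_cancel_right (d * a * d⁻¹) a]
        exact mul_mem (mem_sup_right (hcommC d hd)) haL
      · rintro _ ⟨u, hu, rfl⟩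
        exact mem_sup_right (hZn.conj_mem u hu d)
    intro u hu
    have hrL : r ∈ L := mem_sup_left (mem_sup_left hr)
    have := mul_mem (mul_mem hrL (hmap ⟨u, hu, rfl⟩)) (inv_mem hrL)
    simpa [mul_assoc] using this
  haveI := hLn
  obtain ⟨u, hu, huc⟩ := SetLike.not_le_iff_exists.1 hRc
  have haU : a ∉ centralizer ({u} : Set G) := fun h => huc (hRa ⟨hu, mem_centralizer_singleton_iff.2
    (mem_centralizer_singleton_iff.1 h).symm⟩)
  have htopu : L ⊔ centralizer ({u} : Set G) = ⊤ :=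
    (H u (hRN hu) huc).2 _ (lt_of_le_of_ne le_sup_right fun e => haU (e.ge (mem_sup_left haL)))
  intro n hn
  obtain ⟨v, hv, d, hd, rfl⟩ := mem_sup_of_normal_left.1 (htopu.ge (mem_top n))
  refine mul_mem hv (mem_of_parts _ d fun r hr w hw hwk => ?_)
  have hdN : d ∈ N := by simpa using mul_mem (inv_mem (hLN hv)) hn
  have hwN : w ∈ N := zpowers_le.2 hdN hw
  have hwu : w * u = u * w := mem_centralizer_singleton_iff.1 (zpowers_le.2 hd hw)
  by_cases hrp : r = p
  · subst hrp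
    obtain ⟨r', hr', d', hd', rfl⟩ := hdec w hwN
    refine mul_mem (mem_sup_left (mem_sup_left hr')) (mem_sup_right ⟨hd'.1, ?_⟩)
    obtain ⟨k, hk⟩ := hwk
    have hd'k : d' ^ r ^ k ∈ R := by
      rw [← QuotientGroup.eq_one_iff (N := R), QuotientGroup.mk_pow]
      have h1 := congrArg (QuotientGroup.mk' R) hk
      rw [map_pow, map_mul, map_one, show QuotientGroup.mk' R r' = 1 from (QuotientGroup.eq_one_iff r').2 hr', one_mul] at h1
      exact h1
    have hd'kc : d' ^ r ^ k ∈ centralizer (N : Set G) := hR0c ⟨hd'k, pow_mem hd'.2 _⟩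
    obtain ⟨a1, b1, ha1, hb1, hab1, ha1k, hb1p⟩ := exists_parts r d'
    have ha1C : a1 ∈ C := zpowers_le.2 hd' ha1
    have hb1k : b1 ^ r ^ k ∈ centralizer (N : Set G) := by
      obtain ⟨i, hi⟩ := mem_zpowers_iff.1 hb1
      rw [← hi, ← zpow_natCast, ← zpow_mul, mul_comm, zpow_mul, zpow_natCast]
      exact zpow_mem hd'kc i
    have hb1c : b1 ∈ centralizer (N : Set G) := by
      obtain ⟨u', v', huv⟩ := (Nat.isCoprime_iff_coprime).2 (hb1p.pow_right k)
      have hone : b1 ^ (u' * (orderOf b1 : ℤ)) = 1 := by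
        rw [mul_comm, zpow_mul, zpow_natCast, pow_orderOf_eq_one, one_zpow]
      rw [show b1 = b1 ^ (u' * (orderOf b1 : ℤ)) * b1 ^ (v' * ((r ^ k : ℕ) : ℤ)) by rw [← zpow_add, huv, zpow_one],
        hone, one_mul, mul_comm, zpow_mul, zpow_natCast]
      exact zpow_mem hb1k v'
    rw [hab1]
    exact mul_mem (hpc a1 ha1C.1 (mem_centralizer_singleton_iff.1 ha1C.2) ha1k) hb1c
  · refine mem_sup_right ⟨hwN, ?_⟩
    by_contra hwc
    haveI := Fact.mk hr
    obtain ⟨-, hRw, -⟩ := hfix r w hrp ⟨hwN, hwc⟩ hwk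
    exact huc (hRw ⟨hu, mem_centralizer_singleton_iff.2 hwu.symm⟩)

end

/-- Let N be a normal subgroup of the finite group G such that for every element x of N outside the center of N the centralizer C_G(x) is a maximal subgroup of G. Then N/Z(N) is either an elementary abelian p-group for some prime p, or a Frobenius group whose kernel is an elementary abelian normal subgroup and whose complement has prime order. -/
theorem result {G : Type*} [Group G] [Finite G] (N : Subgroup G) [N.Normal]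
    (h : ∀ x : G, x ∈ N → x ∉ Subgroup.centralizer (N : Set G) → IsCoatom (Subgroup.centralizer ({x} : Set G))) :
    (∃ p : ℕ, p.Prime ∧ Cfsg.IsElementaryAbelian p (⊤ : Subgroup (↥N ⧸ Subgroup.center ↥N))) ∨
    (∃ (Q K : Subgroup (↥N ⧸ Subgroup.center ↥N)) (p : ℕ), p.Prime ∧ Cfsg.IsFrobeniusComplement Q ∧ (Nat.card ↥Q).Prime ∧
      K.Normal ∧ (K : Set (↥N ⧸ Subgroup.center ↥N)) = Cfsg.frobeniusKernel Q ∧ Cfsg.IsElementaryAbelian p K) := by
  classical
  open Subgroup Cfsg.Lib.MaxCent in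
  have hcent : ∀ u : N, u ∈ center N ↔ (u : G) ∈ centralizer (N : Set G) := by
    intro u
    rw [mem_center_iff, mem_centralizer_iff]
    exact ⟨fun hu n hn => congrArg Subtype.val (hu ⟨n, hn⟩), fun hu n => Subtype.ext (hu n n.2)⟩
  by_cases hall : ∀ x ∈ N, x ∈ Subgroup.centralizer (N : Set G)
  · refine Or.inl ⟨2, Nat.prime_two, ?_, ?_⟩
    · have htriv : ∀ w : ↥N ⧸ Subgroup.center ↥N, w = 1 := fun w => by
        obtain ⟨g, rfl⟩ := QuotientGroup.mk_surjective w
        exact (QuotientGroup.eq_one_iff g).2 ((hcent g).2 (hall g g.2))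
      exact ⟨⟨fun u v => Subtype.ext (show u.1 * v.1 = v.1 * u.1 by rw [htriv u.1, htriv v.1])⟩⟩
    · intro w _
      obtain ⟨g, rfl⟩ := QuotientGroup.mk_surjective w
      rw [(QuotientGroup.eq_one_iff g).2 ((hcent g).2 (hall g g.2)), one_pow]
  open Subgroup Cfsg.Lib.MaxCent in
  obtain ⟨x, hxN, hxc⟩ : ∃ x, x ∈ N ∧ x ∉ centralizer (N : Set G) := by
    simpa only [not_forall, exists_prop] using hall
  open Subgroup Cfsg.Lib.MaxCent in
  obtain ⟨p, hp, R, hRn, hRN, hRp, hRc, hcomm, hpow, hcase⟩ := core_data h ⟨hxN, hxc⟩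
  let π := QuotientGroup.mk' (Subgroup.center N)
  open Subgroup in
  have hπ : ∀ u : N, π u = 1 ↔ (u : G) ∈ centralizer (N : Set G) := fun u =>
    (QuotientGroup.eq_one_iff u).trans (hcent u)
  set K := (R.subgroupOf N).map π
  haveI : (R.subgroupOf N).Normal := inferInstance
  haveI hKn : K.Normal := Subgroup.Normal.map inferInstance π (QuotientGroup.mk'_surjective _)
  have hKel : Cfsg.IsElementaryAbelian p K := by
    refine ⟨⟨⟨?_⟩⟩, ?_⟩
    · rintro ⟨_, u, hu, rfl⟩ ⟨_, v, hv, rfl⟩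
      apply Subtype.ext
      show π u * π v = π v * π u
      have h1 : π (u⁻¹ * v⁻¹ * u * v) = 1 := (hπ _).2 (hcomm u hu v hv)
      rw [map_mul, map_mul, map_mul, map_inv, map_inv, mul_assoc, mul_assoc, inv_mul_eq_one, eq_inv_mul_iff_mul_eq] at h1
      exact h1.symm
    · rintro _ ⟨u, hu, rfl⟩
      rw [← map_pow]
      exact (hπ _).2 (hpow u hu)
  rcases hcase with hN1 | ⟨l, hl, a, hlp, ha, hak, hal, hRa, hN2⟩
  · left
    refine ⟨p, hp.out, ?_⟩
    have htop : (⊤ : Subgroup (↥N ⧸ Subgroup.center ↥N)) = K := by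
      refine (eq_top_iff.2 fun w _ => ?_).symm
      obtain ⟨g, rfl⟩ := QuotientGroup.mk'_surjective _ w
      haveI : (N ⊓ Subgroup.centralizer (N : Set G)).Normal :=
        @Subgroup.normal_inf_normal _ _ _ _ inferInstance Subgroup.normal_centralizer
      obtain ⟨r, hr, z, hz, hrz⟩ := Subgroup.mem_sup_of_normal_right.1 (hN1 g.2)
      refine ⟨⟨r, hRN hr⟩, hr, ?_⟩
      have : g = ⟨r, hRN hr⟩ * ⟨z, hz.1⟩ := Subtype.ext hrz.symm
      show π ⟨r, hRN hr⟩ = π g
      rw [this, map_mul π, (hπ ⟨z, hz.1⟩).2 hz.2, mul_one]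
    rw [htop]; exact hKel
  right
  set ā := π ⟨a, ha.1⟩ with hā
  set Q := Subgroup.zpowers ā with hQ
  have hā1 : ā ≠ 1 := fun e => ha.2 ((hπ _).1 e)
  have hāl : ā ^ l = 1 := by rw [hā, ← map_pow]; exact (hπ _).2 hal
  have hord : orderOf ā = l := orderOf_eq_prime hāl hā1
  have hQcard : Nat.card Q = l := by rw [hQ, Nat.card_zpowers, hord]
  have hKQ : ∀ w, w ∈ K → w ∈ Q → w = 1 := by
    intro w hwK hwQ
    have h1 : w ^ p = 1 := hKel.2 w hwK
    have h2 : w ^ l = 1 := by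
      have := pow_card_eq_one' (x := (⟨w, hwQ⟩ : Q))
      rw [hQcard] at this
      exact congrArg Subtype.val this
    exact (pow_eq_one_iff_of_coprime (m := p) (n := l) ((Nat.coprime_primes hp.out hl.out).2 hlp.symm)).1 ⟨h1, h2⟩
  have hfixā : ∀ w ∈ K, ā * w = w * ā → w = 1 := by
    rintro _ ⟨r, hr, rfl⟩ hw
    apply (hπ r).2
    have hr' : (r : G) ∈ R := hr
    set z := (r : G)⁻¹ * (a * (r : G) * a⁻¹) with hz
    have hzR : z ∈ R := mul_mem (inv_mem hr') (hRn.conj_mem _ hr' a)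
    have hzc : z ∈ Subgroup.centralizer (N : Set G) := by
      have h1 : π (r⁻¹ * (⟨a, ha.1⟩ * r * ⟨a, ha.1⟩⁻¹)) = 1 := by
        rw [map_mul, map_mul, map_mul, map_inv, map_inv, ← hā, hw, mul_inv_cancel_right, inv_mul_cancel]
      exact (hπ _).1 h1
    have hza : a * z * a⁻¹ = z := by
      rw [Subgroup.mem_centralizer_iff.1 hzc a ha.1, mul_inv_cancel_right]
    have hiter : ∀ j : ℕ, a ^ j * (r : G) * (a ^ j)⁻¹ = (r : G) * z ^ j := by
      intro j
      induction j with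
      | zero => simp
      | succ j ih =>
        calc a ^ (j + 1) * (r : G) * (a ^ (j + 1))⁻¹ = a * (a ^ j * (r : G) * (a ^ j)⁻¹) * a⁻¹ := by
              rw [pow_succ']; group
          _ = a * ((r : G) * z ^ j) * a⁻¹ := by rw [ih]
          _ = (a * (r : G) * a⁻¹) * (a * z ^ j * a⁻¹) := by group
          _ = (r : G) * z * z ^ j := by rw [← conj_pow, hza, hz, mul_inv_cancel_left]
          _ = (r : G) * z ^ (j + 1) := by rw [mul_assoc, ← pow_succ']
    obtain ⟨k, hk⟩ := hak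
    have hzl : z ^ l ^ k = 1 := by
      have := hiter (l ^ k)
      rw [hk] at this
      simpa using this.symm
    obtain ⟨j, hj⟩ := hRp ⟨z, hzR⟩
    have hz1 : z = 1 := (pow_eq_one_iff_of_coprime (m := p ^ j) (n := l ^ k)
      (Nat.coprime_pow_primes _ _ hp.out hl.out hlp.symm)).1 ⟨congrArg Subtype.val hj, hzl⟩
    refine hRa ⟨hr', Subgroup.mem_centralizer_singleton_iff.2 ?_⟩
    have h1 := hiter 1
    rw [pow_one, pow_one, hz1, mul_one, mul_inv_eq_iff_eq_mul] at h1
    exact h1.symm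
  have hfix : ∀ w ∈ K, ∀ q ∈ Q, q ≠ 1 → q * w = w * q → w = 1 := by
    intro w hw q hq hq1 hqw
    have hgen : ā ∈ Subgroup.zpowers q := by
      have hle : Subgroup.zpowers q ≤ Q := Subgroup.zpowers_le.2 hq
      have heq : Subgroup.zpowers q = Q := by
        refine Subgroup.eq_of_le_of_card_ge hle ?_
        have hd := Subgroup.card_dvd_of_le hle
        rw [hQcard] at hd ⊢
        rcases (Nat.dvd_prime hl.out).1 hd with h | h
        · exact absurd (orderOf_eq_one_iff.1 (by rwa [← Nat.card_zpowers])) hq1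
        · omega
      rw [heq]; exact Subgroup.mem_zpowers ā
    obtain ⟨i, hi⟩ := Subgroup.mem_zpowers_iff.1 hgen
    exact hfixā w hw (hi ▸ ((show Commute q w from hqw).zpow_left i).eq)
  have hdecomp : ∀ w : ↥N ⧸ Subgroup.center ↥N, ∃ k ∈ K, ∃ q ∈ Q, k * q = w := by
    intro w
    obtain ⟨g, rfl⟩ := QuotientGroup.mk'_surjective _ w
    have hsup : ((R ⊔ Subgroup.zpowers a ⊔ (N ⊓ Subgroup.centralizer (N : Set G))).subgroupOf N).map π ≤ K ⊔ Q := by
      rw [Subgroup.subgroupOf_sup (sup_le hRN (Subgroup.zpowers_le.2 ha.1)) inf_le_left,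
        Subgroup.subgroupOf_sup hRN (Subgroup.zpowers_le.2 ha.1), Subgroup.map_sup, Subgroup.map_sup]
      refine sup_le (sup_le le_sup_left (le_sup_of_le_right ?_)) ?_
      · rintro _ ⟨u, hu, rfl⟩
        obtain ⟨i, hi⟩ := Subgroup.mem_zpowers_iff.1 hu
        refine Subgroup.mem_zpowers_iff.2 ⟨i, ?_⟩
        rw [hā, ← map_zpow]
        exact congrArg π (Subtype.ext hi)
      · rintro _ ⟨u, hu, rfl⟩
        rw [(hπ u).2 hu.2]; exact one_mem _
    exact Subgroup.mem_sup_of_normal_left.1 (hsup ⟨g, hN2 g.2, rfl⟩)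
  have hKne : K ≠ ⊥ := by
    intro e
    obtain ⟨u, hu, huc⟩ := SetLike.not_le_iff_exists.1 hRc
    exact huc ((hπ ⟨u, hRN hu⟩).1 (by
      have : π ⟨u, hRN hu⟩ ∈ K := ⟨_, hu, rfl⟩
      rwa [e, Subgroup.mem_bot] at this))
  refine ⟨Q, K, p, hp.out, ⟨fun e => hā1 ?_, fun e => hKne ?_, ?_⟩, hQcard ▸ hl.out, hKn, ?_, hKel⟩
  · rwa [hQ, Subgroup.zpowers_eq_bot] at e
  · exact (Subgroup.eq_bot_iff_forall _).2 fun w hw => hKQ w hw (e ▸ Subgroup.mem_top w)
  · intro g hg
    rw [Subgroup.eq_bot_iff_forall]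
    rintro w ⟨hw, hw'⟩
    replace hw' : w ∈ MulAut.conj g • Q := hw'
    rw [Subgroup.mem_pointwise_smul_iff_inv_smul_mem, ← MulAut.conj.map_inv,
      MulAut.smul_def, MulAut.conj_apply, inv_inv] at hw'
    by_contra hw1
    obtain ⟨k, hk, q, hq, rfl⟩ := hdecomp g
    set v := (k * q)⁻¹ * w * (k * q)
    have hwk : k⁻¹ * w * k = q * v * q⁻¹ := by simp only [v]; group
    have hmem : k⁻¹ * w * k ∈ Q := hwk ▸ Q.mul_mem (Q.mul_mem hq hw') (Q.inv_mem hq)
    have hcK : w⁻¹ * (k⁻¹ * w * k) ∈ K := by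
      rw [show w⁻¹ * (k⁻¹ * w * k) = (w⁻¹ * k⁻¹ * w) * k by group]
      have := hKn.conj_mem _ (K.inv_mem hk) w⁻¹
      rw [inv_inv] at this
      exact K.mul_mem this hk
    have h1 := hKQ _ hcK (Q.mul_mem (Q.inv_mem hw) hmem)
    rw [inv_mul_eq_one, eq_comm, mul_assoc, inv_mul_eq_iff_eq_mul] at h1
    have := hfix k hk w hw hw1 h1
    rw [this, one_mul] at hg
    exact hg hq
  · ext w
    constructor
    · intro hw
      refine or_iff_not_imp_left.2 fun hw1 g hg => hw1 ?_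
      rw [Subgroup.mem_pointwise_smul_iff_inv_smul_mem, ← MulAut.conj.map_inv, MulAut.smul_def, MulAut.conj_apply,
        inv_inv] at hg
      have hK' := hKn.conj_mem w hw g⁻¹
      rw [inv_inv] at hK'
      have := hKQ _ hK' hg
      calc w = g * (g⁻¹ * w * g) * g⁻¹ := by group
        _ = 1 := by rw [this]; group
    · intro hw
      by_contra hwK
      rcases hw with rfl | hw
      · exact hwK K.one_mem
      obtain ⟨k, hk, q, hq, rfl⟩ := hdecomp w
      have hq1 : q ≠ 1 := fun e => hwK (by rw [e, mul_one]; exact hk)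
      let f : K → K := fun u => ⟨(u : ↥N ⧸ Subgroup.center ↥N) * q * (u : ↥N ⧸ Subgroup.center ↥N)⁻¹ * q⁻¹, by
        rw [mul_assoc, mul_assoc]
        exact K.mul_mem u.2 (by rw [← mul_assoc]; exact hKn.conj_mem _ (K.inv_mem u.2) q)⟩
      have hinj : Function.Injective f := by
        intro u v huv
        have h1 : (u : ↥N ⧸ Subgroup.center ↥N) * q * (u : ↥N ⧸ Subgroup.center ↥N)⁻¹ =
            (v : ↥N ⧸ Subgroup.center ↥N) * q * (v : ↥N ⧸ Subgroup.center ↥N)⁻¹ :=
          mul_right_cancel (congrArg Subtype.val huv)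
        refine Subtype.ext (inv_mul_eq_one.1 (hfix _ (K.mul_mem (K.inv_mem v.2) u.2) q hq hq1 ?_)).symm
        calc q * ((v : ↥N ⧸ Subgroup.center ↥N)⁻¹ * u) = (v : ↥N ⧸ Subgroup.center ↥N)⁻¹ *
              ((v : ↥N ⧸ Subgroup.center ↥N) * q * (v : ↥N ⧸ Subgroup.center ↥N)⁻¹) * u := by group
          _ = (v : ↥N ⧸ Subgroup.center ↥N)⁻¹ *
              ((u : ↥N ⧸ Subgroup.center ↥N) * q * (u : ↥N ⧸ Subgroup.center ↥N)⁻¹) * u := by rw [h1]
          _ = _ := by group
      obtain ⟨u, hu⟩ := (Finite.injective_iff_surjective.1 hinj) ⟨k, hk⟩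
      have h1 : (u : ↥N ⧸ Subgroup.center ↥N) * q * (u : ↥N ⧸ Subgroup.center ↥N)⁻¹ * q⁻¹ = k := congrArg Subtype.val hu
      refine hw (u : ↥N ⧸ Subgroup.center ↥N) ?_
      rw [Subgroup.mem_pointwise_smul_iff_inv_smul_mem, ← MulAut.conj.map_inv, MulAut.smul_def, MulAut.conj_apply,
        inv_inv, ← h1]
      convert hq using 1
      group

end Cfsg.Agent.S3905
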