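import Cfsg.Statements.S3908
import Cfsg.Agent.PGroups.OrderSquare

set_option autoImplicit false
open Cfsg

namespace Cfsg.Agent.S3908

/-- Let G be a finite group in which any two abelian subgroups of the same order are conjugate. Then a Sylow 2-subgroup of G is cyclic, elementary abelian or generalized quaternion, and for an odd prime p a Sylow p-subgroup of G is cyclic or has exponent dividing p. -/
theorem result {G : Type*} [Group G] [Finite G] (hB : ∀ A B : Subgroup G, IsMulCommutative ↥A → IsMulCommutative ↥B → Nat.card ↥A = Nat.card ↥B → ∃ g : G, B = A.map (MulAut.conj g).toMonoidHom) :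
    (∀ P : Sylow 2 G, IsCyclic ↥(P : Subgroup G) ∨ Cfsg.IsElementaryAbelian 2 (P : Subgroup G) ∨ ∃ k : ℕ, Nonempty (↥(P : Subgroup G) ≃* QuaternionGroup (2 ^ k))) ∧
    ∀ (p : ℕ) [Fact p.Prime], p ≠ 2 → ∀ P : Sylow p G, IsCyclic ↥(P : Subgroup G) ∨ ∀ x ∈ (P : Subgroup G), x ^ p = 1 := by
  have key : ∀ (p : ℕ) [Fact p.Prime] (P : Sylow p G), IsCyclic ↥(P : Subgroup G) ∨
      (p = 2 ∧ ∃ k : ℕ, Nonempty (↥(P : Subgroup G) ≃* QuaternionGroup (2 ^ k))) ∨ ∀ g : ↥(P : Subgroup G), g ^ p = 1 :=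
    fun p _ P => Cfsg.Lib.OrderSquare.trichotomy P.isPGroup'
      (Cfsg.Lib.OrderSquare.hyp_of_conj (P : Subgroup G) fun A B hA hB₂ h1 h2 => hB A B hA hB₂ (h1.trans h2.symm))
  refine ⟨fun P => ?_, fun p _ hp P => ?_⟩
  · rcases key 2 P with h | ⟨-, h⟩ | h
    · exact Or.inl h
    · exact Or.inr (Or.inr h)
    · exact Or.inr (Or.inl ⟨⟨⟨Cfsg.Lib.OrderSquare.comm_of_exp_two h⟩⟩, fun x hx => congrArg Subtype.val (h ⟨x, hx⟩)⟩)
  · rcases key p P with h | ⟨h2, -⟩ | h
    · exact Or.inl h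
    · exact absurd h2 hp
    · exact Or.inr fun x hx => congrArg Subtype.val (h ⟨x, hx⟩)

end Cfsg.Agent.S3908
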