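import Cfsg.Statements.S3909


set_option autoImplicit false
open Cfsg

namespace Cfsg.Agent.S3909

/-- Let G be a finite group in which any two abelian subgroups of the same order are conjugate. Let M be a normal subgroup of G. If M contains an element of the same order as a ∈ G, then a ∈ M; and if M is elementary abelian of order p^t with p prime and t ≥ 2, then M is the unique Sylow p-subgroup of G. -/
theorem result {G : Type*} [Group G] [Finite G] (hB : ∀ A B : Subgroup G, IsMulCommutative ↥A → IsMulCommutative ↥B → Nat.card ↥A = Nat.card ↥B → ∃ g : G, B = A.map (MulAut.conj g).toMonoidHom) (M : Subgroup G) [M.Normal] :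
    (∀ a : G, (∃ m ∈ M, orderOf m = orderOf a) → a ∈ M) ∧
    ∀ (p t : ℕ) [Fact p.Prime], 2 ≤ t → Nat.card ↥M = p ^ t → Cfsg.IsElementaryAbelian p M → ∀ P : Sylow p G, (P : Subgroup G) = M := by
  have hfirst : ∀ a : G, (∃ m ∈ M, orderOf m = orderOf a) → a ∈ M := by
    rintro a ⟨m, hm, ho⟩
    obtain ⟨g, hg⟩ := hB (Subgroup.zpowers m) (Subgroup.zpowers a) inferInstance inferInstance
      (by rw [Nat.card_zpowers, Nat.card_zpowers, ho])
    have ha : a ∈ (Subgroup.zpowers m).map (MulAut.conj g).toMonoidHom := hg ▸ Subgroup.mem_zpowers a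
    obtain ⟨z, hz, rfl⟩ := ha
    exact (inferInstance : M.Normal).conj_mem z ((Subgroup.zpowers_le.mpr hm) hz) g
  refine ⟨hfirst, fun p t _ ht hcard hel P => ?_⟩
  have hp : p.Prime := Fact.out
  have pM : IsPGroup p M := IsPGroup.of_card hcard
  obtain ⟨Q, hQ⟩ := pM.exists_le_sylow
  obtain ⟨g, hg⟩ := MulAction.exists_smul_eq G Q P
  have hMP : M ≤ (P : Subgroup G) := by
    rw [← hg, Sylow.coe_subgroup_smul]
    intro x hx
    refine ⟨g⁻¹ * x * g, hQ ?_, ?_⟩
    · have h := (inferInstance : M.Normal).conj_mem x hx g⁻¹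
      rwa [inv_inv] at h
    · show g * (g⁻¹ * x * g) * g⁻¹ = x
      group
  have hexpM : ∀ m ∈ M, m ^ p = 1 := hel.2
  have hpd : p ∣ Nat.card M := by rw [hcard]; exact dvd_pow_self p (by omega)
  obtain ⟨m, hm⟩ := exists_prime_orderOf_dvd_card' p hpd
  have hordp : ∀ x : G, orderOf x = p → x ∈ M := fun x hx =>
    hfirst x ⟨m, m.2, by rw [Subgroup.orderOf_coe, hm, hx]⟩
  refine le_antisymm (fun x hx => ?_) hMP
  obtain ⟨k, hk⟩ := IsPGroup.iff_orderOf.mp P.2 ⟨x, hx⟩
  rw [Subgroup.orderOf_mk] at hk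
  rcases Nat.lt_or_ge k 2 with hk2 | hk2
  · rcases Nat.eq_zero_or_pos k with rfl | hk0
    · rw [pow_zero, orderOf_eq_one_iff] at hk
      exact hk ▸ M.one_mem
    · exact hordp x (by rw [hk, show k = 1 by omega, pow_one])
  exfalso
  let y := x ^ p ^ (k - 2)
  have hy : orderOf y = p ^ 2 := by
    rw [orderOf_pow' _ (pow_ne_zero _ hp.ne_zero), hk, Nat.gcd_eq_right (pow_dvd_pow p (Nat.sub_le k 2)),
      Nat.pow_div (Nat.sub_le k 2) hp.pos, show k - (k - 2) = 2 by omega]
  have : Fact p.Prime := ⟨hp⟩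
  obtain ⟨V, hV⟩ := Sylow.exists_subgroup_card_pow_prime (G := M) p (n := 2) (hcard ▸ pow_dvd_pow p ht)
  have hcomm : ∀ u v : M, u * v = v * u := fun u v => hel.1.is_comm.comm u v
  obtain ⟨g, hg⟩ := hB (V.map M.subtype) (Subgroup.zpowers y)
    ⟨⟨fun u v => by
      obtain ⟨_, a, ha, rfl⟩ := u
      obtain ⟨_, b, hb, rfl⟩ := v
      exact Subtype.ext (show (a : G) * b = b * a from congrArg (fun w : M => (w : G)) (hcomm a b))⟩⟩ inferInstance
    (by rw [Subgroup.card_map_of_injective M.subtype_injective, hV, Nat.card_zpowers, hy])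
  have hy' : y ∈ (V.map M.subtype).map (MulAut.conj g).toMonoidHom := hg ▸ Subgroup.mem_zpowers y
  obtain ⟨z, ⟨w, -, rfl⟩, hz⟩ := hy'
  have hdvd : orderOf y ∣ p := orderOf_dvd_of_pow_eq_one (by
    rw [← hz, ← map_pow]
    rw [show (M.subtype w) ^ p = 1 from hexpM w w.2, map_one])
  rw [hy] at hdvd
  have := Nat.le_of_dvd hp.pos hdvd
  have := hp.two_le
  nlinarith

end Cfsg.Agent.S3909
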