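import Cfsg.Statements.S3910
import Cfsg.Agent.SolvStruct.NilpotentHall
import Cfsg.Agent.Transfer.FrobeniusApps

set_option autoImplicit false
open Cfsg

namespace Cfsg.Agent.S3910

/-- A finite nilpotent group in which any two abelian subgroups of the same order are conjugate is cyclic. -/
theorem result {G : Type*} [Group G] [Finite G] (hB : ∀ A B : Subgroup G, IsMulCommutative ↥A → IsMulCommutative ↥B → Nat.card ↥A = Nat.card ↥B → ∃ g : G, B = A.map (MulAut.conj g).toMonoidHom) (hnil : Group.IsNilpotent G) : IsCyclic G := by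
  classical
  have hE : Monoid.exponent G ≠ 0 := Monoid.exponent_ne_zero_of_finite
  obtain ⟨x, hx⟩ : ∃ x : G, orderOf x = Monoid.exponent G := by
    have key : ∀ s : Finset ℕ, (∀ p ∈ s, p.Prime) →
        ∃ x : G, orderOf x = ∏ p ∈ s, p ^ (Monoid.exponent G).factorization p := by
      intro s
      induction s using Finset.induction_on with
      | empty => exact fun _ => ⟨1, by simp⟩
      | @insert p s hps ih =>
        intro hs
        obtain ⟨x, hx⟩ := ih fun q hq => hs q (Finset.mem_insert_of_mem hq)
        have hp := hs p (Finset.mem_insert_self p s)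
        obtain ⟨g, hg⟩ := Nat.Prime.exists_orderOf_eq_pow_factorization_exponent G hp
        have hcop : (orderOf g).Coprime (orderOf x) := by
          rw [hg, hx]
          refine Nat.Coprime.prod_right fun q hq => ?_
          exact Nat.Coprime.pow _ _ ((Nat.coprime_primes hp (hs q (Finset.mem_insert_of_mem hq))).mpr
            (fun e => hps (e ▸ hq)))
        have hc : Commute g x := by
          refine Commute.symm ?_
          suffices hle : Subgroup.zpowers x ≤ Subgroup.centralizer ({g} : Set G) from
            Subgroup.mem_centralizer_singleton_iff.mp (hle (Subgroup.mem_zpowers x))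
          refine Cfsg.Lib.Transfer.le_of_forall_prime_pow fun y hy r k hr hk => ?_
          have := Fact.mk hp
          have := Fact.mk hr
          by_cases hk0 : k = 0
          · rw [hk0, pow_zero, orderOf_eq_one_iff] at hk
            rw [hk]; exact Subgroup.one_mem _
          have hrp : r ≠ p := by
            rintro rfl
            have h1 : r ∣ orderOf x := ((dvd_pow_self r hk0).trans (dvd_of_eq hk.symm)).trans
              ((Subgroup.orderOf_dvd_natCard _ hy).trans (dvd_of_eq (Nat.card_zpowers x)))
            rw [hx] at h1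
            obtain ⟨q, hq, hq'⟩ := hr.prime.exists_mem_finset_dvd h1
            have := (Nat.prime_dvd_prime_iff_eq hr (hs q (Finset.mem_insert_of_mem hq))).mp (hr.dvd_of_dvd_pow hq')
            exact hps (this ▸ hq)
          exact Subgroup.mem_centralizer_singleton_iff.mpr
            (Cfsg.Lib.SolvStruct.commute_of_coprime_of_nilpotent hrp ⟨k, hk⟩ ⟨_, hg⟩).eq
        exact ⟨g * x, by rw [hc.orderOf_mul_eq_mul_orderOf_of_coprime hcop, Finset.prod_insert hps, hg, hx]⟩
    obtain ⟨x, hx⟩ := key (Monoid.exponent G).primeFactors fun p hp => Nat.prime_of_mem_primeFactors hp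
    exact ⟨x, hx.trans (Nat.prod_factorization_pow_eq_self hE)⟩
  by_cases htop : Subgroup.zpowers x = ⊤
  · exact isCyclic_iff_exists_zpowers_eq_top.mpr ⟨x, htop⟩
  obtain ⟨M, hM, hxM⟩ := (eq_top_or_exists_le_coatom _).resolve_left htop
  have htfae : Group.IsNilpotent G ↔ ∀ H : Subgroup G, IsCoatom H → H.Normal :=
    (Group.isNilpotent_of_finite_tfae (G := G)).out 0 2
  have hMn : M.Normal := htfae.mp hnil M hM
  exfalso
  refine hM.1 (eq_top_iff.mpr fun y _ => ?_)
  have hd : orderOf y ∣ orderOf x := hx.symm ▸ Monoid.order_dvd_exponent y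
  have hoz : orderOf (x ^ (orderOf x / orderOf y)) = orderOf y := orderOf_pow_orderOf_div (orderOf_pos x).ne' hd
  obtain ⟨g, hg⟩ := hB (Subgroup.zpowers (x ^ (orderOf x / orderOf y))) (Subgroup.zpowers y)
    inferInstance inferInstance (by rw [Nat.card_zpowers, Nat.card_zpowers, hoz])
  have hy : y ∈ (Subgroup.zpowers (x ^ (orderOf x / orderOf y))).map (MulAut.conj g).toMonoidHom :=
    hg ▸ Subgroup.mem_zpowers y
  obtain ⟨w, hw, rfl⟩ := hy
  exact hMn.conj_mem w ((Subgroup.zpowers_le.mpr (M.pow_mem (hxM (Subgroup.mem_zpowers x)) _)) hw) g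

end Cfsg.Agent.S3910
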