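import Cfsg.Statements.S3911
import Cfsg.Agent.Frobenius.UniqueSubgroup

set_option autoImplicit false
open Cfsg

namespace Cfsg.Agent.S3911

open Subgroup
open scoped commutatorElement

variable {G : Type*} [Group G] [Finite G]

/-- Containment of subgroups of a cyclic group by order. -/
lemma le_of_card_dvd {Q a b : Subgroup G} (hQ : IsCyclic Q) (ha : a ≤ Q) (hb : b ≤ Q)
    (h : Nat.card a ∣ Nat.card b) : a ≤ b := by
  classical
  intro x hx
  have := Fintype.ofFinite Q
  have hx' : (⟨x, ha hx⟩ : Q) ^ Nat.card b = 1 := by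
    apply Subtype.ext
    show x ^ Nat.card b = 1
    obtain ⟨c, hc⟩ := h
    rw [hc, pow_mul, show x ^ Nat.card a = 1 from
      congrArg Subtype.val (pow_card_eq_one' (x := (⟨x, hx⟩ : a))), one_pow]
  let S : Finset Q := Finset.univ.filter (fun y : Q => (y : G) ∈ b)
  let T : Finset Q := Finset.univ.filter (fun y : Q => y ^ Nat.card b = 1)
  have hST : S ⊆ T := by
    intro y hy
    simp only [S, T, Finset.mem_filter, Finset.mem_univ, true_and] at hy ⊢
    apply Subtype.ext
    show (y : G) ^ Nat.card b = 1
    exact congrArg Subtype.val (pow_card_eq_one' (x := (⟨y.1, hy⟩ : b)))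
  have hS : S.card = Nat.card b := by
    rw [← Fintype.card_subtype, ← Nat.card_eq_fintype_card]
    exact Nat.card_congr
      { toFun := fun y => ⟨y.1.1, y.2⟩
        invFun := fun y => ⟨⟨y.1, hb y.2⟩, y.2⟩
        left_inv := fun _ => rfl
        right_inv := fun _ => rfl }
  have hT : T.card ≤ Nat.card b := IsCyclic.card_pow_eq_one_le Nat.card_pos
  have := Finset.eq_of_subset_of_card_le hST (hS ▸ hT)
  have hmem : (⟨x, ha hx⟩ : Q) ∈ S := by rw [this]; simp [T, hx']
  simpa [S] using hmem

/-- If `q` divides both `|M|` and `|G : M|`, a Sylow `q`-subgroup of `G` is cyclic. -/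
lemma sylow_cyclic (hB : ∀ A B : Subgroup G, IsMulCommutative ↥A → IsMulCommutative ↥B →
      Nat.card ↥A = Nat.card ↥B → ∃ g : G, B = A.map (MulAut.conj g).toMonoidHom)
    (M : Subgroup G) [M.Normal] (hM : Odd (Nat.card M)) {q : ℕ} [hq : Fact q.Prime]
    (hqM : q ∣ Nat.card M) (hqi : q ∣ M.index) (Q : Sylow q G) : IsCyclic (Q : Subgroup G) := by
  have hq2 : q ≠ 2 := by
    rintro rfl
    exact (Nat.not_even_iff_odd.2 hM) (even_iff_two_dvd.2 hqM)
  obtain ⟨m, hm⟩ := exists_prime_orderOf_dvd_card' (G := M) q hqM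
  -- all elements of order q lie in M
  have hqel : ∀ x : G, orderOf x = q → x ∈ M := by
    intro x hx
    obtain ⟨g, hg⟩ := hB (zpowers (m : G)) (zpowers x) inferInstance inferInstance
      (by rw [Nat.card_zpowers, Nat.card_zpowers, hx, Subgroup.orderOf_coe, hm])
    have hxm : x ∈ (zpowers (m : G)).map (MulAut.conj g).toMonoidHom := hg ▸ mem_zpowers x
    obtain ⟨y, hy, rfl⟩ := mem_map.1 hxm
    exact Subgroup.Normal.conj_mem ‹M.Normal› y ((zpowers_le.2 m.2) hy) g
  by_contra hnc
  -- otherwise there are two independent elements of order q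
  have hnu : ¬ ∀ x y : (Q : Subgroup G), orderOf x = q → orderOf y = q → y ∈ zpowers x := fun h =>
    (Cfsg.Lib.UniqueSub.isCyclic_or_quaternion Q.isPGroup' h).elim hnc (fun h2 => hq2 h2.1)
  push_neg at hnu
  obtain ⟨x, y, hx, hy, hxy⟩ := hnu
  have : Nontrivial (Q : Subgroup G) :=
    ⟨⟨x, 1, fun e => hq.out.one_lt.ne (by rw [← hx, e, orderOf_one])⟩⟩
  haveI := Q.isPGroup'.center_nontrivial
  obtain ⟨k, hk0, hk⟩ := (Q.isPGroup'.to_subgroup (Subgroup.center (Q : Subgroup G))).nontrivial_iff_card.mp inferInstance
  obtain ⟨⟨z, hzc⟩, hz⟩ := exists_prime_orderOf_dvd_card' (G := Subgroup.center (Q : Subgroup G)) q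
    (by rw [hk]; exact dvd_pow_self q (by omega))
  rw [Subgroup.orderOf_mk] at hz
  obtain ⟨w, hw, hwz⟩ : ∃ w : (Q : Subgroup G), orderOf w = q ∧ w ∉ zpowers z := by
    by_cases h1 : x ∈ zpowers z
    · refine ⟨y, hy, fun h2 => hxy ?_⟩
      have : zpowers x = zpowers z := eq_of_le_of_card_ge (zpowers_le.2 h1)
        (by rw [Nat.card_zpowers, Nat.card_zpowers, hx, hz])
      rwa [this]
    · exact ⟨x, hx, h1⟩
  let Z : Subgroup G := zpowers (z : G)
  let W : Subgroup G := zpowers (w : G)
  have hzw : Commute (z : G) (w : G) :=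
    (congrArg Subtype.val (mem_center_iff.1 hzc w)).symm
  let E : Subgroup G := closure {(z : G), (w : G)}
  have hEc : IsMulCommutative E := by
    apply Subgroup.isMulCommutative_closure
    rintro a (rfl | rfl) b (rfl | rfl)
    · rfl
    · exact hzw.eq
    · exact hzw.eq.symm
    · rfl
  have hzE : (z : G) ∈ E := subset_closure (by simp)
  have hwE : (w : G) ∈ E := subset_closure (by simp)
  have hexp : ∀ e ∈ E, e ^ q = 1 := by
    intro e he
    induction he using closure_induction with
    | mem a ha =>
      rcases ha with rfl | rfl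
      · have := pow_orderOf_eq_one z; rw [hz] at this; exact_mod_cast this
      · have := pow_orderOf_eq_one w; rw [hw] at this; exact_mod_cast this
    | one => simp
    | mul a b ha hb iha ihb =>
      have hc : Commute a b := congrArg Subtype.val (hEc.is_comm.comm ⟨a, ha⟩ ⟨b, hb⟩)
      rw [hc.mul_pow, iha, ihb, one_mul]
    | inv a _ iha => rw [inv_pow, iha, inv_one]
  have hEq : q ^ 2 ∣ Nat.card E := by
    have hEp : IsPGroup q E := fun e => ⟨1, Subtype.ext (by simpa using hexp e.1 e.2)⟩
    obtain ⟨n, hn⟩ := IsPGroup.iff_card.1 hEp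
    rw [hn]
    refine pow_dvd_pow q ?_
    by_contra hlt
    have hle : Nat.card E ≤ q := by
      rw [hn]; calc q ^ n ≤ q ^ 1 := Nat.pow_le_pow_right hq.out.pos (by omega)
        _ = q := pow_one q
    have hZE : Z = E := eq_of_le_of_card_ge (zpowers_le.2 hzE)
      (by rw [Nat.card_zpowers, Subgroup.orderOf_coe, hz]; exact hle)
    obtain ⟨j, hj⟩ := mem_zpowers_iff.1 (show (w : G) ∈ Z from hZE ▸ hwE)
    exact hwz (mem_zpowers_iff.2 ⟨j, Subtype.ext (by simpa using hj)⟩)
  obtain ⟨E2, hE2⟩ := Sylow.exists_subgroup_card_pow_prime (G := E) q hEq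
  have hexpQ : ∀ a ∈ (Q : Subgroup G), a ^ q = 1 := by
    intro a ha
    obtain ⟨k, hk⟩ := IsPGroup.iff_orderOf.1 Q.isPGroup' ⟨a, ha⟩
    rw [Subgroup.orderOf_mk] at hk
    by_contra hne
    have hk2 : 2 ≤ k := by
      by_contra hlt
      refine hne (orderOf_dvd_iff_pow_eq_one.1 ?_)
      rw [hk]
      exact (pow_dvd_pow q (show k ≤ 1 by omega)).trans (by simp)
    have hb : orderOf (a ^ q ^ (k - 2)) = q ^ 2 := by
      rw [orderOf_pow' a (pow_ne_zero _ hq.out.ne_zero), hk,
        Nat.gcd_eq_right (pow_dvd_pow q (by omega)), Nat.pow_div (by omega) hq.out.pos]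
      congr 1
      omega
    have hE2c : IsMulCommutative (E2.map E.subtype) := by
      refine ⟨⟨fun u v => ?_⟩⟩
      apply Subtype.ext
      have := congrArg Subtype.val (hEc.is_comm.comm ⟨u.1, map_subtype_le E2 u.2⟩ ⟨v.1, map_subtype_le E2 v.2⟩)
      simpa using this
    obtain ⟨g, hg⟩ := hB (E2.map E.subtype) (zpowers (a ^ q ^ (k - 2))) hE2c inferInstance
      (by rw [Nat.card_zpowers, hb, card_map_of_injective E.subtype_injective, hE2])
    have hmem : a ^ q ^ (k - 2) ∈ (E2.map E.subtype).map (MulAut.conj g).toMonoidHom :=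
      hg ▸ mem_zpowers _
    obtain ⟨e, he, hee⟩ := mem_map.1 hmem
    have h1 : (a ^ q ^ (k - 2)) ^ q = 1 := by
      rw [← hee, ← map_pow, hexp e (map_subtype_le E2 he), map_one]
    have h2 := orderOf_dvd_of_pow_eq_one h1
    rw [hb] at h2
    have := Nat.le_of_dvd hq.out.pos h2
    nlinarith [hq.out.one_lt]
  -- hence the Sylow subgroup lies in M
  have hQM : (Q : Subgroup G) ≤ M := by
    intro a ha
    rcases eq_or_ne a 1 with rfl | h1
    · exact one_mem _
    · exact hqel a (orderOf_eq_prime (hexpQ a ha) h1)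
  exact Q.not_dvd_index (hqi.trans (Subgroup.index_dvd_of_le hQM))

/-- Abelian lifts of controlled order. -/
lemma exists_lift (hB : ∀ A B : Subgroup G, IsMulCommutative ↥A → IsMulCommutative ↥B →
      Nat.card ↥A = Nat.card ↥B → ∃ g : G, B = A.map (MulAut.conj g).toMonoidHom)
    (M : Subgroup G) [M.Normal] (hM : Odd (Nat.card M)) (A : Subgroup (G ⧸ M))
    (hA : IsMulCommutative A) :
    ∃ L : Subgroup G, L.map (QuotientGroup.mk' M) = A ∧ IsMulCommutative L ∧
      ∀ q : ℕ, (Nat.card L).factorization q = (Nat.card A).factorization q +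
        (if q ∣ Nat.card A then (Nat.card M).factorization q else 0) := by
  classical
  set π := QuotientGroup.mk' M with hπ
  have hsurj : Function.Surjective π := QuotientGroup.mk'_surjective M
  obtain ⟨L, -, hL⟩ := (wellFounded_lt (α := Subgroup G)).has_min
    {L : Subgroup G | L.map π = A} ⟨A.comap π, map_comap_eq_self_of_surjective hsurj A⟩ |>
      fun ⟨L, h1, h2⟩ => (⟨L, trivial, h1, h2⟩ : ∃ L : Subgroup G, True ∧ L.map π = A ∧
        ∀ L' ∈ {L : Subgroup G | L.map π = A}, ¬ L' < L)
  obtain ⟨hLA, hmin⟩ := hL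
  let φ : L →* G ⧸ M := π.comp L.subtype
  have hrange : φ.range = A := by rw [MonoidHom.range_comp, range_subtype, hLA]
  have hker : ∀ x : L, x ∈ φ.ker ↔ (x : G) ∈ M := fun x => by
    simp [φ, π, MonoidHom.mem_ker]
  -- the kernel lies in every maximal subgroup
  have hco : ∀ K : Subgroup L, IsCoatom K → φ.ker ≤ K := by
    intro K hK
    by_contra hle
    have htop : K ⊔ φ.ker = ⊤ := hK.2 _ (lt_of_le_of_ne le_sup_left (fun e => hle (e ▸ le_sup_right)))
    have hmap : (K.map L.subtype).map π = A := by
      rw [map_map, ← hrange, MonoidHom.range_eq_map, ← htop, Subgroup.map_sup,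
        (Subgroup.map_eq_bot_iff φ.ker).2 le_rfl, sup_bot_eq]
    refine hmin _ hmap (lt_of_le_of_ne (map_subtype_le K) fun e => hK.1 ?_)
    apply Subgroup.map_injective L.subtype_injective
    rw [e, ← MonoidHom.range_eq_map, range_subtype]
  have hcomm : commutator L ≤ φ.ker := by
    rw [commutator_def, Subgroup.commutator_le]
    intro a _ b _
    have hab := congrArg Subtype.val (hA.is_comm.comm ⟨φ a, hrange ▸ ⟨a, rfl⟩⟩ ⟨φ b, hrange ▸ ⟨b, rfl⟩⟩)
    rw [MonoidHom.mem_ker, map_commutatorElement, commutatorElement_eq_one_iff_commute]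
    exact hab
  have hnil : Group.IsNilpotent L := by
    refine ((Group.isNilpotent_of_finite_tfae (G := L)).out 0 2).2 fun K hK => ?_
    exact @Subgroup.Normal.of_commutator_le _ _ K (hcomm.trans (hco K hK))
  have hcardL : Nat.card L = Nat.card φ.ker * Nat.card A := by
    rw [← hrange, ← Subgroup.index_ker φ, Subgroup.card_mul_index]
  have hkerdvd : Nat.card φ.ker ∣ Nat.card M :=
    Subgroup.card_dvd_of_injective
      (f := ({ toFun := fun x => ⟨x.1.1, (hker x.1).1 x.2⟩
               map_one' := rfl
               map_mul' := fun _ _ => rfl } : φ.ker →* M))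
      (fun x y h => Subtype.ext (Subtype.ext (Subtype.mk.inj h)))
  have hAidx : Nat.card A ∣ M.index := Subgroup.card_subgroup_dvd_card A
  -- local statement at each prime
  have hloc : ∀ q : ℕ, ∀ _ : Fact q.Prime,
      (Nat.card φ.ker).factorization q =
        (if q ∣ Nat.card A then (Nat.card M).factorization q else 0) ∧
      ∀ R : Sylow q L, IsMulCommutative (R : Subgroup L) := by
    intro q hq
    have hRn : ∀ R : Sylow q L, (R : Subgroup L).Normal := fun R => inferInstance
    by_cases hqA : q ∣ Nat.card A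
    · rw [if_pos hqA]
      by_cases hqM : q ∣ Nat.card M
      · have hcyc : ∀ R : Sylow q L, IsCyclic (R : Subgroup L) := by
          intro R
          obtain ⟨Q, hQ⟩ := (R.isPGroup'.map L.subtype).exists_le_sylow
          have := sylow_cyclic hB M hM hqM (hqA.trans hAidx) Q
          exact isCyclic_of_injective
            ((Subgroup.inclusion hQ).comp ((R : Subgroup L).equivMapOfInjective L.subtype L.subtype_injective).toMonoidHom)
            ((Subgroup.inclusion_injective hQ).comp (MulEquiv.injective _))
        refine ⟨?_, fun R => by have := hcyc R; exact IsCyclic.isMulCommutative⟩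
        refine le_antisymm ((Nat.factorization_le_iff_dvd Nat.card_pos.ne' Nat.card_pos.ne').2 hkerdvd q) ?_
        let R : Sylow q L := default
        obtain ⟨Q, hQ⟩ := (R.isPGroup'.map L.subtype).exists_le_sylow
        have hQc := sylow_cyclic hB M hM hqM (hqA.trans hAidx) Q
        -- R is not contained in the kernel
        have hRk : ¬ ((R : Subgroup L).map L.subtype ≤ M) := by
          intro h
          have hle : (R : Subgroup L) ≤ φ.ker := fun r hr => (hker r).2 (h ⟨r, hr, rfl⟩)
          have h1 := (Nat.factorization_le_iff_dvd Nat.card_pos.ne' Nat.card_pos.ne').2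
            (Subgroup.card_dvd_of_le hle) q
          rw [R.card_eq_multiplicity, Nat.Prime.factorization_pow hq.out, Finsupp.single_eq_same,
            hcardL, Nat.factorization_mul Nat.card_pos.ne' Nat.card_pos.ne', Finsupp.add_apply] at h1
          have := hq.out.factorization_pos_of_dvd Nat.card_pos.ne' hqA
          omega
        let QM : Subgroup G := (Q : Subgroup G) ⊓ M
        let R' : Subgroup G := (R : Subgroup L).map L.subtype
        have hsub : QM ≤ R' := by
          obtain ⟨a, ha⟩ := IsPGroup.iff_card.1 (Q.isPGroup'.to_le (inf_le_left : QM ≤ Q))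
          obtain ⟨b, hb⟩ := IsPGroup.iff_card.1 (R.isPGroup'.map L.subtype)
          rcases le_total a b with hab | hab
          · exact le_of_card_dvd hQc inf_le_left hQ (by rw [ha, hb]; exact pow_dvd_pow q hab)
          · exact absurd ((le_of_card_dvd hQc hQ inf_le_left (by rw [ha, hb]; exact pow_dvd_pow q hab)).trans inf_le_right) hRk
        have hd : Nat.card QM ∣ Nat.card φ.ker := by
          have hle : QM.subgroupOf L ≤ φ.ker := fun r hr => (hker r).2 (mem_subgroupOf.1 hr).2
          have := Subgroup.card_dvd_of_le hle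
          rwa [Nat.card_congr (subgroupOfEquivOfLe (hsub.trans (map_subtype_le _))).toEquiv] at this
        have hQM : (Nat.card M).factorization q ≤ (Nat.card QM).factorization q := by
          have hQcard : Nat.card (Q : Subgroup G) = Nat.card QM * Nat.card ((Q : Subgroup G).map π) := by
            have h1 := Subgroup.card_mul_index (π.comp (Q : Subgroup G).subtype).ker
            rw [Subgroup.index_ker, MonoidHom.range_comp, range_subtype] at h1
            rw [← h1]
            congr 1
            refine Nat.card_congr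
              { toFun := fun x => ⟨x.1.1, x.1.2, ?_⟩
                invFun := fun x => ⟨⟨x.1, x.2.1⟩, ?_⟩
                left_inv := fun _ => rfl
                right_inv := fun _ => rfl }
            · exact (QuotientGroup.eq_one_iff _).1 (MonoidHom.mem_ker.1 x.2)
            · simpa [π, MonoidHom.mem_ker] using x.2.2
          have h1 := congrArg (fun n => n.factorization q) hQcard
          simp only [Nat.factorization_mul Nat.card_pos.ne' Nat.card_pos.ne', Finsupp.add_apply,
            Q.card_eq_multiplicity, Nat.Prime.factorization_pow hq.out, Finsupp.single_eq_same] at h1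
          have h2 : (Nat.card G).factorization q =
              (Nat.card M).factorization q + M.index.factorization q := by
            rw [← Subgroup.card_mul_index M, Nat.factorization_mul Nat.card_pos.ne'
              Subgroup.index_ne_zero_of_finite, Finsupp.add_apply]
          have h3 := (Nat.factorization_le_iff_dvd Nat.card_pos.ne' (Subgroup.index_ne_zero_of_finite (H := M))).2
            (Subgroup.card_subgroup_dvd_card ((Q : Subgroup G).map π)) q
          omega
        exact hQM.trans ((Nat.factorization_le_iff_dvd Nat.card_pos.ne' Nat.card_pos.ne').2 hd q)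
      · have hqk : ¬ q ∣ Nat.card φ.ker := fun h => hqM (h.trans hkerdvd)
        refine ⟨by rw [Nat.factorization_eq_zero_of_not_dvd hqk, Nat.factorization_eq_zero_of_not_dvd hqM], ?_⟩
        intro R
        refine ⟨⟨fun a b => ?_⟩⟩
        have hd : (R : Subgroup L) ⊓ φ.ker = ⊥ := by
          apply disjoint_iff.1
          exact Subgroup.disjoint_of_coprime_natCard (by
            obtain ⟨n, hn⟩ := IsPGroup.iff_card.1 R.isPGroup'
            rw [hn]; exact (hq.out.coprime_iff_not_dvd.2 hqk).pow_left n)
        have hmem : (⁅(a : L), (b : L)⁆) ∈ (R : Subgroup L) ⊓ φ.ker :=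
          ⟨by rw [commutatorElement_def]; exact (R : Subgroup L).mul_mem ((R : Subgroup L).mul_mem ((R : Subgroup L).mul_mem a.2 b.2) ((R : Subgroup L).inv_mem a.2)) ((R : Subgroup L).inv_mem b.2),
            hcomm (commutator_mem_commutator (mem_top _) (mem_top _))⟩
        rw [hd, mem_bot, commutatorElement_eq_one_iff_commute] at hmem
        exact Subtype.ext hmem
    · rw [if_neg hqA]
      have hRbot : ∀ R : Sylow q L, (R : Subgroup L) = ⊥ := by
        intro R
        have := hRn R
        have hle : (R : Subgroup L) ≤ φ.ker := by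
          intro r hr
          obtain ⟨n, hn⟩ := IsPGroup.iff_orderOf.1 R.isPGroup' ⟨r, hr⟩
          rw [Subgroup.orderOf_mk] at hn
          have h1 : orderOf (φ r) ∣ q ^ n := hn ▸ orderOf_map_dvd φ r
          have h2 : orderOf (φ r) ∣ Nat.card A :=
            Subgroup.orderOf_dvd_natCard _ (hrange ▸ ⟨r, rfl⟩)
          have h3 := Nat.dvd_gcd h1 h2
          rw [((hq.out.coprime_iff_not_dvd.2 hqA).pow_left n).gcd_eq_one, Nat.dvd_one, orderOf_eq_one_iff] at h3
          exact h3
        obtain ⟨C, hC⟩ := Subgroup.exists_right_complement'_of_coprime (N := (R : Subgroup L))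
          (by exact R.card_coprime_index)
        rcases eq_top_or_exists_le_coatom C with rfl | ⟨K, hK, hCK⟩
        · exact Subgroup.isComplement'_top_right.1 hC
        · exfalso
          exact hK.1 (top_le_iff.1 (hC.sup_eq_top ▸ sup_le (hle.trans (hco K hK)) hCK))
      refine ⟨?_, fun R => ⟨⟨fun a b => ?_⟩⟩⟩
      · apply Nat.factorization_eq_zero_of_not_dvd
        intro h
        let R : Sylow q L := default
        have h1 := R.card_eq_multiplicity
        rw [show (↑R : Subgroup L) = ⊥ from hRbot R, Subgroup.card_bot] at h1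
        have h2 := hq.out.factorization_pos_of_dvd Nat.card_pos.ne' (h.trans (hcardL ▸ Dvd.intro _ rfl))
        rcases Nat.pow_eq_one.1 h1.symm with h3 | h3
        · exact hq.out.one_lt.ne' h3
        · omega
      · have ha : (a : L) = 1 := by
          have h : (a : L) ∈ (R : Subgroup L) := a.2
          exact Subgroup.mem_bot.1 ((SetLike.ext_iff.1 (hRbot R) _).1 h)
        have hb : (b : L) = 1 := by
          have h : (b : L) ∈ (R : Subgroup L) := b.2
          exact Subgroup.mem_bot.1 ((SetLike.ext_iff.1 (hRbot R) _).1 h)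
        exact Subtype.ext (by simp [ha, hb])
  refine ⟨L, hLA, ?_, fun q => ?_⟩
  · obtain ⟨e⟩ := ((Group.isNilpotent_of_finite_tfae (G := L)).out 0 4).1 hnil
    refine ⟨⟨fun a b => e.symm.injective ?_⟩⟩
    rw [map_mul, map_mul]
    funext p P
    have : Fact (p : ℕ).Prime := ⟨Nat.prime_of_mem_primeFactors p.2⟩
    exact ((hloc p this).2 P).is_comm.comm _ _
  · by_cases hq : q.Prime
    · rw [hcardL, Nat.factorization_mul Nat.card_pos.ne' Nat.card_pos.ne', Finsupp.add_apply,
        (hloc q ⟨hq⟩).1, add_comm]
    · simp [Nat.factorization_eq_zero_of_not_prime _ hq]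

/-- Let G be a finite group in which any two abelian subgroups of the same order are conjugate. If M is a normal subgroup of G of odd order, then any two abelian subgroups of G/M of the same order are conjugate in G/M. -/
theorem result {G : Type*} [Group G] [Finite G] (hB : ∀ A B : Subgroup G, IsMulCommutative ↥A → IsMulCommutative ↥B → Nat.card ↥A = Nat.card ↥B → ∃ g : G, B = A.map (MulAut.conj g).toMonoidHom) (M : Subgroup G) [M.Normal] (hM : Odd (Nat.card ↥M)) :
    ∀ A B : Subgroup (G ⧸ M), IsMulCommutative ↥A → IsMulCommutative ↥B → Nat.card ↥A = Nat.card ↥B →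
      ∃ g : G ⧸ M, B = A.map (MulAut.conj g).toMonoidHom := by
  intro A B hA hBc hcard
  obtain ⟨LA, hLA, hcA, hfA⟩ := exists_lift hB M hM A hA
  obtain ⟨LB, hLB, hcB, hfB⟩ := exists_lift hB M hM B hBc
  have heq : Nat.card LA = Nat.card LB :=
    Nat.eq_of_factorization_eq Nat.card_pos.ne' Nat.card_pos.ne'
      (fun q => by rw [hfA, hfB, hcard])
  obtain ⟨g, hg⟩ := hB LA LB hcA hcB heq
  refine ⟨QuotientGroup.mk' M g, ?_⟩
  rw [← hLA, ← hLB, hg, Subgroup.map_map, Subgroup.map_map]
  congr 1

end Cfsg.Agent.S3911
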