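import Cfsg.Statements.S3912
import Mathlib
import Cfsg.Prelude
import Cfsg.Agent.Coprime.Hall
import Cfsg.Agent.Coprime.SolvableBasics

set_option autoImplicit false
set_option linter.style.haveILetI false
set_option linter.unusedSectionVars false

namespace Cfsg.Agent.S3912

open Subgroup
open scoped commutatorElement

universe u

variable {G : Type u} [Group G] [Finite G]

def BProp (G : Type u) [Group G] : Prop :=
  ∀ A B : Subgroup G, IsMulCommutative ↥A → IsMulCommutative ↥B → Nat.card ↥A = Nat.card ↥B →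
    ∃ g : G, B = A.map (MulAut.conj g).toMonoidHom

theorem comm_of_forall {A : Subgroup G} (h : ∀ a ∈ A, ∀ b ∈ A, a * b = b * a) : IsMulCommutative ↥A :=
  ⟨⟨fun a b => Subtype.ext (h a a.2 b b.2)⟩⟩

theorem comm_apply {A : Subgroup G} (h : IsMulCommutative ↥A) {a b : G} (ha : a ∈ A) (hb : b ∈ A) :
    a * b = b * a := congrArg Subtype.val (h.is_comm.comm ⟨a, ha⟩ ⟨b, hb⟩)

theorem conj_zpowers (hB : BProp G) {x y : G} (h : orderOf x = orderOf y) :
    ∃ g : G, zpowers y = (zpowers x).map (MulAut.conj g).toMonoidHom :=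
  hB _ _ inferInstance inferInstance (by rw [Nat.card_zpowers, Nat.card_zpowers, h])

theorem mem_of_order_eq (hB : BProp G) (M : Subgroup G) [M.Normal] {x y : G}
    (h : orderOf x = orderOf y) (hx : x ∈ M) : y ∈ M := by
  obtain ⟨g, hg⟩ := conj_zpowers hB h
  have hy : y ∈ (zpowers x).map (MulAut.conj g).toMonoidHom := hg ▸ mem_zpowers y
  obtain ⟨w, hw, rfl⟩ := hy
  exact ‹M.Normal›.conj_mem w ((zpowers_le.2 hx) hw) g

variable {q : ℕ} [Fact q.Prime]

/-- the standing hypotheses on a minimal normal subgroup -/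
structure Setup (q : ℕ) (M : Subgroup G) : Prop where
  bp : BProp G
  pow : ∀ x ∈ M, x ^ q = 1
  all : ∀ x : G, x ^ q = 1 → x ∈ M
  ne : M ≠ ⊥
  pgroup : IsPGroup q ↥M
  comm : IsMulCommutative ↥M

theorem exists_order_sq {M : Subgroup G} (hS : Setup q M) {x : G} (hx : x ∉ M) {e : ℕ}
    (he : orderOf x = q ^ e) : ∃ k : ℕ, orderOf (x ^ k) = q ^ 2 := by
  have h2 : 2 ≤ e := by
    by_contra h
    refine hx (hS.all x (orderOf_dvd_iff_pow_eq_one.1 ?_))
    rw [he]
    calc q ^ e ∣ q ^ 1 := pow_dvd_pow q (by omega)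
      _ = q := pow_one q
  refine ⟨q ^ (e - 2), ?_⟩
  have hq := (Fact.out : q.Prime).pos
  have hd : q ^ (e - 2) ∣ orderOf x := by rw [he]; exact pow_dvd_pow q (by omega)
  rw [orderOf_pow, Nat.gcd_eq_right hd, he, Nat.pow_div (by omega) hq]
  congr 1; omega

/-- a `q`-group properly over `M` forces `M` to have prime order -/
theorem card_eq_of_lt {M : Subgroup G} [M.Normal] (hS : Setup q M) {P : Subgroup G}
    (hP : IsPGroup q ↥P) (hlt : M < P) : Nat.card M = q := by
  obtain ⟨x, hx, hxM⟩ := SetLike.exists_of_lt hlt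
  obtain ⟨e, he⟩ := IsPGroup.iff_orderOf.1 hP ⟨x, hx⟩
  rw [orderOf_mk] at he
  obtain ⟨k, hk⟩ := exists_order_sq hS hxM he
  obtain ⟨m, hm⟩ := hS.pgroup.exists_card_eq
  by_contra hne
  have hm2 : 2 ≤ m := by
    rcases (show m = 0 ∨ m = 1 ∨ 2 ≤ m by omega) with rfl | rfl | h
    · exact absurd (Subgroup.card_eq_one.1 (by simpa using hm)) hS.ne
    · exact absurd (by simpa using hm) hne
    · exact h
  obtain ⟨R, hR⟩ := Sylow.exists_subgroup_card_pow_prime (G := ↥M) q (n := 2)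
    (by rw [hm]; exact pow_dvd_pow q hm2)
  have hR' : Nat.card ↥(R.map M.subtype) = q ^ 2 :=
    (Nat.card_congr (R.equivMapOfInjective _ M.subtype_injective).toEquiv).symm.trans hR
  have hRc : IsMulCommutative ↥(R.map M.subtype) := by
    exact IsPGroup.isMulCommutative_of_card_eq_prime_sq (p := q) hR'
  obtain ⟨g, hg⟩ := hS.bp _ _ hRc (inferInstance : IsMulCommutative ↥(zpowers (x ^ k)))
    (by rw [hR', Nat.card_zpowers, hk])
  have hmem : x ^ k ∈ (R.map M.subtype).map (MulAut.conj g).toMonoidHom := hg ▸ mem_zpowers _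
  obtain ⟨w, ⟨w', -, rfl⟩, hw⟩ := hmem
  have hxk : x ^ k ∈ M := hw ▸ ‹M.Normal›.conj_mem _ w'.2 g
  have hd := orderOf_dvd_of_pow_eq_one (hS.pow _ hxk)
  rw [hk] at hd
  have h1 := Nat.le_of_dvd (Fact.out : q.Prime).pos hd
  have := (Fact.out : q.Prime).two_le
  nlinarith

theorem central_in {M : Subgroup G} [M.Normal] (hS : Setup q M) {P : Subgroup G}
    (hP : IsPGroup q ↥P) (hle : M ≤ P) (hcard : Nat.card M = q) :
    ∀ m ∈ M, ∀ x ∈ P, m * x = x * m := by
  set M' := M.subgroupOf P with hM'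
  have hc : Nat.card M' = q := (Nat.card_congr (Subgroup.subgroupOfEquivOfLe hle).toEquiv).trans hcard
  haveI : Nontrivial M' := Finite.one_lt_card_iff_nontrivial.1 (by rw [hc]; exact (Fact.out : q.Prime).one_lt)
  haveI : M'.Normal := Subgroup.Normal.subgroupOf inferInstance P
  haveI := hP.isNilpotent
  have h1 := Cfsg.Lib.Coprime.inf_center_ne_bot M' (fun h => by
    rw [h, Subgroup.card_bot] at hc; exact (Fact.out : q.Prime).one_lt.ne hc)
  have h2 : M' ≤ center ↥P := by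
    have hd : Nat.card ↥(M' ⊓ center ↥P) ∣ q := hc ▸ Subgroup.card_dvd_of_le inf_le_left
    rcases (Nat.dvd_prime (Fact.out : q.Prime)).1 hd with h | h
    · exact absurd (Subgroup.card_eq_one.1 h) h1
    · have := Subgroup.eq_of_le_of_card_ge (inf_le_left : M' ⊓ center ↥P ≤ M') (by rw [h, hc])
      exact this ▸ inf_le_right
  intro m hm x hx
  have h3 := mem_center_iff.1 (h2 (show (⟨m, hle hm⟩ : ↥P) ∈ M' from hm)) ⟨x, hx⟩
  exact (congrArg Subtype.val h3).symm

theorem coprime_fix {M : Subgroup G} [M.Normal] (hS : Setup q M) {P : Subgroup G}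
    (hP : IsPGroup q ↥P) (hlt : M < P) {l : G} (hl : (orderOf l).Coprime q)
    (hc : ∀ x ∈ P, ⁅l, x⁆ ∈ M) : ∀ x ∈ P, l * x = x * l := by
  have hq := card_eq_of_lt hS hP hlt
  have hcen := central_in hS hP hlt.le hq
  obtain ⟨x0, hx0, hx0M⟩ := SetLike.exists_of_lt hlt
  obtain ⟨e, he⟩ := IsPGroup.iff_orderOf.1 hP ⟨x0, hx0⟩
  rw [orderOf_mk] at he
  obtain ⟨k, hk⟩ := exists_order_sq hS hx0M he
  set y := x0 ^ k with hy
  have hyP : y ∈ P := pow_mem hx0 k
  have hyq : orderOf (y ^ q) = q := by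
    rw [orderOf_pow, hk, Nat.gcd_eq_right (dvd_pow_self q two_ne_zero), pow_two,
      Nat.mul_div_cancel _ (Fact.out : q.Prime).pos]
  have hyM : y ^ q ∈ M := hS.all _ (orderOf_dvd_iff_pow_eq_one.1 hyq.dvd)
  have hgen : zpowers (y ^ q) = M :=
    Subgroup.eq_of_le_of_card_ge (zpowers_le.2 hyM) (by rw [Nat.card_zpowers, hyq, hq])
  have hly : Commute l (y ^ q) := by
    have hconj : l * y * l⁻¹ = ⁅l, y⁆ * y := by rw [commutatorElement_def]; group
    have h1 : l * y ^ q * l⁻¹ = y ^ q := by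
      calc l * y ^ q * l⁻¹ = (MulAut.conj l) (y ^ q) := rfl
        _ = ((MulAut.conj l) y) ^ q := map_pow _ _ _
        _ = (⁅l, y⁆ * y) ^ q := by rw [MulAut.conj_apply, hconj]
        _ = ⁅l, y⁆ ^ q * y ^ q := (show Commute ⁅l, y⁆ y from hcen _ (hc y hyP) y hyP).mul_pow q
        _ = y ^ q := by rw [hS.pow _ (hc y hyP), one_mul]
    exact mul_inv_eq_iff_eq_mul.1 h1
  have hlM : ∀ m ∈ M, Commute l m := by
    intro m hm
    rw [← hgen, mem_zpowers_iff] at hm
    obtain ⟨j, rfl⟩ := hm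
    exact hly.zpow_right j
  intro x hx
  set m := ⁅l, x⁆ with hm
  have hmM : m ∈ M := hc x hx
  have hstep : ∀ n : ℕ, l ^ n * x = m ^ n * x * l ^ n := by
    intro n
    induction n with
    | zero => simp
    | succ n ih =>
      have h1 : l * x = m * x * l := by rw [hm, commutatorElement_def]; group
      calc l ^ (n + 1) * x = l * (l ^ n * x) := by rw [pow_succ', mul_assoc]
        _ = l * (m ^ n * x * l ^ n) := by rw [ih]
        _ = (l * m ^ n) * x * l ^ n := by group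
        _ = (m ^ n * l) * x * l ^ n := by rw [((hlM m hmM).pow_right n).eq]
        _ = m ^ n * (l * x) * l ^ n := by group
        _ = m ^ (n + 1) * x * l ^ (n + 1) := by rw [h1, pow_succ, pow_succ' l]; group
  have h2 : m ^ orderOf l = 1 := by
    have := hstep (orderOf l)
    rw [pow_orderOf_eq_one, one_mul, mul_one] at this
    exact mul_eq_right.1 this.symm
  have h3 : m ^ (Nat.gcd (orderOf l) q) = 1 := pow_gcd_eq_one.2 ⟨h2, hS.pow m hmM⟩
  rw [hl, pow_one] at h3
  exact commutatorElement_eq_one_iff_mul_comm.1 h3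

theorem mul_pow_class_two {a b z : G} (hab : b * a = z * (a * b)) (hza : Commute z a) (hzb : Commute z b) :
    ∀ n : ℕ, (a * b) ^ n = z ^ n.choose 2 * a ^ n * b ^ n := by
  have hba : ∀ n : ℕ, b ^ n * a = z ^ n * a * b ^ n := by
    intro n
    induction n with
    | zero => simp
    | succ n ih =>
      calc b ^ (n + 1) * a = b * (b ^ n * a) := by rw [pow_succ', mul_assoc]
        _ = (b * z ^ n) * a * b ^ n := by rw [ih]; group
        _ = z ^ n * (b * a) * b ^ n := by rw [← (hzb.pow_left n).eq]; group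
        _ = z ^ (n + 1) * a * b ^ (n + 1) := by rw [hab, pow_succ z, pow_succ' b]; group
  intro n
  induction n with
  | zero => simp
  | succ n ih =>
    calc (a * b) ^ (n + 1) = z ^ n.choose 2 * a ^ n * (b ^ n * a) * b := by rw [pow_succ, ih]; group
      _ = z ^ n.choose 2 * (a ^ n * z ^ n) * a * b ^ n * b := by rw [hba]; group
      _ = z ^ n.choose 2 * (z ^ n * a ^ n) * a * b ^ n * b := by rw [(hza.pow_pow n n).eq]
      _ = z ^ (n + 1).choose 2 * a ^ (n + 1) * b ^ (n + 1) := by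
        rw [Nat.choose_succ_succ', Nat.choose_one_right, add_comm n, pow_add, pow_succ, pow_succ]
        group

/-- structure of a nonabelian `q`-group with derived group in `M` -/
theorem nonabelian_facts {M : Subgroup G} [M.Normal] (hS : Setup q M) {P : Subgroup G}
    (hP : IsPGroup q ↥P) (hle : M ≤ P) (hd : ∀ x ∈ P, ∀ y ∈ P, ⁅x, y⁆ ∈ M)
    (hna : ¬ IsMulCommutative ↥P) :
    q = 2 ∧ Nat.card P = 8 ∧
    (∀ x ∈ P, x ∉ M → orderOf x = 4) ∧
    (∀ a ∈ P, ∀ b ∈ P, a * b ≠ b * a → ∀ y ∈ P,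
      y ∈ M ∨ a⁻¹ * y ∈ M ∨ b⁻¹ * y ∈ M ∨ (a * b)⁻¹ * y ∈ M) ∧
    (∀ x ∈ P, x ∉ M → ∃ y ∈ P, x * y ≠ y * x) ∧
    (∀ m ∈ M, ∀ x ∈ P, m * x = x * m) := by
  have hlt : M < P := lt_of_le_of_ne hle fun h => hna (h ▸ hS.comm)
  have hp := (Fact.out : q.Prime)
  have hMq := card_eq_of_lt hS hP hlt
  have hcen := central_in hS hP hle hMq
  set Z := (center ↥P).map P.subtype with hZdef
  have hZP : Z ≤ P := map_subtype_le _
  have hZc : ∀ z ∈ Z, ∀ x ∈ P, z * x = x * z := by
    rintro _ ⟨z, hz, rfl⟩ x hx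
    exact (congrArg Subtype.val (mem_center_iff.1 hz ⟨x, hx⟩)).symm
  have hZmem : ∀ z ∈ P, (∀ x ∈ P, z * x = x * z) → z ∈ Z := fun z hz h =>
    ⟨⟨z, hz⟩, mem_center_iff.2 fun x => Subtype.ext (h x x.2).symm, rfl⟩
  have hMZ : M ≤ Z := fun m hm => hZmem m (hle hm) (hcen m hm)
  have hzero : ∀ x ∈ P, ∀ y ∈ P, x * y ≠ y * x → ⁅x, y⁆ ≠ 1 := fun x _ y _ h hh =>
    h (commutatorElement_eq_one_iff_mul_comm.1 hh)
  have hord : ∀ x ∈ P, ∃ e, orderOf x = q ^ e := by
    intro x hx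
    obtain ⟨e, he⟩ := IsPGroup.iff_orderOf.1 hP ⟨x, hx⟩
    exact ⟨e, by rw [← he, orderOf_mk]⟩
  -- `q`-th powers are central
  have hpowZ : ∀ x ∈ P, x ^ q ∈ Z := by
    intro x hx
    refine hZmem _ (pow_mem hx q) fun y hy => ?_
    have hyx : y * x * y⁻¹ = ⁅y, x⁆ * x := by rw [commutatorElement_def]; group
    have h1 : y * x ^ q * y⁻¹ = x ^ q := by
      calc y * x ^ q * y⁻¹ = (MulAut.conj y) (x ^ q) := rfl
        _ = ((MulAut.conj y) x) ^ q := map_pow _ _ _
        _ = (⁅y, x⁆ * x) ^ q := by rw [MulAut.conj_apply, hyx]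
        _ = ⁅y, x⁆ ^ q * x ^ q :=
            (show Commute ⁅y, x⁆ x from hcen _ (hd y hy x hx) x hx).mul_pow q
        _ = x ^ q := by rw [hS.pow _ (hd y hy x hx), one_mul]
    exact (mul_inv_eq_iff_eq_mul.1 h1).symm
  -- the centre is cyclic
  obtain ⟨w, hw, hwmax⟩ := Set.exists_max_image (Z : Set G) orderOf (Set.toFinite _) ⟨1, one_mem Z⟩
  obtain ⟨ew, hew⟩ := hord w (hZP hw)
  have hew1 : 1 ≤ ew := by
    by_contra h
    obtain ⟨⟨m, hm⟩, hm1'⟩ := Subgroup.ne_bot_iff_exists_ne_one.1 hS.ne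
    have hm1 : m ≠ 1 := fun h => hm1' (Subtype.ext h)
    have h1 := hwmax m (hMZ hm)
    rw [hew, show ew = 0 by omega, pow_zero] at h1
    exact hm1 (orderOf_eq_one_iff.1 (le_antisymm h1 (orderOf_pos m)))
  set z := w ^ q ^ (ew - 1) with hz
  have hzq : orderOf z = q := by
    rw [hz, orderOf_pow, hew, Nat.gcd_eq_right (pow_dvd_pow q (Nat.sub_le ew 1)),
      Nat.pow_div (Nat.sub_le ew 1) hp.pos, show ew - (ew - 1) = 1 by omega, pow_one]
  have hzM : z ∈ M := hS.all z (orderOf_dvd_iff_pow_eq_one.1 hzq.dvd)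
  have hMw : M ≤ zpowers w := by
    have h : zpowers z = M :=
      Subgroup.eq_of_le_of_card_ge (zpowers_le.2 hzM) (by rw [Nat.card_zpowers, hzq, hMq])
    rw [← h, zpowers_le]
    exact pow_mem (mem_zpowers w) _
  have hroot : ∀ b ∈ Z, b ^ q ∈ zpowers w → b ∈ zpowers w := by
    intro b hb hbq
    by_cases hbm : b ^ q = 1
    · exact hMw (hS.all b hbm)
    obtain ⟨j, hj⟩ := mem_zpowers_iff.1 hbq
    by_cases hdvd : (q : ℤ) ∣ j
    · obtain ⟨c, rfl⟩ := hdvd
      have hcm : Commute b (w ^ (-c)) := (show Commute b w from hZc b hb w (hZP hw)).zpow_right _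
      have h1 : (b * w ^ (-c)) ^ q = 1 := by
        rw [hcm.mul_pow, ← hj, ← zpow_natCast (w ^ (-c)) q, ← zpow_mul, ← zpow_add]
        simp [mul_comm]
      have h2 := mul_mem (hMw (hS.all _ h1)) (zpow_mem (mem_zpowers w) c)
      simpa using h2
    · exfalso
      obtain ⟨eb, heb⟩ := hord b (hZP hb)
      have hcop : IsCoprime (j : ℤ) ((q ^ ew : ℕ) : ℤ) := by
        push_cast
        exact (IsCoprime.pow_left ((Nat.prime_iff_prime_int.1 hp).coprime_iff_not_dvd.2 hdvd)).symm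
      have heb1 : 1 ≤ eb := by
        by_contra h
        apply hbm
        rw [show b = 1 from orderOf_eq_one_iff.1 (by rw [heb, show eb = 0 by omega, pow_zero]), one_pow]
      have h1 : orderOf (b ^ q) = orderOf w := by
        apply Nat.dvd_antisymm
        · exact orderOf_dvd_of_mem_zpowers hbq
        · apply orderOf_dvd_of_mem_zpowers
          obtain ⟨s, t, hst⟩ := hcop
          rw [mem_zpowers_iff]
          refine ⟨s, ?_⟩
          rw [← hj, ← zpow_mul]
          conv_rhs => rw [← zpow_one w, ← hst, zpow_add, zpow_mul' w t, zpow_natCast, ← hew,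
            pow_orderOf_eq_one, one_zpow, mul_one]
          rw [mul_comm]
      have h2 := hwmax b hb
      rw [orderOf_pow, heb, Nat.gcd_eq_right (dvd_pow_self q (by omega : eb ≠ 0)), hew] at h1
      rw [heb, hew, ← h1] at h2
      exact absurd h2 (not_le.2 (Nat.div_lt_self (pow_pos hp.pos _) hp.one_lt))
  have hZw : ∀ b ∈ Z, b ∈ zpowers w := by
    have key : ∀ e : ℕ, ∀ b ∈ Z, b ^ q ^ e = 1 → b ∈ zpowers w := by
      intro e
      induction e with
      | zero => intro b _ hb; simp only [pow_zero, pow_one] at hb; subst hb; exact one_mem _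
      | succ e ih =>
        intro b hb h
        refine hroot b hb (ih _ (pow_mem hb q) ?_)
        rw [← pow_mul, ← pow_succ']; exact h
    intro b hb
    obtain ⟨e, he⟩ := hord b (hZP hb)
    exact key e b hb (by rw [← he]; exact pow_orderOf_eq_one b)
  have hexp : ∀ a ∈ P, a ∉ Z → ∃ i : ℤ, a ^ q = w ^ i ∧ ¬ (q : ℤ) ∣ i := by
    intro a ha haZ
    obtain ⟨i, hi⟩ := mem_zpowers_iff.1 (hZw _ (hpowZ a ha))
    refine ⟨i, hi.symm, fun ⟨c, hc⟩ => haZ ?_⟩
    have hcm : Commute a (w ^ (-c)) := (show Commute a w from (hZc w hw a ha).symm).zpow_right _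
    have h1 : (a * w ^ (-c)) ^ q = 1 := by
      rw [hcm.mul_pow, ← hi, hc, ← zpow_natCast (w ^ (-c)) q, ← zpow_mul, ← zpow_add]
      simp [mul_comm]
    have h2 := mul_mem (hMZ (hS.all _ h1)) (zpow_mem hw c)
    simpa using h2
  have hnc : ∀ a ∈ P, ∀ b ∈ P, a * b ≠ b * a → a ∉ Z ∧ b ∉ Z := fun a ha b hb h =>
    ⟨fun hh => h (hZc a hh b hb), fun hh => h (hZc b hh a ha).symm⟩
  obtain ⟨a₀, ha₀, b₀, hb₀, hab₀⟩ : ∃ a ∈ P, ∃ b ∈ P, a * b ≠ b * a := by
    by_contra h
    push Not at h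
    exact hna (comm_of_forall h)
  obtain ⟨i, hi, hiq⟩ := hexp a₀ ha₀ (hnc _ ha₀ _ hb₀ hab₀).1
  obtain ⟨j, hj, hjq⟩ := hexp b₀ hb₀ (hnc _ ha₀ _ hb₀ hab₀).2
  have hform : ∀ a ∈ P, ∀ b ∈ P, ∀ n : ℕ, (a * b) ^ n = ⁅b, a⁆ ^ n.choose 2 * a ^ n * b ^ n := by
    intro a ha b hb
    refine mul_pow_class_two ?_ (hcen _ (hd b hb a ha) a ha) (hcen _ (hd b hb a ha) b hb)
    rw [commutatorElement_def]; group
  have hq2 : q = 2 := by
    by_contra hodd
    have hch : q ∣ q.choose 2 := hp.dvd_choose_self two_ne_zero (lt_of_le_of_ne hp.two_le (Ne.symm hodd))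
    have hcop : IsCoprime (j : ℤ) (q : ℤ) := ((Nat.prime_iff_prime_int.1 hp).coprime_iff_not_dvd.2 hjq).symm
    obtain ⟨s, t, hst⟩ := hcop
    set b := b₀ ^ (-(s * i)) with hb
    have hbP : b ∈ P := zpow_mem hb₀ _
    have hab : (a₀ * b) * b₀ ≠ b₀ * (a₀ * b) := by
      intro h
      apply hab₀
      have hbb : Commute b b₀ := (Commute.refl b₀).zpow_left _
      have h2 : a₀ * b₀ * b = b₀ * a₀ * b := by rw [mul_assoc, ← hbb.eq, ← mul_assoc, h, mul_assoc]
      exact mul_right_cancel h2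
    obtain ⟨k, hk, hkq⟩ := hexp (a₀ * b) (mul_mem ha₀ hbP) (hnc _ (mul_mem ha₀ hbP) _ hb₀ hab).1
    have h1 : (a₀ * b) ^ q = w ^ ((q : ℤ) * (t * i)) := by
      rw [hform a₀ ha₀ b hbP]
      obtain ⟨c, hc⟩ := hch
      rw [hc, pow_mul, hS.pow _ (hd b hbP a₀ ha₀), one_pow, one_mul, hi, hb,
        ← zpow_natCast (b₀ ^ (-(s * i))) q, ← zpow_mul, mul_comm (-(s * i)), zpow_mul, zpow_natCast, hj,
        ← zpow_mul, ← zpow_add]
      congr 1
      linear_combination -i * hst
    have h2 : w ^ k = w ^ ((q : ℤ) * (t * i)) := hk.symm.trans h1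
    rw [zpow_eq_zpow_iff_modEq, hew] at h2
    exact hkq ((Int.modEq_zero_iff_dvd).1 ((Int.ModEq.of_dvd (by push_cast; exact dvd_pow_self _ (by omega)) h2).trans
      (Int.modEq_zero_iff_dvd.2 (dvd_mul_right _ _))))
  subst hq2
  have hew' : ew = 1 := by
    by_contra h
    have hab : (a₀ * b₀) * b₀ ≠ b₀ * (a₀ * b₀) := by
      intro hh
      apply hab₀
      have h2 : a₀ * b₀ * b₀ = b₀ * a₀ * b₀ := by rw [hh, mul_assoc]
      exact mul_right_cancel h2
    obtain ⟨k, hk, hkq⟩ := hexp (a₀ * b₀) (mul_mem ha₀ hb₀) (hnc _ (mul_mem ha₀ hb₀) _ hb₀ hab).1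
    obtain ⟨r, hr⟩ := mem_zpowers_iff.1 (hMw (hd b₀ hb₀ a₀ ha₀))
    have hr2 : (2 : ℤ) ∣ r := by
      have h1 := hS.pow _ (hd b₀ hb₀ a₀ ha₀)
      rw [← hr, ← zpow_natCast (w ^ r) 2, ← zpow_mul, ← orderOf_dvd_iff_zpow_eq_one, hew] at h1
      have h2 : ((2 ^ 2 : ℕ) : ℤ) ∣ r * (2 : ℕ) :=
        (Int.natCast_dvd_natCast.2 (pow_dvd_pow 2 (show 2 ≤ ew by omega))).trans h1
      push_cast at h2
      omega
    have h1 : (a₀ * b₀) ^ 2 = w ^ (r + i + j) := by
      rw [hform a₀ ha₀ b₀ hb₀, Nat.choose_self, pow_one, hi, hj, ← hr, ← zpow_add, ← zpow_add]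
    have h2 : w ^ k = w ^ (r + i + j) := hk.symm.trans h1
    rw [zpow_eq_zpow_iff_modEq, hew] at h2
    have h3 : k ≡ r + i + j [ZMOD 2] := Int.ModEq.of_dvd (by push_cast; exact dvd_pow_self _ (by omega)) h2
    unfold Int.ModEq at h3
    push_cast at hiq hjq hkq
    omega
  have hZM : ∀ x ∈ P, (∀ y ∈ P, x * y = y * x) → x ∈ M := by
    intro x hx h
    obtain ⟨c, hc⟩ := mem_zpowers_iff.1 (hZw x (hZmem x hx h))
    refine hS.all x ?_
    rw [← hc, ← zpow_natCast (w ^ c) 2, ← zpow_mul, mul_comm, zpow_mul, zpow_natCast]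
    have : w ^ 2 = 1 := by
      have h4 := pow_orderOf_eq_one w
      rwa [hew, hew', pow_one] at h4
    rw [this, one_zpow]
  have hord4 : ∀ x ∈ P, x ∉ M → orderOf x = 4 := by
    intro x hx hxM
    have h2 : x ^ 2 ≠ 1 := fun h => hxM (hS.all x h)
    have h4 : (x ^ 2) ^ 2 = 1 := hS.pow _ (by
      refine hZM _ (pow_mem hx 2) fun y hy => ?_
      exact hZc _ (hpowZ x hx) y hy)
    have hd4 : orderOf x ∣ 2 ^ 2 := orderOf_dvd_of_pow_eq_one (by rw [← pow_mul] at h4; exact h4)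
    rcases (Nat.dvd_prime_pow Nat.prime_two).1 hd4 with ⟨e, he, hxe⟩
    rcases (show e = 0 ∨ e = 1 ∨ e = 2 by omega) with rfl | rfl | rfl
    · exact absurd (orderOf_eq_one_iff.1 (by simpa using hxe) ▸ one_mem M) hxM
    · exact absurd (by simpa [hxe] using pow_orderOf_eq_one x) h2
    · simpa using hxe
  -- two commuting elements outside `M` agree modulo `M`
  have hpair : ∀ x ∈ P, ∀ y ∈ P, x ∉ M → y ∉ M → x * y = y * x → x⁻¹ * y ∈ M := by
    intro x hx y hy hxM hyM h
    have e : ∀ u ∈ P, u ∉ M → u ^ 2 = z := by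
      intro u hu huM
      have h1 : u ^ 2 ∈ M := hS.all _ (by
        rw [← pow_mul, show 2 * 2 = orderOf u from (hord4 u hu huM).symm, pow_orderOf_eq_one])
      have hMz : zpowers z = M :=
        Subgroup.eq_of_le_of_card_ge (zpowers_le.2 hzM) (by rw [Nat.card_zpowers, hzq, hMq])
      rw [← hMz, mem_zpowers_iff] at h1
      obtain ⟨c, hc⟩ := h1
      rcases Int.even_or_odd c with ⟨d, rfl⟩ | ⟨d, rfl⟩
      · exfalso
        rw [← two_mul, zpow_mul, zpow_ofNat, hS.pow z hzM, one_zpow] at hc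
        exact huM (hS.all u hc.symm)
      · rw [← hc, zpow_add, zpow_mul, zpow_ofNat, hS.pow z hzM, one_zpow, one_mul, zpow_one]
    refine hS.all _ ?_
    rw [(show Commute x⁻¹ y from (show Commute x y from h).inv_left).mul_pow, inv_pow, e x hx hxM, e y hy hyM,
      inv_mul_cancel]
  have hcov : ∀ a ∈ P, ∀ b ∈ P, a * b ≠ b * a → ∀ y ∈ P,
      y ∈ M ∨ a⁻¹ * y ∈ M ∨ b⁻¹ * y ∈ M ∨ (a * b)⁻¹ * y ∈ M := by
    intro a ha b hb hab y hy
    have haM : a ∉ M := fun h => hab (hcen a h b hb)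
    have hbM : b ∉ M := fun h => hab (hcen b h a ha).symm
    by_cases hyM : y ∈ M
    · exact Or.inl hyM
    by_cases hya : a * y = y * a
    · exact Or.inr (Or.inl (hpair a ha y hy haM hyM hya))
    by_cases hyb : b * y = y * b
    · exact Or.inr (Or.inr (Or.inl (hpair b hb y hy hbM hyM hyb)))
    refine Or.inr (Or.inr (Or.inr (hpair _ (mul_mem ha hb) y hy ?_ hyM ?_)))
    · intro h
      apply hab
      exact mul_left_cancel (((hcen _ h a ha).symm.trans (mul_assoc a b a)) : a * (a * b) = a * (b * a))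
    · -- both commutators are the involution of `M`
      have htwo : ∀ u ∈ M, u ≠ 1 → u = z := by
        intro u hu hu1
        obtain ⟨v, -, hv⟩ := (Nat.card_eq_two_iff' (⟨1, one_mem M⟩ : ↥M)).1 hMq
        have h1 := hv ⟨u, hu⟩ (fun h => hu1 (congrArg Subtype.val h))
        have h2 := hv ⟨z, hzM⟩ (fun h => by
          have : z = 1 := congrArg Subtype.val h
          rw [this, orderOf_one] at hzq; omega)
        exact congrArg Subtype.val (h1.trans h2.symm)
      have e1 : ⁅a, y⁆ = z := htwo _ (hd a ha y hy) (fun h => hya (commutatorElement_eq_one_iff_mul_comm.1 h))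
      have e2 : ⁅b, y⁆ = z := htwo _ (hd b hb y hy) (fun h => hyb (commutatorElement_eq_one_iff_mul_comm.1 h))
      rw [← commutatorElement_eq_one_iff_mul_comm, commutatorElement_mul_left_eq_conj_mul, e1, e2,
        (hcen z hzM a ha).symm]
      calc z * a * a⁻¹ * z = z ^ 2 := by rw [pow_two]; group
        _ = 1 := hS.pow z hzM
  refine ⟨rfl, ?_, hord4, hcov, ?_, hcen⟩
  · obtain ⟨e, he⟩ := hP.exists_card_eq
    have hge : 3 ≤ e := by
      by_contra h
      apply hna
      rcases (show e = 0 ∨ e = 1 ∨ e = 2 by omega) with rfl | rfl | rfl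
      · haveI : Subsingleton ↥P := (Nat.card_eq_one_iff_unique.1 (by simpa using he)).1
        exact ⟨⟨fun a b => Subsingleton.elim _ _⟩⟩
      · haveI := isCyclic_of_prime_card (p := 2) (by simpa using he)
        infer_instance
      · exact IsPGroup.isMulCommutative_of_card_eq_prime_sq (p := 2) he
    have hle8 : Nat.card P ≤ 8 := by
      classical
      let f : Fin 4 × ↥M → G := fun t => ![1, a₀, b₀, a₀ * b₀] t.1 * (t.2 : G)
      have hsub : (P : Set G) ⊆ Set.range f := by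
        intro y hy
        rcases hcov a₀ ha₀ b₀ hb₀ hab₀ y hy with h | h | h | h
        · exact ⟨(0, ⟨y, h⟩), by simp [f]⟩
        · exact ⟨(1, ⟨_, h⟩), by simp [f]⟩
        · exact ⟨(2, ⟨_, h⟩), by simp [f]⟩
        · exact ⟨(3, ⟨_, h⟩), by simp [f, mul_assoc]⟩
      calc Nat.card P ≤ Nat.card (Set.range f) := Nat.card_mono (Set.toFinite _) hsub
        _ ≤ Nat.card (Fin 4 × ↥M) := Finite.card_range_le f
        _ = 8 := by rw [Nat.card_prod, Nat.card_fin, hMq]
    rw [he] at hle8 ⊢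
    have : e ≤ 3 := by
      by_contra h
      have := Nat.pow_le_pow_right (show 0 < 2 by norm_num) (show 4 ≤ e by omega)
      omega
    rw [show e = 3 by omega]; norm_num
  · intro x hx hxM
    by_contra h
    push Not at h
    exact hxM (hZM x hx h)

theorem sylow_eq_eight {M : Subgroup G} [M.Normal] [Group.IsSolvable G] (hS : Setup 2 M) {P : Subgroup G}
    (hP : IsPGroup 2 ↥P) (hle : M ≤ P) (hd : ∀ x ∈ P, ∀ y ∈ P, ⁅x, y⁆ ∈ M)
    (hna : ¬ IsMulCommutative ↥P) (S : Sylow 2 G) (hPS : P ≤ S) : (S : Subgroup G) = P := by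
  obtain ⟨-, h8, hord4, hcov, hncen, hcen⟩ := nonabelian_facts hS hP hle hd hna
  by_contra hne
  obtain ⟨s, hs⟩ := S.isPGroup'.exists_card_eq
  have hlt : P < S := lt_of_le_of_ne hPS (Ne.symm hne)
  have hs4 : 2 ^ 4 ∣ Nat.card ↥(S : Subgroup G) := by
    rw [hs]
    apply pow_dvd_pow
    by_contra h
    have h1 : Nat.card P < Nat.card ↥(S : Subgroup G) :=
      lt_of_le_of_ne (Subgroup.card_le_of_le hPS) fun h2 => hlt.ne (Subgroup.eq_of_le_of_card_ge hPS h2.ge)
    rw [hs, h8] at h1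
    have := Nat.pow_le_pow_right (show 0 < 2 by norm_num) (show s ≤ 3 by omega)
    omega
  obtain ⟨Q, hQ, hPQ⟩ := Sylow.exists_subgroup_card_pow_succ (G := G) (p := 2) (n := 3)
    (hs4.trans (Subgroup.card_subgroup_dvd_card _)) (H := P) (by rw [h8]; norm_num)
  have hQp : IsPGroup 2 ↥Q := IsPGroup.of_card hQ
  have hMP : ∃ x ∈ P, x ∉ M := by
    by_contra h
    push Not at h
    exact hna (comm_of_forall fun a ha b hb => comm_apply hS.comm (h a ha) (h b hb))
  obtain ⟨a₀, ha₀, ha₀M⟩ := hMP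
  -- last derived subgroup containing elements of order four
  have hex : ∃ i, ∀ c : G, orderOf c = 4 → c ∉ derivedSeries G i := by
    obtain ⟨n, hn⟩ := ‹Group.IsSolvable G›.solvable
    exact ⟨n, fun c hc h => by rw [hn, mem_bot] at h; subst h; simp at hc⟩
  classical
  set j := Nat.find hex with hj
  have hjno := Nat.find_spec hex
  have hj0 : j ≠ 0 := fun h0 => by
    have := hjno a₀ (hord4 a₀ ha₀ ha₀M)
    rw [← hj, h0, derivedSeries_zero] at this
    exact this (mem_top _)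
  obtain ⟨i, hij⟩ := Nat.exists_eq_succ_of_ne_zero hj0
  have hall : ∀ c : G, orderOf c = 4 → c ∈ derivedSeries G i := by
    have h := Nat.find_min hex (show i < j by omega)
    push Not at h
    obtain ⟨c₀, hc₀, hc₀D⟩ := h
    intro c hc
    exact mem_of_order_eq hS.bp (derivedSeries G i) (hc₀.trans hc.symm) hc₀D
  have hPD : P ≤ derivedSeries G i := by
    intro m hm
    by_cases hmM : m ∈ M
    · have : m * a₀ ∉ M := fun h => ha₀M (by simpa using mul_mem (inv_mem hmM) h)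
      simpa using mul_mem (hall _ (hord4 _ (mul_mem (hle hmM) ha₀) this)) (inv_mem (hall a₀ (hord4 a₀ ha₀ ha₀M)))
    · exact hall m (hord4 m hm hmM)
  by_cases hQD : Q ≤ derivedSeries G i
  · have hdQ : ∀ x ∈ Q, ∀ y ∈ Q, ⁅x, y⁆ ∈ M := by
      intro x hx y hy
      have hD : ⁅x, y⁆ ∈ derivedSeries G (i + 1) := by
        rw [derivedSeries_succ]
        exact commutator_mem_commutator (hQD hx) (hQD hy)
      have hcQ : ⁅x, y⁆ ∈ Q := by
        rw [commutatorElement_def]
        exact mul_mem (mul_mem (mul_mem hx hy) (inv_mem hx)) (inv_mem hy)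
      by_contra hcM
      obtain ⟨e, he⟩ := IsPGroup.iff_orderOf.1 hQp ⟨_, hcQ⟩
      rw [orderOf_mk] at he
      obtain ⟨k, hk⟩ := exists_order_sq hS hcM he
      refine hjno _ (hk.trans (by norm_num)) ?_
      rw [← hj, hij]
      exact pow_mem hD k
    have hQna : ¬ IsMulCommutative ↥Q := fun h =>
      hna (comm_of_forall fun a ha b hb => comm_apply h (hPQ ha) (hPQ hb))
    have := (nonabelian_facts hS hQp (hle.trans hPQ) hdQ hQna).2.1
    rw [hQ] at this
    norm_num at this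
  · have hT : Q ⊓ derivedSeries G i = P := by
      refine (Subgroup.eq_of_le_of_card_ge (le_inf hPQ hPD) ?_).symm
      have hlt' : Q ⊓ derivedSeries G i < Q := lt_of_le_of_ne inf_le_left fun h => hQD (h ▸ inf_le_right)
      obtain ⟨t, -, ht⟩ := (Nat.dvd_prime_pow Nat.prime_two).1 (hQ ▸ Subgroup.card_dvd_of_le hlt'.le)
      have h1 : Nat.card ↥(Q ⊓ derivedSeries G i) < Nat.card Q :=
        lt_of_le_of_ne (Subgroup.card_le_of_le hlt'.le) fun h2 => hlt'.ne (Subgroup.eq_of_le_of_card_ge hlt'.le h2.ge)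
      rw [ht, hQ] at h1
      rw [ht, h8]
      have := (Nat.pow_lt_pow_iff_right (show 1 < 2 by norm_num)).1 h1
      calc 2 ^ t ≤ 2 ^ 3 := Nat.pow_le_pow_right (by norm_num) (by omega)
        _ = 8 := by norm_num
    have h4P : ∀ c ∈ Q, orderOf c = 4 → c ∈ P := fun c hc h => hT ▸ ⟨hc, hall c h⟩
    obtain ⟨x, hx, hxP⟩ := SetLike.not_le_iff_exists.1 fun h : Q ≤ P => hQD (h.trans hPD)
    have hx4 : ∀ c ∈ Q, c ∉ P → c ^ 4 ≠ 1 := by
      intro c hc hcP h4
      obtain ⟨e, he, hce⟩ := (Nat.dvd_prime_pow Nat.prime_two).1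
        (show orderOf c ∣ 2 ^ 2 from orderOf_dvd_of_pow_eq_one h4)
      rcases (show e ≤ 1 ∨ e = 2 by omega) with h | rfl
      · refine hcP (hle (hS.all c (orderOf_dvd_iff_pow_eq_one.1 ?_)))
        rw [hce]
        exact (pow_dvd_pow 2 h).trans (by simp)
      · exact hcP (h4P c hc (by simpa using hce))
    have hidx : ∀ c ∈ Q, c ^ 2 ∈ P := by
      intro c hc
      have hi2 : (P.subgroupOf Q).index = 2 := by
        have h1 : Nat.card (P.subgroupOf Q) = 8 :=
          (Nat.card_congr (Subgroup.subgroupOfEquivOfLe hPQ).toEquiv).trans h8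
        have h2 := (P.subgroupOf Q).card_mul_index
        rw [h1, hQ] at h2
        omega
      exact Subgroup.sq_mem_of_index_two hi2 ⟨c, hc⟩
    set a := x ^ 2 with ha
    have haP : a ∈ P := hidx x hx
    have haM : a ∉ M := fun h => hx4 x hx hxP (by
      rw [show 4 = 2 * 2 from rfl, pow_mul]; exact hS.pow _ h)
    obtain ⟨b, hb, hab⟩ := hncen a haP haM
    have hPn : (P.subgroupOf Q).Normal := by
      apply Subgroup.normal_of_index_eq_two
      have h1 : Nat.card (P.subgroupOf Q) = 8 :=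
        (Nat.card_congr (Subgroup.subgroupOfEquivOfLe hPQ).toEquiv).trans h8
      have h2 := (P.subgroupOf Q).card_mul_index
      rw [h1, hQ] at h2
      omega
    set b' := x * b * x⁻¹ with hb'
    have hb'P : b' ∈ P := hPn.conj_mem ⟨b, hPQ hb⟩ hb ⟨x, hx⟩
    have hxa : x * a * x⁻¹ = a := by rw [ha]; group
    have hab' : a * b' ≠ b' * a := by
      intro h
      apply hab
      have h1 : x * (a * b) * x⁻¹ = x * (b * a) * x⁻¹ := by
        calc x * (a * b) * x⁻¹ = (x * a * x⁻¹) * b' := by rw [hb']; group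
          _ = b' * (x * a * x⁻¹) := by rw [hxa, h]
          _ = x * (b * a) * x⁻¹ := by rw [hb']; group
      exact mul_left_cancel (mul_right_cancel h1)
    rcases hcov a haP b hb hab b' hb'P with h | h | h | h
    · exact hab' (hcen b' h a haP).symm
    · apply hab'
      have e : b' = a * (a⁻¹ * b') := by group
      have hc := hcen _ h a haP
      calc a * b' = a * (a * (a⁻¹ * b')) := by rw [← e]
        _ = a * ((a⁻¹ * b') * a) := by rw [hc]
        _ = a * (a⁻¹ * b') * a := by group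
        _ = b' * a := by rw [← e]
    · -- `x²` would centralise `b`
      apply hab
      have hm : (b⁻¹ * b') ^ 2 = 1 := hS.pow _ h
      have hcb : Commute x (b⁻¹ * b') := by
        have h1 : x * (b⁻¹ * b') * x⁻¹ ∈ M := ‹M.Normal›.conj_mem _ h x
        by_cases h0 : b⁻¹ * b' = 1
        · rw [h0]; exact Commute.one_right x
        · have hu := (Nat.card_eq_two_iff' (⟨1, one_mem M⟩ : ↥M)).1 (card_eq_of_lt hS hP (lt_of_le_of_ne hle fun he => haM (he ▸ haP)))
          have h2 := ExistsUnique.unique hu (y₁ := ⟨_, h1⟩) (y₂ := ⟨_, h⟩)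
            (fun he => h0 (by
              have he' : x * (b⁻¹ * b') * x⁻¹ = 1 := congrArg Subtype.val he
              exact mul_eq_left.1 (mul_inv_eq_one.1 he')))
            (fun he => h0 (congrArg Subtype.val he))
          exact mul_inv_eq_iff_eq_mul.1 (congrArg Subtype.val h2)
      have h3 : a * b * a⁻¹ = b := by
        calc a * b * a⁻¹ = x * b' * x⁻¹ := by rw [ha, hb', pow_two]; group
          _ = (x * b * x⁻¹) * (x * (b⁻¹ * b') * x⁻¹) := by group
          _ = b' * (b⁻¹ * b') := by rw [hcb.eq, hb']; group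
          _ = b * (b⁻¹ * b') ^ 2 := by rw [pow_two]; group
          _ = b := by rw [hm, mul_one]
      exact mul_inv_eq_iff_eq_mul.1 h3
    · -- `x b` would have order at most four
      refine hx4 (x * b) (mul_mem hx (hPQ hb)) (fun h' => hxP (by simpa using mul_mem h' (inv_mem hb))) ?_
      have e : (x * b) ^ 2 = b' * a * b := by rw [pow_two, hb', ha]; group
      have e2 : b' * a * b = (a * b) * ((a * b)⁻¹ * b') * (a * b) := by group
      have habM : (a * b) * (a * b) ∈ M := by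
        refine hS.all _ ?_
        have h5 : orderOf (a * b) = 4 := hord4 _ (mul_mem haP hb) fun h5 => hab (by
          have := hcen _ h5 a haP
          exact mul_left_cancel ((this.symm.trans (mul_assoc a b a)) : a * (a * b) = a * (b * a)))
        rw [← pow_two, ← pow_mul, show 2 * 2 = orderOf (a * b) from h5.symm, pow_orderOf_eq_one]
      have hm : (x * b) ^ 2 ∈ M := by
        rw [e, e2, mul_assoc, hcen _ h _ (mul_mem haP hb), ← mul_assoc]
        exact mul_mem habM h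
      rw [show 4 = 2 * 2 from rfl, pow_mul]
      exact hS.pow _ hm

/-- decomposition of a preimage of an abelian subgroup -/
theorem decompose {M : Subgroup G} [M.Normal] (hS : Setup q M) {X : Subgroup G} (hMX : M ≤ X)
    (hX : ∀ x ∈ X, ∀ y ∈ X, ⁅x, y⁆ ∈ M) :
    ∃ P L : Subgroup G, M ≤ P ∧ IsPGroup q ↥P ∧ P ⊔ L = X ∧ (∀ l ∈ L, (orderOf l).Coprime q) ∧
      IsMulCommutative ↥L ∧ Nat.card P = q ^ (Nat.card X).factorization q ∧
      Nat.card X = Nat.card P * Nat.card L := by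
  obtain ⟨S, hMS⟩ := (hS.pgroup.of_equiv (Subgroup.subgroupOfEquivOfLe hMX).symm).exists_le_sylow
  have hSn : (S : Subgroup ↥X).Normal := by
    refine ⟨fun s hs g => ?_⟩
    have h1 : ⁅g, s⁆ ∈ M.subgroupOf X := by
      rw [mem_subgroupOf]
      have := hX g g.2 s s.2
      simpa [commutatorElement_def] using this
    have e : g * s * g⁻¹ = ⁅g, s⁆ * s := by rw [commutatorElement_def]; group
    rw [e]
    exact mul_mem (hMS h1) hs
  haveI := hSn
  obtain ⟨K, hK⟩ := Subgroup.exists_right_complement'_of_coprime S.card_coprime_index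
  have hp := (Fact.out : q.Prime)
  have hKcop : (Nat.card K).Coprime q := by
    have h1 := S.card_coprime_index
    obtain ⟨s, hs⟩ := S.isPGroup'.exists_card_eq
    by_contra h
    have hqK : q ∣ Nat.card K := by
      rcases Nat.coprime_or_dvd_of_prime hp (Nat.card K) with h' | h'
      · exact absurd h'.symm h
      · exact h'
    have := S.not_dvd_index
    rw [hK.symm.index_eq_card] at this
    exact this hqK
  have hKl : ∀ l ∈ K.map X.subtype, (orderOf l).Coprime q := by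
    rintro _ ⟨l, hl, rfl⟩
    rw [orderOf_injective _ X.subtype_injective]
    refine Nat.Coprime.coprime_dvd_left ?_ hKcop
    rw [← orderOf_mk l hl]
    exact orderOf_dvd_natCard _
  refine ⟨(S : Subgroup ↥X).map X.subtype, K.map X.subtype, ?_, S.isPGroup'.map _, ?_, hKl, ?_, ?_, ?_⟩
  · intro m hm
    exact ⟨⟨m, hMX hm⟩, hMS hm, rfl⟩
  · rw [← Subgroup.map_sup, hK.sup_eq_top, ← MonoidHom.range_eq_map, Subgroup.range_subtype]
  · refine comm_of_forall fun a ha b hb => commutatorElement_eq_one_iff_mul_comm.1 ?_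
    have hc : ⁅a, b⁆ ∈ K.map X.subtype := by
      rw [commutatorElement_def]
      exact mul_mem (mul_mem (mul_mem ha hb) (inv_mem ha)) (inv_mem hb)
    have hm : ⁅a, b⁆ ∈ M := hX a (map_subtype_le _ ha) b (map_subtype_le _ hb)
    have := pow_gcd_eq_one.2 ⟨pow_orderOf_eq_one ⁅a, b⁆, hS.pow _ hm⟩
    rw [hKl _ hc, pow_one] at this
    exact this
  · rw [Subgroup.card_map_of_injective X.subtype_injective, S.card_eq_multiplicity]
  · rw [Subgroup.card_map_of_injective X.subtype_injective,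
      Subgroup.card_map_of_injective X.subtype_injective, hK.card_mul_card]

theorem lift_conj [Group.IsSolvable G] {M : Subgroup G} [M.Normal] (hS : Setup q M)
    {X Y : Subgroup G} (hMX : M ≤ X) (hMY : M ≤ Y)
    (hX : ∀ x ∈ X, ∀ y ∈ X, ⁅x, y⁆ ∈ M) (hY : ∀ x ∈ Y, ∀ y ∈ Y, ⁅x, y⁆ ∈ M)
    (hcard : Nat.card X = Nat.card Y) : ∃ g : G, Y = X.map (MulAut.conj g).toMonoidHom := by
  obtain ⟨P₁, L₁, hM₁, hP₁, hX₁, hL₁, hc₁, hn₁, hprod₁⟩ := decompose hS hMX hX
  obtain ⟨P₂, L₂, hM₂, hP₂, hY₂, hL₂, hc₂, hn₂, hprod₂⟩ := decompose hS hMY hY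
  have hPP : Nat.card P₁ = Nat.card P₂ := by rw [hn₁, hn₂, hcard]
  have hLL : Nat.card L₁ = Nat.card L₂ := by
    have := hprod₁.symm.trans (hcard.trans hprod₂)
    rw [hPP] at this
    exact Nat.eq_of_mul_eq_mul_left Nat.card_pos this
  obtain ⟨g, hg⟩ := hS.bp _ _ hc₁ hc₂ hLL
  by_cases hPM : P₁ = M
  · have h2 : P₂ = M := (Subgroup.eq_of_le_of_card_ge hM₂ (by rw [← hPP, hPM])).symm
    refine ⟨g, ?_⟩
    rw [← hY₂, ← hX₁, Subgroup.map_sup, ← hg, hPM, h2]
    congr 1
    exact (Subgroup.Normal.map_conj_eq M g).symm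
  have hlt₁ : M < P₁ := lt_of_le_of_ne hM₁ (Ne.symm hPM)
  have hlt₂ : M < P₂ := by
    refine lt_of_le_of_ne hM₂ fun h => hPM ?_
    exact (Subgroup.eq_of_le_of_card_ge hM₁ (by rw [hPP, h])).symm
  have hP₁X : P₁ ≤ X := hX₁ ▸ le_sup_left
  have hL₁X : L₁ ≤ X := hX₁ ▸ le_sup_right
  have hP₂Y : P₂ ≤ Y := hY₂ ▸ le_sup_left
  have hL₂Y : L₂ ≤ Y := hY₂ ▸ le_sup_right
  have hcom₁ : ∀ l ∈ L₁, ∀ x ∈ P₁, l * x = x * l := fun l hl =>
    coprime_fix hS hP₁ hlt₁ (hL₁ l hl) fun x hx => hX l (hL₁X hl) x (hP₁X hx)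
  have hcom₂ : ∀ l ∈ L₂, ∀ x ∈ P₂, l * x = x * l := fun l hl =>
    coprime_fix hS hP₂ hlt₂ (hL₂ l hl) fun x hx => hY l (hL₂Y hl) x (hP₂Y hx)
  by_cases hab : IsMulCommutative ↥P₁ ∧ IsMulCommutative ↥P₂
  · have key : ∀ P L : Subgroup G, IsMulCommutative ↥P → IsMulCommutative ↥L →
        (∀ l ∈ L, ∀ x ∈ P, l * x = x * l) → IsMulCommutative ↥(P ⊔ L) := by
      intro P L hP hL h
      rw [← Subgroup.le_centralizer_iff_isMulCommutative]
      refine sup_le ?_ ?_ <;> rw [Subgroup.le_centralizer_iff] <;> refine sup_le ?_ ?_ <;>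
        intro u hu <;> rw [mem_centralizer_iff] <;> intro v hv
      · exact comm_apply hP hv hu
      · exact (h u hu v hv).symm
      · exact h v hv u hu
      · exact comm_apply hL hv hu
    exact hS.bp X Y (hX₁ ▸ key _ _ hab.1 hc₁ hcom₁) (hY₂ ▸ key _ _ hab.2 hc₂ hcom₂) hcard
  -- some Sylow part is nonabelian: then both are Sylow subgroups of order eight
  obtain ⟨rfl, hsyl⟩ : q = 2 ∧ ∀ S : Sylow q G, Nat.card ↥(S : Subgroup G) = Nat.card P₁ := by
    rcases not_and_or.1 hab with h | h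
    · have hd : ∀ x ∈ P₁, ∀ y ∈ P₁, ⁅x, y⁆ ∈ M := fun x hx y hy => hX x (hP₁X hx) y (hP₁X hy)
      obtain ⟨rfl, -⟩ := nonabelian_facts hS hP₁ hM₁ hd h
      refine ⟨rfl, fun S => ?_⟩
      obtain ⟨T, hT⟩ := hP₁.exists_le_sylow
      rw [S.card_eq_multiplicity, ← T.card_eq_multiplicity, sylow_eq_eight hS hP₁ hM₁ hd h T hT]
    · have hd : ∀ x ∈ P₂, ∀ y ∈ P₂, ⁅x, y⁆ ∈ M := fun x hx y hy => hY x (hP₂Y hx) y (hP₂Y hy)
      obtain ⟨rfl, -⟩ := nonabelian_facts hS hP₂ hM₂ hd h
      refine ⟨rfl, fun S => ?_⟩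
      obtain ⟨T, hT⟩ := hP₂.exists_le_sylow
      rw [S.card_eq_multiplicity, ← T.card_eq_multiplicity, sylow_eq_eight hS hP₂ hM₂ hd h T hT, hPP]
  set P' := P₁.map (MulAut.conj g).toMonoidHom with hP'
  set C := centralizer (L₂ : Set G) with hC
  have hP'C : P' ≤ C := by
    rintro _ ⟨x, hx, rfl⟩
    rw [mem_centralizer_iff]
    intro l hl
    have hl' : l ∈ L₁.map (MulAut.conj g).toMonoidHom := hg ▸ hl
    obtain ⟨l', hl'', rfl⟩ := hl'
    rw [← map_mul, ← map_mul, hcom₁ l' hl'' x hx]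
  have hP₂C : P₂ ≤ C := fun x hx => mem_centralizer_iff.2 fun l hl => hcom₂ l hl x hx
  have hP'p : IsPGroup 2 ↥P' := hP₁.map _
  have hP'card : Nat.card P' = Nat.card P₁ := Subgroup.card_map_of_injective (MulAut.conj g).injective
  have mk : ∀ R : Subgroup G, IsPGroup 2 ↥R → Nat.card R = Nat.card P₁ → ∀ _ : R ≤ C,
      ∃ T : Sylow 2 ↥C, (T : Subgroup ↥C) = R.subgroupOf C := by
    intro R hR hRc hRC
    obtain ⟨T, hT⟩ := (hR.of_equiv (Subgroup.subgroupOfEquivOfLe hRC).symm).exists_le_sylow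
    refine ⟨T, (Subgroup.eq_of_le_of_card_ge hT ?_).symm⟩
    obtain ⟨T', hT'⟩ := ((T.isPGroup').map C.subtype).exists_le_sylow
    calc Nat.card T = Nat.card ↥((T : Subgroup ↥C).map C.subtype) :=
          (Subgroup.card_map_of_injective C.subtype_injective).symm
      _ ≤ Nat.card T' := Subgroup.card_le_of_le hT'
      _ = Nat.card (R.subgroupOf C) := by
          rw [hsyl T', ← hRc]; exact (Nat.card_congr (Subgroup.subgroupOfEquivOfLe hRC).toEquiv).symm
  obtain ⟨T₁, hT₁⟩ := mk P' hP'p hP'card hP'C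
  obtain ⟨T₂, hT₂⟩ := mk P₂ hP₂ hPP.symm hP₂C
  obtain ⟨c, hc⟩ := MulAction.exists_smul_eq ↥C T₁ T₂
  refine ⟨(c : G) * g, ?_⟩
  have hcmap : P₂ = P'.map (MulAut.conj (c : G)).toMonoidHom := by
    have h1 : (T₂ : Subgroup ↥C) = (T₁ : Subgroup ↥C).map (MulAut.conj c).toMonoidHom := by
      rw [← hc]; rfl
    rw [hT₁, hT₂] at h1
    have h2 := congrArg (Subgroup.map C.subtype) h1
    rw [Subgroup.map_subgroupOf_eq_of_le hP₂C] at h2
    rw [h2, Subgroup.map_map, ← Subgroup.map_subgroupOf_eq_of_le hP'C, Subgroup.map_map,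
      Subgroup.map_subgroupOf_eq_of_le hP'C]
    rfl
  have hLc : L₂ = L₂.map (MulAut.conj (c : G)).toMonoidHom := by
    have hfix : ∀ l ∈ L₂, (MulAut.conj (c : G)) l = l := fun l hl => by
      rw [MulAut.conj_apply, ← mem_centralizer_iff.1 c.2 l hl, mul_inv_cancel_right]
    ext l
    constructor
    · exact fun hl => ⟨l, hl, hfix l hl⟩
    · rintro ⟨l', hl', rfl⟩
      exact (hfix l' hl').symm ▸ hl'
  rw [← hY₂, hcmap, hLc, hg, hP', Subgroup.map_map, Subgroup.map_map, ← Subgroup.map_sup, hX₁, map_mul]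
  rfl

def QProp (G : Type u) [Group G] (M : Subgroup G) [M.Normal] : Prop := BProp (G ⧸ M)

theorem BProp.of_equiv {H : Type u} [Group H] [Finite H] (e : G ≃* H) (h : BProp G) : BProp H := by
  intro A B hA hB hc
  obtain ⟨g, hg⟩ := h (A.comap e.toMonoidHom) (B.comap e.toMonoidHom)
    (comm_of_forall fun a ha b hb => e.injective (by rw [map_mul, map_mul]; exact comm_apply hA ha hb))
    (comm_of_forall fun a ha b hb => e.injective (by rw [map_mul, map_mul]; exact comm_apply hB ha hb))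
    (by
      rw [← Subgroup.card_map_of_injective (f := e.toMonoidHom) e.injective (K := A.comap e.toMonoidHom),
        ← Subgroup.card_map_of_injective (f := e.toMonoidHom) e.injective (K := B.comap e.toMonoidHom),
        Subgroup.map_comap_eq_self_of_surjective (f := e.toMonoidHom) e.surjective,
        Subgroup.map_comap_eq_self_of_surjective (f := e.toMonoidHom) e.surjective, hc])
  refine ⟨e g, ?_⟩
  have h2 := congrArg (Subgroup.map e.toMonoidHom) hg
  rw [Subgroup.map_comap_eq_self_of_surjective (f := e.toMonoidHom) e.surjective] at h2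
  rw [h2, Subgroup.map_map]
  conv_rhs => rw [← Subgroup.map_comap_eq_self_of_surjective (f := e.toMonoidHom) e.surjective A, Subgroup.map_map]
  congr 1
  ext x
  simp

theorem minimal_case [Group.IsSolvable G] (hB : BProp G) (M : Subgroup G) [M.Normal] (hne : M ≠ ⊥)
    (hmin : ∀ N : Subgroup G, N.Normal → N ≤ M → N = ⊥ ∨ N = M) : BProp (G ⧸ M) := by
  obtain ⟨hcomm, q, hq, hMp, hpow⟩ := Cfsg.Lib.Coprime.minimal_normal_solvable inferInstance hne hmin
  haveI := Fact.mk hq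
  obtain ⟨m, hm, hm1⟩ : ∃ m ∈ M, m ≠ 1 := by
    by_contra h
    push Not at h
    exact hne (Subgroup.eq_bot_iff_forall _ |>.2 h)
  have hS : Setup q M := ⟨hB, hpow, fun x hx => by
    by_cases h1 : x = 1
    · rw [h1]; exact one_mem M
    · exact mem_of_order_eq hB M ((orderOf_eq_prime (hpow m hm) hm1).trans (orderOf_eq_prime hx h1).symm) hm,
    hne, hMp, hcomm⟩
  intro A B hA hB' hc
  have hlift : ∀ C : Subgroup (G ⧸ M), IsMulCommutative ↥C →
      ∀ x ∈ C.comap (QuotientGroup.mk' M), ∀ y ∈ C.comap (QuotientGroup.mk' M), ⁅x, y⁆ ∈ M := by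
    intro C hC x hx y hy
    rw [← QuotientGroup.eq_one_iff, ← QuotientGroup.mk'_apply, map_commutatorElement,
      commutatorElement_eq_one_iff_mul_comm]
    exact comm_apply hC hx hy
  have hle : ∀ C : Subgroup (G ⧸ M), M ≤ C.comap (QuotientGroup.mk' M) := fun C x hx => by
    rw [mem_comap, QuotientGroup.mk'_apply, (QuotientGroup.eq_one_iff x).2 hx]; exact one_mem C
  obtain ⟨g, hg⟩ := lift_conj hS (hle A) (hle B) (hlift A hA) (hlift B hB')
    (by rw [Cfsg.Lib.Coprime.card_comap_mk', Cfsg.Lib.Coprime.card_comap_mk', hc])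
  refine ⟨QuotientGroup.mk' M g, ?_⟩
  have hsurj := QuotientGroup.mk'_surjective M
  have h2 := congrArg (Subgroup.map (QuotientGroup.mk' M)) hg
  rw [Subgroup.map_comap_eq_self_of_surjective hsurj] at h2
  rw [h2, Subgroup.map_map]
  conv_rhs => rw [← Subgroup.map_comap_eq_self_of_surjective hsurj A, Subgroup.map_map]
  congr 1

theorem main : ∀ (n : ℕ) (G : Type u) [Group G] [Finite G], Nat.card G = n → Group.IsSolvable G → BProp G →
    ∀ (M : Subgroup G) [M.Normal], BProp (G ⧸ M) := by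
  intro n
  induction n using Nat.strong_induction_on with
  | _ n ih =>
  intro G _ _ hn hsol hB M _
  by_cases hM : M = ⊥
  · subst hM
    exact BProp.of_equiv QuotientGroup.quotientBot.symm hB
  obtain ⟨N, hNM, hNn, hNne, hNmin⟩ := Cfsg.Lib.Coprime.exists_minimal_normal ‹M.Normal› hM
  haveI := hNn
  haveI := hsol
  have hq := minimal_case hB N hNne hNmin
  have hlt : Nat.card (G ⧸ N) < n := hn ▸ Cfsg.Lib.Coprime.card_quotient_lt hNne
  haveI : (M.map (QuotientGroup.mk' N)).Normal := Subgroup.Normal.map inferInstance _ (QuotientGroup.mk'_surjective N)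
  exact BProp.of_equiv (QuotientGroup.quotientQuotientEquivQuotient N M hNM)
    (ih _ hlt (G ⧸ N) rfl inferInstance hq (M.map (QuotientGroup.mk' N)))

theorem result {G : Type*} [Group G] [Finite G] (hB : ∀ A B : Subgroup G, IsMulCommutative ↥A → IsMulCommutative ↥B → Nat.card ↥A = Nat.card ↥B → ∃ g : G, B = A.map (MulAut.conj g).toMonoidHom) (hsol : Group.IsSolvable G) (M : Subgroup G) [M.Normal] :
    ∀ A B : Subgroup (G ⧸ M), IsMulCommutative ↥A → IsMulCommutative ↥B → Nat.card ↥A = Nat.card ↥B →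
      ∃ g : G ⧸ M, B = A.map (MulAut.conj g).toMonoidHom :=
  main _ G rfl hsol hB M

end Cfsg.Agent.S3912
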