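import Cfsg.Statements.S3915
import Cfsg.Agent.Components.Structure
import Cfsg.Agent.OddChar.PF.OddOrder

set_option autoImplicit false
set_option linter.style.haveILetI false
open Cfsg

namespace Cfsg.Agent.S3915

open Subgroup

/-- The quotient of a quasisimple group by its centre is nonabelian. -/
theorem quot_not_comm {H : Type*} [Group H] (h : Cfsg.IsQuasisimple H) :
    ¬ IsMulCommutative (H ⧸ Subgroup.center H) := by
  intro hc
  have h2 : commutator H ≤ Subgroup.center H :=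
    (Subgroup.Normal.quotient_commutative_iff_commutator_le).mp hc
  rw [_root_.commutator_def, Cfsg.Lib.Components.qs_commutator_top h] at h2
  exact Cfsg.Lib.Components.qs_center_ne_top h (top_le_iff.mp h2)

/-- A quasisimple finite group has a noncentral element of `2`-power order. -/
theorem exists_noncentral_two {H : Type*} [Group H] [Finite H] (h : Cfsg.IsQuasisimple H) :
    ∃ x : H, (∃ a : ℕ, orderOf x = 2 ^ a) ∧ x ∉ Subgroup.center H := by
  by_contra hcon
  push Not at hcon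
  haveI := h.2
  have hodd : Odd (Nat.card (H ⧸ Subgroup.center H)) := by
    rw [Nat.odd_iff, ← Nat.not_even_iff, even_iff_two_dvd]
    intro hd
    haveI : Fact (Nat.Prime 2) := ⟨Nat.prime_two⟩
    obtain ⟨q, hq⟩ := exists_prime_orderOf_dvd_card' 2 hd
    obtain ⟨g, rfl⟩ := QuotientGroup.mk'_surjective (Subgroup.center H) q
    obtain ⟨k, m, hm, hkm⟩ := Nat.exists_eq_pow_mul_and_not_dvd (orderOf_pos g).ne' 2 (by norm_num)
    have hx : g ^ m ∈ Subgroup.center H := by
      refine hcon _ ⟨k, ?_⟩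
      rw [orderOf_pow_of_dvd (by rintro rfl; exact hm (dvd_zero 2)) (by rw [hkm]; exact dvd_mul_left _ _),
        hkm, Nat.mul_div_cancel _ (Nat.pos_of_ne_zero (by rintro rfl; exact hm (dvd_zero 2)))]
    have h1 : (QuotientGroup.mk' (Subgroup.center H) g) ^ m = 1 := by
      rw [← map_pow, QuotientGroup.mk'_apply, QuotientGroup.eq_one_iff]
      exact hx
    have := orderOf_dvd_of_pow_eq_one h1
    rw [hq] at this
    exact hm this
  haveI := Cfsg.Agent.PF.isSolvable_of_odd _ hodd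
  exact quot_not_comm h ⟨⟨IsSimpleGroup.comm_iff_isSolvable.mpr inferInstance⟩⟩

/-- Membership in a conjugate. -/
theorem mem_conj_inv {G : Type*} [Group G] {K : Subgroup G} {g w : G}
    (h : g * w * g⁻¹ ∈ K) : w ∈ K.map (MulAut.conj g⁻¹).toMonoidHom :=
  ⟨g * w * g⁻¹, h, by simp [mul_assoc]⟩

/-- Distinct components do not both exist. -/
theorem comp_unique {G : Type*} [Group G] [Finite G]
    (hP : ∀ (p : ℕ), p.Prime → ∀ A B : Subgroup G, IsCyclic ↥A → IsCyclic ↥B → IsPGroup p ↥A →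
      Nat.card ↥A = Nat.card ↥B → ∃ g : G, B = A.map (MulAut.conj g).toMonoidHom)
    {L M : Subgroup G} (hL : Cfsg.IsComponent L) (hM : Cfsg.IsComponent M) : L = M := by
  by_contra hLM
  classical
  -- an element of least `2`-power order in `L` not centralizing `L`
  obtain ⟨x₀, ⟨a₀, ha₀⟩, hx₀⟩ := exists_noncentral_two hL.2
  have hex : ∃ a : ℕ, ∃ x : G, x ∈ L ∧ orderOf x = 2 ^ a ∧
      x ∉ Subgroup.centralizer (L : Set G) := by
    refine ⟨a₀, x₀, x₀.2, by rw [Subgroup.orderOf_coe]; exact ha₀, fun hc => hx₀ ?_⟩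
    exact Subgroup.mem_center_iff.mpr fun g => Subtype.ext (Subgroup.mem_centralizer_iff.mp hc g g.2)
  obtain ⟨x, hxL, hxo, hxc⟩ := Nat.find_spec hex
  set a := Nat.find hex
  obtain ⟨y₀, ⟨b, hb₀⟩, hy₀⟩ := exists_noncentral_two hM.2
  obtain ⟨y, hyM, hyo, hyc⟩ : ∃ y : G, y ∈ M ∧ orderOf y = 2 ^ b ∧
      y ∉ Subgroup.centralizer (M : Set G) :=
    ⟨y₀, y₀.2, by rw [Subgroup.orderOf_coe]; exact hb₀, fun hc => hy₀
      (Subgroup.mem_center_iff.mpr fun g => Subtype.ext (Subgroup.mem_centralizer_iff.mp hc g g.2))⟩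
  have hcent : ∀ {A B : Subgroup G}, Cfsg.IsComponent A → Cfsg.IsComponent B → A ≠ B →
      A ≤ Subgroup.centralizer (B : Set G) := fun hA hB hne =>
    Subgroup.commutator_eq_bot_iff_le_centralizer.mp (Cfsg.Lib.Components.comp_commute hA hB hne)
  have hxy : Commute x y := Cfsg.Lib.Components.commute_of_commutator_eq_bot
    (Cfsg.Lib.Components.comp_commute hL hM hLM) hxL hyM
  have hwL : x * y ∉ Subgroup.centralizer (L : Set G) := fun h => hxc (by
    have := mul_mem h (inv_mem (hcent hM hL (Ne.symm hLM) hyM))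
    rwa [mul_inv_cancel_right] at this)
  have hwM : x * y ∉ Subgroup.centralizer (M : Set G) := fun h => hyc (by
    have := mul_mem (inv_mem (hcent hL hM hLM hxL)) h
    rwa [inv_mul_cancel_left] at this)
  haveI : Fact (Nat.Prime 2) := ⟨Nat.prime_two⟩
  obtain ⟨c, hc⟩ : ∃ c : ℕ, orderOf (x * y) = 2 ^ c := by
    have hd := hxy.orderOf_mul_dvd_lcm
    rw [hxo, hyo] at hd
    have h2 : 2 ^ a ∣ 2 ^ (a + b) := pow_dvd_pow 2 (by omega)
    have h3 : 2 ^ b ∣ 2 ^ (a + b) := pow_dvd_pow 2 (by omega)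
    obtain ⟨c, -, hc⟩ := (Nat.dvd_prime_pow Nat.prime_two).mp (hd.trans (Nat.lcm_dvd h2 h3))
    exact ⟨c, hc⟩
  have key : ∀ u : G, orderOf u = 2 ^ c → ∃ g : G, g * (x * y) * g⁻¹ ∈ Subgroup.zpowers u := by
    intro u hu
    obtain ⟨g, hg⟩ := hP 2 Nat.prime_two (Subgroup.zpowers (x * y)) (Subgroup.zpowers u)
      inferInstance inferInstance (IsPGroup.of_card (by rw [Nat.card_zpowers, hc]))
      (by rw [Nat.card_zpowers, Nat.card_zpowers, hc, hu])
    exact ⟨g, hg ▸ ⟨x * y, Subgroup.mem_zpowers _, by simp⟩⟩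
  have hle : c ≤ max a b := by
    have hd := hxy.orderOf_mul_dvd_lcm
    rw [hxo, hyo, hc] at hd
    have h2 : 2 ^ a ∣ 2 ^ max a b := pow_dvd_pow 2 (le_max_left a b)
    have h3 : 2 ^ b ∣ 2 ^ max a b := pow_dvd_pow 2 (le_max_right a b)
    exact (Nat.pow_dvd_pow_iff_le_right (by norm_num)).mp (hd.trans (Nat.lcm_dvd h2 h3))
  -- no power-order element of a component is conjugate to a generator of `⟨x * y⟩`
  have fin : ∀ {K : Subgroup G}, Cfsg.IsComponent K → ∀ u ∈ K, orderOf u = 2 ^ c → False := by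
    intro K hK u huK hu
    obtain ⟨g, hg⟩ := key u hu
    have hw := mem_conj_inv ((Subgroup.zpowers_le.mpr huK) hg)
    have hK' := Cfsg.Lib.Components.comp_conj hK g⁻¹
    by_cases hKL : K.map (MulAut.conj g⁻¹).toMonoidHom = L
    · exact hwM (hcent hK' hM (by rw [hKL]; exact hLM) hw)
    · exact hwL (hcent hK' hL hKL hw)
  rcases eq_or_ne c b with rfl | hcb
  · exact fin hM y hyM hyo
  rcases eq_or_ne c a with hca' | hca'
  · exact fin hL x hxL (hca' ▸ hxo)
  · have hy2 : y ^ (2 ^ c) * x ^ (2 ^ c) = 1 := by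
      rw [← hxy.symm.mul_pow, ← hxy.eq, ← hc, pow_orderOf_eq_one]
    have hca : c < a := by
      by_contra hge
      push Not at hge
      have hx1 : x ^ (2 ^ c) = 1 := orderOf_dvd_iff_pow_eq_one.mp (hxo ▸ pow_dvd_pow 2 hge)
      rw [hx1, mul_one] at hy2
      have hd : 2 ^ b ∣ 2 ^ c := hyo ▸ orderOf_dvd_of_pow_eq_one hy2
      have := (Nat.pow_dvd_pow_iff_le_right (by norm_num : 1 < 2)).mp hd
      omega
    have hz : orderOf (x ^ (2 ^ (a - c))) = 2 ^ c := by
      rw [orderOf_pow_of_dvd (by positivity) (by rw [hxo]; exact pow_dvd_pow 2 (Nat.sub_le a c)),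
        hxo, Nat.pow_div (Nat.sub_le a c) (by norm_num)]
      congr 1
      omega
    have hzc : x ^ (2 ^ (a - c)) ∈ Subgroup.centralizer (L : Set G) := by
      by_contra hn
      exact Nat.find_min hex hca ⟨_, pow_mem hxL _, hz, hn⟩
    obtain ⟨g, hg⟩ := key _ hz
    have hK := Cfsg.Lib.Components.comp_conj hL g
    have hzK : x ^ (2 ^ (a - c)) ∈
        Subgroup.centralizer ((L.map (MulAut.conj g).toMonoidHom : Subgroup G) : Set G) := by
      by_cases hKL : L.map (MulAut.conj g).toMonoidHom = L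
      · rw [hKL]; exact hzc
      · exact hcent hL hK (Ne.symm hKL) (pow_mem hxL _)
    have hw := (Subgroup.zpowers_le.mpr hzK) hg
    refine hwL (Subgroup.mem_centralizer_iff.mpr fun l hl => ?_)
    have := Subgroup.mem_centralizer_iff.mp hw (g * l * g⁻¹) ⟨l, hl, by simp⟩
    have h2 := congrArg (fun t => g⁻¹ * t * g) this
    simpa [mul_assoc] using h2

/-- Let G be a finite group in which, for every prime p, any two cyclic p-subgroups of the same order are conjugate. If the layer E(G), the subgroup generated by the components of G, is non-trivial, then E(G)/Z(E(G)) is a non-abelian simple group. -/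
theorem result {G : Type*} [Group G] [Finite G] (hP : ∀ (p : ℕ), p.Prime → ∀ A B : Subgroup G, IsCyclic ↥A → IsCyclic ↥B → IsPGroup p ↥A → Nat.card ↥A = Nat.card ↥B → ∃ g : G, B = A.map (MulAut.conj g).toMonoidHom) (hE : Cfsg.layer G ≠ ⊥) :
    IsSimpleGroup (↥(Cfsg.layer G) ⧸ Subgroup.center ↥(Cfsg.layer G)) ∧ ¬ IsMulCommutative (↥(Cfsg.layer G) ⧸ Subgroup.center ↥(Cfsg.layer G)) := by
  obtain ⟨L, hL⟩ : ∃ L : Subgroup G, Cfsg.IsComponent L := by
    by_contra h
    push Not at h
    exact hE (le_bot_iff.mp (sSup_le fun K hK => absurd hK (h K)))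
  have hEL : Cfsg.layer G = L :=
    le_antisymm (sSup_le fun K hK => (comp_unique hP hK hL).le) (le_sSup hL)
  have hq : Cfsg.IsQuasisimple ↥(Cfsg.layer G) :=
    Cfsg.Lib.Components.qs_congr' (MulEquiv.subgroupCongr hEL.symm) hL.2
  exact ⟨hq.2, quot_not_comm hq⟩

end Cfsg.Agent.S3915
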