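import Cfsg.Statements.S3917
import Cfsg.Agent.Coprime.Generation

set_option autoImplicit false
open Cfsg

namespace Cfsg.Agent.S3917

/-- Say that a group has self-centralizing non-cyclic subgroups when every non-cyclic subgroup H satisfies C_G(H) ≤ H. A finite abelian group with self-centralizing non-cyclic subgroups is cyclic or elementary abelian of order p² for a prime p. -/
theorem result {G : Type*} [CommGroup G] [Finite G] (hX : (∀ H : Subgroup G, ¬ IsCyclic ↥H → Subgroup.centralizer (H : Set G) ≤ H)) :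
    IsCyclic G ∨ ∃ p : ℕ, p.Prime ∧ Nat.card G = p ^ 2 ∧ Monoid.exponent G = p := by
  by_cases hc : IsCyclic G
  · exact Or.inl hc
  right
  obtain ⟨q, x, y, hq, hx, hy, hxy⟩ := Cfsg.Lib.Coprime.exists_root_pair_of_not_cyclic hc
  have := Fact.mk hq
  let H := Subgroup.zpowers x ⊔ Subgroup.zpowers y
  have hexp : ∀ z ∈ H, z ^ q = 1 := by
    intro z hz
    obtain ⟨a, ha, b, hb, rfl⟩ := Subgroup.mem_sup.mp hz
    rw [mul_pow, orderOf_dvd_iff_pow_eq_one.mp (hx ▸ orderOf_dvd_of_mem_zpowers ha),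
      orderOf_dvd_iff_pow_eq_one.mp (hy ▸ orderOf_dvd_of_mem_zpowers hb), one_mul]
  have hnc : ¬ IsCyclic H := by
    intro hc'
    obtain ⟨g, hg⟩ := hc'.exists_generator
    have hgx : x ∈ Subgroup.zpowers (g : G) := by
      obtain ⟨i, hi⟩ := hg ⟨x, Subgroup.mem_sup_left (Subgroup.mem_zpowers x)⟩
      exact ⟨i, congrArg Subtype.val hi⟩
    have hgy : y ∈ Subgroup.zpowers (g : G) := by
      obtain ⟨i, hi⟩ := hg ⟨y, Subgroup.mem_sup_right (Subgroup.mem_zpowers y)⟩
      exact ⟨i, congrArg Subtype.val hi⟩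
    have hxg : Subgroup.zpowers x = Subgroup.zpowers (g : G) :=
      Subgroup.eq_of_le_of_card_ge (Subgroup.zpowers_le.mpr hgx) (by
        rw [Nat.card_zpowers, Nat.card_zpowers, hx]
        exact Nat.le_of_dvd hq.pos (orderOf_dvd_of_pow_eq_one (hexp _ g.2)))
    exact hxy (hxg ▸ hgy)
  have htop : H = ⊤ := eq_top_iff.mpr fun z _ => hX H hnc
    (Subgroup.mem_centralizer_iff.mpr fun w _ => mul_comm w z)
  have hdisj : Disjoint (Subgroup.zpowers x) (Subgroup.zpowers y) := by
    rw [disjoint_iff, eq_bot_iff]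
    intro z hz
    by_contra hne
    have h1 : orderOf z = q := (hq.eq_one_or_self_of_dvd _ (hx ▸ orderOf_dvd_of_mem_zpowers hz.1)).resolve_left
      (fun e => hne (Subgroup.mem_bot.mpr (orderOf_eq_one_iff.mp e)))
    have e1 : Subgroup.zpowers z = Subgroup.zpowers x := Subgroup.eq_of_le_of_card_ge
      (Subgroup.zpowers_le.mpr hz.1) (by rw [Nat.card_zpowers, Nat.card_zpowers, h1, hx])
    have e2 : Subgroup.zpowers z = Subgroup.zpowers y := Subgroup.eq_of_le_of_card_ge
      (Subgroup.zpowers_le.mpr hz.2) (by rw [Nat.card_zpowers, Nat.card_zpowers, h1, hy])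
    exact hxy (e1 ▸ e2.symm ▸ Subgroup.mem_zpowers y)
  have hcomp := Subgroup.isComplement'_of_disjoint_and_mul_eq_univ hdisj (by
    rw [← Subgroup.normal_mul, show Subgroup.zpowers x ⊔ Subgroup.zpowers y = ⊤ from htop]; rfl)
  refine ⟨q, hq, ?_, ?_⟩
  · rw [← hcomp.card_mul_card, Nat.card_zpowers, Nat.card_zpowers, hx, hy, sq]
  · refine ((Nat.dvd_prime hq).mp (Monoid.exponent_dvd_of_forall_pow_eq_one
      fun z => hexp z (htop ▸ Subgroup.mem_top z))).resolve_left fun h1 => ?_
    have := hx ▸ h1 ▸ Monoid.order_dvd_exponent x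
    exact hq.ne_one (Nat.dvd_one.mp this)

end Cfsg.Agent.S3917
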