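import Cfsg.Statements.S3918
import Cfsg.Agent.PGroups.Bounds
import Cfsg.Agent.SolvStruct.PGroupBasics

set_option autoImplicit false
open Cfsg

namespace Cfsg.Agent.S3918

/-- Say that a group has self-centralizing non-cyclic subgroups when every non-cyclic subgroup H satisfies C_G(H) ≤ H. For an odd prime p, a finite non-abelian p-group has self-centralizing non-cyclic subgroups if and only if it has order p³. -/
theorem result {G : Type*} [Group G] [Finite G] {p : ℕ} [Fact p.Prime] (hp : p ≠ 2) (hG : IsPGroup p G) (hna : ¬ IsMulCommutative G) :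
    (∀ H : Subgroup G, ¬ IsCyclic ↥H → Subgroup.centralizer (H : Set G) ≤ H) ↔ Nat.card G = p ^ 3 := by
  have hp' : p.Prime := Fact.out
  obtain ⟨m, hm⟩ := IsPGroup.iff_card.mp hG
  have hnc : ¬ IsCyclic G := fun h => hna IsCyclic.isMulCommutative
  have hm3 : 3 ≤ m := by
    by_contra hcon
    refine hna ?_
    interval_cases m
    · have : Subsingleton G := (Nat.card_eq_one_iff_unique.mp (by simpa using hm)).1
      exact ⟨⟨fun a b => Subsingleton.elim _ _⟩⟩
    · exact (hnc (isCyclic_of_prime_card (p := p) (by simpa using hm))).elim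
    · exact IsPGroup.isMulCommutative_of_card_eq_prime_sq hm
  constructor
  · intro h
    obtain ⟨E, hEn, hE, hEc⟩ := Cfsg.Lib.SolvStruct.exists_normal_elementary_sq hp hG hnc
    have hEnc : ¬ IsCyclic E := by
      intro hc
      obtain ⟨g, hg⟩ := hc.exists_generator
      have h1 : orderOf g = p ^ 2 := by rw [← hEc]; exact orderOf_eq_card_of_forall_mem_zpowers hg
      have h2 : orderOf g ∣ p := orderOf_dvd_of_pow_eq_one (Subtype.ext (hE.2 g g.2))
      rw [h1] at h2
      have := Nat.le_of_dvd hp'.pos h2
      have : p < p ^ 2 := by rw [sq]; exact lt_mul_of_one_lt_left hp'.pos hp'.one_lt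
      omega
    have hb := Cfsg.Lib.PGroups.index_centralizer_le_of_normal hG 2 E hEn hEc
    have := hE.1
    rw [le_antisymm (h E hEnc) (Subgroup.le_centralizer E), show 2 * (2 - 1) / 2 = 1 by norm_num] at hb
    have hle : p ^ m ≤ p ^ 3 := by
      rw [← hm, ← E.card_mul_index, hEc, pow_succ p 2]
      exact Nat.mul_le_mul_left _ (pow_one p ▸ hb)
    have := (Nat.pow_le_pow_iff_right hp'.one_lt).mp hle
    rw [hm, show m = 3 by omega]
  · intro h3 H hH
    obtain ⟨k, hk3, hk⟩ := (Nat.dvd_prime_pow hp').mp (h3 ▸ H.card_subgroup_dvd_card)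
    rcases (show k ≤ 1 ∨ k = 2 ∨ k = 3 by omega) with hk1 | rfl | rfl
    · refine absurd ?_ hH
      interval_cases k
      · have : Subsingleton H := (Nat.card_eq_one_iff_unique.mp (by simpa using hk)).1
        exact isCyclic_of_subsingleton
      · exact isCyclic_of_prime_card (p := p) (by simpa using hk)
    · intro c hc
      by_contra hcH
      have hHi : H.index = p := by
        have h1 := H.card_mul_index
        rw [hk, h3, pow_succ p 2] at h1
        exact Nat.eq_of_mul_eq_mul_left (pow_pos hp'.pos 2) h1
      have hlt : H < H ⊔ Subgroup.zpowers c := left_lt_sup.mpr fun hle => hcH (hle (Subgroup.mem_zpowers c))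
      have htop : H ⊔ Subgroup.zpowers c = ⊤ := by
        have h1 := Subgroup.relIndex_mul_index hlt.le
        rw [hHi] at h1
        rcases (Nat.dvd_prime hp').mp (Dvd.intro_left _ h1) with h2 | h2
        · exact Subgroup.index_eq_one.mp h2
        · rw [h2] at h1
          exact absurd (Subgroup.relIndex_eq_one.mp
            (Nat.eq_of_mul_eq_mul_right hp'.pos (h1.trans (one_mul p).symm))) hlt.not_ge
      have hab : IsMulCommutative H := IsPGroup.isMulCommutative_of_card_eq_prime_sq hk
      refine hna ⟨⟨fun u v => ?_⟩⟩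
      have key : ∀ u : G, ∀ w ∈ H ⊔ Subgroup.zpowers c, w * u = u * w ∨ True := fun _ _ _ => Or.inr trivial
      have hcomm : IsMulCommutative (Subgroup.closure ((H : Set G) ∪ {c})) := by
        refine Subgroup.isMulCommutative_closure ?_
        rintro a (ha | ha) b (hb | hb)
        · exact congrArg Subtype.val (hab.is_comm.comm ⟨a, ha⟩ ⟨b, hb⟩)
        · obtain rfl := hb
          exact Subgroup.mem_centralizer_iff.mp hc a ha
        · obtain rfl := ha
          exact (Subgroup.mem_centralizer_iff.mp hc b hb).symm
        · obtain rfl := ha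
          obtain rfl := hb
          rfl
      have hcl : Subgroup.closure ((H : Set G) ∪ {c}) = ⊤ := by
        rw [Subgroup.closure_union, Subgroup.closure_eq, ← Subgroup.zpowers_eq_closure, htop]
      exact congrArg Subtype.val (hcomm.is_comm.comm (⟨u, hcl.ge (Subgroup.mem_top u)⟩ : Subgroup.closure ((H : Set G) ∪ {c}))
        ⟨v, hcl.ge (Subgroup.mem_top v)⟩)
    · intro c _
      rw [Subgroup.eq_top_of_card_eq H (hk.trans h3.symm)]
      exact Subgroup.mem_top c

end Cfsg.Agent.S3918
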