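import Cfsg.Statements.S3919
import Cfsg.Agent.PGroups.MaxClass
import Cfsg.Agent.Frobenius.UniqueSubgroup

set_option autoImplicit false
open Cfsg

namespace Cfsg.Agent.S3919

open scoped Pointwise


/-- Say that a group has self-centralizing non-cyclic subgroups when every non-cyclic subgroup H satisfies C_G(H) ≤ H. A finite non-abelian 2-group G of order 2^n has self-centralizing non-cyclic subgroups if and only if G has nilpotency class n − 1 (that is, G is dihedral, semidihedral or generalized quaternion). -/
theorem result {G : Type*} [Group G] [Finite G] (hna : ¬ IsMulCommutative G) (n : ℕ) (hG : Nat.card G = 2 ^ n) :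
    (∀ H : Subgroup G, ¬ IsCyclic ↥H → Subgroup.centralizer (H : Set G) ≤ H) ↔ (⊤ : Subgroup G).lowerCentralSeries (n - 2) ≠ ⊥ := by
  haveI : Fact (Nat.Prime 2) := ⟨Nat.prime_two⟩
  have hP : IsPGroup 2 G := IsPGroup.of_card hG
  haveI : Group.IsNilpotent G := hP.isNilpotent
  have hn3 : 3 ≤ n := by
    by_contra h
    refine hna ?_
    have hn2 : n ≤ 2 := by omega
    interval_cases n
    · haveI : Subsingleton G := (Nat.card_eq_one_iff_unique.1 (by simpa using hG)).1
      exact ⟨⟨fun a b => Subsingleton.elim _ _⟩⟩
    · haveI := isCyclic_of_prime_card (show Nat.card G = 2 by simpa using hG)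
      letI : CommGroup G := IsCyclic.commGroup
      exact ⟨⟨fun a b => mul_comm a b⟩⟩
    · exact IsPGroup.isMulCommutative_of_card_eq_prime_sq (p := 2) hG
  have hiff : (⊤ : Subgroup G).lowerCentralSeries (n - 2) ≠ ⊥ ↔ Group.nilpotencyClass G = n - 1 := by
    rw [Ne, Subgroup.lowerCentralSeries_eq_bot_iff_nilpotencyClass_le]
    have := Cfsg.Lib.MaxClass.class_le n G hG (by omega)
    omega
  rw [hiff]
  constructor
  · intro hH
    haveI : Nontrivial G := Finite.one_lt_card_iff_nontrivial.1 (hG ▸ Nat.one_lt_pow (by omega) (by norm_num))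
    haveI := hP.center_nontrivial
    obtain ⟨z, hz, hzZ, hzo⟩ := Cfsg.Lib.PGroups.exists_mem_center_of_normal_ne_bot hP (N := Subgroup.center G)
      ((Subgroup.nontrivial_iff_ne_bot _).1 inferInstance)
    by_cases ht : ∃ t : G, orderOf t = 2 ∧ t ∉ Subgroup.zpowers z
    · obtain ⟨t, hto, htz⟩ := ht
      set E := Subgroup.closure ({z, t} : Set G) with hE
      have hzt : z * t = t * z := (Subgroup.mem_center_iff.1 hzZ t).symm
      haveI hEc : IsMulCommutative E := Subgroup.isMulCommutative_closure (by
        rintro a (rfl | rfl) b (rfl | rfl) <;> first | rfl | exact hzt | exact hzt.symm)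
      have hs : ∀ a ∈ E, a ^ 2 = 1 := by
        intro a ha
        induction ha using Subgroup.closure_induction with
        | mem x hx =>
          rcases hx with rfl | rfl
          · rw [← hzo, pow_orderOf_eq_one]
          · rw [← hto, pow_orderOf_eq_one]
        | one => simp
        | mul x y hx hy ihx ihy =>
          rw [(show Commute x y from congrArg Subtype.val (hEc.is_comm.comm (⟨x, hx⟩ : E) ⟨y, hy⟩)).mul_pow, ihx, ihy, one_mul]
        | inv x _ ih => rw [inv_pow, ih, inv_one]
      have hncyc : ¬ IsCyclic E := by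
        intro hcy
        obtain ⟨a, ha⟩ := hcy.exists_generator
        have h2 : Nat.card E ≤ 2 := by
          rw [← orderOf_eq_card_of_forall_mem_zpowers ha]
          exact Nat.le_of_dvd two_pos (orderOf_dvd_of_pow_eq_one (Subtype.ext (hs a a.2)))
        have : Subgroup.zpowers z = E := Subgroup.eq_of_le_of_card_ge
          (Subgroup.zpowers_le.2 (Subgroup.subset_closure (Or.inl rfl))) (by rw [Nat.card_zpowers, hzo]; exact h2)
        exact htz (this ▸ Subgroup.subset_closure (Or.inr rfl))
      have hEle : E ≤ Subgroup.zpowers z ⊔ Subgroup.zpowers t := (Subgroup.closure_le _).2 (by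
        rintro _ (rfl | rfl)
        · exact Subgroup.mem_sup_left (Subgroup.mem_zpowers _)
        · exact Subgroup.mem_sup_right (Subgroup.mem_zpowers _))
      have hE4 : Nat.card E = 2 ^ 2 := by
        obtain ⟨j, hj⟩ := IsPGroup.iff_card.1 (hP.to_subgroup E)
        haveI : (Subgroup.zpowers z).Normal := ⟨fun w hw g => by
          rw [Subgroup.mem_center_iff.1 (Subgroup.zpowers_le.2 hzZ hw) g, mul_inv_cancel_right]; exact hw⟩
        have h4 : Nat.card E ≤ 4 := by
          have h2 := Nat.le_of_dvd Nat.card_pos (Subgroup.card_dvd_of_le hEle)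
          have h3 : Nat.card (Subgroup.zpowers z ⊔ Subgroup.zpowers t : Subgroup G) ≤ 4 := by
            rw [← SetLike.coe_sort_coe, Subgroup.normal_mul (Subgroup.zpowers z) (Subgroup.zpowers t)]
            refine le_trans Set.natCard_mul_le ?_
            rw [SetLike.coe_sort_coe, SetLike.coe_sort_coe, Nat.card_zpowers, Nat.card_zpowers, hzo, hto]
          omega
        have hgt : ¬ Nat.card E ≤ 2 := fun h2 => by
          have : Subgroup.zpowers z = E := Subgroup.eq_of_le_of_card_ge
            (Subgroup.zpowers_le.2 (Subgroup.subset_closure (Or.inl rfl))) (by rw [Nat.card_zpowers, hzo]; exact h2)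
          exact htz (this ▸ Subgroup.subset_closure (Or.inr rfl))
        rw [hj] at h4 hgt ⊢
        congr 1
        rcases Nat.lt_or_ge j 2 with h | h
        · exact absurd ((Nat.pow_le_pow_right two_pos (show j ≤ 1 by omega)).trans (by norm_num)) hgt
        · rcases Nat.lt_or_ge 2 j with h' | h'
          · have := Nat.pow_le_pow_right (n := 2) two_pos (show 3 ≤ j by omega); omega
          · omega
      exact Cfsg.Lib.MaxClass.of_self_centralizing n G hG E hE4
        (le_antisymm (hH E hncyc) (fun a ha => Subgroup.mem_centralizer_iff.2 fun b hb =>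
          congrArg Subtype.val (hEc.is_comm.comm (⟨b, hb⟩ : E) ⟨a, ha⟩)))
    · push Not at ht
      have huniq : ∀ x y : G, orderOf x = 2 → orderOf y = 2 → y ∈ Subgroup.zpowers x := by
        intro x y hx hy
        have : Subgroup.zpowers x = Subgroup.zpowers z := Subgroup.eq_of_le_of_card_ge
          (Subgroup.zpowers_le.2 (ht x hx)) (by rw [Nat.card_zpowers, Nat.card_zpowers, hx, hzo])
        exact this ▸ ht y hy
      rcases Cfsg.Lib.UniqueSub.isCyclic_or_quaternion hP huniq with hc | ⟨-, k, ⟨e⟩⟩
      · exact absurd (by letI : CommGroup G := IsCyclic.commGroup; exact ⟨⟨fun a b => mul_comm a b⟩⟩) hna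
      haveI : NeZero (2 ^ k) := ⟨(Nat.two_pow_pos k).ne'⟩
      haveI : Group.IsNilpotent (QuaternionGroup (2 ^ k)) := Group.nilpotent_of_mulEquiv e
      have hQc : Nat.card (QuaternionGroup (2 ^ k)) = 2 ^ n := by rw [← Nat.card_congr e.toEquiv, hG]
      have hcx : Subgroup.centralizer ((Subgroup.zpowers (QuaternionGroup.xa (0 : ZMod (2 * 2 ^ k))) : Subgroup _) : Set (QuaternionGroup (2 ^ k)))
          = Subgroup.zpowers (QuaternionGroup.xa 0) := by
        refine le_antisymm (fun q hq => ?_) ?_
        · have hq' := Subgroup.mem_centralizer_iff.1 hq _ (Subgroup.mem_zpowers _)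
          have ham : QuaternionGroup.a ((2 ^ k : ℕ) : ZMod (2 * 2 ^ k)) ∈ Subgroup.zpowers (QuaternionGroup.xa (0 : ZMod (2 * 2 ^ k))) := by
            have := mul_mem (Subgroup.mem_zpowers (QuaternionGroup.xa (0 : ZMod (2 * 2 ^ k)))) (Subgroup.mem_zpowers (QuaternionGroup.xa 0))
            rwa [QuaternionGroup.xa_mul_xa, add_zero, sub_zero] at this
          have hA : ∀ i : ZMod (2 * 2 ^ k), i = -i → QuaternionGroup.a i ∈ Subgroup.zpowers (QuaternionGroup.xa (0 : ZMod (2 * 2 ^ k))) := by
            intro i hi
            have h2 : ((2 * i.val : ℕ) : ZMod (2 * 2 ^ k)) = 0 := by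
              rw [Nat.cast_mul, ZMod.natCast_zmod_val, Nat.cast_two]
              linear_combination hi
            rw [ZMod.natCast_eq_zero_iff] at h2
            have h3 : 2 ^ k ∣ i.val := Nat.dvd_of_mul_dvd_mul_left two_pos h2
            obtain ⟨c, hc'⟩ := h3
            have hlt := i.val_lt
            rw [hc'] at hlt
            have hc2 : c < 2 := Nat.lt_of_mul_lt_mul_left (a := 2 ^ k) (by linarith)
            have hi' : i = ((2 ^ k * c : ℕ) : ZMod (2 * 2 ^ k)) := by rw [← hc', ZMod.natCast_zmod_val]
            interval_cases c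
            · rw [hi', mul_zero, Nat.cast_zero, QuaternionGroup.a_zero]; exact one_mem _
            · rw [hi', mul_one]; exact ham
          cases q with
          | a i =>
            rw [QuaternionGroup.xa_mul_a, QuaternionGroup.a_mul_xa] at hq'
            exact hA i (by simpa using QuaternionGroup.xa.inj hq')
          | xa i =>
            rw [QuaternionGroup.xa_mul_xa, QuaternionGroup.xa_mul_xa] at hq'
            have h1 : i = -i := by
              have := QuaternionGroup.a.inj hq'
              simp only [add_zero, sub_zero] at this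
              linear_combination this
            have := mul_mem (Subgroup.mem_zpowers (QuaternionGroup.xa (0 : ZMod (2 * 2 ^ k)))) (hA i h1)
            rwa [QuaternionGroup.xa_mul_a, zero_add] at this
        · intro q hq
          refine Subgroup.mem_centralizer_iff.2 fun r hr => ?_
          obtain ⟨i, rfl⟩ := Subgroup.mem_zpowers_iff.1 hq
          obtain ⟨j, rfl⟩ := Subgroup.mem_zpowers_iff.1 hr
          exact ((Commute.refl _).zpow_zpow j i).eq
      have hQ := Cfsg.Lib.MaxClass.of_self_centralizing (p := 2) n _ hQc _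
        (by rw [Nat.card_zpowers, QuaternionGroup.orderOf_xa]; rfl) hcx
      rw [← hQ]
      exact le_antisymm (Group.nilpotencyClass_le_of_surjective e.symm.toMonoidHom e.symm.surjective)
        (Group.nilpotencyClass_le_of_surjective e.toMonoidHom e.surjective)
  · intro hc H hH g hg
    obtain ⟨hZ, -, -⟩ := Cfsg.Lib.MaxClass.center_facts n G hG hn3 hc
    obtain ⟨A, hA, hi⟩ := Cfsg.Lib.MaxClass.exists_cyclic_index_two n G hG hn3 hc
    obtain ⟨hZA, hout⟩ := Cfsg.Lib.MaxClass.outside hG hn3 hc hA hi
    obtain ⟨h, hhH, hhA⟩ : ∃ h ∈ H, h ∉ A := by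
      by_contra hno
      push Not at hno
      exact hH (Subgroup.isCyclic_of_le hno)
    obtain ⟨hh2, hCA⟩ := hout h hhA
    have hZH : Subgroup.center G ≤ H := by
      obtain ⟨z, hzne, -⟩ := (Nat.card_eq_two_iff' (1 : Subgroup.center G)).1 hZ
      have hzgen : ∀ w ∈ Subgroup.center G, w ≠ 1 → ∀ y ∈ Subgroup.center G, y ∈ Subgroup.zpowers w := by
        intro w hw hw1 y hy
        have heq : Subgroup.zpowers w = Subgroup.center G := Subgroup.eq_of_le_of_card_ge (Subgroup.zpowers_le.2 hw) (by
          rw [hZ]
          exact (Subgroup.one_lt_card_iff_ne_bot _).2 (by rw [Ne, Subgroup.zpowers_eq_bot]; exact hw1))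
        exact heq ▸ hy
      by_cases h1 : h ^ 2 = 1
      swap
      · exact fun y hy => Subgroup.zpowers_le.2 (pow_mem hhH 2) (hzgen _ hh2 h1 y hy)
      obtain ⟨k, hkH, hk⟩ : ∃ k ∈ H, k ∉ Subgroup.zpowers h := by
        by_contra hno
        push Not at hno
        exact hH (Subgroup.isCyclic_of_le hno)
      obtain ⟨m, hmH, hmA, hm1⟩ : ∃ m, m ∈ H ∧ m ∈ A ∧ m ≠ 1 := by
        by_cases hkA : k ∈ A
        · exact ⟨k, hkH, hkA, fun e => hk (e ▸ one_mem _)⟩
        · refine ⟨k * h, mul_mem hkH hhH, (Subgroup.mul_mem_iff_of_index_two hi).2 (iff_of_false hkA hhA), fun e => hk ?_⟩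
          rw [eq_inv_of_mul_eq_one_left e]
          exact inv_mem (Subgroup.mem_zpowers h)
      obtain ⟨j, hj⟩ := IsPGroup.iff_card.1 (hP.to_subgroup (Subgroup.zpowers m))
      have hj1 : 0 < j := Nat.pos_of_ne_zero fun e => hm1 (by
        rw [e, pow_zero, Nat.card_zpowers, orderOf_eq_one_iff] at hj; exact hj)
      obtain ⟨w, hw⟩ := exists_prime_orderOf_dvd_card' (G := Subgroup.zpowers m) 2 (hj ▸ dvd_pow_self 2 hj1.ne')
      intro y hy
      rcases eq_or_ne y 1 with rfl | hy1
      · exact one_mem _
      have hwA : (w : G) ∈ A := Subgroup.zpowers_le.2 hmA w.2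
      have hyw : y = (w : G) := by
        classical
        haveI : Fintype A := Fintype.ofFinite A
        have h4 := hA.card_pow_eq_one_le (n := 2) two_pos
        by_contra hne
        have hy2 : y ^ 2 = 1 := by
          have := pow_card_eq_one' (G := Subgroup.center G) (x := ⟨y, hy⟩)
          rw [hZ] at this
          exact congrArg Subtype.val this
        have hw2 : (w : G) ^ 2 = 1 := by
          have := pow_orderOf_eq_one w
          rw [hw] at this
          exact congrArg Subtype.val this
        have hw1 : (w : G) ≠ 1 := fun e => by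
          rw [show w = 1 from Subtype.ext e, orderOf_one] at hw; norm_num at hw
        have h3 : ({1, ⟨y, hZA hy⟩, ⟨(w : G), hwA⟩} : Finset A).card ≤ 2 := le_trans (Finset.card_le_card (by
          intro x hx
          simp only [Finset.mem_insert, Finset.mem_singleton] at hx
          simp only [Finset.mem_filter, Finset.mem_univ, true_and]
          rcases hx with rfl | rfl | rfl
          · simp
          · exact Subtype.ext hy2
          · exact Subtype.ext hw2)) h4
        rw [Finset.card_insert_of_notMem, Finset.card_pair (fun e => hne (congrArg Subtype.val e))] at h3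
        · omega
        · simp only [Finset.mem_insert, Finset.mem_singleton, Subtype.ext_iff, OneMemClass.coe_one]
          rintro (e | e)
          · exact hy1 e.symm
          · exact hw1 e.symm
      exact hyw ▸ Subgroup.zpowers_le.2 hmH w.2
    have hgh : h * g = g * h := Subgroup.mem_centralizer_iff.1 hg h hhH
    by_cases hgA : g ∈ A
    · have : g ∈ A ⊓ Subgroup.centralizer {h} := ⟨hgA, Subgroup.mem_centralizer_singleton_iff.2 hgh.symm⟩
      rw [hCA] at this
      exact hZH this
    · have : g * h ∈ A ⊓ Subgroup.centralizer {h} := ⟨(Subgroup.mul_mem_iff_of_index_two hi).2 (iff_of_false hgA hhA),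
        Subgroup.mem_centralizer_singleton_iff.2 (by rw [mul_assoc, ← mul_assoc h g h, hgh, mul_assoc])⟩
      rw [hCA] at this
      simpa using mul_mem (hZH this) (inv_mem hhH)

end Cfsg.Agent.S3919
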