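import Cfsg.Statements.S3920
import Mathlib

set_option autoImplicit false
open Cfsg

namespace Cfsg.Agent.S3920

/-- Say that a group has self-centralizing non-cyclic subgroups when every non-cyclic subgroup H satisfies C_G(H) ≤ H. For n ≥ 3, the dihedral group of order 2n has self-centralizing non-cyclic subgroups if and only if n is odd or a power of 2. -/
theorem result (n : ℕ) (hn : 3 ≤ n) : (∀ H : Subgroup (DihedralGroup n), ¬ IsCyclic ↥H → Subgroup.centralizer (H : Set (DihedralGroup n)) ≤ H) ↔ (Odd n ∨ ∃ k : ℕ, n = 2 ^ k) := by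
  have : NeZero n := ⟨by omega⟩
  constructor
  · intro h
    by_contra hcon
    push Not at hcon
    obtain ⟨hodd, hpow⟩ := hcon
    obtain ⟨q, hq, hqn, hq2⟩ : ∃ q, q.Prime ∧ q ∣ n ∧ q ≠ 2 := by
      by_contra hall
      push Not at hall
      exact hpow _ (Nat.eq_prime_pow_of_unique_prime_dvd (by omega) (fun {d} hd hdd => hall d hd hdd))
    have := Fact.mk hq
    let H : Subgroup (DihedralGroup n) :=
      { carrier := {g | match g with | .r j => (q : ZMod n) * j = 0 | .sr j => (q : ZMod n) * j = 0}
        one_mem' := mul_zero (q : ZMod n)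
        mul_mem' := by
          rintro (a | a) (b | b) ha hb <;> simp_all [mul_add, mul_sub]
        inv_mem' := by
          rintro (a | a) ha <;> simp_all }
    obtain ⟨c, hc⟩ := hqn
    have hc0 : c ≠ 0 := by rintro rfl; omega
    have hcn : c < n := by
      rw [hc]; exact lt_mul_left (Nat.pos_of_ne_zero hc0) hq.one_lt
    have hcz : (c : ZMod n) ≠ 0 := by
      rw [Ne, ZMod.natCast_eq_zero_iff]
      exact fun hd => absurd (Nat.le_of_dvd (Nat.pos_of_ne_zero hc0) hd) (by omega)
    have hqc : (q : ZMod n) * c = 0 := by rw [← Nat.cast_mul, ← hc, ZMod.natCast_self]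
    have h2c : (2 : ZMod n) * c ≠ 0 := by
      rw [show (2 : ZMod n) * c = ((2 * c : ℕ) : ZMod n) by push_cast; rfl, Ne, ZMod.natCast_eq_zero_iff, hc]
      intro hd
      have := (Nat.prime_dvd_prime_iff_eq hq Nat.prime_two).mp
        (Nat.dvd_of_mul_dvd_mul_right (Nat.pos_of_ne_zero hc0) hd)
      exact hq2 this
    have hr : DihedralGroup.r (c : ZMod n) ∈ H := hqc
    have hs : DihedralGroup.sr (0 : ZMod n) ∈ H := mul_zero (q : ZMod n)
    have hnc : ¬ IsCyclic H := by
      intro hH
      have := congrArg Subtype.val (mul_comm' (⟨_, hr⟩ : H) ⟨_, hs⟩)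
      simp only [Subgroup.coe_mul, DihedralGroup.r_mul_sr, DihedralGroup.sr_mul_r,
        DihedralGroup.sr.injEq] at this
      exact h2c (by linear_combination -this)
    obtain ⟨d, hd⟩ : 2 ∣ n := even_iff_two_dvd.mp (Nat.not_odd_iff_even.mp hodd)
    have hdd : (d : ZMod n) + d = 0 := by rw [← Nat.cast_add, ← two_mul, ← hd, ZMod.natCast_self]
    have hneg : ∀ t : ZMod n, t + d = t - d := fun t => by linear_combination hdd
    have hzc : DihedralGroup.r (d : ZMod n) ∈ Subgroup.centralizer (H : Set (DihedralGroup n)) := by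
      rw [Subgroup.mem_centralizer_iff]
      rintro (a | a) ha
      · simp [add_comm]
      · simp [hneg]
    have hmem : (q : ZMod n) * d = 0 := h H hnc hzc
    rw [← Nat.cast_mul, ZMod.natCast_eq_zero_iff, hd] at hmem
    have : 2 ∣ q := Nat.dvd_of_mul_dvd_mul_right (by omega) hmem
    exact hq2 ((Nat.prime_dvd_prime_iff_eq Nat.prime_two hq).mp this).symm
  · intro hn' H hH g hg
    rw [Subgroup.mem_centralizer_iff] at hg
    obtain ⟨i, hi⟩ : ∃ i, DihedralGroup.sr i ∈ H := by
      by_contra hall
      push Not at hall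
      refine hH ?_
      have hle : H ≤ Subgroup.zpowers (DihedralGroup.r (1 : ZMod n)) := by
        rintro (a | a) ha
        · exact ⟨(a.val : ℤ), by simp⟩
        · exact absurd ha (hall a)
      exact isCyclic_of_injective (Subgroup.inclusion hle) (Subgroup.inclusion_injective hle)
    obtain ⟨l, hl, hl0⟩ : ∃ l, DihedralGroup.r l ∈ H ∧ l ≠ 0 := by
      by_contra hall
      push Not at hall
      refine hH ?_
      have hle : H ≤ Subgroup.zpowers (DihedralGroup.sr i) := by
        rintro (a | a) ha
        · rw [hall a ha, ← DihedralGroup.one_def]; exact Subgroup.one_mem _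
        · have := hall _ (by simpa using H.mul_mem hi ha)
          rw [sub_eq_zero] at this
          rw [this]; exact Subgroup.mem_zpowers _
      exact isCyclic_of_injective (Subgroup.inclusion hle) (Subgroup.inclusion_injective hle)
    have hrot : ∀ m : ℕ, DihedralGroup.r ((m : ZMod n) * l) ∈ H := fun m => by
      induction m with
      | zero => simp [← DihedralGroup.one_def, H.one_mem]
      | succ m ih =>
        have := H.mul_mem ih hl
        simpa [add_mul] using this
    have hhalf : ∀ j : ZMod n, 2 * j = 0 → DihedralGroup.r j ∈ H := by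
      intro j hj
      obtain ⟨j, rfl⟩ := ZMod.natCast_zmod_surjective j
      rw [show (2 : ZMod n) * (j : ZMod n) = ((2 * j : ℕ) : ZMod n) by push_cast; rfl,
        ZMod.natCast_eq_zero_iff] at hj
      rcases hn' with ho | ⟨k, hk⟩
      · have : (j : ZMod n) = 0 := (ZMod.natCast_eq_zero_iff _ _).mpr
          ((Nat.coprime_two_right.mpr ho).dvd_of_dvd_mul_left hj)
        rw [this, ← DihedralGroup.one_def]; exact H.one_mem
      · obtain ⟨k, rfl⟩ : ∃ k', k = k' + 1 := ⟨k - 1, by
          rcases k with _ | k
          · simp at hk; omega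
          · omega⟩
        obtain ⟨v, rfl⟩ := ZMod.natCast_zmod_surjective l
        rw [Ne, ZMod.natCast_eq_zero_iff] at hl0
        obtain ⟨u, hu⟩ : ∃ u, j = 2 ^ k * u := by
          rw [hk, pow_succ'] at hj
          exact Nat.dvd_of_mul_dvd_mul_left (by norm_num) hj
        obtain ⟨i', w, hw, hv⟩ := Nat.exists_eq_pow_mul_and_not_dvd (n := v) (by rintro rfl; simp at hl0) 2 (by norm_num)
        have hik : i' ≤ k := by
          by_contra hcon
          exact hl0 (hk ▸ hv ▸ Dvd.dvd.mul_right (pow_dvd_pow 2 (by omega)) w)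
        -- multiplying by `2 ^ (k - i') * u` lands on `j`
        have hmul : ((2 ^ (k - i') * u : ℕ) : ZMod n) * (v : ZMod n) = (j : ZMod n) := by
          rw [← Nat.cast_mul, ZMod.natCast_eq_natCast_iff']
          obtain ⟨w', rfl⟩ : Odd w := Nat.not_even_iff_odd.mp fun he => hw he.two_dvd
          have he : 2 ^ (k - i') * u * v = j + n * (w' * u) := by
            rw [hv, hu, hk, pow_succ, show (2:ℕ) ^ k = 2 ^ (k - i') * 2 ^ i' by rw [← pow_add]; congr 1; omega]
            ring
          rw [he, Nat.add_mul_mod_self_left]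
        exact hmul ▸ hrot _
    rcases g with a | a
    · have h1 := hg _ hi
      simp only [DihedralGroup.r_mul_sr, DihedralGroup.sr_mul_r, DihedralGroup.sr.injEq] at h1
      exact hhalf a (by linear_combination h1)
    · have h1 := hg _ hi
      simp only [DihedralGroup.sr_mul_sr, DihedralGroup.r.injEq] at h1
      have := H.mul_mem hi (hhalf (a - i) (by linear_combination h1))
      simpa using this

end Cfsg.Agent.S3920
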