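import Cfsg.Statements.S3921
import Cfsg.Agent.SelfCentNC.Structure
-- import your own Cfsg.Agent.* helpers here

set_option autoImplicit false
open Cfsg

namespace Cfsg.Agent.S3921

/-- Say that a group has self-centralizing non-cyclic subgroups when every non-cyclic subgroup H satisfies C_G(H) ≤ H. A non-abelian finite simple group has self-centralizing non-cyclic subgroups if and only if it is isomorphic to PSL₂(q) with q = 4, q = 9, or q a prime of the form 2^k + 1 or 2^k − 1. -/
theorem result {G : Type*} [Group G] [Finite G] [IsSimpleGroup G] (hna : ¬ IsMulCommutative G) :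
    (∀ H : Subgroup G, ¬ IsCyclic ↥H → Subgroup.centralizer (H : Set G) ≤ H) ↔ ∃ (F : Type) (_ : Field F) (_ : Fintype F),
      (Fintype.card F = 4 ∨ Fintype.card F = 9 ∨ ((Fintype.card F).Prime ∧ ∃ k : ℕ, Fintype.card F = 2 ^ k + 1 ∨ Fintype.card F = 2 ^ k - 1)) ∧
      Nonempty (G ≃* Matrix.ProjectiveSpecialLinearGroup (Fin 2) F) := by
  classical
  constructor
  · intro hP
    obtain ⟨F, i1, i2, hodd, ⟨e⟩⟩ := Cfsg.Lib.SelfCentNC.exists_psl hna hP
    haveI : IsSimpleGroup (Matrix.ProjectiveSpecialLinearGroup (Fin 2) F) := e.symm.isSimpleGroup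
    have hnaX : ¬ IsMulCommutative (Matrix.ProjectiveSpecialLinearGroup (Fin 2) F) := fun h =>
      hna ⟨⟨fun a b => e.injective (by rw [map_mul, map_mul, mul_comm'])⟩⟩
    have hPX := Cfsg.Lib.SelfCentNC.hasProp_congr e.symm hP
    obtain ⟨k, hk⟩ := Cfsg.Lib.SelfCentNC.psl_two_power hodd fun y hy =>
      Cfsg.Lib.SelfCentNC.cent_two_group hnaX hPX hy
    obtain ⟨p, hp⟩ := CharP.exists F
    obtain ⟨f, hpp, hf⟩ := FiniteField.card F p
    have hp2 : p ≠ 2 := by
      rintro rfl
      rw [hf] at hodd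
      exact Nat.not_even_iff_odd.2 hodd ((Nat.even_pow' f.pos.ne').2 even_two)
    refine ⟨F, i1, i2, ?_, ⟨e⟩⟩
    rcases Cfsg.Lib.SelfCentNC.prime_or_nine hpp hp2 f.pos.ne' (by rwa [← hf]) with h | h
    · refine Or.inr (Or.inr ⟨hf ▸ h, k, ?_⟩)
      omega
    · exact Or.inr (Or.inl (hf ▸ h))
  · rintro ⟨F, i1, i2, hq, ⟨e⟩⟩
    refine Cfsg.Lib.SelfCentNC.hasProp_congr e (Cfsg.Lib.SelfCentNC.psl_prop ?_ (fun hmod => ?_) (fun hmod => ?_))
    · rcases hq with h | h | ⟨h, -⟩
      exacts [Or.inr (Or.inl h), Or.inr (Or.inr h), Or.inl h]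
    · rcases hq with h | h | ⟨hpr, k, h | h⟩
      · omega
      · exact ⟨3, by omega⟩
      · exact ⟨k, by omega⟩
      · exfalso
        rcases Nat.lt_or_ge k 2 with hk2 | hk2
        · have := hpr.two_le
          interval_cases k <;> omega
        · obtain ⟨d, rfl⟩ : ∃ d, k = d + 2 := ⟨k - 2, by omega⟩
          rw [pow_add] at h
          have := Nat.one_le_two_pow (n := d)
          omega
    · rcases hq with h | h | ⟨hpr, k, h | h⟩
      · omega
      · omega
      · rcases Nat.lt_or_ge k 2 with hk2 | hk2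
        · have := hpr.two_le
          interval_cases k
          · omega
          · exact ⟨2, by omega⟩
        · obtain ⟨d, rfl⟩ : ∃ d, k = d + 2 := ⟨k - 2, by omega⟩
          rw [pow_add] at h
          omega
      · exact ⟨k, by have := Nat.one_le_two_pow (n := k); omega⟩

end Cfsg.Agent.S3921
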