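import Cfsg.Statements.S3922
import Cfsg.Agent.ItoRankTwo.Antichain
-- import your own Cfsg.Agent.* helpers here

set_option autoImplicit false
open Cfsg

namespace Cfsg.Agent.S3922

/-- A finite group whose conjugacy classes have exactly three distinct sizes (1 and two further values) is solvable. -/
theorem result {G : Type*} [Group G] [Finite G] (n₁ n₂ : ℕ) (h12 : n₂ < n₁) (h2 : 1 < n₂)
    (h : ∀ x : G, (Subgroup.centralizer ({x} : Set G)).index = 1 ∨ (Subgroup.centralizer ({x} : Set G)).index = n₂ ∨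
      (Subgroup.centralizer ({x} : Set G)).index = n₁)
    (h₁ : ∃ x : G, (Subgroup.centralizer ({x} : Set G)).index = n₁) (h₂ : ∃ x : G, (Subgroup.centralizer ({x} : Set G)).index = n₂) :
    Group.IsSolvable G := by
  obtain ⟨x, hx⟩ := h₁
  obtain ⟨y, hy⟩ := h₂
  have hG : 0 < Nat.card G := Nat.card_pos
  have hd1 : n₁ ∣ Nat.card G := hx ▸ Subgroup.index_dvd_card _
  have hd2 : n₂ ∣ Nat.card G := hy ▸ Subgroup.index_dvd_card _
  have S : Cfsg.Lib.ItoRankTwo.Sizes G (Nat.card G / n₂) (Nat.card G / n₁) := by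
    refine ⟨fun g hg => ?_, ?_⟩
    · have hm := (Subgroup.centralizer ({g} : Set G)).index_mul_card
      rcases h g with e | e | e
      · exact absurd (Subgroup.mem_center_iff.2 fun c => Subgroup.mem_centralizer_singleton_iff.1
          (Subgroup.index_eq_one.1 e ▸ Subgroup.mem_top c)) hg
      · exact Or.inl (by rw [← hm, e, Nat.mul_div_cancel_left _ (by omega)])
      · exact Or.inr (by rw [← hm, e, Nat.mul_div_cancel_left _ (by omega)])
    · obtain ⟨a, ha⟩ := hd1
      obtain ⟨b, hb⟩ := hd2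
      rw [ha] at hG
      nth_rewrite 1 [ha]
      rw [hb, Nat.mul_div_cancel_left _ (by omega), Nat.mul_div_cancel_left _ (by omega)]
      by_contra hle
      have h3 : n₂ * b < n₁ * b := Nat.mul_lt_mul_of_pos_right h12
        (Nat.pos_of_ne_zero fun e => by rw [e, mul_zero] at hb; omega)
      have h4 : n₁ * b ≤ n₁ * a := Nat.mul_le_mul_left _ (not_lt.1 hle)
      omega
  by_cases hex : ∃ a b : G, a ∉ Subgroup.center G ∧ b ∉ Subgroup.center G ∧
      Subgroup.centralizer ({b} : Set G) < Subgroup.centralizer ({a} : Set G)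
  · obtain ⟨a, b, ha, hb, hab⟩ := hex
    exact S.solvable_of_lt ha hb hab
  · refine Cfsg.Lib.ItoRankTwo.Sizes.solvable_of_anti (fun a b ha hb hle => ?_) S
    by_contra hne
    exact hex ⟨a, b, ha, hb, lt_of_le_of_ne hle hne⟩

end Cfsg.Agent.S3922
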