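import Cfsg.Statements.S3930
import Cfsg.Agent.Pyramidal.Top
import Cfsg.Agent.Pyramidal.Example

set_option autoImplicit false
open Cfsg

namespace Cfsg.Agent.S3930

/-- Call a finite group m-pyramidal when it has exactly m involutions and they form a single conjugacy class. Let p be an odd prime and k ≥ 1. Then every p^k-pyramidal finite group is solvable if and only if k is odd or p^k = 9. -/
theorem result (p k : ℕ) (hp : p.Prime) (hp2 : p ≠ 2) (hk : 1 ≤ k) :
    (∀ (G : Type) [Group G] [Finite G], Nat.card {x : G // orderOf x = 2} = p ^ k →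
      (∀ x y : G, orderOf x = 2 → orderOf y = 2 → ∃ g : G, g * x * g⁻¹ = y) → Group.IsSolvable G) ↔ (Odd k ∨ p ^ k = 9) := by
  constructor
  · intro h
    by_contra hc
    push Not at hc
    obtain ⟨hodd, h9⟩ := hc
    obtain ⟨m, rfl⟩ := Nat.not_odd_iff_even.1 hodd
    haveI : Fact p.Prime := ⟨hp⟩
    have hm : m ≠ 0 := by omega
    have hF : Nat.card (GaloisField p m) = p ^ m := GaloisField.card p m hm
    haveI : Finite (GaloisField p m) := Nat.finite_of_card_ne_zero (by rw [hF]; exact pow_ne_zero _ hp.ne_zero)
    haveI : Fintype (GaloisField p m) := Fintype.ofFinite _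
    have h2 : (2 : GaloisField p m) ≠ 0 := by
      intro e
      have h2' : ((2 : ℕ) : GaloisField p m) = 0 := by exact_mod_cast e
      rw [CharP.cast_eq_zero_iff (GaloisField p m) p 2] at h2'
      exact hp2 ((Nat.prime_dvd_prime_iff_eq hp Nat.prime_two).1 h2')
    have h4 : 4 ≤ Fintype.card (GaloisField p m) := by
      rw [← Nat.card_eq_fintype_card, hF]
      by_contra hlt
      have hp3 : p ≤ p ^ m := Nat.le_self_pow hm p
      have := hp.two_le
      have hp' : p = 3 := by omega
      subst hp'
      refine h9 ?_
      rw [pow_add]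
      have : 3 ^ m = 3 := by omega
      rw [this]; norm_num
    haveI : Finite (Cfsg.Lib.Pyramidal.Example.Grp (GaloisField p m)) :=
      Finite.of_injective (fun x => (x.left.toAdd, x.right)) fun a b e =>
        SemidirectProduct.ext (Multiplicative.toAdd.injective (congrArg Prod.fst e)) (congrArg Prod.snd e)
    refine Cfsg.Lib.Pyramidal.Example.not_solvable h4
      (h (Cfsg.Lib.Pyramidal.Example.Grp (GaloisField p m)) ?_
        (fun x y => Cfsg.Lib.Pyramidal.Example.involutions_conj h2 x y))
    rw [Cfsg.Lib.Pyramidal.Example.card_involutions h2, Nat.card_fun, hF, Nat.card_fin, ← pow_mul, mul_two]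
  · intro hcond G _ _ hn htr
    exact Cfsg.Lib.Pyramidal.solvable_of_pyramidal hp hk hcond hn htr

end Cfsg.Agent.S3930
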