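import Cfsg.Statements.S3933
import Cfsg.Agent.SolvStruct.SylowNumber.Basic
import Cfsg.Agent.Chars.Burnside

/-!
If `n_u` is a power of `v` and `n_w`, for a prime `w ≠ v`, is a power of a prime different from `v`,
then the normaliser of a Sylow `u`-subgroup contains a Sylow `w`-subgroup `Q` and, as a Sylow
`v`-subgroup normalising `Q` complements it, all conjugates of `Q`. So no three primes divide the
order of a simple group of this kind.
-/

set_option autoImplicit false
set_option linter.style.haveILetI false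
open Cfsg

universe u

namespace Cfsg.Agent.S3933

open Subgroup

/-- A Sylow `v`-subgroup meets every coset of a subgroup of `v`-power index. -/
theorem exists_mul_mem {G : Type u} [Group G] [Finite G] {v c : ℕ} [Fact v.Prime] (N : Subgroup G)
    (hN : N.index = v ^ c) (V : Sylow v G) (g : G) : ∃ x ∈ V, x⁻¹ * g ∈ N := by
  have h1 := Subgroup.relIndex_mul_index (inf_le_left : N ⊓ V ≤ N)
  have h2 := Subgroup.relIndex_mul_index (inf_le_right : N ⊓ (V : Subgroup G) ≤ V)
  rw [inf_relIndex_left] at h1
  rw [inf_relIndex_right, ← h1, hN] at h2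
  have hcop : (v ^ c).Coprime (V : Subgroup G).index :=
    Nat.Coprime.pow_left _ ((Fact.out : v.Prime).coprime_iff_not_dvd.mpr V.not_dvd_index)
  have h3 : v ^ c ∣ N.relIndex V := hcop.dvd_of_dvd_mul_right (h2 ▸ Dvd.intro_left _ rfl)
  have h4 : N.relIndex V ≤ N.index := by
    rw [← relIndex_top_right]
    exact relIndex_le_of_le_right le_top (by rw [relIndex_top_right]; exact index_ne_zero_of_finite)
  have h5 : Nat.card ((V : Subgroup G) ⧸ N.subgroupOf V) = Nat.card (G ⧸ N) :=
    le_antisymm h4 (hN.le.trans (Nat.le_of_dvd (Nat.pos_of_ne_zero index_ne_zero_of_finite) h3))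
  let φ : (V : Subgroup G) ⧸ N.subgroupOf V → G ⧸ N := Quotient.lift (fun x => ((x : G) : G ⧸ N))
    fun a b hab => QuotientGroup.eq.mpr
      (by simpa [mem_subgroupOf] using QuotientGroup.leftRel_apply.mp hab)
  have hinj : Function.Injective φ := by
    intro a b
    induction a using QuotientGroup.induction_on with
    | _ a =>
      induction b using QuotientGroup.induction_on with
      | _ b => exact fun hab => QuotientGroup.eq.mpr (mem_subgroupOf.mpr (QuotientGroup.eq.mp hab :))
  obtain ⟨q, hq⟩ := ((Nat.bijective_iff_injective_and_card φ).mpr ⟨hinj, h5⟩).2 (g : G ⧸ N)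
  induction q using QuotientGroup.induction_on with
  | _ x => exact ⟨x, x.2, QuotientGroup.eq.mp hq⟩

/-- A subgroup of index prime to `w` contains a Sylow `w`-subgroup. -/
theorem exists_sylow_le {G : Type u} [Group G] [Finite G] (N : Subgroup G) {w : ℕ} [Fact w.Prime]
    (h : ¬ w ∣ N.index) : ∃ Q : Sylow w G, (Q : Subgroup G) ≤ N := by
  obtain ⟨R⟩ := (inferInstance : Nonempty (Sylow w N))
  have hi : ¬ w ∣ ((R : Subgroup N).map N.subtype).index := by
    rw [index_map, N.ker_subtype, sup_bot_eq, N.range_subtype]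
    exact (Fact.out : w.Prime).not_dvd_mul R.not_dvd_index h
  exact ⟨(R.2.map N.subtype).toSylow hi, map_subtype_le _⟩

theorem false_of_simple {G : Type u} [Group G] [Finite G] [IsSimpleGroup G]
    (hns : ¬ Group.IsSolvable G)
    (h : ∀ (r : ℕ) [Fact r.Prime], Nat.card (Sylow r G) = 1 ∨ IsPrimePow (Nat.card (Sylow r G))) :
    False := by
  classical
  -- the prime of each Sylow number
  have hf : ∀ r : ℕ, r.Prime → r ∣ Nat.card G → ∃ v : ℕ, v.Prime ∧ v ≠ r ∧ v ∣ Nat.card G ∧
      ∃ c : ℕ, 0 < c ∧ ∀ R : Sylow r G, (normalizer ((R : Subgroup G) : Set G)).index = v ^ c := by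
    intro r hr hrd
    haveI := Fact.mk hr
    obtain ⟨R⟩ := (inferInstance : Nonempty (Sylow r G))
    rcases h r with h1 | h1
    · exfalso
      rw [R.card_eq_index_normalizer, index_eq_one] at h1
      have hn : (R : Subgroup G).Normal := normalizer_eq_top_iff.mp h1
      rcases hn.eq_bot_or_eq_top with e | e
      · exact R.ne_bot_of_dvd_card hrd e
      · haveI : Group.IsNilpotent G := by
          have := R.2
          rw [e] at this
          exact (this.of_equiv Subgroup.topEquiv).isNilpotent
        exact hns inferInstance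
    · obtain ⟨v, c, hv, hc, e⟩ := (isPrimePow_nat_iff _).mp h1
      refine ⟨v, hv, fun evr => ?_, ?_, c, hc, fun R' => R'.card_eq_index_normalizer.symm.trans e.symm⟩
      · subst evr
        have h2 := card_sylow_modEq_one v G
        rw [← e] at h2
        have h3 : v ^ c % v = 0 := Nat.mod_eq_zero_of_dvd (dvd_pow_self v hc.ne') |> id
        rw [Nat.ModEq, h3, Nat.mod_eq_of_lt hv.one_lt] at h2
        omega
      · refine (dvd_pow_self v hc.ne').trans ?_
        rw [e, R.card_eq_index_normalizer]
        exact index_dvd_card _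
  choose f hfp hfne hfd c hc hidx using hf
  -- all primes but `f u` go to `f u`
  have key : ∀ u hu hud w hw hwd, w ≠ f u hu hud → f w hw hwd = f u hu hud := by
    intro u hu hud w hw hwd hne
    by_contra hfw
    set v := f u hu hud with hv
    haveI := Fact.mk hu
    haveI := Fact.mk hw
    haveI := Fact.mk (hfp u hu hud)
    obtain ⟨R⟩ := (inferInstance : Nonempty (Sylow u G))
    set N := normalizer ((R : Subgroup G) : Set G)
    have hNi : N.index = v ^ c u hu hud := hidx u hu hud R
    obtain ⟨Q, hQ⟩ := exists_sylow_le N (w := w) (by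
      rw [hNi]
      exact fun hd => hne ((Nat.prime_dvd_prime_iff_eq hw (hfp u hu hud)).mp (hw.dvd_of_dvd_pow hd)))
    obtain ⟨V, hV⟩ := exists_sylow_le (normalizer ((Q : Subgroup G) : Set G)) (w := v) (by
      rw [hidx w hw hwd Q]
      exact fun hd => hfw ((Nat.prime_dvd_prime_iff_eq (hfp u hu hud) (hfp w hw hwd)).mp
        ((hfp u hu hud).dvd_of_dvd_pow hd)).symm)
    have hle : normalClosure ((Q : Subgroup G) : Set G) ≤ N := by
      rw [normalClosure, closure_le]
      intro y hy
      obtain ⟨z, hz, hzy⟩ := Group.mem_conjugatesOfSet_iff.mp hy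
      obtain ⟨g, rfl⟩ := isConj_iff.mp hzy
      obtain ⟨x, hx, hxn⟩ := exists_mul_mem N hNi V g⁻¹
      have h1 : x⁻¹ * z * x ∈ (Q : Subgroup G) := by
        have := (mem_normalizer_iff.mp (inv_mem (hV hx)) z).mp hz
        simpa using this
      have h2 : (x⁻¹ * g⁻¹)⁻¹ * (x⁻¹ * z * x) * (x⁻¹ * g⁻¹) ∈ N :=
        mul_mem (mul_mem (inv_mem hxn) (hQ h1)) hxn
      rw [show (x⁻¹ * g⁻¹)⁻¹ * (x⁻¹ * z * x) * (x⁻¹ * g⁻¹) = g * z * g⁻¹ by group] at h2
      exact h2
    rcases (normalClosure_normal (s := ((Q : Subgroup G) : Set G))).eq_bot_or_eq_top with e | e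
    · exact Q.ne_bot_of_dvd_card hwd (le_bot_iff.mp fun z hz => e ▸ subset_normalClosure hz)
    · have h1 : N.index = 1 := index_eq_one.mpr (top_le_iff.mp (e ▸ hle))
      rw [hNi] at h1
      exact (Nat.one_lt_pow (hc u hu hud).ne' (hfp u hu hud).one_lt).ne' h1
  -- two primes only
  obtain ⟨u, hu, hud⟩ := Nat.exists_prime_and_dvd (n := Nat.card G)
    (Finite.one_lt_card (α := G)).ne'
  set v₁ := f u hu hud
  have hv₁ := hfp u hu hud
  have hv₁d := hfd u hu hud
  set v₂ := f v₁ hv₁ hv₁d
  have hv₂ := hfp v₁ hv₁ hv₁d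
  refine hns (Cfsg.Lib.Chars.burnside_isSolvable v₁ v₂ hv₁ hv₂ G ⟨(Nat.card G).factorization v₁,
    (Nat.card G).factorization v₂, ?_⟩)
  have h12 : v₂ ≠ v₁ := hfne v₁ hv₁ hv₁d
  have hall : ∀ w : ℕ, w.Prime → w ∣ Nat.card G → w = v₁ ∨ w = v₂ := by
    intro w hw hwd
    by_contra hcon
    push Not at hcon
    exact h12 ((key v₁ hv₁ hv₁d w hw hwd hcon.2).symm.trans (key u hu hud w hw hwd hcon.1))
  conv_lhs => rw [← Nat.prod_factorization_pow_eq_self (Nat.card_pos (α := G)).ne']
  have hsupp : (Nat.card G).factorization.support = {v₁, v₂} := by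
    ext w
    rw [Nat.support_factorization, Nat.mem_primeFactors, Finset.mem_insert, Finset.mem_singleton]
    exact ⟨fun ⟨hw, hwd, _⟩ => hall w hw hwd, fun hh => by
      rcases hh with rfl | rfl
      · exact ⟨hv₁, hv₁d, Nat.card_pos.ne'⟩
      · exact ⟨hv₂, hfd v₁ hv₁ hv₁d, Nat.card_pos.ne'⟩⟩
  rw [Finsupp.prod, hsupp, Finset.prod_pair h12.symm]

theorem isPrimePow_or_one_of_dvd {m n : ℕ} (h : n ∣ m) (hm : m = 1 ∨ IsPrimePow m) :
    n = 1 ∨ IsPrimePow n := by
  rcases eq_or_ne n 1 with e | e
  · exact Or.inl e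
  · rcases hm with e' | e'
    · exact Or.inl (Nat.dvd_one.mp (e' ▸ h))
    · exact Or.inr (e'.dvd h e)

theorem solvable_aux : ∀ (n : ℕ) (G : Type u) [Group G] [Finite G], Nat.card G = n →
    (∀ (r : ℕ) [Fact r.Prime], Nat.card (Sylow r G) = 1 ∨ IsPrimePow (Nat.card (Sylow r G))) →
    Group.IsSolvable G := by
  intro n
  induction n using Nat.strong_induction_on with
  | _ n ih =>
    intro G _ _ hn h
    subst hn
    by_contra hns
    haveI hnt : Nontrivial G := by
      by_contra hnt
      haveI := not_nontrivial_iff_subsingleton.mp hnt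
      exact hns (Group.isSolvable_of_comm fun a b => Subsingleton.elim _ _)
    haveI : IsSimpleGroup G := by
      refine { hnt with eq_bot_or_eq_top_of_normal := fun N hN => ?_ }
      by_contra hcon
      push Not at hcon
      haveI : Group.IsSolvable N := ih (Nat.card N) (lt_of_le_of_ne (card_le_card_group N) fun e =>
        hcon.2 (eq_top_of_card_eq N e)) N rfl fun r _ =>
        isPrimePow_or_one_of_dvd (Cfsg.Lib.SolvStruct.SylowNumber.card_sylow_normal_dvd N) (h r)
      haveI : Group.IsSolvable (G ⧸ N) := by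
        refine ih (Nat.card (G ⧸ N)) ?_ (G ⧸ N) rfl fun r _ =>
          isPrimePow_or_one_of_dvd (Cfsg.Lib.SolvStruct.SylowNumber.card_sylow_quotient_dvd N) (h r)
        rw [Subgroup.card_eq_card_quotient_mul_card_subgroup N]
        exact lt_mul_of_one_lt_right Nat.card_pos (N.one_lt_card_iff_ne_bot.mpr hcon.1)
      exact hns (Group.isSolvable_of_ker_le_range N.subtype (QuotientGroup.mk' N)
        (by simp [Subgroup.range_subtype]))
    exact false_of_simple hns h

/-- If for every prime r the number of Sylow r-subgroups of the finite group G is a prime power or 1, then G is solvable. -/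
theorem result {G : Type*} [Group G] [Finite G] (h : ∀ (r : ℕ) [Fact r.Prime], Nat.card (Sylow r G) = 1 ∨ IsPrimePow (Nat.card (Sylow r G))) :
    Group.IsSolvable G :=
  solvable_aux _ G rfl h

end Cfsg.Agent.S3933
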