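import Cfsg.Statements.S3937
import Cfsg.Agent.SolvStruct.Engel

set_option autoImplicit false
open Cfsg

namespace Cfsg.Agent.S3937

open scoped commutatorElement

theorem engel_iff {G : Type*} [Group G] (g : G) (x : G) (n : ℕ) :
    (List.replicate n g).foldl (fun a b => a * b * a⁻¹ * b⁻¹) x = (fun a => ⁅a, g⁆)^[n] x := by
  induction n generalizing x with
  | zero => rfl
  | succ n ih =>
    rw [List.replicate_succ, List.foldl_cons, ih, Function.iterate_succ_apply]
    rfl


/-- Baer's characterization of the Fitting subgroup: in a finite group G, an element g lies in the Fitting subgroup if and only if g is a left Engel element, that is, for every x there is n with [x, g, g, …, g] = 1 (n entries g, [a, b] = aba⁻¹b⁻¹). -/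
theorem result {G : Type*} [Group G] [Finite G] (g : G) :
    g ∈ Cfsg.fittingSubgroup G ↔ ∀ x : G, ∃ n : ℕ, (List.replicate n g).foldl (fun a b => a * b * a⁻¹ * b⁻¹) x = 1 := by
  constructor
  · intro hg x
    set F := Cfsg.fittingSubgroup G
    obtain ⟨n, hn⟩ := (Subgroup.isNilpotent_iff_lowerCentralSeries (S := F)).1 Cfsg.Lib.Components.isNilpotent_fitting
    refine ⟨n + 1, ?_⟩
    rw [engel_iff]
    have key : ∀ m, (fun a => ⁅a, g⁆)^[m + 1] x ∈ F.lowerCentralSeries m := by
      intro m
      induction m with
      | zero =>
        show ⁅x, g⁆ ∈ F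
        rw [show ⁅x, g⁆ = x * g * x⁻¹ * g⁻¹ from commutatorElement_def x g]
        exact mul_mem (Subgroup.Normal.conj_mem inferInstance g hg x) (inv_mem hg)
      | succ m ih =>
        rw [Function.iterate_succ_apply']
        exact Subgroup.commutator_mem_commutator ih hg
    simpa [hn] using key n
  · intro h
    refine Cfsg.Lib.SolvStruct.mem_fitting_of_engel _ G rfl g fun x => ?_
    obtain ⟨n, hn⟩ := h x
    exact ⟨n, by rwa [engel_iff] at hn⟩

end Cfsg.Agent.S3937
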