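import Cfsg.Statements.S3939
import Cfsg.Agent.SolvStruct.Engel
import Cfsg.Agent.SolvStruct.NilpotentHall
import Cfsg.Agent.Components.Supplement
import Cfsg.Agent.Coprime.Generation
import Cfsg.Agent.Coprime.Fitting
import Cfsg.Agent.PGroups.Basic
import Cfsg.Agent.S0064

set_option autoImplicit false
open Cfsg

namespace Cfsg.Agent.S3939

open Subgroup
open scoped commutatorElement

theorem commute_of_nilpotent {K : Type*} [Group K] [Finite K] [Group.IsNilpotent K] {q : ℕ} [hq : Fact q.Prime]
    {a y : K} (ha : ∃ i, orderOf a = q ^ i) (hy : (orderOf y).Coprime q) : Commute a y := by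
  have hle : zpowers y ≤ centralizer ({a} : Set K) := Cfsg.Lib.Coprime.le_of_forall_sylow fun r hr => by
    haveI := Fact.mk hr
    obtain ⟨R⟩ : Nonempty (Sylow r (zpowers y)) := inferInstance
    refine ⟨R, ?_⟩
    rintro _ ⟨z, hz, rfl⟩
    obtain ⟨i, hi⟩ := IsPGroup.iff_orderOf.1 R.2 ⟨z, hz⟩
    rw [Subgroup.orderOf_mk] at hi
    rw [mem_centralizer_singleton_iff]
    by_cases hrq : r = q
    · have h1 : orderOf z ∣ orderOf y :=
        by rw [← Nat.card_zpowers y]; exact _root_.orderOf_dvd_natCard z
      have h2 : (orderOf z).Coprime (q ^ i) := (Nat.Coprime.coprime_dvd_left h1 hy).pow_right i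
      rw [hi, hrq] at h2
      have h3 : q ^ i = 1 := by simpa using h2
      have h4 : z = 1 := orderOf_eq_one_iff.1 (by rw [hi, hrq, h3])
      simp [h4]
    · exact (Cfsg.Lib.SolvStruct.commute_of_coprime_of_nilpotent (Ne.symm hrq) ha
        ⟨i, (Subgroup.orderOf_coe z).trans hi⟩).eq.symm
  exact (mem_centralizer_singleton_iff.1 (hle (mem_zpowers y))).symm


/-- In a finite group G the set of elements g such that the subgroup generated by g and x is nilpotent for every x ∈ G is exactly the hypercenter of G (the last term of the upper central series). -/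
theorem result {G : Type*} [Group G] [Finite G] (g : G) :
    (∀ x : G, Group.IsNilpotent ↥(Subgroup.closure ({x, g} : Set G))) ↔ g ∈ ⨆ n : ℕ, Subgroup.upperCentralSeries G n := by
  obtain ⟨N, hN⟩ : ∃ N, ∀ m, N ≤ m → Subgroup.upperCentralSeries G N = Subgroup.upperCentralSeries G m :=
    wellFoundedGT_iff_monotone_chain_condition.1 inferInstance ⟨Subgroup.upperCentralSeries G, Subgroup.upperCentralSeries_mono G⟩
  set Z := Subgroup.upperCentralSeries G N with hZdef
  have hZ : (⨆ n : ℕ, Subgroup.upperCentralSeries G n) = Z := le_antisymm (iSup_le fun n => by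
    rcases le_total n N with h | h
    · exact Subgroup.upperCentralSeries_mono G h
    · exact (hN n h).ge) (le_iSup (Subgroup.upperCentralSeries G) N)
  rw [hZ]
  have hstab : ∀ z, (∀ y, ⁅z, y⁆ ∈ Z) → z ∈ Z := fun z hz => by
    show z ∈ Z
    rw [hN (N + 1) (by omega)]
    exact Subgroup.mem_upperCentralSeries_succ_iff.2 hz
  constructor
  · intro h
    have hgF : g ∈ Cfsg.fittingSubgroup G := Cfsg.Lib.SolvStruct.mem_fitting_of_engel _ G rfl g fun x => by
      set K := closure ({x, g} : Set G)
      obtain ⟨n, hn⟩ := (isNilpotent_iff_lowerCentralSeries (S := K)).1 (h x)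
      refine ⟨n, ?_⟩
      have key : ∀ m, (fun a => ⁅a, g⁆)^[m] x ∈ K.lowerCentralSeries m := by
        intro m
        induction m with
        | zero => exact subset_closure (Set.mem_insert x _)
        | succ m ih =>
          rw [Function.iterate_succ_apply']
          exact commutator_mem_commutator ih (subset_closure (Set.mem_insert_of_mem x rfl))
      simpa [hn] using key n
    suffices hle : zpowers g ≤ Z from hle (mem_zpowers g)
    refine Cfsg.Lib.Coprime.le_of_forall_sylow fun q hq => ?_
    haveI := Fact.mk hq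
    obtain ⟨R⟩ : Nonempty (Sylow q (zpowers g)) := inferInstance
    refine ⟨R, ?_⟩
    rintro _ ⟨a, ha, rfl⟩
    show (a : G) ∈ Z
    obtain ⟨i, hi⟩ := IsPGroup.iff_orderOf.1 R.2 ⟨a, ha⟩
    rw [Subgroup.orderOf_mk, ← Subgroup.orderOf_coe] at hi
    have haF : (a : G) ∈ Cfsg.fittingSubgroup G := zpowers_le.2 hgF a.2
    have hapc : (a : G) ∈ Cfsg.pCore q G := by
      refine Cfsg.Lib.Components.le_pCore_of_subnormal (H := zpowers (a : G)) ?_
        (IsPGroup.of_card ((Nat.card_zpowers _).trans hi)) (mem_zpowers _)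
      haveI := Cfsg.Lib.Components.isNilpotent_fitting (G := G)
      exact IsSubnormal.trans (zpowers_le.2 haF) (Cfsg.Agent.S0064.result.1 inferInstance _)
        (Subgroup.Normal.isSubnormal inferInstance)
    set W := Cfsg.pCore q G ⊓ centralizer {y : G | (orderOf y).Coprime q} with hW
    haveI : (centralizer {y : G | (orderOf y).Coprime q}).Normal := ⟨fun w hw c => by
      rw [mem_centralizer_iff] at hw ⊢
      intro y hy
      have h1 := hw (c⁻¹ * y * c) (by
        have : orderOf (c⁻¹ * y * c) = orderOf y := by rw [← (MulAut.conj c⁻¹).orderOf_eq y]; simp [mul_assoc]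
        rw [Set.mem_setOf_eq, this]; exact hy)
      calc y * (c * w * c⁻¹) = c * ((c⁻¹ * y * c) * w) * c⁻¹ := by group
        _ = _ := by rw [h1]; group⟩
    have haW : (a : G) ∈ W := by
      refine ⟨hapc, mem_centralizer_iff.2 fun y hy => ?_⟩
      set K := closure ({y, g} : Set G)
      haveI := h y
      have hgK : zpowers g ≤ K := zpowers_le.2 (subset_closure (Set.mem_insert_of_mem y rfl))
      have hyK : y ∈ K := subset_closure (Set.mem_insert y _)
      have := commute_of_nilpotent (K := K) (q := q) (a := ⟨a, hgK a.2⟩) (y := ⟨y, hyK⟩)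
        ⟨i, by rw [Subgroup.orderOf_mk]; exact hi⟩ (by rw [Subgroup.orderOf_mk]; exact hy)
      exact (congrArg Subtype.val this.eq).symm
    suffices hWZ : W ≤ Z from hWZ haW
    by_contra hWZ
    set φ := QuotientGroup.mk' Z
    obtain ⟨Q⟩ : Nonempty (Sylow q G) := inferInstance
    have hWQ : W ≤ Q := inf_le_left.trans (Cfsg.Lib.Coprime.pCore_le_sylow q Q)
    set Qb := (Q : Subgroup G).map φ
    have hQb : IsPGroup q Qb := Q.2.map φ
    set Wb := (W.map φ).subgroupOf Qb
    haveI : (W.map φ).Normal := Subgroup.Normal.map inferInstance φ (QuotientGroup.mk'_surjective Z)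
    have hWb : Wb ≠ ⊥ := by
      intro e
      refine hWZ fun w hw => (QuotientGroup.eq_one_iff w).1 ?_
      have : (⟨φ w, mem_map_of_mem φ (hWQ hw)⟩ : Qb) ∈ Wb := mem_map_of_mem φ hw
      rw [e, mem_bot] at this
      exact congrArg Subtype.val this
    obtain ⟨w, hwW, hw1, hwc⟩ : ∃ w ∈ Wb, w ≠ 1 ∧ w ∈ center Qb := by
      obtain ⟨w, h1, h2, h3⟩ := Cfsg.Lib.PGroups.exists_mem_center_of_normal_ne_bot hQb hWb
      exact ⟨w, h1, fun e => by rw [e, orderOf_one] at h3; exact hq.ne_one h3.symm, h2⟩
    obtain ⟨w0, hw0, hw0e⟩ := hwW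
    refine hw1 (Subtype.ext (hw0e.symm.trans ((QuotientGroup.eq_one_iff w0).2 (hstab w0 fun y => ?_))))
    set C := (centralizer ({φ w0} : Set (G ⧸ Z))).comap φ
    have hC : (⊤ : Subgroup G) ≤ C := Cfsg.Lib.Coprime.le_of_forall_sylow fun r hr => by
      haveI := Fact.mk hr
      by_cases hrq : r = q
      · subst hrq
        refine ⟨Q.subtype le_top, ?_⟩
        rintro _ ⟨z, hz, rfl⟩
        show φ (z : G) ∈ centralizer _
        rw [mem_centralizer_singleton_iff, hw0e]
        exact congrArg Subtype.val (mem_center_iff.1 hwc ⟨φ (z : G), mem_map_of_mem φ hz⟩)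
      · obtain ⟨R'⟩ : Nonempty (Sylow r (⊤ : Subgroup G)) := inferInstance
        refine ⟨R', ?_⟩
        rintro _ ⟨z, hz, rfl⟩
        show φ (z : G) ∈ centralizer _
        obtain ⟨j, hj⟩ := IsPGroup.iff_orderOf.1 R'.2 ⟨z, hz⟩
        rw [Subgroup.orderOf_mk, ← Subgroup.orderOf_coe] at hj
        have hzc : (orderOf (z : G)).Coprime q := by
          rw [hj]; exact Nat.Coprime.pow_left j ((Nat.coprime_primes hr hq).2 hrq)
        rw [mem_centralizer_singleton_iff, ← map_mul, ← map_mul]
        exact congrArg φ (mem_centralizer_iff.1 hw0.2 _ hzc)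
    have h1 := mem_centralizer_singleton_iff.1 (hC (mem_top y))
    refine (QuotientGroup.eq_one_iff _).1 ?_
    show φ ⁅w0, y⁆ = 1
    rw [commutatorElement_def]
    simp only [map_mul, map_inv]
    rw [← h1]; group
  · intro hg x
    set K := closure ({x, g} : Set G)
    have hKle : K ≤ Z ⊔ zpowers x := (closure_le _).2 (by
      rintro y (rfl | rfl)
      · exact mem_sup_right (mem_zpowers _)
      · exact mem_sup_left hg)
    refine (isNilpotent_iff_lowerCentralSeries (S := K)).2 ⟨1 + N, ?_⟩
    have h1 : K.lowerCentralSeries 1 ≤ Z := by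
      refine commutator_le.2 fun a ha b hb => ?_
      obtain ⟨z, hz, u, ⟨i, rfl⟩, rfl⟩ := mem_sup_of_normal_left.1 (hKle ha)
      obtain ⟨z', hz', v, ⟨j, rfl⟩, rfl⟩ := mem_sup_of_normal_left.1 (hKle hb)
      refine (QuotientGroup.eq_one_iff _).1 ?_
      show QuotientGroup.mk' Z _ = 1
      rw [map_commutatorElement, map_mul, map_mul, show QuotientGroup.mk' Z z = 1 from (QuotientGroup.eq_one_iff z).2 hz,
        show QuotientGroup.mk' Z z' = 1 from (QuotientGroup.eq_one_iff z').2 hz', one_mul, one_mul,
        map_zpow, map_zpow, commutatorElement_eq_one_iff_mul_comm]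
      exact ((Commute.refl _).zpow_zpow i j).eq
    have key : ∀ j, j ≤ N → K.lowerCentralSeries (1 + j) ≤ Subgroup.upperCentralSeries G (N - j) := by
      intro j
      induction j with
      | zero => exact fun _ => h1
      | succ j ih =>
        intro hj
        refine (commutator_mono ((ih (by omega)).trans (le_of_eq ?_)) le_top).trans
          (Subgroup.commutator_upperCentralSeries_top_le G (N - (j + 1)))
        congr 1; omega
    simpa using key N le_rfl

end Cfsg.Agent.S3939
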