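import Cfsg.Statements.S3940
import Cfsg.Agent.SolvStruct.PPrimeNilpotent.Count

set_option autoImplicit false
open Cfsg

namespace Cfsg.Agent.S3940

universe u

private theorem aux (p : ℕ) (hp : p.Prime) (hp3 : 3 < p) (n : ℕ) :
    ∀ (G : Type u) [Group G] [Finite G], Nat.card G = n → Cfsg.Lib.PPrimeNil.Hyp p G →
      Group.IsSolvable G := by
  induction n using Nat.strong_induction_on with
  | h n ih =>
    intro G _ _ hn h
    by_contra hns
    haveI : Nontrivial G := by
      by_contra hc
      rw [not_nontrivial_iff_subsingleton] at hc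
      exact hns (Group.isSolvable_of_comm fun a b => Subsingleton.elim _ _)
    have hproper : ∀ K : Subgroup G, K ≠ ⊤ → Group.IsSolvable K := fun K hK =>
      ih _ (hn ▸ (K.card_le_card_group.lt_of_ne fun e => hK (Subgroup.eq_top_of_card_eq K e))) K rfl
        (Cfsg.Lib.PPrimeNil.hyp_subgroup h K)
    have hsimple : IsSimpleGroup G := by
      refine ⟨fun N hN => ?_⟩
      by_contra hc
      push Not at hc
      haveI := hproper N hc.2
      have hlt : Nat.card (G ⧸ N) < n := by
        rw [← hn, Subgroup.card_eq_card_quotient_mul_card_subgroup N]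
        refine lt_mul_of_one_lt_right Nat.card_pos ?_
        exact Subgroup.one_lt_card_iff_ne_bot N |>.2 hc.1
      haveI := ih _ hlt (G ⧸ N) rfl
        (Cfsg.Lib.PPrimeNil.hyp_of_surjective hp h (QuotientGroup.mk' N) (QuotientGroup.mk'_surjective N))
      exact hns (Group.isSolvable_of_ker_le_range N.subtype (QuotientGroup.mk' N)
        (by rw [QuotientGroup.ker_mk', Subgroup.range_subtype]))
    obtain ⟨S⟩ := (inferInstance : Nonempty (Sylow 2 G))
    obtain ⟨A, F⟩ := Cfsg.Lib.PPrimeNil.exists_frame ⟨hp, hp3, h, hsimple, hns, hproper⟩ S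
    obtain ⟨M, hse, hSM, hNM, -⟩ := Cfsg.Lib.PPrimeNil.Frame.exists_embedded F
    exact Cfsg.Lib.PPrimeNil.Emb.false ⟨F, hse, hSM, hNM⟩

/-- Let p > 3 be a prime and G a finite group in which every subgroup of order prime to p is nilpotent. Then G is solvable. -/
theorem result {G : Type*} [Group G] [Finite G] (p : ℕ) (hp : p.Prime) (hp3 : 3 < p)
    (h : ∀ H : Subgroup G, (Nat.card ↥H).Coprime p → Group.IsNilpotent ↥H) : Group.IsSolvable G :=
  aux p hp hp3 _ G rfl h

end Cfsg.Agent.S3940
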