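import Cfsg.Statements.S3941
import Mathlib

set_option autoImplicit false
open Cfsg

namespace Cfsg.Agent.S3941

/-- Let n ≥ 5 and p an odd prime with p ≤ n, and suppose that every proper subgroup of the alternating group of degree n whose order is divisible by p has a normal Sylow p-subgroup. Then n = p. -/
theorem result (n p : ℕ) (hn : 5 ≤ n) [Fact p.Prime] (hp : p ≠ 2) (hpn : p ≤ n)
    (h : ∀ H : Subgroup ↥(alternatingGroup (Fin n)), H ≠ ⊤ → p ∣ Nat.card ↥H → Cfsg.IsPClosed p ↥H) : n = p := by
  have hp' : p.Prime := Fact.out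
  by_contra hne
  obtain ⟨m, rfl⟩ : ∃ m, n = m + 1 := ⟨n - 1, by omega⟩
  have hpm : p ≤ m := by omega
  let e₀ : Fin m ≃ {i : Fin (m + 1) // i.val < m} :=
    { toFun := fun i => ⟨i.castSucc, i.isLt⟩
      invFun := fun i => ⟨i.1.val, i.2⟩
      left_inv := fun i => rfl
      right_inv := fun i => rfl }
  let ι : Equiv.Perm (Fin m) →* Equiv.Perm (Fin (m + 1)) :=
    Equiv.Perm.extendDomainHom e₀
  have hι : ∀ σ, Equiv.Perm.sign (ι σ) = Equiv.Perm.sign σ := fun σ => Equiv.Perm.sign_extendDomain σ _
  let f : alternatingGroup (Fin m) →* alternatingGroup (Fin (m + 1)) :=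
    (ι.comp (alternatingGroup (Fin m)).subtype).codRestrict _ (fun σ => by
      rw [Equiv.Perm.mem_alternatingGroup]
      exact (hι σ).trans σ.2)
  have hfi : Function.Injective f := fun a b hab => Subtype.ext
    (Equiv.Perm.extendDomainHom_injective e₀ (congrArg Subtype.val hab))
  have hm4 : 4 ≤ m := by omega
  have : Nontrivial (Fin m) := Fin.nontrivial_iff_two_le.mpr (by omega)
  have hcard : 2 * Nat.card (alternatingGroup (Fin m)) = m.factorial := by
    rw [two_mul_nat_card_alternatingGroup, Nat.card_perm, Nat.card_fin]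
  have hpd : p ∣ Nat.card (alternatingGroup (Fin m)) := by
    refine (Nat.Coprime.dvd_of_dvd_mul_left ((Nat.coprime_primes hp' Nat.prime_two).mpr hp) ?_)
    rw [hcard]
    exact (hp'.dvd_factorial).mpr hpm
  have hpm1 : p ∣ Nat.card f.range := by
    rwa [← Nat.card_congr (MonoidHom.ofInjective hfi).toEquiv]
  have htop : f.range ≠ ⊤ := by
    intro ht
    have h1 : Nat.card (alternatingGroup (Fin m)) = Nat.card (alternatingGroup (Fin (m + 1))) := by
      rw [Nat.card_congr (MonoidHom.ofInjective hfi).toEquiv, ht, Subgroup.card_top]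
    have : Nontrivial (Fin (m + 1)) := Fin.nontrivial_iff_two_le.mpr (by omega)
    have h2 : 2 * Nat.card (alternatingGroup (Fin (m + 1))) = (m + 1).factorial := by
      rw [two_mul_nat_card_alternatingGroup, Nat.card_perm, Nat.card_fin]
    rw [← h1, hcard, Nat.factorial_succ] at h2
    have := Nat.factorial_pos m
    nlinarith
  have hcl := h f.range htop hpm1
  obtain ⟨P⟩ := (inferInstance : Nonempty (Sylow p (alternatingGroup (Fin m))))
  have hPn : (P : Subgroup (alternatingGroup (Fin m))).Normal := by
    let e := MonoidHom.ofInjective hfi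
    obtain ⟨Q, hQ⟩ := (P.2.map e.toMonoidHom).exists_le_sylow
    have hQn := hcl Q
    have heq : (P : Subgroup (alternatingGroup (Fin m))) = (Q : Subgroup f.range).comap e.toMonoidHom :=
      (P.3 (Q.2.comap_of_injective _ e.injective) (Subgroup.map_le_iff_le_comap.mp hQ)).symm
    rw [heq]
    exact hQn.comap _
  have hPne : (P : Subgroup (alternatingGroup (Fin m))) ≠ ⊥ := P.ne_bot_of_dvd_card hpd
  have h2P : ¬ 2 ∣ Nat.card (P : Subgroup (alternatingGroup (Fin m))) := by
    obtain ⟨k, hk⟩ := IsPGroup.iff_card.mp P.2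
    rw [hk]
    exact fun hd => hp ((Nat.prime_dvd_prime_iff_eq Nat.prime_two hp').mp (Nat.prime_two.dvd_of_dvd_pow hd)).symm
  rcases Nat.lt_or_ge m 5 with h5 | h5
  · obtain rfl : m = 4 := by omega
    have hp3 : p = 3 := by
      rcases (by have := hp'.two_le; omega : p = 3 ∨ p = 4) with h1 | h1
      · exact h1
      · exact absurd (h1 ▸ hp') (by norm_num)
    subst hp3
    have h12 : Nat.card (alternatingGroup (Fin 4)) = 12 := by
      rw [show (4:ℕ).factorial = 24 from rfl] at hcard; omega
    have := Sylow.unique_of_normal P hPn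
    have h3 : ∀ g : alternatingGroup (Fin 4), g ^ 3 = 1 → g ∈ (P : Subgroup (alternatingGroup (Fin 4))) := by
      intro g hg
      have hp3 : IsPGroup 3 (Subgroup.zpowers g) := by
        rintro ⟨w, i, rfl⟩
        refine ⟨1, Subtype.ext ?_⟩
        show (g ^ i) ^ (3 ^ 1) = 1
        rw [pow_one, ← zpow_natCast, zpow_comm, zpow_natCast, hg, one_zpow]
      obtain ⟨Q, hQ⟩ := hp3.exists_le_sylow
      exact (Subsingleton.elim Q P) ▸ hQ (Subgroup.mem_zpowers g)
    have hPc : Nat.card (P : Subgroup (alternatingGroup (Fin 4))) = 3 := by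
      obtain ⟨k, hk⟩ := IsPGroup.iff_card.mp P.2
      have hd := Subgroup.card_subgroup_dvd_card (P : Subgroup (alternatingGroup (Fin 4)))
      rw [h12, hk] at hd
      have hk1 : 3 ^ k ≤ 12 := Nat.le_of_dvd (by norm_num) hd
      have hk0 : k ≠ 0 := fun h0 => hPne (Subgroup.card_eq_one.mp (by rw [hk, h0, pow_zero]))
      have hk3 : k < 3 := by
        by_contra hcon
        have := Nat.pow_le_pow_right (show 0 < 3 by norm_num) (Nat.le_of_not_lt hcon)
        omega
      rcases k with _ | _ | _ | k
      · omega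
      · simpa using hk
      · norm_num at hd
      · omega
    classical
    have h4 : (Finset.univ.filter fun g : alternatingGroup (Fin 4) => g ^ 3 = 1).card = 9 := by decide
    have h5 : (Finset.univ.filter fun g : alternatingGroup (Fin 4) => g ^ 3 = 1).card ≤
        (Finset.univ.filter fun g : alternatingGroup (Fin 4) => g ∈ (P : Subgroup _)).card :=
      Finset.card_le_card fun g hg => by
        simp only [Finset.mem_filter, Finset.mem_univ, true_and] at hg ⊢
        exact h3 g hg
    rw [h4, ← Fintype.card_subtype, ← Nat.card_eq_fintype_card, hPc] at h5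
    omega
  · have hs : IsSimpleGroup (alternatingGroup (Fin m)) := alternatingGroup.isSimpleGroup (by simpa using h5)
    rcases hPn.eq_bot_or_eq_top with h1 | h1
    · exact hPne h1
    · rw [h1, Subgroup.card_top] at h2P
      refine h2P ?_
      have h8 : 4 ∣ 2 * Nat.card (alternatingGroup (Fin m)) := by
        rw [hcard]
        exact Nat.dvd_factorial (by norm_num) (by omega)
      omega

end Cfsg.Agent.S3941
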