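import Cfsg.Statements.S3947
import Cfsg.Agent.SolvStruct.Zipper

set_option autoImplicit false
open Cfsg

namespace Cfsg.Agent.S3947

open Subgroup Cfsg.Lib.SolvStruct Cfsg.Lib.Transfer
open scoped Pointwise

universe u

variable {G : Type u} [Group G] [Finite G]

/-- subnormality inside a subgroup -/
def Sn (B M : Subgroup G) : Prop := (B.subgroupOf M).IsSubnormal

/-- generated by its conjugates of `A` -/
def Gen (A H : Subgroup G) : Prop := normalClosure ((A.subgroupOf H : Subgroup ↥H) : Set ↥H) = ⊤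

/-- the join of the proper overgroups generated by their conjugates of `A` -/
def Y (A : Subgroup G) : Subgroup G := sSup {H : Subgroup G | A ≤ H ∧ H ≠ ⊤ ∧ Gen A H}

theorem Sn.restrict {B M N : Subgroup G} (h : Sn B M) (hNM : N ≤ M) : Sn B N := by
  have h1 : ((B.subgroupOf M).comap (inclusion hNM)).IsSubnormal := IsSubnormal.comap _ h
  have e : (B.subgroupOf M).comap (inclusion hNM) = B.subgroupOf N := by
    ext x
    exact Iff.rfl
  rwa [e] at h1

theorem Sn.self (M : Subgroup G) : Sn M M := by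
  unfold Sn
  rw [subgroupOf_self]
  exact IsSubnormal.top

theorem exists_hull (A : Subgroup G) : ∀ (n : ℕ) (M : Subgroup G), Nat.card M = n → A ≤ M →
    ∃ H : Subgroup G, A ≤ H ∧ H ≤ M ∧ Gen A H ∧ Sn H M := by
  intro n
  induction n using Nat.strong_induction_on with
  | _ n ih =>
    intro M hn hAM
    by_cases hg : Gen A M
    · exact ⟨M, hAM, le_rfl, hg, Sn.self M⟩
    set K := normalClosure ((A.subgroupOf M : Subgroup ↥M) : Set ↥M) with hK
    have hKn : K.Normal := normalClosure_normal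
    have hlt : Nat.card ↥(K.map M.subtype) < n := by
      rw [card_map_of_injective M.subtype_injective, ← hn]
      exact lt_of_le_of_ne (card_le_card_group K) fun e => hg (eq_top_of_card_eq K e)
    obtain ⟨H, hAH, hHM, hH, hsn⟩ := ih _ hlt (K.map M.subtype) rfl fun a ha =>
      ⟨⟨a, hAM ha⟩, subset_normalClosure ha, rfl⟩
    have hKM : K.map M.subtype ≤ M := map_subtype_le K
    refine ⟨H, hAH, hHM.trans hKM, hH, ?_⟩
    have h1 := IsSubnormal.comap
      (M.subtype.subgroupMap K : ↥K →* ↥(K.map M.subtype)) hsn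
    refine IsSubnormal.trans (K := K) (fun x hx => ?_) ?_ hKn.isSubnormal
    · obtain ⟨k, hk, hkx⟩ := hHM hx
      rwa [← Subtype.ext hkx]
    · exact h1

theorem eq_of_sn {T B : Subgroup G} (hTB : T ≤ B) (hsn : Sn T B) (hg : Gen T B) : T = B := by
  refine le_antisymm hTB fun x hx => ?_
  rcases IsSubnormal.lt_normal hsn with h | ⟨K, hK, hTK, hKt⟩
  · exact (h ▸ mem_top (⟨x, hx⟩ : B) : (⟨x, hx⟩ : B) ∈ T.subgroupOf B)
  · haveI := hK
    exact absurd (top_unique (hg ▸ normalClosure_le_normal hTK)) hKt.ne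

theorem gen_trans {A H B : Subgroup G} (h1 : Gen A H) (hHB : H ≤ B) (h2 : Gen H B) : Gen A B := by
  set N := normalClosure ((A.subgroupOf B : Subgroup ↥B) : Set ↥B) with hN
  haveI : N.Normal := normalClosure_normal
  have h3 : H.subgroupOf B ≤ N := by
    have h4 : normalClosure ((A.subgroupOf H : Subgroup ↥H) : Set ↥H) ≤ N.comap (inclusion hHB) :=
      normalClosure_le_normal fun a ha => subset_normalClosure (show inclusion hHB a ∈ (A.subgroupOf B : Set B) from ha)
    unfold Gen at h1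
    rw [h1] at h4
    intro x hx
    have := h4 (mem_top (⟨(x : G), hx⟩ : H))
    rwa [mem_comap, show inclusion hHB ⟨(x : G), hx⟩ = x from Subtype.ext rfl] at this
  unfold Gen at h2 ⊢
  exact top_unique (h2 ▸ normalClosure_le_normal h3)

theorem sn_conj {B M : Subgroup G} {g : G} (h : Sn (MulAut.conj g • B) (MulAut.conj g • M)) : Sn B M := by
  have h1 := IsSubnormal.comap (((MulAut.conj g).toMonoidHom).subgroupMap M) h
  have e : Subgroup.comap (((MulAut.conj g).toMonoidHom).subgroupMap M)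
      ((MulAut.conj g • B).subgroupOf (MulAut.conj g • M)) = B.subgroupOf M := by
    ext x
    constructor
    · rintro ⟨b, hb, hbx⟩
      have : b = (x : G) := (MulAut.conj g).injective hbx
      show (x : G) ∈ B
      rwa [← this]
    · intro hx
      exact ⟨(x : G), hx, rfl⟩
  unfold Sn
  rw [← e]
  exact h1

theorem isCoatom_conj {M : Subgroup G} (h : IsCoatom M) (g : G) : IsCoatom (MulAut.conj g • M : Subgroup G) :=
  ((MulAut.conj g).mapSubgroup.isCoatom_iff M).mpr h

theorem conj_le_iff {B M : Subgroup G} (g : G) : MulAut.conj g • B ≤ MulAut.conj g • M ↔ B ≤ M :=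
  pointwise_smul_le_pointwise_smul_iff

theorem sn_sSup {M : Subgroup G} {L : Set (Subgroup G)} (hle : ∀ B ∈ L, B ≤ M) (h : ∀ B ∈ L, Sn B M) :
    Sn (sSup L) M := by
  have e : (sSup L).subgroupOf M = sSup ((fun B : Subgroup G => B.subgroupOf M) '' L) := by
    refine map_injective M.subtype_injective ?_
    rw [subgroupOf_map_subtype, inf_eq_left.2 (sSup_le hle), sSup_image, Subgroup.map_iSup, sSup_eq_iSup]
    refine iSup_congr fun C => ?_
    rw [Subgroup.map_iSup]
    exact iSup_congr fun hC => by rw [subgroupOf_map_subtype, inf_eq_left.2 (hle C hC)]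
  unfold Sn
  rw [e]
  exact isSubnormal_sSup _ (by rintro _ ⟨B, hB, rfl⟩; exact h B hB)

/-- a family of conjugates inside `P`, subnormal there, is normalized by a further one or by all of `P` -/
theorem norm_step (P : Subgroup G) (S R : Set (Subgroup G)) (hS : ∀ B ∈ S, B ≤ P ∧ Sn B P)
    (hinv : ∀ B ∈ S, ∀ v ∈ P, MulAut.conj v • B ∈ S) (hR : R ⊆ S) :
    P ≤ normalizer ((sSup R : Subgroup G) : Set G) ∨
      ∃ C ∈ S, C ∉ R ∧ C ≤ normalizer ((sSup R : Subgroup G) : Set G) := by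
  by_cases hall : S ⊆ R
  · refine Or.inl fun v hv => mem_normalizer_of_conj_smul_le ?_
    rw [conj_smul_eq_map, Subgroup.map_le_iff_le_comap]
    exact sSup_le fun B hB => Subgroup.map_le_iff_le_comap.1 (le_sSup (hall (hinv B (hR hB) v hv)))
  refine Or.inr ?_
  let f : Subgroup G → Subgroup P := fun B => B.subgroupOf P
  have hfinj : ∀ B ∈ S, ∀ C ∈ S, f B = f C → B = C := by
    intro B hB C hC e
    have e' := congrArg (Subgroup.map P.subtype) e
    simp only [f, subgroupOf_map_subtype, inf_eq_left.2 (hS B hB).1, inf_eq_left.2 (hS C hC).1] at e'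
    exact e'
  obtain ⟨B0, hB0, hB0'⟩ := Set.not_subset.1 hall
  obtain ⟨Z, hZ, hZ', hZn⟩ := exists_normalizes_sSup (f '' S) (f '' R)
    (by rintro _ ⟨B, hB, rfl⟩; exact (hS B hB).2)
    (by
      rintro _ ⟨B, hB, rfl⟩ v
      refine ⟨MulAut.conj (v : G) • B, hinv B hB v v.2, ?_⟩
      ext x
      constructor
      · rintro ⟨b, hb, hbx⟩
        exact ⟨⟨b, (hS B hB).1 hb⟩, hb, Subtype.ext hbx⟩
      · rintro ⟨b, hb, rfl⟩
        exact ⟨b, hb, rfl⟩)
    ⟨Set.image_mono hR, fun hle => by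
      obtain ⟨B, hB, hBe⟩ := hle ⟨B0, hB0, rfl⟩
      exact hB0' (hfinj B (hR hB) B0 hB0 hBe ▸ hB)⟩
  obtain ⟨B, hB, rfl⟩ := hZ
  refine ⟨B, hB, fun h => hZ' ⟨B, h, rfl⟩, fun b hb => ?_⟩
  have hbP := (hS B hB).1 hb
  have h1 : (⟨b, hbP⟩ : P) ∈ normalizer ((sSup (f '' R) : Subgroup P) : Set P) := hZn hb
  have h2' : (sSup (f '' R) : Subgroup P).map P.subtype = sSup R := by
    rw [sSup_image, Subgroup.map_iSup, sSup_eq_iSup]
    refine iSup_congr fun C => ?_
    rw [Subgroup.map_iSup]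
    exact iSup_congr fun hC => by rw [subgroupOf_map_subtype, inf_eq_left.2 (hS C (hR hC)).1]
  refine mem_normalizer_of_conj_smul_le ?_
  rw [← h2']
  rintro _ ⟨_, ⟨t, ht, rfl⟩, rfl⟩
  exact ⟨_, (Subgroup.mem_normalizer_iff.1 h1 t).1 ht, rfl⟩

theorem unique_max : ∀ (n : ℕ) (A : Subgroup G), Nat.card G - Nat.card A = n →
    normalClosure (A : Set G) = ⊤ → A ≠ ⊤ → Y A ≠ ⊤ →
    ∀ M M' : Subgroup G, IsCoatom M → IsCoatom M' → A ≤ M → A ≤ M' → M = M' := by
  intro n
  induction n using Nat.strong_induction_on with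
  | _ n ih =>
    intro A hn hA hAt hY M₁ M₂ hM₁ hM₂ hAM₁ hAM₂
    by_contra hne
    have ih' : ∀ A' : Subgroup G, Nat.card A < Nat.card A' → normalClosure (A' : Set G) = ⊤ → A' ≠ ⊤ →
        Y A' ≠ ⊤ → ∀ M M' : Subgroup G, IsCoatom M → IsCoatom M' → A' ≤ M → A' ≤ M' → M = M' := by
      intro A' hlt
      refine ih _ ?_ A' rfl
      have := card_le_card_group A'
      omega
    set Ω : Set (Subgroup G) := {B | ∃ g : G, B = MulAut.conj g • A} with hΩ
    have hΩc : ∀ B ∈ Ω, ∀ g : G, MulAut.conj g • B ∈ Ω := by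
      rintro B ⟨h, rfl⟩ g
      exact ⟨g * h, by rw [smul_smul, ← map_mul]⟩
    have hΩA : A ∈ Ω := ⟨1, by rw [map_one, one_smul]⟩
    have hΩcard : ∀ B ∈ Ω, Nat.card B = Nat.card A := by
      rintro B ⟨g, rfl⟩
      exact card_map_of_injective (MulAut.conj g).injective
    have hΩtop : ∀ B ∈ Ω, ∀ K : Subgroup G, K.Normal → B ≤ K → K = ⊤ := by
      rintro B ⟨g, rfl⟩ K hK hle
      refine top_unique (hA ▸ normalClosure_le_normal fun a ha => ?_)
      have h1 := hK.conj_mem' _ (hle ⟨a, ha, rfl⟩ : MulAut.conj g a ∈ K) g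
      rwa [MulAut.conj_apply, show g⁻¹ * (g * a * g⁻¹) * g = a by group] at h1
    have hMne : ∀ M : Subgroup G, IsCoatom M → ∀ B ∈ Ω, B ≤ M → ¬ M.Normal := fun M hM B hB hle hn' =>
      hM.1 (hΩtop B hB M hn' hle)
    -- at most one maximal subgroup in which a conjugate is not subnormal
    have U0 : ∀ M M' : Subgroup G, IsCoatom M → IsCoatom M' → A ≤ M → A ≤ M' → ¬ Sn A M → ¬ Sn A M' →
        M = M' := by
      have key : ∀ M : Subgroup G, IsCoatom M → A ≤ M → ¬ Sn A M → ∀ Z : Subgroup G, IsCoatom Z → Y A ≤ Z →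
          M = Z := by
        intro M hM hAM hns Z hZ hYZ
        obtain ⟨H, hAH, hHM, hH, hsn⟩ := exists_hull A _ M rfl hAM
        have hHt : H ≠ ⊤ := fun h => hM.1 (top_unique (h ▸ hHM))
        have hne' : A ≠ H := fun h => hns (h ▸ hsn)
        refine ih' H (lt_of_le_of_ne (card_le_of_le hAH) fun e => hne' (eq_of_le_of_card_ge hAH e.ge))
          (top_unique (hA ▸ normalClosure_mono hAH)) hHt ?_ M Z hM hZ hHM ((show H ≤ Y A from le_sSup (show H ∈ {B : Subgroup G | A ≤ B ∧ B ≠ ⊤ ∧ Gen A B} from ⟨hAH, hHt, hH⟩)).trans hYZ)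
        intro h
        refine hY (top_unique (h ▸ sSup_le_sSup ?_))
        rintro B ⟨hHB, hBt, hB⟩
        exact ⟨hAH.trans hHB, hBt, gen_trans hH hHB hB⟩
      intro M M' hM hM' hAM hAM' h h'
      obtain ⟨Z, hZ, hYZ⟩ := (eq_top_or_exists_le_coatom (Y A)).resolve_left hY
      rw [key M hM hAM h Z hZ hYZ, key M' hM' hAM' h' Z hZ hYZ]
    have U1 : ∀ B ∈ Ω, ∀ M M' : Subgroup G, IsCoatom M → IsCoatom M' → B ≤ M → B ≤ M' → ¬ Sn B M →
        ¬ Sn B M' → M = M' := by
      rintro B ⟨g, rfl⟩ M M' hM hM' hBM hBM' h h'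
      have back : ∀ X : Subgroup G, MulAut.conj g • (MulAut.conj g⁻¹ • X) = X := fun X => by
        rw [smul_smul, ← map_mul, mul_inv_cancel, map_one, one_smul]
      have h1 := U0 (MulAut.conj g⁻¹ • M) (MulAut.conj g⁻¹ • M') (isCoatom_conj hM _) (isCoatom_conj hM' _)
        ((conj_le_iff g).1 (by rw [back]; exact hBM)) ((conj_le_iff g).1 (by rw [back]; exact hBM'))
        (fun hs => h (sn_conj (g := g⁻¹) (by
          rwa [smul_smul, ← map_mul, inv_mul_cancel, map_one, one_smul])))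
        (fun hs => h' (sn_conj (g := g⁻¹) (by
          rwa [smul_smul, ← map_mul, inv_mul_cancel, map_one, one_smul])))
      rw [← back M, ← back M', h1]
    have hns_conj : ∀ B V : Subgroup G, ∀ g : G, ¬ Sn B V → ¬ Sn (MulAut.conj g • B) (MulAut.conj g • V) :=
      fun B V g h hs => h (sn_conj hs)
    have hNle : ∀ B ∈ Ω, ∀ P : Subgroup G, IsCoatom P → B ≤ P → ¬ Sn B P →
        normalizer (B : Set G) ≤ P := by
      intro B hB P hP hBP hns g hg
      have e : MulAut.conj g • B = B := map_conj_eq_self_iff.2 hg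
      have h1 := U1 B hB _ _ (isCoatom_conj hP g) hP (e ▸ (conj_le_iff g).2 hBP) hBP
        (by have := hns_conj B P g hns; rwa [e] at this) hns
      have h2 : g ∈ normalizer (P : Set G) := map_conj_eq_self_iff.1 h1
      rcases hP.le_iff.1 (le_normalizer : P ≤ normalizer (P : Set G)) with h3 | h3
      · exact absurd (normalizer_eq_top_iff.1 h3) (hMne P hP B hB hBP)
      · rwa [h3] at h2
    -- joins of conjugates
    have J : ∀ P Q : Subgroup G, IsCoatom P → IsCoatom Q → P ≠ Q → ∀ L : Set (Subgroup G), L ⊆ Ω →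
        ∀ B ∈ L, ∀ C ∈ L, B ≠ C → sSup L ≤ P → sSup L ≤ Q →
        (∀ X : Subgroup G, IsCoatom X → sSup L ≤ X → X = P ∨ ∀ B ∈ L, Sn B X) → False := by
      intro P Q hP hQ hPQ L hL B hB C hC hBC hTP hTQ hall
      set T := sSup L with hT
      have hBT : B ≤ T := le_sSup hB
      have hlt : Nat.card A < Nat.card T := by
        rw [← hΩcard B (hL hB)]
        refine lt_of_le_of_ne (card_le_of_le hBT) fun e => hBC ?_
        have e1 := eq_of_le_of_card_ge hBT e.ge
        exact (eq_of_le_of_card_ge (e1 ▸ le_sSup hC : C ≤ B)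
          (by rw [hΩcard B (hL hB), hΩcard C (hL hC)])).symm
      refine hPQ (ih' T hlt (hΩtop B (hL hB) _ normalClosure_normal (hBT.trans le_normalClosure))
        (fun h => hP.1 (top_unique (h ▸ hTP))) (fun h => hP.1 (top_unique (h ▸ sSup_le ?_))) P Q hP hQ hTP hTQ)
      rintro H ⟨hTH, hHt, hH⟩
      by_contra hHP
      obtain ⟨X, hX, hHX⟩ := (eq_top_or_exists_le_coatom H).resolve_left hHt
      rcases hall X hX (hTH.trans hHX) with rfl | hsn
      · exact hHP hHX
      · refine hHP ?_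
        rw [← eq_of_sn hTH ((sn_sSup (fun E hE => (le_sSup hE).trans (hTH.trans hHX)) hsn).restrict hHX) hH]
        exact hTP
    -- a pair with as many common conjugates as possible
    let K : Subgroup G → Subgroup G → Set (Subgroup G) := fun P Q => {B | B ∈ Ω ∧ B ≤ P ∧ B ≤ Q}
    let Pairs : Set (Subgroup G × Subgroup G) :=
      {p | IsCoatom p.1 ∧ IsCoatom p.2 ∧ p.1 ≠ p.2 ∧ (K p.1 p.2).Nonempty}
    obtain ⟨⟨P₀, Q₀⟩, ⟨hP₀, hQ₀, hPQ₀, hne₀⟩, hmax⟩ := Set.exists_max_image Pairs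
      (fun p => (K p.1 p.2).ncard) (Set.toFinite _) ⟨(M₁, M₂), hM₁, hM₂, hne, A, hΩA, hAM₁, hAM₂⟩
    have hmax' : ∀ P Q : Subgroup G, IsCoatom P → IsCoatom Q → P ≠ Q → (K P Q).Nonempty →
        (K P Q).ncard ≤ (K P₀ Q₀).ncard := fun P Q h1 h2 h3 h4 => hmax (P, Q) ⟨h1, h2, h3, h4⟩
    have side : ∀ P Q : Subgroup G, IsCoatom P → IsCoatom Q → P ≠ Q → (K P Q).Nonempty →
        (K P Q).ncard = (K P₀ Q₀).ncard → ∀ X : Subgroup G, IsCoatom X →
        normalizer ((sSup (K P Q) : Subgroup G) : Set G) ≤ X → X = P := by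
      intro P Q hP hQ hPQ hKne hcard X hX hNX
      have hle : ∀ P Q : Subgroup G, sSup (K P Q) ≤ P ∧ sSup (K P Q) ≤ Q := fun P Q =>
        ⟨sSup_le fun B hB => hB.2.1, sSup_le fun B hB => hB.2.2⟩
      let S : Subgroup G → Set (Subgroup G) := fun P => {B | B ∈ Ω ∧ B ≤ P ∧ Sn B P}
      have hSinv : ∀ P : Subgroup G, ∀ B ∈ S P, ∀ v ∈ P, MulAut.conj v • B ∈ S P := by
        intro P B hB v hv
        have eP : MulAut.conj v • P = P := map_conj_eq_self_iff.2 (le_normalizer hv)
        refine ⟨hΩc B hB.1 v, eP ▸ (conj_le_iff v).2 hB.2.1, ?_⟩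
        by_contra hns
        have h1 := hns_conj _ _ v⁻¹ hns
        rw [smul_smul, ← map_mul, inv_mul_cancel, map_one, one_smul,
          show MulAut.conj v⁻¹ • P = P from map_conj_eq_self_iff.2 (le_normalizer (inv_mem hv))] at h1
        exact h1 hB.2.2
      have hstep : ∀ P Q : Subgroup G, IsCoatom P → IsCoatom Q → P ≠ Q → ∀ R ⊆ K P Q,
          (∀ B ∈ R, Sn B P) → (∀ B ∈ K P Q, Sn B P → B ∈ R) →
          ∃ W : Subgroup G, W ≤ P ∧ ¬ W ≤ Q ∧ (W = P ∨ W ∈ Ω) ∧
            W ≤ normalizer ((sSup R : Subgroup G) : Set G) := by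
        intro P Q hP hQ hPQ R hR hsn hR'
        rcases norm_step P (S P) R (fun B hB => hB.2) (hSinv P) (fun B hB => ⟨(hR hB).1, (hR hB).2.1, hsn B hB⟩)
          with h | ⟨C, hC, hCR, hCn⟩
        · exact ⟨P, le_rfl, fun h' => (hP.le_iff.1 h').elim (fun e => hQ.1 e) (fun e => hPQ e.symm), Or.inl rfl, h⟩
        · exact ⟨C, hC.2.1, fun h' => hCR (hR' C ⟨hC.1, hC.2.1, h'⟩ hC.2.2), Or.inr hC.1, hCn⟩
      set T := sSup (K P Q) with hT
      suffices hW : ∃ W : Subgroup G, W ≤ P ∧ ¬ W ≤ Q ∧ (W = P ∨ W ∈ Ω) ∧ W ≤ normalizer (T : Set G) by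
        obtain ⟨W, hWP, hWQ, hW, hWn⟩ := hW
        by_contra hXP
        rcases hW with rfl | hWΩ
        · exact hXP ((hP.le_iff.1 (hWn.trans hNX)).resolve_left hX.1)
        have hsub : insert W (K P Q) ⊆ K P X := by
          rintro B (rfl | hB)
          · exact ⟨hWΩ, hWP, hWn.trans hNX⟩
          · exact ⟨hB.1, hB.2.1, ((le_sSup hB).trans le_normalizer).trans hNX⟩
        have h1 := Set.ncard_le_ncard hsub (Set.toFinite _)
        rw [Set.ncard_insert_of_notMem (fun h => hWQ h.2.2) (Set.toFinite _)] at h1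
        have h2 := hmax' P X hP hX (Ne.symm hXP) ⟨W, hsub (Set.mem_insert _ _)⟩
        omega
      set R := {B | B ∈ K P Q ∧ Sn B P} with hR
      obtain ⟨W, hWP, hWQ, hW, hWn⟩ := hstep P Q hP hQ hPQ R (fun B hB => hB.1) (fun B hB => hB.2)
        (fun B hB hs => ⟨hB, hs⟩)
      refine ⟨W, hWP, hWQ, hW, ?_⟩
      by_cases hex : ∀ B ∈ K P Q, Sn B P
      · have : R = K P Q := Set.Subset.antisymm (fun B hB => hB.1) fun B hB => ⟨hB, hex B hB⟩
        rwa [this] at hWn
      push Not at hex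
      obtain ⟨A', hA', hA'ns⟩ := hex
      -- `A'` is the only exceptional one
      have hsingle : ∀ C ∈ K P Q, ¬ Sn C P → C = A' := by
        intro C hC hCns
        by_contra hne'
        refine J P Q hP hQ hPQ {A', C} ?_ A' (Or.inl rfl) C (Or.inr rfl) (Ne.symm hne') ?_ ?_ fun Z hZ hle => ?_
        · rintro B (rfl | rfl)
          exacts [hA'.1, hC.1]
        · exact sSup_le (by rintro B (rfl | rfl); exacts [hA'.2.1, hC.2.1])
        · exact sSup_le (by rintro B (rfl | rfl); exacts [hA'.2.2, hC.2.2])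
        by_cases hs1 : Sn A' Z
        · by_cases hs2 : Sn C Z
          · exact Or.inr (by rintro B (rfl | rfl); exacts [hs1, hs2])
          · exact Or.inl (U1 C hC.1 _ _ hZ hP ((le_sSup (Set.mem_insert_of_mem A' (Set.mem_singleton C))).trans hle) hC.2.1 hs2 hCns)
        · exact Or.inl (U1 A' hA'.1 _ _ hZ hP ((le_sSup (Set.mem_insert A' {C})).trans hle) hA'.2.1 hs1 hA'ns)
      have hpartner : ∀ C ∈ K P Q, C ≠ A' → ∀ V : Subgroup G, IsCoatom V → C ≤ V → ¬ Sn C V → A' ≤ V := by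
        intro C hC hne' V hV hCV hCns
        by_contra hAV
        refine J P Q hP hQ hPQ {A', C} ?_ A' (Or.inl rfl) C (Or.inr rfl) (Ne.symm hne') ?_ ?_ fun Z hZ hle => ?_
        · rintro B (rfl | rfl)
          exacts [hA'.1, hC.1]
        · exact sSup_le (by rintro B (rfl | rfl); exacts [hA'.2.1, hC.2.1])
        · exact sSup_le (by rintro B (rfl | rfl); exacts [hA'.2.2, hC.2.2])
        by_cases hs1 : Sn A' Z
        · by_cases hs2 : Sn C Z
          · exact Or.inr (by rintro B (rfl | rfl); exacts [hs1, hs2])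
          · exact absurd (U1 C hC.1 _ _ hZ hV ((le_sSup (Set.mem_insert_of_mem A' (Set.mem_singleton C))).trans hle) hCV hs2 hCns ▸
              (le_sSup (Set.mem_insert A' {C})).trans hle) hAV
        · exact Or.inl (U1 A' hA'.1 _ _ hZ hP ((le_sSup (Set.mem_insert A' {C})).trans hle) hA'.2.1 hs1 hA'ns)
      have hTsplit : T ≤ sSup R ⊔ A' := sSup_le fun B hB => by
        by_cases hs : Sn B P
        · exact (le_sSup (show B ∈ R from ⟨hB, hs⟩)).trans le_sup_left
        · rw [hsingle B hB hs]; exact le_sup_right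
      have hRT : sSup R ≤ T := sSup_le_sSup fun B hB => hB.1
      by_cases hAR : A' ≤ sSup R
      · rwa [le_antisymm hRT (hTsplit.trans (sup_le le_rfl hAR))] at hWn
      obtain ⟨B, hBK, hBA, V, hV, hBV, hBns, hKV⟩ : ∃ B, B ∈ K P Q ∧ B ≠ A' ∧ ∃ V : Subgroup G, IsCoatom V ∧
          B ≤ V ∧ ¬ Sn B V ∧ ∀ C ∈ K P Q, C ≤ V := by
        by_cases hex' : ∀ B ∈ K P Q, Sn B Q
        · have hKs : K Q P = K P Q := by
            ext B
            exact ⟨fun h => ⟨h.1, h.2.2, h.2.1⟩, fun h => ⟨h.1, h.2.2, h.2.1⟩⟩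
          obtain ⟨W', -, hW'P, -, hW'n⟩ := hstep Q P hQ hP (Ne.symm hPQ) (K P Q) (fun B hB => hKs.symm ▸ hB)
            hex' (fun B hB _ => hKs ▸ hB)
          obtain ⟨q, hqW, hqP⟩ := SetLike.not_le_iff_exists.1 hW'P
          have eT : MulAut.conj q • T = T := map_conj_eq_self_iff.2 (hW'n hqW)
          have hBT : MulAut.conj q • A' ≤ T := eT ▸ (conj_le_iff q).2 (le_sSup hA')
          refine ⟨MulAut.conj q • A', ⟨hΩc _ hA'.1 q, hBT.trans (hle P Q).1, hBT.trans (hle P Q).2⟩,
            fun e => hqP (hNle A' hA'.1 P hP hA'.2.1 hA'ns (map_conj_eq_self_iff.1 e)),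
            MulAut.conj q • P, isCoatom_conj hP q, (conj_le_iff q).2 hA'.2.1, hns_conj _ _ q hA'ns,
            fun C hC => ?_⟩
          refine (le_sSup hC).trans ?_
          rw [← hT, ← eT]
          exact (conj_le_iff q).2 (hle P Q).1
        · push Not at hex'
          obtain ⟨B, hB, hBns⟩ := hex'
          refine ⟨B, hB, ?_, Q, hQ, hB.2.2, hBns, fun C hC => hC.2.2⟩
          rintro rfl
          exact hPQ (U1 B hB.1 P Q hP hQ hB.2.1 hB.2.2 hA'ns hBns)
      have hBR : B ∈ R := ⟨hBK, by_contra fun h => hBA (hsingle B hBK h)⟩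
      have hVP : V ≠ P := fun e => hBns (e ▸ hBR.2)
      intro c hc
      have eP : MulAut.conj c • P = P := map_conj_eq_self_iff.2 (le_normalizer (hWP hc))
      have eR : MulAut.conj c • sSup R = sSup R := map_conj_eq_self_iff.2 (hWn hc)
      have hcB : MulAut.conj c • B ≤ sSup R := eR ▸ (conj_le_iff c).2 (le_sSup hBR)
      have hAV : A' ≤ MulAut.conj c • V := hpartner _
        ⟨hΩc B hBK.1 c, (hcB.trans hRT).trans (hle P Q).1, (hcB.trans hRT).trans (hle P Q).2⟩
        (fun e => hAR (e ▸ hcB)) _ (isCoatom_conj hV c) ((conj_le_iff c).2 hBV) (hns_conj _ _ c hBns)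
      have hfix : MulAut.conj c • A' = A' := by
        set K' := (fun C : Subgroup G => MulAut.conj c • C) '' K P Q with hK'
        have hK'sub : insert A' K' ⊆ K P (MulAut.conj c • V) := by
          rintro C (rfl | ⟨C, hC, rfl⟩)
          · exact ⟨hA'.1, hA'.2.1, hAV⟩
          · exact ⟨hΩc C hC.1 c, eP ▸ (conj_le_iff c).2 hC.2.1, (conj_le_iff c).2 (hKV C hC)⟩
        have hAK' : A' ∈ K' := by
          by_contra hnot
          have h1 := Set.ncard_le_ncard hK'sub (Set.toFinite _)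
          rw [Set.ncard_insert_of_notMem hnot (Set.toFinite _), hK',
            Set.ncard_image_of_injective _ (MulAction.injective (MulAut.conj c))] at h1
          have h2 := hmax' P (MulAut.conj c • V) hP (isCoatom_conj hV c)
            (fun e => hVP (MulAction.injective (MulAut.conj c) (e.symm.trans eP.symm)))
            ⟨A', hK'sub (Set.mem_insert _ _)⟩
          omega
        obtain ⟨C, hC, hCe⟩ := hAK'
        have hCe' : MulAut.conj c • C = A' := hCe
        have hCns : ¬ Sn C P := by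
          have h1 := hns_conj A' P c⁻¹ hA'ns
          rwa [← hCe', smul_smul, ← map_mul, inv_mul_cancel, map_one, one_smul,
            show MulAut.conj c⁻¹ • P = P from map_conj_eq_self_iff.2 (le_normalizer (inv_mem (hWP hc)))] at h1
        rw [← hsingle C hC hCns, hCe', hsingle C hC hCns]
      refine mem_normalizer_of_conj_smul_le ?_
      refine ((conj_le_iff c).2 hTsplit).trans ?_
      rw [smul_sup, eR, hfix]
      exact sup_le hRT (le_sSup hA')
    have hT0 : normalizer ((sSup (K P₀ Q₀) : Subgroup G) : Set G) ≠ ⊤ := by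
      intro h
      obtain ⟨B, hB⟩ := hne₀
      have := hΩtop B hB.1 _ (normalizer_eq_top_iff.1 h) (le_sSup hB)
      exact hP₀.1 (top_unique (this ▸ sSup_le fun C hC => hC.2.1))
    obtain ⟨X, hX, hNX⟩ := (eq_top_or_exists_le_coatom _).resolve_left hT0
    have hKs : K Q₀ P₀ = K P₀ Q₀ := by
      ext B
      exact ⟨fun h => ⟨h.1, h.2.2, h.2.1⟩, fun h => ⟨h.1, h.2.2, h.2.1⟩⟩
    exact hPQ₀ ((side P₀ Q₀ hP₀ hQ₀ hPQ₀ hne₀ rfl X hX hNX).symm.trans
      (side Q₀ P₀ hQ₀ hP₀ (Ne.symm hPQ₀) (hKs.symm ▸ hne₀) (by rw [hKs]) X hX (by rw [hKs]; exact hNX)))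


/-- Let G be a finite group and A a proper subgroup of G whose normal closure is G. Let Y be the join of all proper subgroups H of G that contain A and are generated by their own conjugates of A (the normal closure of A in H is H). Then either Y = G, or A is contained in exactly one maximal subgroup of G. -/
theorem result {G : Type*} [Group G] [Finite G] (A : Subgroup G) (hA : Subgroup.normalClosure (A : Set G) = ⊤) (hAG : A ≠ ⊤) :
    sSup {H : Subgroup G | A ≤ H ∧ H ≠ ⊤ ∧ Subgroup.normalClosure ((A.subgroupOf H : Subgroup ↥H) : Set ↥H) = ⊤} = ⊤ ∨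
      ∃! M : Subgroup G, IsCoatom M ∧ A ≤ M := by
  rw [or_iff_not_imp_left]
  intro hY
  obtain ⟨M, hM, hAM⟩ := (eq_top_or_exists_le_coatom A).resolve_left hAG
  exact ⟨M, ⟨hM, hAM⟩, fun M' hM' => unique_max _ A rfl hA hAG hY M' M hM'.1 hM hM'.2 hAM⟩

end Cfsg.Agent.S3947
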