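import Cfsg.Statements.S3949


set_option autoImplicit false
open Cfsg

namespace Cfsg.Agent.S3949

/-- Let G be a finite group and α an automorphism of G of order 2 such that the elements g·α(g)⁻¹ generate G. Let j be a positive integer such that 2^j divides the order of no element inverted by α. Then the set of values of the j-th iterate of the map c ↦ c·α(c)⁻¹ is exactly the set of elements of odd order inverted by α. -/
theorem result {G : Type*} [Group G] [Finite G] (α : MulAut G) (hα : orderOf α = 2) (hG : Subgroup.closure (Set.range (fun c : G => c * (α c)⁻¹)) = ⊤)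
    (j : ℕ) (hj : ∀ g : G, α g = g⁻¹ → ¬ 2 ^ j ∣ orderOf g) :
    Set.range ((fun c : G => c * (α c)⁻¹)^[j]) = {g : G | Odd (orderOf g) ∧ α g = g⁻¹} := by
  rcases Nat.eq_zero_or_pos j with rfl | hj0
  · exact absurd (one_dvd _) (hj 1 (by simp))
  obtain ⟨i, rfl⟩ : ∃ i, j = i + 1 := ⟨j - 1, by omega⟩
  let f : G → G := fun c => c * (α c)⁻¹
  have hα2 : ∀ c, α (α c) = c := fun c => by
    have h : α ^ 2 = 1 := by rw [← hα]; exact pow_orderOf_eq_one α
    rw [pow_two] at h
    exact DFunLike.congr_fun h c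
  have hinv : ∀ c, α (f c) = (f c)⁻¹ := fun c => by simp [f, hα2]
  have hiter : ∀ k : ℕ, ∀ g : G, α g = g⁻¹ → f^[k] g = g ^ 2 ^ k := by
    intro k
    induction k with
    | zero => intro g _; simp
    | succ k ih =>
      intro g hg
      have hf : f g = g ^ 2 := by simp [f, hg, sq]
      rw [Function.iterate_succ_apply, hf, ih _ (by rw [map_pow, hg, inv_pow]), ← pow_mul, pow_succ']
  have hodd : ∀ g : G, Odd (orderOf g) → ∃ h : G, h ^ 2 ^ (i + 1) = g ∧ ∃ n : ℕ, h = g ^ n := by
    intro g hg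
    have hcop : Nat.Coprime (2 ^ (i + 1)) (orderOf g) := (Nat.coprime_two_left.mpr hg).pow_left _
    obtain ⟨m, hm⟩ := exists_pow_eq_self_of_coprime hcop
    exact ⟨g ^ m, by rw [← pow_mul, mul_comm, pow_mul]; exact hm, m, rfl⟩
  ext g
  constructor
  · rintro ⟨c, rfl⟩
    show Odd (orderOf (f^[i + 1] c)) ∧ α (f^[i + 1] c) = (f^[i + 1] c)⁻¹
    rw [Function.iterate_succ_apply, hiter i _ (hinv c)]
    refine ⟨?_, by rw [map_pow, hinv, inv_pow]⟩
    obtain ⟨k, t, ht, hkt⟩ := Nat.exists_eq_pow_mul_and_not_dvd (orderOf_pos (f c)).ne' 2 (by norm_num)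
    have hki : k ≤ i := by
      by_contra hlt
      exact hj _ (hinv c) (hkt ▸ (pow_dvd_pow 2 (not_le.mp hlt)).mul_right t)
    have hd : orderOf (f c ^ 2 ^ i) ∣ t := by
      refine orderOf_dvd_of_pow_eq_one ?_
      rw [← pow_mul]
      refine orderOf_dvd_iff_pow_eq_one.mp ?_
      rw [hkt]
      exact mul_dvd_mul_right (pow_dvd_pow 2 hki) t
    exact Odd.of_dvd_nat (Nat.not_even_iff_odd.mp (fun he => ht he.two_dvd)) hd
  · rintro ⟨ho, hg⟩
    obtain ⟨h, hh, n, rfl⟩ := hodd g ho
    exact ⟨g ^ n, (hiter (i + 1) _ (by rw [map_pow, hg, inv_pow])).trans hh⟩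

end Cfsg.Agent.S3949
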