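import Cfsg.Statements.S3951
import Cfsg.Agent.Schur.Metacyclic

set_option autoImplicit false
open Cfsg

namespace Cfsg.Agent.S3951

/-- For positive integers `m` and `n` with `n` dividing `m`, the Schur multiplier of the abelian group `ZMod m × ZMod n` (written multiplicatively) is cyclic of order `n`. In particular the elementary abelian group of order `p ^ 2` has multiplier of order `p`. -/
theorem result (m n : ℕ) [NeZero m] [NeZero n] (hnm : n ∣ m) : Cfsg.HasCyclicSchurMultiplier (Multiplicative (ZMod m × ZMod n)) n := by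
  have hm0 : 0 < m := NeZero.pos m
  have hn0 : 0 < n := NeZero.pos n
  let a : Multiplicative (ZMod m × ZMod n) := Multiplicative.ofAdd (1, 0)
  let b : Multiplicative (ZMod m × ZMod n) := Multiplicative.ofAdd (0, 1)
  have hai : ∀ i : ℤ, a ^ i = Multiplicative.ofAdd ((i : ZMod m), (0 : ZMod n)) := fun i => by
    rw [← ofAdd_zsmul]; simp
  have hbi : ∀ i : ℤ, b ^ i = Multiplicative.ofAdd ((0 : ZMod m), (i : ZMod n)) := fun i => by
    rw [← ofAdd_zsmul]; simp
  have hgen : Subgroup.closure ({a, b} : Set (Multiplicative (ZMod m × ZMod n))) = ⊤ := by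
    refine eq_top_iff.mpr fun x _ => ?_
    obtain ⟨i, hi⟩ := ZMod.intCast_surjective x.toAdd.1
    obtain ⟨j, hj⟩ := ZMod.intCast_surjective x.toAdd.2
    have : x = a ^ i * b ^ j := by
      rw [hai, hbi, ← ofAdd_add, Prod.mk_add_mk, add_zero, zero_add, hi, hj]; rfl
    rw [this]
    have h1 : a ∈ Subgroup.closure ({a, b} : Set (Multiplicative (ZMod m × ZMod n))) :=
      Subgroup.subset_closure (Set.mem_insert _ _)
    have h2 : b ∈ Subgroup.closure ({a, b} : Set (Multiplicative (ZMod m × ZMod n))) :=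
      Subgroup.subset_closure (Set.mem_insert_of_mem _ rfl)
    exact Subgroup.mul_mem _ (Subgroup.zpow_mem _ h1 i) (Subgroup.zpow_mem _ h2 j)
  refine Cfsg.Lib.Schur.metacyclic_multiplier a b m n 1 m n 1 (1 + m) 0 hm0 hn0 hn0 hgen ?_ ?_ ?_ ?_
    ⟨1, by ring⟩ ?_ (by simp) ?_ ⟨1, by simp⟩ dvd_rfl (fun i _ => one_dvd i) ?_
  · rw [← zpow_natCast, hai]; simp
  · rw [mul_comm b a, mul_inv_cancel_right, zpow_one]
  · rw [pow_zero, ← zpow_natCast, hbi]; simp
  · intro i j hj h
    rw [← zpow_natCast, hai, hbi, ← ofAdd_add, Prod.mk_add_mk, add_zero, zero_add] at h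
    have h' := Multiplicative.ofAdd.injective (h.trans ofAdd_zero.symm)
    rw [Prod.mk_eq_zero, Int.cast_natCast] at h'
    exact ⟨(ZMod.intCast_zmod_eq_zero_iff_dvd i m).mp h'.1,
      Nat.eq_zero_of_dvd_of_lt ((ZMod.natCast_eq_zero_iff j n).mp h'.2) hj⟩
  · have key : ∀ j : ℕ, ((m * n : ℕ) : ℤ) ∣ (1 + (m : ℤ)) ^ j - 1 - j * m := by
      intro j
      induction j with
      | zero => simp
      | succ j ih =>
        have h2 : ((m * n : ℕ) : ℤ) ∣ (j : ℤ) * m * m := by
          push_cast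
          exact mul_dvd_mul (dvd_mul_left _ _) (Int.natCast_dvd_natCast.mpr hnm)
        refine (dvd_add (ih.mul_left (1 + (m : ℤ))) h2).trans (dvd_of_eq ?_)
        push_cast
        ring
    have h := key n
    have h2 : ((m * n : ℕ) : ℤ) ∣ (n : ℤ) * m := ⟨1, by push_cast; ring⟩
    simpa using dvd_add h h2
  · exact ⟨(m / n : ℕ), by rw [← Nat.cast_mul, Nat.mul_div_cancel' hnm]; ring⟩
  · simp [Nat.gcd_dvd_right]

end Cfsg.Agent.S3951
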