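import Cfsg.Statements.S3950
import Cfsg.Agent.Schur.Criteria
import Cfsg.Agent.S3951
import Cfsg.Agent.S3979

set_option autoImplicit false
open Cfsg

namespace Cfsg.Agent.S3950

/-- A finite abelian group has trivial Schur multiplier if and only if it is cyclic. -/
theorem result {G : Type*} [CommGroup G] [Finite G] : Cfsg.HasCyclicSchurMultiplier G 1 ↔ IsCyclic G := by
  refine ⟨fun h => ?_, fun hc => Cfsg.Agent.S3979.result⟩
  obtain ⟨ι, _, nn, hn, ⟨e⟩⟩ := CommGroup.equiv_prod_multiplicative_zmod_of_finite G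
  classical
  by_cases hp : Pairwise (fun i j => Nat.Coprime (nn i) (nn j))
  · let f : Multiplicative (ZMod (∏ i, nn i)) ≃* G :=
      (((ZMod.prodEquivPi nn hp).toAddEquiv.toMultiplicative).trans
        (MulEquiv.piMultiplicative fun i => ZMod (nn i))).trans e.symm
    exact isCyclic_of_surjective f.toMonoidHom f.surjective
  · exfalso
    rw [Pairwise] at hp
    push Not at hp
    obtain ⟨i, j, hij, hcop⟩ := hp
    obtain ⟨p, hp, hpi, hpj⟩ := Nat.Prime.not_coprime_iff_dvd.mp hcop
    have : NeZero p := ⟨hp.ne_zero⟩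
    let f : G →* Multiplicative (ZMod p × ZMod p) :=
      MonoidHom.mk' (fun g => Multiplicative.ofAdd
        (ZMod.castHom hpi (ZMod p) (e g i).toAdd, ZMod.castHom hpj (ZMod p) (e g j).toAdd))
        fun a b => by rw [map_mul, Pi.mul_apply, Pi.mul_apply, toAdd_mul, toAdd_mul, map_add, map_add]; rfl
    have hf : Function.Surjective f := fun x => by
      obtain ⟨a, ha⟩ := ZMod.intCast_surjective x.toAdd.1
      obtain ⟨b, hb⟩ := ZMod.intCast_surjective x.toAdd.2
      refine ⟨e.symm (fun k => Multiplicative.ofAdd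
        (if k = i then ((a : ℤ) : ZMod (nn k)) else ((b : ℤ) : ZMod (nn k)))), ?_⟩
      show Multiplicative.ofAdd (ZMod.castHom hpi (ZMod p) _, ZMod.castHom hpj (ZMod p) _) = x
      simp only [MulEquiv.apply_symm_apply, toAdd_ofAdd, if_true, if_neg hij.symm, map_intCast, ha, hb]
      rfl
    obtain ⟨⟨H, _, _, σ, ⟨hs, hc, hd⟩, ⟨eH⟩⟩, -⟩ := Cfsg.Agent.S3951.result p p dvd_rfl
    let P : Subgroup (G × H) := (f.comp (MonoidHom.fst G H)).eqLocus (σ.comp (MonoidHom.snd G H))
    let τ : P →* G := (MonoidHom.fst G H).comp P.subtype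
    let q : P →* H := (MonoidHom.snd G H).comp P.subtype
    have hq : Function.Surjective q := fun x => by
      obtain ⟨g, hg⟩ := hf (σ x)
      exact ⟨⟨(g, x), hg⟩, rfl⟩
    have hmem : ∀ x : P, x ∈ τ.ker → x.1.2 ∈ σ.ker := fun x hx => by
      have hx1 : x.1.1 = 1 := hx
      show σ x.1.2 = 1
      exact ((x.2 : f x.1.1 = σ x.1.2).symm).trans ((congrArg f hx1).trans (map_one f))
    have hτ : Cfsg.IsStemExtension τ := by
      refine ⟨fun g => ?_, fun x hx => ?_, fun x hx => ?_⟩
      · obtain ⟨y, hy⟩ := hs (f g)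
        exact ⟨⟨(g, y), hy.symm⟩, rfl⟩
      · rw [Subgroup.mem_center_iff]
        exact fun y => Subtype.ext (Prod.ext (mul_comm _ _)
          (Subgroup.mem_center_iff.mp (hc (hmem x hx)) _))
      · have h1 : x.1.2 ∈ (commutator P).map q := by
          rw [commutator_def, Subgroup.map_commutator, Subgroup.map_top_of_surjective q hq,
            ← commutator_def]
          exact hd (hmem x hx)
        obtain ⟨w, hw, hwx⟩ := h1
        have hx1 : x.1.1 = 1 := hx
        have hw1 : τ w = 1 := Abelianization.commutator_subset_ker τ hw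
        have : w = x := Subtype.ext (Prod.ext (by rw [hx1]; exact hw1) hwx)
        exact this ▸ hw
    have hbot := Cfsg.Lib.Schur.ker_eq_bot_of_hasCyclicSchurMultiplier_one h hτ
    have hk : σ.ker = ⊥ := (Subgroup.eq_bot_iff_forall _).mpr fun k hk => by
      have hk' : (⟨(1, k), ((map_one f).trans (MonoidHom.mem_ker.mp hk).symm)⟩ : P) ∈ τ.ker := rfl
      rw [hbot, Subgroup.mem_bot] at hk'
      exact congrArg (fun z : P => z.1.2) hk'
    have h2 := Nat.card_congr eH.toEquiv
    rw [hk, Subgroup.card_bot, Nat.card_congr Multiplicative.toAdd, Nat.card_zmod] at h2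
    exact hp.ne_one h2.symm

end Cfsg.Agent.S3950
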