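import Cfsg.Statements.S3953
import Cfsg.Agent.Schur.Transfer

set_option autoImplicit false
open Cfsg

namespace Cfsg.Agent.S3953

/-- Let `P` be a Sylow `p`-subgroup of the finite group `G`, let `A` be the Schur multiplier of `G` and `B` that of `P`. Then the `p`-primary component of `A` is isomorphic to a direct factor of `B`: there are subgroups `C` and `D` of `B` meeting trivially and generating `B`, with `C` isomorphic to the `p`-primary component of `A`. -/
theorem result {G : Type*} [Group G] [Finite G] (p : ℕ) [Fact p.Prime] (P : Sylow p G) {A B : Type*} [CommGroup A] [CommGroup B] (hA : Cfsg.HasSchurMultiplier G A) (hB : Cfsg.HasSchurMultiplier P B) : ∃ C D : Subgroup B, C ⊓ D = ⊥ ∧ C ⊔ D = ⊤ ∧ Nonempty (CommGroup.primaryComponent A p ≃* C) := by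
  obtain ⟨eA⟩ := (Cfsg.Lib.Schur.hasSchurMultiplier_iff (Cfsg.Lib.Schur.canon_surjective G)).mp hA
  obtain ⟨eB⟩ := (Cfsg.Lib.Schur.hasSchurMultiplier_iff (Cfsg.Lib.Schur.canon_surjective P)).mp hB
  obtain ⟨cor, res, h⟩ := Cfsg.Lib.Schur.exists_cor_res (P : Subgroup G)
  let cor' : B →* A := (eA.symm.toMonoidHom.comp cor).comp eB.toMonoidHom
  let res' : A →* B := (eB.symm.toMonoidHom.comp res).comp eA.toMonoidHom
  have h' : ∀ x, cor' (res' x) = x ^ (P : Subgroup G).index := fun x => by simp [cor', res', h]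
  have := Cfsg.Lib.Schur.finite_of_hasSchurMultiplier hA
  have hp : p.Prime := Fact.out
  set m := Nat.card A / p ^ (Nat.card A).factorization p with hm
  set Ap := CommGroup.primaryComponent A p
  have hmem : ∀ x : A, x ^ m ∈ Ap := fun x => by
    rw [CommGroup.mem_primaryComponent]
    exact ⟨(Nat.card A).factorization p, by
      rw [← pow_mul, hm, Nat.div_mul_cancel (Nat.ordProj_dvd _ p), pow_card_eq_one']⟩
  let hB' : B →* Ap := ((powMonoidHom m).comp cor').codRestrict Ap fun x => hmem _
  let rA : Ap →* B := res'.comp Ap.subtype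
  have hbij : Function.Bijective (hB'.comp rA) := by
    have hcop : Nat.Coprime (Nat.card Ap) ((P : Subgroup G).index * m) := by
      refine Nat.Coprime.mul_right ?_ ?_
      all_goals
        apply Nat.coprime_of_dvd'
        intro q hq h1 h2
        have : Fact q.Prime := ⟨hq⟩
        obtain ⟨y, hy⟩ := exists_prime_orderOf_dvd_card' q h1
        obtain ⟨k, hk⟩ := CommGroup.mem_primaryComponent.mp y.2
        have hqp : q = p := (Nat.prime_dvd_prime_iff_eq hq hp).mp
          (hq.dvd_of_dvd_pow (hy ▸ orderOf_dvd_of_pow_eq_one (Subtype.ext hk : y ^ p ^ k = 1)))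
        subst hqp
        first
          | exact absurd h2 P.not_dvd_index
          | exact absurd h2 (Nat.not_dvd_ordCompl hp Nat.card_pos.ne')
    have e : (hB'.comp rA : Ap → Ap) = powCoprime hcop := funext fun x => Subtype.ext (by
      show (cor' (res' x.1)) ^ m = _
      rw [h', ← pow_mul]; rfl)
    rw [e]; exact (powCoprime hcop).bijective
  refine ⟨rA.range, hB'.ker, ?_, ?_, ⟨MonoidHom.ofInjective
    (fun a b hab => hbij.1 (congrArg hB' hab))⟩⟩
  · rw [eq_bot_iff]
    rintro _ ⟨⟨x, rfl⟩, hx⟩
    have : x = 1 := hbij.1 ((hx : hB' (rA x) = 1).trans (map_one _).symm)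
    rw [this, map_one]
    exact Subgroup.mem_bot.mpr rfl
  · rw [eq_top_iff]
    intro b _
    obtain ⟨x, hx⟩ := hbij.2 (hB' b)
    have hk : (rA x)⁻¹ * b ∈ hB'.ker := by
      rw [MonoidHom.mem_ker, map_mul, map_inv, show hB' (rA x) = hB' b from hx, inv_mul_cancel]
    simpa using Subgroup.mul_mem _ (Subgroup.mem_sup_left (show rA x ∈ rA.range from ⟨x, rfl⟩))
      (Subgroup.mem_sup_right hk)

end Cfsg.Agent.S3953
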