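import Cfsg.Statements.S3954
import Cfsg.Agent.Schur.Transfer

set_option autoImplicit false
open Cfsg

namespace Cfsg.Agent.S3954

/-- Let `U` be a subgroup of index `m` in the finite group `G`, let `A` be the Schur multiplier of `G` and `B` that of `U`. Then the subgroup of `m`-th powers of `A` is isomorphic to a subgroup of `B`. -/
theorem result {G : Type*} [Group G] [Finite G] (U : Subgroup G) {A B : Type*} [CommGroup A] [CommGroup B] (hA : Cfsg.HasSchurMultiplier G A) (hB : Cfsg.HasSchurMultiplier U B) : ∃ C : Subgroup B, Nonempty ((powMonoidHom U.index : A →* A).range ≃* C) := by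
  obtain ⟨eA⟩ := (Cfsg.Lib.Schur.hasSchurMultiplier_iff (Cfsg.Lib.Schur.canon_surjective G)).mp hA
  obtain ⟨eB⟩ := (Cfsg.Lib.Schur.hasSchurMultiplier_iff (Cfsg.Lib.Schur.canon_surjective U)).mp hB
  obtain ⟨cor, res, h⟩ := Cfsg.Lib.Schur.exists_cor_res U
  let cor' : B →* A := (eA.symm.toMonoidHom.comp cor).comp eB.toMonoidHom
  let res' : A →* B := (eB.symm.toMonoidHom.comp res).comp eA.toMonoidHom
  have h' : ∀ x, cor' (res' x) = x ^ U.index := fun x => by simp [cor', res', h]
  have := Cfsg.Lib.Schur.finite_of_hasSchurMultiplier hB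
  let T : Subgroup A := (powMonoidHom U.index : A →* A).range
  let D : Subgroup B := T.comap cor'
  let f : D →* T := (cor'.comp D.subtype).codRestrict T fun x => x.2
  have hf : Function.Surjective f := by
    rintro ⟨_, x, rfl⟩
    exact ⟨⟨res' x, x, (h' x).symm⟩, Subtype.ext (h' x)⟩
  obtain ⟨g, hg⟩ := Cfsg.Lib.Schur.exists_embed_of_surjective f hf
  exact ⟨(D.subtype.comp g).range, ⟨MonoidHom.ofInjective (D.subtype_injective.comp hg)⟩⟩

end Cfsg.Agent.S3954
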