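import Cfsg.Statements.S3957
import Cfsg.Agent.Schur.Basic

set_option autoImplicit false
universe u v
open Cfsg

namespace Cfsg.Agent.S3957

/-- Let `Q` be a finite group with Schur multiplier `A` and let `τ : Δ →* Q` be a finite stem extension, `Δ` in the universe of `Q`. Then there is a finite stem extension `σ : Γ →* Q` with kernel isomorphic to `A` (a Schur covering group) and a surjective homomorphism `β : Γ →* Δ` with `τ ∘ β = σ`. -/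
theorem result {Q : Type u} [Group Q] [Finite Q] {A : Type v} [CommGroup A] (hA : Cfsg.HasSchurMultiplier Q A) {Δ : Type u} [Group Δ] [Finite Δ] (τ : Δ →* Q) (hτ : Cfsg.IsStemExtension τ) : ∃ (Γ : Type u) (_ : Group Γ) (_ : Finite Γ) (σ : Γ →* Q), Cfsg.IsStemExtension σ ∧ Nonempty (σ.ker ≃* A) ∧ ∃ β : Γ →* Δ, Function.Surjective β ∧ τ.comp β = σ := by
  have hπ := Cfsg.Lib.Schur.canon_surjective Q
  obtain ⟨eA⟩ := (Cfsg.Lib.Schur.hasSchurMultiplier_iff hπ).mp hA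
  obtain ⟨ψ, hψ⟩ := Cfsg.Lib.Schur.exists_lift (Cfsg.Lib.Schur.canon Q) τ hτ.1 hτ.2.1
  obtain ⟨C, h1, h2, h3, h4⟩ := Cfsg.Lib.Schur.exists_compl (π := Cfsg.Lib.Schur.canon Q)
    (ψ.comp (Cfsg.Lib.Schur.proj (Cfsg.Lib.Schur.canon Q)).ker.subtype) (fun x => by
      obtain ⟨m, hm⟩ := Cfsg.Lib.Schur.toKer_surjective hτ ψ hψ hπ ⟨ψ x, by
        rw [MonoidHom.mem_ker, ← MonoidHom.comp_apply, hψ]; exact x.2⟩
      exact ⟨⟨m.1, m.2.1⟩, m.2.2, congrArg Subtype.val hm⟩)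
  obtain ⟨Γ, _, _, σ, φ, hσ, hφ, hσφ, hkerφ, ⟨e⟩⟩ :=
    Cfsg.Lib.Schur.exists_cover_of_compl _ hπ h1 h2 h3
  have hle : φ.ker ≤ ψ.ker := by
    rw [hkerφ]
    exact fun x hx => h4 ⟨x, h1 hx⟩ hx
  refine ⟨Γ, inferInstance, inferInstance, σ, hσ, ⟨e.trans eA.symm⟩, φ.liftOfSurjective hφ ⟨ψ, hle⟩,
    ?_, ?_⟩
  · intro d
    obtain ⟨x, rfl⟩ := Cfsg.Lib.Schur.lift_surjective hτ hψ hπ d
    exact ⟨φ x, MonoidHom.liftOfRightInverse_comp_apply _ _ _ _ _⟩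
  · refine (MonoidHom.cancel_right hφ).mp ?_
    rw [hσφ, MonoidHom.comp_assoc]
    refine MonoidHom.ext fun x => ?_
    show τ (φ.liftOfSurjective hφ ⟨ψ, hle⟩ (φ x)) = _
    rw [MonoidHom.liftOfRightInverse_comp_apply, ← hψ]; rfl

end Cfsg.Agent.S3957
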