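import Cfsg.Statements.S3960
import Cfsg.Agent.Schur.Perfect

set_option autoImplicit false
universe u
open Cfsg

namespace Cfsg.Agent.S3960

/-- A finite perfect group `Q` has a universal central extension: a finite perfect group `G` in the universe of `Q` and a surjective homomorphism `π : G →* Q` with central kernel such that for every group `X` in that universe and every surjective homomorphism `ξ : X →* Q` with central kernel there is exactly one homomorphism `η : G →* X` with `ξ ∘ η = π`. -/
theorem result {Q : Type u} [Group Q] [Finite Q] (hQ : Group.IsPerfect Q) : ∃ (G : Type u) (_ : Group G) (_ : Finite G) (π : G →* Q), Group.IsPerfect G ∧ Function.Surjective π ∧ π.ker ≤ Subgroup.center G ∧ ∀ (X : Type u) [Group X] (ξ : X →* Q), Function.Surjective ξ → ξ.ker ≤ Subgroup.center X → ∃! η : G →* X, ξ.comp η = π := by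
  open Cfsg.Lib.Schur in
  have hπ := canon_surjective Q
  open Cfsg.Lib.Schur in
  refine ⟨commutator (E (canon Q)), inferInstance,
    finite_commutator (proj (canon Q)) (proj_surjective _ hπ) (ker_proj_le_center _),
    (proj (canon Q)).comp (commutator (E (canon Q))).subtype, isPerfect_commutator_E hπ hQ,
    proj_commutator_surjective hπ hQ, ?_, fun X _ ξ hs hc => ?_⟩
  · intro x hx
    rw [Subgroup.mem_center_iff]
    exact fun y => Subtype.ext (Subgroup.mem_center_iff.mp (Cfsg.Lib.Schur.ker_proj_le_center _ hx) y.1)
  · obtain ⟨ψ, hψ⟩ := Cfsg.Lib.Schur.exists_lift (Cfsg.Lib.Schur.canon Q) ξ hs hc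
    refine ⟨ψ.comp (commutator _).subtype, ?_, fun η hη => ?_⟩
    · show ξ.comp _ = _
      rw [← MonoidHom.comp_assoc, hψ]
    · refine Cfsg.Lib.Schur.lift_unique (Cfsg.Lib.Schur.isPerfect_commutator_E hπ hQ) ξ hc ?_
      rw [hη, ← MonoidHom.comp_assoc, hψ]

end Cfsg.Agent.S3960
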