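import Cfsg.Statements.S3962
import Mathlib.GroupTheory.Abelianization.Defs


set_option autoImplicit false
open Cfsg

namespace Cfsg.Agent.S3962

/-- Let `G` be a perfect group and `π : G →* Q` a surjective homomorphism whose kernel is central. Then `π` maps the centre of `G` onto the centre of `Q`. Taking `π` to be the map to `G ⧸ Z(G)` shows that the central quotient of a perfect group has trivial centre. -/
theorem result {G Q : Type*} [Group G] [Group Q] (hG : Group.IsPerfect G) (π : G →* Q) (hπ : Function.Surjective π) (hker : π.ker ≤ Subgroup.center G) : (Subgroup.center G).map π = Subgroup.center Q := by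
  refine le_antisymm ?_ fun z hz => ?_
  · rintro _ ⟨c, hc, rfl⟩
    refine Subgroup.mem_center_iff.mpr fun y => ?_
    obtain ⟨x, rfl⟩ := hπ y
    rw [← map_mul, ← map_mul, Subgroup.mem_center_iff.mp hc x]
  · obtain ⟨g, rfl⟩ := hπ z
    refine ⟨g, Subgroup.mem_center_iff.mpr fun x => ?_, rfl⟩
    have hmem : ∀ x : G, g * x * g⁻¹ * x⁻¹ ∈ Subgroup.center G := fun x => hker (by
      rw [MonoidHom.mem_ker, map_mul, map_mul, map_mul, map_inv, map_inv,
        ← Subgroup.mem_center_iff.mp hz (π x)]
      group)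
    let f : G →* Subgroup.center G := MonoidHom.mk' (fun x => ⟨_, hmem x⟩) fun x y =>
      Subtype.ext (by
        show g * (x * y) * g⁻¹ * (x * y)⁻¹ = g * x * g⁻¹ * x⁻¹ * (g * y * g⁻¹ * y⁻¹)
        calc g * (x * y) * g⁻¹ * (x * y)⁻¹
            = g * x * g⁻¹ * ((g * y * g⁻¹ * y⁻¹) * x⁻¹) := by group
          _ = g * x * g⁻¹ * (x⁻¹ * (g * y * g⁻¹ * y⁻¹)) := by
              rw [Subgroup.mem_center_iff.mp (hmem y) x⁻¹]
          _ = _ := by group)
    have hle : commutator G ≤ f.ker := by
      rw [commutator_eq_closure, Subgroup.closure_le]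
      rintro _ ⟨a, b, rfl⟩
      rw [SetLike.mem_coe, MonoidHom.mem_ker, map_commutatorElement, commutatorElement_eq_one_iff_mul_comm]
      exact Subtype.ext (Subgroup.mem_center_iff.mp (f b).2 _)
    have hf : x ∈ f.ker := hle (hG.commutator_eq_top ▸ Subgroup.mem_top x)
    have h1 : g * x * g⁻¹ * x⁻¹ = 1 := congrArg Subtype.val (MonoidHom.mem_ker.mp hf)
    calc x * g = (g * x * g⁻¹ * x⁻¹) * (x * g) := by rw [h1, one_mul]
      _ = g * x := by group

end Cfsg.Agent.S3962
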