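import Cfsg.Statements.S3964
import Cfsg.Agent.Schur.Dihedral

set_option autoImplicit false
open Cfsg

namespace Cfsg.Agent.S3964

/-- For odd `n` the dihedral group of order `2 n` has trivial Schur multiplier. -/
theorem result (n : ℕ) (hn : Odd n) : Cfsg.HasCyclicSchurMultiplier (DihedralGroup n) 1 := by
  have : NeZero n := ⟨fun h => by simp [h] at hn⟩
  refine Cfsg.Lib.Schur.hasCyclicSchurMultiplier_one_of fun Γ _ _ σ hσ => ?_
  refine Subgroup.eq_bot_of_card_eq _ (Nat.dvd_one.mp
    (Cfsg.Lib.Schur.dihedral_bound n n 1 (fun i hi => ?_) (by simp) hσ).2)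
  have h2 : IsCoprime (n : ℤ) 2 := by
    rw [Int.isCoprime_iff_gcd_eq_one]
    exact Nat.coprime_two_right.mpr hn
  exact h2.dvd_of_dvd_mul_left hi

end Cfsg.Agent.S3964
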