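import Cfsg.Statements.S3965
import Cfsg.Agent.Schur.Dihedral

set_option autoImplicit false
open Cfsg

namespace Cfsg.Agent.S3965

/-- For even `n ≥ 2` the dihedral group of order `2 n` has Schur multiplier cyclic of order `2`. -/
theorem result (n : ℕ) [NeZero n] (hn : Even n) : Cfsg.HasCyclicSchurMultiplier (DihedralGroup n) 2 := by
  obtain ⟨hst, hcard⟩ := Cfsg.Lib.Schur.quatToDihedral_stem n hn
  refine Cfsg.Lib.Schur.hasCyclicSchurMultiplier_of 2 ⟨QuaternionGroup n, inferInstance, inferInstance,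
    _, hst, isCyclic_of_prime_card (hp := ⟨Nat.prime_two⟩) hcard, hcard⟩ fun Γ _ _ σ hσ => ?_
  obtain ⟨h, rfl⟩ := hn
  refine Cfsg.Lib.Schur.dihedral_bound (h + h) h 2 (fun i hi => ?_) ⟨1, by ring⟩ hσ
  rw [show ((h + h : ℕ) : ℤ) = 2 * (h : ℤ) by push_cast; ring] at hi
  exact (mul_dvd_mul_iff_left (two_ne_zero : (2 : ℤ) ≠ 0)).mp hi

end Cfsg.Agent.S3965
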