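import Cfsg.Statements.S3967
import Cfsg.Agent.Schur.Metacyclic

set_option autoImplicit false
open Cfsg

namespace Cfsg.Agent.S3967

/-- Let `m, n ≥ 1`, `r ≥ 1` with `r ^ n ≡ 1 (mod m)`, and `l` a natural number; put `d = gcd(m, r - 1)`, `t = m l / d` and `h = d · gcd(m, 1 + r + ⋯ + r^(n-1)) / m`. The group presented by generators `a, b` and relations `a ^ m = 1`, `b ^ n = a ^ t`, `b a b⁻¹ = a ^ r` (a metacyclic group of order `m n`) has Schur multiplier cyclic of order `gcd(l, h)`. -/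
theorem result (m n r l : ℕ) (hm : 0 < m) (hn : 0 < n) (hr : 0 < r) (hrn : r ^ n ≡ 1 [MOD m]) : Cfsg.HasCyclicSchurMultiplier (PresentedGroup ({FreeGroup.of true ^ m, (FreeGroup.of false) ^ n * (FreeGroup.of true ^ (m * l / Nat.gcd m (r - 1)))⁻¹, FreeGroup.of false * FreeGroup.of true * (FreeGroup.of false)⁻¹ * (FreeGroup.of true ^ r)⁻¹} : Set (FreeGroup Bool))) (Nat.gcd l (Nat.gcd m (r - 1) * Nat.gcd m (∑ i ∈ Finset.range n, r ^ i) / m)) := by
  set g := Nat.gcd m (r - 1) with hgdef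
  set S := ∑ i ∈ Finset.range n, r ^ i with hSdef
  have hg0 : 0 < g := Nat.gcd_pos_of_pos_left _ hm
  obtain ⟨k, hk⟩ : g ∣ m := Nat.gcd_dvd_left _ _
  obtain ⟨ρ, hρ⟩ : g ∣ r - 1 := Nat.gcd_dvd_right _ _
  have hk0 : 0 < k := Nat.pos_of_ne_zero fun h => by simp [h] at hk; omega
  have hcop : Nat.Coprime k ρ := by
    have : g * Nat.gcd k ρ = g * 1 := by rw [← Nat.gcd_mul_left, ← hk, ← hρ, mul_one]
    exact Nat.eq_of_mul_eq_mul_left hg0 this
  have hmS : m ∣ (r - 1) * S := by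
    have h1 : (r - 1) * S = r ^ n - 1 := by
      zify [hr, Nat.one_le_pow n r hr, hSdef]
      rw [mul_comm, geom_sum_mul]
    rw [h1]
    exact (Nat.modEq_iff_dvd' (Nat.one_le_pow n r hr)).mp hrn.symm
  have hkS : k ∣ S := by
    rw [hk, hρ, mul_assoc] at hmS
    exact hcop.dvd_of_dvd_mul_left (Nat.dvd_of_mul_dvd_mul_left hg0 hmS)
  have hkm : k ∣ m := ⟨g, by rw [hk]; ring⟩
  obtain ⟨e, he⟩ := Nat.dvd_gcd hkm hkS
  have heg : e ∣ g := by
    have h : k * e ∣ k * g := by rw [← he, mul_comm k g, ← hk]; exact Nat.gcd_dvd_left _ _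
    exact Nat.dvd_of_mul_dvd_mul_left hk0 h
  have ht : m * l / g = k * l := by rw [hk, mul_assoc, Nat.mul_div_cancel_left _ hg0]
  have he' : g * Nat.gcd m S / m = e := by
    rw [he, hk, ← mul_assoc, Nat.mul_div_cancel_left _ (Nat.mul_pos hg0 hk0)]
  rw [he', ht]
  set d := Nat.gcd l e with hd
  have hd0 : 0 < d := by
    refine Nat.gcd_pos_of_pos_right _ (Nat.pos_of_ne_zero fun h => ?_)
    subst h
    have := Nat.gcd_pos_of_pos_left S hm
    simp at he
    omega
  have hdg : d ∣ g := (Nat.gcd_dvd_right l e).trans heg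
  have hkdm : k * d ∣ m := by rw [hk, mul_comm g k]; exact mul_dvd_mul_left _ hdg
  have hkdS : k * d ∣ S :=
    (mul_dvd_mul_left k (Nat.gcd_dvd_right l e)).trans (he ▸ Nat.gcd_dvd_right m S)
  -- lift `ρ` to a unit modulo `k * d`
  have : NeZero (k * d) := ⟨(Nat.mul_pos hk0 hd0).ne'⟩
  obtain ⟨v, hv⟩ := ZMod.unitsMap_surjective (dvd_mul_right k d) (ZMod.unitOfCoprime ρ hcop.symm)
  have hρ' : (k : ℤ) ∣ ((v : ZMod (k * d)).val : ℤ) - ρ := by
    rw [← ZMod.intCast_zmod_eq_zero_iff_dvd]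
    have h := congrArg (fun w : (ZMod k)ˣ => (w : ZMod k)) hv
    simp only [ZMod.unitsMap_def, Units.coe_map, MonoidHom.coe_coe, ZMod.castHom_apply,
      ZMod.coe_unitOfCoprime] at h
    push_cast
    rw [← h, ← ZMod.natCast_val, sub_self]
  have hvcop : IsCoprime ((v : ZMod (k * d)).val : ℤ) ((k * d : ℕ) : ℤ) := by
    rw [Int.isCoprime_iff_gcd_eq_one]
    exact ZMod.val_coe_unit_coprime v
  set w : ℤ := ((v : ZMod (k * d)).val : ℤ)
  -- the presented group
  set rels : Set (FreeGroup Bool) := ({FreeGroup.of true ^ m, (FreeGroup.of false) ^ n * (FreeGroup.of true ^ (k * l))⁻¹, FreeGroup.of false * FreeGroup.of true * (FreeGroup.of false)⁻¹ * (FreeGroup.of true ^ r)⁻¹} : Set (FreeGroup Bool)) with hrels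
  let a : PresentedGroup rels := PresentedGroup.of true
  let b : PresentedGroup rels := PresentedGroup.of false
  have ham : a ^ m = 1 := by
    have h := PresentedGroup.one_of_mem (rels := rels) (x := FreeGroup.of true ^ m) (by simp [hrels])
    rw [map_pow] at h
    exact h
  have hbn : b ^ n = a ^ (k * l) := by
    have h := PresentedGroup.one_of_mem (rels := rels)
      (x := (FreeGroup.of false) ^ n * (FreeGroup.of true ^ (k * l))⁻¹) (by simp [hrels])
    rw [map_mul, map_inv, map_pow, map_pow, mul_inv_eq_one] at h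
    exact h
  have hbab : b * a * b⁻¹ = a ^ (r : ℤ) := by
    have h := PresentedGroup.one_of_mem (rels := rels)
      (x := FreeGroup.of false * FreeGroup.of true * (FreeGroup.of false)⁻¹ * (FreeGroup.of true ^ r)⁻¹)
      (by simp [hrels])
    simp only [map_mul, map_inv, map_pow, mul_inv_eq_one] at h
    rw [zpow_natCast]
    exact h
  have hgen : Subgroup.closure ({a, b} : Set (PresentedGroup rels)) = ⊤ := by
    rw [eq_top_iff, ← PresentedGroup.closure_range_of rels, Subgroup.closure_le]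
    rintro x ⟨i, rfl⟩
    cases i
    exacts [Subgroup.subset_closure (Set.mem_insert_of_mem _ rfl),
      Subgroup.subset_closure (Set.mem_insert _ _)]
  have : NeZero m := ⟨hm.ne'⟩
  have hu : (r : ZMod m) ^ n = 1 := by
    have h := (ZMod.natCast_eq_natCast_iff _ _ _).mpr hrn
    push_cast at h
    exact h
  let u : (ZMod m)ˣ := Units.ofPowEqOne _ n hu hn.ne'
  have hun : u ^ n = 1 := Units.ext (by rw [Units.val_pow_eq_pow_val]; exact hu)
  have hr1 : (r : ℤ) - 1 = g * ρ := by rw [← Nat.cast_mul, ← hρ]; omega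
  have hfix : (u : ZMod m) * (((k * l : ℕ) : ℤ) : ZMod m) = (((k * l : ℕ) : ℤ) : ZMod m) := by
    have h : (((g * ρ * (k * l) : ℕ) : ℤ) : ZMod m) = 0 :=
      (ZMod.intCast_zmod_eq_zero_iff_dvd _ _).mpr ⟨ρ * l, by rw [hk]; push_cast; ring⟩
    have hg' : ((g : ZMod m)) * (ρ : ZMod m) = (r : ZMod m) - 1 := by
      have := congrArg (fun z : ℤ => (z : ZMod m)) hr1
      push_cast at this
      exact this.symm
    show (r : ZMod m) * _ = _
    push_cast at h ⊢
    linear_combination h - ((k : ZMod m) * (l : ZMod m)) * hg'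
  let A := Cfsg.Lib.Schur.mA m n u ((k * l : ℕ) : ℤ)
  let B := Cfsg.Lib.Schur.mB m n u ((k * l : ℕ) : ℤ)
  have hf : ∀ x ∈ rels, FreeGroup.lift (fun i => cond i A B) x = 1 := by
    intro x hx
    simp only [hrels, Set.mem_insert_iff, Set.mem_singleton_iff] at hx
    rcases hx with rfl | rfl | rfl
    · simp [A, Cfsg.Lib.Schur.mA_pow]
    · rw [map_mul, map_inv, map_pow, map_pow, FreeGroup.lift_apply_of, FreeGroup.lift_apply_of,
        mul_inv_eq_one]
      show B ^ n = A ^ (k * l)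
      rw [← zpow_natCast A]
      exact Cfsg.Lib.Schur.mB_pow
    · simp only [map_mul, map_inv, map_pow, FreeGroup.lift_apply_of, mul_inv_eq_one]
      show B * A * B⁻¹ = A ^ r
      rw [Cfsg.Lib.Schur.mB_mA, ← zpow_natCast, Cfsg.Lib.Schur.mA_zpow, Int.cast_natCast]
      rfl
  have hsep : ∀ (i : ℤ) (j : ℕ), j < n → a ^ i * b ^ j = 1 → (m : ℤ) ∣ i ∧ j = 0 := by
    intro i j hj h
    have h' := congrArg (PresentedGroup.toGroup hf) h
    simp only [map_mul, map_zpow, map_pow, map_one, a, b, PresentedGroup.toGroup.of, cond_true,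
      cond_false] at h'
    exact Cfsg.Lib.Schur.mA_mB_sep hun hfix i j hj h'
  obtain ⟨φ, hφA, hφB⟩ := Cfsg.Lib.Schur.exists_metaGrp_hom (M := m) (n := n) (u := u)
    (t := ((k * l : ℕ) : ℤ)) a b ham (r : ℤ) (Int.cast_natCast r) hbab (by rw [zpow_natCast]; exact hbn)
  have : Finite (PresentedGroup rels) := by
    have := Cfsg.Lib.Schur.finite_metaGrp (M := m) (u := u) (t := ((k * l : ℕ) : ℤ)) hn
    refine Finite.of_surjective φ (MonoidHom.range_eq_top.mp ?_)
    rw [eq_top_iff, ← hgen, Subgroup.closure_le]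
    rintro x (rfl | rfl)
    exacts [⟨_, hφA⟩, ⟨_, hφB⟩]
  refine Cfsg.Lib.Schur.metacyclic_multiplier a b m n k g d r (1 + g * w) (k * l) hm hd0 hn hgen ham
    hbab hbn hsep ?_ ?_ ?_ ?_ ?_ ⟨k, hk⟩ ?_ ?_
  · rw [show 1 + (g : ℤ) * w - r = g * (w - ρ) by linear_combination -hr1, hk]
    push_cast
    exact mul_dvd_mul_left _ hρ'
  · rw [← mul_geom_sum]
    have h2 : ((k * d : ℕ) : ℤ) ∣ ∑ i ∈ Finset.range n, (1 + (g : ℤ) * w) ^ i := by
      have h3 : ((m : ℕ) : ℤ) ∣ (∑ i ∈ Finset.range n, (1 + (g : ℤ) * w) ^ i) - (S : ℤ) := by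
        rw [hSdef, Nat.cast_sum, ← Finset.sum_sub_distrib]
        refine Finset.dvd_sum fun i _ => ?_
        rw [Nat.cast_pow]
        refine dvd_trans ?_ (sub_dvd_pow_sub_pow _ _ _)
        rw [show 1 + (g : ℤ) * w - r = g * (w - ρ) by linear_combination -hr1, hk]
        push_cast
        exact mul_dvd_mul_left _ hρ'
      exact (dvd_iff_dvd_of_dvd_sub ((Int.natCast_dvd_natCast.mpr hkdm).trans h3)).mpr
        (Int.natCast_dvd_natCast.mpr hkdS)
    rw [show ((m * d : ℕ) : ℤ) = (g : ℤ) * ((k * d : ℕ) : ℤ) by rw [hk]; push_cast; ring]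
    exact mul_dvd_mul (Dvd.intro w (by ring)) h2
  · obtain ⟨q, hq⟩ := Nat.gcd_dvd_left l e
    rw [← hd] at hq
    refine ⟨w * q, ?_⟩
    rw [hk, hq]
    push_cast
    ring
  · exact (Int.natCast_dvd_natCast.mpr hdg).trans (Dvd.intro w (by ring))
  · obtain ⟨x, y, hxy⟩ := hvcop
    refine ⟨x, -y, ?_⟩
    rw [hk]
    push_cast at hxy ⊢
    linear_combination (g : ℤ) * hxy
  · intro i hi
    rw [hr1, hk, mul_assoc] at hi
    push_cast at hi
    exact (Nat.isCoprime_iff_coprime.mpr hcop).dvd_of_dvd_mul_left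
      ((mul_dvd_mul_iff_left (by exact_mod_cast hg0.ne')).mp hi)
  · have : (∑ i ∈ Finset.range n, (r : ℤ) ^ i).natAbs = S := by
      rw [hSdef]
      exact_mod_cast Int.natAbs_natCast (∑ i ∈ Finset.range n, r ^ i)
    rw [this, ← Nat.gcd_assoc, he, Nat.gcd_mul_left, hd, Nat.gcd_comm l e]

end Cfsg.Agent.S3967
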