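import Cfsg.Statements.S3968
import Mathlib
import Cfsg.Agent.Chars.ScalarVanish
import Cfsg.Agent.Chars.Burnside
import Cfsg.Agent.Chars.Construct
import Cfsg.Agent.Chars.Count

set_option autoImplicit false
open Cfsg

namespace Cfsg.Agent.S3968


open Subgroup Cfsg.Lib.Chars
open scoped ComplexConjugate commutatorElement

universe u

theorem main {G : Type u} [Group G] [Finite G] (p : ℕ) (hp : p.Prime) (χ : Cfsg.IrrCharacter G) (hdeg : χ.1 1 = p)
    (hfaith : ∀ g : G, χ.1 g = χ.1 1 → g = 1) (hdiv : p ^ 2 ∣ Nat.card G) : Subgroup.center G ≠ ⊥ := by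
  classical
  haveI := Fact.mk hp
  intro hbot
  have hirr := χ.2
  have hc := isCharacter_of_irr hirr
  have hd : deg χ.1 = p := by
    have h := irr_apply_one_eq_deg χ
    rw [hdeg] at h
    exact_mod_cast h.symm
  -- elements acting by scalars are trivial
  have hscal : ∀ g : G, ‖χ.1 g‖ = (p : ℝ) → g = 1 := by
    obtain ⟨m, ρ, hρ, he⟩ := hirr
    have hm : (m : ℂ) = p := by rw [← hdeg, ← he, ρ.char_one, Module.finrank_fin_fun]
    have hm' : m = p := by exact_mod_cast hm
    subst hm'
    intro g hg
    rw [← he] at hg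
    obtain ⟨ω, hω, -⟩ := scalar_of_norm_character_eq ρ g (by rw [hg, Module.finrank_fin_fun])
    have : g ∈ center G := mem_center_iff.2 fun h => by
      have hcomm : ρ (g * h * g⁻¹ * h⁻¹) = LinearMap.id := by
        have h1 : ρ g * ρ h = ρ h * ρ g := by
          rw [hω]
          exact LinearMap.ext fun x => by simp
        calc ρ (g * h * g⁻¹ * h⁻¹) = ρ g * ρ h * ρ g⁻¹ * ρ h⁻¹ := by simp only [map_mul]
          _ = ρ h * (ρ g * ρ g⁻¹) * ρ h⁻¹ := by rw [h1, mul_assoc (ρ h)]
          _ = 1 := by rw [← map_mul ρ g, mul_inv_cancel, map_one, mul_one, ← map_mul, mul_inv_cancel, map_one]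
      have h2 : g * h * g⁻¹ * h⁻¹ = 1 := hfaith _ (by
        rw [← he, ρ.char_one, (eq_id_of_character_eq_finrank ρ _).2 hcomm])
      rw [mul_inv_eq_one, mul_inv_eq_iff_eq_mul] at h2
      exact h2.symm
    rw [hbot, mem_bot] at this
    exact this
  obtain ⟨P⟩ : Nonempty (Sylow p G) := inferInstance
  haveI := Fintype.ofFinite G
  haveI := Fintype.ofFinite (P : Subgroup G)
  obtain ⟨j, hj⟩ := IsPGroup.iff_card.1 P.2
  have hj2 : p ^ 2 ∣ Nat.card P := Sylow.pow_dvd_card_of_pow_dvd_card P hdiv
  set φ : ↥(P : Subgroup G) → ℂ := fun x => χ.1 x with hφ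
  have hφc : Cfsg.IsCharacter (P : Subgroup G) φ := IsCharacter.restrict hc (P : Subgroup G)
  have hφ1 : φ 1 = p := hdeg
  -- the character vanishes on `P` off the identity
  have hzero : ∀ x : (P : Subgroup G), x ≠ 1 → φ x = 0 := by
    have hab : ∀ a b : (P : Subgroup G), a * b = b * a := by
      by_contra hnab
      -- some constituent is not linear, hence is everything
      choose m hm using fun ψ : Cfsg.IrrCharacter (P : Subgroup G) => IsCharacter.exists_mult hφc ψ.2
      have hexp : ∀ x, φ x = ∑ ψ : Cfsg.IrrCharacter (P : Subgroup G), (m ψ : ℂ) * ψ.1 x := fun x => by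
        rw [classFunction_expand_apply (isClassFunction_isChar hφc) x]
        exact Finset.sum_congr rfl fun ψ _ => by rw [hm ψ]
      have hsum : p = ∑ ψ : Cfsg.IrrCharacter (P : Subgroup G), m ψ * deg ψ.1 := by
        have h := hexp 1
        rw [hφ1] at h
        simp only [irr_apply_one_eq_deg] at h
        exact_mod_cast h
      obtain ⟨ψ, hψm, hψd⟩ : ∃ ψ : Cfsg.IrrCharacter (P : Subgroup G), m ψ ≠ 0 ∧ deg ψ.1 ≠ 1 := by
        by_contra hh
        push Not at hh
        refine hnab fun a b => ?_
        have hk : φ ⁅a, b⁆ = φ 1 := by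
          rw [hexp, hexp]
          refine Finset.sum_congr rfl fun ψ _ => ?_
          by_cases h0 : m ψ = 0
          · simp [h0]
          · obtain ⟨f, hf⟩ := exists_hom_of_deg_one (isCharacter_of_irr ψ.2)
              (by rw [irr_apply_one_eq_deg ψ, hh ψ h0, Nat.cast_one])
            congr 1
            rw [hf]
            simp [commutatorElement_def, mul_comm, mul_left_comm]
        exact commutatorElement_eq_one_iff_mul_comm.1 (Subtype.ext (hfaith _ hk))
      have hψp : deg ψ.1 = p ∧ m ψ = 1 ∧ ∀ ψ', ψ' ≠ ψ → m ψ' = 0 := by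
        obtain ⟨i, -, hi⟩ := (Nat.dvd_prime_pow hp).1 (hj ▸ IsIrrCharacter.deg_dvd ψ.2)
        have hle : m ψ * deg ψ.1 ≤ p := by
          refine le_trans ?_ hsum.ge
          exact Finset.single_le_sum (f := fun ψ : Cfsg.IrrCharacter (P : Subgroup G) => m ψ * deg ψ.1)
            (fun _ _ => Nat.zero_le _) (Finset.mem_univ ψ)
        have hi1 : i = 1 := by
          rcases Nat.lt_trichotomy i 1 with h | h | h
          · exact absurd (by rw [hi, show i = 0 by omega, pow_zero]) hψd
          · exact h
          · exfalso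
            have h1 : p ^ 2 ≤ deg ψ.1 := hi ▸ Nat.pow_le_pow_right hp.pos h
            have h2 : deg ψ.1 ≤ p :=
              le_trans (Nat.le_mul_of_pos_left _ (Nat.pos_of_ne_zero hψm)) hle
            have := hp.two_le
            nlinarith
        rw [hi1, pow_one] at hi
        have hm1 : m ψ = 1 := by
          rw [hi] at hle
          have := Nat.le_of_mul_le_mul_right (hle.trans_eq (one_mul p).symm) hp.pos
          omega
        refine ⟨hi, hm1, fun ψ' hne => ?_⟩
        rw [← Finset.add_sum_erase _ _ (Finset.mem_univ ψ), hm1, one_mul, hi, left_eq_add,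
          Finset.sum_eq_zero_iff] at hsum
        have h0 := hsum ψ' (Finset.mem_erase.2 ⟨hne, Finset.mem_univ _⟩)
        exact (mul_eq_zero.1 h0).resolve_right (deg_irr_pos ψ').ne'
      have hφψ : φ = ψ.1 := funext fun x => by
        rw [hexp, Finset.sum_eq_single ψ (fun b _ hb => by rw [hψp.2.2 b hb]; simp) (by simp), hψp.2.1]
        simp
      haveI : Nontrivial (P : Subgroup G) := by
        rw [← Finite.one_lt_card_iff_nontrivial]
        exact lt_of_lt_of_le (Nat.one_lt_pow two_ne_zero hp.one_lt) (Nat.le_of_dvd Nat.card_pos hj2)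
      haveI : Nontrivial (center (P : Subgroup G)) := P.2.center_nontrivial
      obtain ⟨z, hz⟩ := exists_ne (1 : center (P : Subgroup G))
      have hzK : ((z : (P : Subgroup G))) ∈ centralMod (⊥ : Subgroup (P : Subgroup G)) :=
        mem_centralMod.2 fun h => mem_bot.2 (commutatorElement_eq_one_iff_mul_comm.2 (mem_center_iff.1 z.2 h).symm)
      have h1 := conj_mul_self ψ.2 (K := ⊥) (fun k hk => by rw [mem_bot.1 hk]) hzK
      rw [hψp.1, ← hφψ, Complex.mul_conj, Complex.normSq_eq_norm_sq, sq, ← Nat.cast_mul] at h1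
      have h2 : ‖φ z‖ * ‖φ z‖ = (p : ℝ) * p := by exact_mod_cast h1
      have h3 := hscal _ (((mul_self_eq_mul_self_iff).1 h2).resolve_right (fun h => by
        have := norm_nonneg (φ z)
        have : (0 : ℝ) < p := by exact_mod_cast hp.pos
        linarith))
      exact hz (Subtype.ext (Subtype.ext h3))
    intro x hx
    have hcl : (deg χ.1).Coprime (Nat.card {y : G // IsConj (x : G) y}) := by
      rw [hd, hp.coprime_iff_not_dvd]
      have e : Nat.card {y : G // IsConj (x : G) y} = (centralizer ({(x : G)} : Set G)).index := by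
        have h0 : (centralizer ({(x : G)} : Set G)).index = (MulAction.orbit (ConjAct G) (x : G)).ncard := by
          rw [← MulAction.index_stabilizer, ConjAct.stabilizer_eq_centralizer]
          rfl
        rw [h0, ← Nat.card_coe_set_eq]
        refine Nat.card_congr (Equiv.subtypeEquivRight fun y => ?_)
        exact ⟨fun h => ConjAct.mem_orbit_conjAct.2 h.symm, fun h => (ConjAct.mem_orbit_conjAct.1 h).symm⟩
      rw [e]
      intro h
      exact P.not_dvd_index (h.trans (index_dvd_of_le fun y hy => mem_centralizer_singleton_iff.2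
        (congrArg Subtype.val (hab ⟨y, hy⟩ x))))
    rcases burnside_zero_or_max hirr (x : G) hcl with h | h
    · exact h
    · rw [hdeg] at h
      exact absurd (Subtype.ext (hscal _ (by simpa using h))) hx
  -- the trivial constituent
  obtain ⟨k, hk⟩ := IsCharacter.exists_mult hφc (isIrrCharacter_linear (1 : (P : Subgroup G) →* ℂˣ))
  rw [classInner_def, Finset.sum_eq_single 1 (fun b _ hb => by rw [hzero b hb, zero_mul]) (by simp), hφ1] at hk
  have hk' : (p : ℂ) = k * Nat.card P := by
    rw [← hk]
    have : (Nat.card P : ℂ) ≠ 0 := by exact_mod_cast Nat.card_pos.ne'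
    simp only [map_one, MonoidHom.one_apply, Units.val_one, mul_one]
    field_simp
  have hk'' : p = k * Nat.card P := by exact_mod_cast hk'
  have h5 := Nat.le_of_dvd hp.pos (hj2.trans ⟨k, by rw [mul_comm]; exact hk''⟩)
  have := hp.two_le
  nlinarith


/-- Let `p` be a prime and `G` a finite group with a faithful irreducible complex character of degree `p` (so `G` is an irreducible linear group in `p` variables). If `p ^ 2` divides the order of `G`, then the centre of `G` is nontrivial. -/
theorem result {G : Type*} [Group G] [Finite G] (p : ℕ) (hp : p.Prime) (χ : Cfsg.IrrCharacter G) (hdeg : χ.1 1 = p) (hfaith : ∀ g : G, χ.1 g = χ.1 1 → g = 1) (hdiv : p ^ 2 ∣ Nat.card G) : Subgroup.center G ≠ ⊥ := by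
  exact main p hp χ hdeg hfaith hdiv

end Cfsg.Agent.S3968
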