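import Cfsg.Statements.S3971
import Cfsg.Agent.Counting.RankComplement

set_option autoImplicit false
open Cfsg

namespace Cfsg.Agent.S3971

/-- Let `G` be a finite group of order `2 ^ a * n` with `n` odd and not divisible by `3`, and suppose `G` has an element of order `2 ^ (a - 1)` (so a Sylow `2`-subgroup has a cyclic subgroup of index at most `2`). Then `G` has a normal subgroup of order `n`. -/
theorem result {G : Type*} [Group G] [Finite G] (a n : ℕ) (hG : Nat.card G = 2 ^ a * n) (hn : Odd n) (h3 : ¬ 3 ∣ n) (hx : ∃ x : G, orderOf x = 2 ^ (a - 1)) : ∃ N : Subgroup G, N.Normal ∧ Nat.card N = n := by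
  obtain ⟨x, hx⟩ := hx
  have := Fact.mk Nat.prime_two
  have hn0 : 0 < n := hn.pos
  have hfac : (Nat.card G).factorization 2 = a := by
    rw [hG, Nat.factorization_mul (by positivity) hn0.ne', Finsupp.add_apply,
      Nat.prime_two.factorization_pow, Finsupp.single_eq_same,
      Nat.factorization_eq_zero_of_not_dvd (fun h => Nat.not_even_iff_odd.mpr hn (even_iff_two_dvd.mpr h)),
      add_zero]
  have hrank : ∀ Q : Subgroup G, IsPGroup 2 Q → Group.rank Q ≤ 2 := by
    intro Q hQ
    obtain ⟨P, hP⟩ := (IsPGroup.of_card (p := 2) (G := Subgroup.zpowers x) (n := a - 1)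
      ((Nat.card_zpowers x).trans hx)).exists_le_sylow
    obtain ⟨S, hS⟩ := hQ.exists_le_sylow
    obtain ⟨g, hg⟩ := MulAction.exists_smul_eq G S P
    -- a cyclic subgroup of index at most two in a Sylow subgroup above `Q`
    let c := g⁻¹ * x * g
    have hc : c ∈ (S : Subgroup G) := by
      have hxP : x ∈ (P : Subgroup G) := hP (Subgroup.mem_zpowers x)
      rw [← hg, Cfsg.Lib.Transfer.sylow_smul_coe, Cfsg.Lib.Transfer.mem_map_conj] at hxP
      exact hxP
    let c' : (S : Subgroup G) := ⟨c, hc⟩
    have hord : orderOf c' = 2 ^ (a - 1) := by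
      rw [Subgroup.orderOf_mk, ← hx]
      exact orderOf_injective (MulAut.conj g⁻¹).toMonoidHom (MulAut.conj g⁻¹).injective x |>.symm |>
        fun h => by simpa [c, MulAut.conj_apply] using h.symm
    have hScard : Nat.card (S : Subgroup G) = 2 ^ a := by rw [S.card_eq_multiplicity, hfac]
    have hidx : (Subgroup.zpowers c').index ≤ 2 := by
      have h := (Subgroup.zpowers c').card_mul_index
      rw [Nat.card_zpowers, hord, hScard] at h
      have hpos : 0 < 2 ^ (a - 1) := by positivity
      have hle : 2 ^ a ≤ 2 ^ (a - 1) * 2 := by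
        rw [← pow_succ]; exact Nat.pow_le_pow_right (by norm_num) (by omega)
      rw [← h] at hle
      exact Nat.le_of_mul_le_mul_left hle hpos
    rw [← Group.rank_congr (Subgroup.subgroupOfEquivOfLe hS)]
    exact Cfsg.Lib.RankComplement.rank_le_two_of_cyclic_index (Subgroup.zpowers c') inferInstance hidx _
  have hc : Cfsg.HasNormalPComplement 2 G :=
    Cfsg.Lib.RankComplement.hasNormalPComplement_of_rank fun Q hQ q hq hq2 hqd i hi1 hi2 hqi => by
      have := hrank Q hQ
      obtain rfl | rfl : i = 1 ∨ i = 2 := by omega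
      · norm_num at hqi
        exact hq.ne_one hqi
      · norm_num at hqi
        have hq3 : q = 3 := (Nat.prime_dvd_prime_iff_eq hq Nat.prime_three).mp hqi
        subst hq3
        rw [hG] at hqd
        rcases (Nat.Prime.dvd_mul hq).mp hqd with h | h
        · have := hq.dvd_of_dvd_pow h
          omega
        · exact h3 h
  obtain ⟨P, N, hN, hcomp⟩ := hc
  refine ⟨N, hN, ?_⟩
  have h := hcomp.card_mul
  rw [P.card_eq_multiplicity, hfac, hG, mul_comm (2 ^ a) n] at h
  exact Nat.eq_of_mul_eq_mul_right (by positivity) h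

end Cfsg.Agent.S3971
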