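import Cfsg.Statements.S3973
import Cfsg.Agent.Schur.Basic

set_option autoImplicit false
open Cfsg

namespace Cfsg.Agent.S3973

/-- If a finite group is presented by `n` generators and a finite set of `r` relators, then its Schur multiplier can be generated by `r - n` elements. In particular a finite group with a presentation having as many relators as generators has trivial Schur multiplier. -/
theorem result (n : ℕ) (rels : Finset (FreeGroup (Fin n))) [Finite (PresentedGroup (rels : Set (FreeGroup (Fin n))))] {A : Type*} [CommGroup A] [Finite A] (hA : Cfsg.HasSchurMultiplier (PresentedGroup (rels : Set (FreeGroup (Fin n)))) A) : Group.rank A ≤ rels.card - n := by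
  set π : FreeGroup (Fin n) →* PresentedGroup (rels : Set (FreeGroup (Fin n))) :=
    PresentedGroup.mk (rels : Set (FreeGroup (Fin n))) with hπdef
  have hπ : Function.Surjective π := PresentedGroup.mk_surjective _
  obtain ⟨eA⟩ := (Cfsg.Lib.Schur.hasSchurMultiplier_iff hπ).mp hA
  have hkerπ : π.ker = Subgroup.normalClosure (rels : Set (FreeGroup (Fin n))) :=
    QuotientGroup.ker_mk' _
  let K := (Cfsg.Lib.Schur.proj π).ker
  let : CommGroup K :=
    { (inferInstance : Group K) with
      mul_comm := Cfsg.Lib.Schur.mul_comm_of_le_center (Cfsg.Lib.Schur.ker_proj_le_center π) }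
  let qm := QuotientGroup.mk' (Cfsg.Lib.Schur.relComm π)
  let el : rels → K := fun x => ⟨qm x.1, by
    show π x.1 = 1
    rw [← MonoidHom.mem_ker, hkerπ]; exact Subgroup.subset_normalClosure x.2⟩
  let Φ : (rels →₀ ℤ) →ₗ[ℤ] Additive K := Finsupp.linearCombination ℤ (fun x => Additive.ofMul (el x))
  let g : Additive K →ₗ[ℤ] (Fin n →₀ ℤ) :=
    (MonoidHom.toAdditiveLeft ((Cfsg.Lib.Schur.ab π).comp K.subtype)).toIntLinearMap
  have hΦ : ∀ y : Additive K, y ∈ LinearMap.range Φ := by
    intro y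
    obtain ⟨x, hx⟩ := QuotientGroup.mk'_surjective (Cfsg.Lib.Schur.relComm π) (Additive.toMul y).1
    let S : Subgroup (Cfsg.Lib.Schur.E π) := (LinearMap.range Φ).toAddSubgroup.toSubgroup'.map K.subtype
    have hS : S.Normal := Cfsg.Lib.Schur.normal_of_le_center ((Subgroup.map_subtype_le _).trans
      (Cfsg.Lib.Schur.ker_proj_le_center π))
    have h1 : Subgroup.normalClosure (rels : Set (FreeGroup (Fin n))) ≤ S.comap qm := by
      refine Subgroup.normalClosure_le_normal fun r hr => ?_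
      refine Subgroup.mem_map.mpr ⟨el ⟨r, hr⟩, ?_, rfl⟩
      exact ⟨Finsupp.single ⟨r, hr⟩ 1, show Φ _ = Additive.ofMul (el ⟨r, hr⟩) by simp [Φ]⟩
    have hx1 : x ∈ π.ker := by
      show Cfsg.Lib.Schur.proj π (qm x) = 1
      rw [show qm x = (Additive.toMul y).1 from hx]; exact (Additive.toMul y).2
    rw [hkerπ] at hx1
    obtain ⟨k, hk, hk'⟩ := h1 hx1
    have : k = Additive.toMul y := Subtype.ext (hk'.trans hx)
    have hk2 : Additive.ofMul k ∈ LinearMap.range Φ := hk
    rwa [this, ofMul_toMul] at hk2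
  -- the exponent sums of the relators span a subgroup of finite index
  have hN : ∀ v : Fin n →₀ ℤ,
      (Nat.card (PresentedGroup (rels : Set (FreeGroup (Fin n)))) : ℤ) • v ∈ LinearMap.range (g ∘ₗ Φ) := by
    intro v
    obtain ⟨e, he⟩ := Cfsg.Lib.Schur.ab_surjective (π := π) (Multiplicative.ofAdd v)
    have hek : e ^ Nat.card (PresentedGroup (rels : Set (FreeGroup (Fin n)))) ∈ K := by
      show Cfsg.Lib.Schur.proj π _ = 1
      rw [map_pow, pow_card_eq_one']
    obtain ⟨y, hy⟩ := hΦ (Additive.ofMul ⟨_, hek⟩)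
    refine ⟨y, ?_⟩
    rw [LinearMap.comp_apply, hy]
    show Multiplicative.toAdd (Cfsg.Lib.Schur.ab π (e ^ _)) = _
    rw [map_pow, he, ← ofAdd_nsmul, toAdd_ofAdd, natCast_zsmul]
  have hrank : n ≤ Module.finrank ℤ (LinearMap.range (g ∘ₗ Φ)) := by
    let m : (Fin n →₀ ℤ) →ₗ[ℤ] LinearMap.range (g ∘ₗ Φ) :=
      ((Nat.card (PresentedGroup (rels : Set (FreeGroup (Fin n)))) : ℤ) •
        LinearMap.id (R := ℤ) (M := Fin n →₀ ℤ)).codRestrict _ (fun v => by simpa using hN v)
    have hm : Function.Injective m := fun a b hab => by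
      have h := congrArg Subtype.val hab
      exact smul_right_injective (Fin n →₀ ℤ) (by exact_mod_cast Nat.card_pos.ne' :
        (Nat.card (PresentedGroup (rels : Set (FreeGroup (Fin n)))) : ℤ) ≠ 0) h
    have := LinearMap.finrank_le_finrank_of_injective hm
    rwa [Module.finrank_finsupp_self, Fintype.card_fin] at this
  have hker : Module.finrank ℤ (LinearMap.ker (g ∘ₗ Φ)) ≤ rels.card - n := by
    have h := Submodule.finrank_quotient_add_finrank (LinearMap.ker (g ∘ₗ Φ))
    rw [(LinearMap.quotKerEquivRange (g ∘ₗ Φ)).finrank_eq, Module.finrank_finsupp_self,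
      Fintype.card_coe] at h
    omega
  let b := Module.finBasis ℤ (LinearMap.ker (g ∘ₗ Φ))
  have hmem : ∀ z : LinearMap.ker (g ∘ₗ Φ), (Additive.toMul (Φ z)).1 ∈ Cfsg.Lib.Schur.M π := by
    intro z
    refine ⟨(Additive.toMul (Φ z)).2, ?_⟩
    show _ ∈ commutator (Cfsg.Lib.Schur.E π)
    rw [← Cfsg.Lib.Schur.ker_ab, MonoidHom.mem_ker]
    exact Multiplicative.toAdd.injective (z.2 : g (Φ z) = 0)
  let Ψ : LinearMap.ker (g ∘ₗ Φ) → Cfsg.Lib.Schur.M π := fun z => ⟨_, hmem z⟩
  classical
  have hgen : Subgroup.closure ((Finset.univ.image (fun i => Ψ (b i)) :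
      Finset (Cfsg.Lib.Schur.M π)) : Set (Cfsg.Lib.Schur.M π)) = ⊤ := by
    rw [eq_top_iff]
    rintro ⟨m, hm⟩ -
    obtain ⟨z, hz⟩ := hΦ (Additive.ofMul ⟨m, hm.1⟩)
    have hz0 : z ∈ LinearMap.ker (g ∘ₗ Φ) := by
      rw [LinearMap.mem_ker, LinearMap.comp_apply, hz]
      show Multiplicative.toAdd (Cfsg.Lib.Schur.ab π m) = 0
      rw [show Cfsg.Lib.Schur.ab π m = 1 by
        rw [← MonoidHom.mem_ker, Cfsg.Lib.Schur.ker_ab]; exact hm.2]
      rfl
    have e : (⟨m, hm⟩ : Cfsg.Lib.Schur.M π) = Ψ ⟨z, hz0⟩ :=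
      Subtype.ext (congrArg (fun y : Additive K => (Additive.toMul y).1) hz).symm
    rw [e]
    have hadd : ∀ z w, Ψ (z + w) = Ψ z * Ψ w := fun z w => Subtype.ext (by
      show (Additive.toMul (Φ ((z : rels →₀ ℤ) + w))).1 = _
      rw [map_add]; rfl)
    have hzero : Ψ 0 = 1 := Subtype.ext (by
      show (Additive.toMul (Φ 0)).1 = _
      rw [map_zero]; rfl)
    have hsmul : ∀ (k : ℤ) z, Ψ (k • z) = Ψ z ^ k := fun k z => Subtype.ext (by
      show (Additive.toMul (Φ (k • (z : rels →₀ ℤ)))).1 = _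
      rw [map_zsmul]; rfl)
    generalize (⟨z, hz0⟩ : LinearMap.ker (g ∘ₗ Φ)) = w
    induction (b.mem_span w) using Submodule.span_induction with
    | mem x hx =>
      obtain ⟨i, rfl⟩ := hx
      exact Subgroup.subset_closure (Finset.mem_coe.mpr (Finset.mem_image_of_mem _ (Finset.mem_univ i)))
    | zero => rw [hzero]; exact Subgroup.one_mem _
    | add x y _ _ hx hy => rw [hadd]; exact Subgroup.mul_mem _ hx hy
    | smul k x _ hx => rw [hsmul]; exact Subgroup.zpow_mem _ hx k
  have := Cfsg.Lib.Schur.finite_M π hπ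
  rw [Group.rank_congr eA]
  refine (Group.rank_le hgen).trans (Finset.card_image_le.trans ?_)
  rw [Finset.card_univ, Fintype.card_fin]
  exact hker

end Cfsg.Agent.S3973
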