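import Cfsg.Statements.S3976
import Cfsg.Agent.Counting.Wielandt

set_option autoImplicit false
open Cfsg

namespace Cfsg.Agent.S3976

/-- Let `p` be a prime and `G` a group of order `p ^ m`. For every `s ≤ m` the number of normal subgroups of `G` of order `p ^ s` is congruent to `1` modulo `p`. -/
theorem result {G : Type*} [Group G] [Finite G] (p m s : ℕ) (hp : p.Prime) (hG : Nat.card G = p ^ m) (hs : s ≤ m) : Nat.card {H : Subgroup G // H.Normal ∧ Nat.card H = p ^ s} ≡ 1 [MOD p] := by
  have := Fact.mk hp
  let X := {H : Subgroup G // Nat.card H = p ^ s}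
  let : MulAction G X :=
    { smul := fun g H => ⟨H.1.map (MulAut.conj g).toMonoidHom,
        (Subgroup.card_map_of_injective (MulAut.conj g).injective).trans H.2⟩
      one_smul := fun H => Subtype.ext (by
        show H.1.map (MulAut.conj (1 : G)).toMonoidHom = H.1
        rw [map_one]; exact Subgroup.map_id H.1)
      mul_smul := fun a b H => Subtype.ext (by
        show H.1.map (MulAut.conj (a * b)).toMonoidHom =
          (H.1.map (MulAut.conj b).toMonoidHom).map (MulAut.conj a).toMonoidHom
        rw [Subgroup.map_map, map_mul]; rfl) }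
  have h := (IsPGroup.of_card hG).card_modEq_card_fixedPoints X
  have h1 := Cfsg.Lib.Counting.card_subgroups_modEq_one (G := G) (β := s) hp
    (hG ▸ pow_dvd_pow p hs)
  have e : Nat.card (MulAction.fixedPoints G X) =
      Nat.card {H : Subgroup G // H.Normal ∧ Nat.card H = p ^ s} := Nat.card_congr
    { toFun := fun H => ⟨H.1.1, ⟨fun x hx g => by
        have hH : (H.1.1).map (MulAut.conj g).toMonoidHom = H.1.1 := congrArg Subtype.val (H.2 g)
        rw [← hH]
        exact ⟨x, hx, rfl⟩⟩, H.1.2⟩
      invFun := fun H => ⟨⟨H.1, H.2.2⟩, fun g => Subtype.ext (by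
        have := H.2.1
        refine Subgroup.eq_of_le_of_card_ge ?_ (le_of_eq
          (Subgroup.card_map_of_injective (MulAut.conj g).injective).symm)
        rintro _ ⟨x, hx, rfl⟩
        exact this.conj_mem x hx g)⟩
      left_inv := fun H => rfl
      right_inv := fun H => rfl }
  exact (e ▸ h.symm).trans h1

end Cfsg.Agent.S3976
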