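import Cfsg.Statements.S3977
import Cfsg.Agent.Frobenius.UniqueSubgroup

set_option autoImplicit false
open Cfsg

namespace Cfsg.Agent.S3977

/-- Let `p` be a prime and `G` a group of order `p ^ m` which has exactly one subgroup of order `p ^ s`, where `1 ≤ s < m`, and where `s ≥ 2` if `p = 2`. Then `G` is cyclic. (For `p = 2` and `s = 1` the generalized quaternion groups also occur; that case is the classical criterion for a unique involution.) -/
theorem result {G : Type*} [Group G] [Finite G] (p m s : ℕ) (hp : p.Prime) (hG : Nat.card G = p ^ m) (hs : 1 ≤ s) (hsm : s < m) (h2 : p ≠ 2 ∨ 2 ≤ s) (huniq : ∀ H K : Subgroup G, Nat.card H = p ^ s → Nat.card K = p ^ s → H = K) : IsCyclic G := by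
  have := Fact.mk hp
  have hpG : IsPGroup p G := IsPGroup.of_card hG
  obtain ⟨H, hH⟩ := Sylow.exists_subgroup_card_pow_prime (G := G) p (hG ▸ pow_dvd_pow p hsm.le)
  have small : ∀ (x : G) (j : ℕ), orderOf x = p ^ j → j ≤ s → x ∈ H := by
    intro x j hj hjs
    obtain ⟨K, hK, hle⟩ := Sylow.exists_subgroup_card_pow_prime_le p
      (hG ▸ pow_dvd_pow p hsm.le) (Subgroup.zpowers x) ((Nat.card_zpowers x).trans hj) hjs
    exact huniq K H hK hH ▸ hle (Subgroup.mem_zpowers x)
  obtain ⟨K, hK, hHK⟩ := Sylow.exists_subgroup_card_pow_succ (G := G) (p := p) (n := s)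
    (hG ▸ pow_dvd_pow p (Nat.succ_le_iff.mpr hsm)) hH
  obtain ⟨x, hxK, hxH⟩ : ∃ x ∈ K, x ∉ H := by
    by_contra hall
    push Not at hall
    have := Nat.le_of_dvd Nat.card_pos (Subgroup.card_dvd_of_le hall)
    rw [hK, hH] at this
    exact absurd this (not_le.mpr (Nat.pow_lt_pow_right hp.one_lt (Nat.lt_succ_self s)))
  obtain ⟨j, hj⟩ := IsPGroup.iff_orderOf.mp hpG x
  have hjs : s < j := by
    by_contra hle
    exact hxH (small x j hj (not_lt.mp hle))
  have hKx : Subgroup.zpowers x = K := Subgroup.eq_of_le_of_card_ge (Subgroup.zpowers_le.mpr hxK)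
    (by rw [hK, Nat.card_zpowers, hj]; exact Nat.pow_le_pow_right hp.pos hjs)
  subst hKx
  have hHcyc : IsCyclic H := Subgroup.isCyclic_of_le hHK
  have huni : ∀ y z : G, orderOf y = p → orderOf z = p → z ∈ Subgroup.zpowers y := by
    intro y z hy hz
    have hyH : y ∈ H := small y 1 (by rw [hy, pow_one]) hs
    have hzH : z ∈ H := small z 1 (by rw [hz, pow_one]) hs
    classical
    have := Fintype.ofFinite H
    by_contra hzy
    have hp1 : (Finset.univ.filter fun w : H => w ^ p = 1).card ≤ p :=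
      IsCyclic.card_pow_eq_one_le hp.pos
    have := Fintype.ofFinite (Subgroup.zpowers y)
    let f : Subgroup.zpowers y → H := fun w => ⟨w.1, (Subgroup.zpowers_le.mpr hyH) w.2⟩
    have hins : insert (⟨z, hzH⟩ : H) (Finset.univ.image f) ⊆
        Finset.univ.filter fun w : H => w ^ p = 1 := by
      intro w hw
      refine Finset.mem_filter.mpr ⟨Finset.mem_univ _, Subtype.ext ?_⟩
      show (w : G) ^ p = 1
      rcases Finset.mem_insert.mp hw with rfl | hw
      · rw [← hz]; exact pow_orderOf_eq_one z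
      · obtain ⟨v, -, rfl⟩ := Finset.mem_image.mp hw
        refine orderOf_dvd_iff_pow_eq_one.mp ?_
        rw [← hy, ← Nat.card_zpowers y]
        exact Subgroup.orderOf_dvd_natCard (Subgroup.zpowers y) v.2
    have h3 := (Finset.card_le_card hins).trans hp1
    rw [Finset.card_insert_of_notMem (fun hm => by
        obtain ⟨v, -, hv⟩ := Finset.mem_image.mp hm
        have hv' : (v : G) = z := congrArg Subtype.val hv
        exact hzy (hv' ▸ v.2)),
      Finset.card_image_of_injective _ (fun a b h => Subtype.ext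
        (show (a : G) = b from congrArg (fun w : H => (w : G)) h)),
      Finset.card_univ, ← Nat.card_eq_fintype_card, Nat.card_zpowers, hy] at h3
    omega
  rcases Cfsg.Lib.UniqueSub.isCyclic_or_quaternion hpG huni with hc | ⟨rfl, n, ⟨e⟩⟩
  · exact hc
  exfalso
  have hmem : ∀ i : ZMod (2 * 2 ^ n), e.symm (QuaternionGroup.xa i) ∈ H := fun i =>
    small _ 2 (by rw [MulEquiv.orderOf_eq, QuaternionGroup.orderOf_xa]; norm_num) (h2.resolve_left (by simp))
  obtain ⟨g, hg⟩ := hHcyc.exists_generator
  have hcomm : e.symm (QuaternionGroup.xa 0) * e.symm (QuaternionGroup.xa 1) =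
      e.symm (QuaternionGroup.xa 1) * e.symm (QuaternionGroup.xa 0) := by
    obtain ⟨a, ha⟩ := Subgroup.mem_zpowers_iff.mp (hg ⟨_, hmem 0⟩)
    obtain ⟨b, hb⟩ := Subgroup.mem_zpowers_iff.mp (hg ⟨_, hmem 1⟩)
    have ha' : (g : G) ^ a = e.symm (QuaternionGroup.xa 0) := congrArg Subtype.val ha
    have hb' : (g : G) ^ b = e.symm (QuaternionGroup.xa 1) := congrArg Subtype.val hb
    rw [← ha', ← hb', ← zpow_add, ← zpow_add, add_comm]
  rw [← map_mul, ← map_mul, e.symm.injective.eq_iff, QuaternionGroup.xa_mul_xa,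
    QuaternionGroup.xa_mul_xa, QuaternionGroup.a.injEq] at hcomm
  rcases Nat.eq_zero_or_pos n with rfl | hn
  · have hcard : Nat.card G = 4 := by
      rw [Nat.card_congr e.toEquiv, Nat.card_eq_fintype_card, QuaternionGroup.card]; norm_num
    rw [hG] at hcard
    have : (2 : ℕ) ^ 3 ≤ 2 ^ m := Nat.pow_le_pow_right (by norm_num) (by
      have := h2.resolve_left (by simp)
      omega)
    omega
  · have h20 : ((2 : ℕ) : ZMod (2 * 2 ^ n)) = 0 := by
      push_cast
      linear_combination hcomm
    rw [ZMod.natCast_eq_zero_iff] at h20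
    have h4 := Nat.le_of_dvd (by norm_num) h20
    have : 2 ^ 1 ≤ 2 ^ n := Nat.pow_le_pow_right (by norm_num) hn
    omega

end Cfsg.Agent.S3977
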