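import Cfsg.Statements.S3978
import Cfsg.Agent.Schur.Projective

set_option autoImplicit false
open Cfsg

namespace Cfsg.Agent.S3978

/-- A finite group `Q` has trivial Schur multiplier if and only if, for every `n`, every homomorphism from `Q` to the projective general linear group (the quotient of `GL n ℂ` by its centre) lifts to a homomorphism into `GL n ℂ`. -/
theorem result {Q : Type*} [Group Q] [Finite Q] : Cfsg.HasCyclicSchurMultiplier Q 1 ↔ ∀ (n : ℕ) (γ : Q →* (GL (Fin n) ℂ ⧸ Subgroup.center (GL (Fin n) ℂ))), ∃ ρ : Q →* GL (Fin n) ℂ, (QuotientGroup.mk' (Subgroup.center (GL (Fin n) ℂ))).comp ρ = γ := by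
  refine ⟨fun h n γ => Cfsg.Lib.Schur.lift_of_trivial h n γ, fun h => ?_⟩
  have hid : Cfsg.IsStemExtension (MonoidHom.id Q) := ⟨Function.surjective_id, by simp, by simp⟩
  obtain ⟨e⟩ := Cfsg.Lib.Schur.exists_surj_of_lift hid (fun n γ => h n γ)
  refine Cfsg.Lib.Schur.hasCyclicSchurMultiplier_one_of fun Γ _ _ σ hσ => ?_
  obtain ⟨f, hf⟩ := Cfsg.Lib.Schur.exists_surj hσ (Cfsg.Lib.Schur.canon_surjective Q)
  refine (Subgroup.eq_bot_iff_forall _).mpr fun x hx => ?_
  obtain ⟨m, hm⟩ := hf ⟨x, hx⟩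
  have : e.symm m = 1 := Subtype.ext (e.symm m).2
  rw [MulEquiv.map_eq_one_iff] at this
  rw [this, map_one] at hm
  exact (congrArg Subtype.val hm).symm

end Cfsg.Agent.S3978
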