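import Cfsg.Statements.S3981
import Cfsg.Agent.Coprime.Basic

set_option autoImplicit false
open Cfsg

namespace Cfsg.Agent.S3981

/-- Let p be an odd prime, Q a p-subgroup of the finite group G and y an involution normalizing Q. Then Q is maximal among the p-subgroups of G normalized by y if and only if the image of y in N_G(Q) ⧸ Q neither inverts nor centralizes any element of order p there; the latter is phrased inside N_G(Q): for every x in N_G(Q) outside Q with x ^ p ∈ Q, neither y x y⁻¹ x nor y x y⁻¹ x⁻¹ lies in Q. -/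
theorem result {G : Type*} [Group G] [Finite G] (p : ℕ) [Fact p.Prime] (hp2 : p ≠ 2) (Q : Subgroup G) (hQ : IsPGroup p ↥Q) (y : G) (hy : orderOf y = 2) (hyQ : y ∈ Subgroup.normalizer (Q : Set G)) : (∀ R : Subgroup G, IsPGroup p ↥R → Q ≤ R → y ∈ Subgroup.normalizer (R : Set G) → R = Q) ↔ ∀ x : G, x ∈ Subgroup.normalizer (Q : Set G) → x ∉ Q → x ^ p ∈ Q → (y * x * y⁻¹ * x ∉ Q ∧ y * x * y⁻¹ * x⁻¹ ∉ Q) := by
  have hp : p.Prime := Fact.out
  set N := Subgroup.normalizer (Q : Set G) with hN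
  constructor
  · intro h x hx hxQ hxp
    by_contra hcon
    have hcon' : y * x * y⁻¹ * x ∈ Q ∨ y * x * y⁻¹ * x⁻¹ ∈ Q := by tauto
    set R := Q ⊔ Subgroup.zpowers x with hR
    have hXN : Subgroup.zpowers x ≤ Subgroup.normalizer (Q : Set G) := Subgroup.zpowers_le.mpr hx
    have hxpg : IsPGroup p (Subgroup.zpowers x) := by
      obtain ⟨k, hk⟩ := hQ ⟨x ^ p, hxp⟩
      have hk' : x ^ p ^ (k + 1) = 1 := by
        have := congrArg Subtype.val hk
        simp only [SubgroupClass.coe_pow, OneMemClass.coe_one] at this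
        rw [pow_succ', pow_mul]; exact this
      obtain ⟨j, -, hj⟩ := (Nat.dvd_prime_pow hp).mp (orderOf_dvd_of_pow_eq_one hk')
      exact IsPGroup.of_card ((Nat.card_zpowers x).trans hj)
    have hRp : IsPGroup p R := IsPGroup.to_sup_of_normal_left' hQ hxpg hXN
    have hyx : y * x * y⁻¹ ∈ R := by
      rcases hcon' with h1 | h1
      · have := Subgroup.mul_mem R (Subgroup.mem_sup_left h1)
          (Subgroup.mem_sup_right (Subgroup.inv_mem _ (Subgroup.mem_zpowers x)))
        rwa [mul_inv_cancel_right] at this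
      · have := Subgroup.mul_mem R (Subgroup.mem_sup_left h1)
          (Subgroup.mem_sup_right (Subgroup.mem_zpowers x))
        rwa [inv_mul_cancel_right] at this
    have hyR : y ∈ Subgroup.normalizer (R : Set G) := by
      rw [← Cfsg.Lib.Coprime.conjMap_eq_self_iff]
      refine Cfsg.Lib.Coprime.eq_of_le_of_card_eq ?_ (Cfsg.Lib.Coprime.card_conjMap _ _)
      rw [hR, Cfsg.Lib.Coprime.conjMap_sup, Cfsg.Lib.Coprime.conjMap_eq_self hyQ]
      refine sup_le le_sup_left ?_
      rintro _ ⟨w, hw, rfl⟩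
      obtain ⟨i, rfl⟩ := hw
      show y * x ^ i * y⁻¹ ∈ R
      rw [← conj_zpow]
      exact R.zpow_mem hyx i
    exact hxQ (h R hRp le_sup_left hyR ▸ Subgroup.mem_sup_right (Subgroup.mem_zpowers x))
  · intro h R hRp hQR hyR
    by_contra hne
    have hlt : Q < R := lt_of_le_of_ne hQR (Ne.symm hne)
    have : Group.IsNilpotent R := hRp.isNilpotent
    have hlt' : Q.subgroupOf R < ⊤ := by
      refine lt_top_iff_ne_top.mpr fun e => hne (le_antisymm (Subgroup.subgroupOf_eq_top.mp e) hQR)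
    have hnc := Group.normalizerCondition_of_isNilpotent _ hlt'
    obtain ⟨w, hwN, hwQ⟩ := SetLike.exists_of_lt hnc
    have hwN' : (w : G) ∈ N := by
      rw [hN, Subgroup.mem_normalizer_iff]
      intro u
      have hw' := Subgroup.mem_normalizer_iff.mp hwN
      constructor
      · intro hu
        simpa [Subgroup.mem_subgroupOf] using (hw' ⟨u, hQR hu⟩).mp hu
      · intro hu
        have huR : u ∈ R := by
          have := R.mul_mem (R.mul_mem (R.inv_mem w.2) (hQR hu)) w.2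
          rwa [show (w : G)⁻¹ * (w * u * (w : G)⁻¹) * w = u by group] at this
        simpa [Subgroup.mem_subgroupOf] using (hw' ⟨u, huR⟩).mpr hu
    set M := ((R.subgroupOf N).map (QuotientGroup.mk' (Q.subgroupOf N))) with hM
    have : (Q.subgroupOf N).Normal := inferInstance
    have hMp : IsPGroup p M := IsPGroup.map hRp.comap_subtype _
    have hMne : Nontrivial M := by
      refine (Subgroup.nontrivial_iff_ne_bot M).mpr fun e => hwQ ?_
      have hmem : QuotientGroup.mk' (Q.subgroupOf N) ⟨w, hwN'⟩ ∈ M := ⟨_, w.2, rfl⟩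
      rw [e, Subgroup.mem_bot] at hmem
      exact (QuotientGroup.eq_one_iff (⟨w, hwN'⟩ : N)).mp hmem
    have := hMp.center_nontrivial
    obtain ⟨z₀, hz₀⟩ := exists_ne (1 : Subgroup.center M)
    obtain ⟨k, hk⟩ := IsPGroup.iff_orderOf.mp (hMp.to_subgroup (Subgroup.center M)) z₀
    have hk0 : k ≠ 0 := fun e => hz₀ (orderOf_eq_one_iff.mp (by rw [hk, e, pow_zero]))
    set z₁ := z₀ ^ (orderOf z₀ / p)
    have hz₁o : orderOf z₁ = p := orderOf_pow_orderOf_div (orderOf_pos z₀).ne' (hk ▸ dvd_pow_self p hk0)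
    set z : N ⧸ Q.subgroupOf N := ((z₁ : M) : N ⧸ Q.subgroupOf N)
    have hzo : orderOf z = p := by
      rw [Subgroup.orderOf_coe, Subgroup.orderOf_coe]; exact hz₁o
    have hzc : ∀ m ∈ M, m * z = z * m := fun m hm =>
      congrArg Subtype.val (Subgroup.mem_center_iff.mp z₁.2 ⟨m, hm⟩)
    set yb := QuotientGroup.mk' (Q.subgroupOf N) ⟨y, hyQ⟩ with hyb
    have hy2 : y⁻¹ = y := inv_eq_of_mul_eq_one_right (by rw [← sq, ← hy, pow_orderOf_eq_one])
    have hyb2 : yb⁻¹ = yb := by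
      rw [hyb, ← map_inv]; exact congrArg _ (Subtype.ext hy2)
    have hconjM : ∀ m ∈ M, yb * m * yb⁻¹ ∈ M := by
      rintro _ ⟨u, hu, rfl⟩
      exact ⟨⟨y, hyQ⟩ * u * ⟨y, hyQ⟩⁻¹, (Subgroup.mem_normalizer_iff.mp hyR (u : G)).mp hu,
        by simp [hyb]⟩
    have hzM : z ∈ M := (z₁ : M).2
    set z' := yb * z * yb⁻¹ with hz'
    have hcomm : Commute z z' := (hzc z' (hconjM z hzM)).symm
    obtain ⟨u, huM, hup, hu1, hy'⟩ : ∃ u ∈ M, u ^ p = 1 ∧ u ≠ 1 ∧
        (yb * u * yb⁻¹ * u = 1 ∨ yb * u * yb⁻¹ * u⁻¹ = 1) := by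
      have hzp : z ^ p = 1 := hzo ▸ pow_orderOf_eq_one z
      by_cases hzz : z * z' = 1
      · exact ⟨z, hzM, hzp, fun e => hp.ne_one (by rw [← hzo, e, orderOf_one]),
          Or.inl (by rw [← hz', ← hcomm.eq]; exact hzz)⟩
      · refine ⟨z * z', M.mul_mem hzM (hconjM z hzM), ?_, hzz, Or.inr ?_⟩
        · rw [hcomm.mul_pow, hz', conj_pow, hzp]; group
        · have hyy : yb * yb = 1 := by nth_rewrite 1 [← hyb2]; exact inv_mul_cancel yb
          rw [mul_inv_eq_one, hz']
          calc yb * (z * (yb * z * yb⁻¹)) * yb⁻¹ = yb * z * yb⁻¹ * ((yb * yb) * z * (yb * yb)⁻¹) := by group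
            _ = yb * z * yb⁻¹ * z := by rw [hyy]; group
            _ = _ := hcomm.eq.symm
    obtain ⟨x, hxR, rfl⟩ := huM
    have hxQ : (x : G) ∉ Q := fun e => hu1 ((QuotientGroup.eq_one_iff x).mpr e)
    have hxp : (x : G) ^ p ∈ Q := by
      rw [← map_pow] at hup
      exact (QuotientGroup.eq_one_iff (x ^ p)).mp hup
    obtain ⟨h1, h2⟩ := h x x.2 hxQ hxp
    rcases hy' with e | e
    · rw [hyb, ← map_inv, ← map_mul, ← map_mul, ← map_mul] at e
      exact h1 ((QuotientGroup.eq_one_iff ((⟨y, hyQ⟩ : N) * x * (⟨y, hyQ⟩ : N)⁻¹ * x)).mp e)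
    · rw [hyb, ← map_inv, ← map_inv, ← map_mul, ← map_mul, ← map_mul] at e
      exact h2 ((QuotientGroup.eq_one_iff ((⟨y, hyQ⟩ : N) * x * (⟨y, hyQ⟩ : N)⁻¹ * x⁻¹)).mp e)

end Cfsg.Agent.S3981
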