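import Cfsg.Statements.S3982
import Cfsg.Agent.Coprime.Sylow

set_option autoImplicit false
open Cfsg

namespace Cfsg.Agent.S3982

/-- Let p be an odd prime and G a finite group of even order divisible by p in which the centralizer of every non-identity p-element has odd order. If some nontrivial p-subgroup of G has a normalizer of even order, then the normalizer of every Sylow p-subgroup of G has even order. -/
theorem result {G : Type*} [Group G] [Finite G] (p : ℕ) [Fact p.Prime] (hp2 : p ≠ 2) (hpG : p ∣ Nat.card G) (h2G : 2 ∣ Nat.card G) (hC : ∀ g : G, g ≠ 1 → (∃ k : ℕ, orderOf g = p ^ k) → Odd (Nat.card ↥(Subgroup.centralizer ({g} : Set G)))) (Q : Subgroup G) (hQ : IsPGroup p ↥Q) (hQ1 : Q ≠ ⊥) (hev : Even (Nat.card ↥(Subgroup.normalizer (Q : Set G)))) (P : Sylow p G) : Even (Nat.card ↥(Subgroup.normalizer ((P : Subgroup G) : Set G))) := by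
  have hp : p.Prime := Fact.out
  have := Fact.mk Nat.prime_two
  obtain ⟨⟨y, hyQ⟩, hy⟩ := exists_prime_orderOf_dvd_card' 2 (even_iff_two_dvd.mp hev)
  rw [Subgroup.orderOf_mk] at hy
  obtain ⟨R, hR, hRmax⟩ := exists_maximal_of_wellFoundedGT
    (fun R : Subgroup G => IsPGroup p R ∧ Q ≤ R ∧ y ∈ Subgroup.normalizer (R : Set G)) ⟨Q, hQ, le_rfl, hyQ⟩
  obtain ⟨hRp, hQR, hyR⟩ := hR
  obtain ⟨q, hq, hq1⟩ : ∃ q ∈ Q, q ≠ 1 := by
    by_contra hall
    push Not at hall
    exact hQ1 ((Subgroup.eq_bot_iff_forall _).mpr hall)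
  have hfree : ∀ g : G, (∃ k : ℕ, orderOf g = p ^ k) → g * y = y * g → g = 1 := by
    intro g hg hgy
    by_contra hg1
    have h1 : orderOf y ∣ Nat.card (Subgroup.centralizer ({g} : Set G)) :=
      Subgroup.orderOf_dvd_natCard _ (Subgroup.mem_centralizer_singleton_iff.mpr hgy.symm)
    rw [hy] at h1
    exact Nat.not_even_iff_odd.mpr (hC g hg1 hg) (even_iff_two_dvd.mpr h1)
  have hord : ∀ r ∈ R, ∃ k : ℕ, orderOf r = p ^ k := fun r hr => by
    obtain ⟨k, hk⟩ := IsPGroup.iff_orderOf.mp hRp ⟨r, hr⟩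
    exact ⟨k, (Subgroup.orderOf_mk r hr).symm.trans hk⟩
  have hy2 : y * y = 1 := by rw [← sq, ← hy, pow_orderOf_eq_one]
  have hinvert : ∀ r ∈ R, y * r * y⁻¹ = r⁻¹ := by
    intro r hr
    let f : R → R := fun x => ⟨(x : G)⁻¹ * (y * x * y⁻¹),
      R.mul_mem (R.inv_mem x.2) ((Subgroup.mem_normalizer_iff.mp hyR x).mp x.2)⟩
    have hinj : Function.Injective f := by
      intro u v huv
      have h1 : (u : G)⁻¹ * (y * u * y⁻¹) = (v : G)⁻¹ * (y * v * y⁻¹) := congrArg Subtype.val huv
      have h2 : ((v : G) * (u : G)⁻¹) * y = y * ((v : G) * (u : G)⁻¹) := by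
        calc ((v : G) * (u : G)⁻¹) * y = (v : G) * ((u : G)⁻¹ * (y * u * y⁻¹)) * y * (u : G)⁻¹ := by group
          _ = (v : G) * ((v : G)⁻¹ * (y * v * y⁻¹)) * y * (u : G)⁻¹ := by rw [h1]
          _ = _ := by group
      exact Subtype.ext (mul_inv_eq_one.mp (hfree _ (hord _ (R.mul_mem v.2 (R.inv_mem u.2))) h2)).symm
    obtain ⟨x, hx⟩ := Finite.surjective_of_injective hinj ⟨r, hr⟩
    have hx' : (x : G)⁻¹ * (y * x * y⁻¹) = r := congrArg Subtype.val hx
    have hyi : y⁻¹ = y := inv_eq_of_mul_eq_one_right hy2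
    rw [← hx', hyi]
    calc y * ((x : G)⁻¹ * (y * x * y)) * y = y * (x : G)⁻¹ * y * (x : G) * (y * y) := by group
      _ = (y⁻¹ * (x : G)⁻¹ * y⁻¹) * (x : G) := by rw [hy2, mul_one, hyi]
      _ = _ := by group
  set N := Subgroup.normalizer (R : Set G) with hN
  set C := Subgroup.centralizer (R : Set G) with hC'
  have hCodd : Odd (Nat.card C) :=
    (hC q hq1 (hord q (hQR hq))).of_dvd_nat (Subgroup.card_dvd_of_le
      (Subgroup.centralizer_le (Set.singleton_subset_iff.mpr (hQR hq))))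
  have hCN : C ≤ N := Subgroup.centralizer_le_normalizer _
  have hNC : N ≤ Subgroup.normalizer (C : Set G) := fun g hg =>
    Cfsg.Lib.Coprime.mem_normalizer_of_conj_mem
      (fun c hc => Subgroup.mem_centralizer_iff.mpr fun r hr => by
        have h1 := Subgroup.mem_centralizer_iff.mp hc (g⁻¹ * r * g) (by
          simpa using (Subgroup.mem_normalizer_iff.mp (inv_mem hg) r).mp hr)
        calc r * (g * c * g⁻¹) = g * (g⁻¹ * r * g * c) * g⁻¹ := by group
          _ = g * (c * (g⁻¹ * r * g)) * g⁻¹ := by rw [h1]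
          _ = _ := by group)
      (fun c hc => Subgroup.mem_centralizer_iff.mpr fun r hr => by
        have h1 := Subgroup.mem_centralizer_iff.mp hc (g * r * g⁻¹)
          ((Subgroup.mem_normalizer_iff.mp hg r).mp hr)
        calc r * (g⁻¹ * c * g) = g⁻¹ * (g * r * g⁻¹ * c) * g := by group
          _ = g⁻¹ * (c * (g * r * g⁻¹)) * g := by rw [h1]
          _ = _ := by group)
  have hRC : R ≤ C := by
    intro r hr
    refine Subgroup.mem_centralizer_iff.mpr fun s hs => inv_injective ?_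
    have h1 := hinvert _ (R.mul_mem hs hr)
    have h2 : y * (s * r) * y⁻¹ = (y * s * y⁻¹) * (y * r * y⁻¹) := by group
    rw [h2, hinvert s hs, hinvert r hr] at h1
    rw [← h1]; group
  set Y := Subgroup.zpowers y
  have hYC : Y ≤ Subgroup.normalizer (C : Set G) := Subgroup.zpowers_le.mpr (hNC hyR)
  have hcop : (Nat.card Y).Coprime (Nat.card C) := by
    rw [Nat.card_zpowers, hy]; exact Nat.coprime_two_left.mpr hCodd
  have hYsol : Group.IsSolvable Y := Group.isSolvable_of_comm fun a b => mul_comm' a b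
  obtain ⟨S, hS⟩ := Cfsg.Lib.Coprime.exists_invariant_sylow hYC hcop (Or.inl hYsol) p
  set S' := (S : Subgroup C).map C.subtype
  have hS'p : IsPGroup p S' := S.2.map _
  have hRS : R ≤ S' := by
    intro r hr
    have hRn : (R.subgroupOf C).Normal := ⟨fun u hu c => by
      have : (c : G) * u = u * c := (Subgroup.mem_centralizer_iff.mp c.2 _ hu).symm
      simpa [Subgroup.mem_subgroupOf, this] using hu⟩
    have : (R.comap C.subtype).Normal := hRn
    have hle : R.subgroupOf C ≤ (S : Subgroup C) :=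
      le_sup_right.trans (S.3 (IsPGroup.to_sup_of_normal_right S.2 hRp.comap_subtype) le_sup_left).le
    exact ⟨⟨r, hRC hr⟩, hle hr, rfl⟩
  have hS'R : S' = R :=
    le_antisymm (hRmax ⟨hS'p, hQR.trans hRS, hS (Subgroup.mem_zpowers y)⟩ hRS) hRS
  have hp1 : ¬ p ∣ (R.subgroupOf C).index := by
    have : (R.subgroupOf C) = (S : Subgroup C) := by
      rw [← hS'R]; exact Subgroup.comap_map_eq_self_of_injective C.subtype_injective _
    rw [this]; exact S.not_dvd_index
  have hRsyl : ¬ p ∣ R.index := by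
    intro hd
    have hNp : p ∣ R.relIndex N := by
      by_contra hnd
      obtain ⟨S₀, hS₀⟩ := hRp.exists_le_sylow
      have hne : (S₀ : Subgroup G) ≠ R := fun e' => S₀.not_dvd_index (e' ▸ hd)
      have : Group.IsNilpotent (S₀ : Subgroup G) := S₀.2.isNilpotent
      obtain ⟨w, hwN, hwR⟩ := SetLike.exists_of_lt (Group.normalizerCondition_of_isNilpotent
        (R.subgroupOf S₀) (lt_top_iff_ne_top.mpr fun e' => hne (le_antisymm
          (Subgroup.subgroupOf_eq_top.mp e') hS₀)))
      have hwN' : (w : G) ∈ N := by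
        rw [hN, ← Cfsg.Lib.Coprime.conjMap_eq_self_iff]
        refine Cfsg.Lib.Coprime.eq_of_le_of_card_eq ?_ (Cfsg.Lib.Coprime.card_conjMap _ _)
        rintro _ ⟨u, hu, rfl⟩
        simpa [Subgroup.mem_subgroupOf] using (Subgroup.mem_normalizer_iff.mp hwN ⟨u, hS₀ hu⟩).mp hu
      have : (R.subgroupOf N).Normal := inferInstance
      refine hwR ?_
      obtain ⟨k, hk⟩ := IsPGroup.iff_orderOf.mp S₀.2 w
      have h1 : QuotientGroup.mk' (R.subgroupOf N) (⟨w, hwN'⟩ : N) = 1 := by
        refine orderOf_eq_one_iff.mp (Nat.eq_one_of_dvd_coprimes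
          ((hp.coprime_iff_not_dvd.mpr hnd).pow_left k) ?_ (_root_.orderOf_dvd_natCard _))
        refine (orderOf_map_dvd _ _).trans (dvd_of_eq ?_)
        rw [Subgroup.orderOf_mk, Subgroup.orderOf_coe]; exact hk
      exact (QuotientGroup.eq_one_iff (⟨w, hwN'⟩ : N)).mp h1
    rw [← Subgroup.relIndex_mul_relIndex R C N hRC hCN] at hNp
    have hp2' : p ∣ C.relIndex N := (hp.dvd_mul.mp hNp).resolve_left hp1
    set D := N ⊓ Subgroup.centralizer ({y} : Set G)
    have hsup : N ≤ C ⊔ D := by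
      intro g hg
      have hmemC : g * y * g⁻¹ * y⁻¹ ∈ C := by
        refine Subgroup.mem_centralizer_iff.mpr fun r hr => ?_
        have hr' : g⁻¹ * r * g ∈ R := by
          simpa using (Subgroup.mem_normalizer_iff.mp (inv_mem hg) r).mp hr
        have h1 : y⁻¹ * r * y = r⁻¹ := by
          rw [show y⁻¹ = y from inv_eq_of_mul_eq_one_right hy2]
          have := hinvert r hr
          rwa [show y⁻¹ = y from inv_eq_of_mul_eq_one_right hy2] at this
        have h2 := hinvert _ (R.inv_mem hr')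
        have h3 : (g * y * g⁻¹ * y⁻¹) * r * (g * y * g⁻¹ * y⁻¹)⁻¹ = r := by
          calc (g * y * g⁻¹ * y⁻¹) * r * (g * y * g⁻¹ * y⁻¹)⁻¹
              = g * (y * (g⁻¹ * (y⁻¹ * r * y) * g) * y⁻¹) * g⁻¹ := by group
            _ = g * (y * (g⁻¹ * r * g)⁻¹ * y⁻¹) * g⁻¹ := by rw [h1]; group
            _ = r := by rw [h2]; group
        exact (mul_inv_eq_iff_eq_mul.mp h3).symm
      have hle : Cfsg.Lib.Coprime.conjMap g Y ≤ C ⊔ Y := by
        rintro _ ⟨w, hw, rfl⟩
        obtain ⟨i, rfl⟩ := hw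
        show g * y ^ i * g⁻¹ ∈ C ⊔ Y
        rw [← conj_zpow]
        refine Subgroup.zpow_mem _ ?_ i
        rw [show g * y * g⁻¹ = (g * y * g⁻¹ * y⁻¹) * y by group]
        exact Subgroup.mul_mem_sup hmemC (Subgroup.mem_zpowers y)
      obtain ⟨c, hc, he⟩ := Cfsg.Lib.Coprime.exists_conj_eq_of_solvable_right hYC hcop.symm hYsol hle
        (Cfsg.Lib.Coprime.card_conjMap _ _)
      have hcd : c⁻¹ * g ∈ D := by
        refine ⟨N.mul_mem (N.inv_mem (hCN hc)) hg, Subgroup.mem_centralizer_singleton_iff.mpr ?_⟩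
        have hm : c⁻¹ * g * y * (c⁻¹ * g)⁻¹ ∈ Y := by
          have := he.le ⟨y, Subgroup.mem_zpowers y, rfl⟩
          rw [Cfsg.Lib.Coprime.mem_conjMap] at this
          simpa [mul_assoc] using this
        obtain ⟨i, hi⟩ := hm
        rcases Int.even_or_odd i with ⟨t, rfl⟩ | ⟨t, rfl⟩
        · exfalso
          simp only at hi
          rw [zpow_add, ← (Commute.refl y).mul_zpow, hy2, one_zpow] at hi
          have h1 : y = 1 := by
            have := hi.symm
            rw [mul_inv_eq_one] at this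
            exact mul_left_cancel (this.trans (mul_one _).symm)
          rw [h1, orderOf_one] at hy
          omega
        · simp only at hi
          rw [zpow_add, zpow_one, zpow_mul, zpow_two, hy2, one_zpow, one_mul] at hi
          exact mul_inv_eq_iff_eq_mul.mp hi.symm
      have := Subgroup.mul_mem_sup hc hcd
      rwa [mul_inv_cancel_left] at this
    have hDC : D ≤ Subgroup.normalizer (C : Set G) := inf_le_left.trans hNC
    have hEq : C ⊔ D = N := le_antisymm (sup_le hCN inf_le_left) hsup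
    have hmul := Cfsg.Lib.Coprime.card_sup_mul_card_inf hDC
    rw [hEq, ← Subgroup.relIndex_bot_left N, ← Subgroup.relIndex_mul_relIndex ⊥ C N bot_le hCN,
      Subgroup.relIndex_bot_left, mul_assoc] at hmul
    have hpD : p ∣ Nat.card D := by
      rw [← Nat.eq_of_mul_eq_mul_left Nat.card_pos hmul]
      exact hp2'.mul_right _
    obtain ⟨⟨g, hgD⟩, hg⟩ := exists_prime_orderOf_dvd_card' p hpD
    rw [Subgroup.orderOf_mk] at hg
    have := hfree g ⟨1, by rw [hg, pow_one]⟩ (Subgroup.mem_centralizer_singleton_iff.mp hgD.2)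
    rw [this, orderOf_one] at hg
    exact hp.ne_one hg.symm
  let R' : Sylow p G := hRp.toSylow hRsyl
  obtain ⟨g, hg⟩ := MulAction.exists_smul_eq G R' P
  have hPeq : (P : Subgroup G) = Cfsg.Lib.Coprime.conjMap g R := by rw [← hg]; rfl
  rw [hPeq, Cfsg.Lib.Coprime.normalizer_conjMap, Cfsg.Lib.Coprime.card_conjMap, even_iff_two_dvd, ← hy]
  exact Subgroup.orderOf_dvd_natCard _ hyR

end Cfsg.Agent.S3982
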