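import Cfsg.Statements.S3983
import Cfsg.Agent.Counting.Local

set_option autoImplicit false
open scoped Pointwise
open Cfsg

namespace Cfsg.Agent.S3983

/-- Let P be a Sylow p-subgroup of the finite group G that meets each conjugate g P g⁻¹ with g outside N_G(P) trivially, and let U be a subgroup of G of order divisible by p. Then a Sylow p-subgroup Q of U has the same property inside U: Q meets each conjugate u Q u⁻¹ with u ∈ U outside N_U(Q) trivially. -/
theorem result {G : Type*} [Group G] [Finite G] (p : ℕ) [Fact p.Prime] (P : Sylow p G) (hTI : ∀ g : G, g ∉ Subgroup.normalizer ((P : Subgroup G) : Set G) → (P : Subgroup G) ⊓ (MulAut.conj g • (P : Subgroup G)) = ⊥) (U : Subgroup G) (hU : p ∣ Nat.card ↥U) (Q : Sylow p ↥U) : ∀ u : ↥U, u ∉ Subgroup.normalizer ((Q : Subgroup ↥U) : Set ↥U) → (Q : Subgroup ↥U) ⊓ (MulAut.conj u • (Q : Subgroup ↥U)) = ⊥ := by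
  intro u hu
  rw [Subgroup.eq_bot_iff_forall]
  rintro x ⟨hx1, hx2⟩
  by_contra hne
  obtain ⟨R, hR⟩ := (Q.2.map U.subtype).exists_le_sylow
  obtain ⟨z, hz, hzx⟩ : ∃ z ∈ (Q : Subgroup U), u * z * u⁻¹ = x := by
    refine ⟨u⁻¹ * x * u, ?_, by group⟩
    have := Subgroup.mem_pointwise_smul_iff_inv_smul_mem.mp hx2
    change (MulAut.conj u)⁻¹ x ∈ _ at this
    rwa [← map_inv, MulAut.conj_apply, inv_inv] at this
  have hxR : (x : G) ∈ (R : Subgroup G) := hR ⟨x, hx1, rfl⟩
  have hxR' : (x : G) ∈ (((u : G) • R : Sylow p G) : Subgroup G) := by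
    refine ⟨(z : G), hR ⟨z, hz, rfl⟩, ?_⟩
    show (u : G) * (z : G) * (u : G)⁻¹ = x
    rw [← hzx]; rfl
  have heq : (u : G) • R = R := by
    by_contra hne'
    have h := Cfsg.Lib.LocalSmall.sylow_inf_eq_bot P hTI R ((u : G) • R) (Ne.symm hne')
    have : (x : G) ∈ (⊥ : Subgroup G) := h ▸ ⟨hxR, hxR'⟩
    exact hne (Subtype.ext (Subgroup.mem_bot.mp this))
  have hRU : (R : Subgroup G).subgroupOf U = (Q : Subgroup U) :=
    Q.3 (R.2.comap_subtype) (fun w hw => hR ⟨w, hw, rfl⟩)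
  apply hu
  rw [← hRU, Subgroup.mem_normalizer_iff]
  intro w
  have hun := Subgroup.mem_normalizer_iff.mp (Sylow.smul_eq_iff_mem_normalizer.mp heq) (w : G)
  simpa [Subgroup.mem_subgroupOf] using hun

end Cfsg.Agent.S3983
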