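import Cfsg.Statements.S3984
import Cfsg.Agent.Counting.Local
import Cfsg.Agent.Coprime.SchurZassenhaus

set_option autoImplicit false
open scoped Pointwise
open Cfsg

namespace Cfsg.Agent.S3984

/-- Let P be a Sylow p-subgroup of the finite group G that meets each conjugate g P g⁻¹ with g outside N_G(P) trivially, and let N be a normal subgroup of G of order prime to p. Then every Sylow p-subgroup Q of G ⧸ N meets each conjugate x Q x⁻¹ with x outside its normalizer trivially. -/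
theorem result {G : Type*} [Group G] [Finite G] (p : ℕ) [Fact p.Prime] (P : Sylow p G) (hTI : ∀ g : G, g ∉ Subgroup.normalizer ((P : Subgroup G) : Set G) → (P : Subgroup G) ⊓ (MulAut.conj g • (P : Subgroup G)) = ⊥) (N : Subgroup G) [N.Normal] (hN : (Nat.card ↥N).Coprime p) (Q : Sylow p (G ⧸ N)) : ∀ x : G ⧸ N, x ∉ Subgroup.normalizer ((Q : Subgroup (G ⧸ N)) : Set (G ⧸ N)) → (Q : Subgroup (G ⧸ N)) ⊓ (MulAut.conj x • (Q : Subgroup (G ⧸ N))) = ⊥ := by
  have hp : p.Prime := Fact.out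
  have hsurj := QuotientGroup.mk'_surjective N
  have key : ∀ (R R' : Sylow p G), ∀ z ∈ (R : Subgroup G), ∀ z' ∈ (R' : Subgroup G),
      (z : G ⧸ N) = z' → (z : G ⧸ N) ≠ 1 → R.mapSurjective hsurj = R'.mapSurjective hsurj := by
    intro R R' z hz z' hz' hzz hne
    have hcopz : ∀ w ∈ (R : Subgroup G), (Nat.card N).Coprime (orderOf w) := fun w hw => by
      obtain ⟨k, hk⟩ := IsPGroup.iff_orderOf.mp R.2 ⟨w, hw⟩
      rw [Subgroup.orderOf_mk] at hk
      rw [hk]; exact hN.pow_right k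
    have hcopz' : ∀ w ∈ (R' : Subgroup G), (Nat.card N).Coprime (orderOf w) := fun w hw => by
      obtain ⟨k, hk⟩ := IsPGroup.iff_orderOf.mp R'.2 ⟨w, hw⟩
      rw [Subgroup.orderOf_mk] at hk
      rw [hk]; exact hN.pow_right k
    have hord : ∀ w : G, (Nat.card N).Coprime (orderOf w) → orderOf w = orderOf (w : G ⧸ N) := by
      intro w hw
      refine Nat.dvd_antisymm (orderOf_dvd_of_pow_eq_one ?_) (orderOf_map_dvd (QuotientGroup.mk' N) w)
      have h1 : w ^ orderOf (w : G ⧸ N) ∈ N := by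
        rw [← QuotientGroup.eq_one_iff, QuotientGroup.mk_pow, pow_orderOf_eq_one]
      refine orderOf_eq_one_iff.mp (Nat.eq_one_of_dvd_coprimes hw
        (Subgroup.orderOf_dvd_natCard N h1) (orderOf_pow_dvd _))
    have hcard : Nat.card (Subgroup.zpowers z') = Nat.card (Subgroup.zpowers z) := by
      rw [Nat.card_zpowers, Nat.card_zpowers, hord z (hcopz z hz), hord z' (hcopz' z' hz'), hzz]
    have hle : Subgroup.zpowers z' ≤ N ⊔ Subgroup.zpowers z := by
      rw [Subgroup.zpowers_le, show z' = (z' * z⁻¹) * z by group]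
      refine Subgroup.mul_mem _ (Subgroup.mem_sup_left ?_) (Subgroup.mem_sup_right (Subgroup.mem_zpowers z))
      rw [← QuotientGroup.eq_one_iff, QuotientGroup.mk_mul, QuotientGroup.mk_inv, ← hzz, mul_inv_cancel]
    obtain ⟨n, hn, he⟩ := Cfsg.Lib.Coprime.exists_conj_eq_of_solvable_right (N := N)
      (Subgroup.normalizer_eq_top N ▸ le_top) (by rw [Nat.card_zpowers]; exact hcopz z hz)
      (Group.isSolvable_of_comm fun a b => mul_comm' a b) hle hcard
    have hz'n : n⁻¹ * z' * n ∈ (R : Subgroup G) := by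
      have := Cfsg.Lib.Coprime.mem_conjMap.mp (he ▸ Subgroup.mem_zpowers z')
      exact (Subgroup.zpowers_le.mpr hz) this
    have hz'R : z' ∈ ((n • R : Sylow p G) : Subgroup G) := by
      refine ⟨n⁻¹ * z' * n, hz'n, ?_⟩
      show n * (n⁻¹ * z' * n) * n⁻¹ = z'
      group
    have heq : n • R = R' := by
      by_contra h
      have : z' ∈ (⊥ : Subgroup G) := Cfsg.Lib.LocalSmall.sylow_inf_eq_bot P hTI _ _ h ▸ ⟨hz'R, hz'⟩
      rw [Subgroup.mem_bot] at this
      rw [hzz, this] at hne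
      exact hne (QuotientGroup.mk_one N)
    refine Sylow.ext ?_
    rw [Sylow.coe_mapSurjective, Sylow.coe_mapSurjective, ← heq]
    ext w
    constructor
    · rintro ⟨v, hv, rfl⟩
      refine ⟨n * v * n⁻¹, ⟨v, hv, rfl⟩, ?_⟩
      simp [(QuotientGroup.eq_one_iff n).mpr hn]
    · rintro ⟨_, ⟨v, hv, rfl⟩, rfl⟩
      refine ⟨v, hv, ?_⟩
      simp [(QuotientGroup.eq_one_iff n).mpr hn]
  have hex : ∀ S : Sylow p (G ⧸ N), ∃ R : Sylow p G, R.mapSurjective hsurj = S := by
    intro S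
    obtain ⟨g, hg⟩ := MulAction.exists_smul_eq (G ⧸ N) (P.mapSurjective hsurj) S
    obtain ⟨g, rfl⟩ := hsurj g
    refine ⟨g • P, ?_⟩
    rw [← hg]
    refine Sylow.ext ?_
    rw [Sylow.coe_mapSurjective, Sylow.coe_subgroup_smul, Sylow.coe_subgroup_smul, Sylow.coe_mapSurjective]
    ext w
    constructor
    · rintro ⟨_, ⟨v, hv, rfl⟩, rfl⟩
      exact ⟨QuotientGroup.mk' N v, ⟨v, hv, rfl⟩, by simp⟩
    · rintro ⟨_, ⟨v, hv, rfl⟩, rfl⟩
      exact ⟨g * v * g⁻¹, ⟨v, hv, rfl⟩, by simp⟩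
  intro x hx
  rw [Subgroup.eq_bot_iff_forall]
  rintro w ⟨hw1, hw2⟩
  by_contra hne
  have hw2' : w ∈ ((x • Q : Sylow p (G ⧸ N)) : Subgroup (G ⧸ N)) := by
    rw [Sylow.coe_subgroup_smul]; exact hw2
  obtain ⟨R, hR⟩ := hex Q
  obtain ⟨R', hR'⟩ := hex (x • Q)
  rw [← hR, Sylow.coe_mapSurjective] at hw1
  rw [← hR', Sylow.coe_mapSurjective] at hw2'
  obtain ⟨z, hz, rfl⟩ := hw1
  obtain ⟨z', hz', he⟩ := hw2'
  exact hx (Sylow.smul_eq_iff_mem_normalizer.mp (hR'.symm.trans ((key R R' z hz z' hz' he.symm hne).symm.trans hR)))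

end Cfsg.Agent.S3984
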