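import Cfsg.Statements.S3985
import Cfsg.Agent.Coprime.Sylow
import Cfsg.Agent.Counting.RankComplement

set_option autoImplicit false
open scoped Pointwise
open Cfsg

namespace Cfsg.Agent.S3985

/-- Let P be a cyclic Sylow p-subgroup of the finite group G. Then P meets each conjugate g P g⁻¹ with g outside N_G(P) trivially if and only if P is weakly self-centralizing: C_G(x) = C_G(P) for every non-identity x ∈ P. -/
theorem result {G : Type*} [Group G] [Finite G] (p : ℕ) [Fact p.Prime] (P : Sylow p G) (hcyc : IsCyclic ↥(P : Subgroup G)) : (∀ g : G, g ∉ Subgroup.normalizer ((P : Subgroup G) : Set G) → (P : Subgroup G) ⊓ (MulAut.conj g • (P : Subgroup G)) = ⊥) ↔ ∀ x : G, x ∈ (P : Subgroup G) → x ≠ 1 → Subgroup.centralizer ({x} : Set G) = Subgroup.centralizer ((P : Subgroup G) : Set G) := by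
  have hp : p.Prime := Fact.out
  constructor
  · intro hTI x hx hx1
    have hPC : ∀ u ∈ (P : Subgroup G), ∀ w ∈ (P : Subgroup G), u * w = w * u := by
      obtain ⟨c, hc⟩ := hcyc.exists_generator
      intro u hu w hw
      obtain ⟨i, hi⟩ := hc ⟨u, hu⟩
      obtain ⟨j, hj⟩ := hc ⟨w, hw⟩
      have hi' : (c : G) ^ i = u := congrArg Subtype.val hi
      have hj' : (c : G) ^ j = w := congrArg Subtype.val hj
      rw [← hi', ← hj', ← zpow_add, ← zpow_add, add_comm]
    refine le_antisymm ?_ (Subgroup.centralizer_le (Set.singleton_subset_iff.mpr hx))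
    refine Cfsg.Lib.Transfer.le_of_forall_prime_pow fun g hg r k hr hk => ?_
    have hgx : g * x = x * g := Subgroup.mem_centralizer_singleton_iff.mp hg
    have hgN : g ∈ Subgroup.normalizer ((P : Subgroup G) : Set G) := by
      by_contra hn
      refine hx1 ?_
      have hmem : x ∈ (P : Subgroup G) ⊓ (MulAut.conj g • (P : Subgroup G)) := by
        refine ⟨hx, Subgroup.mem_pointwise_smul_iff_inv_smul_mem.mpr ?_⟩
        show (MulAut.conj g)⁻¹ x ∈ _
        rw [← map_inv, MulAut.conj_apply, inv_inv, mul_assoc, ← hgx, inv_mul_cancel_left]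
        exact hx
      rw [hTI g hn] at hmem
      exact hmem
    by_cases hrp : r = p
    · subst hrp
      have h1 := (IsPGroup.of_card (p := r) ((Nat.card_zpowers g).trans hk)).inf_normalizer_sylow P
      have hgP : g ∈ (P : Subgroup G) := (h1.le ⟨Subgroup.mem_zpowers g, hgN⟩).2
      exact Subgroup.mem_centralizer_iff.mpr fun u hu => hPC u hu g hgP
    · have hab : IsMulCommutative (P : Subgroup G) :=
        ⟨⟨fun u w => Subtype.ext (hPC u u.2 w w.2)⟩⟩
      have hA : Subgroup.zpowers g ≤ Subgroup.normalizer ((P : Subgroup G) : Set G) :=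
        Subgroup.zpowers_le.mpr hgN
      have hcop : (Nat.card (Subgroup.zpowers g)).Coprime (Nat.card (P : Subgroup G)) := by
        obtain ⟨n, hn⟩ := IsPGroup.iff_card.mp P.2
        rw [Nat.card_zpowers, hk, hn]
        exact Nat.Coprime.pow k n ((Nat.coprime_primes hr hp).mpr hrp)
      obtain ⟨hinf, hsup⟩ := Cfsg.Lib.Coprime.abelian_coprime_decomp hA hcop
      set F := (P : Subgroup G) ⊓ Subgroup.centralizer (Subgroup.zpowers g : Set G)
      set W := ⁅(P : Subgroup G), Subgroup.zpowers g⁆
      have hxF : x ∈ F := ⟨hx, Subgroup.mem_centralizer_iff.mpr fun u hu => by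
        obtain ⟨i, rfl⟩ := hu
        exact ((show Commute g x from hgx).zpow_left i).eq⟩
      have hW : W = ⊥ := by
        by_contra hW
        obtain ⟨w, hw, hw1⟩ : ∃ w ∈ W, w ≠ 1 := by
          by_contra hall
          push Not at hall
          exact hW ((Subgroup.eq_bot_iff_forall _).mpr hall)
        have hwP : w ∈ (P : Subgroup G) := by rw [← hsup]; exact Subgroup.mem_sup_right hw
        have root : ∀ u ∈ (P : Subgroup G), u ≠ 1 → ∃ j : ℕ, orderOf (u ^ j) = p := by
          intro u hu hu1
          obtain ⟨n, hn⟩ := IsPGroup.iff_orderOf.mp P.2 ⟨u, hu⟩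
          rw [Subgroup.orderOf_mk] at hn
          refine ⟨orderOf u / p, orderOf_pow_orderOf_div (orderOf_pos u).ne' ?_⟩
          rw [hn]
          refine dvd_pow_self p fun h0 => hu1 ?_
          rw [h0, pow_zero] at hn
          exact orderOf_eq_one_iff.mp hn
        obtain ⟨i, hi⟩ := root x hx hx1
        obtain ⟨j, hj⟩ := root w hwP hw1
        have hsub : ∀ u : G, u ∈ (P : Subgroup G) → ∀ v : G, v ∈ (P : Subgroup G) →
            orderOf u = p → orderOf v = p → v ∈ Subgroup.zpowers u := by
          intro u hu v hv hou hov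
          have hKc : Nat.card ((Subgroup.zpowers u).subgroupOf (P : Subgroup G)) =
              Nat.card ((Subgroup.zpowers v).subgroupOf (P : Subgroup G)) := by
            rw [Nat.card_congr (Subgroup.subgroupOfEquivOfLe (Subgroup.zpowers_le.mpr hu)).toEquiv,
              Nat.card_congr (Subgroup.subgroupOfEquivOfLe (Subgroup.zpowers_le.mpr hv)).toEquiv,
              Nat.card_zpowers, Nat.card_zpowers, hou, hov]
          classical
          have := Fintype.ofFinite (P : Subgroup G)
          have key : ∀ H : Subgroup (P : Subgroup G), Nat.card H = p →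
              (Finset.univ.filter fun z : (P : Subgroup G) => z ∈ H) =
                Finset.univ.filter fun z : (P : Subgroup G) => z ^ p = 1 := by
            intro H hH
            refine Finset.eq_of_subset_of_card_le (fun z hz => ?_) ?_
            · simp only [Finset.mem_filter, Finset.mem_univ, true_and] at hz ⊢
              exact orderOf_dvd_iff_pow_eq_one.mp ((Subgroup.orderOf_dvd_natCard H hz).trans hH.dvd)
            · refine (IsCyclic.card_pow_eq_one_le hp.pos).trans ?_
              exact (hH.symm.trans (by rw [Nat.card_eq_fintype_card, Fintype.card_subtype])).le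
          have hu' : Nat.card ((Subgroup.zpowers u).subgroupOf (P : Subgroup G)) = p := by
            rw [Nat.card_congr (Subgroup.subgroupOfEquivOfLe (Subgroup.zpowers_le.mpr hu)).toEquiv,
              Nat.card_zpowers, hou]
          have e := congrArg (fun s : Finset (P : Subgroup G) => (⟨v, hv⟩ : (P : Subgroup G)) ∈ s)
            ((key _ hu').trans (key _ (hKc ▸ hu')).symm)
          simp only [Finset.mem_filter, Finset.mem_univ, true_and, Subgroup.mem_subgroupOf] at e
          exact e.mpr (Subgroup.mem_zpowers v)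
        have hv : x ^ i ∈ F ⊓ W := ⟨pow_mem hxF i, (Subgroup.zpowers_le.mpr (pow_mem hw j))
          (hsub _ (pow_mem hwP j) _ (pow_mem hx i) hj hi)⟩
        rw [hinf, Subgroup.mem_bot] at hv
        rw [hv, orderOf_one] at hi
        exact hp.ne_one hi.symm
      rw [hW, sup_bot_eq] at hsup
      refine Subgroup.mem_centralizer_iff.mpr fun u hu => ?_
      have huF : u ∈ F := by rw [hsup]; exact hu
      exact ((Subgroup.mem_centralizer_iff.mp huF.2) g (Subgroup.mem_zpowers g)).symm
  · intro h g hg
    rw [Subgroup.eq_bot_iff_forall]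
    rintro x ⟨hxP, hxg⟩
    by_contra hx1
    obtain ⟨y, hy, rfl⟩ : ∃ y ∈ (P : Subgroup G), g * y * g⁻¹ = x := by
      refine ⟨g⁻¹ * x * g, ?_, by group⟩
      have := Subgroup.mem_pointwise_smul_iff_inv_smul_mem.mp hxg
      change (MulAut.conj g)⁻¹ x ∈ _ at this
      rwa [← map_inv, MulAut.conj_apply, inv_inv] at this
    have hy1 : y ≠ 1 := fun e => hx1 (by rw [e]; group)
    have hC := h _ hxP hx1
    have hCy := h _ hy hy1
    apply hg
    have hconj : ∀ u ∈ (P : Subgroup G), g * u * g⁻¹ ∈ Subgroup.centralizer ((P : Subgroup G) : Set G) := by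
      intro u hu
      rw [← hC, Subgroup.mem_centralizer_singleton_iff]
      have : u * y = y * u := by
        have hu' : u ∈ Subgroup.centralizer ({y} : Set G) := by
          rw [hCy]
          exact Subgroup.mem_centralizer_iff.mpr fun w hw => by
            obtain ⟨c, hc⟩ := hcyc.exists_generator
            obtain ⟨i, hi⟩ := hc ⟨u, hu⟩
            obtain ⟨j, hj⟩ := hc ⟨w, hw⟩
            have hi' : (c : G) ^ i = u := congrArg Subtype.val hi
            have hj' : (c : G) ^ j = w := congrArg Subtype.val hj
            rw [← hi', ← hj', ← zpow_add, ← zpow_add, add_comm]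
        exact Subgroup.mem_centralizer_singleton_iff.mp hu'
      calc g * u * g⁻¹ * (g * y * g⁻¹) = g * (u * y) * g⁻¹ := by group
        _ = g * (y * u) * g⁻¹ := by rw [this]
        _ = _ := by group
    set R := (P : Subgroup G).map (MulAut.conj g).toMonoidHom
    have hRp : IsPGroup p R := P.2.map _
    have hRC : R ≤ Subgroup.centralizer ((P : Subgroup G) : Set G) := by
      rintro _ ⟨u, hu, rfl⟩; exact hconj u hu
    have hsupP : IsPGroup p ((P : Subgroup G) ⊔ R : Subgroup G) :=
      IsPGroup.to_sup_of_normal_left' P.2 hRp (hRC.trans (Subgroup.centralizer_le_normalizer _))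
    have hRP : R ≤ (P : Subgroup G) := le_sup_right.trans (P.3 hsupP le_sup_left).le
    have hRe : R = (P : Subgroup G) := Subgroup.eq_of_le_of_card_ge hRP
      (Subgroup.card_map_of_injective (MulAut.conj g).injective).ge
    exact Cfsg.Lib.Transfer.map_conj_eq_self_iff.mp hRe

end Cfsg.Agent.S3985
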