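import Cfsg.Statements.S3986
import Cfsg.Agent.Coprime.Generation

set_option autoImplicit false
open Cfsg

namespace Cfsg.Agent.S3986

/-- Let p be a prime and G a finite group. Then some Sylow p-subgroup of G is a direct factor of G (it is normal and has a normal complement) if and only if every element of p-power order commutes with every element whose order is a power of a prime other than p. -/
theorem result {G : Type*} [Group G] [Finite G] (p : ℕ) [Fact p.Prime] : (∃ (P : Sylow p G) (K : Subgroup G), (P : Subgroup G).Normal ∧ K.Normal ∧ (P : Subgroup G) ⊓ K = ⊥ ∧ (P : Subgroup G) ⊔ K = ⊤) ↔ ∀ x y : G, (∃ a : ℕ, orderOf x = p ^ a) → (∃ q b : ℕ, q.Prime ∧ q ≠ p ∧ orderOf y = q ^ b) → x * y = y * x := by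
  have hp := (Fact.out : p.Prime)
  constructor
  · rintro ⟨P, K, hPn, hKn, hinf, hsup⟩ x y ⟨a, ha⟩ ⟨q, b, hq, hqp, hb⟩
    have hxP : x ∈ (P : Subgroup G) := by
      haveI := Sylow.unique_of_normal P hPn
      obtain ⟨Q, hQ⟩ := ((IsPGroup.iff_card).mpr ⟨a, by rw [Nat.card_zpowers, ha]⟩ :
        IsPGroup p (Subgroup.zpowers x)).exists_le_sylow
      exact Subsingleton.elim Q P ▸ hQ (Subgroup.mem_zpowers x)
    have hyK : y ∈ K := by
      have hy : y ∈ (P : Subgroup G) ⊔ K := hsup ▸ Subgroup.mem_top y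
      rw [← SetLike.mem_coe, Subgroup.mul_normal] at hy
      obtain ⟨u, hu, k, hk, rfl⟩ := hy
      have hmap : QuotientGroup.mk' K (u * k) = QuotientGroup.mk' K u := by
        simp [(QuotientGroup.eq_one_iff k).mpr hk]
      have h1 : orderOf (QuotientGroup.mk' K (u * k)) ∣ q ^ b := hb ▸ orderOf_map_dvd _ _
      obtain ⟨i, hi⟩ := IsPGroup.iff_orderOf.mp P.2 ⟨u, hu⟩
      rw [Subgroup.orderOf_mk] at hi
      have h2 : orderOf (QuotientGroup.mk' K (u * k)) ∣ p ^ i := by
        rw [hmap, ← hi]; exact orderOf_map_dvd _ _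
      have h3 := Nat.dvd_gcd h1 h2
      rw [(Nat.coprime_pow_primes b i hq hp hqp).gcd_eq_one, Nat.dvd_one, orderOf_eq_one_iff] at h3
      exact (QuotientGroup.eq_one_iff _).mp h3
    exact Subgroup.commute_of_normal_of_disjoint (P : Subgroup G) K hPn hKn
      (disjoint_iff.mpr hinf) x y hxP hyK
  · intro h
    obtain ⟨P⟩ : Nonempty (Sylow p G) := inferInstance
    have hPx : ∀ x ∈ (P : Subgroup G), ∃ a : ℕ, orderOf x = p ^ a := fun x hx => by
      obtain ⟨i, hi⟩ := IsPGroup.iff_orderOf.mp P.2 ⟨x, hx⟩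
      exact ⟨i, by rwa [Subgroup.orderOf_mk] at hi⟩
    have hQ : ∀ (q : ℕ), q.Prime → q ≠ p → ∀ (K : Subgroup G) (Q : Sylow q K),
        (Q : Subgroup K).map K.subtype ≤ Subgroup.centralizer ((P : Subgroup G) : Set G) := by
      intro q hq hqp K Q
      haveI := Fact.mk hq
      rintro _ ⟨y, hy, rfl⟩
      refine Subgroup.mem_centralizer_iff.mpr fun x hx => ?_
      obtain ⟨i, hi⟩ := IsPGroup.iff_orderOf.mp Q.2 ⟨y, hy⟩
      exact h x y (hPx x hx) ⟨q, i, hq, hqp, by
        rw [Subgroup.orderOf_mk] at hi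
        show orderOf (y : G) = _
        rwa [Subgroup.orderOf_coe]⟩
    have hPn : (P : Subgroup G).Normal := by
      rw [← Subgroup.normalizer_eq_top_iff, eq_top_iff]
      refine Cfsg.Lib.Coprime.le_of_forall_sylow fun q hq => ?_
      haveI := Fact.mk hq
      by_cases hqp : q = p
      · subst hqp
        refine ⟨(P.subtype le_top), ?_⟩
        rw [Sylow.coe_subtype, Subgroup.subgroupOf_map_subtype]
        exact inf_le_left.trans Subgroup.le_normalizer
      · obtain ⟨Q⟩ : Nonempty (Sylow q (⊤ : Subgroup G)) := inferInstance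
        exact ⟨Q, (hQ q hq hqp _ Q).trans (Subgroup.centralizer_le_normalizer _)⟩
    haveI := hPn
    obtain ⟨K, hK⟩ := Subgroup.exists_right_complement'_of_coprime P.card_coprime_index
    have hKc : K ≤ Subgroup.centralizer ((P : Subgroup G) : Set G) := by
      refine Cfsg.Lib.Coprime.le_of_forall_sylow fun q hq => ?_
      haveI := Fact.mk hq
      obtain ⟨Q⟩ : Nonempty (Sylow q K) := inferInstance
      by_cases hqp : q = p
      · subst hqp
        refine ⟨Q, ?_⟩
        have hQb : (Q : Subgroup K) = ⊥ := by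
          refine Subgroup.eq_bot_of_card_eq _ ?_
          rw [Q.card_eq_multiplicity, Nat.factorization_eq_zero_of_not_dvd, pow_zero]
          rw [← hK.symm.index_eq_card]
          exact P.not_dvd_index
        rw [hQb, Subgroup.map_bot]; exact bot_le
      · exact ⟨Q, hQ q hq hqp K Q⟩
    refine ⟨P, K, hPn, ?_, hK.disjoint.eq_bot, hK.sup_eq_top⟩
    rw [← Subgroup.normalizer_eq_top_iff, eq_top_iff, ← hK.sup_eq_top]
    refine sup_le (fun u hu => ?_) Subgroup.le_normalizer
    refine Subgroup.mem_normalizer_iff.mpr fun k => ⟨fun hk => ?_, fun hk => ?_⟩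
    · rwa [Subgroup.mem_centralizer_iff.mp (hKc hk) u hu, mul_inv_cancel_right]
    · have := Subgroup.mem_centralizer_iff.mp (hKc hk) u⁻¹ (inv_mem hu)
      have hh : k = u * k * u⁻¹ := by
        calc k = u⁻¹ * (u * k * u⁻¹) * u := by group
          _ = u * k * u⁻¹ * u⁻¹ * u := by rw [this]
          _ = _ := by group
      rwa [hh]

end Cfsg.Agent.S3986
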