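import Cfsg.Statements.S3987
import Cfsg.Agent.Transfer.FrobeniusApps

set_option autoImplicit false
open Cfsg

namespace Cfsg.Agent.S3987

/-- Let p be a prime and G a finite group. Then some Sylow p-subgroup of G is a direct factor of G (normal with a normal complement) if and only if for every element x of p-power order and every element y whose order is a power of a prime other than p, the conjugacy class of x y has as many elements as the product of the sizes of the classes of x and of y. -/
theorem result {G : Type*} [Group G] [Finite G] (p : ℕ) [Fact p.Prime] : (∃ (P : Sylow p G) (K : Subgroup G), (P : Subgroup G).Normal ∧ K.Normal ∧ (P : Subgroup G) ⊓ K = ⊥ ∧ (P : Subgroup G) ⊔ K = ⊤) ↔ ∀ x y : G, (∃ a : ℕ, orderOf x = p ^ a) → (∃ q b : ℕ, q.Prime ∧ q ≠ p ∧ orderOf y = q ^ b) → (Subgroup.centralizer ({x * y} : Set G)).index = (Subgroup.centralizer ({x} : Set G)).index * (Subgroup.centralizer ({y} : Set G)).index := by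
  constructor
  · rintro ⟨P, K, hP, hK, hinf, hsup⟩ x y ⟨a, hxa⟩ ⟨q, b, hq, hqp, hyb⟩
    have hcom : ∀ u ∈ (P : Subgroup G), ∀ v ∈ K, Commute u v := fun u hu v hv =>
      Subgroup.commute_of_normal_of_disjoint _ _ hP hK (disjoint_iff.mpr hinf) u v hu hv
    have hxP : x ∈ (P : Subgroup G) := by
      rw [← QuotientGroup.eq_one_iff, ← orderOf_eq_one_iff]
      refine Nat.eq_one_of_dvd_coprimes (Nat.Coprime.pow_left a
        (((Fact.out : p.Prime).coprime_iff_not_dvd).mpr P.not_dvd_index)) ?_ ?_
      · rw [← hxa]; exact orderOf_map_dvd (QuotientGroup.mk' (P : Subgroup G)) x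
      · rw [Subgroup.index_eq_card]; exact _root_.orderOf_dvd_natCard _
    have hyK : y ∈ K := by
      have hyp : (orderOf y).Coprime p := by
        rw [hyb]; exact ((Nat.coprime_primes hq Fact.out).mpr hqp).pow_left b
      refine Cfsg.Lib.Transfer.mem_of_isPGroup_quotient_of_coprime K ?_ hyp
      have hsur : Function.Surjective ((QuotientGroup.mk' K).comp (P : Subgroup G).subtype) := by
        rw [← MonoidHom.range_eq_top, MonoidHom.range_comp, Subgroup.range_subtype,
          ← sup_bot_eq ((P : Subgroup G).map (QuotientGroup.mk' K)), ← QuotientGroup.map_mk'_self K,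
          ← Subgroup.map_sup, hsup, Subgroup.map_top_of_surjective _ (QuotientGroup.mk'_surjective K)]
      exact P.2.of_surjective _ hsur
    have hKx : K ≤ Subgroup.centralizer ({x} : Set G) := fun v hv =>
      Subgroup.mem_centralizer_singleton_iff.mpr (hcom x hxP v hv).eq.symm
    have hPy : (P : Subgroup G) ≤ Subgroup.centralizer ({y} : Set G) := fun u hu =>
      Subgroup.mem_centralizer_singleton_iff.mpr (hcom u hu y hyK).eq
    have hxy : Commute x y := hcom x hxP y hyK
    have heq : Subgroup.centralizer ({x * y} : Set G) =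
        Subgroup.centralizer ({x} : Set G) ⊓ Subgroup.centralizer ({y} : Set G) := by
      refine le_antisymm (fun g hg => ?_) (fun g hg => ?_)
      · rw [Subgroup.mem_centralizer_singleton_iff] at hg
        have hc : Commute g (x * y) := hg
        have hxq : orderOf x ∣ p ^ a := hxa.dvd
        obtain ⟨e, he1, he2⟩ := Nat.chineseRemainder
          (Nat.Coprime.pow a b ((Nat.coprime_primes Fact.out hq).mpr hqp.symm)) 1 0
        have hpow : (x * y) ^ e = x := by
          rw [hxy.mul_pow, pow_eq_pow_iff_modEq.mpr (hxa ▸ he1 : e ≡ 1 [MOD orderOf x]),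
            pow_eq_pow_iff_modEq.mpr (hyb ▸ he2 : e ≡ 0 [MOD orderOf y]), pow_one, pow_zero, mul_one]
        have hgx : Commute g x := hpow ▸ hc.pow_right e
        refine ⟨Subgroup.mem_centralizer_singleton_iff.mpr hgx.eq,
          Subgroup.mem_centralizer_singleton_iff.mpr ?_⟩
        have hgy : Commute g (x⁻¹ * (x * y)) := hgx.inv_right.mul_right hc
        rw [inv_mul_cancel_left] at hgy
        exact hgy.eq
      · rw [Subgroup.mem_centralizer_singleton_iff]
        have h1 : Commute g x := Subgroup.mem_centralizer_singleton_iff.mp hg.1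
        have h2 : Commute g y := Subgroup.mem_centralizer_singleton_iff.mp hg.2
        exact (h1.mul_right h2).eq
    rw [heq]
    set A := Subgroup.centralizer ({x} : Set G)
    set B := Subgroup.centralizer ({y} : Set G)
    refine le_antisymm Subgroup.index_inf_le ?_
    rw [Subgroup.index_eq_card, Subgroup.index_eq_card, Subgroup.index_eq_card, ← Nat.card_prod]
    refine Nat.card_le_card_of_surjective (fun z : G ⧸ (A ⊓ B) =>
      ((Quotient.map' id (fun u v h => by
          rw [QuotientGroup.leftRel_apply] at h ⊢; exact h.1) z : G ⧸ A),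
       (Quotient.map' id (fun u v h => by
          rw [QuotientGroup.leftRel_apply] at h ⊢; exact h.2) z : G ⧸ B))) ?_
    rintro ⟨u, v⟩
    induction u using QuotientGroup.induction_on with | _ u => ?_
    induction v using QuotientGroup.induction_on with | _ v => ?_
    have hm : u⁻¹ * v ∈ ((K ⊔ (P : Subgroup G) : Subgroup G) : Set G) := by
      rw [sup_comm, hsup]; trivial
    rw [Subgroup.normal_mul] at hm
    obtain ⟨k, hk, w, hw, hkw⟩ := hm
    have hkw' : u⁻¹ * v = k * w := hkw.symm
    refine ⟨((u * k : G) : G ⧸ (A ⊓ B)), Prod.ext (QuotientGroup.eq.mpr ?_) (QuotientGroup.eq.mpr ?_)⟩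
    · show (u * k)⁻¹ * u ∈ A
      rw [mul_inv_rev, inv_mul_cancel_right]
      exact inv_mem (hKx hk)
    · show (u * k)⁻¹ * v ∈ B
      rw [mul_inv_rev, mul_assoc, hkw', inv_mul_cancel_left]
      exact hPy hw
  · intro h
    have hcom : ∀ x y : G, (∃ a, orderOf x = p ^ a) →
        (∃ q b : ℕ, q.Prime ∧ q ≠ p ∧ orderOf y = q ^ b) → y * x = x * y := by
      intro x y hx hy
      have hle : Subgroup.centralizer ({x} : Set G) ⊓ Subgroup.centralizer ({y} : Set G) ≤
          Subgroup.centralizer ({x * y} : Set G) := fun g hg => by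
        rw [Subgroup.mem_centralizer_singleton_iff]
        have h1 : Commute g x := Subgroup.mem_centralizer_singleton_iff.mp hg.1
        have h2 : Commute g y := Subgroup.mem_centralizer_singleton_iff.mp hg.2
        exact (h1.mul_right h2).eq
      have heq : Subgroup.centralizer ({x} : Set G) ⊓ Subgroup.centralizer ({y} : Set G) =
          Subgroup.centralizer ({x * y} : Set G) := by
        refine Subgroup.eq_of_le_of_card_ge hle ?_
        have h1 := Subgroup.card_mul_index
          (Subgroup.centralizer ({x} : Set G) ⊓ Subgroup.centralizer ({y} : Set G))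
        rw [← Subgroup.card_mul_index (Subgroup.centralizer ({x * y} : Set G)), h x y hx hy] at h1
        refine Nat.le_of_mul_le_mul_right ?_ (Nat.pos_of_ne_zero
          (mul_ne_zero Subgroup.index_ne_zero_of_finite Subgroup.index_ne_zero_of_finite) :
          0 < (Subgroup.centralizer ({x} : Set G)).index * (Subgroup.centralizer ({y} : Set G)).index)
        rw [← h1]
        exact Nat.mul_le_mul_left _ Subgroup.index_inf_le
      have hmem : x * y ∈ Subgroup.centralizer ({x} : Set G) := (heq.symm.le
        (Subgroup.mem_centralizer_singleton_iff.mpr rfl)).1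
      rw [Subgroup.mem_centralizer_singleton_iff, mul_assoc] at hmem
      exact mul_left_cancel hmem
    obtain ⟨P⟩ : Nonempty (Sylow p G) := inferInstance
    have hPp : ∀ u ∈ (P : Subgroup G), ∃ a, orderOf u = p ^ a := fun u hu => by
      obtain ⟨a, ha⟩ := IsPGroup.iff_orderOf.mp P.2 ⟨u, hu⟩
      exact ⟨a, by rwa [Subgroup.orderOf_mk] at ha⟩
    have hcen : ∀ y : G, (orderOf y).Coprime p → y ∈ Subgroup.centralizer ((P : Subgroup G) : Set G) := by
      intro y hy
      refine Cfsg.Lib.Transfer.le_of_forall_prime_pow (M := Subgroup.zpowers y)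
        (fun g hg r k hr hk => ?_) (Subgroup.mem_zpowers y)
      rcases Nat.eq_zero_or_pos k with rfl | hk0
      · rw [pow_zero, orderOf_eq_one_iff] at hk
        rw [hk]; exact one_mem _
      have hrp : r ≠ p := fun e => by
        subst e
        refine hr.ne_one (Nat.eq_one_of_dvd_coprimes hy ((dvd_pow_self r hk0.ne').trans ?_) dvd_rfl)
        rw [← hk]; exact orderOf_dvd_of_mem_zpowers hg
      exact fun u hu => (hcom u g (hPp u hu) ⟨r, k, hr, hrp, hk⟩).symm
    set N := Subgroup.normalizer ((P : Subgroup G) : Set G) with hNdef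
    have hNtop : N = ⊤ := by
      rw [← Subgroup.index_eq_one]
      by_contra hne
      obtain ⟨r, hr, hrd⟩ := Nat.exists_prime_and_dvd hne
      by_cases hrp : r = p
      · subst hrp
        exact P.not_dvd_index (hrd.trans (Subgroup.index_dvd_of_le Subgroup.le_normalizer))
      · have := Fact.mk hr
        obtain ⟨R⟩ : Nonempty (Sylow r G) := inferInstance
        have hRN : (R : Subgroup G) ≤ N := fun g hg => by
          obtain ⟨k, hk⟩ := IsPGroup.iff_orderOf.mp R.2 ⟨g, hg⟩
          rw [Subgroup.orderOf_mk] at hk
          exact Subgroup.centralizer_le_normalizer _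
            (hcen g (by rw [hk]; exact ((Nat.coprime_primes hr Fact.out).mpr hrp).pow_left k))
        exact R.not_dvd_index (hrd.trans (Subgroup.index_dvd_of_le hRN))
    have hPn : (P : Subgroup G).Normal := Subgroup.normalizer_eq_top_iff.mp hNtop
    obtain ⟨K, hK⟩ := Subgroup.exists_right_complement'_of_coprime P.card_coprime_index
    have hKcard : Nat.card K = (P : Subgroup G).index := hK.symm.index_eq_card.symm
    have hKcen : K ≤ Subgroup.centralizer ((P : Subgroup G) : Set G) := fun g hg => by
      refine hcen g (Nat.Coprime.coprime_dvd_left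
        (hKcard ▸ Subgroup.orderOf_dvd_natCard K hg) ?_)
      exact (((Fact.out : p.Prime).coprime_iff_not_dvd).mpr P.not_dvd_index).symm
    have hKn : K.Normal := by
      rw [← Subgroup.normalizer_eq_top_iff, eq_top_iff, ← hK.sup_eq_top]
      refine sup_le (fun u hu => ?_) Subgroup.le_normalizer
      rw [Subgroup.mem_normalizer_iff]
      intro v
      constructor
      · intro hv
        rw [hKcen hv u hu, mul_inv_cancel_right]
        exact hv
      · intro hv
        have h1 := hKcen hv u hu
        have e : v = u * v * u⁻¹ := by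
          calc v = u⁻¹ * (u * v * u⁻¹ * u) := by group
            _ = u⁻¹ * (u * (u * v * u⁻¹)) := by rw [h1]
            _ = _ := by group
        rw [e]; exact hv
    exact ⟨P, K, hPn, hKn, hK.disjoint.eq_bot, hK.sup_eq_top⟩

end Cfsg.Agent.S3987
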