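import Cfsg.Statements.S3992
import Mathlib
import Cfsg.Agent.SolvStruct.DisconnectedGraph
import Cfsg.Agent.Chars.Burnside
import Cfsg.Agent.Components.PComponents

set_option autoImplicit false
open Cfsg

namespace Cfsg.Agent.S3992

open Subgroup

/-- Let G be a finite non-solvable group in which every element has prime-power order, and let R be its largest solvable normal subgroup. Then R is a p-group for some prime p; G/R has a non-abelian simple normal subgroup contained in every nontrivial normal subgroup of G/R (its unique minimal normal subgroup); and the order of every solvable subgroup of G has at most two prime divisors. -/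
theorem result {G : Type*} [Group G] [Finite G] (hns : ¬ Group.IsSolvable G) (hpp : ∀ g : G, g ≠ 1 → IsPrimePow (orderOf g))
    (R : Subgroup G) [R.Normal] (hRs : Group.IsSolvable ↥R) (hRmax : ∀ N : Subgroup G, N.Normal → Group.IsSolvable ↥N → N ≤ R) :
    (∃ p : ℕ, p.Prime ∧ IsPGroup p ↥R) ∧
      (∃ M : Subgroup (G ⧸ R), M.Normal ∧ IsSimpleGroup ↥M ∧ ¬ IsMulCommutative ↥M ∧
        ∀ N : Subgroup (G ⧸ R), N.Normal → N ≠ ⊥ → M ≤ N) ∧
      ∀ H : Subgroup G, Group.IsSolvable ↥H → (Nat.card ↥H).primeFactors.card ≤ 2 := by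
  classical
  have hnoprod : ∀ (a b : ℕ), a.Prime → b.Prime → a ≠ b → ∀ g : G, orderOf g ≠ a * b := by
    intro a b ha hb hne g hg
    have hg1 : g ≠ 1 := fun e => by
      rw [e, orderOf_one] at hg
      exact ha.ne_one (Nat.eq_one_of_mul_eq_one_right hg.symm)
    obtain ⟨r, k, hr, -, hrk⟩ := (isPrimePow_nat_iff _).1 (hpp g hg1)
    have h1 : a = r := (Nat.prime_dvd_prime_iff_eq ha hr).1 (ha.dvd_of_dvd_pow (n := k) (by rw [hrk, hg]; exact dvd_mul_right a b))
    have h2 : b = r := (Nat.prime_dvd_prime_iff_eq hb hr).1 (hb.dvd_of_dvd_pow (n := k) (by rw [hrk, hg]; exact dvd_mul_left b a))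
    exact hne (h1.trans h2.symm)
  -- three primes
  have hthree : ∀ (H : Subgroup G), Group.IsSolvable ↥H → (Nat.card ↥H).primeFactors.card ≤ 2 := by
    intro H hH
    by_contra hc
    push Not at hc
    haveI := hH
    obtain ⟨a, b, c, haP, hbP, hcP, hab, hac, hbc⟩ := Finset.two_lt_card_iff.1 hc
    haveI : Nontrivial H := by
      rw [← Finite.one_lt_card_iff_nontrivial]
      exact lt_of_lt_of_le (Nat.prime_of_mem_primeFactors haP).one_lt
        (Nat.le_of_dvd Nat.card_pos (Nat.dvd_of_mem_primeFactors haP))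
    obtain ⟨N, -, hNn, hN0, hNmin⟩ := Cfsg.Lib.Coprime.exists_minimal_normal (G := H) (K := ⊤) inferInstance top_ne_bot
    haveI := hNn
    obtain ⟨hNab, p, hp, hNp, -⟩ := Cfsg.Lib.Coprime.minimal_normal_solvable inferInstance hN0 hNmin
    haveI := Fact.mk hp
    obtain ⟨j, hj⟩ := IsPGroup.iff_card.1 hNp
    obtain ⟨q, r, hqP, hrP, hqr, hqp, hrp⟩ : ∃ q r, q ∈ (Nat.card H).primeFactors ∧
        r ∈ (Nat.card H).primeFactors ∧ q ≠ r ∧ q ≠ p ∧ r ≠ p := by
      by_cases h1 : a = p
      · exact ⟨b, c, hbP, hcP, hbc, fun e => hab (h1.trans e.symm), fun e => hac (h1.trans e.symm)⟩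
      by_cases h2 : b = p
      · exact ⟨a, c, haP, hcP, hac, h1, fun e => hbc (h2.trans e.symm)⟩
      exact ⟨a, b, haP, hbP, hab, h1, h2⟩
    obtain ⟨A, hA⟩ := Cfsg.Lib.Coprime.exists_piHall (G := H) ({q, r} : Set ℕ)
    have hdvdA : ∀ s ∈ ({q, r} : Set ℕ), s.Prime → s ∣ Nat.card H → s ∣ Nat.card A := fun s hs hsp hd => by
      rw [← A.card_mul_index] at hd
      exact (hsp.dvd_mul.1 hd).resolve_right (hA.2 s hsp hs)
    have hqA := hdvdA q (Or.inl rfl) (Nat.prime_of_mem_primeFactors hqP) (Nat.dvd_of_mem_primeFactors hqP)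
    have hrA := hdvdA r (Or.inr rfl) (Nat.prime_of_mem_primeFactors hrP) (Nat.dvd_of_mem_primeFactors hrP)
    have hfpf : Cfsg.Lib.Frobenius.Fpf A N := by
      intro x hx hx1
      rw [eq_bot_iff]
      rintro m ⟨hm, hmc⟩
      rw [mem_bot]
      by_contra hm1
      refine Cfsg.Lib.DisconnectedGraph.not_commute (P := fun s => s = p)
        (Cfsg.Lib.DisconnectedGraph.sep_subgroup (fun s t hs ht hsP htP g => hnoprod s t hs ht (fun e' => htP (e' ▸ hsP)) g) H)
        (mem_centralizer_singleton_iff.1 hmc) hm1 hx1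
        (fun s hs hd => (Nat.prime_dvd_prime_iff_eq hs hp).1 (hs.dvd_of_dvd_pow (n := j) (by rw [← hj]; exact hd.trans (Subgroup.orderOf_dvd_natCard N hm))))
        (fun s hs hd e => ?_)
      rcases hA.1 s hs (hd.trans (orderOf_dvd_natCard A hx)) with h | h
      · exact hqp (h.symm.trans e)
      · exact hrp ((Set.mem_singleton_iff.1 h).symm.trans e)
    have hAN : A ≤ normalizer (N : Set H) := by rw [normalizer_eq_top_iff.2 hNn]; exact le_top
    haveI : Nontrivial A := by
      rw [← Finite.one_lt_card_iff_nontrivial]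
      exact lt_of_lt_of_le (Nat.prime_of_mem_primeFactors hqP).one_lt (Nat.le_of_dvd Nat.card_pos hqA)
    obtain ⟨T, -, hTn, hT0, hTmin⟩ := Cfsg.Lib.Coprime.exists_minimal_normal (G := A) (K := ⊤) inferInstance top_ne_bot
    haveI := hTn
    obtain ⟨hTab, s, hs, hTs, hTexp⟩ := Cfsg.Lib.Coprime.minimal_normal_solvable inferInstance hT0 hTmin
    haveI := hTab
    set T' := T.map A.subtype
    have hT'A : T' ≤ A := map_subtype_le _
    haveI : IsMulCommutative T' := ⟨⟨by
      rintro ⟨_, x, hx, rfl⟩ ⟨_, y, hy, rfl⟩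
      exact Subtype.ext (congrArg (fun z : T => ((z : A) : H)) (hTab.is_comm.comm ⟨x, hx⟩ ⟨y, hy⟩))⟩⟩
    have hcyc : IsCyclic T' := (hfpf.mono hT'A).isCyclic_of_comm (hT'A.trans hAN) hN0
    have hcardT : Nat.card T' = s := by
      obtain ⟨g, hg⟩ := hcyc.exists_generator
      have h1 : orderOf g ∣ s := orderOf_dvd_of_pow_eq_one (by
        obtain ⟨_, x, hx, rfl⟩ := g
        exact Subtype.ext (by simpa using congrArg Subtype.val (hTexp x hx)))
      rw [← orderOf_eq_card_of_forall_mem_zpowers hg]
      refine ((Nat.dvd_prime hs).1 h1).resolve_left fun e => hT0 ?_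
      rw [eq_bot_iff]
      intro x hx
      obtain ⟨k, hk⟩ := mem_zpowers_iff.1 (hg ⟨(x : H), x, hx, rfl⟩)
      rw [orderOf_eq_one_iff.1 e, one_zpow] at hk
      exact mem_bot.2 (Subtype.ext (congrArg Subtype.val hk).symm)
    have hsqr : s = q ∨ s = r := by
      refine (hA.1 s hs ?_).imp id id
      rw [← hcardT]; exact card_dvd_of_le hT'A
    obtain ⟨t, ht, htA, hts⟩ : ∃ t, t.Prime ∧ t ∣ Nat.card A ∧ s ≠ t := by
      rcases hsqr with rfl | rfl
      · exact ⟨r, Nat.prime_of_mem_primeFactors hrP, hrA, hqr⟩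
      · exact ⟨q, Nat.prime_of_mem_primeFactors hqP, hqA, Ne.symm hqr⟩
    haveI := Fact.mk ht
    obtain ⟨y, hy⟩ := exists_prime_orderOf_dvd_card' (G := A) t htA
    set B := T ⊔ zpowers y
    have hTcard : Nat.card T = s := by
      rw [← hcardT]; exact Nat.card_congr (T.equivMapOfInjective _ A.subtype_injective).toEquiv
    have hBcard : Nat.card B = s * t := by
      have h1 : Nat.card B ∣ s * t := by
        have := Cfsg.Lib.Components.card_sup_dvd_mul T (zpowers y)
        rwa [hTcard, Nat.card_zpowers, hy] at this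
      have h2 : s * t ∣ Nat.card B := ((Nat.coprime_primes hs ht).2 hts).mul_dvd_of_dvd_of_dvd
        (hTcard ▸ card_dvd_of_le (le_sup_left : T ≤ B))
        (by rw [← hy, ← Nat.card_zpowers]; exact card_dvd_of_le (le_sup_right : zpowers y ≤ B))
      exact Nat.dvd_antisymm h1 h2
    set B' := B.map A.subtype
    have hB'A : B' ≤ A := map_subtype_le _
    haveI := hNab
    have hB'cyc : IsCyclic B' := (hfpf.mono hB'A).isCyclic_of_card_mul (hB'A.trans hAN) hN0 hs ht
      (by rw [← hBcard]; exact (Nat.card_congr (B.equivMapOfInjective _ A.subtype_injective).toEquiv).symm)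
    obtain ⟨g, hg⟩ := hB'cyc.exists_generator
    refine hnoprod s t hs ht hts ((g : H) : G) ?_
    rw [Subgroup.orderOf_coe, Subgroup.orderOf_coe, orderOf_eq_card_of_forall_mem_zpowers hg, ← hBcard]
    exact (Nat.card_congr (B.equivMapOfInjective _ A.subtype_injective).toEquiv).symm
  -- `R` is a `p`-group
  have hRp : ∃ p : ℕ, p.Prime ∧ IsPGroup p ↥R := by
    rcases Nat.lt_or_ge (Nat.card R).primeFactors.card 2 with hlt | hge
    · rcases Finset.card_le_one_iff_subset_singleton.1 (Nat.lt_succ_iff.1 hlt) with ⟨x, hx⟩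
      by_cases hne : (Nat.card R).primeFactors = ∅
      · rw [Nat.primeFactors_eq_empty] at hne
        rcases hne with h | h
        · exact absurd h Nat.card_pos.ne'
        · exact ⟨2, Nat.prime_two, IsPGroup.of_card (n := 0) (by rw [h, pow_zero])⟩
      · obtain ⟨p, hpR⟩ := Finset.nonempty_iff_ne_empty.2 hne
        have hpp' := Nat.prime_of_mem_primeFactors hpR
        obtain rfl : p = x := Finset.mem_singleton.1 (hx hpR)
        refine ⟨p, hpp', IsPGroup.of_card (n := (Nat.card R).primeFactorsList.length) ?_⟩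
        exact Nat.eq_prime_pow_of_unique_prime_dvd Nat.card_pos.ne' fun {d} hd hdd =>
          Finset.mem_singleton.1 (hx (Nat.mem_primeFactors.2 ⟨hd, hdd, Nat.card_pos.ne'⟩))
    · exfalso
      have h2 : (Nat.card R).primeFactors.card = 2 := le_antisymm (hthree R hRs) hge
      obtain ⟨p, q, hpq, hRpq⟩ := Finset.card_eq_two.1 h2
      have hpR : p ∈ (Nat.card R).primeFactors := by rw [hRpq]; simp
      have hqR : q ∈ (Nat.card R).primeFactors := by rw [hRpq]; simp
      have hpp' := Nat.prime_of_mem_primeFactors hpR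
      have hqq' := Nat.prime_of_mem_primeFactors hqR
      have hsub : (Nat.card G).primeFactors ⊆ {p, q} := by
        intro r hr
        by_contra hr'
        have hr0 := Nat.prime_of_mem_primeFactors hr
        haveI := Fact.mk hr0
        obtain ⟨y, hy⟩ := exists_prime_orderOf_dvd_card' (G := G) r (Nat.dvd_of_mem_primeFactors hr)
        set X := R ⊔ zpowers y
        have hXs : Group.IsSolvable X := by
          let f : zpowers y →* X ⧸ R.subgroupOf X :=
            (QuotientGroup.mk' (R.subgroupOf X)).comp (inclusion le_sup_right)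
          have hf : Function.Surjective f := fun a => by
            obtain ⟨⟨a, ha⟩, rfl⟩ := QuotientGroup.mk'_surjective _ a
            obtain ⟨u, hu, v, hv, huv⟩ := mem_sup_of_normal_left.1 ha
            refine ⟨⟨v, hv⟩, QuotientGroup.eq.2 ?_⟩
            show v⁻¹ * a ∈ R
            rw [← huv, ← mul_assoc]
            simpa using (inferInstance : R.Normal).conj_mem u hu v⁻¹
          haveI : Group.IsSolvable (zpowers y) := Group.isSolvable_of_comm fun a b => (IsCyclic.isMulCommutative.is_comm.comm a b)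
          haveI : Group.IsSolvable (X ⧸ R.subgroupOf X) := Group.isSolvable_of_surjective hf
          haveI := Cfsg.Lib.Coprime.isSolvable_subgroupOf hRs (le_sup_left : R ≤ X)
          exact Group.isSolvable_of_ker_le_range (R.subgroupOf X).subtype (QuotientGroup.mk' (R.subgroupOf X))
            (le_of_eq (by rw [range_subtype, QuotientGroup.ker_mk']))
        have h3 : ({p, q, r} : Finset ℕ) ⊆ (Nat.card X).primeFactors := by
          intro d hd
          simp only [Finset.mem_insert, Finset.mem_singleton] at hd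
          rcases hd with rfl | rfl | rfl
          · exact Nat.mem_primeFactors.2 ⟨hpp', (Nat.dvd_of_mem_primeFactors hpR).trans (card_dvd_of_le le_sup_left), Nat.card_pos.ne'⟩
          · exact Nat.mem_primeFactors.2 ⟨hqq', (Nat.dvd_of_mem_primeFactors hqR).trans (card_dvd_of_le le_sup_left), Nat.card_pos.ne'⟩
          · exact Nat.mem_primeFactors.2 ⟨hr0, by rw [← hy, ← Nat.card_zpowers]; exact card_dvd_of_le le_sup_right, Nat.card_pos.ne'⟩
        have h4 := (Finset.card_le_card h3).trans (hthree X hXs)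
        simp only [Finset.mem_insert, Finset.mem_singleton, not_or] at hr'
        rw [Finset.card_insert_of_notMem (by simp [hpq, Ne.symm hr'.1]), Finset.card_insert_of_notMem (by simp [Ne.symm hr'.2]),
          Finset.card_singleton] at h4
        omega
      refine hns (Cfsg.Lib.Chars.burnside_isSolvable p q hpp' hqq' G ⟨(Nat.card G).factorization p, (Nat.card G).factorization q, ?_⟩)
      conv_lhs => rw [← Nat.prod_factorization_pow_eq_self (Nat.card_pos (α := G)).ne']
      rw [Finsupp.prod_of_support_subset (s := ({p, q} : Finset ℕ)) _ (by rw [Nat.support_factorization]; exact hsub) _ (fun _ _ => pow_zero _),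
        Finset.prod_pair hpq]
  refine ⟨hRp, ?_, hthree⟩
  -- the quotient
  set Q := G ⧸ R
  have hQns : ∀ L : Subgroup Q, L.Normal → Group.IsSolvable L → L = ⊥ := by
    intro L hL hLs
    have h1 : L.comap (QuotientGroup.mk' R) ≤ R := by
      refine hRmax _ (hL.comap _) ?_
      set Y := L.comap (QuotientGroup.mk' R)
      have hRY : R ≤ Y := fun x hx => by
        rw [Subgroup.mem_comap, QuotientGroup.mk'_apply, (QuotientGroup.eq_one_iff x).2 hx]; exact one_mem L
      haveI := hLs
      haveI := Cfsg.Lib.Coprime.isSolvable_subgroupOf hRs hRY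
      let f : Y →* L := ((QuotientGroup.mk' R).comp Y.subtype).codRestrict L fun k => k.2
      refine Group.isSolvable_of_ker_le_range (R.subgroupOf Y).subtype f ?_
      intro k hk
      rw [range_subtype, mem_subgroupOf]
      exact (QuotientGroup.eq_one_iff _).1 (congrArg Subtype.val hk)
    rw [← Subgroup.map_comap_eq_self_of_surjective (QuotientGroup.mk'_surjective R) L, eq_bot_iff,
      ← QuotientGroup.map_mk'_self R]
    exact map_mono h1
  have hQpp : ∀ (a b : ℕ), a.Prime → b.Prime → a ≠ b → ∀ g : Q, orderOf g ≠ a * b := fun a b ha hb hne =>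
    Cfsg.Lib.DisconnectedGraph.sep_quotient (P := fun s => s = a)
      (fun c d hc hd hca hdb g => hnoprod c d hc hd (fun e => hdb (e ▸ hca)) g) R a b ha hb rfl (fun e => hne e.symm)
  haveI : Nontrivial Q := (QuotientGroup.nontrivial_iff).2 (fun e => hns (by
    haveI := hRs
    exact Group.isSolvable_of_surjective (f := ((MulEquiv.subgroupCongr e).trans Subgroup.topEquiv).toMonoidHom)
      ((MulEquiv.subgroupCongr e).trans Subgroup.topEquiv).surjective))
  -- subgroups commuting elementwise cannot both be mixed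
  have hmixed : ∀ L : Subgroup Q, (∀ r, r.Prime → ¬ IsPGroup r L) → ∀ L' : Subgroup Q, L' ≠ ⊥ →
      (∀ x ∈ L, ∀ y ∈ L', x * y = y * x) → False := by
    intro L hL L' hL' hc
    obtain ⟨⟨y, hy⟩, hy1⟩ := (Subgroup.ne_bot_iff_exists_ne_one).1 hL'
    obtain ⟨a, ha, had⟩ := Nat.exists_prime_and_dvd
      (show orderOf y ≠ 1 from fun e => hy1 (Subtype.ext (orderOf_eq_one_iff.1 e)))
    obtain ⟨b, hb, hbd, hba⟩ : ∃ b, b.Prime ∧ b ∣ Nat.card L ∧ b ≠ a := by
      by_contra hh
      push Not at hh
      exact hL a ha (IsPGroup.of_card (n := (Nat.card L).primeFactorsList.length)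
        (Nat.eq_prime_pow_of_unique_prime_dvd Nat.card_pos.ne' fun {d} hd hdd => hh d hd hdd))
    haveI := Fact.mk hb
    obtain ⟨x, hx⟩ := exists_prime_orderOf_dvd_card' (G := L) b hbd
    refine hQpp b a hb ha hba ((x : Q) * y ^ (orderOf y / a)) ?_
    have hya : orderOf (y ^ (orderOf y / a)) = a := orderOf_pow_orderOf_div (orderOf_pos y).ne' had
    rw [((show Commute (x : Q) y from hc x x.2 y hy).pow_right _).orderOf_mul_eq_mul_orderOf_of_coprime
      (by rw [Subgroup.orderOf_coe, hx, hya]; exact (Nat.coprime_primes hb ha).2 hba), Subgroup.orderOf_coe, hx, hya]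
  obtain ⟨M, -, hMn, hM0, hMmin⟩ := Cfsg.Lib.Coprime.exists_minimal_normal (G := Q) (K := ⊤) inferInstance top_ne_bot
  haveI := hMn
  have hMns : ¬ Group.IsSolvable M := fun h => hM0 (hQns M hMn h)
  have hMmix : ∀ r, r.Prime → ¬ IsPGroup r M := fun r hr hP => hMns (by
    haveI := Fact.mk hr
    haveI := hP.isNilpotent
    infer_instance)
  refine ⟨M, hMn, ?_, fun hc => hMns (Group.isSolvable_of_comm fun a b => hc.is_comm.comm a b), fun L hL hL0 => ?_⟩
  swap
  · by_contra hle
    haveI := hL
    have hinf : M ⊓ L = ⊥ := (hMmin _ inferInstance inf_le_left).resolve_right fun e => hle (e ▸ inf_le_right)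
    exact hmixed M hMmix L hL0 fun x hx y hy =>
      Subgroup.commute_of_normal_of_disjoint M L hMn hL (disjoint_iff.2 hinf) x y hx hy
  haveI : Nontrivial M := (Subgroup.nontrivial_iff_ne_bot M).2 hM0
  obtain ⟨L, -, hLn, hL0, hLmin⟩ := Cfsg.Lib.Coprime.exists_minimal_normal (G := M) (K := ⊤) inferInstance top_ne_bot
  haveI := hLn
  set L' := L.map M.subtype
  have hL'0 : L' ≠ ⊥ := fun e => hL0 (Subgroup.map_injective M.subtype_injective (e.trans (Subgroup.map_bot _).symm))
  by_cases hall : ∀ g : Q, ∀ x ∈ L', g * x * g⁻¹ ∈ L'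
  · have hLM : L' = M := (hMmin L' ⟨fun x hx g => hall g x hx⟩ (map_subtype_le _)).resolve_left hL'0
    have hLtop : L = ⊤ := Subgroup.map_injective M.subtype_injective (hLM.trans (by rw [← MonoidHom.range_eq_map, range_subtype]))
    refine ⟨fun H hH => ?_⟩
    rcases hLmin H hH (by rw [hLtop]; exact le_top) with h | h
    · exact Or.inl h
    · exact Or.inr (h.trans hLtop)
  exfalso
  push Not at hall
  obtain ⟨g, x₀, hx₀, hgx⟩ := hall
  set e : M ≃* M := (MulAut.conjNormal g : MulAut M)
  set L2 := L.map e.toMonoidHom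
  haveI hL2n : L2.Normal := hLn.map _ e.surjective
  have hinf : L ⊓ L2 = ⊥ := by
    refine (hLmin _ inferInstance inf_le_left).resolve_right fun h => ?_
    have hle : L ≤ L2 := h ▸ inf_le_right
    have heq : L = L2 := Subgroup.eq_of_le_of_card_ge hle
      (le_of_eq (Nat.card_congr (L.equivMapOfInjective _ e.injective).toEquiv).symm)
    obtain ⟨m, hm, rfl⟩ := hx₀
    exact hgx ⟨e m, heq.ge (mem_map_of_mem _ hm), rfl⟩
  have hL2'0 : L2.map M.subtype ≠ ⊥ := fun h => hL0 (Subgroup.map_injective e.injective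
    ((Subgroup.map_injective M.subtype_injective (h.trans (Subgroup.map_bot _).symm)).trans (Subgroup.map_bot _).symm))
  refine hmixed L' (fun r hr hP => hM0 ?_) _ hL2'0 ?_
  · haveI := Fact.mk hr
    have hle : L ≤ Cfsg.pCore r M :=
      Cfsg.Lib.Components.le_pCore (hP.of_equiv (L.equivMapOfInjective _ M.subtype_injective).symm)
    haveI : ((Cfsg.pCore r M).map M.subtype).Normal := ConjAct.normal_of_characteristic_of_normal
    rcases hMmin ((Cfsg.pCore r M).map M.subtype) inferInstance (map_subtype_le _) with h | h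
    · exact absurd (le_bot_iff.1 (hle.trans (le_of_eq (Subgroup.map_injective M.subtype_injective (h.trans (Subgroup.map_bot _).symm))))) hL0
    · refine absurd ?_ (hMmix r hr)
      exact h ▸ (Cfsg.Lib.Components.isPGroup_pCore r).map M.subtype
  · rintro _ ⟨x, hx, rfl⟩ _ ⟨y, hy, rfl⟩
    exact congrArg Subtype.val (Subgroup.commute_of_normal_of_disjoint L L2 hLn hL2n (disjoint_iff.2 hinf) x y hx hy)

end Cfsg.Agent.S3992
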