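import Cfsg.Statements.S3994
import Cfsg.Agent.Counting.Frobenius

set_option autoImplicit false
open Cfsg

namespace Cfsg.Agent.S3994

/-- Let G be a finite group and n a positive integer. The number of elements of G whose order is divisible by n is either 0 or divisible by the largest divisor of the order of G that is coprime to n. -/
theorem result {G : Type*} [Group G] [Finite G] (n : ℕ) (hn : 0 < n) :
    Nat.card {g : G // n ∣ orderOf g} = 0 ∨
      (Nat.card G / Nat.gcd (Nat.card G) (n ^ Nat.card G)) ∣ Nat.card {g : G // n ∣ orderOf g} := by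
  refine Or.inr ?_
  classical
  have := Fintype.ofFinite G
  set B := Nat.gcd (Nat.card G) (n ^ Nat.card G) with hB
  have hB0 : 0 < B := Nat.gcd_pos_of_pos_left _ Nat.card_pos
  obtain ⟨t, ht⟩ : B ∣ Nat.card G := Nat.gcd_dvd_left _ _
  have hdiv : Nat.card G / B = t := Nat.div_eq_of_eq_mul_right hB0 ht
  rw [hdiv]
  have hcop : Nat.Coprime B t := by
    refine Nat.coprime_of_dvd fun q hq h1 h2 => ?_
    have hqn : q ∣ n := hq.dvd_of_dvd_pow (h1.trans (Nat.gcd_dvd_right _ _))
    set k := (Nat.card G).factorization q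
    have hkle : k ≤ Nat.card G := (Nat.factorization_lt _ Nat.card_pos.ne').le
    have hkB : q ^ k ∣ B :=
      Nat.dvd_gcd (Nat.ordProj_dvd _ _) ((pow_dvd_pow q hkle).trans (pow_dvd_pow_of_dvd hqn _))
    have hbad : q ^ (k + 1) ∣ Nat.card G := by
      rw [ht, pow_succ]
      exact mul_dvd_mul hkB h2
    exact absurd ((hq.pow_dvd_iff_le_factorization Nat.card_pos.ne').mp hbad) (by omega)
  have hall : ∀ x : G, x ^ (B * t) = 1 := fun x => by rw [← ht]; exact pow_card_eq_one'
  have hcard : Nat.card {g : G // n ∣ orderOf g} =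
      Nat.card {x : G // x ^ (B * t) = 1 ∧ n ∣ orderOf x} :=
    Nat.card_congr (Equiv.subtypeEquivRight fun x => ⟨fun h => ⟨hall x, h⟩, fun h => h.2⟩)
  have hnt : Nat.Coprime n t := by
    refine Nat.coprime_of_dvd fun q hq h1 h2 => ?_
    refine hq.ne_one (Nat.eq_one_of_dvd_coprimes hcop (Nat.dvd_gcd ?_ ?_) h2)
    · exact h2.trans (Dvd.intro_left _ ht.symm)
    · exact h1.trans (dvd_pow_self n Nat.card_pos.ne')
  rw [hcard, Cfsg.Lib.Counting.card_split hcop (fun u => n ∣ orderOf u) (fun x => n ∣ orderOf x)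
    (fun u y hu hy hc => by
      have hou := orderOf_dvd_of_pow_eq_one hu
      have hoy := orderOf_dvd_of_pow_eq_one hy
      rw [(show Commute u y from hc).orderOf_mul_eq_mul_orderOf_of_coprime
        ((hcop.coprime_dvd_left hou).coprime_dvd_right hoy)]
      exact (hnt.coprime_dvd_right hoy).dvd_mul_right)]
  refine Cfsg.Lib.Counting.dvd_sum_of_dvd_centralizer (Dvd.intro_left _ ht.symm) _ ?_ _
    (fun g u _ => Cfsg.Lib.Counting.card_sol_conj g u t)
    (fun u _ => Cfsg.Lib.Counting.dvd_card_pow_eq_one _ rfl t)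
  intro g u hu
  simp only [Finset.mem_filter, Finset.mem_univ, true_and] at hu ⊢
  refine ⟨by rw [conj_pow, hu.1, mul_one, mul_inv_cancel], ?_⟩
  have : orderOf (g * u * g⁻¹) = orderOf u := by
    rw [← MulAut.conj_apply]; exact (MulAut.conj g).orderOf_eq u
  rw [this]; exact hu.2

end Cfsg.Agent.S3994
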