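import Cfsg.Statements.S3996
import Cfsg.Agent.Counting.Frobenius
import Cfsg.Agent.Chars.Burnside
import Cfsg.Agent.S3995

set_option autoImplicit false
open Cfsg

namespace Cfsg.Agent.S3996

section counting

variable {G : Type*} [Group G] [Finite G]

/-- number of elements of a given order -/
noncomputable def cnt (G : Type*) [Group G] (m : ℕ) : ℕ := Nat.card {g : G // orderOf g = m}

theorem cnt_one : cnt G 1 = 1 := by
  have : Unique {g : G // orderOf g = 1} :=
    { default := ⟨1, orderOf_one⟩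
      uniq := fun g => Subtype.ext (orderOf_eq_one_iff.1 g.2) }
  exact Nat.card_unique

theorem totient_dvd (m : ℕ) : m.totient ∣ cnt G m := Cfsg.Agent.S3995.totient_dvd_card G m

theorem cnt_pos {g : G} {m : ℕ} (h : orderOf g = m) : 0 < cnt G m := by
  haveI : Nonempty {g : G // orderOf g = m} := ⟨⟨g, h⟩⟩
  exact Nat.card_pos

theorem exists_of_cnt {m : ℕ} (h : cnt G m ≠ 0) : ∃ g : G, orderOf g = m := by
  by_contra hne
  push Not at hne
  haveI : IsEmpty {g : G // orderOf g = m} := ⟨fun g => hne g g.2⟩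
  exact h Nat.card_of_isEmpty

theorem card_pow_eq_sum (n : ℕ) (hn : n ≠ 0) :
    Nat.card {g : G // g ^ n = 1} = ∑ d ∈ n.divisors, cnt G d := by
  classical
  haveI := Fintype.ofFinite G
  simp only [cnt, Nat.card_eq_fintype_card, Fintype.card_subtype]
  rw [← Finset.card_biUnion]
  · congr 1
    ext g
    simp only [Finset.mem_filter, Finset.mem_univ, true_and, Finset.mem_biUnion, Nat.mem_divisors]
    exact ⟨fun h => ⟨orderOf g, ⟨orderOf_dvd_of_pow_eq_one h, hn⟩, rfl⟩,
      fun ⟨d, ⟨hd, _⟩, hg⟩ => orderOf_dvd_iff_pow_eq_one.1 (hg ▸ hd)⟩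
  · intro a _ b _ hab
    exact Finset.disjoint_filter.2 fun g _ h1 h2 => hab (h1.symm.trans h2)

theorem frobenius_sum {n : ℕ} (hn : n ≠ 0) {t : ℕ} (ht : t ∣ n) (htG : t ∣ Nat.card G) :
    t ∣ ∑ d ∈ n.divisors, cnt G d := by
  rw [← card_pow_eq_sum n hn]
  exact (Nat.dvd_gcd ht htG).trans (Cfsg.Lib.Counting.dvd_card_pow_eq_one _ rfl n)

theorem frobenius_cast {n : ℕ} (hn : n ≠ 0) {t : ℕ} (ht : t ∣ n) (htG : t ∣ Nat.card G) :
    ((∑ d ∈ n.divisors, cnt G d : ℕ) : ZMod t) = 0 :=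
  (ZMod.natCast_eq_zero_iff _ t).2 (frobenius_sum hn ht htG)

omit [Group G] [Finite G] in
theorem sum_divisors_mul_prime (f : ℕ → ℕ) {a p : ℕ} (ha : a ≠ 0) (hp : p.Prime) (hpa : ¬ p ∣ a) :
    ∑ d ∈ (a * p).divisors, f d = (∑ d ∈ a.divisors, f d) + ∑ d ∈ a.divisors, f (d * p) := by
  classical
  have hset : (a * p).divisors = a.divisors ∪ a.divisors.image (· * p) := by
    ext d
    simp only [Nat.mem_divisors, Finset.mem_union, Finset.mem_image]
    constructor
    · rintro ⟨hd, -⟩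
      by_cases hpd : p ∣ d
      · obtain ⟨e, rfl⟩ := hpd
        right
        refine ⟨e, ⟨?_, ha⟩, mul_comm _ _⟩
        exact (Nat.mul_dvd_mul_iff_left hp.pos).1 (by rwa [mul_comm p a])
      · exact Or.inl ⟨((hp.coprime_iff_not_dvd.2 hpd).symm).dvd_of_dvd_mul_right hd, ha⟩
    · rintro (⟨hd, -⟩ | ⟨e, ⟨he, -⟩, rfl⟩)
      · exact ⟨hd.mul_right p, mul_ne_zero ha hp.ne_zero⟩
      · exact ⟨Nat.mul_dvd_mul_right he p, mul_ne_zero ha hp.ne_zero⟩
  rw [hset, Finset.sum_union, Finset.sum_image]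
  · exact fun x _ y _ h => Nat.eq_of_mul_eq_mul_right hp.pos h
  · rw [Finset.disjoint_left]
    rintro d hd h
    obtain ⟨e, -, rfl⟩ := Finset.mem_image.1 h
    exact hpa ((dvd_mul_left p e).trans (Nat.mem_divisors.1 hd).1)

/-- a prime not occurring with `m` divides the number of elements of order `m` -/
theorem dvd_cnt_of_no_product {m q : ℕ} (hq : q.Prime) (hqG : q ∣ Nat.card G) (hqm : m.Coprime q)
    (h : cnt G (m * q) = 0) : q ∣ cnt G m := by
  classical
  haveI := Fact.mk hq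
  obtain ⟨y, hy⟩ := exists_prime_orderOf_dvd_card' q hqG
  let σ : Equiv.Perm {g : G // orderOf g = m} :=
    (MulAut.conj y).toEquiv.subtypeEquiv fun g => by
      rw [show orderOf ((MulAut.conj y).toEquiv g) = orderOf g from
        orderOf_injective (MulAut.conj y).toMonoidHom (MulAut.conj y).injective g]
  have hσ : ∀ (i : ℕ) (g : {g : G // orderOf g = m}), (((σ ^ i) g : {g : G // orderOf g = m}) : G) = y ^ i * g * (y ^ i)⁻¹ := by
    intro i
    induction i with
    | zero => simp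
    | succ i ih =>
      intro g
      rw [pow_succ', Equiv.Perm.mul_apply, show (((σ ((σ ^ i) g)) : {g : G // orderOf g = m}) : G) = y * ((σ ^ i) g : G) * y⁻¹ from rfl, ih, pow_succ']
      group
  have hσq : σ ^ q = 1 := Equiv.ext fun g => Subtype.ext (by
    rw [hσ, ← hy, pow_orderOf_eq_one]; simp)
  have hZ : IsPGroup q (Subgroup.zpowers σ) := by
    rintro ⟨x, hx⟩
    refine ⟨1, Subtype.ext ?_⟩
    obtain ⟨i, rfl⟩ := hx
    show (σ ^ i) ^ q ^ 1 = 1
    rw [pow_one, ← zpow_natCast, ← zpow_mul, mul_comm, zpow_mul, zpow_natCast, hσq, one_zpow]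
  have hfix : IsEmpty (MulAction.fixedPoints (Subgroup.zpowers σ) {g : G // orderOf g = m}) := by
    refine ⟨fun ⟨g, hg⟩ => ?_⟩
    have h1 : σ g = g := hg ⟨σ, Subgroup.mem_zpowers σ⟩
    have h2 : Commute (g : G) y := by
      have h3 : y * (g : G) * y⁻¹ = g := congrArg Subtype.val h1
      exact (mul_inv_eq_iff_eq_mul.1 h3).symm
    have h4 := h2.orderOf_mul_eq_mul_orderOf_of_coprime (by rw [g.2, hy]; exact hqm)
    rw [g.2, hy] at h4
    exact (cnt_pos h4).ne' h
  have hmod := hZ.card_modEq_card_fixedPoints {g : G // orderOf g = m}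
  rw [Nat.card_of_isEmpty (α := MulAction.fixedPoints (Subgroup.zpowers σ) {g : G // orderOf g = m})] at hmod
  exact Nat.modEq_zero_iff_dvd.1 hmod

theorem cnt_two_mul {z : G} (hz : orderOf z = 2) (hu : cnt G 2 = 1) {m : ℕ} (hm : Odd m) :
    cnt G (2 * m) = cnt G m := by
  classical
  haveI hsub : Subsingleton {g : G // orderOf g = 2} := (Nat.card_eq_one_iff_unique.1 hu).1
  have hc : ∀ g : G, Commute z g := fun g => by
    have h1 : orderOf (g * z * g⁻¹) = 2 := by
      rw [show g * z * g⁻¹ = (MulAut.conj g).toMonoidHom z from rfl,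
        orderOf_injective (MulAut.conj g).toMonoidHom (MulAut.conj g).injective, hz]
    have h2 : g * z * g⁻¹ = z := congrArg Subtype.val (Subsingleton.elim (⟨_, h1⟩ : {g : G // orderOf g = 2}) ⟨z, hz⟩)
    exact (mul_inv_eq_iff_eq_mul.1 h2).symm
  refine Nat.card_congr ⟨fun g => ⟨z * g, ?_⟩, fun g => ⟨z * g, ?_⟩, fun g => Subtype.ext ?_, fun g => Subtype.ext ?_⟩
  · -- from order `2 m` to order `m`
    have hm0 : 0 < m := hm.pos
    have hgm : orderOf ((g : G) ^ m) = 2 := by
      rw [orderOf_pow' _ hm0.ne', g.2, Nat.gcd_mul_left_left, Nat.mul_div_cancel _ hm0]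
    have hgz : (g : G) ^ m = z := congrArg Subtype.val (Subsingleton.elim (⟨_, hgm⟩ : {g : G // orderOf g = 2}) ⟨z, hz⟩)
    rw [← hgz, ← pow_succ, orderOf_pow' _ (Nat.succ_ne_zero m), g.2]
    obtain ⟨j, rfl⟩ := hm
    rw [show (2 * j + 1).succ = 2 * (j + 1) by omega, Nat.gcd_mul_left, Nat.Coprime.gcd_eq_one, mul_one,
      Nat.mul_div_cancel_left _ two_pos]
    rw [Nat.coprime_comm, show 2 * j + 1 = j + (j + 1) by omega, Nat.coprime_add_self_right,
      Nat.coprime_comm, Nat.coprime_self_add_right]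
    exact Nat.coprime_one_right j
  · rw [(hc g).orderOf_mul_eq_mul_orderOf_of_coprime (by rw [hz, g.2]; exact (Nat.coprime_two_left).2 hm), hz, g.2]
  all_goals
    show z * (z * (g : G)) = g
    rw [← mul_assoc, ← sq, show z ^ 2 = 1 from hz ▸ pow_orderOf_eq_one z, one_mul]

theorem odd_of_coprime_two {g : G} {m : ℕ} (h : orderOf g = m) (hm : Odd m) {K : Subgroup G} [K.Normal]
    (hK : K.index = 2) : g ∈ K := by
  have h1 : g ^ m = 1 := by rw [← h, pow_orderOf_eq_one]
  rw [← QuotientGroup.eq_one_iff (N := K)]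
  have h2 : ((g : G ⧸ K)) ^ 2 = 1 := by
    rw [← hK, Subgroup.index_eq_card]; exact pow_card_eq_one'
  exact (pow_eq_one_iff_of_coprime (m := m) (n := 2) (Nat.coprime_two_right.2 hm)).1
    ⟨by rw [← QuotientGroup.mk_pow, h1, QuotientGroup.mk_one], h2⟩

end counting

section main

variable {G : Type*} [Group G] [Finite G]

/-- the standing data -/
structure Data (G : Type*) [Group G] [Finite G] : Prop where
  pig : ∀ x y z : ℕ, cnt G x ≠ 0 → cnt G y ≠ 0 → cnt G z ≠ 0 → cnt G x ≠ 1 → cnt G y ≠ 1 → cnt G z ≠ 1 →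
    cnt G x = cnt G y ∨ cnt G x = cnt G z ∨ cnt G y = cnt G z

variable (D : Data G)

theorem ne_one {m : ℕ} (hm : 3 ≤ m) : cnt G m ≠ 1 := fun h => by
  have h1 : 2 ∣ cnt G m := (even_iff_two_dvd.1 (Nat.totient_even hm)).trans (totient_dvd m)
  omega

theorem prime_cnt {p : ℕ} (hp : p.Prime) (hpG : p ∣ Nat.card G) : cnt G p ≠ 0 ∧ ((cnt G p : ℕ) : ZMod p) = -1 := by
  haveI := Fact.mk hp
  obtain ⟨y, hy⟩ := exists_prime_orderOf_dvd_card' p hpG
  refine ⟨(cnt_pos hy).ne', ?_⟩
  have h := frobenius_cast (G := G) hp.ne_zero dvd_rfl hpG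
  rw [Nat.Prime.divisors hp, Finset.sum_pair hp.one_lt.ne, cnt_one] at h
  push_cast at h
  exact eq_neg_of_add_eq_zero_right h

theorem sum_two {p q : ℕ} (hp : p.Prime) (hq : q.Prime) (hpq : p ≠ q) :
    ∑ d ∈ (p * q).divisors, cnt G d = 1 + cnt G p + cnt G q + cnt G (p * q) := by
  rw [sum_divisors_mul_prime _ hp.ne_zero hq (fun h => hpq.symm ((Nat.prime_dvd_prime_iff_eq hq hp).1 h)),
    Nat.Prime.divisors hp, Finset.sum_pair hp.one_lt.ne, Finset.sum_pair hp.one_lt.ne, cnt_one, one_mul]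
  ring

theorem cast_ne {p : ℕ} (hp : p.Prime) (hp2 : p ≠ 2) : (1 : ZMod p) ≠ -1 := by
  haveI := Fact.mk hp
  intro h
  have h2 : ((2 : ℕ) : ZMod p) = 0 := by push_cast; linear_combination h
  exact hp2 ((Nat.prime_dvd_prime_iff_eq hp Nat.prime_two).1 ((ZMod.natCast_eq_zero_iff 2 p).1 h2))

include D in
theorem eq_or {x y z : ℕ} (hx : cnt G x ≠ 0) (hy : cnt G y ≠ 0) (hz : cnt G z ≠ 0) (hx1 : cnt G x ≠ 1)
    (hy1 : cnt G y ≠ 1) (hz1 : cnt G z ≠ 1) (hyz : cnt G y ≠ cnt G z) : cnt G x = cnt G y ∨ cnt G x = cnt G z := by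
  rcases D.pig x y z hx hy hz hx1 hy1 hz1 with h | h | h
  · exact Or.inl h
  · exact Or.inr h
  · exact absurd h hyz

theorem odd_prime_data {p : ℕ} (hp : p.Prime) (hp2 : p ≠ 2) : 3 ≤ p := by have := hp.two_le; omega

/-- facts about two primes with equal counts -/
theorem same_pair {p q : ℕ} (hp : p.Prime) (hq : q.Prime) (hp2 : p ≠ 2) (hq2 : q ≠ 2) (hpq : p ≠ q)
    (hpG : p ∣ Nat.card G) (hqG : q ∣ Nat.card G) (hv : cnt G p = cnt G q) :
    cnt G (p * q) ≠ 0 ∧ cnt G (p * q) ≠ 1 ∧ cnt G (p * q) ≠ cnt G p ∧ ((cnt G (p * q) : ℕ) : ZMod p) = 1 ∧ 4 ∣ cnt G (p * q) := by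
  haveI := Fact.mk hp
  haveI := Fact.mk hq
  have hne : cnt G (p * q) ≠ 0 := fun h => by
    have h1 := dvd_cnt_of_no_product hq hqG ((Nat.coprime_primes hp hq).2 hpq) h
    rw [hv] at h1
    have h2 := (prime_cnt hq hqG).2
    rw [(ZMod.natCast_eq_zero_iff _ q).2 h1] at h2
    exact one_ne_zero (neg_eq_zero.1 h2.symm)
  have h1 := frobenius_cast (G := G) (mul_ne_zero hp.ne_zero hq.ne_zero) (dvd_mul_right p q) hpG
  rw [sum_two hp hq hpq] at h1
  push_cast at h1
  rw [← hv, (prime_cnt hp hpG).2] at h1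
  have hmod : ((cnt G (p * q) : ℕ) : ZMod p) = 1 := by linear_combination h1
  refine ⟨hne, ne_one ?_, fun h => cast_ne hp hp2 ?_, hmod, ?_⟩
  · nlinarith [hp.two_le, hq.two_le]
  · rw [h, (prime_cnt hp hpG).2] at hmod
    exact hmod.symm
  · refine dvd_trans ?_ (totient_dvd _)
    rw [Nat.totient_mul ((Nat.coprime_primes hp hq).2 hpq), Nat.totient_prime hp, Nat.totient_prime hq]
    have hodd : ∀ {r : ℕ}, r.Prime → r ≠ 2 → 2 ∣ r - 1 := fun {r} hr hr2 => by
      obtain ⟨j, rfl⟩ := hr.odd_of_ne_two hr2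
      simp
    exact Nat.mul_dvd_mul (hodd hp hp2) (hodd hq hq2)

include D in
/-- three primes cannot carry two values -/
theorem not_three {p q r : ℕ} (hp : p.Prime) (hq : q.Prime) (hr : r.Prime) (hp2 : p ≠ 2) (hq2 : q ≠ 2) (hr2 : r ≠ 2)
    (hpq : p ≠ q) (hpG : p ∣ Nat.card G) (hqG : q ∣ Nat.card G) (hrG : r ∣ Nat.card G)
    (hv : cnt G p = cnt G q) (hw : cnt G r ≠ cnt G p) : False := by
  haveI := Fact.mk hp
  haveI := Fact.mk hq
  haveI := Fact.mk hr
  have hpr : p ≠ r := fun h => hw (by rw [h])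
  have hqr : q ≠ r := fun h => hw (by rw [hv, h])
  obtain ⟨hP0, hP1, hPv, hPm, -⟩ := same_pair hp hq hp2 hq2 hpq hpG hqG hv
  obtain ⟨-, -, -, hPm', -⟩ := same_pair hq hp hq2 hp2 hpq.symm hqG hpG hv.symm
  rw [mul_comm q p] at hPm'
  have hp0 := prime_cnt (G := G) hp hpG
  have hq0 := prime_cnt (G := G) hq hqG
  have hr0 := prime_cnt (G := G) hr hrG
  have hp1 := ne_one (G := G) (odd_prime_data hp hp2)
  have hr1 := ne_one (G := G) (odd_prime_data hr hr2)
  have hPw : cnt G (p * q) = cnt G r :=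
    (eq_or D hP0 hp0.1 hr0.1 hP1 hp1 hr1 hw.symm).resolve_left hPv
  have hcop : (p * q).Coprime r := Nat.Coprime.mul_left ((Nat.coprime_primes hp hr).2 hpr) ((Nat.coprime_primes hq hr).2 hqr)
  have hPQR : cnt G (p * q * r) ≠ 0 := fun h => by
    have h1 := dvd_cnt_of_no_product hr hrG hcop h
    rw [hPw] at h1
    have h2 := hr0.2
    rw [(ZMod.natCast_eq_zero_iff _ r).2 h1] at h2
    exact one_ne_zero (neg_eq_zero.1 h2.symm)
  have hside : ∀ (a : ℕ), a.Prime → a ≠ 2 → a ≠ r → a ∣ Nat.card G → cnt G a = cnt G p →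
      ((cnt G (p * q) : ℕ) : ZMod a) = 1 → (∃ g : G, orderOf g = a * r) →
      cnt G (a * r) = cnt G p ∧ 2 * ((cnt G p : ℕ) : ZMod r) = 0 := by
    intro a ha ha2 har haG hav hamod ⟨g, hg⟩
    haveI := Fact.mk ha
    have hsum := sum_two (G := G) ha hr har
    have h1 := frobenius_cast (G := G) (mul_ne_zero ha.ne_zero hr.ne_zero) (dvd_mul_right a r) haG
    rw [hsum] at h1
    push_cast at h1
    rw [(prime_cnt ha haG).2] at h1
    have h3 : 3 ≤ a * r := by nlinarith [ha.two_le, hr.two_le]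
    have hval : cnt G (a * r) = cnt G p := by
      refine (eq_or D (cnt_pos hg).ne' hp0.1 hr0.1 (ne_one h3) hp1 hr1 hw.symm).resolve_right fun h => cast_ne ha ha2 ?_
      rw [h, ← hPw, hamod] at h1
      have h2 : (1 : ZMod a) + 1 = 0 := by linear_combination h1
      linear_combination h2
    refine ⟨hval, ?_⟩
    have h2 := frobenius_cast (G := G) (mul_ne_zero ha.ne_zero hr.ne_zero) (dvd_mul_left r a) hrG
    rw [hsum, hval, hav] at h2
    push_cast at h2
    rw [hr0.2] at h2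
    linear_combination h2
  obtain ⟨g, hg⟩ := exists_of_cnt hPQR
  have hgp : orderOf (g ^ q) = p * r := by
    rw [orderOf_pow' _ hq.ne_zero, hg, Nat.gcd_eq_right (Dvd.dvd.mul_right (dvd_mul_left q p) r),
      show p * q * r = p * r * q by ring, Nat.mul_div_cancel _ hq.pos]
  have hgq : orderOf (g ^ p) = q * r := by
    rw [orderOf_pow' _ hp.ne_zero, hg, Nat.gcd_eq_right (Dvd.dvd.mul_right (dvd_mul_right p q) r),
      show p * q * r = q * r * p by ring, Nat.mul_div_cancel _ hp.pos]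
  obtain ⟨hpr', hzero⟩ := hside p hp hp2 hpr hpG rfl hPm ⟨_, hgp⟩
  obtain ⟨hqr', -⟩ := hside q hq hq2 hqr hqG hv.symm hPm' ⟨_, hgq⟩
  have hrnd : ¬ r ∣ p * q := fun h => by
    rcases hr.dvd_mul.1 h with h | h
    · exact hpr ((Nat.prime_dvd_prime_iff_eq hr hp).1 h).symm
    · exact hqr ((Nat.prime_dvd_prime_iff_eq hr hq).1 h).symm
  have h1 := frobenius_cast (G := G) (mul_ne_zero (mul_ne_zero hp.ne_zero hq.ne_zero) hr.ne_zero) (dvd_mul_left r (p * q)) hrG
  rw [sum_divisors_mul_prime _ (mul_ne_zero hp.ne_zero hq.ne_zero) hr hrnd, sum_two hp hq hpq,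
    sum_divisors_mul_prime (fun d => cnt G (d * r)) hp.ne_zero hq (fun h => hpq.symm ((Nat.prime_dvd_prime_iff_eq hq hp).1 h)),
    Nat.Prime.divisors hp, Finset.sum_pair hp.one_lt.ne, Finset.sum_pair hp.one_lt.ne, one_mul, one_mul,
    hpr', hqr', hPw, ← hv] at h1
  push_cast at h1
  rw [hr0.2] at h1
  have hv0 : ((cnt G p : ℕ) : ZMod r) = 0 := by
    rcases mul_eq_zero.1 hzero with h | h
    · exact absurd ((Nat.prime_dvd_prime_iff_eq hr Nat.prime_two).1
        ((ZMod.natCast_eq_zero_iff 2 r).1 (by exact_mod_cast h))) hr2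
    · exact h
  have hN : ((cnt G (p * q * r) : ℕ) : ZMod r) = 1 := by
    rw [hv0] at h1; linear_combination h1
  have h3 : 3 ≤ p * q * r := by nlinarith [hp.two_le, hq.two_le, hr.two_le, Nat.mul_le_mul hp.two_le hq.two_le]
  rcases eq_or D hPQR hp0.1 hr0.1 (ne_one h3) hp1 hr1 hw.symm with h | h <;> rw [h] at hN
  · rw [hv0] at hN; exact zero_ne_one hN
  · rw [hr0.2] at hN; exact cast_ne hr hr2 hN.symm

theorem four_data {p : ℕ} (hp : p.Prime) (hp2 : p ≠ 2) (hpG : p ∣ Nat.card G) {z : G} (hz : orderOf z = 2)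
    (hu : cnt G 2 = 1) (hv : cnt G 4 = cnt G p) :
    cnt G (4 * p) ≠ 0 ∧ ((cnt G (4 * p) : ℕ) : ZMod p) = 1 := by
  haveI := Fact.mk hp
  have hcop : Nat.Coprime 4 p := by
    rw [show (4 : ℕ) = 2 ^ 2 by norm_num]
    exact ((Nat.coprime_primes Nat.prime_two hp).2 hp2.symm).pow_left 2
  refine ⟨fun h => ?_, ?_⟩
  · have h1 := dvd_cnt_of_no_product hp hpG hcop h
    rw [hv] at h1
    have h2 := (prime_cnt hp hpG).2
    rw [(ZMod.natCast_eq_zero_iff _ p).2 h1] at h2
    exact one_ne_zero (neg_eq_zero.1 h2.symm)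
  have h1 := frobenius_cast (G := G) (mul_ne_zero (by norm_num : (4 : ℕ) ≠ 0) hp.ne_zero) (dvd_mul_left p 4) hpG
  rw [sum_divisors_mul_prime _ (by norm_num : (4 : ℕ) ≠ 0) hp (fun h => by
    rw [show (4 : ℕ) = 2 ^ 2 by norm_num] at h
    exact hp2 ((Nat.prime_dvd_prime_iff_eq hp Nat.prime_two).1 (hp.dvd_of_dvd_pow h))),
    show Nat.divisors 4 = {1, 2, 4} from by decide] at h1
  simp only [Finset.sum_insert, Finset.mem_insert, Finset.mem_singleton, OfNat.one_ne_ofNat, or_self, not_false_eq_true,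
    Finset.sum_singleton, show (2 : ℕ) ≠ 4 by norm_num, cnt_one, one_mul, hu,
    cnt_two_mul hz hu (hp.odd_of_ne_two hp2), hv] at h1
  push_cast at h1
  rw [(prime_cnt hp hpG).2] at h1
  linear_combination h1

theorem sum_four_pq {p q : ℕ} (hp : p.Prime) (hq : q.Prime) (hp2 : p ≠ 2) (hq2 : q ≠ 2) (hpq : p ≠ q) {z : G}
    (hz : orderOf z = 2) (hu : cnt G 2 = 1) :
    ∑ d ∈ (4 * p * q).divisors, cnt G d = 2 + cnt G 4 + 2 * cnt G p + cnt G (4 * p) + 2 * cnt G q + cnt G (4 * q) +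
      2 * cnt G (p * q) + cnt G (4 * p * q) := by
  have hn : ∀ {r : ℕ}, r.Prime → r ≠ 2 → ¬ r ∣ 4 := fun {r} hr hr2 h => by
    rw [show (4 : ℕ) = 2 ^ 2 by norm_num] at h
    exact hr2 ((Nat.prime_dvd_prime_iff_eq hr Nat.prime_two).1 (hr.dvd_of_dvd_pow h))
  rw [sum_divisors_mul_prime _ (mul_ne_zero (by norm_num) hp.ne_zero) hq (fun h => by
      rcases hq.dvd_mul.1 h with h | h
      · exact hn hq hq2 h
      · exact hpq.symm ((Nat.prime_dvd_prime_iff_eq hq hp).1 h)),
    sum_divisors_mul_prime _ (by norm_num) hp (hn hp hp2),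
    sum_divisors_mul_prime (fun d => cnt G (d * q)) (by norm_num) hp (hn hp hp2),
    show Nat.divisors 4 = {1, 2, 4} from by decide]
  simp only [Finset.sum_insert, Finset.mem_insert, Finset.mem_singleton, OfNat.one_ne_ofNat, or_self, not_false_eq_true,
    Finset.sum_singleton, show (2 : ℕ) ≠ 4 by norm_num, cnt_one, one_mul, hu,
    cnt_two_mul hz hu (hp.odd_of_ne_two hp2), cnt_two_mul hz hu (hq.odd_of_ne_two hq2)]
  rw [show 2 * p * q = 2 * (p * q) by ring, cnt_two_mul hz hu ((hp.odd_of_ne_two hp2).mul (hq.odd_of_ne_two hq2))]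
  ring

theorem four_mod (h4 : 4 ∣ Nat.card G) (hu : cnt G 2 = 1) : cnt G 4 % 4 = 2 := by
  have h := frobenius_sum (G := G) (n := 4) (by norm_num) dvd_rfl h4
  rw [show Nat.divisors 4 = {1, 2, 4} from by decide] at h
  simp only [Finset.sum_insert, Finset.mem_insert, Finset.mem_singleton, OfNat.one_ne_ofNat, or_self, not_false_eq_true,
    Finset.sum_singleton, show (2 : ℕ) ≠ 4 by norm_num, cnt_one, hu] at h
  omega

include D in
/-- with a unique involution and an element of order four: no two odd primes -/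
theorem no_four {p q : ℕ} (hp : p.Prime) (hq : q.Prime) (hp2 : p ≠ 2) (hq2 : q ≠ 2) (hpq : p ≠ q)
    (hpG : p ∣ Nat.card G) (hqG : q ∣ Nat.card G) {z : G} (hz : orderOf z = 2) (hu : cnt G 2 = 1)
    (h4 : cnt G 4 ≠ 0) : False := by
  obtain ⟨g4, hg4⟩ := exists_of_cnt h4
  have h4G : 4 ∣ Nat.card G := hg4 ▸ orderOf_dvd_natCard g4
  have hm4 := four_mod h4G hu
  have hp0 := prime_cnt (G := G) hp hpG
  have hq0 := prime_cnt (G := G) hq hqG
  have hp1 := ne_one (G := G) (odd_prime_data hp hp2)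
  have hq1 := ne_one (G := G) (odd_prime_data hq hq2)
  have h41 : cnt G 4 ≠ 1 := ne_one (by norm_num)
  have hcop4 : ∀ {r : ℕ}, r.Prime → r ≠ 2 → Nat.Coprime 4 r := fun {r} hr hr2 => by
    rw [show (4 : ℕ) = 2 ^ 2 by norm_num]
    exact ((Nat.coprime_primes Nat.prime_two hr).2 hr2.symm).pow_left 2
  have hdiv : ∀ {r : ℕ}, r.Prime → r ≠ 2 → 2 ∣ r - 1 := fun {r} hr hr2 => by
    obtain ⟨j, rfl⟩ := hr.odd_of_ne_two hr2
    simp
  have h8 : 4 ∣ cnt G (4 * p * q) := by
    refine dvd_trans ?_ (totient_dvd _)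
    rw [mul_assoc, Nat.totient_mul ((hcop4 hp hp2).mul_right (hcop4 hq hq2)), show Nat.totient 4 = 2 from by decide,
      Nat.totient_mul ((Nat.coprime_primes hp hq).2 hpq), Nat.totient_prime hp]
    exact Nat.mul_dvd_mul dvd_rfl ((hdiv hp hp2).mul_right _)
  haveI := Fact.mk hp
  haveI := Fact.mk hq
  have hn : ∀ {t : ℕ}, t ∣ 4 * p * q → t ∣ Nat.card G → ((∑ d ∈ (4 * p * q).divisors, cnt G d : ℕ) : ZMod t) = 0 :=
    fun {t} ht htG => frobenius_cast (mul_ne_zero (mul_ne_zero (by norm_num : (4 : ℕ) ≠ 0) hp.ne_zero) hq.ne_zero) ht htG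
  rcases eq_or_ne (cnt G p) (cnt G q) with hv | hv
  · -- all three in one value
    obtain ⟨hP0, hP1, hPv, hPm, hP4⟩ := same_pair hp hq hp2 hq2 hpq hpG hqG hv
    obtain ⟨-, -, -, hPm', -⟩ := same_pair hq hp hq2 hp2 hpq.symm hqG hpG hv.symm
    rw [mul_comm q p] at hPm'
    have h4v : cnt G 4 = cnt G p := (eq_or D h4 hp0.1 hP0 h41 hp1 hP1 hPv.symm).resolve_right fun h => by
      rw [h] at hm4; omega
    obtain ⟨hA0, hAm⟩ := four_data hp hp2 hpG hz hu h4v
    obtain ⟨hB0, hBm⟩ := four_data hq hq2 hqG hz hu (h4v.trans hv)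
    have hA : cnt G (4 * p) = cnt G (p * q) := (eq_or D hA0 hp0.1 hP0 (ne_one (by have := hp.two_le; omega)) hp1 hP1 hPv.symm).resolve_left
      fun h => cast_ne hp hp2 (by rw [h, hp0.2] at hAm; exact hAm.symm)
    have hB : cnt G (4 * q) = cnt G (p * q) := (eq_or D hB0 hp0.1 hP0 (ne_one (by have := hq.two_le; omega)) hp1 hP1 hPv.symm).resolve_left
      fun h => cast_ne hq hq2 (by rw [h, hv, hq0.2] at hBm; exact hBm.symm)
    have hT0 : cnt G (4 * p * q) ≠ 0 := fun h => by
      have h1 := dvd_cnt_of_no_product hq hqG ((hcop4 hq hq2).mul_left ((Nat.coprime_primes hp hq).2 hpq)) h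
      rw [hA] at h1
      rw [(ZMod.natCast_eq_zero_iff _ q).2 h1] at hPm'
      exact zero_ne_one hPm'
    have h1 := hn ((dvd_mul_left p 4).mul_right q) hpG
    rw [sum_four_pq hp hq hp2 hq2 hpq hz hu, h4v, hA, hB, ← hv] at h1
    push_cast at h1
    rw [hp0.2, hPm] at h1
    rcases eq_or D hT0 hp0.1 hP0 (ne_one (by nlinarith [hp.two_le, hq.two_le])) hp1 hP1 hPv.symm with h | h
    · rw [h] at h8; rw [← h4v] at h8; omega
    · rw [h, hPm] at h1
      exact cast_ne hp hp2 (by linear_combination h1)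
  · -- the element of order four follows one of the primes
    have key : ∀ p q : ℕ, p.Prime → q.Prime → p ≠ 2 → q ≠ 2 → p ≠ q → p ∣ Nat.card G → q ∣ Nat.card G →
        cnt G p ≠ cnt G q → cnt G 4 = cnt G p → False := by
      intro p q hp hq hp2 hq2 hpq hpG hqG hv h4v
      haveI := Fact.mk hp
      haveI := Fact.mk hq
      have hp0 := prime_cnt (G := G) hp hpG
      have hq0 := prime_cnt (G := G) hq hqG
      have hp1 := ne_one (G := G) (odd_prime_data hp hp2)
      have hq1 := ne_one (G := G) (odd_prime_data hq hq2)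
      obtain ⟨hA0, hAm⟩ := four_data hp hp2 hpG hz hu h4v
      have hA : cnt G (4 * p) = cnt G q := (eq_or D hA0 hp0.1 hq0.1 (ne_one (by have := hp.two_le; omega)) hp1 hq1 hv).resolve_left
        fun h => cast_ne hp hp2 (by rw [h, hp0.2] at hAm; exact hAm.symm)
      have hqp : ((cnt G q : ℕ) : ZMod p) = 1 := hA ▸ hAm
      have hT0 : cnt G (4 * p * q) ≠ 0 := fun h => by
        have h1 := dvd_cnt_of_no_product hq hqG ((hcop4 hq hq2).mul_left ((Nat.coprime_primes hp hq).2 hpq)) h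
        rw [hA] at h1
        have h2 := hq0.2
        rw [(ZMod.natCast_eq_zero_iff _ q).2 h1] at h2
        exact one_ne_zero (neg_eq_zero.1 h2.symm)
      obtain ⟨g, hg⟩ := exists_of_cnt hT0
      have hgP : orderOf (g ^ 4) = p * q := by
        rw [orderOf_pow' _ (by norm_num), hg, Nat.gcd_eq_right (Dvd.dvd.mul_right (dvd_mul_right 4 p) q),
          mul_assoc 4 p q, Nat.mul_div_cancel_left _ (by norm_num)]
      have hgQ : orderOf (g ^ p) = 4 * q := by
        rw [orderOf_pow' _ hp.ne_zero, hg, Nat.gcd_eq_right (Dvd.dvd.mul_right (dvd_mul_left p 4) q),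
          show 4 * p * q = 4 * q * p by ring, Nat.mul_div_cancel _ hp.pos]
      have hP : cnt G (p * q) = cnt G p := by
        refine (eq_or D (cnt_pos hgP).ne' hp0.1 hq0.1 (ne_one (by nlinarith [hp.two_le, hq.two_le])) hp1 hq1 hv).resolve_right
          fun h => cast_ne hp hp2 ?_
        have h1 := frobenius_cast (G := G) (mul_ne_zero hp.ne_zero hq.ne_zero) (dvd_mul_right p q) hpG
        rw [sum_two hp hq hpq, h] at h1
        push_cast at h1
        rw [hp0.2, hqp] at h1
        linear_combination h1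
      have h2 := frobenius_cast (G := G) (mul_ne_zero hp.ne_zero hq.ne_zero) (dvd_mul_left q p) hqG
      rw [sum_two hp hq hpq, hP] at h2
      push_cast at h2
      rw [hq0.2] at h2
      have hv0 : ((cnt G p : ℕ) : ZMod q) = 0 := by
        have h3 : (2 : ZMod q) * ((cnt G p : ℕ) : ZMod q) = 0 := by linear_combination h2
        rcases mul_eq_zero.1 h3 with h | h
        · exact absurd ((Nat.prime_dvd_prime_iff_eq hq Nat.prime_two).1
            ((ZMod.natCast_eq_zero_iff 2 q).1 (by exact_mod_cast h))) hq2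
        · exact h
      have hQ : cnt G (4 * q) = cnt G p := by
        refine (eq_or D (cnt_pos hgQ).ne' hp0.1 hq0.1 (ne_one (by have := hq.two_le; omega)) hp1 hq1 hv).resolve_right fun h => ?_
        have h1 := frobenius_cast (G := G) (mul_ne_zero (by norm_num : (4 : ℕ) ≠ 0) hq.ne_zero) (dvd_mul_left q 4) hqG
        rw [sum_divisors_mul_prime _ (by norm_num : (4 : ℕ) ≠ 0) hq (fun h => by
          rw [show (4 : ℕ) = 2 ^ 2 by norm_num] at h
          exact hq2 ((Nat.prime_dvd_prime_iff_eq hq Nat.prime_two).1 (hq.dvd_of_dvd_pow h))),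
          show Nat.divisors 4 = {1, 2, 4} from by decide] at h1
        simp only [Finset.sum_insert, Finset.mem_insert, Finset.mem_singleton, OfNat.one_ne_ofNat, or_self, not_false_eq_true,
          Finset.sum_singleton, show (2 : ℕ) ≠ 4 by norm_num, cnt_one, one_mul, hu,
          cnt_two_mul hz hu (hq.odd_of_ne_two hq2), h4v, h] at h1
        push_cast at h1
        rw [hq0.2, hv0] at h1
        exact one_ne_zero (α := ZMod q) (by linear_combination -h1)
      have h1 := frobenius_cast (G := G) (mul_ne_zero (mul_ne_zero (by norm_num : (4 : ℕ) ≠ 0) hp.ne_zero) hq.ne_zero)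
        (dvd_mul_left q (4 * p)) hqG
      rw [sum_four_pq hp hq hp2 hq2 hpq hz hu, h4v, hA, hQ, hP] at h1
      push_cast at h1
      rw [hq0.2, hv0] at h1
      rcases eq_or D hT0 hp0.1 hq0.1 (ne_one (by nlinarith [hp.two_le, hq.two_le])) hp1 hq1 hv with h | h
      · rw [h, hv0] at h1
        exact one_ne_zero (α := ZMod q) (by linear_combination -h1)
      · rw [h, hq0.2] at h1
        exact cast_ne hq hq2 (by linear_combination -h1)
    rcases eq_or D h4 hp0.1 hq0.1 h41 hp1 hq1 hv with h | h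
    · exact key p q hp hq hp2 hq2 hpq hpG hqG hv h
    · exact key q p hq hp hq2 hp2 hpq.symm hqG hpG hv.symm h

include D in
/-- an odd part with all primes of one value -/
theorem odd_part {p q : ℕ} (hp : p.Prime) (hq : q.Prime) (hp2 : p ≠ 2) (hq2 : q ≠ 2) (hpq : p ≠ q)
    (hpG : p ∣ Nat.card G) (hqG : q ∣ Nat.card G)
    (hall : ∀ r : ℕ, r.Prime → r ≠ 2 → r ∣ Nat.card G → cnt G r = cnt G p)
    (n : ℕ) (hn : n ∣ Nat.card G) (hnodd : Odd n) : n ∣ cnt G (p * q) - 1 := by
  obtain ⟨hP0, hP1, hPv, -, -⟩ := same_pair hp hq hp2 hq2 hpq hpG hqG (hall q hq hq2 hqG).symm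
  have hp0 := prime_cnt (G := G) hp hpG
  have hp1 := ne_one (G := G) (odd_prime_data hp hp2)
  -- no elements of order a square
  have hsq : ∀ r : ℕ, r.Prime → r ≠ 2 → r ∣ Nat.card G → cnt G (r ^ 2) = 0 := by
    intro r hr hr2 hrG
    haveI := Fact.mk hr
    by_contra hne
    have hd : r ∣ cnt G (r ^ 2) := by
      refine dvd_trans ?_ (totient_dvd _)
      rw [Nat.totient_prime_pow hr two_pos, show (2 - 1 : ℕ) = 1 from rfl, pow_one]
      exact dvd_mul_right _ _
    obtain ⟨s, hs, hs2, hsr, hsG⟩ : ∃ s, s.Prime ∧ s ≠ 2 ∧ r ≠ s ∧ s ∣ Nat.card G := by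
      by_cases h : r = p
      · exact ⟨q, hq, hq2, h ▸ hpq, hqG⟩
      · exact ⟨p, hp, hp2, h, hpG⟩
    obtain ⟨hS0, hS1, hSv, hSm, -⟩ := same_pair hr hs hr2 hs2 hsr hrG hsG ((hall r hr hr2 hrG).trans (hall s hs hs2 hsG).symm)
    have hr0 := prime_cnt (G := G) hr hrG
    have h0 := (ZMod.natCast_eq_zero_iff _ r).2 hd
    rcases eq_or D hne hr0.1 hS0 (ne_one (by nlinarith [hr.two_le])) (ne_one (odd_prime_data hr hr2)) hS1 hSv.symm with h | h
    · rw [h, hr0.2] at h0; exact one_ne_zero (neg_eq_zero.1 h0)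
    · rw [h, hSm] at h0; exact one_ne_zero h0
  have hlow : ∀ r : ℕ, r.Prime → r ≠ 2 → r ∣ Nat.card G → ∀ i, cnt G i ≠ 0 → ∀ k, r ^ k ∣ i → k ≤ 1 := by
    intro r hr hr2 hrG i hi k hk
    by_contra hk2
    obtain ⟨g, hg⟩ := exists_of_cnt hi
    have h2 : r ^ 2 ∣ orderOf g := hg ▸ (pow_dvd_pow r (by omega : 2 ≤ k)).trans hk
    obtain ⟨c, hc⟩ := h2
    have hg0 : orderOf g ≠ 0 := (orderOf_pos g).ne'
    have hc0 : c ≠ 0 := by rintro rfl; exact hg0 (by simpa using hc)
    have : orderOf (g ^ c) = r ^ 2 := by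
      rw [orderOf_pow' _ hc0, hc, Nat.gcd_mul_left_left, Nat.mul_div_cancel _ (Nat.pos_of_ne_zero hc0)]
    exact (cnt_pos this).ne' (hsq r hr hr2 hrG)
  refine (Nat.dvd_iff_prime_pow_dvd_dvd (cnt G (p * q) - 1) n).2 fun r k hr hk => ?_
  rcases Nat.eq_zero_or_pos k with rfl | hk0
  · simp
  have hrn : r ∣ n := (dvd_pow_self r hk0.ne').trans hk
  have hr2 : r ≠ 2 := fun h => hnodd.not_two_dvd_nat (h ▸ hrn)
  have hrG : r ∣ Nat.card G := hrn.trans hn
  obtain ⟨s, hs, hs2, hrs, hsG⟩ : ∃ s, s.Prime ∧ s ≠ 2 ∧ r ≠ s ∧ s ∣ Nat.card G := by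
    by_cases h : r = p
    · exact ⟨q, hq, hq2, h ▸ hpq, hqG⟩
    · exact ⟨p, hp, hp2, h, hpG⟩
  haveI := Fact.mk hr
  haveI := Fact.mk hs
  obtain ⟨hS0, hS1, hSv, -, -⟩ := same_pair hr hs hr2 hs2 hrs hrG hsG ((hall r hr hr2 hrG).trans (hall s hs hs2 hsG).symm)
  have hSw : cnt G (r * s) = cnt G (p * q) := (eq_or D hS0 hp0.1 hP0 hS1 hp1 hP1 hPv.symm).resolve_left
    fun h => hSv (h.trans (hall r hr hr2 hrG).symm)
  have hrk : r ^ k ∣ Nat.card G := hk.trans hn
  have h1 := frobenius_sum (G := G) (pow_ne_zero k hr.ne_zero) dvd_rfl hrk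
  rw [← Finset.sum_subset (s₁ := ({1, r} : Finset ℕ)) (fun d hd => by
      simp only [Finset.mem_insert, Finset.mem_singleton] at hd
      rw [Nat.mem_divisors]
      rcases hd with rfl | rfl
      · exact ⟨one_dvd _, pow_ne_zero k hr.ne_zero⟩
      · exact ⟨dvd_pow_self _ hk0.ne', pow_ne_zero k hr.ne_zero⟩)
    (fun d hd hd' => by
      by_contra hne
      obtain ⟨i, hi, rfl⟩ := (Nat.dvd_prime_pow hr).1 (Nat.mem_divisors.1 hd).1
      have := hlow r hr hr2 hrG _ hne i dvd_rfl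
      interval_cases i <;> simp at hd'), Finset.sum_pair hr.one_lt.ne, cnt_one] at h1
  have h2 := frobenius_sum (G := G) (n := r ^ k * s) (mul_ne_zero (pow_ne_zero k hr.ne_zero) hs.ne_zero)
    (t := r ^ k) (dvd_mul_right _ _) hrk
  rw [← Finset.sum_subset (s₁ := (r * s).divisors)
      (Nat.divisors_subset_of_dvd (mul_ne_zero (pow_ne_zero k hr.ne_zero) hs.ne_zero)
        (Nat.mul_dvd_mul_right (dvd_pow_self r hk0.ne') s))
    (fun d hd hd' => by
      by_contra hne
      obtain ⟨d1, d2, hd1, hd2, rfl⟩ := Nat.dvd_mul.1 (Nat.mem_divisors.1 hd).1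
      obtain ⟨i, hi, rfl⟩ := (Nat.dvd_prime_pow hr).1 hd1
      have := hlow r hr hr2 hrG _ hne i (dvd_mul_right _ _)
      refine hd' (Nat.mem_divisors.2 ⟨Nat.mul_dvd_mul ?_ hd2, mul_ne_zero hr.ne_zero hs.ne_zero⟩)
      interval_cases i <;> simp), sum_two hr hs hrs, hSw, hall r hr hr2 hrG, hall s hs hs2 hsG] at h2
  rw [hall r hr hr2 hrG] at h1
  have hw : 1 ≤ cnt G (p * q) := Nat.one_le_iff_ne_zero.2 hP0
  have h3 : (r ^ k : ℕ) ∣ 1 + cnt G p + cnt G p + 0 + (cnt G (p * q) - 1) + 1 := by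
    convert h2 using 1; omega
  have h4 : r ^ k ∣ (1 + cnt G p) + (1 + cnt G p) := Nat.dvd_add h1 h1
  have h5 : 1 + cnt G p + cnt G p + 0 + (cnt G (p * q) - 1) + 1 = ((1 + cnt G p) + (1 + cnt G p)) + (cnt G (p * q) - 1) := by ring
  rw [h5] at h3
  exact (Nat.dvd_add_right h4).1 h3

include D in
theorem solvable_of_data : Group.IsSolvable G := by
  classical
  set O := (Nat.card G).primeFactors.erase 2 with hO
  have hOmem : ∀ r : ℕ, r.Prime → r ≠ 2 → r ∣ Nat.card G → r ∈ O := fun r hr hr2 hrG =>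
    Finset.mem_erase.2 ⟨hr2, Nat.mem_primeFactors.2 ⟨hr, hrG, Nat.card_pos.ne'⟩⟩
  have hburn : ∀ (a b : ℕ), a.Prime → b.Prime → (Nat.card G).primeFactors ⊆ {a, b} → Group.IsSolvable G := by
    intro a b ha hb hsub
    refine Cfsg.Lib.Chars.burnside_isSolvable a b ha hb G ?_
    rcases eq_or_ne a b with rfl | hab
    · refine ⟨(Nat.card G).factorization a, 0, ?_⟩
      conv_lhs => rw [← Nat.prod_factorization_pow_eq_self (Nat.card_pos (α := G)).ne']
      rw [Finsupp.prod_of_support_subset _ (s := {a}) (by rw [Nat.support_factorization]; simpa using hsub) _ (by simp)]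
      simp
    · refine ⟨(Nat.card G).factorization a, (Nat.card G).factorization b, ?_⟩
      conv_lhs => rw [← Nat.prod_factorization_pow_eq_self (Nat.card_pos (α := G)).ne']
      rw [Finsupp.prod_of_support_subset _ (s := {a, b}) (by rw [Nat.support_factorization]; exact hsub) _ (by simp),
        Finset.prod_pair hab]
  by_cases hone : ∃ p, p.Prime ∧ ∀ r ∈ O, r = p
  · obtain ⟨p, hp, hall⟩ := hone
    refine hburn 2 p Nat.prime_two hp fun r hr => ?_
    by_cases hr2 : r = 2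
    · simp [hr2]
    · simp [hall r (Finset.mem_erase.2 ⟨hr2, hr⟩)]
  push Not at hone
  obtain ⟨p, hpO, -⟩ := hone 2 Nat.prime_two
  obtain ⟨hp2, hp'⟩ := Finset.mem_erase.1 hpO
  obtain ⟨hp, hpG, -⟩ := Nat.mem_primeFactors.1 hp'
  obtain ⟨q, hqO, hqp⟩ := hone p hp
  obtain ⟨hq2, hq'⟩ := Finset.mem_erase.1 hqO
  obtain ⟨hq, hqG, -⟩ := Nat.mem_primeFactors.1 hq'
  have hp0 := prime_cnt (G := G) hp hpG
  have hq0 := prime_cnt (G := G) hq hqG
  have hp1 := ne_one (G := G) (odd_prime_data hp hp2)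
  have hq1 := ne_one (G := G) (odd_prime_data hq hq2)
  haveI := Fact.mk Nat.prime_two
  -- at most one involution
  have hu : 2 ∣ Nat.card G → cnt G 2 = 1 := by
    intro h2
    have h20 := prime_cnt (G := G) Nat.prime_two h2
    by_contra hne
    have hodd : ¬ 2 ∣ cnt G 2 := fun h => by
      have := h20.2
      rw [(ZMod.natCast_eq_zero_iff _ 2).2 h] at this
      exact absurd this (by decide)
    have heven : ∀ m, 3 ≤ m → cnt G m ≠ cnt G 2 := fun m hm h =>
      hodd (h ▸ (even_iff_two_dvd.1 (Nat.totient_even hm)).trans (totient_dvd m))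
    rcases eq_or_ne (cnt G p) (cnt G q) with hv | hv
    · obtain ⟨hP0, hP1, hPv, -, -⟩ := same_pair hp hq hp2 hq2 hqp.symm hpG hqG hv
      rcases D.pig 2 p (p * q) h20.1 hp0.1 hP0 hne hp1 hP1 with h | h | h
      · exact heven p (odd_prime_data hp hp2) h.symm
      · exact heven (p * q) (by nlinarith [hp.two_le, hq.two_le]) h.symm
      · exact hPv h.symm
    · rcases D.pig 2 p q h20.1 hp0.1 hq0.1 hne hp1 hq1 with h | h | h
      · exact heven p (odd_prime_data hp hp2) h.symm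
      · exact heven q (odd_prime_data hq hq2) h.symm
      · exact hv h
  -- two-part at most two
  have h4 : ¬ 4 ∣ Nat.card G := by
    intro h4
    have h2 : 2 ∣ Nat.card G := dvd_trans (by norm_num) h4
    obtain ⟨z, hz⟩ := exists_prime_orderOf_dvd_card' 2 h2
    by_cases hex : cnt G 4 = 0
    · obtain ⟨P⟩ : Nonempty (Sylow 2 G) := inferInstance
      have hPc : 4 ∣ Nat.card P := by
        have := (Sylow.card_eq_multiplicity P).symm ▸ pow_dvd_pow 2
          (((Nat.prime_two.pow_dvd_iff_le_factorization Nat.card_pos.ne').1 (show 2 ^ 2 ∣ Nat.card G from h4)))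
        exact this
      haveI := Fintype.ofFinite (P : Subgroup G)
      haveI hsub : Subsingleton {g : G // orderOf g = 2} := (Nat.card_eq_one_iff_unique.1 (hu h2)).1
      have hle : ∀ g : P, g = 1 ∨ (g : G) = z := by
        intro g
        obtain ⟨j, hj⟩ := IsPGroup.iff_orderOf.1 P.2 g
        rw [← Subgroup.orderOf_coe] at hj
        rcases Nat.lt_or_ge j 2 with hj2 | hj2
        · interval_cases j
          · exact Or.inl (Subtype.ext (orderOf_eq_one_iff.1 (by simpa using hj)))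
          · exact Or.inr (congrArg Subtype.val (Subsingleton.elim (⟨_, by simpa using hj⟩ : {g : G // orderOf g = 2}) ⟨z, hz⟩))
        · exfalso
          have : orderOf ((g : G) ^ 2 ^ (j - 2)) = 4 := by
            rw [orderOf_pow' _ (by positivity), hj, Nat.gcd_eq_right (pow_dvd_pow 2 (Nat.sub_le j 2)),
              Nat.pow_div (Nat.sub_le j 2) two_pos, show j - (j - 2) = 2 by omega]
            norm_num
          exact (cnt_pos this).ne' hex
      have hc2 : Nat.card P ≤ 2 := by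
        rw [Nat.card_eq_fintype_card, ← Finset.card_univ]
        refine (Finset.card_le_card_of_injOn (fun g : P => (g : G)) (t := ({1, z} : Finset G)) (fun g _ => ?_)
          (fun a _ b _ h => Subtype.ext h)).trans Finset.card_le_two
        rcases hle g with h | h <;> simp [h]
      have := Nat.le_of_dvd Nat.card_pos hPc
      omega
    · exact no_four D hp hq hp2 hq2 hqp.symm hpG hqG hz (hu h2) hex
  by_cases hall : ∀ r : ℕ, r.Prime → r ≠ 2 → r ∣ Nat.card G → cnt G r = cnt G p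
  · -- one value: impossible
    exfalso
    obtain ⟨hP0, hP1, -, -, -⟩ := same_pair hp hq hp2 hq2 hqp.symm hpG hqG (hall q hq hq2 hqG).symm
    by_cases h2 : 2 ∣ Nat.card G
    · obtain ⟨n, hn⟩ := h2
      have hnodd : Odd n := by
        rw [← Nat.not_even_iff_odd, even_iff_two_dvd]
        exact fun h => h4 (hn ▸ (show 4 ∣ 2 * n from Nat.mul_dvd_mul_left 2 h))
      have hd := odd_part D hp hq hp2 hq2 hqp.symm hpG hqG hall n (hn ▸ dvd_mul_left n 2) hnodd
      obtain ⟨z, hz⟩ := exists_prime_orderOf_dvd_card' 2 ⟨n, hn⟩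
      have he := cnt_two_mul hz (hu ⟨n, hn⟩) ((hp.odd_of_ne_two hp2).mul (hq.odd_of_ne_two hq2))
      haveI := Fintype.ofFinite G
      have hsum : cnt G (2 * (p * q)) + cnt G (p * q) + 1 ≤ Nat.card G := by
        rw [← cnt_one (G := G)]
        simp only [cnt, Nat.card_eq_fintype_card, Fintype.card_subtype]
        rw [← Finset.card_union_of_disjoint, ← Finset.card_union_of_disjoint]
        · exact Finset.card_le_univ _
        · rw [Finset.disjoint_union_left]
          constructor <;> refine Finset.disjoint_filter.2 fun g _ h1 h2 => ?_ <;> rw [h2] at h1 <;>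
            nlinarith [hp.two_le, hq.two_le, Nat.mul_le_mul hp.two_le hq.two_le]
        · exact Finset.disjoint_filter.2 fun g _ h1 h2 => by
            rw [h1] at h2; nlinarith [hp.two_le, hq.two_le, Nat.mul_le_mul hp.two_le hq.two_le]
      have := Nat.le_of_dvd (by omega) hd
      omega
    · have hnodd : Odd (Nat.card G) := by rwa [← Nat.not_even_iff_odd, even_iff_two_dvd]
      have hd := odd_part D hp hq hp2 hq2 hqp.symm hpG hqG hall _ dvd_rfl hnodd
      haveI := Fintype.ofFinite G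
      have : cnt G (p * q) ≤ Nat.card G := Nat.card_le_card_of_injective _ Subtype.val_injective
      have := Nat.le_of_dvd (by omega) hd
      omega
  push Not at hall
  obtain ⟨r, hr, hr2, hrG, hrv⟩ := hall
  -- exactly two odd primes
  have honly : ∀ s : ℕ, s.Prime → s ≠ 2 → s ∣ Nat.card G → s = p ∨ s = r := by
    intro s hs hs2 hsG
    by_contra hne
    push Not at hne
    rcases eq_or D (prime_cnt hs hsG).1 hp0.1 (prime_cnt hr hrG).1 (ne_one (odd_prime_data hs hs2)) hp1
      (ne_one (odd_prime_data hr hr2)) hrv.symm with h | h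
    · exact not_three D hs hp hr hs2 hp2 hr2 hne.1 hsG hpG hrG h (by rw [h]; exact hrv)
    · exact not_three D hs hr hp hs2 hr2 hp2 hne.2 hsG hrG hpG h (by rw [h]; exact hrv.symm)
  by_cases h2 : 2 ∣ Nat.card G
  · obtain ⟨P⟩ : Nonempty (Sylow 2 G) := inferInstance
    have hPc : Nat.card P = 2 := by
      rw [P.card_eq_multiplicity]
      have h1 : (Nat.card G).factorization 2 = 1 := by
        have ha := (Nat.prime_two.dvd_iff_one_le_factorization Nat.card_pos.ne').1 h2
        have hb : ¬ 2 ≤ (Nat.card G).factorization 2 := fun h =>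
          h4 ((Nat.prime_two.pow_dvd_iff_le_factorization Nat.card_pos.ne').2 h)
        omega
      rw [h1, pow_one]
    have hcomp := IsCyclic.isComplement' (G := G) (p := 2) ((Nat.minFac_eq_two_iff _).2 h2) (P := P)
      (isCyclic_of_prime_card hPc)
    set K := (MonoidHom.transferSylow P _).ker
    have hKc : Nat.card K * 2 = Nat.card G := hPc ▸ hcomp.card_mul
    have hK2 : ¬ 2 ∣ Nat.card K := fun h => h4 (hKc ▸ (show 2 * 2 ∣ Nat.card K * 2 from Nat.mul_dvd_mul_right h 2))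
    haveI : Group.IsSolvable K := by
      refine Cfsg.Lib.Chars.burnside_isSolvable p r hp hr K ⟨(Nat.card K).factorization p, (Nat.card K).factorization r, ?_⟩
      have hpr : p ≠ r := fun h => hrv (by rw [h])
      conv_lhs => rw [← Nat.prod_factorization_pow_eq_self (Nat.card_pos (α := K)).ne']
      rw [Finsupp.prod_of_support_subset _ (s := {p, r}) (by
        rw [Nat.support_factorization]
        intro s hs
        obtain ⟨hs, hsK, -⟩ := Nat.mem_primeFactors.1 hs
        have := honly s hs (fun h => hK2 (h ▸ hsK)) (hsK.trans K.card_subgroup_dvd_card)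
        simpa using this) _ (by simp), Finset.prod_pair hpr]
    have hidx : Nat.card (G ⧸ K) = 2 := by
      rw [← Subgroup.index_eq_card]
      exact Nat.eq_of_mul_eq_mul_left (Nat.card_pos (α := K)) (by rw [K.card_mul_index, hKc])
    haveI : IsCyclic (G ⧸ K) := isCyclic_of_prime_card hidx
    letI := IsCyclic.commGroup (α := G ⧸ K)
    haveI : Group.IsSolvable (G ⧸ K) := inferInstance
    exact Group.isSolvable_of_ker_le_range K.subtype (QuotientGroup.mk' K) (by simp)
  · refine hburn p r hp hr fun s hs => ?_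
    obtain ⟨hs, hsG, -⟩ := Nat.mem_primeFactors.1 hs
    have := honly s hs (fun h => h2 (h ▸ hsG)) hsG
    simpa using this

end main

/-- A finite group in which the numbers of elements of each order that occurs (the numbers #{g : o(g) = m}, m ranging over the element orders) take exactly three different values is solvable. -/
theorem result {G : Type*} [Group G] [Finite G] (h : (((fun m : ℕ => Nat.card {g : G // orderOf g = m}) '' Set.range (orderOf : G → ℕ))).ncard = 3) : Group.IsSolvable G := by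
  classical
  refine solvable_of_data ⟨fun x y z hx hy hz hx1 hy1 hz1 => ?_⟩
  set V := (fun m : ℕ => Nat.card {g : G // orderOf g = m}) '' Set.range (orderOf : G → ℕ) with hV
  have hmem : ∀ m, cnt G m ≠ 0 → cnt G m ∈ V := fun m hm => by
    obtain ⟨g, hg⟩ := exists_of_cnt hm
    exact ⟨m, ⟨g, hg⟩, rfl⟩
  by_contra hne
  push Not at hne
  obtain ⟨hxy, hxz, hyz⟩ := hne
  have hsub : ({1, cnt G x, cnt G y, cnt G z} : Finset ℕ) ⊆ (Set.Finite.image (fun m : ℕ => Nat.card {g : G // orderOf g = m}) (Set.finite_range (orderOf : G → ℕ))).toFinset := by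
    intro w hw
    rw [Set.Finite.mem_toFinset]
    simp only [Finset.mem_insert, Finset.mem_singleton] at hw
    rcases hw with rfl | rfl | rfl | rfl
    · exact cnt_one (G := G) ▸ hmem 1 (by rw [cnt_one]; exact one_ne_zero)
    · exact hmem x hx
    · exact hmem y hy
    · exact hmem z hz
  have h1 := Finset.card_le_card hsub
  rw [← Set.ncard_eq_toFinset_card _ (Set.Finite.image (fun m : ℕ => Nat.card {g : G // orderOf g = m}) (Set.finite_range (orderOf : G → ℕ)))] at h1
  change _ ≤ V.ncard at h1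
  rw [h] at h1
  have h4 : ({1, cnt G x, cnt G y, cnt G z} : Finset ℕ).card = 4 := by
    rw [Finset.card_insert_of_notMem, Finset.card_insert_of_notMem, Finset.card_pair hyz]
    · simp [hxy, hxz]
    · simp [hx1.symm, hy1.symm, hz1.symm]
  omega

end Cfsg.Agent.S3996
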