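import Cfsg.Statements.S3998
import Cfsg.Agent.OrderType.Basic
import Cfsg.Agent.Supersolvable.Tower
import Mathlib.GroupTheory.Nilpotent
import Mathlib.Data.Nat.Factorization.Basic

set_option autoImplicit false
open Cfsg

namespace Cfsg.Agent.S3998

/-- Let G and H be finite groups with the same order type (for every m the same number of elements of order m). If G is supersolvable then H is solvable. -/
theorem result {G H : Type*} [Group G] [Finite G] [Group H] [Finite H] (hT : (∀ m : ℕ, Nat.card {g : G // orderOf g = m} = Nat.card {h : H // orderOf h = m})) (hG : Cfsg.IsSupersolvable G) :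
    Group.IsSolvable H := by
  have hcard := Cfsg.Lib.OrderType.card_eq hT
  have hfac : ∀ (t r : ℕ) (N : Subgroup G), r.Prime → (∀ q : ℕ, q.Prime → q ∣ Nat.card N → t ≤ q) →
      (∀ q : ℕ, q.Prime → q ∣ N.index → q < t) →
      (Nat.card N).factorization r = if t ≤ r then (Nat.card G).factorization r else 0 := by
    intro t r N hr h1 h2
    split
    · next htr =>
      rw [← N.card_mul_index, Nat.factorization_mul Nat.card_pos.ne' N.index_ne_zero_of_finite,
        Finsupp.add_apply, Nat.factorization_eq_zero_of_not_dvd (fun h => absurd (h2 r hr h) (by omega)),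
        add_zero]
    · next htr => exact Nat.factorization_eq_zero_of_not_dvd fun h => htr (h1 r hr h)
  suffices h : ∀ (j t : ℕ), t + j = Nat.card G + 1 → ∃ (N : Subgroup G) (K : Subgroup H), N.Normal ∧
      (∀ q : ℕ, q.Prime → q ∣ Nat.card N → t ≤ q) ∧ (∀ q : ℕ, q.Prime → q ∣ N.index → q < t) ∧
      Nat.card K = Nat.card N ∧ Group.IsSolvable K by
    obtain ⟨N, K, -, -, h2, hK, hs⟩ := h (Nat.card G + 1) 0 (by simp)
    have hi : N.index = 1 := by
      by_contra hne
      obtain ⟨q, hq, hd⟩ := Nat.exists_prime_and_dvd hne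
      exact absurd (h2 q hq hd) (by omega)
    have hKt : K = ⊤ := Subgroup.eq_top_of_card_eq K (by
      rw [hK, ← hcard, ← N.card_mul_index, hi, mul_one])
    subst hKt
    haveI := hs
    exact Group.isSolvable_of_surjective (f := (Subgroup.topEquiv : (⊤ : Subgroup H) ≃* H).toMonoidHom)
      (Subgroup.topEquiv : (⊤ : Subgroup H) ≃* H).surjective
  intro j
  induction j with
  | zero =>
    intro t ht
    refine ⟨⊥, ⊥, inferInstance, fun q hq hd => ?_, fun q hq hd => ?_, by simp, inferInstance⟩
    · rw [Subgroup.card_bot] at hd; exact absurd hd hq.not_dvd_one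
    · rw [Subgroup.index_bot] at hd
      have := Nat.le_of_dvd Nat.card_pos hd
      omega
  | succ j ih =>
    intro t ht
    obtain ⟨N', K', hN'n, h1', h2', hK', hs'⟩ := ih (t + 1) (by omega)
    by_cases htp : t.Prime
    swap
    · exact ⟨N', K', hN'n, fun q hq hd => (Nat.le_succ t).trans (h1' q hq hd), fun q hq hd =>
        lt_of_le_of_ne (Nat.lt_succ_iff.mp (h2' q hq hd)) (fun h => htp (h ▸ hq)), hK', hs'⟩
    obtain ⟨N, hNn, h1, h2⟩ := Cfsg.Lib.Supersolvable.exists_normal_hall_ge hG t
    haveI := Fact.mk htp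
    haveI := hN'n
    haveI := hNn
    haveI hK'n : K'.Normal := Cfsg.Lib.OrderType.normal_of_same_orderType hT N'
      (Nat.coprime_of_dvd fun q hq a b => absurd (h2' q hq b) (not_lt.mpr (h1' q hq a))) K' hK'
    obtain ⟨Q⟩ : Nonempty (Sylow t H) := inferInstance
    have hinf : K' ⊓ (Q : Subgroup H) = ⊥ := by
      refine Cfsg.Lib.Coprime.inf_eq_bot_of_coprime ?_
      rw [Q.card_eq_multiplicity, hK']
      exact ((htp.coprime_iff_not_dvd.mpr fun h => absurd (h1' t htp h) (by omega)).pow_left _).symm
    have hc := Cfsg.Lib.Coprime.card_sup_of_inf_eq_bot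
      (Subgroup.le_normalizer_of_normal (H := K') (K := (Q : Subgroup H))) hinf
    have hcN : Nat.card ↥(K' ⊔ (Q : Subgroup H)) = Nat.card N := by
      rw [hc, hK', Q.card_eq_multiplicity, ← hcard]
      refine Nat.eq_of_factorization_eq (mul_ne_zero Nat.card_pos.ne' (pow_ne_zero _ htp.ne_zero))
        Nat.card_pos.ne' fun r => ?_
      by_cases hr : r.Prime
      swap
      · simp [Nat.factorization_eq_zero_of_not_prime _ hr]
      rw [Nat.factorization_mul Nat.card_pos.ne' (pow_ne_zero _ htp.ne_zero), Finsupp.add_apply,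
        htp.factorization_pow, hfac (t + 1) r N' hr h1' h2', hfac t r N hr h1 h2, Finsupp.single_apply]
      rcases lt_trichotomy t r with h | h | h
      · rw [if_pos (by omega), if_neg (by omega), if_pos (by omega), add_zero]
      · subst h; rw [if_neg (by omega), if_pos rfl, if_pos le_rfl, zero_add]
      · simp [show ¬ t ≤ r by omega, show ¬ t + 1 ≤ r by omega, show t ≠ r by omega]
    refine ⟨N, _, hNn, h1, h2, hcN, ?_⟩
    haveI := hs'
    haveI : (K'.subgroupOf (K' ⊔ (Q : Subgroup H))).Normal := inferInstance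
    haveI : Group.IsSolvable (K'.subgroupOf (K' ⊔ (Q : Subgroup H))) :=
      Group.isSolvable_of_isSolvable_injective (f := (Subgroup.subgroupOfEquivOfLe
        (le_sup_left : K' ≤ K' ⊔ (Q : Subgroup H))).toMonoidHom) (Subgroup.subgroupOfEquivOfLe _).injective
    haveI : Group.IsSolvable (↥(K' ⊔ (Q : Subgroup H)) ⧸ K'.subgroupOf (K' ⊔ (Q : Subgroup H))) := by
      have hp : IsPGroup t (↥(K' ⊔ (Q : Subgroup H)) ⧸ K'.subgroupOf (K' ⊔ (Q : Subgroup H))) :=
        IsPGroup.of_card (n := (Nat.card H).factorization t) (by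
          rw [← Subgroup.index_eq_card, ← Subgroup.relIndex, Subgroup.relIndex_sup_left,
            ← Subgroup.inf_relIndex_right, hinf, Subgroup.relIndex_bot_left, Q.card_eq_multiplicity])
      haveI := hp.isNilpotent
      infer_instance
    exact Group.isSolvable_of_ker_le_range (Subgroup.subtype (K'.subgroupOf (K' ⊔ (Q : Subgroup H))))
      (QuotientGroup.mk' (K'.subgroupOf (K' ⊔ (Q : Subgroup H)))) (by simp)

end Cfsg.Agent.S3998
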