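import Cfsg.Statements.S4001
import Mathlib
import Cfsg.Agent.Frobenius.Kernel
import Cfsg.Agent.Frobenius.FpfGroups
import Cfsg.Agent.Coprime.FrobeniusFixed
import Cfsg.Agent.SolvStruct.NilpotentHall

set_option autoImplicit false
open Cfsg

namespace Cfsg.Agent.S4001

set_option linter.style.haveILetI false
set_option linter.unusedSectionVars false

open Subgroup Cfsg.Lib.Coprime Cfsg.Lib.Frobenius

theorem isComplement_kernel {G : Type*} [Group G] [Finite G] {C N : Subgroup G}
    (hC : IsFrobeniusComplement C) (hN : (N : Set G) = frobeniusKernel C) : N.IsComplement' C := by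
  refine isComplement'_of_card_mul_and_disjoint ?_ (disjoint_def.mpr fun {x} hx hxC => ?_)
  · rw [show Nat.card N = C.index from ?_, C.index_mul_card]
    rw [← card_kernel hC, ← hN]; rfl
  · refine eq_one_of_mem_kernel (H := C) (g := 1) ?_ (by rwa [conjMap_one])
    rw [← hN]; exact hx

theorem exists_conjMap_of_not_mem {G : Type*} [Group G] {C N : Subgroup G}
    (hN : (N : Set G) = frobeniusKernel C) {x : G} (hx : x ∉ N) : x ≠ 1 ∧ ∃ g, x ∈ conjMap g C := by
  have h : x ∉ frobeniusKernel C := by rw [← hN]; exact hx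
  rw [mem_kernel_iff] at h
  push Not at h
  exact h

/-- an element of the kernel commuting with an element outside it is trivial -/
theorem eq_one_of_commute_outside {G : Type*} [Group G] {C N : Subgroup G}
    (hC : IsFrobeniusComplement C) (hN : (N : Set G) = frobeniusKernel C) {x y : G} (hx : x ∈ N)
    (hy : y ∉ N) (hc : x * y = y * x) : x = 1 := by
  obtain ⟨hy1, g, hg⟩ := exists_conjMap_of_not_mem hN hy
  refine eq_one_of_mem_kernel (H := C) (g := g) (by rw [← hN]; exact hx) (mem_conjMap.mpr ?_)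
  refine mem_of_commute hC (mem_conjMap.mp hg) (fun h => hy1 ?_) ?_
  · have := congrArg (fun z => g * z * g⁻¹) h
    simpa [mul_assoc] using this
  · rw [show g⁻¹ * x * g * (g⁻¹ * y * g) = g⁻¹ * (x * y) * g by group, hc]; group

theorem exists_order_mul {G : Type*} [Group G] {p q : ℕ} (hp : p.Prime) (hq : q.Prime) (hne : p ≠ q)
    {x y : G} (hx : orderOf x = p) (hy : orderOf y = q) (hc : Commute x y) :
    ∃ g : G, orderOf g = p * q :=
  ⟨x * y, by
    rw [hc.orderOf_mul_eq_mul_orderOf_of_coprime (by rw [hx, hy]; exact (Nat.coprime_primes hp hq).mpr hne),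
      hx, hy]⟩

theorem exists_order_mul_of_cyclic {G : Type*} [Group G] [Finite G] [IsCyclic G] {p q : ℕ}
    (hp : p.Prime) (hq : q.Prime) (hne : p ≠ q) (hpG : p ∣ Nat.card G) (hqG : q ∣ Nat.card G) :
    ∃ g : G, orderOf g = p * q := by
  haveI := Fact.mk hp; haveI := Fact.mk hq
  obtain ⟨x, hx⟩ := exists_prime_orderOf_dvd_card' (G := G) p hpG
  obtain ⟨y, hy⟩ := exists_prime_orderOf_dvd_card' (G := G) q hqG
  letI := IsCyclic.commGroup (α := G)
  exact exists_order_mul hp hq hne hx hy (mul_comm x y)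

theorem cyclic_complement {G : Type*} [Group G] [Finite G] {C V : Subgroup G} [V.Normal]
    (hfpf : Fpf C V) (hV : V ≠ ⊥) (hodd : Odd (Nat.card C)) (hnil : Group.IsNilpotent C) :
    IsCyclic C := by
  haveI := hnil
  haveI : IsZGroup C := ⟨fun p hp P => by
    haveI := Fact.mk hp
    have hmap : (P : Subgroup C).map C.subtype ≤ C := map_subtype_le _
    rcases (hfpf.mono hmap).isCyclic_or_quaternion le_normalizer_of_normal hV
        (P.2.map C.subtype) with h | ⟨-, k, ⟨e⟩⟩
    · exact ((equivMapOfInjective _ _ C.subtype_injective).isCyclic).mpr h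
    · exfalso
      have hd : Nat.card (QuaternionGroup (2 ^ k)) ∣ Nat.card C := by
        rw [← Nat.card_congr e.toEquiv]; exact card_dvd_of_le hmap
      rw [Nat.card_eq_fintype_card, QuaternionGroup.card] at hd
      exact Nat.not_even_iff_odd.mpr hodd
        (even_iff_two_dvd.mpr ((dvd_mul_of_dvd_left (by norm_num) _).trans hd))⟩
  infer_instance


/-- Let G be a 2-Frobenius group: it has normal subgroups H < K with K a Frobenius group with kernel H and G/H a Frobenius group with kernel K/H. Then G is solvable; K/H has odd order coprime to the order of H and to the order of G/K (it is the image of an odd-order Hall subgroup); G/K is cyclic; and the prime graph of G has exactly two connected components, both complete: for distinct primes p, q dividing the order of G, G has an element of order pq exactly when p and q either both divide the order of K/H or both do not. -/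
theorem result {G : Type*} [Group G] [Finite G] (H K : Subgroup G) [H.Normal] [K.Normal] (hlt : H < K)
    (hK : ∃ C : Subgroup ↥K, Cfsg.IsFrobeniusComplement C ∧ Cfsg.frobeniusKernel C = (H.subgroupOf K : Set ↥K))
    (hGH : ∃ C : Subgroup (G ⧸ H), Cfsg.IsFrobeniusComplement C ∧ Cfsg.frobeniusKernel C = (K.map (QuotientGroup.mk' H) : Set (G ⧸ H))) :
    Group.IsSolvable G ∧ Odd (Nat.card (↥K ⧸ H.subgroupOf K)) ∧
      Nat.Coprime (Nat.card (↥K ⧸ H.subgroupOf K)) (Nat.card ↥H * Nat.card (G ⧸ K)) ∧ IsCyclic (G ⧸ K) ∧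
      ∀ p q : ℕ, p.Prime → q.Prime → p ≠ q → p ∣ Nat.card G → q ∣ Nat.card G →
        ((∃ g : G, orderOf g = p * q) ↔ (p ∣ Nat.card (↥K ⧸ H.subgroupOf K) ↔ q ∣ Nat.card (↥K ⧸ H.subgroupOf K))) := by
  classical
  obtain ⟨C, hC, hCk⟩ := hK
  obtain ⟨Cb, hCb, hCbk⟩ := hGH
  set π := QuotientGroup.mk' H with hπ
  set Hs := H.subgroupOf K with hHs
  set Kb := K.map π with hKb
  haveI : Kb.Normal := Subgroup.Normal.map inferInstance π (QuotientGroup.mk'_surjective H)
  have hcC : Hs.IsComplement' C := isComplement_kernel hC hCk.symm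
  have hcCb : Kb.IsComplement' Cb := isComplement_kernel hCb hCbk.symm
  have hnH : Nat.card Hs = Nat.card H := Nat.card_congr (subgroupOfEquivOfLe hlt.le).toEquiv
  haveI hHsnil : Group.IsNilpotent Hs := isNilpotent_kernel hC hCk.symm
  haveI hHnil : Group.IsNilpotent H := Group.nilpotent_of_mulEquiv (subgroupOfEquivOfLe hlt.le)
  haveI hKbnil : Group.IsNilpotent Kb := isNilpotent_kernel hCb hCbk.symm
  have hHs0 : Hs ≠ ⊥ := fun h => hC.2.1 (by simpa [h] using hcC.sup_eq_top)
  have hCfpf : Fpf C Hs := (isFrobeniusComplement_iff_fpf hcC hHs0 hC.1).mp hC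
  have hKb0 : Kb ≠ ⊥ := fun h => hCb.2.1 (by simpa [h] using hcCb.sup_eq_top)
  have hCbfpf : Fpf Cb Kb := (isFrobeniusComplement_iff_fpf hcCb hKb0 hCb.1).mp hCb
  -- `C` is a copy of `K/H`
  let eC : C ≃* Kb :=
    (IsComplement'.QuotientMulEquiv hcC.symm).symm.trans <|
      (QuotientGroup.quotientMulEquivOfEq (show Hs = (π.subgroupMap K).ker by
        ext x
        rw [MonoidHom.mem_ker, Subtype.ext_iff]
        show (x : G) ∈ H ↔ ((x : G) : G ⧸ H) = 1
        exact (QuotientGroup.eq_one_iff _).symm)).trans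
        (QuotientGroup.quotientKerEquivOfSurjective _ (π.subgroupMap_surjective K))
  have hmKb : Nat.card Kb = Nat.card C := (Nat.card_congr eC.toEquiv).symm
  have hm : Nat.card (↥K ⧸ Hs) = Nat.card C :=
    Nat.card_congr (IsComplement'.QuotientMulEquiv hcC.symm).toEquiv
  haveI hCnil : Group.IsNilpotent C := Group.nilpotent_of_mulEquiv eC.symm
  -- `|K/H|` is odd
  have hodd : Odd (Nat.card C) := by
    rw [← Nat.not_even_iff_odd, even_iff_two_dvd]
    intro h2
    haveI := Fact.mk Nat.prime_two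
    obtain ⟨t, ht⟩ := exists_prime_orderOf_dvd_card' (G := C) 2 h2
    have htK : ((eC t : Kb) : G ⧸ H) ∈ Kb := (eC t).2
    have hto : orderOf ((eC t : Kb) : G ⧸ H) = 2 := by
      rw [orderOf_coe, MulEquiv.orderOf_eq, ht]
    have huniq : ∀ u : C, orderOf u = 2 → u = t := by
      intro u hu
      have aux : ∀ v : C, orderOf v = 2 → (v : K) ≠ 1 ∧ (v : K) * (v : K) = 1 := fun v hv =>
        ⟨fun h => by rw [show v = 1 from Subtype.ext h, orderOf_one] at hv; omega, by
          rw [← Subgroup.coe_mul, ← pow_two, ← hv, pow_orderOf_eq_one, OneMemClass.coe_one]⟩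
      exact Subtype.ext ((involution_inverts hC (a := 1) (by rw [conjMap_one]; exact t.2) (aux t ht).1
        (aux t ht).2).2.2 u (by rw [conjMap_one]; exact u.2) (aux u hu).1 (aux u hu).2)
    obtain ⟨c, hc, hc1⟩ : ∃ c ∈ Cb, c ≠ 1 := Cb.bot_or_exists_ne_one.resolve_left hCb.1
    have hconj : c * ((eC t : Kb) : G ⧸ H) * c⁻¹ ∈ Kb :=
      Subgroup.Normal.conj_mem inferInstance _ htK c
    have hu := huniq (eC.symm ⟨_, hconj⟩) (by
      rw [MulEquiv.orderOf_eq, Subgroup.orderOf_mk, ← hto]
      exact (MulAut.conj c).orderOf_eq _)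
    have hfix : c * ((eC t : Kb) : G ⧸ H) * c⁻¹ = ((eC t : Kb) : G ⧸ H) :=
      congrArg Subtype.val (eC.symm_apply_eq.mp hu)
    have h1 := hCbfpf.eq_one hc hc1 htK (mul_inv_eq_iff_eq_mul.mp hfix)
    rw [h1, orderOf_one] at hto
    omega
  haveI hCcyc : IsCyclic C := cyclic_complement hCfpf hHs0 hodd hCnil
  haveI hKbcyc : IsCyclic Kb := eC.isCyclic.mp hCcyc
  -- `G/K` is cyclic
  let eB : G ⧸ K ≃* Cb :=
    (QuotientGroup.quotientQuotientEquivQuotient H K hlt.le).symm.trans
      (IsComplement'.QuotientMulEquiv hcCb.symm)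
  haveI : IsMulCommutative Cb := ⟨⟨fun a b => by
    let f : Cb →* MulAut Kb := MulAut.conjNormal.comp Cb.subtype
    have hf : Function.Injective f := by
      rw [injective_iff_map_eq_one]
      intro c hc
      by_contra hc1
      obtain ⟨k, hk, hk1⟩ : ∃ k ∈ Kb, k ≠ 1 := Kb.bot_or_exists_ne_one.resolve_left hKb0
      have h : (c : G ⧸ H) * k * (c : G ⧸ H)⁻¹ = k := by
        simpa [f] using congrArg Subtype.val (DFunLike.congr_fun hc (⟨k, hk⟩ : Kb))
      exact hk1 (hCbfpf.eq_one c.2 (fun h0 => hc1 (Subtype.ext h0)) hk (mul_inv_eq_iff_eq_mul.mp h))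
    apply hf
    apply (IsCyclic.mulAutMulEquiv Kb).injective
    simp only [map_mul]
    exact mul_comm _ _⟩⟩
  haveI hCbcyc : IsCyclic Cb := hCbfpf.isCyclic_of_comm le_normalizer_of_normal hKb0
  haveI hGK : IsCyclic (G ⧸ K) := eB.isCyclic.mpr hCbcyc
  -- orders
  have hr : Nat.card (G ⧸ K) = Nat.card Cb := Nat.card_congr eB.toEquiv
  have hKcard : Nat.card K = Nat.card H * Nat.card C := by rw [← hcC.card_mul_card, hnH]
  have hGcard : Nat.card G = Nat.card (G ⧸ K) * Nat.card K := K.card_eq_card_quotient_mul_card_subgroup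
  have hcop1 : (Nat.card C).Coprime (Nat.card H) := hnH ▸ hCfpf.coprime le_normalizer_of_normal
  have hcop2 : (Nat.card C).Coprime (Nat.card (G ⧸ K)) := by
    rw [hr, ← hmKb]; exact (hCbfpf.coprime le_normalizer_of_normal).symm
  refine ⟨?_, hm.symm ▸ hodd, hm.symm ▸ hcop1.mul_right hcop2, hGK, ?_⟩
  · -- solvable
    haveI : Group.IsSolvable Hs := inferInstance
    haveI : Group.IsSolvable (↥K ⧸ Hs) := by
      haveI := (IsComplement'.QuotientMulEquiv hcC.symm).isCyclic.mpr hCcyc
      exact Group.isSolvable_of_comm fun a b => (IsCyclic.commGroup (α := ↥K ⧸ Hs)).mul_comm a b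
    haveI : Group.IsSolvable K :=
      Group.isSolvable_of_ker_le_range Hs.subtype (QuotientGroup.mk' Hs) (by simp)
    haveI : Group.IsSolvable (G ⧸ K) :=
      Group.isSolvable_of_comm fun a b => (IsCyclic.commGroup (α := G ⧸ K)).mul_comm a b
    exact Group.isSolvable_of_ker_le_range K.subtype (QuotientGroup.mk' K) (by simp)
  rw [hm]
  -- a normalised copy of `C`
  set U := C.map K.subtype with hU
  have hUC : Nat.card U = Nat.card C := card_map_of_injective K.subtype_injective
  have hCnt : 1 < Nat.card C := C.one_lt_card_iff_ne_bot.mpr hC.1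
  have hnorm : ∀ g : G, ∃ k ∈ K, k⁻¹ * g ∈ normalizer (U : Set G) := by
    intro g
    obtain ⟨⟨c, hcC'⟩, hgen⟩ := IsCyclic.exists_ofOrder_eq_natCard (α := C)
    rw [Subgroup.orderOf_mk] at hgen
    let w : K := ⟨g * c * g⁻¹, Subgroup.Normal.conj_mem inferInstance _ c.2 g⟩
    have hwo : orderOf w = Nat.card C := by
      rw [← Subgroup.orderOf_coe w, ← hgen, ← Subgroup.orderOf_coe c]
      exact (MulAut.conj g).orderOf_eq (c : G)
    have hwH : w ∉ Hs := fun hw => by
      have hcH : c ∈ Hs := mem_subgroupOf.mpr (by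
        have := Subgroup.Normal.conj_mem' (n := g * c * g⁻¹) inferInstance (mem_subgroupOf.mp hw) g
        simpa [mul_assoc] using this)
      have := disjoint_def.mp hcC.disjoint hcH hcC'
      rw [this, orderOf_one] at hgen
      omega
    obtain ⟨-, k, hk⟩ := exists_conjMap_of_not_mem hCk.symm hwH
    have heq : zpowers w = conjMap k C := by
      refine eq_of_le_of_card_ge (zpowers_le.mpr hk) (le_of_eq ?_)
      rw [card_conjMap, Nat.card_zpowers, hwo]
    have hcgen : zpowers c = C := eq_of_le_of_card_ge (zpowers_le.mpr hcC')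
      (le_of_eq (by rw [Nat.card_zpowers, hgen]))
    refine ⟨k, k.2, ?_⟩
    rw [← conjMap_eq_self_iff, hU, ← hcgen, MonoidHom.map_zpowers]
    show (zpowers ((c : K) : G)).map (MulAut.conj ((k : G)⁻¹ * g)).toMonoidHom = _
    rw [MonoidHom.map_zpowers]
    have hmem : k⁻¹ * w * k ∈ zpowers c := hcgen.symm ▸ mem_conjMap.mp hk
    refine eq_of_le_of_card_ge (zpowers_le.mpr ?_) (le_of_eq ?_)
    · have h2 := mem_map_of_mem K.subtype hmem
      rw [MonoidHom.map_zpowers] at h2
      simpa [w, mul_assoc] using h2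
    · rw [Nat.card_zpowers, Nat.card_zpowers, MulEquiv.toMonoidHom_eq_coe, MonoidHom.coe_coe,
        MulEquiv.orderOf_eq]
      rfl
  -- an element of order `p * q`, `p` dividing `|H|` and `q` dividing only `|G/K|`
  have hmix : ∀ p q : ℕ, p.Prime → q.Prime → p ≠ q → p ∣ Nat.card H → ¬ q ∣ Nat.card H →
      ¬ p ∣ Nat.card C → ¬ q ∣ Nat.card C → q ∣ Nat.card (G ⧸ K) → ∃ g : G, orderOf g = p * q := by
    intro p q hp hq hpq hpH hqH hpC hqC hqr
    haveI := Fact.mk hp; haveI := Fact.mk hq
    set N := normalizer (U : Set G) with hN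
    have hqN : q ∣ Nat.card N := by
      refine hqr.trans (card_dvd_of_surjective ((QuotientGroup.mk' K).comp N.subtype) fun x => ?_)
      obtain ⟨g, rfl⟩ := QuotientGroup.mk'_surjective K x
      obtain ⟨k, hk, hkg⟩ := hnorm g
      refine ⟨⟨k⁻¹ * g, hkg⟩, ?_⟩
      simp [(QuotientGroup.eq_one_iff k).mpr hk]
    obtain ⟨⟨y, hyN⟩, hy⟩ := exists_prime_orderOf_dvd_card' (G := N) q hqN
    rw [Subgroup.orderOf_mk] at hy
    have hEN : zpowers y ≤ N := zpowers_le.mpr hyN
    have hEcard : Nat.card (zpowers y) = q := by rw [Nat.card_zpowers, hy]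
    have hyK : y ∉ K := fun h => by
      have := K.orderOf_dvd_natCard h
      rw [hy, hKcard] at this
      rcases hq.dvd_mul.mp this with h' | h'
      exacts [hqH h', hqC h']
    have hUE : U ⊓ zpowers y = ⊥ := Subgroup.disjoint_of_coprime_natCard (by
      rw [hEcard, hUC]; exact (hq.coprime_iff_not_dvd.mpr hqC).symm) |>.eq_bot
    have hfpfU : ∀ e ∈ zpowers y, e ≠ 1 → ∀ u ∈ U, e * u = u * e → u = 1 := by
      intro e he he1 u hu hcomm
      obtain ⟨u', hu', rfl⟩ := hu
      have heK : e ∉ K := fun h => hyK (by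
        have heq : zpowers e = zpowers y := eq_of_le_of_card_ge (zpowers_le.mpr he) (by
          rw [hEcard, Nat.card_zpowers, orderOf_eq_prime (p := q) ?_ he1]
          obtain ⟨i, rfl⟩ := mem_zpowers_iff.mp he
          rw [← hy, ← zpow_natCast, ← zpow_mul, mul_comm, zpow_mul, zpow_natCast, pow_orderOf_eq_one,
            one_zpow])
        exact (zpowers_le.mpr h) (heq ▸ mem_zpowers y))
      have heKb : π e ∉ Kb := by
        rintro ⟨k, hk, hke⟩
        exact heK (by simpa using K.mul_mem hk (hlt.le (QuotientGroup.eq.mp hke)))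
      have h1 := eq_one_of_commute_outside hCb hCbk.symm (x := π (u' : G)) (mem_map_of_mem π u'.2) heKb
        (by rw [← map_mul, ← map_mul]; exact congrArg π hcomm.symm)
      have hu1 : u' = 1 := disjoint_def.mp hcC.disjoint
        (mem_subgroupOf.mpr ((QuotientGroup.eq_one_iff _).mp h1)) hu'
      simp [hu1]
    obtain ⟨P⟩ : Nonempty (Sylow p H) := inferInstance
    have hPn : (P : Subgroup H).Normal := by
      have hT := (Group.isNilpotent_of_finite_tfae (G := H)).out 0 3
      exact hT.1 hHnil p inferInstance P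
    haveI : (P : Subgroup H).Characteristic := P.characteristic_of_normal hPn
    set P' := (P : Subgroup H).map H.subtype with hP'
    haveI : P'.Normal := inferInstance
    have hP'card : Nat.card P' = Nat.card P := card_map_of_injective H.subtype_injective
    obtain ⟨i, hi⟩ := IsPGroup.iff_card.mp P.2
    have hUE2 : Nat.card ↥(U ⊔ zpowers y) = Nat.card C * q := by
      have := card_sup_mul_card_inf (N := U) (H := zpowers y) hEN
      rwa [hUE, card_bot, mul_one, hUC, hEcard] at this
    haveI : Group.IsNilpotent P := P.2.isNilpotent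
    have hPsol : Group.IsSolvable P' :=
      Group.isSolvable_of_surjective (f := (equivMapOfInjective (P : Subgroup H) _ H.subtype_injective).toMonoidHom)
        (equivMapOfInjective (P : Subgroup H) _ H.subtype_injective).surjective
    have hformula := Cfsg.Lib.FixedDim.frobenius_fixed_solvable U (zpowers y) hUE hEN hfpfU _ P' le_rfl
      le_normalizer_of_normal hPsol (by
        rw [hP'card, hi, hUE2]
        exact Nat.Coprime.pow_left _ (((hp.coprime_iff_not_dvd).mpr hpC).mul_right
          ((Nat.coprime_primes hp hq).mpr hpq)))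
    obtain ⟨u, huC, hu1⟩ : ∃ u ∈ C, u ≠ 1 := C.bot_or_exists_ne_one.resolve_left hC.1
    have hCU : P' ⊓ centralizer (U : Set G) = ⊥ := by
      rw [eq_bot_iff]
      rintro x ⟨hxP, hxc⟩
      have hxH : x ∈ H := map_subtype_le _ hxP
      have := hCfpf.eq_one huC hu1 (mem_subgroupOf.mpr hxH : (⟨x, hlt.le hxH⟩ : K) ∈ Hs)
        (Subtype.ext (mem_centralizer_iff.mp hxc _ (mem_map_of_mem K.subtype huC)))
      exact congrArg Subtype.val this
    have hCUE : P' ⊓ centralizer ((U ⊔ zpowers y : Subgroup G) : Set G) = ⊥ :=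
      eq_bot_iff.mpr ((inf_le_inf_left P' (centralizer_le (SetLike.coe_subset_coe.mpr le_sup_left))).trans
        hCU.le)
    rw [hCU, hCUE, card_bot, one_pow, one_mul, mul_one, hEcard] at hformula
    have hPdvd : p ∣ Nat.card ↥(P' ⊓ centralizer (zpowers y : Set G)) := by
      refine hp.dvd_of_dvd_pow (n := q) ?_
      rw [← hformula, hP'card]
      exact (P.dvd_card_of_dvd_card hpH)
    obtain ⟨⟨x, hxP, hxc⟩, hx⟩ := exists_prime_orderOf_dvd_card' p hPdvd
    rw [← Subgroup.orderOf_coe] at hx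
    exact exists_order_mul hp hq hpq hx hy (mem_centralizer_iff.mp hxc y (mem_zpowers y)).symm
  -- no element of mixed order
  have hsep : ∀ p q : ℕ, p.Prime → q.Prime → p ≠ q → p ∣ Nat.card C → ¬ q ∣ Nat.card C →
      ∀ g : G, orderOf g ≠ p * q := by
    intro p q hp hq hpq hpC hqC g hg
    have ha : orderOf (g ^ q) = p := by
      rw [orderOf_pow_of_dvd hq.pos.ne' (hg ▸ dvd_mul_left q p), hg, Nat.mul_div_cancel _ hq.pos]
    have hb : orderOf (g ^ p) = q := by
      rw [orderOf_pow_of_dvd hp.pos.ne' (hg ▸ dvd_mul_right p q), hg, Nat.mul_div_cancel_left _ hp.pos]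
    have hcomm : Commute (g ^ q) (g ^ p) := (Commute.refl g).pow_pow q p
    have haK : g ^ q ∈ K := by
      rw [← QuotientGroup.eq_one_iff]
      refine orderOf_eq_one_iff.mp ((Nat.dvd_prime hp).mp (ha ▸
        orderOf_map_dvd (QuotientGroup.mk' K) (g ^ q)) |>.resolve_right fun h => ?_)
      exact hp.ne_one (Nat.eq_one_of_dvd_coprimes hcop2 hpC (h ▸ _root_.orderOf_dvd_natCard _))
    have haH : g ^ q ∉ H := fun h => hp.ne_one
      (Nat.eq_one_of_dvd_coprimes hcop1 hpC (ha ▸ H.orderOf_dvd_natCard h))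
    by_cases hbK : g ^ p ∈ K
    · obtain ⟨ha1, k, hk⟩ := exists_conjMap_of_not_mem hCk.symm (x := ⟨g ^ q, haK⟩) haH
      have hk' := mem_conjMap.mp hk
      have hbk : k⁻¹ * (⟨g ^ p, hbK⟩ : K) * k ∈ C := by
        refine mem_of_commute hC hk' (fun h => ha1 ?_) ?_
        · have := congrArg (fun z => k * z * k⁻¹) h
          simpa [mul_assoc] using this
        · apply Subtype.ext
          simp [mul_assoc]
          rw [← mul_assoc, ← hcomm.eq, mul_assoc]
      refine hqC ?_
      have hd := C.orderOf_dvd_natCard hbk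
      rw [show orderOf (k⁻¹ * (⟨g ^ p, hbK⟩ : K) * k) = q from ?_] at hd
      · exact hd
      have := (MulAut.conj k⁻¹).orderOf_eq (⟨g ^ p, hbK⟩ : K)
      rw [MulAut.conj_apply, inv_inv] at this
      exact this.trans ((Subgroup.orderOf_coe _).symm.trans hb)
    · refine haH ((QuotientGroup.eq_one_iff _).mp (eq_one_of_commute_outside hCb hCbk.symm
        (x := π (g ^ q)) (y := π (g ^ p)) (mem_map_of_mem π haK) ?_ ?_))
      · rintro ⟨k, hk, hke⟩
        exact hbK (by simpa using K.mul_mem hk (hlt.le (QuotientGroup.eq.mp hke)))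
      · rw [← map_mul, ← map_mul, hcomm.eq]
  intro p q hp hq hpq hpG hqG
  have hsplit : ∀ l : ℕ, l.Prime → l ∣ Nat.card G → ¬ l ∣ Nat.card C →
      l ∣ Nat.card H ∨ l ∣ Nat.card (G ⧸ K) := by
    intro l hl h hlC
    rw [hGcard, hKcard] at h
    rcases hl.dvd_mul.mp h with h | h
    · exact Or.inr h
    · exact Or.inl ((hl.dvd_mul.mp h).resolve_right hlC)
  constructor
  · rintro ⟨g, hg⟩
    exact ⟨fun h => by_contra fun h' => hsep p q hp hq hpq h h' g hg,
      fun h => by_contra fun h' => hsep q p hq hp hpq.symm h h' g (by rw [hg, mul_comm])⟩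
  · intro hiff
    by_cases hpC : p ∣ Nat.card C
    · obtain ⟨g, hg⟩ := exists_order_mul_of_cyclic hp hq hpq hpC (hiff.mp hpC)
      exact ⟨((g : K) : G), by rw [Subgroup.orderOf_coe, Subgroup.orderOf_coe, hg]⟩
    have hqC : ¬ q ∣ Nat.card C := fun h => hpC (hiff.mpr h)
    by_cases hpH : p ∣ Nat.card H
    · by_cases hqH : q ∣ Nat.card H
      · haveI := Fact.mk hp; haveI := Fact.mk hq
        obtain ⟨x, hx⟩ := exists_prime_orderOf_dvd_card' (G := H) p hpH
        obtain ⟨y, hy⟩ := exists_prime_orderOf_dvd_card' (G := H) q hqH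
        obtain ⟨g, hg⟩ := exists_order_mul hp hq hpq hx hy
          (Cfsg.Lib.SolvStruct.commute_of_coprime_of_nilpotent hpq ⟨1, by rw [hx, pow_one]⟩
            ⟨1, by rw [hy, pow_one]⟩)
        exact ⟨(g : G), by rw [Subgroup.orderOf_coe, hg]⟩
      · exact hmix p q hp hq hpq hpH hqH hpC hqC ((hsplit q hq hqG hqC).resolve_left hqH)
    · have hpr := (hsplit p hp hpG hpC).resolve_left hpH
      by_cases hqH : q ∣ Nat.card H
      · obtain ⟨g, hg⟩ := hmix q p hq hp hpq.symm hqH hpH hqC hpC hpr
        exact ⟨g, by rw [hg, mul_comm]⟩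
      · obtain ⟨g, hg⟩ := exists_order_mul_of_cyclic hp hq hpq hpr
          ((hsplit q hq hqG hqC).resolve_left hqH)
        obtain ⟨g, rfl⟩ := QuotientGroup.mk'_surjective K g
        have hd : p * q ∣ orderOf g := hg ▸ orderOf_map_dvd _ g
        exact ⟨g ^ (orderOf g / (p * q)), orderOf_pow_orderOf_div (orderOf_pos g).ne' hd⟩

end Cfsg.Agent.S4001
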