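import Cfsg.Statements.S4002
import Mathlib
import Cfsg.Prelude
import Cfsg.Agent.Elementary.ThreePrimes

set_option autoImplicit false
open Cfsg

namespace Cfsg.Agent.S4002

theorem primes (n : ℕ) (hn : 7 ≤ n) : ∃ a b c : ℕ, a.Prime ∧ b.Prime ∧ c.Prime ∧ a < b ∧ b < c ∧ c ≤ n ∧ n < a * b := by
  rcases lt_or_ge n 64 with h | h
  · rcases lt_or_ge n 13 with h2 | h2
    · exact ⟨3, 5, 7, by norm_num, by norm_num, by norm_num, by omega, by omega, by omega, by omega⟩
    rcases lt_or_ge n 35 with h3 | h3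
    · exact ⟨5, 7, 11, by norm_num, by norm_num, by norm_num, by omega, by omega, by omega, by omega⟩
    exact ⟨7, 11, 13, by norm_num, by norm_num, by norm_num, by omega, by omega, by omega, by omega⟩
  have hs : 8 ≤ Nat.sqrt n := Nat.le_sqrt.2 (by omega)
  have h1 := Nat.sqrt_le n
  have h2 := Nat.lt_succ_sqrt n
  set s := Nat.sqrt n
  obtain ⟨a, ha, ha1, ha2⟩ := Nat.exists_prime_lt_and_le_two_mul s (by omega)
  obtain ⟨b, hb, hb1, hb2⟩ := Nat.exists_prime_lt_and_le_two_mul (2 * s) (by omega)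
  obtain ⟨c, hc, hc1, hc2⟩ := Nat.exists_prime_lt_and_le_two_mul (4 * s) (by omega)
  refine ⟨a, b, c, ha, hb, hc, by omega, by omega, ?_, h2.trans_le (Nat.mul_le_mul (by omega) (by omega))⟩
  nlinarith


/-- If the set of element orders of a finite group G is {1, 2, …, n} with n ≥ 7, then G is not solvable. -/
theorem result {G : Type*} [Group G] [Finite G] (n : ℕ) (hn : 7 ≤ n) (h : Set.range (orderOf : G → ℕ) = {k : ℕ | 1 ≤ k ∧ k ≤ n}) : ¬ Group.IsSolvable G := by
  intro hs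
  obtain ⟨a, b, c, ha, hb, hc, hab, hbc, hcn, hprod⟩ := primes n hn
  have hd : ∀ r : ℕ, r.Prime → r ≤ n → r ∣ Nat.card G := fun r hr hrn => by
    obtain ⟨x, hx⟩ : r ∈ Set.range (orderOf : G → ℕ) := h.symm ▸ ⟨hr.one_lt.le, hrn⟩
    exact hx ▸ orderOf_dvd_natCard x
  obtain ⟨r, hr, t, ht, hne, x, hx⟩ := Cfsg.Lib.ThreePrimes.edge_solvable (G := G) {a, b, c}
    (by rw [Finset.card_eq_three.2 ⟨a, b, c, hab.ne, (hab.trans hbc).ne, hbc.ne, rfl⟩])
    (by
      intro r hr
      simp only [Finset.mem_insert, Finset.mem_singleton] at hr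
      rcases hr with rfl | rfl | rfl
      · exact ⟨ha, hd r ha (by omega)⟩
      · exact ⟨hb, hd r hb (by omega)⟩
      · exact ⟨hc, hd r hc hcn⟩)
  have hle : r * t ∈ {k : ℕ | 1 ≤ k ∧ k ≤ n} := h ▸ ⟨x, hx⟩
  have h1 : a * b ≤ r * t := by
    simp only [Finset.mem_insert, Finset.mem_singleton] at hr ht
    rcases hr with rfl | rfl | rfl <;> rcases ht with rfl | rfl | rfl <;> first | (exact absurd rfl hne) | nlinarith
  exact absurd hle.2 (by omega)

end Cfsg.Agent.S4002
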