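import Cfsg.Statements.S4085
import Mathlib
import Cfsg.Agent.SolvStruct.CyclicProduct

set_option autoImplicit false
open Cfsg

namespace Cfsg.Agent.S4085

set_option linter.style.haveILetI false
set_option linter.unusedSectionVars false

open Subgroup

/-- adjacency or equality in the power graph -/
abbrev Comp {G : Type*} [Group G] (x y : G) : Prop := x ∈ zpowers y ∨ y ∈ zpowers x

variable {G : Type*} [Group G] [Finite G]

theorem mem_iff_dvd {c x y : G} (hx : x ∈ zpowers c) (hy : y ∈ zpowers c) :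
    x ∈ zpowers y ↔ orderOf x ∣ orderOf y := by
  refine ⟨orderOf_dvd_of_mem_zpowers, fun h => ?_⟩
  have heq : zpowers (y ^ (orderOf y / orderOf x)) = zpowers x := by
    refine Cfsg.Lib.SolvStruct.CyclicProduct.eq_of_card_eq_of_isCyclic (A := zpowers c)
      (zpowers_le.mpr (pow_mem hy _)) (zpowers_le.mpr hx) ?_
    rw [Nat.card_zpowers, Nat.card_zpowers, orderOf_pow_orderOf_div (orderOf_pos y).ne' h]
  exact (zpowers_le.mpr (pow_mem (mem_zpowers y) _)) (heq ▸ mem_zpowers x)

theorem comp_iff {c x y : G} (hx : x ∈ zpowers c) (hy : y ∈ zpowers c) :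
    Comp x y ↔ orderOf x ∣ orderOf y ∨ orderOf y ∣ orderOf x := by
  rw [Comp, mem_iff_dvd hx hy, mem_iff_dvd hy hx]

theorem exists_mem {c : G} {d : ℕ} (hd : d ∣ orderOf c) : ∃ x ∈ zpowers c, orderOf x = d :=
  ⟨c ^ (orderOf c / d), pow_mem (mem_zpowers c) _, orderOf_pow_orderOf_div (orderOf_pos c).ne' hd⟩

theorem comp_congr {a b x : G} (h : zpowers a = zpowers b) : Comp x a ↔ Comp x b := by
  simp only [Comp, ← zpowers_le (H := zpowers x), h]

theorem other_prime {n : ℕ} (h0 : n ≠ 0) (h1 : n ≠ 1) (hn : ¬ IsPrimePow n) (r : ℕ) :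
    ∃ q : ℕ, q.Prime ∧ q ∣ n ∧ q ≠ r := by
  by_contra hno
  push Not at hno
  obtain ⟨q, hq, hqn⟩ := Nat.exists_prime_and_dvd h1
  obtain rfl := hno q hq hqn
  have he := Nat.eq_prime_pow_of_unique_prime_dvd h0 (fun {d} hd hdn => hno d hd hdn)
  refine hn ((isPrimePow_nat_iff n).mpr ⟨q, _, hq, ?_, he.symm⟩)
  rcases Nat.eq_zero_or_pos n.primeFactorsList.length with h | h
  · exact absurd (by rw [he, h, pow_zero]) h1
  · exact h

/-- a vertex incomparable to a divisor which is a prime power -/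
theorem exists_incomparable {n d : ℕ} (hn0 : n ≠ 0) (hd : d ∣ n) (hdn : d ≠ n) (hd1 : d ≠ 1)
    (hd2 : ¬ IsPrimePow d) : ∃ P : ℕ, P ∣ n ∧ IsPrimePow P ∧ ¬ P ∣ d ∧ ¬ d ∣ P := by
  obtain ⟨k, rfl⟩ := hd
  obtain ⟨s, hs, hsk⟩ := Nat.exists_prime_and_dvd (show k ≠ 1 from fun h => hdn (by rw [h, mul_one]))
  have hd0 : d ≠ 0 := (mul_ne_zero_iff.mp hn0).1
  refine ⟨s ^ (d.factorization s + 1), ?_, hs.isPrimePow.pow (by omega),
    Nat.pow_succ_factorization_not_dvd hd0 hs, fun h => ?_⟩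
  · rw [pow_succ]
    exact mul_dvd_mul (Nat.ordProj_dvd d s) hsk
  · exact hd2 ((hs.isPrimePow.pow (by omega)).dvd h hd1)

theorem universal_order {c x : G} (hm : ¬ IsPrimePow (orderOf c)) (hx : x ∈ zpowers c)
    (h : ∀ z ∈ zpowers c, Comp z x) : orderOf x = 1 ∨ orderOf x = orderOf c := by
  by_contra hne
  push Not at hne
  have hdm := orderOf_dvd_of_mem_zpowers hx
  have hm0 := (orderOf_pos c).ne'
  have hm1 : orderOf c ≠ 1 := fun h1 => hne.1 (Nat.eq_one_of_dvd_one (h1 ▸ hdm))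
  obtain ⟨P, hP, h1, h2⟩ : ∃ P, P ∣ orderOf c ∧ ¬ P ∣ orderOf x ∧ ¬ orderOf x ∣ P := by
    by_cases hpp : IsPrimePow (orderOf x)
    · obtain ⟨r, k, hr, hk, hrk⟩ := (isPrimePow_nat_iff _).mp hpp
      obtain ⟨q, hq, hqm, hqr⟩ := other_prime hm0 hm1 hm r
      refine ⟨q, hqm, fun h' => hqr ?_, fun h' => hqr ?_⟩
      · exact (Nat.prime_dvd_prime_iff_eq hq hr).mp (hq.dvd_of_dvd_pow (hrk ▸ h'))
      · exact ((Nat.prime_dvd_prime_iff_eq hr hq).mp ((hrk ▸ dvd_pow_self r hk.ne').trans h')).symm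
    · obtain ⟨P, hP, -, h1, h2⟩ := exists_incomparable hm0 hdm hne.2 hne.1 hpp
      exact ⟨P, hP, h1, h2⟩
  obtain ⟨z, hz, hzo⟩ := exists_mem hP
  have := (comp_iff hz hx).mp (h z hz)
  rw [hzo] at this
  tauto

theorem order_eq_prime {c x f : G} (hm : ¬ IsPrimePow (orderOf c)) {p : ℕ} (hp : p.Prime)
    (hx : x ∈ zpowers c) (hxo : orderOf x = p) (hf : f ∈ zpowers c)
    (h : ∀ v ∈ zpowers c, (Comp v f ↔ Comp v x)) : orderOf f = p := by
  have hfm := orderOf_dvd_of_mem_zpowers hf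
  have hxm : p ∣ orderOf c := hxo ▸ orderOf_dvd_of_mem_zpowers hx
  have hm0 := (orderOf_pos c).ne'
  have hm1 : orderOf c ≠ 1 := fun h1 => hp.ne_one (Nat.eq_one_of_dvd_one (h1 ▸ hxm))
  have key : ∀ d, d ∣ orderOf c →
      ((d ∣ orderOf f ∨ orderOf f ∣ d) ↔ (d ∣ p ∨ p ∣ d)) := fun d hd => by
    obtain ⟨v, hv, hvo⟩ := exists_mem hd
    have := h v hv
    rwa [comp_iff hv hf, comp_iff hv hx, hvo, hxo] at this
  by_contra hne
  obtain ⟨q, hq, hqm, hqp⟩ := other_prime hm0 hm1 hm p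
  have hqx : ¬ (q ∣ p ∨ p ∣ q) := fun h => hqp (h.elim (Nat.prime_dvd_prime_iff_eq hq hp).mp
    fun h' => ((Nat.prime_dvd_prime_iff_eq hp hq).mp h').symm)
  have hqf : ¬ q ∣ orderOf f := fun h' => hqx ((key q hqm).mp (Or.inl h'))
  have hf1 : orderOf f ≠ 1 := fun h' => hqx ((key q hqm).mp (Or.inr (h' ▸ one_dvd q)))
  have hpp : IsPrimePow (orderOf f) := by
    by_contra hpp
    obtain ⟨l, hl, hlf, hlp⟩ := other_prime (orderOf_pos f).ne' hf1 hpp p
    exact hlp (((key l (hlf.trans hfm)).mp (Or.inl hlf)).elim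
      (Nat.prime_dvd_prime_iff_eq hl hp).mp
      fun h' => ((Nat.prime_dvd_prime_iff_eq hp hl).mp h').symm)
  obtain ⟨r, k, hr, hk, hrk⟩ := (isPrimePow_nat_iff _).mp hpp
  have hrp : r = p := by
    rcases (key r ((hrk ▸ dvd_pow_self r hk.ne').trans hfm)).mp (Or.inl (hrk ▸ dvd_pow_self r hk.ne'))
      with h' | h'
    · exact (Nat.prime_dvd_prime_iff_eq hr hp).mp h'
    · exact ((Nat.prime_dvd_prime_iff_eq hp hr).mp h').symm
  subst hrp
  have hk2 : 2 ≤ k := by
    by_contra hk2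
    exact hne (by rw [← hrk, show k = 1 by omega, pow_one])
  have hpqm : r * q ∣ orderOf c :=
    ((Nat.coprime_primes hr hq).mpr hqp.symm).mul_dvd_of_dvd_of_dvd hxm hqm
  rcases (key (r * q) hpqm).mpr (Or.inr (dvd_mul_right r q)) with h' | h'
  · exact hqf ((dvd_mul_left q r).trans h')
  · rw [← hrk] at h'
    have h2 : r * r ∣ r * q := (by rw [← pow_two]; exact (pow_dvd_pow r hk2).trans h')
    exact hqp ((Nat.prime_dvd_prime_iff_eq hr hq).mp (Nat.dvd_of_mul_dvd_mul_left hr.pos h2)).symm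

theorem not_split {c : G} (hm : ¬ IsPrimePow (orderOf c)) (S : Set G) {a b : G}
    (hcross : ∀ u ∈ zpowers c, ∀ v ∈ zpowers c, orderOf u ≠ 1 → orderOf u ≠ orderOf c →
      orderOf v ≠ 1 → orderOf v ≠ orderOf c → u ∈ S → v ∉ S → Comp u v)
    (ha : a ∈ zpowers c) (hb : b ∈ zpowers c) (ha1 : orderOf a ≠ 1) (ham : orderOf a ≠ orderOf c)
    (hb1 : orderOf b ≠ 1) (hbm : orderOf b ≠ orderOf c) (haS : a ∈ S) : b ∈ S := by
  classical
  let V : G → Prop := fun u => u ∈ zpowers c ∧ orderOf u ≠ 1 ∧ orderOf u ≠ orderOf c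
  have side : ∀ u v, V u → V v → ¬ (orderOf u ∣ orderOf v ∨ orderOf v ∣ orderOf u) → (u ∈ S ↔ v ∈ S) := by
    intro u v hu hv hinc
    constructor <;> intro h <;> by_contra h' <;> apply hinc
    · exact (comp_iff hu.1 hv.1).mp (hcross u hu.1 v hv.1 hu.2.1 hu.2.2 hv.2.1 hv.2.2 h h')
    · exact ((comp_iff hv.1 hu.1).mp (hcross v hv.1 u hu.1 hv.2.1 hv.2.2 hu.2.1 hu.2.2 h h')).symm
  have hm0 := (orderOf_pos c).ne'
  have hm1 : orderOf c ≠ 1 := fun h1 =>
    ha1 (Nat.eq_one_of_dvd_one (h1 ▸ orderOf_dvd_of_mem_zpowers ha))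
  have Vpp : ∀ u ∈ zpowers c, IsPrimePow (orderOf u) → V u := fun u hu h =>
    ⟨hu, h.ne_one, fun he => hm (he ▸ h)⟩
  -- prime power vertices lie on one side
  have spp : ∀ u v, u ∈ zpowers c → v ∈ zpowers c → IsPrimePow (orderOf u) → IsPrimePow (orderOf v) →
      (u ∈ S ↔ v ∈ S) := by
    intro u v hu hv hpu hpv
    obtain ⟨r, i, hr, hi, hri⟩ := (isPrimePow_nat_iff _).mp hpu
    obtain ⟨s, j, hs, hj, hsj⟩ := (isPrimePow_nat_iff _).mp hpv
    have aux : ∀ {r s i j : ℕ}, r.Prime → s.Prime → r ≠ s → 0 < i → 0 < j →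
        ¬ (r ^ i ∣ s ^ j ∨ s ^ j ∣ r ^ i) := by
      intro r s i j hr hs hrs hi hj h
      rcases h with h | h
      · exact hrs ((Nat.prime_dvd_prime_iff_eq hr hs).mp
          (hr.dvd_of_dvd_pow ((dvd_pow_self r hi.ne').trans h)))
      · exact hrs ((Nat.prime_dvd_prime_iff_eq hs hr).mp
          (hs.dvd_of_dvd_pow ((dvd_pow_self s hj.ne').trans h))).symm
    by_cases hrs : r = s
    · obtain ⟨q, hq, hqm, hqr⟩ := other_prime hm0 hm1 hm r
      obtain ⟨w, hw, hwo⟩ := exists_mem hqm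
      have hpw : IsPrimePow (orderOf w) := hwo ▸ hq.isPrimePow
      have hwo' : q ^ 1 = orderOf w := by rw [pow_one, hwo]
      refine (side u w (Vpp u hu hpu) (Vpp w hw hpw) ?_).trans
        (side w v (Vpp w hw hpw) (Vpp v hv hpv) ?_)
      · rw [← hri, ← hwo']; exact aux hr hq hqr.symm hi one_pos
      · rw [← hsj, ← hwo']; exact aux hq hs (hrs ▸ hqr) one_pos hj
    · exact side u v (Vpp u hu hpu) (Vpp v hv hpv) (by rw [← hri, ← hsj]; exact aux hr hs hrs hi hj)
  have stpp : ∀ u, V u → ∃ w ∈ zpowers c, IsPrimePow (orderOf w) ∧ (u ∈ S ↔ w ∈ S) := by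
    intro u hu
    by_cases hpp : IsPrimePow (orderOf u)
    · exact ⟨u, hu.1, hpp, Iff.rfl⟩
    obtain ⟨P, hP, hPpp, h1, h2⟩ :=
      exists_incomparable hm0 (orderOf_dvd_of_mem_zpowers hu.1) hu.2.2 hu.2.1 hpp
    obtain ⟨w, hw, hwo⟩ := exists_mem hP
    exact ⟨w, hw, hwo ▸ hPpp, side u w hu (Vpp w hw (hwo ▸ hPpp)) (by rw [hwo]; tauto)⟩
  obtain ⟨u, hu, hup, hau⟩ := stpp a ⟨ha, ha1, ham⟩
  obtain ⟨v, hv, hvp, hbv⟩ := stpp b ⟨hb, hb1, hbm⟩
  exact hbv.mpr ((spp u v hu hv hup hvp).mp (hau.mp haS))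

theorem card_generators (c : G) {d : ℕ} (hd : d ∣ orderOf c) :
    Nat.card {x : G // x ∈ zpowers c ∧ orderOf x = d} = d.totient := by
  classical
  haveI := Fintype.ofFinite (zpowers c)
  rw [← IsCyclic.card_orderOf_eq_totient (α := zpowers c) (d := d)
    (by rw [← Nat.card_eq_fintype_card, Nat.card_zpowers]; exact hd)]
  rw [← Fintype.card_subtype, ← Nat.card_eq_fintype_card]
  exact Nat.card_congr
    { toFun := fun x => ⟨⟨x.1, x.2.1⟩, by rw [Subgroup.orderOf_mk]; exact x.2.2⟩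
      invFun := fun x => ⟨x.1.1, x.1.2, by rw [Subgroup.orderOf_coe]; exact x.2⟩
      left_inv := fun x => rfl
      right_inv := fun x => rfl }

theorem dvd_card_of_closed {k : ℕ} (P : G → Prop) (hcl : ∀ v w, P v → zpowers w = zpowers v → P w)
    (hk : ∀ v, P v → k ∣ (orderOf v).totient) : k ∣ Nat.card {v : G // P v} := by
  classical
  haveI := Fintype.ofFinite G
  rw [Nat.card_eq_fintype_card, Fintype.card_subtype,
    Finset.card_eq_sum_card_image (fun v : G => zpowers v)]
  refine Finset.dvd_sum fun D hD => ?_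
  simp only [Finset.mem_image, Finset.mem_filter, Finset.mem_univ, true_and] at hD
  obtain ⟨v, hv, rfl⟩ := hD
  refine (hk v hv).trans (dvd_of_eq ?_)
  rw [← card_generators v dvd_rfl, Nat.card_eq_fintype_card, Fintype.card_subtype, Finset.filter_filter]
  congr 1
  ext w
  simp only [Finset.mem_filter, Finset.mem_univ, true_and]
  refine Iff.symm ⟨fun h => ⟨h.2 ▸ mem_zpowers w, ?_⟩, fun h => ?_⟩
  · rw [← Nat.card_zpowers, h.2, Nat.card_zpowers]
  · have he : zpowers w = zpowers v := eq_of_le_of_card_ge (zpowers_le.mpr h.1)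
      (by rw [Nat.card_zpowers, Nat.card_zpowers, h.2])
    exact ⟨hcl v w hv he, he⟩

/-- A maximal cyclic subgroup whose order is not a prime power has a partner of the same order. -/
theorem exists_same_order {H : Type*} [Group H] [Finite H] (e : G ≃ H)
    (he : ∀ x y : G, Comp x y ↔ Comp (e x) (e y)) (c₀ : H) (hm1 : orderOf c₀ ≠ 1)
    (hm : ¬ IsPrimePow (orderOf c₀)) (hmax : ∀ z, c₀ ∈ zpowers z → z ∈ zpowers c₀) :
    ∃ g : G, orderOf g = orderOf c₀ := by
  classical
  have hm3 : 2 < orderOf c₀ := by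
    by_contra h3
    have h2 : orderOf c₀ = 2 := by have := orderOf_pos c₀; omega
    exact hm (h2 ▸ Nat.prime_two.isPrimePow)
  -- a generator which does not come from the identity
  obtain ⟨c, hc, hce⟩ : ∃ c, zpowers c = zpowers c₀ ∧ e.symm c ≠ 1 := by
    by_cases h : e.symm c₀ = 1
    · refine ⟨c₀⁻¹, zpowers_inv, fun h' => ?_⟩
      have h2 : c₀⁻¹ = c₀ := e.symm.injective (h'.trans h.symm)
      have h3 : orderOf c₀ ∣ 2 := orderOf_dvd_of_pow_eq_one (by
        rw [pow_two]
        nth_rewrite 1 [← h2]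
        exact inv_mul_cancel c₀)
      have := Nat.le_of_dvd (by norm_num) h3
      omega
    · exact ⟨c₀, rfl, h⟩
  have hco : orderOf c = orderOf c₀ := by rw [← Nat.card_zpowers, hc, Nat.card_zpowers]
  rw [← hco] at hm hm1 hm3 ⊢
  have hN : ∀ x, Comp x c ↔ x ∈ zpowers c := by
    intro x
    refine ⟨fun h => h.elim id fun h' => ?_, Or.inl⟩
    rw [hc]
    exact hmax x (zpowers_le.mp (hc ▸ zpowers_le.mpr h'))
  set y := e.symm c with hy
  have hNy : ∀ z, Comp z y ↔ e z ∈ zpowers c := fun z => by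
    rw [he, hy, Equiv.apply_symm_apply, hN]
  let U : G → Prop := fun z => e z ∈ zpowers c ∧ ∀ v, e v ∈ zpowers c → Comp v z
  have hUord : ∀ z, e z ∈ zpowers c → (U z ↔ orderOf (e z) = 1 ∨ orderOf (e z) = orderOf c) := by
    refine fun z hz => ⟨fun hU => universal_order hm hz fun w hw => ?_, fun h => ⟨hz, fun v hv => ?_⟩⟩
    · have := (he _ _).mp (hU.2 (e.symm w) (by rwa [Equiv.apply_symm_apply]))
      rwa [Equiv.apply_symm_apply] at this
    · rw [he, comp_iff hv hz]
      rcases h with h | h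
      · exact Or.inr (h ▸ one_dvd _)
      · exact Or.inl (h ▸ orderOf_dvd_of_mem_zpowers hv)
  have hgen : ∀ w ∈ zpowers c, orderOf w = orderOf c → zpowers w = zpowers c := fun w hw ho =>
    eq_of_le_of_card_ge (zpowers_le.mpr hw) (by rw [Nat.card_zpowers, Nat.card_zpowers, ho])
  have htwin : ∀ z, U z → z ≠ 1 → ∀ v, Comp v z ↔ Comp v y := by
    intro z hU hz1 v
    rcases (hUord z hU.1).mp hU with h | h
    · -- then the vertex is joined to everything
      have hall : ∀ v, Comp v z := fun v => by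
        rw [he]; rw [orderOf_eq_one_iff] at h; rw [h]; exact Or.inr (one_mem _)
      have h1C : e 1 ∈ zpowers c := (hNy 1).mp (Or.inl (one_mem _))
      have h1U : U 1 := ⟨h1C, fun v _ => Or.inr (one_mem _)⟩
      rcases (hUord 1 h1C).mp h1U with h1 | h1
      · exact absurd (e.injective ((orderOf_eq_one_iff.mp h1).trans (orderOf_eq_one_iff.mp h).symm)).symm hz1
      · refine ⟨fun _ => ?_, fun _ => hall v⟩
        rw [hNy]
        have h2 : Comp (e v) (e 1) := (he v 1).mp (Or.inr (one_mem _))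
        exact (hN _).mp ((comp_congr (hgen _ h1C h1)).mp h2)
    · rw [he, comp_congr (hgen _ hU.1 h), hN, hNy]
  have hyU : U y := by
    refine ⟨by rw [hy, Equiv.apply_symm_apply]; exact mem_zpowers c, fun v hv => (hNy v).mpr hv⟩
  -- otherwise every element of the class of `y` has prime power order
  by_contra hno
  have hpp : ∀ z, U z → z ≠ 1 → IsPrimePow (orderOf z) := by
    intro z hU hz1
    by_contra hd
    have hNz : ∀ v, Comp v z ↔ e v ∈ zpowers c := fun v => (htwin z hU hz1 v).trans (hNy v)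
    obtain ⟨w, hzw, hwz⟩ : ∃ w, z ∈ zpowers w ∧ w ∉ zpowers z := by
      by_contra hnw
      push Not at hnw
      apply hno
      refine ⟨z, ?_⟩
      rw [← Nat.card_zpowers z, ← Nat.card_zpowers c]
      exact Nat.card_congr (e.subtypeEquiv fun v =>
        ⟨fun h => (hNz v).mp (Or.inl h), fun h => ((hNz v).mpr h).elim id (hnw v)⟩)
    have hd1 : orderOf z ≠ 1 := fun h => hz1 (orderOf_eq_one_iff.mp h)
    have hwC : e w ∈ zpowers c := (hNz w).mp (Or.inr hzw)
    have hwU : ¬ U w := by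
      intro hwU
      have hw1 : w ≠ 1 := fun h => hwz (h ▸ one_mem _)
      have hwpp : ¬ IsPrimePow (orderOf w) := fun h =>
        hd (h.dvd (orderOf_dvd_of_mem_zpowers hzw) hd1)
      rcases universal_order hwpp hzw (fun v hv => (hNz v).mpr
          ((hNy v).mp ((htwin w hwU hw1 v).mp (Or.inl hv)))) with h | h
      · exact hd1 h
      · exact hwz ((eq_of_le_of_card_ge (zpowers_le.mpr hzw)
          (by rw [Nat.card_zpowers, Nat.card_zpowers, h])).symm ▸ mem_zpowers w)
    obtain ⟨q, hq, hqd⟩ := Nat.exists_prime_and_dvd hd1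
    obtain ⟨x, hx, hxo⟩ := exists_mem hqd
    have hxC : e x ∈ zpowers c := (hNz x).mp (Or.inl hx)
    have hxU : ¬ U x := by
      intro hxU
      rcases universal_order hd hx (fun v hv => hxU.2 v ((hNz v).mp (Or.inl hv))) with h | h
      · exact hq.ne_one (hxo ▸ h)
      · exact hd (h ▸ hxo ▸ hq.isPrimePow)
    rw [hUord _ hxC] at hxU
    rw [hUord _ hwC] at hwU
    push Not at hxU hwU
    have := not_split hm {a : H | e.symm a ∈ zpowers z} (a := e x) (b := e w)
      (fun u hu v hv _ _ _ _ huS hvS => by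
        have h1 : Comp (e.symm v) z := (hNz _).mpr (by rwa [Equiv.apply_symm_apply])
        have h2 : z ∈ zpowers (e.symm v) := h1.resolve_left hvS
        have h3 := (he _ _).mp (Or.inl ((zpowers_le.mpr h2) huS) : Comp (e.symm u) (e.symm v))
        rwa [Equiv.apply_symm_apply, Equiv.apply_symm_apply] at h3)
      hxC hwC hxU.1 hxU.2 hwU.1 hwU.2 (by simpa using hx)
    exact hwz (by simpa using this)
  -- the class is a cyclic group of prime power order
  haveI := Fintype.ofFinite G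
  obtain ⟨t, ht, htmax⟩ := Finset.exists_max_image
    (Finset.univ.filter fun z => U z ∧ z ≠ 1) orderOf ⟨y, by simp [hyU, hce]⟩
  simp only [Finset.mem_filter, Finset.mem_univ, true_and] at ht htmax
  obtain ⟨r, a, hr, ha, hra⟩ := (isPrimePow_nat_iff _).mp (hpp t ht.1 ht.2)
  have hNt : ∀ v, Comp v t ↔ e v ∈ zpowers c := fun v => (htwin t ht.1 ht.2 v).trans (hNy v)
  have hUt : ∀ v, U v ↔ v ∈ zpowers t := by
    intro v
    constructor
    · intro hv
      by_cases hv1 : v = 1
      · exact hv1 ▸ one_mem _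
      rcases (hNt v).mpr hv.1 with h | h
      · exact h
      · have hle := htmax v ⟨hv, hv1⟩
        have : zpowers t = zpowers v := eq_of_le_of_card_ge (zpowers_le.mpr h)
          (by rw [Nat.card_zpowers, Nat.card_zpowers]; exact hle)
        exact this ▸ mem_zpowers v
    · intro hv
      refine ⟨(hNt v).mp (Or.inl hv), fun u hu => ?_⟩
      rcases (hNt u).mpr hu with h | h
      · rw [comp_iff h hv]
        obtain ⟨i, -, hi⟩ := (Nat.dvd_prime_pow hr).mp (hra ▸ orderOf_dvd_of_mem_zpowers h)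
        obtain ⟨j, -, hj⟩ := (Nat.dvd_prime_pow hr).mp (hra ▸ orderOf_dvd_of_mem_zpowers hv)
        rw [hi, hj]
        exact (le_total i j).imp (pow_dvd_pow r) (pow_dvd_pow r)
      · exact Or.inr ((zpowers_le.mpr h) hv)
  have hcard : r ^ a = (orderOf c).totient + 1 := by
    haveI := Fintype.ofFinite H
    have h1 : Nat.card {w : H // w ∈ zpowers c ∧ (orderOf w = 1 ∨ orderOf w = orderOf c)}
        = r ^ a := by
      rw [hra, ← Nat.card_zpowers t]
      refine Nat.card_congr (e.symm.subtypeEquiv fun w => ⟨fun h => ?_, fun h => ?_⟩)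
      · exact (hUt _).mp ((hUord _ (by simpa using h.1)).mpr (by simpa using h.2))
      · have h' := (hUt _).mpr h
        have h2 := (hUord _ h'.1).mp h'
        exact ⟨by simpa using h'.1, by simpa using h2⟩
    rw [← h1, ← card_generators c dvd_rfl]
    rw [Nat.card_eq_fintype_card, Nat.card_eq_fintype_card, Fintype.card_subtype, Fintype.card_subtype]
    have hins : (Finset.univ.filter fun w : H => w ∈ zpowers c ∧ (orderOf w = 1 ∨ orderOf w = orderOf c))
        = insert 1 (Finset.univ.filter fun w : H => w ∈ zpowers c ∧ orderOf w = orderOf c) := by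
      ext w
      by_cases hw : w = 1
      · subst hw; simp
      · simp [hw, orderOf_eq_one_iff]
    rw [hins, Finset.card_insert_of_notMem (by simp [hm1.symm])]
  -- every prime class has size divisible by `φ (r ^ a)`
  have hclass : ∀ p : ℕ, p.Prime → p ∣ orderOf c → (r ^ a).totient ∣ p.totient := by
    intro p hp hpc
    rw [← card_generators c hpc,
      show Nat.card {x : H // x ∈ zpowers c ∧ orderOf x = p}
        = Nat.card {v : G // e v ∈ zpowers c ∧ orderOf (e v) = p} from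
        Nat.card_congr (e.symm.subtypeEquiv fun w => by simp)]
    refine dvd_card_of_closed _ (fun v w hv hwv => ?_) (fun v hv => ?_)
    · have hwC : e w ∈ zpowers c := by
        rw [← hNt]
        have h1 : Comp v t := (hNt v).mpr hv.1
        exact (comp_congr hwv.symm).mp h1.symm |>.symm
      refine ⟨hwC, order_eq_prime hm hp hv.1 hv.2 hwC fun u hu => ?_⟩
      have h1 := he (e.symm u) v
      have h2 := he (e.symm u) w
      rw [Equiv.apply_symm_apply] at h1 h2
      rw [← h1, ← h2]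
      exact comp_congr hwv
    · have hvU : ¬ U v := by
        rw [hUord v hv.1, hv.2]
        rintro (h | h)
        · exact hp.ne_one h
        · exact hm (h ▸ hp.isPrimePow)
      have h1 := ((hNt v).mpr hv.1).resolve_left fun h => hvU ((hUt v).mpr h)
      rw [hra]
      exact Nat.totient_dvd_of_dvd (orderOf_dvd_of_mem_zpowers h1)
  obtain ⟨p, hp, hpc⟩ := Nat.exists_prime_and_dvd hm1
  obtain ⟨q, hq, hqc, hqp⟩ := other_prime (orderOf_pos c).ne' hm1 hm p
  have hcop := (Nat.coprime_primes hp hq).mpr hqp.symm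
  have hsq : (r ^ a).totient * (r ^ a).totient ∣ (orderOf c).totient := by
    refine (mul_dvd_mul (hclass p hp hpc) (hclass q hq hqc)).trans ?_
    rw [← Nat.totient_mul hcop]
    exact Nat.totient_dvd_of_dvd (hcop.mul_dvd_of_dvd_of_dvd hpc hqc)
  have hev : 2 ≤ (orderOf c).totient :=
    Nat.le_of_dvd (Nat.totient_pos.mpr (orderOf_pos c)) (even_iff_two_dvd.mp (Nat.totient_even hm3))
  rw [Nat.totient_prime_pow hr ha] at hsq
  obtain ⟨k, rfl⟩ : ∃ k, a = k + 1 := ⟨a - 1, by omega⟩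
  rw [Nat.add_sub_cancel] at hsq
  have hk : k = 0 := by
    by_contra hk
    have h1 : r ∣ (orderOf c).totient :=
      ((dvd_pow_self r hk).mul_right (r - 1)).trans ((dvd_mul_right _ _).trans hsq)
    have h2 : r ∣ (orderOf c).totient + 1 := hcard ▸ dvd_pow_self r (by omega)
    exact hr.one_lt.ne' (Nat.dvd_one.mp ((Nat.dvd_add_right h1).mp h2))
  subst hk
  rw [zero_add, pow_one] at hcard
  rw [pow_zero, one_mul, show r - 1 = (orderOf c).totient by omega] at hsq
  have := Nat.le_of_dvd (by omega) hsq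
  nlinarith

theorem edge {H : Type*} [Group H] [Finite H] (e : G ≃ H)
    (he : ∀ x y : G, Comp x y ↔ Comp (e x) (e y)) {p q : ℕ} (hp : p.Prime) (hq : q.Prime)
    (hpq : p ≠ q) (h : ∃ h : H, orderOf h = p * q) : ∃ g : G, orderOf g = p * q := by
  classical
  obtain ⟨h, hh⟩ := h
  haveI := Fintype.ofFinite H
  obtain ⟨c, hc, hcmax⟩ := Finset.exists_max_image
    (Finset.univ.filter fun c : H => h ∈ zpowers c) orderOf ⟨h, by simp [mem_zpowers]⟩
  simp only [Finset.mem_filter, Finset.mem_univ, true_and] at hc hcmax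
  have hd : p * q ∣ orderOf c := hh ▸ orderOf_dvd_of_mem_zpowers hc
  obtain ⟨g, hg⟩ := exists_same_order e he c
    (fun h1 => hp.ne_one (Nat.eq_one_of_dvd_one (h1 ▸ (dvd_mul_right p q).trans hd)))
    (fun hpp => by
      obtain ⟨r, k, hr, -, hrk⟩ := (isPrimePow_nat_iff _).mp hpp
      have h1 := (Nat.prime_dvd_prime_iff_eq hp hr).mp
        (hp.dvd_of_dvd_pow (hrk ▸ (dvd_mul_right p q).trans hd))
      have h2 := (Nat.prime_dvd_prime_iff_eq hq hr).mp
        (hq.dvd_of_dvd_pow (hrk ▸ (dvd_mul_left q p).trans hd))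
      exact hpq (h1.trans h2.symm))
    (fun z hz => by
      have he' : zpowers c = zpowers z := eq_of_le_of_card_ge (zpowers_le.mpr hz)
        (by rw [Nat.card_zpowers, Nat.card_zpowers]; exact hcmax z ((zpowers_le.mpr hz) hc))
      exact he' ▸ mem_zpowers z)
  exact ⟨g ^ (orderOf g / (p * q)), orderOf_pow_orderOf_div (orderOf_pos g).ne' (hg ▸ hd)⟩


/-- Let G and H be finite groups whose power graphs are isomorphic: there is a bijection e : G → H such that, for all x, y, one of x, y is a power of the other exactly when one of e(x), e(y) is a power of the other. Then G and H have the same prime graph: for distinct primes p, q, G has an element of order pq if and only if H does. -/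
theorem result {G H : Type*} [Group G] [Finite G] [Group H] [Finite H] (e : G ≃ H)
    (he : ∀ x y : G, (x ∈ Subgroup.zpowers y ∨ y ∈ Subgroup.zpowers x) ↔
      (e x ∈ Subgroup.zpowers (e y) ∨ e y ∈ Subgroup.zpowers (e x)))
    {p q : ℕ} (hp : p.Prime) (hq : q.Prime) (hpq : p ≠ q) :
    (∃ g : G, orderOf g = p * q) ↔ (∃ h : H, orderOf h = p * q) := by
  exact ⟨fun h => edge e.symm (fun x y => by rw [Comp, Comp, he, e.apply_symm_apply, e.apply_symm_apply]) hp hq hpq h,
  fun h => edge e he hp hq hpq h⟩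

end Cfsg.Agent.S4085
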