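import Cfsg.Statements.S4003
import Mathlib
import Cfsg.Agent.SolvStruct.PGroupBasics
import Cfsg.Agent.Coprime.Hall
import Cfsg.Agent.Chars.Count
import Cfsg.Agent.S4085

set_option autoImplicit false
open Cfsg

namespace Cfsg.Agent.S4003

set_option linter.style.haveILetI false
set_option linter.unusedSectionVars false

open Subgroup
open scoped commutatorElement

variable {p : ℕ} [hp : Fact p.Prime]

/-- the set of cyclic subgroups with the property `Q` controls the number of their generators -/
theorem card_generators_eq {G : Type*} [Group G] [Finite G] (Q : Subgroup G → Prop) (n : ℕ) :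
    Nat.card {u : G // Q (zpowers u) ∧ orderOf u = n} =
      n.totient * Nat.card {C : Subgroup G // Q C ∧ ∃ u, orderOf u = n ∧ zpowers u = C} := by
  classical
  haveI := Fintype.ofFinite G
  haveI := Fintype.ofFinite (Subgroup G)
  let D := {C : Subgroup G // Q C ∧ ∃ u, orderOf u = n ∧ zpowers u = C}
  let e : {u : G // Q (zpowers u) ∧ orderOf u = n} ≃ Σ C : D, {a : C.1 // orderOf a = n} :=
    { toFun := fun u => ⟨⟨zpowers u.1, u.2.1, u.1, u.2.2, rfl⟩, ⟨⟨u.1, mem_zpowers _⟩, by
        rw [Subgroup.orderOf_mk]; exact u.2.2⟩⟩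
      invFun := fun x => ⟨x.2.1.1, by
        obtain ⟨u, hu, huC⟩ := x.1.2.2
        have hx : orderOf (x.2.1 : G) = n := by rw [Subgroup.orderOf_coe]; exact x.2.2
        have h : zpowers (x.2.1 : G) = x.1.1 := eq_of_le_of_card_ge (zpowers_le.mpr x.2.1.2)
          (le_of_eq (((congrArg (fun C : Subgroup G => Nat.card C) huC.symm).trans
            ((Nat.card_zpowers u).trans hu)).trans (hx.symm.trans (Nat.card_zpowers _).symm)))
        exact ⟨(congrArg Q h).mpr x.1.2.1, hx⟩⟩
      left_inv := fun u => rfl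
      right_inv := fun x => by
        obtain ⟨⟨C, hC, u, hu, huC⟩, ⟨⟨a, ha⟩, hao⟩⟩ := x
        have h : zpowers a = C := eq_of_le_of_card_ge (zpowers_le.mpr ha)
          (by rw [← huC, Nat.card_zpowers, Nat.card_zpowers, hu, ← orderOf_mk a ha, hao])
        subst h
        rfl }
  rw [Nat.card_congr e, Nat.card_sigma]
  have hfib : ∀ C : D, Nat.card {a : C.1 // orderOf a = n} = n.totient := by
    rintro ⟨C, -, u, hu, rfl⟩
    haveI := Fintype.ofFinite (zpowers u)
    rw [Nat.card_eq_fintype_card, Fintype.card_subtype]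
    exact IsCyclic.card_orderOf_eq_totient (by rw [← Nat.card_eq_fintype_card, Nat.card_zpowers, hu])
  rw [Finset.sum_congr rfl fun C _ => hfib C, Finset.sum_const, Finset.card_univ, ← Nat.card_eq_fintype_card,
    smul_eq_mul, mul_comm]

/-- an elementary abelian normal subgroup of order `p²` translating the normal cyclic subgroups -/
theorem dvd_card_normal_cyclic {P : Type*} [Group P] [Finite P] (hp2 : p ≠ 2) (hP : IsPGroup p P)
    (hnc : ¬ IsCyclic P) {s : ℕ} (hs : 1 < s) :
    p ^ s ∣ Nat.card {c : P // (zpowers c).Normal ∧ orderOf c = p ^ s} := by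
  classical
  haveI := Fintype.ofFinite P
  haveI := hP.isNilpotent
  -- the subgroup of order p ^ 2
  obtain ⟨V, hVn, hVe, hVc, hVP⟩ : ∃ V : Subgroup P, V.Normal ∧ Cfsg.IsElementaryAbelian p V ∧
      Nat.card V = p ^ 2 ∧ ∀ c : P, (zpowers c).Normal → orderOf c = p ^ s →
        ∀ g : P, ∀ v ∈ V, ⁅g, v⁆ ∈ zpowers (c ^ p) ∧ ⁅g, v⁆ ∈ center P := by
    by_cases hZ : IsCyclic (center P)
    · obtain ⟨V, hVn, hVe, hVc⟩ := Cfsg.Lib.SolvStruct.exists_normal_elementary_sq hp2 hP hnc
      refine ⟨V, hVn, hVe, hVc, fun c hc hco g v hv => ?_⟩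
      haveI := hc
      haveI := hVn
      -- the central element of order `p` is a power of `c`
      set z := c ^ (p ^ (s - 1)) with hz
      have hzo : orderOf z = p := by
        have h := orderOf_pow_orderOf_div (orderOf_pos c).ne' (n := p) (hco ▸ dvd_pow_self p (by omega))
        rwa [hco, show p ^ s / p = p ^ (s - 1) from (Nat.div_eq_of_eq_mul_left hp.out.pos
          (by rw [← pow_succ, show s - 1 + 1 = s by omega]))] at h
      have hsmall : ∀ W : Subgroup P, W.Normal → Nat.card W = p → W ≤ center P := by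
        intro W hW hWc w hw
        rw [mem_center_iff]
        intro a
        haveI := hW
        have hne : W ⊓ center P ≠ ⊥ := Cfsg.Lib.Coprime.inf_center_ne_bot W (fun h => by
          rw [h, card_bot] at hWc; exact hp.out.one_lt.ne hWc)
        have hdvd := card_dvd_of_le (inf_le_left : W ⊓ center P ≤ W)
        rw [hWc] at hdvd
        have heq : W ⊓ center P = W := eq_of_le_of_card_ge inf_le_left (by
          rw [hWc, ((Nat.dvd_prime hp.out).mp hdvd).resolve_left fun h => hne (card_eq_one.mp h)])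
        exact mem_center_iff.mp (heq.ge hw).2 a
      have hzn : (zpowers z).Normal := ⟨fun x hx a => by
        obtain ⟨i, rfl⟩ := mem_zpowers_iff.mp hx
        obtain ⟨j, hj⟩ := mem_zpowers_iff.mp (hc.conj_mem c (mem_zpowers c) a)
        refine mem_zpowers_iff.mpr ⟨j * i, ?_⟩
        rw [hz, ← conj_zpow, ← conj_pow, ← hj, ← zpow_natCast, ← zpow_natCast, ← zpow_mul, ← zpow_mul,
          ← zpow_mul]
        ring_nf⟩
      have hzc : z ∈ center P := hsmall _ hzn (by rw [Nat.card_zpowers, hzo]) (mem_zpowers z)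
      -- a central element of order `p` lies in `⟨z⟩`
      have huniq : ∀ w ∈ center P, w ^ p = 1 → w ∈ zpowers z := by
        intro w hw hwp
        have key : (⟨w, hw⟩ : center P) ∈ zpowers (⟨z, hzc⟩ : center P) := by
          obtain ⟨g₀, hg₀⟩ := hZ.exists_generator
          rw [Cfsg.Agent.S4085.mem_iff_dvd (c := g₀) (hg₀ _) (hg₀ _), Subgroup.orderOf_mk,
            Subgroup.orderOf_mk, hzo]
          exact orderOf_dvd_of_pow_eq_one hwp
        obtain ⟨i, hi⟩ := mem_zpowers_iff.mp key
        exact mem_zpowers_iff.mpr ⟨i, by simpa using congrArg Subtype.val hi⟩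
      -- `[g, v]` is central
      have hVZ : V ⊓ center P ≤ zpowers z := fun w ⟨hw1, hw2⟩ => huniq w hw2 (hVe.2 w hw1)
      have hne : V ⊓ center P ≠ ⊥ := Cfsg.Lib.Coprime.inf_center_ne_bot V (fun h => by
        rw [h, card_bot] at hVc
        exact (Nat.one_lt_pow (n := 2) (by norm_num) hp.out.one_lt).ne hVc)
      have hW : V ⊓ center P = zpowers z := by
        refine eq_of_le_of_card_ge hVZ ?_
        have hdvd := card_dvd_of_le hVZ
        rw [Nat.card_zpowers, hzo] at hdvd
        rw [Nat.card_zpowers, hzo, ((Nat.dvd_prime hp.out).mp hdvd).resolve_left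
          fun h => hne (card_eq_one.mp h)]
      have hcomm : ⁅g, v⁆ ∈ zpowers z := by
        set π := QuotientGroup.mk' (zpowers z) with hπ
        have hVq : (V.map π).Normal := Subgroup.Normal.map hVn π (QuotientGroup.mk'_surjective _)
        haveI := hVq
        have hzV : zpowers z ≤ V := hW ▸ inf_le_left
        have hcard : Nat.card (V.map π) = p := by
          have h1 := Cfsg.Lib.Coprime.card_comap_mk' (V.map π)
          rw [comap_map_eq, QuotientGroup.ker_mk', sup_eq_left.mpr hzV, hVc, Nat.card_zpowers, hzo,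
            pow_two] at h1
          exact (Nat.eq_of_mul_eq_mul_left hp.out.pos h1).symm
        have hQp : IsPGroup p (P ⧸ zpowers z) := hP.to_quotient _
        haveI := hQp.isNilpotent
        have hne' : V.map π ⊓ center (P ⧸ zpowers z) ≠ ⊥ :=
          Cfsg.Lib.Coprime.inf_center_ne_bot (V.map π) (fun h => by
            rw [h, card_bot] at hcard; exact hp.out.one_lt.ne hcard)
        have hdvd := card_dvd_of_le (inf_le_left : V.map π ⊓ center (P ⧸ zpowers z) ≤ V.map π)
        rw [hcard] at hdvd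
        have heq : V.map π ⊓ center (P ⧸ zpowers z) = V.map π := eq_of_le_of_card_ge inf_le_left (by
          rw [hcard, ((Nat.dvd_prime hp.out).mp hdvd).resolve_left fun h => hne' (card_eq_one.mp h)])
        have hcen := mem_center_iff.mp (heq.ge (mem_map_of_mem π hv)).2 (π g)
        rw [← QuotientGroup.eq_one_iff]
        show π ⁅g, v⁆ = 1
        rw [map_commutatorElement, commutatorElement_eq_one_iff_mul_comm, hcen]
      refine ⟨?_, (zpowers_le.mpr hzc) hcomm⟩
      refine (zpowers_le.mpr ?_) hcomm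
      rw [hz, show p ^ (s - 1) = p * p ^ (s - 2) by rw [← pow_succ', show s - 2 + 1 = s - 1 by omega],
        pow_mul]
      exact pow_mem (mem_zpowers _) _
    · obtain ⟨A, hAn, hAe, hAc⟩ :=
        Cfsg.Lib.SolvStruct.exists_normal_elementary_sq hp2 (hP.to_subgroup (center P)) hZ
      refine ⟨A.map (center P).subtype, ⟨fun x hx a => ?_⟩, ⟨⟨⟨fun x y => ?_⟩⟩, fun x hx => ?_⟩,
        by rw [card_map_of_injective (center P).subtype_injective, hAc], fun c _ _ a v hv => ?_⟩
      · rwa [mem_center_iff.mp (map_subtype_le _ hx) a, mul_inv_cancel_right]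
      · exact Subtype.ext (mem_center_iff.mp (map_subtype_le _ y.2) x)
      · obtain ⟨a, ha, rfl⟩ := hx
        exact congrArg Subtype.val (hAe.2 a ha)
      · have h1 : ⁅a, v⁆ = 1 :=
          commutatorElement_eq_one_iff_mul_comm.mpr (mem_center_iff.mp (map_subtype_le _ hv) a)
        rw [h1]
        exact ⟨one_mem _, one_mem _⟩
  haveI := hVn
  let X := Finset.univ.filter fun c : P => (zpowers c).Normal ∧ orderOf c = p ^ s
  rw [Nat.card_eq_fintype_card, Fintype.card_subtype]
  let K : P → Subgroup P := fun c => zpowers (c ^ p) ⊔ V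
  have hK : ∀ (c k : P), k ∈ K c ↔ ∃ a ∈ zpowers (c ^ p), ∃ v ∈ V, a * v = k := fun c k =>
    Cfsg.Lib.Coprime.mem_sup_of_le_normalizer' (N := V) le_normalizer_of_normal |> fun h => by
      rw [show K c = V ⊔ zpowers (c ^ p) from sup_comm _ _]; exact h
  have hmove : ∀ c, (zpowers c).Normal → orderOf c = p ^ s → ∀ k ∈ K c,
      (zpowers (c * k)).Normal ∧ orderOf (c * k) = p ^ s ∧ K (c * k) = K c := by
    intro c hc hco k hk
    obtain ⟨a, ha, v, hv, rfl⟩ := (hK c k).mp hk
    obtain ⟨i, rfl⟩ := mem_zpowers_iff.mp ha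
    set b := c * (c ^ p) ^ i with hb
    have hbz : zpowers b = zpowers c := by
      refine eq_of_le_of_card_ge (zpowers_le.mpr (mul_mem (mem_zpowers c)
        (zpow_mem (pow_mem (mem_zpowers c) p) i))) (le_of_eq ?_)
      rw [Nat.card_zpowers, Nat.card_zpowers, hco, eq_comm]
      refine orderOf_eq_prime_pow (p := p) (n := s - 1) ?_ ?_ |>.trans (by rw [show s - 1 + 1 = s by omega])
      · intro h1
        have h2 : ((p ^ s : ℕ) : ℤ) ∣ (1 + p * i) * (p ^ (s - 1) : ℕ) := by
          rw [← hco, orderOf_dvd_iff_zpow_eq_one]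
          rw [← h1, hb, ← zpow_natCast, ← zpow_natCast, ← zpow_mul, ← zpow_one_add, ← zpow_mul]
        rw [show p ^ s = p ^ (s - 1) * p by rw [← pow_succ, show s - 1 + 1 = s by omega]] at h2
        push_cast at h2
        rw [mul_comm (1 + (p : ℤ) * i)] at h2
        have h3 := Int.dvd_of_mul_dvd_mul_left (pow_ne_zero _ (by exact_mod_cast hp.out.ne_zero)) h2
        have h4 : (p : ℤ) ∣ 1 := (Int.dvd_add_left (dvd_mul_right _ i)).mp h3
        exact hp.out.ne_one (Nat.dvd_one.mp (by exact_mod_cast h4))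
      · rw [show s - 1 + 1 = s by omega, (((Commute.refl c).pow_right p).zpow_right i).mul_pow, ← hco,
          pow_orderOf_eq_one, one_mul, ← zpow_natCast ((c ^ p) ^ i), ← zpow_mul, mul_comm, zpow_mul,
          zpow_natCast, ← pow_mul, mul_comm, pow_mul, pow_orderOf_eq_one, one_pow, one_zpow]
    have hbo : orderOf b = p ^ s := by rw [← Nat.card_zpowers, hbz, Nat.card_zpowers, hco]
    haveI hbn : (zpowers b).Normal := hbz ▸ hc
    obtain ⟨hevb, hec⟩ := hVP b hbn hbo b v hv
    set e := ⁅b, v⁆ with he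
    have hep : e ^ p = 1 := hVe.2 e (by
      rw [he, commutatorElement_def]
      exact mul_mem (hVn.conj_mem v hv b) (inv_mem hv))
    -- powers of `b v`
    have hpow : ∀ n : ℕ, (b * v) ^ n * e ^ n.choose 2 = b ^ n * v ^ n := by
      intro n
      induction n with
      | zero => simp
      | succ n ih =>
        have hswap : ∀ m : ℕ, v ^ m * b * e ^ m = b * v ^ m := by
          intro m
          induction m with
          | zero => simp
          | succ m ihm =>
            have h1 : v * b * e = b * v := by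
              rw [mem_center_iff.mp hec (v * b) , he, commutatorElement_def]; group
            calc v ^ (m + 1) * b * e ^ (m + 1) = v ^ m * (v * b * e) * e ^ m := by
                  rw [pow_succ v, pow_succ' e]; group
              _ = v ^ m * b * (v * e ^ m) := by rw [h1]; group
              _ = v ^ m * b * e ^ m * v := by rw [mem_center_iff.mp (pow_mem hec m) v]; group
              _ = b * v ^ (m + 1) := by rw [ihm, pow_succ]; group
        have hch : (n + 1).choose 2 = n.choose 2 + n := by
          rw [Nat.choose_succ_succ', Nat.choose_one_right, add_comm]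
        calc (b * v) ^ (n + 1) * e ^ (n + 1).choose 2
            = (b * v) ^ n * (b * v * e ^ n.choose 2) * e ^ n := by rw [hch, pow_succ, pow_add]; group
          _ = (b * v) ^ n * e ^ n.choose 2 * (b * v) * e ^ n := by
                rw [mem_center_iff.mp (pow_mem hec (n.choose 2)) (b * v)]; group
          _ = b ^ n * (v ^ n * (b * (v * e ^ n))) := by rw [ih]; group
          _ = b ^ n * (v ^ n * b * e ^ n) * v := by rw [mem_center_iff.mp (pow_mem hec n) v]; group
          _ = b ^ (n + 1) * v ^ (n + 1) := by rw [hswap, pow_succ, pow_succ]; group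
    have hbvp : (b * v) ^ p = b ^ p := by
      have h := hpow p
      rwa [orderOf_dvd_iff_pow_eq_one.mp ((orderOf_dvd_of_pow_eq_one hep).trans
        (hp.out.dvd_choose_self (by norm_num) (lt_of_le_of_ne hp.out.two_le hp2.symm))), mul_one,
        hVe.2 v hv, mul_one] at h
    have hord : orderOf (b * v) = p ^ s := by
      have hbp : ∀ j, (b * v) ^ p ^ (j + 1) = b ^ p ^ (j + 1) := fun j => by
        rw [pow_succ', pow_mul, hbvp, ← pow_mul]
      have h1 : orderOf (b * v) ∣ p ^ s := orderOf_dvd_of_pow_eq_one (by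
        rw [show s = s - 1 + 1 by omega, hbp, show s - 1 + 1 = s by omega, ← hbo, pow_orderOf_eq_one])
      obtain ⟨j, hj, hjo⟩ := (Nat.dvd_prime_pow hp.out).mp h1
      rcases lt_or_eq_of_le hj with hlt | rfl
      · exfalso
        have h2 : (b * v) ^ p ^ (s - 1) = 1 := orderOf_dvd_iff_pow_eq_one.mp
          (hjo ▸ pow_dvd_pow p (by omega))
        rw [show s - 1 = s - 2 + 1 by omega, hbp, show s - 2 + 1 = s - 1 by omega] at h2
        have h3 := orderOf_dvd_of_pow_eq_one h2
        rw [hbo, Nat.pow_dvd_pow_iff_le_right hp.out.one_lt] at h3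
        omega
      · exact hjo
    have hbp : zpowers (b ^ p) = zpowers (c ^ p) := by
      refine eq_of_le_of_card_ge (zpowers_le.mpr ?_) (le_of_eq ?_)
      · obtain ⟨j, hj⟩ := mem_zpowers_iff.mp (show b ∈ zpowers c from hbz ▸ mem_zpowers b)
        refine mem_zpowers_iff.mpr ⟨j, ?_⟩
        rw [← hj, ← zpow_natCast, ← zpow_natCast, ← zpow_mul, ← zpow_mul, mul_comm]
      · rw [Nat.card_zpowers, Nat.card_zpowers, orderOf_pow_of_dvd hp.out.ne_zero
          (hco ▸ dvd_pow_self p (by omega)), orderOf_pow_of_dvd hp.out.ne_zero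
          (hbo ▸ dvd_pow_self p (by omega)), hbo, hco]
    refine ⟨?_, by rw [← mul_assoc]; exact hord, ?_⟩
    · rw [← mul_assoc]
      refine ⟨fun x hx g => ?_⟩
      obtain ⟨n, rfl⟩ := mem_zpowers_iff.mp hx
      rw [← conj_zpow]
      refine zpow_mem ?_ n
      -- `g (b v) g⁻¹ = b [·] v`
      obtain ⟨j, hj⟩ := mem_zpowers_iff.mp (hbn.conj_mem b (mem_zpowers b) g)
      obtain ⟨hgv, hgvc⟩ := hVP b hbn hbo g v hv
      have hbd : g * b * g⁻¹ * b⁻¹ ∈ zpowers (b ^ p) := by
        haveI : (zpowers (b ^ p)).Normal := ⟨fun x hx a => by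
          obtain ⟨i, rfl⟩ := mem_zpowers_iff.mp hx
          obtain ⟨j, hj⟩ := mem_zpowers_iff.mp (hbn.conj_mem b (mem_zpowers b) a)
          refine mem_zpowers_iff.mpr ⟨j * i, ?_⟩
          rw [← conj_zpow, ← conj_pow, ← hj, ← zpow_natCast, ← zpow_natCast, ← zpow_mul, ← zpow_mul,
            ← zpow_mul]
          ring_nf⟩
        set π := QuotientGroup.mk' (zpowers (b ^ p))
        have hWn : ((zpowers b).map π).Normal := Subgroup.Normal.map hbn π (QuotientGroup.mk'_surjective _)
        haveI := hWn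
        have hb1 : π b ≠ 1 := fun h => by
          have hb' := (zpowers_le.mpr ((QuotientGroup.eq_one_iff b).mp h) : zpowers b ≤ zpowers (b ^ p))
          have hd := card_dvd_of_le hb'
          rw [Nat.card_zpowers, Nat.card_zpowers, orderOf_pow_of_dvd hp.out.ne_zero
            (hbo ▸ dvd_pow_self p (by omega)), hbo] at hd
          have h4 := Nat.le_of_dvd (Nat.div_pos (Nat.le_self_pow (by omega) p) hp.out.pos) hd
          exact absurd h4 (not_le.mpr (Nat.div_lt_self (pow_pos hp.out.pos s) hp.out.one_lt))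
        have hbo' : orderOf (π b) = p := orderOf_eq_prime (by
          rw [← map_pow]; exact (QuotientGroup.eq_one_iff _).mpr (mem_zpowers _)) hb1
        have hcard : Nat.card ((zpowers b).map π) = p := by
          rw [MonoidHom.map_zpowers, Nat.card_zpowers, hbo']
        have hQp : IsPGroup p (P ⧸ zpowers (b ^ p)) := hP.to_quotient _
        haveI := hQp.isNilpotent
        have hne := Cfsg.Lib.Coprime.inf_center_ne_bot ((zpowers b).map π) (fun h => by
          rw [h, card_bot] at hcard; exact hp.out.one_lt.ne hcard)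
        have hdvd := card_dvd_of_le
          (inf_le_left : (zpowers b).map π ⊓ center (P ⧸ zpowers (b ^ p)) ≤ (zpowers b).map π)
        rw [hcard] at hdvd
        have heq : (zpowers b).map π ⊓ center (P ⧸ zpowers (b ^ p)) = (zpowers b).map π :=
          eq_of_le_of_card_ge inf_le_left (by
            rw [hcard, ((Nat.dvd_prime hp.out).mp hdvd).resolve_left fun h => hne (card_eq_one.mp h)])
        rw [← QuotientGroup.eq_one_iff]
        show π (g * b * g⁻¹ * b⁻¹) = 1
        rw [map_mul, map_mul, map_mul, map_inv, map_inv,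
          mem_center_iff.mp (heq.ge (mem_map_of_mem π (mem_zpowers b))).2 (π g), mul_inv_cancel_right,
          mul_inv_cancel]
      have h1 : g * (b * v) * g⁻¹ = g * b * g⁻¹ * b⁻¹ * ⁅g, v⁆ * (b * v) := by
        have h2 : g * (b * v) * g⁻¹ = g * b * g⁻¹ * b⁻¹ * (b * ⁅g, v⁆) * v := by
          rw [commutatorElement_def]; group
        rw [h2, mem_center_iff.mp hgvc b]; group
      rw [h1]
      exact mul_mem ((zpowers_le.mpr (hbvp ▸ pow_mem (mem_zpowers _) p)) (mul_mem hbd hgv)) (mem_zpowers _)
    · show zpowers ((c * ((c ^ p) ^ i * v)) ^ p) ⊔ V = _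
      rw [← mul_assoc, hbvp, hbp]
  -- split into cosets
  let F : P → Finset P := fun c => Finset.univ.filter fun x => c⁻¹ * x ∈ K c
  have hFsub : ∀ c ∈ X, F c ⊆ X := fun c hc x hx => by
    simp only [X, F, Finset.mem_filter, Finset.mem_univ, true_and] at hc hx ⊢
    have := hmove c hc.1 hc.2 _ hx
    rw [mul_inv_cancel_left] at this
    exact ⟨this.1, this.2.1⟩
  have hFeq : ∀ c ∈ X, ∀ x ∈ F c, F x = F c := fun c hc x hx => by
    simp only [X, F, Finset.mem_filter, Finset.mem_univ, true_and] at hc hx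
    have := (hmove c hc.1 hc.2 _ hx).2.2
    rw [mul_inv_cancel_left] at this
    ext y
    simp only [F, Finset.mem_filter, Finset.mem_univ, true_and, this]
    rw [show c⁻¹ * y = c⁻¹ * x * (x⁻¹ * y) by group]
    exact (Subgroup.mul_mem_cancel_left _ hx).symm
  rw [Finset.card_eq_sum_card_image F]
  refine Finset.dvd_sum fun S hS => ?_
  simp only [Finset.mem_image] at hS
  obtain ⟨c, hc, rfl⟩ := hS
  have hset : (X.filter fun x => F x = F c) = F c := by
    ext x
    refine ⟨fun h => ?_, fun h => ?_⟩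
    · rw [Finset.mem_filter] at h
      rw [← h.2]
      simp [F]
    · exact Finset.mem_filter.mpr ⟨hFsub c hc h, hFeq c hc x h⟩
  rw [hset]
  have hc' : (zpowers c).Normal ∧ orderOf c = p ^ s := by simpa [X] using hc
  have hcard : (F c).card = Nat.card (K c) := by
    rw [Nat.card_eq_fintype_card, Fintype.card_subtype]
    refine Finset.card_bij (fun x _ => c⁻¹ * x) (fun x hx => by simpa [F] using hx)
      (fun x _ y _ h => mul_left_cancel h) (fun k hk => ⟨c * k, by simpa [F] using hk, by group⟩)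
  rw [hcard]
  -- the order of `K c`
  obtain ⟨k, hk⟩ := IsPGroup.iff_card.mp (hP.to_subgroup (K c))
  rw [hk]
  refine pow_dvd_pow p ?_
  by_contra hlt
  have h1 : Nat.card (zpowers (c ^ p)) = p ^ (s - 1) := by
    rw [Nat.card_zpowers, orderOf_pow_of_dvd hp.out.ne_zero (hc'.2 ▸ dvd_pow_self p (by omega)), hc'.2,
      Nat.div_eq_of_eq_mul_left hp.out.pos (by rw [← pow_succ, show s - 1 + 1 = s by omega])]
  have h2 : p ^ (s - 1) ∣ p ^ k := by
    rw [← h1, ← hk]; exact card_dvd_of_le le_sup_left
  rw [Nat.pow_dvd_pow_iff_le_right hp.out.one_lt] at h2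
  have heq : zpowers (c ^ p) = K c := eq_of_le_of_card_ge le_sup_left
    (by rw [h1, hk, show k = s - 1 by omega])
  have hVle : V ≤ zpowers (c ^ p) := heq.symm ▸ le_sup_right
  haveI : IsCyclic V := isCyclic_of_injective (Subgroup.inclusion hVle) (inclusion_injective _)
  obtain ⟨v, hv⟩ := IsCyclic.exists_ofOrder_eq_natCard (α := V)
  have h3 : orderOf v ∣ p := orderOf_dvd_of_pow_eq_one (Subtype.ext (hVe.2 v v.2))
  rw [hv, hVc] at h3
  exact absurd (Nat.le_of_dvd hp.out.pos h3) (not_le.mpr (by nlinarith [hp.out.two_le]))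

/-- Miller's theorem. -/
theorem dvd_card_orderOf {G : Type*} [Group G] [Finite G] (hp2 : p ≠ 2) (P : Sylow p G)
    (hP : ¬ IsCyclic (P : Subgroup G)) {s : ℕ} (hs : 1 < s) :
    p ^ s ∣ Nat.card {u : G // orderOf u = p ^ s} := by
  classical
  haveI := Fintype.ofFinite G
  haveI := Fintype.ofFinite (Subgroup G)
  have h1 := card_generators_eq (fun _ : Subgroup G => True) (p ^ s)
  have h2 := card_generators_eq (fun C : Subgroup P => C.Normal) (p ^ s)
  have h3 := dvd_card_normal_cyclic hp2 P.2 hP hs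
  beta_reduce at h2
  rw [h2] at h3
  simp only [true_and] at h1
  rw [h1]
  have hk : p ∣ Nat.card {C : Subgroup P // C.Normal ∧ ∃ u, orderOf u = p ^ s ∧ zpowers u = C} := by
    rw [Nat.totient_prime_pow hp.out (by omega)] at h3
    have h4 : p ^ (s - 1) * p ∣ p ^ (s - 1) * ((p - 1) *
        Nat.card {C : Subgroup P // C.Normal ∧ ∃ u, orderOf u = p ^ s ∧ zpowers u = C}) := by
      rwa [← pow_succ, show s - 1 + 1 = s by omega, ← mul_assoc]
    refine ((Nat.Prime.coprime_iff_not_dvd hp.out).mpr ?_).dvd_of_dvd_mul_left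
      (Nat.dvd_of_mul_dvd_mul_left (pow_pos hp.out.pos _) h4)
    exact Nat.not_dvd_of_pos_of_lt (by have := hp.out.two_le; omega) (by have := hp.out.two_le; omega)
  suffices hd : p ∣ Nat.card {C : Subgroup G // ∃ u, orderOf u = p ^ s ∧ zpowers u = C} by
    rw [Nat.totient_prime_pow hp.out (by omega), mul_assoc]
    refine dvd_trans (dvd_of_eq (show p ^ s = p ^ (s - 1) * p by
      rw [← pow_succ, show s - 1 + 1 = s by omega])) ?_
    exact mul_dvd_mul_left _ (hd.mul_left _)
  -- the action of `P`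
  let D := {C : Subgroup G // ∃ u, orderOf u = p ^ s ∧ zpowers u = C}
  letI : MulAction P D :=
    { smul := fun g C => ⟨C.1.map (MulAut.conj (g : G)).toMonoidHom, by
        obtain ⟨u, hu, huC⟩ := C.2
        exact ⟨MulAut.conj (g : G) u, by rw [MulEquiv.orderOf_eq, hu], by
          rw [← huC, MonoidHom.map_zpowers]; rfl⟩⟩
      one_smul := fun C => Subtype.ext (Cfsg.Lib.Coprime.conjMap_one C.1)
      mul_smul := fun a b C => Subtype.ext (Cfsg.Lib.Coprime.conjMap_mul (a : G) b C.1).symm }
  have hmod := P.2.card_modEq_card_fixedPoints D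
  refine (Nat.modEq_zero_iff_dvd).mp (hmod.trans (Nat.modEq_zero_iff_dvd.mpr ?_))
  have hfix : ∀ C : D, C ∈ MulAction.fixedPoints P D ↔ C.1 ≤ (P : Subgroup G) ∧
      (C.1.subgroupOf (P : Subgroup G)).Normal := by
    intro C
    rw [MulAction.mem_fixedPoints]
    constructor
    · intro h
      have hPN : (P : Subgroup G) ≤ normalizer (C.1 : Set G) := fun g hg =>
        Cfsg.Lib.Coprime.conjMap_eq_self_iff.mp (congrArg Subtype.val (h ⟨g, hg⟩))
      obtain ⟨u, hu, huC⟩ := C.2
      have hCp : IsPGroup p C.1 := IsPGroup.of_card (n := s) (by rw [← huC, Nat.card_zpowers, hu])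
      have hsup := P.3 (hCp.to_sup_of_normal_left' P.2 hPN) le_sup_right
      have hle : C.1 ≤ (P : Subgroup G) := hsup ▸ le_sup_left
      exact ⟨hle, (normal_subgroupOf_iff_le_normalizer hle).mpr hPN⟩
    · rintro ⟨hle, hn⟩ g
      exact Subtype.ext (Cfsg.Lib.Coprime.conjMap_eq_self
        (((normal_subgroupOf_iff_le_normalizer hle).mp hn) g.2))
  refine hk.trans (dvd_of_eq (Nat.card_congr ?_))
  exact
    { toFun := fun C => ⟨⟨C.1.map (P : Subgroup G).subtype, by
          obtain ⟨u, hu, huC⟩ := C.2.2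
          exact ⟨u, by rw [Subgroup.orderOf_coe, hu], by rw [← huC, MonoidHom.map_zpowers]; rfl⟩⟩,
        (hfix _).mpr ⟨map_subtype_le _, by
          rw [subgroupOf, comap_map_eq_self_of_injective (P : Subgroup G).subtype_injective]
          exact C.2.1⟩⟩
      invFun := fun C => ⟨C.1.1.subgroupOf (P : Subgroup G), ((hfix _).mp C.2).2, by
        obtain ⟨u, hu, huC⟩ := C.1.2
        have hle := ((hfix _).mp C.2).1
        have huP : u ∈ (P : Subgroup G) := hle (huC ▸ mem_zpowers u)
        refine ⟨⟨u, huP⟩, by rw [Subgroup.orderOf_mk]; exact hu, ?_⟩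
        apply Subgroup.map_injective (P : Subgroup G).subtype_injective
        rw [MonoidHom.map_zpowers, subgroupOf_map_subtype, inf_eq_left.mpr hle]
        exact huC⟩
      left_inv := fun C => Subtype.ext
        (comap_map_eq_self_of_injective (P : Subgroup G).subtype_injective C.1)
      right_inv := fun C => Subtype.ext (Subtype.ext (by
        show (C.1.1.subgroupOf (P : Subgroup G)).map (P : Subgroup G).subtype = C.1.1
        rw [subgroupOf_map_subtype, inf_eq_left.mpr ((hfix _).mp C.2).1])) }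


/-- Let G be a finite group, p an odd prime dividing the order of G whose Sylow p-subgroups are not cyclic, and n = p^s·m with s > 1 and m coprime to p. Then the number of elements of G of order n is a multiple of p^s. -/
theorem result {G : Type*} [Group G] [Finite G] (p : ℕ) [Fact p.Prime] (hodd : p ≠ 2) (hpG : p ∣ Nat.card G)
    (P : Sylow p G) (hP : ¬ IsCyclic ↥(P : Subgroup G)) (s m : ℕ) (hs : 1 < s) (hm : Nat.Coprime p m) :
    p ^ s ∣ Nat.card {g : G // orderOf g = p ^ s * m} := by
  classical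
  haveI := Fintype.ofFinite G
  have hm0 : m ≠ 0 := fun h => by
    rw [h, Nat.coprime_zero_right] at hm
    exact (Fact.out : p.Prime).ne_one hm
  have hcop : (p ^ s).Coprime m := hm.pow_left s
  let e := (Nat.chineseRemainder hcop 1 0).1
  let f := (Nat.chineseRemainder hcop 0 1).1
  obtain ⟨he1, he0⟩ := (Nat.chineseRemainder hcop 1 0).2
  obtain ⟨hf0, hf1⟩ := (Nat.chineseRemainder hcop 0 1).2
  have hef : e + f ≡ 1 [MOD p ^ s * m] :=
    (Nat.modEq_and_modEq_iff_modEq_mul hcop).mp ⟨by simpa using he1.add hf0, by simpa using he0.add hf1⟩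
  have hsplit : ∀ g : G, orderOf g = p ^ s * m →
      g ^ e * g ^ f = g ∧ orderOf (g ^ e) = p ^ s ∧ orderOf (g ^ f) = m := by
    intro g hg
    have hprod : g ^ e * g ^ f = g := by
      rw [← pow_add]
      nth_rewrite 2 [← pow_one g]
      exact pow_eq_pow_iff_modEq.mpr (hg ▸ hef)
    have h1 : orderOf (g ^ e) ∣ p ^ s := orderOf_dvd_of_pow_eq_one (by
      rw [← pow_mul, ← orderOf_dvd_iff_pow_eq_one, hg, mul_comm e]
      exact mul_dvd_mul_left _ (Nat.modEq_zero_iff_dvd.mp he0))
    have h2 : orderOf (g ^ f) ∣ m := orderOf_dvd_of_pow_eq_one (by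
      rw [← pow_mul, ← orderOf_dvd_iff_pow_eq_one, hg]
      exact mul_dvd_mul_right (Nat.modEq_zero_iff_dvd.mp hf0) m)
    have h3 : orderOf (g ^ e) * orderOf (g ^ f) = p ^ s * m := by
      rw [← hg, ← ((Commute.refl g).pow_pow e f).orderOf_mul_eq_mul_orderOf_of_coprime
        ((hcop.coprime_dvd_left h1).coprime_dvd_right h2), hprod]
    obtain ⟨a, ha⟩ := h1
    obtain ⟨b, hb⟩ := h2
    have hpos : 0 < orderOf (g ^ e) * orderOf (g ^ f) := Nat.mul_pos (orderOf_pos _) (orderOf_pos _)
    have hab : a * b = 1 := by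
      have : orderOf (g ^ e) * orderOf (g ^ f) * (a * b) = orderOf (g ^ e) * orderOf (g ^ f) * 1 := by
        rw [mul_one, mul_mul_mul_comm, ← ha, ← hb, h3]
      exact Nat.eq_of_mul_eq_mul_left hpos this
    obtain ⟨rfl, rfl⟩ := mul_eq_one.mp hab
    exact ⟨hprod, by rw [ha, mul_one], by rw [hb, mul_one]⟩
  let F : (Σ v : {v : G // orderOf v = m}, {u : Subgroup.centralizer ({v.1} : Set G) // orderOf u = p ^ s}) →
      {g : G // orderOf g = p ^ s * m} := fun x => ⟨(x.2.1 : G) * x.1.1, by
    rw [(show Commute (x.2.1 : G) x.1.1 from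
        Subgroup.mem_centralizer_singleton_iff.mp x.2.1.2).orderOf_mul_eq_mul_orderOf_of_coprime
      (by rw [Subgroup.orderOf_coe, x.2.2, x.1.2]; exact hcop), Subgroup.orderOf_coe, x.2.2, x.1.2]⟩
  have hrec : ∀ u v : G, Commute u v → orderOf u = p ^ s → orderOf v = m →
      (u * v) ^ e = u ∧ (u * v) ^ f = v := by
    intro u v hc hu hv
    have h1 : u ^ f = 1 := orderOf_dvd_iff_pow_eq_one.mp (hu.symm ▸ Nat.modEq_zero_iff_dvd.mp hf0)
    have h2 : v ^ e = 1 := orderOf_dvd_iff_pow_eq_one.mp (hv.symm ▸ Nat.modEq_zero_iff_dvd.mp he0)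
    have h3 : u ^ e = u ^ 1 := pow_eq_pow_iff_modEq.mpr (hu.symm ▸ he1)
    have h4 : v ^ f = v ^ 1 := pow_eq_pow_iff_modEq.mpr (hv.symm ▸ hf1)
    rw [hc.mul_pow, hc.mul_pow, h1, h2, h3, h4, one_mul, mul_one, pow_one, pow_one]
    exact ⟨rfl, rfl⟩
  have hF : Function.Bijective F := by
    refine ⟨?_, fun g => ⟨⟨⟨g.1 ^ f, (hsplit g g.2).2.2⟩, ⟨⟨g.1 ^ e, Subgroup.mem_centralizer_singleton_iff.mpr
      ((Commute.refl g.1).pow_pow e f)⟩, by rw [Subgroup.orderOf_mk]; exact (hsplit g g.2).2.1⟩⟩,
      Subtype.ext (hsplit g g.2).1⟩⟩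
    rintro ⟨⟨v, hv⟩, ⟨⟨u, hu⟩, huo⟩⟩ ⟨⟨v', hv'⟩, ⟨⟨u', hu'⟩, huo'⟩⟩ h
    have h' : u * v = u' * v' := congrArg Subtype.val h
    obtain ⟨e1, e2⟩ := hrec u v (Subgroup.mem_centralizer_singleton_iff.mp hu)
      ((Subgroup.orderOf_coe _).trans huo) hv
    obtain ⟨e1', e2'⟩ := hrec u' v' (Subgroup.mem_centralizer_singleton_iff.mp hu')
      ((Subgroup.orderOf_coe _).trans huo') hv'
    rw [h'] at e1 e2
    obtain rfl := e1.symm.trans e1'
    obtain rfl := e2.symm.trans e2'
    rfl
  rw [← Nat.card_congr (Equiv.ofBijective F hF), Nat.card_sigma]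
  let N : G → ℕ := fun v => Nat.card {u : Subgroup.centralizer ({v} : Set G) // orderOf u = p ^ s}
  rw [← Finset.sum_subtype (Finset.univ.filter fun v : G => orderOf v = m) (by simp) N]
  rw [← Finset.sum_fiberwise_of_maps_to (t := Finset.univ.image ConjClasses.mk) (g := ConjClasses.mk)
    (fun v _ => Finset.mem_image_of_mem _ (Finset.mem_univ v)) N]
  refine Finset.dvd_sum fun cl hcl => ?_
  obtain ⟨v, -, rfl⟩ := Finset.mem_image.mp hcl
  by_cases hv : orderOf v = m
  swap
  · refine Finset.dvd_sum fun w hw => ?_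
    rw [Finset.mem_filter, Finset.mem_filter] at hw
    obtain ⟨g, hg⟩ := isConj_iff.mp (ConjClasses.mk_eq_mk_iff_isConj.mp hw.2)
    exact absurd (by rw [← hg]; exact ((MulAut.conj g).orderOf_eq w).trans hw.1.2) hv
  have hconst : ∀ w ∈ (Finset.univ.filter fun v : G => orderOf v = m).filter
      (fun w => ConjClasses.mk w = ConjClasses.mk v), N w = N v := by
    intro w hw
    obtain ⟨g, hg⟩ := isConj_iff.mp (ConjClasses.mk_eq_mk_iff_isConj.mp (Finset.mem_filter.mp hw).2)
    have hmap : (Subgroup.centralizer ({w} : Set G)).map (MulAut.conj g).toMonoidHom =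
        Subgroup.centralizer ({v} : Set G) := by
      rw [← hg]
      ext x
      refine Iff.trans Cfsg.Lib.Coprime.mem_conjMap ?_
      rw [Subgroup.mem_centralizer_singleton_iff, Subgroup.mem_centralizer_singleton_iff]
      constructor
      · intro h
        calc x * (g * w * g⁻¹) = g * (g⁻¹ * x * g * w) * g⁻¹ := by group
          _ = g * (w * (g⁻¹ * x * g)) * g⁻¹ := by rw [h]
          _ = g * w * g⁻¹ * x := by group
      · intro h
        calc g⁻¹ * x * g * w = g⁻¹ * (x * (g * w * g⁻¹)) * g := by group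
          _ = g⁻¹ * (g * w * g⁻¹ * x) * g := by rw [h]
          _ = w * (g⁻¹ * x * g) := by group
    let φ := ((Subgroup.centralizer ({w} : Set G)).equivMapOfInjective _
      (MulAut.conj g).injective).trans (MulEquiv.subgroupCongr hmap)
    exact Nat.card_congr (φ.toEquiv.subtypeEquiv fun u => by simp)
  rw [Finset.sum_congr rfl hconst, Finset.sum_const, smul_eq_mul]
  have hclass : ((Finset.univ.filter fun v : G => orderOf v = m).filter
      fun w => ConjClasses.mk w = ConjClasses.mk v).card = (Subgroup.centralizer ({v} : Set G)).index := by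
    rw [← Cfsg.Lib.Chars.card_isConj, Nat.card_eq_fintype_card, Fintype.card_subtype, Finset.filter_filter]
    congr 1
    ext w
    simp only [Finset.mem_filter, Finset.mem_univ, true_and, ConjClasses.mk_eq_mk_iff_isConj]
    refine ⟨fun h => h.2.symm, fun h => ⟨?_, h.symm⟩⟩
    obtain ⟨g, hg⟩ := isConj_iff.mp h
    rw [← hg, ← hv]
    exact (MulAut.conj g).orderOf_eq v
  rw [hclass]
  set C := Subgroup.centralizer ({v} : Set G)
  obtain ⟨Q⟩ : Nonempty (Sylow p C) := inferInstance
  by_cases hQ : IsCyclic (Q : Subgroup C)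
  swap
  · exact (dvd_card_orderOf hodd Q hQ hs).mul_left _
  -- cyclic Sylow subgroup: the index is divisible by `p`
  have hidx : p ∣ C.index := by
    by_contra hd
    apply hP
    have hQp : IsPGroup p ((Q : Subgroup C).map C.subtype) := Q.2.map _
    have hQi : ¬ p ∣ ((Q : Subgroup C).map C.subtype).index := by
      rw [Subgroup.index_map_subtype]
      exact (Fact.out : p.Prime).not_dvd_mul Q.not_dvd_index hd
    let Q' : Sylow p G := hQp.toSylow hQi
    have hQ'c : IsCyclic ((Q : Subgroup C).map C.subtype) :=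
      ((Q : Subgroup C).equivMapOfInjective _ C.subtype_injective).isCyclic.mp hQ
    obtain ⟨g, hg⟩ := MulAction.exists_smul_eq G Q' P
    exact (Sylow.equiv Q' P).isCyclic.mp hQ'c
  have h1 := card_generators_eq (fun _ : Subgroup C => True) (p ^ s)
  simp only [true_and] at h1
  show p ^ s ∣ C.index * Nat.card {u : C // orderOf u = p ^ s}
  rw [h1, ← mul_assoc, Nat.totient_prime_pow (Fact.out : p.Prime) (by omega), ← mul_assoc]
  refine Dvd.dvd.mul_right (Dvd.dvd.mul_right ?_ _) _
  rw [show p ^ s = p * p ^ (s - 1) by rw [← pow_succ', show s - 1 + 1 = s by omega]]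
  exact mul_dvd_mul_right hidx _

end Cfsg.Agent.S4003
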