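import Cfsg.Statements.S4009
import Mathlib
import Cfsg.Prelude
import Cfsg.Agent.SolvStruct.Basics

set_option autoImplicit false

namespace Cfsg.Agent.S4009

open Subgroup
open scoped commutatorElement

variable {G : Type*} [Group G] [Finite G]

/-- iterated commutators of a subgroup with the whole group -/
def cs (N : Subgroup G) : ℕ → Subgroup G
  | 0 => N
  | j + 1 => ⁅cs N j, (⊤ : Subgroup G)⁆

theorem cs_normal (N : Subgroup G) [N.Normal] : ∀ j, (cs N j).Normal
  | 0 => inferInstanceAs N.Normal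
  | j + 1 => by
    haveI := cs_normal N j
    exact inferInstanceAs (⁅cs N j, (⊤ : Subgroup G)⁆).Normal

theorem cs_succ_le (N : Subgroup G) [N.Normal] (j : ℕ) : cs N (j + 1) ≤ cs N j := by
  haveI := cs_normal N j
  exact commutator_le_left _ _

theorem cs_anti (N : Subgroup G) [N.Normal] : Antitone (cs N) :=
  antitone_nat_of_succ_le (cs_succ_le N)

theorem cs_le_lcs (N : Subgroup G) : ∀ j, cs N j ≤ (⊤ : Subgroup G).lowerCentralSeries j
  | 0 => le_top
  | j + 1 => commutator_mono (cs_le_lcs N j) le_rfl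

/-- `[γ_{m+1}, [N, jG]] ≤ [N, (j+m+1)G]` -/
theorem lcs_commutator_cs (N : Subgroup G) [N.Normal] : ∀ m j,
    ⁅(⊤ : Subgroup G).lowerCentralSeries m, cs N j⁆ ≤ cs N (j + m + 1) := by
  intro m
  induction m with
  | zero => intro j; rw [Subgroup.lowerCentralSeries_zero, commutator_comm]; exact le_rfl
  | succ m ih =>
    intro j
    haveI := cs_normal N (j + (m + 1) + 1)
    rw [Subgroup.lowerCentralSeries_succ]
    refine Cfsg.Lib.SolvStruct.three_subgroup_le ?_ ?_
    · calc ⁅⁅(⊤ : Subgroup G), cs N j⁆, (⊤ : Subgroup G).lowerCentralSeries m⁆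
          ≤ ⁅(⊤ : Subgroup G).lowerCentralSeries m, cs N (j + 1)⁆ := by
            rw [commutator_comm (⊤ : Subgroup G), commutator_comm ((⊤ : Subgroup G).lowerCentralSeries m)]
            exact le_rfl
        _ ≤ cs N (j + 1 + m + 1) := ih (j + 1)
        _ = cs N (j + (m + 1) + 1) := by congr 1; omega
    · calc ⁅⁅cs N j, (⊤ : Subgroup G).lowerCentralSeries m⁆, (⊤ : Subgroup G)⁆
          ≤ ⁅cs N (j + m + 1), (⊤ : Subgroup G)⁆ :=
            commutator_mono ((commutator_comm _ _).le.trans (ih j)) le_rfl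
        _ = cs N (j + (m + 1) + 1) := by
            change cs N (j + m + 1 + 1) = _
            congr 1

/-- `γ r`, counted from `γ 1 = ⊤` -/
def gam (r : ℕ) : Subgroup G := (⊤ : Subgroup G).lowerCentralSeries (r - 1)

theorem gam_anti {a b : ℕ} (h : a ≤ b) : (gam b : Subgroup G) ≤ gam a :=
  (⊤ : Subgroup G).lowerCentralSeries_antitone (by omega)

theorem gam_normal (r : ℕ) : (gam r : Subgroup G).Normal := by
  unfold gam; infer_instance

theorem cs_gam (b : ℕ) (hb : 1 ≤ b) : ∀ j, cs (gam b : Subgroup G) j = gam (b + j)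
  | 0 => rfl
  | j + 1 => by
    change ⁅cs (gam b : Subgroup G) j, (⊤ : Subgroup G)⁆ = _
    rw [cs_gam b hb j, gam, gam, show b + (j + 1) - 1 = b + j - 1 + 1 by omega, Subgroup.lowerCentralSeries_succ]

theorem gam_commutator {a b : ℕ} (ha : 1 ≤ a) (hb : 1 ≤ b) :
    ⁅(gam a : Subgroup G), (gam b : Subgroup G)⁆ ≤ gam (a + b) := by
  haveI := gam_normal (G := G) b
  have h := lcs_commutator_cs (gam b : Subgroup G) (a - 1) 0
  simp only [cs_gam b hb, add_zero] at h
  calc ⁅(gam a : Subgroup G), (gam b : Subgroup G)⁆ ≤ gam (b + (0 + (a - 1) + 1)) := h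
    _ = gam (a + b) := by congr 1; omega

theorem commutator_sup_le (A B C R : Subgroup G) [A.Normal] [R.Normal]
    (hA : ⁅A, C⁆ ≤ R) (hB : ⁅B, C⁆ ≤ R) : ⁅A ⊔ B, C⁆ ≤ R := by
  rw [commutator_le]
  intro x hx c hc
  rw [← SetLike.mem_coe, Subgroup.normal_mul] at hx
  obtain ⟨a, ha, b, hb, rfl⟩ := hx
  rw [commutatorElement_mul_left_eq_conj_mul]
  exact R.mul_mem (‹R.Normal›.conj_mem _ (hB (commutator_mem_commutator hb hc)) _)
    (hA (commutator_mem_commutator ha hc))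

/-- first layer is cyclic -/
def CycTop (N : Subgroup G) : Prop :=
  ∃ a ∈ N, N ≤ zpowers a ⊔ (cs N 1 ⊔ ⁅N, N⁆)

variable {p : ℕ} [Fact p.Prime]

theorem card_step (hG : IsPGroup p G) {K H : Subgroup G} (h : K < H) :
    p * Nat.card K ≤ Nat.card H := by
  obtain ⟨a, ha⟩ := (hG.to_subgroup K).exists_card_eq
  obtain ⟨b, hb⟩ := (hG.to_subgroup H).exists_card_eq
  have hp := (Fact.out : p.Prime)
  have hne : Nat.card K < Nat.card H := by
    refine lt_of_le_of_ne (Subgroup.card_le_of_le h.le) fun heq => h.ne ?_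
    exact Subgroup.eq_of_le_of_card_ge h.le heq.ge
  rw [ha, hb] at hne ⊢
  have hab : a < b := (Nat.pow_lt_pow_iff_right hp.one_lt).1 hne
  rw [← pow_succ']
  exact Nat.pow_le_pow_right hp.pos hab

theorem stable_le (hG : IsPGroup p G) (N : Subgroup G) [N.Normal] {j : ℕ}
    (h : cs N j ≤ cs N (j + 1) ⊔ ⁅N, N⁆) : cs N j ≤ ⁅N, N⁆ := by
  haveI := hG.isNilpotent
  have key : ∀ i, cs N (j + i) ≤ cs N (j + i + 1) ⊔ ⁅N, N⁆ := by
    intro i
    induction i with
    | zero => exact h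
    | succ i ih =>
      haveI := cs_normal N (j + i + 1)
      haveI := cs_normal N (j + i + 1 + 1)
      calc cs N (j + (i + 1)) = ⁅cs N (j + i), (⊤ : Subgroup G)⁆ := rfl
        _ ≤ ⁅cs N (j + i + 1) ⊔ ⁅N, N⁆, (⊤ : Subgroup G)⁆ := commutator_mono ih le_rfl
        _ ≤ cs N (j + (i + 1) + 1) ⊔ ⁅N, N⁆ := by
          refine commutator_sup_le _ _ _ _ ?_ ?_
          · exact le_sup_left
          · exact (commutator_le_left _ _).trans le_sup_right
  have key2 : ∀ i, cs N j ≤ cs N (j + i) ⊔ ⁅N, N⁆ := by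
    intro i
    induction i with
    | zero => exact le_sup_left
    | succ i ih => exact ih.trans (sup_le (key i) le_sup_right)
  obtain ⟨c, hc⟩ := Subgroup.nilpotent_iff_lowerCentralSeries.1 (inferInstance : Group.IsNilpotent G)
  refine (key2 c).trans (sup_le ?_ le_rfl)
  exact ((cs_le_lcs N (j + c)).trans (((⊤ : Subgroup G).lowerCentralSeries_antitone (by omega)).trans hc.le)).trans bot_le

theorem layers (hG : IsPGroup p G) (N : Subgroup G) [N.Normal] :
    ∀ d, (∀ i, i < d → ¬ cs N (1 + i) ≤ ⁅N, N⁆) →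
      p ^ d * Nat.card ↥(cs N (1 + d) ⊔ ⁅N, N⁆) ≤ Nat.card ↥(cs N 1 ⊔ ⁅N, N⁆) := by
  intro d
  induction d with
  | zero => intro _; simp
  | succ d ih =>
    intro h
    have hlt : cs N (1 + (d + 1)) ⊔ ⁅N, N⁆ < cs N (1 + d) ⊔ ⁅N, N⁆ := by
      refine lt_of_le_of_ne (sup_le_sup_right (cs_succ_le N (1 + d)) _) fun heq => h d (by omega) ?_
      exact stable_le hG N (le_sup_left.trans heq.ge)
    calc p ^ (d + 1) * Nat.card ↥(cs N (1 + (d + 1)) ⊔ ⁅N, N⁆)
        = p ^ d * (p * Nat.card ↥(cs N (1 + (d + 1)) ⊔ ⁅N, N⁆)) := by ring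
      _ ≤ p ^ d * Nat.card ↥(cs N (1 + d) ⊔ ⁅N, N⁆) := Nat.mul_le_mul_left _ (card_step hG hlt)
      _ ≤ _ := ih fun i hi => h i (by omega)

theorem top_lt (hG : IsPGroup p G) (N : Subgroup G) [N.Normal] (h : ⁅N, N⁆ ≠ ⊥) :
    cs N 1 ⊔ ⁅N, N⁆ < N := by
  haveI := hG.isNilpotent
  refine lt_of_le_of_ne (sup_le (cs_succ_le N 0) (commutator_le_left _ _)) fun heq => ?_
  have h1 : cs N 0 ≤ cs N (0 + 1) ⊔ ⁅N, N⁆ := heq.ge
  have h2 : N ≤ ⁅N, N⁆ := stable_le hG N h1
  have h3 : ∀ i, N ≤ (⊤ : Subgroup G).lowerCentralSeries i := by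
    intro i
    induction i with
    | zero => exact le_top
    | succ i ih => exact h2.trans (commutator_mono ih le_top)
  obtain ⟨c, hc⟩ := Subgroup.nilpotent_iff_lowerCentralSeries.1 (inferInstance : Group.IsNilpotent G)
  exact h (eq_bot_iff.2 ((commutator_le_left N N).trans ((h3 c).trans hc.le)))

theorem not_le_commutator_top (hG : IsPGroup p G) (M : Subgroup G) (h : M ≠ ⊥) :
    ¬ M ≤ ⁅M, (⊤ : Subgroup G)⁆ := by
  intro hle
  haveI := hG.isNilpotent
  have h3 : ∀ i, M ≤ (⊤ : Subgroup G).lowerCentralSeries i := by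
    intro i
    induction i with
    | zero => exact le_top
    | succ i ih => exact hle.trans (commutator_mono ih le_rfl)
  obtain ⟨c, hc⟩ := Subgroup.nilpotent_iff_lowerCentralSeries.1 (inferInstance : Group.IsNilpotent G)
  exact h (eq_bot_iff.2 ((h3 c).trans hc.le))

theorem cs_succ_le_of (N : Subgroup G) [N.Normal] {j k : ℕ} (hjk : j + 1 ≤ k)
    (h : cs N j ≤ ⁅N, N⁆) : cs N k ≤ ⁅⁅N, N⁆, (⊤ : Subgroup G)⁆ :=
  (cs_anti N hjk).trans (commutator_mono h le_rfl)

/-- below degree `r` no layer is trivial -/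
theorem not_cs_le (hG : IsPGroup p G) (N : Subgroup G) [N.Normal] {r : ℕ} (hr : 1 ≤ r)
    (hN : N ≤ gam r) (hne : ⁅N, N⁆ ≠ ⊥) {j : ℕ} (hj : j < r) : ¬ cs N j ≤ ⁅N, N⁆ := by
  intro h
  refine not_le_commutator_top hG _ hne ?_
  calc ⁅N, N⁆ ≤ ⁅(gam r : Subgroup G), cs N 0⁆ := commutator_mono hN le_rfl
    _ ≤ cs N (0 + (r - 1) + 1) := lcs_commutator_cs N (r - 1) 0
    _ ≤ _ := cs_succ_le_of N (by omega) h

theorem comm_first_le (N : Subgroup G) [N.Normal] {r : ℕ} (hr : 1 ≤ r) (hN : N ≤ gam r) :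
    ⁅cs N 1 ⊔ ⁅N, N⁆, N⁆ ≤ cs N (r + 1) ⊔ ⁅⁅N, N⁆, (⊤ : Subgroup G)⁆ := by
  haveI := cs_normal N 1
  haveI := cs_normal N (r + 1)
  refine commutator_sup_le _ _ _ _ ?_ ?_
  · calc ⁅cs N 1, N⁆ ≤ ⁅(gam r : Subgroup G), cs N 1⁆ :=
          (commutator_mono le_rfl hN).trans (commutator_comm _ _).le
      _ ≤ cs N (1 + (r - 1) + 1) := lcs_commutator_cs N (r - 1) 1
      _ ≤ _ := by rw [show 1 + (r - 1) + 1 = r + 1 by omega]; exact le_sup_left
  · exact (commutator_mono le_rfl le_top).trans le_sup_right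

omit [Finite G] in
theorem abelian_mod (N S : Subgroup G) [S.Normal] (gens : Set G) (hgen : N ≤ closure gens)
    (hc : ∀ x ∈ gens, ∀ y ∈ gens, ⁅x, y⁆ ∈ S) : ⁅N, N⁆ ≤ S := by
  have h1 : (⁅closure gens, closure gens⁆).map (QuotientGroup.mk' S) = ⊥ := by
    rw [map_commutator, MonoidHom.map_closure, commutator_eq_bot_iff_le_centralizer, closure_le]
    rintro _ ⟨x, hx, rfl⟩
    rw [SetLike.mem_coe, centralizer_closure, mem_centralizer_iff]
    rintro _ ⟨y, hy, rfl⟩
    rw [← commutatorElement_eq_one_iff_mul_comm, ← map_commutatorElement, QuotientGroup.mk'_apply,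
      QuotientGroup.eq_one_iff]
    exact hc y hy x hx
  rw [Subgroup.map_eq_bot_iff, QuotientGroup.ker_mk'] at h1
  exact (commutator_mono hgen hgen).trans h1

/-- a subgroup with cyclic first layer -/
theorem cyc_comm_le (N : Subgroup G) [N.Normal] (h : CycTop N) :
    ⁅N, N⁆ ≤ ⁅cs N 1 ⊔ ⁅N, N⁆, N⁆ := by
  obtain ⟨a, ha, hle⟩ := h
  haveI := cs_normal N 1
  have hM : cs N 1 ⊔ ⁅N, N⁆ ≤ N := sup_le (cs_succ_le N 0) (commutator_le_left _ _)
  refine abelian_mod N _ (insert a ((cs N 1 ⊔ ⁅N, N⁆ : Subgroup G) : Set G)) ?_ ?_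
  · refine hle.trans (sup_le ?_ ?_)
    · rw [zpowers_le]; exact subset_closure (Set.mem_insert _ _)
    · intro x hx; exact subset_closure (Set.mem_insert_of_mem _ hx)
  · intro x hx y hy
    rcases hx with rfl | hx
    · rcases hy with rfl | hy
      · rw [commutatorElement_self]; exact one_mem _
      · rw [← commutatorElement_inv y x]; exact inv_mem (commutator_mem_commutator hy ha)
    · refine commutator_mem_commutator hx ?_
      rcases hy with rfl | hy
      · exact ha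
      · exact hM hy

theorem cyc_step (hG : IsPGroup p G) (N : Subgroup G) [N.Normal] {r : ℕ} (hr : 1 ≤ r)
    (hN : N ≤ gam r) (hne : ⁅N, N⁆ ≠ ⊥) (h : CycTop N) :
    ⁅N, N⁆ ≤ gam (2 * r + 1) ∧ p ^ (r + 1) * Nat.card ↥⁅N, N⁆ ≤ Nat.card N := by
  have hM : cs N 1 ⊔ ⁅N, N⁆ ≤ gam (r + 1) := by
    refine sup_le ?_ ?_
    · rw [← cs_gam r hr 1]; exact commutator_mono hN le_rfl
    · exact ((commutator_mono hN hN).trans (gam_commutator hr hr)).trans (gam_anti (by omega))
  refine ⟨?_, ?_⟩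
  · calc ⁅N, N⁆ ≤ ⁅cs N 1 ⊔ ⁅N, N⁆, N⁆ := cyc_comm_le N h
      _ ≤ ⁅(gam (r + 1) : Subgroup G), (gam r : Subgroup G)⁆ := commutator_mono hM hN
      _ ≤ gam (r + 1 + r) := gam_commutator (by omega) hr
      _ = gam (2 * r + 1) := by congr 1; omega
  have hr' : ¬ cs N r ≤ ⁅N, N⁆ := by
    intro hle
    refine not_le_commutator_top hG _ hne (((cyc_comm_le N h).trans (comm_first_le N hr hN)).trans ?_)
    exact sup_le (cs_succ_le_of N le_rfl hle) le_rfl
  have hl := layers hG N r fun i hi => by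
    rcases (show 1 + i < r ∨ 1 + i = r by omega) with h' | h'
    · exact not_cs_le hG N hr hN hne h'
    · rw [h']; exact hr'
  calc p ^ (r + 1) * Nat.card ↥⁅N, N⁆ = p * (p ^ r * Nat.card ↥⁅N, N⁆) := by ring
    _ ≤ p * (p ^ r * Nat.card ↥(cs N (1 + r) ⊔ ⁅N, N⁆)) :=
        Nat.mul_le_mul_left _ (Nat.mul_le_mul_left _ (Subgroup.card_le_of_le le_sup_right))
    _ ≤ p * Nat.card ↥(cs N 1 ⊔ ⁅N, N⁆) := Nat.mul_le_mul_left _ hl
    _ ≤ _ := card_step hG (top_lt hG N hne)

theorem gen_step (hG : IsPGroup p G) (N : Subgroup G) [N.Normal] {r : ℕ} (hr : 1 ≤ r)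
    (hN : N ≤ gam r) (hne : ⁅N, N⁆ ≠ ⊥) :
    p ^ (r + 2) * Nat.card ↥⁅N, N⁆ ≤ Nat.card N ∨
      (p ^ (r + 1) * Nat.card ↥⁅N, N⁆ ≤ Nat.card N ∧
        (CycTop N ∨ CycTop ⁅N, N⁆)) := by
  by_cases hc : CycTop N
  · exact Or.inr ⟨(cyc_step hG N hr hN hne hc).2, Or.inl hc⟩
  set M := cs N 1 ⊔ ⁅N, N⁆ with hMdef
  have hlt := top_lt hG N hne
  obtain ⟨a, ha, haM⟩ := SetLike.exists_of_lt hlt
  have h1 : M < zpowers a ⊔ M :=
    lt_of_le_of_ne le_sup_right fun heq => haM (heq.ge (mem_sup_left (mem_zpowers a)))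
  have h2 : zpowers a ⊔ M < N := by
    refine lt_of_le_of_ne (sup_le (zpowers_le.2 ha) hlt.le) fun heq => hc ⟨a, ha, heq.ge⟩
  have hl := layers hG N (r - 1) fun i hi => not_cs_le hG N hr hN hne (by omega)
  have e2 : p ^ 2 * Nat.card M ≤ Nat.card N := by
    calc p ^ 2 * Nat.card M = p * (p * Nat.card M) := by ring
      _ ≤ p * Nat.card ↥(zpowers a ⊔ M) := Nat.mul_le_mul_left _ (card_step hG h1)
      _ ≤ _ := card_step hG h2
  have hle1 : p ^ (r - 1) * Nat.card ↥⁅N, N⁆ ≤ Nat.card M :=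
    (Nat.mul_le_mul_left _ (Subgroup.card_le_of_le le_sup_right)).trans hl
  by_cases hr' : cs N r ≤ ⁅N, N⁆
  swap
  · left
    have hl' := layers hG N r fun i hi => by
      rcases (show 1 + i < r ∨ 1 + i = r by omega) with h' | h'
      · exact not_cs_le hG N hr hN hne h'
      · rw [h']; exact hr'
    calc p ^ (r + 2) * Nat.card ↥⁅N, N⁆ = p ^ 2 * (p ^ r * Nat.card ↥⁅N, N⁆) := by ring
      _ ≤ p ^ 2 * (p ^ r * Nat.card ↥(cs N (1 + r) ⊔ ⁅N, N⁆)) :=
          Nat.mul_le_mul_left _ (Nat.mul_le_mul_left _ (Subgroup.card_le_of_le le_sup_right))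
      _ ≤ p ^ 2 * Nat.card M := Nat.mul_le_mul_left _ hl'
      _ ≤ _ := e2
  obtain ⟨b, hb, hbX⟩ := SetLike.exists_of_lt h2
  have h3 : zpowers a ⊔ M < zpowers b ⊔ (zpowers a ⊔ M) :=
    lt_of_le_of_ne le_sup_right fun heq => hbX (heq.ge (mem_sup_left (mem_zpowers b)))
  by_cases heq : zpowers b ⊔ (zpowers a ⊔ M) = N
  swap
  · left
    have h4 : zpowers b ⊔ (zpowers a ⊔ M) < N :=
      lt_of_le_of_ne (sup_le (zpowers_le.2 hb) h2.le) heq
    calc p ^ (r + 2) * Nat.card ↥⁅N, N⁆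
        = p * (p * (p * (p ^ (r - 1) * Nat.card ↥⁅N, N⁆))) := by
          rw [show r + 2 = (r - 1) + 3 by omega]; ring
      _ ≤ p * (p * (p * Nat.card M)) :=
          Nat.mul_le_mul_left _ (Nat.mul_le_mul_left _ (Nat.mul_le_mul_left _ hle1))
      _ ≤ p * (p * Nat.card ↥(zpowers a ⊔ M)) :=
          Nat.mul_le_mul_left _ (Nat.mul_le_mul_left _ (card_step hG h1))
      _ ≤ p * Nat.card ↥(zpowers b ⊔ (zpowers a ⊔ M)) := Nat.mul_le_mul_left _ (card_step hG h3)
      _ ≤ _ := card_step hG h4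
  right
  refine ⟨?_, Or.inr ?_⟩
  · calc p ^ (r + 1) * Nat.card ↥⁅N, N⁆ = p ^ 2 * (p ^ (r - 1) * Nat.card ↥⁅N, N⁆) := by
          rw [show r + 1 = (r - 1) + 2 by omega]; ring
      _ ≤ p ^ 2 * Nat.card M := Nat.mul_le_mul_left _ hle1
      _ ≤ _ := e2
  -- the derived subgroup has cyclic first layer
  set D := ⁅N, N⁆ with hDdef
  set R := ⁅D, (⊤ : Subgroup G)⁆ with hRdef
  have hMN : ∀ m ∈ M, ∀ x ∈ N, ⁅m, x⁆ ∈ R := by
    intro m hm x hx
    have h5 := comm_first_le N hr hN (commutator_mem_commutator hm hx)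
    exact (sup_le (cs_succ_le_of N le_rfl hr') le_rfl) h5
  have hcD : ⁅a, b⁆ ∈ D := commutator_mem_commutator ha hb
  set S := zpowers ⁅a, b⁆ ⊔ R with hSdef
  have hSD : S ≤ D := sup_le (zpowers_le.2 hcD) (commutator_le_left _ _)
  haveI hSn : S.Normal := by
    refine ⟨fun s hs g => ?_⟩
    have h6 : ⁅g, s⁆ ∈ R := by
      rw [← commutatorElement_inv s g]
      exact inv_mem (commutator_mem_commutator (hSD hs) (mem_top g))
    have e : g * s * g⁻¹ = ⁅g, s⁆ * s := by rw [commutatorElement_def]; group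
    rw [e]
    exact mul_mem (mem_sup_right h6) hs
  refine ⟨⁅a, b⁆, hcD, ?_⟩
  refine le_trans ?_ (sup_le_sup_left (le_sup_left : R ≤ cs D 1 ⊔ ⁅D, D⁆) _)
  refine abelian_mod N S (insert a (insert b (M : Set G))) ?_ ?_
  · refine heq.ge.trans (sup_le ?_ (sup_le ?_ ?_))
    · rw [zpowers_le]; exact subset_closure (Set.mem_insert_of_mem _ (Set.mem_insert _ _))
    · rw [zpowers_le]; exact subset_closure (Set.mem_insert _ _)
    · intro x hx; exact subset_closure (Set.mem_insert_of_mem _ (Set.mem_insert_of_mem _ hx))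
  · intro x hx y hy
    have hyN : y ∈ N := by
      rcases hy with rfl | rfl | hy
      · exact ha
      · exact hb
      · exact hlt.le hy
    rcases hx with rfl | rfl | hx
    · rcases hy with rfl | rfl | hy
      · rw [commutatorElement_self]; exact one_mem _
      · exact mem_sup_left (mem_zpowers _)
      · rw [← commutatorElement_inv y x]; exact inv_mem (mem_sup_right (hMN y hy x ha))
    · rcases hy with rfl | rfl | hy
      · rw [← commutatorElement_inv y x]; exact inv_mem (mem_sup_left (mem_zpowers _))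
      · rw [commutatorElement_self]; exact one_mem _
      · rw [← commutatorElement_inv y x]; exact inv_mem (mem_sup_right (hMN y hy x hb))
    · exact mem_sup_right (hMN x hx y hyN)

theorem bound (hG : IsPGroup p G) : ∀ t : ℕ, ∀ N : Subgroup G, N.Normal → ∀ r, 1 ≤ r → N ≤ gam r →
    (fun M : Subgroup G => ⁅M, M⁆)^[t + 1] N ≠ ⊥ →
    p ^ (r * (2 ^ (t + 1) - 1) + 2 * t + (if t = 0 then 2 else 1)) ≤ Nat.card N ∧
    (CycTop N → p ^ (r * (2 ^ (t + 1) - 1) + 2 * t + 2) ≤ Nat.card N) := by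
  intro t
  induction t with
  | zero =>
    intro N hn r hr hN hne
    simp only [zero_add, Function.iterate_one] at hne
    have h1 : p ≤ Nat.card ↥⁅N, N⁆ := by
      have h := card_step hG (bot_lt_iff_ne_bot.2 hne)
      rwa [card_bot, mul_one] at h
    have h2 : p ^ (r + 1) * Nat.card ↥⁅N, N⁆ ≤ Nat.card N := by
      rcases gen_step hG N hr hN hne with h | h
      · exact (Nat.mul_le_mul_right _ (Nat.pow_le_pow_right (Fact.out : p.Prime).pos (by omega))).trans h
      · exact h.1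
    have h3 : p ^ (r + 2) ≤ Nat.card N := by
      rw [pow_succ]; exact (Nat.mul_le_mul_left _ h1).trans h2
    simpa using ⟨h3, fun _ => h3⟩
  | succ t ih =>
    intro N hn r hr hN hne
    rw [Function.iterate_succ_apply] at hne
    have hD : ⁅N, N⁆ ≠ ⊥ := by
      intro h0
      apply hne
      rw [h0]
      apply Function.iterate_fixed
      exact le_bot_iff.1 (commutator_le_left _ _)
    have hpp := (Fact.out : p.Prime).pos
    obtain ⟨P, hP⟩ : ∃ P, 2 ^ (t + 1) = P + 2 :=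
      ⟨2 ^ (t + 1) - 2, by have : 2 ^ 1 ≤ 2 ^ (t + 1) := Nat.pow_le_pow_right (by norm_num) (by omega); omega⟩
    have hP2 : 2 ^ (t + 1 + 1) = 2 * P + 4 := by rw [pow_succ, hP]; ring
    have hcyc : CycTop N → p ^ (r * (2 ^ (t + 1 + 1) - 1) + 2 * (t + 1) + 2) ≤ Nat.card N := by
      intro hc
      obtain ⟨h1, h2⟩ := cyc_step hG N hr hN hD hc
      obtain ⟨h3, -⟩ := ih ⁅N, N⁆ inferInstance (2 * r + 1) (by omega) h1 hne
      refine le_trans ?_ ((Nat.mul_le_mul_left _ h3).trans h2)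
      rw [← pow_add]
      refine Nat.pow_le_pow_right hpp ?_
      rw [hP2, hP, show 2 * P + 4 - 1 = 2 * P + 3 by omega, show P + 2 - 1 = P + 1 by omega]
      by_cases ht : t = 0
      · subst ht
        norm_num at hP
        subst hP
        simp only [if_true]
        omega
      · have : 4 ≤ 2 ^ (t + 1) := by
          calc (4 : ℕ) = 2 ^ 2 := rfl
            _ ≤ _ := Nat.pow_le_pow_right (by norm_num) (by omega)
        rw [if_neg ht]
        nlinarith
    refine ⟨?_, hcyc⟩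
    have h2r : ⁅N, N⁆ ≤ gam (2 * r) := by
      rw [two_mul]; exact (commutator_mono hN hN).trans (gam_commutator hr hr)
    obtain ⟨h3, h4⟩ := ih ⁅N, N⁆ inferInstance (2 * r) (by omega) h2r hne
    rw [if_neg (by omega)]
    rcases gen_step hG N hr hN hD with h | ⟨h, hc | hc⟩
    · refine le_trans ?_ ((Nat.mul_le_mul_left _ h3).trans h)
      rw [← pow_add]
      refine Nat.pow_le_pow_right hpp ?_
      rw [hP2, hP, show 2 * P + 4 - 1 = 2 * P + 3 by omega, show P + 2 - 1 = P + 1 by omega]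
      split <;> nlinarith
    · exact (Nat.pow_le_pow_right hpp (by omega)).trans (hcyc hc)
    · refine le_trans ?_ ((Nat.mul_le_mul_left _ (h4 hc)).trans h)
      rw [← pow_add]
      refine Nat.pow_le_pow_right hpp ?_
      rw [hP2, hP, show 2 * P + 4 - 1 = 2 * P + 3 by omega, show P + 2 - 1 = P + 1 by omega]
      nlinarith

theorem result {P : Type*} [Group P] [Finite P] (p : ℕ) [Fact p.Prime] (n k : ℕ) (hcard : Nat.card P = p ^ n) (hk : derivedSeries P k ≠ ⊥) (hk' : derivedSeries P (k + 1) = ⊥) : 2 ^ k + 2 * k ≤ n + 2 := by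
  rcases k with _ | t
  · omega
  have hG : IsPGroup p P := IsPGroup.of_card hcard
  have hit : ∀ j, (fun M : Subgroup P => ⁅M, M⁆)^[j] ⊤ = derivedSeries P j := by
    intro j
    induction j with
    | zero => rfl
    | succ j ih => rw [Function.iterate_succ_apply', ih, derivedSeries_succ]
  have h := (bound hG t ⊤ inferInstance 1 le_rfl (by simp [gam]) (by rw [hit]; exact hk)).1
  rw [card_top, hcard, Nat.pow_le_pow_iff_right (Fact.out : p.Prime).one_lt] at h
  have : 1 ≤ 2 ^ (t + 1) := Nat.one_le_two_pow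
  split at h <;> omega

end Cfsg.Agent.S4009
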