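import Cfsg.Statements.S4010
import Mathlib
import Cfsg.Prelude
import Cfsg.Agent.PGroups.Basic
import Cfsg.Agent.HallHigman.TheoremB

set_option autoImplicit false
open Cfsg

namespace Cfsg.Agent.S4010

open Subgroup Module
open scoped commutatorElement

universe u v w

theorem derived_succ_le {P : Type u} [Group P] {M : Subgroup P} (hM : commutator P ≤ M) : ∀ j,
    derivedSeries P (j + 1) ≤ (derivedSeries ↥M j).map M.subtype := by
  intro j
  induction j with
  | zero => rw [derivedSeries_one, derivedSeries_zero, ← MonoidHom.range_eq_map, Subgroup.range_subtype]; exact hM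
  | succ j ih =>
    rw [derivedSeries_succ, derivedSeries_succ ↥M, map_commutator]
    exact commutator_mono ih ih

variable {K : Type v} [Field K]

set_option maxHeartbeats 800000 in
theorem unipotent {P : Type u} [Group P] [Finite P] {p : ℕ} [hp : Fact p.Prime] [CharP K p] (hP : IsPGroup p P)
    {V : Type w} [AddCommGroup V] [Module K V] [FiniteDimensional K V] (σ : P →* Module.End K V)
    (hσ : Function.Injective σ) (L : ℕ) (hL : finrank K V ≤ 2 ^ L) : derivedSeries P L = ⊥ := by
  classical
  obtain ⟨J, hJ0, hJs⟩ : ∃ J : ℕ → Submodule K V, J 0 = ⊥ ∧ ∀ m v, v ∈ J (m + 1) ↔ ∀ g : P, (σ g - 1) v ∈ J m :=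
    ⟨fun m => Nat.rec ⊥ (fun _ W => ⨅ g : P, W.comap (σ g - 1)) m, rfl, fun m v => by
      simp only [Submodule.mem_iInf, Submodule.mem_comap]⟩
  have hJmono : ∀ m, J m ≤ J (m + 1) := by
    intro m
    induction m with
    | zero => rw [hJ0]; exact bot_le
    | succ m ih => exact fun v hv => (hJs _ v).2 fun g => ih ((hJs _ v).1 hv g)
  have hJinv : ∀ m, ∀ g : P, ∀ v ∈ J m, σ g v ∈ J m := by
    intro m g v hv
    rcases m with _ | m
    · rw [hJ0, Submodule.mem_bot] at hv; rw [hv, map_zero]; exact zero_mem _
    · have h1 := hJmono m ((hJs m v).1 hv g)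
      rw [LinearMap.sub_apply, Module.End.one_apply] at h1
      simpa using add_mem h1 hv
  haveI : ExpChar K p := ExpChar.prime hp.out
  have hgrow : ∀ m, min m (finrank K V) ≤ finrank K (J m) := by
    intro m
    induction m with
    | zero => simp
    | succ m ih =>
      by_cases htop : J m = ⊤
      · have h1 := Submodule.finrank_mono (hJmono m)
        rw [htop, finrank_top] at h1
        omega
      have hlt : J m < J (m + 1) := by
        refine lt_of_le_of_ne (hJmono m) fun e => ?_
        haveI : Nontrivial (V ⧸ J m) := Submodule.Quotient.nontrivial_iff.2 htop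
        let τ : P →* Module.End K (V ⧸ J m) :=
          { toFun := fun g => (J m).mapQ (J m) (σ g) (hJinv m g)
            map_one' := by ext x; simp
            map_mul' := fun g k => by ext x; simp }
        -- a common fixed vector in the quotient
        have hfix : ∀ (G : Subgroup P), ∃ w : V ⧸ J m, w ≠ 0 ∧ ∀ g ∈ G, τ g w = w := by
          intro G
          induction G using WellFoundedLT.induction with
          | ind G ihG =>
            by_cases hG : G = ⊥
            · obtain ⟨w, hw⟩ := exists_ne (0 : V ⧸ J m)
              exact ⟨w, hw, fun g hg => by rw [hG, mem_bot] at hg; rw [hg, map_one]; rfl⟩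
            haveI : Nontrivial G := (Subgroup.nontrivial_iff_ne_bot G).2 hG
            obtain ⟨M, hM, -⟩ := (eq_top_or_exists_le_coatom (⊥ : Subgroup G)).resolve_left bot_ne_top
            obtain ⟨hMn, hMi⟩ := Cfsg.Lib.PGroups.coatom_normal_index (hP.to_subgroup G) hM
            obtain ⟨w₀, hw₀, hwf⟩ := ihG (M.map G.subtype) (by
              conv_rhs => rw [← Subgroup.range_subtype G, MonoidHom.range_eq_map]
              exact (Subgroup.map_lt_map_iff_of_injective G.subtype_injective).2 hM.1.lt_top)
            set W : Submodule K (V ⧸ J m) := ⨅ g : M, LinearMap.ker (τ ((g : G) : P) - 1) with hW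
            have hWmem : ∀ w, w ∈ W ↔ ∀ g ∈ M, τ (g : P) w = w := fun w => by
              simp [hW, Submodule.mem_iInf, sub_eq_zero]
            obtain ⟨a, ha⟩ : ∃ a : G, a ∉ M := by
              by_contra hh; push Not at hh; exact hM.1 ((Subgroup.eq_top_iff' M).2 hh)
            have haW : ∀ w ∈ W, τ (a : P) w ∈ W := fun w hw => (hWmem _).2 fun g hg => by
              rw [← Module.End.mul_apply, ← map_mul,
                show (g : P) * (a : P) = (a : P) * ((a⁻¹ * g * a : G) : P) by simp [mul_assoc], map_mul,
                Module.End.mul_apply, (hWmem w).1 hw _ (by simpa using hMn.conj_mem g hg a⁻¹)]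
            haveI : Nontrivial W := ⟨⟨⟨w₀, (hWmem _).2 fun g hg => hwf _ ⟨g, hg, rfl⟩⟩, 0, fun e =>
              hw₀ (congrArg Subtype.val e)⟩⟩
            set N : Module.End K W := (τ (a : P) - 1).restrict (fun w hw => by
              rw [LinearMap.sub_apply, Module.End.one_apply]; exact sub_mem (haW w hw) hw)
            have hN : IsNilpotent N := by
              obtain ⟨k, hk⟩ := hP (a : P)
              refine ⟨p ^ k, ?_⟩
              haveI : Nontrivial (Module.End K (V ⧸ J m)) := inferInstance
              haveI : CharP (Module.End K (V ⧸ J m)) p :=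
                charP_of_injective_algebraMap (algebraMap K (Module.End K (V ⧸ J m))).injective p
              haveI : ExpChar (Module.End K (V ⧸ J m)) p := ExpChar.prime hp.out
              have h1 : (τ (a : P) - 1) ^ p ^ k = 0 := by
                rw [sub_pow_expChar_pow_of_commute (p := p) _ (Commute.one_right _), ← map_pow, hk, map_one, one_pow,
                  sub_self]
              refine LinearMap.ext fun w => Subtype.ext ?_
              rw [Module.End.pow_restrict (p ^ k), LinearMap.restrict_coe_apply, h1]
              rfl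
            have hker : LinearMap.ker N ≠ ⊥ := fun e => by
              obtain ⟨k, hk⟩ := hN
              have hinj : Function.Injective (N ^ k) := by
                rw [Module.End.coe_pow]; exact (LinearMap.ker_eq_bot.1 e).iterate k
              rw [hk] at hinj
              obtain ⟨w, hw⟩ := exists_ne (0 : W)
              exact hw (hinj (by simp))
            obtain ⟨w, hw, hw0⟩ := Submodule.exists_mem_ne_zero_of_ne_bot hker
            refine ⟨(w : V ⧸ J m), fun e => hw0 (Subtype.ext e), fun g hg => ?_⟩
            have haw : τ (a : P) w = (w : V ⧸ J m) := by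
              have h1 := congrArg Subtype.val (LinearMap.mem_ker.1 hw)
              rw [LinearMap.restrict_coe_apply, LinearMap.sub_apply, Module.End.one_apply] at h1
              exact sub_eq_zero.1 h1
            let St : Subgroup G :=
              { carrier := {g | τ (g : P) w = (w : V ⧸ J m)}
                one_mem' := by simp
                mul_mem' := fun {x y} hx hy => by
                  show τ ((x * y : G) : P) w = _
                  rw [Subgroup.coe_mul, map_mul, Module.End.mul_apply, hy, hx]
                inv_mem' := fun {x} hx => by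
                  show τ ((x⁻¹ : G) : P) w = _
                  conv_lhs => rw [← hx]
                  rw [← Module.End.mul_apply, ← map_mul, ← Subgroup.coe_mul, inv_mul_cancel]
                  simp }
            have hSt : St = ⊤ := hM.2 St (lt_of_le_of_ne (fun g hg => (hWmem _).1 w.2 g hg) fun e => ha (e.ge haw))
            exact hSt.ge (mem_top (⟨g, hg⟩ : G))
        obtain ⟨w, hw, hwf⟩ := hfix ⊤
        obtain ⟨v, rfl⟩ := Submodule.Quotient.mk_surjective (J m) w
        refine hw ((Submodule.Quotient.mk_eq_zero _).2 ?_)
        rw [e, hJs]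
        intro g
        have := hwf g (mem_top g)
        rw [show τ g (Submodule.Quotient.mk v) = Submodule.Quotient.mk (σ g v) from rfl, Submodule.Quotient.eq] at this
        simpa using this
      have := Submodule.finrank_lt_finrank_of_lt hlt
      omega
  have hJtop : J (2 ^ L) = ⊤ := Submodule.eq_top_of_finrank_eq (le_antisymm (Submodule.finrank_le _)
    (by have := hgrow (2 ^ L); omega))
  let lev : ℕ → Module.End K V → Prop := fun j f => ∀ m, ∀ v ∈ J (m + j), f v ∈ J m
  have hJmono' : ∀ m i, J m ≤ J (m + i) := by
    intro m i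
    induction i with
    | zero => exact le_rfl
    | succ i ih => exact ih.trans (hJmono _)
  have hkey : ∀ j, ∀ g ∈ derivedSeries P j, lev (2 ^ j) (σ g - 1) := by
    intro j
    induction j with
    | zero => intro g _ m v hv; exact (hJs m v).1 hv g
    | succ j ih =>
      let H : Subgroup P :=
        { carrier := {g | lev (2 ^ (j + 1)) (σ g - 1)}
          one_mem' := fun m v _ => by simp
          mul_mem' := fun {a b} ha hb m v hv => by
            rw [show (σ (a * b) - 1) v = σ a ((σ b - 1) v) + (σ a - 1) v by simp]
            exact add_mem (hJinv m a _ (hb m v hv)) (ha m v hv)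
          inv_mem' := fun {a} ha m v hv => by
            have h1 := ha m (σ a⁻¹ v) (hJinv _ _ v hv)
            rw [LinearMap.sub_apply, Module.End.one_apply, ← Module.End.mul_apply, ← map_mul, mul_inv_cancel, map_one,
              Module.End.one_apply] at h1
            simpa using neg_mem h1 }
      suffices h : derivedSeries P (j + 1) ≤ H from fun g hg => h hg
      rw [derivedSeries_succ, commutator_le]
      intro a ha b hb m v hv
      have e : (σ ⁅a, b⁆ - 1) v = (σ a - 1) ((σ b - 1) (σ (a⁻¹ * b⁻¹) v)) - (σ b - 1) ((σ a - 1) (σ (a⁻¹ * b⁻¹) v)) := by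
        have h1 : σ ⁅a, b⁆ v = σ a (σ b (σ (a⁻¹ * b⁻¹) v)) := by
          rw [← Module.End.mul_apply, ← Module.End.mul_apply, ← map_mul, ← map_mul, commutatorElement_def]
          congr 2; group
        have h2 : σ b (σ a (σ (a⁻¹ * b⁻¹) v)) = v := by
          rw [← Module.End.mul_apply, ← Module.End.mul_apply, ← map_mul, ← map_mul,
            show b * a * (a⁻¹ * b⁻¹) = 1 by group, map_one, Module.End.one_apply]
        simp only [LinearMap.sub_apply, Module.End.one_apply, map_sub, h1, h2]
        abel
      rw [e]
      have hu := hJinv (m + 2 ^ (j + 1)) (a⁻¹ * b⁻¹) v hv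
      rw [show m + 2 ^ (j + 1) = (m + 2 ^ j) + 2 ^ j by rw [pow_succ]; omega] at hu
      exact sub_mem (ih a ha m _ (ih b hb _ _ hu)) (ih b hb m _ (ih a ha _ _ hu))
  rw [eq_bot_iff]
  intro g hg
  refine mem_bot.2 (hσ (LinearMap.ext fun v => ?_))
  have := hkey L g hg 0 v (by rw [zero_add, hJtop]; trivial)
  rw [hJ0, Submodule.mem_bot, LinearMap.sub_apply, sub_eq_zero] at this
  rw [map_one]
  exact this

theorem coprime_case [IsAlgClosed K] {p : ℕ} [hp : Fact p.Prime] (hpK : (p : K) ≠ 0) : ∀ (n : ℕ) (P : Type u) [Group P]
    [Finite P] (V : Type w) [AddCommGroup V] [Module K V] [FiniteDimensional K V], IsPGroup p P →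
    ∀ (σ : P →* Module.End K V), finrank K V ≤ n → ∀ g ∈ derivedSeries P (Nat.log 2 n + 1), σ g = 1 := by
  intro n
  induction n using Nat.strong_induction_on with
  | _ n ih =>
    intro P₀ _ _ V _ _ _ hP₀ σ₀ hrk
    classical
    -- reduce to the image
    let su := σ₀.toHomUnits
    haveI : (su.ker).Normal := inferInstance
    suffices h : ∀ g ∈ derivedSeries (P₀ ⧸ su.ker) (Nat.log 2 n + 1), ((Units.coeHom _).comp (QuotientGroup.kerLift su)) g = 1 from
      fun g hg => h (QuotientGroup.mk' su.ker g) (map_derivedSeries_le_derivedSeries (QuotientGroup.mk' su.ker) _ (mem_map_of_mem _ hg))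
    set Q := P₀ ⧸ su.ker
    have hQ : IsPGroup p Q := hP₀.to_quotient su.ker
    let σ : Q →* Module.End K V := (Units.coeHom _).comp (QuotientGroup.kerLift su)
    have hσ : Function.Injective σ := Units.val_injective.comp (QuotientGroup.kerLift_injective su)
    show ∀ g ∈ derivedSeries Q (Nat.log 2 n + 1), σ g = 1
    by_cases hab : ∀ a b : Q, a * b = b * a
    · have h1 : derivedSeries Q (Nat.log 2 n + 1) ≤ ⊥ :=
        (derivedSeries_antitone Q (Nat.le_add_left 1 _)).trans (by
          rw [derivedSeries_one, _root_.commutator_def, commutator_le]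
          exact fun a _ b _ => mem_bot.2 (commutatorElement_eq_one_iff_mul_comm.2 (hab a b)))
      intro g hg
      rw [mem_bot.1 (h1 hg), map_one]
    -- a normal abelian noncentral subgroup
    haveI : Nontrivial (Q ⧸ center Q) := by
      by_contra hh
      rw [not_nontrivial_iff_subsingleton] at hh
      have hc : center Q = ⊤ := QuotientGroup.subgroup_eq_top_of_subsingleton _ hh
      exact hab fun a b => ((mem_center_iff.1 (hc.ge (mem_top b))) a)
    haveI := (hQ.to_quotient (center Q)).center_nontrivial
    obtain ⟨⟨zb, hzb⟩, hzb1⟩ := exists_ne (1 : center (Q ⧸ center Q))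
    obtain ⟨z, rfl⟩ := QuotientGroup.mk_surjective zb
    have hz : z ∉ center Q := fun h => hzb1 (Subtype.ext ((QuotientGroup.eq_one_iff z).2 h))
    set A := zpowers z ⊔ center Q with hA
    haveI hAn : A.Normal := by
      have hmap : A.map (QuotientGroup.mk' (center Q)) ≤ center (Q ⧸ center Q) := by
        rw [Subgroup.map_sup, sup_le_iff, MonoidHom.map_zpowers, zpowers_le, Subgroup.map_le_iff_le_comap]
        exact ⟨hzb, fun c hc => by
          rw [mem_comap]
          rw [QuotientGroup.mk'_apply, (QuotientGroup.eq_one_iff c).2 hc]; exact one_mem _⟩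
      refine ⟨fun a ha g => ?_⟩
      have h1 := mem_center_iff.1 (hmap ⟨a, ha, rfl⟩) (QuotientGroup.mk' (center Q) g)
      have h2 : g * a * g⁻¹ * a⁻¹ ∈ center Q := by
        rw [← QuotientGroup.eq_one_iff]
        show QuotientGroup.mk' (center Q) (g * a * g⁻¹ * a⁻¹) = 1
        rw [map_mul, map_mul, map_mul, map_inv, map_inv, h1]
        group
      have h3 := A.mul_mem ((le_sup_right : center Q ≤ A) h2) ha
      rwa [inv_mul_cancel_right] at h3
    have hAc : ∀ a b : A, a * b = b * a := by
      have hle : A ≤ centralizer (A : Set Q) := by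
        refine sup_le (zpowers_le.2 ?_) (fun c hc => mem_centralizer_iff.2 fun x _ => (mem_center_iff.1 hc x))
        rw [hA, mem_centralizer_iff]
        intro x hx
        obtain ⟨y, hy, c, hc, rfl⟩ := mem_sup_of_normal_right.1 hx
        obtain ⟨i, rfl⟩ := mem_zpowers_iff.1 hy
        exact (((Commute.refl z).zpow_left i).mul_left ((mem_center_iff.1 hc z).symm : Commute c z)).eq
      exact fun a b => Subtype.ext ((mem_centralizer_iff.1 (hle b.2) _ a.2))
    have hAK : ((Nat.card A : ℕ) : K) ≠ 0 := by
      obtain ⟨m, hm⟩ := IsPGroup.iff_card.1 (hQ.to_subgroup A)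
      rw [hm, Nat.cast_pow]; exact pow_ne_zero _ hpK
    intro g hg
    refine LinearMap.ext_on (Cfsg.Lib.HallHigman.common_eigen_span hAc hAK (σ.comp A.subtype)) fun v hv => ?_
    rw [Module.End.one_apply]
    by_cases hv0 : v = 0
    · rw [hv0, map_zero]
    choose f hf using hv
    have hf1 : f 1 = 1 := smul_left_injective K hv0 (by simp [← hf 1])
    have hfm : ∀ a b, f (a * b) = f a * f b := fun a b => smul_left_injective K hv0 (by
      show f (a * b) • v = (f a * f b) • v
      rw [← hf (a * b), map_mul, Module.End.mul_apply, hf b, map_smul, hf a, smul_smul, mul_comm (f b)])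
    let U : (A → K) → Submodule K V := fun φ => ⨅ a : A, (σ (a : Q)).eigenspace (φ a)
    have hU : ∀ φ w, w ∈ U φ ↔ ∀ a : A, σ (a : Q) w = φ a • w := fun φ w => by simp [U, Submodule.mem_iInf]
    have hcm : ∀ {b : Q}, b ∈ A → ∀ q : Q, q⁻¹ * b * q ∈ A := fun {b} hb q => by
      have h := hAn.conj_mem b hb q⁻¹
      rwa [inv_inv q] at h
    let cj : Q → (A → K) := fun q a => f ⟨q⁻¹ * a * q, hcm a.2 q⟩
    have hcj : ∀ q : Q, ∀ w ∈ U f, σ q w ∈ U (cj q) := fun q w hw => (hU _ _).2 fun a => by
      rw [← Module.End.mul_apply, ← map_mul, show (a : Q) * q = q * (q⁻¹ * a * q) by group, map_mul,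
        Module.End.mul_apply, (hU f w).1 hw ⟨q⁻¹ * a * q, hcm a.2 q⟩, map_smul]
    by_cases hinvf : ∀ q, cj q = f
    · -- an invariant proper eigenspace
      have hlt : finrank K (U f) < finrank K V := by
        refine Submodule.finrank_lt fun htop => hz ?_
        rw [mem_center_iff]
        intro q
        refine hσ (LinearMap.ext fun w => ?_)
        have hzA : z ∈ A := (le_sup_left : zpowers z ≤ A) (mem_zpowers z)
        have h1 : ∀ x, σ z x = f ⟨z, hzA⟩ • x := fun x => (hU f x).1 (htop ▸ trivial) ⟨z, hzA⟩
        rw [map_mul, map_mul, Module.End.mul_apply, Module.End.mul_apply, h1, h1, map_smul]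
      have hUinv : ∀ q : Q, ∀ w ∈ U f, σ q w ∈ U f := fun q w hw => hinvf q ▸ hcj q w hw
      have h1 := ih (finrank K (U f)) (by omega) Q (U f) hQ (Cfsg.Lib.HallHigman.restrictRep σ (U f) hUinv) le_rfl g
        (derivedSeries_antitone Q (by have := Nat.log_mono_right (b := 2) (show finrank K (U f) ≤ n by omega); omega) hg)
      exact congrArg Subtype.val (LinearMap.congr_fun h1 ⟨v, (hU f v).2 hf⟩)
    -- an orbit
    push Not at hinvf
    obtain ⟨q₀, hq₀⟩ := hinvf
    let T : Subgroup Q :=
      { carrier := {q | cj q = f}
        one_mem' := funext fun a => by simp [cj]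
        mul_mem' := fun {x y} hx hy => funext fun a => by
          have e1 := congrFun hy ⟨x⁻¹ * a * x, hcm a.2 x⟩
          have e2 := congrFun hx a
          show f _ = f a
          rw [← e2]
          show _ = f _
          refine Eq.trans ?_ e1
          congr 1
          exact Subtype.ext (by group)
        inv_mem' := fun {x} hx => funext fun a => by
          have e1 := congrFun hx ⟨x * a * x⁻¹, hAn.conj_mem a a.2 x⟩
          show f _ = f a
          refine Eq.trans ?_ (e1.symm.trans ?_)
          · congr 1
            exact Subtype.ext (by group)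
          · show f _ = f a
            congr 1
            exact Subtype.ext (by group) }
    have hT : T ≠ ⊤ := fun e => hq₀ (e.ge (mem_top q₀))
    obtain ⟨M, hM, hTM⟩ := (eq_top_or_exists_le_coatom T).resolve_left hT
    obtain ⟨hMn, hMi⟩ := Cfsg.Lib.PGroups.coatom_normal_index hQ hM
    haveI := hMn
    have hcM : commutator Q ≤ M := by
      haveI : IsCyclic (Q ⧸ M) := isCyclic_of_prime_card (p := p) (by rw [← index_eq_card, hMi])
      refine Subgroup.Normal.quotient_commutative_iff_commutator_le.1 ?_
      letI : CommGroup (Q ⧸ M) := IsCyclic.commGroup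
      exact ⟨⟨mul_comm⟩⟩
    obtain ⟨a₀, ha₀⟩ : ∃ a, a ∉ M := by
      by_contra hh; push Not at hh; exact hM.1 ((Subgroup.eq_top_iff' M).2 hh)
    -- the idempotent of an orbit
    haveI := Fintype.ofFinite A
    let O : Finset (A → K) := ((Set.range fun m : M => cj (m : Q)) : Set (A → K)).toFinite.toFinset
    let E : Module.End K V := ((Nat.card A : K))⁻¹ • ∑ φ ∈ O, ∑ a : A, φ a⁻¹ • σ (a : Q)
    have hE : ∀ q : Q, ∀ w ∈ U f, E (σ q w) = if q ∈ M then σ q w else 0 := by
      intro q w hw
      have hw' := (hU _ _).1 (hcj q w hw)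
      have hmem : cj q ∈ O ↔ q ∈ M := by
        rw [Set.Finite.mem_toFinset]
        refine ⟨?_, fun h => ⟨⟨q, h⟩, rfl⟩⟩
        rintro ⟨m, hm⟩
        have : (m : Q)⁻¹ * q ∈ T := funext fun a => by
          have e := congrFun hm ⟨(m : Q) * a * (m : Q)⁻¹, hAn.conj_mem a a.2 _⟩
          show f _ = f a
          refine Eq.trans ?_ (e.symm.trans ?_)
          · congr 1; exact Subtype.ext (by group)
          · show f _ = f a; congr 1; exact Subtype.ext (by group)
        have h2 := M.mul_mem m.2 (hTM this)
        rwa [mul_inv_cancel_left] at h2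
      have hsum : ∀ φ ∈ O, ∑ a : A, φ a⁻¹ * cj q a = if φ = cj q then (Nat.card A : K) else 0 := by
        intro φ hφ
        rw [Set.Finite.mem_toFinset] at hφ
        obtain ⟨m, rfl⟩ := hφ
        have hhom : ∀ r : Q, ∀ a b, cj r (a * b) = cj r a * cj r b := fun r a b => by
          show f _ = f _ * f _
          rw [← hfm]; congr 1; exact Subtype.ext (by simp [mul_assoc])
        have hone : ∀ r : Q, cj r 1 = 1 := fun r => by
          show f _ = 1
          rw [← hf1]; congr 1; exact Subtype.ext (by simp)
        let χ : A →* K :=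
          { toFun := fun a => cj (m : Q) a⁻¹ * cj q a
            map_one' := by simp [hone]
            map_mul' := fun a b => by
              rw [mul_inv_rev, hAc b⁻¹ a⁻¹, hhom, hhom]
              ring }
        have := sum_hom_units χ
        rw [Nat.card_eq_fintype_card]
        refine this.trans ?_
        have hiff : χ = 1 ↔ cj (m : Q) = cj q := by
          constructor
          · intro h
            funext a
            have h1 := congrArg (cj (m : Q) a * ·) (DFunLike.congr_fun h a)
            simp only [χ, MonoidHom.coe_mk, OneHom.coe_mk, MonoidHom.one_apply, ← mul_assoc, ← hhom,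
              mul_inv_cancel, hone, one_mul, mul_one] at h1
            exact h1.symm
          · intro h
            refine MonoidHom.ext fun a => ?_
            show cj (m : Q) a⁻¹ * cj q a = 1
            rw [h, ← hhom, inv_mul_cancel, hone]
        simp [hiff]
      show ((Nat.card A : K))⁻¹ • (∑ φ ∈ O, ∑ a : A, φ a⁻¹ • σ (a : Q)) (σ q w) = _
      simp only [LinearMap.sum_apply, LinearMap.smul_apply, hw', smul_smul, ← Finset.sum_smul]
      rw [Finset.sum_congr rfl hsum, Finset.sum_ite_eq']
      by_cases hq : q ∈ M
      · rw [if_pos (hmem.2 hq), if_pos hq, inv_mul_cancel₀ hAK, one_smul]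
      · rw [if_neg (fun h => hq (hmem.1 h)), if_neg hq, mul_zero, zero_smul]
    set W : Submodule K V := Submodule.span K {x | ∃ m ∈ M, ∃ w ∈ U f, x = σ m w} with hW
    have hWinv : ∀ m : M, ∀ x ∈ W, σ (m : Q) x ∈ W := by
      intro m x hx
      have : W ≤ W.comap (σ (m : Q)) := Submodule.span_le.2 (by
        rintro _ ⟨m', hm', w, hw, rfl⟩
        exact Submodule.subset_span ⟨m * m', M.mul_mem m.2 hm', w, hw, by rw [map_mul]; rfl⟩)
      exact this hx
    have hdisj : Disjoint W (W.map (σ a₀)) := by
      rw [Submodule.disjoint_def]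
      intro x hx hx'
      have h1 : E x = x := by
        have : W ≤ LinearMap.ker (E - 1) := Submodule.span_le.2 (by
          rintro _ ⟨m, hm, w, hw, rfl⟩
          simp [hE m w hw, hm])
        simpa [sub_eq_zero] using this hx
      have h2 : E x = 0 := by
        have : W.map (σ a₀) ≤ LinearMap.ker E := Submodule.map_le_iff_le_comap.2 (Submodule.span_le.2 (by
          rintro _ ⟨m, hm, w, hw, rfl⟩
          show E (σ a₀ (σ m w)) = 0
          rw [← Module.End.mul_apply (σ a₀), ← map_mul, hE _ w hw, if_neg fun h => ha₀ ((M.mul_mem_cancel_right hm).1 h)]))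
        exact this hx'
      rw [← h1, h2]
    have hinj : Function.Injective (σ a₀) := fun x y e => by
      have := congrArg (σ a₀⁻¹) e
      rwa [← Module.End.mul_apply, ← Module.End.mul_apply, ← map_mul, inv_mul_cancel, map_one,
        Module.End.one_apply, Module.End.one_apply] at this
    have hvW : v ∈ W := Submodule.subset_span ⟨1, M.one_mem, v, (hU f v).2 hf, by simp⟩
    have hW2 : 2 * finrank K W ≤ n := by
      have h1 := Submodule.finrank_add_finrank_le_of_disjoint hdisj
      rw [← (Submodule.equivMapOfInjective (σ a₀) hinj W).finrank_eq] at h1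
      omega
    have hn2 : 2 ≤ n := by
      have : 0 < finrank K W := Module.finrank_pos_iff.2
        ⟨⟨⟨v, hvW⟩, 0, fun e => hv0 (congrArg Subtype.val e)⟩⟩
      omega
    obtain ⟨y, hy, rfl⟩ := derived_succ_le hcM (Nat.log 2 n) hg
    have h1 := ih (n / 2) (by omega) M W (hQ.to_subgroup M)
      (Cfsg.Lib.HallHigman.restrictRep (σ.comp M.subtype) W hWinv) (by omega) y (by
        rw [Nat.log_div_base, Nat.sub_add_cancel (Nat.log_pos one_lt_two hn2)]
        exact hy)
    exact congrArg Subtype.val (LinearMap.congr_fun h1 ⟨v, hvW⟩)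


/-- Let F be a field, n ≥ 1, and P a finite p-group (p a prime) admitting an injective homomorphism into the general linear group of degree n over F. Then the derived length of P is at most ⌊log₂ n⌋ + 1: that term of the derived series of P is trivial. -/
theorem result {P : Type*} [Group P] [Finite P] (p : ℕ) [Fact p.Prime] (hP : IsPGroup p P) (F : Type*) [Field F] (n : ℕ) (hn : 1 ≤ n) (ρ : P →* Matrix.GeneralLinearGroup (Fin n) F) (hρ : Function.Injective ρ) : derivedSeries P (Nat.log 2 n + 1) = ⊥ := by
  classical
  let K := AlgebraicClosure F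
  let Φ : Matrix (Fin n) (Fin n) F →* Module.End K (Fin n → K) :=
    (((Matrix.toLinAlgEquiv' : Matrix _ _ K ≃ₐ[K] _).toRingEquiv.toRingHom.comp
      (algebraMap F K).mapMatrix)).toMonoidHom
  have hΦ : Function.Injective Φ := fun a b e =>
    Matrix.map_injective (algebraMap F K).injective (Matrix.toLinAlgEquiv'.injective e)
  let σ : P →* Module.End K (Fin n → K) := (Φ.comp (Units.coeHom _)).comp ρ
  have hσ : Function.Injective σ := (hΦ.comp Units.val_injective).comp hρ
  have hrk : Module.finrank K (Fin n → K) ≤ n := by rw [Module.finrank_fin_fun]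
  by_cases hpK : (p : K) = 0
  · haveI : CharP K p := (CharP.charP_iff_prime_eq_zero Fact.out).2 hpK
    exact unipotent hP σ hσ (Nat.log 2 n + 1) (le_trans hrk (Nat.lt_pow_succ_log_self one_lt_two n).le)
  · rw [eq_bot_iff]
    intro g hg
    exact Subgroup.mem_bot.2 (hσ (by rw [map_one]; exact coprime_case hpK n P (Fin n → K) hP σ hrk g hg))

end Cfsg.Agent.S4010
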