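import Cfsg.Statements.S4013


set_option autoImplicit false
open Cfsg

namespace Cfsg.Agent.S4013

/-- Let G be a finite p-group (p prime) and N < M normal subgroups of G such that for some g ∈ M ∖ N the conjugacy class of g is exactly M ∖ N. Then p = 2 and N has index 2 in M. -/
theorem result {G : Type*} [Group G] [Finite G] (p : ℕ) [Fact p.Prime] (hG : IsPGroup p G) (N M : Subgroup G) [N.Normal] [M.Normal] (hNM : N < M) (g : G) (hgM : g ∈ M) (hgN : g ∉ N) (hcl : {h : G | IsConj g h} = (M : Set G) \ (N : Set G)) : p = 2 ∧ N.relIndex M = 2 := by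
  classical
  obtain ⟨j, hj⟩ := (IsPGroup.of_equiv hG (ConjAct.toConjAct (G := G))).card_orbit (p := p) g
  have horb : MulAction.orbit (ConjAct G) g = (M : Set G) \ (N : Set G) := by
    rw [← hcl]; ext h
    rw [ConjAct.mem_orbit_conjAct]; exact isConj_comm
  have hcard : Nat.card (MulAction.orbit (ConjAct G) g) = Nat.card M - Nat.card N := by
    rw [horb, Nat.card_coe_set_eq, Set.ncard_sdiff hNM.le (Set.toFinite _)]
    rfl
  have hmul : Nat.card N * N.relIndex M = Nat.card M := by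
    have h := Subgroup.relIndex_mul_relIndex (⊥ : Subgroup G) N M bot_le hNM.le
    rwa [Subgroup.relIndex_bot_left, Subgroup.relIndex_bot_left] at h
  rw [hj, ← hmul, ← Nat.mul_sub_one] at hcard
  have hp := (Fact.out : p.Prime)
  obtain ⟨i, hi⟩ := IsPGroup.iff_card.mp (hG.to_subgroup M)
  have hd1 : N.relIndex M ∣ p ^ i := hi ▸ N.relIndex_dvd_card M
  have hne1 : N.relIndex M ≠ 1 := fun h => hNM.not_ge (Subgroup.relIndex_eq_one.mp h)
  obtain ⟨a, -, ha⟩ := (Nat.dvd_prime_pow hp).mp hd1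
  obtain ⟨b, -, hb⟩ := (Nat.dvd_prime_pow hp).mp (Dvd.intro_left _ hcard.symm : N.relIndex M - 1 ∣ p ^ j)
  have ha1 : a ≠ 0 := fun h => hne1 (by rw [ha, h, pow_zero])
  have hb0 : b = 0 := by
    by_contra h
    have h1 : p ∣ N.relIndex M := ha ▸ dvd_pow_self p ha1
    have h2 : p ∣ N.relIndex M - 1 := hb ▸ dvd_pow_self p h
    have h3 := Nat.dvd_sub h1 h2
    have hpos : 1 ≤ N.relIndex M := by rw [ha]; exact Nat.one_le_pow _ _ hp.pos
    rw [Nat.sub_sub_self hpos] at h3
    exact hp.not_dvd_one h3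
  rw [hb0, pow_zero] at hb
  have h2 : N.relIndex M = 2 := by omega
  refine ⟨?_, h2⟩
  have hd : p ∣ 2 := h2 ▸ ha ▸ dvd_pow_self p ha1
  exact (Nat.prime_dvd_prime_iff_eq hp Nat.prime_two).mp hd

end Cfsg.Agent.S4013
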