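import Cfsg.Statements.S4014
import Mathlib
import Cfsg.Prelude
import Cfsg.Agent.PGroups.Basic

set_option autoImplicit false
open Cfsg

namespace Cfsg.Agent.S4014

open Subgroup
open scoped commutatorElement

universe u v

theorem derivedSeries_succ_eq_map (G : Type u) [Group G] : ∀ j : ℕ,
    derivedSeries G (j + 1) = (derivedSeries ↥(commutator G) j).map (commutator G).subtype := by
  intro j
  induction j with
  | zero =>
    rw [derivedSeries_one, derivedSeries_zero, ← MonoidHom.range_eq_map, Subgroup.range_subtype]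
  | succ j ih => rw [derivedSeries_succ, ih, derivedSeries_succ, map_commutator]

theorem upper {p : ℕ} [hp : Fact p.Prime] : ∀ (k : ℕ) (Q : Type u) [Group Q] [Finite Q] (X : Type v) [MulAction Q X]
    [FaithfulSMul Q X], IsPGroup p Q → (∀ x : X, Nat.card (MulAction.orbit Q x) ≤ p ^ k) → derivedSeries Q k = ⊥ := by
  intro k
  induction k with
  | zero =>
    intro Q _ _ X _ _ _ h
    rw [derivedSeries_zero, eq_bot_iff_forall]
    intro g _
    refine FaithfulSMul.eq_of_smul_eq_smul (α := X) fun x => ?_
    have h1 : Subsingleton (MulAction.orbit Q x) := by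
      haveI : Finite (MulAction.orbit Q x) := Finite.of_surjective (fun q : Q => ⟨q • x, MulAction.mem_orbit x q⟩)
        fun ⟨y, q, hq⟩ => ⟨q, Subtype.ext hq⟩
      exact Finite.card_le_one_iff_subsingleton.1 (by simpa using h x)
    rw [one_smul]
    exact congrArg Subtype.val (h1.elim ⟨g • x, MulAction.mem_orbit x g⟩ ⟨x, MulAction.mem_orbit_self x⟩)
  | succ k ih =>
    intro Q _ _ X _ _ hQ h
    rw [derivedSeries_succ_eq_map, Subgroup.map_eq_bot_iff_of_injective _ (commutator Q).subtype_injective]
    refine ih (commutator Q) X (hQ.to_subgroup _) fun x => ?_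
    haveI : Finite (MulAction.orbit Q x) := Finite.of_surjective (fun q : Q => ⟨q • x, MulAction.mem_orbit x q⟩)
      fun ⟨y, q, hq⟩ => ⟨q, Subtype.ext hq⟩
    obtain ⟨j, hj⟩ := hQ.card_orbit x
    have hsub : MulAction.orbit (commutator Q) x ⊆ MulAction.orbit Q x := by
      rintro y ⟨q, rfl⟩; exact ⟨(q : Q), rfl⟩
    rcases Nat.lt_or_ge j (k + 1) with hlt | hge
    · refine le_trans (Nat.card_mono (Set.toFinite _) hsub) ?_
      rw [hj]
      exact Nat.pow_le_pow_right hp.out.pos (by omega)
    have hj' : j = k + 1 := by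
      have := h x
      rw [hj] at this
      have := (Nat.pow_le_pow_iff_right hp.out.one_lt).1 this
      omega
    subst hj'
    set S := MulAction.stabilizer Q x
    have hSi : S.index = p ^ (k + 1) := by rw [MulAction.index_stabilizer, ← hj, Nat.card_coe_set_eq]
    have hS : S ≠ ⊤ := fun e => by
      rw [e, index_top] at hSi
      exact (Nat.one_lt_pow (Nat.succ_ne_zero k) hp.out.one_lt).ne hSi
    obtain ⟨M, hM, hSM⟩ := (eq_top_or_exists_le_coatom S).resolve_left hS
    obtain ⟨hMn, hMi⟩ := Cfsg.Lib.PGroups.coatom_normal_index hQ hM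
    haveI := hMn
    have hcM : commutator Q ≤ M := by
      haveI : IsCyclic (Q ⧸ M) := isCyclic_of_prime_card (p := p) (by rw [← index_eq_card, hMi])
      refine Subgroup.Normal.quotient_commutative_iff_commutator_le.1 ?_
      letI : CommGroup (Q ⧸ M) := IsCyclic.commGroup
      exact ⟨⟨mul_comm⟩⟩
    have hMo : Nat.card (MulAction.orbit M x) = p ^ k := by
      have h2 : MulAction.stabilizer M x = S.subgroupOf M := Subgroup.ext fun m => Iff.rfl
      rw [Nat.card_coe_set_eq, ← MulAction.index_stabilizer, h2]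
      show S.relIndex M = _
      have h1 := relIndex_mul_index hSM
      rw [hMi, hSi, pow_succ] at h1
      exact Nat.eq_of_mul_eq_mul_right hp.out.pos h1
    haveI : Finite (MulAction.orbit M x) := Finite.of_surjective (fun q : M => ⟨q • x, MulAction.mem_orbit x q⟩)
      fun ⟨y, q, hq⟩ => ⟨q, Subtype.ext hq⟩
    refine le_trans (Nat.card_mono (Set.toFinite _) ?_) hMo.le
    rintro y ⟨q, rfl⟩
    exact ⟨⟨(q : Q), hcM q.2⟩, rfl⟩

theorem lower {p : ℕ} [hp : Fact p.Prime] (C : Type u) [CommGroup C] [Finite C] (hC : Nat.card C = p) :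
    ∀ k : ℕ, derivedSeries (IteratedWreathProduct C (k + 1)) k ≠ ⊥ := by
  classical
  intro k
  induction k with
  | zero =>
    rw [derivedSeries_zero]
    intro h
    have h1 : Nat.card (IteratedWreathProduct C 1) = 1 := by
      rw [← Subgroup.card_top, h, Subgroup.card_bot]
    rw [IteratedWreathProduct.card, hC, Finset.sum_range_one, pow_zero, pow_one] at h1
    exact hp.out.ne_one h1
  | succ k ih =>
    show derivedSeries (RegularWreathProduct (IteratedWreathProduct C (k + 1)) C) (k + 1) ≠ ⊥
    set D := IteratedWreathProduct C (k + 1)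
    intro h
    rw [derivedSeries_succ_eq_map, Subgroup.map_eq_bot_iff_of_injective _ (commutator (D ≀ᵣ C)).subtype_injective] at h
    have hr : ∀ z : commutator (D ≀ᵣ C), (z : D ≀ᵣ C).right = 1 := fun z =>
      Abelianization.commutator_subset_ker (RegularWreathProduct.rightHom (D := D) (Q := C)) z.2
    let π : commutator (D ≀ᵣ C) →* D :=
      { toFun := fun z => (z : D ≀ᵣ C).left 1
        map_one' := rfl
        map_mul' := fun a b => by simp [hr a] }
    obtain ⟨g, hg⟩ : ∃ g : C, g ≠ 1 := by
      haveI : Nontrivial C := Finite.one_lt_card_iff_nontrivial.1 (hC ▸ hp.out.one_lt)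
      exact exists_ne 1
    have hπ : Function.Surjective π := by
      intro d
      let a : D ≀ᵣ C := ⟨fun x => if x = 1 then d else 1, 1⟩
      refine ⟨⟨⁅a, RegularWreathProduct.inl g⁆, commutator_mem_commutator (mem_top _) (mem_top _)⟩, ?_⟩
      show (⁅a, RegularWreathProduct.inl g⁆ : D ≀ᵣ C).left 1 = d
      simp [commutatorElement_def, a, hg]
    refine ih ?_
    rw [← map_derivedSeries_eq hπ k, h, Subgroup.map_bot]


/-- Let p be a prime, n ≥ 1, and P a Sylow p-subgroup of the symmetric group on n letters. Then the derived length of P is exactly k = ⌊log_p n⌋ (the largest k with p^k ≤ n): the k-th derived subgroup of P is trivial and, when k ≥ 1, the (k−1)-st is not. -/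
theorem result (p : ℕ) [Fact p.Prime] (n : ℕ) (hn : 1 ≤ n) (P : Sylow p (Equiv.Perm (Fin n))) : derivedSeries ↥(P : Subgroup (Equiv.Perm (Fin n))) (Nat.log p n) = ⊥ ∧ (1 ≤ Nat.log p n → derivedSeries ↥(P : Subgroup (Equiv.Perm (Fin n))) (Nat.log p n - 1) ≠ ⊥) := by
  have hp : p.Prime := Fact.out
  refine ⟨?_, fun hk => ?_⟩
  · refine upper (p := p) _ _ (Fin n) P.2 fun x => ?_
    obtain ⟨j, hj⟩ := P.2.card_orbit x
    rw [hj]
    refine Nat.pow_le_pow_right hp.pos (Nat.le_log_of_pow_le hp.one_lt ?_)
    rw [← hj]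
    exact (Finite.card_subtype_le _).trans_eq (Nat.card_fin n)
  · obtain ⟨m, hm⟩ : ∃ m, Nat.log p n = m + 1 := ⟨Nat.log p n - 1, by omega⟩
    rw [hm, Nat.add_sub_cancel]
    intro hbot
    let C := Multiplicative (ZMod p)
    have hC : Nat.card C = p := (Nat.card_congr Multiplicative.toAdd).trans (Nat.card_zmod p)
    have hle : Nat.card (Fin (m + 1) → C) ≤ n := by
      rw [Nat.card_fun, Nat.card_fin, hC, ← hm]
      exact Nat.pow_log_le_self p (by omega)
    let e : (Fin (m + 1) → C) ↪ Fin n := (Finite.equivFin _).toEmbedding.trans (Fin.castLEEmb hle)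
    let f := (Equiv.Perm.viaEmbeddingHom e).comp (iteratedWreathToPermHom C (m + 1))
    have hf : Function.Injective f := (Equiv.Perm.viaEmbeddingHom_injective e).comp (iteratedWreathToPermHomInj C (m + 1))
    have hWp : IsPGroup p (IteratedWreathProduct C (m + 1)) :=
      IsPGroup.of_card (n := ∑ i ∈ Finset.range (m + 1), p ^ i) (by rw [IteratedWreathProduct.card, hC])
    obtain ⟨T, hT⟩ := ((hWp.of_surjective f.rangeRestrict f.rangeRestrict_surjective)).exists_le_sylow
    let g : IteratedWreathProduct C (m + 1) →* ↥(P : Subgroup (Equiv.Perm (Fin n))) :=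
      ((T.equiv P).toMonoidHom.comp (Subgroup.inclusion hT)).comp f.rangeRestrict
    have hg : Function.Injective g := ((T.equiv P).injective.comp (Subgroup.inclusion_injective hT)).comp
      (fun a b e => hf (congrArg Subtype.val e))
    refine lower (p := p) C hC m ?_
    have h1 := map_derivedSeries_le_derivedSeries g m
    rw [hbot, le_bot_iff] at h1
    exact (Subgroup.map_eq_bot_iff_of_injective _ hg).1 h1

end Cfsg.Agent.S4014
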