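import Cfsg.Statements.S4017
import Cfsg.Agent.MixedPrimes.Four
-- import your own Cfsg.Agent.* helpers here

set_option autoImplicit false
open Cfsg

namespace Cfsg.Agent.S4017

/-- Let G be a finite group and let p and q be distinct primes dividing the order of G, with p odd. Suppose that p divides the order of every proper subgroup of G that is neither a q-group nor of order prime to q. Let q^a be the q-part of the order of G. If p > q^a − 1, or if p = q^a − 1 and the Sylow p-subgroups of G are abelian, then p and q are the only primes dividing the order of G. -/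
theorem result {G : Type*} [Group G] [Finite G]
    {p q : ℕ} (hp : p.Prime) (hq : q.Prime) (hpq : p ≠ q) (hp2 : p ≠ 2)
    (hpG : p ∣ Nat.card G) (hqG : q ∣ Nat.card G)
    (hmix : ∀ H : Subgroup G, H ≠ ⊤ → ¬ IsPGroup q H → q ∣ Nat.card H → p ∣ Nat.card H)
    (hlarge : q ^ (Nat.card G).factorization q - 1 < p ∨
      (p = q ^ (Nat.card G).factorization q - 1 ∧ ∀ P : Sylow p G, IsMulCommutative P)) :
    ∀ r : ℕ, r.Prime → r ∣ Nat.card G → r = p ∨ r = q := by
  induction hn : Nat.card G using Nat.strong_induction_on generalizing G with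
  | _ n ih =>
    subst hn
    intro r hr hrG
    by_contra hcon
    push Not at hcon
    refine Cfsg.Lib.Mixed.false_of_ctx (G := G) (p := p) (q := q)
      ⟨hp, hq, hpq, hp2, hpG, hqG, fun H hH hqH => ?_, ⟨r, hr, hrG, hcon.1, hcon.2⟩, hlarge⟩
    by_cases hHq : IsPGroup q H
    · intro s hs hsH
      haveI := Fact.mk hq
      obtain ⟨k, hk⟩ := IsPGroup.iff_card.1 hHq
      exact Or.inr ((Nat.prime_dvd_prime_iff_eq hs hq).1 (hs.dvd_of_dvd_pow (hk ▸ hsH)))
    have hlt : Nat.card H < Nat.card G :=
      lt_of_le_of_ne (Nat.le_of_dvd Nat.card_pos (Subgroup.card_subgroup_dvd_card H))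
        fun e => hH (Subgroup.eq_top_of_card_eq H e)
    refine ih (Nat.card H) hlt (G := H) (hmix H hH hHq hqH) hqH (fun K hK hKq hqK => ?_) ?_ rfl
    · have hc : Nat.card (K.map H.subtype) = Nat.card K :=
        Subgroup.card_map_of_injective H.subtype_injective
      rw [← hc]
      refine hmix _ (fun e => hH (top_le_iff.1 (e ▸ Subgroup.map_subtype_le K))) (fun h => hKq ?_)
        (hc.symm ▸ hqK)
      exact h.of_equiv (K.equivMapOfInjective _ H.subtype_injective).symm
    · have hle : q ^ (Nat.card H).factorization q ≤ q ^ (Nat.card G).factorization q :=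
        Nat.pow_le_pow_right hq.pos ((Nat.factorization_le_iff_dvd Nat.card_pos.ne' Nat.card_pos.ne').2
          (Subgroup.card_subgroup_dvd_card H) q)
      have hpos : 1 ≤ q ^ (Nat.card H).factorization q := Nat.one_le_pow _ _ hq.pos
      rcases hlarge with h | ⟨h, hab⟩
      · exact Or.inl (by omega)
      rcases hle.lt_or_eq with h' | h'
      · exact Or.inl (by omega)
      refine Or.inr ⟨by rw [h']; exact h, fun P => ⟨⟨fun a b => ?_⟩⟩⟩
      haveI := Fact.mk hp
      obtain ⟨R, hR⟩ := (P.2.map H.subtype).exists_le_sylow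
      haveI := hab R
      refine Subtype.ext (Subtype.ext ?_)
      have hc := mul_comm'
        (⟨H.subtype (a : H), hR ⟨(a : H), a.2, rfl⟩⟩ : (R : Subgroup G))
        ⟨H.subtype (b : H), hR ⟨(b : H), b.2, rfl⟩⟩
      simpa [Subtype.ext_iff] using hc

end Cfsg.Agent.S4017
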