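import Cfsg.Statements.S4019
import Cfsg.Agent.EqualOrder.Rank
import Cfsg.Agent.EqualOrder.Quaternion
import Cfsg.Agent.EqualOrder.JR.Ree

set_option autoImplicit false
open Cfsg

namespace Cfsg.Agent.S4019

/-- Let G be a finite group in which, for every prime p, any two p-subgroups of the same order are conjugate. Then G/O(G), O(G) the largest normal subgroup of odd order, is one of: a cyclic 2-group; the one-dimensional affine group over the field with 8 elements; the one-dimensional semi-affine group (affine maps twisted by field automorphisms) over the field with 8 or with 32 elements; a simple group of order 175560; PSL₂(8); the full automorphism group of PSL₂(32); or PSL₂(p), PSL₂(p³), SL₂(p), SL₂(p³) for a prime p ≡ ±3 (mod 8). -/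
theorem result {G : Type*} [Group G] [Finite G]
    (hD : ∀ p : ℕ, p.Prime → ∀ H K : Subgroup G, IsPGroup p H → IsPGroup p K → Nat.card H = Nat.card K →
      ∃ g : G, K = H.map (MulAut.conj g).toMonoidHom) :
    (IsCyclic (G ⧸ Cfsg.oddCore G) ∧ IsPGroup 2 (G ⧸ Cfsg.oddCore G)) ∨
    Nonempty (G ⧸ Cfsg.oddCore G ≃* Cfsg.affineGroup (GaloisField 2 3)) ∨
    Nonempty (G ⧸ Cfsg.oddCore G ≃* Cfsg.semiaffineGroup (GaloisField 2 3)) ∨
    Nonempty (G ⧸ Cfsg.oddCore G ≃* Cfsg.semiaffineGroup (GaloisField 2 5)) ∨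
    Cfsg.IsJ1 (G ⧸ Cfsg.oddCore G) ∨
    Nonempty (G ⧸ Cfsg.oddCore G ≃* Matrix.ProjectiveSpecialLinearGroup (Fin 2) (GaloisField 2 3)) ∨
    Nonempty (G ⧸ Cfsg.oddCore G ≃* MulAut (Matrix.ProjectiveSpecialLinearGroup (Fin 2) (GaloisField 2 5))) ∨
    (∃ (p : ℕ) (_ : Fact p.Prime), (p % 8 = 3 ∨ p % 8 = 5) ∧
      (Nonempty (G ⧸ Cfsg.oddCore G ≃* Matrix.ProjectiveSpecialLinearGroup (Fin 2) (ZMod p)) ∨
       Nonempty (G ⧸ Cfsg.oddCore G ≃* Matrix.ProjectiveSpecialLinearGroup (Fin 2) (GaloisField p 3)) ∨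
       Nonempty (G ⧸ Cfsg.oddCore G ≃* Matrix.SpecialLinearGroup (Fin 2) (ZMod p)) ∨
       Nonempty (G ⧸ Cfsg.oddCore G ≃* Matrix.SpecialLinearGroup (Fin 2) (GaloisField p 3)))) := by
  classical
  have hE : Cfsg.Lib.EqualOrder.PEqConj (G ⧸ Cfsg.oddCore G) :=
    Cfsg.Lib.EqualOrder.PEqConj.quotient hD (Cfsg.oddCore G)
  have hO := Cfsg.Lib.EqualOrder.noOdd_quotient (G := G)
  haveI : Fact (Nat.Prime 2) := ⟨Nat.prime_two⟩
  haveI : Fact (Nat.Prime 3) := ⟨Nat.prime_three⟩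
  obtain ⟨P⟩ := (inferInstance : Nonempty (Sylow 2 (G ⧸ Cfsg.oddCore G)))
  have hcyc := fun hc : IsCyclic ↥(P : Subgroup (G ⧸ Cfsg.oddCore G)) =>
    Cfsg.Lib.EqualOrder.cyclic_shape hO P hc
  rcases Cfsg.Agent.S4020.result hE P with hc | hel | ⟨⟨e⟩⟩
  · exact Or.inl (hcyc hc)
  · obtain ⟨n, hn⟩ := IsPGroup.iff_card.1 P.2
    by_cases hn2 : n ≤ 1
    · refine Or.inl (hcyc ?_)
      interval_cases n
      · haveI : Subsingleton ↥(P : Subgroup (G ⧸ Cfsg.oddCore G)) :=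
          (Nat.card_eq_one_iff_unique.1 (by rw [hn]; norm_num)).1
        infer_instance
      · exact isCyclic_of_prime_card (p := 2) (by rw [hn]; norm_num)
    by_cases hn3 : n = 2
    · subst hn3
      refine Or.inr (Or.inr (Or.inr (Or.inr (Or.inr (Or.inr (Or.inr ?_))))))
      haveI : Nontrivial ↥(P : Subgroup (G ⧸ Cfsg.oddCore G)) :=
        Finite.one_lt_card_iff_nontrivial.1 (by rw [hn]; norm_num)
      have hK : IsKleinFour ↥(P : Subgroup (G ⧸ Cfsg.oddCore G)) :=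
        ⟨by rw [hn]; norm_num,
          Monoid.exponent_eq_prime_iff Nat.prime_two |>.2 fun a ha =>
            orderOf_eq_prime (Subtype.ext (hel.2 _ a.2)) ha⟩
      by_cases hs : Group.IsSolvable (G ⧸ Cfsg.oddCore G)
      · obtain ⟨f⟩ := hE.four_solvable hO P hK hs
        obtain ⟨g⟩ := Cfsg.Lib.Classical.SmallPSL.psl_three (F := ZMod 3) (ZMod.card 3)
        exact ⟨3, inferInstance, Or.inl rfl, Or.inl ⟨f.trans g.symm⟩⟩
      obtain ⟨L, hLn, F, _, _, h8, h5, hidx, hcen, -, ⟨e⟩⟩ := Cfsg.Lib.EqualOrder.four_nonsolvable hO P hK hs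
      haveI := hLn
      obtain ⟨p, hp, hp8, hF, ⟨f⟩⟩ := hE.psl_case L h8 h5 hidx hcen e
      haveI := Fact.mk hp
      refine ⟨p, inferInstance, hp8, ?_⟩
      rcases hF with hF | hF
      · obtain ⟨g⟩ := Cfsg.Lib.PrimePowerOrders.psl_congr (F := F) (K := ZMod p) (by rw [hF, ZMod.card])
        exact Or.inl ⟨f.trans g⟩
      · haveI := Fintype.ofFinite (GaloisField p 3)
        obtain ⟨g⟩ := Cfsg.Lib.PrimePowerOrders.psl_congr (F := F) (K := GaloisField p 3)
          (by rw [hF, ← Nat.card_eq_fintype_card, GaloisField.card p 3 (by norm_num)])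
        exact Or.inr (Or.inl ⟨f.trans g⟩)
    have h8 : 8 ≤ Nat.card ↥(P : Subgroup (G ⧸ Cfsg.oddCore G)) := by
      rw [hn]; exact le_trans (by norm_num) (Nat.pow_le_pow_right two_pos (show 3 ≤ n by omega))
    rcases hE.rank_shape hO P hel h8 with h | h | h | h | h | ⟨M, hMn, hPM, hcen, hs, hab, hc8, t, E, E₀, F, _, _, h5, hm, hH⟩
    · exact Or.inr (Or.inl h)
    · exact Or.inr (Or.inr (Or.inl h))
    · exact Or.inr (Or.inr (Or.inr (Or.inl h)))
    · exact Or.inr (Or.inr (Or.inr (Or.inr (Or.inr (Or.inl h)))))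
    · exact Or.inr (Or.inr (Or.inr (Or.inr (Or.inr (Or.inr (Or.inl h))))))
    · refine Or.inr (Or.inr (Or.inr (Or.inr (Or.inl ?_))))
      haveI := hMn
      exact Cfsg.Lib.EqualOrder.JR.isJ1 (t := t) (E := E) (E₀ := E₀) (F := F)
        { dp := hE, cen := hcen, simple := hs, nab := hab,
          odd := Nat.not_even_iff_odd.1 fun he => P.not_dvd_index (he.two_dvd.trans (Subgroup.index_dvd_of_le hPM)),
          card8 := hc8,
          ab := fun S => ⟨⟨fun a b => Subtype.ext (Cfsg.Lib.EqualOrder.abTwo_sub P hel M S a a.2 b b.2)⟩⟩,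
          five := h5, modq := hm, hyp := hH }
  · refine Or.inr (Or.inr (Or.inr (Or.inr (Or.inr (Or.inr (Or.inr ?_))))))
    by_cases hs : Group.IsSolvable ((G ⧸ Cfsg.oddCore G) ⧸ Subgroup.center (G ⧸ Cfsg.oddCore G))
    · exact ⟨3, inferInstance, Or.inl rfl, Or.inr (Or.inr (Or.inl (hE.quat_solvable hO P e hs)))⟩
    obtain ⟨-, hO', S, hS⟩ := Cfsg.Lib.EqualOrder.quat_quotient hO P e
    obtain ⟨L, hLn, F, _, _, h8, h5, hidx, hcen, -, ⟨ψ⟩⟩ := Cfsg.Lib.EqualOrder.four_nonsolvable hO' S hS hs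
    haveI := hLn
    obtain ⟨p, hp, hp8, hF, ⟨f⟩⟩ := (hE.quotient _).psl_case L h8 h5 hidx hcen ψ
    haveI := Fact.mk hp
    obtain ⟨g⟩ := Cfsg.Lib.EqualOrder.quat_psl hO P e (Nat.odd_iff.2 (by omega)) h5 f
    refine ⟨p, inferInstance, hp8, Or.inr (Or.inr ?_)⟩
    rcases hF with hF | hF
    · obtain ⟨σ⟩ := Cfsg.Lib.EqualOrder.slCongr
        (FiniteField.ringEquivOfCardEq (K := F) (K' := ZMod p) (by rw [hF, ZMod.card]))
      exact Or.inl ⟨g.trans σ⟩
    · haveI := Fintype.ofFinite (GaloisField p 3)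
      obtain ⟨σ⟩ := Cfsg.Lib.EqualOrder.slCongr
        (FiniteField.ringEquivOfCardEq (K := F) (K' := GaloisField p 3)
          (by rw [hF, ← Nat.card_eq_fintype_card, GaloisField.card p 3 (by norm_num)]))
      exact Or.inr ⟨g.trans σ⟩

end Cfsg.Agent.S4019
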