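import Cfsg.Statements.S4021
import Cfsg.Agent.EqualOrder.Rank
import Cfsg.Agent.EqualOrder.Quaternion

set_option autoImplicit false
open Cfsg

namespace Cfsg.Agent.S4021

/-- Let G be a finite group in which any two subgroups of the same order are conjugate. Then G/O(G), O(G) the largest normal subgroup of odd order, is one of: a cyclic 2-group; the one-dimensional affine group over the field with 8 elements; the one-dimensional semi-affine group over the field with 8 or with 32 elements; PSL₂(8); the full automorphism group of PSL₂(32); the alternating group of degree 4 or 5; SL₂(3); or SL₂(5). -/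
theorem result {G : Type*} [Group G] [Finite G]
    (hC : ∀ H K : Subgroup G, Nat.card H = Nat.card K → ∃ g : G, K = H.map (MulAut.conj g).toMonoidHom) :
    (IsCyclic (G ⧸ Cfsg.oddCore G) ∧ IsPGroup 2 (G ⧸ Cfsg.oddCore G)) ∨
    Nonempty (G ⧸ Cfsg.oddCore G ≃* Cfsg.affineGroup (GaloisField 2 3)) ∨
    Nonempty (G ⧸ Cfsg.oddCore G ≃* Cfsg.semiaffineGroup (GaloisField 2 3)) ∨
    Nonempty (G ⧸ Cfsg.oddCore G ≃* Cfsg.semiaffineGroup (GaloisField 2 5)) ∨
    Nonempty (G ⧸ Cfsg.oddCore G ≃* Matrix.ProjectiveSpecialLinearGroup (Fin 2) (GaloisField 2 3)) ∨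
    Nonempty (G ⧸ Cfsg.oddCore G ≃* MulAut (Matrix.ProjectiveSpecialLinearGroup (Fin 2) (GaloisField 2 5))) ∨
    Nonempty (G ⧸ Cfsg.oddCore G ≃* alternatingGroup (Fin 4)) ∨
    Nonempty (G ⧸ Cfsg.oddCore G ≃* alternatingGroup (Fin 5)) ∨
    Nonempty (G ⧸ Cfsg.oddCore G ≃* Matrix.SpecialLinearGroup (Fin 2) (ZMod 3)) ∨
    Nonempty (G ⧸ Cfsg.oddCore G ≃* Matrix.SpecialLinearGroup (Fin 2) (ZMod 5)) := by
  have hE : Cfsg.Lib.EqualOrder.EqConj (G ⧸ Cfsg.oddCore G) :=
    Cfsg.Lib.EqualOrder.EqConj.quotient hC (Cfsg.oddCore G)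
  have hO := Cfsg.Lib.EqualOrder.noOdd_quotient (G := G)
  haveI : Fact (Nat.Prime 2) := ⟨Nat.prime_two⟩
  obtain ⟨P⟩ := (inferInstance : Nonempty (Sylow 2 (G ⧸ Cfsg.oddCore G)))
  have hcyc := fun hc : IsCyclic ↥(P : Subgroup (G ⧸ Cfsg.oddCore G)) =>
    Cfsg.Lib.EqualOrder.cyclic_shape hO P hc
  rcases Cfsg.Agent.S4020.result hE.toP P with hc | hel | ⟨⟨e⟩⟩
  · exact Or.inl (hcyc hc)
  · obtain ⟨n, hn⟩ := IsPGroup.iff_card.1 P.2
    by_cases hn2 : n ≤ 1
    · refine Or.inl (hcyc ?_)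
      interval_cases n
      · haveI : Subsingleton ↥(P : Subgroup (G ⧸ Cfsg.oddCore G)) :=
          (Nat.card_eq_one_iff_unique.1 (by rw [hn]; norm_num)).1
        infer_instance
      · exact isCyclic_of_prime_card (p := 2) (by rw [hn]; norm_num)
    by_cases hn3 : n = 2
    · subst hn3
      haveI : Nontrivial ↥(P : Subgroup (G ⧸ Cfsg.oddCore G)) :=
        Finite.one_lt_card_iff_nontrivial.1 (by rw [hn]; norm_num)
      have hK : IsKleinFour ↥(P : Subgroup (G ⧸ Cfsg.oddCore G)) :=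
        ⟨by rw [hn]; norm_num,
          Monoid.exponent_eq_prime_iff Nat.prime_two |>.2 fun a ha =>
            orderOf_eq_prime (Subtype.ext (hel.2 _ a.2)) ha⟩
      by_cases hs : Group.IsSolvable (G ⧸ Cfsg.oddCore G)
      · exact Or.inr (Or.inr (Or.inr (Or.inr (Or.inr (Or.inr (Or.inl (hE.toP.four_solvable hO P hK hs)))))))
      · obtain ⟨F, _, _, hF, ⟨f⟩⟩ := hE.four_nonsolvable hO P hK hs
        obtain ⟨g⟩ := Cfsg.Lib.Classical.SmallPSL.psl_five hF
        exact Or.inr (Or.inr (Or.inr (Or.inr (Or.inr (Or.inr (Or.inr (Or.inl ⟨f.trans g⟩)))))))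
    have h8 : 8 ≤ Nat.card ↥(P : Subgroup (G ⧸ Cfsg.oddCore G)) := by
      rw [hn]; exact le_trans (by norm_num) (Nat.pow_le_pow_right two_pos (show 3 ≤ n by omega))
    rcases hE.toP.rank_shape hO P hel h8 with h | h | h | h | h | ⟨M, -, -, -, -, -, hj⟩
    · exact Or.inr (Or.inl h)
    · exact Or.inr (Or.inr (Or.inl h))
    · exact Or.inr (Or.inr (Or.inr (Or.inl h)))
    · exact Or.inr (Or.inr (Or.inr (Or.inr (Or.inl h))))
    · exact Or.inr (Or.inr (Or.inr (Or.inr (Or.inr (Or.inl h)))))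
    · exact (hE.not_JR hj).elim
  · rcases hE.quat_shape hO P e with h | h
    · exact Or.inr (Or.inr (Or.inr (Or.inr (Or.inr (Or.inr (Or.inr (Or.inr (Or.inl h))))))))
    · exact Or.inr (Or.inr (Or.inr (Or.inr (Or.inr (Or.inr (Or.inr (Or.inr (Or.inr h))))))))

end Cfsg.Agent.S4021
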