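import Cfsg.Statements.S4022
import Mathlib
import Cfsg.Agent.Coprime.Hall
import Cfsg.Agent.Coprime.SchurZassenhaus
import Cfsg.Agent.SolvStruct.CyclicProduct

set_option autoImplicit false
open Cfsg

namespace Cfsg.Agent.S4022


open Subgroup Cfsg.Lib.Coprime

universe u

variable {G : Type u} [Group G] [Finite G]

omit [Finite G] in
theorem card_mul_relIndex {A L : Subgroup G} (h : A ≤ L) : Nat.card A * A.relIndex L = Nat.card L := by
  rw [← relIndex_bot_left A, relIndex_mul_relIndex _ _ _ bot_le h, relIndex_bot_left]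

/-- Every subgroup `H` with a `q`-element contains the normal `q`-group `N` when the Sylow subgroups are cyclic. -/
theorem normal_le_of_dvd {q : ℕ} [Fact q.Prime] (hcyc : ∀ P : Sylow q G, IsCyclic P) (N : Subgroup G) [N.Normal]
    (hN : IsPGroup q N) (hexp : ∀ x ∈ N, x ^ q = 1) (H : Subgroup G) (hd : q ∣ Nat.card H) : N ≤ H := by
  by_cases hb : N = ⊥
  · rw [hb]; exact bot_le
  obtain ⟨x, hx⟩ := exists_prime_orderOf_dvd_card' (G := H) q hd
  have hxo : orderOf (x : G) = q := by rw [Subgroup.orderOf_coe, hx]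
  have hxp : IsPGroup q (zpowers (x : G)) := IsPGroup.of_card (n := 1) (by rw [Nat.card_zpowers, hxo, pow_one])
  obtain ⟨S, hS⟩ := (IsPGroup.to_sup_of_normal_left hN hxp).exists_le_sylow
  haveI := hcyc S
  haveI : IsCyclic N := isCyclic_of_injective (inclusion (le_sup_left.trans hS)) (inclusion_injective _)
  have hcard : Nat.card N = q := by
    have h1 : Monoid.exponent N ∣ q :=
      Monoid.exponent_dvd_of_forall_pow_eq_one fun y => Subtype.ext (by simpa using hexp y y.2)
    rw [IsCyclic.exponent_eq_card] at h1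
    exact ((Nat.dvd_prime Fact.out).1 h1).resolve_left (fun h => hb (Subgroup.card_eq_one.1 h))
  have h := Cfsg.Lib.SolvStruct.CyclicProduct.eq_of_card_eq_of_isCyclic (A := (S : Subgroup G)) (le_sup_left.trans hS)
    (le_sup_right.trans hS) (by rw [hcard, Nat.card_zpowers, hxo])
  rw [h, zpowers_le]
  exact x.2

omit [Finite G] in
/-- A conjugation modulo `N` lifts. -/
theorem sup_of_quotient (N : Subgroup G) [N.Normal] (H K : Subgroup G) (g : G)
    (h : K.map (QuotientGroup.mk' N) = conjMap (QuotientGroup.mk' N g) (H.map (QuotientGroup.mk' N))) :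
    K ⊔ N = conjMap g H ⊔ N := by
  rw [← map_conjMap] at h
  have h2 := congrArg (Subgroup.comap (QuotientGroup.mk' N)) h
  rwa [comap_map_eq, comap_map_eq, QuotientGroup.ker_mk'] at h2

theorem cyclic_quotient {q : ℕ} [Fact q.Prime] (hcyc : ∀ P : Sylow q G, IsCyclic P) (N : Subgroup G) [N.Normal]
    (P : Sylow q (G ⧸ N)) : IsCyclic P := by
  obtain ⟨S, hS⟩ := Sylow.mapSurjective_surjective (QuotientGroup.mk'_surjective N) q P
  haveI := hcyc S
  rw [← hS]
  exact isCyclic_of_surjective ((QuotientGroup.mk' N).subgroupMap (S : Subgroup G))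
    ((QuotientGroup.mk' N).subgroupMap_surjective _)

/-- Cases in which conjugacy in `G ⧸ N` gives conjugacy in `G`. -/
theorem of_quotient (N : Subgroup G) [N.Normal] (hNs : Group.IsSolvable N) (H K : Subgroup G)
    (hcard : Nat.card H = Nat.card K) (hcase : (N ≤ H ∧ N ≤ K) ∨ (Nat.card N).Coprime (Nat.card H))
    (hq : Nat.card (H.map (QuotientGroup.mk' N)) = Nat.card (K.map (QuotientGroup.mk' N)) →
      ∃ x : G ⧸ N, K.map (QuotientGroup.mk' N) = conjMap x (H.map (QuotientGroup.mk' N))) :
    ∃ g : G, K = conjMap g H := by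
  have hm : ∀ L : Subgroup G, N.relIndex L = Nat.card (L.map (QuotientGroup.mk' N)) := fun L => by
    conv_lhs => rw [← QuotientGroup.ker_mk' N]
    rw [relIndex_ker]
  have hdata : Nat.card (H.map (QuotientGroup.mk' N)) = Nat.card (K.map (QuotientGroup.mk' N)) := by
    rw [← hm, ← hm]
    rcases hcase with ⟨h1, h2⟩ | h1
    · exact Nat.eq_of_mul_eq_mul_left Nat.card_pos (by rw [card_mul_relIndex h1, card_mul_relIndex h2, hcard])
    · have h2 : (Nat.card N).Coprime (Nat.card K) := hcard ▸ h1
      rw [← inf_relIndex_right N H, ← inf_relIndex_right N K, Cfsg.Lib.Coprime.inf_eq_bot_of_coprime h1, Cfsg.Lib.Coprime.inf_eq_bot_of_coprime h2,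
        relIndex_bot_left, relIndex_bot_left, hcard]
  obtain ⟨x, hx⟩ := hq hdata
  obtain ⟨g, rfl⟩ := QuotientGroup.mk'_surjective N x
  have h := sup_of_quotient N H K g hx
  rcases hcase with ⟨h1, h2⟩ | h1
  · have h3 : N ≤ conjMap g H := by
      intro n hn
      rw [mem_conjMap]
      exact h1 (by simpa using ‹N.Normal›.conj_mem n hn g⁻¹)
    exact ⟨g, by rwa [sup_eq_left.2 h2, sup_eq_left.2 h3] at h⟩
  · obtain ⟨n, -, hn⟩ := exists_conj_eq_of_coprime (N := N) (H := conjMap g H) (K := K)
      (by rw [normalizer_eq_top_iff.2 ‹N.Normal›]; exact le_top) (by rwa [card_conjMap]) (Or.inl hNs)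
      (by rw [sup_comm, ← h]; exact le_sup_left) (by rw [card_conjMap, hcard])
    exact ⟨n * g, by rw [hn, conjMap_mul]⟩

/-- Two subgroups of the same order prime to `r`. -/
theorem coprime_case (r : ℕ) : ∀ (n : ℕ) (G : Type u) [Group G] [Finite G], Nat.card G ≤ n → Group.IsSolvable G →
    (∀ p : ℕ, p.Prime → p ≠ r → ∀ P : Sylow p G, IsCyclic P) → ∀ H K : Subgroup G, Nat.card H = Nat.card K →
    (r.Prime → ¬ r ∣ Nat.card H) → ∃ g : G, K = conjMap g H := by
  intro n
  induction n with
  | zero => intro G _ _ h; exact absurd h (not_le.2 Nat.card_pos)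
  | succ n ih =>
    intro G _ _ hn hsol hcyc H K hcard hr
    by_cases hH1 : Nat.card H = 1
    · exact ⟨1, by rw [conjMap_one, (card_eq_one (H := H)).1 hH1, (card_eq_one (H := K)).1 (hcard ▸ hH1)]⟩
    haveI : Nontrivial G := by
      by_contra hh
      rw [not_nontrivial_iff_subsingleton] at hh
      exact hH1 (Nat.card_eq_one_iff_unique.2 ⟨inferInstance, ⟨1⟩⟩)
    obtain ⟨N, -, hNn, hNb, hmin⟩ := exists_minimal_normal (G := G) (K := ⊤) inferInstance top_ne_bot
    haveI := hNn
    haveI := hsol
    obtain ⟨-, q, hq, hNq, hexp⟩ := minimal_normal_solvable (N := N) inferInstance hNb hmin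
    haveI := Fact.mk hq
    obtain ⟨j, hj⟩ := IsPGroup.iff_card.1 hNq
    refine of_quotient N inferInstance H K hcard ?_ fun hm => ?_
    · by_cases hd : q ∣ Nat.card H
      · have hqr : q ≠ r := fun e => hr (e ▸ hq) (e ▸ hd)
        exact Or.inl ⟨normal_le_of_dvd (hcyc q hq hqr) N hNq hexp H hd,
          normal_le_of_dvd (hcyc q hq hqr) N hNq hexp K (hcard ▸ hd)⟩
      · exact Or.inr (hj ▸ ((hq.coprime_iff_not_dvd).2 hd).pow_left j)
    · refine ih (G ⧸ N) (by have := card_quotient_lt (G := G) hNb; omega) inferInstance ?_ _ _ hm ?_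
      · intro p hp hpr P
        haveI := Fact.mk hp
        exact cyclic_quotient (hcyc p hp hpr) N P
      · exact fun hrp h => hr hrp (h.trans (card_map_dvd _ _))

/-- Conjugacy of `p`-subgroups of equal order passes to quotients. -/
theorem quotient_pConj {p : ℕ} [Fact p.Prime]
    (hD : ∀ H K : Subgroup G, IsPGroup p H → IsPGroup p K → Nat.card H = Nat.card K → ∃ g : G, K = conjMap g H)
    (N : Subgroup G) [N.Normal] (H K : Subgroup (G ⧸ N)) (hH : IsPGroup p H) (hK : IsPGroup p K)
    (hcard : Nat.card H = Nat.card K) : ∃ g : G ⧸ N, K = conjMap g H := by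
  have key : ∀ L : Subgroup (G ⧸ N), IsPGroup p L → ∃ X : Subgroup G, IsPGroup p X ∧
      X.map (QuotientGroup.mk' N) = L ∧ Nat.card X = p ^ (Nat.card N * Nat.card L).factorization p := by
    intro L hL
    set f := (QuotientGroup.mk' N).subgroupComap L
    have hf : Function.Surjective f :=
      MonoidHom.subgroupComap_surjective_of_surjective _ _ (QuotientGroup.mk'_surjective N)
    obtain ⟨S⟩ : Nonempty (Sylow p ↥(L.comap (QuotientGroup.mk' N))) := inferInstance
    refine ⟨(S : Subgroup ↥(L.comap (QuotientGroup.mk' N))).map (L.comap (QuotientGroup.mk' N)).subtype, S.2.map _, ?_, ?_⟩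
    · have h1 : ((S.mapSurjective hf : Sylow p L) : Subgroup L) = ⊤ :=
        ((S.mapSurjective hf).3 (hL.to_subgroup ⊤) le_top).symm
      rw [Sylow.coe_mapSurjective] at h1
      rw [Subgroup.map_map, show (QuotientGroup.mk' N).comp (L.comap (QuotientGroup.mk' N)).subtype = L.subtype.comp f
        from MonoidHom.ext fun _ => rfl, ← Subgroup.map_map, h1, ← MonoidHom.range_eq_map, range_subtype]
    · rw [card_map_of_injective (subtype_injective _), Sylow.card_eq_multiplicity, card_comap_mk']
  obtain ⟨X, hXp, hX, hXc⟩ := key H hH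
  obtain ⟨Y, hYp, hY, hYc⟩ := key K hK
  obtain ⟨g, hg⟩ := hD X Y hXp hYp (by rw [hXc, hYc, hcard])
  exact ⟨QuotientGroup.mk' N g, by rw [← hY, hg, map_conjMap, hX]⟩

theorem general (r : ℕ) : ∀ (n : ℕ) (G : Type u) [Group G] [Finite G], Nat.card G ≤ n → Group.IsSolvable G →
    (∀ p : ℕ, p.Prime → ∀ H K : Subgroup G, IsPGroup p H → IsPGroup p K → Nat.card H = Nat.card K →
      ∃ g : G, K = conjMap g H) →
    (∀ p : ℕ, p.Prime → p ≠ r → ∀ P : Sylow p G, IsCyclic P) → ∀ H K : Subgroup G, Nat.card H = Nat.card K →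
    ∃ g : G, K = conjMap g H := by
  intro n
  induction n with
  | zero => intro G _ _ h; exact absurd h (not_le.2 Nat.card_pos)
  | succ n ih =>
    intro G _ _ hn hsol hD hcyc H K hcard
    by_cases hH1 : Nat.card H = 1
    · exact ⟨1, by rw [conjMap_one, (card_eq_one (H := H)).1 hH1, (card_eq_one (H := K)).1 (hcard ▸ hH1)]⟩
    haveI : Nontrivial G := by
      by_contra hh
      rw [not_nontrivial_iff_subsingleton] at hh
      exact hH1 (Nat.card_eq_one_iff_unique.2 ⟨inferInstance, ⟨1⟩⟩)
    obtain ⟨N, -, hNn, hNb, hmin⟩ := exists_minimal_normal (G := G) (K := ⊤) inferInstance top_ne_bot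
    haveI := hNn
    haveI := hsol
    obtain ⟨-, q, hq, hNq, hexp⟩ := minimal_normal_solvable (N := N) inferInstance hNb hmin
    haveI := Fact.mk hq
    obtain ⟨j, hj⟩ := IsPGroup.iff_card.1 hNq
    have hquot : (N ≤ H ∧ N ≤ K) ∨ (Nat.card N).Coprime (Nat.card H) → ∃ g : G, K = conjMap g H := fun hcase =>
      of_quotient N inferInstance H K hcard hcase fun hm =>
        ih (G ⧸ N) (by have := card_quotient_lt (G := G) hNb; omega) inferInstance
          (fun p hp A B hA hB hAB => by
            haveI := Fact.mk hp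
            exact quotient_pConj (hD p hp) N A B hA hB hAB)
          (fun p hp hpr P => by
            haveI := Fact.mk hp
            exact cyclic_quotient (hcyc p hp hpr) N P) _ _ hm
    by_cases hd : q ∣ Nat.card H
    swap
    · exact hquot (Or.inr (hj ▸ ((hq.coprime_iff_not_dvd).2 hd).pow_left j))
    by_cases hqr : q = r
    swap
    · exact hquot (Or.inl ⟨normal_le_of_dvd (hcyc q hq hqr) N hNq hexp H hd,
        normal_le_of_dvd (hcyc q hq hqr) N hNq hexp K (hcard ▸ hd)⟩)
    set a := (Nat.card H).factorization q with ha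
    rcases le_or_gt j a with hja | haj
    · have hle : ∀ L : Subgroup G, q ^ j ∣ Nat.card L → N ≤ L := by
        intro L hL
        obtain ⟨T, hT⟩ := Sylow.exists_subgroup_card_pow_prime q hL
        obtain ⟨g, hg⟩ := hD q hq N (T.map L.subtype) hNq (IsPGroup.of_card (n := j)
          (by rw [card_map_of_injective L.subtype_injective, hT]))
          (by rw [card_map_of_injective L.subtype_injective, hT, hj])
        rw [conjMap_eq_self (by rw [normalizer_eq_top_iff.2 hNn]; trivial)] at hg
        exact hg ▸ map_subtype_le _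
      have hdvd : q ^ j ∣ Nat.card H := (pow_dvd_pow q hja).trans (Nat.ordProj_dvd _ _)
      exact hquot (Or.inl ⟨hle H hdvd, hle K (hcard ▸ hdvd)⟩)
    -- the `q`-part lies inside `N`
    have hpart : ∀ L : Subgroup G, (Nat.card L).factorization q = a → Nat.card ↥(L ⊓ N) = q ^ a := by
      intro L hL
      obtain ⟨S⟩ : Nonempty (Sylow q ↥L) := inferInstance
      have hSc : Nat.card ((S : Subgroup ↥L).map L.subtype) = q ^ a := by
        rw [card_map_of_injective L.subtype_injective, Sylow.card_eq_multiplicity, hL]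
      obtain ⟨N0, hN0⟩ := Sylow.exists_subgroup_card_pow_prime q (G := N) (n := a) (hj ▸ pow_dvd_pow q haj.le)
      have hN0c : Nat.card (N0.map N.subtype) = q ^ a := by rw [card_map_of_injective N.subtype_injective, hN0]
      obtain ⟨g, hg⟩ := hD q hq (N0.map N.subtype) ((S : Subgroup ↥L).map L.subtype) (IsPGroup.of_card hN0c)
        (S.2.map _) (hN0c.trans hSc.symm)
      have hSN : (S : Subgroup ↥L).map L.subtype ≤ N := by
        rw [hg]
        refine (conjMap_mono (map_subtype_le _)).trans ?_
        rw [conjMap_eq_self (by rw [normalizer_eq_top_iff.2 hNn]; trivial)]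
      obtain ⟨k, hk⟩ := IsPGroup.iff_card.1 (hNq.to_le (inf_le_right : L ⊓ N ≤ N))
      have h1 : q ^ k ∣ Nat.card L := hk ▸ card_dvd_of_le inf_le_left
      have h2 : q ^ a ∣ q ^ k := by
        rw [← hk, ← hSc]
        exact card_dvd_of_le (le_inf (map_subtype_le _) hSN)
      rw [hq.pow_dvd_iff_le_factorization Nat.card_pos.ne', hL] at h1
      rw [hk]
      exact le_antisymm (Nat.pow_le_pow_right hq.pos h1) (Nat.le_of_dvd (pow_pos hq.pos _) h2)
    have hHi := hpart H ha.symm
    have hKi := hpart K (by rw [← hcard])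
    obtain ⟨g, hg⟩ := hD q hq (H ⊓ N) (K ⊓ N) (hNq.to_le inf_le_right) (hNq.to_le inf_le_right) (hHi.trans hKi.symm)
    have hcompl : ∀ L : Subgroup G, (Nat.card L).factorization q = a → Nat.card ↥(L ⊓ N) = q ^ a →
        ∃ C, C ≤ L ∧ (L ⊓ N) ⊔ C = L ∧ Nat.card C = (L ⊓ N).relIndex L ∧ ¬ q ∣ Nat.card C := by
      intro L hL hc
      have h1 := card_mul_relIndex (inf_le_left : L ⊓ N ≤ L)
      rw [hc] at h1
      have h2 : ¬ q ∣ (L ⊓ N).relIndex L := by
        intro h
        have h3 : q ^ (a + 1) ∣ Nat.card L := by rw [← h1, pow_succ]; exact mul_dvd_mul_left _ h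
        rw [hq.pow_dvd_iff_le_factorization Nat.card_pos.ne', hL] at h3
        omega
      obtain ⟨C, hCL, hsup, hCc⟩ := exists_complement_in (N := L ⊓ N) (L := L) inf_le_left
        (le_normalizer_inf le_normalizer (by rw [normalizer_eq_top_iff.2 hNn]; exact le_top))
        (by rw [hc]; exact (hq.coprime_iff_not_dvd.2 h2).pow_left a)
      exact ⟨C, hCL, hsup, hCc, hCc ▸ h2⟩
    obtain ⟨C, hCL, hCsup, hCc, hCq⟩ := hcompl H ha.symm hHi
    obtain ⟨D, hDL, hDsup, hDc, -⟩ := hcompl K (by rw [← hcard]) hKi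
    set R := K ⊓ N with hR
    set X := normalizer (R : Set G) with hX
    have hCX : conjMap g C ≤ X := by
      rw [hX, hg, normalizer_conjMap]
      exact conjMap_mono (hCL.trans (le_normalizer_inf le_normalizer (by rw [normalizer_eq_top_iff.2 hNn]; exact le_top)))
    have hDX : D ≤ X := hDL.trans (le_normalizer_inf le_normalizer (by rw [normalizer_eq_top_iff.2 hNn]; exact le_top))
    have hCD : Nat.card C = Nat.card D := by
      rw [hCc, hDc]
      exact Nat.eq_of_mul_eq_mul_left (pow_pos hq.pos a)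
        (by conv_lhs => rw [← hHi, card_mul_relIndex inf_le_left, hcard]
            rw [← hKi, card_mul_relIndex inf_le_left])
    obtain ⟨m, hm⟩ := coprime_case r _ X le_rfl inferInstance
      (fun p hp hpr P => by
        haveI := Fact.mk hp
        obtain ⟨T, hT⟩ := (P.2.map X.subtype).exists_le_sylow
        haveI := hcyc p hp hpr T
        haveI : IsCyclic ((P : Subgroup X).map X.subtype) := isCyclic_of_injective (inclusion hT) (inclusion_injective _)
        exact ((P : Subgroup X).equivMapOfInjective X.subtype X.subtype_injective).isCyclic.2 inferInstance)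
      ((conjMap g C).subgroupOf X) (D.subgroupOf X)
      (by rw [Nat.card_congr (subgroupOfEquivOfLe hCX).toEquiv, Nat.card_congr (subgroupOfEquivOfLe hDX).toEquiv,
        card_conjMap, hCD])
      (fun _ => by rw [Nat.card_congr (subgroupOfEquivOfLe hCX).toEquiv, card_conjMap, ← hqr]; exact hCq)
    have hm' := congrArg (Subgroup.map X.subtype) hm
    rw [map_subgroupOf_eq_of_le hDX, map_conjMap, map_subgroupOf_eq_of_le hCX] at hm'
    refine ⟨(m : G) * g, ?_⟩
    rw [← conjMap_mul, ← hCsup, conjMap_sup, conjMap_sup, ← hg, conjMap_eq_self (m.2 : (m : G) ∈ X)]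
    exact hDsup.symm.trans (congrArg (R ⊔ ·) hm')


/-- Let G be a finite solvable group in which, for every prime p, any two p-subgroups of the same order are conjugate, and suppose the Sylow p-subgroups of G are cyclic for all primes p with at most one exception. Then any two subgroups of G of the same order are conjugate. -/
theorem result {G : Type*} [Group G] [Finite G]
    [Group.IsSolvable G] (hD : ∀ p : ℕ, p.Prime → ∀ H K : Subgroup G, IsPGroup p H → IsPGroup p K → Nat.card H = Nat.card K →
      ∃ g : G, K = H.map (MulAut.conj g).toMonoidHom)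
    (r : ℕ) (hcyc : ∀ p : ℕ, p.Prime → p ≠ r → ∀ P : Sylow p G, IsCyclic P) :
    ∀ H K : Subgroup G, Nat.card H = Nat.card K → ∃ g : G, K = H.map (MulAut.conj g).toMonoidHom := by
  intro H K hcard
  exact general r _ G le_rfl inferInstance hD hcyc H K hcard

end Cfsg.Agent.S4022
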