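import Cfsg.Statements.S4023
import Cfsg.Agent.PGroups.OrderSquare

set_option autoImplicit false
open Cfsg

namespace Cfsg.Agent.S4023

open scoped Pointwise

/-- Let p be a prime and G a finite group in which any two p-subgroups of the same order are conjugate, with Sylow p-subgroup P. Then P is cyclic, or elementary abelian, or p = 2 and P is a quaternion group of order 8, or p is odd and P is non-abelian of order p³ and exponent p. -/
theorem result {G : Type*} [Group G] [Finite G]
    {p : ℕ} [Fact p.Prime] (hC : ∀ H K : Subgroup G, IsPGroup p H → IsPGroup p K → Nat.card H = Nat.card K →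
      ∃ g : G, K = H.map (MulAut.conj g).toMonoidHom) (P : Sylow p G) :
    IsCyclic P ∨ Cfsg.IsElementaryAbelian p (P : Subgroup G) ∨
      (p = 2 ∧ Nonempty ((P : Subgroup G) ≃* QuaternionGroup 2)) ∨
      (p ≠ 2 ∧ ¬ IsMulCommutative P ∧ Nat.card P = p ^ 3 ∧ Monoid.exponent P = p) := by
  have hp := (Fact.out : p.Prime)
  have hsub : ∀ H : Subgroup ↥(P : Subgroup G), IsPGroup p (H.map (P : Subgroup G).subtype) := fun H =>
    (P.isPGroup'.to_subgroup H).map _
  have htri := Cfsg.Lib.OrderSquare.trichotomy P.isPGroup'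
    (Cfsg.Lib.OrderSquare.hyp_of_conj (P : Subgroup G) fun A B _ _ h1 h2 =>
      hC A B (IsPGroup.of_card h1) (IsPGroup.of_card h2) (h1.trans h2.symm))
  rcases htri with h | ⟨hp2, k, ⟨e⟩⟩ | hexp
  · exact Or.inl h
  · subst hp2
    rcases Nat.lt_or_ge k 2 with hk | hk
    · interval_cases k
      · left
        haveI : IsCyclic (QuaternionGroup (2 ^ 0)) := isCyclic_of_orderOf_eq_card (QuaternionGroup.xa 0)
          (by rw [QuaternionGroup.orderOf_xa, Nat.card_eq_fintype_card, QuaternionGroup.card]; rfl)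
        exact isCyclic_of_surjective e.symm.toMonoidHom e.symm.surjective
      · exact Or.inr (Or.inr (Or.inl ⟨rfl, ⟨e⟩⟩))
    · exfalso
      obtain ⟨l, rfl⟩ : ∃ l, k = l + 2 := ⟨k - 2, by omega⟩
      haveI : NeZero (2 ^ (l + 2)) := ⟨(Nat.two_pow_pos _).ne'⟩
      have hord : ∀ i : ℕ, i ≤ l + 2 → orderOf (QuaternionGroup.a ((2 ^ i : ℕ) : ZMod (2 * 2 ^ (l + 2)))) = 2 ^ (l + 3 - i) := by
        intro i hi
        rw [← QuaternionGroup.a_one_pow, orderOf_pow, QuaternionGroup.orderOf_a_one, ← pow_succ',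
          Nat.gcd_eq_right (pow_dvd_pow 2 (show i ≤ l + 2 + 1 by omega)), Nat.pow_div (by omega) two_pos]
      -- a cyclic subgroup of order 8
      set u : QuaternionGroup (2 ^ (l + 2)) := QuaternionGroup.a ((2 ^ l : ℕ) : ZMod (2 * 2 ^ (l + 2))) with hu
      have huo : orderOf u = 8 := by rw [hu, hord l (by omega), show l + 3 - l = 3 by omega]; rfl
      set v : QuaternionGroup (2 ^ (l + 2)) := QuaternionGroup.a ((2 ^ (l + 1) : ℕ) : ZMod (2 * 2 ^ (l + 2))) with hv
      have hvo : orderOf v = 4 := by rw [hv, hord (l + 1) (by omega), show l + 3 - (l + 1) = 2 by omega]; rfl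
      -- the quaternion subgroup of order 8
      set x : QuaternionGroup (2 ^ (l + 2)) := QuaternionGroup.xa 0 with hx
      have hxv : x * v * x⁻¹ = v⁻¹ := by
        rw [hx, hv, mul_inv_eq_iff_eq_mul]
        show _ = QuaternionGroup.a _ * QuaternionGroup.xa 0
        rw [QuaternionGroup.xa_mul_a, QuaternionGroup.a_mul_xa]
        congr 1
        ring
      have hxx : x ^ 2 = v ^ 2 := by
        rw [hx, hv, QuaternionGroup.xa_sq, ← QuaternionGroup.a_one_pow, ← QuaternionGroup.a_one_pow, ← pow_mul]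
        congr 1
      have hnorm : x ∈ Subgroup.normalizer (Subgroup.zpowers v : Set (QuaternionGroup (2 ^ (l + 2)))) := by
        rw [Subgroup.mem_normalizer_iff]
        intro w
        constructor
        · intro hw
          obtain ⟨i, rfl⟩ := Subgroup.mem_zpowers_iff.1 hw
          rw [← conj_zpow, hxv]
          exact zpow_mem (inv_mem (Subgroup.mem_zpowers v)) i
        · intro hw
          obtain ⟨i, hi⟩ := Subgroup.mem_zpowers_iff.1 hw
          have : w = (v⁻¹) ^ i := by
            have h1 : (x * v⁻¹ * x⁻¹) ^ i = v ^ i := by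
              rw [show x * v⁻¹ * x⁻¹ = (x * v * x⁻¹)⁻¹ by group, hxv, inv_inv]
            rw [conj_zpow, hi] at h1
            exact (mul_left_cancel (mul_right_cancel h1)).symm
          rw [this]
          exact zpow_mem (inv_mem (Subgroup.mem_zpowers v)) i
      obtain ⟨Q, hQle, hQ⟩ : ∃ Q : Subgroup (QuaternionGroup (2 ^ (l + 2))),
          (Subgroup.zpowers v ≤ Q ∧ x ∈ Q) ∧ Nat.card Q = 8 := by
        refine ⟨Subgroup.zpowers v ⊔ Subgroup.zpowers x, ⟨le_sup_left, Subgroup.mem_sup_right (Subgroup.mem_zpowers x)⟩, ?_⟩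
        set V := Subgroup.zpowers v with hV
        set Q := V ⊔ Subgroup.zpowers x with hQdef
        have hxV : x ∉ V := by
          intro hxm
          obtain ⟨i, hi⟩ := Subgroup.mem_zpowers_iff.1 (hV ▸ hxm)
          have hcl : ∀ j : ℕ, v ^ j ≠ x := fun j hj => by
            rw [hv, ← QuaternionGroup.a_one_pow, ← pow_mul, QuaternionGroup.a_one_pow, hx] at hj
            exact absurd hj (by simp)
          obtain ⟨j, hj⟩ := (Submonoid.mem_powers_iff _ _).1
            ((mem_powers_iff_mem_zpowers).2 (Subgroup.mem_zpowers_iff.2 ⟨i, hi⟩) : x ∈ Submonoid.powers v)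
          exact hcl j hj
        have hQsub : (Q : Set (QuaternionGroup (2 ^ (l + 2)))) = (V : Set (QuaternionGroup (2 ^ (l + 2)))) *
            (Subgroup.zpowers x : Set (QuaternionGroup (2 ^ (l + 2)))) :=
          Subgroup.coe_mul_of_right_le_normalizer_left V (Subgroup.zpowers x) (Subgroup.zpowers_le.2 hnorm)
        have h2 : V.relIndex Q = 2 := by
          show (V.subgroupOf Q).index = 2
          rw [Subgroup.index_eq_two_iff]
          refine ⟨⟨x, Subgroup.mem_sup_right (Subgroup.mem_zpowers x)⟩, fun ⟨q, hq⟩ => ?_⟩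
          rw [Subgroup.mem_subgroupOf, Subgroup.mem_subgroupOf]
          show Xor' (q * x ∈ V) (q ∈ V)
          by_cases hqV : q ∈ V
          · exact Or.inr ⟨hqV, fun H => hxV ((mul_mem_cancel_left hqV).1 H)⟩
          · refine Or.inl ⟨?_, hqV⟩
            have hq' : q ∈ (Q : Set _) := hq
            rw [hQsub] at hq'
            obtain ⟨w, hw, _, ⟨i, rfl⟩, rfl⟩ := hq'
            rcases Int.even_or_odd' i with ⟨m, rfl | rfl⟩
            · exfalso
              refine hqV (mul_mem hw ?_)
              show x ^ (2 * m) ∈ V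
              rw [zpow_mul, zpow_ofNat, hxx]
              exact zpow_mem (pow_mem (Subgroup.mem_zpowers v) 2) m
            · show w * x ^ (2 * m + 1) * x ∈ V
              rw [mul_assoc, ← zpow_add_one, show 2 * m + 1 + 1 = 2 * (m + 1) by ring, zpow_mul, zpow_ofNat, hxx]
              exact mul_mem hw (zpow_mem (pow_mem (Subgroup.mem_zpowers v) 2) _)
        have h3 := Subgroup.relIndex_mul_relIndex ⊥ V Q bot_le le_sup_left
        rw [h2, Subgroup.relIndex_bot_left, Subgroup.relIndex_bot_left, hV, Nat.card_zpowers, hvo] at h3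
        exact h3.symm
      have hQn : ¬ IsMulCommutative Q := by
        intro hc
        have h1 : x * v = v * x := congrArg Subtype.val
          (hc.is_comm.comm (⟨x, hQle.2⟩ : Q) ⟨v, hQle.1 (Subgroup.mem_zpowers v)⟩)
        have h2 : v ^ 2 = 1 := by
          rw [pow_two]
          nth_rw 1 [show v = v⁻¹ by rw [← hxv, h1, mul_inv_cancel_right]]
          exact inv_mul_cancel v
        have := Nat.le_of_dvd two_pos (orderOf_dvd_of_pow_eq_one h2)
        omega
      let f : ↥(P : Subgroup G) ≃* QuaternionGroup (2 ^ (l + 2)) := e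
      set ι : QuaternionGroup (2 ^ (l + 2)) →* G := (P : Subgroup G).subtype.comp f.symm.toMonoidHom with hι
      have hinj : Function.Injective ι := (P : Subgroup G).subtype_injective.comp f.symm.injective
      obtain ⟨g, hg⟩ := hC ((Subgroup.zpowers u).map ι) (Q.map ι)
        ((IsPGroup.of_card (show Nat.card (Subgroup.zpowers u) = 2 ^ 3 by rw [Nat.card_zpowers, huo]; rfl)).map _)
        ((IsPGroup.of_card (show Nat.card Q = 2 ^ 3 by rw [hQ]; rfl)).map _)
        (by rw [Subgroup.card_map_of_injective hinj, Subgroup.card_map_of_injective hinj, Nat.card_zpowers, huo, hQ])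
      refine hQn ⟨⟨fun a b => Subtype.ext (hinj ?_)⟩⟩
      obtain ⟨_, ⟨_, ⟨i, rfl⟩, rfl⟩, hi⟩ := hg ▸ Subgroup.mem_map_of_mem ι a.2
      obtain ⟨_, ⟨_, ⟨j, rfl⟩, rfl⟩, hj⟩ := hg ▸ Subgroup.mem_map_of_mem ι b.2
      rw [Subgroup.coe_mul, Subgroup.coe_mul, map_mul, map_mul, ← hi, ← hj]
      exact ((((Commute.refl u).zpow_zpow i j).map ι).map (MulAut.conj g).toMonoidHom).eq
  · by_cases hab : IsMulCommutative ↥(P : Subgroup G)
    · exact Or.inr (Or.inl ⟨hab, fun x hx => congrArg Subtype.val (hexp ⟨x, hx⟩)⟩)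
    have hp2 : p ≠ 2 := by
      rintro rfl
      exact hab ⟨⟨Cfsg.Lib.OrderSquare.comm_of_exp_two hexp⟩⟩
    refine Or.inr (Or.inr (Or.inr ⟨hp2, hab, ?_, ?_⟩))
    · obtain ⟨n, hn⟩ := IsPGroup.iff_card.1 P.isPGroup'
      obtain ⟨⟨H, hH, hHn⟩, hbig⟩ := Cfsg.Lib.OrderSquare.both_cube hexp hab
      rw [hn] at hbig ⊢
      congr 1
      have h3 : 3 ≤ n := by
        have := Nat.le_of_dvd Nat.card_pos (Subgroup.card_subgroup_dvd_card H)
        rw [hH, hn] at this
        exact (Nat.pow_le_pow_iff_right hp.one_lt).1 this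
      by_contra hne
      obtain ⟨A, hA, hAc⟩ := hbig (Nat.pow_le_pow_right hp.pos (by omega))
      set ι := (P : Subgroup G).subtype with hι
      have hinj : Function.Injective ι := (P : Subgroup G).subtype_injective
      obtain ⟨g, hg⟩ := hC (A.map ι) (H.map ι) (hsub A) (hsub H)
        (by rw [Subgroup.card_map_of_injective hinj, Subgroup.card_map_of_injective hinj, hA, hH])
      refine hHn ⟨⟨fun a b => Subtype.ext (hinj ?_)⟩⟩
      obtain ⟨_, ⟨s, hs, rfl⟩, hi⟩ := hg ▸ Subgroup.mem_map_of_mem ι a.2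
      obtain ⟨_, ⟨t, ht, rfl⟩, hj⟩ := hg ▸ Subgroup.mem_map_of_mem ι b.2
      rw [Subgroup.coe_mul, Subgroup.coe_mul, map_mul, map_mul, ← hi, ← hj]
      have hst : Commute s t := congrArg Subtype.val (hAc.is_comm.comm (⟨s, hs⟩ : A) ⟨t, ht⟩)
      exact ((hst.map ι).map (MulAut.conj g).toMonoidHom).eq
    · refine (hp.eq_one_or_self_of_dvd _ (Monoid.exponent_dvd_of_forall_pow_eq_one hexp)).resolve_left fun h1 => hab ?_
      haveI := Monoid.exp_eq_one_iff.1 h1
      exact ⟨⟨fun a b => Subsingleton.elim _ _⟩⟩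

end Cfsg.Agent.S4023
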