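import Cfsg.Statements.S4024
import Cfsg.Agent.SolvStruct.PGroupBasics
import Cfsg.Agent.Components.Cores
import Cfsg.Agent.PLocal.StableClosureApps
import Cfsg.Agent.GaschutzYen.Basic
import Cfsg.Agent.Coprime.SolvableBasics
import Cfsg.Agent.Components.PComponents

set_option autoImplicit false
open Cfsg

namespace Cfsg.Agent.S4024

universe u

theorem core {G : Type u} [Group G] [Finite G] {p : ℕ} [Fact p.Prime] (hp : p ≠ 2)
    (hC : ∀ H K : Subgroup G, IsPGroup p H → IsPGroup p K → Nat.card H = Nat.card K →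
      ∃ g : G, K = H.map (MulAut.conj g).toMonoidHom)
    (P : Subgroup G) (hP : IsPGroup p P) (U : Subgroup G) [U.Normal] (hU : IsPGroup p U) (hUne : U ≠ ⊥)
    (hUP : U ≤ P) : (P = U ∨ IsCyclic P) ∧ IsMulCommutative P := by
  classical
  have hpp := (Fact.out : p.Prime)
  have hconjU : ∀ X : Subgroup G, IsPGroup p X → Nat.card X = Nat.card U → X = U := by
    intro X hX hc
    obtain ⟨g, rfl⟩ := hC U X hU hX hc.symm
    refine Subgroup.eq_of_le_of_card_ge ?_ ?_
    · rintro _ ⟨u, hu, rfl⟩
      exact (inferInstance : U.Normal).conj_mem u hu g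
    · rw [Subgroup.card_map_of_injective (MulEquiv.injective _)]
  obtain ⟨k, hk⟩ := hU.exists_card_eq
  have hk0 : k ≠ 0 := by rintro rfl; exact hUne (Subgroup.eq_bot_of_card_eq _ (by simpa using hk))
  by_cases hPU : P = U
  · refine ⟨Or.inl hPU, ?_⟩
    subst hPU
    haveI : Nontrivial ↥P := (Subgroup.nontrivial_iff_ne_bot P).2 hUne
    haveI := hP.center_nontrivial
    obtain ⟨z, hz⟩ := exists_prime_orderOf_dvd_card' (G := ↥(Subgroup.center ↥P)) p <| by
      obtain ⟨n, hn0, hn⟩ := (hP.to_subgroup (Subgroup.center ↥P)).nontrivial_iff_card.1 inferInstance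
      rw [hn]; exact dvd_pow_self p (by omega)
    rw [← Subgroup.orderOf_coe, ← Subgroup.orderOf_coe] at hz
    have hsub : ∀ a ∈ P, IsPGroup p (Subgroup.zpowers a) := fun a ha => hP.to_le (Subgroup.zpowers_le.2 ha)
    have hcen : ∀ a ∈ P, orderOf a = p → ∀ b ∈ P, a * b = b * a := by
      intro a ha hao b hb
      obtain ⟨g, hg⟩ := hC (Subgroup.zpowers ((z : ↥P) : G)) (Subgroup.zpowers a) (hsub _ (z : ↥P).2) (hsub a ha)
        (by rw [Nat.card_zpowers, Nat.card_zpowers, hz, hao])
      rw [MonoidHom.map_zpowers] at hg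
      obtain ⟨i, hi⟩ : a ∈ Subgroup.zpowers ((MulAut.conj g).toMonoidHom ((z : ↥P) : G)) := hg ▸ Subgroup.mem_zpowers a
      have hzc : Commute ((z : ↥P) : G) (g⁻¹ * b * g) := by
        have hb' : g⁻¹ * b * g ∈ P := by simpa using (inferInstance : P.Normal).conj_mem b hb g⁻¹
        exact congrArg Subtype.val (Subgroup.mem_center_iff.1 z.2 ⟨_, hb'⟩).symm
      have h1 := hzc.map (MulAut.conj g).toMonoidHom
      have h2 : (MulAut.conj g).toMonoidHom (g⁻¹ * b * g) = b := by simp [mul_assoc]
      rw [h2] at h1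
      rw [← hi]
      exact (h1.zpow_left i).eq
    by_cases hone : ∀ a ∈ P, orderOf a = p → a ∈ Subgroup.zpowers ((z : ↥P) : G)
    · haveI : IsCyclic ↥P := by
        by_contra hnc
        obtain ⟨A, -, ⟨-, hAe⟩, hAc⟩ := Cfsg.Lib.SolvStruct.exists_normal_elementary_sq hp hP hnc
        have hle : A.map P.subtype ≤ Subgroup.zpowers ((z : ↥P) : G) := by
          rintro _ ⟨a, ha, rfl⟩
          by_cases h1 : a = 1
          · subst h1; rw [map_one]; exact one_mem _
          · exact hone _ a.2 (orderOf_eq_prime (by rw [Subgroup.coe_subtype, ← Subgroup.coe_pow, hAe a ha, Subgroup.coe_one]) (by simpa using h1))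
        have := Subgroup.card_le_of_le hle
        rw [Subgroup.card_subtype, hAc, Nat.card_zpowers, hz] at this
        nlinarith [hpp.two_le]
      exact IsCyclic.isMulCommutative
    push_neg at hone
    obtain ⟨a, ha, hao, haz⟩ := hone
    -- the exponent is `p`
    have hexp : ∀ x ∈ P, x ^ p = 1 := by
      by_contra hcon
      push_neg at hcon
      obtain ⟨x, hx, hxp⟩ := hcon
      obtain ⟨j, hj⟩ := IsPGroup.iff_orderOf.1 hP ⟨x, hx⟩
      rw [Subgroup.orderOf_mk] at hj
      have hj2 : 2 ≤ j := by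
        by_contra h
        exact hxp (orderOf_dvd_iff_pow_eq_one.1 (hj ▸ (pow_dvd_pow p (show j ≤ 1 by omega)).trans (pow_one p).dvd))
      set y := x ^ p ^ (j - 2) with hy
      have hyo : orderOf y = p ^ 2 := by
        rw [hy, orderOf_pow' _ (pow_ne_zero _ hpp.ne_zero), hj,
          Nat.gcd_eq_right (pow_dvd_pow p (by omega)), Nat.pow_div (by omega) hpp.pos]
        congr 1; omega
      set zg : G := ((z : ↥P) : G)
      set E := Subgroup.closure ({zg, a} : Set G)
      have hEP : E ≤ P := (Subgroup.closure_le _).2 (by rintro u (rfl | rfl); exacts [(z : ↥P).2, ha])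
      haveI : IsMulCommutative ↥E := Subgroup.isMulCommutative_closure (fun u hu v hv => by
        rcases hv with rfl | rfl
        · exact congrArg Subtype.val (Subgroup.mem_center_iff.1 z.2 ⟨u, hEP (Subgroup.subset_closure hu)⟩)
        · exact (hcen v ha hao u (hEP (Subgroup.subset_closure hu))).symm)
      have hEexp : ∀ u ∈ E, u ^ p = 1 := fun u hu => by
        induction hu using Subgroup.closure_induction with
        | mem v hv => rcases hv with rfl | rfl <;> [exact hz ▸ pow_orderOf_eq_one _; exact hao ▸ pow_orderOf_eq_one _]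
        | one => exact one_pow _
        | mul v w hv hw h1 h2 =>
          have hc : Commute v w := congrArg Subtype.val (mul_comm' (⟨v, hv⟩ : ↥E) ⟨w, hw⟩)
          rw [hc.mul_pow, h1, h2, one_mul]
        | inv v _ h1 => rw [inv_pow, h1, inv_one]
      have hE2 : p ^ 2 ≤ Nat.card E := by
        obtain ⟨e, he⟩ := (hP.to_le hEP).exists_card_eq
        rw [he]
        refine Nat.pow_le_pow_right hpp.pos ?_
        by_contra hlt
        have heq : Subgroup.zpowers zg = E := Subgroup.eq_of_le_of_card_ge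
          (Subgroup.zpowers_le.2 (Subgroup.subset_closure (Set.mem_insert _ _)))
          (by rw [he, Nat.card_zpowers, hz]; exact (Nat.pow_le_pow_right hpp.pos (show e ≤ 1 by omega)).trans (pow_one p).le)
        exact haz (heq ▸ Subgroup.subset_closure (Set.mem_insert_of_mem _ rfl))
      obtain ⟨m, hm⟩ := (hP.to_le hEP).exists_card_eq
      have hdvd : p ^ 2 ∣ Nat.card E := by
        rw [hm] at hE2 ⊢
        exact pow_dvd_pow p ((Nat.pow_le_pow_iff_right hpp.one_lt).1 hE2)
      obtain ⟨A, hA⟩ := Sylow.exists_subgroup_card_pow_prime p hdvd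
      have hyP : y ∈ P := pow_mem hx _
      obtain ⟨g, hg⟩ := hC (A.map E.subtype) (Subgroup.zpowers y) (hP.to_le ((Subgroup.map_subtype_le A).trans hEP)) (hsub y hyP)
        (by rw [Subgroup.card_subtype, hA, Nat.card_zpowers, hyo])
      obtain ⟨_, ⟨c, -, rfl⟩, hcy⟩ : y ∈ (A.map E.subtype).map (MulAut.conj g).toMonoidHom := hg ▸ Subgroup.mem_zpowers y
      have hy1 : y ^ p = 1 := by rw [← hcy, ← map_pow, Subgroup.coe_subtype, hEexp c c.2, map_one]
      have hd := orderOf_dvd_of_pow_eq_one hy1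
      rw [hyo] at hd
      have hle := Nat.le_of_dvd hpp.pos hd
      nlinarith [hpp.two_le]
    refine ⟨⟨fun u v => Subtype.ext ?_⟩⟩
    by_cases hu : (u : G) = 1
    · show (u : G) * v = v * u
      rw [hu, one_mul, mul_one]
    · exact hcen u u.2 (orderOf_eq_prime (hexp u u.2) hu) v v.2
  -- a unique subgroup of order `p ^ k`
  obtain ⟨n, hn⟩ := hP.exists_card_eq
  have hkn : k < n := by
    by_contra hle
    exact hPU (Subgroup.eq_of_le_of_card_ge hUP (by rw [hn, hk]; exact Nat.pow_le_pow_right hpp.pos (by omega))).symm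
  have hbig : ∀ x ∈ P, p ^ k ∣ orderOf x → U ≤ Subgroup.zpowers x := by
    intro x hx hd
    rw [← Nat.card_zpowers] at hd
    obtain ⟨A, hA⟩ := Sylow.exists_subgroup_card_pow_prime p hd
    have hAle : A.map (Subgroup.zpowers x).subtype ≤ Subgroup.zpowers x := Subgroup.map_subtype_le A
    rw [← hconjU _ (hP.to_le (hAle.trans (Subgroup.zpowers_le.2 hx))) (by rw [Subgroup.card_subtype, hA, hk])]
    exact hAle
  have hsmall : ∀ x ∈ P, orderOf x ≤ p ^ k → x ∈ U := by
    intro x hx hle
    obtain ⟨j, hj⟩ := IsPGroup.iff_orderOf.1 hP ⟨x, hx⟩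
    rw [Subgroup.orderOf_mk] at hj
    have hjk : j ≤ k := (Nat.pow_le_pow_iff_right hpp.one_lt).1 (hj ▸ hle)
    let X := (Subgroup.zpowers x).subgroupOf P
    have hX : Nat.card X = p ^ j := by
      rw [Nat.card_congr (Subgroup.subgroupOfEquivOfLe (Subgroup.zpowers_le.2 hx)).toEquiv, Nat.card_zpowers, hj]
    obtain ⟨K, hK, hXK⟩ := Sylow.exists_subgroup_card_pow_prime_le p (G := ↥P) (n := j) (m := k)
      (by rw [hn]; exact pow_dvd_pow p hkn.le) X hX hjk
    rw [← hconjU (K.map P.subtype) (hP.to_le (Subgroup.map_subtype_le K)) (by rw [Subgroup.card_subtype, hK, hk])]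
    exact ⟨⟨x, hx⟩, hXK (Subgroup.mem_zpowers x), rfl⟩
  obtain ⟨x, hx, hxk⟩ : ∃ x ∈ P, ¬ orderOf x ≤ p ^ k := by
    by_contra hall
    push_neg at hall
    exact hPU (le_antisymm (fun u hu => hsmall u hu (hall u hu)) hUP)
  have hcyc : IsCyclic P := by
    by_contra hnc
    obtain ⟨A, -, ⟨-, hAe⟩, hAc⟩ := Cfsg.Lib.SolvStruct.exists_normal_elementary_sq hp hP hnc
    obtain ⟨j, hj⟩ := IsPGroup.iff_orderOf.1 hP ⟨x, hx⟩
    rw [Subgroup.orderOf_mk] at hj
    have hjk : k ≤ j := by
      by_contra h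
      exact hxk (hj ▸ Nat.pow_le_pow_right hpp.pos (by omega))
    have hUx := hbig x hx (hj ▸ pow_dvd_pow p hjk)
    have hle : A.map P.subtype ≤ Subgroup.zpowers x := by
      rintro _ ⟨a, ha, rfl⟩
      refine hUx (hsmall _ a.2 ?_)
      refine (Nat.le_of_dvd hpp.pos (orderOf_dvd_of_pow_eq_one ?_)).trans (Nat.le_self_pow hk0 p)
      rw [← map_pow, hAe a ha, map_one]
    haveI : IsCyclic ↥((A.map P.subtype).subgroupOf (Subgroup.zpowers x)) := Subgroup.isCyclic _
    obtain ⟨⟨v, hvA⟩, hgen⟩ := (inferInstance : IsCyclic ↥((A.map P.subtype).subgroupOf (Subgroup.zpowers x))).exists_ofOrder_eq_natCard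
    rw [Nat.card_congr (Subgroup.subgroupOfEquivOfLe hle).toEquiv, Subgroup.card_subtype, hAc, Subgroup.orderOf_mk, ← Subgroup.orderOf_coe] at hgen
    obtain ⟨a, ha, hav⟩ := hvA
    have hd : orderOf (v : G) ∣ p := orderOf_dvd_of_pow_eq_one (by
      rw [← (show P.subtype a = (v : G) from hav), ← map_pow, hAe a ha, map_one])
    rw [hgen] at hd
    have hle' := Nat.le_of_dvd hpp.pos hd
    nlinarith [hpp.two_le]
  haveI := hcyc
  exact ⟨Or.inr hcyc, IsCyclic.isMulCommutative⟩


/-- Let p be an odd prime and G a finite group in which any two p-subgroups of the same order are conjugate, with Sylow p-subgroup P. If H is a normal p-solvable subgroup of G whose order is divisible by p, then P is abelian, and either P ≤ H or P is cyclic. -/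
theorem result {G : Type*} [Group G] [Finite G]
    {p : ℕ} [Fact p.Prime] (hp : p ≠ 2) (hC : ∀ H K : Subgroup G, IsPGroup p H → IsPGroup p K → Nat.card H = Nat.card K →
      ∃ g : G, K = H.map (MulAut.conj g).toMonoidHom) (P : Sylow p G)
    (H : Subgroup G) [H.Normal] (hsolv : Cfsg.IsPSolvable p H) (hdiv : p ∣ Nat.card H) :
    IsMulCommutative P ∧ ((P : Subgroup G) ≤ H ∨ IsCyclic P) := by
  classical
  have hpp := (Fact.out : p.Prime)
  set K := (Cfsg.pPrimeCore p ↥H).map H.subtype with hK
  haveI : (Cfsg.pPrimeCore p ↥H).Normal := Cfsg.Lib.Components.pPrimeCore_normal' p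
  haveI : (Cfsg.pPrimeCore p ↥H).Characteristic := inferInstance
  haveI hKn : K.Normal := ConjAct.normal_of_characteristic_of_normal
  have hKcop : (Nat.card K).Coprime p := by
    rw [hK, Subgroup.card_subtype]; exact Cfsg.Lib.Components.coprime_card_pPrimeCore p
  have hKH : K ≤ H := Subgroup.map_subtype_le _
  set f := QuotientGroup.mk' K with hf
  have hfs : Function.Surjective f := QuotientGroup.mk'_surjective K
  have hcardmap : ∀ S : Subgroup G, IsPGroup p S → Nat.card (S.map f) = Nat.card S := by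
    intro S hS
    refine (Nat.card_congr (MulEquiv.ofBijective (f.subgroupMap S) ⟨?_, f.subgroupMap_surjective S⟩).toEquiv).symm
    · rw [injective_iff_map_eq_one]
      intro s hs
      have hsK : (s : G) ∈ K := (QuotientGroup.eq_one_iff _).1 (congrArg Subtype.val hs)
      obtain ⟨j, hj⟩ := IsPGroup.iff_orderOf.1 hS s
      refine Subtype.ext (orderOf_eq_one_iff.1 (Nat.eq_one_of_dvd_coprimes (hKcop.pow_right j) ?_ ?_))
      · rw [← Subgroup.orderOf_mk (s : G) hsK]; exact orderOf_dvd_natCard _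
      · rw [Subgroup.orderOf_coe, hj]
  have hC' : ∀ A B : Subgroup (G ⧸ K), IsPGroup p A → IsPGroup p B → Nat.card A = Nat.card B →
      ∃ g : G ⧸ K, B = A.map (MulAut.conj g).toMonoidHom := by
    intro A B hA hB hAB
    have hlift : ∀ A : Subgroup (G ⧸ K), IsPGroup p A → ∃ S : Subgroup G, IsPGroup p S ∧ S.map f = A := by
      intro A hA
      obtain ⟨S⟩ : Nonempty (Sylow p ↥(A.comap f)) := inferInstance
      have hS : IsPGroup p ↥((S : Subgroup ↥(A.comap f)).map (A.comap f).subtype) := S.2.map _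
      refine ⟨_, hS, Subgroup.eq_of_le_of_card_ge ?_ ?_⟩
      · rintro _ ⟨_, ⟨s, -, rfl⟩, rfl⟩; exact s.2
      · rw [hcardmap _ hS, Subgroup.card_subtype, S.card_eq_multiplicity]
        obtain ⟨a, ha⟩ := hA.exists_card_eq
        have hc : Nat.card ↥(A.comap f) = p ^ a * Nat.card K := by
          rw [← Subgroup.relIndex_bot_left (A.comap f), ← Subgroup.relIndex_mul_relIndex ⊥ K (A.comap f) bot_le
            (fun u hu => by show f u ∈ A; rw [(QuotientGroup.eq_one_iff u).2 hu |> fun h => (show f u = 1 from h)]; exact one_mem _)]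
          rw [Subgroup.relIndex_bot_left, mul_comm, ← ha]
          congr 1
          have hK' : (⊥ : Subgroup (G ⧸ K)).comap f = K := by rw [MonoidHom.comap_bot, hf, QuotientGroup.ker_mk']
          have := Subgroup.relIndex_comap (⊥ : Subgroup (G ⧸ K)) f (A.comap f)
          rw [hK', Subgroup.map_comap_eq_self_of_surjective hfs, Subgroup.relIndex_bot_left] at this
          exact this
        rw [hc, ha, Nat.factorization_mul (pow_ne_zero _ hpp.ne_zero) Nat.card_pos.ne']
        simp [hpp.factorization_self, Nat.factorization_eq_zero_of_not_dvd (hpp.coprime_iff_not_dvd.1 hKcop.symm)]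
    obtain ⟨S, hS, rfl⟩ := hlift A hA
    obtain ⟨T, hT, rfl⟩ := hlift B hB
    obtain ⟨g, hg⟩ := hC S T hS hT (by rw [← hcardmap S hS, ← hcardmap T hT, hAB])
    refine ⟨f g, ?_⟩
    rw [hg, Subgroup.map_map, Subgroup.map_map]
    congr 1
  -- a normal `p`-subgroup of the quotient
  set Hb := H.map f with hHb
  haveI : Hb.Normal := Subgroup.Normal.map inferInstance _ hfs
  set g₀ : ↥H →* ↥Hb := f.subgroupMap H with hg₀
  have hg₀s : Function.Surjective g₀ := f.subgroupMap_surjective H
  have hker : g₀.ker = Cfsg.pPrimeCore p ↥H := by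
    ext s
    rw [MonoidHom.mem_ker]
    constructor
    · intro hs
      obtain ⟨t, ht, hts⟩ : (s : G) ∈ K := (QuotientGroup.eq_one_iff _).1 (congrArg Subtype.val hs)
      rwa [← Subtype.ext hts]
    · intro hs
      exact Subtype.ext ((QuotientGroup.eq_one_iff _).2 ⟨s, hs, rfl⟩)
  let e := (QuotientGroup.quotientMulEquivOfEq hker).symm.trans (QuotientGroup.quotientKerEquivOfSurjective g₀ hg₀s)
  set L := ↥H ⧸ Cfsg.pPrimeCore p ↥H
  have hsolL : Cfsg.IsPSolvable p L := Cfsg.Lib.GaschutzYen.isPSolvable_quotient (p := p) _ hsolv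
  have hOL : Cfsg.pPrimeCore p L = ⊥ := Cfsg.Lib.Coprime.pPrimeCore_quotient_eq_bot
  have hne : Cfsg.pCore p L ≠ ⊥ := by
    intro hbot
    have hle := Cfsg.Lib.StableClosure.centralizer_pCore_le_of_pSolvable hsolL hOL
    rw [hbot, Subgroup.coe_bot, Subgroup.centralizer_eq_top_iff_subset.2 (by simp), top_le_iff] at hle
    have h1 : Nat.card L = 1 := by rw [← Subgroup.card_top, ← hle, Subgroup.card_bot]
    have h2 : Cfsg.pPrimeCore p ↥H = ⊤ := by
      rw [← Subgroup.index_eq_one, Subgroup.index_eq_card]; exact h1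
    refine hpp.coprime_iff_not_dvd.1 ?_ hdiv
    have := Cfsg.Lib.Components.coprime_card_pPrimeCore (G := ↥H) p
    rw [h2, Subgroup.card_top] at this
    exact this.symm
  set U₀ := (Cfsg.pCore p L).map e.toMonoidHom with hU₀
  haveI : U₀.Characteristic := by
    refine Subgroup.characteristic_iff_map_le.2 fun φ => ?_
    rintro _ ⟨_, ⟨u, hu, rfl⟩, rfl⟩
    refine ⟨(e.trans (φ.trans e.symm)) u, ?_, by simp⟩
    exact Subgroup.characteristic_iff_map_le.1 (inferInstance : (Cfsg.pCore p L).Characteristic) _ ⟨u, hu, rfl⟩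
  set U := U₀.map Hb.subtype with hUdef
  haveI hUn : U.Normal := ConjAct.normal_of_characteristic_of_normal
  have hUp : IsPGroup p U := ((Cfsg.Lib.Components.isPGroup_pCore p).map e.toMonoidHom).map Hb.subtype
  have hUne : U ≠ ⊥ := by
    rw [hUdef, Ne, Subgroup.map_eq_bot_iff_of_injective _ Hb.subtype_injective, hU₀,
      Subgroup.map_eq_bot_iff_of_injective _ e.injective]
    exact hne
  set Pb : Subgroup (G ⧸ K) := (P : Subgroup G).map f
  have hPbp : IsPGroup p Pb := P.2.map f
  have hUP : U ≤ Pb := hUp.le_sylow_of_normal (P.mapSurjective hfs)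
  obtain ⟨h1, h2⟩ := core hp hC' Pb hPbp U hUp hUne hUP
  have hinj : Function.Injective (f.subgroupMap (P : Subgroup G)) := by
    have hbij : Function.Surjective (f.subgroupMap (P : Subgroup G)) := f.subgroupMap_surjective _
    exact ((Function.Surjective.bijective_of_nat_card_le hbij) (le_of_eq (hcardmap _ P.2).symm)).1
  refine ⟨⟨⟨fun a b => hinj ?_⟩⟩, ?_⟩
  · rw [map_mul, map_mul]; exact mul_comm' _ _
  rcases h1 with h | h
  · left
    intro u hu
    have hu' : f u ∈ U := h ▸ ⟨u, hu, rfl⟩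
    obtain ⟨⟨_, v, hv, rfl⟩, -, hvu⟩ := hu'
    have : v⁻¹ * u ∈ K := QuotientGroup.eq.1 hvu
    simpa using H.mul_mem hv (hKH this)
  · right
    haveI := h
    exact isCyclic_of_injective _ hinj

end Cfsg.Agent.S4024
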