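import Cfsg.Statements.S4032
import Cfsg.Agent.Coprime.SchurZassenhaus

set_option autoImplicit false
open Cfsg

namespace Cfsg.Agent.S4032

/-- Let π be a set of primes and G a finite group in which N_G(⟨x⟩) = C_G(x) for every π-element x. If N is a normal subgroup of G whose order is divisible by no prime of π, then G/N has the same property: N_{G/N}(⟨y⟩) = C_{G/N}(y) for every π-element y of G/N. -/
theorem result {G : Type*} [Group G] [Finite G] (π : Set ℕ)
    (hirr : ∀ x : G, (∀ r : ℕ, r.Prime → r ∣ orderOf x → r ∈ π) →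
      Subgroup.normalizer ((Subgroup.zpowers x : Subgroup G) : Set G) ≤ Subgroup.centralizer {x})
    (N : Subgroup G) [N.Normal] (hN : ∀ r : ℕ, r.Prime → r ∣ Nat.card N → r ∉ π) :
    ∀ y : G ⧸ N, (∀ r : ℕ, r.Prime → r ∣ orderOf y → r ∈ π) →
      Subgroup.normalizer ((Subgroup.zpowers y : Subgroup (G ⧸ N)) : Set (G ⧸ N)) ≤ Subgroup.centralizer {y} := by
  intro y hy g' hg'
  obtain ⟨x₀, rfl⟩ := QuotientGroup.mk'_surjective N y
  obtain ⟨g, rfl⟩ := QuotientGroup.mk'_surjective N g'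
  set a := orderOf (QuotientGroup.mk' N x₀) with ha
  have hcop : (Nat.card N).Coprime a := Nat.coprime_of_dvd fun r hr h1 h2 => hN r hr h1 (hy r hr h2)
  obtain ⟨c, hc⟩ := exists_pow_eq_self_of_coprime (ha ▸ hcop : (Nat.card N).Coprime (orderOf (QuotientGroup.mk' N x₀)))
  set x := (x₀ ^ Nat.card N) ^ c with hxdef
  have himg : QuotientGroup.mk' N x = QuotientGroup.mk' N x₀ := by rw [hxdef, map_pow, map_pow, hc]
  have hxa : x ^ a = 1 := by
    have h1 : x₀ ^ a ∈ N := by
      rw [← QuotientGroup.ker_mk' N, MonoidHom.mem_ker, map_pow, ha, pow_orderOf_eq_one]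
    have h2 : (x₀ ^ a) ^ Nat.card N = 1 :=
      orderOf_dvd_iff_pow_eq_one.mp (Subgroup.orderOf_dvd_natCard N h1)
    rw [hxdef, ← pow_mul, ← pow_mul, show Nat.card N * (c * a) = a * Nat.card N * c by ring, pow_mul,
      pow_mul, h2, one_pow]
  have hox : orderOf x = a := Nat.dvd_antisymm (orderOf_dvd_of_pow_eq_one hxa)
    (ha.symm ▸ himg ▸ orderOf_map_dvd (QuotientGroup.mk' N) x)
  have hirr' := hirr x (fun r hr hrd => hy r hr (hox ▸ hrd))
  set A := Subgroup.zpowers x with hA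
  have hle : Cfsg.Lib.Coprime.conjMap g A ≤ N ⊔ A := by
    intro w hw
    rw [Cfsg.Lib.Coprime.mem_conjMap] at hw
    obtain ⟨i, hi⟩ := hw
    obtain ⟨j, hj⟩ := (Subgroup.mem_normalizer_iff.mp hg' _).mp
      (Subgroup.zpow_mem _ (Subgroup.mem_zpowers (QuotientGroup.mk' N x₀)) i)
    simp only at hi hj
    have h1 : w * (x ^ j)⁻¹ ∈ N := by
      rw [← QuotientGroup.ker_mk' N, MonoidHom.mem_ker, map_mul, map_inv, map_zpow, himg, hj,
        show w = g * x ^ i * g⁻¹ by rw [hi]; group, map_mul, map_mul, map_inv, map_zpow, himg,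
        mul_inv_cancel]
    have h2 : w = w * (x ^ j)⁻¹ * x ^ j := by group
    rw [h2]
    exact Subgroup.mul_mem _ (Subgroup.mem_sup_left h1)
      (Subgroup.mem_sup_right (Subgroup.zpow_mem _ (Subgroup.mem_zpowers x) j))
  obtain ⟨n, hn, he⟩ := Cfsg.Lib.Coprime.exists_conj_eq_of_solvable_right (N := N) (H := A)
    (Subgroup.normalizer_eq_top N ▸ le_top) (by rw [hA, Nat.card_zpowers, hox]; exact hcop)
    (Group.isSolvable_of_comm fun u v => mul_comm' u v) hle (Cfsg.Lib.Coprime.card_conjMap _ _)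
  have hng : n⁻¹ * g ∈ Subgroup.centralizer ({x} : Set G) := hirr' (by
    rw [← Cfsg.Lib.Coprime.conjMap_eq_self_iff, ← Cfsg.Lib.Coprime.conjMap_mul, he,
      Cfsg.Lib.Coprime.conjMap_inv_conjMap])
  have h3 := congrArg (QuotientGroup.mk' N) (Subgroup.mem_centralizer_singleton_iff.mp hng)
  have hn1 : QuotientGroup.mk' N n = 1 := (QuotientGroup.eq_one_iff n).mpr hn
  simp only [map_mul, map_inv, hn1, inv_one, one_mul, himg] at h3
  exact Subgroup.mem_centralizer_singleton_iff.mpr h3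

end Cfsg.Agent.S4032
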