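import Cfsg.Statements.S4027
import Cfsg.Agent.S4032
import Cfsg.Agent.Quadratic.BaerSuzuki
import Cfsg.Agent.Components.Cores

set_option autoImplicit false
open Cfsg

namespace Cfsg.Agent.S4027

/-- Let G be a finite group in which every element x of odd order satisfies N_G(⟨x⟩) = C_G(x). Then the Sylow 2-subgroups of G are normal. -/
theorem result {G : Type*} [Group G] [Finite G]
    (hirr : ∀ x : G, (∀ r : ℕ, r.Prime → r ∣ orderOf x → r ≠ 2) →
      Subgroup.normalizer ((Subgroup.zpowers x : Subgroup G) : Set G) ≤ Subgroup.centralizer {x}) (P : Sylow 2 G) :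
    (P : Subgroup G).Normal := by
  have := Fact.mk Nat.prime_two
  set N := Cfsg.pCore 2 G
  have hN : IsPGroup 2 N := Cfsg.Lib.Components.isPGroup_pCore 2
  have hirrQ := Cfsg.Agent.S4032.result {r | r ≠ 2} hirr N (fun r hr hd h2 => h2 (by
    obtain ⟨k, hk⟩ := IsPGroup.iff_card.mp hN
    rw [hk] at hd
    exact (Nat.prime_dvd_prime_iff_eq hr Nat.prime_two).mp (hr.dvd_of_dvd_pow hd)))
  have hodd : ¬ 2 ∣ N.index := by
    intro h2
    rw [Subgroup.index_eq_card] at h2
    obtain ⟨t, ht⟩ := exists_prime_orderOf_dvd_card' 2 h2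
    have htt : t * t = 1 := by rw [← sq]; exact orderOf_dvd_iff_pow_eq_one.mp ht.dvd
    have hti : t⁻¹ = t := inv_eq_of_mul_eq_one_right htt
    have hnot : ¬ ∀ g : G ⧸ N, IsPGroup 2
        ↥(Subgroup.zpowers t ⊔ (Subgroup.zpowers t).map (MulAut.conj g).toMonoidHom) := by
      intro h
      obtain ⟨M, hM, hMp, htM⟩ := Cfsg.Lib.BaerSuzuki.baer_suzuki (p := 2) (Subgroup.zpowers t) h
      have hcomap : IsPGroup 2 (M.comap (QuotientGroup.mk' N)) :=
        hMp.comap_of_ker_isPGroup _ (by rw [QuotientGroup.ker_mk']; exact hN)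
      have hle : M.comap (QuotientGroup.mk' N) ≤ N := Cfsg.Lib.Components.le_pCore hcomap
      obtain ⟨u, rfl⟩ := QuotientGroup.mk'_surjective N t
      have hu : u ∈ N := hle (htM (Subgroup.mem_zpowers _))
      rw [show QuotientGroup.mk' N u = 1 from (QuotientGroup.eq_one_iff u).mpr hu, orderOf_one] at ht
      omega
    push Not at hnot
    obtain ⟨g, hg⟩ := hnot
    set t' := g * t * g⁻¹
    have ht' : t' * t' = 1 := by
      show g * t * g⁻¹ * (g * t * g⁻¹) = 1
      rw [show g * t * g⁻¹ * (g * t * g⁻¹) = g * (t * t) * g⁻¹ by group, htt]; group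
    have ht'i : t'⁻¹ = t' := inv_eq_of_mul_eq_one_right ht'
    set s := t * t'
    have hinvs : t * s * t⁻¹ = s⁻¹ := by
      show t * (t * t') * t⁻¹ = (t * t')⁻¹
      rw [mul_inv_rev, ht'i, hti, ← mul_assoc, htt, one_mul]
    obtain ⟨k, m, hm, hkm⟩ := Nat.exists_eq_pow_mul_and_not_dvd (orderOf_pos s).ne' 2 (by norm_num)
    by_cases hm1 : m = 1
    · refine hg ?_
      rw [hm1, mul_one] at hkm
      have hp : IsPGroup 2 (Subgroup.zpowers s) := IsPGroup.of_card ((Nat.card_zpowers s).trans hkm)
      have htp : IsPGroup 2 (Subgroup.zpowers t) := IsPGroup.of_card (n := 1) (by rw [Nat.card_zpowers, ht, pow_one])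
      have hnorm : Subgroup.zpowers t ≤ Subgroup.normalizer (Subgroup.zpowers s : Set (G ⧸ N)) := by
        rw [Subgroup.zpowers_le, Subgroup.mem_normalizer_iff]
        intro w
        constructor
        · rintro ⟨i, rfl⟩
          refine ⟨-i, ?_⟩
          show s ^ (-i) = t * s ^ i * t⁻¹
          rw [← conj_zpow, hinvs, inv_zpow, zpow_neg]
        · rintro ⟨i, hi⟩
          refine ⟨-i, ?_⟩
          simp only at hi ⊢
          calc s ^ (-i) = t⁻¹ * (t * s ^ (-i) * t⁻¹) * t := by group
            _ = t⁻¹ * s ^ i * t := by rw [← conj_zpow, hinvs, inv_zpow, zpow_neg, inv_inv]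
            _ = w := by rw [hi]; group
      refine (IsPGroup.to_sup_of_normal_right' htp hp hnorm).to_le (sup_le le_sup_left ?_)
      rw [MonoidHom.map_zpowers, Subgroup.zpowers_le]
      show t' ∈ _
      rw [show t' = t * s by show t' = t * (t * t'); rw [← mul_assoc, htt, one_mul]]
      exact Subgroup.mul_mem_sup (Subgroup.mem_zpowers t) (Subgroup.mem_zpowers s)
    · set x := s ^ (2 ^ k)
      have hx : orderOf x = m := by
        rw [orderOf_pow' _ (by positivity), hkm, Nat.gcd_mul_right_left, Nat.mul_div_cancel_left _ (by positivity)]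
      have hinvx : t * x * t⁻¹ = x⁻¹ := by
        show t * s ^ (2 ^ k) * t⁻¹ = (s ^ (2 ^ k))⁻¹
        rw [← conj_pow, hinvs, inv_pow]
      have htC := hirrQ x (fun r hr hd h2 => hm (by rw [hx, h2] at hd; exact hd))
        (show t ∈ Subgroup.normalizer ((Subgroup.zpowers x : Subgroup (G ⧸ N)) : Set (G ⧸ N)) by
          rw [Subgroup.mem_normalizer_iff]
          intro w
          constructor
          · rintro ⟨i, rfl⟩
            refine ⟨-i, ?_⟩
            show x ^ (-i) = t * x ^ i * t⁻¹
            rw [← conj_zpow, hinvx, inv_zpow, zpow_neg]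
          · rintro ⟨i, hi⟩
            refine ⟨-i, ?_⟩
            simp only at hi ⊢
            calc x ^ (-i) = t⁻¹ * (t * x ^ (-i) * t⁻¹) * t := by group
              _ = t⁻¹ * x ^ i * t := by rw [← conj_zpow, hinvx, inv_zpow, zpow_neg, inv_inv]
              _ = w := by rw [hi]; group)
      rw [Subgroup.mem_centralizer_singleton_iff] at htC
      rw [htC, mul_inv_cancel_right] at hinvx
      have hd : m ∣ 2 := hx ▸ orderOf_dvd_of_pow_eq_one (by rw [sq]; nth_rewrite 1 [hinvx]; exact inv_mul_cancel x)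
      rcases (Nat.dvd_prime Nat.prime_two).mp hd with h | h
      · exact hm1 h
      · exact hm (h ▸ dvd_rfl)
  have hle : N ≤ (P : Subgroup G) := by
    have hn : N ≤ Subgroup.normalizer ((P : Subgroup G) : Set G) ∨ True := Or.inr trivial
    exact le_sup_right.trans (P.3 (IsPGroup.to_sup_of_normal_right P.2 hN) le_sup_left).le
  have : (P : Subgroup G) = N := by
    refine (Subgroup.eq_of_le_of_card_ge hle ?_).symm
    obtain ⟨a, ha⟩ := IsPGroup.iff_card.mp P.2
    refine Nat.le_of_dvd Nat.card_pos (Nat.Coprime.dvd_of_dvd_mul_right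
      (show (Nat.card (P : Subgroup G)).Coprime N.index by rw [ha]; exact (Nat.prime_two.coprime_iff_not_dvd.mpr hodd).pow_left a) ?_)
    rw [N.card_mul_index]
    exact (P : Subgroup G).card_subgroup_dvd_card
  rw [this]
  infer_instance

end Cfsg.Agent.S4027
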