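import Cfsg.Statements.S4028
import Cfsg.Agent.Counting.RankComplement
import Cfsg.Agent.Coprime.Basic

set_option autoImplicit false
open Cfsg

namespace Cfsg.Agent.S4028

/-- Let G be a finite group with Sylow 2-subgroup P. Then N_G(⟨x⟩) = C_G(x) holds for every 2-element x of G if and only if N_P(⟨y⟩) = C_P(y) holds for every y ∈ P (computed inside P). -/
theorem result {G : Type*} [Group G] [Finite G] (P : Sylow 2 G) :
    (∀ x : G, (∀ r : ℕ, r.Prime → r ∣ orderOf x → r = 2) →
      Subgroup.normalizer ((Subgroup.zpowers x : Subgroup G) : Set G) ≤ Subgroup.centralizer {x}) ↔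
    (∀ y : ↥(P : Subgroup G), Subgroup.normalizer ((Subgroup.zpowers y : Subgroup ↥(P : Subgroup G)) : Set ↥(P : Subgroup G)) ≤
        Subgroup.centralizer {y}) := by
  have := Fact.mk Nat.prime_two
  constructor
  · intro h y g hg
    have hy2 : ∀ r : ℕ, r.Prime → r ∣ orderOf (y : G) → r = 2 := fun r hr hrd => by
      obtain ⟨k, hk⟩ := IsPGroup.iff_orderOf.mp P.2 y
      rw [Subgroup.orderOf_coe, hk] at hrd
      exact (Nat.prime_dvd_prime_iff_eq hr Nat.prime_two).mp (hr.dvd_of_dvd_pow hrd)
    have hg' : (g : G) ∈ Subgroup.normalizer ((Subgroup.zpowers (y : G) : Subgroup G) : Set G) := by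
      rw [← Cfsg.Lib.Coprime.conjMap_eq_self_iff]
      refine Cfsg.Lib.Coprime.eq_of_le_of_card_eq ?_ (Cfsg.Lib.Coprime.card_conjMap _ _)
      intro w hw
      rw [Cfsg.Lib.Coprime.mem_conjMap] at hw
      obtain ⟨i, hi⟩ := hw
      have h1 := (Subgroup.mem_normalizer_iff.mp hg (y ^ i)).mp (Subgroup.zpow_mem _ (Subgroup.mem_zpowers y) i)
      obtain ⟨j, hj⟩ := h1
      refine ⟨j, ?_⟩
      have h2 : (y : G) ^ j = (g : G) * (y : G) ^ i * (g : G)⁻¹ := by simpa using congrArg Subtype.val hj
      simp only at hi ⊢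
      rw [h2, hi]
      group
    refine Subgroup.mem_centralizer_singleton_iff.mpr (Subtype.ext ?_)
    simpa using Subgroup.mem_centralizer_singleton_iff.mp (h _ hy2 hg')
  · intro h x hx
    set A := Subgroup.zpowers x with hA
    obtain ⟨k, hk⟩ : ∃ k, orderOf x = 2 ^ k :=
      ⟨_, Nat.eq_prime_pow_of_unique_prime_dvd (orderOf_pos x).ne' (fun {d} hd hdd => hx d hd hdd)⟩
    have hAp : IsPGroup 2 A := IsPGroup.of_card ((Nat.card_zpowers x).trans hk)
    refine Cfsg.Lib.Transfer.le_of_forall_prime_pow fun g hg r j hr hj => ?_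
    by_cases hr2 : r = 2
    · subst hr2
      have hgN : Subgroup.zpowers g ≤ Subgroup.normalizer (A : Set G) := Subgroup.zpowers_le.mpr hg
      obtain ⟨S, hS⟩ := (IsPGroup.to_sup_of_normal_right'
        (IsPGroup.of_card (p := 2) ((Nat.card_zpowers g).trans hj)) hAp hgN).exists_le_sylow
      obtain ⟨a, ha⟩ := MulAction.exists_smul_eq G S P
      have hmem : ∀ w ∈ (S : Subgroup G), a * w * a⁻¹ ∈ (P : Subgroup G) := fun w hw => by
        rw [← ha]; exact ⟨w, hw, rfl⟩
      have hxS : x ∈ (S : Subgroup G) := hS (Subgroup.mem_sup_right (Subgroup.mem_zpowers x))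
      have hgS : g ∈ (S : Subgroup G) := hS (Subgroup.mem_sup_left (Subgroup.mem_zpowers g))
      set y : (P : Subgroup G) := ⟨a * x * a⁻¹, hmem x hxS⟩ with hy
      set c : (P : Subgroup G) := ⟨a * g * a⁻¹, hmem g hgS⟩ with hc
      have hcy : c ∈ Subgroup.normalizer ((Subgroup.zpowers y : Subgroup (P : Subgroup G)) : Set (P : Subgroup G)) := by
        rw [← Cfsg.Lib.Coprime.conjMap_eq_self_iff]
        refine Cfsg.Lib.Coprime.eq_of_le_of_card_eq ?_ (Cfsg.Lib.Coprime.card_conjMap _ _)
        intro w hw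
        rw [Cfsg.Lib.Coprime.mem_conjMap] at hw
        obtain ⟨i, hi⟩ := hw
        obtain ⟨m, hm⟩ := (Subgroup.mem_normalizer_iff.mp hg (x ^ i)).mp
          (Subgroup.zpow_mem _ (Subgroup.mem_zpowers x) i)
        refine ⟨m, ?_⟩
        simp only at hi hm ⊢
        have h2 : w = c * y ^ i * c⁻¹ := by rw [hi]; group
        rw [h2]
        refine Subtype.ext ?_
        simp only [hy, hc, Subgroup.coe_mul, Subgroup.coe_inv, SubgroupClass.coe_zpow]
        rw [conj_zpow, conj_zpow, hm]
        group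
      have h3 := congrArg Subtype.val (Subgroup.mem_centralizer_singleton_iff.mp (h y hcy))
      simp only [hy, hc, Subgroup.coe_mul] at h3
      refine Subgroup.mem_centralizer_singleton_iff.mpr ?_
      have h4 : a * (g * x) * a⁻¹ = a * (x * g) * a⁻¹ := by
        calc a * (g * x) * a⁻¹ = a * g * a⁻¹ * (a * x * a⁻¹) := by group
          _ = a * x * a⁻¹ * (a * g * a⁻¹) := h3
          _ = _ := by group
      exact mul_left_cancel (mul_right_cancel h4)
    · have hrank : Group.rank A ≤ 1 := by
        refine (Group.rank_le (S := {⟨x, Subgroup.mem_zpowers x⟩}) ?_).trans (by simp)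
        rw [Finset.coe_singleton, eq_top_iff]
        rintro ⟨w, i, rfl⟩ -
        rw [← Subgroup.zpowers_eq_closure]
        exact ⟨i, Subtype.ext (by simp)⟩
      have hgA := Cfsg.Lib.RankComplement.centralize_of_rank hAp (fun q hq _ _ i hi1 hi2 hd => by
        obtain rfl : i = 1 := le_antisymm (hi2.trans hrank) hi1
        exact hq.not_dvd_one (by simpa using hd)) hg (by
          rw [hj]
          exact ((Nat.coprime_primes hr Nat.prime_two).mpr hr2).pow_left j)
      exact Subgroup.mem_centralizer_singleton_iff.mpr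
        (Subgroup.mem_centralizer_iff.mp hgA x (Subgroup.mem_zpowers x)).symm

end Cfsg.Agent.S4028
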