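import Cfsg.Statements.S4029
import Cfsg.Agent.Chars.Real
import Cfsg.Agent.PGroups.Basic
import Mathlib.GroupTheory.FiniteAbelian.Duality

set_option autoImplicit false
open Cfsg

namespace Cfsg.Agent.S4029

/-- Let P be a finite 2-group in which N_P(⟨y⟩) = C_P(y) for every y ∈ P. If s is the number of conjugacy classes of involutions of P, then #(P/Φ(P)) ≤ s + 1; in particular the subgroup generated by the involutions of P has order at least #(P/Φ(P)). -/
theorem result {P : Type*} [Group P] [Finite P] (hP : IsPGroup 2 P)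
    (hirr : ∀ y : P, Subgroup.normalizer ((Subgroup.zpowers y : Subgroup P) : Set P) ≤ Subgroup.centralizer {y}) :
    Nat.card (P ⧸ frattini P) ≤ Nat.card {c : ConjClasses P // ∃ y : P, ConjClasses.mk y = c ∧ orderOf y = 2} + 1 ∧
    Nat.card (P ⧸ frattini P) ≤ Nat.card (Subgroup.closure {y : P | orderOf y = 2}) := by
  classical
  haveI : Fact (Nat.Prime 2) := ⟨Nat.prime_two⟩
  have hreal : ∀ y : P, IsConj y y⁻¹ → y = 1 ∨ orderOf y = 2 := by
    intro y hy
    obtain ⟨c, hc⟩ := isConj_iff.1 hy
    have hcN : c ∈ Subgroup.normalizer ((Subgroup.zpowers y : Subgroup P) : Set P) := by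
      rw [Subgroup.mem_normalizer_iff_map_conj_eq, MonoidHom.map_zpowers]
      show Subgroup.zpowers (c * y * c⁻¹) = _
      rw [hc, Subgroup.zpowers_inv]
    have hyy : c * y = y * c := Subgroup.mem_centralizer_singleton_iff.1 (hirr y hcN)
    have h1 : y = y⁻¹ := by rw [← hc, hyy, mul_inv_cancel_right]
    have h2 : y ^ 2 = 1 := by rw [pow_two]; nth_rw 1 [h1]; rw [inv_mul_cancel]
    rcases eq_or_ne y 1 with h | h
    · exact Or.inl h
    · exact Or.inr (orderOf_eq_prime h2 h)
  haveI hcm : IsMulCommutative (P ⧸ frattini P) := Cfsg.Lib.PGroups.isMulCommutative_quotient_frattini hP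
  letI : CommGroup (P ⧸ frattini P) :=
    { (inferInstance : Group (P ⧸ frattini P)) with mul_comm := hcm.is_comm.comm }
  haveI : NeZero (Monoid.exponent (P ⧸ frattini P)) := ⟨Monoid.exponent_ne_zero_of_finite⟩
  have hcard : Nat.card ((P ⧸ frattini P) →* ℂˣ) = Nat.card (P ⧸ frattini P) :=
    CommGroup.card_monoidHom_of_hasEnoughRootsOfUnity _ ℂ
  let F : ((P ⧸ frattini P) →* ℂˣ) → {χ : Cfsg.IrrCharacter P // ∀ g : P, ((χ : P → ℂ) g).im = 0} := fun f =>
    ⟨⟨fun g => ((f.comp (QuotientGroup.mk' (frattini P))) g : ℂ), Cfsg.Lib.Chars.isIrrCharacter_linear _⟩, fun g => by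
      have h1 : ((f (QuotientGroup.mk' (frattini P) g) : ℂˣ) : ℂ) ^ 2 = 1 := by
        rw [← Units.val_pow_eq_pow_val, ← map_pow, Cfsg.Lib.PGroups.pow_prime_quotient_frattini hP, map_one, Units.val_one]
      show ((f (QuotientGroup.mk' (frattini P) g) : ℂˣ) : ℂ).im = 0
      rcases sq_eq_one_iff.1 h1 with h | h <;> rw [h] <;> simp⟩
  have hF : Function.Injective F := fun f f' h => by
    refine MonoidHom.ext fun q => ?_
    obtain ⟨g, rfl⟩ := QuotientGroup.mk'_surjective (frattini P) q
    exact Units.ext (congrFun (congrArg (fun x => ((x.1 : Cfsg.IrrCharacter P) : P → ℂ)) h) g)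
  set S := {c : ConjClasses P // ∃ y : P, ConjClasses.mk y = c ∧ orderOf y = 2}
  let R : {C : ConjClasses P // ∀ g : P, ConjClasses.mk g = C → IsConj g g⁻¹} → Option S := fun C =>
    if h : ∃ y : P, ConjClasses.mk y = C.1 ∧ orderOf y = 2 then some ⟨C.1, h⟩ else none
  have hR : Function.Injective R := by
    have key : ∀ C : {C : ConjClasses P // ∀ g : P, ConjClasses.mk g = C → IsConj g g⁻¹},
        ¬ (∃ y : P, ConjClasses.mk y = C.1 ∧ orderOf y = 2) → C.1 = ConjClasses.mk 1 := by
      intro C hC
      obtain ⟨g, hg⟩ := ConjClasses.mk_surjective C.1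
      rcases hreal g (C.2 g hg) with h | h
      · rw [← hg, h]
      · exact absurd ⟨g, hg, h⟩ hC
    intro C D h
    simp only [R] at h
    split_ifs at h with hC hD hD
    · exact Subtype.ext (Subtype.mk.injEq _ _ _ _ ▸ (Option.some.inj h :))
    · exact Subtype.ext ((key C hC).trans (key D hD).symm)
  have h1 : Nat.card (P ⧸ frattini P) ≤ Nat.card S + 1 := by
    rw [← hcard, ← Finite.card_option (α := S)]
    refine le_trans (Nat.card_le_card_of_injective F hF) ?_
    rw [Cfsg.Lib.Chars.card_real_irr]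
    exact Nat.card_le_card_of_injective R hR
  refine ⟨h1, h1.trans ?_⟩
  rw [← Finite.card_option (α := S)]
  let W := Subgroup.closure {y : P | orderOf y = 2}
  let J : Option S → W := fun o => match o with
    | none => 1
    | some c => ⟨c.2.choose, Subgroup.subset_closure c.2.choose_spec.2⟩
  refine Nat.card_le_card_of_injective J ?_
  have hne : ∀ c : S, c.2.choose ≠ 1 := fun c h => by
    have := c.2.choose_spec.2
    rw [h, orderOf_one] at this
    norm_num at this
  intro a b h
  rcases a with _ | a <;> rcases b with _ | b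
  · rfl
  · exact absurd (congrArg Subtype.val h).symm (hne b)
  · exact absurd (congrArg Subtype.val h) (hne a)
  · have h' : a.2.choose = b.2.choose := congrArg Subtype.val h
    exact congrArg some (Subtype.ext (a.2.choose_spec.1.symm.trans ((congrArg ConjClasses.mk h').trans b.2.choose_spec.1)))

end Cfsg.Agent.S4029
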