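import Cfsg.Statements.S4031
import Cfsg.Agent.Goldschmidt.Final
import Cfsg.Agent.Ree.Field.Final
import Cfsg.Agent.Goldschmidt.Consequences.SFour
import Cfsg.Agent.GoldschmidtSFour.Basic
import Cfsg.Agent.SubdegThree.Psl
import Cfsg.Agent.SolvStruct.AltEight.Six

set_option autoImplicit false
open Cfsg

namespace Cfsg.Agent.S4031

/-- Let G be a finite non-abelian simple group in which N_G(⟨x⟩) = C_G(x) for every 3-element x. Then either G is isomorphic to PSL₂(q) with q an odd power of 3, q ≥ 27, or G is simple of the order of a Suzuki group (so 3 does not divide its order). -/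
theorem result {G : Type*} [Group G] [Finite G] [IsSimpleGroup G] (hna : ¬ IsMulCommutative G)
    (hirr : ∀ x : G, (∀ r : ℕ, r.Prime → r ∣ orderOf x → r = 3) →
      Subgroup.normalizer ((Subgroup.zpowers x : Subgroup G) : Set G) ≤ Subgroup.centralizer {x}) :
    (∃ f : ℕ, 1 ≤ f ∧ Nonempty (G ≃* Matrix.ProjectiveSpecialLinearGroup (Fin 2) (GaloisField 3 (2 * f + 1)))) ∨
    Cfsg.IsSuzuki G := by
  have h3 : ¬ Cfsg.Involves (Equiv.Perm (Fin 3)) G := fun h => by
    obtain ⟨x, y, -, hy, hxy⟩ := Cfsg.Lib.GoldschmidtSFour.inverted_of_involves h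
    have hc := hirr y (fun r hr hd => by rw [hy] at hd; exact (Nat.prime_dvd_prime_iff_eq hr Nat.prime_three).1 hd)
    have hx : x ∈ Subgroup.normalizer ((Subgroup.zpowers y : Subgroup G) : Set G) := by
      refine Subgroup.mem_normalizer_iff.2 fun z => ⟨?_, ?_⟩
      · intro hz
        obtain ⟨k, rfl⟩ := Subgroup.mem_zpowers_iff.1 hz
        rw [← conj_zpow, hxy]
        exact zpow_mem (inv_mem (Subgroup.mem_zpowers y)) k
      · intro hz
        obtain ⟨k, hk⟩ := Subgroup.mem_zpowers_iff.1 hz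
        have hzk : z = y⁻¹ ^ k := by
          refine mul_left_cancel (a := x) (mul_right_cancel (b := x⁻¹) ?_)
          rw [← conj_zpow, ← hk]
          congr 1
          calc y = (y⁻¹)⁻¹ := (inv_inv y).symm
            _ = (x * y * x⁻¹)⁻¹ := by rw [hxy]
            _ = x * y⁻¹ * x⁻¹ := by group
        rw [hzk]
        exact zpow_mem (inv_mem (Subgroup.mem_zpowers y)) k
    have he : x * y = y * x := Subgroup.mem_centralizer_singleton_iff.1 (hc hx)
    rw [he, mul_inv_cancel_right] at hxy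
    have h2 : orderOf y ∣ 2 := orderOf_dvd_of_pow_eq_one (by rw [pow_two]; nth_rewrite 2 [hxy]; exact mul_inv_cancel y)
    rw [hy] at h2; omega
  have hgold := (Cfsg.Lib.Goldschmidt.sfour_free_iff Cfsg.Lib.Goldschmidt.goldProp
    Cfsg.Lib.Ree.Field.noFieldProp hna).1 fun h => h3 (Cfsg.Lib.GoldschmidtSFour.three_of_four h)
  rcases (Cfsg.Agent.S2755.result hgold).2.1 h3 with
    ⟨F, iF, iF', m, hm, hF, ⟨f⟩⟩ | ⟨F, iF, iF', n, hF, ⟨f⟩⟩
  · refine Or.inr ⟨inferInstance, m, hm, ?_⟩
    rw [Nat.card_congr (f.trans (Cfsg.Lib.Suz.lieEquiv (⟨hm, hF⟩ : Cfsg.Lib.Suz.Par F m)).symm).toEquiv]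
    exact Cfsg.Lib.Suz.card_Sz ⟨hm, hF⟩
  · haveI : Fintype (GaloisField 3 (2 * n + 1)) := Fintype.ofFinite _
    refine Or.inl ⟨n, ?_, ⟨f.trans (Cfsg.Lib.SubdegThree.pslCongrField (FiniteField.ringEquivOfCardEq (K' := GaloisField 3 (2 * n + 1)) ?_))⟩⟩
    · by_contra hn
      rw [not_le, Nat.lt_one_iff] at hn
      subst hn
      have hc := Cfsg.Lib.Classical.SmallPSL.card_psl (F := F) (q := 3) (by rw [hF]; norm_num)
      rw [← Nat.card_congr f.toEquiv] at hc
      have h60 := Cfsg.Lib.SolvStruct.AltEight.sixty_le (G := G) fun h => hna ⟨⟨fun a b => IsSimpleGroup.comm_iff_isSolvable.2 h a b⟩⟩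
      norm_num at hc
      omega
    · rw [hF, ← Nat.card_eq_fintype_card, GaloisField.card 3 (2 * n + 1) (by omega)]

end Cfsg.Agent.S4031
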