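import Cfsg.Statements.S4036
import Mathlib

set_option autoImplicit false
open Cfsg

namespace Cfsg.Agent.S4036

/-- Let P be a finite abelian p-group and K a group of automorphisms of P (a subgroup of Aut P) whose order is divisible by p. If all non-identity elements of K have the same fixed-point subgroup on P, then K has no non-trivial normal subgroup of order prime to p. -/
theorem result {P : Type*} [CommGroup P] [Finite P] {p : ℕ}
    [Fact p.Prime] (hP : IsPGroup p P) (K : Subgroup (MulAut P)) (hK : p ∣ Nat.card K)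
    (hfix : ∀ x y : MulAut P, x ∈ K → y ∈ K → x ≠ 1 → y ≠ 1 → ∀ v : P, x v = v ↔ y v = v) :
    ∀ N : Subgroup ↥K, N.Normal → ¬ p ∣ Nat.card N → N = ⊥ := by
  intro N hN hpN
  classical
  have := Fintype.ofFinite P
  have := Fintype.ofFinite N
  rw [Subgroup.eq_bot_iff_forall]
  by_contra hcon
  push Not at hcon
  obtain ⟨n₀, hn₀, hn₀1⟩ := hcon
  obtain ⟨k, hk⟩ := exists_prime_orderOf_dvd_card' p hK
  let f : P → P := fun v => ∏ n : N, ((n : K) : MulAut P) v
  let ν : P →* P := MonoidHom.mk' f (fun u v => by simp only [f, map_mul, Finset.prod_mul_distrib])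
  have hνn : ∀ m : N, ∀ v, ν (((m : K) : MulAut P) v) = ν v := fun m v => by
    show f _ = f v
    refine Fintype.prod_equiv (Equiv.mulRight m) _ _ (fun n => ?_)
    simp [MulAut.mul_apply]
  have hνk : ∀ v, ν ((k : MulAut P) v) = (k : MulAut P) (ν v) := fun v => by
    show f _ = (k : MulAut P) (∏ n : N, ((n : K) : MulAut P) v)
    rw [map_prod]
    let e : N ≃ N :=
      { toFun := fun n => ⟨k⁻¹ * (n : K) * k, by simpa using hN.conj_mem _ n.2 k⁻¹⟩
        invFun := fun n => ⟨k * (n : K) * k⁻¹, hN.conj_mem _ n.2 k⟩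
        left_inv := fun n => Subtype.ext (by simp [mul_assoc])
        right_inv := fun n => Subtype.ext (by simp [mul_assoc]) }
    refine Fintype.prod_equiv e _ _ (fun n => ?_)
    simp [e, MulAut.mul_apply]
  set W := ν.ker with hW
  have hinv : ∀ v, (k : MulAut P) v ∈ W ↔ v ∈ W := fun v => by
    rw [hW, MonoidHom.mem_ker, MonoidHom.mem_ker, hνk, MulEquiv.map_eq_one_iff]
  have hWbot : W = ⊥ := by
    by_contra hne
    have hWp : IsPGroup p W := hP.to_subgroup W
    obtain ⟨e, he⟩ := IsPGroup.iff_card.mp hWp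
    have he0 : e ≠ 0 := fun h0 => hne (Subgroup.card_eq_one.mp (by rw [he, h0, pow_zero]))
    have hdvd : p ∣ Fintype.card W := by
      rw [← Nat.card_eq_fintype_card, he]; exact dvd_pow_self p he0
    let σ : Equiv.Perm W := (MulAut.toPerm P (k : MulAut P)).subtypePerm hinv
    have hσ : σ ^ p ^ 1 = 1 := by
      have h1 : ((k : MulAut P)) ^ p = 1 := by
        rw [← SubgroupClass.coe_pow, ← hk, pow_orderOf_eq_one]; rfl
      have hit : ∀ (m : ℕ) (v : W), (((σ ^ m) v : W) : P) = ((k : MulAut P) ^ m) (v : P) := by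
        intro m
        induction m with
        | zero => intro v; simp
        | succ m ih => intro v; rw [pow_succ, Equiv.Perm.mul_apply, ih, pow_succ, MulAut.mul_apply]; rfl
      refine Equiv.ext fun v => Subtype.ext ?_
      rw [pow_one, hit, h1]; rfl
    obtain ⟨w, hw, hw1⟩ := Equiv.Perm.exists_fixed_point_of_prime' hdvd hσ
      (a := (1 : W)) (Subtype.ext (map_one (k : MulAut P)))
    have hkw : (k : MulAut P) (w : P) = w := congrArg Subtype.val hw
    have hkne : (k : MulAut P) ≠ 1 := fun h1 => (Fact.out : p.Prime).ne_one (by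
      rw [← hk, orderOf_eq_one_iff]; exact Subtype.ext h1)
    have hfixN : ∀ n : N, ((n : K) : MulAut P) (w : P) = w := fun n => by
      by_cases h1 : ((n : K) : MulAut P) = 1
      · rw [h1]; rfl
      · exact (hfix _ _ k.2 (n : K).2 hkne h1 w).mp hkw
    have h2 : (w : P) ^ Fintype.card N = 1 := by
      have : ν w = 1 := w.2
      rw [← this]
      show _ = f w
      simp [f, hfixN]
    obtain ⟨i, hi⟩ := IsPGroup.iff_orderOf.mp hWp w
    refine hw1 (orderOf_eq_one_iff.mp (Nat.eq_one_of_dvd_coprimes (k := orderOf w)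
      ((((Fact.out : p.Prime).coprime_iff_not_dvd).mpr hpN).pow_left i) (hi ▸ dvd_rfl)
      (orderOf_dvd_of_pow_eq_one (Subtype.ext (by rw [Nat.card_eq_fintype_card]; simpa using h2)))))
  refine hn₀1 (Subtype.ext (MulEquiv.ext fun v => ?_))
  exact (MonoidHom.ker_eq_bot_iff ν).mp hWbot (hνn ⟨n₀, hn₀⟩ v)

end Cfsg.Agent.S4036
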