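import Cfsg.Statements.S4039
import Cfsg.Agent.Transfer.Frobenius
import Cfsg.Agent.Thompson.Subgroup
import Cfsg.Agent.Splitting.Basic
import Cfsg.Agent.SolvStruct.NilpotentHall
import Cfsg.Agent.Coprime.Sylow
import Cfsg.Agent.Coprime.Generation

set_option autoImplicit false
open Cfsg

namespace Cfsg.Agent.S4039

universe u

theorem mem_normalizer_of_map_le {G : Type*} [Group G] [Finite G] {g : G} {H : Subgroup G}
    (h : H.map (MulAut.conj g).toMonoidHom ≤ H) : g ∈ Subgroup.normalizer (H : Set G) :=
  Subgroup.mem_normalizer_iff_map_conj_eq.2 (Subgroup.eq_of_le_of_card_ge h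
    (Subgroup.card_map_of_injective (MulEquiv.injective _)).ge)

open Subgroup in
theorem commute_of_coprime_parts {K : Type*} [Group K] [Finite K] [Group.IsNilpotent K] {p : ℕ} [Fact p.Prime]
    (b x : K) (hb : (orderOf b).Coprime p) {R : Subgroup K} (hR : IsPGroup p R) (hx : x ∈ R) : Commute b x := by
  obtain ⟨i, hi⟩ := IsPGroup.iff_orderOf.1 hR ⟨x, hx⟩
  rw [Subgroup.orderOf_mk] at hi
  have h : zpowers b ≤ centralizer {x} := Cfsg.Lib.Coprime.le_of_forall_sylow fun r hr => by
    haveI := Fact.mk hr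
    obtain ⟨S⟩ : Nonempty (Sylow r (zpowers b)) := inferInstance
    refine ⟨S, ?_⟩
    rintro _ ⟨s, hs, rfl⟩
    obtain ⟨j, hj⟩ := IsPGroup.iff_orderOf.1 S.2 ⟨s, hs⟩
    rw [Subgroup.orderOf_mk] at hj
    refine mem_centralizer_singleton_iff.2 ?_
    by_cases hrp : r = p
    · subst hrp
      have h1 : orderOf (s : K) ∣ orderOf b := by
        rw [← Nat.card_zpowers b, orderOf_coe]; exact orderOf_dvd_natCard s
      rw [orderOf_coe, hj] at h1
      rcases Nat.eq_zero_or_pos j with hj0 | hj0
      · rw [hj0, pow_zero, orderOf_eq_one_iff] at hj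
        rw [hj]; simp
      · exact absurd ((dvd_pow_self r hj0.ne').trans h1) ((Nat.coprime_comm.1 hb).symm.symm |> fun h => (Nat.Prime.coprime_iff_not_dvd Fact.out).1 h)
    · exact (Cfsg.Lib.SolvStruct.commute_of_coprime_of_nilpotent hrp (x := (s : K)) (y := x)
        ⟨j, by rw [Subgroup.orderOf_coe]; exact hj⟩ ⟨i, hi⟩).eq
  exact mem_centralizer_singleton_iff.1 (h (mem_zpowers b))

open Subgroup in
open scoped commutatorElement in
theorem aux : ∀ (n : ℕ) (G : Type u) [Group G] [Finite G], Nat.card G = n → ∀ M : Subgroup G,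
    IsCoatom M → ∀ (hnil : Group.IsNilpotent M), Group.nilpotencyClass M ≤ 2 → Group.IsSolvable G := by
  intro n
  induction n using Nat.strong_induction_on with
  | _ n ih =>
    intro G _ _ hn M hM hnil hcl
    haveI := hnil
    haveI : Group.IsSolvable M := inferInstance
    by_cases hMb : M = ⊥
    · obtain ⟨g, hg⟩ : ∃ g : G, g ≠ 1 := by
        by_contra hno
        push Not at hno
        exact hM.1 (by rw [hMb]; ext x; simp [hno x])
      have htop : zpowers g = ⊤ := hM.2 _ (by rw [hMb, bot_lt_iff_ne_bot, Ne, zpowers_eq_bot]; exact hg)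
      refine Group.isSolvable_of_comm fun a b => ?_
      obtain ⟨i, rfl⟩ := mem_zpowers_iff.1 (htop.ge (mem_top a))
      obtain ⟨j, rfl⟩ := mem_zpowers_iff.1 (htop.ge (mem_top b))
      exact ((Commute.refl g).zpow_zpow i j).eq
    by_cases hcore : ∃ N : Subgroup G, N.Normal ∧ N ≠ ⊥ ∧ N ≤ M
    · obtain ⟨N, hN, hNb, hNM⟩ := hcore
      haveI := hN
      have hlt := Cfsg.Lib.Coprime.card_quotient_lt hNb
      have hf := QuotientGroup.mk'_surjective N
      have hcm : (M.map (QuotientGroup.mk' N)).comap (QuotientGroup.mk' N) = M := by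
        rw [comap_map_eq, QuotientGroup.ker_mk', sup_eq_left.2 hNM]
      have hM' : IsCoatom (M.map (QuotientGroup.mk' N)) := by
        refine ⟨fun e => hM.1 (by rw [← hcm, e, comap_top]), fun X hX => ?_⟩
        have h1 : M ≤ X.comap (QuotientGroup.mk' N) := map_le_iff_le_comap.1 hX.le
        have h2 : M < X.comap (QuotientGroup.mk' N) := lt_of_le_of_ne h1 fun e => hX.ne (by
          rw [e, map_comap_eq_self_of_surjective hf])
        rw [← map_comap_eq_self_of_surjective hf X, hM.2 _ h2, map_top_of_surjective _ hf]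
      haveI := ih _ (hn ▸ hlt) (G ⧸ N) rfl _ hM'
        (Group.nilpotent_of_surjective ((QuotientGroup.mk' N).subgroupMap M)
          ((QuotientGroup.mk' N).subgroupMap_surjective M))
        ((Group.nilpotencyClass_le_of_surjective ((QuotientGroup.mk' N).subgroupMap M)
          ((QuotientGroup.mk' N).subgroupMap_surjective M)).trans hcl)
      haveI : Group.IsSolvable N := Cfsg.Lib.Coprime.isSolvable_of_le hNM inferInstance
      exact Group.isSolvable_of_ker_le_range N.subtype (QuotientGroup.mk' N) (by simp)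
    push Not at hcore
    have hnotn : ∀ X : Subgroup G, X ≤ M → X ≠ ⊥ → M ≤ normalizer (X : Set G) → normalizer (X : Set G) = M := by
      intro X hXM hXb hMX
      by_contra hne
      exact hcore X (normalizer_eq_top_iff.1 (hM.2 _ (lt_of_le_of_ne hMX (Ne.symm hne)))) hXb hXM
    have hloc : ∀ (p : ℕ) [Fact p.Prime], p ∣ Nat.card M → (¬ p ∣ M.index) ∧ Cfsg.HasNormalPComplement p G := by
      intro p _ hp
      obtain ⟨R⟩ : Nonempty (Sylow p M) := inferInstance
      set P₀ := (R : Subgroup M).map M.subtype with hP₀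
      have hRn : (R : Subgroup M).Normal := by
        have h := (Group.isNilpotent_of_finite_tfae (G := M)).out 0 3
        exact h.1 hnil p ‹_› R
      have hMP : M ≤ normalizer (P₀ : Set G) := fun m hm =>
        le_normalizer_map M.subtype ⟨⟨m, hm⟩, by rw [normalizer_eq_top_iff.2 hRn]; exact mem_top _, rfl⟩
      have hPne : P₀ ≠ ⊥ := by
        rw [hP₀, Ne, map_eq_bot_iff_of_injective _ M.subtype_injective]; exact R.ne_bot_of_dvd_card hp
      have hNP := hnotn P₀ (map_subtype_le _) hPne hMP
      obtain ⟨P, hP⟩ := (R.2.map M.subtype).exists_le_sylow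
      have hPe : (P : Subgroup G) = P₀ := by
        by_contra hne
        have hlt : P₀ < (P : Subgroup G) := lt_of_le_of_ne hP (Ne.symm hne)
        have h2 := Cfsg.Lib.Transfer.lt_inf_normalizer_of_lt P hlt
        rw [hNP] at h2
        obtain ⟨S, hS⟩ := ((P.2.to_le (inf_le_left : (P : Subgroup G) ⊓ M ≤ P)).of_equiv
          (subgroupOfEquivOfLe (inf_le_right : (P : Subgroup G) ⊓ M ≤ M)).symm).exists_le_sylow (p := p)
        have hc1 := card_dvd_of_le hS
        rw [Nat.card_congr (subgroupOfEquivOfLe (inf_le_right : (P : Subgroup G) ⊓ M ≤ M)).toEquiv,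
          S.card_eq_multiplicity, ← R.card_eq_multiplicity,
          ← card_map_of_injective (K := (R : Subgroup M)) M.subtype_injective, ← hP₀] at hc1
        exact h2.not_ge (eq_of_le_of_card_ge h2.le (Nat.le_of_dvd Nat.card_pos hc1)).ge
      have hPM : (P : Subgroup G) ≤ M := hPe ▸ map_subtype_le _
      refine ⟨fun h => P.not_dvd_index (h.trans (index_dvd_of_le hPM)), ?_⟩
      have hnorm : ∀ z : G, z ∈ P₀ → z ≠ 1 →
          normalizer ((P₀ ⊓ centralizer {z} : Subgroup G) : Set G) = M := by
        intro z hz hz1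
        have hzM : z ∈ M := (map_subtype_le _) hz
        refine hnotn _ (inf_le_left.trans (map_subtype_le _)) (fun e => hz1 ?_) fun m hm => ?_
        · rw [← mem_bot, ← e]
          exact ⟨hz, mem_centralizer_singleton_iff.2 rfl⟩
        have key : ∀ m ∈ M, ∀ c ∈ P₀ ⊓ centralizer {z}, m * c * m⁻¹ ∈ P₀ ⊓ centralizer {z} := by
          intro m hm c hc
          refine ⟨(mem_normalizer_iff.1 (hMP hm) c).1 hc.1, mem_centralizer_singleton_iff.2 ?_⟩
          have hcM : c ∈ M := (map_subtype_le _) hc.1
          have hcen : ⁅(⟨m, hm⟩ : M), ⟨c, hcM⟩⁆ ∈ center M := by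
            rw [← Subgroup.upperCentralSeries_one M]
            refine Subgroup.mem_upperCentralSeries_succ_iff.1 ?_ _
            rw [Subgroup.upperCentralSeries_eq_top_iff_nilpotencyClass_le.2 hcl]
            exact mem_top _
          have h1 : ⁅m, c⁆ * z = z * ⁅m, c⁆ :=
            (congrArg Subtype.val (mem_center_iff.1 hcen ⟨z, hzM⟩)).symm
          have h2 : c * z = z * c := mem_centralizer_singleton_iff.1 hc.2
          calc m * c * m⁻¹ * z = ⁅m, c⁆ * (c * z) := by simp only [commutatorElement_def]; group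
            _ = (⁅m, c⁆ * z) * c := by rw [h2]; group
            _ = z * (⁅m, c⁆ * c) := by rw [h1]; group
            _ = z * (m * c * m⁻¹) := by simp only [commutatorElement_def]; group
        exact Cfsg.Lib.Coprime.mem_normalizer_of_conj_mem (key m hm)
          fun c hc => by simpa using key m⁻¹ (inv_mem hm) c hc
      have hpl : ∀ S : Subgroup G, IsPGroup p S → S ≤ M → S ≤ P₀ := by
        intro S hS hSM
        obtain ⟨R', hR'⟩ := (hS.of_equiv (subgroupOfEquivOfLe hSM).symm).exists_le_sylow (p := p)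
        haveI : Subsingleton (Sylow p M) := (Sylow.unique_of_normal R hRn).instSubsingleton
        rw [Subsingleton.elim R' R] at hR'
        exact fun s hs => ⟨⟨s, hSM hs⟩, hR' (mem_subgroupOf.2 hs), rfl⟩
      -- the intersection of the Sylow subgroup with a centralizer is Sylow there
      have hmax : ∀ z : G, z ∈ P₀ → z ≠ 1 → ∀ S : Subgroup G, IsPGroup p S → S ≤ centralizer {z} →
          P₀ ⊓ centralizer {z} ≤ S → S = P₀ ⊓ centralizer {z} := by
        intro z hz hz1 S hS hSC hTS
        by_contra hne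
        have hlt := lt_of_le_of_ne hTS (Ne.symm hne)
        haveI := hS.isNilpotent
        have hlt' : (P₀ ⊓ centralizer {z}).subgroupOf S < ⊤ := by
          rw [lt_top_iff_ne_top, Ne, subgroupOf_eq_top]; exact hlt.not_ge
        obtain ⟨s, hs1, hs2⟩ := SetLike.exists_of_lt
          (Group.normalizerCondition_of_isNilpotent (G := S) _ hlt')
        rw [← subgroupOf_normalizer_eq hTS, mem_subgroupOf, hnorm z hz hz1] at hs1
        exact hs2 (mem_subgroupOf.2 ⟨hpl _ (hS.to_le inf_le_left) inf_le_right ⟨s.2, hs1⟩, hSC s.2⟩)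
      have hNM : normalizer (M : Set G) = M := by
        by_contra hne
        exact hcore M (normalizer_eq_top_iff.1 (hM.2 _ (lt_of_le_of_ne le_normalizer (Ne.symm hne)))) hMb le_rfl
      have hfus : ∀ x ∈ (P : Subgroup G), ∀ g : G, g * x * g⁻¹ ∈ (P : Subgroup G) →
          ∃ v ∈ (P : Subgroup G), g * x * g⁻¹ = v * x * v⁻¹ := by
        intro x hx g hy
        rcases eq_or_ne x 1 with rfl | hx1
        · exact ⟨1, one_mem _, by group⟩
        rw [hPe] at hx hy ⊢
        set y := g * x * g⁻¹ with hy'
        have hy1 : y ≠ 1 := fun e => hx1 (by simpa [hy'] using e)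
        set C := centralizer ({y} : Set G) with hC
        set T := (P₀ ⊓ centralizer {x}).map (MulAut.conj g).toMonoidHom with hT
        have hPp : IsPGroup p P₀ := R.2.map M.subtype
        have hTC : T ≤ C := by
          rintro _ ⟨c, hc, rfl⟩
          refine mem_centralizer_singleton_iff.2 ?_
          show g * c * g⁻¹ * y = y * (g * c * g⁻¹)
          rw [hy', show g * c * g⁻¹ * (g * x * g⁻¹) = g * (c * x) * g⁻¹ by group,
            mem_centralizer_singleton_iff.1 hc.2]
          group
        have hTp : IsPGroup p T := (hPp.to_le inf_le_left).map _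
        have hUp : IsPGroup p (P₀ ⊓ C : Subgroup G) := hPp.to_le inf_le_left
        obtain ⟨S1, hS1⟩ := (hTp.of_equiv (subgroupOfEquivOfLe hTC).symm).exists_le_sylow (p := p)
        obtain ⟨S2, hS2⟩ := (hUp.of_equiv (subgroupOfEquivOfLe inf_le_right).symm).exists_le_sylow (p := p)
        have e2 : (S2 : Subgroup C).map C.subtype = P₀ ⊓ C :=
          hmax y hy hy1 _ (S2.2.map _) (map_subtype_le _)
            (by rw [← map_subgroupOf_eq_of_le (inf_le_right : P₀ ⊓ C ≤ C)]; exact map_mono hS2)
        have e1 : ((S1 : Subgroup C).map C.subtype).map (MulAut.conj g⁻¹).toMonoidHom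
            = P₀ ⊓ centralizer {x} := by
          refine hmax x hx hx1 _ ((S1.2.map _).map _) ?_ ?_
          · rintro _ ⟨_, ⟨c, -, rfl⟩, rfl⟩
            refine mem_centralizer_singleton_iff.2 ?_
            have := mem_centralizer_singleton_iff.1 c.2
            show g⁻¹ * (c : G) * g⁻¹⁻¹ * x = x * (g⁻¹ * (c : G) * g⁻¹⁻¹)
            calc g⁻¹ * (c : G) * g⁻¹⁻¹ * x = g⁻¹ * ((c : G) * (g * x * g⁻¹)) * g := by group
              _ = g⁻¹ * ((g * x * g⁻¹) * (c : G)) * g := by rw [this]
              _ = x * (g⁻¹ * (c : G) * g⁻¹⁻¹) := by group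
          · intro c hc
            have hgc : g * c * g⁻¹ ∈ T := ⟨c, hc, rfl⟩
            refine ⟨g * c * g⁻¹, ⟨⟨_, hTC hgc⟩, hS1 (mem_subgroupOf.2 hgc), rfl⟩, ?_⟩
            show g⁻¹ * (g * c * g⁻¹) * g⁻¹⁻¹ = c
            group
        obtain ⟨d, hd⟩ := MulAction.exists_smul_eq C S1 S2
        set h := (d : G) * g with hh
        have e3 : (P₀ ⊓ centralizer {x}).map (MulAut.conj h).toMonoidHom = P₀ ⊓ C := by
          rw [← e1, ← e2, ← hd, Sylow.smul_def, map_map, map_map, Sylow.pointwise_smul_def, Subgroup.pointwise_smul_def,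
            show map ((MulDistribMulAction.toMonoidEnd (MulAut ↥C) ↥C) (MulAut.conj d)) (S1 : Subgroup C) =
              map (MulAut.conj d).toMonoidHom (S1 : Subgroup C) from rfl, map_map]
          congr 1
          refine MonoidHom.ext fun c => ?_
          show h * (g⁻¹ * (c : G) * g⁻¹⁻¹) * h⁻¹ = ((d * c * d⁻¹ : C) : G)
          simp only [hh, Subgroup.coe_mul, Subgroup.coe_inv]
          group
        have hhM : h ∈ M := by
          rw [← hNM]
          refine Cfsg.Agent.S4039.mem_normalizer_of_map_le (g := h) ?_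
          rintro _ ⟨m, hm, rfl⟩
          rw [← hnorm y hy hy1]
          rw [← hnorm x hx hx1] at hm
          rw [← hC, ← e3]
          exact le_normalizer_map _ ⟨m, hm, rfl⟩
        obtain ⟨a, b, ha, hb, hab, ⟨k, hk⟩, hcop⟩ := Cfsg.Lib.Transfer.exists_pPart p h
        have haM : zpowers a ≤ M := zpowers_le.2 (zpowers_le.2 hhM ha)
        have hbM : b ∈ M := zpowers_le.2 hhM hb
        refine ⟨a, hpl _ (IsPGroup.of_card ((Nat.card_zpowers a).trans hk)) haM (mem_zpowers a), ?_⟩
        have hbx : b * x = x * b := by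
          have hxR : x ∈ P₀ := hx
          obtain ⟨⟨x', hx'M⟩, hx'R, rfl⟩ := hxR
          exact congrArg Subtype.val (Cfsg.Agent.S4039.commute_of_coprime_parts (K := M) ⟨b, hbM⟩ ⟨x', hx'M⟩
            (by rw [Subgroup.orderOf_mk]; exact hcop) (R := (R : Subgroup M)) R.2 hx'R).eq
        have hhx : h * x * h⁻¹ = y := by
          rw [hh, show (d : G) * g * x * ((d : G) * g)⁻¹ = (d : G) * y * (d : G)⁻¹ by rw [hy']; group]
          rw [mem_centralizer_singleton_iff.1 d.2, mul_inv_cancel_right]
        rw [← hhx, ← hab]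
        calc a * b * x * (a * b)⁻¹ = a * (b * x) * b⁻¹ * a⁻¹ := by group
          _ = _ := by rw [hbx]; group
      obtain ⟨N, hN, hNc⟩ := Cfsg.Lib.Transfer.exists_complement_of_fusion (P : Subgroup G)
        P.2.isNilpotent P.card_coprime_index hfus
      exact ⟨P, N, hN, hNc⟩
    set K : Subgroup G := ⨅ (p : ℕ) (_ : p.Prime ∧ p ∣ Nat.card M), Cfsg.pResidual p G with hK
    haveI hKn : K.Normal := normal_iInf_normal fun p => normal_iInf_normal fun _ => inferInstance
    have hKcop : (Nat.card M).Coprime (Nat.card K) := Cfsg.Lib.Coprime.coprime_of_forall_prime fun p hp hpM hpK => by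
      haveI := Fact.mk hp
      have h := Cfsg.Lib.Transfer.hasNormalPComplement_iff_pResidual.1 (hloc p hpM).2
      exact hp.coprime_iff_not_dvd.1 h.symm (hpK.trans (card_dvd_of_le (iInf₂_le p ⟨hp, hpM⟩)))
    obtain ⟨r, hr, hrd⟩ := Nat.exists_prime_and_dvd (fun h : M.index = 1 => hM.1 (index_eq_one.1 h))
    haveI := Fact.mk hr
    have hrM : ¬ r ∣ Nat.card M := fun h => (hloc r h).1 hrd
    obtain ⟨x, hx⟩ := exists_prime_orderOf_dvd_card' (G := G) r (hrd.trans (index_dvd_card M))
    have hxK : x ∈ K := by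
      simp only [hK, mem_iInf]
      intro p hp
      exact Cfsg.Lib.Transfer.mem_pResidual_of_coprime (by
        rw [hx]
        exact (Nat.coprime_primes hr hp.1).2 fun e => hrM (e ▸ hp.2))
    have hrK : r ∣ Nat.card K := hx ▸ Subgroup.orderOf_dvd_natCard K hxK
    obtain ⟨R, hR⟩ := Cfsg.Lib.Coprime.exists_invariant_sylow (A := M) (K := K) le_normalizer_of_normal
      hKcop (Or.inl inferInstance) r
    set R₀ := (R : Subgroup K).map K.subtype
    have hRnot : ¬ R₀ ≤ M := fun h => by
      have h1 : r ∣ Nat.card R₀ := by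
        rw [card_map_of_injective K.subtype_injective]; exact R.dvd_card_of_dvd_card hrK
      exact hrM (h1.trans (card_dvd_of_le h))
    have hRn : R₀.Normal := normalizer_eq_top_iff.1
      (hM.2 _ (lt_of_le_of_ne hR fun e => hRnot (le_normalizer.trans e.symm.le)))
    haveI := hRn
    have htop : R₀ ⊔ M = ⊤ := hM.2 _ (lt_of_le_of_ne le_sup_right fun e => hRnot (le_sup_left.trans e.symm.le))
    haveI : Group.IsNilpotent R₀ := (R.2.map K.subtype).isNilpotent
    haveI : Group.IsSolvable (G ⧸ R₀) := by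
      refine Group.isSolvable_of_surjective (f := (QuotientGroup.mk' R₀).comp M.subtype) fun y => ?_
      obtain ⟨g, rfl⟩ := QuotientGroup.mk'_surjective _ y
      obtain ⟨a, ha, b, hb, rfl⟩ := mem_sup_of_normal_left.1 (htop.ge (mem_top g))
      refine ⟨⟨b, hb⟩, ?_⟩
      show QuotientGroup.mk' R₀ b = _
      rw [map_mul, show QuotientGroup.mk' R₀ a = 1 from (QuotientGroup.eq_one_iff a).2 ha, one_mul]
    exact Group.isSolvable_of_ker_le_range R₀.subtype (QuotientGroup.mk' R₀) (by simp)


/-- A finite group possessing a maximal subgroup that is nilpotent of class at most 2 is solvable. -/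
theorem result {G : Type*} [Group G] [Finite G]
    (M : Subgroup G) (hmax : IsCoatom M) (hnil : Group.IsNilpotent M) (hcl : Group.nilpotencyClass ↥M ≤ 2) :
    Group.IsSolvable G := by
  exact aux _ G rfl M hmax hnil hcl

end Cfsg.Agent.S4039
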