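import Cfsg.Statements.S4040
import Cfsg.Agent.S0108
import Cfsg.Agent.Thompson.Subgroup
import Cfsg.Agent.Splitting.Basic
import Cfsg.Agent.SolvStruct.NilpotentHall
import Cfsg.Agent.Coprime.Sylow
import Cfsg.Agent.Coprime.Generation

set_option autoImplicit false
open Cfsg

namespace Cfsg.Agent.S4040

universe u

open Subgroup in
theorem aux : ∀ (n : ℕ) (G : Type u) [Group G] [Finite G], Nat.card G = n → ∀ M : Subgroup G,
    IsCoatom M → Group.IsNilpotent M → Odd (Nat.card M) → Group.IsSolvable G := by
  intro n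
  induction n using Nat.strong_induction_on with
  | _ n ih =>
    intro G _ _ hn M hM hnil hodd
    haveI := hnil
    haveI : Group.IsSolvable M := inferInstance
    by_cases hMb : M = ⊥
    · obtain ⟨g, hg⟩ : ∃ g : G, g ≠ 1 := by
        by_contra hno
        push Not at hno
        exact hM.1 (by rw [hMb]; ext x; simp [hno x])
      have htop : zpowers g = ⊤ := hM.2 _ (by rw [hMb, bot_lt_iff_ne_bot, Ne, zpowers_eq_bot]; exact hg)
      refine Group.isSolvable_of_comm fun a b => ?_
      obtain ⟨i, rfl⟩ := mem_zpowers_iff.1 (htop.ge (mem_top a))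
      obtain ⟨j, rfl⟩ := mem_zpowers_iff.1 (htop.ge (mem_top b))
      exact ((Commute.refl g).zpow_zpow i j).eq
    by_cases hcore : ∃ N : Subgroup G, N.Normal ∧ N ≠ ⊥ ∧ N ≤ M
    · obtain ⟨N, hN, hNb, hNM⟩ := hcore
      haveI := hN
      have hlt := Cfsg.Lib.Coprime.card_quotient_lt hNb
      have hf := QuotientGroup.mk'_surjective N
      have hcm : (M.map (QuotientGroup.mk' N)).comap (QuotientGroup.mk' N) = M := by
        rw [comap_map_eq, QuotientGroup.ker_mk', sup_eq_left.2 hNM]
      have hM' : IsCoatom (M.map (QuotientGroup.mk' N)) := by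
        refine ⟨fun e => hM.1 (by rw [← hcm, e, comap_top]), fun X hX => ?_⟩
        have h1 : M ≤ X.comap (QuotientGroup.mk' N) := map_le_iff_le_comap.1 hX.le
        have h2 : M < X.comap (QuotientGroup.mk' N) := lt_of_le_of_ne h1 fun e => hX.ne (by
          rw [e, map_comap_eq_self_of_surjective hf])
        rw [← map_comap_eq_self_of_surjective hf X, hM.2 _ h2, map_top_of_surjective _ hf]
      haveI := ih _ (hn ▸ hlt) (G ⧸ N) rfl _ hM'
        (Group.nilpotent_of_surjective ((QuotientGroup.mk' N).subgroupMap M)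
          ((QuotientGroup.mk' N).subgroupMap_surjective M))
        (hodd.of_dvd_nat (card_map_dvd _ _))
      haveI : Group.IsSolvable N := Cfsg.Lib.Coprime.isSolvable_of_le hNM inferInstance
      exact Group.isSolvable_of_ker_le_range N.subtype (QuotientGroup.mk' N) (by simp)
    push Not at hcore
    have hnotn : ∀ X : Subgroup G, X ≤ M → X ≠ ⊥ → M ≤ normalizer (X : Set G) → normalizer (X : Set G) = M := by
      intro X hXM hXb hMX
      by_contra hne
      exact hcore X (normalizer_eq_top_iff.1 (hM.2 _ (lt_of_le_of_ne hMX (Ne.symm hne)))) hXb hXM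
    have hloc : ∀ (p : ℕ) [Fact p.Prime], p ∣ Nat.card M → (¬ p ∣ M.index) ∧ Cfsg.HasNormalPComplement p G := by
      intro p _ hp
      obtain ⟨R⟩ : Nonempty (Sylow p M) := inferInstance
      set P₀ := (R : Subgroup M).map M.subtype with hP₀
      have hRn : (R : Subgroup M).Normal := by
        have h := (Group.isNilpotent_of_finite_tfae (G := M)).out 0 3
        exact h.1 hnil p ‹_› R
      have hMP : M ≤ normalizer (P₀ : Set G) := fun m hm =>
        le_normalizer_map M.subtype ⟨⟨m, hm⟩, by rw [normalizer_eq_top_iff.2 hRn]; exact mem_top _, rfl⟩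
      have hPne : P₀ ≠ ⊥ := by
        rw [hP₀, Ne, map_eq_bot_iff_of_injective _ M.subtype_injective]; exact R.ne_bot_of_dvd_card hp
      have hNP := hnotn P₀ (map_subtype_le _) hPne hMP
      obtain ⟨P, hP⟩ := (R.2.map M.subtype).exists_le_sylow
      have hPe : (P : Subgroup G) = P₀ := by
        by_contra hne
        have hlt : P₀ < (P : Subgroup G) := lt_of_le_of_ne hP (Ne.symm hne)
        have h2 := Cfsg.Lib.Transfer.lt_inf_normalizer_of_lt P hlt
        rw [hNP] at h2
        obtain ⟨S, hS⟩ := ((P.2.to_le (inf_le_left : (P : Subgroup G) ⊓ M ≤ P)).of_equiv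
          (subgroupOfEquivOfLe (inf_le_right : (P : Subgroup G) ⊓ M ≤ M)).symm).exists_le_sylow (p := p)
        have hc1 := card_dvd_of_le hS
        rw [Nat.card_congr (subgroupOfEquivOfLe (inf_le_right : (P : Subgroup G) ⊓ M ≤ M)).toEquiv,
          S.card_eq_multiplicity, ← R.card_eq_multiplicity,
          ← card_map_of_injective (K := (R : Subgroup M)) M.subtype_injective, ← hP₀] at hc1
        exact h2.not_ge (eq_of_le_of_card_ge h2.le (Nat.le_of_dvd Nat.card_pos hc1)).ge
      have hPM : (P : Subgroup G) ≤ M := hPe ▸ map_subtype_le _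
      refine ⟨fun h => P.not_dvd_index (h.trans (index_dvd_of_le hPM)), ?_⟩
      have hp2 : p ≠ 2 := fun e => Nat.not_even_iff_odd.2 (hodd.of_dvd_nat hp) (by rw [e]; exact even_two)
      have hMnp := Cfsg.Lib.Splitting.hasNormalPComplement_of_nilpotent (G := M) p
      refine (Cfsg.Agent.S0108.result hp2 P).2 ⟨?_, ?_⟩
      · have hJ : normalizer (Cfsg.thompsonSubgroupOf p (P : Subgroup G) : Set G) = M :=
          hnotn _ ((Cfsg.Lib.Thompson.thompsonSubgroupOf_le _).trans hPM)
            (Cfsg.Lib.Thompson.thompsonSubgroupOf_ne_bot P.2 (hPe ▸ hPne))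
            ((hPe ▸ hMP).trans (Cfsg.Lib.Thompson.normalizer_le_normalizer_thompson _))
        rw [hJ]; exact hMnp
      · set Z := (P : Subgroup G) ⊓ centralizer ((P : Subgroup G) : Set G)
        have hMZ : M ≤ centralizer (Z : Set G) := Cfsg.Lib.Coprime.le_of_forall_sylow fun r hr => by
          haveI := Fact.mk hr
          obtain ⟨S⟩ : Nonempty (Sylow r M) := inferInstance
          refine ⟨S, ?_⟩
          rintro _ ⟨s, hs, rfl⟩
          refine mem_centralizer_iff.2 fun z hz => ?_
          by_cases hrp : r = p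
          · subst hrp
            haveI : Subsingleton (Sylow r M) :=
              (Sylow.unique_of_normal R hRn).instSubsingleton
            rw [Subsingleton.elim S R] at hs
            exact (mem_centralizer_iff.1 hz.2 (s : G) (hPe.ge ⟨s, hs, rfl⟩)).symm
          · obtain ⟨i, hi⟩ := IsPGroup.iff_orderOf.1 S.2 ⟨s, hs⟩
            obtain ⟨j, hj⟩ := IsPGroup.iff_orderOf.1 P.2 ⟨z, hz.1⟩
            rw [Subgroup.orderOf_mk] at hi hj
            exact (congrArg Subtype.val (Cfsg.Lib.SolvStruct.commute_of_coprime_of_nilpotent (K := M) hrp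
              (x := s) (y := ⟨z, hPM hz.1⟩) ⟨i, hi⟩ ⟨j, by rw [Subgroup.orderOf_mk]; exact hj⟩).eq).symm
        have hZb : Z ≠ ⊥ := by
          intro e
          haveI : Nontrivial (P : Subgroup G) := (nontrivial_iff_ne_bot _).2 (hPe ▸ hPne)
          haveI := P.2.center_nontrivial
          obtain ⟨⟨z, hz⟩, hz1⟩ := exists_ne (1 : center (P : Subgroup G))
          have hzZ : (z : G) ∈ Z := ⟨z.2, mem_centralizer_iff.2 fun y hy =>
            congrArg Subtype.val (mem_center_iff.1 hz ⟨y, hy⟩)⟩
          rw [e, mem_bot] at hzZ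
          exact hz1 (Subtype.ext (Subtype.ext hzZ))
        by_cases hC : centralizer (Z : Set G) = M
        · have hC' : centralizer (((P : Subgroup G) : Set G) ⊓ (centralizer (P : Set G) : Set G)) = M := hC
          rw [hC']; exact hMnp
        · exfalso
          refine hcore Z (normalizer_eq_top_iff.1 ?_) hZb (inf_le_left.trans hPM)
          rw [eq_top_iff, ← hM.2 _ (lt_of_le_of_ne hMZ (Ne.symm hC))]
          exact fun x hx => Cfsg.Lib.Coprime.mem_normalizer_of_conj_mem
            (fun y hy => by rwa [← mem_centralizer_iff.1 hx y hy, mul_inv_cancel_right])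
            (fun y hy => by rwa [mul_assoc, mem_centralizer_iff.1 hx y hy, inv_mul_cancel_left])
    set K : Subgroup G := ⨅ (p : ℕ) (_ : p.Prime ∧ p ∣ Nat.card M), Cfsg.pResidual p G with hK
    haveI hKn : K.Normal := normal_iInf_normal fun p => normal_iInf_normal fun _ => inferInstance
    have hKcop : (Nat.card M).Coprime (Nat.card K) := Cfsg.Lib.Coprime.coprime_of_forall_prime fun p hp hpM hpK => by
      haveI := Fact.mk hp
      have h := Cfsg.Lib.Transfer.hasNormalPComplement_iff_pResidual.1 (hloc p hpM).2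
      exact hp.coprime_iff_not_dvd.1 h.symm (hpK.trans (card_dvd_of_le (iInf₂_le p ⟨hp, hpM⟩)))
    obtain ⟨r, hr, hrd⟩ := Nat.exists_prime_and_dvd (fun h : M.index = 1 => hM.1 (index_eq_one.1 h))
    haveI := Fact.mk hr
    have hrM : ¬ r ∣ Nat.card M := fun h => (hloc r h).1 hrd
    obtain ⟨x, hx⟩ := exists_prime_orderOf_dvd_card' (G := G) r (hrd.trans (index_dvd_card M))
    have hxK : x ∈ K := by
      simp only [hK, mem_iInf]
      intro p hp
      exact Cfsg.Lib.Transfer.mem_pResidual_of_coprime (by
        rw [hx]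
        exact (Nat.coprime_primes hr hp.1).2 fun e => hrM (e ▸ hp.2))
    have hrK : r ∣ Nat.card K := hx ▸ Subgroup.orderOf_dvd_natCard K hxK
    obtain ⟨R, hR⟩ := Cfsg.Lib.Coprime.exists_invariant_sylow (A := M) (K := K) le_normalizer_of_normal
      hKcop (Or.inl inferInstance) r
    set R₀ := (R : Subgroup K).map K.subtype
    have hRnot : ¬ R₀ ≤ M := fun h => by
      have h1 : r ∣ Nat.card R₀ := by
        rw [card_map_of_injective K.subtype_injective]; exact R.dvd_card_of_dvd_card hrK
      exact hrM (h1.trans (card_dvd_of_le h))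
    have hRn : R₀.Normal := normalizer_eq_top_iff.1
      (hM.2 _ (lt_of_le_of_ne hR fun e => hRnot (le_normalizer.trans e.symm.le)))
    haveI := hRn
    have htop : R₀ ⊔ M = ⊤ := hM.2 _ (lt_of_le_of_ne le_sup_right fun e => hRnot (le_sup_left.trans e.symm.le))
    haveI : Group.IsNilpotent R₀ := (R.2.map K.subtype).isNilpotent
    haveI : Group.IsSolvable (G ⧸ R₀) := by
      refine Group.isSolvable_of_surjective (f := (QuotientGroup.mk' R₀).comp M.subtype) fun y => ?_
      obtain ⟨g, rfl⟩ := QuotientGroup.mk'_surjective _ y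
      obtain ⟨a, ha, b, hb, rfl⟩ := mem_sup_of_normal_left.1 (htop.ge (mem_top g))
      refine ⟨⟨b, hb⟩, ?_⟩
      show QuotientGroup.mk' R₀ b = _
      rw [map_mul, show QuotientGroup.mk' R₀ a = 1 from (QuotientGroup.eq_one_iff a).2 ha, one_mul]
    exact Group.isSolvable_of_ker_le_range R₀.subtype (QuotientGroup.mk' R₀) (by simp)


/-- A finite group possessing a maximal subgroup that is nilpotent of odd order is solvable. -/
theorem result {G : Type*} [Group G] [Finite G]
    (M : Subgroup G) (hmax : IsCoatom M) (hnil : Group.IsNilpotent M) (hodd : Odd (Nat.card M)) :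
    Group.IsSolvable G := by
  exact aux _ G rfl M hmax hnil hodd

end Cfsg.Agent.S4040
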