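import Cfsg.Statements.S4041
import Cfsg.Agent.GoldConsumers.FpfSolvable

set_option autoImplicit false
open Cfsg

namespace Cfsg.Agent.S4041

/-- Let G be a finite group in which the symmetric group of degree 3 is not involved, and let π be the set of primes dividing the order of G. Let a finite group A act on G by automorphisms so that the identity is the only element of G fixed by every element of A, and suppose A has a nilpotent Hall π-subgroup and a normal π-complement (a normal subgroup whose order is divisible by no prime of π and whose index is divisible only by primes of π). Then G is solvable. -/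
theorem result {G A : Type*} [Group G] [Finite G]
    [Group A] [Finite A] (φ : A →* MulAut G) (hfpf : ∀ g : G, (∀ a : A, φ a g = g) → g = 1)
    (hS3 : ¬ Cfsg.Involves (Equiv.Perm (Fin 3)) G)
    (hHall : ∃ H : Subgroup A, Cfsg.IsPiHall {r : ℕ | r.Prime ∧ r ∣ Nat.card G} H ∧ Group.IsNilpotent H)
    (hcomp : ∃ K : Subgroup A, K.Normal ∧ (∀ r : ℕ, r.Prime → r ∣ Nat.card K → ¬ r ∣ Nat.card G) ∧
      ∀ r : ℕ, r.Prime → r ∣ K.index → r ∣ Nat.card G) :
    Group.IsSolvable G := by
  obtain ⟨H, ⟨-, hH⟩, hnil⟩ := hHall
  obtain ⟨K, hK, hKc, hKi⟩ := hcomp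
  refine Cfsg.Lib.GoldConsumers.solvable_of_fpf _ G le_rfl φ hfpf hS3
    ⟨K, hK, ?_, fun r hp hd hd' => hKc r hp hd' hd⟩
  let f : ↥H →* A ⧸ K := (QuotientGroup.mk' K).comp H.subtype
  have hsurj : Function.Surjective f := by
    rw [← MonoidHom.range_eq_top]
    rw [show f.range = H.map (QuotientGroup.mk' K) by rw [MonoidHom.range_comp, H.range_subtype]]
    by_contra hne
    obtain ⟨r, hp, hd⟩ := Nat.exists_prime_and_dvd (fun h => hne (Subgroup.index_eq_one.1 h))
    have h1 : r ∣ Nat.card G := hKi r hp (hd.trans (by
      rw [Subgroup.index_eq_card K]; exact Subgroup.index_dvd_card _))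
    exact hH r hp ⟨hp, h1⟩ (hd.trans (Subgroup.index_map_dvd H (QuotientGroup.mk'_surjective K)))
  exact Group.nilpotent_of_surjective f hsurj

end Cfsg.Agent.S4041
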