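import Cfsg.Statements.S4043
import Cfsg.Agent.Transfer.Basic
import Cfsg.Agent.Coprime.SchurZassenhaus
import Cfsg.Agent.PGroups.Basic
import Cfsg.Agent.Coprime.Action

set_option autoImplicit false
open Cfsg

namespace Cfsg.Agent.S4043

/-- Let G be a finite group that is the semidirect product of a normal p-subgroup N by a subgroup A, and also of N by a subgroup A₁, where p is a prime and A and A₁ both have normal p-complements. If C_N(A) = C_N(A₁) = 1, then A₁ is conjugate to A by an element of N. -/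
theorem result {G : Type*} [Group G] [Finite G] {p : ℕ}
    [Fact p.Prime] (N : Subgroup G) [N.Normal] (hN : IsPGroup p N) (A A₁ : Subgroup G)
    (hA : A.IsComplement' N) (hA₁ : A₁.IsComplement' N)
    (hAp : Cfsg.HasNormalPComplement p A) (hA₁p : Cfsg.HasNormalPComplement p A₁)
    (hC : ∀ n : G, n ∈ N → (∀ a : G, a ∈ A → a * n * a⁻¹ = n) → n = 1)
    (hC₁ : ∀ n : G, n ∈ N → (∀ a : G, a ∈ A₁ → a * n * a⁻¹ = n) → n = 1) :
    ∃ n : G, n ∈ N ∧ A₁ = A.map (MulAut.conj n).toMonoidHom := by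
  have hp : p.Prime := Fact.out
  set π := QuotientGroup.mk' N
  have hsurj := QuotientGroup.mk'_surjective N
  set R := Cfsg.pResidual p (G ⧸ N)
  -- the residual of a complement
  have key : ∀ B : Subgroup G, B.IsComplement' N → Cfsg.HasNormalPComplement p B →
      ∃ K : Subgroup G, K ≤ B ∧ B ≤ Subgroup.normalizer (K : Set G) ∧ (Nat.card K).Coprime p ∧
        K.map π = R ∧ Nat.card K = Nat.card R ∧ ∃ k, K.relIndex B = p ^ k := by
    intro B hB hBp
    let e : B ≃* G ⧸ N := MulEquiv.ofBijective (π.comp B.subtype) ⟨(injective_iff_map_eq_one _).mpr fun b hb => by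
      have hbN : (b : G) ∈ N := (QuotientGroup.eq_one_iff _).mp hb
      have : (b : G) ∈ B ⊓ N := ⟨b.2, hbN⟩
      rw [disjoint_iff.mp hB.disjoint, Subgroup.mem_bot] at this
      exact Subtype.ext this, fun q => by
      obtain ⟨g, rfl⟩ := hsurj q
      obtain ⟨⟨⟨b, hb⟩, ⟨m, hm⟩⟩, rfl⟩ := hB.2 g
      refine ⟨⟨b, hb⟩, ?_⟩
      show π b = π (b * m)
      rw [map_mul, show π m = 1 from (QuotientGroup.eq_one_iff m).mpr hm, mul_one]⟩
    have he : (Cfsg.pResidual p B).map e.toMonoidHom = R := le_antisymm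
      (Cfsg.Lib.Transfer.pResidual_map_le _) (fun x hx =>
        ⟨e.symm x, Cfsg.Lib.Transfer.pResidual_map_le e.symm.toMonoidHom ⟨x, hx, rfl⟩, e.apply_symm_apply x⟩)
    refine ⟨(Cfsg.pResidual p B).map B.subtype, Subgroup.map_subtype_le _, ?_, ?_, ?_, ?_, ?_⟩
    · have h1 := Subgroup.le_normalizer_map B.subtype (H := Cfsg.pResidual p B)
      rw [Subgroup.normalizer_eq_top_iff.mpr inferInstance, ← MonoidHom.range_eq_map,
        Subgroup.range_subtype] at h1
      exact h1
    · rw [Subgroup.card_map_of_injective B.subtype_injective]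
      exact Cfsg.Lib.Transfer.hasNormalPComplement_iff_pResidual.mp hBp
    · rw [Subgroup.map_map, ← he]; rfl
    · rw [Subgroup.card_map_of_injective B.subtype_injective, ← he,
        Subgroup.card_map_of_injective (f := e.toMonoidHom) e.injective]
    · obtain ⟨k, hk⟩ := Cfsg.Lib.Transfer.exists_index_pResidual (p := p) (G := B)
      exact ⟨k, by rw [Subgroup.relIndex, Subgroup.subgroupOf, Subgroup.comap_map_eq_self_of_injective B.subtype_injective, hk]⟩
  obtain ⟨K, hKA, hAK, hKp, hKmap, hKc, -⟩ := key A hA hAp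
  obtain ⟨K₁, hK₁A, hA₁K, hK₁p, hK₁map, hK₁c, k, hk⟩ := key A₁ hA₁ hA₁p
  obtain ⟨a, ha⟩ := IsPGroup.iff_card.mp hN
  have hK₁le : K₁ ≤ N ⊔ K := by
    intro x hx
    obtain ⟨y, hy, e⟩ := (hKmap.ge (hK₁map.le ⟨x, hx, rfl⟩) : π x ∈ K.map π)
    have h1 : x * y⁻¹ ∈ N := by
      rw [← QuotientGroup.eq_one_iff, QuotientGroup.mk_mul, QuotientGroup.mk_inv]
      show π x * (π y)⁻¹ = 1
      rw [e, mul_inv_cancel]
    rw [show x = x * y⁻¹ * y by group]
    exact Subgroup.mul_mem_sup h1 hy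
  obtain ⟨n, hn, he⟩ := Cfsg.Lib.Coprime.exists_conj_eq_of_coprime (N := N) (H := K) (K := K₁)
    (Subgroup.normalizer_eq_top N ▸ le_top) (by rw [ha]; exact hKp.symm.pow_left a)
    (Or.inl (by have := hN.isNilpotent; infer_instance)) hK₁le (hK₁c.trans hKc.symm)
  refine ⟨n, hn, ?_⟩
  set A' := A.map (MulAut.conj n).toMonoidHom
  have hA'K : A' ≤ Subgroup.normalizer (K₁ : Set G) := by
    rw [he, Cfsg.Lib.Coprime.normalizer_conjMap]
    exact Subgroup.map_mono hAK
  -- `N` meets the normaliser of `K₁` trivially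
  set M := N ⊓ Subgroup.normalizer (K₁ : Set G)
  have hMK : ∀ m ∈ M, ∀ x ∈ K₁, m * x = x * m := by
    intro m hm x hx
    have h1 : m * x * m⁻¹ * x⁻¹ ∈ N ⊓ K₁ := by
      refine ⟨?_, K₁.mul_mem ((Subgroup.mem_normalizer_iff.mp hm.2 x).mp hx) (K₁.inv_mem hx)⟩
      rw [show m * x * m⁻¹ * x⁻¹ = m * (x * m⁻¹ * x⁻¹) by group]
      exact N.mul_mem hm.1 (‹N.Normal›.conj_mem _ (N.inv_mem hm.1) x)
    rw [Cfsg.Lib.Coprime.inf_eq_bot_of_coprime (by rw [ha]; exact hK₁p.symm.pow_left a), Subgroup.mem_bot,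
      mul_inv_eq_one, mul_inv_eq_iff_eq_mul] at h1
    exact h1
  have hMbot : M = ⊥ := by
    by_contra hne
    obtain ⟨P⟩ := (inferInstance : Nonempty (Sylow p A'))
    set P' := (P : Subgroup A').map A'.subtype
    have hPM : P' ≤ Subgroup.normalizer (M : Set G) :=
      (Subgroup.map_subtype_le _).trans ((le_inf (Subgroup.normalizer_eq_top N ▸ le_top)
        (hA'K.trans Subgroup.le_normalizer)).trans (fun g hg => Cfsg.Lib.Coprime.mem_normalizer_of_conj_mem
          (fun m hm => ⟨‹N.Normal›.conj_mem m hm.1 g, (Subgroup.mem_normalizer_iff.mp hg.2 m).mp hm.2⟩)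
          (fun m hm => ⟨by simpa using ‹N.Normal›.conj_mem m hm.1 g⁻¹,
            by simpa using (Subgroup.mem_normalizer_iff.mp (inv_mem hg.2) m).mp hm.2⟩)))
    have hSp : IsPGroup p (M ⊔ P' : Subgroup G) :=
      IsPGroup.to_sup_of_normal_left' (hN.to_le inf_le_left) (P.2.map _) hPM
    have hMn : (M.subgroupOf (M ⊔ P')).Normal :=
      (Subgroup.normal_subgroupOf_iff_le_normalizer le_sup_left).mpr (sup_le Subgroup.le_normalizer hPM)
    obtain ⟨z, hzM, hzZ, hzo⟩ := Cfsg.Lib.PGroups.exists_mem_center_of_normal_ne_bot hSp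
      (N := M.subgroupOf (M ⊔ P')) (by rw [Ne, Subgroup.subgroupOf_eq_bot, disjoint_iff, inf_sup_self]; exact hne)
    have hzP : ∀ x ∈ P', x * (z : G) = z * x := fun x hx =>
      congrArg Subtype.val (Subgroup.mem_center_iff.mp hzZ ⟨x, Subgroup.mem_sup_right hx⟩)
    -- `A'` is generated by `K₁` and `P'`
    have hKA' : K₁ ≤ A' := by rw [he]; exact Subgroup.map_mono hKA
    have hgen : A' ≤ K₁ ⊔ P' := by
      have h1 : (K₁ ⊔ P').subgroupOf A' = ⊤ := by
        rw [← Subgroup.index_eq_one]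
        refine Nat.eq_one_iff_not_exists_prime_dvd.mpr fun r hr hd => ?_
        have hd1 : r ∣ (K₁.subgroupOf A').index :=
          hd.trans (Subgroup.index_dvd_of_le (Subgroup.comap_mono le_sup_left))
        have hd2 : r ∣ (P : Subgroup A').index :=
          hd.trans (Subgroup.index_dvd_of_le (fun x hx => Subgroup.mem_sup_right ⟨x, hx, rfl⟩))
        have hc : (K₁.subgroupOf A').index = p ^ k := by
          have h4 : K₁.relIndex A₁ = p ^ k := hk
          have h5 : Nat.card A' = Nat.card A₁ := by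
            rw [Subgroup.card_map_of_injective (MulAut.conj n).injective]
            exact Nat.eq_of_mul_eq_mul_right Nat.card_pos (hA.card_mul.trans hA₁.card_mul.symm)
          rw [← h4]
          show K₁.relIndex A' = K₁.relIndex A₁
          apply Nat.eq_of_mul_eq_mul_left (Nat.card_pos (α := K₁))
          rw [← Subgroup.relIndex_bot_left, Subgroup.relIndex_mul_relIndex _ _ _ bot_le hKA',
            Subgroup.relIndex_mul_relIndex _ _ _ bot_le hK₁A, Subgroup.relIndex_bot_left,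
            Subgroup.relIndex_bot_left, h5]
        rw [hc] at hd1
        exact P.not_dvd_index ((Nat.prime_dvd_prime_iff_eq hr hp).mp (hr.dvd_of_dvd_pow hd1) ▸ hd2)
      exact Subgroup.subgroupOf_eq_top.mp h1
    have hzA : ∀ g ∈ A', g * (z : G) = z * g := by
      have : A' ≤ Subgroup.centralizer ({(z : G)} : Set G) := hgen.trans (sup_le
        (fun x hx => Subgroup.mem_centralizer_singleton_iff.mpr (hMK z hzM x hx).symm)
        (fun x hx => Subgroup.mem_centralizer_singleton_iff.mpr (hzP x hx)))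
      exact fun g hg => Subgroup.mem_centralizer_singleton_iff.mp (this hg)
    have h0 : n⁻¹ * (z : G) * n = 1 := by
      refine hC _ (by simpa using ‹N.Normal›.conj_mem _ hzM.1 n⁻¹) fun g hg => ?_
      have h2 : n * g * n⁻¹ * z = z * (n * g * n⁻¹) := hzA _ ⟨g, hg, rfl⟩
      calc g * (n⁻¹ * (z : G) * n) * g⁻¹ = n⁻¹ * (n * g * n⁻¹ * z) * (n * g * n⁻¹)⁻¹ * n := by group
        _ = n⁻¹ * (z * (n * g * n⁻¹)) * (n * g * n⁻¹)⁻¹ * n := by rw [h2]
        _ = _ := by group
    have hz1 : z = 1 := Subtype.ext (by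
      calc (z : G) = n * (n⁻¹ * (z : G) * n) * n⁻¹ := by group
        _ = 1 := by rw [h0]; group)
    rw [hz1, orderOf_one] at hzo
    exact hp.ne_one hzo.symm
  refine (Subgroup.eq_of_le_of_card_ge (fun g hg => ?_) ?_)
  · obtain ⟨⟨⟨b, hb⟩, ⟨m, hm⟩⟩, rfl⟩ := hA.2 (n⁻¹ * g * n)
      |>.imp fun x hx => (show n * ((x.1 : G) * x.2) * n⁻¹ = g by simp only at hx; rw [hx]; group)
    show n * (b * m) * n⁻¹ ∈ A'
    have hb' : n * b * n⁻¹ ∈ A' := ⟨b, hb, rfl⟩
    have hm' : n * m * n⁻¹ ∈ M := by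
      refine ⟨‹N.Normal›.conj_mem m hm n, ?_⟩
      have h1 := Subgroup.mul_mem _ (Subgroup.inv_mem _ (hA'K hb')) (hA₁K hg)
      rwa [show (n * b * n⁻¹)⁻¹ * (n * (b * m) * n⁻¹) = n * m * n⁻¹ by group] at h1
    rw [hMbot, Subgroup.mem_bot, conj_eq_one_iff] at hm'
    rw [hm', mul_one]; exact hb'
  · rw [Subgroup.card_map_of_injective (MulAut.conj n).injective]
    exact (Nat.eq_of_mul_eq_mul_right Nat.card_pos (hA.card_mul.trans hA₁.card_mul.symm)).le

end Cfsg.Agent.S4043
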