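import Cfsg.Statements.S4049
import Cfsg.Agent.S3861
import Cfsg.Agent.Coprime.Generation

set_option autoImplicit false
open Cfsg

namespace Cfsg.Agent.S4049

/-- Let G be a finite group such that N_G(H)/C_G(H) has odd order for every nontrivial subgroup H of odd order. Then the Sylow 2-subgroups of G are normal. -/
theorem result {G : Type*} [Group G] [Finite G]
    (hhom : ∀ H : Subgroup G, H ≠ ⊥ → ¬ 2 ∣ Nat.card ↥H →
        ¬ 2 ∣ (Subgroup.centralizer (H : Set G)).relIndex (Subgroup.normalizer (H : Set G))) (P : Sylow 2 G) :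
    (P : Subgroup G).Normal := by
  refine (Cfsg.Agent.S3861.result P).1 fun x hx hodd hconj => ?_
  obtain ⟨g, hg⟩ := isConj_iff.1 hconj
  set H := Subgroup.zpowers x
  have hH : H ≠ ⊥ := fun e => hx (Subgroup.mem_bot.1 (e ▸ Subgroup.mem_zpowers x))
  have h2 : ¬ 2 ∣ Nat.card ↥H := by
    rw [Nat.card_zpowers]; exact fun h => (Nat.not_even_iff_odd.2 hodd) (even_iff_two_dvd.2 h)
  set N := Subgroup.normalizer (H : Set G)
  set C := (Subgroup.centralizer (H : Set G)).subgroupOf N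
  have hgN : g ∈ N := Cfsg.Lib.SolvStruct.mem_normalizer_of_conj_smul_le (by
    rw [Cfsg.Lib.SolvStruct.conj_smul_eq_map, MonoidHom.map_zpowers, Subgroup.zpowers_le]
    show g * x * g⁻¹ ∈ H
    rw [hg]; exact inv_mem (Subgroup.mem_zpowers x))
  haveI : C.Normal := by
    show ((Subgroup.centralizer (H : Set G)).subgroupOf N).Normal
    rw [← Subgroup.normalizerMonoidHom_ker]; infer_instance
  have hidx : ¬ 2 ∣ Nat.card (↥N ⧸ C) := by rw [← Subgroup.index_eq_card]; exact hhom H hH h2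
  set u : ↥N ⧸ C := QuotientGroup.mk' C ⟨g, hgN⟩
  have hu2 : u ^ 2 = 1 := by
    rw [← map_pow]
    refine (QuotientGroup.eq_one_iff _).2 ?_
    show (g ^ 2 : G) ∈ Subgroup.centralizer (H : Set G)
    rw [Cfsg.Lib.Coprime.centralizer_zpowers, Subgroup.mem_centralizer_singleton_iff]
    have : g ^ 2 * x * (g ^ 2)⁻¹ = x := by
      rw [sq, show g * g * x * (g * g)⁻¹ = g * (g * x * g⁻¹) * g⁻¹ by group, hg,
        show g * x⁻¹ * g⁻¹ = (g * x * g⁻¹)⁻¹ by group, hg, inv_inv]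
    exact mul_inv_eq_iff_eq_mul.1 this
  have hu : u = 1 := orderOf_eq_one_iff.1 (Nat.eq_one_of_dvd_coprimes
    ((Nat.prime_two.coprime_iff_not_dvd.2 hidx).symm) (orderOf_dvd_natCard u) (orderOf_dvd_of_pow_eq_one hu2))
  have hgC : g ∈ Subgroup.centralizer (H : Set G) := (QuotientGroup.eq_one_iff (N := C) (⟨g, hgN⟩ : ↥N)).1 hu
  rw [Cfsg.Lib.Coprime.centralizer_zpowers, Subgroup.mem_centralizer_singleton_iff] at hgC
  have hxx : x = x⁻¹ := by rw [← hg, hgC, mul_inv_cancel_right]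
  have hx2 : x ^ 2 = 1 := by rw [sq]; nth_rewrite 1 [hxx]; rw [inv_mul_cancel]
  exact hx (orderOf_eq_one_iff.1 (Nat.eq_one_of_dvd_coprimes (Nat.coprime_two_right.2 hodd) dvd_rfl
    (orderOf_dvd_of_pow_eq_one hx2)))

end Cfsg.Agent.S4049
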