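import Cfsg.Statements.S4050
import Cfsg.Agent.SolvStruct.PiClosed

set_option autoImplicit false
open Cfsg

namespace Cfsg.Agent.S4050

/-- Let π be a set of primes and G a finite group. The π-elements of G (elements whose order is divisible only by primes of π) form a subgroup if and only if G is π-separable (it has a chain of normal subgroups from 1 to G with each successive index divisible only by primes in π or only by primes outside π) and N_G(H)/C_G(H) is a π'-group for every nontrivial π'-subgroup H of G. -/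
theorem result {G : Type*} [Group G] [Finite G] (π : Set ℕ)
    (hπ : ∀ p ∈ π, p.Prime) :
    (∃ K : Subgroup G, ∀ x : G, x ∈ K ↔ ∀ p : ℕ, p.Prime → p ∣ orderOf x → p ∈ π) ↔
    ((∃ (n : ℕ) (H : Fin (n + 1) → Subgroup G), H 0 = ⊥ ∧ H (Fin.last n) = ⊤ ∧ Monotone H ∧ (∀ i, (H i).Normal) ∧
      ∀ i : Fin n, (∀ q : ℕ, q.Prime → q ∣ (H i.castSucc).relIndex (H i.succ) → q ∈ π) ∨
        (∀ q : ℕ, q.Prime → q ∣ (H i.castSucc).relIndex (H i.succ) → q ∉ π)) ∧
     (∀ H : Subgroup G, H ≠ ⊥ → (∀ p : ℕ, p.Prime → p ∣ Nat.card ↥H → p ∉ π) →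
        ∀ p : ℕ, p.Prime → p ∣ (Subgroup.centralizer (H : Set G)).relIndex (Subgroup.normalizer (H : Set G)) → p ∉ π)) := by
  constructor
  · intro h
    have hc : Cfsg.Lib.PiClosed.Closed (fun p => p ∈ π) G := h
    obtain ⟨L, hL⟩ := id hc
    refine ⟨?_, fun H _ hH q hq hd => Cfsg.Lib.PiClosed.relIndex_of_hom (Cfsg.Lib.PiClosed.hom_of_closed hc) H hH q hq hd⟩
    have hLn : L.Normal := ⟨fun a ha g => (hL _).2 ((Cfsg.Lib.SolvStruct.isPi_conj_iff g).2 ((hL a).1 ha))⟩
    have hLt : ∀ q : ℕ, q.Prime → q ∣ L.index → q ∉ π := by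
      intro q hq hd hqπ
      haveI := Fact.mk hq
      obtain ⟨P⟩ := (inferInstance : Nonempty (Sylow q G))
      refine P.not_dvd_index (hd.trans (Subgroup.index_dvd_of_le fun y hy => (hL y).2 fun r hr hrd => ?_))
      obtain ⟨j, hj⟩ := IsPGroup.iff_orderOf.1 P.2 ⟨y, hy⟩
      rw [Subgroup.orderOf_mk] at hj
      rw [hj] at hrd
      rwa [(Nat.prime_dvd_prime_iff_eq hr hq).1 (hr.dvd_of_dvd_pow hrd)]
    refine ⟨2, ![⊥, L, ⊤], rfl, rfl, ?_, ?_, ?_⟩
    · refine Fin.monotone_iff_le_succ.2 fun i => ?_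
      fin_cases i <;> simp
    · intro i
      fin_cases i
      · exact Subgroup.normal_bot
      · exact hLn
      · exact (inferInstance : (⊤ : Subgroup G).Normal)
    · intro i
      fin_cases i
      · left
        intro q hq hd
        have hd' : q ∣ (⊥ : Subgroup G).relIndex L := hd
        rw [Subgroup.relIndex_bot_left] at hd'
        exact Cfsg.Lib.PiClosed.card_pi_of_forall (S := fun p => p ∈ π) (fun x hx => (hL x).1 hx) q hq hd'
      · right
        intro q hq hd
        have hd' : q ∣ L.relIndex (⊤ : Subgroup G) := hd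
        rw [Subgroup.relIndex_top_right] at hd'
        exact hLt q hq hd'
  · rintro ⟨⟨n, H, h0, hn, hmono, hnormal, hfac⟩, hhom⟩
    exact Cfsg.Lib.PiClosed.closed_of_series (S := fun p => p ∈ π) (Cfsg.Lib.PiClosed.hom_of_relIndex hhom)
      H h0 hn hmono hnormal hfac

end Cfsg.Agent.S4050
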