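import Cfsg.Statements.S4052
import Cfsg.Agent.S0877
import Cfsg.Agent.Fusion.PiHomogeneous
-- import your own Cfsg.Agent.* helpers here

set_option autoImplicit false
open Cfsg

namespace Cfsg.Agent.S4052

/-- Let π be a set of primes and G a finite group whose maximal π-subgroups are pairwise conjugate (so Hall π-subgroups exist, any two are conjugate, and every π-subgroup lies in one of them), and suppose N_G(H)/C_G(H) is a π-group for every nontrivial π-subgroup H. If either 3 does not divide the order of G, or the π'-elements of every proper subgroup of G form a subgroup, then the π'-elements of G form a subgroup. -/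
theorem result {G : Type*} [Group G] [Finite G] (π : Set ℕ)
    (hπ : ∀ p ∈ π, p.Prime) (hD : Cfsg.IsDPiGroup π G) (hhom : (∀ H : Subgroup G, H ≠ ⊥ → (∀ p : ℕ, p.Prime → p ∣ Nat.card ↥H → p ∈ π) →
        ∀ p : ℕ, p.Prime → p ∣ (Subgroup.centralizer (H : Set G)).relIndex (Subgroup.normalizer (H : Set G)) → p ∈ π))
    (hcase : ¬ 3 ∣ Nat.card G ∨ ∀ M : Subgroup G, M ≠ ⊤ →
      ∃ L : Subgroup ↥M, ∀ x : ↥M, x ∈ L ↔ ∀ p : ℕ, p.Prime → p ∣ orderOf x → p ∉ π) :
    (∃ K : Subgroup G, ∀ x : G, x ∈ K ↔ ∀ p : ℕ, p.Prime → p ∣ orderOf x → p ∉ π) := by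
  classical
  have hcov0 : ∀ X : Subgroup G, IsPiSubgroup π X → ∃ M, X ≤ M ∧ Maximal (IsPiSubgroup π) M :=
    fun X hX => Finite.exists_le_maximal hX
  obtain ⟨W, -, hWmax⟩ := hcov0 ⊥ fun q hq hqd => absurd (Subgroup.card_bot (G := G) ▸ hqd) hq.not_dvd_one
  have hcov : Cfsg.Lib.PiHomogeneous.Covers π W := by
    intro X hX
    obtain ⟨M, hXM, hM⟩ := hcov0 X hX
    obtain ⟨g, hg⟩ := hD M W hM hWmax
    exact ⟨g, fun x hx => hg ▸ ⟨x, hXM hx, by simp⟩⟩
  have hW : IsPiSubgroup π W := hWmax.1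
  have hhom' : Cfsg.Lib.PiHomogeneous.Homog π G := by
    intro E hE hEne g hg q hq hqπ hgq
    by_contra hgc
    haveI := Fact.mk hq
    set N := Subgroup.normalizer (E : Set G)
    set C := (Subgroup.centralizer (E : Set G)).subgroupOf N
    haveI : C.Normal := ⟨fun c hc m => by
      rw [Subgroup.mem_subgroupOf, Subgroup.mem_centralizer_iff] at hc ⊢
      intro e he
      have h1 : (m : G)⁻¹ * e * m ∈ E := by
        simpa using (Subgroup.mem_normalizer_iff.mp (inv_mem m.2) e).mp he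
      calc e * ((m * c * m⁻¹ : N) : G) = (m : G) * (((m : G)⁻¹ * e * m) * (c : G)) * (m : G)⁻¹ := by
            simp only [Subgroup.coe_mul, Subgroup.coe_inv]; group
        _ = (m : G) * ((c : G) * ((m : G)⁻¹ * e * m)) * (m : G)⁻¹ := by rw [hc _ h1]
        _ = ((m * c * m⁻¹ : N) : G) * e := by simp only [Subgroup.coe_mul, Subgroup.coe_inv]; group⟩
    have h1 : orderOf (QuotientGroup.mk' C ⟨g, hg⟩) = q := orderOf_eq_prime
      (by rw [← map_pow, QuotientGroup.mk'_apply, QuotientGroup.eq_one_iff]; exact hgq)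
      (by rw [QuotientGroup.mk'_apply, Ne, QuotientGroup.eq_one_iff]; exact hgc)
    exact hqπ (hhom E hEne hE q hq (h1 ▸ orderOf_dvd_natCard _ : q ∣ Nat.card (N ⧸ C)))
  have hHall : Nat.Coprime (Nat.card W) W.index := by
    refine Nat.coprime_of_dvd fun p hp hpW hpI => ?_
    haveI := Fact.mk hp
    obtain ⟨T⟩ : Nonempty (Sylow p G) := inferInstance
    obtain ⟨u, hu⟩ := hcov (T : Subgroup G)
      (Cfsg.Lib.PiHomogeneous.isPiSubgroup_of_isPGroup (hW p hp hpW) T.2)
    have hle : (T : Subgroup G).map (MulAut.conj u).toMonoidHom ≤ W := by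
      rintro _ ⟨t, ht, rfl⟩
      simpa using hu t ht
    have h1 := Subgroup.card_dvd_of_le hle
    rw [Cfsg.Lib.PiHomogeneous.card_cj] at h1
    obtain ⟨k, hk⟩ := h1
    apply T.not_dvd_index
    have h2 := (T : Subgroup G).card_mul_index
    rw [← W.card_mul_index, hk, mul_assoc] at h2
    rw [Nat.eq_of_mul_eq_mul_left Nat.card_pos h2]
    exact dvd_mul_of_dvd_right hpI k
  obtain ⟨K, hKn, hKW, hKi⟩ := Cfsg.Agent.S0877.result W hHall
    (fun x hx y hy hxy => by
      obtain ⟨c, hc⟩ := isConj_iff.mp hxy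
      obtain ⟨w, hw, hwx⟩ := Cfsg.Lib.PiHomogeneous.ctl_element π _ G W hhom' hcov hW x hx rfl c (hc ▸ hy)
      exact ⟨w, hw, hwx.trans hc⟩)
    (fun E p _ _ hdvd => by
      obtain ⟨u, hu⟩ := hcov E fun q hq hqd => hW q hq (hqd.trans hdvd)
      exact ⟨u, by rintro _ ⟨e, he, rfl⟩; simpa using hu e he⟩)
  have hcard : Nat.card K = W.index := by
    have h1 : K.IsComplement' W :=
      Subgroup.isComplement'_of_disjoint_and_mul_eq_univ (disjoint_iff.mpr hKi)
        (by rw [← Subgroup.normal_mul, hKW, Subgroup.coe_top])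
    exact h1.index_eq_card.symm
  refine ⟨K, fun x => ⟨fun hx p hp hpd hpπ => ?_, fun hx => ?_⟩⟩
  · haveI := Fact.mk hp
    have h1 : p ∣ W.index := hcard ▸ hpd.trans (K.orderOf_dvd_natCard hx)
    obtain ⟨T⟩ : Nonempty (Sylow p G) := inferInstance
    obtain ⟨u, hu⟩ := hcov (T : Subgroup G) (Cfsg.Lib.PiHomogeneous.isPiSubgroup_of_isPGroup hpπ T.2)
    have hle : (T : Subgroup G).map (MulAut.conj u).toMonoidHom ≤ W := by
      rintro _ ⟨t, ht, rfl⟩
      simpa using hu t ht
    have h2 := Subgroup.card_dvd_of_le hle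
    rw [Cfsg.Lib.PiHomogeneous.card_cj] at h2
    have h3 : p ∣ Nat.card G := hpd.trans (orderOf_dvd_natCard x)
    exact hp.ne_one (Nat.Coprime.eq_one_of_dvd
      (hHall.coprime_dvd_left ((T.dvd_card_of_dvd_card h3).trans h2)) h1)
  · by_contra hxK
    have hne : orderOf (QuotientGroup.mk' K x) ≠ 1 := fun h =>
      hxK ((QuotientGroup.eq_one_iff x).mp (orderOf_eq_one_iff.mp h))
    obtain ⟨p, hp, hpd⟩ := Nat.exists_prime_and_dvd hne
    have h1 : p ∣ Nat.card (G ⧸ K) := hpd.trans (orderOf_dvd_natCard _)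
    have h2 : Nat.card (G ⧸ K) = Nat.card W := by
      have e1 := K.card_mul_index
      rw [hcard, ← W.card_mul_index, mul_comm (Nat.card W)] at e1
      exact Nat.eq_of_mul_eq_mul_left (Nat.pos_of_ne_zero Subgroup.FiniteIndex.index_ne_zero) e1
    exact hx p hp (hpd.trans (orderOf_map_dvd _ x)) (hW p hp (h2 ▸ h1))

end Cfsg.Agent.S4052
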