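import Cfsg.Statements.S4056
import Cfsg.Agent.Elementary.Basics
import Cfsg.Agent.PGroups.Commutators

set_option autoImplicit false
open Cfsg
open scoped commutatorElement

namespace Cfsg.Agent.S4056

/-- In a finite 2-group of nilpotency class at most 2 and exponent dividing 4, the Frattini subgroup lies in the centre and is elementary abelian. -/
theorem result {P : Type*} [Group P] [Finite P] (hP : IsPGroup 2 P)
    (hcl : Group.nilpotencyClass P ≤ 2) (hexp : Monoid.exponent P ∣ 4) :
    frattini P ≤ Subgroup.center P ∧ Cfsg.IsElementaryAbelian 2 (frattini P) := by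
  haveI := hP.isNilpotent
  have hc : ⁅commutator P, (⊤ : Subgroup P)⁆ = ⊥ := by
    rw [← Subgroup.top_lowerCentralSeries_one, ← Subgroup.lowerCentralSeries_succ]
    exact Subgroup.lowerCentralSeries_eq_bot_iff_nilpotencyClass_le.mpr hcl
  have h4 : ∀ x : P, x ^ 4 = 1 := fun x =>
    orderOf_dvd_iff_pow_eq_one.mp ((Monoid.order_dvd_exponent x).trans hexp)
  have hcen := Cfsg.Lib.PGroups.commutator_mem_center_of_class_two hc
  have h2 : ∀ x y : P, ⁅y, x⁆ ^ 2 = 1 := fun x y => by
    have h := Cfsg.Lib.PGroups.mul_pow_of_central (hcen y x) 4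
    rw [h4, h4, h4, show (4 : ℕ).choose 2 = 4 + 2 from rfl, pow_add, h4, one_mul, one_mul, one_mul] at h
    exact h.symm
  have hsq : ∀ x : P, x ^ 2 ∈ Subgroup.center P := fun x => Subgroup.mem_center_iff.mpr fun y => by
    have h := Cfsg.Lib.PGroups.commutator_pow_left_of_commute
      (x := x) (y := y) (Subgroup.mem_center_iff.1 (hcen x y) x).symm 2
    rw [h2 y x, commutatorElement_eq_one_iff_mul_comm] at h
    exact h.symm
  let K : Subgroup P :=
    { carrier := {z | z ∈ Subgroup.center P ∧ z ^ 2 = 1}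
      one_mem' := ⟨one_mem _, one_pow 2⟩
      mul_mem' := fun {a b} ha hb => ⟨mul_mem ha.1 hb.1, by
        rw [(show Commute a b from (Subgroup.mem_center_iff.mp ha.1 b).symm).mul_pow, ha.2, hb.2,
          one_mul]⟩
      inv_mem' := fun {a} ha => ⟨inv_mem ha.1, by rw [inv_pow, ha.2, inv_one]⟩ }
  haveI : K.Normal := ⟨fun n hn g => by
    have he : g * n * g⁻¹ = n := by rw [Subgroup.mem_center_iff.mp hn.1 g, mul_inv_cancel_right]
    rw [he]; exact hn⟩
  have hle : frattini P ≤ K := Cfsg.Lib.Elementary.frattini_le_of_sq_mem fun x =>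
    ⟨hsq x, by rw [← pow_mul]; exact h4 x⟩
  refine ⟨hle.trans fun z hz => hz.1, ⟨⟨fun a b => Subtype.ext ?_⟩⟩, fun a ha => (hle ha).2⟩
  exact ((Subgroup.mem_center_iff.mp (hle a.2).1) b).symm

end Cfsg.Agent.S4056
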