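import Cfsg.Statements.S4057
import Cfsg.Agent.OddLocal.RankTwo
import Cfsg.Agent.PGroups.GenBound.Central
import Cfsg.Agent.PGroups.GenBound.Leading
-- import your own Cfsg.Agent.* helpers here

set_option autoImplicit false
open Cfsg

namespace Cfsg.Agent.S4057

open Subgroup in
theorem card_le_pow_of_generated {P : Type*} [Group P] [Finite P] {p : ℕ} [hp : Fact p.Prime] :
    ∀ S : Finset P, (∀ x ∈ S, ∀ y ∈ S, x * y = y * x) → (∀ x ∈ S, x ^ p = 1) →
      Nat.card (closure (S : Set P)) ≤ p ^ S.card := by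
  classical
  intro S
  induction S using Finset.induction_on with
  | empty => intro _ _; simp
  | insert a S ha ih =>
    intro hc he
    have hih := ih (fun x hx y hy => hc x (Finset.mem_insert_of_mem hx) y (Finset.mem_insert_of_mem hy))
      (fun x hx => he x (Finset.mem_insert_of_mem hx))
    rw [Finset.coe_insert, Set.insert_eq, Subgroup.closure_union, sup_comm, ← zpowers_eq_closure,
      Finset.card_insert_of_notMem ha, pow_succ]
    have hn : zpowers a ≤ normalizer ((closure (S : Set P) : Subgroup P) : Set P) := by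
      rw [zpowers_le]
      refine centralizer_le_normalizer _ ?_
      rw [centralizer_closure]
      exact fun x hx => hc x (Finset.mem_insert_of_mem hx) a (Finset.mem_insert_self a S)
    have h1 : Nat.card ↥(closure (S : Set P) ⊔ zpowers a) ≤
        Nat.card (↥(closure (S : Set P)) × ↥(zpowers a)) := by
      refine Nat.card_le_card_of_surjective (fun x => (⟨(x.1 : P) * (x.2 : P),
        mul_mem (mem_sup_left x.1.2) (mem_sup_right x.2.2)⟩ : ↥(closure (S : Set P) ⊔ zpowers a))) ?_
      rintro ⟨x, hx⟩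
      obtain ⟨y, hy, z, hz, rfl⟩ := (Cfsg.Lib.Coprime.mem_sup_of_le_normalizer hn).mp hx
      exact ⟨(⟨y, hy⟩, ⟨z, hz⟩), rfl⟩
    refine h1.trans ?_
    rw [Nat.card_prod, Nat.card_zpowers]
    exact Nat.mul_le_mul hih (Nat.le_of_dvd hp.out.pos (orderOf_dvd_of_pow_eq_one (he a (Finset.mem_insert_self a S))))

/-- Let p be an odd prime and P a finite p-group in which every normal abelian subgroup can be generated by k elements. Then every subgroup of P can be generated by at most ⌊k(k+4)/4⌋ elements. -/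
theorem result {P : Type*} [Group P] [Finite P] {p : ℕ} [Fact p.Prime]
    (hp : p ≠ 2) (hP : IsPGroup p P) (k : ℕ)
    (hab : ∀ A : Subgroup P, A.Normal → IsMulCommutative A → ∃ S : Finset P, S.card ≤ k ∧ Subgroup.closure (S : Set P) = A) :
    ∀ H : Subgroup P, ∃ S : Finset P, S.card ≤ k * (k + 4) / 4 ∧ Subgroup.closure (S : Set P) = H := by
  classical
  intro H
  obtain ⟨A, hAn, -, hA, hself⟩ :=
    Cfsg.Lib.OddP.exists_normal_elementary_ge hP hp ⊥ ⟨inferInstance, fun a ha => by
      rw [Subgroup.mem_bot.mp ha, one_pow]⟩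
  haveI := hAn
  obtain ⟨a, ha⟩ := IsPGroup.iff_card.mp (hP.to_subgroup A)
  have hak : a ≤ k := by
    obtain ⟨S, hS, hSA⟩ := hab A hAn hA.1
    have hmem : ∀ x ∈ S, x ∈ A := fun x hx => hSA.le (Subgroup.subset_closure hx)
    have h1 := card_le_pow_of_generated (p := p) S (fun x hx y hy =>
      congrArg Subtype.val (hA.1.is_comm.comm (⟨x, hmem x hx⟩ : A) ⟨y, hmem y hy⟩))
      (fun x hx => hA.2 x (hmem x hx))
    rw [hSA, ha] at h1
    exact ((Nat.pow_le_pow_iff_right (Fact.out : p.Prime).one_lt).mp h1).trans hS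
  obtain ⟨F, rfl, hFA⟩ := Cfsg.Lib.GenBound.exists_flag hP A hA.1 ha
  obtain ⟨T, hT, hTH, hTgen⟩ := F.exists_generators H
  set D : Subgroup P := H ⊓ Subgroup.centralizer (A : Set P) with hD
  obtain ⟨T₂, hT₂, hT₂c⟩ := Cfsg.Lib.GenBound.exists_generators hp _ D rfl (hP.to_subgroup D)
    (fun x hx => Subgroup.mem_center_iff.mpr fun y => Subtype.ext
      (y.2.2 (x : P) (hself _ x.2.2 (congrArg Subtype.val hx))).symm) F.a (by
      refine le_trans ?_ ha.le
      exact Nat.card_le_card_of_injective
        (fun x : {x : D // x ^ p = 1} => (⟨((x : D) : P), hself _ (x : D).2.2 (congrArg Subtype.val x.2)⟩ : A))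
        fun x y h => Subtype.ext (Subtype.ext (congrArg (fun z : A => (z : P)) h)))
  refine ⟨T ∪ T₂.image Subtype.val, ?_, le_antisymm ?_ ?_⟩
  · rw [Nat.le_div_iff_mul_le (by norm_num)]
    have h1 := Finset.card_union_le T (T₂.image Subtype.val)
    have h2 := Finset.card_image_le (f := (Subtype.val : D → P)) (s := T₂)
    have h3 : F.a * F.a ≤ k * k := Nat.mul_le_mul hak hak
    nlinarith
  · rw [Subgroup.closure_le]
    intro x hx
    rw [Finset.coe_union, Finset.coe_image] at hx
    rcases hx with hx | ⟨y, -, rfl⟩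
    · exact hTH hx
    · exact y.2.1
  · have h1 := hTgen D fun h hh hc => ⟨hh, fun v hv => ((hc v (hFA ▸ hv)).eq).symm⟩
    refine h1.trans ?_
    rw [Finset.coe_union, Subgroup.closure_union]
    refine sup_le_sup le_rfl ?_
    rw [Finset.coe_image, ← Subgroup.coe_subtype D, ← MonoidHom.map_closure, hT₂c, ← MonoidHom.range_eq_map,
      Subgroup.range_subtype]

end Cfsg.Agent.S4057
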