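import Cfsg.Statements.S4059
import Cfsg.Agent.Counting.Real

set_option autoImplicit false
open Cfsg

namespace Cfsg.Agent.S4059

/-- Let G be a finite group in which every element is conjugate to its inverse. Then: every non-identity element commuting with all elements of some Sylow 2-subgroup is an involution; the centre of G is an elementary abelian 2-group; the commutator quotient G/G' is an elementary abelian 2-group; and G is generated by its 2-elements. -/
theorem result {G : Type*} [Group G] [Finite G] (hamb : ∀ x : G, IsConj x x⁻¹) :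
    (∀ (S : Sylow 2 G) (x : G), x ∈ Subgroup.centralizer ((S : Subgroup G) : Set G) → x ≠ 1 → orderOf x = 2) ∧
    (∀ z : G, z ∈ Subgroup.center G → z ^ 2 = 1) ∧
    (∀ x : G, x ^ 2 ∈ commutator G) ∧
    Subgroup.closure {x : G | ∃ k : ℕ, orderOf x = 2 ^ k} = ⊤ := by
  have := Fact.mk Nat.prime_two
  refine ⟨fun S x hx hx1 => ?_, fun z hz => ?_, fun x => ?_, ?_⟩
  · refine orderOf_eq_prime (Cfsg.Lib.Real'.sq_eq_one_of_odd_index (hamb x)
      (Cfsg.Lib.Real'.odd_index_of_sylow_le (S := S) fun s hs => ?_)) hx1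
    exact Subgroup.mem_centralizer_singleton_iff.mpr (Subgroup.mem_centralizer_iff.mp hx s hs)
  · obtain ⟨c, hc⟩ := isConj_iff.mp (hamb z)
    have : c * z = z * c := Subgroup.mem_center_iff.mp hz c
    rw [this, mul_inv_cancel_right] at hc
    rw [sq]
    nth_rewrite 1 [hc]
    exact inv_mul_cancel z
  · obtain ⟨c, hc⟩ := isConj_iff.mp (hamb x)
    have h1 : c * x * c⁻¹ * x⁻¹ = (x ^ 2)⁻¹ := by rw [hc, sq, mul_inv_rev]
    have h2 : c * x * c⁻¹ * x⁻¹ ∈ commutator G :=
      Subgroup.commutator_mem_commutator (Subgroup.mem_top c) (Subgroup.mem_top x)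
    rw [h1] at h2
    exact inv_mem_iff.mp h2
  · set N := Subgroup.closure {x : G | ∃ k : ℕ, orderOf x = 2 ^ k}
    obtain ⟨S⟩ := (inferInstance : Nonempty (Sylow 2 G))
    have hSN : (S : Subgroup G) ≤ N := fun s hs => by
      obtain ⟨k, hk⟩ := IsPGroup.iff_orderOf.mp S.2 ⟨s, hs⟩
      rw [Subgroup.orderOf_mk] at hk
      exact Subgroup.subset_closure ⟨k, hk⟩
    have hN : N.Normal := ⟨fun n hn g => by
      refine Subgroup.closure_induction (p := fun y _ => g * y * g⁻¹ ∈ N) (fun y hy => ?_) ?_ ?_ ?_ hn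
      · obtain ⟨k, hk⟩ := hy
        exact Subgroup.subset_closure ⟨k, by
          rw [← hk]; exact orderOf_injective (MulAut.conj g).toMonoidHom (MulAut.conj g).injective y⟩
      · rw [mul_one, mul_inv_cancel]; exact N.one_mem
      · intro a b _ _ ha hb
        have := N.mul_mem ha hb
        rwa [show g * a * g⁻¹ * (g * b * g⁻¹) = g * (a * b) * g⁻¹ by group] at this
      · intro a _ ha
        have := N.inv_mem ha
        rwa [show (g * a * g⁻¹)⁻¹ = g * a⁻¹ * g⁻¹ by group] at this⟩
    rw [Subgroup.eq_top_iff']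
    intro x
    obtain ⟨c, hc⟩ := isConj_iff.mp (hamb x)
    obtain ⟨t, ⟨j, hj⟩, ht⟩ := Cfsg.Lib.Real'.exists_two_element_inverting hc
    have h2 : t * (x * t⁻¹ * x⁻¹) ∈ N :=
      N.mul_mem (Subgroup.subset_closure ⟨j, hj⟩)
        (hN.conj_mem _ (N.inv_mem (Subgroup.subset_closure ⟨j, hj⟩)) x)
    rw [← mul_assoc, ← mul_assoc, ht, ← mul_inv_rev, inv_mem_iff] at h2
    rw [← QuotientGroup.eq_one_iff, ← orderOf_eq_one_iff]
    refine Nat.eq_one_of_dvd_coprimes (k := orderOf (x : G ⧸ N))
      (Nat.coprime_two_left.mpr ?_) (orderOf_dvd_of_pow_eq_one ?_) (_root_.orderOf_dvd_natCard _)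
    · rw [← Subgroup.index_eq_card]
      exact Nat.not_even_iff_odd.mp fun he =>
        S.not_dvd_index (he.two_dvd.trans (Subgroup.index_dvd_of_le hSN))
    · rw [← QuotientGroup.mk_pow, QuotientGroup.eq_one_iff, sq]
      exact h2

end Cfsg.Agent.S4059
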