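import Cfsg.Statements.S4060
import Cfsg.Agent.Counting.Real
import Cfsg.Agent.Coprime.Hall

set_option autoImplicit false
open Cfsg

namespace Cfsg.Agent.S4060

/-- Let G be a finite solvable group with Sylow 2-subgroup S, and let x ≠ 1 be an element of odd order normalizing S. Then x is not conjugate to its inverse in G. -/
theorem result {G : Type*} [Group G] [Finite G] [Group.IsSolvable G]
    (S : Sylow 2 G) (x : G) (hx : x ≠ 1) (hodd : Odd (orderOf x))
    (hnorm : x ∈ Subgroup.normalizer ((S : Subgroup G) : Set G)) : ¬ IsConj x x⁻¹ := by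
  have := Fact.mk Nat.prime_two
  revert G
  suffices H : ∀ (n : ℕ), ∀ (G : Type u_1) [Group G] [Finite G] [Group.IsSolvable G],
      Nat.card G ≤ n → ∀ (S : Sylow 2 G) (x : G), x ≠ 1 → Odd (orderOf x) →
        x ∈ Subgroup.normalizer ((S : Subgroup G) : Set G) → ¬ IsConj x x⁻¹ by
    intro G _ _ _ S x hx ho hn
    exact H _ G le_rfl S x hx ho hn
  intro n
  induction n with
  | zero => intro G _ _ _ hG; exact absurd hG (by have := Nat.card_pos (α := G); omega)
  | succ n ih =>
    intro G _ _ _ hG S x hx ho hn hreal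
    have hnt : Nontrivial G := ⟨x, 1, hx⟩
    obtain ⟨N, -, hN, hNne, hmin⟩ :=
      Cfsg.Lib.Coprime.exists_minimal_normal (K := (⊤ : Subgroup G)) inferInstance top_ne_bot
    obtain ⟨-, q, hq, hNq, -⟩ := Cfsg.Lib.Coprime.minimal_normal_solvable (N := N)
      (inferInstance) hNne hmin
    have := Fact.mk hq
    obtain ⟨a, ha⟩ := IsPGroup.iff_card.mp hNq
    by_cases hxN : x ∈ N
    · have hq2 : q ≠ 2 := by
        rintro rfl
        have h1 : orderOf x ∣ 2 ^ a := ha ▸ Subgroup.orderOf_dvd_natCard N hxN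
        exact hx (orderOf_eq_one_iff.mp (Nat.eq_one_of_dvd_coprimes
          ((Nat.coprime_two_left.mpr ho).symm.pow_right a) dvd_rfl h1))
      have hdis : (S : Subgroup G) ⊓ N = ⊥ := by
        obtain ⟨b, hb⟩ := IsPGroup.iff_card.mp S.2
        refine Cfsg.Lib.Coprime.inf_eq_bot_of_coprime ?_
        rw [hb, ha]
        exact ((Nat.coprime_primes Nat.prime_two hq).mpr hq2.symm).pow b a
      refine hx (orderOf_eq_one_iff.mp (Nat.eq_one_of_dvd_coprimes (Nat.coprime_two_left.mpr ho)
        (orderOf_dvd_of_pow_eq_one (Cfsg.Lib.Real'.sq_eq_one_of_odd_index hreal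
          (Cfsg.Lib.Real'.odd_index_of_sylow_le (S := S) fun s hs => ?_))) dvd_rfl))
      have h1 : x * s * x⁻¹ * s⁻¹ ∈ (S : Subgroup G) ⊓ N := by
        refine ⟨Subgroup.mul_mem _ ((Subgroup.mem_normalizer_iff.mp hn s).mp hs)
          (Subgroup.inv_mem _ hs), ?_⟩
        rw [show x * s * x⁻¹ * s⁻¹ = x * (s * x⁻¹ * s⁻¹) by group]
        exact N.mul_mem hxN (hN.conj_mem _ (N.inv_mem hxN) s)
      rw [hdis, Subgroup.mem_bot, mul_inv_eq_one, mul_inv_eq_iff_eq_mul] at h1
      exact Subgroup.mem_centralizer_singleton_iff.mpr h1.symm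
    · refine ih (G ⧸ N) ?_ (S.mapSurjective (QuotientGroup.mk'_surjective N)) (x : G ⧸ N)
        (fun e => hxN ((QuotientGroup.eq_one_iff x).mp e))
        (ho.of_dvd_nat (orderOf_map_dvd (QuotientGroup.mk' N) x)) ?_
        ((QuotientGroup.mk' N).map_isConj hreal)
      · have := Cfsg.Lib.Coprime.card_quotient_lt hNne; omega
      · rw [Sylow.coe_mapSurjective]
        exact Subgroup.le_normalizer_map _ ⟨x, hn, rfl⟩

end Cfsg.Agent.S4060
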