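import Cfsg.Statements.S4061
import Mathlib
import Cfsg.Agent.Coprime.Fitting
import Cfsg.Agent.Coprime.SolvableBasics
import Cfsg.Agent.Coprime.Hall
import Cfsg.Agent.Frobenius.UniqueSubgroup

set_option autoImplicit false
open Cfsg

namespace Cfsg.Agent.S4061

set_option linter.style.haveILetI false
set_option linter.unusedSectionVars false

open Subgroup Cfsg.Lib.Coprime
open scoped commutatorElement

theorem real_odd_trivial {G : Type*} [Group G] {g x : G} (hg : Odd (orderOf g)) (hx : Odd (orderOf x))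
    (h : g * x * g⁻¹ = x⁻¹) : x = 1 := by
  have hc : Commute (g ^ 2) x := by
    show g ^ 2 * x = x * g ^ 2
    rw [← mul_inv_eq_iff_eq_mul, pow_two, show g * g * x * (g * g)⁻¹ = g * (g * x * g⁻¹) * g⁻¹ by group, h,
      show g * x⁻¹ * g⁻¹ = (g * x * g⁻¹)⁻¹ by group, h, inv_inv]
  obtain ⟨k, hk⟩ := hg
  have hg2 : g = (g ^ 2) ^ (k + 1) := by
    rw [← pow_mul, show 2 * (k + 1) = orderOf g + 1 by omega, pow_succ, pow_orderOf_eq_one, one_mul]
  have hc' : Commute g x := hg2 ▸ hc.pow_left (k + 1)
  rw [hc'.eq, mul_inv_cancel_right] at h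
  have h2 : x ^ 2 = 1 := by rw [pow_two]; nth_rewrite 1 [h]; exact inv_mul_cancel x
  rcases (Nat.dvd_prime Nat.prime_two).mp (orderOf_dvd_of_pow_eq_one h2) with h3 | h3
  · exact orderOf_eq_one_iff.mp h3
  · rw [h3] at hx
    exact absurd hx (by decide)

theorem odd_orderOf {G : Type*} [Group G] [Finite G] (h : Odd (Nat.card G)) (g : G) : Odd (orderOf g) :=
  Odd.of_dvd_nat h (_root_.orderOf_dvd_natCard g)

theorem unique_involution {Q : Type*} [Group Q] [Finite Q] [Group.IsSolvable Q]
    (hO : Cfsg.pPrimeCore 2 Q = ⊥) (hamb : ∀ x : Q, IsConj x x⁻¹)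
    (hone : ∀ s t : Q, orderOf s = 2 → orderOf t = 2 → IsConj s t) :
    ∀ s t : Q, orderOf s = 2 → orderOf t = 2 → s = t := by
  classical
  haveI := Fact.mk Nat.prime_two
  intro s t hs ht
  haveI : Nontrivial Q := ⟨⟨s, 1, fun h => by rw [h, orderOf_one] at hs; omega⟩⟩
  have hP := centralizer_pCore_le (G := Q) 2 hO
  set P := Cfsg.pCore 2 Q with hPdef
  have hP1 : P ≠ ⊥ := by
    rw [hPdef, ← fitting_eq_pCore 2 hO]; exact fitting_ne_bot
  haveI : P.Normal := Cfsg.Lib.Components.pCore_normal' 2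
  set Z := (center P).map P.subtype with hZ
  haveI : Z.Normal := inferInstance
  have hPp : IsPGroup 2 P := Cfsg.Lib.Components.isPGroup_pCore 2
  haveI : Nontrivial P := (nontrivial_iff_ne_bot P).mpr hP1
  haveI := hPp.center_nontrivial
  obtain ⟨k, hk, hkc⟩ := (hPp.to_subgroup (center P)).nontrivial_iff_card.mp inferInstance
  obtain ⟨z, hz⟩ := exists_prime_orderOf_dvd_card' (G := center P) 2
    (by rw [hkc]; exact dvd_pow_self 2 (by omega))
  have hallZ : ∀ u : Q, orderOf u = 2 → u ∈ Z := by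
    intro u hu
    have hzQ : orderOf (((z : P) : Q)) = 2 := by rw [Subgroup.orderOf_coe, Subgroup.orderOf_coe, hz]
    obtain ⟨g, rfl⟩ := isConj_iff.mp (hone _ _ hzQ hu)
    exact Subgroup.Normal.conj_mem inferInstance _ (mem_map_of_mem P.subtype z.2) g
  have hinv : ∀ u : Q, u ^ 2 = 1 ↔ u = 1 ∨ orderOf u = 2 := fun u => by
    constructor
    · intro h
      exact ((Nat.dvd_prime Nat.prime_two).mp (orderOf_dvd_of_pow_eq_one h)).imp orderOf_eq_one_iff.mp id
    · rintro (rfl | h)
      · exact one_pow 2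
      · rw [← h, pow_orderOf_eq_one]
  have hZcomm : ∀ a ∈ Z, ∀ b ∈ Z, a * b = b * a := by
    rintro _ ⟨a, ha, rfl⟩ _ ⟨b, hb, rfl⟩
    exact congrArg Subtype.val (mem_center_iff.mp hb a)
  have hsq : ∀ u : Q, u ^ 2 = 1 → u ∈ Z := fun u hu =>
    ((hinv u).mp hu).elim (fun h => h ▸ one_mem Z) (hallZ u)
  let N : Subgroup Q :=
    { carrier := {x | x ^ 2 = 1}
      one_mem' := one_pow 2
      mul_mem' := fun {x y} hx hy => by
        show (x * y) ^ 2 = 1
        rw [(show Commute x y from hZcomm x (hsq x hx) y (hsq y hy)).mul_pow, hx, hy, one_mul]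
      inv_mem' := fun {x} hx => by
        show x⁻¹ ^ 2 = 1
        rw [inv_pow, hx, inv_one] }
  have hNmem : ∀ x, x ∈ N ↔ x ^ 2 = 1 := fun x => Iff.rfl
  haveI hNn : N.Normal := ⟨fun x hx g => by
    rw [hNmem] at hx ⊢
    rw [conj_pow, hx, mul_one, mul_inv_cancel]⟩
  set C := centralizer (N : Set Q) with hC
  haveI : C.Normal := inferInstance
  by_cases hCtop : C = ⊤
  · obtain ⟨g, hg⟩ := isConj_iff.mp (hone s t hs ht)
    have h1 : g ∈ C := hCtop ▸ mem_top g
    have h2 := mem_centralizer_iff.mp h1 s ((hinv s).mpr (Or.inr hs))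
    rw [← h2, mul_inv_cancel_right] at hg
    exact hg
  exfalso
  haveI : Nontrivial (Q ⧸ C) := QuotientGroup.nontrivial_iff.mpr hCtop
  obtain ⟨r, hr, hr0⟩ : ∃ r : ℕ, r.Prime ∧ Cfsg.pCore r (Q ⧸ C) ≠ ⊥ := by
    by_contra h
    push Not at h
    refine fitting_ne_bot (G := Q ⧸ C) ?_
    rw [Cfsg.Lib.Components.fitting_eq_iSup_pCore, iSup_eq_bot]
    exact fun p => h p.1 p.2
  haveI := Fact.mk hr
  set T := Cfsg.pCore r (Q ⧸ C) with hT
  haveI : T.Normal := Cfsg.Lib.Components.pCore_normal' r
  set A := T.comap (QuotientGroup.mk' C) with hA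
  obtain ⟨R⟩ : Nonempty (Sylow r A) := inferInstance
  set R' := (R : Subgroup A).map A.subtype with hR'
  have hFrat : normalizer (R' : Set Q) ⊔ A = ⊤ := Sylow.normalizer_sup_eq_top R
  have hR'A : R' ≤ A := map_subtype_le _
  have hCA : C ≤ A := by
    intro x hx
    show QuotientGroup.mk' C x ∈ T
    rw [show QuotientGroup.mk' C x = 1 from (QuotientGroup.eq_one_iff x).mpr hx]
    exact one_mem T
  obtain ⟨j, hj⟩ := IsPGroup.iff_card.mp (Cfsg.Lib.Components.isPGroup_pCore (G := Q ⧸ C) r)
  have hcardA : Nat.card A = Nat.card C * r ^ j := by rw [hA, card_comap_mk', hT, hj]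
  -- the centraliser of `R'` in `N` is normal
  have hRC : ¬ R' ≤ C := by
    intro hle
    have h1 : (C.subgroupOf A).index = r ^ j := by
      have := (C.subgroupOf A).index_mul_card
      rw [Nat.card_congr (subgroupOfEquivOfLe hCA).toEquiv, hcardA, mul_comm (Nat.card C)] at this
      exact Nat.eq_of_mul_eq_mul_right Nat.card_pos this
    have h2 : r ^ j ∣ (R : Subgroup A).index := h1 ▸ index_dvd_of_le
      (fun a ha => mem_subgroupOf.mpr (hle (mem_map_of_mem A.subtype ha)))
    rcases Nat.eq_zero_or_pos j with h0 | h0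
    · exact hr0 (card_eq_one.mp (by rw [hj, h0, pow_zero]))
    · exact R.not_dvd_index ((dvd_pow_self r h0.ne').trans h2)
  set D := N ⊓ centralizer (R' : Set Q) with hD
  have hCD : C ≤ centralizer (D : Set Q) := centralizer_le (SetLike.coe_subset_coe.mpr inf_le_left)
  have hAD : A ≤ centralizer (D : Set Q) := by
    have h1 : R' ≤ centralizer (D : Set Q) := le_centralizer_iff.mp inf_le_right
    have h3 : (C.subgroupOf A) ⊔ (R : Subgroup A) = ⊤ := by
      have hi : ((C.subgroupOf A) ⊔ (R : Subgroup A)).index = 1 := by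
        refine Nat.eq_one_of_dvd_coprimes (a := r ^ j) (b := (R : Subgroup A).index) ?_ ?_
          (index_dvd_of_le le_sup_right)
        · exact Nat.Coprime.pow_left j (hr.coprime_iff_not_dvd.mpr R.not_dvd_index)
        · have := (C.subgroupOf A).index_mul_card
          rw [Nat.card_congr (subgroupOfEquivOfLe hCA).toEquiv, hcardA, mul_comm (Nat.card C)] at this
          exact (index_dvd_of_le le_sup_left).trans
            (dvd_of_eq (Nat.eq_of_mul_eq_mul_right Nat.card_pos this))
      exact index_eq_one.mp hi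
    have h4 : A = C ⊔ R' := by
      have := congrArg (Subgroup.map A.subtype) h3
      rw [Subgroup.map_sup, subgroupOf_map_subtype, inf_eq_left.mpr hCA, ← MonoidHom.range_eq_map,
        range_subtype] at this
      exact this.symm
    rw [h4]
    exact sup_le hCD h1
  haveI hDn : D.Normal := by
    rw [← normalizer_eq_top_iff, eq_top_iff, ← hFrat]
    refine sup_le (fun g hg => ?_) (hAD.trans (centralizer_le_normalizer _))
    refine conjMap_eq_self_iff.mp ?_
    show D.map (MulAut.conj g).toMonoidHom = D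
    apply eq_of_le_of_card_ge _ (card_map_of_injective (MulEquiv.injective _)).ge
    rintro _ ⟨x, ⟨hx1, hx2⟩, rfl⟩
    refine ⟨hNn.conj_mem x hx1 g, mem_centralizer_iff.mpr fun y hy => ?_⟩
    have h1 := mem_centralizer_iff.mp hx2 (g⁻¹ * y * g) ((mem_normalizer_iff''.mp hg y).mp hy)
    calc y * (g * x * g⁻¹) = g * (g⁻¹ * y * g * x) * g⁻¹ := by group
      _ = g * (x * (g⁻¹ * y * g)) * g⁻¹ := by rw [h1]
      _ = g * x * g⁻¹ * y := by group
  have hD0 : D = ⊥ := by
    rw [eq_bot_iff_forall]
    intro d hd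
    by_contra hd1
    apply hRC
    intro a ha
    refine mem_centralizer_iff.mpr fun u hu => ?_
    rcases (hinv u).mp hu with rfl | hu2
    · simp
    have hd2 : orderOf d = 2 := ((hinv d).mp hd.1).resolve_left hd1
    obtain ⟨g, rfl⟩ := isConj_iff.mp (hone d u hd2 hu2)
    exact (mem_centralizer_iff.mp ((hDn.conj_mem d hd g).2) a ha).symm
  have hR'p : IsPGroup r R' := R.2.map _
  by_cases hr2 : r = 2
  · -- a `2`-group has fixed points on `N`
    subst hr2
    have hNp : IsPGroup 2 N := fun x => ⟨1, Subtype.ext (by rw [pow_one]; exact x.2)⟩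
    let act : R' →* MulAut N := (MulAut.conjNormal (H := N)).comp R'.subtype
    letI : MulAction R' N := MulAction.compHom N act
    have hfix : ∀ x : N, x ∈ MulAction.fixedPoints R' N ↔ (x : Q) ∈ D := by
      intro x
      rw [MulAction.mem_fixedPoints]
      refine ⟨fun h => ⟨x.2, mem_centralizer_iff.mpr fun y hy => ?_⟩, fun h y => Subtype.ext ?_⟩
      · have h1 : y * (x : Q) * y⁻¹ = x := congrArg Subtype.val (h ⟨y, hy⟩)
        exact mul_inv_eq_iff_eq_mul.mp h1
      · show (y : Q) * (x : Q) * (y : Q)⁻¹ = x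
        rw [mem_centralizer_iff.mp h.2 y y.2, mul_inv_cancel_right]
    have h2N : 2 ∣ Nat.card N := by
      have := _root_.orderOf_dvd_natCard (⟨s, (hinv s).mpr (Or.inr hs)⟩ : N)
      rw [← Subgroup.orderOf_coe] at this
      exact (dvd_of_eq hs.symm).trans this
    obtain ⟨b, hb, hb1⟩ := hR'p.exists_fixed_point_of_prime_dvd_card_of_fixed_point N h2N
      (a := 1) ((hfix 1).mpr (one_mem D))
    have := (hfix b).mp hb
    rw [hD0, mem_bot] at this
    exact hb1 (Subtype.ext this).symm
  -- the normaliser has odd order, so the quotient has odd order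
  have hodd : Odd (Nat.card (normalizer (R' : Set Q))) := by
    rw [← Nat.not_even_iff_odd, even_iff_two_dvd]
    intro h2
    obtain ⟨⟨u, hu⟩, huo⟩ := exists_prime_orderOf_dvd_card' (G := normalizer (R' : Set Q)) 2 h2
    rw [Subgroup.orderOf_mk] at huo
    have huN : u ∈ N := (hinv u).mpr (Or.inr huo)
    have : u ∈ D := ⟨huN, mem_centralizer_iff.mpr fun y hy => ?_⟩
    · rw [hD0, mem_bot] at this
      rw [this, orderOf_one] at huo
      omega
    -- `[u, R'] ⊆ N ∩ R' = 1`
    have h1 : y * u * y⁻¹ * u⁻¹ ∈ R' := by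
      rw [show y * u * y⁻¹ * u⁻¹ = y * (u * y⁻¹ * u⁻¹) by group]
      exact mul_mem hy ((mem_normalizer_iff.mp hu _).mp (inv_mem hy))
    have h2 : y * u * y⁻¹ * u⁻¹ ∈ N := mul_mem (hNn.conj_mem u huN y) (inv_mem huN)
    have h3 : orderOf (y * u * y⁻¹ * u⁻¹) = 1 := by
      obtain ⟨i, hi⟩ := (IsPGroup.iff_orderOf.mp hR'p) ⟨_, h1⟩
      rw [Subgroup.orderOf_mk] at hi
      exact Nat.eq_one_of_dvd_coprimes ((Nat.coprime_primes hr Nat.prime_two).mpr hr2 |>.pow_left i)
        (dvd_of_eq hi) (orderOf_dvd_of_pow_eq_one h2)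
    rw [orderOf_eq_one_iff, mul_inv_eq_one] at h3
    exact mul_inv_eq_iff_eq_mul.mp h3
  have hLodd : Odd (Nat.card (Q ⧸ C)) := by
    haveI : A.Normal := Subgroup.Normal.comap inferInstance _
    have hsurj : Function.Surjective ((QuotientGroup.mk' A).comp (normalizer (R' : Set Q)).subtype) := by
      intro q
      obtain ⟨g, rfl⟩ := QuotientGroup.mk'_surjective A q
      obtain ⟨k, hk, a, ha, hka⟩ := (mem_sup_of_le_normalizer' (N := A) le_normalizer_of_normal).mp
        (show g ∈ A ⊔ normalizer (R' : Set Q) by rw [sup_comm, hFrat]; exact mem_top g)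
      refine ⟨⟨k, hk⟩, ?_⟩
      show QuotientGroup.mk' A k = QuotientGroup.mk' A g
      rw [← hka, map_mul, show QuotientGroup.mk' A a = 1 from (QuotientGroup.eq_one_iff a).mpr ha, mul_one]
    have h1 : Odd A.index := Odd.of_dvd_nat hodd (index_eq_card A ▸ card_dvd_of_surjective _ hsurj)
    have h2 : A.index = T.index := by rw [hA, index_comap_of_surjective _ (QuotientGroup.mk'_surjective C)]
    rw [← T.index_mul_card, hj]
    exact (h2 ▸ h1).mul ((hr.odd_of_ne_two hr2).pow)
  obtain ⟨x, hx⟩ := exists_ne (1 : Q ⧸ C)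
  obtain ⟨x, rfl⟩ := QuotientGroup.mk'_surjective C x
  obtain ⟨g, hg⟩ := isConj_iff.mp (hamb x)
  refine hx (real_odd_trivial (g := QuotientGroup.mk' C g) (odd_orderOf hLodd _) (odd_orderOf hLodd _) ?_)
  rw [← map_inv, ← map_mul, ← map_mul, hg, map_inv]


/-- Let G be a finite solvable group of even order in which every element is conjugate to its inverse and all involutions are conjugate. Then a Sylow 2-subgroup S of G has order 2 or is a generalized quaternion group (of order at least 8). Moreover, if S has order 2, then G is the semidirect product of its largest normal subgroup of odd order O(G) by S, O(G) equals the derived subgroup of G, and the involution of S inverts every element of O(G). -/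
theorem result {G : Type*} [Group G] [Finite G] [Group.IsSolvable G]
    (hamb : ∀ x : G, IsConj x x⁻¹) (heven : 2 ∣ Nat.card G) (hone : ∀ s t : G, orderOf s = 2 → orderOf t = 2 → IsConj s t) (S : Sylow 2 G) :
    (Nat.card S = 2 ∨ ∃ n : ℕ, Nonempty ((S : Subgroup G) ≃* QuaternionGroup (2 ^ (n + 1)))) ∧
    (Nat.card S = 2 → (S : Subgroup G).IsComplement' (Cfsg.oddCore G) ∧ Cfsg.oddCore G = commutator G ∧
        ∀ t : G, t ∈ S → t ≠ 1 → ∀ x : G, x ∈ Cfsg.oddCore G → t * x * t⁻¹ = x⁻¹) := by
  classical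
  haveI := Fact.mk Nat.prime_two
  set O := Cfsg.oddCore G with hOdef
  haveI : O.Normal := Cfsg.Lib.Components.pPrimeCore_normal' 2
  have hOodd : Odd (Nat.card O) := by
    have := Cfsg.Lib.Components.coprime_card_pPrimeCore (G := G) 2
    exact Nat.coprime_two_right.mp this
  set f := QuotientGroup.mk' O with hf
  have hsurj : Function.Surjective f := QuotientGroup.mk'_surjective O
  have hSO : ∀ x ∈ (S : Subgroup G), x ∈ O → x = 1 := fun x hx hxO => by
    obtain ⟨k, hk⟩ := IsPGroup.iff_orderOf.mp S.2 ⟨x, hx⟩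
    rw [Subgroup.orderOf_mk] at hk
    exact orderOf_eq_one_iff.mp (Nat.eq_one_of_dvd_coprimes
      ((Nat.coprime_two_left.mpr hOodd).pow_left k) (dvd_of_eq hk) (O.orderOf_dvd_natCard hxO))
  -- involutions of the quotient lift
  have hlift : ∀ s : G ⧸ O, orderOf s = 2 → ∃ y : G, orderOf y = 2 ∧ f y = s := by
    intro s hs
    obtain ⟨x, rfl⟩ := hsurj s
    have hx2 : x ^ 2 ∈ O := by
      rw [← QuotientGroup.eq_one_iff]
      show f (x ^ 2) = 1
      rw [map_pow, ← hs, pow_orderOf_eq_one]
    have him : f (x ^ Nat.card O) = f x := by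
      rw [map_pow, ← pow_mod_orderOf, hs, Nat.odd_iff.mp hOodd, pow_one]
    refine ⟨x ^ Nat.card O, orderOf_eq_prime ?_ (fun h => ?_), him⟩
    · rw [← pow_mul, mul_comm, pow_mul]
      exact congrArg Subtype.val (pow_card_eq_one' (x := (⟨x ^ 2, hx2⟩ : O)))
    · rw [← him, h, map_one, orderOf_one] at hs
      omega
  haveI : Group.IsSolvable (G ⧸ O) := Group.isSolvable_of_surjective hsurj
  have huniq := unique_involution (Q := G ⧸ O) Cfsg.Lib.Coprime.pPrimeCore_quotient_eq_bot
    (fun x => by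
      obtain ⟨x, rfl⟩ := hsurj x
      rw [← map_inv]
      exact MonoidHom.map_isConj f (hamb x))
    (fun s t hs ht => by
      obtain ⟨a, ha, rfl⟩ := hlift s hs
      obtain ⟨b, hb, rfl⟩ := hlift t ht
      exact MonoidHom.map_isConj f (hone a b ha hb))
  have hSu : ∀ x y : S, orderOf x = 2 → orderOf y = 2 → x = y := by
    intro x y hx hy
    have hord : ∀ u : S, orderOf u = 2 → orderOf (f u) = 2 := fun u hu => by
      refine orderOf_eq_prime (by rw [← map_pow, ← Subgroup.coe_pow, show u ^ 2 = 1 from (congrArg (u ^ ·) hu.symm).trans (pow_orderOf_eq_one u)]; simp)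
        (fun h => ?_)
      have := hSO u u.2 ((QuotientGroup.eq_one_iff _).mp h)
      rw [← Subgroup.orderOf_coe, this, orderOf_one] at hu
      omega
    have h := hSO _ (mul_mem (inv_mem x.2) y.2) (QuotientGroup.eq.mp (huniq _ _ (hord x hx) (hord y hy)))
    exact Subtype.ext (inv_mul_eq_one.mp h)
  have h2S : 2 ∣ Nat.card S := S.dvd_card_of_dvd_card heven
  -- the cyclic case
  have hcyc : IsCyclic S → Nat.card S = 2 := by
    intro hc
    have hmin : (Nat.card G).minFac = 2 := (Nat.minFac_eq_two_iff _).mpr heven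
    have hcompl := hc.isComplement' hmin
    set K := (MonoidHom.transferSylow S (hc.normalizer_le_centralizer hmin)).ker with hK
    obtain ⟨s, hs⟩ := IsCyclic.exists_ofOrder_eq_natCard (α := S)
    obtain ⟨g, hg⟩ := isConj_iff.mp (hamb (s : G))
    have h1 : QuotientGroup.mk' K (s : G) ^ 2 = 1 := by
      have h := congrArg (QuotientGroup.mk' K) hg
      rw [map_mul, map_mul, map_inv, map_inv] at h
      letI : CommGroup (G ⧸ K) :=
        { (inferInstance : Group (G ⧸ K)) with
          mul_comm := fun a b => by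
            apply (IsComplement'.QuotientMulEquiv hcompl.symm).injective
            rw [map_mul, map_mul]
            exact (IsCyclic.commGroup (α := S)).mul_comm _ _ }
      rw [mul_comm (QuotientGroup.mk' K g), mul_inv_cancel_right] at h
      rw [pow_two]; nth_rewrite 1 [h]; exact inv_mul_cancel _
    rw [← map_pow] at h1
    have h2 : (s : G) ^ 2 = 1 := disjoint_def.mp hcompl.disjoint ((QuotientGroup.eq_one_iff _).mp h1)
      (pow_mem s.2 2)
    have h3 : orderOf (s : G) ∣ 2 := orderOf_dvd_of_pow_eq_one h2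
    rw [Subgroup.orderOf_coe, hs] at h3
    exact Nat.dvd_antisymm h3 h2S
  refine ⟨?_, fun hS2 => ?_⟩
  · by_cases hc : IsCyclic S
    · exact Or.inl (hcyc hc)
    rcases Cfsg.Lib.UniqueSub.isCyclic_or_quaternion S.2 (fun x y hx hy => hSu x y hx hy ▸ mem_zpowers x)
      with h | ⟨-, n, ⟨e⟩⟩
    · exact absurd h hc
    rcases Nat.eq_zero_or_pos n with h0 | h0
    · subst h0
      exact absurd (e.isCyclic.mpr (by rw [pow_zero]; exact QuaternionGroup.quaternionGroup_one_isCyclic)) hc
    · exact Or.inr ⟨n - 1, ⟨by rw [Nat.sub_add_cancel h0]; exact e⟩⟩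
  haveI : IsCyclic S := isCyclic_of_prime_card hS2
  have hmin : (Nat.card G).minFac = 2 := (Nat.minFac_eq_two_iff _).mpr heven
  have hcompl := ((inferInstance : IsCyclic S)).isComplement' hmin
  set K := (MonoidHom.transferSylow S (((inferInstance : IsCyclic S)).normalizer_le_centralizer hmin)).ker with hK
  have hKcard : Nat.card K * 2 = Nat.card G := by rw [← hS2]; exact hcompl.card_mul_card
  have hKO : K = O := by
    have hKle : K ≤ O := Cfsg.Lib.Components.le_pPrimeCore (by
      rw [Nat.coprime_two_right, ← Nat.not_even_iff_odd, even_iff_two_dvd]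
      intro h
      refine S.not_dvd_index ?_
      rw [show (S : Subgroup G).index = Nat.card K from hcompl.index_eq_card]
      exact h)
    refine eq_of_le_of_card_ge hKle ?_
    have h1 := card_subgroup_dvd_card O
    rw [← hKcard] at h1
    exact Nat.le_of_dvd Nat.card_pos ((Nat.coprime_two_right.mpr hOodd).dvd_of_dvd_mul_right h1)
  rw [hKO] at hcompl
  refine ⟨hcompl.symm, ?_⟩
  have ht' : ∀ t : G, t ∈ S → t ≠ 1 → ∀ x : G, x ∈ O → t * x * t⁻¹ = x⁻¹ := by
    intro t htS ht1
    have hto : orderOf t = 2 := by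
      refine ((Nat.dvd_prime Nat.prime_two).mp ?_).resolve_left (fun h => ht1 (orderOf_eq_one_iff.mp h))
      exact hS2 ▸ (S : Subgroup G).orderOf_dvd_natCard htS
    have ht2 : t * t = 1 := by rw [← pow_two, ← hto, pow_orderOf_eq_one]
    let φ : O →* O := (MulAut.conjNormal (H := O) t).toMonoidHom
    have hφ : MonoidHom.FixedPointFree φ := by
      rintro ⟨u, hu⟩ hfix
      have huc : t * u = u * t := mul_inv_eq_iff_eq_mul.mp (congrArg Subtype.val hfix)
      obtain ⟨g, hg⟩ := isConj_iff.mp (hamb (t * u))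
      have huo : Odd (orderOf u) := Odd.of_dvd_nat hOodd (O.orderOf_dvd_natCard hu)
      have hpow : (t * u) ^ orderOf u = t := by
        rw [(show Commute t u from huc).mul_pow, pow_orderOf_eq_one, mul_one]
        obtain ⟨k, hk⟩ := huo
        rw [hk, pow_succ, pow_mul, pow_two, ht2, one_pow, one_mul]
      have hgt : g * t * g⁻¹ = t := by
        conv_lhs => rw [← hpow, ← conj_pow, hg, inv_pow, hpow]
        exact inv_eq_of_mul_eq_one_right ht2
      have hgu : g * u * g⁻¹ = u⁻¹ := by
        have h1 : g * t * g⁻¹ * (g * u * g⁻¹) = u⁻¹ * t⁻¹ := by rw [← mul_inv_rev, ← hg]; group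
        rw [hgt, inv_eq_of_mul_eq_one_right ht2] at h1
        have h2 : u⁻¹ * t = t * u⁻¹ := ((show Commute t u from huc).inv_right.eq).symm
        exact mul_left_cancel (h1.trans h2)
      obtain ⟨⟨k, s⟩, hks⟩ := hcompl.2 g
      have hsu : (s : G) * u * (s : G)⁻¹ = u := by
        have hs2 : (s : G) = 1 ∨ (s : G) = t := by
          by_cases hs1 : (s : G) = 1
          · exact Or.inl hs1
          · refine Or.inr (congrArg Subtype.val (hSu s ⟨t, htS⟩ ?_ (by rw [Subgroup.orderOf_mk]; exact hto)))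
            exact ((Nat.dvd_prime Nat.prime_two).mp (by
              have := _root_.orderOf_dvd_natCard s; exact this.trans (dvd_of_eq hS2))).resolve_left
              fun h => hs1 (by rw [orderOf_eq_one_iff.mp h]; rfl)
        rcases hs2 with h | h
        · rw [h]; group
        · rw [h, huc, mul_inv_cancel_right]
      simp only at hks
      rw [← hks] at hgu
      have hku : (k : G) * u * (k : G)⁻¹ = u⁻¹ := by
        rw [← hgu, show (k : G) * s * u * ((k : G) * s)⁻¹ = k * ((s : G) * u * (s : G)⁻¹) * (k : G)⁻¹ by group,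
          hsu]
      exact Subtype.ext (real_odd_trivial (Odd.of_dvd_nat hOodd (O.orderOf_dvd_natCard k.2)) huo hku)
    have hinvol : Function.Involutive φ := fun u => Subtype.ext (by
      show t * (t * u * t⁻¹) * t⁻¹ = u
      rw [show t * (t * (u : G) * t⁻¹) * t⁻¹ = (t * t) * u * (t * t)⁻¹ by group, ht2]; group)
    intro x hx
    exact congrArg Subtype.val (congrFun (hφ.coe_eq_inv_of_involutive hinvol) ⟨x, hx⟩)
  refine ⟨le_antisymm ?_ ?_, ht'⟩
  · -- odd elements are commutators
    obtain ⟨⟨t, htS⟩, hto⟩ := exists_prime_orderOf_dvd_card' (G := S) 2 h2S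
    have ht1 : t ≠ 1 := fun h => by
      rw [Subgroup.orderOf_mk, h, orderOf_one] at hto; omega
    intro x hx
    have h1 : ⁅x, t⁆ = x * x := by
      rw [commutatorElement_def, show x * t * x⁻¹ * t⁻¹ = x * (t * x⁻¹ * t⁻¹) by group,
        ht' t htS ht1 x⁻¹ (inv_mem hx), inv_inv]
    have h2 : x * x ∈ commutator G := h1 ▸ commutator_mem_commutator (mem_top x) (mem_top t)
    obtain ⟨k, hk⟩ := Odd.of_dvd_nat hOodd (O.orderOf_dvd_natCard hx)
    have h3 : x = (x * x) ^ (k + 1) := by
      rw [← pow_two, ← pow_mul, show 2 * (k + 1) = orderOf x + 1 by omega, pow_succ, pow_orderOf_eq_one,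
        one_mul]
    rw [h3]; exact pow_mem h2 _
  · haveI : IsMulCommutative (G ⧸ O) := ⟨⟨fun a b => by
      apply (IsComplement'.QuotientMulEquiv hcompl.symm).injective
      rw [map_mul, map_mul]
      exact (IsCyclic.commGroup (α := S)).mul_comm _ _⟩⟩
    exact Subgroup.Normal.quotient_commutative_iff_commutator_le.mp inferInstance

end Cfsg.Agent.S4061
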