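import Cfsg.Statements.S4062
import Cfsg.Agent.Coprime.Hall

set_option autoImplicit false
open Cfsg

namespace Cfsg.Agent.S4062

universe u

def Q (G : Type u) [Group G] : Prop := ∀ x y : G, orderOf x = orderOf y → IsConj x y

theorem card_le_two {G : Type u} [Group G] [Finite G] (hQ : Q G) (hc : ∀ a b : G, a * b = b * a) :
    Nat.card G = 1 ∨ Nat.card G = 2 := by
  have heq : ∀ x y : G, orderOf x = orderOf y → x = y := by
    intro x y h
    obtain ⟨c, hc'⟩ := isConj_iff.1 (hQ x y h)
    rw [← hc', hc c x, mul_inv_cancel_right]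
  have hsq : ∀ x : G, x * x = 1 := fun x => by
    nth_rw 2 [heq x x⁻¹ (orderOf_inv x).symm]
    exact mul_inv_cancel x
  by_cases h : ∃ x : G, x ≠ 1
  · obtain ⟨x, hx⟩ := h
    refine Or.inr (Nat.card_eq_two_iff.2 ⟨1, x, hx.symm, Set.eq_univ_of_forall fun y => ?_⟩)
    rcases eq_or_ne y 1 with rfl | hy
    · exact Or.inl rfl
    · haveI : Fact (Nat.Prime 2) := ⟨Nat.prime_two⟩
      exact Or.inr (heq y x (((orderOf_eq_prime (by rw [pow_two]; exact hsq y) hy)).trans
        (orderOf_eq_prime (by rw [pow_two]; exact hsq x) hx).symm))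
  · push Not at h
    haveI : Subsingleton G := ⟨fun a b => (h a).trans (h b).symm⟩
    exact Or.inl (Nat.card_of_subsingleton (1 : G))

/-- the hypothesis passes to the quotient by an exponent `p` subgroup containing all elements of order `p` -/
theorem quot {G : Type u} [Group G] [Finite G] (hQ : Q G) (N : Subgroup G) [N.Normal] {p : ℕ} (hp : p.Prime)
    (hexp : ∀ n ∈ N, n ^ p = 1) (hall : ∀ x : G, orderOf x = p → x ∈ N) : Q (G ⧸ N) := by
  have key : ∀ a : G ⧸ N, ∃ x : G, QuotientGroup.mk' N x = a ∧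
      orderOf x = if p ∣ orderOf a then orderOf a * p else orderOf a := by
    intro a
    obtain ⟨x, hx⟩ := QuotientGroup.mk'_surjective N a
    set m := orderOf a with hm
    have hxm : x ^ m ∈ N := by
      rw [← QuotientGroup.eq_one_iff]
      show QuotientGroup.mk' N (x ^ m) = 1
      rw [map_pow, hx, pow_orderOf_eq_one]
    have hdvd : orderOf x ∣ m * p := orderOf_dvd_of_pow_eq_one (by rw [pow_mul]; exact hexp _ hxm)
    by_cases hpm : p ∣ m
    · refine ⟨x, hx, ?_⟩
      rw [if_pos hpm]
      have hmx : m ∣ orderOf x := by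
        rw [hm, ← hx]; exact orderOf_map_dvd _ x
      obtain ⟨k, hk⟩ := hmx
      rw [hk] at hdvd ⊢
      rcases (Nat.dvd_prime hp).1 (Nat.dvd_of_mul_dvd_mul_left (orderOf_pos a) hdvd) with h | h
      · exfalso
        rw [h, mul_one] at hk
        obtain ⟨j, hj⟩ := hpm
        have hyN : x ^ j ∈ N := hall _ (by
          rw [orderOf_pow, hk, hj, Nat.gcd_mul_left_left, Nat.mul_div_cancel]
          rcases Nat.eq_zero_or_pos j with hj0 | hj0
          · rw [hj0, mul_zero] at hj; exact absurd hj (orderOf_pos a).ne'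
          · exact hj0)
        have h1 : a ^ j = 1 := by
          rw [← hx, ← map_pow]; exact (QuotientGroup.eq_one_iff _).2 hyN
        have hm0 : 0 < m := orderOf_pos a
        have h2 : m ∣ j := orderOf_dvd_of_pow_eq_one h1
        have hj0 : 0 < j := Nat.pos_of_ne_zero fun e => by rw [e, mul_zero] at hj; omega
        have h3 := Nat.le_of_dvd hj0 h2
        have : 2 * j ≤ p * j := Nat.mul_le_mul_right j hp.two_le
        omega
      · rw [h]
    · obtain ⟨c, hc⟩ : ∃ c, p * c ≡ 1 [MOD m] := by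
        have hcop : Nat.gcd p m = 1 := (hp.coprime_iff_not_dvd.2 hpm)
        rcases Nat.lt_or_ge 1 m with h | h
        · obtain ⟨c, hc⟩ := Nat.exists_mul_mod_eq_one_of_coprime hcop h
          exact ⟨c, by rw [Nat.ModEq, hc.2, Nat.mod_eq_of_lt h]⟩
        · have : m = 1 := le_antisymm h (orderOf_pos a)
          exact ⟨0, by rw [this]; exact Nat.modEq_one⟩
      have hmap : QuotientGroup.mk' N (x ^ (p * c)) = a := by
        rw [map_pow, hx]
        exact (pow_eq_pow_iff_modEq.2 hc).trans (pow_one a)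
      refine ⟨x ^ (p * c), hmap, ?_⟩
      rw [if_neg hpm]
      refine Nat.dvd_antisymm (orderOf_dvd_of_pow_eq_one ?_) (by rw [hm, ← hmap]; exact orderOf_map_dvd _ _)
      rw [← pow_mul, show p * c * m = m * p * c by ring, pow_mul, pow_mul, hexp _ hxm, one_pow]
  intro a b hab
  obtain ⟨x, rfl, hx⟩ := key a
  obtain ⟨y, rfl, hy⟩ := key b
  refine MonoidHom.map_isConj (QuotientGroup.mk' N) (hQ x y ?_)
  rw [hx, hy, hab]

theorem class_bound {G : Type u} [Group G] [Finite G] (x : G) (C : Set G) (hC : ∀ y ∈ C, IsConj x y) :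
    Nat.card C * orderOf x ≤ Nat.card G := by
  have h1 : Nat.card C ≤ (Subgroup.centralizer ({x} : Set G)).index := by
    rw [Subgroup.index]
    refine Nat.card_le_card_of_injective
      (fun y : C => (QuotientGroup.mk (isConj_iff.1 (hC y y.2)).choose : G ⧸ Subgroup.centralizer ({x} : Set G))) ?_
    intro y z hyz
    dsimp only at hyz
    have hy := (isConj_iff.1 (hC y y.2)).choose_spec
    have hz := (isConj_iff.1 (hC z z.2)).choose_spec
    generalize (isConj_iff.1 (hC y y.2)).choose = c at hy hyz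
    generalize (isConj_iff.1 (hC z z.2)).choose = d at hz hyz
    have hm : c⁻¹ * d ∈ Subgroup.centralizer ({x} : Set G) := QuotientGroup.eq.1 hyz
    rw [Subgroup.mem_centralizer_singleton_iff] at hm
    refine Subtype.ext ?_
    rw [← hy, ← hz, show d * x * d⁻¹ = c * ((c⁻¹ * d) * x) * d⁻¹ by group, hm]
    group
  have h2 : Subgroup.zpowers x ≤ Subgroup.centralizer ({x} : Set G) := Subgroup.zpowers_le.2
    (Subgroup.mem_centralizer_singleton_iff.2 rfl)
  rw [← (Subgroup.centralizer ({x} : Set G)).index_mul_card, ← Nat.card_zpowers]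
  exact Nat.mul_le_mul h1 (Nat.card_le_card_of_injective _ (Subgroup.inclusion_injective h2))

theorem s3_facts : (∃ a b : Equiv.Perm (Fin 3), a * b ≠ b * a) ∧ Nat.card (Equiv.Perm (Fin 3)) = 6 ∧
    Nat.card {s : Equiv.Perm (Fin 3) // s ≠ 1 ∧ s ^ 2 = 1} = 3 ∧
    Nat.card {s : Equiv.Perm (Fin 3) // s ≠ 1 ∧ s ^ 3 = 1} = 2 := by
  refine ⟨⟨Equiv.swap 0 1, Equiv.swap 1 2, by decide⟩, ?_, ?_, ?_⟩
  · rw [Nat.card_eq_fintype_card]; decide
  · rw [Nat.card_eq_fintype_card]; decide
  · rw [Nat.card_eq_fintype_card]; decide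

theorem main : ∀ (n : ℕ) (G : Type u) [Group G] [Finite G], Nat.card G = n → Group.IsSolvable G → Q G →
    Nat.card G = 1 ∨ Nat.card G = 2 ∨ Nonempty (G ≃* Equiv.Perm (Fin 3)) := by
  intro n
  induction n using Nat.strong_induction_on with
  | _ n ih =>
  intro G _ _ hn hsol hQ
  rcases subsingleton_or_nontrivial G with _ | _
  · exact Or.inl (Nat.card_of_subsingleton (1 : G))
  by_cases hc : ∀ a b : G, a * b = b * a
  · exact (card_le_two hQ hc).imp_right Or.inl
  have htop : (⊤ : Subgroup G) ≠ ⊥ := top_ne_bot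
  obtain ⟨N, -, hNn, hNb, hmin⟩ := Cfsg.Lib.Coprime.exists_minimal_normal (inferInstance : (⊤ : Subgroup G).Normal) htop
  haveI := hNn
  obtain ⟨hNc, p, hp, hNp, hexp⟩ := Cfsg.Lib.Coprime.minimal_normal_solvable inferInstance hNb hmin
  haveI : Fact p.Prime := ⟨hp⟩
  obtain ⟨⟨n₀, hn₀⟩, hn₀1⟩ : ∃ m : N, m ≠ 1 := by
    haveI := (Subgroup.nontrivial_iff_ne_bot N).2 hNb
    exact exists_ne 1
  have hn₀1' : n₀ ≠ 1 := fun h => hn₀1 (Subtype.ext h)
  have ho : orderOf n₀ = p := orderOf_eq_prime (hexp _ hn₀) hn₀1'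
  have hall : ∀ x : G, orderOf x = p → x ∈ N := by
    intro x hx
    obtain ⟨c, hc'⟩ := isConj_iff.1 (hQ n₀ x (ho.trans hx.symm))
    rw [← hc']
    exact hNn.conj_mem _ hn₀ c
  have hq1 : 1 < Nat.card N := (Subgroup.one_lt_card_iff_ne_bot N).2 hNb
  have hmulc := Subgroup.card_eq_card_quotient_mul_card_subgroup N
  -- the class of an element of `N` has `|N| - 1` elements
  have hcl : (Nat.card N - 1) = (Subgroup.centralizer ({n₀} : Set G)).index ∧ N ≤ Subgroup.centralizer ({n₀} : Set G) := by
    refine ⟨?_, fun y hy => Subgroup.mem_centralizer_singleton_iff.2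
      (congrArg Subtype.val (hNc.is_comm.comm (⟨y, hy⟩ : N) ⟨n₀, hn₀⟩))⟩
    have h1 : Nat.card (MulAction.orbit (ConjAct G) n₀) = (Subgroup.centralizer ({n₀} : Set G)).index := by
      rw [Nat.card_coe_set_eq, ← MulAction.index_stabilizer]
      exact congrArg Subgroup.index (ConjAct.stabilizer_eq_centralizer n₀)
    rw [← h1]
    have h2 : MulAction.orbit (ConjAct G) n₀ = {y : G | y ∈ N ∧ y ≠ 1} := by
      ext y
      rw [ConjAct.mem_orbit_conjAct]
      constructor
      · intro hy
        obtain ⟨c, rfl⟩ := isConj_iff.1 hy.symm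
        refine ⟨hNn.conj_mem _ hn₀ c, fun e => hn₀1' ?_⟩
        simpa using e
      · intro hy
        exact hQ y n₀ ((orderOf_eq_prime (hexp _ hy.1) hy.2).trans ho.symm)
    rw [h2]
    haveI : Fintype G := Fintype.ofFinite G
    classical
    have h3 : Nat.card {y : G | y ∈ N ∧ y ≠ 1} = Nat.card {y : N // y ≠ 1} :=
      Nat.card_congr
        { toFun := fun y => ⟨⟨y.1, y.2.1⟩, fun e => y.2.2 (congrArg Subtype.val e)⟩
          invFun := fun y => ⟨y.1.1, y.1.2, fun e => y.2 (Subtype.ext e)⟩
          left_inv := fun _ => rfl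
          right_inv := fun _ => rfl }
    rw [h3, Nat.card_eq_fintype_card, Nat.card_eq_fintype_card, Fintype.card_subtype_compl,
      Fintype.card_subtype_eq]
  have hdvd : Nat.card N - 1 ∣ Nat.card (G ⧸ N) := by
    rw [hcl.1]
    have := Subgroup.index_dvd_of_le hcl.2
    rwa [Subgroup.index_eq_card N] at this
  have hlt : Nat.card (G ⧸ N) < n := by
    rw [← hn, hmulc]
    exact lt_mul_of_one_lt_right Nat.card_pos hq1
  rcases ih _ hlt (G ⧸ N) rfl inferInstance (quot hQ N hp hexp hall) with h | h | ⟨⟨e⟩⟩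
  · exfalso
    have hNt : N = ⊤ := Subgroup.index_eq_one.1 ((Subgroup.index_eq_card N).trans h)
    exact hc fun a b => congrArg Subtype.val (hNc.is_comm.comm (⟨a, hNt ▸ Subgroup.mem_top a⟩ : N) ⟨b, hNt ▸ Subgroup.mem_top b⟩)
  · rw [h] at hdvd hmulc
    have hle := Nat.le_of_dvd two_pos hdvd
    have hN3 : Nat.card N = 3 := by
      by_contra hne
      have hN2 : Nat.card N = 2 := by omega
      rw [hN2] at hmulc
      haveI : Fact (Nat.Prime 2) := ⟨Nat.prime_two⟩
      have : IsMulCommutative G := IsPGroup.isMulCommutative_of_card_eq_prime_sq (p := 2) (by rw [hmulc]; norm_num)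
      exact hc this.is_comm.comm
    rw [hN3] at hmulc
    haveI : Fact (Nat.Prime 2) := ⟨Nat.prime_two⟩
    obtain ⟨t, ht⟩ := exists_prime_orderOf_dvd_card' (G := G) 2 (by rw [hmulc]; norm_num)
    set H := Subgroup.zpowers t
    have hHc : Nat.card H = 2 := by rw [Nat.card_zpowers, ht]
    have hHi : Nat.card (G ⧸ H) = 3 := by
      have h1 := Subgroup.card_eq_card_quotient_mul_card_subgroup H
      rw [hHc, hmulc] at h1
      omega
    have hcore : H.normalCore = ⊥ := by
      rcases (Nat.dvd_prime Nat.prime_two).1 (hHc ▸ Subgroup.card_dvd_of_le (Subgroup.normalCore_le H)) with h1 | h1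
      · exact Subgroup.card_eq_one.1 h1
      exfalso
      have hHn : H.Normal := by
        rw [← Subgroup.eq_of_le_of_card_ge (Subgroup.normalCore_le H) (by rw [h1, hHc])]
        exact Subgroup.normalCore_normal H
      have hdis : Disjoint H N := by
        rw [disjoint_iff]
        refine Subgroup.inf_eq_bot_of_coprime ?_
        rw [hHc, hN3]; norm_num
      have hsup : H ⊔ N = ⊤ := by
        refine Subgroup.eq_top_of_card_eq _ (Nat.dvd_antisymm (Subgroup.card_subgroup_dvd_card _) ?_)
        rw [hmulc]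
        refine Nat.Coprime.mul_dvd_of_dvd_of_dvd (by norm_num) ?_ ?_
        · exact hHc ▸ Subgroup.card_dvd_of_le le_sup_left
        · exact hN3 ▸ Subgroup.card_dvd_of_le le_sup_right
      haveI hHcm : IsMulCommutative H := inferInstance
      refine hc fun a b => ?_
      have hmem : ∀ g : G, ∃ x ∈ H, ∃ y ∈ N, x * y = g := fun g =>
        Subgroup.mem_sup_of_normal_right.1 (hsup ▸ Subgroup.mem_top g)
      obtain ⟨x, hx, y, hy, rfl⟩ := hmem a
      obtain ⟨x', hx', y', hy', rfl⟩ := hmem b
      have c1 : ∀ u ∈ H, ∀ v ∈ N, u * v = v * u := fun u hu v hv =>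
        (Subgroup.commute_of_normal_of_disjoint H N hHn hNn hdis u v hu hv).eq
      have c2 : x * x' = x' * x := congrArg Subtype.val (hHcm.is_comm.comm (⟨x, hx⟩ : H) ⟨x', hx'⟩)
      have c3 : y * y' = y' * y := congrArg Subtype.val (hNc.is_comm.comm (⟨y, hy⟩ : N) ⟨y', hy'⟩)
      calc x * y * (x' * y') = x * (y * x') * y' := by group
        _ = x * (x' * y) * y' := by rw [c1 x' hx' y hy]
        _ = (x * x') * (y * y') := by group
        _ = (x' * x) * (y' * y) := by rw [c2, c3]
        _ = x' * (x * y') * y := by group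
        _ = x' * (y' * x) * y := by rw [c1 x hx y' hy']
        _ = x' * y' * (x * y) := by group
    haveI : Fintype (G ⧸ H) := Fintype.ofFinite _
    let f : G →* Equiv.Perm (Fin 3) := ((Fintype.equivFinOfCardEq ((Nat.card_eq_fintype_card).symm.trans hHi)).permCongrHom.toMonoidHom).comp
      (MulAction.toPermHom G (G ⧸ H))
    have hinj : Function.Injective f := by
      have h0 : Function.Injective (MulAction.toPermHom G (G ⧸ H)) := by
        rw [← MonoidHom.ker_eq_bot_iff, ← Subgroup.normalCore_eq_ker, hcore]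
      exact fun a b hab => h0 ((Fintype.equivFinOfCardEq ((Nat.card_eq_fintype_card).symm.trans hHi)).permCongrHom.injective hab)
    refine Or.inr (Or.inr ⟨MulEquiv.ofBijective f ((Nat.bijective_iff_injective_and_card f).2 ⟨hinj, ?_⟩)⟩)
    rw [hmulc, s3_facts.2.1]
  · exfalso
    obtain ⟨⟨a, b, hab⟩, h6, h32, h23⟩ := s3_facts
    rw [Nat.card_congr e.toEquiv, h6] at hdvd hmulc
    let π : G →* Equiv.Perm (Fin 3) := e.toMonoidHom.comp (QuotientGroup.mk' N)
    have hπs : Function.Surjective π := e.surjective.comp (QuotientGroup.mk'_surjective N)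
    have hπk : ∀ g, π g = 1 ↔ g ∈ N := fun g => by
      show e (QuotientGroup.mk' N g) = 1 ↔ _
      rw [map_eq_one_iff e e.injective]
      exact QuotientGroup.eq_one_iff g
    -- counting the lifts of elements of order `p`
    have count : ∀ k, Nat.card {s : Equiv.Perm (Fin 3) // s ≠ 1 ∧ s ^ p = 1} = k →
        k * Nat.card N * (p * p) ≤ 6 * Nat.card N ∨ k = 0 := by
      intro k hk
      set C : Set G := {x | π x ≠ 1 ∧ π x ^ p = 1}
      have hord : ∀ x ∈ C, orderOf x = p ^ (1 + 1) := by
        intro x hx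
        have hxN : x ^ p ∈ N := (hπk _).1 (by rw [map_pow]; exact hx.2)
        refine orderOf_eq_prime_pow ?_ ?_
        · rw [pow_one]
          intro hxp
          refine hx.1 ((hπk x).2 (hall x (orderOf_eq_prime hxp ?_)))
          rintro rfl; exact hx.1 (map_one π)
        · rw [pow_succ, pow_one, pow_mul]; exact hexp _ hxN
      have hCc : Nat.card C = k * Nat.card N := by
        obtain ⟨sec, hsec⟩ := hπs.hasRightInverse
        rw [← hk, ← Nat.card_prod]
        exact (Nat.card_congr
          { toFun := fun sn : {s : Equiv.Perm (Fin 3) // s ≠ 1 ∧ s ^ p = 1} × N => (⟨sec sn.1.1 * sn.2, by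
              show π _ ≠ 1 ∧ π _ ^ p = 1
              rw [map_mul, (hπk sn.2).2 sn.2.2, mul_one, hsec]
              exact sn.1.2⟩ : C)
            invFun := fun x => (⟨π x.1, x.2⟩, ⟨(sec (π x.1))⁻¹ * x.1, (hπk _).1 (by rw [map_mul, map_inv, hsec, inv_mul_cancel])⟩)
            left_inv := fun sn => by
              have h1 : π (sec sn.1.1 * sn.2) = sn.1.1 := by rw [map_mul, (hπk sn.2).2 sn.2.2, mul_one, hsec]
              refine Prod.ext (Subtype.ext h1) (Subtype.ext ?_)
              show (sec (π (sec sn.1.1 * sn.2)))⁻¹ * (sec sn.1.1 * sn.2) = sn.2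
              rw [h1, inv_mul_cancel_left]
            right_inv := fun x => Subtype.ext (mul_inv_cancel_left _ _) }).symm
      rcases isEmpty_or_nonempty C with hE | ⟨⟨x, hx⟩⟩
      · have h0 : Nat.card C = 0 := Nat.card_of_isEmpty
        rw [hCc] at h0
        exact Or.inr ((Nat.mul_eq_zero.1 h0).resolve_right (by omega))
      · refine Or.inl ?_
        have := class_bound x C fun y hy => hQ x y ((hord x hx).trans (hord y hy).symm)
        rwa [hCc, hord x hx, pow_succ, pow_one, hmulc] at this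
    have hle := Nat.le_of_dvd (by norm_num : 0 < 6) hdvd
    obtain ⟨j, hj⟩ := IsPGroup.iff_card.1 hNp
    have hj0 : j ≠ 0 := by rintro rfl; rw [pow_zero] at hj; omega
    have hpN : p ∣ Nat.card N := hj ▸ dvd_pow_self p hj0
    have hp7 : p ≤ 7 := le_trans (Nat.le_of_dvd Nat.card_pos hpN) (by omega)
    rcases eq_or_ne p 2 with rfl | hp2
    · rcases count 3 h32 with h | h <;> omega
    rcases eq_or_ne p 3 with rfl | hp3
    · rcases count 2 h23 with h | h <;> omega
    -- now the centraliser of `n₀` is normal with abelian quotient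
    have hN7 : Nat.card N = 7 := by
      have hcases : Nat.card N = 2 ∨ Nat.card N = 3 ∨ Nat.card N = 4 ∨ Nat.card N = 7 := by
        have : Nat.card N - 1 ∈ Nat.divisors 6 := Nat.mem_divisors.2 ⟨hdvd, by norm_num⟩
        rw [show Nat.divisors 6 = {1, 2, 3, 6} by decide] at this
        simp at this
        omega
      rcases hcases with h | h | h | h
      · rw [h] at hpN
        exact absurd ((Nat.prime_dvd_prime_iff_eq hp Nat.prime_two).1 hpN) hp2
      · rw [h] at hpN
        exact absurd ((Nat.prime_dvd_prime_iff_eq hp Nat.prime_three).1 hpN) hp3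
      · rw [h, show (4 : ℕ) = 2 ^ 2 from rfl] at hpN
        exact absurd ((Nat.prime_dvd_prime_iff_eq hp Nat.prime_two).1 (hp.dvd_of_dvd_pow hpN)) hp2
      · exact h
    haveI : IsCyclic N := by
      haveI : Fact (Nat.Prime 7) := ⟨by norm_num⟩
      exact isCyclic_of_prime_card hN7
    have hCN : Subgroup.centralizer ({n₀} : Set G) = N := by
      refine (Subgroup.eq_of_le_of_card_ge hcl.2 ?_).symm
      have h1 := (Subgroup.centralizer ({n₀} : Set G)).index_mul_card
      rw [← hcl.1, hN7, hmulc, hN7] at h1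
      omega
    obtain ⟨x, rfl⟩ := hπs a
    obtain ⟨y, rfl⟩ := hπs b
    refine hab ?_
    have hcomm : (x * y)⁻¹ * (y * x) ∈ N := by
      rw [← hCN, Subgroup.mem_centralizer_singleton_iff]
      have hact : ∀ g : G, ∃ i : ℤ, ∀ m ∈ N, g * m * g⁻¹ = m ^ i := by
        intro g
        obtain ⟨i, hi⟩ := MonoidHom.map_cyclic ((MulAut.conjNormal g : MulAut N).toMonoidHom)
        exact ⟨i, fun m hm => by simpa using congrArg Subtype.val (hi ⟨m, hm⟩)⟩
      obtain ⟨i, hi⟩ := hact x
      obtain ⟨l, hl⟩ := hact y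
      have e1 : x * y * n₀ * (x * y)⁻¹ = y * x * n₀ * (y * x)⁻¹ := by
        rw [show x * y * n₀ * (x * y)⁻¹ = x * (y * n₀ * y⁻¹) * x⁻¹ by group,
          show y * x * n₀ * (y * x)⁻¹ = y * (x * n₀ * x⁻¹) * y⁻¹ by group,
          hl _ hn₀, hi _ hn₀, hi _ (zpow_mem hn₀ l), hl _ (zpow_mem hn₀ i), ← zpow_mul, ← zpow_mul, mul_comm]
      calc (x * y)⁻¹ * (y * x) * n₀ = (x * y)⁻¹ * (y * x * n₀ * (y * x)⁻¹) * (y * x) := by group
        _ = n₀ * ((x * y)⁻¹ * (y * x)) := by rw [← e1]; group
    have := (hπk _).2 hcomm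
    rw [map_mul, map_inv, inv_mul_eq_one, map_mul, map_mul] at this
    exact this


/-- A finite solvable group in which any two elements of the same order are conjugate has order 1 or 2 or is isomorphic to the symmetric group of degree 3. -/
theorem result {G : Type*} [Group G] [Finite G] [Group.IsSolvable G]
    (h : ∀ x y : G, orderOf x = orderOf y → IsConj x y) :
    Nat.card G = 1 ∨ Nat.card G = 2 ∨ Nonempty (G ≃* Equiv.Perm (Fin 3)) := by
  exact main (Nat.card G) G rfl inferInstance h

end Cfsg.Agent.S4062
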