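import Cfsg.Statements.S4064
import Cfsg.Agent.TICentralizers.Frobenius
import Cfsg.Agent.TICentralizers.Simple
import Cfsg.Agent.InvolCalc.ElemCentPSL
-- import your own Cfsg.Agent.* helpers here

set_option autoImplicit false
open Cfsg

namespace Cfsg.Agent.S4064

/-- Let G be a finite group in which the centralizer of every element meets each of its conjugates by elements outside its normalizer trivially. Then G is nilpotent; or G is a Frobenius group with a complement that is cyclic or isomorphic to the direct product of a cyclic group of odd order and the quaternion group of order 8; or G is isomorphic to PSL₂(2ⁿ) for some n ≥ 2. -/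
theorem result {G : Type*} [Group G] [Finite G] (hTI : ∀ x : G, Cfsg.IsTISubset (Subgroup.centralizer ({x} : Set G) : Set G)) :
    Group.IsNilpotent G ∨
    (∃ H : Subgroup G, Cfsg.IsFrobeniusComplement H ∧
      (IsCyclic H ∨ ∃ m : ℕ, Odd m ∧ Nonempty (H ≃* Multiplicative (ZMod m) × QuaternionGroup 2))) ∨
    (∃ n : ℕ, 2 ≤ n ∧ Nonempty (G ≃* Matrix.ProjectiveSpecialLinearGroup (Fin 2) (GaloisField 2 n))) := by
  classical
  haveI : Fact (Nat.Prime 2) := ⟨Nat.prime_two⟩
  by_cases hnil : Group.IsNilpotent G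
  · exact Or.inl hnil
  refine Or.inr ?_
  have hT : Cfsg.Lib.TICent.Hyp G := hTI
  by_cases hab : ∃ A : Subgroup G, A.Normal ∧ (∀ a ∈ A, ∀ b ∈ A, a * b = b * a) ∧ A ≠ ⊥
  · obtain ⟨A, hA, hcomm, hne⟩ := hab
    obtain ⟨⟨a, ha⟩, ha1⟩ := Subgroup.ne_bot_iff_exists_ne_one.1 hne
    have ha1' : a ≠ 1 := fun e => ha1 (Subtype.ext e)
    exact Or.inl (Cfsg.Lib.TICent.frobenius_case hT hnil ha1'
      (Cfsg.Lib.TICent.nc_top_of_abelian_normal hT hA hcomm ha ha1'))
  · refine Or.inr ?_
    push Not at hab
    haveI : Nontrivial G := by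
      by_contra h
      rw [not_nontrivial_iff_subsingleton] at h
      exact hnil inferInstance
    have S : Cfsg.Lib.TICent.Setup G := ⟨hT, inferInstance, fun A hA h => hab A hA h⟩
    haveI := Cfsg.Lib.TICent.isSimple S
    obtain ⟨F, _, _, f, hf, hF, ⟨e⟩⟩ := Cfsg.Lib.TICent.simple_case S
    refine ⟨f, hf, ?_⟩
    haveI := Fintype.ofFinite (GaloisField 2 f)
    have hcard : Fintype.card F = Fintype.card (GaloisField 2 f) := by
      rw [hF, ← Nat.card_eq_fintype_card, GaloisField.card 2 f (by omega)]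
    haveI : CharP F 2 := ringChar.eq_iff.1 (FiniteField.even_card_iff_char_two.2 (Nat.mod_eq_zero_of_dvd
      (hF ▸ dvd_pow_self 2 (by omega))))
    obtain ⟨e1⟩ := Cfsg.Lib.ElemCent.psl_equiv (F := F)
    obtain ⟨e2⟩ := Cfsg.Lib.ElemCent.psl_equiv (F := GaloisField 2 f)
    let ρ := FiniteField.ringEquivOfCardEq (K := F) (K' := GaloisField 2 f) hcard
    let σ : Matrix.SpecialLinearGroup (Fin 2) F ≃* Matrix.SpecialLinearGroup (Fin 2) (GaloisField 2 f) :=
      { toFun := Matrix.SpecialLinearGroup.map ρ.toRingHom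
        invFun := Matrix.SpecialLinearGroup.map ρ.symm.toRingHom
        left_inv := fun g => by ext i j; simp
        right_inv := fun g => by ext i j; simp
        map_mul' := map_mul _ }
    exact ⟨(e.trans e1.symm).trans (σ.trans e2)⟩

end Cfsg.Agent.S4064
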