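import Cfsg.Statements.S4065
import Mathlib
import Cfsg.Prelude
import Cfsg.Agent.InvolCalc.ElemCentPSL

set_option autoImplicit false
open Cfsg

namespace Cfsg.Agent.S4065

theorem ca {F : Type*} [Field F] [CharP F 2] (A B C : Matrix.SpecialLinearGroup (Fin 2) F) (hA : A ≠ 1)
    (hB : Commute A B) (hC : Commute A C) : Commute B C := by
  set a := (A : Matrix (Fin 2) (Fin 2) F)
  set b := (B : Matrix (Fin 2) (Fin 2) F)
  set c := (C : Matrix (Fin 2) (Fin 2) F)
  have hb : a * b = b * a := congrArg Subtype.val hB.eq
  have hc : a * c = c * a := congrArg Subtype.val hC.eq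
  have hscal : ∀ d : Matrix (Fin 2) (Fin 2) F, a * d = d * a → ∃ u v : F, d = u • (1 : Matrix (Fin 2) (Fin 2) F) + v • a := by
    intro d hd
    have h00 := congrFun (congrFun hd 0) 0
    have h01 := congrFun (congrFun hd 0) 1
    have h10 := congrFun (congrFun hd 1) 0
    simp only [Matrix.mul_apply, Fin.sum_univ_two] at h00 h01 h10
    by_cases h1 : a 0 1 = 0
    · by_cases h2 : a 1 0 = 0
      · have hne : a 0 0 - a 1 1 ≠ 0 := by
          intro he
          rw [sub_eq_zero] at he
          have hdet := A.2
          rw [Matrix.det_fin_two] at hdet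
          change a 0 0 * a 1 1 - a 0 1 * a 1 0 = 1 at hdet
          rw [h1, zero_mul, sub_zero, ← he] at hdet
          have h3 : a 0 0 = 1 := by
            rcases mul_self_eq_one_iff.1 hdet with h | h
            · exact h
            · rw [h, CharTwo.neg_eq]
          refine hA (Subtype.ext ?_)
          ext i j
          fin_cases i <;> fin_cases j
          · exact h3
          · exact h1
          · exact h2
          · show a 1 1 = 1
            rw [← he]; exact h3
        have d01 : d 0 1 = 0 := by
          have : (a 0 0 - a 1 1) * d 0 1 = 0 := by rw [h1] at h01; linear_combination h01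
          exact (mul_eq_zero.1 this).resolve_left hne
        have d10 : d 1 0 = 0 := by
          have : (a 0 0 - a 1 1) * d 1 0 = 0 := by rw [h2] at h10; linear_combination -h10
          exact (mul_eq_zero.1 this).resolve_left hne
        refine ⟨d 0 0 - (d 0 0 - d 1 1) / (a 0 0 - a 1 1) * a 0 0, (d 0 0 - d 1 1) / (a 0 0 - a 1 1), ?_⟩
        ext i j
        fin_cases i <;> fin_cases j <;> simp [h1, h2, d01, d10]
        field_simp
        ring
      · refine ⟨d 0 0 - d 1 0 / a 1 0 * a 0 0, d 1 0 / a 1 0, ?_⟩
        have d01 : d 0 1 = 0 := by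
          rw [h1, zero_mul] at h00
          exact (mul_eq_zero.1 (show d 0 1 * a 1 0 = 0 by linear_combination -h00)).resolve_right h2
        ext i j
        fin_cases i <;> fin_cases j <;> simp [h1, h2, d01]
        field_simp
        linear_combination -h10
    · refine ⟨d 0 0 - d 0 1 / a 0 1 * a 0 0, d 0 1 / a 0 1, ?_⟩
      ext i j
      fin_cases i <;> fin_cases j <;> simp [h1]
      · field_simp
        linear_combination h00
      · field_simp
        linear_combination h01
  obtain ⟨u, v, hu⟩ := hscal b hb
  obtain ⟨u', v', hu'⟩ := hscal c hc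
  refine Subtype.ext ?_
  show b * c = c * b
  rw [hu, hu']
  simp only [add_mul, mul_add, smul_mul_assoc, mul_smul_comm, one_mul, mul_one, smul_smul, smul_add]
  rw [mul_comm u' u, mul_comm v' v, mul_comm u' v, mul_comm v' u]
  abel


/-- Let F be a finite field with 2ⁿ elements, n ≥ 2. In PSL₂(F) the centralizer of every element meets each of its conjugates by elements outside its normalizer trivially. -/
theorem result (n : ℕ) (hn : 2 ≤ n)
    (x : Matrix.ProjectiveSpecialLinearGroup (Fin 2) (GaloisField 2 n)) :
    Cfsg.IsTISubset (Subgroup.centralizer ({x} : Set (Matrix.ProjectiveSpecialLinearGroup (Fin 2) (GaloisField 2 n))) :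
      Set (Matrix.ProjectiveSpecialLinearGroup (Fin 2) (GaloisField 2 n))) := by
  intro g hg y hy hgy
  by_contra hy1
  refine hg ?_
  obtain ⟨e⟩ := Cfsg.Lib.ElemCent.psl_equiv (F := GaloisField 2 n)
  have hCA : ∀ a b c : Matrix.ProjectiveSpecialLinearGroup (Fin 2) (GaloisField 2 n), a ≠ 1 →
      Commute a b → Commute a c → Commute b c := by
    intro a b c ha hb hc
    have h := ca (F := GaloisField 2 n) (e.symm a) (e.symm b) (e.symm c)
      (fun h => ha (e.symm.injective (h.trans (map_one e.symm).symm))) (hb.map e.symm.toMonoidHom)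
      (hc.map e.symm.toMonoidHom)
    have h2 := h.map e.toMonoidHom
    simpa using h2
  by_cases hx : x = 1
  · rw [Subgroup.mem_normalizer_iff]
    intro h
    simp [hx, Subgroup.mem_centralizer_singleton_iff]
  have hcy : ∀ z : Matrix.ProjectiveSpecialLinearGroup (Fin 2) (GaloisField 2 n), Commute x z ↔ Commute y z := by
    have hxy : Commute x y := (Subgroup.mem_centralizer_singleton_iff.1 hy).symm
    exact fun z => ⟨fun h => hCA x y z hx hxy h, fun h => hCA y x z hy1 hxy.symm h⟩
  have hgy' : Commute x (g * y * g⁻¹) := (Subgroup.mem_centralizer_singleton_iff.1 hgy).symm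
  have hgy1 : g * y * g⁻¹ ≠ 1 := fun h => hy1 (by
    rw [mul_inv_eq_one] at h; exact mul_eq_left.1 h)
  have key : ∀ z, Commute x z ↔ Commute x (g * z * g⁻¹) := by
    intro z
    constructor
    · intro h
      refine hCA (g * y * g⁻¹) x (g * z * g⁻¹) hgy1 hgy'.symm ?_
      exact ((hcy z).1 h).map (MulAut.conj g).toMonoidHom
    · intro h
      refine (hcy z).2 ?_
      have h1 : Commute (g * y * g⁻¹) (g * z * g⁻¹) := hCA x _ _ hx hgy' h
      have h2 := h1.map (MulAut.conj g⁻¹).toMonoidHom
      simpa [mul_assoc] using h2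
  rw [Subgroup.mem_normalizer_iff]
  intro z
  rw [Subgroup.mem_centralizer_singleton_iff, Subgroup.mem_centralizer_singleton_iff]
  exact ⟨fun h => ((key z).1 h.symm).eq.symm, fun h => ((key z).2 h.symm).eq.symm⟩

end Cfsg.Agent.S4065
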