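import Cfsg.Statements.S4066
import Cfsg.Agent.Coprime.Basic

set_option autoImplicit false
open Cfsg

namespace Cfsg.Agent.S4066

/-- Let G be a finite group in which the centralizer of every element meets each of its conjugates by elements outside its normalizer trivially. Then any two distinct Sylow p-subgroups of G, for any prime p, intersect trivially. -/
theorem result {G : Type*} [Group G] [Finite G] (hTI : ∀ x : G, Cfsg.IsTISubset (Subgroup.centralizer ({x} : Set G) : Set G))
    {p : ℕ} [Fact p.Prime] (P Q : Sylow p G) (hPQ : P ≠ Q) : (P : Subgroup G) ⊓ (Q : Subgroup G) = ⊥ := by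
  have hp : p.Prime := Fact.out
  have hCN : ∀ a b : G, a ≠ 1 → a * b = b * a →
      Subgroup.centralizer ({a} : Set G) ≤
        Subgroup.normalizer (Subgroup.centralizer ({b} : Set G) : Set G) := by
    intro a b ha hab g hg
    by_contra hgn
    refine ha (hTI b g hgn a (Subgroup.mem_centralizer_singleton_iff.mpr hab) ?_)
    have : g * a * g⁻¹ = a := by
      rw [Subgroup.mem_centralizer_singleton_iff.mp hg, mul_inv_cancel_right]
    rw [this]
    exact Subgroup.mem_centralizer_singleton_iff.mpr hab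
  have hnorm : ∀ (R : Sylow p G) (z : G), z ≠ 1 → (∀ y ∈ (R : Subgroup G), y * z = z * y) →
      Subgroup.centralizer ({z} : Set G) ≤ Subgroup.normalizer ((R : Subgroup G) : Set G) := by
    intro R z hz hzc
    have hRC : (R : Subgroup G) ≤ Subgroup.centralizer ({z} : Set G) := fun y hy =>
      Subgroup.mem_centralizer_singleton_iff.mpr (hzc y hy)
    have hmem : ∀ g ∈ Subgroup.centralizer ({z} : Set G), ∀ y ∈ (R : Subgroup G),
        g * y * g⁻¹ ∈ (R : Subgroup G) := by
      intro g hg y hy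
      by_cases hy1 : y = 1
      · subst hy1; simp
      set S : Set G := {w | ∃ c ∈ Subgroup.centralizer ({z} : Set G), c * y * c⁻¹ = w}
      have hcomm : ∀ u ∈ S, ∀ v ∈ S, u * v = v * u := by
        rintro _ ⟨c, hc, rfl⟩ _ ⟨d, hd, rfl⟩
        have he : d⁻¹ * c ∈ Subgroup.centralizer ({z} : Set G) :=
          Subgroup.mul_mem _ (Subgroup.inv_mem _ hd) hc
        have h1 := (Subgroup.mem_normalizer_iff.mp (hCN z y hz (hzc y hy).symm he) y).mp
          (Subgroup.mem_centralizer_singleton_iff.mpr rfl)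
        have h2 := Subgroup.mem_centralizer_singleton_iff.mp h1
        have h3 : d * (d⁻¹ * c * y * (d⁻¹ * c)⁻¹ * y) * d⁻¹ =
            d * (y * (d⁻¹ * c * y * (d⁻¹ * c)⁻¹)) * d⁻¹ := by rw [h2]
        calc c * y * c⁻¹ * (d * y * d⁻¹) = d * (d⁻¹ * c * y * (d⁻¹ * c)⁻¹ * y) * d⁻¹ := by group
          _ = _ := h3
          _ = d * y * d⁻¹ * (c * y * c⁻¹) := by group
      have hK : IsMulCommutative (Subgroup.closure S) := Subgroup.isMulCommutative_closure hcomm
      have hKp : IsPGroup p (Subgroup.closure S) := by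
        rintro ⟨w, hw⟩
        refine Subgroup.closure_induction (p := fun w hw => ∃ k : ℕ, (⟨w, hw⟩ : Subgroup.closure S) ^ p ^ k = 1)
          (fun w hw => ?_) ⟨0, by simp⟩ ?_ ?_ hw
        · obtain ⟨c, hc, rfl⟩ := hw
          obtain ⟨k, hk⟩ := R.2 ⟨y, hy⟩
          refine ⟨k, Subtype.ext ?_⟩
          have hk' : y ^ p ^ k = 1 := congrArg Subtype.val hk
          simp [conj_pow, hk']
        · intro u v hu hv ⟨i, hi⟩ ⟨j, hj⟩
          refine ⟨i + j, ?_⟩
          have : (⟨u * v, Subgroup.mul_mem _ hu hv⟩ : Subgroup.closure S) = ⟨u, hu⟩ * ⟨v, hv⟩ := rfl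
          rw [this, Commute.mul_pow (mul_comm' _ _), pow_add, pow_mul, hi, one_pow, one_mul,
            mul_comm (p ^ i), pow_mul, hj, one_pow]
        · intro u hu ⟨i, hi⟩
          refine ⟨i, ?_⟩
          have : (⟨u⁻¹, Subgroup.inv_mem _ hu⟩ : Subgroup.closure S) = (⟨u, hu⟩)⁻¹ := rfl
          rw [this, inv_pow, hi, inv_one]
      have hRK : (R : Subgroup G) ≤ Subgroup.normalizer (Subgroup.closure S : Set G) := by
        intro r hr
        have hconj : ∀ r ∈ (R : Subgroup G), ∀ w ∈ Subgroup.closure S, r * w * r⁻¹ ∈ Subgroup.closure S := by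
          intro r hr w hw
          refine Subgroup.closure_induction (p := fun w _ => r * w * r⁻¹ ∈ Subgroup.closure S)
            (fun w hw => ?_) (by simp) ?_ ?_ hw
          · obtain ⟨c, hc, rfl⟩ := hw
            exact Subgroup.subset_closure ⟨r * c, Subgroup.mul_mem _ (hRC hr) hc, by group⟩
          · intro u v _ _ h1 h2
            have := Subgroup.mul_mem _ h1 h2
            rwa [show r * u * r⁻¹ * (r * v * r⁻¹) = r * (u * v) * r⁻¹ by group] at this
          · intro u _ h1
            have := Subgroup.inv_mem _ h1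
            rwa [show (r * u * r⁻¹)⁻¹ = r * u⁻¹ * r⁻¹ by group] at this
        refine Subgroup.mem_normalizer_iff.mpr fun w => ⟨hconj r hr w, fun h => ?_⟩
        have := hconj r⁻¹ (Subgroup.inv_mem _ hr) _ h
        rwa [show r⁻¹ * (r * w * r⁻¹) * r⁻¹⁻¹ = w by group] at this
      exact ((R.3 (IsPGroup.to_sup_of_normal_right' R.2 hKp hRK) le_sup_left) ▸
        (le_sup_right : Subgroup.closure S ≤ (R : Subgroup G) ⊔ Subgroup.closure S))
        (Subgroup.subset_closure ⟨g, hg, rfl⟩)
    intro g hg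
    refine Subgroup.mem_normalizer_iff.mpr fun w => ⟨hmem g hg w, fun h => ?_⟩
    have := hmem g⁻¹ (Subgroup.inv_mem _ hg) _ h
    rwa [show g⁻¹ * (g * w * g⁻¹) * g⁻¹⁻¹ = w by group] at this
  rw [Subgroup.eq_bot_iff_forall]
  rintro x ⟨hxP, hxQ⟩
  by_contra hx1
  apply hPQ
  obtain ⟨z, hz, hz1⟩ : ∃ z : (P : Subgroup G), z ∈ Subgroup.center _ ∧ z ≠ 1 := by
    have hnt : Nontrivial (P : Subgroup G) := ⟨⟨x, hxP⟩, 1, fun e => hx1 (congrArg Subtype.val e)⟩
    have := P.2.center_nontrivial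
    obtain ⟨w, hw⟩ := exists_ne (1 : Subgroup.center (P : Subgroup G))
    exact ⟨w, w.2, fun e => hw (Subtype.ext e)⟩
  obtain ⟨z', hz', hz'1⟩ : ∃ z : (Q : Subgroup G), z ∈ Subgroup.center _ ∧ z ≠ 1 := by
    have hnt : Nontrivial (Q : Subgroup G) := ⟨⟨x, hxQ⟩, 1, fun e => hx1 (congrArg Subtype.val e)⟩
    have := Q.2.center_nontrivial
    obtain ⟨w, hw⟩ := exists_ne (1 : Subgroup.center (Q : Subgroup G))
    exact ⟨w, w.2, fun e => hw (Subtype.ext e)⟩
  have hzc : ∀ y ∈ (P : Subgroup G), y * (z : G) = z * y := fun y hy =>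
    congrArg Subtype.val (Subgroup.mem_center_iff.mp hz ⟨y, hy⟩)
  have hzc' : ∀ y ∈ (Q : Subgroup G), y * (z' : G) = z' * y := fun y hy =>
    congrArg Subtype.val (Subgroup.mem_center_iff.mp hz' ⟨y, hy⟩)
  have hne : (z : G) ≠ 1 := fun e => hz1 (Subtype.ext e)
  have hne' : (z' : G) ≠ 1 := fun e => hz'1 (Subtype.ext e)
  -- the centraliser of a nontrivial element of P normalises P
  have hgen : ∀ w ∈ (P : Subgroup G), w ≠ 1 →
      Subgroup.centralizer ({w} : Set G) ≤ Subgroup.normalizer ((P : Subgroup G) : Set G) := by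
    intro w hw hw1 g hg
    have hgz := hCN w z hw1 (hzc w hw) hg
    refine Subgroup.mem_normalizer_iff.mpr ?_
    suffices h : Cfsg.Lib.Coprime.conjMap g (P : Subgroup G) = P from
      Subgroup.mem_normalizer_iff.mp (Cfsg.Lib.Coprime.conjMap_eq_self_iff.mp h)
    have hle : Cfsg.Lib.Coprime.conjMap g (P : Subgroup G) ≤ Subgroup.centralizer ({(z : G)} : Set G) := by
      intro u hu
      rw [Cfsg.Lib.Coprime.mem_conjMap] at hu
      have h1 := (Subgroup.mem_normalizer_iff.mp hgz _).mp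
        (Subgroup.mem_centralizer_singleton_iff.mpr (hzc _ hu))
      rwa [show g * (g⁻¹ * u * g) * g⁻¹ = u by group] at h1
    have hp2 : IsPGroup p (Cfsg.Lib.Coprime.conjMap g (P : Subgroup G)) := P.2.map _
    have h2 := P.3 (IsPGroup.to_sup_of_normal_right' hp2 P.2 (hle.trans (hnorm P z hne hzc))) le_sup_right
    exact Cfsg.Lib.Coprime.eq_of_le_of_card_eq (le_sup_left.trans h2.le)
      (Cfsg.Lib.Coprime.card_conjMap _ _)
  have hNP : ∀ u ∈ (Q : Subgroup G), u ∈ Subgroup.normalizer ((P : Subgroup G) : Set G) →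
      u ∈ (P : Subgroup G) := by
    intro u hu hun
    obtain ⟨k, hk⟩ := IsPGroup.iff_orderOf.mp Q.2 ⟨u, hu⟩
    rw [Subgroup.orderOf_mk] at hk
    exact ((IsPGroup.of_card (p := p) ((Nat.card_zpowers u).trans hk)).inf_normalizer_sylow P).le
      ⟨Subgroup.mem_zpowers u, hun⟩ |>.2
  have hz'P : (z' : G) ∈ (P : Subgroup G) := hNP _ z'.2
    (hgen x hxP hx1 (Subgroup.mem_centralizer_singleton_iff.mpr (hzc' x hxQ).symm))
  exact (Sylow.ext (Q.3 P.2 (fun u hu => hNP u hu
    (hgen _ hz'P hne' (Subgroup.mem_centralizer_singleton_iff.mpr (hzc' u hu))))))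

end Cfsg.Agent.S4066
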