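import Cfsg.Statements.S4067
import Mathlib
import Cfsg.Agent.Chars.Count
import Cfsg.Agent.Chars.PPowerDegrees
import Cfsg.Agent.Chars.Values
import Cfsg.Agent.PGroups.Commutators

set_option autoImplicit false
open Cfsg

namespace Cfsg.Agent.S4067


open Subgroup Cfsg.Lib.Chars Cfsg.Lib.PGroups
open scoped commutatorElement IsMulCommutative

universe u

variable {G : Type u} [Group G] [Finite G]

theorem orbits_le_classes :
    Nat.card (MulAction.orbitRel.Quotient (MulAut G) G) ≤ Nat.card (ConjClasses G) := by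
  refine Nat.card_le_card_of_surjective (fun c : ConjClasses G =>
    Quotient.liftOn c (fun g => (Quotient.mk (MulAction.orbitRel (MulAut G) G) g :
      MulAction.orbitRel.Quotient (MulAut G) G)) ?_) ?_
  · intro a b h
    obtain ⟨c, hc⟩ := isConj_iff.1 h
    exact Quotient.sound ⟨(MulAut.conj c)⁻¹, by rw [← hc]; simp [MulAut.smul_def, mul_assoc]⟩
  · intro x
    obtain ⟨g, rfl⟩ := Quotient.exists_rep x
    exact ⟨ConjClasses.mk g, rfl⟩

theorem index_centralizer_eq (y : G) :
    (centralizer ({y} : Set G)).index = (MulAction.orbit (ConjAct G) y).ncard := by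
  rw [← MulAction.index_stabilizer, ConjAct.stabilizer_eq_centralizer]
  rfl

/-- Class count from the degrees. -/
theorem classes_bound : (Nat.card G).minFac ^ 2 * Nat.card (ConjClasses G) ≤
    Nat.card G + ((Nat.card G).minFac ^ 2 - 1) * (commutator G).index := by
  classical
  set p := (Nat.card G).minFac
  set L := Finset.univ.filter fun χ : Cfsg.IrrCharacter G => deg (χ : G → ℂ) = 1 with hL
  have h1 : L.card ≤ (commutator G).index := by
    let toHom : L → (Abelianization G →* ℂˣ) := fun χ =>
      Abelianization.lift (exists_hom_of_deg_one (isCharacter_of_irr χ.1.2) (by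
        rw [irr_apply_one_eq_deg χ.1, (Finset.mem_filter.1 χ.2).2, Nat.cast_one])).choose
    have hinj : Function.Injective toHom := by
      intro χ ψ h
      have h' := Abelianization.lift.injective h
      apply Subtype.ext
      apply Subtype.ext
      have one : ∀ χ : L, ((χ : Cfsg.IrrCharacter G) : G → ℂ) 1 = 1 := fun χ => by
        rw [irr_apply_one_eq_deg χ.1, (Finset.mem_filter.1 χ.2).2, Nat.cast_one]
      rw [(exists_hom_of_deg_one (isCharacter_of_irr χ.1.2) (one χ)).choose_spec,
        (exists_hom_of_deg_one (isCharacter_of_irr ψ.1.2) (one ψ)).choose_spec, h']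
    have h2 := Nat.card_le_card_of_injective toHom hinj
    rwa [CommGroup.card_monoidHom_of_hasEnoughRootsOfUnity, Nat.card_eq_fintype_card, Fintype.card_coe] at h2
  have h3 := sum_deg_sq_nat (G := G)
  rw [← Finset.sum_filter_add_sum_filter_not Finset.univ
    (fun χ : Cfsg.IrrCharacter G => deg (χ : G → ℂ) = 1), ← hL] at h3
  set M := Finset.univ.filter fun χ : Cfsg.IrrCharacter G => ¬ deg (χ : G → ℂ) = 1 with hM
  have h4 : M.card * p ^ 2 ≤ ∑ χ ∈ M, deg (χ : G → ℂ) ^ 2 := by
    rw [← smul_eq_mul]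
    refine Finset.card_nsmul_le_sum _ _ _ fun χ hχ => Nat.pow_le_pow_left ?_ 2
    refine Nat.minFac_le_of_dvd ?_ (IsIrrCharacter.deg_dvd χ.2)
    have h5 : deg (χ : G → ℂ) ≠ 0 := fun h => by
      have := IsIrrCharacter.deg_dvd χ.2
      rw [h, Nat.zero_dvd] at this
      exact Nat.card_pos.ne' this
    have h6 := (Finset.mem_filter.1 hχ).2
    omega
  have h5 : ∑ χ ∈ L, deg (χ : G → ℂ) ^ 2 = L.card := by
    rw [Finset.card_eq_sum_ones]
    exact Finset.sum_congr rfl fun χ hχ => by rw [(Finset.mem_filter.1 hχ).2, one_pow]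
  have h7 : L.card + M.card = Nat.card (ConjClasses G) := by
    rw [hL, hM, Finset.card_filter_add_card_filter_not, Finset.card_univ, ← Nat.card_eq_fintype_card,
      card_irrCharacter]
  rw [← h7]
  obtain ⟨q, hq⟩ : ∃ q, p ^ 2 = q + 1 :=
    ⟨p ^ 2 - 1, (Nat.sub_add_cancel (Nat.one_le_pow _ _ (Nat.minFac_pos _))).symm⟩
  rw [hq] at h4 ⊢
  rw [show q + 1 - 1 = q from rfl]
  calc (q + 1) * (L.card + M.card) = L.card + M.card * (q + 1) + q * L.card := by ring
    _ ≤ _ := by
      have := Nat.mul_le_mul_left q h1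
      omega

/-- The automorphism fixing `H` and sending `x` to `x * s`. -/
theorem exists_aut {p : ℕ} (hp : p.Prime) (H : Subgroup G) [H.Normal] (hidx : H.index = p) (x s : G)
    (hx : x ∉ H) (hs : s ∈ centralizer (H : Set G)) (hpow : (x * s) ^ p = x ^ p) :
    ∃ φ : G → G, (∀ a b, φ (a * b) = φ a * φ b) ∧ ∀ i : ℕ, ∀ h ∈ H, φ (x ^ i * h) = (x * s) ^ i * h := by
  classical
  haveI := Fact.mk hp
  set π := QuotientGroup.mk' H with hπ
  have hord : orderOf (π x) = p := by
    refine orderOf_eq_prime ?_ (fun h => hx ((QuotientGroup.eq_one_iff x).1 h))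
    rw [← map_pow]
    exact (QuotientGroup.eq_one_iff _).2 (hidx ▸ H.pow_index_mem x)
  have hgen : ∀ g : G, ∃ i : ℕ, (x ^ i)⁻¹ * g ∈ H := by
    intro g
    have hc : Nat.card (G ⧸ H) = p := hidx
    obtain ⟨i, hi⟩ := (Submonoid.mem_powers_iff _ _).1
      (mem_powers_of_prime_card hc (g := π x) (g' := π g) (fun h => hx ((QuotientGroup.eq_one_iff x).1 h)))
    refine ⟨i, QuotientGroup.eq.1 ?_⟩
    rw [← map_pow] at hi
    exact hi
  have hwd : ∀ (i j : ℕ) (h k : G), h ∈ H → k ∈ H → x ^ i * h = x ^ j * k → (x * s) ^ i * h = (x * s) ^ j * k := by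
    intro i j h k hh hk e
    wlog hij : i ≤ j generalizing i j h k
    · exact (this j i k h hk hh e.symm (le_of_not_ge hij)).symm
    obtain ⟨d, rfl⟩ := Nat.exists_eq_add_of_le hij
    rw [pow_add, mul_assoc] at e
    have e' := mul_left_cancel e
    have hd : x ^ d ∈ H := by
      have : x ^ d = h * k⁻¹ := by rw [e']; group
      rw [this]; exact mul_mem hh (inv_mem hk)
    obtain ⟨m, rfl⟩ : p ∣ d :=
      hord ▸ orderOf_dvd_of_pow_eq_one (by rw [← map_pow]; exact (QuotientGroup.eq_one_iff _).2 hd)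
    rw [pow_add, mul_assoc, pow_mul, hpow, ← pow_mul, ← e']
  choose ix hix using hgen
  refine ⟨fun g => (x * s) ^ ix g * ((x ^ ix g)⁻¹ * g), fun a b => ?_, fun i h hh => hwd _ _ _ _ (hix _) hh (by group)⟩
  have hconj : ∀ (j : ℕ), ∀ h ∈ H, ((x * s) ^ j)⁻¹ * h * (x * s) ^ j = (x ^ j)⁻¹ * h * x ^ j := by
    intro j h hh
    set C := centralizer (H : Set G)
    have hq : QuotientGroup.mk' C ((x * s) ^ j) = QuotientGroup.mk' C (x ^ j) := by
      rw [map_pow, map_pow, map_mul, show QuotientGroup.mk' C s = 1 from (QuotientGroup.eq_one_iff s).2 hs, mul_one]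
    have hm : ((x * s) ^ j)⁻¹ * x ^ j ∈ C := QuotientGroup.eq.1 hq
    have hxh : (x ^ j)⁻¹ * h * x ^ j ∈ H := by simpa using ‹H.Normal›.conj_mem h hh (x ^ j)⁻¹
    have := mem_centralizer_iff.1 hm _ hxh
    calc ((x * s) ^ j)⁻¹ * h * (x * s) ^ j
        = (((x * s) ^ j)⁻¹ * x ^ j) * ((x ^ j)⁻¹ * h * x ^ j) * (((x * s) ^ j)⁻¹ * x ^ j)⁻¹ := by group
      _ = _ := by rw [← this, mul_inv_cancel_right]
  set h := (x ^ ix a)⁻¹ * a
  set k := (x ^ ix b)⁻¹ * b
  have hh : h ∈ H := hix a
  have e : a * b = x ^ (ix a + ix b) * ((x ^ ix b)⁻¹ * h * x ^ ix b * k) := by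
    simp only [h, k]; rw [pow_add]; group
  have hmem : (x ^ ix b)⁻¹ * h * x ^ ix b * k ∈ H :=
    mul_mem (by simpa using ‹H.Normal›.conj_mem h hh (x ^ ix b)⁻¹) (hix b)
  calc (x * s) ^ ix (a * b) * ((x ^ ix (a * b))⁻¹ * (a * b))
      = (x * s) ^ (ix a + ix b) * ((x ^ ix b)⁻¹ * h * x ^ ix b * k) :=
        hwd _ _ _ _ (hix _) hmem (by rw [← e]; group)
    _ = (x * s) ^ ix a * h * ((x * s) ^ ix b * k) := by rw [← hconj (ix b) h hh, pow_add]; group

set_option maxHeartbeats 1000000 in
/-- The case of a derived subgroup of the least prime order. -/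
theorem small_derived {p : ℕ} [hpf : Fact p.Prime] (hmin : ∀ q : ℕ, q.Prime → q ∣ Nat.card G → p ≤ q)
    (hG' : Nat.card (commutator G) = p) :
    Nat.card (MulAction.orbitRel.Quotient (MulAut G) G) * p ≤ Nat.card G := by
  classical
  have hp := hpf.out
  have hpG : p ∣ Nat.card G := hG' ▸ card_subgroup_dvd_card _
  set D := commutator G with hD
  set Z := center G with hZdef
  -- the derived subgroup is central
  have hDZ : D ≤ Z := by
    intro d hd
    refine mem_center_iff.2 fun g => ?_
    by_contra hne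
    have hd1 : d ≠ 1 := fun e => hne (by rw [e, mul_one, one_mul])
    set O := MulAction.orbit (ConjAct G) d
    have hO : O.ncard = (centralizer ({d} : Set G)).index := (index_centralizer_eq d).symm
    have hsub : O ⊆ (D : Set G) \ {1} := by
      rintro _ ⟨z, rfl⟩
      refine ⟨?_, fun e => hd1 ?_⟩
      · exact (inferInstance : D.Normal).conj_mem d hd _
      · have e' : ConjAct.ofConjAct z * d * (ConjAct.ofConjAct z)⁻¹ = 1 := e
        rwa [mul_inv_eq_one, mul_eq_left] at e'
    have hlt : O.ncard < p := by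
      have h1 := Set.ncard_le_ncard hsub (Set.toFinite _)
      rw [Set.ncard_diff_singleton_of_mem (one_mem D), show ((D : Set G)).ncard = p from hG'] at h1
      have := hp.two_le
      omega
    have h1 : (centralizer ({d} : Set G)).index ≠ 1 := by
      rw [index_eq_one.ne]
      intro e
      exact hne (mem_centralizer_singleton_iff.1 (e.ge (mem_top g)))
    obtain ⟨q, hq, hqd⟩ := Nat.exists_prime_and_dvd h1
    have h2 := hmin q hq (hqd.trans (index_dvd_card _))
    have h3 := Nat.le_of_dvd (Nat.pos_of_ne_zero index_ne_zero_of_finite) hqd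
    omega
  obtain ⟨c, hcD, hc⟩ : ∃ c ∈ D, c ≠ 1 := by
    by_contra hh
    push Not at hh
    have : D = ⊥ := (eq_bot_iff_forall _).2 hh
    rw [this, card_bot] at hG'
    exact hp.ne_one hG'.symm
  have hcom : ∀ a b : G, ⁅a, b⁆ ∈ D := fun a b => commutator_mem_commutator (mem_top a) (mem_top b)
  have hcen : ∀ a b : G, ⁅a, b⁆ ∈ center G := fun a b => hDZ (hcom a b)
  have hDp : ∀ d ∈ D, d ^ p = 1 := fun d hd => by
    simpa [hG'] using congrArg Subtype.val (pow_card_eq_one' (x := (⟨d, hd⟩ : D)))
  have hDgen : ∀ d ∈ D, d ≠ 1 → D = zpowers d := fun d hd hd1 => by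
    refine (eq_of_le_of_card_ge (zpowers_le.2 hd) ?_).symm
    rw [hG', Nat.card_zpowers, orderOf_eq_prime (hDp d hd) hd1]
  have hgp : ∀ g : G, g ^ p ∈ Z := fun g => mem_center_iff.2 fun h => by
    have h1 := commutator_pow_left_of_commute (x := g) (y := h) (mem_center_iff.1 (hcen g h) g).symm p
    rw [hDp _ (hcom g h), commutatorElement_eq_one_iff_mul_comm] at h1
    exact h1.symm
  have hnab : ∃ a b : G, ⁅a, b⁆ ≠ 1 := by
    by_contra hh
    push Not at hh
    have : D = ⊥ := by
      rw [hD, _root_.commutator_def, eq_bot_iff, Subgroup.commutator_le]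
      exact fun a _ b _ => mem_bot.2 (hh a b)
    rw [this, card_bot] at hG'
    exact hp.ne_one hG'.symm
  have hnZ : ∀ {g h : G}, ⁅g, h⁆ ≠ 1 → g ∉ Z := fun {g h} hne hg =>
    hne (commutatorElement_eq_one_iff_mul_comm.2 (mem_center_iff.1 hg h).symm)
  have hZidx : p * p ≤ Z.index := by
    have h1 : Z.index ≠ 1 := by
      rw [index_eq_one.ne]
      intro e
      obtain ⟨a, b, hab⟩ := hnab
      exact hnZ hab (e.ge (mem_top a))
    obtain ⟨q, hq, hqd⟩ := Nat.exists_prime_and_dvd h1
    obtain ⟨m, hm⟩ := hqd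
    rcases eq_or_ne m 1 with rfl | hm1
    · exfalso
      rw [mul_one] at hm
      haveI := Fact.mk hq
      haveI : IsCyclic (G ⧸ center G) := isCyclic_of_prime_card (p := q) hm
      haveI := isMulCommutative_of_isCyclic_quotient_center_self (G := G)
      obtain ⟨a, b, hab⟩ := hnab
      exact hab (commutatorElement_eq_one_iff_mul_comm.2 (mul_comm' a b))
    · obtain ⟨q', hq', hq'd⟩ := Nat.exists_prime_and_dvd hm1
      have h2 := hmin q hq ((Dvd.intro m hm.symm).trans (index_dvd_card _))
      have h3 := hmin q' hq' ((hq'd.trans (Dvd.intro_left q hm.symm)).trans (index_dvd_card _))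
      have h4 : 0 < m := by
        rcases Nat.eq_zero_or_pos m with rfl | h
        · rw [mul_zero] at hm; exact absurd hm index_ne_zero_of_finite
        · exact h
      rw [hm]
      exact Nat.mul_le_mul h2 (h3.trans (Nat.le_of_dvd h4 hq'd))
  -- the data for the automorphism
  obtain ⟨H, x, s, hZH, hHn, hHidx, hxH, hsH, hsC, hsD, hpow⟩ : ∃ (H : Subgroup G) (x s : G), Z ≤ H ∧ H.Normal ∧
      H.index = p ∧ x ∉ H ∧ s ∈ H ∧ s ∈ centralizer (H : Set G) ∧ s ∉ D ∧ (x * s) ^ p = x ^ p := by
    -- the centralizers of non-central elements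
    have hC : ∀ y : G, y ∉ Z → Z ≤ centralizer ({y} : Set G) ∧ (centralizer ({y} : Set G)).Normal ∧
        (centralizer ({y} : Set G)).index = p ∧ ∃ x, x ∉ centralizer ({y} : Set G) := by
      intro y hy
      have hZC : Z ≤ centralizer ({y} : Set G) := center_le_centralizer _
      have hn : (centralizer ({y} : Set G)).Normal := Subgroup.Normal.of_commutator_le G (hDZ.trans hZC)
      obtain ⟨g, hg⟩ : ∃ g, g ∉ centralizer ({y} : Set G) := by
        by_contra hh
        push Not at hh
        exact hy (mem_center_iff.2 fun g => mem_centralizer_singleton_iff.1 (hh g))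
      refine ⟨hZC, hn, ?_, g, hg⟩
      have hO := index_centralizer_eq y
      have hle : (MulAction.orbit (ConjAct G) y).ncard ≤ p := by
        refine (Set.ncard_le_ncard (t := (· * y) '' (D : Set G)) ?_ (Set.toFinite _)).trans ?_
        · rintro _ ⟨z, rfl⟩
          refine ⟨⁅ConjAct.ofConjAct z, y⁆, hcom _ _, ?_⟩
          simp [ConjAct.smul_def, commutatorElement_def]
        · exact (Set.ncard_image_le (Set.toFinite _)).trans hG'.le
      have h1 : (centralizer ({y} : Set G)).index ≠ 1 := by
        rw [index_eq_one.ne]; exact fun e => hg (e.ge (mem_top g))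
      obtain ⟨q, hq, hqd⟩ := Nat.exists_prime_and_dvd h1
      have h2 := hmin q hq (hqd.trans (index_dvd_card _))
      have h3 := Nat.le_of_dvd (Nat.pos_of_ne_zero index_ne_zero_of_finite) hqd
      omega
    obtain ⟨a, b, hab⟩ := hnab
    by_cases hw : ∃ w ∈ Z, w ^ p = 1 ∧ w ∉ D
    · obtain ⟨w, hwZ, hwp, hwD⟩ := hw
      obtain ⟨h1, h2, h3, g, hg⟩ := hC a (hnZ hab)
      refine ⟨_, g, w, h1, h2, h3, hg, h1 hwZ, center_le_centralizer _ hwZ, hwD, ?_⟩
      have : Commute g w := mem_center_iff.1 hwZ g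
      rw [this.mul_pow, hwp, mul_one]
    push Not at hw
    set Zp := (powMonoidHom p : center G →* center G).range.map (center G).subtype with hZp
    have hZpZ : Zp ≤ Z := map_subtype_le _
    haveI : Zp.Normal := ⟨fun a ha g => by rw [mem_center_iff.1 (hZpZ ha) g, mul_inv_cancel_right]; exact ha⟩
    set π := QuotientGroup.mk' Zp
    have hbound : Nat.card (Z.map π) ≤ p := by
      rw [← relIndex_ker, QuotientGroup.ker_mk']
      have h1 : Zp.relIndex Z = (powMonoidHom p : center G →* center G).range.index := by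
        rw [hZp, relIndex, subgroupOf, comap_map_eq_self_of_injective Z.subtype_injective]
      rw [h1, index_range]
      refine le_trans (Nat.card_le_card_of_injective
        (fun z => (⟨((z.1 : Z) : G), hw _ z.1.2 (by simpa using congrArg Subtype.val (MonoidHom.mem_ker.1 z.2))⟩ : D)) ?_) hG'.le
      intro z z' e
      exact Subtype.ext (Subtype.ext (congrArg (fun d : D => (d : G)) e))
    obtain ⟨y, hy, hyp⟩ : ∃ y, y ∉ Z ∧ y ^ p * c ^ p.choose 2 ∈ Zp := by
      by_cases hhom : ∀ d ∈ D, d ^ p.choose 2 ∈ Zp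
      · let f : G →* G ⧸ Zp :=
          { toFun := fun g => π (g ^ p)
            map_one' := by simp
            map_mul' := fun g h => by
              rw [mul_pow_of_central (hcen h g), map_mul, map_mul,
                show π (⁅h, g⁆ ^ p.choose 2) = 1 from (QuotientGroup.eq_one_iff _).2 (hhom _ (hcom h g)), mul_one] }
        by_contra hh
        push Not at hh
        have hker : f.ker ≤ Z := fun g hg => by
          by_contra hgZ
          refine hh g hgZ (mul_mem ((QuotientGroup.eq_one_iff _).1 hg) (hhom c hcD))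
        have h1 : f.ker.index ≤ p := by
          rw [index_ker]
          refine le_trans (Nat.le_of_dvd Nat.card_pos (card_dvd_of_le ?_)) hbound
          rintro _ ⟨g, rfl⟩
          exact ⟨g ^ p, hgp g, rfl⟩
        have h2 := Nat.le_of_dvd (Nat.pos_of_ne_zero index_ne_zero_of_finite) (index_dvd_of_le hker)
        have := Nat.mul_le_mul hp.two_le (le_refl p)
        have := hp.two_le
        omega
      push Not at hhom
      obtain ⟨d, hd, hdZp⟩ := hhom
      have hp2 : p = 2 := by
        by_contra h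
        obtain ⟨k, hk⟩ := dvd_choose_two hp h
        exact hdZp (by rw [hk, pow_mul, hDp d hd, one_pow]; exact one_mem _)
      have hd2 : ∀ e ∈ D, e ≠ 1 → e = d := by
        intro e he he1
        have hd1 : d ≠ 1 := fun h => hdZp (by rw [h, one_pow]; exact one_mem _)
        obtain ⟨i, rfl⟩ := mem_zpowers_iff.1 ((hDgen d hd hd1).le he)
        have h2 : d ^ (2 : ℤ) = 1 := by have h3 := hDp d hd; rw [hp2] at h3; exact_mod_cast h3
        rcases Int.even_or_odd' i with ⟨k, rfl | rfl⟩
        · exact absurd (by rw [zpow_mul, h2, one_zpow]) he1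
        · rw [zpow_add, zpow_mul, h2, one_zpow, one_mul, zpow_one]
      subst hp2
      rw [show Nat.choose 2 2 = 1 from rfl, pow_one] at hdZp ⊢
      have hcd : c = d := hd2 c hcD hc
      have two : ∀ u v : G, u ∈ Z → v ∈ Z → u ∉ Zp → v ∉ Zp → u * v ∈ Zp := by
        intro u v hu hv hu' hv'
        have hu1 : (⟨π u, mem_map_of_mem π hu⟩ : Z.map π) ≠ 1 := fun e =>
          hu' ((QuotientGroup.eq_one_iff u).1 (congrArg Subtype.val e))
        have hv1 : (⟨π v, mem_map_of_mem π hv⟩ : Z.map π) ≠ 1 := fun e =>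
          hv' ((QuotientGroup.eq_one_iff v).1 (congrArg Subtype.val e))
        by_contra huv
        have huv1 : (⟨π u, mem_map_of_mem π hu⟩ : Z.map π) * ⟨π v, mem_map_of_mem π hv⟩ ≠ 1 := fun e =>
          huv ((QuotientGroup.eq_one_iff (u * v)).1 (congrArg Subtype.val e))
        haveI := Fintype.ofFinite (Z.map π)
        have h3 : ({1, ⟨π u, mem_map_of_mem π hu⟩, ⟨π u, mem_map_of_mem π hu⟩ * ⟨π v, mem_map_of_mem π hv⟩} :
            Finset (Z.map π)).card = 3 := by
          rw [Finset.card_insert_of_notMem, Finset.card_pair]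
          · exact fun e => hv1 (left_eq_mul.1 e)
          · simp only [Finset.mem_insert, Finset.mem_singleton, not_or]
            exact ⟨hu1.symm, huv1.symm⟩
        have h4 := Finset.card_le_univ
          ({1, ⟨π u, mem_map_of_mem π hu⟩, ⟨π u, mem_map_of_mem π hu⟩ * ⟨π v, mem_map_of_mem π hv⟩} : Finset (Z.map π))
        rw [h3, ← Nat.card_eq_fintype_card] at h4
        omega
      have hba : ⁅b, a⁆ = d := hd2 _ (hcom b a) (fun e => hab (by rw [← commutatorElement_inv, e, inv_one]))
      have hnab' : ⁅a * b, a⁆ ≠ 1 := by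
        rw [commutator_mul_left_of_central (hcen b a), commutatorElement_self, one_mul, hba]
        exact fun e => hdZp (e ▸ one_mem _)
      have hbZ : b ∉ Z := hnZ (h := a) (by rw [hba]; exact fun e => hdZp (e ▸ one_mem _))
      rw [hcd]
      by_cases h1 : a ^ 2 ∈ Zp
      swap
      · exact ⟨a, hnZ hab, two _ _ (hgp a) (hDZ hd) h1 hdZp⟩
      by_cases h2 : b ^ 2 ∈ Zp
      swap
      · exact ⟨b, hbZ, two _ _ (hgp b) (hDZ hd) h2 hdZp⟩
      refine ⟨a * b, hnZ hnab', two _ _ (hgp _) (hDZ hd) (fun h3 => hdZp ?_) hdZp⟩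
      rw [mul_pow_of_central (hcen b a), hba, show Nat.choose 2 2 = 1 from rfl, pow_one] at h3
      have := mul_mem (inv_mem (mul_mem h1 h2)) h3
      rwa [inv_mul_cancel_left] at this
    obtain ⟨h1, h2, h3, g, hg⟩ := hC y hy
    obtain ⟨z0, ⟨z1, hz1⟩, hz0⟩ := inv_mem hyp
    have hzp : (z1 : G) ^ p = (y ^ p * c ^ p.choose 2)⁻¹ := by
      rw [← hz0, ← hz1]; rfl
    refine ⟨centralizer ({y} : Set G), g, y * z1, h1, h2, h3, hg,
      mul_mem (mem_centralizer_singleton_iff.2 rfl) (h1 z1.2), ?_, ?_, ?_⟩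
    · refine mul_mem (mem_centralizer_iff.2 fun h hh => mem_centralizer_singleton_iff.1 hh) ?_
      exact center_le_centralizer _ z1.2
    · intro h
      have := mul_mem (hDZ h) (inv_mem z1.2)
      rw [mul_inv_cancel_right] at this
      exact hy this
    · have hz := mem_center_iff.1 z1.2
      have he : ⁅y * z1, g⁆ = ⁅y, g⁆ := by
        rw [mul_left_commutator, show ⁅(z1 : G), g⁆ = 1 from commutatorElement_eq_one_iff_mul_comm.2 (hz g).symm,
          mul_one, mul_inv_cancel, one_mul]
      have hyz : (y * z1) ^ p = y ^ p * (z1 : G) ^ p := (Commute.mul_pow (hz y) p)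
      have hcc : ⁅y, g⁆ ^ p.choose 2 = c ^ p.choose 2 := by
        by_cases hp2 : p = 2
        · subst hp2
          rw [show Nat.choose 2 2 = 1 from rfl, pow_one, pow_one]
          have hy1 : ⁅y, g⁆ ≠ 1 := fun e => hg (mem_centralizer_singleton_iff.2
            (commutatorElement_eq_one_iff_mul_comm.1 e).symm)
          obtain ⟨i, hi⟩ := mem_zpowers_iff.1 ((hDgen c hcD hc).le (hcom y g))
          have h2 : c ^ (2 : ℤ) = 1 := by exact_mod_cast hDp c hcD
          rcases Int.even_or_odd' i with ⟨k, rfl | rfl⟩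
          · exact absurd (by rw [← hi, zpow_mul, h2, one_zpow]) hy1
          · rw [← hi, zpow_add, zpow_mul, h2, one_zpow, one_mul, zpow_one]
        · obtain ⟨k, hk⟩ := dvd_choose_two hp hp2
          rw [hk, pow_mul, pow_mul, hDp _ (hcom y g), hDp c hcD]
      rw [mul_pow_of_central (hcen _ _), he, hcc, hyz, hzp]
      have hcom' : Commute (y ^ p) (c ^ p.choose 2) := (mem_center_iff.1 (pow_mem (hDZ hcD) _) (y ^ p))
      rw [hcom'.eq, mul_inv_rev]
      group
  haveI := hHn
  obtain ⟨φ, hφm, hφ⟩ := exists_aut hp H hHidx x s hxH hsC hpow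
  have hDH : D ≤ H := hDZ.trans hZH
  have hbij : Function.Bijective φ := by
    refine Finite.injective_iff_bijective.1 ?_
    suffices h : ∀ g, φ g = 1 → g = 1 by
      intro g g' e
      have hm1 : φ 1 = 1 := by simpa using hφ 0 1 (one_mem _)
      have : φ (g * g'⁻¹) = 1 := by
        have h2 := hφm g' g'⁻¹
        rw [mul_inv_cancel, hm1] at h2
        rw [hφm, e, ← h2]
      exact mul_inv_eq_one.1 (h _ this)
    intro g hg
    have hc : Nat.card (G ⧸ H) = p := hHidx
    obtain ⟨i, hi⟩ := (Submonoid.mem_powers_iff _ _).1 (mem_powers_of_prime_card hc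
      (g := QuotientGroup.mk' H x) (g' := QuotientGroup.mk' H g) (fun h => hxH ((QuotientGroup.eq_one_iff x).1 h)))
    rw [← map_pow] at hi
    have hh : (x ^ i)⁻¹ * g ∈ H := QuotientGroup.eq.1 hi
    have h1 : (x * s) ^ i * ((x ^ i)⁻¹ * g) = 1 := by rw [← hφ i _ hh, mul_inv_cancel_left]; exact hg
    have h2 : (x * s) ^ i ∈ H := by rw [eq_inv_of_mul_eq_one_left h1]; exact inv_mem hh
    have h2' : QuotientGroup.mk' H (x ^ i) = 1 := by
      have h3 : QuotientGroup.mk' H ((x * s) ^ i) = 1 := (QuotientGroup.eq_one_iff _).2 h2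
      rwa [map_pow, map_mul, show QuotientGroup.mk' H s = 1 from (QuotientGroup.eq_one_iff s).2 hsH, mul_one,
        ← map_pow] at h3
    have h4 := hφ 0 g (by simpa using mul_mem ((QuotientGroup.eq_one_iff _).1 h2') hh)
    simpa [hg] using h4.symm
  let θ : MulAut G := MulEquiv.mk' (Equiv.ofBijective φ hbij) hφm
  -- orbits
  set mkq : G → MulAction.orbitRel.Quotient (MulAut G) G := Quotient.mk (MulAction.orbitRel (MulAut G) G)
  have hclass : ∀ g, g ∉ Z → ∀ d ∈ D, mkq (g * d) = mkq g := by
    intro g hg d hd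
    obtain ⟨h, hh⟩ : ∃ h, ⁅h, g⁆ ≠ 1 := by
      refine Classical.byContradiction fun hh => ?_
      push Not at hh
      exact hg (mem_center_iff.2 fun h => commutatorElement_eq_one_iff_mul_comm.1 (hh h))
    obtain ⟨i, hi⟩ := mem_powers_iff_mem_zpowers.2 ((hDgen _ (hcom h g) hh).le hd)
    refine Quotient.sound (MulAction.orbitRel_apply.2 ⟨MulAut.conj (h ^ i), ?_⟩)
    have hi' : ⁅h, g⁆ ^ i = d := hi
    have he := commutator_pow_left_of_commute (x := h) (y := g) (mem_center_iff.1 (hcen h g) h).symm i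
    rw [hi'] at he
    show h ^ i * g * (h ^ i)⁻¹ = g * d
    rw [mem_center_iff.1 (hDZ hd) g, ← he, commutatorElement_def]
    group
  have hshift : ∀ g, g ∉ H → mkq (g * s) = mkq g := by
    intro g hg
    have hg2 : ∀ i : ℕ, ∀ h ∈ H, mkq ((x * s) ^ i * h) = mkq (x ^ i * h) := fun i h hh =>
      Quotient.sound (MulAction.orbitRel_apply.2 ⟨θ, hφ i h hh⟩)
    -- iterate the automorphism
    have hit : ∀ (i : ℕ) (h : G) (n : ℕ), h ∈ H → mkq (x ^ i * h) = mkq (θ ^ n • (x ^ i * h)) := fun i h n _ =>
      (Quotient.sound (MulAction.orbitRel_apply.2 ⟨θ ^ n, rfl⟩)).symm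
    have hc : Nat.card (G ⧸ H) = p := hHidx
    obtain ⟨i, hi⟩ := (Submonoid.mem_powers_iff _ _).1 (mem_powers_of_prime_card hc
      (g := QuotientGroup.mk' H x) (g' := QuotientGroup.mk' H g) (fun h => hxH ((QuotientGroup.eq_one_iff x).1 h)))
    rw [← map_pow] at hi
    have hh : (x ^ i)⁻¹ * g ∈ H := QuotientGroup.eq.1 hi
    have hpi : i.Coprime p := by
      refine ((hp.coprime_iff_not_dvd).2 fun h => hg ?_).symm
      obtain ⟨k, rfl⟩ := h
      have : x ^ (p * k) ∈ H := by rw [pow_mul]; exact pow_mem (hZH (hgp x)) _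
      simpa using mul_mem this hh
    -- `x ^ i * h` moves to `x ^ i * h * (s ^ i * d)`
    have hsxc : ∀ j : ℕ, ∃ d ∈ D, (x * s) ^ j = x ^ j * s ^ j * d := fun j =>
      ⟨_, pow_mem (hcom s x) _, mul_pow_of_central (hcen s x) j⟩
    have hstep : ∀ h ∈ H, ∃ d ∈ D, θ • (x ^ i * h) = x ^ i * h * (s ^ i * d) := by
      intro h hh'
      obtain ⟨d, hd, he⟩ := hsxc i
      refine ⟨d, hd, ?_⟩
      show φ (x ^ i * h) = _
      rw [hφ i h hh', he]
      have hcs : h * s ^ i = s ^ i * h := mem_centralizer_iff.1 (pow_mem hsC i) h hh'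
      rw [mul_assoc (x ^ i) h, ← mul_assoc h, hcs, mul_assoc (x ^ i) (s ^ i) d, mul_assoc (x ^ i) (s ^ i * d),
        mul_assoc (s ^ i) d, ← mem_center_iff.1 (hDZ hd) h]
      simp only [mul_assoc]
    have hmany : ∀ n : ℕ, ∃ d ∈ D, θ ^ n • g = g * (s ^ (i * n) * d) := by
      intro n
      induction n with
      | zero => exact ⟨1, one_mem _, by simp⟩
      | succ n ih =>
        obtain ⟨d, hd, he⟩ := ih
        have hmem : (x ^ i)⁻¹ * (g * (s ^ (i * n) * d)) ∈ H := by
          rw [← mul_assoc]; exact mul_mem hh (mul_mem (pow_mem hsH _) (hDH hd))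
        obtain ⟨d', hd', he'⟩ := hstep _ hmem
        rw [mul_inv_cancel_left] at he'
        refine ⟨d * d', mul_mem hd hd', ?_⟩
        rw [pow_succ', mul_smul, he, he', Nat.mul_succ, pow_add]
        have hdc := mem_center_iff.1 (hDZ hd) (s ^ i)
        simp only [mul_assoc]
        rw [← mul_assoc d, ← hdc, mul_assoc]
    obtain ⟨n, hn⟩ := Nat.exists_mul_mod_eq_one_of_coprime hpi hp.one_lt
    obtain ⟨d, hd, he⟩ := hmany n
    have hsp : ∀ m, s ^ m * (s ^ (m % p))⁻¹ ∈ Z := by
      intro m
      have hm : s ^ m = s ^ (p * (m / p)) * s ^ (m % p) := by rw [← pow_add, Nat.div_add_mod]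
      rw [hm, mul_inv_cancel_right, pow_mul]
      exact pow_mem (hgp s) _
    have hspD : s ^ p ∈ D := by
      have h1 := mul_pow_of_central (x := x) (y := s) (hcen s x) p
      rw [hpow, mul_assoc, left_eq_mul] at h1
      rw [eq_inv_of_mul_eq_one_left h1]
      exact inv_mem (pow_mem (hcom s x) _)
    have hsm : ∃ d' ∈ D, s ^ (i * n) = s * d' := by
      refine ⟨(s ^ p) ^ (i * n / p), pow_mem hspD _, ?_⟩
      rw [← pow_mul, ← pow_succ']
      congr 1
      have := Nat.div_add_mod (i * n) p
      omega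
    obtain ⟨d', hd', hs'⟩ := hsm
    have hgs : g * s ∉ Z := fun h => hg (by simpa using mul_mem (hZH h) (inv_mem hsH))
    calc mkq (g * s) = mkq (g * s * (d' * d)) := (hclass _ hgs _ (mul_mem hd' hd)).symm
      _ = mkq (θ ^ n • g) := by rw [he, hs']; simp only [mul_assoc]
      _ = mkq g := Quotient.sound (MulAction.orbitRel_apply.2 ⟨θ ^ n, rfl⟩)
  -- counting
  let f : G → ℕ := fun g => if g ∈ Z then p * p else if g ∈ H then p else 1
  haveI := Fintype.ofFinite G
  haveI := Fintype.ofFinite (MulAction.orbitRel.Quotient (MulAut G) G)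
  have hlow : ∀ q : MulAction.orbitRel.Quotient (MulAut G) G,
      p * p ≤ ∑ g ∈ Finset.univ.filter (fun g => mkq g = q), f g := by
    intro q
    obtain ⟨g, rfl⟩ := Quotient.exists_rep q
    change p * p ≤ ∑ t ∈ Finset.univ.filter (fun t => mkq t = mkq g), f t
    by_cases hgZ : g ∈ Z
    · refine le_trans ?_ (Finset.single_le_sum (f := f) (fun _ _ => Nat.zero_le _)
        (show g ∈ Finset.univ.filter (fun t => mkq t = mkq g) by simp))
      simp [f, hgZ]
    have hDc : (Finset.univ.filter fun d => d ∈ D).card = p := by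
      rw [← Fintype.card_subtype, ← Nat.card_eq_fintype_card]; exact hG'
    by_cases hgH : g ∈ H
    · calc p * p = ∑ t ∈ (Finset.univ.filter fun d => d ∈ D).image (g * ·), f t := by
            rw [Finset.sum_image (fun a _ b _ e => mul_left_cancel e), Finset.sum_const_nat (m := p), hDc]
            intro d hd
            have hd : d ∈ D := (Finset.mem_filter.1 hd).2
            have h1 : g * d ∉ Z := fun h => hgZ (by simpa using mul_mem h (inv_mem (hDZ hd)))
            simp [f, h1, mul_mem hgH (hDH hd)]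
        _ ≤ _ := Finset.sum_le_sum_of_subset (by
            intro t ht
            obtain ⟨d, hd, rfl⟩ := Finset.mem_image.1 ht
            simpa using hclass g hgZ d (Finset.mem_filter.1 hd).2)
    · set S := (Finset.range p ×ˢ (Finset.univ.filter fun d => d ∈ D)).image (fun z => g * (s ^ z.1 * z.2))
      have hinj : Set.InjOn (fun z : ℕ × G => g * (s ^ z.1 * z.2))
          ↑(Finset.range p ×ˢ (Finset.univ.filter fun d => d ∈ D)) := by
        rintro ⟨i, d⟩ hi ⟨j, e⟩ hj hij
        simp only [Finset.coe_product, Set.mem_prod, Finset.coe_range, Set.mem_Iio, Finset.coe_filter,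
          Finset.mem_univ, true_and, Set.mem_setOf_eq] at hi hj
        have h1 : s ^ i * d = s ^ j * e := mul_left_cancel hij
        suffices hij' : i = j by subst hij'; rw [mul_left_cancel h1]
        by_contra hne
        have key : ∀ a b : ℕ, ∀ u v : G, u ∈ D → v ∈ D → a < b → b < p → s ^ a * u ≠ s ^ b * v := by
          intro a b u v hu hv hab hb e
          obtain ⟨k, rfl⟩ := Nat.exists_eq_add_of_le hab.le
          rw [pow_add, mul_assoc] at e
          have e' : s ^ k = u * v⁻¹ := eq_mul_inv_of_mul_eq (mul_left_cancel e).symm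
          obtain ⟨m, -, hm⟩ := Nat.exists_mul_mod_eq_one_of_coprime
            ((hp.coprime_iff_not_dvd).2 (Nat.not_dvd_of_pos_of_lt (show 0 < k by omega) (show k < p by omega))).symm hp.one_lt
          have hdm := Nat.div_add_mod (k * m) p
          rw [hm] at hdm
          have hmem : s ^ (k * m) ∈ D := by rw [pow_mul, e']; exact pow_mem (mul_mem hu (inv_mem hv)) _
          have hspD : s ^ p ∈ D := by
            have h1 := mul_pow_of_central (x := x) (y := s) (hcen s x) p
            rw [hpow, mul_assoc, left_eq_mul] at h1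
            rw [eq_inv_of_mul_eq_one_left h1]
            exact inv_mem (pow_mem (hcom s x) _)
          rw [← hdm, pow_add, pow_one, pow_mul] at hmem
          have h2 := mul_mem (inv_mem (pow_mem hspD (k * m / p))) hmem
          rw [inv_mul_cancel_left] at h2
          exact hsD h2
        rcases Nat.lt_or_ge i j with h | h
        · exact key i j d e hi.2 hj.2 h hj.1 h1
        · exact key j i e d hj.2 hi.2 (by omega) hi.1 h1.symm
      calc p * p = ∑ t ∈ S, f t := by
            rw [Finset.sum_image hinj, Finset.sum_const_nat (m := 1), Finset.card_product, Finset.card_range,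
              hDc, mul_one]
            rintro ⟨i, d⟩ hi
            simp only [Finset.mem_product, Finset.mem_filter, Finset.mem_univ, true_and] at hi
            have h1 : g * (s ^ i * d) ∉ H := fun h =>
              hgH ((H.mul_mem_cancel_right (mul_mem (pow_mem hsH i) (hDH hi.2))).1 h)
            have h2 : g * (s ^ i * d) ∉ Z := fun h => h1 (hZH h)
            simp [f, h1, h2]
        _ ≤ _ := Finset.sum_le_sum_of_subset (by
            intro t ht
            obtain ⟨⟨i, d⟩, hd, rfl⟩ := Finset.mem_image.1 ht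
            simp only [Finset.mem_product, Finset.mem_filter, Finset.mem_univ, true_and] at hd ⊢
            have hi : ∀ j : ℕ, g * s ^ j ∉ H ∧ mkq (g * s ^ j) = mkq g := by
              intro j
              induction j with
              | zero => simp [hgH]
              | succ j ih =>
                rw [pow_succ, ← mul_assoc]
                exact ⟨fun h => ih.1 (by simpa using mul_mem h (inv_mem hsH)), (hshift _ ih.1).trans ih.2⟩
            rw [← mul_assoc, hclass _ (fun h => (hi i).1 (hZH h)) d hd.2]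
            exact (hi i).2)
  have htot : Nat.card (MulAction.orbitRel.Quotient (MulAut G) G) * (p * p) ≤ ∑ g, f g := by
    rw [← Finset.sum_fiberwise Finset.univ mkq f, Nat.card_eq_fintype_card, ← Finset.card_univ, ← smul_eq_mul]
    exact Finset.card_nsmul_le_sum _ _ _ fun q _ => hlow q
  have hsum : ∑ g, f g + (p - 1) * Nat.card H + Nat.card Z * p
      = Nat.card G + (p - 1) * Nat.card H * 2 + Nat.card Z * (p * p) := by
    have e : ∀ g, f g + (if g ∈ Z then p else 0) =
        1 + (if g ∈ H then p - 1 else 0) + (if g ∈ Z then p * p else 0) := by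
      intro g
      have := hp.two_le
      by_cases h1 : g ∈ Z
      · simp only [f, if_pos h1, if_pos (hZH h1)]; omega
      · by_cases h2 : g ∈ H
        · simp only [f, if_neg h1, if_pos h2]; omega
        · simp only [f, if_neg h1, if_neg h2]
    have hcount : ∀ (K : Subgroup G) [DecidablePred fun g => g ∈ K] (m : ℕ), (∑ g : G, if g ∈ K then m else 0) = Nat.card K * m := fun K _ m => by
      rw [← Finset.sum_filter, Finset.sum_const_nat (m := m) (fun _ _ => rfl), ← Fintype.card_subtype,
        ← Nat.card_eq_fintype_card]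
    have h2 := Finset.sum_congr (rfl : (Finset.univ : Finset G) = Finset.univ) (fun g _ => e g)
    rw [Finset.sum_add_distrib, Finset.sum_add_distrib, Finset.sum_add_distrib, hcount Z p, hcount H (p - 1),
      hcount Z (p * p),
      Finset.sum_const, Finset.card_univ, smul_eq_mul, mul_one, ← Nat.card_eq_fintype_card] at h2
    rw [mul_comm (p - 1) (Nat.card H)]
    omega
  have hH : Nat.card H * p = Nat.card G := hHidx ▸ H.card_mul_index
  have hZc : Nat.card Z * Z.index = Nat.card G := Z.card_mul_index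
  have hfin : ∑ g, f g ≤ Nat.card G * p := by
    rw [← hH]
    obtain ⟨r, rfl⟩ : ∃ r, p = r + 2 := ⟨p - 2, by have := hp.two_le; omega⟩
    rw [show r + 2 - 1 = r + 1 from rfl] at hsum
    have h1 : Nat.card Z * ((r + 2) * (r + 2)) ≤ Nat.card H * (r + 2) := by
      rw [hH, ← hZc]; exact Nat.mul_le_mul_left _ hZidx
    rw [← hH] at hsum
    have h2 : Nat.card Z * (r + 2) ≤ Nat.card H :=
      Nat.le_of_mul_le_mul_right (by rw [mul_assoc]; exact h1) (by omega)
    have h3 := Nat.mul_le_mul_left (r + 1) h2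
    nlinarith [Nat.zero_le (Nat.card H * r), Nat.zero_le (Nat.card H * r * r)]
  have := htot.trans hfin
  rw [← mul_assoc] at this
  exact Nat.le_of_mul_le_mul_right this hp.pos

theorem main (hna : ¬ IsMulCommutative G) :
    Nat.card (MulAction.orbitRel.Quotient (MulAut G) G) ≤ Nat.card G / (Nat.card G).minFac := by
  set p := (Nat.card G).minFac with hpdef
  have hG1 : Nat.card G ≠ 1 := fun h => hna ⟨⟨fun a b => by
    haveI := (Nat.card_eq_one_iff_unique.1 h).1
    exact Subsingleton.elim _ _⟩⟩
  have hp : p.Prime := Nat.minFac_prime hG1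
  haveI := Fact.mk hp
  rw [Nat.le_div_iff_mul_le hp.pos]
  have hD1 : Nat.card (commutator G) ≠ 1 := fun h => hna ⟨⟨fun a b =>
    commutatorElement_eq_one_iff_mul_comm.1 ((mem_bot).1 (by
      rw [← card_eq_one.1 h]; exact commutator_mem_commutator (mem_top a) (mem_top b)))⟩⟩
  obtain ⟨q, hq, hqd⟩ := Nat.exists_prime_and_dvd hD1
  have h1 : p ≤ Nat.card (commutator G) :=
    (Nat.minFac_le_of_dvd hq.two_le (hqd.trans (card_subgroup_dvd_card _))).trans
      (Nat.le_of_dvd Nat.card_pos hqd)
  rcases h1.eq_or_lt with h2 | h2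
  · exact small_derived (fun r hr hrd => Nat.minFac_le_of_dvd hr.two_le hrd) h2.symm
  · have hk := classes_bound (G := G)
    rw [← hpdef] at hk
    have hc := (commutator G).card_mul_index
    refine le_trans (Nat.mul_le_mul_right p orbits_le_classes) ?_
    have h3 : (p + 1) * (commutator G).index ≤ Nat.card G := by
      rw [← hc]; exact Nat.mul_le_mul_right _ h2
    obtain ⟨r, hr⟩ : ∃ r, p = r + 2 := ⟨p - 2, by have := hp.two_le; omega⟩
    rw [hr] at hk h3 ⊢
    have h4 : (r + 2) ^ 2 - 1 = (r + 1) * (r + 2 + 1) := by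
      rw [Nat.sub_eq_iff_eq_add (Nat.one_le_pow _ _ (by omega))]; ring
    rw [h4, mul_assoc] at hk
    have h5 := Nat.mul_le_mul_left (r + 1) h3
    nlinarith


/-- Let G be a finite non-abelian group and p the least prime dividing its order. Then the automorphism group of G has at most #G/p orbits on G. -/
theorem result {G : Type*} [Group G] [Finite G] (hna : ¬ IsMulCommutative G) :
    Nat.card (MulAction.orbitRel.Quotient (MulAut G) G) ≤ Nat.card G / (Nat.card G).minFac := by
  exact main hna

end Cfsg.Agent.S4067
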