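import Cfsg.Statements.S4068
import Cfsg.Agent.S1230
import Cfsg.Agent.S2503
import Cfsg.Agent.S0183
import Cfsg.Agent.Chars.Burnside
import Cfsg.Agent.Transfer.Basic
import Cfsg.Agent.Classical.Misc.SixtyGroup
import Cfsg.Agent.Classical.Misc.SmallPSL
import Cfsg.Agent.Components.Cores
import Cfsg.Agent.ThreeOrbits.Main

set_option autoImplicit false
open Cfsg

namespace Cfsg.Agent.S4068

open Subgroup

private theorem solvable_of_two {H : Type*} [Group H] [Finite H] (s : Finset ℕ) (hs : s.card ≤ 2) (hsp : ∀ r ∈ s, r.Prime)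
    (h : ∀ r : ℕ, r.Prime → r ∣ Nat.card H → r ∈ s) : Group.IsSolvable H := by
  classical
  obtain ⟨p, q, hp, hq, hpq⟩ : ∃ p q : ℕ, p.Prime ∧ q.Prime ∧ s ⊆ {p, q} := by
    rcases (show s.card = 0 ∨ s.card = 1 ∨ s.card = 2 by omega) with e | e | e
    · exact ⟨2, 2, Nat.prime_two, Nat.prime_two, by rw [Finset.card_eq_zero.1 e]; simp⟩
    · obtain ⟨a, rfl⟩ := Finset.card_eq_one.1 e
      exact ⟨a, a, hsp a (by simp), hsp a (by simp), by simp⟩
    · obtain ⟨a, b, -, rfl⟩ := Finset.card_eq_two.1 e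
      exact ⟨a, b, hsp a (by simp), hsp b (by simp), by simp⟩
  have hn : Nat.card H ≠ 0 := Nat.card_pos.ne'
  refine Cfsg.Lib.Chars.burnside_isSolvable p q hp hq H
    ⟨(Nat.card H).factorization p, if p = q then 0 else (Nat.card H).factorization q, ?_⟩
  have hsupp : (Nat.card H).primeFactors ⊆ {p, q} := fun r hr => hpq (h r (Nat.prime_of_mem_primeFactors hr) (Nat.dvd_of_mem_primeFactors hr))
  have e1 := Nat.prod_factorization_pow_eq_self hn
  rw [Nat.prod_factorization_eq_prod_primeFactors,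
    Finset.prod_subset hsupp (fun r _ hr => by
      rw [Finsupp.notMem_support_iff.1 (by rwa [Nat.support_factorization]), pow_zero])] at e1
  by_cases e : p = q
  · subst e; rw [if_pos rfl, pow_zero, mul_one]
    simpa using e1.symm
  · rw [if_neg e, Finset.prod_pair e] at *
    exact e1.symm

/-- A finite non-solvable group on which its automorphism group has exactly four orbits is isomorphic to the alternating group of degree 5. -/
theorem result {G : Type*} [Group G] [Finite G] (hns : ¬ Group.IsSolvable G)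
    (h4 : Nat.card (MulAction.orbitRel.Quotient (MulAut G) G) = 4) : Nonempty (G ≃* alternatingGroup (Fin 5)) := by
  classical
  set π := (Nat.card G).primeFactors with hπ
  have hπ3 : 3 ≤ π.card := by
    by_contra hcon
    exact hns (solvable_of_two π (by omega) (fun r => Nat.prime_of_mem_primeFactors)
      fun r hr hd => Nat.mem_primeFactors.2 ⟨hr, hd, Nat.card_pos.ne'⟩)
  -- the orders and the orbits
  set D : Set ℕ := Set.range (fun g : G => orderOf g) with hD
  have hsub : (↑(insert 1 π) : Set ℕ) ⊆ D := by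
    intro r hr
    rw [Finset.coe_insert, Set.mem_insert_iff] at hr
    rcases hr with rfl | hr
    · exact ⟨1, orderOf_one⟩
    · haveI : Fact r.Prime := ⟨Nat.prime_of_mem_primeFactors hr⟩
      exact exists_prime_orderOf_dvd_card' r (Nat.dvd_of_mem_primeFactors hr)
  let φ : MulAction.orbitRel.Quotient (MulAut G) G → D := Quotient.lift (fun g : G => (⟨orderOf g, g, rfl⟩ : D))
    (fun a b hab => by
      obtain ⟨α, rfl⟩ : a ∈ MulAction.orbit (MulAut G) b := hab
      exact Subtype.ext (Cfsg.Lib.ThreeOrbits.orderOf_smul_aut α b))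
  have hφs : Function.Surjective φ := by
    rintro ⟨_, g, rfl⟩; exact ⟨⟦g⟧, rfl⟩
  have hDcard : D.ncard ≤ 4 := by
    rw [← Nat.card_coe_set_eq, ← h4]; exact Nat.card_le_card_of_surjective φ hφs
  have hins : (insert 1 π).card = π.card + 1 := Finset.card_insert_of_notMem fun h1 =>
    (Nat.prime_of_mem_primeFactors h1).ne_one rfl
  have hsub' := Set.ncard_le_ncard hsub (Set.toFinite _)
  rw [Set.ncard_coe_finset, hins] at hsub'
  have hπc : π.card = 3 := by omega
  have hDeq : (↑(insert 1 π) : Set ℕ) = D :=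
    Set.eq_of_subset_of_ncard_le hsub (by rw [Set.ncard_coe_finset, hins]; omega) (Set.toFinite _)
  have hord : ∀ g : G, g ≠ 1 → (orderOf g).Prime ∧ orderOf g ∈ π := by
    intro g hg
    have hm : orderOf g ∈ (↑(insert 1 π) : Set ℕ) := hDeq.ge ⟨g, rfl⟩
    rw [Finset.coe_insert, Set.mem_insert_iff] at hm
    rcases hm with e | e
    · exact absurd (orderOf_eq_one_iff.1 e) hg
    · exact ⟨Nat.prime_of_mem_primeFactors e, e⟩
  have hφb : Function.Bijective φ := by
    haveI : Finite ↥D := (Set.toFinite D).to_subtype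
    refine (Nat.bijective_iff_surjective_and_card φ).2 ⟨hφs, ?_⟩
    rw [Nat.card_coe_set_eq, h4, ← hDeq, Set.ncard_coe_finset, hins, hπc]
  have horb : ∀ a b : G, orderOf a = orderOf b → ∃ α : MulAut G, α a = b := by
    intro a b hab
    have := Quotient.exact (hφb.1 (show φ ⟦b⟧ = φ ⟦a⟧ from Subtype.ext hab.symm))
    obtain ⟨α, hα⟩ : b ∈ MulAction.orbit (MulAut G) a := this
    exact ⟨α, hα⟩
  -- no proper nontrivial characteristic subgroup
  have hchar : ∀ K : Subgroup G, K.Characteristic → K ≠ ⊥ → K = ⊤ := by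
    intro K hK hne
    by_contra hnt
    haveI := hK
    have hall : ∀ r, r.Prime → r ∣ Nat.card ↥K → ∀ g : G, orderOf g = r → g ∈ K := by
      intro r hr hd g hg
      haveI : Fact r.Prime := ⟨hr⟩
      obtain ⟨⟨k, hk⟩, hko⟩ := exists_prime_orderOf_dvd_card' r hd
      rw [Subgroup.orderOf_mk] at hko
      obtain ⟨α, hα⟩ := horb k g (hko.trans hg.symm)
      rw [← hα]
      exact Cfsg.Lib.ThreeOrbits.smul_char hk α
    have hout : ∀ r, r.Prime → r ∣ K.index → ¬ r ∣ Nat.card ↥K := by
      intro r hr hd hdK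
      haveI : Fact r.Prime := ⟨hr⟩
      rw [Subgroup.index_eq_card] at hd
      obtain ⟨c, hc⟩ := exists_prime_orderOf_dvd_card' r hd
      obtain ⟨g, rfl⟩ := QuotientGroup.mk'_surjective K c
      have hd' : r ∣ orderOf g := hc ▸ orderOf_map_dvd (QuotientGroup.mk' K) g
      have hg1 : g ≠ 1 := fun e => by
        rw [e, orderOf_one] at hd'; exact hr.ne_one (Nat.dvd_one.1 hd')
      have hgK := hall r hr hdK g ((Nat.prime_dvd_prime_iff_eq hr (hord g hg1).1).1 hd').symm
      rw [show QuotientGroup.mk' K g = 1 from (QuotientGroup.eq_one_iff g).2 hgK, orderOf_one] at hc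
      exact hr.ne_one hc.symm
    set A := π.filter (fun r => r ∣ Nat.card ↥K)
    have hAne : A.Nonempty := by
      obtain ⟨r, hr, hd⟩ := Nat.exists_prime_and_dvd (fun e => hne (Subgroup.card_eq_one.1 e))
      exact ⟨r, Finset.mem_filter.2 ⟨Nat.mem_primeFactors.2 ⟨hr, hd.trans K.card_subgroup_dvd_card, Nat.card_pos.ne'⟩, hd⟩⟩
    have hA2 : A.card ≤ 2 := by
      by_contra hlt
      have : A = π := Finset.eq_of_subset_of_card_le (Finset.filter_subset _ _) (by omega)
      refine hnt ((Subgroup.eq_top_iff' K).2 fun g => ?_)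
      by_cases hg : g = 1
      · rw [hg]; exact one_mem _
      · have hm : orderOf g ∈ A := this ▸ (hord g hg).2
        exact hall _ (hord g hg).1 (Finset.mem_filter.1 hm).2 g rfl
    have hK1 : Group.IsSolvable ↥K := solvable_of_two A hA2
      (fun r hr => Nat.prime_of_mem_primeFactors (Finset.mem_filter.1 hr).1)
      (fun r hr hd => Finset.mem_filter.2 ⟨Nat.mem_primeFactors.2 ⟨hr, hd.trans K.card_subgroup_dvd_card, Nat.card_pos.ne'⟩, hd⟩)
    have hK2 : Group.IsSolvable (G ⧸ K) := by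
      refine solvable_of_two (π \ A) ?_ (fun r hr => Nat.prime_of_mem_primeFactors (Finset.mem_sdiff.1 hr).1) fun r hr hd => ?_
      · have h1 := Finset.card_sdiff_add_card_eq_card (Finset.filter_subset (fun r => r ∣ Nat.card ↥K) π)
        have h2 : 1 ≤ (π.filter (fun r => r ∣ Nat.card ↥K)).card := hAne.card_pos
        show (π \ π.filter (fun r => r ∣ Nat.card ↥K)).card ≤ 2
        omega
      · rw [← Subgroup.index_eq_card] at hd
        exact Finset.mem_sdiff.2 ⟨Nat.mem_primeFactors.2 ⟨hr, hd.trans K.index_dvd_card, Nat.card_pos.ne'⟩,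
          fun h => hout r hr hd (Finset.mem_filter.1 h).2⟩
    exact hns (Group.isSolvable_of_ker_le_range K.subtype (QuotientGroup.mk' K)
      (by rw [QuotientGroup.ker_mk', Subgroup.range_subtype]))
  -- commuting elements of prime order
  have hcomm : ∀ x y : G, x ≠ 1 → y ≠ 1 → Commute x y → orderOf x = orderOf y := by
    intro x y hx hy hxy
    by_contra hne
    have hcop : (orderOf x).Coprime (orderOf y) := (Nat.coprime_primes (hord x hx).1 (hord y hy).1).2 hne
    have e := hxy.orderOf_mul_eq_mul_orderOf_of_coprime hcop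
    have hxy1 : x * y ≠ 1 := fun h => by
      rw [h, orderOf_one] at e
      exact (hord x hx).1.ne_one (Nat.eq_one_of_mul_eq_one_right e.symm)
    exact Nat.not_prime_mul (hord x hx).1.ne_one (hord y hy).1.ne_one (e ▸ (hord _ hxy1).1)
  have hnon : Nontrivial G := by
    by_contra hn
    haveI := not_nontrivial_iff_subsingleton.1 hn
    exact hns inferInstance
  -- simplicity
  haveI hsimple : IsSimpleGroup G := by
    refine ⟨fun N hN => ?_⟩
    by_contra hcon
    push Not at hcon
    obtain ⟨M, ⟨hMn, hMne, hMN⟩, hmin⟩ := Set.exists_min_image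
      {M : Subgroup G | M.Normal ∧ M ≠ ⊥ ∧ M ≤ N} (fun M => Nat.card M) (Set.toFinite _) ⟨N, hN, hcon.1, le_rfl⟩
    haveI := hMn
    have hMnt : M ≠ ⊤ := fun e => hcon.2 (top_le_iff.1 (e ▸ hMN))
    by_cases hMc : M.Characteristic
    · exact hMnt (hchar M hMc hMne)
    rw [Subgroup.characteristic_iff_map_eq] at hMc
    push Not at hMc
    obtain ⟨α, hα⟩ := hMc
    set M' := M.map α.toMonoidHom with hM'
    haveI : M'.Normal := Subgroup.Normal.map inferInstance _ α.surjective
    have hdisj : Disjoint M M' := by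
      rw [disjoint_iff]
      by_contra hne
      have h1 := hmin (M ⊓ M') ⟨inferInstance, hne, inf_le_left.trans hMN⟩
      have h2 : M ≤ M' := inf_eq_left.1 (Subgroup.eq_of_le_of_card_ge inf_le_left h1)
      exact hα (Subgroup.eq_of_le_of_card_ge h2 (Subgroup.card_map_of_injective α.injective).le).symm
    obtain ⟨m, hmM, hm1⟩ : ∃ m ∈ M, m ≠ 1 := by
      obtain ⟨⟨m, hm⟩, hm1⟩ := Subgroup.ne_bot_iff_exists_ne_one.1 hMne
      exact ⟨m, hm, fun e => hm1 (Subtype.ext e)⟩
    set p := orderOf m with hp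
    haveI : Fact p.Prime := ⟨(hord m hm1).1⟩
    have hMp : IsPGroup p ↥M := by
      refine IsPGroup.iff_orderOf.2 fun ⟨y, hy⟩ => ?_
      rw [Subgroup.orderOf_mk]
      by_cases hy1 : y = 1
      · exact ⟨0, by rw [hy1, orderOf_one, pow_zero]⟩
      refine ⟨1, ?_⟩
      rw [pow_one]
      have h1 := hcomm y (α m) hy1 (fun e => hm1 (α.injective (e.trans (map_one α).symm)))
        (Subgroup.commute_of_normal_of_disjoint M M' inferInstance inferInstance hdisj y (α m) hy ⟨m, hmM, rfl⟩)
      rw [h1, MulEquiv.orderOf_eq]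
    have hcore := hchar (Cfsg.pCore p G) inferInstance (fun e => hMne (le_bot_iff.1 (e ▸ Cfsg.Lib.Components.le_pCore hMp)))
    refine hns ?_
    haveI := (((Cfsg.Lib.Components.isPGroup_pCore p).of_equiv ((MulEquiv.subgroupCongr hcore).trans Subgroup.topEquiv)) :
      IsPGroup p G).isNilpotent
    infer_instance
  -- centralizers are groups of prime exponent
  have hcen : ∀ g : G, g ≠ 1 → ∀ c ∈ Subgroup.centralizer ({g} : Set G), c ^ orderOf g = 1 := by
    intro g hg c hc
    by_cases hc1 : c = 1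
    · rw [hc1, one_pow]
    rw [← hcomm c g hc1 hg (Subgroup.mem_centralizer_singleton_iff.1 hc), pow_orderOf_eq_one]
  have heven : 2 ∣ Nat.card G := by
    by_contra hodd
    refine hns (Cfsg.Agent.S0183.result (Nat.not_even_iff_odd.1 fun h => hodd (even_iff_two_dvd.1 h)) fun g hg => ?_)
    haveI : Fact (orderOf g).Prime := ⟨(hord g hg).1⟩
    exact IsPGroup.isNilpotent (p := orderOf g) fun ⟨c, hc⟩ => ⟨1, Subtype.ext (by rw [pow_one]; exact hcen g hg c hc)⟩
  haveI h2f : Fact (Nat.Prime 2) := ⟨Nat.prime_two⟩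
  have hcen2 : ∀ t : G, orderOf t = 2 → IsMulCommutative (Subgroup.centralizer ({t} : Set G)) ∧
      ∀ c ∈ Subgroup.centralizer ({t} : Set G), c ^ 2 = 1 := by
    intro t ht
    have ht1 : t ≠ 1 := fun e => by rw [e, orderOf_one] at ht; omega
    have h := hcen t ht1
    rw [ht] at h
    have hinv : ∀ u ∈ Subgroup.centralizer ({t} : Set G), u⁻¹ = u := fun u hu =>
      inv_eq_of_mul_eq_one_right (by rw [← pow_two]; exact h u hu)
    refine ⟨⟨⟨fun a b => Subtype.ext ?_⟩⟩, h⟩
    calc (a : G) * b = ((a : G) * b)⁻¹ := (hinv _ (mul_mem a.2 b.2)).symm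
      _ = (b : G) * a := by rw [mul_inv_rev, hinv _ a.2, hinv _ b.2]
  obtain ⟨T⟩ : Nonempty (Sylow 2 G) := inferInstance
  have hTnt : (T : Subgroup G) ≠ ⊤ := fun e => hns (by
    haveI := (T.2.of_equiv ((MulEquiv.subgroupCongr e).trans Subgroup.topEquiv) : IsPGroup 2 G).isNilpotent
    infer_instance)
  have hTnb : (T : Subgroup G) ≠ ⊥ := T.ne_bot_of_dvd_card heven
  have hTnn : ¬ (T : Subgroup G).Normal := fun hn => (hn.eq_bot_or_eq_top).elim hTnb hTnt
  have hTnc : ¬ IsCyclic ↥(T : Subgroup G) := by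
    intro hc
    have hmin : (Nat.card G).minFac = 2 := (Nat.minFac_eq_two_iff _).2 heven
    have hK := MonoidHom.ker_transferSylow_isComplement' T (IsCyclic.normalizer_le_centralizer hmin hc)
    obtain ⟨K, hKn, hK'⟩ : ∃ K : Subgroup G, K.Normal ∧ K.IsComplement' (T : Subgroup G) :=
      ⟨_, MonoidHom.normal_ker _, hK⟩
    rcases hKn.eq_bot_or_eq_top with rfl | rfl
    · rw [Subgroup.isComplement'_bot_left] at hK'
      exact hTnt hK'
    · rw [Subgroup.isComplement'_top_left] at hK'
      exact hTnb hK'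
  obtain ⟨F, _, _, hFT, ⟨e⟩⟩ := Cfsg.Agent.S1230.result T hTnc hTnn hcen2
  set q := Fintype.card F with hq
  obtain ⟨a, ha⟩ : ∃ a, q = 2 ^ a := by rw [hFT]; exact IsPGroup.iff_card.1 T.2
  have ha2 : 2 ≤ a := by
    by_contra hlt
    refine hTnc ?_
    rcases (show a = 0 ∨ a = 1 by omega) with e | e
    · rw [e, pow_zero] at ha
      exact absurd (Subgroup.eq_bot_of_card_eq _ (hFT.symm.trans ha)) hTnb
    · rw [e, pow_one] at ha
      exact isCyclic_of_prime_card (p := 2) (hFT.symm.trans ha)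
  have hqpos : 4 ≤ q := by rw [ha]; calc 4 = 2 ^ 2 := rfl
    _ ≤ 2 ^ a := Nat.pow_le_pow_right two_pos ha2
  have hcard : Nat.card G = q * (q ^ 2 - 1) := by
    rw [Nat.card_congr e.toEquiv]
    have h := Cfsg.Lib.Classical.SmallPSL.card_psl (F := F) hq.symm
    have hg : Nat.gcd 2 (q - 1) = 1 := by
      refine (Nat.prime_two.coprime_iff_not_dvd).2 fun hd => ?_
      have : 2 ∣ q := ha ▸ dvd_pow_self 2 (by omega)
      omega
    rwa [hg, one_mul] at h
  -- the element of order `q + 1`
  obtain ⟨A, B, hAc, hAcard, -⟩ := Cfsg.Agent.S2503.result (F := F) (hq ▸ ha ▸ dvd_pow_self 2 (by omega)) hqpos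
  haveI := hAc
  obtain ⟨g, hg⟩ := IsCyclic.exists_generator (α := ↥A)
  have hgo : orderOf (e.symm (g : Matrix.ProjectiveSpecialLinearGroup (Fin 2) F)) = q + 1 := by
    rw [MulEquiv.orderOf_eq, Subgroup.orderOf_coe, orderOf_eq_card_of_forall_mem_zpowers hg, hAcard]
  have hg1 : e.symm (g : Matrix.ProjectiveSpecialLinearGroup (Fin 2) F) ≠ 1 := fun h => by
    rw [h, orderOf_one] at hgo; omega
  obtain ⟨hsp, hsπ⟩ := hord _ hg1
  rw [hgo] at hsp hsπ
  have h2π : 2 ∈ π := Nat.mem_primeFactors.2 ⟨Nat.prime_two, heven, Nat.card_pos.ne'⟩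
  have hsq : q ^ 2 - 1 = (q + 1) * (q - 1) := by
    have := Nat.sq_sub_sq q 1
    simpa using this
  have hq1 : ∀ r : ℕ, r.Prime → r ∣ q - 1 → r ∈ π ∧ r ≠ 2 ∧ r ≠ q + 1 := by
    intro r hr hd
    refine ⟨Nat.mem_primeFactors.2 ⟨hr, ?_, Nat.card_pos.ne'⟩, ?_, ?_⟩
    · rw [hcard, hsq]; exact Dvd.dvd.mul_left (Dvd.dvd.mul_left hd _) _
    · rintro rfl
      have : 2 ∣ q := ha ▸ dvd_pow_self 2 (by omega)
      omega
    · intro h; have := Nat.le_of_dvd (by omega) hd; omega
  have huniq : ∀ r r' : ℕ, r.Prime → r'.Prime → r ∣ q - 1 → r' ∣ q - 1 → r = r' := by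
    intro r r' hr hr' hd hd'
    by_contra hne
    obtain ⟨h1, h2, h3⟩ := hq1 r hr hd
    obtain ⟨h1', h2', h3'⟩ := hq1 r' hr' hd'
    have : ({2, q + 1, r, r'} : Finset ℕ) ⊆ π := by
      intro x hx
      simp only [Finset.mem_insert, Finset.mem_singleton] at hx
      rcases hx with rfl | rfl | rfl | rfl <;> assumption
    have hle := Finset.card_le_card this
    rw [Finset.card_insert_of_notMem (by simp; exact ⟨by omega, Ne.symm h2, Ne.symm h2'⟩),
      Finset.card_insert_of_notMem (by simp; exact ⟨Ne.symm h3, Ne.symm h3'⟩), Finset.card_pair hne] at hle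
    omega
  have hq4 : q = 4 := by
    haveI : Fact (Nat.Prime 3) := ⟨Nat.prime_three⟩
    have h3 : 3 ∣ q - 1 := by
      have hmod : q % 3 = 1 ∨ q % 3 = 2 := by
        have : ¬ 3 ∣ q := fun hd => absurd (Nat.prime_three.dvd_of_dvd_pow (ha ▸ hd)) (by norm_num)
        omega
      rcases hmod with h | h
      · omega
      · exfalso
        have := (Nat.prime_dvd_prime_iff_eq Nat.prime_three hsp).1 (by omega : 3 ∣ q + 1)
        omega
    obtain ⟨k, hk⟩ : ∃ k, q - 1 = 3 ^ k := ⟨_, Nat.eq_prime_pow_of_unique_prime_dvd (by omega)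
      fun {d} hd hdd => huniq d 3 hd Nat.prime_three hdd h3⟩
    rcases Nat.even_or_odd' a with ⟨c, rfl | rfl⟩
    · have hu : q = 2 ^ c * 2 ^ c := by rw [ha, ← pow_add, two_mul]
      set u := 2 ^ c with hudef
      have hu2 : 2 ≤ u := by rw [hudef]; exact Nat.le_self_pow (by omega) 2
      obtain ⟨w, hw'⟩ : ∃ w, u = w + 2 := ⟨u - 2, by omega⟩
      rw [hw'] at hu
      have hfac : (w + 1) * (w + 3) = 3 ^ k := by
        rw [← hk, hu]
        have : (w + 2) * (w + 2) = (w + 1) * (w + 3) + 1 := by ring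
        omega
      obtain ⟨i, -, hi⟩ := (Nat.dvd_prime_pow Nat.prime_three).1 (Dvd.intro _ hfac)
      obtain ⟨j, -, hj⟩ := (Nat.dvd_prime_pow Nat.prime_three).1 (Dvd.intro_left _ hfac)
      rcases Nat.eq_zero_or_pos i with rfl | hi0
      · have hw : w = 0 := by simpa using hi
        rw [hu, hw]
      · exfalso
        have d1 : 3 ∣ w + 1 := hi ▸ dvd_pow_self 3 (by omega)
        have hj0 : j ≠ 0 := fun e0 => by rw [e0, pow_zero] at hj; omega
        have d2 : 3 ∣ w + 3 := hj ▸ dvd_pow_self 3 hj0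
        omega
    · exfalso
      have hm : q % 3 = 2 := by
        rw [ha, pow_succ, pow_mul, Nat.mul_mod, Nat.pow_mod]; norm_num
      omega
  exact Cfsg.Lib.Classical.SixtyGroup.iso_alt_five hsimple (by rw [hcard, hq4]; rfl)

end Cfsg.Agent.S4068
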