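import Cfsg.Statements.S4070
import Cfsg.Agent.DerBound.Main

set_option autoImplicit false
set_option linter.style.haveILetI false
open Cfsg

namespace Cfsg.Agent.S4070

open Cfsg.Lib.DerBound Cfsg.Lib.OddBase

/-- Let G be a finite solvable group acting faithfully by additive automorphisms on a finite vector space V over the field with p elements, completely reducibly (every G-invariant subspace has a G-invariant complement). Then some vector v ∈ V has stabilizer C_G(v) of derived length at most 9; and if both #G and p are odd, some vector has abelian stabilizer. -/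
theorem result {G V : Type*} [Group G] [Finite G] [Group.IsSolvable G]
    {p : ℕ} [Fact p.Prime] [AddCommGroup V] [Module (ZMod p) V] [Finite V] [DistribMulAction G V] [FaithfulSMul G V]
    (hcr : ∀ W : Submodule (ZMod p) V, (∀ (g : G) (w : V), w ∈ W → g • w ∈ W) →
      ∃ W' : Submodule (ZMod p) V, (∀ (g : G) (w : V), w ∈ W' → g • w ∈ W') ∧ IsCompl W W') :
    (∃ v : V, derivedSeries ↥(MulAction.stabilizer G v) 9 = ⊥) ∧
    (Odd (Nat.card G) → p ≠ 2 → ∃ v : V, IsMulCommutative ↥(MulAction.stabilizer G v)) := by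
  classical
  let π : G →* (AddMonoid.End V)ˣ := (DistribMulAction.toAddMonoidEnd G V).toHomUnits
  have hπ : Function.Injective π := fun a b h =>
    eq_of_smul_eq_smul fun v : V => DFunLike.congr_fun (congrArg Units.val h) v
  haveI : FaithfulSMul π.range V := ⟨fun {s t} h => Subtype.ext (Units.ext (AddMonoidHom.ext h))⟩
  haveI : Finite π.range := Finite.of_surjective _ π.rangeRestrict_surjective
  haveI : Group.IsSolvable π.range := Group.isSolvable_of_surjective π.rangeRestrict_surjective
  have hCR : CR π.range V := by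
    intro U hU
    obtain ⟨W, hW, hc⟩ := hcr (AddSubgroup.toZModSubmodule p U) fun g w hw =>
      hU ⟨π g, g, rfl⟩ w hw
    refine ⟨W.toAddSubgroup, ?_, ?_, ?_⟩
    · rintro ⟨_, g, rfl⟩ v hv
      exact hW g v hv
    · rw [eq_bot_iff]
      rintro v ⟨h1, h2⟩
      exact AddSubgroup.mem_bot.2 ((Submodule.mem_bot _).1
        (hc.inf_eq_bot.le (Submodule.mem_inf.2 ⟨(AddSubgroup.mem_toZModSubmodule p).2 h1, h2⟩)))
    · rw [eq_top_iff]
      intro v _
      obtain ⟨x, hx, y, hy, rfl⟩ := Submodule.mem_sup.1 (hc.sup_eq_top.ge (Submodule.mem_top (x := v)))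
      exact AddSubgroup.mem_sup.2 ⟨x, hx, y, hy, rfl⟩
  refine ⟨?_, fun hG hp => ?_⟩
  · obtain ⟨v, hv⟩ := exists_vector_dl (Nat.card V) π.range V le_rfl hCR
    exact ⟨v, DL.of_injective
      ((π.rangeRestrict.comp (MulAction.stabilizer G v).subtype).codRestrict
        (MulAction.stabilizer π.range v) fun g => g.2)
      (fun a b h => Subtype.ext (hπ (congrArg (fun z => ((z : π.range) : (AddMonoid.End V)ˣ))
        (congrArg Subtype.val h)))) hv⟩
  · have hV : Odd (Nat.card V) := by
      rw [Module.natCard_eq_pow_finrank (K := ZMod p), Nat.card_zmod]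
      exact ((Fact.out : p.Prime).odd_of_ne_two hp).pow
    obtain ⟨v, hv⟩ := exists_vector_comm (Nat.card V) π.range V le_rfl
      (hG.of_dvd_nat (Subgroup.card_range_dvd π)) hV hCR
    refine ⟨v, ⟨⟨fun a b => Subtype.ext (hπ ?_)⟩⟩⟩
    have h := hv ⟨π (a : G), a, rfl⟩ ⟨π (b : G), b, rfl⟩ a.2 b.2
    rw [Subgroup.coe_mul, Subgroup.coe_mul, map_mul, map_mul]
    exact congrArg Subtype.val h

end Cfsg.Agent.S4070
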