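import Cfsg.Statements.S4071


set_option autoImplicit false
open Cfsg

namespace Cfsg.Agent.S4071

/-- Let G be a finite solvable non-nilpotent group. Every non-abelian subgroup of G is self-normalizing if and only if G is a semidirect product ⟨x⟩ ⋉ A in which ⟨x⟩ is a p-group for some prime p, A is a normal abelian subgroup of order prime to p, x^p is central in G, and x acts fixed-point-freely on A (no non-identity element of A commutes with x). -/
theorem result {G : Type*} [Group G] [Finite G]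
    [Group.IsSolvable G] (hnn : ¬ Group.IsNilpotent G) :
    (∀ H : Subgroup G, ¬ IsMulCommutative H → Subgroup.normalizer (H : Set G) = H) ↔
    ∃ (x : G) (A : Subgroup G) (p : ℕ), p.Prime ∧ A.Normal ∧ IsMulCommutative A ∧ (∃ k : ℕ, orderOf x = p ^ k) ∧
      ¬ p ∣ Nat.card A ∧ (Subgroup.zpowers x).IsComplement' A ∧ x ^ p ∈ Subgroup.center G ∧
      ∀ a : G, a ∈ A → a ≠ 1 → x * a * x⁻¹ ≠ a := by
  constructor
  · intro hS
    haveI : Nontrivial G := by
      by_contra h
      rw [not_nontrivial_iff_subsingleton] at h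
      exact hnn inferInstance
    have hlt : commutator G < ⊤ := Group.IsSolvable.commutator_lt_top_of_nontrivial G
    obtain ⟨M, ⟨hGM, hMt⟩, hmax⟩ := WellFounded.has_min (wellFounded_gt (α := Subgroup G))
      {K | commutator G ≤ K ∧ K ≠ ⊤} ⟨_, le_rfl, hlt.ne⟩
    haveI hMn : M.Normal := Subgroup.Normal.of_commutator_le (h := hGM)
    have hMc : IsMulCommutative M := by
      by_contra h
      exact hMt ((hS M h).symm.trans (Subgroup.normalizer_eq_top_iff.2 hMn))
    have hcomm : ∀ a ∈ M, ∀ b ∈ M, a * b = b * a := fun a ha b hb =>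
      congrArg Subtype.val (hMc.is_comm.comm (⟨a, ha⟩ : M) ⟨b, hb⟩)
    have hMtop : ∀ g : G, g ∉ M → M ⊔ Subgroup.zpowers g = ⊤ := by
      intro g hg
      by_contra h
      exact hmax _ ⟨hGM.trans le_sup_left, h⟩ (lt_of_le_of_ne le_sup_left fun e =>
        hg (e ▸ Subgroup.mem_sup_right (Subgroup.mem_zpowers g)))
    haveI : Nontrivial (G ⧸ M) := QuotientGroup.nontrivial_iff.2 hMt
    obtain ⟨p, hp, hpd⟩ := Nat.exists_prime_and_dvd (Finite.one_lt_card (α := G ⧸ M)).ne'
    haveI := Fact.mk hp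
    have hcardq : Nat.card (G ⧸ M) = p := by
      obtain ⟨c, hc⟩ := exists_prime_orderOf_dvd_card' p hpd
      obtain ⟨g, rfl⟩ := QuotientGroup.mk_surjective c
      have hg : g ∉ M := fun h => by
        rw [(QuotientGroup.eq_one_iff g).2 h, orderOf_one] at hc
        exact hp.ne_one hc.symm
      have htop : Subgroup.zpowers (g : G ⧸ M) = ⊤ := by
        rw [← Subgroup.map_top_of_surjective _ (QuotientGroup.mk'_surjective M), ← hMtop g hg, Subgroup.map_sup,
          QuotientGroup.map_mk'_self, bot_sup_eq, MonoidHom.map_zpowers]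
        rfl
      rw [← hc, ← Nat.card_zpowers, htop, Subgroup.card_top]
    obtain ⟨P⟩ : Nonempty (Sylow p G) := inferInstance
    obtain ⟨x, hxP, hxM⟩ : ∃ x ∈ (P : Subgroup G), x ∉ M := by
      by_contra h
      push Not at h
      refine P.not_dvd_index (hpd.trans ?_)
      rw [← Subgroup.index_eq_card]
      exact Subgroup.index_dvd_of_le h
    obtain ⟨k, hk⟩ := IsPGroup.iff_orderOf.1 P.2 ⟨x, hxP⟩
    rw [Subgroup.orderOf_mk] at hk
    have hxp : x ^ p ∈ M := by
      rw [← QuotientGroup.eq_one_iff, QuotientGroup.mk_pow, ← hcardq, pow_card_eq_one']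
    have hxz : x ^ p ∈ Subgroup.center G := by
      rw [Subgroup.mem_center_iff]
      intro g
      have : g ∈ Subgroup.centralizer ({x ^ p} : Set G) := by
        have h2 : M ⊔ Subgroup.zpowers x ≤ Subgroup.centralizer ({x ^ p} : Set G) := sup_le
          (fun a ha => Subgroup.mem_centralizer_singleton_iff.2 (hcomm a ha _ hxp))
          (Subgroup.zpowers_le.2 (Subgroup.mem_centralizer_singleton_iff.2 (pow_mul_comm' x p).symm))
        exact h2 (hMtop x hxM ▸ Subgroup.mem_top g)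
      exact Subgroup.mem_centralizer_singleton_iff.1 this
    -- the part of `M` of order prime to `p`
    set m := ordCompl[p] (Nat.card M) with hm
    have hpm : ¬ p ∣ m := Nat.not_dvd_ordCompl hp Nat.card_pos.ne'
    let A : Subgroup G :=
      { carrier := {a | a ∈ M ∧ a ^ m = 1}
        one_mem' := ⟨M.one_mem, one_pow _⟩
        mul_mem' := fun {a b} ha hb => ⟨M.mul_mem ha.1 hb.1, by
          rw [(show Commute a b from hcomm a ha.1 b hb.1).mul_pow, ha.2, hb.2, one_mul]⟩
        inv_mem' := fun {a} ha => ⟨M.inv_mem ha.1, by rw [inv_pow, ha.2, inv_one]⟩ }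
    have hAn : A.Normal := ⟨fun a ha g => ⟨hMn.conj_mem a ha.1 g, by rw [conj_pow, ha.2]; group⟩⟩
    haveI := hAn
    have hAc : ∀ a ∈ A, ∀ b ∈ A, a * b = b * a := fun a ha b hb => hcomm a ha.1 b hb.1
    have hAp : ¬ p ∣ Nat.card A := fun h => by
      obtain ⟨a, ha⟩ := exists_prime_orderOf_dvd_card' p h
      refine hpm (ha ▸ orderOf_dvd_of_pow_eq_one (Subtype.ext ?_))
      rw [Subgroup.coe_pow, a.2.2]
      rfl
    have hAP : ∀ a, a ∈ A → a ∈ (P : Subgroup G) → a = 1 := by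
      intro a ha haP
      obtain ⟨i, hi⟩ := IsPGroup.iff_orderOf.1 P.2 ⟨a, haP⟩
      rw [Subgroup.orderOf_mk] at hi
      exact orderOf_eq_one_iff.1 (Nat.eq_one_of_dvd_coprimes
        (Nat.Coprime.pow_left i (hp.coprime_iff_not_dvd.2 hpm)) hi.dvd (orderOf_dvd_of_pow_eq_one ha.2))
    have hMAP : M ≤ A ⊔ (P : Subgroup G) := by
      intro a ha
      set v := ordProj[p] (Nat.card M) with hv
      have hvm : v * m = Nat.card M := Nat.ordProj_mul_ordCompl_eq_self _ _
      have h1 : a ^ Nat.card M = 1 := by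
        have := congrArg Subtype.val (pow_card_eq_one' (x := (⟨a, ha⟩ : M)))
        rwa [Subgroup.coe_pow] at this
      have hcop : v.Coprime m := (hp.coprime_iff_not_dvd.2 hpm).pow_left _
      have hg : a ^ (v.gcd m) ∈ A ⊔ (P : Subgroup G) := by
        rw [← zpow_natCast, Nat.gcd_eq_gcd_ab, zpow_add, zpow_mul, zpow_mul]
        refine Subgroup.mul_mem_sup (zpow_mem (show (a ^ (v : ℤ)) ∈ A from ⟨zpow_mem ha _, by
          rw [zpow_natCast, ← pow_mul, hvm, h1]⟩) _) (zpow_mem ?_ _)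
        rw [zpow_natCast]
        -- a `p`-element of the normal abelian `M` lies in every Sylow subgroup
        let R : Subgroup G :=
          { carrier := {b | b ∈ M ∧ b ^ v = 1}
            one_mem' := ⟨M.one_mem, one_pow _⟩
            mul_mem' := fun {c d} hc hd => ⟨M.mul_mem hc.1 hd.1, by
              rw [(show Commute c d from hcomm c hc.1 d hd.1).mul_pow, hc.2, hd.2, one_mul]⟩
            inv_mem' := fun {c} hc => ⟨M.inv_mem hc.1, by rw [inv_pow, hc.2, inv_one]⟩ }
        have hRn : R.Normal := ⟨fun c hc g => ⟨hMn.conj_mem c hc.1 g, by rw [conj_pow, hc.2]; group⟩⟩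
        have hR : IsPGroup p R := IsPGroup.iff_orderOf.2 fun c => by
          obtain ⟨i, -, hi⟩ := (Nat.dvd_prime_pow hp).1 (orderOf_dvd_of_pow_eq_one c.2.2)
          exact ⟨i, by rw [← Subgroup.orderOf_coe]; exact hi⟩
        have hRP : R ≤ P := by
          obtain ⟨Q, hQ⟩ := hR.exists_le_sylow
          obtain ⟨g, hg⟩ := MulAction.exists_smul_eq G Q P
          rw [← hg]
          intro c hc
          rw [Sylow.coe_subgroup_smul, Subgroup.mem_pointwise_smul_iff_inv_smul_mem]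
          refine hQ ?_
          rw [← map_inv, MulAut.smul_def, MulAut.conj_apply]
          exact hRn.conj_mem c hc _
        exact hRP ⟨pow_mem ha _, by rw [← pow_mul, mul_comm, hvm, h1]⟩
      rwa [hcop, pow_one] at hg
    have hAPtop : A ⊔ (P : Subgroup G) = ⊤ :=
      top_le_iff.1 (hMtop x hxM ▸ sup_le hMAP ((Subgroup.zpowers_le.2 hxP).trans le_sup_right))
    have hnc : ¬ ∀ a ∈ A, x * a * x⁻¹ = a := by
      intro h
      have hAz : A ≤ Subgroup.center G := by
        intro a ha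
        rw [Subgroup.mem_center_iff]
        intro g
        have h2 : M ⊔ Subgroup.zpowers x ≤ Subgroup.centralizer ({a} : Set G) := sup_le
          (fun b hb => Subgroup.mem_centralizer_singleton_iff.2 (hcomm b hb a ha.1))
          (Subgroup.zpowers_le.2 (Subgroup.mem_centralizer_singleton_iff.2 (mul_inv_eq_iff_eq_mul.1 (h a ha))))
        exact Subgroup.mem_centralizer_singleton_iff.1 (h2 (hMtop x hxM ▸ Subgroup.mem_top g))
      haveI := P.2.isNilpotent
      have hsurj : Function.Surjective ((QuotientGroup.mk' A).comp (P : Subgroup G).subtype) := by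
        intro c
        obtain ⟨g, rfl⟩ := QuotientGroup.mk_surjective c
        obtain ⟨a, ha, y, hy, rfl⟩ := Subgroup.mem_sup_of_normal_left.1 (hAPtop ▸ Subgroup.mem_top g)
        exact ⟨⟨y, hy⟩, by simp [(QuotientGroup.eq_one_iff a).2 ha]⟩
      haveI : Group.IsNilpotent (G ⧸ A) := Group.nilpotent_of_surjective _ hsurj
      exact hnn (isNilpotent_of_ker_le_center (QuotientGroup.mk' A) (by rw [QuotientGroup.ker_mk']; exact hAz))
    -- the Sylow subgroup is cyclic
    have hPx : (P : Subgroup G) = Subgroup.zpowers x := by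
      by_contra hne
      have hlt : (Subgroup.zpowers x).subgroupOf P < ⊤ := by
        rw [lt_top_iff_ne_top, Ne, Subgroup.subgroupOf_eq_top]
        exact fun h => hne (le_antisymm h (Subgroup.zpowers_le.2 hxP))
      haveI := P.2.isNilpotent
      have hn := (Group.normalizerCondition_of_isNilpotent (G := (P : Subgroup G))) _ hlt
      obtain ⟨y, hy, hyx⟩ := SetLike.exists_of_lt hn
      refine hyx ?_
      have hnab : ¬ IsMulCommutative ↥(A ⊔ Subgroup.zpowers x) := fun hc => hnc fun a ha =>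
        mul_inv_eq_iff_eq_mul.2 (congrArg Subtype.val (hc.is_comm.comm
          (⟨x, Subgroup.mem_sup_right (Subgroup.mem_zpowers x)⟩ : ↥(A ⊔ Subgroup.zpowers x))
          ⟨a, Subgroup.mem_sup_left ha⟩))
      have hyN : (y : G) ∈ Subgroup.normalizer ((A ⊔ Subgroup.zpowers x : Subgroup G) : Set G) := by
        refine Subgroup.mem_normalizer_fintype ?_
        intro w hw
        obtain ⟨a, ha, b, hb, rfl⟩ := Subgroup.mem_sup_of_normal_left.1 hw
        obtain ⟨i, rfl⟩ := hb
        rw [show (y : G) * (a * x ^ i) * (y : G)⁻¹ = (y * a * (y : G)⁻¹) * (y * x ^ i * (y : G)⁻¹) by group]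
        have hmem : (⟨x ^ i, zpow_mem hxP i⟩ : (P : Subgroup G)) ∈ (Subgroup.zpowers x).subgroupOf P := ⟨i, rfl⟩
        exact Subgroup.mul_mem_sup (hAn.conj_mem a ha _) ((Subgroup.mem_normalizer_iff.1 hy _).1 hmem)
      rw [hS _ hnab] at hyN
      obtain ⟨a, ha, b, hb, hab⟩ := Subgroup.mem_sup_of_normal_left.1 hyN
      have haP : a ∈ (P : Subgroup G) := by
        rw [show a = (y : G) * b⁻¹ by rw [← hab]; group]
        exact Subgroup.mul_mem _ y.2 (Subgroup.inv_mem _ (Subgroup.zpowers_le.2 hxP hb))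
      rw [hAP a ha haP, one_mul] at hab
      show (y : G) ∈ Subgroup.zpowers x
      exact hab ▸ hb
    refine ⟨x, A, p, hp, hAn, ⟨⟨fun a b => Subtype.ext (hAc a a.2 b b.2)⟩⟩, ⟨k, hk⟩, hAp, ?_, hxz, ?_⟩
    · refine Subgroup.isComplement'_of_disjoint_and_mul_eq_univ ?_ ?_
      · rw [Subgroup.disjoint_def]
        exact fun {a} h1 h2 => hAP a h2 (hPx.symm ▸ h1)
      · rw [← Subgroup.mul_normal, sup_comm, ← hPx, hAPtop, Subgroup.coe_top]
    -- no fixed points
    intro a ha ha1 hfix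
    have hδ : ∀ b ∈ A, x * b * x⁻¹ * b⁻¹ ∈ A := fun b hb => A.mul_mem (hAn.conj_mem b hb x) (A.inv_mem hb)
    have hstab : ∀ b ∈ A, x * (x * b * x⁻¹ * b⁻¹) * x⁻¹ = x * b * x⁻¹ * b⁻¹ → x * b * x⁻¹ * b⁻¹ = 1 := by
      intro b hb hfix
      set d := x * b * x⁻¹ * b⁻¹ with hd
      have hkk : ∀ j : ℕ, x ^ j * b * (x ^ j)⁻¹ = d ^ j * b := by
        intro j
        induction j with
        | zero => simp
        | succ j ih =>
          rw [pow_succ' x, show x * x ^ j * b * (x * x ^ j)⁻¹ = x * (x ^ j * b * (x ^ j)⁻¹) * x⁻¹ by group, ih,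
            show x * (d ^ j * b) * x⁻¹ = (x * d * x⁻¹) ^ j * (x * b * x⁻¹) by rw [conj_pow]; group, hfix, pow_succ, hd]
          group
      have h1 := hkk (orderOf x)
      rw [pow_orderOf_eq_one, one_mul, inv_one, mul_one, right_eq_mul] at h1
      exact orderOf_eq_one_iff.1 (Nat.eq_one_of_dvd_coprimes (Nat.Coprime.pow_left k (hp.coprime_iff_not_dvd.2 hpm))
        (hk ▸ orderOf_dvd_of_pow_eq_one h1) (orderOf_dvd_of_pow_eq_one (hδ b hb).2))
    let W : Subgroup G :=
      { carrier := {w | ∃ b ∈ A, w = x * b * x⁻¹ * b⁻¹}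
        one_mem' := ⟨1, A.one_mem, by group⟩
        mul_mem' := by
          rintro _ _ ⟨c, hc, rfl⟩ ⟨b, hb, rfl⟩
          refine ⟨c * b, A.mul_mem hc hb, ?_⟩
          rw [show x * (c * b) * x⁻¹ * (c * b)⁻¹ = (x * c * x⁻¹) * ((x * b * x⁻¹ * b⁻¹) * c⁻¹) by group,
            hAc _ (hδ b hb) _ (A.inv_mem hc)]
          group
        inv_mem' := by
          rintro _ ⟨c, hc, rfl⟩
          refine ⟨c⁻¹, A.inv_mem hc, ?_⟩
          rw [show (x * c * x⁻¹ * c⁻¹)⁻¹ = c * (x * c⁻¹ * x⁻¹) by group,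
            hAc _ hc _ (hAn.conj_mem _ (A.inv_mem hc) x)]
          group }
    have hnabW : ¬ IsMulCommutative ↥(W ⊔ Subgroup.zpowers x) := fun hc => hnc fun b hb => by
      have := congrArg Subtype.val (hc.is_comm.comm
        (⟨x, Subgroup.mem_sup_right (Subgroup.mem_zpowers x)⟩ : ↥(W ⊔ Subgroup.zpowers x))
        ⟨_, Subgroup.mem_sup_left ⟨b, hb, rfl⟩⟩)
      exact mul_inv_eq_one.1 (hstab b hb (mul_inv_eq_iff_eq_mul.2 this))
    have haC : W ⊔ Subgroup.zpowers x ≤ Subgroup.centralizer ({a} : Set G) := sup_le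
      (by rintro _ ⟨b, hb, rfl⟩; exact Subgroup.mem_centralizer_singleton_iff.2 (hAc _ (hδ b hb) a ha))
      (Subgroup.zpowers_le.2 (Subgroup.mem_centralizer_singleton_iff.2 (mul_inv_eq_iff_eq_mul.1 hfix)))
    have haN : a ∈ Subgroup.normalizer ((W ⊔ Subgroup.zpowers x : Subgroup G) : Set G) := by
      refine Subgroup.mem_normalizer_fintype fun w hw => ?_
      rw [← Subgroup.mem_centralizer_singleton_iff.1 (haC hw), mul_inv_cancel_right]
      exact hw
    rw [hS _ hnabW, ← SetLike.mem_coe, Subgroup.coe_mul_of_right_le_normalizer_left _ _ (by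
      rw [Subgroup.zpowers_le]
      refine Subgroup.mem_normalizer_fintype ?_
      rintro _ ⟨b, hb, rfl⟩
      exact ⟨x * b * x⁻¹, hAn.conj_mem b hb x, by group⟩)] at haN
    obtain ⟨w, ⟨b, hb, rfl⟩, v, hv, hwv⟩ := haN
    dsimp only at hwv
    have hv1 : v = 1 := hAP v (by
      rw [show v = (x * b * x⁻¹ * b⁻¹)⁻¹ * a by rw [← hwv]; group]
      exact A.mul_mem (A.inv_mem (hδ b hb)) ha) (Subgroup.zpowers_le.2 hxP hv)
    rw [hv1, mul_one] at hwv
    exact ha1 (hwv ▸ hstab b hb (by rw [hwv]; exact hfix))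
  · rintro ⟨x, A, p, hp, hAn, hAc, ⟨k, hk⟩, hpA, hc, hxz, hfpf⟩ H hH
    haveI := hAn
    haveI := Fact.mk hp
    have hcomm : ∀ a ∈ A, ∀ b ∈ A, a * b = b * a := fun a ha b hb =>
      congrArg Subtype.val (hAc.is_comm.comm (⟨a, ha⟩ : A) ⟨b, hb⟩)
    have hdec : ∀ g : G, ∃ a ∈ A, ∃ i : ℤ, g = a * x ^ i := fun g => by
      obtain ⟨a, ha, y, ⟨i, rfl⟩, h⟩ := Subgroup.mem_sup_of_normal_left.1
        (show g ∈ A ⊔ Subgroup.zpowers x by rw [sup_comm, hc.sup_eq_top]; exact Subgroup.mem_top g)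
      exact ⟨a, ha, i, h.symm⟩
    have hzc : ∀ (j : ℤ) (g : G), Commute ((x ^ p) ^ j) g := fun j g =>
      (Subgroup.mem_center_iff.1 (zpow_mem hxz j) g).symm
    obtain ⟨g, hgH, a, ha, i, hg, hi⟩ : ∃ g ∈ H, ∃ a ∈ A, ∃ i : ℤ, g = a * x ^ i ∧ ¬ (p : ℤ) ∣ i := by
      by_contra hno
      push Not at hno
      refine hH ⟨⟨fun u v => Subtype.ext ?_⟩⟩
      obtain ⟨a, ha, i, hu⟩ := hdec u
      obtain ⟨b, hb, j, hv⟩ := hdec v
      obtain ⟨i, rfl⟩ := hno u u.2 a ha i hu
      obtain ⟨j, rfl⟩ := hno v v.2 b hb j hv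
      show (u : G) * v = v * u
      rw [hu, hv, zpow_mul, zpow_natCast, zpow_mul, zpow_natCast]
      exact ((Commute.mul_left (Commute.mul_right (hcomm a ha b hb) (hzc j a).symm)
        (Commute.mul_right (hzc i b) (hzc i _)))).eq
    -- conjugation by `g` fixes no nontrivial element of `A`
    have hfix : ∀ u ∈ A, g * u * g⁻¹ = u → u = 1 := by
      intro u hu h
      by_contra hu1
      obtain ⟨s, t, hst⟩ := (Int.isCoprime_iff_nat_coprime.2 (by
        rw [Int.natAbs_natCast]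
        exact hp.coprime_iff_not_dvd.2 fun hd => hi (Int.natCast_dvd.2 hd)) : IsCoprime (p : ℤ) i)
      refine hfpf u hu hu1 (mul_inv_eq_iff_eq_mul.2 ?_)
      have h1 : Commute (x ^ i) u := by
        rw [hg, show a * x ^ i * u * (a * x ^ i)⁻¹ = a * (x ^ i * u * (x ^ i)⁻¹) * a⁻¹ by group,
          hcomm a ha _ (hAn.conj_mem u hu _), mul_inv_cancel_right] at h
        exact mul_inv_eq_iff_eq_mul.1 h
      have h2 : x = ((x ^ p) ^ s) * (x ^ i) ^ t := by
        rw [← zpow_natCast x p, ← zpow_mul, ← zpow_mul, ← zpow_add, mul_comm (p : ℤ), mul_comm i t, hst, zpow_one]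
      rw [h2]
      exact (Commute.mul_left (hzc s u) (h1.zpow_left t)).eq
    refine le_antisymm (fun n hn => ?_) Subgroup.le_normalizer
    obtain ⟨b, hb, j, hnb⟩ := hdec n
    -- correct `n` by a power of `g`, so that it lies in `A`
    obtain ⟨l, c, hc', hl⟩ : ∃ l : ℤ, ∃ c ∈ A, n * g ^ l = c := by
      have hk0 : k ≠ 0 := by
        rintro rfl
        rw [pow_zero, orderOf_eq_one_iff] at hk
        obtain ⟨a', ha', i', hgi⟩ := hdec g
        refine hH ⟨⟨fun u v => Subtype.ext ?_⟩⟩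
        obtain ⟨a1, h1, i1, e1⟩ := hdec u
        obtain ⟨a2, h2, i2, e2⟩ := hdec v
        show (u : G) * v = v * u
        rw [e1, e2, hk, one_zpow, one_zpow, mul_one, mul_one]
        exact hcomm a1 h1 a2 h2
      obtain ⟨s, t, hst⟩ := (Int.isCoprime_iff_nat_coprime.2 (by
        rw [Int.natAbs_natCast]
        exact Nat.Coprime.pow_left k (hp.coprime_iff_not_dvd.2 fun hd => hi (Int.natCast_dvd.2 hd))) :
          IsCoprime ((p ^ k : ℕ) : ℤ) i)
      refine ⟨-(j * t), _, ?_, rfl⟩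
      rw [← QuotientGroup.eq_one_iff, QuotientGroup.mk_mul, QuotientGroup.mk_zpow, hnb, hg, QuotientGroup.mk_mul,
        QuotientGroup.mk_mul, (QuotientGroup.eq_one_iff b).2 hb, (QuotientGroup.eq_one_iff a).2 ha, one_mul, one_mul,
        ← QuotientGroup.mk_zpow, ← QuotientGroup.mk_mul, ← zpow_mul, ← zpow_add]
      have : j + i * -(j * t) = ((p ^ k : ℕ) : ℤ) * (j * s) := by linear_combination (-j) * hst
      rw [this, zpow_mul, zpow_natCast, ← hk, pow_orderOf_eq_one, one_zpow, QuotientGroup.mk_one]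
    have hcN : c ∈ Subgroup.normalizer (H : Set G) := hl ▸ mul_mem hn (Subgroup.le_normalizer (zpow_mem hgH l))
    have hB : g * c * g⁻¹ * c⁻¹ ∈ A ⊓ H := by
      refine Subgroup.mem_inf.2 ⟨A.mul_mem (hAn.conj_mem c hc' g) (A.inv_mem hc'), ?_⟩
      rw [show g * c * g⁻¹ * c⁻¹ = g * (c * g⁻¹ * c⁻¹) by group]
      exact H.mul_mem hgH ((Subgroup.mem_normalizer_iff.1 hcN _).1 (H.inv_mem hgH))
    let f : ↥(A ⊓ H) → ↥(A ⊓ H) := fun u => ⟨g * u * g⁻¹ * (u : G)⁻¹, Subgroup.mem_inf.2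
      ⟨A.mul_mem (hAn.conj_mem _ u.2.1 g) (A.inv_mem u.2.1),
        H.mul_mem (H.mul_mem (H.mul_mem hgH u.2.2) (H.inv_mem hgH)) (H.inv_mem u.2.2)⟩⟩
    have hinj : ∀ u ∈ A, ∀ v ∈ A, g * u * g⁻¹ * u⁻¹ = g * v * g⁻¹ * v⁻¹ → u = v := by
      intro u hu v hv h
      have h1 : g * u * g⁻¹ = g * v * g⁻¹ * v⁻¹ * u := by rw [← h]; group
      rw [← inv_mul_eq_one]
      refine hfix _ (A.mul_mem (A.inv_mem hu) hv) ?_
      have hdA : g * v * g⁻¹ * v⁻¹ ∈ A := A.mul_mem (hAn.conj_mem v hv g) (A.inv_mem hv)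
      rw [show g * (u⁻¹ * v) * g⁻¹ = (g * u * g⁻¹)⁻¹ * (g * v * g⁻¹) by group, h1,
        show g * v * g⁻¹ = g * v * g⁻¹ * v⁻¹ * v by group]
      group
    have hfi : Function.Injective f := fun u v h => Subtype.ext (hinj _ u.2.1 _ v.2.1 (congrArg Subtype.val h))
    obtain ⟨u, hu⟩ := (Finite.injective_iff_surjective.1 hfi) ⟨_, hB⟩
    have huc : (u : G) = c := hinj _ u.2.1 _ hc' (congrArg Subtype.val hu)
    rw [show n = c * (g ^ l)⁻¹ by rw [← hl]; group]
    exact H.mul_mem (huc ▸ u.2.2) (H.inv_mem (zpow_mem hgH l))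

end Cfsg.Agent.S4071
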