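import Cfsg.Statements.S4072
import Cfsg.Agent.Transfer.Frobenius
import Cfsg.Agent.SolvStruct.CyclicSylowCoreFree

set_option autoImplicit false
open Cfsg

namespace Cfsg.Agent.S4072

open scoped commutatorElement

open Subgroup in
theorem centralizes_abelian {G : Type*} [Group G] [Finite G]
    (hS : ∀ H : Subgroup G, ¬ IsMulCommutative H → Subgroup.normalizer (H : Set G) = H)
    {p : ℕ} [Fact p.Prime] {z : G} (hz : z ∈ Subgroup.center G) (hzp : orderOf z = p)
    {Q : Subgroup G} (hQ : IsPGroup p Q) (hab : IsMulCommutative Q) {y : G}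
    (hy : y ∈ Subgroup.normalizer (Q : Set G)) (hcop : (orderOf y).Coprime p) :
    y ∈ Subgroup.centralizer (Q : Set G) := by
  have hcomm : ∀ a ∈ Q, ∀ b ∈ Q, a * b = b * a := fun a ha b hb =>
    congrArg Subtype.val (hab.is_comm.comm (⟨a, ha⟩ : Q) ⟨b, hb⟩)
  have hconj : ∀ a ∈ Q, y * a * y⁻¹ ∈ Q := fun a ha => (Subgroup.mem_normalizer_iff.1 hy a).1 ha
  have hδ : ∀ a ∈ Q, y * a * y⁻¹ * a⁻¹ ∈ Q := fun a ha => Q.mul_mem (hconj a ha) (Q.inv_mem ha)
  have hstab : ∀ a ∈ Q, y * (y * a * y⁻¹ * a⁻¹) * y⁻¹ = y * a * y⁻¹ * a⁻¹ → y * a * y⁻¹ * a⁻¹ = 1 := by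
    intro a ha hfix
    set d := y * a * y⁻¹ * a⁻¹ with hd
    have hk : ∀ k : ℕ, y ^ k * a * (y ^ k)⁻¹ = d ^ k * a := by
      intro k
      induction k with
      | zero => simp
      | succ k ih =>
        rw [pow_succ' y, show y * y ^ k * a * (y * y ^ k)⁻¹ = y * (y ^ k * a * (y ^ k)⁻¹) * y⁻¹ by group, ih,
          show y * (d ^ k * a) * y⁻¹ = (y * d * y⁻¹) ^ k * (y * a * y⁻¹) by rw [conj_pow]; group, hfix, pow_succ, hd]
        group
    have h1 := hk (orderOf y)
    rw [pow_orderOf_eq_one, one_mul, inv_one, mul_one, right_eq_mul] at h1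
    obtain ⟨i, hi⟩ := IsPGroup.iff_orderOf.1 hQ ⟨d, hδ a ha⟩
    rw [Subgroup.orderOf_mk] at hi
    exact orderOf_eq_one_iff.1 (Nat.eq_one_of_dvd_coprimes (Nat.Coprime.pow_right i hcop)
      (orderOf_dvd_of_pow_eq_one h1) hi.dvd)
  let W : Subgroup G :=
    { carrier := {w | ∃ a ∈ Q, w = y * a * y⁻¹ * a⁻¹}
      one_mem' := ⟨1, Q.one_mem, by group⟩
      mul_mem' := by
        rintro _ _ ⟨a, ha, rfl⟩ ⟨b, hb, rfl⟩
        refine ⟨a * b, Q.mul_mem ha hb, ?_⟩
        rw [show y * (a * b) * y⁻¹ * (a * b)⁻¹ = (y * a * y⁻¹) * ((y * b * y⁻¹ * b⁻¹) * a⁻¹) by group,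
          hcomm _ (hδ b hb) _ (Q.inv_mem ha)]
        group
      inv_mem' := by
        rintro _ ⟨a, ha, rfl⟩
        refine ⟨a⁻¹, Q.inv_mem ha, ?_⟩
        rw [show (y * a * y⁻¹ * a⁻¹)⁻¹ = a * (y * a⁻¹ * y⁻¹) by group, hcomm _ ha _ (hconj _ (Q.inv_mem ha))]
        group }
  have hWy : Subgroup.zpowers y ≤ Subgroup.normalizer (W : Set G) := by
    rw [Subgroup.zpowers_le]
    refine Subgroup.mem_normalizer_fintype ?_
    rintro _ ⟨a, ha, rfl⟩
    exact ⟨y * a * y⁻¹, hconj a ha, by group⟩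
  rw [Subgroup.mem_centralizer_iff]
  intro a ha
  by_contra hne
  have hd1 : y * a * y⁻¹ * a⁻¹ ≠ 1 := fun h => hne (by
    rw [mul_inv_eq_one, mul_inv_eq_iff_eq_mul] at h; exact h.symm)
  have hnab : ¬ IsMulCommutative ↥(W ⊔ Subgroup.zpowers y) := by
    intro h
    refine hd1 (hstab a ha ?_)
    have := congrArg Subtype.val (h.is_comm.comm
      (⟨y, Subgroup.mem_sup_right (Subgroup.mem_zpowers y)⟩ : ↥(W ⊔ Subgroup.zpowers y))
      ⟨_, Subgroup.mem_sup_left ⟨a, ha, rfl⟩⟩)
    exact mul_inv_eq_iff_eq_mul.2 this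
  have hzH : z ∈ W ⊔ Subgroup.zpowers y := by
    rw [← hS _ hnab]
    exact Subgroup.center_le_normalizer _ hz
  rw [← SetLike.mem_coe, Subgroup.coe_mul_of_right_le_normalizer_left _ _ hWy] at hzH
  obtain ⟨w, hw, v, hv, hwv⟩ := hzH
  dsimp only at hwv
  obtain ⟨b, hb, rfl⟩ := hw
  set d := y * b * y⁻¹ * b⁻¹ with hd
  have hv1 : v = 1 := by
    obtain ⟨i, hi⟩ := IsPGroup.iff_orderOf.1 hQ ⟨d, hδ b hb⟩
    rw [Subgroup.orderOf_mk] at hi
    have hv' : v = d⁻¹ * z := by rw [← hwv]; group
    have hc : Commute d⁻¹ z := (Subgroup.mem_center_iff.1 hz _)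
    have hvp : orderOf v ∣ p ^ (i + 1) := by
      refine orderOf_dvd_of_pow_eq_one ?_
      rw [hv', hc.mul_pow, inv_pow, pow_succ p i, pow_mul d, ← hi, pow_orderOf_eq_one, one_pow, inv_one, one_mul,
        mul_comm (orderOf d) p, pow_mul, ← hzp, pow_orderOf_eq_one, one_pow]
    exact orderOf_eq_one_iff.1 (Nat.eq_one_of_dvd_coprimes (Nat.Coprime.pow_right (i + 1) hcop)
      (orderOf_dvd_of_mem_zpowers hv) hvp)
  rw [hv1, mul_one] at hwv
  have hd0 : d = 1 := hstab b hb (by rw [← hd, hwv, Subgroup.mem_center_iff.1 hz y, mul_inv_cancel_right])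
  rw [hd0] at hwv
  rw [← hwv, orderOf_one] at hzp
  exact (Fact.out : p.Prime).ne_one hzp.symm


/-- A finite group in which every non-abelian subgroup is self-normalizing is solvable or simple. -/
theorem result {G : Type*} [Group G] [Finite G] (hS : ∀ H : Subgroup G, ¬ IsMulCommutative H → Subgroup.normalizer (H : Set G) = H) :
    Group.IsSolvable G ∨ IsSimpleGroup G := by
  by_cases hsol : Group.IsSolvable G
  · exact Or.inl hsol
  right
  haveI hnt : Nontrivial G := by
    by_contra h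
    rw [not_nontrivial_iff_subsingleton] at h
    exact hsol inferInstance
  have hab : ∀ N : Subgroup G, N.Normal → N ≠ ⊤ → IsMulCommutative N := fun N hN hNt => by
    by_contra h
    exact hNt ((hS N h).symm.trans (Subgroup.normalizer_eq_top_iff.2 hN))
  have hsolv : ∀ N : Subgroup G, N.Normal → IsMulCommutative N → commutator G ≤ N → False := fun N hN hc hle => by
    haveI : Group.IsSolvable N := Group.isSolvable_of_comm fun a b => hc.is_comm.comm a b
    haveI := hN
    haveI : IsMulCommutative (G ⧸ N) := (Subgroup.Normal.quotient_commutative_iff_commutator_le).2 hle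
    haveI : Group.IsSolvable (G ⧸ N) := Group.isSolvable_of_comm fun a b => mul_comm' a b
    exact hsol (solvable_of_ker_le_range N.subtype (QuotientGroup.mk' N) (by rw [QuotientGroup.ker_mk', Subgroup.range_subtype]))
  have hperf : commutator G = ⊤ := by
    by_contra h
    exact hsolv _ inferInstance (hab _ inferInstance h) le_rfl
  by_contra hsimple
  obtain ⟨N, hN, hN1, hNt⟩ : ∃ N : Subgroup G, N.Normal ∧ N ≠ ⊥ ∧ N ≠ ⊤ := by
    by_contra h
    push Not at h
    exact hsimple ⟨fun N hN => or_iff_not_imp_left.2 (h N hN)⟩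
  obtain ⟨M, ⟨hMn, hNM, hMt⟩, hmax⟩ := WellFounded.has_min (wellFounded_gt (α := Subgroup G))
    {K | K.Normal ∧ N ≤ K ∧ K ≠ ⊤} ⟨N, hN, le_rfl, hNt⟩
  haveI := hMn
  have hMc := hab M hMn hMt
  have hM1 : M ≠ ⊥ := fun h => hN1 (le_bot_iff.1 (h ▸ hNM))
  have hmax' : ∀ K : Subgroup G, K.Normal → M ≤ K → K = M ∨ K = ⊤ := fun K hK hMK => by
    by_contra h
    push Not at h
    exact hmax K ⟨hK, hNM.trans hMK, h.2⟩ (lt_of_le_of_ne hMK (Ne.symm h.1))
  rcases hmax' (Subgroup.centralizer (M : Set G)) inferInstance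
      (fun x hx => Subgroup.mem_centralizer_iff.2 fun y hy =>
        congrArg Subtype.val (hMc.is_comm.comm (⟨y, hy⟩ : M) ⟨x, hx⟩)) with hCM | hCtop
  · -- `M` is self-centralising
    have hHab : ∀ g : G, g ∉ M → Subgroup.normalizer ((M ⊔ Subgroup.zpowers g : Subgroup G) : Set G) = M ⊔ Subgroup.zpowers g := by
      intro g hg
      refine hS _ fun h => hg ?_
      rw [← hCM]
      exact Subgroup.mem_centralizer_iff.2 fun y hy => congrArg Subtype.val (h.is_comm.comm
        (⟨y, Subgroup.mem_sup_left hy⟩ : ↥(M ⊔ Subgroup.zpowers g)) ⟨g, Subgroup.mem_sup_right (Subgroup.mem_zpowers g)⟩)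
    have hself : ∀ c : G ⧸ M, c ≠ 1 → Subgroup.normalizer (Subgroup.zpowers c : Set (G ⧸ M)) = Subgroup.zpowers c := by
      intro c hc
      induction c using QuotientGroup.induction_on with
      | H g =>
        have hg : g ∉ M := fun h => hc ((QuotientGroup.eq_one_iff g).2 h)
        have e : Subgroup.zpowers (g : G ⧸ M) = (M ⊔ Subgroup.zpowers g).map (QuotientGroup.mk' M) := by
          rw [Subgroup.map_sup, QuotientGroup.map_mk'_self, bot_sup_eq, MonoidHom.map_zpowers]
          rfl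
        refine le_antisymm (fun x hx => ?_) Subgroup.le_normalizer
        induction x using QuotientGroup.induction_on with
        | H x =>
          have hcm : (Subgroup.zpowers (g : G ⧸ M)).comap (QuotientGroup.mk' M) = M ⊔ Subgroup.zpowers g := by
            rw [e, Subgroup.comap_map_eq, QuotientGroup.ker_mk', sup_assoc, sup_comm _ M, ← sup_assoc, sup_idem]
          have hxN : x ∈ Subgroup.normalizer ((M ⊔ Subgroup.zpowers g : Subgroup G) : Set G) := by
            refine Subgroup.mem_normalizer_iff.2 fun w => ?_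
            rw [← hcm, Subgroup.mem_comap, Subgroup.mem_comap, map_mul, map_mul, map_inv]
            exact Subgroup.mem_normalizer_iff.1 hx _
          rw [hHab g hg] at hxN
          rw [e]
          exact Subgroup.mem_map_of_mem _ hxN
    haveI : Nontrivial (G ⧸ M) := QuotientGroup.nontrivial_iff.2 hMt
    obtain ⟨q, hq, hqd⟩ := Nat.exists_prime_and_dvd (Finite.one_lt_card (α := G ⧸ M)).ne'
    haveI := Fact.mk hq
    obtain ⟨P⟩ : Nonempty (Sylow q (G ⧸ M)) := inferInstance
    have hP1 : (P : Subgroup (G ⧸ M)) ≠ ⊥ := P.ne_bot_of_dvd_card hqd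
    haveI := (Subgroup.nontrivial_iff_ne_bot _).2 hP1
    haveI := P.2.center_nontrivial
    obtain ⟨c, hc⟩ := exists_ne (1 : Subgroup.center (P : Subgroup (G ⧸ M)))
    set c' : G ⧸ M := ((c : (P : Subgroup (G ⧸ M))) : G ⧸ M) with hc'
    have hPle : (P : Subgroup (G ⧸ M)) = Subgroup.zpowers c' := by
      refine le_antisymm (fun x hx => ?_) (Subgroup.zpowers_le.2 (c : (P : Subgroup (G ⧸ M))).2)
      rw [← hself c' fun h => hc (Subtype.ext (Subtype.ext h))]
      refine Subgroup.centralizer_le_normalizer _ (Subgroup.mem_centralizer_iff.2 ?_)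
      rintro _ ⟨k, rfl⟩
      exact (((show Commute c' x from congrArg Subtype.val (Subgroup.mem_center_iff.1 c.2 ⟨x, hx⟩).symm)).zpow_left k).eq
    have hNC : Subgroup.normalizer ((P : Subgroup (G ⧸ M)) : Set (G ⧸ M)) ≤
        Subgroup.centralizer ((P : Subgroup (G ⧸ M)) : Set (G ⧸ M)) := by
      rw [hPle, hself c' fun h => hc (Subtype.ext (Subtype.ext h))]
      rintro _ ⟨i, rfl⟩
      refine Subgroup.mem_centralizer_iff.2 ?_
      rintro _ ⟨j, rfl⟩
      exact ((Commute.refl c').zpow_zpow j i).eq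
    have hc0 := MonoidHom.ker_transferSylow_isComplement' P hNC
    set K := (MonoidHom.transferSylow P hNC).ker with hK
    rcases hmax' (K.comap (QuotientGroup.mk' M)) inferInstance (fun m hm => by
        rw [Subgroup.mem_comap, QuotientGroup.mk'_apply, (QuotientGroup.eq_one_iff m).2 hm]; exact one_mem K) with h | h
    · have hKbot : K = ⊥ := by
        rw [← Subgroup.map_comap_eq_self_of_surjective (QuotientGroup.mk'_surjective M) K, h, QuotientGroup.map_mk'_self]
      rw [hKbot, Subgroup.isComplement'_bot_left] at hc0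
      refine hsolv M hMn hMc ((Subgroup.Normal.quotient_commutative_iff_commutator_le).1 ⟨⟨fun a b => ?_⟩⟩)
      have hall : ∀ a : G ⧸ M, a ∈ Subgroup.zpowers c' := fun a => hPle ▸ hc0 ▸ Subgroup.mem_top a
      obtain ⟨i, rfl⟩ := hall a
      obtain ⟨j, rfl⟩ := hall b
      exact ((Commute.refl c').zpow_zpow i j).eq
    · have hKtop : K = ⊤ := by
        rw [← Subgroup.map_comap_eq_self_of_surjective (QuotientGroup.mk'_surjective M) K, h,
          Subgroup.map_top_of_surjective _ (QuotientGroup.mk'_surjective M)]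
      rw [hKtop, Subgroup.isComplement'_top_left] at hc0
      exact hP1 hc0
  · -- `M` is central
    have hMz : M ≤ Subgroup.center G := fun m hm => Subgroup.mem_center_iff.2 fun g =>
      ((Subgroup.mem_centralizer_iff.1 (hCtop.symm ▸ Subgroup.mem_top g : g ∈ Subgroup.centralizer (M : Set G))) m hm).symm
    haveI := (Subgroup.nontrivial_iff_ne_bot M).2 hM1
    obtain ⟨q, hq, hqd⟩ := Nat.exists_prime_and_dvd (Finite.one_lt_card (α := M)).ne'
    haveI := Fact.mk hq
    obtain ⟨z, hz⟩ := exists_prime_orderOf_dvd_card' q hqd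
    rw [← Subgroup.orderOf_coe] at hz
    have hF : Cfsg.HasNormalPComplement q G := by
      refine Cfsg.Lib.Transfer.hasNormalPComplement_of_frobenius fun Q hQ g hg hcop => ?_
      by_cases hQc : IsMulCommutative Q
      · exact centralizes_abelian hS (hMz z.2) hz hQ hQc hg hcop
      · rw [hS Q hQc] at hg
        obtain ⟨i, hi⟩ := IsPGroup.iff_orderOf.1 hQ ⟨g, hg⟩
        rw [Subgroup.orderOf_mk] at hi
        have : g = 1 := orderOf_eq_one_iff.1 (Nat.eq_one_of_dvd_coprimes (hcop.pow_right i) dvd_rfl hi.dvd)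
        rw [this]; exact one_mem _
    obtain ⟨P, K, hK, hc⟩ := hF
    rcases hmax' (M ⊔ K) inferInstance le_sup_left with h | h
    · have hKle : K ≤ M := h ▸ le_sup_right
      have hKc : commutator G ≤ M ⊔ (P : Subgroup G) := le_top.trans (by
        rw [← hc.sup_eq_top]
        exact sup_le_sup_right hKle _)
      haveI := P.2.isNilpotent
      haveI : Group.IsSolvable (G ⧸ M) := by
        have hs : Function.Surjective ((QuotientGroup.mk' M).comp (P : Subgroup G).subtype) := by
          intro x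
          induction x using QuotientGroup.induction_on with
          | H x =>
            obtain ⟨m, hm, y, hy, rfl⟩ := Subgroup.mem_sup_of_normal_left.1
              (show x ∈ M ⊔ (P : Subgroup G) from (show (⊤ : Subgroup G) ≤ M ⊔ (P : Subgroup G) by
                rw [← hc.sup_eq_top]; exact sup_le_sup_right hKle _) (Subgroup.mem_top x))
            exact ⟨⟨y, hy⟩, by simp [(QuotientGroup.eq_one_iff m).2 hm]⟩
        exact solvable_of_surjective hs
      haveI : Group.IsSolvable M := Group.isSolvable_of_comm fun a b => hMc.is_comm.comm a b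
      exact hsol (solvable_of_ker_le_range M.subtype (QuotientGroup.mk' M) (by rw [QuotientGroup.ker_mk', Subgroup.range_subtype]))
    · -- `G` would have order prime to `q`
      have hKtop : K = ⊤ := by
        rw [eq_top_iff, ← hperf, commutator_def, Subgroup.commutator_le]
        intro a _ b _
        obtain ⟨m, hm, k, hk, rfl⟩ := Subgroup.mem_sup_of_normal_left.1 (h.symm ▸ Subgroup.mem_top a : a ∈ M ⊔ K)
        obtain ⟨m', hm', k', hk', rfl⟩ := Subgroup.mem_sup_of_normal_left.1 (h.symm ▸ Subgroup.mem_top b : b ∈ M ⊔ K)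
        have h1 := Subgroup.mem_center_iff.1 (hMz hm)
        have h2 := Subgroup.mem_center_iff.1 (hMz hm')
        have : ⁅m * k, m' * k'⁆ = ⁅k, k'⁆ := by
          rw [commutatorElement_def, commutatorElement_def, mul_inv_rev, mul_inv_rev]
          calc m * k * (m' * k') * (k⁻¹ * m⁻¹) * (k'⁻¹ * m'⁻¹)
              = m * (k * m') * (k' * k⁻¹) * m⁻¹ * (k'⁻¹ * m'⁻¹) := by group
            _ = m * (m' * k) * (k' * k⁻¹) * m⁻¹ * (k'⁻¹ * m'⁻¹) := by rw [h2 k]
            _ = m * (m' * (k * k' * k⁻¹)) * m⁻¹ * (k'⁻¹ * m'⁻¹) := by group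
            _ = (m' * (k * k' * k⁻¹)) * m * m⁻¹ * (k'⁻¹ * m'⁻¹) := by rw [← h1 (m' * (k * k' * k⁻¹))]
            _ = m' * (k * k' * k⁻¹ * k'⁻¹) * m'⁻¹ := by group
            _ = k * k' * k⁻¹ * k'⁻¹ := by rw [← h2 _, mul_inv_cancel_right]
        rw [this]
        exact K.mul_mem (K.mul_mem (K.mul_mem hk hk') (K.inv_mem hk)) (K.inv_mem hk')
      have hP1 : (P : Subgroup G) ≠ ⊥ := P.ne_bot_of_dvd_card (hqd.trans (Subgroup.card_subgroup_dvd_card M))
      rw [hKtop, Subgroup.isComplement'_top_left] at hc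
      exact hP1 hc

end Cfsg.Agent.S4072
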