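import Cfsg.Statements.S4073
import Cfsg.Agent.InvolCalc.CASimple
import Cfsg.Agent.InvolCalc.ElemCentPSL
import Cfsg.Agent.S0182
import Cfsg.Agent.Known.SLTwo.Torus
import Cfsg.Agent.Known.SLTwo.Tori
import Cfsg.Agent.Classical.Misc.SmallPSL
import Cfsg.Agent.Transfer.Control
import Cfsg.Agent.Transfer.Frobenius
import Cfsg.Agent.Transfer.FrobeniusApps

set_option autoImplicit false
open Cfsg

namespace Cfsg.Agent.S4073

open scoped commutatorElement
open Subgroup

/-- every non-abelian subgroup is its own normalizer -/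
private def SN (G : Type*) [Group G] : Prop :=
  ∀ H : Subgroup G, ¬ IsMulCommutative H → Subgroup.normalizer (H : Set G) = H

private theorem comm_of {G : Type*} [Group G] {H : Subgroup G} (hH : IsMulCommutative H) {a b : G} (ha : a ∈ H) (hb : b ∈ H) :
    a * b = b * a := congrArg Subtype.val (hH.is_comm.comm (⟨a, ha⟩ : H) ⟨b, hb⟩)

private theorem not_comm {G : Type*} [Group G] {H : Subgroup G} {a b : G} (ha : a ∈ H) (hb : b ∈ H) (h : a * b ≠ b * a) :
    ¬ IsMulCommutative H := fun hc => h (comm_of hc ha hb)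

private theorem mem_of_pow {G : Type*} [Group G] [Finite G] (H : Subgroup G) {g : G} {m : ℕ} (hm : g ^ m ∈ H)
    (hcop : (orderOf g).Coprime m) : g ∈ H := by
  obtain ⟨k, hk⟩ := exists_pow_eq_self_of_coprime (x := g) hcop.symm
  rw [← hk]
  exact H.pow_mem hm k

private theorem prime_card_of_self_normalizing {Q : Type*} [Group Q] [Finite Q]
    (h : ∀ H : Subgroup Q, H ≠ ⊥ → Subgroup.normalizer (H : Set Q) = H) (hne : Nat.card Q ≠ 1) :
    (Nat.card Q).Prime := by
  haveI : Fact (Nat.card Q).minFac.Prime := ⟨Nat.minFac_prime hne⟩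
  obtain ⟨x, hx⟩ := exists_prime_orderOf_dvd_card' (Nat.card Q).minFac (Nat.minFac_dvd _)
  set p := (Nat.card Q).minFac with hp
  have hx1 : x ≠ 1 := fun e => (Fact.out : p.Prime).ne_one (by rw [← hx, e, orderOf_one])
  have hZ : Subgroup.zpowers x ≠ ⊥ := by rwa [Ne, Subgroup.zpowers_eq_bot]
  obtain ⟨P, hP⟩ := (IsPGroup.of_card (n := 1)
    (by rw [Nat.card_zpowers, hx, pow_one]) : IsPGroup p (Subgroup.zpowers x)).exists_le_sylow
  have hxP := hP (Subgroup.mem_zpowers x)
  haveI : Nontrivial ↥(P : Subgroup Q) := ⟨⟨⟨x, hxP⟩, 1, fun e => hx1 (congrArg Subtype.val e)⟩⟩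
  haveI := P.2.center_nontrivial
  obtain ⟨⟨z, hz⟩, hz1⟩ := exists_ne (1 : ↥(Subgroup.center ↥(P : Subgroup Q)))
  rw [Subgroup.mem_center_iff] at hz
  have hcz : ∀ w : Q, Commute w x → w ∈ Subgroup.zpowers x := fun w hw => by
    rw [← h _ hZ]
    exact Subgroup.centralizer_le_normalizer _ (Subgroup.mem_centralizer_iff.2 fun y hy => by
      obtain ⟨i, rfl⟩ := hy
      exact (hw.zpow_right i).eq.symm)
  have hzZ := hcz z (congrArg Subtype.val (hz ⟨x, hxP⟩)).symm
  have hxz : x ∈ Subgroup.zpowers (z : Q) := by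
    obtain ⟨i, hi⟩ := hzZ
    have hcop : IsCoprime i (p : ℤ) := by
      refine Int.isCoprime_iff_gcd_eq_one.2 ?_
      rcases (Fact.out : p.Prime).eq_one_or_self_of_dvd (Int.gcd i p) (by exact_mod_cast Int.gcd_dvd_right i (p : ℤ)) with e | e
      · exact e
      · exfalso
        obtain ⟨j, hj⟩ : (p : ℤ) ∣ i := e ▸ Int.gcd_dvd_left i (p : ℤ)
        apply hz1
        refine Subtype.ext (Subtype.ext ?_)
        show (z : Q) = 1
        rw [← hi]
        show x ^ i = 1
        rw [hj, zpow_mul, zpow_natCast, ← hx, pow_orderOf_eq_one, one_zpow]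
    obtain ⟨u, v, huv⟩ := hcop
    refine ⟨u, ?_⟩
    show (z : Q) ^ u = x
    calc (z : Q) ^ u = x ^ (u * i) := by rw [← hi, mul_comm, zpow_mul]
      _ = x ^ (u * i + v * p) := by
        have h0 : x ^ (v * (p : ℤ)) = 1 := by
          rw [mul_comm, zpow_mul, zpow_natCast, ← hx, pow_orderOf_eq_one, one_zpow]
        rw [zpow_add, h0, mul_one]
      _ = x := by rw [huv, zpow_one]
  have hPZ : (P : Subgroup Q) = Subgroup.zpowers x := by
    refine le_antisymm (fun w hw => hcz w ?_) hP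
    obtain ⟨i, hi⟩ := hxz
    rw [← hi]
    exact (show Commute w (z : Q) from congrArg Subtype.val (hz ⟨w, hw⟩)).zpow_right i
  have hN : Subgroup.normalizer ((P : Subgroup Q) : Set Q) ≤ Subgroup.centralizer ((P : Subgroup Q) : Set Q) := by
    rw [hPZ, h _ hZ]
    rintro _ ⟨i, rfl⟩
    refine Subgroup.mem_centralizer_iff.2 ?_
    rintro _ ⟨j, rfl⟩
    exact ((Commute.refl x).zpow_zpow j i).eq
  obtain ⟨K, hKn, hK⟩ : ∃ K : Subgroup Q, K.Normal ∧ K.IsComplement' (P : Subgroup Q) :=
    ⟨_, MonoidHom.normal_ker _, MonoidHom.ker_transferSylow_isComplement' P hN⟩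
  by_cases hK1 : K = ⊥
  · subst hK1
    rw [Subgroup.isComplement'_bot_left] at hK
    rw [← Subgroup.card_top, ← hK, hPZ, Nat.card_zpowers, hx]
    exact Fact.out
  · have hKt := h K hK1
    rw [Subgroup.normalizer_eq_top] at hKt
    rw [← hKt, Subgroup.isComplement'_top_left, hPZ] at hK
    exact absurd hK hZ

private theorem transfer_eq_one {G : Type*} [Group G] [Finite G] {p : ℕ} [Fact p.Prime] (R : Sylow p G)
    (hR : IsMulCommutative ↥(R : Subgroup G)) {y : G} (hy : y ∈ (R : Subgroup G)) (hy' : y ∈ commutator G)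
    (hfix : ∀ n ∈ Subgroup.normalizer ((R : Subgroup G) : Set G), n * y * n⁻¹ = y) : y = 1 := by
  haveI := hR
  letI : CommGroup ↥(R : Subgroup G) :=
    { (inferInstance : Group ↥(R : Subgroup G)) with mul_comm := hR.is_comm.comm }
  let v : G →* ↥(R : Subgroup G) := MonoidHom.transfer (MonoidHom.id _)
  have key : ∀ (k : ℕ) (g₀ : G), g₀⁻¹ * y ^ k * g₀ ∈ (R : Subgroup G) → g₀⁻¹ * y ^ k * g₀ = y ^ k := by
    intro k g₀ hm
    have h1 : g₀⁻¹ * y ^ k * g₀⁻¹⁻¹ ∈ (R : Subgroup G) := by rwa [inv_inv]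
    obtain ⟨n, hn, he⟩ := Cfsg.Lib.Transfer.abelian_sylow_fusion R hR (y ^ k) g₀⁻¹ ((R : Subgroup G).pow_mem hy k) h1
    rw [inv_inv] at he
    rw [he, ← conj_pow, hfix n hn]
  have h1 : v y = 1 := Abelianization.commutator_subset_ker v hy'
  rw [show v y = MonoidHom.transfer (MonoidHom.id _) y from rfl, MonoidHom.transfer_eq_pow _ _ key] at h1
  have h2 : y ^ (R : Subgroup G).index = 1 := congrArg Subtype.val h1
  obtain ⟨k, hk⟩ := R.2 ⟨y, hy⟩
  have h3 : y ^ p ^ k = 1 := congrArg Subtype.val hk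
  have := pow_gcd_eq_one (m := p ^ k) (n := (R : Subgroup G).index) |>.mpr ⟨h3, h2⟩
  rwa [Nat.Coprime.gcd_eq_one (((Fact.out : p.Prime).coprime_iff_not_dvd.2 R.not_dvd_index).pow_left k), pow_one] at this

variable {G : Type*} [Group G] [Finite G]

private theorem quot_prime (hG : SN G) (D : Subgroup G) (hD : IsMulCommutative D)
    (hne : ¬ Subgroup.normalizer (D : Set G) ≤ Subgroup.centralizer (D : Set G)) :
    ((Subgroup.centralizer (D : Set G)).relIndex (Subgroup.normalizer (D : Set G))).Prime := by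
  set N := Subgroup.normalizer (D : Set G)
  set C := (Subgroup.centralizer (D : Set G)).subgroupOf N with hC
  haveI : C.Normal := by
    refine ⟨fun c hc g => ?_⟩
    rw [hC, Subgroup.mem_subgroupOf, Subgroup.mem_centralizer_iff] at hc ⊢
    intro d hd
    have h1 : (g : G)⁻¹ * d * (g : G) ∈ D := (Subgroup.mem_normalizer_iff''.1 g.2 d).1 hd
    have h2 := hc _ h1
    push_cast
    calc d * ((g : G) * c * (g : G)⁻¹) = g * ((g : G)⁻¹ * d * g * c) * (g : G)⁻¹ := by group
      _ = g * (c * ((g : G)⁻¹ * d * g)) * (g : G)⁻¹ := by rw [h2]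
      _ = g * c * (g : G)⁻¹ * d := by group
  show C.index.Prime
  rw [Subgroup.index_eq_card]
  refine prime_card_of_self_normalizing (fun Hq hHq => ?_) fun h1 => hne ?_
  swap
  · rw [← Subgroup.index_eq_card, Subgroup.index_eq_one, hC, Subgroup.subgroupOf_eq_top] at h1
    exact h1
  refine le_antisymm ?_ Subgroup.le_normalizer
  intro xb hxb
  obtain ⟨x, rfl⟩ := QuotientGroup.mk'_surjective C xb
  set H := (Hq.comap (QuotientGroup.mk' C)).map N.subtype with hH
  have hDN : D ≤ N := Subgroup.le_normalizer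
  have hna : ¬ IsMulCommutative H := by
    obtain ⟨⟨hb, hhb⟩, hb1⟩ := Subgroup.ne_bot_iff_exists_ne_one.1 hHq
    obtain ⟨g, rfl⟩ := QuotientGroup.mk'_surjective C hb
    intro hcomm
    apply hb1
    refine Subtype.ext ((QuotientGroup.eq_one_iff g).2 ?_)
    rw [hC, Subgroup.mem_subgroupOf, Subgroup.mem_centralizer_iff]
    intro d hd
    refine comm_of hcomm ⟨⟨d, hDN hd⟩, ?_, rfl⟩ ⟨g, hhb, rfl⟩
    show QuotientGroup.mk' C _ ∈ Hq
    rw [QuotientGroup.mk'_apply, (QuotientGroup.eq_one_iff (N := C) _).2 ?_]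
    · exact Hq.one_mem
    · rw [hC, Subgroup.mem_subgroupOf, Subgroup.mem_centralizer_iff]
      exact fun e he => comm_of hD he hd
  have hx : (x : G) ∈ Subgroup.normalizer (H : Set G) := by
    refine Subgroup.mem_normalizer_iff.2 fun w => ⟨?_, ?_⟩
    · rintro ⟨u, hu, rfl⟩
      refine ⟨x * u * x⁻¹, ?_, rfl⟩
      show QuotientGroup.mk' C _ ∈ Hq
      rw [map_mul, map_mul, map_inv]
      exact (Subgroup.mem_normalizer_iff.1 hxb _).1 hu
    · rintro ⟨u, hu, e⟩
      refine ⟨x⁻¹ * u * x, ?_, ?_⟩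
      · show QuotientGroup.mk' C _ ∈ Hq
        refine (Subgroup.mem_normalizer_iff.1 hxb _).2 ?_
        rw [← map_inv, ← map_mul, ← map_mul]
        simpa [mul_assoc] using hu
      · simp only [map_mul, map_inv, Subgroup.coe_subtype] at e ⊢
        rw [e]; group
  rw [hG H hna] at hx
  obtain ⟨u, hu, e⟩ := hx
  rwa [show u = x from Subtype.ext e] at hu

variable [IsSimpleGroup G]

private theorem sylow_comm (hG : SN G) (hna : ¬ IsMulCommutative G) {p : ℕ} [Fact p.Prime] (R : Sylow p G) :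
    IsMulCommutative ↥(R : Subgroup G) := by
  classical
  by_contra hR
  have hpc : Cfsg.HasNormalPComplement p G := by
    refine Cfsg.Lib.Transfer.hasNormalPComplement_of_frobenius fun Q hQ g hg hcop => ?_
    by_contra hgC
    obtain ⟨Q, ⟨hQ, g, hg, hcop, hgC⟩, hmax⟩ := Set.exists_max_image
      {Q : Subgroup G | IsPGroup p Q ∧ ∃ g ∈ Subgroup.normalizer (Q : Set G), (orderOf g).Coprime p ∧ g ∉ Subgroup.centralizer (Q : Set G)}
      (fun Q => Nat.card Q) (Set.toFinite _) ⟨Q, hQ, g, hg, hcop, hgC⟩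
    have hQc : IsMulCommutative Q := by
      by_contra hc
      rw [hG Q hc] at hg
      obtain ⟨k, hk⟩ := hQ ⟨g, hg⟩
      have h1 : g ^ p ^ k = 1 := congrArg Subtype.val hk
      have : g = 1 := by
        rw [← orderOf_eq_one_iff]
        exact Nat.eq_one_of_dvd_coprimes (hcop.pow_right k) dvd_rfl (orderOf_dvd_of_pow_eq_one h1)
      exact hgC (this ▸ one_mem _)
    set N := Subgroup.normalizer (Q : Set G)
    have hr := quot_prime hG Q hQc (fun h => hgC (h hg))
    set C := (Subgroup.centralizer (Q : Set G)).subgroupOf N with hC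
    haveI hCn : C.Normal := by
      refine ⟨fun c hc n => ?_⟩
      rw [hC, Subgroup.mem_subgroupOf, Subgroup.mem_centralizer_iff] at hc ⊢
      intro d hd
      have h2 := hc _ ((Subgroup.mem_normalizer_iff''.1 n.2 d).1 hd)
      push_cast
      calc d * ((n : G) * c * (n : G)⁻¹) = n * ((n : G)⁻¹ * d * n * c) * (n : G)⁻¹ := by group
        _ = n * (c * ((n : G)⁻¹ * d * n)) * (n : G)⁻¹ := by rw [h2]
        _ = n * c * (n : G)⁻¹ * d := by group
    set r := C.index
    have hr' : r.Prime := hr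
    have hrp : r ≠ p := fun e => hgC (show g ∈ Subgroup.centralizer (Q : Set G) from by
      have h1 := Subgroup.pow_index_mem C ⟨g, hg⟩
      rw [hC, Subgroup.mem_subgroupOf] at h1
      exact mem_of_pow _ h1 (by rw [show C.index = p from e]; exact hcop))
    obtain ⟨S, hS⟩ := (hQ.of_equiv (Subgroup.subgroupOfEquivOfLe Subgroup.le_normalizer).symm :
      IsPGroup p (Q.subgroupOf N)).exists_le_sylow
    have hSC : (S : Subgroup N) ≤ C := fun u hu => by
      obtain ⟨k, hk⟩ := S.2 ⟨u, hu⟩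
      refine mem_of_pow C (Subgroup.pow_index_mem C u) ?_
      exact Nat.Coprime.coprime_dvd_left (orderOf_dvd_of_pow_eq_one (congrArg Subtype.val hk))
        (((Nat.coprime_primes Fact.out hr').2 (Ne.symm hrp)).pow_left k)
    set S' := (S : Subgroup N).map N.subtype
    have hQS : Q ≤ S' := fun x hx => ⟨⟨x, Subgroup.le_normalizer hx⟩, hS hx, rfl⟩
    have hmem : S' ∈ {Q : Subgroup G | IsPGroup p Q ∧ ∃ g ∈ Subgroup.normalizer (Q : Set G), (orderOf g).Coprime p ∧ g ∉ Subgroup.centralizer (Q : Set G)} := by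
      refine ⟨S.2.map _, ?_⟩
      obtain ⟨n, hn, hnC⟩ : ∃ n : N, n ∈ Subgroup.normalizer ((S : Subgroup N) : Set N) ∧ n ∉ C := by
        by_contra hcon
        push Not at hcon
        have htop := Sylow.normalizer_sup_eq_top' S hSC
        rw [sup_eq_right.2 hcon] at htop
        refine hgC ?_
        have : (⟨g, hg⟩ : N) ∈ C := htop ▸ Subgroup.mem_top _
        exact this
      obtain ⟨a, b, ha, hb, hab, ⟨k, hk⟩, hbc⟩ := Cfsg.Lib.Transfer.exists_pPart p n
      have haC : a ∈ C := mem_of_pow C (Subgroup.pow_index_mem C a) (by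
        rw [hk]; exact ((Nat.coprime_primes Fact.out hr').2 (Ne.symm hrp)).pow_left k)
      have hbC : b ∉ C := fun h => hnC (hab ▸ C.mul_mem haC h)
      refine ⟨b, ?_, ?_, fun h => hbC (show (b : G) ∈ Subgroup.centralizer (Q : Set G) from
        Subgroup.centralizer_le (fun x hx => hQS hx) h)⟩
      · have hb' : b ∈ Subgroup.normalizer ((S : Subgroup N) : Set N) := (Subgroup.zpowers_le.2 hn) hb
        exact Subgroup.le_normalizer_map N.subtype ⟨b, hb', rfl⟩
      · rwa [Subgroup.orderOf_coe]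
    have hSQ : S' = Q := (Subgroup.eq_of_le_of_card_ge hQS (hmax _ hmem)).symm
    obtain ⟨R', hR'⟩ := hQ.exists_le_sylow
    have hlt : Q < (R' : Subgroup G) := by
      refine lt_of_le_of_ne hR' fun e => hR ?_
      rw [e] at hQc
      obtain ⟨c, rfl⟩ := MulAction.exists_smul_eq G R' R
      refine ⟨⟨fun a b => Subtype.ext ?_⟩⟩
      have key : ∀ z ∈ ((c • R' : Sylow p G) : Subgroup G), c⁻¹ * z * c ∈ (R' : Subgroup G) := fun z hz => by
        rwa [Cfsg.Lib.Transfer.sylow_smul_coe, Cfsg.Lib.Transfer.mem_map_conj] at hz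
      have e2 := comm_of hQc (key a a.2) (key b b.2)
      calc (a : G) * b = c * (c⁻¹ * a * c * (c⁻¹ * b * c)) * c⁻¹ := by group
        _ = c * (c⁻¹ * b * c * (c⁻¹ * a * c)) * c⁻¹ := by rw [e2]
        _ = b * a := by group
    have hlt2 := Cfsg.Lib.Transfer.lt_inf_normalizer_of_lt R' hlt
    set W := (R' : Subgroup G) ⊓ N
    have hWN : W.subgroupOf N = (S : Subgroup N) := by
      refine S.3 ((R'.2.to_le inf_le_left).of_equiv (Subgroup.subgroupOfEquivOfLe inf_le_right).symm) ?_
      intro u hu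
      have : (u : G) ∈ Q := hSQ ▸ ⟨u, hu, rfl⟩
      exact hlt2.le this
    refine hlt2.2 fun w hw => ?_
    rw [← hSQ]
    exact ⟨⟨w, hw.2⟩, hWN ▸ (show (⟨w, hw.2⟩ : N) ∈ W.subgroupOf N from hw), rfl⟩
  obtain ⟨N, hN, hc, k, hk⟩ := Cfsg.Lib.Transfer.hasNormalPComplement_iff.1 hpc
  rcases hN.eq_bot_or_eq_top with e | e
  · rw [e, Subgroup.index_bot] at hk
    haveI : Nontrivial G := IsSimpleGroup.toNontrivial
    haveI := (IsPGroup.of_card hk).center_nontrivial
    rcases (inferInstance : (Subgroup.center G).Normal).eq_bot_or_eq_top with e' | e'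
    · exact not_nontrivial_iff_subsingleton.2 (by rw [e']; infer_instance) ‹Nontrivial (Subgroup.center G)›
    · exact hna ⟨⟨fun a b => Subgroup.mem_center_iff.1 (e' ▸ Subgroup.mem_top b) a⟩⟩
  · rw [e, Subgroup.card_top] at hc
    refine hR ?_
    have h1 : Nat.card ↥(R : Subgroup G) = 1 :=
      Nat.eq_one_of_dvd_coprimes (hc.pow_right _) (Subgroup.card_subgroup_dvd_card _) (dvd_of_eq R.2.exists_card_eq.choose_spec)
    haveI : Subsingleton ↥(R : Subgroup G) := (Nat.card_eq_one_iff_unique.1 h1).1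
    exact ⟨⟨fun a b => Subsingleton.elim _ _⟩⟩

private theorem pgroup_comm (hG : SN G) (hna : ¬ IsMulCommutative G) {p : ℕ} [Fact p.Prime] {H : Subgroup G}
    (hH : IsPGroup p H) : IsMulCommutative H := by
  obtain ⟨S, hS⟩ := hH.exists_le_sylow
  exact ⟨⟨fun a b => Subtype.ext (comm_of (sylow_comm hG hna S) (hS a.2) (hS b.2))⟩⟩

private theorem prime_cent (hG : SN G) (hna : ¬ IsMulCommutative G) {y : G} (q : ℕ) [Fact q.Prime] (hy : orderOf y = q) :
    IsMulCommutative ↥(Subgroup.centralizer ({y} : Set G)) := by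
  classical
  by_contra hM
  set M := Subgroup.centralizer ({y} : Set G) with hMdef
  have hNM := hG M hM
  have hyM : y ∈ M := Subgroup.mem_centralizer_singleton_iff.2 rfl
  have hy1 : y ≠ 1 := fun e => (Fact.out : q.Prime).ne_one (by rw [← hy, e, orderOf_one])
  have hTM : ∀ {r : ℕ} [Fact r.Prime] (S : Sylow r M), IsMulCommutative ↥(S : Subgroup M) := fun {r} _ S => by
    have := pgroup_comm hG hna (S.2.map M.subtype)
    exact ⟨⟨fun a b => Subtype.ext (Subtype.ext (comm_of this ⟨a, a.2, rfl⟩ ⟨b, b.2, rfl⟩))⟩⟩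
  have hcentral : ∀ z : M, z ∈ Subgroup.center M → z ∈ commutator M → ∀ r k : ℕ, r.Prime → orderOf z = r ^ k → z = 1 := by
    intro z hz hz' r k hr hk
    haveI : Fact r.Prime := ⟨hr⟩
    obtain ⟨S, hS⟩ := (IsPGroup.of_card (n := k) (by rw [Nat.card_zpowers, hk]) : IsPGroup r (Subgroup.zpowers z)).exists_le_sylow
    refine transfer_eq_one S (hTM S) (hS (Subgroup.mem_zpowers z)) hz' fun n _ => ?_
    rw [Subgroup.mem_center_iff.1 hz n, mul_inv_cancel_right]
  have habel : ∀ L : Subgroup M, L.Normal → L ≠ ⊤ → ∀ a ∈ L, ∀ b ∈ L, a * b = b * a := by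
    intro L hL hLt a ha b hb
    by_contra hab
    refine hLt ((Subgroup.eq_top_iff' L).2 fun m => ?_)
    have hn : ¬ IsMulCommutative ↥(L.map M.subtype) :=
      not_comm (a := (a : G)) (b := (b : G)) ⟨a, ha, rfl⟩ ⟨b, hb, rfl⟩ (fun e => hab (Subtype.ext e))
    have hm : (m : G) ∈ Subgroup.normalizer ((L.map M.subtype : Subgroup G) : Set G) := by
      have hmN : m ∈ Subgroup.normalizer (L : Set M) := by rw [Subgroup.normalizer_eq_top]; exact Subgroup.mem_top m
      exact Subgroup.le_normalizer_map M.subtype ⟨m, hmN, rfl⟩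
    rw [hG _ hn] at hm
    obtain ⟨u, hu, e⟩ := hm
    rwa [show u = m from Subtype.ext e] at hu
  set yM : M := ⟨y, hyM⟩
  have hyC : yM ∈ Subgroup.center M := Subgroup.mem_center_iff.2 fun m =>
    Subtype.ext (Subgroup.mem_centralizer_singleton_iff.1 m.2)
  have hyMo : orderOf yM = q ^ 1 := by rw [pow_one, ← hy]; exact Subgroup.orderOf_mk y hyM
  have hyM1 : yM ≠ 1 := fun e => hy1 (congrArg Subtype.val e)
  have hy' : yM ∉ commutator M := fun h => hyM1 (hcentral yM hyC h q 1 Fact.out hyMo)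
  obtain ⟨K, ⟨hKne, hKle⟩, hKmax⟩ := Set.exists_max_image
    {K : Subgroup M | K ≠ ⊤ ∧ commutator M ≤ K} (fun K => Nat.card K) (Set.toFinite _)
    ⟨commutator M, fun e => hy' (e ▸ Subgroup.mem_top yM), le_rfl⟩
  haveI hKn : K.Normal := ⟨fun k hk g => by
    have h1 : ⁅g, k⁆ ∈ K := hKle (Subgroup.commutator_mem_commutator (Subgroup.mem_top g) (Subgroup.mem_top k))
    have h2 := K.mul_mem h1 hk
    rwa [commutatorElement_def, inv_mul_cancel_right] at h2⟩
  have hKab := habel K hKn hKne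
  have hgen : ∀ x : M, x ∉ K → K ⊔ Subgroup.zpowers x = ⊤ := fun x hx => by
    by_contra hne
    exact hx ((Subgroup.eq_of_le_of_card_ge le_sup_left (hKmax _ ⟨hne, hKle.trans le_sup_left⟩)).symm ▸
      (Subgroup.mem_sup_right (Subgroup.mem_zpowers x) : x ∈ K ⊔ Subgroup.zpowers x))
  have hcen : ∀ x : M, x ∉ K → ∀ c ∈ K, c * x = x * c → c ∈ Subgroup.center M := by
    intro x hx c hc hcx
    have hle : K ⊔ Subgroup.zpowers x ≤ Subgroup.centralizer ({c} : Set M) := by
      refine sup_le (fun k hk => Subgroup.mem_centralizer_singleton_iff.2 (hKab k hk c hc)) (Subgroup.zpowers_le.2 ?_)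
      exact Subgroup.mem_centralizer_singleton_iff.2 hcx.symm
    rw [hgen x hx, top_le_iff] at hle
    exact Subgroup.mem_center_iff.2 fun g => Subgroup.mem_centralizer_singleton_iff.1 (hle ▸ Subgroup.mem_top g)
  -- the derived subgroup and one outer element generate
  have hgen' : ∀ x : M, x ∉ K → ∀ r a : ℕ, r.Prime → orderOf x = r ^ a → commutator M ⊔ Subgroup.zpowers x = ⊤ := by
    intro x hx r a hr ha
    by_contra hne
    set L := commutator M ⊔ Subgroup.zpowers x
    have hLn : L.Normal := ⟨fun k hk g => by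
      have h1 : ⁅g, k⁆ ∈ L := Subgroup.mem_sup_left (Subgroup.commutator_mem_commutator (Subgroup.mem_top g) (Subgroup.mem_top k))
      have h2 := L.mul_mem h1 hk
      rwa [commutatorElement_def, inv_mul_cancel_right] at h2⟩
    have hLab := habel L hLn hne
    have hxk : ∀ k ∈ K, k * x = x * k := by
      intro k hk
      have hc' : ⁅k, x⁆ ∈ commutator M := Subgroup.commutator_mem_commutator (Subgroup.mem_top k) (Subgroup.mem_top x)
      have hcx : ⁅k, x⁆ * x = x * ⁅k, x⁆ := hLab _ (Subgroup.mem_sup_left hc') x (Subgroup.mem_sup_right (Subgroup.mem_zpowers x))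
      have hz := hcen x hx _ (hKle hc') hcx
      have he : k * x * k⁻¹ = ⁅k, x⁆ * x := by rw [commutatorElement_def, inv_mul_cancel_right]
      have hpow : ⁅k, x⁆ ^ (r ^ a) = 1 := by
        have h1 : (k * x * k⁻¹) ^ (r ^ a) = 1 := by rw [conj_pow, ← ha, pow_orderOf_eq_one, mul_one, mul_inv_cancel]
        rwa [he, (show Commute ⁅k, x⁆ x from hcx).mul_pow, ← ha, pow_orderOf_eq_one, mul_one, ha] at h1
      obtain ⟨j, -, hj⟩ := (Nat.dvd_prime_pow hr).1 (orderOf_dvd_of_pow_eq_one hpow)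
      have h1 := hcentral _ hz hc' r j hr hj
      exact commutatorElement_eq_one_iff_mul_comm.1 h1
    have hxc : x ∈ Subgroup.center M := by
      have hle : K ⊔ Subgroup.zpowers x ≤ Subgroup.centralizer ({x} : Set M) :=
        sup_le (fun k hk => Subgroup.mem_centralizer_singleton_iff.2 (hxk k hk))
          (Subgroup.zpowers_le.2 (Subgroup.mem_centralizer_singleton_iff.2 rfl))
      rw [hgen x hx, top_le_iff] at hle
      exact Subgroup.mem_center_iff.2 fun g => Subgroup.mem_centralizer_singleton_iff.1 (hle ▸ Subgroup.mem_top g)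
    refine hM ⟨⟨fun u v => ?_⟩⟩
    obtain ⟨k₁, hk₁, z₁, hz₁, rfl⟩ := Subgroup.mem_sup_of_normal_left.1 (hgen x hx ▸ Subgroup.mem_top u : u ∈ K ⊔ Subgroup.zpowers x)
    obtain ⟨k₂, hk₂, z₂, hz₂, rfl⟩ := Subgroup.mem_sup_of_normal_left.1 (hgen x hx ▸ Subgroup.mem_top v : v ∈ K ⊔ Subgroup.zpowers x)
    have hzc : ∀ z ∈ Subgroup.zpowers x, ∀ g : M, Commute g z := fun z hz g =>
      Subgroup.mem_center_iff.1 ((Subgroup.zpowers_le.2 hxc) hz) g
    exact (((show Commute k₁ k₂ from hKab k₁ hk₁ k₂ hk₂).mul_right (hzc z₂ hz₂ k₁)).mul_left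
      ((hzc z₁ hz₁ k₂).symm.mul_right (hzc z₂ hz₂ z₁))).eq
  have hrq : ∀ x : M, x ∉ K → ∀ r a : ℕ, r.Prime → orderOf x = r ^ a → r = q := by
    intro x hx r a hr ha
    by_contra hne
    haveI : (commutator M).Normal := inferInstance
    obtain ⟨c, hc, w, hw, hcw⟩ := Subgroup.mem_sup_of_normal_left.1 (hgen' x hx r a hr ha ▸ Subgroup.mem_top yM : yM ∈ commutator M ⊔ Subgroup.zpowers x)
    have hcw' : Commute c w := by
      have hc2 : c = yM * w⁻¹ := by rw [← hcw, mul_inv_cancel_right]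
      rw [hc2]
      exact ((show Commute yM w from (Subgroup.mem_center_iff.1 hyC w).symm).mul_left (Commute.refl w).inv_left)
    have h1 : yM ^ (r ^ a) ∈ commutator M := by
      rw [← hcw, hcw'.mul_pow]
      obtain ⟨i, rfl⟩ := hw
      simp only
      rw [← zpow_natCast (x ^ i), zpow_comm, zpow_natCast, ← ha, pow_orderOf_eq_one, one_zpow, mul_one]
      exact Subgroup.pow_mem _ hc _
    exact hy' (mem_of_pow _ h1 (by rw [hyMo, pow_one]; exact ((Nat.coprime_primes Fact.out hr).2 (Ne.symm hne)).pow_right a))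
  obtain ⟨R0, hR0⟩ := (IsPGroup.of_card (n := 1) (by rw [Nat.card_zpowers, hy, pow_one]) : IsPGroup q (Subgroup.zpowers y)).exists_le_sylow
  have hyR := hR0 (Subgroup.mem_zpowers y)
  have hR0c := sylow_comm hG hna R0
  have hR0M : (R0 : Subgroup G) ≤ M := fun w hw => Subgroup.mem_centralizer_singleton_iff.2 (comm_of hR0c hw hyR)
  set RM := R0.subtype hR0M with hRM
  obtain ⟨x, hxR, hxK⟩ : ∃ x ∈ (RM : Subgroup M), x ∉ K := by
    by_contra hcon
    push Not at hcon
    refine hKne (top_le_iff.1 (Cfsg.Lib.Transfer.le_of_forall_prime_pow fun g _ r k hr hk => ?_))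
    by_contra hgK
    obtain rfl := hrq g hgK r k hr hk
    obtain ⟨S, hS⟩ := (IsPGroup.of_card (n := k) (by rw [Nat.card_zpowers, hk]) : IsPGroup r (Subgroup.zpowers g)).exists_le_sylow
    obtain ⟨c, rfl⟩ := MulAction.exists_smul_eq M RM S
    have h1 := hS (Subgroup.mem_zpowers g)
    rw [Cfsg.Lib.Transfer.sylow_smul_coe, Cfsg.Lib.Transfer.mem_map_conj] at h1
    have h2 := hKn.conj_mem _ (hcon _ h1) c
    exact hgK (by simpa [mul_assoc] using h2)
  have hRMc := hTM RM
  obtain ⟨a, ha⟩ := IsPGroup.iff_orderOf.1 RM.2 ⟨x, hxR⟩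
  rw [Subgroup.orderOf_mk] at ha
  have hRcyc : (RM : Subgroup M) ≤ Subgroup.zpowers x := by
    intro z hz
    obtain ⟨c, hc, w, hw, hcw⟩ := Subgroup.mem_sup_of_normal_left.1 (hgen' x hxK q a Fact.out ha ▸ Subgroup.mem_top z : z ∈ commutator M ⊔ Subgroup.zpowers x)
    have hcR : c ∈ (RM : Subgroup M) := by
      rw [show c = z * w⁻¹ by rw [← hcw, mul_inv_cancel_right]]
      exact mul_mem hz (inv_mem ((Subgroup.zpowers_le.2 hxR) hw))
    obtain ⟨j, hj⟩ := IsPGroup.iff_orderOf.1 RM.2 ⟨c, hcR⟩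
    rw [Subgroup.orderOf_mk] at hj
    have hc1 := hcentral c (hcen x hxK c (hKle hc) (comm_of hRMc hcR hxR)) hc q j Fact.out hj
    rw [← hcw, hc1, one_mul]
    exact hw
  haveI hcycM : IsCyclic ↥(RM : Subgroup M) := Subgroup.isCyclic_of_le hRcyc
  haveI : IsCyclic ↥(R0 : Subgroup G) := by
    have e : ↥(RM : Subgroup M) ≃* ↥(R0 : Subgroup G) := Subgroup.subgroupOfEquivOfLe hR0M
    exact isCyclic_of_surjective e e.surjective
  refine hy1 (transfer_eq_one R0 hR0c hyR ?_ fun g hg => ?_)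
  · rcases (inferInstance : (commutator G).Normal).eq_bot_or_eq_top with e | e
    · refine absurd ⟨⟨fun u v => ?_⟩⟩ hna
      have h1 : ⁅u, v⁆ ∈ commutator G := Subgroup.commutator_mem_commutator (Subgroup.mem_top u) (Subgroup.mem_top v)
      rw [e, Subgroup.mem_bot] at h1
      exact commutatorElement_eq_one_iff_mul_comm.1 h1
    · rw [e]; exact Subgroup.mem_top y
  set yg : ↥(R0 : Subgroup G) := ⟨g * y * g⁻¹, (Subgroup.mem_normalizer_iff.1 hg y).1 hyR⟩
  set yr : ↥(R0 : Subgroup G) := ⟨y, hyR⟩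
  haveI := Fintype.ofFinite ↥(R0 : Subgroup G)
  have hcardle := IsCyclic.card_pow_eq_one_le (α := ↥(R0 : Subgroup G)) (Fact.out : q.Prime).pos
  have hyro : orderOf yr = q := (Subgroup.orderOf_mk y hyR).trans hy
  have hsub : (Subgroup.zpowers yr : Set ↥(R0 : Subgroup G)).toFinset ⊆ Finset.univ.filter (fun z => z ^ q = 1) := by
    intro z hz
    rw [Set.mem_toFinset] at hz
    refine Finset.mem_filter.2 ⟨Finset.mem_univ _, ?_⟩
    obtain ⟨i, rfl⟩ := hz
    simp only
    rw [← zpow_natCast (yr ^ i), zpow_comm, zpow_natCast, orderOf_dvd_iff_pow_eq_one.1 (dvd_of_eq hyro), one_zpow]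
  have heq := Finset.eq_of_subset_of_card_le hsub (hcardle.trans (le_of_eq (by
    rw [Set.toFinset_card, ← Nat.card_eq_fintype_card]; exact ((Nat.card_zpowers yr).trans hyro).symm)))
  have hygT : yg ∈ Finset.univ.filter (fun z : ↥(R0 : Subgroup G) => z ^ q = 1) := by
    refine Finset.mem_filter.2 ⟨Finset.mem_univ _, Subtype.ext ?_⟩
    show (g * y * g⁻¹) ^ q = 1
    rw [conj_pow, ← hy, pow_orderOf_eq_one, mul_one, mul_inv_cancel]
  rw [← heq, Set.mem_toFinset] at hygT
  obtain ⟨i, hi⟩ := hygT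
  have hi' : g * y * g⁻¹ = y ^ i := by
    have := congrArg Subtype.val hi
    simpa using this.symm
  have hgM : g⁻¹ ∈ Subgroup.normalizer (M : Set G) := by
    refine (Subgroup.inv_mem_iff _).2 (Subgroup.mem_normalizer_iff''.2 fun w => ?_)
    have key : ∀ w, w ∈ M → g⁻¹ * w * g ∈ M := by
      intro w hw
      have hwy : Commute w (g * y * g⁻¹) := hi' ▸ (show Commute w y from Subgroup.mem_centralizer_singleton_iff.1 hw).zpow_right i
      refine Subgroup.mem_centralizer_singleton_iff.2 ?_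
      calc g⁻¹ * w * g * y = g⁻¹ * (w * (g * y * g⁻¹)) * g := by group
        _ = g⁻¹ * (g * y * g⁻¹ * w) * g := by rw [hwy.eq]
        _ = y * (g⁻¹ * w * g) := by group
    refine ⟨key w, fun hw => ?_⟩
    -- the conjugation is injective on the finite set `M`
    have hsurj : ∃ u ∈ M, g⁻¹ * u * g = g⁻¹ * w * g := by
      haveI : Finite M := inferInstance
      obtain ⟨⟨u, hu⟩, he⟩ := (Finite.surjective_of_injective (f := fun u : M => (⟨g⁻¹ * u * g, key u u.2⟩ : M))
        (fun u v huv => Subtype.ext (by simpa using congrArg Subtype.val huv))) ⟨_, hw⟩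
      exact ⟨u, hu, congrArg Subtype.val he⟩
    obtain ⟨u, hu, he⟩ := hsurj
    rwa [← mul_left_cancel (mul_right_cancel he)]
  rw [hNM] at hgM
  have := Subgroup.mem_centralizer_singleton_iff.1 (inv_mem_iff.1 hgM)
  rw [this, mul_inv_cancel_right]

private theorem cent_comm' (hG : SN G) (hna : ¬ IsMulCommutative G) {y : G} (hy : y ≠ 1) :
    IsMulCommutative ↥(Subgroup.centralizer ({y} : Set G)) := by
  obtain ⟨q, hq, hd⟩ := Nat.exists_prime_and_dvd (fun e => hy (orderOf_eq_one_iff.1 e))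
  haveI : Fact q.Prime := ⟨hq⟩
  obtain ⟨m, hm⟩ := hd
  have hym : orderOf (y ^ m) = q := by
    have hm0 : m ≠ 0 := fun e => by rw [e, mul_zero] at hm; exact (orderOf_pos y).ne' hm
    rw [orderOf_pow, hm, Nat.gcd_eq_right (dvd_mul_left m q), Nat.mul_div_cancel _ (Nat.pos_of_ne_zero hm0)]
  have := prime_cent hG hna q hym
  exact ⟨⟨fun a b => Subtype.ext (comm_of this
    (Subgroup.mem_centralizer_singleton_iff.2 ((show Commute (a : G) y from Subgroup.mem_centralizer_singleton_iff.1 a.2).pow_right m).eq)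
    (Subgroup.mem_centralizer_singleton_iff.2 ((show Commute (b : G) y from Subgroup.mem_centralizer_singleton_iff.1 b.2).pow_right m).eq))⟩⟩

private theorem setup_of (hna : ¬ IsMulCommutative G)
    (hca : ∀ y : G, y ≠ 1 → ∀ a ∈ Subgroup.centralizer ({y} : Set G), ∀ b ∈ Subgroup.centralizer ({y} : Set G), a * b = b * a)
    {t : G} (ht : orderOf t = 2) : Cfsg.Lib.CASimple.Setup (Subgroup.centralizer ({t} : Set G)) := by
  have ht1 : t ≠ 1 := fun e => by rw [e, orderOf_one] at ht; omega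
  refine ⟨hca t ht1, fun y hy hy1 => le_antisymm (fun x hx => ?_) (fun x hx => ?_),
    ⟨t, Subgroup.mem_centralizer_singleton_iff.2 rfl, ht⟩, fun e => hna ?_⟩
  · exact Subgroup.mem_centralizer_singleton_iff.2 (hca y hy1 x hx t
      (Subgroup.mem_centralizer_singleton_iff.2 (Subgroup.mem_centralizer_singleton_iff.1 hy).symm))
  · exact Subgroup.mem_centralizer_singleton_iff.2 (hca t ht1 x hx y hy)
  · exact ⟨⟨fun a b => hca t ht1 a (e ▸ Subgroup.mem_top a) b (e ▸ Subgroup.mem_top b)⟩⟩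

private theorem not_solvable (hna : ¬ IsMulCommutative G) : ¬ Group.IsSolvable G := by
  intro hs
  rcases (inferInstance : (commutator G).Normal).eq_bot_or_eq_top with e | e
  · refine hna ⟨⟨fun u v => ?_⟩⟩
    have h1 : ⁅u, v⁆ ∈ commutator G := Subgroup.commutator_mem_commutator (Subgroup.mem_top u) (Subgroup.mem_top v)
    rw [e, Subgroup.mem_bot] at h1
    exact commutatorElement_eq_one_iff_mul_comm.1 h1
  · obtain ⟨n, hn⟩ := hs.solvable
    have : ∀ k, derivedSeries G k = ⊤ := fun k => by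
      induction k with
      | zero => rfl
      | succ k ih => rw [derivedSeries_succ, ih]; exact e
    rw [this n] at hn
    exact top_ne_bot hn

private theorem forward (hna : ¬ IsMulCommutative G) (hG : SN G) :
    ∃ n : ℕ, 2 ≤ n ∧ (2 ^ n - 1).Prime ∧
      Nonempty (G ≃* Matrix.ProjectiveSpecialLinearGroup (Fin 2) (GaloisField 2 n)) := by
  haveI : Fact (Nat.Prime 2) := ⟨Nat.prime_two⟩
  have hca : ∀ y : G, y ≠ 1 → ∀ a ∈ Subgroup.centralizer ({y} : Set G), ∀ b ∈ Subgroup.centralizer ({y} : Set G), a * b = b * a :=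
    fun y hy a ha b hb => comm_of (cent_comm' hG hna hy) ha hb
  have heven : 2 ∣ Nat.card G := by
    by_contra hodd
    exact not_solvable hna (Cfsg.Agent.S0182.result (Nat.not_even_iff_odd.1 fun he => hodd he.two_dvd) hca)
  obtain ⟨t, ht⟩ := exists_prime_orderOf_dvd_card' 2 heven
  have hS := setup_of hna hca ht
  have ht1 : t ≠ 1 := fun e => by rw [e, orderOf_one] at ht; omega
  set A := Subgroup.centralizer ({t} : Set G)
  obtain ⟨F, _, _, f, hf, hF, hA, ⟨e⟩⟩ := Cfsg.Lib.CASimple.psl hS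
  have hinv : Cfsg.Lib.CASimple.invPart hS = A :=
    le_antisymm (fun x hx => hx.1) fun x hx => ⟨hx, Cfsg.Lib.CASimple.sq_eq_one hS x hx⟩
  have hc := Cfsg.Lib.CASimple.card_invPart hS
  rw [hinv, hA] at hc
  have hCA : Subgroup.centralizer (A : Set G) = A := le_antisymm
    (fun x hx => Subgroup.mem_centralizer_singleton_iff.2 (Subgroup.mem_centralizer_iff.1 hx t (Subgroup.mem_centralizer_singleton_iff.2 rfl)).symm)
    (fun x hx => Subgroup.mem_centralizer_iff.2 fun y hy => hS.ab y hy x hx)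
  have h4 : 4 ≤ 2 ^ f := le_trans (by norm_num) (Nat.pow_le_pow_right two_pos hf)
  have hp := quot_prime hG A ⟨⟨fun a b => Subtype.ext (hS.ab a a.2 b b.2)⟩⟩ (fun h => by
    rw [hCA] at h
    have h1 : (A.subgroupOf (Subgroup.normalizer (A : Set G))).index = 1 :=
      Subgroup.index_eq_one.2 (Subgroup.subgroupOf_eq_top.2 h)
    omega)
  rw [hCA] at hp
  change (A.subgroupOf (Subgroup.normalizer (A : Set G))).index.Prime at hp
  refine ⟨f, hf, ?_, ?_⟩
  · rwa [show 2 ^ f - 1 = (A.subgroupOf (Subgroup.normalizer (A : Set G))).index by omega]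
  · haveI := Fintype.ofFinite (GaloisField 2 f)
    have hcard : Fintype.card F = Fintype.card (GaloisField 2 f) := by
      rw [hF, ← Nat.card_eq_fintype_card, GaloisField.card 2 f (by omega)]
    haveI : CharP F 2 := ringChar.eq_iff.1 (FiniteField.even_card_iff_char_two.2 (Nat.mod_eq_zero_of_dvd
      (hF ▸ dvd_pow_self 2 (by omega))))
    obtain ⟨e1⟩ := Cfsg.Lib.ElemCent.psl_equiv (F := F)
    obtain ⟨e2⟩ := Cfsg.Lib.ElemCent.psl_equiv (F := GaloisField 2 f)
    let ρ := FiniteField.ringEquivOfCardEq (K := F) (K' := GaloisField 2 f) hcard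
    let σ : Matrix.SpecialLinearGroup (Fin 2) F ≃* Matrix.SpecialLinearGroup (Fin 2) (GaloisField 2 f) :=
      { toFun := Matrix.SpecialLinearGroup.map ρ.toRingHom
        invFun := Matrix.SpecialLinearGroup.map ρ.symm.toRingHom
        left_inv := fun g => by ext i j; simp
        right_inv := fun g => by ext i j; simp
        map_mul' := map_mul _ }
    exact ⟨(e.trans e1.symm).trans (σ.trans e2)⟩

omit [Finite G] [IsSimpleGroup G] in
private theorem torus_conj {F : Type} [Field F] [CharP F 2] {v w : Matrix.SpecialLinearGroup (Fin 2) F}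
    (hv : v * v ≠ 1) (hconj : IsConj v w) (hcomm : w * v = v * w) : w = v ∨ w = v⁻¹ := by
  have hns : Cfsg.Lib.GLTwo.NonScalar (v : Matrix (Fin 2) (Fin 2) F) := by
    refine Cfsg.Lib.GLTwo.nonScalar_of_ne (fun h => hv (by rw [h, one_mul])) (fun h => hv ?_)
    rw [h, neg_one_mul, neg_neg]
  obtain ⟨a, b, hab⟩ := Cfsg.Lib.GLTwo.exists_combo hns (congrArg (fun z : Matrix.SpecialLinearGroup (Fin 2) F => (z : Matrix (Fin 2) (Fin 2) F)) hcomm)
  have htr := Cfsg.Lib.GLTwo.trace_eq_of_isConj hconj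
  rw [hab, Cfsg.Lib.GLTwo.trace_combo, CharTwo.two_eq_zero (R := F), zero_mul, zero_add] at htr
  obtain ⟨s, hs⟩ : ∃ s, s = (v : Matrix (Fin 2) (Fin 2) F).trace := ⟨_, rfl⟩
  rw [← hs] at htr
  have hs0 : s ≠ 0 := fun e => hv ?_
  swap
  · have h1 : (v⁻¹ : Matrix.SpecialLinearGroup (Fin 2) F) = v := Subtype.ext (by
      rw [Cfsg.Lib.GLTwo.coe_inv_combo, ← hs, e, Cfsg.Lib.GLTwo.combo, CharTwo.neg_eq, zero_smul, zero_add, one_smul])
    exact eq_inv_iff_mul_eq_one.1 h1.symm
  have hb : b = 1 := mul_right_cancel₀ hs0 (by rw [one_mul]; linear_combination -htr)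
  subst hb
  have hdet : (Cfsg.Lib.GLTwo.combo (v : Matrix (Fin 2) (Fin 2) F) a 1).det = 1 := by rw [← hab]; exact w.2
  rw [Cfsg.Lib.GLTwo.det_combo, v.2, ← hs] at hdet
  rcases mul_eq_zero.1 (show a * (a + s) = 0 by linear_combination hdet) with h | h
  · exact Or.inl (Subtype.ext (by rw [hab, h, Cfsg.Lib.GLTwo.combo, zero_smul, zero_add, one_smul]))
  · refine Or.inr (Subtype.ext ?_)
    rw [hab, Cfsg.Lib.GLTwo.coe_inv_combo, ← hs, CharTwo.neg_eq]
    rw [eq_neg_of_add_eq_zero_left h, CharTwo.neg_eq]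

private theorem backward (hna : ¬ IsMulCommutative G) (n : ℕ) (hn : 2 ≤ n) (hp : (2 ^ n - 1).Prime)
    (e : G ≃* Matrix.ProjectiveSpecialLinearGroup (Fin 2) (GaloisField 2 n)) : SN G := by
  classical
  haveI : Fact (Nat.Prime 2) := ⟨Nat.prime_two⟩
  set F := GaloisField 2 n
  haveI := Fintype.ofFinite F
  have hF : Fintype.card F = 2 ^ n := by rw [← Nat.card_eq_fintype_card, GaloisField.card 2 n (by omega)]
  haveI : CharP F 2 := inferInstance
  obtain ⟨e2⟩ := Cfsg.Lib.ElemCent.psl_equiv (F := F)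
  set φ := e.trans e2.symm
  have hca : ∀ y : G, y ≠ 1 → ∀ a ∈ Subgroup.centralizer ({y} : Set G), ∀ b ∈ Subgroup.centralizer ({y} : Set G), a * b = b * a := by
    intro y hy a ha b hb
    have hns : Cfsg.Lib.GLTwo.NonScalar ((φ y : Matrix.SpecialLinearGroup (Fin 2) F) : Matrix (Fin 2) (Fin 2) F) := by
      refine Cfsg.Lib.GLTwo.nonScalar_of_ne (fun h => hy (φ.injective (h.trans (map_one φ).symm))) (fun h => hy ?_)
      rw [Cfsg.Lib.GLTwo.neg_one_eq_one] at h
      exact φ.injective (h.trans (map_one φ).symm)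
    have h1 := Cfsg.Lib.GLTwo.cent_comm hns (φ a)
      (Subgroup.mem_centralizer_singleton_iff.2 (by rw [← map_mul, Subgroup.mem_centralizer_singleton_iff.1 ha, map_mul]))
      (φ b) (Subgroup.mem_centralizer_singleton_iff.2 (by rw [← map_mul, Subgroup.mem_centralizer_singleton_iff.1 hb, map_mul]))
    exact φ.injective (by rw [map_mul, map_mul, h1])
  have hconjv : ∀ v w : G, v * v ≠ 1 → IsConj v w → w * v = v * w → w = v ∨ w = v⁻¹ := by
    intro v w hv hvw hc
    rcases torus_conj (v := φ v) (w := φ w) (fun h => hv (φ.injective (by rw [map_mul, h, map_one])))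
      (φ.toMonoidHom.map_isConj hvw) (by rw [← map_mul, hc, map_mul]) with h | h
    · exact Or.inl (φ.injective h)
    · exact Or.inr (φ.injective (by rw [h, map_inv]))
  -- orders
  have h4 : 4 ≤ 2 ^ n := le_trans (by norm_num) (Nat.pow_le_pow_right two_pos hn)
  have hcardG : Nat.card G = 2 ^ n * ((2 ^ n) ^ 2 - 1) := by
    rw [Nat.card_congr e.toEquiv]
    have h := Cfsg.Lib.Classical.SmallPSL.card_psl (F := F) hF
    have hg : Nat.gcd 2 (2 ^ n - 1) = 1 := by
      refine (Nat.prime_two.coprime_iff_not_dvd).2 fun hd => ?_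
      have : 2 ∣ 2 ^ n := dvd_pow_self 2 (by omega)
      omega
    rwa [hg, one_mul] at h
  intro H hH
  refine le_antisymm ?_ Subgroup.le_normalizer
  intro g hg
  have hgH : ∀ x, x ∈ H → g * x * g⁻¹ ∈ H := fun x hx => (Subgroup.mem_normalizer_iff.1 hg x).1 hx
  -- it suffices to find a suitable element of odd order, or to contain a Sylow normalizer
  have hmain : (∃ v ∈ H, v * v ≠ 1 ∧ Odd (orderOf v) ∧ ∀ h ∈ H, Commute (h * v * h⁻¹) v) → g ∈ H := by
    rintro ⟨v, hvH, hv2, hvo, hvc⟩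
    have hv1 : v ≠ 1 := fun e => hv2 (by rw [e, one_mul])
    set T := Subgroup.centralizer ({v} : Set G)
    have hvT : v ∈ T := Subgroup.mem_centralizer_singleton_iff.2 rfl
    have hTodd : ∀ w ∈ T, Odd (orderOf w) := by
      intro w hw
      by_contra hev
      rw [Nat.not_odd_iff_even] at hev
      obtain ⟨k, hk⟩ := hev.two_dvd
      have hk0 : k ≠ 0 := fun e => by rw [e, mul_zero] at hk; exact (orderOf_pos w).ne' hk
      have hu : orderOf (w ^ k) = 2 := by
        rw [orderOf_pow, hk, Nat.gcd_eq_right (dvd_mul_left k 2), Nat.mul_div_cancel _ (Nat.pos_of_ne_zero hk0)]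
      have hvu : v ∈ Subgroup.centralizer ({w ^ k} : Set G) := Subgroup.mem_centralizer_singleton_iff.2
        ((show Commute v w from (Subgroup.mem_centralizer_singleton_iff.1 hw).symm).pow_right k).eq
      exact hv2 (Cfsg.Lib.CASimple.sq_eq_one (setup_of hna hca hu) v hvu)
    have hpm : ∀ h ∈ H, h * v * h⁻¹ = v ∨ h * v * h⁻¹ = v⁻¹ := fun h hh =>
      hconjv v _ hv2 (isConj_iff.2 ⟨h, rfl⟩) (hvc h hh)
    obtain ⟨s, hsH, hs⟩ : ∃ s ∈ H, s * v * s⁻¹ = v⁻¹ := by
      by_contra hcon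
      push Not at hcon
      have hle : ∀ h ∈ H, h ∈ T := fun h hh => by
        refine Subgroup.mem_centralizer_singleton_iff.2 ?_
        have e1 := (hpm h hh).resolve_right (hcon h hh)
        calc h * v = h * v * h⁻¹ * h := by group
          _ = v * h := by rw [e1]
      exact hH ⟨⟨fun a b => Subtype.ext (hca v hv1 a (hle a a.2) b (hle b b.2))⟩⟩
    have hsinv : ∀ w ∈ T, s * w * s⁻¹ = w⁻¹ := by
      intro w hw
      by_cases hw1 : w = 1
      · simp [hw1]
      have hsw : s * w * s⁻¹ ∈ T := by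
        refine Subgroup.mem_centralizer_singleton_iff.2 ?_
        have e1 : Commute (s * w * s⁻¹) v⁻¹ := hs ▸ (show Commute w v from Subgroup.mem_centralizer_singleton_iff.1 hw).map (MulAut.conj s).toMonoidHom
        simpa using e1.inv_right.eq
      have hw2 : w * w ≠ 1 := fun e => hw1 (by
        have h1 := orderOf_dvd_of_pow_eq_one (show w ^ 2 = 1 by rw [pow_two]; exact e)
        rcases (Nat.dvd_prime Nat.prime_two).1 h1 with h2 | h2
        · exact orderOf_eq_one_iff.1 h2
        · exact absurd (hTodd w hw) (by rw [h2]; decide))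
      rcases hconjv w _ hw2 (isConj_iff.2 ⟨s, rfl⟩) (hca v hv1 _ hsw w hw) with h | h
      · exfalso
        have hsC : s ∈ Subgroup.centralizer ({w} : Set G) := Subgroup.mem_centralizer_singleton_iff.2 (by
          calc s * w = s * w * s⁻¹ * s := by group
            _ = w * s := by rw [h])
        have hvC : v ∈ Subgroup.centralizer ({w} : Set G) :=
          Subgroup.mem_centralizer_singleton_iff.2 (Subgroup.mem_centralizer_singleton_iff.1 hw).symm
        apply hv2
        have e3 := hca w hw1 s hsC v hvC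
        rw [e3, mul_inv_cancel_right] at hs
        calc v * v = v⁻¹ * v := by rw [← hs]
          _ = 1 := inv_mul_cancel v
      · exact h
    have hTN : ∀ w ∈ T, w ∈ Subgroup.normalizer (H : Set G) → w ∈ H := by
      intro w hw hwN
      refine mem_of_pow H (m := 2) ?_ (Nat.coprime_two_right.2 (hTodd w hw))
      have h1 : w * s * w⁻¹ * s⁻¹ ∈ H := H.mul_mem ((Subgroup.mem_normalizer_iff.1 hwN s).1 hsH) (H.inv_mem hsH)
      have h2 : s * w⁻¹ * s⁻¹ = w := by
        have := congrArg (·⁻¹) (hsinv w hw)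
        simpa [mul_assoc] using this
      rwa [pow_two, show w * w = w * s * w⁻¹ * s⁻¹ by rw [mul_assoc w s, mul_assoc w, h2]]
    -- the conjugate of `v` by `g`
    have hgv : g * v * g⁻¹ ∈ T := by
      have hh := hgH v hvH
      set h := g * v * g⁻¹
      have ho : Odd (orderOf h) := by
        rw [show h = MulAut.conj g v from rfl, MulEquiv.orderOf_eq]; exact hvo
      refine mem_of_pow T (m := 2) ?_ (Nat.coprime_two_right.2 ho)
      refine Subgroup.mem_centralizer_singleton_iff.2 ?_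
      have h2 : h ^ 2 * v * (h ^ 2)⁻¹ = v := by
        rw [show h ^ 2 * v * (h ^ 2)⁻¹ = h * (h * v * h⁻¹) * h⁻¹ by rw [pow_two]; group]
        rcases hpm h hh with e1 | e1
        · rw [e1, e1]
        · rw [e1, ← conj_inv, e1, inv_inv]
      calc h ^ 2 * v = h ^ 2 * v * (h ^ 2)⁻¹ * h ^ 2 := by group
        _ = v * h ^ 2 := by rw [h2]
    rcases hconjv v _ hv2 (isConj_iff.2 ⟨g, rfl⟩) (Subgroup.mem_centralizer_singleton_iff.1 hgv) with h | h
    · exact hTN g (Subgroup.mem_centralizer_singleton_iff.2 (by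
        calc g * v = g * v * g⁻¹ * g := by group
          _ = v * g := by rw [h])) hg
    · have hsg : s * g ∈ T := Subgroup.mem_centralizer_singleton_iff.2 (by
        calc s * g * v = s * (g * v * g⁻¹) * g := by group
          _ = s * v⁻¹ * g := by rw [h]
          _ = s * v⁻¹ * s⁻¹ * (s * g) := by group
          _ = v * (s * g) := by rw [← conj_inv, hs, inv_inv])
      have h1 := hTN _ hsg (mul_mem (Subgroup.le_normalizer hsH) hg)
      have h2 := H.mul_mem (H.inv_mem hsH) h1
      rwa [inv_mul_cancel_left] at h2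
  -- odd order normal subgroup of `H` gives such an element
  have hodd : ∀ K : Subgroup H, K.Normal → K ≠ ⊥ → Odd (Nat.card K) → g ∈ H := by
    intro K hK hK1 hKo
    haveI := hK
    have hsol : Group.IsSolvable ↥K := by
      refine Cfsg.Agent.S0182.result hKo fun x hx a ha b hb => ?_
      refine Subtype.ext (Subtype.ext (hca ((x : H) : G) (fun e => hx (Subtype.ext (Subtype.ext e))) _
        (Subgroup.mem_centralizer_singleton_iff.2 (congrArg (fun z : K => ((z : H) : G)) (Subgroup.mem_centralizer_singleton_iff.1 ha))) _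
        (Subgroup.mem_centralizer_singleton_iff.2 (congrArg (fun z : K => ((z : H) : G)) (Subgroup.mem_centralizer_singleton_iff.1 hb)))))
    have hex : ∃ k, derivedSeries K k = ⊥ := hsol.solvable
    obtain ⟨m, hm⟩ : ∃ m, Nat.find hex = m + 1 := ⟨Nat.find hex - 1, by
      have : Nat.find hex ≠ 0 := fun e => hK1 (by
        have h0 := Nat.find_spec hex
        rw [e, derivedSeries_zero] at h0
        exact Subgroup.card_eq_one.1 (by rw [← Subgroup.card_top, h0, Subgroup.card_bot]))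
      omega⟩
    set D := derivedSeries K m with hD
    have hDne : D ≠ ⊥ := Nat.find_min hex (by omega)
    have hDc : ∀ a ∈ D, ∀ b ∈ D, a * b = b * a := fun a ha b hb => by
      have h1 := Nat.find_spec hex
      rw [hm, derivedSeries_succ] at h1
      have h2 : ⁅a, b⁆ ∈ ⁅D, D⁆ := Subgroup.commutator_mem_commutator ha hb
      rw [h1, Subgroup.mem_bot] at h2
      exact commutatorElement_eq_one_iff_mul_comm.1 h2
    haveI : D.Characteristic := by rw [hD]; infer_instance
    obtain ⟨⟨v, hv⟩, hv1⟩ := Subgroup.ne_bot_iff_exists_ne_one.1 hDne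
    have hvo : Odd (orderOf v) := Odd.of_dvd_nat hKo (orderOf_dvd_natCard v)
    refine hmain ⟨((v : H) : G), (v : H).2, fun e => ?_, by rwa [Subgroup.orderOf_coe, Subgroup.orderOf_coe], fun h hh => ?_⟩
    · have e' : v ^ 2 = 1 := Subtype.ext (Subtype.ext (by rw [pow_two]; exact e))
      rcases (Nat.dvd_prime Nat.prime_two).1 (orderOf_dvd_of_pow_eq_one e') with h2 | h2
      · exact hv1 (Subtype.ext (orderOf_eq_one_iff.1 h2))
      · rw [h2] at hvo; exact absurd hvo (by decide)
    · haveI : (D.map K.subtype).Normal := inferInstance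
      obtain ⟨w, hw, he⟩ := (inferInstance : (D.map K.subtype).Normal).conj_mem _ ⟨v, hv, rfl⟩ (⟨h, hh⟩ : H)
      have := congrArg (fun z : H => (z : G)) he
      simp only [Subgroup.coe_subtype, Subgroup.coe_mul, Subgroup.coe_inv] at this
      rw [← this]
      exact congrArg (fun z : K => ((z : H) : G)) (hDc w hw v hv)
  by_cases hev : 2 ∣ Nat.card H
  swap
  · exact hodd ⊤ inferInstance (fun e => hH ⟨⟨fun a b => by
      have h1 : a ∈ (⊤ : Subgroup H) := Subgroup.mem_top a
      rw [e, Subgroup.mem_bot] at h1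
      rw [h1, one_mul, mul_one]⟩⟩) (by rw [Subgroup.card_top]; exact Nat.not_even_iff_odd.1 fun he => hev he.two_dvd)
  obtain ⟨⟨t, htH⟩, hto⟩ := exists_prime_orderOf_dvd_card' 2 hev
  rw [Subgroup.orderOf_mk] at hto
  have hS := setup_of hna hca hto
  have ht1 : t ≠ 1 := fun e => by rw [e, orderOf_one] at hto; omega
  set A := Subgroup.centralizer ({t} : Set G)
  have htA : t ∈ A := Subgroup.mem_centralizer_singleton_iff.2 rfl
  obtain ⟨F', _, _, f, hf, hF', hA', ⟨e'⟩⟩ := Cfsg.Lib.CASimple.psl hS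
  have hfn : 2 ^ f = 2 ^ n := by
    have h1 : Nat.card G = 2 ^ f * ((2 ^ f) ^ 2 - 1) := by
      rw [Nat.card_congr e'.toEquiv]
      have h := Cfsg.Lib.Classical.SmallPSL.card_psl (F := F') hF'
      have hg : Nat.gcd 2 (2 ^ f - 1) = 1 := by
        refine (Nat.prime_two.coprime_iff_not_dvd).2 fun hd => ?_
        have : 2 ∣ 2 ^ f := dvd_pow_self 2 (by omega)
        have : 1 ≤ 2 ^ f := Nat.one_le_two_pow
        omega
      rwa [hg, one_mul] at h
    have hmono : ∀ a b : ℕ, 1 ≤ a → a < b → a * (a ^ 2 - 1) < b * (b ^ 2 - 1) := fun a b ha hab => by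
      have h2 : a ^ 2 < b ^ 2 := Nat.pow_lt_pow_left hab (by norm_num)
      calc a * (a ^ 2 - 1) ≤ b * (a ^ 2 - 1) := Nat.mul_le_mul_right _ hab.le
        _ < b * (b ^ 2 - 1) := Nat.mul_lt_mul_of_pos_left (by have := Nat.one_le_pow 2 a ha; omega) (by omega)
    rcases lt_trichotomy (2 ^ f) (2 ^ n) with h | h | h
    · have := hmono _ _ Nat.one_le_two_pow h; omega
    · exact h
    · have := hmono _ _ Nat.one_le_two_pow h; omega
  rw [hfn] at hA'
  have hinv : Cfsg.Lib.CASimple.invPart hS = A :=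
    le_antisymm (fun x hx => hx.1) fun x hx => ⟨hx, Cfsg.Lib.CASimple.sq_eq_one hS x hx⟩
  have hc := Cfsg.Lib.CASimple.card_invPart hS
  rw [hinv, hA'] at hc
  set N := Subgroup.normalizer (A : Set G)
  set A' := A.subgroupOf N with hAdef
  haveI : A'.Normal := Subgroup.normal_in_normalizer
  have hAi : A'.index.Prime := by rwa [show A'.index = 2 ^ n - 1 by omega]
  by_cases hout : ∃ h ∈ H, h ∈ N ∧ h ∉ A
  · obtain ⟨h, hhH, hhN, hhA⟩ := hout
    -- `H` contains the whole Sylow normalizer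
    haveI : Fact A'.index.Prime := ⟨hAi⟩
    have hgenq : ∀ c : N ⧸ A', c ∈ Subgroup.zpowers (QuotientGroup.mk' A' ⟨h, hhN⟩) := fun c =>
      mem_zpowers_of_prime_card (p := A'.index) (by rw [Subgroup.index_eq_card]) (fun e => hhA ((QuotientGroup.eq_one_iff (N := A') _).1 e))
    have hdec : ∀ u : N, ∃ i : ℤ, ∃ a ∈ A, (u : G) = a * h ^ i := fun u => by
      obtain ⟨i, hi⟩ := hgenq (QuotientGroup.mk' A' u)
      refine ⟨i, (u : G) * (h ^ i)⁻¹, ?_, by group⟩
      have h2 : QuotientGroup.mk' A' (u * ((⟨h, hhN⟩ : N) ^ i)⁻¹) = 1 := by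
        rw [map_mul, map_inv, map_zpow]; exact mul_inv_eq_one.2 hi.symm
      have h3 := (QuotientGroup.eq_one_iff (N := A') _).1 h2
      simpa [hAdef, Subgroup.mem_subgroupOf] using h3
    have hAH : A ≤ H := by
      intro x hx
      by_cases hx1 : x = 1
      · rw [hx1]; exact H.one_mem
      obtain ⟨c, hc'⟩ := isConj_iff.1 (Cfsg.Lib.CASimple.all_conj hS hto
        (Cfsg.Lib.InvolCalc.order_two_of_mul_self (Cfsg.Lib.CASimple.sq_eq_one hS x hx) hx1))
      obtain ⟨i, a, ha, he⟩ := hdec ⟨c, Cfsg.Lib.CASimple.mem_normalizer_of hS htA ht1 (hc' ▸ hx)⟩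
      simp only at he
      have hm : h ^ i * t * (h ^ i)⁻¹ ∈ A :=
        (Subgroup.mem_normalizer_iff.1 (N.zpow_mem hhN i) t).1 htA
      have hx2 : x = h ^ i * t * (h ^ i)⁻¹ := by
        rw [← hc', he]
        calc a * h ^ i * t * (a * h ^ i)⁻¹ = a * (h ^ i * t * (h ^ i)⁻¹) * a⁻¹ := by group
          _ = h ^ i * t * (h ^ i)⁻¹ := by rw [hS.ab a ha _ hm, mul_inv_cancel_right]
      rw [hx2]
      exact H.mul_mem (H.mul_mem (H.zpow_mem hhH i) htH) (H.inv_mem (H.zpow_mem hhH i))
    have hNH : N ≤ H := fun u hu => by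
      obtain ⟨i, a, ha, he⟩ := hdec ⟨u, hu⟩
      simp only at he
      rw [he]; exact H.mul_mem (hAH ha) (H.zpow_mem hhH i)
    by_cases hHN : ∀ u ∈ H, u ∈ N
    · have hgt : g * t * g⁻¹ ∈ A := by
        have hm := hgH t htH
        refine Cfsg.Lib.CASimple.involution_mem hS (hHN _ hm) ?_
        rw [conj_mul, ← pow_two, ← hto, pow_orderOf_eq_one, mul_one, mul_inv_cancel]
      exact hNH (Cfsg.Lib.CASimple.mem_normalizer_of hS htA ht1 hgt)
    · push Not at hHN
      obtain ⟨u, huH, huN⟩ := hHN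
      have hinj := Cfsg.Lib.CASimple.coset_injective hS huN
      have hidx : N.index = Nat.card A + 1 := by
        have h1 := N.card_mul_index
        rw [show Nat.card N = Nat.card A * A'.index by
          rw [← A'.card_mul_index, Nat.card_congr (Subgroup.subgroupOfEquivOfLe Subgroup.le_normalizer).toEquiv], hA', hcardG,
          show A'.index = 2 ^ n - 1 by omega] at h1
        rw [hA']
        obtain ⟨r, hr⟩ : ∃ r, 2 ^ n = r + 1 := ⟨2 ^ n - 1, by omega⟩
        rw [hr] at h1 ⊢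
        have hr0 : 0 < r := by omega
        have h2 : (r + 1) ^ 2 - 1 = r * (r + 2) := by
          have : (r + 1) ^ 2 = r * (r + 2) + 1 := by ring
          omega
        rw [h2, show r + 1 - 1 = r by omega] at h1
        have h3 : (r + 1) * r * N.index = (r + 1) * r * (r + 2) := by rw [h1]; ring
        have := Nat.eq_of_mul_eq_mul_left (Nat.mul_pos (Nat.succ_pos r) hr0) h3
        omega
      have hbij := (Nat.bijective_iff_injective_and_card _).2 ⟨hinj, by rw [Finite.card_option, ← hidx, Subgroup.index_eq_card]⟩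
      obtain ⟨o, ho⟩ := hbij.2 (QuotientGroup.mk g)
      cases o with
      | none =>
        simp only [Option.elim_none] at ho
        rw [QuotientGroup.eq, inv_one, one_mul] at ho
        exact hNH ho
      | some a =>
        simp only [Option.elim_some] at ho
        rw [QuotientGroup.eq] at ho
        have h2 := H.mul_mem (H.mul_mem (hAH a.2) huH) (hNH ho)
        rwa [mul_inv_cancel_left] at h2
  · push Not at hout
    obtain ⟨P, hP⟩ := (IsPGroup.of_card (n := 1) (by rw [Nat.card_zpowers, orderOf_mk, hto, pow_one]) :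
      IsPGroup 2 (Subgroup.zpowers (⟨t, htH⟩ : H))).exists_le_sylow
    have htP := hP (Subgroup.mem_zpowers _)
    obtain ⟨S, hSA⟩ := Cfsg.Lib.CASimple.exists_sylow_le hS
    have hPA : ∀ x ∈ (P : Subgroup H), (x : G) ∈ A := by
      intro x hx
      obtain ⟨R, hR⟩ := (P.2.map H.subtype).exists_le_sylow
      obtain ⟨c, rfl⟩ := MulAction.exists_smul_eq G S R
      have key : ∀ z ∈ ((c • S : Sylow 2 G) : Subgroup G), c⁻¹ * z * c ∈ A := fun z hz => hSA (by
        rwa [Cfsg.Lib.Transfer.sylow_smul_coe, Cfsg.Lib.Transfer.mem_map_conj] at hz)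
      have e1 := hS.ab _ (key _ (hR ⟨x, hx, rfl⟩)) _ (key _ (hR ⟨_, htP, rfl⟩))
      refine Subgroup.mem_centralizer_singleton_iff.2 ?_
      simp only [Subgroup.coe_subtype] at e1
      calc (x : G) * t = c * (c⁻¹ * x * c * (c⁻¹ * t * c)) * c⁻¹ := by group
        _ = c * (c⁻¹ * t * c * (c⁻¹ * x * c)) * c⁻¹ := by rw [e1]
        _ = t * x := by group
    have hNC : Subgroup.normalizer ((P : Subgroup H) : Set H) ≤ Subgroup.centralizer ((P : Subgroup H) : Set H) := by
      intro h hh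
      have h1 : (h : G) * t * (h : G)⁻¹ ∈ A := hPA _ ((Subgroup.mem_normalizer_iff.1 hh _).1 htP)
      have hhA : (h : G) ∈ A := hout h h.2 (Cfsg.Lib.CASimple.mem_normalizer_of hS htA ht1 h1)
      exact Subgroup.mem_centralizer_iff.2 fun x hx => Subtype.ext (hS.ab _ (hPA x hx) _ hhA)
    obtain ⟨K, hKn, hK⟩ : ∃ K : Subgroup H, K.Normal ∧ K.IsComplement' (P : Subgroup H) :=
      ⟨_, MonoidHom.normal_ker _, MonoidHom.ker_transferSylow_isComplement' P hNC⟩
    refine hodd K hKn (fun e => hH ⟨⟨fun a b => ?_⟩⟩) ?_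
    · subst e
      rw [Subgroup.isComplement'_bot_left] at hK
      exact Subtype.ext (hS.ab _ (hPA a (hK ▸ Subgroup.mem_top a)) _ (hPA b (hK ▸ Subgroup.mem_top b)))
    · rw [← hK.index_eq_card]
      exact Nat.not_even_iff_odd.1 fun he => P.not_dvd_index he.two_dvd


/-- Let G be a finite non-abelian simple group. Every non-abelian subgroup of G is self-normalizing if and only if G is isomorphic to PSL₂(2ⁿ) for some n ≥ 2 with 2ⁿ − 1 prime (this includes the alternating group of degree 5 as PSL₂(4)). -/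
theorem result {G : Type*} [Group G] [Finite G] [IsSimpleGroup G]
    (hna : ¬ IsMulCommutative G) :
    (∀ H : Subgroup G, ¬ IsMulCommutative H → Subgroup.normalizer (H : Set G) = H) ↔
    ∃ n : ℕ, 2 ≤ n ∧ (2 ^ n - 1).Prime ∧ Nonempty (G ≃* Matrix.ProjectiveSpecialLinearGroup (Fin 2) (GaloisField 2 n)) := by
  exact ⟨forward hna, fun ⟨n, hn, hp, ⟨e⟩⟩ => backward hna n hn hp e⟩

end Cfsg.Agent.S4073
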