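import Cfsg.Statements.S4074
import Mathlib

set_option autoImplicit false
open Cfsg

namespace Cfsg.Agent.S4074

/-- For n > 2, every non-abelian subgroup of the dihedral group of order 2n is self-normalizing if and only if n = 4 or n is odd. -/
theorem result (n : ℕ) (hn : 2 < n) :
    (∀ H : Subgroup (DihedralGroup n), ¬ IsMulCommutative H → Subgroup.normalizer (H : Set (DihedralGroup n)) = H) ↔
    (n = 4 ∨ Odd n) := by
  have : NeZero n := ⟨by omega⟩
  constructor
  · intro h
    by_contra hcon
    push Not at hcon
    obtain ⟨h4, hodd⟩ := hcon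
    obtain ⟨d, hd⟩ : 2 ∣ n := even_iff_two_dvd.mp (Nat.not_odd_iff_even.mp hodd)
    let H : Subgroup (DihedralGroup n) :=
      { carrier := {g | match g with | .r j => (d : ZMod n) * j = 0 | .sr j => (d : ZMod n) * j = 0}
        one_mem' := mul_zero (d : ZMod n)
        mul_mem' := by
          rintro (a | a) (b | b) ha hb <;> simp_all [mul_add, mul_sub]
        inv_mem' := by
          rintro (a | a) ha <;> simp_all }
    have hd2 : (d : ZMod n) * 2 = 0 := by
      rw [show (d : ZMod n) * 2 = ((2 * d : ℕ) : ZMod n) by push_cast; ring, ← hd, ZMod.natCast_self]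
    have hr : DihedralGroup.r (2 : ZMod n) ∈ H := hd2
    have hs : DihedralGroup.sr (0 : ZMod n) ∈ H := mul_zero (d : ZMod n)
    have hna : ¬ IsMulCommutative H := by
      intro hH
      have := congrArg Subtype.val (hH.is_comm.comm (⟨_, hr⟩ : H) ⟨_, hs⟩)
      simp only [Subgroup.coe_mul, DihedralGroup.r_mul_sr, DihedralGroup.sr_mul_r,
        DihedralGroup.sr.injEq] at this
      have h40 : ((4 : ℕ) : ZMod n) = 0 := by push_cast; linear_combination -this
      rw [ZMod.natCast_eq_zero_iff] at h40
      have := Nat.le_of_dvd (by norm_num) h40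
      omega
    have h1 : DihedralGroup.r (1 : ZMod n) ∈ Subgroup.normalizer (H : Set (DihedralGroup n)) := by
      rw [Subgroup.mem_normalizer_iff]
      rintro (a | a)
      · simp
      · simp only [DihedralGroup.r_mul_sr, DihedralGroup.inv_r, DihedralGroup.sr_mul_r]
        show (d : ZMod n) * a = 0 ↔ (d : ZMod n) * (a - 1 + -1) = 0
        rw [show (d : ZMod n) * (a - 1 + -1) = d * a - d * 2 by ring, hd2, sub_zero]
    rw [h H hna] at h1
    have h2 : (d : ZMod n) * 1 = 0 := h1
    rw [mul_one, ZMod.natCast_eq_zero_iff] at h2
    have := Nat.le_of_dvd (by omega) h2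
    omega
  · intro hn' H hH
    refine le_antisymm (fun g hg => ?_) Subgroup.le_normalizer
    rcases hn' with rfl | ho
    · have : H = ⊤ := by
        by_contra hne
        refine hH ?_
        have h8 : Nat.card (DihedralGroup 4) = 8 := by rw [Nat.card_eq_fintype_card, DihedralGroup.card]
        have hd := Subgroup.card_subgroup_dvd_card H
        rw [h8] at hd
        obtain ⟨k, hk, hk'⟩ := (Nat.dvd_prime_pow Nat.prime_two).mp (show Nat.card H ∣ 2 ^ 3 from hd)
        have hk3 : k ≠ 3 := fun e => hne (Subgroup.eq_top_of_card_eq H (by rw [hk', e, h8]; norm_num))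
        have := Fact.mk Nat.prime_two
        interval_cases k
        · have : Subsingleton H := (Nat.card_eq_one_iff_unique.mp (by simpa using hk')).1
          exact ⟨⟨fun a b => Subsingleton.elim _ _⟩⟩
        · have := isCyclic_of_prime_card (α := H) (p := 2) (by simpa using hk')
          exact IsCyclic.isMulCommutative
        · exact IsPGroup.isMulCommutative_of_card_eq_prime_sq (p := 2) hk'
        · exact absurd rfl hk3
      rw [this]; exact Subgroup.mem_top g
    obtain ⟨i, hi⟩ : ∃ i, DihedralGroup.sr i ∈ H := by
      by_contra hall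
      push Not at hall
      refine hH ⟨⟨fun u v => Subtype.ext ?_⟩⟩
      obtain ⟨(a | a), ha⟩ := u
      · obtain ⟨(b | b), hb⟩ := v
        · simp [add_comm]
        · exact absurd hb (hall b)
      · exact absurd ha (hall a)
    have hhalf : ∀ j : ZMod n, DihedralGroup.r (2 * j) ∈ H → DihedralGroup.r j ∈ H := by
      intro j hj
      obtain ⟨t, ht⟩ := ho
      have hrot : ∀ (m : ℕ) (x : ZMod n), DihedralGroup.r x ∈ H → DihedralGroup.r ((m : ZMod n) * x) ∈ H := by
        intro m x hx
        induction m with
        | zero => simp [← DihedralGroup.one_def, H.one_mem]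
        | succ m ih => simpa [add_mul] using H.mul_mem ih hx
      have h1 := hrot (t + 1) _ hj
      have he : ((t + 1 : ℕ) : ZMod n) * (2 * j) = j := by
        have hn0 : ((2 * t + 1 : ℕ) : ZMod n) = 0 := by rw [← ht, ZMod.natCast_self]
        push_cast at hn0 ⊢
        linear_combination j * hn0
      rwa [he] at h1
    have hN := Subgroup.mem_normalizer_iff.mp hg
    rcases g with a | a
    · have h1 := (hN _).mp hi
      simp only [DihedralGroup.r_mul_sr, DihedralGroup.inv_r, DihedralGroup.sr_mul_r] at h1
      have h2 := H.mul_mem hi h1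
      simp only [DihedralGroup.sr_mul_sr] at h2
      have h3 := H.inv_mem h2
      simp only [DihedralGroup.inv_r] at h3
      exact hhalf a (by convert h3 using 2; ring)
    · have h1 := (hN _).mp hi
      simp only [DihedralGroup.sr_mul_sr, DihedralGroup.inv_sr, DihedralGroup.r_mul_sr] at h1
      have h2 := H.mul_mem hi h1
      simp only [DihedralGroup.sr_mul_sr] at h2
      have h3 : DihedralGroup.r (a - i) ∈ H := hhalf _ (by convert h2 using 2; ring)
      have h4 := H.mul_mem hi h3
      simpa using h4

end Cfsg.Agent.S4074
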