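import Cfsg.Statements.S4075


set_option autoImplicit false
open Cfsg

namespace Cfsg.Agent.S4075

/-- Let G be a finite nilpotent group. Every non-abelian subgroup of G is self-normalizing if and only if G is abelian or G is a minimal non-abelian p-group for some prime p (non-abelian of prime-power order with every proper subgroup abelian). -/
theorem result {G : Type*} [Group G] [Finite G]
    [Group.IsNilpotent G] :
    (∀ H : Subgroup G, ¬ IsMulCommutative H → Subgroup.normalizer (H : Set G) = H) ↔
    (IsMulCommutative G ∨ (IsPrimePow (Nat.card G) ∧ ¬ IsMulCommutative G ∧ ∀ H : Subgroup G, H ≠ ⊤ → IsMulCommutative H)) := by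
  constructor
  · intro h
    by_cases hab : IsMulCommutative G
    · exact Or.inl hab
    refine Or.inr ?_
    have hall : ∀ H : Subgroup G, H ≠ ⊤ → IsMulCommutative H := by
      intro H hH
      by_contra hna
      exact (Group.normalizerCondition_of_isNilpotent H (lt_top_iff_ne_top.mpr hH)).ne (h H hna).symm
    refine ⟨?_, hab, hall⟩
    have hnt : Nontrivial G := by
      by_contra hs
      have := not_nontrivial_iff_subsingleton.mp hs
      exact hab ⟨⟨fun a b => Subsingleton.elim _ _⟩⟩
    by_contra hpp
    obtain ⟨e⟩ := ((Group.isNilpotent_of_finite_tfae (G := G)).out 0 4 rfl rfl).mp ‹_›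
    refine hab ⟨⟨fun a b => e.symm.injective (funext fun r => funext fun P => ?_)⟩⟩
    have hP : (P : Subgroup G) ≠ ⊤ := by
      intro htop
      have := Fact.mk (Nat.prime_of_mem_primeFactors r.2)
      obtain ⟨k, hk⟩ := IsPGroup.iff_card.mp P.2
      rw [htop, Subgroup.card_top] at hk
      refine hpp (hk ▸ (Nat.prime_of_mem_primeFactors r.2).isPrimePow.pow ?_)
      intro h0
      rw [h0, pow_zero] at hk
      exact absurd hk (Finite.one_lt_card (α := G)).ne'
    have := (hall _ hP).is_comm.comm (e.symm a r P) (e.symm b r P)
    rw [map_mul, map_mul]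
    exact this
  · rintro (hab | ⟨-, -, hall⟩) H hH
    · exact absurd (inferInstance : IsMulCommutative H) hH
    · have : H = ⊤ := by
        by_contra hne
        exact hH (hall H hne)
      rw [this, Subgroup.normalizer_eq_top]

end Cfsg.Agent.S4075
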