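import Cfsg.Statements.S4078
import Cfsg.Agent.TwoGen.Main

set_option autoImplicit false
open Cfsg

namespace Cfsg.Agent.S4078

/-- For an element x of a finite group G let Sol(x) be the set of y ∈ G such that x and y generate a solvable subgroup. Then G is solvable if and only if Sol(x) is (the carrier of) a subgroup of G for every x ∈ G. -/
theorem result {G : Type*} [Group G] [Finite G] :
    Group.IsSolvable G ↔ ∀ x : G, ∃ H : Subgroup G, (H : Set G) = {y : G | Group.IsSolvable ↥(Subgroup.closure ({x, y} : Set G))} := by
  refine ⟨fun hs x => ⟨⊤, Set.ext fun y => ⟨fun _ => ?_, fun _ => Subgroup.mem_top y⟩⟩,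
    fun h => Cfsg.Lib.TwoGen.isSolvable_of_solubilizers_aux _ G rfl h⟩
  haveI := hs
  show Group.IsSolvable ↥(Subgroup.closure ({x, y} : Set G))
  infer_instance

end Cfsg.Agent.S4078
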