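import Cfsg.Statements.S4079
import Cfsg.Agent.PGroups.MetaAutThree
import Cfsg.Agent.PGroups.MaxClassOutside

set_option autoImplicit false
set_option linter.unusedSectionVars false
set_option linter.style.haveILetI false
open Cfsg Subgroup
open Cfsg.Lib.PGroups MetaOmega MetaAutThree
open scoped commutatorElement

namespace Cfsg.Agent.S4079

variable {L : Type*} [Group L] [Finite L] (a : MulAut L)

/-- The semidirect product with the cyclic group generated by the automorphism. -/
abbrev Sd := SemidirectProduct L ↥(Subgroup.zpowers a) (Subgroup.zpowers a).subtype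

open SemidirectProduct in
theorem max_class {p : ℕ} [hp : Fact p.Prime] (m : ℕ) (hm : Nat.card L = p ^ m) (ha : orderOf a = p)
    (hF : Nat.card (fixed a) = p) : Group.nilpotencyClass (Sd a) = m := by
  have hcard : Nat.card (Sd a) = p ^ (m + 1) := by
    rw [SemidirectProduct.card, hm, Nat.card_zpowers, ha, pow_succ]
  haveI : Finite (Sd a) := Nat.finite_of_card_ne_zero (by rw [hcard]; exact pow_ne_zero _ hp.out.ne_zero)
  haveI : Group.IsNilpotent (Sd a) := (IsPGroup.of_card hcard).isNilpotent
  set s : Sd a := inr ⟨a, mem_zpowers a⟩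
  set A := centralizer ({s} : Set (Sd a)) with hA
  have hfix : ∀ x ∈ fixed a, ∀ g : zpowers a, (g : MulAut L) x = x := by
    intro x hx g
    obtain ⟨k, hk⟩ := g.2
    have h : zpowers a ≤ MulAction.stabilizer (MulAut L) x := zpowers_le.2 hx
    exact h g.2
  have hcomm : ∀ g h : zpowers a, g * h = h * g := fun g h => by
    obtain ⟨i, hi⟩ := g.2
    obtain ⟨j, hj⟩ := h.2
    exact Subtype.ext (by rw [coe_mul, coe_mul, ← hi, ← hj]; exact (Commute.refl a).zpow_zpow i j)
  have hmem : ∀ u : Sd a, u ∈ A ↔ u.left ∈ fixed a := fun u => by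
    rw [hA, mem_centralizer_singleton_iff, SemidirectProduct.ext_iff, mul_left, mul_left, mul_right, mul_right,
      right_inr, left_inr, map_one, mul_one, one_mul, and_iff_left (hcomm _ _)]
    exact eq_comm
  have hAc : Nat.card A = p ^ 2 := by
    rw [sq, show Nat.card A = Nat.card (fixed a) * Nat.card (zpowers a) from ?_, hF, Nat.card_zpowers, ha]
    rw [← Nat.card_prod]
    exact Nat.card_congr
      { toFun := fun u => (⟨u.1.left, (hmem u.1).1 u.2⟩, u.1.right)
        invFun := fun v => ⟨⟨v.1, v.2⟩, (hmem _).2 v.1.2⟩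
        left_inv := fun u => rfl
        right_inv := fun v => rfl }
  refine Cfsg.Lib.MaxClass.of_self_centralizing (m + 1) (Sd a) hcard A hAc ?_
  refine le_antisymm (centralizer_le (fun u hu => ?_)) fun u hu => mem_centralizer_iff.2 fun v hv => ?_
  · rw [Set.mem_singleton_iff] at hu
    subst hu
    exact mem_centralizer_singleton_iff.2 rfl
  · refine SemidirectProduct.ext ?_ (by rw [mul_right, mul_right]; exact hcomm _ _)
    have hl : v.left * u.left = u.left * v.left := by
      haveI : IsCyclic (fixed a) := isCyclic_of_prime_card hF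
      exact congrArg Subtype.val ((IsCyclic.commutative (α := fixed a)).is_comm.comm ⟨v.left, (hmem v).1 hv⟩ ⟨u.left, (hmem u).1 hu⟩)
    rw [mul_left, mul_left]
    show v.left * (v.right : MulAut L) u.left = u.left * (u.right : MulAut L) v.left
    rw [hfix _ ((hmem u).1 hu), hfix _ ((hmem v).1 hv), hl]

open SemidirectProduct in
open Cfsg.Lib.PGroups.MaxClassRank Cfsg.Lib.PGroups.MaxClassThree in
theorem moved [Fact (Nat.Prime 3)] (T : Tower L 3) (m : ℕ) (hm : Nat.card L = 3 ^ m) (ha : orderOf a = 3)
    (hcls : Group.nilpotencyClass (Sd a) = m) : ∃ u ∈ T.E, a u ≠ u := by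
  by_contra hno
  push Not at hno
  have hEM := E_le_M T
  have hm4 : 4 ≤ m := (Nat.pow_le_pow_iff_right (by norm_num : 1 < 3)).1
    (hm ▸ T.card_M ▸ Subgroup.card_le_card_group T.M)
  set n := m + 1 with hn
  have hcard : Nat.card (Sd a) = 3 ^ n := by
    rw [SemidirectProduct.card, hm, Nat.card_zpowers, ha, hn, pow_succ]
  haveI : Finite (Sd a) := Nat.finite_of_card_ne_zero (by rw [hcard]; positivity)
  haveI : Group.IsNilpotent (Sd a) := (IsPGroup.of_card hcard).isNilpotent
  have hcls' : Group.nilpotencyClass (Sd a) = n - 1 := hcls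
  have B : MaxClassAgemo.Base 3 n (Sd a) := ⟨le_rfl, by omega, hcard, hcls'⟩
  set N : Subgroup (Sd a) := (inl : L →* Sd a).range with hN
  have hNk : N = (rightHom : Sd a →* zpowers a).ker := SemidirectProduct.range_inl_eq_ker_rightHom
  have hNidx : N.index = 3 := by
    rw [hNk, index_ker, MonoidHom.range_eq_top.2 rightHom_surjective, card_top, Nat.card_zpowers, ha]
  haveI hNn : N.Normal := hNk ▸ MonoidHom.normal_ker _
  set s : Sd a := inr ⟨a, mem_zpowers a⟩ with hs
  have hsN : s ∉ N := by
    rw [hNk, MonoidHom.mem_ker, hs, rightHom_inr]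
    intro h
    have h1 : a = 1 := congrArg Subtype.val h
    rw [h1, orderOf_one] at ha
    norm_num at ha
  -- characteristic subgroups of `L` are normal
  have hchar : ∀ (K : Subgroup L) (k : ℕ), (∀ x, x ∈ K ↔ x ^ k = 1) → (K.map (inl : L →* Sd a)).Normal := by
    refine fun K k hK => ⟨?_⟩
    rintro _ ⟨e, he, rfl⟩ u
    obtain ⟨e', he'⟩ : u * (inl e : Sd a) * u⁻¹ ∈ N := hNn.conj_mem _ ⟨e, rfl⟩ u
    refine ⟨e', (hK e').2 (inl_injective (φ := (zpowers a).subtype) ?_), he'⟩
    rw [map_pow, he', conj_pow, ← map_pow, (hK e).1 he, map_one, mul_one, mul_inv_cancel]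
  haveI hEn := hchar T.E 3 T.mem_E
  haveI hMn := hchar T.M _ T.mem_M
  have hidx : ∀ (K : Subgroup L) (j : ℕ), Nat.card K = 3 ^ j → j ≤ n →
      (K.map (inl : L →* Sd a)).index = 3 ^ (n - j) := by
    intro K j hK hj
    have h := (K.map (inl : L →* Sd a)).card_mul_index
    rw [card_map_of_injective inl_injective, hK, hcard, ← pow_mul_pow_sub 3 hj] at h
    exact Nat.eq_of_mul_eq_mul_left (pow_pos (by norm_num) j) h
  have hL1N : MaxClassRank.L (Sd a) 1 ≤ N := by
    rw [show MaxClassRank.L (Sd a) 1 = commutator (Sd a) from top_lowerCentralSeries_one, _root_.commutator_def, commutator_le, hNk]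
    intro u _ v _
    rw [MonoidHom.mem_ker, map_commutatorElement, commutatorElement_eq_one_iff_mul_comm]
    obtain ⟨i, hi⟩ := (rightHom u : zpowers a).2
    obtain ⟨j, hj⟩ := (rightHom v : zpowers a).2
    exact Subtype.ext (by rw [coe_mul, coe_mul, ← hi, ← hj]; exact (Commute.refl a).zpow_zpow i j)
  -- the action is trivial modulo `E`
  have hsM : ∀ x ∈ T.M, ⁅(inl x : Sd a), s⁆ ∈ T.E.map (inl : L →* Sd a) := by
    intro x hx
    refine ⟨(a x * x⁻¹)⁻¹, inv_mem (disp_mem_E T a hno hx), ?_⟩
    rw [commutatorElement_def, mul_inv_rev, inv_inv, map_mul, map_inv,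
      show (inl (a x) : Sd a) = s * inl x * s⁻¹ by rw [hs, ← map_inv]; exact inl_aut (φ := (zpowers a).subtype) ⟨a, mem_zpowers a⟩ x]
    group
  rcases eq_or_lt_of_le hm4 with hm4' | hm5
  · -- order `3 ^ 5`
    have hMtop : T.M = ⊤ := eq_top_of_card_eq _ (by rw [T.card_M, hm, ← hm4'])
    set π := QuotientGroup.mk' (T.E.map (inl : L →* Sd a))
    have hgen : ∀ u : Sd a, ∀ x : L, Commute (π u) (π (inl x : Sd a)) := by
      intro u x
      have h1 : ∀ y : L, Commute (π (inl y : Sd a)) (π (inl x : Sd a)) := fun y => by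
        rw [← commutatorElement_eq_one_iff_commute, ← map_commutatorElement, ← map_commutatorElement]
        exact (QuotientGroup.eq_one_iff _).2 (mem_map_of_mem _
          (T.comm y (hMtop ▸ mem_top y) x (hMtop ▸ mem_top x)))
      have h2 : Commute (π s) (π (inl x : Sd a)) := by
        refine (commutatorElement_eq_one_iff_commute.1 ?_).symm
        rw [← map_commutatorElement]
        exact (QuotientGroup.eq_one_iff _).2 (hsM x (hMtop ▸ mem_top x))
      rw [← inl_left_mul_inr_right u, map_mul]
      refine (h1 _).mul_left ?_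
      obtain ⟨k, hk⟩ := u.right.2
      rw [show (inr u.right : Sd a) = s ^ k by rw [hs, ← map_zpow]; exact congrArg inr (Subtype.ext hk.symm), map_zpow]
      exact h2.zpow_left k
    have hle : MaxClassRank.L (Sd a) 1 ≤ T.E.map (inl : L →* Sd a) := by
      rw [show MaxClassRank.L (Sd a) 1 = commutator (Sd a) from top_lowerCentralSeries_one, _root_.commutator_def, commutator_le]
      intro u _ v _
      rw [← QuotientGroup.eq_one_iff]
      show π ⁅u, v⁆ = 1
      rw [map_commutatorElement, commutatorElement_eq_one_iff_commute, ← inl_left_mul_inr_right v, map_mul]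
      refine (hgen u _).mul_right ?_
      obtain ⟨k, hk⟩ := v.right.2
      rw [show (inr v.right : Sd a) = s ^ k by rw [hs, ← map_zpow]; exact congrArg inr (Subtype.ext hk.symm), map_zpow]
      refine Commute.zpow_right ?_ k
      rw [← inl_left_mul_inr_right u, map_mul]
      refine (hgen s _).symm.mul_left ?_
      obtain ⟨l, hl⟩ := u.right.2
      rw [show (inr u.right : Sd a) = s ^ l by rw [hs, ← map_zpow]; exact congrArg inr (Subtype.ext hl.symm), map_zpow]
      exact (Commute.refl _).zpow_left l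
    have h := card_le_of_le hle
    rw [B.L_card le_rfl (by omega), card_map_of_injective inl_injective, T.card_E] at h
    have := (Nat.pow_le_pow_iff_right (by norm_num : 1 < 3)).1 h
    omega
  -- order at least `3 ^ 6`
  have hEL : T.E.map (inl : L →* Sd a) = MaxClassRank.L (Sd a) (n - 3) := by
    have h := Cfsg.Lib.MaxClass.normal_eq_lcs n (Sd a) hcard (by omega) hcls' _ (n - 2) (by omega) (hidx T.E 2 T.card_E (by omega))
    rw [h, show n - 2 - 1 = n - 3 by omega]
  have hML : T.M.map (inl : L →* Sd a) = MaxClassRank.L (Sd a) (n - 5) := by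
    have h := Cfsg.Lib.MaxClass.normal_eq_lcs n (Sd a) hcard (by omega) hcls' _ (n - 4) (by omega) (hidx T.M 4 T.card_M (by omega))
    rw [h, show n - 4 - 1 = n - 5 by omega]
  have hsC : s ∈ stepCent (Sd a) (n - 5) := mem_stepCent.2 fun b hb => by
    rw [← hML] at hb
    obtain ⟨x, hx, rfl⟩ := hb
    rw [show n - 5 + 2 = n - 3 by omega, ← hEL]
    exact hsM x hx
  have hall := MaxClassOutside.stepCent_eq_one B (by omega)
  set C := stepCent (Sd a) 1
  rw [hall (n - 5) (by omega) (by omega)] at hsC
  have hCidx : C.index = 3 := MaxClassOutside.index_stepCent B le_rfl (by omega)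
  have hL1idx : (MaxClassRank.L (Sd a) 1).index = 3 ^ 2 := B.L_index le_rfl (by omega)
  -- elements of `L` outside the derived subgroup
  have hout : ∀ x : L, (inl x : Sd a) ∉ MaxClassRank.L (Sd a) 1 → x ∈ T.M := by
    intro x hx
    refine (T.mem_M x).2 (inl_injective (φ := (zpowers a).subtype) ?_)
    rw [map_pow, map_one]
    refine MaxClassOutside.pow_sq_eq_one_of_outside B fun j h1 h2 hj => ?_
    rw [hall j h1 h2] at hj
    -- otherwise `C ∩ N` lies strictly between
    have hle1 : MaxClassRank.L (Sd a) 1 ≤ C ⊓ N := le_inf (derived_le_stepCent 1) hL1N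
    have hne1 : (C ⊓ N).index ≠ 3 ^ 2 := fun h => hx (by
      have e := relIndex_mul_index hle1
      rw [h, hL1idx] at e
      exact relIndex_eq_one.1 ((mul_eq_right₀ (by norm_num)).1 e) ⟨hj, x, rfl⟩)
    have hne2 : (C ⊓ N).index ≠ 3 := fun h => by
      have e := relIndex_mul_index (inf_le_right : C ⊓ N ≤ N)
      have e' := relIndex_mul_index (inf_le_left : C ⊓ N ≤ C)
      rw [h, hNidx] at e
      rw [h, hCidx] at e'
      exact hsN ((relIndex_eq_one.1 ((mul_eq_right₀ (by norm_num)).1 e')).trans inf_le_right hsC)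
    have hne0 : (C ⊓ N).index ≠ 1 := fun h => by
      rw [index_eq_one] at h
      exact hsN ((h ▸ mem_top s : s ∈ C ⊓ N).2)
    obtain ⟨k, hk2, hk⟩ := (Nat.dvd_prime_pow (Fact.out : Nat.Prime 3)).1 (hL1idx ▸ index_dvd_of_le hle1)
    interval_cases k <;> simp_all
  obtain ⟨x₀, hx₀⟩ : ∃ x₀ : L, (inl x₀ : Sd a) ∉ MaxClassRank.L (Sd a) 1 := by
    by_contra h
    push Not at h
    have h1 : N.index = (MaxClassRank.L (Sd a) 1).index := by
      rw [show N = MaxClassRank.L (Sd a) 1 from le_antisymm (by rintro _ ⟨x, rfl⟩; exact h x) hL1N]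
    rw [hNidx, hL1idx] at h1
    norm_num at h1
  have htop : T.M = ⊤ := by
    refine eq_top_iff.2 fun x _ => ?_
    by_cases hx : (inl x : Sd a) ∈ MaxClassRank.L (Sd a) 1
    · have h1 : x * x₀ ∈ T.M := hout _ fun h => hx₀ (by
        have := mul_mem (inv_mem hx) h
        rwa [map_mul, inv_mul_cancel_left] at this)
      simpa using mul_mem h1 (inv_mem (hout _ hx₀))
    · exact hout x hx
  have h := T.card_M
  rw [htop, card_top, hm] at h
  have := Nat.pow_right_injective (by norm_num : 2 ≤ 3) h
  omega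

/-- Let p be an odd prime and L a finite metacyclic p-group with no cyclic subgroup of index p, and let a be an automorphism of L of order p. Then a moves some element of order p of L if and only if p = 3 and the semidirect product L ⋊ ⟨a⟩ (of order 3·#L) has maximal class, i.e. nilpotency class m where #L = 3^m. -/
theorem result {L : Type*} [Group L] [Finite L] {p : ℕ} [Fact p.Prime]
    (hp : p ≠ 2) (hL : IsPGroup p L) (hmc : Cfsg.IsMetacyclic L) (hnc : ∀ C : Subgroup L, IsCyclic C → C.index ≠ p)
    (a : MulAut L) (ha : orderOf a = p) (m : ℕ) (hm : Nat.card L = p ^ m) :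
    (∃ x : L, orderOf x = p ∧ a x ≠ x) ↔
    (p = 3 ∧ Group.nilpotencyClass (SemidirectProduct L ↥(Subgroup.zpowers a) (Subgroup.zpowers a).subtype) = m) := by
  have hap : a ^ p = 1 := ha ▸ pow_orderOf_eq_one a
  have hne : a ≠ 1 := fun h => (Fact.out : p.Prime).ne_one (by rw [← ha, h, orderOf_one])
  have hncyc : ¬ IsCyclic L := by
    intro hc
    haveI := hc
    rcases Nat.eq_zero_or_pos m with h0 | h0
    · rw [h0, pow_zero, Nat.card_eq_one_iff_unique] at hm
      haveI := hm.1
      exact hne (MulEquiv.ext fun x => Subsingleton.elim _ _)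
    · obtain ⟨C, hC⟩ := Sylow.exists_subgroup_card_pow_prime p
        (show p ^ (m - 1) ∣ Nat.card L by rw [hm]; exact pow_dvd_pow p (Nat.sub_le m 1))
      refine hnc C inferInstance ?_
      have h := C.card_mul_index
      rw [hC, hm, show m = m - 1 + 1 by omega, Nat.add_sub_cancel, pow_succ] at h
      exact Nat.eq_of_mul_eq_mul_left (pow_pos (Fact.out : p.Prime).pos _) h
  obtain ⟨T⟩ := exists_tower hp hL hmc hncyc hnc
  constructor
  · rintro ⟨x, hx, hax⟩
    obtain ⟨hp3, -, hF⟩ := forward T a hp hL hap ((T.mem_E x).2 (hx ▸ pow_orderOf_eq_one x)) hax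
    exact ⟨hp3, max_class a m hm ha hF⟩
  · rintro ⟨rfl, hcls⟩
    obtain ⟨u, hu, hau⟩ := moved a T m hm ha hcls
    refine ⟨u, orderOf_eq_prime ((T.mem_E u).1 hu) ?_, hau⟩
    rintro rfl
    exact hau (map_one a)

end Cfsg.Agent.S4079
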