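import Cfsg.Statements.S4080
import Mathlib

set_option autoImplicit false
open Cfsg

namespace Cfsg.Agent.S4080

/-- Let p > 3 be a prime and L the direct product of two cyclic groups of order p². Every automorphism of L of order p fixes every element of order p of L. -/
theorem result {p : ℕ} [Fact p.Prime] (hp : 3 < p)
    (a : MulAut (Multiplicative (ZMod (p ^ 2) × ZMod (p ^ 2)))) (ha : orderOf a = p)
    (x : Multiplicative (ZMod (p ^ 2) × ZMod (p ^ 2))) (hx : orderOf x = p) : a x = x := by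
  have hp' : p.Prime := Fact.out
  let addhom : (ZMod (p ^ 2)) × (ZMod (p ^ 2)) →+ (ZMod (p ^ 2)) × (ZMod (p ^ 2)) :=
    { toFun := fun v => Multiplicative.toAdd (a (Multiplicative.ofAdd v))
      map_zero' := by simp
      map_add' := fun u v => by simp [ofAdd_add] }
  let φ : ((ZMod (p ^ 2)) × (ZMod (p ^ 2))) →ₗ[(ZMod (p ^ 2))] ((ZMod (p ^ 2)) × (ZMod (p ^ 2))) := addhom.toZModLinearMap (p ^ 2)
  have hφ : ∀ v, φ v = Multiplicative.toAdd (a (Multiplicative.ofAdd v)) := fun v => rfl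
  have hpow : ∀ (m : ℕ) v, (φ ^ m) v = Multiplicative.toAdd ((a ^ m) (Multiplicative.ofAdd v)) := by
    intro m
    induction m with
    | zero => intro v; simp
    | succ m ih => intro v; rw [pow_succ φ m, Module.End.mul_apply, ih, hφ, pow_succ a m]; simp [MulAut.mul_apply]
  have hap : a ^ p = 1 := (congrArg (fun n : ℕ => a ^ n) ha).symm.trans (pow_orderOf_eq_one a)
  have hφp : φ ^ p = 1 := LinearMap.ext fun v => by rw [hpow, hap]; simp
  let F : Module.End (ZMod (p ^ 2)) ((ZMod (p ^ 2)) × (ZMod (p ^ 2))) ≃ₐ[(ZMod (p ^ 2))] Matrix (Fin 2) (Fin 2) (ZMod (p ^ 2)) :=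
    LinearMap.toMatrixAlgEquiv (Module.Basis.finTwoProd (ZMod (p ^ 2)))
  set A := F φ with hA
  have hAp : A ^ p = 1 := by rw [hA, ← map_pow, hφp, map_one]
  set N := A - 1 with hNdef
  let π : (ZMod (p ^ 2)) →+* ZMod p := ZMod.castHom (dvd_pow_self p two_ne_zero) (ZMod p)
  have hsq : ∀ i j, π ((N * N) i j) = 0 := by
    intro i j
    set B := (π.mapMatrix : Matrix (Fin 2) (Fin 2) (ZMod (p ^ 2)) →+* _) N with hB
    have hBp : B ^ p = 0 := by
      rw [hB, hNdef, map_sub, map_one, sub_pow_char_of_commute (p := p) (Commute.one_right _), one_pow,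
        ← map_pow, hAp, map_one, sub_self]
    have hdet : B.det = 0 := by
      have := congrArg Matrix.det hBp
      rw [Matrix.det_pow, Matrix.det_zero] at this
      exact eq_zero_of_pow_eq_zero this
    have hBB : B * B = B.trace • B := by
      rw [Matrix.det_fin_two] at hdet
      ext i j
      fin_cases i <;> fin_cases j <;>
        simp [Matrix.mul_apply, Fin.sum_univ_two, Matrix.trace_fin_two] <;>
        first | linear_combination hdet | linear_combination -hdet | ring
    have hB0 : B * B = 0 := by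
      have hk : ∀ m : ℕ, B ^ (m + 1) = B.trace ^ m • B := by
        intro m
        induction m with
        | zero => simp
        | succ m ih => rw [pow_succ, ih, smul_mul_assoc, hBB, smul_smul, ← pow_succ]
      rw [hBB]
      obtain ⟨m, rfl⟩ : ∃ m, p = m + 1 := ⟨p - 1, by omega⟩
      rw [hk, smul_eq_zero] at hBp
      rcases hBp with h | h
      · rw [eq_zero_of_pow_eq_zero h, zero_smul]
      · rw [h, smul_zero]
    have := congrArg (fun M : Matrix (Fin 2) (Fin 2) (ZMod p) => M i j) hB0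
    rw [hB, ← map_mul] at this
    simpa using this
  have hker : ∀ r : (ZMod (p ^ 2)), π r = 0 → ∃ d : (ZMod (p ^ 2)), r = (p : (ZMod (p ^ 2))) * d := by
    intro r hr
    obtain ⟨n, rfl⟩ := ZMod.natCast_zmod_surjective r
    rw [map_natCast, ZMod.natCast_eq_zero_iff] at hr
    obtain ⟨d, rfl⟩ := hr
    exact ⟨d, by push_cast; rfl⟩
  choose M hM using fun i j => hker _ (hsq i j)
  have hN2 : N * N = (p : (ZMod (p ^ 2))) • Matrix.of M := by ext i j; rw [Matrix.smul_apply, smul_eq_mul]; exact hM i j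
  have hpp : (p : (ZMod (p ^ 2))) * (p : (ZMod (p ^ 2))) = 0 := by rw [← Nat.cast_mul, ← sq, ZMod.natCast_self]
  have hz : ∀ i, 2 ≤ i → i ≤ p → (p.choose i) • N ^ i = 0 := by
    intro i h2 hip
    obtain ⟨l, rfl⟩ : ∃ l, i = l + 2 := ⟨i - 2, by omega⟩
    rcases hip.lt_or_eq with h | h
    · obtain ⟨c, hc⟩ := hp'.dvd_choose_self (show l + 2 ≠ 0 by omega) h
      rw [hc, pow_add, sq N, hN2, ← Nat.cast_smul_eq_nsmul (ZMod (p ^ 2)), mul_smul_comm, smul_smul, Nat.cast_mul,
        show (p : (ZMod (p ^ 2))) * c * p = c * (p * p) by ring, hpp, mul_zero, zero_smul]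
    · obtain ⟨l', rfl⟩ : ∃ l', l = l' + 2 := ⟨l - 2, by omega⟩
      rw [show l' + 2 + 2 = l' + (2 + 2) by ring, pow_add, pow_add, sq N, hN2, smul_mul_smul_comm, hpp,
        zero_smul, mul_zero, smul_zero]
  have hmain : (p : (ZMod (p ^ 2))) • N = 0 := by
    have h1 : A = N + 1 := by rw [hNdef, sub_add_cancel]
    rw [h1, Commute.add_pow (Commute.one_right N)] at hAp
    rw [Finset.sum_range_succ'] at hAp
    rw [Finset.sum_eq_single 0 (fun x hx hx0 => by
        rw [Finset.mem_range] at hx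
        rw [one_pow, mul_one, ← nsmul_eq_mul', hz _ (by omega) (by omega)])
      (fun h => absurd (Finset.mem_range.mpr (by omega)) h)] at hAp
    simp [← nsmul_eq_mul'] at hAp
    rw [Nat.cast_smul_eq_nsmul, nsmul_eq_mul]
    exact hAp
  have hfin : (p : (ZMod (p ^ 2))) • (φ - 1) = 0 := by
    apply F.injective
    rw [map_smul, map_sub, map_one, map_zero, ← hA, ← hNdef, hmain]
  have hxp : p • Multiplicative.toAdd x = 0 := by
    rw [← toAdd_pow, (congrArg (fun n : ℕ => x ^ n) hx).symm.trans (pow_orderOf_eq_one x), toAdd_one]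
  have hcoord : ∀ c : (ZMod (p ^ 2)), p • c = 0 → ∃ d : (ZMod (p ^ 2)), c = (p : (ZMod (p ^ 2))) * d := by
    intro c hc
    obtain ⟨n, rfl⟩ := ZMod.natCast_zmod_surjective c
    rw [nsmul_eq_mul, ← Nat.cast_mul, ZMod.natCast_eq_zero_iff] at hc
    replace hc : p * p ∣ p * n := by rwa [← sq p]
    obtain ⟨d, rfl⟩ := Nat.dvd_of_mul_dvd_mul_left hp'.pos hc
    exact ⟨d, by push_cast; rfl⟩
  obtain ⟨d₁, h1⟩ := hcoord _ (congrArg Prod.fst hxp)
  obtain ⟨d₂, h2⟩ := hcoord _ (congrArg Prod.snd hxp)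
  have hxv : Multiplicative.toAdd x = (p : (ZMod (p ^ 2))) • ((d₁, d₂) : (ZMod (p ^ 2)) × (ZMod (p ^ 2))) := Prod.ext h1 h2
  apply Multiplicative.toAdd.injective
  have h3 := LinearMap.congr_fun hfin (d₁, d₂)
  rw [LinearMap.smul_apply, LinearMap.sub_apply, smul_sub, ← map_smul, ← hxv, LinearMap.zero_apply,
    Module.End.one_apply, ← hxv, sub_eq_zero, hφ] at h3
  simpa using h3

end Cfsg.Agent.S4080
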