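import Cfsg.Statements.S4082
import Mathlib
import Cfsg.Agent.Coprime.Hall
import Cfsg.Agent.Coprime.SchurZassenhaus
import Cfsg.Agent.InvolCalc.Dihedral
import Cfsg.Agent.SolvStruct.CyclicProduct

set_option autoImplicit false
open Cfsg

namespace Cfsg.Agent.S4082


open Subgroup Cfsg.Lib.Coprime

universe u

theorem dihedral_odd {m : ℕ} (a b : DihedralGroup m) (ha : Odd (orderOf a)) (hab : a * b ≠ b * a) :
    orderOf b = 2 ∧ b * a * b⁻¹ = a⁻¹ := by
  rcases a with i | i
  · rcases b with j | j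
    · exact absurd (by rw [DihedralGroup.r_mul_r, DihedralGroup.r_mul_r, add_comm]) hab
    · refine ⟨DihedralGroup.orderOf_sr j, ?_⟩
      rw [DihedralGroup.inv_sr, DihedralGroup.sr_mul_r, DihedralGroup.sr_mul_sr, DihedralGroup.inv_r]
      congr 1
      abel
  · rw [DihedralGroup.orderOf_sr] at ha
    exact absurd ha (by decide)

variable {G : Type u} [Group G] [Finite G] {p : ℕ} [hp : Fact p.Prime]

omit hp in
theorem mem_normalizer_of_conj {S : Subgroup G} {x : G} (h : ∀ z ∈ S, x * z * x⁻¹ ∈ S) :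
    x ∈ normalizer (S : Set G) :=
  conjMap_eq_self_iff.1 (eq_of_le_of_card_eq (by rintro _ ⟨z, hz, rfl⟩; exact h z hz) (card_conjMap x S))

/-- A subgroup generated by a `p`-group and an element normalizing it satisfies the hypothesis. -/
theorem hyp_ok (R : Subgroup G) (hR : IsPGroup p R) (x : G) (hx : x ∈ normalizer (R : Set G)) :
    (∀ S : Sylow p ↥(R ⊔ zpowers x), (S : Subgroup ↥(R ⊔ zpowers x)).Normal) ∧
    ∀ (S : Sylow p ↥(R ⊔ zpowers x)) [(S : Subgroup ↥(R ⊔ zpowers x)).Normal],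
      IsCyclic (↥(R ⊔ zpowers x) ⧸ (S : Subgroup ↥(R ⊔ zpowers x))) := by
  set H := R ⊔ zpowers x
  set R' := R.subgroupOf H
  haveI hRn : R'.Normal := normal_subgroupOf_of_le_normalizer (sup_le le_normalizer (zpowers_le.2 hx))
  have hle : ∀ S : Sylow p ↥H, R' ≤ (S : Subgroup ↥H) := by
    intro S
    have hR' : IsPGroup p R' := hR.comap_of_injective H.subtype H.subtype_injective
    obtain ⟨T, hT⟩ := hR'.exists_le_sylow
    obtain ⟨g, hg⟩ := MulAction.exists_smul_eq ↥H T S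
    intro y hy
    rw [← hg]
    exact ⟨g⁻¹ * y * g, hT (by simpa using hRn.conj_mem y hy g⁻¹), by simp [mul_assoc]⟩
  have hsurj : ∀ q : ↥H ⧸ R', ∃ i : ℤ, QuotientGroup.mk' R' (⟨x, mem_sup_right (mem_zpowers x)⟩ ^ i) = q := by
    intro q
    obtain ⟨⟨y, hy⟩, rfl⟩ := QuotientGroup.mk'_surjective R' q
    obtain ⟨r, hr, v, hv, rfl⟩ := (mem_sup_of_le_normalizer (zpowers_le.2 hx)).1 hy
    obtain ⟨i, rfl⟩ := hv
    refine ⟨i, QuotientGroup.eq.2 ?_⟩
    rw [mem_subgroupOf]
    show ((⟨x, _⟩ : ↥H) ^ i : ↥H).1⁻¹ * (r * x ^ i) ∈ R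
    rw [Subgroup.coe_zpow]
    simpa [mul_assoc] using (mem_normalizer_iff.1 (inv_mem (zpow_mem hx i)) r).1 hr
  have hcomm : commutator ↥H ≤ R' := by
    rw [_root_.commutator_def, commutator_le]
    intro a _ b _
    refine (QuotientGroup.eq_one_iff _).1 ?_
    obtain ⟨i, hi⟩ := hsurj (QuotientGroup.mk' R' a)
    obtain ⟨j, hj⟩ := hsurj (QuotientGroup.mk' R' b)
    show QuotientGroup.mk' R' (a * b * a⁻¹ * b⁻¹) = 1
    rw [map_mul, map_mul, map_mul, map_inv, map_inv, ← hi, ← hj, map_zpow, map_zpow]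
    group
  refine ⟨fun S => Subgroup.Normal.of_commutator_le ↥H (hcomm.trans (hle S)), fun S _ => ?_⟩
  refine ⟨⟨QuotientGroup.mk' _ ⟨x, mem_sup_right (mem_zpowers x)⟩, fun q => ?_⟩⟩
  obtain ⟨y, rfl⟩ := QuotientGroup.mk'_surjective (S : Subgroup ↥H) q
  obtain ⟨i, hi⟩ := hsurj (QuotientGroup.mk' R' y)
  refine ⟨i, ?_⟩
  show (QuotientGroup.mk' _ _) ^ i = _
  rw [← map_zpow]
  exact QuotientGroup.eq.2 (hle S (QuotientGroup.eq.1 hi))

theorem fix_cyclic (S Q A : Subgroup G) [IsCyclic S] (hS : IsPGroup p S) (hQS : Q ≤ S) (hQ : Nat.card Q = p)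
    (hAS : A ≤ normalizer (S : Set G)) (hcop : (Nat.card A).Coprime (Nat.card S))
    (hfix : ∀ a ∈ A, ∀ q ∈ Q, a * q = q * a) : A ≤ centralizer (S : Set G) := by
  haveI : IsMulCommutative S := IsCyclic.isMulCommutative
  obtain ⟨h1, -⟩ := abelian_coprime_decomp hAS hcop
  rw [le_centralizer_iff, ← commutator_eq_bot_iff_le_centralizer]
  by_contra hne
  have hcS : ⁅S, A⁆ ≤ S := by
    rw [commutator_le]
    intro s hs a ha
    rw [commutatorElement_def, mul_assoc, mul_assoc]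
    refine mul_mem hs ?_
    rw [← mul_assoc]
    exact (mem_normalizer_iff.1 (hAS ha) _).1 (inv_mem hs)
  obtain ⟨k, hk⟩ := IsPGroup.iff_card.1 (hS.to_le hcS)
  have hk0 : k ≠ 0 := fun h => hne (card_eq_one.1 (by rw [hk, h, pow_zero]))
  obtain ⟨x, hx⟩ := exists_prime_orderOf_dvd_card' (G := ↥⁅S, A⁆) p (hk ▸ dvd_pow_self p hk0)
  have hxo : orderOf (x : G) = p := by rw [Subgroup.orderOf_coe, hx]
  have he := Cfsg.Lib.SolvStruct.CyclicProduct.eq_of_card_eq_of_isCyclic (A := S) (D := zpowers (x : G)) (E := Q)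
    ((zpowers_le.2 x.2).trans hcS) hQS (by rw [Nat.card_zpowers, hxo, hQ])
  have hxQ : (x : G) ∈ Q := he ▸ mem_zpowers _
  have hm : (x : G) ∈ (S ⊓ centralizer (A : Set G)) ⊓ ⁅S, A⁆ :=
    ⟨⟨hcS x.2, mem_centralizer_iff.2 fun a ha => hfix a ha _ hxQ⟩, x.2⟩
  rw [h1, mem_bot] at hm
  rw [hm, orderOf_one] at hxo
  exact hp.out.ne_one hxo.symm

theorem cyclic_sup {S C : Subgroup G} [hS : IsCyclic S] [hC : IsCyclic C] (hcop : (Nat.card S).Coprime (Nat.card C))
    (hcomm : ∀ s ∈ S, ∀ c ∈ C, s * c = c * s) : IsCyclic (S ⊔ C : Subgroup G) := by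
  obtain ⟨s, hs⟩ := hS.exists_generator
  obtain ⟨c, hc⟩ := hC.exists_generator
  have hso : orderOf (s : G) = Nat.card S := by rw [Subgroup.orderOf_coe]; exact orderOf_eq_card_of_forall_mem_zpowers hs
  have hco : orderOf (c : G) = Nat.card C := by rw [Subgroup.orderOf_coe]; exact orderOf_eq_card_of_forall_mem_zpowers hc
  have hcs : Commute (s : G) c := hcomm _ s.2 _ c.2
  have ho := hcs.orderOf_mul_eq_mul_orderOf_of_coprime (by rw [hso, hco]; exact hcop)
  refine isCyclic_of_orderOf_eq_card ⟨(s : G) * c, mul_mem_sup s.2 c.2⟩ ?_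
  rw [Subgroup.orderOf_mk, ho, hso, hco, card_sup_coprime
    (fun a ha => mem_normalizer_of_conj fun k hk => by rw [← hcomm k hk a ha, mul_inv_cancel_right]; exact hk) hcop]

/-- Control of `N(Q)` by `N(P)`. -/
theorem centralizes_Q (P : Sylow p G) [IsCyclic P]
    (h1 : normalizer ((P : Subgroup G) : Set G) = centralizer ((P : Subgroup G) : Set G))
    (Q : Subgroup G) (hQP : Q ≤ P) {x : G} (hx : x ∈ normalizer (Q : Set G)) : x ∈ centralizer (Q : Set G) := by
  haveI : IsMulCommutative (P : Subgroup G) := IsCyclic.isMulCommutative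
  have hab : ∀ a ∈ (P : Subgroup G), ∀ b ∈ (P : Subgroup G), a * b = b * a := fun a ha b hb =>
    congrArg Subtype.val (mul_comm' (⟨a, ha⟩ : (P : Subgroup G)) ⟨b, hb⟩)
  set C := centralizer (Q : Set G)
  have hPC : (P : Subgroup G) ≤ C := fun a ha => mem_centralizer_iff.2 fun b hb => hab b (hQP hb) a ha
  have hPxC : ((x • P : Sylow p G) : Subgroup G) ≤ C := by
    rintro _ ⟨a, ha, rfl⟩
    refine mem_centralizer_iff.2 fun b hb => ?_
    have hb' : x⁻¹ * b * x ∈ Q := by simpa using (mem_normalizer_iff.1 (inv_mem hx) b).1 hb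
    show b * (x * a * x⁻¹) = x * a * x⁻¹ * b
    calc b * (x * a * x⁻¹) = x * ((x⁻¹ * b * x) * a) * x⁻¹ := by group
      _ = x * (a * (x⁻¹ * b * x)) * x⁻¹ := by rw [hab _ (hQP hb') a ha]
      _ = x * a * x⁻¹ * b := by group
  obtain ⟨c, hc⟩ := MulAction.exists_smul_eq C ((x • P).subtype hPxC) (P.subtype hPC)
  rw [Sylow.smul_subtype] at hc
  have hcP : ((c : G) * x) • P = P := by rw [mul_smul]; exact Sylow.subtype_injective hc
  rw [Sylow.smul_eq_iff_mem_normalizer] at hcP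
  have h3 : (c : G) * x ∈ C := centralizer_le (show (Q : Set G) ⊆ (P : Subgroup G) from hQP) (h1.le hcP)
  simpa using mul_mem (inv_mem c.2) h3

theorem core (P : Sylow p G) [IsCyclic P] (hp2 : p ≠ 2)
    (h : Subgroup.normalizer ((P : Subgroup G) : Set G) = Subgroup.centralizer ((P : Subgroup G) : Set G) ∨
       ((Subgroup.centralizer ((P : Subgroup G) : Set G)).relIndex (Subgroup.normalizer ((P : Subgroup G) : Set G)) = 2 ∧
        ∀ Q : Subgroup G, Q ≤ P → Nat.card Q = p →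
          IsMulCommutative ↥(Subgroup.centralizer (Q : Set G)) ∧
          ∀ x : G, x ∈ Subgroup.normalizer (Q : Set G) → x ∉ Subgroup.centralizer (Q : Set G) →
            orderOf x = 2 ∧ ∀ c : G, c ∈ Subgroup.centralizer (Q : Set G) → x * c * x⁻¹ = c⁻¹))
    (S C : Subgroup G) [hC : IsCyclic C] (hSP : S ≤ (P : Subgroup G)) (hCS : C ≤ normalizer (S : Set G))
    (hcop : (Nat.card S).Coprime (Nat.card C)) :
    IsCyclic (S ⊔ C : Subgroup G) ∨ ∃ n : ℕ, Nonempty (↥(S ⊔ C) ≃* DihedralGroup (p ^ n)) := by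
  haveI : IsCyclic S := isCyclic_of_injective (inclusion hSP) (inclusion_injective _)
  have hSp : IsPGroup p S := P.2.to_le hSP
  obtain ⟨k, hk⟩ := IsPGroup.iff_card.1 hSp
  by_cases hk0 : k = 0
  · have hS1 : S = ⊥ := card_eq_one.1 (by rw [hk, hk0, pow_zero])
    rw [hS1, bot_sup_eq]; exact Or.inl hC
  obtain ⟨z, hz⟩ := exists_prime_orderOf_dvd_card' (G := S) p (hk ▸ dvd_pow_self p hk0)
  have hzo : orderOf (z : G) = p := by rw [Subgroup.orderOf_coe, hz]
  set Q := zpowers (z : G) with hQdef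
  have hQS : Q ≤ S := zpowers_le.2 z.2
  have hQc : Nat.card Q = p := by rw [hQdef, Nat.card_zpowers, hzo]
  have hCQ : C ≤ normalizer (Q : Set G) := fun c hc => by
    refine conjMap_eq_self_iff.1 (Cfsg.Lib.SolvStruct.CyclicProduct.eq_of_card_eq_of_isCyclic (A := S) ?_ hQS
      (card_conjMap c Q))
    exact (conjMap_mono hQS).trans (conjMap_eq_self (hCS hc)).le
  have hcyc : (∀ c ∈ C, c ∈ centralizer (Q : Set G)) → IsCyclic (S ⊔ C : Subgroup G) := fun hh =>
    cyclic_sup hcop fun s hs c hc => mem_centralizer_iff.1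
      (fix_cyclic S Q C hSp hQS hQc hCS hcop.symm (fun a ha q hq => (mem_centralizer_iff.1 (hh a ha) q hq).symm) hc) s hs
  rcases h with h1 | ⟨-, h2⟩
  · exact Or.inl (hcyc fun c hc => centralizes_Q P h1 Q (hQS.trans hSP) (hCQ hc))
  obtain ⟨-, hout⟩ := h2 Q (hQS.trans hSP) hQc
  by_cases hall : ∀ c ∈ C, c ∈ centralizer (Q : Set G)
  · exact Or.inl (hcyc hall)
  push Not at hall
  obtain ⟨x, hxC, hxQ⟩ := hall
  obtain ⟨hxo, hxinv⟩ := hout x (hCQ hxC) hxQ
  have hcomm : ∀ a ∈ C, ∀ b ∈ C, a * b = b * a := fun a ha b hb =>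
    congrArg Subtype.val ((IsCyclic.commGroup (α := C)).mul_comm ⟨a, ha⟩ ⟨b, hb⟩)
  have hexp : Monoid.exponent C ∣ 2 := by
    refine Monoid.exponent_dvd_of_forall_pow_eq_one fun y => Subtype.ext ?_
    rw [Subgroup.coe_pow, Subgroup.coe_one]
    by_cases hy : (y : G) ∈ centralizer (Q : Set G)
    · have h3 := hxinv _ hy
      rw [hcomm x hxC y y.2, mul_inv_cancel_right] at h3
      rw [sq]
      nth_rewrite 1 [h3]
      exact inv_mul_cancel _
    · rw [← (hout _ (hCQ y.2) hy).1]; exact pow_orderOf_eq_one _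
  rw [IsCyclic.exponent_eq_card] at hexp
  have hCx : C = zpowers x := by
    refine (eq_of_le_of_card_eq (zpowers_le.2 hxC) ?_).symm
    rw [Nat.card_zpowers, hxo]
    refine (((Nat.dvd_prime Nat.prime_two).1 hexp).resolve_left fun h1 => ?_).symm
    have : x = 1 := mem_bot.1 ((card_eq_one.1 h1).le hxC)
    rw [this, orderOf_one] at hxo
    omega
  obtain ⟨s, hs⟩ := IsCyclic.exists_generator (α := S)
  have hsS : S = zpowers (s : G) := le_antisymm
    (fun a ha => by obtain ⟨i, hi⟩ := hs ⟨a, ha⟩; exact ⟨i, congrArg Subtype.val hi⟩) (zpowers_le.2 s.2)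
  haveI : IsMulCommutative (P : Subgroup G) := IsCyclic.isMulCommutative
  have hxs : x * s * x⁻¹ = (s : G)⁻¹ := hxinv _ (mem_centralizer_iff.2 fun q hq =>
    congrArg Subtype.val (mul_comm' (⟨q, hSP (hQS hq)⟩ : (P : Subgroup G)) ⟨s, hSP s.2⟩))
  have hs1 : (s : G) ≠ 1 := fun e => by
    rw [hsS, e, zpowers_one_eq_bot] at hk
    rw [card_bot] at hk
    exact (Nat.one_lt_pow hk0 hp.out.one_lt).ne hk
  have hx1 : x⁻¹ = x := inv_eq_of_mul_eq_one_left (by rw [← sq, ← hxo, pow_orderOf_eq_one])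
  have hxso : orderOf (x * (s : G)) = 2 := by
    refine orderOf_eq_prime ?_ fun e => ?_
    · calc (x * (s : G)) ^ 2 = (x * s * x⁻¹) * (x * x) * s := by rw [pow_two]; group
        _ = 1 := by rw [hxs]; nth_rewrite 2 [← hx1]; group
    · have hxS : x ∈ S := by rw [eq_inv_of_mul_eq_one_left e]; exact inv_mem s.2
      refine hxQ (mem_centralizer_iff.2 fun q hq => ?_)
      exact congrArg Subtype.val (mul_comm' (⟨q, hSP (hQS hq)⟩ : (P : Subgroup G)) ⟨x, hSP hxS⟩)
  obtain ⟨e⟩ := Cfsg.Lib.InvolCalc.exists_dihedral_equiv hxo hxso (fun e => hs1 (left_eq_mul.1 e))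
  have hprod : x * (x * (s : G)) = s := by
    rw [← mul_assoc]; nth_rewrite 1 [← hx1]; rw [inv_mul_cancel, one_mul]
  have hcl : closure ({x, x * (s : G)} : Set G) = S ⊔ C := by
    refine le_antisymm ((closure_le _).2 ?_) (sup_le ?_ ?_)
    · rintro w (rfl | hw)
      · exact mem_sup_right hxC
      · rw [Set.mem_singleton_iff.1 hw]; exact mul_mem (mem_sup_right hxC) (mem_sup_left s.2)
    · refine hsS.le.trans (zpowers_le.2 ?_)
      have hx1' : x ∈ closure ({x, x * (s : G)} : Set G) := subset_closure (by simp)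
      have hx2' : x * (s : G) ∈ closure ({x, x * (s : G)} : Set G) := subset_closure (by simp)
      have h3 := mul_mem hx1' hx2'
      rwa [hprod] at h3
    · rw [hCx, zpowers_le]; exact subset_closure (by simp)
  have hord : orderOf (x * (x * (s : G))) = p ^ k := by
    rw [hprod, ← hk, ← Nat.card_zpowers]; exact congrArg (fun T : Subgroup G => Nat.card T) hsS.symm
  rw [hord] at e
  exact Or.inr ⟨k, ⟨(MulEquiv.subgroupCongr hcl).symm.trans e⟩⟩

theorem forward (P : Sylow p G) (hp2 : p ≠ 2)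
    (h : ∀ H : Subgroup G, (∀ S : Sylow p ↥H, (S : Subgroup ↥H).Normal) →
        (∀ (S : Sylow p ↥H) [(S : Subgroup ↥H).Normal], IsCyclic (↥H ⧸ (S : Subgroup ↥H))) →
        IsCyclic H ∨ (∃ n : ℕ, Nonempty (H ≃* DihedralGroup (p ^ n)))) :
    IsCyclic P ∧
      (Subgroup.normalizer ((P : Subgroup G) : Set G) = Subgroup.centralizer ((P : Subgroup G) : Set G) ∨
       ((Subgroup.centralizer ((P : Subgroup G) : Set G)).relIndex (Subgroup.normalizer ((P : Subgroup G) : Set G)) = 2 ∧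
        ∀ Q : Subgroup G, Q ≤ P → Nat.card Q = p →
          IsMulCommutative ↥(Subgroup.centralizer (Q : Set G)) ∧
          ∀ x : G, x ∈ Subgroup.normalizer (Q : Set G) → x ∉ Subgroup.centralizer (Q : Set G) →
            orderOf x = 2 ∧ ∀ c : G, c ∈ Subgroup.centralizer (Q : Set G) → x * c * x⁻¹ = c⁻¹)) := by
  -- the consequence for a `p`-group and a non-centralizing element of its normalizer
  have key : ∀ R : Subgroup G, IsPGroup p R → ∀ x ∈ normalizer (R : Set G), ∀ a ∈ R, a * x ≠ x * a →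
      orderOf x = 2 ∧ x * a * x⁻¹ = a⁻¹ := by
    intro R hR x hx a ha hne
    obtain ⟨h1, h2⟩ := hyp_ok R hR x hx
    have hxm : x ∈ R ⊔ zpowers x := mem_sup_right (mem_zpowers x)
    have ham : a ∈ R ⊔ zpowers x := mem_sup_left ha
    rcases h _ h1 h2 with hc | ⟨n, ⟨e⟩⟩
    · exact absurd (congrArg Subtype.val
        ((IsCyclic.commGroup (α := ↥(R ⊔ zpowers x))).mul_comm ⟨a, ham⟩ ⟨x, hxm⟩)) hne
    have hodd : Odd (orderOf (e ⟨a, ham⟩)) := by
      rw [MulEquiv.orderOf_eq, Subgroup.orderOf_mk]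
      obtain ⟨j, hj⟩ := IsPGroup.iff_orderOf.1 hR ⟨a, ha⟩
      rw [Subgroup.orderOf_mk] at hj
      rw [hj]
      exact (hp.out.odd_of_ne_two hp2).pow
    obtain ⟨h3, h4⟩ := dihedral_odd _ (e ⟨x, hxm⟩) hodd (fun hh => hne (by
      rw [← map_mul, ← map_mul] at hh
      exact congrArg Subtype.val (e.injective hh)))
    rw [MulEquiv.orderOf_eq, Subgroup.orderOf_mk] at h3
    rw [← map_inv, ← map_inv, ← map_mul, ← map_mul] at h4
    exact ⟨h3, congrArg Subtype.val (e.injective h4)⟩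
  have hcyc : IsCyclic P := by
    obtain ⟨h1, h2⟩ := hyp_ok (P : Subgroup G) P.2 1 (one_mem _)
    have hP : (P : Subgroup G) ⊔ zpowers (1 : G) = P := by rw [zpowers_one_eq_bot, sup_bot_eq]
    rcases h _ h1 h2 with hc | ⟨n, ⟨e⟩⟩
    · exact (MulEquiv.subgroupCongr hP).isCyclic.1 hc
    · exfalso
      obtain ⟨a, ha⟩ := IsPGroup.iff_card.1 P.2
      rw [← Nat.card_congr (MulEquiv.subgroupCongr hP).toEquiv, Nat.card_congr e.toEquiv, DihedralGroup.nat_card] at ha
      have h3 : 2 ∣ p ^ a := ha ▸ Dvd.intro _ rfl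
      exact hp2 ((Nat.prime_dvd_prime_iff_eq Nat.prime_two hp.out).1 (Nat.prime_two.dvd_of_dvd_pow h3)).symm
  refine ⟨hcyc, ?_⟩
  set N := normalizer ((P : Subgroup G) : Set G)
  set C := centralizer ((P : Subgroup G) : Set G)
  have hCN : C ≤ N := fun c hc => mem_normalizer_of_conj fun z hz => by
    rw [← mem_centralizer_iff.1 hc z hz, mul_inv_cancel_right]; exact hz
  by_cases hNC : N = C
  · exact Or.inl hNC
  right
  obtain ⟨u, hu, huC⟩ : ∃ u ∈ N, u ∉ C := by
    by_contra hh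
    push Not at hh
    exact hNC (le_antisymm hh hCN)
  have hinv : ∀ v ∈ N, v ∉ C → orderOf v = 2 ∧ ∀ a ∈ (P : Subgroup G), v * a * v⁻¹ = a⁻¹ := by
    intro v hv hvC
    obtain ⟨g, hg⟩ := hcyc.exists_generator
    have hgv : (g : G) * v ≠ v * g := fun e => hvC (mem_centralizer_iff.2 fun a ha => by
      obtain ⟨i, hi⟩ := hg ⟨a, ha⟩
      rw [show a = (g : G) ^ i from (congrArg Subtype.val hi).symm]
      exact ((show Commute (g : G) v from e).zpow_left i).eq)
    obtain ⟨h3, h4⟩ := key _ P.2 v hv _ g.2 hgv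
    refine ⟨h3, fun a ha => ?_⟩
    obtain ⟨i, hi⟩ := hg ⟨a, ha⟩
    rw [show a = (g : G) ^ i from (congrArg Subtype.val hi).symm, ← conj_zpow, h4, inv_zpow]
  refine ⟨?_, fun Q hQP hQc => ?_⟩
  · have h2 : (C.subgroupOf N).index = 2 := by
      rw [index_eq_two_iff']
      refine ⟨⟨u, hu⟩, fun v => ?_⟩
      by_cases hv : (v : G) ∈ C
      · exact Or.inr ⟨hv, fun h => huC (by simpa using mul_mem (show u * (v : G) ∈ C from h) (inv_mem hv))⟩
      · refine Or.inl ⟨mem_centralizer_iff.2 fun a ha => ?_, hv⟩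
        have h1 := (hinv _ hu huC).2 a⁻¹ (inv_mem ha)
        have h2 := (hinv _ v.2 hv).2 a ha
        show a * (u * (v : G)) = u * (v : G) * a
        calc a * (u * (v : G)) = u * a⁻¹ * u⁻¹ * (u * (v : G)) := by rw [h1, inv_inv]
          _ = u * ((v : G) * a * (v : G)⁻¹) * (v : G) := by rw [h2]; group
          _ = u * (v : G) * a := by group
    exact h2
  set D := centralizer (Q : Set G)
  have hout : ∀ v ∈ normalizer (Q : Set G), v ∉ D → orderOf v = 2 := by
    intro v hv hvD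
    obtain ⟨a, ha, hne⟩ : ∃ a ∈ Q, a * v ≠ v * a := by
      by_contra hh
      push Not at hh
      exact hvD (mem_centralizer_iff.2 hh)
    exact (key _ (P.2.to_le hQP) v hv a ha hne).1
  have hconj : ∀ v ∈ normalizer (Q : Set G), v ∉ D → ∀ c ∈ D, v * c * v⁻¹ = c⁻¹ := by
    intro v hv hvD c hc
    have hcN : c ∈ normalizer (Q : Set G) := mem_normalizer_of_conj fun z hz => by
      rw [← mem_centralizer_iff.1 hc z hz, mul_inv_cancel_right]; exact hz
    have h1 := hout _ (mul_mem hv hcN) (fun h => hvD (by simpa using mul_mem h (inv_mem hc)))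
    have h2 := hout v hv hvD
    have e1 : (v * c) * (v * c) = 1 := by rw [← sq, ← h1, pow_orderOf_eq_one]
    have e2 : v⁻¹ = v := inv_eq_of_mul_eq_one_left (by rw [← sq, ← h2, pow_orderOf_eq_one])
    calc v * c * v⁻¹ = (v * c) * (v * c) * c⁻¹ := by rw [e2]; group
      _ = c⁻¹ := by rw [e1, one_mul]
  refine ⟨⟨⟨fun a b => ?_⟩⟩, fun v hv hvD => ⟨hout v hv hvD, hconj v hv hvD⟩⟩
  -- an inverting element exists
  obtain ⟨g, hg⟩ := hcyc.exists_generator
  have huQ : u ∈ normalizer (Q : Set G) := mem_normalizer_of_conj fun z hz => by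
    rw [(hinv u hu huC).2 z (hQP hz)]; exact inv_mem hz
  have huD : u ∉ D := fun h => by
    obtain ⟨z, hz⟩ := exists_prime_orderOf_dvd_card' (G := Q) p (by rw [hQc])
    have h1 := (hinv u hu huC).2 z (hQP z.2)
    rw [← mem_centralizer_iff.1 h z z.2, mul_inv_cancel_right] at h1
    have h2 : orderOf (z : G) ∣ 2 := orderOf_dvd_of_pow_eq_one (by
      rw [sq]; nth_rewrite 1 [h1]; exact inv_mul_cancel _)
    rw [Subgroup.orderOf_coe, hz] at h2
    exact hp2 ((Nat.prime_dvd_prime_iff_eq hp.out Nat.prime_two).1 h2)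
  apply Subtype.ext
  show (a : G) * b = b * a
  have h1 := hconj u huQ huD _ (mul_mem a.2 b.2)
  have h2 := hconj u huQ huD _ a.2
  have h3 := hconj u huQ huD _ b.2
  have h4 : u * ((a : G) * b) * u⁻¹ = (u * a * u⁻¹) * (u * b * u⁻¹) := by group
  rw [h1, h2, h3, mul_inv_rev] at h4
  rw [← inv_inj, mul_inv_rev, mul_inv_rev, h4]

theorem main (P : Sylow p G) (hp2 : p ≠ 2) :
    (∀ H : Subgroup G, (∀ S : Sylow p ↥H, (S : Subgroup ↥H).Normal) →
        (∀ (S : Sylow p ↥H) [(S : Subgroup ↥H).Normal], IsCyclic (↥H ⧸ (S : Subgroup ↥H))) →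
        IsCyclic H ∨ (∃ n : ℕ, Nonempty (H ≃* DihedralGroup (p ^ n)))) ↔
    (IsCyclic P ∧
      (Subgroup.normalizer ((P : Subgroup G) : Set G) = Subgroup.centralizer ((P : Subgroup G) : Set G) ∨
       ((Subgroup.centralizer ((P : Subgroup G) : Set G)).relIndex (Subgroup.normalizer ((P : Subgroup G) : Set G)) = 2 ∧
        ∀ Q : Subgroup G, Q ≤ P → Nat.card Q = p →
          IsMulCommutative ↥(Subgroup.centralizer (Q : Set G)) ∧
          ∀ x : G, x ∈ Subgroup.normalizer (Q : Set G) → x ∉ Subgroup.centralizer (Q : Set G) →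
            orderOf x = 2 ∧ ∀ c : G, c ∈ Subgroup.centralizer (Q : Set G) → x * c * x⁻¹ = c⁻¹))) := by
  refine ⟨forward P hp2, fun ⟨hcyc, h⟩ H hn hq => ?_⟩
  haveI := hcyc
  obtain ⟨S₀⟩ : Nonempty (Sylow p ↥H) := inferInstance
  haveI := hn S₀
  haveI := hq S₀
  set S := (S₀ : Subgroup ↥H).map H.subtype with hSdef
  have hSH : S ≤ H := map_subtype_le _
  have hSp : IsPGroup p S := S₀.2.map _
  have hHS : H ≤ normalizer (S : Set G) := by
    have h1 := (S₀ : Subgroup ↥H).le_normalizer_map H.subtype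
    rwa [normalizer_eq_top_iff.2 (hn S₀), ← MonoidHom.range_eq_map, range_subtype] at h1
  obtain ⟨a, ha⟩ := IsPGroup.iff_card.1 hSp
  have hidx : ¬ p ∣ S.relIndex H := by
    rw [show S.relIndex H = (S₀ : Subgroup ↥H).index by
      rw [relIndex, subgroupOf, hSdef, comap_map_eq_self_of_injective H.subtype_injective]]
    exact S₀.not_dvd_index
  have hc' := (hp.out.coprime_iff_not_dvd.2 hidx).pow_left a
  obtain ⟨C, hCH, hsup, hCc⟩ := exists_complement_in hSH hHS (by rw [ha]; exact hc')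
  have hcop : (Nat.card S).Coprime (Nat.card C) := by rw [ha, hCc]; exact hc'
  haveI : IsCyclic C := by
    let f := (QuotientGroup.mk' (S₀ : Subgroup ↥H)).comp (Subgroup.inclusion hCH)
    refine isCyclic_of_injective f ((injective_iff_map_eq_one f).2 fun c hc => ?_)
    have h1 : (c : G) ∈ S ⊓ C := ⟨⟨_, (QuotientGroup.eq_one_iff _).1 hc, rfl⟩, c.2⟩
    rw [Cfsg.Lib.Coprime.inf_eq_bot_of_coprime hcop, mem_bot] at h1
    exact Subtype.ext h1
  obtain ⟨T, hT⟩ := hSp.exists_le_sylow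
  obtain ⟨g, hg⟩ := MulAction.exists_smul_eq G T P
  haveI : IsCyclic (conjMap g C) := (C.equivMapOfInjective _ (MulAut.conj g).injective).isCyclic.1 inferInstance
  have hSP : conjMap g S ≤ (P : Subgroup G) := (conjMap_mono hT).trans (by rw [← hg]; exact le_refl _)
  have hCS : conjMap g C ≤ normalizer ((conjMap g S : Subgroup G) : Set G) := by
    rw [normalizer_conjMap]; exact conjMap_mono (hCH.trans hHS)
  have key := core P hp2 h (conjMap g S) (conjMap g C) hSP hCS (by rw [card_conjMap, card_conjMap]; exact hcop)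
  rw [← conjMap_sup, hsup] at key
  let e : H ≃* conjMap g H := H.equivMapOfInjective _ (MulAut.conj g).injective
  rcases key with k1 | ⟨n, ⟨k2⟩⟩
  · exact Or.inl (e.isCyclic.2 k1)
  · exact Or.inr ⟨n, ⟨e.trans k2⟩⟩


/-- Let p be an odd prime and G a finite group with Sylow p-subgroup P. Say that G has restricted p-by-cyclic subgroups when every subgroup H of G whose Sylow p-subgroup is normal in H with cyclic quotient is itself cyclic or dihedral of order 2pⁿ for some n. Then G has restricted p-by-cyclic subgroups if and only if P is cyclic and one of the following holds: (1) N_G(P) = C_G(P); or (2) N_G(P)/C_G(P) has order 2 and, for the subgroup Q of order p of P, the centralizer C_G(Q) is abelian and every element of N_G(Q) outside C_G(Q) is an involution inverting every element of C_G(Q). -/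
theorem result {G : Type*} [Group G] [Finite G] {p : ℕ}
    [Fact p.Prime] (hp : p ≠ 2) (P : Sylow p G) :
    (∀ H : Subgroup G, (∀ S : Sylow p ↥H, (S : Subgroup ↥H).Normal) →
        (∀ (S : Sylow p ↥H) [(S : Subgroup ↥H).Normal], IsCyclic (↥H ⧸ (S : Subgroup ↥H))) →
        IsCyclic H ∨ (∃ n : ℕ, Nonempty (H ≃* DihedralGroup (p ^ n)))) ↔
    (IsCyclic P ∧
      (Subgroup.normalizer ((P : Subgroup G) : Set G) = Subgroup.centralizer ((P : Subgroup G) : Set G) ∨
       ((Subgroup.centralizer ((P : Subgroup G) : Set G)).relIndex (Subgroup.normalizer ((P : Subgroup G) : Set G)) = 2 ∧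
        ∀ Q : Subgroup G, Q ≤ P → Nat.card Q = p →
          IsMulCommutative ↥(Subgroup.centralizer (Q : Set G)) ∧
          ∀ x : G, x ∈ Subgroup.normalizer (Q : Set G) → x ∉ Subgroup.centralizer (Q : Set G) →
            orderOf x = 2 ∧ ∀ c : G, c ∈ Subgroup.centralizer (Q : Set G) → x * c * x⁻¹ = c⁻¹))) := by
  exact main P hp

end Cfsg.Agent.S4082
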