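import Cfsg.Statements.S4083
import Mathlib
import Cfsg.Agent.Coprime.Hall
import Cfsg.Agent.Coprime.SchurZassenhaus
import Cfsg.Agent.InvolCalc.Dihedral
import Cfsg.Agent.TwoFusion.DihedralSubgroups
import Cfsg.Agent.S0228

set_option autoImplicit false
open Cfsg

namespace Cfsg.Agent.S4083


open Subgroup Cfsg.Lib.Coprime

universe u

theorem zmod_two_torsion {n : ℕ} (hn : 1 ≤ n) (j : ZMod (2 ^ n)) (h : 2 * j = 0) :
    j = 0 ∨ j = ((2 ^ (n - 1) : ℕ) : ZMod (2 ^ n)) := by
  obtain ⟨m, rfl⟩ : ∃ m, n = m + 1 := ⟨n - 1, by omega⟩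
  have hd : 2 ^ (m + 1) ∣ 2 * j.val := by
    rw [← ZMod.natCast_eq_zero_iff, Nat.cast_mul, ZMod.natCast_zmod_val]
    exact_mod_cast h
  obtain ⟨c, hc⟩ := Nat.dvd_of_mul_dvd_mul_left two_pos ((pow_succ' 2 m).symm.dvd.trans hd)
  have hlt : j.val < 2 * 2 ^ m := lt_of_lt_of_eq j.val_lt (pow_succ' 2 m)
  rcases Nat.lt_or_ge c 1 with h0 | h1
  · left
    rw [← ZMod.natCast_zmod_val j, hc, show c = 0 by omega, mul_zero, Nat.cast_zero]
  · right
    have hc1 : c = 1 := by
      by_contra hne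
      have h2 : 2 ^ m * 2 ≤ 2 ^ m * c := Nat.mul_le_mul_left _ (by omega)
      omega
    rw [← ZMod.natCast_zmod_val j, hc, hc1, mul_one]
    rfl

/-- Subgroups of a dihedral `2`-group. -/
theorem dihedral_subgroup {n : ℕ} (hn : 1 ≤ n) (U : Subgroup (DihedralGroup (2 ^ n))) :
    IsCyclic U ∨ ((∃ k : ℕ, Nonempty (U ≃* DihedralGroup (2 ^ k))) ∧
      ∃ z t : U, z * z = 1 ∧ t * t = 1 ∧ z ≠ 1 ∧ t ≠ 1 ∧ z ≠ t ∧ z * t = t * z) := by
  classical
  set R : Subgroup (DihedralGroup (2 ^ n)) := zpowers (DihedralGroup.r 1)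
  have hrot : ∀ i, DihedralGroup.r i ∈ R := fun i => ⟨(i.val : ℤ), by simp [DihedralGroup.r_one_pow]⟩
  by_cases hUR : U ≤ R
  · exact Or.inl (isCyclic_of_injective (Subgroup.inclusion hUR) (inclusion_injective hUR))
  obtain ⟨t, htU, htR⟩ := SetLike.not_le_iff_exists.1 hUR
  obtain ⟨i, rfl⟩ : ∃ i, t = DihedralGroup.sr i := by
    rcases t with j | j
    · exact absurd (hrot j) htR
    · exact ⟨j, rfl⟩
  haveI : IsCyclic (U ⊓ R : Subgroup (DihedralGroup (2 ^ n))) :=
    isCyclic_of_injective (Subgroup.inclusion inf_le_right) (inclusion_injective _)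
  obtain ⟨c, hc⟩ := IsCyclic.exists_generator (α := (U ⊓ R : Subgroup (DihedralGroup (2 ^ n))))
  have hdec : ∀ u ∈ U, ∃ k : ℤ, u = (c : DihedralGroup (2 ^ n)) ^ k ∨ u = DihedralGroup.sr i * (c : DihedralGroup (2 ^ n)) ^ k := by
    intro u hu
    rcases u with j | j
    · obtain ⟨k, hk⟩ := hc ⟨_, hu, hrot j⟩
      exact ⟨k, Or.inl (congrArg Subtype.val hk).symm⟩
    · obtain ⟨k, hk⟩ := hc ⟨DihedralGroup.sr i * DihedralGroup.sr j, U.mul_mem htU hu,
        by rw [DihedralGroup.sr_mul_sr]; exact hrot _⟩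
      refine ⟨k, Or.inr ?_⟩
      have hk' : (c : DihedralGroup (2 ^ n)) ^ k = DihedralGroup.sr i * DihedralGroup.sr j := congrArg Subtype.val hk
      rw [hk', ← mul_assoc, DihedralGroup.sr_mul_self, one_mul]
  by_cases hc1 : (c : DihedralGroup (2 ^ n)) = 1
  · left
    have hU : U = zpowers (DihedralGroup.sr i) := by
      refine le_antisymm (fun u hu => ?_) (zpowers_le.2 htU)
      obtain ⟨k, h | h⟩ := hdec u hu
      · rw [h, hc1, one_zpow]; exact one_mem _
      · rw [h, hc1, one_zpow, mul_one]; exact mem_zpowers _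
    rw [hU]; infer_instance
  right
  obtain ⟨l, hl⟩ : ∃ l, (c : DihedralGroup (2 ^ n)) = DihedralGroup.r l := by
    obtain ⟨k, hk⟩ := c.2.2
    exact ⟨(k : ZMod (2 ^ n)), by rw [← hk]; simp [DihedralGroup.r_one_zpow]⟩
  set y := DihedralGroup.sr i * (c : DihedralGroup (2 ^ n)) with hy
  have hxo : orderOf (DihedralGroup.sr i : DihedralGroup (2 ^ n)) = 2 := DihedralGroup.orderOf_sr i
  have hyo : orderOf y = 2 := by rw [hy, hl, DihedralGroup.sr_mul_r]; exact DihedralGroup.orderOf_sr _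
  have hxy : DihedralGroup.sr i ≠ y := fun e => hc1 (by rw [hy] at e; exact (left_eq_mul.1 e))
  have hxyc : DihedralGroup.sr i * y = c := by rw [hy, ← mul_assoc, DihedralGroup.sr_mul_self, one_mul]
  have hclU : closure {DihedralGroup.sr i, y} = U := by
    refine le_antisymm ((closure_le U).2 ?_) fun u hu => ?_
    · rintro w (rfl | hw)
      · exact htU
      · rw [Set.mem_singleton_iff.1 hw]; exact U.mul_mem htU c.2.1
    · have hcm : (c : DihedralGroup (2 ^ n)) ∈ closure {DihedralGroup.sr i, y} :=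
        hxyc ▸ mul_mem (subset_closure (by simp)) (subset_closure (by simp))
      obtain ⟨k, h | h⟩ := hdec u hu
      · rw [h]; exact zpow_mem hcm k
      · rw [h]; exact mul_mem (subset_closure (by simp)) (zpow_mem hcm k)
  obtain ⟨e⟩ := Cfsg.Lib.InvolCalc.exists_dihedral_equiv hxo hyo hxy
  rw [hxyc] at e
  haveI := Fact.mk Nat.prime_two
  have hD : IsPGroup 2 (DihedralGroup (2 ^ n)) := IsPGroup.of_card (n := n + 1) (by
    rw [DihedralGroup.nat_card, pow_succ, mul_comm])
  obtain ⟨k, hk⟩ := IsPGroup.iff_orderOf.1 hD (c : DihedralGroup (2 ^ n))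
  rw [hk] at e
  obtain ⟨k', rfl⟩ : ∃ k', k = k' + 1 := by
    refine ⟨k - 1, ?_⟩
    rcases Nat.eq_zero_or_pos k with rfl | h
    · exact absurd (orderOf_eq_one_iff.1 (by rw [hk, pow_zero])) hc1
    · omega
  refine ⟨⟨k' + 1, ⟨(MulEquiv.subgroupCongr hclU).symm.trans e⟩⟩, ?_⟩
  have hz2 : (c : DihedralGroup (2 ^ n)) ^ 2 ^ k' * (c : DihedralGroup (2 ^ n)) ^ 2 ^ k' = 1 := by
    rw [← pow_add, ← mul_two, ← pow_succ, ← hk, pow_orderOf_eq_one]
  have hz1 : (c : DihedralGroup (2 ^ n)) ^ 2 ^ k' ≠ 1 := fun h => by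
    have h1 := Nat.le_of_dvd (pow_pos two_pos _) (orderOf_dvd_of_pow_eq_one h)
    rw [hk, pow_succ] at h1
    have := Nat.one_le_two_pow (n := k')
    omega
  refine ⟨⟨_, U.pow_mem c.2.1 (2 ^ k')⟩, ⟨_, htU⟩, Subtype.ext hz2, Subtype.ext (DihedralGroup.sr_mul_self i),
    fun h => hz1 (congrArg Subtype.val h), fun h => ?_, fun h => ?_, Subtype.ext ?_⟩
  · have := congrArg Subtype.val h
    change DihedralGroup.sr i = DihedralGroup.r 0 at this
    cases this
  · have h' := congrArg Subtype.val h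
    simp only [hl, DihedralGroup.r_pow] at h'
    cases h'
  · show (c : DihedralGroup (2 ^ n)) ^ 2 ^ k' * DihedralGroup.sr i = DihedralGroup.sr i * (c : DihedralGroup (2 ^ n)) ^ 2 ^ k'
    have hinv : (c : DihedralGroup (2 ^ n)) ^ 2 ^ k' = ((c : DihedralGroup (2 ^ n)) ^ 2 ^ k')⁻¹ :=
      eq_inv_of_mul_eq_one_left hz2
    rw [hl, DihedralGroup.r_pow] at hinv ⊢
    rw [DihedralGroup.inv_r, DihedralGroup.r.injEq] at hinv
    rw [DihedralGroup.r_mul_sr, DihedralGroup.sr_mul_r, sub_eq_add_neg, ← hinv]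

/-- A Klein four subgroup of a dihedral `2`-group is self-centralizing. -/
theorem dihedral_klein_centralizer {n : ℕ} (hn : 1 ≤ n) (K : Subgroup (DihedralGroup (2 ^ n))) (hK : Nat.card K = 4)
    (hexp : ∀ k ∈ K, k * k = 1) {g : DihedralGroup (2 ^ n)} (hg : ∀ k ∈ K, g * k = k * g) : g ∈ K := by
  classical
  set h : ZMod (2 ^ n) := ((2 ^ (n - 1) : ℕ) : ZMod (2 ^ n))
  obtain ⟨i, hi⟩ : ∃ i, DihedralGroup.sr i ∈ K := by
    by_contra hh
    push Not at hh
    haveI := Fintype.ofFinite K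
    have h1 : (Finset.univ.image fun k : K => (k : DihedralGroup (2 ^ n))) ⊆ {DihedralGroup.r 0, DihedralGroup.r h} := by
      intro x hx
      obtain ⟨⟨k, hk⟩, -, rfl⟩ := Finset.mem_image.1 hx
      rcases k with j | j
      · have h2 := hexp _ hk
        rw [DihedralGroup.r_mul_r, DihedralGroup.one_def, DihedralGroup.r.injEq, ← two_mul] at h2
        rcases zmod_two_torsion hn j h2 with rfl | rfl <;> simp [h]
      · exact absurd hk (hh j)
    have h2 := (Finset.card_le_card h1).trans Finset.card_le_two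
    rw [Finset.card_image_of_injective _ Subtype.val_injective, Finset.card_univ, ← Nat.card_eq_fintype_card, hK] at h2
    omega
  set S : Finset (DihedralGroup (2 ^ n)) :=
    {DihedralGroup.r 0, DihedralGroup.r h, DihedralGroup.sr i, DihedralGroup.sr (i + h)}
  have hC : ∀ x : DihedralGroup (2 ^ n), x * DihedralGroup.sr i = DihedralGroup.sr i * x → x ∈ S := by
    intro x hx
    rcases x with j | j
    · rw [DihedralGroup.r_mul_sr, DihedralGroup.sr_mul_r, DihedralGroup.sr.injEq] at hx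
      rcases zmod_two_torsion hn j (by linear_combination -hx) with rfl | rfl <;> simp [S, h]
    · rw [DihedralGroup.sr_mul_sr, DihedralGroup.sr_mul_sr, DihedralGroup.r.injEq] at hx
      rcases zmod_two_torsion hn (j - i) (by linear_combination -hx) with h0 | h0
      · rw [sub_eq_zero] at h0; subst h0; simp [S]
      · rw [sub_eq_iff_eq_add'] at h0; subst h0; simp [S, h]
  have hsub : Finset.univ.filter (fun x => x ∈ K) ⊆ S := fun x hx => by
    have hxK := (Finset.mem_filter.1 hx).2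
    refine hC x ?_
    have := hexp _ (K.mul_mem hxK hi)
    calc x * DihedralGroup.sr i = (DihedralGroup.sr i)⁻¹ * x⁻¹ := by rw [← mul_inv_rev]; exact eq_inv_of_mul_eq_one_left this
      _ = DihedralGroup.sr i * x := by
        rw [inv_eq_of_mul_eq_one_left (hexp _ hi), inv_eq_of_mul_eq_one_left (hexp _ hxK)]
  have hS : Finset.univ.filter (fun x => x ∈ K) = S := by
    refine Finset.eq_of_subset_of_card_le hsub ?_
    rw [← Fintype.card_subtype, ← Nat.card_eq_fintype_card, show Nat.card {x // x ∈ K} = Nat.card K from rfl, hK]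
    exact Finset.card_le_four
  have := hC g (hg _ hi)
  rw [← hS] at this
  exact (Finset.mem_filter.1 this).2

section

variable {G : Type u} [Group G] [Finite G]

theorem exists_conj_le (P : Sylow 2 G) {U : Subgroup G} (hU : IsPGroup 2 U) :
    ∃ g : G, U ≤ conjMap g (P : Subgroup G) := by
  haveI := Fact.mk Nat.prime_two
  obtain ⟨T, hT⟩ := hU.exists_le_sylow
  obtain ⟨g, hg⟩ := MulAction.exists_smul_eq G P T
  exact ⟨g, hT.trans (by rw [← hg]; exact le_of_eq (by rw [← conj_smul_eq]; rfl))⟩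

/-- Subgroups of 2-power order in a group with dihedral Sylow 2-subgroups. -/
theorem transfer_klein (P : Sylow 2 G) {n : ℕ} (hn : 1 ≤ n) (e : (P : Subgroup G) ≃* DihedralGroup (2 ^ n))
    {K : Subgroup G} (hK : Nat.card K = 4) (hexp : ∀ k ∈ K, k * k = 1) {x : G}
    (hx : ∀ k ∈ K, x * k = k * x) (hx2 : ∃ a : ℕ, x ^ 2 ^ a = 1) : x ∈ K := by
  haveI := Fact.mk Nat.prime_two
  obtain ⟨a, ha⟩ := hx2
  have hxp : IsPGroup 2 (zpowers x) := by
    obtain ⟨b, -, hb⟩ := (Nat.dvd_prime_pow Nat.prime_two).1 (orderOf_dvd_of_pow_eq_one ha)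
    exact IsPGroup.of_card (n := b) (by rw [Nat.card_zpowers, hb])
  have hxN : zpowers x ≤ normalizer (K : Set G) := zpowers_le.2 (mem_normalizer_iff.2 fun k => by
    constructor
    · intro hk; rw [hx k hk, mul_inv_cancel_right]; exact hk
    · intro hk
      have h := hx _ hk
      have : k = x * k * x⁻¹ := mul_left_cancel (a := x) (by simpa [mul_assoc] using h.symm)
      rw [this]; exact hk)
  have hsup : IsPGroup 2 (K ⊔ zpowers x : Subgroup G) :=
    IsPGroup.to_sup_of_normal_left' (IsPGroup.of_card (n := 2) hK) hxp hxN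
  obtain ⟨g, hg⟩ := exists_conj_le P hsup
  let f : G →* G := (MulAut.conj g⁻¹).toMonoidHom
  have hKP : K.map f ≤ (P : Subgroup G) := by
    have := conjMap_mono (g := g⁻¹) (le_sup_left.trans hg)
    rwa [conjMap_inv_conjMap] at this
  have hxP : f x ∈ (P : Subgroup G) := by
    have := conjMap_mono (g := g⁻¹) hg ⟨x, mem_sup_right (mem_zpowers x), rfl⟩
    rwa [conjMap_inv_conjMap] at this
  set K' : Subgroup (DihedralGroup (2 ^ n)) := ((K.map f).subgroupOf (P : Subgroup G)).map e.toMonoidHom with hK'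
  have hm : ∀ d ∈ K', ∃ k ∈ K, ∃ h : f k ∈ (P : Subgroup G), e ⟨f k, h⟩ = d := by
    rintro _ ⟨⟨y, hy⟩, ⟨k, hk, (hky : f k = y)⟩, rfl⟩
    subst hky
    exact ⟨k, hk, hy, rfl⟩
  have hin : e ⟨f x, hxP⟩ ∈ K' := by
    refine dihedral_klein_centralizer hn K' ?_ ?_ ?_
    · rw [hK', card_map_of_injective e.injective, Nat.card_congr (subgroupOfEquivOfLe hKP).toEquiv,
        card_map_of_injective (MulAut.conj g⁻¹).injective, hK]
    · intro d hd
      obtain ⟨k, hk, h, rfl⟩ := hm d hd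
      rw [← map_mul, ← map_one e]
      refine congrArg e (Subtype.ext ?_)
      show f k * f k = 1
      rw [← map_mul, hexp k hk, map_one]
    · intro d hd
      obtain ⟨k, hk, h, rfl⟩ := hm d hd
      rw [← map_mul, ← map_mul]
      refine congrArg e (Subtype.ext ?_)
      show f x * f k = f k * f x
      rw [← map_mul, ← map_mul, hx k hk]
  obtain ⟨k, hk, h, hke⟩ := hm _ hin
  exact (MulAut.conj g⁻¹).injective (congrArg Subtype.val (e.injective hke)) ▸ hk

theorem cyclic_sup {S C : Subgroup G} [hS : IsCyclic S] [hC : IsCyclic C] (hcop : (Nat.card S).Coprime (Nat.card C))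
    (hcomm : ∀ s ∈ S, ∀ c ∈ C, s * c = c * s) : IsCyclic (S ⊔ C : Subgroup G) := by
  obtain ⟨s, hs⟩ := hS.exists_generator
  obtain ⟨c, hc⟩ := hC.exists_generator
  have hso : orderOf (s : G) = Nat.card S := by rw [Subgroup.orderOf_coe]; exact orderOf_eq_card_of_forall_mem_zpowers hs
  have hco : orderOf (c : G) = Nat.card C := by rw [Subgroup.orderOf_coe]; exact orderOf_eq_card_of_forall_mem_zpowers hc
  have hcs : Commute (s : G) c := hcomm _ s.2 _ c.2
  have ho := hcs.orderOf_mul_eq_mul_orderOf_of_coprime (by rw [hso, hco]; exact hcop)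
  have hCS : C ≤ normalizer (S : Set G) := fun a ha => mem_normalizer_iff.2 fun k => by
    constructor
    · intro hk; rw [← hcomm k hk a ha, mul_inv_cancel_right]; exact hk
    · intro hk
      have h := hcomm _ hk a ha
      have : k = a * k * a⁻¹ := mul_left_cancel (a := a) (by simpa [mul_assoc] using h)
      rw [this]; exact hk
  refine isCyclic_of_orderOf_eq_card ⟨(s : G) * c, mul_mem_sup s.2 c.2⟩ ?_
  rw [Subgroup.orderOf_mk, ho, hso, hco, card_sup_coprime hCS hcop]

theorem forward (P : Sylow 2 G)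
    (h : ∀ H : Subgroup G, (∀ S : Sylow 2 ↥H, (S : Subgroup ↥H).Normal) →
        (∀ (S : Sylow 2 ↥H) [(S : Subgroup ↥H).Normal], IsCyclic (↥H ⧸ (S : Subgroup ↥H))) →
        IsCyclic H ∨ (∃ n : ℕ, Nonempty (H ≃* DihedralGroup (2 ^ n))) ∨ Nonempty (H ≃* alternatingGroup (Fin 4))) :
    IsCyclic P ∨
      ((∃ n : ℕ, 1 ≤ n ∧ Nonempty ((P : Subgroup G) ≃* DihedralGroup (2 ^ n))) ∧
        ∀ K : Subgroup G, K ≤ P → Nat.card K = 4 → (∀ k ∈ K, k ^ 2 = 1) → Subgroup.centralizer (K : Set G) = K) := by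
  haveI := Fact.mk Nat.prime_two
  have htop : ∀ S : Sylow 2 ↥(P : Subgroup G), (S : Subgroup ↥(P : Subgroup G)) = ⊤ := fun S =>
    (S.3 (P.2.to_subgroup ⊤) le_top).symm
  refine or_iff_not_imp_left.2 fun hnc => ?_
  rcases h P (fun S => by rw [htop S]; infer_instance) (fun S _ => by
    haveI : Subsingleton (↥(P : Subgroup G) ⧸ (S : Subgroup ↥(P : Subgroup G))) :=
      QuotientGroup.subsingleton_iff.2 (htop S)
    exact isCyclic_of_subsingleton) with h1 | ⟨n, ⟨e⟩⟩ | he
  · exact absurd h1 hnc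
  swap
  · exfalso
    obtain ⟨e⟩ := he
    obtain ⟨a, ha⟩ := IsPGroup.iff_card.1 P.2
    rw [Nat.card_congr e.toEquiv, nat_card_alternatingGroup, Nat.card_eq_fintype_card, Fintype.card_fin,
      show Nat.factorial 4 / 2 = 12 from rfl] at ha
    have h3 : 3 ∣ 2 ^ a := ha ▸ (by norm_num)
    exact absurd (Nat.prime_three.dvd_of_dvd_pow h3) (by norm_num)
  have hn : 1 ≤ n := by
    by_contra h0
    apply hnc
    refine isCyclic_of_prime_card (p := 2) ?_
    rw [Nat.card_congr e.toEquiv, DihedralGroup.nat_card, show n = 0 by omega, pow_zero, mul_one]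
  refine ⟨⟨n, hn, ⟨e⟩⟩, fun K hKP hK hexp => le_antisymm ?_ ?_⟩
  swap
  · intro a ha
    refine mem_centralizer_iff.2 fun b hb => ?_
    have h1 := hexp _ (K.mul_mem ha hb)
    have ha2 := hexp _ ha
    have hb2 := hexp _ hb
    rw [sq] at h1 ha2 hb2
    calc b * a = b⁻¹ * a⁻¹ := by rw [inv_eq_of_mul_eq_one_left hb2, inv_eq_of_mul_eq_one_left ha2]
      _ = a * b := by rw [← mul_inv_rev, inv_eq_of_mul_eq_one_left h1]
  intro x hx
  have hxk : ∀ k ∈ K, x * k = k * x := fun k hk => (mem_centralizer_iff.1 hx k hk).symm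
  obtain ⟨a, m, hm, hxo⟩ := Nat.exists_eq_two_pow_mul_odd (orderOf_pos x).ne'
  refine transfer_klein P hn e hK (fun k hk => by rw [← sq]; exact hexp k hk) hxk ⟨a, ?_⟩
  set w := x ^ 2 ^ a with hw
  have hwk : ∀ k ∈ K, w * k = k * w := fun k hk => (Commute.pow_left (hxk k hk) _).eq
  have hwo : orderOf w = m := by
    rw [hw, orderOf_pow_of_dvd (pow_ne_zero _ two_ne_zero) (Dvd.intro m hxo.symm), hxo,
      Nat.mul_div_cancel_left _ (pow_pos two_pos _)]
  by_contra hw1
  have hcop : (Nat.card K).Coprime (Nat.card (zpowers w)) := by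
    rw [hK, Nat.card_zpowers, hwo, show 4 = 2 ^ 2 from rfl]
    exact (Nat.coprime_two_left.2 hm).pow_left 2
  have hwN : zpowers w ≤ normalizer (K : Set G) := zpowers_le.2 (mem_normalizer_iff.2 fun k => by
    constructor
    · intro hk; rw [hwk k hk, mul_inv_cancel_right]; exact hk
    · intro hk
      have hh := hwk _ hk
      have : k = w * k * w⁻¹ := mul_left_cancel (a := w) (by simpa [mul_assoc] using hh.symm)
      rw [this]; exact hk)
  set H := K ⊔ zpowers w
  have hKH : K ≤ H := le_sup_left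
  have hHc : Nat.card H = 4 * m := by rw [card_sup_coprime hwN hcop, hK, Nat.card_zpowers, hwo]
  haveI hKn : (K.subgroupOf H).Normal :=
    normal_subgroupOf_of_le_normalizer (sup_le le_normalizer hwN)
  have hKp : IsPGroup 2 (K.subgroupOf H) := IsPGroup.of_card (n := 2) (by
    rw [Nat.card_congr (subgroupOfEquivOfLe hKH).toEquiv, hK]; norm_num)
  have hsyl : ∀ S : Sylow 2 ↥H, (S : Subgroup ↥H) = K.subgroupOf H := by
    intro S
    refine (eq_of_le_of_card_eq ?_ ?_).symm
    · obtain ⟨T, hT⟩ := hKp.exists_le_sylow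
      obtain ⟨g, hg⟩ := MulAction.exists_smul_eq ↥H T S
      intro y hy
      rw [← hg]
      exact ⟨g⁻¹ * y * g, hT (by simpa using hKn.conj_mem y hy g⁻¹), by simp [mul_assoc]⟩
    · rw [S.card_eq_multiplicity, Nat.card_congr (subgroupOfEquivOfLe hKH).toEquiv, hK, hHc,
        Nat.factorization_mul (by norm_num) (Nat.pos_of_ne_zero fun h => by simp [h] at hm).ne',
        Finsupp.coe_add, Pi.add_apply, show (4 : ℕ) = 2 ^ 2 from rfl, Nat.Prime.factorization_pow Nat.prime_two,
        Finsupp.single_eq_same, Nat.factorization_eq_zero_of_not_dvd hm.not_two_dvd_nat]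
  have hcyc : ∀ (S : Sylow 2 ↥H) [(S : Subgroup ↥H).Normal], IsCyclic (↥H ⧸ (S : Subgroup ↥H)) := by
    intro S _
    refine isCyclic_of_surjective ((QuotientGroup.mk' (S : Subgroup ↥H)).comp
      (Subgroup.inclusion (le_sup_right : zpowers w ≤ H))) fun q => ?_
    obtain ⟨⟨y, hy⟩, rfl⟩ := QuotientGroup.mk_surjective q
    obtain ⟨k, hk, v, hv, rfl⟩ := (mem_sup_of_le_normalizer hwN).1 hy
    refine ⟨⟨v, hv⟩, QuotientGroup.eq.2 ?_⟩
    rw [hsyl S, mem_subgroupOf]
    show v⁻¹ * (k * v) ∈ K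
    simpa [mul_assoc] using (mem_normalizer_iff.1 (inv_mem (hwN hv)) k).1 hk
  rcases h H (fun S => by rw [hsyl S]; infer_instance) hcyc with h1 | ⟨k, ⟨e1⟩⟩ | he1
  · haveI : IsCyclic K := isCyclic_of_injective (inclusion hKH) (inclusion_injective _)
    have h2 : Monoid.exponent K ∣ 2 :=
      Monoid.exponent_dvd_of_forall_pow_eq_one fun y => Subtype.ext (by simpa using hexp y y.2)
    rw [IsCyclic.exponent_eq_card, hK] at h2
    norm_num at h2
  · have h2 := Nat.card_congr e1.toEquiv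
    rw [hHc, DihedralGroup.nat_card, ← pow_succ'] at h2
    have h3 : m ∣ 2 ^ (k + 1) := h2 ▸ Dvd.intro_left 4 rfl
    have h4 := Nat.eq_one_of_dvd_coprimes ((Nat.coprime_two_right.2 hm).pow_right _) dvd_rfl h3
    exact hw1 (orderOf_eq_one_iff.1 (hwo.trans h4))
  · have hHab : ∀ a ∈ H, ∀ b ∈ H, a * b = b * a := by
      have hKc : ∀ a ∈ K, ∀ b ∈ K, a * b = b * a := fun a ha b hb => by
        have h1 := hexp _ (K.mul_mem ha hb)
        have ha2 := hexp _ ha
        have hb2 := hexp _ hb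
        rw [sq] at h1 ha2 hb2
        calc a * b = (a * b)⁻¹ := (inv_eq_of_mul_eq_one_left h1).symm
          _ = b * a := by rw [mul_inv_rev, inv_eq_of_mul_eq_one_left hb2, inv_eq_of_mul_eq_one_left ha2]
      have hHH : H ≤ centralizer (H : Set G) := by
        refine sup_le ?_ (zpowers_le.2 ?_)
        · rw [le_centralizer_iff]
          exact sup_le (fun a ha => mem_centralizer_iff.2 fun b hb => hKc b hb a ha)
            (zpowers_le.2 (mem_centralizer_iff.2 fun b hb => (hwk b hb).symm))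
        · rw [mem_centralizer_iff]
          have : H ≤ centralizer ({w} : Set G) := sup_le (fun b hb => mem_centralizer_singleton_iff.2 (hwk b hb).symm)
            (zpowers_le.2 (mem_centralizer_singleton_iff.2 rfl))
          exact fun b hb => mem_centralizer_singleton_iff.1 (this hb)
      exact fun a ha b hb => (mem_centralizer_iff.1 (hHH hb) a ha)
    obtain ⟨e1⟩ := he1
    have hA : ∀ a b : alternatingGroup (Fin 4), a * b = b * a := fun a b => e1.symm.injective (by
      rw [map_mul, map_mul]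
      exact Subtype.ext (hHab _ (e1.symm a).2 _ (e1.symm b).2))
    exact absurd (hA ⟨Equiv.swap 0 1 * Equiv.swap 2 3, Equiv.Perm.mem_alternatingGroup.2 (by decide)⟩ ⟨Equiv.swap 0 1 * Equiv.swap 1 2, Equiv.Perm.mem_alternatingGroup.2 (by decide)⟩) (by decide)

theorem mem_normalizer_of_conj_le' {S : Subgroup G} {x : G} (h : ∀ z ∈ S, x * z * x⁻¹ ∈ S) :
    x ∈ normalizer (S : Set G) :=
  conjMap_eq_self_iff.1 (eq_of_le_of_card_eq (by rintro _ ⟨z, hz, rfl⟩; exact h z hz) (card_conjMap x S))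

omit [Finite G] in
theorem zpow_mul_self {w : G} (hw : w * w = 1) (i : ℤ) : w ^ i * w ^ i = 1 := by
  rw [← (Commute.refl w).mul_zpow, hw, one_zpow]

theorem backward (P : Sylow 2 G)
    (h : IsCyclic P ∨ ((∃ n : ℕ, 1 ≤ n ∧ Nonempty ((P : Subgroup G) ≃* DihedralGroup (2 ^ n))) ∧
        ∀ K : Subgroup G, K ≤ P → Nat.card K = 4 → (∀ k ∈ K, k ^ 2 = 1) → Subgroup.centralizer (K : Set G) = K))
    (H : Subgroup G) (hn : ∀ S : Sylow 2 ↥H, (S : Subgroup ↥H).Normal)
    (hq : ∀ (S : Sylow 2 ↥H) [(S : Subgroup ↥H).Normal], IsCyclic (↥H ⧸ (S : Subgroup ↥H))) :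
    IsCyclic H ∨ (∃ n : ℕ, Nonempty (H ≃* DihedralGroup (2 ^ n))) ∨ Nonempty (H ≃* alternatingGroup (Fin 4)) := by
  classical
  haveI := Fact.mk Nat.prime_two
  obtain ⟨S₀⟩ : Nonempty (Sylow 2 ↥H) := inferInstance
  haveI := hn S₀
  haveI := hq S₀
  set S := (S₀ : Subgroup ↥H).map H.subtype with hSdef
  have hSH : S ≤ H := map_subtype_le _
  have hS2 : IsPGroup 2 S := S₀.2.map _
  have hHS : H ≤ normalizer (S : Set G) := by
    have h1 := (S₀ : Subgroup ↥H).le_normalizer_map H.subtype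
    rwa [normalizer_eq_top_iff.2 (hn S₀), ← MonoidHom.range_eq_map, range_subtype] at h1
  have hidx : S.relIndex H = (S₀ : Subgroup ↥H).index := by
    rw [relIndex, subgroupOf, hSdef, comap_map_eq_self_of_injective H.subtype_injective]
  have hodd : ¬ 2 ∣ S.relIndex H := hidx ▸ S₀.not_dvd_index
  obtain ⟨a, ha⟩ := IsPGroup.iff_card.1 hS2
  obtain ⟨C, hCH, hsup, hCc⟩ := exists_complement_in hSH hHS
    (by rw [ha]; exact (Nat.prime_two.coprime_iff_not_dvd.2 hodd).pow_left a)
  have hcop : (Nat.card S).Coprime (Nat.card C) := by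
    rw [ha, hCc]; exact (Nat.prime_two.coprime_iff_not_dvd.2 hodd).pow_left a
  have hCN : C ≤ normalizer (S : Set G) := hCH.trans hHS
  haveI hCcyc : IsCyclic C := by
    let f := (QuotientGroup.mk' (S₀ : Subgroup ↥H)).comp (Subgroup.inclusion hCH)
    refine isCyclic_of_injective f ((injective_iff_map_eq_one f).2 fun c hc => ?_)
    have h1 : (c : G) ∈ S ⊓ C := ⟨⟨_, (QuotientGroup.eq_one_iff _).1 hc, rfl⟩, c.2⟩
    rw [Cfsg.Lib.Coprime.inf_eq_bot_of_coprime hcop, mem_bot] at h1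
    exact Subtype.ext h1
  obtain ⟨g, hg⟩ := exists_conj_le P hS2
  have eP : (P : Subgroup G) ≃* conjMap g (P : Subgroup G) :=
    (P : Subgroup G).equivMapOfInjective _ (MulAut.conj g).injective
  have hfix : IsPGroup 2 (MulAut S) → ∀ s ∈ S, ∀ c ∈ C, s * c = c * s := by
    intro haut s hs c hc
    have hco : (orderOf c).Coprime 2 := by
      refine (Nat.prime_two.coprime_iff_not_dvd.2 fun h2 => hodd ?_).symm
      rw [← hCc]
      exact h2.trans (Subgroup.orderOf_dvd_natCard C hc)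
    have := Cfsg.Lib.TwoFusion.mem_centralizer_of_coprime (hCN hc) hco (haut _)
    exact mem_centralizer_iff.1 this s hs
  by_cases hScyc : IsCyclic S
  · left
    have := cyclic_sup hcop (hfix (Cfsg.Lib.TwoFusion.isPGroup_mulAut_cyclic hS2))
    rwa [hsup] at this
  rcases h with hP | ⟨⟨n, hn1, ⟨e⟩⟩, hK⟩
  · haveI : IsCyclic (conjMap g (P : Subgroup G)) := eP.isCyclic.1 hP
    exact absurd (isCyclic_of_injective (inclusion hg) (inclusion_injective _)) hScyc
  let e' : conjMap g (P : Subgroup G) ≃* DihedralGroup (2 ^ n) := eP.symm.trans e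
  -- Klein subgroups are self-centralizing
  have hKg : ∀ K : Subgroup G, K ≤ S → Nat.card K = 4 → (∀ k ∈ K, k * k = 1) → centralizer (K : Set G) ≤ K := by
    intro K hKS hKc hKe x hx
    have h1 : conjMap g⁻¹ K ≤ (P : Subgroup G) := by
      have := conjMap_mono (g := g⁻¹) (hKS.trans hg); rwa [conjMap_inv_conjMap] at this
    have h2 := hK _ h1 (by rw [card_conjMap, hKc]) (by
      rintro _ ⟨k, hk, rfl⟩; rw [← map_pow, sq, hKe k hk, map_one])
    have h3 : (MulAut.conj g⁻¹).toMonoidHom x ∈ centralizer ((conjMap g⁻¹ K : Subgroup G) : Set G) :=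
      mem_centralizer_iff.2 (by
        rintro _ ⟨k, hk, rfl⟩
        rw [← map_mul, ← map_mul, mem_centralizer_iff.1 hx k hk])
    rw [h2] at h3
    obtain ⟨k, hk, hkx⟩ := h3
    exact (MulAut.conj g⁻¹).injective hkx ▸ hk
  set U : Subgroup (DihedralGroup (2 ^ n)) := (S.subgroupOf (conjMap g (P : Subgroup G))).map e'.toMonoidHom
  let eU : S ≃* U := (subgroupOfEquivOfLe hg).symm.trans (equivMapOfInjective _ _ e'.injective)
  rcases dihedral_subgroup hn1 U with hc | ⟨⟨k, ⟨eD⟩⟩, z, t, hz, ht, hz1, ht1, hzt, hcom⟩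
  · exact absurd (eU.isCyclic.2 hc) hScyc
  set z' : S := eU.symm z with hz'def
  set t' : S := eU.symm t with ht'def
  have hz' : (z' : G) * z' = 1 := by rw [← Subgroup.coe_mul, hz'def, ← map_mul, hz, map_one, Subgroup.coe_one]
  have ht' : (t' : G) * t' = 1 := by rw [← Subgroup.coe_mul, ht'def, ← map_mul, ht, map_one, Subgroup.coe_one]
  have hne1 : (z' : G) ≠ 1 := fun h => hz1 (eU.symm.injective (by rw [map_one]; exact Subtype.ext h))
  have hne2 : (t' : G) ≠ 1 := fun h => ht1 (eU.symm.injective (by rw [map_one]; exact Subtype.ext h))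
  have hne3 : (z' : G) ≠ t' := fun h => hzt (eU.symm.injective (Subtype.ext h))
  have hcom' : (z' : G) * t' = t' * z' := by
    rw [← Subgroup.coe_mul, ← Subgroup.coe_mul, hz'def, ht'def, ← map_mul, ← map_mul, hcom]
  set K := zpowers (z' : G) ⊔ zpowers (t' : G)
  have ho1 : orderOf (z' : G) = 2 := orderOf_eq_prime (by rw [sq]; exact hz') hne1
  have ho2 : orderOf (t' : G) = 2 := orderOf_eq_prime (by rw [sq]; exact ht') hne2
  have hcomK : ∀ a ∈ zpowers (z' : G), ∀ b ∈ zpowers (t' : G), a * b = b * a := by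
    rintro _ ⟨i, rfl⟩ _ ⟨j, rfl⟩
    exact (Commute.zpow_zpow hcom' i j).eq
  have hTN : zpowers (t' : G) ≤ normalizer ((zpowers (z' : G) : Subgroup G) : Set G) :=
    zpowers_le.2 (mem_normalizer_of_conj_le' fun a ha => by
      rw [← hcomK a ha _ (mem_zpowers _), mul_inv_cancel_right]; exact ha)
  have hKc : Nat.card K = 4 := by
    have h1 : zpowers (z' : G) ⊓ zpowers (t' : G) = ⊥ := by
      rw [eq_bot_iff]
      intro a ha
      have hsub : ∀ w : G, w * w = 1 → ∀ b ∈ zpowers w, b = 1 ∨ b = w := by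
        intro w hw b hb
        obtain ⟨i, rfl⟩ := hb
        rcases Int.even_or_odd' i with ⟨k, rfl | rfl⟩
        · left; show w ^ (2 * k) = 1; rw [zpow_mul, zpow_two, hw, one_zpow]
        · right; show w ^ (2 * k + 1) = w
          rw [zpow_add, zpow_mul, zpow_two, hw, one_zpow, one_mul, zpow_one]
      rcases hsub _ hz' a ha.1 with h | h
      · exact mem_bot.2 h
      · rcases hsub _ ht' a ha.2 with h2 | h2
        · exact mem_bot.2 h2
        · exact absurd (h.symm.trans h2) hne3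
    have h2 : Nat.card ↥(zpowers (z' : G) ⊔ zpowers (t' : G)) * Nat.card ↥(zpowers (z' : G) ⊓ zpowers (t' : G)) =
        Nat.card (zpowers (z' : G)) * Nat.card (zpowers (t' : G)) := card_sup_mul_card_inf hTN
    rw [h1, card_bot, mul_one, Nat.card_zpowers, Nat.card_zpowers, ho1, ho2] at h2
    exact h2
  have hKe : ∀ a ∈ K, a * a = 1 := by
    intro a ha
    obtain ⟨b, hb, c, hc, rfl⟩ := (mem_sup_of_le_normalizer hTN).1 ha
    obtain ⟨i, rfl⟩ := hb
    obtain ⟨j, rfl⟩ := hc
    show ((z' : G) ^ i * (t' : G) ^ j) * ((z' : G) ^ i * (t' : G) ^ j) = 1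
    have hc := Commute.zpow_zpow (a := (z' : G)) (b := (t' : G)) hcom' i j
    rw [mul_assoc, ← mul_assoc ((t' : G) ^ j), ← hc.eq, mul_assoc ((z' : G) ^ i), ← mul_assoc,
      zpow_mul_self hz' i, one_mul, zpow_mul_self ht' j]
  have hKS : K ≤ S := sup_le (zpowers_le.2 z'.2) (zpowers_le.2 t'.2)
  have hC1 : ∀ c ∈ C, (∀ s ∈ S, s * c = c * s) → c = 1 := by
    intro c hc hcs
    have h1 : c ∈ S ⊓ C := ⟨hKS (hKg K hKS hKc hKe (mem_centralizer_iff.2 fun s hs => hcs s (hKS hs))), hc⟩
    rwa [Cfsg.Lib.Coprime.inf_eq_bot_of_coprime hcop, mem_bot] at h1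
  rcases Cfsg.Lib.TwoFusion.isPGroup_mulAut_or_isKleinFour (S := conjMap g (P : Subgroup G)) (U := S)
      (P.2.of_equiv eP) e' hg with haut | hkl
  · refine Or.inr (Or.inl ⟨k, ⟨?_⟩⟩)
    have hCb : C = ⊥ := (eq_bot_iff_forall _).2 fun c hc => hC1 c hc fun s hs => hfix haut s hs c hc
    rw [hCb, sup_bot_eq] at hsup
    exact (MulEquiv.subgroupCongr hsup).symm.trans (eU.trans eD)
  have hS4 : Nat.card S = 4 := hkl.card_four
  have hK_S : K = S := eq_of_le_of_card_eq hKS (hKc.trans hS4.symm)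
  haveI := Fintype.ofFinite S
  have hord3 : ∀ c ∈ C, c ^ 3 = 1 := by
    intro c hc
    set a := S.normalizerMonoidHom ⟨c, hCN hc⟩
    have h1 : a ^ 24 = 1 := by
      let φ : MulAut S →* Equiv.Perm S := MulAut.toPerm S
      have hφ : Function.Injective φ := fun u v huv => MulEquiv.ext fun s => Equiv.congr_fun huv s
      apply hφ
      rw [map_pow, map_one]
      have h24 : Fintype.card (Equiv.Perm S) = 24 := by
        rw [Fintype.card_perm, ← Nat.card_eq_fintype_card, hS4]; rfl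
      rw [← h24]
      exact pow_card_eq_one
    rw [← map_pow, ← MonoidHom.mem_ker, Subgroup.normalizerMonoidHom_ker] at h1
    have h2 : c ^ 24 = 1 := hC1 _ (pow_mem hc 24) fun s hs => mem_centralizer_iff.1 h1 s hs
    have hodd' : Nat.Coprime (orderOf c) 8 :=
      ((Nat.prime_two.coprime_iff_not_dvd.2 fun h2 => hodd (hCc ▸ h2.trans (Subgroup.orderOf_dvd_natCard C hc))).symm).pow_right 3
    exact orderOf_dvd_iff_pow_eq_one.1 (hodd'.dvd_of_dvd_mul_right (show orderOf c ∣ 3 * 8 from orderOf_dvd_of_pow_eq_one h2))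
  by_cases hCb : C = ⊥
  · refine Or.inr (Or.inl ⟨k, ⟨?_⟩⟩)
    rw [hCb, sup_bot_eq] at hsup
    exact (MulEquiv.subgroupCongr hsup).symm.trans (eU.trans eD)
  refine Or.inr (Or.inr (Cfsg.Agent.S0228.result ?_ ?_))
  · have hC3 : Nat.card C = 3 := by
      have h1 : Monoid.exponent C ∣ 3 :=
        Monoid.exponent_dvd_of_forall_pow_eq_one fun c => Subtype.ext (by simpa using hord3 c c.2)
      rw [IsCyclic.exponent_eq_card] at h1
      exact ((Nat.dvd_prime Nat.prime_three).1 h1).resolve_left fun h => hCb (card_eq_one.1 h)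
    rw [← hsup, card_sup_coprime hCN hcop, hS4, hC3]
  · intro w hw hwc
    have hwS : (w : G) ∈ S := by
      have hwp : IsPGroup 2 (zpowers w) := IsPGroup.of_card (n := 1) (by rw [Nat.card_zpowers, hw, pow_one])
      obtain ⟨T, hT⟩ := hwp.exists_le_sylow
      obtain ⟨m, hm⟩ := MulAction.exists_smul_eq ↥H S₀ T
      have hw' := hT (mem_zpowers w)
      rw [← hm] at hw'
      obtain ⟨y, hy, hyw⟩ := hw'
      exact ⟨w, by rw [← hyw]; exact (hn S₀).conj_mem y hy m, rfl⟩
    obtain ⟨c, hcC, hc1⟩ := C.ne_bot_iff_exists_ne_one.1 hCb |> fun ⟨c, hc⟩ => (⟨c, c.2, fun h => hc (Subtype.ext h)⟩ : ∃ c ∈ C, c ≠ (1 : G))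
    have hwc' : c * (w : G) = (w : G) * c := congrArg Subtype.val (mem_center_iff.1 hwc ⟨c, hCH hcC⟩)
    have hw1 : (w : G) ≠ 1 := fun h => by
      rw [show w = 1 from Subtype.ext h, orderOf_one] at hw; omega
    haveI := Classical.decEq S
    have h2 : ∀ s : G, s ∈ S → c ^ 2 * s = s * c ^ 2 := by
      intro s hs
      by_cases hs1 : s = 1
      · simp [hs1]
      by_cases hsw : s = w
      · subst hsw; exact (Commute.pow_left hwc' 2).eq
      have hsx : ∀ y ∈ S, y * y = 1 := fun y hy => hKe y (hK_S.ge hy)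
      set s1 := c * s * c⁻¹ with hs1def
      have hs1S : s1 ∈ S := (mem_normalizer_iff.1 (hCN hcC) s).1 hs
      have hs1w : s1 ≠ w := fun h => hsw (by
        have : c * s * c⁻¹ = c * (w : G) * c⁻¹ := by rw [← hs1def, h, hwc', mul_inv_cancel_right]
        exact mul_left_cancel (mul_right_cancel this))
      have hs11 : s1 ≠ 1 := fun h => hs1 (by simpa [hs1def] using h)
      have hcase : s1 = s ∨ s1 = (w : G) * s := by
        by_contra hh
        push Not at hh
        have hws : (w : G) * s ≠ 1 := fun h => hsw (by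
          rw [← inv_eq_of_mul_eq_one_left (hsx _ hwS)]; exact (inv_eq_of_mul_eq_one_right h).symm)
        have h5 : ({1, ⟨w, hwS⟩, ⟨s, hs⟩, ⟨w * s, S.mul_mem hwS hs⟩, ⟨s1, hs1S⟩} : Finset S).card = 5 := by
          rw [Finset.card_insert_of_notMem, Finset.card_insert_of_notMem, Finset.card_insert_of_notMem,
            Finset.card_pair]
          · exact fun h => hh.2 (congrArg Subtype.val h).symm
          · simp only [Finset.mem_insert, Finset.mem_singleton, Subtype.ext_iff, not_or]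
            exact ⟨fun h => hw1 (mul_eq_right.1 h.symm), Ne.symm hh.1⟩
          · simp only [Finset.mem_insert, Finset.mem_singleton, Subtype.ext_iff, not_or]
            exact ⟨Ne.symm hsw, fun h => hs1 (left_eq_mul.1 h), Ne.symm hs1w⟩
          · simp only [Finset.mem_insert, Finset.mem_singleton, Subtype.ext_iff, not_or]
            exact ⟨Ne.symm hw1, Ne.symm hs1, Ne.symm hws, Ne.symm hs11⟩
        have h6 := Finset.card_le_univ ({1, ⟨w, hwS⟩, ⟨s, hs⟩, ⟨w * s, S.mul_mem hwS hs⟩, ⟨s1, hs1S⟩} : Finset S)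
        rw [h5, ← Nat.card_eq_fintype_card, hS4] at h6
        omega
      have h3 : c * s1 * c⁻¹ = s := by
        rcases hcase with h | h
        · rw [h, ← hs1def, h]
        · calc c * s1 * c⁻¹ = (c * (w : G) * c⁻¹) * (c * s * c⁻¹) := by rw [h]; group
            _ = (w : G) * ((w : G) * s) := by rw [hwc', mul_inv_cancel_right, ← hs1def, h]
            _ = s := by rw [← mul_assoc, hsx _ hwS, one_mul]
      calc c ^ 2 * s = c * (c * s * c⁻¹) * c⁻¹ * c ^ 2 := by rw [pow_two]; group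
        _ = s * c ^ 2 := by rw [← hs1def, h3]
    have hc2 := hC1 _ (pow_mem hcC 2) fun s hs => (h2 s hs).symm
    refine hc1 ?_
    have := hord3 c hcC
    rw [pow_succ, hc2, one_mul] at this
    exact this
end


/-- Let G be a finite group with Sylow 2-subgroup P. Every subgroup H of G whose Sylow 2-subgroup is normal in H with cyclic quotient is cyclic, dihedral of 2-power order, or isomorphic to the alternating group of degree 4, if and only if either P is cyclic, or P is dihedral (of order at least 4) and every elementary abelian subgroup K of order 4 of P satisfies C_G(K) = K. -/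
theorem result {G : Type*} [Group G] [Finite G] (P : Sylow 2 G) :
    (∀ H : Subgroup G, (∀ S : Sylow 2 ↥H, (S : Subgroup ↥H).Normal) →
        (∀ (S : Sylow 2 ↥H) [(S : Subgroup ↥H).Normal], IsCyclic (↥H ⧸ (S : Subgroup ↥H))) →
        IsCyclic H ∨ (∃ n : ℕ, Nonempty (H ≃* DihedralGroup (2 ^ n))) ∨ Nonempty (H ≃* alternatingGroup (Fin 4))) ↔
    (IsCyclic P ∨
      ((∃ n : ℕ, 1 ≤ n ∧ Nonempty ((P : Subgroup G) ≃* DihedralGroup (2 ^ n))) ∧
        ∀ K : Subgroup G, K ≤ P → Nat.card K = 4 → (∀ k ∈ K, k ^ 2 = 1) → Subgroup.centralizer (K : Set G) = K)) := by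
  exact ⟨fun h => forward P h, fun h H hn hq => backward P h H hn hq⟩

end Cfsg.Agent.S4083
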