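import Cfsg.Statements.S4084
import Mathlib

set_option autoImplicit false
open Cfsg

namespace Cfsg.Agent.S4084

theorem center_centralizer_card {K : Type*} [Group K] (k : K) :
    Nat.card {z : K // Commute z k ∧ ∀ w, Commute w k → Commute z w} =
      Nat.card (Subgroup.center (Subgroup.centralizer ({k} : Set K))) :=
  Nat.card_congr
    { toFun := fun z => ⟨⟨z.1, Subgroup.mem_centralizer_singleton_iff.mpr z.2.1.eq⟩,
        Subgroup.mem_center_iff.mpr fun w => Subtype.ext
          (z.2.2 w.1 (Subgroup.mem_centralizer_singleton_iff.mp w.2)).eq.symm⟩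
      invFun := fun z => ⟨z.1.1, Subgroup.mem_centralizer_singleton_iff.mp z.1.2, fun w hw =>
        (congrArg Subtype.val (Subgroup.mem_center_iff.mp z.2
          ⟨w, Subgroup.mem_centralizer_singleton_iff.mpr hw.eq⟩)).symm⟩
      left_inv := fun z => rfl
      right_inv := fun z => rfl }

theorem big {K : Type*} [Group K] [Finite K] {p q : ℕ} (hp : p.Prime) (hq : q.Prime) (hpq : p ≠ q) :
    (∃ k : K, orderOf k = p * q) ↔
      ∃ k : K, p * q ∣ Nat.card {z : K // Commute z k ∧ ∀ w, Commute w k → Commute z w} := by
  constructor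
  · rintro ⟨k, hk⟩
    refine ⟨k, ?_⟩
    rw [center_centralizer_card k]
    let c : Subgroup.center (Subgroup.centralizer ({k} : Set K)) :=
      ⟨⟨k, Subgroup.mem_centralizer_singleton_iff.mpr rfl⟩, Subgroup.mem_center_iff.mpr fun w =>
        Subtype.ext (Subgroup.mem_centralizer_singleton_iff.mp w.2)⟩
    have hc : orderOf c = p * q := by rw [← Subgroup.orderOf_coe, Subgroup.orderOf_mk, hk]
    rw [← hc]
    exact orderOf_dvd_natCard c
  · rintro ⟨k, hk⟩
    rw [center_centralizer_card k] at hk
    have := Fact.mk hp
    have := Fact.mk hq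
    obtain ⟨a, ha⟩ := exists_prime_orderOf_dvd_card' p ((dvd_mul_right p q).trans hk)
    obtain ⟨b, hb⟩ := exists_prime_orderOf_dvd_card' q ((dvd_mul_left q p).trans hk)
    refine ⟨((a * b).1 : Subgroup.centralizer ({k} : Set K)), ?_⟩
    rw [Subgroup.orderOf_coe, Subgroup.orderOf_coe,
      (show Commute a b from Subtype.ext (Subgroup.mem_center_iff.mp b.2 a.1)).orderOf_mul_eq_mul_orderOf_of_coprime
        (by rw [ha, hb]; exact (Nat.coprime_primes hp hq).mpr hpq), ha, hb]


/-- Let G and H be finite groups whose commuting graphs are isomorphic: there is a bijection e : G → H with x, y commuting exactly when e(x), e(y) commute. Then G and H have the same prime graph: for distinct primes p, q, G has an element of order pq if and only if H does (and #G = #H, so the prime divisors agree). -/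
theorem result {G H : Type*} [Group G] [Finite G] [Group H] [Finite H] (e : G ≃ H)
    (he : ∀ x y : G, Commute x y ↔ Commute (e x) (e y))
    {p q : ℕ} (hp : p.Prime) (hq : q.Prime) (hpq : p ≠ q) :
    (∃ g : G, orderOf g = p * q) ↔ (∃ h : H, orderOf h = p * q) := by
  rw [big hp hq hpq, big hp hq hpq]
  refine e.exists_congr fun k => ?_
  have : Nat.card {z : G // Commute z k ∧ ∀ w, Commute w k → Commute z w} =
      Nat.card {z : H // Commute z (e k) ∧ ∀ w, Commute w (e k) → Commute z w} := by
    refine Nat.card_congr (e.subtypeEquiv fun z => ?_)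
    rw [← he z k]
    exact and_congr_right fun _ => e.forall_congr fun w => by rw [← he w k, ← he z w]
  rw [this]

end Cfsg.Agent.S4084
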