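import Cfsg.Statements.S4086


set_option autoImplicit false
open Cfsg

namespace Cfsg.Agent.S4086

/-- For a finite group G the following are equivalent: every non-identity element has prime-power order; whenever two elements generate a cyclic subgroup, one of them is a power of the other (the enhanced power graph of G coincides with its power graph). -/
theorem result {G : Type*} [Group G] [Finite G] :
    (∀ g : G, g ≠ 1 → IsPrimePow (orderOf g)) ↔
    (∀ x y : G, IsCyclic ↥(Subgroup.closure ({x, y} : Set G)) → (x ∈ Subgroup.zpowers y ∨ y ∈ Subgroup.zpowers x)) := by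
  constructor
  · intro h x y hxy
    set H := Subgroup.closure ({x, y} : Set G)
    obtain ⟨g, hg⟩ := hxy.exists_generator
    have hx : (⟨x, Subgroup.subset_closure (Set.mem_insert _ _)⟩ : H) ∈ Subgroup.zpowers g := hg _
    have hy : (⟨y, Subgroup.subset_closure (Set.mem_insert_of_mem _ rfl)⟩ : H) ∈ Subgroup.zpowers g := hg _
    have hxg : x ∈ Subgroup.zpowers (g : G) := by
      obtain ⟨i, hi⟩ := hx
      exact ⟨i, congrArg Subtype.val hi⟩
    have hyg : y ∈ Subgroup.zpowers (g : G) := by
      obtain ⟨i, hi⟩ := hy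
      exact ⟨i, congrArg Subtype.val hi⟩
    by_cases hg1 : (g : G) = 1
    · rw [hg1, Subgroup.zpowers_one_eq_bot, Subgroup.mem_bot] at hxg
      exact Or.inl (hxg ▸ Subgroup.one_mem _)
    obtain ⟨r, k, hr, -, hk⟩ := (isPrimePow_nat_iff _).mp (h _ hg1)
    have hsub : ∀ u v : G, u ∈ Subgroup.zpowers (g : G) → v ∈ Subgroup.zpowers (g : G) →
        orderOf u ∣ orderOf v → u ∈ Subgroup.zpowers v := by
      intro u v hu hv huv
      classical
      let C := Subgroup.zpowers (g : G)
      have : Fintype C := Fintype.ofFinite _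
      by_contra hne
      have hpow : ∀ w ∈ Subgroup.zpowers v, w ^ orderOf v = 1 := fun w hw => by
        rw [← Nat.card_zpowers v]
        exact orderOf_dvd_iff_pow_eq_one.mp (Subgroup.orderOf_dvd_natCard _ hw)
      have hle : (Finset.univ.filter fun w : C => w ^ orderOf v = 1).card ≤ orderOf v :=
        IsCyclic.card_pow_eq_one_le (orderOf_pos v)
      have : Fintype (Subgroup.zpowers v) := Fintype.ofFinite _
      let f : Subgroup.zpowers v → C := fun w => ⟨w.1, (Subgroup.zpowers_le.mpr hv) w.2⟩
      have hins : insert (⟨u, hu⟩ : C) (Finset.univ.image f) ⊆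
          Finset.univ.filter fun w : C => w ^ orderOf v = 1 := by
        intro w hw
        refine Finset.mem_filter.mpr ⟨Finset.mem_univ _, Subtype.ext ?_⟩
        rcases Finset.mem_insert.mp hw with rfl | hw
        · exact orderOf_dvd_iff_pow_eq_one.mp huv
        · obtain ⟨z, -, rfl⟩ := Finset.mem_image.mp hw
          exact hpow _ z.2
      have h3 := (Finset.card_le_card hins).trans hle
      rw [Finset.card_insert_of_notMem (fun hm => by
          obtain ⟨z, -, hz⟩ := Finset.mem_image.mp hm
          have hz' : (z : G) = u := congrArg Subtype.val hz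
          exact hne (hz' ▸ z.2)),
        Finset.card_image_of_injective _ (fun a b hab => Subtype.ext
          (show (a : G) = b from congrArg (fun w : C => (w : G)) hab)),
        Finset.card_univ, ← Nat.card_eq_fintype_card, Nat.card_zpowers] at h3
      omega
    have hdvd : ∀ u, u ∈ Subgroup.zpowers (g : G) → orderOf u ∣ r ^ k := fun u hu =>
      hk ▸ orderOf_dvd_of_mem_zpowers hu
    obtain ⟨i, -, hi⟩ := (Nat.dvd_prime_pow hr).mp (hdvd x hxg)
    obtain ⟨j, -, hj⟩ := (Nat.dvd_prime_pow hr).mp (hdvd y hyg)
    rcases le_total i j with hle | hle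
    · exact Or.inl (hsub x y hxg hyg (hi ▸ hj ▸ pow_dvd_pow r hle))
    · exact Or.inr (hsub y x hyg hxg (hi ▸ hj ▸ pow_dvd_pow r hle))
  · intro h g hg
    by_contra hpp
    have hn1 : orderOf g ≠ 1 := fun e => hg (orderOf_eq_one_iff.mp e)
    obtain ⟨r, hr, hrd⟩ := Nat.exists_prime_and_dvd hn1
    have := Fact.mk hr
    obtain ⟨s, hs, hsd, hsr⟩ : ∃ s, s.Prime ∧ s ∣ orderOf g ∧ s ≠ r := by
      by_contra hall
      push Not at hall
      have he := Nat.eq_prime_pow_of_unique_prime_dvd (orderOf_pos g).ne' (fun {d} h1 h2 => hall d h1 h2)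
      refine hpp (he ▸ hr.isPrimePow.pow ?_)
      intro h0
      rw [h0, pow_zero] at he
      exact hn1 he
    have ha : orderOf (g ^ (orderOf g / r)) = r := orderOf_pow_orderOf_div (orderOf_pos g).ne' hrd
    have hb : orderOf (g ^ (orderOf g / s)) = s := orderOf_pow_orderOf_div (orderOf_pos g).ne' hsd
    have hcyc : IsCyclic ↥(Subgroup.closure ({g ^ (orderOf g / r), g ^ (orderOf g / s)} : Set G)) := by
      refine Subgroup.isCyclic_of_le (H' := Subgroup.zpowers g) ((Subgroup.closure_le _).mpr ?_)
      rintro z (rfl | rfl) <;> exact Subgroup.pow_mem _ (Subgroup.mem_zpowers g) _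
    rcases h _ _ hcyc with h1 | h1
    · have := orderOf_dvd_of_mem_zpowers h1
      rw [ha, hb] at this
      exact hsr ((Nat.prime_dvd_prime_iff_eq hr hs).mp this).symm
    · have := orderOf_dvd_of_mem_zpowers h1
      rw [ha, hb] at this
      exact hsr ((Nat.prime_dvd_prime_iff_eq hs hr).mp this)

end Cfsg.Agent.S4086
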