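import Cfsg.Statements.S4088
import Cfsg.Agent.SolvStruct.Subnormalizer

set_option autoImplicit false
open Cfsg

namespace Cfsg.Agent.S4088

/-- Let G be a finite group, p a prime dividing the order of G, H a p-subgroup of G and P a Sylow p-subgroup of G. Call the subnormalizer of H the set of elements g of G such that H is subnormal in the subgroup generated by H and g. Then the number of elements of the subnormalizer of H equals the number of Sylow p-subgroups of G containing H times the order of N_G(P), and also equals the number of conjugates of H contained in P times the order of N_G(H). -/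
theorem result {G : Type*} [Group G] [Finite G] (p : ℕ) [Fact p.Prime]
    (hp : p ∣ Nat.card G) (H : Subgroup G) (hH : IsPGroup p H) (P : Sylow p G) :
    Nat.card {g : G // ((H).subgroupOf (H ⊔ Subgroup.zpowers g)).IsSubnormal} =
        Nat.card {Q : Sylow p G // H ≤ (Q : Subgroup G)} * Nat.card (Subgroup.normalizer ((P : Subgroup G) : Set G)) ∧
    Nat.card {g : G // ((H).subgroupOf (H ⊔ Subgroup.zpowers g)).IsSubnormal} =
        Nat.card {K : Subgroup G // K ≤ (P : Subgroup G) ∧ ∃ g : G, K = H.map (MulAut.conj g).toMonoidHom} *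
          Nat.card (Subgroup.normalizer (H : Set G)) := by
  classical
  have h1 := Cfsg.Lib.Subnormalizer.card_subnormalizer H hH P
  refine ⟨h1, ?_⟩
  rw [h1]
  haveI := Fintype.ofFinite G
  set N := Subgroup.normalizer ((P : Subgroup G) : Set G) with hN
  -- count the pairs `(g, Q)` with `g H g⁻¹ ≤ Q`
  have e1 : Nat.card {x : G × Sylow p G // H.map (MulAut.conj x.1).toMonoidHom ≤ (x.2 : Subgroup G)} =
      Nat.card G * Nat.card {Q : Sylow p G // H ≤ (Q : Subgroup G)} := by
    rw [← Nat.card_prod]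
    refine Nat.card_congr
      { toFun := fun x => (x.1.1, ⟨x.1.1⁻¹ • x.1.2, ?_⟩)
        invFun := fun y => ⟨(y.1, y.1 • y.2.1), ?_⟩
        left_inv := fun x => Subtype.ext (Prod.ext rfl (smul_inv_smul _ _))
        right_inv := fun y => Prod.ext rfl (Subtype.ext (inv_smul_smul _ _)) }
    · intro h hh
      rw [Sylow.coe_subgroup_smul, Cfsg.Lib.Coprime.conj_smul_eq, Cfsg.Lib.Coprime.mem_conjMap, inv_inv]
      exact x.2 ⟨h, hh, rfl⟩
    · rintro _ ⟨h, hh, rfl⟩
      rw [Sylow.coe_subgroup_smul, Cfsg.Lib.Coprime.conj_smul_eq, Cfsg.Lib.Coprime.mem_conjMap]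
      have := y.2.2 hh
      simpa [mul_assoc] using this
  have e2 : Nat.card {x : G × Sylow p G // H.map (MulAut.conj x.1).toMonoidHom ≤ (x.2 : Subgroup G)} =
      Nat.card (Sylow p G) * Nat.card {g : G // H.map (MulAut.conj g).toMonoidHom ≤ (P : Subgroup G)} := by
    rw [← Nat.card_prod]
    choose c hc using fun Q : Sylow p G => MulAction.exists_smul_eq G Q P
    have key : ∀ (Q : Sylow p G) (z : G), z ∈ (Q : Subgroup G) ↔ c Q * z * (c Q)⁻¹ ∈ (P : Subgroup G) := by
      intro Q z
      conv_rhs => rw [← hc Q, Sylow.coe_subgroup_smul, Cfsg.Lib.Coprime.conj_smul_eq, Cfsg.Lib.Coprime.mem_conjMap]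
      simp [mul_assoc]
    refine Nat.card_congr
      { toFun := fun x => (x.1.2, ⟨c x.1.2 * x.1.1, ?_⟩)
        invFun := fun y => ⟨((c y.1)⁻¹ * y.2.1, y.1), ?_⟩
        left_inv := fun x => Subtype.ext (Prod.ext (by simp) rfl)
        right_inv := fun y => Prod.ext rfl (Subtype.ext (by simp)) }
    · rintro _ ⟨h, hh, rfl⟩
      have h0 : (MulAut.conj x.1.1) h ∈ (x.1.2 : Subgroup G) := x.2 ⟨h, hh, rfl⟩
      have := (key x.1.2 _).1 h0
      simpa [mul_assoc] using this
    · rintro _ ⟨h, hh, rfl⟩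
      have hP : (MulAut.conj y.2.1) h ∈ (P : Subgroup G) := y.2.2 ⟨h, hh, rfl⟩
      refine (key y.1 _).2 ?_
      simpa [mul_assoc] using hP
  have e3 : Nat.card {g : G // H.map (MulAut.conj g).toMonoidHom ≤ (P : Subgroup G)} =
      Nat.card {K : Subgroup G // K ≤ (P : Subgroup G) ∧ ∃ g : G, K = H.map (MulAut.conj g).toMonoidHom} *
        Nat.card (Subgroup.normalizer (H : Set G)) := by
    rw [← Nat.card_prod]
    choose c hc using fun K : {K : Subgroup G // K ≤ (P : Subgroup G) ∧ ∃ g : G, K = H.map (MulAut.conj g).toMonoidHom} => K.2.2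
    refine (Nat.card_congr (Equiv.ofBijective (fun y => (⟨c y.1 * y.2.1, ?_⟩ : {g : G // H.map (MulAut.conj g).toMonoidHom ≤ (P : Subgroup G)})) ⟨?_, ?_⟩)).symm
    · rw [show H.map (MulAut.conj (c y.1 * y.2.1)).toMonoidHom =
        Cfsg.Lib.Coprime.conjMap (c y.1) (Cfsg.Lib.Coprime.conjMap y.2.1 H) from
        (Cfsg.Lib.Coprime.conjMap_mul _ _ H).symm, Cfsg.Lib.Coprime.conjMap_eq_self y.2.2]
      exact (hc y.1).ge.trans y.1.2.1
    · intro y z h
      have h' : c y.1 * y.2.1 = c z.1 * z.2.1 := congrArg Subtype.val h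
      have hh : ∀ w : {K : Subgroup G // K ≤ (P : Subgroup G) ∧ ∃ g : G, K = H.map (MulAut.conj g).toMonoidHom} ×
          (Subgroup.normalizer (H : Set G)), Cfsg.Lib.Coprime.conjMap (c w.1 * w.2.1) H = w.1.1 := fun w => by
        rw [← Cfsg.Lib.Coprime.conjMap_mul, Cfsg.Lib.Coprime.conjMap_eq_self w.2.2]
        exact (hc w.1).symm
      have hK : y.1 = z.1 := Subtype.ext ((hh y).symm.trans ((congrArg (Cfsg.Lib.Coprime.conjMap · H) h').trans (hh z)))
      rw [hK] at h'
      exact Prod.ext hK (Subtype.ext (mul_left_cancel h'))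
    · intro g
      have hK := (⟨_, g.2, g.1, rfl⟩ : ({K : Subgroup G // K ≤ (P : Subgroup G) ∧ ∃ g : G, K = H.map (MulAut.conj g).toMonoidHom}))
      let K : {K : Subgroup G // K ≤ (P : Subgroup G) ∧ ∃ g : G, K = H.map (MulAut.conj g).toMonoidHom} :=
        ⟨_, g.2, g.1, rfl⟩
      refine ⟨(K, ⟨(c K)⁻¹ * g.1, ?_⟩), Subtype.ext (mul_inv_cancel_left _ _)⟩
      rw [← Cfsg.Lib.Coprime.conjMap_eq_self_iff, ← Cfsg.Lib.Coprime.conjMap_mul,
        show Cfsg.Lib.Coprime.conjMap g.1 H = Cfsg.Lib.Coprime.conjMap (c K) H from hc K,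
        Cfsg.Lib.Coprime.conjMap_inv_conjMap]
  have h4 : Nat.card (Sylow p G) * Nat.card N = Nat.card G := by
    rw [show Nat.card (Sylow p G) = N.index from P.card_eq_index_normalizer, Subgroup.index_mul_card]
  have h5 := e1.symm.trans (e2.trans (by rw [e3]))
  apply Nat.eq_of_mul_eq_mul_left (Nat.card_pos (α := Sylow p G))
  calc Nat.card (Sylow p G) * (Nat.card {Q : Sylow p G // H ≤ (Q : Subgroup G)} * Nat.card N)
      = Nat.card (Sylow p G) * Nat.card N * Nat.card {Q : Sylow p G // H ≤ (Q : Subgroup G)} := by ring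
    _ = _ := by rw [h4, h5]

end Cfsg.Agent.S4088
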