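import Cfsg.Statements.S4089
import Cfsg.Agent.SolvStruct.Subnormalizer

set_option autoImplicit false
open Cfsg

namespace Cfsg.Agent.S4089

/-- Let G be a finite group, p a prime and H a p-subgroup of G. Then the set of elements g of G such that H is subnormal in the subgroup generated by H and g is the union of the normalizers N_G(R) over the subgroups R of G containing H with R = O_p(N_G(R)); and this set does not change when H is replaced by the intersection of all Sylow p-subgroups of G containing H. -/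
theorem result {G : Type*} [Group G] [Finite G] (p : ℕ) [Fact p.Prime]
    (H : Subgroup G) (hH : IsPGroup p H) :
    {g : G | ((H).subgroupOf (H ⊔ Subgroup.zpowers g)).IsSubnormal} =
      {g : G | ∃ R : Subgroup G, H ≤ R ∧ (Cfsg.pCore p (Subgroup.normalizer (R : Set G))).map (Subgroup.normalizer (R : Set G)).subtype = R ∧ g ∈ Subgroup.normalizer (R : Set G)} ∧
    ∀ g : G, (((H).subgroupOf (H ⊔ Subgroup.zpowers g)).IsSubnormal ↔
      (((sInf {K : Subgroup G | ∃ Q : Sylow p G, H ≤ (Q : Subgroup G) ∧ K = (Q : Subgroup G)})).subgroupOf ((sInf {K : Subgroup G | ∃ Q : Sylow p G, H ≤ (Q : Subgroup G) ∧ K = (Q : Subgroup G)}) ⊔ Subgroup.zpowers g)).IsSubnormal) := by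
  constructor
  · ext g
    exact (Cfsg.Lib.Subnormalizer.isSubnormal_iff_ext H hH g).trans (Cfsg.Lib.Subnormalizer.ext_iff_radical H g)
  · intro g
    set D := sInf {K : Subgroup G | ∃ Q : Sylow p G, H ≤ (Q : Subgroup G) ∧ K = (Q : Subgroup G)} with hD
    obtain ⟨Q₀, hQ₀⟩ := hH.exists_le_sylow
    have hDp : IsPGroup p D := Q₀.2.to_le (sInf_le ⟨Q₀, hQ₀, rfl⟩)
    have hHD : H ≤ D := le_sInf fun K ⟨Q, hQ, hK⟩ => hK ▸ hQ
    rw [Cfsg.Lib.Subnormalizer.isSubnormal_iff_ext H hH g, Cfsg.Lib.Subnormalizer.isSubnormal_iff_ext D hDp g,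
      Cfsg.Lib.Subnormalizer.ext_iff_radical H g, Cfsg.Lib.Subnormalizer.ext_iff_radical D g]
    constructor
    · rintro ⟨R, hHR, hR, hg⟩
      refine ⟨R, ?_, hR, hg⟩
      refine le_trans ?_ (Cfsg.Lib.Subnormalizer.sInf_sylow_le_radical R hR)
      exact sInf_le_sInf fun K ⟨Q, hQ, hK⟩ => ⟨Q, hHR.trans hQ, hK⟩
    · rintro ⟨R, hDR, hR, hg⟩
      exact ⟨R, hHD.trans hDR, hR, hg⟩

end Cfsg.Agent.S4089
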