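import Cfsg.Statements.S4090
import Cfsg.Agent.SolvStruct.SubnormalizerChain

set_option autoImplicit false
open scoped BigOperators
open Cfsg

namespace Cfsg.Agent.S4090

/-- Let G be a finite p-solvable group, H a p-subgroup of G and P a Sylow p-subgroup, and fix a chain of normal subgroups 1 = M₀ ≤ M₁ ≤ ⋯ ≤ Mₙ = G of G each of whose factors is a p-group or a p'-group. Then the number of elements g of G such that H is subnormal in the subgroup generated by H and g equals the order of P times the product, over the factors Mᵢ₊₁/Mᵢ of order prime to p, of the order of the centralizer of H in Mᵢ₊₁/Mᵢ (counted as the number of u ∈ Mᵢ₊₁ with [h, u] ∈ Mᵢ for all h ∈ H, divided by the order of Mᵢ). -/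
theorem result {G : Type*} [Group G] [Finite G] (p : ℕ) [Fact p.Prime]
    (hG : Cfsg.IsPSolvable p G) (H : Subgroup G) (hH : IsPGroup p H) (P : Sylow p G)
    (n : ℕ) (M : Fin (n + 1) → Subgroup G) (h0 : M 0 = ⊥) (hn : M (Fin.last n) = ⊤) (hmono : Monotone M)
    (hnormal : ∀ i, (M i).Normal)
    (hfac : ∀ i : Fin n, (∃ m : ℕ, (M i.castSucc).relIndex (M i.succ) = p ^ m) ∨ ((M i.castSucc).relIndex (M i.succ)).Coprime p) :
    Nat.card {g : G // ((H).subgroupOf (H ⊔ Subgroup.zpowers g)).IsSubnormal} =
      Nat.card (P : Subgroup G) *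
        ∏ i : Fin n, (if ((M i.castSucc).relIndex (M i.succ)).Coprime p then
          Nat.card {u : G // u ∈ M i.succ ∧ ∀ h ∈ H, h * u * h⁻¹ * u⁻¹ ∈ M i.castSucc} / Nat.card (M i.castSucc)
          else 1) := by
  classical
  have hp : p.Prime := Fact.out
  haveI := fun i => hnormal i
  set F : Fin (n + 1) → ℕ := fun j => Nat.card {T : Subgroup G // Cfsg.Lib.Subnormalizer.Over p H (M j) T} *
    Nat.card (Subgroup.normalizer ((M j ⊔ (P : Subgroup G) : Subgroup G) : Set G)) with hF
  set d : Fin n → ℕ := fun i => if ((M i.castSucc).relIndex (M i.succ)).Coprime p then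
    Nat.card {u : G // u ∈ M i.succ ∧ ∀ h ∈ H, h * u * h⁻¹ * u⁻¹ ∈ M i.castSucc} / Nat.card (M i.castSucc)
    else (M i.castSucc).relIndex (M i.succ) with hd
  have hle : ∀ i : Fin n, M i.castSucc ≤ M i.succ := fun i => hmono i.castSucc_le_succ
  have hr : ∀ i : Fin n, Nat.card (M i.castSucc) * (M i.castSucc).relIndex (M i.succ) = Nat.card (M i.succ) := fun i => by
    rw [← Subgroup.relIndex_bot_left, Subgroup.relIndex_mul_relIndex _ _ _ bot_le (hle i), Subgroup.relIndex_bot_left]
  -- one step of the series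
  have hstep : ∀ i : Fin n, F i.castSucc * Nat.card (M i.succ) = F i.succ * (d i * Nat.card (M i.castSucc)) := by
    intro i
    by_cases hc : ((M i.castSucc).relIndex (M i.succ)).Coprime p
    · have h1 : Nat.card (M i.castSucc) ∣ Nat.card {u : G // u ∈ M i.succ ∧ ∀ h ∈ H, h * u * h⁻¹ * u⁻¹ ∈ M i.castSucc} := by
        let C := M i.succ ⊓ (Subgroup.centralizer ((H.map (QuotientGroup.mk' (M i.castSucc)) : Subgroup (G ⧸ M i.castSucc)) : Set (G ⧸ M i.castSucc))).comap
          (QuotientGroup.mk' (M i.castSucc))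
        have he : Nat.card {u : G // u ∈ M i.succ ∧ ∀ h ∈ H, h * u * h⁻¹ * u⁻¹ ∈ M i.castSucc} = Nat.card C := by
          refine Nat.card_congr (Equiv.subtypeEquivRight fun u => and_congr_right fun _ => ?_)
          show _ ↔ (QuotientGroup.mk' (M i.castSucc)) u ∈
            Subgroup.centralizer ((H.map (QuotientGroup.mk' (M i.castSucc)) : Subgroup (G ⧸ M i.castSucc)) : Set (G ⧸ M i.castSucc))
          rw [Subgroup.mem_centralizer_iff]
          constructor
          · rintro hu _ ⟨h, hh, rfl⟩
            rw [← mul_inv_eq_iff_eq_mul, ← mul_inv_eq_one, ← map_mul, ← map_inv, ← map_mul, ← map_inv, ← map_mul]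
            exact (QuotientGroup.eq_one_iff _).2 (hu h hh)
          · intro hu h hh
            refine (QuotientGroup.eq_one_iff _).1 ?_
            have h2 := hu _ ⟨h, hh, rfl⟩
            rw [← mul_inv_eq_iff_eq_mul, ← mul_inv_eq_one, ← map_mul, ← map_inv, ← map_mul, ← map_inv, ← map_mul] at h2
            exact h2
        rw [he]
        refine Subgroup.card_dvd_of_le (le_inf (hle i) fun m hm => ?_)
        rw [Subgroup.mem_comap, Subgroup.mem_centralizer_iff]
        intro y _
        rw [show (QuotientGroup.mk' (M i.castSucc)) m = 1 from (QuotientGroup.eq_one_iff _).2 hm, mul_one, one_mul]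
      have h2 := Cfsg.Lib.Subnormalizer.step_coprime H hH P (M i.castSucc) (M i.succ) (hle i) hc
      simp only [hF, hd, if_pos hc, Nat.div_mul_cancel h1]
      exact h2
    · have he := Cfsg.Lib.Subnormalizer.over_eq_of_pFactor (M i.castSucc) (M i.succ) (hle i) ((hfac i).resolve_right hc)
        (p := p)
      have hO : F i.castSucc = F i.succ := by
        simp only [hF, he P]
        congr 1
        refine Nat.card_congr (Equiv.subtypeEquivRight fun T => ?_)
        unfold Cfsg.Lib.Subnormalizer.Over
        simp only [he]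
      rw [hO, ← hr i]
      simp only [hd, if_neg hc]
      ring
  have hcount : ∀ j : Fin (n + 1), F j = Nat.card (M j) * ∏ i ∈ Finset.univ.filter (fun i : Fin n => j ≤ i.castSucc), d i := by
    intro j
    induction j using Fin.reverseInduction with
    | last =>
      have h1 : (Finset.univ.filter fun i : Fin n => Fin.last n ≤ i.castSucc) = ∅ := by
        ext i; simp [Fin.castSucc_lt_last i]
      rw [h1, Finset.prod_empty, mul_one]
      simp only [hF, hn, top_sup_eq]
      have h2 : Nat.card {T : Subgroup G // Cfsg.Lib.Subnormalizer.Over p H ⊤ T} = 1 := by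
        rw [Nat.card_eq_one_iff_unique]
        refine ⟨⟨fun a b => ?_⟩, ⟨⟨⊤, le_top, P, (top_sup_eq _).symm⟩⟩⟩
        obtain ⟨Q, hQ⟩ := a.2.2
        obtain ⟨Q', hQ'⟩ := b.2.2
        exact Subtype.ext (by rw [hQ, hQ', top_sup_eq, top_sup_eq])
      rw [h2, one_mul, Subgroup.normalizer_eq_top]
    | cast i ih =>
      have h1 : (Finset.univ.filter fun k : Fin n => i.castSucc ≤ k.castSucc) =
          insert i (Finset.univ.filter fun k : Fin n => i.succ ≤ k.castSucc) := by
        ext k
        simp only [Finset.mem_filter, Finset.mem_univ, true_and, Finset.mem_insert, Fin.castSucc_le_castSucc_iff,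
          Fin.succ_le_castSucc_iff]
        exact ⟨fun h => (eq_or_lt_of_le h).imp_left Eq.symm, fun h => h.elim (fun e => e ▸ le_rfl) le_of_lt⟩
      rw [h1, Finset.prod_insert (by simp [Fin.succ_le_castSucc_iff])]
      have h2 := hstep i
      rw [ih] at h2
      refine Nat.eq_of_mul_eq_mul_right (Nat.card_pos (α := M i.succ)) ?_
      rw [h2]
      ring
  have h0' := hcount 0
  have hF0 : F 0 = Nat.card {g : G // (H.subgroupOf (H ⊔ Subgroup.zpowers g)).IsSubnormal} := by
    rw [Cfsg.Lib.Subnormalizer.card_subnormalizer H hH P]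
    simp only [hF, h0, bot_sup_eq]
    congr 1
    refine (Nat.card_congr (Equiv.ofBijective (fun Q : {Q : Sylow p G // H ≤ (Q : Subgroup G)} =>
      (⟨(Q.1 : Subgroup G), Q.2, Q.1, (bot_sup_eq _).symm⟩ : {T : Subgroup G // Cfsg.Lib.Subnormalizer.Over p H ⊥ T}))
      ⟨fun a b h => Subtype.ext (Sylow.ext (congrArg Subtype.val h)), ?_⟩)).symm
    rintro ⟨T, hT, Q, rfl⟩
    exact ⟨⟨Q, by rwa [bot_sup_eq] at hT⟩, Subtype.ext (bot_sup_eq _).symm⟩
  rw [hF0, h0, Subgroup.card_bot, one_mul] at h0'
  rw [h0', Finset.filter_true_of_mem (fun i _ => Fin.zero_le _)]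
  -- the `p`-factors multiply to the order of a Sylow subgroup
  have hsplit : ∀ i, d i = (if ((M i.castSucc).relIndex (M i.succ)).Coprime p then 1 else (M i.castSucc).relIndex (M i.succ)) *
      (if ((M i.castSucc).relIndex (M i.succ)).Coprime p then
        Nat.card {u : G // u ∈ M i.succ ∧ ∀ h ∈ H, h * u * h⁻¹ * u⁻¹ ∈ M i.castSucc} / Nat.card (M i.castSucc)
        else 1) := fun i => by
    simp only [hd]; split_ifs <;> simp
  rw [Finset.prod_congr rfl (fun i _ => hsplit i), Finset.prod_mul_distrib]
  congr 1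
  set A := ∏ i : Fin n, (if ((M i.castSucc).relIndex (M i.succ)).Coprime p then 1 else (M i.castSucc).relIndex (M i.succ)) with hA
  set B := ∏ i : Fin n, (if ((M i.castSucc).relIndex (M i.succ)).Coprime p then (M i.castSucc).relIndex (M i.succ) else 1) with hB
  have hAp : ∃ s, A = p ^ s := by
    refine Finset.prod_induction _ (fun a => ∃ s, a = p ^ s) ?_ ⟨0, (pow_zero p).symm⟩ fun i _ => ?_
    · rintro a b ⟨s, rfl⟩ ⟨t, rfl⟩
      exact ⟨s + t, (pow_add p s t).symm⟩
    · split_ifs with hc
      · exact ⟨0, (pow_zero p).symm⟩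
      · exact (hfac i).resolve_right hc
  have hBc : B.Coprime p := by
    refine Nat.Coprime.prod_left fun i _ => ?_
    split_ifs with hc
    · exact hc
    · exact Nat.coprime_one_left p
  have hAB : A * B = Nat.card G := by
    rw [hA, hB, ← Finset.prod_mul_distrib]
    have h1 : ∀ j : Fin (n + 1), Nat.card (M j) * ∏ i ∈ Finset.univ.filter (fun i : Fin n => j ≤ i.castSucc),
        (M i.castSucc).relIndex (M i.succ) = Nat.card G := by
      intro j
      induction j using Fin.reverseInduction with
      | last =>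
        have h1 : (Finset.univ.filter fun i : Fin n => Fin.last n ≤ i.castSucc) = ∅ := by
          ext i; simp [Fin.castSucc_lt_last i]
        rw [h1, Finset.prod_empty, mul_one, hn, Subgroup.card_top]
      | cast i ih =>
        have h1 : (Finset.univ.filter fun k : Fin n => i.castSucc ≤ k.castSucc) =
            insert i (Finset.univ.filter fun k : Fin n => i.succ ≤ k.castSucc) := by
          ext k
          simp only [Finset.mem_filter, Finset.mem_univ, true_and, Finset.mem_insert, Fin.castSucc_le_castSucc_iff,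
            Fin.succ_le_castSucc_iff]
          exact ⟨fun h => (eq_or_lt_of_le h).imp_left Eq.symm, fun h => h.elim (fun e => e ▸ le_rfl) le_of_lt⟩
        rw [h1, Finset.prod_insert (by simp [Fin.succ_le_castSucc_iff]), ← mul_assoc, hr i, ih]
    have h2 := h1 0
    rw [h0, Subgroup.card_bot, one_mul, Finset.filter_true_of_mem (fun i _ => Fin.zero_le _)] at h2
    rw [← h2]
    exact Finset.prod_congr rfl fun i _ => by split_ifs <;> simp
  obtain ⟨s, hs⟩ := hAp
  obtain ⟨v, hv⟩ := IsPGroup.iff_card.1 P.2
  have hP := (P : Subgroup G).card_mul_index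
  rw [← hAB] at hP
  refine Nat.dvd_antisymm (Nat.Coprime.dvd_of_dvd_mul_right ?_ (Dvd.intro B hP.symm))
    (Nat.Coprime.dvd_of_dvd_mul_right ?_ (Dvd.intro (P : Subgroup G).index hP))
  · rw [hs]; exact Nat.Coprime.pow_left _ (hp.coprime_iff_not_dvd.2 P.not_dvd_index)
  · rw [hv]; exact Nat.Coprime.pow_left _ hBc.symm

end Cfsg.Agent.S4090
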