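import Cfsg.Statements.S4092
import Cfsg.Agent.Counting.Frobenius
import Cfsg.Agent.CountElems.Totient

set_option autoImplicit false
open Cfsg
open scoped Pointwise

namespace Cfsg.Agent.S4092

/-- Let G be a finite group, p a prime and P a Sylow p-subgroup of G that is not normal in G. Then G has at least p·#P elements of p-power order (the identity included). -/
theorem result {G : Type*} [Group G] [Finite G] (p : ℕ) [Fact p.Prime]
    (P : Sylow p G) (hP : ¬ (P : Subgroup G).Normal) :
    p * Nat.card (P : Subgroup G) ≤ Nat.card {g : G // ∃ k : ℕ, orderOf g = p ^ k} := by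
  classical
  haveI := Fintype.ofFinite G
  have hp : p.Prime := Fact.out
  set a := (Nat.card G).factorization p
  have hPc : Nat.card (P : Subgroup G) = p ^ a := P.card_eq_multiplicity
  have hpow : ∀ g : G, (∃ k : ℕ, orderOf g = p ^ k) ↔ g ^ p ^ a = 1 := fun g => by
    rw [← orderOf_dvd_iff_pow_eq_one]
    refine ⟨fun ⟨k, hk⟩ => ?_, fun h => ?_⟩
    · rw [hk]
      exact pow_dvd_pow p ((hp.pow_dvd_iff_le_factorization Nat.card_pos.ne').1 (hk ▸ orderOf_dvd_natCard g))
    · obtain ⟨k, -, hk⟩ := (Nat.dvd_prime_pow hp).1 h; exact ⟨k, hk⟩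
  rw [Nat.card_congr (Equiv.subtypeEquivRight hpow), hPc]
  obtain ⟨k, hk⟩ : p ^ a ∣ Nat.card {g : G // g ^ p ^ a = 1} := by
    have h := Cfsg.Lib.Counting.dvd_card_pow_eq_one (Nat.card G) (G := G) rfl (p ^ a)
    rwa [Nat.gcd_eq_left (Nat.ordProj_dvd _ _)] at h
  -- modulo `p - 1`
  have hmod : p - 1 ∣ Nat.card {g : G // g ^ p ^ a = 1} - 1 := by
    have e : Nat.card {g : G // g ^ p ^ a = 1} = ∑ d ∈ (p ^ a).divisors, Nat.card {g : G // orderOf g = d} := by
      simp only [Nat.card_eq_fintype_card, Fintype.card_subtype]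
      convert (sum_card_orderOf_eq_card_pow_eq_one (G := G) (pow_ne_zero a hp.ne_zero)).symm
    rw [e, Nat.sum_divisors_prime_pow hp, Finset.sum_range_succ',
      show Nat.card {g : G // orderOf g = p ^ 0} = 1 by
        simp only [pow_zero, orderOf_eq_one_iff]
        exact Nat.card_eq_one_iff_unique.2 ⟨⟨fun x y => Subtype.ext (x.2.trans y.2.symm)⟩, ⟨⟨1, rfl⟩⟩⟩,
      Nat.add_sub_cancel]
    refine Finset.dvd_sum fun i _ => ?_
    exact Cfsg.Lib.CountElems.sub_one_dvd_card hp i
  have hlt : p ^ a < Nat.card {g : G // g ^ p ^ a = 1} := by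
    obtain ⟨g, hg⟩ : ∃ g : G, MulAut.conj g • (P : Subgroup G) ≠ P := by
      by_contra h
      push Not at h
      exact hP ⟨fun n hn g => (h g).le ⟨n, hn, rfl⟩⟩
    obtain ⟨y, hy, hyP⟩ : ∃ y ∈ MulAut.conj g • (P : Subgroup G), y ∉ (P : Subgroup G) := by
      by_contra h
      push Not at h
      exact hg (Subgroup.eq_of_le_of_card_ge h (le_of_eq (Subgroup.card_map_of_injective (MulAut.conj g).injective).symm))
    have hP1 : ∀ x ∈ (P : Subgroup G), x ^ p ^ a = 1 := fun x hx => by
      rw [← hPc]; exact congrArg Subtype.val (pow_card_eq_one' (x := (⟨x, hx⟩ : (P : Subgroup G))))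
    have hy1 : y ^ p ^ a = 1 := by
      obtain ⟨x, hx, rfl⟩ := hy
      show ((MulAut.conj g) x) ^ p ^ a = 1
      rw [← map_pow, hP1 x hx, map_one]
    have h1 : Nat.card (Option (P : Subgroup G)) ≤ Nat.card {g : G // g ^ p ^ a = 1} := by
      refine Nat.card_le_card_of_injective (fun o => o.elim ⟨y, hy1⟩ fun x => ⟨x, hP1 x x.2⟩) ?_
      rintro (_ | x) (_ | x') h
      · rfl
      · exact absurd (show y = (x' : G) from congrArg Subtype.val h) fun e => hyP (e ▸ x'.2)
      · exact absurd (show (x : G) = y from congrArg Subtype.val h) fun e => hyP (e ▸ x.2)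
      · have h' : (x : G) = x' := congrArg (fun w : {g : G // g ^ p ^ a = 1} => w.1) h
        exact congrArg some (Subtype.ext h')
    rw [Finite.card_option, hPc] at h1
    omega
  rw [hk, mul_comm p]
  refine Nat.mul_le_mul_left _ ?_
  rw [hk] at hmod hlt
  by_contra hkp
  push Not at hkp
  have hk2 : 1 < k := Nat.lt_of_mul_lt_mul_left (a := p ^ a) (by rw [mul_one]; exact hlt)
  have hpa : p - 1 ∣ p ^ a - 1 := by simpa using Nat.sub_dvd_pow_sub_pow p 1 a
  have hsplit : p ^ a * k - 1 = (p ^ a - 1) * k + (k - 1) := by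
    have h1 : 1 ≤ p ^ a := Nat.one_le_pow _ _ hp.pos
    rw [Nat.sub_mul, one_mul]
    have := Nat.le_mul_of_pos_left k h1
    omega
  rw [hsplit] at hmod
  have := Nat.le_of_dvd (by omega) ((Nat.dvd_add_right (dvd_mul_of_dvd_left hpa k)).1 hmod)
  omega

end Cfsg.Agent.S4092
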