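import Cfsg.Statements.S4093
import Cfsg.Agent.Transfer.Basic

set_option autoImplicit false
open scoped BigOperators
open Cfsg

namespace Cfsg.Agent.S4093

/-- Let G be a finite group with a normal subgroup N complementing a Sylow p-subgroup P (a normal p-complement). Then the number of elements of G of p-power order equals the sum over x ∈ P of the index of C_N(x) in N. -/
theorem result {G : Type*} [Group G] [Finite G] (p : ℕ) [Fact p.Prime]
    (P : Sylow p G) (N : Subgroup G) [N.Normal] (hNP : N.IsComplement' (P : Subgroup G)) :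
    Nat.card {g : G // ∃ k : ℕ, orderOf g = p ^ k} =
      ∑ᶠ x : (P : Subgroup G), Nat.card N / Nat.card ↥(N ⊓ Subgroup.centralizer ({(x : G)} : Set G)) := by
  classical
  set Q := (P : Subgroup G)
  haveI := Fintype.ofFinite Q
  rw [finsum_eq_sum_of_fintype]
  obtain ⟨hc, k, hk⟩ := Cfsg.Lib.Transfer.complement_props hNP
  let C : Q → Subgroup N := fun x => (Subgroup.centralizer ({(x : G)} : Set G)).subgroupOf N
  have hcard : ∀ x : Q, Nat.card N / Nat.card ↥(N ⊓ Subgroup.centralizer ({(x : G)} : Set G)) = Nat.card (N ⧸ C x) := by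
    intro x
    have h1 : Nat.card (C x) = Nat.card ↥(N ⊓ Subgroup.centralizer ({(x : G)} : Set G)) := by
      rw [← Subgroup.card_subtype N (C x), Subgroup.subgroupOf_map_subtype, inf_comm]
    rw [← h1, ← (C x).card_mul_index, Subgroup.index_eq_card, Nat.mul_div_cancel_left _ Nat.card_pos]
  rw [Finset.sum_congr rfl (fun x _ => hcard x), ← Nat.card_sigma]
  have hCmem : ∀ (x : Q) (a b : N), (a : G) * x * (a : G)⁻¹ = b * x * (b : G)⁻¹ ↔ a⁻¹ * b ∈ C x := by
    intro x a b
    rw [Subgroup.mem_subgroupOf, Subgroup.mem_centralizer_singleton_iff, Subgroup.coe_mul, Subgroup.coe_inv]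
    constructor
    · intro h
      calc (a : G)⁻¹ * b * x = (a : G)⁻¹ * ((b : G) * x * (b : G)⁻¹) * b := by group
        _ = (a : G)⁻¹ * ((a : G) * x * (a : G)⁻¹) * b := by rw [h]
        _ = _ := by group
    · intro h
      calc (a : G) * x * (a : G)⁻¹ = a * (x * ((a : G)⁻¹ * b)) * (b : G)⁻¹ := by group
        _ = a * ((a : G)⁻¹ * b * x) * (b : G)⁻¹ := by rw [h]
        _ = _ := by group
  let f : (Σ x : Q, N ⧸ C x) → {g : G // ∃ k : ℕ, orderOf g = p ^ k} := fun s =>
    Quotient.lift (fun a : N => (⟨(a : G) * s.1 * (a : G)⁻¹, by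
        obtain ⟨i, hi⟩ := IsPGroup.iff_orderOf.1 P.2 s.1
        exact ⟨i, by rw [← MulAut.conj_apply, MulEquiv.orderOf_eq, Subgroup.orderOf_coe]; exact hi⟩⟩ :
      {g : G // ∃ k : ℕ, orderOf g = p ^ k}))
      (fun a b hab => Subtype.ext ((hCmem s.1 a b).2 (QuotientGroup.leftRel_apply.1 hab))) s.2
  refine (Nat.card_congr (Equiv.ofBijective f ⟨?_, ?_⟩)).symm
  · rintro ⟨x, qa⟩ ⟨y, qb⟩
    induction qa using QuotientGroup.induction_on with
    | _ a =>
      induction qb using QuotientGroup.induction_on with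
      | _ b =>
        intro hab
        have h1 : (a : G) * x * (a : G)⁻¹ = b * y * (b : G)⁻¹ := congrArg Subtype.val hab
        have hxy : x = y := by
          have h2 : ∀ (c : N) (z : G), (QuotientGroup.mk' N) ((c : G) * z * (c : G)⁻¹) = QuotientGroup.mk' N z := by
            intro c z
            have hc1 : (QuotientGroup.mk' N) (c : G) = 1 := (QuotientGroup.eq_one_iff _).2 c.2
            rw [map_mul, map_mul, map_inv, hc1]; simp
          have h3 := congrArg (QuotientGroup.mk' N) h1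
          rw [h2, h2] at h3
          have h4 : (x : G)⁻¹ * y ∈ N ⊓ Q := Subgroup.mem_inf.2 ⟨QuotientGroup.eq.1 h3, mul_mem (inv_mem x.2) y.2⟩
          rw [hNP.disjoint.eq_bot, Subgroup.mem_bot, inv_mul_eq_one] at h4
          exact Subtype.ext h4
        subst hxy
        rw [QuotientGroup.eq.2 ((hCmem x a b).1 h1)]
  · rintro ⟨g, i, hi⟩
    obtain ⟨S, hS⟩ := (IsPGroup.of_card (p := p) ((Nat.card_zpowers g).trans hi)).exists_le_sylow
    obtain ⟨h, hh⟩ := MulAction.exists_smul_eq G P S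
    obtain ⟨⟨n, q⟩, hnq⟩ := hNP.2 h
    simp only at hnq
    have hg := hS (Subgroup.mem_zpowers g)
    rw [← hh, Cfsg.Lib.Transfer.sylow_smul_coe] at hg
    obtain ⟨x, hx, rfl⟩ := hg
    refine ⟨⟨⟨(q : G) * x * (q : G)⁻¹, mul_mem (mul_mem q.2 hx) (inv_mem q.2)⟩, ((⟨n, n.2⟩ : N) : N ⧸ _)⟩, Subtype.ext ?_⟩
    show (n : G) * ((q : G) * x * (q : G)⁻¹) * (n : G)⁻¹ = h * x * h⁻¹
    rw [← hnq]; group

end Cfsg.Agent.S4093
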