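import Cfsg.Statements.S4097
import Cfsg.Agent.Frobenius.Kernel
-- import your own Cfsg.Agent.* helpers here

set_option autoImplicit false
open Cfsg

namespace Cfsg.Agent.S4097

set_option linter.style.haveILetI false

open scoped Pointwise

universe u

theorem isSolvable_of_normal_of_map {G : Type u} [Group G] (N S : Subgroup G) [N.Normal]
    (hN : Group.IsSolvable N) (hq : Group.IsSolvable (S.map (QuotientGroup.mk' N))) :
    Group.IsSolvable S := by
  haveI := hN
  haveI := hq
  let f : S →* (S.map (QuotientGroup.mk' N) : Subgroup (G ⧸ N)) := (QuotientGroup.mk' N).subgroupMap S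
  haveI : Group.IsSolvable (N.subgroupOf S) :=
    Group.isSolvable_of_isSolvable_injective
      (f := (⟨⟨fun x => ⟨x.1.1, x.2⟩, rfl⟩, fun _ _ => rfl⟩ : N.subgroupOf S →* N))
      (fun a b h => Subtype.ext (Subtype.ext (congrArg Subtype.val h :)))
  refine Group.isSolvable_of_ker_le_range (N.subgroupOf S).subtype f fun x hx => ?_
  rw [Subgroup.range_subtype, Subgroup.mem_subgroupOf]
  exact (QuotientGroup.eq_one_iff _).mp (congrArg Subtype.val (MonoidHom.mem_ker.mp hx))

theorem main : ∀ (n : ℕ) (G : Type u) [Group G] [Finite G], Nat.card G = n → ∀ A : Subgroup G,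
    Group.IsSolvable A →
    (∀ S : Subgroup G, A ≤ S → Group.IsSolvable S → ∀ a ∈ A, ∀ s ∈ S, a * s = s * a) →
    A ≤ Subgroup.center G := by
  intro n
  induction n using Nat.strong_induction_on with
  | _ n ih =>
  intro G _ _ hn A hA hc
  subst hn
  by_contra hAZ
  set M := Subgroup.centralizer (A : Set G) with hM
  have hAM : A ≤ M := fun a ha b hb => hc A le_rfl hA b hb a ha
  have hMtop : M ≠ ⊤ := fun h => hAZ fun a ha => Subgroup.mem_center_iff.mpr fun g =>
    ((show g ∈ M by rw [h]; trivial) a ha).symm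
  have hsub : ∀ S : Subgroup G, A ≤ S → S ≠ ⊤ → S ≤ M := by
    intro S hAS hS
    haveI := hA
    have hlt : Nat.card S < Nat.card G := lt_of_le_of_ne (Subgroup.card_le_card_group S)
      fun h => hS (Subgroup.eq_top_of_card_eq S h)
    have hA' : Group.IsSolvable (A.subgroupOf S) :=
      Group.isSolvable_of_surjective (f := (Subgroup.subgroupOfEquivOfLe hAS).symm.toMonoidHom)
        (MulEquiv.surjective _)
    have h := ih _ hlt S rfl (A.subgroupOf S) hA' fun T hT hTs a ha t ht => by
      haveI := hTs
      have hT' : Group.IsSolvable (T.map S.subtype) :=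
        Group.isSolvable_of_surjective (f := S.subtype.subgroupMap T) (S.subtype.subgroupMap_surjective T)
      have hle : A ≤ T.map S.subtype := fun x hx => ⟨⟨x, hAS hx⟩, hT hx, rfl⟩
      exact Subtype.ext (hc _ hle hT' a.1 ha t.1 ⟨t, ht, rfl⟩)
    intro s hs a ha
    exact (congrArg Subtype.val
      (Subgroup.mem_center_iff.mp (h (show (⟨a, hAS ha⟩ : S) ∈ A.subgroupOf S from ha)) ⟨s, hs⟩)).symm
  have hco : IsCoatom M := ⟨hMtop, fun S hMS => by_contra fun hS =>
    absurd (hsub S (hAM.trans hMS.le) hS) hMS.not_ge⟩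
  have hMn : ¬ M.Normal := by
    intro hn
    obtain ⟨x, -, hx⟩ := SetLike.exists_of_lt (lt_top_iff_ne_top.mpr hMtop)
    set Z := M ⊓ Subgroup.centralizer (M : Set G) with hZ
    haveI := hn
    haveI : Z.Normal := by rw [hZ]; infer_instance
    have hAleZ : A ≤ Z := fun a ha => ⟨hAM ha, fun m hm => (hm a ha).symm⟩
    have hZs : Group.IsSolvable Z := Group.isSolvable_of_comm fun a b =>
      Subtype.ext (b.2.2 a.1 a.2.1)
    set S := Z ⊔ Subgroup.zpowers x with hS
    have hSs : Group.IsSolvable S := by
      refine isSolvable_of_normal_of_map Z S hZs ?_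
      rw [hS, Subgroup.map_sup, MonoidHom.map_zpowers, QuotientGroup.map_mk'_self, bot_sup_eq]
      exact Group.isSolvable_of_comm fun a b => Subtype.ext (by
        obtain ⟨i, hi⟩ := Subgroup.mem_zpowers_iff.mp a.2
        obtain ⟨j, hj⟩ := Subgroup.mem_zpowers_iff.mp b.2
        rw [Subgroup.coe_mul, Subgroup.coe_mul, ← hi, ← hj, ← zpow_add, ← zpow_add, add_comm])
    exact hx fun a ha => hc S (hAleZ.trans le_sup_left) hSs a ha x
      (le_sup_right (a := Z) (Subgroup.mem_zpowers x))
  have hNM : Subgroup.normalizer (M : Set G) = M := by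
    rcases (Subgroup.le_normalizer (H := M)).eq_or_lt with h | h
    · exact h.symm
    · exact absurd (Subgroup.normalizer_eq_top_iff.mp (hco.2 _ h)) hMn
  have hinter : ∀ g : G, g ∉ M → ∀ d ∈ M, g⁻¹ * d * g ∈ M → d ∈ Subgroup.center G := by
    intro g hg d hd hd'
    set Ag := A.map (MulAut.conj g).toMonoidHom with hAg
    have htop : A ⊔ Ag = ⊤ := by
      by_contra hne
      have h1 : Ag ≤ M := le_sup_right.trans (hsub _ le_sup_left hne)
      have h2 : M ≤ M.map (MulAut.conj g).toMonoidHom := by
        intro m hm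
        have h3 : A ≤ M.comap (MulAut.conj g).toMonoidHom := fun a ha =>
          h1 ⟨a, ha, rfl⟩
        have h4 : M.comap (MulAut.conj g).toMonoidHom ≠ ⊤ := fun h => hMtop (by
          rw [← Subgroup.map_comap_eq_self_of_surjective (f := (MulAut.conj g).toMonoidHom)
            (MulAut.conj g).surjective M, h, Subgroup.map_top_of_surjective _ (MulAut.conj g).surjective])
        refine ⟨g⁻¹ * m * g, hsub _ h3 h4 ?_, ?_⟩
        · simpa [mul_assoc] using hm
        · simp [mul_assoc]
      have h5 := Subgroup.eq_of_le_of_card_ge h2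
        (by rw [Subgroup.card_map_of_injective (MulAut.conj g).injective])
      refine hg (hNM ▸ ?_)
      rw [Subgroup.mem_normalizer_iff]
      intro m
      constructor
      · intro hm
        rw [h5]; exact ⟨m, hm, by simp⟩
      · intro hm
        rw [h5] at hm
        obtain ⟨y, hy, hye⟩ := hm
        simp at hye
        exact hye ▸ hy
    rw [Subgroup.mem_center_iff]
    intro x
    have hle : A ⊔ Ag ≤ Subgroup.centralizer ({d} : Set G) := by
      refine sup_le (fun a ha => ?_) ?_
      · rw [Subgroup.mem_centralizer_singleton_iff]; exact hd a ha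
      · rintro _ ⟨a, ha, rfl⟩
        rw [Subgroup.mem_centralizer_singleton_iff]
        have h := hd' a ha
        have h' := congrArg (fun z => g * z * g⁻¹) h
        simpa [mul_assoc] using h'
    exact Subgroup.mem_centralizer_singleton_iff.mp (hle (htop ▸ Subgroup.mem_top x))
  set Z := Subgroup.center G with hZdef
  have hZM : Z ≤ M := fun z hz a _ => Subgroup.mem_center_iff.mp hz a
  set q := QuotientGroup.mk' Z with hq
  have hqs : Function.Surjective q := QuotientGroup.mk'_surjective Z
  have hker : q.ker = Z := QuotientGroup.ker_mk' Z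
  have hcomap : (M.map q).comap q = M := by rw [Subgroup.comap_map_eq, hker, sup_eq_left.mpr hZM]
  have hHb : Cfsg.IsFrobeniusComplement (M.map q) := by
    refine ⟨fun h => hAZ fun a ha => ?_, fun h => hMtop ?_, fun x hx => ?_⟩
    · rw [Subgroup.map_eq_bot_iff, hker] at h
      exact h (hAM ha)
    · rw [← hcomap, h, Subgroup.comap_top]
    · obtain ⟨g, rfl⟩ := hqs x
      have hg : g ∉ M := fun h => hx ⟨g, h, rfl⟩
      rw [Subgroup.eq_bot_iff_forall]
      rintro y ⟨⟨d, hd, rfl⟩, hy⟩
      replace hy := Subgroup.mem_pointwise_smul_iff_inv_smul_mem.mp hy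
      have hy' : g⁻¹ * d * g ∈ M := by
        rw [← hcomap, Subgroup.mem_comap, map_mul, map_mul, map_inv]
        simpa [MulAut.smul_def] using hy
      rw [← MonoidHom.mem_ker, hker]
      exact hinter g hg d hd hy'
  obtain ⟨K, hKset, hKn, hKc⟩ := Cfsg.Lib.Frobenius.exists_kernel hHb
  haveI := hKn
  have hKnil := Cfsg.Lib.Frobenius.isNilpotent_kernel hHb hKset
  set Kp := K.comap q with hKp
  have hZK : Z ≤ Kp := fun z hz => by
    rw [hKp, Subgroup.mem_comap, MonoidHom.mem_ker.mp (hker.symm ▸ hz : z ∈ q.ker)]; exact one_mem K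
  have hKps : Group.IsSolvable Kp := by
    haveI := hKnil
    refine isSolvable_of_normal_of_map Z Kp
      (Group.isSolvable_of_comm fun a b => Subtype.ext (Subgroup.mem_center_iff.mp b.2 a.1)) ?_
    rw [hKp, Subgroup.map_comap_eq_self_of_surjective hqs]
    infer_instance
  have hSs : Group.IsSolvable (Kp ⊔ A : Subgroup G) := by
    refine isSolvable_of_normal_of_map Kp _ hKps ?_
    haveI := hA
    rw [Subgroup.map_sup, QuotientGroup.map_mk'_self, bot_sup_eq]
    exact Group.isSolvable_of_surjective (f := (QuotientGroup.mk' Kp).subgroupMap A)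
      ((QuotientGroup.mk' Kp).subgroupMap_surjective A)
  have hKM : Kp ≤ M := fun k hk a ha => hc _ le_sup_right hSs a ha k (le_sup_left (b := A) hk)
  have hKle : K ≤ M.map q := by
    rw [← Subgroup.map_comap_eq_self_of_surjective hqs K]
    exact Subgroup.map_mono hKM
  have hK0 : K = ⊥ := le_bot_iff.mp ((le_inf le_rfl hKle).trans hKc.disjoint.le_bot)
  apply hHb.2.1
  have h := hKc.sup_eq_top
  rwa [hK0, bot_sup_eq] at h

/-- Let A be a solvable subgroup of a finite group G such that A lies in the centre of every solvable subgroup of G containing A. Then A lies in the centre of G. -/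
theorem result {G : Type*} [Group G] [Finite G]
    (A : Subgroup G) (hA : Group.IsSolvable A)
    (hc : ∀ S : Subgroup G, A ≤ S → Group.IsSolvable S → ∀ a ∈ A, ∀ s ∈ S, a * s = s * a) : A ≤ Subgroup.center G := by
  exact main _ G rfl A hA hc

end Cfsg.Agent.S4097
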