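import Cfsg.Statements.S4100
import Cfsg.Agent.AltSection.Main
import Cfsg.Agent.AltSection.Two.Main
import Cfsg.Agent.AltSection.Five.Main

set_option autoImplicit false
open Cfsg

namespace Cfsg.Agent.S4100

/-- Let G be a finite group and p a prime other than 3 such that the centralizer of every non-central element of p-power order is solvable. Then every alternating group of degree at least 5 involved in G (as a section) has degree at most p + 4, or at most p + 6 = 8 when p = 2. -/
theorem result {G : Type*} [Group G] [Finite G] (p : ℕ) [Fact p.Prime] (hp3 : p ≠ 3)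
    (h : ∀ x : G, x ∉ Subgroup.center G → (∃ k : ℕ, orderOf x = p ^ k) → Group.IsSolvable (Subgroup.centralizer ({x} : Set G)))
    (d : ℕ) (hd : 5 ≤ d) (hinv : Cfsg.Involves (alternatingGroup (Fin d)) G) :
    d ≤ p + 4 + (if p = 2 then 2 else 0) := by
  by_contra hcon
  by_cases h2 : p = 2
  · subst h2
    simp only [if_true] at hcon
    refine Cfsg.Lib.AltSection.false_of_module 2 h (q := 4) (n := 9) rfl (by omega) ?_ hinv
      (Or.inr fun W _ _ _ ρ hc hnf => Cfsg.Lib.AltSection.Two.false_of_noFix ρ hc hnf)
    rw [nat_card_alternatingGroup, Nat.card_fin]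
    decide
  rw [if_neg h2, add_zero] at hcon
  have hp := (Fact.out : p.Prime)
  by_cases h5 : p = 5
  · subst h5
    refine Cfsg.Lib.AltSection.false_of_module 5 h (q := 5) (n := 10) rfl (by omega) ?_ hinv
      (Or.inr fun W _ _ _ ρ hc hnf => Cfsg.Lib.AltSection.Five.false_of_noFix ρ hc hnf)
    rw [nat_card_alternatingGroup, Nat.card_fin]
    decide
  have hp7 : 7 ≤ p := by
    have := hp.two_le
    by_contra hlt
    interval_cases p <;> first | omega | exact absurd hp (by decide)
  haveI : Nontrivial (Fin p) := Fin.nontrivial_iff_two_le.2 (by omega)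
  refine Cfsg.Lib.AltSection.false_of_module p h (q := p) (n := p + 5) rfl (by omega) ?_ hinv (Or.inl ?_)
  · have hf : p ∣ p.factorial := Nat.dvd_factorial hp.pos le_rfl
    have h2' := two_mul_nat_card_alternatingGroup (α := Fin p)
    rw [Nat.card_perm, Nat.card_fin] at h2'
    rw [← h2'] at hf
    exact (hp.dvd_mul.1 hf).resolve_left fun hd => by have := Nat.le_of_dvd (by norm_num) hd; omega
  · intro hd
    have h60 : (60 : ℕ) = 2 * 2 * 3 * 5 := rfl
    rw [h60, hp.dvd_mul, hp.dvd_mul, hp.dvd_mul, Nat.prime_dvd_prime_iff_eq hp Nat.prime_two,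
      Nat.prime_dvd_prime_iff_eq hp Nat.prime_three,
      Nat.prime_dvd_prime_iff_eq hp (by norm_num : Nat.Prime 5)] at hd
    omega

end Cfsg.Agent.S4100
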