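import Cfsg.Statements.S4105
import Cfsg.Agent.ManyPiClasses.Statement

set_option autoImplicit false
open Cfsg

namespace Cfsg.Agent.S4105

/-- Let G be a finite group, π a set of primes with least member p, m the π-part of the order of G and k the number of conjugacy classes of G consisting of π-elements. If k > m·(p² + p − 1)/p³, then G has an abelian Hall π-subgroup (an abelian subgroup of order m). -/
theorem result {G : Type*} [Group G] [Finite G]
    (π : Set ℕ) (hπ : ∀ q ∈ π, q.Prime) (p : ℕ) (hp : p ∈ π) (hmin : ∀ q ∈ π, p ≤ q)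
    (m : ℕ) (hm : m ∣ Nat.card G) (hmπ : ∀ q : ℕ, q.Prime → q ∣ m → q ∈ π)
    (hm' : ∀ q ∈ π, ¬ q ∣ Nat.card G / m)
    (k : ℕ) (hk : k = Nat.card {C : ConjClasses G // ∀ q : ℕ, q.Prime → (∃ g : G, ConjClasses.mk g = C ∧ q ∣ orderOf g) → q ∈ π})
    (hmany : m * (p ^ 2 + p - 1) < p ^ 3 * k) :
    ∃ H : Subgroup G, Nat.card H = m ∧ IsMulCommutative H := by
  obtain ⟨s, hs, hps, hsmin, hsm, hsk⟩ :=
    Cfsg.Lib.ManyPiClasses.exists_finset π hπ p hp hmin m hm hmπ hm'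
  rw [← hsm, hk, ← hsk] at hmany
  haveI : Fact p.Prime := ⟨hπ p hp⟩
  have hp1 : 1 ≤ p := (hπ p hp).pos
  have hlt : Cfsg.Lib.ClassCount.piPart s G < p * Cfsg.Lib.ClassCount.kpi s G := by
    refine Nat.lt_of_mul_lt_mul_left (a := p ^ 2) ?_
    calc p ^ 2 * Cfsg.Lib.ClassCount.piPart s G ≤ Cfsg.Lib.ClassCount.piPart s G * (p ^ 2 + p - 1) := by
          rw [mul_comm]; exact Nat.mul_le_mul_left _ (by omega)
      _ < _ := hmany
      _ = _ := by ring
  obtain ⟨H, hHc, -, -, hHab⟩ := Cfsg.Lib.ManyPiClasses.exists_hall hs hps hsmin hlt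
  exact ⟨H, hHc.trans hsm, hHab (Cfsg.Lib.ManyPiClasses.abelian_of_more hs hps hmany)⟩

end Cfsg.Agent.S4105
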