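import Cfsg.Statements.S4106
import Cfsg.Agent.SolvStruct.ConjPi

set_option autoImplicit false
open Cfsg

namespace Cfsg.Agent.S4106

/-- Let G be a finite group, π a set of primes and m the π-part of the order of G. Then the number of conjugacy classes of G consisting of π-elements (elements whose order is divisible only by primes in π) is at most m. -/
theorem result {G : Type*} [Group G] [Finite G]
    (π : Set ℕ) (hπ : ∀ q ∈ π, q.Prime)
    (m : ℕ) (hm : m ∣ Nat.card G) (hmπ : ∀ q : ℕ, q.Prime → q ∣ m → q ∈ π)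
    (hm' : ∀ q ∈ π, ¬ q ∣ Nat.card G / m) :
    Nat.card {C : ConjClasses G // ∀ q : ℕ, q.Prime → (∃ g : G, ConjClasses.mk g = C ∧ q ∣ orderOf g) → q ∈ π} ≤ m := by
  classical
  have hm0 : m ≠ 0 := fun h => Nat.card_pos.ne' (zero_dvd_iff.1 (h ▸ hm))
  set s := (Nat.card G).primeFactors.filter (fun q => q ∈ π)
  refine le_trans (le_of_eq (Nat.card_congr (Equiv.subtypeEquivRight fun C => ?_)))
    ((Cfsg.Lib.SolvStruct.card_piClasses_le_prod s).trans (Nat.le_of_dvd (Nat.pos_of_ne_zero hm0) ?_))
  · refine forall_congr' fun q => imp_congr_right fun hq => imp_congr_right fun hex => ?_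
    obtain ⟨g, -, hd⟩ := hex
    have hqG : q ∣ Nat.card G := hd.trans (_root_.orderOf_dvd_natCard g)
    simp [s, Nat.mem_primeFactors, hq, hqG, Nat.card_pos.ne']
  · refine Finset.prod_dvd_of_isRelPrime ?_ fun q hq => ?_
    · intro a ha b hb hab
      have ha' := Nat.prime_of_mem_primeFactors (Finset.mem_filter.1 ha).1
      have hb' := Nat.prime_of_mem_primeFactors (Finset.mem_filter.1 hb).1
      exact Nat.coprime_iff_isRelPrime.1 (((Nat.coprime_primes ha' hb').2 hab).pow _ _)
    · have hq' := Finset.mem_filter.1 hq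
      have hqp := Nat.prime_of_mem_primeFactors hq'.1
      refine ((Nat.Prime.coprime_iff_not_dvd hqp).2 (hm' q hq'.2)).pow_left _ |>.dvd_of_dvd_mul_right ?_
      rw [Nat.mul_div_cancel' hm]
      exact Nat.ordProj_dvd _ _

end Cfsg.Agent.S4106
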