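import Cfsg.Statements.S4112
import Cfsg.Agent.Transfer.Basic

set_option autoImplicit false
open Cfsg

namespace Cfsg.Agent.S4112

/-- Let G be a finite group and M ≤ N non-trivial proper normal subgroups such that for every g outside N the conjugacy class of g is a union of cosets of M (equivalently gm is conjugate to g for every m ∈ M). Then (1) and (2) below are equivalent, and they imply (3): (1) every g outside N acts fixed-point-freely on M, that is C_G(x) ≤ N for every x ∈ M, x ≠ 1; (2) the index of N in G is coprime to the order of M; (3) there is a subgroup H of G with HN = G and H ∩ M = 1. -/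
theorem result {G : Type*} [Group G] [Finite G] (N M : Subgroup G) [N.Normal] [M.Normal] (hMN : M ≤ N) (hM1 : M ≠ ⊥) (hN2 : N ≠ ⊤)
    (hcam : ∀ g : G, g ∉ N → ∀ m ∈ M, ∃ x : G, x * g * x⁻¹ = g * m) :
    ((∀ x ∈ M, x ≠ 1 → Subgroup.centralizer ({x} : Set G) ≤ N) ↔ N.index.Coprime (Nat.card M)) ∧
    ((∀ x ∈ M, x ≠ 1 → Subgroup.centralizer ({x} : Set G) ≤ N) → ∃ H : Subgroup G, H ⊔ N = ⊤ ∧ H ⊓ M = ⊥) := by
  have h12 : (∀ x ∈ M, x ≠ 1 → Subgroup.centralizer ({x} : Set G) ≤ N) → N.index.Coprime (Nat.card M) := by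
    intro h
    refine Nat.coprime_of_dvd fun q hq hqi hqM => ?_
    haveI := Fact.mk hq
    obtain ⟨S⟩ : Nonempty (Sylow q G) := inferInstance
    haveI hnt : Nontrivial (S : Subgroup G) :=
      (Subgroup.nontrivial_iff_ne_bot _).2 (S.ne_bot_of_dvd_card (hqM.trans (Subgroup.card_subgroup_dvd_card M)))
    obtain ⟨m, hm⟩ := exists_prime_orderOf_dvd_card' q hqM
    obtain ⟨T, hT⟩ := (IsPGroup.of_card (p := q) (n := 1)
      (by rw [Nat.card_zpowers, Subgroup.orderOf_coe, hm, pow_one] : Nat.card (Subgroup.zpowers (m : G)) = q ^ 1)).exists_le_sylow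
    set A : Subgroup T := M.subgroupOf T
    have hAd : q ∣ Nat.card A := by
      rcases (T.2.to_subgroup A).card_eq_or_dvd with h1 | h1
      · exfalso
        have h2 : (⟨(m : G), hT (Subgroup.mem_zpowers _)⟩ : T) ∈ A := m.2
        rw [Subgroup.card_eq_one.1 h1, Subgroup.mem_bot] at h2
        have h3 : (m : G) = 1 := congrArg Subtype.val h2
        rw [← Subgroup.orderOf_coe, h3, orderOf_one] at hm
        exact hq.ne_one hm.symm
      · exact h1
    have hfix : (1 : A) ∈ MulAction.fixedPoints (ConjAct T) A := fun g => smul_one g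
    obtain ⟨z, hz, hz1⟩ := (show IsPGroup q (ConjAct T) from T.2).exists_fixed_point_of_prime_dvd_card_of_fixed_point A hAd hfix
    have hTC : (T : Subgroup G) ≤ Subgroup.centralizer ({((z : T) : G)} : Set G) := by
      intro t ht
      have h1 := congrArg Subtype.val (hz (ConjAct.toConjAct (⟨t, ht⟩ : T)))
      rw [ConjAct.Subgroup.val_conj_smul, ConjAct.smul_def, ConjAct.ofConjAct_toConjAct] at h1
      exact Subgroup.mem_centralizer_singleton_iff.2 (mul_inv_eq_iff_eq_mul.1 (congrArg Subtype.val h1))
    exact T.not_dvd_index (hqi.trans (Subgroup.index_dvd_of_le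
      (hTC.trans (h _ z.2 fun he => hz1 (Subtype.ext (Subtype.ext he.symm))))))
  have h21 : N.index.Coprime (Nat.card M) → ∀ x ∈ M, x ≠ 1 → Subgroup.centralizer ({x} : Set G) ≤ N := by
    intro hc x hx hx1 g hg
    by_contra hgN
    -- some prime-power part of `g` lies outside `N`
    obtain ⟨y, hyg, hyN, r, hr, i, hi⟩ : ∃ y, y ∈ Subgroup.zpowers g ∧ y ∉ N ∧ ∃ r, r.Prime ∧ ∃ i, orderOf y = r ^ i := by
      by_contra hall
      push Not at hall
      have hmain : ∀ n : ℕ, ∀ z ∈ Subgroup.zpowers g, orderOf z = n → z ∈ N := by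
        intro n
        induction n using Nat.strong_induction_on with
        | _ n ih =>
          intro z hz hzn
          rcases eq_or_ne z 1 with rfl | hz1
          · exact one_mem _
          have hn1 : n ≠ 1 := hzn ▸ fun he => hz1 (orderOf_eq_one_iff.1 he)
          obtain ⟨q, hq, hqn⟩ := Nat.exists_prime_and_dvd hn1
          haveI := Fact.mk hq
          obtain ⟨a, b, ha, hb, hab, ⟨i, hi⟩, hbq⟩ := Cfsg.Lib.Transfer.exists_pPart q z
          rw [← hab]
          refine mul_mem ?_ (ih (orderOf b) ?_ b ((Subgroup.zpowers_le.2 hz) hb) rfl)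
          · by_contra haN
            exact hall a ((Subgroup.zpowers_le.2 hz) ha) haN q hq i hi
          · have hdvd : orderOf b ∣ n := hzn ▸ orderOf_dvd_of_mem_zpowers hb
            refine lt_of_le_of_ne (Nat.le_of_dvd (hzn ▸ orderOf_pos z) hdvd) fun he => ?_
            exact hq.coprime_iff_not_dvd.1 hbq.symm (he ▸ hqn)
      exact hgN (hmain _ g (Subgroup.mem_zpowers g) rfl)
    have hcomm : Commute y x := by
      obtain ⟨j, rfl⟩ := hyg
      exact (show Commute g x from Subgroup.mem_centralizer_singleton_iff.1 hg).zpow_left j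
    have hri : r ∣ N.index := by
      have h1 := orderOf_map_dvd (QuotientGroup.mk' N) y
      rw [hi] at h1
      obtain ⟨j, -, hj⟩ := (Nat.dvd_prime_pow hr).1 h1
      rcases Nat.eq_zero_or_pos j with rfl | hj0
      · rw [pow_zero, orderOf_eq_one_iff] at hj
        exact absurd ((QuotientGroup.eq_one_iff y).1 hj) hyN
      · rw [N.index_eq_card]
        exact (hj ▸ dvd_pow_self r hj0.ne').trans (_root_.orderOf_dvd_natCard _)
    have hcop : (orderOf y).Coprime (orderOf x) := by
      rw [hi]
      refine Nat.Coprime.pow_left i (Nat.Coprime.coprime_dvd_left hri (hc.coprime_dvd_right ?_))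
      rw [← Subgroup.orderOf_mk x hx]
      exact _root_.orderOf_dvd_natCard _
    obtain ⟨u, hu⟩ := hcam y hyN x hx
    have h2 : orderOf (u * y * u⁻¹) = orderOf y := by rw [← MulAut.conj_apply, MulEquiv.orderOf_eq]
    rw [hu, hcomm.orderOf_mul_eq_mul_orderOf_of_coprime hcop] at h2
    exact hx1 (orderOf_eq_one_iff.1 ((Nat.mul_eq_left (orderOf_pos y).ne').1 h2))
  refine ⟨⟨h12, h21⟩, fun h => ?_⟩
  have hcop := h12 h
  obtain ⟨H, hH, hmin⟩ := WellFounded.has_min
    (IsWellFounded.wf (r := ((· < ·) : Subgroup G → Subgroup G → Prop))) {H | H ⊔ N = ⊤} ⟨⊤, top_sup_eq N⟩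
  refine ⟨H, hH, ?_⟩
  have hHN : N.subgroupOf H ≤ frattini H := by
    show _ ≤ Order.radical _
    simp only [Order.radical, le_iInf_iff]
    intro K hK
    by_contra hle
    have htop : K ⊔ N.subgroupOf H = ⊤ := hK.2 _ (lt_of_le_of_ne le_sup_left fun he => hle (he ▸ le_sup_right))
    have hlt : K.map H.subtype < H := lt_of_le_of_ne (Subgroup.map_subtype_le K) fun he => hK.1 (by
      rw [eq_top_iff, ← Subgroup.map_le_map_iff_of_injective H.subtype_injective, he, ← MonoidHom.range_eq_map, Subgroup.range_subtype])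
    refine hmin _ ?_ hlt
    show K.map H.subtype ⊔ N = ⊤
    rw [eq_top_iff, ← (hH : H ⊔ N = ⊤)]
    refine sup_le (fun x hx => ?_) le_sup_right
    obtain ⟨a, ha, b, hb, hab⟩ := Subgroup.mem_sup_of_normal_right.1 (htop.ge (Subgroup.mem_top (⟨x, hx⟩ : H)))
    rw [show x = (a : G) * b from (congrArg Subtype.val hab).symm]
    exact Subgroup.mul_mem_sup ⟨a, ha, rfl⟩ hb
  have hdvd : (frattini H).index ∣ N.index := by
    refine (Subgroup.index_dvd_of_le hHN).trans ?_
    exact Subgroup.relIndex_dvd_index_of_normal N H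
  have hprimes : ∀ q : ℕ, q.Prime → q ∣ Nat.card H → q ∣ (frattini H).index := by
    intro q hq hqH
    by_contra hnd
    haveI := Fact.mk hq
    obtain ⟨R⟩ : Nonempty (Sylow q (frattini H)) := inferInstance
    have hidx : ¬ q ∣ ((R : Subgroup (frattini H)).map (frattini H).subtype).index := by
      rw [Subgroup.index_map_subtype]
      exact hq.not_dvd_mul R.not_dvd_index hnd
    haveI : Group.IsNilpotent (frattini H) := frattini_nilpotent
    have htfae := (Group.isNilpotent_of_finite_tfae (G := frattini H)).out 0 3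
    haveI : (R : Subgroup (frattini H)).Normal := htfae.1 inferInstance q ‹_› R
    haveI : (R : Subgroup (frattini H)).Characteristic := R.characteristic_of_normal inferInstance
    set S := (R : Subgroup (frattini H)).map (frattini H).subtype with hSdef
    haveI : S.Normal := ConjAct.normal_of_characteristic_of_normal
    obtain ⟨k, hk⟩ := (R.2.map (frattini H).subtype).exists_card_eq
    have hScop : (Nat.card S).Coprime S.index := by
      rw [show Nat.card S = q ^ k from hk]
      exact Nat.Coprime.pow_left k (hq.coprime_iff_not_dvd.2 hidx)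
    obtain ⟨K, hK⟩ := Subgroup.exists_right_complement'_of_coprime hScop
    have hKtop : K = ⊤ := frattini_nongenerating (eq_top_iff.2 (hK.symm.sup_eq_top.ge.trans (sup_le_sup_left (Subgroup.map_subtype_le _) K)))
    have h5 := hK.card_mul
    rw [hKtop, Subgroup.card_top] at h5
    have h6 : Nat.card S = 1 := (Nat.mul_eq_right Nat.card_pos.ne').1 h5
    have h7 := S.card_mul_index
    rw [h6, one_mul] at h7
    exact hidx (h7 ▸ hqH)
  have hcopH : (Nat.card H).Coprime (Nat.card M) := Nat.coprime_of_dvd fun q hq hqH hqM =>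
    hq.ne_one (Nat.eq_one_of_dvd_coprimes hcop ((hprimes q hq hqH).trans hdvd) hqM)
  exact Subgroup.inf_eq_bot_of_coprime hcopH

end Cfsg.Agent.S4112
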