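import Cfsg.Statements.S4113
import Cfsg.Agent.SolvStruct.Basics

set_option autoImplicit false
open Cfsg

namespace Cfsg.Agent.S4113

/-- Let G be a finite group, M ≤ N non-trivial proper normal subgroups, and H a subgroup with HM = G and H ∩ M = 1. Then every element of G outside N acts fixed-point-freely on M (C_G(x) ≤ N for every x ∈ M, x ≠ 1) if and only if H ∩ gHg⁻¹ ≤ H ∩ N for every g outside H, with H proper and non-trivial and H ∩ N proper in H. -/
theorem result {G : Type*} [Group G] [Finite G] (N M : Subgroup G) [N.Normal] [M.Normal] (hMN : M ≤ N) (hM1 : M ≠ ⊥) (hN2 : N ≠ ⊤)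
    (H : Subgroup G) (hHM : H ⊔ M = ⊤) (hHM' : H ⊓ M = ⊥) :
    (∀ x ∈ M, x ≠ 1 → Subgroup.centralizer ({x} : Set G) ≤ N) ↔
      (H ≠ ⊥ ∧ H ≠ ⊤ ∧ H ⊓ N < H ∧ ∀ g : G, g ∉ H → H ⊓ H.map (MulAut.conj g).toMonoidHom ≤ N) := by
  classical
  have hdec : ∀ g : G, ∃ h ∈ H, ∃ m ∈ M, g = h * m := fun g => by
    obtain ⟨h, hh, m, hm, e⟩ := Subgroup.mem_sup_of_normal_right.1 (hHM.ge (Subgroup.mem_top g))
    exact ⟨h, hh, m, hm, e.symm⟩
  constructor
  · intro h
    refine ⟨fun he => ?_, fun he => ?_, lt_of_le_of_ne inf_le_left fun he => ?_, fun g hg x hx => ?_⟩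
    · rw [he, bot_sup_eq] at hHM
      exact hN2 (top_le_iff.1 (hHM ▸ hMN))
    · rw [he, top_inf_eq] at hHM'
      exact hM1 hHM'
    · exact hN2 (top_le_iff.1 (hHM ▸ sup_le (inf_eq_left.1 he) hMN))
    · obtain ⟨hxH, y, hy, rfl⟩ := Subgroup.mem_inf.1 hx |>.imp id id
      simp only [MulEquiv.coe_toMonoidHom, MulAut.conj_apply] at hxH ⊢
      obtain ⟨k, hk, m, hm, hkm⟩ := hdec g⁻¹
      have hg' : g = m⁻¹ * k⁻¹ := by rw [← mul_inv_rev, ← hkm, inv_inv]
      have hm1 : m ≠ 1 := fun hm1 => hg (by rw [hg', hm1, inv_one, one_mul]; exact inv_mem hk)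
      set z := k⁻¹ * y * k
      have hz : z ∈ H := mul_mem (mul_mem (inv_mem hk) hy) hk
      have hgy : g * y * g⁻¹ = m⁻¹ * z * m := by rw [hg']; simp only [z]; group
      rw [hgy] at hxH ⊢
      have h1 : z⁻¹ * (m⁻¹ * z * m) ∈ H ⊓ M := Subgroup.mem_inf.2 ⟨mul_mem (inv_mem hz) hxH, by
        rw [show z⁻¹ * (m⁻¹ * z * m) = (z⁻¹ * m⁻¹ * (z⁻¹)⁻¹) * m by group]
        exact mul_mem (Subgroup.Normal.conj_mem inferInstance _ (inv_mem hm) _) hm⟩
      rw [hHM', Subgroup.mem_bot, inv_mul_eq_one] at h1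
      have hzC : z ∈ Subgroup.centralizer ({m} : Set G) := Subgroup.mem_centralizer_singleton_iff.2 (by
        calc z * m = m * (m⁻¹ * z * m) := by group
          _ = m * z := by rw [← h1])
      rw [← h1]
      exact h m hm hm1 hzC
  · rintro ⟨-, -, -, h4⟩ x hx hx1 g hg
    by_contra hgN
    obtain ⟨k, hk, m, hm, rfl⟩ := hdec g
    have hkN : k ∉ N := fun hk' => hgN (mul_mem hk' (hMN hm))
    have hfpf : ∀ y ∈ M, k * y = y * k → y = 1 := by
      intro y hy hky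
      by_contra hy1
      have hyH : y ∉ H := fun hh => hy1 (by
        have := Subgroup.mem_inf.2 ⟨hh, hy⟩
        rwa [hHM', Subgroup.mem_bot] at this)
      exact hkN (h4 y hyH (Subgroup.mem_inf.2 ⟨hk, k, hk, by
        show y * k * y⁻¹ = k
        rw [← hky, mul_inv_cancel_right]⟩))
    have hbij : Function.Bijective (fun y : M => (⟨k⁻¹ * ((y : G) * k * (y : G)⁻¹), by
        rw [show k⁻¹ * ((y : G) * k * (y : G)⁻¹) = (k⁻¹ * y * (k⁻¹)⁻¹) * (y : G)⁻¹ by group]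
        exact mul_mem (Subgroup.Normal.conj_mem inferInstance _ y.2 _) (inv_mem y.2)⟩ : M)) := by
      refine Finite.injective_iff_bijective.1 fun a b hab => ?_
      have h1 := mul_left_cancel (congrArg Subtype.val hab)
      refine Subtype.ext (inv_mul_eq_one.1 (hfpf _ (mul_mem (inv_mem a.2) b.2) ?_))
      calc k * ((a : G)⁻¹ * b) = (a : G)⁻¹ * ((a : G) * k * (a : G)⁻¹) * b := by group
        _ = (a : G)⁻¹ * ((b : G) * k * (b : G)⁻¹) * b := by rw [h1]
        _ = (a : G)⁻¹ * b * k := by group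
    obtain ⟨y, hy⟩ := hbij.2 ⟨m, hm⟩
    have hkm : k * m = (y : G) * k * (y : G)⁻¹ := by
      rw [← show k⁻¹ * ((y : G) * k * (y : G)⁻¹) = m from congrArg Subtype.val hy, mul_inv_cancel_left]
    have hx' : (y : G)⁻¹ * x * y ∈ M := mul_mem (mul_mem (inv_mem y.2) hx) y.2
    have hgx := Subgroup.mem_centralizer_singleton_iff.1 hg
    rw [hkm] at hgx
    have hc : k * ((y : G)⁻¹ * x * y) = (y : G)⁻¹ * x * y * k := by
      calc k * ((y : G)⁻¹ * x * y) = (y : G)⁻¹ * ((y : G) * k * (y : G)⁻¹ * x) * y := by group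
        _ = (y : G)⁻¹ * (x * ((y : G) * k * (y : G)⁻¹)) * y := by rw [hgx]
        _ = _ := by group
    have h5 := hfpf _ hx' hc
    exact hx1 (by rw [show x = (y : G) * ((y : G)⁻¹ * x * y) * (y : G)⁻¹ by group, h5]; group)

end Cfsg.Agent.S4113
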