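import Cfsg.Statements.S4115
import Cfsg.Agent.SolvStruct.TIHallTransfer

set_option autoImplicit false
universe u
open Cfsg
open Cfsg.Lib.SolvStruct.TIHallTransfer


namespace Cfsg.Agent.S4115

/-- Let G be a finite group and H a subgroup that meets each of its conjugates by elements outside N_G(H) trivially and whose order is coprime to its index in N_G(H). Then H has a normal complement in N_G(H) if and only if H has a normal complement in G. Moreover, if H is not normal in G and has a normal complement in N_G(H), then H is isomorphic to a Frobenius complement of some finite Frobenius group. -/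
theorem result {G : Type u} [Group G] [Finite G] (H : Subgroup G)
    (hTI : Cfsg.IsTISubset (H : Set G)) (hHall : (Nat.card H).Coprime (H.subgroupOf (Subgroup.normalizer (H : Set G))).index) :
    ((∃ K : Subgroup (Subgroup.normalizer (H : Set G)), K.Normal ∧ K.IsComplement' (H.subgroupOf (Subgroup.normalizer (H : Set G)))) ↔
      (∃ N : Subgroup G, N.Normal ∧ N.IsComplement' H)) ∧
    (¬ H.Normal → (∃ K : Subgroup (Subgroup.normalizer (H : Set G)), K.Normal ∧ K.IsComplement' (H.subgroupOf (Subgroup.normalizer (H : Set G)))) →
      ∃ (F : Type u) (_ : Group F) (_ : Finite F) (C : Subgroup F), Cfsg.IsFrobeniusComplement C ∧ Nonempty (H ≃* C)) := by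
  have hrel : (Nat.card H).Coprime (H.relIndex (Subgroup.normalizer (H : Set G))) := hHall
  have fwd : (∃ K : Subgroup (Subgroup.normalizer (H : Set G)), K.Normal ∧ K.IsComplement' (H.subgroupOf (Subgroup.normalizer (H : Set G)))) →
      (∃ N : Subgroup G, N.Normal ∧ N.IsComplement' H) := fun ⟨K, hKn, hK⟩ => by
    haveI := hKn
    exact exists_normal_complement hTI hrel hK
  refine ⟨⟨fwd, fun ⟨M, hMn, hM⟩ => by haveI := hMn; exact exists_complement_normalizer hM⟩, fun hn h => ?_⟩
  obtain ⟨M, hMn, hM⟩ := fwd h
  haveI := hMn
  have hcop : (Nat.card M).Coprime (Nat.card H) := by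
    rw [← hM.index_eq_card]
    exact (Cfsg.Lib.SolvStruct.coprime_index_of_ti hTI hrel).symm
  exact exists_frobenius hTI hM hcop hn

end Cfsg.Agent.S4115
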