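import Cfsg.Statements.S4126
import Cfsg.Agent.SolvStruct.FixSmallOrder
import Cfsg.Agent.Transfer.Frobenius
import Cfsg.Agent.Coprime.SolvableBasics

set_option autoImplicit false
open Cfsg

namespace Cfsg.Agent.S4126

open Subgroup
open scoped commutatorElement

/-- Let G be a finite group and p a prime. Suppose every element of order p, and when p = 2 also every element of order 4, has a conjugacy class of p-power size. Then G has a normal p-complement. -/
theorem result {G : Type*} [Group G] [Finite G] (p : ℕ) [Fact p.Prime]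
    (h : ∀ x : G, (orderOf x = p ∨ (p = 2 ∧ orderOf x = 4)) → ∃ a : ℕ, (Subgroup.centralizer ({x} : Set G)).index = p ^ a) :
    Cfsg.HasNormalPComplement p G := by
  have hp : p.Prime := Fact.out
  obtain ⟨P⟩ : Nonempty (Sylow p G) := inferInstance
  have main : ∀ n : ℕ, ∀ x : (P : Subgroup G), x ∈ Subgroup.upperCentralSeries (P : Subgroup G) n →
      (orderOf (x : G) = p ∨ (p = 2 ∧ orderOf (x : G) = 4)) →
      ∀ y : G, (orderOf y).Coprime p → y * x = x * y := by
    intro n
    induction n with
    | zero =>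
      intro x hx _ y _
      rw [Subgroup.upperCentralSeries_zero, mem_bot] at hx
      rw [hx, OneMemClass.coe_one, mul_one, one_mul]
    | succ n ih =>
      intro x hx hord y hy
      obtain ⟨a, ha⟩ := h x hord
      obtain ⟨-, hfact⟩ := Cfsg.Lib.Coprime.inf_index_of_coprime (P : Subgroup G)
        (centralizer ({(x : G)} : Set G)) (by
          rw [ha]
          exact ((hp.coprime_iff_not_dvd.2 P.not_dvd_index).pow_left a).symm)
      set Zn := Subgroup.upperCentralSeries (P : Subgroup G) n with hZn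
      have hconj : ∀ g : G, ∃ z : (P : Subgroup G), z ∈ Zn ∧ g * x * g⁻¹ = (z : G) * x := by
        intro g
        obtain ⟨u, hu, c, hc, rfl⟩ := hfact g
        refine ⟨⁅(⟨u, hu⟩ : (P : Subgroup G)), x⁆, ?_, ?_⟩
        · have h1 := Subgroup.mem_upperCentralSeries_succ_iff.mp hx ⟨u, hu⟩
          rw [← commutatorElement_inv]
          exact inv_mem h1
        · have hcx : c * (x : G) = x * c := mem_centralizer_singleton_iff.1 hc
          show u * c * x * (u * c)⁻¹ = ⁅(u : G), (x : G)⁆ * x
          calc u * c * (x : G) * (u * c)⁻¹ = u * (c * x) * c⁻¹ * u⁻¹ := by group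
            _ = u * (x * c) * c⁻¹ * u⁻¹ := by rw [hcx]
            _ = _ := by rw [commutatorElement_def]; group
      set M := normalClosure (Set.range fun g : G => (x : G)⁻¹ * (g * x * g⁻¹)) with hM
      have hMle : M ≤ Zn.map (P : Subgroup G).subtype := by
        rw [hM, normalClosure, closure_le]
        intro w hw
        obtain ⟨d, ⟨g, rfl⟩, hdw⟩ := Group.mem_conjugatesOfSet_iff.1 hw
        obtain ⟨k, rfl⟩ := isConj_iff.1 hdw
        obtain ⟨z1, hz1, he1⟩ := hconj k
        obtain ⟨z2, hz2, he2⟩ := hconj (k * g)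
        refine ⟨x⁻¹ * (z1⁻¹ * z2) * x, ?_, ?_⟩
        · haveI : Zn.Normal := by rw [hZn]; infer_instance
          simpa using Subgroup.Normal.conj_mem inferInstance _ (mul_mem (inv_mem hz1) hz2) x⁻¹
        · show (x : G)⁻¹ * ((z1 : G)⁻¹ * z2) * x = k * ((x : G)⁻¹ * (g * x * g⁻¹)) * k⁻¹
          calc (x : G)⁻¹ * ((z1 : G)⁻¹ * z2) * x = ((z1 : G) * x)⁻¹ * ((z2 : G) * x) := by group
            _ = (k * x * k⁻¹)⁻¹ * (k * g * x * (k * g)⁻¹) := by rw [he1, he2]
            _ = _ := by group
      have hMp : IsPGroup p M := P.2.to_le (hMle.trans (map_subtype_le _))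
      haveI : M.Normal := normalClosure_normal
      have hcent : zpowers y ≤ centralizer (M : Set G) := by
        refine Cfsg.Lib.SolvStruct.le_centralizer_of_fix_small hMp (by rwa [Nat.card_zpowers])
          le_normalizer_of_normal fun w hw hwo b hb => ?_
        obtain ⟨w', hw', rfl⟩ := hMle hw
        obtain ⟨m, rfl⟩ := mem_zpowers_iff.1 hb
        have hyw : Commute y (w' : G) := ih w' hw' hwo y hy
        exact (hyw.zpow_left m).eq
      set c := (x : G)⁻¹ * (y * x * y⁻¹) with hc
      have hcM : c ∈ M := subset_normalClosure ⟨y, rfl⟩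
      have hyc : Commute y c := (mem_centralizer_iff.1 (hcent (mem_zpowers y)) c hcM).symm
      have hyx : y * (x : G) = x * c * y := by rw [hc]; group
      have hpow : ∀ k : ℕ, y ^ k * x = x * c ^ k * y ^ k := by
        intro k
        induction k with
        | zero => simp
        | succ k ihk =>
          calc y ^ (k + 1) * x = y * (y ^ k * x) := by rw [pow_succ', mul_assoc]
            _ = y * (x * c ^ k * y ^ k) := by rw [ihk]
            _ = (y * x) * c ^ k * y ^ k := by group
            _ = x * c * (y * c ^ k) * y ^ k := by rw [hyx]; group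
            _ = x * c * (c ^ k * y) * y ^ k := by rw [(hyc.pow_right k).eq]
            _ = _ := by rw [pow_succ' c, pow_succ' y]; group
      have h1 := hpow (orderOf y)
      rw [pow_orderOf_eq_one, one_mul, mul_one] at h1
      have hco : c ^ orderOf y = 1 := mul_eq_left.1 h1.symm
      obtain ⟨i, hi⟩ := IsPGroup.iff_orderOf.1 hMp ⟨c, hcM⟩
      rw [Subgroup.orderOf_mk] at hi
      have hc1 : c = 1 := orderOf_eq_one_iff.1 (Nat.eq_one_of_dvd_coprimes (hy.pow_right i)
        (orderOf_dvd_of_pow_eq_one hco) hi.dvd)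
      rw [hyx, hc1, mul_one]
  refine Cfsg.Lib.Transfer.hasNormalPComplement_of_frobenius fun Q hQ g hg hgc => ?_
  refine Cfsg.Lib.SolvStruct.le_centralizer_of_fix_small hQ (A := zpowers g)
    (by rwa [Nat.card_zpowers]) (zpowers_le.2 hg) ?_ (mem_zpowers g)
  intro w hw hwo b hb
  obtain ⟨m, rfl⟩ := mem_zpowers_iff.1 hb
  obtain ⟨R, hR⟩ := hQ.exists_le_sylow
  obtain ⟨u, hu⟩ := MulAction.exists_smul_eq G R P
  haveI := P.2.isNilpotent
  obtain ⟨n, hn⟩ := Group.IsNilpotent.nilpotent' (G := (P : Subgroup G))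
  have hwP : u * w * u⁻¹ ∈ (P : Subgroup G) := by
    rw [← hu]; exact Cfsg.Lib.Transfer.mem_conj_sylow_iff.mpr (hR hw)
  have ho : orderOf (u * w * u⁻¹) = orderOf w := (MulAut.conj u).orderOf_eq w
  have hco : (orderOf (u * g * u⁻¹)).Coprime p := by
    rw [show orderOf (u * g * u⁻¹) = orderOf g from (MulAut.conj u).orderOf_eq g]; exact hgc
  have := main n ⟨u * w * u⁻¹, hwP⟩ (hn ▸ mem_top _) (by rw [ho]; exact hwo) _ hco
  have hcomm : Commute g w := by
    have h2 : u * g * u⁻¹ * (u * w * u⁻¹) = u * w * u⁻¹ * (u * g * u⁻¹) := this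
    show g * w = w * g
    calc g * w = u⁻¹ * (u * g * u⁻¹ * (u * w * u⁻¹)) * u := by group
      _ = _ := by rw [h2]; group
  exact (hcomm.zpow_left m).eq

end Cfsg.Agent.S4126
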