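import Cfsg.Statements.S4127
import Cfsg.Agent.Components.PxQ
import Cfsg.Agent.Transfer.IndexPrimeTo
import Cfsg.Agent.SolvStruct.Basics
import Cfsg.Agent.Coprime.SolvableBasics

set_option autoImplicit false
open Cfsg

namespace Cfsg.Agent.S4127

/-- Let G be a finite group, p a prime and p^a the largest power of p dividing the size of any conjugacy class of G. If some element of p-power order has a conjugacy class of size exactly p^a, then G has a normal p-complement. -/
theorem result {G : Type*} [Group G] [Finite G] (p : ℕ) [Fact p.Prime]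
    (a : ℕ) (hmax : ∀ y : G, ¬ p ^ (a + 1) ∣ (Subgroup.centralizer ({y} : Set G)).index)
    (hx : ∃ x : G, (∃ k : ℕ, orderOf x = p ^ k) ∧ (Subgroup.centralizer ({x} : Set G)).index = p ^ a) :
    Cfsg.HasNormalPComplement p G := by
  obtain ⟨x, ⟨kx, hkx⟩, hidx⟩ := hx
  have hp : p.Prime := Fact.out
  set C := Subgroup.centralizer ({x} : Set G) with hCdef
  obtain ⟨S⟩ : Nonempty (Sylow p G) := inferInstance
  obtain ⟨S1, hS1⟩ := (IsPGroup.of_card (p := p) ((Nat.card_zpowers x).trans hkx)).exists_le_sylow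
  have hxS : x ∈ (S1 : Subgroup G) := hS1 (Subgroup.mem_zpowers x)
  have hcop : (S1 : Subgroup G).index.Coprime C.index := by
    rw [hidx]
    exact (Nat.Coprime.pow_left a (hp.coprime_iff_not_dvd.2 S1.not_dvd_index)).symm
  obtain ⟨-, hfact⟩ := Cfsg.Lib.Coprime.inf_index_of_coprime (S1 : Subgroup G) C hcop
  -- `x` lies in the `p`-core
  set W := Cfsg.pCore p G
  have hW : IsPGroup p W := Cfsg.Lib.Components.isPGroup_pCore p
  haveI : W.Normal := Cfsg.Lib.Components.normal_of_mem_sSup_normal fun N hN => hN.1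
  have hxW : x ∈ W := by
    have hcl : Subgroup.normalClosure ({x} : Set G) ≤ (S1 : Subgroup G) := by
      rw [Subgroup.normalClosure, Subgroup.closure_le]
      intro y hy
      obtain ⟨z, hz, hzy⟩ := Group.mem_conjugatesOfSet_iff.1 hy
      rw [Set.mem_singleton_iff] at hz
      subst hz
      obtain ⟨g, rfl⟩ := isConj_iff.1 hzy
      obtain ⟨s, hs, c, hc, rfl⟩ := hfact g
      rw [show s * c * z * (s * c)⁻¹ = s * (c * z * c⁻¹) * s⁻¹ by group,
        Subgroup.mem_centralizer_singleton_iff.1 hc, mul_inv_cancel_right]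
      exact mul_mem (mul_mem hs hxS) (inv_mem hs)
    exact Cfsg.Lib.Components.le_pCore (S1.2.to_le hcl) (Subgroup.subset_normalClosure rfl)
  -- `p'`-elements of `C` centralise a Sylow subgroup of `C`
  have hsyl : ∀ y : C, (orderOf y).Coprime p →
      ∃ T : Sylow p C, (T : Subgroup C) ≤ Subgroup.centralizer ({y} : Set C) := by
    intro y hy
    refine Cfsg.Lib.Transfer.exists_sylow_le_centralizer y fun hd => hmax (x * y) ?_
    rw [← Subgroup.orderOf_coe] at hy
    have hcomm : Commute x (y : G) := (Subgroup.mem_centralizer_singleton_iff.1 y.2).symm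
    have hle : Subgroup.centralizer ({x * (y : G)} : Set G) ≤
        C ⊓ Subgroup.centralizer ({(y : G)} : Set G) := by
      have hxy : (p ^ kx).Coprime (orderOf (y : G)) := (hy.pow_right kx).symm
      intro g hg
      have hgz : Commute g (x * y) := Subgroup.mem_centralizer_singleton_iff.1 hg
      have hp1 : Commute g (y : G) := by
        have h1 : Commute g ((y : G) ^ p ^ kx) := by
          have h2 := hgz.pow_right (p ^ kx)
          rwa [hcomm.mul_pow, ← hkx, pow_orderOf_eq_one, one_mul, hkx] at h2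
        obtain ⟨m, hm⟩ := exists_pow_eq_self_of_coprime (x := (y : G)) hxy
        rw [← hm]
        exact h1.pow_right m
      have hp2 : Commute g x := by
        have h3 := hgz.mul_right hp1.inv_right
        rwa [mul_inv_cancel_right] at h3
      exact Subgroup.mem_inf.2 ⟨Subgroup.mem_centralizer_singleton_iff.2 hp2.eq,
        Subgroup.mem_centralizer_singleton_iff.2 hp1.eq⟩
    refine Nat.dvd_trans ?_ (Subgroup.index_dvd_of_le hle)
    rw [← Subgroup.relIndex_mul_index (inf_le_left : C ⊓ Subgroup.centralizer ({(y : G)} : Set G) ≤ C), hidx, pow_succ',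
      Subgroup.inf_relIndex_left]
    refine Nat.mul_dvd_mul_right (hd.trans (dvd_of_eq ?_)) _
    show (Subgroup.centralizer ({y} : Set C)).index = ((Subgroup.centralizer ({(y : G)} : Set G)).subgroupOf C).index
    congr 1
    ext z
    simp [Subgroup.mem_subgroupOf, Subgroup.mem_centralizer_singleton_iff, Subtype.ext_iff]
  -- they centralise `W`
  have hcent : ∀ y : C, (orderOf y).Coprime p → (y : G) ∈ Subgroup.centralizer (W : Set G) := by
    intro y hy
    obtain ⟨T, hT⟩ := hsyl y hy
    have hWC : IsPGroup p (W.subgroupOf C) := hW.comap_subtype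
    obtain ⟨R, hR⟩ := hWC.exists_le_sylow
    obtain ⟨c, hc⟩ := MulAction.exists_smul_eq C R T
    have hWT : W.subgroupOf C ≤ (T : Subgroup C) := by
      intro w hw
      rw [← hc, Cfsg.Lib.Transfer.sylow_smul_coe]
      exact ⟨c⁻¹ * w * c, hR (by simpa using Subgroup.Normal.conj_mem (inferInstance : (W.subgroupOf C).Normal) w hw c⁻¹), by simp [mul_assoc]⟩
    rw [← Subgroup.orderOf_coe] at hy
    have hyx : (y : G) ∈ Subgroup.centralizer ((Subgroup.zpowers x : Subgroup G) : Set G) := by
      intro z hz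
      obtain ⟨i, rfl⟩ := Subgroup.mem_zpowers_iff.1 hz
      exact ((show Commute x (y : G) from (Subgroup.mem_centralizer_singleton_iff.1 y.2).symm).zpow_left i).eq
    have hall := Cfsg.Lib.Components.pxq_element hy (IsPGroup.of_card ((Nat.card_zpowers x).trans hkx)) hyx W hW
      Subgroup.le_normalizer_of_normal (Subgroup.le_normalizer_of_normal (Subgroup.mem_top _)) (by
        intro w hw
        have hwC : w ∈ C := Subgroup.mem_centralizer_singleton_iff.2 ((Subgroup.mem_inf.1 hw).2 x (Subgroup.mem_zpowers x)).symm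
        have h1 := Subgroup.mem_centralizer_singleton_iff.1 (hT (hWT (show (⟨w, hwC⟩ : C) ∈ W.subgroupOf C from (Subgroup.mem_inf.1 hw).1)))
        exact Subgroup.mem_centralizer_singleton_iff.2 (congrArg Subtype.val h1))
    exact fun w hw => Subgroup.mem_centralizer_singleton_iff.1 (hall hw)
  -- `C` has a normal complement
  have hCp : Cfsg.HasNormalPComplement p C := by
    obtain ⟨T⟩ : Nonempty (Sylow p C) := inferInstance
    set Z := Subgroup.centralizer ((T : Subgroup C) : Set C)
    have hcover : ∀ g : C, ∃ d : C, d⁻¹ * g * d ∈ (T : Subgroup C) ⊔ Z := by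
      intro g
      obtain ⟨u, v, hu, hv, rfl, ⟨i, hi⟩, hcopv⟩ := Cfsg.Lib.Transfer.exists_pPart p g
      obtain ⟨R, hR⟩ := hsyl v hcopv
      have huv : Commute u v := by
        obtain ⟨e, he⟩ := hu
        obtain ⟨f, hf⟩ := hv
        have h7 := (Commute.refl (u * v)).zpow_zpow e f
        simp only at he hf
        rwa [he, hf] at h7
      set Cv := Subgroup.centralizer ({v} : Set C)
      have hup : IsPGroup p (Subgroup.zpowers u) := IsPGroup.of_card ((Nat.card_zpowers u).trans hi)
      obtain ⟨R2, hR2⟩ := ((hup.comap_subtype (K := Cv))).exists_le_sylow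
      obtain ⟨e, he⟩ := MulAction.exists_smul_eq Cv (R.subtype hR) R2
      have humem := hR2 (show (⟨u, Subgroup.mem_centralizer_singleton_iff.2 huv.eq⟩ : Cv) ∈ _ from Subgroup.mem_zpowers u)
      rw [← he, Cfsg.Lib.Transfer.sylow_smul_coe] at humem
      obtain ⟨r, hr, hru⟩ := humem
      obtain ⟨d, hd⟩ := MulAction.exists_smul_eq C T R
      refine ⟨(e : C) * d, ?_⟩
      have hrR : (r : C) ∈ (R : Subgroup C) := hr
      rw [← hd, Cfsg.Lib.Transfer.sylow_smul_coe] at hrR
      obtain ⟨t, ht, htr⟩ := hrR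
      have hu' : u = (e : C) * (d * t * d⁻¹) * (e : C)⁻¹ := by
        rw [show d * t * d⁻¹ = (r : C) from htr]
        exact (congrArg Subtype.val hru).symm
      have hev : (e : C) * v = v * e := Subgroup.mem_centralizer_singleton_iff.1 e.2
      have hvd : d⁻¹ * v * d ∈ Z := by
        intro s hs
        have hsR : d * s * d⁻¹ ∈ (R : Subgroup C) := by
          rw [← hd, Cfsg.Lib.Transfer.sylow_smul_coe]; exact ⟨s, hs, rfl⟩
        have h5 := Subgroup.mem_centralizer_singleton_iff.1 (hR hsR)
        calc s * (d⁻¹ * v * d) = d⁻¹ * ((d * s * d⁻¹) * v) * d := by group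
          _ = d⁻¹ * (v * (d * s * d⁻¹)) * d := by rw [h5]
          _ = d⁻¹ * v * d * s := by group
      have : ((e : C) * d)⁻¹ * (u * v) * ((e : C) * d) = t * (d⁻¹ * v * d) := by
        calc ((e : C) * d)⁻¹ * (u * v) * ((e : C) * d) = d⁻¹ * (e : C)⁻¹ * u * (v * e) * d := by group
          _ = d⁻¹ * (e : C)⁻¹ * u * ((e : C) * v) * d := by rw [hev]
          _ = t * (d⁻¹ * v * d) := by rw [hu']; group
      rw [this]
      exact Subgroup.mul_mem_sup ht hvd
    have htop : (T : Subgroup C) ⊔ Z = ⊤ := by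
      by_contra hne
      obtain ⟨g, hg⟩ := Cfsg.Lib.SolvStruct.exists_not_mem_conj _ hne
      obtain ⟨d, hd⟩ := hcover g
      exact hg d hd
    haveI hZn : Z.Normal := by
      refine Subgroup.normalizer_eq_top_iff.1 (eq_top_iff.2 (htop ▸ sup_le ?_ Subgroup.le_normalizer))
      intro t ht
      rw [Subgroup.mem_normalizer_iff]
      intro z
      constructor
      · intro hz s hs
        have h1 := hz (t⁻¹ * s * t) (mul_mem (mul_mem (inv_mem ht) hs) ht)
        calc s * (t * z * t⁻¹) = t * ((t⁻¹ * s * t) * z) * t⁻¹ := by group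
          _ = t * (z * (t⁻¹ * s * t)) * t⁻¹ := by rw [h1]
          _ = _ := by group
      · intro hz s hs
        have h1 := hz (t * s * t⁻¹) (mul_mem (mul_mem ht hs) (inv_mem ht))
        calc s * z = t⁻¹ * ((t * s * t⁻¹) * (t * z * t⁻¹)) * t := by group
          _ = t⁻¹ * ((t * z * t⁻¹) * (t * s * t⁻¹)) * t := by rw [h1]
          _ = _ := by group
    have hres : Cfsg.pResidual p C ≤ Z := by
      rw [Cfsg.pResidual, Subgroup.closure_le]
      intro v hv
      obtain ⟨R, hR⟩ := hsyl v hv
      obtain ⟨d, hd⟩ := MulAction.exists_smul_eq C T R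
      have h2 : d⁻¹ * v * d ∈ Z := by
        intro s hs
        have hsR : d * s * d⁻¹ ∈ (R : Subgroup C) := by
          rw [← hd, Cfsg.Lib.Transfer.sylow_smul_coe]; exact ⟨s, hs, rfl⟩
        have h5 := Subgroup.mem_centralizer_singleton_iff.1 (hR hsR)
        calc s * (d⁻¹ * v * d) = d⁻¹ * ((d * s * d⁻¹) * v) * d := by group
          _ = d⁻¹ * (v * (d * s * d⁻¹)) * d := by rw [h5]
          _ = d⁻¹ * v * d * s := by group
      have h3 := hZn.conj_mem _ h2 d
      rwa [show d * (d⁻¹ * v * d) * d⁻¹ = v by group] at h3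
    obtain ⟨A, hA⟩ := Cfsg.Lib.Transfer.exists_sylow_subgroupOf T Z
    have hN : Subgroup.normalizer ((A : Subgroup Z) : Set Z) ≤ Subgroup.centralizer ((A : Subgroup Z) : Set Z) := by
      intro z _ s hs
      rw [SetLike.mem_coe, hA] at hs
      exact Subtype.ext (z.2 _ hs)
    obtain ⟨-, k, hk⟩ := Cfsg.Lib.Transfer.complement_props (MonoidHom.ker_transferSylow_isComplement' A hN)
    obtain ⟨hc2, -⟩ := Cfsg.Lib.Transfer.complement_props (MonoidHom.ker_transferSylow_isComplement' A hN)
    set K := (MonoidHom.transferSylow A hN).ker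
    rw [Cfsg.Lib.Transfer.hasNormalPComplement_iff_pResidual]
    refine Nat.Coprime.coprime_dvd_left ?_ hc2
    have hle : Cfsg.pResidual p C ≤ K.map Z.subtype := by
      rw [Cfsg.pResidual, Subgroup.closure_le]
      intro v hv
      refine ⟨⟨v, hres (Cfsg.Lib.Transfer.mem_pResidual_of_coprime hv)⟩, ?_, rfl⟩
      exact (Cfsg.Lib.Transfer.mem_iff_coprime_orderOf hc2 hk _).2 (by rwa [Subgroup.orderOf_mk])
    exact (Subgroup.card_dvd_of_le hle).trans (dvd_of_eq (Subgroup.card_subtype Z K))
  -- conclude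
  have hK := Cfsg.Lib.Transfer.hasNormalPComplement_iff_pResidual.1 hCp
  set N := (Cfsg.pResidual p C).map C.subtype
  have hNle : N ≤ Subgroup.centralizer (W : Set G) := by
    simp only [N, Cfsg.pResidual, MonoidHom.map_closure, Subgroup.closure_le]
    rintro _ ⟨y, hy, rfl⟩
    exact hcent y hy
  have hWC : Subgroup.centralizer (W : Set G) ≤ C := fun g hg =>
    Subgroup.mem_centralizer_singleton_iff.2 (hg x hxW).symm
  haveI hNn : N.Normal := by
    refine ⟨fun n hn g => ?_⟩
    obtain ⟨m, hm, rfl⟩ := hn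
    have hmN : (m : G) ∈ Subgroup.centralizer (W : Set G) := hNle ⟨m, hm, rfl⟩
    have hgm : g * (m : G) * g⁻¹ ∈ C := hWC (Subgroup.Normal.conj_mem inferInstance _ hmN g)
    refine ⟨⟨_, hgm⟩, Cfsg.Lib.Transfer.mem_pResidual_of_coprime ?_, rfl⟩
    rw [Subgroup.orderOf_mk, ← MulAut.conj_apply, MulEquiv.orderOf_eq, Subgroup.orderOf_coe,
      ← Subgroup.orderOf_mk m hm]
    exact Nat.Coprime.coprime_dvd_left (orderOf_dvd_natCard _) hK
  obtain ⟨k, hk⟩ := Cfsg.Lib.Transfer.exists_index_pResidual (G := C) (p := p)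
  refine Cfsg.Lib.Transfer.hasNormalPComplement_iff.2 ⟨N, hNn, ?_, k + a, ?_⟩
  · rw [Subgroup.card_subtype]; exact hK
  · rw [Subgroup.index_map_subtype, hk, hidx, pow_add]

end Cfsg.Agent.S4127
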