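import Cfsg.Statements.S4130
import Cfsg.Agent.ClassSize.SquareFree.Derived

set_option autoImplicit false
open Cfsg
open scoped commutatorElement

namespace Cfsg.Agent.S4130

/-- Let G be a finite group all of whose conjugacy class sizes are square-free. Then G is supersolvable, G/F(G) and the derived subgroup G′ are cyclic of square-free order (F(G) the Fitting subgroup, which is normal), F(G) has nilpotency class at most 2, and G is metabelian. -/
theorem result {G : Type*} [Group G] [Finite G]
    (h : ∀ x : G, Squarefree (Subgroup.centralizer ({x} : Set G)).index) :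
    Cfsg.IsSupersolvable G ∧ (Cfsg.fittingSubgroup G).Normal ∧
    (∀ _h : (Cfsg.fittingSubgroup G).Normal, IsCyclic (G ⧸ Cfsg.fittingSubgroup G) ∧ Squarefree (Cfsg.fittingSubgroup G).index) ∧
    IsCyclic (commutator G) ∧ Squarefree (Nat.card (commutator G)) ∧
    Subgroup.upperCentralSeries ↥(Cfsg.fittingSubgroup G) 2 = ⊤ ∧ commutator ↥(commutator G) = ⊥ := by
  obtain ⟨hss, hcyc, hsq, hle, hidx, hcen⟩ :=
    Cfsg.Lib.SquareFreeClasses.structure_of_squarefree (G := G) h
  refine ⟨hss, inferInstance, fun hn => ?_, hcyc, hsq, ?_, ?_⟩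
  · haveI := hn
    refine ⟨?_, hidx⟩
    have hcard : Squarefree (Nat.card (G ⧸ Cfsg.fittingSubgroup G)) := by
      rwa [← Subgroup.index_eq_card]
    haveI : IsZGroup (G ⧸ Cfsg.fittingSubgroup G) := IsZGroup.of_squarefree hcard
    letI : CommGroup (G ⧸ Cfsg.fittingSubgroup G) :=
      { (inferInstance : Group (G ⧸ Cfsg.fittingSubgroup G)) with
        mul_comm := fun a b => by
          obtain ⟨x, rfl⟩ := QuotientGroup.mk'_surjective _ a
          obtain ⟨y, rfl⟩ := QuotientGroup.mk'_surjective _ b
          refine commutatorElement_eq_one_iff_mul_comm.mp ?_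
          rw [← map_commutatorElement]
          exact (QuotientGroup.eq_one_iff _).mpr
            (hle (Subgroup.commutator_mem_commutator (Subgroup.mem_top x) (Subgroup.mem_top y))) }
    infer_instance
  · refine eq_top_iff.mpr fun x _ => Subgroup.mem_upperCentralSeries_succ_iff.mpr fun y => ?_
    rw [Subgroup.upperCentralSeries_one, Subgroup.mem_center_iff]
    intro z
    refine Subtype.ext (Subgroup.mem_centralizer_iff.mp (hcen z.2) _ ?_).symm
    exact Subgroup.commutator_mem_commutator (Subgroup.mem_top (x : G)) (Subgroup.mem_top (y : G))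
  · haveI := hcyc
    letI := IsCyclic.commGroup (α := commutator G)
    rw [_root_.commutator_def (commutator G), Subgroup.commutator_eq_bot_iff_le_centralizer]
    exact fun a _ => Subgroup.mem_centralizer_iff.mpr fun b _ => mul_comm b a

end Cfsg.Agent.S4130
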