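import Cfsg.Statements.S4133
import Cfsg.Agent.ClassSize.OddHall.Basic

set_option autoImplicit false
open Cfsg

namespace Cfsg.Agent.S4133

open Subgroup Cfsg.Lib.OddHall

theorem isPGroup_top_comm {G : Type*} [Group G] [Finite G]
    (hA : ∀ (p : ℕ) [Fact p.Prime] (P : Sylow p G), IsMulCommutative (P : Subgroup G))
    {p : ℕ} [Fact p.Prime] {Q : Subgroup G} (hQ : IsPGroup p Q) : ∀ a ∈ Q, ∀ b ∈ Q, a * b = b * a := by
  intro a ha b hb
  obtain ⟨P, hP⟩ := hQ.exists_le_sylow
  exact congrArg Subtype.val ((hA p P).is_comm.comm ⟨a, hP ha⟩ ⟨b, hP hb⟩)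

/-- Let G be a finite group all of whose Sylow subgroups are abelian, and let 2^a be the largest power of 2 dividing the size of any conjugacy class of G. If some element has a conjugacy class of size exactly 2^a, then G is solvable. -/
theorem result {G : Type*} [Group G] [Finite G]
    (hA : ∀ (p : ℕ) [Fact p.Prime] (P : Sylow p G), IsMulCommutative (P : Subgroup G))
    (a : ℕ) (hmax : ∀ y : G, ¬ 2 ^ (a + 1) ∣ (Subgroup.centralizer ({y} : Set G)).index) (hx : ∃ x : G, (Subgroup.centralizer ({x} : Set G)).index = 2 ^ a) :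
    Group.IsSolvable G := by
  classical
  haveI : Fact (Nat.Prime 2) := ⟨Nat.prime_two⟩
  by_contra hns
  -- a perfect term of the derived series
  have hex : ∃ m, ∃ n : ℕ, Nat.card (derivedSeries G n) = m := ⟨_, 0, rfl⟩
  obtain ⟨n, hn⟩ := Nat.find_spec hex
  set L := derivedSeries G n with hL
  have hLL : ⁅L, L⁆ = L := eq_of_le_of_card_ge (derivedSeries_antitone G (Nat.le_succ n))
    (hn.le.trans (Nat.find_min' hex ⟨n + 1, rfl⟩))
  haveI : L.Normal := derivedSeries_normal G n
  have hLne : L ≠ ⊥ := fun e => hns ((Group.isSolvable_def G).mpr ⟨n, e⟩)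
  haveI hLnt : Nontrivial L := (Subgroup.nontrivial_iff_ne_bot L).mpr hLne
  have hperf : _root_.commutator L = ⊤ := by
    refine map_injective L.subtype_injective ?_
    rw [Subgroup.map_subtype_commutator, hLL, ← MonoidHom.range_eq_map, Subgroup.range_subtype]
  have hLab : ∀ (p : ℕ) [Fact p.Prime] (P : Sylow p L), ∀ c ∈ P, ∀ d ∈ P, c * d = d * c := fun p _ P c hc d hd =>
    Subtype.ext (isPGroup_top_comm hA (P.2.map L.subtype) c (mem_map_of_mem _ hc) d (mem_map_of_mem _ hd))
  have habL : AbTwo L := abTwo_sub (fun Q hQ => isPGroup_top_comm hA hQ) L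
  have hcen : center L = ⊥ := center_eq_bot hperf hLab
  have hdiv : ∀ z : G, z ∈ L → (∀ w ∈ L, Commute z w) → z = 1 := by
    intro z hz hcomm
    have h1 : (⟨z, hz⟩ : L) ∈ center L := mem_center_iff.mpr fun w => Subtype.ext (hcomm w w.2).eq.symm
    rw [hcen, mem_bot] at h1
    exact congrArg Subtype.val h1
  obtain ⟨x, hxi⟩ := hx
  set C := centralizer ({x} : Set G) with hC
  -- `L` centralises `x`
  have hLC : L ≤ C := by
    obtain ⟨j, -, hj⟩ := (Nat.dvd_prime_pow Nat.prime_two).mp
      (hxi ▸ Lib.ClassSize.FourIndex.relIndex_dvd_index L C)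
    exact subgroupOf_eq_top.mp (eq_top_of_index hperf habL (C.subgroupOf L) hj)
  -- a Sylow `2`-subgroup of `C` meets `L` in a Sylow `2`-subgroup of `L`
  set N := L.subgroupOf C with hN
  haveI : N.Normal := by rw [hN]; infer_instance
  have hmeet : ∀ T : Sylow 2 C, ∃ P : Sylow 2 L, ∀ p ∈ P, ∃ t ∈ T, (t : G) = (p : G) := by
    intro T
    set T0 := (T : Subgroup C).map C.subtype with hT0
    have hT : IsPGroup 2 (T0.subgroupOf L) := (T.2.map C.subtype).comap_subtype
    have hidx : ¬ 2 ∣ (T0.subgroupOf L).index := by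
      intro hd
      refine T.not_dvd_index (hd.trans ?_)
      have h1 : (T0.subgroupOf C).relIndex (L.subgroupOf C) = T0.relIndex L := relIndex_subgroupOf hLC
      have h2 : T0.subgroupOf C = (T : Subgroup C) := by
        rw [hT0, subgroupOf, comap_map_eq_self_of_injective C.subtype_injective]
      rw [h2] at h1
      show T0.relIndex L ∣ _
      rw [← h1]
      exact Lib.ClassSize.FourIndex.relIndex_dvd_index _ _
    refine ⟨hT.toSylow hidx, fun p hp => ?_⟩
    obtain ⟨t, ht, e⟩ := (hp : (p : G) ∈ T0)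
    exact ⟨t, ht, e⟩
  -- an element of `L` centralised by no Sylow subgroup of `L`
  obtain ⟨P⟩ := (inferInstance : Nonempty (Sylow 2 L))
  have hPne : (P : Subgroup L) ≠ ⊥ := by
    intro e
    have hodd : Odd (Nat.card L) := by
      rw [← P.card_mul_index, show Nat.card P = Nat.card (⊥ : Subgroup L) by rw [← e], card_bot, one_mul,
        Nat.odd_iff]
      exact Nat.two_dvd_ne_zero.mp P.not_dvd_index
    haveI : Group.IsSolvable L := Cfsg.Agent.S0205.result hodd
    exact (Group.IsSolvable.commutator_lt_top_of_nontrivial L).ne hperf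
  have hC1 : centralizer ((P : Subgroup L) : Set L) ≠ ⊤ := by
    intro e
    refine hPne (eq_bot_iff.mpr ?_)
    rw [← hcen]
    intro p hp
    exact mem_center_iff.mpr fun g => (mem_centralizer_iff.mp (e ▸ mem_top g : g ∈ _) p hp).symm
  obtain ⟨y, hy⟩ := Lib.ClassSize.FourIndex.exists_forall_conj_notMem hC1
  have hno : ∀ Q : Sylow 2 L, ∃ q ∈ Q, q * y ≠ y * q := by
    intro Q
    by_contra hQ
    push Not at hQ
    obtain ⟨g, hg⟩ := MulAction.exists_smul_eq L P Q
    refine hy g (mem_centralizer_iff.mpr fun p hp => ?_)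
    have h1 : g * p * g⁻¹ ∈ ((g • P : Sylow 2 L) : Subgroup L) :=
      Subgroup.smul_mem_pointwise_smul (a := MulAut.conj g) _ _ hp
    rw [hg] at h1
    have h2 := hQ _ h1
    calc p * (g⁻¹ * y * g) = g⁻¹ * ((g * p * g⁻¹) * y) * g := by group
      _ = g⁻¹ * (y * (g * p * g⁻¹)) * g := by rw [h2]
      _ = _ := by group
  -- the centraliser of `x * y`
  set D := centralizer ({x * (y : G)} : Set G) with hD
  have hxc : ∀ w ∈ L, Commute x w := fun w hw => (mem_centralizer_singleton_iff.mp (hLC hw)).symm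
  have hDx : D ≤ C := by
    intro g hg
    have hgy : g * (y : G) * g⁻¹ ∈ L := (inferInstance : L.Normal).conj_mem _ y.2 g
    have hge : (g * x * g⁻¹) * (g * (y : G) * g⁻¹) = x * y := by
      rw [show (g * x * g⁻¹) * (g * (y : G) * g⁻¹) = g * (x * y) * g⁻¹ by group,
        (mem_centralizer_singleton_iff.mp hg), mul_inv_cancel_right]
    have hgc : ∀ w ∈ L, Commute (g * x * g⁻¹) w := by
      intro w hw
      have h1 := hxc (g⁻¹ * w * g) (by simpa using (inferInstance : L.Normal).conj_mem _ hw g⁻¹)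
      calc g * x * g⁻¹ * w = g * (x * (g⁻¹ * w * g)) * g⁻¹ := by group
        _ = g * ((g⁻¹ * w * g) * x) * g⁻¹ := by rw [h1.eq]
        _ = w * (g * x * g⁻¹) := by group
    have hmem : x⁻¹ * (g * x * g⁻¹) ∈ L := by
      rw [show x⁻¹ * (g * x * g⁻¹) = (y : G) * (g * (y : G) * g⁻¹)⁻¹ by
        rw [eq_mul_inv_iff_mul_eq, mul_assoc, hge, inv_mul_cancel_left]]
      exact mul_mem y.2 (inv_mem hgy)
    have h3 := hdiv _ hmem fun w hw => ((hxc w hw).inv_left).mul_left (hgc w hw)
    rw [inv_mul_eq_one] at h3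
    exact mem_centralizer_singleton_iff.mpr (mul_inv_eq_iff_eq_mul.mp h3.symm)
  refine hmax (x * y) ?_
  by_contra hnd
  obtain ⟨Q⟩ := (inferInstance : Nonempty (Sylow 2 D))
  set Q' := ((Q : Subgroup D).map D.subtype).subgroupOf C with hQ'
  have hQC : (Q : Subgroup D).map D.subtype ≤ C := (map_subtype_le _).trans hDx
  have hcQ : Nat.card Q' = 2 ^ (Nat.card C).factorization 2 := by
    rw [hQ', Nat.card_congr (subgroupOfEquivOfLe hQC).toEquiv, card_map_of_injective D.subtype_injective,
      Q.card_eq_multiplicity]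
    congr 1
    have h1 : (Nat.card D).factorization 2 ≤ (Nat.card C).factorization 2 :=
      ((Nat.factorization_le_iff_dvd Nat.card_pos.ne' Nat.card_pos.ne').mpr (card_dvd_of_le hDx)) 2
    have h2 := congrArg (fun z => z.factorization 2) (C.card_mul_index.trans D.card_mul_index.symm)
    simp only [Nat.factorization_mul Nat.card_pos.ne' index_ne_zero_of_finite, Finsupp.add_apply] at h2
    rw [hxi, Nat.prime_two.factorization_pow, Finsupp.single_eq_same] at h2
    have h3 : D.index.factorization 2 ≤ a := by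
      by_contra h
      exact hnd ((pow_dvd_pow 2 (show a + 1 ≤ D.index.factorization 2 by omega)).trans (Nat.ordProj_dvd _ _))
    omega
  obtain ⟨R, hR⟩ := hmeet (Sylow.ofCard Q' hcQ)
  obtain ⟨r, hr, hne⟩ := hno R
  obtain ⟨t, ht, e⟩ := hR r hr
  obtain ⟨d, -, hd⟩ := (ht : (t : G) ∈ (Q : Subgroup D).map D.subtype)
  refine hne (Subtype.ext ?_)
  have h4 : (t : G) * (x * y) = x * y * t := by
    rw [show (t : G) = (d : G) from hd.symm]; exact mem_centralizer_singleton_iff.mp d.2
  rw [e] at h4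
  show (r : G) * (y : G) = (y : G) * r
  rw [← mul_assoc, ← (hxc _ r.2).eq, mul_assoc, mul_assoc] at h4
  exact mul_left_cancel h4

end Cfsg.Agent.S4133
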