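import Cfsg.Statements.S4142
import Cfsg.Agent.SolvStruct.Basics

set_option autoImplicit false
open Cfsg

namespace Cfsg.Agent.S4142

/-- Let G be a finite group and N a normal subgroup. Then the conjugacy class of every element g outside N is a union of cosets of N (gn is conjugate to g for all n ∈ N) if and only if for every g outside N the centralizer of g in G has the same order as the centralizer of gN in G/N. -/
theorem result {G : Type*} [Group G] [Finite G] (N : Subgroup G) [N.Normal] :
    (∀ g : G, g ∉ N → ∀ n ∈ N, ∃ x : G, x * g * x⁻¹ = g * n) ↔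
      ∀ g : G, g ∉ N → Nat.card (Subgroup.centralizer ({g} : Set G)) =
        Nat.card (Subgroup.centralizer ({(QuotientGroup.mk g : G ⧸ N)} : Set (G ⧸ N))) := by
  refine forall_congr' fun g => imp_congr_right fun _ => ?_
  set C := Subgroup.centralizer ({g} : Set G)
  set Cb := Subgroup.centralizer ({(QuotientGroup.mk g : G ⧸ N)} : Set (G ⧸ N))
  set D := Cb.comap (QuotientGroup.mk' N)
  have hmemD : ∀ x : G, x ∈ D ↔ g⁻¹ * (x * g * x⁻¹) ∈ N := by
    intro x
    rw [Subgroup.mem_comap, QuotientGroup.mk'_apply, Subgroup.mem_centralizer_singleton_iff,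
      ← QuotientGroup.eq, QuotientGroup.mk_mul, QuotientGroup.mk_mul, QuotientGroup.mk_inv]
    exact ⟨fun h => by rw [h, mul_inv_cancel_right], fun h => (mul_inv_eq_iff_eq_mul.1 h.symm)⟩
  have hCD : C ≤ D := fun x hx => (hmemD x).2 (by
    rw [Subgroup.mem_centralizer_singleton_iff.1 hx, mul_inv_cancel_right, inv_mul_cancel]
    exact one_mem N)
  have hker : ∀ a b : G, a * g * a⁻¹ = b * g * b⁻¹ ↔ a⁻¹ * b ∈ C := by
    intro a b
    rw [Subgroup.mem_centralizer_singleton_iff]
    constructor
    · intro h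
      calc a⁻¹ * b * g = a⁻¹ * (b * g * b⁻¹) * b := by group
        _ = a⁻¹ * (a * g * a⁻¹) * b := by rw [h]
        _ = g * (a⁻¹ * b) := by group
    · intro h
      calc a * g * a⁻¹ = a * (g * (a⁻¹ * b)) * b⁻¹ := by group
        _ = a * (a⁻¹ * b * g) * b⁻¹ := by rw [h]
        _ = b * g * b⁻¹ := by group
  let f : D ⧸ C.subgroupOf D → N := Quotient.lift (fun x : D => (⟨g⁻¹ * ((x : G) * g * (x : G)⁻¹), (hmemD x).1 x.2⟩ : N))
    fun a b hab => Subtype.ext (congrArg (g⁻¹ * ·) ((hker a b).2 (show ((a⁻¹ * b : D) : G) ∈ C from (QuotientGroup.leftRel_apply (s := C.subgroupOf D)).1 hab)))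
  have hfinj : Function.Injective f := by
    intro a b
    induction a using QuotientGroup.induction_on with
    | _ a =>
      induction b using QuotientGroup.induction_on with
      | _ b =>
        intro hab
        refine QuotientGroup.eq.2 ((hker a b).1 ?_)
        exact mul_left_cancel (congrArg Subtype.val hab)
  have hidx : Nat.card (D ⧸ C.subgroupOf D) * Nat.card C = Nat.card Cb * Nat.card N := by
    rw [← Nat.card_congr (Subgroup.subgroupOfEquivOfLe hCD).toEquiv, ← Subgroup.card_eq_card_quotient_mul_card_subgroup]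
    have h1 := Subgroup.relIndex_mul_relIndex ⊥ N D bot_le (fun n hn => by
      rw [Subgroup.mem_comap, QuotientGroup.mk'_apply, (QuotientGroup.eq_one_iff n).2 hn]; exact one_mem _)
    rw [Subgroup.relIndex_bot_left, Subgroup.relIndex_bot_left] at h1
    rw [← h1, mul_comm (Nat.card N)]
    congr 1
    have h2 := Subgroup.relIndex_comap (⊥ : Subgroup (G ⧸ N)) (QuotientGroup.mk' N) D
    rw [MonoidHom.comap_bot, QuotientGroup.ker_mk', Subgroup.map_comap_eq_self_of_surjective
      (QuotientGroup.mk'_surjective N), Subgroup.relIndex_bot_left] at h2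
    exact h2
  constructor
  · intro h
    have hsurj : Function.Surjective f := by
      rintro ⟨n, hn⟩
      obtain ⟨x, hx⟩ := h n hn
      have hxD : x ∈ D := (hmemD x).2 (by rw [hx, inv_mul_cancel_left]; exact hn)
      exact ⟨((⟨x, hxD⟩ : D) : D ⧸ C.subgroupOf D), Subtype.ext (show g⁻¹ * (x * g * x⁻¹) = n by
        rw [hx, inv_mul_cancel_left])⟩
    rw [Nat.card_congr (Equiv.ofBijective f ⟨hfinj, hsurj⟩), mul_comm (Nat.card Cb)] at hidx
    exact Nat.eq_of_mul_eq_mul_left Nat.card_pos hidx
  · intro h n hn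
    rw [h, mul_comm (Nat.card Cb)] at hidx
    have hc := Nat.eq_of_mul_eq_mul_right Nat.card_pos hidx
    obtain ⟨a, ha⟩ := ((Nat.bijective_iff_injective_and_card f).2 ⟨hfinj, hc⟩).2 ⟨n, hn⟩
    obtain ⟨x, rfl⟩ := QuotientGroup.mk_surjective a
    refine ⟨x, ?_⟩
    rw [← show g⁻¹ * ((x : G) * g * (x : G)⁻¹) = n from congrArg Subtype.val ha, mul_inv_cancel_left]

end Cfsg.Agent.S4142
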