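import Cfsg.Statements.S4144
import Cfsg.Agent.PGroups.EngelTop
-- import your own Cfsg.Agent.* helpers here

set_option autoImplicit false
open Cfsg

namespace Cfsg.Agent.S4144

open Cfsg.Lib.PGroups Cfsg.Lib.PGroups.MaxClassAgemo

/-- Let X be a finite p-group of order p^n, n ≥ 2, of nilpotency class n − 1 (maximal class), and H any subgroup of X. Then the index in H of the subgroup generated by the p-th powers of elements of H is at most p^p. -/
theorem result {X : Type*} [Group X] [Finite X] {p : ℕ} [Fact p.Prime] (n : ℕ) (hn : 2 ≤ n) (hX : Nat.card X = p ^ n)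
    (hmax : Group.nilpotencyClass X = n - 1) (H : Subgroup X) :
    (Subgroup.closure {y : X | ∃ h ∈ H, y = h ^ p}).relIndex H ≤ p ^ p := by
  have hp := (Fact.out : p.Prime)
  have hP : IsPGroup p X := IsPGroup.of_card hX
  haveI : Group.IsNilpotent X := hP.isNilpotent
  show (agemo p H).relIndex H ≤ p ^ p
  rcases Nat.lt_or_ge p n with hpn | hpn
  swap
  · refine (Nat.le_of_dvd Nat.card_pos (Subgroup.relIndex_dvd_card _ _)).trans ?_
    refine (Nat.le_of_dvd Nat.card_pos H.card_subgroup_dvd_card).trans ?_
    rw [hX]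
    exact Nat.pow_le_pow_right hp.pos hpn
  have key : ∀ K : Subgroup X, K ≤ H → ∀ u v, (agemo p K).relIndex K ≤ u → K.relIndex H ≤ v →
      (agemo p H).relIndex H ≤ u * v := by
    intro K hKH u v hu hv
    refine (Nat.le_of_dvd (Nat.pos_of_ne_zero Subgroup.index_ne_zero_of_finite)
      (Subgroup.relIndex_dvd_of_le_left H (agemo_mono (p := p) hKH))).trans ?_
    show (agemo p K).relIndex H ≤ u * v
    rw [← Subgroup.relIndex_mul_relIndex _ _ _ (agemo_le K) hKH]
    exact Nat.mul_le_mul hu hv
  rcases hp.eq_two_or_odd' with rfl | hodd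
  · -- a cyclic subgroup of index two
    obtain ⟨C, hC, hCi⟩ := Cfsg.Lib.MaxClass.exists_cyclic_index_two n X hX (by omega) hmax
    refine key (H ⊓ C) inf_le_left 2 2 ?_ ?_
    · haveI : IsCyclic ↥(H ⊓ C : Subgroup X) := Subgroup.isCyclic_of_le (inf_le_right : H ⊓ C ≤ C)
      obtain ⟨⟨g, hg⟩, hgen⟩ := IsCyclic.exists_generator (α := ↥(H ⊓ C : Subgroup X))
      set A := agemo 2 (H ⊓ C : Subgroup X)
      have hg2 : g ^ 2 ∈ A := Subgroup.subset_closure ⟨g, hg, rfl⟩
      have hA : ((A.subgroupOf (H ⊓ C)).index) ≤ 2 := by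
        classical
        rw [Subgroup.index_eq_card]
        refine le_trans (Nat.card_le_card_of_surjective
          (fun b : Bool => (((if b then (⟨g, hg⟩ : ↥(H ⊓ C : Subgroup X)) else 1) : ↥(H ⊓ C : Subgroup X)) :
            ↥(H ⊓ C : Subgroup X) ⧸ A.subgroupOf (H ⊓ C))) ?_) (by simp)
        intro q
        induction q using QuotientGroup.induction_on with
        | H y =>
          obtain ⟨k, rfl⟩ := Subgroup.mem_zpowers_iff.1 (hgen y)
          rcases Int.even_or_odd k with ⟨j, rfl⟩ | ⟨j, rfl⟩
          · refine ⟨false, ?_⟩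
            simp only [Bool.false_eq_true, if_false]
            rw [QuotientGroup.eq, Subgroup.mem_subgroupOf]
            simp only [inv_one, one_mul, SubgroupClass.coe_zpow]
            rw [show j + j = 2 * j by ring, zpow_mul, zpow_two, ← sq]
            exact Subgroup.zpow_mem _ hg2 j
          · refine ⟨true, ?_⟩
            simp only [if_true]
            rw [QuotientGroup.eq, Subgroup.mem_subgroupOf]
            simp only [Subgroup.coe_mul, InvMemClass.coe_inv, SubgroupClass.coe_zpow]
            rw [← zpow_neg_one, ← zpow_add, show -1 + (2 * j + 1) = 2 * j by ring, zpow_mul, zpow_two, ← sq]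
            exact Subgroup.zpow_mem _ hg2 j
      exact hA
    · rw [Subgroup.inf_relIndex_left]
      haveI : C.Normal := Subgroup.normal_of_index_eq_two hCi
      exact Nat.le_of_dvd two_pos (hCi ▸ C.relIndex_dvd_index_of_normal H)
  have hp3 : 3 ≤ p := by
    have := hp.two_le
    obtain ⟨k, hk⟩ := hodd
    omega
  obtain ⟨x, D⟩ := exists_data hp3 n X hX (by omega) hmax
  by_cases hH : H = ⊤
  · -- the agemo of the whole group is normal and not inside the `p`-th term
    subst hH
    set A := agemo p (⊤ : Subgroup X) with hA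
    haveI : A.Normal := ⟨fun a ha g => by
      have hle : A ≤ A.comap (MulAut.conj g).toMonoidHom := (Subgroup.closure_le _).2 fun y hy => by
        obtain ⟨h, -, rfl⟩ := hy
        exact Subgroup.subset_closure ⟨g * h * g⁻¹, Subgroup.mem_top _, by simp [conj_pow]⟩
      exact hle ha⟩
    obtain ⟨r, hr⟩ := hP.index A
    rw [Subgroup.relIndex_top_right, hr]
    by_contra hgt
    have hpr : p + 1 ≤ r := by
      by_contra h
      exact hgt (Nat.pow_le_pow_right hp.pos (by omega))
    obtain ⟨g, hg⟩ := EngelTop.exists_pow_not_mem D hpn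
    refine hg (MaxClassRank.L_le (show p ≤ r - 1 by omega) ?_)
    show g ^ p ∈ (⊤ : Subgroup X).lowerCentralSeries (r - 1)
    rw [← Cfsg.Lib.MaxClass.normal_eq_lcs n X hX hn hmax A r (by omega) hr]
    exact Subgroup.subset_closure ⟨g, Subgroup.mem_top _, rfl⟩
  · refine (key (H ⊓ MaxClassRank.L X 1) inf_le_left (p ^ (p - 1)) p (agemo_relIndex_le D inf_le_right) ?_).trans
      (le_of_eq ?_)
    · rw [Subgroup.inf_relIndex_left]
      exact D.relIndex_derived_le hH
    · rw [← pow_succ, Nat.sub_add_cancel hp.one_le]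

end Cfsg.Agent.S4144
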