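import Cfsg.Statements.S4149

set_option autoImplicit false
open Cfsg

namespace Cfsg.Agent.S4149

open scoped Classical in
/-- The elements with class size prime to `p` centralise a Sylow `p`-subgroup. -/
theorem exists_sylow_le_centralizer {G : Type*} [Group G] [Finite G] {p : ℕ} [Fact p.Prime]
    {x : G} (hx : ¬ p ∣ (Subgroup.centralizer ({x} : Set G)).index) :
    ∃ P : Sylow p G, x ∈ Subgroup.centralizer ((P : Subgroup G) : Set G) := by
  classical
  set C := Subgroup.centralizer ({x} : Set G) with hC
  obtain ⟨R⟩ : Nonempty (Sylow p C) := inferInstance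
  have hcard : Nat.card ((R : Subgroup C).map C.subtype) = p ^ (Nat.card G).factorization p := by
    rw [Subgroup.card_subtype, R.card_eq_multiplicity]
    congr 1
    have h := C.card_mul_index
    rw [← h, Nat.factorization_mul Nat.card_pos.ne' Subgroup.index_ne_zero_of_finite]
    simp [Nat.factorization_eq_zero_of_not_dvd hx]
  refine ⟨Sylow.ofCard _ hcard, ?_⟩
  rw [Subgroup.mem_centralizer_iff]
  intro y hy
  have hy' : y ∈ (R : Subgroup C).map C.subtype := hy
  have : y ∈ C := Subgroup.map_subtype_le _ hy'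
  exact ((Subgroup.mem_centralizer_iff.mp this) x rfl).symm

/-- If `G` has no normal `p`-complement then at most half of the elements have class size prime
to `p`. -/
theorem two_mul_card_le {G : Type*} [Group G] [Finite G] {p : ℕ} [Fact p.Prime]
    (h : ¬ HasNormalPComplement p G) :
    2 * Nat.card {x : G | ¬ p ∣ (Subgroup.centralizer ({x} : Set G)).index} ≤ Nat.card G := by
  classical
  obtain ⟨P⟩ : Nonempty (Sylow p G) := inferInstance
  set N := Subgroup.normalizer ((P : Subgroup G) : Set G) with hN
  set C := Subgroup.centralizer ((P : Subgroup G) : Set G) with hC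
  have hCN : C ≤ N := Subgroup.centralizer_le_normalizer _
  have hne : C < N := by
    refine lt_of_le_of_ne hCN ?_
    intro he
    apply h
    have hP : N ≤ C := he.ge
    exact ⟨P, _, MonoidHom.normal_ker _, MonoidHom.ker_transferSylow_isComplement' P hP⟩
  have h2 : 2 * Nat.card C ≤ Nat.card N := by
    obtain ⟨k, hk⟩ := Subgroup.card_dvd_of_le hCN
    have hlt : Nat.card C < Nat.card N := by
      rcases (Nat.le_of_dvd Nat.card_pos (Subgroup.card_dvd_of_le hCN)).lt_or_eq with h' | h'
      · exact h'
      · exact absurd (Subgroup.eq_of_le_of_card_ge hCN h'.ge) hne.ne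
    rw [hk] at hlt ⊢
    have : 2 ≤ k := by
      by_contra hcon
      interval_cases k <;> omega
    calc 2 * Nat.card C ≤ k * Nat.card C := Nat.mul_le_mul_right _ this
      _ = _ := Nat.mul_comm _ _
  -- the covering map
  let φ : Sylow p G → G := fun Q => (MulAction.exists_smul_eq G P Q).choose
  have hφ : ∀ Q, φ Q • P = Q := fun Q => (MulAction.exists_smul_eq G P Q).choose_spec
  let f : Sylow p G × C → G := fun a => φ a.1 * (a.2 : G) * (φ a.1)⁻¹
  have hsub : {x : G | ¬ p ∣ (Subgroup.centralizer ({x} : Set G)).index} ⊆ Set.range f := by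
    intro x hx
    obtain ⟨Q, hQ⟩ := exists_sylow_le_centralizer hx
    have hmem : (φ Q)⁻¹ * x * φ Q ∈ C := by
      rw [hC, Subgroup.mem_centralizer_iff]
      intro y hy
      have hyQ : φ Q * y * (φ Q)⁻¹ ∈ ((Q : Subgroup G) : Set G) := by
        have hgen : ∀ (g : G) (R : Sylow p G), g • P = R → g * y * g⁻¹ ∈ ((R : Subgroup G) : Set G) := by
          rintro g R rfl
          exact Subgroup.mem_map_of_mem (MulDistribMulAction.toMonoidEnd _ _ (MulAut.conj g)) hy
        exact hgen _ Q (hφ Q)
      have := Subgroup.mem_centralizer_iff.mp hQ _ hyQ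
      calc y * ((φ Q)⁻¹ * x * φ Q)
          = (φ Q)⁻¹ * (φ Q * y * (φ Q)⁻¹ * x) * φ Q := by group
        _ = (φ Q)⁻¹ * (x * (φ Q * y * (φ Q)⁻¹)) * φ Q := by rw [this]
        _ = _ := by group
    exact ⟨(Q, ⟨_, hmem⟩), by simp [f, mul_assoc]⟩
  have hle : Nat.card {x : G | ¬ p ∣ (Subgroup.centralizer ({x} : Set G)).index} ≤
      Nat.card (Sylow p G) * Nat.card C := by
    refine (Nat.card_mono (Set.toFinite _) hsub).trans ?_
    refine (Finite.card_range_le f).trans ?_
    rw [Nat.card_prod]
  have hG : Nat.card (Sylow p G) * Nat.card N = Nat.card G := by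
    rw [P.card_eq_index_normalizer, mul_comm]
    exact Subgroup.card_mul_index N
  calc 2 * Nat.card {x : G | ¬ p ∣ (Subgroup.centralizer ({x} : Set G)).index}
      ≤ 2 * (Nat.card (Sylow p G) * Nat.card C) := Nat.mul_le_mul_left _ hle
    _ = Nat.card (Sylow p G) * (2 * Nat.card C) := by ring
    _ ≤ Nat.card (Sylow p G) * Nat.card N := Nat.mul_le_mul_left _ h2
    _ = Nat.card G := hG

/-- Let G be a finite group that has a normal p-complement for at most one prime p dividing its order, and let σ be a natural number such that every conjugacy class size of G has at most σ distinct prime divisors. Then the number of primes dividing at least one conjugacy class size of G is at most 2σ. -/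
theorem result {G : Type*} [Group G] [Finite G] (σ : ℕ)
    (hσ : ∀ x : G, ((Subgroup.centralizer ({x} : Set G)).index).primeFactors.card ≤ σ)
    (hnil : ∀ p q : ℕ, p.Prime → q.Prime → p ∣ Nat.card G → q ∣ Nat.card G →
      Cfsg.HasNormalPComplement p G → Cfsg.HasNormalPComplement q G → p = q) :
    Nat.card {p : ℕ | p.Prime ∧ ∃ x : G, p ∣ (Subgroup.centralizer ({x} : Set G)).index} ≤ 2 * σ := by
  classical
  have := Fintype.ofFinite G
  set ρ : Finset ℕ := (Nat.card G).primeFactors.filter
    (fun p => ∃ x : G, p ∣ (Subgroup.centralizer ({x} : Set G)).index) with hρ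
  have hset : {p : ℕ | p.Prime ∧ ∃ x : G, p ∣ (Subgroup.centralizer ({x} : Set G)).index} =
      (ρ : Set ℕ) := by
    ext p
    simp only [hρ, Finset.coe_filter, Set.mem_setOf_eq, Nat.mem_primeFactors]
    constructor
    · rintro ⟨hp, x, hx⟩
      exact ⟨⟨hp, hx.trans (Subgroup.index_dvd_card _), Nat.card_pos.ne'⟩, x, hx⟩
    · rintro ⟨⟨hp, -, -⟩, hx⟩
      exact ⟨hp, hx⟩
  rw [hset, Nat.card_coe_set_eq, Set.ncard_coe_finset]
  let M : G → Finset ℕ := fun x =>
    ρ.filter (fun p => ¬ p ∣ (Subgroup.centralizer ({x} : Set G)).index)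
  let a : ℕ → ℕ := fun p =>
    (Finset.univ.filter (fun x : G => ¬ p ∣ (Subgroup.centralizer ({x} : Set G)).index)).card
  have hswap : ∑ x : G, (M x).card = ∑ p ∈ ρ, a p := by
    simp only [M, a, Finset.card_filter]
    rw [Finset.sum_comm]
  have ha : ∀ p ∈ ρ, ¬ HasNormalPComplement p G → 2 * a p ≤ Fintype.card G := by
    intro p hp hn
    have hp' := Nat.prime_of_mem_primeFactors (Finset.mem_filter.mp hp).1
    have := Fact.mk hp'
    have h := two_mul_card_le hn
    rwa [Nat.card_coe_set_eq, Set.ncard_eq_toFinset_card', Set.toFinset_setOf,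
      Nat.card_eq_fintype_card] at h
  have ha' : ∀ p ∈ ρ, 2 * a p < 2 * Fintype.card G := by
    intro p hp
    obtain ⟨x, hx⟩ := (Finset.mem_filter.mp hp).2
    have : a p < Fintype.card G := by
      refine lt_of_le_of_ne (Finset.card_le_univ _) ?_
      intro he
      have := Finset.eq_univ_of_card _ he
      have hx' := this ▸ Finset.mem_univ x
      exact (Finset.mem_filter.mp hx').2 hx
    omega
  have hG : 0 < Fintype.card G := Fintype.card_pos
  have hsum : 2 * ∑ x : G, (M x).card < (ρ.card + 1) * Fintype.card G := by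
    rw [hswap, Finset.mul_sum]
    by_cases hex : ∃ p ∈ ρ, HasNormalPComplement p G
    · obtain ⟨p₀, hp₀, hn₀⟩ := hex
      rw [← Finset.add_sum_erase _ _ hp₀]
      have hrest : ∑ p ∈ ρ.erase p₀, 2 * a p ≤ (ρ.erase p₀).card * Fintype.card G := by
        refine (Finset.sum_le_card_nsmul _ _ (Fintype.card G) ?_).trans_eq (by simp)
        intro p hp
        obtain ⟨hne, hpρ⟩ := Finset.mem_erase.mp hp
        refine ha p hpρ (fun hn => hne ?_)
        have h1 := Nat.mem_primeFactors.mp (Finset.mem_filter.mp hpρ).1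
        have h0 := Nat.mem_primeFactors.mp (Finset.mem_filter.mp hp₀).1
        exact hnil p p₀ h1.1 h0.1 h1.2.1 h0.2.1 hn hn₀
      have hc : (ρ.erase p₀).card + 1 = ρ.card := Finset.card_erase_add_one hp₀
      have := ha' p₀ hp₀
      calc 2 * a p₀ + ∑ p ∈ ρ.erase p₀, 2 * a p
          < 2 * Fintype.card G + (ρ.erase p₀).card * Fintype.card G := by omega
        _ = _ := by rw [← hc]; ring
    · have hall : ∑ p ∈ ρ, 2 * a p ≤ ρ.card * Fintype.card G := by
        refine (Finset.sum_le_card_nsmul _ _ (Fintype.card G) ?_).trans_eq (by simp)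
        exact fun p hp => ha p hp (fun hn => hex ⟨p, hp, hn⟩)
      have : (ρ.card + 1) * Fintype.card G = ρ.card * Fintype.card G + Fintype.card G := by ring
      omega
  obtain ⟨x, hx⟩ : ∃ x : G, 2 * (M x).card ≤ ρ.card := by
    by_contra hcon
    push Not at hcon
    have : ∑ _x : G, (ρ.card + 1) ≤ ∑ x : G, 2 * (M x).card :=
      Finset.sum_le_sum (fun x _ => hcon x)
    rw [Finset.sum_const, Finset.card_univ, smul_eq_mul, ← Finset.mul_sum, mul_comm] at this
    omega
  have hcov : (ρ.filter (fun p => p ∣ (Subgroup.centralizer ({x} : Set G)).index)).card ≤ σ := by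
    refine (Finset.card_le_card ?_).trans (hσ x)
    intro p hp
    obtain ⟨hpρ, hpx⟩ := Finset.mem_filter.mp hp
    exact Nat.mem_primeFactors.mpr ⟨Nat.prime_of_mem_primeFactors (Finset.mem_filter.mp hpρ).1,
      hpx, Subgroup.index_ne_zero_of_finite⟩
  have hsplit := Finset.card_filter_add_card_filter_not (s := ρ)
    (fun p => p ∣ (Subgroup.centralizer ({x} : Set G)).index)
  simp only [M] at hx
  omega

end Cfsg.Agent.S4149
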