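import Cfsg.Statements.S4154


set_option autoImplicit false
open Cfsg

namespace Cfsg.Agent.S4154

/-- Let G be a finite group and α an automorphism of G such that every element of G is the product of an element fixed by α and an element of the form g⁻¹α(g). If N is a normal α-invariant subgroup, then the automorphism ᾱ induced on G/N has the same property, and every coset fixed by ᾱ contains an element fixed by α (so the fixed points of ᾱ are the images of the fixed points of α). -/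
theorem result {G : Type*} [Group G] [Finite G] (α : MulAut G)
    (hccp : ∀ x : G, ∃ c g : G, α c = c ∧ x = c * (g⁻¹ * α g))
    (N : Subgroup G) [N.Normal] (hN : ∀ n ∈ N, α n ∈ N) :
    (∀ x : G, ∃ c g : G, c⁻¹ * α c ∈ N ∧ x⁻¹ * (c * (g⁻¹ * α g)) ∈ N) ∧
    (∀ x : G, x⁻¹ * α x ∈ N → ∃ c : G, α c = c ∧ c⁻¹ * x ∈ N) := by
  refine ⟨fun x => ?_, fun x hx => ?_⟩
  · obtain ⟨c, g, hc, hx⟩ := hccp x
    exact ⟨c, g, by rw [hc, inv_mul_cancel]; exact one_mem N, by rw [← hx, inv_mul_cancel]; exact one_mem N⟩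
  classical
  let π := QuotientGroup.mk' N
  let C : Set (G ⧸ N) := π '' {c : G | α c = c}
  let F : Set (G ⧸ N) := π '' {c : G | c⁻¹ * α c ∈ N}
  let D : Set (G ⧸ N) := π '' {d : G | ∃ g, d = g⁻¹ * α g}
  have hCF : C ⊆ F := by
    rintro _ ⟨c, hc, rfl⟩
    exact ⟨c, by show c⁻¹ * α c ∈ N; rw [show α c = c from hc, inv_mul_cancel]; exact one_mem N, rfl⟩
  have h1 : Nat.card (G ⧸ N) ≤ Nat.card C * Nat.card D := by
    rw [← Nat.card_prod]
    refine Nat.card_le_card_of_surjective (fun z : C × D => (z.1 : G ⧸ N) * (z.2 : G ⧸ N)) fun q => ?_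
    obtain ⟨y, rfl⟩ := QuotientGroup.mk'_surjective N q
    obtain ⟨c, g, hc, rfl⟩ := hccp y
    exact ⟨(⟨π c, c, hc, rfl⟩, ⟨π (g⁻¹ * α g), _, ⟨g, rfl⟩, rfl⟩), (map_mul π _ _).symm⟩
  -- `(f, d) ↦ f s(d)` is injective
  have hD : ∀ d : D, ∃ g : G, π (g⁻¹ * α g) = (d : G ⧸ N) := by
    rintro ⟨_, _, ⟨g, rfl⟩, rfl⟩; exact ⟨g, rfl⟩
  choose sd hsd using hD
  have hF : ∀ f : F, ∃ c : G, c⁻¹ * α c ∈ N ∧ π c = (f : G ⧸ N) := by
    rintro ⟨_, c, hc, rfl⟩; exact ⟨c, hc, rfl⟩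
  choose sf hsf hsf' using hF
  have h2 : Nat.card F * Nat.card D ≤ Nat.card (G ⧸ N) := by
    rw [← Nat.card_prod]
    refine Nat.card_le_card_of_injective (fun z : F × D => (z.1 : G ⧸ N) * π (sd z.2)) ?_
    rintro ⟨f, d⟩ ⟨f', d'⟩ he
    have hfix : ∀ f : F, π (α (sf f)) = (f : G ⧸ N) := fun f => by
      have : π ((sf f)⁻¹ * α (sf f)) = 1 := (QuotientGroup.eq_one_iff _).2 (hsf f)
      rw [map_mul, map_inv, inv_mul_eq_one] at this
      rw [← this, hsf']
    have h3 : π (sf f * sd d) = π (sf f' * sd d') := by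
      rw [map_mul, map_mul, hsf', hsf']; exact he
    have h4 : π (α (sf f * sd d)) = π (α (sf f' * sd d')) := by
      refine QuotientGroup.eq.2 ?_
      rw [← map_inv, ← map_mul]
      exact hN _ (QuotientGroup.eq.1 h3)
    rw [map_mul α, map_mul α, map_mul, map_mul, hfix, hfix] at h4
    have h5 : (d : G ⧸ N) = (d' : G ⧸ N) := by
      rw [← hsd d, ← hsd d', map_mul, map_mul, map_inv, map_inv]
      have e : ∀ (a b c : G ⧸ N), b⁻¹ * c = (a * b)⁻¹ * (a * c) := fun a b c => by group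
      rw [e (f : G ⧸ N), e (f' : G ⧸ N) (π (sd d')), h4]
      have : (f : G ⧸ N) * π (sd d) = (f' : G ⧸ N) * π (sd d') := he
      rw [this]
    obtain rfl : d = d' := Subtype.ext h5
    exact Prod.ext (Subtype.ext (mul_right_cancel he)) rfl
  have hpos : 0 < Nat.card D := by
    haveI : Nonempty D := ⟨⟨π (1⁻¹ * α 1), _, ⟨1, rfl⟩, rfl⟩⟩
    exact Nat.card_pos
  have hle : Nat.card F ≤ Nat.card C := Nat.le_of_mul_le_mul_right (h2.trans h1) hpos
  have heq : C = F := Set.eq_of_subset_of_ncard_le hCF (by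
    rwa [← Nat.card_coe_set_eq, ← Nat.card_coe_set_eq]) (Set.toFinite F)
  have hxF : π x ∈ F := ⟨x, hx, rfl⟩
  rw [← heq] at hxF
  obtain ⟨c, hc, hcx⟩ := hxF
  exact ⟨c, hc, QuotientGroup.eq.1 hcx⟩

end Cfsg.Agent.S4154
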