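import Cfsg.Statements.S4156
import Mathlib

set_option autoImplicit false
open Cfsg

namespace Cfsg.Agent.S4156

/-- Let n ≥ 5 and F a finite field. Then the projective special linear group PSL_n(F) contains a subgroup isomorphic to the alternating group of degree n + 1. -/
theorem result (n : ℕ) (hn : 5 ≤ n) (F : Type*) [Field F] [Finite F] :
    ∃ f : alternatingGroup (Fin (n + 1)) →* Matrix.ProjectiveSpecialLinearGroup (Fin n) F, Function.Injective f := by
  set A := alternatingGroup (Fin (n + 1))
  haveI : IsSimpleGroup A := alternatingGroup.isSimpleGroup (by simp; omega)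
  let M : A → Matrix (Fin n) (Fin n) F := fun σ => Matrix.of fun r c =>
    (if (σ : Equiv.Perm (Fin (n + 1))) c.castSucc = r.castSucc then (1 : F) else 0) -
      (if (σ : Equiv.Perm (Fin (n + 1))) (Fin.last n) = r.castSucc then (1 : F) else 0)
  have h1 : M 1 = 1 := by
    ext r c
    simp [M, Matrix.one_apply, eq_comm, (Fin.castSucc_lt_last r).ne, (Fin.castSucc_lt_last r).ne']
  have hmul : ∀ σ τ : A, M (σ * τ) = M σ * M τ := by
    intro σ τ
    ext r c
    rw [Matrix.mul_apply]
    set g : Fin (n + 1) → F := fun x =>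
      (if (σ : Equiv.Perm (Fin (n + 1))) x = r.castSucc then (1 : F) else 0) -
        (if (σ : Equiv.Perm (Fin (n + 1))) (Fin.last n) = r.castSucc then (1 : F) else 0) with hg
    set w : Fin (n + 1) → F := fun x =>
      (if (τ : Equiv.Perm (Fin (n + 1))) c.castSucc = x then (1 : F) else 0) -
        (if (τ : Equiv.Perm (Fin (n + 1))) (Fin.last n) = x then (1 : F) else 0) with hw
    have e : ∑ k : Fin n, M σ r k * M τ k c = ∑ x : Fin (n + 1), g x * w x := by
      rw [Fin.sum_univ_castSucc, show g (Fin.last n) = 0 by simp [g], zero_mul, add_zero]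
      rfl
    rw [e]
    have e2 : ∑ x : Fin (n + 1), g x * w x =
        g ((τ : Equiv.Perm (Fin (n + 1))) c.castSucc) - g ((τ : Equiv.Perm (Fin (n + 1))) (Fin.last n)) := by
      simp only [hw, mul_sub, mul_ite, mul_one, mul_zero, Finset.sum_sub_distrib, Finset.sum_ite_eq, Finset.mem_univ, if_true]
    rw [e2]
    simp [M, g]
    congr 1 <;> convert rfl
  let Mh : A →* Matrix (Fin n) (Fin n) F := MonoidHom.mk ⟨M, h1⟩ hmul
  -- the determinant of a perfect group is trivial
  have hdet : ∀ σ : A, (M σ).det = 1 := by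
    let d : A →* Fˣ := (Matrix.detMonoidHom.comp Mh).toHomUnits
    have hd : ∀ σ, d σ = 1 := by
      intro σ
      have hc : commutator A = ⊤ := by
        rcases (inferInstance : (commutator A).Normal).eq_bot_or_eq_top with h | h
        · exfalso
          have e5 := commutator_alternatingGroup_eq_top (α := Fin (n + 1)) (by simp; omega)
          rw [e5] at h
          exact top_ne_bot h
        · exact h
      exact (Abelianization.commutator_subset_ker d) (hc.ge (Subgroup.mem_top σ))
    intro σ
    exact congrArg Units.val (hd σ)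
  let S : A →* Matrix.SpecialLinearGroup (Fin n) F :=
    MonoidHom.mk ⟨fun σ => ⟨M σ, hdet σ⟩, Subtype.ext h1⟩ fun σ τ => Subtype.ext (hmul σ τ)
  let f : A →* Matrix.ProjectiveSpecialLinearGroup (Fin n) F := (QuotientGroup.mk' _).comp S
  refine ⟨f, ?_⟩
  rw [← MonoidHom.ker_eq_bot_iff]
  refine f.normal_ker.eq_bot_or_eq_top.resolve_right fun h => ?_
  -- a three-cycle is not a scalar
  let i0 : Fin n := ⟨0, by omega⟩
  let i1 : Fin n := ⟨1, by omega⟩
  let i2 : Fin n := ⟨2, by omega⟩
  let t : A := ⟨Equiv.swap i0.castSucc i2.castSucc * Equiv.swap i0.castSucc i1.castSucc, by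
    rw [Equiv.Perm.mem_alternatingGroup, map_mul, Equiv.Perm.sign_swap (by simp [i0, i2]), Equiv.Perm.sign_swap (by simp [i0, i1])]
    decide⟩
  have hm : S t ∈ Subgroup.center (Matrix.SpecialLinearGroup (Fin n) F) :=
    (QuotientGroup.eq_one_iff _).1 (show f t = 1 from h.ge (Subgroup.mem_top t))
  obtain ⟨c, -, hc⟩ := Matrix.SpecialLinearGroup.mem_center_iff.1 hm
  have e := congrFun (congrFun hc i1) i0
  have ne01 : i0.castSucc ≠ i1.castSucc := by simp [i0, i1]
  have ne12 : i1.castSucc ≠ i2.castSucc := by simp [i1, i2]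
  have t0 : (t : Equiv.Perm (Fin (n + 1))) i0.castSucc = i1.castSucc := by
    show Equiv.swap i0.castSucc i2.castSucc (Equiv.swap i0.castSucc i1.castSucc i0.castSucc) = _
    rw [Equiv.swap_apply_left, Equiv.swap_apply_of_ne_of_ne ne01.symm ne12]
  have tl : (t : Equiv.Perm (Fin (n + 1))) (Fin.last n) = Fin.last n := by
    show Equiv.swap i0.castSucc i2.castSucc (Equiv.swap i0.castSucc i1.castSucc (Fin.last n)) = _
    rw [Equiv.swap_apply_of_ne_of_ne (Fin.castSucc_lt_last i0).ne' (Fin.castSucc_lt_last i1).ne',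
      Equiv.swap_apply_of_ne_of_ne (Fin.castSucc_lt_last i0).ne' (Fin.castSucc_lt_last i2).ne']
  have lhs : Matrix.scalar (Fin n) c i1 i0 = 0 := by simp [i0, i1]
  have rhs : ((S t : Matrix.SpecialLinearGroup (Fin n) F) : Matrix (Fin n) (Fin n) F) i1 i0 = 1 := by
    show M t i1 i0 = 1
    simp [M, t0, tl, (Fin.castSucc_lt_last i1).ne']
  rw [lhs, rhs] at e
  exact zero_ne_one e

end Cfsg.Agent.S4156
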