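import Cfsg.Statements.S4168
import Cfsg.Agent.Transfer.Abelian

set_option autoImplicit false
open Cfsg
open scoped Pointwise

namespace Cfsg.Agent.S4168

/-- Let L be a finite quasisimple group (perfect with L/Z(L) simple). Then every prime dividing the order of the centre Z(L) also divides the order of L/Z(L). -/
theorem result {L : Type*} [Group L] [Finite L] (hL : Cfsg.IsQuasisimple L)
    (p : ℕ) (hp : p.Prime) (hdiv : p ∣ Nat.card (Subgroup.center L)) : p ∣ (Subgroup.center L).index := by
  haveI := Fact.mk hp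
  by_contra hnd
  obtain ⟨R⟩ : Nonempty (Sylow p (Subgroup.center L)) := inferInstance
  set P := (R : Subgroup (Subgroup.center L)).map (Subgroup.center L).subtype
  have hPc : P ≤ Subgroup.center L := Subgroup.map_subtype_le _
  haveI : IsMulCommutative P :=
    ⟨⟨fun a b => Subtype.ext (Subgroup.mem_center_iff.1 (hPc b.2) a)⟩⟩
  have hidx : ¬ p ∣ P.index := by
    rw [Subgroup.index_map_subtype]
    exact hp.not_dvd_mul R.not_dvd_index hnd
  obtain ⟨k, hk⟩ := (R.2.map (Subgroup.center L).subtype).exists_card_eq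
  have hHall : (Nat.card P).Coprime P.index := by
    rw [show Nat.card P = p ^ k from hk]
    exact Nat.Coprime.pow_left k (hp.coprime_iff_not_dvd.2 hidx)
  obtain ⟨z, hz⟩ := exists_prime_orderOf_dvd_card' p hdiv
  obtain ⟨R', hR'⟩ := (IsPGroup.of_card (p := p) (n := 1)
    (by rw [Nat.card_zpowers, hz, pow_one] : Nat.card (Subgroup.zpowers z) = p ^ 1)).exists_le_sylow
  haveI : IsMulCommutative (Subgroup.center L) := inferInstance
  have hRR : R' = R := by
    obtain ⟨g, hg⟩ := MulAction.exists_smul_eq (Subgroup.center L) R R'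
    rw [← hg]
    refine Sylow.ext (Subgroup.ext fun x => ?_)
    rw [Sylow.coe_subgroup_smul, Subgroup.mem_pointwise_smul_iff_inv_smul_mem, MulAut.smul_def,
      MulAut.conj_inv_apply, IsMulCommutative.is_comm.comm g⁻¹ x, inv_mul_cancel_right]
  subst hRR
  have h1 := Cfsg.Lib.Transfer.eq_one_of_mem_commutator_of_central P hHall
    (x := (z : L)) ⟨z, hR' (Subgroup.mem_zpowers z), rfl⟩
    (by rw [(Group.isPerfect_def.1 hL.1)]; exact Subgroup.mem_top _) z.2
  rw [← Subgroup.orderOf_coe, h1, orderOf_one] at hz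
  exact hp.ne_one hz.symm

end Cfsg.Agent.S4168
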