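import Cfsg.Statements.S4170
import Cfsg.Agent.SylowFix.Basic
-- import your own Cfsg.Agent.* helpers here

set_option autoImplicit false
open scoped Pointwise
open Cfsg

namespace Cfsg.Agent.S4170

/-- Let p be an odd prime and G a nontrivial group of permutations of a finite set Ω that is generated by its elements of p-power order. Then Ω has two disjoint nonempty subsets Δ₁ and Δ₂ such that the index in G of the subgroup of elements mapping Δ₁ onto Δ₁ and Δ₂ onto Δ₂ (and hence also the complement of their union onto itself) is divisible by p. -/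
theorem result {Ω : Type*} [Fintype Ω] (p : ℕ) [Fact p.Prime] (hp : p ≠ 2) (G : Subgroup (Equiv.Perm Ω)) (hG : G ≠ ⊥) (hgen : Subgroup.closure {g : G | ∃ k : ℕ, orderOf g = p ^ k} = ⊤) :
    ∃ Δ₁ Δ₂ : Set Ω, Δ₁.Nonempty ∧ Δ₂.Nonempty ∧ Disjoint Δ₁ Δ₂ ∧ p ∣ (MulAction.stabilizer G Δ₁ ⊓ MulAction.stabilizer G Δ₂).index := by
  classical
  have hp' : p.Prime := Fact.out
  obtain ⟨g, ⟨a, ha⟩, hg1⟩ : ∃ g : G, (∃ a, orderOf g = p ^ a) ∧ g ≠ 1 := by
    by_contra hcon
    push Not at hcon
    have hle : Subgroup.closure {g : G | ∃ k : ℕ, orderOf g = p ^ k} ≤ ⊥ :=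
      (Subgroup.closure_le _).mpr fun g hg => Subgroup.mem_bot.mpr (hcon g hg)
    rw [hgen] at hle
    refine hG ((Subgroup.eq_bot_iff_forall G).mpr fun y hy => ?_)
    exact congrArg Subtype.val (Subgroup.mem_bot.mp (hle (Subgroup.mem_top (⟨y, hy⟩ : G))))
  obtain ⟨x, hgx⟩ : ∃ x : Ω, g • x ≠ x := by
    by_contra hcon
    push Not at hcon
    exact hg1 (Subtype.ext (Equiv.Perm.ext fun w => hcon w))
  have hex : ∃ j, g ^ p ^ j • x = x := ⟨a, by rw [← ha, pow_orderOf_eq_one, one_smul]⟩
  obtain ⟨j, hj⟩ : ∃ j, Nat.find hex = j + 1 := by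
    refine ⟨Nat.find hex - 1, ?_⟩
    have : Nat.find hex ≠ 0 := fun h => hgx (by have := Nat.find_spec hex; rwa [h, pow_zero, pow_one] at this)
    omega
  set h := g ^ p ^ j with hh
  have hh1 : h • x ≠ x := Nat.find_min hex (by omega)
  have hhp : h ^ p • x = x := by
    have := Nat.find_spec hex
    rwa [hj, pow_succ, pow_mul] at this
  have hiter : ∀ i : ℕ, h ^ i • x = h ^ (i % p) • x := by
    intro i
    conv_lhs => rw [← Nat.mod_add_div i p, pow_add, pow_mul, mul_smul]
    congr 1
    induction i / p with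
    | zero => rw [pow_zero, one_smul]
    | succ m hm => rw [pow_succ, mul_smul, hhp, hm]
  set D : Finset Ω := ((Finset.range p).image fun i => h ^ i • x).erase x with hD
  refine ⟨{x}, ↑D, Set.singleton_nonempty x, ⟨h • x, ?_⟩, ?_, ?_⟩
  · exact Finset.mem_coe.mpr (Finset.mem_erase.mpr
      ⟨hh1, Finset.mem_image.mpr ⟨1, Finset.mem_range.mpr hp'.one_lt, by rw [pow_one]⟩⟩)
  · exact Set.disjoint_singleton_left.mpr fun hx => (Finset.mem_erase.mp (Finset.mem_coe.mp hx)).1 rfl
  set M := MulAction.stabilizer G ({x} : Set Ω) ⊓ MulAction.stabilizer G (↑D : Set Ω) with hM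
  by_contra hidx
  -- `M` contains a Sylow subgroup of `G`
  obtain ⟨P, hP⟩ : ∃ P : Sylow p G, (P : Subgroup G) ≤ M := by
    set S : Sylow p M := default
    obtain ⟨P, hP⟩ := (S.2.map M.subtype).exists_le_sylow
    refine ⟨P, le_trans ?_ (Subgroup.map_subtype_le (S : Subgroup M))⟩
    rw [← Subgroup.relIndex_eq_one]
    obtain ⟨n, hn⟩ := IsPGroup.iff_card.mp P.2
    obtain ⟨b, -, hb⟩ := (Nat.dvd_prime_pow hp').mp (hn ▸ Subgroup.relIndex_dvd_card ((S : Subgroup M).map M.subtype) (P : Subgroup G))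
    rcases Nat.eq_zero_or_pos b with rfl | hb0
    · rwa [pow_zero] at hb
    exfalso
    have h1 : p ∣ ((S : Subgroup M).map M.subtype).index := by
      rw [← Subgroup.relIndex_mul_index hP, hb]
      exact Dvd.dvd.mul_right (dvd_pow_self p hb0.ne') _
    rw [Subgroup.index_map_subtype] at h1
    rcases hp'.dvd_mul.mp h1 with h2 | h2
    · exact S.not_dvd_index h2
    · exact hidx h2
  have hDcard : D.card < p := by
    have hx0 : x ∈ (Finset.range p).image fun i => h ^ i • x :=
      Finset.mem_image.mpr ⟨0, Finset.mem_range.mpr hp'.pos, by rw [pow_zero, one_smul]⟩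
    rw [hD, Finset.card_erase_of_mem hx0]
    have := Finset.card_image_le (s := Finset.range p) (f := fun i => h ^ i • x)
    rw [Finset.card_range] at this
    have := hp'.pos
    omega
  -- which fixes the orbit pointwise
  have hfix : ∀ m ∈ (P : Subgroup G), ∀ w ∈ insert x D, m • w = w := by
    intro m hm w hw
    have hmM := hP hm
    rcases Finset.mem_insert.mp hw with rfl | hw
    · have := MulAction.mem_stabilizer_iff.mp hmM.1
      rw [Set.smul_set_singleton] at this
      exact Set.singleton_eq_singleton_iff.mp this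
    by_contra hne
    obtain ⟨k, hk⟩ := P.2.card_orbit w
    have hsub : MulAction.orbit (↥(P : Subgroup G)) w ⊆ (↑D : Set Ω) := by
      rintro _ ⟨⟨m', hm'⟩, rfl⟩
      have := MulAction.mem_stabilizer_iff.mp (hP hm').2
      exact this.subset (Set.smul_mem_smul_set (Finset.mem_coe.mpr hw))
    have h1 := Set.ncard_le_ncard hsub (Finset.finite_toSet D)
    rw [Set.ncard_coe_finset, ← Nat.card_coe_set_eq, hk] at h1
    rcases Nat.eq_zero_or_pos k with rfl | hk0
    · rw [pow_zero, Nat.card_coe_set_eq] at hk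
      exact hne ((Set.ncard_le_one (Set.toFinite _)).mp hk.le _ ⟨⟨m, hm⟩, rfl⟩ w (MulAction.mem_orbit_self w))
    · exact absurd h1 (not_le.mpr (lt_of_lt_of_le hDcard (Nat.le_self_pow hk0.ne' p)))
  set N := ⨅ i : ℕ, MulAction.stabilizer G (h ^ i • x) with hN
  have hPN : (P : Subgroup G) ≤ N := by
    refine le_iInf fun i m hm => MulAction.mem_stabilizer_iff.mpr (hfix m hm _ ?_)
    rw [hiter i]
    by_cases hx : h ^ (i % p) • x = x
    · rw [hx]; exact Finset.mem_insert_self x D
    · exact Finset.mem_insert_of_mem (Finset.mem_erase.mpr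
        ⟨hx, Finset.mem_image.mpr ⟨i % p, Finset.mem_range.mpr (Nat.mod_lt i hp'.pos), rfl⟩⟩)
  have hnorm : Subgroup.zpowers h ≤ Subgroup.normalizer (N : Set G) := by
    rw [Subgroup.zpowers_le, Subgroup.mem_normalizer_iff]
    intro m
    simp only [hN, Subgroup.mem_iInf, MulAction.mem_stabilizer_iff]
    constructor
    · intro hm i
      have he : h ^ i • x = h • h ^ (i + (p - 1)) • x := by
        rw [← mul_smul, ← pow_succ', hiter i, hiter (i + (p - 1) + 1),
          show i + (p - 1) + 1 = i + p by have := hp'.pos; omega, Nat.add_mod_right]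
      rw [he, mul_smul, mul_smul, inv_smul_smul, hm]
    · intro hm i
      have := hm (i + 1)
      rw [pow_succ', mul_smul, mul_smul, mul_smul, inv_smul_smul] at this
      exact MulAction.injective h this
  have hgp : IsPGroup p (Subgroup.zpowers g) := IsPGroup.of_card (n := a) (by rw [Nat.card_zpowers, ha])
  have hhN := Cfsg.Lib.SylowFix.le_of_normalizing P hPN
    (hgp.to_le (Subgroup.zpowers_le.mpr (pow_mem (Subgroup.mem_zpowers g) _))) hnorm (Subgroup.mem_zpowers h)
  have := (Subgroup.mem_iInf.mp hhN) 0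
  rw [pow_zero, one_smul, MulAction.mem_stabilizer_iff] at this
  exact hh1 this

end Cfsg.Agent.S4170
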