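import Cfsg.Statements.S4176
import Cfsg.Agent.SolvStruct.CoprimeOrbits

set_option autoImplicit false
open Cfsg
open Cfsg.Lib.SolvStruct.CoprimeOrbits


namespace Cfsg.Agent.S4176

/-- Let k be a field of prime characteristic p, H a finite p-soluble group and ρ a k-linear representation of H on V. Let a be a vector that is fixed by some Sylow p-subgroup of H and whose H-orbit spans V. Then the space of H-fixed vectors has dimension at most 1, and every vector b whose H-orbit has size coprime to the size of the orbit of a is fixed by H. -/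
theorem result {k V H : Type*} [Field k] (p : ℕ) [Fact p.Prime] [CharP k p] [AddCommGroup V] [Module k V]
    [Group H] [Finite H] (hsol : Cfsg.IsPSolvable p H) (ρ : Representation k H V) (a : V)
    (hfix : ∃ P : Sylow p H, ∀ x : H, x ∈ (P : Subgroup H) → ρ x a = a)
    (hspan : Submodule.span k {u : V | ∃ h : H, ρ h a = u} = ⊤) :
    Module.finrank k ρ.invariants ≤ 1 ∧
    ∀ b : V, (Nat.card {u : V | ∃ h : H, ρ h a = u}).Coprime (Nat.card {u : V | ∃ h : H, ρ h b = u}) → ∀ h : H, ρ h b = b := by
  classical
  have hρ : ∀ (g g' : H) (w : V), ρ (g * g') w = ρ g (ρ g' w) := fun g g' w => by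
    rw [map_mul]; rfl
  obtain ⟨P, hP⟩ := hfix
  have hspan' : Submodule.span k (Set.range fun h : H => ρ h a) = ⊤ := hspan
  constructor
  · refine le_trans (Submodule.finrank_mono
      (t := Submodule.span k {∑ u ∈ (Set.finite_range fun h : H => ρ h a).toFinset, u}) ?_)
      ((finrank_span_le_card _).trans (by simp))
    exact fun v hv => mem_span_orbit_sum p hsol ρ a P hP hspan' v hv
  · intro b hcop
    letI : MulAction H V :=
      { smul := fun h v => ρ h v
        one_smul := fun v => by show ρ 1 v = v; rw [map_one]; rfl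
        mul_smul := hρ }
    set A := MulAction.stabilizer H a
    set B := MulAction.stabilizer H b
    have eA : A.index = Nat.card {u : V | ∃ h : H, ρ h a = u} := by
      rw [MulAction.index_stabilizer, ← Nat.card_coe_set_eq]; rfl
    have eB : B.index = Nat.card {u : V | ∃ h : H, ρ h b = u} := by
      rw [MulAction.index_stabilizer, ← Nat.card_coe_set_eq]; rfl
    rw [← eA, ← eB] at hcop
    have hAp : ¬ p ∣ A.index := fun h => P.not_dvd_index
      (h.trans (Subgroup.index_dvd_of_le fun x hx => MulAction.mem_stabilizer_iff.2 (hP x hx)))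
    have hAB : A.relIndex B = A.index := by
      have e1 : A.relIndex B * B.index = (A ⊓ B).index := by
        rw [← Subgroup.inf_relIndex_right, Subgroup.relIndex_mul_index inf_le_right]
      refine Nat.eq_of_mul_eq_mul_right (Nat.pos_of_ne_zero Subgroup.index_ne_zero_of_finite) (e1.trans ?_)
      exact le_antisymm Subgroup.index_inf_le (Nat.le_of_dvd (Nat.pos_of_ne_zero Subgroup.index_ne_zero_of_finite)
        (hcop.mul_dvd_of_dvd_of_dvd (Subgroup.index_dvd_of_le inf_le_left) (Subgroup.index_dvd_of_le inf_le_right)))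
    -- the orbit of `a` under `B` is the whole orbit
    have horb : Set.range (fun x : B => ρ (x : H) a) = Set.range (fun h : H => ρ h a) := by
      refine Set.eq_of_subset_of_ncard_le (by rintro _ ⟨x, rfl⟩; exact ⟨_, rfl⟩) ?_ (Set.finite_range _)
      refine le_of_eq ?_
      have h1 : (MulAction.stabilizer B a).index = A.relIndex B := rfl
      rw [hAB, MulAction.index_stabilizer, MulAction.index_stabilizer] at h1
      exact h1.symm
    obtain ⟨Q⟩ := (inferInstance : Nonempty (Sylow p (A.subgroupOf B)))
    let Q' : Sylow p B := (Q.2.map (A.subgroupOf B).subtype).toSylow (by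
      rw [Subgroup.index_map_subtype]
      exact (Fact.out : p.Prime).not_dvd_mul Q.not_dvd_index (by
        show ¬ p ∣ A.relIndex B
        rw [hAB]; exact hAp))
    have hQ' : ∀ x : B, x ∈ (Q' : Subgroup B) → ρ (x : H) a = a := by
      rintro x ⟨y, -, rfl⟩
      exact y.2
    have hb := mem_span_orbit_sum p (isPSolvable_subgroup hsol Fact.out B) (ρ.comp B.subtype) a Q' hQ'
      (by rw [← hspan']; exact congrArg (Submodule.span k) horb) b (fun x => x.2)
    obtain ⟨c, hcb⟩ := Submodule.mem_span_singleton.1 hb
    intro h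
    rw [← hcb]
    rw [map_smul, map_sum]
    congr 1
    have hfin : (Set.finite_range fun x : B => (ρ.comp B.subtype) x a).toFinset =
        (Set.finite_range fun h : H => ρ h a).toFinset := Set.Finite.toFinset_inj.2 horb
    rw [hfin]
    refine Finset.sum_bij (fun u _ => ρ h u) (fun u hu => ?_) (fun u _ u' _ e => smul_left_cancel h e)
      (fun u hu => ?_) (fun _ _ => rfl)
    · obtain ⟨g, rfl⟩ := (Set.Finite.mem_toFinset _).1 hu
      exact (Set.Finite.mem_toFinset _).2 ⟨h * g, hρ h g a⟩
    · obtain ⟨g, rfl⟩ := (Set.Finite.mem_toFinset _).1 hu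
      exact ⟨ρ (h⁻¹ * g) a, (Set.Finite.mem_toFinset _).2 ⟨_, rfl⟩, by rw [← hρ, mul_inv_cancel_left]⟩

end Cfsg.Agent.S4176
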