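import Cfsg.Statements.S4177
import Cfsg.Agent.SolvStruct.Basics

set_option autoImplicit false
open Cfsg

namespace Cfsg.Agent.S4177

/-- Let k be a field whose characteristic does not divide the order of the finite group H (for instance a field of characteristic zero), and ρ a k-linear representation of H on V. Let a be a vector whose H-orbit spans V. Then the space of H-fixed vectors has dimension at most 1, and every vector b whose H-orbit has size coprime to the size of the orbit of a is fixed by H. -/
theorem result {k V H : Type*} [Field k] [AddCommGroup V] [Module k V] [Group H] [Finite H]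
    (hchar : ¬ ringChar k ∣ Nat.card H) (ρ : Representation k H V) (a : V)
    (hspan : Submodule.span k {u : V | ∃ h : H, ρ h a = u} = ⊤) :
    Module.finrank k ρ.invariants ≤ 1 ∧
    ∀ b : V, (Nat.card {u : V | ∃ h : H, ρ h a = u}).Coprime (Nat.card {u : V | ∃ h : H, ρ h b = u}) → ∀ h : H, ρ h b = b := by
  classical
  haveI := Fintype.ofFinite H
  have hN : ((Nat.card H : ℕ) : k) ≠ 0 := fun h0 => hchar ((ringChar.spec k _).1 h0)
  let T : V →ₗ[k] V := ∑ h : H, ρ h
  have hTapp : ∀ v, T v = ∑ h : H, ρ h v := fun v => LinearMap.sum_apply _ _ _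
  have hTconj : ∀ (g : H) (v : V), T (ρ g v) = T v := by
    intro g v
    rw [hTapp, hTapp]
    refine Fintype.sum_equiv (Equiv.mulRight g) _ _ fun h => ?_
    rw [Equiv.coe_mulRight, map_mul, Module.End.mul_apply]
  have hTfix : ∀ (g : H) (v : V), ρ g (T v) = T v := by
    intro g v
    rw [hTapp, map_sum]
    refine Fintype.sum_equiv (Equiv.mulLeft g) _ _ fun h => ?_
    rw [Equiv.coe_mulLeft, map_mul, Module.End.mul_apply]
  have hinvT : ∀ v : V, (∀ g, ρ g v = v) → v = ((Nat.card H : ℕ) : k)⁻¹ • T v := by
    intro v hv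
    rw [hTapp, Finset.sum_congr rfl (fun h _ => hv h), Finset.sum_const, Finset.card_univ,
      ← Nat.card_eq_fintype_card, ← Nat.cast_smul_eq_nsmul k, smul_smul, inv_mul_cancel₀ hN, one_smul]
  have hTspan : ∀ v, T v ∈ Submodule.span k {T a} := by
    intro v
    have : (⊤ : Submodule k V) ≤ (Submodule.span k {T a}).comap T := by
      rw [← hspan, Submodule.span_le]
      rintro _ ⟨h, rfl⟩
      rw [SetLike.mem_coe, Submodule.mem_comap, hTconj]
      exact Submodule.mem_span_singleton_self _
    exact this (Submodule.mem_top)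
  constructor
  · have hle : ρ.invariants ≤ Submodule.span k {T a} := fun v hv => by
      rw [hinvT v (Representation.mem_invariants (ρ := ρ) v |>.1 hv)]
      exact Submodule.smul_mem _ _ (hTspan v)
    refine (Submodule.finrank_mono hle).trans ?_
    exact (finrank_span_le_card ({T a} : Set V)).trans (by simp)
  intro b hcop g
  -- the two stabilisers
  let St : V → Subgroup H := fun v =>
    { carrier := {h | ρ h v = v}
      one_mem' := by simp
      mul_mem' := fun {x y} hx hy => by
        show ρ (x * y) v = v
        rw [map_mul, Module.End.mul_apply, show ρ y v = v from hy]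
        exact hx
      inv_mem' := fun {x} hx => by
        show ρ x⁻¹ v = v
        conv_lhs => rw [← (show ρ x v = v from hx)]
        rw [← Module.End.mul_apply, ← map_mul, inv_mul_cancel, map_one, Module.End.one_apply] }
  have hst : ∀ (v : V) (x y : H), ρ x v = ρ y v ↔ x⁻¹ * y ∈ St v := by
    intro v x y
    show _ ↔ ρ (x⁻¹ * y) v = v
    rw [map_mul, Module.End.mul_apply]
    constructor
    · intro h
      rw [← h, ← Module.End.mul_apply, ← map_mul, inv_mul_cancel, map_one, Module.End.one_apply]
    · intro h
      conv_lhs => rw [← h]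
      rw [← Module.End.mul_apply, ← map_mul, mul_inv_cancel, map_one, Module.End.one_apply]
  have horb : ∀ v : V, Nat.card {u : V | ∃ h : H, ρ h v = u} = (St v).index := by
    intro v
    rw [Subgroup.index_eq_card]
    refine (Nat.card_congr (Equiv.ofBijective (Quotient.lift (fun h : H => (⟨ρ h v, h, rfl⟩ : {u : V | ∃ h : H, ρ h v = u}))
      (fun x y hxy => Subtype.ext ((hst v x y).2 (QuotientGroup.leftRel_apply.1 hxy)))) ⟨?_, ?_⟩)).symm
    · intro x y
      induction x using QuotientGroup.induction_on with
      | _ x =>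
        induction y using QuotientGroup.induction_on with
        | _ y => exact fun h => QuotientGroup.eq.2 ((hst v x y).1 (congrArg Subtype.val h))
    · rintro ⟨_, h, rfl⟩
      exact ⟨(h : H ⧸ St v), rfl⟩
  rw [horb, horb] at hcop
  set S := St b
  -- every element of the orbit of `a` comes from `S`
  have hprod : ∀ h : H, ∃ s ∈ S, ρ h a = ρ s a := by
    intro h
    let f : S ⧸ (St a).subgroupOf S → H ⧸ St a := Quotient.map (fun s => (s : H)) fun x y hxy => by
      exact QuotientGroup.leftRel_apply.2 (QuotientGroup.leftRel_apply.1 hxy : x⁻¹ * y ∈ (St a).subgroupOf S)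
    have hinj : Function.Injective f := by
      intro x y
      induction x using QuotientGroup.induction_on with
      | _ x =>
        induction y using QuotientGroup.induction_on with
        | _ y => exact fun h => QuotientGroup.eq.2 (QuotientGroup.eq.1 h : (x : H)⁻¹ * y ∈ St a)
    have hdvd : (St a).index ∣ (St a).relIndex S := by
      refine hcop.dvd_of_dvd_mul_right ?_
      rw [← Subgroup.inf_relIndex_right, Subgroup.relIndex_mul_index inf_le_right]
      exact Subgroup.index_dvd_of_le inf_le_left
    have hcard : Nat.card (S ⧸ (St a).subgroupOf S) = Nat.card (H ⧸ St a) := by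
      refine le_antisymm (Nat.card_le_card_of_injective f hinj) ?_
      rw [← Subgroup.index_eq_card]
      exact Nat.le_of_dvd Nat.card_pos hdvd
    obtain ⟨q, hq⟩ := ((Nat.bijective_iff_injective_and_card f).2 ⟨hinj, hcard⟩).2 (h : H ⧸ St a)
    obtain ⟨s, rfl⟩ := QuotientGroup.mk_surjective q
    exact ⟨s, s.2, ((hst a _ _).2 (QuotientGroup.eq.1 hq)).symm⟩
  let U : V →ₗ[k] V := ∑ s : S, ρ (s : H)
  have hUapp : ∀ v, U v = ∑ s : S, ρ (s : H) v := fun v => LinearMap.sum_apply _ _ _
  have hUconj : ∀ h : H, U (ρ h a) = U a := by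
    intro h
    obtain ⟨s, hs, he⟩ := hprod h
    rw [he, hUapp, hUapp]
    refine Fintype.sum_equiv (Equiv.mulRight (⟨s, hs⟩ : S)) _ _ fun t => ?_
    rw [Equiv.coe_mulRight, Subgroup.coe_mul, map_mul, Module.End.mul_apply]
  have hUT : U (T a) = ((Nat.card H : ℕ) : k) • U a := by
    rw [hTapp, map_sum, Finset.sum_congr rfl (fun h _ => hUconj h), Finset.sum_const, Finset.card_univ,
      ← Nat.card_eq_fintype_card, Nat.cast_smul_eq_nsmul k]
  have hUT' : U (T a) = ((Nat.card S : ℕ) : k) • T a := by
    rw [hUapp, Finset.sum_congr rfl (fun (s : S) _ => hTfix (s : H) a), Finset.sum_const, Finset.card_univ,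
      ← Nat.card_eq_fintype_card, Nat.cast_smul_eq_nsmul k]
  have hUspan : ∀ v, U v ∈ Submodule.span k {U a} := by
    intro v
    have : (⊤ : Submodule k V) ≤ (Submodule.span k {U a}).comap U := by
      rw [← hspan, Submodule.span_le]
      rintro _ ⟨h, rfl⟩
      rw [SetLike.mem_coe, Submodule.mem_comap, hUconj]
      exact Submodule.mem_span_singleton_self _
    exact this (Submodule.mem_top)
  have hS0 : ((Nat.card S : ℕ) : k) ≠ 0 := fun h0 =>
    hchar (((ringChar.spec k _).1 h0).trans (Subgroup.card_subgroup_dvd_card S))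
  have hb : U b = ((Nat.card S : ℕ) : k) • b := by
    rw [hUapp, Finset.sum_congr rfl (fun (s : S) _ => (s.2 : ρ (s : H) b = b)), Finset.sum_const, Finset.card_univ,
      ← Nat.card_eq_fintype_card, Nat.cast_smul_eq_nsmul k]
  obtain ⟨c, hc⟩ := Submodule.mem_span_singleton.1 (hUspan b)
  have hUa : ρ g (U a) = U a := by
    have h1 : U a = ((Nat.card H : ℕ) : k)⁻¹ • (((Nat.card S : ℕ) : k) • T a) := by
      rw [← hUT', hUT, smul_smul, inv_mul_cancel₀ hN, one_smul]
    rw [h1, map_smul, map_smul, hTfix]
  have hb' : b = ((Nat.card S : ℕ) : k)⁻¹ • (c • U a) := by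
    rw [hc, hb, smul_smul, inv_mul_cancel₀ hS0, one_smul]
  rw [hb', map_smul, map_smul, hUa]

end Cfsg.Agent.S4177
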