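import Cfsg.Statements.S4184
import Cfsg.Agent.SolvStruct.Basics

set_option autoImplicit false
open Cfsg

namespace Cfsg.Agent.S4184

section aux
variable {G : Type*} [Group G] [Finite G]

private lemma fact_le_of_le (p : ℕ) {H K : Subgroup G} (h : H ≤ K) :
    (Nat.card H).factorization p ≤ (Nat.card K).factorization p :=
  (Nat.factorization_le_iff_dvd Nat.card_pos.ne' Nat.card_pos.ne').2 (Subgroup.card_dvd_of_le h) p

private lemma centralizer_mul_le {u v : G} (h : Commute u v)
    (hc : (orderOf v).Coprime (orderOf u)) :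
    Subgroup.centralizer ({u * v} : Set G) ≤ Subgroup.centralizer ({u} : Set G) := by
  obtain ⟨m, hm⟩ := exists_pow_eq_self_of_coprime hc
  have hu : u = ((u * v) ^ orderOf v) ^ m := by
    rw [h.mul_pow, pow_orderOf_eq_one, mul_one, hm]
  intro g hg
  rw [Subgroup.mem_centralizer_singleton_iff] at hg ⊢
  rw [hu]
  exact ((Commute.pow_right (Commute.pow_right hg _) _ : Commute g _)).eq

/-- an element central in some Sylow p-subgroup, or in any given one -/
private lemma exists_central (p : ℕ) [Fact p.Prime] (E : Subgroup G) (hE : IsPGroup p E)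
    (hne : E ≠ ⊥) :
    ∃ w ∈ E, w ≠ 1 ∧ ∀ e ∈ E, e * w = w * e := by
  haveI : Nontrivial E := (Subgroup.nontrivial_iff_ne_bot E).2 hne
  obtain ⟨⟨w, hw⟩, hw1⟩ := (haveI := hE.center_nontrivial; exists_ne (1 : Subgroup.center E))
  refine ⟨w, w.2, ?_, fun e he => ?_⟩
  · intro h1; apply hw1; apply Subtype.ext; exact Subtype.ext h1
  · simpa using congrArg Subtype.val (Subgroup.mem_center_iff.1 hw ⟨e, he⟩)

end aux

/-- Let G and M be finite groups with trivial centres and the same set of conjugacy class sizes, and suppose the prime graph of M is disconnected: the prime divisors of #M split into two non-empty parts such that M has no element of order pq with p in one part and q in the other. Then #G = #M. -/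
theorem result {G M : Type*}
    [Group G] [Finite G] [Group M] [Finite M] (hZG : Subgroup.center G = ⊥) (hZM : Subgroup.center M = ⊥)
    (h : Set.range (fun g : G => (Subgroup.centralizer ({g} : Set G)).index) = Set.range (fun g : M => (Subgroup.centralizer ({g} : Set M)).index))
    (hdisc : ∃ A : Set ℕ, (∃ a ∈ A, a.Prime ∧ a ∣ Nat.card M) ∧ (∃ b ∉ A, b.Prime ∧ b ∣ Nat.card M) ∧
      ∀ a ∈ A, ∀ b ∉ A, a.Prime → b.Prime → a ∣ Nat.card M → b ∣ Nat.card M → ¬ ∃ x : M, orderOf x = a * b) :
    Nat.card G = Nat.card M := by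
  classical
  obtain ⟨A, ⟨a0, ha0A, ha0, ha0M⟩, ⟨b0, hb0A, hb0, hb0M⟩, hA⟩ := hdisc
  set L := Nat.card M with hL
  have hL0 : L ≠ 0 := Nat.card_pos.ne'
  -- every prime has an opposite one
  have opp : ∀ r : ℕ, ∃ b, b.Prime ∧ b ∣ L ∧ ¬ (b ∈ A ↔ r ∈ A) := by
    intro r
    by_cases hr : r ∈ A
    · exact ⟨b0, hb0, hb0M, by tauto⟩
    · exact ⟨a0, ha0, ha0M, by tauto⟩
  -- the centralizers in M
  have keyM : ∀ x : M, x ≠ 1 → ∀ p q : ℕ, p.Prime → q.Prime →
      p ∣ Nat.card (Subgroup.centralizer ({x} : Set M)) →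
      q ∣ Nat.card (Subgroup.centralizer ({x} : Set M)) → (p ∈ A ↔ q ∈ A) := by
    intro x hx
    obtain ⟨s, hs, hsx⟩ := Nat.exists_prime_and_dvd (mt orderOf_eq_one_iff.1 hx)
    set w := x ^ (orderOf x / s) with hw
    have how : orderOf w = s := orderOf_pow_orderOf_div (orderOf_pos x).ne' hsx
    have hsL : s ∣ L := hsx.trans (orderOf_dvd_natCard x)
    have side : ∀ p : ℕ, p.Prime → p ∣ Nat.card (Subgroup.centralizer ({x} : Set M)) →
        (p ∈ A ↔ s ∈ A) := by
      intro p hp hpc
      haveI := Fact.mk hp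
      obtain ⟨u, hu⟩ := exists_prime_orderOf_dvd_card' p hpc
      have hou : orderOf (u : M) = p := by rw [Subgroup.orderOf_coe]; exact hu
      have hpL : p ∣ L := hou ▸ orderOf_dvd_natCard (u : M)
      have hcomm : Commute (u : M) w :=
        Commute.pow_right (Subgroup.mem_centralizer_singleton_iff.1 u.2) _
      by_contra hne
      have hps : p ≠ s := fun e => hne (by rw [e])
      have ho : orderOf ((u : M) * w) = p * s := by
        rw [hcomm.orderOf_mul_eq_mul_orderOf_of_coprime
          (by rw [hou, how]; exact (Nat.coprime_primes hp hs).2 hps), hou, how]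
      by_cases hpA : p ∈ A
      · exact hA p hpA s (by tauto) hp hs hpL hsL ⟨_, ho⟩
      · exact hA s (by tauto) p hpA hs hp hsL hpL ⟨_, by rw [ho, mul_comm]⟩
    intro p q hp hq hpc hqc
    exact (side p hp hpc).trans (side q hq hqc).symm
  have hcen : ∀ {X : Type _} [Group X] [Finite X] (x : X), Subgroup.center X = ⊥ → x ≠ 1 →
      (Subgroup.centralizer ({x} : Set X)).index ≠ 1 := by
    intro X _ _ x hZ hx hi
    rw [Subgroup.index_eq_one, Subgroup.centralizer_eq_top_iff_subset, Set.singleton_subset_iff,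
      SetLike.mem_coe, hZ, Subgroup.mem_bot] at hi
    exact hx hi
  -- transfer to G
  have keyG : ∀ x : G, x ≠ 1 → ∃ c : ℕ, (Subgroup.centralizer ({x} : Set G)).index * c = L ∧
      1 < c ∧ ∀ p q : ℕ, p.Prime → q.Prime → p ∣ c → q ∣ c → (p ∈ A ↔ q ∈ A) := by
    intro x hx
    obtain ⟨x', hx'⟩ : (Subgroup.centralizer ({x} : Set G)).index ∈
        Set.range (fun g : M => (Subgroup.centralizer ({g} : Set M)).index) := h ▸ ⟨x, rfl⟩
    simp only at hx'
    have hx'1 : x' ≠ 1 := by
      intro e
      apply hcen x hZG hx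
      rw [← hx', e]
      rw [Subgroup.index_eq_one, Subgroup.centralizer_eq_top_iff_subset, Set.singleton_subset_iff]
      exact Subgroup.one_mem _
    refine ⟨Nat.card (Subgroup.centralizer ({x'} : Set M)), ?_, ?_, keyM x' hx'1⟩
    · rw [← hx', Subgroup.index_mul_card]
    · haveI : Nontrivial (Subgroup.centralizer ({x'} : Set M)) :=
        ⟨⟨⟨x', Subgroup.mem_centralizer_singleton_iff.2 rfl⟩, 1,
          fun e => hx'1 (congrArg Subtype.val e)⟩⟩
      exact Finite.one_lt_card
  -- indices carrying full prime parts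
  have hfull : ∀ r : ℕ, r.Prime → r ∣ L → ∃ x : G,
      L.factorization r = ((Subgroup.centralizer ({x} : Set G)).index).factorization r := by
    intro r hr hrL
    obtain ⟨b, hb, hbL, hside⟩ := opp r
    haveI := Fact.mk hb
    obtain ⟨x, hx⟩ := exists_prime_orderOf_dvd_card' b hbL
    obtain ⟨g, hg⟩ : (Subgroup.centralizer ({x} : Set M)).index ∈
        Set.range (fun g : G => (Subgroup.centralizer ({g} : Set G)).index) := h.symm ▸ ⟨x, rfl⟩
    simp only at hg
    refine ⟨g, ?_⟩
    rw [hg, hL, ← Subgroup.index_mul_card (Subgroup.centralizer ({x} : Set M)),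
      Nat.factorization_mul Subgroup.index_ne_zero_of_finite Nat.card_pos.ne', Finsupp.add_apply]
    have hx1 : x ≠ 1 := fun e => hb.ne_one (by rw [← hx, e, orderOf_one])
    have : ¬ r ∣ Nat.card (Subgroup.centralizer ({x} : Set M)) := fun hd => hside
      (keyM x hx1 b r hb hr (by
        rw [← hx, ← Subgroup.orderOf_mk x (Subgroup.mem_centralizer_singleton_iff.2 rfl :
          x ∈ Subgroup.centralizer ({x} : Set M))]
        exact orderOf_dvd_natCard _) hd)
    rw [Nat.factorization_eq_zero_of_not_dvd this, add_zero]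
  have hdvd : L ∣ Nat.card G := by
    rw [← Nat.factorization_le_iff_dvd hL0 Nat.card_pos.ne']
    intro r
    by_cases hr : r.Prime ∧ r ∣ L
    · obtain ⟨x, hx⟩ := hfull r hr.1 hr.2
      rw [hx]
      exact (Nat.factorization_le_iff_dvd Subgroup.index_ne_zero_of_finite Nat.card_pos.ne').2
        (Subgroup.index_dvd_card _) r
    · rw [not_and_or] at hr
      rcases hr with hr | hr
      · simp [Nat.factorization_eq_zero_of_not_prime _ hr]
      · simp [Nat.factorization_eq_zero_of_not_dvd hr]
  by_contra hne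
  have hnd : ¬ Nat.card G ∣ L := fun e => hne (Nat.dvd_antisymm e hdvd)
  rw [← Nat.factorization_le_iff_dvd Nat.card_pos.ne' hL0, Finsupp.le_def] at hnd
  push Not at hnd
  obtain ⟨r, hr⟩ := hnd
  have hrp : r.Prime := by
    by_contra hn
    rw [Nat.factorization_eq_zero_of_not_prime _ hn,
      Nat.factorization_eq_zero_of_not_prime _ hn] at hr
    omega
  haveI := Fact.mk hrp
  -- card of centralizers
  have hcard : ∀ (x : G) (c : ℕ), (Subgroup.centralizer ({x} : Set G)).index * c = L → ∀ p : ℕ,
      (Nat.card (Subgroup.centralizer ({x} : Set G))).factorization p + L.factorization p =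
        (Nat.card G).factorization p + c.factorization p := by
    intro x c hc p
    have hc0 : c ≠ 0 := fun e => hL0 (by rw [← hc, e, mul_zero])
    rw [← hc, ← Subgroup.index_mul_card (Subgroup.centralizer ({x} : Set G)),
      Nat.factorization_mul Subgroup.index_ne_zero_of_finite Nat.card_pos.ne',
      Nat.factorization_mul Subgroup.index_ne_zero_of_finite hc0, Finsupp.add_apply,
      Finsupp.add_apply]
    ring
  -- r divides L
  have hrL : r ∣ L := by
    by_contra hn
    obtain ⟨R⟩ : Nonempty (Sylow r G) := inferInstance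
    have hRne : (R : Subgroup G) ≠ ⊥ := R.ne_bot_of_dvd_card
      (Nat.dvd_of_factorization_pos (by omega))
    have htop : Subgroup.centralizer ((R : Subgroup G) : Set G) = ⊤ := by
      by_contra hC
      obtain ⟨g, hg⟩ := Cfsg.Lib.SolvStruct.exists_not_mem_conj _ hC
      have hg1 : g ≠ 1 := by
        intro e; exact hg 1 (by simp [e])
      obtain ⟨c, hc, -, -⟩ := keyG g hg1
      obtain ⟨T⟩ : Nonempty (Sylow r (Subgroup.centralizer ({g} : Set G))) := inferInstance
      obtain ⟨Q, hQ⟩ := (T.isPGroup'.map (Subgroup.centralizer ({g} : Set G)).subtype).exists_le_sylow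
      have hQeq : T.1.map (Subgroup.centralizer ({g} : Set G)).subtype = (Q : Subgroup G) := by
        apply Subgroup.eq_of_le_of_card_ge hQ
        rw [Q.card_eq_multiplicity,
          Nat.card_congr (Subgroup.equivMapOfInjective T.1 _ (Subgroup.subtype_injective _)).symm.toEquiv,
          T.card_eq_multiplicity]
        apply Nat.pow_le_pow_right hrp.pos
        have := hcard g c hc r
        rw [Nat.factorization_eq_zero_of_not_dvd hn] at this
        omega
      obtain ⟨k, hk⟩ := MulAction.exists_smul_eq G R Q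
      apply hg k
      rw [Subgroup.mem_centralizer_iff]
      intro e he
      have : k * e * k⁻¹ ∈ (Q : Subgroup G) := by
        rw [← hk, Sylow.coe_subgroup_smul]
        exact Subgroup.smul_mem_pointwise_smul e (MulAut.conj k) _ he
      rw [← hQeq] at this
      obtain ⟨t, -, ht⟩ := this
      have := Subgroup.mem_centralizer_singleton_iff.1 t.2
      simp only [Subgroup.coe_subtype] at ht
      rw [ht] at this
      calc e * (k⁻¹ * g * k) = k⁻¹ * ((k * e * k⁻¹) * g) * k := by group
        _ = k⁻¹ * (g * (k * e * k⁻¹)) * k := by rw [this]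
        _ = (k⁻¹ * g * k) * e := by group
    rw [Subgroup.centralizer_eq_top_iff_subset, hZG] at htop
    exact hRne (le_bot_iff.1 htop)
  obtain ⟨b, hb, hbL, hside⟩ := opp r
  haveI := Fact.mk hb
  -- y central in a Sylow b-subgroup
  have central : ∀ p : ℕ, [Fact p.Prime] → p ∣ L → ∀ P : Sylow p G, ∀ y ∈ (P : Subgroup G), y ≠ 1 →
      (∀ e ∈ (P : Subgroup G), e * y = y * e) → ∀ c : ℕ,
      (Subgroup.centralizer ({y} : Set G)).index * c = L → p ∣ c := by
    intro p _ hpL P y _ _ hy c hc
    have h1 := fact_le_of_le p (fun e he => Subgroup.mem_centralizer_singleton_iff.2 (hy e he) :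
      (P : Subgroup G) ≤ Subgroup.centralizer ({y} : Set G))
    rw [P.card_eq_multiplicity, Nat.Prime.factorization_pow (Fact.out), Finsupp.single_eq_same] at h1
    have h2 := hcard y c hc p
    have hpp : p.Prime := Fact.out
    have h3 : 0 < L.factorization p := hpp.factorization_pos_of_dvd hL0 hpL
    exact Nat.dvd_of_factorization_pos (by omega)
  obtain ⟨S⟩ : Nonempty (Sylow b G) := inferInstance
  obtain ⟨y, hyS, hy1, hyc⟩ := exists_central b _ S.isPGroup'
    (S.ne_bot_of_dvd_card (hbL.trans hdvd))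
  obtain ⟨cy, hcy, -, hcys⟩ := keyG y hy1
  have hby : b ∣ cy := central b hbL S y hyS hy1 hyc cy hcy
  have hry : ¬ r ∣ cy := fun hd => hside (hcys b r hb hrp hby hd)
  set Cy := Subgroup.centralizer ({y} : Set G) with hCy
  obtain ⟨T⟩ : Nonempty (Sylow r Cy) := inferInstance
  set E := T.1.map Cy.subtype with hE
  have hEp : IsPGroup r E := T.isPGroup'.map _
  have hEy : E ≤ Cy := Subgroup.map_subtype_le _
  have hEcard : Nat.card E = r ^ (Nat.card Cy).factorization r := by
    rw [hE, Nat.card_congr (Subgroup.equivMapOfInjective T.1 _ (Subgroup.subtype_injective _)).symm.toEquiv,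
      T.card_eq_multiplicity]
  have hyr := hcard y cy hcy r
  rw [Nat.factorization_eq_zero_of_not_dvd hry, ← hCy] at hyr
  have hEne : E ≠ ⊥ := by
    intro e
    rw [e, Subgroup.card_bot] at hEcard
    rcases Nat.pow_eq_one.1 hEcard.symm with e | e
    · exact hrp.ne_one e
    · omega
  obtain ⟨w, hwE, hw1, hwc⟩ := exists_central r E hEp hEne
  obtain ⟨j, hoy⟩ := IsPGroup.iff_orderOf.1 S.isPGroup' ⟨y, hyS⟩
  rw [Subgroup.orderOf_mk] at hoy
  have hbr : b ≠ r := fun e => hside (by rw [e])
  have hprod : ∀ u ∈ E, u ≠ 1 → ∀ cu : ℕ,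
      (Subgroup.centralizer ({u} : Set G)).index * cu = L →
      ∃ p : ℕ, p.Prime ∧ p ∣ cu ∧ p ∣ cy := by
    intro u hu hu1 cu hcu
    obtain ⟨i, hou⟩ := IsPGroup.iff_orderOf.1 hEp ⟨u, hu⟩
    rw [Subgroup.orderOf_mk] at hou
    have hco : (orderOf y).Coprime (orderOf u) := by
      rw [hoy, hou]; exact Nat.Coprime.pow _ _ ((Nat.coprime_primes hb hrp).2 hbr)
    have hcomm : Commute u y := Subgroup.mem_centralizer_singleton_iff.1 (hEy hu)
    have huy : u * y ≠ 1 := by
      intro e
      apply hu1
      rw [← orderOf_eq_one_iff]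
      have := hcomm.orderOf_mul_eq_mul_orderOf_of_coprime hco.symm
      rw [e, orderOf_one] at this
      exact Nat.eq_one_of_mul_eq_one_right this.symm
    obtain ⟨c, hc, hc1, -⟩ := keyG (u * y) huy
    obtain ⟨p, hp, hpc⟩ := Nat.exists_prime_and_dvd hc1.ne'
    have hle : ∀ v cv, (Subgroup.centralizer ({v} : Set G)).index * cv = L →
        Subgroup.centralizer ({u * y} : Set G) ≤ Subgroup.centralizer ({v} : Set G) → p ∣ cv := by
      intro v cv hv hle
      apply hpc.trans
      have : (Subgroup.centralizer ({v} : Set G)).index ∣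
          (Subgroup.centralizer ({u * y} : Set G)).index := Subgroup.index_dvd_of_le hle
      obtain ⟨d, hd⟩ := this
      refine ⟨d, ?_⟩
      apply Nat.eq_of_mul_eq_mul_left (Nat.pos_of_ne_zero
        (Subgroup.index_ne_zero_of_finite (H := Subgroup.centralizer ({v} : Set G))))
      rw [hv, ← hc, hd]; ring
    refine ⟨p, hp, hle u cu hcu (centralizer_mul_le hcomm hco), hle y cy hcy ?_⟩
    rw [hcomm.eq]
    exact centralizer_mul_le hcomm.symm hco.symm
  obtain ⟨cw, hcw, -, hcws⟩ := keyG w hw1
  obtain ⟨p, hp, hpw, hpy⟩ := hprod w hwE hw1 cw hcw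
  have hrw : ¬ r ∣ cw := fun hd => hside
    ((hcys b p hb hp hby hpy).trans (hcws p r hp hrp hpw hd))
  have hwr := hcard w cw hcw r
  rw [Nat.factorization_eq_zero_of_not_dvd hrw] at hwr
  set Cw := Subgroup.centralizer ({w} : Set G) with hCw
  obtain ⟨R, hER⟩ := hEp.exists_le_sylow
  obtain ⟨z, hzR, hz1, hzc⟩ := exists_central r _ R.isPGroup'
    (R.ne_bot_of_dvd_card (hrL.trans hdvd))
  have hEeq : E = (R : Subgroup G) ⊓ Cw := by
    apply Subgroup.eq_of_le_of_card_ge
      (le_inf hER fun e he => Subgroup.mem_centralizer_singleton_iff.2 (hwc e he))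
    obtain ⟨n, hn⟩ := IsPGroup.iff_card.1 (R.isPGroup'.to_le (inf_le_left : (R : Subgroup G) ⊓ Cw ≤ R))
    have h1 := fact_le_of_le r (inf_le_right : (R : Subgroup G) ⊓ Cw ≤ Cw)
    rw [hn, hrp.factorization_pow, Finsupp.single_eq_same] at h1
    rw [hEcard, hn]
    exact Nat.pow_le_pow_right hrp.pos (by omega)
  have hzE : z ∈ E := by
    rw [hEeq]
    exact ⟨hzR, Subgroup.mem_centralizer_singleton_iff.2 (hzc w (hER hwE)).symm⟩
  obtain ⟨cz, hcz, -, hczs⟩ := keyG z hz1
  obtain ⟨p', hp', hpz, hpy'⟩ := hprod z hzE hz1 cz hcz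
  exact hside ((hcys b p' hb hp' hby hpy').trans
    (hczs p' r hp' hrp hpz (central r hrL R z hzR hz1 hzc cz hcz)))

end Cfsg.Agent.S4184
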