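import Cfsg.Statements.S4186


set_option autoImplicit false
open Cfsg

namespace Cfsg.Agent.S4186

/-- Let T and X be subgroups of a group with T a finite 2-group normalizing X but not centralizing it. Then some element of T inverts some non-identity element of X under conjugation. -/
theorem result {G : Type*} [Group G] (T X : Subgroup G) [Finite ↥T] (hT : IsPGroup 2 ↥T) (hTN : T ≤ Subgroup.normalizer (X : Set G)) (hTC : ¬ T ≤ Subgroup.centralizer (X : Set G)) : ∃ t ∈ T, ∃ x ∈ X, x ≠ 1 ∧ t * x * t⁻¹ = x⁻¹ := by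
  classical
  haveI := Fintype.ofFinite ↥T
  obtain ⟨t, ht, hnt⟩ := Set.not_subset.1 hTC
  obtain ⟨k, hk⟩ := hT ⟨t, ht⟩
  have hk' : t ^ 2 ^ k ∈ Subgroup.centralizer (X : Set G) := by
    rw [show t ^ 2 ^ k = 1 from congrArg Subtype.val hk]; exact one_mem _
  have hex : ∃ j, t ^ 2 ^ j ∈ Subgroup.centralizer (X : Set G) := ⟨k, hk'⟩
  have hj := Nat.find_spec hex
  obtain ⟨i, hi⟩ : ∃ i, Nat.find hex = i + 1 := by
    refine Nat.exists_eq_succ_of_ne_zero fun h0 => hnt ?_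
    rw [h0] at hj; simpa using hj
  have hni := Nat.find_min hex (show i < Nat.find hex by omega)
  rw [hi, pow_succ, pow_mul] at hj
  set u := t ^ 2 ^ i
  obtain ⟨x, hx, hne⟩ : ∃ x ∈ X, u * x ≠ x * u := by
    by_contra hc
    push Not at hc
    exact hni (Subgroup.mem_centralizer_iff.2 fun x hx => (hc x hx).symm)
  have huX : u ∈ Subgroup.normalizer (X : Set G) := pow_mem (hTN ht) _
  have hxu : u * x * u⁻¹ ∈ X := (Subgroup.mem_normalizer_iff.1 huX x).1 hx
  refine ⟨u, pow_mem ht _, x⁻¹ * (u * x * u⁻¹), mul_mem (inv_mem hx) hxu, fun h => hne ?_, ?_⟩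
  · rw [inv_mul_eq_one, eq_mul_inv_iff_mul_eq] at h
    exact h.symm
  · have h2 : u ^ 2 * x = x * u ^ 2 := (Subgroup.mem_centralizer_iff.1 hj x hx).symm
    rw [mul_inv_rev, inv_inv]
    calc u * (x⁻¹ * (u * x * u⁻¹)) * u⁻¹ = (u * x * u⁻¹)⁻¹ * (u ^ 2 * x * (u ^ 2)⁻¹) := by
          rw [pow_two]; group
      _ = _ := by rw [h2, mul_inv_cancel_right]

end Cfsg.Agent.S4186
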