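import Cfsg.Statements.S4187
import Cfsg.Agent.RealSize.Main

set_option autoImplicit false
open Cfsg

namespace Cfsg.Agent.S4187

/-- Let G be a finite group. Call an element real when it is conjugate to its inverse, and consider the graph whose vertices are the primes dividing the size of some conjugacy class of real elements, two distinct primes being adjacent when their product divides such a class size. If this graph is disconnected — its vertex set splits into two non-empty parts such that no real class size is divisible by a prime from each part — then G is solvable. -/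
theorem result {G : Type*} [Group G] [Finite G] (π₁ π₂ : Set ℕ) (h₁ : π₁.Nonempty) (h₂ : π₂.Nonempty) (hcover : ∀ q : ℕ, q.Prime → (∃ n ∈ {n : ℕ | ∃ x : G, IsConj x x⁻¹ ∧ (Subgroup.centralizer ({x} : Set G)).index = n}, q ∣ n) → q ∈ π₁ ∨ q ∈ π₂) (hsub : ∀ q ∈ π₁ ∪ π₂, q.Prime ∧ ∃ n ∈ {n : ℕ | ∃ x : G, IsConj x x⁻¹ ∧ (Subgroup.centralizer ({x} : Set G)).index = n}, q ∣ n) (hdisj : Disjoint π₁ π₂) (hnoedge : ∀ a ∈ π₁, ∀ b ∈ π₂, ∀ n ∈ {n : ℕ | ∃ x : G, IsConj x x⁻¹ ∧ (Subgroup.centralizer ({x} : Set G)).index = n}, ¬ (a ∣ n ∧ b ∣ n)) : Group.IsSolvable G := by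
  classical
  by_cases heven : ∃ x : G, IsConj x x⁻¹ ∧ 2 ∣ (Subgroup.centralizer ({x} : Set G)).index
  swap
  · refine Cfsg.Lib.RealSize.isSolvable_of_no_real G fun x hx1 hxo hx => heven ⟨x, hx, ?_⟩
    exact Cfsg.Lib.RealSize.two_dvd_cs hx (Cfsg.Lib.RealSize.ne_one_of_odd hx1 hxo)
  obtain ⟨x₀, hx₀, hx₀2⟩ := heven
  have key : ∀ σ ρ : Set ℕ, σ.Nonempty → (∀ q ∈ σ, q.Prime ∧ ∃ x : G, IsConj x x⁻¹ ∧
      q ∣ (Subgroup.centralizer ({x} : Set G)).index) → 2 ∈ ρ → Disjoint ρ σ →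
      (∀ q : ℕ, q.Prime → (∃ x : G, IsConj x x⁻¹ ∧ q ∣ (Subgroup.centralizer ({x} : Set G)).index) → q ∈ ρ ∨ q ∈ σ) →
      (∀ a ∈ ρ, ∀ b ∈ σ, ∀ x : G, IsConj x x⁻¹ →
        ¬ (a ∣ (Subgroup.centralizer ({x} : Set G)).index ∧ b ∣ (Subgroup.centralizer ({x} : Set G)).index)) →
      Group.IsSolvable G := by
    intro σ ρ hσ hσsub h2 hd hcov hedge
    have h2σ : 2 ∉ σ := Set.disjoint_left.1 hd h2
    have S : Cfsg.Lib.RealSize.Split G σ := by
      refine ⟨h2σ, fun x hx => ?_⟩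
      by_cases hall : ∀ q : ℕ, q.Prime → q ∣ (Subgroup.centralizer ({x} : Set G)).index → q ∈ σ
      · exact Or.inl hall
      · push Not at hall
        obtain ⟨a, ha, had, haσ⟩ := hall
        have haρ : a ∈ ρ := (hcov a ha ⟨x, hx, had⟩).resolve_right haσ
        exact Or.inr fun b _ hbd hbσ => hedge a haρ b hbσ x hx ⟨had, hbd⟩
    obtain ⟨b, hb⟩ := hσ
    obtain ⟨hbp, t, htr, hbt⟩ := hσsub b hb
    have ht : t * t = 1 := by
      by_contra hne
      exact Cfsg.Lib.RealSize.pi'_of_real S htr hne b hbp hbt hb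
    refine Cfsg.Lib.RealSize.isSolvable_of_split S ht (fun e => hbp.ne_one (Nat.dvd_one.1 (e ▸ hbt))) ?_
    exact (S.pure t htr).resolve_right fun h => h b hbp hbt hb
  have hex : ∀ q ∈ π₁ ∪ π₂, q.Prime ∧ ∃ x : G, IsConj x x⁻¹ ∧
      q ∣ (Subgroup.centralizer ({x} : Set G)).index := fun q hq => by
    obtain ⟨hp, n, ⟨x, hx, rfl⟩, hd⟩ := hsub q hq
    exact ⟨hp, x, hx, hd⟩
  rcases hcover 2 Nat.prime_two ⟨_, ⟨x₀, hx₀, rfl⟩, hx₀2⟩ with h | h
  · exact key π₂ π₁ h₂ (fun q hq => hex q (Or.inr hq)) h hdisj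
      (fun q hq ⟨x, hx, hd⟩ => hcover q hq ⟨_, ⟨x, hx, rfl⟩, hd⟩)
      (fun a ha b hb x hx => hnoedge a ha b hb _ ⟨x, hx, rfl⟩)
  · exact key π₁ π₂ h₁ (fun q hq => hex q (Or.inl hq)) h hdisj.symm
      (fun q hq ⟨x, hx, hd⟩ => (hcover q hq ⟨_, ⟨x, hx, rfl⟩, hd⟩).symm)
      (fun a ha b hb x hx hab => hnoedge b hb a ha _ ⟨x, hx, rfl⟩ ⟨hab.2, hab.1⟩)

end Cfsg.Agent.S4187
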