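import Cfsg.Statements.S4192
import Cfsg.Agent.RealSize.TwoPart

set_option autoImplicit false
open Cfsg

namespace Cfsg.Agent.S4192

/-- Let G be a finite group; call an element real when it is conjugate to its inverse, and say that the real-class-size graph of a group is disconnected when the primes dividing its real class sizes split into two non-empty disjoint parts with no real class size divisible by a prime from each part. If the real-class-size graph of G is disconnected, then some real class size of G is even, and either the Sylow 2-subgroups of G are normal, or the subgroup K generated by the 2-elements of G (the smallest normal subgroup of odd index) again has a disconnected real-class-size graph and every real class size of K is odd or a power of 2. -/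
theorem result {G : Type*} [Group G] [Finite G] (h : (∃ π₁ π₂ : Set ℕ, π₁.Nonempty ∧ π₂.Nonempty ∧ Disjoint π₁ π₂ ∧ (∀ q ∈ π₁ ∪ π₂, q.Prime ∧ ∃ n ∈ {n : ℕ | ∃ x : G, IsConj x x⁻¹ ∧ (Subgroup.centralizer ({x} : Set G)).index = n}, q ∣ n) ∧ (∀ q : ℕ, q.Prime → (∃ n ∈ {n : ℕ | ∃ x : G, IsConj x x⁻¹ ∧ (Subgroup.centralizer ({x} : Set G)).index = n}, q ∣ n) → q ∈ π₁ ∨ q ∈ π₂) ∧ ∀ a ∈ π₁, ∀ b ∈ π₂, ∀ n ∈ {n : ℕ | ∃ x : G, IsConj x x⁻¹ ∧ (Subgroup.centralizer ({x} : Set G)).index = n}, ¬ (a ∣ n ∧ b ∣ n))) : (∃ n ∈ {n : ℕ | ∃ x : G, IsConj x x⁻¹ ∧ (Subgroup.centralizer ({x} : Set G)).index = n}, 2 ∣ n) ∧ ((∀ P : Sylow 2 G, (P : Subgroup G).Normal) ∨ ((∃ π₁ π₂ : Set ℕ, π₁.Nonempty ∧ π₂.Nonempty ∧ Disjoint π₁ π₂ ∧ (∀ q ∈ π₁ ∪ π₂, q.Prime ∧ ∃ n ∈ {n : ℕ | ∃ x : ↥(Subgroup.closure {g : G | ∃ k : ℕ, orderOf g = 2 ^ k}), IsConj x x⁻¹ ∧ (Subgroup.centralizer ({x} : Set ↥(Subgroup.closure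 {g : G | ∃ k : ℕ, orderOf g = 2 ^ k}))).index = n}, q ∣ n) ∧ (∀ q : ℕ, q.Prime → (∃ n ∈ {n : ℕ | ∃ x : ↥(Subgroup.closure {g : G | ∃ k : ℕ, orderOf g = 2 ^ k}), IsConj x x⁻¹ ∧ (Subgroup.centralizer ({x} : Set ↥(Subgroup.closure {g : G | ∃ k : ℕ, orderOf g = 2 ^ k}))).index = n}, q ∣ n) → q ∈ π₁ ∨ q ∈ π₂) ∧ ∀ a ∈ π₁, ∀ b ∈ π₂, ∀ n ∈ {n : ℕ | ∃ x : ↥(Subgroup.closure {g : G | ∃ k : ℕ, orderOf g = 2 ^ k}), IsConj x x⁻¹ ∧ (Subgroup.centralizer ({x} : Set ↥(Subgroup.closure {g : G | ∃ k : ℕ, orderOf g = 2 ^ k}))).index = n}, ¬ (a ∣ n ∧ b ∣ n)) ∧ ∀ n ∈ {n : ℕ | ∃ x : ↥(Subgroup.closure {g : G | ∃ k : ℕ, orderOf g = 2 ^ k}), IsConj x x⁻¹ ∧ (Subgroup.centralizer ({x} : Set ↥(Subgroup.closure {g : G | ∃ k : ℕ, orderOf g = 2 ^ k}))).index = n}, Odd n ∨ ∃ j : ℕ, n = 2 ^ j)) := by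
  classical
  haveI := Fact.mk Nat.prime_two
  obtain ⟨π₁, π₂, h₁, h₂, hdisj, hsub, hcover, hnoedge⟩ := h
  have hex : ∀ q ∈ π₁ ∪ π₂, q.Prime ∧ ∃ x : G, IsConj x x⁻¹ ∧ q ∣ Cfsg.Lib.ClassSize.cs x := fun q hq => by
    obtain ⟨hp, n, ⟨x, hx, rfl⟩, hd⟩ := hsub q hq
    exact ⟨hp, x, hx, hd⟩
  have hcov : ∀ q : ℕ, q.Prime → ∀ x : G, IsConj x x⁻¹ → q ∣ Cfsg.Lib.ClassSize.cs x → q ∈ π₁ ∨ q ∈ π₂ :=
    fun q hq x hx hd => hcover q hq ⟨_, ⟨x, hx, rfl⟩, hd⟩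
  have hedge : ∀ a ∈ π₁, ∀ b ∈ π₂, ∀ x : G, IsConj x x⁻¹ →
      ¬ (a ∣ Cfsg.Lib.ClassSize.cs x ∧ b ∣ Cfsg.Lib.ClassSize.cs x) :=
    fun a ha b hb x hx => hnoedge a ha b hb _ ⟨x, hx, rfl⟩
  have heven : ∃ x : G, IsConj x x⁻¹ ∧ 2 ∣ Cfsg.Lib.ClassSize.cs x := by
    by_contra hno
    push Not at hno
    have hodd : ∀ x : G, IsConj x x⁻¹ → Odd (Cfsg.Lib.ClassSize.cs x) := fun x hx =>
      Nat.not_even_iff_odd.1 fun e => hno x hx (even_iff_two_dvd.1 e)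
    have hsq : ∀ x : G, IsConj x x⁻¹ → x * x = 1 := fun x hx => by
      by_contra hne
      exact hno x hx (Cfsg.Lib.RealSize.two_dvd_cs hx hne)
    let P : Sylow 2 G := default
    haveI : (P : Subgroup G).Normal := (Cfsg.Agent.S3861.result P).1
      fun x hx1 hxo hx => Cfsg.Lib.RealSize.ne_one_of_odd hx1 hxo (hsq x hx)
    obtain ⟨qa, hqa⟩ := h₁
    obtain ⟨qb, hqb⟩ := h₂
    obtain ⟨hqap, a, ha, had⟩ := hex qa (Or.inl hqa)
    obtain ⟨hqbp, b, hb, hbd⟩ := hex qb (Or.inr hqb)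
    have hcop : (Cfsg.Lib.ClassSize.cs a).Coprime (Cfsg.Lib.ClassSize.cs b) := by
      refine Nat.coprime_of_dvd fun r hr h1 h2 => ?_
      rcases hcov r hr a ha h1 with h | h
      · exact hedge r h qb hqb b hb ⟨h2, hbd⟩
      · exact hedge qa hqa r h a ha ⟨had, h1⟩
    have ha1 : Cfsg.Lib.ClassSize.cs a ≠ 1 := fun e => hqap.ne_one (Nat.dvd_one.1 (e ▸ had))
    have hb1 : Cfsg.Lib.ClassSize.cs b ≠ 1 := fun e => hqbp.ne_one (Nat.dvd_one.1 (e ▸ hbd))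
    have n1 := Cfsg.Lib.RealSize.not_coprime_of_normal_sylow (P := P) (hsq a ha) (hsq b hb) (hodd a ha) (hodd b hb)
      ha1 hcop
    have n2 := Cfsg.Lib.RealSize.not_coprime_of_normal_sylow (P := P) (hsq b hb) (hsq a ha) (hodd b hb) (hodd a ha)
      hb1 hcop.symm
    obtain ⟨r, hr, hr1, hr2⟩ := Nat.Prime.not_coprime_iff_dvd.1 n1
    obtain ⟨s, hs, hs1, hs2⟩ := Nat.Prime.not_coprime_iff_dvd.1 n2
    have hrπ : r ∈ π₁ := (hcov r hr a ha hr1).resolve_right fun h => hedge qa hqa r h a ha ⟨had, hr1⟩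
    have hsπ : s ∈ π₂ := (hcov s hs b hb hs1).resolve_left fun h => hedge s h qb hqb b hb ⟨hs1, hbd⟩
    have hs2' : s ∣ Cfsg.Lib.ClassSize.cs (a * b) := by
      rw [show a * b = a * (b * a) * a⁻¹ by group, Cfsg.Lib.ClassSize.cs_conj]
      exact hs2
    have hcomm : IsConj (a * b) (a * b)⁻¹ := by
      rw [mul_inv_rev, inv_eq_of_mul_eq_one_right (hsq a ha), inv_eq_of_mul_eq_one_right (hsq b hb)]
      exact isConj_iff.2 ⟨a⁻¹, by group⟩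
    exact hedge r hrπ s hsπ (a * b) hcomm ⟨hr2, hs2'⟩
  obtain ⟨x₀, hx₀, hx₀2⟩ := heven
  refine ⟨⟨_, ⟨x₀, hx₀, rfl⟩, hx₀2⟩, ?_⟩
  by_cases hP : ∀ P : Sylow 2 G, (P : Subgroup G).Normal
  · exact Or.inl hP
  refine Or.inr ?_
  have key : ∃ σ : Set ℕ, Cfsg.Lib.RealSize.Split G σ ∧ ∃ t : G, t * t = 1 ∧
      Cfsg.Lib.ClassSize.cs t ≠ 1 ∧ Cfsg.Lib.RealSize.PiSize σ t := by
    have main : ∀ σ ρ : Set ℕ, σ.Nonempty → (∀ q ∈ σ, q.Prime ∧ ∃ x : G, IsConj x x⁻¹ ∧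
        q ∣ Cfsg.Lib.ClassSize.cs x) → 2 ∈ ρ → Disjoint ρ σ →
        (∀ q : ℕ, q.Prime → ∀ x : G, IsConj x x⁻¹ → q ∣ Cfsg.Lib.ClassSize.cs x → q ∈ ρ ∨ q ∈ σ) →
        (∀ a ∈ ρ, ∀ b ∈ σ, ∀ x : G, IsConj x x⁻¹ →
          ¬ (a ∣ Cfsg.Lib.ClassSize.cs x ∧ b ∣ Cfsg.Lib.ClassSize.cs x)) →
        ∃ σ : Set ℕ, Cfsg.Lib.RealSize.Split G σ ∧ ∃ t : G, t * t = 1 ∧
          Cfsg.Lib.ClassSize.cs t ≠ 1 ∧ Cfsg.Lib.RealSize.PiSize σ t := by
      intro σ ρ hσ hσsub h2 hd hcv hedg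
      have h2σ : 2 ∉ σ := Set.disjoint_left.1 hd h2
      have S : Cfsg.Lib.RealSize.Split G σ := by
        refine ⟨h2σ, fun x hx => ?_⟩
        by_cases hall : ∀ q : ℕ, q.Prime → q ∣ Cfsg.Lib.ClassSize.cs x → q ∈ σ
        · exact Or.inl hall
        · push Not at hall
          obtain ⟨a, ha, had, haσ⟩ := hall
          exact Or.inr fun b _ hbd hbσ => hedg a ((hcv a ha x hx had).resolve_right haσ) b hbσ x hx ⟨had, hbd⟩
      obtain ⟨b, hb⟩ := hσ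
      obtain ⟨hbp, t, htr, hbt⟩ := hσsub b hb
      refine ⟨σ, S, t, ?_, fun e => hbp.ne_one (Nat.dvd_one.1 (e ▸ hbt)),
        (S.pure t htr).resolve_right fun h => h b hbp hbt hb⟩
      by_contra hne
      exact Cfsg.Lib.RealSize.pi'_of_real S htr hne b hbp hbt hb
    rcases hcov 2 Nat.prime_two x₀ hx₀ hx₀2 with h | h
    · exact main π₂ π₁ h₂ (fun q hq => hex q (Or.inr hq)) h hdisj hcov hedge
    · exact main π₁ π₂ h₁ (fun q hq => hex q (Or.inl hq)) h hdisj.symm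
        (fun q hq x hx hd => (hcov q hq x hx hd).symm) (fun a ha b hb x hx hab => hedge b hb a ha x hx ⟨hab.2, hab.1⟩)
  obtain ⟨σ, S, t, ht, ht1, htσ⟩ := key
  obtain ⟨-, hprimes⟩ := Cfsg.Lib.RealSize.split_main S ht ht1 htσ
  obtain ⟨-, P, hPt, hPel⟩ := Cfsg.Lib.RealSize.two_closed S ht ht1 htσ
  obtain ⟨x, hx1, hxo, hx⟩ : ∃ x : G, x ≠ 1 ∧ Odd (orderOf x) ∧ IsConj x x⁻¹ := by
    by_contra hno
    push Not at hno
    exact hP fun Q => (Cfsg.Agent.S3861.result Q).1 hno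
  set L : Subgroup G := Subgroup.closure {g : G | ∃ k : ℕ, orderOf g = 2 ^ k} with hL
  have hLel : L = Cfsg.Lib.RealSize.el2Closure G :=
    congrArg Subgroup.closure Cfsg.Lib.RealSize.setOf_orderOf_two_pow
  have hLn : L.Normal := by
    refine ⟨fun l hl g => ?_⟩
    induction hl using Subgroup.closure_induction with
    | mem y hy =>
      refine Subgroup.subset_closure ?_
      obtain ⟨k, hk⟩ := hy
      exact ⟨k, by rw [show g * y * g⁻¹ = MulAut.conj g y from rfl, MulEquiv.orderOf_eq, hk]⟩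
    | one => simp
    | mul y z _ _ hy hz => rw [← conj_mul]; exact mul_mem hy hz
    | inv y _ hy => rw [← conj_inv]; exact inv_mem hy
  have hcsL : ∀ y : L, (Subgroup.centralizer ({y} : Set L)).index ∣ Cfsg.Lib.ClassSize.cs (y : G) := by
    intro y
    have e : Subgroup.centralizer ({y} : Set L) = (Subgroup.centralizer ({(y : G)} : Set G)).subgroupOf L := by
      ext z
      rw [Subgroup.mem_subgroupOf, Subgroup.mem_centralizer_singleton_iff, Subgroup.mem_centralizer_singleton_iff]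
      exact ⟨fun h => congrArg Subtype.val h, fun h => Subtype.ext h⟩
    rw [e]
    show (Subgroup.centralizer ({(y : G)} : Set G)).relIndex L ∣ _
    rw [← Cfsg.Lib.RealSize.relIndex_sup_eq]
    exact Subgroup.relIndex_dvd_index_of_le le_sup_left
  have hshape : ∀ y : L, IsConj y y⁻¹ → Odd (Subgroup.centralizer ({y} : Set L)).index ∨
      ∃ j : ℕ, (Subgroup.centralizer ({y} : Set L)).index = 2 ^ j := by
    intro y hy
    rcases S.pure (y : G) (L.subtype.map_isConj hy) with h | h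
    · exact Or.inl ((Cfsg.Lib.RealSize.odd_of_pi S.two h).of_dvd_nat (hcsL y))
    · refine Or.inr ⟨_, Nat.eq_prime_pow_of_unique_prime_dvd Subgroup.index_ne_zero_of_finite fun {r} hr hrd => ?_⟩
      by_contra hr2
      refine hprimes r hr hr2 (h r hr (hrd.trans (hcsL y))) ?_
      rw [← hLel]
      exact hrd.trans (Subgroup.index_dvd_card _)
  obtain ⟨g, hg⟩ := isConj_iff.1 hx
  obtain ⟨i, m, hm, hgm⟩ := Nat.exists_eq_two_pow_mul_odd (n := orderOf g) (orderOf_pos g).ne'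
  set v := g ^ m with hvdef
  have hv : v * x * v⁻¹ = x⁻¹ := by
    obtain ⟨r, rfl⟩ := hm
    rw [hvdef]
    clear hgm hvdef v
    induction r with
    | zero => simpa using hg
    | succ r ih =>
      rw [show 2 * (r + 1) + 1 = 2 + (2 * r + 1) by ring, pow_add,
        show g ^ 2 * g ^ (2 * r + 1) * x * (g ^ 2 * g ^ (2 * r + 1))⁻¹ =
          g * (g * (g ^ (2 * r + 1) * x * (g ^ (2 * r + 1))⁻¹) * g⁻¹) * g⁻¹ by rw [sq]; group, ih,
        show g * x⁻¹ * g⁻¹ = (g * x * g⁻¹)⁻¹ by group, hg, inv_inv, hg]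
  have hv2 : Cfsg.Lib.RealSize.El2 v := ⟨i, by rw [hvdef, ← pow_mul, mul_comm, ← hgm, pow_orderOf_eq_one]⟩
  have hel : ∀ a : G, Cfsg.Lib.RealSize.El2 a → a ∈ L := fun a ha => hLel ▸ Subgroup.subset_closure ha
  have hxL : x ∈ L := by
    obtain ⟨k, hk⟩ := Cfsg.Lib.RealSize.odd_half hxo
    have h1 : x⁻¹ * v * x * v⁻¹ ∈ L := by
      refine mul_mem ?_ (inv_mem (hel v hv2))
      have := hLn.conj_mem v (hel v hv2) x⁻¹
      rwa [inv_inv] at this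
    rw [show x⁻¹ * v * x * v⁻¹ = x⁻¹ * (v * x * v⁻¹) by group, hv, ← mul_inv_rev] at h1
    have h2 := pow_mem (inv_mem_iff.1 h1) k
    rwa [(Commute.refl x).mul_pow, hk] at h2
  have hxreal : IsConj (⟨x, hxL⟩ : L) ⟨x, hxL⟩⁻¹ :=
    isConj_iff.2 ⟨⟨v, hel v hv2⟩, Subtype.ext hv⟩
  have hxne : (⟨x, hxL⟩ : L) * ⟨x, hxL⟩ ≠ 1 := fun e =>
    Cfsg.Lib.RealSize.ne_one_of_odd hx1 hxo (congrArg Subtype.val e)
  have htL : t ∈ L := hel t ⟨1, by rw [pow_one, sq, ht]⟩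
  have htreal : IsConj (⟨t, htL⟩ : L) ⟨t, htL⟩⁻¹ := by
    rw [show (⟨t, htL⟩ : L)⁻¹ = ⟨t, htL⟩ from Subtype.ext (inv_eq_of_mul_eq_one_right ht)]
  have htodd : Odd (Subgroup.centralizer ({(⟨t, htL⟩ : L)} : Set L)).index :=
    (Cfsg.Lib.RealSize.odd_of_pi S.two htσ).of_dvd_nat (hcsL ⟨t, htL⟩)
  have htne : (Subgroup.centralizer ({(⟨t, htL⟩ : L)} : Set L)).index ≠ 1 := by
    intro e
    rw [Subgroup.index_eq_one] at e
    have hLt : ∀ a : G, a ∈ L → Commute a t := fun a ha => by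
      have h1 : (⟨a, ha⟩ : L) ∈ Subgroup.centralizer ({(⟨t, htL⟩ : L)} : Set L) := e ▸ Subgroup.mem_top _
      exact congrArg Subtype.val (Subgroup.mem_centralizer_singleton_iff.1 h1)
    -- the element `x` would be real of odd order in the two-closed centraliser of `t`
    have hvP : v ∈ (P : Subgroup G) := hPel v (hLt v (hel v hv2)) hv2
    have hc : x * v * x⁻¹ ∈ (P : Subgroup G) := hPel _ (((hLt x hxL).mul_left (hLt v (hel v hv2))).mul_left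
      (hLt x hxL).inv_left) (by obtain ⟨k, hk⟩ := hv2; exact ⟨k, by rw [conj_pow, hk]; group⟩)
    have h1 : x * x ∈ (P : Subgroup G) := by
      have h2 := mul_mem hc (inv_mem hvP)
      rwa [show x * v * x⁻¹ * v⁻¹ = x * (v * x * v⁻¹)⁻¹ by group, hv, inv_inv] at h2
    obtain ⟨k, hk⟩ := Cfsg.Lib.RealSize.el2_of_pgroup P.2 h1
    exact hx1 (Cfsg.Lib.RealSize.eq_one_of_odd_el2 hxo ⟨k + 1, by rw [pow_succ', pow_mul, sq]; exact hk⟩)
  obtain ⟨r, hr, hrd⟩ := Nat.exists_prime_and_dvd htne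
  have hr2 : r ≠ 2 := fun e => Nat.two_dvd_ne_zero.2 (Nat.odd_iff.1 htodd) (e ▸ hrd)
  refine ⟨⟨{2}, {q : ℕ | q.Prime ∧ q ≠ 2 ∧ ∃ y : L, IsConj y y⁻¹ ∧
      q ∣ (Subgroup.centralizer ({y} : Set L)).index}, ⟨2, rfl⟩, ⟨r, hr, hr2, _, htreal, hrd⟩, ?_, ?_, ?_, ?_⟩, ?_⟩
  · exact Set.disjoint_left.2 fun q hq hq' => hq'.2.1 hq
  · rintro q (rfl | ⟨hq, -, y, hy, hd⟩)
    · exact ⟨Nat.prime_two, _, ⟨_, hxreal, rfl⟩, Cfsg.Lib.RealSize.two_dvd_cs hxreal hxne⟩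
    · exact ⟨hq, _, ⟨y, hy, rfl⟩, hd⟩
  · rintro q hq ⟨n, ⟨y, hy, rfl⟩, hd⟩
    by_cases h2 : q = 2
    · exact Or.inl h2
    · exact Or.inr ⟨hq, h2, y, hy, hd⟩
  · rintro a rfl b ⟨hb, hb2, -⟩ n ⟨y, hy, rfl⟩ ⟨hda, hdb⟩
    rcases hshape y hy with h | ⟨j, hj⟩
    · exact Nat.two_dvd_ne_zero.2 (Nat.odd_iff.1 h) hda
    · rw [hj] at hdb
      exact hb2 ((Nat.prime_dvd_prime_iff_eq hb Nat.prime_two).1 (hb.dvd_of_dvd_pow hdb))
  · rintro n ⟨y, hy, rfl⟩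
    exact hshape y hy

end Cfsg.Agent.S4192
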