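import Cfsg.Statements.S4193
import Cfsg.Agent.S3861
import Cfsg.Agent.S3862
import Cfsg.Agent.S3863
import Cfsg.Agent.Thompson.PComplement
import Cfsg.Agent.Transfer.Frobenius
import Cfsg.Agent.S0205
-- import your own Cfsg.Agent.* helpers here

set_option autoImplicit false
open Cfsg

namespace Cfsg.Agent.S4193

open Subgroup in
/-- a real 2-element is, up to conjugation, real inside a given Sylow 2-subgroup -/
theorem sq_of_real_two {G : Type*} [Group G] [Finite G] (S : Sylow 2 G)
    (hS : ∀ s : ↥(S : Subgroup G), IsConj s s⁻¹ → s ∈ Subgroup.center ↥(S : Subgroup G))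
    {x : G} (hx : ∃ j : ℕ, orderOf x = 2 ^ j) (hr : IsConj x x⁻¹) :
    x ^ 2 = 1 ∧ ∃ g : G, g * x * g⁻¹ ∈ (S : Subgroup G) := by
  haveI := Fact.mk Nat.prime_two
  obtain ⟨⟨t, ⟨j, hj⟩, ht⟩, -, -⟩ := Cfsg.Agent.S3863.result x hr
  obtain ⟨i, hi⟩ := hx
  have hxp : IsPGroup 2 (zpowers x) := IsPGroup.of_card (n := i) (by rw [Nat.card_zpowers, hi])
  have htp : IsPGroup 2 (zpowers t) := IsPGroup.of_card (n := j) (by rw [Nat.card_zpowers, hj])
  have hn : zpowers t ≤ normalizer (zpowers x : Set G) := by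
    rw [zpowers_le]
    refine Cfsg.Lib.SolvStruct.mem_normalizer_of_conj_smul_le ?_
    rintro _ ⟨a, ⟨k, rfl⟩, rfl⟩
    refine ⟨-k, ?_⟩
    show x ^ (-k) = t * x ^ k * t⁻¹
    rw [← conj_zpow, ht, inv_zpow']
  obtain ⟨T, hT⟩ := (hxp.to_sup_of_normal_left' htp hn).exists_le_sylow
  obtain ⟨g, hg⟩ := MulAction.exists_smul_eq G T S
  have hmem : ∀ y ∈ (T : Subgroup G), g * y * g⁻¹ ∈ (S : Subgroup G) := fun y hy => by
    rw [← hg]; exact Cfsg.Lib.Transfer.mem_conj_sylow_iff.2 hy
  have hxS := hmem x (hT (mem_sup_left (mem_zpowers x)))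
  have htS := hmem t (hT (mem_sup_right (mem_zpowers t)))
  have hc := hS ⟨_, hxS⟩ (isConj_iff.2 ⟨⟨_, htS⟩, Subtype.ext (by
    show g * t * g⁻¹ * (g * x * g⁻¹) * (g * t * g⁻¹)⁻¹ = (g * x * g⁻¹)⁻¹
    rw [show g * t * g⁻¹ * (g * x * g⁻¹) * (g * t * g⁻¹)⁻¹ = g * (t * x * t⁻¹) * g⁻¹ by group, ht]
    group)⟩)
  refine ⟨?_, g, hxS⟩
  have h1 : g * t * g⁻¹ * (g * x * g⁻¹) = g * x * g⁻¹ * (g * t * g⁻¹) :=
    congrArg Subtype.val (mem_center_iff.1 hc ⟨_, htS⟩)
  have h2 : t * x = x * t := by
    have := congrArg (fun z => g⁻¹ * z * g) h1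
    simpa [mul_assoc] using this
  rw [sq]
  have h3 : x = x⁻¹ := by rw [← ht, h2, mul_inv_cancel_right]
  nth_rewrite 1 [h3]
  exact inv_mul_cancel x

/-- Let G be a finite group in which the conjugacy classes of all non-central real elements (elements conjugate to their inverses) have sizes with the same 2-part, and suppose G has a Sylow 2-subgroup S such that every element of S that is conjugate in S to its inverse lies in the centre of S. Then G is solvable and the subgroup generated by the 2-elements of G (the smallest normal subgroup of odd index) has a normal 2-complement. -/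
theorem result {G : Type*} [Group G] [Finite G] (a : ℕ) (h : ∀ x : G, IsConj x x⁻¹ → x ∉ Subgroup.center G → ((Subgroup.centralizer ({x} : Set G)).index).factorization 2 = a) (S : Sylow 2 G) (hS : ∀ s : ↥(S : Subgroup G), IsConj s s⁻¹ → s ∈ Subgroup.center ↥(S : Subgroup G)) : Group.IsSolvable G ∧ Cfsg.HasNormalPComplement 2 ↥(Subgroup.closure {g : G | ∃ k : ℕ, orderOf g = 2 ^ k}) := by
  classical
  haveI := Fact.mk Nat.prime_two
  set K := Subgroup.closure {g : G | ∃ k : ℕ, orderOf g = 2 ^ k}
  have hodd : Odd (S : Subgroup G).index := Nat.odd_iff.2 (by have := S.not_dvd_index; omega)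
  by_cases hcent : ∀ x : G, (∃ j : ℕ, orderOf x = 2 ^ j) → IsConj x x⁻¹ → x ∈ Subgroup.center G
  · have hP := Cfsg.Agent.S3862.result hcent
    refine ⟨?_, ?_⟩
    · obtain ⟨P, N, hN, hc⟩ := hP
      haveI := hN
      haveI : Group.IsSolvable N := Cfsg.Agent.S0205.result (by
        rw [← Subgroup.IsComplement'.index_eq_card hc]
        exact Nat.odd_iff.2 (by have := P.not_dvd_index; omega))
      haveI : Group.IsSolvable (G ⧸ N) := by
        haveI := P.2.isNilpotent
        exact Group.isSolvable_of_surjective (f := ((QuotientGroup.mk' N).comp (P : Subgroup G).subtype))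
          (fun z => by
            obtain ⟨z, rfl⟩ := QuotientGroup.mk'_surjective N z
            obtain ⟨⟨⟨n, hn⟩, ⟨q, hq⟩⟩, he⟩ := hc.2 z
            refine ⟨⟨q, hq⟩, ?_⟩
            have he' : n * q = z := he
            show QuotientGroup.mk' N q = _
            rw [← he', map_mul, show QuotientGroup.mk' N n = 1 from (QuotientGroup.eq_one_iff n).2 hn, one_mul])
      exact (Group.isSolvable_iff_subgroup_quotient N).2 ⟨inferInstance, inferInstance⟩
    · exact Cfsg.Lib.Transfer.hasNormalPComplement_of_injective K.subtype K.subtype_injective hP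
  · push Not at hcent
    obtain ⟨x, hx2, hxr, hxc⟩ := hcent
    obtain ⟨hxx, g, hgS⟩ := sq_of_real_two S hS hx2 hxr
    -- the common two-part is trivial
    have ha : a = 0 := by
      set y := g * x * g⁻¹ with hy
      have hyy : y ^ 2 = 1 := by rw [hy, conj_pow, hxx]; group
      have hinv : y⁻¹ = y := inv_eq_of_mul_eq_one_left (by rw [← sq, hyy])
      have hyc : y ∉ Subgroup.center G := fun hc => hxc (by
        have := Subgroup.Normal.conj_mem inferInstance y hc g⁻¹
        rwa [hy, show g⁻¹ * (g * x * g⁻¹) * g⁻¹⁻¹ = x by group] at this)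
      have hS' : (S : Subgroup G) ≤ Subgroup.centralizer ({y} : Set G) := fun z hz => by
        rw [Subgroup.mem_centralizer_singleton_iff]
        exact congrArg Subtype.val (Subgroup.mem_center_iff.1 (hS ⟨y, hgS⟩ (by
          rw [show (⟨y, hgS⟩ : ↥(S : Subgroup G))⁻¹ = ⟨y, hgS⟩ from Subtype.ext hinv])) ⟨z, hz⟩)
      have h1 := h y (by rw [hinv]) hyc
      rw [← h1]
      exact Nat.factorization_eq_zero_of_not_dvd fun h2 =>
        S.not_dvd_index (h2.trans (Subgroup.index_dvd_of_le hS'))
    have hsq : ∀ z : G, IsConj z z⁻¹ → z ^ 2 = 1 := by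
      intro z hz
      by_cases hzc : z ∈ Subgroup.center G
      · obtain ⟨c, hc⟩ := isConj_iff.1 hz
        rw [Subgroup.mem_center_iff.1 hzc c, mul_inv_cancel_right] at hc
        rw [sq]
        nth_rewrite 1 [hc]
        exact inv_mul_cancel z
      · refine (Cfsg.Agent.S3863.result z hz).2.1 (Nat.odd_iff.2 ?_)
        have h1 := h z hz hzc
        rw [ha, Nat.factorization_eq_zero_iff] at h1
        rcases h1 with h1 | h1 | h1
        · exact absurd Nat.prime_two h1
        · omega
        · exact absurd h1 Subgroup.index_ne_zero_of_finite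
    have hSn : (S : Subgroup G).Normal := (Cfsg.Agent.S3861.result S).1 fun z hz1 hzo hz => hz1 (by
      rw [← orderOf_eq_one_iff]
      exact Nat.eq_one_of_dvd_coprimes (Nat.coprime_two_left.2 hzo) (orderOf_dvd_of_pow_eq_one (hsq z hz)) dvd_rfl)
    haveI := hSn
    refine ⟨?_, ?_⟩
    · haveI := S.2.isNilpotent
      haveI : Group.IsSolvable ↥(S : Subgroup G) := inferInstance
      haveI : Group.IsSolvable (G ⧸ (S : Subgroup G)) :=
        Cfsg.Agent.S0205.result (by rw [← Subgroup.index_eq_card]; exact hodd)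
      exact (Group.isSolvable_iff_subgroup_quotient (S : Subgroup G)).2 ⟨inferInstance, inferInstance⟩
    · have hK : K ≤ (S : Subgroup G) := by
        rw [Subgroup.closure_le]
        rintro z ⟨k, hk⟩
        obtain ⟨T, hT⟩ := (IsPGroup.of_card (n := k) (by rw [Nat.card_zpowers, hk]) :
          IsPGroup 2 (Subgroup.zpowers z)).exists_le_sylow
        haveI : Subsingleton (Sylow 2 G) := (Sylow.unique_of_normal S hSn).instSubsingleton
        rw [Subsingleton.elim S T]
        exact hT (Subgroup.mem_zpowers z)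
      have hKp : IsPGroup 2 K := S.2.to_le hK
      refine ⟨⟨⊤, hKp.to_subgroup ⊤, fun _ h => top_le_iff.1 h⟩, ⊥,
        inferInstance, Subgroup.isComplement'_bot_top⟩

end Cfsg.Agent.S4193
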