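import Cfsg.Statements.S4355
import Cfsg.Agent.Fusion.CentralFusion
import Cfsg.Agent.Fusion.GroupSystem

set_option autoImplicit false
open Cfsg

namespace Cfsg.Agent.S4355

/-- If every element of 2-power order of a finite group has a conjugacy class of odd size, then the Sylow 2-subgroups of the group are abelian. -/
theorem result {G : Type*} [Group G] [Finite G]
    (h : ∀ x : G, (∃ k : ℕ, orderOf x = 2 ^ k) → ¬ 2 ∣ (Subgroup.centralizer ({x} : Set G)).index) (P : Sylow 2 G) :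
    IsMulCommutative P := by
  have : Fact (Nat.Prime 2) := ⟨Nat.prime_two⟩
  refine Cfsg.Lib.Fusion.isMulCommutative_of_conj_centre P.2 _
    (Cfsg.Lib.Fusion.saturated_group (S := P)) fun x hx => ?_
  obtain ⟨k, hk⟩ := P.2 ⟨x, hx⟩
  have hx2 : ∃ k : ℕ, orderOf x = 2 ^ k := by
    obtain ⟨j, -, hj⟩ := (Nat.dvd_prime_pow Nat.prime_two).mp
      (orderOf_dvd_of_pow_eq_one (congrArg Subtype.val hk : x ^ 2 ^ k = 1))
    exact ⟨j, hj⟩
  set C := Subgroup.centralizer ({x} : Set G)
  -- a Sylow 2-subgroup centralizes `x`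
  obtain ⟨Q, hQ⟩ : ∃ Q : Sylow 2 G, (Q : Subgroup G) ≤ C := by
    obtain ⟨R⟩ : Nonempty (Sylow 2 C) := inferInstance
    obtain ⟨Q, hQ⟩ := (R.2.map C.subtype).exists_le_sylow
    refine ⟨Q, ?_⟩
    have he : ((R : Subgroup C).map C.subtype) = Q := by
      refine Subgroup.eq_of_le_of_card_ge hQ (le_of_eq ?_)
      rw [Subgroup.card_map_of_injective C.subtype_injective, Sylow.card_eq_multiplicity,
        Sylow.card_eq_multiplicity, ← C.card_mul_index, Nat.factorization_mul Nat.card_pos.ne'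
          Subgroup.index_ne_zero_of_finite, Finsupp.add_apply,
        Nat.factorization_eq_zero_of_not_dvd (h x hx2), add_zero]
    exact he ▸ Subgroup.map_subtype_le _
  obtain ⟨g, hg⟩ := MulAction.exists_smul_eq G Q P
  have hcomm : ∀ s ∈ (P : Subgroup G), s * (g * x * g⁻¹) = g * x * g⁻¹ * s := by
    intro s hs
    rw [← hg] at hs
    obtain ⟨q, hq, rfl⟩ := hs
    have hq' : x * q = q * x := Subgroup.mem_centralizer_iff.mp (hQ hq) x rfl
    show g * q * g⁻¹ * (g * x * g⁻¹) = g * x * g⁻¹ * (g * q * g⁻¹)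
    calc g * q * g⁻¹ * (g * x * g⁻¹) = g * (q * x) * g⁻¹ := by group
      _ = g * (x * q) * g⁻¹ := by rw [hq']
      _ = _ := by group
  have hz : g * x * g⁻¹ ∈ (P : Subgroup G) := by
    have hP2 : IsPGroup 2 (Subgroup.zpowers (g * x * g⁻¹)) := by
      refine IsPGroup.of_injective (P.2.to_le (Subgroup.zpowers_le.mpr hx))
        ((((MulAut.conj g).subgroupMap (Subgroup.zpowers x)).trans (MulEquiv.subgroupCongr (by
          rw [MonoidHom.map_zpowers]; rfl))).symm).toMonoidHom (MulEquiv.injective _)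
    have hle : (P : Subgroup G) ⊔ Subgroup.zpowers (g * x * g⁻¹) = P := by
      refine P.3 (IsPGroup.to_sup_of_normal_right' P.2 hP2 ?_) le_sup_left
      intro s hs
      rw [Subgroup.mem_normalizer_iff]
      intro y
      constructor
      · rintro ⟨n, rfl⟩
        refine ⟨n, ?_⟩
        show _ = s * (g * x * g⁻¹) ^ n * s⁻¹
        rw [(Commute.zpow_right (hcomm s hs) n).eq, mul_inv_cancel_right]
      · rintro ⟨n, hn⟩
        refine ⟨n, ?_⟩
        have h2 : y = s⁻¹ * (g * x * g⁻¹) ^ n * s := by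
          rw [show (g * x * g⁻¹) ^ n = s * y * s⁻¹ from hn]; group
        show (g * x * g⁻¹) ^ n = y
        rw [h2, mul_assoc s⁻¹, ← (Commute.zpow_right (hcomm s hs) n).eq, inv_mul_cancel_left]
    rw [← hle]
    exact le_sup_right (α := Subgroup G) (Subgroup.mem_zpowers _)
  refine ⟨g * x * g⁻¹, ⟨hz, Subgroup.mem_centralizer_iff.mpr fun s hs => hcomm s hs⟩,
    Cfsg.conjHom _ g, ⟨Subgroup.zpowers_le.mpr hx, ?_, g, fun _ => rfl⟩, rfl⟩
  rintro ⟨_, n, rfl⟩
  show g * x ^ n * g⁻¹ ∈ _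
  rw [← conj_zpow]
  exact zpow_mem hz n

end Cfsg.Agent.S4355
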