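import Cfsg.Statements.S4194
import Cfsg.Agent.S4355

set_option autoImplicit false
open Cfsg

namespace Cfsg.Agent.S4194

/-- A finite group G has commutative Sylow 2-subgroups if and only if every 2-element of G (element of order a power of 2) is 2-central, that is, its centralizer contains a Sylow 2-subgroup of G. -/
theorem result {G : Type*} [Group G] [Finite G] (P : Sylow 2 G) :
    IsMulCommutative (P : Subgroup G) ↔ ∀ x : G, (∃ k : ℕ, orderOf x = 2 ^ k) → (∃ Q : Sylow 2 G, (Q : Subgroup G) ≤ Subgroup.centralizer ({x} : Set G)) := by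
  constructor
  · intro hP x ⟨k, hk⟩
    have hx : IsPGroup 2 (Subgroup.zpowers x) :=
      IsPGroup.of_card (by rw [Nat.card_zpowers, hk] : Nat.card (Subgroup.zpowers x) = 2 ^ k)
    obtain ⟨Q, hQ⟩ := hx.exists_le_sylow
    refine ⟨Q, fun q hq => Subgroup.mem_centralizer_iff.mpr ?_⟩
    intro y hy
    rw [Set.mem_singleton_iff.mp hy]
    obtain ⟨g, hg⟩ := MulAction.exists_smul_eq G Q P
    have hmem : ∀ a ∈ (Q : Subgroup G), g * a * g⁻¹ ∈ (P : Subgroup G) := fun a ha => by
      rw [← hg]; exact ⟨a, ha, rfl⟩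
    have h1 : g * x * g⁻¹ * (g * q * g⁻¹) = g * q * g⁻¹ * (g * x * g⁻¹) :=
      congrArg Subtype.val (hP.is_comm.comm
        ⟨_, hmem x (hQ (Subgroup.mem_zpowers x))⟩ ⟨_, hmem q hq⟩)
    have h2 : g * (x * q) * g⁻¹ = g * (q * x) * g⁻¹ := by
      rw [← conj_mul, ← conj_mul]; exact h1
    exact mul_left_cancel (mul_right_cancel h2)
  · intro h
    refine Cfsg.Agent.S4355.result (fun x hx hdvd => ?_) P
    obtain ⟨Q, hQ⟩ := h x hx
    have : Fact (Nat.Prime 2) := ⟨Nat.prime_two⟩
    exact Q.not_dvd_index (hdvd.trans (Subgroup.index_dvd_of_le hQ))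

end Cfsg.Agent.S4194
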