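import Cfsg.Statements.S4196
import Cfsg.Agent.S4195

set_option autoImplicit false
open Cfsg

namespace Cfsg.Agent.S4196

/-- A finite group G has elementary abelian Sylow 2-subgroups (commutative with every element squaring to the identity) if and only if every 2-element of G has a Sylow 2-subgroup in its centralizer and is conjugate to its inverse. -/
theorem result {G : Type*} [Group G] [Finite G] (P : Sylow 2 G) :
    (IsMulCommutative (P : Subgroup G) ∧ ∀ x ∈ (P : Subgroup G), x ^ 2 = 1) ↔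
      ∀ x : G, (∃ k : ℕ, orderOf x = 2 ^ k) → (∃ Q : Sylow 2 G, (Q : Subgroup G) ≤ Subgroup.centralizer ({x} : Set G)) ∧ IsConj x x⁻¹ := by
  constructor
  · rintro ⟨hA, he⟩ x ⟨k, hk⟩
    obtain ⟨Q, hQ⟩ := (IsPGroup.of_card (p := 2) ((Nat.card_zpowers x).trans hk)).exists_le_sylow
    let e := Q.equiv P
    have hxQ : x ∈ (Q : Subgroup G) := hQ (Subgroup.mem_zpowers x)
    refine ⟨⟨Q, fun y hy => ?_⟩, ?_⟩
    · rw [Subgroup.mem_centralizer_singleton_iff]
      have h1 : (⟨y, hy⟩ : Q) * ⟨x, hxQ⟩ = ⟨x, hxQ⟩ * ⟨y, hy⟩ :=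
        e.injective (by rw [map_mul, map_mul]; exact hA.is_comm.comm _ _)
      exact congrArg Subtype.val h1
    · have h2 : (⟨x, hxQ⟩ : Q) ^ 2 = 1 :=
        e.injective (by rw [map_pow, map_one]; exact Subtype.ext (he _ (e ⟨x, hxQ⟩).2))
      have h3 : x * x = 1 := by
        rw [← pow_two]; exact congrArg Subtype.val h2
      rw [inv_eq_of_mul_eq_one_right h3]
  · intro h
    have he : ∀ x ∈ (P : Subgroup G), x ^ 2 = 1 := by
      intro x hx
      rcases eq_or_ne x 1 with rfl | hx1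
      · simp
      obtain ⟨k, hk⟩ := IsPGroup.iff_orderOf.1 P.2 ⟨x, hx⟩
      rw [Subgroup.orderOf_mk] at hk
      obtain ⟨⟨Q, hQ⟩, hr⟩ := h x ⟨k, hk⟩
      rw [← Cfsg.Agent.S4195.result x hx1 Q hQ hr, pow_orderOf_eq_one]
    refine ⟨⟨⟨fun a b => Subtype.ext ?_⟩⟩, he⟩
    have ha := he a a.2
    have hb := he b b.2
    have hab := he _ (a * b).2
    rw [Subgroup.coe_mul, pow_two] at hab
    rw [pow_two] at ha hb
    show (a : G) * b = b * a
    rw [← inv_eq_of_mul_eq_one_right hab, mul_inv_rev, inv_eq_of_mul_eq_one_right ha,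
      inv_eq_of_mul_eq_one_right hb]

end Cfsg.Agent.S4196
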