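import Cfsg.Statements.S4204
import Cfsg.Agent.SolvStruct.Basics

set_option autoImplicit false
open Cfsg

namespace Cfsg.Agent.S4204

/-- If `H` and `K` are normal subgroups of a finite group with `H` nilpotent of class at most `c` and `K` nilpotent of class at most `d` (the terms with index `c`, respectively `d`, of their lower central series are trivial, indices starting at `0`), then `HK` is nilpotent of class at most `c + d`. -/
theorem result {G : Type*} [Group G] [Finite G] (H K : Subgroup G) [H.Normal] [K.Normal] (c d : ℕ) (hH : H.lowerCentralSeries c = ⊥) (hK : K.lowerCentralSeries d = ⊥) : (H ⊔ K).lowerCentralSeries (c + d) = ⊥ := by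
  classical
  let a : ℕ → Subgroup G := fun i => if i = 0 then ⊤ else H.lowerCentralSeries (i - 1)
  let b : ℕ → Subgroup G := fun i => if i = 0 then ⊤ else K.lowerCentralSeries (i - 1)
  have hnorm : ∀ (L : Subgroup G) (n : ℕ), L.Normal → (L.lowerCentralSeries n).Normal := by
    intro L n hL
    haveI := hL
    induction n with
    | zero => exact hL
    | succ n ih =>
      haveI := ih
      rw [Subgroup.lowerCentralSeries_succ]
      infer_instance
  have hstep : ∀ (L : Subgroup G) (i : ℕ), L.Normal →
      ⁅(if i = 0 then (⊤ : Subgroup G) else L.lowerCentralSeries (i - 1)), L⁆ ≤ L.lowerCentralSeries i := by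
    intro L i hL
    haveI := hL
    rcases i with _ | i
    · simpa using Subgroup.commutator_le_right (⊤ : Subgroup G) L
    · simp [Subgroup.lowerCentralSeries_succ]
  haveI han : ∀ i, (a i).Normal := fun i => by
    simp only [a]; split
    · infer_instance
    · exact hnorm H _ inferInstance
  haveI hbn : ∀ i, (b i).Normal := fun i => by
    simp only [b]; split
    · infer_instance
    · exact hnorm K _ inferInstance
  let R : ℕ → Subgroup G := fun n => ⨆ i : Fin (n + 1), a i.val ⊓ b (n - i.val)
  haveI hR : ∀ n, (R n).Normal := fun n => by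
    refine ⟨fun x hx g => ?_⟩
    have h1 : (R n).map (MulAut.conj g).toMonoidHom ≤ R n := by
      simp only [R, Subgroup.map_iSup]
      refine iSup_mono fun i => ?_
      rintro _ ⟨y, hy, rfl⟩
      exact Subgroup.Normal.conj_mem inferInstance y hy g
    exact h1 ⟨x, hx, rfl⟩
  have hmem : ∀ n i j, i + j = n → a i ⊓ b j ≤ R n := fun n i j h => by
    have hj : j = n - i := by omega
    subst hj
    exact le_iSup (fun i : Fin (n + 1) => a i.val ⊓ b (n - i.val)) ⟨i, by omega⟩
  have hcomm : ∀ (X Y Z N : Subgroup G), N.Normal → ⁅X, Y⁆ ≤ N → ⁅X, Z⁆ ≤ N → ⁅X, Y ⊔ Z⁆ ≤ N := by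
    intro X Y Z N hN h1 h2
    haveI := hN
    have hmap : ∀ W : Subgroup G, ⁅X, W⁆ ≤ N ↔ W.map (QuotientGroup.mk' N) ≤
        Subgroup.centralizer ((X.map (QuotientGroup.mk' N) : Subgroup (G ⧸ N)) : Set (G ⧸ N)) := fun W => by
      rw [← Subgroup.commutator_eq_bot_iff_le_centralizer, Subgroup.commutator_comm, ← Subgroup.map_commutator,
        Subgroup.map_eq_bot_iff, QuotientGroup.ker_mk', Subgroup.commutator_comm]
    rw [hmap, Subgroup.map_sup]
    exact sup_le ((hmap Y).1 h1) ((hmap Z).1 h2)
  have key : ∀ n, (H ⊔ K).lowerCentralSeries n ≤ R (n + 1) := by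
    intro n
    induction n with
    | zero =>
      refine sup_le ((le_inf le_rfl le_top).trans (hmem 1 1 0 rfl)) ((le_inf le_top le_rfl).trans (hmem 1 0 1 rfl))
    | succ n ih =>
      rw [Subgroup.lowerCentralSeries_succ]
      refine (Subgroup.commutator_mono ih le_rfl).trans ?_
      rw [Subgroup.commutator_comm]
      have hsup : ∀ X : Subgroup G, (∀ i : Fin (n + 1 + 1), ⁅a i.val ⊓ b (n + 1 - i.val), X⁆ ≤ R (n + 1 + 1)) →
          ⁅X, R (n + 1)⁆ ≤ R (n + 1 + 1) := by
        intro X hX
        have hmap : ∀ W : Subgroup G, ⁅X, W⁆ ≤ R (n + 1 + 1) ↔ W.map (QuotientGroup.mk' (R (n + 1 + 1))) ≤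
            Subgroup.centralizer ((X.map (QuotientGroup.mk' (R (n + 1 + 1))) : Subgroup (G ⧸ R (n + 1 + 1))) : Set (G ⧸ R (n + 1 + 1))) := fun W => by
          rw [← Subgroup.commutator_eq_bot_iff_le_centralizer, Subgroup.commutator_comm, ← Subgroup.map_commutator,
            Subgroup.map_eq_bot_iff, QuotientGroup.ker_mk', Subgroup.commutator_comm]
        rw [hmap, Subgroup.map_iSup, iSup_le_iff]
        intro i
        rw [← hmap, Subgroup.commutator_comm]
        exact hX i
      rw [Subgroup.commutator_comm]
      rw [Subgroup.commutator_comm (R (n + 1))]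
      refine hsup _ fun i => hcomm _ H K _ (hR _) ?_ ?_
      · refine le_trans (le_inf ?_ ?_) (hmem _ (i.val + 1) (n + 1 - i.val) (by omega))
        · refine (Subgroup.commutator_mono inf_le_left le_rfl).trans ((hstep H i.val inferInstance).trans (le_of_eq ?_))
          simp [a]
        · exact (Subgroup.commutator_mono inf_le_right le_rfl).trans (Subgroup.commutator_le_left _ H)
      · refine le_trans (le_inf ?_ ?_) (hmem _ i.val (n + 1 - i.val + 1) (by omega))
        · exact (Subgroup.commutator_mono inf_le_left le_rfl).trans (Subgroup.commutator_le_left _ K)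
        · refine (Subgroup.commutator_mono inf_le_right le_rfl).trans ((hstep K _ inferInstance).trans (le_of_eq ?_))
          simp [b]
  have hbotH : ∀ n, c ≤ n → H.lowerCentralSeries n = ⊥ := fun n hn => by
    induction n, hn using Nat.le_induction with
    | base => exact hH
    | succ n _ ih => rw [Subgroup.lowerCentralSeries_succ, ih, Subgroup.commutator_bot_left]
  have hbotK : ∀ n, d ≤ n → K.lowerCentralSeries n = ⊥ := fun n hn => by
    induction n, hn using Nat.le_induction with
    | base => exact hK
    | succ n _ ih => rw [Subgroup.lowerCentralSeries_succ, ih, Subgroup.commutator_bot_left]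
  refine le_bot_iff.1 ((key (c + d)).trans (iSup_le fun i => ?_))
  rcases Nat.lt_or_ge c i.val with h | h
  · refine inf_le_left.trans (le_of_eq ?_)
    simp only [a]
    rw [if_neg (by omega), hbotH _ (by omega)]
  · refine inf_le_right.trans (le_of_eq ?_)
    simp only [b]
    rw [if_neg (by omega), hbotK _ (by omega)]

end Cfsg.Agent.S4204
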