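import Cfsg.Statements.S4218
import Cfsg.Agent.OddLocal.SmallAction
import Cfsg.Agent.OddLocal.PLengthBasic
import Cfsg.Agent.Components.Misc.PPrimeP
import Cfsg.Agent.PLocal.StableClosureApps
import Cfsg.Agent.GaschutzYen.Basic
import Cfsg.Agent.PGroups.Basic

set_option autoImplicit false
open Cfsg

namespace Cfsg.Agent.S4218

/-- Let `G` be a finite `p`-solvable group, `N₀ = O_{p'}(G)`, `P₁ = O_{p',p}(G)`, and let `F ≤ P₁` be the preimage of the Frattini subgroup of `P₁/N₀`. Then an element `g` of `G` induces the identity on `P₁/F` by conjugation (that is, `g x g⁻¹ x⁻¹ ∈ F` for all `x ∈ P₁`) if and only if `g ∈ P₁`: the group `G/P₁` acts faithfully on `P₁/F`. -/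
theorem result {G : Type*} [Group G] [Finite G] {p : ℕ} [Fact p.Prime] (hG : Cfsg.IsPSolvable p G) (g : G) : (∀ x ∈ Cfsg.pPrimePCore p G, g * x * g⁻¹ * x⁻¹ ∈ ((frattini (↥(Cfsg.pPrimePCore p G) ⧸ (Cfsg.pPrimeCore p G).subgroupOf (Cfsg.pPrimePCore p G))).comap (QuotientGroup.mk' ((Cfsg.pPrimeCore p G).subgroupOf (Cfsg.pPrimePCore p G)))).map (Cfsg.pPrimePCore p G).subtype) ↔ g ∈ Cfsg.pPrimePCore p G := by
  classical
  set N := Cfsg.pPrimeCore p G with hNdef
  haveI : N.Normal := Cfsg.Lib.Components.pPrimeCore_normal' p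
  set P₁ := Cfsg.pPrimePCore p G with hP1def
  have hNP : N ≤ P₁ := Cfsg.Lib.OddP.pPrimeCore_le_pPrimePCore
  set Q := Cfsg.pCore p (G ⧸ N) with hQdef
  haveI : Q.Normal := Cfsg.Lib.Components.pCore_normal' p
  have hQp : IsPGroup p Q := Cfsg.Lib.Components.isPGroup_pCore p
  let f : P₁ →* Q :=
    ((QuotientGroup.mk' N).comp P₁.subtype).codRestrict Q (fun x => x.2)
  have hfk : f.ker = N.subgroupOf P₁ := by
    ext x
    rw [MonoidHom.mem_ker, Subgroup.mem_subgroupOf]
    exact ⟨fun h => (QuotientGroup.eq_one_iff _).1 (congrArg Subtype.val h),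
      fun h => Subtype.ext ((QuotientGroup.eq_one_iff _).2 h)⟩
  have hfs : Function.Surjective f := fun y => by
    obtain ⟨z, hz⟩ := QuotientGroup.mk'_surjective N (y : G ⧸ N)
    exact ⟨⟨z, by show QuotientGroup.mk' N z ∈ Q; rw [hz]; exact y.2⟩, Subtype.ext hz⟩
  let e : P₁ ⧸ N.subgroupOf P₁ ≃* Q :=
    (QuotientGroup.quotientMulEquivOfEq hfk.symm).trans (QuotientGroup.quotientKerEquivOfSurjective f hfs)
  have he : ∀ x : P₁, e (QuotientGroup.mk x) = f x := fun x => rfl
  have hF : ∀ x : P₁, (x : G) ∈ ((frattini (P₁ ⧸ N.subgroupOf P₁)).comap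
      (QuotientGroup.mk' (N.subgroupOf P₁))).map P₁.subtype ↔ f x ∈ frattini Q := by
    intro x
    constructor
    · rintro ⟨z, hz, hzx⟩
      obtain rfl := Subtype.ext hzx
      rw [← he]
      exact frattini_le_comap_frattini_of_surjective (φ := e.toMonoidHom) e.surjective hz
    · intro hx
      refine ⟨x, ?_, rfl⟩
      have := frattini_le_comap_frattini_of_surjective (φ := e.symm.toMonoidHom) e.symm.surjective hx
      show QuotientGroup.mk' _ x ∈ frattini _
      rwa [Subgroup.mem_comap, MulEquiv.coe_toMonoidHom, ← he, e.symm_apply_apply] at this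
  have hP1n : P₁.Normal := Cfsg.Lib.PPrimeP.pPrimePCore_normal
  have hQnorm : Subgroup.normalizer (Q : Set (G ⧸ N)) = ⊤ := Subgroup.normalizer_eq_top Q
  let Φ : G →* MulAut (Q ⧸ frattini Q) :=
    (Cfsg.Lib.OddP.frattiniAction Q).comp ((QuotientGroup.mk' N).codRestrict _ (fun z => hQnorm.ge (Subgroup.mem_top _)))
  have hΦ : ∀ (z : G) (x : P₁), Φ z (QuotientGroup.mk (f x)) =
      QuotientGroup.mk (f ⟨z * x * z⁻¹, hP1n.conj_mem _ x.2 z⟩) := by
    intro z x
    show QuotientGroup.mk _ = QuotientGroup.mk _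
    congr 1
  have hiff : ∀ z : G, (∀ x ∈ P₁, z * x * z⁻¹ * x⁻¹ ∈ ((frattini (P₁ ⧸ N.subgroupOf P₁)).comap
      (QuotientGroup.mk' (N.subgroupOf P₁))).map P₁.subtype) ↔ Φ z = 1 := by
    intro z
    constructor
    · intro h
      ext y
      obtain ⟨y, rfl⟩ := QuotientGroup.mk'_surjective (frattini Q) y
      obtain ⟨x, rfl⟩ := hfs y
      show Φ z (QuotientGroup.mk (f x)) = QuotientGroup.mk (f x)
      rw [hΦ, eq_comm, QuotientGroup.eq]
      have h1 := (hF ⟨_, mul_mem (hP1n.conj_mem _ x.2 z) (inv_mem x.2)⟩).1 (h x x.2)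
      refine ((inferInstance : (frattini Q).Normal).mem_comm_iff).2 ?_
      rw [← map_inv, ← map_mul]
      exact h1
    · intro h x hx
      refine (hF ⟨_, mul_mem (hP1n.conj_mem _ hx z) (inv_mem hx)⟩).2 ?_
      have h1 := hΦ z ⟨x, hx⟩
      rw [h, MulAut.one_apply, QuotientGroup.eq, ← map_inv, ← map_mul] at h1
      have h2 := ((inferInstance : (frattini Q).Normal).mem_comm_iff (a := f ⟨x, hx⟩⁻¹)
        (b := f ⟨z * x * z⁻¹, hP1n.conj_mem _ hx z⟩)).1 (by rw [← map_mul]; exact h1)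
      rw [← map_mul] at h2
      exact h2
  rw [hiff]
  constructor
  · intro hg
    let K := Φ.ker
    have hKQ : (K.map (QuotientGroup.mk' N)) ≤ Q := by
      haveI : (K.map (QuotientGroup.mk' N)).Normal :=
        Subgroup.Normal.map inferInstance _ (QuotientGroup.mk'_surjective N)
      refine Cfsg.Lib.Components.le_pCore ?_
      rintro ⟨_, ⟨z, hz, rfl⟩⟩
      obtain ⟨j, m, hm, hjm⟩ := Nat.exists_eq_pow_mul_and_not_dvd (orderOf_pos z).ne' p (Fact.out : p.Prime).ne_one
      refine ⟨j, ?_⟩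
      set w := z ^ p ^ j
      have hw : w ∈ K := pow_mem hz _
      have hA : (Nat.card (Subgroup.zpowers (QuotientGroup.mk' N w))).Coprime p := by
        rw [Nat.card_zpowers]
        have hd : orderOf (QuotientGroup.mk' N w) ∣ m := by
          apply orderOf_dvd_of_pow_eq_one
          rw [← map_pow, ← pow_mul, ← hjm, pow_orderOf_eq_one, map_one]
        exact Nat.Coprime.coprime_dvd_left hd (((Fact.out : p.Prime).coprime_iff_not_dvd.2 hm).symm)
      have hc := Cfsg.Lib.OddP.le_centralizer_of_frattiniAction hQp hA (by rw [hQnorm]; exact le_top) (by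
        rintro a ha
        obtain ⟨i, hi⟩ := Subgroup.mem_zpowers_iff.1 ha
        have e1 : Cfsg.Lib.OddP.frattiniAction Q ⟨QuotientGroup.mk' N (w ^ i), hQnorm.ge (Subgroup.mem_top _)⟩ = 1 :=
          MonoidHom.mem_ker.1 (zpow_mem hw i : w ^ i ∈ K)
        convert e1 using 2
        exact Subtype.ext (by rw [← hi, ← map_zpow]))
      have hwQ : QuotientGroup.mk' N w ∈ Q :=
        Cfsg.Lib.StableClosure.centralizer_pCore_le_of_pSolvable
          (Cfsg.Lib.GaschutzYen.isPSolvable_quotient N hG) Cfsg.Lib.OddP.quotient_pPrimeCore_eq_bot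
          (hc (Subgroup.mem_zpowers _))
      obtain ⟨i, hi⟩ := IsPGroup.iff_orderOf.1 hQp ⟨_, hwQ⟩
      rw [← Subgroup.orderOf_coe] at hi
      have h1 : QuotientGroup.mk' N w = 1 := orderOf_eq_one_iff.1 (Nat.eq_one_of_dvd_coprimes
        (Nat.Coprime.pow_right i hA) (Nat.card_zpowers (QuotientGroup.mk' N w)).symm.dvd hi.dvd)
      exact Subtype.ext (by rw [SubgroupClass.coe_pow, ← map_pow]; exact h1)
    exact hKQ (Subgroup.mem_map_of_mem _ hg)
  · intro hg
    ext y
    obtain ⟨y, rfl⟩ := QuotientGroup.mk'_surjective (frattini Q) y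
    obtain ⟨x, rfl⟩ := hfs y
    show Φ g (QuotientGroup.mk (f x)) = QuotientGroup.mk (f x)
    rw [hΦ]
    haveI := Cfsg.Lib.PGroups.isMulCommutative_quotient_frattini hQp
    rw [show (⟨g * x * g⁻¹, hP1n.conj_mem _ x.2 g⟩ : P₁) = ⟨g, hg⟩ * x * ⟨g, hg⟩⁻¹ from rfl,
      map_mul, map_mul, map_inv, QuotientGroup.mk_mul, QuotientGroup.mk_mul, QuotientGroup.mk_inv,
      mul_comm' (QuotientGroup.mk (f ⟨g, hg⟩) : Q ⧸ frattini Q) (QuotientGroup.mk (f x)), mul_inv_cancel_right]

end Cfsg.Agent.S4218
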