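import Cfsg.Statements.S4219
import Cfsg.Agent.Coprime.Sylow


set_option autoImplicit false
open Cfsg

namespace Cfsg.Agent.S4219

/-- Let a finite group `G` act `t`-fold transitively on a finite set, let `H` be the stabilizer of `t` distinct points and `P` a Sylow `p`-subgroup of `H`. Then the normalizer of `P` in `G` is `t`-fold transitive on the fixed points of `P`: any `t` distinct fixed points of `P` can be carried to any other `t` distinct fixed points of `P` by an element normalizing `P`. -/
theorem result {G : Type*} [Group G] [Finite G] {α : Type*} [Fintype α] [MulAction G α] {t : ℕ} (hG : MulAction.IsMultiplyPretransitive G α t) (x : Fin t ↪ α) {p : ℕ} [Fact p.Prime] (P : Sylow p (MulAction.stabilizer G x)) (a b : Fin t ↪ α) (ha : ∀ i, a i ∈ MulAction.fixedPoints ((P : Subgroup (MulAction.stabilizer G x)).map (MulAction.stabilizer G x).subtype) α) (hb : ∀ i, b i ∈ MulAction.fixedPoints ((P : Subgroup (MulAction.stabilizer G x)).map (MulAction.stabilizer G x).subtype) α) : ∃ g ∈ Subgroup.normalizer ((((P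 : Subgroup (MulAction.stabilizer G x)).map (MulAction.stabilizer G x).subtype) : Subgroup G) : Set G), g • a = b := by
  classical
  let S := MulAction.stabilizer G x
  let P0 := (P : Subgroup S).map S.subtype
  obtain ⟨g, hg⟩ := hG.exists_smul_eq a b
  have hPa : ∀ c : Fin t ↪ α, (∀ i, c i ∈ MulAction.fixedPoints P0 α) → P0 ≤ MulAction.stabilizer G c := by
    intro c hc z hz
    rw [MulAction.mem_stabilizer_iff]
    refine DFunLike.ext _ _ fun i => ?_
    exact hc i ⟨z, hz⟩
  obtain ⟨u, hu⟩ := hG.exists_smul_eq x a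
  set Sa := MulAction.stabilizer G a
  have hcard : Nat.card Sa = Nat.card S := by
    rw [show Sa = MulAction.stabilizer G (u • x) by rw [hu], MulAction.stabilizer_smul_eq_stabilizer_map_conj]
    exact Subgroup.card_map_of_injective (MulAut.conj u).injective
  set P1 := P0.map (MulAut.conj g⁻¹).toMonoidHom
  have hP1 : P1 ≤ Sa := by
    rintro _ ⟨z, hz, rfl⟩
    have := hPa b hb hz
    rw [MulAction.mem_stabilizer_iff] at this
    show g⁻¹ * z * g⁻¹⁻¹ ∈ Sa
    rw [MulAction.mem_stabilizer_iff, inv_inv, mul_smul, mul_smul, hg, this, inv_smul_eq_iff, hg]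
  have hc0 : Nat.card P0 = p ^ (Nat.card Sa).factorization p := by
    rw [hcard, Subgroup.card_map_of_injective S.subtype_injective, P.card_eq_multiplicity]
  have hc1 : Nat.card P1 = p ^ (Nat.card Sa).factorization p := by
    rw [← hc0]; exact Subgroup.card_map_of_injective (MulAut.conj g⁻¹).injective
  let A0 : Sylow p Sa := Sylow.ofCard (P0.subgroupOf Sa)
    (by rw [Nat.card_congr (Subgroup.subgroupOfEquivOfLe (hPa a ha)).toEquiv, hc0])
  let A1 : Sylow p Sa := Sylow.ofCard (P1.subgroupOf Sa)
    (by rw [Nat.card_congr (Subgroup.subgroupOfEquivOfLe hP1).toEquiv, hc1])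
  obtain ⟨h, hh⟩ := MulAction.exists_smul_eq Sa A0 A1
  have hh' : Cfsg.Lib.Coprime.conjMap (h : G) P0 = P1 := by
    have e := congrArg (fun Q : Sylow p Sa => (Q : Subgroup Sa).map Sa.subtype) hh
    simp only [Cfsg.Lib.Coprime.map_subtype_smul] at e
    rwa [show ((A0 : Subgroup Sa).map Sa.subtype) = P0 from Subgroup.map_subgroupOf_eq_of_le (hPa a ha),
      show ((A1 : Subgroup Sa).map Sa.subtype) = P1 from Subgroup.map_subgroupOf_eq_of_le hP1] at e
  refine ⟨g * (h : G), ?_, ?_⟩
  · rw [← Cfsg.Lib.Coprime.conjMap_eq_self_iff, ← Cfsg.Lib.Coprime.conjMap_mul, hh']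
    exact Cfsg.Lib.Coprime.conjMap_conjMap_inv g P0
  · rw [mul_smul, h.2, hg]

end Cfsg.Agent.S4219
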