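import Cfsg.Statements.S4221
import Cfsg.Agent.OddFour.Even
import Cfsg.Agent.OddFour.Odd
import Cfsg.Agent.RankOne.SharpJordan
-- import your own Cfsg.Agent.* helpers here

set_option autoImplicit false
open Cfsg

namespace Cfsg.Agent.S4221

/-- Let `G` be a `4`-fold transitive permutation group on a finite set of `n` points in which the pointwise stabilizer of some four distinct points has odd order. Then `n = 4` or `n = 5` with `G` the full symmetric group, or `n = 6` or `n = 7` with `G` the alternating group, or `n = 11` and `G` has order `7920`. -/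
theorem result {α : Type*} [Fintype α] [DecidableEq α] (G : Subgroup (Equiv.Perm α)) (hG : MulAction.IsMultiplyPretransitive G α 4) (x : Fin 4 ↪ α) (hodd : Odd (Nat.card (MulAction.stabilizer G x))) : ((Fintype.card α = 4 ∨ Fintype.card α = 5) ∧ G = ⊤) ∨ ((Fintype.card α = 6 ∨ Fintype.card α = 7) ∧ G = alternatingGroup α) ∨ (Fintype.card α = 11 ∧ Nat.card G = 7920) := by
  classical
  haveI : MulAction.IsPretransitive G (Fin 4 ↪ α) := hG
  have hx := MulAction.exists_smul_eq (M := G) (α := Fin 4 ↪ α)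
  have hst : ∀ y : Fin 4 ↪ α, Cfsg.Lib.OddFour.st G (⇑y) = MulAction.stabilizer G y := fun y => by
    ext g
    rw [Cfsg.Lib.OddFour.mem_st, MulAction.mem_stabilizer_iff, DFunLike.ext_iff]
    rfl
  have hconj : ∀ y : Fin 4 ↪ α, Nat.card (MulAction.stabilizer G y) = Nat.card (MulAction.stabilizer G x) := by
    intro y
    obtain ⟨g, rfl⟩ := hx x y
    exact (Nat.card_congr
      ((MulAction.stabilizerEquivStabilizer (G := G) (a := x) (b := g • x) (g := g) rfl)).toEquiv).symm
  have hyp : Cfsg.Lib.OddFour.Hyp G α := by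
    refine ⟨fun X Y hX hY => ?_, fun X hX => ?_⟩
    · obtain ⟨g, hg⟩ := hx ⟨X, hX⟩ ⟨Y, hY⟩
      exact ⟨g, fun i => DFunLike.congr_fun hg i⟩
    · rw [show X = ⇑(⟨X, hX⟩ : Fin 4 ↪ α) from rfl, hst, hconj]
      exact hodd
  have hcard : Nat.card G = (Fintype.card α).descFactorial 4 * Nat.card (MulAction.stabilizer G x) := by
    rw [← (MulAction.stabilizer G x).index_mul_card, @MulAction.index_stabilizer_of_transitive G (Fin 4 ↪ α) _ _ x hG,
      Nat.card_eq_fintype_card, Fintype.card_embedding_eq, Fintype.card_fin]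
  have hn4 : 4 ≤ Fintype.card α := by simpa using Fintype.card_le_of_embedding x
  obtain ⟨k, hk⟩ := hodd
  have hdvd := G.card_subgroup_dvd_card
  rw [Nat.card_eq_fintype_card (α := Equiv.Perm α), Fintype.card_perm, hcard] at hdvd
  have hidx := G.index_mul_card
  rw [Nat.card_eq_fintype_card (α := Equiv.Perm α), Fintype.card_perm, hcard] at hidx
  by_cases h8 : 8 ≤ Fintype.card α
  · rcases Nat.even_or_odd (Fintype.card α) with he | ho
    · exact (Cfsg.Lib.OddFour.even_case hyp he h8).elim
    · obtain ⟨h11, X, hX, h1⟩ := Cfsg.Lib.OddFour.odd_case hyp ho h8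
      refine Or.inr (Or.inr ⟨h11, ?_⟩)
      rw [show X = ⇑(⟨X, hX⟩ : Fin 4 ↪ α) from rfl, hst, hconj] at h1
      rw [hcard, h1, h11]
      decide
  have hcases : Fintype.card α = 4 ∨ Fintype.card α = 5 ∨ Fintype.card α = 6 ∨ Fintype.card α = 7 := by omega
  set c := Nat.card (MulAction.stabilizer G x) with hc
  rcases hcases with h | h | h | h <;>
    rw [h] at hdvd hidx <;> norm_num [Nat.descFactorial, Nat.factorial] at hdvd hidx
  · refine Or.inl ⟨Or.inl h, Subgroup.index_eq_one.1 ?_⟩
    have h1 : c ∣ 1 := Nat.dvd_of_mul_dvd_mul_left (by norm_num : 0 < 24) (by simpa using hdvd)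
    rw [Nat.dvd_one.1 h1] at hidx; omega
  · refine Or.inl ⟨Or.inr h, Subgroup.index_eq_one.1 ?_⟩
    have h1 : c ∣ 1 := Nat.dvd_of_mul_dvd_mul_left (by norm_num : 0 < 120) (by simpa using hdvd)
    rw [Nat.dvd_one.1 h1] at hidx; omega
  · refine Or.inr (Or.inl ⟨Or.inl h, Equiv.Perm.eq_alternatingGroup_of_index_eq_two ?_⟩)
    have h2 : c ∣ 2 := Nat.dvd_of_mul_dvd_mul_left (by norm_num : 0 < 360) (by simpa using hdvd)
    have := Nat.le_of_dvd (by norm_num) h2
    rw [show c = 1 by omega] at hidx; omega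
  · refine Or.inr (Or.inl ⟨Or.inr h, Equiv.Perm.eq_alternatingGroup_of_index_eq_two ?_⟩)
    have h6 : c ∣ 6 := Nat.dvd_of_mul_dvd_mul_left (by norm_num : 0 < 840) (by simpa using hdvd)
    have h6le := Nat.le_of_dvd (by norm_num) h6
    obtain h1 | h3 : c = 1 ∨ c = 3 := by
      have : c ≠ 5 := fun e => by rw [e] at h6; norm_num at h6
      omega
    · exfalso
      have hsharp : ∀ y : Fin 4 ↪ α, MulAction.stabilizer G y = ⊥ := fun y =>
        Subgroup.card_eq_one.1 (by rw [hconj, h1])
      rcases Cfsg.Lib.SharpJordan.degree_four (G := G) hG hsharp hn4 with e | e | e | e <;> omega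
    · rw [h3] at hidx; omega

end Cfsg.Agent.S4221
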