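import Cfsg.Statements.S4222
import Cfsg.Agent.SolvStruct.Basics

set_option autoImplicit false
open Cfsg

namespace Cfsg.Agent.S4222

/-- If a normal subgroup `N` of a finite group is complete (its centre is trivial and every automorphism of `N` is inner), then the group is the internal direct product of `N` and the centralizer of `N`: the centralizer is a complement to `N`. -/
theorem result {T : Type*} [Group T] [Finite T] (N : Subgroup T) [N.Normal] (hz : Subgroup.center ↥N = ⊥) (ha : Function.Surjective (MulAut.conj : ↥N →* MulAut ↥N)) : (Subgroup.centralizer (N : Set T)).IsComplement' N := by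
  refine Subgroup.isComplement'_of_disjoint_and_mul_eq_univ ?_ ?_
  · rw [disjoint_iff, eq_bot_iff]
    rintro x ⟨hxC, hxN⟩
    have h1 : (⟨x, hxN⟩ : N) ∈ Subgroup.center N :=
      Subgroup.mem_center_iff.2 fun y => Subtype.ext (hxC y y.2)
    rw [hz, Subgroup.mem_bot] at h1
    exact congrArg Subtype.val h1
  · rw [Set.eq_univ_iff_forall]
    intro g
    obtain ⟨n, hn⟩ := ha (MulAut.conjNormal g)
    refine ⟨g * (n : T)⁻¹, fun y hy => ?_, n, n.2, by simp⟩
    have h2 : (MulAut.conj n ⟨(n : T)⁻¹ * y * n, mul_mem (mul_mem (inv_mem n.2) hy) n.2⟩ : N) =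
        MulAut.conjNormal g ⟨(n : T)⁻¹ * y * n, mul_mem (mul_mem (inv_mem n.2) hy) n.2⟩ := by rw [hn]
    have h3 := congrArg Subtype.val h2
    rw [MulAut.conjNormal_apply] at h3
    simp only [MulAut.conj_apply, Subgroup.coe_mul, Subgroup.coe_inv] at h3
    have h4 : g * (n : T)⁻¹ * y * n * g⁻¹ = y := by
      rw [show g * (n : T)⁻¹ * y * n * g⁻¹ = g * ((n : T)⁻¹ * y * n) * g⁻¹ by group, ← h3]
      group
    calc y * (g * (n : T)⁻¹) = (g * (n : T)⁻¹ * y * n * g⁻¹) * (g * (n : T)⁻¹) := by rw [h4]
      _ = g * (n : T)⁻¹ * y := by group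

end Cfsg.Agent.S4222
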