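import Cfsg.Statements.S4230
import Mathlib

set_option autoImplicit false
open Cfsg

namespace Cfsg.Agent.S4230

/-- Let p be an odd prime, q a natural number not divisible by p, and e the multiplicative order of q modulo p. For a natural number f, p divides the value at q of the f-th cyclotomic polynomial if and only if f = e·p^j for some j ≥ 0. -/
theorem result (p q f : ℕ) (hp : p.Prime) (hp2 : p ≠ 2) (hpq : ¬ p ∣ q) :
    ((p : ℤ) ∣ (Polynomial.cyclotomic f ℤ).eval (q : ℤ)) ↔ ∃ j : ℕ, f = orderOf (q : ZMod p) * p ^ j := by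
  haveI := Fact.mk hp
  have hq : (q : ZMod p) ≠ 0 := fun h => hpq ((ZMod.natCast_eq_zero_iff q p).1 h)
  have he : (q : ZMod p) ^ (p - 1) = 1 := ZMod.pow_card_sub_one_eq_one hq
  have hep : ¬ p ∣ orderOf (q : ZMod p) := by
    intro h
    have h1 := Nat.le_of_dvd (Nat.sub_pos_of_lt hp.one_lt) (h.trans (orderOf_dvd_of_pow_eq_one he))
    have := hp.one_lt
    omega
  have he0 : orderOf (q : ZMod p) ≠ 0 := fun h => hep (h ▸ dvd_zero p)
  have key : ((p : ℤ) ∣ (Polynomial.cyclotomic f ℤ).eval (q : ℤ)) ↔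
      (Polynomial.cyclotomic f (ZMod p)).IsRoot (q : ZMod p) := by
    rw [← ZMod.intCast_zmod_eq_zero_iff_dvd, Polynomial.IsRoot.def,
      ← Polynomial.map_cyclotomic f (Int.castRingHom (ZMod p)), ← eq_intCast (Int.castRingHom (ZMod p)),
      show ((q : ZMod p)) = (((q : ℤ) : ZMod p)) from (Int.cast_natCast q).symm, Polynomial.eval_intCast_map, Int.cast_id]
  rw [key]
  rcases Nat.eq_zero_or_pos f with rfl | hf
  · refine ⟨fun h => absurd h (by simp), fun ⟨j, hj⟩ => ?_⟩
    exact absurd hj.symm (mul_ne_zero he0 (pow_ne_zero _ hp.ne_zero))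
  obtain ⟨k, m, hm, rfl⟩ := Nat.exists_eq_pow_mul_and_not_dvd hf.ne' p hp.ne_one
  haveI : NeZero (m : ZMod p) := ⟨fun h => hm ((ZMod.natCast_eq_zero_iff m p).1 h)⟩
  rw [Polynomial.isRoot_cyclotomic_prime_pow_mul_iff_of_charP]
  constructor
  · intro h
    exact ⟨k, by rw [← h.eq_orderOf, mul_comm]⟩
  · rintro ⟨j, hj⟩
    have h1 : m = orderOf (q : ZMod p) := by
      have e1 : Nat.Coprime m (p ^ j) := Nat.Coprime.pow_right j ((hp.coprime_iff_not_dvd.2 hm).symm)
      have e2 : Nat.Coprime (orderOf (q : ZMod p)) (p ^ k) := Nat.Coprime.pow_right k ((hp.coprime_iff_not_dvd.2 hep).symm)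
      refine Nat.dvd_antisymm (e1.dvd_of_dvd_mul_right (hj ▸ dvd_mul_left m _)) ?_
      exact e2.dvd_of_dvd_mul_left (hj.symm ▸ dvd_mul_right _ _)
    exact h1 ▸ IsPrimitiveRoot.orderOf _

end Cfsg.Agent.S4230
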