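import Cfsg.Statements.S4244
import Cfsg.Agent.Coprime.Sylow

set_option autoImplicit false
open Cfsg

namespace Cfsg.Agent.S4244

/-- Let H be a subnormal subgroup of a finite group G. Then for every subgroup K of G the index of H ∩ K in H divides the index of K in G. -/
theorem result {G : Type*} [Group G] [Finite G] (H : Subgroup G) (hH : H.IsSubnormal) (K : Subgroup G) :
    (H ⊓ K).relIndex H ∣ K.index := by
  rw [Subgroup.inf_relIndex_left]
  induction hH with
  | top => rw [Subgroup.relIndex_top_right]
  | step H M hle hM hn ih =>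
    refine Dvd.dvd.trans ?_ ih
    haveI := hn
    have key : ∀ N H' : Subgroup G, N ≤ H' → H' ≤ Subgroup.normalizer (N : Set G) →
        K.relIndex N ∣ K.relIndex H' := by
      intro N H' hNH hnor
      have hnK : K ⊓ H' ≤ Subgroup.normalizer (N : Set G) := inf_le_right.trans hnor
      have h1 := Cfsg.Lib.Coprime.card_sup_mul_card_inf hnK
      have e1 : N ⊓ (K ⊓ H') = K ⊓ N := by
        rw [← inf_assoc, inf_comm N K, inf_assoc, inf_eq_left.2 hNH]
      rw [e1] at h1
      have h2 : Nat.card ↥(K ⊓ N) * K.relIndex N = Nat.card N := by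
        rw [← Subgroup.inf_relIndex_right, ← Subgroup.relIndex_bot_left,
          Subgroup.relIndex_mul_relIndex _ _ _ bot_le inf_le_right, Subgroup.relIndex_bot_left]
      have h3 : Nat.card ↥(K ⊓ H') * K.relIndex H' = Nat.card H' := by
        rw [← Subgroup.inf_relIndex_right, ← Subgroup.relIndex_bot_left,
          Subgroup.relIndex_mul_relIndex _ _ _ bot_le inf_le_right, Subgroup.relIndex_bot_left]
      have h4 : Nat.card ↥(N ⊔ K ⊓ H') = Nat.card ↥(K ⊓ H') * K.relIndex N := by
        apply Nat.eq_of_mul_eq_mul_right (Nat.card_pos (α := ↥(K ⊓ N)))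
        rw [h1, ← h2]; ring
      have h5 := Subgroup.card_dvd_of_le (sup_le hNH inf_le_right : N ⊔ K ⊓ H' ≤ H')
      rw [h4, ← h3] at h5
      exact Nat.dvd_of_mul_dvd_mul_left Nat.card_pos h5
    exact key H M hle ((Subgroup.normal_subgroupOf_iff_le_normalizer hle).1 hn)

end Cfsg.Agent.S4244
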