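import Cfsg.Statements.S4255
import Cfsg.Agent.SolvStruct.ClassGraphDisconnected

set_option autoImplicit false
open Cfsg

namespace Cfsg.Agent.S4255

/-- Let G be a finite group. Call a prime a vertex if it divides some conjugacy class size of G, and two distinct vertices adjacent if their product divides some class size. Suppose this graph is disconnected: the vertices split into two nonempty parts with no vertex of one part adjacent to a vertex of the other. Then G/Z(G) is a Frobenius group with abelian Frobenius complement and with a Frobenius kernel all of whose elements commute. -/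
theorem result {G : Type*} [Group G] [Finite G] (S : Set ℕ) (hS : ∃ p ∈ S, (p.Prime ∧ ∃ g : G, p ∣ (Subgroup.centralizer ({g} : Set G)).index)) (hS' : ∃ q ∉ S, (q.Prime ∧ ∃ g : G, q ∣ (Subgroup.centralizer ({g} : Set G)).index))
    (hdisc : ∀ p q : ℕ, (p.Prime ∧ ∃ g : G, p ∣ (Subgroup.centralizer ({g} : Set G)).index) → (q.Prime ∧ ∃ g : G, q ∣ (Subgroup.centralizer ({g} : Set G)).index) → p ∈ S → q ∉ S → ¬ (∃ g : G, p * q ∣ (Subgroup.centralizer ({g} : Set G)).index)) :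
    ∃ H : Subgroup (G ⧸ Subgroup.center G), Cfsg.IsFrobeniusComplement H ∧ IsMulCommutative H ∧
      ∀ x ∈ Cfsg.frobeniusKernel H, ∀ y ∈ Cfsg.frobeniusKernel H, x * y = y * x := by
  classical
  obtain ⟨p, hpS, hp, x, hx⟩ := hS
  obtain ⟨q, hqS, hq, y, hy⟩ := hS'
  have hdich : ∀ g : G, Cfsg.Lib.ClassGraphDisconnected.On S (Cfsg.Lib.ClassPrimeGraph.isz g) ∨
      Cfsg.Lib.ClassGraphDisconnected.On Sᶜ (Cfsg.Lib.ClassPrimeGraph.isz g) := by
    intro g
    by_cases h : ∃ r, r.Prime ∧ r ∣ Cfsg.Lib.ClassPrimeGraph.isz g ∧ r ∈ S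
    · obtain ⟨r, hr, hrg, hrS⟩ := h
      refine Or.inl fun t ht htg => ?_
      by_contra htS
      exact hdisc r t ⟨hr, g, hrg⟩ ⟨ht, g, htg⟩ hrS htS
        ⟨g, ((Nat.coprime_primes hr ht).2 fun e => htS (e ▸ hrS)).mul_dvd_of_dvd_of_dvd hrg htg⟩
    · exact Or.inr fun t ht htg htS => h ⟨t, ht, htg, htS⟩
  have key : ∀ (S : Set ℕ), (∀ g : G, Cfsg.Lib.ClassGraphDisconnected.On S (Cfsg.Lib.ClassPrimeGraph.isz g) ∨
      Cfsg.Lib.ClassGraphDisconnected.On Sᶜ (Cfsg.Lib.ClassPrimeGraph.isz g)) → ∀ {x y : G} {p q : ℕ},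
      p ∈ S → p.Prime → p ∣ Cfsg.Lib.ClassPrimeGraph.isz x →
      q ∉ S → q.Prime → q ∣ Cfsg.Lib.ClassPrimeGraph.isz y →
      Cfsg.Lib.ClassPrimeGraph.isz x < Cfsg.Lib.ClassPrimeGraph.isz y →
      ∃ H : Subgroup (G ⧸ Subgroup.center G), Cfsg.IsFrobeniusComplement H ∧ IsMulCommutative H ∧
        ∀ x ∈ Cfsg.frobeniusKernel H, ∀ y ∈ Cfsg.frobeniusKernel H, x * y = y * x := by
    intro S hd x y p q hpS hp hx hqS hq hy hlt
    have hxS := (hd x).resolve_right fun h => h p hp hx hpS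
    have hyS := (hd y).resolve_left fun h => hqS (h q hq hy)
    have hxc : x ∉ Subgroup.center G := fun h => by
      rw [Cfsg.Lib.ClassPrimeGraph.isz_eq_one fun g => Subgroup.mem_center_iff.1 h g] at hx
      exact hp.not_dvd_one hx
    obtain ⟨u, hu, huc, s, a, hs, huo⟩ := Cfsg.Lib.Schmidt.exists_prime_power_mem x (Subgroup.center G) hxc
    have hdvd := Cfsg.Lib.ClassPrimeGraph.isz_dvd_zpowers hu
    refine Cfsg.Lib.ClassGraphDisconnected.main S hd hs huo (hxS.mono hdvd) (fun h => huc ?_) hyS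
      (lt_of_le_of_lt (Nat.le_of_dvd (Cfsg.Lib.ClassPrimeGraph.isz_pos x) hdvd) hlt)
    exact Subgroup.mem_center_iff.2 fun g => (Cfsg.Lib.ClassGraphDisconnected.commute_of_isz_one h g).eq
  rcases lt_trichotomy (Cfsg.Lib.ClassPrimeGraph.isz x) (Cfsg.Lib.ClassPrimeGraph.isz y) with h | h | h
  · exact key S hdich hpS hp hx hqS hq hy h
  · exfalso
    exact hdisc p q ⟨hp, x, hx⟩ ⟨hq, y, hy⟩ hpS hqS ⟨x,
      ((Nat.coprime_primes hp hq).2 fun e => hqS (e ▸ hpS)).mul_dvd_of_dvd_of_dvd hx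
        (show q ∣ Cfsg.Lib.ClassPrimeGraph.isz x from h ▸ hy)⟩
  · exact key Sᶜ (fun g => (hdich g).symm.imp_right fun h => by rwa [compl_compl]) hqS hq hy
      (fun h => h hpS) hp hx h

end Cfsg.Agent.S4255
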