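import Cfsg.Statements.S4257
import Cfsg.Agent.SolvStruct.ClassPrimeGraph

set_option autoImplicit false
open Cfsg

namespace Cfsg.Agent.S4257

/-- Let G be a finite group. Call a prime a vertex if it divides some conjugacy class size of G, and two distinct vertices adjacent if their product divides some class size. If this graph is connected, then its diameter is at most 3: any two distinct vertices p and q are adjacent, or joined through one or two intermediate vertices. -/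
theorem result {G : Type*} [Group G] [Finite G]
    (hconn : ∀ S : Set ℕ, (∃ p ∈ S, (p.Prime ∧ ∃ g : G, p ∣ (Subgroup.centralizer ({g} : Set G)).index)) → (∃ q ∉ S, (q.Prime ∧ ∃ g : G, q ∣ (Subgroup.centralizer ({g} : Set G)).index)) →
      ∃ p q : ℕ, (p.Prime ∧ ∃ g : G, p ∣ (Subgroup.centralizer ({g} : Set G)).index) ∧ (q.Prime ∧ ∃ g : G, q ∣ (Subgroup.centralizer ({g} : Set G)).index) ∧ p ∈ S ∧ q ∉ S ∧ (∃ g : G, p * q ∣ (Subgroup.centralizer ({g} : Set G)).index))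
    (p q : ℕ) (hp : (p.Prime ∧ ∃ g : G, p ∣ (Subgroup.centralizer ({g} : Set G)).index)) (hq : (q.Prime ∧ ∃ g : G, q ∣ (Subgroup.centralizer ({g} : Set G)).index)) (hpq : p ≠ q) :
    (∃ g : G, p * q ∣ (Subgroup.centralizer ({g} : Set G)).index) ∨ (∃ r : ℕ, (r.Prime ∧ ∃ g : G, r ∣ (Subgroup.centralizer ({g} : Set G)).index) ∧ r ≠ p ∧ r ≠ q ∧ (∃ g : G, p * r ∣ (Subgroup.centralizer ({g} : Set G)).index) ∧ (∃ g : G, r * q ∣ (Subgroup.centralizer ({g} : Set G)).index)) ∨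
      (∃ r s : ℕ, (r.Prime ∧ ∃ g : G, r ∣ (Subgroup.centralizer ({g} : Set G)).index) ∧ (s.Prime ∧ ∃ g : G, s ∣ (Subgroup.centralizer ({g} : Set G)).index) ∧ r ≠ p ∧ s ≠ q ∧ r ≠ s ∧ r ≠ q ∧ s ≠ p ∧
        (∃ g : G, p * r ∣ (Subgroup.centralizer ({g} : Set G)).index) ∧ (∃ g : G, r * s ∣ (Subgroup.centralizer ({g} : Set G)).index) ∧ (∃ g : G, s * q ∣ (Subgroup.centralizer ({g} : Set G)).index)) := by
  classical
  have conv : ∀ {u v : ℕ}, u ≠ v → Cfsg.Lib.ClassPrimeGraph.Meet G u v →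
      ∃ g : G, u * v ∣ (Subgroup.centralizer ({g} : Set G)).index := by
    rintro u v huv ⟨hu, hv, g, h1, h2⟩
    exact ⟨g, ((Nat.coprime_primes hu hv).2 huv).mul_dvd_of_dvd_of_dvd h1 h2⟩
  have vert : ∀ {u v : ℕ}, Cfsg.Lib.ClassPrimeGraph.Meet G u v →
      u.Prime ∧ ∃ g : G, u ∣ (Subgroup.centralizer ({g} : Set G)).index :=
    fun ⟨hu, _, g, h1, _⟩ => ⟨hu, g, h1⟩
  obtain ⟨x, hx⟩ := hp.2
  obtain ⟨y, hy⟩ := hq.2
  obtain ⟨r, s, hpr, hrs, hsq⟩ := Cfsg.Lib.ClassPrimeGraph.main (fun S h1 h2 => by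
    obtain ⟨a, b, ha, hb, haS, hbS, g, hg⟩ := hconn S h1 h2
    exact ⟨a, b, haS, hbS, ha.1, hb.1, g, dvd_trans (dvd_mul_right a b) hg,
      dvd_trans (dvd_mul_left b a) hg⟩) hp.1 hq.1 hx hy
  -- two steps
  have two : ∀ t, Cfsg.Lib.ClassPrimeGraph.Meet G p t → Cfsg.Lib.ClassPrimeGraph.Meet G t q →
      (∃ g : G, p * q ∣ (Subgroup.centralizer ({g} : Set G)).index) ∨
      (∃ r : ℕ, (r.Prime ∧ ∃ g : G, r ∣ (Subgroup.centralizer ({g} : Set G)).index) ∧ r ≠ p ∧ r ≠ q ∧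
        (∃ g : G, p * r ∣ (Subgroup.centralizer ({g} : Set G)).index) ∧
        (∃ g : G, r * q ∣ (Subgroup.centralizer ({g} : Set G)).index)) := by
    intro t h1 h2
    by_cases htp : t = p
    · subst htp; exact Or.inl (conv hpq h2)
    by_cases htq : t = q
    · subst htq; exact Or.inl (conv hpq h1)
    exact Or.inr ⟨t, vert h2, htp, htq, conv (Ne.symm htp) h1, conv htq h2⟩
  by_cases e1 : r = p
  · subst e1
    exact (two s hrs hsq).imp_right Or.inl
  by_cases e2 : s = q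
  · subst e2
    exact (two r hpr hrs).imp_right Or.inl
  by_cases e3 : r = s
  · subst e3
    exact (two r hpr hsq).imp_right Or.inl
  by_cases e4 : r = q
  · subst e4
    exact Or.inl (conv hpq hpr)
  by_cases e5 : s = p
  · subst e5
    exact Or.inl (conv hpq hsq)
  exact Or.inr (Or.inr ⟨r, s, vert hrs, vert hsq, e1, e2, e3, e4, e5, conv (Ne.symm e1) hpr, conv e3 hrs,
    conv e2 hsq⟩)

end Cfsg.Agent.S4257
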