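import Cfsg.Statements.S4260
import Cfsg.Agent.SolvStruct.Basics

set_option autoImplicit false
open Cfsg

namespace Cfsg.Agent.S4260

/-- Let H be a Hall subgroup of a finite group G (the order of H is coprime to its index) such that x^[G : H] lies in H for every x in G. Then H is normal in G. -/
theorem result {G : Type*} [Group G] [Finite G] (H : Subgroup G) (hHall : (Nat.card H).Coprime H.index)
    (hexp : ∀ x : G, x ^ H.index ∈ H) : H.Normal := by
  refine ⟨fun h hh g => ?_⟩
  set y := g * h * g⁻¹
  have h1 : y ^ Nat.card H = 1 := by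
    rw [conj_pow, show h ^ Nat.card H = 1 from congrArg Subtype.val (pow_card_eq_one' (x := (⟨h, hh⟩ : H)))]
    group
  have hbez : ((Nat.card H).gcd H.index : ℤ) = (Nat.card H : ℤ) * Nat.gcdA (Nat.card H) H.index +
      (H.index : ℤ) * Nat.gcdB (Nat.card H) H.index := Nat.gcd_eq_gcd_ab _ _
  rw [hHall.gcd_eq_one, Nat.cast_one] at hbez
  rw [← zpow_one y, hbez, zpow_add, zpow_mul, zpow_mul, zpow_natCast, h1, one_zpow, one_mul, zpow_natCast]
  exact zpow_mem (hexp y) _

end Cfsg.Agent.S4260
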