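import Cfsg.Statements.S4261
import Cfsg.Agent.S0048

set_option autoImplicit false
open Cfsg

namespace Cfsg.Agent.S4261

/-- Let M be a maximal subgroup of a finite solvable group G such that x^[G : M] lies in M for every x in G. Then M is normal in G. -/
theorem result {G : Type*} [Group G] [Finite G] (hG : Group.IsSolvable G) (M : Subgroup G) (hM : IsCoatom M)
    (hexp : ∀ x : G, x ^ M.index ∈ M) : M.Normal := by
  classical
  haveI := hG
  obtain ⟨p, k, hp, hk, hidx⟩ := (isPrimePow_nat_iff _).1 (Cfsg.Agent.S0048.result M hM)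
  haveI := Fact.mk hp
  set N := Subgroup.closure {x : G | (orderOf x).Coprime p}
  have hNM : N ≤ M := by
    rw [Subgroup.closure_le]
    intro x hx
    have h1 : Subgroup.zpowers (x ^ p ^ k) = Subgroup.zpowers x := by
      refine Subgroup.eq_of_le_of_card_ge (Subgroup.zpowers_le.2 (pow_mem (Subgroup.mem_zpowers x) _)) ?_
      rw [Nat.card_zpowers, Nat.card_zpowers, (Nat.Coprime.pow_right k hx).orderOf_pow]
    exact Subgroup.zpowers_le.2 (hidx ▸ hexp x) (h1 ▸ Subgroup.mem_zpowers x)
  haveI hN : N.Normal := ⟨fun n hn g => by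
    have hle : N ≤ N.comap (MulAut.conj g).toMonoidHom := by
      rw [Subgroup.closure_le]
      intro x hx
      refine Subgroup.subset_closure ?_
      show (orderOf ((MulAut.conj g) x)).Coprime p
      rwa [MulEquiv.orderOf_eq]
    exact hle hn⟩
  set π := QuotientGroup.mk' N
  have hq : IsPGroup p (G ⧸ N) := by
    intro q
    obtain ⟨x, rfl⟩ := QuotientGroup.mk'_surjective N q
    set a := (orderOf x).factorization p
    refine ⟨a, ?_⟩
    rw [← map_pow]
    refine (QuotientGroup.eq_one_iff _).2 (Subgroup.subset_closure ?_)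
    show (orderOf (x ^ p ^ a)).Coprime p
    rw [orderOf_pow_of_dvd (pow_ne_zero _ hp.ne_zero) (Nat.ordProj_dvd _ _)]
    exact (Nat.coprime_ordCompl hp (orderOf_pos x).ne').symm
  haveI := hq.isNilpotent
  have hcomap : (M.map π).comap π = M := by
    rw [Subgroup.comap_map_eq, QuotientGroup.ker_mk', sup_eq_left.2 hNM]
  have hco : IsCoatom (M.map π) := by
    refine ⟨fun h => hM.1 (by rw [← hcomap, h, Subgroup.comap_top]), fun L hL => ?_⟩
    have hlt : M < L.comap π := by
      rw [← hcomap]
      exact (Subgroup.comap_lt_comap_of_surjective (QuotientGroup.mk'_surjective N)).2 hL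
    exact Subgroup.comap_injective (QuotientGroup.mk'_surjective N) ((hM.2 _ hlt).trans (Subgroup.comap_top π).symm)
  have hn := Subgroup.NormalizerCondition.normal_of_coatom (M.map π) Group.normalizerCondition_of_isNilpotent hco
  rw [← hcomap]
  exact hn.comap π

end Cfsg.Agent.S4261
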