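import Cfsg.Statements.S4265
import Cfsg.Agent.SolvLinear.ModP

set_option autoImplicit false
open Cfsg

namespace Cfsg.Agent.S4265

/-- Let G be a finite solvable subgroup of GL_r(ℂ), r ≥ 1, with Fitting subgroup F(G) normal in G. Then for every subgroup H of G the quotient H/(H ∩ F(G)) has at most 3^{r−1} conjugacy classes. -/
theorem result (r : ℕ) (hr : 1 ≤ r) (G : Subgroup (GL (Fin r) ℂ)) [Finite ↥G] (hsolv : Group.IsSolvable ↥G) [hF : (Cfsg.fittingSubgroup ↥G).Normal] (H : Subgroup ↥G) : Nat.card (ConjClasses (↥H ⧸ (Cfsg.fittingSubgroup ↥G).subgroupOf H)) ≤ 3 ^ (r - 1) := by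
  haveI := hsolv
  set f := (QuotientGroup.mk' (Cfsg.fittingSubgroup ↥G)).comp H.subtype with hf
  have hk : f.ker = (Cfsg.fittingSubgroup ↥G).subgroupOf H := by
    ext x
    rw [MonoidHom.mem_ker, Subgroup.mem_subgroupOf]
    exact QuotientGroup.eq_one_iff _
  let e := (QuotientGroup.quotientMulEquivOfEq hk.symm).trans (QuotientGroup.quotientKerEquivRange f)
  exact (Cfsg.Lib.SolvLinear.card_classes_map_le e.symm.toMonoidHom e.symm.surjective).trans
    (Cfsg.Lib.SolvLinear.sb_complex r hr G f.range)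

end Cfsg.Agent.S4265
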