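import Cfsg.Statements.S4274
import Cfsg.Agent.Small.Order87780

set_option autoImplicit false
open Cfsg

namespace Cfsg.Agent.S4274

universe u

open MulAction Cfsg.Lib.Small Cfsg.Lib.Small.Sieve
open scoped Pointwise

/-- The orders of simple groups are excluded. -/
theorem table : ((List.range 9240).all fun m =>
    decide (m = 0) || decide (9240 % m ≠ 0) || decide (m = 4620) ||
      kill [(1140, 19), (2280, 19), (5320, 19), (11704, 19), (12540, 19), (15960, 19), (17556, 19),
        (25080, 19), (35112, 19), (7980, 5), (58520, 11)] [] (19 * m)) = true := by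
  decide +kernel

/-- An element of order `19` normalising a group with at most `11` elements centralises it. -/
theorem centralizes_small {H : Type u} [Group H] [Finite H] (R : Subgroup H)
    (hR : Nat.card ↥R < 19) (y : H) (hy : y ^ 19 = 1) (hn : y ∈ Subgroup.normalizer (R : Set H)) :
    ∀ r ∈ R, r * y = y * r := by
  classical
  intro r hr
  have := Fintype.ofFinite ↥R
  have : Fact (Nat.Prime 19) := ⟨Cfsg.Lib.Small.Order87780.prime19⟩
  let σ : Equiv.Perm ↥R := (Subgroup.normalizerMonoidHom R ⟨y, hn⟩).toEquiv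
  have hσ : σ ^ 19 = 1 := by
    have h1 : (Subgroup.normalizerMonoidHom R ⟨y, hn⟩) ^ 19 = 1 := by
      rw [← map_pow, show (⟨y, hn⟩ : ↥(Subgroup.normalizer (R : Set H))) ^ 19 = 1 from Subtype.ext hy,
        map_one]
    exact (map_pow (MulAut.toPerm ↥R) _ 19).symm.trans (by rw [h1, map_one])
  have hfix : σ = 1 := by
    by_contra hne
    have ho : orderOf σ = 19 := orderOf_eq_prime hσ hne
    have h1 : orderOf σ ∣ Nat.card (Equiv.Perm ↥R) := orderOf_dvd_natCard σ
    rw [ho, Nat.card_perm, (Fact.out : Nat.Prime 19).dvd_factorial] at h1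
    omega
  have h2 : y * r * y⁻¹ = r := congrArg Subtype.val (Equiv.ext_iff.1 hfix ⟨r, hr⟩)
  exact (mul_inv_eq_iff_eq_mul.1 h2).symm

/-- The prime powers dividing `9240` are small. -/
theorem small_parts (r k : ℕ) (hr : r.Prime) (h : r ^ k ∣ 9240) : r ^ k < 19 := by
  have hfac : ∀ q : ℕ, q.Prime → q ∣ 9240 → q = 2 ∨ q = 3 ∨ q = 5 ∨ q = 7 ∨ q = 11 := by
    intro q hq hd
    rw [show 9240 = 2 ^ 3 * 3 * 5 * 7 * 11 by norm_num] at hd
    rcases hq.dvd_mul.1 hd with hd | hd
    · rcases hq.dvd_mul.1 hd with hd | hd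
      · rcases hq.dvd_mul.1 hd with hd | hd
        · rcases hq.dvd_mul.1 hd with hd | hd
          · exact Or.inl ((Nat.prime_dvd_prime_iff_eq hq Nat.prime_two).1 (hq.dvd_of_dvd_pow hd))
          · exact Or.inr (Or.inl ((Nat.prime_dvd_prime_iff_eq hq Nat.prime_three).1 hd))
        · exact Or.inr (Or.inr (Or.inl ((Nat.prime_dvd_prime_iff_eq hq (by norm_num)).1 hd)))
      · exact Or.inr (Or.inr (Or.inr (Or.inl ((Nat.prime_dvd_prime_iff_eq hq (by norm_num)).1 hd))))
    · exact Or.inr (Or.inr (Or.inr (Or.inr ((Nat.prime_dvd_prime_iff_eq hq (by norm_num)).1 hd))))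
  rcases Nat.eq_zero_or_pos k with rfl | hk
  · norm_num
  have hb : ∀ j, 1 < j → ¬ r ^ j ∣ 9240 → k < j := fun j _ hn => by
    by_contra hge
    exact hn ((pow_dvd_pow r (not_lt.1 hge)).trans h)
  rcases hfac r hr ((dvd_pow_self r hk.ne').trans h) with rfl | rfl | rfl | rfl | rfl
  · have := hb 4 (by norm_num) (by norm_num)
    interval_cases k <;> norm_num
  all_goals
    have := hb 2 (by norm_num) (by norm_num)
    interval_cases k
    norm_num

/-- The counting statement for all divisors. -/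
theorem normal_of_order (d : ℕ) : ∀ (H : Type u) [Group H] [Finite H], Nat.card H = d → d ∣ 175560 →
    19 ∣ d → (d < 175560 ∨ ¬ IsSimpleGroup H) → ∀ P : Sylow 19 H, (P : Subgroup H).Normal := by
  induction d using Nat.strong_induction_on with
  | _ d ih =>
  intro H _ _ hcard hd h19 hns P
  obtain ⟨m, rfl⟩ := h19
  have hm : m ∣ 9240 := Nat.dvd_of_mul_dvd_mul_left (by norm_num) (show 19 * m ∣ 19 * 9240 from hd)
  have hm0 : 0 < m := Nat.pos_of_dvd_of_pos hm (by norm_num)
  have h19m : ¬ 19 ∣ m := fun h => by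
    have := h.trans hm
    norm_num at this
  have hP : Nat.card ↥(P : Subgroup H) = 19 :=
    (card_sylow_of_factor P (a := 1) (m := m) (by rw [hcard, pow_one]) h19m).trans (pow_one _)
  have : Nontrivial H := Finite.one_lt_card_iff_nontrivial.1 (by omega)
  by_cases hS : IsSimpleGroup H
  · have hlt : m < 9240 := by
      rcases hns with h | h
      · omega
      · exact absurd hS h
    by_cases hm1 : m = 1
    · have htop : (P : Subgroup H) = ⊤ := Subgroup.eq_top_of_card_eq _ (by rw [hP, hcard, hm1])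
      rw [htop]
      infer_instance
    exfalso
    have hnc : ¬ ∀ a b : H, a * b = b * a :=
      not_comm_of_isSimple (by rw [hcard]; exact Nat.not_prime_mul (by norm_num) hm1)
    have h1 := table
    rw [List.all_eq_true] at h1
    have h2 := h1 m (List.mem_range.2 hlt)
    simp only [Bool.or_eq_true, decide_eq_true_eq] at h2
    rcases h2 with ((h2 | h2) | h2) | h2
    · omega
    · exact h2 (Nat.mod_eq_zero_of_dvd hm)
    · exact Cfsg.Lib.Small.Order87780.card_ne hnc (by rw [hcard, h2])
    · exact false_of_kill hnc (by rw [hcard]; exact h2)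
  obtain ⟨N, hN, hN1, hN2⟩ : ∃ N : Subgroup H, N.Normal ∧ N ≠ ⊥ ∧ N ≠ ⊤ := by
    by_contra hcon
    push Not at hcon
    exact hS ⟨fun N hN => or_iff_not_imp_left.2 (hcon N hN)⟩
  -- a proper normal subgroup containing a Sylow subgroup
  have hfinish : ∀ L : Subgroup H, L.Normal → L ≠ ⊤ → 19 ∣ Nat.card ↥L → (P : Subgroup H).Normal := by
    intro L hL hLt hdvd
    obtain ⟨Q⟩ : Nonempty (Sylow 19 ↥L) := inferInstance
    have hlt : Nat.card ↥L < 19 * m := by
      rw [← hcard]
      exact lt_of_le_of_ne (Subgroup.card_le_card_group L) fun e => hLt (Subgroup.eq_top_of_card_eq L e)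
    have hQn : (Q : Subgroup ↥L).Normal :=
      ih _ hlt ↥L rfl ((hcard ▸ Subgroup.card_subgroup_dvd_card L).trans hd) hdvd
        (Or.inl (hlt.trans_le (Nat.le_of_dvd (by norm_num) hd))) Q
    have : (Q : Subgroup ↥L).Characteristic := Q.characteristic_of_normal hQn
    have := hL
    have hQH : ((Q : Subgroup ↥L).map L.subtype).Normal := inferInstance
    have hQc : Nat.card ↥((Q : Subgroup ↥L).map L.subtype) = 19 := by
      rw [← Nat.card_congr ((Q : Subgroup ↥L).equivMapOfInjective L.subtype L.subtype_injective).toEquiv]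
      obtain ⟨j, hj⟩ := hdvd
      have hjm : j ∣ m := Nat.dvd_of_mul_dvd_mul_left (by norm_num) (show 19 * j ∣ 19 * m by
        rw [← hj, ← hcard]; exact Subgroup.card_subgroup_dvd_card L)
      exact (card_sylow_of_factor Q (a := 1) (m := j) (by rw [pow_one, hj])
        fun h => h19m (h.trans hjm)).trans (pow_one _)
    obtain ⟨R, hR⟩ := (IsPGroup.of_card (p := 19) (n := 1) (by rw [pow_one]; exact hQc) :
      IsPGroup 19 ↥((Q : Subgroup ↥L).map L.subtype)).exists_le_sylow
    have heq : (Q : Subgroup ↥L).map L.subtype = (R : Subgroup H) :=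
      Subgroup.eq_of_le_of_card_ge hR (by
        rw [hQc, (card_sylow_of_factor R (a := 1) (m := m) (by rw [hcard, pow_one]) h19m), pow_one])
    have hRn : (R : Subgroup H).Normal := heq ▸ hQH
    have := Sylow.unique_of_normal R hRn
    rw [Subsingleton.elim P R]
    exact hRn
  by_cases hdN : 19 ∣ Nat.card ↥N
  · exact hfinish N hN hN2 hdN
  have := hN
  have hq : Nat.card (H ⧸ N) * Nat.card ↥N = 19 * m := by
    rw [← hcard, ← Subgroup.card_eq_card_quotient_mul_card_subgroup]
  have hdq : 19 ∣ Nat.card (H ⧸ N) := by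
    rcases (Nat.Prime.dvd_mul Cfsg.Lib.Small.Order87780.prime19).1 ⟨m, hq⟩ with h | h
    · exact h
    · exact absurd h hdN
  have hqlt : Nat.card (H ⧸ N) < 19 * m := by
    rw [← hq]
    have h1 : 1 < Nat.card ↥N := by
      rwa [Finite.one_lt_card_iff_nontrivial, Subgroup.nontrivial_iff_ne_bot]
    calc Nat.card (H ⧸ N) = Nat.card (H ⧸ N) * 1 := (mul_one _).symm
      _ < _ := Nat.mul_lt_mul_of_pos_left h1 Nat.card_pos
  obtain ⟨Q⟩ : Nonempty (Sylow 19 (H ⧸ N)) := inferInstance
  have hQn : (Q : Subgroup (H ⧸ N)).Normal :=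
    ih _ hqlt (H ⧸ N) rfl ((Dvd.intro _ hq).trans hd) hdq
      (Or.inl (hqlt.trans_le (Nat.le_of_dvd (by norm_num) hd))) Q
  set L := (Q : Subgroup (H ⧸ N)).comap (QuotientGroup.mk' N) with hLdef
  have hL19 : 19 ∣ Nat.card ↥L := by
    refine dvd_trans ?_ (Subgroup.card_dvd_of_surjective
      ((QuotientGroup.mk' N).subgroupComap (Q : Subgroup (H ⧸ N)))
      ((QuotientGroup.mk' N).subgroupComap_surjective_of_surjective _ (QuotientGroup.mk'_surjective N)))
    exact Q.dvd_card_of_dvd_card hdq
  by_cases hLt : L ≠ ⊤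
  · exact hfinish L inferInstance hLt hL19
  push Not at hLt
  -- the order is 19 times that of the normal subgroup
  have hQtop : (Q : Subgroup (H ⧸ N)) = ⊤ :=
    Subgroup.comap_injective (QuotientGroup.mk'_surjective N) (hLt.trans (Subgroup.comap_top _).symm)
  have hq19 : Nat.card (H ⧸ N) = 19 := by
    obtain ⟨j, hj⟩ := hdq
    have hjm : j ∣ m := by
      refine ⟨Nat.card ↥N, Nat.eq_of_mul_eq_mul_left (show 0 < 19 by norm_num) ?_⟩
      rw [← hq, hj, mul_assoc]
    have := card_sylow_of_factor Q (a := 1) (m := j) (by rw [pow_one, hj]) fun h => h19m (h.trans hjm)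
    rwa [hQtop, Subgroup.card_top, pow_one] at this
  have hNm : Nat.card ↥N = m := by rw [hq19] at hq; omega
  -- P centralises a Sylow subgroup for each prime
  obtain ⟨y, hy⟩ := exists_prime_orderOf_dvd_card' (G := ↥(P : Subgroup H)) 19 (dvd_of_eq hP.symm)
  have hy' : orderOf (y : H) = 19 := by rw [Subgroup.orderOf_coe, hy]
  have hyP : Subgroup.zpowers (y : H) = (P : Subgroup H) :=
    Subgroup.eq_of_le_of_card_ge (Subgroup.zpowers_le.2 y.2) (by rw [Nat.card_zpowers, hy', hP])
  have hC : Subgroup.centralizer ({(y : H)} : Set H) = ⊤ := by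
    refine Subgroup.eq_top_of_card_eq _ (Nat.dvd_antisymm (Subgroup.card_subgroup_dvd_card _) ?_)
    rw [hcard]
    refine (Nat.Coprime.mul_dvd_of_dvd_of_dvd
      ((Nat.Prime.coprime_iff_not_dvd Cfsg.Lib.Small.Order87780.prime19).2 h19m) ?_ ?_)
    · refine (dvd_of_eq (hy'.symm.trans (Nat.card_zpowers (y : H)).symm)).trans ?_
      exact Subgroup.card_dvd_of_le (Subgroup.zpowers_le.2 (Subgroup.mem_centralizer_singleton_iff.2 rfl))
    refine (Nat.dvd_iff_prime_pow_dvd_dvd _ _).2 fun r k hr hrk => ?_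
    rcases Nat.eq_zero_or_pos k with rfl | hk
    · simp
    have := Fact.mk hr
    have hr19 : r ≠ 19 := fun e => h19m (e ▸ (dvd_pow_self r hk.ne').trans hrk)
    -- a Sylow subgroup of N fixed by y
    let _ : MulAction (Subgroup.zpowers (y : H)) (Sylow r ↥N) :=
      MulAction.compHom _ (((MulAut.conjNormal : H →* MulAut ↥N)).comp (Subgroup.zpowers (y : H)).subtype)
    have hnd : ¬ 19 ∣ Nat.card (Sylow r ↥N) := fun h => by
      obtain ⟨R⟩ : Nonempty (Sylow r ↥N) := inferInstance
      have h1 := h.trans (Dvd.intro _ (show Nat.card (Sylow r ↥N) *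
        Nat.card ↥(Subgroup.normalizer ((R : Subgroup ↥N) : Set ↥N)) = Nat.card ↥N by
          rw [mul_comm]; exact card_normalizer_mul R))
      exact hdN h1
    have hyp : IsPGroup 19 ↥(Subgroup.zpowers (y : H)) := by rw [hyP]; exact P.2
    obtain ⟨R, hR⟩ := hyp.nonempty_fixed_point_of_prime_not_dvd_card (Sylow r ↥N) hnd
    set R' := (R : Subgroup ↥N).map N.subtype with hR'def
    have hRcard : Nat.card ↥R' = r ^ m.factorization r := by
      rw [hR'def, ← Nat.card_congr
        ((R : Subgroup ↥N).equivMapOfInjective N.subtype N.subtype_injective).toEquiv,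
        R.card_eq_multiplicity, hNm]
    have hnorm : (y : H) ∈ Subgroup.normalizer (R' : Set H) := by
      have h1 : ((MulAut.conjNormal (y : H) : MulAut ↥N) • R : Sylow r ↥N) = R :=
        hR ⟨(y : H), Subgroup.mem_zpowers _⟩
      have h2 : (R : Subgroup ↥N).map (MulAut.conjNormal (y : H) : MulAut ↥N).toMonoidHom = (R : Subgroup ↥N) := by
        conv_rhs => rw [← h1]
        rfl
      refine Subgroup.mem_normalizer_fintype fun u hu => ?_
      obtain ⟨w, hw, rfl⟩ := hu
      refine ⟨MulAut.conjNormal (y : H) w, ?_, by simp⟩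
      rw [← h2]
      exact Subgroup.mem_map_of_mem _ hw
    have hsmall : Nat.card ↥R' < 19 := by
      rw [hRcard]
      exact small_parts r _ hr ((Nat.ordProj_dvd m r).trans hm)
    have hle : R' ≤ Subgroup.centralizer ({(y : H)} : Set H) := fun u hu =>
      Subgroup.mem_centralizer_singleton_iff.2
        (centralizes_small R' hsmall _ (orderOf_dvd_iff_pow_eq_one.1 (dvd_of_eq hy')) hnorm u hu)
    refine dvd_trans ?_ (Subgroup.card_dvd_of_le hle)
    rw [hRcard]
    exact Nat.pow_dvd_pow r ((hr.pow_dvd_iff_le_factorization hm0.ne').1 hrk)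
  refine ⟨fun u hu g => ?_⟩
  rw [← hyP] at hu ⊢
  obtain ⟨i, rfl⟩ := Subgroup.mem_zpowers_iff.1 hu
  have h1 : Commute g (y : H) :=
    Subgroup.mem_centralizer_singleton_iff.1 (hC ▸ Subgroup.mem_top g)
  rw [(h1.zpow_right i).eq, mul_inv_cancel_right]
  exact Subgroup.zpow_mem _ (Subgroup.mem_zpowers _) i

/-- A finite group of order 175560 = 2³·3·5·7·11·19 is either simple or has a normal Sylow 19-subgroup. -/
theorem result {G : Type*} [Group G] [Finite G] (hG : Nat.card G = 175560) : IsSimpleGroup G ∨ ∀ P : Sylow 19 G, (P : Subgroup G).Normal := by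
  by_cases h : IsSimpleGroup G
  · exact Or.inl h
  · exact Or.inr fun P => normal_of_order 175560 G hG dvd_rfl (by norm_num) (Or.inr h) P

end Cfsg.Agent.S4274
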