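import Cfsg.Statements.S4275
import Mathlib

set_option autoImplicit false
open Cfsg

namespace Cfsg.Agent.S4275

/-- Let G be a transitive group of permutations of a finite set Ω, let o ∈ Ω, and let α be an automorphism of G. Then α is induced by conjugation by a permutation of Ω normalizing G if and only if the image under α of the stabilizer of o fixes some point of Ω. -/
theorem result {Ω : Type*} [Fintype Ω] (G : Subgroup (Equiv.Perm Ω)) (htr : MulAction.IsPretransitive G Ω) (o : Ω) (α : G ≃* G) : (∃ σ : Equiv.Perm Ω, σ ∈ Subgroup.normalizer (G : Set (Equiv.Perm Ω)) ∧ ∀ g : G, ((α g : G) : Equiv.Perm Ω) = σ * (g : Equiv.Perm Ω) * σ⁻¹) ↔ ∃ ω : Ω, ∀ g ∈ (MulAction.stabilizer G o).map α.toMonoidHom, g • ω = ω := by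
  classical
  constructor
  · rintro ⟨σ, -, hσ⟩
    refine ⟨σ o, ?_⟩
    rintro _ ⟨g, hg, rfl⟩
    have hg' : (g : Equiv.Perm Ω) o = o := hg
    show ((α g : G) : Equiv.Perm Ω) (σ o) = σ o
    rw [hσ g, Equiv.Perm.mul_apply, Equiv.Perm.mul_apply, Equiv.Perm.inv_def, Equiv.symm_apply_apply, hg']
  · rintro ⟨w, hw⟩
    have hw' : ∀ g : G, (g : Equiv.Perm Ω) o = o → ((α g : G) : Equiv.Perm Ω) w = w := fun g hg =>
      hw (α g) ⟨g, hg, rfl⟩
    have hsel : ∀ x : Ω, ∃ g : G, (g : Equiv.Perm Ω) o = x := fun x => htr.exists_smul_eq o x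
    choose sec hsec using hsel
    let f : Ω → Ω := fun x => ((α (sec x) : G) : Equiv.Perm Ω) w
    have hf : ∀ (g : G) (x : Ω), f ((g : Equiv.Perm Ω) x) = ((α g : G) : Equiv.Perm Ω) (f x) := by
      intro g x
      have h1 : (((sec ((g : Equiv.Perm Ω) x))⁻¹ * (g * sec x) : G) : Equiv.Perm Ω) o = o := by
        rw [Subgroup.coe_mul, Equiv.Perm.mul_apply, Subgroup.coe_mul, Equiv.Perm.mul_apply, hsec x,
          Subgroup.coe_inv, Equiv.Perm.inv_def, Equiv.symm_apply_eq, hsec]
      have h2 := hw' _ h1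
      rw [map_mul, map_inv, map_mul, Subgroup.coe_mul, Equiv.Perm.mul_apply, Subgroup.coe_mul,
        Equiv.Perm.mul_apply, Subgroup.coe_inv, Equiv.Perm.inv_def, Equiv.symm_apply_eq] at h2
      exact h2.symm
    have hfo : f o = w := hw' _ (hsec o)
    have hsurj : Function.Surjective f := by
      intro y
      obtain ⟨g, hg⟩ := htr.exists_smul_eq w y
      exact ⟨((α.symm g : G) : Equiv.Perm Ω) o, by rw [hf, hfo, MulEquiv.apply_symm_apply]; exact hg⟩
    let σ : Equiv.Perm Ω := Equiv.ofBijective f (Finite.surjective_iff_bijective.1 hsurj)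
    have hconj : ∀ g : G, ((α g : G) : Equiv.Perm Ω) = σ * (g : Equiv.Perm Ω) * σ⁻¹ := fun g => by
      rw [eq_mul_inv_iff_mul_eq]
      exact Equiv.ext fun x => (hf g x).symm
    refine ⟨σ, Subgroup.mem_normalizer_iff.2 fun z => ⟨fun hz => ?_, fun hz => ?_⟩, hconj⟩
    · rw [show σ * z * σ⁻¹ = _ from (hconj ⟨z, hz⟩).symm]; exact (α ⟨z, hz⟩).2
    · have h := hconj (α.symm ⟨_, hz⟩)
      rw [MulEquiv.apply_symm_apply] at h
      rw [mul_left_cancel (mul_right_cancel h)]
      exact SetLike.coe_mem _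

end Cfsg.Agent.S4275
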