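import Cfsg.Statements.S4280
import Cfsg.Agent.Chev.InvSemi.F4ClsChk
import Cfsg.Agent.Chev.InvSemi.Tops
import Cfsg.Agent.Chev.TorusInj

set_option autoImplicit false
open Cfsg Cfsg.Lib.Chev Cfsg.Lib.Chev.InvSemi

namespace Cfsg.Agent.S4280

/-- In the Chevalley group of type F₄ over a finite field of odd order q there are exactly two conjugacy classes of involutions; the centralizer of an involution in one class has order q¹⁶(q² − 1)(q⁴ − 1)(q⁶ − 1)(q⁸ − 1), and in the other class q¹⁰(q² − 1)²(q⁴ − 1)(q⁶ − 1). -/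
theorem result {F : Type*} [Field F] [Fintype F] (hF : Odd (Fintype.card F)) : ∃ s t : ↥(Cfsg.Lie.chevF4.group F), orderOf s = 2 ∧ orderOf t = 2 ∧ ¬ IsConj s t ∧ (∀ u : ↥(Cfsg.Lie.chevF4.group F), orderOf u = 2 → IsConj u s ∨ IsConj u t) ∧ Nat.card (Subgroup.centralizer ({s} : Set ↥(Cfsg.Lie.chevF4.group F))) = Fintype.card F ^ 16 * (Fintype.card F ^ 2 - 1) * (Fintype.card F ^ 4 - 1) * (Fintype.card F ^ 6 - 1) * (Fintype.card F ^ 8 - 1) ∧ Nat.card (Subgroup.centralizer ({t} : Set ↥(Cfsg.Lie.chevF4.group F))) = Fintype.card F ^ 10 * (Fintype.card F ^ 2 - 1) ^ 2 * (Fintype.card F ^ 4 - 1) * (Fintype.card F ^ 6 - 1) := by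
  haveI : NeZero (2 : F) := neZero_two hF
  have S := Springer.F4_dat.S
  have hN := Springer.F4_dat.hN
  have hinj : Function.Injective (Ok.tG Cfsg.Lie.chevF4 F) := S.tG_injective inv_F4 (Nat.coprime_one_left _)
  have hW := Springer.F4_natCard_WG
  have c1 := F4.cert3.card_cent (F := F) S hN hinj (hW.trans F4.size3.symm)
  have c2 := F4.cert12.card_cent (F := F) S hN hinj (hW.trans F4.size12.symm)
  refine ⟨_, _, tI_ne_one S hinj (m := 1) (by decide) (by decide),
    tI_ne_one S hinj (m := 4) (by decide) (by decide), fun hc => ?_, fun u hu => ?_,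
    c1.trans ?_, c2.trans ?_⟩
  · have h := isConj_card_cent hc
    rw [c1, c2] at h
    exact pow_mul_ne Fintype.one_lt_card (by norm_num) (by decide) h
  · have hcls := classify S hinj (fun g hg hg2 => F4.to_diag hF hg hg2) F4.cls u hu
    exact hcls
  · simp only [List.map_cons, List.map_nil, List.prod_cons, List.prod_nil]
    ring
  · simp only [List.map_cons, List.map_nil, List.prod_cons, List.prod_nil]
    ring

end Cfsg.Agent.S4280
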