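import Cfsg.Statements.S4282
import Mathlib
import Cfsg.Prelude
import Cfsg.Agent.HallHigman.CriticalCase
import Cfsg.Agent.HallHigman.Abelian

set_option autoImplicit false
open Cfsg

namespace Cfsg.Agent.S4282

open Subgroup Cfsg.Lib.HallHigman

theorem arith {N d C s : ℕ} (hN : 1 < N) (hcount : N * C + 1 = d * d + N) (hCS : d * d ≤ s * C) (hsN : s ≤ N)
    (hsd : s ≤ d) (hd : 2 ≤ d) : N - 1 ≤ s ∧ (s = N - 1 → d = N - 1) := by
  have hC : d ≤ C := by
    have h1 : s * C ≤ d * C := Nat.mul_le_mul_right _ hsd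
    exact Nat.le_of_mul_le_mul_left (hCS.trans h1) (by omega)
  have hd' : N - 1 ≤ d := by
    by_contra hh
    have h1 : N * d ≤ N * C := Nat.mul_le_mul_left _ hC
    nlinarith [Nat.sub_add_cancel hN.le]
  rcases Nat.lt_or_ge s N with h | h
  swap
  · exact ⟨by omega, fun e => by omega⟩
  have key : d * d * N ≤ s * (d * d + N - 1) := by
    calc d * d * N ≤ s * C * N := Nat.mul_le_mul_right _ hCS
      _ = s * (N * C) := by ring
      _ = _ := by congr 1; omega
  obtain ⟨t, ht⟩ : ∃ t, N = s + 1 + t := ⟨N - (s + 1), by omega⟩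
  have key2 : d * d * (1 + t) ≤ d * (s + t) := by
    have h2 : s * (d * d + N - 1) = s * (d * d) + s * (s + t) := by
      rw [← Nat.mul_add]; congr 1; omega
    rw [h2, ht] at key
    have h3 : s * (s + t) ≤ d * (s + t) := Nat.mul_le_mul_right _ hsd
    nlinarith
  have key3 : d * (1 + t) ≤ s + t := Nat.le_of_mul_le_mul_left (by rw [← mul_assoc]; exact key2) (by omega)
  have ht0 : t = 0 := by
    by_contra hh
    have : d + d * t ≤ s + t := by rw [Nat.mul_add, mul_one] at key3; exact key3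
    have : 2 * t ≤ d * t := Nat.mul_le_mul_right _ hd
    omega
  subst ht0
  refine ⟨by omega, fun _ => ?_⟩
  have : d ≤ s := by simpa using key3
  omega


/-- A critical case behind the Hall–Higman theorem. Let p ≠ q be primes and G a finite group generated by a normal q-subgroup Q and a cyclic p-subgroup generated by x, such that the centralizer of every non-identity element of that cyclic subgroup is its product with the centre of G. Let K be an algebraically closed field of characteristic p and ρ a faithful representation of G on a nonzero finite-dimensional K-space whose restriction to Q is irreducible. If s is the least exponent with (ρ(x) − 1)^s = 0, then |⟨x⟩| − 1 ≤ s ≤ |⟨x⟩|; and if s = |⟨x⟩| − 1 then |⟨x⟩| − 1 is a power of q and Q is non-abelian. -/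
theorem result {G : Type*} [Group G] [Finite G] (p q : ℕ) [Fact p.Prime] [Fact q.Prime] (hpq : p ≠ q) (Q : Subgroup G) [Q.Normal] (hQ : IsPGroup q Q) (x : G) (hx : IsPGroup p (Subgroup.zpowers x)) (hgen : Q ⊔ Subgroup.zpowers x = ⊤) (hC : ∀ y ∈ Subgroup.zpowers x, y ≠ 1 → Subgroup.centralizer ({y} : Set G) = Subgroup.zpowers x ⊔ Subgroup.center G) {K : Type*} [Field K] [IsAlgClosed K] [CharP K p] {V : Type*} [AddCommGroup V] [Module K V] [FiniteDimensional K V] [Nontrivial V] (ρ : Representation K G V) (hfaith : Function.Injective ρ) (hirr : ∀ W : Submodule K V, (∀ g ∈ Q, Submodule.map (ρ g) W ≤ W) → W = ⊥ ∨ W = ⊤) (s : ℕ) (hs : (ρ x - 1) ^ s = 0) (hmin : ∀ k < s, (ρ x - 1) ^ k ≠ 0) : Nat.card (Subgroup.zpowers x) - 1 ≤ s ∧ s ≤ Nat.card (Subgroup.zpowers x) ∧ (s = Nat.card (Subgroup.zpowers x) - 1 → (∃ b : ℕ, Nat.card (Subgroup.zpowers x) - 1 = q ^ b) ∧ ¬ IsMulCommutative Q) := by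
  obtain ⟨n, hn⟩ := IsPGroup.iff_card.1 hx
  rw [Nat.card_zpowers] at hn
  simp only [Nat.card_zpowers, hn]
  rcases Nat.eq_zero_or_pos n with rfl | hnpos
  · have hx1 : x = 1 := orderOf_eq_one_iff.1 (by simpa using hn)
    have h0 : ρ x - 1 = 0 := by rw [hx1, map_one, sub_self]
    have hs1 : s ≤ 1 := by
      by_contra hh
      exact hmin 1 (by omega) (by rw [pow_one, h0])
    have hs0 : s ≠ 0 := by
      intro h
      rw [h, pow_zero] at hs
      exact one_ne_zero hs
    simp only [pow_zero, Nat.sub_self]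
    exact ⟨Nat.zero_le _, hs1, fun h => absurd h hs0⟩
  set N := p ^ n with hN
  have hN1 : 1 < N := Nat.one_lt_pow hnpos.ne' (Fact.out : p.Prime).one_lt
  obtain ⟨m, hm⟩ := IsPGroup.iff_card.1 hQ
  have hqK : (q : K) ≠ 0 := fun h => hpq ((Nat.prime_dvd_prime_iff_eq Fact.out Fact.out).1
    ((CharP.cast_eq_zero_iff K p q).1 h))
  have hQK : ((Nat.card Q : ℕ) : K) ≠ 0 := by
    rw [hm, Nat.cast_pow]; exact pow_ne_zero _ hqK
  have hirr' : ∀ S : Submodule K V, (∀ g ∈ Q, ∀ w ∈ S, ρ g w ∈ S) → S = ⊥ ∨ S = ⊤ := fun S h =>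
    hirr S fun g hg => by rintro _ ⟨w, hw, rfl⟩; exact h g hg w hw
  have hfree : ∀ i, 0 < i → i < p ^ n → ∀ u ∈ Q, x ^ i * u * (x ^ i)⁻¹ * u⁻¹ ∈ Subgroup.center G → u ∈ Subgroup.center G := by
    intro i hi hiN u hu hw
    set y := x ^ i
    set w := y * u * y⁻¹ * u⁻¹ with hwdef
    have hy1 : y ≠ 1 := pow_ne_one_of_lt_orderOf hi.ne' (hn ▸ hiN)
    have hconj : ∀ k : ℕ, y ^ k * u * (y ^ k)⁻¹ = w ^ k * u := by
      intro k
      induction k with
      | zero => simp
      | succ k ih =>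
        calc y ^ (k + 1) * u * (y ^ (k + 1))⁻¹ = y * (y ^ k * u * (y ^ k)⁻¹) * y⁻¹ := by rw [pow_succ']; group
          _ = y * w ^ k * (u * y⁻¹) := by rw [ih]; group
          _ = w ^ k * y * (u * y⁻¹) := by rw [mem_center_iff.1 (pow_mem hw k) y]
          _ = w ^ k * w * u := by rw [hwdef]; group
          _ = w ^ (k + 1) * u := by rw [pow_succ]
    have hyN : y ^ N = 1 := by rw [← pow_mul, mul_comm, pow_mul, ← hn, pow_orderOf_eq_one, one_pow]
    have hwN : w ^ N = 1 := by
      have h1 := hconj N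
      rw [hyN, one_mul, inv_one, mul_one] at h1
      exact mul_eq_right.1 h1.symm
    have hwQ : w ∈ Q := mul_mem ((inferInstance : Q.Normal).conj_mem u hu y) (inv_mem hu)
    have hw1 : w = 1 := by
      refine orderOf_eq_one_iff.1 (Nat.eq_one_of_dvd_coprimes
        (((Nat.coprime_primes Fact.out Fact.out).2 hpq).pow n m) (orderOf_dvd_of_pow_eq_one hwN) ?_)
      rw [← hm, ← Subgroup.orderOf_mk w hwQ]; exact orderOf_dvd_natCard _
    have hcomm : u ∈ centralizer ({y} : Set G) := by
      rw [mem_centralizer_singleton_iff]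
      rw [hwdef, mul_inv_eq_one, mul_inv_eq_iff_eq_mul] at hw1
      exact hw1.symm
    rw [hC y (pow_mem (mem_zpowers x) i) hy1] at hcomm
    obtain ⟨a, ha, z, hz, hu'⟩ := mem_sup_of_normal_right.1 hcomm
    have hcomm2 : Commute a z := (mem_center_iff.1 hz a)
    have hk : u ^ (q ^ m) = 1 := by
      have h1 : (⟨u, hu⟩ : Q) ^ (q ^ m) = 1 := hm ▸ pow_card_eq_one'
      exact congrArg Subtype.val h1
    rw [← hu', hcomm2.mul_pow] at hk
    have hac : a ^ (q ^ m) ∈ Subgroup.center G := by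
      rw [eq_inv_of_mul_eq_one_left hk]; exact inv_mem (pow_mem hz _)
    obtain ⟨t, ht⟩ := exists_pow_eq_self_of_coprime (x := a) (n := q ^ m) (by
      refine Nat.Coprime.coprime_dvd_right (orderOf_dvd_of_mem_zpowers ha) ?_
      rw [hn]
      exact ((Nat.coprime_primes Fact.out Fact.out).2 (Ne.symm hpq)).pow m n)
    rw [← hu', ← ht]
    exact mul_mem (pow_mem hac t) hz
  have hker : ∀ w : G, w ∈ (adRep ρ).ker ↔ w ∈ Subgroup.center G := fun w => by
    constructor
    · intro h
      refine mem_center_iff.2 fun g => hfaith ?_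
      have h1 : ρ w * ρ g = ρ g * ρ w := (adRep_eq_iff ρ w (ρ g)).1 (LinearMap.congr_fun (MonoidHom.mem_ker.1 h) (ρ g))
      rw [map_mul, map_mul, h1]
    · intro h
      obtain ⟨c, hc⟩ := Cfsg.Lib.OddP.schur (Q := Q) (ρ.comp Q.subtype) (fun S hS => hirr' S fun g hg => hS ⟨g, hg⟩) (ρ w)
        fun g => by show ρ w * ρ (g : G) = ρ (g : G) * ρ w; rw [← map_mul, ← map_mul, mem_center_iff.1 h g]
      refine MonoidHom.mem_ker.2 (LinearMap.ext fun f => ?_)
      show adRep ρ w f = f
      rw [adRep_eq_iff, hc, smul_mul_assoc, one_mul, mul_smul_comm, mul_one]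
  have hcount := centralizer_count (p := p) (n := n) ρ Q hQK hirr' x (by rw [← hN, ← hn, pow_orderOf_eq_one]) hnpos.ne'
    fun i hi hiN u hu hw => (hker u).2 (hfree i hi hiN u hu ((hker _).1 hw))
  have hsq := sq_le_mul_finrank_centralizer _ V (ρ x - 1) s le_rfl hs
  have hTN : (ρ x - 1) ^ N = 0 := by
    have hpoly : (Polynomial.X - 1 : Polynomial K) ^ N = Polynomial.X ^ N - 1 := by
      rw [hN, sub_pow_char_pow, one_pow]
    have h1 := congrArg (Polynomial.aeval (ρ x : Module.End K V)) hpoly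
    simp only [map_pow, map_sub, Polynomial.aeval_X, map_one] at h1
    rw [h1, ← map_pow, ← hn, pow_orderOf_eq_one, map_one, sub_self]
  have hsN : s ≤ N := by
    by_contra hh
    exact hmin N (by omega) hTN
  have hsd : s ≤ Module.finrank K V := by
    by_contra hh
    refine hmin _ (lt_of_not_ge hh) ?_
    have hnil : IsNilpotent (ρ x - 1) := ⟨N, hTN⟩
    have h1 := LinearMap.aeval_self_charpoly (ρ x - 1)
    rw [IsNilpotent.charpoly_eq_X_pow_finrank hnil, map_pow, Polynomial.aeval_X] at h1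
    exact h1
  have hd2 : 2 ≤ Module.finrank K V := by
    by_contra hh
    have hd1 : Module.finrank K V = 1 := by
      have : 0 < Module.finrank K V := Module.finrank_pos
      omega
    have hs1 : s ≤ 1 := hd1 ▸ hsd
    have h0 : (ρ x - 1) ^ 1 = 0 := pow_eq_zero_of_le hs1 hs
    rw [pow_one, sub_eq_zero] at h0
    have hx1 : x = 1 := hfaith (h0.trans (map_one ρ).symm)
    rw [hx1, orderOf_one] at hn
    omega
  obtain ⟨ha, hb⟩ := arith hN1 hcount hsq hsN hsd hd2
  refine ⟨ha, hsN, fun he => ?_⟩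
  have hdN := hb he
  have hirrQ : ∀ S : Submodule K V, (∀ g : Q, ∀ w ∈ S, (ρ.comp Q.subtype) g w ∈ S) → S = ⊥ ∨ S = ⊤ := fun S h =>
    hirr' S fun g hg => h ⟨g, hg⟩
  refine ⟨?_, fun hab => ?_⟩
  · obtain ⟨b, hb'⟩ := degree_prime_pow hqK _ Q V (ρ.comp Q.subtype) le_rfl hQ hirrQ
    exact ⟨b, hdN ▸ hb'⟩
  · obtain ⟨v, -, hv, heig⟩ := exists_common_eigenvector (fun a b : Q => hab.is_comm.comm a b) (ρ.comp Q.subtype) _ ⊤ le_rfl
      top_ne_bot (fun _ _ _ => trivial)
    have hspan : Submodule.span K {v} = ⊤ := (hirrQ _ fun g w hw => by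
      obtain ⟨c, rfl⟩ := Submodule.mem_span_singleton.1 hw
      obtain ⟨e, he'⟩ := heig g
      rw [map_smul, he', smul_smul]
      exact Submodule.smul_mem _ _ (Submodule.mem_span_singleton_self v)).resolve_left
        (fun h => hv ((Submodule.eq_bot_iff _).1 h v (Submodule.mem_span_singleton_self v)))
    have h1 : Module.finrank K V = 1 := by rw [← finrank_top K V, ← hspan, finrank_span_singleton hv]
    omega

end Cfsg.Agent.S4282
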