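import Cfsg.Statements.S4283
import Cfsg.Agent.Frobenius.Kernel
import Cfsg.Agent.S0034

set_option autoImplicit false
open Cfsg
open scoped Pointwise


namespace Cfsg.Agent.S4283

/-- Let G be a finite group with centre Z and let K, H be abelian subgroups of G containing Z such that G/Z is a Frobenius group with complement H/Z and kernel K/Z. Then the conjugacy class sizes of G are exactly 1, [G : K] and [G : H], and these two indices are coprime. (This is the converse half of the characterization of finite groups whose conjugacy class sizes are exactly 1, m and n with m and n coprime.) -/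
theorem result {G : Type*} [Group G] [Finite G] (K H : Subgroup G) (hZK : Subgroup.center G ≤ K) (hZH : Subgroup.center G ≤ H) (hK : IsMulCommutative K) (hH : IsMulCommutative H) (hFrob : Cfsg.IsFrobeniusComplement (H.map (QuotientGroup.mk' (Subgroup.center G)))) (hker : Cfsg.frobeniusKernel (H.map (QuotientGroup.mk' (Subgroup.center G))) = (K.map (QuotientGroup.mk' (Subgroup.center G)) : Set (G ⧸ Subgroup.center G))) : Set.range (fun x : G => (Subgroup.centralizer ({x} : Set G)).index) = ({1, K.index, H.index} : Set ℕ) ∧ K.index.Coprime H.index := by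
  classical
  set Z := Subgroup.center G
  set π := QuotientGroup.mk' Z
  set Hb := H.map π with hHb
  set Kb := K.map π with hKb
  have hker : ∀ x, x ∈ Cfsg.frobeniusKernel Hb ↔ x ∈ Kb := fun x => by rw [hker]; rfl
  have hHmem : ∀ g, π g ∈ Hb → g ∈ H := fun g hg => by
    have h1 : g ∈ Hb.comap π := hg
    rwa [hHb, Subgroup.comap_map_eq, QuotientGroup.ker_mk', sup_eq_left.2 hZH] at h1
  have hKmem : ∀ g, π g ∈ Kb → g ∈ K := fun g hg => by
    have h1 : g ∈ Kb.comap π := hg
    rwa [hKb, Subgroup.comap_map_eq, QuotientGroup.ker_mk', sup_eq_left.2 hZK] at h1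
  have hz1 : ∀ g, π g = 1 ↔ g ∈ Z := fun g => QuotientGroup.eq_one_iff g
  have hTI : ∀ (b : G ⧸ Z) (w : G ⧸ Z), b ≠ 1 → b ∈ Hb → w * b * w⁻¹ ∈ Hb → w ∈ Hb := by
    intro b w hb hbH hw
    by_contra hwH
    refine hb ?_
    have h1 : w * b * w⁻¹ ∈ Hb ⊓ (MulAut.conj w • Hb) :=
      ⟨hw, (Subgroup.mem_smul_pointwise_iff_exists _ _ _).2 ⟨b, hbH, rfl⟩⟩
    rw [hFrob.2.2 w hwH, Subgroup.mem_bot] at h1
    exact conj_eq_one_iff.1 h1
  have hcardK : Nat.card Kb = Hb.index := by
    rw [← (Cfsg.Agent.S0034.result Hb hFrob).1]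
    exact Nat.card_congr (Equiv.subtypeEquivRight fun x => (hker x).symm)
  obtain ⟨N, hN, hNn, hNc⟩ := Cfsg.Lib.Frobenius.exists_kernel hFrob
  have hNK : N = Kb := SetLike.ext fun x => by
    rw [← hker x]; exact ⟨fun h => hN ▸ h, fun h => (hN.symm ▸ h : x ∈ (N : Set (G ⧸ Z)))⟩
  have iH : H.index = Hb.index := by
    rw [hHb, Subgroup.index_map_eq H (QuotientGroup.mk'_surjective Z) (by rw [QuotientGroup.ker_mk']; exact hZH)]
  have iK : K.index = Kb.index := by
    rw [hKb, Subgroup.index_map_eq K (QuotientGroup.mk'_surjective Z) (by rw [QuotientGroup.ker_mk']; exact hZK)]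
  have hKi : Kb.index = Nat.card Hb := hNK ▸ hNc.symm.index_eq_card
  have hcentK : ∀ x ∈ K, x ∉ Z → Subgroup.centralizer ({x} : Set G) = K := by
    intro x hx hxZ
    refine le_antisymm (fun c hc => hKmem c ?_) fun c hc => Subgroup.mem_centralizer_singleton_iff.2
      (congrArg Subtype.val (hK.is_comm.comm (⟨c, hc⟩ : K) ⟨x, hx⟩))
    by_contra hcK
    have hcK' : π c ∉ Cfsg.frobeniusKernel Hb := fun h => hcK ((hker _).1 h)
    simp only [Cfsg.frobeniusKernel, Set.mem_setOf_eq, not_or, not_forall, not_not] at hcK'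
    obtain ⟨hc1, u, hu⟩ := hcK'
    obtain ⟨b, hb, hbu⟩ := (Subgroup.mem_smul_pointwise_iff_exists _ _ _).1 hu
    rw [MulAut.smul_def, MulAut.conj_apply] at hbu
    have hb1 : b ≠ 1 := fun e => hc1 (by rw [← hbu, e, mul_one, mul_inv_cancel])
    have hcx : π x * π c * (π x)⁻¹ = π c := by
      rw [← map_mul, ← map_inv, ← map_mul, ← Subgroup.mem_centralizer_singleton_iff.1 hc, mul_inv_cancel_right]
    have h2 : u⁻¹ * π x * u ∈ Hb := hTI b _ hb1 hb (by
      have e : u⁻¹ * π x * u * b * (u⁻¹ * π x * u)⁻¹ = b := by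
        rw [show u⁻¹ * π x * u * b * (u⁻¹ * π x * u)⁻¹ = u⁻¹ * (π x * (u * b * u⁻¹) * (π x)⁻¹) * u by group,
          hbu, hcx, ← hbu]
        group
      rw [e]; exact hb)
    rcases ((hker (π x)).2 (Subgroup.mem_map_of_mem π hx) : π x = 1 ∨ _) with h | h
    · exact hxZ ((hz1 x).1 h)
    · exact h u ((Subgroup.mem_smul_pointwise_iff_exists _ _ _).2 ⟨_, h2, by rw [MulAut.smul_def, MulAut.conj_apply]; group⟩)
  have hcentH : ∀ x ∈ H, x ∉ Z → Subgroup.centralizer ({x} : Set G) = H := by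
    intro x hx hxZ
    refine le_antisymm (fun c hc => hHmem c ?_) fun c hc => Subgroup.mem_centralizer_singleton_iff.2
      (congrArg Subtype.val (hH.is_comm.comm (⟨c, hc⟩ : H) ⟨x, hx⟩))
    refine hTI (π x) _ (fun h => hxZ ((hz1 x).1 h)) (Subgroup.mem_map_of_mem π hx) ?_
    rw [← map_mul, ← map_inv, ← map_mul, Subgroup.mem_centralizer_singleton_iff.1 hc, mul_inv_cancel_right]
    exact Subgroup.mem_map_of_mem π hx
  obtain ⟨xH, hxH, hxHZ⟩ : ∃ x ∈ H, x ∉ Z := by
    by_contra hh
    push Not at hh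
    refine hFrob.1 (eq_bot_iff.2 ?_)
    rintro _ ⟨x, hx, rfl⟩
    exact (hz1 x).2 (hh x hx)
  obtain ⟨xK, hxK, hxKZ⟩ : ∃ x ∈ K, x ∉ Z := by
    by_contra hh
    push Not at hh
    refine hFrob.2.1 (Subgroup.index_eq_one.1 ?_)
    rw [← hcardK, Subgroup.card_eq_one]
    refine eq_bot_iff.2 ?_
    rintro _ ⟨x, hx, rfl⟩
    exact (hz1 x).2 (hh x hx)
  refine ⟨Set.ext fun n => ⟨?_, ?_⟩, ?_⟩
  · rintro ⟨x, rfl⟩
    show _ ∈ _
    by_cases hxZ : x ∈ Z
    · refine Or.inl ?_
      show (Subgroup.centralizer ({x} : Set G)).index = 1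
      rw [Subgroup.index_eq_one, eq_top_iff]
      exact fun c _ => Subgroup.mem_centralizer_singleton_iff.2 (Subgroup.mem_center_iff.1 hxZ c)
    by_cases hxK' : x ∈ K
    · exact Or.inr (Or.inl (congrArg Subgroup.index (hcentK x hxK' hxZ)))
    have hx' : π x ∉ Cfsg.frobeniusKernel Hb := fun h => hxK' (hKmem x ((hker _).1 h))
    simp only [Cfsg.frobeniusKernel, Set.mem_setOf_eq, not_or, not_forall, not_not] at hx'
    obtain ⟨hx1, u, hu⟩ := hx'
    obtain ⟨g, rfl⟩ := QuotientGroup.mk'_surjective Z u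
    obtain ⟨b, hb, hbu⟩ := (Subgroup.mem_smul_pointwise_iff_exists _ _ _).1 hu
    obtain ⟨y, hy, rfl⟩ := hb
    rw [MulAut.smul_def, MulAut.conj_apply] at hbu
    have hyx : g⁻¹ * x * g ∈ H := hHmem _ (by
      rw [map_mul, map_mul, map_inv, ← hbu, show (π g)⁻¹ * (π g * π y * (π g)⁻¹) * π g = π y by group]
      exact Subgroup.mem_map_of_mem π hy)
    have hyZ : g⁻¹ * x * g ∉ Z := fun h => hxZ (by
      have e := (Subgroup.mem_center_iff.1 h g)
      rw [show x = g * (g⁻¹ * x * g) * g⁻¹ by group, e, mul_inv_cancel_right]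
      exact h)
    refine Or.inr (Or.inr ?_)
    show (Subgroup.centralizer ({x} : Set G)).index = H.index
    rw [← hcentH _ hyx hyZ]
    have e : Subgroup.centralizer ({x} : Set G) =
        (Subgroup.centralizer ({g⁻¹ * x * g} : Set G)).map (MulAut.conj g).toMonoidHom := by
      ext c
      rw [Subgroup.mem_map_equiv, Subgroup.mem_centralizer_singleton_iff, Subgroup.mem_centralizer_singleton_iff,
        MulAut.conj_symm_apply]
      constructor
      · intro h
        calc g⁻¹ * c * g * (g⁻¹ * x * g) = g⁻¹ * (c * x) * g := by group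
          _ = g⁻¹ * (x * c) * g := by rw [h]
          _ = _ := by group
      · intro h
        calc c * x = g * (g⁻¹ * c * g * (g⁻¹ * x * g)) * g⁻¹ := by group
          _ = g * (g⁻¹ * x * g * (g⁻¹ * c * g)) * g⁻¹ := by rw [h]
          _ = _ := by group
    rw [e]
    exact Subgroup.index_map_equiv (Subgroup.centralizer ({g⁻¹ * x * g} : Set G)) (MulAut.conj g)
  · rintro (rfl | rfl | rfl)
    · refine ⟨1, ?_⟩
      show (Subgroup.centralizer ({(1 : G)} : Set G)).index = 1
      rw [Subgroup.index_eq_one, eq_top_iff]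
      exact fun c _ => Subgroup.mem_centralizer_singleton_iff.2 (by simp)
    · exact ⟨xK, congrArg Subgroup.index (hcentK xK hxK hxKZ)⟩
    · exact ⟨xH, congrArg Subgroup.index (hcentH xH hxH hxHZ)⟩
  · rw [iH, iK, hKi, Nat.coprime_comm]
    have h1 := (Cfsg.Agent.S0034.result Hb hFrob).2
    rw [Nat.coprime_iff_gcd_eq_one, Nat.gcd_comm, Nat.gcd_rec, h1, ← Nat.gcd_rec, Nat.gcd_one_right]

end Cfsg.Agent.S4283
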