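import Cfsg.Statements.S4295
import Cfsg.Agent.Frobenius.QuaternionKernel

set_option autoImplicit false
open Cfsg

namespace Cfsg.Agent.S4295

/-- For a natural number m the following are equivalent: (a) some finite group has a Frobenius complement isomorphic to the quaternion group of order 8 whose Frobenius kernel (the identity together with the elements lying in no conjugate of the complement) has exactly m elements; (b) m is an odd perfect square greater than 1. -/
theorem result (m : ℕ) :
    (∃ (L : Type) (_ : Group L) (_ : Finite L) (H : Subgroup L), Cfsg.IsFrobeniusComplement H ∧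
        Nonempty (H ≃* QuaternionGroup 2) ∧ Nat.card (Cfsg.frobeniusKernel H) = m) ↔
    (Odd m ∧ IsSquare m ∧ 1 < m) := by
  refine ⟨?_, fun h => Cfsg.Lib.Frobenius.QuaternionKernel.exists_frobenius h.2.2 h.1 h.2.1⟩
  rintro ⟨L, i1, i2, H, hH, ⟨e⟩, rfl⟩
  let g : QuaternionGroup 2 →* L := H.subtype.comp e.symm.toMonoidHom
  have hg : Function.Injective g := Subtype.val_injective.comp e.symm.injective
  have hm : ∀ x, g x ∈ H := fun x => (e.symm x).2
  obtain ⟨ho, hs⟩ := Cfsg.Lib.Frobenius.QuaternionKernel.odd_square_kernel hH (i := g (QuaternionGroup.a 1))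
    (j := g (QuaternionGroup.xa 0)) (hm _) (hm _) (by rw [← map_inv, ← map_mul, ← map_mul, ← map_inv]; congr 1)
    (by rw [← map_mul, ← map_mul]; congr 1)
    (by rw [← map_mul, ← map_one g]; exact fun h => absurd (hg h) (by decide))
    (by rw [← map_mul, ← map_mul, ← map_one g]; congr 1)
  refine ⟨ho, hs, ?_⟩
  rw [Cfsg.Lib.Frobenius.card_kernel hH]
  exact Subgroup.one_lt_index_of_ne_top hH.2.1

end Cfsg.Agent.S4295
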