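import Cfsg.Statements.S4300


set_option autoImplicit false
open Cfsg

namespace Cfsg.Agent.S4300

/-- Let G act faithfully and primitively on a set X, and suppose the stabilizer of some point is a simple group. Then either G is simple, or G has a normal subgroup, neither trivial nor the whole group, that acts regularly on X (transitively with trivial point stabilizers). -/
theorem result {G : Type*} [Group G] {X : Type*} [MulAction G X] [FaithfulSMul G X]
    (hprim : MulAction.IsPreprimitive G X) (x : X) (hsimple : IsSimpleGroup (MulAction.stabilizer G x)) :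
    IsSimpleGroup G ∨ ∃ N : Subgroup G, N.Normal ∧ N ≠ ⊥ ∧ N ≠ ⊤ ∧
      MulAction.IsPretransitive N X ∧ ∀ y : X, MulAction.stabilizer N y = ⊥ := by
  classical
  haveI := hsimple
  haveI : Nontrivial (MulAction.stabilizer G x) := inferInstance
  haveI : Nontrivial G := (MulAction.stabilizer G x).subtype_injective.nontrivial
  by_cases hG : ∀ N : Subgroup G, N.Normal → N = ⊥ ∨ N = ⊤
  · exact Or.inl ⟨hG⟩
  push Not at hG
  obtain ⟨N, hN, hNb, hNt⟩ := hG
  refine Or.inr ⟨N, hN, hNb, hNt, ?_⟩
  haveI := hprim
  haveI := hN
  have htr : MulAction.IsPretransitive N X := by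
    refine MulAction.IsQuasiPreprimitive.isPretransitive_of_normal (G := G) fun hfix => hNb ?_
    refine (Subgroup.eq_bot_iff_forall N).2 fun n hn => FaithfulSMul.eq_of_smul_eq_smul fun y : X => ?_
    have hy : y ∈ MulAction.fixedPoints N X := hfix ▸ Set.mem_univ y
    rw [one_smul]; exact hy ⟨n, hn⟩
  refine ⟨htr, ?_⟩
  have hx : MulAction.stabilizer N x = ⊥ := by
    rcases (inferInstance : (N.subgroupOf (MulAction.stabilizer G x)).Normal).eq_bot_or_eq_top with h | h
    · refine (Subgroup.eq_bot_iff_forall _).2 fun n hn => ?_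
      have : (⟨(n : G), hn⟩ : MulAction.stabilizer G x) ∈ N.subgroupOf (MulAction.stabilizer G x) := n.2
      rw [h, Subgroup.mem_bot] at this
      exact Subtype.ext (congrArg (fun z : MulAction.stabilizer G x => (z : G)) this)
    · refine absurd ((Subgroup.eq_top_iff' N).2 fun g => ?_) hNt
      obtain ⟨n, hn⟩ := htr.exists_smul_eq x (g • x)
      have h1 : (n : G)⁻¹ * g ∈ MulAction.stabilizer G x := by
        rw [MulAction.mem_stabilizer_iff, mul_smul, inv_smul_eq_iff]; exact hn.symm
      have h2 : (n : G)⁻¹ * g ∈ N := Subgroup.subgroupOf_eq_top.1 h h1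
      have := mul_mem n.2 h2
      rwa [mul_inv_cancel_left] at this
  intro y
  obtain ⟨n, rfl⟩ := htr.exists_smul_eq x y
  rw [MulAction.stabilizer_smul_eq_stabilizer_map_conj, hx, Subgroup.map_bot]

end Cfsg.Agent.S4300
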