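import Cfsg.Statements.S4302
import Cfsg.Agent.FFModule.AbelianOffender
import Cfsg.Agent.FFModule.Model
import Cfsg.Agent.Blocks.ItoDegrees
import Cfsg.Agent.Coprime.Fitting
import Cfsg.Agent.DihedralTop
import Cfsg.Agent.S0617
import Cfsg.Agent.Transfer.IndexPrimeTo

set_option autoImplicit false
open Cfsg

namespace Cfsg.Agent.S4302

open Subgroup in
theorem exists_iso_pi {G : Type*} [Group G] [Finite G] {ι : Type*} (E : ι → Subgroup G) (H : Subgroup G)
    (hne : H ≠ ⊥) (hsup : (⨆ i, E i) = H) (hind : iSupIndep E) (hfin : Finite ι)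
    (hnorm : ∀ i, H ≤ normalizer (E i : Set G))
    (hiso : ∀ i, Nonempty (E i ≃* Equiv.Perm (Fin 3))) :
    ∃ n : ℕ, 1 ≤ n ∧ Nonempty (H ≃* (Fin n → Equiv.Perm (Fin 3))) := by
  classical
  haveI := Fintype.ofFinite ι
  have hEH : ∀ i, E i ≤ H := fun i => hsup ▸ le_iSup E i
  have hcomm : Pairwise fun i j => ∀ x y : G, x ∈ E i → y ∈ E j → Commute x y := by
    intro i j hij x y hx hy
    have h1 : x * y * x⁻¹ * y⁻¹ ∈ E i := by
      have h2 : y * x⁻¹ * y⁻¹ ∈ E i := (mem_normalizer_iff.1 (hnorm i (hEH j hy)) _).1 (inv_mem hx)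
      simpa [mul_assoc] using mul_mem hx h2
    have h3 : x * y * x⁻¹ * y⁻¹ ∈ E j :=
      mul_mem ((mem_normalizer_iff.1 (hnorm j (hEH i hx)) _).1 hy) (inv_mem hy)
    have h4 : x * y * x⁻¹ * y⁻¹ ∈ (⊥ : Subgroup G) :=
      (hind.pairwiseDisjoint hij).le_bot ⟨h1, h3⟩
    have h5 : x * y * x⁻¹ = y := mul_inv_eq_one.1 (mem_bot.1 h4)
    exact mul_inv_eq_iff_eq_mul.1 h5
  have hinj := Subgroup.injective_noncommPiCoprod_of_iSupIndep (hcomm := hcomm) hind
  have hrange : (Subgroup.noncommPiCoprod hcomm).range = H := by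
    rw [Subgroup.noncommPiCoprod_range, hsup]
  let e₁ : (∀ i, E i) ≃* H :=
    (MonoidHom.ofInjective hinj).trans (MulEquiv.subgroupCongr hrange)
  let e₂ : ∀ i, E i ≃* Equiv.Perm (Fin 3) := fun i => (hiso i).some
  refine ⟨Fintype.card ι, ?_, ⟨e₁.symm.trans ((MulEquiv.piCongrRight e₂).trans ?_)⟩⟩
  · by_contra h
    have : IsEmpty ι := Fintype.card_eq_zero_iff.1 (by omega)
    exact hne (by rw [← hsup, iSup_of_empty])
  · exact
      { toEquiv := Equiv.arrowCongr (Fintype.equivFin ι) (Equiv.refl _)
        map_mul' := fun _ _ => rfl }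

/-- the six matrices as permutations of three points -/
theorem sl2_two : Nonempty (Matrix.SpecialLinearGroup (Fin 2) (ZMod 2) ≃* Equiv.Perm (Fin 3)) := by
  classical
  let v : Fin 3 → (Fin 2 → ZMod 2) := ![![1, 0], ![0, 1], ![1, 1]]
  let idx : (Fin 2 → ZMod 2) → Fin 3 := fun w => if w 1 = 0 then 0 else if w 0 = 0 then 1 else 2
  let g : Matrix.SpecialLinearGroup (Fin 2) (ZMod 2) → Fin 3 → Fin 3 := fun A i =>
    idx (A.1.mulVec (v i))
  have hinv : ∀ A i, g A⁻¹ (g A i) = i := by decide
  let φ : Matrix.SpecialLinearGroup (Fin 2) (ZMod 2) → Equiv.Perm (Fin 3) := fun A =>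
    ⟨g A, g A⁻¹, hinv A, fun i => by conv_lhs => rw [← inv_inv A]
                                     simpa using hinv A⁻¹ i⟩
  have hmul : ∀ A B i, g (A * B) i = g A (g B i) := by decide
  have hker : ∀ A, (∀ i, g A i = i) → A = 1 := by decide
  let φh : Matrix.SpecialLinearGroup (Fin 2) (ZMod 2) →* Equiv.Perm (Fin 3) :=
    MonoidHom.mk' φ fun A B => Equiv.ext fun i => hmul A B i
  have hinj : Function.Injective φh := by
    rw [injective_iff_map_eq_one]
    exact fun A hA => hker A fun i => Equiv.congr_fun hA i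
  refine ⟨MulEquiv.ofBijective φh (hinj.bijective_of_nat_card_le ?_)⟩
  rw [Nat.card_perm, Nat.card_fin, Nat.card_eq_fintype_card]
  decide

/-- Let `X` be a finite solvable group whose Fitting subgroup is a 2-group (equivalently `F(X) = O₂(X)`), `T` a Sylow 2-subgroup of `X`, `J(T)` the subgroup generated by the abelian subgroups of `T` of largest order, `C` the largest normal subgroup of `X` centralizing the centre `Z(T)`, and `Y` the normal closure of `J(T)` in `X`. Then `X = C · Y · N_X(J(T))`, and either `Y ≤ C`, or `CY/C` is isomorphic to a direct product of at least one copy of the symmetric group of degree 3. -/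
theorem result {X : Type*} [Group X] [Finite X]
    [Group.IsSolvable X] (hF : Cfsg.fittingSubgroup X = Cfsg.pCore 2 X) (T : Sylow 2 X) :
    ((Subgroup.centralizer (((T : Subgroup X) ⊓ Subgroup.centralizer ((T : Subgroup X) : Set X) : Subgroup X) : Set X)).normalCore
        ⊔ Subgroup.normalClosure (Cfsg.thompsonSubgroupAOf (T : Subgroup X) : Set X)
        ⊔ Subgroup.normalizer (Cfsg.thompsonSubgroupAOf (T : Subgroup X) : Set X) = ⊤) ∧
    (Subgroup.normalClosure (Cfsg.thompsonSubgroupAOf (T : Subgroup X) : Set X)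
        ≤ (Subgroup.centralizer (((T : Subgroup X) ⊓ Subgroup.centralizer ((T : Subgroup X) : Set X) : Subgroup X) : Set X)).normalCore
      ∨ ∃ n : ℕ, 1 ≤ n ∧
        Nonempty (↥(Subgroup.normalClosure (Cfsg.thompsonSubgroupAOf (T : Subgroup X) : Set X)) ⧸
            ((Subgroup.centralizer (((T : Subgroup X) ⊓ Subgroup.centralizer ((T : Subgroup X) : Set X) : Subgroup X) : Set X)).normalCore).subgroupOf
              (Subgroup.normalClosure (Cfsg.thompsonSubgroupAOf (T : Subgroup X) : Set X))
          ≃* (Fin n → Equiv.Perm (Fin 3)))) := by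
  classical
  open Subgroup Cfsg.Lib.FF in
  exact by
    haveI : Fact (Nat.Prime 2) := ⟨Nat.prime_two⟩
    set Z : Subgroup X := (T : Subgroup X) ⊓ centralizer ((T : Subgroup X) : Set X) with hZ
    set C : Subgroup X := (centralizer (Z : Set X)).normalCore with hC
    set J : Subgroup X := Cfsg.thompsonSubgroupAOf (T : Subgroup X) with hJ
    set Y : Subgroup X := normalClosure (J : Set X) with hY
    have hJT : J ≤ (T : Subgroup X) := map_subtype_le _
    haveI hCn : C.Normal := normalCore_normal _
    haveI hYn : Y.Normal := normalClosure_normal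
    refine ⟨?_, ?_⟩
    · -- Frattini argument
      set K := C ⊔ Y
      haveI : K.Normal := inferInstance
      have hJK : J ≤ K := (le_normalClosure : J ≤ Y).trans le_sup_right
      obtain ⟨T', hT'₀⟩ := Cfsg.Lib.Transfer.exists_sylow_subgroupOf T K
      have hT' : (T' : Subgroup K).map K.subtype = (T : Subgroup X) ⊓ K := by
        rw [hT'₀, subgroupOf_map_subtype]
      have hfr := Sylow.normalizer_sup_eq_top T'
      rw [eq_top_iff, ← hfr]
      refine sup_le ?_ le_sup_left
      refine le_sup_of_le_right ?_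
      intro g hg
      rw [hT'] at hg
      -- `g` permutes the abelian subgroups of largest order
      have hconj : ∀ g ∈ normalizer (((T : Subgroup X) ⊓ K : Subgroup X) : Set X),
          ∀ x ∈ J, g * x * g⁻¹ ∈ J := by
        intro g hg x hx
        obtain ⟨x₀, hx₀, rfl⟩ := hx
        change x₀ ∈ sSup (Cfsg.maxAbelianSubgroups (T : Subgroup X)) at hx₀
        have hle : sSup (Cfsg.maxAbelianSubgroups (T : Subgroup X)) ≤
            ((Cfsg.thompsonSubgroupAOf (T : Subgroup X)).comap
              ((MulAut.conj g).toMonoidHom.comp (T : Subgroup X).subtype)) := by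
          refine sSup_le fun A hA => ?_
          have hAK : A.map (T : Subgroup X).subtype ≤ (T : Subgroup X) ⊓ K :=
            le_inf (map_subtype_le _) ((map_mono (le_sSup hA)).trans hJK)
          set A₁ := (A.map (T : Subgroup X).subtype).map (MulAut.conj g).toMonoidHom with hA₁
          have hA₁T : A₁ ≤ (T : Subgroup X) := by
            rintro _ ⟨a, ha, rfl⟩
            exact ((mem_normalizer_iff.1 hg a).1 (hAK ha)).1
          have hA₁max : A₁.subgroupOf (T : Subgroup X) ∈ Cfsg.maxAbelianSubgroups (T : Subgroup X) := by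
            haveI := hA.1
            have hA1c : ∀ a ∈ A₁, ∀ b ∈ A₁, a * b = b * a := by
              rintro _ ⟨_, ⟨a, ha, rfl⟩, rfl⟩ _ ⟨_, ⟨b, hb, rfl⟩, rfl⟩
              simp only [← map_mul]
              rw [show a * b = b * a from congrArg Subtype.val (mul_comm' (⟨a, ha⟩ : A) ⟨b, hb⟩)]
            refine ⟨⟨⟨fun a b => Subtype.ext (Subtype.ext (hA1c _ a.2 _ b.2))⟩⟩, fun B hB => ?_⟩
            refine (hA.2 B hB).trans (le_of_eq ?_)
            rw [Nat.card_congr (subgroupOfEquivOfLe hA₁T).toEquiv, hA₁,
              card_map_of_injective (MulAut.conj g).injective, card_map_of_injective (f := (T : Subgroup X).subtype) (subtype_injective _)]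
          intro a ha
          refine ⟨⟨g * (a : X) * g⁻¹, hA₁T ⟨a, ⟨a, ha, rfl⟩, rfl⟩⟩, ?_, rfl⟩
          exact le_sSup hA₁max (by
            rw [mem_subgroupOf]
            exact ⟨a, ⟨a, ha, rfl⟩, rfl⟩)
        exact hle hx₀
      rw [mem_normalizer_iff]
      intro x
      refine ⟨fun hx => hconj g hg x hx, fun hx => ?_⟩
      have := hconj g⁻¹ (inv_mem hg) _ hx
      simpa [mul_assoc] using this
    by_cases hYC : Y ≤ C
    · exact Or.inl hYC
    refine Or.inr ?_
    -- the abelian normal 2-subgroup generated by the conjugates of `Z`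
    set F := Cfsg.fittingSubgroup X with hFdef
    have hFT : F ≤ (T : Subgroup X) := by
      rw [hF]
      haveI := Cfsg.Lib.Components.pCore_normal' (G := X) 2
      exact sup_eq_left.1 (T.is_maximal' (T.isPGroup'.to_sup_of_normal_right
        (Cfsg.Lib.Components.isPGroup_pCore 2)) le_sup_left)
    have hZF : Z ≤ F ⊓ centralizer (F : Set X) := by
      have h1 : Z ≤ centralizer (F : Set X) := inf_le_right.trans (centralizer_le hFT)
      exact le_inf (h1.trans Cfsg.Lib.Coprime.centralizer_fitting_le) h1
    set V : Subgroup X := normalClosure (Z : Set X) with hV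
    haveI hVn : V.Normal := normalClosure_normal
    have hVle : V ≤ F ⊓ centralizer (F : Set X) := by
      haveI : F.Normal := Cfsg.Lib.Components.fittingSubgroup_normal'
      haveI : (centralizer (F : Set X)).Normal := inferInstance
      exact normalClosure_le_normal hZF
    have hVT : V ≤ (T : Subgroup X) := (hVle.trans inf_le_left).trans hFT
    have hVc : ∀ a ∈ V, ∀ b ∈ V, a * b = b * a := fun a ha b hb =>
      (mem_centralizer_iff.1 (hVle ha).2 b (hVle hb).1).symm
    have hV2 : IsPGroup 2 V := T.isPGroup'.to_le hVT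
    let W : Subgroup X :=
      { carrier := {v | v ∈ V ∧ v ^ 2 = 1}
        one_mem' := ⟨one_mem _, one_pow 2⟩
        mul_mem' := fun {a b} ha hb => ⟨mul_mem ha.1 hb.1, by
          rw [(show Commute a b from hVc a ha.1 b hb.1).mul_pow, ha.2, hb.2, one_mul]⟩
        inv_mem' := fun {a} ha => ⟨inv_mem ha.1, by rw [inv_pow, ha.2, inv_one]⟩ }
    have hWV : W ≤ V := fun v hv => hv.1
    haveI hWn : W.Normal := ⟨fun v hv g => ⟨hVn.conj_mem v hv.1 g, by rw [conj_pow, hv.2]; group⟩⟩
    have hWel : Cfsg.IsElementaryAbelian 2 W :=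
      ⟨⟨⟨fun a b => Subtype.ext (hVc _ a.2.1 _ b.2.1)⟩⟩, fun a ha => ha.2⟩
    have hCV : C = centralizer (V : Set X) := by
      apply le_antisymm
      · rw [le_centralizer_iff]
        refine normalClosure_le_normal ?_
        intro z hz
        exact mem_centralizer_iff.2 fun c hc =>
          (mem_centralizer_iff.1 (normalCore_le _ hc) z hz).symm
      · exact normal_le_normalCore.2 (centralizer_le (le_normalClosure : Z ≤ V))
    have hgenV : V = ⨆ S : Sylow 2 X, V ⊓ centralizer ((S : Subgroup X) : Set X) := by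
      refine le_antisymm ?_ (iSup_le fun S => inf_le_left)
      rw [hV, normalClosure, closure_le]
      intro x hx
      rw [Group.mem_conjugatesOfSet_iff] at hx
      obtain ⟨z, hz, hzx⟩ := hx
      obtain ⟨g, rfl⟩ := isConj_iff.1 hzx
      refine mem_iSup_of_mem (g • T) ⟨hVn.conj_mem z (le_normalClosure hz) g, ?_⟩
      refine mem_centralizer_iff.2 fun s hs => ?_
      rw [SetLike.mem_coe, Sylow.coe_subgroup_smul] at hs
      obtain ⟨t, ht, rfl⟩ := hs
      exact (Commute.conj_iff g).2 (mem_centralizer_iff.1 (mem_inf.1 hz).2 t ht)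
    have hpc : Cfsg.pCore 2 (X ⧸ centralizer (V : Set X)) = ⊥ :=
      Cfsg.Lib.ElemToolkit.pCore_eq_bot V hgenV
    have hCW : centralizer (W : Set X) = centralizer (V : Set X) := by
      refine le_antisymm ?_ (centralizer_le hWV)
      set N := centralizer (W : Set X)
      have hodd : ∀ x ∈ N, Odd (orderOf x) → x ∈ centralizer (V : Set X) := by
        intro x hx hxo
        have key : ∀ k : ℕ, ∀ v ∈ V, v ^ 2 ^ k = 1 → x * v * x⁻¹ = v := by
          intro k
          induction k with
          | zero => intro v _ hv; simp at hv; simp [hv]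
          | succ k ih =>
            intro v hv hvk
            have h1 := ih (v ^ 2) (pow_mem hv 2) (by rw [← pow_mul, ← pow_succ']; exact hvk)
            rw [← conj_pow] at h1
            set c := v⁻¹ * (x * v * x⁻¹) with hc
            have hcV : c ∈ V := mul_mem (inv_mem hv) (hVn.conj_mem v hv x)
            have hc2 : c ^ 2 = 1 := by
              rw [hc, (show Commute v⁻¹ (x * v * x⁻¹) from
                hVc _ (inv_mem hv) _ (hVn.conj_mem v hv x)).mul_pow, h1, inv_pow, inv_mul_cancel]
            have := Cfsg.Agent.DihedralTop.fix_of_odd hxo c (q := v)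
              (by rw [hc, mul_inv_cancel_left]) (mem_centralizer_iff.1 hx c ⟨hcV, hc2⟩).symm hc2
            rw [hc, inv_mul_eq_one] at this
            exact this.symm
        rw [mem_centralizer_iff]
        intro v hv
        obtain ⟨k, hk⟩ := hV2 ⟨v, hv⟩
        exact (mul_inv_eq_iff_eq_mul.1 (key k v hv (by
          rw [Subtype.ext_iff, SubmonoidClass.coe_pow, OneMemClass.coe_one] at hk; exact hk))).symm
      haveI : N.Normal := inferInstance
      have h2 : N.map (QuotientGroup.mk' (centralizer (V : Set X))) ≤ ⊥ := by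
        rw [← hpc]
        haveI : (N.map (QuotientGroup.mk' (centralizer (V : Set X)))).Normal :=
          Normal.map inferInstance _ (QuotientGroup.mk'_surjective _)
        refine Cfsg.Lib.Components.le_pCore ?_
        rintro ⟨_, n, hn, rfl⟩
        obtain ⟨a, b, hb, hab⟩ := Nat.exists_eq_two_pow_mul_odd (orderOf_pos n).ne'
        refine ⟨a, Subtype.ext ?_⟩
        simp only [SubmonoidClass.coe_pow, OneMemClass.coe_one]
        rw [← map_pow, QuotientGroup.mk'_apply, QuotientGroup.eq_one_iff]
        refine hodd _ (pow_mem hn _) ?_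
        rw [orderOf_pow, hab, Nat.gcd_mul_right_left, Nat.mul_div_cancel_left _ (pow_pos two_pos a)]
        exact hb
      intro x hx
      rw [← QuotientGroup.eq_one_iff]
      exact mem_bot.1 (h2 ⟨x, hx, rfl⟩)
    have hker : (rho W).ker = C := by rw [ker_rho, hCW, hCV]
    have hsep : Cfsg.IsPSolvable 2 X := Cfsg.Lib.Blocks.isPSolvable_of_solvable inferInstance
    have hs := setup_model W hsep hWel
      (by rw! [hCW]; exact hpc) Y
    set H := Y.map (rho W) with hH
    -- the images of the largest abelian subgroups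
    have hoff : ∀ A ∈ Cfsg.maxAbelianSubgroups (T : Subgroup X),
        Cfsg.IsBestOffenderOn 2 (vx W) ((A.map (T : Subgroup X).subtype).map (rho W)) ∧
          (A.map (T : Subgroup X).subtype).map (rho W) ≤ H := by
      intro A hA
      set A' := A.map (T : Subgroup X).subtype with hA'
      have hA'Y : A' ≤ Y := ((map_mono (le_sSup hA)).trans (le_refl J)).trans le_normalClosure
      have hle : A'.map (rho W) ≤ H := map_mono hA'Y
      haveI := hA.1
      have hA'c : ∀ a ∈ A', ∀ b ∈ A', a * b = b * a := by
        rintro _ ⟨a, ha, rfl⟩ _ ⟨b, hb, rfl⟩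
        rw [← map_mul, ← map_mul, show a * b = b * a from congrArg Subtype.val (mul_comm' (⟨a, ha⟩ : A) ⟨b, hb⟩)]
      have hA'T : A' ≤ (T : Subgroup X) := map_subtype_le _
      have hmax : ∀ B : Subgroup X, B ≤ (T : Subgroup X) → (∀ a ∈ B, ∀ b ∈ B, a * b = b * a) →
          Nat.card B ≤ Nat.card A' := by
        intro B hBT hBc
        have h1 := hA.2 (B.subgroupOf (T : Subgroup X))
          ⟨⟨fun a b => Subtype.ext (Subtype.ext (hBc _ a.2 _ b.2))⟩⟩
        rw [Nat.card_congr (subgroupOfEquivOfLe hBT).toEquiv] at h1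
        exact h1.trans (le_of_eq (card_map_of_injective (subtype_injective _)).symm)
      have hab : ∀ a ∈ A'.map (rho W), ∀ b ∈ A'.map (rho W), a * b = b * a := by
        rintro _ ⟨a, ha, rfl⟩ _ ⟨b, hb, rfl⟩
        rw [← map_mul, ← map_mul, hA'c a ha b hb]
      have hopt : Cfsg.Lib.ElemToolkit.Opt (vx W) (A'.map (rho W)) := by
        refine ⟨fun B hB => ?_, commutator_le.2 fun a ha b hb => ?_⟩
        swap
        · rw [commutatorElement_eq_one_iff_mul_comm.2 (hab a ha b hb)]
          exact one_mem _
        set B₀ := A' ⊓ B.comap (rho W)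
        have hmap : B₀.map (rho W) = B := by
          refine le_antisymm ((map_mono inf_le_right).trans (map_comap_le _ _)) fun y hy => ?_
          obtain ⟨a, ha, rfl⟩ := hB hy
          exact ⟨a, ⟨ha, hy⟩, rfl⟩
        have hk : B₀ ⊓ (rho W).ker = A' ⊓ (rho W).ker := by
          refine le_antisymm (inf_le_inf_right _ inf_le_left) fun x hx => ?_
          obtain ⟨h1, h2⟩ := mem_inf.1 hx
          exact ⟨⟨h1, show rho W x ∈ B from (MonoidHom.mem_ker.1 h2).symm ▸ one_mem _⟩, h2⟩
        have hV0 : Nat.card B₀ * Nat.card (fx V B₀) ≤ Nat.card A' * Nat.card (fx V A') := by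
          refine (Cfsg.Lib.ElemToolkit.mul_card_le B₀ (fx V B₀)).trans (Nat.mul_le_mul ?_ ?_)
          · refine hmax _ (sup_le (inf_le_left.trans hA'T) (inf_le_left.trans hVT)) ?_
            have hc : B₀ ⊔ fx V B₀ ≤ centralizer ((B₀ ⊔ fx V B₀ : Subgroup X) : Set X) := by
              refine sup_le ?_ ?_ <;> rw [le_centralizer_iff] <;> refine sup_le ?_ ?_
              · exact fun a ha => mem_centralizer_iff.2 fun b hb => hA'c b hb.1 a ha.1
              · exact fun v hv => mem_centralizer_iff.2 fun b hb => (mem_fx.1 hv).2 b hb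
              · exact fun b hb => mem_centralizer_iff.2 fun v hv => ((mem_fx.1 hv).2 b hb).symm
              · exact fun a ha => mem_centralizer_iff.2 fun b hb =>
                  hVc b (mem_fx.1 hb).1 a (mem_fx.1 ha).1
            exact fun a ha b hb => (mem_centralizer_iff.1 (hc ha) b hb).symm
          · exact Cfsg.Lib.ElemToolkit.card_le_card_of_le fun x hx =>
              mem_fx.2 ⟨(mem_fx.1 hx.2).1, fun a ha => (hA'c x hx.1.1 a ha).symm⟩
        have hW0 : Nat.card B₀ * Nat.card (fx W B₀) ≤ Nat.card A' * Nat.card (fx W A') := by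
          have h5 := Cfsg.Lib.ElemToolkit.mul_card_le (fx W B₀) (fx V A')
          have h6 : Nat.card ↥(fx W B₀ ⊔ fx V A') ≤ Nat.card (fx V B₀) :=
            Cfsg.Lib.ElemToolkit.card_le_card_of_le (sup_le (inf_le_inf hWV le_rfl) (fx_anti inf_le_left))
          have h7 : Nat.card ↥(fx W B₀ ⊓ fx V A') ≤ Nat.card (fx W A') :=
            Cfsg.Lib.ElemToolkit.card_le_card_of_le fun x hx => mem_fx.2 ⟨(mem_fx.1 hx.1).1, (mem_fx.1 hx.2).2⟩
          have h8 : Nat.card B₀ * (Nat.card (fx W B₀) * Nat.card (fx V A')) ≤
              Nat.card A' * Nat.card (fx V A') * Nat.card (fx W A') :=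
            (Nat.mul_le_mul_left _ (h5.trans (Nat.mul_le_mul h6 h7))).trans
              (by rw [← mul_assoc]; exact Nat.mul_le_mul_right _ hV0)
          refine Nat.le_of_mul_le_mul_right ?_ (Nat.card_pos (α := fx V A'))
          calc _ = Nat.card B₀ * (Nat.card (fx W B₀) * Nat.card (fx V A')) := by ring
            _ ≤ _ := h8
            _ = _ := by ring
        show Nat.card B * Nat.card (fx (vx W) B) ≤
          Nat.card (A'.map (rho W)) * Nat.card (fx (vx W) (A'.map (rho W)))
        rw [← hmap, card_fx_map, card_fx_map]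
        rw [card_eq_map_mul (rho W) B₀, card_eq_map_mul (rho W) A', hk, mul_right_comm,
          mul_right_comm _ _ (Nat.card (fx W A'))] at hW0
        exact Nat.le_of_mul_le_mul_right hW0 Nat.card_pos
      have hel := AbelianOffender.elementary hs hle hab ((T.isPGroup'.to_le hA'T).map _) hopt
      exact ⟨⟨hopt.1, hopt.2, fun a ha => by rw [hel.2 a ha]; exact one_mem _⟩, hle⟩
    have hS3 : H = ⨆ B : {B : Subgroup (Amb W) // B ≤ H ∧ Cfsg.IsBestOffenderOn 2 (vx W) B}, (B : Subgroup (Amb W)) := by
      refine le_antisymm ?_ (iSup_le fun B => B.2.1)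
      rw [hH, map_le_iff_le_comap]
      set S := (⨆ B : {B : Subgroup (Amb W) // B ≤ H ∧ Cfsg.IsBestOffenderOn 2 (vx W) B}, (B : Subgroup (Amb W))).comap (rho W)
      have hgen : ∀ x ∈ J, ∀ g : X, g * x * g⁻¹ ∈ S := by
        intro x hx g
        obtain ⟨x₀, hx₀, rfl⟩ := hx
        have hle : sSup (Cfsg.maxAbelianSubgroups (T : Subgroup X)) ≤
            S.comap ((MulAut.conj g).toMonoidHom.comp (T : Subgroup X).subtype) := by
          refine sSup_le fun A hA a ha => ?_
          obtain ⟨hbest, hle⟩ := hoff A hA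
          -- conjugate offender
          let φ := (MulAut.conj (rho W g)).toMonoidHom
          set B := ((A.map (T : Subgroup X).subtype).map (rho W)).map φ with hB
          have hBH : B ≤ H := by
            rintro _ ⟨_, ⟨b, hb, rfl⟩, rfl⟩
            refine ⟨g * b * g⁻¹, hYn.conj_mem b ?_ g, by simp [φ]⟩
            exact ((map_mono (le_sSup hA)).trans (le_refl J)).trans le_normalClosure hb
          have hBb : Cfsg.IsBestOffenderOn 2 (vx W) B := by
            have hinj : Function.Injective φ := (MulAut.conj (rho W g)).injective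
            have hvx : (vx W).map φ = vx W := by
              refine eq_of_le_of_card_ge ?_ (card_map_of_injective hinj).ge
              rintro _ ⟨v, hv, rfl⟩
              exact (mem_normalizer_iff.1 (le_normalizer_vx W ⊤ (mem_top _)) v).1 hv
            have hfx : ∀ D : Subgroup (Amb W),
                Nat.card (fx (vx W) (D.map φ)) = Nat.card (fx (vx W) D) := fun D => by
              have : fx (vx W) (D.map φ) = (fx (vx W) D).map φ := by
                rw [fx, fx, map_inf _ _ _ hinj, hvx, coe_map,
                  show (φ : Amb W → Amb W) '' (D : Set (Amb W)) = (MulAut.conj (rho W g)) '' (D : Set (Amb W)) from rfl]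
                congr 1
                ext v
                simp only [mem_centralizer_iff, Set.forall_mem_image, mem_map]
                constructor
                · intro h
                  refine ⟨(MulAut.conj (rho W g)).symm v, fun d hd => ?_, ?_⟩
                  · apply (MulAut.conj (rho W g)).injective
                    rw [map_mul, map_mul, MulEquiv.apply_symm_apply]
                    exact h hd
                  · exact (MulAut.conj (rho W g)).apply_symm_apply v
                · rintro ⟨u, hu, rfl⟩ d hd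
                  have := congrArg (MulAut.conj (rho W g)) (hu d hd)
                  rw [map_mul, map_mul] at this
                  exact this
              rw [this, card_map_of_injective hinj]
            refine ⟨fun D hD => ?_, ?_, ?_⟩
            · have hD' : D = (D.comap φ).map φ := by
                rw [map_comap_eq_self_of_surjective (MulAut.conj (rho W g)).surjective]
              have h9 := hbest.1 (D.comap φ) (by
                intro x hx
                obtain ⟨y, hy, he⟩ := hD hx
                exact hinj he ▸ hy)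
              change Nat.card D * Nat.card (fx (vx W) D) ≤ Nat.card B * Nat.card (fx (vx W) B)
              rw [hD', hB, hfx, hfx, card_map_of_injective hinj, card_map_of_injective hinj]
              exact h9
            · rw [hB, ← map_commutator]
              rintro _ ⟨c, hc, rfl⟩
              rw [mem_centralizer_iff, ← hvx]
              rintro _ ⟨v, hv, rfl⟩
              rw [← map_mul, ← map_mul, mem_centralizer_iff.1 (hbest.2.1 hc) v hv]
            · rintro _ ⟨c, hc, rfl⟩
              rw [← map_pow, mem_centralizer_iff, ← hvx]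
              rintro _ ⟨v, hv, rfl⟩
              rw [← map_mul, ← map_mul, mem_centralizer_iff.1 (hbest.2.2 c hc) v hv]
          simp only [S, mem_comap, MonoidHom.comp_apply, MulEquiv.coe_toMonoidHom, MulAut.conj_apply,
            Subgroup.coe_subtype]
          refine mem_iSup_of_mem ⟨B, hBH, hBb⟩ ?_
          exact ⟨rho W a, ⟨a, ⟨a, ha, rfl⟩, rfl⟩, by simp [φ]⟩
        exact hle hx₀
      rw [hY, normalClosure, closure_le]
      intro x hx
      rw [Group.mem_conjugatesOfSet_iff] at hx
      obtain ⟨z, hz, hzx⟩ := hx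
      obtain ⟨g, rfl⟩ := isConj_iff.1 hzx
      exact hgen z hz g
    have hH1 : H ≠ ⊥ := fun h => hYC fun y hy => by
      rw [← hker, MonoidHom.mem_ker, ← mem_bot, ← h]
      exact ⟨y, hy, rfl⟩
    have hfaith : H ⊓ centralizer (vx W : Set (Amb W)) = ⊥ := by
      rw [eq_bot_iff]
      rintro x ⟨hx, hxc⟩
      exact mem_bot.2 (hs.faith x hx fun v hv => (mem_centralizer_iff.1 hxc v hv).symm)
    have hS1 : centralizer (Cfsg.pPrimeCore 2 ↥H : Set ↥H) ≤ Cfsg.pPrimeCore 2 ↥H := by
      intro h hh
      obtain ⟨q, hq, he⟩ := hs.self h h.2 fun q hq => by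
        obtain ⟨q₀, hq₀, rfl⟩ := hq
        exact congrArg Subtype.val (mem_centralizer_iff.1 hh q₀ hq₀)
      exact Subtype.ext he ▸ hq
    obtain ⟨-, hE, hind, hsup, -, -⟩ := Cfsg.Agent.S0617.result (vx W) H hs.elem hs.norm hfaith hS1 hS3 hH1
    obtain ⟨n, hn, ⟨eH⟩⟩ := exists_iso_pi _ H hH1 hsup hind inferInstance (fun E => (hE E).1)
      (fun E => (hE E).2.1.map fun e => e.trans sl2_two.some)
    refine ⟨n, hn, ⟨?_⟩⟩
    let φ : ↥Y →* ↥H := (rho W).subgroupMap Y
    have hφ : φ.ker = C.subgroupOf Y := by
      ext y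
      rw [MonoidHom.mem_ker, mem_subgroupOf, ← hker, MonoidHom.mem_ker]
      exact Subtype.ext_iff
    exact ((QuotientGroup.quotientMulEquivOfEq hφ.symm).trans
      (QuotientGroup.quotientKerEquivOfSurjective φ ((rho W).subgroupMap_surjective Y))).trans eH

end Cfsg.Agent.S4302
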