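import Cfsg.Statements.S4306
import Cfsg.Agent.SolvStruct.PQHeight.Height

set_option autoImplicit false
open Cfsg

namespace Cfsg.Agent.S4306

/-- Let `A` be a non-abelian group of order `pq` with `p, q` distinct primes, acting by automorphisms on a finite solvable group `G` of order prime to `pq`, so that only the identity of `G` is fixed by all of `A`. Then `G` has Fitting height at most 2: there is a normal nilpotent subgroup `F` of `G` with `G/F` nilpotent. -/
theorem result {G A : Type*} [Group G] [Finite G]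
    [Group.IsSolvable G] [Group A] [Finite A] [MulDistribMulAction A G] (p q : ℕ) (hp : p.Prime) (hq : q.Prime) (hpq : p ≠ q)
    (hA : Nat.card A = p * q) (hAna : ¬ IsMulCommutative A) (hcop : (Nat.card G).Coprime (p * q))
    (hfpf : ∀ g : G, (∀ a : A, a • g = g) → g = 1) :
    ∃ F : Subgroup G, ∃ hF : F.Normal, Group.IsNilpotent ↥F ∧ Group.IsNilpotent (G ⧸ F) := by
  haveI := Fact.mk hp
  haveI := Fact.mk hq
  wlog hlt : q < p generalizing p q
  · exact this q p hq hp hpq.symm (hA.trans (mul_comm p q)) (by rwa [mul_comm]) inferInstance inferInstance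
      (lt_of_le_of_ne (not_lt.1 hlt) hpq)
  obtain ⟨f, hf⟩ := exists_prime_orderOf_dvd_card' p (hA ▸ dvd_mul_right p q : p ∣ Nat.card A)
  obtain ⟨σ, hσ⟩ := exists_prime_orderOf_dvd_card' q (hA ▸ dvd_mul_left q p : q ∣ Nat.card A)
  have hidx : (Subgroup.zpowers f).index = q := by
    have h := (Subgroup.zpowers f).card_mul_index
    rw [Nat.card_zpowers, hf, hA] at h
    exact Nat.eq_of_mul_eq_mul_left hp.pos h
  haveI hnf : (Subgroup.zpowers f).Normal := by
    refine Subgroup.normal_of_index_eq_minFac_card ?_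
    rw [hidx, hA]
    have hm : (p * q).minFac ∣ p * q := Nat.minFac_dvd _
    have hmp : (p * q).minFac.Prime := Nat.minFac_prime (by simp [hp.ne_one])
    have hle : (p * q).minFac ≤ q := Nat.minFac_le_of_dvd hq.two_le (dvd_mul_left q p)
    rcases (hmp.dvd_mul).1 hm with h | h
    · have := (Nat.prime_dvd_prime_iff_eq hmp hp).1 h
      omega
    · exact ((Nat.prime_dvd_prime_iff_eq hmp hq).1 h).symm
  have hsup : Subgroup.zpowers f ⊔ Subgroup.zpowers σ = ⊤ := by
    refine Subgroup.eq_top_of_card_eq _ ?_
    rw [Cfsg.Lib.Coprime.card_sup_coprime Subgroup.le_normalizer_of_normal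
      (by rw [Nat.card_zpowers, Nat.card_zpowers, hf, hσ]; exact (Nat.coprime_primes hp hq).2 hpq),
      Nat.card_zpowers, Nat.card_zpowers, hf, hσ, hA]
  have hdec : ∀ a : A, ∃ i j : ℤ, f ^ i * σ ^ j = a := fun a => by
    obtain ⟨u, hu, v, hv, e⟩ := Subgroup.mem_sup_of_normal_left.1 (hsup ▸ Subgroup.mem_top a)
    obtain ⟨i, rfl⟩ := Subgroup.mem_zpowers_iff.1 hu
    obtain ⟨j, rfl⟩ := Subgroup.mem_zpowers_iff.1 hv
    exact ⟨i, j, e⟩
  have hnc : σ * f ≠ f * σ := by
    intro h
    refine hAna ⟨⟨fun a b => ?_⟩⟩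
    obtain ⟨i, j, rfl⟩ := hdec a
    obtain ⟨k, l, rfl⟩ := hdec b
    have hc : Commute f σ := h.symm
    have hx : Commute (f ^ i * σ ^ j) f :=
      Commute.mul_left ((Commute.refl f).zpow_left i) (hc.symm.zpow_left j)
    have hy : Commute (f ^ i * σ ^ j) σ :=
      Commute.mul_left (hc.zpow_left i) ((Commute.refl σ).zpow_left j)
    exact ((hx.zpow_right k).mul_right (hy.zpow_right l)).eq
  let φ : A →* MulAut G := MulDistribMulAction.toMulAut A G
  haveI : Finite (G ⋊[φ] A) := Finite.of_equiv _ SemidirectProduct.equivProd.symm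
  set X : Subgroup (G ⋊[φ] A) := (SemidirectProduct.inl : G →* G ⋊[φ] A).range with hX
  haveI : X.Normal := by rw [hX, SemidirectProduct.range_inl_eq_ker_rightHom]; infer_instance
  let e : G ≃* X := MonoidHom.ofInjective (f := (SemidirectProduct.inl : G →* G ⋊[φ] A)) SemidirectProduct.inl_injective
  haveI : Group.IsSolvable X :=
    Group.isSolvable_of_isSolvable_injective (f := e.symm.toMonoidHom) e.symm.injective
  have hXc : Nat.card X = Nat.card G := (Nat.card_congr e.toEquiv).symm
  have hfixG : ∀ (a : A) (g : G), (SemidirectProduct.inr a : G ⋊[φ] A) * SemidirectProduct.inl g =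
      SemidirectProduct.inl g * SemidirectProduct.inr a → a • g = g := fun a g h => by
    refine SemidirectProduct.inl_injective (φ := φ) ?_
    show SemidirectProduct.inl (φ a g) = _
    rw [SemidirectProduct.inl_aut, h, mul_assoc, ← map_mul, mul_inv_cancel, map_one, mul_one]
  have hnil := Cfsg.Lib.SolvStruct.PQHeight.height_two X
    (f := SemidirectProduct.inr f) (σ := SemidirectProduct.inr σ) (p := p) (q := q)
    (by rw [orderOf_injective _ SemidirectProduct.inr_injective, hf])
    (by rw [orderOf_injective _ SemidirectProduct.inr_injective, hσ]) hpq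
    (by
      obtain ⟨k, hk⟩ := Subgroup.mem_zpowers_iff.1 (hnf.conj_mem f (Subgroup.mem_zpowers f) σ)
      refine Subgroup.mem_zpowers_iff.2 ⟨k, ?_⟩
      rw [← map_zpow, hk, map_mul, map_mul, map_inv])
    (by rw [← map_mul, ← map_mul]; exact fun h => hnc (SemidirectProduct.inr_injective h))
    (fun h => hp.coprime_iff_not_dvd.1 ((Nat.Coprime.coprime_dvd_right (dvd_mul_right p q) hcop).symm) (hXc ▸ h))
    (fun h => hq.coprime_iff_not_dvd.1 ((Nat.Coprime.coprime_dvd_right (dvd_mul_left q p) hcop).symm) (hXc ▸ h))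
    (by
      rintro _ ⟨g, rfl⟩ h1 h2
      have hg1 := hfixG f g h1
      have hg2 := hfixG σ g h2
      rw [hfpf g (fun a => ?_), map_one]
      obtain ⟨i, j, rfl⟩ := hdec a
      have hmem : ∀ b : A, b ∈ MulAction.stabilizer A g ↔ b • g = g := fun b => Iff.rfl
      exact (hmem _).1 (mul_mem (zpow_mem ((hmem f).2 hg1) i) (zpow_mem ((hmem σ).2 hg2) j)))
  refine ⟨(fittingSubgroup X).comap e.toMonoidHom, inferInstance, ?_, ?_⟩
  · haveI : Group.IsNilpotent (fittingSubgroup X) := Cfsg.Lib.Components.isNilpotent_fitting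
    exact isNilpotent_of_ker_le_center ((e.toMonoidHom).subgroupComap (fittingSubgroup X))
      (by
        intro a ha
        have h1 : a = 1 := Subtype.ext (e.injective ((congrArg Subtype.val ha).trans (map_one e).symm))
        rw [h1]; exact one_mem _)
  · exact Group.nilpotent_of_surjective
      (QuotientGroup.congr ((fittingSubgroup X).comap e.toMonoidHom) (fittingSubgroup X) e
        (Subgroup.map_comap_eq_self_of_surjective e.surjective _)).symm.toMonoidHom
      (MulEquiv.surjective _)

end Cfsg.Agent.S4306
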