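import Cfsg.Statements.S4314
import Cfsg.Agent.SolvStruct.PrimeClasses

set_option autoImplicit false
open Cfsg

namespace Cfsg.Agent.S4314

/-- Let `G` be a finite group every conjugacy class of which has size 1 or a prime. Then either `G` is nilpotent of class at most 2, or `G/Z(G)` is a non-abelian group of order `pq` for distinct primes `p, q` (a Frobenius group of order `pq`). -/
theorem result {G : Type*} [Group G] [Finite G]
    (h : ∀ x : G, (Subgroup.centralizer ({x} : Set G)).index = 1 ∨ ((Subgroup.centralizer ({x} : Set G)).index).Prime) :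
    Subgroup.upperCentralSeries G 2 = ⊤ ∨
      ∃ p q : ℕ, p.Prime ∧ q.Prime ∧ p ≠ q ∧ Nat.card (G ⧸ Subgroup.center G) = p * q ∧ ¬ IsMulCommutative (G ⧸ Subgroup.center G) := by
  by_cases h2 : ∃ x y : G, ∃ p q : ℕ, p.Prime ∧ q.Prime ∧ q < p ∧
      (Subgroup.centralizer ({x} : Set G)).index = p ∧ (Subgroup.centralizer ({y} : Set G)).index = q
  · obtain ⟨x, y, p, q, hp, hq, hqp, hx, hy⟩ := h2
    exact Or.inr (Cfsg.Lib.SolvStruct.PrimeClasses.center_of_two_primes hp hq hqp h hx hy)
  refine Or.inl (eq_top_iff.2 fun a _ => ?_)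
  rw [Subgroup.mem_upperCentralSeries_succ_iff]
  intro b
  rw [Subgroup.upperCentralSeries_one, commutatorElement_def]
  by_cases hab : ∀ z : G, (Subgroup.centralizer ({z} : Set G)).index = 1
  · rw [Subgroup.mem_center_iff]
    intro g
    have := Subgroup.index_eq_one.1 (hab g)
    exact (Subgroup.mem_centralizer_singleton_iff.1 (this ▸ Subgroup.mem_top _ : a * b * a⁻¹ * b⁻¹ ∈ Subgroup.centralizer ({g} : Set G))).symm
  push Not at hab
  obtain ⟨z₀, hz₀⟩ := hab
  refine Cfsg.Lib.SolvStruct.PrimeClasses.commutator_mem_center_of_one_prime ((h z₀).resolve_left hz₀) (fun z => ?_) a b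
  rcases h z with h1 | h1
  · exact Or.inl h1
  right
  by_contra hne
  rcases lt_or_gt_of_ne hne with hlt | hlt
  · exact h2 ⟨z₀, z, _, _, (h z₀).resolve_left hz₀, h1, hlt, rfl, rfl⟩
  · exact h2 ⟨z, z₀, _, _, h1, (h z₀).resolve_left hz₀, hlt, rfl, rfl⟩

end Cfsg.Agent.S4314
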