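import Cfsg.Statements.S4316
import Cfsg.Agent.Coprime.BoundedFixedDerived

set_option autoImplicit false
universe u
open Cfsg

namespace Cfsg.Agent.S4316

/-- There is a function `f` of two natural-number arguments with the following property. Let `q` be a prime and `A` an elementary abelian group of order `q³` acting by automorphisms on a finite group `G` of order prime to `q`, and suppose that for every non-identity `a ∈ A` the derived subgroup of the fixed-point subgroup `C_G(a)` has order at most `m`. Then the derived subgroup of `G` has order at most `f(q, m)`. -/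
theorem result :
    ∃ f : ℕ → ℕ → ℕ, ∀ (q m : ℕ) (A G : Type u) [Group A] [Finite A] [Group G] [Finite G] [MulDistribMulAction A G],
      q.Prime → Nat.card A = q ^ 3 → (∀ a b : A, a * b = b * a) → (∀ a : A, a ^ q = 1) → ¬ q ∣ Nat.card G →
      (∀ a : A, a ≠ 1 → Nat.card ↥(commutator ↥(FixedPoints.subgroup (Subgroup.zpowers a) G)) ≤ m) →
      Nat.card ↥(commutator G) ≤ f q m := by
  refine ⟨Cfsg.Lib.Coprime.BoundedDerived.bound, fun q m A G _ _ _ _ _ hq hA hc he hndvd hm => ?_⟩
  let φ : A →* MulAut G := MulDistribMulAction.toMulAut A G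
  haveI : Finite (G ⋊[φ] A) :=
    Finite.of_equiv _ (SemidirectProduct.equivProd (φ := φ)).symm
  let iG : G →* G ⋊[φ] A := SemidirectProduct.inl
  let iA : A →* G ⋊[φ] A := SemidirectProduct.inr
  have hiG : Function.Injective iG := SemidirectProduct.inl_injective
  have hiA : Function.Injective iA := SemidirectProduct.inr_injective
  haveI : IsMulCommutative iA.range := ⟨⟨by
    rintro ⟨-, a, rfl⟩ ⟨-, b, rfl⟩
    exact Subtype.ext (by show iA a * iA b = iA b * iA a; rw [← map_mul, ← map_mul, hc a b])⟩⟩
  have hcardG : Nat.card iG.range = Nat.card G := Nat.card_congr (MonoidHom.ofInjective hiG).symm.toEquiv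
  have hcardA : Nat.card iA.range = q ^ 3 := by
    rw [Nat.card_congr (MonoidHom.ofInjective hiA).symm.toEquiv, hA]
  have hmap : Nat.card ↥⁅iG.range, iG.range⁆ = Nat.card ↥(commutator G) := by
    rw [MonoidHom.range_eq_map, ← Subgroup.map_commutator, Subgroup.card_map_of_injective hiG, commutator_def]
  rw [← hmap]
  refine Cfsg.Lib.Coprime.BoundedDerived.card_commutator_le hq iA.range iG.range hcardA ?_ ?_ ?_ ?_
  · rintro - ⟨a, rfl⟩
    rw [← map_pow, he a, map_one]
  · refine le_trans le_top (le_of_eq (Subgroup.normalizer_eq_top_iff.2 ?_).symm)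
    exact SemidirectProduct.range_inl_eq_ker_rightHom (φ := φ) ▸ MonoidHom.normal_ker _
  · rw [hcardA, hcardG]
    exact Nat.Coprime.pow_left 3 ((Nat.Prime.coprime_iff_not_dvd hq).2 hndvd)
  · rintro - ⟨a, rfl⟩ ha
    have ha' : a ≠ 1 := fun h => ha (by rw [h, map_one])
    have haut : ∀ g, iG (φ a g) = iA a * iG g * (iA a)⁻¹ := fun g =>
      (SemidirectProduct.inl_aut (φ := φ) a g).trans (by rw [map_inv])
    have e : iG.range ⊓ Subgroup.centralizer {iA a} = (FixedPoints.subgroup (Subgroup.zpowers a) G).map iG := by
      ext x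
      simp only [Subgroup.mem_inf, MonoidHom.mem_range, Subgroup.mem_centralizer_singleton_iff, Subgroup.mem_map]
      constructor
      · rintro ⟨⟨g, rfl⟩, h⟩
        refine ⟨g, fun b => ?_, rfl⟩
        have hag : φ a g = g := by
          apply hiG
          show iG (φ a g) = iG g
          rw [haut, ← h,
            mul_inv_cancel_right]
        obtain ⟨b, hb⟩ := b
        have : b ∈ (MulAction.stabilizer A g) := (Subgroup.zpowers_le.2 (show a ∈ MulAction.stabilizer A g from hag)) hb
        exact this
      · rintro ⟨g, hg, rfl⟩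
        have hag : φ a g = g := hg ⟨a, Subgroup.mem_zpowers a⟩
        refine ⟨⟨g, rfl⟩, ?_⟩
        have h := haut g
        rw [hag] at h
        show iG g * iA a = iA a * iG g
        conv_lhs => rw [h]
        rw [inv_mul_cancel_right]
    rw [e, ← Subgroup.map_commutator, Subgroup.card_map_of_injective hiG]
    refine le_trans (le_of_eq ?_) (hm a ha')
    rw [← Subgroup.card_map_of_injective (FixedPoints.subgroup (Subgroup.zpowers a) G).subtype_injective,
      Subgroup.map_subtype_commutator]

end Cfsg.Agent.S4316
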