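import Cfsg.Statements.S4325
import Cfsg.Agent.PermGen.Transpositions

set_option autoImplicit false
open Cfsg

namespace Cfsg.Agent.S4325

/-- Let r be a prime and m a natural number with m + 1 < r, and let π be a set of primes containing every prime below r but not r itself. Then in the symmetric group of degree r any m transpositions generate a π-subgroup, while O_π of the symmetric group is trivial. (So no bound on the number of conjugates that works for all π exists in the π-radical analogue of the Baer–Suzuki Theorem.) -/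
theorem result (r m : ℕ) (hr : r.Prime)
    (hm : m + 1 < r) (π : Set ℕ) (hπ : ∀ q : ℕ, q.Prime → q < r → q ∈ π) (hrπ : r ∉ π)
    (t : Fin m → Equiv.Perm (Fin r)) (ht : ∀ i, (t i).IsSwap) :
    Cfsg.IsPiSubgroup π (Subgroup.closure (Set.range t)) ∧ Cfsg.piCore π (Equiv.Perm (Fin r)) = ⊥ := by
  classical
  haveI := Fact.mk hr
  constructor
  · intro q hq hqd
    haveI := Fact.mk hq
    rcases lt_or_ge q r with h | h
    · exact hπ q hq h
    exfalso
    have hle : q ≤ r := by
      have h2 : q ∣ Nat.card (Equiv.Perm (Fin r)) := hqd.trans (Subgroup.card_subgroup_dvd_card _)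
      rw [Nat.card_perm, Nat.card_eq_fintype_card, Fintype.card_fin, hq.dvd_factorial] at h2
      exact h2
    obtain rfl : q = r := le_antisymm hle h
    obtain ⟨σ, hσ⟩ := exists_prime_orderOf_dvd_card' q hqd
    rw [← Subgroup.orderOf_coe] at hσ
    obtain ⟨f, hf, hc⟩ := Cfsg.Lib.PermGen.exists_labelling t ht
    have hcard : Fintype.card (Fin q) = q := Fintype.card_fin q
    have hcyc : (σ : Equiv.Perm (Fin q)).IsCycle := Equiv.Perm.isCycle_of_prime_order'' (by rw [hcard]; exact hr) (by rw [hcard]; exact hσ)
    have hconst : ∀ x y : Fin q, f x = f y := by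
      intro x y
      have hsupp : (σ : Equiv.Perm (Fin q)).support = Finset.univ := by
        apply Finset.eq_univ_of_card
        rw [← hcyc.orderOf, hσ, hcard]
      obtain ⟨i, hi⟩ := hcyc.exists_zpow_eq
        (Equiv.Perm.mem_support.1 (hsupp ▸ Finset.mem_univ x)) (Equiv.Perm.mem_support.1 (hsupp ▸ Finset.mem_univ y))
      rw [← hi, hf _ (zpow_mem σ.2 i)]
    have h1 : (Finset.univ.image f).card ≤ 1 := Finset.card_le_one.2 fun a ha b hb => by
      obtain ⟨x, -, rfl⟩ := Finset.mem_image.1 ha
      obtain ⟨y, -, rfl⟩ := Finset.mem_image.1 hb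
      exact hconst x y
    rw [hcard] at hc
    omega
  · unfold Cfsg.piCore
    rw [sSup_eq_bot]
    rintro N ⟨hN, hπN⟩
    by_contra hne
    haveI := hN
    obtain ⟨g, hg, hg1⟩ : ∃ g ∈ N, g ≠ 1 := by
      obtain ⟨⟨g, hg⟩, hne'⟩ := Subgroup.ne_bot_iff_exists_ne_one.1 hne
      exact ⟨g, hg, fun h => hne' (Subtype.ext h)⟩
    obtain ⟨a, ha⟩ : ∃ a, g a ≠ a := by
      by_contra hall
      push Not at hall
      exact hg1 (Equiv.ext hall)
    haveI : MulAction.IsPretransitive N (Fin r) := by
      rw [MulAction.isPretransitive_iff_base a]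
      intro y
      by_cases hy : y = a
      · exact ⟨1, by rw [one_smul, hy]⟩
      · refine ⟨⟨Equiv.swap (g a) y * g * (Equiv.swap (g a) y)⁻¹, hN.conj_mem g hg _⟩, ?_⟩
        show Equiv.swap (g a) y (g ((Equiv.swap (g a) y)⁻¹ a)) = y
        rw [Equiv.swap_inv, Equiv.swap_apply_of_ne_of_ne ha.symm (Ne.symm hy), Equiv.swap_apply_left]
    apply hrπ
    refine hπN r hr ?_
    have hd := (MulAction.stabilizer N a).index_dvd_card
    rwa [MulAction.index_stabilizer_of_transitive, Nat.card_eq_fintype_card, Fintype.card_fin] at hd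

end Cfsg.Agent.S4325
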