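import Cfsg.Statements.S4326
import Mathlib

set_option autoImplicit false
open Pointwise
open Cfsg
open scoped Pointwise


namespace Cfsg.Agent.S4326

/-- Let G be a finite group, p a prime, x an automorphism of G of p-power order and M the subgroup of fixed points of x. Suppose that p divides the index of M and that either M is self-normalizing or M has trivial center. Then some conjugate of M is mapped onto itself by x but is not fixed elementwise by x. -/
theorem result {G : Type*} [Group G] [Finite G]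
    (p : ℕ) [Fact p.Prime] (x : MulAut G) (hx : ∃ k : ℕ, orderOf x = p ^ k) (M : Subgroup G)
    (hM : ∀ g : G, g ∈ M ↔ x g = g) (hp : p ∣ M.index)
    (hself : Subgroup.normalizer (M : Set G) = M ∨ Subgroup.center M = ⊥) :
    ∃ g : G, (∀ y ∈ MulAut.conj g • M, x y ∈ MulAut.conj g • M) ∧ ∃ y ∈ MulAut.conj g • M, x y ≠ y := by
  classical
  have hfix : ∀ a ∈ Subgroup.zpowers x, ∀ m ∈ M, a m = m := by
    intro a ha m hm
    have hle : Subgroup.zpowers x ≤ MulAction.stabilizer (MulAut G) m :=
      Subgroup.zpowers_le.2 (MulAction.mem_stabilizer_iff.2 ((hM m).1 hm))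
    exact hle ha
  letI : MulAction (Subgroup.zpowers x) (G ⧸ M) :=
    { smul := fun a q => Quotient.map' (s₁ := QuotientGroup.leftRel M) (s₂ := QuotientGroup.leftRel M) (a : MulAut G) (fun u v huv => by
        rw [QuotientGroup.leftRel_apply] at huv ⊢
        rw [← map_inv, ← map_mul, hfix _ a.2 _ huv]
        exact huv) q
      one_smul := fun q => Quotient.inductionOn' q fun _ => rfl
      mul_smul := fun a b q => Quotient.inductionOn' q fun _ => rfl }
  have hX : IsPGroup p (Subgroup.zpowers x) := by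
    obtain ⟨k, hk⟩ := hx
    exact IsPGroup.of_card (n := k) (by rw [Nat.card_zpowers, hk])
  have h1 : ((1 : G) : G ⧸ M) ∈ MulAction.fixedPoints (Subgroup.zpowers x) (G ⧸ M) := fun a =>
    congrArg (fun u : G => (u : G ⧸ M)) (map_one (a : MulAut G))
  obtain ⟨q, hq, hne⟩ := hX.exists_fixed_point_of_prime_dvd_card_of_fixed_point (G ⧸ M)
    (by rwa [← Subgroup.index_eq_card]) h1
  obtain ⟨g, rfl⟩ := QuotientGroup.mk_surjective q
  have hgM : g ∉ M := fun h => hne ((QuotientGroup.eq.2 (by simpa using h)))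
  have hm0 : g⁻¹ * x g ∈ M := QuotientGroup.eq.1 (hq ⟨x, Subgroup.mem_zpowers x⟩).symm
  have himg : ∀ m ∈ M, x (g * m * g⁻¹) = g * (g⁻¹ * x g * m * (g⁻¹ * x g)⁻¹) * g⁻¹ := by
    intro m hm
    rw [map_mul, map_mul, map_inv, (hM m).1 hm]
    group
  refine ⟨g, ?_, ?_⟩
  · intro y hy
    rw [Subgroup.mem_smul_pointwise_iff_exists] at hy
    obtain ⟨m, hm, rfl⟩ := hy
    rw [MulAut.smul_def, MulAut.conj_apply, himg m hm]
    exact (Subgroup.mem_smul_pointwise_iff_exists _ _ _).2 ⟨_, mul_mem (mul_mem hm0 hm) (inv_mem hm0), by rw [MulAut.smul_def, MulAut.conj_apply]⟩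
  · by_contra hall
    push Not at hall
    have hc : ∀ m ∈ M, x (g * m * g⁻¹) = g * m * g⁻¹ := fun m hm =>
      hall _ ((Subgroup.mem_smul_pointwise_iff_exists _ _ _).2 ⟨m, hm, rfl⟩)
    rcases hself with h | h
    · refine hgM (h.le ?_)
      refine Subgroup.mem_normalizer_iff_map_conj_eq.2 ?_
      refine Subgroup.eq_of_le_of_card_ge ?_ (le_of_eq (Subgroup.card_map_of_injective (MulAut.conj g).injective).symm)
      rintro _ ⟨m, hm, rfl⟩
      exact (hM _).2 (hc m hm)
    · have hz : (⟨g⁻¹ * x g, hm0⟩ : M) ∈ Subgroup.center M := Subgroup.mem_center_iff.2 fun m => Subtype.ext (by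
        have e := (himg m m.2).symm.trans (hc m m.2)
        have e2 := mul_left_cancel (mul_right_cancel e)
        exact (mul_inv_eq_iff_eq_mul.1 e2).symm)
      rw [h, Subgroup.mem_bot] at hz
      exact hgM ((hM g).2 (inv_mul_eq_one.1 (congrArg Subtype.val hz)).symm)

end Cfsg.Agent.S4326
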