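import Cfsg.Statements.S4330
import Cfsg.Agent.SolvStruct.CoprimeAvoid
import Cfsg.Agent.Components.Supplement
import Cfsg.Agent.Coprime.Hall
-- import your own Cfsg.Agent.* helpers here

set_option autoImplicit false
open Pointwise
open Cfsg

namespace Cfsg.Agent.S4330

open scoped Pointwise

universe v

open Subgroup in
/-- the translation into a vector fixed by a conjugate -/
theorem commute_of_subnormal {G : Type*} [Group G] [Finite G] {p : ℕ} [Fact p.Prime] {q : ℕ} [Fact q.Prime]
    (hpq : p ≠ q) (A V : Subgroup G) [V.Normal] (hA : IsPGroup p A) (hV : IsPGroup q V) (g : G) (hg : g ∈ V)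
    (h : (A.subgroupOf (A ⊔ MulAut.conj g • A)).IsSubnormal) : ∀ a ∈ A, Commute a g := by
  intro a ha
  set K := A ⊔ MulAut.conj g • A with hK
  have hAK : A ≤ K := le_sup_left
  set u := a * g * a⁻¹ * g⁻¹ with hu
  have hgK : g * a⁻¹ * g⁻¹ ∈ K :=
    (le_sup_right : MulAut.conj g • A ≤ K) (smul_mem_pointwise_smul _ _ _ (inv_mem ha))
  have huK : u ∈ K := by
    rw [show u = a * (g * a⁻¹ * g⁻¹) by rw [hu]; group]
    exact mul_mem (hAK ha) hgK
  have huV : u ∈ V := mul_mem (‹V.Normal›.conj_mem g hg a) (inv_mem hg)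
  have hAp : IsPGroup p (A.subgroupOf K) := hA.of_equiv (subgroupOfEquivOfLe hAK).symm
  have hle := Cfsg.Lib.Components.le_pCore_of_subnormal h hAp
  have hVK : IsPGroup q (V.subgroupOf K) :=
    hV.of_injective ((K.subtype.comp (V.subgroupOf K).subtype).codRestrict V fun x => x.2)
      (fun x y h => Subtype.ext (Subtype.ext (congrArg (fun z : V => (z : G)) h)))
  have hdis : Disjoint (Cfsg.pCore p K) (V.subgroupOf K) :=
    IsPGroup.disjoint_of_ne p q hpq _ _ (Cfsg.Lib.Components.isPGroup_pCore p) hVK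
  haveI := Cfsg.Lib.Components.pCore_normal' (G := K) p
  have hc : Commute (⟨a, hAK ha⟩ : K) ⟨u, huK⟩ :=
    commute_of_normal_of_disjoint _ _ inferInstance inferInstance hdis _ _ (hle ha) huV
  have hau : a * u = u * a := congrArg Subtype.val hc.eq
  have hpow : ∀ n : ℕ, a ^ n * g * (a ^ n)⁻¹ = u ^ n * g := by
    intro n
    induction n with
    | zero => simp
    | succ n ih =>
      calc a ^ (n + 1) * g * (a ^ (n + 1))⁻¹ = a * (a ^ n * g * (a ^ n)⁻¹) * a⁻¹ := by rw [pow_succ']; group
        _ = (a * u ^ n) * g * a⁻¹ := by rw [ih]; group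
        _ = u ^ n * a * g * a⁻¹ := by rw [(Commute.pow_right (hau : Commute a u) n).eq]
        _ = u ^ (n + 1) * g := by rw [pow_succ]; simp [hu, mul_assoc]
  obtain ⟨e, he⟩ := IsPGroup.iff_orderOf.1 hA ⟨a, ha⟩
  rw [Subgroup.orderOf_mk] at he
  have h1 := hpow (p ^ e)
  rw [← he, pow_orderOf_eq_one, one_mul, inv_one, mul_one, he] at h1
  have h2 : u ^ p ^ e = 1 := by
    have := congrArg (· * g⁻¹) h1
    simpa using this.symm
  obtain ⟨f, hf⟩ := IsPGroup.iff_orderOf.1 hV ⟨u, huV⟩
  rw [Subgroup.orderOf_mk] at hf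
  have h3 : u = 1 := by
    rw [← orderOf_eq_one_iff]
    refine Nat.dvd_one.1 ?_
    have hco : (q ^ f).Coprime (p ^ e) :=
      ((Nat.coprime_primes Fact.out Fact.out).2 (Ne.symm hpq)).pow _ _
    rw [← Nat.coprime_iff_gcd_eq_one.1 hco]
    exact Nat.dvd_gcd hf.dvd (orderOf_dvd_of_pow_eq_one h2)
  rw [hu, mul_inv_eq_one, mul_inv_eq_iff_eq_mul] at h3
  exact h3

open Subgroup in
theorem aux (p : ℕ) [Fact p.Prime] (hp : p ≠ 2) : ∀ (n : ℕ) (G : Type v) [Group G] [Finite G], Nat.card G ≤ n →
    Group.IsSolvable G → ∀ A : Subgroup G, IsPGroup p A →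
    (∀ c : G, ∃ g : G, IsConj c g ∧ (A.subgroupOf (A ⊔ MulAut.conj g • A)).IsSubnormal) →
    A ≤ Cfsg.pCore p G := by
  intro n
  induction n with
  | zero => intro G _ _ h; have : 0 < Nat.card G := Nat.card_pos; omega
  | succ n ih =>
    intro G _ _ hcard hG A hA h
    rcases subsingleton_or_nontrivial G with hss | hnt
    · intro a _; rw [Subsingleton.elim a 1]; exact one_mem _
    have hstep : ∀ N : Subgroup G, [N.Normal] → N ≠ ⊥ →
        A ≤ (Cfsg.pCore p (G ⧸ N)).comap (QuotientGroup.mk' N) := by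
      intro N _ hN
      rw [← map_le_iff_le_comap]
      have hlt := Cfsg.Lib.Coprime.card_quotient_lt hN
      refine ih (G ⧸ N) (by omega) inferInstance _ (hA.map _) fun c => ?_
      obtain ⟨c, rfl⟩ := QuotientGroup.mk'_surjective N c
      obtain ⟨g, hcg, hg⟩ := h c
      refine ⟨QuotientGroup.mk' N g, (QuotientGroup.mk' N).map_isConj hcg, ?_⟩
      set f := QuotientGroup.mk' N
      set K := A ⊔ MulAut.conj g • A with hK
      have hKmap : K.map f = A.map f ⊔ MulAut.conj (f g) • A.map f := by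
        rw [hK, Subgroup.map_sup]
        congr 1
        ext x
        constructor
        · rintro ⟨y, hy, rfl⟩
          obtain ⟨a, ha, rfl⟩ := hy
          exact ⟨f a, mem_map_of_mem f ha, by simp⟩
        · rintro ⟨_, ⟨a, ha, rfl⟩, rfl⟩
          exact ⟨MulAut.conj g • a, smul_mem_pointwise_smul _ _ _ ha, by simp⟩
      rw [← hKmap]
      have h1 := hg.map (f := f.subgroupMap K) (f.subgroupMap_surjective K)
      have h2 : (A.subgroupOf K).map (f.subgroupMap K) = (A.map f).subgroupOf (K.map f) := by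
        ext ⟨x, hx⟩
        constructor
        · rintro ⟨⟨y, hy⟩, hyA, he⟩
          exact ⟨y, hyA, congrArg Subtype.val he⟩
        · rintro ⟨y, hyA, he⟩
          exact ⟨⟨y, (le_sup_left : A ≤ K) hyA⟩, hyA, Subtype.ext he⟩
      rwa [h2] at h1
    by_cases hO : Cfsg.pCore p G = ⊥
    swap
    · haveI := Cfsg.Lib.Components.pCore_normal' (G := G) p
      refine (hstep _ hO).trans ?_
      haveI := Cfsg.Lib.Components.pCore_normal' (G := G ⧸ Cfsg.pCore p G) p
      refine Cfsg.Lib.Components.le_pCore (IsPGroup.comap_of_ker_isPGroup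
        (Cfsg.Lib.Components.isPGroup_pCore p) _ ?_)
      rw [QuotientGroup.ker_mk']
      exact Cfsg.Lib.Components.isPGroup_pCore p
    -- a minimal normal subgroup
    obtain ⟨V, -, hVn, hVne, hVmin⟩ := Cfsg.Lib.Coprime.exists_minimal_normal
      (inferInstance : (⊤ : Subgroup G).Normal) (fun e => (bot_ne_top (α := Subgroup G)) e.symm)
    haveI := hVn
    obtain ⟨hVc, q, hq, hVq, -⟩ := Cfsg.Lib.Coprime.minimal_normal_solvable (inferInstance : Group.IsSolvable V) hVne hVmin
    haveI := Fact.mk hq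
    have hpq : p ≠ q := fun e => by
      subst e
      exact hVne (le_bot_iff.1 (hO ▸ Cfsg.Lib.Components.le_pCore hVq))
    haveI := Cfsg.Lib.Components.pCore_normal' (G := G ⧸ V) p
    set W : Subgroup G := (Cfsg.pCore p (G ⧸ V)).comap (QuotientGroup.mk' V) with hW
    have hAW : A ≤ W := hstep V hVne
    haveI hWn : W.Normal := inferInstance
    obtain ⟨P', hP'⟩ := (hA.of_equiv (subgroupOfEquivOfLe hAW).symm).exists_le_sylow
    set P : Subgroup G := (P' : Subgroup W).map W.subtype with hP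
    have hPW : P ≤ W := map_subtype_le _
    have hPp : IsPGroup p P := P'.2.map _
    have hAP : A ≤ P := fun a ha => ⟨⟨a, hAW ha⟩, hP' ha, rfl⟩
    set N := normalizer (P : Set G) with hN
    have hPN : P ≤ N := le_normalizer
    have hVW : V ≤ W := fun x hx => by
      show QuotientGroup.mk' V x ∈ Cfsg.pCore p (G ⧸ V)
      rw [show QuotientGroup.mk' V x = 1 from (QuotientGroup.eq_one_iff x).2 hx]
      exact one_mem _
    have hWVP : W ≤ V ⊔ P := by
      have hle : (P' : Subgroup W) ⊔ V.subgroupOf W = ⊤ := by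
        rw [← Subgroup.index_eq_one]
        have h1 : ((P' : Subgroup W) ⊔ V.subgroupOf W).index ∣ (P' : Subgroup W).index := index_dvd_of_le le_sup_left
        have h2 : ((P' : Subgroup W) ⊔ V.subgroupOf W).index ∣ (V.subgroupOf W).index := index_dvd_of_le le_sup_right
        have h3 : (V.subgroupOf W).index ∣ Nat.card (Cfsg.pCore p (G ⧸ V)) := by
          let f : W →* Cfsg.pCore p (G ⧸ V) :=
            ((QuotientGroup.mk' V).comp W.subtype).codRestrict _ fun x => x.2
          have hk : f.ker = V.subgroupOf W := by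
            ext x
            exact ⟨fun hx => (QuotientGroup.eq_one_iff (x : G)).1 (congrArg Subtype.val hx),
              fun hx => Subtype.ext ((QuotientGroup.eq_one_iff (x : G)).2 hx)⟩
          rw [← hk, Subgroup.index_ker]
          exact f.range.card_subgroup_dvd_card
        obtain ⟨i, hi⟩ := IsPGroup.iff_card.1 (Cfsg.Lib.Components.isPGroup_pCore (G := G ⧸ V) p)
        rw [hi] at h3
        obtain ⟨j, -, hj⟩ := (Nat.dvd_prime_pow (Fact.out : p.Prime)).1 (h2.trans h3)
        rcases j with _ | j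
        · rw [hj, pow_zero]
        · exfalso
          refine P'.not_dvd_index ((dvd_pow_self p j.succ_ne_zero).trans (hj ▸ h1))
      intro x hx
      have := hle.ge (mem_top (⟨x, hx⟩ : W))
      have h4 := mem_map_of_mem W.subtype this
      rw [Subgroup.map_sup] at h4
      exact (sup_le le_sup_right (le_trans (by rintro _ ⟨y, hy, rfl⟩; exact hy) le_sup_left) :
        (P' : Subgroup W).map W.subtype ⊔ (V.subgroupOf W).map W.subtype ≤ V ⊔ P) h4
    have hfrat : ∀ x : G, ∃ u ∈ V, ∃ m ∈ N, x = u * m := by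
      intro x
      have h1 : N ⊔ W = ⊤ := Sylow.normalizer_sup_eq_top P'
      have h2 : V ⊔ N = ⊤ := top_le_iff.1 (h1 ▸ sup_le le_sup_right
        (hWVP.trans (sup_le le_sup_left (hPN.trans le_sup_right))))
      have h3 : x ∈ ((V ⊔ N : Subgroup G) : Set G) := by rw [h2]; trivial
      rw [normal_mul] at h3
      obtain ⟨u, hu, m, hm, he⟩ := h3
      exact ⟨u, hu, m, hm, he.symm⟩
    -- the action on `V`
    letI : CommGroup V := { (inferInstance : Group V) with mul_comm := mul_comm' }
    let φ : G →* MulAut V := MulAut.conjNormal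
    have hAker : ∀ a ∈ A, φ a = 1 := by
      intro a ha
      by_contra hne
      obtain ⟨v, hv⟩ := Cfsg.Lib.CoprimeAvoid.avoid_aux p hp _ V le_rfl (N.map φ) (P.map φ) (φ a)
        { le := Subgroup.map_mono hPN
          norm := by
            rintro _ ⟨h', hh', rfl⟩ _ ⟨x, hx, rfl⟩
            refine ⟨h' * x * h'⁻¹, (mem_normalizer_iff.1 hh' x).1 hx, by simp⟩
          pgroup := hPp.map φ
          cop := fun hd => by
            obtain ⟨i, hi⟩ := IsPGroup.iff_card.1 hVq
            rw [hi] at hd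
            exact hpq ((Nat.prime_dvd_prime_iff_eq Fact.out hq).1 ((Fact.out : p.Prime).dvd_of_dvd_pow hd))
          mem := mem_map_of_mem φ (hAP ha) } hne
      obtain ⟨g, hcg, hg⟩ := h (v : G)
      obtain ⟨x, rfl⟩ := isConj_iff.1 hcg
      have hgV : x * (v : G) * x⁻¹ ∈ V := hVn.conj_mem _ v.2 x
      have hc := commute_of_subnormal hpq A V hA hVq _ hgV hg a ha
      obtain ⟨u, hu, m, hm, rfl⟩ := hfrat x
      have hmv : m * (v : G) * m⁻¹ ∈ V := hVn.conj_mem _ v.2 m
      have he : u * m * (v : G) * (u * m)⁻¹ = m * (v : G) * m⁻¹ := by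
        have := congrArg Subtype.val (mul_comm (⟨u, hu⟩ : V) ⟨_, hmv⟩)
        simp only [Subgroup.coe_mul] at this
        rw [show u * m * (v : G) * (u * m)⁻¹ = u * (m * (v : G) * m⁻¹) * u⁻¹ by group, this, mul_inv_cancel_right]
      rw [he] at hc
      refine hv (φ m⁻¹) (mem_map_of_mem φ (inv_mem hm)) (Subtype.ext ?_)
      simp only [← map_inv, ← map_mul]
      show m⁻¹ * a * (m⁻¹)⁻¹ * (v : G) * (m⁻¹ * a * (m⁻¹)⁻¹)⁻¹ = v
      calc m⁻¹ * a * (m⁻¹)⁻¹ * (v : G) * (m⁻¹ * a * (m⁻¹)⁻¹)⁻¹
          = m⁻¹ * (a * (m * (v : G) * m⁻¹)) * a⁻¹ * m := by group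
        _ = v := by rw [hc.eq]; group
    -- the centralizer of `V` in `P` is a normal `p`-subgroup
    have hP0 : P ⊓ φ.ker = ⊥ := by
      have hn : (P ⊓ φ.ker).Normal := ⟨fun y hy x => by
        refine ⟨?_, (MonoidHom.normal_ker φ).conj_mem y hy.2 x⟩
        obtain ⟨u, hu, m, hm, rfl⟩ := hfrat x
        have h1 : m * y * m⁻¹ ∈ P := (mem_normalizer_iff.1 hm y).1 hy.1
        have h2 : φ (m * y * m⁻¹) = 1 := (MonoidHom.normal_ker φ).conj_mem y hy.2 m
        have h3 : (m * y * m⁻¹) * u * (m * y * m⁻¹)⁻¹ = u := by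
          have := congrArg (fun f : MulAut V => ((f ⟨u, hu⟩ : V) : G)) h2
          simpa [φ, mul_assoc] using this
        rw [mul_inv_eq_iff_eq_mul] at h3
        rwa [show u * m * y * (u * m)⁻¹ = u * (m * y * m⁻¹) * u⁻¹ by group, ← h3, mul_inv_cancel_right]⟩
      exact le_bot_iff.1 (hO ▸ Cfsg.Lib.Components.le_pCore (hPp.to_le inf_le_left))
    intro a ha
    have : a ∈ P ⊓ φ.ker := ⟨hAP ha, hAker a ha⟩
    rw [hP0, mem_bot] at this
    rw [this]
    exact one_mem _


/-- Let G be a finite solvable group, p an odd prime and A a p-subgroup of G such that every conjugacy class of G contains an element g for which A is subnormal in the subgroup generated by A and its conjugate by g. Then A is contained in O_p(G). (The hypothesis that p is odd is needed.) -/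
theorem result {G : Type*} [Group G] [Finite G]
    (hG : Group.IsSolvable G) (p : ℕ) [Fact p.Prime] (hp : p ≠ 2) (A : Subgroup G) (hA : IsPGroup p A)
    (h : ∀ c : G, ∃ g : G, IsConj c g ∧ (A.subgroupOf (A ⊔ MulAut.conj g • A)).IsSubnormal) :
    A ≤ Cfsg.pCore p G := by
  exact aux p hp _ G le_rfl hG A hA h

end Cfsg.Agent.S4330
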