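import Cfsg.Statements.S4337
import Cfsg.Agent.PermGen.Transpositions

set_option autoImplicit false
open Cfsg

namespace Cfsg.Agent.S4337

/-- In a finite symmetric group, any three transpositions generate a solvable subgroup. -/
theorem result (n : ℕ) (a b c : Equiv.Perm (Fin n))
    (ha : a.IsSwap) (hb : b.IsSwap) (hc : c.IsSwap) :
    Group.IsSolvable (Subgroup.closure ({a, b, c} : Set (Equiv.Perm (Fin n)))) := by
  classical
  set G := Subgroup.closure ({a, b, c} : Set (Equiv.Perm (Fin n)))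
  let t : Fin 3 → Equiv.Perm (Fin n) := ![a, b, c]
  have hrange : Set.range t = {a, b, c} := by
    ext x
    simp [t, Matrix.range_cons, Matrix.range_empty]
    tauto
  obtain ⟨f, hf, hcard⟩ := Cfsg.Lib.PermGen.exists_labelling t (by intro i; fin_cases i <;> simpa [t])
  rw [hrange] at hf
  refine (Group.isSolvable_def G).2 ⟨3, ?_⟩
  rw [Subgroup.eq_bot_iff_forall]
  intro σ hσ
  refine Subtype.ext (Equiv.ext fun x => ?_)
  let ψ : G →* Equiv.Perm {z // f z = f x} :=
    MonoidHom.mk' (fun τ => (τ : Equiv.Perm (Fin n)).subtypePerm fun z => by rw [hf _ τ.2])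
      fun τ τ' => by ext z; rfl
  have h1 : ψ σ ∈ derivedSeries (Equiv.Perm {z // f z = f x}) 3 :=
    map_derivedSeries_le_derivedSeries ψ 3 ⟨σ, hσ, rfl⟩
  rw [Cfsg.Lib.PermGen.derivedSeries_perm_of_card_le (by
    rw [Fintype.card_subtype]
    exact Cfsg.Lib.PermGen.card_fibre_le f hcard (f x)), Subgroup.mem_bot] at h1
  exact congrArg Subtype.val (Equiv.congr_fun h1 ⟨x, rfl⟩)

end Cfsg.Agent.S4337
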