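import Cfsg.Statements.S4342
import Cfsg.Agent.SolvStruct.SylowNumber
import Cfsg.Agent.SolvStruct.SylowFifteen

set_option autoImplicit false
open Cfsg

namespace Cfsg.Agent.S4342

/-- Let H be a normal subgroup of a finite group G and p a prime not dividing the index of H. Then the number of Sylow p-subgroups of H/Z(H) equals the number of Sylow p-subgroups of G. -/
theorem result {G : Type*} [Group G] [Finite G]
    (p : ℕ) [Fact p.Prime] (H : Subgroup G) [H.Normal] (hp : ¬ p ∣ H.index) :
    Nat.card (Sylow p (H ⧸ Subgroup.center H)) = Nat.card (Sylow p G) := by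
  obtain ⟨P⟩ : Nonempty (Sylow p G) := inferInstance
  have hPH : (P : Subgroup G) ≤ H := by
    rw [← Subgroup.relIndex_eq_one]
    obtain ⟨m, hm⟩ := IsPGroup.iff_card.1 P.2
    refine Nat.eq_one_of_dvd_coprimes (Nat.Coprime.pow_left m ((Fact.out : p.Prime).coprime_iff_not_dvd.2 hp))
      (hm ▸ Subgroup.relIndex_dvd_card H (P : Subgroup G)) (Subgroup.relIndex_dvd_index_of_normal (H := H) (K := (P : Subgroup G)))
  rw [Cfsg.Lib.SolvStruct.card_sylow_quotient (Subgroup.center H) (fun Q =>
    le_trans (Subgroup.center_le_centralizer _) (Subgroup.centralizer_le_normalizer _))]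
  have h := Cfsg.Lib.SolvStruct.SylowNumber.relIndex_normalizer_sup P H
  rw [sup_eq_right.2 hPH] at h
  rw [Cfsg.Lib.SolvStruct.SylowNumber.card_sylow_of_le P hPH, ← h,
    Cfsg.Lib.SolvStruct.SylowNumber.card_sylow_of_surjective P (QuotientGroup.mk'_surjective H),
    QuotientGroup.ker_mk', sup_eq_right.2 hPH, Subgroup.normalizer_eq_top (H := H), Subgroup.index_top, mul_one]

end Cfsg.Agent.S4342
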