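import Cfsg.Statements.S4344
import Cfsg.Agent.Coprime.Sylow

set_option autoImplicit false
open Cfsg

namespace Cfsg.Agent.S4344

/-- Let S be a finite non-abelian simple group, M a maximal subgroup of S and C a cyclic normal subgroup of M. If a Sylow p-subgroup P of S (for a prime p dividing the order of S) is contained in C, then the number of Sylow p-subgroups of S equals the index of M. -/
theorem result {S : Type*} [Group S] [Finite S]
    [IsSimpleGroup S] (hS : ¬ IsMulCommutative S) (p : ℕ) [Fact p.Prime] (hp : p ∣ Nat.card S)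
    (M : Subgroup S) (hM : IsCoatom M) (C : Subgroup S) (hCM : C ≤ M) (hCn : (C.subgroupOf M).Normal)
    (hC : IsCyclic C) (P : Sylow p S) (hP : (P : Subgroup S) ≤ C) :
    Nat.card (Sylow p S) = M.index := by
  have hPn : ¬ (P : Subgroup S).Normal := by
    intro hPn
    rcases hPn.eq_bot_or_eq_top with h | h
    · have := Sylow.dvd_card_of_dvd_card P hp
      rw [h, Subgroup.card_bot, Nat.dvd_one] at this
      exact (Fact.out : p.Prime).ne_one this
    · haveI := hC
      haveI : IsMulCommutative C := IsCyclic.isMulCommutative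
      exact hS ⟨⟨fun a b => congrArg Subtype.val
        (mul_comm' (⟨a, hP (h.ge (Subgroup.mem_top a))⟩ : C) ⟨b, hP (h.ge (Subgroup.mem_top b))⟩)⟩⟩
  have hle : M ≤ Subgroup.normalizer ((P : Subgroup S) : Set S) := by
    intro m hm
    haveI := hC
    haveI : IsMulCommutative C := IsCyclic.isMulCommutative
    have hmC : m ∈ Subgroup.normalizer (C : Set S) := (Subgroup.normal_subgroupOf_iff_le_normalizer hCM).1 hCn hm
    have hle : Cfsg.Lib.Coprime.conjMap m (P : Subgroup S) ≤ C := by
      have := Cfsg.Lib.Coprime.conjMap_mono (g := m) hP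
      rwa [Cfsg.Lib.Coprime.conjMap_eq_self hmC] at this
    rw [← Cfsg.Lib.Coprime.conjMap_eq_self_iff]
    -- `C` is abelian, so `P` is its only Sylow subgroup
    haveI : ((P.subtype hP : Sylow p C) : Subgroup C).Normal :=
      Subgroup.normal_of_isMulCommutative _
    letI := Sylow.unique_of_normal (P.subtype hP) this
    let Q : Sylow p C := Sylow.ofCard ((Cfsg.Lib.Coprime.conjMap m (P : Subgroup S)).subgroupOf C) (by
      rw [Nat.card_congr (Subgroup.subgroupOfEquivOfLe hle).toEquiv, Cfsg.Lib.Coprime.card_conjMap,
        ← Nat.card_congr (Subgroup.subgroupOfEquivOfLe hP).toEquiv]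
      exact (P.subtype hP).card_eq_multiplicity)
    have hQ : Q = P.subtype hP := Subsingleton.elim _ _
    have := congrArg (fun R : Sylow p C => (R : Subgroup C).map C.subtype) hQ
    calc Cfsg.Lib.Coprime.conjMap m (P : Subgroup S) = (Q : Subgroup C).map C.subtype :=
          (Subgroup.map_subgroupOf_eq_of_le hle).symm
      _ = ((P.subtype hP : Sylow p C) : Subgroup C).map C.subtype := this
      _ = _ := by rw [Sylow.coe_subtype, Subgroup.map_subgroupOf_eq_of_le hP]
  have hne : Subgroup.normalizer ((P : Subgroup S) : Set S) ≠ ⊤ := fun h => hPn (Subgroup.normalizer_eq_top_iff.1 h)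
  have hMN : M = Subgroup.normalizer ((P : Subgroup S) : Set S) := by
    rcases eq_or_lt_of_le hle with h | h
    · exact h
    · exact absurd (hM.2 _ h) hne
  rw [hMN]; exact Sylow.card_eq_index_normalizer P

end Cfsg.Agent.S4344
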