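import Cfsg.Statements.S4347
import Cfsg.Agent.SolvStruct.Basics

set_option autoImplicit false
open Cfsg
open scoped Pointwise

namespace Cfsg.Agent.S4347

/-- Let G be a finite group and p a prime. Say a Sylow p-subgroup Q is redundant when every element of p-power order lies in some Sylow p-subgroup other than Q. Then G has no redundant Sylow p-subgroup if and only if some element of p-power order lies in exactly one Sylow p-subgroup. -/
theorem result {G : Type*} [Group G] [Finite G]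
    (p : ℕ) [Fact p.Prime] :
    (¬ ∃ Q : Sylow p G, ∀ x : G, (∃ k : ℕ, orderOf x = p ^ k) → ∃ P : Sylow p G, P ≠ Q ∧ x ∈ P) ↔
      ∃ x : G, (∃ k : ℕ, orderOf x = p ^ k) ∧ ∃! P : Sylow p G, x ∈ P := by
  constructor
  · intro h
    push Not at h
    obtain ⟨Q⟩ : Nonempty (Sylow p G) := inferInstance
    obtain ⟨x, ⟨k, hk⟩, hx⟩ := h Q
    obtain ⟨R, hR⟩ := (IsPGroup.of_card (p := p) ((Nat.card_zpowers x).trans hk)).exists_le_sylow
    refine ⟨x, ⟨k, hk⟩, R, hR (Subgroup.mem_zpowers x), fun S hS => ?_⟩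
    rw [show S = Q from by_contra fun hne => hx S hne hS,
      show R = Q from by_contra fun hne => hx R hne (hR (Subgroup.mem_zpowers x))]
  · rintro ⟨x, ⟨k, hk⟩, R, hxR, huniq⟩ ⟨Q, hQ⟩
    obtain ⟨g, hg⟩ := MulAction.exists_smul_eq G R Q
    have hmem : ∀ (S : Sylow p G), g * x * g⁻¹ ∈ S ↔ x ∈ g⁻¹ • S := by
      intro S
      show g * x * g⁻¹ ∈ (S : Subgroup G) ↔ x ∈ ((g⁻¹ • S : Sylow p G) : Subgroup G)
      rw [Sylow.coe_subgroup_smul, Subgroup.mem_pointwise_smul_iff_inv_smul_mem, MulAut.smul_def]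
      simp [mul_assoc]
    obtain ⟨S, hne, hS⟩ := hQ (g * x * g⁻¹)
      ⟨k, by rw [← MulAut.conj_apply, MulEquiv.orderOf_eq]; exact hk⟩
    have h1 := huniq _ ((hmem S).1 hS)
    exact hne (by rw [← hg, ← h1, smul_inv_smul])

end Cfsg.Agent.S4347
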