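import Cfsg.Statements.S4359
import Cfsg.Agent.ShiftChain

set_option autoImplicit false
open Pointwise
open Cfsg

namespace Cfsg.Agent.S4359

/-- Let P be a subgroup of a finite group G and g an element such that P ∩ g⁻¹Pg is a normal subgroup of prime index p in g⁻¹Pg. Let n ≥ 1 and let K be the subgroup generated by P and its conjugates g⁻ⁱPgⁱ for i ≤ n. Suppose that g normalizes no non-identity normal subgroup of P and that P meets the center of K trivially. Then the order of P is pᵗ for some t with 1 ≤ t ≤ 3n and t ≠ 3n - 1. -/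
theorem result {G : Type*} [Group G] [Finite G]
    (P : Subgroup G) (g : G) (p : ℕ) (hp : p.Prime)
    (hN : ((P ⊓ MulAut.conj g⁻¹ • P).subgroupOf (MulAut.conj g⁻¹ • P)).Normal)
    (hidx : (P ⊓ MulAut.conj g⁻¹ • P).relIndex (MulAut.conj g⁻¹ • P) = p)
    (n : ℕ) (hn : 1 ≤ n) (K : Subgroup G) (hK : K = ⨆ i ∈ Finset.range (n + 1), MulAut.conj (g ^ i)⁻¹ • P)
    (h1 : ∀ Q : Subgroup G, Q ≤ P → (Q.subgroupOf P).Normal → MulAut.conj g • Q = Q → Q = ⊥)
    (h2 : P ⊓ (Subgroup.center K).map K.subtype = ⊥) :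
    ∃ t : ℕ, Nat.card P = p ^ t ∧ 1 ≤ t ∧ t ≤ 3 * n ∧ t ≠ 3 * n - 1 := by
  refine Cfsg.Agent.ShiftChain.order_bound P (MulAut.conj g⁻¹) p n hp hn hN hidx ?_ ?_
  · intro Q hQP hQn hQ
    refine h1 Q hQP hQn ?_
    have hQ' : MulAut.conj g⁻¹ • Q = Q := hQ
    calc MulAut.conj g • Q = MulAut.conj g • (MulAut.conj g⁻¹ • Q) := by rw [hQ']
      _ = Q := by rw [smul_smul, ← map_mul, mul_inv_cancel, map_one, one_smul]
  · intro z hz hcom
    have hgen : ∀ k ∈ K, Commute z k := by
      have hle : K ≤ Subgroup.centralizer ({z} : Set G) := by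
        rw [hK]
        refine iSup_le fun i => iSup_le fun hi => ?_
        rintro k ⟨x, hx, rfl⟩
        rw [Subgroup.mem_centralizer_singleton_iff]
        have := hcom i (by simpa [Nat.lt_succ_iff] using hi) x hx
        rw [← map_pow, inv_pow] at this
        exact this.symm
      exact fun k hk => (Subgroup.mem_centralizer_singleton_iff.1 (hle hk)).symm
    have hzK : z ∈ K := by
      rw [hK]
      refine Subgroup.mem_iSup_of_mem 0 (Subgroup.mem_iSup_of_mem (by simp) ?_)
      rw [pow_zero, inv_one, map_one, one_smul]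
      exact hz
    have : z ∈ P ⊓ (Subgroup.center K).map K.subtype :=
      Subgroup.mem_inf.2 ⟨hz, ⟨⟨z, hzK⟩, Subgroup.mem_center_iff.2 fun k => Subtype.ext (hgen k k.2).eq.symm, rfl⟩⟩
    rw [h2] at this
    exact Subgroup.mem_bot.1 this

end Cfsg.Agent.S4359
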