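import Cfsg.Statements.S4369
import Cfsg.Agent.MinNonCA.Forward
import Cfsg.Agent.MinNonCA.Converse

set_option autoImplicit false
open Cfsg

namespace Cfsg.Agent.S4369

/-- Call a group a CA-group when the centralizer of every non-central element is abelian. A finite group G is non-solvable, is not a CA-group, and has all its proper subgroups CA-groups, if and only if G is isomorphic to PSL(2, q) where q > 5 is a prime with 16 not dividing q² - 1, or q = 3ᵖ or q = 5ᵖ for an odd prime p. -/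
theorem result {G : Type*} [Group G] [Finite G] :
    (¬ Group.IsSolvable G ∧ ¬ (∀ x : G, x ∉ Subgroup.center G → IsMulCommutative (Subgroup.centralizer ({x} : Set G))) ∧ ∀ H : Subgroup G, H ≠ ⊤ → (∀ x : H, x ∉ Subgroup.center H → IsMulCommutative (Subgroup.centralizer ({x} : Set H)))) ↔
      ∃ (F : Type) (_ : Field F) (_ : Fintype F), Nonempty (G ≃* Matrix.ProjectiveSpecialLinearGroup (Fin 2) F) ∧
        (((Fintype.card F).Prime ∧ 5 < Fintype.card F ∧ ¬ 16 ∣ Fintype.card F ^ 2 - 1) ∨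
         (∃ p : ℕ, p.Prime ∧ p ≠ 2 ∧ (Fintype.card F = 3 ^ p ∨ Fintype.card F = 5 ^ p))) := by
  constructor
  · rintro ⟨hns, hnca, hsub⟩
    refine Cfsg.Lib.MinNonCA.Hyp.forward ⟨hns, fun H hH x hx a ha b hb hax hbx hab g hg => ?_, fun hca => hnca ?_⟩
    · by_contra hgx
      have hxc : (⟨x, hx⟩ : H) ∉ Subgroup.center H := fun hc =>
        hgx (congrArg Subtype.val (Subgroup.mem_center_iff.1 hc ⟨g, hg⟩))
      exact hab (congrArg Subtype.val (congrArg Subtype.val
        ((hsub H hH ⟨x, hx⟩ hxc).is_comm.comm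
          ⟨⟨a, ha⟩, Subgroup.mem_centralizer_singleton_iff.2 (Subtype.ext hax.eq)⟩
          ⟨⟨b, hb⟩, Subgroup.mem_centralizer_singleton_iff.2 (Subtype.ext hbx.eq)⟩)))
    · exact fun x hx => ⟨⟨fun a b => Subtype.ext (hca x hx a.1 b.1 (Subgroup.mem_centralizer_singleton_iff.1 a.2)
        (Subgroup.mem_centralizer_singleton_iff.1 b.2)).eq⟩⟩
  · rintro ⟨F, _, _, ⟨e⟩, hq⟩
    obtain ⟨h1, h2, h3⟩ := Cfsg.Lib.MinNonCA.converse e hq
    refine ⟨h1, fun hc => h2 fun x hx a b ha hb => ?_, fun H hH x hx => ⟨⟨fun a b => Subtype.ext ?_⟩⟩⟩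
    · exact congrArg Subtype.val ((hc x hx).is_comm.comm ⟨a, Subgroup.mem_centralizer_singleton_iff.2 ha⟩
        ⟨b, Subgroup.mem_centralizer_singleton_iff.2 hb⟩)
    · exact (h3 H hH x hx a.1 b.1 (Subgroup.mem_centralizer_singleton_iff.1 a.2)
        (Subgroup.mem_centralizer_singleton_iff.1 b.2)).eq

end Cfsg.Agent.S4369
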