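import Cfsg.Statements.S4371
import Cfsg.Agent.CITExt.TwoS.Reduction

set_option autoImplicit false
open Cfsg

namespace Cfsg.Agent.S4371

/-- Let G be a finite non-solvable group in which no prime divides three pairwise distinct element orders. Then one of the following holds, where 'a product of at most two primes' always counts primes with multiplicity: the quotient of G by its largest normal 2-subgroup is isomorphic to PSL(2, q) with q = 2ᶠ ≥ 4 and each of q + 1, q - 1 a product of at most two primes; G is isomorphic to PSL(2, q) with q > 5, q ≡ 3 or 5 (mod 8) and each of (q + 1)/2, (q - 1)/2 a product of at most two primes; G is isomorphic to PSL(2, 7), PSL(2, 9) or PSL(3, 4); or G is simple of order q²(q² + 1)(q - 1), the order of the Suzuki group Sz(q), where q = 2²ⁿ⁺¹ ≥ 8, and each of q - 1, q - r + 1, q + r + 1 (r = 2ⁿ⁺¹) is a product of at most two primes. -/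
theorem result {G : Type*} [Group G] [Finite G]
    (hG : ¬ Group.IsSolvable G) (h3 : (∀ p : ℕ, p.Prime → ∀ a b c : G, orderOf a ≠ orderOf b → orderOf b ≠ orderOf c → orderOf a ≠ orderOf c → ¬ (p ∣ orderOf a ∧ p ∣ orderOf b ∧ p ∣ orderOf c))) :
    (∃ (F : Type) (_ : Field F) (_ : Fintype F), CharP F 2 ∧ 4 ≤ Fintype.card F ∧
        (Fintype.card F + 1).primeFactorsList.length ≤ 2 ∧ (Fintype.card F - 1).primeFactorsList.length ≤ 2 ∧
        Nonempty (G ⧸ Cfsg.pCore 2 G ≃* Matrix.ProjectiveSpecialLinearGroup (Fin 2) F)) ∨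
    (∃ (F : Type) (_ : Field F) (_ : Fintype F), 5 < Fintype.card F ∧ (Fintype.card F % 8 = 3 ∨ Fintype.card F % 8 = 5) ∧
        ((Fintype.card F + 1) / 2).primeFactorsList.length ≤ 2 ∧ ((Fintype.card F - 1) / 2).primeFactorsList.length ≤ 2 ∧
        Nonempty (G ≃* Matrix.ProjectiveSpecialLinearGroup (Fin 2) F)) ∨
    (∃ (F : Type) (_ : Field F) (_ : Fintype F), (Fintype.card F = 7 ∨ Fintype.card F = 9) ∧
        Nonempty (G ≃* Matrix.ProjectiveSpecialLinearGroup (Fin 2) F)) ∨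
    (∃ (F : Type) (_ : Field F) (_ : Fintype F), Fintype.card F = 4 ∧ Nonempty (G ≃* Matrix.ProjectiveSpecialLinearGroup (Fin 3) F)) ∨
    (∃ n : ℕ, 1 ≤ n ∧ IsSimpleGroup G ∧ Nat.card G = (2 ^ (2 * n + 1)) ^ 2 * ((2 ^ (2 * n + 1)) ^ 2 + 1) * (2 ^ (2 * n + 1) - 1) ∧
        (2 ^ (2 * n + 1) - 1).primeFactorsList.length ≤ 2 ∧ (2 ^ (2 * n + 1) - 2 ^ (n + 1) + 1).primeFactorsList.length ≤ 2 ∧
        (2 ^ (2 * n + 1) + 2 ^ (n + 1) + 1).primeFactorsList.length ≤ 2) := by
  classical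
  have hT : Cfsg.Lib.CITExt.Three G := h3
  by_cases hcase : ∀ g : G, 2 ∣ orderOf g → Cfsg.Lib.CITGroups.Two g
  · have hcit : Cfsg.Lib.CITGroups.CIT G := by
      intro t ht
      rw [IsPGroup.iff_orderOf]
      rintro ⟨x, hx⟩
      rw [Subgroup.orderOf_mk]
      rcases Nat.eq_two_pow_or_exists_odd_prime_and_dvd (orderOf x) with ⟨k, hk⟩ | ⟨r, hr, hrd, hro⟩
      · exact ⟨k, hk⟩
      exfalso
      have hr2 : r ≠ 2 := fun e => by rw [e] at hro; exact absurd hro (by decide)
      have hc : Commute (x ^ (orderOf x / r)) t :=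
        (show Commute x t from Subgroup.mem_centralizer_singleton_iff.1 hx).pow_left _
      have hyo : orderOf (x ^ (orderOf x / r)) = r := orderOf_pow_orderOf_div (orderOf_pos x).ne' hrd
      have ho := hc.orderOf_mul_eq_mul_orderOf_of_coprime (by
        rw [hyo, ht]; exact (Nat.coprime_primes hr Nat.prime_two).2 hr2)
      rw [hyo, ht] at ho
      obtain ⟨k, hk⟩ := hcase _ (ho ▸ dvd_mul_left 2 r)
      exact hr2 ((Nat.prime_dvd_prime_iff_eq hr Nat.prime_two).1
        (hr.dvd_of_dvd_pow (hk ▸ ho ▸ dvd_mul_right r 2 : r ∣ 2 ^ k)))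
    rcases Cfsg.Lib.CITExt.three_orders_cit hG hcit hT with h | h | h | h
    · exact Or.inl h
    · exact Or.inr (Or.inr (Or.inl h))
    · exact Or.inr (Or.inr (Or.inr (Or.inl h)))
    · exact Or.inr (Or.inr (Or.inr (Or.inr h)))
  push Not at hcase
  obtain ⟨g, hg2, hgT⟩ := hcase
  obtain ⟨s, hs, hsd, hso⟩ : ∃ s : ℕ, s.Prime ∧ s ∣ orderOf g ∧ Odd s := by
    rcases Nat.eq_two_pow_or_exists_odd_prime_and_dvd (orderOf g) with ⟨k, hk⟩ | h
    · exact absurd ⟨k, hk⟩ hgT
    · exact h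
  have hs2 : s ≠ 2 := fun e => by rw [e] at hso; exact absurd hso (by decide)
  have hgo : orderOf g = 2 * s := by
    obtain ⟨c, hc⟩ := ((Nat.coprime_primes Nat.prime_two hs).2 (Ne.symm hs2)).mul_dvd_of_dvd_of_dvd hg2 hsd
    have hc0 : c ≠ 0 := fun e => (orderOf_pos g).ne' (by rw [hc, e, mul_zero])
    have hlen := hT.length_le g
    have hperm := Nat.perm_primeFactorsList_mul (mul_ne_zero two_ne_zero hs.ne_zero) hc0
    have hperm2 := Nat.perm_primeFactorsList_mul two_ne_zero hs.ne_zero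
    rw [hc, hperm.length_eq, List.length_append, hperm2.length_eq, List.length_append,
      Nat.primeFactorsList_prime Nat.prime_two, Nat.primeFactorsList_prime hs, List.length_singleton,
      List.length_singleton] at hlen
    have hc1 : c = 0 ∨ c = 1 :=
      Nat.primeFactorsList_eq_nil c |>.1 (List.eq_nil_of_length_eq_zero (by omega))
    rcases hc1 with e | e
    · exact absurd e hc0
    · rw [hc, e, mul_one]
  have ho : ∀ d, d ∣ orderOf g → orderOf (g ^ (orderOf g / d)) = d := fun d hd =>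
    orderOf_pow_orderOf_div (orderOf_pos g).ne' hd
  have hs3 : 3 ≤ s := by
    have := hs.two_le
    omega
  have hyp : Cfsg.Lib.CITExt.TwoS.Hyp s G := by
    refine ⟨hs, hs2, fun x hx => ?_, fun x hx => ?_⟩
    · by_contra hne
      push Not at hne
      refine hT 2 Nat.prime_two x (g ^ (orderOf g / 2)) g ?_ ?_ ?_ ⟨hx, ?_, hg2⟩
      all_goals try simp only [ho 2 hg2]
      · exact hne.1
      · rw [hgo]; omega
      · exact hgo ▸ hne.2
      · exact dvd_rfl
    · by_contra hne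
      push Not at hne
      refine hT s hs x (g ^ (orderOf g / s)) g ?_ ?_ ?_ ⟨hx, ?_, hsd⟩
      all_goals try simp only [ho s hsd]
      · exact hne.1
      · rw [hgo]; omega
      · exact hgo ▸ hne.2
      · exact dvd_rfl
  obtain ⟨F, i1, i2, h5, h8, ⟨f⟩⟩ := hyp.psl_of_composite hG ⟨g, hgo⟩
  obtain ⟨p, hpc⟩ := CharP.exists F
  haveI := hpc
  obtain ⟨n, hp, hF⟩ := FiniteField.card F p
  haveI := Fact.mk hp
  have hgcd : Nat.gcd 2 (Fintype.card F - 1) = 2 := Nat.gcd_eq_left (by omega)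
  obtain ⟨x, hx⟩ := (Cfsg.Lib.GLTwo.psl_spectrum (F := F) p ((Fintype.card F + 1) / 2)).2
    (Or.inr (Or.inr (by rw [hgcd])))
  obtain ⟨y, hy⟩ := (Cfsg.Lib.GLTwo.psl_spectrum (F := F) p ((Fintype.card F - 1) / 2)).2
    (Or.inr (Or.inl (by rw [hgcd])))
  exact Or.inr (Or.inl ⟨F, i1, i2, h5, h8, hT.length_of_mem f hx, hT.length_of_mem f hy, ⟨f⟩⟩)


end Cfsg.Agent.S4371
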