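import Cfsg.Statements.S4375
import Cfsg.Agent.OddBase.Main

set_option autoImplicit false
open Cfsg

namespace Cfsg.Agent.S4375

/-- Let the finite group A of odd order act faithfully on the finite additive group V by group automorphisms, completely reducibly (every A-invariant subgroup has an A-invariant complement). Then there are v, w ∈ V such that only the identity of A fixes both. -/
theorem result {A V : Type*} [Group A] [Finite A]
    [AddCommGroup V] [Finite V] [DistribMulAction A V] [FaithfulSMul A V] (hA : Odd (Nat.card A))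
    (hcr : (∀ U : AddSubgroup V, (∀ a : A, ∀ v ∈ U, a • v ∈ U) → ∃ W : AddSubgroup V, (∀ a : A, ∀ w ∈ W, a • w ∈ W) ∧ U ⊓ W = ⊥ ∧ U ⊔ W = ⊤)) :
    ∃ v w : V, ∀ a : A, a • v = v → a • w = w → a = 1 := by
  let π : A →* (AddMonoid.End V)ˣ := (DistribMulAction.toAddMonoidEnd A V).toHomUnits
  let X := π.range
  haveI : Finite X := Finite.of_surjective _ π.rangeRestrict_surjective
  have hX : Cfsg.Lib.OddBase.CR X V := by
    intro U hU
    obtain ⟨W, hW, h⟩ := hcr U fun a v hv => hU ⟨π a, a, rfl⟩ v hv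
    exact ⟨W, by rintro ⟨_, a, rfl⟩ w hw; exact hW a w hw, h⟩
  obtain ⟨v, w, hvw⟩ := Cfsg.Lib.OddBase.below_all _ X V (Nat.lt_succ_self _)
    (hA.of_dvd_nat (Subgroup.card_range_dvd π)) hX
  exact ⟨v, w, fun a h1 h2 => eq_of_smul_eq_smul fun x : V =>
    (hvw ⟨π a, a, rfl⟩ h1 h2 x).trans (one_smul A x).symm⟩

end Cfsg.Agent.S4375
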