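import Cfsg.Statements.S4377


set_option autoImplicit false
open Cfsg

namespace Cfsg.Agent.S4377

/-- Two finite groups have the same number of elements of each order if and only if, for every n, they have the same number of elements g with gⁿ = 1. -/
theorem result {G H : Type*} [Group G] [Finite G] [Group H] [Finite H] :
    (∀ n : ℕ, Nat.card {g : G // orderOf g = n} = Nat.card {h : H // orderOf h = n}) ↔
      ∀ n : ℕ, Nat.card {g : G // g ^ n = 1} = Nat.card {h : H // h ^ n = 1} := by
  classical
  haveI := Fintype.ofFinite G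
  haveI := Fintype.ofFinite H
  have key : ∀ (K : Type _) [Group K] [Fintype K] (n : ℕ), n ≠ 0 →
      Nat.card {g : K // g ^ n = 1} = ∑ d ∈ n.divisors, Nat.card {g : K // orderOf g = d} := by
    intro K _ _ n hn
    simp only [Nat.card_eq_fintype_card, Fintype.card_subtype]
    convert (sum_card_orderOf_eq_card_pow_eq_one (G := K) hn).symm
  have keyH : ∀ (n : ℕ), n ≠ 0 →
      Nat.card {g : H // g ^ n = 1} = ∑ d ∈ n.divisors, Nat.card {g : H // orderOf g = d} := by
    intro n hn
    simp only [Nat.card_eq_fintype_card, Fintype.card_subtype]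
    convert (sum_card_orderOf_eq_card_pow_eq_one (G := H) hn).symm
  have h0 : ∀ (n : ℕ), n = Nat.card G * Nat.card H →
      Nat.card {g : G // g ^ n = 1} = Nat.card {g : G // g ^ 0 = 1} ∧
      Nat.card {g : H // g ^ n = 1} = Nat.card {g : H // g ^ 0 = 1} := fun n hn =>
    ⟨Nat.card_congr (Equiv.subtypeEquivRight fun g => by
      rw [hn, pow_mul, pow_card_eq_one', one_pow, pow_zero]),
     Nat.card_congr (Equiv.subtypeEquivRight fun g => by
      rw [hn, mul_comm, pow_mul, pow_card_eq_one', one_pow, pow_zero])⟩
  constructor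
  · intro h n
    rcases Nat.eq_zero_or_pos n with rfl | hn
    · obtain ⟨hG, hH⟩ := h0 _ rfl
      rw [← hG, ← hH, key G _ (Nat.mul_ne_zero Nat.card_pos.ne' Nat.card_pos.ne'),
        keyH _ (Nat.mul_ne_zero Nat.card_pos.ne' Nat.card_pos.ne')]
      exact Finset.sum_congr rfl fun d _ => h d
    · rw [key G n hn.ne', keyH n hn.ne']
      exact Finset.sum_congr rfl fun d _ => h d
  · intro h n
    induction n using Nat.strong_induction_on with
    | _ n ih =>
    rcases Nat.eq_zero_or_pos n with rfl | hn
    · haveI : IsEmpty {g : G // orderOf g = 0} := ⟨fun g => (orderOf_pos g.1).ne' g.2⟩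
      haveI : IsEmpty {g : H // orderOf g = 0} := ⟨fun g => (orderOf_pos g.1).ne' g.2⟩
      rw [Nat.card_of_isEmpty, Nat.card_of_isEmpty]
    · have hn' := h n
      rw [key G n hn.ne', keyH n hn.ne', ← Nat.cons_self_properDivisors hn.ne', Finset.sum_cons,
        Finset.sum_cons, Finset.sum_congr rfl fun d hd => ih d (Nat.mem_properDivisors.1 hd).2] at hn'
      omega

end Cfsg.Agent.S4377
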