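import Cfsg.Statements.S4385
import Cfsg.Agent.ShiftChain
import Cfsg.Agent.DihedralTop

set_option autoImplicit false
open Pointwise
open Cfsg

namespace Cfsg.Agent.S4385

open Cfsg.Agent.ShiftChain in
/-- Windows of a six-term chain with commuting distance three cannot have the two middle ends
interchanged by the swap. -/
theorem six_absurd {G : Type*} [Group G] [Finite G] (s : ℕ → G) (x y : G) (hx : Odd (orderOf x))
    (hσ : ∀ i, x * y * s i * (x * y)⁻¹ = s (i + 1))
    (hcard : ∀ lo k, k ≤ 6 → Nat.card (win s lo (lo + k)) = 2 ^ k) (hord : ∀ i, orderOf (s i) = 2)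
    (hnear : ∀ i j, i ≤ j + 3 → j ≤ i + 3 → Commute (s i) (s j))
    (hfar : ¬ Commute (s 0) (s 4))
    (hQ : ∀ q ∈ win s 1 6, x * q * x⁻¹ ∈ win s 1 6)
    (hR : ∀ r ∈ win s 0 5, ∃ q ∈ win s 1 6, y * q * y⁻¹ = r)
    (hyR : ∀ q ∈ win s 1 6, y * q * y⁻¹ ∈ win s 0 5) : False := by
  classical
  set L₁ := win s 1 5 with hL1
  set L₅ := win s 2 6 with hL5
  set Q := win s 1 6 with hQdef
  have hcQ : Nat.card Q = 32 := hcard 1 5 (by omega)
  have hc1 : Nat.card L₁ = 16 := hcard 1 4 (by omega)
  have hc5 : Nat.card L₅ = 16 := hcard 2 4 (by omega)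
  have hcz : Nat.card (win s 2 5) = 8 := hcard 2 3 (by omega)
  have hshift : ∀ i j, Commute (s i) (s j) ↔ Commute (s (i + 1)) (s (j + 1)) := fun i j => by
    rw [← hσ i, ← hσ j]
    exact (Commute.conj_iff _).symm
  have hfar15 : ¬ Commute (s 1) (s 5) := fun h => hfar ((hshift 0 4).2 h)
  have hz : ∀ z ∈ win s 2 5, ∀ q ∈ Q, Commute z q := fun z hz' q hq =>
    win_commute hz' fun k h1 h2 => (win_commute hq fun j j1 j2 => hnear j k (by omega) (by omega)).symm
  have hz2 : ∀ z ∈ win s 2 5, z ^ 2 = 1 := by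
    intro z hz'
    induction hz' using Subgroup.closure_induction with
    | mem a ha =>
      obtain ⟨k, -, rfl⟩ := ha
      rw [← hord k, pow_orderOf_eq_one]
    | one => simp
    | mul a b ha hb iha ihb =>
      rw [(hz a ha b (win_mono (by omega) (by omega) hb)).mul_pow, iha, ihb, one_mul]
    | inv a _ iha => rw [inv_pow, iha, inv_one]
  have hs1L5 : s 1 ∉ L₅ := fun h => by
    have h1 : Q ≤ L₅ := win_le fun k k1 k2 => by
      rcases Nat.lt_or_ge k 2 with hk | hk
      · rwa [show k = 1 by omega]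
      · exact mem_win hk k2
    have := Subgroup.card_dvd_of_le h1
    rw [hcQ, hc5] at this
    omega
  have hs5L1 : s 5 ∉ L₁ := fun h => by
    have h1 : Q ≤ L₁ := win_le fun k k1 k2 => by
      rcases Nat.lt_or_ge k 5 with hk | hk
      · exact mem_win k1 hk
      · rwa [show k = 5 by omega]
    have := Subgroup.card_dvd_of_le h1
    rw [hcQ, hc1] at this
    omega
  have hidx : ∀ A B : Subgroup G, A ≤ B → Nat.card B = 2 * Nat.card A →
      (A.subgroupOf B).index = 2 := by
    intro A B hAB hc
    have h1 := Subgroup.card_mul_index (A.subgroupOf B)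
    rw [Nat.card_congr (Subgroup.subgroupOfEquivOfLe hAB).toEquiv, hc, mul_comm 2] at h1
    exact Nat.eq_of_mul_eq_mul_left Nat.card_pos h1
  -- the elementary abelian subgroups of order sixteen
  have hclass : ∀ E : Subgroup G, E ≤ Q → Nat.card E = 16 → (∀ a ∈ E, a ^ 2 = 1) →
      E = L₁ ∨ E = L₅ := by
    intro E hEQ hcE hE2
    by_contra hne
    push Not at hne
    obtain ⟨a, ha, haL⟩ : ∃ a ∈ E, a ∉ L₁ :=
      SetLike.not_le_iff_exists.1 fun h => hne.1 (Subgroup.eq_of_le_of_card_ge h (by rw [hcE, hc1]))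
    obtain ⟨b, hb, hbL⟩ : ∃ b ∈ E, b ∉ L₅ :=
      SetLike.not_le_iff_exists.1 fun h => hne.2 (Subgroup.eq_of_le_of_card_ge h (by rw [hcE, hc5]))
    obtain ⟨c, hc, hc1', hc5'⟩ : ∃ c ∈ E, c ∉ L₁ ∧ c ∉ L₅ := by
      by_cases h1 : a ∈ L₅
      · by_cases h2 : b ∈ L₁
        · refine ⟨a * b, mul_mem ha hb, fun h => haL ?_, fun h => hbL ?_⟩
          · have := mul_mem h (inv_mem h2); rwa [mul_inv_cancel_right] at this
          · have := mul_mem (inv_mem h1) h; rwa [inv_mul_cancel_left] at this
        · exact ⟨b, hb, h2, hbL⟩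
      · exact ⟨a, ha, haL, h1⟩
    have hs5Q : s 5 ∈ Q := mem_win (by omega) (by omega)
    have h1 : c * (s 5)⁻¹ ∈ L₁ := by
      have := (Subgroup.mul_mem_iff_of_index_two
        (hidx L₁ Q (win_mono le_rfl (by omega)) (by rw [hcQ, hc1])) (a := ⟨c, hEQ hc⟩)
        (b := ⟨(s 5)⁻¹, inv_mem hs5Q⟩)).2 (iff_of_false hc1' (fun h => hs5L1 (by simpa using inv_mem (show (s 5)⁻¹ ∈ L₁ from h))))
      exact this
    have h2 : c * (s 5)⁻¹ ∉ win s 2 5 := fun h => hc5' (by
      have := mul_mem (win_mono le_rfl (show 5 ≤ 6 by omega) h : c * (s 5)⁻¹ ∈ L₅)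
        (mem_win (y := s) (show 2 ≤ 5 by omega) (show 5 < 6 by omega))
      rwa [inv_mul_cancel_right] at this)
    have h3 : (s 1)⁻¹ * (c * (s 5)⁻¹) ∈ win s 2 5 := by
      have := (Subgroup.mul_mem_iff_of_index_two
        (hidx (win s 2 5) L₁ (win_mono (by omega) le_rfl) (by rw [hc1, hcz]))
        (a := ⟨(s 1)⁻¹, inv_mem (mem_win le_rfl (by omega))⟩) (b := ⟨_, h1⟩)).2
        (iff_of_false (fun h => hs1L5 (win_mono le_rfl (by omega)
          (by simpa using inv_mem (show (s 1)⁻¹ ∈ win s 2 5 from h) : s 1 ∈ win s 2 5))) h2)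
      exact this
    set z := (s 1)⁻¹ * (c * (s 5)⁻¹)
    have hc' : c = s 1 * s 5 * z := by
      rw [mul_assoc, ← (hz z h3 (s 5) hs5Q).eq]
      simp [z, mul_assoc]
    have hsq : (s 1 * s 5) ^ 2 = 1 := by
      have := hE2 c hc
      rw [hc', (hz z h3 _ (mul_mem (mem_win (by omega) (by omega)) hs5Q)).symm.mul_pow,
        hz2 z h3, mul_one] at this
      exact this
    apply hfar15
    have e1 : (s 1)⁻¹ = s 1 := by
      rw [inv_eq_iff_mul_eq_one, ← sq, ← hord 1, pow_orderOf_eq_one]
    have e5 : (s 5)⁻¹ = s 5 := by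
      rw [inv_eq_iff_mul_eq_one, ← sq, ← hord 5, pow_orderOf_eq_one]
    rw [sq] at hsq
    have h4 := eq_inv_of_mul_eq_one_left hsq
    rw [mul_inv_rev, e1, e5] at h4
    exact h4
  have hexp : ∀ lo, ∀ a ∈ win s lo (lo + 4), a ^ 2 = 1 := by
    intro lo a ha
    induction ha using Subgroup.closure_induction with
    | mem a ha =>
      obtain ⟨k, -, rfl⟩ := ha
      rw [← hord k, pow_orderOf_eq_one]
    | one => simp
    | mul a b ha hb iha ihb =>
      have : Commute a b := win_commute ha fun k k1 k2 =>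
        (win_commute hb fun j j1 j2 => hnear j k (by omega) (by omega)).symm
      rw [this.mul_pow, iha, ihb, one_mul]
    | inv a _ iha => rw [inv_pow, iha, inv_one]
  set φ := (MulAut.conj x).toMonoidHom with hφ
  have himg : ∀ lo, 1 ≤ lo → lo ≤ 2 → (win s lo (lo + 4)).map φ = L₁ ∨ (win s lo (lo + 4)).map φ = L₅ := by
    intro lo h1 h2
    refine hclass _ ?_ ?_ ?_
    · rintro _ ⟨a, ha, rfl⟩
      exact hQ a (win_mono (by omega) (by omega) ha)
    · rw [Subgroup.card_map_of_injective (MulAut.conj x).injective, hcard lo 4 (by omega)]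
      rfl
    · rintro _ ⟨a, ha, rfl⟩
      rw [← map_pow, hexp lo a ha, map_one]
  have hne15 : L₁ ≠ L₅ := fun h => hs1L5 (h ▸ mem_win le_rfl (by omega))
  have hfix : L₁.map φ = L₁ := by
    rcases himg 1 le_rfl (by omega) with h | h
    · exact h
    · exfalso
      rcases himg 2 (by omega) le_rfl with h' | h'
      · -- `φ` would swap the two, but `x` is a power of `x²`
        obtain ⟨j, hj⟩ := hx
        have h2 : ∀ i : ℕ, L₁.map (MulAut.conj ((x ^ 2) ^ i)).toMonoidHom = L₁ := by
          intro i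
          induction i with
          | zero => rw [pow_zero, map_one]; exact Subgroup.map_id _
          | succ i ih =>
            calc L₁.map (MulAut.conj ((x ^ 2) ^ (i + 1))).toMonoidHom
                = ((L₁.map (MulAut.conj ((x ^ 2) ^ i)).toMonoidHom).map φ).map φ := by
                  rw [Subgroup.map_map, Subgroup.map_map]
                  congr 1
                  ext a
                  simp [hφ, pow_succ', pow_zero, mul_assoc]
              _ = L₁ := by rw [ih, h, h']
        have h3 := h2 (j + 1)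
        rw [← pow_mul, show 2 * (j + 1) = orderOf x + 1 by omega, pow_succ, pow_orderOf_eq_one,
          one_mul] at h3
        exact hne15 (h3.symm.trans h)
      · exact hne15 (Subgroup.map_injective (f := φ) (MulAut.conj x).injective (h.trans h'.symm))
  -- the fifth term falls into the first window
  have h4Q : s 4 ∈ Q := mem_win (by omega) (by omega)
  have h5 : y * s 4 * y⁻¹ ∈ L₁ := by
    by_contra hne
    have hmem := hyR _ h4Q
    have hcom : Commute (y * s 4 * y⁻¹) (s 4) := by
      obtain ⟨q, hq, he⟩ := hR (s 4) (mem_win (by omega) (by omega))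
      conv => arg 2; rw [← he]
      exact (Commute.conj_iff y).2 (hz (s 4) (mem_win (by omega) (by omega)) q hq)
    set C := win s 0 5 ⊓ Subgroup.centralizer ({s 4} : Set G) with hC
    have hlt : L₁ < C := by
      refine lt_of_le_of_ne (le_inf (win_mono (by omega) le_rfl) fun a ha => ?_) fun h => hne (h ▸
        ⟨hmem, Subgroup.mem_centralizer_singleton_iff.2 hcom⟩)
      exact Subgroup.mem_centralizer_singleton_iff.2
        (win_commute ha fun k k1 k2 => hnear k 4 (by omega) (by omega))
    have hc0 : Nat.card (win s 0 5) = 32 := hcard 0 5 (by omega)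
    obtain ⟨e, he5, hce⟩ := (Nat.dvd_prime_pow Nat.prime_two).1
      (show Nat.card C ∣ 2 ^ 5 from (Subgroup.card_dvd_of_le (inf_le_left : C ≤ win s 0 5)).trans hc0.dvd)
    have he : 5 ≤ e := by
      by_contra hlt'
      apply hlt.ne
      apply Subgroup.eq_of_le_of_card_ge hlt.le
      rw [hce, hc1, show (16 : ℕ) = 2 ^ 4 from rfl]
      exact Nat.pow_le_pow_right two_pos (by omega)
    have hCeq : C = win s 0 5 := by
      apply Subgroup.eq_of_le_of_card_ge inf_le_left
      rw [hce, hc0, show (32 : ℕ) = 2 ^ 5 from rfl]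
      exact Nat.pow_le_pow_right two_pos he
    exact hfar (Subgroup.mem_centralizer_singleton_iff.1 (hCeq.ge (mem_win le_rfl (by omega))).2)
  have h6 : s 5 ∈ L₁ := by
    rw [← hfix]
    refine ⟨_, h5, ?_⟩
    rw [← hσ 4, hφ]
    simp [mul_assoc]
  exact hs5L1 h6

/-- the data used after the reduction -/
theorem transfer_cent {K : Type*} [Group K] [Finite K] {n : ℕ} (f : K →* DihedralGroup n) (hn : Odd n)
    (Q : Subgroup K) (hker : f.ker = Q) (hQ2 : IsPGroup 2 Q) (b : K)
    (hb : ∀ q ∈ Q, Commute b q) (hfb : orderOf (f b) = n) (x : K) (hx : Odd (orderOf x)) :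
    ∀ q ∈ Q, Commute x q := by
  classical
  haveI : NeZero n := ⟨fun h0 => by simp [h0] at hn⟩
  have hZidx : (Subgroup.zpowers (f b)).index = 2 := by
    have h1 := Subgroup.card_mul_index (Subgroup.zpowers (f b))
    rw [Nat.card_zpowers, hfb, DihedralGroup.nat_card, mul_comm 2 n] at h1
    exact Nat.eq_of_mul_eq_mul_left (NeZero.pos n) h1
  have hmem : f x ∈ Subgroup.zpowers (f b) := by
    refine Cfsg.Agent.DihedralTop.mem_of_sq_mem (hx.of_dvd_nat (orderOf_map_dvd f x)) ?_
    exact Subgroup.sq_mem_of_index_two hZidx _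
  obtain ⟨i, hi⟩ := Subgroup.mem_zpowers_iff.1 hmem
  set q := x * (b ^ i)⁻¹ with hq
  have hqQ : q ∈ Q := by
    rw [← hker, MonoidHom.mem_ker, hq, map_mul, map_inv, map_zpow, hi, mul_inv_cancel]
  have hxe : x = q * b ^ i := (inv_mul_cancel_right _ _).symm
  have hc : Commute q (b ^ i) := ((hb q hqQ).zpow_left i).symm
  -- `q` is central in `Q`
  have hqc : ∀ a ∈ Q, Commute q a := by
    intro a ha
    have h1 : q ^ orderOf x = ((b ^ i) ^ orderOf x)⁻¹ := by
      apply eq_inv_of_mul_eq_one_left
      rw [← hc.mul_pow, ← hxe, pow_orderOf_eq_one]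
    have h2 : Commute (q ^ orderOf x) a := by
      rw [h1]
      exact (((hb a ha).zpow_left i).pow_left _).inv_left
    obtain ⟨k, hk⟩ := hQ2 ⟨q, hqQ⟩
    rw [Subtype.ext_iff, SubmonoidClass.coe_pow, OneMemClass.coe_one] at hk
    obtain ⟨m, hm⟩ := exists_pow_eq_self_of_coprime (x := q) (n := orderOf x)
      (Nat.Coprime.coprime_dvd_right (orderOf_dvd_of_pow_eq_one hk)
        (Nat.Coprime.pow_right k (Nat.coprime_two_right.2 hx)))
    have := h2.pow_left m
    rwa [hm] at this
  intro a ha
  rw [hxe]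
  exact (hqc a ha).mul_left ((hb a ha).zpow_left i)

/-- Let H be a subgroup of a finite group G whose largest normal 2-subgroup O_2(H) is nontrivial and such that H/O_2(H) is a dihedral group of order at least 4. Let P be a Sylow 2-subgroup of H and S a Sylow 2-subgroup of G containing P. Suppose y ∈ S lies outside P, normalizes P, has y² in the product of P with the centralizer of P in G, and normalizes no non-identity normal subgroup of H contained in P. Then P has order 4, 8 or 16, and H modulo its largest normal subgroup of odd order is isomorphic to the four-group, to the symmetric group of degree 4, or to the direct product of the symmetric group of degree 4 with a group of order 2. -/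
theorem result {G : Type*} [Group G] [Finite G]
    (H : Subgroup G) (hO : Cfsg.pCore 2 ↥H ≠ ⊥) (n : ℕ) (hn : 2 ≤ n) (hdih : Nonempty (↥H ⧸ Cfsg.pCore 2 ↥H ≃* DihedralGroup n))
    (P : Subgroup G) (hPH : P ≤ H) (hP : IsPGroup 2 P) (hPsyl : ¬ 2 ∣ P.relIndex H)
    (S : Sylow 2 G) (hPS : P ≤ (S : Subgroup G)) (y : G) (hyS : y ∈ (S : Subgroup G)) (hyP : y ∉ P)
    (hy2 : y ^ 2 ∈ P ⊔ Subgroup.centralizer (P : Set G)) (hyN : MulAut.conj y • P = P)
    (hyQ : ∀ Q : Subgroup G, Q ≤ P → (Q.subgroupOf H).Normal → MulAut.conj y • Q = Q → Q = ⊥) :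
    (Nat.card P = 4 ∨ Nat.card P = 8 ∨ Nat.card P = 16) ∧
    (Nonempty (↥H ⧸ Cfsg.oddCore ↥H ≃* Multiplicative (ZMod 2) × Multiplicative (ZMod 2)) ∨
     Nonempty (↥H ⧸ Cfsg.oddCore ↥H ≃* Equiv.Perm (Fin 4)) ∨
     Nonempty (↥H ⧸ Cfsg.oddCore ↥H ≃* Equiv.Perm (Fin 4) × Multiplicative (ZMod 2))) := by
  classical
  haveI : Fact (Nat.Prime 2) := ⟨Nat.prime_two⟩
  haveI hQ0n : (Cfsg.pCore 2 ↥H).Normal := Cfsg.Lib.Components.pCore_normal' 2
  have hQ02 : IsPGroup 2 (Cfsg.pCore 2 ↥H) := Cfsg.Lib.Components.isPGroup_pCore 2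
  obtain ⟨e⟩ := hdih
  haveI : NeZero n := ⟨by omega⟩
  set Q0 := Cfsg.pCore 2 ↥H with hQ0
  let f : ↥H →* DihedralGroup n := e.toMonoidHom.comp (QuotientGroup.mk' Q0)
  have hker : f.ker = Q0 := by
    rw [Cfsg.Agent.DihedralTop.ker_equiv_comp, QuotientGroup.ker_mk']
  have hsurj : Function.Surjective f := e.surjective.comp (QuotientGroup.mk'_surjective Q0)
  have hn' : Odd n := by
    by_contra heven
    rw [Nat.not_odd_iff_even] at heven
    obtain ⟨k, hk⟩ := heven
    set c : DihedralGroup n := DihedralGroup.r (k : ZMod n) with hc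
    have hkk : ((k : ZMod n) + k) = 0 := by rw [← Nat.cast_add, ← hk, ZMod.natCast_self]
    have hc2 : c * c = 1 := by
      rw [hc, DihedralGroup.r_mul_r, hkk]; rfl
    have hc1 : c ≠ 1 := by
      rw [hc, DihedralGroup.one_def, ne_eq, DihedralGroup.r.injEq, ZMod.natCast_eq_zero_iff]
      intro h
      have := Nat.le_of_dvd (by omega) h
      omega
    have hneg : -(k : ZMod n) = k := neg_eq_of_add_eq_zero_left hkk
    haveI hZn : (Subgroup.zpowers c).Normal := ⟨fun a ha g => by
      obtain ⟨i, rfl⟩ := Subgroup.mem_zpowers_iff.1 ha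
      have hcg : g * c * g⁻¹ = c := by
        cases g with
        | r i => simp [hc]
        | sr i => simp [hc, hneg]
      rw [← conj_zpow, hcg]
      exact zpow_mem (Subgroup.mem_zpowers _) _⟩
    have hZ2 : IsPGroup 2 (Subgroup.zpowers c) := IsPGroup.of_card (n := 1) (by
      rw [Nat.card_zpowers, orderOf_eq_prime (by rw [sq, hc2]) hc1, pow_one])
    have hle : (Subgroup.zpowers c).comap f ≤ Q0 :=
      Cfsg.Lib.Components.le_pCore (hZ2.comap_of_ker_isPGroup f (by rw [hker]; exact hQ02))
    obtain ⟨g, hg⟩ := hsurj c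
    have : g ∈ f.ker := by
      rw [hker]
      exact hle (by rw [Subgroup.mem_comap, hg]; exact Subgroup.mem_zpowers c)
    rw [MonoidHom.mem_ker, hg] at this
    exact hc1 this
  have hcardH : Nat.card ↥H = Nat.card Q0 * (2 * n) := by
    have h1 := Subgroup.card_mul_index f.ker
    rw [Subgroup.index_ker, MonoidHom.range_eq_top.2 hsurj, Subgroup.card_top,
      DihedralGroup.nat_card] at h1
    rw [← h1, hker]
  set Q := Q0.map H.subtype with hQdef
  have hQH : Q ≤ H := Subgroup.map_subtype_le _
  have hQmem : ∀ q : ↥H, (q : G) ∈ Q ↔ q ∈ Q0 := fun q => by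
    rw [hQdef]
    exact Subgroup.mem_map_iff_mem H.subtype_injective
  have hQn : ∀ h ∈ H, ∀ q ∈ Q, h * q * h⁻¹ ∈ Q := by
    intro h hh q hq
    exact (hQmem (⟨h, hh⟩ * ⟨q, hQH hq⟩ * ⟨h, hh⟩⁻¹)).2
      (hQ0n.conj_mem _ ((hQmem ⟨q, hQH hq⟩).1 hq) _)
  have hQ2 : IsPGroup 2 Q := hQ02.map _
  have hQcard : Nat.card Q = Nat.card Q0 := Subgroup.card_map_of_injective H.subtype_injective
  have hQ1 : Q ≠ ⊥ := fun h => hO (by
    rw [Subgroup.eq_bot_iff_card, ← hQcard, h, Subgroup.card_bot])
  -- `P` is a Sylow subgroup of `H`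
  have hPcard : Nat.card P = 2 * Nat.card Q ∧ Q ≤ P := by
    have hPs : Nat.card (P.subgroupOf H) = Nat.card P :=
      Nat.card_congr (Subgroup.subgroupOfEquivOfLe hPH).toEquiv
    have hsup : IsPGroup 2 (P.subgroupOf H ⊔ Q0 : Subgroup ↥H) :=
      IsPGroup.to_sup_of_normal_right (hP.comap_of_injective _ H.subtype_injective) hQ02
    obtain ⟨a, ha⟩ := IsPGroup.iff_card.1 hsup
    have h1 := Subgroup.card_mul_index (P.subgroupOf H)
    change Nat.card (P.subgroupOf H) * P.relIndex H = _ at h1
    obtain ⟨b, hb⟩ := IsPGroup.iff_card.1 hP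
    rw [hPs] at h1
    have hle : P.subgroupOf H ⊔ Q0 = P.subgroupOf H := by
      refine (Subgroup.eq_of_le_of_card_ge le_sup_left ?_).symm
      rw [hPs, hb, ha]
      have h2 : 2 ^ a ∣ 2 ^ b * P.relIndex H := by
        rw [← hb, h1, ← ha]
        exact Subgroup.card_subgroup_dvd_card _
      exact Nat.le_of_dvd (pow_pos two_pos b)
        ((Nat.Coprime.pow_left a ((Nat.Prime.coprime_iff_not_dvd Nat.prime_two).2 hPsyl)).dvd_of_dvd_mul_right h2)
    have hQP : Q ≤ P := by
      rintro _ ⟨q, hq, rfl⟩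
      exact ((hle ▸ (le_sup_right : Q0 ≤ P.subgroupOf H ⊔ Q0)) hq)
    refine ⟨?_, hQP⟩
    obtain ⟨c, hc⟩ := IsPGroup.iff_card.1 hQ2
    have h3 : 2 ^ b * P.relIndex H = 2 ^ (c + 1) * n := by
      rw [← hb, h1, hcardH, ← hQcard, hc, pow_succ]; ring
    have hodd1 : Nat.Coprime 2 n := Nat.coprime_two_left.2 hn'
    have hodd2 : Nat.Coprime 2 (P.relIndex H) := (Nat.Prime.coprime_iff_not_dvd Nat.prime_two).2 hPsyl
    have h4 : 2 ^ b = 2 ^ (c + 1) := Nat.dvd_antisymm
      ((Nat.Coprime.pow_left b hodd1).dvd_of_dvd_mul_right (h3 ▸ dvd_mul_right _ _))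
      ((Nat.Coprime.pow_left (c + 1) hodd2).dvd_of_dvd_mul_right (h3.symm ▸ dvd_mul_right _ _))
    rw [hb, h4, hc, pow_succ']
  obtain ⟨hPQ, hQP⟩ := hPcard
  -- the swap
  have hyP : ∀ p ∈ P, y * p * y⁻¹ ∈ P := fun p hp => by
    rw [← hyN]
    exact ⟨p, hp, rfl⟩
  have hyP' : P.map (MulAut.conj y).toMonoidHom = P := hyN
  have hy2Q : ∀ q ∈ Q, y ^ 2 * q * (y ^ 2)⁻¹ ∈ Q ∧
      ((∀ p ∈ P, Commute q p) → y ^ 2 * q * (y ^ 2)⁻¹ = q) := by
    intro q hq
    have hle : Subgroup.centralizer (P : Set G) ≤ Subgroup.normalizer (P : Set G) := by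
      intro c hc
      rw [Subgroup.mem_normalizer_iff]
      intro a
      constructor
      · intro ha
        rwa [← Subgroup.mem_centralizer_iff.1 hc a ha, mul_inv_cancel_right]
      · intro ha
        have := Subgroup.mem_centralizer_iff.1 hc _ ha
        have h5 : c * a * c⁻¹ = a := by
          calc c * a * c⁻¹ = c⁻¹ * (c * (c * a * c⁻¹)) := by group
            _ = c⁻¹ * ((c * a * c⁻¹) * c) := by rw [this]
            _ = a := by group
        rwa [h5] at ha
    have hdec : ∃ p ∈ P, ∃ c ∈ Subgroup.centralizer (P : Set G), y ^ 2 = p * c := by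
      rw [← SetLike.mem_coe, Subgroup.coe_mul_of_right_le_normalizer_left _ _ hle] at hy2
      obtain ⟨p, hp, c, hc, he⟩ := hy2
      exact ⟨p, hp, c, hc, he.symm⟩
    obtain ⟨p, hp, c, hc, he⟩ := hdec
    have h1 : c * q * c⁻¹ = q := by
      rw [← Subgroup.mem_centralizer_iff.1 hc q (hQP hq), mul_inv_cancel_right]
    have h2 : y ^ 2 * q * (y ^ 2)⁻¹ = p * q * p⁻¹ := by
      calc y ^ 2 * q * (y ^ 2)⁻¹ = p * (c * q * c⁻¹) * p⁻¹ := by rw [he]; group
        _ = p * q * p⁻¹ := by rw [h1]
    rw [h2]
    exact ⟨hQn p (hPH hp) q hq, fun h => by rw [← (h p hp).eq, mul_inv_cancel_right]⟩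
  set R := Q.map (MulAut.conj y).toMonoidHom with hRdef
  have hRP : R ≤ P := (Subgroup.map_mono hQP).trans hyP'.le
  have hRcard : Nat.card R = Nat.card Q := Subgroup.card_map_of_injective (MulAut.conj y).injective
  have hyR : R.map (MulAut.conj y).toMonoidHom = Q := by
    apply Subgroup.eq_of_le_of_card_ge
    · rintro _ ⟨_, ⟨q, hq, rfl⟩, rfl⟩
      have := (hy2Q q hq).1
      simpa [pow_two, mul_assoc] using this
    · rw [Subgroup.card_map_of_injective (f := (MulAut.conj y).toMonoidHom) (MulAut.conj y).injective, hRcard]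
  have hnorm : ∀ N : Subgroup G, N ≤ Q → (∀ h ∈ H, ∀ a ∈ N, h * a * h⁻¹ ∈ N) →
      N.map (MulAut.conj y).toMonoidHom = N → N = ⊥ := by
    intro N hNQ hN hNy
    refine hyQ N (hNQ.trans hQP) ⟨fun a ha h => ?_⟩ hNy
    exact hN h h.2 a ha
  have hRQ : R ≠ Q := fun h => hQ1 (hnorm Q le_rfl hQn h)
  -- generators of `H`
  obtain ⟨t₀, ht₀P, ht₀Q⟩ : ∃ t ∈ P, t ∉ Q := SetLike.not_le_iff_exists.1 fun h => by
    have h1 := Subgroup.card_dvd_of_le h
    rw [hPQ] at h1
    have h2 : 0 < Nat.card Q := Nat.card_pos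
    have := Nat.le_of_dvd h2 h1
    omega
  have hsr : ∀ p : ↥H, (p : G) ∈ P → (p : G) ∉ Q → ∃ j, f p = DihedralGroup.sr j := by
    intro p hp hpQ
    cases h : f p with
    | sr j => exact ⟨j, rfl⟩
    | r j =>
      exfalso
      apply hpQ
      rw [hQmem, ← hker, MonoidHom.mem_ker]
      obtain ⟨k, hk⟩ := hP ⟨p, hp⟩
      rw [Subtype.ext_iff, SubmonoidClass.coe_pow, OneMemClass.coe_one] at hk
      have h2 : orderOf (f p) ∣ 2 ^ k := orderOf_dvd_of_pow_eq_one (by
        rw [← map_pow, show p ^ (2 ^ k) = 1 from Subtype.ext (by simpa using hk), map_one])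
      have hdn : orderOf (f p) ∣ n := by
        rw [h, DihedralGroup.orderOf_r]
        exact Nat.div_dvd_of_dvd (Nat.gcd_dvd_left _ _)
      have := Nat.dvd_gcd h2 hdn
      rwa [(Nat.Coprime.pow_left k (Nat.coprime_two_left.2 hn')).gcd_eq_one, Nat.dvd_one,
        orderOf_eq_one_iff] at this
  obtain ⟨x, hxodd, hfx⟩ : ∃ x : ↥H, Odd (orderOf x) ∧ orderOf (f x) = n := by
    obtain ⟨g, hg⟩ := hsurj (DihedralGroup.r 1)
    obtain ⟨a, b, hb, hab⟩ := Nat.exists_eq_two_pow_mul_odd (orderOf_pos g).ne'
    refine ⟨g ^ (2 ^ a), ?_, ?_⟩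
    · rw [orderOf_pow, hab, Nat.gcd_mul_right_left, Nat.mul_div_cancel_left _ (pow_pos two_pos a)]
      exact hb
    · rw [map_pow, hg, Nat.Coprime.orderOf_pow, DihedralGroup.orderOf_r_one]
      rw [DihedralGroup.orderOf_r_one]
      exact Nat.Coprime.pow_right a (Nat.coprime_two_right.2 hn')
  have hgen : ∀ S : Subgroup G, Q ≤ S → (x : G) ∈ S → t₀ ∈ S → H ≤ S := by
    intro S hQS hxS htS
    set T := S.subgroupOf H
    have hQT : f.ker ≤ T := by
      rw [hker]
      intro q hq
      exact hQS ((hQmem q).2 hq)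
    have htop : T.map f = ⊤ := by
      have h1 : Subgroup.zpowers (f x) < T.map f := by
        refine lt_of_le_of_ne (Subgroup.zpowers_le.2 ⟨x, hxS, rfl⟩) fun h => ?_
        obtain ⟨j, hj⟩ := hsr ⟨t₀, hPH ht₀P⟩ ht₀P ht₀Q
        have hmem : f ⟨t₀, hPH ht₀P⟩ ∈ Subgroup.zpowers (f x) := h ▸ ⟨_, htS, rfl⟩
        have h2 := orderOf_dvd_of_mem_zpowers hmem
        rw [hj, DihedralGroup.orderOf_sr, hfx] at h2
        exact hn'.not_two_dvd_nat h2
      obtain ⟨q, hq⟩ := Subgroup.card_dvd_of_le h1.le
      rw [Nat.card_zpowers, hfx] at hq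
      have h2 := Subgroup.card_subgroup_dvd_card (T.map f)
      rw [hq, DihedralGroup.nat_card, mul_comm 2 n] at h2
      have h3 := Nat.dvd_of_mul_dvd_mul_left (by omega) h2
      apply Subgroup.eq_top_of_card_eq
      rw [hq, DihedralGroup.nat_card, mul_comm 2 n]
      rcases (Nat.dvd_prime Nat.prime_two).1 h3 with h | h
      · exfalso
        apply h1.ne
        apply Subgroup.eq_of_le_of_card_ge h1.le
        rw [hq, h, mul_one, Nat.card_zpowers, hfx]
      · rw [h]
    have hT : T = ⊤ := by
      have h1 := Subgroup.comap_map_eq f T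
      rw [htop, Subgroup.comap_top, sup_eq_left.2 hQT] at h1
      exact h1.symm
    intro h hh
    have : (⟨h, hh⟩ : ↥H) ∈ T := hT ▸ Subgroup.mem_top _
    exact this
  -- centralising case
  have hcase : (∀ q ∈ Q, Commute (x : G) q) → Nat.card Q = 2 := by
    intro hc
    have hD : Q ⊓ R = ⊥ := by
      apply hnorm _ inf_le_left
      · intro h hh a ha
        have hS : H ≤ Subgroup.normalizer ((Q ⊓ R : Subgroup G) : Set G) := by
          refine hgen _ (fun q hq => ?_) ?_ ?_
          all_goals
            rw [Subgroup.mem_normalizer_iff]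
          · -- elements of `P` normalise both
            intro b
            have hN : ∀ p ∈ P, ∀ b ∈ Q ⊓ R, p * b * p⁻¹ ∈ Q ⊓ R := by
              intro p hp b hb
              refine ⟨hQn p (hPH hp) b hb.1, ?_⟩
              obtain ⟨c, hc', rfl⟩ := hb.2
              obtain ⟨p', hp', rfl⟩ : ∃ p' ∈ P, y * p' * y⁻¹ = p := by
                rw [← hyP'] at hp
                exact hp
              refine ⟨p' * c * p'⁻¹, hQn p' (hPH hp') c hc', ?_⟩
              simp [mul_assoc]
            refine ⟨fun hb => hN q (hQP hq) b hb, fun hb => ?_⟩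
            have := hN q⁻¹ (inv_mem (hQP hq)) _ hb
            simpa [mul_assoc] using this
          · intro b
            constructor
            · intro hb
              rwa [(hc b hb.1).eq, mul_inv_cancel_right]
            · intro hb
              have h1 := (hc _ hb.1).eq
              have h2 : (x : G) * b * (x : G)⁻¹ = b := mul_left_cancel (a := (x : G))
                (h1.trans (inv_mul_cancel_right _ _))
              rwa [h2] at hb
          · intro b
            have hN : ∀ p ∈ P, ∀ b ∈ Q ⊓ R, p * b * p⁻¹ ∈ Q ⊓ R := by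
              intro p hp b hb
              refine ⟨hQn p (hPH hp) b hb.1, ?_⟩
              obtain ⟨c, hc', rfl⟩ := hb.2
              obtain ⟨p', hp', rfl⟩ : ∃ p' ∈ P, y * p' * y⁻¹ = p := by
                rw [← hyP'] at hp
                exact hp
              refine ⟨p' * c * p'⁻¹, hQn p' (hPH hp') c hc', ?_⟩
              simp [mul_assoc]
            refine ⟨fun hb => hN _ ht₀P b hb, fun hb => ?_⟩
            have := hN t₀⁻¹ (inv_mem ht₀P) _ hb
            simpa [mul_assoc] using this
        exact (Subgroup.mem_normalizer_iff.1 (hS hh) a).1 ha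
      · rw [Subgroup.map_inf _ _ _ (MulAut.conj y).injective, hyR, ← hRdef, inf_comm]
    obtain ⟨c, hc2⟩ := IsPGroup.iff_card.1 hQ2
    have h1 : R.relIndex P = 2 := by
      have h1 := Subgroup.card_mul_index (R.subgroupOf P)
      rw [Nat.card_congr (Subgroup.subgroupOfEquivOfLe hRP).toEquiv, hRcard, hPQ, mul_comm 2] at h1
      exact Nat.eq_of_mul_eq_mul_left Nat.card_pos h1
    have h2 : R.relIndex Q ≤ 2 := h1 ▸ Subgroup.relIndex_le_of_le_right hQP (by rw [h1]; norm_num)
    rw [← Subgroup.inf_relIndex_right, inf_comm, hD, Subgroup.relIndex_bot_left] at h2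
    have h3 : Nat.card Q ≠ 1 := fun h => hQ1 (Q.eq_bot_iff_card.2 h)
    have h4 : 0 < Nat.card Q := Nat.card_pos
    omega
  -- a central element of `P` outside `Q` makes `x` central on `Q`
  have houter : ∀ z ∈ P, z ∉ Q → (∀ p ∈ P, Commute z p) → ∀ q ∈ Q, Commute (x : G) q := by
    intro z hz hzQ hzc
    obtain ⟨j, hj⟩ := hsr ⟨z, hPH hz⟩ hz hzQ
    set zh : ↥H := ⟨z, hPH hz⟩ with hzh
    set q₀ : ↥H := zh * x * zh⁻¹ * x with hq₀
    have hfxr : ∃ i, f x = DihedralGroup.r i := by
      cases h : f x with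
      | r i => exact ⟨i, rfl⟩
      | sr i =>
        exfalso
        rw [h, DihedralGroup.orderOf_sr] at hfx
        exact hn'.not_two_dvd_nat (hfx ▸ dvd_refl 2)
    obtain ⟨i, hi⟩ := hfxr
    have hq₀Q : q₀ ∈ Q0 := by
      rw [← hker, MonoidHom.mem_ker, hq₀, map_mul, map_mul, map_mul, map_inv, hj, hi]
      simp [DihedralGroup.inv_sr, DihedralGroup.sr_mul_r, DihedralGroup.sr_mul_sr,
        DihedralGroup.r_mul_r]
    have hb : ∀ q ∈ Q0, Commute (q₀⁻¹ * x ^ 2) q := by
      intro q hq
      have hz1 : ∀ a ∈ Q0, zh * a * zh⁻¹ = a := fun a ha => Subtype.ext (by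
        simp only [Subgroup.coe_mul, Subgroup.coe_inv]
        change z * a * z⁻¹ = a
        rw [(hzc a (hQP ((hQmem a).2 ha))).eq, mul_inv_cancel_right])
      have hx' : x * q * x⁻¹ ∈ Q0 := hQ0n.conj_mem q hq x
      have h1 : q₀⁻¹ * x ^ 2 * q * (q₀⁻¹ * x ^ 2)⁻¹ = q := by
        calc q₀⁻¹ * x ^ 2 * q * (q₀⁻¹ * x ^ 2)⁻¹
            = x⁻¹ * (zh * (x⁻¹ * (zh⁻¹ * (x * (x * q * x⁻¹) * x⁻¹) * zh) * x) * zh⁻¹) * x := by
              rw [hq₀, sq]; group
          _ = x⁻¹ * (zh * (x⁻¹ * (x * (x * q * x⁻¹) * x⁻¹) * x) * zh⁻¹) * x := by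
              have h2 := hz1 _ (hQ0n.conj_mem _ hx' x)
              have h3 : zh⁻¹ * (x * (x * q * x⁻¹) * x⁻¹) * zh = x * (x * q * x⁻¹) * x⁻¹ := by
                conv_lhs => rw [← h2]
                group
              rw [h3]
          _ = x⁻¹ * (zh * (x * q * x⁻¹) * zh⁻¹) * x := by group
          _ = q := by rw [hz1 _ hx']; group
      exact mul_inv_eq_iff_eq_mul.1 h1
    intro q hq
    have hfb : orderOf (f (q₀⁻¹ * x ^ 2)) = n := by
      rw [map_mul, map_inv, show f q₀ = 1 from by rw [← MonoidHom.mem_ker, hker]; exact hq₀Q,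
        inv_one, one_mul, map_pow, Nat.Coprime.orderOf_pow, hfx]
      rw [hfx]
      exact Nat.coprime_two_right.2 hn'
    have := transfer_cent f hn' Q0 hker hQ02 _ hb hfb x hxodd ⟨q, hQH hq⟩ ((hQmem _).1 hq)
    exact congrArg Subtype.val this
  -- the translation
  set g : G := (x : G) * y with hg
  set σ : MulAut G := MulAut.conj g with hσ
  have hσP : P.map σ.toMonoidHom = P.map (MulAut.conj (x : G)).toMonoidHom := by
    conv_rhs => rw [← hyP', Subgroup.map_map]
    congr 1
    ext a
    simp [hσ, hg, mul_assoc]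
  have hQxP : Q ≤ P.map σ.toMonoidHom := by
    rw [hσP]
    intro q hq
    refine ⟨(x : G)⁻¹ * q * x, hQP ?_, by simp [mul_assoc]⟩
    simpa using hQn _ (inv_mem x.2) q hq
  have hint : P ⊓ P.map σ.toMonoidHom = Q := by
    symm
    refine Subgroup.eq_of_le_of_card_ge (le_inf hQP hQxP) ?_
    obtain ⟨q, hq⟩ := Subgroup.card_dvd_of_le (le_inf hQP hQxP)
    have h1 := Subgroup.card_dvd_of_le (inf_le_left : P ⊓ P.map σ.toMonoidHom ≤ P)
    rw [hq, hPQ, mul_comm 2] at h1
    rcases (Nat.dvd_prime Nat.prime_two).1 (Nat.dvd_of_mul_dvd_mul_left Nat.card_pos h1) with h | h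
    · rw [hq, h, mul_one]
    · exfalso
      have he : P ⊓ P.map σ.toMonoidHom = P :=
        Subgroup.eq_of_le_of_card_ge inf_le_left (by rw [hq, h, hPQ, mul_comm])
      have ht : t₀ ∈ P.map σ.toMonoidHom := (he.ge ht₀P).2
      rw [hσP] at ht
      obtain ⟨p, hp, hpe⟩ := ht
      have hpe' : (x : G) * p * (x : G)⁻¹ = t₀ := hpe
      have hxp : (x : G) * t₀ * (x : G)⁻¹ ∈ P := by
        have h5 : P.map (MulAut.conj (x : G)).toMonoidHom = P := by
          refine (Subgroup.eq_of_le_of_card_ge ?_ ?_).symm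
          · rw [← hσP]; exact he.ge.trans inf_le_right
          · rw [Subgroup.card_map_of_injective (MulAut.conj (x : G)).injective]
        exact h5.le ⟨t₀, ht₀P, rfl⟩
      have hnQ : (x : G) * t₀ * (x : G)⁻¹ ∉ Q := fun hh => ht₀Q (by
        have := hQn _ (inv_mem x.2) _ hh
        simpa [mul_assoc] using this)
      set th : ↥H := ⟨t₀, hPH ht₀P⟩
      obtain ⟨j, hj⟩ := hsr th ht₀P ht₀Q
      have hnq' : th * (x * th * x⁻¹) ∈ f.ker := by
        rw [hker, ← hQmem]
        have hidx : (Q.subgroupOf P).index = 2 := by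
          have h1 := Subgroup.card_mul_index (Q.subgroupOf P)
          rw [Nat.card_congr (Subgroup.subgroupOfEquivOfLe hQP).toEquiv, hPQ, mul_comm 2] at h1
          exact Nat.eq_of_mul_eq_mul_left Nat.card_pos h1
        exact (Subgroup.mul_mem_iff_of_index_two hidx (a := ⟨t₀, ht₀P⟩) (b := ⟨_, hxp⟩)).2
          (iff_of_false ht₀Q hnQ)
      obtain ⟨i, hi⟩ : ∃ i, f x = DihedralGroup.r i := by
        cases h : f x with
        | r i => exact ⟨i, rfl⟩
        | sr i =>
          exfalso
          rw [h, DihedralGroup.orderOf_sr] at hfx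
          exact hn'.not_two_dvd_nat (hfx ▸ dvd_refl 2)
      rw [MonoidHom.mem_ker, map_mul, map_mul, map_mul, map_inv, hj, hi] at hnq'
      simp [DihedralGroup.inv_r, DihedralGroup.sr_mul_r, DihedralGroup.r_mul_sr,
        DihedralGroup.sr_mul_sr] at hnq'
      rw [DihedralGroup.one_def, DihedralGroup.r.injEq] at hnq'
      have hi2 : (2 : ℕ) • i = 0 := by
        rw [two_nsmul]
        linear_combination (norm := ring_nf) (-1 : ZMod n) * hnq'
      have h6 : f x ^ 2 = 1 := by
        rw [hi, DihedralGroup.r_pow, DihedralGroup.one_def]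
        congr 1
        rw [nsmul_eq_mul] at hi2
        rw [mul_comm]; exact hi2
      have h7 := orderOf_dvd_of_pow_eq_one h6
      rw [hfx] at h7
      have := Nat.le_of_dvd two_pos h7
      obtain ⟨k, hk⟩ := hn'
      omega
  have hPσcard : Nat.card (P.map σ.toMonoidHom) = 2 * Nat.card Q := by
    rw [Subgroup.card_map_of_injective σ.injective, hPQ]
  have hidx2 : (P ⊓ P.map σ.toMonoidHom).relIndex (P.map σ.toMonoidHom) = 2 := by
    rw [hint]
    have h1 := Subgroup.card_mul_index (Q.subgroupOf (P.map σ.toMonoidHom))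
    rw [Nat.card_congr (Subgroup.subgroupOfEquivOfLe hQxP).toEquiv, hPσcard, mul_comm 2] at h1
    exact Nat.eq_of_mul_eq_mul_left Nat.card_pos h1
  have hN2 : ((P ⊓ P.map σ.toMonoidHom).subgroupOf (P.map σ.toMonoidHom)).Normal :=
    Subgroup.normal_of_index_eq_two hidx2
  have hσHgen : ∀ S : Subgroup G, P ≤ S → P.map σ.toMonoidHom ≤ S → H ≤ S := by
    intro S h1 h2
    refine hgen S (hQP.trans h1) ?_ (h1 ht₀P)
    rw [hσP] at h2
    have hw : t₀ * ((x : G) * t₀ * (x : G)⁻¹) ∈ S := mul_mem (h1 ht₀P) (h2 ⟨t₀, ht₀P, rfl⟩)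
    set th : ↥H := ⟨t₀, hPH ht₀P⟩ with hth
    obtain ⟨j, hj⟩ := hsr th ht₀P ht₀Q
    obtain ⟨i, hi⟩ : ∃ i, f x = DihedralGroup.r i := by
      cases h : f x with
      | r i => exact ⟨i, rfl⟩
      | sr i =>
        exfalso
        rw [h, DihedralGroup.orderOf_sr] at hfx
        exact hn'.not_two_dvd_nat (hfx ▸ dvd_refl 2)
    have hd : x ^ 2 * (th * (x * th * x⁻¹)) ∈ f.ker ∨ (x ^ 2)⁻¹ * (th * (x * th * x⁻¹)) ∈ f.ker := by
      simp only [MonoidHom.mem_ker, map_mul, map_inv, map_pow, hj, hi]
      simp [DihedralGroup.inv_r, DihedralGroup.sr_mul_r, DihedralGroup.r_mul_sr,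
        DihedralGroup.sr_mul_sr, DihedralGroup.r_mul_r]
      refine Or.inl ?_
      rw [DihedralGroup.one_def]
      congr 1
      ring
    have hx2 : (x : G) ^ 2 ∈ S := by
      rw [hker] at hd
      rcases hd with hd | hd
      · have h3 : (x ^ 2 * (th * (x * th * x⁻¹)) : ↥H).1 ∈ S := h1 (hQP ((hQmem _).2 hd))
        have h4 := mul_mem h3 (inv_mem hw)
        simpa [hth, mul_assoc] using h4
      · have h3 : ((x ^ 2)⁻¹ * (th * (x * th * x⁻¹)) : ↥H).1 ∈ S := h1 (hQP ((hQmem _).2 hd))
        have h4 := mul_mem hw (inv_mem h3)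
        simpa [hth, mul_assoc] using h4
    exact Cfsg.Agent.DihedralTop.mem_of_sq_mem (by rwa [Subgroup.orderOf_coe]) hx2
  have hh1 : ∀ N : Subgroup G, N ≤ P → (N.subgroupOf P).Normal → N.map σ.toMonoidHom = N → N = ⊥ := by
    intro N hNP hNn hNσ
    have hNQ : N ≤ Q := fun a ha => hint ▸ ⟨hNP ha, by rw [← hNσ] at ha; exact Subgroup.map_mono hNP ha⟩
    have hconjP : ∀ p ∈ P, ∀ a ∈ N, p * a * p⁻¹ ∈ N := fun p hp a ha =>
      hNn.conj_mem ⟨a, hNP ha⟩ ha ⟨p, hp⟩
    have hNH : H ≤ Subgroup.normalizer (N : Set G) := by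
      refine hσHgen _ ?_ ?_
      · intro p hp
        rw [Subgroup.mem_normalizer_iff]
        intro a
        refine ⟨fun ha => hconjP p hp a ha, fun ha => ?_⟩
        have := hconjP p⁻¹ (inv_mem hp) _ ha
        simpa [mul_assoc] using this
      · have h1 : P ≤ Subgroup.normalizer (N : Set G) := by
          intro p hp
          rw [Subgroup.mem_normalizer_iff]
          intro a
          refine ⟨fun ha => hconjP p hp a ha, fun ha => ?_⟩
          have := hconjP p⁻¹ (inv_mem hp) _ ha
          simpa [mul_assoc] using this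
        refine (Subgroup.map_mono h1).trans ?_
        rw [Subgroup.map_equiv_normalizer_eq N σ, hNσ]
    refine hnorm N hNQ (fun h hh a ha => (Subgroup.mem_normalizer_iff.1 (hNH hh) a).1 ha) ?_
    refine Subgroup.eq_of_le_of_card_ge ?_ (Subgroup.card_map_of_injective (MulAut.conj y).injective).ge
    rintro _ ⟨a, ha, rfl⟩
    have h1 : σ a ∈ N := hNσ.le ⟨a, ha, rfl⟩
    have h2 := (Subgroup.mem_normalizer_iff.1 (hNH (inv_mem x.2)) (σ a)).1 h1
    simpa [hσ, hg, mul_assoc] using h2
  -- central elements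
  have hcentral : ∀ z ∈ P, (∀ h ∈ H, Commute z h) → (∀ h ∈ H, Commute (y * z * y⁻¹) h) → z = 1 := by
    intro z hz h1 h2
    have hzQ : z ∈ Q := by
      by_contra hne
      obtain ⟨j, hj⟩ := hsr ⟨z, hPH hz⟩ hz hne
      have := congrArg f (Subtype.ext (h1 x x.2) : (⟨z, hPH hz⟩ : ↥H) * x = x * ⟨z, hPH hz⟩)
      rw [map_mul, map_mul, hj] at this
      obtain ⟨i, hi⟩ : ∃ i, f x = DihedralGroup.r i := by
        cases h : f x with
        | r i => exact ⟨i, rfl⟩
        | sr i =>
          exfalso
          rw [h, DihedralGroup.orderOf_sr] at hfx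
          exact hn'.not_two_dvd_nat (hfx ▸ dvd_refl 2)
      rw [hi, DihedralGroup.sr_mul_r, DihedralGroup.r_mul_sr, DihedralGroup.sr.injEq] at this
      have h6 : f x ^ 2 = 1 := by
        rw [hi, DihedralGroup.r_pow, DihedralGroup.one_def]
        congr 1
        push_cast
        linear_combination this
      have h7 := orderOf_dvd_of_pow_eq_one h6
      rw [hfx] at h7
      have := Nat.le_of_dvd two_pos h7
      obtain ⟨k, hk⟩ := hn'
      omega
    set z' := y * z * y⁻¹ with hz'
    have hzP : ∀ p ∈ P, Commute z p := fun p hp => h1 p (hPH hp)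
    set N := Subgroup.closure ({z, z'} : Set G) with hN
    have hNc : ∀ a ∈ N, ∀ h ∈ H, Commute a h := by
      intro a ha h hh
      have : N ≤ Subgroup.centralizer ({h} : Set G) := by
        rw [hN, Subgroup.closure_le]
        rintro b (rfl | rfl)
        · exact Subgroup.mem_centralizer_singleton_iff.2 (h1 h hh)
        · exact Subgroup.mem_centralizer_singleton_iff.2 (h2 h hh)
      exact Subgroup.mem_centralizer_singleton_iff.1 (this ha)
    have hz'Q : z' ∈ Q := by
      by_contra hne
      have hz'P := hyP z hz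
      have hc := houter z' hz'P hne fun p hp => h2 p (hPH hp)
      -- `z'` is central in `H`, yet maps to a reflection
      obtain ⟨j, hj⟩ := hsr ⟨z', hPH hz'P⟩ hz'P hne
      have := congrArg f (Subtype.ext (h2 x x.2) : (⟨z', hPH hz'P⟩ : ↥H) * x = x * ⟨z', hPH hz'P⟩)
      rw [map_mul, map_mul, hj] at this
      obtain ⟨i, hi⟩ : ∃ i, f x = DihedralGroup.r i := by
        cases h : f x with
        | r i => exact ⟨i, rfl⟩
        | sr i =>
          exfalso
          rw [h, DihedralGroup.orderOf_sr] at hfx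
          exact hn'.not_two_dvd_nat (hfx ▸ dvd_refl 2)
      rw [hi, DihedralGroup.sr_mul_r, DihedralGroup.r_mul_sr, DihedralGroup.sr.injEq] at this
      have h6 : f x ^ 2 = 1 := by
        rw [hi, DihedralGroup.r_pow, DihedralGroup.one_def]
        congr 1
        push_cast
        linear_combination this
      have h7 := orderOf_dvd_of_pow_eq_one h6
      rw [hfx] at h7
      have := Nat.le_of_dvd two_pos h7
      obtain ⟨k, hk⟩ := hn'
      omega
    have hNQ : N ≤ Q := by
      rw [hN, Subgroup.closure_le]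
      rintro b (rfl | rfl)
      · exact hzQ
      · exact hz'Q
    have hNy : N.map (MulAut.conj y).toMonoidHom = N := by
      refine Subgroup.eq_of_le_of_card_ge ?_ (Subgroup.card_map_of_injective (MulAut.conj y).injective).ge
      rw [hN, MonoidHom.map_closure, Subgroup.closure_le]
      rintro _ ⟨b, hb | hb, rfl⟩
      · subst hb
        exact Subgroup.subset_closure (Or.inr rfl)
      · rw [Set.mem_singleton_iff] at hb
        subst hb
        refine Subgroup.subset_closure (Or.inl ?_)
        have := (hy2Q z hzQ).2 hzP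
        simpa [hz', pow_two, mul_assoc] using this
    have hbot := hnorm N hNQ (fun h hh a ha => by
      rw [← (hNc a ha h hh).eq, mul_inv_cancel_right]; exact ha) hNy
    have : z ∈ N := Subgroup.subset_closure (Or.inl rfl)
    rwa [hbot, Subgroup.mem_bot] at this
  have hh2 : ∀ z ∈ P, (∀ i, i ≤ 2 → ∀ p ∈ P, Commute z ((σ ^ i) p)) → z = 1 := by
    intro z hz hcom
    have hzH : ∀ h ∈ H, Commute z h := by
      have : H ≤ Subgroup.centralizer ({z} : Set G) := by
        refine hσHgen _ (fun p hp => ?_) ?_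
        · exact Subgroup.mem_centralizer_singleton_iff.2 (by simpa using (hcom 0 (by omega) p hp).symm.eq)
        · rintro _ ⟨p, hp, rfl⟩
          exact Subgroup.mem_centralizer_singleton_iff.2 (by simpa using (hcom 1 (by omega) p hp).symm.eq)
      exact fun h hh => (Subgroup.mem_centralizer_singleton_iff.1 (this hh)).symm
    have hσz : ∀ h ∈ H, Commute z (σ h) := by
      have : H ≤ (Subgroup.centralizer ({z} : Set G)).comap σ.toMonoidHom := by
        refine hσHgen _ (fun p hp => ?_) ?_
        · exact Subgroup.mem_centralizer_singleton_iff.2 (by simpa using (hcom 1 (by omega) p hp).symm.eq)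
        · rintro _ ⟨p, hp, rfl⟩
          exact Subgroup.mem_centralizer_singleton_iff.2
            (by simpa [pow_two, MulAut.mul_apply] using (hcom 2 le_rfl p hp).symm.eq)
      exact fun h hh => (Subgroup.mem_centralizer_singleton_iff.1 (this hh)).symm
    -- `z = y z' y⁻¹` with both central
    set z₀ := y⁻¹ * z * y with hz0
    have hz0P : z₀ ∈ P := by
      have : z ∈ P.map (MulAut.conj y).toMonoidHom := hyP'.symm ▸ hz
      obtain ⟨p, hp, he⟩ := this
      have : z₀ = p := by rw [hz0, ← he]; simp [mul_assoc]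
      exact this ▸ hp
    have hz0H : ∀ h ∈ H, Commute z₀ h := by
      intro h hh
      have h1 := hσz h hh
      have hxz : Commute z (x : G) := hzH x x.2
      have h2 : Commute ((x : G) * (y * z₀ * y⁻¹) * (x : G)⁻¹) (σ h) := by
        have : (x : G) * (y * z₀ * y⁻¹) * (x : G)⁻¹ = z := by
          rw [hz0, show y * (y⁻¹ * z * y) * y⁻¹ = z by group, ← hxz.eq, mul_inv_cancel_right]
        rwa [this]
      have h3 : (x : G) * (y * z₀ * y⁻¹) * (x : G)⁻¹ = σ z₀ := by simp [hσ, hg, mul_assoc]
      rw [h3] at h2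
      exact σ.injective (((map_mul σ _ _).trans h2.eq).trans (map_mul σ _ _).symm)
    have := hcentral z₀ hz0P hz0H (by
      intro h hh
      rw [show y * z₀ * y⁻¹ = z by rw [hz0]; group]
      exact hzH h hh)
    rw [hz0] at this
    calc z = y * (y⁻¹ * z * y) * y⁻¹ := by group
      _ = 1 := by rw [this]; group
  obtain ⟨T, s, u, hT, -, hs, hPwin, hcard, hord, hu1, huT, hhi, hlo, hnear, hu⟩ :=
    Cfsg.Agent.ShiftChain.order_data P σ 2 2 Nat.prime_two (by omega) hN2 hidx2 hh1 hh2
  have hQT : ∃ c, Nat.card Q = 2 ^ c ∧ T = c + 1 ∧ 1 ≤ c := by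
    obtain ⟨c, hc⟩ := IsPGroup.iff_card.1 hQ2
    refine ⟨c, hc, ?_, ?_⟩
    · rw [hPQ, hc, ← pow_succ'] at hT
      exact (Nat.pow_right_injective le_rfl hT).symm
    · by_contra hlt
      apply hQ1
      rw [Subgroup.eq_bot_iff_card, hc, show c = 0 by omega, pow_zero]
  obtain ⟨c, hQc, hTc, hc1⟩ := hQT
  have hT6 : T ≠ 6 := by
    rintro rfl
    have hu4 : u = 4 := by omega
    subst hu4
    have hw16 : Q = Cfsg.Agent.ShiftChain.win s 1 6 := by
      symm
      apply Subgroup.eq_of_le_of_card_ge
      · rw [← hint]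
        refine le_inf ?_ ?_
        · rw [hPwin]; exact Cfsg.Agent.ShiftChain.win_mono (by omega) le_rfl
        · refine Cfsg.Agent.ShiftChain.win_le fun k h1 h2 => ⟨s (k - 1), ?_, ?_⟩
          · rw [hPwin]; exact Cfsg.Agent.ShiftChain.mem_win (Nat.zero_le _) (by omega)
          · change σ (s (k - 1)) = s k
            rw [hs]; congr 1; omega
      · rw [hQc, hcard 1 5 (by omega), show c = 5 by omega]
    have hw05 : R = Cfsg.Agent.ShiftChain.win s 0 5 := by
      apply Subgroup.map_injective (f := σ.toMonoidHom) σ.injective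
      have h1 : R.map σ.toMonoidHom = Q := by
        have : R.map σ.toMonoidHom = (R.map (MulAut.conj y).toMonoidHom).map (MulAut.conj (x : G)).toMonoidHom := by
          conv_rhs => rw [Subgroup.map_map]
          congr 1; ext a; simp [hσ, hg, mul_assoc]
        rw [this, hyR]
        refine Subgroup.eq_of_le_of_card_ge ?_ (Subgroup.card_map_of_injective (MulAut.conj (x : G)).injective).ge
        rintro _ ⟨q, hq, rfl⟩
        exact hQn x x.2 q hq
      rw [h1, hw16, Cfsg.Agent.ShiftChain.win, Cfsg.Agent.ShiftChain.win, MonoidHom.map_closure]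
      congr 1
      ext a
      simp only [Set.mem_image, Set.mem_Ico]
      constructor
      · rintro ⟨k, ⟨h1, h2⟩, rfl⟩
        refine ⟨s (k - 1), ⟨k - 1, ⟨Nat.zero_le _, by omega⟩, rfl⟩, ?_⟩
        change σ (s (k - 1)) = s k
        rw [hs]; congr 1; omega
      · rintro ⟨_, ⟨k, ⟨h1, h2⟩, rfl⟩, rfl⟩
        exact ⟨k + 1, ⟨by omega, by omega⟩, (hs k).symm⟩
    refine six_absurd s (x : G) y (by rwa [Subgroup.orderOf_coe]) (fun i => hs i) hcard hord
      hnear (hu.resolve_left (by omega)) ?_ ?_ ?_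
    · intro q hq
      rw [← hw16] at hq ⊢
      exact hQn x x.2 q hq
    · intro r hr
      rw [← hw05] at hr
      obtain ⟨q, hq, he⟩ := hr
      exact ⟨q, hw16 ▸ hq, he⟩
    · intro q hq
      rw [← hw16] at hq
      rw [← hw05]
      exact ⟨q, hq, rfl⟩
  have hc : c = 1 ∨ c = 2 ∨ c = 3 := by omega
  -- an involution outside `Q`
  have hQab : (∀ a ∈ Q, a ^ 2 = 1) ∧ (c = 3 → ∃ m ∈ Q, m ≠ 1 ∧ (∀ h ∈ H, Commute h m) ∧
      ∀ q ∈ Q, Commute (x : G) q → q = 1 ∨ q = m) := by
    rcases hc with rfl | rfl | rfl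
    · refine ⟨fun a ha => ?_, fun h => absurd h (by omega)⟩
      have : (⟨a, ha⟩ : Q) ^ Nat.card Q = 1 := pow_card_eq_one'
      rw [hQc, pow_one] at this
      exact Subtype.ext_iff.1 this
    · refine ⟨fun a ha => ?_, fun h => absurd h (by omega)⟩
      by_contra ha2
      have hord4 : orderOf a = 4 := by
        have h4 : (⟨a, ha⟩ : Q) ^ Nat.card Q = 1 := pow_card_eq_one'
        rw [hQc] at h4
        have h5 : a ^ (2 ^ (1 + 1)) = 1 := Subtype.ext_iff.1 h4
        exact orderOf_eq_prime_pow (p := 2) (n := 1) (by simpa using ha2) h5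
      have hQz : Q = Subgroup.zpowers a := by
        symm
        apply Subgroup.eq_of_le_of_card_ge (Subgroup.zpowers_le.2 ha)
        rw [Nat.card_zpowers, hord4, hQc]; norm_num
      have hxa : Commute (x : G) a := by
        have hmem : (x : G) * a * (x : G)⁻¹ ∈ Subgroup.zpowers a := hQz ▸ hQn x x.2 a ha
        obtain ⟨i, hi⟩ := (mem_powers_iff_mem_zpowers.2 hmem)
        simp only at hi
        have hi4 : a ^ i = a ^ (i % 4) := by rw [← hord4, pow_mod_orderOf]
        rw [hi4] at hi
        have hcases : i % 4 = 0 ∨ i % 4 = 1 ∨ i % 4 = 2 ∨ i % 4 = 3 := by omega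
        have hne : ∀ k, k = 0 ∨ k = 2 → a ^ k ≠ (x : G) * a * (x : G)⁻¹ := by
          intro k hk he
          apply ha2
          have h5 : ((x : G) * a * (x : G)⁻¹) ^ 2 = 1 := by
            rw [← he, ← pow_mul]
            rcases hk with rfl | rfl
            · simp
            · rw [show 2 * 2 = orderOf a by omega, pow_orderOf_eq_one]
          rwa [conj_pow, conj_eq_one_iff] at h5
        rcases hcases with h | h | h | h <;> rw [h] at hi
        · exact absurd hi (hne 0 (Or.inl rfl))
        · rw [pow_one] at hi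
          exact mul_inv_eq_iff_eq_mul.1 hi.symm
        · exact absurd hi (hne 2 (Or.inr rfl))
        · exfalso
          apply ha2
          refine Cfsg.Agent.DihedralTop.fix_of_odd (x := (x : G)) (q := a)
            (by rwa [Subgroup.orderOf_coe]) (a ^ 2) ?_ ?_ ?_
          · rw [← hi, pow_succ' a 2]
          · have h5 : (x : G) * a ^ 2 * (x : G)⁻¹ = a ^ 2 := by
              rw [← conj_pow, ← hi, ← pow_mul, ← pow_mod_orderOf, hord4]
            exact mul_inv_eq_iff_eq_mul.1 h5
          · rw [← pow_mul, show 2 * 2 = orderOf a by omega, pow_orderOf_eq_one]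
      have := hcase fun q hq => by
        rw [hQz] at hq
        obtain ⟨i, rfl⟩ := Subgroup.mem_zpowers_iff.1 hq
        exact hxa.zpow_right i
      omega
    · -- order sixteen
      have hnc : ¬ ∀ q ∈ Q, Commute (x : G) q := fun h => by
        have := hcase h
        omega
      obtain ⟨m, hm, hm1, hmH⟩ : ∃ m ∈ P, m ≠ 1 ∧ ∀ h ∈ H, Commute m h := by
        by_contra hne
        push Not at hne
        obtain ⟨T', hT', -, hT3, -⟩ := Cfsg.Agent.ShiftChain.order_bound P σ 2 1 Nat.prime_two le_rfl
          hN2 hidx2 hh1 (fun z hz hcom => by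
            by_contra hz1
            obtain ⟨h, hh, hne'⟩ := hne z hz hz1
            apply hne'
            have : H ≤ Subgroup.centralizer ({z} : Set G) := by
              refine hσHgen _ (fun p hp => ?_) ?_
              · exact Subgroup.mem_centralizer_singleton_iff.2
                  (by simpa using (hcom 0 (by omega) p hp).symm.eq)
              · rintro _ ⟨p, hp, rfl⟩
                exact Subgroup.mem_centralizer_singleton_iff.2
                  (by simpa using (hcom 1 le_rfl p hp).symm.eq)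
            exact (Subgroup.mem_centralizer_singleton_iff.1 (this hh)).symm)
        have := Nat.pow_right_injective le_rfl (hT'.symm.trans hT)
        omega
      set m' := y * m * y⁻¹ with hm'
      have hm'P : m' ∈ P := hyP m hm
      have hm'c : ∀ p ∈ P, Commute m' p := by
        intro p hp
        obtain ⟨p', hp', rfl⟩ : ∃ p' ∈ P, y * p' * y⁻¹ = p := by
          rw [← hyP'] at hp; exact hp
        exact (Commute.conj_iff y).2 (hmH p' (hPH hp'))
      have hm'H : ¬ ∀ h ∈ H, Commute m' h := fun h => hm1 (hcentral m hm hmH h)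
      have hmQ : m ∈ Q := by
        by_contra h
        exact hnc (houter m hm h fun p hp => hmH p (hPH hp))
      have hm'Q : m' ∈ Q := by
        by_contra h
        exact hnc (houter m' hm'P h hm'c)
      have hxm' : ¬ Commute (x : G) m' := by
        intro h
        apply hm'H
        have : H ≤ Subgroup.centralizer ({m'} : Set G) :=
          hgen _ (fun q hq => Subgroup.mem_centralizer_singleton_iff.2 (hm'c q (hQP hq)).symm)
            (Subgroup.mem_centralizer_singleton_iff.2 h)
            (Subgroup.mem_centralizer_singleton_iff.2 (hm'c t₀ ht₀P).symm)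
        exact fun a ha => (Subgroup.mem_centralizer_singleton_iff.1 (this ha)).symm
      have hxm : Commute (x : G) m := (hmH x x.2).symm
      have hord2 : ∀ a ∈ Q, (∀ q ∈ Q, Commute a q) → a ^ 8 = 1 := fun a ha _ => by
        have : (⟨a, ha⟩ : Q) ^ Nat.card Q = 1 := pow_card_eq_one'
        rw [hQc] at this
        exact Subtype.ext_iff.1 this
      set m'' := (x : G) * m' * (x : G)⁻¹ with hm''
      have hm''Q : m'' ∈ Q := hQn x x.2 m' hm'Q
      have hm''c : ∀ q ∈ Q, Commute m'' q := by
        intro q hq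
        have hq' : (x : G)⁻¹ * q * x ∈ Q := by simpa using hQn _ (inv_mem x.2) q hq
        have h5 := (Commute.conj_iff (x : G)).2 (hm'c _ (hQP hq'))
        rwa [show (x : G) * ((x : G)⁻¹ * q * x) * (x : G)⁻¹ = q by group] at h5
      -- the central subgroup generated by them
      set E := Subgroup.closure ({m, m'} : Set G) with hE
      set F := Subgroup.closure ({m, m', m''} : Set G) with hF
      have hFQ : F ≤ Q := by
        rw [hF, Subgroup.closure_le]
        rintro a (rfl | rfl | rfl)
        · exact hmQ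
        · exact hm'Q
        · exact hm''Q
      have hFc : ∀ a ∈ F, ∀ q ∈ Q, Commute a q := by
        intro a ha q hq
        have : F ≤ Subgroup.centralizer ({q} : Set G) := by
          rw [hF, Subgroup.closure_le]
          rintro b (rfl | rfl | rfl)
          · exact Subgroup.mem_centralizer_singleton_iff.2 (hmH q (hQH hq))
          · exact Subgroup.mem_centralizer_singleton_iff.2 (hm'c q (hQP hq))
          · exact Subgroup.mem_centralizer_singleton_iff.2 (hm''c q hq)
        exact Subgroup.mem_centralizer_singleton_iff.1 (this ha)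
      have hm2 : m ^ 2 = 1 := by
        -- otherwise the square of `m` and its translate generate too much
        by_contra h2
        have hcy : Subgroup.zpowers m ⊔ Subgroup.zpowers m' ≤ Q :=
          sup_le (Subgroup.zpowers_le.2 hmQ) (Subgroup.zpowers_le.2 hm'Q)
        set Z := Subgroup.zpowers m with hZ
        set Z' := Subgroup.zpowers m' with hZ'
        have hdisj : Z ⊓ Z' = ⊥ := by
          rw [eq_bot_iff]
          intro a ha
          obtain ⟨i, hi⟩ := Subgroup.mem_zpowers_iff.1 ha.1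
          obtain ⟨k, hk⟩ := Subgroup.mem_zpowers_iff.1 ha.2
          have hb : m ^ k = 1 := by
            refine hcentral _ (zpow_mem hm k) (fun h hh => (hmH h hh).zpow_left k) ?_
            intro h hh
            have : y * m ^ k * y⁻¹ = a := by rw [← conj_zpow, ← hm', hk]
            rw [this, ← hi]
            exact (hmH h hh).zpow_left i
          rw [Subgroup.mem_bot, ← hk, hm', conj_zpow, hb]
          group
        have hcard4 : 4 ≤ Nat.card Z := by
          rw [hZ, Nat.card_zpowers]
          have h8 : m ^ 2 ^ 3 = 1 := hord2 m hmQ fun q hq => hmH q (hQH hq)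
          obtain ⟨e, he, heq⟩ := (Nat.dvd_prime_pow Nat.prime_two).1 (orderOf_dvd_of_pow_eq_one h8)
          rw [heq]
          by_contra hlt
          apply h2
          rw [← orderOf_dvd_iff_pow_eq_one, heq]
          have : e ≤ 1 := by
            by_contra hgt
            exact hlt (le_trans (by norm_num) (Nat.pow_le_pow_right two_pos (show 2 ≤ e by omega)))
          exact dvd_trans (pow_dvd_pow 2 this) (by norm_num)
        have hcz' : Nat.card Z' = Nat.card Z := by
          rw [hZ, hZ', Nat.card_zpowers, Nat.card_zpowers, hm']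
          exact orderOf_injective (MulAut.conj y).toMonoidHom (MulAut.conj y).injective m
        have h5 : Z'.relIndex Z ≤ Z'.relIndex Q := Subgroup.relIndex_le_of_le_right
          (Subgroup.zpowers_le.2 hmQ) Subgroup.index_ne_zero_of_finite
        rw [← Subgroup.inf_relIndex_right, inf_comm, hdisj, Subgroup.relIndex_bot_left] at h5
        have h6 := Subgroup.card_mul_index (Z'.subgroupOf Q)
        rw [Nat.card_congr (Subgroup.subgroupOfEquivOfLe (Subgroup.zpowers_le.2 hm'Q)).toEquiv,
          hQc, hcz'] at h6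
        change Nat.card Z * Z'.relIndex Q = _ at h6
        nlinarith
      have hm'2 : m' ^ 2 = 1 := by rw [hm', conj_pow, hm2]; group
      have hm''2 : m'' ^ 2 = 1 := by rw [hm'', conj_pow, hm'2]; group
      have hF2 : ∀ a ∈ F, a ^ 2 = 1 := by
        intro a ha
        induction ha using Subgroup.closure_induction with
        | mem b hb =>
          rcases hb with rfl | rfl | rfl
          · exact hm2
          · exact hm'2
          · exact hm''2
        | one => simp
        | mul a b ha hb iha ihb => rw [(hFc a ha b (hFQ hb)).mul_pow, iha, ihb, one_mul]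
        | inv a _ iha => rw [inv_pow, iha, inv_one]
      have hmm' : m ≠ m' := fun h => hm'H (h ▸ hmH)
      have hm'1 : m' ≠ 1 := fun h => hxm' (h ▸ Commute.one_right _)
      have hEmem : ∀ a ∈ E, a = 1 ∨ a = m ∨ a = m' ∨ a = m * m' := by
        intro a ha
        have hc' : Commute m m' := hmH m' (hPH hm'P)
        have e1 : m * m = 1 := by rw [← sq, hm2]
        have e2 : m' * m' = 1 := by rw [← sq, hm'2]
        have e1' : ∀ c, m * (m * c) = c := fun c => by rw [← mul_assoc, e1, one_mul]
        induction ha using Subgroup.closure_induction with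
        | mem b hb => rcases hb with rfl | rfl <;> simp
        | one => simp
        | mul a b _ _ iha ihb =>
          rcases iha with rfl | rfl | rfl | rfl <;> rcases ihb with rfl | rfl | rfl | rfl <;>
            simp [mul_assoc, e1, e2, hc'.symm.eq, hc'.symm.left_comm, e1']
        | inv a _ iha =>
          have f1 : m⁻¹ = m := inv_eq_of_mul_eq_one_right e1
          have f2 : m'⁻¹ = m' := inv_eq_of_mul_eq_one_right e2
          rcases iha with rfl | rfl | rfl | rfl <;> simp [f1, f2, hc'.symm.eq]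
      have hfixm : ∀ c', (x : G) * m' * (x : G)⁻¹ = m' * c' → c' = m → False := by
        intro c' he hcm
        rw [hcm] at he
        exact hm1 (Cfsg.Agent.DihedralTop.fix_of_odd (by rwa [Subgroup.orderOf_coe]) m he hxm hm2)
      have hm''E : m'' ∉ E := by
        intro h
        rcases hEmem _ h with h | h | h | h
        · exact hm'1 (conj_eq_one_iff.1 h)
        · apply hmm'
          have h5 : (x : G)⁻¹ * m'' * x = m' := by rw [hm'']; group
          rw [← h5, h, mul_assoc, ← hxm.eq, inv_mul_cancel_left]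
        · exact hxm' (mul_inv_eq_iff_eq_mul.1 h)
        · exact hfixm m (h.trans (hmH m' (hPH hm'P)).eq) rfl
      have hEF : E ≤ F := Subgroup.closure_mono (by
        intro a ha; rcases ha with rfl | rfl <;> simp)
      have hEc : 4 ≤ Nat.card E := by
        have h5 : Nat.card (Subgroup.zpowers m) = 2 := by
          rw [Nat.card_zpowers, orderOf_eq_prime hm2 hm1]
        have hlt : Subgroup.zpowers m < E := by
          refine lt_of_le_of_ne (Subgroup.zpowers_le.2 (Subgroup.subset_closure (Or.inl rfl))) fun h => ?_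
          have hm'm : m' ∈ Subgroup.zpowers m := h ▸ Subgroup.subset_closure (Or.inr rfl)
          apply hm'H
          obtain ⟨i, hi⟩ := Subgroup.mem_zpowers_iff.1 hm'm
          exact fun a ha => hi ▸ (hmH a ha).zpow_left i
        obtain ⟨q, hq⟩ := Subgroup.card_dvd_of_le hlt.le
        rw [h5] at hq
        by_contra h4
        apply hlt.ne
        apply Subgroup.eq_of_le_of_card_ge hlt.le
        rw [h5]
        omega
      have hFQ' : F = Q := by
        apply Subgroup.eq_of_le_of_card_ge hFQ
        have hlt : E < F := lt_of_le_of_ne hEF fun h => hm''E (h ▸ Subgroup.subset_closure (by simp))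
        obtain ⟨q, hq⟩ := Subgroup.card_dvd_of_le hlt.le
        have hq2 : 2 ≤ q := by
          by_contra hlt'
          apply hlt.ne
          apply Subgroup.eq_of_le_of_card_ge hlt.le
          rw [hq]
          interval_cases q <;> simp
        rw [hQc, hq]
        nlinarith
      refine ⟨fun a ha => hF2 a (hFQ'.symm ▸ ha), fun _ => ⟨m, hmQ, hm1, fun h hh => (hmH h hh).symm, ?_⟩⟩
      intro q hq hxq
      -- decompose along `E`
      have hdec : ∀ a ∈ F, a ∈ E ∨ a * m'' ∈ E := by
        intro a ha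
        induction ha using Subgroup.closure_induction with
        | mem b hb =>
          rcases hb with rfl | rfl | rfl
          · exact Or.inl (Subgroup.subset_closure (Or.inl rfl))
          · exact Or.inl (Subgroup.subset_closure (Or.inr rfl))
          · exact Or.inr (by rw [← sq, hm''2]; exact one_mem _)
        | one => exact Or.inl (one_mem _)
        | mul a b ha hb iha ihb =>
          have hbm : Commute b m'' := hFc b hb m'' hm''Q
          rcases iha with ha' | ha' <;> rcases ihb with hb' | hb'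
          · exact Or.inl (mul_mem ha' hb')
          · exact Or.inr (by rw [mul_assoc]; exact mul_mem ha' hb')
          · refine Or.inr ?_
            rw [mul_assoc, hbm.eq, ← mul_assoc]; exact mul_mem ha' hb'
          · refine Or.inl ?_
            have h6 := mul_mem ha' hb'
            rwa [show a * m'' * (b * m'') = a * b * (m'' * m'') by
              rw [hbm.eq, ← mul_assoc, mul_assoc a m'' m'', ← sq, hm''2, mul_one, mul_one],
              ← sq, hm''2, mul_one] at h6
        | inv a ha iha =>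
          have h7 : a⁻¹ = a := inv_eq_of_mul_eq_one_right (by rw [← sq]; exact hF2 a ha)
          rw [h7]; exact iha
      have hm'Pc : Commute m m' := hmH m' (hPH hm'P)
      rcases hdec q (hFQ'.symm ▸ hq) with h | h
      · rcases hEmem q h with h' | h' | h' | h'
        · exact Or.inl h'
        · exact Or.inr h'
        · exact absurd (h' ▸ hxq) hxm'
        · exfalso
          apply hxm'
          rw [h'] at hxq
          have := hxm.inv_right.mul_right hxq
          rwa [inv_mul_cancel_left] at this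
      · exfalso
        apply hxm'
        set a := q * m'' with ha
        have hqe : q = a * m'' := by rw [ha, mul_assoc, ← sq, hm''2, mul_one]
        have hxm'' : Commute (x : G) m'' → Commute (x : G) m' := fun h5 => by
          have h6 : (x : G)⁻¹ * m'' * x = m' := by rw [hm'']; group
          rw [← h6]
          rw [mul_assoc, ← h5.eq, inv_mul_cancel_left]
          exact h5
        have key : ∀ k, k = 1 ∨ k = m → a = k * m' → Commute (x : G) m' := by
          intro k hk hak
          have hxk : Commute (x : G) k := by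
            rcases hk with rfl | rfl
            · exact Commute.one_right _
            · exact hxm
          have h5 : Commute (x : G) (m' * m'') := by
            have := hxk.inv_right.mul_right hxq
            rwa [hqe, hak, mul_assoc k, inv_mul_cancel_left] at this
          have h6 : m'' * ((x : G) * m'' * (x : G)⁻¹) = m' * m'' := by
            calc m'' * ((x : G) * m'' * (x : G)⁻¹)
                = (x : G) * m' * (x : G)⁻¹ * ((x : G) * m'' * (x : G)⁻¹) := by rw [hm'']
              _ = (x : G) * (m' * m'') * (x : G)⁻¹ := by group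
              _ = m' * m'' := by rw [h5.eq, mul_inv_cancel_right]
          have h7 : (x : G) * m'' * (x : G)⁻¹ = m' := by
            have h8 : Commute m' m'' := hm'c m'' (hQP hm''Q)
            rw [h8.eq] at h6
            exact mul_left_cancel h6
          have h9 : (x : G) ^ 2 * m' = m' * (x : G) ^ 2 := by
            refine mul_inv_eq_iff_eq_mul.1 ?_
            calc (x : G) ^ 2 * m' * ((x : G) ^ 2)⁻¹ = (x : G) * m'' * (x : G)⁻¹ := by rw [hm'', sq]; group
              _ = m' := h7
          exact Subgroup.mem_centralizer_singleton_iff.1 (Cfsg.Agent.DihedralTop.mem_of_sq_mem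
            (by rwa [Subgroup.orderOf_coe]) (S := Subgroup.centralizer ({m'} : Set G))
            (Subgroup.mem_centralizer_singleton_iff.2 h9))
        rcases hEmem a h with h' | h' | h' | h'
        · apply hxm''
          rw [hqe, h', one_mul] at hxq
          exact hxq
        · apply hxm''
          have := hxm.inv_right.mul_right hxq
          rwa [hqe, h', inv_mul_cancel_left] at this
        · exact key 1 (Or.inl rfl) (by rw [one_mul]; exact h')
        · exact key m (Or.inr rfl) h'
  obtain ⟨hQexp, hm⟩ := hQab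
  -- an involution of `R` outside `Q`
  obtain ⟨t, htR, htQ⟩ : ∃ t ∈ R, t ∉ Q := SetLike.not_le_iff_exists.1 fun h =>
    hRQ (Subgroup.eq_of_le_of_card_ge h (by rw [hRcard]))
  have ht2 : t ^ 2 = 1 := by
    obtain ⟨q, hq, rfl⟩ := htR
    rw [← map_pow, hQexp q hq, map_one]
  have htP : t ∈ P := hRP htR
  set th : ↥H := ⟨t, hPH htP⟩ with hth
  have hth2 : th ^ 2 = 1 := Subtype.ext ht2
  have hthQ : th ∉ Q0 := fun h => htQ ((hQmem th).2 h)
  have hQ0c : ∀ a ∈ Q0, ∀ b ∈ Q0, Commute a b := by
    intro a ha b hb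
    have hab := hQexp _ ((hQmem _).2 (mul_mem ha hb))
    have ha2 := hQexp _ ((hQmem _).2 ha)
    have hb2 := hQexp _ ((hQmem _).2 hb)
    apply Subtype.ext
    simp only [Subgroup.coe_mul] at hab ⊢
    calc (a : G) * b = (a : G) * ((a : G) * b) ^ 2 * b := by rw [hab, mul_one]
      _ = (a : G) ^ 2 * ((b : G) * a) * (b : G) ^ 2 := by simp only [sq]; group
      _ = (b : G) * a := by rw [ha2, hb2, one_mul, mul_one]
  -- a rotation inverted by `t`
  obtain ⟨x', hx'n, hfx', hinv⟩ : ∃ x' : ↥H, orderOf x' = n ∧ orderOf (f x') = n ∧ th * x' * th⁻¹ = x'⁻¹ := by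
    have htinv : th⁻¹ = th := inv_eq_of_mul_eq_one_right (by rw [← sq, hth2])
    set w := th * (x * th * x⁻¹) with hw
    have hwinv : th * w * th⁻¹ = w⁻¹ := by
      rw [hw, htinv]
      simp only [mul_inv_rev, inv_inv, htinv, mul_assoc]
      rw [← mul_assoc th th, show th * th = 1 by rw [← sq, hth2], one_mul]
    obtain ⟨j, hj⟩ := hsr th htP htQ
    obtain ⟨i, hi⟩ : ∃ i, f x = DihedralGroup.r i := by
      cases h : f x with
      | r i => exact ⟨i, rfl⟩
      | sr i =>
        exfalso
        rw [h, DihedralGroup.orderOf_sr] at hfx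
        exact hn'.not_two_dvd_nat (hfx ▸ dvd_refl 2)
    have hfw : orderOf (f w) = n := by
      have hd : f w = f x ^ 2 ∨ f w = (f x ^ 2)⁻¹ := by
        simp only [hw, map_mul, map_inv, hj, hi]
        simp [DihedralGroup.inv_r, DihedralGroup.sr_mul_r, DihedralGroup.r_mul_sr,
          DihedralGroup.sr_mul_sr, DihedralGroup.r_mul_r]
        exact Or.inr (by ring)
      have h5 : orderOf (f x ^ 2) = n := by
        rw [Nat.Coprime.orderOf_pow, hfx]
        rw [hfx]; exact Nat.coprime_two_right.2 hn'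
      rcases hd with h | h
      · rw [h, h5]
      · rw [h, orderOf_inv, h5]
    obtain ⟨a, b, hb, hab⟩ := Nat.exists_eq_two_pow_mul_odd (orderOf_pos w).ne'
    have hodd : Odd (orderOf (w ^ 2 ^ a)) := by
      rw [orderOf_pow, hab, Nat.gcd_mul_right_left, Nat.mul_div_cancel_left _ (pow_pos two_pos a)]
      exact hb
    have hfa : orderOf (f (w ^ 2 ^ a)) = n := by
      rw [map_pow, Nat.Coprime.orderOf_pow, hfw]
      rw [hfw]
      exact Nat.Coprime.pow_right a (Nat.coprime_two_right.2 hn')
    refine ⟨w ^ 2 ^ a, ?_, hfa, ?_⟩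
    · apply Nat.dvd_antisymm
      · apply orderOf_dvd_of_pow_eq_one
        have hmem : (w ^ 2 ^ a) ^ n ∈ Q0 := by
          rw [← hker, MonoidHom.mem_ker, map_pow]
          exact orderOf_dvd_iff_pow_eq_one.1 hfa.dvd
        obtain ⟨k, hk⟩ := hQ02 ⟨_, hmem⟩
        rw [Subtype.ext_iff, SubmonoidClass.coe_pow, OneMemClass.coe_one] at hk
        rw [← orderOf_eq_one_iff, ← Nat.dvd_one]
        rw [← (Nat.Coprime.pow_right k (Nat.coprime_two_right.2
          (hodd.of_dvd_nat (orderOf_pow_dvd n)))).gcd_eq_one]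
        exact Nat.dvd_gcd dvd_rfl (orderOf_dvd_of_pow_eq_one hk)
      · calc n = orderOf (f (w ^ 2 ^ a)) := hfa.symm
          _ ∣ orderOf (w ^ 2 ^ a) := orderOf_map_dvd f _
    · rw [← conj_pow, hwinv, inv_pow]
  have hx'c : (∀ q ∈ Q0, Commute x' q) → ∀ q ∈ Q, Commute (x : G) q := by
    intro h q hq
    exact congrArg Subtype.val
      (transfer_cent f hn' Q0 hker hQ02 x' h hfx' x hxodd ⟨q, hQH hq⟩ ((hQmem _).1 hq))
  rcases hc with rfl | rfl | rfl
  · refine ⟨Or.inl (by rw [hPQ, hQc]; norm_num), Or.inl ?_⟩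
    exact Cfsg.Agent.DihedralTop.klein f hsurj Q0 hker hn' x' th hx'n hfx' hth2 hthQ hinv
      hQ0c hQ0n hQ02 (by rw [← hQcard, hQc]; norm_num)
  · refine ⟨Or.inr (Or.inl (by rw [hPQ, hQc]; norm_num)), Or.inr (Or.inl ?_)⟩
    refine Cfsg.Agent.DihedralTop.sym_four f hsurj Q0 hker hn' x' th hx'n hfx' hth2 hthQ hinv
      hQ0c hQ0n hQ02 (by rw [← hQcard, hQc]; norm_num) fun h => ?_
    have := hcase (hx'c h)
    omega
  · refine ⟨Or.inr (Or.inr (by rw [hPQ, hQc]; norm_num)), Or.inr (Or.inr ?_)⟩
    obtain ⟨m, hmQ, hm1, hmH, hfix⟩ := hm rfl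
    refine Cfsg.Agent.DihedralTop.sym_four_prod_two f hsurj Q0 hker hn' x' th hx'n hfx' hth2 hthQ
      hinv hQ0c hQ0n hQ02 (by rw [← hQcard, hQc]; norm_num)
      (fun q hq => Subtype.ext (hQexp _ ((hQmem q).2 hq))) ⟨m, hQH hmQ⟩ ((hQmem _).1 hmQ)
      (fun h => hm1 (congrArg Subtype.val h)) (fun g => Subtype.ext (hmH g g.2)) ?_
    intro q hq hxq
    -- `x` is a power of `x'` times an element of `Q`
    have hxq' : Commute x q := by
      obtain ⟨q₁, hq₁, i, he | he⟩ := Cfsg.Agent.DihedralTop.decomp f hsurj Q0 hker hn' x' th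
        hfx' hth2 hthQ x
      · rw [he]
        exact (hQ0c q₁ hq₁ q hq).mul_left (hxq.zpow_left i)
      · exfalso
        have h5 : orderOf (f x) ∣ 2 := by
          have h6 : f q₁ = 1 := by rw [← MonoidHom.mem_ker, hker]; exact hq₁
          rw [he, map_mul, h6, one_mul]
          refine orderOf_dvd_of_pow_eq_one ?_
          rw [← map_pow, sq, mul_assoc, ← mul_assoc th,
            Cfsg.Agent.DihedralTop.t_zpow x' th hinv, mul_assoc, ← sq th, hth2, mul_one,
            zpow_neg, mul_inv_cancel, map_one]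
        rw [hfx] at h5
        have := Nat.le_of_dvd two_pos h5
        obtain ⟨k, hk⟩ := hn'
        omega
    rcases hfix q ((hQmem q).2 hq) (congrArg Subtype.val hxq') with h | h
    · exact Or.inl (Subtype.ext h)
    · exact Or.inr (Subtype.ext h)

end Cfsg.Agent.S4385
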