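import Cfsg.Statements.S4387
import Cfsg.Agent.SolvStruct.Basics

set_option autoImplicit false
open Pointwise
open Cfsg
open scoped Pointwise

namespace Cfsg.Agent.S4387

/-- Let G be a non-trivial finite group in which any two maximal subgroups are conjugate. Then G is cyclic of prime-power order. -/
theorem result {G : Type*} [Group G] [Finite G] [Nontrivial G]
    (h : ∀ M N : Subgroup G, IsCoatom M → IsCoatom N → ∃ g : G, N = MulAut.conj g • M) :
    IsCyclic G ∧ IsPrimePow (Nat.card G) := by
  rcases IsCoatomic.eq_top_or_exists_le_coatom (⊥ : Subgroup G) with h0 | ⟨M, hM, -⟩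
  · exact absurd h0 bot_ne_top
  obtain ⟨g, hg⟩ := Cfsg.Lib.SolvStruct.exists_not_mem_conj M hM.1
  have htop : Subgroup.zpowers g = ⊤ := by
    rcases IsCoatomic.eq_top_or_exists_le_coatom (Subgroup.zpowers g) with h1 | ⟨N, hN, hle⟩
    · exact h1
    obtain ⟨x, rfl⟩ := h M N hM hN
    have h2 := hle (Subgroup.mem_zpowers g)
    rw [Subgroup.mem_pointwise_smul_iff_inv_smul_mem, MulAut.smul_def, MulAut.conj_inv_apply] at h2
    exact absurd h2 (hg x)
  have hcyc : IsCyclic G := ⟨⟨g, fun y => Subgroup.mem_zpowers_iff.1 (htop ▸ Subgroup.mem_top y)⟩⟩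
  refine ⟨hcyc, ?_⟩
  haveI := hcyc
  letI := IsCyclic.commGroup (α := G)
  have huniq : ∀ N : Subgroup G, IsCoatom N → N = M := by
    intro N hN
    obtain ⟨x, rfl⟩ := h M N hM hN
    haveI : M.Normal := inferInstance
    ext z
    rw [Subgroup.mem_pointwise_smul_iff_inv_smul_mem, MulAut.smul_def, MulAut.conj_inv_apply]
    simp [mul_comm x⁻¹ z, mul_assoc]
  have hfin : ∀ q : ℕ, q.Prime → q ∣ Nat.card G → q ∣ M.index := by
    intro q hq hqd
    haveI := Fact.mk hq
    have hne : (powMonoidHom q : G →* G).range ≠ ⊤ := fun he => by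
      obtain ⟨z, hz⟩ := exists_prime_orderOf_dvd_card' q hqd
      have hsurj := MonoidHom.range_eq_top.1 he
      have hinj := Finite.injective_iff_surjective.2 hsurj
      have : z = 1 := hinj (by simp [← hz, pow_orderOf_eq_one])
      rw [this, orderOf_one] at hz
      exact hq.ne_one hz.symm
    rcases IsCoatomic.eq_top_or_exists_le_coatom (powMonoidHom q : G →* G).range with h1 | ⟨N, hN, hle⟩
    · exact absurd h1 hne
    rw [huniq N hN] at hle
    have h3 : IsPGroup q (G ⧸ M) := by
      intro z
      obtain ⟨y, rfl⟩ := QuotientGroup.mk_surjective z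
      refine ⟨1, ?_⟩
      rw [pow_one, ← QuotientGroup.mk_pow, QuotientGroup.eq_one_iff]
      exact hle ⟨y, rfl⟩
    rcases h3.card_eq_or_dvd with h4 | h4
    · exact absurd (Subgroup.index_eq_one.1 (M.index_eq_card.trans h4)) hM.1
    · exact M.index_eq_card ▸ h4
  obtain ⟨q, hq, hqd⟩ := Nat.exists_prime_and_dvd (Subgroup.index_eq_one.not.2 hM.1)
  haveI := Fact.mk hq
  have hqG : q ∣ Nat.card G := hqd.trans M.index_dvd_card
  have hMq : M.index = q := by
    by_contra hne
    -- the index of a maximal subgroup of an abelian group is prime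
    rw [M.index_eq_card] at hqd
    obtain ⟨z, hz⟩ := exists_prime_orderOf_dvd_card' (G := G ⧸ M) q hqd
    have hK : M < (Subgroup.zpowers z).comap (QuotientGroup.mk' M) := by
      refine lt_of_le_of_ne (fun y hy => ?_) fun he => ?_
      · rw [Subgroup.mem_comap, QuotientGroup.mk'_apply, (QuotientGroup.eq_one_iff y).2 hy]
        exact one_mem _
      · have h5 := congrArg (Subgroup.map (QuotientGroup.mk' M)) he
        rw [QuotientGroup.map_mk'_self,
          Subgroup.map_comap_eq_self_of_surjective (QuotientGroup.mk'_surjective M)] at h5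
        have h6 := Nat.card_zpowers z
        rw [← h5, Subgroup.card_bot, hz] at h6
        exact hq.ne_one h6.symm
    have h7 := hM.2 _ hK
    have h8 : Subgroup.zpowers z = ⊤ := by
      rw [← Subgroup.map_comap_eq_self_of_surjective (QuotientGroup.mk'_surjective M) (Subgroup.zpowers z),
        h7, Subgroup.map_top_of_surjective _ (QuotientGroup.mk'_surjective M)]
    exact hne (by rw [M.index_eq_card, ← Nat.card_congr Subgroup.topEquiv.toEquiv, ← h8, Nat.card_zpowers, hz])
  rw [isPrimePow_iff_unique_prime_dvd]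
  refine ⟨q, ⟨hq, hqG⟩, fun r ⟨hr, hrd⟩ => ?_⟩
  have := hfin r hr hrd
  rw [hMq] at this
  exact (Nat.prime_dvd_prime_iff_eq hr hq).1 this

end Cfsg.Agent.S4387
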