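import Cfsg.Statements.S4396
import Cfsg.Agent.SolvStruct.FrobeniusFree

set_option autoImplicit false
open scoped Pointwise
open Cfsg

namespace Cfsg.Agent.S4396

/-- Let the finite group A act faithfully and linearly on a finite-dimensional vector space V over a field k, and suppose A is a Frobenius group with nilpotent kernel F (every Frobenius kernel is nilpotent) and complement H such that F fixes no nonzero vector. Then V is free as a module for H: there is a subspace W with V the direct sum of the translates hW, h ∈ H. (No assumption on the characteristic of k.) -/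
theorem result {k V A : Type*} [Field k] [AddCommGroup V] [Module k V] [FiniteDimensional k V] [Group A] [Finite A] [DecidableEq A]
    (ρ : Representation k A V) (hρ : Function.Injective ρ)
    (Fk Hc : Subgroup A) [Fk.Normal] (hHc : Cfsg.IsFrobeniusComplement Hc) (hker : Cfsg.frobeniusKernel Hc = (Fk : Set A)) (hnil : Group.IsNilpotent ↥Fk)
    (hCF : ∀ v : V, (∀ f ∈ Fk, ρ f v = v) → v = 0) :
    ∃ W : Submodule k V, DirectSum.IsInternal (fun h : ↥Hc => W.map (ρ (h : A))) := by
  refine Cfsg.Lib.FrobeniusFree.main ρ Fk Hc hnil (fun h hh h1 x hx he => ?_) hCF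
  have hxh : x⁻¹ * h * x = h := mul_inv_eq_one.1 he
  have hxH : x ∈ Hc := by
    by_contra hxc
    have h2 : h ∈ Hc ⊓ (MulAut.conj x • Hc) := ⟨hh, h, hh, by
      show x * h * x⁻¹ = h
      conv_lhs => rw [← hxh]
      group⟩
    rw [hHc.2.2 x hxc, Subgroup.mem_bot] at h2
    exact h1 h2
  have hk : x ∈ Cfsg.frobeniusKernel Hc := by rw [hker]; exact hx
  rcases hk with hx1 | hx1
  · exact hx1
  · exact absurd (show x ∈ MulAut.conj (1 : A) • Hc by simpa using hxH) (hx1 1)

end Cfsg.Agent.S4396
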