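import Cfsg.Statements.S4401
import Cfsg.Agent.PGroups.SectionalRankFour

set_option autoImplicit false
open Cfsg

namespace Cfsg.Agent.S4401

/-- Let S be a finite 2-group of sectional 2-rank at most 4 and P a proper non-abelian subgroup whose centre has order 2. Let S₀ be the centralizer in S of Z(P) and suppose P is normal in S₀. Then either S₀ = S, or P has sectional 2-rank at most 2 and S₀ has index 2 in S. -/
theorem result {S : Type*} [Group S] [Finite S] (h2 : IsPGroup 2 S) (hr : Cfsg.SectionalPRankLE 2 4 S)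
    (P : Subgroup S) (hPlt : P ≠ ⊤) (hP : ¬ IsMulCommutative ↥P) (hZP : Nat.card ↥(Subgroup.center ↥P) = 2)
    (S₀ : Subgroup S) (hS₀ : S₀ = Subgroup.centralizer (((Subgroup.center ↥P).map P.subtype : Subgroup S) : Set S))
    (hPn : ∀ s ∈ S₀, ∀ x ∈ P, s * x * s⁻¹ ∈ P) :
    S₀ = ⊤ ∨ (Cfsg.SectionalPRankLE 2 2 ↥P ∧ S₀.index = 2) := by
  classical
  haveI := h2.isNilpotent
  rcases eq_or_ne S₀ ⊤ with h | hS
  · exact Or.inl h
  right
  haveI : Fact (Nat.Prime 2) := ⟨Nat.prime_two⟩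
  obtain ⟨⟨zP, hzP⟩, hz1', hzu⟩ := (Nat.card_eq_two_iff' (1 : Subgroup.center P)).1 hZP
  set z : S := (zP : S) with hzdef
  have hz1 : z ≠ 1 := fun e => hz1' (Subtype.ext (Subtype.ext e))
  have hzc : ∀ p ∈ P, p * z = z * p := fun p hp => congrArg Subtype.val (Subgroup.mem_center_iff.1 hzP ⟨p, hp⟩)
  have hmem : ∀ w : S, w ∈ (Subgroup.center P).map P.subtype → w = 1 ∨ w = z := by
    rintro _ ⟨w, hw, rfl⟩
    rcases eq_or_ne w 1 with rfl | hw1
    · exact Or.inl rfl
    · exact Or.inr (congrArg (fun u : Subgroup.center P => ((u : P) : S))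
        (hzu ⟨w, hw⟩ fun h => hw1 (congrArg Subtype.val h)))
  have hS₀' : ∀ s, s ∈ S₀ ↔ s * z = z * s := fun s => by
    rw [hS₀, Subgroup.mem_centralizer_iff]
    constructor
    · exact fun h => (h z ⟨zP, hzP, rfl⟩).symm
    · intro h w hw
      rcases hmem w hw with rfl | rfl
      · simp
      · exact h.symm
  have hPS : P ≤ S₀ := fun p hp => (hS₀' p).2 (hzc p hp)
  have hPn' : S₀ ≤ Subgroup.normalizer (P : Set S) := fun s hs => Subgroup.mem_normalizer_iff.2 fun x =>
    ⟨fun hx => hPn s hs x hx, fun hx => by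
      have := hPn s⁻¹ (inv_mem hs) _ hx
      simpa [mul_assoc] using this⟩
  set T := Subgroup.normalizer (S₀ : Set S) with hT
  have hST : S₀ < T := Group.normalizerCondition_of_isNilpotent S₀ (lt_top_iff_ne_top.2 hS)
  obtain ⟨g, hgT, hg⟩ := SetLike.exists_of_lt hST
  -- conjugates
  let cj : S → Subgroup S := fun t => Cfsg.Lib.Coprime.conjMap t P
  have hcjS : ∀ t ∈ T, cj t ≤ S₀ := fun t ht x hx => by
    have h1 := Cfsg.Lib.Coprime.mem_conjMap.1 hx
    have h3 := (Subgroup.mem_normalizer_iff.1 ht _).1 (hPS h1)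
    simpa [mul_assoc] using h3
  have hcjn : ∀ t ∈ T, S₀ ≤ Subgroup.normalizer (cj t : Set S) := fun t ht s hs => by
    rw [Cfsg.Lib.Coprime.normalizer_conjMap, Cfsg.Lib.Coprime.mem_conjMap]
    exact hPn' ((Subgroup.mem_normalizer_iff''.1 ht _).1 hs)
  let ec : ∀ t : S, P ≃* cj t := fun t => P.equivMapOfInjective _ (MulAut.conj t).injective
  have hcnc : ∀ t, ¬ IsMulCommutative (cj t) := fun t h => hP ⟨⟨fun a b => (ec t).injective (by
    rw [map_mul, map_mul]; exact h.1.1 _ _)⟩⟩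
  have hcZ : ∀ t, Nat.card (Subgroup.center (cj t)) = 2 := fun t =>
    (Nat.card_congr (Subgroup.centerCongr (ec t)).toEquiv).symm.trans hZP
  have hzt : ∀ t, t * z * t⁻¹ ∈ (Subgroup.center (cj t)).map (cj t).subtype := fun t =>
    ⟨ec t zP, (Subgroup.centerCongr (ec t) ⟨zP, hzP⟩).2, rfl⟩
  have hmemt : ∀ t (w : S), w ∈ (Subgroup.center (cj t)).map (cj t).subtype → w = 1 ∨ w = t * z * t⁻¹ := by
    rintro t _ ⟨w, hw, rfl⟩
    obtain ⟨u, hu⟩ := (Subgroup.centerCongr (ec t)).surjective ⟨w, hw⟩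
    rcases hmem ((u : P) : S) ⟨(u : P), u.2, rfl⟩ with h | h
    · left
      have e : u = 1 := Subtype.ext (Subtype.ext h)
      rw [e, map_one] at hu
      exact congrArg (fun v : Subgroup.center (cj t) => ((v : cj t) : S)) hu.symm
    · right
      have e : u = ⟨zP, hzP⟩ := Subtype.ext (Subtype.ext h)
      rw [e] at hu
      exact congrArg (fun v : Subgroup.center (cj t) => ((v : cj t) : S)) hu.symm
  have hcj1 : cj 1 = P := Cfsg.Lib.Coprime.conjMap_one P
  -- the basic application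
  have key : ∀ s ∈ T, ∀ t ∈ T, s * z * s⁻¹ ≠ t * z * t⁻¹ →
      cj s ⊓ cj t = ⊥ ∧ (∀ x ∈ cj s, ∀ y ∈ cj t, x * y = y * x) ∧
        S₀ ⊓ Subgroup.centralizer ((cj s ⊔ cj t : Subgroup S) : Set S) ≤ cj s ⊔ cj t := by
    intro s hs t ht hne
    obtain ⟨h1, h3, h4⟩ := Cfsg.Lib.SectionalRank.main h2 hr S₀ (cj s) (cj t) (hcjS s hs) (hcjS t ht)
      (hcjn s hs) (hcjn t ht) (hcnc s) (hcnc t) (hcZ s) (hcZ t) (fun e => by
        rcases hmemt t _ (e ▸ hzt s) with h | h
        · exact hz1 (conj_eq_one_iff.1 h)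
        · exact hne h)
    exact ⟨h1, h3, h4 le_rfl⟩
  have hT1 : (1 : S) ∈ T := one_mem _
  set z' := g * z * g⁻¹ with hz'def
  have hz'z : z' ≠ z := fun e => hg ((hS₀' g).2 (mul_inv_eq_iff_eq_mul.1 e))
  have e1 : (1 : S) * z * 1⁻¹ = z := by simp
  obtain ⟨hinf, hcomm, hcent⟩ := key 1 hT1 g hgT (by rw [e1]; exact hz'z.symm)
  rw [hcj1] at hinf hcomm hcent
  set P' := cj g with hP'
  refine ⟨Cfsg.Lib.SectionalRank.two_rank hr hinf hcomm (ec g) le_rfl, ?_⟩
  have hz'P : z' ∈ P' := by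
    obtain ⟨w, -, hw⟩ := hzt g
    exact (show (w : S) = z' from hw) ▸ w.2
  have hz'c : ∀ q ∈ P', q * z' = z' * q := fun q hq => by
    obtain ⟨w, hw, hwe⟩ := hzt g
    have := congrArg Subtype.val (Subgroup.mem_center_iff.1 hw ⟨q, hq⟩)
    change q * (w : S) = (w : S) * q at this
    rwa [show (w : S) = z' from hwe] at this
  have hz2 : ∀ {W : Subgroup S}, Nat.card (Subgroup.center W) = 2 → ∀ w : W, w ∈ Subgroup.center W →
      (w : S) * w = 1 := by
    intro W hW w hw
    have h1 := pow_card_eq_one' (G := Subgroup.center W) (x := ⟨w, hw⟩)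
    rw [hW, pow_two] at h1
    exact congrArg (fun v : Subgroup.center W => ((v : W) : S)) h1
  have hzz : z * z = 1 := hz2 hZP zP hzP
  have hQP : P' ≤ Subgroup.normalizer (P : Set S) := (hcjS g hgT).trans hPn'
  have hsup : ∀ v ∈ P ⊔ P', ∃ x ∈ P, ∃ y ∈ P', v = x * y := fun v hv => by
    rw [← SetLike.mem_coe, Subgroup.coe_mul_of_right_le_normalizer_left P P' hQP] at hv
    obtain ⟨x, hx, y, hy, rfl⟩ := hv
    exact ⟨x, hx, y, hy, rfl⟩
  -- the centralizer of `P P'` in `S₀`
  have hC : ∀ v ∈ S₀, v ∈ Subgroup.centralizer ((P ⊔ P' : Subgroup S) : Set S) →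
      v = 1 ∨ v = z ∨ v = z' ∨ v = z * z' := by
    intro v hv hvc
    obtain ⟨x, hx, y, hy, rfl⟩ := hsup v (hcent ⟨hv, hvc⟩)
    have hxz : x = 1 ∨ x = z := hmem x ⟨⟨x, hx⟩, Subgroup.mem_center_iff.2 fun q => Subtype.ext (by
      have h1 : (q : S) * (x * y) = x * y * q := Subgroup.mem_centralizer_iff.1 hvc q (Subgroup.mem_sup_left q.2)
      rw [← mul_assoc, mul_assoc x y, ← hcomm q q.2 y hy, ← mul_assoc] at h1
      exact mul_right_cancel h1), rfl⟩
    have hyz : y = 1 ∨ y = z' := hmemt g y ⟨⟨y, hy⟩, Subgroup.mem_center_iff.2 fun q => Subtype.ext (by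
      have h1 : (q : S) * (x * y) = x * y * q := Subgroup.mem_centralizer_iff.1 hvc q (Subgroup.mem_sup_right q.2)
      rw [← mul_assoc, ← hcomm x hx q q.2, mul_assoc, mul_assoc] at h1
      exact mul_left_cancel h1), rfl⟩
    rcases hxz with rfl | rfl <;> rcases hyz with rfl | rfl <;> simp
  -- two conjugates only
  have htwo : ∀ t ∈ T, t * z * t⁻¹ = z ∨ t * z * t⁻¹ = z' := by
    intro t ht
    by_contra! hno
    obtain ⟨-, hc1, -⟩ := key t ht 1 hT1 (by rw [e1]; exact hno.1)
    obtain ⟨-, hc2, -⟩ := key t ht g hgT hno.2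
    rw [hcj1] at hc1
    have hle : cj t ≤ Subgroup.centralizer ((P ⊔ P' : Subgroup S) : Set S) := fun x hx =>
      Subgroup.mem_centralizer_iff.2 fun v hv => by
        obtain ⟨a, ha, b, hb, rfl⟩ := hsup v hv
        rw [mul_assoc, ← hc2 x hx b hb, ← mul_assoc, ← hc1 x hx a ha, mul_assoc]
    refine hcnc t ⟨⟨fun a b => Subtype.ext ?_⟩⟩
    have hzP' : z ∈ P := zP.2
    have hab : Commute z z' := hcomm z hzP' z' hz'P
    show (a : S) * b = b * a
    have hac : Commute (a : S) z ∧ Commute (a : S) z' := by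
      rcases hC a (hcjS t ht a.2) (hle a.2) with h | h | h | h <;> rw [h]
      · exact ⟨Commute.one_left _, Commute.one_left _⟩
      · exact ⟨Commute.refl _, hab⟩
      · exact ⟨hab.symm, Commute.refl _⟩
      · exact ⟨(Commute.refl z).mul_left hab.symm, hab.mul_left (Commute.refl z')⟩
    rcases hC b (hcjS t ht b.2) (hle b.2) with h' | h' | h' | h' <;> rw [h']
    · simp
    · exact hac.1.eq
    · exact hac.2.eq
    · exact (hac.1.mul_right hac.2).eq
  have hmemS : ∀ t ∈ T, t * z * t⁻¹ = z → t ∈ S₀ := fun t _ h => (hS₀' t).2 (mul_inv_eq_iff_eq_mul.1 h)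
  have hgz' : g * z' * g⁻¹ = z := by
    rcases htwo (g * g) (mul_mem hgT hgT) with h | h
    · rw [hz'def]; conv_rhs => rw [← h]
      group
    · exfalso
      refine hz'z (mul_left_cancel (a := g) (mul_right_cancel (b := g⁻¹) ?_))
      rw [← hz'def]
      conv_rhs => rw [← h]
      rw [hz'def]; group
  have hTtop : T = ⊤ := by
    by_contra hne
    obtain ⟨x, hx, hxT⟩ := SetLike.exists_of_lt (Group.normalizerCondition_of_isNilpotent T (lt_top_iff_ne_top.2 hne))
    have hgz : ∀ t ∈ T, (t * z * t⁻¹ = z ∧ t * z' * t⁻¹ = z') ∨ (t * z * t⁻¹ = z' ∧ t * z' * t⁻¹ = z) := by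
      intro t ht
      have h3 : t * z' * t⁻¹ = (t * g) * z * (t * g)⁻¹ := by rw [hz'def]; group
      rcases htwo t ht with h | h
      · rcases htwo (t * g) (mul_mem ht hgT) with h' | h'
        · exfalso
          rw [← h3] at h'
          exact hz'z (mul_left_cancel (a := t) (mul_right_cancel (b := t⁻¹) (h'.trans h.symm)))
        · exact Or.inl ⟨h, h3.trans h'⟩
      · rcases htwo (t * g) (mul_mem ht hgT) with h' | h'
        · exact Or.inr ⟨h, h3.trans h'⟩
        · exfalso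
          rw [← h3] at h'
          exact hz'z (mul_left_cancel (a := t) (mul_right_cancel (b := t⁻¹) (h'.trans h.symm)))
    have hzz' : z' * z = z * z' := (hcomm z zP.2 z' hz'P).symm
    set w := z * z' with hw
    have hwT : ∀ t ∈ T, t * w = w * t := by
      intro t ht
      refine mul_inv_eq_iff_eq_mul.1 ?_
      rcases hgz t ht with ⟨h, h'⟩ | ⟨h, h'⟩
      · calc t * w * t⁻¹ = t * z * t⁻¹ * (t * z' * t⁻¹) := by rw [hw]; group
          _ = w := by rw [h, h']
      · calc t * w * t⁻¹ = t * z * t⁻¹ * (t * z' * t⁻¹) := by rw [hw]; group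
          _ = w := by rw [h, h', hzz']
    have hw1 : w ≠ 1 := fun e => hz'z ((mul_left_cancel (e.trans hzz.symm) : z' = z))
    have hzT : z ∈ T := hST.le ((hS₀' z).2 rfl)
    have hz'T : z' ∈ T := hST.le (hcjS g hgT hz'P)
    have hxc : ∀ t ∈ T, x⁻¹ * t * x ∈ T := fun t ht => (Subgroup.mem_normalizer_iff''.1 hx t).1 ht
    have hxc' : ∀ t ∈ T, x * t * x⁻¹ ∈ T := fun t ht => (Subgroup.mem_normalizer_iff.1 hx t).1 ht
    -- `x` fixes `w`
    set w' := x * w * x⁻¹ with hw'
    have hw'T : w' ∈ T := hxc' w (mul_mem hzT hz'T)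
    have hw'c : ∀ t ∈ T, t * w' = w' * t := fun t ht => by
      calc t * w' = x * ((x⁻¹ * t * x) * w) * x⁻¹ := by rw [hw']; group
        _ = x * (w * (x⁻¹ * t * x)) * x⁻¹ := by rw [hwT _ (hxc t ht)]
        _ = w' * t := by rw [hw']; group
    have hw'eq : w' = w := by
      have hS' : w' ∈ S₀ := (hS₀' w').2 (hw'c z hzT).symm
      rcases hC w' hS' (Subgroup.mem_centralizer_iff.2 fun v hv =>
          hw'c v (hST.le ((sup_le hPS (hcjS g hgT)) hv))) with h | h | h | h
      · exact absurd (conj_eq_one_iff.1 h) hw1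
      · exfalso
        have := hw'c g hgT
        rw [h] at this
        exact hz'z (mul_inv_eq_iff_eq_mul.2 this)
      · exfalso
        have := hw'c g hgT
        rw [h] at this
        exact hz'z ((mul_inv_eq_iff_eq_mul.2 this).symm.trans hgz')
      · exact h
    set y := x * z * x⁻¹ with hy
    set y' := x * z' * x⁻¹ with hy'
    have hyy : y * y' = w := by rw [← hw'eq, hw', hw, hy, hy']; group
    have hy2 : y * y = 1 := by
      calc y * y = x * (z * z) * x⁻¹ := by rw [hy]; group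
        _ = 1 := by rw [hzz]; group
    have hyT : y ∈ T := hxc' z hzT
    -- `y` has two conjugates
    have hyt : ∀ t ∈ T, t * y * t⁻¹ = y ∨ t * y * t⁻¹ = y * w := by
      intro t ht
      have h5 : t * y * t⁻¹ = x * ((x⁻¹ * t * x) * z * (x⁻¹ * t * x)⁻¹) * x⁻¹ := by rw [hy]; group
      rcases htwo _ (hxc t ht) with h | h
      · exact Or.inl (by rw [h5, h])
      · refine Or.inr ?_
        rw [h5, h, ← hy']
        calc y' = y * y * y' := by rw [hy2, one_mul]
          _ = y * w := by rw [mul_assoc, hyy]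
    have hwP : w ∉ P := fun h => by
      have hz'P2 : z' ∈ P := by
        have := mul_mem (inv_mem zP.2) h
        simpa [hw, hzdef] using this
      have hb : z' = 1 := (Subgroup.eq_bot_iff_forall _).1 hinf z' ⟨hz'P2, hz'P⟩
      exact hz1 (conj_eq_one_iff.1 hb)
    have hwP' : w ∉ P' := fun h => by
      have hzP2 : z ∈ P' := by
        have := mul_mem h (inv_mem hz'P)
        simpa [hw] using this
      exact hz1 ((Subgroup.eq_bot_iff_forall _).1 hinf z ⟨zP.2, hzP2⟩)
    by_cases hyS : y ∈ S₀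
    · have hcy : ∀ (W : Subgroup S), W ≤ S₀ → S₀ ≤ Subgroup.normalizer (W : Set S) → w ∉ W →
          ∀ a ∈ W, a * y = y * a := by
        intro W hW hWn hwW a ha
        rcases hyt a (hST.le (hW ha)) with h | h
        · exact mul_inv_eq_iff_eq_mul.1 h
        · exfalso
          refine hwW ?_
          have e2 : w = (y⁻¹ * a * y) * a⁻¹ := by
            calc w = y⁻¹ * (y * w) := by group
              _ = y⁻¹ * (a * y * a⁻¹) := by rw [h]
              _ = _ := by group
          rw [e2]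
          exact mul_mem ((Subgroup.mem_normalizer_iff''.1 (hWn hyS) a).1 ha) (inv_mem ha)
      have hyC : y ∈ Subgroup.centralizer ((P ⊔ P' : Subgroup S) : Set S) := by
        refine Subgroup.mem_centralizer_iff.2 fun v hv => ?_
        obtain ⟨a, ha, b, hb, rfl⟩ := hsup v hv
        rw [mul_assoc, hcy P' (hcjS g hgT) (hcjn g hgT) hwP' b hb, ← mul_assoc, hcy P hPS hPn' hwP a ha, mul_assoc]
      rcases hC y hyS hyC with h | h | h | h
      · exact hz1 (conj_eq_one_iff.1 h)
      · exact hxT (hST.le ((hS₀' x).2 (mul_inv_eq_iff_eq_mul.1 h)))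
      · refine hxT ?_
        have h6 : g⁻¹ * x ∈ S₀ := (hS₀' _).2 (mul_inv_eq_iff_eq_mul.1 (by
          calc g⁻¹ * x * z * (g⁻¹ * x)⁻¹ = g⁻¹ * y * g := by rw [hy]; group
            _ = g⁻¹ * z' * g := by rw [h]
            _ = z := by rw [hz'def]; group))
        have := mul_mem hgT (hST.le h6)
        simpa using this
      · exfalso
        refine hz1 ?_
        have h7 : x * z * x⁻¹ = x * w * x⁻¹ := h.trans hw'eq.symm
        have h8 : z = z * z' := mul_left_cancel (a := x) (mul_right_cancel (b := x⁻¹) h7)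
        exact conj_eq_one_iff.1 (left_eq_mul.1 h8)
    · have hyz : y * z * y⁻¹ = z' := by
        rcases htwo y hyT with h | h
        · exact absurd (hmemS y hyT h) hyS
        · exact h
      have hgy : g⁻¹ * y ∈ S₀ := (hS₀' _).2 (mul_inv_eq_iff_eq_mul.1 (by
        calc g⁻¹ * y * z * (g⁻¹ * y)⁻¹ = g⁻¹ * (y * z * y⁻¹) * g := by group
          _ = z := by rw [hyz, hz'def]; group))
      have hyP : ∀ a ∈ P, y * a * y⁻¹ ∈ P' := fun a ha => by
        refine Cfsg.Lib.Coprime.mem_conjMap.2 ?_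
        have := hPn _ hgy a ha
        simpa [mul_assoc] using this
      refine hP ⟨⟨fun a b => Subtype.ext ?_⟩⟩
      have hall : ∀ a ∈ P, a = 1 ∨ a = z := by
        intro a ha
        have hyi : y⁻¹ = y := inv_eq_of_mul_eq_one_right hy2
        rcases hyt a (hST.le (hPS ha)) with h | h
        · left
          refine (Subgroup.eq_bot_iff_forall _).1 hinf a ⟨ha, ?_⟩
          have h9 : y * a * y⁻¹ = a := by
            rw [← mul_inv_eq_iff_eq_mul.1 h, mul_inv_cancel_right]
          exact h9 ▸ hyP a ha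
        · right
          have h10 : a * (y * a⁻¹ * y⁻¹) = z * z' := by
            calc a * (y * a⁻¹ * y⁻¹) = a * y * a⁻¹ * y⁻¹ := by group
              _ = y * w * y⁻¹ := by rw [h]
              _ = w := mul_inv_eq_iff_eq_mul.2 (hwT y hyT)
          have h11 : z⁻¹ * a = z' * (y * a⁻¹ * y⁻¹)⁻¹ := by
            rw [inv_mul_eq_iff_eq_mul, ← mul_assoc, ← h10]
            group
          have h12 : z⁻¹ * a ∈ P ⊓ P' := Subgroup.mem_inf.2 ⟨mul_mem (inv_mem zP.2) ha, h11 ▸ mul_mem hz'P (inv_mem (hyP _ (inv_mem ha)))⟩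
          rw [hinf, Subgroup.mem_bot] at h12
          exact (inv_mul_eq_one.1 h12).symm
      show (a : S) * b = b * a
      rcases hall a a.2 with h | h <;> rcases hall b b.2 with h' | h' <;> rw [h, h'] <;> simp
  refine Subgroup.index_eq_two_iff.2 ⟨g⁻¹, fun b => ?_⟩
  rcases htwo b (hTtop.ge (Subgroup.mem_top b)) with h | h
  · have hb : b ∈ S₀ := (hS₀' b).2 (mul_inv_eq_iff_eq_mul.1 h)
    exact Or.inr ⟨hb, fun hbg => hg (by simpa using (Subgroup.mul_mem_cancel_left S₀ hb).1 hbg)⟩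
  · have hbn : b ∉ S₀ := fun hb => hz'z (h.symm.trans (mul_inv_eq_iff_eq_mul.2 ((hS₀' b).1 hb)))
    refine Or.inl ⟨?_, hbn⟩
    refine (hS₀' _).2 (mul_inv_eq_iff_eq_mul.1 ?_)
    calc b * g⁻¹ * z * (b * g⁻¹)⁻¹ = b * (g⁻¹ * z * g) * b⁻¹ := by group
      _ = b * z' * b⁻¹ := by rw [show g⁻¹ * z * g = z' by rw [← hgz']; group]
      _ = (b * g) * z * (b * g)⁻¹ := by rw [hz'def]; group
      _ = z := by
        rcases htwo (b * g) (hTtop.ge (Subgroup.mem_top _)) with h' | h'
        · exact h'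
        · exfalso
          refine hz'z (mul_left_cancel (a := b) (mul_right_cancel (b := b⁻¹) ?_))
          calc b * z' * b⁻¹ = (b * g) * z * (b * g)⁻¹ := by rw [hz'def]; group
            _ = b * z * b⁻¹ := h'.trans h.symm

end Cfsg.Agent.S4401
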