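import Cfsg.Statements.S4402
import Cfsg.Statements.S4402
import Cfsg.Agent.PGroups.WreathEight.Main

set_option autoImplicit false
open Cfsg

namespace Cfsg.Agent.S4402

/-- Let S be a finite 2-group of sectional 2-rank at most 4 and P a proper subgroup isomorphic to the wreath product of the dihedral group of order 8 by a group of order 2 (equivalently, to a Sylow 2-subgroup of the symmetric group of degree 8; order 128). Then Z(S) = Z(P) has order 2, P has index 2 in its normalizer N_S(P), N_S(P)/Z(S) is again isomorphic to that wreath product, and every elementary abelian subgroup V of order 16 that is normal in P satisfies N_S(V) = P. -/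
theorem result {S : Type*} [Group S] [Finite S] (h2 : IsPGroup 2 S) (hr : Cfsg.SectionalPRankLE 2 4 S)
    (P : Subgroup S) (hPlt : P ≠ ⊤) (hP : ∃ T : Sylow 2 (Equiv.Perm (Fin 8)), Nonempty (↥P ≃* ↥(T : Subgroup (Equiv.Perm (Fin 8))))) :
    Subgroup.center S = (Subgroup.center ↥P).map P.subtype ∧ Nat.card ↥(Subgroup.center S) = 2 ∧
    P.relIndex (Subgroup.normalizer (P : Set S)) = 2 ∧
    (∃ (_ : ((Subgroup.center S).subgroupOf (Subgroup.normalizer (P : Set S))).Normal) (T : Sylow 2 (Equiv.Perm (Fin 8))),
      Nonempty (↥(Subgroup.normalizer (P : Set S)) ⧸ (Subgroup.center S).subgroupOf (Subgroup.normalizer (P : Set S)) ≃*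
        ↥(T : Subgroup (Equiv.Perm (Fin 8))))) ∧
    ∀ V : Subgroup S, V ≤ P → (∀ g ∈ P, ∀ v ∈ V, g * v * g⁻¹ ∈ V) → Cfsg.IsElementaryAbelian 2 V → Nat.card ↥V = 16 →
      Subgroup.normalizer (V : Set S) = P := by
  classical
  haveI : Fact (Nat.Prime 2) := ⟨Nat.prime_two⟩
  obtain ⟨T, ⟨e⟩⟩ := hP
  open Cfsg.Lib.WreathEight in
  have hcard : Nat.card (permHom : Mdl →* Equiv.Perm (Fin 8)).range = 128 := by
    rw [← Nat.card_congr (MonoidHom.ofInjective permHom_injective).toEquiv, Mdl.card]
  open Cfsg.Lib.WreathEight in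
  have hperm : Nat.card (Equiv.Perm (Fin 8)) = 40320 := by
    rw [Nat.card_perm, Nat.card_fin]; rfl
  open Cfsg.Lib.WreathEight in
  let T0 : Sylow 2 (Equiv.Perm (Fin 8)) := (IsPGroup.of_card (p := 2) (n := 7) (by rw [hcard]; norm_num) :
    IsPGroup 2 (permHom : Mdl →* Equiv.Perm (Fin 8)).range).toSylow (by
      intro h
      have := (permHom : Mdl →* Equiv.Perm (Fin 8)).range.card_mul_index
      rw [hcard, hperm] at this
      omega)
  open Cfsg.Lib.WreathEight in
  let ε : Mdl ≃* ↥P := ((MonoidHom.ofInjective permHom_injective).trans (Sylow.equiv T0 T)).trans e.symm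
  set ι : Cfsg.Lib.WreathEight.Mdl →* S := P.subtype.comp ε.toMonoidHom with hιdef
  have hι : Function.Injective ι := P.subtype_injective.comp ε.injective
  have hrange : ι.range = P := by
    rw [hιdef, MonoidHom.range_comp, MonoidHom.range_eq_top.2 ε.surjective, ← MonoidHom.range_eq_map, Subgroup.range_subtype]
  have hlt : ι.range ≠ ⊤ := by rw [hrange]; exact hPlt
  open Cfsg.Lib.WreathEight in
  have hz : (Subgroup.center ↥P).map P.subtype = subZ.map ι := by
    rw [hιdef, ← Subgroup.map_map, ← center_eq]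
    congr 1
    ext x
    rw [Subgroup.mem_map]
    constructor
    · intro hx
      refine ⟨ε.symm x, Subgroup.mem_center_iff.2 fun a => ε.injective ?_, ε.apply_symm_apply x⟩
      rw [map_mul, map_mul, ε.apply_symm_apply]
      exact Subgroup.mem_center_iff.1 hx _
    · rintro ⟨y, hy, rfl⟩
      refine Subgroup.mem_center_iff.2 fun a => ?_
      obtain ⟨b, rfl⟩ := ε.surjective a
      show ε b * ε y = ε y * ε b
      rw [← map_mul, ← map_mul, Subgroup.mem_center_iff.1 hy b]
  open Cfsg.Lib.WreathEight in
  refine ⟨(center_eq_map hι h2 hr).trans hz.symm, card_center hι h2 hr, ?_, ?_, fun V hV hVn hVe hVc => ?_⟩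
  · rw [← hrange]; exact index_two hι h2 hr hlt
  · rw [← hrange]
    obtain ⟨f, hf, hker⟩ := exists_quot hι h2 hr hlt
    have hk : f.ker = (Subgroup.center S).subgroupOf (Subgroup.normalizer (ι.range : Set S)) :=
      Subgroup.ext fun x => hker x
    have hnorm : ((Subgroup.center S).subgroupOf (Subgroup.normalizer (ι.range : Set S))).Normal := hk ▸ inferInstance
    exact ⟨hnorm, T0, ⟨(QuotientGroup.quotientMulEquivOfEq hk.symm).trans
      ((QuotientGroup.quotientKerEquivOfSurjective f hf).trans (MonoidHom.ofInjective permHom_injective))⟩⟩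
  · rw [← hrange] at hV hVn ⊢
    exact normalizer_eq hι h2 hr hV hVn hVe hVc

end Cfsg.Agent.S4402
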