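import Cfsg.Statements.S4404
import Cfsg.Agent.SolvStruct.FourGroupMovers
import Cfsg.Agent.S3745
import Cfsg.Agent.S1450
-- import your own Cfsg.Agent.* helpers here

set_option autoImplicit false
open Cfsg

namespace Cfsg.Agent.S4404

open Subgroup Cfsg.Lib.FourMover in
theorem finish {S M : Type*} [Group S] [Finite S] [CommGroup M] [Finite M] (φ : S →* MulAut M)
    (hexp : ∀ m : M, m ^ 2 = 1) [Group.IsSolvable S] (x : S) (hx3 : φ x ^ 3 = 1)
    (hxQ : ∃ P : Subgroup S, IsPGroup 3 P ∧ x ∈ P) (hW : Nat.card (W (φ x)) = 4)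
    {p : ℕ} (hp : p.Prime) (hp2 : p ≠ 2) (E : Subgroup S) (hE : Cfsg.IsElementaryAbelian p E)
    (hE3 : Nat.card E = p ^ 3) : Good φ (W (φ x)) := by
  classical
  haveI := Fact.mk Nat.prime_three
  haveI := Fact.mk hp
  have g4 : ¬ 3 ^ 3 ∣ ∏ i : Fin (2 * 2), (2 ^ (2 * 2) - 2 ^ (i : ℕ)) := by decide
  have g2 : ¬ 3 ^ 2 ∣ ∏ i : Fin 2, (2 ^ 2 - 2 ^ (i : ℕ)) := by decide
  obtain ⟨Q₀, hQ₀, hxQ₀⟩ := hxQ
  obtain ⟨T, hT⟩ := hQ₀.exists_le_sylow
  have hWconj : ∀ g : S, W (φ (g * x * g⁻¹)) = (W (φ x)).map (φ g).toMonoidHom := fun g => by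
    rw [map_mul, map_mul, map_inv, W_conj]
  have hcardg : ∀ g : S, Nat.card (W (φ (g * x * g⁻¹))) = 4 := fun g => by
    rw [hWconj, card_map_of_injective (f := (φ g).toMonoidHom) (φ g).injective, hW]
  have hpow : ∀ g : S, φ (g * x * g⁻¹) ^ 3 = 1 := fun g => by
    rw [map_mul, map_mul, map_inv, conj_pow, hx3, mul_one, mul_inv_cancel]
  by_cases hrank : ∃ A : Subgroup S, Cfsg.IsElementaryAbelian 3 A ∧ Nat.card A = 3 ^ 3
  · obtain ⟨A, hA, hAc⟩ := hrank
    have hAp : IsPGroup 3 A := IsPGroup.of_card hAc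
    obtain ⟨R, hR⟩ := hAp.exists_le_sylow
    obtain ⟨g, hg⟩ := MulAction.exists_smul_eq S T R
    have hy : g * x * g⁻¹ ∈ (R : Subgroup S) := by
      rw [← hg]
      exact ⟨x, hT hxQ₀, rfl⟩
    have := good_of_sylow φ hexp (k := 2) (by norm_num) (by norm_num) g4 g2 R R.2 hy (hpow g) (hcardg g) hA hAc hR
    rw [hWconj] at this
    exact this.of_conj φ g
  push Not at hrank
  have hp3 : p ≠ 3 := by
    rintro rfl
    exact hrank E hE hE3
  -- a Hall `{3, p}` subgroup
  obtain ⟨H, hH, -, hEH⟩ := (Cfsg.Agent.S3745.result (⊥ : Subgroup S) ⊤ bot_le (by simp)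
    (Group.isSolvable_of_isSolvable_injective (f := (⊤ : Subgroup S).subtype) Subtype.val_injective) {3, p}).2.2 E le_top bot_le
      (fun q hq hqE => by
        rw [hE3] at hqE
        exact Or.inr ((Nat.prime_dvd_prime_iff_eq hq hp).1 (hq.dvd_of_dvd_pow hqE)))
  obtain ⟨-, hHπ, hHidx⟩ := hH
  obtain ⟨P₀⟩ : Nonempty (Sylow 3 H) := inferInstance
  obtain ⟨P, hP⟩ := (P₀.2.map H.subtype).exists_le_sylow
  have hPeq : (P₀ : Subgroup H).map H.subtype = P := by
    refine eq_of_le_of_card_ge hP (le_of_eq ?_)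
    rw [card_map_of_injective H.subtype_injective, P.card_eq_multiplicity, P₀.card_eq_multiplicity]
    have h3 : ¬ 3 ∣ H.index := by rw [← H.relIndex_top_right]; exact hHidx 3 Nat.prime_three (Or.inl rfl)
    rw [← H.card_mul_index, Nat.factorization_mul Nat.card_pos.ne' H.index_ne_zero_of_finite,
      Finsupp.add_apply, Nat.factorization_eq_zero_of_not_dvd h3, add_zero]
  obtain ⟨g, hg⟩ := MulAction.exists_smul_eq S T P
  have hxP : g * x * g⁻¹ ∈ (P : Subgroup S) := by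
    rw [← hg]
    exact ⟨x, hT hxQ₀, rfl⟩
  set x' := g * x * g⁻¹ with hx'
  have hxH : x' ∈ H := map_subtype_le _ (hPeq.symm ▸ hxP : x' ∈ (P₀ : Subgroup H).map H.subtype)
  suffices hgood : Good φ (W (φ x')) by
    rw [hx', hWconj] at hgood
    exact hgood.of_conj φ g
  set a := φ x' with ha
  have ha3 : a ^ 3 = 1 := hpow g
  have haW : Nat.card (W a) = 4 := hcardg g
  have hodd : Odd (Nat.card H) := by
    rw [← Nat.not_even_iff_odd, even_iff_two_dvd]
    intro h
    rcases hHπ 2 Nat.prime_two h with h | h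
    · norm_num at h
    · exact hp2 h.symm
  have ha1 : a ≠ 1 := fun h => by
    rw [h] at haW
    have : W (1 : MulAut M) = ⊥ := by
      rw [eq_bot_iff]
      rintro _ ⟨m, rfl⟩
      simp [disp]
    rw [this, Subgroup.card_bot] at haW
    norm_num at haW
  have h3H : 3 ∣ Nat.card H := by
    have h1 : orderOf a ∣ 3 := orderOf_dvd_of_pow_eq_one ha3
    rcases (Nat.dvd_prime Nat.prime_three).1 h1 with h | h
    · exact absurd (orderOf_eq_one_iff.1 h) ha1
    · have h2 := (orderOf_map_dvd φ x').trans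
        ((Subgroup.orderOf_mk x' hxH) ▸ orderOf_dvd_natCard (⟨x', hxH⟩ : H))
      rw [← ha, h] at h2
      exact h2
  have hr : Cfsg.PRankLE 3 2 H := by
    intro A hAc hAe
    by_contra hc
    have hAp : IsPGroup 3 A := fun z => ⟨1, Subtype.ext (by rw [SubgroupClass.coe_pow, pow_one, hAe z z.2]; rfl)⟩
    obtain ⟨n, hn⟩ := IsPGroup.iff_card.1 hAp
    have hn3 : 3 ≤ n := by
      by_contra hn'
      exact hc (hn ▸ Nat.pow_le_pow_right (by norm_num) (by omega))
    obtain ⟨B, hB⟩ := Sylow.exists_subgroup_card_pow_prime 3 (G := A) (hn ▸ pow_dvd_pow 3 hn3)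
    haveI := hAc
    refine hrank ((B.map A.subtype).map H.subtype) ⟨inferInstance, ?_⟩ ?_
    · rintro _ ⟨_, ⟨b, -, rfl⟩, rfl⟩
      rw [← map_pow]
      show H.subtype ((b : H) ^ 3) = 1
      rw [hAe b b.2, map_one]
    · rw [card_map_of_injective H.subtype_injective, card_map_of_injective A.subtype_injective, hB]
  obtain ⟨PH, N, hN, hNc⟩ := ((Cfsg.Agent.S1450.result (G := H) hodd 3 h3H hr).2.1 (Or.inl rfl))
  have h3N : ¬ 3 ∣ Nat.card N := by
    rw [← Subgroup.IsComplement'.index_eq_card hNc]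
    exact PH.not_dvd_index
  set K := N.map H.subtype with hK
  have hKp : IsPGroup p K := by
    refine (IsPGroup.of_card (n := (Nat.card N).factorization p) ?_).map H.subtype
    conv_lhs => rw [← Nat.prod_factorization_pow_eq_self (Nat.card_pos (α := N)).ne']
    rw [Finsupp.prod, Finset.prod_eq_single p]
    · intro q hq hqp
      rw [Nat.support_factorization, Nat.mem_primeFactors] at hq
      rcases hHπ q hq.1 (hq.2.1.trans (Subgroup.card_subgroup_dvd_card N)) with h | h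
      · exact absurd (h ▸ hq.2.1) h3N
      · exact absurd h hqp
    · intro h
      rw [Finsupp.notMem_support_iff.1 h, pow_zero]
  have hEK : E ≤ K := by
    intro e he
    refine ⟨⟨e, hEH he⟩, ?_, rfl⟩
    haveI := hN
    have hq : IsPGroup 3 (H ⧸ N) := IsPGroup.of_card (n := (Nat.card H).factorization 3) (by
      rw [← Subgroup.index_eq_card, Subgroup.IsComplement'.index_eq_card (Subgroup.IsComplement'.symm hNc), PH.card_eq_multiplicity])
    rw [SetLike.mem_coe, ← QuotientGroup.eq_one_iff]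
    obtain ⟨k, hk⟩ := hq ((⟨e, hEH he⟩ : H) : H ⧸ N)
    refine (pow_eq_one_iff_of_coprime (m := p) (n := 3 ^ k) ?_).1 ⟨?_, hk⟩
    · exact Nat.Coprime.pow_right _ ((Nat.coprime_primes hp Nat.prime_three).2 hp3)
    · rw [← QuotientGroup.mk_pow, show (⟨e, hEH he⟩ : H) ^ p = 1 from Subtype.ext (hE.2 e he), QuotientGroup.mk_one]
  by_cases hcomm : ∀ k ∈ K, φ k * a = a * φ k
  · refine ⟨p, E, hp, hp2, hE, hE3, ?_⟩
    have hinv : ∀ s ∈ E, ∀ w ∈ W a, φ s w ∈ W a := fun s hs w hw => by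
      rw [← map_eq_of_commute (hcomm s (hEK hs))]
      exact ⟨w, hw, rfl⟩
    have hnd : ¬ p ^ (0 + 1) ∣ ∏ j : Fin 2, (2 ^ 2 - 2 ^ (j : ℕ)) := by
      rw [zero_add, pow_one, show (∏ j : Fin 2, (2 ^ 2 - 2 ^ (j : ℕ))) = 2 * 3 from by decide]
      intro h
      rcases hp.dvd_mul.1 h with h | h
      · exact hp2 ((Nat.prime_dvd_prime_iff_eq hp Nat.prime_two).1 h)
      · exact hp3 ((Nat.prime_dvd_prime_iff_eq hp Nat.prime_three).1 h)
    have h := kernel_big φ hE hexp hinv (k := 2) (i := 0) (by rw [haW]; norm_num) hnd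
    rw [hE3, pow_zero, one_mul] at h
    exact (Nat.pow_le_pow_right hp.pos (by norm_num)).trans h
  push Not at hcomm
  obtain ⟨k, hkK, hka⟩ := hcomm
  set b := φ k * a * (φ k)⁻¹ with hb
  set c := a⁻¹ * b with hc
  have hKn : ∀ h ∈ H, ∀ n ∈ K, h * n * h⁻¹ ∈ K := by
    rintro h hh _ ⟨n, hn, rfl⟩
    exact ⟨⟨h, hh⟩ * n * ⟨h, hh⟩⁻¹, hN.conj_mem n hn _, rfl⟩
  obtain ⟨y, hyK, hy⟩ : ∃ y ∈ K, φ y = c := by
    refine ⟨x'⁻¹ * k * x' * k⁻¹, mul_mem ?_ (inv_mem hkK), ?_⟩
    · simpa using hKn x'⁻¹ (inv_mem hxH) k hkK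
    · rw [hc, hb, ha]; simp [mul_assoc]
  have hc1 : c ≠ 1 := fun h => hka (by
    rw [hc, inv_mul_eq_one, hb, eq_mul_inv_iff_mul_eq] at h
    exact h.symm)
  obtain ⟨U, haU, hbU, hU⟩ := exists_join a b
  have hbW : Nat.card (W b) = 4 := by
    rw [hb, W_conj, card_map_of_injective (f := (φ k).toMonoidHom) (φ k).injective, haW]
  rw [haW, hbW] at hU
  set D := H.map φ ⊓ movers U with hD
  have hHK : ∀ s ∈ K, φ s ∈ H.map φ := fun s hs => mem_map_of_mem φ (map_subtype_le N hs)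
  have haD : a ∈ D := ⟨mem_map_of_mem φ hxH, haU⟩
  have hbD : b ∈ D := ⟨(H.map φ).mul_mem ((H.map φ).mul_mem (hHK k hkK) haD.1) ((H.map φ).inv_mem (hHK k hkK)), hbU⟩
  have hcD : c ∈ D := mul_mem (inv_mem haD) hbD
  have hDodd : Odd (Nat.card D) :=
    hodd.of_dvd_nat ((card_dvd_of_le (inf_le_left)).trans (card_map_dvd H φ))
  have hDdvd : Nat.card D ∣ 20160 := by
    have := card_dvd_of_movers hexp hDodd inf_le_right (n := 4) (U := U) hU
    rwa [show (∏ i : Fin 4, (2 ^ 4 - 2 ^ (i : ℕ))) = 20160 from by decide] at this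
  have h20 : 20160 = 2 ^ 6 * (3 ^ 2 * (5 * 7)) := by norm_num
  have hp57 : ∀ {n : ℕ}, n ∣ 20160 → p ∣ n → p = 5 ∨ p = 7 := by
    intro n hn hpn
    have h := hpn.trans hn
    rw [h20] at h
    rcases hp.dvd_mul.1 h with h | h
    · exact absurd ((Nat.prime_dvd_prime_iff_eq hp Nat.prime_two).1 (hp.dvd_of_dvd_pow h)) hp2
    rcases hp.dvd_mul.1 h with h | h
    · exact absurd ((Nat.prime_dvd_prime_iff_eq hp Nat.prime_three).1 (hp.dvd_of_dvd_pow h)) hp3
    rcases hp.dvd_mul.1 h with h | h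
    · exact Or.inl ((Nat.prime_dvd_prime_iff_eq hp (by norm_num)).1 h)
    · exact Or.inr ((Nat.prime_dvd_prime_iff_eq hp (by norm_num)).1 h)
  -- the `p`-part of `D`
  set C := K.map φ ⊓ D with hC
  obtain ⟨j, hj⟩ := IsPGroup.iff_card.1 ((hKp.map φ).to_le (inf_le_left : C ≤ K.map φ))
  have hcC : c ∈ C := ⟨hy ▸ mem_map_of_mem φ hyK, hcD⟩
  have hj1 : j ≠ 0 := by
    rintro rfl
    rw [pow_zero, Subgroup.card_eq_one] at hj
    exact hc1 (Subgroup.mem_bot.1 (hj ▸ hcC))
  have hjd : p ^ j ∣ 20160 := hj ▸ (card_dvd_of_le inf_le_right).trans hDdvd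
  have hp' := hp57 hjd (dvd_pow_self p hj1)
  have hj' : j = 1 := by
    by_contra hne
    have h := (pow_dvd_pow p (by omega : 2 ≤ j)).trans hjd
    rcases hp' with rfl | rfl <;> norm_num at h
  rw [hj', pow_one] at hj
  have hcp : c ^ p = 1 := by
    have := pow_card_eq_one' (x := (⟨c, hcC⟩ : C))
    rw [hj] at this
    exact congrArg Subtype.val this
  have hzC : Subgroup.zpowers c = C := by
    refine eq_of_le_of_card_ge (zpowers_le.2 hcC) ?_
    rw [hj, Nat.card_zpowers, orderOf_eq_prime hcp hc1]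
  obtain ⟨i, hi⟩ : ∃ i : ℕ, c ^ i = a * c * a⁻¹ := by
    have hmem : a * c * a⁻¹ ∈ C := by
      refine ⟨⟨x' * y * x'⁻¹, hKn x' hxH y hyK, by rw [map_mul, map_mul, map_inv, hy, ← ha]⟩,
        D.mul_mem (D.mul_mem haD hcD) (D.inv_mem haD)⟩
    rw [← hzC, mem_zpowers_iff] at hmem
    obtain ⟨z, hz⟩ := hmem
    refine ⟨(z % p).toNat, ?_⟩
    rw [← zpow_natCast, Int.toNat_of_nonneg (Int.emod_nonneg z (by exact_mod_cast hp.ne_zero)),
      ← orderOf_eq_prime hcp hc1, zpow_mod_orderOf, hz]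
  rcases hp' with rfl | rfl
  · -- no element of order five is moved
    exfalso
    have h1 : c ^ (i * (i * i)) = c := by
      have e1 : ∀ n : ℕ, a * c ^ n * a⁻¹ = c ^ (i * n) := fun n => by rw [← conj_pow, ← hi, ← pow_mul]
      have e3 : a * (a * (a * c * a⁻¹) * a⁻¹) * a⁻¹ = c := by
        calc a * (a * (a * c * a⁻¹) * a⁻¹) * a⁻¹ = a ^ 3 * c * (a ^ 3)⁻¹ := by simp [pow_succ, mul_assoc]
          _ = c := by rw [ha3]; group
      rwa [← hi, e1, e1] at e3
    have hmod : i * (i * i) ≡ 1 [MOD 5] := by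
      have h2 : c ^ (i * (i * i)) = c ^ 1 := by rw [h1, pow_one]
      rwa [pow_eq_pow_iff_modEq, orderOf_eq_prime hcp hc1] at h2
    have hi1 : i % 5 = 1 := by
      have h2 : (i % 5) * ((i % 5) * (i % 5)) % 5 = 1 := by
        have := hmod
        rw [Nat.ModEq, Nat.mul_mod, Nat.mul_mod i i] at this
        simpa [Nat.mul_mod, Nat.mod_mod] using this
      have : i % 5 < 5 := Nat.mod_lt _ (by norm_num)
      interval_cases h : i % 5 <;> omega
    have hac : a * c * a⁻¹ = c := by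
      rw [← hi, ← pow_mod_orderOf, orderOf_eq_prime hcp hc1, hi1, pow_one]
    have hcomm' : Commute a c := mul_inv_eq_iff_eq_mul.1 hac
    have hb3 : b ^ 3 = 1 := by rw [hb, conj_pow, ha3, mul_one, mul_inv_cancel]
    rw [show b = a * c by rw [hc, mul_inv_cancel_left], hcomm'.mul_pow, ha3, one_mul] at hb3
    exact hc1 ((pow_eq_one_iff_of_coprime (m := 3) (n := 5) (by norm_num)).1 ⟨hb3, hcp⟩)
  · haveI : Fact (Nat.Prime 7) := ⟨by norm_num⟩
    have hcU : W c ≤ U := hcD.2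
    have hWc1 : W c ≠ ⊥ := by
      intro h
      apply hc1
      apply MulEquiv.ext
      intro m
      have := mem_W c m
      rw [h, mem_bot, mul_inv_eq_one] at this
      exact this
    have hU16 : Nat.card U ∣ 2 ^ 4 := hU
    have hWc : Nat.card (W c) = 8 := by
      have hm := card_modEq_one hexp (by norm_num : (7 : ℕ) ≠ 2) hcp le_rfl (fun w hw => apply_mem le_rfl hw)
      have h1 : Nat.card (W c) ≠ 1 := fun h => hWc1 (Subgroup.card_eq_one.1 h)
      obtain ⟨l, hl, hl'⟩ := (Nat.dvd_prime_pow Nat.prime_two).1 ((card_dvd_of_le hcU).trans hU16)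
      rw [hl'] at hm h1 ⊢
      revert hm h1
      interval_cases l <;> norm_num [Nat.ModEq]
    have haWc : (W c).map a.toMonoidHom = W c := by
      refine eq_of_le_of_card_ge ?_ (by rw [card_map_of_injective (f := a.toMonoidHom) a.injective])
      rw [← W_conj, ← hi]
      exact pow_mem (mem_movers.2 (le_refl (W c))) i
    have hdisp : ∀ u ∈ U, disp a u ∈ W c := by
      intro u hu
      by_cases hu' : u ∈ W c
      · exact mul_mem (haWc ▸ ⟨u, hu', rfl⟩) (inv_mem hu')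
      have hidx : ((W c).subgroupOf U).index = 2 := by
        have h := ((W c).subgroupOf U).card_mul_index
        rw [Nat.card_congr (subgroupOfEquivOfLe hcU).toEquiv, hWc] at h
        have h16 : Nat.card U ≤ 16 := Nat.le_of_dvd (by norm_num) hU16
        have hne : ((W c).subgroupOf U).index ≠ 1 := fun h' => hu' (by
          rw [index_eq_one, subgroupOf_eq_top] at h'
          exact h' hu)
        have := ((W c).subgroupOf U).index_ne_zero_of_finite
        omega
      have hau : a u ∉ W c := by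
        intro h
        rw [← haWc] at h
        obtain ⟨v, hv, hva⟩ := h
        exact hu' (a.injective hva ▸ hv)
      have := (Subgroup.mul_mem_iff_of_index_two hidx
        (a := (⟨a u, apply_mem haD.2 hu⟩ : U)) (b := (⟨u, hu⟩ : U)⁻¹)).2
        (by simpa [mem_subgroupOf, hau] using hu')
      exact this
    have haC : W a ≤ W c := by
      refine (W_le_map_disp hexp (by decide : Odd 3) ha3).trans ?_
      rintro _ ⟨u, hu, rfl⟩
      exact hdisp u (haU hu)
    obtain ⟨R, hR⟩ := hKp.exists_le_sylow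
    have g6 : ¬ 7 ^ 3 ∣ ∏ i : Fin (2 * 3), (2 ^ (2 * 3) - 2 ^ (i : ℕ)) := by decide
    have g3 : ¬ 7 ^ 2 ∣ ∏ i : Fin 3, (2 ^ 3 - 2 ^ (i : ℕ)) := by decide
    have := good_of_sylow φ hexp (k := 3) (by norm_num) (by norm_num) g6 g3 R R.2 (hR hyK)
      (by rw [hy, hcp]) (by rw [hy, hWc]) hE hE3 (hEK.trans hR)
    rw [hy] at this
    exact this.mono φ haC

/-- Let S be a finite solvable group and M a normal elementary abelian 2-subgroup of S. Suppose S contains an elementary abelian subgroup of order p³ for some odd prime p, and a cyclic 3-subgroup Q such that the cubes of the elements of Q centralize M and the commutator subgroup [Q, M] has order 4 (a four-group inside M). Then S contains an elementary abelian subgroup F of order r³, for some odd prime r, whose centralizer of [Q, M] in F — the subgroup C_F([Q, M]) — is not cyclic. -/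
theorem result {S : Type*} [Group S] [Finite S]
    [Group.IsSolvable S] (M : Subgroup S) [M.Normal] (hM : Cfsg.IsElementaryAbelian 2 M)
    (p : ℕ) (hp : p.Prime) (hp2 : p ≠ 2) (E : Subgroup S) (hE : Cfsg.IsElementaryAbelian p E) (hE3 : Nat.card ↥E = p ^ 3)
    (Q : Subgroup S) (hQc : IsCyclic ↥Q) (hQ3 : IsPGroup 3 ↥Q)
    (hQ1 : ∀ x ∈ Q, x ^ 3 ∈ Subgroup.centralizer (M : Set S)) (hQM : Nat.card ↥⁅Q, M⁆ = 4) :
    ∃ (r : ℕ) (F : Subgroup S), r.Prime ∧ r ≠ 2 ∧ Cfsg.IsElementaryAbelian r F ∧ Nat.card ↥F = r ^ 3 ∧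
      ¬ IsCyclic ↥(F ⊓ Subgroup.centralizer ((⁅Q, M⁆ : Subgroup S) : Set S)) := by
  open Cfsg.Lib.FourMover in
  haveI := hM.1
  letI : CommGroup M := { mul_comm := mul_comm' }
  have hexp : ∀ m : M, m ^ 2 = 1 := fun m => Subtype.ext (hM.2 m m.2)
  let φ : S →* MulAut M := MulAut.conjNormal
  obtain ⟨x, hx⟩ := Subgroup.isCyclic_iff_exists_zpowers_eq_top Q |>.1 hQc
  have hxQ : x ∈ Q := hx ▸ Subgroup.mem_zpowers x
  have hx3 : φ x ^ 3 = 1 := by
    rw [← map_pow]
    apply MulEquiv.ext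
    intro m
    refine Subtype.ext ?_
    rw [MulAut.one_apply]
    show ((MulAut.conjNormal (x ^ 3) m : M) : S) = m
    rw [MulAut.conjNormal_apply, ← Subgroup.mem_centralizer_iff.1 (hQ1 x hxQ) m m.2, mul_inv_cancel_right]
  have hWeq : ⁅Q, M⁆ = (W (φ x)).map M.subtype := by
    refine le_antisymm (Subgroup.commutator_le.2 fun q hq m hm => ?_) ?_
    · have hq' : φ q ∈ movers (W (φ x)) := by
        rw [← hx, Subgroup.mem_zpowers_iff] at hq
        obtain ⟨z, rfl⟩ := hq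
        rw [map_zpow]
        exact Subgroup.zpow_mem _ (mem_movers.2 (le_refl (W (φ x)))) z
      exact ⟨_, hq' (mem_W (φ q) ⟨m, hm⟩), rfl⟩
    · rintro _ ⟨_, ⟨m, rfl⟩, rfl⟩
      exact Subgroup.commutator_mem_commutator hxQ m.2
  have hW : Nat.card (W (φ x)) = 4 := by
    rw [← hQM, hWeq, Subgroup.card_map_of_injective M.subtype_injective]
  obtain ⟨r, F, hr, hr2, hF, hFc, hbig⟩ := finish φ hexp x hx3 ⟨Q, hQ3, hxQ⟩ hW hp hp2 E hE hE3
  refine ⟨r, F, hr, hr2, hF, hFc, fun hcyc => ?_⟩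
  have hle : F ⊓ fixer φ (W (φ x)) ≤ F ⊓ Subgroup.centralizer ((⁅Q, M⁆ : Subgroup S) : Set S) := by
    refine inf_le_inf le_rfl fun s hs => Subgroup.mem_centralizer_iff.2 fun w hw => ?_
    rw [hWeq] at hw
    obtain ⟨w, hw, rfl⟩ := hw
    have := congrArg Subtype.val (hs w hw)
    rw [show ((φ s w : M) : S) = s * w * s⁻¹ from MulAut.conjNormal_apply s w, mul_inv_eq_iff_eq_mul] at this
    exact this.symm
  have h1 := hbig.trans (Nat.card_le_card_of_injective _ (Subgroup.inclusion_injective hle))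
  obtain ⟨g, hg⟩ := hcyc.exists_generator
  have h2 : Nat.card ↥(F ⊓ Subgroup.centralizer ((⁅Q, M⁆ : Subgroup S) : Set S)) ≤ r := by
    rw [← orderOf_eq_card_of_forall_mem_zpowers hg]
    exact Nat.le_of_dvd hr.pos (orderOf_dvd_of_pow_eq_one (Subtype.ext (hF.2 _ g.2.1)))
  nlinarith [hr.two_le, h1.trans h2]

end Cfsg.Agent.S4404
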