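import Cfsg.Statements.S4415
import Cfsg.Agent.CubicBlock.Main
-- import your own Cfsg.Agent.* helpers here

set_option autoImplicit false
open Cfsg

namespace Cfsg.Agent.S4415

/-- Let S be a finite solvable group acting faithfully on a finite-dimensional space E over the field with three elements, with O₃(S) = 1. Let B ≤ S have order 3 and suppose: E = E₀ ⊕ E₁ with B fixing E₁ pointwise, E₀ B-invariant of order 27 and indecomposable under B (a generator of B has a single Jordan block on E₀); B normalizes but does not centralize some subgroup Q of S that is elementary abelian of order 4; and B is the centre of a Sylow 3-subgroup of S. Put R = [O_{3'}(S), B]. Then R is elementary abelian of order 4 or extraspecial of order 32 containing an elementary abelian subgroup of order 8 (a central product of two quaternion groups), and E is the direct sum of a subspace fixed pointwise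 by R and an RB-invariant subspace on which the subgroup RB acts faithfully and irreducibly. -/
theorem result {S : Type*} [Group S] [Finite S]
    [Group.IsSolvable S] {E : Type*} [AddCommGroup E] [Module (ZMod 3) E] [Finite E] (ρ : Representation (ZMod 3) S E)
    (hfaith : Function.Injective ρ) (hO3 : Cfsg.pCore 3 S = ⊥)
    (B : Subgroup S) (hB : Nat.card ↥B = 3) (b : S) (hb : Subgroup.zpowers b = B)
    (E₀ E₁ : Submodule (ZMod 3) E) (hE01 : E₀ ⊓ E₁ = ⊥) (hE01' : E₀ ⊔ E₁ = ⊤)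
    (hE1 : ∀ v ∈ E₁, ρ b v = v) (hE0inv : ∀ v ∈ E₀, ρ b v ∈ E₀) (hE0 : Nat.card ↥E₀ = 27)
    (hind : ∃ v ∈ E₀, ρ b (ρ b v - v) - (ρ b v - v) ≠ 0)
    (Q : Subgroup S) (hQ : Cfsg.IsElementaryAbelian 2 Q) (hQ4 : Nat.card ↥Q = 4)
    (hBQ : B ≤ Subgroup.normalizer (Q : Set S)) (hBQ' : ¬ B ≤ Subgroup.centralizer (Q : Set S))
    (P : Sylow 3 S) (hBZ : (Subgroup.center ↥(P : Subgroup S)).map (P : Subgroup S).subtype = B) :
    ((Cfsg.IsElementaryAbelian 2 ⁅Cfsg.pPrimeCore 3 S, B⁆ ∧ Nat.card ↥⁅Cfsg.pPrimeCore 3 S, B⁆ = 4) ∨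
      (Cfsg.IsExtraspecial 2 ↥⁅Cfsg.pPrimeCore 3 S, B⁆ ∧ Nat.card ↥⁅Cfsg.pPrimeCore 3 S, B⁆ = 32 ∧
        ∃ A : Subgroup S, A ≤ ⁅Cfsg.pPrimeCore 3 S, B⁆ ∧ Cfsg.IsElementaryAbelian 2 A ∧ Nat.card ↥A = 8)) ∧
    ∃ F₀ F₁ : Submodule (ZMod 3) E, F₀ ⊓ F₁ = ⊥ ∧ F₀ ⊔ F₁ = ⊤ ∧
      (∀ r ∈ ⁅Cfsg.pPrimeCore 3 S, B⁆, ∀ v ∈ F₁, ρ r v = v) ∧ (∀ r ∈ ⁅Cfsg.pPrimeCore 3 S, B⁆ ⊔ B, ∀ v ∈ F₀, ρ r v ∈ F₀) ∧
      (∀ r ∈ ⁅Cfsg.pPrimeCore 3 S, B⁆ ⊔ B, (∀ v ∈ F₀, ρ r v = v) → r = 1) ∧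
      (∀ N : Submodule (ZMod 3) E, N ≤ F₀ → (∀ r ∈ ⁅Cfsg.pPrimeCore 3 S, B⁆ ⊔ B, ∀ v ∈ N, ρ r v ∈ N) → N = ⊥ ∨ N = F₀) := by
  have hbB : b ∈ B := hb ▸ Subgroup.mem_zpowers b
  have hord : orderOf b = 3 := by rw [← Nat.card_zpowers, hb, hB]
  have h3 : b ^ 3 = 1 := by rw [← hord]; exact pow_orderOf_eq_one b
  have hb1 : b ≠ 1 := fun e => by rw [e, orderOf_one] at hord; omega
  have hblock := Cfsg.Lib.CubicBlock.isBlock_of_split hfaith h3 E₀ E₁ hE01' hE1 hE0inv hE0 hind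
  have hbQ' : b ∉ Subgroup.centralizer (Q : Set S) := fun hc => hBQ' (by
    rw [← hb, Subgroup.zpowers_le]; exact hc)
  obtain ⟨q, hq⟩ := Cfsg.Lib.CubicBlock.exists_isFour h3 Q hQ hQ4 (hBQ hbB) hbQ'
  obtain ⟨g, hg, hge⟩ := Subgroup.mem_map.mp (hBZ.ge hbB)
  have hbP : b ∈ (P : Subgroup S) := hge ▸ g.2
  have hbZ : ∀ x ∈ (P : Subgroup S), b * x = x * b := fun x hx => by
    rw [← hge]
    exact (congrArg Subtype.val (Subgroup.mem_center_iff.mp hg ⟨x, hx⟩)).symm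
  have hqK := Cfsg.Lib.CubicBlock.four_mem_core hq P hbP hbZ
  obtain ⟨R, hR, hR2, hRn, hRgen, hqR⟩ := Cfsg.Lib.CubicBlock.reduce hblock hq hO3 hb1 hqK
  rw [← hb, ← hR]
  exact (Cfsg.Lib.CubicBlock.Setting.conclusion ⟨hblock, hR2, hRn, hRgen, hq, hqR⟩)

end Cfsg.Agent.S4415
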