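import Cfsg.Statements.S4418
import Cfsg.Agent.InvolCalc.MetacyclicQuotient
import Cfsg.Agent.S0205
-- import your own Cfsg.Agent.* helpers here

set_option autoImplicit false
open Cfsg

namespace Cfsg.Agent.S4418

/-- Let G be a finite group whose Sylow 2-subgroup S is metacyclic via a cyclic normal subgroup N of S with S/N cyclic of order greater than 2. Then G is soluble. -/
theorem result {G : Type*} [Group G] [Finite G] (S : Sylow 2 G) (N : Subgroup ↥(S : Subgroup G)) [hN : N.Normal] (hNc : IsCyclic N) (hQc : IsCyclic (↥(S : Subgroup G) ⧸ N)) (hQ : 2 < Nat.card (↥(S : Subgroup G) ⧸ N)) : Group.IsSolvable G := by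
  classical
  haveI := Fact.mk Nat.prime_two
  obtain ⟨a, ha⟩ := (Subgroup.isCyclic_iff_exists_zpowers_eq_top N).1 hNc
  obtain ⟨q, hq⟩ := hQc.exists_generator
  obtain ⟨s, rfl⟩ := QuotientGroup.mk_surjective q
  have hz : ∀ x : ↥(S : Subgroup G), (x : G) ∈ Subgroup.zpowers (a : G) ↔ x ∈ N := fun x => by
    rw [← ha, Subgroup.mem_zpowers_iff, Subgroup.mem_zpowers_iff]
    simp only [← SubgroupClass.coe_zpow, Subtype.coe_inj]
  refine Cfsg.Lib.InvolCalc.MetaFrame.solvable_of_frame (fun h => Cfsg.Agent.S0205.result h) S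
    (a := (a : G)) (s := (s : G)) ⟨S.2, a.2, s.2, ?_, ?_, fun h => ?_⟩
  · have : ((s * a * s⁻¹ : ↥(S : Subgroup G)) : G) ∈ Subgroup.zpowers (a : G) :=
      (hz _).2 (hN.conj_mem a (ha ▸ Subgroup.mem_zpowers a) s)
    simpa using this
  · intro x hx
    obtain ⟨j, hj⟩ := Subgroup.mem_zpowers_iff.1 (hq (QuotientGroup.mk ⟨x, hx⟩))
    have h1 : (⟨x, hx⟩ : ↥(S : Subgroup G)) * (s ^ j)⁻¹ ∈ N := by
      rw [← QuotientGroup.eq_one_iff, QuotientGroup.mk_mul, QuotientGroup.mk_inv, QuotientGroup.mk_zpow,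
        hj, mul_inv_cancel]
    rw [← ha, Subgroup.mem_zpowers_iff] at h1
    obtain ⟨i, hi⟩ := h1
    refine ⟨i, j, ?_⟩
    have h2 := congrArg Subtype.val (eq_mul_inv_iff_mul_eq.1 hi)
    simpa using h2.symm
  · have h1 : s ^ 2 ∈ N := (hz _).1 (by simpa using h)
    have h2 : orderOf (QuotientGroup.mk s : ↥(S : Subgroup G) ⧸ N) = Nat.card (↥(S : Subgroup G) ⧸ N) :=
      orderOf_eq_card_of_forall_mem_zpowers hq
    have h3 := Nat.le_of_dvd two_pos (orderOf_dvd_of_pow_eq_one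
      (by rw [← QuotientGroup.mk_pow]; exact (QuotientGroup.eq_one_iff _).2 h1 :
        (QuotientGroup.mk s : ↥(S : Subgroup G) ⧸ N) ^ 2 = 1))
    omega

end Cfsg.Agent.S4418
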