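import Cfsg.Statements.S4420
import Mathlib

set_option autoImplicit false
open Cfsg

namespace Cfsg.Agent.S4420

/-- Structure of groups in which every element outside some proper subgroup has square 1. Let H be a finite group with a proper subgroup A such that every element outside A has square 1. Then H has an abelian normal subgroup B of index 2 such that every element outside B is an involution inverting every element of B; and if H is not an elementary abelian 2-group, B is the only abelian normal subgroup of index 2 with this property. -/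
theorem result {H : Type*} [Group H] [Finite H] (A : Subgroup H) (hA : A ≠ ⊤) (hD : ∀ x : H, x ∉ A → x ^ 2 = 1) :
    ∃ B : Subgroup H, B.Normal ∧ IsMulCommutative ↥B ∧ B.index = 2 ∧
      (∀ x : H, x ∉ B → x ^ 2 = 1 ∧ ∀ b ∈ B, x * b * x⁻¹ = b⁻¹) ∧
      (¬ (IsMulCommutative H ∧ ∀ x : H, x ^ 2 = 1) →
        ∀ B' : Subgroup H, B'.Normal → IsMulCommutative ↥B' → B'.index = 2 →
          (∀ x : H, x ∉ B' → x ^ 2 = 1 ∧ ∀ b ∈ B', x * b * x⁻¹ = b⁻¹) → B' = B) := by
  classical
  have hinv : ∀ t, t ∉ A → ∀ a ∈ A, t * a * t⁻¹ = a⁻¹ := by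
    intro t ht a ha
    have h1 : t * a ∉ A := fun h => ht (by simpa using mul_mem h (inv_mem ha))
    have h2 := hD _ h1
    rw [pow_two] at h2
    have h3 : t⁻¹ = t := inv_eq_of_mul_eq_one_right (by rw [← pow_two]; exact hD t ht)
    rw [h3, eq_inv_iff_mul_eq_one]
    rw [← mul_assoc] at h2
    exact h2
  obtain ⟨t0, -, ht0⟩ := SetLike.exists_of_lt (lt_top_iff_ne_top.2 hA)
  have hAc : IsMulCommutative A := ⟨⟨fun a b => by
    have h := hinv t0 ht0 _ (mul_mem a.2 b.2)
    rw [show t0 * ((a : H) * b) * t0⁻¹ = (t0 * a * t0⁻¹) * (t0 * b * t0⁻¹) by group, hinv t0 ht0 a a.2,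
      hinv t0 ht0 b b.2, mul_inv_rev] at h
    have h' := congrArg (·⁻¹) h
    simp only [mul_inv_rev, inv_inv] at h'
    exact Subtype.ext h'.symm⟩⟩
  by_cases hel : ∀ a ∈ A, a ^ 2 = 1
  · -- elementary abelian
    have hall : ∀ x : H, x ^ 2 = 1 := fun x => by
      by_cases hx : x ∈ A
      · exact hel x hx
      · exact hD x hx
    have hinv1 : ∀ x : H, x⁻¹ = x := fun x => inv_eq_of_mul_eq_one_right (by rw [← pow_two]; exact hall x)
    have hcomm : ∀ a b : H, a * b = b * a := fun a b => by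
      have := hinv1 (a * b)
      rw [mul_inv_rev, hinv1, hinv1] at this
      exact this.symm
    haveI : Fact (Nat.Prime 2) := ⟨Nat.prime_two⟩
    have hP : IsPGroup 2 H := fun x => ⟨1, by rw [pow_one]; exact hall x⟩
    haveI : Nontrivial H := ⟨⟨t0, 1, fun e => ht0 (e ▸ one_mem A)⟩⟩
    obtain ⟨n, hn0, hn⟩ := hP.nontrivial_iff_card.1 inferInstance
    obtain ⟨B, hB⟩ := Sylow.exists_subgroup_card_pow_prime 2 (G := H) (n := n - 1)
      (hn ▸ pow_dvd_pow 2 (Nat.sub_le n 1))
    have hidx : B.index = 2 := by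
      have := B.card_mul_index
      rw [hB, hn, ← Nat.sub_add_cancel hn0, pow_succ, Nat.add_sub_cancel] at this
      exact Nat.eq_of_mul_eq_mul_left (Nat.two_pow_pos _) this
    refine ⟨B, ⟨fun b hb g => by rw [hcomm g b, mul_inv_cancel_right]; exact hb⟩,
      ⟨⟨fun a b => Subtype.ext (hcomm a b)⟩⟩, hidx, fun x _ => ⟨hall x, fun b _ => by
        rw [hcomm x b, mul_inv_cancel_right, hinv1]⟩, fun h => absurd ⟨⟨⟨hcomm⟩⟩, hall⟩ h⟩
  · push Not at hel
    obtain ⟨a0, ha0, ha02⟩ := hel
    have hA2 : A.index = 2 := by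
      refine Subgroup.index_eq_two_iff.2 ⟨t0, fun b => ?_⟩
      by_cases hb : b ∈ A
      · exact Or.inr ⟨hb, fun h => ht0 (by simpa using mul_mem (inv_mem hb) h)⟩
      · refine Or.inl ⟨?_, hb⟩
        by_contra hbt
        have h1 := hinv _ hbt a0 ha0
        rw [show b * t0 * a0 * (b * t0)⁻¹ = b * (t0 * a0 * t0⁻¹) * b⁻¹ by group, hinv t0 ht0 a0 ha0,
          ← conj_inv, hinv b hb a0 ha0, inv_inv] at h1
        exact ha02 (by rw [pow_two, ← eq_inv_iff_mul_eq_one]; exact h1)
    refine ⟨A, Subgroup.normal_of_index_eq_two hA2, hAc, hA2, fun x hx => ⟨hD x hx, hinv x hx⟩,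
      fun _ B' _ hB'c hB'2 hB' => ?_⟩
    have ha0' : a0 ∈ B' := by_contra fun h => ha02 (hB' a0 h).1
    have hle : A ≤ B' := fun a ha => by
      by_contra h
      refine ha02 ?_
      have h1 := (hB' a h).2 a0 ha0'
      rw [show a * a0 = a0 * a from congrArg Subtype.val (mul_comm' (⟨a, ha⟩ : A) ⟨a0, ha0⟩), mul_inv_cancel_right] at h1
      rw [pow_two, ← eq_inv_iff_mul_eq_one]; exact h1
    have h1 := Subgroup.relIndex_mul_index hle
    rw [hA2, hB'2] at h1
    have h2 : A.relIndex B' = 1 := by omega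
    exact le_antisymm (Subgroup.relIndex_eq_one.1 h2) hle

end Cfsg.Agent.S4420
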