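import Cfsg.Statements.S4421
import Cfsg.Agent.SolvStruct.Basics

set_option autoImplicit false
open Cfsg

namespace Cfsg.Agent.S4421

/-- A factorization of a normalizer from two-step control of fusion. Let `G` be a finite group and `A ≤ S ≤ H` subgroups of `G` such that: (i) `S` controls the `G`-fusion of `A` in the sense that every `G`-conjugate of `A` lying in `S` is an `S`-conjugate of `A`; (ii) `H` controls the `G`-fusion of `S` in the same sense; (iii) every conjugate of `S` by an element of the normalizer of `A` lies in `H`. Then `N_G(A) = N_H(A) · (N_G(S) ∩ N_G(A))`: every element of the normalizer of `A` is a product of an element of `H` normalizing `A` and an element normalizing both `S` and `A`. -/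
theorem result {G : Type*} [Group G] [Finite G] (A S H : Subgroup G)
    (hAS : A ≤ S) (hSH : S ≤ H)
    (h1 : ∀ g : G, A.map (MulAut.conj g).toMonoidHom ≤ S → ∃ s ∈ S, A.map (MulAut.conj g).toMonoidHom = A.map (MulAut.conj s).toMonoidHom)
    (h2 : ∀ g : G, S.map (MulAut.conj g).toMonoidHom ≤ H → ∃ y ∈ H, S.map (MulAut.conj g).toMonoidHom = S.map (MulAut.conj y).toMonoidHom)
    (h3 : ∀ x ∈ Subgroup.normalizer (A : Set G), S.map (MulAut.conj x).toMonoidHom ≤ H) :
    ∀ x ∈ Subgroup.normalizer (A : Set G), ∃ y ∈ H ⊓ Subgroup.normalizer (A : Set G),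
      ∃ z ∈ Subgroup.normalizer (S : Set G) ⊓ Subgroup.normalizer (A : Set G), x = y * z := by
  intro x hx
  have hmm : ∀ (K : Subgroup G) (a b : G), (K.map (MulAut.conj b).toMonoidHom).map (MulAut.conj a).toMonoidHom
      = K.map (MulAut.conj (a * b)).toMonoidHom := fun K a b => by
    rw [Subgroup.map_map]; congr 1; ext z; simp [mul_assoc]
  have hm1 : ∀ (K : Subgroup G) (a b : G),
      K.map (MulAut.conj a).toMonoidHom = K.map (MulAut.conj b).toMonoidHom →
        b⁻¹ * a ∈ Subgroup.normalizer (K : Set G) := by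
    intro K a b hab
    have h0 := congrArg (Subgroup.map (MulAut.conj b⁻¹).toMonoidHom) hab
    rw [hmm, hmm, inv_mul_cancel] at h0
    have h1 : K.map (MulAut.conj (b⁻¹ * a)).toMonoidHom = K := by
      rw [h0]; ext z; simp
    exact Subgroup.mem_normalizer_iff.2 fun z => by
      constructor
      · intro hz; rw [← h1]; exact ⟨z, hz, rfl⟩
      · intro hz
        rw [← h1] at hz
        obtain ⟨w, hw, hwz⟩ := hz
        rwa [← (MulAut.conj (b⁻¹ * a)).injective hwz]
  have hfix : ∀ (K : Subgroup G) (a : G), a ∈ Subgroup.normalizer (K : Set G) →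
      K.map (MulAut.conj a).toMonoidHom = K := by
    intro K a ha
    ext z
    constructor
    · rintro ⟨w, hw, rfl⟩
      exact (Subgroup.mem_normalizer_iff.1 ha w).1 hw
    · intro hz
      exact ⟨a⁻¹ * z * a, (Subgroup.mem_normalizer_iff''.1 ha z).1 hz, by simp [mul_assoc]⟩
  obtain ⟨y, hy, hy'⟩ := h2 x (h3 x hx)
  have hz0 := hm1 S x y hy'
  have hle : A.map (MulAut.conj (y⁻¹ * x)).toMonoidHom ≤ S :=
    (Subgroup.map_mono hAS).trans (hfix S _ hz0).le
  obtain ⟨s, hs, hs'⟩ := h1 _ hle
  have hz := hm1 A _ s hs'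
  have hzS : s⁻¹ * (y⁻¹ * x) ∈ Subgroup.normalizer (S : Set G) :=
    mul_mem (inv_mem (Subgroup.le_normalizer hs)) hz0
  refine ⟨y * s, ⟨mul_mem hy (hSH hs), ?_⟩, s⁻¹ * (y⁻¹ * x), ⟨hzS, hz⟩, by group⟩
  have := mul_mem hx (inv_mem hz)
  rwa [show x * (s⁻¹ * (y⁻¹ * x))⁻¹ = y * s by group] at this

end Cfsg.Agent.S4421
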