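import Cfsg.Statements.S4422
import Cfsg.Agent.SolvStruct.Basics

set_option autoImplicit false
open Cfsg

namespace Cfsg.Agent.S4422

/-- Primitive divisors of `q^e - 1` are congruent to 1 modulo `e`. Let `q ≥ 2` and `e ≥ 1` be natural numbers and let `m` be a divisor of `q^e - 1` that is coprime to `q^i - 1` for every `1 ≤ i < e` (so `m` divides the primitive part of `q^e - 1`, the largest such divisor). Then `m ≡ 1 (mod e)`. -/
theorem result (q e m : ℕ) (hq : 2 ≤ q) (he : 1 ≤ e)
    (hm : m ∣ q ^ e - 1) (hcop : ∀ i : ℕ, 1 ≤ i → i < e → Nat.Coprime m (q ^ i - 1)) :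
    m % e = 1 % e := by
  have hmpos : 0 < m := by
    rcases Nat.eq_zero_or_pos m with rfl | h
    · have := Nat.eq_zero_of_zero_dvd hm
      have h2 : 2 ^ 1 ≤ q ^ e := (Nat.pow_le_pow_right (by norm_num) he).trans (Nat.pow_le_pow_left hq e)
      omega
    · exact h
  show m ≡ 1 [MOD e]
  clear hmpos
  induction m using Nat.recOnMul with
  | zero =>
    have := Nat.eq_zero_of_zero_dvd hm
    have h2 : 2 ^ 1 ≤ q ^ e := (Nat.pow_le_pow_right (by norm_num) he).trans (Nat.pow_le_pow_left hq e)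
    omega
  | one => rfl
  | prime r hr =>
    haveI := Fact.mk hr
    have hqe : (q : ZMod r) ^ e = 1 := by
      have h1 := (ZMod.natCast_eq_zero_iff _ r).2 hm
      rwa [Nat.cast_sub (Nat.one_le_pow _ _ (by omega)), Nat.cast_pow, Nat.cast_one, sub_eq_zero] at h1
    have hq0 : (q : ZMod r) ≠ 0 := fun h0 => by
      rw [h0, zero_pow (by omega)] at hqe
      exact zero_ne_one hqe
    have hord : orderOf (q : ZMod r) = e := by
      rw [orderOf_eq_iff (by omega)]
      refine ⟨hqe, fun i hi hi0 hqi => ?_⟩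
      have h1 : r ∣ q ^ i - 1 := by
        rw [← ZMod.natCast_eq_zero_iff _ r, Nat.cast_sub (Nat.one_le_pow _ _ (by omega)), Nat.cast_pow,
          Nat.cast_one, hqi, sub_self]
      exact hr.ne_one (Nat.eq_one_of_dvd_coprimes (hcop i hi0 hi) dvd_rfl h1)
    have h2 : e ∣ r - 1 := hord ▸ orderOf_dvd_of_pow_eq_one (ZMod.pow_card_sub_one_eq_one hq0)
    exact ((Nat.modEq_iff_dvd' hr.one_le).2 h2).symm
  | mul a b iha ihb =>
    have ha := iha ((Dvd.intro b rfl).trans hm) fun i h1 h2 => Nat.Coprime.coprime_mul_right (hcop i h1 h2)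
    have hb := ihb ((Dvd.intro_left a rfl).trans hm) fun i h1 h2 => Nat.Coprime.coprime_mul_left (hcop i h1 h2)
    simpa using ha.mul hb

end Cfsg.Agent.S4422
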