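import Cfsg.Statements.S4425
import Cfsg.Agent.Blocks.Feit3
-- import your own Cfsg.Agent.* helpers here

set_option autoImplicit false
open Cfsg

namespace Cfsg.Agent.S4425

set_option linter.unusedSectionVars false

open Cfsg.Lib.Blocks Cfsg.Lib.Chars

/-- Let χ be an irreducible character of the finite group G, p a prime, p^a the p-part of the order of G and p^b the p-part of the degree χ(1). Let χ̃ be the class function equal to p^a · χ on p-regular elements and zero on p-singular elements. Then p^(−b) · χ̃ is a generalized character of G, while p^(−(b+1)) · χ̃ is not. -/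
theorem result {G : Type*} [Group G] [Finite G] (p : ℕ) [Fact p.Prime] (χ : Cfsg.IrrCharacter G) : Cfsg.IsGeneralizedCharacter G (fun x : G => if p ∣ orderOf x then (0 : ℂ) else ((p ^ ((Nat.card G).factorization p - (Cfsg.charDegree (χ : G → ℂ)).factorization p) : ℕ) : ℂ) * (χ : G → ℂ) x) ∧ ¬ Cfsg.IsGeneralizedCharacter G (fun x : G => if p ∣ orderOf x then (0 : ℂ) else ((p ^ (Nat.card G).factorization p : ℕ) : ℂ) / ((p ^ ((Cfsg.charDegree (χ : G → ℂ)).factorization p + 1) : ℕ) : ℂ) * (χ : G → ℂ) x) := by
  classical
  have := Fintype.ofFinite G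
  obtain ⟨M, hM⟩ := exists_isPModular (Fact.out : p.Prime)
  refine ⟨?_, ?_⟩
  · have hle : (deg (χ : G → ℂ)).factorization p ≤ (Nat.card G).factorization p := by
      obtain ⟨g, hg⟩ := exists_defectClass hM (isPBlock_blockOf χ)
      have h1 := pow_deg_dvd_regInt hM χ χ
      have h2 := regInt_self_le hM (isPBlock_blockOf χ) (mem_blockOf_self hM χ)
      have h3 := (Int.le_of_dvd (regInt_self_pos hM.1 χ) h1).trans h2
      exact (pow_le_pow_iff_right₀ (by exact_mod_cast hM.1.one_lt)).1 h3
    have h := isGeneralized_scaled_reg hM (χ := χ)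
      (k := (Nat.card G).factorization p - (deg (χ : G → ℂ)).factorization p)
      (l := (deg (χ : G → ℂ)).factorization p) (Nat.sub_add_cancel hle).symm le_rfl
    convert h using 1
    funext x
    rw [pRegularPart_apply, charDegree_eq_deg]
    split_ifs <;> simp
  · intro h
    refine not_isGeneralized_scaled_reg hM χ ?_
    convert h using 1
    funext x
    rw [pRegularPart_apply, charDegree_eq_deg]
    split_ifs <;> simp

end Cfsg.Agent.S4425
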