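import Cfsg.Statements.S4426
import Cfsg.Agent.Blocks.Feit3
-- import your own Cfsg.Agent.* helpers here

set_option autoImplicit false
open Cfsg

namespace Cfsg.Agent.S4426

set_option linter.unusedSectionVars false

open Cfsg.Lib.Blocks Cfsg.Lib.Chars

/-- Let χ be an irreducible character in the p-block B of the finite group G (relative to a maximal ideal M of the algebraic integers containing p), let p^a be the p-part of the order of G, and let χ̃ be the class function equal to p^a · χ on p-regular elements and zero elsewhere. For ξ ∈ B the inner product [χ̃, ξ] is an integer. The following are equivalent: (a) χ has height zero in B; (b) for some ξ ∈ B the integer [χ̃, ξ] is nonzero and the exact power of p dividing it equals the exact power of p dividing ξ(1); (c) the same holds for every ξ ∈ B. -/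
theorem result {G : Type*} [Group G] [Fintype G] (p : ℕ) [Fact p.Prime] (M : Ideal Cfsg.AlgInt) (hM : Cfsg.IsPModular p M) (B : Set (Cfsg.IrrCharacter G)) (hB : Cfsg.IsPBlock M B) (χ : Cfsg.IrrCharacter G) (hχ : χ ∈ B) : (Cfsg.blockHeight p B (χ : G → ℂ) = 0 ↔ ∃ ξ ∈ B, ∃ n : ℤ, Cfsg.classInner (fun x : G => if p ∣ orderOf x then (0 : ℂ) else ((p ^ (Nat.card G).factorization p : ℕ) : ℂ) * (χ : G → ℂ) x) (ξ : G → ℂ) = (n : ℂ) ∧ n ≠ 0 ∧ padicValInt p n = (Cfsg.charDegree (ξ : G → ℂ)).factorization p) ∧ (Cfsg.blockHeight p B (χ : G → ℂ) = 0 ↔ ∀ ξ ∈ B, ∃ n : ℤ, Cfsg.classInner (fun x : G => if p ∣ orderOf x then (0 : ℂ) else ((p ^ (Nat.card G).factorization p : ℕ) : ℂ) * (χ : G → ℂ) x) (ξ : G → ℂ) = (n : ℂ) ∧ n ≠ 0 ∧ padicValInt p n = (Cfsg.charDegree (ξ : G → ℂ)).factorization p) := by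
  classical
  have key : ∀ ξ : Cfsg.IrrCharacter G,
      Cfsg.classInner (fun x : G => if p ∣ orderOf x then (0 : ℂ)
        else ((p ^ (Nat.card G).factorization p : ℕ) : ℂ) * (χ : G → ℂ) x) (ξ : G → ℂ) =
      (regInt p χ ξ : ℂ) := by
    intro ξ
    rw [regInt_spec hM.1, ← classInner_smul_left]
    congr 1
    funext x
    rw [Pi.smul_apply, smul_eq_mul, pRegularPart_apply]
    split_ifs <;> simp
  have hiff : ∀ ξ ∈ B, (Cfsg.blockHeight p B (χ : G → ℂ) = 0 ↔
      ∃ n : ℤ, Cfsg.classInner (fun x : G => if p ∣ orderOf x then (0 : ℂ)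
        else ((p ^ (Nat.card G).factorization p : ℕ) : ℂ) * (χ : G → ℂ) x) (ξ : G → ℂ) = (n : ℂ) ∧
        n ≠ 0 ∧ padicValInt p n = (Cfsg.charDegree (ξ : G → ℂ)).factorization p) := by
    intro ξ hξ
    constructor
    · intro h0
      obtain ⟨hne, hν⟩ := regInt_height_zero hM hB hχ h0 hξ
      exact ⟨_, key ξ, hne, by rw [padicValInt, ← Nat.factorization_def _ hM.1, hν]; rfl⟩
    · rintro ⟨n, hn, hne, hν⟩
      rw [key ξ] at hn
      obtain rfl := Int.cast_injective hn
      by_contra h0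
      have h := regInt_height_pos hM hB hχ h0 hξ
      rw [← Nat.cast_pow, Int.natCast_dvd,
        hM.1.pow_dvd_iff_le_factorization (Int.natAbs_ne_zero.2 hne)] at h
      rw [padicValInt, ← Nat.factorization_def _ hM.1, charDegree_eq_deg] at hν
      omega
  exact ⟨⟨fun h => ⟨χ, hχ, (hiff χ hχ).1 h⟩, fun ⟨ξ, hξ, h⟩ => (hiff ξ hξ).2 h⟩,
    ⟨fun h ξ hξ => (hiff ξ hξ).1 h, fun h => (hiff χ hχ).2 (h χ hχ)⟩⟩

end Cfsg.Agent.S4426
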