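import Cfsg.Statements.S4428
import Cfsg.Agent.Blocks.Columns
import Cfsg.Agent.Blocks.Eigen
-- import your own Cfsg.Agent.* helpers here

set_option autoImplicit false
open Cfsg

namespace Cfsg.Agent.S4428

set_option linter.unusedSectionVars false

open Cfsg.Lib.Blocks Cfsg.Lib.Chars
open scoped ComplexConjugate

/-- Let χ be an irreducible character of height zero in the p-block B of the finite group G (relative to a maximal ideal M of the algebraic integers containing p). Let x be a p-element of G with centralizer C, and let b be a block of C that induces B. Form the class function ϑ(c) = χ(x c) on C and its b-part (the sum over ψ ∈ b of the inner product of ϑ with ψ, times ψ). Then the b-part of ϑ does not vanish identically on the p-regular elements of C. (Compare the second main Theorem, which gives vanishing when b does not induce B.) -/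
theorem result {G : Type*} [Group G] [Finite G] (p : ℕ) [Fact p.Prime] (M : Ideal Cfsg.AlgInt) (hM : Cfsg.IsPModular p M) (B : Set (Cfsg.IrrCharacter G)) (hB : Cfsg.IsPBlock M B) (χ : Cfsg.IrrCharacter G) (hχ : χ ∈ B) (h0 : Cfsg.blockHeight p B (χ : G → ℂ) = 0) (x : G) (hx : ∃ k : ℕ, orderOf x = p ^ k) (b : Set (Cfsg.IrrCharacter (Subgroup.centralizer ({x} : Set G)))) (hb : Cfsg.IsInducedBlock M (Subgroup.centralizer ({x} : Set G)) b B) : ∃ y : Subgroup.centralizer ({x} : Set G), ¬ p ∣ orderOf y ∧ Cfsg.blockPart b (fun c : Subgroup.centralizer ({x} : Set G) => (χ : G → ℂ) (x * (c : G))) y ≠ 0 := by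
  classical
  letI := Fintype.ofFinite G
  set H := Subgroup.centralizer ({x} : Set G) with hH
  letI := Fintype.ofFinite H
  have hH' : H = Subgroup.centralizer (Subgroup.zpowers x : Set G) := (centralizer_zpowers x).symm
  obtain ⟨ψ, hψ⟩ := IsPBlock.nonempty hM hb.1
  by_contra hall
  push Not at hall
  set θ : H → ℂ := fun c => (χ : G → ℂ) (x * (c : G)) with hθ
  have hcl : IsClassFunction H θ := isClassFunction_translate χ x
    fun c hc => commute_of_mem_centralizer hH' hc
  set a : MonoidAlgebra ℂ H := ofFn (pRegularPart p fun c => conj (θ c)) with ha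
  have hac : IsCentralFn a := isCentralFn_ofFn fun c h => by
    have : orderOf (h * c * h⁻¹) = orderOf c :=
      orderOf_injective (MulAut.conj h).toMonoidHom (MulAut.conj h).injective c
    simp only [pRegularPart_apply, this, hcl c h]
  have hint : ∀ c : H, conj (θ c) ∈ place M := fun c => by
    rw [hθ]; dsimp only
    rw [← IsCharacter.conj_inv (isCharacter_of_irr χ.2)]
    exact isIntegral_mem_place hM (IsCharacter.isIntegral (isCharacter_of_irr χ.2) _)
  have hai : Integral M a := fun c => by
    rw [ha, fn_ofFn, pRegularPart_apply]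
    split_ifs
    exacts [zero_mem _, hint c]
  have hred : red M a = red M (resElem H (regElem p χ)) := fn_ext fun c => by
    rw [fn_red, fn_red, fn_resElem, ha, fn_ofFn, regElem, fn_ofFn, pRegularPart_apply,
      pRegularPart_apply, Subgroup.orderOf_coe]
    split_ifs with hc
    · rfl
    · rw [res_eq_iff (hint c) (by
        rw [← IsCharacter.conj_inv (isCharacter_of_irr χ.2)]
        exact isIntegral_mem_place hM (IsCharacter.isIntegral (isCharacter_of_irr χ.2) _)), hθ]
      dsimp only
      rw [← IsCharacter.conj_inv (isCharacter_of_irr χ.2),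
        ← IsCharacter.conj_inv (isCharacter_of_irr χ.2), mul_inv_rev]
      have hcm : Commute (c : G)⁻¹ x⁻¹ :=
        (commute_of_mem_centralizer hH' c.2).symm.inv_inv
      rw [hcm.eq]
      exact small_apply_mul_sub hM (isCharacter_of_irr χ.2) hcm.symm
        (by rw [orderOf_inv]; exact hx) (by rw [orderOf_inv, Subgroup.orderOf_coe]; exact hc)
  have h3 := (omega_resElem_regElem_of_induced hM H hb hψ χ).2 hχ h0
  apply h3.not_small
  rw [← res_eq_zero_iff (omega_mem_place hM ψ ((isCentralFn_regElem χ).resElem H)
      ((integral_regElem hM χ).resElem H)),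
    ← res_omega_eq_of_red_eq hM ψ hac hai ((isCentralFn_regElem χ).resElem H)
      ((integral_regElem hM χ).resElem H) hred]
  have hzero : chiEval (ψ : H → ℂ) a = 0 := by
    have h := sum_regular_blockPart hM hb.1 θ hψ
    rw [Finset.sum_eq_zero fun w hw => by
      rw [hall w (Finset.mem_filter.1 hw).2, zero_mul]] at h
    have h' := congrArg conj h.symm
    rw [map_sum, map_zero, Finset.sum_filter] at h'
    rw [← h', chiEval, ha]
    refine Finset.sum_congr rfl fun w _ => ?_
    rw [fn_ofFn, pRegularPart_apply]
    split_ifs with hw
    · rw [zero_mul]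
    · rw [map_mul, Complex.conj_conj]
  rw [omega, hzero, zero_div, res_zero]

end Cfsg.Agent.S4428
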