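import Cfsg.Statements.S4430
import Cfsg.Agent.Blocks.InducedPart
-- import your own Cfsg.Agent.* helpers here

set_option autoImplicit false
open Cfsg

namespace Cfsg.Agent.S4430

set_option linter.unusedSectionVars false

open Cfsg.Lib.Blocks Cfsg.Lib.Chars

/-- Let H be a subgroup of the finite group G, b a block of H whose induced block B₀ in G is defined (relative to a maximal ideal M of the algebraic integers containing p), and ξ ∈ b. For a block B of G let n_B be the value at 1 of the B-part of the induced character ξ^G (a natural number: the sum over χ ∈ B of the multiplicity of χ in ξ^G times χ(1)). Then for B = B₀ the exact power of p dividing n_B equals the exact power of p dividing ξ^G(1), while for every other block B either n_B = 0 or n_B is divisible by a strictly higher power of p than ξ^G(1). -/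
theorem result {G : Type*} [Group G] [Fintype G] (p : ℕ) [Fact p.Prime] (M : Ideal Cfsg.AlgInt) (hM : Cfsg.IsPModular p M) (H : Subgroup G) [Fintype H] (b : Set (Cfsg.IrrCharacter H)) (B₀ : Set (Cfsg.IrrCharacter G)) (hind : Cfsg.IsInducedBlock M H b B₀) (ξ : Cfsg.IrrCharacter H) (hξ : ξ ∈ b) : (∃ n : ℕ, Cfsg.blockPart B₀ (Cfsg.indFun H (ξ : H → ℂ)) 1 = (n : ℂ) ∧ n ≠ 0 ∧ n.factorization p = (Cfsg.charDegree (Cfsg.indFun H (ξ : H → ℂ))).factorization p) ∧ ∀ B : Set (Cfsg.IrrCharacter G), Cfsg.IsPBlock M B → B ≠ B₀ → ∃ n : ℕ, Cfsg.blockPart B (Cfsg.indFun H (ξ : H → ℂ)) 1 = (n : ℂ) ∧ (n = 0 ∨ (Cfsg.charDegree (Cfsg.indFun H (ξ : H → ℂ))).factorization p < n.factorization p) := by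
  classical
  obtain ⟨φ, hφ⟩ := IsPBlock.nonempty hM hind.2.1
  obtain ⟨m, -, hm⟩ := exists_nat_blockPart H B₀ ξ
  have key : ∀ B : Set (IrrCharacter G), IsPBlock M B →
      res M (omega (ξ : H → ℂ) (resElem H (blockElem B))) = if φ ∈ B then 1 else 0 := by
    intro B hB
    rw [res_omega_resElem_of_induced hM H hind hξ hφ (isCentralFn_blockElem B)
      (integral_blockElem hM hB), omega_blockElem]
    split_ifs <;> simp [res_one, res_zero]
  constructor
  · refine ⟨_, hm, ?_⟩
    have h := (factorization_blockPart hM H hind.2.1 ξ hm).1 (fun hs => by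
      have h1 := key B₀ hind.2.1
      rw [if_pos hφ, (res_eq_zero_iff (omega_resElem_mem_place hM H hind.2.1 ξ)).2 hs] at h1
      exact zero_ne_one h1)
    exact ⟨h.1, by rw [deg_indFun]; exact h.2⟩
  · intro B hB hne
    obtain ⟨m', -, hm'⟩ := exists_nat_blockPart H B ξ
    refine ⟨_, hm', ?_⟩
    have h := (factorization_blockPart hM H hB ξ hm').2 ((res_eq_zero_iff
      (omega_resElem_mem_place hM H hB ξ)).1 (by
        rw [key B hB, if_neg fun h => hne (IsPBlock.eq_of_mem_inter hM hB hind.2.1 h hφ)]))
    rw [deg_indFun]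
    exact h

end Cfsg.Agent.S4430
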