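import Cfsg.Statements.S4431
import Cfsg.Agent.Blocks.Third
-- import your own Cfsg.Agent.* helpers here

set_option autoImplicit false
open Cfsg

namespace Cfsg.Agent.S4431

set_option linter.unusedSectionVars false

open Cfsg.Lib.Blocks Cfsg.Lib.Chars

/-- Let H be a subgroup of the finite group G and b a block of H whose induced block B₀ in G is defined (relative to a maximal ideal M of the algebraic integers containing p). Let χ be an irreducible character of G, ψ ∈ b, and let η be the class function on H equal to p^a · χ on the p-regular elements of H and zero elsewhere, p^a being the p-part of the order of H. Then (a) if χ ∉ B₀, the number [η, ψ]/ψ(1) lies in the local ideal at M; (b) if χ ∈ B₀ has height zero, it does not. -/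
theorem result {G : Type*} [Group G] [Fintype G] (p : ℕ) [Fact p.Prime] (M : Ideal Cfsg.AlgInt) (hM : Cfsg.IsPModular p M) (H : Subgroup G) [Fintype H] (b : Set (Cfsg.IrrCharacter H)) (B₀ : Set (Cfsg.IrrCharacter G)) (hind : Cfsg.IsInducedBlock M H b B₀) (χ : Cfsg.IrrCharacter G) (ψ : Cfsg.IrrCharacter H) (hψ : ψ ∈ b) : (χ ∉ B₀ → Cfsg.MemLocalIdeal M (Cfsg.classInner (fun h : H => if p ∣ orderOf h then (0 : ℂ) else ((p ^ (Nat.card H).factorization p : ℕ) : ℂ) * (χ : G → ℂ) h) (ψ : H → ℂ) / (ψ : H → ℂ) 1)) ∧ (χ ∈ B₀ → Cfsg.blockHeight p B₀ (χ : G → ℂ) = 0 → ¬ Cfsg.MemLocalIdeal M (Cfsg.classInner (fun h : H => if p ∣ orderOf h then (0 : ℂ) else ((p ^ (Nat.card H).factorization p : ℕ) : ℂ) * (χ : G → ℂ) h) (ψ : H → ℂ) / (ψ : H → ℂ) 1)) := by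
  classical
  set X := omega (ψ : H → ℂ) (resElem H (regElem p χ)) with hX
  set A := classInner (fun h : H => if p ∣ orderOf h then (0 : ℂ) else
      ((p ^ (Nat.card H).factorization p : ℕ) : ℂ) * (χ : G → ℂ) h) (ψ : H → ℂ) /
      (ψ : H → ℂ) 1 with hA
  have hp : p.Prime := Fact.out
  have hH0 : (Nat.card H : ℂ) ≠ 0 := Nat.cast_ne_zero.2 Nat.card_pos.ne'
  set m := Nat.card H / p ^ (Nat.card H).factorization p with hm
  have hmH : (p ^ (Nat.card H).factorization p : ℕ) * m = Nat.card H :=
    Nat.ordProj_mul_ordCompl_eq_self _ _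
  have hm0 : (m : ℂ) ≠ 0 := Nat.cast_ne_zero.2 (Nat.ordCompl_pos p Nat.card_pos.ne').ne'
  -- the value in terms of the regular element
  have key : (m : ℂ) * A = X := by
    rw [hA, hX, omega, mul_div_assoc']
    congr 1
    rw [classInner_def, chiEval, Finset.mul_sum, Finset.mul_sum]
    refine Fintype.sum_equiv (Equiv.inv H) _ _ fun h => ?_
    rw [Equiv.inv_apply, fn_resElem, regElem, fn_ofFn, pRegularPart_apply, Subgroup.orderOf_coe,
      orderOf_inv, Subgroup.coe_inv]
    split_ifs with hd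
    · simp
    · rw [IsCharacter.conj_inv (isCharacter_of_irr χ.2), Complex.conj_conj,
        IsCharacter.conj_inv (isCharacter_of_irr ψ.2)]
      have hH : (Nat.card H : ℂ) = ((p ^ (Nat.card H).factorization p : ℕ) : ℂ) * (m : ℂ) := by
        rw [← Nat.cast_mul, hmH]
      rw [hH]
      have hpow : ((p ^ (Nat.card H).factorization p : ℕ) : ℂ) ≠ 0 :=
        Nat.cast_ne_zero.2 (pow_ne_zero _ hp.ne_zero)
      field_simp
  have hmu : IsUnitAt M (m : ℂ) := isUnitAt_natCast hM (Nat.not_dvd_ordCompl hp Nat.card_pos.ne')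
  have halg : IsAlgebraic ℚ A := by
    refine IsAlgebraic.of_mul (y := (m : ℂ)) (mem_nonZeroDivisors_of_ne_zero hm0)
      (isAlgebraic_nat _) ?_
    rw [key, hX, omega, div_eq_mul_inv]
    refine IsAlgebraic.mul ?_ ((isAlgebraic_of_isIntegral
      (IsCharacter.isIntegral (isCharacter_of_irr ψ.2) 1)).inv)
    refine isAlgebraic_of_isIntegral (IsIntegral.sum _ fun h _ => ?_)
    rw [fn_resElem, regElem, fn_ofFn, pRegularPart_apply]
    refine IsIntegral.mul ?_ (IsCharacter.isIntegral (isCharacter_of_irr ψ.2) h)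
    split_ifs
    · exact isIntegral_zero
    · rw [← IsCharacter.conj_inv (isCharacter_of_irr χ.2)]
      exact IsCharacter.isIntegral (isCharacter_of_irr χ.2) _
  have hiff : Small M A ↔ Small M X := by
    rw [← key, Cfsg.Lib.Blocks.small_iff, Cfsg.Lib.Blocks.small_iff, map_mul, hmu, one_mul]
  rw [memLocalIdeal_iff_small hM halg, hiff]
  obtain ⟨h1, h2⟩ := omega_resElem_regElem_of_induced hM H hind hψ χ
  exact ⟨h1, fun hχ h0 => (h2 hχ h0).not_small⟩

end Cfsg.Agent.S4431
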