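import Cfsg.Statements.S4437
import Cfsg.Agent.Blocks.Weights
-- import your own Cfsg.Agent.* helpers here

set_option autoImplicit false
open Cfsg

namespace Cfsg.Agent.S4437

set_option linter.unusedSectionVars false

open Cfsg.Lib.Blocks

/-- Let P be a p-subgroup of the finite group G, H = P·C_G(P), and b a block of H (relative to a maximal ideal M of the algebraic integers containing p) having P as a defect group; let B be the block of G induced by b. Let T be the stabilizer of b in N_G(P): the elements g of N_G(P) such that the g-conjugate of every member of b is again a member of b. Then B has defect group P if and only if p does not divide the index of H in T. -/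
theorem result {G : Type*} [Group G] [Fintype G] (p : ℕ) [Fact p.Prime] (M : Ideal Cfsg.AlgInt) (hM : Cfsg.IsPModular p M) (P : Subgroup G) (hP : IsPGroup p P) (H : Subgroup G) [Fintype H] (hH : H = P ⊔ Subgroup.centralizer (P : Set G)) (b : Set (Cfsg.IrrCharacter H)) (hb : Cfsg.IsPBlock M b) (hbP : Cfsg.IsDefectGroup p M b (P.subgroupOf H)) (B : Set (Cfsg.IrrCharacter G)) (hind : Cfsg.IsInducedBlock M H b B) (T : Subgroup G) (hT : ∀ g : G, g ∈ T ↔ (g ∈ Subgroup.normalizer (P : Set G) ∧ ∀ θ ∈ b, ∀ θ' : Cfsg.IrrCharacter H, (∀ h h' : H, (h' : G) = g * h * g⁻¹ → (θ' : H → ℂ) h' = (θ : H → ℂ) h) → θ' ∈ b)) : Cfsg.IsDefectGroup p M B P ↔ ¬ p ∣ H.relIndex T := by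
  classical
  haveI : Fact p.Prime := Fact.mk hM.1
  haveI := charP_res hM
  letI := Fintype.ofFinite (Subgroup.centralizer (P : Set G))
  have hPH : P ≤ H := hH ▸ le_sup_left
  have hCH : Subgroup.centralizer (P : Set G) ≤ H := hH ▸ le_sup_right
  have hHle : ∀ K : Subgroup G, P ≤ K → Subgroup.centralizer (P : Set G) ≤ K → H ≤ K :=
    fun K h1 h2 => hH.le.trans (sup_le h1 h2)
  have hHN : H ≤ Subgroup.normalizer (P : Set G) :=
    hHle _ Subgroup.le_normalizer (Subgroup.centralizer_le_normalizer _)
  obtain ⟨f, hf, hbf⟩ := exists_local_pair hM hP hPH hCH hHN hb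
  have hfB := pair_of_isInducedBlock hM hPH hCH hb hf hbf hind
  -- every element of `H` stabilises `f`, so the two idempotents coincide
  have hfixH : ∀ x ∈ H, cj x (bi M (Subgroup.centralizer (P : Set G)) f) =
      bi M (Subgroup.centralizer (P : Set G)) f := by
    have hle : H ≤ stabElem (bi M (Subgroup.centralizer (P : Set G)) f) := hHle _
      (fun y hy => cj_eq_self_of_suppOn (suppOn_bi f) hy)
      (fun y hy => invOn_iff.1 (invOn_bi f) y hy)
    exact fun x hx => hle hx
  obtain ⟨E, hE, hEx⟩ := exists_block_stabilizer hM hP hPH hHN hCH hf.2 fun x hx =>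
    (stabilizes_iff_of_normalizer hM hf.2 (hHN hx)).2 (hfixH x hx)
  have hEb : bi M H E = bi M (Subgroup.centralizer (P : Set G)) f := by
    rw [← red_bx, hEx, red_bx]
  have hbeq : bi M H b = bi M (Subgroup.centralizer (P : Set G)) f := by
    suffices b = E by rw [this, hEb]
    by_contra hne
    refine bi_ne_zero hM hf.2 ?_
    have h0 := bi_mul_bi hM hb hE hne
    have h1 : br P (bi M H b) * br P (bi M H E) = br P (0 : MonoidAlgebra (Res M) G) := by
      rw [← br_mul hP ((invOn_bi b).mono hPH) ((invOn_bi E).mono hPH), h0]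
    rw [hEb, br_zero] at h1
    rw [← hbf, ← bi_mul_self hM hf.2]
    conv_lhs => rw [← mul_assoc]
    rw [show br P (bi M (Subgroup.centralizer (P : Set G)) f) =
      bi M (Subgroup.centralizer (P : Set G)) f from trunc_eq_self (suppOn_bi f)] at h1
    rw [h1, zero_mul]
  -- the stabiliser
  have hTs : IsPairStab P f T := by
    intro g
    rw [hT g]
    refine and_congr_right fun hgN => ?_
    have hgH : g ∈ Subgroup.normalizer (H : Set G) := by
      refine Subgroup.mem_normalizer_iff.2 fun y => ?_
      have hmap : H.map (MulAut.conj g).toMonoidHom = H := by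
        rw [hH, Subgroup.map_sup, map_conj_of_mem_normalizer hgN,
          map_conj_of_mem_normalizer (centralizer_le_normalizer_centralizer hgN le_rfl)]
      constructor
      · intro hy; rw [← hmap]; exact ⟨y, hy, rfl⟩
      · intro hy
        rw [← hmap] at hy
        obtain ⟨z, hz, hzy⟩ := hy
        exact (MulAut.conj g).injective hzy ▸ hz
    have hcs : IsConjSub H H g := isConjSub_of_mem_normalizer hgH
    rw [stabilizes_iff_of_normalizer hM hf.2 hgN, ← hbeq]
    constructor
    · intro h
      rw [← bi_conjSet hcs]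
      obtain ⟨θ, hθ⟩ := IsPBlock.nonempty hM hb
      have himg : irrEquiv (conjSubEquiv hcs) θ ∈ conjSet H H g b := by
        rw [conjSet_eq_image hcs]; exact ⟨θ, hθ, rfl⟩
      obtain ⟨ξ, hξ, hval⟩ := id himg
      rw [IsPBlock.eq_of_mem_inter hM (IsPBlock.conjSet hcs hb) hb himg
        (h ξ hξ _ fun c c' hc => hval c c' hc)]
    · intro h θ hθ θ' hθ'
      rw [← bi_conjSet hcs] at h
      rw [← bi_injective hM (IsPBlock.conjSet hcs hb) hb h]
      exact ⟨θ, hθ, hθ'⟩
  obtain ⟨hPT, hCT⟩ := hTs.self_le hM hf.2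
  have hHT : H ≤ T := hHle _ hPT hCT
  letI := Fintype.ofFinite T
  -- the centre is a defect group of `f`
  have hcentre : ∀ D₁ : Subgroup (Subgroup.centralizer (P : Set G)), IsDefectGroup p M f D₁ →
      D₁.map (Subgroup.subtype _) ≤ P := by
    intro D₁ hD₁
    have hne := br_defect_ne_zero hM hf.2 hD₁
    rw [← hbeq] at hne
    obtain ⟨D, hD, hle⟩ := exists_defect_ge_of_br hM hb ((IsDefectGroup.isPGroup hD₁).map _)
      ((Subgroup.map_subtype_le D₁).trans hCH) hne
    obtain ⟨a, ha⟩ := IsDefectGroup.exists_eq_conj hM hb hbP hD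
    intro y hy
    have hyH : y ∈ H := hCH (Subgroup.map_subtype_le D₁ hy)
    have h1 : (⟨y, hyH⟩ : H) ∈ D := hle (show y ∈ D₁.map (Subgroup.subtype _) from hy)
    rw [ha] at h1
    obtain ⟨z, hz, hzy⟩ := h1
    rw [← show (a : G) * z * (a : G)⁻¹ = y from congrArg Subtype.val hzy]
    exact (Subgroup.mem_normalizer_iff.1 (hHN a.2) z).1 hz
  have hidx : ¬ p ∣ H.relIndex T ↔
      (Nat.card T).factorization p = (Nat.card H).factorization p := by
    have e1 := congrArg (fun n : ℕ => n.factorization p) (Subgroup.card_mul_index (H.subgroupOf T))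
    simp only [Nat.factorization_mul Nat.card_pos.ne' Subgroup.index_ne_zero_of_finite,
      Finsupp.add_apply, Nat.card_congr (Subgroup.subgroupOfEquivOfLe hHT).toEquiv] at e1
    rw [Subgroup.relIndex]
    constructor
    · intro h
      rw [Nat.factorization_eq_zero_of_not_dvd h] at e1
      omega
    · intro h hd
      have := hM.1.factorization_pos_of_dvd Subgroup.index_ne_zero_of_finite hd
      omega
  rw [hidx]
  constructor
  · intro hBP
    have hno := noExtension_of_maximal hM (isMaximal_of_isDefectGroup hM hfB hBP)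
    obtain ⟨F, hF, -, hFb, -⟩ := hTs.exists_block hM hf
    obtain ⟨D, hD⟩ := exists_defectGroup hM hF
    have hPD := self_le_defect_stab hM hP hPT hTs.le_normalizer hF hD
    have hDP : D.map T.subtype = P := by
      by_contra hne
      refine br_defect_ne_zero hM hF hD ?_
      rw [hFb]
      refine hno _ ((IsDefectGroup.isPGroup hD).map _) (lt_of_le_of_ne hPD (Ne.symm hne))
        ((Subgroup.map_subtype_le D).trans hTs.le_normalizer) fun x hx => ?_
      exact (stabilizes_iff_of_normalizer hM hf.2
        (hTs.le_normalizer (Subgroup.map_subtype_le D hx))).1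
          ((hTs x).1 (Subgroup.map_subtype_le D hx)).2
    have hv := (stab_defect hM hf hTs hF hFb hD).2
    rw [hDP] at hv
    rw [hv, hH, sup_comm]
  · intro hcard
    refine isDefectGroup_of_noExtension hM hfB ?_
    intro R hRp hlt hRN hfix
    by_contra hne
    have hRT : R ≤ T := fun x hx => (hTs x).2
      ⟨hRN hx, (stabilizes_iff_of_normalizer hM hf.2 (hRN hx)).2 (hfix x hx)⟩
    -- `p`-elements of `T` lie in `H`
    haveI : (H.subgroupOf T).Normal := by
      refine normal_subgroupOf_of_le_normalizer fun t ht => ?_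
      have hgN := hTs.le_normalizer ht
      refine Subgroup.mem_normalizer_iff.2 fun y => ?_
      have hmap : H.map (MulAut.conj t).toMonoidHom = H := by
        rw [hH, Subgroup.map_sup, map_conj_of_mem_normalizer hgN,
          map_conj_of_mem_normalizer (centralizer_le_normalizer_centralizer hgN le_rfl)]
      constructor
      · intro hy; rw [← hmap]; exact ⟨y, hy, rfl⟩
      · intro hy
        rw [← hmap] at hy
        obtain ⟨z, hz, hzy⟩ := hy
        exact (MulAut.conj t).injective hzy ▸ hz
    have hRH : R ≤ H := by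
      intro x hx
      obtain ⟨k, hk⟩ := exists_orderOf_eq_of_mem hM.1 hRp hx
      have h1 : (⟨x, hRT hx⟩ : T) ∈ H.subgroupOf T := by
        rw [← QuotientGroup.eq_one_iff, ← orderOf_eq_one_iff]
        refine Nat.eq_one_of_dvd_coprimes (a := p ^ k) (b := (H.subgroupOf T).index) ?_ ?_ ?_
        · exact Nat.Coprime.pow_left k ((hM.1.coprime_iff_not_dvd).2 (hidx.2 hcard))
        · refine (orderOf_map_dvd (QuotientGroup.mk' _) (⟨x, hRT hx⟩ : T)).trans ?_
          rw [Subgroup.orderOf_mk, hk]
        · rw [Subgroup.index_eq_card]; exact orderOf_dvd_natCard _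
      exact h1
    obtain ⟨D₁, hD₁, hle⟩ := exists_defect_ge_of_br hM hf.2 (hRp.to_le inf_le_left)
      (inf_le_right : R ⊓ Subgroup.centralizer (P : Set G) ≤ _) (fun h0 => hne (by
        rw [← br_br (inf_le_left : R ⊓ Subgroup.centralizer (P : Set G) ≤ R), h0, br_zero]))
    refine not_le_of_gt hlt fun x hx => ?_
    obtain ⟨q, hq, c, hc, rfl⟩ := Set.mem_mul.1 (by
      have hxH := hRH hx
      rw [hH, ← SetLike.mem_coe, Subgroup.coe_mul_of_right_le_normalizer_left P _
        (Subgroup.centralizer_le_normalizer _)] at hxH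
      exact hxH)
    refine P.mul_mem hq (hcentre D₁ hD₁ ⟨⟨c, hc⟩, hle ⟨?_, hc⟩, rfl⟩)
    have := R.mul_mem (R.inv_mem (hlt.le hq)) hx
    rwa [inv_mul_cancel_left] at this

end Cfsg.Agent.S4437
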