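import Cfsg.Statements.S4442
import Cfsg.Agent.Blocks.OrbitLocal
-- import your own Cfsg.Agent.* helpers here

set_option autoImplicit false
open Cfsg

namespace Cfsg.Agent.S4442

set_option linter.unusedSectionVars false

open Cfsg.Lib.Blocks Cfsg.Lib.Chars

universe v

variable {G : Type v} [Group G] [Fintype G] {M : Ideal Cfsg.AlgInt} {p : ℕ} [Fact p.Prime]

theorem isAlgebraic_Th (C : Cyc G p) (_hM : Cfsg.IsPModular p M) (ϑ : Cfsg.IrrCharacter C.V)
    (χ : Cfsg.IrrCharacter G) (g : G) :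
    IsAlgebraic ℚ (C.Th ϑ g - Cfsg.centralChar (χ : G → ℂ) g) := by
  classical
  refine isAlgebraic_sub ?_ (isAlgebraic_centralChar χ g)
  rw [C.Th_eq]
  refine Subalgebra.sum_mem (Subalgebra.algebraicClosure ℚ ℂ) fun x _ => ?_
  rw [div_eq_mul_inv]
  exact Subalgebra.mul_mem _ ((IsCharacter.isIntegral (isCharacter_of_irr ϑ.2) _).tower_top.isAlgebraic)
    ((IsCharacter.isIntegral (isCharacter_of_irr ϑ.2) _).tower_top.isAlgebraic.inv)

theorem card_mul_relIndex' {H K : Subgroup G} (h : H ≤ K) :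
    Nat.card H * H.relIndex K = Nat.card K := by
  rw [← Subgroup.relIndex_bot_left, ← Subgroup.relIndex_bot_left K,
    Subgroup.relIndex_mul_relIndex ⊥ H K bot_le h]

theorem modEq_of (C : Cyc G p) (hM : Cfsg.IsPModular p M) {χ : Cfsg.IrrCharacter G}
    {ϑ : Cfsg.IrrCharacter C.V} (hl : C.Lies χ ϑ) (m : ℤ)
    (hm : ∀ i : ZMod p, i ≠ 0 → Small M (C.mu (χ : G → ℂ) (ϑ : C.V → ℂ) i - (m : ℂ))) :
    (Cfsg.charDegree (χ : G → ℂ) : ℤ) ≡ m * (C.orbDeg (ϑ : C.V → ℂ) : ℤ) [ZMOD p] := by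
  have h1 := C.small_deg_sub hM hl m hm
  rw [irr_apply_one_eq_deg, ← Int.cast_natCast, ← Int.cast_natCast (R := ℂ) (C.orbDeg _),
    ← Int.cast_mul, ← Int.cast_sub, small_intCast_iff hM] at h1
  exact (Int.modEq_iff_dvd.2 h1).symm

/-- Blocks of defect one. Let p be an odd prime and G a finite group whose Sylow p-subgroup P has order p; let C = C_G(P) and N = N_G(P), and fix a maximal ideal M of the algebraic integers containing p. Let B be a block of G with defect group P, b a block of C inducing B, and θ the member of b having P in its kernel (there is exactly one). Let T be the stabilizer of θ in N (the elements g ∈ N with θ(g c g⁻¹) = θ(c) for all c ∈ C) and e the index of C in T. Then e divides p − 1 and B contains exactly e + (p − 1)/e irreducible characters. Moreover B is the disjoint union of a set X of e characters and a set Y of (p − 1)/e characters such that, with f the index of C in N: every χ ∈ X has χ(1) ≡ ±(f/e)·θ(1)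 (mod p), there is one sign ε with ψ(1) ≡ ε f θ(1) (mod p) for all ψ ∈ Y, and all members of Y agree on the p-regular elements of G. -/
theorem result {G : Type*} [Group G] [Finite G] (p : ℕ) [Fact p.Prime] (M : Ideal Cfsg.AlgInt) (hM : Cfsg.IsPModular p M) (hodd : p ≠ 2) (P : Sylow p G) (hP : Nat.card P = p) (B : Set (Cfsg.IrrCharacter G)) (hB : Cfsg.IsPBlock M B) (hBP : Cfsg.IsDefectGroup p M B P) (b : Set (Cfsg.IrrCharacter (Subgroup.centralizer ((P : Subgroup G) : Set G)))) (hind : Cfsg.IsInducedBlock M (Subgroup.centralizer ((P : Subgroup G) : Set G)) b B) (θ : Cfsg.IrrCharacter (Subgroup.centralizer ((P : Subgroup G) : Set G))) (hθ : θ ∈ b) (hθP : ∀ x : Subgroup.centralizer ((P : Subgroup G) : Set G), (x : G) ∈ (P : Subgroup G) → (θ : Subgroup.centralizer ((P : Subgroup G) : Set G) → ℂ) x = (θ : Subgroup.centralizer ((P : Subgroup G) : Set G) → ℂ) 1) (T : Subgroup G) (hT : ∀ g : G, g ∈ T ↔ (g ∈ Subgroup.normalizer ((P : Subgroup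 G) : Set G) ∧ ∀ c c' : Subgroup.centralizer ((P : Subgroup G) : Set G), (c' : G) = g * c * g⁻¹ → (θ : Subgroup.centralizer ((P : Subgroup G) : Set G) → ℂ) c' = (θ : Subgroup.centralizer ((P : Subgroup G) : Set G) → ℂ) c)) (e f : ℕ) (he : (Subgroup.centralizer ((P : Subgroup G) : Set G)).relIndex T = e) (hf : (Subgroup.centralizer ((P : Subgroup G) : Set G)).relIndex (Subgroup.normalizer ((P : Subgroup G) : Set G)) = f) : e ∣ p - 1 ∧ Nat.card B = e + (p - 1) / e ∧ ∃ X Y : Set (Cfsg.IrrCharacter G), B = X ∪ Y ∧ Disjoint X Y ∧ Nat.card X = e ∧ Nat.card Y = (p - 1) / e ∧ (∀ χ ∈ X, (Cfsg.charDegree (χ : G → ℂ) : ℤ) ≡ ((f / e * Cfsg.charDegree (θ : Subgroup.centralizer ((P : Subgroup G) : Set G) → ℂ) : ℕ) : ℤ) [ZMOD p] ∨ (Cfsg.charDegree (χ : G → ℂ) : ℤ) ≡ -((f / e * Cfsg.charDegree (θ : Subgroup.centralizer ((P : Subgroup G) : Set G) → ℂ) : ℕ) : ℤ) [ZMOD p]) ∧ (∃ ε : ℤ, (ε = 1 ∨ ε = -1) ∧ ∀ ψ ∈ Y, (Cfsg.charDegree (ψ : G → ℂ) : ℤ) ≡ ε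 * ((f * Cfsg.charDegree (θ : Subgroup.centralizer ((P : Subgroup G) : Set G) → ℂ) : ℕ) : ℤ) [ZMOD p]) ∧ ∀ ψ ∈ Y, ∀ ψ' ∈ Y, ∀ g : G, ¬ p ∣ orderOf g → (ψ : G → ℂ) g = (ψ' : G → ℂ) g := by
  classical
  have : Fintype G := Fintype.ofFinite G
  have hp := (Fact.out : p.Prime)
  have hfac : (Nat.card G).factorization p = 1 := by
    have h := P.card_eq_multiplicity
    rw [hP] at h
    exact (Nat.pow_right_injective hp.two_le ((pow_one p).trans h)).symm
  have hdiv : p ∣ Nat.card G := Nat.dvd_of_factorization_pos (by omega)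
  have hsq : ¬ p ^ 2 ∣ Nat.card G := by
    rw [hp.pow_dvd_iff_le_factorization Nat.card_pos.ne']
    omega
  obtain ⟨C, hyP⟩ := exists_cyc hdiv hsq P
  have hK := C.centralizer_eq hyP
  obtain ⟨ϑ, hϑ1, hval, hTh⟩ := C.exists_restrict hK θ fun x hx => hθP x (by rwa [hyP] at hx)
  have hdθ : deg (ϑ : C.V → ℂ) = Cfsg.charDegree
      (θ : Subgroup.centralizer ((P : Subgroup G) : Set G) → ℂ) := by
    unfold deg Cfsg.charDegree
    rw [hϑ1]
  -- the orbit
  have hd : 0 < Cfsg.blockDefect p B := by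
    by_contra h
    have h1 := IsDefectGroup.card hM hB hBP
    rw [Nat.eq_zero_of_not_pos h, pow_zero, hP] at h1
    exact hp.one_lt.ne' h1
  obtain ⟨η, hBη⟩ := C.exists_lies_block hM P hyP hB hd
  obtain ⟨χ₀, hχ₀⟩ := IsPBlock.nonempty hM hB
  have hl₀ : C.Lies χ₀ η := by rw [hBη] at hχ₀; exact hχ₀
  obtain ⟨k, hk⟩ := C.exists_conjI_of_small hM (θ := ϑ) (θ' := η) fun g => by
    have h1 := hind.2.2 θ hθ χ₀ hχ₀ g
    rw [hTh, memLocalIdeal_iff_small hM (isAlgebraic_Th C hM ϑ χ₀ g)] at h1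
    have := h1.add (C.small_centralChar_sub_Th hM hl₀ g)
    rwa [sub_add_sub_cancel] at this
  have hBϑ : B = {χ | C.Lies χ ϑ} := by
    rw [hBη, ← hk]
    ext χ
    exact C.lies_conjI k
  obtain ⟨ν, δ, hD⟩ := C.exists_orbitData hM ϑ
  -- the indices
  have hclϑ := isClassFunction_irr ϑ
  have hT' : ∀ g : G, g ∈ T ↔ (g ∈ Subgroup.normalizer (Subgroup.zpowers C.y : Set G) ∧
      ∀ c c' : Subgroup.centralizer ((P : Subgroup G) : Set G), (c' : G) = g * c * g⁻¹ →
        (θ : Subgroup.centralizer ((P : Subgroup G) : Set G) → ℂ) c' =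
          (θ : Subgroup.centralizer ((P : Subgroup G) : Set G) → ℂ) c) :=
    fun g => by rw [hT g, hyP]
  have hle := C.centralizer_le_T hK _ _ hclϑ hval T hT'
  have hcT := C.card_T hK _ _ hval T hT'
  rw [C.card_stab hclϑ] at hcT
  have hcK : Nat.card (Subgroup.centralizer ((P : Subgroup G) : Set G)) = p * Nat.card C.V := by
    rw [hK, C.card_Cs]
  have hpos : 0 < p * Nat.card C.V := Nat.mul_pos hp.pos Nat.card_pos
  have heE : e = C.ee (ϑ : C.V → ℂ) := by
    have h1 := card_mul_relIndex' hle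
    rw [he, hcK, hcT, ← mul_assoc] at h1
    exact Nat.eq_of_mul_eq_mul_left hpos h1
  have hfE : f = (C.stab (ϑ : C.V → ℂ)).index * C.ee (ϑ : C.V → ℂ) := by
    have h1 := card_mul_relIndex'
      (K := Subgroup.normalizer ((P : Subgroup G) : Set G)) (H := Subgroup.centralizer ((P : Subgroup G) : Set G))
      (Subgroup.centralizer_le_normalizer _)
    rw [hf, hcK] at h1
    conv_rhs at h1 => rw [← hyP, C.card_norm, ← Subgroup.card_mul_index (C.stab (ϑ : C.V → ℂ)),
      C.card_stab hclϑ]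
    refine Nat.eq_of_mul_eq_mul_left hpos (h1.trans ?_)
    ring
  have hfe : f / e * Cfsg.charDegree (θ : Subgroup.centralizer ((P : Subgroup G) : Set G) → ℂ) =
      C.orbDeg (ϑ : C.V → ℂ) := by
    rw [heE, hfE, Nat.mul_div_cancel _ (C.ee_pos _), Cyc.orbDeg, hdθ]
  have hf1 : f * Cfsg.charDegree (θ : Subgroup.centralizer ((P : Subgroup G) : Set G) → ℂ) =
      C.ee (ϑ : C.V → ℂ) * C.orbDeg (ϑ : C.V → ℂ) := by
    rw [hfE, Cyc.orbDeg, hdθ]
    ring
  refine ⟨heE ▸ C.ee_dvd _, ?_, {χ | C.Lies χ ϑ} \ Set.range ν, Set.range ν, ?_, ?_, ?_, ?_,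
    fun χ hχ => ?_, ⟨δ, hD.sign, ?_⟩, ?_⟩
  · rw [hBϑ, hD.card_lies, heE, C.div_ee, add_comm]
  · rw [hBϑ, Set.sdiff_union_of_subset hD.range_subset]
  · exact Set.disjoint_sdiff_left
  · rw [hD.card_diff, heE]
  · rw [hD.card_range, heE, C.div_ee]
  · rw [hfe]
    have h1 := modEq_of C hM hχ.1 (C.bI χ ϑ 1) fun i hi => by
      rw [hD.mu_ord hχ.2 hi, sub_self]; exact small_zero
    rcases hD.sign_diff hχ with e1 | e1 <;> rw [e1] at h1
    · rw [one_mul] at h1; exact Or.inl h1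
    · rw [neg_one_mul] at h1; exact Or.inr h1
  · rintro _ ⟨u, rfl⟩
    have h1 := modEq_of C hM (hD.range_subset ⟨u, rfl⟩) (δ * C.ee (ϑ : C.V → ℂ))
      fun i hi => hD.small_mu_exc hM u hi
    rw [hf1, Nat.cast_mul, ← mul_assoc]
    exact h1
  · rintro _ ⟨u, rfl⟩ _ ⟨w, rfl⟩ g hg
    rw [← inv_mul_cancel_right w u, ← hD.twist_exc]
    exact (C.twist_regular _ (ν u) hg).symm

end Cfsg.Agent.S4442
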