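import Cfsg.Statements.S4446
import Mathlib
import Cfsg.Agent.Blocks.CyclicGlauberman
-- import your own Cfsg.Agent.* helpers here

set_option autoImplicit false
open Cfsg

namespace Cfsg.Agent.S4446

set_option linter.unusedSectionVars false

open Cfsg.Lib.Chars Cfsg.Lib

/-- Let the finite group Γ be generated by a normal subgroup G and a cyclic subgroup S of coprime orders, C = G ⊓ C(S), and let χ be an S-invariant irreducible character of G with canonical extension χ̂ to Γ (the extension whose determinantal order is coprime to the order of S). Then there are exactly one irreducible character β of C and one sign ε such that χ̂(c s) = ε β(c) for every c ∈ C and every generator s of S; this β is a constituent of the restriction of χ to C; distinct S-invariant χ give distinct β; and every irreducible character of C arises in this way. -/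
theorem result {Γ : Type*} [Group Γ] [Fintype Γ] (G S : Subgroup Γ) [Fintype G] (hnorm : ∀ s ∈ S, ∀ g ∈ G, s * g * s⁻¹ ∈ G) (hcop : (Nat.card G).Coprime (Nat.card S)) (htop : G ⊔ S = ⊤) (hcyc : IsCyclic S) (C : Subgroup Γ) [Fintype C] (hC : C = G ⊓ Subgroup.centralizer (S : Set Γ)) (hCG : C ≤ G) : (∀ (χ : Cfsg.IrrCharacter G) (χh : Cfsg.IrrCharacter Γ), (∀ s ∈ S, ∀ g g' : G, (g' : Γ) = s * g * s⁻¹ → (χ : G → ℂ) g' = (χ : G → ℂ) g) → (∀ g : G, (χh : Γ → ℂ) g = (χ : G → ℂ) g) → (Cfsg.detOrder (χh : Γ → ℂ)).Coprime (Nat.card S) → (∃! βε : Cfsg.IrrCharacter C × ℤ, (βε.2 = 1 ∨ βε.2 = -1) ∧ ∀ c : C, ∀ s : Γ, Subgroup.zpowers s = S → (χh : Γ → ℂ) ((c : Γ) * s) = (βε.2 : ℂ) * (βε.1 : C → ℂ) c) ∧ ∀ β : Cfsg.IrrCharacter C, ∀ ε : ℤ, (ε = 1 ∨ ε = -1) → (∀ c : C, ∀ s : Γ, Subgroup.zpowers s = S → (χh : Γ → ℂ) ((c : Γ) * s) = (ε : ℂ) * (β : C → ℂ) c) → Cfsg.classInner (fun c : C => (χ : G → ℂ) ⟨c, hCG c.2⟩) (β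 : C → ℂ) ≠ 0) ∧ (∀ (χ χ' : Cfsg.IrrCharacter G) (χh χh' : Cfsg.IrrCharacter Γ), (∀ s ∈ S, ∀ g g' : G, (g' : Γ) = s * g * s⁻¹ → (χ : G → ℂ) g' = (χ : G → ℂ) g) → (∀ s ∈ S, ∀ g g' : G, (g' : Γ) = s * g * s⁻¹ → (χ' : G → ℂ) g' = (χ' : G → ℂ) g) → (∀ g : G, (χh : Γ → ℂ) g = (χ : G → ℂ) g) → (∀ g : G, (χh' : Γ → ℂ) g = (χ' : G → ℂ) g) → (Cfsg.detOrder (χh : Γ → ℂ)).Coprime (Nat.card S) → (Cfsg.detOrder (χh' : Γ → ℂ)).Coprime (Nat.card S) → ∀ β : Cfsg.IrrCharacter C, ∀ ε ε' : ℤ, (ε = 1 ∨ ε = -1) → (ε' = 1 ∨ ε' = -1) → (∀ c : C, ∀ s : Γ, Subgroup.zpowers s = S → (χh : Γ → ℂ) ((c : Γ) * s) = (ε : ℂ) * (β : C → ℂ) c) → (∀ c : C, ∀ s : Γ, Subgroup.zpowers s = S → (χh' : Γ → ℂ) ((c : Γ) * s) = (ε' : ℂ) * (β : C → ℂ) c) → χ = χ') ∧ (∀ β : Cfsg.IrrCharacter C, ∃ (χ : Cfsg.IrrCharacter G) (χh : Cfsg.IrrCharacter Γ) (ε : ℤ), (∀ s ∈ S, ∀ g g' : G, (g' : Γ) = s * g * s⁻¹ → (χ : G → ℂ) g' = (χ : G → ℂ) g) ∧ (∀ g : G,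 (χh : Γ → ℂ) g = (χ : G → ℂ) g) ∧ (Cfsg.detOrder (χh : Γ → ℂ)).Coprime (Nat.card S) ∧ (ε = 1 ∨ ε = -1) ∧ ∀ c : C, ∀ s : Γ, Subgroup.zpowers s = S → (χh : Γ → ℂ) ((c : Γ) * s) = (ε : ℂ) * (β : C → ℂ) c) := by
  classical
  obtain ⟨s, hs⟩ := (Subgroup.isCyclic_iff_exists_zpowers_eq_top S).1 hcyc
  subst hs
  haveI : G.Normal := by
    rw [← Subgroup.normalizer_eq_top_iff, ← top_le_iff, ← htop, sup_le_iff]
    refine ⟨Subgroup.le_normalizer, fun y hy => Subgroup.mem_normalizer_iff.2 fun a =>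
      ⟨hnorm y hy a, fun ha => ?_⟩⟩
    have := hnorm y⁻¹ (inv_mem hy) _ ha
    simpa [mul_assoc] using this
  have h : CyclicGlauberman.CoCyc G C s := ⟨⟨by rwa [Nat.card_zpowers] at hcop, hC⟩, htop⟩
  rw [Nat.card_zpowers]
  have hval : ∀ {β β' : Cfsg.IrrCharacter C} {ε ε' : ℤ} {χh : Γ → ℂ},
      (∀ c : C, ∀ t : Γ, Subgroup.zpowers t = Subgroup.zpowers s →
        χh ((c : Γ) * t) = (ε : ℂ) * (β : C → ℂ) c) →
      (∀ c : C, ∀ t : Γ, Subgroup.zpowers t = Subgroup.zpowers s →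
        χh ((c : Γ) * t) = (ε' : ℂ) * (β' : C → ℂ) c) →
      (ε = 1 ∨ ε = -1) → β = β' ∧ ε = ε' := by
    intro β β' ε ε' χh h1 h2 hε
    have he : (ε : ℂ) • (β : C → ℂ) = (ε' : ℂ) • (β' : C → ℂ) :=
      funext fun c => (h1 c s rfl).symm.trans (h2 c s rfl)
    have hne : (ε : ℂ) ≠ 0 := by rcases hε with rfl | rfl <;> simp
    have hi := congrArg (fun f => Cfsg.classInner f (β : C → ℂ)) he
    simp only [classInner_smul_left, classInner_irr_self, mul_one] at hi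
    by_cases hb : β = β'
    · subst hb
      rw [classInner_irr_self, mul_one, Int.cast_inj] at hi
      exact ⟨rfl, hi⟩
    · rw [classInner_irr_ne (Ne.symm hb), mul_zero] at hi
      exact absurd hi hne
  refine ⟨fun χ χh _ hres hdet => ?_, ?_, ?_⟩
  · obtain ⟨β, ε, hε, hβ, hne⟩ := h.exists_sign χ.2 χh.2 hres hdet
    refine ⟨⟨(β, ε), ⟨hε, hβ⟩, ?_⟩, fun β' ε' hε' hβ' => ?_⟩
    · rintro ⟨β', ε'⟩ ⟨hε', hβ'⟩
      obtain ⟨h1, h2⟩ := hval hβ' hβ hε'
      exact Prod.ext h1 h2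
    · rw [(hval hβ' hβ hε').1]
      intro h0
      apply hne
      rw [show (fun c : C => (χh : Γ → ℂ) c) = fun c : C => (χ : G → ℂ) ⟨c, hCG c.2⟩ from
        funext fun c => hres ⟨c, hCG c.2⟩]
      exact h0
  · intro χ χ' χh χh' _ _ hres hres' _ _ β ε ε' hε hε' hβ hβ'
    by_contra hne
    have h0 := (h.orth χ.2 χh.2 χh'.2 hres hres').1 fun he => hne (Subtype.ext he)
    rw [show (fun c : C => (χh : Γ → ℂ) (c * s)) = (ε : ℂ) • (β : C → ℂ) from
        funext fun c => hβ c s rfl,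
      show (fun c : C => (χh' : Γ → ℂ) (c * s)) = (ε' : ℂ) • (β : C → ℂ) from
        funext fun c => hβ' c s rfl,
      classInner_smul_left, classInner_smul_right, classInner_irr_self] at h0
    rcases hε with rfl | rfl <;> rcases hε' with rfl | rfl <;> simp at h0
  · let X := {χ : Cfsg.IrrCharacter G // ∀ t ∈ Subgroup.zpowers s, ∀ g g' : G,
      (g' : Γ) = t * g * t⁻¹ → (χ : G → ℂ) g' = (χ : G → ℂ) g}
    have hex : ∀ χ : X, ∃ (χh : Cfsg.IrrCharacter Γ) (β : Cfsg.IrrCharacter C) (ε : ℤ),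
        (∀ g : G, (χh : Γ → ℂ) g = (χ.1 : G → ℂ) g) ∧
        (Cfsg.detOrder (χh : Γ → ℂ)).Coprime (orderOf s) ∧ (ε = 1 ∨ ε = -1) ∧
        ∀ c : C, ∀ t : Γ, Subgroup.zpowers t = Subgroup.zpowers s →
          (χh : Γ → ℂ) ((c : Γ) * t) = (ε : ℂ) * (β : C → ℂ) c := by
      intro χ
      have hinv : ∀ γ : Γ, conjN G γ (χ.1 : G → ℂ) = χ.1 := by
        intro γ
        have hle : (⊤ : Subgroup Γ) ≤ inertia G (χ.1 : G → ℂ) := by
          rw [← htop, sup_le_iff]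
          refine ⟨le_inertia (isClassFunction_irr χ.1), fun t ht => ?_⟩
          exact mem_inertia.2 (funext fun n => χ.2 t ht n _ rfl)
        exact mem_inertia.1 (hle (Subgroup.mem_top γ))
      have hd := IsCharacter.apply_one_eq_deg (isCharacter_of_irr χ.1.2)
      have hcG : (Nat.card G).Coprime (orderOf s) := h.cop
      obtain ⟨χ₀, ⟨hχ₀, hres, ho⟩, -⟩ := exists_canonical_extension G χ.1.2 hinv hd (by
        rw [h.index_eq]
        exact Nat.Coprime.mul_right (hcG.symm.coprime_dvd_right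
            (CyclicGlauberman.detOrder_dvd_card (isCharacter_of_irr χ.1.2)))
          (hcG.symm.coprime_dvd_right (IsIrrCharacter.deg_dvd χ.1.2)))
      have hdet : (Cfsg.detOrder χ₀).Coprime (orderOf s) := by
        rw [ho]
        exact hcG.coprime_dvd_left (CyclicGlauberman.detOrder_dvd_card (isCharacter_of_irr χ.1.2))
      obtain ⟨β, ε, hε, hβ, -⟩ := h.exists_sign χ.1.2 hχ₀ hres hdet
      exact ⟨⟨χ₀, hχ₀⟩, β, ε, hres, hdet, hε, hβ⟩
    choose χh F ε hres hdet hε hF using hex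
    have hinj : Function.Injective F := by
      intro χ χ' he
      by_contra hne
      have h0 := (h.orth χ.1.2 (χh χ).2 (χh χ').2 (hres χ) (hres χ')).1
        fun he' => hne (Subtype.ext (Subtype.ext he'))
      rw [show (fun c : C => (χh χ : Γ → ℂ) (c * s)) = (ε χ : ℂ) • (F χ : C → ℂ) from
          funext fun c => hF χ c s rfl,
        show (fun c : C => (χh χ' : Γ → ℂ) (c * s)) = (ε χ' : ℂ) • (F χ : C → ℂ) from
          funext fun c => (hF χ' c s rfl).trans (by rw [he]; rfl),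
        classInner_smul_left, classInner_smul_right, classInner_irr_self] at h0
      rcases hε χ with h1 | h1 <;> rcases hε χ' with h2 | h2 <;> simp [h1, h2] at h0
    have hbij := hinj.bijective_of_nat_card_le (h.card_inv hnorm).ge
    intro β
    obtain ⟨χ, rfl⟩ := hbij.2 β
    exact ⟨χ.1, χh χ, ε χ, χ.2, hres χ, hdet χ, hε χ, hF χ⟩

end Cfsg.Agent.S4446
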