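import Cfsg.Statements.S4447
import Cfsg.Agent.Chars.CoprimeInvariant

set_option autoImplicit false
open Cfsg Cfsg.Lib.Chars Cfsg.Lib.CoprimeInvariant

set_option linter.style.haveILetI false

namespace Cfsg.Agent.S4447

/-- Inside a finite group Γ let S normalise G and also normalise a normal subgroup N of G, with the order of S coprime to the index of N in G and S or G/N solvable. Then for every S-invariant irreducible character χ of G, the restriction of χ to N has an S-invariant irreducible constituent. -/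
theorem result {Γ : Type*} [Group Γ] [Fintype Γ] (G S N : Subgroup Γ) [Fintype G] [Fintype N] (hnorm : ∀ s ∈ S, ∀ g ∈ G, s * g * s⁻¹ ∈ G) (hNG : N ≤ G) [hNn : (N.subgroupOf G).Normal] (hNS : ∀ s ∈ S, ∀ n ∈ N, s * n * s⁻¹ ∈ N) (hcop : (N.relIndex G).Coprime (Nat.card S)) (hsolv : Group.IsSolvable S ∨ Group.IsSolvable (G ⧸ N.subgroupOf G)) (χ : Cfsg.IrrCharacter G) (hinv : (∀ s ∈ S, ∀ g g' : G, (g' : Γ) = s * g * s⁻¹ → (χ : G → ℂ) g' = (χ : G → ℂ) g)) : ∃ θ : Cfsg.IrrCharacter N, Cfsg.classInner (fun n : N => (χ : G → ℂ) ⟨n, hNG n.2⟩) (θ : N → ℂ) ≠ 0 ∧ (∀ s ∈ S, ∀ g g' : N, (g' : Γ) = s * g * s⁻¹ → (θ : N → ℂ) g' = (θ : N → ℂ) g) := by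
  classical
  have hGn : (G ⊔ S) ≤ Subgroup.normalizer (G : Set Γ) := sup_le Subgroup.le_normalizer fun s hs =>
    Subgroup.mem_normalizer_iff.2 fun g => ⟨hnorm s hs g, fun hg => by
      simpa [mul_assoc] using hnorm s⁻¹ (S.inv_mem hs) _ hg⟩
  have hNn' : ∀ g ∈ G, ∀ n ∈ N, g * n * g⁻¹ ∈ N := fun g hg n hn =>
    hNn.conj_mem ⟨n, hNG hn⟩ hn ⟨g, hg⟩
  have hNn2 : (G ⊔ S) ≤ Subgroup.normalizer (N : Set Γ) := sup_le
    (fun g hg => Subgroup.mem_normalizer_iff.2 fun n => ⟨hNn' g hg n, fun hn => by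
      simpa [mul_assoc] using hNn' g⁻¹ (G.inv_mem hg) _ hn⟩)
    fun s hs => Subgroup.mem_normalizer_iff.2 fun n => ⟨hNS s hs n, fun hn => by
      simpa [mul_assoc] using hNS s⁻¹ (S.inv_mem hs) _ hn⟩
  let U : Subgroup Γ := G ⊔ S
  have : (G.subgroupOf U).Normal := Subgroup.normal_subgroupOf_of_le_normalizer hGn
  have : (N.subgroupOf U).Normal := Subgroup.normal_subgroupOf_of_le_normalizer hNn2
  have : Fintype U := Fintype.ofFinite _
  have : Fintype (G.subgroupOf U) := Fintype.ofFinite _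
  have : Fintype (N.subgroupOf U) := Fintype.ofFinite _
  have hGU : G ≤ U := le_sup_left
  have hNU : N ≤ U := hNG.trans hGU
  have hSU : S ≤ U := le_sup_right
  let eG : G.subgroupOf U ≃* G := Subgroup.subgroupOfEquivOfLe hGU
  let eN : N.subgroupOf U ≃* N := Subgroup.subgroupOfEquivOfLe hNU
  have hNG' : N.subgroupOf U ≤ G.subgroupOf U := fun x hx => hNG hx
  have htop : G.subgroupOf U ⊔ S.subgroupOf U = ⊤ := by
    rw [← Subgroup.subgroupOf_sup hGU hSU, Subgroup.subgroupOf_self]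
  have hcop' : ((N.subgroupOf U).relIndex (G.subgroupOf U)).Coprime (Nat.card (S.subgroupOf U)) := by
    rw [Subgroup.relIndex_subgroupOf hGU, Nat.card_congr (Subgroup.subgroupOfEquivOfLe hSU).toEquiv]
    exact hcop
  have hsolvG : Group.IsSolvable (G ⧸ N.subgroupOf G) →
      Group.IsSolvable (G.subgroupOf U ⧸ (N.subgroupOf U).subgroupOf (G.subgroupOf U)) := fun h => by
    haveI := h
    exact Group.isSolvable_of_surjective (f := (QuotientGroup.congr (N.subgroupOf G)
      ((N.subgroupOf U).subgroupOf (G.subgroupOf U)) eG.symm (by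
        ext x
        constructor
        · rintro ⟨y, hy, rfl⟩; exact hy
        · intro hx; exact ⟨eG x, hx, eG.symm_apply_apply x⟩)).toMonoidHom) (MulEquiv.surjective _)
  obtain ⟨θ, hθc, hθi⟩ := exists_invariant_constituent (G.subgroupOf U) (S.subgroupOf U)
    (N.subgroupOf U) hNG' htop hcop'
    (hsolv.imp (fun h => by
      haveI := h
      exact Group.isSolvable_of_surjective (f := (Subgroup.subgroupOfEquivOfLe hSU).symm.toMonoidHom)
        (MulEquiv.surjective _)) hsolvG)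
    ⟨fun x => (χ : G → ℂ) (eG x), IsIrrCharacter.comp_mulEquiv χ.2 eG⟩ (fun x => by
      funext g
      obtain ⟨x, hx⟩ := x
      let P : Γ → Prop := fun x => ∀ g g' : G, (g' : Γ) = x * g * x⁻¹ →
        (χ : G → ℂ) g' = (χ : G → ℂ) g
      suffices h : P x from h _ _ rfl
      have hsub : U ≤
          { carrier := {x | x ∈ U ∧ P x}
            one_mem' := ⟨U.one_mem, fun g g' h => by
              obtain rfl : g' = g := Subtype.ext (by simpa using h)
              rfl⟩
            mul_mem' := fun {a b} ha hb => ⟨U.mul_mem ha.1 hb.1, fun g g' h => by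
              have hb' : b * (g : Γ) * b⁻¹ ∈ G := (Subgroup.mem_normalizer_iff.1 (hGn hb.1) _).1 g.2
              rw [← hb.2 g ⟨_, hb'⟩ rfl]
              exact ha.2 ⟨_, hb'⟩ g' (by rw [h]; group)⟩
            inv_mem' := fun {a} ha => ⟨U.inv_mem ha.1, fun g g' h =>
              (ha.2 g' g (by rw [h]; group)).symm⟩ } := sup_le
        (fun a ha => ⟨hGU ha, fun g g' h => by
          obtain rfl : g' = ⟨a, ha⟩ * g * ⟨a, ha⟩⁻¹ := Subtype.ext h
          exact isClassFunction_irr χ g ⟨a, ha⟩⟩)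
        fun s hs => ⟨hSU hs, hinv s hs⟩
      exact (hsub hx).2)
  refine ⟨⟨fun n => (θ : _ → ℂ) (eN.symm n), IsIrrCharacter.comp_mulEquiv θ.2 eN.symm⟩, ?_, ?_⟩
  · intro h0
    apply hθc
    rw [← classInner_comp_equiv eN.symm.toEquiv]
    exact h0
  · intro s hs g g' hg
    have h := congrFun (hθi ⟨s, hSU hs⟩ hs) (eN.symm g)
    refine Eq.trans ?_ h
    show (θ : N.subgroupOf U → ℂ) _ = (θ : N.subgroupOf U → ℂ) _
    refine congrArg _ ?_
    apply Subtype.ext
    apply Subtype.ext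
    exact hg

end Cfsg.Agent.S4447
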