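import Cfsg.Statements.S4449
import Cfsg.Agent.Blocks.GlaubermanApi
-- import your own Cfsg.Agent.* helpers here

set_option autoImplicit false
open Cfsg

namespace Cfsg.Agent.S4449

set_option linter.unusedSectionVars false

open Cfsg.Lib.Blocks Cfsg.Lib.Chars Cfsg.Lib.Glauberman

/-- Inside a finite group Γ let the solvable subgroup S normalise G with the orders of G and S coprime, and let N be a normal subgroup of G normalised by S. Then for every S-invariant irreducible character ϑ of N, the induced character ϑ^G has an S-invariant irreducible constituent. -/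
theorem result {Γ : Type*} [Group Γ] [Fintype Γ] (G S N : Subgroup Γ) [Fintype G] [Fintype N] (hnorm : ∀ s ∈ S, ∀ g ∈ G, s * g * s⁻¹ ∈ G) (hNG : N ≤ G) (hNnormal : ∀ g ∈ G, ∀ n ∈ N, g * n * g⁻¹ ∈ N) (hNS : ∀ s ∈ S, ∀ n ∈ N, s * n * s⁻¹ ∈ N) (hcop : (Nat.card G).Coprime (Nat.card S)) (hsolv : Group.IsSolvable S) (θ : Cfsg.IrrCharacter N) (hinv : (∀ s ∈ S, ∀ g g' : N, (g' : Γ) = s * g * s⁻¹ → (θ : N → ℂ) g' = (θ : N → ℂ) g)) : ∃ χ : Cfsg.IrrCharacter G, Cfsg.classInner (fun n : N => (χ : G → ℂ) ⟨n, hNG n.2⟩) (θ : N → ℂ) ≠ 0 ∧ (∀ s ∈ S, ∀ g g' : G, (g' : Γ) = s * g * s⁻¹ → (χ : G → ℂ) g' = (χ : G → ℂ) g) := by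
  classical
  haveI : (N.subgroupOf G).Normal := ⟨fun n hn g => hNnormal g g.2 n hn⟩
  letI := Fintype.ofFinite (N.subgroupOf G)
  let e : N.subgroupOf G ≃* N := Subgroup.subgroupOfEquivOfLe hNG
  let θ' : Cfsg.IrrCharacter (N.subgroupOf G) :=
    ⟨fun x => (θ : N → ℂ) (e x), IsIrrCharacter.comp_surjective θ.2 e.toMonoidHom e.surjective⟩
  obtain ⟨χ, hχ, hinvχ⟩ := exists_inv_over _ G (opHom G S hnorm).range (N.subgroupOf G) rfl
    (Group.isSolvable_of_surjective (opHom G S hnorm).rangeRestrict_surjective)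
    (range_coprime hnorm hcop)
    (by rintro _ ⟨s, rfl⟩ x hx; exact hNS s.1 s.2 _ hx) θ'
    (by
      rintro _ ⟨s, rfl⟩ x
      exact hinv s.1 s.2 (e x) _ rfl)
  refine ⟨χ, ?_, (invSub_range_iff hnorm _).1 hinvχ⟩
  rw [show Cfsg.classInner (fun n : N => (χ : G → ℂ) ⟨n, hNG n.2⟩) (θ : N → ℂ) =
    Cfsg.classInner (fun x : N.subgroupOf G => (χ : G → ℂ) x) (θ' : N.subgroupOf G → ℂ) from ?_]
  · exact hχ
  rw [classInner_def, classInner_def, Nat.card_congr e.toEquiv]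
  congr 1
  exact (Fintype.sum_equiv e.toEquiv _ _ fun x => rfl).symm

end Cfsg.Agent.S4449
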