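import Cfsg.Statements.S4450
import Mathlib
import Cfsg.Agent.Blocks.InvariantConstituent
-- import your own Cfsg.Agent.* helpers here

set_option autoImplicit false
open Cfsg

namespace Cfsg.Agent.S4450

set_option linter.unusedSectionVars false

open Cfsg.Lib.Chars Cfsg.Lib

/-- Let N ≤ G be normal subgroups of the finite group Γ with the index of G in Γ coprime to the index of N in G, and Γ/G or G/N solvable. Then for every irreducible character ϑ of N invariant under conjugation by Γ, the induced character ϑ^G has an irreducible constituent invariant under conjugation by Γ. -/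
theorem result {Γ : Type*} [Group Γ] [Fintype Γ] (G N : Subgroup Γ) [hG : G.Normal] [hN : N.Normal] [Fintype G] [Fintype N] (hNG : N ≤ G) (hcop : (G.index).Coprime (N.relIndex G)) (hsolv : Group.IsSolvable (Γ ⧸ G) ∨ Group.IsSolvable (G ⧸ N.subgroupOf G)) (θ : Cfsg.IrrCharacter N) (hinv : ∀ (x : Γ) (n : N), (θ : N → ℂ) ⟨x * n * x⁻¹, hN.conj_mem n n.2 x⟩ = (θ : N → ℂ) n) : ∃ χ : Cfsg.IrrCharacter G, Cfsg.classInner (fun n : N => (χ : G → ℂ) ⟨n, hNG n.2⟩) (θ : N → ℂ) ≠ 0 ∧ ∀ (x : Γ) (g : G), (χ : G → ℂ) ⟨x * g * x⁻¹, hG.conj_mem g g.2 x⟩ = (χ : G → ℂ) g := by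
  classical
  have hinv' : ∀ x : Γ, conjN N x (θ : N → ℂ) = θ := fun x => funext (hinv x)
  obtain ⟨χ, hχ, hne, hi⟩ : ∃ χ : G → ℂ, Cfsg.IsIrrCharacter G χ ∧
      Cfsg.classInner (fun n : N => χ ⟨n, hNG n.2⟩) (θ : N → ℂ) ≠ 0 ∧ ∀ x : Γ, conjN G x χ = χ := by
    rcases hsolv with h | h
    · exact InvariantConstituent.exists_inv_of_solvable_top G N hNG hcop h θ.2 hinv'
    · obtain ⟨d, hd⟩ := h.solvable
      refine InvariantConstituent.exists_inv_of_solvable_section _ Γ G N hNG rfl hcop ⟨d, ?_⟩ θ θ.2 hinv'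
      have hq := map_derivedSeries_eq (f := QuotientGroup.mk' (N.subgroupOf G))
        (QuotientGroup.mk'_surjective _) d
      rw [hd, Subgroup.map_eq_bot_iff, QuotientGroup.ker_mk'] at hq
      exact hq
  exact ⟨⟨χ, hχ⟩, hne, fun x g => congrFun (hi x) g⟩

end Cfsg.Agent.S4450
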