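import Cfsg.Statements.S4451
import Cfsg.Agent.Blocks.CyclicSign
-- import your own Cfsg.Agent.* helpers here

set_option autoImplicit false
open Cfsg

namespace Cfsg.Agent.S4451

/-- Let the finite group Γ be generated by a normal subgroup G and a cyclic subgroup S of coprime orders such that every non-identity element of S has the same centraliser C = G ⊓ C(S) in G. Let χ be an S-invariant irreducible character of G, χ̂ its canonical extension to Γ (determinantal order coprime to the order of S), and β the irreducible character of C with χ̂(c s) = ε₀ β(c) for c ∈ C and generators s of S (ε₀ = ±1). Then there are a sign ε = ±1, which may differ from ε₀, and a linear character μ of S with μ² = 1, such that: (a) χ̂(c x) = ε β(c) μ(x) for all c ∈ C and all x ∈ S other than 1; (b) the restriction of χ to C equals |S|·ϑ + ε β for some character ϑ of C or ϑ = 0; (c) |S| divides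 χ(1) − ε β(1). -/
theorem result {Γ : Type*} [Group Γ] [Fintype Γ] (G S : Subgroup Γ) [Fintype G] (hnorm : ∀ s ∈ S, ∀ g ∈ G, s * g * s⁻¹ ∈ G) (hcop : (Nat.card G).Coprime (Nat.card S)) (htop : G ⊔ S = ⊤) (hcyc : IsCyclic S) (C : Subgroup Γ) [Fintype C] (hC : C = G ⊓ Subgroup.centralizer (S : Set Γ)) (hCG : C ≤ G) (hfpf : ∀ x ∈ S, x ≠ 1 → G ⊓ Subgroup.centralizer ({x} : Set Γ) = C) (χ : Cfsg.IrrCharacter G) (hinv : (∀ s ∈ S, ∀ g g' : G, (g' : Γ) = s * g * s⁻¹ → (χ : G → ℂ) g' = (χ : G → ℂ) g)) (χh : Cfsg.IrrCharacter Γ) (hext : (∀ g : G, (χh : Γ → ℂ) g = (χ : G → ℂ) g)) (hdet : (Cfsg.detOrder (χh : Γ → ℂ)).Coprime (Nat.card S)) (β : Cfsg.IrrCharacter C) (ε₀ : ℤ) (hε₀ : ε₀ = 1 ∨ ε₀ = -1) (hβ : ∀ c : C, ∀ s : Γ, Subgroup.zpowers s = S → (χh : Γ → ℂ) ((c : Γ) * s) = (ε₀ : ℂ) * (β : C → ℂ) c) : ∃ ε : ℤ, (ε = 1 ∨ ε = -1) ∧ (∃ μ : S → ℂ, Cfsg.IsCharacter S μ ∧ μ 1 = 1 ∧ (∀ x :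 S, μ x * μ x = 1) ∧ ∀ c : C, ∀ x : S, x ≠ 1 → (χh : Γ → ℂ) ((c : Γ) * x) = (ε : ℂ) * (β : C → ℂ) c * μ x) ∧ (∃ ϑ : C → ℂ, Cfsg.IsCharacter C ϑ ∧ (fun c : C => (χ : G → ℂ) ⟨c, hCG c.2⟩) = fun c => (Nat.card S : ℂ) * ϑ c + (ε : ℂ) * (β : C → ℂ) c) ∧ (Nat.card S : ℤ) ∣ (Cfsg.charDegree (χ : G → ℂ) : ℤ) - ε * (Cfsg.charDegree (β : C → ℂ) : ℤ) := by
  classical
  obtain ⟨s, hs⟩ := (Subgroup.isCyclic_iff_exists_zpowers_eq_top S).1 hcyc
  subst hs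
  haveI : G.Normal := by
    rw [← Subgroup.normalizer_eq_top_iff, ← top_le_iff, ← htop, sup_le_iff]
    refine ⟨Subgroup.le_normalizer, fun y hy => Subgroup.mem_normalizer_iff.2 fun a =>
      ⟨hnorm y hy a, fun ha => ?_⟩⟩
    have := hnorm y⁻¹ (inv_mem hy) _ ha
    simpa [mul_assoc] using this
  have h : Cfsg.Lib.CyclicGlauberman.CoCyc G C s :=
    ⟨⟨by rwa [Nat.card_zpowers] at hcop, hC⟩, htop⟩
  open Cfsg.Lib.Chars in
  suffices H : ∃ (ε : ℤ) (lam : Γ →* ℂˣ) (ϑ : C → ℂ), (ε = 1 ∨ ε = -1) ∧ Cfsg.IsCharacter C ϑ ∧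
      (∀ x ∈ Subgroup.zpowers s, (lam x : ℂ) * lam x = 1) ∧
      (∀ c : C, ∀ x ∈ Subgroup.zpowers s, x ≠ 1 → (χh : Γ → ℂ) (c * x) = (ε : ℂ) * (β : C → ℂ) c * lam x) ∧
      ∀ c : C, (χ : G → ℂ) ⟨c, hCG c.2⟩ = (Nat.card (Subgroup.zpowers s) : ℂ) * ϑ c + (ε : ℂ) * (β : C → ℂ) c by
    obtain ⟨ε, lam, ϑ, hε, hϑ, hsq, hval, hres⟩ := H
    refine ⟨ε, hε, ⟨fun x => ((lam.comp (Subgroup.zpowers s).subtype) x : ℂ),
      isCharacter_linear _, by simp, fun x => hsq x x.2, fun c x hx => hval c x x.2 (fun e => hx (Subtype.ext e))⟩,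
      ⟨ϑ, hϑ, funext hres⟩, ?_⟩
    have h1 := hres 1
    rw [show (⟨((1 : C) : Γ), hCG (1 : C).2⟩ : G) = 1 from rfl, irr_apply_one_eq_deg, irr_apply_one_eq_deg,
      IsCharacter.apply_one_eq_deg hϑ] at h1
    refine ⟨(deg ϑ : ℤ), ?_⟩
    apply Int.cast_injective (α := ℂ)
    push_cast
    show (deg (χ : G → ℂ) : ℂ) - ε * (deg (β : C → ℂ) : ℂ) = _
    rw [h1]; ring
  rcases (Nat.one_le_iff_ne_zero.2 (orderOf_pos s).ne').eq_or_lt with h1 | h2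
  · have hs1 : s = 1 := orderOf_eq_one_iff.1 h1.symm
    refine ⟨ε₀, 1, 0, hε₀, Cfsg.Lib.Chars.isCharacter_zero, fun x _ => by simp, fun c x hx hx1 => ?_, fun c => ?_⟩
    · rw [hs1, Subgroup.zpowers_one_eq_bot, Subgroup.mem_bot] at hx
      exact absurd hx hx1
    · have := hβ c s rfl
      rw [hs1, mul_one] at this
      rw [Pi.zero_apply, mul_zero, zero_add, ← this, ← hext]
  · obtain ⟨ε, lam, b, hε, hsq, hval, hres⟩ := h.exists_sign_char h2 hfpf χ.2 χh.2 hext β hε₀ (fun c => hβ c s rfl)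
    refine ⟨ε, lam, ∑ γ, b γ • (γ : C → ℂ), hε,
      Cfsg.Lib.Chars.IsCharacter.sum _ _ fun γ _ => Cfsg.Lib.Chars.IsCharacter.nsmul
        (Cfsg.Lib.Chars.isCharacter_of_irr γ.2) _, hsq, hval, fun c => ?_⟩
    rw [← hext, hres, Nat.card_zpowers]
    simp [Finset.sum_apply]

end Cfsg.Agent.S4451
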