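import Cfsg.Statements.S4452
import Mathlib
import Cfsg.Agent.Blocks.CoprimeDegreeCount
-- import your own Cfsg.Agent.* helpers here

set_option autoImplicit false
open Cfsg

namespace Cfsg.Agent.S4452

set_option linter.unusedSectionVars false

open Cfsg.Lib.Chars Cfsg.Lib

/-- Let the finite group G be the product of a normal subgroup K and a solvable subgroup H of coprime orders, and let N = N_G(H). Then the number of irreducible characters of G of degree coprime to the order of H equals the number of irreducible characters of N of degree coprime to the order of H. (The two sets are in fact in a canonical bijection; only the equality of their sizes is stated here.) -/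
theorem result {G : Type*} [Group G] [Finite G] (K H : Subgroup G) [K.Normal] (hKH : K ⊔ H = ⊤) (hcop : (Nat.card K).Coprime (Nat.card H)) (hsolv : Group.IsSolvable H) : Nat.card {χ : Cfsg.IrrCharacter G // (Cfsg.charDegree (χ : G → ℂ)).Coprime (Nat.card H)} = Nat.card {η : Cfsg.IrrCharacter (Subgroup.normalizer (H : Set G)) // (Cfsg.charDegree (η : Subgroup.normalizer (H : Set G) → ℂ)).Coprime (Nat.card H)} := by
  classical
  letI := Fintype.ofFinite G
  letI := Fintype.ofFinite K
  have hN : H ≤ Subgroup.normalizer (H : Set G) := Subgroup.le_normalizer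
  set N := Subgroup.normalizer (H : Set G) with hNdef
  letI := Fintype.ofFinite N
  haveI : (K.subgroupOf N).Normal := Subgroup.Normal.subgroupOf inferInstance N
  letI := Fintype.ofFinite (K.subgroupOf N)
  let eH := Subgroup.subgroupOfEquivOfLe hN
  have hcH : Nat.card (H.subgroupOf N) = Nat.card H := Nat.card_congr eH.toEquiv
  have hKH' : K.subgroupOf N ⊔ H.subgroupOf N = ⊤ := by
    refine top_le_iff.1 fun y _ => ?_
    obtain ⟨k, hk, h, hh, he⟩ := Subgroup.mem_sup_of_normal_left.1
      (show (y : G) ∈ K ⊔ H by rw [hKH]; exact Subgroup.mem_top _)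
    have hkN : k ∈ N := by
      rw [eq_mul_inv_of_mul_eq he]
      exact N.mul_mem y.2 (N.inv_mem (hN hh))
    have : y = (⟨k, hkN⟩ : N) * ⟨h, hN hh⟩ := Subtype.ext he.symm
    rw [this]
    exact Subgroup.mul_mem_sup hk hh
  have hcop' : (Nat.card (K.subgroupOf N)).Coprime (Nat.card (H.subgroupOf N)) := by
    rw [hcH]
    refine hcop.coprime_dvd_left ?_
    rw [← Subgroup.inf_subgroupOf_right]
    exact (dvd_of_eq (Nat.card_congr (Subgroup.subgroupOfEquivOfLe inf_le_right).toEquiv)).trans
      (Subgroup.card_dvd_of_le inf_le_left)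
  haveI := hsolv
  have hsolv' : Group.IsSolvable (H.subgroupOf N) :=
    Group.isSolvable_of_surjective (f := eH.symm.toMonoidHom) eH.symm.surjective
  rw [CoprimeDegreeCount.card_coprime_degree K H hKH hcop,
    CoprimeDegreeCount.card_inv K hKH hcop hsolv]
  have e2 := CoprimeDegreeCount.card_coprime_degree (K.subgroupOf N) (H.subgroupOf N) hKH' hcop'
  rw [hcH, CoprimeDegreeCount.card_inv (K.subgroupOf N) hKH' hcop' hsolv'] at e2
  rw [e2]
  congr 1
  · have hmemN : ∀ x ∈ K ⊓ Subgroup.centralizer (H : Set G), x ∈ N := fun x hx =>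
      Subgroup.centralizer_le_normalizer (H : Set G) hx.2
    let e : ↥(K ⊓ Subgroup.centralizer (H : Set G)) ≃*
        ↥(K.subgroupOf N ⊓ Subgroup.centralizer ((H.subgroupOf N : Subgroup N) : Set N)) :=
      { toFun := fun x => ⟨⟨x, hmemN x x.2⟩, x.2.1, Subgroup.mem_centralizer_iff.2 fun y hy =>
          Subtype.ext (Subgroup.mem_centralizer_iff.1 x.2.2 _ hy)⟩
        invFun := fun x => ⟨((x : N) : G), x.2.1, Subgroup.mem_centralizer_iff.2 fun y hy =>
          congrArg Subtype.val (Subgroup.mem_centralizer_iff.1 x.2.2 ⟨y, hN hy⟩ hy)⟩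
        left_inv := fun x => rfl
        right_inv := fun x => rfl
        map_mul' := fun _ _ => rfl }
    refine Nat.card_eq_of_bijective (ConjClasses.map e.toMonoidHom) ⟨fun a b hab => ?_, ?_⟩
    · obtain ⟨a, rfl⟩ := ConjClasses.exists_rep a
      obtain ⟨b, rfl⟩ := ConjClasses.exists_rep b
      refine ConjClasses.mk_eq_mk_iff_isConj.2 ?_
      have h1 := e.symm.toMonoidHom.map_isConj (ConjClasses.mk_eq_mk_iff_isConj.1 hab)
      simpa using h1
    · exact ConjClasses.map_surjective e.surjective
  · exact Nat.card_congr
      { toFun := fun f => f.comp eH.toMonoidHom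
        invFun := fun f => f.comp eH.symm.toMonoidHom
        left_inv := fun f => MonoidHom.ext fun x => congrArg f (eH.apply_symm_apply x)
        right_inv := fun f => MonoidHom.ext fun x => congrArg f (eH.symm_apply_apply x) }

end Cfsg.Agent.S4452
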