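import Cfsg.Statements.S4453
import Cfsg.Agent.Chars.IsaacsStep.Main
import Cfsg.Agent.Coprime.Action
-- import your own Cfsg.Agent.* helpers here

set_option autoImplicit false
open scoped Pointwise
open Cfsg

namespace Cfsg.Agent.S4453

/-- Inside a finite group Γ let S normalise the solvable subgroup G of odd order with the orders of G and S coprime, let C = G ⊓ C(S), and let L ≤ K be S-invariant normal subgroups of G with K/L abelian, G = KC and H = LC (so C ≤ H ≤ G). Then for each S-invariant irreducible character χ of G there is exactly one S-invariant irreducible character ψ of H whose multiplicity in the restriction of χ to H is odd, and χ ↦ ψ is a bijection from the S-invariant irreducible characters of G onto those of H (distinct χ give distinct ψ, and every S-invariant ψ arises). -/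
theorem result {Γ : Type*} [Group Γ] [Fintype Γ] (G S : Subgroup Γ) [Fintype G] (hnorm : ∀ s ∈ S, ∀ g ∈ G, s * g * s⁻¹ ∈ G) (hcop : (Nat.card G).Coprime (Nat.card S)) (hGsolv : Group.IsSolvable G) (hodd : Odd (Nat.card G)) (C : Subgroup Γ) [Fintype C] (hC : C = G ⊓ Subgroup.centralizer (S : Set Γ)) (hCG : C ≤ G) (K L H : Subgroup Γ) [Fintype H] (hLK : L ≤ K) (hKG : K ≤ G) (hKn : ∀ g ∈ G, ∀ k ∈ K, g * k * g⁻¹ ∈ K) (hLn : ∀ g ∈ G, ∀ l ∈ L, g * l * g⁻¹ ∈ L) (hKS : ∀ s ∈ S, ∀ k ∈ K, s * k * s⁻¹ ∈ K) (hLS : ∀ s ∈ S, ∀ l ∈ L, s * l * s⁻¹ ∈ L) (hab : ∀ a ∈ K, ∀ b ∈ K, a * b * a⁻¹ * b⁻¹ ∈ L) (hGKC : K ⊔ C = G) (hH : H = L ⊔ C) (hHG : H ≤ G) : (∀ χ : Cfsg.IrrCharacter G, (∀ s ∈ S, ∀ g g' : G, (g' : Γ) = s * g * s⁻¹ → (χ : G → ℂ) g' = (χ : G → ℂ) g) → ∃! ψ : Cfsg.IrrCharacter H, (∀ s ∈ S, ∀ g g' : H, (g' : Γ) = s * g * s⁻¹ → (ψ : H → ℂ) g' = (ψ : H → ℂ) g) ∧ ∃ m : ℕ, Cfsg.classInner (fun h : H => (χ : G → ℂ) ⟨h, hHG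 h.2⟩) (ψ : H → ℂ) = (m : ℂ) ∧ Odd m) ∧ (∀ χ χ' : Cfsg.IrrCharacter G, (∀ s ∈ S, ∀ g g' : G, (g' : Γ) = s * g * s⁻¹ → (χ : G → ℂ) g' = (χ : G → ℂ) g) → (∀ s ∈ S, ∀ g g' : G, (g' : Γ) = s * g * s⁻¹ → (χ' : G → ℂ) g' = (χ' : G → ℂ) g) → ∀ ψ : Cfsg.IrrCharacter H, (∀ s ∈ S, ∀ g g' : H, (g' : Γ) = s * g * s⁻¹ → (ψ : H → ℂ) g' = (ψ : H → ℂ) g) → ∀ m m' : ℕ, Cfsg.classInner (fun h : H => (χ : G → ℂ) ⟨h, hHG h.2⟩) (ψ : H → ℂ) = (m : ℂ) → Odd m → Cfsg.classInner (fun h : H => (χ' : G → ℂ) ⟨h, hHG h.2⟩) (ψ : H → ℂ) = (m' : ℂ) → Odd m' → χ = χ') ∧ (∀ ψ : Cfsg.IrrCharacter H, (∀ s ∈ S, ∀ g g' : H, (g' : Γ) = s * g * s⁻¹ → (ψ : H → ℂ) g' = (ψ : H → ℂ) g) → ∃ χ : Cfsg.IrrCharacter G, (∀ s ∈ S, ∀ g g' : G, (g' : Γ) = s * g * s⁻¹ → (χ : G → ℂ) g' = (χ : G → ℂ) g) ∧ ∃ m : ℕ, Cfsg.classInner (fun h : H => (χ : G → ℂ) ⟨h, hHG h.2⟩) (ψ : H → ℂ) = (m : ℂ) ∧ Odd m) := by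
  classical
  haveI : Fintype S := Fintype.ofFinite _
  -- the action by conjugation
  let cj : S → G →* G := fun s =>
    { toFun := fun g => ⟨(s : Γ) * g * (s : Γ)⁻¹, hnorm s s.2 g g.2⟩
      map_one' := by ext; simp
      map_mul' := fun a b => by ext; simp }
  let act : S →* MulAut G :=
    { toFun := fun s =>
        { toFun := cj s
          invFun := cj s⁻¹
          left_inv := fun g => by ext; simp [cj, mul_assoc]
          right_inv := fun g => by ext; simp [cj, mul_assoc]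
          map_mul' := map_mul _ }
      map_one' := by ext g; simp [cj]
      map_mul' := fun s t => by ext g; simp [cj, mul_assoc] }
  have hact : ∀ (s : S) (g : G), (act s g : Γ) = s * g * (s : Γ)⁻¹ := fun _ _ => rfl
  let C' : Subgroup G := C.subgroupOf G
  let K' : Subgroup G := K.subgroupOf G
  let L' : Subgroup G := L.subgroupOf G
  let L2 : Subgroup G := L' ⊔ (K' ⊓ C')
  have hfixC : ∀ (s : S), ∀ c ∈ C', act s c = c := fun s c hc => by
    have h : (c : Γ) ∈ C := hc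
    rw [hC] at h
    have h2 : (s : Γ) * c = c * s := Subgroup.mem_centralizer_iff.mp h.2 s s.2
    ext
    rw [hact, h2, mul_inv_cancel_right]
  haveI hKn' : K'.Normal := ⟨fun k hk g => hKn g g.2 k hk⟩
  haveI hLn' : L'.Normal := ⟨fun k hk g => hLn g g.2 k hk⟩
  have hL2K : L2 ≤ K' := sup_le (fun x hx => hLK hx) inf_le_left
  have hsupKC : K' ⊔ C' = ⊤ := by
    rw [← Subgroup.subgroupOf_sup hKG hCG, hGKC, Subgroup.subgroupOf_self]
  haveI hL2n : L2.Normal := by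
    refine ⟨fun x hx g => ?_⟩
    have hg : g ∈ (K' : Set G) * (C' : Set G) := by
      rw [← Subgroup.normal_mul K' C', hsupKC]
      trivial
    obtain ⟨k, hk, c, hc, rfl⟩ := hg
    have h1 : c * x * c⁻¹ ∈ L2 := by
      have hle : L2 ≤ L2.comap (MulAut.conj c).toMonoidHom :=
        sup_le (fun y hy => Subgroup.mem_sup_left (hLn'.conj_mem y hy c))
          (fun y hy => Subgroup.mem_sup_right
            ⟨hKn'.conj_mem y hy.1 c, C'.mul_mem (C'.mul_mem hc hy.2) (C'.inv_mem hc)⟩)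
      exact hle hx
    have h2 : k * (c * x * c⁻¹) * k⁻¹ * (c * x * c⁻¹)⁻¹ ∈ L' :=
      hab _ hk _ (hL2K h1)
    have h3 := L2.mul_mem (Subgroup.mem_sup_left h2) h1
    have e : k * (c * x * c⁻¹) * k⁻¹ * (c * x * c⁻¹)⁻¹ * (c * x * c⁻¹) = k * c * x * (k * c)⁻¹ := by
      group
    rwa [e] at h3
  have hactL2 : ∀ (s : S), ∀ x ∈ L2, act s x ∈ L2 := by
    intro s x hx
    have hle : L2 ≤ L2.comap (act s).toMonoidHom :=
      sup_le (fun y hy => Subgroup.mem_sup_left (hLS s s.2 _ hy))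
        (fun y hy => Subgroup.mem_sup_right (show act s y ∈ K' ⊓ C' by
          rw [hfixC s y hy.2]; exact hy))
    exact hle hx
  let F : Cfsg.Lib.IsaacsStep.Frame G S :=
    { K := K'
      L := L2
      C := C'
      normalK := hKn'
      normalL := hL2n
      le := hL2K
      abelian := fun x hx y hy => Subgroup.mem_sup_left (hab _ hx _ hy)
      sup := hsupKC
      inter := le_sup_right
      odd := hodd
      cop := by rw [← Nat.card_eq_fintype_card]; exact hcop.symm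
      act := act
      actK := fun s x hx => hKS s s.2 _ hx
      actL := hactL2
      actC := hfixC
      coset := fun x hx hfix => by
        let D : Subgroup Γ := L2.map G.subtype
        have hAD : S ≤ Subgroup.normalizer (D : Set Γ) := by
          intro s hs
          rw [Subgroup.mem_normalizer_iff]
          intro y
          constructor
          · rintro ⟨z, hz, rfl⟩
            exact ⟨act ⟨s, hs⟩ z, hactL2 _ z hz, rfl⟩
          · rintro ⟨z, hz, he⟩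
            refine ⟨act (⟨s, hs⟩ : S)⁻¹ z, hactL2 _ z hz, ?_⟩
            show (act (⟨s, hs⟩ : S)⁻¹ z : Γ) = y
            have he' : (z : Γ) = s * y * s⁻¹ := he
            rw [hact, he']
            simp [mul_assoc]
        have hDsol : Group.IsSolvable D := by
          haveI := hGsolv
          exact Group.isSolvable_of_surjective (f := G.subtype.subgroupMap L2)
            (G.subtype.subgroupMap_surjective L2)
        have hcopD : (Nat.card S).Coprime (Nat.card D) := by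
          refine hcop.symm.coprime_dvd_right (Subgroup.card_dvd_of_le ?_)
          rintro _ ⟨z, -, rfl⟩
          exact z.2
        obtain ⟨d, ⟨d', hd', rfl⟩, hcent⟩ := Cfsg.Lib.Coprime.exists_fixed_in_coset hAD hcopD
          (Or.inr hDsol) (k := (x : Γ)) (fun a ha => by
            have h := hL2n.conj_mem _ (hfix ⟨a, ha⟩) x⁻¹
            refine ⟨_, h, ?_⟩
            show (x : Γ)⁻¹ * ((act ⟨a, ha⟩ x : G) * (x : Γ)⁻¹) * ((x : Γ)⁻¹)⁻¹ =
              (x : Γ)⁻¹ * a * x * a⁻¹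
            rw [hact]
            group)
        have hc' : x * d' ∈ C' := by
          show ((x * d' : G) : Γ) ∈ C
          rw [hC]
          exact ⟨(x * d').2, hcent⟩
        have hk' : x * d' ∈ K' := K'.mul_mem hx (hL2K hd')
        have h := L2.mul_mem (Subgroup.mem_sup_right (show x * d' ∈ K' ⊓ C' from ⟨hk', hc'⟩))
          (L2.inv_mem hd')
        rwa [mul_inv_cancel_right] at h }
  let H' : Subgroup G := H.subgroupOf G
  have hH' : H' = F.L ⊔ F.C := by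
    show H.subgroupOf G = L2 ⊔ C'
    rw [hH, Subgroup.subgroupOf_sup (hLK.trans hKG) hCG]
    exact le_antisymm (sup_le_sup_right le_sup_left C')
      (sup_le (sup_le le_sup_left (inf_le_right.trans le_sup_right)) le_sup_right)
  haveI : Fintype H' := Fintype.ofFinite _
  let eH : H' ≃* H := Subgroup.subgroupOfEquivOfLe hHG
  obtain ⟨h1, h2, h3⟩ := F.main H' hH'
  have hGinv : ∀ χ : Cfsg.IrrCharacter G,
      (∀ s ∈ S, ∀ g g' : G, (g' : Γ) = s * g * s⁻¹ → (χ : G → ℂ) g' = (χ : G → ℂ) g) ↔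
      (∀ (s : S) (g : G), χ.1 (F.act s g) = χ.1 g) := fun χ =>
    ⟨fun h s g => h s s.2 g _ rfl, fun h s hs g g' hg => by
      rw [show g' = F.act ⟨s, hs⟩ g from Subtype.ext hg]
      exact h _ g⟩
  let up : Cfsg.IrrCharacter H → Cfsg.IrrCharacter H' := fun ψ =>
    ⟨fun x => ψ.1 (eH x), Cfsg.Lib.Chars.IsIrrCharacter.comp_mulEquiv ψ.2 eH⟩
  let down : Cfsg.IrrCharacter H' → Cfsg.IrrCharacter H := fun ψ =>
    ⟨fun x => ψ.1 (eH.symm x), Cfsg.Lib.Chars.IsIrrCharacter.comp_mulEquiv ψ.2 eH.symm⟩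
  have hud : ∀ ψ, up (down ψ) = ψ := fun ψ => Subtype.ext (funext fun x => by
    show ψ.1 (eH.symm (eH x)) = _
    rw [MulEquiv.symm_apply_apply])
  have hdu : ∀ ψ, down (up ψ) = ψ := fun ψ => Subtype.ext (funext fun x => by
    show ψ.1 (eH (eH.symm x)) = _
    rw [MulEquiv.apply_symm_apply])
  have hinv : ∀ ψ : Cfsg.IrrCharacter H,
      (∀ s ∈ S, ∀ g g' : H, (g' : Γ) = s * g * s⁻¹ → (ψ : H → ℂ) g' = (ψ : H → ℂ) g) ↔
      F.Inv H' (up ψ).1 := by
    intro ψ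
    constructor
    · intro h s x x' hx
      exact h s s.2 (eH x) (eH x') (congrArg (fun z : G => (z : Γ)) hx :)
    · intro h s hs g g' hg
      have h' := h ⟨s, hs⟩ (eH.symm g) (eH.symm g') (Subtype.ext hg)
      simpa [up] using h'
  have hodd' : ∀ (χ : Cfsg.IrrCharacter G) (ψ : Cfsg.IrrCharacter H),
      (∃ m : ℕ, Cfsg.classInner (fun h : H => (χ : G → ℂ) ⟨h, hHG h.2⟩) (ψ : H → ℂ) = (m : ℂ) ∧
        Odd m) ↔ Cfsg.Lib.IsaacsStep.OddMult H' χ.1 (up ψ).1 := by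
    intro χ ψ
    unfold Cfsg.Lib.IsaacsStep.OddMult
    rw [← Cfsg.Lib.Chars.classInner_comp_equiv eH.toEquiv
      (fun h : H => (χ : G → ℂ) ⟨h, hHG h.2⟩) (ψ : H → ℂ)]
    exact Iff.rfl
  refine ⟨fun χ hχ => ?_, fun χ χ' hχ hχ' ψ hψ m m' hm ho hm' ho' => ?_, fun ψ hψ => ?_⟩
  · obtain ⟨ψ, ⟨hψ1, hψ2⟩, hu⟩ := h1 χ ((hGinv χ).mp hχ)
    refine ⟨down ψ, ⟨(hinv _).mpr (by rw [hud]; exact hψ1),
      (hodd' χ _).mpr (by rw [hud]; exact hψ2)⟩, ?_⟩
    rintro ψ' ⟨h, h'⟩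
    rw [← hdu ψ']
    exact congrArg down (hu (up ψ') ⟨(hinv ψ').mp h, (hodd' χ ψ').mp h'⟩)
  · exact h2 χ χ' ((hGinv χ).mp hχ) ((hGinv χ').mp hχ') (up ψ) ((hinv ψ).mp hψ)
      ((hodd' χ ψ).mp ⟨m, hm, ho⟩) ((hodd' χ' ψ).mp ⟨m', hm', ho'⟩)
  · obtain ⟨χ, hχ, ho⟩ := h3 (up ψ) ((hinv ψ).mp hψ)
    exact ⟨χ, (hGinv χ).mpr hχ, (hodd' χ ψ).mpr ho⟩

end Cfsg.Agent.S4453
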