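import Cfsg.Statements.S4457
import Cfsg.Agent.Chars.TwoDegrees
-- import your own Cfsg.Agent.* helpers here

set_option autoImplicit false
open Cfsg

namespace Cfsg.Agent.S4457

/-- Let G be a finite group whose irreducible character degrees are exactly 1 and m (m ≠ 1). Then either G has an abelian normal subgroup of index m, or m is a power of a prime p and G is the direct product of a p-group and an abelian group: there are normal subgroups P and A with P a p-group, A abelian, P ⊓ A = 1 and P ⊔ A = G. -/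
theorem result {G : Type*} [Group G] [Finite G] (m : ℕ) (hcd : ∀ χ : Cfsg.IrrCharacter G, Cfsg.charDegree (χ : G → ℂ) = 1 ∨ Cfsg.charDegree (χ : G → ℂ) = m) (hm : ∃ χ : Cfsg.IrrCharacter G, Cfsg.charDegree (χ : G → ℂ) = m) (hm1 : m ≠ 1) : (∃ A : Subgroup G, A.Normal ∧ (∀ a ∈ A, ∀ b ∈ A, a * b = b * a) ∧ A.index = m) ∨ ∃ p e : ℕ, p.Prime ∧ m = p ^ e ∧ ∃ P A : Subgroup G, P.Normal ∧ A.Normal ∧ IsPGroup p P ∧ (∀ a ∈ A, ∀ b ∈ A, a * b = b * a) ∧ P ⊓ A = ⊥ ∧ P ⊔ A = ⊤ := by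
  classical
  haveI : Fintype G := Fintype.ofFinite G
  have hD : ∀ χ : G → ℂ, Cfsg.IsIrrCharacter G χ → Cfsg.charDegree χ = Cfsg.Lib.Chars.deg χ := fun χ hχ => by
    rw [Cfsg.charDegree, Cfsg.Lib.Chars.IsCharacter.apply_one_eq_deg (Cfsg.Lib.Chars.isCharacter_of_irr hχ),
      Complex.natCast_re, Nat.floor_natCast]
  have hcd' : ∀ χ : G → ℂ, Cfsg.IsIrrCharacter G χ → Cfsg.Lib.Chars.deg χ = 1 ∨ Cfsg.Lib.Chars.deg χ = m :=
    fun χ hχ => by rw [← hD χ hχ]; exact hcd ⟨χ, hχ⟩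
  have hm' : ∃ χ : G → ℂ, Cfsg.IsIrrCharacter G χ ∧ Cfsg.Lib.Chars.deg χ = m := by
    obtain ⟨χ, hχ⟩ := hm
    exact ⟨χ, χ.2, by rw [← hD _ χ.2]; exact hχ⟩
  exact Cfsg.Lib.Chars.two_degrees hm1 hcd' hm'

end Cfsg.Agent.S4457
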