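import Cfsg.Statements.S4459
import Cfsg.Agent.Chars.DegreePrime
import Cfsg.Agent.Chars.PPowerDegrees
-- import your own Cfsg.Agent.* helpers here

set_option autoImplicit false
open Cfsg

namespace Cfsg.Agent.S4459

/-- Let G be a non-abelian finite group and p a prime. Then the irreducible character degrees of G are exactly 1 and p if and only if either G has an abelian normal subgroup of index p or the centre of G has index p³. -/
theorem result {G : Type*} [Group G] [Finite G] (hG : ∃ a b : G, a * b ≠ b * a) (p : ℕ) (hp : p.Prime) : ((∀ χ : Cfsg.IrrCharacter G, Cfsg.charDegree (χ : G → ℂ) = 1 ∨ Cfsg.charDegree (χ : G → ℂ) = p) ∧ ∃ χ : Cfsg.IrrCharacter G, Cfsg.charDegree (χ : G → ℂ) = p) ↔ ((∃ A : Subgroup G, A.Normal ∧ (∀ a ∈ A, ∀ b ∈ A, a * b = b * a) ∧ A.index = p) ∨ (Subgroup.center G).index = p ^ 3) := by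
  classical
  haveI : Fintype G := Fintype.ofFinite G
  have hD : ∀ χ : G → ℂ, Cfsg.IsIrrCharacter G χ → Cfsg.charDegree χ = Cfsg.Lib.Chars.deg χ := fun χ hχ => by
    rw [Cfsg.charDegree, Cfsg.Lib.Chars.IsCharacter.apply_one_eq_deg (Cfsg.Lib.Chars.isCharacter_of_irr hχ),
      Complex.natCast_re, Nat.floor_natCast]
  constructor
  · rintro ⟨hcd, χ, hχ⟩
    refine or_iff_not_imp_left.2 fun hno => ?_
    exact Cfsg.Lib.Chars.degrees_prime_forward hp (fun ψ hψ => by rw [← hD ψ hψ]; exact hcd ⟨ψ, hψ⟩)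
      ⟨χ, χ.2, by rw [← hD _ χ.2]; exact hχ⟩ fun A hA hab hidx => hno ⟨A, hA, hab, hidx⟩
  · intro h
    have hb : ∀ χ : Cfsg.IrrCharacter G, Cfsg.charDegree (χ : G → ℂ) = 1 ∨ Cfsg.charDegree (χ : G → ℂ) = p :=
      fun χ => by rw [hD _ χ.2]; exact Cfsg.Lib.Chars.degrees_prime_backward hp h _ χ.2
    refine ⟨hb, ?_⟩
    by_contra hno
    push Not at hno
    obtain ⟨a, b, hab⟩ := hG
    refine hab (Cfsg.Lib.Chars.mul_comm_of_all_linear (fun χ => ?_) a b)
    have h1 := (hb χ).resolve_right (hno χ)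
    rw [hD _ χ.2] at h1
    rw [Cfsg.Lib.Chars.irr_apply_one_eq_deg, h1, Nat.cast_one]

end Cfsg.Agent.S4459
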