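import Cfsg.Statements.S4460
import Cfsg.Agent.Chars.ThreeDegreesMain
-- import your own Cfsg.Agent.* helpers here

set_option autoImplicit false
open Cfsg

namespace Cfsg.Agent.S4460

/-- A finite group with exactly three distinct irreducible character degrees is solvable of derived length at most 3: its third derived subgroup is trivial. -/
theorem result {G : Type*} [Group G] [Finite G] (hcd : Nat.card {n : ℕ // ∃ χ : Cfsg.IrrCharacter G, Cfsg.charDegree (χ : G → ℂ) = n} = 3) : derivedSeries G 3 = ⊥ := by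
  classical
  letI := Fintype.ofFinite G
  obtain ⟨χ₁, hχ₁⟩ : ∃ χ : Cfsg.IrrCharacter G, Cfsg.charDegree (χ : G → ℂ) = 1 :=
    ⟨⟨_, Cfsg.Lib.Chars.isIrrCharacter_one⟩, by simp [Cfsg.charDegree]⟩
  have hfin : Set.Finite {n : ℕ | ∃ χ : Cfsg.IrrCharacter G, Cfsg.charDegree (χ : G → ℂ) = n} :=
    Set.finite_range fun χ : Cfsg.IrrCharacter G => Cfsg.charDegree (χ : G → ℂ)
  have h3 : hfin.toFinset.card = 3 := by
    rw [← Set.ncard_eq_toFinset_card _ hfin, ← Nat.card_coe_set_eq]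
    exact hcd
  have h1 : 1 ∈ hfin.toFinset := hfin.mem_toFinset.2 ⟨χ₁, hχ₁⟩
  obtain ⟨a, b, -, hab⟩ := Finset.card_eq_two.1 (show (hfin.toFinset.erase 1).card = 2 by
    rw [Finset.card_erase_of_mem h1, h3])
  refine Cfsg.Lib.Chars.derived_three _ G rfl a b fun χ hχ => ?_
  by_cases h : Cfsg.Lib.Chars.deg χ = 1
  · exact Or.inl h
  · have hm : Cfsg.Lib.Chars.deg χ ∈ hfin.toFinset.erase 1 := Finset.mem_erase.2
      ⟨h, hfin.mem_toFinset.2 ⟨⟨χ, hχ⟩, Cfsg.Lib.Chars.charDegree_eq_deg hχ⟩⟩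
    rw [hab] at hm
    simpa using Or.inr (Finset.mem_insert.1 hm)

end Cfsg.Agent.S4460
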