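import Cfsg.Statements.S4461
import Cfsg.Agent.Chars.Broline
import Cfsg.Agent.Coprime.Hall
import Cfsg.Agent.S0060
import Cfsg.Agent.HallHigman.Drop
-- import your own Cfsg.Agent.* helpers here

set_option autoImplicit false
open Cfsg

namespace Cfsg.Agent.S4461

set_option linter.unusedSectionVars false

open scoped Pointwise

/-- Let χ be an irreducible character of the finite group G and K its kernel (the elements where χ takes the value χ(1)). Suppose either that K is not contained in the Fitting subgroup F(G), or that K = F(G) with G/K solvable and K ≠ G. Then there is an irreducible character ψ of G with ψ(1) > χ(1) whose kernel is properly contained in K. -/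
theorem result {G : Type*} [Group G] [Finite G] (χ : Cfsg.IrrCharacter G) (K : Subgroup G) [K.Normal] (hK : (∀ g : G, g ∈ K ↔ (χ : G → ℂ) g = (χ : G → ℂ) 1)) (h : ¬ K ≤ Cfsg.fittingSubgroup G ∨ (K = Cfsg.fittingSubgroup G ∧ Group.IsSolvable (G ⧸ K) ∧ K ≠ ⊤)) : ∃ ψ : Cfsg.IrrCharacter G, Cfsg.charDegree (χ : G → ℂ) < Cfsg.charDegree (ψ : G → ℂ) ∧ ∃ L : Subgroup G, (∀ g : G, g ∈ L ↔ (ψ : G → ℂ) g = (ψ : G → ℂ) 1) ∧ L < K := by
  classical
  haveI hFn : Group.IsNilpotent (Cfsg.fittingSubgroup G) := Cfsg.Lib.Components.isNilpotent_fitting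
  have hsyl : ∀ (H : Type _) [Group H] [Finite H], ¬ Group.IsNilpotent H →
      ∃ (q : ℕ) (_ : Fact q.Prime) (P : Sylow q H), ¬ (P : Subgroup H).Normal := by
    intro H _ _ hn
    by_contra hcon
    push Not at hcon
    exact hn (((Group.isNilpotent_of_finite_tfae (G := H)).out 0 3).2 hcon)
  have hnormal : ∀ (H : Type _) [Group H] [Finite H], Group.IsNilpotent H →
      ∀ (q : ℕ) (_ : Fact q.Prime) (P : Sylow q H), (P : Subgroup H).Normal := fun H _ _ hn =>
    ((Group.isNilpotent_of_finite_tfae (G := H)).out 0 3).1 hn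
  have hconjnormal : ∀ P : Subgroup G, (∀ g : G, ∀ u ∈ P, g⁻¹ * u * g ∈ P) → P.Normal :=
    fun P h => ⟨fun u hu g => by simpa using h g⁻¹ u hu⟩
  rcases h with hF | ⟨hKF, hsol, hKtop⟩
  · have hKn : ¬ Group.IsNilpotent K := fun hn => hF (Cfsg.Lib.Components.le_fitting hn)
    obtain ⟨p, hp, P0, hP0⟩ := hsyl K hKn
    set P := (P0 : Subgroup K).map K.subtype with hPdef
    have hPK : P ≤ K := Subgroup.map_subtype_le _
    have hsub : P.subgroupOf K = (P0 : Subgroup K) := by
      rw [hPdef, Subgroup.subgroupOf, Subgroup.comap_map_eq_self_of_injective K.subtype_injective]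
    refine Cfsg.Lib.Broline.exists_larger χ K hK (p := p) K P hPK (P0.2.map _) ?_ ?_
      (fun J _ hJ _ => hJ) (Or.inl ⟨hPK, ?_⟩)
    · rw [Subgroup.relIndex, hsub]
      exact P0.not_dvd_index
    · rw [sup_comm]
      exact Sylow.normalizer_sup_eq_top P0
    · by_contra hcon
      push Not at hcon
      have := hconjnormal P hcon
      exact hP0 (hsub ▸ (inferInstance : (P.subgroupOf K).Normal))
  haveI := hsol
  haveI : Nontrivial (G ⧸ K) := QuotientGroup.nontrivial_iff.2 hKtop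
  obtain ⟨M0, -, hM0n, hM0b, hmin⟩ := Cfsg.Lib.Coprime.exists_minimal_normal
    (K := (⊤ : Subgroup (G ⧸ K))) inferInstance top_ne_bot
  haveI := hM0n
  obtain ⟨hM0c, p, hp, -, hexp⟩ := Cfsg.Lib.Coprime.minimal_normal_solvable (N := M0) inferInstance
    hM0b hmin
  haveI := Fact.mk hp
  set π := QuotientGroup.mk' K with hπ
  set M := M0.comap π with hM
  have hKM : K ≤ M := fun k hk => by
    show π k ∈ M0
    rw [show π k = 1 from (QuotientGroup.eq_one_iff k).2 hk]
    exact M0.one_mem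
  have hMnK : ¬ M ≤ K := fun hle => hM0b <| by
    rw [eq_bot_iff, ← Subgroup.map_comap_eq_self_of_surjective (QuotientGroup.mk'_surjective K) M0]
    rintro _ ⟨m, hm, rfl⟩
    exact Subgroup.mem_bot.2 ((QuotientGroup.eq_one_iff m).2 (hle hm))
  have hMn : ¬ Group.IsNilpotent M := fun hn =>
    hMnK (hKF ▸ Cfsg.Lib.Components.le_fitting hn)
  have hpow : ∀ m ∈ M, m ^ p ∈ K := fun m hm => by
    rw [← QuotientGroup.eq_one_iff, QuotientGroup.mk_pow]
    exact hexp _ hm
  set K' := K.subgroupOf M with hK'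
  haveI hK'nil : Group.IsNilpotent K' := by
    haveI : Group.IsNilpotent K := by rw [hKF]; infer_instance
    exact Group.nilpotent_of_surjective (Subgroup.subgroupOfEquivOfLe hKM).symm.toMonoidHom
      (Subgroup.subgroupOfEquivOfLe hKM).symm.surjective
  -- a Sylow subgroup inside `K'` is normal
  have hKsyl : ∀ (q : ℕ) (_ : Fact q.Prime) (Q : Sylow q M), (Q : Subgroup M) ≤ K' →
      (Q : Subgroup M).Normal := by
    intro q hq Q hQ
    have hn := hnormal K' hK'nil q hq (Q.subtype hQ)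
    haveI := Sylow.characteristic_of_normal (Q.subtype hQ) hn
    have h1 : (((Q.subtype hQ : Sylow q K') : Subgroup K').map K'.subtype).Normal := inferInstance
    rwa [Sylow.coe_subtype, Subgroup.subgroupOf_map_subtype, inf_eq_left.2 hQ] at h1
  obtain ⟨P0⟩ : Nonempty (Sylow p M) := inferInstance
  have hP0 : ¬ (P0 : Subgroup M).Normal := by
    intro hPn
    obtain ⟨q, hq, Q, hQ⟩ := hsyl M hMn
    by_cases hqp : q = p
    · subst hqp
      haveI := Sylow.unique_of_normal P0 hPn
      exact hQ (Subsingleton.elim P0 Q ▸ hPn)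
    · refine hQ (hKsyl q hq Q fun x hx => ?_)
      obtain ⟨e, he⟩ := Q.2 ⟨x, hx⟩
      have he' : ((x : M) : G) ^ q ^ e = 1 :=
        congrArg (fun y : (Q : Subgroup M) => ((y : M) : G)) he
      show ((x : M) : G) ∈ K
      rw [← QuotientGroup.eq_one_iff]
      refine orderOf_eq_one_iff.1 (Nat.eq_one_of_dvd_coprimes
        (Nat.Coprime.pow_left e ((Nat.coprime_primes hq.out hp).2 hqp))
        (orderOf_dvd_of_pow_eq_one ?_) (orderOf_dvd_of_pow_eq_one ?_))
      · rw [← QuotientGroup.mk_pow, he', QuotientGroup.mk_one]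
      · exact hexp _ x.2
  set P := (P0 : Subgroup M).map M.subtype with hPdef
  have hPM : P ≤ M := Subgroup.map_subtype_le _
  have hsub : P.subgroupOf M = (P0 : Subgroup M) := by
    rw [hPdef, Subgroup.subgroupOf, Subgroup.comap_map_eq_self_of_injective M.subtype_injective]
  have hsplit : ∀ a ∈ M, a ∉ K → ∃ m : ℕ, a ^ m ∉ K ∧ IsPGroup p (Subgroup.zpowers (a ^ m)) := by
    intro a ha haK
    set o := orderOf a with ho
    have ho0 : o ≠ 0 := (orderOf_pos a).ne'
    refine ⟨o / p ^ o.factorization p, fun hm => haK ?_, ?_⟩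
    · rw [← QuotientGroup.eq_one_iff]
      refine orderOf_eq_one_iff.1 (Nat.eq_one_of_dvd_coprimes (Nat.coprime_ordCompl hp ho0)
        (orderOf_dvd_of_pow_eq_one ?_) (orderOf_dvd_of_pow_eq_one ?_))
      · exact hexp _ ha
      · rw [← QuotientGroup.mk_pow, QuotientGroup.eq_one_iff]
        exact hm
    · refine IsPGroup.of_card (n := o.factorization p) ?_
      rw [Nat.card_zpowers, orderOf_pow_of_dvd
        (Nat.div_pos (Nat.ordProj_le p ho0) (pow_pos hp.pos _)).ne' (Nat.ordCompl_dvd o p), ← ho,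
        Nat.div_div_self (Nat.ordProj_dvd o p) ho0]
  have hconjP : ∀ a ∈ M, IsPGroup p (Subgroup.zpowers a) → ∃ c ∈ M, c * a * c⁻¹ ∈ P := by
    intro a ha hpa
    have hpa' : IsPGroup p (Subgroup.zpowers (⟨a, ha⟩ : M)) := by
      obtain ⟨e, he⟩ := IsPGroup.iff_card.1 hpa
      refine IsPGroup.of_card (n := e) ?_
      rw [Nat.card_zpowers, Subgroup.orderOf_mk, ← Nat.card_zpowers, he]
    obtain ⟨R, hR⟩ := hpa'.exists_le_sylow
    obtain ⟨c, hc⟩ := MulAction.exists_smul_eq M R P0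
    refine ⟨c, c.2, ?_⟩
    refine ⟨c * ⟨a, ha⟩ * c⁻¹, ?_, by simp⟩
    rw [SetLike.mem_coe, ← hc, Sylow.coe_subgroup_smul]
    exact Subgroup.smul_mem_pointwise_smul (⟨a, ha⟩ : M) (MulAut.conj c) (R : Subgroup M)
      (hR (Subgroup.mem_zpowers _))
  have hPnK : ¬ P ≤ K := by
    intro hle
    obtain ⟨a, haM, haK⟩ := Set.not_subset.1 hMnK
    obtain ⟨m, hm, hmp⟩ := hsplit a haM haK
    obtain ⟨c, -, hc⟩ := hconjP _ (M.pow_mem haM m) hmp
    have h1 := Subgroup.Normal.conj_mem (inferInstance : K.Normal) _ (hle hc) c⁻¹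
    exact hm (by simpa [mul_assoc] using h1)
  have hMKP : M ≤ K ⊔ P := by
    intro a ha
    have hJ' : (K' ⊔ (P0 : Subgroup M)).index = 1 := by
      refine Nat.eq_one_of_dvd_coprimes ?_ (Subgroup.index_dvd_of_le le_sup_left)
        (Subgroup.index_dvd_of_le le_sup_right)
      have h2 : IsPGroup p (M ⧸ K') := by
        intro q
        obtain ⟨m, rfl⟩ := QuotientGroup.mk'_surjective K' q
        refine ⟨1, ?_⟩
        rw [pow_one, ← map_pow]
        exact (QuotientGroup.eq_one_iff _).2 (hpow _ m.2)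
      obtain ⟨e, he⟩ := IsPGroup.iff_card.1 h2
      rw [show K'.index = p ^ e from he]
      exact Nat.Coprime.pow_left e (hp.coprime_iff_not_dvd.2 P0.not_dvd_index)
    have h3 : (⟨a, ha⟩ : M) ∈ K' ⊔ (P0 : Subgroup M) := by
      rw [Subgroup.index_eq_one.1 hJ']; exact Subgroup.mem_top _
    have h4 := Subgroup.mem_map_of_mem M.subtype h3
    rw [Subgroup.map_sup, hK', Subgroup.subgroupOf_map_subtype, inf_eq_left.2 hKM] at h4
    exact h4
  refine Cfsg.Lib.Broline.exists_larger χ K hK (p := p) M P hPM (P0.2.map _) ?_ ?_ ?_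
    (Or.inr ⟨hPnK, ?_⟩)
  · rw [Subgroup.relIndex, hsub]
    exact P0.not_dvd_index
  · rw [eq_top_iff, ← Sylow.normalizer_sup_eq_top P0, ← hPdef]
    exact sup_le le_sup_right (hMKP.trans (sup_le_sup_left Subgroup.le_normalizer K))
  · intro J hJn hJM hJH a ha
    by_contra haK
    obtain ⟨m, hm, hmp⟩ := hsplit a (hJM ha) haK
    obtain ⟨c, -, hc⟩ := hconjP _ (M.pow_mem (hJM ha) m) hmp
    have h1 := hJH ⟨hJn.conj_mem _ (J.pow_mem ha m) c, Subgroup.le_normalizer hc⟩
    have h2 := Subgroup.Normal.conj_mem (inferInstance : K.Normal) _ h1 c⁻¹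
    exact hm (by simpa [mul_assoc] using h2)
  -- two Sylow subgroups meeting in the core
  set D := Cfsg.pCore p M with hD
  haveI : D.Normal := Cfsg.Lib.Components.pCore_normal' p
  have hDK : D ≤ K' := by
    haveI : D.Characteristic := Cfsg.Lib.Components.pCore_characteristic
    haveI : (D.map M.subtype).Normal := inferInstance
    haveI : Group.IsNilpotent (D.map M.subtype) :=
      ((Cfsg.Lib.Components.isPGroup_pCore p).map M.subtype).isNilpotent
    have h1 : D.map M.subtype ≤ K := hKF ▸ Cfsg.Lib.Components.le_fitting inferInstance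
    exact fun d hd => h1 (Subgroup.mem_map_of_mem _ hd)
  obtain ⟨Q1⟩ : Nonempty (Sylow p K') := inferInstance
  have hQ1n : (Q1 : Subgroup K').Normal := hnormal K' hK'nil p inferInstance Q1
  have hQ1D : ∀ z : M, z ∈ K' → z ∈ (P0 : Subgroup M) → z ∈ D := by
    intro z hzK hzP
    haveI := Sylow.characteristic_of_normal Q1 hQ1n
    haveI : ((Q1 : Subgroup K').map K'.subtype).Normal := inferInstance
    refine Cfsg.Lib.Components.le_pCore (Q1.2.map K'.subtype) ⟨⟨z, hzK⟩, ?_, rfl⟩
    haveI := Sylow.unique_of_normal Q1 hQ1n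
    obtain ⟨R, hR⟩ := (P0.2.comap_subtype (K := K')).exists_le_sylow
    rw [Subsingleton.elim Q1 R]
    exact hR hzP
  have hQs := QuotientGroup.mk'_surjective D
  set S := P0.mapSurjective hQs with hS
  have hSc : IsMulCommutative (S : Subgroup (M ⧸ D)) := by
    refine ⟨⟨fun x y => Subtype.ext ?_⟩⟩
    obtain ⟨a, ha, hax⟩ := x.2
    obtain ⟨b, hb, hby⟩ := y.2
    show (x : M ⧸ D) * y = y * x
    rw [← hax, ← hby, ← mul_inv_eq_one, ← map_mul, ← map_mul, ← map_inv, ← map_mul,
      QuotientGroup.mk'_apply, QuotientGroup.eq_one_iff]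
    refine hQ1D _ ?_ ?_
    · show (((a * b) * (b * a)⁻¹ : M) : G) ∈ K
      rw [← QuotientGroup.eq_one_iff]
      have hc : π (a : G) * π (b : G) = π (b : G) * π (a : G) :=
        congrArg Subtype.val (mul_comm' (⟨π a, a.2⟩ : M0) ⟨π b, b.2⟩)
      show π (((a * b) * (b * a)⁻¹ : M) : G) = 1
      simp only [Subgroup.coe_mul, Subgroup.coe_inv, map_mul, map_inv, hc, mul_inv_cancel]
    · exact mul_mem (mul_mem ha hb) (inv_mem (mul_mem hb ha))
  have hcore : Cfsg.pCore p (M ⧸ D) = ⊥ := Cfsg.Lib.HallHigman.pCore_quotient_pCore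
  obtain ⟨x, hx⟩ := Cfsg.Agent.S0060.result p S hSc hcore
  obtain ⟨m, rfl⟩ := QuotientGroup.mk'_surjective D x
  refine ⟨(m : G), fun u hu hu' => ?_⟩
  obtain ⟨a, ha, rfl⟩ := hu
  obtain ⟨b, hb, hbe⟩ := hu'
  have hbe' : b = m⁻¹ * a * m := Subtype.ext (by simpa using hbe)
  subst hbe'
  have h1 : QuotientGroup.mk' D a ∈ (S : Subgroup (M ⧸ D)) ⊓
      MulAut.conj (QuotientGroup.mk' D m) • (S : Subgroup (M ⧸ D)) := by
    refine ⟨Subgroup.mem_map_of_mem _ ha, ?_⟩
    have h2 := Subgroup.smul_mem_pointwise_smul (QuotientGroup.mk' D (m⁻¹ * a * m))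
      (MulAut.conj (QuotientGroup.mk' D m)) (S : Subgroup (M ⧸ D)) (Subgroup.mem_map_of_mem _ hb)
    rw [MulAut.smul_def, MulAut.conj_apply, show QuotientGroup.mk' D m *
      QuotientGroup.mk' D (m⁻¹ * a * m) * (QuotientGroup.mk' D m)⁻¹ = QuotientGroup.mk' D a by
        rw [← map_inv, ← map_mul, ← map_mul]; congr 1; group] at h2
    exact h2
  rw [hx, Subgroup.mem_bot, QuotientGroup.mk'_apply, QuotientGroup.eq_one_iff] at h1
  have h3 : ((a : M) : G) ∈ K := hDK h1
  have h4 := Subgroup.Normal.conj_mem (inferInstance : K.Normal) _ h3 (m : G)⁻¹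
  simpa [mul_assoc] using h4

end Cfsg.Agent.S4461
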