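import Cfsg.Statements.S4462
import Cfsg.Agent.S4461
-- import your own Cfsg.Agent.* helpers here

set_option autoImplicit false
open Cfsg

namespace Cfsg.Agent.S4462

set_option linter.unusedSectionVars false

open Cfsg.Lib.Chars

universe u

open Cfsg.Lib.Components in
theorem chain_aux : ∀ (n : ℕ) (G : Type u) [Group G] [Finite G], Group.IsSolvable G →
    Nat.card {d : ℕ // ∃ χ : Cfsg.IrrCharacter G, Cfsg.charDegree (χ : G → ℂ) = d} ≤ n →
    ∃ f : ℕ → Subgroup G, f 0 = ⊥ ∧ (∀ i, (f i).Normal) ∧ Monotone f ∧ (∀ j, n ≤ j → f j = ⊤) ∧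
      ∀ i, ∀ _h : ((f i).subgroupOf (f (i + 1))).Normal,
        Group.IsNilpotent (↥(f (i + 1)) ⧸ (f i).subgroupOf (f (i + 1))) := by
  intro n
  induction n using Nat.strong_induction_on with
  | _ n ih =>
  intro G _ _ hsol hcard
  classical
  letI := Fintype.ofFinite G
  haveI := hsol
  set CD : Set ℕ := Set.range fun χ : Cfsg.IrrCharacter G => Cfsg.charDegree (χ : G → ℂ) with hCD
  have hCDc : CD.ncard ≤ n := by
    rw [← Nat.card_coe_set_eq]
    exact hcard
  have hCDf : CD.Finite := Set.finite_range _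
  have hpos : 0 < CD.ncard :=
    (Set.ncard_pos hCDf).2 ⟨_, principal G, rfl⟩
  set F := Cfsg.fittingSubgroup G with hFdef
  haveI hFnil : Group.IsNilpotent F := isNilpotent_fitting
  haveI hFn : F.Normal := fittingSubgroup_normal'
  by_cases hFtop : F = ⊤
  · refine ⟨fun i => if i = 0 then ⊥ else ⊤, rfl, fun i => by dsimp only; split_ifs <;> infer_instance,
      fun i j hij => ?_, fun j hj => if_neg (by omega), fun i _ => ?_⟩
    · dsimp only
      split_ifs <;> simp_all
    · haveI : Group.IsNilpotent G := by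
        have := Group.nilpotent_of_surjective F.subtype fun g => ⟨⟨g, hFtop ▸ Subgroup.mem_top g⟩, rfl⟩
        exact this
      exact Group.nilpotent_of_surjective _ (QuotientGroup.mk'_surjective _)
  set CD' : Set ℕ := Set.range fun ψ : Cfsg.IrrCharacter (G ⧸ F) =>
    Cfsg.charDegree (ψ : G ⧸ F → ℂ) with hCD'
  have hlift : ∀ ψ : Cfsg.IrrCharacter (G ⧸ F), ∃ χ : Cfsg.IrrCharacter G,
      (χ : G → ℂ) = fun g : G => (ψ : G ⧸ F → ℂ) (g : G ⧸ F) := fun ψ =>
    ⟨⟨_, IsIrrCharacter.comp_surjective ψ.2 (QuotientGroup.mk' F) (QuotientGroup.mk'_surjective F)⟩,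
      rfl⟩
  have hsubset : CD' ⊆ CD := by
    rintro _ ⟨ψ, rfl⟩
    obtain ⟨χ, hχ⟩ := hlift ψ
    refine ⟨χ, ?_⟩
    show deg (χ : G → ℂ) = deg (ψ : G ⧸ F → ℂ)
    rw [hχ]
    rfl
  obtain ⟨χm, -, hmax⟩ := Finset.exists_max_image (Finset.univ : Finset (Cfsg.IrrCharacter G))
    (fun χ => Cfsg.charDegree (χ : G → ℂ)) ⟨principal G, Finset.mem_univ _⟩
  have hnot : Cfsg.charDegree (χm : G → ℂ) ∉ CD' := by
    rintro ⟨ψ, hψ⟩
    obtain ⟨χ, hχ⟩ := hlift ψ
    have hχc := isCharacter_of_irr χ.2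
    haveI := kerSubgroup_normal hχc
    have hFK : F ≤ kerSubgroup (χ : G → ℂ) hχc := fun g hg => by
      rw [mem_kerSubgroup, hχ]
      show (ψ : G ⧸ F → ℂ) g = (ψ : G ⧸ F → ℂ) ((1 : G) : G ⧸ F)
      rw [(QuotientGroup.eq_one_iff g).2 hg, QuotientGroup.mk_one]
    obtain ⟨η, hη, -⟩ := Cfsg.Agent.S4461.result χ (kerSubgroup (χ : G → ℂ) hχc)
      (fun g => mem_kerSubgroup hχc g) (by
        by_cases hle : kerSubgroup (χ : G → ℂ) hχc ≤ F
        · have he : kerSubgroup (χ : G → ℂ) hχc = F := le_antisymm hle hFK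
          exact Or.inr ⟨he, inferInstance, he ▸ hFtop⟩
        · exact Or.inl hle)
    have h1 := hmax η (Finset.mem_univ _)
    have h2 : Cfsg.charDegree (χ : G → ℂ) = Cfsg.charDegree (ψ : G ⧸ F → ℂ) := by
      show deg (χ : G → ℂ) = deg (ψ : G ⧸ F → ℂ)
      rw [hχ]
      rfl
    simp only at hψ
    omega
  have hlt : CD'.ncard < CD.ncard :=
    Set.ncard_lt_ncard ⟨hsubset, fun hh => hnot (hh ⟨χm, rfl⟩)⟩ hCDf
  obtain ⟨g, hg0, hgn, hgm, hgtop, hgnil⟩ := ih (n - 1) (by omega) (G ⧸ F) inferInstance (by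
    have : Nat.card {d : ℕ // ∃ χ : Cfsg.IrrCharacter (G ⧸ F),
        Cfsg.charDegree (χ : G ⧸ F → ℂ) = d} = CD'.ncard := by
      rw [← Nat.card_coe_set_eq]
      rfl
    omega)
  set π := QuotientGroup.mk' F with hπ
  let f : ℕ → Subgroup G := fun i => match i with
    | 0 => ⊥
    | i + 1 => (g i).comap π
  refine ⟨f, rfl, fun i => ?_, fun i j hij => ?_, fun j hj => ?_, fun i => ?_⟩
  · rcases i with _ | i
    · exact (inferInstance : (⊥ : Subgroup G).Normal)
    · exact (hgn _).comap π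
  · rcases i with _ | i
    · exact bot_le
    · obtain ⟨j, rfl⟩ : ∃ j', j = j' + 1 := ⟨j - 1, by omega⟩
      exact Subgroup.comap_mono (hgm (by omega))
  · obtain ⟨j, rfl⟩ : ∃ j', j = j' + 1 := ⟨j - 1, by omega⟩
    show (g j).comap π = ⊤
    rw [hgtop j (by omega), Subgroup.comap_top]
  rcases i with _ | i
  · intro hnorm
    haveI := hnorm
    haveI : Group.IsNilpotent (f 1) := by
      show Group.IsNilpotent ((g 0).comap π)
      rw [hg0, MonoidHom.comap_bot, hπ, QuotientGroup.ker_mk']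
      exact hFnil
    exact Group.nilpotent_of_surjective _ (QuotientGroup.mk'_surjective _)
  · show ∀ _h : (((g i).comap π).subgroupOf ((g (i + 1)).comap π)).Normal,
      Group.IsNilpotent (↥((g (i + 1)).comap π) ⧸ ((g i).comap π).subgroupOf ((g (i + 1)).comap π))
    intro hnorm
    haveI := hnorm
    haveI : ((g i).subgroupOf (g (i + 1))).Normal := (hgn i).subgroupOf _
    haveI := hgnil i inferInstance
    let φ : ↥((g (i + 1)).comap π) →* ↥(g (i + 1)) ⧸ (g i).subgroupOf (g (i + 1)) :=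
      (QuotientGroup.mk' _).comp (π.subgroupComap (g (i + 1)))
    have hφ : Function.Surjective φ := (QuotientGroup.mk'_surjective _).comp
      (MonoidHom.subgroupComap_surjective_of_surjective _ _ (QuotientGroup.mk'_surjective F))
    have hker : φ.ker = ((g i).comap π).subgroupOf ((g (i + 1)).comap π) := by
      ext x
      rw [MonoidHom.mem_ker, MonoidHom.comp_apply, QuotientGroup.mk'_apply, QuotientGroup.eq_one_iff]
      rfl
    exact Group.nilpotent_of_surjective
      ((QuotientGroup.quotientMulEquivOfEq hker).symm.trans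
        (QuotientGroup.quotientKerEquivOfSurjective φ hφ)).symm.toMonoidHom
      (MulEquiv.surjective _)

/-- Let G be a finite solvable group with exactly n distinct irreducible character degrees. Then G has normal subgroups 1 = N₀ ≤ N₁ ≤ ⋯ ≤ Nₙ = G with every quotient N_{i+1}/N_i nilpotent (the nilpotent length of G is at most n). -/
theorem result {G : Type*} [Group G] [Finite G] (hsolv : Group.IsSolvable G) (n : ℕ) (hcd : Nat.card {d : ℕ // ∃ χ : Cfsg.IrrCharacter G, Cfsg.charDegree (χ : G → ℂ) = d} = n) : ∃ N : Fin (n + 1) → Subgroup G, N 0 = ⊥ ∧ N (Fin.last n) = ⊤ ∧ Monotone N ∧ (∀ i, (N i).Normal) ∧ ∀ i : Fin n, ∀ h : (N i.castSucc).subgroupOf (N i.succ) |>.Normal, Group.IsNilpotent (↥(N i.succ) ⧸ (N i.castSucc).subgroupOf (N i.succ)) := by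
  classical
  obtain ⟨f, h0, hn, hmono, htop, hnil⟩ := chain_aux n G hsolv (le_of_eq hcd)
  exact ⟨fun i => f i, h0, htop n le_rfl, fun i j hij => hmono (Fin.le_def.1 hij), fun i => hn i,
    fun i h => hnil (i : ℕ) h⟩

end Cfsg.Agent.S4462
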