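import Cfsg.Statements.S4470
import Cfsg.Agent.Jordan.Close
import Cfsg.Agent.Chars.ExtCriteria
-- import your own Cfsg.Agent.* helpers here

set_option autoImplicit false
open Cfsg

namespace Cfsg.Agent.S4470

set_option linter.unusedSectionVars false

open Cfsg.Lib.Chars Cfsg.Lib.Jordan

theorem eq_zero_of_trace {d : ℕ} (T : Module.End ℂ (Fin d → ℂ)) {a : ℂ} (ha : a ≠ 0)
    (hT : T * T = a • T) (htr : LinearMap.trace ℂ _ T = 0) : T = 0 := by
  set E : Module.End ℂ (Fin d → ℂ) := a⁻¹ • T with hE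
  have hEE : E * E = E := by
    rw [hE, smul_mul_smul_comm, hT, smul_smul, mul_assoc, inv_mul_cancel₀ ha, mul_one]
  have hproj : LinearMap.IsProj (LinearMap.range E) E := by
    refine ⟨fun y => LinearMap.mem_range_self E y, ?_⟩
    rintro _ ⟨y, rfl⟩
    exact LinearMap.congr_fun hEE y
  have h1 := hproj.trace
  rw [hE, map_smul, htr, smul_zero] at h1
  have h2 : Module.finrank ℂ (LinearMap.range E) = 0 := by exact_mod_cast h1.symm
  have h3 : E = 0 := LinearMap.range_eq_bot.1 (Submodule.finrank_eq_zero.1 h2)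
  rw [hE, smul_eq_zero] at h3
  exact h3.resolve_left (inv_ne_zero ha)

/-- Let the finite group G have a faithful character of degree n. Then G has an abelian normal subgroup A such that every abelian subgroup H of G satisfies [H : H ⊓ A] ≤ 12^n. -/
theorem result {G : Type*} [Group G] [Finite G] (χ : G → ℂ) (hχ : Cfsg.IsCharacter G χ) (hfaith : ∀ g : G, χ g = χ 1 → g = 1) (n : ℕ) (hn : Cfsg.charDegree χ = n) : ∃ A : Subgroup G, A.Normal ∧ (∀ x ∈ A, ∀ y ∈ A, x * y = y * x) ∧ ∀ H : Subgroup G, (∀ x ∈ H, ∀ y ∈ H, x * y = y * x) → (A.subgroupOf H).index ≤ 12 ^ n := by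
  classical
  letI := Fintype.ofFinite G
  obtain ⟨m, ρ, rfl⟩ := hχ
  have hmn : m = n := by rw [← hn]; exact ((deg_character ρ).trans (Module.finrank_fin_fun ℂ)).symm
  subst hmn
  have hinj : Function.Injective ρ := by
    rw [injective_iff_map_eq_one]
    intro g hg
    exact hfaith g (by simp [Representation.character, hg])
  set c : ℂ := ((Real.sqrt 3 / 2 : ℝ) : ℂ) with hc
  have hcn : (1 : ℝ) / 2 ≤ ‖c‖ := by
    rw [hc, Complex.norm_real, Real.norm_of_nonneg (by positivity)]
    have : 1 ≤ Real.sqrt 3 := Real.one_le_sqrt.2 (by norm_num)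
    linarith
  set S : Set G := {g | ∃ r : ℝ, 0 ≤ r ∧ r < 1 / 2 ∧ Bound ρ g c r} with hS
  have hcomm : ∀ a ∈ S, ∀ b ∈ S, a * b = b * a := by
    rintro a ⟨ra, h1, h2, ha⟩ b ⟨rb, h3, h4, hb⟩
    exact commute_of_close ρ hinj hcn h1 h2 h3 h4 ha hb
  refine ⟨Subgroup.closure S, ?_, ?_, fun H hH => ?_⟩
  · refine Subgroup.normalizer_eq_top_iff.1 (eq_top_iff.2 fun a _ => ?_)
    have hconj : ∀ a g : G, g ∈ S → a * g * a⁻¹ ∈ S := by
      rintro a g ⟨r, h1, h2, hg⟩
      exact ⟨r, h1, h2, bound_conj ρ hg a⟩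
    have hcl : ∀ a g : G, g ∈ Subgroup.closure S → a * g * a⁻¹ ∈ Subgroup.closure S := by
      intro a g hg
      induction hg using Subgroup.closure_induction with
      | mem x hx => exact Subgroup.subset_closure (hconj a x hx)
      | one => simp
      | mul x y _ _ hx hy =>
        rw [show a * (x * y) * a⁻¹ = (a * x * a⁻¹) * (a * y * a⁻¹) by group]
        exact mul_mem hx hy
      | inv x _ hx =>
        rw [show a * x⁻¹ * a⁻¹ = (a * x * a⁻¹)⁻¹ by group]
        exact inv_mem hx
    rw [Subgroup.mem_normalizer_iff]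
    intro g
    refine ⟨hcl a g, fun hg => ?_⟩
    have := hcl a⁻¹ _ hg
    rwa [show a⁻¹ * (a * g * a⁻¹) * a⁻¹⁻¹ = g by group] at this
  · intro x hx y hy
    induction hx, hy using Subgroup.closure_induction₂ with
    | mem a b ha hb => exact hcomm a ha b hb
    | one_left b _ => simp
    | one_right a _ => simp
    | mul_left a a' b _ _ _ h h' => exact (Commute.mul_left h h').eq
    | mul_right a b b' _ _ _ h h' => exact (Commute.mul_right h h').eq
    | inv_left a b _ _ h => exact (Commute.inv_left h).eq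
    | inv_right a b _ _ h => exact (Commute.inv_right h).eq
  -- boxes of eigenvalues on an abelian subgroup
  letI := Fintype.ofFinite H
  obtain ⟨a, ha⟩ := IsCharacter.exists_decomp
    (IsCharacter.restrict (⟨m, ρ, rfl⟩ : Cfsg.IsCharacter G ρ.character) H)
  have hlin : ∀ ψ : Cfsg.IrrCharacter H, ∃ f : H →* ℂˣ, (ψ : H → ℂ) = fun x => (f x : ℂ) :=
    fun ψ => exists_hom_of_deg_one (isCharacter_of_irr ψ.2)
      (irr_deg_one_of_comm (fun a b => Subtype.ext (hH a a.2 b b.2)) ψ.2)
  choose f hf using hlin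
  let ι := Σ ψ : Cfsg.IrrCharacter H, Fin (a ψ)
  let lam : ι → H →* ℂˣ := fun i => f i.1
  have hchi : ∀ h : H, ρ.character (h : G) = ∑ i : ι, ((lam i h : ℂˣ) : ℂ) := by
    intro h
    refine (congrFun ha h).trans ?_
    rw [Fintype.sum_sigma, Finset.sum_apply]
    refine Finset.sum_congr rfl fun ψ _ => ?_
    simp only [lam, Pi.smul_apply, Finset.sum_const, Finset.card_univ, Fintype.card_fin, hf ψ]
  have hcardι : Fintype.card ι = m := by
    have h1 := hchi 1
    simp only [map_one, Units.val_one, Finset.sum_const, Finset.card_univ, OneMemClass.coe_one,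
      ρ.char_one, Module.finrank_fin_fun, nsmul_eq_mul, mul_one] at h1
    exact_mod_cast h1.symm
  -- eigenvalues of `h` are among the values
  have heig : ∀ (h : H) (t : ℂ), t ^ orderOf (h : G) = 1 →
      (∃ v, proj ρ (h : G) (orderOf (h : G)) t v ≠ 0) → ∃ i : ι, ((lam i h : ℂˣ) : ℂ) = t := by
    intro h t ht ⟨v, hv⟩
    by_contra hne
    rw [not_exists] at hne
    set k := orderOf (h : G) with hk
    have hk0 : k ≠ 0 := (orderOf_pos _).ne'
    set T := proj ρ (h : G) k t with hT
    have ht0 : t ≠ 0 := by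
      intro h0; rw [h0, zero_pow hk0] at ht; exact zero_ne_one ht
    have hTT : T * T = (1 : ℂ) • T := by
      refine LinearMap.ext fun w => ?_
      have hpw : ∀ i : ℕ, ρ ((h : G) ^ i) (T w) = t ^ i • T w := fun i => by
        induction i with
        | zero => simp
        | succ i ih =>
          rw [pow_succ', map_mul, Module.End.mul_apply, ih, map_smul, hT,
            rep_proj ρ (pow_orderOf_eq_one _) ht, smul_smul, ← pow_succ]
      show T (T w) = (1 : ℂ) • T w
      have e1 : T (T w) = (k : ℂ)⁻¹ • ∑ i ∈ Finset.range k, (t⁻¹) ^ i • ρ ((h : G) ^ i) (T w) := by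
        simp only [hT, proj, LinearMap.smul_apply, LinearMap.sum_apply]
      rw [e1, Finset.sum_congr rfl (g := fun _ => T w) (fun i _ => by
          rw [hpw, smul_smul, ← mul_pow, inv_mul_cancel₀ ht0, one_pow, one_smul]),
        Finset.sum_const, Finset.card_range, ← Nat.cast_smul_eq_nsmul ℂ, smul_smul,
        inv_mul_cancel₀ (Nat.cast_ne_zero.2 hk0)]
    have htr : LinearMap.trace ℂ _ T = 0 := by
      simp only [hT, proj, map_smul, map_sum, smul_eq_mul]
      refine mul_eq_zero.2 (Or.inr ?_)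
      have e2 : ∀ i : ℕ, LinearMap.trace ℂ _ (ρ ((h : G) ^ i)) =
          ∑ j : ι, ((lam j h : ℂˣ) : ℂ) ^ i := fun i => by
        rw [show LinearMap.trace ℂ _ (ρ ((h : G) ^ i)) = ρ.character (((h ^ i : H)) : G) from rfl,
          hchi]
        simp only [map_pow, Units.val_pow_eq_pow_val]
      simp only [e2, Finset.mul_sum, ← mul_pow]
      rw [Finset.sum_comm]
      refine Finset.sum_eq_zero fun j _ => ?_
      have hz : (t⁻¹ * ((lam j h : ℂˣ) : ℂ)) ^ k = 1 := by
        rw [mul_pow, inv_pow, ht, inv_one, one_mul, ← Units.val_pow_eq_pow_val, ← map_pow,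
          show h ^ k = 1 from Subtype.ext (pow_orderOf_eq_one (h : G)), map_one, Units.val_one]
      rw [geom_sum_eq (fun he => hne j (by rw [← mul_inv_cancel_left₀ ht0 ((lam j h : ℂˣ) : ℂ), he, mul_one])),
        hz, sub_self, zero_div]
    exact hv (by rw [eq_zero_of_trace T one_ne_zero hTT htr]; rfl)
  -- the boxes
  have hnorm1 : ∀ (i : ι) (h : H), ‖((lam i h : ℂˣ) : ℂ)‖ = 1 := fun i h =>
    Complex.norm_eq_one_of_pow_eq_one (n := orderOf h) (by
      rw [← Units.val_pow_eq_pow_val, ← map_pow, pow_orderOf_eq_one, map_one, Units.val_one])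
      (orderOf_pos h).ne'
  let ang : ι → H → ℝ := fun i h => (Complex.arg ((lam i h : ℂˣ) : ℂ) + Real.pi) / (Real.pi / 6)
  let box : H → ι → Fin 12 := fun h i => ⟨(⌈ang i h⌉ - 1).toNat, by
    have h1 : ang i h ≤ 12 := by
      simp only [ang]
      rw [div_le_iff₀ (by positivity)]
      linarith [Complex.arg_le_pi ((lam i h : ℂˣ) : ℂ)]
    have h2 : ⌈ang i h⌉ ≤ 12 := Int.ceil_le.2 (by exact_mod_cast h1)
    omega⟩
  have hclose : ∀ x y : H, box x = box y → ((x⁻¹ * y : H) : G) ∈ S := by
    intro x y hxy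
    have hval : ∀ i : ι, ‖((lam i (x⁻¹ * y) : ℂˣ) : ℂ) - c‖ < 1 / 2 := by
      intro i
      have h1 : (⌈ang i x⌉ - 1).toNat = (⌈ang i y⌉ - 1).toNat :=
        congrArg Fin.val (congrFun hxy i)
      have hpos : ∀ z : H, 0 < ⌈ang i z⌉ := fun z => by
        rw [Int.ceil_pos]
        simp only [ang]
        exact div_pos (by linarith [Complex.neg_pi_lt_arg ((lam i z : ℂˣ) : ℂ)]) (by positivity)
      have h2 : ⌈ang i x⌉ = ⌈ang i y⌉ := by have := hpos x; have := hpos y; omega
      set α := Complex.arg ((lam i x : ℂˣ) : ℂ) with hα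
      set β := Complex.arg ((lam i y : ℂˣ) : ℂ) with hβ
      have h3 : |ang i y - ang i x| < 1 := by
        have a1 := Int.ceil_lt_add_one (ang i x)
        have a2 := Int.le_ceil (ang i x)
        have a3 := Int.ceil_lt_add_one (ang i y)
        have a4 := Int.le_ceil (ang i y)
        rw [← h2] at a3 a4
        rw [abs_lt]
        constructor <;> linarith
      have h4 : |β - α| < Real.pi / 6 := by
        have e : β - α = (ang i y - ang i x) * (Real.pi / 6) := by
          simp only [ang, hα, hβ]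
          field_simp
          ring
        rw [e, abs_mul, abs_of_pos (show 0 < Real.pi / 6 by positivity)]
        calc |ang i y - ang i x| * (Real.pi / 6) < 1 * (Real.pi / 6) :=
              mul_lt_mul_of_pos_right h3 (by positivity)
          _ = _ := one_mul _
      have hev : ∀ z : H, ((lam i z : ℂˣ) : ℂ) =
          Complex.exp (((Complex.arg ((lam i z : ℂˣ) : ℂ) : ℝ) : ℂ) * Complex.I) := fun z => by
        have := Complex.norm_mul_exp_arg_mul_I ((lam i z : ℂˣ) : ℂ)
        rw [hnorm1, Complex.ofReal_one, one_mul] at this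
        exact this.symm
      have h5 : ((lam i (x⁻¹ * y) : ℂˣ) : ℂ) = Complex.exp (((β - α : ℝ) : ℂ) * Complex.I) := by
        rw [map_mul, map_inv, Units.val_mul, Units.val_inv_eq_inv_val, hev x, hev y, ← Complex.exp_neg,
          ← Complex.exp_add, hα, hβ]
        congr 1
        push_cast
        ring
      have h6 : Real.cos (Real.pi / 6) < Real.cos (β - α) := by
        rw [← Real.cos_abs (β - α)]
        exact Real.cos_lt_cos_of_nonneg_of_le_pi (abs_nonneg _) (by linarith [Real.pi_pos]) h4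
      rw [Real.cos_pi_div_six] at h6
      have h7 : ‖((lam i (x⁻¹ * y) : ℂˣ) : ℂ) - c‖ ^ 2 < (1 / 2) ^ 2 := by
        rw [← Complex.normSq_eq_norm_sq, h5, hc, Complex.normSq_apply]
        simp only [Complex.sub_re, Complex.sub_im, Complex.ofReal_re, Complex.ofReal_im, sub_zero,
          Complex.exp_ofReal_mul_I_re, Complex.exp_ofReal_mul_I_im]
        have s3 := Real.sq_sqrt (show (0 : ℝ) ≤ 3 by norm_num)
        have sp := Real.cos_sq_add_sin_sq (β - α)
        have spos : 0 < Real.sqrt 3 := by positivity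
        nlinarith [mul_lt_mul_of_pos_left h6 spos]
      exact lt_of_pow_lt_pow_left₀ 2 (by norm_num) h7
    obtain ⟨r, hr0, hr1, hr⟩ : ∃ r : ℝ, 0 ≤ r ∧ r < 1 / 2 ∧
        ∀ i : ι, ‖((lam i (x⁻¹ * y) : ℂˣ) : ℂ) - c‖ ≤ r := by
      by_cases hne : (Finset.univ : Finset ι).Nonempty
      · obtain ⟨i, -, hi⟩ := Finset.exists_max_image Finset.univ
          (fun i : ι => ‖((lam i (x⁻¹ * y) : ℂˣ) : ℂ) - c‖) hne
        exact ⟨_, norm_nonneg _, hval i, fun j => hi j (Finset.mem_univ j)⟩
      · exact ⟨0, le_rfl, by norm_num, fun i => absurd ⟨i, Finset.mem_univ i⟩ hne⟩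
    refine ⟨r, hr0, hr1, ?_⟩
    set u := ((x⁻¹ * y : H) : G) with hu
    have hk0 : orderOf u ≠ 0 := (orderOf_pos u).ne'
    have hζ := Complex.isPrimitiveRoot_exp (orderOf u) hk0
    refine bound_of_eigen ρ hk0 (pow_orderOf_eq_one u) hζ hr0 fun j _ hex => ?_
    obtain ⟨i, hi⟩ := heig (x⁻¹ * y) _ ((pow_right_comm _ _ _).trans (by
      rw [← hu, hζ.pow_eq_one, one_pow])) hex
    rw [← hi]
    exact hr i
  set B := (Subgroup.closure S).subgroupOf H with hB
  calc B.index = Nat.card (H ⧸ B) := rfl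
    _ ≤ Nat.card (ι → Fin 12) := Nat.card_le_card_of_injective (fun q => box q.out) fun q q' hq => by
        rw [← QuotientGroup.out_eq' q, ← QuotientGroup.out_eq' q', QuotientGroup.eq]
        exact Subgroup.mem_subgroupOf.2 (Subgroup.subset_closure (hclose _ _ hq))
    _ = 12 ^ m := by rw [Nat.card_eq_fintype_card, Fintype.card_fun, Fintype.card_fin, hcardι]

end Cfsg.Agent.S4470
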