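import Cfsg.Statements.S4469
import Cfsg.Agent.Jordan.Blichfeldt
import Cfsg.Agent.S4470
import Cfsg.Agent.S4465
-- import your own Cfsg.Agent.* helpers here

set_option autoImplicit false
open Cfsg

namespace Cfsg.Agent.S4469

set_option linter.unusedSectionVars false

/-- The classical bound for finite linear groups, in explicit form. Let the finite group G have a faithful character of degree n. Then G has an abelian normal subgroup whose index is at most n! · 12^(n·(π(n+1)+1)), π(k) denoting the number of primes not exceeding k. -/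
theorem result {G : Type*} [Group G] [Finite G] (χ : G → ℂ) (hχ : Cfsg.IsCharacter G χ) (hfaith : ∀ g : G, χ g = χ 1 → g = 1) (n : ℕ) (hn : Cfsg.charDegree χ = n) : ∃ A : Subgroup G, A.Normal ∧ (∀ x ∈ A, ∀ y ∈ A, x * y = y * x) ∧ A.index ≤ Nat.factorial n * 12 ^ (n * (Nat.primeCounting (n + 1) + 1)) := by
  classical
  letI := Fintype.ofFinite G
  obtain ⟨A, hAn, hAab, hA⟩ := Cfsg.Agent.S4470.result χ hχ hfaith n hn
  refine ⟨A, hAn, hAab, ?_⟩
  have hd : Cfsg.Lib.Chars.deg χ = n := hn
  have hm0 : A.index ≠ 0 := Subgroup.index_ne_zero_of_finite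
  have hdvd : ∀ H : Subgroup G, A.index ∣ A.relIndex H * H.index := fun H => by
    have h1 : (A ⊓ H).relIndex H * H.index = (A ⊓ H).index :=
      Subgroup.relIndex_mul_index inf_le_right
    rw [Subgroup.inf_relIndex_right] at h1
    exact h1 ▸ Subgroup.index_dvd_of_le inf_le_left
  -- the large primes
  obtain ⟨H, hHab, -, hHi⟩ := Cfsg.Agent.S4465.result χ hχ hfaith n hn
  have hrel : ∀ K : Subgroup G, A.relIndex K ≠ 0 := fun K => Subgroup.index_ne_zero_of_finite (H := A.subgroupOf K)
  set small := A.index.primeFactors.filter (fun p => p ≤ n + 1) with hsmall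
  set large := A.index.primeFactors.filter (fun p => ¬ p ≤ n + 1) with hlarge
  have hprod : A.index = (∏ p ∈ small, p ^ A.index.factorization p) *
      ∏ p ∈ large, p ^ A.index.factorization p := by
    rw [hsmall, hlarge, Finset.prod_filter_mul_prod_filter_not]
    exact (Nat.prod_factorization_pow_eq_self hm0).symm
  have hsub : ∀ (r : ℕ) (T : Finset ℕ), r ≠ 0 →
      ∏ p ∈ T, p ^ r.factorization p ≤ r := by
    intro r T hr
    calc ∏ p ∈ T, p ^ r.factorization p ≤ ∏ p ∈ T ∪ r.primeFactors, p ^ r.factorization p :=
          Finset.prod_le_prod_of_subset_of_one_le' Finset.subset_union_left fun p _ _ => by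
            rcases Nat.eq_zero_or_pos (r.factorization p) with h | h
            · simp [h]
            · exact Nat.one_le_pow _ _ (Nat.prime_of_mem_primeFactors
                (Nat.support_factorization r ▸ Finsupp.mem_support_iff.2 h.ne')).pos
      _ = r := by
          conv_rhs => rw [← Nat.prod_factorization_pow_eq_self hr]
          exact (Finsupp.prod_of_support_subset _
            (by rw [Nat.support_factorization]; exact Finset.subset_union_right) _
            (fun p _ => pow_zero p)).symm
  have hlargeBound : ∏ p ∈ large, p ^ A.index.factorization p ≤ 12 ^ n := by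
    refine le_trans (le_trans (Finset.prod_le_prod' fun p hp => ?_) (hsub _ large (hrel H)))
      (hA H hHab)
    obtain ⟨hp1, hp2⟩ := Finset.mem_filter.1 hp
    have hpp := Nat.prime_of_mem_primeFactors hp1
    have h1 := (Nat.factorization_le_iff_dvd hm0 (mul_ne_zero (hrel H)
      Subgroup.index_ne_zero_of_finite)).2 (hdvd H) p
    rw [Nat.factorization_mul (hrel H) Subgroup.index_ne_zero_of_finite, Finsupp.add_apply,
      Nat.factorization_eq_zero_of_not_dvd (fun h => hp2 (hHi p hpp h)), add_zero] at h1
    exact Nat.pow_le_pow_right hpp.pos h1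
  -- the small primes
  have hsmallBound : ∀ p ∈ small, p ^ A.index.factorization p ≤
      p ^ (Nat.factorial n).factorization p * 12 ^ n := by
    intro p hp
    have hpp := Nat.prime_of_mem_primeFactors (Finset.mem_of_mem_filter p hp)
    haveI := Fact.mk hpp
    obtain ⟨P⟩ : Nonempty (Sylow p G) := inferInstance
    obtain ⟨K, hKab, hKdvd⟩ := Cfsg.Lib.Jordan.exists_abelian_index_dvd_factorial P.2
      (Cfsg.Lib.Chars.IsCharacter.restrict hχ (P : Subgroup G))
      (fun g hg => Subtype.ext (hfaith g (by simpa using hg)))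
    have hdeg : Cfsg.Lib.Chars.deg (fun x : (P : Subgroup G) => χ x) = n := by
      rw [← hd]; simp [Cfsg.Lib.Chars.deg]
    rw [hdeg] at hKdvd
    set K' := K.map (P : Subgroup G).subtype with hK'
    have hK'ab : ∀ x ∈ K', ∀ y ∈ K', x * y = y * x := by
      rintro _ ⟨a, ha, rfl⟩ _ ⟨b, hb, rfl⟩
      exact congrArg Subtype.val (hKab a ha b hb)
    have hr0 : A.relIndex K' ≠ 0 := hrel K'
    have hK0 : K.index ≠ 0 := Subgroup.index_ne_zero_of_finite
    have hP0 : (P : Subgroup G).index ≠ 0 := Subgroup.index_ne_zero_of_finite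
    have h1 := hdvd K'
    rw [hK', Subgroup.index_map_subtype, ← hK'] at h1
    have h2 := (Nat.factorization_le_iff_dvd hm0 (mul_ne_zero hr0 (mul_ne_zero hK0 hP0))).2 h1 p
    rw [Nat.factorization_mul hr0 (mul_ne_zero hK0 hP0), Finsupp.add_apply,
      Nat.factorization_mul hK0 hP0, Finsupp.add_apply,
      Nat.factorization_eq_zero_of_not_dvd P.not_dvd_index, add_zero] at h2
    have h3 := (Nat.factorization_le_iff_dvd hK0 (Nat.factorial_ne_zero n)).2 hKdvd p
    calc p ^ A.index.factorization p
        ≤ p ^ ((Nat.factorial n).factorization p + (A.relIndex K').factorization p) :=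
          Nat.pow_le_pow_right hpp.pos (by omega)
      _ = p ^ (Nat.factorial n).factorization p * p ^ (A.relIndex K').factorization p := pow_add _ _ _
      _ ≤ _ := Nat.mul_le_mul_left _ ((Nat.ordProj_le p hr0).trans (hA K' hK'ab))
  have hcard : small.card ≤ Nat.primeCounting (n + 1) := by
    rw [Nat.primeCounting, Nat.primeCounting', Nat.count_eq_card_filter_range]
    refine Finset.card_le_card fun p hp => ?_
    obtain ⟨h1, h2⟩ := Finset.mem_filter.1 hp
    exact Finset.mem_filter.2 ⟨Finset.mem_range.2 (by omega), Nat.prime_of_mem_primeFactors h1⟩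
  calc A.index = _ := hprod
    _ ≤ (∏ p ∈ small, p ^ (Nat.factorial n).factorization p * 12 ^ n) * 12 ^ n :=
        Nat.mul_le_mul (Finset.prod_le_prod' hsmallBound) hlargeBound
    _ ≤ Nat.factorial n * (12 ^ n) ^ Nat.primeCounting (n + 1) * 12 ^ n := by
        rw [Finset.prod_mul_distrib, Finset.prod_const]
        exact Nat.mul_le_mul_right _ (Nat.mul_le_mul (hsub _ small (Nat.factorial_ne_zero n))
          (Nat.pow_le_pow_right (by positivity) hcard))
    _ = _ := by rw [mul_assoc, ← pow_succ, ← pow_mul]

end Cfsg.Agent.S4469
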