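import Cfsg.Statements.S4471
import Cfsg.Agent.Jordan.BelowTwoP
-- import your own Cfsg.Agent.* helpers here

set_option autoImplicit false
open Cfsg

namespace Cfsg.Agent.S4471

/-- Let p ≥ 7 be a prime and let the finite group G have a faithful irreducible character of degree n with n < 2p and n ≠ p. If the Sylow p-subgroups of G are non-abelian then p² does not divide the index of O_p(G) in G; consequently, in every case G/O_p(G) has abelian Sylow p-subgroups. -/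
theorem result {G : Type*} [Group G] [Finite G] (χ : Cfsg.IrrCharacter G) (hfaith : ∀ g : G, (χ : G → ℂ) g = (χ : G → ℂ) 1 → g = 1) (n : ℕ) (hn : Cfsg.charDegree (χ : G → ℂ) = n) (p : ℕ) (hp : p.Prime) (h7 : 7 ≤ p) (hn2 : n < 2 * p) (hnp : n ≠ p) : ((∃ P : Sylow p G, ∃ x ∈ (P : Subgroup G), ∃ y ∈ (P : Subgroup G), x * y ≠ y * x) → ¬ p ^ 2 ∣ (Cfsg.pCore p G).index) ∧ ∀ Q : Sylow p (G ⧸ Cfsg.pCore p G), ∀ x ∈ (Q : Subgroup (G ⧸ Cfsg.pCore p G)), ∀ y ∈ (Q : Subgroup (G ⧸ Cfsg.pCore p G)), x * y = y * x := by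
  haveI := Fact.mk hp
  classical
  letI := Fintype.ofFinite G
  have hsq : ∀ P : Sylow p G, (∃ x ∈ (P : Subgroup G), ∃ y ∈ (P : Subgroup G), x * y ≠ y * x) →
      ¬ p ^ 2 ∣ (Cfsg.pCore p G).index := fun P hP => by
    obtain ⟨x, hx, y, hy, hxy⟩ := hP
    exact Cfsg.Lib.Jordan.BelowTwoP.not_sq_dvd_index h7 χ.2 hfaith hn hn2 hnp P
      ⟨⟨x, hx⟩, ⟨y, hy⟩, fun e => hxy (congrArg Subtype.val e)⟩
  refine ⟨fun ⟨P, hP⟩ => hsq P hP, fun Q x hx y hy => ?_⟩
  haveI : (Cfsg.pCore p G).Normal := (Cfsg.Lib.Components.pCore_normal_and_isPGroup p).1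
  set π := QuotientGroup.mk' (Cfsg.pCore p G) with hπ
  obtain ⟨P⟩ : Nonempty (Sylow p G) := inferInstance
  by_cases hP : ∃ x ∈ (P : Subgroup G), ∃ y ∈ (P : Subgroup G), x * y ≠ y * x
  · have hd := hsq P hP
    rw [Subgroup.index_eq_card] at hd
    obtain ⟨k, hk⟩ := IsPGroup.iff_card.1 Q.2
    have hk1 : k ≤ 1 := by
      by_contra hk2
      exact hd ((pow_dvd_pow p (show 2 ≤ k by omega)).trans (hk ▸ Subgroup.card_subgroup_dvd_card _))
    haveI : IsCyclic (Q : Subgroup (G ⧸ Cfsg.pCore p G)) := by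
      rcases (show k = 0 ∨ k = 1 by omega) with rfl | rfl
      · haveI : Subsingleton (Q : Subgroup (G ⧸ Cfsg.pCore p G)) :=
          (Nat.card_eq_one_iff_unique.1 (by simpa using hk)).1
        exact isCyclic_of_subsingleton
      · exact isCyclic_of_prime_card (by simpa using hk)
    have hc := (IsCyclic.commGroup (α := (Q : Subgroup (G ⧸ Cfsg.pCore p G)))).mul_comm ⟨x, hx⟩ ⟨y, hy⟩
    exact congrArg Subtype.val hc
  · obtain ⟨g, hg⟩ := MulAction.exists_smul_eq (G ⧸ Cfsg.pCore p G) (P.mapSurjective (QuotientGroup.mk'_surjective _)) Q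
    have hcom : ∀ u ∈ ((P : Subgroup G).map π), ∀ v ∈ ((P : Subgroup G).map π), u * v = v * u := by
      rintro _ ⟨a, ha, rfl⟩ _ ⟨b, hb, rfl⟩
      rw [← map_mul, ← map_mul]
      by_contra h
      exact hP ⟨a, ha, b, hb, fun e => h (congrArg π e)⟩
    rw [← hg, Sylow.coe_subgroup_smul, Sylow.coe_mapSurjective] at hx hy
    obtain ⟨a, ha, rfl⟩ := (Subgroup.mem_smul_pointwise_iff_exists _ _ _).1 hx
    obtain ⟨b, hb, rfl⟩ := (Subgroup.mem_smul_pointwise_iff_exists _ _ _).1 hy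
    simp only [MulAut.smul_def, ← map_mul, hcom a ha b hb]

end Cfsg.Agent.S4471
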