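import Cfsg.Statements.S4473
import Cfsg.Agent.Blocks.DegreeTwo
-- import your own Cfsg.Agent.* helpers here

set_option autoImplicit false
open Cfsg

namespace Cfsg.Agent.S4473

/-- Let the finite group G have a faithful irreducible character χ of degree 2 that is primitive: χ is not induced from a character of any proper subgroup. Then the centre of G has index 12, 24 or 60. -/
theorem result {G : Type*} [Group G] [Fintype G] (χ : Cfsg.IrrCharacter G) (hfaith : ∀ g : G, (χ : G → ℂ) g = (χ : G → ℂ) 1 → g = 1) (h2 : Cfsg.charDegree (χ : G → ℂ) = 2) (hprim : ∀ H : Subgroup G, H ≠ ⊤ → ∀ θ : H → ℂ, Cfsg.IsCharacter H θ → (χ : G → ℂ) ≠ Cfsg.indFun H θ) : (Subgroup.center G).index = 12 ∨ (Subgroup.center G).index = 24 ∨ (Subgroup.center G).index = 60 := by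
  classical
  obtain ⟨χf, n, ρ, hirr, rfl⟩ := χ
  have hn : n = 2 := by
    have h1 : Cfsg.charDegree ρ.character = n := by
      show ⌊(ρ.character 1).re⌋₊ = n
      rw [Representation.char_one, Module.finrank_fintype_fun_eq_card, Fintype.card_fin, Complex.natCast_re,
        Nat.floor_natCast]
    exact h1.symm.trans h2
  subst hn
  refine Cfsg.Lib.DegreeTwo.center_index ρ hirr (fun a b hab => ?_) fun H hH θ hθ => hprim H hH θ hθ
  have h : ρ (a * b⁻¹) = 1 := by
    rw [map_mul, hab, ← map_mul, mul_inv_cancel, map_one]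
  refine mul_inv_eq_one.1 (hfaith _ ?_)
  show ρ.character (a * b⁻¹) = ρ.character 1
  unfold Representation.character
  rw [h, map_one ρ]

end Cfsg.Agent.S4473
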