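import Cfsg.Statements.S4474
import Cfsg.Agent.Blocks.RealForm
import Mathlib
-- import your own Cfsg.Agent.* helpers here

set_option autoImplicit false
open Cfsg

namespace Cfsg.Agent.S4474

set_option linter.unusedSectionVars false

open Cfsg.Lib.Chars Cfsg.Lib.Blocks
open scoped Matrix

/-- Let χ be an irreducible character of the finite group G. Then the Frobenius–Schur indicator of χ (the average over s ∈ G of χ(s²)) equals 1 if and only if χ is afforded by a real representation: there is a representation of G on a real coordinate space whose trace function, viewed in ℂ, is χ. -/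
theorem result {G : Type*} [Group G] [Fintype G] (χ : Cfsg.IrrCharacter G) : ((Nat.card G : ℂ)⁻¹ * ∑ s : G, (χ : G → ℂ) (s * s)) = 1 ↔ ∃ (n : ℕ) (ρ : Representation ℝ G (Fin n → ℝ)), ∀ g : G, ((LinearMap.trace ℝ (Fin n → ℝ) (ρ g) : ℝ) : ℂ) = (χ : G → ℂ) g := by
  obtain ⟨d, ρ, hρ, hρχ⟩ := χ.2
  haveI := hρ
  rw [← hρχ]
  constructor
  · intro h
    obtain ⟨R, hR⟩ := exists_real_matrices ρ h
    refine ⟨d, (Matrix.toLinAlgEquiv' (R := ℝ) (n := Fin d)).toAlgHom.toMonoidHom.comp R, fun g => ?_⟩
    rw [← hR g]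
    exact congrArg Complex.ofReal (Matrix.trace_toLin'_eq (R g))
  · rintro ⟨m, σ, hσ⟩
    refine indicator_eq_one_of_real (isIrrCharacter_character ρ)
      ((LinearMap.toMatrixAlgEquiv' (R := ℝ) (n := Fin m)).toAlgHom.toMonoidHom.comp σ) fun g => ?_
    rw [← hσ g, LinearMap.trace_eq_matrix_trace ℝ (Pi.basisFun ℝ (Fin m))]
    rfl

end Cfsg.Agent.S4474
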