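import Cfsg.Statements.S4475
import Cfsg.Agent.Blocks.RealForm
import Mathlib
-- import your own Cfsg.Agent.* helpers here

set_option autoImplicit false
open Cfsg

namespace Cfsg.Agent.S4475

set_option linter.unusedSectionVars false

open Cfsg.Lib.Chars Cfsg.Lib.Blocks
open scoped Matrix

/-- Let ρ be an irreducible representation of the finite group G on the coordinate space Fin n → ℂ whose character χ is real-valued, and let ν be the Frobenius–Schur indicator of χ (the average of χ(s²)). Writing X(g) for the matrix of ρ(g), there is a nonzero matrix M with X(g)ᵀ M X(g) = M for all g ∈ G; and every such M (zero or not) satisfies Mᵀ = ν·M. -/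
theorem result {G : Type*} [Group G] [Fintype G] (n : ℕ) (ρ : Representation ℂ G (Fin n → ℂ)) (hirr : ρ.IsIrreducible) (hreal : ∀ g : G, (ρ.character g).im = 0) : (∃ M : Matrix (Fin n) (Fin n) ℂ, M ≠ 0 ∧ ∀ g : G, (LinearMap.toMatrix' (ρ g)).transpose * M * LinearMap.toMatrix' (ρ g) = M) ∧ ∀ M : Matrix (Fin n) (Fin n) ℂ, (∀ g : G, (LinearMap.toMatrix' (ρ g)).transpose * M * LinearMap.toMatrix' (ρ g) = M) → M.transpose = ((Nat.card G : ℂ)⁻¹ * ∑ s : G, ρ.character (s * s)) • M := by
  haveI := hirr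
  obtain ⟨N, hN, hNu, hN0⟩ := exists_form_of_real ρ hreal
  have hNT := transpose_eq_indicator ρ hN
  set ν := (Nat.card G : ℂ)⁻¹ * ∑ s : G, ρ.character (s * s)
  have hA : ∀ g, LinearMap.toMatrix' (ρ g) = matRep ρ g := fun g => rfl
  simp only [hA]
  set A := matRep ρ
  have hAu : ∀ g, IsUnit (A g).det := fun g => isUnit_det_matRep ρ g
  have hNi : ∀ g, (A g)ᵀ * N⁻¹ * A g = N⁻¹ := fun g => by
    have h1 : (A g)ᵀ * N⁻¹ * (A g * N * (A g)ᵀ) = (A g)ᵀ := by
      rw [hN g, mul_assoc, Matrix.nonsing_inv_mul _ hNu, mul_one]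
    have hAt : IsUnit (A g)ᵀ.det := by rw [Matrix.det_transpose]; exact hAu g
    have h2 : (A g)ᵀ * N⁻¹ * A g * N = 1 := by
      have h3 := congrArg (· * ((A g)ᵀ)⁻¹) h1
      simpa [mul_assoc, Matrix.mul_nonsing_inv _ hAt] using h3
    have h4 := congrArg (· * N⁻¹) h2
    simpa [mul_assoc, Matrix.mul_nonsing_inv _ hNu] using h4
  have hN'0 : N⁻¹ ≠ 0 := fun h => by
    have h1 := Matrix.mul_nonsing_inv _ hNu
    rw [h, mul_zero] at h1
    haveI := nontrivial_of_irreducible ρ
    haveI : Nonempty (Fin n) := by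
      by_contra hcon
      rw [not_nonempty_iff] at hcon
      exact not_subsingleton (Fin n → ℂ) inferInstance
    exact zero_ne_one h1
  refine ⟨⟨N⁻¹, hN'0, hNi⟩, fun M hM => ?_⟩
  obtain ⟨c, hc⟩ := mat_schur ρ (T := N * M) fun g => by
    show A g * (N * M) = N * M * A g
    have hAt : IsUnit (A g)ᵀ.det := by rw [Matrix.det_transpose]; exact hAu g
    have h1 : A g * N = N * ((A g)ᵀ)⁻¹ := by
      conv_rhs => rw [← hN g]
      rw [mul_assoc, Matrix.mul_nonsing_inv _ hAt, mul_one]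
    rw [← mul_assoc, h1]
    conv_lhs => rw [← hM g]
    simp only [← mul_assoc]
    rw [mul_assoc N ((A g)ᵀ)⁻¹ (A g)ᵀ, Matrix.nonsing_inv_mul _ hAt, mul_one]
  have hM' : M = c • N⁻¹ := by
    have h1 := congrArg (N⁻¹ * ·) hc
    simpa [← mul_assoc, Matrix.nonsing_inv_mul _ hNu] using h1
  have hν : (N⁻¹)ᵀ = ν • N⁻¹ := by
    have h1 : N⁻¹ * N = 1 := Matrix.nonsing_inv_mul _ hNu
    have h2 := congrArg Matrix.transpose h1
    rw [Matrix.transpose_mul, hNT, Matrix.transpose_one, Matrix.smul_mul, ← Matrix.mul_smul] at h2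
    -- `N * (ν • N⁻¹ᵀ) = 1`
    have h3 : ν • (N⁻¹)ᵀ = N⁻¹ := by
      have := congrArg (N⁻¹ * ·) h2
      simpa [← mul_assoc, h1] using this
    have h4 := congrArg Matrix.transpose h3
    rw [Matrix.transpose_smul, Matrix.transpose_transpose] at h4
    exact h4.symm
  rw [hM', Matrix.transpose_smul, hν, smul_comm]

end Cfsg.Agent.S4475
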