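import Cfsg.Statements.S4476
import Cfsg.Agent.Chars.Indicator
import Cfsg.Agent.Chars.Count
-- import your own Cfsg.Agent.* helpers here

set_option autoImplicit false
open Cfsg

namespace Cfsg.Agent.S4476

set_option linter.unusedSectionVars false

open Cfsg.Lib.Chars

/-- Let G be a finite group of even order g with exactly t involutions, and put α = (g − 1)/t (a rational number). Then (a) some non-identity element x of G has at most α² conjugates; and (b) some non-principal real-valued irreducible character of G has degree at most α. -/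
theorem result {G : Type*} [Group G] [Fintype G] (heven : Even (Nat.card G)) (t : ℕ) (ht : Nat.card {x : G // orderOf x = 2} = t) : (∃ x : G, x ≠ 1 ∧ ((Subgroup.centralizer ({x} : Set G)).index : ℚ) ≤ (((Nat.card G : ℚ) - 1) / t) ^ 2) ∧ ∃ χ : Cfsg.IrrCharacter G, (χ : G → ℂ) ≠ (fun _ => 1) ∧ (∀ g : G, ((χ : G → ℂ) g).im = 0) ∧ (Cfsg.charDegree (χ : G → ℂ) : ℚ) ≤ ((Nat.card G : ℚ) - 1) / t := by
  classical
  set g : ℚ := (Nat.card G : ℚ) - 1 with hg
  have ht1 : 1 ≤ t := by
    obtain ⟨x, hx⟩ := exists_prime_orderOf_dvd_card' (G := G) 2 heven.two_dvd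
    rw [← ht, Nat.one_le_iff_ne_zero, ← Nat.pos_iff_ne_zero, Nat.card_pos_iff]
    exact ⟨⟨⟨x, hx⟩⟩, inferInstance⟩
  set R := (Finset.univ.erase (principal G)).filter
    (fun χ : Cfsg.IrrCharacter G => ∀ s : G, ((χ : G → ℂ) s).im = 0) with hR
  have hsqrt : (Finset.univ.filter (fun s : G => s * s = 1)).card = 1 + t := by
    rw [← ht, Nat.card_eq_fintype_card, Fintype.card_subtype,
      show Finset.univ.filter (fun s : G => s * s = 1) =
        insert 1 (Finset.univ.filter (fun s : G => orderOf s = 2)) from ?_,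
      Finset.card_insert_of_notMem (by simp), add_comm]
    ext s
    simp only [Finset.mem_filter, Finset.mem_univ, true_and, Finset.mem_insert]
    constructor
    · intro h
      rcases eq_or_ne s 1 with h1 | h1
      · exact Or.inl h1
      · exact Or.inr (orderOf_eq_prime (by rw [pow_two, h]) h1)
    · rintro (rfl | h)
      · rw [one_mul]
      · rw [← pow_two, ← h, pow_orderOf_eq_one]
  set ν : Cfsg.IrrCharacter G → ℂ := fun χ => (Nat.card G : ℂ)⁻¹ * ∑ s, (χ : G → ℂ) (s * s) with hν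
  have hG0 : (Nat.card G : ℂ) ≠ 0 := Nat.cast_ne_zero.2 Nat.card_pos.ne'
  have htot : ∑ χ : Cfsg.IrrCharacter G, (χ : G → ℂ) 1 * ν χ = ((1 + t : ℕ) : ℂ) := by
    have h1 : ∑ χ : Cfsg.IrrCharacter G, (χ : G → ℂ) 1 * ∑ s, (χ : G → ℂ) (s * s) =
        (Nat.card G : ℂ) * ((1 + t : ℕ) : ℂ) := by
      simp only [Finset.mul_sum]
      rw [Finset.sum_comm]
      simp only [sum_deg_mul]
      rw [← Finset.sum_filter, Finset.sum_const, hsqrt, nsmul_eq_mul, mul_comm]
    calc ∑ χ : Cfsg.IrrCharacter G, (χ : G → ℂ) 1 * ν χ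
        = (Nat.card G : ℂ)⁻¹ * ∑ χ : Cfsg.IrrCharacter G, (χ : G → ℂ) 1 * ∑ s, (χ : G → ℂ) (s * s) := by
          rw [Finset.mul_sum]
          exact Finset.sum_congr rfl fun χ _ => by simp only [hν]; ring
      _ = _ := by rw [h1, ← mul_assoc, inv_mul_cancel₀ hG0, one_mul]
  have hν1 : ν (principal G) = 1 := by
    show (Nat.card G : ℂ)⁻¹ * ∑ _s : G, (1 : ℂ) = 1
    rw [Finset.sum_const, Finset.card_univ, nsmul_eq_mul, mul_one, ← Nat.card_eq_fintype_card,
      inv_mul_cancel₀ hG0]
  have hνb : ∀ χ : Cfsg.IrrCharacter G, ∃ e : ℤ, ν χ = (e : ℂ) ∧ e ≤ 1 ∧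
      (¬ (∀ s : G, ((χ : G → ℂ) s).im = 0) → e = 0) := by
    intro χ
    rcases indicator_irr χ.2 with ⟨⟨s, hs⟩, h⟩ | ⟨hreal, h | ⟨h, -⟩⟩
    · exact ⟨0, by rw [hν]; simpa using h, by norm_num, fun _ => rfl⟩
    · exact ⟨1, by rw [hν]; simpa using h, le_rfl, fun hh => absurd hreal hh⟩
    · exact ⟨-1, by rw [hν]; simpa using h, by norm_num, fun hh => absurd hreal hh⟩
  choose e he hle hzero using hνb
  have hdeg1 : deg ((principal G : Cfsg.IrrCharacter G) : G → ℂ) = 1 := by
    apply Nat.cast_injective (R := ℂ)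
    rw [← irr_apply_one_eq_deg]; exact Nat.cast_one.symm
  have htle : (t : ℤ) ≤ ∑ χ ∈ R, (deg (χ : G → ℂ) : ℤ) := by
    have h1 : ((1 + t : ℕ) : ℤ) = ∑ χ : Cfsg.IrrCharacter G, (deg (χ : G → ℂ) : ℤ) * e χ := by
      apply Int.cast_injective (α := ℂ)
      push_cast
      have h0 := htot
      push_cast at h0
      rw [← h0]
      exact Finset.sum_congr rfl fun χ _ => by rw [irr_apply_one_eq_deg, he χ]
    have he1 : e (principal G) = 1 := by
      have := he (principal G)
      rw [hν1] at this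
      exact_mod_cast this.symm
    rw [← Finset.add_sum_erase _ _ (Finset.mem_univ (principal G)), hdeg1, he1] at h1
    push_cast at h1
    have h2 : (∑ χ ∈ Finset.univ.erase (principal G), (deg (χ : G → ℂ) : ℤ) * e χ) ≤
        ∑ χ ∈ R, (deg (χ : G → ℂ) : ℤ) := by
      rw [hR, Finset.sum_filter]
      refine Finset.sum_le_sum fun χ _ => ?_
      split_ifs with h
      · exact mul_le_of_le_one_right (Int.natCast_nonneg _) (hle χ)
      · rw [hzero χ h, mul_zero]
    linarith
  have htle' : (t : ℚ) ≤ ∑ χ ∈ R, (deg (χ : G → ℂ) : ℚ) := by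
    have := (Int.cast_le (R := ℚ)).2 htle
    push_cast at this
    exact this
  have hsq : ∑ χ ∈ R, (deg (χ : G → ℂ) : ℚ) ^ 2 ≤ g := by
    have h1 := sum_deg_sq_nat (G := G)
    rw [← Finset.add_sum_erase _ _ (Finset.mem_univ (principal G)), hdeg1, one_pow] at h1
    have h2 : ∑ χ ∈ R, deg (χ : G → ℂ) ^ 2 ≤ ∑ χ ∈ Finset.univ.erase (principal G), deg (χ : G → ℂ) ^ 2 :=
      Finset.sum_le_sum_of_subset (Finset.filter_subset _ _)
    have h3 : (1 : ℚ) + ∑ χ ∈ R, (deg (χ : G → ℂ) : ℚ) ^ 2 ≤ (Nat.card G : ℚ) := by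
      exact_mod_cast (Nat.add_le_add_left h2 1).trans h1.le
    rw [hg]; linarith
  have htq : (1 : ℚ) ≤ t := by exact_mod_cast ht1
  have hα : g / t * t = g := div_mul_cancel₀ _ (by linarith)
  set α := g / t with hαdef
  have hg0 : 0 ≤ g := le_trans (Finset.sum_nonneg fun χ _ => sq_nonneg _) hsq
  have hα0 : 0 ≤ α := div_nonneg hg0 (by linarith)
  refine ⟨?_, ?_⟩
  · by_contra hcon
    push Not at hcon
    have hnonempty : (Finset.univ.erase (ConjClasses.mk (1 : G))).Nonempty := by
      obtain ⟨x, hx⟩ := exists_prime_orderOf_dvd_card' (G := G) 2 heven.two_dvd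
      refine ⟨ConjClasses.mk x, Finset.mem_erase.2 ⟨fun h => ?_, Finset.mem_univ _⟩⟩
      rw [ConjClasses.mk_eq_mk_iff_isConj, isConj_one_left] at h
      rw [h, orderOf_one] at hx
      omega
    have hcls : ∀ x : G, Nat.card (ConjClasses.mk x).carrier = (Subgroup.centralizer ({x} : Set G)).index := by
      intro x
      rw [← card_isConj]
      exact Nat.card_congr (Equiv.subtypeEquivRight fun y => by
        rw [ConjClasses.mem_carrier_iff_mk_eq, ConjClasses.mk_eq_mk_iff_isConj, isConj_comm])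
    have hsum := Group.sum_card_conj_classes_eq_card (G := G)
    have h1 : (∑ C : ConjClasses G, (Nat.card C.carrier : ℚ)) = (Nat.card G : ℚ) := by
      rw [finsum_eq_sum_of_fintype] at hsum
      simp only [← Nat.card_coe_set_eq] at hsum
      exact_mod_cast hsum
    rw [← Finset.add_sum_erase _ _ (Finset.mem_univ (ConjClasses.mk (1 : G))), hcls,
      show (Subgroup.centralizer ({(1 : G)} : Set G)).index = 1 from Subgroup.index_eq_one.2
        (eq_top_iff.2 fun z _ => Subgroup.mem_centralizer_singleton_iff.2 (by simp))] at h1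
    push_cast at h1
    have h2 : ∑ C ∈ Finset.univ.erase (ConjClasses.mk (1 : G)), α ^ 2 <
        ∑ C ∈ Finset.univ.erase (ConjClasses.mk (1 : G)), (Nat.card C.carrier : ℚ) := by
      refine Finset.sum_lt_sum_of_nonempty hnonempty fun C hC => ?_
      obtain ⟨x, rfl⟩ := ConjClasses.exists_rep C
      rw [hcls]
      exact hcon x fun h => (Finset.mem_erase.1 hC).1 (by rw [h])
    rw [Finset.sum_const, Finset.card_erase_of_mem (Finset.mem_univ _), Finset.card_univ, nsmul_eq_mul] at h2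
    set k' : ℚ := ((Fintype.card (ConjClasses G) - 1 : ℕ) : ℚ) with hk'
    have hRc : (R.card : ℚ) ≤ k' := by
      rw [hk', Nat.cast_le]
      refine (Finset.card_filter_le _ _).trans ?_
      rw [Finset.card_erase_of_mem (Finset.mem_univ _), Finset.card_univ, ← Nat.card_eq_fintype_card,
        ← Nat.card_eq_fintype_card, card_irrCharacter]
    have hcs : (∑ χ ∈ R, (deg (χ : G → ℂ) : ℚ)) ^ 2 ≤ (R.card : ℚ) * ∑ χ ∈ R, (deg (χ : G → ℂ) : ℚ) ^ 2 :=
      sq_sum_le_card_mul_sum_sq
    have h4 : (t : ℚ) ^ 2 ≤ k' * g := by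
      refine (pow_le_pow_left₀ (by linarith) htle' 2).trans (hcs.trans ?_)
      exact mul_le_mul hRc hsq (Finset.sum_nonneg fun χ _ => sq_nonneg _) (by positivity)
    have h5 : α ^ 2 * (t : ℚ) ^ 2 ≤ α ^ 2 * (k' * g) := mul_le_mul_of_nonneg_left h4 (sq_nonneg _)
    rw [show α ^ 2 * (t : ℚ) ^ 2 = g * g by rw [← mul_pow, hα]; ring] at h5
    have hgpos : 0 < g := by
      rcases hg0.lt_or_eq with h | h
      · exact h
      · exfalso
        rw [← h, mul_zero] at h4
        nlinarith
    nlinarith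
  · by_contra hcon
    push Not at hcon
    have hgt : ∀ χ ∈ R, α < (deg (χ : G → ℂ) : ℚ) := by
      intro χ hχ
      simp only [hR, Finset.mem_filter, Finset.mem_erase, Finset.mem_univ, and_true] at hχ
      exact hcon χ (fun h => hχ.1 (Subtype.ext h)) hχ.2
    rcases R.eq_empty_or_nonempty with hR0 | hR0
    · rw [hR0, Finset.sum_empty] at htle'
      linarith
    · have h1 : ∑ χ ∈ R, α * (deg (χ : G → ℂ) : ℚ) < ∑ χ ∈ R, (deg (χ : G → ℂ) : ℚ) ^ 2 :=
        Finset.sum_lt_sum_of_nonempty hR0 fun χ hχ => by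
          rw [pow_two]
          exact mul_lt_mul_of_pos_right (hgt χ hχ) (by exact_mod_cast deg_irr_pos χ)
      rw [← Finset.mul_sum] at h1
      have h2 := mul_le_mul_of_nonneg_left htle' hα0
      linarith

end Cfsg.Agent.S4476
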