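import Cfsg.Statements.S4477
import Cfsg.Agent.InvolutionCount.Basic
-- import your own Cfsg.Agent.* helpers here

set_option autoImplicit false
open Cfsg

namespace Cfsg.Agent.S4477

set_option linter.unusedSectionVars false

open Cfsg.Lib.Chars Cfsg.Lib.InvolutionCount

/-- Let G be a finite 2-group whose number of involutions is congruent to 1 modulo 4. Then G is cyclic or its commutator subgroup has index 4. -/
theorem result {G : Type*} [Group G] [Finite G] (hG : IsPGroup 2 G) (ht : Nat.card {x : G // orderOf x = 2} % 4 = 1) : IsCyclic G ∨ (commutator G).index = 4 := by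
  classical
  rw [or_iff_not_imp_left]
  intro hnc
  haveI := Fintype.ofFinite G
  haveI hQc := Cfsg.Lib.PGroups.isMulCommutative_quotient_frattini hG
  letI : CommGroup (G ⧸ frattini G) :=
    { (inferInstance : Group (G ⧸ frattini G)) with mul_comm := hQc.is_comm.comm }
  haveI : NeZero (Monoid.exponent (G ⧸ frattini G)) := ⟨Monoid.exponent_ne_zero_of_finite⟩
  have hcardL : Nat.card (Lin G) = Nat.card (G ⧸ frattini G) :=
    CommGroup.card_monoidHom_of_hasEnoughRootsOfUnity _ _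
  haveI hfin : Finite (Lin G) := (Nat.card_pos_iff.mp (hcardL ▸ Nat.card_pos)).2
  haveI : Fintype (Lin G) := Fintype.ofFinite _
  haveI : Fact (Nat.Prime 2) := ⟨Nat.prime_two⟩
  -- the number of solutions of `x ^ 2 = 1`
  have hsol : Nat.card {x : G // x ^ 2 = 1} = Nat.card {x : G // orderOf x = 2} + 1 := by
    rw [Nat.card_eq_fintype_card, Fintype.card_subtype, Nat.card_eq_fintype_card, Fintype.card_subtype,
      show Finset.univ.filter (fun s : G => s ^ 2 = 1) =
        insert 1 (Finset.univ.filter (fun s : G => orderOf s = 2)) from ?_,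
      Finset.card_insert_of_notMem (by simp)]
    ext s
    simp only [Finset.mem_filter, Finset.mem_univ, true_and, Finset.mem_insert]
    constructor
    · intro h
      rcases eq_or_ne s 1 with h1 | h1
      · exact Or.inl h1
      · exact Or.inr (orderOf_eq_prime h h1)
    · rintro (rfl | h)
      · rw [one_pow]
      · rw [← h, pow_orderOf_eq_one]
  obtain ⟨d, hd⟩ := IsPGroup.iff_card.mp (hG.to_quotient (frattini G))
  have hd2 : Nat.card (G ⧸ frattini G) = 4 := by
    have hle : d ≤ 2 := by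
      by_contra h
      push Not at h
      have := two_pow_dvd hG 1 (hd ▸ Nat.pow_le_pow_right (by norm_num) h)
      rw [hsol] at this
      omega
    have hge : ¬ d ≤ 1 := by
      intro h
      haveI : Fact (Nat.Prime 2) := ⟨Nat.prime_two⟩
      haveI : IsCyclic (G ⧸ frattini G) := by
        rcases Nat.le_one_iff_eq_zero_or_eq_one.1 h with rfl | rfl
        · haveI : Subsingleton (G ⧸ frattini G) := (Nat.card_eq_one_iff_unique.1 (by simpa using hd)).1
          exact isCyclic_of_subsingleton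
        · exact isCyclic_of_prime_card (p := 2) (by simpa using hd)
      exact hnc (Cfsg.Lib.PGroups.isCyclic_of_isCyclic_quotient_frattini)
    rw [hd, show d = 2 by omega]; norm_num
  have hL4 : Nat.card (Lin G) = 4 := hcardL.trans hd2
  have hidx : (frattini G).index = 4 := hd2
  have hcle : commutator G ≤ frattini G :=
    (Subgroup.Normal.quotient_commutative_iff_commutator_le (N := frattini G)).1 hQc
  have hlamΦ : ∀ (l : Lin G) (g : G), g ∈ frattini G → lam l g = 1 := fun l g hg => by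
    show l (QuotientGroup.mk' (frattini G) g) = 1
    rw [show QuotientGroup.mk' (frattini G) g = 1 from (QuotientGroup.eq_one_iff g).2 hg, map_one]
  -- the indicator
  set ν : Cfsg.IrrCharacter G → ℤ := fun χ =>
    if (∀ s, ((χ : G → ℂ) s).im = 0) then
      (if (Nat.card G : ℂ)⁻¹ * ∑ s, (χ : G → ℂ) (s * s) = 1 then 1 else -1) else 0 with hν
  have hνv : ∀ χ : Cfsg.IrrCharacter G,
      (Nat.card G : ℂ)⁻¹ * ∑ s, (χ : G → ℂ) (s * s) = (ν χ : ℂ) := by
    intro χ
    simp only [hν]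
    rcases indicator_irr χ.2 with ⟨⟨s, hs⟩, h⟩ | ⟨hreal, h⟩
    · rw [if_neg (fun hh => hs (hh s)), h]; norm_num
    · rw [if_pos hreal]
      rcases h with h | ⟨h, -⟩
      · rw [if_pos h, h]; norm_num
      · rw [if_neg (by rw [h]; norm_num), h]; norm_num
  have hN : (Nat.card {x : G // x ^ 2 = 1} : ℤ) =
      ∑ χ : Cfsg.IrrCharacter G, ν χ * (deg (χ : G → ℂ) : ℤ) := by
    apply Int.cast_injective (α := ℂ)
    push_cast
    have hG0 : (Nat.card G : ℂ) ≠ 0 := Nat.cast_ne_zero.2 Nat.card_pos.ne'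
    refine mul_left_cancel₀ hG0 ?_
    rw [Finset.mul_sum, Finset.sum_congr rfl (g := fun χ : Cfsg.IrrCharacter G =>
        ∑ s, (χ : G → ℂ) 1 * (χ : G → ℂ) (s * s)) (fun χ _ => by
      rw [← hνv, ← irr_apply_one_eq_deg, ← mul_assoc, ← mul_assoc, mul_inv_cancel₀ hG0, one_mul,
        Finset.sum_mul]
      exact Finset.sum_congr rfl fun _ _ => mul_comm _ _), Finset.sum_comm]
    simp only [sum_deg_mul]
    rw [← Finset.sum_filter, Finset.sum_const, nsmul_eq_mul, mul_comm, Nat.card_eq_fintype_card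
      (α := {x : G // x ^ 2 = 1}), Fintype.card_subtype]
    congr 3
    ext s; simp [sq]
  -- real characters of degree two fixed by all real linear characters
  set F := Finset.univ.filter (fun χ : Cfsg.IrrCharacter G =>
    deg (χ : G → ℂ) = 2 ∧ (∀ s, ((χ : G → ℂ) s).im = 0) ∧ ∀ l : Lin G, l • χ = χ) with hF
  have hνs : ∀ (l : Lin G) (χ : Cfsg.IrrCharacter G), ν (l • χ) = ν χ := fun l χ => by
    apply Int.cast_injective (α := ℂ)
    rw [← hνv, ← hνv]
    congr 1
    refine Finset.sum_congr rfl fun s _ => ?_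
    rw [Cfsg.Lib.InvolutionCount.smul_apply, hlamΦ l (s * s) (by
      have := Cfsg.Lib.PGroups.pow_mem_frattini hG s; rwa [pow_two] at this)]
    simp
  have hrest : (4 : ℤ) ∣ (∑ χ : Cfsg.IrrCharacter G, ν χ * (deg (χ : G → ℂ) : ℤ)) -
      ∑ χ ∈ F, ν χ * (deg (χ : G → ℂ) : ℤ) := by
    rw [← Finset.sum_sdiff (Finset.subset_univ F), add_sub_cancel_right,
      ← Finset.sum_fiberwise (Finset.univ \ F)
        (fun χ => (Quotient.mk (MulAction.orbitRel (Lin G) (Cfsg.IrrCharacter G)) χ))]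
    refine Finset.dvd_sum fun c _ => ?_
    rcases Finset.eq_empty_or_nonempty ((Finset.univ \ F).filter fun χ =>
      Quotient.mk (MulAction.orbitRel (Lin G) (Cfsg.IrrCharacter G)) χ = c) with h | ⟨χ₀, h0⟩
    · rw [h, Finset.sum_empty]; exact dvd_zero _
    obtain ⟨h0F, rfl⟩ := Finset.mem_filter.1 h0
    rw [Finset.sum_congr rfl (g := fun _ => ν χ₀ * (deg (χ₀ : G → ℂ) : ℤ)) fun χ hχ => by
      obtain ⟨l, rfl⟩ := Quotient.exact (Finset.mem_filter.mp hχ).2
      show ν (l • χ₀) * (deg ((l • χ₀ : Cfsg.IrrCharacter G) : G → ℂ) : ℤ) = ν χ₀ * _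
      rw [hνs, smul_deg]]
    rw [Finset.sum_const, nsmul_eq_mul]
    by_cases hreal : ∀ s, ((χ₀ : G → ℂ) s).im = 0
    swap
    · simp only [hν, if_neg hreal, zero_mul, mul_zero]; exact dvd_zero _
    have hnF : ∀ l : Lin G, l • χ₀ ∉ F := by
      intro l hl
      simp only [hF, Finset.mem_filter, Finset.mem_univ, true_and] at hl
      have e : χ₀ = l • χ₀ := by
        have := hl.2.2 l⁻¹
        exact (inv_smul_smul l χ₀).symm.trans this
      exact (Finset.mem_sdiff.1 h0F).2 (by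
        simp only [hF, Finset.mem_filter, Finset.mem_univ, true_and]
        rw [e]; exact hl)
    have horb : ((Finset.univ \ F).filter fun χ =>
        Quotient.mk (MulAction.orbitRel (Lin G) (Cfsg.IrrCharacter G)) χ = Quotient.mk _ χ₀).card *
          Nat.card (MulAction.stabilizer (Lin G) χ₀) = 4 := by
      rw [← hL4, Nat.card_eq_fintype_card (α := Lin G),
        ← MulAction.card_orbit_mul_card_stabilizer_eq_card_group (Lin G) χ₀, ← Nat.card_eq_fintype_card,
        ← Nat.card_eq_fintype_card, Nat.card_coe_set_eq, ← Set.ncard_coe_finset]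
      congr 2
      ext χ
      simp only [Finset.coe_filter, Finset.mem_sdiff, Finset.mem_univ, true_and, Set.mem_ofPred_eq]
      refine ⟨fun h => Quotient.exact h.2, fun h => ⟨?_, Quotient.sound h⟩⟩
      obtain ⟨l, rfl⟩ := h
      exact hnF l
    have hst := card_stabilizer_le χ₀
    obtain ⟨n, hn⟩ := IsPGroup.iff_card.mp hG
    obtain ⟨i, -, hi⟩ := (Nat.dvd_prime_pow Nat.prime_two).mp (hn ▸ deg_dvd_card χ₀)
    rcases (show i = 0 ∨ i = 1 ∨ 2 ≤ i by omega) with rfl | rfl | h
    · rw [hi, show (2 ^ 0) ^ 2 = 1 from rfl] at hst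
      have : Nat.card (MulAction.stabilizer (Lin G) χ₀) = 1 :=
        le_antisymm hst (Nat.card_pos (α := MulAction.stabilizer (Lin G) χ₀))
      rw [this, mul_one] at horb
      rw [horb]
      exact dvd_mul_right _ _
    · have hne : Nat.card (MulAction.stabilizer (Lin G) χ₀) ≠ 4 := by
        intro h
        refine (Finset.mem_sdiff.1 h0F).2 ?_
        simp only [hF, Finset.mem_filter, Finset.mem_univ, true_and]
        refine ⟨hi, hreal, fun l => ?_⟩
        have htop := Subgroup.eq_top_of_card_eq _ (h.trans hL4.symm)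
        exact MulAction.mem_stabilizer_iff.1 (htop ▸ Subgroup.mem_top l)
      rw [hi]
      have heven : 2 ∣ ((Finset.univ \ F).filter fun χ =>
          Quotient.mk (MulAction.orbitRel (Lin G) (Cfsg.IrrCharacter G)) χ = Quotient.mk _ χ₀).card := by
        have hdd : Nat.card (MulAction.stabilizer (Lin G) χ₀) ∣ 2 ^ 2 := Dvd.intro_left _ horb
        obtain ⟨j, hj, hj'⟩ := (Nat.dvd_prime_pow Nat.prime_two).1 hdd
        rw [hj'] at horb hne
        interval_cases j <;> omega
      obtain ⟨k, hk⟩ := heven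
      rw [hk]
      exact ⟨(k : ℤ) * ν χ₀, by push_cast; ring⟩
    · rw [hi]
      exact dvd_mul_of_dvd_right (dvd_mul_of_dvd_right (by
        push_cast; exact (by norm_num : (4 : ℤ) = 2 ^ 2) ▸ pow_dvd_pow (2 : ℤ) h) _) _
  have hFodd : ¬ 2 ∣ F.card := by
    intro h
    have h2 : (4 : ℤ) ∣ ∑ χ ∈ F, ν χ * (deg (χ : G → ℂ) : ℤ) := by
      have hz : ∀ χ ∈ F, ν χ * (deg (χ : G → ℂ) : ℤ) = 2 * ν χ ∧ Odd (ν χ) := by
        intro χ hχ
        simp only [hF, Finset.mem_filter, Finset.mem_univ, true_and] at hχ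
        refine ⟨by rw [hχ.1]; push_cast; ring, ?_⟩
        simp only [hν, if_pos hχ.2.1]
        split_ifs <;> decide
      rw [Finset.sum_congr rfl fun χ hχ => (hz χ hχ).1, ← Finset.mul_sum]
      have h3 : (2 : ℤ) ∣ ∑ χ ∈ F, ν χ := by
        have h4 : (2 : ℤ) ∣ ∑ χ ∈ F, (ν χ - 1) := Finset.dvd_sum fun χ hχ => by
          obtain ⟨k, hk⟩ := (hz χ hχ).2
          exact ⟨k, by omega⟩
        rw [Finset.sum_sub_distrib, Finset.sum_const, nsmul_eq_mul, mul_one] at h4
        exact (dvd_sub_left (Int.natCast_dvd_natCast.2 h)).1 h4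
      obtain ⟨k, hk⟩ := h3
      exact ⟨k, by rw [hk]; ring⟩
    have h5 := dvd_add hrest h2
    rw [sub_add_cancel, ← hN, hsol] at h5
    push_cast at h5
    omega
  -- the commutator subgroup
  by_contra hne
  have hlt : ∃ g ∈ frattini G, g ∉ commutator G := by
    by_contra hh
    push Not at hh
    exact hne ((le_antisymm hcle hh : commutator G = frattini G) ▸ hidx)
  obtain ⟨g₀, hg₀, hg₀c⟩ := hlt
  haveI : NeZero (Monoid.exponent (Abelianization G)) := ⟨Monoid.exponent_ne_zero_of_finite⟩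
  obtain ⟨μ₀, hμ₀⟩ := CommGroup.exists_apply_ne_one_of_hasEnoughRootsOfUnity (M := ℂ)
    (G := Abelianization G) (a := Abelianization.of g₀)
    (fun h => hg₀c ((QuotientGroup.eq_one_iff _).1 h))
  set μ₁ : G →* ℂˣ := μ₀.comp Abelianization.of with hμ₁
  have hex : ∃ μ : G →* ℂˣ, (∃ g ∈ frattini G, μ g ≠ 1) ∧ ∀ g ∈ frattini G, μ g ^ 2 = 1 := by
    obtain ⟨n, hn⟩ := IsPGroup.iff_card.mp hG
    have hfin : ∀ g, μ₁ g ^ (2 ^ n) = 1 := fun g => by
      rw [← map_pow, ← hn, pow_card_eq_one', map_one]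
    have hP : ∃ j, ∀ g ∈ frattini G, μ₁ g ^ (2 ^ j) = 1 := ⟨n, fun g _ => hfin g⟩
    have hj := Nat.find_spec hP
    have hj0 : Nat.find hP ≠ 0 := fun h => by
      rw [h] at hj
      exact hμ₀ (by simpa [hμ₁] using hj g₀ hg₀)
    have hmin := Nat.find_min hP (Nat.sub_lt (Nat.pos_of_ne_zero hj0) one_pos)
    push Not at hmin
    obtain ⟨g, hg, hg1⟩ := hmin
    refine ⟨μ₁ ^ (2 ^ (Nat.find hP - 1)), ⟨g, hg, by simpa using hg1⟩, fun g hg => ?_⟩
    rw [MonoidHom.pow_apply, ← pow_mul, ← pow_succ, Nat.sub_add_cancel (Nat.one_le_iff_ne_zero.2 hj0)]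
    exact hj g hg
  obtain ⟨μ, ⟨g₁, hg₁, hμg₁⟩, hμ2⟩ := hex
  have hvan : ∀ χ ∈ F, ∀ g : G, g ∉ frattini G → (χ : G → ℂ) g = 0 := by
    intro χ hχ g hg
    simp only [hF, Finset.mem_filter, Finset.mem_univ, true_and] at hχ
    obtain ⟨l, hl⟩ := CommGroup.exists_apply_ne_one_of_hasEnoughRootsOfUnity (M := ℂ)
      (G := G ⧸ frattini G) (a := (g : G ⧸ frattini G)) (fun h => hg ((QuotientGroup.eq_one_iff _).1 h))
    have h := congrFun (congrArg Subtype.val (hχ.2.2 l)) g
    rw [Cfsg.Lib.InvolutionCount.smul_apply] at h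
    have h1 : ((lam l g : ℂ) - 1) * (χ : G → ℂ) g = 0 := by rw [sub_mul, one_mul, h, sub_self]
    exact (mul_eq_zero.1 h1).resolve_left (sub_ne_zero.2 fun h2 => hl (Units.ext h2))
  have hnz : ∀ χ ∈ F, ∀ g ∈ frattini G, (χ : G → ℂ) g ≠ 0 := by
    intro χ hχ g hg h0
    have hd2' : deg (χ : G → ℂ) = 2 := (Finset.mem_filter.1 hχ).2.1
    have h := classInner_irr_self χ
    rw [classInner_self, Complex.ofReal_eq_one] at h
    set Φs := Finset.univ.filter (fun x : G => x ∈ frattini G) with hΦs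
    have hsplit : ∑ x : G, ‖(χ : G → ℂ) x‖ ^ 2 = ∑ x ∈ Φs.erase g, ‖(χ : G → ℂ) x‖ ^ 2 :=
      (Finset.sum_subset (Finset.subset_univ _) fun x _ hx => by
        simp only [hΦs, Finset.mem_erase, Finset.mem_filter, Finset.mem_univ, true_and, not_and] at hx
        by_cases hxg : x = g
        · rw [hxg, h0, norm_zero]; norm_num
        · rw [hvan χ hχ x (hx hxg), norm_zero]; norm_num).symm
    have hbound : ∑ x ∈ Φs.erase g, ‖(χ : G → ℂ) x‖ ^ 2 ≤ ((Φs.erase g).card : ℝ) * 4 := by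
      rw [← nsmul_eq_mul, ← Finset.sum_const]
      refine Finset.sum_le_sum fun x _ => ?_
      have h1 := IsCharacter.norm_le (isCharacter_of_irr χ.2) x
      rw [irr_apply_one_eq_deg, hd2', Complex.natCast_re] at h1
      push_cast at h1
      nlinarith [norm_nonneg ((χ : G → ℂ) x)]
    have hcardΦ : (Φs.card : ℕ) * 4 = Nat.card G := by
      rw [hΦs, ← Fintype.card_subtype, ← Nat.card_eq_fintype_card, ← hidx]
      exact Subgroup.card_mul_index _
    have hgΦ : g ∈ Φs := by simp [hΦs, hg]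
    have hlt : ((Φs.erase g).card : ℝ) * 4 < (Nat.card G : ℝ) := by
      rw [← hcardΦ, Finset.card_erase_of_mem hgΦ]
      have := Finset.card_pos.2 ⟨g, hgΦ⟩
      exact_mod_cast (Nat.mul_lt_mul_of_pos_right (Nat.sub_lt this one_pos) (by norm_num : 0 < 4))
    rw [hsplit, inv_mul_eq_one₀ (Nat.cast_ne_zero.2 Nat.card_pos.ne')] at h
    linarith
  refine hFodd ((ZMod.natCast_eq_zero_iff F.card 2).1 ?_)
  rw [Finset.card_eq_sum_ones, Nat.cast_sum]
  let T : Cfsg.IrrCharacter G → Cfsg.IrrCharacter G := fun χ =>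
    ⟨fun g => (μ g : ℂ) * (χ : G → ℂ) g, IsIrrCharacter.mul_linear χ.2 μ⟩
  have hTv : ∀ χ g, (T χ : G → ℂ) g = (μ g : ℂ) * (χ : G → ℂ) g := fun _ _ => rfl
  have hsq : ∀ g ∈ frattini G, (μ g : ℂ) * (μ g : ℂ) = 1 := fun g hg => by
    rw [← Units.val_mul, ← pow_two, hμ2 g hg, Units.val_one]
  have him : ∀ g ∈ frattini G, (μ g : ℂ).im = 0 := fun g hg => by
    rcases mul_self_eq_one_iff.1 (hsq g hg) with h | h <;> rw [h] <;> simp
  refine Finset.sum_involution (fun χ _ => T χ) (fun _ _ => by rw [Nat.cast_one]; rfl) (fun χ hχ _ h => ?_)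
    (fun χ hχ => ?_) (fun χ hχ => ?_)
  · have e := congrFun (congrArg Subtype.val h) g₁
    rw [hTv] at e
    have : ((μ g₁ : ℂ) - 1) * (χ : G → ℂ) g₁ = 0 := by rw [sub_mul, one_mul, e, sub_self]
    rcases mul_eq_zero.1 this with h1 | h1
    · exact hμg₁ (Units.ext (sub_eq_zero.1 h1))
    · exact hnz χ hχ g₁ hg₁ h1
  · have hm := hχ
    simp only [hF, Finset.mem_filter, Finset.mem_univ, true_and] at hm ⊢
    refine ⟨?_, fun s => ?_, fun l => Subtype.ext (funext fun g => ?_)⟩
    · rw [← hm.1, deg, deg, hTv, map_one, Units.val_one, one_mul]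
    · rw [hTv]
      by_cases hs : s ∈ frattini G
      · rw [Complex.mul_im, him s hs, hm.2.1 s]; ring
      · rw [hvan χ hχ s hs, mul_zero, Complex.zero_im]
    · show ((l • T χ : Cfsg.IrrCharacter G) : G → ℂ) g = (T χ : G → ℂ) g
      rw [Cfsg.Lib.InvolutionCount.smul_apply, hTv, mul_left_comm, ← Cfsg.Lib.InvolutionCount.smul_apply, hm.2.2 l]
  · refine Subtype.ext (funext fun g => ?_)
    show (μ g : ℂ) * ((μ g : ℂ) * (χ : G → ℂ) g) = (χ : G → ℂ) g
    by_cases hs : g ∈ frattini G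
    · rw [← mul_assoc, hsq g hs, one_mul]
    · rw [hvan χ hχ g hs, mul_zero, mul_zero]

end Cfsg.Agent.S4477
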