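import Cfsg.Statements.S4478
import Cfsg.Agent.Chars.Indicator
import Cfsg.Agent.Chars.DefectZero
import Cfsg.Agent.Chars.Construct
-- import your own Cfsg.Agent.* helpers here

set_option autoImplicit false
open Cfsg

namespace Cfsg.Agent.S4478

set_option linter.unusedSectionVars false

open Cfsg.Lib.Chars
open scoped ComplexConjugate

/-- Let G be a finite group of even order and χ an irreducible character of G whose degree x is divisible by the full power of 2 dividing the order of G and, for every odd prime p such that G has an element of order 2p, by the full power of p dividing the order of G. Then all involutions of G are conjugate, the centralizer of every involution has order exactly x with x coprime to its index, and the Frobenius–Schur indicator of χ equals 1. -/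
theorem result {G : Type*} [Group G] [Fintype G] (heven : Even (Nat.card G)) (χ : Cfsg.IrrCharacter G) (h2 : 2 ^ (Nat.card G).factorization 2 ∣ Cfsg.charDegree (χ : G → ℂ)) (hp : ∀ p : ℕ, p.Prime → p ≠ 2 → (∃ g : G, orderOf g = 2 * p) → p ^ (Nat.card G).factorization p ∣ Cfsg.charDegree (χ : G → ℂ)) : (∀ s t : G, orderOf s = 2 → orderOf t = 2 → IsConj s t) ∧ (∀ s : G, orderOf s = 2 → Nat.card (Subgroup.centralizer ({s} : Set G)) = Cfsg.charDegree (χ : G → ℂ) ∧ (Nat.card (Subgroup.centralizer ({s} : Set G))).Coprime (Subgroup.centralizer ({s} : Set G)).index) ∧ (Nat.card G : ℂ)⁻¹ * ∑ g : G, (χ : G → ℂ) (g * g) = 1 := by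
  classical
  set x := deg (χ : G → ℂ) with hx
  have hxd : Cfsg.charDegree (χ : G → ℂ) = x := rfl
  rw [hxd] at h2
  have hxpos : 0 < x := deg_irr_pos χ
  have hvan : ∀ q : ℕ, q.Prime → q ^ (Nat.card G).factorization q ∣ x →
      ∀ g : G, q ∣ orderOf g → (χ : G → ℂ) g = 0 := fun q hq hd g hg =>
    eq_zero_of_defect_zero χ.2 hq (Nat.ordProj_dvd _ _)
      (Nat.pow_succ_factorization_not_dvd Nat.card_pos.ne' hq) hd hg
  have hfull : ∀ (s g : G), orderOf s = 2 → g * s = s * g → ∀ q : ℕ, q.Prime → q ∣ orderOf g →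
      q ^ (Nat.card G).factorization q ∣ x := by
    intro s g hs hc q hq hqg
    by_cases h : q = 2
    · exact h ▸ h2
    refine hxd ▸ hp q hq h ⟨s * g ^ (orderOf g / q), ?_⟩
    have hy : orderOf (g ^ (orderOf g / q)) = q := by
      rw [orderOf_pow_of_dvd (Nat.div_pos (Nat.le_of_dvd (orderOf_pos g) hqg) hq.pos).ne'
        (Nat.div_dvd_of_dvd hqg), Nat.div_div_self hqg (orderOf_pos g).ne']
    rw [(Commute.pow_right (Commute.symm hc) _).orderOf_mul_eq_mul_orderOf_of_coprime, hs, hy]
    rw [hs, hy]
    exact (Nat.coprime_primes Nat.prime_two hq).2 (Ne.symm h)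
  have hreg : ∀ (s g : G), orderOf s = 2 → g * s = s * g → g ≠ 1 → (χ : G → ℂ) g = 0 := by
    intro s g hs hc hg
    obtain ⟨q, hq, hqg⟩ := Nat.exists_prime_and_dvd (fun h => hg (orderOf_eq_one_iff.1 h))
    exact hvan q hq (hfull s g hs hc q hq hqg) g hqg
  have hmem : ∀ s g : G, g ∈ Subgroup.centralizer ({s} : Set G) ↔ g * s = s * g := fun s g => by
    rw [Subgroup.mem_centralizer_singleton_iff]
  have hdvd : ∀ s : G, orderOf s = 2 → Nat.card (Subgroup.centralizer ({s} : Set G)) ∣ x := by
    intro s hs
    haveI := Fintype.ofFinite (Subgroup.centralizer ({s} : Set G))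
    obtain ⟨m, hm⟩ := IsCharacter.exists_mult
      (IsCharacter.restrict (isCharacter_of_irr χ.2) (Subgroup.centralizer ({s} : Set G)))
      (principal (Subgroup.centralizer ({s} : Set G))).2
    rw [classInner_def, Finset.sum_eq_single (1 : Subgroup.centralizer ({s} : Set G))
      (fun g _ hg => by
        show (χ : G → ℂ) g * _ = 0
        rw [hreg s g hs ((hmem s g).1 g.2) (fun h => hg (Subtype.ext h)), zero_mul])
      (fun h => absurd (Finset.mem_univ _) h)] at hm
    refine ⟨m, Nat.cast_injective (R := ℂ) ?_⟩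
    have hc0 : (Nat.card (Subgroup.centralizer ({s} : Set G)) : ℂ) ≠ 0 :=
      Nat.cast_ne_zero.2 Nat.card_pos.ne'
    push_cast
    rw [← hm, ← mul_assoc, mul_inv_cancel₀ hc0, one_mul]
    show ((x : ℕ) : ℂ) = (χ : G → ℂ) ((1 : Subgroup.centralizer ({s} : Set G)) : G) * conj (1 : ℂ)
    rw [map_one, mul_one, OneMemClass.coe_one, irr_apply_one_eq_deg]
  -- the character is not principal
  have hne : χ ≠ principal G := by
    rintro rfl
    have h1 : x = 1 := by
      apply Nat.cast_injective (R := ℂ)
      rw [hx, ← irr_apply_one_eq_deg, Nat.cast_one]; rfl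
    have h0 := Nat.Prime.factorization_pos_of_dvd Nat.prime_two (Nat.card_pos (α := G)).ne' heven.two_dvd
    rw [h1, Nat.dvd_one, Nat.pow_eq_one] at h2
    omega
  have hsum : ∑ g : G, (χ : G → ℂ) g = 0 := by
    have h := classInner_irr_ne hne
    rw [classInner_def, mul_eq_zero, inv_eq_zero, Nat.cast_eq_zero] at h
    refine Eq.trans (Finset.sum_congr rfl fun g _ => ?_) (h.resolve_left Nat.card_pos.ne')
    show _ = _ * conj (1 : ℂ)
    rw [map_one, mul_one]
  set O := Finset.univ.filter (fun g : G => ¬ 2 ∣ orderOf g) with hO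
  set T := Finset.univ.filter (fun g : G => orderOf g = 2) with hT
  have hodd : ∑ g ∈ O, (χ : G → ℂ) (g * g) = 0 := by
    have hb : ∑ g ∈ O, (χ : G → ℂ) (g * g) = ∑ g ∈ O, (χ : G → ℂ) g := by
      refine Finset.sum_bij (fun g _ => g * g) (fun g hg => ?_) (fun a ha b hb h => ?_)
        (fun b hb => ?_) (fun g _ => rfl)
      · simp only [hO, Finset.mem_filter, Finset.mem_univ, true_and] at hg ⊢
        rw [← pow_two]
        exact fun h => hg (h.trans (orderOf_pow_dvd 2))
      · simp only [hO, Finset.mem_filter, Finset.mem_univ, true_and] at ha hb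
        have key : ∀ g : G, ¬ 2 ∣ orderOf g → ∀ k, (g * g) ^ (orderOf g * k + (orderOf g + 1) / 2) = g := by
          intro g hg k
          rw [← pow_two, ← pow_mul, mul_add, show 2 * ((orderOf g + 1) / 2) = orderOf g + 1 by omega,
            show 2 * (orderOf g * k) + (orderOf g + 1) = orderOf g * (2 * k + 1) + 1 by ring,
            pow_succ, pow_mul, pow_orderOf_eq_one, one_pow, one_mul]
        have hab : orderOf a = orderOf b := by
          have e : ∀ g : G, ¬ 2 ∣ orderOf g → orderOf (g * g) = orderOf g := fun g hg => by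
            rw [← pow_two, Nat.Coprime.orderOf_pow]
            exact (Nat.prime_two.coprime_iff_not_dvd.2 hg).symm
          rw [← e a ha, ← e b hb]; exact congrArg orderOf h
        rw [← key a ha 0, show a * a = b * b from h, hab, key b hb 0]
      · simp only [hO, Finset.mem_filter, Finset.mem_univ, true_and] at hb
        refine ⟨b ^ ((orderOf b + 1) / 2), ?_, ?_⟩
        · simp only [hO, Finset.mem_filter, Finset.mem_univ, true_and]
          exact fun h => hb (h.trans (orderOf_pow_dvd _))
        · rw [← pow_add, show (orderOf b + 1) / 2 + (orderOf b + 1) / 2 = orderOf b + 1 by omega,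
            pow_succ, pow_orderOf_eq_one, one_mul]
    rw [hb]
    refine Eq.trans (Finset.sum_subset (Finset.subset_univ _) fun g _ hg => ?_) hsum
    simp only [hO, Finset.mem_filter, Finset.mem_univ, true_and, not_not] at hg
    exact hvan 2 Nat.prime_two h2 g hg
  have htot : ∑ g : G, (χ : G → ℂ) (g * g) = (T.card : ℂ) * x := by
    rw [← Finset.sum_filter_add_sum_filter_not Finset.univ (fun g : G => ¬ 2 ∣ orderOf g), ← hO,
      hodd, zero_add]
    have h1 : ∀ g ∈ Finset.univ.filter (fun g : G => ¬ ¬ 2 ∣ orderOf g),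
        (χ : G → ℂ) (g * g) = if orderOf g = 2 then (x : ℂ) else 0 := by
      intro g hg
      simp only [Finset.mem_filter, Finset.mem_univ, true_and, not_not] at hg
      split_ifs with h
      · rw [← pow_two, ← h, pow_orderOf_eq_one, irr_apply_one_eq_deg]
      · have hd : orderOf g / 2 ≠ 0 := by have := orderOf_pos g; omega
        refine hreg (g ^ (orderOf g / 2)) (g * g) ?_ ?_ ?_
        · rw [orderOf_pow_of_dvd hd (Nat.div_dvd_of_dvd hg),
            Nat.div_div_self hg (orderOf_pos g).ne']
        · exact ((Commute.self_pow g _).mul_left (Commute.self_pow g _)).eq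
        · intro h1
          exact h ((Nat.dvd_prime Nat.prime_two).1
            (orderOf_dvd_of_pow_eq_one (by rw [pow_two]; exact h1)) |>.resolve_left
              (fun h0 => by omega))
    rw [Finset.sum_congr rfl h1, ← Finset.sum_filter, Finset.sum_const, nsmul_eq_mul]
    congr 3
    ext g
    simp only [hT, Finset.mem_filter, Finset.mem_univ, true_and, not_not]
    exact ⟨fun h => h.2, fun h => ⟨h ▸ dvd_rfl, h⟩⟩
  obtain ⟨s₀, hs₀⟩ := exists_prime_orderOf_dvd_card' (G := G) 2 heven.two_dvd
  have hTpos : 0 < T.card := Finset.card_pos.2 ⟨s₀, by simp [hT, hs₀]⟩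
  have hG0 : (Nat.card G : ℂ) ≠ 0 := Nat.cast_ne_zero.2 Nat.card_pos.ne'
  set ν := (Nat.card G : ℂ)⁻¹ * ∑ g : G, (χ : G → ℂ) (g * g) with hν
  have hνv : (Nat.card G : ℂ) * ν = ((T.card * x : ℕ) : ℂ) := by
    rw [hν, htot, ← mul_assoc, mul_inv_cancel₀ hG0, one_mul]; push_cast; ring
  have hpos : 0 < T.card * x := Nat.mul_pos hTpos hxpos
  have hν1 : ν = 1 := by
    rcases indicator_irr χ.2 with ⟨-, h⟩ | ⟨-, h | ⟨h, -⟩⟩
    · rw [show ν = 0 from h, mul_zero] at hνv; exact absurd (Nat.cast_eq_zero.1 hνv.symm) hpos.ne'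
    · exact h
    · rw [show ν = -1 from h, mul_neg, mul_one, neg_eq_iff_add_eq_zero, ← Nat.cast_add,
        Nat.cast_eq_zero] at hνv
      omega
  have hcard : Nat.card G = T.card * x := by
    apply Nat.cast_injective (R := ℂ)
    rw [← hνv, hν1, mul_one]
  have hclass : ∀ s : G, orderOf s = 2 →
      Nat.card (Subgroup.centralizer ({s} : Set G)) = x ∧ ∀ t : G, orderOf t = 2 → IsConj s t := by
    intro s hs
    set K := Finset.univ.filter (fun t : G => IsConj s t) with hK
    have hKT : K ⊆ T := by
      intro t ht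
      simp only [hK, hT, Finset.mem_filter, Finset.mem_univ, true_and] at ht ⊢
      obtain ⟨c, rfl⟩ := isConj_iff.1 ht
      rw [← hs, show c * s * c⁻¹ = MulAut.conj c s from rfl, MulEquiv.orderOf_eq]
    have hKc : K.card = (Subgroup.centralizer ({s} : Set G)).index := by
      rw [hK, ← Fintype.card_subtype, ← Nat.card_eq_fintype_card]
      exact Cfsg.Lib.Chars.card_isConj s
    have hle : Nat.card (Subgroup.centralizer ({s} : Set G)) ≤ x := Nat.le_of_dvd hxpos (hdvd s hs)
    have hmul := Subgroup.card_mul_index (Subgroup.centralizer ({s} : Set G))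
    rw [← hKc, hcard] at hmul
    have hKle := Finset.card_le_card hKT
    have hCpos : 0 < Nat.card (Subgroup.centralizer ({s} : Set G)) := Nat.card_pos
    have heq : Nat.card (Subgroup.centralizer ({s} : Set G)) = x := by
      refine le_antisymm hle ?_
      by_contra hlt
      push Not at hlt
      have := Nat.mul_lt_mul_of_lt_of_le hlt hKle hTpos
      rw [hmul, mul_comm] at this
      exact lt_irrefl _ this
    refine ⟨heq, fun t ht => ?_⟩
    have hKeq : K = T := Finset.eq_of_subset_of_card_le hKT (le_of_eq (by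
      rw [heq, mul_comm T.card] at hmul
      exact (Nat.eq_of_mul_eq_mul_left hxpos hmul).symm))
    have : t ∈ K := by rw [hKeq]; simp [hT, ht]
    simpa [hK] using this
  refine ⟨fun s t hs ht => (hclass s hs).2 t ht, fun s hs => ⟨(hclass s hs).1, ?_⟩, hν1⟩
  refine Nat.coprime_of_dvd fun q hq hqC hqi => ?_
  haveI := Fact.mk hq
  obtain ⟨g, hg⟩ := exists_prime_orderOf_dvd_card' (G := Subgroup.centralizer ({s} : Set G)) q hqC
  rw [← Subgroup.orderOf_coe] at hg
  have hd := hfull s g hs ((hmem s g).1 g.2) q hq (by rw [hg])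
  rw [← (hclass s hs).1] at hd
  exact Nat.pow_succ_factorization_not_dvd Nat.card_pos.ne' hq (by
    rw [pow_succ, ← Subgroup.card_mul_index (Subgroup.centralizer ({s} : Set G))] 
    exact Nat.mul_dvd_mul (by rwa [Subgroup.card_mul_index]) hqi)

end Cfsg.Agent.S4478
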