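import Cfsg.Statements.S4480
import Mathlib
import Cfsg.Agent.Blocks.KleinFourOrder
import Cfsg.Agent.Blocks.RealTwo
import Cfsg.Agent.Chars.Indicator
-- import your own Cfsg.Agent.* helpers here

set_option autoImplicit false
open Cfsg

namespace Cfsg.Agent.S4480

set_option linter.unusedSectionVars false

open Cfsg.Lib.Chars Cfsg.Lib.Blocks
open scoped ComplexConjugate

/-- Same setting as the Klein-four order formula: G of order 4·g₀ (g₀ odd) with no normal 2-complement, P a Sylow 2-subgroup, J an involution of P, M over 2, principal 2-block {1, χ₁, χ₂, χ₃} with χ_i(J) = ε_i = ±1. Suppose ε₁ε₂ε₃ = −1 and ε₃ = −1, and put q = x₃ = χ₃(1). Then there is a natural number m with 4·c(J) = m·c(P)·(q + 1), and the order of G equals (m³·c(P)/4)·(q³ − q)/2, that is 8·#G = m³·c(P)·(q³ − q). -/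
theorem result {G : Type*} [Group G] [Finite G] (M : Ideal Cfsg.AlgInt) (hM : Cfsg.IsPModular 2 M) (g₀ : ℕ) (hg₀ : Odd g₀) (hG : Nat.card G = 4 * g₀) (hnc : ¬ ∃ N : Subgroup G, N.Normal ∧ Nat.card N = g₀) (P : Sylow 2 G) (J : G) (hJ : J ∈ (P : Subgroup G)) (hJ2 : orderOf J = 2) (χ₁ χ₂ χ₃ : Cfsg.IrrCharacter G) (ε₁ ε₂ ε₃ : ℤ) (hB : Cfsg.principalBlock M G = {χ : Cfsg.IrrCharacter G | (χ : G → ℂ) = (fun _ => 1) ∨ χ = χ₁ ∨ χ = χ₂ ∨ χ = χ₃}) (hdist : (χ₁ : G → ℂ) ≠ (fun _ => 1) ∧ (χ₂ : G → ℂ) ≠ (fun _ => 1) ∧ (χ₃ : G → ℂ) ≠ (fun _ => 1) ∧ χ₁ ≠ χ₂ ∧ χ₁ ≠ χ₃ ∧ χ₂ ≠ χ₃) (hε : (ε₁ = 1 ∨ ε₁ = -1) ∧ (ε₂ = 1 ∨ ε₂ = -1) ∧ (ε₃ = 1 ∨ ε₃ = -1)) (hval : (χ₁ : G → ℂ) J = ε₁ ∧ (χ₂ : G → ℂ) J = ε₂ ∧ (χ₃ : G → ℂ) J = ε₃) (hprod : ε₁ * ε₂ * ε₃ = -1) (hε₃ : ε₃ = -1) : ∃ m : ℕ, 4 * Nat.card (Subgroup.centralizer ({J} : Set G)) = m * Nat.card (Subgroup.centralizer ((P : Subgroup G) : Set G)) * (Cfsg.charDegree (χ₃ : G → ℂ) + 1) ∧ 8 * Nat.card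 G = m ^ 3 * Nat.card (Subgroup.centralizer ((P : Subgroup G) : Set G)) * (Cfsg.charDegree (χ₃ : G → ℂ) ^ 3 - Cfsg.charDegree (χ₃ : G → ℂ)) := by
  classical
  letI := Fintype.ofFinite G
  haveI : Fact (Nat.Prime 2) := ⟨Nat.prime_two⟩
  have hg0 : g₀ ≠ 0 := fun h => by simp [h] at hg₀
  have hg2 : ¬ 2 ∣ g₀ := fun h => Nat.not_even_iff_odd.2 hg₀ (even_iff_two_dvd.2 h)
  have hP4 : Nat.card (P : Subgroup G) = 4 := by
    rw [P.card_eq_multiplicity, hG, Nat.factorization_mul (by norm_num) hg0, Finsupp.add_apply,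
      Nat.factorization_eq_zero_of_not_dvd hg2, show (4 : ℕ) = 2 ^ 2 by norm_num,
      Nat.prime_two.factorization_pow, Finsupp.single_eq_same]
  obtain ⟨hexp, hone⟩ := klein_of_no_complement hG hnc P hP4 hJ hJ2
  obtain ⟨d1, d2, d3, d12, d13, d23⟩ := hdist
  have hne : ∀ χ : IrrCharacter G, (χ : G → ℂ) ≠ (fun _ => 1) → principal G ≠ χ := fun χ h e =>
    h (e ▸ rfl)
  have hset : Finset.univ.filter (fun φ : IrrCharacter G => φ ∈ principalBlock M G) =
      {principal G, χ₁, χ₂, χ₃} := by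
    ext φ
    simp only [hB, Finset.mem_filter, Finset.mem_univ, true_and, Finset.mem_insert,
      Finset.mem_singleton, Set.mem_ofPred_eq]
    exact or_congr_left ⟨fun h => Subtype.ext h, fun h => by rw [h]; rfl⟩
  have hm : ∀ φ : IrrCharacter G, φ = χ₁ ∨ φ = χ₂ ∨ φ = χ₃ → φ ∈ principalBlock M G := by
    intro φ h
    rw [hB]
    exact Or.inr h
  have hB' : IsPBlock M (principalBlock M G) := isPBlock_blockOf (principal G)
  have hJd : 2 ∣ orderOf J := dvd_of_eq hJ2.symm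
  obtain ⟨ε, -, -, hε'⟩ := klein_values hP4 hexp hM hone
  obtain ⟨x₁, hx₁⟩ : ∃ x, x = deg (χ₁ : G → ℂ) := ⟨_, rfl⟩
  obtain ⟨x₂, hx₂⟩ : ∃ x, x = deg (χ₂ : G → ℂ) := ⟨_, rfl⟩
  obtain ⟨q, hq⟩ : ∃ x, x = deg (χ₃ : G → ℂ) := ⟨_, rfl⟩
  have p1 : 0 < x₁ := hx₁ ▸ deg_irr_pos χ₁
  have p2 : 0 < x₂ := hx₂ ▸ deg_irr_pos χ₂
  have p3 : 0 < q := hq ▸ deg_irr_pos χ₃
  have hrel : (1 : ℤ) + ε₁ * x₁ + ε₂ * x₂ + ε₃ * q = 0 := by
    have h := block_orthogonality_regular hM hB' (show ¬ 2 ∣ orderOf (1 : G) by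
      rw [orderOf_one]; norm_num) hJd
    rw [hset, Finset.sum_insert (by simp [hne χ₁ d1, hne χ₂ d2, hne χ₃ d3]),
      Finset.sum_insert (by simp [d12, d13]), Finset.sum_pair d23, hval.1, hval.2.1, hval.2.2] at h
    simp only [irr_apply_one_eq_deg, map_intCast, ← hx₁, ← hx₂, ← hq] at h
    change (deg (fun _ : G => (1 : ℂ)) : ℂ) * conj (1 : ℂ) + _ = 0 at h
    rw [show deg (fun _ : G => (1 : ℂ)) = 1 from charDegree_one (H := G), map_one, mul_one,
      Nat.cast_one] at h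
    apply Int.cast_injective (α := ℂ)
    push_cast
    linear_combination h
  have he : ε₁ = 1 ∧ ε₂ = 1 := by
    rcases hε.1 with h1 | h1 <;> rcases hε.2.1 with h2 | h2 <;> rw [h1, h2, hε₃] at hprod hrel
    · exact ⟨h1, h2⟩
    · norm_num at hprod
    · norm_num at hprod
    · -- both negative is impossible
      exfalso; omega
  rw [he.1, he.2, hε₃] at hrel
  rw [he.1, he.2, hε₃] at hval
  simp only [Int.cast_one, Int.cast_neg] at hval
  have hodd : ∀ φ : IrrCharacter G, φ = χ₁ ∨ φ = χ₂ ∨ φ = χ₃ → Odd (deg (φ : G → ℂ)) := by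
    intro φ hφ
    obtain ⟨hsgn, hv⟩ := hε' φ (hm φ hφ)
    obtain ⟨t, ht⟩ := klein_deg_congr hP4 hexp hM hone hv
    refine Nat.odd_iff.2 ?_
    rcases hsgn with h | h <;> rw [h] at ht <;> omega
  have hx : x₁ = x₂ := by
    by_contra hne12
    -- conjugation cannot exchange the two characters
    have hreal : ∀ φ : IrrCharacter G, φ = χ₁ ∨ φ = χ₂ ∨ φ = χ₃ → ∀ g, ((φ : G → ℂ) g).im = 0 := by
      intro φ hφ
      refine (conjIrr_eq_self_iff φ).1 ?_
      have hmem : conjIrr φ ∈ principalBlock M G := by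
        have hsb : SameBlock M (fun _ : G => (1 : ℂ)) (φ : G → ℂ) := hm φ hφ
        have := sameBlock_conjIrr (χ := principal G) (ψ := φ) hsb
        rwa [show (conjIrr (principal G) : G → ℂ) = fun _ => (1 : ℂ) from
          funext fun g => by rw [conjIrr_apply]; rfl] at this
      have hdeg : deg (conjIrr φ : G → ℂ) = deg (φ : G → ℂ) := by
        rw [deg, deg, conjIrr_apply, inv_one]
      have hJv : (conjIrr φ : G → ℂ) J = (φ : G → ℂ) J := by
        rw [conjIrr_apply, inv_eq_of_mul_eq_one_right (hexp J hJ)]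
      have h4 : conjIrr φ ∈ Finset.univ.filter (fun φ : IrrCharacter G => φ ∈ principalBlock M G) :=
        Finset.mem_filter.2 ⟨Finset.mem_univ _, hmem⟩
      rw [hset] at h4
      simp only [Finset.mem_insert, Finset.mem_singleton] at h4
      rcases h4 with h | h | h | h
      · exfalso
        have e : φ = principal G := by
          refine Subtype.ext (funext fun g => ?_)
          have := congrArg (fun ψ : IrrCharacter G => (ψ : G → ℂ) g⁻¹) h
          simp only [conjIrr_apply, inv_inv] at this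
          exact this
        rcases hφ with rfl | rfl | rfl
        · exact hne _ d1 e.symm
        · exact hne _ d2 e.symm
        · exact hne _ d3 e.symm
      all_goals rw [h] at hdeg hJv; rcases hφ with rfl | rfl | rfl
      · exact h
      · exact absurd (hx₁.trans (hdeg.trans hx₂.symm)) hne12
      · rw [hval.1, hval.2.2] at hJv; norm_num at hJv
      · exact absurd (hx₁.trans (hdeg.symm.trans hx₂.symm)) hne12
      · exact h
      · rw [hval.2.1, hval.2.2] at hJv; norm_num at hJv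
      · rw [hval.1, hval.2.2] at hJv; norm_num at hJv
      · rw [hval.2.1, hval.2.2] at hJv; norm_num at hJv
      · exact h
    have hind : ∀ φ : IrrCharacter G, φ = χ₁ ∨ φ = χ₂ ∨ φ = χ₃ →
        (Nat.card G : ℂ)⁻¹ * ∑ s, (φ : G → ℂ) (s * s) = 1 := by
      intro φ hφ
      rcases indicator_irr φ.2 with ⟨⟨s, hs⟩, -⟩ | ⟨-, h | ⟨-, h⟩⟩
      · exact absurd (hreal φ hφ s) hs
      · exact h
      · exact absurd (h _ (irr_apply_one_eq_deg φ)) (Nat.not_even_iff_odd.2 (hodd φ hφ))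
    obtain ⟨L, hL, -, -, -⟩ := exists_odd_part P hP4 hexp hJ (fun h => by rw [h, orderOf_one] at hJ2; omega)
    have hsq : ∀ y ∈ L, ∑ χ : IrrCharacter G,
        ((Nat.card G : ℂ)⁻¹ * ∑ s, (χ : G → ℂ) (s * s)) * conj ((χ : G → ℂ) (J * y)) = 0 := by
      intro y hy
      simp only [Finset.mul_sum, Finset.sum_mul]
      rw [Finset.sum_comm]
      refine Finset.sum_eq_zero fun s _ => ?_
      simp only [mul_assoc]
      rw [← Finset.mul_sum, second_orthogonality, if_neg, mul_zero]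
      intro hc
      obtain ⟨a, ha⟩ := isConj_iff.1 hc
      obtain ⟨hy1, hy2⟩ := (hL y).1 hy
      obtain ⟨w, w', hw, hw1, hw2, hw3⟩ : ∃ w w' : G, (∃ k : ℕ, orderOf w = 2 ^ k) ∧
          w * w' = a * s * a⁻¹ ∧ Commute w w' ∧ ¬ 2 ∣ orderOf w' := by
        obtain ⟨w, w', h1, h2, h3, h4⟩ := exists_isPPart' (p := 2) Nat.prime_two (a * s * a⁻¹)
        exact ⟨w, w', h3, h1, h2, h4⟩
      obtain ⟨Q, hwQ, -, hQ2⟩ := exists_klein_sylow hP4 hexp hw
      have e : J * y = w' * w' := by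
        calc J * y = (a * s * a⁻¹) * (a * s * a⁻¹) := by rw [← ha]; group
          _ = (w * w) * (w' * w') := by
              rw [← hw1]; exact (hw2.mul_mul_mul_comm w w').symm
          _ = _ := by rw [hQ2 w hwQ, one_mul]
      have h1 : IsPPart 2 (J * y) J := isPPart_mul hy1 ⟨1, by rw [hJ2, pow_one]⟩ hy2
      have h2 : IsPPart 2 (J * y) 1 := (isPPart_one_iff Nat.prime_two).2 (by
        rw [e, ← pow_two]
        exact fun h => hw3 (h.trans (orderOf_pow_dvd 2)))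
      have := IsPPart.eq Nat.prime_two h1 h2
      rw [this, orderOf_one] at hJ2
      omega
    set A := Finset.univ.filter (fun y : G => y ∈ L) with hA
    have htot : ∑ χ ∈ Finset.univ.filter (fun φ : IrrCharacter G => φ ∈ principalBlock M G),
        ((Nat.card G : ℂ)⁻¹ * ∑ s, (χ : G → ℂ) (s * s)) * ((A.card : ℂ) * conj ((χ : G → ℂ) J)) = 0 := by
      have h0 : ∑ y ∈ A, ∑ χ : IrrCharacter G,
          ((Nat.card G : ℂ)⁻¹ * ∑ s, (χ : G → ℂ) (s * s)) * conj ((χ : G → ℂ) (J * y)) = 0 :=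
        Finset.sum_eq_zero fun y hy => hsq y (Finset.mem_filter.1 hy).2
      rw [Finset.sum_comm] at h0
      rw [← h0, Finset.sum_filter]
      refine Finset.sum_congr rfl fun χ _ => ?_
      rw [← Finset.mul_sum, ← map_sum]
      split_ifs with hχ
      · rw [Finset.sum_congr rfl fun y hy => apply_involution_mul hP4 hexp hM hJ2
          ((hL y).1 (Finset.mem_filter.1 hy).2).1 ((hL y).1 (Finset.mem_filter.1 hy).2).2 hχ,
          Finset.sum_const, nsmul_eq_mul, map_mul, map_natCast]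
      · rw [sum_odd_part_eq_zero hP4 hexp hM hJ2 hL hχ, map_zero, mul_zero]
    rw [hset, Finset.sum_insert (by simp [hne χ₁ d1, hne χ₂ d2, hne χ₃ d3]),
      Finset.sum_insert (by simp [d12, d13]), Finset.sum_pair d23, hind χ₁ (Or.inl rfl),
      hind χ₂ (Or.inr (Or.inl rfl)), hind χ₃ (Or.inr (Or.inr rfl)), hval.1, hval.2.1, hval.2.2] at htot
    change ((Nat.card G : ℂ)⁻¹ * ∑ _s : G, (1 : ℂ)) * (_ * conj (1 : ℂ)) + _ = 0 at htot
    rw [Finset.sum_const, Finset.card_univ, nsmul_one, ← Nat.card_eq_fintype_card,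
      inv_mul_cancel₀ (Nat.cast_ne_zero.2 Nat.card_pos.ne'), map_neg, map_one] at htot
    have hA0 : (A.card : ℂ) ≠ 0 := Nat.cast_ne_zero.2
      (Finset.card_ne_zero.2 ⟨1, Finset.mem_filter.2 ⟨Finset.mem_univ _, one_mem L⟩⟩)
    exact hA0 (by linear_combination htot / 2)
  -- the count
  have hqx : q = 2 * x₁ + 1 := by omega
  have hF := klein_order_formula hP4 hexp hM hone hJ hJ2
  rw [hset, Finset.sum_insert (by simp [hne χ₁ d1, hne χ₂ d2, hne χ₃ d3]),
    Finset.sum_insert (by simp [d12, d13]), Finset.sum_pair d23, hval.1, hval.2.1, hval.2.2] at hF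
  simp only [irr_apply_one_eq_deg, ← hx₁, ← hx₂, ← hq, ← hx] at hF
  change 8 * _ = _ * _ * ((1 : ℂ) / ((deg (fun _ : G => (1 : ℂ)) : ℕ) : ℂ) + _) at hF
  rw [show deg (fun _ : G => (1 : ℂ)) = 1 from charDegree_one (H := G), Nat.cast_one, div_one] at hF
  rw [charDegree_eq_deg, ← hq]
  set c := Nat.card (Subgroup.centralizer ({J} : Set G)) with hcdef
  set cP := Nat.card (Subgroup.centralizer ((P : Subgroup G) : Set G)) with hcPdef
  obtain ⟨I, hI⟩ : cP ∣ c := Subgroup.card_dvd_of_le fun g hg =>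
    Subgroup.mem_centralizer_singleton_iff.2 (Subgroup.mem_centralizer_iff.1 hg J hJ).symm
  obtain ⟨k, hk⟩ : c ∣ Nat.card G := Subgroup.card_subgroup_dvd_card _
  have hc0 : 0 < c := Nat.card_pos
  have hcP0 : 0 < cP := Nat.card_pos
  have hx0 : (x₁ : ℂ) ≠ 0 := Nat.cast_ne_zero.2 p1.ne'
  have hq0 : (q : ℂ) ≠ 0 := Nat.cast_ne_zero.2 p3.ne'
  have hkey : k * (x₁ + 1) ^ 2 = 4 * (x₁ * (2 * x₁ + 1)) * I ^ 2 := by
    have hqx' : (q : ℂ) = 2 * (x₁ : ℂ) + 1 := by rw [hqx]; push_cast; ring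
    field_simp at hF
    rw [hqx', hI, show (Nat.card G : ℂ) = ((cP * I * k : ℕ) : ℂ) by rw [hk, hI]] at hF
    push_cast at hF
    apply Nat.cast_injective (R := ℂ)
    push_cast
    have hne0 : (2 : ℂ) * (cP : ℂ) ^ 3 * (I : ℂ) ≠ 0 := by
      have : 0 < I := Nat.pos_of_ne_zero fun h => by rw [h, mul_zero] at hI; omega
      exact mul_ne_zero (mul_ne_zero two_ne_zero (pow_ne_zero 3 (Nat.cast_ne_zero.2 hcP0.ne')))
        (Nat.cast_ne_zero.2 this.ne')
    refine mul_left_cancel₀ hne0 ?_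
    linear_combination -hF
  have hco : Nat.Coprime ((x₁ + 1) ^ 2) (x₁ * (2 * x₁ + 1)) := by
    refine Nat.Coprime.pow_left 2 (Nat.Coprime.mul_right ?_ ?_)
    · rw [Nat.coprime_self_add_left]; exact Nat.coprime_one_left _
    · rw [show 2 * x₁ + 1 = x₁ + (x₁ + 1) by ring, Nat.coprime_add_self_right,
        Nat.coprime_self_add_left]
      exact Nat.coprime_one_left _
  have hd : (x₁ + 1) ^ 2 ∣ (2 * I) ^ 2 := by
    refine hco.dvd_of_dvd_mul_left (Dvd.intro_left k ?_)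
    rw [hkey]; ring
  obtain ⟨m, hm'⟩ := (Nat.pow_dvd_pow_iff two_ne_zero).1 hd
  have hkm : k = x₁ * (2 * x₁ + 1) * m ^ 2 := by
    refine mul_right_cancel₀ (pow_ne_zero 2 (Nat.add_one_ne_zero x₁)) ?_
    calc k * (x₁ + 1) ^ 2 = x₁ * (2 * x₁ + 1) * (2 * I) ^ 2 := by rw [hkey]; ring
      _ = _ := by rw [hm']; ring
  have hI4 : 4 * I = m * (q + 1) := by
    rw [hqx, show m * (2 * x₁ + 1 + 1) = 2 * ((x₁ + 1) * m) by ring, ← hm']; ring
  refine ⟨m, ?_, ?_⟩
  · calc 4 * c = cP * (4 * I) := by rw [hI]; ring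
      _ = m * cP * (q + 1) := by rw [hI4]; ring
  · have hsub : q ^ 3 - q = 4 * (x₁ * (x₁ + 1)) * (2 * x₁ + 1) := by
      refine Nat.sub_eq_of_eq_add ?_
      rw [hqx]; ring
    calc 8 * Nat.card G = 4 * cP * (2 * I) * k := by rw [hk, hI]; ring
      _ = m ^ 3 * cP * (q ^ 3 - q) := by rw [hm', hkm, hsub]; ring

end Cfsg.Agent.S4480
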