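import Cfsg.Statements.S4481
import Cfsg.Agent.Blocks.DihedralBlock
-- import your own Cfsg.Agent.* helpers here

set_option autoImplicit false
open Cfsg

namespace Cfsg.Agent.S4481

/-- The principal 2-block of a group with dihedral Sylow 2-subgroups. Let G be a finite group whose Sylow 2-subgroup P is dihedral of order 2^n ≥ 8, let σ be an element of P of order 2^(n−1), ζ a primitive 2^(n−1)-th root of unity, and M a maximal ideal of the algebraic integers containing 2. Then the principal 2-block consists of exactly 3 + 2^(n−2) irreducible characters, which can be labelled 1, χ₁, χ₂, χ₃ and χ^(j) for 1 ≤ j ≤ 2^(n−2) − 1 (all distinct), with signs δ₁, δ₂, δ₃ such that for 0 < λ < 2^(n−1): χ₁(σ^λ) = δ₁, χ₂(σ^λ) = δ₂(−1)^(λ+1), χ₃(σ^λ) = δ₃(−1)^(λ+1) and χ^(j)(σ^λ) = δ₁(ζ^(jλ) + ζ^(−jλ)); and for every element ρ of odd order and every j: 1 + δ₁χ₁(ρ)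 = −δ₂χ₂(ρ) − δ₃χ₃(ρ) = δ₁χ^(j)(ρ). -/
theorem result {G : Type*} [Group G] [Finite G] (M : Ideal Cfsg.AlgInt) (hM : Cfsg.IsPModular 2 M) (n : ℕ) (hn : 3 ≤ n) (P : Sylow 2 G) (hP : Nonempty ((P : Subgroup G) ≃* DihedralGroup (2 ^ (n - 1)))) (σ : G) (hσ : σ ∈ (P : Subgroup G)) (hσo : orderOf σ = 2 ^ (n - 1)) (ζ : ℂ) (hζ : IsPrimitiveRoot ζ (2 ^ (n - 1))) : Nat.card (Cfsg.principalBlock M G) = 3 + 2 ^ (n - 2) ∧ ∃ (χ₁ χ₂ χ₃ : Cfsg.IrrCharacter G) (χ' : Fin (2 ^ (n - 2) - 1) → Cfsg.IrrCharacter G) (δ₁ δ₂ δ₃ : ℤ), (δ₁ = 1 ∨ δ₁ = -1) ∧ (δ₂ = 1 ∨ δ₂ = -1) ∧ (δ₃ = 1 ∨ δ₃ = -1) ∧ Function.Injective χ' ∧ (χ₁ : G → ℂ) ≠ (fun _ => 1) ∧ (χ₂ : G → ℂ) ≠ (fun _ => 1) ∧ (χ₃ : G → ℂ) ≠ (fun _ => 1) ∧ χ₁ ≠ χ₂ ∧ χ₁ ≠ χ₃ ∧ χ₂ ≠ χ₃ ∧ (∀ j, χ' j ≠ χ₁ ∧ χ' j ≠ χ₂ ∧ χ' j ≠ χ₃ ∧ (χ' j : G → ℂ) ≠ (fun _ => 1)) ∧ Cfsg.principalBlock M G = {χ : Cfsg.IrrCharacter G | (χ : G →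 ℂ) = (fun _ => 1) ∨ χ = χ₁ ∨ χ = χ₂ ∨ χ = χ₃ ∨ ∃ j, χ = χ' j} ∧ (∀ l : ℕ, 0 < l → l < 2 ^ (n - 1) → (χ₁ : G → ℂ) (σ ^ l) = δ₁ ∧ (χ₂ : G → ℂ) (σ ^ l) = δ₂ * (-1) ^ (l + 1) ∧ (χ₃ : G → ℂ) (σ ^ l) = δ₃ * (-1) ^ (l + 1) ∧ ∀ j : Fin (2 ^ (n - 2) - 1), (χ' j : G → ℂ) (σ ^ l) = δ₁ * (ζ ^ (((j : ℕ) + 1) * l) + (ζ ^ (((j : ℕ) + 1) * l))⁻¹)) ∧ ∀ ρ : G, Odd (orderOf ρ) → ∀ j : Fin (2 ^ (n - 2) - 1), 1 + δ₁ * (χ₁ : G → ℂ) ρ = -δ₂ * (χ₂ : G → ℂ) ρ - δ₃ * (χ₃ : G → ℂ) ρ ∧ 1 + δ₁ * (χ₁ : G → ℂ) ρ = δ₁ * (χ' j : G → ℂ) ρ := by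
  classical
  haveI : Fintype G := Fintype.ofFinite G
  obtain ⟨m, rfl⟩ : ∃ m, n = m + 1 := ⟨n - 1, by omega⟩
  simp only [Nat.add_sub_cancel, show m + 1 - 2 = m - 1 from by omega] at hP hσo hζ ⊢
  obtain ⟨e⟩ := hP
  obtain ⟨τ, d⟩ := Cfsg.Lib.Dihedral.exists_data P (by omega : 2 ≤ m) e σ hσ hσo
  obtain ⟨x, u, v, y, s, su, sv, hs, hsu, hsv, h1x, h1u, h1v, hxu, hxv, huv, hy, hyinj, hcov, hvals, hreg⟩ :=
    d.principal_block hM hζ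
  have hne : ∀ χ : Cfsg.IrrCharacter G, Cfsg.Lib.Chars.principal G ≠ χ → (χ : G → ℂ) ≠ (fun _ => 1) :=
    fun χ hχ e => hχ (Subtype.ext e.symm)
  have hh1 : 1 ≤ 2 ^ (m - 1) := Nat.one_le_two_pow
  have hmem : ∀ j : Fin (2 ^ (m - 1) - 1), (j : ℕ) + 1 ∈ Finset.Ico 1 (2 ^ (m - 1)) := fun j => by
    rw [Finset.mem_Ico]; omega
  have hset : ∀ χ : Cfsg.IrrCharacter G, χ ∈ Cfsg.principalBlock M G ↔
      χ ∈ insert (Cfsg.Lib.Chars.principal G)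
        (insert x (insert u (insert v ((Finset.Ico 1 (2 ^ (m - 1))).image y)))) := fun χ => by
    rw [← hcov]; simp
  have hcard : Nat.card (Cfsg.principalBlock M G) = 3 + 2 ^ (m - 1) := by
    rw [Nat.card_congr (Equiv.subtypeEquivRight hset), Nat.card_eq_fintype_card, Fintype.card_coe,
      Finset.card_insert_of_notMem, Finset.card_insert_of_notMem, Finset.card_insert_of_notMem,
      Finset.card_insert_of_notMem, Finset.card_image_of_injOn hyinj, Nat.card_Ico]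
    · omega
    · simp only [Finset.mem_image, not_exists, not_and]
      exact fun i hi e => (hy i hi).2.2.2 e
    · simp only [Finset.mem_insert, Finset.mem_image, not_or, not_exists, not_and]
      exact ⟨huv, fun i hi e => (hy i hi).2.2.1 e⟩
    · simp only [Finset.mem_insert, Finset.mem_image, not_or, not_exists, not_and]
      exact ⟨hxu, hxv, fun i hi e => (hy i hi).2.1 e⟩
    · simp only [Finset.mem_insert, Finset.mem_image, not_or, not_exists, not_and]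
      exact ⟨h1x, h1u, h1v, fun i hi e => (hy i hi).1 e⟩
  refine ⟨hcard, x, u, v, fun j => y ((j : ℕ) + 1), -s, -su, -sv, by omega, by omega, by omega, ?_,
    hne x h1x, hne u h1u, hne v h1v, hxu, hxv, huv, ?_, ?_, ?_, ?_⟩
  · intro i j e
    have := hyinj (Finset.mem_coe.2 (hmem i)) (Finset.mem_coe.2 (hmem j)) e
    exact Fin.ext (by omega)
  · intro j
    obtain ⟨a, b, c, d'⟩ := hy _ (hmem j)
    exact ⟨b, c, d', hne _ (Ne.symm a)⟩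
  · ext χ
    rw [Set.mem_ofPred_eq, hset]
    simp only [Finset.mem_insert, Finset.mem_image]
    refine ⟨?_, ?_⟩
    · rintro (rfl | rfl | rfl | rfl | ⟨i, hi, rfl⟩)
      · exact Or.inl rfl
      · exact Or.inr (Or.inl rfl)
      · exact Or.inr (Or.inr (Or.inl rfl))
      · exact Or.inr (Or.inr (Or.inr (Or.inl rfl)))
      · rw [Finset.mem_Ico] at hi
        refine Or.inr (Or.inr (Or.inr (Or.inr ⟨⟨i - 1, by rw [show m + 1 - 2 = m - 1 by omega]; omega⟩, ?_⟩)))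
        simp only [Nat.sub_add_cancel hi.1]
    · rintro (h | rfl | rfl | rfl | ⟨j, rfl⟩)
      · exact Or.inl (Subtype.ext h)
      · exact Or.inr (Or.inl rfl)
      · exact Or.inr (Or.inr (Or.inl rfl))
      · exact Or.inr (Or.inr (Or.inr (Or.inl rfl)))
      · exact Or.inr (Or.inr (Or.inr (Or.inr ⟨_, hmem j, rfl⟩)))
  · intro l hl hl'
    obtain ⟨e1, e2, e3, e4⟩ := hvals l hl hl'
    refine ⟨?_, ?_, ?_, fun j => ?_⟩
    · rw [e1]; push_cast; ring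
    · rw [e2]; push_cast; ring
    · rw [e3]; push_cast; ring
    · rw [e4 _ (hmem j)]; push_cast; ring
  · intro ρ hρ j
    obtain ⟨r1, r2⟩ := hreg ρ fun h => Nat.not_even_iff_odd.2 hρ (even_iff_two_dvd.2 h)
    have r3 := r2 _ (hmem j)
    constructor
    · push_cast; linear_combination -r1
    · push_cast; linear_combination -r3

end Cfsg.Agent.S4481
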