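import Cfsg.Statements.S4484
import Cfsg.Agent.Jordan.Sixty
import Cfsg.Agent.Chars.Values
import Cfsg.Agent.Chars.Construct
import Cfsg.Agent.Chars.Count
import Cfsg.Agent.Blocks.Orth
import Cfsg.Agent.Blocks.Roots
import Cfsg.Agent.Blocks.Feit3
import Cfsg.Agent.InvolutionCount.Basic
import Cfsg.Agent.Jordan.EigCount

set_option autoImplicit false
open Cfsg

namespace Cfsg.Agent.S4484

set_option linter.style.haveILetI false
set_option linter.unusedSectionVars false

open Cfsg.Lib.Chars Cfsg.Lib.Jordan Cfsg.Lib.Blocks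

theorem small_root_sub_one {p : ℕ} {M : Ideal AlgInt} (hM : IsPModular p M) {w : ℂ} (hw : w ^ p = 1) :
    Small M (w - 1) := by
  have hp := hM.1
  have hwm : w ∈ place M := (isUnitAt_of_pow_eq_one hM hp.ne_zero hw).mem_place
  let a : place M := ⟨w - 1, sub_mem hwm (one_mem _)⟩
  obtain ⟨r, hr⟩ := exists_add_pow_prime_eq hp a 1
  have h1 : (w - 1) ^ p = -((p : ℂ) * (w - 1) * 1 * (r : ℂ)) := by
    have h := congrArg (fun z : place M => (z : ℂ)) hr
    simp only [a] at h
    push_cast at h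
    rw [sub_add_cancel, hw, one_pow] at h
    linear_combination -h
  have h2 : Small M ((w - 1) ^ p) := by
    rw [h1]
    exact (((small_prime hM).mul_mem a.2).mul_mem (one_mem _)).mul_mem r.2 |>.neg
  rw [Lib.Blocks.small_iff, map_pow] at h2
  rw [Lib.Blocks.small_iff]
  by_contra hge
  exact (one_le_pow₀ (not_lt.1 hge)).not_gt h2

theorem norm_root_sub_lt {p : ℕ} (hp : 0 < p) {ζ : ℂ} (hζ : ζ = Complex.exp (2 * Real.pi * Complex.I / p))
    {A B : ℕ} (h1 : 6 * A < 6 * B + p) (h2 : 6 * B < 6 * A + p) : ‖ζ ^ A - ζ ^ B‖ < 1 := by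
  wlog hle : B ≤ A generalizing A B
  · rw [norm_sub_rev]; exact this h2 h1 (le_of_not_ge hle)
  obtain ⟨D, rfl⟩ := Nat.exists_eq_add_of_le hle
  have hn : ‖ζ‖ = 1 := by
    rw [hζ]
    refine Complex.norm_eq_one_of_pow_eq_one ((Complex.isPrimitiveRoot_exp p hp.ne').pow_eq_one) hp.ne'
  rw [pow_add, ← mul_sub_one, norm_mul, norm_pow, hn, one_pow, one_mul]
  have e : ζ ^ D = Complex.exp (Complex.I * ((2 * Real.pi * D / p : ℝ) : ℂ)) := by
    rw [hζ, ← Complex.exp_nat_mul]
    congr 1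
    push_cast
    ring
  rw [e, Complex.norm_exp_I_mul_ofReal_sub_one, Real.norm_eq_abs]
  have hθ : 2 * Real.pi * D / p / 2 < Real.pi / 6 := by
    have h3 : (6 : ℝ) * D < p := by exact_mod_cast (show 6 * D < p by omega)
    rw [div_div, div_lt_div_iff₀ (by positivity) (by norm_num)]
    nlinarith [Real.pi_pos]
  have hθ0 : 0 ≤ 2 * Real.pi * D / p / 2 := by positivity
  have hs := Real.sin_lt_sin_of_lt_of_le_pi_div_two (x := 2 * Real.pi * D / p / 2) (y := Real.pi / 6)
    (by linarith [Real.pi_pos]) (by linarith [Real.pi_pos]) hθ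
  rw [Real.sin_pi_div_six] at hs
  have hs0 : 0 ≤ Real.sin (2 * Real.pi * D / p / 2) :=
    Real.sin_nonneg_of_nonneg_of_le_pi hθ0 (by linarith [Real.pi_pos])
  rw [abs_of_nonneg (by positivity)]
  linarith

/-- A refinement of Burnside's result on simple groups of order divisible by only two primes. Let G be a finite simple group of order p^a · q^b · g₀ with p, q distinct primes, a > 0, g₀ coprime to p and q, and the order of G different from p. Then g₀ − 1 > log p / log 6, that is 6^(g₀ − 1) > p. -/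
theorem result {G : Type*} [Group G] [Finite G] [IsSimpleGroup G] (p q a b g₀ : ℕ) (hp : p.Prime) (hq : q.Prime) (hpq : p ≠ q) (ha : 0 < a) (hg : Nat.card G = p ^ a * q ^ b * g₀) (hcop : ¬ p ∣ g₀) (hcoq : ¬ q ∣ g₀) (hne : Nat.card G ≠ p) : p < 6 ^ (g₀ - 1) := by
  classical
  letI := Fintype.ofFinite G
  haveI := Fact.mk hp
  by_contra hlarge
  rw [not_lt] at hlarge
  have hg0 : g₀ ≠ 0 := fun h => Nat.card_pos.ne' (by rw [hg, h, mul_zero] : Nat.card G = 0)
  have hstrict : 6 ^ (g₀ - 1) < p := by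
    refine lt_of_le_of_ne hlarge fun h => ?_
    rcases Nat.eq_zero_or_pos (g₀ - 1) with h0 | h0
    · rw [h0, pow_zero] at h; exact hp.ne_one h.symm
    · have h2 : 2 ∣ p := h ▸ dvd_pow (by norm_num) h0.ne'
      have h3 : 3 ∣ p := h ▸ dvd_pow (by norm_num) h0.ne'
      have := (Nat.prime_dvd_prime_iff_eq Nat.prime_two hp).1 h2
      omega
  have hpG : p ∣ Nat.card G := by
    rw [hg]; exact Dvd.dvd.mul_right (Dvd.dvd.mul_right (dvd_pow_self p ha.ne') _) _
  have hcen : Subgroup.center G = ⊥ := by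
    refine (IsSimpleGroup.eq_bot_or_eq_top_of_normal _ inferInstance).resolve_right fun htop => ?_
    letI : CommGroup G := Group.commGroupOfCenterEqTop htop
    haveI : IsSimpleGroup G := ‹_›
    exact hne ((Nat.prime_dvd_prime_iff_eq hp (IsSimpleGroup.prime_card (α := G))).1 hpG).symm
  -- a central element of order p of a Sylow subgroup
  obtain ⟨P⟩ : Nonempty (Sylow p G) := inferInstance
  haveI : Nontrivial (P : Subgroup G) := Finite.one_lt_card_iff_nontrivial.1 (by
    rw [P.card_eq_multiplicity]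
    exact Nat.one_lt_pow (hp.factorization_pos_of_dvd Nat.card_pos.ne' hpG).ne' hp.one_lt)
  haveI := P.2.center_nontrivial
  obtain ⟨z, hz⟩ := exists_prime_orderOf_dvd_card' (G := Subgroup.center (P : Subgroup G)) p
    ((IsPGroup.card_eq_or_dvd (P.2.to_subgroup (Subgroup.center (P : Subgroup G)))).resolve_left
      Finite.one_lt_card.ne')
  set x : G := ((z : (P : Subgroup G)) : G) with hxdef
  have hx : orderOf x = p := by rw [hxdef, Subgroup.orderOf_coe, Subgroup.orderOf_coe, hz]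
  have hxp : x ^ p = 1 := hx ▸ pow_orderOf_eq_one x
  have hidx : ∀ k : ℕ, ¬ p ∣ (Subgroup.centralizer ({x ^ k} : Set G)).index := fun k h => by
    refine P.not_dvd_index (h.trans (Subgroup.index_dvd_of_le fun y hy => ?_))
    refine Subgroup.mem_centralizer_singleton_iff.2 ?_
    have h1 : Commute y x := congrArg Subtype.val (Subgroup.mem_center_iff.1 z.2 ⟨y, hy⟩)
    exact (h1.pow_right k).eq
  obtain ⟨M, hM⟩ := exists_isPModular hp
  obtain ⟨Mq, hMq⟩ := exists_isPModular hq
  -- a character of the principal block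
  have hpB : principal G ∈ principalBlock M G := fun g => ⟨0, 1, M.zero_mem,
    fun h => hM.2.1.ne_top ((Ideal.eq_top_iff_one M).2 h), by simp [principal]⟩
  obtain ⟨χ, hχB, hχ1, hχq⟩ : ∃ χ : Cfsg.IrrCharacter G, χ ∈ principalBlock M G ∧ χ ≠ principal G ∧
      ¬ q ∣ Cfsg.charDegree (χ : G → ℂ) := by
    by_contra hall
    push Not at hall
    have hB : IsPBlock M (principalBlock M G) := isPBlock_blockOf (principal G)
    have horth := block_orthogonality hM hB (g := x) (h := 1) (x := x) (y := 1)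
      (isPPart_self hp ⟨1, by rw [hx, pow_one]⟩)
      ((isPPart_one_iff hp).2 (by rw [orderOf_one]; exact hp.not_dvd_one))
      (fun hc => by
        have h1 : x = 1 := by
          obtain ⟨w, hw⟩ := isConj_iff.1 hc
          rw [mul_inv_eq_one] at hw
          exact mul_left_cancel (hw.trans (mul_one w).symm)
        rw [h1, orderOf_one] at hx
        exact hp.ne_one hx.symm)
    rw [← Finset.add_sum_erase _ _ (Finset.mem_filter.2 ⟨Finset.mem_univ _, hpB⟩)] at horth
    have hs : Small Mq (∑ χ ∈ (Finset.univ.filter (· ∈ principalBlock M G)).erase (principal G),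
        (χ : G → ℂ) x * (χ : G → ℂ) (1 : G)⁻¹) := by
      refine small_sum _ _ fun χ hχ => ?_
      obtain ⟨h1, h2⟩ := Finset.mem_erase.1 hχ
      rw [inv_one, irr_apply_one_eq_deg χ]
      exact Small.mem_mul (small_natCast hMq (hall χ (Finset.mem_filter.1 h2).2 h1))
        (isIntegral_mem_place hMq (by
          obtain ⟨n, ρ, -, he⟩ := χ.2
          rw [← he]; exact isIntegral_character ρ x))
    refine not_small_one (M := Mq) ?_
    have h1 : (1 : ℂ) = -∑ χ ∈ (Finset.univ.filter (· ∈ principalBlock M G)).erase (principal G),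
        (χ : G → ℂ) x * (χ : G → ℂ) (1 : G)⁻¹ := by
      simp only [principal, mul_one] at horth ⊢
      linear_combination horth
    rw [h1]
    exact hs.neg
  obtain ⟨n, ρ, hρ, hρχ⟩ := χ.2
  haveI := hρ
  have hn : Cfsg.charDegree (χ : G → ℂ) = n := by
    rw [← hρχ]; exact (deg_character ρ).trans (Module.finrank_fin_fun ℂ)
  have hn0 : n ≠ 0 := by
    have := finrank_pos_of_irreducible ρ
    rw [Module.finrank_fin_fun] at this
    omega
  have hinj : Function.Injective ρ := by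
    rw [injective_iff_map_eq_one]
    intro g hg'
    let K : Subgroup G :=
      { carrier := {g | ρ g = 1}
        one_mem' := map_one ρ
        mul_mem' := fun {a b} ha hb => by show ρ (a * b) = 1; rw [map_mul, ha, hb, one_mul]
        inv_mem' := fun {a} ha => by
          show ρ a⁻¹ = 1
          have h := map_mul ρ a⁻¹ a
          rwa [inv_mul_cancel, map_one, ha, mul_one, eq_comm] at h }
    haveI : K.Normal := ⟨fun a ha b => by
      show ρ (b * a * b⁻¹) = 1
      rw [map_mul, map_mul, show ρ a = 1 from ha, mul_one, ← map_mul, mul_inv_cancel, map_one]⟩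
    refine Subgroup.mem_bot.1 ((IsSimpleGroup.eq_bot_or_eq_top_of_normal K inferInstance).resolve_right ?_ ▸
      (show g ∈ K from hg'))
    intro htop
    have hconst : (χ : G → ℂ) = fun _ => (n : ℂ) := funext fun a => by
      rw [← hρχ, Representation.character, show ρ a = 1 from (htop ▸ Subgroup.mem_top a : a ∈ K)]
      simp [LinearMap.trace_one]
    have h1 := classInner_self_irr χ.2
    rw [hconst, classInner_self, Complex.ofReal_eq_one] at h1
    simp only [Complex.norm_natCast, Finset.sum_const, Finset.card_univ, nsmul_eq_mul,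
      Nat.card_eq_fintype_card] at h1
    rw [← mul_assoc, inv_mul_cancel₀ (Nat.cast_ne_zero.2 Fintype.card_ne_zero), one_mul] at h1
    have hn1 : n = 1 := Nat.pow_left_injective two_ne_zero ((show n ^ 2 = 1 by exact_mod_cast h1).trans (one_pow 2).symm)
    exact hχ1 (Subtype.ext (by rw [hconst, hn1]; simp [principal]))
  set i := n.factorization p with hi
  set g' := n / p ^ i with hg'
  have hng : p ^ i * g' = n := Nat.ordProj_mul_ordCompl_eq_self n p
  have hg'le : g' ≤ g₀ := by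
    refine Nat.le_of_dvd (Nat.pos_of_ne_zero hg0) ?_
    have h1 : g' ∣ p ^ a * q ^ b * g₀ := hg ▸ (Dvd.intro_left _ hng).trans (hn ▸ Cfsg.Lib.InvolutionCount.deg_dvd_card χ)
    refine (Nat.Coprime.dvd_mul_left (Nat.Coprime.mul_right ?_ ?_)).1 h1
    · exact Nat.Coprime.pow_right a ((hp.coprime_iff_not_dvd.2 (Nat.not_dvd_ordCompl hp hn0)).symm)
    · exact Nat.Coprime.pow_right b ((hq.coprime_iff_not_dvd.2 (fun h => hχq (hn ▸ h.trans (Dvd.intro_left _ hng)))).symm)
  have hpi : ((p : ℂ) ^ i) ≠ 0 := pow_ne_zero _ (Nat.cast_ne_zero.2 hp.ne_zero)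
  have hnC : (n : ℂ) = (p : ℂ) ^ i * g' := by exact_mod_cast hng.symm
  have hα : ∀ k : ℕ, Small M (ρ.character (x ^ k) / (p : ℂ) ^ i - g') := by
    intro k
    set h := (Subgroup.centralizer ({x ^ k} : Set G)).index with hh
    have hu := isUnitAt_natCast hM (hidx k)
    set ω := (h : ℂ) * ρ.character (x ^ k) / (n : ℂ) with hω
    have hωh : Small M (ω - h) := by
      have h1 := (small_of_memLocalIdeal hM (hχB (x ^ k))).neg
      rw [Cfsg.centralChar, Cfsg.centralChar, ← hρχ, ρ.char_one, Module.finrank_fin_fun, ← hh, mul_one,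
        div_one, neg_sub] at h1
      exact h1
    have he : ρ.character (x ^ k) / (p : ℂ) ^ i - g' = (g' : ℂ) * (ω - h) * (h : ℂ)⁻¹ := by
      have hh0 : (h : ℂ) ≠ 0 := hu.ne_zero
      have hg0' : (g' : ℂ) ≠ 0 := Nat.cast_ne_zero.2 fun h0 => hn0 (by rw [← hng, h0, mul_zero])
      rw [hω, hnC]
      field_simp
    rw [he]
    exact (hωh.mem_mul (natCast_mem_place g')).mul_mem hu.inv.mem_place
  have hroot : ∀ t ∈ eigs ρ x, t ^ p = 1 := fun t ht => pow_eq_one_of_mem_eigs ρ hxp ht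
  -- multiplicities are divisible by `p ^ i`
  have hdiv : ∀ t ∈ eigs ρ x, p ^ i ∣ (eigs ρ x).count t := by
    intro t ht
    have hc := count_eigs ρ x (z := t) (by rw [hx]; exact hroot t ht)
    rw [hx] at hc
    have ht' : (t⁻¹) ^ p = 1 := by rw [inv_pow, hroot t ht, inv_one]
    have hs : Small M (((eigs ρ x).count t : ℂ) * p / (p : ℂ) ^ i) := by
      rw [hc, Finset.sum_div]
      have h1 : Small M (∑ k ∈ Finset.range p, ((t⁻¹) ^ k * ρ.character (x ^ k) / (p : ℂ) ^ i - g')) := by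
        refine small_sum _ _ fun k _ => ?_
        have hk1 : ((t⁻¹) ^ k) ^ p = 1 := by rw [← pow_mul, mul_comm, pow_mul, ht', one_pow]
        have hk2 := (isUnitAt_of_pow_eq_one hM hp.ne_zero hk1).mem_place
        have : (t⁻¹) ^ k * ρ.character (x ^ k) / (p : ℂ) ^ i - g' =
            (t⁻¹) ^ k * (ρ.character (x ^ k) / (p : ℂ) ^ i - g') + ((t⁻¹) ^ k - 1) * g' := by ring
        rw [this]
        exact ((hα k).mem_mul hk2).add ((small_root_sub_one hM hk1).mul_mem (natCast_mem_place g'))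
      rw [Finset.sum_sub_distrib, Finset.sum_const, Finset.card_range, nsmul_eq_mul] at h1
      have h2 := h1.add ((small_prime hM).mul_mem (natCast_mem_place g'))
      rwa [sub_add_cancel] at h2
    have hc0 : (eigs ρ x).count t ≠ 0 := Multiset.count_ne_zero.2 ht
    rw [Lib.Blocks.small_iff, map_div₀, map_pow,
      div_lt_one₀ (pow_pos (valuation_prime_pos hM) i), ← Nat.cast_mul,
      valuation_natCast hM (mul_ne_zero hc0 hp.ne_zero), valuation_prime_pow_lt_iff hM,
      Nat.factorization_mul hc0 hp.ne_zero, Finsupp.add_apply, hp.factorization_self] at hs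
    exact (hp.pow_dvd_iff_le_factorization hc0).2 (by omega)
  set T := (eigs ρ x).toFinset with hT
  have hTcard : T.card ≤ g' := by
    refine Nat.le_of_mul_le_mul_left (c := p ^ i) ?_ (pow_pos hp.pos i)
    rw [hng, mul_comm, ← smul_eq_mul, ← Finset.sum_const]
    refine (Finset.sum_le_sum fun t ht => Nat.le_of_dvd ?_ (hdiv t (Multiset.mem_toFinset.1 ht))).trans ?_
    · exact Multiset.count_pos.2 (Multiset.mem_toFinset.1 ht)
    · rw [Multiset.toFinset_sum_count_eq, card_eigs, Module.finrank_fin_fun]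
  obtain ⟨t₀, ht₀⟩ : T.Nonempty := by
    rw [hT, Multiset.toFinset_nonempty, ← Multiset.card_pos, card_eigs, Module.finrank_fin_fun]
    omega
  have ht₀p : t₀ ^ p = 1 := hroot t₀ (Multiset.mem_toFinset.1 ht₀)
  have ht₀0 : t₀ ≠ 0 := by intro h; rw [h, zero_pow hp.ne_zero] at ht₀p; exact zero_ne_one ht₀p
  set ζ := Complex.exp (2 * Real.pi * Complex.I / p) with hζdef
  have hζ : IsPrimitiveRoot ζ p := Complex.isPrimitiveRoot_exp p hp.ne_zero
  haveI : NeZero p := ⟨hp.ne_zero⟩
  have hex : ∀ t ∈ T, ∃ e, e < p ∧ ζ ^ e = t / t₀ := fun t ht =>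
    hζ.eq_pow_of_pow_eq_one (by rw [div_pow, hroot t (Multiset.mem_toFinset.1 ht), ht₀p, div_one])
  choose! e he1 he using hex
  have hA : ∀ (k : ℕ) (t : ℂ), 6 * (k * e t % p) / p < 6 := fun k t => by
    rw [Nat.div_lt_iff_lt_mul hp.pos]
    exact Nat.mul_lt_mul_of_pos_left (Nat.mod_lt _ hp.pos) (by norm_num)
  let f : Fin p → (↥(T.erase t₀) → Fin 6) := fun k t => ⟨_, hA k t⟩
  obtain ⟨k, l, hkl, hfkl⟩ := Fintype.exists_ne_map_eq_of_card_lt f (by
    rw [Fintype.card_fun, Fintype.card_fin, Fintype.card_coe, Finset.card_erase_of_mem ht₀, Fintype.card_fin]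
    exact (Nat.pow_le_pow_right (by norm_num) (by omega)).trans_lt hstrict)
  set y := x ^ (k : ℕ) * (x ^ (l : ℕ))⁻¹ with hy
  have hy1 : y ≠ 1 := fun h => hkl (Fin.ext (pow_injOn_Iio_orderOf (hx.symm ▸ k.2 : (k : ℕ) < orderOf x)
    (hx.symm ▸ l.2 : (l : ℕ) < orderOf x) (mul_inv_eq_one.1 h)))
  have hyp : y ^ p = 1 := by
    rw [hy, ((Commute.pow_pow_self x (k : ℕ) (l : ℕ)).inv_right).mul_pow, inv_pow, ← pow_mul, ← pow_mul,
      mul_comm (k : ℕ), mul_comm (l : ℕ), pow_mul, pow_mul, hxp, one_pow, one_pow, inv_one, one_mul]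
  have hyv : ∀ (t : ℂ) (v : Fin n → ℂ), t ≠ 0 → ρ x v = t • v →
      ρ y v = (t ^ (k : ℕ) / t ^ (l : ℕ)) • v := by
    intro t v ht hv
    have hpw : ∀ j : ℕ, ρ (x ^ j) v = t ^ j • v := fun j => by
      induction j with
      | zero => simp
      | succ j ih => rw [pow_succ', map_mul, Module.End.mul_apply, ih, map_smul, hv, smul_smul, ← pow_succ]
    have h1 : ρ (x ^ (l : ℕ))⁻¹ v = (t ^ (l : ℕ))⁻¹ • v := by
      have h := rep_inv_apply ρ (x ^ (l : ℕ)) v
      rw [hpw, map_smul] at h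
      rw [eq_inv_smul_iff₀ (pow_ne_zero _ ht)]; exact h
    rw [hy, map_mul, Module.End.mul_apply, h1, map_smul, hpw, smul_smul, inv_mul_eq_div]
  have hclose : ∀ t ∈ T, ‖t ^ (k : ℕ) / t ^ (l : ℕ) - t₀ ^ (k : ℕ) / t₀ ^ (l : ℕ)‖ < 1 := by
    intro t ht
    by_cases heq : t = t₀
    · rw [heq, sub_self, norm_zero]; exact one_pos
    have hft : 6 * ((k : ℕ) * e t % p) / p = 6 * ((l : ℕ) * e t % p) / p :=
      congrArg Fin.val (congrFun hfkl ⟨t, Finset.mem_erase.2 ⟨heq, ht⟩⟩)
    have hte : ∀ j : ℕ, t ^ j = t₀ ^ j * ζ ^ (j * e t % p) := fun j => by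
      have h1 : t = t₀ * ζ ^ e t := by rw [he t ht, mul_div_cancel₀ _ ht₀0]
      conv_lhs => rw [h1]
      rw [mul_pow, ← pow_mul, mul_comm (e t) j, ← pow_mod_orderOf ζ, ← hζ.eq_orderOf]
    have hζn : ‖ζ‖ = 1 := Complex.norm_eq_one_of_pow_eq_one hζ.pow_eq_one hp.ne_zero
    have hζ0 : ζ ≠ 0 := hζ.ne_zero hp.ne_zero
    have ht₀n : ‖t₀‖ = 1 := Complex.norm_eq_one_of_pow_eq_one ht₀p hp.ne_zero
    rw [hte, hte, mul_div_mul_comm, ← mul_sub_one, norm_mul, norm_div, norm_pow, norm_pow, ht₀n, one_pow,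
      one_pow, div_one, one_mul, div_sub_one (pow_ne_zero _ hζ0), norm_div, norm_pow, hζn, one_pow, div_one]
    have d1 := Nat.div_add_mod (6 * ((k : ℕ) * e t % p)) p
    have d2 := Nat.div_add_mod (6 * ((l : ℕ) * e t % p)) p
    have m1 := Nat.mod_lt (6 * ((k : ℕ) * e t % p)) hp.pos
    have m2 := Nat.mod_lt (6 * ((l : ℕ) * e t % p)) hp.pos
    rw [hft] at d1
    exact norm_root_sub_lt hp.pos hζdef (by omega) (by omega)
  set c := t₀ ^ (k : ℕ) / t₀ ^ (l : ℕ) with hc
  obtain ⟨tm, htm, hmax⟩ := Finset.exists_max_image T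
    (fun t => ‖t ^ (k : ℕ) / t ^ (l : ℕ) - c‖) ⟨t₀, ht₀⟩
  have hmemT : ∀ (t : ℂ) (v : Fin n → ℂ), v ≠ 0 → ρ x v = t • v → t ∈ T := fun t v hv hxv => by
    rw [hT, Multiset.mem_toFinset, eigs, Polynomial.mem_roots (LinearMap.charpoly_monic _).ne_zero,
      ← Module.End.hasEigenvalue_iff_isRoot_charpoly]
    exact Module.End.hasEigenvalue_of_hasEigenvector ⟨Module.End.mem_eigenspace_iff.2 hxv, hv⟩
  have hB : Bound ρ y c ‖tm ^ (k : ℕ) / tm ^ (l : ℕ) - c‖ := by
    refine bound_of_eigen ρ hp.ne_zero hyp hζ (norm_nonneg _) fun j _ ⟨v, hv⟩ => ?_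
    have hjp : (ζ ^ j) ^ p = 1 := by rw [← pow_mul, mul_comm, pow_mul, hζ.pow_eq_one, one_pow]
    set w := proj ρ y p (ζ ^ j) v
    have hyw : ρ y w = ζ ^ j • w := rep_proj ρ hyp hjp v
    obtain ⟨s, -, hs⟩ := Finset.exists_ne_zero_of_sum_ne_zero ((sum_proj ρ hp.ne_zero hζ (g := x) w).symm ▸ hv)
    have hsp : (ζ ^ s) ^ p = 1 := by rw [← pow_mul, mul_comm, pow_mul, hζ.pow_eq_one, one_pow]
    have hxu := rep_proj ρ hxp hsp w
    set u := proj ρ x p (ζ ^ s) w with hu
    have hyu : ρ y u = ζ ^ j • u := by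
      have hcom : Commute y x := ((Commute.self_pow x _).mul_right (Commute.self_pow x _).inv_right).symm
      simp only [hu, proj, LinearMap.smul_apply, LinearMap.sum_apply, map_smul, map_sum]
      rw [smul_comm (ζ ^ j), Finset.smul_sum (r := ζ ^ j)]
      congr 1
      refine Finset.sum_congr rfl fun i _ => ?_
      rw [← Module.End.mul_apply, ← map_mul, (hcom.pow_right i).eq, map_mul, Module.End.mul_apply, hyw,
        map_smul, smul_comm]
    have hsT := hmemT _ u hs hxu
    have heqj : ζ ^ j = (ζ ^ s) ^ (k : ℕ) / (ζ ^ s) ^ (l : ℕ) :=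
      smul_left_injective ℂ hs (hyu.symm.trans (hyv _ u (pow_ne_zero _ (hζ.ne_zero hp.ne_zero)) hxu))
    rw [heqj]
    exact hmax _ hsT
  obtain ⟨v₀, hv₀⟩ : ∃ v, Module.End.HasEigenvector (ρ x) t₀ v := by
    have hr := (Polynomial.mem_roots'.1 (Multiset.mem_toFinset.1 ht₀ : t₀ ∈ (LinearMap.charpoly (ρ x)).roots)).2
    rw [← Module.End.hasEigenvalue_iff_isRoot_charpoly] at hr
    exact hr.exists_hasEigenvector
  have hgen : Subgroup.normalClosure ({y} : Set G) = ⊤ :=
    (IsSimpleGroup.eq_bot_or_eq_top_of_normal _ inferInstance).resolve_left fun h =>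
      hy1 (Subgroup.mem_bot.1 (h ▸ Subgroup.subset_normalClosure (Set.mem_singleton y)))
  have hscal := scalar_of_sixty ρ hp.ne_zero hyp (c := c)
    (by rw [hc, div_pow, ← pow_mul, ← pow_mul, mul_comm (k : ℕ), mul_comm (l : ℕ), pow_mul, pow_mul, ht₀p,
      one_pow, one_pow, div_one])
    hv₀.2 (hyv t₀ v₀ ht₀0 hv₀.apply_eq_smul) (norm_nonneg _) (hclose tm htm) hB hgen
  have hyc : y ∈ Subgroup.center G := Subgroup.mem_center_iff.2 fun g => hinj (LinearMap.ext fun v => by
    rw [map_mul ρ g y, map_mul ρ y g, Module.End.mul_apply, Module.End.mul_apply, hscal, map_smul, hscal])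
  rw [hcen, Subgroup.mem_bot] at hyc
  exact hy1 hyc

end Cfsg.Agent.S4484
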