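import Cfsg.Statements.S4485
import Cfsg.Agent.Chars.StarSylow
-- import your own Cfsg.Agent.* helpers here

set_option autoImplicit false
open Cfsg

namespace Cfsg.Agent.S4485

set_option linter.unusedSectionVars false

open Cfsg.Lib.Chars Cfsg.Lib.Chars.StarSylow

universe u

theorem normal_aux : ∀ (k : ℕ) (G : Type u) [Group G] [Finite G], Nat.card G = k → ∀ (p : ℕ),
    p.Prime → ∀ (P : Sylow p G),
    (∀ x ∈ (P : Subgroup G), x ≠ 1 → Subgroup.centralizer ({x} : Set G) =
      Subgroup.centralizer ((P : Subgroup G) : Set G)) →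
    ∀ χ : G → ℂ, Cfsg.IsCharacter G χ → (∀ g : G, χ g = χ 1 → g = 1) →
    Cfsg.charDegree χ ^ 2 + 1 < Nat.card P → (P : Subgroup G).Normal := by
  intro k
  induction k using Nat.strong_induction_on with
  | _ k ih =>
  intro G _ _ hk p hp P hstar χ hχ hfaith hdeg
  classical
  haveI := Fact.mk hp
  letI := Fintype.ofFinite G
  rcases em (∃ K : Subgroup G, K.Normal ∧ K ≠ ⊤ ∧ (P : Subgroup G) ≤ K) with ⟨K, hKn, hKne, hle⟩ | hK
  · haveI := hKn
    have hlt : Nat.card K < k := hk ▸ lt_of_not_ge fun hge =>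
      hKne (Subgroup.eq_top_of_card_eq K (le_antisymm (Subgroup.card_le_card_group K) hge))
    have hcardK : Nat.card (P.subtype hle : Subgroup K) = Nat.card P :=
      Nat.card_congr (Subgroup.subgroupOfEquivOfLe hle).toEquiv
    have hnK := ih _ hlt K rfl p hp (P.subtype hle) (fun x hx hx1 => ?_) (fun x => χ x)
      (IsCharacter.restrict hχ K) (fun g hg => Subtype.ext (hfaith g hg))
      (by rw [hcardK]; exact hdeg)
    · rw [← Subgroup.normalizer_eq_top_iff, eq_top_iff,
        ← Sylow.normalizer_sup_eq_top (P.subtype hle)]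
      have hmap : (P.subtype hle : Subgroup K).map K.subtype = (P : Subgroup G) := by
        rw [Sylow.coe_subtype, Subgroup.map_subgroupOf_eq_of_le hle]
      refine sup_le ?_ fun g hg => ?_
      · rw [hmap]
      · refine Subgroup.mem_normalizer_iff.2 fun z => ?_
        have key : ∀ w : K, ∀ y ∈ (P : Subgroup G), (w : G) * y * (w : G)⁻¹ ∈ (P : Subgroup G) :=
          fun w y hy => hnK.conj_mem ⟨y, hle hy⟩ hy w
        refine ⟨key ⟨g, hg⟩ z, fun hz => ?_⟩
        simpa [mul_assoc] using key ⟨g⁻¹, K.inv_mem hg⟩ _ hz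
    · have h1 := hstar (x : G) hx fun e => hx1 (Subtype.ext e)
      ext c
      rw [Subgroup.mem_centralizer_singleton_iff, Subgroup.mem_centralizer_iff, Subtype.ext_iff,
        Subgroup.coe_mul, Subgroup.coe_mul, ← Subgroup.mem_centralizer_singleton_iff, h1,
        Subgroup.mem_centralizer_iff]
      exact ⟨fun H y hy => Subtype.ext (H y hy), fun H y hy => congrArg Subtype.val (H ⟨y, hle hy⟩ hy)⟩
  · push Not at hK
    have htop : ∀ K : Subgroup G, K.Normal → (P : Subgroup G) ≤ K → K = ⊤ := fun K hKn hle =>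
      by_contra fun hne => hK K hKn hne hle
    obtain ⟨m, hm⟩ := IsCharacter.exists_decomp hχ
    have hdegle : ∀ ψ : Cfsg.IrrCharacter G, m ψ ≠ 0 → deg (ψ : G → ℂ) ≤ deg χ := by
      intro ψ hψ
      have h1 : deg χ = ∑ φ, m φ * deg (φ : G → ℂ) := by
        have h2 := congrFun hm 1
        rw [IsCharacter.apply_one_eq_deg hχ, Finset.sum_apply] at h2
        simp only [Pi.smul_apply, nsmul_eq_mul, irr_apply_one_eq_deg] at h2
        exact_mod_cast h2
      rw [h1]
      exact (Nat.le_mul_of_pos_left _ (Nat.pos_of_ne_zero hψ)).trans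
        (Finset.single_le_sum (f := fun φ : Cfsg.IrrCharacter G => m φ * deg (φ : G → ℂ))
          (fun φ _ => Nat.zero_le _) (Finset.mem_univ ψ))
    have hlin : ∀ ψ : Cfsg.IrrCharacter G, m ψ ≠ 0 → (ψ : G → ℂ) 1 = 1 := by
      intro ψ hψ
      by_cases h1 : (ψ : G → ℂ) = fun _ => 1
      · rw [h1]
      · exact linear_of_closure_top P hstar htop ψ h1
          (lt_of_le_of_lt (Nat.add_le_add_right (Nat.pow_le_pow_left (hdegle ψ hψ) 2) 1) hdeg)
    have hcomm : ∀ a b : G, a * b = b * a := by
      intro a b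
      rw [← mul_inv_eq_one, mul_inv_rev]
      refine hfaith _ ?_
      simp only [hm, Finset.sum_apply, Pi.smul_apply]
      refine Finset.sum_congr rfl fun ψ _ => ?_
      rcases eq_or_ne (m ψ) 0 with h0 | h0
      · simp [h0]
      · obtain ⟨f, hf⟩ := exists_hom_of_deg_one (isCharacter_of_irr ψ.2) (hlin ψ h0)
        congr 1
        simp only [hf, map_mul, map_inv, map_one]
        norm_cast
        rw [mul_comm (f a) (f b)]
        group
    exact ⟨fun z hz g => by rw [hcomm g z, mul_inv_cancel_right]; exact hz⟩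

/-- Let G be a finite group and p a prime dividing its order such that every non-identity element of a Sylow p-subgroup P has the same centralizer as P itself (so P is abelian); let p^n be the order of P. If G has a faithful character of degree x with x² < p^n − 1, then P is normal in G. -/
theorem result {G : Type*} [Group G] [Finite G] (p : ℕ) (hp : p.Prime) (hpG : p ∣ Nat.card G) (P : Sylow p G) (hstar : ∀ x ∈ (P : Subgroup G), x ≠ 1 → Subgroup.centralizer ({x} : Set G) = Subgroup.centralizer ((P : Subgroup G) : Set G)) (n : ℕ) (hn : Nat.card P = p ^ n) (χ : G → ℂ) (hχ : Cfsg.IsCharacter G χ) (hfaith : ∀ g : G, χ g = χ 1 → g = 1) (hdeg : Cfsg.charDegree χ ^ 2 + 1 < p ^ n) : (P : Subgroup G).Normal := by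
  exact normal_aux (Nat.card G) G rfl p hp P hstar χ hχ hfaith (by rw [hn]; exact hdeg)

end Cfsg.Agent.S4485
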