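import Cfsg.Statements.S4486
import Cfsg.Agent.Chars.StarSylow
-- import your own Cfsg.Agent.* helpers here

set_option autoImplicit false
open Cfsg

namespace Cfsg.Agent.S4486

set_option linter.unusedSectionVars false

open Cfsg.Lib.Chars Cfsg.Lib.Chars.StarSylow

/-- Let G be a finite group and p a prime dividing its order such that every non-identity element of a Sylow p-subgroup P has the same centralizer as P; let p^n be the order of P. If G has a non-principal irreducible character χ of degree x with x² < p^n − 1, then either G has a proper normal subgroup containing P, or G has a normal subgroup of index p^n and x = 1. -/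
theorem result {G : Type*} [Group G] [Finite G] (p : ℕ) (hp : p.Prime) (hpG : p ∣ Nat.card G) (P : Sylow p G) (hstar : ∀ x ∈ (P : Subgroup G), x ≠ 1 → Subgroup.centralizer ({x} : Set G) = Subgroup.centralizer ((P : Subgroup G) : Set G)) (n : ℕ) (hn : Nat.card P = p ^ n) (χ : Cfsg.IrrCharacter G) (h1 : (χ : G → ℂ) ≠ fun _ => 1) (hdeg : Cfsg.charDegree (χ : G → ℂ) ^ 2 + 1 < p ^ n) : (∃ K : Subgroup G, K.Normal ∧ K ≠ ⊤ ∧ (P : Subgroup G) ≤ K) ∨ ((∃ N : Subgroup G, N.Normal ∧ N.index = p ^ n) ∧ Cfsg.charDegree (χ : G → ℂ) = 1) := by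
  classical
  haveI := Fact.mk hp
  letI := Fintype.ofFinite G
  rcases em (∃ K : Subgroup G, K.Normal ∧ K ≠ ⊤ ∧ (P : Subgroup G) ≤ K) with hK | hK
  · exact Or.inl hK
  push Not at hK
  have htop : ∀ K : Subgroup G, K.Normal → (P : Subgroup G) ≤ K → K = ⊤ := fun K hKn hle =>
    by_contra fun hne => hK K hKn hne hle
  have hlin := linear_of_closure_top P hstar htop χ h1 (by rw [hn]; exact hdeg)
  refine Or.inr ⟨?_, ?_⟩
  · obtain ⟨f, hf⟩ := exists_hom_of_deg_one (isCharacter_of_irr χ.2) hlin
    have h := setting P hstar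
    have hNC : Subgroup.normalizer ((P : Subgroup G) : Set G) ≤
        Subgroup.centralizer ((P : Subgroup G) : Set G) := by
      intro g hg
      by_contra hgC
      have hα : f.comp (P : Subgroup G).subtype = 1 := by
        by_contra hne
        refine hgC (StarTI.mem_of_act_eq h ⟨g, hg⟩ hne (MonoidHom.ext fun y => ?_))
        show f (g * y * g⁻¹) = f y
        rw [map_mul, map_mul, map_inv, mul_comm (f g), mul_inv_cancel_right]
      refine h1 (eq_one_of_const fun a => ?_)
      have hker := htop f.ker inferInstance fun y hy => by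
        simpa using DFunLike.congr_fun hα ⟨y, hy⟩
      have ha : f a = 1 := (hker ▸ Subgroup.mem_top a : a ∈ f.ker)
      simp [hf, ha]
    refine ⟨(MonoidHom.transferSylow P hNC).ker, MonoidHom.normal_ker _, ?_⟩
    rw [(MonoidHom.ker_transferSylow_isComplement' P hNC).symm.index_eq_card, hn]
  · show deg (χ : G → ℂ) = 1
    simp [deg, hlin]

end Cfsg.Agent.S4486
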