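import Cfsg.Statements.S4493
import Cfsg.Agent.Blocks.ItoDegrees
import Cfsg.Agent.Coprime.Hall
import Mathlib
-- import your own Cfsg.Agent.* helpers here

set_option autoImplicit false
open Cfsg

namespace Cfsg.Agent.S4493

set_option linter.unusedSectionVars false

open Cfsg.Lib.Chars Cfsg.Lib.Blocks

/-- Let G be a finite solvable group and p a prime. Then G has a normal abelian Sylow p-subgroup if and only if no irreducible character degree of G is divisible by p. -/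
theorem result {G : Type*} [Group G] [Finite G] (hsolv : Group.IsSolvable G) (p : ℕ) (hp : p.Prime) : (∃ P : Subgroup G, P.Normal ∧ (∀ x ∈ P, ∀ y ∈ P, x * y = y * x) ∧ IsPGroup p P ∧ ¬ p ∣ P.index) ↔ ∀ χ : Cfsg.IrrCharacter G, ¬ p ∣ Cfsg.charDegree (χ : G → ℂ) := by
  haveI := Fact.mk hp
  obtain ⟨P⟩ := (inferInstance : Nonempty (Sylow p G))
  have hcd : ∀ χ : Cfsg.IrrCharacter G, Cfsg.charDegree (χ : G → ℂ) = deg (χ : G → ℂ) := fun χ => by
    rw [Cfsg.charDegree, irr_apply_one_eq_deg, Complex.natCast_re, Nat.floor_natCast]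
  simp only [hcd]
  rw [← ito_iff (isPSolvable_of_solvable hsolv) P]
  refine ⟨fun ⟨Q, hQn, hQc, hQp, hQi⟩ => ?_, fun ⟨hn, hc⟩ => ⟨P, hn, fun x hx y hy =>
    congrArg Subtype.val (hc.is_comm.comm ⟨x, hx⟩ ⟨y, hy⟩), P.2, P.not_dvd_index⟩⟩
  haveI := hQn
  let Q' : Sylow p G := hQp.toSylow hQi
  haveI : (Q' : Subgroup G).Normal := hQn
  haveI := Sylow.unique_of_normal Q' this
  rw [Subsingleton.elim P Q']
  exact ⟨hQn, ⟨⟨fun a b => Subtype.ext (hQc a a.2 b b.2)⟩⟩⟩

end Cfsg.Agent.S4493
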