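import Cfsg.Statements.S4495
import Cfsg.Agent.Blocks.SelfCentralizing
-- import your own Cfsg.Agent.* helpers here

set_option autoImplicit false
open Cfsg

namespace Cfsg.Agent.S4495

set_option linter.unusedSectionVars false

open Cfsg.Lib.Blocks Cfsg.Lib.Components

/-- Let the finite group G contain an element x of prime order p with C_G(x) = ⟨x⟩, and let t be the number of conjugacy classes of elements of order p. If t ≠ p − 1 then the commutator subgroup has index at most (p − 1)/t; if t = p − 1 it has index exactly p. -/
theorem result {G : Type*} [Group G] [Finite G] (p : ℕ) (hp : p.Prime) (x : G) (hx : orderOf x = p) (hC : Subgroup.centralizer ({x} : Set G) = Subgroup.zpowers x) (t : ℕ) (ht : Nat.card {C : ConjClasses G // ∃ g ∈ C.carrier, orderOf g = p} = t) : (t ≠ p - 1 → (commutator G).index * t ≤ p - 1) ∧ (t = p - 1 → (commutator G).index = p) := by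
  classical
  obtain ⟨h1, h2⟩ := commutator_cases hp hx hC
  refine ⟨fun htne => ?_, fun hteq => (h1 (ht.trans hteq)).1⟩
  obtain ⟨hX, hsup⟩ := h2 (fun h => htne (ht ▸ h))
  have hcount := class_count_mul hp hx hC
  rw [ht] at hcount
  set N := Subgroup.normalizer ((Subgroup.zpowers x : Subgroup G) : Set G)
  have hidx : (commutator G).index = ((commutator G).subgroupOf N).index := by
    rw [← Subgroup.relIndex_top_right, ← hsup, Subgroup.relIndex_sup_right]
    rfl
  have hle : p ≤ Nat.card ((commutator G).subgroupOf N) := by
    rw [← hx, ← Nat.card_zpowers]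
    exact Nat.card_le_card_of_injective
      (fun y : Subgroup.zpowers x =>
        (⟨⟨y.1, Subgroup.le_normalizer y.2⟩, Subgroup.mem_subgroupOf.2 (hX y.2)⟩ : (commutator G).subgroupOf N))
      (fun a b h => Subtype.ext (congrArg (fun z : (commutator G).subgroupOf N => ((z : N) : G)) h))
  refine Nat.le_of_mul_le_mul_right ?_ hp.pos
  calc (commutator G).index * t * p
      ≤ (commutator G).index * t * Nat.card ((commutator G).subgroupOf N) := Nat.mul_le_mul_left _ hle
    _ = t * (((commutator G).subgroupOf N).index * Nat.card ((commutator G).subgroupOf N)) := by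
        rw [hidx]; ring
    _ = t * Nat.card N := by rw [Subgroup.index_mul_card]
    _ = (p - 1) * p := by rw [hcount]; ring

end Cfsg.Agent.S4495
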