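import Cfsg.Statements.S4496
import Mathlib
-- import your own Cfsg.Agent.* helpers here

set_option autoImplicit false
open Cfsg

namespace Cfsg.Agent.S4496

set_option linter.unusedSectionVars false

/-- Let the finite group G contain an element x of prime order p with C_G(x) = ⟨x⟩. Then: (a) every normal subgroup of order divisible by p contains the commutator subgroup; (b) every normal subgroup S of order prime to p has order dividing the number of subgroups of order p of G and congruent to 1 modulo p, and in G/S the image of x again has prime order p and commutes only with its own powers. -/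
theorem result {G : Type*} [Group G] [Finite G] (p : ℕ) (hp : p.Prime) (x : G) (hx : orderOf x = p) (hC : Subgroup.centralizer ({x} : Set G) = Subgroup.zpowers x) (S : Subgroup G) [S.Normal] : (p ∣ Nat.card S → commutator G ≤ S) ∧ (¬ p ∣ Nat.card S → Nat.card S ∣ Nat.card {H : Subgroup G // Nat.card H = p} ∧ Nat.card S % p = 1 ∧ orderOf (QuotientGroup.mk x : G ⧸ S) = p ∧ Subgroup.centralizer ({(QuotientGroup.mk x : G ⧸ S)} : Set (G ⧸ S)) = Subgroup.zpowers (QuotientGroup.mk x : G ⧸ S)) := by
  classical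
  haveI := Fact.mk hp
  set X := Subgroup.zpowers x with hX
  have hXc : Nat.card X = p := by rw [hX, Nat.card_zpowers, hx]
  have hXp : IsPGroup p X := IsPGroup.of_card (n := 1) (by rw [hXc, pow_one])
  obtain ⟨P, hP⟩ := hXp.exists_le_sylow
  have hPX : (P : Subgroup G) = X := by
    refine le_antisymm (fun y hy => ?_) hP
    haveI : Nontrivial (P : Subgroup G) := ⟨⟨⟨x, hP (Subgroup.mem_zpowers x)⟩, 1, fun h => by
      have h1 : x = 1 := congrArg Subtype.val h
      rw [h1, orderOf_one] at hx
      exact hp.one_lt.ne hx⟩⟩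
    have hcn := IsPGroup.center_nontrivial (p := p) (G := (P : Subgroup G)) P.2
    obtain ⟨z, hz⟩ := exists_ne (1 : Subgroup.center (P : Subgroup G))
    have hzC : ((z : (P : Subgroup G)) : G) ∈ X := by
      rw [← hC, Subgroup.mem_centralizer_singleton_iff]
      exact (congrArg Subtype.val
        ((Subgroup.mem_center_iff.1 z.2) ⟨x, hP (Subgroup.mem_zpowers x)⟩)).symm
    have hz1 : ((z : (P : Subgroup G)) : G) ≠ 1 := fun h => hz (Subtype.ext (Subtype.ext h))
    have hzX : Subgroup.zpowers ((z : (P : Subgroup G)) : G) = X := by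
      refine Subgroup.eq_of_le_of_card_ge (Subgroup.zpowers_le.2 hzC) ?_
      rw [hXc]
      rcases (Nat.dvd_prime hp).1 (hXc ▸ Subgroup.card_dvd_of_le (Subgroup.zpowers_le.2 hzC)) with h | h
      · exact absurd (orderOf_eq_one_iff.1 ((Nat.card_zpowers _).symm.trans h)) hz1
      · exact h.ge
    have hx' : x ∈ Subgroup.zpowers ((z : (P : Subgroup G)) : G) := hzX ▸ Subgroup.mem_zpowers x
    obtain ⟨k, hk⟩ := hx'
    rw [← hC, Subgroup.mem_centralizer_singleton_iff, ← hk]
    have h1 : Commute y ((z : (P : Subgroup G)) : G) :=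
      congrArg Subtype.val ((Subgroup.mem_center_iff.1 z.2) ⟨y, hy⟩)
    exact (h1.zpow_right k).eq
  have hmemC : ∀ y : G, y * x = x * y → y ∈ X := fun y hy =>
    hC.le (Subgroup.mem_centralizer_singleton_iff.2 hy)
  refine ⟨fun hdvd => ?_, fun hndvd => ?_⟩
  · -- `p ∣ |S|`
    obtain ⟨y, hy⟩ := exists_prime_orderOf_dvd_card' (G := S) p hdvd
    have hyc : Nat.card (Subgroup.zpowers (y : G)) = p := by
      rw [Nat.card_zpowers, Subgroup.orderOf_coe, hy]
    have hxS : x ∈ S := by
      obtain ⟨Q, hQ⟩ := (IsPGroup.of_card (p := p) (n := 1)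
        (hyc.trans (pow_one p).symm)).exists_le_sylow
      have hQc : Nat.card Q = p := by
        rw [Sylow.card_eq_multiplicity, ← Sylow.card_eq_multiplicity P]
        exact (congrArg (fun H : Subgroup G => Nat.card H) hPX).trans hXc
      have hQS : (Q : Subgroup G) ≤ S := by
        rw [← Subgroup.eq_of_le_of_card_ge hQ (hQc.le.trans hyc.ge)]
        exact Subgroup.zpowers_le.2 y.2
      obtain ⟨g, hg⟩ := MulAction.exists_smul_eq G Q P
      have h1 : x ∈ ((g • Q : Sylow p G) : Subgroup G) := hg ▸ hP (Subgroup.mem_zpowers x)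
      rw [Sylow.coe_subgroup_smul, Subgroup.mem_pointwise_smul_iff_inv_smul_mem] at h1
      have h2 := hQS h1
      simp only [MulAut.smul_def] at h2
      have h3 := (inferInstance : S.Normal).conj_mem _ h2 g
      simpa [mul_assoc] using h3
    have hXS : X ≤ S := Subgroup.zpowers_le.2 hxS
    let Q : Sylow p S := P.subtype (hPX.le.trans hXS)
    have hQmap : (Q : Subgroup S).map S.subtype = X := by
      rw [Sylow.coe_subtype, Subgroup.subgroupOf_map_subtype, inf_eq_left.2 (hPX.le.trans hXS), hPX]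
    have htop : Subgroup.normalizer (X : Set G) ⊔ S = ⊤ := by
      have := Sylow.normalizer_sup_eq_top Q
      rwa [hQmap] at this
    have hdec : ∀ g : G, ∃ a ∈ Subgroup.normalizer (X : Set G), (QuotientGroup.mk g : G ⧸ S) = QuotientGroup.mk a := by
      intro g
      have hg : g ∈ ((Subgroup.normalizer (X : Set G) ⊔ S : Subgroup G) : Set G) := by rw [htop]; trivial
      rw [Subgroup.mul_normal] at hg
      obtain ⟨a, ha, s, hs, rfl⟩ := hg
      exact ⟨a, ha, (QuotientGroup.eq.2 (by simpa [mul_assoc] using hs)).symm⟩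
    refine Subgroup.Normal.quotient_commutative_iff_commutator_le.1 ⟨⟨fun u v => ?_⟩⟩
    obtain ⟨u, rfl⟩ := QuotientGroup.mk_surjective u
    obtain ⟨v, rfl⟩ := QuotientGroup.mk_surjective v
    obtain ⟨a, ha, hua⟩ := hdec u
    obtain ⟨b, hb, hvb⟩ := hdec v
    rw [hua, hvb, ← QuotientGroup.mk_mul, ← QuotientGroup.mk_mul, QuotientGroup.eq]
    obtain ⟨i, hi⟩ : a * x * a⁻¹ ∈ X := (Subgroup.mem_normalizer_iff.1 ha x).1 (Subgroup.mem_zpowers x)
    obtain ⟨j, hj⟩ : b * x * b⁻¹ ∈ X := (Subgroup.mem_normalizer_iff.1 hb x).1 (Subgroup.mem_zpowers x)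
    have e1 : (a * b) * x * (a * b)⁻¹ = (x ^ i) ^ j := by
      calc (a * b) * x * (a * b)⁻¹ = a * (b * x * b⁻¹) * a⁻¹ := by group
        _ = (a * x * a⁻¹) ^ j := by rw [← hj, ← conj_zpow]
        _ = _ := by rw [← hi]
    have e2 : (b * a) * x * (b * a)⁻¹ = (x ^ i) ^ j := by
      calc (b * a) * x * (b * a)⁻¹ = b * (a * x * a⁻¹) * b⁻¹ := by group
        _ = (b * x * b⁻¹) ^ i := by rw [← hi, ← conj_zpow]
        _ = _ := by rw [← hj, ← zpow_mul, ← zpow_mul, mul_comm]
    refine hXS (hmemC _ ?_)
    have e3 := e1.trans e2.symm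
    calc (a * b)⁻¹ * (b * a) * x
        = (a * b)⁻¹ * ((b * a) * x * (b * a)⁻¹) * (b * a) := by group
      _ = (a * b)⁻¹ * ((a * b) * x * (a * b)⁻¹) * (b * a) := by rw [e3]
      _ = _ := by group
  · -- `p ∤ |S|`
    have hXS : ∀ y ∈ X, y ∈ S → y = 1 := by
      intro y hy hyS
      have h1 : orderOf y ∣ p := hXc ▸ Subgroup.orderOf_dvd_natCard _ hy
      rcases (Nat.dvd_prime hp).1 h1 with h | h
      · exact orderOf_eq_one_iff.1 h
      · exact absurd (h ▸ Subgroup.orderOf_dvd_natCard _ hyS) hndvd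
    have hcS : ∀ y ∈ S, y * x = x * y → y = 1 := fun y hy hc => hXS y (hmemC y hc) hy
    have hxS : x ∉ S := fun h => by
      have := hXS x (Subgroup.mem_zpowers x) h
      rw [this, orderOf_one] at hx
      exact hp.one_lt.ne hx
    refine ⟨?_, ?_, ?_, ?_⟩
    · -- divides the number of subgroups of order p
      have hN : ∀ n ∈ Subgroup.normalizer (X : Set G), n ∈ S → n = 1 := by
        intro n hn hnS
        refine hcS n hnS ?_
        have h1 : n * x * n⁻¹ * x⁻¹ ∈ X := mul_mem
          ((Subgroup.mem_normalizer_iff.1 hn x).1 (Subgroup.mem_zpowers x)) (inv_mem (Subgroup.mem_zpowers x))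
        have h2 : n * x * n⁻¹ * x⁻¹ ∈ S := by
          have := mul_mem hnS ((inferInstance : S.Normal).conj_mem _ (inv_mem hnS) x)
          simpa [mul_assoc] using this
        have h3 := hXS _ h1 h2
        exact mul_inv_eq_iff_eq_mul.1 (mul_inv_eq_one.1 h3)
      set N := Subgroup.normalizer (X : Set G) with hNdef
      have hinj : Function.Injective (fun w : S × N => (⟨(w.1 : G) * w.2,
          mul_mem (Subgroup.mem_sup_left w.1.2) (Subgroup.mem_sup_right w.2.2)⟩ : (S ⊔ N : Subgroup G))) := by
        intro w v h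
        have h' : (w.1 : G) * w.2 = v.1 * v.2 := congrArg Subtype.val h
        have h4 : (v.1 : G)⁻¹ * w.1 = v.2 * (w.2 : G)⁻¹ := by
          rw [eq_mul_inv_iff_mul_eq, mul_assoc, h']; group
        have h5 := hN _ (mul_mem v.2.2 (inv_mem w.2.2)) (h4 ▸ mul_mem (inv_mem v.1.2) w.1.2)
        refine Prod.ext (Subtype.ext ?_) (Subtype.ext (mul_inv_eq_one.1 h5).symm)
        rw [h5] at h4
        exact (inv_mul_eq_one.1 h4).symm
      have hsurj : Function.Surjective (fun w : S × N => (⟨(w.1 : G) * w.2,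
          mul_mem (Subgroup.mem_sup_left w.1.2) (Subgroup.mem_sup_right w.2.2)⟩ : (S ⊔ N : Subgroup G))) := by
        rintro ⟨g, hg⟩
        have hg' : g ∈ ((S ⊔ N : Subgroup G) : Set G) := hg
        rw [Subgroup.normal_mul] at hg'
        obtain ⟨s, hs, n, hn, rfl⟩ := hg'
        exact ⟨(⟨s, hs⟩, ⟨n, hn⟩), rfl⟩
      have hcard : Nat.card S * Nat.card N ∣ Nat.card G := by
        rw [← Nat.card_prod, Nat.card_congr (Equiv.ofBijective _ ⟨hinj, hsurj⟩)]
        exact Subgroup.card_subgroup_dvd_card _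
      have hcount : Nat.card {H : Subgroup G // Nat.card H = p} = Nat.card (Sylow p G) := by
        have hsc : ∀ Q : Sylow p G, Nat.card Q = p := fun Q => by
          rw [Sylow.card_eq_multiplicity, ← Sylow.card_eq_multiplicity P]
          exact (congrArg (fun H : Subgroup G => Nat.card H) hPX).trans hXc
        refine (Nat.card_congr (Equiv.ofBijective
          (fun Q : Sylow p G => (⟨(Q : Subgroup G), hsc Q⟩ : {H : Subgroup G // Nat.card H = p}))
          ⟨fun A B h => Sylow.ext (congrArg Subtype.val h), fun H => ?_⟩)).symm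
        obtain ⟨Q, hQ⟩ := (IsPGroup.of_card (p := p) (n := 1) (H.2.trans (pow_one p).symm)).exists_le_sylow
        exact ⟨Q, Subtype.ext (Subgroup.eq_of_le_of_card_ge hQ ((hsc Q).le.trans H.2.ge)).symm⟩
      rw [hcount, Sylow.card_eq_index_normalizer P]
      have hNP : (Subgroup.normalizer ((P : Subgroup G) : Set G)) = N := by rw [hNdef, hPX]
      show _ ∣ (Subgroup.normalizer ((P : Subgroup G) : Set G)).index
      rw [hNP]
      rw [← N.index_mul_card] at hcard
      exact Nat.dvd_of_mul_dvd_mul_right Nat.card_pos hcard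
    · letI : MulAction X S := MulAction.compHom S ((MulAut.conjNormal (H := S)).comp X.subtype)
      have h1 := hXp.card_modEq_card_fixedPoints S
      have h2 : Nat.card (MulAction.fixedPoints X S) = 1 := by
        rw [Nat.card_eq_one_iff_unique]
        refine ⟨⟨fun a b => ?_⟩, ⟨⟨1, fun g => by
          show MulAut.conjNormal (g : G) (1 : S) = 1
          exact map_one _⟩⟩⟩
        have : ∀ c : MulAction.fixedPoints X S, (c : S) = 1 := fun c => by
          refine Subtype.ext (hcS _ c.1.2 ?_)
          have h3 : x * ((c : S) : G) * x⁻¹ = ((c : S) : G) :=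
            congrArg Subtype.val (c.2 ⟨x, Subgroup.mem_zpowers x⟩)
          exact (mul_inv_eq_iff_eq_mul.1 h3).symm
        exact Subtype.ext ((this a).trans (this b).symm)
      rw [h2] at h1
      exact Eq.trans h1 (Nat.mod_eq_of_lt hp.one_lt)
    · exact orderOf_eq_prime (by
        rw [← QuotientGroup.mk_pow, ← hx, pow_orderOf_eq_one]; rfl)
        fun h => hxS ((QuotientGroup.eq_one_iff x).1 h)
    · refine le_antisymm ?_ (Subgroup.zpowers_le.2 (Subgroup.mem_centralizer_singleton_iff.2 rfl))
      intro q hq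
      obtain ⟨y, rfl⟩ := QuotientGroup.mk_surjective q
      rw [Subgroup.mem_centralizer_singleton_iff, ← QuotientGroup.mk_mul, ← QuotientGroup.mk_mul,
        QuotientGroup.eq] at hq
      let f : S → S := fun s => ⟨(s : G) * x * (s : G)⁻¹ * x⁻¹,
        by simpa [mul_assoc] using mul_mem s.2 ((inferInstance : S.Normal).conj_mem _ (inv_mem s.2) x)⟩
      have hf : Function.Injective f := fun s t h => by
        have h' : (s : G) * x * (s : G)⁻¹ = t * x * (t : G)⁻¹ := mul_right_cancel (congrArg Subtype.val h)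
        have h6 := hcS ((t : G)⁻¹ * s) (mul_mem (inv_mem t.2) s.2) (by
          calc (t : G)⁻¹ * s * x = (t : G)⁻¹ * ((s : G) * x * (s : G)⁻¹) * s := by group
            _ = (t : G)⁻¹ * ((t : G) * x * (t : G)⁻¹) * s := by rw [h']
            _ = _ := by group)
        exact Subtype.ext (inv_mul_eq_one.1 h6).symm
      have hmem : y * x * y⁻¹ * x⁻¹ ∈ S := by
        have h7 := (inferInstance : S.Normal).conj_mem _ (inv_mem hq) (x * y)
        simpa [mul_assoc] using h7
      obtain ⟨s, hs⟩ := (Finite.injective_iff_surjective.1 hf) ⟨_, hmem⟩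
      have h8 : (s : G) * x * (s : G)⁻¹ = y * x * y⁻¹ := mul_right_cancel (congrArg Subtype.val hs)
      have h9 : (s : G)⁻¹ * y ∈ X := hmemC _ (by
        calc (s : G)⁻¹ * y * x = (s : G)⁻¹ * (y * x * y⁻¹) * y := by group
          _ = (s : G)⁻¹ * ((s : G) * x * (s : G)⁻¹) * y := by rw [h8]
          _ = _ := by group)
      obtain ⟨k, hk⟩ := h9
      refine ⟨k, ?_⟩
      show (QuotientGroup.mk x : G ⧸ S) ^ k = _
      rw [← QuotientGroup.mk_zpow, show x ^ k = (s : G)⁻¹ * y from hk, QuotientGroup.mk_mul]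
      rw [(QuotientGroup.eq_one_iff _).2 (inv_mem s.2), one_mul]

end Cfsg.Agent.S4496
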