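import Cfsg.Statements.S4497
import Cfsg.Agent.Blocks.SelfCentralizing
import Cfsg.Agent.S4496
import Cfsg.Agent.Components.PComponents
-- import your own Cfsg.Agent.* helpers here

set_option autoImplicit false
open Cfsg

namespace Cfsg.Agent.S4497

set_option linter.unusedSectionVars false

open Cfsg.Lib.Blocks Cfsg.Lib.Components

/-- Let the finite group G contain an element x of prime order p with C_G(x) = ⟨x⟩, let t be the number of conjugacy classes of elements of order p, and let S* = O_{p′}(G) be the largest normal subgroup of order prime to p. Then S* ≤ G′; if t ≠ p − 1 the quotient G′/S* is simple (in particular non-trivial); if t = p − 1 then G′ = S*. -/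
theorem result {G : Type*} [Group G] [Finite G] (p : ℕ) (hp : p.Prime) (x : G) (hx : orderOf x = p) (hC : Subgroup.centralizer ({x} : Set G) = Subgroup.zpowers x) (t : ℕ) (ht : Nat.card {C : ConjClasses G // ∃ g ∈ C.carrier, orderOf g = p} = t) : Cfsg.pPrimeCore p G ≤ commutator G ∧ (t ≠ p - 1 → ∀ h : ((Cfsg.pPrimeCore p G).subgroupOf (commutator G)).Normal, IsSimpleGroup (↥(commutator G) ⧸ (Cfsg.pPrimeCore p G).subgroupOf (commutator G))) ∧ (t = p - 1 → commutator G = Cfsg.pPrimeCore p G) := by
  classical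
  obtain ⟨h1, h2⟩ := commutator_cases hp hx hC
  haveI := Fact.mk hp
  obtain ⟨P, hP⟩ := exists_sylow_zpowers hp hx hC
  have hPc : Nat.card (P : Subgroup G) = p := by rw [hP, Nat.card_zpowers, hx]
  have hcop := coprime_card_pPrimeCore (G := G) p
  have hOp : ¬ p ∣ Nat.card (pPrimeCore p G) := fun h => hp.ne_one (Nat.dvd_one.1 (hcop ▸ Nat.dvd_gcd h dvd_rfl))
  have hO : pPrimeCore p G ≤ commutator G := le_commutator_of_coprime hp hx hC _ hOp
  refine ⟨hO, fun htne hnorm => ?_, fun hteq => ?_⟩
  swap
  · exact le_antisymm (le_pPrimeCore (h1 (ht.trans hteq)).2) hO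
  obtain ⟨hX, -⟩ := h2 (fun h => htne (ht ▸ h))
  set O := (pPrimeCore p G).subgroupOf (commutator G) with hOdef
  haveI := hnorm
  have hsq : ¬ p ^ 2 ∣ Nat.card (commutator G) := fun h => P.not_dvd_index (by
    have h3 : p ^ 2 ∣ (P : Subgroup G).index * Nat.card (P : Subgroup G) := by
      rw [Subgroup.index_mul_card]; exact h.trans (Subgroup.card_subgroup_dvd_card _)
    rw [hPc, pow_two] at h3
    exact Nat.dvd_of_mul_dvd_mul_right hp.pos h3)
  haveI : Nontrivial (↥(commutator G) ⧸ O) := by
    refine ⟨⟨QuotientGroup.mk ⟨x, hX (Subgroup.mem_zpowers x)⟩, 1, fun h => hOp ?_⟩⟩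
    have hxO : x ∈ pPrimeCore p G := Subgroup.mem_subgroupOf.1 ((QuotientGroup.eq_one_iff _).1 h)
    simpa [hx] using Subgroup.orderOf_dvd_natCard _ hxO
  refine ⟨fun K' hK' => ?_⟩
  set K := K'.comap (QuotientGroup.mk' O) with hKdef
  haveI : K.Normal := hK'.comap _
  have hmap : K.map (QuotientGroup.mk' O) = K' :=
    Subgroup.map_comap_eq_self_of_surjective (QuotientGroup.mk'_surjective O) K'
  by_cases hpK : p ∣ Nat.card K
  · right
    have hall : ∀ z : commutator G, orderOf z = p → z ∈ K := fun z hz => by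
      rw [← QuotientGroup.eq_one_iff, ← orderOf_eq_one_iff]
      have hd1 : orderOf (z : ↥(commutator G) ⧸ K) ∣ p := hz ▸ orderOf_map_dvd (QuotientGroup.mk' K) z
      refine ((Nat.dvd_prime hp).1 hd1).resolve_right fun he => hsq ?_
      have hd2 : p ∣ K.index := he ▸ _root_.orderOf_dvd_natCard _
      rw [pow_two, ← Subgroup.index_mul_card K]
      exact Nat.mul_dvd_mul hd2 hpK
    have hL : Subgroup.normalClosure {x} ≤ K.map (commutator G).subtype ∧ p ∣ Nat.card (Subgroup.normalClosure ({x} : Set G)) := by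
      refine ⟨(Subgroup.closure_le _).2 fun y hy => ?_,
        hx ▸ Subgroup.orderOf_dvd_natCard _ (Subgroup.subset_normalClosure rfl)⟩
      obtain ⟨a, ha, hc⟩ := Group.mem_conjugatesOfSet_iff.1 hy
      rw [Set.mem_singleton_iff] at ha
      subst ha
      obtain ⟨c, rfl⟩ := isConj_iff.1 hc
      have hmem : c * a * c⁻¹ ∈ commutator G :=
        (inferInstance : (commutator G).Normal).conj_mem _ (hX (Subgroup.mem_zpowers a)) c
      refine ⟨⟨_, hmem⟩, hall _ ?_, rfl⟩
      rw [Subgroup.orderOf_mk, ← MulAut.conj_apply, MulEquiv.orderOf_eq, hx]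
    have hG' : commutator G ≤ K.map (commutator G).subtype :=
      ((Cfsg.Agent.S4496.result p hp x hx hC (Subgroup.normalClosure {x})).1 hL.2).trans hL.1
    have hKtop : K = ⊤ := by
      rw [eq_top_iff]
      intro z _
      obtain ⟨w, hw, hwz⟩ := hG' z.2
      exact (Subtype.ext hwz : w = z) ▸ hw
    rw [← hmap, hKtop, Subgroup.map_top_of_surjective _ (QuotientGroup.mk'_surjective O)]
  · left
    have hK1 : K ≤ pPrimeCore p (commutator G) :=
      le_pPrimeCore (hp.coprime_iff_not_dvd.2 hpK).symm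
    have hK2 : (pPrimeCore p (commutator G)).map (commutator G).subtype ≤ pPrimeCore p G := by
      rw [pPrimeCore_map_subtype_eq (inferInstance : (commutator G).Normal).isSubnormal]
      exact inf_le_left
    rw [← hmap, Subgroup.map_eq_bot_iff, QuotientGroup.ker_mk']
    exact fun z hz => Subgroup.mem_subgroupOf.2 (hK2 ⟨z, hK1 hz, rfl⟩)

end Cfsg.Agent.S4497
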