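import Cfsg.Statements.S4498
import Cfsg.Agent.Blocks.Averages
-- import your own Cfsg.Agent.* helpers here

set_option autoImplicit false
open Cfsg

namespace Cfsg.Agent.S4498

set_option linter.unusedSectionVars false

open Cfsg.Lib.Blocks Cfsg.Lib.Chars

/-- Let p and q be distinct primes dividing the order of the finite group G, and suppose G has no element of order p·q. Fix maximal ideals M_p over p and M_q over q of the algebraic integers. Then the principal p-block and the principal q-block of G have a non-principal irreducible character in common. -/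
theorem result {G : Type*} [Group G] [Finite G] (p q : ℕ) [Fact p.Prime] [Fact q.Prime] (hpq : p ≠ q) (hp : p ∣ Nat.card G) (hq : q ∣ Nat.card G) (hno : ∀ g : G, orderOf g ≠ p * q) (Mp Mq : Ideal Cfsg.AlgInt) (hMp : Cfsg.IsPModular p Mp) (hMq : Cfsg.IsPModular q Mq) : ∃ χ : Cfsg.IrrCharacter G, (χ : G → ℂ) ≠ (fun _ => 1) ∧ χ ∈ Cfsg.principalBlock Mp G ∧ χ ∈ Cfsg.principalBlock Mq G := by
  classical
  letI := Fintype.ofFinite G
  by_contra hne
  push Not at hne
  obtain ⟨y, hy⟩ := exists_prime_orderOf_dvd_card' p hp
  obtain ⟨w, hw, h⟩ := exists_inter_congruence hpq hMp hMq hno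
    (isPBlock_blockOf (principal G)) (isPBlock_blockOf (principal G)) (y := y) (hy ▸ dvd_rfl)
  have hmem : ∀ χ : IrrCharacter G,
      χ ∈ blockOf Mp ((principal G : IrrCharacter G) : G → ℂ) ∩
          blockOf Mq ((principal G : IrrCharacter G) : G → ℂ) ↔ χ = principal G := fun χ =>
    ⟨fun hc => Subtype.ext (by
        by_contra hn
        exact hne χ hn hc.1 hc.2),
      fun hc => hc ▸ ⟨mem_blockOf_self hMp _, mem_blockOf_self hMq _⟩⟩
  rw [finsum_mem_eq_sum_of_inter_support_eq _ (t := {principal G}) (by
    ext χ; simp only [Set.mem_inter_iff, Finset.coe_singleton, Set.mem_singleton_iff]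
    exact and_congr_left fun _ => hmem χ), Finset.sum_singleton] at h
  have h1 : (deg ((principal G : IrrCharacter G) : G → ℂ) : ℂ) = 1 := by
    rw [← irr_apply_one_eq_deg]; rfl
  rw [h1, show ((principal G : IrrCharacter G) : G → ℂ) y = 1 from rfl, one_mul] at h
  have hb := (Fact.out : q.Prime).factorization_pos_of_dvd Nat.card_pos.ne' hq
  have hsmall : Small Mq ((q : ℂ) ^ (Nat.card G).factorization q * w) := by
    rw [← Nat.cast_pow]
    exact (small_natCast hMq (dvd_pow_self q hb.ne')).mul_mem (isIntegral_mem_place hMq hw)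
  rw [← h] at hsmall
  exact not_small_one hsmall

end Cfsg.Agent.S4498
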