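import Cfsg.Statements.S4500
import Cfsg.Agent.Blocks.PPowerPrincipal
import Cfsg.Agent.Blocks.Orth2
import Cfsg.Agent.Blocks.Feit2
import Cfsg.Agent.Blocks.Feit3
import Cfsg.Agent.Blocks.SingleDegree
import Cfsg.Agent.Chars.Count
-- import your own Cfsg.Agent.* helpers here

set_option autoImplicit false
open Cfsg

namespace Cfsg.Agent.S4500

set_option linter.unusedSectionVars false

open Cfsg.Lib.Chars Cfsg.Lib.Blocks

theorem main {G : Type*} [Group G] [Finite G] [Nontrivial G] (p q r a b c : ℕ) (hp : p.Prime)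
    (hq : q.Prime) (hr : r.Prime) (hpq : p ≠ q) (hpr : p ≠ r) (hqr : q ≠ r) (ha : a ≤ 2)
    (hG : Nat.card G = p ^ a * q ^ b * r ^ c) :
    ∃ χ : Cfsg.IrrCharacter G, (χ : G → ℂ) ≠ (fun _ => 1) ∧ ∃ k : ℕ, Cfsg.charDegree (χ : G → ℂ) = q ^ k := by
  classical
  letI := Fintype.ofFinite G
  by_contra hcon
  push Not at hcon
  have hrdvd : ∀ χ : Cfsg.IrrCharacter G, χ ≠ principal G → ¬ p ∣ deg (χ : G → ℂ) → r ∣ deg (χ : G → ℂ) := by
    intro χ hχ hpd
    by_contra hrd
    have h1 : deg (χ : G → ℂ) ∣ q ^ b := by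
      have h := IsIrrCharacter.deg_dvd χ.2
      rw [hG] at h
      have h2 := ((hr.coprime_iff_not_dvd.2 hrd).symm.pow_right c).dvd_of_dvd_mul_right h
      exact ((hp.coprime_iff_not_dvd.2 hpd).symm.pow_right a).dvd_of_dvd_mul_left h2
    obtain ⟨k, -, hk⟩ := (Nat.dvd_prime_pow hq).1 h1
    exact hcon χ (fun h => hχ (Subtype.ext h)) k hk
  have hprin : deg ((principal G : Cfsg.IrrCharacter G) : G → ℂ) = 1 := by
    apply Nat.cast_injective (R := ℂ)
    rw [← irr_apply_one_eq_deg]; exact Nat.cast_one.symm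
  rcases Nat.eq_zero_or_pos a with ha0 | ha0
  · subst ha0
    have hpG : ¬ p ∣ Nat.card G := by
      rw [hG, pow_zero, one_mul, Nat.Prime.dvd_mul hp, not_or]
      exact ⟨fun h => hpq ((Nat.prime_dvd_prime_iff_eq hp hq).1 (hp.dvd_of_dvd_pow h)),
        fun h => hpr ((Nat.prime_dvd_prime_iff_eq hp hr).1 (hp.dvd_of_dvd_pow h))⟩
    have hall : ∀ χ : Cfsg.IrrCharacter G, χ ≠ principal G → r ∣ deg (χ : G → ℂ) := fun χ hχ =>
      hrdvd χ hχ fun h => hpG (h.trans (IsIrrCharacter.deg_dvd χ.2))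
    obtain ⟨g, hg⟩ := exists_ne (1 : G)
    have h := sum_deg_mul g
    refine hr.ne_one (Nat.dvd_one.1 (dvd_of_isIntegral_div (a := 1) hr.ne_zero ?_))
    rw [if_neg hg, ← Finset.add_sum_erase _ _ (Finset.mem_univ (principal G))] at h
    have hs : ((1 : ℕ) : ℂ) / (r : ℂ) = -∑ χ ∈ Finset.univ.erase (principal G),
        (χ : G → ℂ) 1 / (r : ℂ) * (χ : G → ℂ) g := by
      rw [eq_neg_iff_add_eq_zero, Finset.sum_congr rfl (g := fun χ : IrrCharacter G =>
        (χ : G → ℂ) 1 * (χ : G → ℂ) g / (r : ℂ)) (fun χ _ => by ring), ← Finset.sum_div, ← add_div,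
        Nat.cast_one]
      rw [show ((principal G : IrrCharacter G) : G → ℂ) 1 * ((principal G : IrrCharacter G) : G → ℂ) g = 1
        from one_mul (1 : ℂ)] at h
      rw [h, zero_div]
    rw [hs]
    refine (IsIntegral.sum _ fun χ hχ => ?_).neg
    obtain ⟨d, hd⟩ := hall χ (Finset.ne_of_mem_erase hχ)
    rw [irr_apply_one_eq_deg, hd, Nat.cast_mul, mul_div_cancel_left₀ _ (Nat.cast_ne_zero.2 hr.ne_zero)]
    exact (isIntegral_algebraMap (R := ℤ) (x := (d : ℤ))).mul (IsCharacter.isIntegral (isCharacter_of_irr χ.2) g)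
  · haveI := Fact.mk hp
    obtain ⟨M, hM⟩ := exists_isPModular hp
    have hB : IsPBlock M (principalBlock M G) := isPBlock_blockOf (principal G)
    obtain ⟨z, hz⟩ := exists_prime_orderOf_dvd_card' (G := G) p (by
      rw [hG, mul_assoc]; exact (dvd_pow_self p ha0.ne').mul_right _)
    have h1 : ¬ p ∣ orderOf (1 : G) := by rw [orderOf_one]; exact hp.not_dvd_one
    have h0 := block_orthogonality_regular hM hB h1 (dvd_of_eq hz.symm)
    rw [← Finset.add_sum_erase _ _ (Finset.mem_filter.2 ⟨Finset.mem_univ _, mem_blockOf_self hM (principal G)⟩ :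
      principal G ∈ Finset.univ.filter (· ∈ principalBlock M G))] at h0
    have hcardp : (Nat.card G).factorization p ≤ 2 := by
      rw [hG, mul_assoc, Nat.factorization_mul (pow_ne_zero _ hp.ne_zero)
        (Nat.mul_ne_zero (pow_ne_zero _ hq.ne_zero) (pow_ne_zero _ hr.ne_zero)), Finsupp.add_apply,
        hp.factorization_pow, Finsupp.single_eq_same, Nat.factorization_eq_zero_of_not_dvd (n := q ^ b * r ^ c)]
      · omega
      · rw [Nat.Prime.dvd_mul hp, not_or]
        exact ⟨fun h => hpq ((Nat.prime_dvd_prime_iff_eq hp hq).1 (hp.dvd_of_dvd_pow h)),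
          fun h => hpr ((Nat.prime_dvd_prime_iff_eq hp hr).1 (hp.dvd_of_dvd_pow h))⟩
    refine hr.ne_one (Nat.dvd_one.1 (dvd_of_isIntegral_div (a := 1) hr.ne_zero ?_))
    have e1 : ((principal G : IrrCharacter G) : G → ℂ) 1 *
        (starRingEnd ℂ) (((principal G : IrrCharacter G) : G → ℂ) z) = 1 := by
      show (1 : ℂ) * (starRingEnd ℂ) (1 : ℂ) = 1
      rw [map_one, one_mul]
    rw [e1] at h0
    have hs : ((1 : ℕ) : ℂ) / (r : ℂ) = -∑ χ ∈ (Finset.univ.filter (· ∈ principalBlock M G)).erase (principal G),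
        (χ : G → ℂ) 1 / (r : ℂ) * (starRingEnd ℂ) ((χ : G → ℂ) z) := by
      rw [eq_neg_iff_add_eq_zero, Finset.sum_congr rfl (g := fun χ : IrrCharacter G =>
        (χ : G → ℂ) 1 * (starRingEnd ℂ) ((χ : G → ℂ) z) / (r : ℂ)) (fun χ _ => by ring),
        ← Finset.sum_div, ← add_div, Nat.cast_one, h0, zero_div]
    rw [hs]
    refine (IsIntegral.sum _ fun χ hχ => ?_).neg
    obtain ⟨hne, hχB⟩ := Finset.mem_erase.1 hχ
    have hχB' : χ ∈ principalBlock M G := (Finset.mem_filter.1 hχB).2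
    have hpd : ¬ p ∣ deg (χ : G → ℂ) := by
      refine (Cfsg.Lib.Blocks.SingleDegree.blockHeight_zero_iff hM χ).1 ?_
      by_contra hh
      have h2 := height_add_two_le hM hB hχB' hh
      have h3 : blockDefect p (principalBlock M G) ≤ (Nat.card G).factorization p := Nat.sub_le _ _
      omega
    obtain ⟨d, hd⟩ := hrdvd χ hne hpd
    rw [irr_apply_one_eq_deg, hd, Nat.cast_mul, mul_div_cancel_left₀ _ (Nat.cast_ne_zero.2 hr.ne_zero)]
    exact (isIntegral_algebraMap (R := ℤ) (x := (d : ℤ))).mul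
      ((IsCharacter.isIntegral (isCharacter_of_irr χ.2) z).map (starRingEnd ℂ).toIntAlgHom)

/-- Let G be a non-trivial finite group of order p^a · q^b · r^c with p, q, r distinct primes and a ≤ 2. Then G has a non-principal irreducible character whose degree is a power of q, and a non-principal irreducible character whose degree is a power of r; the power may be the zeroth, so a non-principal linear character serves for both. -/
theorem result {G : Type*} [Group G] [Finite G] [Nontrivial G] (p q r a b c : ℕ) (hp : p.Prime) (hq : q.Prime) (hr : r.Prime) (hpq : p ≠ q) (hpr : p ≠ r) (hqr : q ≠ r) (ha : a ≤ 2) (hG : Nat.card G = p ^ a * q ^ b * r ^ c) : (∃ χ : Cfsg.IrrCharacter G, (χ : G → ℂ) ≠ (fun _ => 1) ∧ ∃ k : ℕ, Cfsg.charDegree (χ : G → ℂ) = q ^ k) ∧ ∃ χ : Cfsg.IrrCharacter G, (χ : G → ℂ) ≠ (fun _ => 1) ∧ ∃ k : ℕ, Cfsg.charDegree (χ : G → ℂ) = r ^ k := by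
  exact ⟨main p q r a b c hp hq hr hpq hpr hqr ha hG,
    main p r q a c b hp hr hq hpr hpq hqr.symm ha (by rw [hG]; ring)⟩

end Cfsg.Agent.S4500
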