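import Cfsg.Statements.S4506
import Cfsg.Agent.Chars.DefectZero
import Cfsg.Agent.Chars.Galois
import Cfsg.Agent.Chars.Count
-- import your own Cfsg.Agent.* helpers here

set_option autoImplicit false
open Cfsg

namespace Cfsg.Agent.S4506

set_option linter.unusedSectionVars false

open Cfsg.Lib.Chars
open scoped ComplexConjugate
open Cfsg.Lib.Blocks (mul_pow_of_isNilpotent pow_eq_one_of_modEq_zero pow_eq_self_of_modEq_one)

universe u

variable {G : Type u} [Group G]

/-- If the `p`-part of the group order divides `r χ(1)`, then `r` times `χ` on the `p`-regular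
elements, zero elsewhere, is a generalized character. -/
theorem isGeneralized_mult [Fintype G] {χ : G → ℂ} (hχ : Cfsg.IsIrrCharacter G χ) {p n r : ℕ}
    (hp : p.Prime) (hn : p ^ n ∣ Nat.card G) (hn' : ¬ p ^ (n + 1) ∣ Nat.card G)
    (hdeg : p ^ n ∣ r * deg χ) :
    Cfsg.IsGeneralizedCharacter G (fun g => if p ∣ orderOf g then 0 else (r : ℂ) * χ g) := by
  classical
  have := Fact.mk hp
  have hχc := isCharacter_of_irr hχ
  obtain ⟨c, hc⟩ := hn
  obtain ⟨a, ha⟩ := hdeg
  have hcp : ¬ p ∣ c := fun ⟨d, hd⟩ => hn' ⟨d, by rw [hc, hd, pow_succ, mul_assoc]⟩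
  set f : G → ℂ := fun g => if p ∣ orderOf g then 0 else (r : ℂ) * χ g with hf
  have hfc : Cfsg.IsClassFunction G f := fun g y => by
    simp only [hf]
    rw [show orderOf (y * g * y⁻¹) = orderOf g from orderOf_injective (MulAut.conj y).toMonoidHom
      (MulAut.conj y).injective g, isClassFunction_isChar hχc g y]
  have hgen : Cfsg.IsGeneralizedCharacter G f := by
    refine Cfsg.Lib.Blocks.isGeneralized_of_elementary hfc fun E hE => ?_
    obtain ⟨q, hq, hel⟩ := hE
    have := Cfsg.Lib.Blocks.isNilpotent_of_isElementary hq hel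
    obtain ⟨Q, hQ, hQp, P, hPQ, ⟨s, hs⟩, hcomm⟩ := exists_regular_part (E := E) p
    refine isGeneralized_of_coeff (fun g y => hfc (g : G) (y : G)) fun lam => ?_
    have := Fintype.ofFinite Q
    obtain ⟨k, hk⟩ := classInner_char_nat
      (IsCharacter.comp_hom hχc (E.subtype.comp Q.subtype))
      (IsCharacter.comp_hom (isCharacter_of_irr lam.2) Q.subtype)
    -- on the regular part the values are divisible by the order of `P`
    have hval : ∀ y : Q, IsIntegral ℤ (((r * c : ℕ) : ℂ) * χ ((y : E) : G) / (Nat.card P : ℂ)) := by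
      intro y
      have hle : P.map E.subtype ≤ Subgroup.centralizer ({((y : E) : G)} : Set G) := by
        rintro _ ⟨z, hz, rfl⟩
        rw [Subgroup.mem_centralizer_singleton_iff]
        exact congrArg Subtype.val (hcomm z hz y y.2)
      obtain ⟨b, hb⟩ : Nat.card P ∣ Nat.card (Subgroup.centralizer ({((y : E) : G)} : Set G)) := by
        rw [← Subgroup.card_map_of_injective E.subtype_injective]
        exact Subgroup.card_dvd_of_le hle
      set C := Subgroup.centralizer ({((y : E) : G)} : Set G)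
      have hmul : Nat.card P * b * C.index = p ^ n * c := by rw [← hb, C.card_mul_index, hc]
      have hω := isIntegral_centralChar_irr hχ ((y : E) : G)
      rw [card_isConj, IsCharacter.apply_one_eq_deg hχc] at hω
      have key : ((r * c : ℕ) : ℂ) * χ ((y : E) : G) / (Nat.card P : ℂ) =
          ((a * b : ℕ) : ℂ) *
            ((C.index : ℂ) * χ ((y : E) : G) / ((deg χ : ℕ) : ℂ)) := by
        have h1 : (p : ℂ) ^ n * c = (Nat.card P : ℂ) * b * C.index := by exact_mod_cast hmul.symm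
        have h2 : (r : ℂ) * deg χ = (p : ℂ) ^ n * a := by exact_mod_cast ha
        have hd0 : (deg χ : ℂ) ≠ 0 := Nat.cast_ne_zero.mpr (deg_irr_pos ⟨χ, hχ⟩).ne'
        have hP0 : (Nat.card P : ℂ) ≠ 0 := Nat.cast_ne_zero.mpr Nat.card_pos.ne'
        push_cast
        field_simp
        linear_combination (c : ℂ) * χ ((y : E) : G) * h2 + (a : ℂ) * χ ((y : E) : G) * h1
      rw [key]
      exact IsIntegral.mul (natCast_mem (integralClosure ℤ ℂ) _) hω
    have hint : IsIntegral ℤ (((k * r * Nat.card Q * c : ℕ) : ℂ) / (Nat.card P : ℂ)) := by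
      have h2 : ((k * r * Nat.card Q * c : ℕ) : ℂ) / (Nat.card P : ℂ) = ∑ y : Q,
          (((r * c : ℕ) : ℂ) * χ ((y : E) : G) / (Nat.card P : ℂ)) * conj ((lam : E → ℂ) y) := by
        rw [Nat.cast_mul, Nat.cast_mul, Nat.cast_mul, ← hk, classInner_def]
        have hQ0 : (Nat.card Q : ℂ) ≠ 0 := Nat.cast_ne_zero.mpr Nat.card_pos.ne'
        simp only [MonoidHom.comp_apply, Subgroup.coe_subtype]
        rw [show (∑ y : Q, ((r * c : ℕ) : ℂ) * χ ((y : E) : G) / (Nat.card P : ℂ) *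
            conj ((lam : E → ℂ) y)) = ((r * c : ℕ) : ℂ) / (Nat.card P : ℂ) *
            ∑ y : Q, χ ((y : E) : G) * conj ((lam : E → ℂ) y) by
          rw [Finset.mul_sum]; exact Finset.sum_congr rfl fun y _ => by ring]
        push_cast
        field_simp
      rw [h2]
      refine IsIntegral.sum _ fun y _ => (hval y).mul ?_
      exact (IsCharacter.isIntegral (IsCharacter.conjugate (isCharacter_of_irr lam.2)) _)
    have hcop : Nat.Coprime (Nat.card P) (Nat.card Q * c) := by
      rw [hs]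
      exact Nat.Coprime.pow_left _ ((hp.coprime_iff_not_dvd.mpr hQp).mul_right
        (hp.coprime_iff_not_dvd.mpr hcp))
    obtain ⟨z, hz⟩ := hcop.dvd_of_dvd_mul_right
      (mul_assoc (k * r) _ c ▸ dvd_of_isIntegral_div Nat.card_pos.ne' hint)
    refine ⟨z, ?_⟩
    rw [classInner_def, Int.cast_natCast]
    have hsum : ∑ g : E, f (g : G) * conj ((lam : E → ℂ) g) =
        (r : ℂ) * ∑ y : Q, χ ((y : E) : G) * conj ((lam : E → ℂ) y) := by
      rw [Finset.mul_sum]
      rw [← Finset.sum_subset (Finset.subset_univ (Finset.univ.filter fun g : E => g ∈ Q))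
        (fun g _ hg => by
          have hg' : g ∉ Q := fun h => hg (Finset.mem_filter.mpr ⟨Finset.mem_univ _, h⟩)
          rw [hQ, not_not, ← Subgroup.orderOf_coe] at hg'
          simp only [hf, if_pos hg', zero_mul]),
        Finset.sum_subtype (p := fun g : E => g ∈ Q) (Finset.univ.filter fun g : E => g ∈ Q) (fun g => by simp) _]
      refine Finset.sum_congr rfl fun y _ => ?_
      simp only [hf]
      rw [Subgroup.orderOf_coe, if_neg ((hQ (y : E)).mp y.2), mul_assoc]
    rw [hsum]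
    rw [classInner_def] at hk
    simp only [MonoidHom.comp_apply, Subgroup.coe_subtype] at hk
    rw [inv_mul_eq_iff_eq_mul₀ (Nat.cast_ne_zero.mpr Nat.card_pos.ne')] at hk
    have hz' : (k : ℂ) * r = (Nat.card P : ℂ) * z := by exact_mod_cast hz
    rw [hk, ← hPQ]
    have hP0 : (Nat.card P : ℂ) ≠ 0 := Nat.cast_ne_zero.mpr Nat.card_pos.ne'
    have hQ0 : (Nat.card Q : ℂ) ≠ 0 := Nat.cast_ne_zero.mpr Nat.card_pos.ne'
    push_cast
    field_simp
    linear_combination hz'
  exact hgen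

/-- The sum over the units modulo `p ^ (b + 1)` of the powers of a root of unity. -/
theorem sum_units_pow {p b : ℕ} (hp : p.Prime) [Fintype (ZMod (p ^ (b + 1)))ˣ] {w : ℂ}
    (hw : w ^ p ^ (b + 1) = 1) :
    ∃ y : ℂ, IsIntegral ℤ y ∧
      ∑ k : (ZMod (p ^ (b + 1)))ˣ, w ^ (k : ZMod (p ^ (b + 1))).val = (p : ℂ) ^ b * y := by
  classical
  haveI : NeZero (p ^ (b + 1)) := ⟨(pow_pos hp.pos _).ne'⟩
  have hgeom : ∀ (N : ℕ) (z : ℂ), z ^ N = 1 →
      ∑ i ∈ Finset.range N, z ^ i = if z = 1 then (N : ℂ) else 0 := by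
    intro N z hz
    split_ifs with h
    · simp [h]
    · rw [geom_sum_eq h, hz, sub_self, zero_div]
  refine ⟨(if w = 1 then (p : ℂ) else 0) - (if w ^ p = 1 then 1 else 0), ?_, ?_⟩
  · refine IsIntegral.sub ?_ ?_ <;> split_ifs
    · exact natCast_mem (integralClosure ℤ ℂ) p
    · exact isIntegral_zero
    · exact isIntegral_one
    · exact isIntegral_zero
  have hsplit := Finset.sum_filter_add_sum_filter_not (Finset.range (p ^ (b + 1))) (fun i => p ∣ i)
    (fun i => w ^ i)
  have h1 : ∑ i ∈ (Finset.range (p ^ (b + 1))).filter (fun i => p ∣ i), w ^ i =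
      ∑ j ∈ Finset.range (p ^ b), (w ^ p) ^ j := by
    symm
    refine Finset.sum_bij (fun j _ => p * j) (fun j hj => ?_) (fun _ _ _ _ h => Nat.eq_of_mul_eq_mul_left hp.pos h)
      (fun i hi => ?_) (fun j _ => (pow_mul w p j).symm)
    · rw [Finset.mem_filter, Finset.mem_range, pow_succ']
      exact ⟨Nat.mul_lt_mul_of_pos_left (Finset.mem_range.1 hj) hp.pos, dvd_mul_right p j⟩
    · rw [Finset.mem_filter, Finset.mem_range, pow_succ'] at hi
      obtain ⟨j, rfl⟩ := hi.2
      exact ⟨j, Finset.mem_range.2 (Nat.lt_of_mul_lt_mul_left hi.1), rfl⟩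
  have h2 : ∑ k : (ZMod (p ^ (b + 1)))ˣ, w ^ (k : ZMod (p ^ (b + 1))).val =
      ∑ i ∈ (Finset.range (p ^ (b + 1))).filter (fun i => ¬ p ∣ i), w ^ i := by
    refine Finset.sum_bij (fun k _ => (k : ZMod (p ^ (b + 1))).val) (fun k _ => ?_)
      (fun _ _ _ _ h => Units.ext (ZMod.val_injective _ h)) (fun i hi => ?_) (fun _ _ => rfl)
    · refine Finset.mem_filter.2 ⟨Finset.mem_range.2 (ZMod.val_lt _), fun h => ?_⟩
      have h3 := ZMod.val_coe_unit_coprime k
      exact hp.one_lt.ne' (Nat.eq_one_of_dvd_coprimes h3 h (dvd_pow_self p (Nat.succ_ne_zero b)))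
    · obtain ⟨hi1, hi2⟩ := Finset.mem_filter.1 hi
      refine ⟨ZMod.unitOfCoprime i (Nat.Coprime.pow_right _ ((hp.coprime_iff_not_dvd.2 hi2).symm)),
        Finset.mem_univ _, ?_⟩
      rw [ZMod.coe_unitOfCoprime, ZMod.val_natCast, Nat.mod_eq_of_lt (Finset.mem_range.1 hi1)]
  rw [h2, eq_sub_of_add_eq' hsplit, h1, hgeom _ _ hw,
    hgeom _ (w ^ p) (by rw [← pow_mul, ← pow_succ']; exact hw)]
  split_ifs <;> push_cast <;> ring

/-- The sum over a group of an integral class function, weighted integrally on each class. -/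
theorem isIntegral_sum_classes [Fintype G] (F : G → ℂ) (hF : ∀ g h : G, IsConj g h → F g = F h)
    (hint : ∀ g : G, IsIntegral ℤ ((Nat.card {x : G // IsConj g x} : ℂ) * F g)) :
    IsIntegral ℤ (∑ g : G, F g) := by
  classical
  rw [← Finset.sum_fiberwise Finset.univ ConjClasses.mk F]
  refine IsIntegral.sum _ fun C _ => ?_
  obtain ⟨g, rfl⟩ := ConjClasses.mk_surjective C
  rw [Finset.sum_congr rfl (g := fun _ => F g) (fun x hx =>
    (hF g x (ConjClasses.mk_eq_mk_iff_isConj.1 (Finset.mem_filter.1 hx).2.symm)).symm),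
    Finset.sum_const, nsmul_eq_mul]
  have hc : (Finset.univ.filter fun x => ConjClasses.mk x = ConjClasses.mk g).card =
      Nat.card {x : G // IsConj g x} := by
    rw [Nat.card_eq_fintype_card, Fintype.card_subtype]
    congr 1
    ext x
    simp only [Finset.mem_filter, Finset.mem_univ, true_and, ConjClasses.mk_eq_mk_iff_isConj]
    exact isConj_comm
  rw [hc]
  exact hint g

theorem zetaC_pow_eq_iff (m : ℕ) [NeZero m] (j : ℕ) : zetaC m ^ j = zetaC m ↔ j ≡ 1 [MOD m] := by
  have hζ := isPrimitiveRoot_zetaC m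
  have hmod : ∀ i : ℕ, zetaC m ^ i = zetaC m ^ (i % m) := fun i => by
    conv_lhs => rw [← Nat.mod_add_div i m, pow_add, pow_mul, hζ.pow_eq_one, one_pow, mul_one]
  conv_lhs => rhs; rw [← pow_one (zetaC m)]
  rw [hmod j, hmod 1]
  exact ⟨fun h => hζ.pow_inj (Nat.mod_lt _ (NeZero.pos m)) (Nat.mod_lt _ (NeZero.pos m)) h,
    fun h => congrArg (zetaC m ^ ·) h⟩

theorem main [Finite G] (p : ℕ) (hp : p.Prime) (χ : Cfsg.IrrCharacter G) (a m r : ℕ)
    (ha : (Nat.card G).factorization p = a) (hm : Nat.card G / p ^ a = m)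
    (hr : Nat.card {ψ : Cfsg.IrrCharacter G // ∃ σ : ℂ ≃+* ℂ, σ (zetaC m) = zetaC m ∧
      (ψ : G → ℂ) = fun g => σ ((χ : G → ℂ) g)} = r) :
    (r * deg (χ : G → ℂ)).factorization p ≤ a ∧
      (p ^ a ∣ r * deg (χ : G → ℂ) → p ^ a ∣ deg (χ : G → ℂ)) := by
  classical
  letI := Fintype.ofFinite G
  haveI := Fact.mk hp
  set n := Nat.card G with hn
  set q := p ^ a with hq
  have hn0 : n ≠ 0 := Nat.card_pos.ne'
  have hqm : q * m = n := by rw [← hm, hq, ← ha]; exact Nat.ordProj_mul_ordCompl_eq_self n p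
  have hm0 : m ≠ 0 := fun h => hn0 (by rw [← hqm, h, mul_zero])
  have hpm : ¬ p ∣ m := by rw [← hm, hq, ← ha]; exact Nat.not_dvd_ordCompl hp hn0
  have hcop : Nat.Coprime q m := Nat.Coprime.pow_left _ (hp.coprime_iff_not_dvd.2 hpm)
  haveI : NeZero q := ⟨(pow_pos hp.pos _).ne'⟩
  haveI : NeZero m := ⟨hm0⟩
  haveI : NeZero n := ⟨hn0⟩
  obtain ⟨u, hu1, hu0⟩ := Nat.chineseRemainder hcop 1 0
  obtain ⟨v, hv0, hv1⟩ := Nat.chineseRemainder hcop 0 1
  set K : (ZMod q)ˣ → ℕ := fun k => (k : ZMod q).val * u + v with hK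
  have hKq : ∀ k, K k ≡ (k : ZMod q).val [MOD q] := fun k => by
    simpa [hK] using (hu1.mul_left (k : ZMod q).val).add hv0
  have hKm : ∀ k, K k ≡ 1 [MOD m] := fun k => by
    simpa [hK] using (hu0.mul_left (k : ZMod q).val).add hv1
  have hKcop : ∀ k, Nat.Coprime (K k) n := fun k => by
    rw [← hqm]
    refine Nat.Coprime.mul_right ?_ ?_
    · rw [Nat.Coprime, (hKq k).gcd_eq]
      exact ZMod.val_coe_unit_coprime k
    · rw [Nat.Coprime, (hKm k).gcd_eq]
      exact Nat.gcd_one_left m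
  have hpow : ∀ (g : G) (i j : ℕ), i ≡ j [MOD n] → g ^ i = g ^ j := fun g i j h =>
    pow_eq_pow_iff_modEq.2 (h.of_dvd (orderOf_dvd_natCard g))
  have hmod : ∀ i j : ℕ, i ≡ j [MOD q] → i ≡ j [MOD m] → i ≡ j [MOD n] := fun i j h1 h2 =>
    hqm ▸ (Nat.modEq_and_modEq_iff_modEq_mul hcop).1 ⟨h1, h2⟩
  have hK1 : K 1 ≡ 1 [MOD n] := by
    refine hmod _ _ ((hKq 1).trans ?_) (hKm 1)
    rw [← ZMod.natCast_eq_natCast_iff, ZMod.natCast_zmod_val, Units.val_one, Nat.cast_one]
  have hKmul : ∀ k l, K (k * l) ≡ K k * K l [MOD n] := fun k l => by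
    refine hmod _ _ ((hKq _).trans ?_) ((hKm _).trans ?_)
    · refine Nat.ModEq.trans ?_ ((hKq k).mul (hKq l)).symm
      rw [← ZMod.natCast_eq_natCast_iff, ZMod.natCast_zmod_val, Units.val_mul, Nat.cast_mul,
        ZMod.natCast_zmod_val, ZMod.natCast_zmod_val]
    · simpa using ((hKm k).mul (hKm l)).symm
  -- the conjugates
  set A : (ZMod q)ˣ → G → ℂ := fun k g => (χ : G → ℂ) (g ^ K k) with hA
  have hA1 : A 1 = (χ : G → ℂ) := funext fun g => by
    simp only [hA]; rw [hpow g _ _ hK1, pow_one]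
  have hAmul : ∀ k l g, A (k * l) g = A k (g ^ K l) := fun k l g => by
    simp only [hA]; rw [← pow_mul, mul_comm (K l), hpow g _ _ (hKmul k l)]
  have hχc := isCharacter_of_irr χ.2
  have hconjσ : ∀ (σ : ℂ ≃+* ℂ) (j : ℕ), IsGalConj σ n j →
      ∀ g, σ ((χ : G → ℂ) g) = (χ : G → ℂ) (g ^ j) := fun σ j hσ g =>
    hσ.apply_character hχc (orderOf_dvd_natCard g)
  have hAirr : ∀ k, Cfsg.IsIrrCharacter G (A k) := fun k => by
    obtain ⟨σ, hσ⟩ := exists_galConj_auto (m := n) (hKcop k)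
    rw [show A k = fun g => σ ((χ : G → ℂ) g) from funext fun g => (hconjσ σ _ hσ g).symm]
    exact IsIrrCharacter.map_auto χ.2 σ
  set O := Finset.univ.image A with hO
  have hζpow : zetaC m = zetaC n ^ q := by
    rw [zetaC, zetaC, ← Complex.exp_nat_mul]
    congr 1
    rw [show (n : ℂ) = (q : ℂ) * m by exact_mod_cast hqm.symm]
    have : (q : ℂ) ≠ 0 := Nat.cast_ne_zero.2 (NeZero.ne q)
    field_simp
  have hrO : r = O.card := by
    have hf : ∀ ψ : {ψ : Cfsg.IrrCharacter G // ∃ σ : ℂ ≃+* ℂ, σ (zetaC m) = zetaC m ∧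
        (ψ : G → ℂ) = fun g => σ ((χ : G → ℂ) g)}, ((ψ.1 : G → ℂ)) ∈ O := by
      rintro ⟨ψ, σ, hσ, hψ⟩
      have hζ := isPrimitiveRoot_zetaC n
      have h2 : IsPrimitiveRoot (σ (zetaC n)) n := hζ.map_of_injective σ.injective
      obtain ⟨j, -, hj⟩ := hζ.eq_pow_of_pow_eq_one h2.pow_eq_one
      have hjn : j.Coprime n := (hζ.pow_iff_coprime (NeZero.pos n) j).mp (hj ▸ h2)
      have hgal : IsGalConj σ n j := fun z hz => by
        obtain ⟨i, -, rfl⟩ := hζ.eq_pow_of_pow_eq_one hz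
        rw [map_pow, ← hj, ← pow_mul, ← pow_mul, mul_comm]
      have hjm : j ≡ 1 [MOD m] := by
        rw [← zetaC_pow_eq_iff]
        conv_rhs => rw [← hσ]
        rw [hζpow, map_pow, ← hj, ← pow_mul, ← pow_mul, mul_comm]
      have hjq : j.Coprime q := Nat.Coprime.coprime_dvd_right (hqm ▸ dvd_mul_right q m) hjn
      refine Finset.mem_image.2 ⟨ZMod.unitOfCoprime j hjq, Finset.mem_univ _, funext fun g => ?_⟩
      show _ = (ψ : G → ℂ) g
      rw [hψ]
      show _ = σ ((χ : G → ℂ) g)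
      rw [hconjσ σ j hgal g]
      simp only [hA]
      rw [hpow g _ _ (hmod _ j ((hKq _).trans ?_) ((hKm _).trans hjm.symm))]
      rw [ZMod.coe_unitOfCoprime, ZMod.val_natCast]
      exact Nat.mod_modEq j q
    rw [← hr, ← Nat.card_eq_finsetCard]
    refine Nat.card_eq_of_bijective (fun ψ => (⟨(ψ.1 : G → ℂ), hf ψ⟩ : O)) ⟨fun x y h => ?_, ?_⟩
    · exact Subtype.ext (Subtype.ext (congrArg Subtype.val h :))
    · rintro ⟨f, hfO⟩
      obtain ⟨k, -, rfl⟩ := Finset.mem_image.1 hfO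
      obtain ⟨σ, hσ⟩ := exists_galConj_auto (m := n) (hKcop k)
      refine ⟨⟨⟨A k, hAirr k⟩, σ, ?_, funext fun g => (hconjσ σ _ hσ g).symm⟩, rfl⟩
      have hz : zetaC m ^ n = 1 := by
        rw [← hqm, mul_comm, pow_mul, (isPrimitiveRoot_zetaC m).pow_eq_one, one_pow]
      rw [hσ _ hz, zetaC_pow_eq_iff]
      exact hKm k
  set Θ : G → ℂ := ∑ ψ ∈ O, ψ with hΘ
  set d := deg (χ : G → ℂ) with hd
  have hd0 : d ≠ 0 := (deg_irr_pos χ).ne'
  have hdeg1 : (χ : G → ℂ) 1 = (d : ℂ) := IsCharacter.apply_one_eq_deg hχc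
  -- fibres
  set S := Finset.univ.filter (fun k => A k = (χ : G → ℂ)) with hS
  have hfib : ∀ f ∈ O, (Finset.univ.filter (fun k => A k = f)).card = S.card := by
    intro f hf
    obtain ⟨k0, -, rfl⟩ := Finset.mem_image.1 hf
    refine Finset.card_bij' (fun k _ => k0⁻¹ * k) (fun k _ => k0 * k) (fun k hk => ?_)
      (fun k hk => ?_) (fun k _ => mul_inv_cancel_left k0 k) (fun k _ => inv_mul_cancel_left k0 k)
    · simp only [hS, Finset.mem_filter, Finset.mem_univ, true_and] at hk ⊢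
      funext g
      rw [mul_comm, hAmul, hk, ← hAmul, mul_inv_cancel, hA1]
    · simp only [hS, Finset.mem_filter, Finset.mem_univ, true_and] at hk ⊢
      funext g
      rw [mul_comm, hAmul, hk]
  have hsumA : ∀ g, ∑ k, A k g = (S.card : ℂ) * Θ g := fun g => by
    rw [hΘ, Finset.sum_apply, Finset.mul_sum, Finset.sum_comp (fun ψ : G → ℂ => ψ g) A]
    exact Finset.sum_congr rfl fun f hf => by rw [hfib f hf, nsmul_eq_mul]
  have hSr : S.card * O.card = Fintype.card (ZMod q)ˣ := by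
    rw [← Finset.card_univ (α := (ZMod q)ˣ)]
    conv_rhs => rw [Finset.card_eq_sum_card_image A Finset.univ]
    rw [Finset.sum_congr rfl hfib, Finset.sum_const, smul_eq_mul, mul_comm]
  have hrpos : 0 < r := by
    rw [hrO]; exact Finset.card_pos.2 ⟨_, Finset.mem_image.2 ⟨1, Finset.mem_univ _, hA1⟩⟩
  have hr0 : (r : ℂ) ≠ 0 := Nat.cast_ne_zero.2 hrpos.ne'
  have hp1 : ((p - 1 : ℕ) : ℂ) ≠ 0 := Nat.cast_ne_zero.2 (by have := hp.two_le; omega)
  have hy : ∀ g, ∃ y : ℂ, IsIntegral ℤ y ∧ ((p - 1 : ℕ) : ℂ) * Θ g = (r : ℂ) * y := by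
    intro g
    by_cases ha0 : a = 0
    · have hq1 : q = 1 := by rw [hq, ha0, pow_zero]
      have hcard1 : Fintype.card (ZMod q)ˣ = 1 := by rw [ZMod.card_units_eq_totient, hq1, Nat.totient_one]
      rw [← hSr, mul_eq_one] at hcard1
      have hO1 : r = 1 := hrO.trans hcard1.2
      refine ⟨((p - 1 : ℕ) : ℂ) * Θ g, (natCast_mem (integralClosure ℤ ℂ) _ : _).mul ?_, by
        rw [hO1, Nat.cast_one, one_mul]⟩
      rw [hΘ, Finset.sum_apply]
      exact IsIntegral.sum _ fun f hf => by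
        obtain ⟨k, -, rfl⟩ := Finset.mem_image.1 hf
        exact IsCharacter.isIntegral (isCharacter_of_irr (hAirr k)) g
    obtain ⟨b, hb⟩ := Nat.exists_eq_succ_of_ne_zero ha0
    obtain ⟨ι, _, c, z, hz, hzc⟩ := IsCharacter.exists_cyclic_decomp hχc g
    have hzn : ∀ i, z i ^ n = 1 := fun i => by
      obtain ⟨e, he⟩ : orderOf g ∣ n := orderOf_dvd_natCard g
      rw [he, pow_mul, hz, one_pow]
    have hzq : ∀ i, (z i ^ u) ^ q = 1 := fun i => by
      obtain ⟨e, he⟩ := Nat.modEq_zero_iff_dvd.1 hu0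
      rw [← pow_mul, he, show m * e * q = n * e by rw [← hqm]; ring, pow_mul, hzn, one_pow]
    have hex : ∀ i, ∃ y : ℂ, IsIntegral ℤ y ∧
        ∑ k : (ZMod q)ˣ, (z i ^ u) ^ (k : ZMod q).val = (p : ℂ) ^ b * y := fun i => by
      have := hzq i
      revert this
      generalize z i ^ u = w
      intro hw
      subst hb
      rw [hq] at hw
      convert sum_units_pow hp hw using 2
    choose Y hY hYs using hex
    have hsum : ∑ k, A k g = (p : ℂ) ^ b * ∑ i, (c i : ℂ) * (z i ^ v * Y i) := by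
      simp only [hA, hzc]
      rw [Finset.sum_comm, Finset.mul_sum]
      refine Finset.sum_congr rfl fun i _ => ?_
      rw [← Finset.mul_sum]
      rw [show (∑ k : (ZMod q)ˣ, z i ^ K k) = z i ^ v * ((p : ℂ) ^ b * Y i) by
        rw [← hYs i, Finset.mul_sum]
        refine Finset.sum_congr rfl fun k _ => ?_
        simp only [hK]; rw [pow_add, mul_comm (k : ZMod q).val, pow_mul, mul_comm]]
      ring
    refine ⟨∑ i, (c i : ℂ) * (z i ^ v * Y i), IsIntegral.sum _ fun i _ =>
      (natCast_mem (integralClosure ℤ ℂ) _ : _).mul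
        (((IsIntegral.of_pow (Nat.pos_of_ne_zero hn0) (by rw [hzn i]; exact isIntegral_one)).pow v).mul (hY i)), ?_⟩
    have hphi : S.card * r = p ^ b * (p - 1) := by
      rw [hrO, hSr, ZMod.card_units_eq_totient, hq, hb, Nat.totient_prime_pow_succ hp]
    have hphi' : (S.card : ℂ) * r = (p : ℂ) ^ b * ((p - 1 : ℕ) : ℂ) := by exact_mod_cast hphi
    rw [hsumA] at hsum
    apply mul_left_cancel₀ (pow_ne_zero b (Nat.cast_ne_zero.2 hp.ne_zero : (p : ℂ) ≠ 0))
    linear_combination (r : ℂ) * hsum - Θ g * hphi'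
  choose Y hYint hYeq using hy
  have horth : ∀ f ∈ O, Cfsg.classInner f Θ = 1 := by
    intro f hf
    rw [hΘ, classInner_sum_right, Finset.sum_eq_single f]
    · obtain ⟨k, -, rfl⟩ := Finset.mem_image.1 hf
      exact classInner_self_irr (hAirr k)
    · intro f' hf' hne
      obtain ⟨k, -, rfl⟩ := Finset.mem_image.1 hf
      obtain ⟨k', -, rfl⟩ := Finset.mem_image.1 hf'
      exact classInner_irr_ne (χ := ⟨A k, hAirr k⟩) (ψ := ⟨A k', hAirr k'⟩)
        (fun h => hne (congrArg Subtype.val h).symm)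
    · exact fun h => absurd hf h
  have hχO : (χ : G → ℂ) ∈ O := Finset.mem_image.2 ⟨1, Finset.mem_univ _, hA1⟩
  have hΘcls : ∀ g h : G, IsConj g h → Θ g = Θ h := fun g h hgh => by
    rw [hΘ, Finset.sum_apply, Finset.sum_apply]
    refine Finset.sum_congr rfl fun f hf => ?_
    obtain ⟨k, -, rfl⟩ := Finset.mem_image.1 hf
    exact classFunction_eq_of_isConj (isClassFunction_irr ⟨A k, hAirr k⟩) hgh
  have hdvd : r * d ∣ (p - 1) * n := by
    refine dvd_of_isIntegral_div (Nat.mul_ne_zero hrpos.ne' hd0) ?_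
    have h1 : ∑ g : G, Θ g * conj ((χ : G → ℂ) g) = (n : ℂ) := by
      have h2 := horth _ hχO
      rw [← classInner_conj_symm, classInner_def] at h2
      have h3 := congrArg conj h2
      rw [Complex.conj_conj, map_one, inv_mul_eq_iff_eq_mul₀ (Nat.cast_ne_zero.2 hn0), mul_one] at h3
      exact h3
    have h4 : (((p - 1) * n : ℕ) : ℂ) / ((r * d : ℕ) : ℂ) =
        ∑ g : G, Y g * conj ((χ : G → ℂ) g) / (d : ℂ) := by
      push_cast
      rw [← h1, Finset.mul_sum, Finset.sum_div]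
      refine Finset.sum_congr rfl fun g _ => ?_
      rw [show ((p - 1 : ℕ) : ℂ) * (Θ g * conj ((χ : G → ℂ) g)) = (r : ℂ) * Y g * conj ((χ : G → ℂ) g) by
        rw [← hYeq]; ring]
      have : (d : ℂ) ≠ 0 := Nat.cast_ne_zero.2 hd0
      field_simp
    rw [h4]
    refine isIntegral_sum_classes _ (fun g h hgh => ?_) fun g => ?_
    · have hyy : Y g = Y h := mul_left_cancel₀ hr0 (by rw [← hYeq, ← hYeq, hΘcls g h hgh])
      rw [hyy, classFunction_eq_of_isConj (isClassFunction_irr χ) hgh]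
    · have hω := (isIntegral_centralChar_irr χ.2 g).map (starRingEnd ℂ).toIntAlgHom
      have h5 : IsIntegral ℤ (conj ((Nat.card {x : G // IsConj g x} : ℂ) * (χ : G → ℂ) g / (χ : G → ℂ) 1)) := hω
      rw [map_div₀, map_mul, hdeg1, Complex.conj_natCast, Complex.conj_natCast] at h5
      rw [show (Nat.card {x : G // IsConj g x} : ℂ) * (Y g * conj ((χ : G → ℂ) g) / (d : ℂ)) =
        Y g * ((Nat.card {x : G // IsConj g x} : ℂ) * conj ((χ : G → ℂ) g) / (d : ℂ)) by ring]
      exact (hYint g).mul h5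
  refine ⟨?_, fun hpa => ?_⟩
  · have hp10 : p - 1 ≠ 0 := by have := hp.two_le; omega
    calc (r * d).factorization p ≤ ((p - 1) * n).factorization p :=
          (Nat.factorization_le_iff_dvd (Nat.mul_ne_zero hrpos.ne' hd0) (Nat.mul_ne_zero hp10 hn0)).2 hdvd p
      _ = a := by
          rw [Nat.factorization_mul hp10 hn0, Finsupp.add_apply,
            Nat.factorization_eq_zero_of_lt (show p - 1 < p by omega), zero_add, ha]
  -- the character `Θ` vanishes on `p`-singular elements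
  have hn1 : q ∣ n := hqm ▸ dvd_mul_right q m
  have hn1' : ¬ p ^ (a + 1) ∣ n := ha ▸ Nat.pow_succ_factorization_not_dvd hn0 hp
  set f : G → ℂ := fun g => if p ∣ orderOf g then 0 else (r : ℂ) * (χ : G → ℂ) g with hf
  have hgen : Cfsg.IsGeneralizedCharacter G f := isGeneralized_mult χ.2 hp hn1 hn1' hpa
  obtain ⟨z, hz⟩ := IsGeneralizedCharacter.exists_mult hgen χ.2
  have hreg : ∀ k g, ¬ p ∣ orderOf g → A k g = (χ : G → ℂ) g := fun k g hg => by
    have hgm : orderOf g ∣ m := by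
      refine Nat.Coprime.dvd_of_dvd_mul_left (k := orderOf g) (m := q) (n := m) (hq ▸ Nat.Coprime.pow_right a (hp.coprime_iff_not_dvd.2 hg).symm) ?_
      rw [hqm]
      exact orderOf_dvd_natCard g
    simp only [hA]
    conv_rhs => rw [← pow_one g]
    rw [pow_eq_pow_iff_modEq.2 ((hKm k).of_dvd hgm)]
  have hfψ : ∀ ψ ∈ O, Cfsg.classInner f ψ = (z : ℂ) := by
    intro ψ hψ
    obtain ⟨k, -, rfl⟩ := Finset.mem_image.1 hψ
    rw [← hz, classInner_def, classInner_def]
    congr 1
    refine Finset.sum_congr rfl fun g _ => ?_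
    simp only [hf]
    split_ifs with h
    · simp
    · rw [hreg k g h]
  have hfΘ : Cfsg.classInner f Θ = (r : ℂ) * z := by
    rw [hΘ, classInner_sum_right, Finset.sum_congr rfl hfψ, Finset.sum_const, nsmul_eq_mul, hrO]
  have hΘΘ : Cfsg.classInner Θ Θ = (r : ℂ) := by
    rw [hΘ, classInner_sum_left, Finset.sum_congr rfl (g := fun _ => (1 : ℂ)) horth, Finset.sum_const,
      nsmul_eq_mul, mul_one, hrO]
  have hff : Cfsg.classInner f f = (r : ℂ) * z := by
    rw [← hz, classInner_def, classInner_def, mul_left_comm]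
    congr 1
    rw [Finset.mul_sum]
    refine Finset.sum_congr rfl fun g _ => ?_
    simp only [hf]
    split_ifs
    · simp
    · rw [map_mul, Complex.conj_natCast]; ring
  have hnorm : Cfsg.classInner (f - Θ) (f - Θ) = (r : ℂ) * (1 - z) := by
    rw [classInner_sub_left, classInner_sub_right, classInner_sub_right, hff, hfΘ, hΘΘ,
      ← classInner_conj_symm f Θ, hfΘ, map_mul, Complex.conj_natCast, map_intCast]
    ring
  have hzpos : (1 : ℤ) ≤ z := by
    have h1 : ((r * z : ℤ) : ℝ) = (Nat.card G : ℝ)⁻¹ * ∑ g : G, ‖f g‖ ^ 2 := by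
      have h := classInner_self f
      rw [hff] at h
      exact_mod_cast h
    have h2 : (0 : ℝ) < ((r * z : ℤ) : ℝ) := by
      rw [h1]
      refine mul_pos (inv_pos.2 (Nat.cast_pos.2 Nat.card_pos))
        (Finset.sum_pos' (fun _ _ => sq_nonneg _) ⟨1, Finset.mem_univ _, ?_⟩)
      refine pow_pos (norm_pos_iff.2 ?_) 2
      simp only [hf, orderOf_one, Nat.dvd_one, if_neg hp.ne_one, hdeg1]
      exact mul_ne_zero hr0 (Nat.cast_ne_zero.2 hd0)
    have h3 : (0 : ℤ) < r * z := by exact_mod_cast h2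
    have h4 := pos_of_mul_pos_right h3 (Int.natCast_nonneg r)
    omega
  have hzle : z ≤ 1 := by
    have h := classInner_self (f - Θ)
    rw [hnorm] at h
    have h1 : ((r * (1 - z) : ℤ) : ℝ) = (Nat.card G : ℝ)⁻¹ * ∑ g : G, ‖(f - Θ) g‖ ^ 2 := by
      exact_mod_cast h
    have h2 : (0 : ℝ) ≤ ((r * (1 - z) : ℤ) : ℝ) := by
      rw [h1]; exact mul_nonneg (inv_nonneg.2 (Nat.cast_nonneg _)) (Finset.sum_nonneg fun _ _ => sq_nonneg _)
    have h3 : (0 : ℤ) ≤ r * (1 - z) := by exact_mod_cast h2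
    nlinarith [(by exact_mod_cast hrpos : (0 : ℤ) < r)]
  have hz1 : z = 1 := le_antisymm hzle hzpos
  rw [hz1, Int.cast_one, sub_self, mul_zero, classInner_self_eq_zero, sub_eq_zero] at hnorm
  obtain ⟨P⟩ : Nonempty (Sylow p G) := inferInstance
  have hPcard : Nat.card (P : Subgroup G) = q := by rw [P.card_eq_multiplicity, ← hn, ha]
  have hsing : ∀ u : (P : Subgroup G), u ≠ 1 → Θ (u : G) = 0 := fun u hu => by
    rw [← hnorm]
    simp only [hf]
    rw [if_pos]
    obtain ⟨j, hj⟩ := IsPGroup.iff_orderOf.1 P.2 u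
    rw [Subgroup.orderOf_coe, hj]
    refine dvd_pow_self p fun h => hu ?_
    rw [h, pow_zero] at hj
    exact orderOf_eq_one_iff.1 hj
  have hsumP : ∀ ψ ∈ O, ∑ u : (P : Subgroup G), ψ (u : G) = ∑ u : (P : Subgroup G), (χ : G → ℂ) u := by
    intro ψ hψ
    obtain ⟨k, -, rfl⟩ := Finset.mem_image.1 hψ
    refine Fintype.sum_equiv (powCoprime (G := (P : Subgroup G)) (n := K k) ?_) _ _ fun u => ?_
    · rw [hPcard]
      exact (Nat.Coprime.coprime_dvd_right hn1 (hKcop k)).symm
    · simp [hA, powCoprime]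
  have hΘ1 : Θ 1 = (r : ℂ) * d := by
    rw [← hnorm]
    simp only [hf, orderOf_one, Nat.dvd_one, if_neg hp.ne_one, hdeg1]
  have hsumχ : ∑ u : (P : Subgroup G), (χ : G → ℂ) u = (d : ℂ) := by
    apply mul_left_cancel₀ hr0
    rw [← hΘ1]
    have h1 : ∑ u : (P : Subgroup G), Θ (u : G) = Θ 1 := by
      rw [Finset.sum_eq_single 1 (fun u _ hu => hsing u hu) (fun h => absurd (Finset.mem_univ _) h)]
      rfl
    rw [← h1, hΘ]
    simp only [Finset.sum_apply]
    rw [Finset.sum_comm, Finset.sum_congr rfl hsumP, Finset.sum_const, nsmul_eq_mul, hrO]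
  obtain ⟨e, he⟩ := classInner_char_nat (IsCharacter.restrict hχc (P : Subgroup G)) isCharacter_one
  rw [classInner_def, hPcard, Finset.sum_congr rfl (g := fun u : (P : Subgroup G) => (χ : G → ℂ) u)
    (fun u _ => by rw [map_one, mul_one]), hsumχ,
    inv_mul_eq_iff_eq_mul₀ (Nat.cast_ne_zero.2 (NeZero.ne q))] at he
  exact ⟨e, by exact_mod_cast he⟩

/-- Let G be a finite group, p a prime, p^a the p-part of the order of G and g′ its p′-part. Call two irreducible characters p-conjugate when one is obtained from the other by applying a field automorphism of ℂ that fixes the g′-th roots of unity, and let r be the number of characters p-conjugate to the irreducible character χ (χ included). Then the exponent of p in r·χ(1) is at most a; and if p^a divides r·χ(1) then p^a already divides χ(1). -/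
theorem result {G : Type*} [Group G] [Finite G] (p : ℕ) (hp : p.Prime) (χ : Cfsg.IrrCharacter G) (r : ℕ) (hr : Nat.card {ψ : Cfsg.IrrCharacter G // ∃ σ : ℂ ≃+* ℂ, σ (Complex.exp (2 * Real.pi * Complex.I / ((Nat.card G / p ^ (Nat.card G).factorization p) : ℕ))) = Complex.exp (2 * Real.pi * Complex.I / ((Nat.card G / p ^ (Nat.card G).factorization p) : ℕ)) ∧ (ψ : G → ℂ) = fun g => σ ((χ : G → ℂ) g)} = r) : (r * Cfsg.charDegree (χ : G → ℂ)).factorization p ≤ (Nat.card G).factorization p ∧ (p ^ (Nat.card G).factorization p ∣ r * Cfsg.charDegree (χ : G → ℂ) → p ^ (Nat.card G).factorization p ∣ Cfsg.charDegree (χ : G → ℂ)) := by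
  exact main p hp χ _ _ r rfl rfl hr

end Cfsg.Agent.S4506
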