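import Cfsg.Statements.S4507
import Cfsg.Agent.Blocks.OrbitFamily
-- import your own Cfsg.Agent.* helpers here

set_option autoImplicit false
open Cfsg

namespace Cfsg.Agent.S4507

set_option linter.unusedSectionVars false

open Cfsg.Lib.Blocks Cfsg.Lib.Chars

theorem mem_zeta {G : Type*} [Group G] [Fintype G] {p : ℕ} [Fact p.Prime] (C : Cyc G p) :
    Complex.exp (2 * Real.pi * Complex.I / (Nat.card G / p : ℕ)) ∈ cycField (bigN G p) := by
  have : NeZero (bigN G p) := ⟨fun h => C.not_dvd_bigN (h ▸ dvd_zero p)⟩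
  have : NeZero (Nat.card G / p) := ⟨fun h => C.not_dvd_div (h ▸ dvd_zero p)⟩
  refine mem_cycField_of_pow_eq_one _ ?_
  rw [bigN, pow_mul]
  show (zetaC (Nat.card G / p) ^ (Nat.card G / p)) ^ _ = 1
  rw [(isPrimitiveRoot_zetaC _).pow_eq_one, one_pow]

/-- Let G be a finite group whose order g is divisible by the prime p exactly once, g′ = g/p, and fix a maximal ideal M of the algebraic integers containing p. Call two irreducible characters p-conjugate when a field automorphism of ℂ fixing the g′-th roots of unity carries one to the other. Let B be a p-block of positive defect (its defect group is a Sylow p-subgroup). Then B contains a subset Y (the exceptional family) such that: Y is a full p-conjugacy class (its members are pairwise p-conjugate and every p-conjugate of a member of Y lies in Y); every member of B outside Y is p-conjugate only to itself; the size t of Y divides p − 1 and B has exactly t + (p − 1)/t members; and there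 are signs δ_χ = ±1 (χ ∈ B) such that for every p-regular element x and every θ ∈ Y, Σ_{χ ∈ B ∖ Y} δ_χ χ(x) + δ_θ θ(x) = 0. -/
theorem result {G : Type*} [Group G] [Finite G] (p : ℕ) [Fact p.Prime] (M : Ideal Cfsg.AlgInt) (hM : Cfsg.IsPModular p M) (hdiv : p ∣ Nat.card G) (hsq : ¬ p ^ 2 ∣ Nat.card G) (B : Set (Cfsg.IrrCharacter G)) (hB : Cfsg.IsPBlock M B) (hd : 0 < Cfsg.blockDefect p B) : ∃ Y : Set (Cfsg.IrrCharacter G), Y ⊆ B ∧ Y.Nonempty ∧ (∀ θ ∈ Y, ∀ ψ : Cfsg.IrrCharacter G, (∃ σ : ℂ ≃+* ℂ, σ (Complex.exp (2 * Real.pi * Complex.I / ((Nat.card G / p ^ (Nat.card G).factorization p) : ℕ))) = Complex.exp (2 * Real.pi * Complex.I / ((Nat.card G / p ^ (Nat.card G).factorization p) : ℕ)) ∧ (ψ : G → ℂ) = fun g => σ ((θ : G → ℂ) g)) ↔ ψ ∈ Y) ∧ (∀ χ ∈ B, χ ∉ Y → ∀ ψ : Cfsg.IrrCharacter G, (∃ σ : ℂ ≃+* ℂ, σ (Complex.exp (2 * Real.pi * Complex.I / ((Nat.card G / p ^ (Nat.card G).factorization p) : ℕ))) = Complex.exp (2 * Real.pi * Complex.I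 / ((Nat.card G / p ^ (Nat.card G).factorization p) : ℕ)) ∧ (ψ : G → ℂ) = fun g => σ ((χ : G → ℂ) g)) → ψ = χ) ∧ Nat.card Y ∣ p - 1 ∧ Nat.card B = Nat.card Y + (p - 1) / Nat.card Y ∧ ∃ δ : Cfsg.IrrCharacter G → ℤ, (∀ χ ∈ B, δ χ = 1 ∨ δ χ = -1) ∧ ∀ x : G, ¬ p ∣ orderOf x → ∀ θ ∈ Y, (∑ᶠ χ ∈ B \ Y, (δ χ : ℂ) * (χ : G → ℂ) x) + (δ θ : ℂ) * (θ : G → ℂ) x = 0 := by
  classical
  have : Fintype G := Fintype.ofFinite G
  obtain ⟨P⟩ : Nonempty (Sylow p G) := inferInstance
  obtain ⟨C, hP⟩ := exists_cyc hdiv hsq P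
  obtain ⟨η, hBη⟩ := C.exists_lies_block hM P hP hB hd
  obtain ⟨ν, δ, hD⟩ := C.exists_orbitData hM η
  subst hBη
  rw [C.card_div_pPart]
  refine ⟨Set.range ν, hD.range_subset, ⟨ν 1, 1, rfl⟩, fun θ hθ ψ => ?_, fun χ hχ hχY ψ => ?_,
    ?_, ?_, fun χ => if χ ∈ Set.range ν then -δ else C.bI χ η 1, fun χ hχ => ?_,
    fun x hx θ hθ => ?_⟩
  · obtain ⟨u, rfl⟩ := hθ
    constructor
    · rintro ⟨σ, hσ, hψ⟩
      obtain ⟨c, hc⟩ := C.exists_twist_eq dvd_rfl C.not_dvd_div (dvd_mul_right _ _) hσ (ν u)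
      refine ⟨c * u, ?_⟩
      rw [← hD.twist_exc]
      exact Subtype.ext (by rw [hψ]; exact (funext hc).symm)
    · rintro ⟨w, rfl⟩
      refine ⟨C.gal (w * u⁻¹), C.gal_fix _ ?_, ?_⟩
      · exact mem_zeta C
      · rw [← show C.twist (w * u⁻¹) (ν u) = ν w by rw [hD.twist_exc, inv_mul_cancel_right]]
        rfl
  · rintro ⟨σ, hσ, hψ⟩
    obtain ⟨c, hc⟩ := C.exists_twist_eq dvd_rfl C.not_dvd_div (dvd_mul_right _ _) hσ χ
    have h0 : C.bI χ η 1 ≠ 0 := by
      rcases hD.sign_diff ⟨hχ, hχY⟩ with e | e <;> omega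
    rw [← hD.rational χ hχY h0 c]
    exact Subtype.ext (by rw [hψ]; exact funext hc)
  · rw [hD.card_range]
    exact C.index_E_dvd _
  · rw [hD.card_lies, hD.card_range, C.div_index_E]
  · simp only
    split_ifs with h
    · have := hD.sign
      omega
    · exact hD.sign_diff ⟨hχ, h⟩
  · obtain ⟨w, rfl⟩ := hθ
    refine Eq.trans ?_ (hD.regular_sum hx w)
    simp only [if_pos (show ν w ∈ Set.range ν from ⟨w, rfl⟩)]
    congr 1
    rw [finsum_mem_eq_sum_of_inter_support_eq (s := {χ | C.Lies χ η} \ Set.range ν)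
      (t := Finset.univ.filter fun χ => χ ∈ {χ | C.Lies χ η} \ Set.range ν) _ (by simp only [Finset.coe_filter, Finset.mem_univ, true_and]; rfl)]
    exact Finset.sum_congr rfl fun χ hχ => by rw [if_neg (Finset.mem_filter.1 hχ).2.2]

end Cfsg.Agent.S4507
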