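import Cfsg.Statements.S4508
import Cfsg.Agent.Chars.ExtCriteria
import Cfsg.Agent.Chars.Count
import Cfsg.Agent.Chars.Galois
import Cfsg.Agent.Chars.Gallagher
-- import your own Cfsg.Agent.* helpers here

set_option autoImplicit false
open Cfsg

namespace Cfsg.Agent.S4508

set_option linter.unusedSectionVars false

open Cfsg.Lib.Chars
open scoped ComplexConjugate Pointwise commutatorElement

universe u

variable {G : Type u} [Group G] [Finite G]

theorem sylow_eq {p : ℕ} [Fact p.Prime] {x : G} (hx : orderOf x = p)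
    (hC : Subgroup.centralizer ({x} : Set G) = Subgroup.zpowers x) :
    ∃ P : Sylow p G, (P : Subgroup G) = Subgroup.zpowers x := by
  obtain ⟨P, hP⟩ := (IsPGroup.of_card (n := 1) (by rw [Nat.card_zpowers, hx, pow_one]) :
    IsPGroup p (Subgroup.zpowers x)).exists_le_sylow
  have hxP : x ∈ (P : Subgroup G) := hP (Subgroup.mem_zpowers x)
  have hx1 : x ≠ 1 := fun h => (Fact.out : p.Prime).one_lt.ne' (by rw [← hx, h, orderOf_one])
  haveI : Nontrivial (P : Subgroup G) :=
    ⟨⟨⟨x, hxP⟩, 1, fun h => hx1 (congrArg Subtype.val h)⟩⟩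
  haveI := P.isPGroup'.center_nontrivial
  obtain ⟨⟨z, hzc⟩, hz1⟩ := exists_ne (1 : Subgroup.center (P : Subgroup G))
  have hzC : (z : G) ∈ Subgroup.zpowers x := by
    rw [← hC, Subgroup.mem_centralizer_singleton_iff]
    exact congrArg Subtype.val (Subgroup.mem_center_iff.1 hzc ⟨x, hxP⟩).symm
  have hz1' : (z : G) ≠ 1 := fun h => hz1 (Subtype.ext (Subtype.ext h))
  have hgen : Subgroup.zpowers (z : G) = Subgroup.zpowers x := by
    refine Subgroup.eq_of_le_of_card_ge (Subgroup.zpowers_le.2 hzC) ?_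
    rw [Nat.card_zpowers, Nat.card_zpowers, hx]
    have h8 := Subgroup.card_dvd_of_le (Subgroup.zpowers_le.2 hzC)
    rw [Nat.card_zpowers, Nat.card_zpowers, hx] at h8
    exact ((Nat.dvd_prime (Fact.out : p.Prime)).1 h8 |>.resolve_left
      (fun h => hz1' (orderOf_eq_one_iff.1 h))).ge
  refine ⟨P, le_antisymm (fun g hg => ?_) hP⟩
  rw [← hC, Subgroup.mem_centralizer_singleton_iff]
  obtain ⟨j, hj⟩ := (hgen ▸ Subgroup.mem_zpowers x : x ∈ Subgroup.zpowers (z : G))
  have h1 : Commute g (z : G) := congrArg Subtype.val (Subgroup.mem_center_iff.1 hzc ⟨g, hg⟩)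
  rw [← show (z : G) ^ j = x from hj]
  exact (h1.zpow_right j).eq

theorem eq_zero_of_trace {d : ℕ} (T : Module.End ℂ (Fin d → ℂ)) {a : ℂ} (ha : a ≠ 0)
    (hT : T * T = a • T) (htr : LinearMap.trace ℂ _ T = 0) : T = 0 := by
  set E : Module.End ℂ (Fin d → ℂ) := a⁻¹ • T with hE
  have hEE : E * E = E := by
    rw [hE, smul_mul_smul_comm, hT, smul_smul, mul_assoc, inv_mul_cancel₀ ha, mul_one]
  have hproj : LinearMap.IsProj (LinearMap.range E) E := by
    refine ⟨fun y => LinearMap.mem_range_self E y, ?_⟩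
    rintro _ ⟨y, rfl⟩
    exact LinearMap.congr_fun hEE y
  have h1 := hproj.trace
  rw [hE, map_smul, htr, smul_zero] at h1
  have h2 : Module.finrank ℂ (LinearMap.range E) = 0 := by exact_mod_cast h1.symm
  have h3 : E = 0 := LinearMap.range_eq_bot.1 (Submodule.finrank_eq_zero.1 h2)
  rw [hE, smul_eq_zero] at h3
  exact h3.resolve_left (inv_ne_zero ha)

/-- A character that is an odd multiple of the regular character of a cyclic subgroup of even order
has determinant `-1` on a generator. -/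
theorem det_eq_neg_one (m c : ℕ) {d : ℕ} (ρ : Representation ℂ G (Fin d → ℂ)) (n : G)
    (hn : n ^ (m + 1) = 1) (hev : 2 ∣ m + 1) (hc : ¬ 2 ∣ c)
    (hchar : ∀ i : ℕ, ρ.character (n ^ i) = if m + 1 ∣ i then ((c * (m + 1) : ℕ) : ℂ) else 0) :
    LinearMap.det (ρ n) = -1 := by
  classical
  let Γ := Multiplicative (ZMod (m + 1))
  let f : Γ →* G := MonoidHom.mk' (fun a => n ^ (Multiplicative.toAdd a).val) fun a b => by
    rw [← pow_add]
    refine pow_eq_pow_iff_modEq.2 (Nat.ModEq.of_dvd (orderOf_dvd_of_pow_eq_one hn) ?_)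
    rw [toAdd_mul, ZMod.val_add]
    exact Nat.mod_modEq _ _
  let σ : Γ →* Equiv.Perm (Fin c × ZMod (m + 1)) := MonoidHom.mk'
    (fun a => Equiv.prodCongrRight (fun _ => Equiv.addRight (Multiplicative.toAdd a)))
    fun a b => by
      ext ⟨i, y⟩
      · rfl
      · simp [add_assoc, add_comm, add_left_comm]
        rfl
  let R : Representation ℂ Γ (Fin c × ZMod (m + 1) → ℂ) :=
    { toFun := fun a => Matrix.toLin' ((σ a⁻¹).permMatrix ℂ)
      map_one' := by
        rw [inv_one, map_one, Matrix.permMatrix_one, Matrix.toLin'_one]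
        rfl
      map_mul' := fun a b => by
        rw [mul_inv_rev, map_mul]
        show Matrix.toLin' _ = Matrix.toLin' _ ∘ₗ Matrix.toLin' _
        rw [← Matrix.toLin'_mul]
        congr 1
        simp only [Equiv.Perm.permMatrix, Equiv.Perm.mul_def, Equiv.toPEquiv_trans,
          PEquiv.toMatrix_trans] }
  let ρ' : Representation ℂ Γ (Fin d → ℂ) := MonoidHom.comp ρ f
  have hRchar : R.character = ρ'.character := by
    funext a
    show LinearMap.trace ℂ _ (Matrix.toLin' ((σ a⁻¹).permMatrix ℂ)) = ρ.character (f a)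
    rw [LinearMap.trace_eq_matrix_trace ℂ (Pi.basisFun ℂ _), LinearMap.toMatrix_eq_toMatrix',
      LinearMap.toMatrix'_toLin', Matrix.trace_permutation]
    show _ = ρ.character (n ^ (Multiplicative.toAdd a).val)
    rw [hchar]
    have hdvd : (m + 1 ∣ (Multiplicative.toAdd a).val) ↔ Multiplicative.toAdd a = 0 := by
      rw [← ZMod.natCast_eq_zero_iff, ZMod.natCast_zmod_val]
    split_ifs with h
    · rw [hdvd] at h
      have ha1 : a = 1 := by
        apply Multiplicative.toAdd.injective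
        rw [h]; rfl
      rw [ha1, inv_one, map_one]
      simp
    · rw [hdvd] at h
      have hfix : Function.fixedPoints (σ a⁻¹) = ∅ := by
        ext ⟨i, y⟩
        simp only [Function.mem_fixedPoints_iff, Set.mem_empty_iff_false, iff_false]
        intro hy
        have h2 := congrArg Prod.snd hy
        simp [σ] at h2
        exact h h2
      rw [hfix]; simp
  obtain ⟨φ⟩ := nonempty_equiv_of_character_eq _ _ R ρ' hRchar
  set a1 : Γ := Multiplicative.ofAdd (1 : ZMod (m + 1)) with ha1
  have hm0 : m ≠ 0 := by rintro rfl; omega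
  haveI : Fact (1 < m + 1) := ⟨by omega⟩
  have hfa : ρ' a1 = ρ n := by
    show ρ (n ^ ((1 : ZMod (m + 1))).val) = ρ n
    rw [ZMod.val_one, pow_one]
  rw [← hfa, ← φ.conj_apply_self a1]
  rw [LinearEquiv.conj_apply, LinearMap.comp_assoc, LinearMap.det_conj]
  show LinearMap.det (Matrix.toLin' ((σ a1⁻¹).permMatrix ℂ)) = -1
  rw [LinearMap.det_toLin', Matrix.det_permutation, map_inv, Equiv.Perm.sign_inv]
  have hrot : Equiv.addRight (1 : ZMod (m + 1)) = finRotate (m + 1) :=
    Equiv.ext fun y => (finRotate_succ_apply y).symm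
  have hsign : Equiv.Perm.sign (σ a1) = -1 := by
    show Equiv.Perm.sign (Equiv.prodCongrRight (fun _ : Fin c => Equiv.addRight (1 : ZMod (m + 1)))) = -1
    have hs : Equiv.Perm.sign (Equiv.addRight (1 : ZMod (m + 1))) = (-1) ^ m := by
      rw [hrot]
      exact sign_finRotate (m + 1)
    rw [Equiv.Perm.sign_prodCongrRight, hs, Finset.prod_const, Finset.card_univ,
      Fintype.card_fin, ← pow_mul]
    refine Odd.neg_one_pow (Nat.odd_iff.2 ?_)
    rw [Nat.mul_mod, show m % 2 = 1 by omega, show c % 2 = 1 by omega]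
  rw [hsign]
  simp

/-- Let the finite group G contain an element x of prime order p with C_G(x) = ⟨x⟩, and let t be the number of conjugacy classes of elements of order p. If G has an irreducible character of degree p − 1, then t is even or the commutator subgroup has even index. -/
theorem result {G : Type*} [Group G] [Finite G] (p : ℕ) (hp : p.Prime) (x : G) (hx : orderOf x = p) (hC : Subgroup.centralizer ({x} : Set G) = Subgroup.zpowers x) (t : ℕ) (ht : Nat.card {C : ConjClasses G // ∃ g ∈ C.carrier, orderOf g = p} = t) (χ : Cfsg.IrrCharacter G) (hχ : Cfsg.charDegree (χ : G → ℂ) + 1 = p) : Even t ∨ Even (commutator G).index := by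
  classical
  letI := Fintype.ofFinite G
  haveI := Fact.mk hp
  have hP := sylow_eq hx hC
  obtain ⟨P, hP⟩ := hP
  by_cases hp2 : p = 2
  · subst hp2
    right
    haveI : IsCyclic ↥(P : Subgroup G) := by rw [hP]; infer_instance
    have hG : 2 ∣ Nat.card G := hx ▸ orderOf_dvd_natCard x
    have hmin : (Nat.card G).minFac = 2 := (Nat.minFac_eq_two_iff _).2 hG
    have hN := IsCyclic.normalizer_le_centralizer (P := P) hmin inferInstance
    set T := MonoidHom.transferSylow P hN with hT
    have hcomp := MonoidHom.ker_transferSylow_isComplement' P hN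
    have hidx : T.ker.index = 2 := by
      rw [hcomp.symm.index_eq_card, hP, Nat.card_zpowers, hx]
    have hle : commutator G ≤ T.ker := Subgroup.commutator_le.2 fun a _ b _ => by
      rw [MonoidHom.mem_ker, map_commutatorElement, commutatorElement_eq_one_iff_mul_comm]
      haveI := IsCyclic.isMulCommutative (α := ↥(P : Subgroup G))
      exact mul_comm' _ _
    exact even_iff_two_dvd.2 (hidx ▸ Subgroup.index_dvd_of_le hle)
  rw [or_iff_not_imp_left, Nat.not_even_iff_odd]
  intro htodd
  have hpodd : Odd p := hp.odd_of_ne_two hp2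
  set M := deg (χ : G → ℂ) with hM
  have hMp : M + 1 = p := hχ
  -- powers of `x`
  set pw : (ZMod p)ˣ → G := fun k => x ^ (k : ZMod p).val with hpw
  have hpow : ∀ a b : ℕ, ((a : ZMod p) = b) → x ^ a = x ^ b := fun a b h => by
    rw [ZMod.natCast_eq_natCast_iff] at h
    exact pow_eq_pow_iff_modEq.2 (hx ▸ h)
  have hpmul : ∀ k l : (ZMod p)ˣ, pw (k * l) = pw k ^ (l : ZMod p).val := fun k l => by
    simp only [hpw, ← pow_mul]
    exact hpow _ _ (by push_cast [ZMod.natCast_zmod_val]; rfl)
  have hpinj : Function.Injective pw := fun k l h => by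
    simp only [hpw] at h
    rw [pow_eq_pow_iff_modEq, hx] at h
    have := (ZMod.natCast_eq_natCast_iff _ _ _).2 h
    rw [ZMod.natCast_zmod_val, ZMod.natCast_zmod_val] at this
    exact Units.ext this
  have hp1 : pw 1 = x := by
    simp only [hpw, Units.val_one, ZMod.val_one, pow_one]
  set H : Subgroup (ZMod p)ˣ :=
    { carrier := {k | IsConj x (pw k)}
      one_mem' := by show IsConj x (pw 1); rw [hp1]
      mul_mem' := by
        intro k l (hk : IsConj x (pw k)) (hl : IsConj x (pw l))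
        show IsConj x (pw (k * l))
        rw [mul_comm, hpmul]
        exact hk.trans (by simpa only [hpw] using hl.pow (k : ZMod p).val)
      inv_mem' := by
        intro k (hk : IsConj x (pw k))
        show IsConj x (pw k⁻¹)
        have h := hk.pow ((k⁻¹ : (ZMod p)ˣ) : ZMod p).val
        rw [← hpmul, mul_inv_cancel, hp1] at h
        exact h.symm } with hH
  have hHmem : ∀ k, k ∈ H ↔ IsConj x (pw k) := fun k => Iff.rfl
  have hfib : ∀ k l : (ZMod p)ˣ, IsConj (pw k) (pw l) ↔ k⁻¹ * l ∈ H := by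
    intro k l
    rw [hHmem]
    constructor
    · intro h
      have h2 := h.pow ((k⁻¹ : (ZMod p)ˣ) : ZMod p).val
      rw [← hpmul, ← hpmul, mul_inv_cancel, hp1, mul_comm] at h2
      exact h2
    · intro h
      have h2 := h.pow (k : ZMod p).val
      rw [← hpmul, mul_comm, mul_inv_cancel_left] at h2
      simpa only [hpw] using h2
  -- the classes of elements of order `p`
  have hordk : ∀ k : (ZMod p)ˣ, orderOf (pw k) = p := fun k => by
    simp only [hpw]
    rw [Nat.Coprime.orderOf_pow, hx]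
    rw [hx]
    exact ((ZMod.val_coe_unit_coprime k)).symm
  have hsurj : ∀ g : G, orderOf g = p → ∃ k : (ZMod p)ˣ, IsConj (pw k) g := by
    intro g hg
    have hgp : IsPGroup p (Subgroup.zpowers g) := IsPGroup.of_card (n := 1) (by rw [Nat.card_zpowers, hg, pow_one])
    obtain ⟨Q, hQ⟩ := hgp.exists_le_sylow
    obtain ⟨c, hc⟩ := MulAction.exists_smul_eq G P Q
    have hgQ : g ∈ (Q : Subgroup G) := hQ (Subgroup.mem_zpowers g)
    rw [← hc, Sylow.coe_subgroup_smul, hP] at hgQ
    obtain ⟨y, hy, hyg⟩ := (Subgroup.mem_smul_pointwise_iff_exists _ _ _).1 hgQ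
    rw [mem_zpowers_iff_mem_range_orderOf, Finset.mem_image] at hy
    obtain ⟨i, hi, rfl⟩ := hy
    rw [Finset.mem_range, hx] at hi
    have hyg' : c * x ^ i * c⁻¹ = g := hyg
    have hi0 : i ≠ 0 := fun h => by
      rw [h, pow_zero, mul_one, mul_inv_cancel] at hyg'
      rw [← hyg', orderOf_one] at hg
      exact hp.one_lt.ne hg
    refine ⟨ZMod.unitOfCoprime i ((hp.coprime_iff_not_dvd.2 fun h => by
      have := Nat.le_of_dvd (Nat.pos_of_ne_zero hi0) h; omega).symm), isConj_iff.2 ⟨c, ?_⟩⟩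
    simp only [hpw, ZMod.coe_unitOfCoprime, ZMod.val_natCast, Nat.mod_eq_of_lt hi]
    exact hyg'
  let Φ : (ZMod p)ˣ ⧸ H → {C : ConjClasses G // ∃ g ∈ C.carrier, orderOf g = p} := fun q =>
    ⟨ConjClasses.mk (pw q.out), pw q.out, ConjClasses.mem_carrier_mk, hordk _⟩
  have hΦ : Function.Bijective Φ := by
    constructor
    · intro a b h
      have h' := congrArg Subtype.val h
      rw [← QuotientGroup.out_eq' a, ← QuotientGroup.out_eq' b, QuotientGroup.eq]
      exact (hfib _ _).1 (ConjClasses.mk_eq_mk_iff_isConj.1 h')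
    · rintro ⟨C, g, hg, hgo⟩
      obtain ⟨k, hk⟩ := hsurj g hgo
      refine ⟨(k : (ZMod p)ˣ ⧸ H), Subtype.ext ?_⟩
      show ConjClasses.mk (pw _) = C
      rw [← ConjClasses.mem_carrier_iff_mk_eq.1 hg, ConjClasses.mk_eq_mk_iff_isConj]
      refine IsConj.trans ((hfib _ _).2 ?_) hk
      exact QuotientGroup.eq.1 (QuotientGroup.out_eq' _)
  haveI : Fintype ((ZMod p)ˣ ⧸ H) := Fintype.ofFinite _
  have hindex : H.index = t := by
    rw [← ht, Subgroup.index_eq_card]
    exact Nat.card_eq_of_bijective Φ hΦ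
  set e := Nat.card H with he
  have het : e * t = M := by
    rw [← hindex, he, Subgroup.card_mul_index, Nat.card_eq_fintype_card, ZMod.card_units]
    omega
  have heven : 2 ∣ e := by
    have h2 : 2 ∣ e * t := by
      rw [het]
      obtain ⟨s, hs⟩ := hpodd
      exact ⟨s, by omega⟩
    exact (Nat.Prime.dvd_mul Nat.prime_two).1 h2 |>.resolve_right
      (fun h => Nat.not_even_iff_odd.2 htodd (even_iff_two_dvd.2 h))
  -- restriction to `⟨x⟩`
  set F : (ZMod p)ˣ → ℂ := fun k => (χ : G → ℂ) (pw k) with hF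
  have hFconst : ∀ (q : (ZMod p)ˣ ⧸ H) (k : (ZMod p)ˣ), (k : (ZMod p)ˣ ⧸ H) = q → F k = F q.out := by
    intro q k hk
    refine (classFunction_eq_of_isConj (isClassFunction_irr χ) ((hfib _ _).2 ?_))
    exact QuotientGroup.eq.1 (hk.trans (QuotientGroup.out_eq' q).symm)
  have hfibre : ∀ f : (ZMod p)ˣ → ℂ, (∀ q k, ((k : (ZMod p)ˣ) : (ZMod p)ˣ ⧸ H) = q → f k = f q.out) →
      ∑ k, f k = (e : ℂ) * ∑ q : (ZMod p)ˣ ⧸ H, f q.out := by
    intro f hf
    rw [← Finset.sum_fiberwise Finset.univ (fun k : (ZMod p)ˣ => (k : (ZMod p)ˣ ⧸ H)) f, Finset.mul_sum]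
    refine Finset.sum_congr rfl fun q _ => ?_
    rw [Finset.sum_congr rfl (g := fun _ => f q.out) (fun k hk => hf q k (Finset.mem_filter.1 hk).2),
      Finset.sum_const, nsmul_eq_mul]
    congr 2
    rw [he, Nat.card_eq_fintype_card]
    refine Finset.card_bij (fun k hk => (⟨q.out⁻¹ * k,
      QuotientGroup.eq.1 ((QuotientGroup.out_eq' q).trans (Finset.mem_filter.1 hk).2.symm)⟩ : H))
      (fun _ _ => Finset.mem_univ _) ?_ ?_
    · intro a _ b _ h; simpa using congrArg Subtype.val h
    · intro h _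
      refine ⟨q.out * h, ?_, Subtype.ext (by simp)⟩
      simp only [Finset.mem_filter, Finset.mem_univ, true_and]
      rw [QuotientGroup.mk_mul, QuotientGroup.out_eq', (QuotientGroup.eq_one_iff _).2 h.2, mul_one]
  haveI : Fintype (Subgroup.zpowers x) := Fintype.ofFinite _
  have hsum : ∀ f : G → ℂ, ∑ u : Subgroup.zpowers x, f u = f 1 + ∑ k, f (pw k) := by
    intro f
    rw [← Finset.add_sum_erase Finset.univ (fun u : Subgroup.zpowers x => f u) (Finset.mem_univ 1),
      OneMemClass.coe_one]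
    congr 1
    symm
    refine Finset.sum_bij (fun k _ => (⟨pw k, Subgroup.pow_mem _ (Subgroup.mem_zpowers x) _⟩ : Subgroup.zpowers x))
      (fun k _ => Finset.mem_erase.2 ⟨fun h => ?_, Finset.mem_univ _⟩)
      (fun a _ b _ h => hpinj (congrArg Subtype.val h)) (fun u hu => ?_) (fun _ _ => rfl)
    · have h1 := hordk k
      rw [show pw k = ((1 : Subgroup.zpowers x) : G) from congrArg Subtype.val h, OneMemClass.coe_one,
        orderOf_one] at h1
      exact hp.one_lt.ne h1
    · obtain ⟨hu1, -⟩ := Finset.mem_erase.1 hu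
      have hu2 := u.2
      rw [mem_zpowers_iff_mem_range_orderOf, Finset.mem_image] at hu2
      obtain ⟨i, hi, hiu⟩ := hu2
      rw [Finset.mem_range, hx] at hi
      have hi0 : i ≠ 0 := fun h => hu1 (Subtype.ext (by rw [← hiu, h, pow_zero]; rfl))
      refine ⟨ZMod.unitOfCoprime i ((hp.coprime_iff_not_dvd.2 fun h => by
        have := Nat.le_of_dvd (Nat.pos_of_ne_zero hi0) h; omega).symm), Finset.mem_univ _, Subtype.ext ?_⟩
      simp only [hpw, ZMod.coe_unitOfCoprime, ZMod.val_natCast, Nat.mod_eq_of_lt hi]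
      exact hiu
  have hres := IsCharacter.restrict (isCharacter_of_irr χ.2) (Subgroup.zpowers x)
  obtain ⟨a, ha⟩ := IsCharacter.exists_decomp hres
  set m0 := a (principal (Subgroup.zpowers x)) with hm0
  have hzc : ∀ ψ : Cfsg.IrrCharacter (Subgroup.zpowers x), (ψ : Subgroup.zpowers x → ℂ) 1 = 1 :=
    fun ψ => irr_deg_one_of_comm (fun u v => Subtype.ext (by
      obtain ⟨i, hi⟩ := u.2
      obtain ⟨j, hj⟩ := v.2
      show (u : G) * v = v * u
      rw [← show x ^ i = (u : G) from hi, ← show x ^ j = (v : G) from hj]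
      exact zpow_mul_comm x i j)) ψ.2
  have hcardz : (Nat.card (Subgroup.zpowers x) : ℂ) = (p : ℂ) := by rw [Nat.card_zpowers, hx]
  have hsum_u : ∑ u : Subgroup.zpowers x, (χ : G → ℂ) u = (p : ℂ) * m0 := by
    have h1 : Cfsg.classInner (fun u : Subgroup.zpowers x => (χ : G → ℂ) u)
        ((principal (Subgroup.zpowers x) : Cfsg.IrrCharacter _) : Subgroup.zpowers x → ℂ) = m0 := by
      rw [ha, classInner_sum_left, Finset.sum_eq_single (principal (Subgroup.zpowers x))
        (fun ψ _ hψ => by rw [classInner_nsmul_left, classInner_irr_ne hψ, mul_zero])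
        (fun h => absurd (Finset.mem_univ _) h), classInner_nsmul_left, classInner_irr_self, mul_one]
    rw [classInner_def, hcardz, Finset.sum_congr rfl (g := fun u : Subgroup.zpowers x => (χ : G → ℂ) u)
      (fun u _ => by show (χ : G → ℂ) u * (starRingEnd ℂ) 1 = _; rw [map_one, mul_one]),
      inv_mul_eq_iff_eq_mul₀ (Nat.cast_ne_zero.2 hp.ne_zero)] at h1
    exact h1
  have hsq : ∑ u : Subgroup.zpowers x, (χ : G → ℂ) u * conj ((χ : G → ℂ) u) =
      (p : ℂ) * ((∑ ψ, a ψ * a ψ : ℕ) : ℂ) := by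
    have h1 : Cfsg.classInner (fun u : Subgroup.zpowers x => (χ : G → ℂ) u)
        (fun u : Subgroup.zpowers x => (χ : G → ℂ) u) = ((∑ ψ, a ψ * a ψ : ℕ) : ℂ) := by
      rw [ha]
      simp only [classInner_sum_left, classInner_nsmul_left, classInner_sum_right, classInner_nsmul_right,
        classInner_irrCharacter, mul_ite, mul_one, mul_zero, Finset.sum_ite_eq', Finset.mem_univ, if_true]
      push_cast; rfl
    rw [classInner_def, hcardz, inv_mul_eq_iff_eq_mul₀ (Nat.cast_ne_zero.2 hp.ne_zero)] at h1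
    exact h1
  have hdegsum : ∑ ψ, a ψ = M := by
    have h1 : (χ : G → ℂ) ((1 : Subgroup.zpowers x) : G) =
        (∑ ψ : Cfsg.IrrCharacter (Subgroup.zpowers x), a ψ • (ψ : Subgroup.zpowers x → ℂ)) 1 :=
      congrFun ha 1
    simp only [Finset.sum_apply, Pi.smul_apply] at h1
    simp only [nsmul_eq_mul, hzc, mul_one, OneMemClass.coe_one, irr_apply_one_eq_deg] at h1
    exact_mod_cast h1.symm
  have hFsum : (M : ℂ) + (e : ℂ) * ∑ q : (ZMod p)ˣ ⧸ H, F q.out = (p : ℂ) * m0 := by
    rw [← hsum_u, hsum, ← hfibre F hFconst, irr_apply_one_eq_deg]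
  have hem0 : e ∣ m0 := by
    have hint : IsIntegral ℤ (∑ q : (ZMod p)ˣ ⧸ H, F q.out) :=
      IsIntegral.sum _ fun q _ => IsCharacter.isIntegral (isCharacter_of_irr χ.2) _
    have he0 : (e : ℚ) ≠ 0 := Nat.cast_ne_zero.2 Nat.card_pos.ne'
    have hcast : (((((p * m0 : ℕ) : ℚ) - M) / e : ℚ) : ℂ) = ∑ q : (ZMod p)ˣ ⧸ H, F q.out := by
      push_cast
      rw [div_eq_iff (Nat.cast_ne_zero.2 Nat.card_pos.ne'), sub_eq_iff_eq_add, ← hFsum]
      ring
    obtain ⟨z, hz⟩ := int_of_isIntegral_rat (q := (((p * m0 : ℕ) : ℚ) - M) / e) (by rw [hcast]; exact hint)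
    rw [div_eq_iff he0] at hz
    have hz' : ((p * m0 : ℕ) : ℤ) - (M : ℤ) = z * (e : ℤ) := by exact_mod_cast hz
    have h3 : (e : ℤ) ∣ ((p * m0 : ℕ) : ℤ) := by
      refine ⟨z + t, ?_⟩
      rw [← het] at hz'
      push_cast at hz' ⊢
      linarith
    have h4 : e ∣ p * m0 := Int.natCast_dvd_natCast.1 h3
    refine (Nat.Coprime.dvd_of_dvd_mul_left ?_ h4)
    refine (hp.coprime_iff_not_dvd.2 fun h => ?_).symm
    have h5 : e ≤ M := Nat.le_of_dvd (by have := hp.two_le; omega) (Dvd.intro t het)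
    have := Nat.le_of_dvd Nat.card_pos h
    omega
  -- no trivial constituent
  have hm00 : m0 = 0 := by
    by_contra hne
    set Q : ℝ := ∑ q : (ZMod p)ˣ ⧸ H, ‖F q.out‖ ^ 2 with hQ
    have hQeq : (M : ℝ) ^ 2 + (e : ℝ) * Q = (p : ℝ) * ((∑ ψ, a ψ * a ψ : ℕ) : ℝ) := by
      have h := hfibre (fun k => F k * conj (F k)) (fun q k hk => by rw [hFconst q k hk])
      rw [hsum (fun g => (χ : G → ℂ) g * conj ((χ : G → ℂ) g)), h, irr_apply_one_eq_deg,
        Complex.conj_natCast] at hsq
      simp only [Complex.mul_conj, Complex.normSq_eq_norm_sq, ← Complex.ofReal_sum] at hsq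
      rw [← hQ, ← hM, ← Complex.ofReal_natCast M, ← Complex.ofReal_natCast e, ← Complex.ofReal_natCast p,
        ← Complex.ofReal_natCast (∑ ψ, a ψ * a ψ), ← Complex.ofReal_mul, ← Complex.ofReal_mul,
        ← Complex.ofReal_mul, ← Complex.ofReal_add, Complex.ofReal_inj] at hsq
      linarith
    have hnorm : (M : ℝ) ^ 2 + (Nat.card G : ℝ) / p * Q ≤ (Nat.card G : ℝ) := by
      have h := classInner_irr_self χ
      rw [classInner_self, Complex.ofReal_eq_one,
        inv_mul_eq_one₀ (Nat.cast_ne_zero.2 Nat.card_pos.ne')] at h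
      set S := Finset.univ.filter (fun g : G => orderOf g = p) with hS
      have hle : ∑ g ∈ insert 1 S, ‖(χ : G → ℂ) g‖ ^ 2 ≤ ∑ g : G, ‖(χ : G → ℂ) g‖ ^ 2 :=
        Finset.sum_le_sum_of_subset_of_nonneg (Finset.subset_univ _) fun _ _ _ => by positivity
      have hQS : ∑ g ∈ S, ‖(χ : G → ℂ) g‖ ^ 2 = (Nat.card G : ℝ) / p * Q := by
        let cls : G → Option ((ZMod p)ˣ ⧸ H) := fun g =>
          if h : orderOf g = p then some ((hsurj g h).choose : (ZMod p)ˣ ⧸ H) else none
        have hcls : ∀ g (hg : orderOf g = p) (q : (ZMod p)ˣ ⧸ H), cls g = some q ↔ IsConj (pw q.out) g := by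
          intro g hg q
          simp only [cls, dif_pos hg, Option.some.injEq]
          constructor
          · intro h
            exact ((hfib _ _).2 (QuotientGroup.eq.1 ((QuotientGroup.out_eq' q).trans h.symm))).trans
              (hsurj g hg).choose_spec
          · intro h
            rw [← QuotientGroup.out_eq' q, eq_comm, QuotientGroup.eq]
            exact (hfib _ _).1 (h.trans (hsurj g hg).choose_spec.symm)
        have hpart : S = Finset.univ.biUnion (fun q : (ZMod p)ˣ ⧸ H =>
            Finset.univ.filter (fun g : G => IsConj (pw q.out) g)) := by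
          ext g
          simp only [hS, Finset.mem_filter, Finset.mem_univ, true_and, Finset.mem_biUnion]
          constructor
          · intro hg
            exact ⟨((hsurj g hg).choose : (ZMod p)ˣ ⧸ H), (hcls g hg _).1 (by simp only [cls, dif_pos hg])⟩
          · rintro ⟨q, hq⟩
            obtain ⟨c, rfl⟩ := isConj_iff.1 hq
            rw [show c * pw q.out * c⁻¹ = MulAut.conj c (pw q.out) from rfl, MulEquiv.orderOf_eq]
            exact hordk _
        rw [hpart, Finset.sum_biUnion (fun q _ r _ hqr => Finset.disjoint_left.2 fun g h1 h2 => hqr (by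
          have h1' := (Finset.mem_filter.1 h1).2
          have h2' := (Finset.mem_filter.1 h2).2
          rw [← QuotientGroup.out_eq' q, ← QuotientGroup.out_eq' r, QuotientGroup.eq]
          exact (hfib _ _).1 (h1'.trans h2'.symm))), hQ, Finset.mul_sum]
        refine Finset.sum_congr rfl fun q _ => ?_
        rw [Finset.sum_congr rfl (g := fun _ => ‖F q.out‖ ^ 2) (fun g hg => by
          rw [← classFunction_eq_of_isConj (isClassFunction_irr χ) (Finset.mem_filter.1 hg).2]),
          Finset.sum_const, nsmul_eq_mul, ← Fintype.card_subtype, ← Nat.card_eq_fintype_card]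
        congr 1
        have hc2 : Subgroup.centralizer ({pw q.out} : Set G) = Subgroup.zpowers x := by
          rw [← hC]
          ext g
          simp only [Subgroup.mem_centralizer_singleton_iff]
          constructor
          · intro hg
            have h2 := (Commute.pow_right (show Commute g (pw q.out) from hg)
              (((q.out)⁻¹ : (ZMod p)ˣ) : ZMod p).val)
            rw [← hpmul, mul_inv_cancel, hp1] at h2
            exact h2
          · intro hg
            exact (Commute.pow_right (show Commute g x from hg) _)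
        rw [eq_div_iff (Nat.cast_ne_zero.2 hp.ne_zero), card_isConj, hc2,
          ← Subgroup.card_mul_index (Subgroup.zpowers x), Nat.card_zpowers, hx]
        push_cast; ring
      have hnot1 : (1 : G) ∉ S := by simp [hS, hp.one_lt.ne]
      rw [Finset.sum_insert hnot1, hQS, irr_apply_one_eq_deg, Complex.norm_natCast, ← h, ← hM] at hle
      exact hle
    have hMpos : (0 : ℝ) < M := by have := hp.two_le; exact_mod_cast (by omega : 0 < M)
    have hlt : Q < p := by
      have hGp : (0 : ℝ) < (Nat.card G : ℝ) / p :=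
        div_pos (Nat.cast_pos.2 Nat.card_pos) (Nat.cast_pos.2 hp.pos)
      have h2 : (Nat.card G : ℝ) / p * Q < (Nat.card G : ℝ) / p * p := by
        rw [div_mul_cancel₀ _ (Nat.cast_ne_zero.2 hp.ne_zero)]
        nlinarith
      exact lt_of_mul_lt_mul_left h2 hGp.le
    have hepos : 0 < e := Nat.card_pos
    have hlt2 : (p : ℝ) * ((∑ ψ, a ψ * a ψ : ℕ) : ℝ) < (M : ℝ) ^ 2 + (e : ℝ) * p := by
      rw [← hQeq]
      have : (e : ℝ) * Q < (e : ℝ) * p := mul_lt_mul_of_pos_left hlt (Nat.cast_pos.2 hepos)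
      linarith
    have hlt3 : p * (∑ ψ, a ψ * a ψ) < M ^ 2 + e * p := by exact_mod_cast hlt2
    have hlow : m0 * m0 + M ≤ (∑ ψ, a ψ * a ψ) + m0 := by
      rw [← hdegsum, hm0, ← Finset.add_sum_erase _ _ (Finset.mem_univ (principal (Subgroup.zpowers x))),
        ← Finset.add_sum_erase (Finset.univ) (fun ψ => a ψ * a ψ) (Finset.mem_univ (principal (Subgroup.zpowers x)))]
      have : ∑ ψ ∈ Finset.univ.erase (principal (Subgroup.zpowers x)), a ψ ≤
          ∑ ψ ∈ Finset.univ.erase (principal (Subgroup.zpowers x)), a ψ * a ψ :=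
        Finset.sum_le_sum fun ψ _ => Nat.le_mul_self _
      omega
    obtain ⟨u, hu⟩ := hem0
    have hu0 : 0 < u := Nat.pos_of_ne_zero fun h => hne (by rw [hu, h, mul_zero])
    have he2 : 2 ≤ e := Nat.le_of_dvd hepos heven
    have hm0e : e ≤ m0 := by rw [hu]; exact Nat.le_mul_of_pos_right e hu0
    have h8 : m0 + e ≤ m0 * m0 := by
      have hmm : 2 * m0 ≤ m0 * m0 := Nat.mul_le_mul_right m0 (he2.trans hm0e)
      omega
    have h9 : p * (e + M) ≤ p * (∑ ψ, a ψ * a ψ) := Nat.mul_le_mul_left p (by omega)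
    have h10 : M ^ 2 ≤ p * M := by rw [pow_two, ← hMp]; exact Nat.mul_le_mul_right M (Nat.le_succ M)
    rw [mul_add, mul_comm p e] at h9
    omega
  -- an element of 2-power order acting on `⟨x⟩`
  haveI : IsCyclic H := Subgroup.isCyclic H
  obtain ⟨g0, hg0⟩ := IsCyclic.exists_ofOrder_eq_natCard (α := H)
  set v := e.factorization 2 with hv
  set q := 2 ^ v with hq
  have hqe : q ∣ e := Nat.ordProj_dvd e 2
  set o := e / q with ho
  have hoodd : ¬ 2 ∣ o := Nat.not_dvd_ordCompl Nat.prime_two Nat.card_pos.ne'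
  set k0 : (ZMod p)ˣ := ((g0 : H) : (ZMod p)ˣ) ^ o with hk0
  have hk0H : k0 ∈ H := Subgroup.pow_mem _ g0.2 o
  have hk0ord : orderOf k0 = q := by
    have h1 : orderOf ((g0 : H) : (ZMod p)ˣ) = e := by rw [Subgroup.orderOf_coe, hg0]
    rw [hk0, orderOf_pow_of_dvd (Nat.div_pos (Nat.le_of_dvd Nat.card_pos hqe) (Nat.pow_pos two_pos)).ne'
      (h1.symm ▸ Nat.div_dvd_of_dvd hqe), h1]
    exact Nat.div_div_self hqe Nat.card_pos.ne'
  obtain ⟨g, hg⟩ := isConj_iff.1 ((hHmem k0).1 hk0H)
  set og := orderOf g / 2 ^ (orderOf g).factorization 2 with hog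
  have hogodd : ¬ 2 ∣ og := Nat.not_dvd_ordCompl Nat.prime_two (orderOf_pos g).ne'
  set n := g ^ og with hn
  set k := k0 ^ og with hk
  have hkord : orderOf k = q := by
    rw [hk, Nat.Coprime.orderOf_pow, hk0ord]
    rw [hk0ord]
    exact Nat.Coprime.pow_left v (Nat.prime_two.coprime_iff_not_dvd.2 hogodd)
  have hact : ∀ i : ℕ, g ^ i * x * (g ^ i)⁻¹ = pw (k0 ^ i) := by
    intro i
    induction i with
    | zero => rw [pow_zero, pow_zero, one_mul, inv_one, mul_one, hp1]
    | succ i ih =>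
      rw [pow_succ g, pow_succ' k0, hpmul, show pw k0 = g * x * g⁻¹ from hg.symm, conj_pow,
        show x ^ ((k0 ^ i : (ZMod p)ˣ) : ZMod p).val = pw (k0 ^ i) from rfl, ← ih]
      group
  have hnact : ∀ i : ℕ, n ^ i * x * (n ^ i)⁻¹ = pw (k ^ i) := fun i => by
    rw [hn, hk, ← pow_mul, ← pow_mul, hact]
  have hn2 : ∃ w, orderOf n ∣ 2 ^ w := ⟨(orderOf g).factorization 2, orderOf_dvd_of_pow_eq_one (by
    rw [hn, ← pow_mul, hog, Nat.div_mul_cancel (Nat.ordProj_dvd _ _), pow_orderOf_eq_one])⟩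
  have hnq : n ^ q = 1 := by
    have h1 := hnact q
    rw [← hkord, pow_orderOf_eq_one, hp1, hkord, mul_inv_eq_iff_eq_mul] at h1
    have h2 : n ^ q ∈ Subgroup.zpowers x := by
      rw [← hC, Subgroup.mem_centralizer_singleton_iff]; exact h1
    obtain ⟨w, hw⟩ := hn2
    have h3 : orderOf (n ^ q) ∣ 2 ^ w := (orderOf_pow_dvd q).trans hw
    have h4 : orderOf (n ^ q) ∣ p := by
      have := Subgroup.orderOf_coe (⟨n ^ q, h2⟩ : Subgroup.zpowers x)
      rw [show orderOf (n ^ q) = _ from this]
      exact (orderOf_dvd_natCard _).trans (by rw [Nat.card_zpowers, hx])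
    exact orderOf_eq_one_iff.1 (Nat.eq_one_of_dvd_coprimes
      (Nat.Coprime.pow_left w ((Nat.coprime_primes Nat.prime_two hp).2 (Ne.symm hp2))) h3 h4)
  have hvan : ∀ i : ℕ, ¬ q ∣ i → (χ : G → ℂ) (n ^ i) = 0 := by
    intro i hi
    set w := n ^ i with hw
    have hki : k ^ i ≠ 1 := fun h => hi (hkord ▸ orderOf_dvd_of_pow_eq_one h)
    have hwx : w * x * w⁻¹ = pw (k ^ i) := hnact i
    -- the sum over the coset
    obtain ⟨d, ρ, hρ, hρc⟩ := χ.2
    set T : Module.End ℂ (Fin d → ℂ) := ∑ u : Subgroup.zpowers x, ρ (u : G) with hT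
    have hTT : T * T = (p : ℂ) • T := by
      have hmul : ∀ u : Subgroup.zpowers x, ρ (u : G) * T = T := fun u => by
        rw [hT, Finset.mul_sum]
        exact Fintype.sum_equiv (Equiv.mulLeft u) _ _ fun v => (map_mul ρ (u : G) v).symm
      conv_lhs => enter [1]; rw [hT]
      rw [Finset.sum_mul, Finset.sum_congr rfl (fun u _ => hmul u), Finset.sum_const, Finset.card_univ,
        ← Nat.card_eq_fintype_card, Nat.card_zpowers, hx, ← Nat.cast_smul_eq_nsmul ℂ]
    have hTtr : LinearMap.trace ℂ _ T = 0 := by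
      rw [hT, map_sum, Finset.sum_congr rfl (g := fun u : Subgroup.zpowers x => (χ : G → ℂ) u)
        (fun u _ => by rw [← hρc]; rfl), hsum_u, hm00, Nat.cast_zero, mul_zero]
    have hT0 : T = 0 := eq_zero_of_trace T (Nat.cast_ne_zero.2 hp.ne_zero) hTT hTtr
    have h1 : ∑ u : Subgroup.zpowers x, (χ : G → ℂ) (w * u) = 0 := by
      rw [Finset.sum_congr rfl (g := fun u : Subgroup.zpowers x => LinearMap.trace ℂ _ (ρ w * ρ (u : G)))
        (fun u _ => by rw [← hρc, ← map_mul]; rfl), ← map_sum, ← Finset.mul_sum, ← hT, hT0, mul_zero, map_zero]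
    -- each term equals the value at `w`
    let f : Subgroup.zpowers x → Subgroup.zpowers x := fun y =>
      ⟨w⁻¹ * (y : G) * w * (y : G)⁻¹, Subgroup.mul_mem _ (by
        obtain ⟨j, hj⟩ := y.2
        have hwinv : w⁻¹ * x * w ∈ Subgroup.zpowers x := by
          rw [← hC, Subgroup.mem_centralizer_singleton_iff]
          obtain ⟨s, hs⟩ : ∃ s : ℕ, w⁻¹ = n ^ s := ⟨i * (q - 1), by
            rw [hw, inv_eq_iff_mul_eq_one, ← pow_add, show i + i * (q - 1) = q * i by
              obtain ⟨q', hq'⟩ := Nat.exists_eq_succ_of_ne_zero (Nat.pow_pos (n := v) two_pos).ne'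
              rw [hq] at *; rw [hq', Nat.succ_sub_one, Nat.succ_mul, mul_comm i q', add_comm],
              pow_mul, hnq, one_pow]⟩
          have h5 : w⁻¹ * x * w = pw (k ^ s) := by rw [← hnact s, ← hs, inv_inv]
          rw [h5]
          exact ((Commute.refl x).pow_left _).eq
        rw [← show x ^ j = (y : G) from hj,
          show w⁻¹ * x ^ j * w = (w⁻¹ * x * w) ^ j by
            rw [show w⁻¹ * x * w = MulAut.conj w⁻¹ x by simp, ← map_zpow]; simp]
        exact Subgroup.zpow_mem _ hwinv j) (Subgroup.inv_mem _ y.2)⟩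
    have hfinj : Function.Injective f := by
      intro y z h
      have h5 : w⁻¹ * (y : G) * w * (y : G)⁻¹ = w⁻¹ * (z : G) * w * (z : G)⁻¹ := congrArg Subtype.val h
      have h6 : (z : G)⁻¹ * y * w = w * ((z : G)⁻¹ * y) := by
        calc (z : G)⁻¹ * y * w = (z : G)⁻¹ * w * (w⁻¹ * y * w * (y : G)⁻¹) * y := by group
          _ = (z : G)⁻¹ * w * (w⁻¹ * z * w * (z : G)⁻¹) * y := by rw [h5]
          _ = _ := by group
      by_contra hne
      have h7 : ((z : G)⁻¹ * y) ≠ 1 := fun h => hne (Subtype.ext (inv_mul_eq_one.1 h).symm)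
      obtain ⟨j, hj⟩ := Subgroup.mul_mem _ (Subgroup.inv_mem _ z.2) y.2
      have hgen : x ∈ Subgroup.zpowers ((z : G)⁻¹ * y) := by
        have heq : Subgroup.zpowers ((z : G)⁻¹ * y) = Subgroup.zpowers x := by
          refine Subgroup.eq_of_le_of_card_ge (Subgroup.zpowers_le.2 (show (z : G)⁻¹ * y ∈ Subgroup.zpowers x from ⟨j, hj⟩)) ?_
          rw [Nat.card_zpowers, Nat.card_zpowers, hx]
          have h8 : orderOf ((z : G)⁻¹ * y) ∣ p := by
            have := Subgroup.card_dvd_of_le (Subgroup.zpowers_le.2 (show (z : G)⁻¹ * y ∈ Subgroup.zpowers x from ⟨j, hj⟩))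
            rwa [Nat.card_zpowers, Nat.card_zpowers, hx] at this
          exact ((Nat.dvd_prime hp).1 h8 |>.resolve_left (fun h => h7 (orderOf_eq_one_iff.1 h))).ge
        rw [heq]; exact Subgroup.mem_zpowers x
      obtain ⟨j', hj'⟩ := hgen
      have h9 : Commute w x := by
        rw [← show ((z : G)⁻¹ * y) ^ j' = x from hj']
        exact (show Commute w ((z : G)⁻¹ * y) from h6.symm).zpow_right j'
      refine hki (hpinj ?_)
      rw [← hwx, h9.eq, mul_inv_cancel_right, hp1]
    have h2 : ∑ u : Subgroup.zpowers x, (χ : G → ℂ) (w * u) = (p : ℂ) * (χ : G → ℂ) w := by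
      rw [← Fintype.sum_bijective f ((Finite.injective_iff_bijective).1 hfinj)
        (fun y : Subgroup.zpowers x => (χ : G → ℂ) (w * (f y : G))) _ (fun _ => rfl),
        Finset.sum_congr rfl (g := fun _ : Subgroup.zpowers x => (χ : G → ℂ) w) (fun y _ => by
          show (χ : G → ℂ) (w * (w⁻¹ * (y : G) * w * (y : G)⁻¹)) = _
          rw [show w * (w⁻¹ * (y : G) * w * (y : G)⁻¹) = (y : G) * w * (y : G)⁻¹ by group]
          exact isClassFunction_irr χ w y),
        Finset.sum_const, Finset.card_univ, ← Nat.card_eq_fintype_card, Nat.card_zpowers, hx, nsmul_eq_mul]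
    rw [h1] at h2
    exact (mul_eq_zero.1 h2.symm).resolve_left (Nat.cast_ne_zero.2 hp.ne_zero)
  -- the determinant
  obtain ⟨c, hc⟩ : q ∣ M := hqe.trans (Dvd.intro t het)
  have hvpos : v ≠ 0 := (Nat.Prime.factorization_pos_of_dvd Nat.prime_two Nat.card_pos.ne' heven).ne'
  have hcodd : ¬ 2 ∣ c := by
    intro h2
    have h3 : q * 2 ∣ e * t := by
      rw [het, hc]; exact Nat.mul_dvd_mul_left q h2
    rw [hq, ← pow_succ] at h3
    have h4 : Nat.Coprime (2 ^ (v + 1)) t := Nat.Coprime.pow_left _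
      (Nat.prime_two.coprime_iff_not_dvd.2 fun h => Nat.not_even_iff_odd.2 htodd (even_iff_two_dvd.2 h))
    exact Nat.pow_succ_factorization_not_dvd Nat.card_pos.ne' Nat.prime_two (h4.dvd_of_dvd_mul_right h3)
  have hdet : Cfsg.detChar (χ : G → ℂ) n = -1 := by
    obtain ⟨d, ρ, hρ, hρc⟩ := χ.2
    rw [← hρc, detChar_character ρ n]
    obtain ⟨m, hm⟩ := Nat.exists_eq_succ_of_ne_zero (Nat.pow_pos (n := v) two_pos).ne'
    refine det_eq_neg_one m c ρ n ?_ ?_ ?_ ?_
    · rw [← Nat.succ_eq_add_one, ← hm, ← hq]; exact hnq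
    · rw [← Nat.succ_eq_add_one, ← hm]; exact dvd_pow_self 2 hvpos
    · exact hcodd
    · intro i
      rw [hρc, ← Nat.succ_eq_add_one, ← hm, ← hq]
      split_ifs with h
      · obtain ⟨j, rfl⟩ := h
        rw [pow_mul, hnq, one_pow, irr_apply_one_eq_deg, ← hM, hc]
        push_cast; ring
      · exact hvan i h
  obtain ⟨f, hf⟩ := detChar_is_hom (isCharacter_of_irr χ.2)
  have hfn : ((f n : ℂˣ) : ℂ) = -1 := by rw [← hdet, hf]
  have hle : commutator G ≤ f.ker := Abelianization.commutator_subset_ker f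
  refine even_iff_two_dvd.2 (dvd_trans ?_ (Subgroup.index_dvd_of_le hle))
  rw [Subgroup.index_ker]
  have h2 : orderOf (⟨f n, n, rfl⟩ : f.range) = 2 := by
    refine orderOf_eq_prime ?_ fun h => ?_
    · refine Subtype.ext (Units.ext ?_)
      simp [pow_two, hfn]
    · have h' := congrArg (fun y : f.range => ((y : ℂˣ) : ℂ)) h
      simp only [hfn, OneMemClass.coe_one, Units.val_one] at h'
      norm_num at h'
  rw [← h2]
  exact orderOf_dvd_natCard _

end Cfsg.Agent.S4508
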