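import Cfsg.Statements.S4509
import Cfsg.Agent.Blocks.SelfCentralizing
import Cfsg.Agent.S4496
import Cfsg.Agent.S4497
import Mathlib
-- import your own Cfsg.Agent.* helpers here

set_option autoImplicit false
open Cfsg

namespace Cfsg.Agent.S4509

set_option linter.unusedSectionVars false

open Cfsg.Lib.Blocks Cfsg.Lib.Components
open scoped commutatorElement

/-- Let the finite group G contain an element x of prime order p with C_G(x) = ⟨x⟩; let t be the number of conjugacy classes of elements of order p and 1 + n·p the number of subgroups of order p. Then G has a normal subgroup of order 1 + n·p if and only if either t = p − 1, or t < p − 1 and G″ ≠ G′. Moreover, if t = p − 1 then G′ has order 1 + n·p and G/G′ is cyclic of order p; and if t < p − 1 and G″ ≠ G′ then G″ has order 1 + n·p and G′ has order p·(1 + n·p). -/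
theorem result {G : Type*} [Group G] [Finite G] (p : ℕ) (hp : p.Prime) (x : G) (hx : orderOf x = p) (hC : Subgroup.centralizer ({x} : Set G) = Subgroup.zpowers x) (t : ℕ) (ht : Nat.card {C : ConjClasses G // ∃ g ∈ C.carrier, orderOf g = p} = t) (n : ℕ) (hn : Nat.card {H : Subgroup G // Nat.card H = p} = 1 + n * p) : ((∃ S : Subgroup G, S.Normal ∧ Nat.card S = 1 + n * p) ↔ (t = p - 1 ∨ (t < p - 1 ∧ derivedSeries G 2 ≠ derivedSeries G 1))) ∧ (t = p - 1 → Nat.card (commutator G) = 1 + n * p ∧ IsCyclic (G ⧸ commutator G) ∧ (commutator G).index = p) ∧ (t < p - 1 → derivedSeries G 2 ≠ derivedSeries G 1 → Nat.card (derivedSeries G 2) = 1 + n * p ∧ Nat.card (commutator G) = p * (1 + n * p)) := by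
  classical
  haveI := Fact.mk hp
  obtain ⟨h1, h2⟩ := commutator_cases hp hx hC
  have hcount := class_count_mul hp hx hC
  rw [ht] at hcount
  rw [card_subgroups_prime hp hx hC] at hn
  set N := Subgroup.normalizer ((Subgroup.zpowers x : Subgroup G) : Set G) with hNdef
  have hXN : p ≤ Nat.card N := by
    rw [← hx, ← Nat.card_zpowers]
    exact Nat.card_le_card_of_injective (Subgroup.inclusion Subgroup.le_normalizer)
      (Subgroup.inclusion_injective _)
  have htle : t ≤ p - 1 := by
    refine Nat.le_of_mul_le_mul_right ?_ hp.pos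
    calc t * p ≤ t * Nat.card N := Nat.mul_le_mul_left _ hXN
      _ = (p - 1) * p := by rw [hcount]; ring
  have hmodp : ¬ p ∣ 1 + n * p := fun h => hp.ne_one (Nat.dvd_one.1
    ((Nat.dvd_add_left (dvd_mul_left p n)).1 h))
  have hA : t = p - 1 → Nat.card (commutator G) = 1 + n * p ∧ IsCyclic (G ⧸ commutator G) ∧
      (commutator G).index = p := fun hteq => by
    obtain ⟨hi, -⟩ := h1 (ht.trans hteq)
    refine ⟨?_, isCyclic_of_prime_card (p := p) (by rw [← Subgroup.index_eq_card, hi]), hi⟩
    have hN : Nat.card N = p := by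
      rw [hteq, mul_comm p] at hcount
      exact Nat.eq_of_mul_eq_mul_left (show 0 < p - 1 by have := hp.two_le; omega) hcount
    have h3 := (commutator G).index_mul_card
    rw [hi, ← N.index_mul_card, hN, hn, mul_comm] at h3
    exact Nat.eq_of_mul_eq_mul_right hp.pos h3
  have hB : t < p - 1 → derivedSeries G 2 ≠ derivedSeries G 1 →
      Nat.card (derivedSeries G 2) = 1 + n * p ∧ Nat.card (commutator G) = p * (1 + n * p) := by
    intro htlt hne
    obtain ⟨hX, hsup⟩ := h2 (fun h => htlt.ne (ht ▸ h))
    haveI : (derivedSeries G 2).Normal := derivedSeries_normal G 2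
    have hle21 : derivedSeries G 2 ≤ commutator G := derivedSeries_one (G := G) ▸ derivedSeries_antitone G (by norm_num)
    have hp2 : ¬ p ∣ Nat.card (derivedSeries G 2) := fun hd => hne (by
      rw [derivedSeries_one]
      exact le_antisymm hle21 ((Cfsg.Agent.S4496.result p hp x hx hC _).1 hd))
    obtain ⟨hOle, hsimple, -⟩ := Cfsg.Agent.S4497.result p hp x hx hC t ht
    set O := pPrimeCore p G
    have hOp : ¬ p ∣ Nat.card O := hp.coprime_iff_not_dvd.1 (coprime_card_pPrimeCore (G := G) p).symm
    have h2O : derivedSeries G 2 = O := by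
      refine le_antisymm (le_pPrimeCore (hp.coprime_iff_not_dvd.2 hp2).symm) fun y hy => ?_
      obtain ⟨s, hs, rfl⟩ := exists_commutator_eq hp hx hC O hOp y hy
      rw [derivedSeries_succ, derivedSeries_one, ← commutatorElement_def]
      exact Subgroup.commutator_mem_commutator (hOle hs) (hX (Subgroup.mem_zpowers x))
    -- the simple abelian quotient
    haveI hnorm : (O.subgroupOf (commutator G)).Normal := inferInstance
    haveI := hsimple htlt.ne hnorm
    set q := QuotientGroup.mk' (O.subgroupOf (commutator G))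
    have hcomm : ∀ a b : ↥(commutator G) ⧸ O.subgroupOf (commutator G), a * b = b * a := fun a b => by
      obtain ⟨a, rfl⟩ := QuotientGroup.mk'_surjective _ a
      obtain ⟨b, rfl⟩ := QuotientGroup.mk'_surjective _ b
      rw [← commutatorElement_eq_one_iff_mul_comm, ← map_commutatorElement, QuotientGroup.mk'_apply,
        QuotientGroup.eq_one_iff, Subgroup.mem_subgroupOf, ← h2O, derivedSeries_succ, derivedSeries_one]
      exact Subgroup.commutator_mem_commutator a.2 b.2
    have hprime : ((O.subgroupOf (commutator G)).index).Prime := by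
      letI : CommGroup (↥(commutator G) ⧸ O.subgroupOf (commutator G)) :=
        { (inferInstance : Group (↥(commutator G) ⧸ O.subgroupOf (commutator G))) with mul_comm := hcomm }
      rw [Subgroup.index_eq_card]
      exact IsSimpleGroup.prime_card
    have hcard : (O.subgroupOf (commutator G)).index * Nat.card O = Nat.card (commutator G) := by
      rw [← Nat.card_congr (Subgroup.subgroupOfEquivOfLe hOle).toEquiv, Subgroup.index_mul_card]
    have hpdvd : p ∣ Nat.card (commutator G) := hx ▸ Subgroup.orderOf_dvd_natCard _ (hX (Subgroup.mem_zpowers x))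
    rw [← hcard] at hpdvd
    have hidx : (O.subgroupOf (commutator G)).index = p :=
      ((Nat.prime_dvd_prime_iff_eq hp hprime).1 ((hp.dvd_mul.1 hpdvd).resolve_right hOp)).symm
    rw [hidx] at hcard
    -- `G = N O`
    have hXO : commutator G ≤ N ⊔ O := by
      intro y hy
      have hgen : (q ⟨y, hy⟩) ∈ Subgroup.zpowers (q ⟨x, hX (Subgroup.mem_zpowers x)⟩) := by
        haveI := Fact.mk hp
        refine mem_zpowers_of_prime_card (p := p) (by rw [← Subgroup.index_eq_card, hidx]) fun h => ?_
        rw [QuotientGroup.mk'_apply, QuotientGroup.eq_one_iff, Subgroup.mem_subgroupOf] at h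
        exact hOp (hx ▸ Subgroup.orderOf_dvd_natCard _ h)
      obtain ⟨i, hi⟩ := hgen
      simp only [← map_zpow, QuotientGroup.mk'_apply, q] at hi
      have h4 := Subgroup.mem_subgroupOf.1 (QuotientGroup.eq.1 hi)
      simp only [Subgroup.coe_mul, Subgroup.coe_inv, SubgroupClass.coe_zpow] at h4
      have h5 := mul_mem (Subgroup.mem_sup_left (T := O) (Subgroup.le_normalizer (Subgroup.zpow_mem _ (Subgroup.mem_zpowers x) i)) : x ^ i ∈ N ⊔ O)
        (Subgroup.mem_sup_right (S := N) h4)
      rwa [mul_inv_cancel_left] at h5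
    have htop : N ⊔ O = ⊤ := top_le_iff.1 (hsup.ge.trans (sup_le le_sup_left hXO))
    have hcompl : Subgroup.IsComplement' N O := Subgroup.isComplement'_of_disjoint_and_mul_eq_univ
      (disjoint_iff.2 (normalizer_inf_eq_bot hp hx hC O hOp))
      (by rw [← Subgroup.mul_normal, htop]; rfl)
    have hNi : N.index = Nat.card O := by rw [hcompl.symm.index_eq_card]
    rw [hn] at hNi
    exact ⟨by rw [h2O, ← hNi], by rw [← hcard, ← hNi]⟩
  refine ⟨⟨fun ⟨S, hSn, hS⟩ => ?_, ?_⟩, hA, hB⟩
  · rcases htle.eq_or_lt with h | h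
    · exact Or.inl h
    refine Or.inr ⟨h, fun heq => ?_⟩
    haveI := hSn
    have hSp : ¬ p ∣ Nat.card S := by rw [hS]; exact hmodp
    have hcompl : Subgroup.IsComplement' N S := by
      refine Subgroup.isComplement'_of_card_mul_and_disjoint ?_ (disjoint_iff.2 (normalizer_inf_eq_bot hp hx hC S hSp))
      rw [hS, ← hn, mul_comm, Subgroup.index_mul_card]
    haveI := isSolvable_normalizer hC
    haveI : Group.IsSolvable (G ⧸ S) := by
      refine Group.isSolvable_of_surjective (f := (QuotientGroup.mk' S).comp N.subtype) fun z => ?_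
      obtain ⟨g, rfl⟩ := QuotientGroup.mk'_surjective S z
      obtain ⟨⟨a, b⟩, hab⟩ := hcompl.2 g
      refine ⟨a, QuotientGroup.eq.2 ?_⟩
      rw [← show (a : G) * (b : G) = g from hab]
      simpa using b.2
    have hm := map_derivedSeries_eq (f := QuotientGroup.mk' S) (QuotientGroup.mk'_surjective S)
    have hstep : derivedSeries (G ⧸ S) 2 = derivedSeries (G ⧸ S) 1 := by rw [← hm, ← hm, heq]
    have hbot : derivedSeries (G ⧸ S) 1 = ⊥ := by
      by_contra hb
      refine (Group.IsSolvable.commutator_lt_of_ne_bot hb).ne ?_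
      rw [← derivedSeries_succ]
      exact hstep
    rw [← hm, Subgroup.map_eq_bot_iff, QuotientGroup.ker_mk', derivedSeries_one] at hbot
    exact hSp (hx ▸ Subgroup.orderOf_dvd_natCard _ (hbot ((h2 (fun h' => h.ne (ht ▸ h'))).1 (Subgroup.mem_zpowers x))))
  · rintro (h | ⟨h, hne⟩)
    · exact ⟨_, inferInstance, (hA h).1⟩
    · exact ⟨_, derivedSeries_normal G 2, (hB h hne).1⟩

end Cfsg.Agent.S4509
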