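import Cfsg.Statements.S4510
import Cfsg.Agent.Blocks.Defect2
import Cfsg.Agent.Blocks.Sub
-- import your own Cfsg.Agent.* helpers here

set_option autoImplicit false
open Cfsg

namespace Cfsg.Agent.S4510

set_option linter.unusedSectionVars false

open Cfsg.Lib.Blocks Cfsg.Lib.Chars

/-- Let G be a finite group, p a prime, M a maximal ideal of the algebraic integers containing p, and call the defect of a conjugacy class the exponent of p in the order of the centralizer of its elements. Two irreducible characters lying in p-blocks of defect exactly d lie in the same block if and only if their central characters (class size times χ(x)/χ(1)) agree modulo the local ideal at M at every p-regular element x whose class has defect exactly d. -/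
theorem result {G : Type*} [Group G] [Finite G] (p : ℕ) [Fact p.Prime] (M : Ideal Cfsg.AlgInt) (hM : Cfsg.IsPModular p M) (d : ℕ) (χ ψ : Cfsg.IrrCharacter G) (hχ : Cfsg.blockDefect p (Cfsg.blockOf M (χ : G → ℂ)) = d) (hψ : Cfsg.blockDefect p (Cfsg.blockOf M (ψ : G → ℂ)) = d) : Cfsg.SameBlock M (χ : G → ℂ) (ψ : G → ℂ) ↔ ∀ x : G, ¬ p ∣ orderOf x → (Nat.card (Subgroup.centralizer ({x} : Set G))).factorization p = d → Cfsg.MemLocalIdeal M (Cfsg.centralChar (χ : G → ℂ) x - Cfsg.centralChar (ψ : G → ℂ) x) := by
  classical
  have := Fintype.ofFinite G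
  refine ⟨fun h x _ _ => h x, fun h => ?_⟩
  set B := Cfsg.blockOf M (χ : G → ℂ) with hBdef
  have hB : Cfsg.IsPBlock M B := isPBlock_blockOf χ
  have hmul : ∀ (θ : Cfsg.IrrCharacter G) (C : ConjClasses G),
      fn (blockElem B) (crep C) * Cfsg.centralChar (θ : G → ℂ) (crep C) ∈ place M := fun θ C =>
    mul_mem (integral_blockElem hM hB _) (centralChar_mem_place hM _ _)
  have key : res M (omega (χ : G → ℂ) (blockElem B)) = res M (omega (ψ : G → ℂ) (blockElem B)) := by
    rw [omega_eq_sum_classes _ (isClassFunction_irr _) (isCentralFn_blockElem B),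
      omega_eq_sum_classes _ (isClassFunction_irr _) (isCentralFn_blockElem B),
      res_sum _ _ fun C _ => hmul χ C, res_sum _ _ fun C _ => hmul ψ C]
    refine Finset.sum_congr rfl fun C _ => ?_
    rw [fn_blockElem, res_mul (blockCoeff_mem_place hM hB _) (centralChar_mem_place hM _ _),
      res_mul (blockCoeff_mem_place hM hB _) (centralChar_mem_place hM _ _)]
    by_cases ha : Small M (Cfsg.blockCoeff B (crep C))
    · rw [(res_eq_zero_iff (blockCoeff_mem_place hM hB _)).2 ha, zero_mul, zero_mul]
    congr 1
    have hreg := not_dvd_orderOf_of_not_small hM hB ha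
    have hle := le_defect_of_blockCoeff hM hB ha
    rcases eq_or_lt_of_le hle with heq | hlt
    · rw [res_eq_iff (centralChar_mem_place hM _ _) (centralChar_mem_place hM _ _)]
      exact small_of_memLocalIdeal hM (h _ hreg (heq.trans hχ))
    · have hz : ∀ θ : Cfsg.IrrCharacter G, Cfsg.blockDefect p (Cfsg.blockOf M (θ : G → ℂ)) = d →
          res M (Cfsg.centralChar (θ : G → ℂ) (crep C)) = 0 := by
        intro θ hθ
        rw [res_eq_zero_iff (centralChar_mem_place hM _ _)]
        by_contra hns
        have := defect_le_of_centralChar hM (isPBlock_blockOf θ) (mem_blockOf_self hM θ) hns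
        omega
      rw [hz χ hχ, hz ψ hψ]
  rw [omega_blockElem, omega_blockElem, if_pos (mem_blockOf_self hM χ)] at key
  by_contra hc
  have hψB : ψ ∉ B := hc
  rw [if_neg hψB, res_one, res_zero] at key
  exact one_ne_zero key

end Cfsg.Agent.S4510
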