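import Cfsg.Statements.S4511
import Cfsg.Agent.Blocks.Columns
-- import your own Cfsg.Agent.* helpers here

set_option autoImplicit false
open Cfsg

namespace Cfsg.Agent.S4511

set_option linter.unusedSectionVars false

open Cfsg.Lib.Blocks Cfsg.Lib.Chars
open scoped ComplexConjugate

/-- Brauer's count of the irreducible characters in a block by subsections. Let M be a maximal ideal of the algebraic integers containing the prime p, B a p-block of the finite group G, and X a set of representatives of the conjugacy classes of p-elements of G (elements of p-power order, the identity included: every p-element is conjugate to exactly one member of X). Then the number of irreducible characters in B is the sum, over x ∈ X and over the blocks b of C_G(x) that induce B, of the p-regular rank of b (the number of irreducible Brauer characters of b, here the dimension of the span of the restrictions of the members of b to the p-regular elements of C_G(x)). -/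
theorem result {G : Type*} [Group G] [Finite G] (p : ℕ) (M : Ideal Cfsg.AlgInt) (hM : Cfsg.IsPModular p M)
    (B : Set (Cfsg.IrrCharacter G)) (hB : Cfsg.IsPBlock M B) (X : Finset G)
    (hX : ∀ x ∈ X, ∃ k : ℕ, orderOf x = p ^ k)
    (hXrep : ∀ g : G, (∃ k : ℕ, orderOf g = p ^ k) → ∃! x, x ∈ X ∧ IsConj g x) :
    Nat.card B = ∑ x ∈ X, ∑ᶠ b ∈ {b : Set (Cfsg.IrrCharacter ↥(Subgroup.centralizer ({x} : Set G))) | Cfsg.IsInducedBlock M (Subgroup.centralizer ({x} : Set G)) b B},
      Cfsg.blockRank p b := by
  classical
  haveI := Fact.mk hM.1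
  letI := Fintype.ofFinite G
  have hG : (Nat.card G : ℂ) ≠ 0 := Nat.cast_ne_zero.2 Nat.card_pos.ne'
  set F : G → ℂ := fun g => colKer B g g with hF
  have hFc : ∀ g h : G, F (h * g * h⁻¹) = F g := fun g h => by
    simp only [hF, colKer_eq]
    exact Finset.sum_congr rfl fun χ _ => by rw [isClassFunction_irr χ g h]
  have htot : ∑ g, F g = (Nat.card G : ℂ) * (Nat.card B : ℂ) := by
    simp only [hF, colKer_eq]
    rw [Finset.sum_comm, Nat.card_eq_fintype_card (α := B),
      ← Set.toFinset_card, show B.toFinset = Finset.univ.filter (· ∈ B) by ext; simp,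
      Finset.cast_card, Finset.mul_sum]
    refine Finset.sum_congr rfl fun χ _ => ?_
    have h := classInner_irr_self χ
    rw [classInner_def, inv_mul_eq_iff_eq_mul₀ hG] at h
    exact h
  set part : G → G := fun g => (exists_isPPart' hM.1 g).choose with hpart
  have hpartP : ∀ g, IsPPart p g (part g) := fun g => (exists_isPPart' hM.1 g).choose_spec
  have hord : ∀ g, ∃ k : ℕ, orderOf (part g) = p ^ k := fun g => by
    obtain ⟨_, -, -, h, -⟩ := hpartP g; exact h
  have hone : ∀ g, (X.filter fun x => IsConj (part g) x).card = 1 := fun g => by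
    obtain ⟨x, ⟨hx1, hx2⟩, huniq⟩ := hXrep (part g) (hord g)
    rw [Finset.card_eq_one]
    refine ⟨x, Finset.eq_singleton_iff_unique_mem.2 ⟨Finset.mem_filter.2 ⟨hx1, hx2⟩,
      fun z hz => huniq z ⟨(Finset.mem_filter.1 hz).1, (Finset.mem_filter.1 hz).2⟩⟩⟩
  have hsplit : ∑ g, F g = ∑ x ∈ X, ∑ g ∈ Finset.univ.filter (fun g => IsConj (part g) x), F g := by
    rw [Finset.sum_congr rfl fun g _ => show F g = ((X.filter fun x => IsConj (part g) x).card : ℂ) * F g
      by rw [hone g, Nat.cast_one, one_mul]]
    simp only [← nsmul_eq_mul, ← Finset.sum_const, Finset.sum_filter]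
    rw [Finset.sum_comm]
  have hsec : ∀ x ∈ X, ∑ g ∈ Finset.univ.filter (fun g => IsConj (part g) x), F g =
      (Nat.card G : ℂ) *
        ((∑ᶠ b ∈ {b : Set (IrrCharacter ↥(Subgroup.centralizer ({x} : Set G))) |
          IsInducedBlock M (Subgroup.centralizer ({x} : Set G)) b B}, blockRank p b : ℕ) : ℂ) := by
    intro x hxX
    set H := Subgroup.centralizer ({x} : Set G) with hH
    letI := Fintype.ofFinite H
    have hH' : H = Subgroup.centralizer (Subgroup.zpowers x : Set G) := (centralizer_zpowers x).symm
    have hx := hX x hxX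
    have hc : ∀ c : H, Commute x (c : G) := fun c => commute_of_mem_centralizer hH' c.2
    -- the elements whose part is `x` itself
    have hin : ∑ g ∈ Finset.univ.filter (fun g => part g = x), F g =
        ∑ s ∈ Finset.univ.filter (fun s : H => ¬ p ∣ orderOf s), F (x * (s : G)) := by
      refine Finset.sum_bij' (fun g hg => (⟨x⁻¹ * g, ?_⟩ : H)) (fun s _ => x * (s : G)) ?_ ?_
        ?_ ?_ ?_
      · have hg' : IsPPart p g x := (Finset.mem_filter.1 hg).2 ▸ hpartP g
        rw [hH, Subgroup.mem_centralizer_singleton_iff]
        have := IsPPart.commute hg'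
        rw [mul_assoc, ← this.eq, inv_mul_cancel_left, mul_inv_cancel_left]
      · intro g hg
        have hg' : IsPPart p g x := (Finset.mem_filter.1 hg).2 ▸ hpartP g
        obtain ⟨y, hy, -, -, hny⟩ := hg'
        refine Finset.mem_filter.2 ⟨Finset.mem_univ _, ?_⟩
        rw [← Subgroup.orderOf_coe]
        show ¬ p ∣ orderOf (x⁻¹ * g)
        rw [← hy]
        simpa using hny
      · intro s hs
        refine Finset.mem_filter.2 ⟨Finset.mem_univ _, ?_⟩
        exact IsPPart.eq hM.1 (hpartP _) (isPPart_mul (hc s) hx
          (by rw [Subgroup.orderOf_coe]; exact (Finset.mem_filter.1 hs).2))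
      · intro g _; simp
      · intro s _; simp
      · intro g _; simp
    -- all conjugates
    have hcard : (Nat.card H : ℂ) * ∑ g ∈ Finset.univ.filter (fun g => IsConj (part g) x), F g =
        (Nat.card G : ℂ) * ∑ g ∈ Finset.univ.filter (fun g => part g = x), F g := by
      have key : ∀ g, (Finset.univ.filter fun a : G => part (a * g * a⁻¹) = x).card =
          if IsConj (part g) x then Nat.card H else 0 := by
        intro g
        have he : ∀ a, part (a * g * a⁻¹) = a * part g * a⁻¹ := fun a =>
          IsPPart.eq hM.1 (hpartP _) (IsPPart.conj (hpartP g) a)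
        split_ifs with h
        · obtain ⟨c, hc'⟩ := isConj_iff.1 h
          rw [Nat.card_eq_fintype_card, ← Finset.card_univ]
          refine Finset.card_bij' (fun a ha => (⟨a * c⁻¹, ?_⟩ : H)) (fun s _ => (s : G) * c)
            (fun _ _ => Finset.mem_univ _) ?_ (fun a _ => by simp) (fun s _ => by simp)
          · have := (Finset.mem_filter.1 ha).2
            rw [he] at this
            rw [hH, Subgroup.mem_centralizer_singleton_iff]
            calc a * c⁻¹ * x = (a * part g * a⁻¹) * (a * c⁻¹) := by rw [← hc']; group
              _ = x * (a * c⁻¹) := by rw [this]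
          · intro s _
            refine Finset.mem_filter.2 ⟨Finset.mem_univ _, ?_⟩
            rw [he, mul_inv_rev, show (s : G) * c * part g * (c⁻¹ * (s : G)⁻¹) =
              (s : G) * (c * part g * c⁻¹) * (s : G)⁻¹ by group, hc', ← (hc s).eq,
              mul_inv_cancel_right]
        · rw [Finset.card_eq_zero, Finset.filter_eq_empty_iff]
          intro a _ ha
          rw [he] at ha
          exact h (isConj_iff.2 ⟨a, ha⟩)
      calc (Nat.card H : ℂ) * ∑ g ∈ Finset.univ.filter (fun g => IsConj (part g) x), F g
          = ∑ g : G, ∑ a : G, if part (a * g * a⁻¹) = x then F g else 0 := by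
            rw [Finset.mul_sum, Finset.sum_filter]
            refine Finset.sum_congr rfl fun g _ => ?_
            rw [← Finset.sum_filter, Finset.sum_const, key g, nsmul_eq_mul]
            split_ifs <;> simp
        _ = ∑ a : G, ∑ g : G, if part g = x then F g else 0 := by
            rw [Finset.sum_comm]
            refine Finset.sum_congr rfl fun a _ =>
              Fintype.sum_equiv (MulAut.conj a).toEquiv _ _ fun g => ?_
            simp only [MulEquiv.toEquiv_eq_coe, MulEquiv.coe_toEquiv, MulAut.conj_apply, hFc]
        _ = _ := by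
            rw [Finset.sum_const, Finset.card_univ, ← Nat.card_eq_fintype_card, nsmul_eq_mul,
              Finset.sum_filter]
    have hval : ∑ s ∈ Finset.univ.filter (fun s : H => ¬ p ∣ orderOf s), F (x * (s : G)) =
        (Nat.card H : ℂ) * ∑ b ∈ (blocksFinset M H).filter (fun b => IsInducedBlock M H b B),
          (blockRank p b : ℂ) := by
      rw [Finset.mul_sum, ← Finset.sum_congr rfl fun b hb =>
        sum_colKer_regular hM ((mem_blocksFinset hM).1 (Finset.mem_filter.1 hb).1), Finset.sum_comm]
      exact Finset.sum_congr rfl fun s hs =>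
        colKer_section hM hx hH' hB (Finset.mem_filter.1 hs).2 (Finset.mem_filter.1 hs).2
    rw [hin, hval, ← mul_assoc, mul_comm (Nat.card G : ℂ), mul_assoc] at hcard
    rw [mul_left_cancel₀ (Nat.cast_ne_zero.2 Nat.card_pos.ne') hcard,
      finsum_mem_eq_sum_of_inter_support_eq _
        (t := (blocksFinset M H).filter (fun b => IsInducedBlock M H b B)) (by
          ext b
          simp only [Set.mem_inter_iff, Set.mem_ofPred_eq, Finset.coe_filter, Function.mem_support]
          exact ⟨fun h => ⟨⟨(mem_blocksFinset hM).2 h.1.1, h.1⟩, h.2⟩,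
            fun h => ⟨h.1.2, h.2⟩⟩),
      Nat.cast_sum]
  rw [hsplit, Finset.sum_congr rfl hsec, ← Finset.mul_sum, ← Nat.cast_sum] at htot
  exact (Nat.cast_injective (mul_left_cancel₀ hG htot)).symm

end Cfsg.Agent.S4511
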