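import Cfsg.Statements.S4518
import Cfsg.Agent.Chars.Clifford
import Cfsg.Agent.Chars.Inertia
import Cfsg.Agent.Blocks.ZeroCounting
-- import your own Cfsg.Agent.* helpers here

set_option autoImplicit false
open Cfsg

namespace Cfsg.Agent.S4518

set_option linter.unusedSectionVars false

open Cfsg.Lib.Chars Cfsg.Lib.Blocks

/-- Let N be a normal subgroup of the finite group G whose index is not divisible by the prime p, and let k be coprime to the order of G with k ^ (p ^ e) ≡ 1 modulo the order of G for some e (so g ↦ g ^ k induces a field automorphism of p-power order on character values). If an irreducible character χ of G satisfies χ (g ^ k) = χ g for all g, then every irreducible constituent θ of the restriction of χ to N satisfies θ (n ^ k) = θ n for all n. -/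
theorem result {G : Type*} [Group G] [Fintype G] (p : ℕ) [Fact p.Prime] (N : Subgroup G) [N.Normal] [Fintype N] (hidx : ¬ p ∣ N.index) (k e : ℕ) (hk : Nat.Coprime k (Nat.card G)) (hke : k ^ (p ^ e) ≡ 1 [MOD Nat.card G]) (χ : Cfsg.IrrCharacter G) (hχ : ∀ g : G, (χ : G → ℂ) (g ^ k) = (χ : G → ℂ) g) (θ : Cfsg.IrrCharacter N) (hθ : Cfsg.classInner (fun n : N => (χ : G → ℂ) n) (θ : N → ℂ) ≠ 0) : ∀ n : N, (θ : N → ℂ) (n ^ k) = (θ : N → ℂ) n := by
  classical
  have hp : p.Prime := Fact.out
  have hkN : k.Coprime (Nat.card N) := hk.coprime_dvd_right (Subgroup.card_subgroup_dvd_card N)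
  obtain ⟨σ, hσ⟩ := exists_galois_power (isCharacter_of_irr θ.2) hkN
  have hσθ : Cfsg.IsIrrCharacter N (fun n : N => (θ : N → ℂ) (n ^ k)) := by
    have h1 := IsIrrCharacter.map_auto θ.2 σ
    simp only [hσ] at h1
    exact h1
  have hθ' : Cfsg.classInner (fun n : N => (χ : G → ℂ) n) (fun n : N => (θ : N → ℂ) (n ^ k)) ≠ 0 := by
    have h1 : Cfsg.classInner (fun n : N => (χ : G → ℂ) n) (fun n : N => (θ : N → ℂ) (n ^ k)) =
        Cfsg.classInner (fun n : N => (χ : G → ℂ) n) (θ : N → ℂ) := by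
      rw [classInner_def, classInner_def]
      congr 1
      conv_rhs => rw [← Equiv.sum_comp (powCoprime hkN.symm)
        (fun n : N => (χ : G → ℂ) n * (starRingEnd ℂ) ((θ : N → ℂ) n))]
      refine Finset.sum_congr rfl fun n _ => ?_
      simp [powCoprime, hχ]
    rwa [h1]
  obtain ⟨h, hh⟩ := exists_conjN_of_constituents N χ.2 θ.2 hσθ hθ hθ'
  let τ : (N → ℂ) → (N → ℂ) := fun φ n => φ (n ^ k)
  have hτconj : ∀ (g : G) (φ : N → ℂ), τ (conjN N g φ) = conjN N g (τ φ) := by
    intro g φ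
    funext n
    show conjN N g φ (n ^ k) = conjN N g (τ φ) n
    simp only [conjN, τ]
    exact congrArg φ (Subtype.ext (by simp [conj_pow]))
  have hτθ : τ (θ : N → ℂ) = conjN N h (θ : N → ℂ) := hh
  have hmaps : ∀ φ ∈ conjOrbit N (θ : N → ℂ), τ φ ∈ conjOrbit N (θ : N → ℂ) := by
    intro φ hφ
    obtain ⟨g, rfl⟩ := (mem_conjOrbit N).1 hφ
    refine (mem_conjOrbit N).2 ⟨h * g, ?_⟩
    rw [hτconj, hτθ, conjN_mul]
  have hinj : Function.Injective τ := fun φ φ' he => funext fun n => by
    obtain ⟨m, rfl⟩ := (powCoprime hkN.symm).surjective n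
    exact congrFun he m
  let s : Equiv.Perm {φ // φ ∈ conjOrbit N (θ : N → ℂ)} :=
    Equiv.ofBijective (fun φ => ⟨τ φ.1, hmaps _ φ.2⟩)
      (Finite.injective_iff_bijective.1 fun a b he => Subtype.ext (hinj (congrArg Subtype.val he)))
  have hsiter : ∀ (j : ℕ) (φ : {φ // φ ∈ conjOrbit N (θ : N → ℂ)}) (n : N),
      ((s ^ j) φ).1 n = φ.1 (n ^ k ^ j) := by
    intro j
    induction j with
    | zero => intro φ n; simp
    | succ j ih =>
      intro φ n
      rw [pow_succ', Equiv.Perm.mul_apply]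
      show ((s ^ j) φ).1 (n ^ k) = _
      rw [ih, ← pow_mul, ← pow_succ']
  have hspow : s ^ p ^ e = 1 := Equiv.ext fun φ => Subtype.ext (funext fun n => by
    rw [hsiter, Equiv.Perm.one_apply]
    refine congrArg φ.1 ((pow_eq_pow_iff_modEq.2 (hke.of_dvd ?_)).trans (pow_one n))
    exact (orderOf_dvd_natCard n).trans (Subgroup.card_subgroup_dvd_card N))
  have hle : N ≤ inertia N (θ : N → ℂ) := le_inertia (isClassFunction_irr θ)
  have hcard : (conjOrbit N (θ : N → ℂ)).card = (inertia N (θ : N → ℂ)).index := by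
    refine Nat.eq_of_mul_eq_mul_right (Nat.card_pos (α := inertia N (θ : N → ℂ))) ?_
    rw [card_conjOrbit, Subgroup.index_mul_card]
  have hnd : ¬ p ∣ Fintype.card {φ // φ ∈ conjOrbit N (θ : N → ℂ)} := by
    rw [Fintype.card_coe, hcard]
    exact fun hd => hidx (hd.trans (Subgroup.index_dvd_of_le hle))
  obtain ⟨⟨φ, hφ⟩, hfix⟩ := Equiv.Perm.exists_fixed_point_of_prime hnd hspow
  obtain ⟨g, rfl⟩ := (mem_conjOrbit N).1 hφ
  have h2 : τ (conjN N g (θ : N → ℂ)) = conjN N g (θ : N → ℂ) := congrArg Subtype.val hfix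
  rw [hτconj] at h2
  have h3 := congrArg (conjN N g⁻¹) h2
  rw [← conjN_mul, ← conjN_mul, mul_inv_cancel, conjN_one, conjN_one] at h3
  exact fun n => congrFun h3 n

end Cfsg.Agent.S4518
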