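import Cfsg.Statements.S4521
import Cfsg.Agent.Blocks.CentralProductBlock
-- import your own Cfsg.Agent.* helpers here

set_option autoImplicit false
open Cfsg

namespace Cfsg.Agent.S4521

set_option linter.unusedSectionVars false

open Cfsg.Lib.Blocks Cfsg.Lib.Chars

/-- Let the finite group G be generated by subgroups U₁ and U₂ that commute elementwise and whose intersection is a p-group, and let M be a maximal ideal of the algebraic integers containing the prime p. If the irreducible character χ of G has the irreducible constituents ψ₁ on U₁ and ψ₂ on U₂, then χ lies in the principal block of G if and only if ψ₁ and ψ₂ lie in the principal blocks of U₁ and U₂. -/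
theorem result {G : Type*} [Group G] [Fintype G] (p : ℕ) [Fact p.Prime] (M : Ideal Cfsg.AlgInt) (hM : Cfsg.IsPModular p M) (U₁ U₂ : Subgroup G) [Fintype U₁] [Fintype U₂] (hcomm : ∀ u ∈ U₁, ∀ v ∈ U₂, u * v = v * u) (hgen : U₁ ⊔ U₂ = ⊤) (hZ : IsPGroup p ↥(U₁ ⊓ U₂)) (χ : Cfsg.IrrCharacter G) (ψ₁ : Cfsg.IrrCharacter U₁) (ψ₂ : Cfsg.IrrCharacter U₂) (h₁ : Cfsg.classInner (fun u : U₁ => (χ : G → ℂ) u) (ψ₁ : U₁ → ℂ) ≠ 0) (h₂ : Cfsg.classInner (fun u : U₂ => (χ : G → ℂ) u) (ψ₂ : U₂ → ℂ) ≠ 0) : χ ∈ Cfsg.principalBlock M G ↔ (ψ₁ ∈ Cfsg.principalBlock M U₁ ∧ ψ₂ ∈ Cfsg.principalBlock M U₂) := by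
  classical
  have hcomm' : ∀ u ∈ U₂, ∀ v ∈ U₁, u * v = v * u := fun u hu v hv => (hcomm v hv u hu).symm
  have hgen' : U₂ ⊔ U₁ = ⊤ := by rw [sup_comm, hgen]
  have hp1 : Cfsg.classInner (fun u : U₁ => ((principal G : Cfsg.IrrCharacter G) : G → ℂ) u)
      ((principal U₁ : Cfsg.IrrCharacter U₁) : U₁ → ℂ) ≠ 0 := by
    rw [show (fun u : U₁ => ((principal G : Cfsg.IrrCharacter G) : G → ℂ) u) =
      ((principal U₁ : Cfsg.IrrCharacter U₁) : U₁ → ℂ) from rfl, classInner_irr_self]
    exact one_ne_zero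
  have hp2 : Cfsg.classInner (fun u : U₂ => ((principal G : Cfsg.IrrCharacter G) : G → ℂ) u)
      ((principal U₂ : Cfsg.IrrCharacter U₂) : U₂ → ℂ) ≠ 0 := by
    rw [show (fun u : U₂ => ((principal G : Cfsg.IrrCharacter G) : G → ℂ) u) =
      ((principal U₂ : Cfsg.IrrCharacter U₂) : U₂ → ℂ) from rfl, classInner_irr_self]
    exact one_ne_zero
  constructor
  · intro h
    have hsame := fun g => (sameBlock_iff_res hM χ (principal G)).1 (IsPBlock.sameBlock hM
      (isPBlock_blockOf (principal G)) h (mem_blockOf_self hM (principal G))) g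
    refine ⟨sameBlock_of_regular hM (ψ := principal U₁) fun u _ => ?_,
      sameBlock_of_regular hM (ψ := principal U₂) fun u _ => ?_⟩
    · rw [← centralChar_factor U₁ U₂ hcomm hgen χ ψ₁ h₁,
        ← centralChar_factor U₁ U₂ hcomm hgen (principal G) (principal U₁) hp1]
      exact hsame _
    · rw [← centralChar_factor U₂ U₁ hcomm' hgen' χ ψ₂ h₂,
        ← centralChar_factor U₂ U₁ hcomm' hgen' (principal G) (principal U₂) hp2]
      exact hsame _
  · rintro ⟨k₁, k₂⟩
    refine sameBlock_of_regular hM (ψ := principal G) fun g hg => ?_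
    obtain ⟨a, ha, b, hb, rfl⟩ := exists_factor U₁ U₂ hcomm hgen g
    have hc : Commute a b := hcomm a ha b hb
    obtain ⟨n, hn1, hn2⟩ := Nat.chineseRemainder
      (((Fact.out : p.Prime).coprime_iff_not_dvd.2 hg).symm.pow_right
        ((Nat.card G).factorization p)) 1 0
    have hng : a ^ n * b ^ n = a * b := by
      rw [← hc.mul_pow, (pow_eq_pow_iff_modEq.2 hn1 : (a * b) ^ n = (a * b) ^ 1), pow_one]
    have har : ¬ p ∣ orderOf (a ^ n) := by
      intro hd
      obtain ⟨c, hc'⟩ := Nat.modEq_zero_iff_dvd.1 hn2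
      have hpow : (a ^ n) ^ (Nat.card G / p ^ (Nat.card G).factorization p) = 1 := by
        rw [← pow_mul, hc', mul_comm (p ^ _) c, mul_assoc,
          Nat.mul_div_cancel' (Nat.ordProj_dvd _ _), mul_comm, pow_mul, pow_card_eq_one', one_pow]
      exact Nat.not_dvd_ordCompl (Fact.out : p.Prime) Nat.card_pos.ne'
        (hd.trans (orderOf_dvd_of_pow_eq_one hpow))
    rw [← hng]
    have hm1 : a ^ n ∈ U₁ := Subgroup.pow_mem _ ha n
    have hm2 : b ^ n ∈ U₂ := Subgroup.pow_mem _ hb n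
    rw [centralChar_mul_factor U₁ U₂ hcomm hgen hZ χ hm1 hm2 har,
      centralChar_mul_factor U₁ U₂ hcomm hgen hZ (principal G) hm1 hm2 har,
      res_mul (centralChar_mem_place hM χ _) (centralChar_mem_place hM χ _),
      res_mul (centralChar_mem_place hM (principal G) _) (centralChar_mem_place hM (principal G) _)]
    congr 1
    · rw [centralChar_factor U₁ U₂ hcomm hgen χ ψ₁ h₁ ⟨_, hm1⟩,
        centralChar_factor U₁ U₂ hcomm hgen (principal G) (principal U₁) hp1 ⟨_, hm1⟩]
      exact (sameBlock_iff_res hM _ _).1 (IsPBlock.sameBlock hM (isPBlock_blockOf (principal U₁)) k₁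
        (mem_blockOf_self hM (principal U₁))) _
    · rw [centralChar_factor U₂ U₁ hcomm' hgen' χ ψ₂ h₂ ⟨_, hm2⟩,
        centralChar_factor U₂ U₁ hcomm' hgen' (principal G) (principal U₂) hp2 ⟨_, hm2⟩]
      exact (sameBlock_iff_res hM _ _).1 (IsPBlock.sameBlock hM (isPBlock_blockOf (principal U₂)) k₂
        (mem_blockOf_self hM (principal U₂))) _

end Cfsg.Agent.S4521
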