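import Cfsg.Statements.S4523
import Cfsg.Agent.Blocks.SigmaTwist.Count
import Cfsg.Agent.Blocks.SigmaTwist.RealBlock
import Cfsg.Agent.OddChar.PF.OddOrder
import Cfsg.Agent.Quadratic.BaerSuzuki

set_option autoImplicit false
open Cfsg

namespace Cfsg.Agent.S4523

/-- Let S be a non-abelian finite simple group with commutative Sylow 2-subgroups and M a maximal ideal of the algebraic integers containing 2. Let k be a natural number with g ^ k = g for every 2-element g and g ^ k = g⁻¹ for every element g of odd order. Then S has an irreducible character χ₁ of even degree with χ₁ (g ^ k) = χ₁ g for all g, and its principal 2-block contains a character χ₂ other than the principal character with χ₂ (g ^ k) = χ₂ g for all g. -/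
theorem result {S : Type*} [Group S] [Finite S] [IsSimpleGroup S] (hna : ¬ IsMulCommutative S) (P : Sylow 2 S) (hP : IsMulCommutative P) (M : Ideal Cfsg.AlgInt) (hM : Cfsg.IsPModular 2 M) (k : ℕ) (hk₁ : ∀ g : S, (∃ j : ℕ, orderOf g = 2 ^ j) → g ^ k = g) (hk₂ : ∀ g : S, Odd (orderOf g) → g ^ k = g⁻¹) : (∃ χ₁ : Cfsg.IrrCharacter S, Even (Cfsg.charDegree (χ₁ : S → ℂ)) ∧ ∀ g : S, (χ₁ : S → ℂ) (g ^ k) = (χ₁ : S → ℂ) g) ∧ ∃ χ₂ ∈ Cfsg.principalBlock M S, (χ₂ : S → ℂ) ≠ (fun _ => 1) ∧ ∀ g : S, (χ₂ : S → ℂ) (g ^ k) = (χ₂ : S → ℂ) g := by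
  classical
  haveI : Fact (Nat.Prime 2) := ⟨Nat.prime_two⟩
  letI := Fintype.ofFinite S
  -- the order is even
  have h2S : 2 ∣ Nat.card S := by
    by_contra h
    haveI := Cfsg.Agent.PF.isSolvable_of_odd S
      (Nat.not_even_iff_odd.1 fun he => h (even_iff_two_dvd.1 he))
    exact hna ⟨⟨IsSimpleGroup.comm_iff_isSolvable.2 inferInstance⟩⟩
  have hab : Cfsg.Lib.Blocks.SigmaTwist.TwoComm S := by
    intro Q hQ a ha b hb
    obtain ⟨R, hR⟩ := hQ.exists_le_sylow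
    obtain ⟨g, hg⟩ := MulAction.exists_smul_eq S P R
    let e := P.equivSMul g
    rw [hg] at e
    haveI := hP
    have h : ∀ x y : R, x * y = y * x := fun x y => e.symm.injective (by
      rw [map_mul, map_mul]; exact mul_comm' _ _)
    exact congrArg Subtype.val (h ⟨a, hR ha⟩ ⟨b, hR hb⟩)
  -- an involution and a real element of odd order
  obtain ⟨t, ht⟩ := exists_prime_orderOf_dvd_card' (G := S) 2 h2S
  have htt : t * t = 1 := by rw [← sq, ← ht, pow_orderOf_eq_one]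
  have ht1 : t ≠ 1 := fun h => by rw [h, orderOf_one] at ht; omega
  obtain ⟨g, hg⟩ : ∃ g : S, ¬ IsPGroup 2
      ↥(Subgroup.zpowers t ⊔ (Subgroup.zpowers t).map (MulAut.conj g).toMonoidHom) := by
    by_contra h
    push Not at h
    obtain ⟨N, hN, hNp, hle⟩ := Cfsg.Lib.BaerSuzuki.baer_suzuki (p := 2) (Subgroup.zpowers t) h
    rcases hN.eq_bot_or_eq_top with rfl | rfl
    · exact ht1 (Subgroup.mem_bot.1 (hle (Subgroup.mem_zpowers t)))
    · exact hna ⟨⟨fun a b => hab ⊤ hNp a trivial b trivial⟩⟩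
  set t' := g * t * g⁻¹ with ht'
  have ht't' : t' * t' = 1 := by
    rw [ht', show g * t * g⁻¹ * (g * t * g⁻¹) = g * (t * t) * g⁻¹ by group, htt]; group
  have hinv := Cfsg.Lib.Blocks.SigmaTwist.inverted_mul htt ht't'
  obtain ⟨n, hn1, hn2⟩ := Cfsg.Lib.Blocks.SigmaTwist.exists_odd_power (t * t') fun hp => hg <| by
    refine (Cfsg.Lib.Blocks.SigmaTwist.isPGroup_sup_of_inverted htt hp hinv).to_le
      (sup_le le_sup_left ?_)
    rw [MonoidHom.map_zpowers, Subgroup.zpowers_le]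
    show g * t * g⁻¹ ∈ _
    rw [← ht']
    have := Subgroup.mul_mem_sup (Subgroup.mem_zpowers t) (Subgroup.mem_zpowers (t * t'))
    rwa [← mul_assoc t t, htt, one_mul] at this
  obtain ⟨χ₀, hχ₀, hsame⟩ := Cfsg.Lib.Blocks.SigmaTwist.exists_real_block hM _ S rfl hab _ hn1 hn2 t
    (by rw [← conj_pow, hinv, inv_pow])
  -- blocks closed under conjugation
  have hclosed : ∀ χ : Cfsg.IrrCharacter S,
      Cfsg.SameBlock M (χ : S → ℂ) (Cfsg.Lib.Chars.conjIrr χ) →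
      ∀ ψ ∈ Cfsg.blockOf M (χ : S → ℂ), Cfsg.Lib.Chars.conjIrr ψ ∈ Cfsg.blockOf M (χ : S → ℂ) :=
    fun χ h ψ hψ => by
      rw [Cfsg.Lib.Blocks.blockOf_eq_of_mem hM (χ := χ) (ψ := Cfsg.Lib.Chars.conjIrr χ) h |>.symm]
      exact Cfsg.Lib.Blocks.sameBlock_conjIrr hψ
  refine ⟨?_, ?_⟩
  · have hB : Cfsg.IsPBlock M (Cfsg.blockOf M (χ₀ : S → ℂ)) := Cfsg.Lib.Blocks.isPBlock_blockOf χ₀
    obtain ⟨χ, hχB, hχk⟩ := Set.nonempty_of_ncard_ne_zero (Nat.one_le_iff_ne_zero.1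
      (Cfsg.Lib.Blocks.SigmaTwist.fixed_count hM hB hk₁ hk₂ (hclosed χ₀ hsame)).1)
    refine ⟨χ, ?_, hχk⟩
    rw [← Nat.not_odd_iff_even]
    intro hodd
    refine hχ₀ ?_
    have hp : χ ∈ Cfsg.principalBlock M S := Cfsg.Lib.Blocks.mem_principal_of_conj_mem hM hodd
      (Cfsg.Lib.Blocks.IsPBlock.sameBlock hM hB hχB (hclosed χ₀ hsame χ hχB))
    have heq : Cfsg.blockOf M (χ₀ : S → ℂ) = Cfsg.principalBlock M S :=
      Cfsg.Lib.Blocks.IsPBlock.eq_of_mem_inter hM hB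
        (Cfsg.Lib.Blocks.isPBlock_blockOf (Cfsg.Lib.Chars.principal S)) hχB hp
    rw [← heq]
    exact Cfsg.Lib.Blocks.mem_blockOf_self hM χ₀
  · have hone : Cfsg.Lib.Chars.conjIrr (Cfsg.Lib.Chars.principal S) = Cfsg.Lib.Chars.principal S :=
      (Cfsg.Lib.Chars.conjIrr_eq_self_iff _).2 fun _ => Complex.one_im
    have hstab0 : ∀ ψ ∈ Cfsg.principalBlock M S,
        Cfsg.Lib.Chars.conjIrr ψ ∈ Cfsg.principalBlock M S :=
      hclosed (Cfsg.Lib.Chars.principal S)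
        (by rw [hone]; exact Cfsg.Lib.Blocks.mem_blockOf_self hM _)
    set C := Subgroup.centralizer ({t} : Set S)
    letI : Fintype C := Fintype.ofFinite _
    have hdef : Cfsg.InducedBlockDefined M C (Cfsg.principalBlock M C) :=
      Cfsg.Lib.Blocks.inducedBlockDefined_of_eq_centralizer hM
        (IsPGroup.of_card (n := 1) (by rw [Nat.card_zpowers, ht, pow_one]))
        (Cfsg.Lib.Blocks.centralizer_zpowers t).symm
        (Cfsg.Lib.Blocks.isPBlock_blockOf (Cfsg.Lib.Chars.principal C))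
    have hind := (Cfsg.Lib.Blocks.isInducedBlock_principal_iff hM C hdef).2 rfl
    have hCstab : ∀ ψ ∈ Cfsg.principalBlock M C,
        Cfsg.Lib.Chars.conjIrr ψ ∈ Cfsg.principalBlock M C := fun ψ hψ => by
      have h := Cfsg.Lib.Blocks.sameBlock_conjIrr (χ := Cfsg.Lib.Chars.principal C) (ψ := ψ) hψ
      rwa [(Cfsg.Lib.Chars.conjIrr_eq_self_iff (Cfsg.Lib.Chars.principal C)).2
        fun _ => Complex.one_im] at h
    have h2 := (Cfsg.Lib.Blocks.SigmaTwist.fixed_count hM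
      (Cfsg.Lib.Blocks.isPBlock_blockOf (Cfsg.Lib.Chars.principal S)) hk₁ hk₂ hstab0).2 t
      (Cfsg.Lib.Blocks.mem_pElements.2 ⟨ht1, 1, by rw [ht, pow_one]⟩) _ hind hCstab
    obtain ⟨χ, hχ, hne⟩ := Set.exists_ne_of_one_lt_ncard h2 (Cfsg.Lib.Chars.principal S)
    exact ⟨χ, hχ.1, fun h => hne (Subtype.ext h), hχ.2⟩

end Cfsg.Agent.S4523
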