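import Cfsg.Statements.S4531
import Cfsg.Agent.Blocks.DihedralDefect.Centre
import Cfsg.Agent.Blocks.DihedralDefect.Solvable

set_option autoImplicit false
open Cfsg

namespace Cfsg.Agent.S4531

/-- Let the finite group G have a 2-block B (relative to a maximal ideal M of the algebraic integers containing 2) of 2-regular rank three (three irreducible Brauer characters) whose defect group D is dihedral of order 2 ^ n with n ≥ 3 or semidihedral. Then the centre of G has odd order and G is not solvable. -/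
theorem result {G : Type*} [Group G] [Finite G] (M : Ideal Cfsg.AlgInt) (hM : Cfsg.IsPModular 2 M) (B : Set (Cfsg.IrrCharacter G)) (hB : Cfsg.IsPBlock M B) (D : Subgroup G) (hD : Cfsg.IsDefectGroup 2 M B D) (hD' : (∃ n : ℕ, 3 ≤ n ∧ Nonempty (D ≃* DihedralGroup (2 ^ (n - 1)))) ∨ Cfsg.IsQuasiDihedral D) (hl : Cfsg.blockRank 2 B = 3) : Odd (Nat.card (Subgroup.center G)) ∧ ¬ Group.IsSolvable G := by
  classical
  haveI := Fintype.ofFinite G
  haveI : Fact (Nat.Prime 2) := ⟨Nat.prime_two⟩
  refine ⟨?_, fun hsol => ?_⟩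
  · by_contra hodd
    obtain ⟨⟨u, huc⟩, hu⟩ := exists_prime_orderOf_dvd_card' 2
      (even_iff_two_dvd.1 (Nat.not_odd_iff_even.1 hodd))
    rw [Subgroup.orderOf_mk] at hu
    rcases hD' with ⟨n, hn, ⟨e⟩⟩ | hsd
    · have hpow : 2 ^ (n - 1) = 2 * 2 ^ (n - 2) := by
        rw [← pow_succ', show n - 2 + 1 = n - 1 by omega]
      have := Cfsg.Lib.Blocks.DihedralDefect.rank_eq_one_of_central hM hB hD (h := 2 ^ (n - 2))
        (by positivity) ((Nat.even_pow' (by omega)).2 even_two) ⟨n - 2, rfl⟩ (hpow ▸ e) huc hu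
      omega
    · have := Cfsg.Lib.Blocks.DihedralDefect.rank_le_two_of_central hM hB hD hsd huc hu
      omega
  · have hshape : Cfsg.Lib.Blocks.DihedralDefect.IsDihOrSD D := by
      rcases hD' with ⟨n, hn, he⟩ | hsd
      · exact Or.inl ⟨2 ^ (n - 1),
          le_trans (by norm_num) (Nat.pow_le_pow_right two_pos (show 2 ≤ n - 1 by omega)), he⟩
      · exact Or.inr hsd
    have := Cfsg.Lib.Blocks.DihedralDefect.rank_le_two_of_solvable hM _ rfl hsol B hB D hD hshape
    omega

end Cfsg.Agent.S4531
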