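import Cfsg.Statements.S4541
import Cfsg.Agent.Blocks.ContributionAverage
-- import your own Cfsg.Agent.* helpers here

set_option autoImplicit false
open Cfsg

namespace Cfsg.Agent.S4541

set_option linter.unusedSectionVars false

open Cfsg.Lib.Blocks

/-- Height zero count from a subsection. -/
theorem height_zero_bounds {G : Type*} [Group G] [Fintype G] {M : Ideal Cfsg.AlgInt} {x : G}
    {H : Subgroup G} [Fintype H] (hM : Cfsg.IsPModular 2 M) (hx : ∃ k : ℕ, orderOf x = 2 ^ k)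
    (hH : H = Subgroup.centralizer (Subgroup.zpowers x : Set G))
    {b : Set (Cfsg.IrrCharacter H)} {B : Set (Cfsg.IrrCharacter G)}
    (hind : Cfsg.IsInducedBlock M H b B) {s l : ℕ} (hl : Cfsg.blockRank 2 b = l)
    (hs : s * s ≤ l) (hs' : l < (s + 1) * (s + 1)) :
    (Odd s → Nat.card {χ : Cfsg.IrrCharacter G // χ ∈ B ∧ Cfsg.blockHeight 2 B (χ : G → ℂ) = 0} ≤
        s * 2 ^ Cfsg.blockDefect 2 b) ∧
      (¬ Odd s → (s + 1) * Nat.card {χ : Cfsg.IrrCharacter G //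
        χ ∈ B ∧ Cfsg.blockHeight 2 B (χ : G → ℂ) = 0} ≤ l * 2 ^ Cfsg.blockDefect 2 b) := by
  classical
  obtain ⟨A, Q, hrow, hQ, hA, htr, h00, -⟩ := exists_average_data hM hx hH hind
  set S := Finset.univ.filter (fun χ : Cfsg.IrrCharacter G => χ ∈ B)
  set S0 := Finset.univ.filter (fun χ : Cfsg.IrrCharacter G =>
    χ ∈ B ∧ Cfsg.blockHeight 2 B (χ : G → ℂ) = 0) with hS0
  have hk0 : Nat.card {χ : Cfsg.IrrCharacter G // χ ∈ B ∧
      Cfsg.blockHeight 2 B (χ : G → ℂ) = 0} = S0.card := by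
    rw [Nat.card_eq_fintype_card]; exact Fintype.card_subtype _
  rw [hk0]
  set q : ℕ := 2 ^ Cfsg.blockDefect 2 b with hq
  have hsub : S0 ⊆ S := fun χ hχ => Finset.mem_filter.2
    ⟨Finset.mem_univ _, (Finset.mem_filter.1 hχ).2.1⟩
  -- one row
  have hrow' : ∀ χ ∈ S0, Odd (A χ) ∧ (S0.card : ℤ) ≤ (q : ℤ) * A χ := fun χ hχ => by
    obtain ⟨-, hχB, hχ0⟩ := Finset.mem_filter.1 hχ
    refine ⟨(h00 χ hχB χ hχB hχ0 hχ0).2, ?_⟩
    have h1 : ∑ ψ ∈ S0, (1 : ℝ) ≤ ∑ ψ ∈ S, Q χ ψ :=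
      (Finset.sum_le_sum fun ψ hψ => by
        obtain ⟨-, hψB, hψ0⟩ := Finset.mem_filter.1 hψ
        exact (h00 χ hχB ψ hψB hχ0 hψ0).1).trans
        (Finset.sum_le_sum_of_subset_of_nonneg hsub fun ψ _ _ => (hQ χ ψ).1)
    rw [hrow, Finset.sum_const, nsmul_one] at h1
    have h2 : ((S0.card : ℤ) : ℝ) ≤ (((q : ℤ) * A χ : ℤ) : ℝ) := by
      rw [hq]; push_cast; exact h1
    exact_mod_cast h2
  have htot : ∀ t : ℤ, (∀ χ ∈ S0, t ≤ A χ) → t * (S0.card : ℤ) ≤ (q : ℤ) * (l : ℤ) := fun t ht => by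
    calc t * (S0.card : ℤ) = ∑ χ ∈ S0, t := by rw [Finset.sum_const, nsmul_eq_mul, mul_comm]
      _ ≤ ∑ χ ∈ S0, A χ := Finset.sum_le_sum ht
      _ ≤ ∑ χ ∈ S, A χ := Finset.sum_le_sum_of_subset_of_nonneg hsub fun χ _ _ => (hA χ).1
      _ = _ := by rw [htr, hl, hq]; push_cast; rfl
  have hqnn : (0 : ℤ) ≤ (q : ℤ) := Int.natCast_nonneg q
  have hs0 : (0 : ℤ) ≤ (s : ℤ) := Int.natCast_nonneg s
  have hsZ : (s : ℤ) * s ≤ (l : ℤ) := by exact_mod_cast hs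
  have hsZ' : (l : ℤ) + 1 ≤ ((s : ℤ) + 1) * ((s : ℤ) + 1) := by exact_mod_cast hs'
  refine ⟨fun hodd => ?_, fun hev => ?_⟩
  · obtain ⟨r, hr⟩ := hodd
    suffices h : (S0.card : ℤ) ≤ (s : ℤ) * (q : ℤ) by exact_mod_cast h
    by_cases hsm : ∃ χ ∈ S0, A χ ≤ s
    · obtain ⟨χ, hχ, hle⟩ := hsm
      calc (S0.card : ℤ) ≤ (q : ℤ) * A χ := (hrow' χ hχ).2
        _ ≤ (q : ℤ) * s := mul_le_mul_of_nonneg_left hle hqnn
        _ = _ := mul_comm _ _
    · push Not at hsm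
      have h := htot (s + 2) fun χ hχ => by
        obtain ⟨t, ht⟩ := (hrow' χ hχ).1
        have := hsm χ hχ
        omega
      refine le_of_mul_le_mul_left ?_ (show (0 : ℤ) < (s : ℤ) + 2 by positivity)
      nlinarith [mul_le_mul_of_nonneg_left hsZ' hqnn]
  · rw [Nat.not_odd_iff_even] at hev
    obtain ⟨r, hr⟩ := hev
    suffices h : ((s : ℤ) + 1) * (S0.card : ℤ) ≤ (l : ℤ) * (q : ℤ) by exact_mod_cast h
    by_cases hsm : ∃ χ ∈ S0, A χ ≤ s
    · obtain ⟨χ, hχ, hle⟩ := hsm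
      obtain ⟨⟨t, ht⟩, hc⟩ := hrow' χ hχ
      have hle' : A χ ≤ (s : ℤ) - 1 := by omega
      have h1 : (S0.card : ℤ) ≤ (q : ℤ) * ((s : ℤ) - 1) :=
        hc.trans (mul_le_mul_of_nonneg_left hle' hqnn)
      nlinarith [mul_le_mul_of_nonneg_left hsZ hqnn,
        mul_le_mul_of_nonneg_left h1 (show (0 : ℤ) ≤ (s : ℤ) + 1 by positivity)]
    · push Not at hsm
      have h := htot (s + 1) fun χ hχ => by have := hsm χ hχ; omega
      linarith

/-- Let B be a 2-block of the finite group G (relative to a maximal ideal M of the algebraic integers containing 2), u a 2-element, and b a block of the centralizer of u inducing B (a subsection (u, b)), of defect q and 2-regular rank l; write s for the integer square root of l and k₀(B) for the number of members of B of height zero. If s is odd then k₀(B) ≤ s·2 ^ q, and otherwise (s + 1)·k₀(B) ≤ l·2 ^ q; in particular k₀(B) ≤ 2 ^ q when l ≤ 3. -/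
theorem result {G : Type*} [Group G] [Finite G] (M : Ideal Cfsg.AlgInt) (hM : Cfsg.IsPModular 2 M) (B : Set (Cfsg.IrrCharacter G)) (hB : Cfsg.IsPBlock M B) (u : G) (hu : ∃ j : ℕ, orderOf u = 2 ^ j) (b : Set (Cfsg.IrrCharacter ↥(Subgroup.centralizer ({u} : Set G)))) (hb : Cfsg.IsInducedBlock M (Subgroup.centralizer ({u} : Set G)) b B) : (Odd (Nat.sqrt (Cfsg.blockRank 2 b)) → Nat.card {χ : Cfsg.IrrCharacter G // χ ∈ B ∧ Cfsg.blockHeight 2 B (χ : G → ℂ) = 0} ≤ Nat.sqrt (Cfsg.blockRank 2 b) * 2 ^ Cfsg.blockDefect 2 b) ∧ (¬ Odd (Nat.sqrt (Cfsg.blockRank 2 b)) → (Nat.sqrt (Cfsg.blockRank 2 b) + 1) * Nat.card {χ : Cfsg.IrrCharacter G // χ ∈ B ∧ Cfsg.blockHeight 2 B (χ : G → ℂ) = 0} ≤ Cfsg.blockRank 2 b * 2 ^ Cfsg.blockDefect 2 b) ∧ (Cfsg.blockRank 2 b ≤ 3 → Nat.card {χ : Cfsg.IrrCharacter G // χ ∈ B ∧ Cfsg.blockHeight 2 B (χ : G → ℂ) = 0} ≤ 2 ^ Cfsg.blockDefect 2 b) := by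
  haveI := Fintype.ofFinite G
  haveI := Fintype.ofFinite (Subgroup.centralizer ({u} : Set G))
  obtain ⟨h1, h2⟩ := height_zero_bounds hM hu (centralizer_zpowers u).symm hb rfl
    (Nat.sqrt_le _) (Nat.lt_succ_sqrt _)
  refine ⟨h1, h2, fun h3 => ?_⟩
  rcases Nat.eq_zero_or_pos (Cfsg.blockRank 2 b) with h0 | h0
  · have h := h2 (by simp [h0])
    rw [h0] at h
    simp only [Nat.sqrt_zero, zero_mul, zero_add, one_mul] at h
    exact h.trans (Nat.zero_le _)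
  · have hs : Nat.sqrt (Cfsg.blockRank 2 b) = 1 := by
      rw [eq_comm, Nat.eq_sqrt]; omega
    have h := h1 (by simp [hs])
    simpa [hs] using h

end Cfsg.Agent.S4541
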