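import Cfsg.Statements.S4551
import Cfsg.Agent.Blocks.CosetExtension
import Cfsg.Agent.Chars.Gallagher

set_option autoImplicit false
set_option maxHeartbeats 400000
open Cfsg Cfsg.Lib.Chars Cfsg.Lib.Blocks

namespace Cfsg.Agent.S4551

/-- Let N be a normal subgroup of the finite group G of index prime to p, P a Sylow p-subgroup of G with G = N·C_G(P), and M a maximal ideal of the algebraic integers containing p. Then restriction to N is a bijection from the principal p-block of G onto the principal p-block of N: every member of the principal block of G restricts to a member of the principal block of N, and every member of the principal block of N is the restriction of exactly one member of the principal block of G. -/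
theorem result {G : Type*} [Group G] [Finite G] (p : ℕ) [Fact p.Prime] (M : Ideal Cfsg.AlgInt) (hM : Cfsg.IsPModular p M) (N : Subgroup G) [N.Normal] (hidx : ¬ p ∣ N.index) (P : Sylow p G) (hsup : N ⊔ Subgroup.centralizer ((P : Subgroup G) : Set G) = ⊤) : (∀ χ ∈ Cfsg.principalBlock M G, ∃ θ ∈ Cfsg.principalBlock M ↥N, ∀ n : N, (χ : G → ℂ) n = (θ : N → ℂ) n) ∧ ∀ θ ∈ Cfsg.principalBlock M ↥N, ∃! χ : Cfsg.IrrCharacter G, χ ∈ Cfsg.principalBlock M G ∧ ∀ n : N, (χ : G → ℂ) n = (θ : N → ℂ) n := by
  classical
  have := Fintype.ofFinite G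
  have := Fintype.ofFinite N
  have hPN : (P : Subgroup G) ≤ N := by
    intro x hx
    obtain ⟨k, hk⟩ := P.isPGroup' ⟨x, hx⟩
    have h1 : x ^ p ^ k = 1 := congrArg Subtype.val hk
    rw [← QuotientGroup.eq_one_iff]
    have h2 : ((x : G ⧸ N)) ^ p ^ k = 1 := by rw [← QuotientGroup.mk_pow, h1, QuotientGroup.mk_one]
    have h3 : ((x : G ⧸ N)) ^ N.index = 1 := by
      rw [Subgroup.index_eq_card]; exact pow_card_eq_one'
    have h4 := pow_gcd_eq_one (m := p ^ k) (n := N.index) |>.mpr ⟨h2, h3⟩
    rwa [(Nat.Coprime.pow_left k ((Fact.out : p.Prime).coprime_iff_not_dvd.2 hidx)).gcd_eq_one,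
      pow_one] at h4
  have hgood : GoodCosets p N := by
    refine goodCosets_of_supplement N (P : Subgroup G) hPN ?_ hsup
    intro h
    exact P.not_dvd_index (h.trans (Subgroup.relIndex_dvd_index_of_le hPN))
  have hext : ∀ θ ∈ principalBlock M N, ∃ χ : IrrCharacter G, AugLike M N (χ : G → ℂ) ∧
      ∀ n : N, (χ : G → ℂ) n = (θ : N → ℂ) n := fun θ hθ => by
    obtain ⟨ψ, hψ⟩ := exists_extension_of_goodCosets hM hθ hgood hidx
    obtain ⟨χ, r, -, -, hχN, hlike⟩ := exists_augLike_twist hM hψ hθ hgood
    exact ⟨χ, hlike, hχN⟩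
  have huniq : ∀ θ ∈ principalBlock M N, ∀ χ ∈ principalBlock M G,
      classInner (fun n : N => (χ : G → ℂ) n) (θ : N → ℂ) ≠ 0 → ∀ χ₀ : IrrCharacter G,
      AugLike M N (χ₀ : G → ℂ) → (∀ n : N, (χ₀ : G → ℂ) n = (θ : N → ℂ) n) → χ = χ₀ := by
    intro θ hθ χ hχ hne χ₀ hlike hres
    have hprod : ((fun _ : N => (1 : ℂ)) * fun n : N => (χ₀ : G → ℂ) n) = (θ : N → ℂ) :=
      funext fun n => by simp [hres]
    have hb := gallagher N (φ := fun _ : N => (1 : ℂ)) isIrrCharacter_one (fun g => rfl) χ₀.2
      (by rw [hprod]; exact θ.2)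
    have hmem : (χ : G → ℂ) ∈ {ψ : G → ℂ | Cfsg.IsIrrCharacter G ψ ∧ Cfsg.classInner
        (Cfsg.indFun N ((fun _ : N => (1 : ℂ)) * fun n : N => (χ₀ : G → ℂ) n)) ψ ≠ 0} := by
      refine ⟨χ.2, ?_⟩
      rw [hprod, frobenius_reciprocity N _ (isClassFunction_irr χ)]
      intro h0
      exact hne (by rw [← classInner_conj_symm, h0, map_zero])
    obtain ⟨β, ⟨hβ, hβ0⟩, hβχ⟩ := hb.surjOn hmem
    rw [frobenius_reciprocity N _ (isClassFunction_irr (⟨β, hβ⟩ : IrrCharacter G))] at hβ0
    have hβ0' : classInner (fun n : N => β n) (fun _ : N => (1 : ℂ)) ≠ 0 := fun h0 => hβ0 (by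
      rw [← classInner_conj_symm, h0, map_zero])
    have hcl := clifford N hβ isIrrCharacter_one hβ0'
    have hconst : ∀ n : N, β n = β 1 := fun n => by
      have h1 := congrFun hcl n
      have h2 := congrFun hcl 1
      simp only [OneMemClass.coe_one] at h2
      rw [h1, h2]
      simp only [Pi.smul_apply, Finset.sum_apply]
      congr 1
      refine Finset.sum_congr rfl fun ψ hψ => ?_
      obtain ⟨g, rfl⟩ := (mem_conjOrbit N).1 hψ
      rfl
    obtain ⟨b, R, hRirr, hRβ⟩ := hβ
    have hRN : ∀ n : N, R (n : G) = 1 := fun n => (eq_id_of_character_eq_finrank R (n : G)).1 (by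
      rw [← R.char_one, hRβ]; exact hconst n)
    have hcos : ∀ (g : G) (n : N), β (g * n) = β g := fun g n => by
      rw [← hRβ, Representation.character, Representation.character, map_mul, hRN, mul_one]
    have hβi : ∀ g, IsIntegral ℤ (β g) := fun g => by
      rw [← hRβ]
      exact isIntegral_character R g
    have hb1 : β 1 = (b : ℂ) := by
      rw [← hRβ, R.char_one, Module.finrank_fin_fun]
    have hcen : ∀ c ∈ Subgroup.centralizer ((P : Subgroup G) : Set G),
        res M (β c) = res M (b : ℂ) := by
      intro c hc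
      have hK : ¬ p ∣ (Subgroup.centralizer ({c} : Set G)).index := by
        refine fun h => P.not_dvd_index (h.trans (Subgroup.index_dvd_of_le fun x hx => ?_))
        rw [Subgroup.mem_centralizer_singleton_iff]
        exact Subgroup.mem_centralizer_iff.1 hc x hx
      have hK0 : res M ((Subgroup.centralizer ({c} : Set G)).index : ℂ) ≠ 0 := by
        rw [res_natCast, Ne, res_natCast_eq_zero_iff hM]; exact hK
      have hχ₀B := hlike.mem_principalBlock hM
      have h1 := (sameBlock_iff_res hM (principalChar G) χ).1 hχ c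
      have h0 := (sameBlock_iff_res hM (principalChar G) χ₀).1 hχ₀B c
      have e1 : centralChar (principalChar G : G → ℂ) c =
          ((Subgroup.centralizer ({c} : Set G)).index : ℂ) := by
        simp [centralChar, principalChar]
      rw [e1] at h1 h0
      have e2 : (b : ℂ) * centralChar (χ : G → ℂ) c = β c * centralChar (χ₀ : G → ℂ) c := by
        have hb0 : (b : ℂ) ≠ 0 := by
          rw [← hb1, ← hRβ]
          exact IsIrrCharacter.apply_one_ne_zero (isIrrCharacter_character R)
        have h10 := IsIrrCharacter.apply_one_ne_zero χ₀.2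
        rw [centralChar, centralChar, ← hβχ]
        simp only [Pi.mul_apply, hb1]
        field_simp
      have e3 := congrArg (res M) e2
      rw [res_mul (natCast_mem_place _) (centralChar_mem_place hM χ c),
        res_mul (isIntegral_mem_place hM (hβi c)) (centralChar_mem_place hM χ₀ c), ← h1, ← h0] at e3
      exact (mul_right_cancel₀ hK0 e3).symm
    have hall : ∀ g : G, res M (β g) = res M (b : ℂ) := by
      intro g
      have hg : g ∈ ((Subgroup.centralizer ((P : Subgroup G) : Set G) ⊔ N : Subgroup G) : Set G) := by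
        rw [sup_comm, hsup]; exact Subgroup.mem_top g
      rw [Subgroup.mul_normal] at hg
      obtain ⟨c, hc, n, hn, rfl⟩ := hg
      rw [hcos c ⟨n, hn⟩]
      exact hcen c hc
    have hout : ∀ g : G, β g = β (g : G ⧸ N).out := fun g => by
      have h : ((g : G ⧸ N).out)⁻¹ * g ∈ N := QuotientGroup.eq.1 (QuotientGroup.out_eq' _)
      have := hcos (g : G ⧸ N).out ⟨_, h⟩
      rwa [mul_inv_cancel_left] at this
    have hsum : ∀ F : ℂ → ℂ, ∑ g : G, F (β g) = (Nat.card N : ℂ) * ∑ c : G ⧸ N, F (β c.out) :=
      fun F => by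
      rw [← Finset.sum_fiberwise Finset.univ (fun g : G => (g : G ⧸ N)), Finset.mul_sum]
      refine Finset.sum_congr rfl fun c _ => ?_
      rw [Finset.sum_congr rfl (g := fun _ => F (β c.out)) fun g hg => by
        rw [hout g, (Finset.mem_filter.1 hg).2], Finset.sum_const, nsmul_eq_mul]
      congr 2
      rw [← Fintype.card_subtype, ← Nat.card_eq_fintype_card]
      exact (Nat.card_congr (QuotientGroup.preimageMkEquivSubgroupProdSet N {c})).trans
        (by rw [Nat.card_prod]; simp)
    have hNc : (Nat.card N : ℂ) ≠ 0 := by exact_mod_cast Nat.card_pos.ne'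
    have hGc : (Nat.card G : ℂ) ≠ 0 := by exact_mod_cast Nat.card_pos.ne'
    have hidxq : (Nat.card N : ℂ) * (Fintype.card (G ⧸ N) : ℂ) = Nat.card G := by
      rw [← Nat.card_eq_fintype_card, ← Subgroup.index_eq_card, ← Nat.cast_mul,
        Subgroup.card_mul_index]
    have hnorm : ∑ c : G ⧸ N, β c.out * (starRingEnd ℂ) (β c.out) = (Fintype.card (G ⧸ N) : ℂ) := by
      have h := classInner_self_irr (isIrrCharacter_character R)
      rw [hRβ, classInner_def, hsum (fun z => z * (starRingEnd ℂ) z),
        inv_mul_eq_div, div_eq_one_iff_eq hGc, ← hidxq] at h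
      exact mul_left_cancel₀ hNc h
    by_cases hone : β = fun _ => (1 : ℂ)
    · apply Subtype.ext
      rw [← hβχ, hone]
      funext g
      simp
    exfalso
    have horth : ∑ c : G ⧸ N, β c.out = 0 := by
      have h := classInner_irrChar (isIrrCharacter_character R) (isIrrCharacter_one (G := G))
      rw [hRβ, if_neg hone, classInner_def] at h
      simp only [map_one, mul_one] at h
      rw [hsum (fun z => z)] at h
      simpa [hNc, hGc] using h
    have hmem : ∀ c : G ⧸ N, β c.out ∈ place M := fun c => isIntegral_mem_place hM (hβi _)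
    have hcj : ∀ c : G ⧸ N, (starRingEnd ℂ) (β c.out) = β c.out⁻¹ := fun c => by
      rw [← hRβ]; exact (character_inv R _).symm
    have hidx0 : (Fintype.card (G ⧸ N) : Res M) ≠ 0 := by
      rw [Ne, res_natCast_eq_zero_iff hM, ← Nat.card_eq_fintype_card, ← Subgroup.index_eq_card]
      exact hidx
    have h1 := congrArg (res M) horth
    rw [res_sum _ _ fun c _ => hmem c, Finset.sum_congr rfl fun c _ => hall c.out,
      Finset.sum_const, Finset.card_univ, nsmul_eq_mul, ← Nat.cast_zero (R := ℂ), res_natCast,
      res_natCast, Nat.cast_zero] at h1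
    have hb0 : (b : Res M) = 0 := (mul_eq_zero.1 h1).resolve_left hidx0
    have h2 := congrArg (res M) hnorm
    rw [res_sum _ _ fun c _ => mul_mem (hmem c) (by rw [hcj]; exact isIntegral_mem_place hM (hβi _)),
      Finset.sum_congr rfl fun c _ => (by
        rw [res_mul (hmem c) (by rw [hcj]; exact isIntegral_mem_place hM (hβi _)), hall, res_natCast,
          hb0, zero_mul] : res M (β c.out * (starRingEnd ℂ) (β c.out)) = (0 : Res M)),
      Finset.sum_const_zero, res_natCast] at h2
    exact hidx0 h2.symm
  refine ⟨fun χ hχ => ?_, fun θ hθ => ?_⟩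
  · have hB : IsPBlock M (principalBlock M G) := isPBlock_blockOf (principalChar G)
    have hb : IsPBlock M (principalBlock M N) := isPBlock_blockOf (principalChar N)
    have h1G : principalChar G ∈ principalBlock M G := mem_blockOf_self hM (principalChar G)
    have h1N : principalChar N ∈ principalBlock M N := mem_blockOf_self hM (principalChar N)
    have hcc : classInner (fun n : N => (principalChar G : G → ℂ) n)
        (principalChar N : N → ℂ) ≠ 0 := by
      have e : (fun n : N => (principalChar G : G → ℂ) n) = (principalChar N : N → ℂ) := funext fun _ => rfl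
      rw [e, classInner_self_irr (principalChar N).2]
      exact one_ne_zero
    obtain ⟨θ, hθ, hne⟩ := exists_constituent_mem hM hB hb ⟨_, h1G, _, h1N, hcc⟩ hχ
    obtain ⟨χ₀, hlike, hres⟩ := hext θ hθ
    exact ⟨θ, hθ, by rw [huniq θ hθ χ hχ hne χ₀ hlike hres]; exact hres⟩
  · obtain ⟨χ₀, hlike, hres⟩ := hext θ hθ
    refine ⟨χ₀, ⟨hlike.mem_principalBlock hM, hres⟩, fun χ ⟨hχ, hχres⟩ => ?_⟩
    refine huniq θ hθ χ hχ ?_ χ₀ hlike hres
    rw [show (fun n : N => (χ : G → ℂ) n) = (θ : N → ℂ) from funext hχres,
      classInner_self_irr θ.2]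
    exact one_ne_zero

end Cfsg.Agent.S4551
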