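import Cfsg.Statements.S4552
import Cfsg.Agent.Blocks.HomocyclicBlock

set_option autoImplicit false
open Cfsg

namespace Cfsg.Agent.S4552

/-- Let B be a 2-block of the finite group G (relative to a maximal ideal M of the algebraic integers containing 2) whose defect group D is the direct product of two cyclic groups of the same order 2 ^ m, m ≥ 2. Then either B has 2-regular rank one and exactly 4 ^ m irreducible characters, or B has 2-regular rank three and exactly (4 ^ m + 8) / 3 irreducible characters. -/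
theorem result {G : Type*} [Group G] [Finite G] (M : Ideal Cfsg.AlgInt) (hM : Cfsg.IsPModular 2 M) (B : Set (Cfsg.IrrCharacter G)) (hB : Cfsg.IsPBlock M B) (D : Subgroup G) (hD : Cfsg.IsDefectGroup 2 M B D) (m : ℕ) (hm : 2 ≤ m) (hiso : Nonempty (D ≃* Multiplicative (ZMod (2 ^ m) × ZMod (2 ^ m)))) : (Cfsg.blockRank 2 B = 1 ∧ Nat.card B = 4 ^ m) ∨ (Cfsg.blockRank 2 B = 3 ∧ 3 * Nat.card B = 4 ^ m + 8) := by
  classical
  letI := Fintype.ofFinite G
  haveI := Fact.mk hM.1
  obtain ⟨e⟩ := hiso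
  have hab : ∀ a ∈ D, ∀ b ∈ D, a * b = b * a := fun a ha b hb =>
    congrArg Subtype.val (e.injective (by rw [map_mul, map_mul, mul_comm]) :
      (⟨a, ha⟩ : D) * ⟨b, hb⟩ = ⟨b, hb⟩ * ⟨a, ha⟩)
  have hn : Nat.card D = 4 ^ m := by
    rw [Nat.card_congr (e.toEquiv.trans Multiplicative.toAdd), Nat.card_prod, Nat.card_zmod,
      ← mul_pow]
    norm_num
  obtain ⟨c, hc⟩ := Cfsg.Lib.Blocks.exists_pair_of_defect hM hB hD
  obtain ⟨T, hT⟩ : ∃ T : Subgroup G, Cfsg.Lib.Blocks.IsPairStab D c T :=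
    ⟨_, (Cfsg.Lib.Blocks.isPairStab_iff hM hc.1.1.2).2 rfl⟩
  have hV := Cfsg.Lib.Blocks.Homocyclic.card_invol_prod (show 1 ≤ m by omega) e
  obtain ⟨hfree, he⟩ := Cfsg.Lib.Blocks.Homocyclic.inertial hM hD hc.1 hT hab hV
  obtain ⟨hcnt, -⟩ := Cfsg.Lib.Blocks.Homocyclic.section_count hM hD hc.1 hT hab hfree
  rcases he with he | he
  · left
    have hC : T = Subgroup.centralizer (D : Set G) :=
      le_antisymm (Subgroup.relIndex_eq_one.1 he) (hT.self_le hM hc.1.1.2).2
    have h1 := Cfsg.Lib.Blocks.blockRank_eq_one_of_trivial_inertia hM hD hab hc.1 (hC ▸ hT)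
    refine ⟨h1, ?_⟩
    rw [he, h1, hn] at hcnt
    push_cast at hcnt
    have h : (Nat.card B : ℤ) = ((4 ^ m : ℕ) : ℤ) := by push_cast; linarith
    exact_mod_cast h
  · right
    have h := Cfsg.Lib.Blocks.Homocyclic.index_three hM hD hc.1 hT hab hV hfree he
    rwa [hn] at h

end Cfsg.Agent.S4552
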