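import Cfsg.Statements.S4558
import Cfsg.Agent.Blocks.RegularCongr
import Cfsg.Agent.Blocks.Feit3
-- import your own Cfsg.Agent.* helpers here

set_option autoImplicit false
open Cfsg

namespace Cfsg.Agent.S4558

set_option linter.unusedSectionVars false

open Cfsg.Lib.Blocks Cfsg.Lib.Chars

/-- Let χ be a character of the finite group G and g an element of p-power order for the prime p. If χ g = 0, then p divides the degree of χ. -/
theorem result {G : Type*} [Group G] [Finite G] (p : ℕ) [Fact p.Prime] (χ : G → ℂ) (hχ : Cfsg.IsCharacter G χ) (g : G) (hg : ∃ j : ℕ, orderOf g = p ^ j) (h0 : χ g = 0) : p ∣ Cfsg.charDegree χ := by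
  classical
  have hp : p.Prime := Fact.out
  obtain ⟨M, hM⟩ := exists_isPModular hp
  obtain ⟨j, hj⟩ := hg
  have ha : IsPPart p g g := ⟨1, mul_one g, Commute.one_right g, ⟨j, hj⟩, by
    rw [orderOf_one]; exact hp.not_dvd_one⟩
  have h1 := small_char_sub_regular hM hχ ha
  rw [inv_mul_cancel, h0, zero_sub, IsCharacter.apply_one_eq_deg hχ] at h1
  refine (small_natCast_iff hM _).1 ?_
  have h2 := h1.neg
  rw [neg_neg] at h2
  exact h2

end Cfsg.Agent.S4558
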