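import Cfsg.Statements.S4565
import Cfsg.Agent.S0886
import Cfsg.Agent.Chars.IrrTools
import Cfsg.Agent.Chars.Constituent
-- import your own Cfsg.Agent.* helpers here

set_option autoImplicit false
open Cfsg

namespace Cfsg.Agent.S4565

set_option linter.unusedSectionVars false

open scoped ComplexConjugate

universe v

open Cfsg.Lib.Chars

/-- The part of an extendible character on one coset of a normal subgroup with abelian quotient. -/
theorem coset_piece {K : Type v} [Group K] [Fintype K] (N : Subgroup K) [N.Normal] [Fintype N]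
    (hab : ∀ a b : K ⧸ N, a * b = b * a) (c : K ⧸ N) [DecidableEq (K ⧸ N)]
    (φ : K → ℂ) (hφ : Cfsg.IsIrrCharacter K φ)
    (hφN : Cfsg.IsIrrCharacter N (fun n : N => φ n)) :
    (∀ η : K → ℂ, Cfsg.IsIrrCharacter K η →
      Cfsg.classInner (fun n : N => η n) (fun n : N => φ n) = 0 →
      Cfsg.classInner (fun x : K => if QuotientGroup.mk' N x = c then φ x else 0) η = 0) ∧
    ∃ x : K, QuotientGroup.mk' N x = c ∧ φ x ≠ 0 := by
  classical
  have hδ : Cfsg.IsClassFunction (K ⧸ N) (fun y => if y = c then (1 : ℂ) else 0) := fun g h => by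
    rw [hab h g, mul_inv_cancel_right]
  have hone : Cfsg.IsIrrCharacter (K ⧸ N) (fun _ => 1) := isIrrCharacter_one
  set a : Cfsg.IrrCharacter (K ⧸ N) → ℂ := fun β =>
    Cfsg.classInner (fun y => if y = c then (1 : ℂ) else 0) (β : K ⧸ N → ℂ) with ha
  have hlift : ∀ β : Cfsg.IrrCharacter (K ⧸ N),
      Cfsg.IsIrrCharacter K (fun x => (β : K ⧸ N → ℂ) (QuotientGroup.mk' N x)) ∧
      ∀ n : N, (β : K ⧸ N → ℂ) (QuotientGroup.mk' N (n : K)) = 1 := by
    intro β
    have h1 := irr_deg_one_of_comm hab β.2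
    obtain ⟨f, hf⟩ := exists_hom_of_deg_one (isCharacter_of_irr β.2) h1
    refine ⟨?_, fun n => ?_⟩
    · rw [hf]; exact isIrrCharacter_linear (f.comp (QuotientGroup.mk' N))
    · rw [show QuotientGroup.mk' N (n : K) = 1 from (QuotientGroup.eq_one_iff _).mpr n.2, h1]
  set b : Cfsg.IrrCharacter (K ⧸ N) → K → ℂ := fun β x =>
    (β : K ⧸ N → ℂ) (QuotientGroup.mk' N x) with hb
  have hbφ : ∀ β, Cfsg.IsIrrCharacter K (b β * φ) := fun β =>
    (gallagher_trivial N hφ hφN (hlift β).1 (hlift β).1
      (fun n => by rw [(hlift β).2 n, map_one, irr_deg_one_of_comm hab β.2])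
      (fun n => by rw [(hlift β).2 n, map_one, irr_deg_one_of_comm hab β.2])).1
  have hexp : (fun x : K => if QuotientGroup.mk' N x = c then φ x else 0) =
      ∑ β, a β • (b β * φ) := by
    funext x
    have h := classFunction_expand_apply hδ (QuotientGroup.mk' N x)
    simp only [Finset.sum_apply, Pi.smul_apply, Pi.mul_apply, smul_eq_mul, hb, ← mul_assoc]
    rw [← Finset.sum_mul]
    simp only [ha]
    rw [← h, ite_mul, one_mul, zero_mul]
  refine ⟨fun η hη h0 => ?_, ?_⟩
  · rw [hexp, classInner_sum_left]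
    refine Finset.sum_eq_zero fun β _ => ?_
    rw [classInner_smul_left, classInner_irrChar (hbφ β) hη, if_neg, mul_zero]
    intro he
    rw [show (fun n : N => η n) = fun n : N => φ n from funext fun n => by
      rw [← he, Pi.mul_apply, show b β n = 1 from (hlift β).2 n, one_mul],
      classInner_self_irr hφN] at h0
    exact one_ne_zero h0
  · by_contra hne
    push Not at hne
    have h0 : (fun x : K => if QuotientGroup.mk' N x = c then φ x else 0) = 0 := funext fun x => by
      by_cases hx : QuotientGroup.mk' N x = c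
      · rw [if_pos hx, hne x hx]; rfl
      · rw [if_neg hx]; rfl
    have h1 : Cfsg.classInner (∑ β, a β • (b β * φ)) φ = a ⟨_, hone⟩ := by
      rw [classInner_sum_left, Finset.sum_eq_single (⟨_, hone⟩ : Cfsg.IrrCharacter (K ⧸ N))]
      · rw [classInner_smul_left, show b ⟨_, hone⟩ * φ = φ from one_mul φ, classInner_self_irr hφ,
          mul_one]
      · intro β _ hβ
        rw [classInner_smul_left, classInner_irrChar (hbφ β) hφ, if_neg, mul_zero]
        intro he
        have h2 := (gallagher_trivial N hφ hφN (hlift β).1 (isIrrCharacter_one (G := K))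
          (fun n => by rw [(hlift β).2 n, map_one, irr_deg_one_of_comm hab β.2])
          (fun n => rfl)).2 (he.trans (one_mul φ).symm)
        refine hβ (Subtype.ext (funext fun y => ?_))
        obtain ⟨x, rfl⟩ := QuotientGroup.mk'_surjective N y
        exact congrFun h2 x
      · exact fun h => absurd (Finset.mem_univ _) h
    rw [← hexp, h0, classInner_zero_left] at h1
    have h3 : a ⟨_, hone⟩ = (Fintype.card (K ⧸ N) : ℂ)⁻¹ := by
      simp [ha, classInner_def]
    rw [h3] at h1
    exact inv_ne_zero (Nat.cast_ne_zero.mpr Fintype.card_pos.ne') h1.symm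

/-- A class supported function built on a self-centralizing cyclic subgroup of the quotient. -/
theorem no_fully_ramified {H : Type v} [Group H] [Fintype H] (Z : Subgroup H) [Z.Normal] [Fintype Z]
    (χ : H → ℂ) (hχ : Cfsg.IsIrrCharacter H χ) (θ : Z → ℂ) (hθ : Cfsg.IsIrrCharacter Z θ) (e : ℕ)
    (he : e ^ 2 = Z.index) (hres : ∀ z : Z, χ z = (e : ℂ) * θ z) (c : H ⧸ Z) (hc1 : c ≠ 1)
    (hcen : ∀ y : H ⧸ Z, y * c = c * y → y ∈ Subgroup.zpowers c) : False := by
  classical
  have he0 : (e : ℂ) ≠ 0 := by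
    intro h
    have : e = 0 := by exact_mod_cast h
    rw [this] at he
    exact Z.index_ne_zero_of_finite (by simpa using he.symm)
  have hcard : (e : ℂ) ^ 2 * (Nat.card Z : ℂ) = (Nat.card H : ℂ) := by
    rw [← Z.card_mul_index, Nat.cast_mul, ← he, Nat.cast_pow, mul_comm]
  -- `χ` vanishes off `Z`
  have hoff : ∀ h : H, h ∉ Z → χ h = 0 := by
    have h1 := classInner_self_irr hχ
    rw [classInner_self] at h1
    have h2 := classInner_self_irr hθ
    rw [classInner_self] at h2
    have hsum : ∑ h : H, ((‖χ h‖ ^ 2 : ℝ) : ℂ) = (Nat.card H : ℂ) := by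
      push_cast at h1
      field_simp at h1
      push_cast at h1 ⊢
      exact h1
    have hsumθ : ∑ z : Z, ((‖θ z‖ ^ 2 : ℝ) : ℂ) = (Nat.card Z : ℂ) := by
      push_cast at h2
      field_simp at h2
      push_cast at h2 ⊢
      exact h2
    have hZ : ∑ h ∈ Finset.univ.filter (· ∈ Z), ((‖χ h‖ ^ 2 : ℝ) : ℂ) = (Nat.card H : ℂ) := by
      rw [Finset.sum_subtype (p := (· ∈ Z)) (Finset.univ.filter (· ∈ Z)) (by simp)
        (fun h => ((‖χ h‖ ^ 2 : ℝ) : ℂ)), ← hcard, ← hsumθ, Finset.mul_sum]
      refine Finset.sum_congr rfl fun z _ => ?_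
      rw [hres z, norm_mul, Complex.norm_natCast]
      push_cast
      ring
    have hrest : ∑ h ∈ Finset.univ.filter (fun h => ¬ h ∈ Z), ((‖χ h‖ ^ 2 : ℝ) : ℂ) = 0 := by
      have := Finset.sum_filter_add_sum_filter_not Finset.univ (fun h => h ∈ Z)
        (fun h => ((‖χ h‖ ^ 2 : ℝ) : ℂ))
      rw [hsum, hZ] at this
      simpa using this
    intro h hh
    rw [← Complex.ofReal_sum, Complex.ofReal_eq_zero,
      Finset.sum_eq_zero_iff_of_nonneg (fun x _ => by positivity)] at hrest
    simpa using hrest h (by simp [hh])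
  -- `θ` is invariant
  have hinv : ∀ g : H, conjN Z g θ = θ := fun g => funext fun z => mul_left_cancel₀ he0 <| by
    show (e : ℂ) * θ ⟨g * z * g⁻¹, _⟩ = _
    rw [← hres, ← hres]
    exact isClassFunction_isChar (isCharacter_of_irr hχ) z g
  -- `θ^H = e χ`
  have hind : Cfsg.indFun Z θ = (e : ℂ) • χ := by
    funext h
    by_cases hh : h ∈ Z
    · rw [show h = ((⟨h, hh⟩ : Z) : H) from rfl, indFun_normal_mem, Pi.smul_apply, hres, smul_eq_mul,
        show (∑ g : H, θ ⟨g * h * g⁻¹, _⟩) = ∑ _g : H, θ ⟨h, hh⟩ from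
          Finset.sum_congr rfl (fun g _ => congrFun (hinv g) ⟨h, hh⟩),
        Finset.sum_const, Finset.card_univ, ← Nat.card_eq_fintype_card, nsmul_eq_mul, ← hcard]
      have : (Nat.card Z : ℂ) ≠ 0 := by exact_mod_cast Nat.card_pos.ne'
      field_simp
    · rw [indFun_normal_not_mem Z θ hh, Pi.smul_apply, hoff h hh, smul_zero]
  have honly : ∀ ψ : H → ℂ, Cfsg.IsIrrCharacter H ψ → ψ ≠ χ →
      Cfsg.classInner θ (fun z : Z => ψ z) = 0 := by
    intro ψ hψ hne
    rw [← frobenius_reciprocity Z θ (isClassFunction_isChar (isCharacter_of_irr hψ)), hind,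
      classInner_smul_left, classInner_irrChar hχ hψ, if_neg (Ne.symm hne), mul_zero]
  -- the preimage of `⟨c⟩`
  set K : Subgroup H := (Subgroup.zpowers c).comap (QuotientGroup.mk' Z) with hK
  have hZK : Z ≤ K := fun z hz => by
    show QuotientGroup.mk' Z z ∈ Subgroup.zpowers c
    rw [show QuotientGroup.mk' Z z = 1 from (QuotientGroup.eq_one_iff _).mpr hz]
    exact one_mem _
  let i : K ⧸ Z.subgroupOf K →* H ⧸ Z := QuotientGroup.map _ Z K.subtype (fun _ h => h)
  have hi : Function.Injective i := by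
    rw [injective_iff_map_eq_one]
    intro q hq
    obtain ⟨x, rfl⟩ := QuotientGroup.mk'_surjective _ q
    exact (QuotientGroup.eq_one_iff x).mpr ((QuotientGroup.eq_one_iff (x : H)).mp hq)
  have hir : ∀ q, i q ∈ Subgroup.zpowers c := by
    intro q
    obtain ⟨x, rfl⟩ := QuotientGroup.mk'_surjective _ q
    exact x.2
  haveI hcyc : IsCyclic (K ⧸ Z.subgroupOf K) :=
    isCyclic_of_injective (i.codRestrict _ hir)
      (fun a b h => hi (congrArg Subtype.val h))
  obtain ⟨c₁, hc₁⟩ := QuotientGroup.mk'_surjective Z c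
  have hc₁K : c₁ ∈ K := by
    show QuotientGroup.mk' Z c₁ ∈ Subgroup.zpowers c
    rw [hc₁]
    exact Subgroup.mem_zpowers c
  set cK : K ⧸ Z.subgroupOf K := QuotientGroup.mk' _ ⟨c₁, hc₁K⟩ with hcK
  have hicK : i cK = c := hc₁
  -- extension of `θ`
  let eZ : Z.subgroupOf K ≃* Z := Subgroup.subgroupOfEquivOfLe hZK
  have hθ' : Cfsg.IsIrrCharacter (Z.subgroupOf K) (fun z => θ (eZ z)) :=
    IsIrrCharacter.comp_mulEquiv hθ eZ
  obtain ⟨φ, hφ, hφres⟩ := Cfsg.Agent.S0886.result (Z.subgroupOf K) hcyc (fun z => θ (eZ z)) hθ'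
    (fun g z => congrFun (hinv (g : H)) (eZ z))
  have hφN : Cfsg.IsIrrCharacter (Z.subgroupOf K) (fun z : Z.subgroupOf K => φ z) := by
    rw [show (fun z : Z.subgroupOf K => φ z) = fun z => θ (eZ z) from funext hφres]
    exact hθ'
  letI := IsCyclic.commGroup (α := K ⧸ Z.subgroupOf K)
  obtain ⟨horth, x₀, hx₀, hφx₀⟩ := coset_piece (Z.subgroupOf K)
    (fun a b => mul_comm a b) cK φ hφ hφN
  set gK : K → ℂ := fun x => if QuotientGroup.mk' (Z.subgroupOf K) x = cK then φ x else 0 with hgK
  -- orthogonality to all irreducible characters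
  have hall : ∀ ψ : Cfsg.IrrCharacter H, Cfsg.classInner (Cfsg.indFun K gK) (ψ : H → ℂ) = 0 := by
    intro ψ
    rw [frobenius_reciprocity K gK (isClassFunction_irr ψ)]
    by_cases hψ : (ψ : H → ℂ) = χ
    · rw [classInner_def, Finset.sum_eq_zero, mul_zero]
      intro x _
      by_cases hx : QuotientGroup.mk' (Z.subgroupOf K) x = cK
      · have hxZ : (x : H) ∉ Z := fun hm => hc1 (by
          rw [← hicK, ← hx]
          exact (QuotientGroup.eq_one_iff (x : H)).mpr hm)
        simp only [hψ, hoff _ hxZ, map_zero, mul_zero]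
      · simp only [hgK, if_neg hx, zero_mul]
    · have hres0 := honly ψ ψ.2 hψ
      obtain ⟨m, hm⟩ := IsCharacter.exists_decomp (IsCharacter.restrict (isCharacter_of_irr ψ.2) K)
      rw [hm, classInner_sum_right]
      refine Finset.sum_eq_zero fun η _ => ?_
      rw [classInner_nsmul_right]
      by_cases hmη : m η = 0
      · rw [hmη]; simp
      · rw [horth η η.2, mul_zero]
        by_contra hne
        have hηψ : Cfsg.classInner (fun x : K => (ψ : H → ℂ) x) (η : K → ℂ) ≠ 0 := by
          rw [hm]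
          simp only [← Nat.cast_smul_eq_nsmul ℂ]
          rw [classInner_irrSum (fun η => (m η : ℂ)) η]
          exact_mod_cast hmη
        have h5 := classInner_pullback_ne_zero (Z.subgroupOf K).subtype
          (IsCharacter.restrict (isCharacter_of_irr ψ.2) K) η.2 hηψ hφN hne
        apply h5
        rw [← classInner_conj_symm]
        have h6 : Cfsg.classInner (fun z : Z.subgroupOf K => φ z)
            (fun z : Z.subgroupOf K => (ψ : H → ℂ) ((z : K) : H)) =
            Cfsg.classInner θ (fun z : Z => (ψ : H → ℂ) z) := by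
          rw [← classInner_comp_equiv eZ.toEquiv θ (fun z : Z => (ψ : H → ℂ) z),
            show (fun z : Z.subgroupOf K => φ z) = fun z => θ (eZ z) from funext hφres]
          rfl
        show conj (Cfsg.classInner (fun z : Z.subgroupOf K => φ z)
          (fun z : Z.subgroupOf K => (ψ : H → ℂ) ((z : K) : H))) = 0
        rw [h6, hres0, map_zero]
  have hf0 := eq_zero_of_classInner_eq_zero (isClassFunction_indFun K gK) hall
  -- value at `x₀`
  have hval : Cfsg.indFun K gK (x₀ : H) = φ x₀ := by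
    have key : ∀ t : H, Cfsg.extendByZero K gK (t⁻¹ * x₀ * t) = if t ∈ K then φ x₀ else 0 := by
      intro t
      by_cases ht : t ∈ K
      · rw [if_pos ht, extendByZero_mem _ (K.mul_mem (K.mul_mem (K.inv_mem ht) x₀.2) ht),
          show (⟨t⁻¹ * x₀ * t, K.mul_mem (K.mul_mem (K.inv_mem ht) x₀.2) ht⟩ : K) =
            (⟨t, ht⟩ : K)⁻¹ * x₀ * ⟨t, ht⟩ from rfl, hgK]
        simp only [map_mul, map_inv]
        rw [mul_comm _ (QuotientGroup.mk' _ x₀), inv_mul_cancel_right, if_pos hx₀,
          classFunction_conj' (isClassFunction_isChar (isCharacter_of_irr hφ))]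
      · rw [if_neg ht]
        by_cases hm : t⁻¹ * x₀ * t ∈ K
        · rw [extendByZero_mem _ hm, hgK]
          refine if_neg fun h => ht ?_
          have h7 := congrArg i h
          rw [hicK] at h7
          have h8 : i (QuotientGroup.mk' _ x₀) = c := by rw [hx₀, hicK]
          apply hcen (QuotientGroup.mk' Z t)
          change QuotientGroup.mk' Z (t⁻¹ * x₀ * t) = c at h7
          change QuotientGroup.mk' Z (x₀ : H) = c at h8
          rw [map_mul, map_mul, map_inv, h8] at h7
          conv_lhs => rw [← h7]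
          group
        · exact extendByZero_not_mem _ hm
    rw [indFun_apply, Finset.sum_congr rfl fun t _ => key t, ← Finset.sum_filter, Finset.sum_const,
      nsmul_eq_mul, ← Fintype.card_subtype, ← Nat.card_eq_fintype_card]
    have : (Nat.card K : ℂ) ≠ 0 := by exact_mod_cast Nat.card_pos.ne'
    field_simp
  rw [hf0] at hval
  exact hφx₀ hval.symm

/-- Let χ be an irreducible character of the finite group H that is fully ramified over the normal subgroup Z: the restriction of χ to Z is e times an irreducible character of Z with e ^ 2 equal to the index of Z. If Z ≠ H, then H/Z has no cyclic subgroup that is its own centralizer. -/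
theorem result {H : Type*} [Group H] [Finite H] (Z : Subgroup H) [Z.Normal] (χ : Cfsg.IrrCharacter H) (hfr : ∃ (θ : Cfsg.IrrCharacter ↥Z) (e : ℕ), e ^ 2 = Z.index ∧ ∀ z : ↥Z, (χ : H → ℂ) z = (e : ℂ) * (θ : ↥Z → ℂ) z) (hZ : Z ≠ ⊤) (C : Subgroup (H ⧸ Z)) (hC : IsCyclic C) : Subgroup.centralizer (C : Set (H ⧸ Z)) ≠ C := by
  classical
  obtain ⟨θ, e, he, hres⟩ := hfr
  intro hcen
  letI := Fintype.ofFinite H
  letI := Fintype.ofFinite Z
  obtain ⟨⟨c, hcC⟩, hgen⟩ := hC.exists_generator
  have hCc : C = Subgroup.zpowers c := by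
    refine le_antisymm (fun y hy => ?_) ((Subgroup.zpowers_le).mpr hcC)
    obtain ⟨k, hk⟩ := hgen ⟨y, hy⟩
    exact ⟨k, congrArg Subtype.val hk⟩
  have hcen' : ∀ y : H ⧸ Z, y * c = c * y → y ∈ Subgroup.zpowers c := by
    intro y hy
    rw [← hCc, ← hcen, Subgroup.mem_centralizer_iff, hCc]
    rintro z ⟨k, rfl⟩
    exact ((show Commute y c from hy).zpow_right k).eq.symm
  refine no_fully_ramified Z (χ : H → ℂ) χ.2 (θ : Z → ℂ) θ.2 e he hres c ?_ hcen'
  rintro rfl
  apply hZ
  rw [eq_top_iff]
  intro h _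
  have h1 := hcen' (QuotientGroup.mk' Z h) (by rw [mul_one, one_mul])
  rw [Subgroup.zpowers_one_eq_bot, Subgroup.mem_bot] at h1
  exact (QuotientGroup.eq_one_iff h).mp h1

end Cfsg.Agent.S4565
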