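import Cfsg.Statements.S4566
import Cfsg.Agent.Chars.Extraspecial
-- import your own Cfsg.Agent.* helpers here

set_option autoImplicit false
open Cfsg

namespace Cfsg.Agent.S4566

set_option linter.unusedSectionVars false

open Cfsg.Lib.Chars

/-- Let N be a central subgroup of the finite group G, ψ a faithful irreducible (hence degree-one) character of N, and χ an irreducible character of G whose restriction to N contains ψ. If g ∈ G and some x ∈ G has commutator x⁻¹ g⁻¹ x g in N but different from 1, then χ g = 0. -/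
theorem result {G : Type*} [Group G] [Fintype G] (N : Subgroup G) [Fintype N] (hN : N ≤ Subgroup.center G) (ψ : Cfsg.IrrCharacter ↥N) (hfaith : ∀ n : ↥N, (ψ : ↥N → ℂ) n = (ψ : ↥N → ℂ) 1 → n = 1) (χ : Cfsg.IrrCharacter G) (hover : Cfsg.classInner (fun n : ↥N => (χ : G → ℂ) n) (ψ : ↥N → ℂ) ≠ 0) (g x : G) (hcomm : x⁻¹ * g⁻¹ * x * g ∈ N) (hne : x⁻¹ * g⁻¹ * x * g ≠ 1) : (χ : G → ℂ) g = 0 := by
  classical
  by_contra hg0
  set c : G := x⁻¹ * g⁻¹ * x * g with hc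
  have hcc : c ∈ Subgroup.center G := hN hcomm
  have hχ1 : (χ : G → ℂ) 1 ≠ 0 := IsIrrCharacter.apply_one_ne_zero χ.2
  have hψ1 : (ψ : ↥N → ℂ) 1 ≠ 0 := IsIrrCharacter.apply_one_ne_zero ψ.2
  -- `χ c = χ 1`
  have h1 : (χ : G → ℂ) c = (χ : G → ℂ) 1 := by
    have h2 := center_mul_of_irr χ.2 (z := c⁻¹) (inv_mem hcc) g
    have hconj : (χ : G → ℂ) (c⁻¹ * g) = (χ : G → ℂ) g := by
      have e1 : c⁻¹ * g = x⁻¹ * g * x := by
        rw [show c⁻¹ * g = g * c⁻¹ from ((Subgroup.mem_center_iff.1 (inv_mem hcc)) g).symm, hc]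
        group
      have := isClassFunction_irr χ g x⁻¹
      rw [inv_inv] at this
      rw [e1]; exact this
    rw [hconj] at h2
    have h3 : (χ : G → ℂ) c⁻¹ = (χ : G → ℂ) 1 := mul_right_cancel₀ hg0 (by rw [← h2]; ring)
    have h4 := center_mul_of_irr χ.2 hcc c⁻¹
    rw [mul_inv_cancel, h3] at h4
    exact (mul_right_cancel₀ hχ1 h4).symm
  apply hne
  have h5 : (ψ : ↥N → ℂ) ⟨c, hcomm⟩ = (ψ : ↥N → ℂ) 1 := by
    unfold Cfsg.classInner at hover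
    have hsum : (∑ n : ↥N, (χ : G → ℂ) n * starRingEnd ℂ ((ψ : ↥N → ℂ) n)) ≠ 0 := fun h => by
      rw [h, mul_zero] at hover; exact hover rfl
    have hmem : (⟨c, hcomm⟩ : ↥N) ∈ Subgroup.center ↥N := Subgroup.mem_center_iff.2 fun y =>
      Subtype.ext ((Subgroup.mem_center_iff.1 hcc) (y : G))
    have hsh : (∑ n : ↥N, (χ : G → ℂ) ((⟨c, hcomm⟩ * n : ↥N) : G) *
        starRingEnd ℂ ((ψ : ↥N → ℂ) (⟨c, hcomm⟩ * n))) =
        ∑ n : ↥N, (χ : G → ℂ) n * starRingEnd ℂ ((ψ : ↥N → ℂ) n) :=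
      Equiv.sum_comp (Equiv.mulLeft (⟨c, hcomm⟩ : ↥N))
        (fun n : ↥N => (χ : G → ℂ) n * starRingEnd ℂ ((ψ : ↥N → ℂ) n))
    have heach : ∀ n : ↥N, (χ : G → ℂ) ((⟨c, hcomm⟩ * n : ↥N) : G) *
        starRingEnd ℂ ((ψ : ↥N → ℂ) (⟨c, hcomm⟩ * n)) =
        starRingEnd ℂ ((ψ : ↥N → ℂ) ⟨c, hcomm⟩ / (ψ : ↥N → ℂ) 1) *
          ((χ : G → ℂ) n * starRingEnd ℂ ((ψ : ↥N → ℂ) n)) := by
      intro n
      have e1 : (χ : G → ℂ) (c * (n : G)) = (χ : G → ℂ) n := by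
        have := center_mul_of_irr χ.2 hcc (n : G)
        rw [h1, mul_comm ((χ : G → ℂ) 1)] at this
        exact mul_right_cancel₀ hχ1 this
      have e2 : (ψ : ↥N → ℂ) (⟨c, hcomm⟩ * n) =
          (ψ : ↥N → ℂ) ⟨c, hcomm⟩ / (ψ : ↥N → ℂ) 1 * (ψ : ↥N → ℂ) n := by
        rw [div_mul_eq_mul_div, eq_div_iff hψ1, center_mul_of_irr ψ.2 hmem n]
      rw [Subgroup.coe_mul, e1, e2, map_mul]
      ring
    rw [Finset.sum_congr rfl fun n _ => heach n, ← Finset.mul_sum] at hsh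
    have h6 : starRingEnd ℂ ((ψ : ↥N → ℂ) ⟨c, hcomm⟩ / (ψ : ↥N → ℂ) 1) = 1 :=
      mul_right_cancel₀ hsum (by rw [hsh, one_mul])
    have h7 := congrArg (starRingEnd ℂ) h6
    rw [Complex.conj_conj, map_one, div_eq_one_iff_eq hψ1] at h7
    exact h7
  exact congrArg Subtype.val (hfaith ⟨c, hcomm⟩ h5)

end Cfsg.Agent.S4566
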