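import Cfsg.Statements.S4567
import Cfsg.Agent.Chars.Galois
import Cfsg.Agent.Chars.Count
import Cfsg.Agent.Chars.Construct
import Mathlib
-- import your own Cfsg.Agent.* helpers here

set_option autoImplicit false
open Cfsg

namespace Cfsg.Agent.S4567

set_option linter.unusedSectionVars false

open Cfsg.Lib.Chars

/-- Let N be a central subgroup of the finite group G and ψ a faithful irreducible (hence degree-one) character of N. Call a coset g N special when every x ∈ G whose commutator x⁻¹ g⁻¹ x g lies in N actually commutes with g (this depends only on the coset). Then the number of irreducible characters of G whose restriction to N contains ψ equals the number of conjugacy classes of G/N consisting of special cosets. -/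
theorem result {G : Type*} [Group G] [Fintype G] (N : Subgroup G) [N.Normal] [Fintype N] (hN : N ≤ Subgroup.center G) (ψ : Cfsg.IrrCharacter ↥N) (hfaith : ∀ n : ↥N, (ψ : ↥N → ℂ) n = (ψ : ↥N → ℂ) 1 → n = 1) : Nat.card {χ : Cfsg.IrrCharacter G // Cfsg.classInner (fun n : ↥N => (χ : G → ℂ) n) (ψ : ↥N → ℂ) ≠ 0} = Nat.card {C : ConjClasses (G ⧸ N) // ∃ g : G, ConjClasses.mk (g : G ⧸ N) = C ∧ ∀ x : G, x⁻¹ * g⁻¹ * x * g ∈ N → x * g = g * x} := by
  classical
  have hNc : ∀ n ∈ N, ∀ g : G, g * n = n * g := fun n hn g => Subgroup.mem_center_iff.1 (hN hn) g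
  have hψ1 : (ψ : N → ℂ) 1 = 1 :=
    irr_deg_one_of_comm (fun a b => Subtype.ext (hNc b b.2 a)) ψ.2
  obtain ⟨f, hf⟩ := exists_hom_of_deg_one (isCharacter_of_irr ψ.2) hψ1
  have hfinj : ∀ n : N, f n = 1 → n = 1 := fun n hn => hfaith n (by rw [hf]; simp [hn])
  -- central characters
  have hscal : ∀ χ : Cfsg.IrrCharacter G, ∃ c : N → ℂ, (∀ (g : G) (n : N), (χ : G → ℂ) (g * n) = c n * (χ : G → ℂ) g) ∧
      (∀ n, c n * (starRingEnd ℂ) (c n) = 1) ∧
      (Cfsg.classInner (fun n : N => (χ : G → ℂ) n) (ψ : N → ℂ) ≠ 0 ↔ ∀ n, c n = ((f n : ℂˣ) : ℂ)) := by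
    intro χ
    obtain ⟨d, ρ, hρ, hρχ⟩ := χ.2
    haveI := hρ
    choose c hc using fun n : N => schur_scalar ρ (ρ (n : G)) fun g v => by
      rw [← Module.End.mul_apply, ← Module.End.mul_apply, ← map_mul, ← map_mul, hNc n n.2 g]
    have hmul : ∀ (g : G) (n : N), (χ : G → ℂ) (g * n) = c n * (χ : G → ℂ) g := fun g n => by
      rw [← hρχ, Representation.character, Representation.character, map_mul, hc n,
        show ρ g * (c n • LinearMap.id) = c n • ρ g from LinearMap.ext fun v => by simp,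
        map_smul, smul_eq_mul]
    have h1 : ∀ n : N, (χ : G → ℂ) n = c n * (χ : G → ℂ) 1 := fun n => by
      have := hmul 1 n
      rwa [one_mul] at this
    have hχ1 := IsIrrCharacter.apply_one_ne_zero χ.2
    have hcm : ∀ a b : N, c (a * b) = c a * c b := fun a b => by
      have h2 := h1 (a * b)
      rw [Subgroup.coe_mul, hmul, h1 a] at h2
      apply mul_right_cancel₀ hχ1
      rw [← h2]; ring
    have hc1 : c 1 = 1 := by
      have h2 := h1 1
      rw [OneMemClass.coe_one] at h2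
      exact mul_right_cancel₀ hχ1 (h2.symm.trans (one_mul _).symm)
    let F : N →* ℂ := { toFun := c, map_one' := hc1, map_mul' := hcm }
    let F' : N →* ℂˣ := F.toHomUnits
    have hF : ∀ n, c n = ((F' n : ℂˣ) : ℂ) := fun n => rfl
    have hFirr : Cfsg.IsIrrCharacter N c := by
      rw [show c = fun n => ((F' n : ℂˣ) : ℂ) from funext hF]
      simpa using IsIrrCharacter.mul_linear (G := N) isIrrCharacter_one F'
    refine ⟨c, hmul, fun n => ?_, ?_⟩
    · have hpow : c n ^ orderOf n = 1 := by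
        rw [show c n = F n from rfl, ← map_pow, pow_orderOf_eq_one, map_one]
      rw [Complex.mul_conj, Complex.normSq_eq_norm_sq,
        Complex.norm_eq_one_of_pow_eq_one hpow (orderOf_pos n).ne']
      norm_num
    · rw [show (fun n : N => (χ : G → ℂ) n) = (χ : G → ℂ) 1 • c from funext fun n => by
        rw [h1 n, Pi.smul_apply, smul_eq_mul, mul_comm], classInner_smul_left, classInner_irrChar hFirr ψ.2]
      by_cases h : c = (ψ : N → ℂ)
      · rw [if_pos h, mul_one]
        exact ⟨fun _ n => by rw [h, hf], fun _ => hχ1⟩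
      · rw [if_neg h, mul_zero]
        exact ⟨fun h' => absurd rfl h', fun h' => absurd (funext fun n => by rw [h', hf]) h⟩
  choose c hcmul hcnorm hciff using hscal
  let V : Submodule ℂ (G → ℂ) :=
    { carrier := {φ | Cfsg.IsClassFunction G φ ∧ ∀ (g : G) (n : N), φ (g * n) = ((f n : ℂˣ) : ℂ) * φ g}
      zero_mem' := ⟨fun _ _ => rfl, fun _ _ => by simp⟩
      add_mem' := fun {a b} ha hb => ⟨fun g h => by simp [ha.1 g h, hb.1 g h],
        fun g n => by simp [ha.2 g n, hb.2 g n, mul_add]⟩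
      smul_mem' := fun z a ha => ⟨fun g h => by simp [ha.1 g h], fun g n => by simp [ha.2 g n, mul_left_comm]⟩ }
  let I := {χ : Cfsg.IrrCharacter G // Cfsg.classInner (fun n : ↥N => (χ : G → ℂ) n) (ψ : ↥N → ℂ) ≠ 0}
  let v : I → V := fun χ => ⟨(χ.1 : G → ℂ), isClassFunction_irr χ.1, fun g n => by
    rw [hcmul, (hciff χ.1).1 χ.2 n]⟩
  have hli : LinearIndependent ℂ v :=
    LinearIndependent.of_comp V.subtype (linearIndependent_irr.comp (fun χ : I => χ.1) Subtype.val_injective)
  have hspan : ⊤ ≤ Submodule.span ℂ (Set.range v) := by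
    rintro ⟨φ, hφc, hφN⟩ -
    have hcoef : ∀ χ : Cfsg.IrrCharacter G, Cfsg.classInner (fun n : ↥N => (χ : G → ℂ) n) (ψ : ↥N → ℂ) = 0 →
        Cfsg.classInner φ (χ : G → ℂ) = 0 := by
      intro χ hχ
      obtain ⟨n, hn⟩ : ∃ n, c χ n ≠ ((f n : ℂˣ) : ℂ) := by
        by_contra hcon
        push Not at hcon
        exact (hciff χ).2 hcon hχ
      have h1 : Cfsg.classInner φ (χ : G → ℂ) =
          ((f n : ℂˣ) : ℂ) * (starRingEnd ℂ) (c χ n) * Cfsg.classInner φ (χ : G → ℂ) := by
        simp only [classInner_def, Finset.mul_sum]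
        rw [← Fintype.sum_equiv (Equiv.mulRight (n : G))
          (fun g => (Nat.card G : ℂ)⁻¹ * (φ (g * n) * (starRingEnd ℂ) ((χ : G → ℂ) (g * n)))) _ fun g => rfl]
        refine Finset.sum_congr rfl fun g _ => ?_
        rw [hφN, hcmul, map_mul]
        ring
      by_contra h0
      have h2 : ((f n : ℂˣ) : ℂ) * (starRingEnd ℂ) (c χ n) = 1 :=
        mul_right_cancel₀ h0 (h1.symm.trans (one_mul _).symm)
      refine hn ?_
      calc c χ n = c χ n * (((f n : ℂˣ) : ℂ) * (starRingEnd ℂ) (c χ n)) := by rw [h2, mul_one]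
        _ = ((f n : ℂˣ) : ℂ) * (c χ n * (starRingEnd ℂ) (c χ n)) := by ring
        _ = _ := by rw [hcnorm, mul_one]
    have hexp : (⟨φ, hφc, hφN⟩ : V) = ∑ χ : I, Cfsg.classInner φ (χ.1 : G → ℂ) • v χ := by
      apply Subtype.ext
      funext g
      simp only [Submodule.coe_sum, Submodule.coe_smul, Finset.sum_apply, Pi.smul_apply, smul_eq_mul, v]
      rw [show φ g = ∑ χ : Cfsg.IrrCharacter G, Cfsg.classInner φ (χ : G → ℂ) * (χ : G → ℂ) g from
        classFunction_expand_apply hφc g]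
      rw [← Finset.sum_subset (Finset.subset_univ (Finset.univ.filter fun χ : Cfsg.IrrCharacter G =>
        Cfsg.classInner (fun n : ↥N => (χ : G → ℂ) n) (ψ : ↥N → ℂ) ≠ 0)) fun χ _ h => by
          rw [hcoef χ (not_not.1 fun h' => h (Finset.mem_filter.2 ⟨Finset.mem_univ _, h'⟩)), zero_mul]]
      exact Finset.sum_subtype _ (fun χ => by simp) _
    rw [hexp]
    exact Submodule.sum_mem _ fun χ _ => Submodule.smul_mem _ _ (Submodule.subset_span (Set.mem_range_self χ))
  have hrank : Module.finrank ℂ V = Nat.card I := by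
    rw [Module.finrank_eq_card_basis (Module.Basis.mk hli hspan), Nat.card_eq_fintype_card]
  let S := {C : ConjClasses (G ⧸ N) // ∃ g : G, ConjClasses.mk (g : G ⧸ N) = C ∧
    ∀ x : G, x⁻¹ * g⁻¹ * x * g ∈ N → x * g = g * x}
  have hrep : ∀ C : S, ∃ g : G, ConjClasses.mk (g : G ⧸ N) = C.1 ∧
    ∀ x : G, x⁻¹ * g⁻¹ * x * g ∈ N → x * g = g * x := fun C => C.2
  choose r hrC hrsp using hrep
  haveI : Fintype S := Fintype.ofFinite S
  let Φ : V →ₗ[ℂ] (S → ℂ) :=
    { toFun := fun φ C => (φ : G → ℂ) (r C)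
      map_add' := fun a b => rfl
      map_smul' := fun z a => rfl }
  -- decomposition relative to the representatives
  have hdec : ∀ (g : G) (C : S), ConjClasses.mk (g : G ⧸ N) = C.1 →
      ∃ (x : G) (n : N), g = x * (r C * n) * x⁻¹ := by
    intro g C hg
    obtain ⟨q, hq⟩ := isConj_iff.1 (ConjClasses.mk_eq_mk_iff_isConj.1 ((hrC C).trans hg.symm))
    obtain ⟨x, rfl⟩ := QuotientGroup.mk_surjective q
    rw [← QuotientGroup.mk_inv, ← QuotientGroup.mk_mul, ← QuotientGroup.mk_mul, QuotientGroup.eq] at hq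
    refine ⟨x, ⟨_, hq⟩, ?_⟩
    show g = x * (r C * ((x * r C * x⁻¹)⁻¹ * g)) * x⁻¹
    have h1 := hNc _ hq x
    calc g = (x * r C * x⁻¹) * ((x * r C * x⁻¹)⁻¹ * g) := by group
      _ = (x * r C * x⁻¹) * ((x * r C * x⁻¹)⁻¹ * g * x * x⁻¹) := by group
      _ = (x * r C * x⁻¹) * (x * ((x * r C * x⁻¹)⁻¹ * g) * x⁻¹) := by rw [h1]
      _ = _ := by group
  have hdec1 : ∀ (C : S) (x : G) (n n' : N), x * (r C * n) * x⁻¹ = r C * n' → n = n' := by
    intro C x n n' h
    have e1 : x * r C * x⁻¹ = r C * ((n' : G) * (n : G)⁻¹) := by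
      have e0 : x * (r C * n) * x⁻¹ = x * r C * x⁻¹ * n := by
        rw [show x * (r C * (n : G)) = x * r C * n by group, mul_assoc (x * r C), ← hNc n n.2 x⁻¹, ← mul_assoc]
      rw [e0] at h
      rw [← mul_assoc, ← h, mul_inv_cancel_right]
    have hm : x⁻¹ * (r C)⁻¹ * x * r C ∈ N := by
      have hmem : (r C)⁻¹ * (x * r C * x⁻¹) ∈ N := by
        rw [e1, inv_mul_cancel_left]; exact mul_mem n'.2 (inv_mem n.2)
      have := (inferInstance : N.Normal).conj_mem _ hmem x⁻¹
      simpa [mul_assoc] using this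
    rw [hrsp C x hm, mul_inv_cancel_right] at e1
    apply Subtype.ext
    have e2 : (n' : G) * (n : G)⁻¹ = 1 := mul_left_cancel (e1.symm.trans (mul_one _).symm)
    exact (mul_inv_eq_one.1 e2).symm
  have hinj : Function.Injective Φ := by
    rw [injective_iff_map_eq_zero]
    rintro ⟨φ, hφc, hφN⟩ h0
    apply Subtype.ext
    funext g
    show φ g = 0
    by_cases hsp : ∀ x : G, x⁻¹ * g⁻¹ * x * g ∈ N → x * g = g * x
    · let C : S := ⟨ConjClasses.mk (g : G ⧸ N), g, rfl, hsp⟩
      obtain ⟨x, n, hxn⟩ := hdec g C rfl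
      rw [hxn, classFunction_eq_of_isConj hφc (isConj_iff.2 ⟨x⁻¹, by group⟩ : IsConj (x * (r C * n) * x⁻¹) (r C * n)),
        hφN, show φ (r C) = 0 from congrFun h0 C, mul_zero]
    · push Not at hsp
      obtain ⟨x, hx, hne⟩ := hsp
      set m : N := ⟨_, hx⟩
      have hm : (m : G) = x⁻¹ * g⁻¹ * x * g := rfl
      have h1 : x⁻¹ * g * x⁻¹⁻¹ = g * ((m⁻¹ : N) : G) := by
        rw [Subgroup.coe_inv, hm]
        group
      have h2 : φ g = ((f m⁻¹ : ℂˣ) : ℂ) * φ g := by
        conv_lhs => rw [← hφc g x⁻¹]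
        rw [h1, hφN]
      by_contra h3
      have h4 : f m⁻¹ = 1 := Units.ext (mul_right_cancel₀ h3 (h2.symm.trans (one_mul _).symm))
      refine hne ?_
      have h5 : x⁻¹ * g⁻¹ * x * g = 1 := by
        rw [← hm, inv_eq_one.1 (hfinj _ h4), OneMemClass.coe_one]
      calc x * g = g * x * (x⁻¹ * g⁻¹ * x * g) := by group
        _ = g * x := by rw [h5, mul_one]
  have hsurj : Function.Surjective Φ := by
    intro a
    have hP : ∀ g : G, ∀ h : (∃ C : S, ConjClasses.mk (g : G ⧸ N) = C.1),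
        ∃ (x : G) (n : N), g = x * (r h.choose * n) * x⁻¹ := fun g h => hdec g h.choose h.choose_spec
    choose X Nn hXN using hP
    let φ : G → ℂ := fun g => if h : ∃ C : S, ConjClasses.mk (g : G ⧸ N) = C.1 then
      ((f (Nn g h) : ℂˣ) : ℂ) * a h.choose else 0
    have hval : ∀ (C : S) (x : G) (n : N), φ (x * (r C * n) * x⁻¹) = ((f n : ℂˣ) : ℂ) * a C := by
      intro C x n
      have hC : ConjClasses.mk ((x * (r C * n) * x⁻¹ : G) : G ⧸ N) = C.1 := by
        rw [← hrC C, ConjClasses.mk_eq_mk_iff_isConj]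
        refine (isConj_iff.2 ⟨(x : G ⧸ N), ?_⟩).symm
        rw [← QuotientGroup.mk_inv, ← QuotientGroup.mk_mul, ← QuotientGroup.mk_mul, QuotientGroup.eq]
        have := (inferInstance : N.Normal).conj_mem _ n.2 x
        simpa [mul_assoc] using this
      have hex : ∃ C' : S, ConjClasses.mk ((x * (r C * n) * x⁻¹ : G) : G ⧸ N) = C'.1 := ⟨C, hC⟩
      simp only [φ, dif_pos hex]
      have heq : hex.choose = C := Subtype.ext (hex.choose_spec.symm.trans hC)
      have h1 := hXN _ hex
      generalize X _ hex = x' at h1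
      generalize Nn _ hex = n' at h1 ⊢
      rw [heq] at h1 ⊢
      have h2 : x'⁻¹ * x * (r C * n) * (x'⁻¹ * x)⁻¹ = r C * n' := by
        calc x'⁻¹ * x * (r C * n) * (x'⁻¹ * x)⁻¹ = x'⁻¹ * (x * (r C * n) * x⁻¹) * x' := by group
          _ = _ := by rw [h1]; group
      rw [hdec1 C _ n n' h2]
    have hnot : ∀ (g h : G) (n : N), (¬ ∃ C : S, ConjClasses.mk (g : G ⧸ N) = C.1) →
        ¬ ∃ C : S, ConjClasses.mk ((h * (g * n) * h⁻¹ : G) : G ⧸ N) = C.1 := by
      rintro g h n hg ⟨C, hC⟩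
      refine hg ⟨C, ?_⟩
      rw [← hC, ConjClasses.mk_eq_mk_iff_isConj]
      refine isConj_iff.2 ⟨(h : G ⧸ N), ?_⟩
      rw [← QuotientGroup.mk_inv, ← QuotientGroup.mk_mul, ← QuotientGroup.mk_mul, QuotientGroup.eq]
      have := (inferInstance : N.Normal).conj_mem _ n.2 h
      simpa [mul_assoc] using this
    refine ⟨⟨φ, fun g h => ?_, fun g n => ?_⟩, ?_⟩
    · by_cases hg : ∃ C : S, ConjClasses.mk (g : G ⧸ N) = C.1
      · obtain ⟨C, hC⟩ := hg
        obtain ⟨x, n, rfl⟩ := hdec g C hC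
        rw [show h * (x * (r C * n) * x⁻¹) * h⁻¹ = (h * x) * (r C * n) * (h * x)⁻¹ by group, hval, hval]
      · have h' := hnot g h 1 hg
        rw [OneMemClass.coe_one, mul_one] at h'
        simp only [φ, dif_neg hg, dif_neg h']
    · by_cases hg : ∃ C : S, ConjClasses.mk (g : G ⧸ N) = C.1
      · obtain ⟨C, hC⟩ := hg
        obtain ⟨x, m, rfl⟩ := hdec g C hC
        have e : x * (r C * m) * x⁻¹ * (n : G) = x * (r C * ((m * n : N) : G)) * x⁻¹ := by
          rw [Subgroup.coe_mul, mul_assoc (x * (r C * m)), hNc n n.2 x⁻¹]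
          group
        rw [e, hval, hval, map_mul, Units.val_mul]
        ring
      · have h' := hnot g 1 n hg
        rw [one_mul, inv_one, mul_one] at h'
        simp only [φ, dif_neg hg, dif_neg h', mul_zero]
    · funext C
      show φ (r C) = a C
      have := hval C 1 1
      simpa using this
  have hfin : Module.finrank ℂ V = Nat.card S := by
    rw [(LinearEquiv.ofBijective Φ ⟨hinj, hsurj⟩).finrank_eq, Module.finrank_fintype_fun_eq_card,
      Nat.card_eq_fintype_card]
  exact hrank.symm.trans hfin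

end Cfsg.Agent.S4567
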