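import Cfsg.Statements.S4573
import Cfsg.Agent.Chars.WreathMonomial
import Cfsg.Agent.Coprime.SchurZassenhaus
-- import your own Cfsg.Agent.* helpers here

set_option autoImplicit false
universe u
open Cfsg

namespace Cfsg.Agent.S4573

set_option linter.unusedSectionVars false

open Cfsg.Lib.MGroup

universe v

open Cfsg.Lib.Chars in
theorem exists_mgroup : ∀ (n : ℕ) (G : Type v) [Group G] [Finite G], Nat.card G = n → Group.IsSolvable G →
    ∃ (M : Type v) (_ : Group M) (_ : Fintype M), IsMGroup M ∧ ∃ f : G →* M, Function.Injective f := by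
  intro n
  induction n using Nat.strong_induction_on with
  | _ n ih =>
  intro G _ _ hn hsol
  classical
  haveI := hsol
  rcases subsingleton_or_nontrivial G with h | h
  · letI := Fintype.ofFinite G
    refine ⟨G, inferInstance, inferInstance, fun χ hχ => ?_, MonoidHom.id G, fun _ _ h => h⟩
    have h1 : χ 1 = 1 := irr_deg_one_of_comm (fun a b => Subsingleton.elim _ _) hχ
    obtain ⟨f, hf⟩ := exists_hom_of_deg_one (isCharacter_of_irr hχ) h1
    refine ⟨⊤, f.comp (⊤ : Subgroup G).subtype, ?_⟩
    rw [indFun_top _ (isClassFunction_isChar (isCharacter_linear _))]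
    exact hf
  obtain ⟨N, hN, hp⟩ := Cfsg.Lib.Coprime.exists_normal_prime_index (G := G)
  haveI := hN
  obtain ⟨M, _, _, hM, g, hg⟩ := ih (Nat.card N)
    (hn ▸ lt_of_le_of_ne N.card_le_card_group fun h =>
      hp.ne_one (Subgroup.index_eq_one.2 (Subgroup.eq_top_of_card_eq N h))) N rfl inferInstance
  letI := Fintype.ofFinite (G ⧸ N)
  obtain ⟨F, hF⟩ := exists_embedding N
  obtain ⟨F', hF'⟩ := exists_map (Q := G ⧸ N) g hg
  exact ⟨RegularWreathProduct M (G ⧸ N), inferInstance, inferInstance, isMGroup_wreath hp hM,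
    F'.comp F, hF'.comp hF⟩

/-- Every finite solvable group is isomorphic to a subgroup of a finite M-group, a group each of whose irreducible characters is induced from a homomorphism of some subgroup into ℂˣ. -/
theorem result {G : Type u} [Group G] [Finite G] (hsolv : Group.IsSolvable G) : ∃ (M : Type u) (_ : Group M) (_ : Fintype M), (∀ χ : M → ℂ, Cfsg.IsIrrCharacter M χ → (∃ (H : Subgroup M) (lam : ↥H →* ℂˣ), χ = Cfsg.indFun H (fun h => (lam h : ℂ)))) ∧ ∃ f : G →* M, Function.Injective f := by
  exact exists_mgroup (Nat.card G) G rfl hsolv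

end Cfsg.Agent.S4573
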