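import Cfsg.Statements.S4574
import Cfsg.Agent.Blocks.ZeroCounting
-- import your own Cfsg.Agent.* helpers here

set_option autoImplicit false
open Cfsg

namespace Cfsg.Agent.S4574

set_option linter.unusedSectionVars false

open Cfsg.Lib.Chars Cfsg.Lib.Blocks

/-- Let χ be an irreducible character of the finite group G, of degree d, and let Z(χ) be the set of elements g with |χ g| = d (the centre of χ). Then χ vanishes on at least (d ^ 2 - 1) · |Z(χ)| elements of G, with equality when every value |χ g| is 0, 1 or d. -/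
theorem result {G : Type*} [Group G] [Fintype G] [DecidableEq G] (χ : G → ℂ) (hχ : Cfsg.IsIrrCharacter G χ) : (Cfsg.charDegree χ ^ 2 - 1) * (Finset.univ.filter (fun g : G => ‖χ g‖ = (Cfsg.charDegree χ : ℝ))).card ≤ (Finset.univ.filter (fun g : G => χ g = 0)).card ∧ ((∀ g : G, ‖χ g‖ = 0 ∨ ‖χ g‖ = 1 ∨ ‖χ g‖ = (Cfsg.charDegree χ : ℝ)) → (Cfsg.charDegree χ ^ 2 - 1) * (Finset.univ.filter (fun g : G => ‖χ g‖ = (Cfsg.charDegree χ : ℝ))).card = (Finset.univ.filter (fun g : G => χ g = 0)).card) := by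
  classical
  set d := Cfsg.charDegree χ with hd
  have hc := isCharacter_of_irr hχ
  set A := Finset.univ.filter (fun g : G => ‖χ g‖ = (d : ℝ)) with hA
  set V := Finset.univ.filter (fun g : G => χ g = 0) with hV
  set R := Finset.univ.filter (fun g : G => ¬ ‖χ g‖ = (d : ℝ) ∧ χ g ≠ 0) with hR
  have hd1 : 1 ≤ d := deg_irr_pos ⟨χ, hχ⟩
  have hdR : (d : ℝ) ≠ 0 := by exact_mod_cast (Nat.pos_iff_ne_zero.1 hd1)
  have hAV : Disjoint A V := Finset.disjoint_filter.2 fun g _ h1 h2 => hdR (by rw [← h1, h2, norm_zero])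
  have hAVR : Disjoint (A ∪ V) R := by
    rw [Finset.disjoint_union_left]
    exact ⟨Finset.disjoint_filter.2 fun g _ h1 h2 => h2.1 h1,
      Finset.disjoint_filter.2 fun g _ h1 h2 => h2.2 h1⟩
  have huniv : A ∪ V ∪ R = Finset.univ := by
    ext g
    simp only [hA, hV, hR, Finset.mem_union, Finset.mem_filter, Finset.mem_univ, true_and, iff_true]
    tauto
  have hcard : (Nat.card G : ℝ) = A.card + V.card + R.card := by
    rw [Nat.card_eq_fintype_card, ← Finset.card_univ, ← huniv, Finset.card_union_of_disjoint hAVR,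
      Finset.card_union_of_disjoint hAV]
    push_cast; ring
  have hsum : (Nat.card G : ℝ) = (d : ℝ) ^ 2 * A.card + ∑ g ∈ R, ‖χ g‖ ^ 2 := by
    rw [← sum_norm_sq_eq_card hχ, ← huniv, Finset.sum_union hAVR, Finset.sum_union hAV,
      Finset.sum_eq_zero (s := V) (fun g hg => by
        rw [(Finset.mem_filter.1 hg).2, norm_zero, zero_pow two_ne_zero]), add_zero,
      Finset.sum_congr rfl (fun g (hg : g ∈ A) => by rw [(Finset.mem_filter.1 hg).2]),
      Finset.sum_const, nsmul_eq_mul, mul_comm]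
  have hd2 : ((d ^ 2 - 1 : ℕ) : ℝ) = (d : ℝ) ^ 2 - 1 := by
    rw [Nat.cast_sub (Nat.one_le_pow 2 d hd1)]; push_cast; ring
  have hle : (R.card : ℝ) ≤ ∑ g ∈ R, ‖χ g‖ ^ 2 := by
    refine card_le_sum_norm_sq hc R (fun g hg k hk => ?_) fun g hg => (Finset.mem_filter.1 hg).2.2
    simp only [hR, Finset.mem_filter, Finset.mem_univ, true_and] at hg ⊢
    exact ⟨fun h => hg.1 ((norm_apply_pow_eq_iff hc hk g d).1 h),
      fun h => hg.2 ((apply_pow_eq_zero_iff hc hk g).1 h)⟩
  refine ⟨?_, fun hall => ?_⟩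
  · rw [← Nat.cast_le (α := ℝ), Nat.cast_mul, hd2]
    linarith
  · rw [← Nat.cast_inj (R := ℝ), Nat.cast_mul, hd2]
    have heq : ∑ g ∈ R, ‖χ g‖ ^ 2 = (R.card : ℝ) := by
      rw [Finset.sum_congr rfl (g := fun _ => (1 : ℝ)) fun g hg => ?_]
      · simp
      · simp only [hR, Finset.mem_filter, Finset.mem_univ, true_and] at hg
        rcases hall g with h | h | h
        · exact absurd (norm_eq_zero.1 h) hg.2
        · rw [h, one_pow]
        · exact absurd h hg.1
    linarith

end Cfsg.Agent.S4574
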