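import Cfsg.Statements.S4575
import Cfsg.Agent.Blocks.ContributionAverage
import Cfsg.Agent.Blocks.InducedDefect
import Cfsg.Agent.Blocks.DefectTwo
-- import your own Cfsg.Agent.* helpers here

set_option autoImplicit false
open Cfsg

namespace Cfsg.Agent.S4575

set_option linter.unusedSectionVars false

open Cfsg.Lib.Blocks

/-- Both counts from the core inequality. -/
theorem count_bounds {G : Type*} [Group G] [Fintype G] {M : Ideal Cfsg.AlgInt} {x : G}
    {H : Subgroup G} [Fintype H] (hM : Cfsg.IsPModular 2 M) (hx : ∃ k : ℕ, orderOf x = 2 ^ k)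
    (hH : H = Subgroup.centralizer (Subgroup.zpowers x : Set G))
    {b : Set (Cfsg.IrrCharacter H)} {B : Set (Cfsg.IrrCharacter G)}
    (hind : Cfsg.IsInducedBlock M H b B) (hdef : Cfsg.blockDefect 2 b = Cfsg.blockDefect 2 B) :
    (3 * Nat.card B ≤ 3 * Nat.card {χ : Cfsg.IrrCharacter G // χ ∈ B ∧
        Cfsg.blockHeight 2 B (χ : G → ℂ) = 0} + 2 * (∑ᶠ χ ∈ {χ : Cfsg.IrrCharacter G |
        χ ∈ B ∧ 1 ≤ Cfsg.blockHeight 2 B (χ : G → ℂ)}, 2 ^ Cfsg.blockHeight 2 B (χ : G → ℂ))) ∧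
    (Cfsg.blockRank 2 b ≤ 3 ∨ Nat.card B ≤ Cfsg.blockRank 2 b + 3 →
      3 * Nat.card {χ : Cfsg.IrrCharacter G // χ ∈ B ∧
        Cfsg.blockHeight 2 B (χ : G → ℂ) = 0} + 2 * (∑ᶠ χ ∈ {χ : Cfsg.IrrCharacter G |
        χ ∈ B ∧ 1 ≤ Cfsg.blockHeight 2 B (χ : G → ℂ)}, 2 ^ Cfsg.blockHeight 2 B (χ : G → ℂ)) ≤
      3 * 2 ^ Cfsg.blockDefect 2 B) := by
  classical
  set T := Finset.univ.filter (fun χ : Cfsg.IrrCharacter G => χ ∈ B ∧
    Cfsg.blockHeight 2 B (χ : G → ℂ) ≠ 0) with hT
  have hsum : (∑ᶠ χ ∈ {χ : Cfsg.IrrCharacter G | χ ∈ B ∧ 1 ≤ Cfsg.blockHeight 2 B (χ : G → ℂ)},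
      2 ^ Cfsg.blockHeight 2 B (χ : G → ℂ)) = ∑ χ ∈ T, 2 ^ Cfsg.blockHeight 2 B (χ : G → ℂ) := by
    rw [← finsum_mem_coe_finset]
    congr!
    simp [hT, Nat.one_le_iff_ne_zero]
  have hk0 : Nat.card {χ : Cfsg.IrrCharacter G // χ ∈ B ∧
      Cfsg.blockHeight 2 B (χ : G → ℂ) = 0} = (Finset.univ.filter fun χ : Cfsg.IrrCharacter G =>
        χ ∈ B ∧ Cfsg.blockHeight 2 B (χ : G → ℂ) = 0).card := by
    rw [Nat.card_eq_fintype_card]; exact Fintype.card_subtype _
  rw [hsum, hk0]
  refine ⟨?_, fun hl => ?_⟩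
  · have hk : Nat.card B = (Finset.univ.filter fun χ : Cfsg.IrrCharacter G => χ ∈ B ∧
        Cfsg.blockHeight 2 B (χ : G → ℂ) = 0).card + T.card := by
      rw [Nat.card_eq_fintype_card, show Fintype.card B =
        (Finset.univ.filter fun χ : Cfsg.IrrCharacter G => χ ∈ B).card from Fintype.card_subtype _,
        ← Finset.card_filter_add_card_filter_not
          (p := fun χ : Cfsg.IrrCharacter G => Cfsg.blockHeight 2 B (χ : G → ℂ) = 0),
        Finset.filter_filter, Finset.filter_filter, hT]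
    rw [hk, Nat.mul_add, Finset.card_eq_sum_ones T, Finset.mul_sum, Finset.mul_sum]
    refine Nat.add_le_add_left (Finset.sum_le_sum fun χ hχ => ?_) _
    have h2 : 2 ≤ 2 ^ Cfsg.blockHeight 2 B (χ : G → ℂ) := by
      calc 2 = 2 ^ 1 := rfl
        _ ≤ _ := Nat.pow_le_pow_right two_pos (Nat.pos_of_ne_zero (Finset.mem_filter.1 hχ).2.2)
    omega
  · have h := three_mul_count_le hM hx hH hind hdef hl
    exact_mod_cast h

/-- Let B be a 2-block of the finite group G (relative to a maximal ideal M of the algebraic integers containing 2) of defect d with defect group D. Let z be an element of D commuting with every element of D, and let b be a block of the centralizer of z with defect group D that induces B (a major subsection (z, b)). If the number of irreducible characters in B exceeds the 2-regular rank of b by at most three, then B contains at most 2 ^ d irreducible characters. -/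
theorem result {G : Type*} [Group G] [Finite G] (M : Ideal Cfsg.AlgInt) (hM : Cfsg.IsPModular 2 M) (B : Set (Cfsg.IrrCharacter G)) (hB : Cfsg.IsPBlock M B) (D : Subgroup G) (hD : Cfsg.IsDefectGroup 2 M B D) (z : G) (hzD : z ∈ D) (hzc : ∀ d ∈ D, d * z = z * d) (b : Set (Cfsg.IrrCharacter ↥(Subgroup.centralizer ({z} : Set G)))) (hb : Cfsg.IsInducedBlock M (Subgroup.centralizer ({z} : Set G)) b B) (hbD : Cfsg.IsDefectGroup 2 M b (D.subgroupOf (Subgroup.centralizer ({z} : Set G)))) (h : Nat.card B ≤ Cfsg.blockRank 2 b + 3) : Nat.card B ≤ 2 ^ Cfsg.blockDefect 2 B := by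
  classical
  haveI := Fintype.ofFinite G
  haveI := Fintype.ofFinite (Subgroup.centralizer ({z} : Set G))
  haveI := Fact.mk Nat.prime_two
  have hle : D ≤ Subgroup.centralizer ({z} : Set G) := fun e he => by
    rw [Subgroup.mem_centralizer_singleton_iff]
    exact hzc e he
  have hz : ∃ k : ℕ, orderOf z = 2 ^ k :=
    exists_orderOf_eq_of_mem hM.1 (IsDefectGroup.isPGroup hD) hzD
  have hdef : Cfsg.blockDefect 2 b = Cfsg.blockDefect 2 B := by
    refine Nat.pow_right_injective hM.1.two_le ?_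
    show 2 ^ Cfsg.blockDefect 2 b = 2 ^ Cfsg.blockDefect 2 B
    rw [← IsDefectGroup.card hM hb.1 hbD, ← IsDefectGroup.card hM hB hD]
    exact Nat.card_congr (Subgroup.subgroupOfEquivOfLe hle).toEquiv
  obtain ⟨e1, e2⟩ := count_bounds hM hz (centralizer_zpowers z).symm hb hdef
  have h1 := e1.trans (e2 (Or.inr h))
  omega

end Cfsg.Agent.S4575
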