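import Cfsg.Statements.S4581
import Cfsg.Agent.Chars.RealOddSolvable
import Cfsg.Agent.Chars.DegreeTools
-- import your own Cfsg.Agent.* helpers here

set_option autoImplicit false
open Cfsg

namespace Cfsg.Agent.S4581

/-- Let G be a finite solvable group, P a Sylow 2-subgroup and N its normalizer. Then G and N have the same number of real-valued irreducible characters of odd degree; and every odd-degree irreducible character of G is real-valued exactly when the derived subgroup of P equals the Frattini subgroup of P and P is its own normalizer in G. -/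
theorem result {G : Type*} [Group G] [Finite G] [Group.IsSolvable G] (P : Sylow 2 G) :
    Nat.card {χ : Cfsg.IrrCharacter G // (∀ g : G, ((χ : G → ℂ) g).im = 0) ∧ Odd (Cfsg.charDegree (χ : G → ℂ))} =
      Nat.card {ψ : Cfsg.IrrCharacter (Subgroup.normalizer ((P : Subgroup G) : Set G)) // (∀ g, ((ψ : Subgroup.normalizer ((P : Subgroup G) : Set G) → ℂ) g).im = 0) ∧ Odd (Cfsg.charDegree (ψ : Subgroup.normalizer ((P : Subgroup G) : Set G) → ℂ))} ∧
    ((∀ χ : Cfsg.IrrCharacter G, Odd (Cfsg.charDegree (χ : G → ℂ)) → ∀ g : G, ((χ : G → ℂ) g).im = 0) ↔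
      (commutator (P : Subgroup G) = frattini (P : Subgroup G) ∧ Subgroup.normalizer ((P : Subgroup G) : Set G) = (P : Subgroup G))) := by
  letI := Fintype.ofFinite G
  haveI := Fact.mk Nat.prime_two
  classical
  letI : Fintype ↥(Subgroup.normalizer ((P : Subgroup G) : Set G)) := Fintype.ofFinite _
  refine ⟨?_, ?_⟩
  · refine Eq.trans ?_ ((Cfsg.Lib.Chars.RealOdd.numRealOdd_eq_normalizer _ G rfl inferInstance P).trans ?_)
    · refine Nat.card_congr (Equiv.subtypeEquivRight fun χ => ?_)
      rw [Cfsg.Lib.Chars.charDegree_eq_deg χ.2]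
    · refine Nat.card_congr (Equiv.subtypeEquivRight fun χ => ?_)
      rw [Cfsg.Lib.Chars.charDegree_eq_deg χ.2]
  · rw [← Cfsg.Lib.Chars.RealOdd.sqTriv_iff P.2]
    refine Iff.trans ?_ (Cfsg.Lib.Chars.RealOdd.allReal_iff _ G rfl inferInstance P)
    refine forall_congr' fun χ => ?_
    rw [Cfsg.Lib.Chars.charDegree_eq_deg χ.2]
    rfl

end Cfsg.Agent.S4581
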