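import Cfsg.Statements.S4582
import Mathlib
-- import your own Cfsg.Agent.* helpers here

set_option autoImplicit false
open Cfsg
open scoped commutatorElement

namespace Cfsg.Agent.S4582

set_option linter.unusedSectionVars false

/-- Let N be a normal subgroup of the finite group G, P a Sylow 2-subgroup of G and Q = P ∩ N. Suppose that P/QP' and Q/Q' are elementary abelian (every square of an element of P lies in the subgroup generated by Q and the derived subgroup of P, and every square of an element of Q lies in the derived subgroup of Q), and that the commutator factor group N/N' has odd order. Then P/P' is elementary abelian. -/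
theorem result {G : Type*} [Group G] [Finite G] (N : Subgroup G) [N.Normal] (P : Sylow 2 G)
    (hP : ∀ x ∈ (P : Subgroup G), x ^ 2 ∈ ((P : Subgroup G) ⊓ N) ⊔ ⁅(P : Subgroup G), (P : Subgroup G)⁆)
    (hQ : ∀ x ∈ (P : Subgroup G) ⊓ N, x ^ 2 ∈ ⁅(P : Subgroup G) ⊓ N, (P : Subgroup G) ⊓ N⁆)
    (hodd : Odd (Nat.card (Abelianization N))) :
    ∀ x ∈ (P : Subgroup G), x ^ 2 ∈ ⁅(P : Subgroup G), (P : Subgroup G)⁆ := by
  intro x hx
  classical
  set H : Subgroup G := N ⊔ (P : Subgroup G) with hH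
  have hNH : N ≤ H := le_sup_left
  have hPH : (P : Subgroup G) ≤ H := le_sup_right
  set e := Subgroup.subgroupOfEquivOfLe hPH with he
  set a : ↥(P : Subgroup G) →* Abelianization ↥(P : Subgroup G) := Abelianization.of with ha
  set φ : ↥((P : Subgroup G).subgroupOf H) →* Abelianization ↥(P : Subgroup G) :=
    a.comp e.toMonoidHom with hφ
  set V := MonoidHom.transfer φ with hV
  have hA : IsPGroup 2 (Abelianization ↥(P : Subgroup G)) :=
    P.isPGroup'.of_surjective Abelianization.of QuotientGroup.mk_surjective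
  have hVN : ∀ (n : G) (hn : n ∈ N), V ⟨n, hNH hn⟩ = 1 := by
    intro n hn
    set f := V.comp (Subgroup.inclusion hNH)
    have hf : f ⟨n, hn⟩ = Abelianization.lift f (Abelianization.of ⟨n, hn⟩) :=
      (Abelianization.lift_apply_of f ⟨n, hn⟩).symm
    show f ⟨n, hn⟩ = 1
    obtain ⟨k, hk⟩ := IsPGroup.iff_orderOf.1 hA (f ⟨n, hn⟩)
    have hd : orderOf (f ⟨n, hn⟩) ∣ Nat.card (Abelianization N) := by
      rw [hf]; exact (orderOf_map_dvd _ _).trans (orderOf_dvd_natCard _)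
    rw [hk] at hd
    rcases Nat.eq_zero_or_pos k with h0 | h0
    · rwa [h0, pow_zero, orderOf_eq_one_iff] at hk
    · exact absurd (hodd.of_dvd_nat hd) (by
        rw [Nat.not_odd_iff_even]; exact even_two.pow_of_ne_zero h0.ne')
  set K : Subgroup G := V.ker.map H.subtype with hK
  have hKN : N ≤ K := fun n hn => ⟨⟨n, hNH hn⟩, hVN n hn, rfl⟩
  have hKP : ⁅(P : Subgroup G), (P : Subgroup G)⁆ ≤ K := Subgroup.commutator_le.2 fun y hy z hz =>
    ⟨⁅(⟨y, hPH hy⟩ : H), ⟨z, hPH hz⟩⁆, by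
      rw [SetLike.mem_coe, MonoidHom.mem_ker, map_commutatorElement,
        commutatorElement_eq_one_iff_mul_comm, mul_comm], by rw [map_commutatorElement]; rfl⟩
  have hV2 : V (⟨x, hPH hx⟩ : H) ^ 2 = 1 := by
    obtain ⟨y, hy, hy2⟩ := (sup_le (inf_le_right.trans hKN) hKP) (hP x hx)
    rw [← map_pow, show (⟨x, hPH hx⟩ : H) ^ 2 = y from Subtype.ext hy2.symm]
    exact hy
  -- the transfer of an element of `P`
  haveI : Fintype (Quotient (MulAction.orbitRel (Subgroup.zpowers (⟨x, hPH hx⟩ : H))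
      (H ⧸ (P : Subgroup G).subgroupOf H))) := Fintype.ofFinite _
  have hQa : ∀ (q : ↥(P : Subgroup G)), (q : G) ∈ N → a q ^ 2 = 1 := by
    intro q hq
    rw [← map_pow]
    refine (QuotientGroup.eq_one_iff _).2 ?_
    show q ^ 2 ∈ commutator _
    have h := Subgroup.commutator_mono inf_le_left inf_le_left (hQ q ⟨q.2, hq⟩)
    rw [← Subgroup.map_subtype_commutator] at h
    obtain ⟨w, hw, hweq⟩ := h
    rwa [show q ^ 2 = w from Subtype.ext hweq.symm]
  have hterm : ∀ (k : ℕ) (t : H) (hk : t⁻¹ * (⟨x, hPH hx⟩ : H) ^ k * t ∈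
      (P : Subgroup G).subgroupOf H), φ ⟨_, hk⟩ ^ 2 = a ⟨x, hx⟩ ^ (2 * k) := by
    intro k t hk
    have hkP : (t : G)⁻¹ * x ^ k * t ∈ (P : Subgroup G) := hk
    obtain ⟨n, hn, q, hq, htnq⟩ := Subgroup.mem_sup_of_normal_left.1 (show (t : G) ∈ N ⊔ (P : Subgroup G) from t.2)
    have htnq' : n * q = t := htnq
    have hmid : n⁻¹ * x ^ k * n ∈ (P : Subgroup G) := by
      have := Subgroup.mul_mem _ (Subgroup.mul_mem _ hq hkP) (Subgroup.inv_mem _ hq)
      rwa [← htnq', show q * ((n * q)⁻¹ * x ^ k * (n * q)) * q⁻¹ = n⁻¹ * x ^ k * n by group] at this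
    have hr : (x ^ k)⁻¹ * (n⁻¹ * x ^ k * n) ∈ (P : Subgroup G) :=
      Subgroup.mul_mem _ (Subgroup.inv_mem _ (Subgroup.pow_mem _ hx k)) hmid
    have hrN : (x ^ k)⁻¹ * (n⁻¹ * x ^ k * n) ∈ N := by
      rw [show (x ^ k)⁻¹ * (n⁻¹ * x ^ k * n) = ((x ^ k)⁻¹ * n⁻¹ * x ^ k) * n by group]
      exact N.mul_mem (by
        have h1 := Subgroup.Normal.conj_mem inferInstance _ (N.inv_mem hn) (x ^ k)⁻¹
        rwa [inv_inv] at h1) hn
    have heq : (e ⟨_, hk⟩ : ↥(P : Subgroup G)) =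
        (⟨q, hq⟩ : ↥(P : Subgroup G))⁻¹ * (⟨x, hx⟩ ^ k * ⟨_, hr⟩) * ⟨q, hq⟩ := by
      apply Subtype.ext
      show (t : G)⁻¹ * x ^ k * t = q⁻¹ * (x ^ k * ((x ^ k)⁻¹ * (n⁻¹ * x ^ k * n))) * q
      rw [← htnq']; group
    show a (e ⟨_, hk⟩) ^ 2 = _
    rw [heq, map_mul, map_mul, map_mul, map_inv, map_pow, mul_comm (a ⟨q, hq⟩)⁻¹, inv_mul_cancel_right,
      mul_pow, hQa _ hrN, mul_one, ← pow_mul, mul_comm]
  haveI : ((P : Subgroup G).subgroupOf H).FiniteIndex := inferInstance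
  have hkey : a ⟨x, hx⟩ ^ (2 * ((P : Subgroup G).subgroupOf H).index) = 1 := by
    rw [← hV2, hV, MonoidHom.transfer_eq_prod_quotient_orbitRel_zpowers_quot, ← Finset.prod_pow,
      Subgroup.index_eq_sum_minimalPeriod _ (⟨x, hPH hx⟩ : H), Finset.mul_sum,
      ← Finset.prod_pow_eq_pow_sum]
    exact Finset.prod_congr rfl fun q _ => (hterm _ _ _).symm
  have hind : ¬ 2 ∣ ((P : Subgroup G).subgroupOf H).index := fun h =>
    P.not_dvd_index (h.trans (Subgroup.relIndex_dvd_index_of_le hPH))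
  rw [pow_mul] at hkey
  obtain ⟨k, hk⟩ := IsPGroup.iff_orderOf.1 hA (a ⟨x, hx⟩ ^ 2)
  have h1 : orderOf (a ⟨x, hx⟩ ^ 2) = 1 := by
    refine Nat.eq_one_of_dvd_coprimes (Nat.Coprime.pow_left k
      (Nat.prime_two.coprime_iff_not_dvd.2 hind)) (hk ▸ dvd_rfl) (orderOf_dvd_of_pow_eq_one hkey)
  rw [orderOf_eq_one_iff, ← map_pow] at h1
  rw [← Subgroup.map_subtype_commutator]
  exact ⟨_, (QuotientGroup.eq_one_iff _).1 h1, rfl⟩

end Cfsg.Agent.S4582
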