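import Cfsg.Statements.S4584
import Cfsg.Agent.Blocks.SmallPGroup
import Cfsg.Agent.PGroups.Basic
-- import your own Cfsg.Agent.* helpers here

set_option autoImplicit false
open Cfsg

namespace Cfsg.Agent.S4584

set_option linter.unusedSectionVars false

open Cfsg.Lib.Blocks Cfsg.Lib.PGroups

/-- Let p be a prime and P a group of order p^4. Then the derived subgroup P' has order p if and only if the centre Z(P) has index p^2 in P. -/
theorem result {P : Type*} [Group P] [Finite P] (p : ℕ) [Fact p.Prime] (hP : Nat.card P = p ^ 4) :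
    Nat.card (commutator P) = p ↔ (Subgroup.center P).index = p ^ 2 := by
  have hp : p.Prime := Fact.out
  have hPp : IsPGroup p P := IsPGroup.of_card hP
  have hnt : Nontrivial P := Finite.one_lt_card_iff_nontrivial.1 (hP ▸ Nat.one_lt_pow (by norm_num) hp.one_lt)
  constructor
  · intro h
    have hle : commutator P ≤ Subgroup.center P := le_center_of_card_eq_prime hPp h
    obtain ⟨a, ha, hC⟩ := exists_index_centralizer_of_commutator h hle
    have hz : p ∣ Nat.card (Subgroup.center P) := h ▸ Subgroup.card_dvd_of_le hle
    have h1 := card_commutator_mul_card_center hP ha hC hz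
    rw [h] at h1
    have h2 : Nat.card (Subgroup.center P) = p ^ 2 :=
      Nat.eq_of_mul_eq_mul_left hp.pos (h1.trans (by ring))
    refine Nat.eq_of_mul_eq_mul_left (pow_pos hp.pos 2) ?_
    conv_lhs => rw [← h2, Subgroup.card_mul_index, hP]
    ring
  · intro h
    have h2 : Nat.card (Subgroup.center P) = p ^ 2 := by
      refine Nat.eq_of_mul_eq_mul_right (pow_pos hp.pos 2) ?_
      conv_lhs => rw [← h, Subgroup.card_mul_index, hP]
      ring
    have hna : Subgroup.center P ≠ ⊤ := fun ht => by
      rw [ht, Subgroup.index_top] at h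
      exact (Nat.one_lt_pow (by norm_num) hp.one_lt).ne h
    obtain ⟨a, ha, hC⟩ := exists_index_centralizer_of_center hP hna (h2 ▸ dvd_rfl)
    have h1 := card_commutator_mul_card_center hP ha hC (h2 ▸ dvd_pow_self p (by norm_num))
    rw [h2] at h1
    exact Nat.eq_of_mul_eq_mul_right (pow_pos hp.pos 2) (h1.trans (by ring))

end Cfsg.Agent.S4584
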