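import Cfsg.Statements.S4585
import Cfsg.Agent.Blocks.SmallPGroup
import Cfsg.Agent.PGroups.Basic
-- import your own Cfsg.Agent.* helpers here

set_option autoImplicit false
open Cfsg

namespace Cfsg.Agent.S4585

set_option linter.unusedSectionVars false

open Cfsg.Lib.Blocks Cfsg.Lib.PGroups
open scoped commutatorElement

/-- Let p be a prime and P a group of order p^4. Then P' has index p^2 in P if and only if P has maximal nilpotency class, that is, nilpotency class exactly 3. -/
theorem result {P : Type*} [Group P] [Finite P] (p : ℕ) [Fact p.Prime] (hP : Nat.card P = p ^ 4) :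
    (commutator P).index = p ^ 2 ↔ Group.nilpotencyClass P = 3 := by
  classical
  have hp : p.Prime := Fact.out
  have hPp : IsPGroup p P := IsPGroup.of_card hP
  haveI hnil : Group.IsNilpotent P := hPp.isNilpotent
  let L : ℕ → Subgroup P := fun n => (⊤ : Subgroup P).lowerCentralSeries n
  have hL1 : L 1 = commutator P := Subgroup.top_lowerCentralSeries_one
  have hLs : ∀ n, L (n + 1) = ⁅L n, (⊤ : Subgroup P)⁆ := fun n => Subgroup.lowerCentralSeries_succ _ n
  have hstab : ∀ n, L (n + 1) = L n → L n = ⊥ := by
    intro n h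
    have hall : ∀ m, L (n + m) = L n := by
      intro m
      induction m with
      | zero => rfl
      | succ m ih => rw [← add_assoc, hLs, ih, ← hLs, h]
    obtain ⟨N, hN⟩ := Subgroup.nilpotent_iff_lowerCentralSeries.1 hnil
    rw [← hall N]
    exact le_bot_iff.1 ((Subgroup.lowerCentralSeries_antitone _ (Nat.le_add_left N n)).trans hN.le)
  have hcen : ∀ n, L n ≤ Subgroup.center P → L (n + 1) = ⊥ := fun n h =>
    Subgroup.lowerCentralSeries_succ_eq_bot _ h
  have hindex : (commutator P).index = p ^ 2 ↔ Nat.card (commutator P) = p ^ 2 := by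
    have h1 := (commutator P).card_mul_index
    rw [hP] at h1
    constructor
    · intro h
      rw [h] at h1
      exact Nat.eq_of_mul_eq_mul_right (pow_pos hp.pos 2) (h1.trans (by ring))
    · intro h
      rw [h] at h1
      exact Nat.eq_of_mul_eq_mul_left (pow_pos hp.pos 2) (h1.trans (by ring))
  rw [hindex]
  obtain ⟨k, hk⟩ := (hPp.to_subgroup (commutator P)).exists_card_eq
  constructor
  · intro h
    have hnle : ¬ commutator P ≤ Subgroup.center P := by
      intro hle
      have hz : p ^ 2 ∣ Nat.card (Subgroup.center P) := h ▸ Subgroup.card_dvd_of_le hle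
      have hna : Subgroup.center P ≠ ⊤ := by
        intro ht
        have : commutator P = ⊥ := by
          rw [commutator_def, eq_bot_iff, Subgroup.commutator_le]
          intro u _ v _
          rw [Subgroup.mem_bot, commutatorElement_eq_one_iff_mul_comm]
          exact Subgroup.mem_center_iff.1 (ht ▸ Subgroup.mem_top v) u
        rw [this, Subgroup.card_bot] at h
        exact (Nat.one_lt_pow (by norm_num) hp.one_lt).ne h
      obtain ⟨a, ha, hC⟩ := exists_index_centralizer_of_center hP hna hz
      have h1 := card_commutator_mul_card_center hP ha hC ((dvd_pow_self p (by norm_num)).trans hz)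
      rw [h] at h1
      obtain ⟨w, hw⟩ := hz
      rw [hw] at h1
      have : p ^ 4 * w = p ^ 3 := by rw [← h1]; ring
      have h4 : p ^ 4 ∣ p ^ 3 := ⟨w, this.symm⟩
      exact absurd ((Nat.pow_dvd_pow_iff_le_right hp.one_lt).1 h4) (by norm_num)
    have h2ne : L 2 ≠ ⊥ := by
      intro hb
      refine hnle fun u hu => ?_
      rw [Subgroup.mem_center_iff]
      intro g
      rw [hLs 1, hL1, eq_bot_iff, Subgroup.commutator_le] at hb
      exact (commutatorElement_eq_one_iff_mul_comm.1 (Subgroup.mem_bot.1 (hb u hu g (Subgroup.mem_top g)))).symm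
    have h21 : L 2 ≤ L 1 := Subgroup.lowerCentralSeries_antitone _ (by norm_num)
    obtain ⟨j, hj⟩ := (hPp.to_subgroup (L 2)).exists_card_eq
    have hj1 : Nat.card (L 1) = p ^ 2 := by rw [hL1]; exact h
    have hjle : j ≤ 2 := (Nat.pow_dvd_pow_iff_le_right hp.one_lt).1 (by
      rw [← hj, ← hj1]; exact Subgroup.card_dvd_of_le h21)
    have hj2 : j ≠ 2 := fun he => by
      subst he
      have := Subgroup.eq_of_le_of_card_ge h21 (by rw [hj, hj1])
      exact h2ne (this.trans (hstab 1 this))
    have h3 : L 3 = ⊥ := by
      rcases Nat.eq_zero_or_pos j with rfl | hpos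
      · exact absurd (Subgroup.eq_bot_of_card_eq _ (by rw [hj, pow_zero])) h2ne
      · obtain rfl : j = 1 := by omega
        haveI : (L 2).Normal := inferInstance
        exact hcen 2 (le_center_of_card_eq_prime hPp (by rw [hj, pow_one]))
    apply le_antisymm
    · exact Subgroup.lowerCentralSeries_eq_bot_iff_nilpotencyClass_le.1 h3
    · by_contra hlt
      exact h2ne (Subgroup.lowerCentralSeries_eq_bot_iff_nilpotencyClass_le.2 (by omega))
  · intro hcl
    have h2ne : L 2 ≠ ⊥ := fun hb => by
      have := Subgroup.lowerCentralSeries_eq_bot_iff_nilpotencyClass_le.1 hb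
      omega
    have h1ne : L 1 ≠ ⊥ := fun hb => h2ne (le_bot_iff.1
      ((Subgroup.lowerCentralSeries_antitone _ (by norm_num)).trans hb.le))
    have hk0 : k ≠ 0 := fun he => h1ne (by
      rw [hL1]; exact Subgroup.eq_bot_of_card_eq _ (by rw [hk, he, pow_zero]))
    have hk1 : k ≠ 1 := fun he => h2ne (hcen 1 (by
      rw [hL1]; exact le_center_of_card_eq_prime hPp (by rw [hk, he, pow_one])))
    have hk4 : k ≤ 4 := (Nat.pow_dvd_pow_iff_le_right hp.one_lt).1
      (hk ▸ hP ▸ Subgroup.card_subgroup_dvd_card (commutator P))
    have hk4' : k ≠ 4 := fun he => h1ne (by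
      have htop : commutator P = ⊤ := Subgroup.eq_top_of_card_eq _ (by rw [hk, he, hP])
      have h01 : L 1 = L 0 := by rw [hL1, htop]; rfl
      rw [h01]; exact hstab 0 h01)
    have hk3 : k ≠ 3 := fun he => by
      subst he
      have hidx : (commutator P).index = p := by
        refine Nat.eq_of_mul_eq_mul_left (pow_pos hp.pos 3) ?_
        conv_lhs => rw [← hk, Subgroup.card_mul_index, hP]
        ring
      obtain ⟨x, -, hx⟩ : ∃ x ∈ (⊤ : Subgroup P), x ∉ commutator P :=
        SetLike.exists_of_lt (lt_top_iff_ne_top.2 fun ht => by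
          rw [ht, Subgroup.index_top] at hidx; exact hp.one_lt.ne hidx)
      have htop : Subgroup.zpowers x = ⊤ := by
        by_contra hne
        obtain ⟨M, hM, hxM⟩ := (eq_top_or_exists_le_coatom (Subgroup.zpowers x)).resolve_left hne
        obtain ⟨hMn, hMi⟩ := coatom_normal_index hPp hM
        haveI := hMn
        have hcle : commutator P ≤ M := by
          haveI : IsCyclic (P ⧸ M) := isCyclic_of_prime_card (p := p)
            (by rw [← Subgroup.index_eq_card, hMi])
          exact Subgroup.Normal.quotient_commutative_iff_commutator_le.1 inferInstance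
        have heq : commutator P = M := Subgroup.eq_of_le_of_card_ge hcle (le_of_eq (by
          refine Nat.eq_of_mul_eq_mul_right hp.pos ?_
          conv_lhs => rw [← hMi, Subgroup.card_mul_index]
          conv_rhs => rw [← hidx, Subgroup.card_mul_index]))
        exact hx (heq ▸ hxM (Subgroup.mem_zpowers x))
      refine h1ne ?_
      rw [hL1, commutator_def, eq_bot_iff, Subgroup.commutator_le]
      intro u _ v _
      rw [Subgroup.mem_bot, commutatorElement_eq_one_iff_mul_comm]
      obtain ⟨i, rfl⟩ := Subgroup.mem_zpowers_iff.1 (htop ▸ Subgroup.mem_top u : u ∈ Subgroup.zpowers x)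
      obtain ⟨j, rfl⟩ := Subgroup.mem_zpowers_iff.1 (htop ▸ Subgroup.mem_top v : v ∈ Subgroup.zpowers x)
      exact zpow_mul_comm x i j
    rw [hk]
    congr 1
    omega

end Cfsg.Agent.S4585
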