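import Cfsg.Statements.S4586
import Cfsg.Agent.Blocks.SmallPGroup
import Cfsg.Agent.PGroups.Basic
-- import your own Cfsg.Agent.* helpers here

set_option autoImplicit false
open Cfsg

namespace Cfsg.Agent.S4586

set_option linter.unusedSectionVars false

open Cfsg.Lib.Blocks Cfsg.Lib.PGroups
open scoped commutatorElement

/-- Let p be a prime, P a finite p-group and N a normal subgroup of P of index p. For x ∈ P write c(x) for the number of elements n of N whose commutator x n x⁻¹ n⁻¹ lies in the derived subgroup N' (so c(x)/#N' is the order of the centralizer of x acting on N/N'). Then [P : P'] = p² if and only if c(x) = p·#N' for every x ∈ P outside N, and also if and only if c(x) = p·#N' for some x ∈ P outside N. -/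
theorem result {P : Type*} [Group P] [Finite P] (p : ℕ) [Fact p.Prime] (hP : IsPGroup p P) (N : Subgroup P) [N.Normal] (hN : N.index = p) :
    ((commutator P).index = p ^ 2 ↔ ∀ x : P, x ∉ N →
        Nat.card {n : N // x * n * x⁻¹ * (n : P)⁻¹ ∈ (commutator N).map N.subtype} = p * Nat.card (commutator N)) ∧
    ((commutator P).index = p ^ 2 ↔ ∃ x : P, x ∉ N ∧
        Nat.card {n : N // x * n * x⁻¹ * (n : P)⁻¹ ∈ (commutator N).map N.subtype} = p * Nat.card (commutator N)) := by
  classical
  have hp : p.Prime := Fact.out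
  let N1 : Subgroup P := (commutator N).map N.subtype
  haveI hN1 : N1.Normal := by
    show ((commutator N).map N.subtype).Normal
    infer_instance
  set π := QuotientGroup.mk' N1 with hπ
  have hker : π.ker = N1 := QuotientGroup.ker_mk' N1
  have hsurj : Function.Surjective π := QuotientGroup.mk'_surjective N1
  have hN1N : N1 ≤ N := Subgroup.map_subtype_le _
  have hN1P : N1 ≤ commutator P := by
    rintro _ ⟨n, hn, rfl⟩
    have : (commutator N).map N.subtype ≤ commutator P := by
      rw [commutator_def, Subgroup.map_commutator, commutator_def]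
      exact Subgroup.commutator_mono le_top le_top
    exact this ⟨n, hn, rfl⟩
  let N' : Subgroup (P ⧸ N1) := N.map π
  haveI : N'.Normal := Subgroup.Normal.map inferInstance π hsurj
  have hN' : N'.index = p := (Subgroup.index_map_eq N hsurj (hker.le.trans hN1N)).trans hN
  have hA : ∀ a ∈ N', ∀ b ∈ N', a * b = b * a := by
    rintro _ ⟨a, ha, rfl⟩ _ ⟨b, hb, rfl⟩
    have h1 : π ⁅a, b⁆ = 1 := (QuotientGroup.eq_one_iff _).2
      ⟨⁅(⟨a, ha⟩ : N), ⟨b, hb⟩⁆, Subgroup.commutator_mem_commutator (Subgroup.mem_top _) (Subgroup.mem_top _),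
        by rw [map_commutatorElement]; rfl⟩
    rwa [map_commutatorElement, commutatorElement_eq_one_iff_mul_comm] at h1
  have key : ∀ x : P, x ∉ N → ((commutator P).index = p ^ 2 ↔
      Nat.card {n : N // x * n * x⁻¹ * (n : P)⁻¹ ∈ (commutator N).map N.subtype} =
        p * Nat.card (commutator N)) := by
    intro x hx
    have hx' : π x ∉ N' := by
      rintro ⟨n, hn, he⟩
      apply hx
      have h1 : n⁻¹ * x ∈ N1 := by
        rw [← hker, MonoidHom.mem_ker, map_mul, map_inv, he, inv_mul_cancel]
      simpa using mul_mem hn (hN1N h1)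
    have h1 := card_commutator_mul_card_centralizer N' hN' hA hx'
    have hcm : (commutator P).map π = commutator (P ⧸ N1) := by
      rw [commutator_def, Subgroup.map_commutator, Subgroup.map_top_of_surjective π hsurj, commutator_def]
    have hidx : (commutator (P ⧸ N1)).index = (commutator P).index := by
      rw [← hcm, Subgroup.index_map_eq _ hsurj (hker.le.trans hN1P)]
    have hci := (commutator (P ⧸ N1)).card_mul_index
    have hNi := N'.card_mul_index
    rw [hN'] at hNi
    rw [hidx] at hci
    -- the fibre count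
    have hfib : Nat.card {n : N // x * n * x⁻¹ * (n : P)⁻¹ ∈ N1} =
        Nat.card N1 * Nat.card {n : N' // π x * n * (π x)⁻¹ * (n : P ⧸ N1)⁻¹ = 1} := by
      let C : Subgroup N' :=
        { carrier := {n | π x * n * (π x)⁻¹ * (n : P ⧸ N1)⁻¹ = 1}
          one_mem' := by simp
          mul_mem' := fun {a b} ha hb => by
            have ha' : π x * (a : P ⧸ N1) * (π x)⁻¹ = a := mul_inv_eq_one.1 ha
            have hb' : π x * (b : P ⧸ N1) * (π x)⁻¹ = b := mul_inv_eq_one.1 hb
            refine mul_inv_eq_one.2 ?_
            calc π x * ((a * b : N') : P ⧸ N1) * (π x)⁻¹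
                = (π x * (a : P ⧸ N1) * (π x)⁻¹) * (π x * (b : P ⧸ N1) * (π x)⁻¹) := by
                  simp [mul_assoc]
              _ = _ := by rw [ha', hb', Subgroup.coe_mul]
          inv_mem' := fun {a} ha => by
            have ha' : π x * (a : P ⧸ N1) * (π x)⁻¹ = a := mul_inv_eq_one.1 ha
            refine mul_inv_eq_one.2 ?_
            conv_rhs => rw [Subgroup.coe_inv, ← ha']
            simp [mul_assoc] }
      let g : N →* N' := π.subgroupMap N
      have hg : Function.Surjective g := π.subgroupMap_surjective N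
      have e1 : Nat.card {n : N // x * n * x⁻¹ * (n : P)⁻¹ ∈ N1} = Nat.card (C.comap g) := by
        refine Nat.card_congr (Equiv.subtypeEquivRight fun n => ?_)
        refine (QuotientGroup.eq_one_iff _).symm.trans ?_
        show π (x * n * x⁻¹ * (n : P)⁻¹) = 1 ↔ _
        rw [map_mul, map_mul, map_mul, map_inv, map_inv]
        rfl
      have e2 : Nat.card g.ker = Nat.card N1 := by
        refine Nat.card_congr
          { toFun := fun n => ⟨((n : N) : P), ?_⟩
            invFun := fun n => ⟨⟨n, hN1N n.2⟩, ?_⟩
            left_inv := fun n => rfl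
            right_inv := fun n => rfl }
        · exact (QuotientGroup.eq_one_iff _).1 (congrArg Subtype.val n.2)
        · exact Subtype.ext ((QuotientGroup.eq_one_iff _).2 n.2)
      have e3 := (C.comap g).card_mul_index
      rw [Subgroup.index_comap_of_surjective _ hg, ← g.ker.card_mul_index, Subgroup.index_ker,
        MonoidHom.range_eq_top.2 hg, Subgroup.card_top, ← C.card_mul_index, ← mul_assoc, e2] at e3
      rw [e1]
      exact Nat.eq_of_mul_eq_mul_right (Nat.pos_of_ne_zero Subgroup.index_ne_zero_of_finite) e3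
    have hN1c : Nat.card N1 = Nat.card (commutator N) :=
      Subgroup.card_map_of_injective (Subgroup.subtype_injective N)
    show _ ↔ Nat.card {n : N // x * n * x⁻¹ * (n : P)⁻¹ ∈ N1} = _
    rw [hfib, hN1c]
    set a := Nat.card (commutator (P ⧸ N1))
    set t := Nat.card {n : N' // π x * n * (π x)⁻¹ * (n : P ⧸ N1)⁻¹ = 1}
    have ha : 0 < a := Nat.card_pos
    have hc : 0 < Nat.card (commutator N) := Nat.card_pos
    have hti : (commutator P).index = t * p := by
      refine Nat.eq_of_mul_eq_mul_left ha ?_
      rw [hci, ← hNi, ← h1, mul_assoc]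
    rw [hti, mul_comm p (Nat.card _), pow_two]
    constructor
    · intro h
      rw [Nat.eq_of_mul_eq_mul_right hp.pos h]
    · intro h
      rw [Nat.eq_of_mul_eq_mul_left hc h]
  obtain ⟨x₀, -, hx₀⟩ : ∃ x ∈ (⊤ : Subgroup P), x ∉ N :=
    SetLike.exists_of_lt (lt_top_iff_ne_top.2 fun ht => by
      rw [ht, Subgroup.index_top] at hN; exact hp.one_lt.ne hN)
  exact ⟨⟨fun h x hx => (key x hx).1 h, fun h => (key x₀ hx₀).2 (h x₀ hx₀)⟩,
    ⟨fun h => ⟨x₀, hx₀, (key x₀ hx₀).1 h⟩, fun ⟨x, hx, h⟩ => (key x hx).2 h⟩⟩

end Cfsg.Agent.S4586
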