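import Cfsg.Statements.S4588
import Cfsg.Agent.Blocks.KZeroBound
-- import your own Cfsg.Agent.* helpers here

set_option autoImplicit false
open Cfsg

namespace Cfsg.Agent.S4588

/-- Let G be a finite group, p a prime and M a maximal ideal of the algebraic integers containing p. If some p-element x of G (possibly x = 1) has centralizer whose order has p-part at most p², then the principal p-block of G contains at most p² irreducible characters of degree prime to p. -/
theorem result {G : Type*} [Group G] [Finite G] (p : ℕ) [Fact p.Prime] (M : Ideal Cfsg.AlgInt) (hM : Cfsg.IsPModular p M)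
    (hx : ∃ x : G, (∃ k : ℕ, orderOf x = p ^ k) ∧ (Nat.card (Subgroup.centralizer ({x} : Set G))).factorization p ≤ 2) :
    Nat.card {χ : Cfsg.IrrCharacter G // χ ∈ Cfsg.principalBlock M G ∧ ¬ p ∣ Cfsg.charDegree (χ : G → ℂ)} ≤ p ^ 2 := by
  classical
  haveI : Fintype G := Fintype.ofFinite G
  have hp := (Fact.out : p.Prime)
  obtain ⟨x, ⟨k, hk⟩, hx⟩ := hx
  by_cases hdvd : p ∣ Nat.card G
  · rcases Nat.eq_zero_or_pos k with hk0 | hk0
    · obtain ⟨z, hz⟩ := exists_prime_orderOf_dvd_card' (G := G) p hdvd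
      refine Cfsg.Lib.Blocks.card_principal_pPrime_le hM (x₀ := z) (j₀ := 1)
        (by rw [pow_one, hz]) one_ne_zero (le_trans ?_ hx)
      have hx1 : x = 1 := orderOf_eq_one_iff.1 (by rw [hk, hk0, pow_zero])
      have htop : Subgroup.centralizer ({x} : Set G) = ⊤ := eq_top_iff.2 fun a _ => by
        simp [hx1, Subgroup.mem_centralizer_singleton_iff]
      rw [htop, Subgroup.card_top]
      exact (hp.pow_dvd_iff_le_factorization Nat.card_pos.ne').1
        ((Nat.ordProj_dvd _ p).trans (Subgroup.card_subgroup_dvd_card _))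
    · exact Cfsg.Lib.Blocks.card_principal_pPrime_le hM hk hk0.ne' hx
  · have hone : ∀ χ : Cfsg.IrrCharacter G, χ ∈ Cfsg.principalBlock M G →
        χ = Cfsg.Lib.Chars.principal G := by
      intro χ hχ
      have hc : ∀ g : G, (χ : G → ℂ) g = (χ : G → ℂ) 1 := fun g =>
        Cfsg.Lib.Blocks.apply_eq_of_mem_normal_pPrime hM (⊤ : Subgroup G)
          (by rwa [Subgroup.card_top]) hχ (Subgroup.mem_top g)
      have h := Cfsg.Lib.Blocks.sum_apply_mul_conj χ χ
      rw [if_pos rfl, Finset.sum_congr rfl fun g _ => by rw [hc g], Finset.sum_const,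
        Finset.card_univ, nsmul_eq_mul, ← Nat.card_eq_fintype_card,
        Cfsg.Lib.Chars.irr_apply_one_eq_deg, Complex.conj_natCast] at h
      have hG : (Nat.card G : ℂ) ≠ 0 := Nat.cast_ne_zero.2 Nat.card_pos.ne'
      have h1 : ((Cfsg.Lib.Chars.deg (χ : G → ℂ) * Cfsg.Lib.Chars.deg (χ : G → ℂ) : ℕ) : ℂ) = ((1 : ℕ) : ℂ) := by
        push_cast
        exact mul_left_cancel₀ hG (by rw [h, mul_one])
      have h2 := Nat.eq_one_of_mul_eq_one_right (Nat.cast_injective h1)
      exact Subtype.ext (funext fun g => by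
        rw [hc g, Cfsg.Lib.Chars.irr_apply_one_eq_deg, h2, Nat.cast_one]
        rfl)
    haveI : Subsingleton {χ : Cfsg.IrrCharacter G //
        χ ∈ Cfsg.principalBlock M G ∧ ¬ p ∣ Cfsg.charDegree (χ : G → ℂ)} :=
      ⟨fun a b => Subtype.ext ((hone _ a.2.1).trans (hone _ b.2.1).symm)⟩
    exact le_trans (Finite.card_le_one_iff_subsingleton.2 inferInstance) (Nat.one_le_pow _ _ hp.pos)

end Cfsg.Agent.S4588
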