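import Cfsg.Statements.S4591
import Cfsg.Agent.Chars.Constituent
import Cfsg.Agent.Chars.Values
import Cfsg.Agent.Chars.Induced
import Cfsg.Agent.Blocks.Brauer
import Cfsg.Agent.Blocks.Defect
import Cfsg.Agent.Transfer.Tate
import Cfsg.Agent.PGroups.Basic

set_option autoImplicit false
open Cfsg

namespace Cfsg.Lib.PPrimeKernel

open Cfsg.Lib.Chars
open scoped ComplexConjugate

universe u

variable {G : Type u} [Group G] [Fintype G] {p : ℕ} [Fact p.Prime]

/-- A linear character of a subgroup of index prime to `p` lies under a character of degree prime to `p`. -/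
theorem exists_pprime_over (H : Subgroup G) [Fintype H] (hH : ¬ p ∣ H.index) (lam : H →* ℂˣ) :
    ∃ χ : IrrCharacter G, ¬ p ∣ deg (χ : G → ℂ) ∧
      classInner (fun h : H => (χ : G → ℂ) h) (fun h : H => (lam h : ℂ)) ≠ 0 := by
  classical
  have hl := isIrrCharacter_linear lam
  obtain ⟨m, hm⟩ := IsCharacter.exists_decomp (IsCharacter.indFun (G := G) (isCharacter_of_irr hl))
  have h1 := congrFun hm 1
  rw [indFun_one, map_one, Units.val_one, mul_one] at h1
  simp [irr_apply_one_eq_deg] at h1
  have h2 : H.index = ∑ χ : IrrCharacter G, m χ * deg (χ : G → ℂ) := by exact_mod_cast h1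
  by_contra hno
  push Not at hno
  apply hH
  rw [h2]
  refine Finset.dvd_sum fun χ _ => ?_
  by_cases hp : p ∣ deg (χ : G → ℂ)
  · exact Dvd.dvd.mul_left hp _
  suffices m χ = 0 by simp [this]
  have h3 := hno χ hp
  rw [← frobenius_reciprocity' H _ (isClassFunction_isChar (isCharacter_of_irr χ.2)),
    ← classInner_conj_symm, map_eq_zero, hm] at h3
  simp only [← Nat.cast_smul_eq_nsmul ℂ] at h3
  rw [classInner_irrSum (fun ψ => (m ψ : ℂ)) χ] at h3
  exact_mod_cast h3

/-- A linear constituent is trivial on the kernel. -/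
theorem linear_eq_one_of_ker {H : Type u} [Group H] [Fintype H] {f : H → ℂ} (hf : IsCharacter H f)
    (lam : H →* ℂˣ) (hne : classInner f (fun h => (lam h : ℂ)) ≠ 0) {a : H} (ha : f a = f 1) :
    lam a = 1 := by
  classical
  set S := ∑ x : H, f x * conj ((lam x : ℂ))
  have hS : S = conj ((lam a : ℂ)) * S := by
    rw [Finset.mul_sum]
    refine (Fintype.sum_equiv (Equiv.mulLeft a) _ _ fun x => ?_).symm
    simp only [Equiv.coe_mulLeft, map_mul, Units.val_mul, IsCharacter.ker_mul hf ha]
    ring
  have hS0 : S ≠ 0 := fun h => hne (by rw [classInner_def]; exact mul_eq_zero_of_right _ h)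
  have h1 : conj ((lam a : ℂ)) = 1 := mul_right_cancel₀ hS0 ((one_mul S).symm ▸ hS.symm)
  have h2 : (lam a : ℂ) = 1 := by simpa using congrArg conj h1
  exact Units.ext h2

/-- Outside a normal subgroup with abelian quotient some character of degree prime to `p` moves. -/
theorem exists_pprime_ne (H : Subgroup G) [Fintype H] (hH : ¬ p ∣ H.index) (A : Subgroup H) [A.Normal]
    (hA : ∀ x y : H, x * y * x⁻¹ * y⁻¹ ∈ A) {c : H} (hc : c ∉ A) :
    ∃ χ : IrrCharacter G, ¬ p ∣ deg (χ : G → ℂ) ∧ (χ : G → ℂ) c ≠ (χ : G → ℂ) 1 := by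
  classical
  let _ : CommGroup (H ⧸ A) :=
    { (inferInstance : Group (H ⧸ A)) with
      mul_comm := by
        intro a b
        induction a using QuotientGroup.induction_on with
        | H x =>
          induction b using QuotientGroup.induction_on with
          | H y =>
            rw [← QuotientGroup.mk_mul, ← QuotientGroup.mk_mul, QuotientGroup.eq]
            have := hA y⁻¹ x⁻¹
            simpa [mul_assoc] using this }
  have hne : (QuotientGroup.mk c : H ⧸ A) ≠ 1 := fun h => hc ((QuotientGroup.eq_one_iff c).mp h)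
  obtain ⟨φ, hφ⟩ := CommGroup.exists_apply_ne_one_of_hasEnoughRootsOfUnity (H ⧸ A) ℂ hne
  obtain ⟨χ, hχ, hin⟩ := exists_pprime_over H hH (φ.comp (QuotientGroup.mk' A))
  refine ⟨χ, hχ, fun h => hφ ?_⟩
  exact linear_eq_one_of_ker (IsCharacter.restrict (isCharacter_of_irr χ.2) H) _ hin
    (a := c) (by simpa using h)

/-- A character of degree prime to `p` of a `p`-group has a linear constituent. -/
theorem exists_linear {H : Type u} [Group H] [Fintype H] (hH : IsPGroup p H) {f : H → ℂ}
    (hf : IsCharacter H f) (hdeg : ¬ p ∣ deg f) :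
    ∃ η : IrrCharacter H, classInner f (η : H → ℂ) ≠ 0 ∧ deg (η : H → ℂ) = 1 := by
  classical
  obtain ⟨m, hm⟩ := IsCharacter.exists_decomp hf
  have h1 := congrFun hm 1
  rw [IsCharacter.apply_one_eq_deg hf] at h1
  simp [irr_apply_one_eq_deg] at h1
  have h2 : deg f = ∑ η : IrrCharacter H, m η * deg (η : H → ℂ) := by exact_mod_cast h1
  by_contra hno
  push Not at hno
  apply hdeg
  rw [h2]
  refine Finset.dvd_sum fun η _ => ?_
  obtain ⟨k, hk⟩ := hH.exists_card_eq
  obtain ⟨j, -, hj⟩ := (Nat.dvd_prime_pow (Fact.out : p.Prime)).mp (hk ▸ IsIrrCharacter.deg_dvd η.2)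
  by_cases hmη : m η = 0
  · simp [hmη]
  have hj0 : j ≠ 0 := by
    intro h
    refine hno η ?_ (by rw [hj, h, pow_zero])
    rw [hm]
    simp only [← Nat.cast_smul_eq_nsmul ℂ]
    rw [classInner_irrSum (fun ψ => (m ψ : ℂ)) η]
    exact_mod_cast hmη
  exact Dvd.dvd.mul_left (hj ▸ dvd_pow_self p hj0) _

/-- A normal subgroup with a nonzero fixed part lies in the kernel. -/
theorem le_ker_of_inner_one {χ : G → ℂ} (hχ : IsIrrCharacter G χ) (K : Subgroup G) [K.Normal]
    [Fintype K] (hne : classInner (fun k : K => χ k) (fun _ : K => (1 : ℂ)) ≠ 0) :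
    ∀ k ∈ K, χ k = χ 1 := by
  intro k hk
  obtain ⟨e, -, he⟩ := restrict_eq_mult_of_invariant K hχ (θ := fun _ : K => (1 : ℂ)) isIrrCharacter_one
    (fun g => funext fun _ => rfl) hne
  have h1 := congrFun he ⟨k, hk⟩
  have h2 := congrFun he 1
  simp only [Pi.smul_apply, smul_eq_mul, mul_one, OneMemClass.coe_one] at h1 h2
  exact h1.trans h2.symm

end Cfsg.Lib.PPrimeKernel

namespace Cfsg.Agent.S4591

open Cfsg.Lib.Chars Cfsg.Lib.PPrimeKernel

/-- Let G be a finite group, p a prime and P a Sylow p-subgroup, and let N be the largest normal subgroup of G in which P has trivial centralizer (N is normal with C_N(P) = 1 and contains every normal subgroup with that property). Then the intersection of the kernels of the irreducible characters of G of degree prime to p is the normal core in G of the subgroup N·P' (P' the derived subgroup of P). In particular, when G has no nontrivial normal subgroup of order prime to p, that intersection is the normal core of P'. -/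
theorem result {G : Type*} [Group G] [Finite G] (p : ℕ) [Fact p.Prime] (P : Sylow p G) (N : Subgroup G) [N.Normal]
    (hN : N ⊓ Subgroup.centralizer ((P : Subgroup G) : Set G) = ⊥)
    (hmax : ∀ L : Subgroup G, L.Normal → L ⊓ Subgroup.centralizer ((P : Subgroup G) : Set G) = ⊥ → L ≤ N) :
    {g : G | ∀ χ : Cfsg.IrrCharacter G, ¬ p ∣ Cfsg.charDegree (χ : G → ℂ) → (χ : G → ℂ) g = (χ : G → ℂ) 1} =
      ((N ⊔ ⁅(P : Subgroup G), (P : Subgroup G)⁆).normalCore : Set G) := by
  classical
  have := Fintype.ofFinite G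
  have hp : p.Prime := Fact.out
  set P' : Subgroup G := ⁅(P : Subgroup G), (P : Subgroup G)⁆ with hP'
  have hP'map : (commutator (P : Subgroup G)).map (P : Subgroup G).subtype = P' :=
    Subgroup.map_subtype_commutator _
  have hP'P : P' ≤ (P : Subgroup G) := Subgroup.commutator_le_self _
  have hcopP : ∀ K : Subgroup G, ¬ p ∣ Nat.card K → K ⊓ (P : Subgroup G) = ⊥ := by
    intro K hK
    refine Subgroup.inf_eq_bot_of_coprime ?_
    obtain ⟨k, hk⟩ := P.2.exists_card_eq
    rw [hk]
    exact Nat.Coprime.pow_right _ ((hp.coprime_iff_not_dvd.mpr hK).symm)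
  -- `P` acts on `N` with only the trivial fixed point
  let act : MulAction (P : Subgroup G) N :=
    MulAction.compHom N ((MulAut.conjNormal (H := N)).comp (P : Subgroup G).subtype)
  have hact : ∀ (k : (P : Subgroup G)) (n : N), ((k • n : N) : G) = k * n * (k : G)⁻¹ :=
    fun k n => MulAut.conjNormal_apply (k : G) n
  have hfix : MulAction.fixedPoints (P : Subgroup G) N = {1} := by
    ext n
    simp only [MulAction.mem_fixedPoints, Set.mem_singleton_iff]
    refine ⟨fun h => ?_, fun h k => by subst h; ext; simp [hact]⟩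
    have : (n : G) ∈ N ⊓ Subgroup.centralizer ((P : Subgroup G) : Set G) := by
      refine ⟨n.2, Subgroup.mem_centralizer_iff.mpr fun k hk => ?_⟩
      have := congrArg Subtype.val (h ⟨k, hk⟩)
      rw [hact] at this
      exact mul_inv_eq_iff_eq_mul.mp this
    rw [hN, Subgroup.mem_bot] at this
    exact Subtype.ext this
  have hNp : ¬ p ∣ Nat.card N := by
    have h := P.2.card_modEq_card_fixedPoints N
    rw [hfix, Nat.card_eq_fintype_card (α := ({1} : Set N))] at h
    simp only [Set.card_singleton] at h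
    intro hd
    have := (Nat.modEq_zero_iff_dvd.mpr hd).symm.trans h
    exact hp.not_dvd_one (Nat.modEq_zero_iff_dvd.mp this.symm)
  -- `N` is in the kernel
  have hNker : ∀ χ : IrrCharacter G, ¬ p ∣ deg (χ : G → ℂ) → ∀ n ∈ N, (χ : G → ℂ) n = (χ : G → ℂ) 1 := by
    intro χ hχ
    refine le_ker_of_inner_one χ.2 N fun h0 => ?_
    have hsum : ∑ n : N, (χ : G → ℂ) n = 0 := by
      rw [classInner_def, mul_eq_zero] at h0
      rcases h0 with h | h
      · exact absurd h (inv_ne_zero (by exact_mod_cast Nat.card_pos.ne'))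
      · simpa using h
    let I := Ideal.span {(p : integralClosure ℤ ℂ)}
    let F : N → (integralClosure ℤ ℂ) ⧸ I := fun n =>
      Ideal.Quotient.mk I ⟨(χ : G → ℂ) n, IsCharacter.isIntegral (isCharacter_of_irr χ.2) _⟩
    have hR : ∀ r : (integralClosure ℤ ℂ) ⧸ I, p • r = 0 := by
      intro r
      obtain ⟨a, rfl⟩ := Ideal.Quotient.mk_surjective r
      rw [← map_nsmul, Ideal.Quotient.eq_zero_iff_mem, nsmul_eq_mul]
      exact Ideal.mul_mem_right _ _ (Ideal.subset_span rfl)
    have hF : ∀ (k : (P : Subgroup G)) (n : N), F (k • n) = F n := by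
      intro k n
      refine congrArg (Ideal.Quotient.mk I) (Subtype.ext ?_)
      show (χ : G → ℂ) ((k • n : N) : G) = (χ : G → ℂ) n
      rw [hact]
      exact isClassFunction_isChar (isCharacter_of_irr χ.2) _ _
    have h := Cfsg.Lib.Blocks.sum_eq_sum_fixed P.2 hR F hF
    have hlhs : ∑ n, F n = 0 := by
      rw [← map_sum, Ideal.Quotient.eq_zero_iff_mem]
      refine (show (∑ n : N, (⟨(χ : G → ℂ) n, IsCharacter.isIntegral (isCharacter_of_irr χ.2) _⟩ :
        integralClosure ℤ ℂ)) = 0 from Subtype.ext ?_) ▸ I.zero_mem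
      simpa using hsum
    have hfilter : (Finset.univ.filter (· ∈ MulAction.fixedPoints (P : Subgroup G) N)) = {1} := by
      rw [hfix]; ext; simp
    rw [hlhs, hfilter, Finset.sum_singleton] at h
    obtain ⟨z, hz⟩ := Ideal.mem_span_singleton'.mp (Ideal.Quotient.eq_zero_iff_mem.mp h.symm)
    apply hχ
    apply dvd_of_isIntegral_div hp.ne_zero
    have h2 : (z : ℂ) * (p : ℂ) = (χ : G → ℂ) 1 := by
      have := congrArg Subtype.val hz
      simpa using this
    rw [irr_apply_one_eq_deg] at h2
    rw [← h2, mul_div_cancel_right₀ _ (by exact_mod_cast hp.ne_zero)]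
    exact z.2
  ext g
  simp only [Set.mem_setOf_eq, SetLike.mem_coe]
  constructor
  · -- the intersection of the kernels is small
    let K : Subgroup G := ⨅ χ : {χ : IrrCharacter G // ¬ p ∣ deg (χ : G → ℂ)},
      kerSubgroup ((χ : IrrCharacter G) : G → ℂ) (isCharacter_of_irr (χ : IrrCharacter G).2)
    have hKmem : ∀ x, x ∈ K ↔ ∀ χ : IrrCharacter G, ¬ p ∣ deg (χ : G → ℂ) →
        (χ : G → ℂ) x = (χ : G → ℂ) 1 := by
      intro x
      simp only [K, Subgroup.mem_iInf, Subtype.forall, mem_kerSubgroup]
    have hKn : K.Normal := Subgroup.normal_iInf_normal fun χ => kerSubgroup_normal _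
    have hKP : K ⊓ (P : Subgroup G) ≤ P' := by
      rintro x ⟨hxK, hxP⟩
      by_contra hx
      have hxA : (⟨x, hxP⟩ : (P : Subgroup G)) ∉ commutator (P : Subgroup G) := by
        intro h
        apply hx
        rw [← hP'map]
        exact ⟨_, h, rfl⟩
      obtain ⟨χ, hχ, hne⟩ := exists_pprime_ne (p := p) (P : Subgroup G) P.not_dvd_index
        (commutator (P : Subgroup G))
        (fun a b => Subgroup.commutator_mem_commutator (Subgroup.mem_top a) (Subgroup.mem_top b)) hxA
      exact hne ((hKmem x).mp hxK χ hχ)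
    have hfr : K ⊓ (P : Subgroup G) ≤ (frattini P).map (P : Subgroup G).subtype := by
      refine hKP.trans ?_
      rw [← hP'map]
      refine Subgroup.map_mono ?_
      exact Cfsg.Lib.PGroups.commutator_le_frattini P.2
    obtain ⟨Q, N₁, hN₁, hcompl⟩ := Cfsg.Lib.Transfer.hasNormalPComplement_of_le_frattini P K hfr
    have hN₁p : ¬ p ∣ Nat.card N₁ := by
      intro hd
      apply Q.not_dvd_index
      rwa [hcompl.index_eq_card]
    have hN₁ch : N₁.Characteristic := by
      rw [Subgroup.characteristic_iff_map_le]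
      rintro φ _ ⟨x, hx, rfl⟩
      rw [← QuotientGroup.eq_one_iff, ← orderOf_eq_one_iff]
      have h1 : orderOf ((φ.toMonoidHom x : K) : K ⧸ N₁) ∣ Nat.card N₁ :=
        (orderOf_map_dvd (QuotientGroup.mk' N₁) _).trans
          ((orderOf_map_dvd φ.toMonoidHom x).trans (Subgroup.orderOf_dvd_natCard N₁ hx))
      have h2 : orderOf ((φ.toMonoidHom x : K) : K ⧸ N₁) ∣ N₁.index := by
        rw [N₁.index_eq_card]; exact orderOf_dvd_natCard _
      refine Nat.eq_one_of_dvd_coprimes ?_ h1 h2
      rw [hcompl.symm.index_eq_card]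
      obtain ⟨k, hk⟩ := Q.2.exists_card_eq
      rw [hk]
      exact Nat.Coprime.pow_right _ ((hp.coprime_iff_not_dvd.mpr hN₁p).symm)
    let L : Subgroup G := N₁.map K.subtype
    have hLn : L.Normal := ConjAct.normal_of_characteristic_of_normal
    have hLK : L ≤ K := Subgroup.map_subtype_le _
    have hLcard : Nat.card L = Nat.card N₁ :=
      Subgroup.card_map_of_injective (Subgroup.subtype_injective K)
    have hLp : ¬ p ∣ Nat.card L := by rwa [hLcard]
    have hLN : L ≤ N := by
      refine hmax L hLn ?_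
      rw [Subgroup.eq_bot_iff_forall]
      rintro c ⟨hcL, hcP⟩
      by_contra hc1
      let H : Subgroup G := (P : Subgroup G) ⊔ Subgroup.zpowers c
      have hcn : H ≤ Subgroup.normalizer ((P : Subgroup G) : Set G) := by
        refine sup_le Subgroup.le_normalizer ?_
        rw [Subgroup.zpowers_le]
        exact Subgroup.centralizer_le_normalizer _ hcP
      let A : Subgroup H := (P : Subgroup G).subgroupOf H
      have hAn : A.Normal := Subgroup.normal_subgroupOf_of_le_normalizer hcn
      let cH : H := ⟨c, Subgroup.mem_sup_right (Subgroup.mem_zpowers c)⟩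
      have hA : ∀ x y : H, x * y * x⁻¹ * y⁻¹ ∈ A := by
        intro x y
        let π := QuotientGroup.mk' A
        have hgen : ∀ z : H, ∃ i : ℤ, π z = π cH ^ i := by
          intro z
          have hz : (z : G) ∈ ((P : Subgroup G) ⊔ Subgroup.zpowers c : Subgroup G) := z.2
          rw [← SetLike.mem_coe, Subgroup.coe_mul_of_right_le_normalizer_left _ _
            ((le_sup_right).trans hcn), Set.mem_mul] at hz
          obtain ⟨k, hk, w, hw, hkw⟩ := hz
          obtain ⟨i, rfl⟩ := Subgroup.mem_zpowers_iff.mp hw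
          refine ⟨i, ?_⟩
          have hz2 : z = ⟨k, Subgroup.mem_sup_left hk⟩ * cH ^ i := Subtype.ext (by simpa using hkw.symm)
          rw [hz2, map_mul, map_zpow,
            show π ⟨k, Subgroup.mem_sup_left hk⟩ = 1 from (QuotientGroup.eq_one_iff _).mpr hk, one_mul]
        obtain ⟨i, hi⟩ := hgen x
        obtain ⟨j, hj⟩ := hgen y
        refine (QuotientGroup.eq_one_iff _).mp ?_
        show π (x * y * x⁻¹ * y⁻¹) = 1
        simp only [map_mul, map_inv, hi, hj]
        group
      have hcA : cH ∉ A := by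
        intro h
        apply hc1
        have : c ∈ L ⊓ (P : Subgroup G) := ⟨hcL, h⟩
        rwa [hcopP L hLp, Subgroup.mem_bot] at this
      have hidx : ¬ p ∣ H.index := fun h =>
        P.not_dvd_index (h.trans (Subgroup.index_dvd_of_le le_sup_left))
      obtain ⟨χ, hχ, hne⟩ := exists_pprime_ne (p := p) H hidx A hA hcA
      exact hne ((hKmem c).mp (hLK hcL) χ hχ)
    intro hg
    have hgK : g ∈ K := (hKmem g).mpr fun χ hχ => hg χ hχ
    have hsup : K ≤ N ⊔ P' := by
      -- a conjugate of `Q` lies in `K ⊓ P`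
      have hQ : Nat.card Q ∣ Nat.card (K ⊓ (P : Subgroup G) : Subgroup G) := by
        obtain ⟨S, hS⟩ := (Q.2.map K.subtype).exists_le_sylow
        obtain ⟨x, hx⟩ := MulAction.exists_smul_eq G S P
        have hle : ((Q : Subgroup K).map K.subtype).map (MulAut.conj x).toMonoidHom ≤
            K ⊓ (P : Subgroup G) := by
          rintro _ ⟨q, hq, rfl⟩
          refine ⟨?_, ?_⟩
          · exact hKn.conj_mem q (Subgroup.map_subtype_le _ hq) x
          · rw [← hx, Sylow.coe_subgroup_smul]
            exact ⟨q, hS hq, rfl⟩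
        have := Subgroup.card_dvd_of_le hle
        rwa [Subgroup.card_map_of_injective (MulEquiv.injective _),
          Subgroup.card_map_of_injective (Subgroup.subtype_injective K)] at this
      have hle : L ⊔ (K ⊓ (P : Subgroup G)) ≤ K := sup_le hLK inf_le_left
      have hdvd : Nat.card K ∣ Nat.card (L ⊔ (K ⊓ (P : Subgroup G)) : Subgroup G) := by
        rw [← N₁.card_mul_index, hcompl.symm.index_eq_card]
        refine Nat.Coprime.mul_dvd_of_dvd_of_dvd ?_ ?_ (hQ.trans (Subgroup.card_dvd_of_le le_sup_right))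
        · obtain ⟨k, hk⟩ := Q.2.exists_card_eq
          rw [hk]
          exact Nat.Coprime.pow_right _ ((hp.coprime_iff_not_dvd.mpr hN₁p).symm)
        · rw [← hLcard]
          exact Subgroup.card_dvd_of_le le_sup_left
      calc K = L ⊔ (K ⊓ (P : Subgroup G)) :=
            (Subgroup.eq_of_le_of_card_ge hle (Nat.le_of_dvd Nat.card_pos hdvd)).symm
        _ ≤ N ⊔ P' := sup_le_sup hLN hKP
    exact (Subgroup.normal_le_normalCore.mpr hsup) hgK
  · -- the core is in every kernel
    intro hg χ hχ
    set H0 : Subgroup G := N ⊔ P' with hH0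
    refine le_ker_of_inner_one χ.2 H0.normalCore ?_ g hg
    obtain ⟨η, hη, hη1⟩ := exists_linear (f := fun x : (P : Subgroup G) => (χ : G → ℂ) x) P.2
      (IsCharacter.restrict (isCharacter_of_irr χ.2) (P : Subgroup G))
      (by exact hχ)
    -- the restriction to `P'` has a trivial constituent
    have hJ : classInner (fun j : P' => (χ : G → ℂ) j) (fun _ : P' => (1 : ℂ)) ≠ 0 := by
      refine classInner_pullback_ne_zero (Subgroup.inclusion hP'P)
        (IsCharacter.restrict (isCharacter_of_irr χ.2) (P : Subgroup G)) η.2 hη isIrrCharacter_one ?_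
      have htriv : (fun j : P' => (η : ↥(P : Subgroup G) → ℂ) (Subgroup.inclusion hP'P j)) =
          fun _ => 1 := by
        obtain ⟨f, hf⟩ := exists_hom_of_deg_one (isCharacter_of_irr η.2)
          (by rw [irr_apply_one_eq_deg, hη1, Nat.cast_one])
        funext j
        rw [hf]
        have hj : (Subgroup.inclusion hP'P j) ∈ f.ker := by
          have h1 : commutator (P : Subgroup G) ≤ f.ker := Abelianization.commutator_subset_ker f
          apply h1
          have h2 : (j : G) ∈ (commutator (P : Subgroup G)).map (P : Subgroup G).subtype := by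
            rw [hP'map]; exact j.2
          obtain ⟨y, hy, hyj⟩ := h2
          rwa [show Subgroup.inclusion hP'P j = y from Subtype.ext hyj.symm]
        simp [MonoidHom.mem_ker.mp hj]
      rw [htriv, classInner_self_irr isIrrCharacter_one]
      exact one_ne_zero
    -- hence so does the restriction to `N ⊔ P'`
    have hdisj : N ⊓ P' = ⊥ := le_bot_iff.mp ((inf_le_inf_left N hP'P).trans (hcopP N hNp).le)
    let e : N × P' → H0 := fun x => ⟨x.1 * x.2, Subgroup.mul_mem_sup x.1.2 x.2.2⟩
    have he : Function.Bijective e := by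
      constructor
      · rintro ⟨a, b⟩ ⟨a', b'⟩ h
        have h' : (a : G) * b = a' * b' := congrArg Subtype.val h
        have h2 : (a' : G)⁻¹ * a ∈ N ⊓ P' := by
          refine ⟨N.mul_mem (N.inv_mem a'.2) a.2, ?_⟩
          rw [show (a' : G)⁻¹ * a = b' * (b : G)⁻¹ by
            rw [eq_mul_inv_iff_mul_eq, mul_assoc, h', inv_mul_cancel_left]]
          exact P'.mul_mem b'.2 (P'.inv_mem b.2)
        rw [hdisj, Subgroup.mem_bot, inv_mul_eq_one] at h2
        exact Prod.ext (Subtype.ext h2.symm) (Subtype.ext (by rw [h2] at h'; exact mul_left_cancel h'))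
      · rintro ⟨x, hx⟩
        obtain ⟨a, ha, b, hb, rfl⟩ := Subgroup.mem_sup_of_normal_left.mp hx
        exact ⟨⟨⟨a, ha⟩, ⟨b, hb⟩⟩, rfl⟩
    have hH : classInner (fun h : H0 => (χ : G → ℂ) h) (fun _ : H0 => (1 : ℂ)) ≠ 0 := by
      intro h0
      rw [classInner_def, mul_eq_zero, ← Fintype.sum_bijective e he _ _ (fun _ => rfl)] at h0
      rcases h0 with h | h
      · exact inv_ne_zero (by exact_mod_cast Nat.card_pos.ne') h
      apply hJ
      rw [classInner_def]
      refine mul_eq_zero_of_right _ ?_
      rw [Fintype.sum_prod_type] at h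
      simp only [e, IsCharacter.ker_mul (isCharacter_of_irr χ.2) (hNker χ hχ _ (Subtype.prop _))] at h
      rw [Finset.sum_const, Finset.card_univ, nsmul_eq_mul, mul_eq_zero] at h
      exact h.resolve_left (by exact_mod_cast Fintype.card_ne_zero)
    exact classInner_pullback_ne_zero (Subgroup.inclusion (Subgroup.normalCore_le H0))
      (IsCharacter.restrict (isCharacter_of_irr χ.2) H0) isIrrCharacter_one hH isIrrCharacter_one
      (by rw [classInner_self_irr isIrrCharacter_one]; exact one_ne_zero)

end Cfsg.Agent.S4591
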