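import Cfsg.Statements.S4602
import Cfsg.Agent.Blocks.SylowNormalize
-- import your own Cfsg.Agent.* helpers here

set_option autoImplicit false
open Cfsg

namespace Cfsg.Agent.S4602

set_option linter.unusedSectionVars false

/-- Let G be a finite p-solvable group and q a prime different from p. Some Sylow p-subgroup of G normalizes some Sylow q-subgroup of G if and only if q does not divide the order of G/O_{p'}(G), the quotient by the largest normal subgroup of order prime to p. -/
theorem result {G : Type*} [Group G] [Finite G] (p q : ℕ) [Fact p.Prime] [Fact q.Prime] (hpq : p ≠ q) (hsolv : Cfsg.IsPSolvable p G) :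
    (∃ (P : Sylow p G) (Q : Sylow q G), (P : Subgroup G) ≤ Subgroup.normalizer ((Q : Subgroup G) : Set G)) ↔ ¬ q ∣ (Cfsg.pPrimeCore p G).index := by
  constructor
  · rintro ⟨P, Q, hPQ⟩
    exact Cfsg.Lib.Blocks.SylowNorm.not_dvd_index_pPrimeCore hpq hsolv P Q hPQ
  · intro hd
    haveI : (Cfsg.pPrimeCore p G).Normal := Cfsg.Lib.Components.pPrimeCore_normal' p
    obtain ⟨Q⟩ := (inferInstance : Nonempty (Sylow q G))
    have hQ : (Q.mapSurjective (QuotientGroup.mk'_surjective (Cfsg.pPrimeCore p G)) :
        Subgroup (G ⧸ Cfsg.pPrimeCore p G)) = ⊥ := by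
      refine Subgroup.eq_bot_of_card_eq _ ?_
      rw [Sylow.card_eq_multiplicity, Nat.factorization_eq_zero_of_not_dvd (by rwa [← Subgroup.index_eq_card]), pow_zero]
    obtain ⟨P, hP⟩ := Cfsg.Lib.Blocks.SylowNorm.exists_sylow_le (p := p)
      (Subgroup.normalizer ((Q : Subgroup G) : Set G)) (by
        rw [Cfsg.Lib.Blocks.SylowNorm.index_normalizer_sylow (Cfsg.pPrimeCore p G) Q]
        rw [Sylow.coe_mapSurjective] at hQ
        rw [hQ, Subgroup.normalizer_eq_top, Subgroup.index_top, one_mul]
        intro h1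
        exact (Fact.out : p.Prime).one_lt.ne' (Nat.eq_one_of_dvd_coprimes
          (Cfsg.Lib.Components.coprime_card_pPrimeCore p)
          (dvd_trans h1 (Subgroup.relIndex_dvd_card _ _)) dvd_rfl))
    exact ⟨P, Q, hP⟩

end Cfsg.Agent.S4602
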