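import Cfsg.Statements.S4604
import Cfsg.Agent.Blocks.RegularCongr
import Cfsg.Agent.Blocks.Feit3
import Cfsg.Agent.Chars.NonVanish
-- import your own Cfsg.Agent.* helpers here

set_option autoImplicit false
open Cfsg

namespace Cfsg.Agent.S4604

set_option linter.unusedSectionVars false

open Cfsg.Lib.Chars Cfsg.Lib.Blocks

/-- Let G be a finite group, p a prime and p^a the p-part of the order of G. Let x, y ∈ G and let x′, y′ be their p-regular parts: x′ has order prime to p, commutes with x·x′⁻¹, and x·x′⁻¹ has p-power order (likewise for y). Then x′ and y′ are conjugate in G if and only if for every irreducible character χ of G the algebraic integer χ(x)^(p^a) − χ(y)^(p^a) is p times an algebraic integer. -/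
theorem result {G : Type*} [Group G] [Finite G] (p : ℕ) [Fact p.Prime] (x y x' y' : G)
    (hx : (∃ k : ℕ, orderOf (x * x'⁻¹) = p ^ k) ∧ Commute (x * x'⁻¹) x' ∧ ¬ p ∣ orderOf x')
    (hy : (∃ k : ℕ, orderOf (y * y'⁻¹) = p ^ k) ∧ Commute (y * y'⁻¹) y' ∧ ¬ p ∣ orderOf y') :
    IsConj x' y' ↔ ∀ χ : Cfsg.IrrCharacter G, ∃ γ : Cfsg.AlgInt,
      (χ : G → ℂ) x ^ (p ^ (Nat.card G).factorization p) - (χ : G → ℂ) y ^ (p ^ (Nat.card G).factorization p) = (p : ℂ) * (γ : ℂ) := by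
  classical
  have hp : p.Prime := Fact.out
  set n := (Nat.card G).factorization p with hn
  set N := p ^ n with hN
  have hpow : ∀ u u' : G, (∃ k : ℕ, orderOf (u * u'⁻¹) = p ^ k) → Commute (u * u'⁻¹) u' →
      u ^ N = u' ^ N := by
    rintro u u' ⟨k, hk⟩ hc
    have hkn : p ^ k ∣ N := by
      rw [hN]
      exact pow_dvd_pow p ((hp.pow_dvd_iff_le_factorization Nat.card_pos.ne').1 (hk ▸ orderOf_dvd_natCard _))
    calc u ^ N = ((u * u'⁻¹) * u') ^ N := by rw [inv_mul_cancel_right]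
      _ = (u * u'⁻¹) ^ N * u' ^ N := hc.mul_pow N
      _ = u' ^ N := by rw [orderOf_dvd_iff_pow_eq_one.1 (hk ▸ hkn), one_mul]
  have hcong : ∀ (χ : Cfsg.IrrCharacter G) (g : G), ∃ r : Cfsg.AlgInt,
      (χ : G → ℂ) g ^ N = (χ : G → ℂ) (g ^ N) + (p : ℂ) * (r : ℂ) := by
    intro χ g
    obtain ⟨ι, _, c, z, hz, hval⟩ := IsCharacter.exists_cyclic_decomp (isCharacter_of_irr χ.2) g
    have hzint : ∀ i, IsIntegral ℤ (z i) := fun i => isIntegral_of_pow_eq_one (orderOf_pos g) (hz i)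
    let w : ι → Cfsg.AlgInt := fun i => (c i : Cfsg.AlgInt) * ⟨z i, hzint i⟩
    obtain ⟨r, hr⟩ := exists_sum_pow_prime_pow p hp n w Finset.univ
    have hcp : ∀ i, ∃ e : Cfsg.AlgInt, (c i : Cfsg.AlgInt) ^ N = (c i : Cfsg.AlgInt) + (p : Cfsg.AlgInt) * e := by
      intro i
      obtain ⟨e, he⟩ := exists_sum_pow_prime_pow (R := Cfsg.AlgInt) p hp n (fun _ : Fin (c i) => 1) Finset.univ
      refine ⟨e, ?_⟩
      simpa [hN] using he
    choose e he using hcp
    refine ⟨∑ i, e i * (⟨z i, hzint i⟩ : Cfsg.AlgInt) ^ N + r, ?_⟩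
    have h1 := hval 1
    rw [pow_one] at h1
    rw [hval N, h1]
    have h2 : (∑ i, w i) ^ N = ∑ i, (c i : Cfsg.AlgInt) * (⟨z i, hzint i⟩ : Cfsg.AlgInt) ^ N +
        (p : Cfsg.AlgInt) * (∑ i, e i * (⟨z i, hzint i⟩ : Cfsg.AlgInt) ^ N + r) := by
      rw [hN] at he ⊢
      rw [hr, mul_add, Finset.mul_sum, ← add_assoc, ← Finset.sum_add_distrib]
      congr 1
      refine Finset.sum_congr rfl fun i _ => ?_
      simp only [w, mul_pow, he i]
      ring
    have h3 := congrArg (fun v : Cfsg.AlgInt => (v : ℂ)) h2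
    simpa [w] using h3
  obtain ⟨hxk, hxc, hxp⟩ := hx
  obtain ⟨hyk, hyc, hyp⟩ := hy
  have hxN := hpow x x' hxk hxc
  have hyN := hpow y y' hyk hyc
  constructor
  · intro hconj χ
    obtain ⟨r, hr⟩ := hcong χ x
    obtain ⟨s, hs⟩ := hcong χ y
    refine ⟨r - s, ?_⟩
    obtain ⟨d, hd⟩ := isConj_iff.1 hconj
    have h1 : (χ : G → ℂ) (x' ^ N) = (χ : G → ℂ) (y' ^ N) :=
      classFunction_eq_of_isConj (isClassFunction_irr χ) (isConj_iff.2 ⟨d, by rw [← conj_pow, hd]⟩)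
    rw [hr, hs, hxN, hyN, h1]
    push_cast
    ring
  · intro h
    obtain ⟨M, hM⟩ := exists_isPModular hp
    have hsm : ∀ γ : Cfsg.AlgInt, Small M ((p : ℂ) * (γ : ℂ)) := fun γ =>
      (small_prime hM).mul_mem (isIntegral_mem_place hM γ.2)
    have hxp' : ¬ p ∣ orderOf (x' ^ N) := fun h' => hxp (h'.trans (orderOf_pow_dvd N))
    have hyp' : ¬ p ∣ orderOf (y' ^ N) := fun h' => hyp (h'.trans (orderOf_pow_dvd N))
    have hc := isConj_of_small hM hxp' hyp' fun χ => by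
      obtain ⟨γ, hγ⟩ := h χ
      obtain ⟨r, hr⟩ := hcong χ x
      obtain ⟨s, hs⟩ := hcong χ y
      have h1 : (χ : G → ℂ) (x' ^ N) - (χ : G → ℂ) (y' ^ N) =
          (p : ℂ) * ((γ - r + s : Cfsg.AlgInt) : ℂ) := by
        rw [hr, hs, hxN, hyN] at hγ
        push_cast
        linear_combination hγ
      rw [h1]
      exact hsm _
    have hco : N.Coprime (orderOf x' * orderOf y') :=
      ((hp.coprime_iff_not_dvd.2 fun h' => ((hp.dvd_mul.1 h').elim hxp hyp)).pow_left n)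
    have hm : 0 < orderOf x' * orderOf y' := Nat.mul_pos (orderOf_pos x') (orderOf_pos y')
    obtain ⟨t, ht⟩ : ∃ t, N * t ≡ 1 [MOD orderOf x' * orderOf y'] := by
      rcases Nat.lt_or_ge 1 (orderOf x' * orderOf y') with h1 | h1
      · obtain ⟨t, -, ht⟩ := Nat.exists_mul_mod_eq_one_of_coprime hco h1
        exact ⟨t, ht.trans (Nat.mod_eq_of_lt h1).symm⟩
      · exact ⟨1, by rw [show orderOf x' * orderOf y' = 1 by omega]; exact Nat.modEq_one⟩
    have e1 : (x' ^ N) ^ t = x' := by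
      rw [← pow_mul]
      exact (pow_eq_pow_iff_modEq.2 (ht.of_dvd (Dvd.intro _ rfl))).trans (pow_one _)
    have e2 : (y' ^ N) ^ t = y' := by
      rw [← pow_mul]
      exact (pow_eq_pow_iff_modEq.2 (ht.of_dvd (Dvd.intro_left _ rfl))).trans (pow_one _)
    obtain ⟨d, hd⟩ := isConj_iff.1 hc
    exact isConj_iff.2 ⟨d, by rw [← e1, ← conj_pow, hd, e2]⟩

end Cfsg.Agent.S4604
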