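import Cfsg.Statements.S4652
import Cfsg.Agent.Blocks.Defect2
import Cfsg.Agent.Blocks.Sub
-- import your own Cfsg.Agent.* helpers here

set_option autoImplicit false
open Cfsg

namespace Cfsg.Agent.S4652

set_option linter.unusedSectionVars false

open Cfsg.Lib.Blocks Cfsg.Lib.Chars

/-- Fix a prime p and a maximal ideal M of the algebraic integers containing p. The defect groups of the principal p-block of a finite group G are exactly the Sylow p-subgroups of G: a subgroup D is a defect group of the principal block if and only if D is a Sylow p-subgroup. -/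
theorem result {G : Type*} [Group G] [Fintype G] (p : ℕ) [Fact p.Prime] (M : Ideal Cfsg.AlgInt) (hM : Cfsg.IsPModular p M) (D : Subgroup G) : Cfsg.IsDefectGroup p M (Cfsg.principalBlock M G) D ↔ ∃ S : Sylow p G, (S : Subgroup G) = D := by
  classical
  have h1 : ((principal G : Cfsg.IrrCharacter G) : G → ℂ) 1 = 1 := rfl
  have hblk : Cfsg.principalBlock M G = Cfsg.blockOf M ((principal G : Cfsg.IrrCharacter G) : G → ℂ) :=
    rfl
  rw [hblk]
  refine ⟨fun hD => ⟨Sylow.ofCard D (sylow_of_principal hM h1 hD), rfl⟩, ?_⟩
  rintro ⟨S, rfl⟩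
  obtain ⟨E, hE⟩ := exists_defectGroup hM (isPBlock_blockOf (principal G))
  obtain ⟨a, ha⟩ := MulAction.exists_smul_eq G (Sylow.ofCard E (sylow_of_principal hM h1 hE)) S
  have : (S : Subgroup G) = E.map (MulAut.conj a).toMonoidHom := by
    rw [← ha]
    rfl
  rw [this]
  exact IsDefectGroup.conj hM (isPBlock_blockOf _) hE a

end Cfsg.Agent.S4652
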