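import Cfsg.Statements.S4608
import Cfsg.Agent.Blocks.RankOneSmall.BlockBound
import Cfsg.Agent.Blocks.RankOneFive.AbelianEight
import Cfsg.Agent.Blocks.AbelianLocal
import Cfsg.Agent.Blocks.Maximal

set_option autoImplicit false
open Cfsg

open Cfsg.Lib.Blocks Cfsg.Lib.Chars Cfsg.Lib.Blocks.Frobenius

namespace Cfsg.Agent.S4608

/-- Let G be a finite group, p a prime, M a maximal ideal of the algebraic integers containing p, and B a p-block of G with defect group D. If B has p-regular rank one and exactly five irreducible characters, then D is cyclic of order 5, or D has order 8 and is non-abelian (dihedral or quaternion). -/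
theorem result {G : Type*} [Group G] [Finite G] (p : ℕ) [Fact p.Prime] (M : Ideal Cfsg.AlgInt) (hM : Cfsg.IsPModular p M) (B : Set (Cfsg.IrrCharacter G)) (hB : Cfsg.IsPBlock M B) (D : Subgroup G) (hD : Cfsg.IsDefectGroup p M B D)
    (hl : Cfsg.blockRank p B = 1) (hk : Nat.card B = 5) :
    (Nat.card D = 5) ∨ (Nat.card D = 8 ∧ ¬ IsMulCommutative D) := by
  classical
  letI := Fintype.ofFinite G
  have hp : p.Prime := Fact.out
  have hcard := IsDefectGroup.card hM hB hD
  obtain ⟨f, hf, hdvd, hge, -, h8⟩ := RankOneSmall.exists_pow_defect_dvd hM hB hl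
  have hle : p ^ blockDefect p B ≤ 8 := (Nat.le_of_dvd hf hdvd).trans (h8 hk.le)
  rw [hk] at hge
  rw [← hcard] at hle hge
  have h6 : Nat.card D ≠ 6 := fun h => by
    have h2 : 2 = p := (Nat.prime_dvd_prime_iff_eq Nat.prime_two hp).1
      (Nat.prime_two.dvd_of_dvd_pow (by rw [← hcard, h]; norm_num))
    have h3 : 3 = p := (Nat.prime_dvd_prime_iff_eq Nat.prime_three hp).1
      (Nat.prime_three.dvd_of_dvd_pow (by rw [← hcard, h]; norm_num))
    omega
  rcases (show Nat.card D = 5 ∨ Nat.card D = 7 ∨ Nat.card D = 8 by omega) with h5 | h7 | h8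
  · exact Or.inl h5
  · -- order seven
    exfalso
    have hp7 : p = 7 := ((Nat.prime_dvd_prime_iff_eq (by norm_num) hp).1
      ((show Nat.Prime 7 by norm_num).dvd_of_dvd_pow (by rw [← hcard, h7]))).symm
    subst hp7
    haveI := isCyclic_of_prime_card h7
    letI := IsCyclic.commGroup (α := D)
    have hab : ∀ u ∈ D, ∀ v ∈ D, u * v = v * u := fun u hu v hv =>
      congrArg Subtype.val (mul_comm (⟨u, hu⟩ : D) ⟨v, hv⟩)
    obtain ⟨T, c, s⟩ := RankTwo.exists_abPair hM hB hD hab
    have hzC : ∀ y ∈ D, y ≠ 1 → ∀ t : G, t * y = y * t → t ∈ Subgroup.centralizer (D : Set G) :=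
      fun y hy hy1 t ht => by
        have hz : Subgroup.zpowers y = D := by
          refine Subgroup.eq_of_le_of_card_ge (Subgroup.zpowers_le.2 hy) ?_
          rw [Nat.card_zpowers]
          rcases (Nat.dvd_prime (Fact.out : Nat.Prime 7)).1 (h7 ▸ D.orderOf_dvd_natCard hy) with h | h
          · exact absurd (orderOf_eq_one_iff.1 h) hy1
          · omega
        rw [← hz, Lib.Blocks.centralizer_zpowers, Subgroup.mem_centralizer_singleton_iff]
        exact ht
    have hcount := subsection_count hM hD s.pair hab s.stab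
      (fun y hy hy1 t _ ht => hzC y hy hy1 t (mul_inv_eq_iff_eq_mul.1 ht)) (fun _ => 1)
      (fun y f hy hy1 hf => blockRank_local_eq_one hM hD s.pair hab s.stab (Subgroup.zpowers_le.2 hy)
        (hf.normalSubpair hM s.pair.1 hab hy) fun t _ ht => hzC y hy hy1 t
          (Subgroup.mem_centralizer_singleton_iff.1 (Lib.Blocks.centralizer_zpowers y ▸ ht)))
    have hS : (Finset.univ.filter fun y : G => y ∈ D ∧ y ≠ 1).card = 6 := by
      rw [show (Finset.univ.filter fun y : G => y ∈ D ∧ y ≠ 1) =
          (Finset.univ.filter fun y : G => y ∈ D).erase 1 by ext y; simp [and_comm],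
        Finset.card_erase_of_mem (by simp), ← Fintype.card_subtype, ← Nat.card_eq_fintype_card]
      omega
    rw [Finset.sum_const, hS, hl, hk] at hcount
    simp only [nsmul_eq_mul, Nat.cast_ofNat, Nat.cast_one, mul_one] at hcount
    omega
  · -- order eight
    refine Or.inr ⟨h8, fun hcomm => ?_⟩
    have hp2 : p = 2 := ((Nat.prime_dvd_prime_iff_eq Nat.prime_two hp).1
      (Nat.prime_two.dvd_of_dvd_pow (by rw [← hcard, h8]; norm_num))).symm
    subst hp2
    exact RankOneFive.false_of_abelian_eight hM hB hD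
      (fun a ha b hb => congrArg Subtype.val (hcomm.is_comm.comm (⟨a, ha⟩ : D) ⟨b, hb⟩)) h8 hl hk

end Cfsg.Agent.S4608
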