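import Cfsg.Statements.S4609
import Cfsg.Agent.Blocks.ThreeChars.Block
import Cfsg.Agent.S4434
import Cfsg.Agent.PGroups.Basic

set_option autoImplicit false
open Cfsg

namespace Cfsg.Agent.S4609

set_option linter.unusedSectionVars false
set_option linter.style.haveILetI false

open Cfsg.Lib.Chars Cfsg.Lib.Blocks

/-- A normal defect group of a block with at most three members of height zero has order at most three. -/
theorem card_le_three_of_height_zero {N : Type*} [Group N] [Fintype N] {p : ℕ} [Fact p.Prime] {M : Ideal Cfsg.AlgInt}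
    (hM : Cfsg.IsPModular p M) {D' : Subgroup N} [D'.Normal] {b : Set (Cfsg.IrrCharacter N)} (hbp : Cfsg.IsPBlock M b)
    (hbD : Cfsg.IsDefectGroup p M b D') (hD1 : 1 < Nat.card D')
    (hcnt : Nat.card {ψ : Cfsg.IrrCharacter N // ψ ∈ b ∧ Cfsg.blockHeight p b (ψ : N → ℂ) = 0} ≤ 3) :
    Nat.card D' ≤ 3 := by
  classical
  have hp : p.Prime := Fact.out
  have hD'p : IsPGroup p D' := IsDefectGroup.isPGroup hbD
  set K : Subgroup N := ⁅D', D'⁆
  haveI : K.Normal := Subgroup.commutator_normal D' D'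
  have hKD : K ≤ D' := Subgroup.commutator_le_right D' D'
  obtain ⟨Bbar, hBb, hinf, hdef⟩ := Cfsg.Agent.S4434.result p M hM K (hD'p.to_le hKD) b hbp
  letI := Fintype.ofFinite (N ⧸ K)
  set Db := D'.map (QuotientGroup.mk' K)
  haveI : Db.Normal := Subgroup.Normal.map inferInstance _ (QuotientGroup.mk'_surjective K)
  have hDb : Cfsg.IsDefectGroup p M Bbar Db := (hdef Db).2 ⟨D', hbD, rfl⟩
  have habb : ∀ u ∈ Db, ∀ v ∈ Db, u * v = v * u := by
    rintro _ ⟨u, hu, rfl⟩ _ ⟨v, hv, rfl⟩
    rw [QuotientGroup.mk'_apply, QuotientGroup.mk'_apply, ← QuotientGroup.mk_mul, ← QuotientGroup.mk_mul,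
      QuotientGroup.eq]
    rw [show (u * v)⁻¹ * (v * u) = v⁻¹ * u⁻¹ * (v⁻¹)⁻¹ * (u⁻¹)⁻¹ by group]
    exact Subgroup.commutator_mem_commutator (inv_mem hv) (inv_mem hu)
  have hidx : Db.index = D'.index :=
    Subgroup.index_map_eq _ (QuotientGroup.mk'_surjective K) (by rw [QuotientGroup.ker_mk']; exact hKD)
  -- the members of the block of the quotient have height zero in `b`
  have hh0 : ∀ χ ∈ Bbar, Cfsg.blockHeight p b ((inflate K χ : Cfsg.IrrCharacter N) : N → ℂ) = 0 := by
    intro χ hχ
    have hmem := hinf χ hχ (inflate K χ) rfl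
    have h1 := Cfsg.Lib.Blocks.ThreeChars.deg_factorization hM hBb hDb habb hχ
    rw [hidx, ← show deg (inflate K χ : N → ℂ) = deg (χ : N ⧸ K → ℂ) from Nat.cast_injective (R := ℂ) (by
      rw [← irr_apply_one_eq_deg, ← irr_apply_one_eq_deg, inflate_val, QuotientGroup.mk_one])] at h1
    have hd' : (Nat.card N).factorization p -
        sInf ((fun ψ : Cfsg.IrrCharacter N => (Cfsg.charDegree (ψ : N → ℂ)).factorization p) '' b) =
          (Nat.card D').factorization p := by
      rw [IsDefectGroup.card hM hbp hbD, hp.factorization_pow, Finsupp.single_eq_same]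
      rfl
    have hG : (Nat.card N).factorization p = (Nat.card D').factorization p + D'.index.factorization p := by
      rw [← D'.card_mul_index, Nat.factorization_mul Nat.card_pos.ne' Subgroup.index_ne_zero_of_finite,
        Finsupp.add_apply]
    have hne : (Nat.card D').factorization p ≠ 0 := by
      rw [IsDefectGroup.card hM hbp hbD, hp.factorization_pow, Finsupp.single_eq_same]
      intro h0
      have := IsDefectGroup.card hM hbp hbD
      rw [h0, pow_zero] at this
      omega
    unfold Cfsg.blockHeight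
    rw [charDegree_eq_deg, h1]
    omega
  have hkb : Nat.card Bbar ≤ 3 := by
    let f : Bbar → {ψ : Cfsg.IrrCharacter N // ψ ∈ b ∧ Cfsg.blockHeight p b (ψ : N → ℂ) = 0} :=
      fun χ => ⟨inflate K χ.1, hinf _ χ.2 _ rfl, hh0 _ χ.2⟩
    have hf : Function.Injective f := fun χ ψ h => Subtype.ext (Subtype.ext (funext fun q => by
      obtain ⟨x, rfl⟩ := QuotientGroup.mk_surjective q
      exact congrFun (congrArg (fun t => ((t : Cfsg.IrrCharacter N) : N → ℂ)) (congrArg Subtype.val h)) x))
    refine (Nat.card_le_card_of_injective f hf).trans ?_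
    exact hcnt
  have hDb3 : Nat.card Db ≤ 3 := Cfsg.Lib.Blocks.ThreeChars.card_le_three hM hDb hBb habb hkb
  -- so `D` is cyclic
  have hcyc : ∃ x ∈ D', D' ≤ Subgroup.zpowers x ⊔ K := by
    by_cases h1 : ∀ q ∈ Db, q = 1
    · exact ⟨1, one_mem _, fun z hz => Subgroup.mem_sup_right
        ((QuotientGroup.eq_one_iff z).1 (h1 _ ⟨z, hz, rfl⟩))⟩
    push Not at h1
    obtain ⟨_, ⟨x, hx, rfl⟩, hx1⟩ := h1
    refine ⟨x, hx, fun z hz => ?_⟩
    have hle : Subgroup.zpowers (QuotientGroup.mk' K x) ≤ Db := Subgroup.zpowers_le.2 ⟨x, hx, rfl⟩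
    have hord : 2 ≤ orderOf (QuotientGroup.mk' K x) := by
      have := orderOf_pos (QuotientGroup.mk' K x)
      have : orderOf (QuotientGroup.mk' K x) ≠ 1 := fun h => hx1 (orderOf_eq_one_iff.1 h)
      omega
    have hdvd := Subgroup.card_dvd_of_le hle
    rw [Nat.card_zpowers] at hdvd
    obtain ⟨c, hc⟩ := hdvd
    have hc1 : c = 1 := by
      have : 0 < Nat.card Db := Nat.card_pos
      rcases c with _ | _ | c
      · omega
      · rfl
      · nlinarith
    have heq := Subgroup.eq_of_le_of_card_ge hle (by rw [Nat.card_zpowers, hc, hc1, mul_one])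
    obtain ⟨i, hi⟩ := Subgroup.mem_zpowers_iff.1 (show QuotientGroup.mk' K z ∈ Subgroup.zpowers (QuotientGroup.mk' K x) from
      heq.symm ▸ (⟨z, hz, rfl⟩ : QuotientGroup.mk' K z ∈ Db))
    rw [← map_zpow, QuotientGroup.mk'_apply, QuotientGroup.mk'_apply, QuotientGroup.eq] at hi
    rw [show z = x ^ i * ((x ^ i)⁻¹ * z) by group]
    exact Subgroup.mul_mem_sup ⟨i, rfl⟩ hi
  obtain ⟨x, hx, hxK⟩ := hcyc
  have hKfr : K.subgroupOf D' ≤ frattini D' := by
    have h : commutator D' = K.subgroupOf D' := by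
      apply Subgroup.map_injective D'.subtype_injective
      rw [Subgroup.map_subtype_commutator, Subgroup.map_subgroupOf_eq_of_le hKD]
    exact h ▸ Cfsg.Lib.PGroups.commutator_le_frattini hD'p
  have hgen : Subgroup.zpowers (⟨x, hx⟩ : D') = ⊤ := by
    refine frattini_nongenerating (eq_top_iff.2 fun z _ => ?_)
    obtain ⟨u, hu, w, hw, huw⟩ := Subgroup.mem_sup_of_normal_right.1 (hxK z.2)
    obtain ⟨i, rfl⟩ := hu
    rw [show z = (⟨x, hx⟩ : D') ^ i * ⟨w, hKD hw⟩ from Subtype.ext (by simp [← huw])]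
    exact Subgroup.mul_mem_sup ⟨i, rfl⟩ (hKfr hw)
  have hKbot : K = ⊥ := by
    refine (Subgroup.commutator_eq_bot_iff_le_centralizer).2 fun u hu => Subgroup.mem_centralizer_iff.2 fun v hv => ?_
    obtain ⟨i, hi⟩ := Subgroup.mem_zpowers_iff.1 (hgen.symm ▸ Subgroup.mem_top (⟨u, hu⟩ : D') :
      (⟨u, hu⟩ : D') ∈ Subgroup.zpowers (⟨x, hx⟩ : D'))
    obtain ⟨j, hj⟩ := Subgroup.mem_zpowers_iff.1 (hgen.symm ▸ Subgroup.mem_top (⟨v, hv⟩ : D') :
      (⟨v, hv⟩ : D') ∈ Subgroup.zpowers (⟨x, hx⟩ : D'))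
    have hi' : x ^ i = u := congrArg Subtype.val hi
    have hj' : x ^ j = v := congrArg Subtype.val hj
    rw [← hi', ← hj', ← zpow_add, ← zpow_add, add_comm]
  show Nat.card D' ≤ 3
  refine le_trans (Nat.card_le_card_of_injective (fun z : D' => (⟨QuotientGroup.mk' K z, z.1, z.2, rfl⟩ : Db))
    fun z w h => Subtype.ext ?_) hDb3
  have h' := congrArg Subtype.val h
  simp only [QuotientGroup.mk'_apply] at h'
  rw [QuotientGroup.eq, hKbot, Subgroup.mem_bot, inv_mul_eq_one] at h'
  exact h'

/-- Let G be a finite group, p a prime, M a maximal ideal of the algebraic integers containing p, and B a p-block of G with defect group D containing exactly three irreducible characters. Suppose the number of height-zero characters of B equals the number of height-zero characters of its Brauer correspondent b, the block of N_G(D) with defect group D inducing B (as the Alperin–McKay conjecture predicts). Then D has order 3. -/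
theorem result {G : Type*} [Group G] [Finite G] (p : ℕ) [Fact p.Prime] (M : Ideal Cfsg.AlgInt) (hM : Cfsg.IsPModular p M) (B : Set (Cfsg.IrrCharacter G)) (hB : Cfsg.IsPBlock M B) (D : Subgroup G) (hD : Cfsg.IsDefectGroup p M B D) (hk : Nat.card B = 3)
    (b : Set (Cfsg.IrrCharacter (Subgroup.normalizer (D : Set G)))) (hbB : Cfsg.IsInducedBlock M (Subgroup.normalizer (D : Set G)) b B)
    (hbD : Cfsg.IsDefectGroup p M b (D.subgroupOf (Subgroup.normalizer (D : Set G))))
    (hAM : Nat.card {χ : Cfsg.IrrCharacter G // χ ∈ B ∧ Cfsg.blockHeight p B (χ : G → ℂ) = 0} =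
           Nat.card {ψ : Cfsg.IrrCharacter (Subgroup.normalizer (D : Set G)) // ψ ∈ b ∧ Cfsg.blockHeight p b (ψ : Subgroup.normalizer (D : Set G) → ℂ) = 0}) :
    Nat.card D = 3 := by
  classical
  letI := Fintype.ofFinite G
  have hd : Cfsg.blockDefect p B ≠ 0 := fun h => by
    have := ((Cfsg.Agent.S4733.result p M hM B hB).2.1.1 h).1
    omega
  have hcardD : Nat.card D = p ^ Cfsg.blockDefect p B := IsDefectGroup.card hM hB hD
  have hD1 : 1 < Nat.card D := hcardD ▸ Nat.one_lt_pow hd (Fact.out : p.Prime).one_lt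
  letI := Fintype.ofFinite (Subgroup.normalizer (D : Set G))
  haveI : (D.subgroupOf (Subgroup.normalizer (D : Set G))).Normal := Subgroup.normal_in_normalizer
  have hcardD' : Nat.card (D.subgroupOf (Subgroup.normalizer (D : Set G))) = Nat.card D :=
    Nat.card_congr (Subgroup.subgroupOfEquivOfLe Subgroup.le_normalizer).toEquiv
  have hle3 : Nat.card D ≤ 3 := by
    rw [← hcardD']
    refine card_le_three_of_height_zero hM hbB.1 hbD (hcardD'.symm ▸ hD1) ?_
    rw [← hAM, ← hk]
    exact Nat.card_le_card_of_injective (fun χ => ⟨χ.1, χ.2.1⟩) fun χ ψ h =>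
      Subtype.ext (congrArg (fun t : B => (t : Cfsg.IrrCharacter G)) h)
  rcases (show Nat.card D = 2 ∨ Nat.card D = 3 by omega) with h | h
  · have := (TwoMember.card_eq_two_iff hM hB hD).2 h
    omega
  · exact h

end Cfsg.Agent.S4609
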