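import Cfsg.Statements.S4611
import Cfsg.Agent.Blocks.PrincipalSolvable
import Cfsg.Agent.Blocks.ItoDegrees
-- import your own Cfsg.Agent.* helpers here

set_option autoImplicit false
open Cfsg

namespace Cfsg.Agent.S4611

set_option linter.unusedSectionVars false

open Cfsg.Lib.Blocks Cfsg.Lib.Chars

/-- Let G be a finite solvable group and π a nonempty set of primes, each dividing the order of G; fix for each p in π a maximal ideal M p of the algebraic integers containing p. Then the only irreducible character lying in the principal p-block for every p in π is the principal character if and only if G is generated by the subgroups O_{p'}(G), p in π (the largest normal subgroups of order prime to p). -/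
theorem result {G : Type*} [Group G] [Finite G] [Group.IsSolvable G] (π : Set ℕ) (hπ : ∀ p ∈ π, p.Prime ∧ p ∣ Nat.card G) (hne : π.Nonempty) (M : ℕ → Ideal Cfsg.AlgInt) (hM : ∀ p ∈ π, Cfsg.IsPModular p (M p)) :
    (∀ χ : Cfsg.IrrCharacter G, (∀ p ∈ π, χ ∈ Cfsg.principalBlock (M p) G) → (χ : G → ℂ) = fun _ => 1) ↔
      ⨆ p ∈ π, Cfsg.pPrimeCore p G = ⊤ := by
  classical
  letI := Fintype.ofFinite G
  haveI : ∀ p, (Cfsg.pPrimeCore p G).Normal := fun p => Cfsg.Lib.Components.pPrimeCore_normal' p
  have key : ∀ p ∈ π, ∀ χ : Cfsg.IrrCharacter G, χ ∈ Cfsg.principalBlock (M p) G ↔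
      ∀ n ∈ Cfsg.pPrimeCore p G, (χ : G → ℂ) n = (χ : G → ℂ) 1 := fun p hp χ => by
    haveI := Fact.mk (hπ p hp).1
    exact mem_principalBlock_iff_of_isPSolvable (hM p hp) (isPSolvable_of_solvable inferInstance) χ
  set K : Subgroup G := ⨆ p ∈ π, Cfsg.pPrimeCore p G with hK
  constructor
  · intro h
    haveI : K.Normal := by
      haveI : ∀ p, (⨆ _ : p ∈ π, Cfsg.pPrimeCore p G).Normal := fun p => Subgroup.iSup_normal _
      exact Subgroup.iSup_normal _
    by_contra hne
    haveI : Nontrivial (G ⧸ K) := QuotientGroup.nontrivial_iff.2 hne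
    letI := Fintype.ofFinite (G ⧸ K)
    obtain ⟨q, hq⟩ := exists_ne (1 : G ⧸ K)
    haveI : Nontrivial (ConjClasses (G ⧸ K)) :=
      ⟨⟨ConjClasses.mk q, ConjClasses.mk 1, fun h' => hq (by
        have := ConjClasses.mk_eq_mk_iff_isConj.1 h'
        first | exact isConj_one_left.1 this | exact isConj_one_right.1 this | exact (isConj_one_left.1 this).symm | exact (isConj_one_right.1 this).symm)⟩⟩
    have hcard : 1 < Nat.card (Cfsg.IrrCharacter (G ⧸ K)) := by
      rw [card_irrCharacter]; exact Finite.one_lt_card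
    obtain ⟨φ, hφ⟩ : ∃ φ : Cfsg.IrrCharacter (G ⧸ K), φ ≠ principal (G ⧸ K) := by
      by_contra hall
      push Not at hall
      haveI : Subsingleton (Cfsg.IrrCharacter (G ⧸ K)) := ⟨fun a b => (hall a).trans (hall b).symm⟩
      exact absurd (Finite.card_le_one_iff_subsingleton.2 ‹_›) (not_le.2 hcard)
    refine hφ (Subtype.ext (funext fun y => ?_))
    obtain ⟨x, rfl⟩ := QuotientGroup.mk_surjective y
    refine congrFun (h (inflate K φ) fun p hp => (key p hp _).2 fun n hn => ?_) x
    rw [inflate_val, inflate_val, QuotientGroup.mk_one,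
      (QuotientGroup.eq_one_iff n).2 ((le_iSup₂ (f := fun p (_ : p ∈ π) => Cfsg.pPrimeCore p G) p hp) hn)]
  · intro htop χ h
    obtain ⟨m, ρ, hρ, hρχ⟩ := χ.2
    have hle : K ≤ ρ.ker := iSup₂_le fun p hp n hn =>
      (eq_id_of_character_eq_finrank ρ n).mp (by
        rw [hρχ, (key p hp χ).1 (h p hp) n hn, ← hρχ, ρ.char_one])
    have hcl : ∀ g, (χ : G → ℂ) g = (χ : G → ℂ) 1 := fun g => by
      have hg : ρ g = 1 := hle (htop ▸ Subgroup.mem_top g)
      rw [← hρχ, Representation.character, Representation.character, hg, map_one ρ]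
    have h1 := classInner_irr_self χ
    rw [classInner_def, Finset.sum_congr rfl fun g _ => by rw [hcl g], Finset.sum_const,
      Finset.card_univ, nsmul_eq_mul, Nat.card_eq_fintype_card, ← mul_assoc,
      inv_mul_cancel₀ (Nat.cast_ne_zero.2 Fintype.card_ne_zero), one_mul,
      irr_apply_one_eq_deg, Complex.conj_natCast] at h1
    have hd : deg (χ : G → ℂ) = 1 := Nat.eq_one_of_mul_eq_one_right (by exact_mod_cast h1)
    funext g
    rw [hcl g, irr_apply_one_eq_deg, hd, Nat.cast_one]

end Cfsg.Agent.S4611
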