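import Cfsg.Statements.S4620
import Cfsg.Agent.Components.Supplement
-- import your own Cfsg.Agent.* helpers here

set_option autoImplicit false
open scoped Pointwise
open Cfsg

namespace Cfsg.Agent.S4620

set_option linter.unusedSectionVars false

open scoped Pointwise

/-- Let H be a finite group with no nontrivial normal p-subgroup and no nontrivial normal subgroup of order prime to p, whose Sylow p-subgroup P is nontrivial and a trivial-intersection set (P meets its conjugates by elements outside N_H(P) trivially). Then H has a unique minimal normal subgroup N; N is non-abelian simple with trivial centralizer in H (so H embeds in Aut(N)), and a Sylow p-subgroup of N is again a nontrivial trivial-intersection set in N. -/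
theorem result {H : Type*} [Group H] [Finite H] (p : ℕ) [Fact p.Prime] (hOp : Cfsg.pCore p H = ⊥) (hOp' : Cfsg.pPrimeCore p H = ⊥) (P : Sylow p H) (hP1 : (P : Subgroup H) ≠ ⊥)
    (hTI : ∀ g : H, g ∉ Subgroup.normalizer ((P : Subgroup H) : Set H) → (P : Subgroup H) ⊓ (MulAut.conj g • (P : Subgroup H)) = ⊥) :
    ∃ N : Subgroup H, N.Normal ∧ N ≠ ⊥ ∧ (∀ K : Subgroup H, K.Normal → K ≠ ⊥ → N ≤ K) ∧
      IsSimpleGroup N ∧ ¬ IsMulCommutative N ∧ Subgroup.centralizer (N : Set H) = ⊥ ∧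
      ∀ Q : Sylow p N, (Q : Subgroup N) ≠ ⊥ ∧
        ∀ n : N, n ∉ Subgroup.normalizer ((Q : Subgroup N) : Set N) → (Q : Subgroup N) ⊓ (MulAut.conj n • (Q : Subgroup N)) = ⊥ := by
  classical
  have hp : p.Prime := Fact.out
  have key : ∀ (Q : Sylow p H) (s : H), s ∈ (Q : Subgroup H) → s ≠ 1 → ∀ g : H, g * s * g⁻¹ ∈ (Q : Subgroup H) →
      g ∈ Subgroup.normalizer ((Q : Subgroup H) : Set H) := by
    intro Q s hs hs1 g hg
    obtain ⟨c, hc⟩ := MulAction.exists_smul_eq H P Q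
    subst hc
    by_contra hgn
    rw [Sylow.coe_subgroup_smul] at hs hg
    obtain ⟨a, ha, rfl⟩ := (Subgroup.mem_smul_pointwise_iff_exists _ _ _).1 hs
    obtain ⟨b, hb, hb'⟩ := (Subgroup.mem_smul_pointwise_iff_exists _ _ _).1 hg
    have hn : c⁻¹ * g * c ∉ Subgroup.normalizer ((P : Subgroup H) : Set H) := fun h => hgn (by
      refine Sylow.smul_eq_iff_mem_normalizer.1 ?_
      calc g • c • P = c • (c⁻¹ * g * c) • P := by
            rw [← mul_smul, ← mul_smul]; congr 1; group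
        _ = c • P := by rw [Sylow.smul_eq_iff_mem_normalizer.2 h])
    have hb2 : b = c⁻¹ * g * c * a * (c⁻¹ * g * c)⁻¹ := by
      have : c * b * c⁻¹ = g * (c * a * c⁻¹) * g⁻¹ := hb'
      calc b = c⁻¹ * (c * b * c⁻¹) * c := by group
        _ = _ := by rw [this]; group
    have hmem : b ∈ (P : Subgroup H) ⊓ MulAut.conj (c⁻¹ * g * c) • (P : Subgroup H) :=
      ⟨hb, (Subgroup.mem_smul_pointwise_iff_exists _ _ _).2 ⟨a, ha, hb2.symm⟩⟩
    rw [hTI _ hn, Subgroup.mem_bot] at hmem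
    rw [hmem] at hb'
    apply hs1
    have h2 : g * (c * a * c⁻¹) * g⁻¹ = 1 :=
      (show c * (1 : H) * c⁻¹ = g * (c * a * c⁻¹) * g⁻¹ from hb').symm.trans (by group)
    show c * a * c⁻¹ = 1
    exact conj_eq_one_iff.1 h2
  have hdvd : ∀ S : Subgroup H, S.IsSubnormal → S ≠ ⊥ → p ∣ Nat.card S := by
    intro S hS hS1
    by_contra h
    have := Cfsg.Lib.Components.le_pPrimeCore_of_subnormal hS (hp.coprime_iff_not_dvd.2 h).symm
    rw [hOp', le_bot_iff] at this
    exact hS1 this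
  have hno : ∀ S T : Subgroup H, S.IsSubnormal → T.IsSubnormal → S ≠ ⊥ → T ≠ ⊥ →
      (∀ a ∈ S, ∀ b ∈ T, a * b = b * a) → False := by
    intro S T hS hT hS1 hT1 hcomm
    obtain ⟨s, hs⟩ := exists_prime_orderOf_dvd_card' (G := S) p (hdvd S hS hS1)
    obtain ⟨t, ht⟩ := exists_prime_orderOf_dvd_card' (G := T) p (hdvd T hT hT1)
    rw [← Subgroup.orderOf_coe] at hs ht
    have hsp : IsPGroup p (Subgroup.zpowers (s : H)) :=
      IsPGroup.of_card (n := 1) (by rw [Nat.card_zpowers, hs, pow_one])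
    obtain ⟨Q, hQ⟩ := hsp.exists_le_sylow
    have hsQ : (s : H) ∈ (Q : Subgroup H) := hQ (Subgroup.mem_zpowers _)
    have hs1 : (s : H) ≠ 1 := fun h => hp.one_lt.ne' (by rw [← hs, h, orderOf_one])
    have hTN : T ≤ Subgroup.normalizer ((Q : Subgroup H) : Set H) := fun x hx =>
      key Q s hsQ hs1 x (by rw [← hcomm s s.2 x hx, mul_inv_cancel_right]; exact hsQ)
    have htQ : (t : H) ∈ (Q : Subgroup H) := by
      have htp : IsPGroup p (Subgroup.zpowers (t : H)) :=
        IsPGroup.of_card (n := 1) (by rw [Nat.card_zpowers, ht, pow_one])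
      have h2 : IsPGroup p ↥((Q : Subgroup H) ⊔ Subgroup.zpowers (t : H)) :=
        IsPGroup.to_sup_of_normal_left' Q.isPGroup' htp (Subgroup.zpowers_le.2 (hTN t.2))
      have h3 := Q.is_maximal' h2 le_sup_left
      exact h3 ▸ (le_sup_right : Subgroup.zpowers (t : H) ≤ _) (Subgroup.mem_zpowers _)
    have hsub : ((Q : Subgroup H) ⊓ T).IsSubnormal := by
      refine Subgroup.IsSubnormal.step _ T inf_le_right hT ⟨fun a ha x => ?_⟩
      refine ⟨?_, T.mul_mem (T.mul_mem x.2 (show (a : H) ∈ T from ha.2)) (T.inv_mem x.2)⟩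
      exact (Subgroup.mem_normalizer_iff.1 (hTN x.2) _).1 ha.1
    have hle := Cfsg.Lib.Components.le_pCore_of_subnormal hsub (Q.isPGroup'.to_le inf_le_left)
    rw [hOp] at hle
    have : (t : H) = 1 := Subgroup.mem_bot.1 (hle ⟨htQ, t.2⟩)
    exact hp.one_lt.ne' (by rw [← ht, this, orderOf_one])
  have hdisj : ∀ A B : Subgroup H, A ⊓ B = ⊥ →
      (∀ a ∈ A, ∀ b ∈ B, a * b * a⁻¹ ∈ B) → (∀ b ∈ B, ∀ a ∈ A, b * a * b⁻¹ ∈ A) →
      ∀ a ∈ A, ∀ b ∈ B, a * b = b * a := by
    intro A B hAB h1 h2 a ha b hb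
    have hm : a * b * a⁻¹ * b⁻¹ ∈ A ⊓ B := ⟨by
      rw [show a * b * a⁻¹ * b⁻¹ = a * (b * a⁻¹ * b⁻¹) by group]
      exact A.mul_mem ha (h2 b hb _ (A.inv_mem ha)), B.mul_mem (h1 a ha b hb) (B.inv_mem hb)⟩
    rw [hAB, Subgroup.mem_bot, mul_inv_eq_one, mul_inv_eq_iff_eq_mul] at hm
    exact hm
  have htop : (⊤ : Subgroup H) ≠ ⊥ := fun h => hP1 (le_bot_iff.1 (h ▸ le_top))
  obtain ⟨N, ⟨hN, hN1⟩, hmin⟩ := (Set.toFinite {K : Subgroup H | K.Normal ∧ K ≠ ⊥}).exists_minimal
    ⟨⊤, inferInstance, htop⟩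
  haveI := hN
  have huniq : ∀ K : Subgroup H, K.Normal → K ≠ ⊥ → N ≤ K := by
    intro K hK hK1
    haveI := hK
    by_cases h : N ⊓ K = ⊥
    · exact (hno N K hN.isSubnormal hK.isSubnormal hN1 hK1 (hdisj N K h
        (fun a _ b hb => hK.conj_mem b hb a) fun b _ a ha => hN.conj_mem a ha b)).elim
    · exact (hmin ⟨inferInstance, h⟩ inf_le_left).trans inf_le_right
  refine ⟨N, hN, hN1, huniq, ?_, ?_, ?_, ?_⟩
  · haveI : Nontrivial N := (Subgroup.nontrivial_iff_ne_bot N).2 hN1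
    refine ⟨fun S hS => or_iff_not_imp_left.2 fun hS1 => ?_⟩
    obtain ⟨M, ⟨hMn, hM1, hMS⟩, hMmin⟩ :=
      (Set.toFinite {A : Subgroup N | A.Normal ∧ A ≠ ⊥ ∧ A ≤ S}).exists_minimal ⟨S, hS, hS1, le_rfl⟩
    have hmap_ne : M.map N.subtype ≠ ⊥ := fun h => hM1 ((Subgroup.map_eq_bot_iff_of_injective _ N.subtype_injective).1 h)
    have hconjM : ∀ n : N, ∀ m ∈ M.map N.subtype, (n : H) * m * (n : H)⁻¹ ∈ M.map N.subtype := by
      rintro n _ ⟨m, hm, rfl⟩
      exact ⟨n * m * n⁻¹, hMn.conj_mem m hm n, rfl⟩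
    have hsnM : (M.map N.subtype).IsSubnormal := by
      refine Subgroup.IsSubnormal.step _ N (Subgroup.map_subtype_le M) hN.isSubnormal ?_
      rw [Subgroup.subgroupOf, Subgroup.comap_map_eq_self_of_injective N.subtype_injective]
      exact hMn
    have hall : (M.map N.subtype).Normal := by
      refine ⟨fun m hm g => ?_⟩
      by_contra hg
      set T := (M.map N.subtype).map (MulAut.conj g).toMonoidHom with hT
      have hTN : T ≤ N := by
        rintro _ ⟨x, hx, rfl⟩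
        exact hN.conj_mem x (Subgroup.map_subtype_le M hx) g
      have hconjT : ∀ n : N, ∀ x ∈ T, (n : H) * x * (n : H)⁻¹ ∈ T := by
        rintro n _ ⟨x, hx, rfl⟩
        refine ⟨(g⁻¹ * n * g) * x * (g⁻¹ * n * g)⁻¹,
          hconjM ⟨g⁻¹ * n * g, by simpa using hN.conj_mem n n.2 g⁻¹⟩ x hx, ?_⟩
        simp only [MulEquiv.coe_toMonoidHom, MulAut.conj_apply]
        group
      have hcardT : Nat.card T = Nat.card (M.map N.subtype) :=
        Subgroup.card_map_of_injective (MulAut.conj g).injective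
      have hint : M.map N.subtype ⊓ T = ⊥ := by
        by_contra hne
        have hAn : ((M.map N.subtype ⊓ T).subgroupOf N).Normal :=
          ⟨fun a ha n => ⟨hconjM n _ ha.1, hconjT n _ ha.2⟩⟩
        have hA1 : (M.map N.subtype ⊓ T).subgroupOf N ≠ ⊥ := fun h => hne
          ((Subgroup.eq_bot_iff_forall _).2 fun x hx => congrArg Subtype.val
            ((Subgroup.eq_bot_iff_forall _).1 h ⟨x, Subgroup.map_subtype_le M hx.1⟩ hx))
        have hAM : (M.map N.subtype ⊓ T).subgroupOf N ≤ M := fun a ha => by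
          obtain ⟨m', hm', e⟩ := ha.1
          rwa [← N.subtype_injective e]
        have hMA : M ≤ (M.map N.subtype ⊓ T).subgroupOf N :=
          hMmin ⟨hAn, hA1, hAM.trans hMS⟩ hAM
        have hMT : M.map N.subtype ≤ T := fun x hx => by
          obtain ⟨m', hm', rfl⟩ := hx
          exact (hMA hm').2
        have heq : M.map N.subtype = T := Subgroup.eq_of_le_of_card_ge hMT hcardT.le
        exact hg (heq ▸ ⟨m, hm, rfl⟩)
      have hsnT : T.IsSubnormal := by
        refine Subgroup.IsSubnormal.step _ N hTN hN.isSubnormal ⟨fun a ha n => ?_⟩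
        exact hconjT n _ ha
      have hT1 : T ≠ ⊥ := fun h => hmap_ne (by
        rw [← Subgroup.card_eq_one, ← hcardT, h, Subgroup.card_bot])
      exact hno _ T hsnM hsnT hmap_ne hT1 (hdisj _ T hint
        (fun a ha b hb => hconjT ⟨a, Subgroup.map_subtype_le M ha⟩ b hb)
        fun b hb a ha => hconjM ⟨b, hTN hb⟩ a ha)
    have hNM := huniq _ hall hmap_ne
    rw [eq_top_iff]
    intro x _
    obtain ⟨y, hy, e⟩ := hNM x.2
    rw [← N.subtype_injective e]
    exact hMS hy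
  · intro h
    exact hno N N hN.isSubnormal hN.isSubnormal hN1 hN1 fun a ha b hb =>
      congrArg Subtype.val (h.is_comm.comm ⟨a, ha⟩ ⟨b, hb⟩)
  · by_contra h
    exact hno N _ hN.isSubnormal (Subgroup.normal_centralizer (H := N)).isSubnormal hN1 h
      fun a ha b hb => (Subgroup.mem_centralizer_iff.1 hb a ha)
  · intro Q
    have hQ1 : (Q : Subgroup N) ≠ ⊥ := Q.ne_bot_of_dvd_card (hdvd N hN.isSubnormal hN1)
    refine ⟨hQ1, fun n hn => ?_⟩
    by_contra hne
    obtain ⟨⟨y, hy, hyn⟩, hy1⟩ := Subgroup.ne_bot_iff_exists_ne_one.1 hne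
    obtain ⟨z, hz, hzy⟩ := (Subgroup.mem_smul_pointwise_iff_exists _ _ _).1 hyn
    obtain ⟨R, hR⟩ := (Q.isPGroup'.map N.subtype).exists_le_sylow
    have hRN : (R : Subgroup H).subgroupOf N = (Q : Subgroup N) :=
      Q.is_maximal' ((R.isPGroup'.to_le inf_le_left).of_equiv
        (((Subgroup.subgroupOfEquivOfLe (inf_le_right : (R : Subgroup H) ⊓ N ≤ N)).symm.trans
          (MulEquiv.subgroupCongr (Subgroup.inf_subgroupOf_right _ _)))))
        (fun x hx => hR ⟨x, hx, rfl⟩)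
    have hz1 : (z : H) ≠ 1 := by
      intro h
      have hzz : z = 1 := Subtype.ext h
      refine hy1 (Subtype.ext ?_)
      show y = 1
      rw [← hzy, hzz, smul_one]
    have hyR : (n : H) * z * (n : H)⁻¹ ∈ (R : Subgroup H) := by
      have h2 : (y : H) = (n : H) * z * (n : H)⁻¹ := by rw [← hzy]; rfl
      rw [← h2]; exact hR ⟨y, hy, rfl⟩
    have hnR := key R z (hR ⟨z, hz, rfl⟩) hz1 n hyR
    refine hn (Subgroup.mem_normalizer_iff.2 fun x => ?_)
    rw [← hRN, Subgroup.mem_subgroupOf, Subgroup.mem_subgroupOf]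
    exact Subgroup.mem_normalizer_iff.1 hnR x

end Cfsg.Agent.S4620
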