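import Cfsg.Statements.S4621
import Cfsg.Agent.CoprimeBase.Main

set_option autoImplicit false
open Cfsg

namespace Cfsg.Agent.S4621

/-- Let F be a finite field of odd characteristic, V a finite-dimensional vector space over F, and G a finite solvable group acting faithfully and linearly on V with the order of G coprime to the number of vectors of V. Then there are two vectors x, y ∈ V such that the only element of G fixing both x and y is the identity. -/
theorem result {F : Type*} [Field F] [Fintype F] (hF : ringChar F ≠ 2) {V : Type*} [AddCommGroup V] [Module F V] [FiniteDimensional F V] [Finite V]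
    {G : Type*} [Group G] [Finite G] [Group.IsSolvable G] (ρ : Representation F G V) (hfaith : Function.Injective ρ) (hcop : (Nat.card G).Coprime (Nat.card V)) :
    ∃ x y : V, ∀ g : G, ρ g x = x → ρ g y = y → g = 1 := by
  classical
  rcases subsingleton_or_nontrivial V with hV | hV
  · refine ⟨0, 0, fun g _ _ => hfaith ?_⟩
    exact LinearMap.ext fun v => Subsingleton.elim _ _
  obtain ⟨p, hp⟩ := CharP.exists F
  haveI := hp
  have hpp : p.Prime := CharP.char_is_prime F p
  haveI : Fact p.Prime := ⟨hpp⟩
  letI : DistribMulAction G V :=
    { smul := fun g v => ρ g v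
      one_smul := fun v => by show ρ 1 v = v; rw [map_one]; rfl
      mul_smul := fun g h v => by show ρ (g * h) v = ρ g (ρ h v); rw [map_mul]; rfl
      smul_zero := fun g => map_zero (ρ g)
      smul_add := fun g v w => map_add (ρ g) v w }
  have hexp : ∀ v : V, p • v = 0 := fun v => by
    rw [← Nat.cast_smul_eq_nsmul F, CharP.cast_eq_zero, zero_smul]
  have hdvd : p ∣ Nat.card V := by
    obtain ⟨v, hv⟩ := exists_ne (0 : V)
    have h1 : addOrderOf v = p := addOrderOf_eq_prime (hexp v) hv
    rw [← h1]
    exact addOrderOf_dvd_natCard v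
  have hA : ¬ p ∣ Nat.card G := fun h =>
    hpp.not_dvd_one (hcop ▸ Nat.dvd_gcd h hdvd)
  obtain ⟨x, y, hxy⟩ := Cfsg.Lib.CoprimeBase.pair_coprime (A := G) (V := V) inferInstance hexp hA
  refine ⟨x, y, fun g hgx hgy => hfaith ?_⟩
  rw [map_one]
  exact LinearMap.ext fun v => hxy g hgx hgy v

end Cfsg.Agent.S4621
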