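import Cfsg.Statements.S4626
import Cfsg.Agent.Blocks.Defect2
import Cfsg.Agent.Chars.Degree
-- import your own Cfsg.Agent.* helpers here

set_option autoImplicit false
open Cfsg

namespace Cfsg.Agent.S4626

set_option linter.unusedSectionVars false

open Cfsg.Lib.Blocks Cfsg.Lib.Chars

/-- Let G be a finite group, p a prime, M a maximal ideal of the algebraic integers containing p, P a Sylow p-subgroup of G and N a normal subgroup of index prime to p containing the centralizer C_G(P). Then every irreducible character of G whose kernel contains N lies in the principal p-block of G. -/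
theorem result {G : Type*} [Group G] [Finite G] (p : ℕ) [Fact p.Prime] (M : Ideal Cfsg.AlgInt) (hM : Cfsg.IsPModular p M) (P : Sylow p G) (N : Subgroup G) [N.Normal] (hidx : ¬ p ∣ N.index)
    (hC : Subgroup.centralizer ((P : Subgroup G) : Set G) ≤ N) (χ : Cfsg.IrrCharacter G) (hker : ∀ n ∈ N, (χ : G → ℂ) n = (χ : G → ℂ) 1) :
    χ ∈ Cfsg.principalBlock M G := by
  classical
  letI := Fintype.ofFinite G
  have hdeg : deg (χ : G → ℂ) ∣ N.index :=
    deg_dvd_index_of_le_ker χ.2 N hker
  show SameBlock M (fun _ : G => (1 : ℂ)) (χ : G → ℂ)
  refine (sameBlock_iff_res hM (principal G) χ).2 fun g => ?_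
  have hc1 : centralChar ((principal G : IrrCharacter G) : G → ℂ) g =
      ((Subgroup.centralizer ({g} : Set G)).index : ℂ) := by
    simp [centralChar, principal]
  rw [hc1]
  by_cases hp : p ∣ (Subgroup.centralizer ({g} : Set G)).index
  · rw [(res_eq_zero_iff (natCast_mem_place _)).2 (small_natCast hM hp), eq_comm,
      res_eq_zero_iff (centralChar_mem_place hM χ g), centralChar]
    rw [mul_div_assoc]
    refine (small_natCast hM hp).mul_mem ?_
    rw [irr_apply_one_eq_deg, div_eq_mul_inv]
    exact mul_mem (isIntegral_mem_place hM (IsCharacter.isIntegral (isCharacter_of_irr χ.2) g))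
      (isUnitAt_natCast hM fun h => hidx (h.trans hdeg)).inv.mem_place
  · have hgN : g ∈ N := by
      obtain ⟨S⟩ : Nonempty (Sylow p (Subgroup.centralizer ({g} : Set G))) := inferInstance
      set S' := (S : Subgroup _).map (Subgroup.centralizer ({g} : Set G)).subtype with hS'
      have hp' : IsPGroup p S' := S.2.map _
      obtain ⟨R, hR⟩ := hp'.exists_le_sylow
      have hRe : (R : Subgroup G) = S' := by
        refine (Subgroup.eq_of_le_of_card_ge hR ?_).symm
        rw [hS', Subgroup.card_map_of_injective (Subgroup.subtype_injective _),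
          S.card_eq_multiplicity, R.card_eq_multiplicity,
          ← Subgroup.card_mul_index (Subgroup.centralizer ({g} : Set G)),
          Nat.factorization_mul Nat.card_pos.ne' Subgroup.index_ne_zero_of_finite,
          Finsupp.add_apply, Nat.factorization_eq_zero_of_not_dvd hp, add_zero]
      obtain ⟨a, ha⟩ := MulAction.exists_smul_eq G R P
      have hcg : MulAut.conj a g ∈ Subgroup.centralizer ((P : Subgroup G) : Set G) := by
        rw [Subgroup.mem_centralizer_iff]
        intro y hy
        rw [← ha] at hy
        obtain ⟨r, hr, rfl⟩ := hy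
        have hr' : r ∈ S' := hRe ▸ hr
        obtain ⟨w, -, rfl⟩ := hr'
        have hw := Subgroup.mem_centralizer_singleton_iff.1 w.2
        show MulAut.conj a (w : G) * MulAut.conj a g = MulAut.conj a g * MulAut.conj a (w : G)
        rw [← map_mul, ← map_mul, hw]
      have hn := hC hcg
      have := (inferInstance : N.Normal).conj_mem _ hn a⁻¹
      simpa [mul_assoc] using this
    rw [centralChar, hker g hgN, mul_div_assoc,
      div_self (IsIrrCharacter.apply_one_ne_zero χ.2), mul_one]

end Cfsg.Agent.S4626
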