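import Cfsg.Statements.S4634
import Cfsg.Agent.Blocks.CyclicDefect.BlockSide
import Cfsg.Agent.Blocks.CyclicDefect.FrobeniusSide

set_option autoImplicit false
open Cfsg

namespace Cfsg.Agent.S4634

open Cfsg.Lib.Blocks

/-- Let B be a block of the finite group G relative to a maximal ideal M of the algebraic integers containing the prime p, with a nontrivial cyclic defect group P, let c be a block of C_G(P) inducing B, T the stabilizer of c in N_G(P) and e the index of C_G(P) in T. Let F be any finite group of order #P · e having a cyclic subgroup Q of order #P that is its own centralizer (F is then the semidirect product of Q by a cyclic group of order e acting faithfully). Then there is a perfect isometry from the set of all irreducible characters of F onto B whose signs agree on all the characters of F that do not contain Q in their kernel. -/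
theorem result {G : Type*} [Group G] [Finite G] (p : ℕ) [Fact p.Prime] (M : Ideal Cfsg.AlgInt) (hM : Cfsg.IsPModular p M) (B : Set (Cfsg.IrrCharacter G)) (hB : Cfsg.IsPBlock M B) (P : Subgroup G) (hPD : Cfsg.IsDefectGroup p M B P) (hP1 : P ≠ ⊥) (hcyc : IsCyclic P) (c : Set (Cfsg.IrrCharacter (Subgroup.centralizer (P : Set G)))) (hc : Cfsg.IsInducedBlock M (Subgroup.centralizer (P : Set G)) c B) (T : Subgroup G) (hT : ∀ g : G, g ∈ T ↔ (g ∈ Subgroup.normalizer (P : Set G) ∧ Cfsg.StabilizesBlock (Subgroup.centralizer (P : Set G)) c g)) (e : ℕ) (he : (Subgroup.centralizer (P : Set G)).relIndex T = e) (F : Type*) [Group F] [Finite F] (hF : Nat.card F = Nat.card P * e) (Q : Subgroup F) (hQ : IsCyclic Q) (hQcard : Nat.card Q = Nat.card P) (hQC : Subgroup.centralizer (Q : Set F) = Q) : ∃ (I : Cfsg.IrrCharacter F → Cfsg.IrrCharacter G) (ε : Cfsg.IrrCharacter F → ℤ), Cfsg.IsPerfectIsometry p M (Set.univ : Set (Cfsg.IrrCharacter F)) B I ε ∧ ∀ η η' : Cfsg.IrrCharacter F, (∃ x ∈ Q, (η : F → ℂ) x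 ≠ (η : F → ℂ) 1) → (∃ x ∈ Q, (η' : F → ℂ) x ≠ (η' : F → ℂ) 1) → ε η = ε η' := by
  classical
  haveI := Fintype.ofFinite G
  haveI := Fintype.ofFinite F
  have hpair := (isBrauerPairOf_iff hM B P c).2 ⟨IsDefectGroup.isPGroup hPD, hc⟩
  obtain ⟨hdvd, s⟩ := CyclicDefect.inertia_props hM hPD hpair hcyc hP1 hT
  obtain ⟨E⟩ := CyclicDefect.exists_exceptional hM hPD hpair hcyc hP1 hT
  have hA := CyclicDefect.card_inertAut (P := P) (T := T) (c := c) hT
  obtain ⟨SG⟩ := CyclicDefect.exists_block_side s E hA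
  haveI : Nontrivial P := (Subgroup.nontrivial_iff_ne_bot P).2 hP1
  obtain ⟨n, hn0, hn⟩ := (IsPGroup.nontrivial_iff_card (IsDefectGroup.isPGroup hPD)).1 inferInstance
  rw [he] at hA hdvd
  obtain ⟨SF, hSF⟩ := CyclicDefect.exists_frobenius_side (M := M) hcyc hn hn0
    (CyclicDefect.freeAut_inertAut s) (hA.symm ▸ hdvd) F (by rw [hF, hA]) Q hQ hQcard hQC
  letI : CommGroup P := IsCyclic.commGroup
  haveI : Fintype (P →* ℂˣ) := Fintype.ofFinite _
  obtain ⟨I, ε, hI, -, hΨ⟩ :=
    CyclicDefect.perfect_of_sides hM (CyclicDefect.freeAut_inertAut s) SG SF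
  refine ⟨I, ε, hI, fun η η' hη hη' => ?_⟩
  obtain ⟨l, hl, rfl⟩ := hSF η hη
  obtain ⟨k, hk, rfl⟩ := hSF η' hη'
  rw [(hΨ l hl).2, (hΨ k hk).2]

end Cfsg.Agent.S4634
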