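import Cfsg.Statements.S4636
-- import your own Cfsg.Agent.* helpers here

set_option autoImplicit false
open scoped Pointwise
open Cfsg

namespace Cfsg.Agent.S4636

set_option linter.unusedSectionVars false

lemma mem_conj_smul {G : Type*} [Group G] {H : Subgroup G} {g x : G} :
    x ∈ MulAut.conj g • H ↔ g⁻¹ * x * g ∈ H := by
  rw [Subgroup.mem_pointwise_smul_iff_inv_smul_mem]
  simp

/-- Let P be a nontrivial cyclic p-subgroup of the finite group G and Z its subgroup of order p. For every x outside N_G(Z), P meets its conjugate xPx⁻¹ trivially; consequently N_G(Q) ≤ N_G(Z) for every nontrivial subgroup Q of P. -/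
theorem result {G : Type*} [Group G] [Finite G] (p : ℕ) [Fact p.Prime] (P : Subgroup G) (hP : IsPGroup p P) (hP1 : P ≠ ⊥) (hcyc : IsCyclic P) (Z : Subgroup G) (hZ : Z ≤ P) (hZcard : Nat.card Z = p) : (∀ x : G, x ∉ Subgroup.normalizer (Z : Set G) → P ⊓ MulAut.conj x • P = ⊥) ∧ ∀ Q : Subgroup G, Q ≤ P → Q ≠ ⊥ → Subgroup.normalizer (Q : Set G) ≤ Subgroup.normalizer (Z : Set G) := by
  classical
  haveI := hcyc
  have huniq : ∀ Y : Subgroup G, Y ≤ P → Nat.card Y = p → Y = Z := by
    intro Y hY hYc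
    have h1 : ∀ W : Subgroup G, W ≤ P → Nat.card W = p → ∀ w ∈ W, w ^ p = 1 := by
      intro W _ hWc w hw
      have := pow_card_eq_one' (G := W) (x := ⟨w, hw⟩)
      rw [hWc] at this
      simpa using congrArg Subtype.val this
    haveI := Fintype.ofFinite P
    let R := Finset.univ.filter (fun x : P => x ^ p = 1)
    have hR : R.card ≤ p := IsCyclic.card_pow_eq_one_le (Fact.out : p.Prime).pos
    have hsub : ∀ W : Subgroup G, W ≤ P → Nat.card W = p →
        Finset.univ.filter (fun x : P => (x : G) ∈ W) = R := by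
      intro W hW hWc
      refine Finset.eq_of_subset_of_card_le (fun x hx => ?_) ?_
      · simp only [Finset.mem_filter, Finset.mem_univ, true_and, R] at hx ⊢
        exact Subtype.ext (by simpa using h1 W hW hWc _ hx)
      · refine hR.trans (le_of_eq ?_)
        rw [← hWc, ← Fintype.card_subtype, ← Nat.card_eq_fintype_card]
        exact Nat.card_congr
          ⟨fun w => ⟨⟨w, hW w.2⟩, w.2⟩, fun x => ⟨x.1, x.2⟩, fun w => rfl, fun x => rfl⟩
    ext y
    constructor
    · intro hy
      have h2 : (⟨y, hY hy⟩ : P) ∈ Finset.univ.filter (fun x : P => (x : G) ∈ Y) := by simp [hy]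
      rw [hsub Y hY hYc, ← hsub Z hZ hZcard] at h2
      simpa using h2
    · intro hy
      have h2 : (⟨y, hZ hy⟩ : P) ∈ Finset.univ.filter (fun x : P => (x : G) ∈ Z) := by simp [hy]
      rw [hsub Z hZ hZcard, ← hsub Y hY hYc] at h2
      simpa using h2
  have hZQ : ∀ Q : Subgroup G, Q ≤ P → Q ≠ ⊥ → Z ≤ Q := by
    intro Q hQ hQ1
    have hQp : IsPGroup p Q := hP.to_le hQ
    haveI : Nontrivial Q := (Subgroup.nontrivial_iff_ne_bot Q).2 hQ1
    obtain ⟨n, hn, hc⟩ := hQp.nontrivial_iff_card.1 inferInstance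
    obtain ⟨q, hq⟩ := exists_prime_orderOf_dvd_card' (G := Q) p (hc ▸ dvd_pow_self p hn.ne')
    have hqZ := huniq (Subgroup.zpowers (q : G)) ((Subgroup.zpowers_le.2 q.2).trans hQ)
      (by rw [Nat.card_zpowers, Subgroup.orderOf_coe, hq])
    rw [← hqZ]
    exact Subgroup.zpowers_le.2 q.2
  have hconj : ∀ x : G, MulAut.conj x • Z ≤ P → x ∈ Subgroup.normalizer (Z : Set G) := by
    intro x hx
    have heq := huniq _ hx (by
      exact (Nat.card_congr (Subgroup.equivSMul (MulAut.conj x) Z).toEquiv).symm.trans hZcard)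
    rw [Subgroup.mem_normalizer_iff]
    intro h
    conv_rhs => rw [← heq, mem_conj_smul]
    simp [mul_assoc]
  refine ⟨fun x hx => ?_, fun Q hQ hQ1 g hg => ?_⟩
  · by_contra hne
    have h1 : Z ≤ P ⊓ MulAut.conj x • P := hZQ _ inf_le_left hne
    have h2 : MulAut.conj x⁻¹ • Z ≤ P := by
      intro y hy
      rw [mem_conj_smul, inv_inv] at hy
      have := mem_conj_smul.1 (Subgroup.mem_inf.1 (h1 hy)).2
      simpa [mul_assoc] using this
    exact hx (by simpa using inv_mem (hconj _ h2))
  · refine hconj g fun y hy => hQ ?_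
    rw [mem_conj_smul] at hy
    have := (Subgroup.mem_normalizer_iff.1 hg _).1 (hZQ Q hQ hQ1 hy)
    simpa [mul_assoc] using this

end Cfsg.Agent.S4636
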