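import Cfsg.Statements.S4639
import Cfsg.Agent.Blocks.Frobenius.CentralChain

set_option autoImplicit false
open Cfsg

namespace Cfsg.Agent.S4639

open Cfsg.Lib.Blocks Cfsg.Lib.Blocks.Frobenius

/-- A defect group of the exceptional orders excludes a single Brauer character. -/
lemma no_exception {G : Type*} [Group G] [Fintype G] {p : ℕ} [Fact p.Prime] {M : Ideal AlgInt}
    {B : Set (IrrCharacter G)} {P T : Subgroup G}
    {c : Set (IrrCharacter (Subgroup.centralizer (P : Set G)))} (s : FreePair p M B P T c)
    {m : ℕ} (hm : (Subgroup.centralizer (P : Set G)).relIndex T * m + 1 = Nat.card P)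
    (he : 2 ≤ (Subgroup.centralizer (P : Set G)).relIndex T)
    (hk : Nat.card B = m + blockRank p B) (hl : blockRank p B = 1)
    (h : Nat.card P = 7 ∨ Nat.card P = 13) : False := by
  have hpp := s.toAbPair.card_pow
  have hprime : (Nat.card P).Prime := by rcases h with h | h <;> rw [h] <;> norm_num
  have hd : blockDefect p B = 1 := by
    rw [hpp] at hprime
    exact Nat.Prime.eq_one_of_pow hprime
  have hp : Nat.card P = p := by rw [hpp, hd, pow_one]
  obtain ⟨z, h1, h2, h3, h4⟩ := exists_central_chain s hp (hm.trans hp)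
  have hk1 : Nat.card B - 1 = m := by omega
  have hnot := RankOneSmall.pow_defect_eq_gen s.modular s.pair.2.1 hl
    (Or.inr ⟨z, h1, h2, h3, by rw [hk1]; exact h4⟩)
  rw [hd, pow_one] at hnot
  have : 2 * m ≤ (Subgroup.centralizer (P : Set G)).relIndex T * m := Nat.mul_le_mul_right m he
  omega

/-- Let B be a block of the finite group G relative to a maximal ideal M of the algebraic integers containing the prime p, with a nontrivial commutative defect group P. Let c be a block of C_G(P) inducing B, T the stabilizer of c in N_G(P) and e the index of C_G(P) in T. Suppose that T/C_G(P) is commutative (all commutators of elements of T lie in C_G(P)) and acts freely on the non-identity elements of P (an element of T fixing a non-identity element of P under conjugation lies in C_G(P)). Then B has at most e + (#P − 1)/e irreducible characters and p-regular rank at most e; equality holds in the first bound exactly when it holds in the second; and both equalities hold when e ≤ 3. -/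
theorem result {G : Type*} [Group G] [Finite G] (p : ℕ) [Fact p.Prime] (M : Ideal Cfsg.AlgInt) (hM : Cfsg.IsPModular p M) (B : Set (Cfsg.IrrCharacter G)) (hB : Cfsg.IsPBlock M B) (P : Subgroup G) (hPD : Cfsg.IsDefectGroup p M B P) (hP1 : P ≠ ⊥) (hPab : ∀ x ∈ P, ∀ y ∈ P, x * y = y * x) (c : Set (Cfsg.IrrCharacter (Subgroup.centralizer (P : Set G)))) (hc : Cfsg.IsInducedBlock M (Subgroup.centralizer (P : Set G)) c B) (T : Subgroup G) (hT : ∀ g : G, g ∈ T ↔ (g ∈ Subgroup.normalizer (P : Set G) ∧ Cfsg.StabilizesBlock (Subgroup.centralizer (P : Set G)) c g)) (e : ℕ) (he : (Subgroup.centralizer (P : Set G)).relIndex T = e) (hEab : ∀ g ∈ T, ∀ h ∈ T, g * h * g⁻¹ * h⁻¹ ∈ Subgroup.centralizer (P : Set G)) (hfree : ∀ g ∈ T, ∀ x ∈ P, x ≠ 1 → g * x * g⁻¹ = x → g ∈ Subgroup.centralizer (P : Set G)) : Nat.card B ≤ e + (Nat.card P - 1) / e ∧ Cfsg.blockRank p B ≤ e ∧ (Nat.card B = e + (Nat.card P - 1) / e ↔ Cfsg.blockRank p B = e) ∧ (e ≤ 3 → Nat.card B = e + (Nat.card P - 1) / e ∧ Cfsg.blockRank p B = e) := by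
  haveI := Fintype.ofFinite G
  haveI := Fintype.ofFinite (Subgroup.centralizer (P : Set G))
  have hPp : IsPGroup p P := IsDefectGroup.isPGroup hPD
  have hpair : IsBrauerPairOf p M B P c := (isBrauerPairOf_iff hM B P c).2 ⟨hPp, hc⟩
  have s : FreePair p M B P T c :=
    { modular := hM, defect := hPD, pair := hpair, comm := hPab, stab := hT
      free := fun t ht y hy hy1 h => hfree t ht y hy hy1 h }
  obtain ⟨m, hm1, hm, hk, hl0, hle, hsmall⟩ := s.counts hP1
  rw [he] at hm hle hsmall
  have he0 : 0 < e := by omega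
  have hdiv : (Nat.card P - 1) / e = m := by
    rw [← hm, Nat.add_sub_cancel, Nat.mul_div_cancel_left m he0]
  rw [hdiv]
  refine ⟨by omega, hle, by omega, fun he3 => ?_⟩
  have hl : blockRank p B = e := by
    rcases hsmall he3 with h | ⟨h7, he2, hl1⟩ | ⟨h13, he2, hl1⟩
    · exact h
    · exact (no_exception s (he.symm ▸ hm) (by rw [he, he2]) hk hl1 (Or.inl h7)).elim
    · exact (no_exception s (he.symm ▸ hm) (by rw [he, he2]; norm_num) hk hl1 (Or.inr h13)).elim
  exact ⟨by omega, hl⟩

end Cfsg.Agent.S4639
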