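import Cfsg.Statements.S4641
import Cfsg.Agent.Blocks.IBr.Degrees

set_option autoImplicit false
open Cfsg

namespace Cfsg.Agent.S4641

/-- Let B be a block of the finite group G relative to a maximal ideal M of the algebraic integers containing the prime p, let p^a be the p-part of the order of G and p^d the order of a defect group D of B, and let g be the greatest common divisor of the degrees of the members of B. Then the p-part of g is exactly p^(a−d), and writing g = p^(a−d)·u there is a positive integer v, prime to p and at least the p-regular rank of B (its number of irreducible Brauer characters), with Σ_{χ ∈ B} χ(1)² = p^(2a−d)·u²·v. -/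
theorem result {G : Type*} [Group G] [Finite G] (p : ℕ) [Fact p.Prime] (M : Ideal Cfsg.AlgInt) (hM : Cfsg.IsPModular p M) (B : Set (Cfsg.IrrCharacter G)) (hB : Cfsg.IsPBlock M B) (D : Subgroup G) (hD : Cfsg.IsDefectGroup p M B D) (a d : ℕ) (ha : (Nat.card G).factorization p = a) (hd : Nat.card D = p ^ d) (g : ℕ) (hg1 : ∀ χ ∈ B, g ∣ Cfsg.charDegree (χ : G → ℂ)) (hg2 : ∀ g' : ℕ, (∀ χ ∈ B, g' ∣ Cfsg.charDegree (χ : G → ℂ)) → g' ∣ g) : g.factorization p = a - d ∧ ∃ v : ℕ, 0 < v ∧ ¬ p ∣ v ∧ Cfsg.blockRank p B ≤ v ∧ ∑ᶠ χ ∈ B, Cfsg.charDegree (χ : G → ℂ) ^ 2 = p ^ (2 * a - d) * (g / p ^ (a - d)) ^ 2 * v := by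
  classical
  letI := Fintype.ofFinite G
  have hdd : d = Cfsg.blockDefect p B :=
    Nat.pow_right_injective hM.1.two_le
      (show p ^ d = p ^ Cfsg.blockDefect p B by
        rw [← hd, Cfsg.Lib.Blocks.IsDefectGroup.card hM hB hD])
  subst ha
  subst hdd
  obtain ⟨χ₀, hχ₀⟩ := Cfsg.Lib.Blocks.IsPBlock.nonempty hM hB
  set S := (fun χ : Cfsg.IrrCharacter G => (Cfsg.charDegree (χ : G → ℂ)).factorization p) '' B with hS
  have hg0 : g ≠ 0 := fun h =>
    (Cfsg.Lib.Chars.deg_irr_pos χ₀).ne' (Nat.eq_zero_of_zero_dvd (h ▸ hg1 χ₀ hχ₀))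
  have hpos : ∀ χ : Cfsg.IrrCharacter G, Cfsg.charDegree (χ : G → ℂ) ≠ 0 := fun χ =>
    (Cfsg.Lib.Chars.deg_irr_pos χ).ne'
  obtain ⟨χ₁, hχ₁, hmin⟩ := Nat.sInf_mem (⟨_, χ₀, hχ₀, rfl⟩ : S.Nonempty)
  have hle : sInf S ≤ (Nat.card G).factorization p := by
    obtain ⟨c, hc⟩ := Cfsg.Lib.Blocks.exists_defectClass hM hB
    rw [hS, Cfsg.Lib.Blocks.sInf_deg_eq hM hB hc]
    exact (Nat.factorization_le_iff_dvd Subgroup.index_ne_zero_of_finite Nat.card_pos.ne').2
      (Subgroup.index_dvd_card _) p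
  have hgv : g.factorization p = (Nat.card G).factorization p - Cfsg.blockDefect p B := by
    rw [Cfsg.blockDefect, ← hS, Nat.sub_sub_self hle]
    refine le_antisymm (hmin ▸ (Nat.factorization_le_iff_dvd hg0 (hpos χ₁)).2 (hg1 χ₁ hχ₁) p) ?_
    refine (hM.1.pow_dvd_iff_le_factorization hg0).1 (hg2 _ fun χ hχ => ?_)
    exact (hM.1.pow_dvd_iff_le_factorization (hpos χ)).2 (Nat.sInf_le ⟨χ, hχ, rfl⟩)
  obtain ⟨v, hv, hvp, hsum⟩ := Cfsg.Lib.Blocks.IBr.exists_sq_factor hM hB (g := g) hg1 hgv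
  refine ⟨hgv, v, Nat.pos_of_ne_zero fun h => hvp (h ▸ dvd_zero p), hvp, hv, ?_⟩
  rw [← hsum]
  exact Cfsg.Lib.Blocks.sum_finsum_eq B _

end Cfsg.Agent.S4641
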