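import Cfsg.Statements.S4642
import Cfsg.Agent.Blocks.PrincipalType
-- import your own Cfsg.Agent.* helpers here

set_option autoImplicit false
open Cfsg

namespace Cfsg.Agent.S4642

set_option linter.unusedSectionVars false

open Cfsg.Lib.Blocks Cfsg.Lib.Chars

/-- Let G be a finite group, p a prime, M a maximal ideal of the algebraic integers containing p, K the largest normal subgroup of G of order prime to p, and L the preimage in G of the largest normal p-subgroup of G/K. Let Q be a Sylow p-subgroup of L and suppose C_G(Q) ≤ L. Let θ be an irreducible character of K invariant under conjugation by every element of G, and let B be the set of irreducible characters of G whose restriction to K contains θ. Then B is a block of G, every Sylow p-subgroup of G is a defect group of B, and B is of principal type: for every p-subgroup R of G exactly one block of C_G(R) induces B. -/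
theorem result {G : Type*} [Group G] [Fintype G] (p : ℕ) [Fact p.Prime] (M : Ideal Cfsg.AlgInt) (hM : Cfsg.IsPModular p M) (K : Subgroup G) (hK : K = Cfsg.pPrimeCore p G) [Fintype K] (L : Subgroup G) (hL : L = Cfsg.pPrimePCore p G) (Q : Subgroup G) (hQL : Q ≤ L) (hQp : IsPGroup p Q) (hQS : ¬ p ∣ Q.relIndex L) (hCQ : Subgroup.centralizer (Q : Set G) ≤ L) (θ : Cfsg.IrrCharacter K) (hθ : ∀ g : G, Cfsg.IsConjCharOf K g (θ : K → ℂ) (θ : K → ℂ)) (B : Set (Cfsg.IrrCharacter G)) (hBdef : ∀ χ : Cfsg.IrrCharacter G, χ ∈ B ↔ Cfsg.classInner (fun k : K => (χ : G → ℂ) k) (θ : K → ℂ) ≠ 0) : Cfsg.IsPBlock M B ∧ (∀ S : Sylow p G, Cfsg.IsDefectGroup p M B S) ∧ ∀ R : Subgroup G, IsPGroup p R → ∃! f : Set (Cfsg.IrrCharacter (Subgroup.centralizer (R : Set G))), Cfsg.IsInducedBlock M (Subgroup.centralizer (R : Set G)) f B := by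
  classical
  subst hK
  haveI : (Cfsg.pPrimeCore p G).Normal := Cfsg.Lib.Components.pPrimeCore_normal' p
  haveI : L.Normal := by
    rw [hL, Cfsg.pPrimePCore]
    haveI := Cfsg.Lib.Components.pCore_normal' (G := G ⧸ Cfsg.pPrimeCore p G) p
    exact Subgroup.Normal.comap inferInstance _
  have hp : p.Prime := Fact.out
  have hKc : (Nat.card (Cfsg.pPrimeCore p G)).Coprime p := Cfsg.Lib.Components.coprime_card_pPrimeCore p
  have hKp : ¬ p ∣ Nat.card (Cfsg.pPrimeCore p G) := hp.coprime_iff_not_dvd.1 hKc.symm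
  have hKL : (Cfsg.pPrimeCore p G) ≤ L := fun n hn => by
    rw [hL]
    show QuotientGroup.mk' (Cfsg.pPrimeCore p G) n ∈ Cfsg.pCore p (G ⧸ (Cfsg.pPrimeCore p G))
    rw [show QuotientGroup.mk' (Cfsg.pPrimeCore p G) n = 1 from (QuotientGroup.eq_one_iff n).2 hn]
    exact one_mem _
  obtain ⟨k, hk⟩ := IsPGroup.iff_card.1 (Cfsg.Lib.Components.isPGroup_pCore (G := G ⧸ (Cfsg.pPrimeCore p G)) p)
  have hLK : (Cfsg.pPrimeCore p G).relIndex L = p ^ k := by
    have e : (⊥ : Subgroup (G ⧸ (Cfsg.pPrimeCore p G))).comap (QuotientGroup.mk' (Cfsg.pPrimeCore p G)) = (Cfsg.pPrimeCore p G) := by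
      rw [MonoidHom.comap_bot, QuotientGroup.ker_mk']
    rw [← hk, congrArg (fun H => H.relIndex L) e.symm, Subgroup.relIndex_comap, hL, Cfsg.pPrimePCore,
      Subgroup.map_comap_eq_self_of_surjective (QuotientGroup.mk'_surjective (Cfsg.pPrimeCore p G)),
      Subgroup.relIndex_bot_left]
  letI := Fintype.ofFinite L
  have hinv : ∀ g : G, cjIrr (Cfsg.pPrimeCore p G) g θ = θ := fun g => Subtype.ext (funext fun n =>
    hθ g n (MulAut.conjNormal g n) rfl)
  obtain ⟨B', hB', hiff, hdef⟩ := block_over_invariant hM (Cfsg.pPrimeCore p G) L Q hKp hKL hLK hQp hQL hCQ θ hinv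
  have hBB : B = B' := Set.ext fun χ => (hBdef χ).trans (hiff χ).symm
  subst hBB
  obtain ⟨D₀, hD₀⟩ := exists_defectGroup hM hB'
  have hcardD : Nat.card D₀ = p ^ (Nat.card G).factorization p := by
    rw [IsDefectGroup.card hM hB' hD₀, hdef]
  have hS : ∀ S : Sylow p G, Cfsg.IsDefectGroup p M B (S : Subgroup G) := fun S => by
    obtain ⟨g, hg⟩ := MulAction.exists_smul_eq G (Sylow.ofCard D₀ hcardD) S
    rw [← hg, Sylow.coe_subgroup_smul]
    exact IsDefectGroup.conj hM hB' hD₀ g
  exact ⟨hB', hS, fun R hR => unique_inducing_over_invariant hM (Cfsg.pPrimeCore p G) L Q hKL hKp hLK hQL hQp hQS hCQ θ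
    hinv hB' (fun χ hχ => (hBdef χ).1 hχ) hS R hR⟩

end Cfsg.Agent.S4642
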