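import Cfsg.Statements.S4644
import Cfsg.Agent.Blocks.Star.Watanabe

set_option autoImplicit false
open Cfsg

namespace Cfsg.Agent.S4644

open Cfsg.Lib.Chars Cfsg.Lib.Blocks Cfsg.Lib.Blocks.Star

/-- Watanabe's theorem on elements of an abelian defect group fixed by the inertial group. -/
theorem result {G : Type*} [Group G] [Finite G] (p : ℕ) [Fact p.Prime] (M : Ideal Cfsg.AlgInt) (hM : Cfsg.IsPModular p M) (B : Set (Cfsg.IrrCharacter G)) (hB : Cfsg.IsPBlock M B) (P : Subgroup G) (hPD : Cfsg.IsDefectGroup p M B P) (hPab : ∀ x ∈ P, ∀ y ∈ P, x * y = y * x) (c : Set (Cfsg.IrrCharacter (Subgroup.centralizer (P : Set G)))) (hc : Cfsg.IsInducedBlock M (Subgroup.centralizer (P : Set G)) c B) (T : Subgroup G) (hT : ∀ g : G, g ∈ T ↔ (g ∈ Subgroup.normalizer (P : Set G) ∧ Cfsg.StabilizesBlock (Subgroup.centralizer (P : Set G)) c g)) (u : G) (hu : u ∈ P) (huT : ∀ g ∈ T, g * u * g⁻¹ = u) (H : Subgroup G) (hH : H = Subgroup.centralizer ({u} : Set G)) (f : Set (Cfsg.IrrCharacter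 H)) (hf : Cfsg.IsInducedBlockIn M H (Subgroup.centralizer (P : Set G)) c f) : Cfsg.blockRank p B = Cfsg.blockRank p f ∧ Nat.card B = Nat.card f := by
  classical
  letI := Fintype.ofFinite G
  have hPp : IsPGroup p P := IsDefectGroup.isPGroup hPD
  have hpair : IsBrauerPairOf p M B P c := (isBrauerPairOf_iff hM B P c).2 ⟨hPp, hc⟩
  rw [← centralizer_zpowers] at hH
  subst hH
  exact watanabe_aux hM _ G rfl B P c hPD hpair hPab T hT u hu huT f ⟨hf.2.1,
    br_of_isInducedBlockIn hM hPp (le_centralizer_zpowers hPab hu) (centralizer_le_zpowers hu) hf⟩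

end Cfsg.Agent.S4644
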