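import Cfsg.Statements.S4645
import Cfsg.Agent.Blocks.AbelianLocal
import Cfsg.Agent.Blocks.InertialCyclic
-- import your own Cfsg.Agent.* helpers here

set_option autoImplicit false
open Cfsg Cfsg.Lib.Blocks

namespace Cfsg.Agent.S4645

/-- Let B be a block of the finite group G relative to a maximal ideal M of the algebraic integers containing the prime p, with a nontrivial cyclic defect group P; let c be a block of C_G(P) inducing B and T the stabilizer of c in N_G(P). Let Q be a nontrivial subgroup of P (so C_G(P) ≤ C_G(Q)), f the block of C_G(Q) induced by c inside C_G(Q), and T' the stabilizer of f in N_G(Q). Then T' = T·C_G(Q), the index of C_G(Q) in T' equals the index of C_G(P) in T, f has p-regular rank 1, and f is a nilpotent block of C_G(Q). -/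
theorem result {G : Type*} [Group G] [Finite G] (p : ℕ) [Fact p.Prime] (M : Ideal Cfsg.AlgInt) (hM : Cfsg.IsPModular p M) (B : Set (Cfsg.IrrCharacter G)) (hB : Cfsg.IsPBlock M B) (P : Subgroup G) (hPD : Cfsg.IsDefectGroup p M B P) (hP1 : P ≠ ⊥) (hcyc : IsCyclic P) (c : Set (Cfsg.IrrCharacter (Subgroup.centralizer (P : Set G)))) (hc : Cfsg.IsInducedBlock M (Subgroup.centralizer (P : Set G)) c B) (T : Subgroup G) (hT : ∀ g : G, g ∈ T ↔ (g ∈ Subgroup.normalizer (P : Set G) ∧ Cfsg.StabilizesBlock (Subgroup.centralizer (P : Set G)) c g)) (Q : Subgroup G) (hQP : Q ≤ P) (hQ1 : Q ≠ ⊥) (f : Set (Cfsg.IrrCharacter (Subgroup.centralizer (Q : Set G)))) (hf : Cfsg.IsInducedBlockIn M (Subgroup.centralizer (Q : Set G)) (Subgroup.centralizer (P : Set G)) c f) (T' : Subgroup G) (hT' : ∀ g : G, g ∈ T' ↔ (g ∈ Subgroup.normalizer (Q : Set G) ∧ Cfsg.StabilizesBlock (Subgroup.centralizer (Q : Set G)) f g)) : T' = T ⊔ Subgroup.centralizer (Q : Set G) ∧ (Subgroup.centralizer (Q : Set G)).relIndex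 T' = (Subgroup.centralizer (P : Set G)).relIndex T ∧ Cfsg.blockRank p f = 1 ∧ Cfsg.IsNilpotentBlock p M f := by
  classical
  letI := Fintype.ofFinite G
  letI := Fintype.ofFinite (Subgroup.centralizer (Q : Set G))
  have hp : p.Prime := Fact.out
  have hPp : IsPGroup p P := IsPGroup.of_card (n := blockDefect p B) (IsDefectGroup.card hM hB hPD)
  have hpair : IsBrauerPairOf p M B P c := (isBrauerPairOf_iff hM B P c).2 ⟨hPp, hc⟩
  have hTs : IsPairStab P c T := hT
  have hT's : IsPairStab Q f T' := hT'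
  obtain ⟨a, ha⟩ := hcyc
  have hgen : ∀ z ∈ P, ∃ i : ℤ, z = (a : G) ^ i := fun z hz => by
    obtain ⟨i, hi⟩ := ha ⟨z, hz⟩
    exact ⟨i, (congrArg Subtype.val hi).symm⟩
  have hab : ∀ x ∈ P, ∀ y ∈ P, x * y = y * x := fun x hx y hy => by
    obtain ⟨i, rfl⟩ := hgen x hx
    obtain ⟨j, rfl⟩ := hgen y hy
    exact (Commute.refl (a : G)).zpow_zpow i j
  obtain ⟨-, hCT⟩ := hTs.self_le hM hpair.1.2
  obtain ⟨-, hCT'⟩ := hT's.self_le hM hf.2.1
  have hCH : Subgroup.centralizer (P : Set G) ≤ Subgroup.centralizer (Q : Set G) :=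
    le_centralizer_of_le hQP
  have hPH := le_centralizer_sub hab hQP
  have hns := normalSubpair_of_induced hM hpair hab hQP hf
  -- an element of the stabilizer acts as a power map
  have hact : ∀ t ∈ T, ∃ m : ℤ, ∀ z ∈ P, t * z * t⁻¹ = z ^ m := fun t ht => by
    obtain ⟨m, hm⟩ := hgen _ ((Subgroup.mem_normalizer_iff.1 ((hTs t).1 ht).1 (a : G)).1 a.2)
    refine ⟨m, fun z hz => ?_⟩
    obtain ⟨i, rfl⟩ := hgen z hz
    rw [← conj_zpow, hm, ← zpow_mul, ← zpow_mul, mul_comm]
  have htriv : ∀ t ∈ T, t ∈ Subgroup.centralizer (Q : Set G) → t ∈ Subgroup.centralizer (P : Set G) := by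
    intro t ht htQ
    obtain ⟨x, hx, hx1⟩ := Q.bot_or_exists_ne_one.resolve_left hQ1
    obtain ⟨m, hm⟩ := hact t ht
    obtain ⟨i, hi⟩ := hgen x (hQP hx)
    obtain ⟨n, hn⟩ := exists_orderOf_eq_of_mem hp hPp a.2
    -- the multiplier is one modulo the prime
    have hxm : x ^ (m - 1) = 1 := by
      have h := hm x (hQP hx)
      rw [← Subgroup.mem_centralizer_iff.1 htQ x hx, mul_inv_cancel_right] at h
      rw [zpow_sub, ← h, zpow_one, mul_inv_cancel]
    have hpm : (p : ℤ) ∣ m - 1 := by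
      by_contra hd
      have hd1 : (orderOf (a : G) : ℤ) ∣ i * (m - 1) := orderOf_dvd_iff_zpow_eq_one.2 (by
        rw [zpow_mul, ← hi, hxm])
      have hco : IsCoprime (orderOf (a : G) : ℤ) (m - 1) := by
        rw [hn, Nat.cast_pow]
        exact ((Prime.coprime_iff_not_dvd (Nat.prime_iff_prime_int.1 hp)).2 hd).pow_left
      exact hx1 (by rw [hi, orderOf_dvd_iff_zpow_eq_one.1 (hco.dvd_of_dvd_mul_right hd1)])
    have hmn : (orderOf (a : G) : ℤ) ∣ m ^ p ^ n - 1 := by
      have h := dvd_sub_pow_of_dvd_sub hpm n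
      rw [one_pow] at h
      rw [hn, Nat.cast_pow]
      exact (pow_dvd_pow _ (Nat.le_succ n)).trans h
    have hiter : ∀ k : ℕ, t ^ k * (a : G) * (t ^ k)⁻¹ = (a : G) ^ (m ^ k) := fun k => by
      induction k with
      | zero => simp
      | succ k ihk =>
        rw [pow_succ' t, mul_inv_rev, show t * t ^ k * (a : G) * ((t ^ k)⁻¹ * t⁻¹) =
          t * (t ^ k * (a : G) * (t ^ k)⁻¹) * t⁻¹ by group, ihk, ← conj_zpow,
          hm (a : G) a.2, ← zpow_mul, pow_succ' m]
    have hpn : t ^ p ^ n ∈ Subgroup.centralizer (P : Set G) := by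
      have hfix : t ^ p ^ n * (a : G) = (a : G) * t ^ p ^ n := by
        have h := hiter (p ^ n)
        rw [show m ^ p ^ n = (m ^ p ^ n - 1) + 1 by ring, zpow_add,
          orderOf_dvd_iff_zpow_eq_one.1 hmn, one_mul, zpow_one] at h
        exact mul_inv_eq_iff_eq_mul.1 h
      refine Subgroup.mem_centralizer_iff.2 fun z hz => ?_
      obtain ⟨j, rfl⟩ := hgen z hz
      exact ((Commute.zpow_right (show Commute (t ^ p ^ n) (a : G) from hfix) j).symm).eq
    haveI : ((Subgroup.centralizer (P : Set G)).subgroupOf T).Normal := ⟨fun z hz u =>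
      (Subgroup.mem_normalizer_iff.1 (centralizer_le_normalizer_centralizer
        ((hTs _).1 u.2).1 le_rfl) (z : G)).1 hz⟩
    have hnd := not_dvd_inertial_index hM hPD
      (show P ≤ Subgroup.centralizer (P : Set G) from fun z hz =>
        Subgroup.mem_centralizer_iff.2 fun y hy => hab y hy z hz) hc hTs
    have h1 : (⟨t, ht⟩ : T) ^ p ^ n ∈ (Subgroup.centralizer (P : Set G)).subgroupOf T := hpn
    have h2 := ((Subgroup.centralizer (P : Set G)).subgroupOf T).pow_index_mem (⟨t, ht⟩ : T)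
    have h3 := (pow_gcd_eq_one (m := p ^ n)
      (n := ((Subgroup.centralizer (P : Set G)).subgroupOf T).index)
      (a := ((⟨t, ht⟩ : T) : T ⧸ (Subgroup.centralizer (P : Set G)).subgroupOf T))
      ).2 ⟨by rw [← QuotientGroup.mk_pow, QuotientGroup.eq_one_iff]; exact h1,
      by rw [← QuotientGroup.mk_pow, QuotientGroup.eq_one_iff]; exact h2⟩
    rw [Subgroup.relIndex] at hnd
    rw [Nat.Coprime.gcd_eq_one (Nat.Coprime.pow_left n (hp.coprime_iff_not_dvd.2 hnd)), pow_one,
      QuotientGroup.eq_one_iff] at h3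
    exact h3
  have hTN : ∀ t ∈ T, t ∈ Subgroup.normalizer (Q : Set G) := fun t ht => by
    obtain ⟨m, hm⟩ := hact t ht
    refine (Subgroup.mem_normalizer_iff_map_conj_eq).2 (Subgroup.eq_of_le_of_card_ge ?_ ?_)
    · rintro _ ⟨z, hz, rfl⟩
      show t * z * t⁻¹ ∈ Q
      rw [hm z (hQP hz)]
      exact Q.zpow_mem hz m
    · exact (card_map_conj Q t).ge
  have hTT' : T ≤ T' := fun t ht => by
    obtain ⟨htP, hts⟩ := (hTs t).1 ht
    have hconj : IsConjSub (Subgroup.centralizer (Q : Set G)) (Subgroup.centralizer (Q : Set G)) t :=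
      isConjSub_of_mem_normalizer (centralizer_le_normalizer_centralizer (hTN t ht) le_rfl)
    refine (hT' t).2 ⟨hTN t ht, (stabilizes_iff_of_normalizer hM hf.2.1 (hTN t ht)).2 ?_⟩
    obtain ⟨hQf, -, -, hPN, -, hbr⟩ := (isNormalSubpair_iff hM _ _ _ _).1 hns
    have h' : IsNormalSubpair p M Q
        (conjSet (Subgroup.centralizer (Q : Set G)) (Subgroup.centralizer (Q : Set G)) t f) P c := by
      refine (isNormalSubpair_iff hM _ _ _ _).2 ⟨⟨hQf.1, IsPBlock.conjSet hconj hQf.2⟩, hpair.1,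
        hQP, hPN, fun x hx => invOn_iff.1 (invOn_bi _) x (hPH hx), ?_⟩
      have h2 := congrArg (cj t) hbr
      rwa [cj_mul, cj_br, map_conj_of_mem_normalizer htP,
        (stabilizes_iff_of_normalizer hM hpair.1.2 htP).1 hts, ← bi_conjSet hconj] at h2
    rw [← bi_conjSet hconj, (existsUnique_normalSubpair hM hpair.1 hQP hPN).unique h' hns]
  have heq : T' = T ⊔ Subgroup.centralizer (Q : Set G) := by
    refine le_antisymm (fun g hg => ?_) (sup_le hTT' hCT')
    obtain ⟨hgN, hgs⟩ := (hT' g).1 hg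
    obtain ⟨y, hy, hye, z, hz, rfl⟩ := exists_stab_decomp hM
      (isMaximal_of_isDefectGroup hM hpair hPD) hab
      (Relation.ReflTransGen.single (show NormalSubpairRel p M ⟨Q, f⟩ ⟨P, c⟩ from hns)) hgN
      ((stabilizes_iff_of_normalizer hM hf.2.1 hgN).1 hgs)
    exact mul_mem (Subgroup.mem_sup_left
      ((hT y).2 ⟨hy, (stabilizes_iff_of_normalizer hM hpair.1.2 hy).2 hye⟩))
      (Subgroup.mem_sup_right hz)
  refine ⟨heq, ?_, blockRank_local_eq_one hM hPD hpair hab hTs hQP hns htriv,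
    (nilpotent_local_iff hM hPD hpair hab hTs hQP hns).2 htriv⟩
  haveI : ((Subgroup.centralizer (Q : Set G)).subgroupOf T').Normal := ⟨fun z hz u =>
    (Subgroup.mem_normalizer_iff.1 (centralizer_le_normalizer_centralizer
      ((hT' _).1 u.2).1 le_rfl) (z : G)).1 hz⟩
  have htop : T.subgroupOf T' ⊔ (Subgroup.centralizer (Q : Set G)).subgroupOf T' = ⊤ := by
    rw [← Subgroup.subgroupOf_sup hTT' hCT', ← heq, Subgroup.subgroupOf_self]
  have hinf : Subgroup.centralizer (Q : Set G) ⊓ T = Subgroup.centralizer (P : Set G) :=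
    le_antisymm (fun t ht => htriv t ht.2 ht.1) (le_inf hCH hCT)
  have h := Subgroup.relIndex_sup_right (H := T.subgroupOf T')
    (K := (Subgroup.centralizer (Q : Set G)).subgroupOf T')
  rw [htop, Subgroup.relIndex_top_right, Subgroup.relIndex_subgroupOf hTT',
    ← Subgroup.inf_relIndex_right, hinf] at h
  exact h

end Cfsg.Agent.S4645
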