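import Cfsg.Statements.S4691
import Cfsg.Agent.Blocks.Principal
import Cfsg.Agent.Transfer.Frobenius
-- import your own Cfsg.Agent.* helpers here

set_option autoImplicit false
open Cfsg

namespace Cfsg.Agent.S4691

set_option linter.unusedSectionVars false

open Cfsg.Lib.Blocks

/-- Fix a prime p and a maximal ideal M of the algebraic integers containing p. A finite group G has a normal p-complement if and only if its principal p-block is nilpotent. -/
theorem result {G : Type*} [Group G] [Fintype G] (p : ℕ) [Fact p.Prime] (M : Ideal Cfsg.AlgInt) (hM : Cfsg.IsPModular p M) : Cfsg.HasNormalPComplement p G ↔ Cfsg.IsNilpotentBlock p M (Cfsg.principalBlock M G) := by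
  classical
  constructor
  · intro h
    refine ⟨isPBlock_blockOf (Cfsg.Lib.Chars.principal G), fun Q f hf x hxN _ hreg => ?_⟩
    exact Cfsg.Lib.Transfer.centralize_of_hasNormalPComplement h Q hf.1.1 x hxN
      (Nat.Coprime.symm (((Fact.out : p.Prime).coprime_iff_not_dvd).2 hreg))
  · intro h
    refine Cfsg.Lib.Transfer.hasNormalPComplement_of_frobenius fun Q hQ g hg hcop => ?_
    have hpair := (principal_pair_iff (Q := Q) hM).2 ⟨hQ, rfl⟩
    refine h.2 Q _ hpair g hg ?_ (((Fact.out : p.Prime).coprime_iff_not_dvd).1 hcop.symm)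
    exact (stabilizes_iff_of_normalizer hM hpair.1.2 hg).2 (cj_bi_principal hM hQ hg)

end Cfsg.Agent.S4691
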