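import Cfsg.Statements.S4647
import Cfsg.Agent.Blocks.Star.MinimalDimension

set_option autoImplicit false
open Cfsg

namespace Cfsg.Agent.S4647

open Cfsg.Lib.Chars Cfsg.Lib.Blocks Cfsg.Lib.Blocks.Star

/-- A block of least dimension is nilpotent. -/
theorem result {G : Type*} [Group G] [Finite G] (p : ℕ) [Fact p.Prime] (M : Ideal Cfsg.AlgInt) (hM : Cfsg.IsPModular p M) (B : Set (Cfsg.IrrCharacter G)) (hB : Cfsg.IsPBlock M B) (D : Subgroup G) (hD : Cfsg.IsDefectGroup p M B D) (a d : ℕ) (ha : (Nat.card G).factorization p = a) (hd : Nat.card D = p ^ d) (hmin : ∑ᶠ χ ∈ B, Cfsg.charDegree (χ : G → ℂ) ^ 2 = p ^ (2 * a - d)) : Cfsg.IsNilpotentBlock p M B := by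
  classical
  letI := Fintype.ofFinite G
  refine nilpotent_of_min_dim hM hB hD ha hd ?_
  rw [← hmin]
  exact (finsum_mem_eq_sum_of_inter_support_eq _
    (by simp)).symm

end Cfsg.Agent.S4647
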