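import Cfsg.Statements.S4648
import Cfsg.Agent.Blocks.RankOneSmall.BlockBound
import Cfsg.Agent.Blocks.AbelianLocal
import Cfsg.Agent.Blocks.KleinFourBlock
import Cfsg.Agent.Blocks.Maximal
-- import your own Cfsg.Agent.* helpers here

set_option autoImplicit false
open Cfsg

open Cfsg.Lib.Blocks Cfsg.Lib.Chars

namespace Cfsg.Agent.S4648

/-- Let B be a block of the finite group G relative to a maximal ideal M of the algebraic integers containing the prime p, with a nontrivial defect group D. If B has p-regular rank 1 and at most four irreducible characters, then B is nilpotent, D has exactly as many elements as B has irreducible characters, and p is 2 or 3. -/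
theorem result {G : Type*} [Group G] [Finite G] (p : ℕ) [Fact p.Prime] (M : Ideal Cfsg.AlgInt) (hM : Cfsg.IsPModular p M) (B : Set (Cfsg.IrrCharacter G)) (hB : Cfsg.IsPBlock M B) (D : Subgroup G) (hD : Cfsg.IsDefectGroup p M B D) (hD1 : D ≠ ⊥) (hl : Cfsg.blockRank p B = 1) (hk : Nat.card B ≤ 4) : Cfsg.IsNilpotentBlock p M B ∧ Nat.card D = Nat.card B ∧ (p = 2 ∨ p = 3) := by
  classical
  letI := Fintype.ofFinite G
  have hp : p.Prime := Fact.out
  have hcard := IsDefectGroup.card hM hB hD
  have hDk : Nat.card D = Nat.card B :=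
    hcard.trans (RankOneSmall.pow_defect_eq hM hB hl hk)
  have hδ : blockDefect p B ≠ 0 := fun h => hD1 (Subgroup.card_eq_one.1 (by rw [hcard, h, pow_zero]))
  have hp23 : p = 2 ∨ p = 3 := by
    have h1 : p ≤ 4 := (Nat.le_self_pow hδ p).trans ((le_of_eq (hcard.symm.trans hDk)).trans hk)
    have := hp.two_le
    interval_cases p
    · exact Or.inl rfl
    · exact Or.inr rfl
    · exact absurd hp (by norm_num)
  refine ⟨⟨hB, fun Q e he x hxN hxS hxreg => ?_⟩, hDk, hp23⟩
  obtain ⟨a, ha⟩ := exists_le_conj_of_pair hM hD he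
  have hQD : Nat.card Q ∣ Nat.card D := by
    rw [← card_map_conj D a]
    exact Subgroup.card_dvd_of_le ha
  have hxc : ∀ y ∈ Q, x * y * x⁻¹ ∈ Q := fun y hy => (Subgroup.mem_normalizer_iff.1 hxN y).1 hy
  obtain ⟨T, hT⟩ : ∃ T : Subgroup G, IsPairStab Q e T := ⟨_, (isPairStab_iff hM he.1.2).2 rfl⟩
  have hxT : x ∈ T := (hT x).2 ⟨hxN, hxS⟩
  have htriv : (Subgroup.centralizer (Q : Set G)).relIndex T = 1 →
      x ∈ Subgroup.centralizer (Q : Set G) := fun h => Subgroup.relIndex_eq_one.1 h hxT
  by_cases hsmall : Nat.card Q ≤ 2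
  · refine Subgroup.mem_centralizer_iff.2 fun y hy => ?_
    rcases eq_or_ne y 1 with rfl | hy1
    · simp
    suffices h : x * y * x⁻¹ = y from (mul_inv_eq_iff_eq_mul.1 h).symm
    by_contra hne
    have hsub : ({1, y, x * y * x⁻¹} : Finset G) ⊆ (Set.toFinite (Q : Set G)).toFinset := by
      intro z hz
      simp only [Finset.mem_insert, Finset.mem_singleton] at hz
      rw [Set.Finite.mem_toFinset]
      rcases hz with rfl | rfl | rfl
      · exact Q.one_mem
      · exact hy
      · exact hxc y hy
    have h3 := Finset.card_le_card hsub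
    rw [← Set.ncard_eq_toFinset_card (Q : Set G), ← Nat.card_coe_set_eq,
      show Nat.card (Q : Set G) = Nat.card Q from rfl] at h3
    have h1y : (1 : G) ≠ x * y * x⁻¹ := fun h => hy1 (conj_eq_one_iff.1 h.symm)
    rw [Finset.card_insert_of_notMem (by simp [hy1.symm, h1y]), Finset.card_pair (Ne.symm hne)] at h3
    omega
  push Not at hsmall
  have hQ4 : Nat.card Q ≤ Nat.card D := Nat.le_of_dvd Nat.card_pos hQD
  have hQeq : Nat.card Q = Nat.card D := by
    obtain ⟨c, hc⟩ := hQD
    have : c ≤ 1 := by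
      by_contra h
      have : Nat.card Q * 2 ≤ Nat.card Q * c := Nat.mul_le_mul_left _ (by omega)
      omega
    have : 0 < Nat.card D := Nat.card_pos
    interval_cases c <;> omega
  have hQdef : IsDefectGroup p M B Q := by
    rw [Subgroup.eq_of_le_of_card_ge ha (by rw [card_map_conj, hQeq])]
    exact IsDefectGroup.conj hM hB hD a
  have hQpow : Nat.card Q = p ^ blockDefect p B := hQeq.trans hcard
  rcases hp23 with rfl | rfl
  · -- order four
    have hQfour : Nat.card Q = 4 := by
      have h2 : 2 ∣ Nat.card Q := hQpow ▸ dvd_pow_self 2 hδ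
      have h3 : Nat.card Q ≤ 4 := hQeq.trans_le (hDk.trans_le hk)
      omega
    by_cases hex : ∀ y : Q, y ^ 2 = 1
    · have hV : IsKleinFour Q := ⟨hQfour, by
        refine ((Nat.dvd_prime Nat.prime_two).1 (Monoid.exponent_dvd_of_forall_pow_eq_one hex)).resolve_left
          fun h => ?_
        haveI := Monoid.exp_eq_one_iff.1 h
        rw [Nat.card_eq_one_iff_unique.2 ⟨inferInstance, inferInstance⟩] at hQfour
        omega⟩
      obtain ⟨-, -, h⟩ := klein_block hM hQdef hV he hT
      exact htriv (h.symm.trans hl)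
    · push Not at hex
      obtain ⟨y, hy⟩ := hex
      have hy4 : orderOf y = 4 := by
        have h1 : orderOf y ∣ 2 ^ 2 := by
          rw [show (2 : ℕ) ^ 2 = Nat.card Q by omega]
          exact orderOf_dvd_natCard y
        obtain ⟨i, hi, hi'⟩ := (Nat.dvd_prime_pow Nat.prime_two).1 h1
        interval_cases i
        · exact absurd (by rw [orderOf_eq_one_iff.1 (hi'.trans (by norm_num)), one_pow]) hy
        · exact absurd (orderOf_dvd_iff_pow_eq_one.1 (hi' ▸ dvd_rfl)) hy
        · simpa using hi'
      have hgen : ∀ z : Q, z ∈ Subgroup.zpowers y := fun z => by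
        rw [Subgroup.eq_top_of_card_eq (Subgroup.zpowers y) (by rw [Nat.card_zpowers, hy4, hQfour])]
        trivial
      have hstep : ∀ u : G, u * (y : G) * u⁻¹ ∈ Q →
          u * (y : G) * u⁻¹ = y ∨ u * (y : G) * u⁻¹ = (y : G)⁻¹ := by
        intro u hu
        obtain ⟨i, hi⟩ := hgen ⟨_, hu⟩
        have hi' : (y : G) ^ i = u * (y : G) * u⁻¹ := congrArg Subtype.val hi
        have hord : orderOf (u * (y : G) * u⁻¹) = 4 := by
          have h1 := orderOf_injective (MulAut.conj u).toMonoidHom (MulAut.conj u).injective (y : G)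
          rw [Subgroup.orderOf_coe, hy4] at h1
          exact h1
        have hy4' : (y : G) ^ (4 : ℤ) = 1 := by
          rw [show (4 : ℤ) = ((4 : ℕ) : ℤ) from rfl, zpow_natCast, ← hy4, ← Subgroup.orderOf_coe,
            pow_orderOf_eq_one]
        have hmod : (y : G) ^ i = (y : G) ^ (i % 4) := by
          conv_lhs => rw [← Int.mul_ediv_add_emod i 4, zpow_add, zpow_mul, hy4', one_zpow, one_mul]
        have h0 := Int.emod_nonneg i (by norm_num : (4 : ℤ) ≠ 0)
        have h4 := Int.emod_lt_of_pos i (by norm_num : (0 : ℤ) < 4)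
        rw [← hi', hmod] at hord ⊢
        obtain ⟨r, hr⟩ : ∃ r : ℤ, r = i % 4 := ⟨_, rfl⟩
        rw [← hr] at hord h0 h4 ⊢
        interval_cases r
        · rw [zpow_zero, orderOf_one] at hord; omega
        · exact Or.inl (zpow_one _)
        · exfalso
          have : orderOf ((y : G) ^ (2 : ℤ)) ∣ 2 := orderOf_dvd_of_pow_eq_one (by
            rw [← zpow_natCast, ← zpow_mul]; exact hy4')
          rw [hord] at this
          omega
        · refine Or.inr (eq_inv_of_mul_eq_one_left ?_)
          rw [← zpow_add_one]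
          exact hy4'
      have h2 : x * x * (y : G) * (x * x)⁻¹ = y := by
        have e1 : x * x * (y : G) * (x * x)⁻¹ = x * (x * (y : G) * x⁻¹) * x⁻¹ := by group
        rw [e1]
        rcases hstep x (hxc _ y.2) with h | h
        · rw [h, h]
        · rw [h, ← conj_inv, h, inv_inv]
      have hcomm2 : Commute (x * x) (y : G) := mul_inv_eq_iff_eq_mul.1 h2
      have hodd : orderOf x % 2 = 1 := by
        have : ¬ 2 ∣ orderOf x := hxreg
        omega
      have hxpow : x = (x * x) ^ ((orderOf x + 1) / 2) := by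
        rw [← sq, ← pow_mul, show 2 * ((orderOf x + 1) / 2) = orderOf x + 1 by omega, pow_succ,
          pow_orderOf_eq_one, one_mul]
      have hxy : Commute x (y : G) := hxpow ▸ hcomm2.pow_left _
      refine Subgroup.mem_centralizer_iff.2 fun z hz => ?_
      obtain ⟨i, hi⟩ := hgen ⟨z, hz⟩
      rw [← show (y : G) ^ i = z from congrArg Subtype.val hi]
      exact (hxy.zpow_right i).eq.symm
  · -- order three
    have hQ3 : Nat.card Q = 3 := by
      have h2 : 3 ∣ Nat.card Q := hQpow ▸ dvd_pow_self 3 hδ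
      have h3 : Nat.card Q ≤ 4 := hQeq.trans_le (hDk.trans_le hk)
      omega
    have hzp : ∀ y ∈ Q, y ≠ 1 → Subgroup.zpowers y = Q := fun y hy hy1 => by
      refine Subgroup.eq_of_le_of_card_ge (Subgroup.zpowers_le.2 hy) ?_
      rw [Nat.card_zpowers]
      have h1 : orderOf y ∣ 3 := hQ3 ▸ Q.orderOf_dvd_natCard hy
      rcases (Nat.dvd_prime Nat.prime_three).1 h1 with h | h
      · exact absurd (orderOf_eq_one_iff.1 h) hy1
      · omega
    have hab : ∀ u ∈ Q, ∀ v ∈ Q, u * v = v * u := fun u hu v hv => by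
      haveI : Fact (Nat.Prime 3) := ⟨Nat.prime_three⟩
      haveI := isCyclic_of_prime_card hQ3
      letI := IsCyclic.commGroup (α := Q)
      exact congrArg Subtype.val (mul_comm (⟨u, hu⟩ : Q) ⟨v, hv⟩)
    have hzC : ∀ y ∈ Q, y ≠ 1 → ∀ t : G, t * y = y * t → t ∈ Subgroup.centralizer (Q : Set G) :=
      fun y hy hy1 t ht => by
        rw [← hzp y hy hy1, Lib.Blocks.centralizer_zpowers, Subgroup.mem_centralizer_singleton_iff]
        exact ht
    have hcount := subsection_count hM hQdef he hab hT
      (fun y hy hy1 t _ ht => hzC y hy hy1 t (mul_inv_eq_iff_eq_mul.1 ht)) (fun _ => 1)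
      (fun y f hy hy1 hf => blockRank_local_eq_one hM hQdef he hab hT (Subgroup.zpowers_le.2 hy)
        (hf.normalSubpair hM he.1 hab hy) fun t _ ht => hzC y hy hy1 t
          (Subgroup.mem_centralizer_singleton_iff.1 (Lib.Blocks.centralizer_zpowers y ▸ ht)))
    have hS : (Finset.univ.filter fun y : G => y ∈ Q ∧ y ≠ 1).card = 2 := by
      rw [show (Finset.univ.filter fun y : G => y ∈ Q ∧ y ≠ 1) =
          (Finset.univ.filter fun y : G => y ∈ Q).erase 1 by ext y; simp [and_comm],
        Finset.card_erase_of_mem (by simp), ← Fintype.card_subtype, ← Nat.card_eq_fintype_card]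
      omega
    rw [Finset.sum_const, hS, hl, ← hDk, ← hQeq, hQ3] at hcount
    refine htriv ?_
    simp only [nsmul_eq_mul, Nat.cast_ofNat, Nat.cast_one, mul_one] at hcount
    omega

end Cfsg.Agent.S4648
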