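import Cfsg.Statements.S4649
import Cfsg.Agent.Blocks.CyclicDefect.Rank
import Cfsg.Agent.S4687

set_option autoImplicit false
open Cfsg

namespace Cfsg.Agent.S4649

open Cfsg.Lib.Blocks

/-- A block with cyclic defect group, of a finite group relative to a maximal ideal M of the algebraic integers containing the prime p, is nilpotent if and only if its p-regular rank is 1 (it has a unique irreducible Brauer character). -/
theorem result {G : Type*} [Group G] [Finite G] (p : ℕ) [Fact p.Prime] (M : Ideal Cfsg.AlgInt) (hM : Cfsg.IsPModular p M) (B : Set (Cfsg.IrrCharacter G)) (hB : Cfsg.IsPBlock M B) (P : Subgroup G) (hPD : Cfsg.IsDefectGroup p M B P) (hcyc : IsCyclic P) : Cfsg.IsNilpotentBlock p M B ↔ Cfsg.blockRank p B = 1 := by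
  classical
  haveI := Fintype.ofFinite G
  obtain ⟨c, hmax⟩ := exists_pair_of_defect hM hB hPD
  have hc := hmax.1
  have hab := CyclicDefect.comm_of_cyclic hcyc
  rw [Cfsg.Agent.S4687.result p M hM B P c hmax hab]
  let T := Subgroup.normalizer (P : Set G) ⊓ stabElem (bi M (Subgroup.centralizer (P : Set G)) c)
  have hT : IsPairStab P c T := (isPairStab_iff hM hc.1.2).2 rfl
  obtain ⟨-, hCT⟩ := hT.self_le hM hc.1.2
  constructor
  · intro h
    have hTC : T = Subgroup.centralizer (P : Set G) :=
      le_antisymm (fun x hx => h x ((hT x).1 hx).1 ((hT x).1 hx).2) hCT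
    exact blockRank_eq_one_of_trivial_inertia hM hPD hab hc (hTC ▸ hT)
  · intro hl x hx hst
    rcases eq_or_ne P ⊥ with rfl | hP1
    · exact Subgroup.mem_centralizer_iff.2 fun y hy => by
        rw [SetLike.mem_coe, Subgroup.mem_bot] at hy
        rw [hy, one_mul, mul_one]
    · obtain ⟨m, -, -, h⟩ := CyclicDefect.card_and_rank hM hPD hc hcyc hP1 hT
      exact Subgroup.relIndex_eq_one.1 (h.symm.trans hl) ((hT x).2 ⟨hx, hst⟩)

end Cfsg.Agent.S4649
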