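import Cfsg.Statements.S4651
import Cfsg.Agent.Blocks.ChainPairing
import Cfsg.Agent.Blocks.SectionRanks
-- import your own Cfsg.Agent.* helpers here

set_option autoImplicit false
open Cfsg

namespace Cfsg.Agent.S4651

set_option linter.unusedSectionVars false

open Cfsg.Lib.Blocks

universe u

/-- One term of the chain sum as a sum over the `p`-elements of the stabiliser. -/
theorem term_eq {G : Type u} [Group G] [Fintype G] {p : ℕ} {M : Ideal Cfsg.AlgInt}
    (hM : Cfsg.IsPModular p M) (b : Set (Cfsg.IrrCharacter G)) {P N : Subgroup G} [Fintype N]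
    (hP : IsPGroup p P) (hPN : P ≤ N) (hCN : Subgroup.centralizer (P : Set G) ≤ N)
    (hNN : N ≤ Subgroup.normalizer (P : Set G)) [DecidablePred (· ∈ N)] :
    (Nat.card N : ℤ) * ((Nat.card {ψ : Cfsg.IrrCharacter N |
        ∃ β : Set (Cfsg.IrrCharacter N), ψ ∈ β ∧ Cfsg.IsInducedBlock M N β b} : ℤ) -
      (Cfsg.blockRank p {ψ : Cfsg.IrrCharacter N |
        ∃ β : Set (Cfsg.IrrCharacter N), ψ ∈ β ∧ Cfsg.IsInducedBlock M N β b} : ℤ)) =
      ∑ x ∈ (pElements p G).filter (· ∈ N),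
        sectWeight p M b (Subgroup.centralizer ({x} : Set G) ⊓ N) := by
  classical
  set T := (blocksFinset M N).filter (fun β => Cfsg.IsInducedBlock M N β b) with hT
  obtain ⟨hr, hc⟩ := blockRank_union (p := p) hM T
    (fun β hβ => (mem_blocksFinset hM).1 (Finset.mem_filter.1 hβ).1)
    {ψ : Cfsg.IrrCharacter N | ∃ β : Set (Cfsg.IrrCharacter N), ψ ∈ β ∧ Cfsg.IsInducedBlock M N β b}
    (fun ψ => ⟨fun ⟨β, h1, h2⟩ => ⟨β, Finset.mem_filter.2 ⟨(mem_blocksFinset hM).2 h2.1, h2⟩, h1⟩,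
      fun ⟨β, hβ, h1⟩ => ⟨β, h1, (Finset.mem_filter.1 hβ).2⟩⟩)
  rw [hr, hc, ← Finset.sum_sub_distrib, Finset.mul_sum,
    Finset.sum_congr rfl fun β hβ => card_sub_rank_eq_sum hM (Finset.mem_filter.1 hβ).2.1,
    Finset.sum_comm]
  symm
  refine Finset.sum_bij' (fun x hx => (⟨x, (Finset.mem_filter.1 hx).2⟩ : N)) (fun x _ => (x : G))
    (fun x hx => ?_) (fun x hx => ?_) (fun x _ => rfl) (fun x _ => rfl) (fun x hx => ?_)
  · obtain ⟨hx1, hxk⟩ := mem_pElements.1 (Finset.mem_filter.1 hx).1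
    refine mem_pElements.2 ⟨fun h => hx1 (congrArg Subtype.val h), ?_⟩
    rwa [← Subgroup.orderOf_coe]
  · obtain ⟨hx1, hxk⟩ := mem_pElements.1 hx
    refine Finset.mem_filter.2 ⟨mem_pElements.2 ⟨fun h => hx1 (Subtype.ext h), ?_⟩, x.2⟩
    rwa [Subgroup.orderOf_coe]
  · obtain ⟨-, hxk⟩ := mem_pElements.1 (Finset.mem_filter.1 hx).1
    refine (sum_sectWeight_local hM hP hPN hCN hNN (x := ⟨x, (Finset.mem_filter.1 hx).2⟩) ?_).symm
    rwa [← Subgroup.orderOf_coe]

/-- The alternating sum. -/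
theorem chain_sum {G : Type u} [Group G] [Fintype G] {p : ℕ} [Fact p.Prime]
    {M : Ideal Cfsg.AlgInt} (hM : Cfsg.IsPModular p M) {b : Set (Cfsg.IrrCharacter G)}
    (hb : Cfsg.IsPBlock M b)
    [DecidablePred fun s : Finset (Subgroup G) => s.Nonempty ∧ (∀ Q ∈ s, ∀ R ∈ s, Q ≤ R ∨ R ≤ Q) ∧
      (∀ Q ∈ s, Q ≠ ⊥ ∧ IsPGroup p Q) ∧ IsNormalChain s] :
    (Nat.card G : ℤ) * ((Nat.card b : ℤ) - (Cfsg.blockRank p b : ℤ)) =
    ∑ s ∈ Finset.univ.filter (fun s : Finset (Subgroup G) => s.Nonempty ∧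
        (∀ Q ∈ s, ∀ R ∈ s, Q ≤ R ∨ R ≤ Q) ∧ (∀ Q ∈ s, Q ≠ ⊥ ∧ IsPGroup p Q) ∧ IsNormalChain s),
      (-1 : ℤ) ^ (s.card - 1) * (Nat.card (chainStab s : Subgroup G) : ℤ) *
        ((Nat.card {ψ : Cfsg.IrrCharacter (chainStab s : Subgroup G) |
            ∃ β : Set (Cfsg.IrrCharacter (chainStab s : Subgroup G)),
              ψ ∈ β ∧ Cfsg.IsInducedBlock M (chainStab s) β b} : ℤ) -
          (Cfsg.blockRank p {ψ : Cfsg.IrrCharacter (chainStab s : Subgroup G) |
            ∃ β : Set (Cfsg.IrrCharacter (chainStab s : Subgroup G)),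
              ψ ∈ β ∧ Cfsg.IsInducedBlock M (chainStab s) β b} : ℤ)) := by
  classical
  rw [card_sub_rank_eq_sum hM hb]
  symm
  have hterm : ∀ s ∈ Finset.univ.filter (fun s : Finset (Subgroup G) => s.Nonempty ∧
      (∀ Q ∈ s, ∀ R ∈ s, Q ≤ R ∨ R ≤ Q) ∧ (∀ Q ∈ s, Q ≠ ⊥ ∧ IsPGroup p Q) ∧ IsNormalChain s),
      (-1 : ℤ) ^ (s.card - 1) * (Nat.card (chainStab s : Subgroup G) : ℤ) *
        ((Nat.card {ψ : Cfsg.IrrCharacter (chainStab s : Subgroup G) |
            ∃ β : Set (Cfsg.IrrCharacter (chainStab s : Subgroup G)),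
              ψ ∈ β ∧ Cfsg.IsInducedBlock M (chainStab s) β b} : ℤ) -
          (Cfsg.blockRank p {ψ : Cfsg.IrrCharacter (chainStab s : Subgroup G) |
            ∃ β : Set (Cfsg.IrrCharacter (chainStab s : Subgroup G)),
              ψ ∈ β ∧ Cfsg.IsInducedBlock M (chainStab s) β b} : ℤ)) =
      ∑ x ∈ (pElements p G).filter (· ∈ chainStab s), (-1 : ℤ) ^ (s.card - 1) *
        sectWeight p M b (Subgroup.centralizer ({x} : Set G) ⊓ chainStab s) := by
    intro s hs
    obtain ⟨hne, hcmp, hp, hn⟩ := (Finset.mem_filter.1 hs).2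
    obtain ⟨T, hT, hmax⟩ := Finset.exists_maximal hne
    have htop : ∀ Q ∈ s, Q ≤ T := fun Q hQ => (hcmp Q hQ T hT).elim id fun h => hmax hQ h
    rw [mul_assoc, term_eq hM b (hp T hT).2 (fun g hg => mem_chainStab.2 fun Q hQ =>
        hn T hT Q hQ (htop Q hQ) hg)
      (fun g hg => mem_chainStab.2 fun Q hQ => Subgroup.centralizer_le_normalizer (Q : Set G)
        (Subgroup.centralizer_le (fun y hy => htop Q hQ hy) hg))
      (fun g hg => mem_chainStab.1 hg T hT), Finset.mul_sum]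
  rw [Finset.sum_congr rfl hterm, Finset.sum_comm' (t' := pElements p G)
    (s' := fun x => Finset.univ.filter (fun s : Finset (Subgroup G) =>
      s.Nonempty ∧ IsFixedChain p x s ∧ IsNormalChain s))]
  swap
  · intro s x
    constructor
    · rintro ⟨hs, hx⟩
      obtain ⟨-, h1, h2, h3, h4⟩ := Finset.mem_filter.1 hs
      obtain ⟨hx, hxs⟩ := Finset.mem_filter.1 hx
      exact ⟨Finset.mem_filter.2 ⟨Finset.mem_univ _, h1, ⟨h2, h3, hxs⟩, h4⟩, hx⟩
    · rintro ⟨hs, hx⟩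
      obtain ⟨-, h1, ⟨h2, h3, hxs⟩, h4⟩ := Finset.mem_filter.1 hs
      exact ⟨Finset.mem_filter.2 ⟨Finset.mem_univ _, h1, h2, h3, h4⟩, Finset.mem_filter.2 ⟨hx, hxs⟩⟩
  refine Finset.sum_congr rfl fun x hx => ?_
  obtain ⟨hx1, hxk⟩ := mem_pElements.1 hx
  exact sum_normal_eq x hxk hx1 _

/-- An alternating-sum identity over chains of p-subgroups (the character-count form behind the chain reformulation of Alperin's weight conjecture, which holds unconditionally for the difference k − l). Let b be a block of the finite group G relative to a maximal ideal M of the algebraic integers containing the prime p. Consider the nonempty chains s = {Q_0 < Q_1 < ⋯ < Q_m} of nontrivial p-subgroups of G in which every member is normal in the largest member; let N_G(s) be the intersection of the normalizers of the members (the stabilizer of the chain), and let b_s be the set of irreducible characters of N_G(s) lying in blocks of N_G(s) that induce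 b. Then #G · (k(b) − l(b)) equals the sum over all such chains s of (−1)^m · #N_G(s) · (k(b_s) − l(b_s)), where k counts irreducible characters and l is the p-regular rank; equivalently, k(b) − l(b) is the alternating sum of k(b_s) − l(b_s) over representatives of the conjugacy classes of such chains. -/
theorem result {G : Type*} [Group G] [Finite G] (p : ℕ) [Fact p.Prime] (M : Ideal Cfsg.AlgInt) (hM : Cfsg.IsPModular p M) (b : Set (Cfsg.IrrCharacter G)) (hb : Cfsg.IsPBlock M b) : (Nat.card G : ℤ) * ((Nat.card b : ℤ) - (Cfsg.blockRank p b : ℤ)) = ∑ᶠ s ∈ {s : Finset (Subgroup G) | s.Nonempty ∧ (∀ Q ∈ s, ∀ R ∈ s, Q ≤ R ∨ R ≤ Q) ∧ (∀ Q ∈ s, Q ≠ ⊥ ∧ IsPGroup p Q) ∧ ∃ T ∈ s, ∀ Q ∈ s, Q ≤ T ∧ T ≤ Subgroup.normalizer ((Q : Subgroup G) : Set G)}, (-1 : ℤ) ^ (s.card - 1) * (Nat.card (((⨅ Q ∈ s, Subgroup.normalizer ((Q : Subgroup G) : Set G) : Subgroup G))) : ℤ) * ((Nat.card {ψ : Cfsg.IrrCharacter (((⨅ Q ∈ s, Subgroup.normalizer ((Q : Subgroup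 G) : Set G) : Subgroup G))) | ∃ β : Set (Cfsg.IrrCharacter (((⨅ Q ∈ s, Subgroup.normalizer ((Q : Subgroup G) : Set G) : Subgroup G)))), ψ ∈ β ∧ Cfsg.IsInducedBlock M (((⨅ Q ∈ s, Subgroup.normalizer ((Q : Subgroup G) : Set G) : Subgroup G))) β b} : ℤ) - (Cfsg.blockRank p {ψ : Cfsg.IrrCharacter (((⨅ Q ∈ s, Subgroup.normalizer ((Q : Subgroup G) : Set G) : Subgroup G))) | ∃ β : Set (Cfsg.IrrCharacter (((⨅ Q ∈ s, Subgroup.normalizer ((Q : Subgroup G) : Set G) : Subgroup G)))), ψ ∈ β ∧ Cfsg.IsInducedBlock M (((⨅ Q ∈ s, Subgroup.normalizer ((Q : Subgroup G) : Set G) : Subgroup G))) β b} : ℤ)) := by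
  classical
  haveI := Fintype.ofFinite G
  rw [chain_sum hM hb, ← finsum_mem_coe_finset]
  refine finsum_mem_congr ?_ fun s _ => rfl
  ext s
  simp only [Finset.coe_filter, Finset.mem_univ, true_and, Set.mem_setOf_eq]
  refine and_congr_right fun hne => and_congr_right fun hcmp => and_congr_right fun _ => ?_
  constructor
  · intro hn
    obtain ⟨T, hT, hmax⟩ := Finset.exists_maximal hne
    have htop : ∀ Q ∈ s, Q ≤ T := fun Q hQ => (hcmp Q hQ T hT).elim id fun h => hmax hQ h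
    exact ⟨T, hT, fun Q hQ => ⟨htop Q hQ, hn T hT Q hQ (htop Q hQ)⟩⟩
  · rintro ⟨T, hT, h⟩ Q hQ P hP hle
    exact (h Q hQ).1.trans (h P hP).2

end Cfsg.Agent.S4651
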