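import Cfsg.Statements.S4654
import Cfsg.Agent.Blocks.Stabilizer
-- import your own Cfsg.Agent.* helpers here

set_option autoImplicit false
open Cfsg

namespace Cfsg.Agent.S4654

set_option linter.unusedSectionVars false

open Cfsg.Lib.Blocks

/-- Fix a prime p and a maximal ideal M of the algebraic integers containing p. Let P be a normal p-subgroup of the finite group G, B a p-block of G and e a p-block of C_G(P) such that (P, e) is a Brauer pair of B (as P is normal, this says that e occurs in the idempotent of B, which is supported on C_G(P)). Let T be the stabilizer of e in G under conjugation. Then the idempotent of e is a block idempotent of T: some block E of T has, at every element of T, the same idempotent coefficient as e (zero off C_G(P)); and the idempotent of B is the sum of the distinct G-conjugates of the idempotent of e: its coefficient at g is the sum over all x in G of the coefficient of e at x⁻¹ g x, divided by the order of T. -/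
theorem result {G : Type*} [Group G] [Fintype G] (p : ℕ) [Fact p.Prime] (M : Ideal Cfsg.AlgInt) (hM : Cfsg.IsPModular p M) (P : Subgroup G) [P.Normal] (hP : IsPGroup p P) (B : Set (Cfsg.IrrCharacter G)) (e : Set (Cfsg.IrrCharacter (Subgroup.centralizer (P : Set G)))) (hBe : Cfsg.IsBrauerPairOf p M B P e) (T : Subgroup G) (hT : ∀ x : G, x ∈ T ↔ Cfsg.StabilizesBlock (Subgroup.centralizer (P : Set G)) e x) : (∃ E : Set (Cfsg.IrrCharacter T), Cfsg.IsPBlock M E ∧ ∀ t : T, Cfsg.blockCoeff E t = Cfsg.subgroupBlockCoeff (Subgroup.centralizer (P : Set G)) e (t : G)) ∧ ∀ g : G, Cfsg.blockCoeff B g = (Nat.card T : ℂ)⁻¹ * ∑ x : G, Cfsg.subgroupBlockCoeff (Subgroup.centralizer (P : Set G)) e (x⁻¹ * g * x) := by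
  classical
  have he := hBe.1.2
  have hCT : Subgroup.centralizer (P : Set G) ≤ T := fun c hc => by
    haveI : (Subgroup.centralizer (P : Set G)).Normal := Subgroup.normal_centralizer
    rw [hT, stabilizesBlock_iff hM he]
    exact ⟨by rw [Subgroup.normalizer_eq_top]; exact Subgroup.mem_top c,
      invOn_iff.1 (invOn_bi e) c hc⟩
  have hPT : P ≤ T := fun y hy => by
    haveI : (Subgroup.centralizer (P : Set G)).Normal := Subgroup.normal_centralizer
    rw [hT, stabilizesBlock_iff hM he]
    exact ⟨by rw [Subgroup.normalizer_eq_top]; exact Subgroup.mem_top y,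
      cj_eq_self_of_suppOn (suppOn_bi e) hy⟩
  refine ⟨?_, fun g => blockCoeff_eq_avg hM hP hBe hT g⟩
  obtain ⟨E, hE, hEe⟩ := exists_block_stabilizer hM hP hPT
    (by rw [Subgroup.normalizer_eq_top]; exact le_top) hCT he (fun x hx => (hT x).1 hx)
  refine ⟨E, hE, fun t => ?_⟩
  have h := congrArg (fun a => fn a (t : G)) hEe
  simp only [fn_bx] at h
  rw [← h, Cfsg.subgroupBlockCoeff, dif_pos t.2]

end Cfsg.Agent.S4654
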