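import Cfsg.Statements.S4664
import Cfsg.Agent.Blocks.Orth2
import Cfsg.Agent.Chars.Galois
-- import your own Cfsg.Agent.* helpers here

set_option autoImplicit false
open Cfsg

namespace Cfsg.Agent.S4664

set_option linter.unusedSectionVars false

open scoped ComplexConjugate

/-- Fix a prime p and a maximal ideal M of the algebraic integers containing p, and let B be a p-block of the finite group G. Let m be the p'-part of the order of G and η = exp(2πi/m). Then every coefficient of the idempotent of B lies in the cyclotomic field ℚ(η). -/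
theorem result {G : Type*} [Group G] [Fintype G] (p : ℕ) [Fact p.Prime] (M : Ideal Cfsg.AlgInt) (hM : Cfsg.IsPModular p M) (B : Set (Cfsg.IrrCharacter G)) (hB : Cfsg.IsPBlock M B) (g : G) : Cfsg.blockCoeff B g ∈ IntermediateField.adjoin ℚ ({Complex.exp (2 * Real.pi * Complex.I / ((Nat.card G / p ^ (Nat.card G).factorization p : ℕ) : ℂ))} : Set ℂ) := by
  classical
  by_cases hg : p ∣ orderOf g
  · rw [Lib.Blocks.blockCoeff_eq_zero_of_singular hM hB hg]
    exact zero_mem _
  · set m := Nat.card G / p ^ (Nat.card G).factorization p with hm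
    have hdvd : orderOf g ∣ m :=
      Nat.Coprime.dvd_of_dvd_mul_left
        (((Fact.out : p.Prime).coprime_iff_not_dvd.mpr hg).symm.pow_right _)
        ((Nat.ordProj_mul_ordCompl_eq_self (Nat.card G) p).symm ▸ orderOf_dvd_natCard g)
    haveI : NeZero m := ⟨(Nat.ordCompl_pos p Nat.card_pos.ne').ne'⟩
    unfold Cfsg.blockCoeff
    rw [finsum_mem_eq_toFinset_sum]
    refine mul_mem (inv_mem (natCast_mem _ _)) (sum_mem fun χ _ => ?_)
    obtain ⟨ι, _, c, z, hz, hval⟩ :=
      Lib.Chars.IsCharacter.exists_cyclic_decomp (Lib.Chars.isCharacter_of_irr χ.2) g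
    have h0 := hval 0
    have h1 := hval 1
    rw [pow_one] at h1
    simp only [pow_zero, mul_one] at h0
    simp only [pow_one] at h1
    refine mul_mem ?_ ?_
    · rw [h0]; exact sum_mem fun i _ => natCast_mem _ _
    · rw [h1, map_sum]
      refine sum_mem fun i _ => ?_
      rw [map_mul, map_natCast]
      refine mul_mem (natCast_mem _ _) ?_
      refine Lib.Chars.mem_cycField_of_pow_eq_one m ?_
      obtain ⟨k, hk⟩ := hdvd
      rw [← map_pow, hk, pow_mul, hz i, one_pow, map_one]

end Cfsg.Agent.S4664
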