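import Cfsg.Statements.S4665
import Cfsg.Agent.Blocks.Feit3
-- import your own Cfsg.Agent.* helpers here

set_option autoImplicit false
open Cfsg

namespace Cfsg.Agent.S4665

set_option linter.unusedSectionVars false

open Cfsg.Lib.Blocks Cfsg.Lib.Chars

/-- Fix a prime p, a maximal ideal M of the algebraic integers containing p, and a p-block B of the finite group G, and let p^a be the p-part of the order of G. Let χ be an integer combination of the irreducible characters in B. If the function that agrees with χ on p-regular elements and vanishes on p-singular elements is again an integer combination of the irreducible characters in B, then p^a divides χ(1). -/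
theorem result {G : Type*} [Group G] [Fintype G] (p : ℕ) [Fact p.Prime] (M : Ideal Cfsg.AlgInt) (hM : Cfsg.IsPModular p M) (B : Set (Cfsg.IrrCharacter G)) (hB : Cfsg.IsPBlock M B) (χ : G → ℂ) (hχ : (∃ n : Cfsg.IrrCharacter G → ℤ, ∀ g : G, χ g = ∑ᶠ ψ ∈ B, (n ψ : ℂ) * (ψ : G → ℂ) g)) (h0 : (∃ n : Cfsg.IrrCharacter G → ℤ, ∀ g : G, Cfsg.pRegularPart p χ g = ∑ᶠ ψ ∈ B, (n ψ : ℂ) * (ψ : G → ℂ) g)) : ∃ k : ℤ, χ 1 = (p ^ (Nat.card G).factorization p : ℂ) * k := by
  classical
  obtain ⟨S⟩ : Nonempty (Sylow p G) := inferInstance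
  obtain ⟨n, hn⟩ := h0
  have hgen : Cfsg.IsGeneralizedCharacter G (Cfsg.pRegularPart p χ) := by
    have : Cfsg.pRegularPart p χ = ∑ ψ ∈ Finset.univ.filter (· ∈ B), n ψ • (ψ : G → ℂ) := by
      funext g
      rw [hn, sum_finsum_eq, Finset.sum_apply]
      exact Finset.sum_congr rfl fun ψ _ => by rw [Pi.smul_apply, zsmul_eq_mul]
    rw [this]
    exact IsGeneralizedCharacter.sum _ _ fun ψ _ =>
      IsGeneralizedCharacter.zsmul (IsCharacter.isGeneralized (isCharacter_of_irr ψ.2)) _
  obtain ⟨k, hk⟩ := IsGeneralizedCharacter.exists_mult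
    (IsGeneralizedCharacter.comp_hom hgen (S : Subgroup G).subtype)
    (isIrrCharacter_one (G := (S : Subgroup G)))
  refine ⟨k, ?_⟩
  rw [← hk, classInner_def, S.card_eq_multiplicity, Nat.cast_pow,
    mul_inv_cancel_left₀ (pow_ne_zero _ (Nat.cast_ne_zero.2 (Fact.out : p.Prime).ne_zero)),
    Finset.sum_eq_single (1 : (S : Subgroup G))]
  · simp [pRegularPart_apply, (Fact.out : p.Prime).ne_one]
  · intro u _ hu
    obtain ⟨j, hj⟩ := IsPGroup.iff_orderOf.1 S.2 u
    have hj0 : j ≠ 0 := fun h => hu (orderOf_eq_one_iff.1 (by rw [hj, h, pow_zero]))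
    rw [Subgroup.coe_subtype, pRegularPart_apply,
      if_pos (by rw [Subgroup.orderOf_coe, hj]; exact dvd_pow_self p hj0), zero_mul]
  · intro h; exact absurd (Finset.mem_univ _) h

end Cfsg.Agent.S4665
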