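import Cfsg.Statements.S4666
import Cfsg.Agent.Blocks.Feit3
-- import your own Cfsg.Agent.* helpers here

set_option autoImplicit false
open Cfsg

namespace Cfsg.Agent.S4666

set_option linter.unusedSectionVars false

open Cfsg.Lib.Blocks Cfsg.Lib.Chars

/-- Fix a prime p and a maximal ideal M of the algebraic integers containing p, and a p-block B of the finite group G of defect d. For every integer combination χ of the irreducible characters in B, p^d times the function that agrees with χ on p-regular elements and vanishes elsewhere is again an integer combination of the irreducible characters in B. -/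
theorem result {G : Type*} [Group G] [Fintype G] (p : ℕ) [Fact p.Prime] (M : Ideal Cfsg.AlgInt) (hM : Cfsg.IsPModular p M) (B : Set (Cfsg.IrrCharacter G)) (hB : Cfsg.IsPBlock M B) (χ : G → ℂ) (hχ : (∃ n : Cfsg.IrrCharacter G → ℤ, ∀ g : G, χ g = ∑ᶠ ψ ∈ B, (n ψ : ℂ) * (ψ : G → ℂ) g)) : (∃ n : Cfsg.IrrCharacter G → ℤ, ∀ g : G, (p ^ Cfsg.blockDefect p B : ℂ) * Cfsg.pRegularPart p χ g = ∑ᶠ ψ ∈ B, (n ψ : ℂ) * (ψ : G → ℂ) g) := by
  classical
  obtain ⟨n, hn⟩ := hχ
  obtain ⟨g₀, hg₀⟩ := exists_defectClass hM hB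
  set t := (Subgroup.centralizer ({g₀} : Set G)).index.factorization p
  have hdvd : ∀ ψ φ : Cfsg.IrrCharacter G, ψ ∈ B → φ ∈ B → (p : ℤ) ^ t ∣ regInt p ψ φ :=
    fun ψ φ _ hφ => (pow_dvd_pow _ ((degree_bounds hM hB hg₀).1 φ hφ)).trans
      (pow_deg_dvd_regInt hM ψ φ)
  choose! c hc using hdvd
  refine ⟨fun φ => ∑ ψ ∈ Finset.univ.filter (· ∈ B), n ψ * c ψ φ, fun g => ?_⟩
  rw [sum_finsum_eq]
  have hlin : Cfsg.pRegularPart p χ g =
      ∑ ψ ∈ Finset.univ.filter (· ∈ B), (n ψ : ℂ) * Cfsg.pRegularPart p (ψ : G → ℂ) g := by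
    simp only [pRegularPart_apply]
    split_ifs
    · simp
    · rw [hn, sum_finsum_eq]
  rw [hlin, Finset.mul_sum]
  simp only [Int.cast_sum, Int.cast_mul, Finset.sum_mul]
  rw [Finset.sum_comm]
  refine Finset.sum_congr rfl fun ψ hψ => ?_
  have hψB := (Finset.mem_filter.1 hψ).2
  rw [mul_left_comm, scaled_reg_eq_sum hM hB hψB (defect_add_index hM hB hg₀) (c ψ)
    (fun φ hφ => hc ψ φ hψB hφ) g, Finset.mul_sum]
  exact Finset.sum_congr rfl fun φ _ => by ring

end Cfsg.Agent.S4666
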