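import Cfsg.Statements.S4668
import Cfsg.Agent.Blocks.Normal
-- import your own Cfsg.Agent.* helpers here

set_option autoImplicit false
open Cfsg

namespace Cfsg.Agent.S4668

set_option linter.unusedSectionVars false

open Cfsg.Lib.Blocks

universe u

/-- Coprime action: an element centralising `N_R(D) ≥ D C_R(D)` centralises the `p`-group `R`. -/
lemma centralize_of_normalizer {G : Type u} [Group G] [Finite G] {p : ℕ} [Fact p.Prime]
    {R D : Subgroup G} (hR : IsPGroup p R) (hDR : D ≤ R) {n : G} (hn : ¬ p ∣ orderOf n)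
    (hnR : ∀ y ∈ R, n * y * n⁻¹ ∈ R)
    (hcent : ∀ y ∈ R, y ∈ Subgroup.normalizer (D : Set G) → n * y = y * n) :
    ∀ y ∈ R, n * y = y * n := by
  set C : Subgroup R := (Subgroup.centralizer ({n} : Set G)).subgroupOf R with hC
  have hmem : ∀ y : R, y ∈ C ↔ n * (y : G) = (y : G) * n := fun y => by
    rw [hC, Subgroup.mem_subgroupOf, Subgroup.mem_centralizer_singleton_iff]; exact eq_comm
  haveI : Finite R := inferInstance
  haveI : Group.IsNilpotent R := hR.isNilpotent
  suffices C = ⊤ from fun y hy => (hmem ⟨y, hy⟩).1 (this ▸ Subgroup.mem_top _)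
  refine normalizerCondition_iff_only_full_group_self_normalizing.1
    Group.normalizerCondition_of_isNilpotent C (le_antisymm ?_ Subgroup.le_normalizer)
  intro x hx
  rw [hmem]
  set c : G := (x : G)⁻¹ * (n * (x : G) * n⁻¹) with hc
  have hcR : c ∈ R := R.mul_mem (R.inv_mem x.2) (hnR _ x.2)
  have hcD : c ∈ Subgroup.centralizer (D : Set G) := by
    refine Subgroup.mem_centralizer_iff.2 fun d hd => ?_
    have hdn : n * d = d * n := hcent d (hDR hd) (Subgroup.le_normalizer hd)
    have hxd : n * ((x : G) * d * (x : G)⁻¹) = ((x : G) * d * (x : G)⁻¹) * n := by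
      have h1 := (Subgroup.mem_normalizer_iff.1 hx ⟨d, hDR hd⟩).1 ((hmem ⟨d, hDR hd⟩).2 hdn)
      simpa using (hmem _).1 h1
    have h2 : d * n⁻¹ = n⁻¹ * d := by
      calc d * n⁻¹ = n⁻¹ * (n * d) * n⁻¹ := by group
        _ = n⁻¹ * d := by rw [hdn]; group
    calc d * c = (x : G)⁻¹ * (((x : G) * d * (x : G)⁻¹) * n) * (x : G) * n⁻¹ := by
          rw [hc]; group
      _ = (x : G)⁻¹ * n * (x : G) * (d * n⁻¹) := by rw [← hxd]; group
      _ = c * d := by rw [h2, hc]; group
  have hcn : n * c = c * n := hcent c hcR (Subgroup.centralizer_le_normalizer _ hcD)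
  have hpow : ∀ k : ℕ, n ^ k * (x : G) = (x : G) * c ^ k * n ^ k := by
    intro k
    induction k with
    | zero => simp
    | succ k ih =>
      have hck : n * c ^ k = c ^ k * n := (Commute.pow_right hcn k)
      calc n ^ (k + 1) * (x : G) = n * (n ^ k * (x : G)) := by rw [pow_succ', mul_assoc]
        _ = (x : G) * c * (n * c ^ k) * n ^ k := by rw [ih, hc]; group
        _ = (x : G) * c ^ (k + 1) * n ^ (k + 1) := by
          rw [hck, pow_succ' c k, pow_succ' n k]; group
  have h1 : c ^ orderOf n = 1 := by simpa [pow_orderOf_eq_one] using hpow (orderOf n)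
  obtain ⟨j, hj⟩ := hR ⟨c, hcR⟩
  have hj' : c ^ p ^ j = 1 := congrArg Subtype.val hj
  have hc1 : c = 1 := orderOf_eq_one_iff.1 (Nat.eq_one_of_dvd_coprimes
    ((((Fact.out : p.Prime).coprime_iff_not_dvd).2 hn).pow_left j)
    (orderOf_dvd_of_pow_eq_one hj') (orderOf_dvd_of_pow_eq_one h1))
  have h3 := hpow 1
  rw [hc1] at h3
  simpa using h3

/-- An element of order prime to `p` normalising a chain of `p`-subgroups and centralising the
part of the last one normalising the chain centralises the last one. -/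
lemma centralize_of_chain {G : Type u} [Group G] [Finite G] {p : ℕ} [Fact p.Prime] {m : ℕ}
    {Q : Fin (m + 1) → Subgroup G} (hQ : StrictMono Q) (hQp : ∀ i, IsPGroup p (Q i)) {n : G}
    (hn : ¬ p ∣ orderOf n) (hnQ : ∀ i, n ∈ Subgroup.normalizer (Q i : Set G))
    (h : ∀ y ∈ Q (Fin.last m), (∀ i, y ∈ Subgroup.normalizer (Q i : Set G)) → n * y = y * n) :
    n ∈ Subgroup.centralizer (Q (Fin.last m) : Set G) := by
  have key : ∀ j : ℕ, ∀ y ∈ Q (Fin.last m),
      (∀ i : Fin (m + 1), j ≤ (i : ℕ) → y ∈ Subgroup.normalizer (Q i : Set G)) →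
        n * y = y * n := by
    intro j
    induction j with
    | zero => exact fun y hy hyN => h y hy fun i => hyN i (Nat.zero_le _)
    | succ j ih =>
      intro y hy hyN
      by_cases hj : j < m + 1
      · set R : Subgroup G := Q (Fin.last m) ⊓
          ⨅ (i : Fin (m + 1)) (_ : j + 1 ≤ (i : ℕ)), Subgroup.normalizer (Q i : Set G) with hR
        have hmemR : ∀ z, z ∈ R ↔ z ∈ Q (Fin.last m) ∧
            ∀ i : Fin (m + 1), j + 1 ≤ (i : ℕ) → z ∈ Subgroup.normalizer (Q i : Set G) := fun z => by
          simp [hR, Subgroup.mem_iInf]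
        refine centralize_of_normalizer (D := Q ⟨j, hj⟩) ((hQp _).to_le inf_le_left) ?_ hn ?_ ?_ y
          ((hmemR y).2 ⟨hy, hyN⟩)
        · intro z hz
          exact (hmemR z).2 ⟨hQ.monotone (Fin.le_last _) hz, fun i hi =>
            Subgroup.le_normalizer (hQ.monotone (show (⟨j, hj⟩ : Fin (m + 1)) ≤ i from
              Nat.le_of_succ_le hi) hz)⟩
        · intro z hz
          rw [hmemR] at hz ⊢
          exact ⟨(Subgroup.mem_normalizer_iff.1 (hnQ _) z).1 hz.1, fun i hi =>
            Subgroup.mul_mem _ (Subgroup.mul_mem _ (hnQ i) (hz.2 i hi))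
              (Subgroup.inv_mem _ (hnQ i))⟩
        · intro z hz hzD
          rw [hmemR] at hz
          refine ih z hz.1 fun i hi => ?_
          rcases hi.lt_or_eq with h1 | h1
          · exact hz.2 i h1
          · rwa [show i = ⟨j, hj⟩ from Fin.ext h1.symm]
      · exact ih y hy fun i hi => absurd i.2 (by omega)
  exact Subgroup.mem_centralizer_iff.2 fun y hy =>
    (key (m + 1) y hy fun i hi => absurd i.2 (by omega)).symm

/-- Fix a prime p and a maximal ideal M of the algebraic integers containing p. Let Q₀ < Q₁ < ⋯ < Q_m be a strictly increasing chain of p-subgroups of the finite group G and N the intersection of their normalizers. Then every block idempotent of N is supported on C_G(Q_m): for every p-block E of N, the idempotent coefficient of E vanishes at every element of N outside C_G(Q_m). -/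
theorem result {G : Type*} [Group G] [Fintype G] (p : ℕ) [Fact p.Prime] (M : Ideal Cfsg.AlgInt) (hM : Cfsg.IsPModular p M) (m : ℕ) (Q : Fin (m + 1) → Subgroup G) (hQ : StrictMono Q) (hQp : ∀ i, IsPGroup p (Q i)) (N : Subgroup G) (hN : ∀ g : G, g ∈ N ↔ ∀ i, g ∈ Subgroup.normalizer (Q i : Set G)) (E : Set (Cfsg.IrrCharacter N)) (hE : Cfsg.IsPBlock M E) (n : N) (hn : (n : G) ∉ Subgroup.centralizer (Q (Fin.last m) : Set G)) : Cfsg.blockCoeff E n = 0 := by
  classical
  letI := Fintype.ofFinite N
  set R : Subgroup G := Q (Fin.last m) with hR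
  set R₀ : Subgroup N := R.subgroupOf N with hR0
  haveI : R₀.Normal := ⟨fun y hy t => by
    rw [hR0, Subgroup.mem_subgroupOf] at hy ⊢
    exact (Subgroup.mem_normalizer_iff.1 ((hN t).1 t.2 (Fin.last m)) _).1 hy⟩
  by_contra hne
  have hsup : ∀ x : N, Cfsg.blockCoeff E x ≠ 0 → x ∈ Subgroup.centralizer (R₀ : Set N) :=
    fun x hx => by_contra fun h => hx
      (blockCoeff_eq_zero_of_not_mem_centralizer (P := R₀) hM ((hQp _).comap_subtype) hE h)
  haveI : (Subgroup.centralizer (R₀ : Set N)).Normal := Subgroup.normal_centralizer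
  -- the coefficient is supported on the `p`-regular elements centralising the last term
  set K : Subgroup N := (Subgroup.centralizer (R : Set G)).subgroupOf N with hK
  haveI : K.Normal := ⟨fun x hx t => by
    rw [hK, Subgroup.mem_subgroupOf, Subgroup.mem_centralizer_iff] at hx ⊢
    intro y hy
    have hy' : (t : G)⁻¹ * y * t ∈ R := by
      simpa using (Subgroup.mem_normalizer_iff.1 ((hN _).1 (N.inv_mem t.2) (Fin.last m)) y).1 hy
    have := hx _ hy'
    push_cast
    calc y * (↑t * ↑x * (↑t)⁻¹) = ↑t * ((↑t)⁻¹ * y * ↑t * ↑x) * (↑t)⁻¹ := by group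
      _ = ↑t * ↑x * (↑t)⁻¹ * y := by rw [this]; group⟩
  refine hne (blockCoeff_eq_zero_of_small hM K hE (fun x hx => ?_) (by
    rw [hK, Subgroup.mem_subgroupOf]; exact hn))
  by_contra hsm
  refine hx ?_
  rw [hK, Subgroup.mem_subgroupOf]
  have hord : ¬ p ∣ orderOf (x : G) := by
    rw [Subgroup.orderOf_coe]; exact not_dvd_orderOf_of_not_small hM hE hsm
  refine centralize_of_chain (G := G) hQ hQp hord ((hN _).1 x.2) fun y hy hyN => ?_
  have hyR : (⟨y, (hN y).2 hyN⟩ : N) ∈ R₀ := hy
  have h1 := Subgroup.mem_centralizer_iff.1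
    (hsup x fun h => hsm (by rw [h]; exact small_zero)) _ hyR
  exact (congrArg Subtype.val h1).symm

end Cfsg.Agent.S4668
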