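import Cfsg.Statements.S4679
import Cfsg.Agent.Blocks.BlockFusion
-- import your own Cfsg.Agent.* helpers here

set_option autoImplicit false
open Cfsg

namespace Cfsg.Agent.S4679

set_option linter.unusedSectionVars false

open Cfsg.Lib.Blocks

/-- Fix a prime p and a maximal ideal M of the algebraic integers containing p, a p-block B of the finite group G with maximal Brauer pair (P, e), its fusion system F on P, a Brauer pair (Q, f) ≤ (P, e), and let T be the stabilizer of f in N_G(Q). Then Q is fully normalized in F if and only if N_P(Q) is a defect group of the block of T whose idempotent is that of f. -/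
theorem result {G : Type*} [Group G] [Fintype G] (p : ℕ) [Fact p.Prime] (M : Ideal Cfsg.AlgInt) (hM : Cfsg.IsPModular p M) (B : Set (Cfsg.IrrCharacter G)) (P : Subgroup G) (e : Set (Cfsg.IrrCharacter (Subgroup.centralizer (P : Set G)))) (hmax : Cfsg.IsMaximalBrauerPair p M B P e) (F : Cfsg.FusionSystem P) (hF : Cfsg.IsBlockFusionSystemOn p M B P e F) (Q : Subgroup G) (f : Set (Cfsg.IrrCharacter (Subgroup.centralizer (Q : Set G)))) (hQP : Q ≤ P) (hf : Cfsg.IsPBlock M f) (hle : Cfsg.SubpairLE p M Q f P e) (T : Subgroup G) (hT : ∀ y : G, y ∈ T ↔ y ∈ Subgroup.normalizer (Q : Set G) ∧ Cfsg.StabilizesBlock (Subgroup.centralizer (Q : Set G)) f y) : F.IsFullyNormalized Q ↔ ∃ F' : Set (Cfsg.IrrCharacter T), Cfsg.IsPBlock M F' ∧ (∀ t : T, Cfsg.blockCoeff F' t = Cfsg.subgroupBlockCoeff (Subgroup.centralizer (Q : Set G)) f (t : G)) ∧ Cfsg.IsDefectGroup p M F' ((P ⊓ Subgroup.normalizer (Q : Set G)).subgroupOf T) := by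
  classical
  letI := Fintype.ofFinite T
  have hB := isBrauerPairOf_of_le hM hmax hle
  have hTs : IsPairStab Q f T := hT
  obtain ⟨F₀, hF₀, -, hF₀b, hF₀c⟩ := hTs.exists_block hM hB.1
  obtain ⟨hPT, D, hD, hPD⟩ := exists_defect_stab_ge hM hmax.1.1 hle hTs hF₀ hF₀b
  have hcard : Nat.card ((P ⊓ Subgroup.normalizer (Q : Set G)).subgroupOf T) =
      Nat.card (Cfsg.FusionSystem.normalizerIn P Q) :=
    Nat.card_congr (Subgroup.subgroupOfEquivOfLe hPT).toEquiv
  constructor
  · intro hfn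
    obtain ⟨x, hx, heq, -⟩ := exists_conj_defect_stab hM hmax hB hTs hF₀ hF₀b hD
    have h1 := hfn.2 _ ((blockFusion_isConj_iff hM hF hle _).2 ⟨x, rfl, hx⟩)
    refine ⟨F₀, hF₀, hF₀c, ?_⟩
    suffices h : (P ⊓ Subgroup.normalizer (Q : Set G)).subgroupOf T = D by rw [h]; exact hD
    refine Subgroup.eq_of_le_of_card_ge hPD ?_
    rw [hcard]
    refine le_trans (le_of_eq ?_) h1
    rw [Cfsg.FusionSystem.normalizerIn, ← heq, card_map_conj]
    exact Nat.card_congr (Subgroup.equivMapOfInjective _ _ (Subgroup.subtype_injective _)).toEquiv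
  · rintro ⟨F', hF', hF'c, hdef⟩
    have hbi : bi M T F' = bi M _ f := by
      rw [eq_of_blockCoeff_eq hM hF' hF₀ fun t => (hF'c t).trans (hF₀c t).symm, hF₀b]
    refine ⟨hQP, fun Q' hQ' => ?_⟩
    obtain ⟨g, rfl, hg⟩ := (blockFusion_isConj_iff hM hF hle _).1 hQ'
    obtain ⟨x, hx, heq, -⟩ := exists_conj_defect_stab hM hmax hB hTs hF' hbi hdef
    obtain ⟨T', hT'⟩ : ∃ T' : Subgroup G,
        IsPairStab (Q.map (MulAut.conj g).toMonoidHom) (Cfsg.conjBlock Q g f) T' :=
      ⟨_, (isPairStab_iff hM (isPBlock_conjBlock Q g hf)).2 rfl⟩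
    letI := Fintype.ofFinite T'
    have hB' := isBrauerPairOf_of_le hM hmax hg
    obtain ⟨E, hE, -, hEb, -⟩ := hT'.exists_block hM hB'.1
    obtain ⟨hPT', D', hD', hPD'⟩ := exists_defect_stab_ge hM hmax.1.1 hg hT' hE hEb
    have hT'c : IsConjSub T T' g := isConjSub_pairStab hM hf hTs hT'
    have hEeq : E = conjSet T T' g F' := bi_injective hM hE (IsPBlock.conjSet hT'c hF')
      (by rw [bi_conjSet hT'c, hbi, hEb, bi_conjBlock])
    have hE2 := isDefectGroup_conjSet hT'c hdef
    rw [← hEeq] at hE2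
    have h1 := Subgroup.card_le_of_le hPD'
    rw [IsDefectGroup.card_eq hM hE hD' hE2,
      Nat.card_congr (Subgroup.subgroupOfEquivOfLe hPT').toEquiv,
      Nat.card_congr (Subgroup.subgroupOfEquivOfLe (show _ ≤ T' from fun y hy => by
        obtain ⟨z, hz, rfl⟩ := hy
        exact (hT'c _).2 (by simpa [mul_assoc] using Subgroup.map_subtype_le _ hz))).toEquiv,
      card_map_conj, Subgroup.map_subgroupOf_eq_of_le hPT] at h1
    exact h1

end Cfsg.Agent.S4679
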