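import Cfsg.Statements.S4680
import Cfsg.Agent.Blocks.BlockFusion
-- import your own Cfsg.Agent.* helpers here

set_option autoImplicit false
open Cfsg

namespace Cfsg.Agent.S4680

set_option linter.unusedSectionVars false

open Cfsg.Lib.Blocks

/-- Fix a prime p and a maximal ideal M of the algebraic integers containing p, a p-block B of the finite group G with maximal Brauer pair (P, e), its fusion system F on P, and a Brauer pair (Q, f) ≤ (P, e). Then Q is centric in F if and only if Z(Q) is a defect group of f as a block of C_G(Q). -/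
theorem result {G : Type*} [Group G] [Fintype G] (p : ℕ) [Fact p.Prime] (M : Ideal Cfsg.AlgInt) (hM : Cfsg.IsPModular p M) (B : Set (Cfsg.IrrCharacter G)) (P : Subgroup G) (e : Set (Cfsg.IrrCharacter (Subgroup.centralizer (P : Set G)))) (hmax : Cfsg.IsMaximalBrauerPair p M B P e) (F : Cfsg.FusionSystem P) (hF : Cfsg.IsBlockFusionSystemOn p M B P e F) (Q : Subgroup G) (f : Set (Cfsg.IrrCharacter (Subgroup.centralizer (Q : Set G)))) (hQP : Q ≤ P) (hf : Cfsg.IsPBlock M f) (hle : Cfsg.SubpairLE p M Q f P e) : F.IsCentric Q ↔ Cfsg.IsDefectGroup p M f ((Q ⊓ Subgroup.centralizer (Q : Set G)).subgroupOf (Subgroup.centralizer (Q : Set G))) := by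
  classical
  have hB := isBrauerPairOf_of_le hM hmax hle
  constructor
  · intro hcen
    obtain ⟨D, hD, -⟩ := exists_defect_ge hM hmax.1.1 hle
    obtain ⟨x, hx, heq⟩ := exists_conj_defect hM hmax hB hD
    have h1 := hcen.2 _ ((blockFusion_isConj_iff hM hF hle _).2 ⟨x, rfl, hx⟩)
    have h2 : P ⊓ Subgroup.centralizer ((Q.map (MulAut.conj x).toMonoidHom : Subgroup G) : Set G) =
        (Q ⊓ Subgroup.centralizer (Q : Set G)).map (MulAut.conj x).toMonoidHom := by
      rw [Subgroup.map_inf _ _ _ (MulAut.conj x).injective, map_inf_conj]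
      exact le_antisymm (le_inf h1 inf_le_right) (inf_le_inf_right _ (subpairLE_le hx))
    rw [← heq] at h2
    rw [← Subgroup.map_injective (f := (MulAut.conj x).toMonoidHom) (MulAut.conj x).injective h2,
      subgroupOf_map_self]
    exact hD
  · intro hdef
    refine ⟨hQP, fun Q' hQ' => ?_⟩
    obtain ⟨g, rfl, hg⟩ := (blockFusion_isConj_iff hM hF hle _).1 hQ'
    obtain ⟨E, hE, hPE⟩ := exists_defect_ge hM hmax.1.1 hg
    have hE2 := isDefectGroup_conjSet (isConjSub_centralizer Q g) hdef
    rw [← conjBlock_eq] at hE2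
    have h1 := Subgroup.card_le_of_le hPE
    rw [IsDefectGroup.card_eq hM (isPBlock_conjBlock Q g hf) hE hE2,
      Nat.card_congr (Subgroup.subgroupOfEquivOfLe inf_le_right).toEquiv,
      Nat.card_congr (Subgroup.subgroupOfEquivOfLe
        (show _ ≤ Subgroup.centralizer ((Q.map (MulAut.conj g).toMonoidHom : Subgroup G) : Set G) by
          rw [← map_inf_conj]; exact Subgroup.map_mono (Subgroup.map_subtype_le _))).toEquiv,
      Subgroup.map_subgroupOf_eq_of_le inf_le_right,
      Subgroup.map_inf _ _ _ (MulAut.conj g).injective, map_inf_conj] at h1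
    have h2 := Subgroup.eq_of_le_of_card_ge (inf_le_inf_right _ (subpairLE_le hg)) h1
    intro y hy
    have h3 : y ∈ P ⊓ Subgroup.centralizer
        ((Q.map (MulAut.conj g).toMonoidHom : Subgroup G) : Set G) := hy
    rw [← h2] at h3
    exact h3.1

end Cfsg.Agent.S4680
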