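import Cfsg.Statements.S4682
import Cfsg.Agent.Blocks.Principal
-- import your own Cfsg.Agent.* helpers here

set_option autoImplicit false
open Cfsg

namespace Cfsg.Agent.S4682

set_option linter.unusedSectionVars false

open Cfsg.Lib.Blocks

/-- Fix a prime p and a maximal ideal M of the algebraic integers containing p, a p-block B of the finite group G with maximal Brauer pair (P, e), P abelian, and a Brauer pair (Q, f) ≤ (P, e). Let T_Q be the stabilizer of f in N_G(Q) and T_P the stabilizer of e in N_G(P). Then every element of T_Q is a product of an element of T_P and an element of C_G(Q); and the index of C_G(Q) in T_Q equals the index of T_P ∩ C_G(Q) in T_P ∩ N_G(Q). -/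
theorem result {G : Type*} [Group G] [Fintype G] (p : ℕ) [Fact p.Prime] (M : Ideal Cfsg.AlgInt) (hM : Cfsg.IsPModular p M) (B : Set (Cfsg.IrrCharacter G)) (P : Subgroup G) (e : Set (Cfsg.IrrCharacter (Subgroup.centralizer (P : Set G)))) (hmax : Cfsg.IsMaximalBrauerPair p M B P e) (hab : ∀ x ∈ P, ∀ y ∈ P, x * y = y * x) (Q : Subgroup G) (f : Set (Cfsg.IrrCharacter (Subgroup.centralizer (Q : Set G)))) (hQP : Q ≤ P) (hf : Cfsg.IsPBlock M f) (hle : Cfsg.SubpairLE p M Q f P e) (TQ : Subgroup G) (hTQ : ∀ y : G, y ∈ TQ ↔ y ∈ Subgroup.normalizer (Q : Set G) ∧ Cfsg.StabilizesBlock (Subgroup.centralizer (Q : Set G)) f y) (TP : Subgroup G) (hTP : ∀ y : G, y ∈ TP ↔ y ∈ Subgroup.normalizer (P : Set G) ∧ Cfsg.StabilizesBlock (Subgroup.centralizer (P : Set G)) e y) : (∀ x ∈ TQ, ∃ y ∈ TP, ∃ c ∈ Subgroup.centralizer (Q : Set G), x = y * c) ∧ ((Subgroup.centralizer (Q : Set G)).subgroupOf TQ).index = ((TP ⊓ Subgroup.centralizer (Q : Set G)).subgroupOf (TP ⊓ Subgroup.normalizer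 (Q : Set G))).index := by
  classical
  have hB := isBrauerPairOf_of_le hM hmax hle
  have hPC : P ≤ Subgroup.centralizer (Q : Set G) := fun y hy =>
    Subgroup.mem_centralizer_iff.2 fun q hq => hab q (hQP hq) y hy
  have hdec : ∀ x ∈ TQ, ∃ y ∈ TP, ∃ c ∈ Subgroup.centralizer (Q : Set G), x = y * c := by
    intro x hx
    obtain ⟨hxN, hxs⟩ := (hTQ x).1 hx
    obtain ⟨y, hyN, hye, c, hc, rfl⟩ := exists_stab_decomp hM hmax hab hle hxN
      ((stabilizes_iff_of_normalizer hM hB.1.2 hxN).1 hxs)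
    exact ⟨y, (hTP y).2 ⟨hyN, (stabilizes_iff_of_normalizer hM hmax.1.1.2 hyN).2 hye⟩, c, hc, rfl⟩
  refine ⟨hdec, ?_⟩
  set A : Subgroup G := TP ⊓ Subgroup.normalizer (Q : Set G) with hA
  have hTPQ : IsPairStab Q f TQ := hTQ
  have hAT : A ≤ TQ := by
    intro y hy
    obtain ⟨hyN, hys⟩ := (hTP y).1 hy.1
    refine (hTQ y).2 ⟨hy.2, (stabilizes_iff_of_normalizer hM hB.1.2 hy.2).2 ?_⟩
    have h1 := subpairLE_conj hM hle y
    have hidx : conjIdx y (⟨P, e⟩ : Cfsg.BrauerPairIdx G) = ⟨P, e⟩ := by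
      refine idx_ext hM (map_conj_of_mem_normalizer hyN) (isPBlock_conjBlock _ _ hmax.1.1.2)
        hmax.1.1.2 ?_
      show bi M _ (Cfsg.conjBlock P y e) = _
      rw [bi_conjBlock, (stabilizes_iff_of_normalizer hM hmax.1.1.2 hyN).1 hys]
    change Relation.ReflTransGen (Cfsg.NormalSubpairRel p M) _ (conjIdx y ⟨P, e⟩) at h1
    rw [hidx] at h1
    have key : ∀ (Q' : Subgroup G) (f' : Set (Cfsg.IrrCharacter
        (Subgroup.centralizer (Q' : Set G)))), Q' = Q → Cfsg.SubpairLE p M Q' f' P e →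
        bi M (Subgroup.centralizer (Q' : Set G)) f' = bi M _ f := by
      rintro Q' f' rfl h
      rw [ExistsUnique.unique (existsUnique_subpairLE hM hmax.1.1 hQP) h hle]
    rw [← bi_conjBlock]
    exact key _ _ (map_conj_of_mem_normalizer hy.2) h1
  haveI hCn : ((Subgroup.centralizer (Q : Set G)).subgroupOf TQ).Normal := ⟨fun c hc t =>
    (Subgroup.mem_normalizer_iff.1 (centralizer_le_normalizer_centralizer
      (hTPQ.le_normalizer t.2) le_rfl) (c : G)).1 hc⟩
  let φ : A →* TQ ⧸ (Subgroup.centralizer (Q : Set G)).subgroupOf TQ :=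
    (QuotientGroup.mk' _).comp (Subgroup.inclusion hAT)
  have hker : φ.ker = (TP ⊓ Subgroup.centralizer (Q : Set G)).subgroupOf A := by
    ext a
    refine (QuotientGroup.eq_one_iff _).trans ?_
    exact ⟨fun h => ⟨a.2.1, h⟩, fun h => h.2⟩
  have hsurj : Function.Surjective φ := by
    intro q
    obtain ⟨x, rfl⟩ := QuotientGroup.mk'_surjective _ q
    obtain ⟨y, hy, c, hc, hxy⟩ := hdec x x.2
    have hyA : y ∈ A := ⟨hy, by
      have h : y = (x : G) * c⁻¹ := by rw [hxy]; group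
      rw [h]
      exact Subgroup.mul_mem _ (hTPQ.le_normalizer x.2)
        (Subgroup.inv_mem _ (Subgroup.centralizer_le_normalizer _ hc))⟩
    refine ⟨⟨y, hyA⟩, QuotientGroup.eq.2 ?_⟩
    show y⁻¹ * (x : G) ∈ Subgroup.centralizer (Q : Set G)
    rw [hxy, inv_mul_cancel_left]; exact hc
  rw [← hker, Subgroup.index_ker, MonoidHom.range_eq_top.2 hsurj, Subgroup.card_top]
  rfl

end Cfsg.Agent.S4682
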