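import Cfsg.Statements.S4683
import Cfsg.Agent.Blocks.Columns
import Cfsg.Agent.Blocks.Pairs
-- import your own Cfsg.Agent.* helpers here

set_option autoImplicit false
open Cfsg

namespace Cfsg.Agent.S4683

set_option linter.unusedSectionVars false

open Cfsg.Lib.Blocks Cfsg.Lib.Chars
open scoped ComplexConjugate

/-- Fix a prime p and a maximal ideal M of the algebraic integers containing p, a p-block B of the finite group G, a p-element u and a p-block e of C = C_G(u) such that (⟨u⟩, e) is a Brauer pair of B (a Brauer element of B). For χ ∈ B let χ_u be the e-part of the class function c ↦ χ(u c) on C and χ_u' the e-part of c ↦ χ(u⁻¹ c). Then the sum over χ ∈ B and over the p-regular elements s of C of χ_u(s)·χ_u'(s⁻¹) equals the order of C times the p-regular rank of e (the number of irreducible Brauer characters of e). -/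
theorem result {G : Type*} [Group G] [Fintype G] (p : ℕ) [Fact p.Prime] (M : Ideal Cfsg.AlgInt) (hM : Cfsg.IsPModular p M) (B : Set (Cfsg.IrrCharacter G)) (u : G) (hu : ∃ k : ℕ, orderOf u = p ^ k) (e : Set (Cfsg.IrrCharacter (Subgroup.centralizer (Subgroup.zpowers u : Set G)))) (hBe : Cfsg.IsBrauerPairOf p M B (Subgroup.zpowers u) e) : ∑ᶠ χ ∈ B, ∑ᶠ s : Subgroup.centralizer (Subgroup.zpowers u : Set G), Cfsg.pRegularPart p (Cfsg.blockPart e (fun c : Subgroup.centralizer (Subgroup.zpowers u : Set G) => (χ : G → ℂ) (u * c))) s * Cfsg.blockPart e (fun c : Subgroup.centralizer (Subgroup.zpowers u : Set G) => (χ : G → ℂ) (u⁻¹ * c)) s⁻¹ = (Nat.card (Subgroup.centralizer (Subgroup.zpowers u : Set G)) : ℂ) * (Cfsg.blockRank p e : ℂ) := by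
  classical
  letI := Fintype.ofFinite (Subgroup.centralizer (Subgroup.zpowers u : Set G))
  have hind := ((isBrauerPairOf_iff hM B (Subgroup.zpowers u) e).1 hBe).2
  rw [finsum_mem_eq_sum_of_inter_support_eq _ (t := Finset.univ.filter (· ∈ B)) (by simp)]
  simp only [finsum_eq_sum_of_fintype]
  rw [Finset.sum_comm, ← sum_colKer_regular hM hind.1, Finset.sum_filter]
  refine Finset.sum_congr rfl fun s _ => ?_
  by_cases hs : p ∣ orderOf s
  · simp [pRegularPart_apply, hs]
  rw [if_pos hs, ← sum_blockPart_mul_conj_blockPart hM hu rfl hind hs hs]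
  refine Finset.sum_congr rfl fun χ _ => ?_
  rw [pRegularPart_apply, if_neg hs]
  congr 1
  rw [blockPart_eq_colKer, blockPart_eq_colKer, map_mul, map_inv₀, map_natCast, map_sum]
  congr 1
  refine Fintype.sum_equiv (Equiv.inv _) _ _ fun c => ?_
  rw [Equiv.inv_apply, map_mul]
  congr 1
  · rw [← IsCharacter.conj_inv (isCharacter_of_irr χ.2)]
    refine congrArg _ ?_
    rw [Subgroup.coe_inv, mul_inv_rev, inv_inv]
    exact ((commute_of_mem_centralizer rfl c.2).inv_left).eq
  · rw [colKer_eq, colKer_eq, map_sum]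
    refine Finset.sum_congr rfl fun ψ _ => ?_
    rw [map_mul, Complex.conj_conj, ← IsCharacter.conj_inv (isCharacter_of_irr ψ.2),
      ← IsCharacter.conj_inv (isCharacter_of_irr ψ.2)]

end Cfsg.Agent.S4683
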