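import Cfsg.Statements.S4690
import Cfsg.Agent.Blocks.Star.NilpotentBlock

set_option autoImplicit false
open Cfsg

namespace Cfsg.Agent.S4690

open Cfsg.Lib.Chars Cfsg.Lib.Blocks Cfsg.Lib.Blocks.Star

/-- The characters of a nilpotent block correspond to those of the defect group. -/
theorem result {G : Type*} [Group G] [Fintype G] (p : ℕ) [Fact p.Prime] (M : Ideal Cfsg.AlgInt) (hM : Cfsg.IsPModular p M) (B : Set (Cfsg.IrrCharacter G)) (hnil : Cfsg.IsNilpotentBlock p M B) (P : Subgroup G) (hP : Cfsg.IsDefectGroup p M B P) : ∃ Φ : B ≃ Cfsg.IrrCharacter P, ∀ χ : B, Cfsg.blockHeight p B ((χ : Cfsg.IrrCharacter G) : G → ℂ) = (Cfsg.charDegree ((Φ χ : Cfsg.IrrCharacter P) : P → ℂ)).factorization p := by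
  classical
  obtain ⟨c, hmax⟩ := exists_pair_of_defect hM hnil.1 hP
  obtain ⟨χ₀, hχ₀, h0, Φ, hΦ⟩ := nilpotent_characters hM hmax hnil
  refine ⟨Φ.symm, fun χ => ?_⟩
  obtain ⟨ζ, rfl⟩ := Φ.surjective χ
  rw [Equiv.symm_apply_apply]
  have hcd : ∀ {A : Type _} [Group A] [Fintype A] (θ : IrrCharacter A),
      charDegree (θ : A → ℂ) = deg (θ : A → ℂ) := fun _ => rfl
  have hdeg : deg ((Φ ζ : IrrCharacter G) : G → ℂ) = deg (ζ : P → ℂ) * deg (χ₀ : G → ℂ) := by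
    apply Nat.cast_injective (R := ℂ)
    rw [Nat.cast_mul, ← irr_apply_one_eq_deg, ← irr_apply_one_eq_deg, ← irr_apply_one_eq_deg]
    exact hΦ ζ 1 (by simpa using (Fact.out : p.Prime).ne_one)
  have hmin : sInf ((fun ψ : IrrCharacter G => (charDegree (ψ : G → ℂ)).factorization p) '' B) ≤
      (charDegree (χ₀ : G → ℂ)).factorization p :=
    Nat.sInf_le ⟨χ₀, hχ₀, rfl⟩
  rw [blockHeight] at h0 ⊢
  rw [hcd] at h0 hmin ⊢
  rw [hdeg, Nat.factorization_mul (deg_irr_pos ζ).ne' (deg_irr_pos χ₀).ne', Finsupp.add_apply]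
  rw [hcd]
  omega

end Cfsg.Agent.S4690
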