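import Cfsg.Statements.S4693
import Cfsg.Agent.Blocks.Nilpotent
import Cfsg.Agent.Blocks.BrauerHom
-- import your own Cfsg.Agent.* helpers here

set_option autoImplicit false
open Cfsg

namespace Cfsg.Agent.S4693

set_option linter.unusedSectionVars false

open Cfsg.Lib.Blocks

/-- Fix a prime p and a maximal ideal M of the algebraic integers containing p, a p-block B of the finite group G with maximal Brauer pair (P, e) and fusion system F on P, and a Brauer pair (Q, f) ≤ (P, e) with Q centric in F. Suppose every element of G normalizes Q and stabilizes f. Then the idempotent of B agrees with that of f modulo M at every element of G, and f is the idempotent of a nilpotent block of Q·C_G(Q): some p-block of Q·C_G(Q) has the idempotent coefficients of f and is nilpotent. -/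
theorem result {G : Type*} [Group G] [Fintype G] (p : ℕ) [Fact p.Prime] (M : Ideal Cfsg.AlgInt) (hM : Cfsg.IsPModular p M) (B : Set (Cfsg.IrrCharacter G)) (P : Subgroup G) (e : Set (Cfsg.IrrCharacter (Subgroup.centralizer (P : Set G)))) (hmax : Cfsg.IsMaximalBrauerPair p M B P e) (F : Cfsg.FusionSystem P) (hF : Cfsg.IsBlockFusionSystemOn p M B P e F) (Q : Subgroup G) (f : Set (Cfsg.IrrCharacter (Subgroup.centralizer (Q : Set G)))) (hQP : Q ≤ P) (hf : Cfsg.IsPBlock M f) (hle : Cfsg.SubpairLE p M Q f P e) (hcen : F.IsCentric Q) (hG : ∀ x : G, x ∈ Subgroup.normalizer (Q : Set G) ∧ Cfsg.StabilizesBlock (Subgroup.centralizer (Q : Set G)) f x) : (∀ g : G, Cfsg.MemLocalIdeal M (Cfsg.blockCoeff B g - Cfsg.subgroupBlockCoeff (Subgroup.centralizer (Q : Set G)) f g)) ∧ ∃ F' : Set (Cfsg.IrrCharacter ↥(Q ⊔ Subgroup.centralizer (Q : Set G))), Cfsg.IsPBlock M F' ∧ (∀ t : ↥(Q ⊔ Subgroup.centralizer (Q : Set G)), Cfsg.blockCoeff F' t = Cfsg.subgroupBlockCoeff (Subgroup.centralizer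 (Q : Set G)) f (t : G)) ∧ Cfsg.IsNilpotentBlock p M F' := by
  classical
  haveI := charP_res hM
  letI := Fintype.ofFinite (Subgroup.centralizer (Q : Set G))
  have hQp : IsPGroup p Q := hmax.1.1.1.to_le hQP
  have hfB : IsBrauerPairOf p M B Q f := isBrauerPairOf_of_le hM hmax hle
  have hN : Subgroup.normalizer (Q : Set G) = ⊤ := (Subgroup.eq_top_iff' _).2 fun x => (hG x).1
  haveI : Q.Normal := Subgroup.normalizer_eq_top_iff.1 hN
  -- the idempotent of the block
  have hBeq : ∀ g : G, blockCoeff B g =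
      subgroupBlockCoeff (Subgroup.centralizer (Q : Set G)) f g := by
    intro g
    rw [blockCoeff_eq_avg hM hQp hfB (T := ⊤)
      (fun x => ⟨fun _ => (hG x).2, fun _ => Subgroup.mem_top x⟩) g,
      Finset.sum_congr rfl fun x _ => show subgroupBlockCoeff (Subgroup.centralizer (Q : Set G)) f
        (x⁻¹ * g * x) = subgroupBlockCoeff (Subgroup.centralizer (Q : Set G)) f g by
        have h := congrArg (fun a => fn a g) (cj_bx_of_stabilizes hM hf (hG x).2)
        simp only [fn_cj, fn_bx] at h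
        exact h,
      Finset.sum_const, Finset.card_univ, nsmul_eq_mul, ← mul_assoc,
      Nat.card_congr (Subgroup.topEquiv (G := G)).toEquiv, Nat.card_eq_fintype_card,
      inv_mul_cancel₀ (Nat.cast_ne_zero.2 Fintype.card_ne_zero), one_mul]
  refine ⟨fun g => ?_, ?_⟩
  · rw [hBeq g, sub_self, memLocalIdeal_iff_small hM isAlgebraic_zero]
    exact small_zero
  -- the block of the product with the centraliser
  set X : Subgroup G := Q ⊔ Subgroup.centralizer (Q : Set G) with hX
  letI := Fintype.ofFinite X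
  have hQX : Q ≤ X := le_sup_left
  have hCX : Subgroup.centralizer (Q : Set G) ≤ X := le_sup_right
  obtain ⟨E, hE, hEx⟩ := exists_block_stabilizer hM hQp hQX (fun x _ => (hG x).1) hCX hf
    fun x _ => (hG x).2
  have hEb : bi M X E = bi M (Subgroup.centralizer (Q : Set G)) f := by
    rw [← red_bx, hEx, red_bx]
  refine ⟨E, hE, fun t => ?_, hE, fun R k hRk x hxN hxs hxreg => ?_⟩
  · have h := congrArg (fun a => fn a (t : G)) hEx
    simp only [fn_bx] at h
    rw [← h, subgroupBlockCoeff, dif_pos t.2]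
  -- the defect group of the block is `Q`
  obtain ⟨D, hD⟩ := exists_defectGroup hM hE
  have hQD : Q ≤ D.map X.subtype := self_le_defect_stab hM hQp hQX (fun x _ => (hG x).1) hE hD
  have hDQ : D.map X.subtype ≤ Q := by
    have hDp : IsPGroup p (D.map X.subtype) := (IsDefectGroup.isPGroup hD).map _
    have hne := br_defect_ne_zero hM hE hD
    rw [hEb] at hne
    obtain ⟨D₁, hD₁, hle₁⟩ := exists_defect_ge_of_br hM hf (hDp.to_le inf_le_left)
      (inf_le_right : D.map X.subtype ⊓ Subgroup.centralizer (Q : Set G) ≤ _) (fun h0 => hne (by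
        rw [← br_br (inf_le_left : D.map X.subtype ⊓ Subgroup.centralizer (Q : Set G) ≤ _), h0,
          br_zero]))
    obtain ⟨w, hw, hDw⟩ := exists_conj_defect hM hmax hfB hD₁
    rw [map_conj_of_mem_normalizer (hG w).1] at hDw
    have hconj : F.IsConj Q Q := ⟨conjHom Q 1, F.conj_mem hQP P.one_mem, by
      ext y
      constructor
      · rintro ⟨u, rfl⟩
        show (1 : G) * (u : G) * (1 : G)⁻¹ ∈ Q
        rw [one_mul, inv_one, mul_one]; exact u.2
      · intro hy
        exact ⟨⟨y, hy⟩, show (1 : G) * y * (1 : G)⁻¹ = y by rw [one_mul, inv_one, mul_one]⟩⟩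
    have h1 : (D₁.map (Subgroup.subtype _)).map (MulAut.conj w).toMonoidHom ≤ Q :=
      hDw.le.trans (hcen.2 Q hconj)
    intro y hy
    obtain ⟨q, hq, c, hc, rfl⟩ := Set.mem_mul.1 (by
      have hyX : y ∈ Q ⊔ Subgroup.centralizer (Q : Set G) := Subgroup.map_subtype_le D hy
      rw [← SetLike.mem_coe, Subgroup.normal_mul] at hyX
      exact hyX)
    refine Q.mul_mem hq ?_
    have hcD : c ∈ D.map X.subtype := by
      have := (D.map X.subtype).mul_mem ((D.map X.subtype).inv_mem (hQD hq)) hy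
      rwa [inv_mul_cancel_left] at this
    have h2 : w * c * w⁻¹ ∈ Q := h1 ⟨c, ⟨⟨c, hc⟩, hle₁ ⟨hcD, hc⟩, rfl⟩, rfl⟩
    exact (Subgroup.mem_normalizer_iff.1 (hG w).1 c).2 h2
  obtain ⟨a, ha⟩ := exists_le_conj_of_pair (G := X) hM hD hRk
  have hRQ : ∀ r ∈ R, (r : G) ∈ Q := by
    intro r hr
    obtain ⟨d, hd, rfl⟩ := ha hr
    have hdQ : (d : G) ∈ Q := hDQ ⟨d, hd, rfl⟩
    exact (Subgroup.mem_normalizer_iff.1 (hG (a : G)).1 (d : G)).1 hdQ
  -- the image modulo the centraliser of `R`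
  obtain ⟨q, hq, c, hc, hqc⟩ := Set.mem_mul.1 (by
    have hxX : (x : G) ∈ Q ⊔ Subgroup.centralizer (Q : Set G) := x.2
    rw [← SetLike.mem_coe, Subgroup.normal_mul] at hxX
    exact hxX)
  set CR : Subgroup X := Subgroup.centralizer (R : Set X) with hCR
  have hcR : (⟨c, hCX hc⟩ : X) ∈ CR := Subgroup.mem_centralizer_iff.2 fun r hr =>
    Subtype.ext (Subgroup.mem_centralizer_iff.1 hc (r : G) (hRQ r hr))
  set W : Subgroup X := Subgroup.normalizer (R : Set X)
  haveI : (CR.subgroupOf W).Normal := ⟨fun y hy t =>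
    (Subgroup.mem_normalizer_iff.1 (centralizer_le_normalizer_centralizer t.2 le_rfl) (y : X)).1 hy⟩
  have hqW : (⟨q, hQX hq⟩ : X) ∈ W := by
    have h1 : (⟨q, hQX hq⟩ : X) = x * (⟨c, hCX hc⟩ : X)⁻¹ := Subtype.ext (by
      show q = (x : G) * c⁻¹
      rw [← hqc, mul_inv_cancel_right])
    rw [h1]
    exact mul_mem hxN (inv_mem (Subgroup.centralizer_le_normalizer _ hcR))
  have hmk : ((⟨x, hxN⟩ : W) : W ⧸ CR.subgroupOf W) =
      ((⟨⟨q, hQX hq⟩, hqW⟩ : W) : W ⧸ CR.subgroupOf W) := by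
    refine QuotientGroup.eq.2 ?_
    show x⁻¹ * (⟨q, hQX hq⟩ : X) ∈ CR
    have h1 : x⁻¹ * (⟨q, hQX hq⟩ : X) = (⟨c, hCX hc⟩ : X)⁻¹ := Subtype.ext (by
      show (x : G)⁻¹ * q = c⁻¹
      rw [← hqc, mul_inv_rev, inv_mul_cancel_right])
    rw [h1]; exact inv_mem hcR
  obtain ⟨m, hm⟩ := hQp ⟨q, hq⟩
  have hone : ((⟨x, hxN⟩ : W) : W ⧸ CR.subgroupOf W) = 1 := by
    refine map_eq_one_of_coprime (p := p) (m := orderOf x) (k := m) ?_ ?_ hxreg
    · rw [← QuotientGroup.mk_pow, show (⟨x, hxN⟩ : W) ^ orderOf x = 1 from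
        Subtype.ext (pow_orderOf_eq_one x), QuotientGroup.mk_one]
    · rw [hmk, ← QuotientGroup.mk_pow, show (⟨⟨q, hQX hq⟩, hqW⟩ : W) ^ p ^ m = 1 from
        Subtype.ext (Subtype.ext (congrArg Subtype.val hm :)), QuotientGroup.mk_one]
  exact (QuotientGroup.eq_one_iff (⟨x, hxN⟩ : W)).1 hone

end Cfsg.Agent.S4693
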