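import Cfsg.Statements.S4696
import Cfsg.Agent.Blocks.CyclicDefect.Heights
import Cfsg.Agent.Blocks.CyclicDefect.Stab

set_option autoImplicit false
open Cfsg

namespace Cfsg.Agent.S4696

open Cfsg.Lib.Blocks Cfsg.Lib.Chars

/-- Let p be a prime, M a maximal ideal of the algebraic integers containing p, and B a p-block of the finite group G whose defect group D is cyclic of order p^a with a ≥ 1. Let C = C_G(D), let b be a block of C inducing B, let T be the stabilizer of b in N_G(D) (the elements g of N_G(D) such that the g-conjugate of every member of b is again in b), and let e be the index of C in T (the inertial index of B). Then e divides p − 1, every irreducible character in B has height zero, and B is the disjoint union of a set X of e characters and a set Y of (p^a − 1)/e characters, the members of Y agreeing on p-regular elements, for which there are signs δ_χ = ±1 (χ ∈ X) and δ₀ = ±1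 such that: for every ψ ∈ Y and every p-regular g, δ₀ ψ(g) + Σ_{χ ∈ X} δ_χ χ(g) = 0; for all χ, χ' ∈ X the integers δ_χ χ(1) and δ_χ' χ'(1) are congruent modulo p^a; and for ψ ∈ Y and χ ∈ X, ψ(1) ≡ −e δ₀ δ_χ χ(1) modulo p^a. -/
theorem result {G : Type*} [Group G] [Finite G] (p : ℕ) [Fact p.Prime] (M : Ideal Cfsg.AlgInt) (hM : Cfsg.IsPModular p M) (D : Subgroup G) (hD : IsCyclic D) (a : ℕ) (ha : 1 ≤ a) (hDa : Nat.card D = p ^ a) (B : Set (Cfsg.IrrCharacter G)) (hB : Cfsg.IsPBlock M B) (hBD : Cfsg.IsDefectGroup p M B D) (b : Set (Cfsg.IrrCharacter (Subgroup.centralizer (D : Set G)))) (hind : Cfsg.IsInducedBlock M (Subgroup.centralizer (D : Set G)) b B) (T : Subgroup G) (hT : ∀ g : G, g ∈ T ↔ (g ∈ Subgroup.normalizer (D : Set G) ∧ ∀ θ ∈ b, ∀ θ' : Cfsg.IrrCharacter (Subgroup.centralizer (D : Set G)), (∀ h h' : Subgroup.centralizer (D : Set G), (h' : G) = g * h * g⁻¹ → (θ' : Subgroup.centralizer (D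 : Set G) → ℂ) h' = (θ : Subgroup.centralizer (D : Set G) → ℂ) h) → θ' ∈ b)) (e : ℕ) (he : (Subgroup.centralizer (D : Set G)).relIndex T = e) : e ∣ p - 1 ∧ (∀ χ ∈ B, Cfsg.blockHeight p B (χ : G → ℂ) = 0) ∧ ∃ X Y : Set (Cfsg.IrrCharacter G), B = X ∪ Y ∧ Disjoint X Y ∧ Nat.card X = e ∧ Nat.card Y = (p ^ a - 1) / e ∧ (∀ ψ ∈ Y, ∀ ψ' ∈ Y, ∀ g : G, ¬ p ∣ orderOf g → (ψ : G → ℂ) g = (ψ' : G → ℂ) g) ∧ ∃ (δ : Cfsg.IrrCharacter G → ℤ) (δ₀ : ℤ), (∀ χ ∈ X, δ χ = 1 ∨ δ χ = -1) ∧ (δ₀ = 1 ∨ δ₀ = -1) ∧ (∀ ψ ∈ Y, ∀ g : G, ¬ p ∣ orderOf g → (δ₀ : ℂ) * (ψ : G → ℂ) g + ∑ᶠ χ ∈ X, (δ χ : ℂ) * (χ : G → ℂ) g = 0) ∧ (∀ χ ∈ X, ∀ χ' ∈ X, δ χ * (Cfsg.charDegree (χ : G → ℂ) : ℤ) ≡ δ χ' * (Cfsg.charDegree (χ' : G → ℂ) : ℤ) [ZMOD (p : ℤ) ^ a]) ∧ (∀ ψ ∈ Y, ∀ χ ∈ X, (Cfsg.charDegree (ψ : G → ℂ) : ℤ) ≡ -((e : ℤ) * δ₀ * δ χ * (Cfsg.charDegree (χ : G → ℂ) : ℤ)) [ZMOD (p : ℤ) ^ a]) := by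
  classical
  haveI := Fintype.ofFinite G
  have hp : p.Prime := Fact.out
  have hD1 : D ≠ ⊥ := fun h => by
    rw [h, Subgroup.card_bot] at hDa
    exact absurd hDa.symm (Nat.one_lt_pow (by omega) hp.one_lt).ne'
  have hc := (isBrauerPairOf_iff hM B D b).2 ⟨IsDefectGroup.isPGroup hBD, hind⟩
  have hT' := CyclicDefect.isPairStab_of_explicit hT
  obtain ⟨hdvd, s⟩ := CyclicDefect.inertia_props hM hBD hc hD hD1 hT'
  obtain ⟨E⟩ := CyclicDefect.exists_exceptional hM hBD hc hD hD1 hT'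
  obtain ⟨m, hm, hcard, -⟩ := CyclicDefect.card_and_rank hM hBD hc hD hD1 hT'
  rw [he] at hdvd hm hcard
  have he0 : 0 < e := Nat.pos_of_ne_zero fun h => by
    rw [h, zero_mul, hDa] at hm
    exact absurd hm (Nat.one_lt_pow (by omega) hp.one_lt).ne
  have hep : ¬ p ∣ e := fun h => by
    have h1 := Nat.le_of_dvd he0 h
    have h2 := Nat.le_of_dvd (by have := hp.two_le; omega) hdvd
    have := hp.two_le
    omega
  have hnd : ¬ p ∣ (Subgroup.centralizer (D : Set G)).relIndex T := by rw [he]; exact hep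
  have hn : a ≤ (Nat.card G).factorization p := by
    refine (hp.pow_dvd_iff_le_factorization Nat.card_pos.ne').1 ?_
    rw [← hDa]
    exact Subgroup.card_subgroup_dvd_card D
  have hpn : (p : ℤ) ^ a ∣ (p : ℤ) ^ (Nat.card G).factorization p := pow_dvd_pow _ hn
  refine ⟨hdvd, fun χ hχ => E.height_zero s hD1 hnd hχ, (E.X : Set _), B \ (E.X : Set _),
    (Set.union_sdiff_cancel fun χ hχ => E.mem_X χ hχ).symm, Set.disjoint_sdiff_right, ?_, ?_, ?_,
    E.δ, E.δ₀, fun χ hχ => E.sign χ hχ, E.sign₀, ?_, ?_, ?_⟩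
  · rw [Nat.card_coe_set_eq, Set.ncard_coe_finset, E.card_X, he]
  · rw [Nat.card_coe_set_eq, Set.ncard_sdiff (fun χ hχ => E.mem_X χ hχ), Set.ncard_coe_finset,
      E.card_X, he, ← Nat.card_coe_set_eq, hcard, ← hDa, ← hm, Nat.add_sub_cancel,
      Nat.add_sub_cancel, Nat.mul_div_cancel_left _ he0]
  · rintro ψ ⟨hψ, hψX⟩ ψ' ⟨hψ', hψX'⟩ g hg
    obtain h | ⟨l, hl, rfl⟩ := E.cover ψ hψ
    · exact absurd h hψX
    obtain h | ⟨k, hk, rfl⟩ := E.cover ψ' hψ'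
    · exact absurd h hψX'
    have h0 : (E.δ₀ : ℂ) ≠ 0 := by rcases E.sign₀ with h | h <;> rw [h] <;> norm_num
    exact mul_left_cancel₀ h0 (add_right_cancel ((E.regular l hl g hg).trans (E.regular k hk g hg).symm))
  · rintro ψ ⟨hψ, hψX⟩ g hg
    obtain h | ⟨l, hl, rfl⟩ := E.cover ψ hψ
    · exact absurd h hψX
    rw [finsum_mem_coe_finset]
    exact E.regular l hl g hg
  · intro χ hχ χ' hχ'
    exact Int.modEq_iff_dvd.2 (hpn.trans (E.congr_X s hχ' hχ))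
  · rintro ψ ⟨hψ, hψX⟩ χ hχ
    obtain h | ⟨l, hl, rfl⟩ := E.cover ψ hψ
    · exact absurd h hψX
    refine (Int.modEq_iff_dvd.2 ?_).symm
    have h := E.congr_Ψ s hl (χ := χ) hχ
    rw [he] at h
    exact hpn.trans h

end Cfsg.Agent.S4696
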