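import Cfsg.Statements.S4697
import Cfsg.Agent.Blocks.RankTwo.Count

set_option autoImplicit false
open Cfsg

namespace Cfsg.Agent.S4697

open Cfsg.Lib.Blocks

/-- Three generators of a commutative group. -/
lemma exists_exponents {A : Type*} [Group A] [Finite A] (hab : ∀ a b : A, a * b = b * a)
    {g₁ g₂ g₃ : A} (h : Subgroup.closure ({g₁, g₂, g₃} : Set A) = ⊤) (y : A) :
    ∃ l i j : ℕ, y = g₁ ^ l * (g₂ ^ i * g₃ ^ j) := by
  letI : CommGroup A := { (inferInstance : Group A) with mul_comm := hab }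
  have hle : Subgroup.closure ({g₁, g₂, g₃} : Set A) ≤
      Subgroup.zpowers g₁ ⊔ (Subgroup.zpowers g₂ ⊔ Subgroup.zpowers g₃) := by
    refine (Subgroup.closure_le _).2 ?_
    rintro w (rfl | rfl | rfl)
    · exact Subgroup.mem_sup_left (Subgroup.mem_zpowers w)
    · exact Subgroup.mem_sup_right (Subgroup.mem_sup_left (Subgroup.mem_zpowers w))
    · exact Subgroup.mem_sup_right (Subgroup.mem_sup_right (Subgroup.mem_zpowers w))
  obtain ⟨a, ha, b, hb, rfl⟩ := Subgroup.mem_sup.1 (hle (h ▸ Subgroup.mem_top y))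
  obtain ⟨c, hc, d, hd, rfl⟩ := Subgroup.mem_sup.1 hb
  obtain ⟨l, rfl⟩ := mem_powers_iff_mem_zpowers.2 ha
  obtain ⟨i, rfl⟩ := mem_powers_iff_mem_zpowers.2 hc
  obtain ⟨j, rfl⟩ := mem_powers_iff_mem_zpowers.2 hd
  exact ⟨l, i, j, rfl⟩

/-- Let p be a prime, M a maximal ideal of the algebraic integers containing p, and B a p-block of the finite group G with an abelian defect group D of order p^d. If D has rank 2 (its least number of generators is 2) then B contains at most p^d irreducible characters; if D has rank 3 then the number k of irreducible characters in B satisfies k^3 ≤ p^(5d). -/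
theorem result {G : Type*} [Group G] [Finite G] (p : ℕ) [Fact p.Prime] (M : Ideal Cfsg.AlgInt) (hM : Cfsg.IsPModular p M) (B : Set (Cfsg.IrrCharacter G)) (hB : Cfsg.IsPBlock M B) (D : Subgroup G) (hBD : Cfsg.IsDefectGroup p M B D) (hab : IsMulCommutative D) (d : ℕ) (hDd : Nat.card D = p ^ d) : (Group.rank D = 2 → Nat.card B ≤ p ^ d) ∧ (Group.rank D = 3 → Nat.card B ^ 3 ≤ p ^ (5 * d)) := by
  haveI := Fintype.ofFinite G
  have hcomm : ∀ a ∈ D, ∀ b ∈ D, a * b = b * a := fun a ha b hb =>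
    congrArg Subtype.val (hab.is_comm.comm (⟨a, ha⟩ : D) ⟨b, hb⟩)
  have hcomm' : ∀ a b : D, a * b = b * a := fun a b => Subtype.ext (hcomm a a.2 b b.2)
  obtain ⟨S, hS, hclS⟩ := Group.rank_spec D
  classical
  refine ⟨fun h2 => ?_, fun h3 => ?_⟩
  · obtain ⟨x, z, -, rfl⟩ := Finset.card_eq_two.1 (hS.trans h2)
    rw [← hDd]
    refine RankTwo.card_le_of_two_generated hM hB hBD hcomm x.2 z.2 fun d hd => ?_
    obtain ⟨l, i, j, h⟩ := exists_exponents hcomm' (g₁ := x) (g₂ := x) (g₃ := z)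
      (by rw [← hclS]; simp) ⟨d, hd⟩
    exact ⟨l + i, j, by rw [pow_add, mul_assoc]; simpa using congrArg Subtype.val h⟩
  · obtain ⟨g₁, g₂, g₃, -, -, -, rfl⟩ := Finset.card_eq_three.1 (hS.trans h3)
    have hp : IsPGroup p D := IsDefectGroup.isPGroup hBD
    obtain ⟨y, hy, hmax⟩ := Finset.exists_max_image ({g₁, g₂, g₃} : Finset D) orderOf
      ⟨g₁, by simp⟩
    have hord : ∀ g ∈ ({g₁, g₂, g₃} : Finset D), g ^ orderOf y = 1 := fun g hg => by
      obtain ⟨a, ha⟩ := IsPGroup.iff_orderOf.1 hp g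
      obtain ⟨b, hb⟩ := IsPGroup.iff_orderOf.1 hp y
      have := hmax g hg
      rw [ha, hb] at this
      rw [← orderOf_dvd_iff_pow_eq_one, ha, hb]
      exact pow_dvd_pow p ((Nat.pow_le_pow_iff_right (Fact.out : p.Prime).one_lt).1 this)
    have hgen := exists_exponents hcomm' (g₁ := g₁) (g₂ := g₂) (g₃ := g₃) (by rw [← hclS]; simp)
    have hsurj : Function.Surjective fun a : Fin (orderOf y) × Fin (orderOf y) × Fin (orderOf y) =>
        g₁ ^ (a.1 : ℕ) * (g₂ ^ (a.2.1 : ℕ) * g₃ ^ (a.2.2 : ℕ)) := fun d => by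
      obtain ⟨l, i, j, rfl⟩ := hgen d
      refine ⟨(⟨l % orderOf y, Nat.mod_lt _ (orderOf_pos y)⟩, ⟨i % orderOf y, Nat.mod_lt _ (orderOf_pos y)⟩,
        ⟨j % orderOf y, Nat.mod_lt _ (orderOf_pos y)⟩), ?_⟩
      simp only
      rw [← pow_eq_pow_mod _ (hord g₁ (by simp)), ← pow_eq_pow_mod _ (hord g₂ (by simp)),
        ← pow_eq_pow_mod _ (hord g₃ (by simp))]
    have hcard : Nat.card D ≤ orderOf (y : G) ^ 3 := by
      have := Nat.card_le_card_of_surjective _ hsurj
      simp only [Nat.card_eq_fintype_card, Fintype.card_fin] at this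
      rw [Subgroup.orderOf_coe, pow_three]
      simpa using this
    obtain ⟨u, v, huv⟩ : ∃ u v : D, Subgroup.closure ({y, u, v} : Set D) = ⊤ := by
      simp only [Finset.mem_insert, Finset.mem_singleton] at hy
      rcases hy with rfl | rfl | rfl
      · exact ⟨g₂, g₃, by rw [← hclS]; simp⟩
      · exact ⟨g₁, g₃, by rw [← hclS]; simp only [Finset.coe_insert, Finset.coe_singleton]; rw [Set.insert_comm]⟩
      · exact ⟨g₁, g₂, by rw [← hclS]; simp only [Finset.coe_insert, Finset.coe_singleton]; rw [Set.insert_comm, Set.pair_comm]⟩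
    have h := RankTwo.card_cube_le hM hB hBD hcomm y.2 u.2 v.2 (fun d hd => by
      obtain ⟨l, i, j, h⟩ := exists_exponents hcomm' huv ⟨d, hd⟩
      exact ⟨l, i, j, by simpa using congrArg Subtype.val h⟩) hcard
    rwa [hDd, ← pow_mul, mul_comm] at h

end Cfsg.Agent.S4697
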