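import Cfsg.Statements.S4707
import Cfsg.Agent.S0494
import Cfsg.Agent.S0707
import Cfsg.Agent.PermGroups.DegreeTwiceP.Order
import Cfsg.Agent.PermGroups.DegreeTwiceP.Five
import Mathlib.GroupTheory.GroupAction.Jordan
import Mathlib.GroupTheory.Transfer

set_option autoImplicit false
open Cfsg
open scoped Classical

namespace Cfsg.Agent.S4707

/-- Let p > 3 be a prime and G a primitive permutation group of degree 2p that is not doubly transitive. If a Sylow p-subgroup of G has normalizer of order 2p, then p = 5 and G is isomorphic to the alternating group of degree 5. -/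
theorem result {α : Type*} [Fintype α] [DecidableEq α] {p : ℕ} [Fact p.Prime] (hp : 3 < p) (hα : Fintype.card α = 2 * p) (G : Subgroup (Equiv.Perm α)) (hprim : MulAction.IsPreprimitive G α) (hnot2 : ¬ MulAction.IsMultiplyPretransitive G α 2) (P : Sylow p G) (hN : Nat.card (Subgroup.normalizer ((P : Subgroup G) : Set G)) = 2 * p) : p = 5 ∧ Nonempty (G ≃* alternatingGroup (Fin 5)) := by
  classical
  have hpr := (Fact.out : p.Prime)
  have : Fintype G := Fintype.ofFinite G
  have htr : MulAction.IsPretransitive G α := hprim.toIsPretransitive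
  have hcα : Nat.card α = 2 * p := by rw [Nat.card_eq_fintype_card, hα]
  have : Nonempty α := Fintype.card_pos_iff.1 (by omega)
  obtain ⟨v⟩ := this
  have hαG : 2 * p ∣ Nat.card G := by
    have h := (MulAction.stabilizer G v).index_dvd_card
    rwa [MulAction.index_stabilizer_of_transitive, hcα] at h
  have hpG : p ∣ Nat.card G := (dvd_mul_left p 2).trans hαG
  have hPcard : Nat.card (P : Subgroup G) = p := by
    obtain ⟨n, hn⟩ := IsPGroup.iff_card.1 P.isPGroup'
    have hd : p ^ n ∣ 2 * p := by
      rw [← hn, ← hN]; exact Subgroup.card_dvd_of_le Subgroup.le_normalizer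
    have hn0 : n ≠ 0 := by
      rintro rfl
      rw [pow_zero] at hn
      have := P.dvd_card_of_dvd_card hpG
      rw [hn] at this
      exact hpr.not_dvd_one this
    have hn2 : n ≤ 1 := by
      by_contra hc
      have h2 : p * p ∣ 2 * p := by rw [← sq]; exact (pow_dvd_pow p (by omega)).trans hd
      have := Nat.le_of_dvd two_pos (Nat.dvd_of_mul_dvd_mul_right hpr.pos h2)
      omega
    rw [hn, show n = 1 by omega, pow_one]
  have hpidx : ¬p ∣ (P : Subgroup G).index := P.not_dvd_index
  -- normal subgroups
  have hnormal : ∀ K : Subgroup G, K.Normal → K ≠ ⊥ → 2 * p ∣ Nat.card K := by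
    intro K hK hne
    have hblock : MulAction.IsBlock G (MulAction.orbit K v) := MulAction.IsBlock.orbit_of_normal v
    rcases hprim.isTrivialBlock_of_isBlock hblock with h1 | h1
    · exfalso
      apply hne
      rw [Subgroup.eq_bot_iff_forall]
      intro k hk
      apply FaithfulSMul.eq_of_smul_eq_smul (α := α)
      intro z
      obtain ⟨g, rfl⟩ := MulAction.exists_smul_eq G v z
      have hk' : g⁻¹ * k * g ∈ K := by simpa using hK.conj_mem k hk g⁻¹
      have h2 : (g⁻¹ * k * g) • v = v :=
        h1 ⟨⟨_, hk'⟩, rfl⟩ (MulAction.mem_orbit_self v)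
      rw [one_smul]
      calc k • g • v = g • (g⁻¹ * k * g) • v := by rw [← mul_smul, ← mul_smul]; group
        _ = g • v := by rw [h2]
    · have h2 := Nat.card_congr (MulAction.orbitProdStabilizerEquivGroup K v)
      rw [Nat.card_prod, h1, Nat.card_congr (Equiv.Set.univ α), hcα] at h2
      exact Dvd.intro _ h2
  obtain ⟨⟨t, htP⟩, ht'⟩ := exists_prime_orderOf_dvd_card' (G := (P : Subgroup G)) p (by rw [hPcard])
  have hot : orderOf t = p := (Subgroup.orderOf_coe (⟨t, htP⟩ : (P : Subgroup G))).trans ht'
  have hPt : Subgroup.zpowers t = (P : Subgroup G) :=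
    Subgroup.eq_of_le_of_card_ge (Subgroup.zpowers_le.2 htP) (by rw [Nat.card_zpowers, hot, hPcard])
  have hfree : ∀ a : α, t • a ≠ a := by
    intro a ha
    apply hnot2
    set σ : Equiv.Perm α := (t : Equiv.Perm α)
    have hoσ : orderOf σ = p := (Subgroup.orderOf_coe t).trans hot
    obtain ⟨n, hn⟩ := Equiv.Perm.cycleType_prime_order (σ := σ) (hoσ.symm ▸ hpr)
    have hsupp : σ.support.card = (n + 1) * p := by
      rw [← Equiv.Perm.sum_cycleType, hn, Multiset.sum_replicate, hoσ, smul_eq_mul]
    have hlt : σ.support.card < 2 * p := by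
      rw [← hα]
      exact Finset.card_lt_univ_of_notMem (x := a) (by rw [Equiv.Perm.notMem_support]; exact ha)
    have hn0 : n = 0 := by
      by_contra hc
      have : 2 * p ≤ (n + 1) * p := Nat.mul_le_mul_right p (by omega)
      omega
    have hcyc : σ.IsCycle := Equiv.Perm.card_cycleType_eq_one.1 (by rw [hn, Multiset.card_replicate, hn0])
    let s : Set α := ((σ.support : Finset α) : Set α)ᶜ
    have hs : s.ncard = (p - 1) + 1 := by
      rw [Set.ncard_compl, Set.ncard_coe_finset, hcα, hsupp, hn0]
      omega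
    refine MulAction.IsPreprimitive.is_two_pretransitive hprim hs (by omega) ⟨fun x y => ?_⟩
    have hx : σ x.1 ≠ x.1 := by
      have : x.1 ∉ s := x.2
      exact Equiv.Perm.mem_support.1 (by simpa [s] using this)
    have hy : σ y.1 ≠ y.1 := by
      have : y.1 ∉ s := y.2
      exact Equiv.Perm.mem_support.1 (by simpa [s] using this)
    obtain ⟨i, hi⟩ := hcyc.sameCycle hx hy
    refine ⟨⟨t ^ i, ?_⟩, Subtype.ext hi⟩
    rw [mem_fixingSubgroup_iff]
    intro z hz
    have hz' : σ z = z := Equiv.Perm.notMem_support.1 (by simpa [s] using hz)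
    show (σ ^ i) z = z
    exact Equiv.Perm.zpow_apply_eq_self_of_apply_eq_self hz' i
  have hcent : ∀ g : G, Commute g t → g ∈ Subgroup.zpowers t := by
    intro g hg
    by_contra hgP
    rw [hPt] at hgP
    have hgc : g ∈ Subgroup.centralizer ((P : Subgroup G) : Set G) := Subgroup.mem_centralizer_iff.2 fun x hx => by
      rw [SetLike.mem_coe, ← hPt] at hx
      obtain ⟨i, rfl⟩ := hx
      exact ((hg.zpow_right i).eq).symm
    have hle : Subgroup.centralizer ((P : Subgroup G) : Set G) ≤ Subgroup.normalizer ((P : Subgroup G) : Set G) :=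
      Subgroup.centralizer_le_normalizer _
    have hPC : (P : Subgroup G) ≤ Subgroup.centralizer ((P : Subgroup G) : Set G) := fun x hx => by
      refine Subgroup.mem_centralizer_iff.2 fun y hy => ?_
      rw [SetLike.mem_coe, ← hPt] at hy
      rw [← hPt] at hx
      obtain ⟨i, rfl⟩ := hy
      obtain ⟨j, rfl⟩ := hx
      exact zpow_mul_comm t i j
    have h1 := Subgroup.card_dvd_of_le hle
    have h2 := Subgroup.card_dvd_of_le hPC
    rw [hN] at h1
    rw [hPcard] at h2
    obtain ⟨c, hc⟩ := h2
    rw [hc, mul_comm 2 p] at h1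
    have hc2 : c ∣ 2 := Nat.dvd_of_mul_dvd_mul_left hpr.pos h1
    rcases (Nat.dvd_prime Nat.prime_two).1 hc2 with rfl | rfl
    · rw [mul_one] at hc
      exact hgP (Subgroup.eq_of_le_of_card_ge hPC (by rw [hc, hPcard]) ▸ hgc)
    have hNC : Subgroup.centralizer ((P : Subgroup G) : Set G) = Subgroup.normalizer ((P : Subgroup G) : Set G) :=
      Subgroup.eq_of_le_of_card_ge hle (by rw [hc, hN, mul_comm])
    have hcompl := MonoidHom.ker_transferSylow_isComplement' P hNC.ge
    set L := (MonoidHom.transferSylow P hNC.ge).ker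
    have h3 := hcompl.card_mul
    rw [hPcard] at h3
    have hidx : Nat.card L = (P : Subgroup G).index := by
      have h4 := (P : Subgroup G).card_mul_index
      rw [hPcard, ← h3, mul_comm] at h4
      exact Nat.eq_of_mul_eq_mul_right hpr.pos h4.symm
    by_cases hL : L = ⊥
    · rw [hL, Subgroup.card_bot, one_mul] at h3
      rw [← h3] at hαG
      have := Nat.le_of_dvd hpr.pos hαG
      omega
    · exact hpidx (hidx ▸ (dvd_mul_left p 2).trans (hnormal L inferInstance hL))
  let h : Cfsg.Lib.PermGroups.PrimeExceptional.Setting G p :=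
    { t := t, order := hot, odd := by omega, cent := hcent, normCard := by rw [hPt]; exact hN }
  have hNtop : h.N ≠ ⊤ := by
    intro e
    have hPn : (P : Subgroup G).Normal := by
      rw [← hPt]; exact Subgroup.normalizer_eq_top_iff.1 e
    have h1 := hnormal _ hPn (fun e' => by rw [e', Subgroup.card_bot] at hPcard; omega)
    rw [hPcard] at h1
    have := Nat.le_of_dvd hpr.pos h1
    omega
  have hmem : ∀ K : Subgroup G, K.Normal → K ≠ ⊥ → t ∈ K := by
    intro K hK hne
    have hd : ¬p ∣ K.index := fun hc => by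
      have h1 : p * p ∣ Nat.card G := by
        rw [← K.card_mul_index]
        exact Nat.mul_dvd_mul ((dvd_mul_left p 2).trans (hnormal K hK hne)) hc
      rw [← (P : Subgroup G).card_mul_index, hPcard] at h1
      exact hpidx (Nat.dvd_of_mul_dvd_mul_left hpr.pos h1)
    rw [← QuotientGroup.eq_one_iff, ← orderOf_eq_one_iff]
    have h1 : orderOf (t : G ⧸ K) ∣ p := hot ▸ orderOf_map_dvd (QuotientGroup.mk' K) t
    rcases (Nat.dvd_prime hpr).1 h1 with e | e
    · exact e
    · exfalso
      apply hd
      rw [← e, Subgroup.index_eq_card]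
      exact orderOf_dvd_natCard _
  have hmin : ∀ K : Subgroup G, K.Normal → h.t ∉ K → K = ⊥ := fun K hK ht => by
    by_contra hne
    exact ht (hmem K hK hne)
  have hn2 : Cfsg.classInner (Cfsg.Lib.Chars.permChar G α) (Cfsg.Lib.Chars.permChar G α) ≠ 2 := by
    intro e
    apply hnot2
    rw [Cfsg.Lib.PermGroups.DegreeTwiceP.classInner_perm_sq] at e
    have e' : Nat.card (MulAction.orbitRel.Quotient G (α × α)) = 2 := by exact_mod_cast e
    rw [MulAction.is_two_pretransitive_iff]
    intro a b c d hab hcd
    obtain ⟨q, q', hqq, hq⟩ := Nat.card_eq_two_iff.1 e'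
    have hq' : ∀ r : MulAction.orbitRel.Quotient G (α × α), r = q ∨ r = q' := fun r => by
      have : r ∈ ({q, q'} : Set _) := hq ▸ Set.mem_univ r
      simpa using this
    have key : ∀ x y : α, x ≠ y →
        (Quotient.mk'' (x, y) : MulAction.orbitRel.Quotient G (α × α)) ≠ Quotient.mk'' (v, v) := by
      intro x y hxy e''
      obtain ⟨g, hg⟩ := (Quotient.eq''.1 e'' : (x, y) ∈ MulAction.orbit G (v, v))
      exact hxy ((congrArg Prod.fst hg).symm.trans (congrArg Prod.snd hg))
    have heq : (Quotient.mk'' (c, d) : MulAction.orbitRel.Quotient G (α × α)) = Quotient.mk'' (a, b) := by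
      have k1 := key a b hab
      have k2 := key c d hcd
      rcases hq' (Quotient.mk'' (v, v)) with e0 | e0 <;> rcases hq' (Quotient.mk'' (a, b)) with e1 | e1 <;>
        rcases hq' (Quotient.mk'' (c, d)) with e2 | e2 <;> rw [e0, e1] at k1 <;> rw [e0, e2] at k2 <;>
        first
        | exact e2.trans e1.symm
        | exact absurd rfl k1
        | exact absurd rfl k2
    obtain ⟨g, hg⟩ := (Quotient.eq''.1 heq : (c, d) ∈ MulAction.orbit G (a, b))
    exact ⟨g, congrArg Prod.fst hg, congrArg Prod.snd hg⟩
  obtain ⟨θ, ψ, μ, hπ, hθψ, hθ1, hψ1, hθd, hψd, hμ, hinj⟩ := h.decomp α hp hcα hfree hn2 hNtop hmin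
  have hnp : ¬(Nat.card α).Prime := by
    rw [hcα]; exact Nat.not_prime_mul (by omega) (by omega)
  have hstab : ∀ a b : α, MulAction.stabilizer G a = MulAction.stabilizer G b → a = b := fun a b e => by
    by_contra hab
    exact Cfsg.Agent.S0707.result G (Or.inl hnp) hab e
  obtain ⟨a, ha0, hpa, ⟨Γ⟩, hθint⟩ :=
    Cfsg.Lib.PermGroups.DegreeTwiceP.rank_three hα θ ψ hθψ hθ1 hψ1 hπ hθd hψd hstab
  have hstabcard : 2 * p * Nat.card (MulAction.stabilizer G v) = Nat.card G := by
    rw [← (MulAction.stabilizer G v).card_mul_index, MulAction.index_stabilizer_of_transitive, hcα, mul_comm]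
  have hval := Cfsg.Lib.PermGroups.DegreeTwiceP.valency_dvd_stabilizer ha0 Γ v
  obtain rfl : a = 1 := by
    by_contra ha1
    have ha2 : 2 ≤ a := by omega
    have hp5 : 5 < p := by rw [hpa]; nlinarith
    have hord := h.order_eq hμ hinj hp5 hθint hmin
    rw [← hstabcard] at hord
    obtain ⟨c, hc⟩ := hval
    rw [hc] at hord
    have e1 : (2 * (p : ℤ)) * ((2 * a ^ 2 + a) * c) = p * ((p : ℤ) - 1) * ((p : ℤ) - 2) := by
      have := congrArg (Nat.cast : ℕ → ℤ) hord
      push_cast [Nat.cast_sub (show 1 ≤ p by omega), Nat.cast_sub (show 2 ≤ p by omega)] at this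
      linarith
    have hpZ : (p : ℤ) = 2 * (a : ℤ) ^ 2 + 2 * a + 1 := by exact_mod_cast hpa
    have e2 : (2 * (a : ℤ) + 1) * c = ((a : ℤ) + 1) * (2 * (a : ℤ) ^ 2 + 2 * a - 1) := by
      have hp0 : (2 * (p : ℤ) * a) ≠ 0 := by positivity
      refine mul_left_cancel₀ hp0 ?_
      linear_combination e1 + ((p : ℤ) * ((p : ℤ) - 2 + (2 * (a : ℤ) ^ 2 + 2 * a)) ) * hpZ
    have e3 : (2 * (a : ℤ) + 1) ∣ 3 := ⟨-4 * c + (2 * (a : ℤ) + 1) * (2 * a + 2) - 3, by linear_combination 4 * e2⟩
    have := Int.le_of_dvd (by norm_num) e3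
    omega
  have hp5 : p = 5 := by rw [hpa]; norm_num
  refine ⟨hp5, ?_⟩
  subst hp5
  have hG5 : Nat.card G = 10 * Nat.card (Sylow 5 G) := by
    have hi : Nat.card (Sylow 5 G) = (Subgroup.normalizer ((P : Subgroup G) : Set G)).index :=
      P.card_eq_index_normalizer
    rw [hi, ← (Subgroup.normalizer ((P : Subgroup G) : Set G)).card_mul_index, hN]
  have hS6 : Nat.card (MulAction.stabilizer G v) = 6 := by
    have h48 := Cfsg.Lib.PermGroups.DegreeTwiceP.stabilizer_dvd_petersen Γ v
    have h3 : 3 ∣ Nat.card (MulAction.stabilizer G v) := by simpa using hval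
    have hmod := card_sylow_modEq_one 5 G
    have heq : Nat.card (Sylow 5 G) = Nat.card (MulAction.stabilizer G v) := by omega
    rw [heq, Nat.ModEq] at hmod
    obtain ⟨c, hc⟩ := h3
    rw [hc] at h48 hmod ⊢
    have hc16 : c ∣ 16 := Nat.dvd_of_mul_dvd_mul_left (by norm_num : 0 < 3) h48
    have hle := Nat.le_of_dvd (by norm_num) hc16
    interval_cases c <;> omega
  have hG60 : Nat.card G = 60 := by rw [← hstabcard, hS6]
  have hsimple : IsSimpleGroup G := by
    have : Nontrivial G := Finite.one_lt_card_iff_nontrivial.1 (by omega)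
    refine ⟨fun K hK => ?_⟩
    by_cases hne : K = ⊥
    · exact Or.inl hne
    right
    have htK := hmem K hK hne
    have hPK : (P : Subgroup G) ≤ K := hPt ▸ Subgroup.zpowers_le.2 htK
    have hfr := Sylow.normalizer_sup_eq_top (N := K) (P.subtype hPK)
    have hmap : Subgroup.map K.subtype ((P.subtype hPK : Sylow 5 K) : Subgroup K) = (P : Subgroup G) := by
      rw [Sylow.coe_subtype, Subgroup.map_subgroupOf_eq_of_le hPK]
    rw [hmap] at hfr
    by_cases hNK : Subgroup.normalizer ((P : Subgroup G) : Set G) ≤ K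
    · rwa [sup_eq_right.2 hNK] at hfr
    exfalso
    -- the normaliser meets `K` in `P`, so `K` has a normal subgroup of order six
    set N := Subgroup.normalizer ((P : Subgroup G) : Set G) with hNdef
    have hi : (K.subgroupOf N).index = K.index := by
      show K.relIndex N = K.index
      rw [← Subgroup.relIndex_sup_right, ← Subgroup.relIndex_top_right (H := K)]
      exact congrArg (K.relIndex) hfr
    have hcK := K.card_mul_index
    have hcN := (K.subgroupOf N).card_mul_index
    rw [hi, hN] at hcN
    have hKN : Nat.card (K.subgroupOf N) = 5 := by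
      have hd : 5 ∣ Nat.card (K.subgroupOf N) := by
        have hle : (P : Subgroup G).subgroupOf N ≤ K.subgroupOf N := Subgroup.comap_mono hPK
        have := Subgroup.card_dvd_of_le hle
        rwa [Nat.card_congr (Subgroup.subgroupOfEquivOfLe Subgroup.le_normalizer).toEquiv, hPcard] at this
      have hne10 : Nat.card (K.subgroupOf N) ≠ 10 := fun e => hNK (Subgroup.subgroupOf_eq_top.1
        (Subgroup.eq_top_of_card_eq _ (by rw [e, hN])))
      have hd10 : Nat.card (K.subgroupOf N) ∣ 10 := ⟨_, hcN.symm⟩
      have hle10 := Nat.le_of_dvd (by norm_num) hd10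
      have := Nat.card_pos (α := K.subgroupOf N)
      omega
    rw [hKN] at hcN
    rw [show K.index = 2 by omega, hG60] at hcK
    let P' : Sylow 5 K := P.subtype hPK
    have hP'card : Nat.card (P' : Subgroup K) = 5 := by
      rw [show (P' : Subgroup K) = (P : Subgroup G).subgroupOf K from Sylow.coe_subtype ..,
        Nat.card_congr (Subgroup.subgroupOfEquivOfLe hPK).toEquiv, hPcard]
    have hNC : Subgroup.normalizer ((P' : Subgroup K) : Set K) ≤ Subgroup.centralizer ((P' : Subgroup K) : Set K) := by
      intro x hx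
      have hxN : (x : G) ∈ N := by
        rw [hNdef, Subgroup.mem_normalizer_iff]
        intro n
        constructor
        · intro hn
          have := (Subgroup.mem_normalizer_iff.1 hx ⟨n, hPK hn⟩).1 (by
            rw [show (P' : Subgroup K) = (P : Subgroup G).subgroupOf K from Sylow.coe_subtype ..]; exact hn)
          rw [show (P' : Subgroup K) = (P : Subgroup G).subgroupOf K from Sylow.coe_subtype ..] at this
          exact this
        · intro hn
          have hnK : n ∈ K := by
            have h1 := hPK hn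
            have h2 := K.mul_mem (K.mul_mem (K.inv_mem x.2) h1) x.2
            simpa [mul_assoc] using h2
          have := (Subgroup.mem_normalizer_iff.1 hx ⟨n, hnK⟩).2 (by
            rw [show (P' : Subgroup K) = (P : Subgroup G).subgroupOf K from Sylow.coe_subtype ..]; exact hn)
          rw [show (P' : Subgroup K) = (P : Subgroup G).subgroupOf K from Sylow.coe_subtype ..] at this
          exact this
      have hsub : (P : Subgroup G).subgroupOf N = K.subgroupOf N :=
        Subgroup.eq_of_le_of_card_ge (Subgroup.comap_mono hPK) (by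
          rw [hKN, Nat.card_congr (Subgroup.subgroupOfEquivOfLe Subgroup.le_normalizer).toEquiv, hPcard])
      have hxP : (⟨x, hxN⟩ : N) ∈ (P : Subgroup G).subgroupOf N := hsub ▸ x.2
      rw [Subgroup.mem_subgroupOf] at hxP
      refine Subgroup.mem_centralizer_iff.2 fun y hy => Subtype.ext ?_
      rw [SetLike.mem_coe, show (P' : Subgroup K) = (P : Subgroup G).subgroupOf K from Sylow.coe_subtype ..,
        Subgroup.mem_subgroupOf, ← hPt] at hy
      rw [← hPt] at hxP
      obtain ⟨i, hi'⟩ := hxP
      obtain ⟨j, hj'⟩ := hy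
      show (y : G) * (x : G) = (x : G) * (y : G)
      rw [show (x : G) = t ^ i from hi'.symm, show (y : G) = t ^ j from hj'.symm]
      exact zpow_mul_comm t j i
    have hcompl := MonoidHom.ker_transferSylow_isComplement' P' hNC
    set T := MonoidHom.transferSylow P' hNC
    have hL6 : Nat.card T.ker = 6 := by
      have h3 := hcompl.card_mul
      rw [hP'card] at h3
      omega
    have hchar : ∀ l : K, l ∈ T.ker ↔ l ^ 6 = 1 := by
      intro l
      constructor
      · intro hl
        have := pow_card_eq_one' (x := (⟨l, hl⟩ : T.ker))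
        rw [hL6] at this
        exact congrArg Subtype.val this
      · intro hl
        have h1 : orderOf (T l) ∣ 6 := orderOf_dvd_of_pow_eq_one (by rw [← map_pow, hl, map_one])
        have h2 : orderOf (T l) ∣ 5 := by
          have := orderOf_dvd_natCard (T l)
          rwa [hP'card] at this
        have h12 : orderOf (T l) ∣ 1 := by
          have := Nat.dvd_gcd h1 h2
          simpa using this
        exact MonoidHom.mem_ker.2 (orderOf_eq_one_iff.1 (Nat.dvd_one.1 h12))
    have hLn : (T.ker.map K.subtype).Normal := by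
      constructor
      rintro _ ⟨l, hl, rfl⟩ g
      refine ⟨⟨g * (l : G) * g⁻¹, hK.conj_mem _ l.2 g⟩, ?_, rfl⟩
      rw [SetLike.mem_coe, hchar]
      apply Subtype.ext
      rw [SubmonoidClass.coe_pow, OneMemClass.coe_one, conj_pow]
      have := congrArg Subtype.val ((hchar l).1 hl)
      rw [SubmonoidClass.coe_pow, OneMemClass.coe_one] at this
      rw [this, mul_one, mul_inv_cancel]
    have hLcard : Nat.card (T.ker.map K.subtype) = 6 :=
      (Nat.card_congr (Subgroup.equivMapOfInjective _ _ Subtype.val_injective).toEquiv).symm.trans hL6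
    have := hnormal _ hLn (fun e => by rw [e, Subgroup.card_bot] at hLcard; omega)
    rw [hLcard] at this
    norm_num at this
  exact Cfsg.Agent.S0494.result hG60

end Cfsg.Agent.S4707
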