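import Cfsg.Statements.S4708
import Cfsg.Agent.Blocks.CoveringAll
-- import your own Cfsg.Agent.* helpers here

set_option autoImplicit false
open Cfsg

namespace Cfsg.Agent.S4708

set_option linter.unusedSectionVars false

open scoped ComplexConjugate

universe v

open Cfsg.Lib.Chars Cfsg.Lib.Blocks

/-- The two inequalities, over fintypes. -/
theorem bounds {G : Type v} [Group G] [Fintype G] (p : ℕ) [Fact p.Prime] (M : Ideal Cfsg.AlgInt)
    (hM : Cfsg.IsPModular p M) (H : Subgroup G) [H.Normal] [Fintype H]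
    [DecidablePred (· ∈ Cfsg.principalBlock M G)] [DecidablePred (· ∈ Cfsg.principalBlock M H)] :
    (∑ θ ∈ Finset.univ.filter (· ∈ Cfsg.principalBlock M H), deg (θ : H → ℂ) ^ 2) ≤
      (∑ χ ∈ Finset.univ.filter (· ∈ Cfsg.principalBlock M G), deg (χ : G → ℂ) ^ 2) ∧
    (∑ χ ∈ Finset.univ.filter (· ∈ Cfsg.principalBlock M G), deg (χ : G → ℂ) ^ 2) ≤
      H.index * ∑ θ ∈ Finset.univ.filter (· ∈ Cfsg.principalBlock M H), deg (θ : H → ℂ) ^ 2 := by
  classical
  have hB : Cfsg.IsPBlock M (Cfsg.principalBlock M G) := isPBlock_blockOf (principal G)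
  have hb : Cfsg.IsPBlock M (Cfsg.principalBlock M H) := isPBlock_blockOf (principal H)
  have hpG : principal G ∈ Cfsg.principalBlock M G := mem_blockOf_self hM (principal G)
  have hpH : principal H ∈ Cfsg.principalBlock M H := mem_blockOf_self hM (principal H)
  have hpc : Cfsg.classInner (fun n : H => ((principal G : Cfsg.IrrCharacter G) : G → ℂ) n)
      ((principal H : Cfsg.IrrCharacter H) : H → ℂ) ≠ 0 := by
    rw [show (fun n : H => ((principal G : Cfsg.IrrCharacter G) : G → ℂ) n) =
      ((principal H : Cfsg.IrrCharacter H) : H → ℂ) from rfl, classInner_irr_self]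
    exact one_ne_zero
  have hcov := fun (θ : Cfsg.IrrCharacter H) (hθ : θ ∈ Cfsg.principalBlock M H) =>
    exists_over_of_covers hM hB hb ⟨_, hpG, _, hpH, hpc⟩ hθ
  have hinv : ∀ g : G, ∀ θ ∈ Cfsg.principalBlock M H, cjIrr H g θ ∈ Cfsg.principalBlock M H := by
    intro g θ hθ
    have himg : Cfsg.IsPBlock M (cjIrr H g '' Cfsg.principalBlock M H) :=
      IsPBlock.image_irrEquiv _ hb
    have hfix : cjIrr H g (principal H) = principal H := Subtype.ext (by rw [cjIrr_val]; rfl)
    have heq := IsPBlock.eq_of_mem_inter hM himg hb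
      (hfix ▸ Set.mem_image_of_mem _ hpH) hpH
    exact heq ▸ Set.mem_image_of_mem _ hθ
  have hin : ∀ χ ∈ Cfsg.principalBlock M G, ∀ θ : Cfsg.IrrCharacter H,
      Cfsg.classInner (fun n : H => (χ : G → ℂ) n) (θ : H → ℂ) ≠ 0 →
        θ ∈ Cfsg.principalBlock M H := by
    intro χ hχ θ hθ
    obtain ⟨g, θ', hθ', rfl⟩ := constituent_mem_orb hM hB hb hpG hχ hpH hpc hθ
    exact hinv g θ' hθ'
  have hmult : ∀ (χ : Cfsg.IrrCharacter G) (θ : Cfsg.IrrCharacter H), ∃ m : ℕ,
      Cfsg.classInner (fun n : H => (χ : G → ℂ) n) (θ : H → ℂ) = m := fun χ θ =>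
    IsCharacter.exists_mult (IsCharacter.restrict (isCharacter_of_irr χ.2) H) θ.2
  choose m hm using hmult
  have hdegχ : ∀ χ : Cfsg.IrrCharacter G,
      deg (χ : G → ℂ) = ∑ θ : Cfsg.IrrCharacter H, m χ θ * deg (θ : H → ℂ) := by
    intro χ
    apply Nat.cast_injective (R := ℂ)
    rw [← irr_apply_one_eq_deg, Nat.cast_sum]
    have h := classFunction_expand_apply (isClassFunction_isChar
      (IsCharacter.restrict (isCharacter_of_irr χ.2) H)) 1
    rw [OneMemClass.coe_one] at h
    rw [h]
    exact Finset.sum_congr rfl fun θ _ => by rw [Nat.cast_mul, ← hm, ← irr_apply_one_eq_deg]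
  have hdegθ : ∀ θ : Cfsg.IrrCharacter H,
      H.index * deg (θ : H → ℂ) = ∑ χ : Cfsg.IrrCharacter G, m χ θ * deg (χ : G → ℂ) := by
    intro θ
    apply Nat.cast_injective (R := ℂ)
    rw [Nat.cast_mul, ← irr_apply_one_eq_deg, ← indFun_one H (θ : H → ℂ),
      classFunction_expand_apply (isClassFunction_indFun H _) 1, Nat.cast_sum]
    refine Finset.sum_congr rfl fun χ _ => ?_
    rw [frobenius_reciprocity H _ (isClassFunction_irr χ), ← classInner_conj_symm, hm, map_natCast,
      Nat.cast_mul, ← irr_apply_one_eq_deg]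
  constructor
  · choose f hf hf0 using hcov
    set f' : Cfsg.IrrCharacter H → Cfsg.IrrCharacter G := fun θ =>
      if h : θ ∈ Cfsg.principalBlock M H then f θ h else principal G with hf'
    rw [← Finset.sum_fiberwise_of_maps_to (t := Finset.univ.filter (· ∈ Cfsg.principalBlock M G))
      (g := f') (fun θ hθ => by
        have h := (Finset.mem_filter.mp hθ).2
        simp only [hf', dif_pos h, Finset.mem_filter, Finset.mem_univ, true_and]
        exact hf θ h)]
    refine Finset.sum_le_sum fun χ _ => ?_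
    set S := (Finset.univ.filter (· ∈ Cfsg.principalBlock M H)).filter (fun θ => f' θ = χ)
    calc ∑ θ ∈ S, deg (θ : H → ℂ) ^ 2
        ≤ (∑ θ ∈ S, deg (θ : H → ℂ)) ^ 2 := Finset.sum_sq_le_sq_sum_of_nonneg (fun _ _ => Nat.zero_le _)
      _ ≤ deg (χ : G → ℂ) ^ 2 := by
          refine Nat.pow_le_pow_left ?_ 2
          rw [hdegχ χ]
          refine le_trans (Finset.sum_le_sum fun θ hθ => ?_)
            (Finset.sum_le_univ_sum_of_nonneg fun θ => Nat.zero_le _)
          rw [Finset.mem_filter, Finset.mem_filter] at hθ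
          refine Nat.le_mul_of_pos_left _ (Nat.pos_of_ne_zero fun h0 => hf0 θ hθ.1.2 ?_)
          have hfe : f θ hθ.1.2 = χ := (dif_pos hθ.1.2).symm.trans hθ.2
          rw [hfe, hm, h0, Nat.cast_zero]
  · calc (∑ χ ∈ Finset.univ.filter (· ∈ Cfsg.principalBlock M G), deg (χ : G → ℂ) ^ 2)
        = ∑ χ ∈ Finset.univ.filter (· ∈ Cfsg.principalBlock M G),
            ∑ θ ∈ Finset.univ.filter (· ∈ Cfsg.principalBlock M H),
              deg (θ : H → ℂ) * (m χ θ * deg (χ : G → ℂ)) := by
          refine Finset.sum_congr rfl fun χ hχ => ?_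
          rw [Finset.sum_filter_of_ne (fun θ _ hne => hin χ (Finset.mem_filter.mp hχ).2 θ (fun h0 =>
            hne (by
              rw [hm, Nat.cast_eq_zero] at h0
              rw [h0, zero_mul, mul_zero]))), sq]
          nth_rewrite 1 [hdegχ χ]
          rw [Finset.sum_mul]
          exact Finset.sum_congr rfl fun θ _ => by ring
      _ = ∑ θ ∈ Finset.univ.filter (· ∈ Cfsg.principalBlock M H),
            deg (θ : H → ℂ) * ∑ χ ∈ Finset.univ.filter (· ∈ Cfsg.principalBlock M G),
              m χ θ * deg (χ : G → ℂ) := by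
          rw [Finset.sum_comm]
          exact Finset.sum_congr rfl fun θ _ => by rw [Finset.mul_sum]
      _ ≤ ∑ θ ∈ Finset.univ.filter (· ∈ Cfsg.principalBlock M H),
            deg (θ : H → ℂ) * (H.index * deg (θ : H → ℂ)) := by
          refine Finset.sum_le_sum fun θ _ => Nat.mul_le_mul_left _ ?_
          rw [hdegθ]
          exact Finset.sum_le_univ_sum_of_nonneg fun _ => Nat.zero_le _
      _ = _ := by
          rw [Finset.mul_sum]
          exact Finset.sum_congr rfl fun θ _ => by ring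

/-- Let p be a prime, M a maximal ideal of the algebraic integers containing p, G a finite group and H a normal subgroup. Write λ(X) for the sum of the squares of the degrees of the irreducible characters in the principal p-block of a group X. Then λ(H) ≤ λ(G) ≤ [G : H]·λ(H). -/
theorem result {G : Type*} [Group G] [Finite G] (p : ℕ) [Fact p.Prime] (M : Ideal Cfsg.AlgInt) (hM : Cfsg.IsPModular p M) (H : Subgroup G) [H.Normal] : (∑ᶠ θ ∈ Cfsg.principalBlock M H, Cfsg.charDegree (θ : H → ℂ) ^ 2) ≤ (∑ᶠ χ ∈ Cfsg.principalBlock M G, Cfsg.charDegree (χ : G → ℂ) ^ 2) ∧ (∑ᶠ χ ∈ Cfsg.principalBlock M G, Cfsg.charDegree (χ : G → ℂ) ^ 2) ≤ H.index * ∑ᶠ θ ∈ Cfsg.principalBlock M H, Cfsg.charDegree (θ : H → ℂ) ^ 2 := by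
  classical
  letI := Fintype.ofFinite G
  letI := Fintype.ofFinite H
  simp only [finsum_mem_eq_finite_toFinset_sum _ (Set.toFinite _)]
  convert bounds p M hM H using 4 <;> first | (ext; simp) | rfl

end Cfsg.Agent.S4708
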