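import Cfsg.Statements.S4709
import Cfsg.Agent.Blocks.FrobeniusPrincipal
-- import your own Cfsg.Agent.* helpers here

set_option autoImplicit false
open Cfsg

namespace Cfsg.Agent.S4709

set_option linter.unusedSectionVars false

open Cfsg.Lib.Blocks

/-- Let p be a prime, M a maximal ideal of the algebraic integers containing p, and G a finite group with a nontrivial abelian Sylow p-subgroup P; put N = N_G(P), C = C_G(P). Suppose N/C is cyclic of order m with 1 < m < #P − 1 (C has index m in N and N is generated by C and one element), and C_G(y) ∩ N = C for every non-identity y ∈ P. Put r = (#P − 1)/m. Then there is s ≤ m such that the principal p-block is the disjoint union of a set X of s characters containing the principal character and a set Y of r characters, with integers a_χ ≠ 0 (χ ∈ X), d and a sign δ = ±1, such that: every χ ∈ X takes the value a_χ at every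 element whose p-part is a non-identity element of P; there is a map ζ from the non-principal linear characters ψ of P onto Y, constant on N-conjugacy classes, with ζ_ψ(z) = d + δ·Σ ψ'(y) for every z whose p-part y is a non-identity element of P, the sum running over the N-conjugates ψ' of ψ; (d − δ)^2 + (r − 1) d^2 + Σ_{χ ∈ X} a_χ^2 = m + 1; all members of Y agree on p-regular elements; and (r d − δ) η(g) + Σ_{χ ∈ X} a_χ χ(g) = 0 for every η ∈ Y and every p-regular g. -/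
theorem result {G : Type*} [Group G] [Finite G] (p : ℕ) [Fact p.Prime] (M : Ideal Cfsg.AlgInt) (hM : Cfsg.IsPModular p M) (P : Sylow p G) (hab : IsMulCommutative P) (hP1 : Nat.card P ≠ 1) (m : ℕ) (hm1 : 1 < m) (hm2 : m + 1 < Nat.card P) (hCN : (Subgroup.centralizer ((P : Subgroup G) : Set G)).relIndex (Subgroup.normalizer ((P : Subgroup G) : Set G)) = m) (hcyc : ∃ g : G, g ∈ Subgroup.normalizer ((P : Subgroup G) : Set G) ∧ Subgroup.centralizer ((P : Subgroup G) : Set G) ⊔ Subgroup.zpowers g = Subgroup.normalizer ((P : Subgroup G) : Set G)) (hfrob : ∀ y : G, y ∈ (P : Subgroup G) → y ≠ 1 → Subgroup.centralizer ({y} : Set G) ⊓ Subgroup.normalizer ((P : Subgroup G) : Set G) = Subgroup.centralizer ((P : Subgroup G) : Set G)) : ∃ (s : ℕ) (X Y : Set (Cfsg.IrrCharacter G)), s ≤ m ∧ Cfsg.principalBlock M G = X ∪ Y ∧ Disjoint X Y ∧ Nat.card X = s ∧ Nat.card Y = (Nat.card P -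 1) / m ∧ (∃ χ₁ ∈ X, (χ₁ : G → ℂ) = fun _ => 1) ∧ ∃ (a : Cfsg.IrrCharacter G → ℤ) (d δ : ℤ) (ζ : (↥(P : Subgroup G) →* ℂˣ) → Cfsg.IrrCharacter G), (δ = 1 ∨ δ = -1) ∧ (∀ χ ∈ X, a χ ≠ 0 ∧ ∀ z y : G, Cfsg.IsPPart p z y → y ∈ (P : Subgroup G) → y ≠ 1 → (χ : G → ℂ) z = (a χ : ℂ)) ∧ (∀ ψ : ↥(P : Subgroup G) →* ℂˣ, ψ ≠ 1 → ζ ψ ∈ Y) ∧ (∀ η ∈ Y, ∃ ψ : ↥(P : Subgroup G) →* ℂˣ, ψ ≠ 1 ∧ ζ ψ = η) ∧ (∀ ψ ψ' : ↥(P : Subgroup G) →* ℂˣ, ψ ≠ 1 → (∃ n : G, n ∈ Subgroup.normalizer ((P : Subgroup G) : Set G) ∧ ∀ w w' : ↥(P : Subgroup G), (w' : G) = n * w * n⁻¹ → ψ' w' = ψ w) → ζ ψ' = ζ ψ) ∧ (∀ ψ : ↥(P : Subgroup G) →* ℂˣ, ψ ≠ 1 → ∀ (z : G) (y : ↥(P : Subgroup G)), Cfsg.IsPPart p z (y : G) → (y : G) ≠ 1 → (ζ ψ : G → ℂ) z = (d : ℂ) + (δ : ℂ) * ∑ᶠ ψ' ∈ {ψ' : ↥(P : Subgroup G) →* ℂˣ | ∃ n : G, n ∈ Subgroup.normalizer ((P : Subgroup G) : Set G) ∧ ∀ w w' : ↥(P : Subgroup G), (w' : G) = n * w *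 n⁻¹ → ψ' w' = ψ w}, ((ψ' y : ℂˣ) : ℂ)) ∧ ((d - δ) ^ 2 + ((Nat.card P - 1) / m - 1 : ℤ) * d ^ 2 + ∑ᶠ χ ∈ X, a χ ^ 2 = (m : ℤ) + 1) ∧ (∀ η ∈ Y, ∀ η' ∈ Y, ∀ g : G, ¬ p ∣ orderOf g → (η : G → ℂ) g = (η' : G → ℂ) g) ∧ (∀ η ∈ Y, ∀ g : G, ¬ p ∣ orderOf g → ((((Nat.card P - 1) / m : ℕ) : ℂ) * d - δ) * (η : G → ℂ) g + ∑ᶠ χ ∈ X, (a χ : ℂ) * (χ : G → ℂ) g = 0) := by
  classical
  letI := Fintype.ofFinite G
  haveI := Fintype.ofFinite (P : Subgroup G)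
  have h := FrobeniusNormalizer.of_centralizer_inf hab hfrob
  have hm : frobIndex P = m := hCN
  have hlt : frobIndex P + 1 < Nat.card (P : Subgroup G) := hm ▸ hm2
  obtain ⟨ζ, a, d, δ, hD⟩ := exists_frobeniusData hM h hlt
  obtain ⟨hU, hdisj⟩ := frobExc_union_frobOrd hD.mem
  have hc := hD.card_exc_eq
  rw [hm] at hc
  refine ⟨Nat.card (frobOrd M ζ), frobOrd M ζ, frobExc ζ, hm ▸ hD.card_ord_le hlt, hU, hdisj, rfl,
    hc, ⟨Cfsg.Lib.Chars.principal G,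
      ⟨mem_blockOf_self hM (Cfsg.Lib.Chars.principal G), fun ⟨ψ, hψ, e⟩ => hD.ne_principal ψ hψ e⟩,
      rfl⟩,
    a, d, δ, ζ, hD.sign, fun χ hχ => ⟨hD.ne_zero χ hχ, fun z y hz hy hy1 =>
      hD.value_ord χ hχ z ⟨y, hy⟩ hz hy1⟩,
    fun ψ hψ => ⟨ψ, hψ, rfl⟩, fun η hη => hη,
    fun ψ ψ' hψ hmem => (hD.eq_iff ψ' ψ (ne_one_of_mem_sylOrbit hψ hmem) hψ).2
      (thetaFun_eq_of_mem hmem),
    fun ψ hψ z y hz hy => ?_, ?_, ?_, ?_⟩
  · rw [hD.value_exc ψ hψ z y hz hy, thetaFun_eq_finsum h hψ]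
    rfl
  · have e := hD.norm
    rw [hm, hD.card_exc_eq, hm] at e
    have hdvd : m ∣ Nat.card (P : Subgroup G) - 1 :=
      ⟨Nat.card (frobExc ζ), by rw [← hD.card_exc, Nat.add_sub_cancel, hm, mul_comm]⟩
    have hm0 : (m : ℤ) ≠ 0 := by exact_mod_cast (show m ≠ 0 by omega)
    rw [Int.natCast_div, Nat.cast_sub Nat.card_pos, Nat.cast_one] at e
    exact e
  · rintro η ⟨ψ, hψ, rfl⟩ η' ⟨ψ', hψ', rfl⟩ g hg
    exact hD.reg_eq ψ ψ' hψ hψ' g hg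
  · rintro η ⟨ψ, hψ, rfl⟩ g hg
    have e := hD.reg_rel ψ hψ g hg
    rw [hD.card_exc_eq, hm] at e
    exact e

end Cfsg.Agent.S4709
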