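import Cfsg.Statements.S4712
import Cfsg.Agent.Blocks.RationalCount

set_option autoImplicit false
open Cfsg

namespace Cfsg.Agent.S4712

/-- Let p be an odd prime, M a maximal ideal of the algebraic integers containing p, G a finite group of order n with p-part p^a, and B a p-block of G. Call an irreducible character χ p-rational when χ(g^k) = χ(g) for every g and every k coprime to n with k ≡ 1 modulo n/p^a (χ is fixed by the Galois automorphisms fixing the roots of unity of order prime to p). Then the number of p-rational irreducible characters in B is at least the p-regular rank of B (the number of irreducible Brauer characters in B). -/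
theorem result {G : Type*} [Group G] [Finite G] (p : ℕ) [Fact p.Prime] (hodd : p ≠ 2) (M : Ideal Cfsg.AlgInt) (hM : Cfsg.IsPModular p M) (B : Set (Cfsg.IrrCharacter G)) (hB : Cfsg.IsPBlock M B) : Cfsg.blockRank p B ≤ Nat.card {χ : Cfsg.IrrCharacter G // χ ∈ B ∧ ∀ k : ℕ, Nat.Coprime k (Nat.card G) → k ≡ 1 [MOD Nat.card G / p ^ (Nat.card G).factorization p] → ∀ g : G, (χ : G → ℂ) (g ^ k) = (χ : G → ℂ) g} := by
  classical
  haveI := Fintype.ofFinite G
  have hpp : p.Prime := Fact.out
  have hn0 : Nat.card G ≠ 0 := Nat.card_pos.ne'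
  set a := (Nat.card G).factorization p with hadef
  set P := p ^ a with hP
  set m := Nat.card G / P with hm
  have hmul : P * m = Nat.card G := Nat.ordProj_mul_ordCompl_eq_self _ p
  have hcop : P.Coprime m := (Nat.coprime_ordCompl hpp hn0).pow_left a
  haveI : NeZero P := ⟨pow_ne_zero a hpp.ne_zero⟩
  haveI : IsCyclic (ZMod P)ˣ := ZMod.isCyclic_units_of_prime_pow p hpp hodd a
  obtain ⟨u, hu⟩ := IsCyclic.exists_generator (α := (ZMod P)ˣ)
  obtain ⟨k, hk1, hk2⟩ := Nat.chineseRemainder hcop (u : ZMod P).val 1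
  have hkcop : k.Coprime (Nat.card G) := by
    rw [← hmul]
    refine Nat.Coprime.mul_right ?_ ?_
    · show Nat.gcd k P = 1
      rw [hk1.gcd_eq]
      exact ZMod.val_coe_unit_coprime u
    · show Nat.gcd k m = 1
      rw [hk2.gcd_eq, Nat.gcd_one_left]
  have hreg : ∀ g : G, ¬ p ∣ orderOf g → g ^ k = g := by
    intro g hg
    have hd : orderOf g ∣ m :=
      (((hpp.coprime_iff_not_dvd.2 hg).symm.pow_right a).dvd_of_dvd_mul_left (hmul ▸ orderOf_dvd_natCard g))
    conv_rhs => rw [← pow_one g]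
    exact pow_eq_pow_iff_modEq.2 (hk2.of_dvd hd)
  refine (Cfsg.Lib.Blocks.RationalCount.blockRank_le_fixed hM hB k hkcop hreg).trans ?_
  refine Nat.card_le_card_of_injective (fun χ => ⟨χ.1, χ.2.1, fun l hl hl' g => ?_⟩) fun χ ψ h =>
    Subtype.ext (congrArg Subtype.val h :)
  have hiter : ∀ (j : ℕ) (g : G), (χ.1 : G → ℂ) (g ^ k ^ j) = (χ.1 : G → ℂ) g := by
    intro j
    induction j with
    | zero => intro g; rw [pow_zero, pow_one]
    | succ j ih => intro g; rw [pow_succ', pow_mul, ih, χ.2.2]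
  have hlP : l.Coprime P := hl.coprime_dvd_right (Dvd.intro _ hmul)
  obtain ⟨j, hj⟩ := mem_powers_iff_mem_zpowers.2 (hu (ZMod.unitOfCoprime l hlP))
  have hmodP : l ≡ k ^ j [MOD P] := by
    rw [← ZMod.natCast_eq_natCast_iff, Nat.cast_pow, (ZMod.natCast_eq_natCast_iff _ _ _).2 hk1, ZMod.natCast_zmod_val,
      ← Units.val_pow_eq_pow_val, show u ^ j = ZMod.unitOfCoprime l hlP from hj, ZMod.coe_unitOfCoprime]
  have hmodm : l ≡ k ^ j [MOD m] := hl'.trans (by simpa using (hk2.pow j).symm)
  have hmod : l ≡ k ^ j [MOD Nat.card G] := hmul ▸ (Nat.modEq_and_modEq_iff_modEq_mul hcop).1 ⟨hmodP, hmodm⟩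
  rw [show g ^ l = g ^ k ^ j from pow_eq_pow_iff_modEq.2 (hmod.of_dvd (orderOf_dvd_natCard g)), hiter]

end Cfsg.Agent.S4712
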