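import Cfsg.Statements.S4714
import Mathlib
import Cfsg.Agent.Blocks.NormalDefectHeight
-- import your own Cfsg.Agent.* helpers here

set_option autoImplicit false
open Cfsg

namespace Cfsg.Agent.S4714

set_option linter.unusedSectionVars false

open Cfsg.Lib.Chars Cfsg.Lib.Blocks

/-- Let p be a prime, M a maximal ideal of the algebraic integers containing p, D a p-subgroup of the finite group G with G = D·C_G(D), and B a p-block with defect group D. Let χ be a member of B having D in its kernel (there is exactly one, the canonical character of B). Then the irreducible characters in B are exactly the functions θ on G for which there is an irreducible character ζ of D such that θ(yx) = ζ(y)χ(x) whenever y ∈ D, x has order prime to p and x commutes with y, and θ(z) = 0 whenever the p-part of z does not lie in D. -/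
theorem result {G : Type*} [Group G] [Finite G] (p : ℕ) [Fact p.Prime] (M : Ideal Cfsg.AlgInt) (hM : Cfsg.IsPModular p M) (D : Subgroup G) (hD : IsPGroup p D) (hG : D ⊔ Subgroup.centralizer (D : Set G) = ⊤) (B : Set (Cfsg.IrrCharacter G)) (hB : Cfsg.IsPBlock M B) (hBD : Cfsg.IsDefectGroup p M B D) (χ : Cfsg.IrrCharacter G) (hχ : χ ∈ B) (hχD : ∀ y ∈ D, (χ : G → ℂ) y = (χ : G → ℂ) 1) : (∀ θ : Cfsg.IrrCharacter G, θ ∈ B ↔ ∃ ζ : Cfsg.IrrCharacter D, (∀ (y : D) (x : G), ¬ p ∣ orderOf x → Commute (y : G) x → (θ : G → ℂ) ((y : G) * x) = (ζ : D → ℂ) y * (χ : G → ℂ) x) ∧ (∀ z : G, (∀ y : G, Cfsg.IsPPart p z y → y ∉ D) → (θ : G → ℂ) z = 0)) ∧ ∀ ζ : Cfsg.IrrCharacter D, ∃ θ ∈ B, (∀ (y : D) (x : G), ¬ p ∣ orderOf x → Commute (y : G) x → (θ : G → ℂ) ((y : G) * x) = (ζ : D → ℂ) y * (χ : G → ℂ) x) ∧ (∀ z : G, (∀ y : G, Cfsg.IsPPart p z y → y ∉ D) → (θ : G → ℂ) z = 0) := by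
  classical
  haveI := Fintype.ofFinite G
  have hp : p.Prime := Fact.out
  haveI hPn : D.Normal := by
    rw [← Subgroup.normalizer_eq_top_iff, eq_top_iff, ← hG]
    exact sup_le Subgroup.le_normalizer (Subgroup.centralizer_le_normalizer _)
  haveI : Fintype (G ⧸ D) := Fintype.ofFinite _
  obtain ⟨φ, hφB, hφd, huniq⟩ := exists_canonical hM hD hG hB hBD
  obtain ⟨f, hf, hfχ⟩ := exists_factor (QuotientGroup.mk' D) (QuotientGroup.mk'_surjective D)
    (isCharacter_of_irr χ.2) (fun k hk => hχD k (by rwa [QuotientGroup.ker_mk'] at hk))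
  have hfi : Cfsg.IsIrrCharacter (G ⧸ D) f :=
    IsIrrCharacter.descend hf _ (QuotientGroup.mk'_surjective D) (hfχ ▸ χ.2)
  have hfφ : (⟨f, hfi⟩ : Cfsg.IrrCharacter (G ⧸ D)) = φ :=
    huniq _ ((show χ = inflate D ⟨f, hfi⟩ from Subtype.ext hfχ) ▸ hχ)
  have hχφ : ∀ y : G, (χ : G → ℂ) y = (φ : G ⧸ D → ℂ) (y : G ⧸ D) := fun y => by
    rw [← hfφ]; exact congrFun hfχ y
  let P : Cfsg.IrrCharacter G → Cfsg.IrrCharacter D → Prop := fun θ ζ =>
    (∀ (y : D) (x : G), ¬ p ∣ orderOf x → Commute (y : G) x →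
      (θ : G → ℂ) ((y : G) * x) = (ζ : D → ℂ) y * (χ : G → ℂ) x) ∧
    (∀ z : G, (∀ y : G, Cfsg.IsPPart p z y → y ∉ D) → (θ : G → ℂ) z = 0)
  have hmem : ∀ θ ∈ B, ∃ ζ, P θ ζ := by
    intro θ hθ
    obtain ⟨ζ, hζ⟩ := exists_restrict_eq hM hD hG hB hBD hφd huniq hθ
    refine ⟨ζ, fun y x hx _ => ?_, fun z hz => ?_⟩
    · rw [apply_eq_canonical hM hD hG hB huniq hθ y.2 hx, hζ y, hχφ, irr_apply_one_eq_deg φ,
        mul_div_cancel_left₀ _ (Nat.cast_ne_zero.2 (deg_irr_pos φ).ne')]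
    · obtain ⟨x, hx⟩ := exists_isPPart' hp z
      exact apply_eq_zero_of_forall_not_mem hM hB hθ hx (fun E hE => by
        rw [defectGroup_eq_normal hM hB hBD hE]; exact hz x hx)
  have hinj : ∀ θ θ' ζ, P θ ζ → P θ' ζ → θ = θ' := by
    intro θ θ' ζ h h'
    refine Subtype.ext (funext fun z => ?_)
    obtain ⟨x, hx⟩ := exists_isPPart' hp z
    by_cases hxD : x ∈ D
    · obtain ⟨y, hxy, hc, -, hy⟩ := hx
      rw [← hxy, h.1 ⟨x, hxD⟩ y hy hc, h'.1 ⟨x, hxD⟩ y hy hc]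
    · rw [h.2 z fun y hy => by rw [IsPPart.eq hp hy hx]; exact hxD,
        h'.2 z fun y hy => by rw [IsPPart.eq hp hy hx]; exact hxD]
  have hone : ∀ θ ζ ζ', P θ ζ → P θ ζ' → ζ = ζ' := by
    intro θ ζ ζ' h h'
    refine Subtype.ext (funext fun y => ?_)
    have e1 := h.1 y 1 (by rw [orderOf_one]; exact hp.not_dvd_one) (Commute.one_right _)
    have e2 := h'.1 y 1 (by rw [orderOf_one]; exact hp.not_dvd_one) (Commute.one_right _)
    exact mul_right_cancel₀ (IsIrrCharacter.apply_one_ne_zero χ.2) (e1.symm.trans e2)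
  choose g hg using fun θ : B => hmem θ θ.2
  letI : Fintype B := Fintype.ofFinite B
  letI : Fintype (Cfsg.IrrCharacter D) := Fintype.ofFinite _
  have hbij : Function.Bijective g := by
    refine (Fintype.bijective_iff_injective_and_card g).2 ⟨fun a b h => Subtype.ext ?_, ?_⟩
    · exact hinj _ _ _ (hg a) (h ▸ hg b)
    · rw [← Nat.card_eq_fintype_card, ← Nat.card_eq_fintype_card, card_irrCharacter,
        card_block_eq_card_classes hM hD hG hB hBD]
  have hsurj : ∀ ζ, ∃ θ ∈ B, P θ ζ := fun ζ => by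
    obtain ⟨a, rfl⟩ := hbij.2 ζ
    exact ⟨a, a.2, hg a⟩
  refine ⟨fun θ => ⟨hmem θ, ?_⟩, hsurj⟩
  rintro ⟨ζ, hζ⟩
  obtain ⟨θ', hθ', hPθ'⟩ := hsurj ζ
  rw [hinj θ θ' ζ hζ hPθ']
  exact hθ' 

end Cfsg.Agent.S4714
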