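import Cfsg.Statements.S4715
import Cfsg.Agent.Blocks.MajorHeightBound

set_option autoImplicit false
open Cfsg Cfsg.Lib.Blocks

namespace Cfsg.Agent.S4715

/-- Let p be a prime, M a maximal ideal of the algebraic integers containing p, B a p-block of the finite group G with defect group D of order p^d, H = D·C_G(D), b a block of H inducing B, T the stabilizer of b in N_G(D) and e = [T : H] the inertial index of B; let n be the integer with p^n ≤ e < p^(n+1) and p^c the order of the centre of D. Then every irreducible character in B has height h with h + c ≤ n + d. -/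
theorem result {G : Type*} [Group G] [Finite G] (p : ℕ) [Fact p.Prime] (M : Ideal Cfsg.AlgInt) (hM : Cfsg.IsPModular p M) (B : Set (Cfsg.IrrCharacter G)) (hB : Cfsg.IsPBlock M B) (D : Subgroup G) (hBD : Cfsg.IsDefectGroup p M B D) (d : ℕ) (hDd : Nat.card D = p ^ d) (H : Subgroup G) (hH : H = D ⊔ Subgroup.centralizer (D : Set G)) (b : Set (Cfsg.IrrCharacter H)) (hind : Cfsg.IsInducedBlock M H b B) (T : Subgroup G) (hT : ∀ g : G, g ∈ T ↔ (g ∈ Subgroup.normalizer (D : Set G) ∧ ∀ θ ∈ b, ∀ θ' : Cfsg.IrrCharacter H, (∀ h h' : H, (h' : G) = g * h * g⁻¹ → (θ' : H → ℂ) h' = (θ : H → ℂ) h) → θ' ∈ b)) (e : ℕ) (he : H.relIndex T = e) (n : ℕ) (hn : p ^ n ≤ e ∧ e < p ^ (n + 1)) (c : ℕ) (hc : Nat.card (Subgroup.center D) = p ^ c) : ∀ χ ∈ B, Cfsg.blockHeight p B (χ : G → ℂ) + c ≤ n + d := by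
  classical
  letI := Fintype.ofFinite G
  letI : Fintype H := Fintype.ofFinite _
  intro χ hχ
  have hDH : D ≤ H := hH.symm ▸ le_sup_left
  have hCH : Subgroup.centralizer (D : Set G) ≤ H := hH.symm ▸ le_sup_right
  have hHN : H ≤ Subgroup.normalizer (D : Set G) :=
    hH.symm ▸ sup_le Subgroup.le_normalizer (Subgroup.centralizer_le_normalizer _)
  have hDp := IsDefectGroup.isPGroup hBD
  obtain ⟨f, hf, hbr⟩ := exists_local_pair hM hDp hDH hCH hHN hind.1
  have hpair := pair_of_isInducedBlock hM hDH hCH hind.1 hf hbr hind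
  have hTs : ∀ t ∈ Subgroup.normalizer (D : Set G),
      cj t (bi M (Subgroup.centralizer (D : Set G)) f) = bi M (Subgroup.centralizer (D : Set G)) f →
        t ∈ T := by
    intro t ht htf
    have hnH : t ∈ Subgroup.normalizer (H : Set G) := by
      rw [hH]
      have hC := centralizer_le_normalizer_centralizer ht (le_refl D)
      refine Subgroup.normalizer_inf_normalizer_le_normalizer_sup _ _ ⟨ht, hC⟩
    have hb1 : conjSet H H t b = b := by
      refine eq_of_br hM hDH hCH hf (IsPBlock.conjSet (isConjSub_of_mem_normalizer hnH) hind.1)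
        hind.1 ?_ hbr
      rw [bi_conjSet (isConjSub_of_mem_normalizer hnH)]
      have h2 := congrArg (cj t) hbr
      rwa [cj_mul, cj_br, map_conj_of_mem_normalizer ht, htf] at h2
    refine (hT t).2 ⟨ht, fun θ hθ θ' hval => ?_⟩
    rw [← hb1]
    exact ⟨θ, hθ, hval⟩
  have hcomm : ∀ h ∈ H, ∀ y ∈ D, (∀ a ∈ D, a * y = y * a) → h * y * h⁻¹ = y := by
    intro h hh y hy hyc
    have hle : H ≤ Subgroup.centralizer ({y} : Set G) := by
      rw [hH]
      refine sup_le (fun a ha => Subgroup.mem_centralizer_singleton_iff.2 (hyc a ha)) fun a ha => ?_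
      exact Subgroup.mem_centralizer_singleton_iff.2 (Subgroup.mem_centralizer_iff.1 ha y hy).symm
    rw [Subgroup.mem_centralizer_singleton_iff.1 (hle hh), mul_inv_cancel_right]
  have h1 := height_add_center_le hM hBD hpair hDd hc hTs hcomm hχ
  rw [he] at h1
  have h2 : p ^ (Cfsg.blockHeight p B (χ : G → ℂ) + c) < p ^ (n + 1 + d) := by
    refine h1.trans_lt ?_
    rw [pow_add]
    exact Nat.mul_lt_mul_of_pos_right hn.2 (pow_pos (Fact.out : p.Prime).pos _)
  have h3 := (Nat.pow_lt_pow_iff_right (Fact.out : p.Prime).one_lt).1 h2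
  omega

end Cfsg.Agent.S4715
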