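import Cfsg.Statements.S4721
import Cfsg.Agent.Blocks.FrobeniusThree
-- import your own Cfsg.Agent.* helpers here

set_option autoImplicit false
open Cfsg

namespace Cfsg.Agent.S4721

set_option linter.unusedSectionVars false

open Cfsg.Lib.Blocks Cfsg.Lib.Chars

/-- Let p be a prime, M a maximal ideal of the algebraic integers containing p, and G a finite group with a nontrivial abelian Sylow p-subgroup P, N = N_G(P), C = C_G(P), such that N/C is cyclic of order 3, #P > 4, and C_G(y) ∩ N = C for every non-identity y ∈ P. Then the principal p-block is the disjoint union of a set X of exactly 3 characters containing the principal character and a set Y of (#P − 1)/3 characters, with signs a_χ = ±1 (χ ∈ X, a = 1 at the principal character) and δ = ±1 such that every χ ∈ X takes the value a_χ at every element whose p-part is a non-identity element of P, and there is a map ζ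 from the non-principal linear characters of P onto Y, constant on N-conjugacy classes, with ζ_ψ(z) = δ·Σ ψ'(y) over the N-orbit of ψ, for z with p-part y ≠ 1 in P. If moreover G has an involution lying in no proper normal subgroup of G, then exactly two of the three numbers −δ and a_χ (χ ∈ X non-principal) equal −1, and the product of the degrees of the two non-principal members of X and of any member of Y is a perfect square. -/
theorem result {G : Type*} [Group G] [Finite G] (p : ℕ) [Fact p.Prime] (M : Ideal Cfsg.AlgInt) (hM : Cfsg.IsPModular p M) (P : Sylow p G) (hab : IsMulCommutative P) (hP1 : Nat.card P ≠ 1) (hCN : (Subgroup.centralizer ((P : Subgroup G) : Set G)).relIndex (Subgroup.normalizer ((P : Subgroup G) : Set G)) = 3) (hcyc : ∃ g : G, g ∈ Subgroup.normalizer ((P : Subgroup G) : Set G) ∧ Subgroup.centralizer ((P : Subgroup G) : Set G) ⊔ Subgroup.zpowers g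 = Subgroup.normalizer ((P : Subgroup G) : Set G)) (hm2 : 3 + 1 < Nat.card P) (hfrob : ∀ y : G, y ∈ (P : Subgroup G) → y ≠ 1 → Subgroup.centralizer ({y} : Set G) ⊓ Subgroup.normalizer ((P : Subgroup G) : Set G) = Subgroup.centralizer ((P : Subgroup G) : Set G)) : ∃ (X Y : Set (Cfsg.IrrCharacter G)), Cfsg.principalBlock M G = X ∪ Y ∧ Disjoint X Y ∧ Nat.card X = 3 ∧ Nat.card Y = (Nat.card P - 1) / 3 ∧ (∃ χ₁ ∈ X, (χ₁ : G → ℂ) = fun _ => 1) ∧ ∃ (a : Cfsg.IrrCharacter G → ℤ) (δ : ℤ) (ζ : (↥(P : Subgroup G) →* ℂˣ) → Cfsg.IrrCharacter G), (δ = 1 ∨ δ = -1) ∧ (∀ χ ∈ X, (a χ = 1 ∨ a χ = -1) ∧ ∀ z y : G, Cfsg.IsPPart p z y → y ∈ (P : Subgroup G) → y ≠ 1 → (χ : G → ℂ) z = (a χ : ℂ)) ∧ (∀ ψ : ↥(P : Subgroup G) →* ℂˣ, ψ ≠ 1 → ζ ψ ∈ Y) ∧ (∀ η ∈ Y, ∃ ψ : ↥(P : Subgroup G) →* ℂˣ, ψ ≠ 1 ∧ ζ ψ = η) ∧ (∀ ψ ψ' : ↥(P : Subgroup G) →* ℂˣ, ψ ≠ 1 → (∃ n : G, n ∈ Subgroup.normalizer ((P : Subgroup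 G) : Set G) ∧ ∀ w w' : ↥(P : Subgroup G), (w' : G) = n * w * n⁻¹ → ψ' w' = ψ w) → ζ ψ' = ζ ψ) ∧ (∀ ψ : ↥(P : Subgroup G) →* ℂˣ, ψ ≠ 1 → ∀ (z : G) (y : ↥(P : Subgroup G)), Cfsg.IsPPart p z (y : G) → (y : G) ≠ 1 → (ζ ψ : G → ℂ) z = (δ : ℂ) * ∑ᶠ ψ' ∈ {ψ' : ↥(P : Subgroup G) →* ℂˣ | ∃ n : G, n ∈ Subgroup.normalizer ((P : Subgroup G) : Set G) ∧ ∀ w w' : ↥(P : Subgroup G), (w' : G) = n * w * n⁻¹ → ψ' w' = ψ w}, ((ψ' y : ℂˣ) : ℂ)) ∧ ((∃ t : G, orderOf t = 2 ∧ ∀ K : Subgroup G, K.Normal → t ∈ K → K = ⊤) → Nat.card {χ : Cfsg.IrrCharacter G // χ ∈ X ∧ (χ : G → ℂ) ≠ (fun _ => 1) ∧ a χ = -1} + (if δ = 1 then 1 else 0) = 2 ∧ ∀ η ∈ Y, IsSquare (Cfsg.charDegree (η : G → ℂ) * ∏ᶠ χ ∈ {χ : Cfsg.IrrCharacter G | χ ∈ X ∧ (χ : G → ℂ) ≠ fun _ => 1}, Cfsg.charDegree (χ : G → ℂ))) := by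
  classical
  letI := Fintype.ofFinite G
  haveI := Fintype.ofFinite (P : Subgroup G)
  have h := FrobeniusNormalizer.of_centralizer_inf hab hfrob
  have hm : frobIndex P = 3 := hCN
  obtain ⟨ζ, a, δ, hD⟩ := exists_threeData hM h hm (by omega)
  obtain ⟨hU, hdisj⟩ := frobExc_union_frobOrd hD.mem
  have hc := hD.card_exc_eq
  rw [hm] at hc
  obtain ⟨χ₂, χ₃, h23, h2, h3, hX⟩ := hD.exists_pair hM
  refine ⟨frobOrd M ζ, frobExc ζ, hU, hdisj, hD.card_ord, hc,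
    ⟨principal G, hD.principal_mem_ord hM, rfl⟩,
    a, δ, ζ, hD.sign, fun χ hχ => ⟨hD.unit χ hχ, fun z y hz hy hy1 =>
      hD.value_ord χ hχ z ⟨y, hy⟩ hz hy1⟩,
    fun ψ hψ => ⟨ψ, hψ, rfl⟩, fun η hη => hη,
    fun ψ ψ' hψ hmem => (hD.eq_iff ψ' ψ (ne_one_of_mem_sylOrbit hψ hmem) hψ).2
      (thetaFun_eq_of_mem hmem),
    fun ψ hψ z y hz hy => ?_, ?_⟩
  · rw [hD.value_exc ψ hψ z y hz hy, thetaFun_eq_finsum h hψ, Int.cast_zero, zero_add]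
    rfl
  rintro ⟨t, ht, hgen⟩
  obtain ⟨ψ, hψ, hψt⟩ := exists_char_trivial_on_class h hm (by omega) ht
  obtain ⟨u₂, e2, -⟩ := Cfsg.Agent.S0944.result χ₂ t ht
  obtain ⟨u₃, e3, -⟩ := Cfsg.Agent.S0944.result χ₃ t ht
  obtain ⟨u₄, e4, -⟩ := Cfsg.Agent.S0944.result (ζ ψ) t ht
  obtain ⟨E1, E2, E3⟩ := hD.int_relations hM h hm ht hψ hψt h23 h2 h3 hX e2 e3 e4
  obtain ⟨D₂, hD₂⟩ : ∃ D : ℤ, D = (deg (χ₂ : G → ℂ) : ℤ) := ⟨_, rfl⟩
  obtain ⟨D₃, hD₃⟩ : ∃ D : ℤ, D = (deg (χ₃ : G → ℂ) : ℤ) := ⟨_, rfl⟩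
  obtain ⟨D₄, hD₄⟩ : ∃ D : ℤ, D = (deg (ζ ψ : G → ℂ) : ℤ) := ⟨_, rfl⟩
  rw [← hD₂, ← hD₃, ← hD₄] at E1 E3
  have p2 : 0 < D₂ := by rw [hD₂]; exact_mod_cast deg_irr_pos χ₂
  have p3 : 0 < D₃ := by rw [hD₃]; exact_mod_cast deg_irr_pos χ₃
  have p4 : 0 < D₄ := by rw [hD₄]; exact_mod_cast deg_irr_pos (ζ ψ)
  have hneq : u₃ ≠ D₃ := fun e => h3 (eq_principal_of_apply_eq hgen (by
    rw [e3, irr_apply_one_eq_deg χ₃, e, hD₃]; norm_cast))
  have ha2 : a χ₂ = 1 ∨ a χ₂ = -1 := hD.unit _ (by rw [hX]; simp)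
  have ha3 : a χ₃ = 1 ∨ a χ₃ = -1 := hD.unit _ (by rw [hX]; simp)
  have hB : a χ₃ * (u₃ - D₃) ≠ 0 := by
    refine mul_ne_zero ?_ (sub_ne_zero.2 hneq)
    rcases ha3 with e | e <;> omega
  have hq : IsSquare ((a χ₂ * D₂) * (a χ₃ * D₃) * (-δ * D₄)) := by
    refine isSquare_of_isotropic (A := a χ₂ * (u₂ - D₂)) (by linear_combination E1) ?_ hB
    rw [show a χ₂ * (u₂ - D₂) + a χ₃ * (u₃ - D₃) = δ * (u₄ - D₄) by linear_combination E2 - E1]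
    linear_combination (-(a χ₂ * a χ₃ * δ)) * E3 + (2 * (a χ₂ * a χ₃ * δ) * (D₂ * D₃ * D₄)) * E2 -
      (a χ₂ * a χ₃ * δ * (D₂ * D₃ * D₄)) * E1
  have hpos : 0 < D₂ * D₃ * D₄ := mul_pos (mul_pos p2 p3) p4
  have hsign : a χ₂ * a χ₃ * -δ = 1 := by
    have h0 := hq.nonneg
    rw [show (a χ₂ * D₂) * (a χ₃ * D₃) * (-δ * D₄) = (a χ₂ * a χ₃ * -δ) * (D₂ * D₃ * D₄) by ring] at h0
    rcases ha2 with e | e <;> rcases ha3 with e' | e' <;> rcases hD.sign with e'' | e'' <;>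
      rw [e, e', e''] at h0 ⊢ <;> norm_num at h0 ⊢ <;> omega
  refine ⟨?_, ?_⟩
  · have hset : {χ : Cfsg.IrrCharacter G | χ ∈ frobOrd M ζ ∧ (χ : G → ℂ) ≠ (fun _ => 1) ∧ a χ = -1} =
        (({χ₂, χ₃} : Finset (Cfsg.IrrCharacter G)).filter fun χ => a χ = -1 : Set _) := by
      ext χ
      simp only [hX, Set.mem_setOf_eq, Set.mem_insert_iff, Set.mem_singleton_iff, Finset.coe_filter,
        Finset.mem_insert, Finset.mem_singleton]
      constructor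
      · rintro ⟨h', hne, ha⟩
        exact ⟨h'.resolve_left fun e => hne (by rw [e]; rfl), ha⟩
      · rintro ⟨h', ha⟩
        refine ⟨Or.inr h', fun e => ?_, ha⟩
        rcases h' with rfl | rfl
        · exact h2 (Subtype.ext e)
        · exact h3 (Subtype.ext e)
    show Nat.card {χ : Cfsg.IrrCharacter G | χ ∈ frobOrd M ζ ∧ (χ : G → ℂ) ≠ (fun _ => 1) ∧ a χ = -1} + _ = 2
    rw [hset, Nat.card_coe_set_eq, Set.ncard_coe_finset, Finset.filter_insert, Finset.filter_singleton]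
    rcases ha2 with e | e <;> rcases ha3 with e' | e' <;> rcases hD.sign with e'' | e'' <;>
      rw [e, e', e''] at hsign <;> rw [e''] at E1 <;> rw [e, e'] at E1 <;>
      simp [e, e', e'', h23] at hsign ⊢ <;> omega
  · rintro η ⟨φ, hφ, rfl⟩
    have hset : {χ : Cfsg.IrrCharacter G | χ ∈ frobOrd M ζ ∧ (χ : G → ℂ) ≠ fun _ => 1} =
        {χ₂, χ₃} := by
      ext χ
      simp only [hX, Set.mem_setOf_eq, Set.mem_insert_iff, Set.mem_singleton_iff]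
      constructor
      · rintro ⟨h', hne⟩
        exact h'.resolve_left fun e => hne (by rw [e]; rfl)
      · intro h'
        refine ⟨Or.inr h', fun e => ?_⟩
        rcases h' with rfl | rfl
        · exact h2 (Subtype.ext e)
        · exact h3 (Subtype.ext e)
    rw [hset, finprod_mem_pair h23]
    have e1 : (ζ φ : G → ℂ) 1 = (ζ ψ : G → ℂ) 1 := hD.reg_eq φ ψ hφ hψ 1
      (by rw [orderOf_one]; exact hM.1.not_dvd_one)
    have hdeg : Cfsg.charDegree (ζ φ : G → ℂ) = deg (ζ ψ : G → ℂ) := by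
      show ⌊((ζ φ : G → ℂ) 1).re⌋₊ = ⌊((ζ ψ : G → ℂ) 1).re⌋₊
      rw [e1]
    rw [hdeg, show Cfsg.charDegree (χ₂ : G → ℂ) = deg (χ₂ : G → ℂ) from rfl,
      show Cfsg.charDegree (χ₃ : G → ℂ) = deg (χ₃ : G → ℂ) from rfl]
    rw [show (a χ₂ * D₂) * (a χ₃ * D₃) * (-δ * D₄) = (a χ₂ * a χ₃ * -δ) * (D₂ * D₃ * D₄) by ring,
      hsign, one_mul, hD₂, hD₃, hD₄] at hq
    obtain ⟨r, hr⟩ := hq
    refine ⟨r.natAbs, ?_⟩
    rw [← Int.natAbs_mul, ← hr]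
    rw [Int.natAbs_mul, Int.natAbs_mul, Int.natAbs_natCast, Int.natAbs_natCast, Int.natAbs_natCast]
    ring

end Cfsg.Agent.S4721
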