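import Cfsg.Statements.S4723
import Cfsg.Agent.Blocks.StableHeightZero
import Cfsg.Agent.Blocks.Transport
-- import your own Cfsg.Agent.* helpers here

set_option autoImplicit false
open Cfsg

namespace Cfsg.Agent.S4723

set_option linter.unusedSectionVars false

open Cfsg.Lib.Blocks Cfsg.Lib.Chars

/-- Let p be a prime, M a maximal ideal of the algebraic integers containing p, H a normal subgroup of the finite group G and b a p-block of H. Let T be the stabilizer of b in G. Then b contains a character θ of height zero whose own stabilizer in G (the elements g with θ(g h g⁻¹) = θ(h) for all h ∈ H) has index prime to p in T, i.e. contains a Sylow p-subgroup of T. -/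
theorem result {G : Type*} [Group G] [Finite G] (p : ℕ) [Fact p.Prime] (M : Ideal Cfsg.AlgInt) (hM : Cfsg.IsPModular p M) (H : Subgroup G) [H.Normal] (b : Set (Cfsg.IrrCharacter ↥H)) (hb : Cfsg.IsPBlock M b) (T : Subgroup G) (hT : (∀ g : G, g ∈ T ↔ ∀ θ ∈ b, ∀ θ' : Cfsg.IrrCharacter ↥H, (∀ h h' : ↥H, (h' : G) = g * h * g⁻¹ → (θ' : ↥H → ℂ) h' = (θ : ↥H → ℂ) h) → θ' ∈ b)) : ∃ θ ∈ b, Cfsg.blockHeight p b (θ : ↥H → ℂ) = 0 ∧ ∃ S : Subgroup G, S ≤ T ∧ (∀ g : G, g ∈ S ↔ (g ∈ T ∧ ∀ h h' : ↥H, (h' : G) = g * h * g⁻¹ → (θ : ↥H → ℂ) h' = (θ : ↥H → ℂ) h)) ∧ ¬ p ∣ S.relIndex T := by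
  classical
  haveI := Fintype.ofFinite G
  haveI := Fintype.ofFinite H
  haveI := Fintype.ofFinite T
  -- the criterion in terms of conjugation
  have hcj : ∀ g : G, g ∈ T → ∀ θ ∈ b, cjIrr H g θ ∈ b := by
    intro g hg θ hθ
    refine (hT g⁻¹).1 (T.inv_mem hg) θ hθ (cjIrr H g θ) fun h h' he => ?_
    rw [cjIrr_val]
    exact congrArg (θ : H → ℂ) (Subtype.ext (by simp [he, mul_assoc]))
  have hHT : H ≤ T := fun x hx => (hT x).2 fun θ hθ θ' hrel => by
    have : θ' = θ := Subtype.ext (funext fun h' => by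
      have h1 := hrel ⟨x⁻¹ * (h' : G) * x, H.mul_mem (H.mul_mem (H.inv_mem hx) h'.2) hx⟩ h'
        (by group)
      rw [h1]
      have h2 := isClassFunction_irr θ h' ⟨x⁻¹, H.inv_mem hx⟩
      refine Eq.trans (congrArg (θ : H → ℂ) (Subtype.ext ?_)) h2
      simp [mul_assoc])
    exact this ▸ hθ
  haveI hN : (H.subgroupOf T).Normal := Subgroup.normal_subgroupOf
  haveI := Fintype.ofFinite (H.subgroupOf T)
  set e := Subgroup.subgroupOfEquivOfLe hHT with he
  have hb' : IsPBlock M (irrEquiv e '' b) := IsPBlock.image_irrEquiv e hb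
  have hkey : ∀ (g : T) (θ : IrrCharacter H),
      cjIrr (H.subgroupOf T) g (irrEquiv e θ) = irrEquiv e (cjIrr H (g : G) θ) := by
    intro g θ
    refine Subtype.ext (funext fun n => ?_)
    rw [cjIrr_val, irrEquiv_apply, cjIrr_val]
    exact congrArg (θ : H → ℂ) (Subtype.ext rfl)
  have hinv : ∀ g : T, cjIrr (H.subgroupOf T) g '' (irrEquiv e '' b) = irrEquiv e '' b := by
    intro g
    refine Set.eq_of_subset_of_ncard_le ?_ ?_ (Set.toFinite _)
    · rintro _ ⟨_, ⟨θ, hθ, rfl⟩, rfl⟩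
      exact ⟨cjIrr H (g : G) θ, hcj g g.2 θ hθ, (hkey g θ).symm⟩
    · exact (Set.ncard_image_of_injective _ (Equiv.injective _)).ge
  obtain ⟨θ', ⟨θ, hθ, rfl⟩, hmin, hidx⟩ := exists_height_zero_inertia hM hb' hinv
  have hdeg : ∀ ψ : IrrCharacter H,
      charDegree (irrEquiv e ψ : H.subgroupOf T → ℂ) = charDegree (ψ : H → ℂ) := fun ψ => by
    simp only [charDegree, irrEquiv_apply, map_one]
  refine ⟨θ, hθ, ?_, (inertia (H.subgroupOf T) (irrEquiv e θ : H.subgroupOf T → ℂ)).map T.subtype,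
    Subgroup.map_subtype_le _, fun g => ?_, ?_⟩
  · rw [Set.image_image] at hmin
    simp only [hdeg] at hmin
    rw [blockHeight, hmin, Nat.sub_self]
  · have hmem : ∀ x : T, (irrEquiv e θ : H.subgroupOf T → ℂ) = (cjIrr (H.subgroupOf T) x
        (irrEquiv e θ) : H.subgroupOf T → ℂ) ↔ ∀ h h' : H, (h' : G) = (x : G) * h * (x : G)⁻¹ →
          (θ : H → ℂ) h' = (θ : H → ℂ) h := by
      intro x
      rw [hkey]
      constructor
      · intro hx h h' hh
        have h1 := congrFun hx (e.symm h)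
        rw [irrEquiv_apply, irrEquiv_apply, MulEquiv.apply_symm_apply, cjIrr_val] at h1
        rw [h1]
        exact congrArg (θ : H → ℂ) (Subtype.ext hh)
      · intro hx
        funext n
        rw [irrEquiv_apply, irrEquiv_apply, cjIrr_val]
        exact (hx (e n) _ rfl).symm
    rw [Subgroup.mem_map]
    constructor
    · rintro ⟨x, hx, rfl⟩
      rw [mem_inertia, ← cjIrr_val] at hx
      exact ⟨x.2, (hmem x).1 hx.symm⟩
    · rintro ⟨hgT, hg⟩
      refine ⟨⟨g, hgT⟩, ?_, rfl⟩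
      rw [mem_inertia, ← cjIrr_val]
      exact ((hmem ⟨g, hgT⟩).2 hg).symm
  · rw [Subgroup.relIndex, Subgroup.subgroupOf, Subgroup.comap_map_eq_self_of_injective
      T.subtype_injective]
    exact hidx

end Cfsg.Agent.S4723
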