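import Cfsg.Statements.S4726
import Cfsg.Agent.Blocks.InducedDefect
-- import your own Cfsg.Agent.* helpers here

set_option autoImplicit false
open Cfsg

namespace Cfsg.Agent.S4726

set_option linter.unusedSectionVars false

open Cfsg.Lib.Blocks Cfsg.Lib.Chars

/-- Let p be a prime, M a maximal ideal of the algebraic integers containing p, H a subgroup of the finite group G and b a p-block of H with defect group D₀ such that C_G(D₀) ≤ H. Then b induces a block of G, and for every block B of G induced by b there is a defect group D of B with Z(D) ≤ Z(D₀) ≤ D₀ ≤ D (as subgroups of G). In particular, if the defect groups of B are abelian then D₀ is a defect group of B. -/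
theorem result {G : Type*} [Group G] [Finite G] (p : ℕ) [Fact p.Prime] (M : Ideal Cfsg.AlgInt) (hM : Cfsg.IsPModular p M) (H : Subgroup G) (b : Set (Cfsg.IrrCharacter ↥H)) (hb : Cfsg.IsPBlock M b) (D₀ : Subgroup ↥H) (hD₀ : Cfsg.IsDefectGroup p M b D₀) (hC : Subgroup.centralizer ((D₀.map H.subtype : Subgroup G) : Set G) ≤ H) : Cfsg.InducedBlockDefined M H b ∧ ∀ B : Set (Cfsg.IrrCharacter G), Cfsg.IsInducedBlock M H b B → (∃ D : Subgroup G, Cfsg.IsDefectGroup p M B D ∧ (Subgroup.center ↥D).map D.subtype ≤ ((Subgroup.center ↥D₀).map D₀.subtype).map H.subtype ∧ ((Subgroup.center ↥D₀).map D₀.subtype).map H.subtype ≤ D₀.map H.subtype ∧ D₀.map H.subtype ≤ D) ∧ (∀ D : Subgroup G, Cfsg.IsDefectGroup p M B D → IsMulCommutative ↥D → Cfsg.IsDefectGroup p M B (D₀.map H.subtype)) := by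
  classical
  letI := Fintype.ofFinite G
  letI := Fintype.ofFinite H
  have hQH : D₀.map H.subtype ≤ H := Subgroup.map_subtype_le D₀
  have hQ : IsDefectGroup p M b ((D₀.map H.subtype).subgroupOf H) := by
    rwa [subgroupOf_map_self]
  obtain ⟨h1, h2⟩ := induced_nested hM hQH hC hb hQ
  refine ⟨h1, fun B hB => ?_⟩
  obtain ⟨P, hP, hle, hinf⟩ := h2 B hB
  refine ⟨⟨P, hP, ?_, Subgroup.map_mono (Subgroup.map_subtype_le _), hle⟩, fun D hD hab => ?_⟩
  · rintro _ ⟨z, hz, rfl⟩
    have hzC : (z : G) ∈ Subgroup.centralizer (D₀.map H.subtype : Set G) :=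
      Subgroup.mem_centralizer_iff.2 fun w hw =>
        congrArg Subtype.val (Subgroup.mem_center_iff.1 hz ⟨w, hle hw⟩)
    obtain ⟨y, hy, hyz⟩ := hinf ⟨z.2, hzC⟩
    refine ⟨y, ⟨⟨y, hy⟩, Subgroup.mem_center_iff.2 fun w => ?_, rfl⟩, hyz⟩
    refine Subtype.ext (Subtype.ext ?_)
    have h3 := Subgroup.mem_centralizer_iff.1 hzC _ ⟨(w : H), w.2, rfl⟩
    change (y : G) = (z : G) at hyz
    simpa [← hyz] using h3
  · obtain ⟨x, hx⟩ := IsDefectGroup.exists_eq_conj hM hB.2.1 hD hP
    have hPC : P ≤ Subgroup.centralizer (D₀.map H.subtype : Set G) := by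
      intro y hy
      refine Subgroup.mem_centralizer_iff.2 fun w hw => ?_
      have hw' : w ∈ P := hle hw
      rw [hx] at hy hw'
      obtain ⟨y', hy', rfl⟩ := hy
      obtain ⟨w', hw'', rfl⟩ := hw'
      rw [← map_mul, ← map_mul]
      exact congrArg _ (congrArg Subtype.val
        (IsMulCommutative.is_comm.comm (⟨w', hw''⟩ : D) ⟨y', hy'⟩))
    have hEq : D₀.map H.subtype = P :=
      le_antisymm hle fun y hy => hinf ⟨hy, hPC hy⟩
    rw [hEq]; exact hP

end Cfsg.Agent.S4726
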