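import Cfsg.Statements.S4727
import Cfsg.Agent.Blocks.PiKernel

set_option autoImplicit false
open Cfsg Cfsg.Lib.Blocks

namespace Cfsg.Agent.S4727

/-- Let p be a prime, π a set of primes containing p, M a maximal ideal of the algebraic integers containing p, and B a p-block of the finite group G with defect group D; let B₁ be the block of N_G(D) with defect group D that induces B (the Brauer correspondent of B). Suppose every element of O_π'(N_G(D)), the largest normal subgroup of N_G(D) whose order has no prime divisor in π, lies in the kernel of every member of B₁. If y is a p-element whose centralizer C has a normal Hall π'-subgroup (every element of C whose order has no prime divisor in π lies in O_π'(C)), then χ(y x) = χ(y) for every χ ∈ B and every x ∈ C whose order has no prime divisor in π. -/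
theorem result {G : Type*} [Group G] [Finite G] (p : ℕ) [Fact p.Prime] (M : Ideal Cfsg.AlgInt) (hM : Cfsg.IsPModular p M) (π : Set ℕ) (hpπ : p ∈ π) (B : Set (Cfsg.IrrCharacter G)) (hB : Cfsg.IsPBlock M B) (D : Subgroup G) (hBD : Cfsg.IsDefectGroup p M B D) (B₁ : Set (Cfsg.IrrCharacter ↥(Subgroup.normalizer (D : Set G)))) (hB₁ : Cfsg.IsInducedBlock M (Subgroup.normalizer (D : Set G)) B₁ B) (hB₁D : Cfsg.IsDefectGroup p M B₁ (D.subgroupOf (Subgroup.normalizer (D : Set G)))) (hker : ∀ n : ↥(Subgroup.normalizer (D : Set G)), n ∈ Cfsg.piCore {q | q ∉ π} ↥(Subgroup.normalizer (D : Set G)) → n ∈ Cfsg.blockKer B₁) (y : G) (hy : ∃ k : ℕ, orderOf y = p ^ k) (hC : ∀ x : ↥(Subgroup.centralizer ({y} : Set G)), (∀ q : ℕ, q.Prime → q ∣ orderOf x → q ∉ π) → x ∈ Cfsg.piCore {q | q ∉ π} ↥(Subgroup.centralizer ({y} : Set G))) : ∀ χ ∈ B, ∀ x : G, x ∈ Subgroup.centralizer ({y} : Set G) → (∀ q : ℕ, q.Prime → q ∣ orderOf x → q ∉ π) → (χ : G → ℂ) (y * x) = (χ : G → ℂ) y := by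
  classical
  letI := Fintype.ofFinite G
  letI : Fintype ↥(Subgroup.normalizer (D : Set G)) := Fintype.ofFinite _
  obtain ⟨e, hmax, hiff⟩ := exists_maximal_correspondent (π := π) hM hpπ hBD hB₁
  have he := hiff.1 hker
  intro χ hχ x hx hxπ
  have hyp : IsPGroup p (Subgroup.zpowers y) := by
    obtain ⟨k, hk⟩ := hy
    exact IsPGroup.of_card (n := k) (by rw [Nat.card_zpowers, hk])
  have hCeq : Subgroup.centralizer (Subgroup.zpowers y : Set G) = Subgroup.centralizer ({y} : Set G) :=
    centralizer_zpowers y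
  have hxK : x ∈ coPiCore π (Subgroup.centralizer (Subgroup.zpowers y : Set G)) := by
    rw [hCeq]
    exact mem_coPiCore_iff.2 (hC ⟨x, hx⟩ fun q hq hd => hxπ q hq (by rwa [← Subgroup.orderOf_coe] at hd))
  have hxH : x ∈ Subgroup.centralizer (Subgroup.zpowers y : Set G) := hCeq.ge hx
  letI : Fintype ↥(Subgroup.centralizer (Subgroup.zpowers y : Set G)) := Fintype.ofFinite _
  have hreg : ¬ p ∣ orderOf (⟨x, hxH⟩ : Subgroup.centralizer (Subgroup.zpowers y : Set G)) := by
    rw [← Subgroup.orderOf_coe]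
    exact fun h => hxπ p (Fact.out : p.Prime) h hpπ
  have h1 : ¬ p ∣ orderOf (1 : Subgroup.centralizer (Subgroup.zpowers y : Set G)) := by
    rw [orderOf_one]; exact (Fact.out : p.Prime).not_dvd_one
  have e1 := apply_mul_eq_sum_blockPart hM hy rfl hB hχ
    (H := Subgroup.centralizer (Subgroup.zpowers y : Set G)) (y := ⟨x, hxH⟩) hreg
  have e2 := apply_mul_eq_sum_blockPart hM hy rfl hB hχ
    (H := Subgroup.centralizer (Subgroup.zpowers y : Set G)) (y := 1) h1
  simp only [OneMemClass.coe_one, mul_one] at e2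
  rw [e1, e2]
  refine Finset.sum_congr rfl fun b hb => ?_
  have hind := (Finset.mem_filter.1 hb).2
  have hpair := (isBrauerPairOf_iff hM B (Subgroup.zpowers y) b).2 ⟨hyp, hind⟩
  have hfix := fixesElt_of_maximal hM hpπ hmax he hpair
  rw [blockPart_eq_sum, blockPart_eq_sum]
  refine Finset.sum_congr rfl fun θ hθ => ?_
  rw [ker_of_fixesElt hM hind.1 (fun h hh k hk => conj_mem_coPiCore hh hk)
    (coPiCore_not_dvd (Fact.out : p.Prime) hpπ _) (coPiCore_le _) hfix (k := ⟨x, hxH⟩) hxK
    (Finset.mem_filter.1 hθ).2]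

end Cfsg.Agent.S4727
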