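import Cfsg.Statements.S4728
import Cfsg.Agent.Blocks.PiKernel

set_option autoImplicit false
open Cfsg Cfsg.Lib.Blocks

namespace Cfsg.Agent.S4728

/-- Let p be a prime, π a set of primes containing p, M a maximal ideal of the algebraic integers containing p, B a p-block of the finite group G with defect group D, and B₁ the block of N_G(D) with defect group D inducing B. Let D₀ be a p-subgroup, H₀ = D₀·C_G(D₀), and b a block of H₀ inducing B. Write O_π'(X) for the largest normal subgroup of X whose order has no prime divisor in π. Suppose that O_π'(C_G(D₀)) is a normal Hall π'-subgroup of C_G(D₀) (it contains every element of C_G(D₀) whose order has no prime divisor in π) and that every element of it lies in the kernel of every member of b. Then every element of O_π'(N_G(D)) lies in the kernel of every member of B₁. -/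
theorem result {G : Type*} [Group G] [Finite G] (p : ℕ) [Fact p.Prime] (M : Ideal Cfsg.AlgInt) (hM : Cfsg.IsPModular p M) (π : Set ℕ) (hpπ : p ∈ π) (B : Set (Cfsg.IrrCharacter G)) (hB : Cfsg.IsPBlock M B) (D : Subgroup G) (hBD : Cfsg.IsDefectGroup p M B D) (B₁ : Set (Cfsg.IrrCharacter ↥(Subgroup.normalizer (D : Set G)))) (hB₁ : Cfsg.IsInducedBlock M (Subgroup.normalizer (D : Set G)) B₁ B) (hB₁D : Cfsg.IsDefectGroup p M B₁ (D.subgroupOf (Subgroup.normalizer (D : Set G)))) (D₀ : Subgroup G) (hD₀ : IsPGroup p D₀) (H₀ : Subgroup G) (hH₀ : H₀ = D₀ ⊔ Subgroup.centralizer (D₀ : Set G)) (b : Set (Cfsg.IrrCharacter ↥H₀)) (hb : Cfsg.IsInducedBlock M H₀ b B) (hcompl : ∀ x : ↥(Subgroup.centralizer (D₀ : Set G)), (∀ q : ℕ, q.Prime → q ∣ orderOf x → q ∉ π) → x ∈ Cfsg.piCore {q | q ∉ π} ↥(Subgroup.centralizer (D₀ : Set G))) (hkerb : ∀ x : ↥(Subgroup.centralizer (D₀ : Set G)), x ∈ Cfsg.piCore {q | q ∉ π} ↥(Subgroup.centralizer (D₀ : Set G)) → ∀ θ ∈ b, ∀ h :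 ↥H₀, (h : G) = (x : G) → (θ : ↥H₀ → ℂ) h = (θ : ↥H₀ → ℂ) 1) : ∀ n : ↥(Subgroup.normalizer (D : Set G)), n ∈ Cfsg.piCore {q | q ∉ π} ↥(Subgroup.normalizer (D : Set G)) → n ∈ Cfsg.blockKer B₁ := by
  classical
  letI := Fintype.ofFinite G
  letI : Fintype ↥(Subgroup.normalizer (D : Set G)) := Fintype.ofFinite _
  letI : Fintype ↥H₀ := Fintype.ofFinite _
  have hDH : D₀ ≤ H₀ := hH₀.symm ▸ le_sup_left
  have hCH : Subgroup.centralizer (D₀ : Set G) ≤ H₀ := hH₀.symm ▸ le_sup_right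
  have hHN : H₀ ≤ Subgroup.normalizer (D₀ : Set G) :=
    hH₀.symm ▸ sup_le Subgroup.le_normalizer (Subgroup.centralizer_le_normalizer _)
  obtain ⟨e₀, he₀, hbr⟩ := exists_local_pair hM hD₀ hDH hCH hHN hb.1
  have hpair := pair_of_isInducedBlock hM hDH hCH hb.1 he₀ hbr hb
  have hfix₀ : FixesElt (coPiCore π (Subgroup.centralizer (D₀ : Set G)))
      (bi M (Subgroup.centralizer (D₀ : Set G)) e₀) := by
    refine fixesElt_up (coPiCore_le _) (fun k hk => ?_) hbr
    exact single_mul_bi_of_ker (hCH (coPiCore_le _ hk)) fun θ hθ =>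
      hkerb ⟨k, coPiCore_le _ hk⟩ (mem_coPiCore_iff.1 hk) θ hθ _ rfl
  have hhall : HallCore π (Subgroup.centralizer (D₀ : Set G)) := fun x hx hxπ =>
    mem_coPiCore_iff.2 (hcompl ⟨x, hx⟩ fun q hq hd =>
      hxπ q hq (by rwa [← Subgroup.orderOf_coe] at hd))
  obtain ⟨P, eP, hP, hle⟩ := exists_maximal_ge hM hpair
  have hfixP := (fixesElt_up_of_subpairLE (π := π) hM _ _ hle ⟨hhall, hfix₀⟩).2
  obtain ⟨e, hmax, hiff⟩ := exists_maximal_correspondent (π := π) hM hpπ hBD hB₁
  exact hiff.2 (fixesElt_of_maximal hM hpπ hP hfixP hmax.1)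

end Cfsg.Agent.S4728
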