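import Cfsg.Statements.S4729
import Cfsg.Agent.Jordan.EigCount
import Cfsg.Agent.Blocks.LocalRing
import Cfsg.Agent.Chars.Burnside
-- import your own Cfsg.Agent.* helpers here

set_option autoImplicit false
open Cfsg

namespace Cfsg.Agent.S4729

set_option linter.unusedSectionVars false

open Cfsg.Lib.Chars Cfsg.Lib.Jordan

/-- Let p be a prime, M a maximal ideal of the algebraic integers containing p, G a finite perfect group and P a Sylow p-subgroup. If the principal p-block of G contains a faithful irreducible character of degree less than 2p, then the centralizer of P is a p-group. -/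
theorem result {G : Type*} [Group G] [Finite G] (p : ℕ) [Fact p.Prime] (M : Ideal Cfsg.AlgInt) (hM : Cfsg.IsPModular p M) (hperf : commutator G = ⊤) (P : Sylow p G) (χ : Cfsg.IrrCharacter G) (hχ : χ ∈ Cfsg.principalBlock M G) (hfaith : ∀ g : G, (χ : G → ℂ) g = (χ : G → ℂ) 1 → g = 1) (hdeg : Cfsg.charDegree (χ : G → ℂ) < 2 * p) : IsPGroup p ↥(Subgroup.centralizer ((P : Subgroup G) : Set G)) := by
  classical
  letI := Fintype.ofFinite G
  set n := Cfsg.charDegree (χ : G → ℂ) with hndef
  have hn1 : (χ : G → ℂ) 1 = (n : ℂ) := irr_apply_one_eq_deg χ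
  have hn0 : (n : ℂ) ≠ 0 := hn1 ▸ IsIrrCharacter.apply_one_ne_zero χ.2
  obtain ⟨d, ρ, hρ, hρc⟩ := χ.2
  have hdn : d = n := by
    have h1 := congrFun hρc 1
    rw [ρ.char_one, Module.finrank_fin_fun, hn1] at h1
    exact_mod_cast h1
  have hdet : ∀ y : G, (eigs ρ y).prod = 1 := by
    intro y
    let f : G →* ℂˣ := (Units.map (LinearMap.det (A := ℂ) (M := Fin d → ℂ))).comp ρ.toHomUnits
    have hy : y ∈ f.ker := by
      have h1 : commutator G ≤ f.ker := Abelianization.commutator_subset_ker f
      rw [hperf] at h1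
      exact h1 (Subgroup.mem_top y)
    have h2 : LinearMap.det (ρ y) = 1 := congrArg Units.val (MonoidHom.mem_ker.1 hy)
    rw [← h2, Module.End.det_eq_prod_roots_charpoly_of_splits (IsAlgClosed.splits _)]
    rfl
  have hfaith' : ∀ y : G, ρ y = LinearMap.id → y = 1 := fun y hy => hfaith y (by
    rw [← congrFun hρc y, ← congrFun hρc 1]
    simp [Representation.character, hy])
  have key : ∀ y ∈ Subgroup.centralizer ((P : Subgroup G) : Set G), ¬ p ∣ orderOf y → y = 1 := by
    intro y hy hyo
    set o := orderOf y with ho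
    have ho0 : o ≠ 0 := (orderOf_pos y).ne'
    have hcls : ∀ i : ℕ, ¬ p ∣ (Subgroup.centralizer ({y ^ i} : Set G)).index := by
      intro i h
      refine P.not_dvd_index (h.trans (Subgroup.index_dvd_of_le fun u hu => ?_))
      exact Subgroup.mem_centralizer_singleton_iff.2
        (Subgroup.mem_centralizer_iff.1 (Subgroup.pow_mem _ hy i) u hu)
    have hdiff : ∀ i : ℕ, Cfsg.Lib.Blocks.Small M
        (((Subgroup.centralizer ({y ^ i} : Set G)).index : ℂ) -
          ((Subgroup.centralizer ({y ^ i} : Set G)).index : ℂ) * (χ : G → ℂ) (y ^ i) / (n : ℂ)) := by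
      intro i
      have h := Cfsg.Lib.Blocks.small_of_memLocalIdeal hM (hχ (y ^ i))
      simpa [Cfsg.centralChar, hn1] using h
    by_cases hpn : p ∣ n
    · have hnp : n = p := by
        obtain ⟨k, hk⟩ := hpn
        have hk0 : k ≠ 0 := by
          intro h
          rw [h, mul_zero] at hk
          exact hn0 (by rw [hk, Nat.cast_zero])
        have : k < 2 := by
          have h2 := hdeg
          rw [hk, mul_comm 2 p] at h2
          exact Nat.lt_of_mul_lt_mul_left h2
        rw [hk, show k = 1 by omega, mul_one]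
      have hcop : (deg (χ : G → ℂ)).Coprime (Nat.card {x : G // IsConj y x}) := by
        have hcard : Nat.card {x : G // IsConj y x} =
            (Subgroup.centralizer ({y} : Set G)).index := by
          have h1 := card_isConj_mul y
          rw [← (Subgroup.centralizer ({y} : Set G)).card_mul_index, mul_comm] at h1
          exact Nat.eq_of_mul_eq_mul_left Nat.card_pos h1
        show n.Coprime _
        rw [hnp, hcard, (Fact.out : p.Prime).coprime_iff_not_dvd]
        simpa using hcls 1
      rcases burnside_zero_or_max χ.2 y hcop with h0 | hmax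
      · exfalso
        have h1 := hdiff 1
        rw [pow_one, h0, mul_zero, zero_div, sub_zero, Cfsg.Lib.Blocks.small_natCast_iff hM] at h1
        exact hcls 1 (by rwa [pow_one])
      · rw [← hρc, ρ.char_one, Complex.natCast_re] at hmax
        obtain ⟨ω, hω, -⟩ := scalar_of_norm_character_eq ρ y hmax
        have h1 : ω ^ d = 1 := by
          have h2 := hdet y
          rw [show (eigs ρ y).prod = LinearMap.det (ρ y) from
            (Module.End.det_eq_prod_roots_charpoly_of_splits (IsAlgClosed.splits _)).symm, hω,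
            LinearMap.det_smul, LinearMap.det_id, mul_one, Module.finrank_fin_fun] at h2
          exact h2
        have h2 : ω ^ o = 1 := by
          have h3 : ρ y ^ o = 1 := by rw [← map_pow, pow_orderOf_eq_one, map_one]
          rw [hω, ← Module.End.one_eq_id, smul_pow, one_pow] at h3
          have h4 := congrArg (LinearMap.trace ℂ (Fin d → ℂ)) h3
          rw [map_smul, LinearMap.trace_one, Module.finrank_fin_fun, smul_eq_mul] at h4
          exact mul_right_cancel₀ (hdn ▸ hn0 : (d : ℂ) ≠ 0) (h4.trans (one_mul _).symm)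
        have h3 : ω = 1 := by
          rw [← pow_one ω, ← Nat.Coprime.gcd_eq_one ((Fact.out : p.Prime).coprime_iff_not_dvd.2 hyo)]
          refine pow_gcd_eq_one.2 ⟨?_, h2⟩
          rw [← hnp, ← hdn]
          exact h1
        exact hfaith' y (by rw [hω, h3, one_smul])
    -- degree prime to `p`
    have hsmall : ∀ i : ℕ, Cfsg.Lib.Blocks.Small M ((χ : G → ℂ) (y ^ i) - (n : ℂ)) := by
      intro i
      set c := (Subgroup.centralizer ({y ^ i} : Set G)).index
      have hc := Cfsg.Lib.Blocks.isUnitAt_natCast hM (hcls i)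
      have h1 := (hdiff i).neg.mul_mem
        (y := (n : ℂ) * (c : ℂ)⁻¹)
        (mul_mem (Cfsg.Lib.Blocks.natCast_mem_place n) hc.inv.mem_place)
      rwa [show -((c : ℂ) - (c : ℂ) * (χ : G → ℂ) (y ^ i) / (n : ℂ)) * ((n : ℂ) * (c : ℂ)⁻¹) =
        (χ : G → ℂ) (y ^ i) - (n : ℂ) by
          have hc0 : (c : ℂ) ≠ 0 := hc.ne_zero
          field_simp
          ring] at h1
    have hcount : ∀ z ∈ eigs ρ y, z ≠ 1 → p ∣ (eigs ρ y).count z := by
      intro z hz hz1
      have hzo := pow_eq_one_of_mem_eigs ρ (pow_orderOf_eq_one y) hz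
      have h1 := count_eigs ρ y hzo
      have hgeo : ∑ i ∈ Finset.range o, (z⁻¹) ^ i = 0 := by
        rw [geom_sum_eq (by rwa [ne_eq, inv_eq_one]), inv_pow, hzo, inv_one, sub_self, zero_div]
      have h2 : ((eigs ρ y).count z : ℂ) * (o : ℂ) =
          ∑ i ∈ Finset.range o, (z⁻¹) ^ i * ((χ : G → ℂ) (y ^ i) - (n : ℂ)) := by
        rw [h1, hρc]
        simp only [mul_sub, Finset.sum_sub_distrib, ← Finset.sum_mul, hgeo, zero_mul, sub_zero]
        rfl
      have hzint : IsIntegral ℤ z⁻¹ := isIntegral_of_pow_eq_one (Nat.pos_of_ne_zero ho0)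
        (show z⁻¹ ^ o = 1 by rw [inv_pow, hzo, inv_one])
      have h3 : Cfsg.Lib.Blocks.Small M ((((eigs ρ y).count z * o : ℕ)) : ℂ) := by
        rw [Nat.cast_mul, h2]
        exact Cfsg.Lib.Blocks.small_sum _ _ fun i _ =>
          (hsmall i).mem_mul (Cfsg.Lib.Blocks.isIntegral_mem_place hM (hzint.pow i))
      rw [Cfsg.Lib.Blocks.small_natCast_iff hM] at h3
      exact ((Fact.out : p.Prime).dvd_mul.1 h3).resolve_right hyo
    by_contra hy1
    obtain ⟨z, hz, hz1⟩ : ∃ z ∈ eigs ρ y, z ≠ 1 := by
      by_contra hcon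
      push Not at hcon
      refine hy1 (hfaith' y ((eq_id_of_character_eq_finrank ρ y).1 ?_))
      rw [character_eq_sum_eigs, Multiset.eq_replicate.2 ⟨card_eigs ρ y, hcon⟩, Multiset.sum_replicate,
        nsmul_eq_mul, mul_one]
    set S := (eigs ρ y).filter (fun w => w ≠ 1) with hS
    have hprod : S.prod = 1 := by
      have h1 := hdet y
      rw [← Multiset.filter_add_not (fun w => w ≠ 1) (eigs ρ y), Multiset.prod_add,
        Multiset.prod_eq_one (s := Multiset.filter (fun w => ¬ w ≠ 1) (eigs ρ y)) (fun w hw => by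
          simpa using (Multiset.mem_filter.1 hw).2), mul_one] at h1
      exact h1
    have hScard : Multiset.card S < 2 * p := by
      refine lt_of_le_of_lt (Multiset.card_le_card (Multiset.filter_le _ _)) ?_
      rw [card_eigs, Module.finrank_fin_fun, hdn]
      exact hdeg
    have hge : ∀ w ∈ S, p ≤ S.count w := by
      intro w hw
      obtain ⟨hw', hw1⟩ := Multiset.mem_filter.1 hw
      rw [hS, Multiset.count_filter_of_pos (p := fun w => w ≠ 1) hw1]
      exact Nat.le_of_dvd (Multiset.count_pos.2 hw') (hcount w hw' hw1)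
    have hall : ∀ w ∈ S, w = z := by
      intro w hw
      by_contra hne
      have hz' : z ∈ S := Multiset.mem_filter.2 ⟨hz, hz1⟩
      have h1 : S.count w + S.count z ≤ Multiset.card S := by
        have h2 : ∑ a ∈ ({w, z} : Finset ℂ), S.count a ≤ ∑ a ∈ S.toFinset, S.count a :=
          Finset.sum_le_sum_of_subset (by
            simp only [Finset.insert_subset_iff, Finset.singleton_subset_iff, Multiset.mem_toFinset]
            exact ⟨hw, hz'⟩)
        rwa [Finset.sum_pair hne, Multiset.toFinset_sum_count_eq] at h2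
      have := hge w hw
      have := hge z hz'
      omega
    have hrep := Multiset.eq_replicate_card.2 hall
    have hcS : S.count z = Multiset.card S := by
      conv_lhs => rw [hrep, Multiset.count_replicate_self]
    have hdvd : p ∣ Multiset.card S := by
      rw [← hcS, hS, Multiset.count_filter_of_pos (p := fun w => w ≠ 1) hz1]
      exact hcount z hz hz1
    have hcardp : Multiset.card S = p := by
      obtain ⟨k, hk⟩ := hdvd
      have h0 : 0 < Multiset.card S :=
        Multiset.card_pos_iff_exists_mem.2 ⟨z, Multiset.mem_filter.2 ⟨hz, hz1⟩⟩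
      have hk2 : k < 2 := by
        rw [hk, mul_comm 2 p] at hScard
        exact Nat.lt_of_mul_lt_mul_left hScard
      have hk0 : k ≠ 0 := by rintro rfl; simp [hk] at h0
      rw [hk, show k = 1 by omega, mul_one]
    rw [hrep, Multiset.prod_replicate, hcardp] at hprod
    refine hz1 ?_
    rw [← pow_one z, ← Nat.Coprime.gcd_eq_one ((Fact.out : p.Prime).coprime_iff_not_dvd.2 hyo)]
    exact pow_gcd_eq_one.2 ⟨hprod, pow_eq_one_of_mem_eigs ρ (pow_orderOf_eq_one y) hz⟩
  rw [IsPGroup.iff_orderOf]
  intro g
  have ho0 : orderOf g ≠ 0 := (orderOf_pos g).ne'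
  set a := (orderOf g).factorization p
  refine ⟨a, ?_⟩
  have h1 := key ((g : G) ^ p ^ a) (Subgroup.pow_mem _ g.2 _) (by
    rw [orderOf_pow_of_dvd (pow_pos (Fact.out : p.Prime).pos _).ne'
      (by rw [Subgroup.orderOf_coe]; exact Nat.ordProj_dvd _ _), Subgroup.orderOf_coe]
    exact Nat.not_dvd_ordCompl Fact.out ho0)
  refine Nat.dvd_antisymm (orderOf_dvd_of_pow_eq_one (Subtype.ext ?_)) (Nat.ordProj_dvd _ _)
  simpa using h1

end Cfsg.Agent.S4729
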