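import Cfsg.Statements.S4730
import Cfsg.Agent.Chars.Burnside
import Cfsg.Agent.Blocks.Defect
import Cfsg.Agent.Chars.Clifford
-- import your own Cfsg.Agent.* helpers here

set_option autoImplicit false
open Cfsg

namespace Cfsg.Agent.S4730

set_option linter.unusedSectionVars false

open Cfsg.Lib.Blocks Cfsg.Lib.Chars

/-- Let p be a prime, M a maximal ideal of the algebraic integers containing p, and G a finite group with trivial centre, Sylow p-subgroup P of order p^a and centre Z(P) of order p^b. If χ is a faithful irreducible character of G whose degree is a power of p, then the p-block of χ has defect at most a − b; in particular, if P is abelian then χ lies in a block of defect zero. -/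
theorem result {G : Type*} [Group G] [Finite G] (p : ℕ) [Fact p.Prime] (M : Ideal Cfsg.AlgInt) (hM : Cfsg.IsPModular p M) (hZ : Subgroup.center G = ⊥) (P : Sylow p G) (a b : ℕ) (ha : Nat.card P = p ^ a) (hb : Nat.card (Subgroup.center ↥(P : Subgroup G)) = p ^ b) (χ : Cfsg.IrrCharacter G) (hfaith : ∀ g : G, (χ : G → ℂ) g = (χ : G → ℂ) 1 → g = 1) (n : ℕ) (hdeg : Cfsg.charDegree (χ : G → ℂ) = p ^ n) : Cfsg.blockDefect p (Cfsg.blockOf M (χ : G → ℂ)) ≤ a - b ∧ (IsMulCommutative ↥(P : Subgroup G) → Cfsg.blockDefect p (Cfsg.blockOf M (χ : G → ℂ)) = 0) := by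
  classical
  letI := Fintype.ofFinite G
  haveI := charP_res hM
  have hp : p.Prime := Fact.out
  set Z := (Subgroup.center ↥(P : Subgroup G)).map (P : Subgroup G).subtype with hZdef
  letI := Fintype.ofFinite Z
  have hZc : Nat.card Z = p ^ b := by
    rw [hZdef, Subgroup.card_map_of_injective (P : Subgroup G).subtype_injective, hb]
  have ha' : (Nat.card G).factorization p = a := by
    rw [P.card_eq_multiplicity] at ha
    exact Nat.pow_right_injective hp.two_le ha
  have hzero : ∀ z ∈ Z, z ≠ 1 → (χ : G → ℂ) z = 0 ∧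
      ¬ p ∣ Nat.card {x : G // IsConj z x} := by
    intro z hz hz1
    obtain ⟨w, hw, rfl⟩ := hz
    have hle : (P : Subgroup G) ≤ Subgroup.centralizer ({(w : G)} : Set G) := fun y hy => by
      rw [Subgroup.mem_centralizer_singleton_iff]
      exact congrArg Subtype.val (Subgroup.mem_center_iff.1 hw ⟨y, hy⟩)
    have hnd : ¬ p ∣ Nat.card {x : G // IsConj (w : G) x} := by
      rw [card_isConj]
      exact fun h => P.not_dvd_index (h.trans (Subgroup.index_dvd_of_le hle))
    refine ⟨(burnside_zero_or_max χ.2 (w : G) ?_).resolve_right fun hnorm => ?_, hnd⟩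
    · change (Cfsg.charDegree (χ : G → ℂ)).Coprime _
      rw [hdeg]
      exact (hp.coprime_iff_not_dvd.2 hnd).pow_left n
    · obtain ⟨m, ρ, hρ, hchar⟩ := χ.2
      haveI := hρ
      rw [← hchar, ρ.char_one, Complex.natCast_re] at hnorm
      obtain ⟨ω, hω, -⟩ := scalar_of_norm_character_eq ρ (w : G) hnorm
      refine hz1 (Subgroup.mem_bot.1 (hZ ▸ ?_))
      rw [Subgroup.mem_center_iff]
      intro y
      have he : ρ (y * (w : G) * y⁻¹ * (w : G)⁻¹) = 1 := by
        have hh : ρ (y * (w : G) * y⁻¹) = ρ (w : G) := by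
          rw [map_mul, map_mul, hω]
          simp only [← Module.End.one_eq_id, mul_smul_comm, smul_mul_assoc, mul_one]
          rw [← map_mul, mul_inv_cancel, map_one]
        rw [map_mul, hh, ← map_mul, mul_inv_cancel, map_one]
      have := hfaith (y * (w : G) * y⁻¹ * (w : G)⁻¹) (by
        rw [← hchar, Representation.character, Representation.character, he, map_one ρ])
      exact mul_inv_eq_iff_eq_mul.1 (mul_inv_eq_one.1 this)
  have hle : ∀ ψ ∈ Cfsg.blockOf M (χ : G → ℂ), b ≤ (Cfsg.charDegree (ψ : G → ℂ)).factorization p := by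
    intro ψ hψ
    by_contra hlt
    push Not at hlt
    set d := Cfsg.charDegree (ψ : G → ℂ) with hd
    have hd1 : (ψ : G → ℂ) 1 = (d : ℂ) := irr_apply_one_eq_deg ψ
    have hd0 : d ≠ 0 := (deg_irr_pos ψ).ne'
    set j := d.factorization p with hj
    set c := d / p ^ j with hcdef
    have hdc : d = p ^ j * c := (Nat.mul_div_cancel' (Nat.ordProj_dvd d p)).symm
    have hcp : ¬ p ∣ c := Nat.not_dvd_ordCompl hp hd0
    have hsmall : ∀ z ∈ Z, z ≠ 1 → Small M ((ψ : G → ℂ) z / (ψ : G → ℂ) 1) := by
      intro z hz hz1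
      obtain ⟨h0, hnd⟩ := hzero z hz hz1
      have hs : Small M (centralChar (ψ : G → ℂ) z) := by
        rw [← res_eq_zero_iff (centralChar_mem_place hM ψ z),
          IsPBlock.res_centralChar_eq hM (isPBlock_blockOf χ) hψ (mem_blockOf_self hM χ),
          centralChar, h0, mul_zero, zero_div, res_zero]
      rw [centralChar, mul_div_assoc] at hs
      rw [card_isConj] at hnd
      have := Small.mul_mem hs (isUnitAt_natCast hM hnd).inv.mem_place
      rwa [mul_comm _ ((ψ : G → ℂ) z / (ψ : G → ℂ) 1), mul_assoc,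
        mul_inv_cancel₀ (Nat.cast_ne_zero.2 Subgroup.index_ne_zero_of_finite), mul_one] at this
    obtain ⟨m, hm⟩ := IsCharacter.exists_mult (IsCharacter.restrict (isCharacter_of_irr ψ.2) Z)
      (isIrrCharacter_one (G := Z))
    rw [classInner_def] at hm
    simp only [map_one, mul_one] at hm
    set S := ∑ z ∈ (Finset.univ.erase (1 : Z)), (ψ : G → ℂ) z / (ψ : G → ℂ) 1 with hS
    have hSs : Small M S := small_sum _ _ fun z hz => hsmall z z.2 fun h =>
      (Finset.mem_erase.1 hz).1 (Subtype.ext h)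
    have hne : (ψ : G → ℂ) 1 ≠ 0 := IsIrrCharacter.apply_one_ne_zero ψ.2
    have heq : (d : ℂ) * (1 + S) = ((p ^ b : ℕ) : ℂ) * m := by
      rw [← hm, hZc, ← mul_assoc, mul_inv_cancel₀ (Nat.cast_ne_zero.2 (pow_ne_zero _ hp.ne_zero)),
        one_mul, ← Finset.add_sum_erase _ _ (Finset.mem_univ (1 : Z)), hS, mul_add, mul_one,
        Finset.mul_sum, ← hd1, OneMemClass.coe_one]
      congr 1
      exact Finset.sum_congr rfl fun z _ => mul_div_cancel₀ _ hne
    have hpj : ((p ^ j : ℕ) : ℂ) ≠ 0 := Nat.cast_ne_zero.2 (pow_ne_zero _ hp.ne_zero)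
    have heq2 : (c : ℂ) = ((p ^ (b - j) * m : ℕ) : ℂ) - S * (c : ℂ) := by
      apply mul_left_cancel₀ hpj
      have e : ((p ^ b : ℕ) : ℂ) = ((p ^ j : ℕ) : ℂ) * ((p ^ (b - j) : ℕ) : ℂ) := by
        rw [← Nat.cast_mul, ← pow_add, Nat.add_sub_cancel' hlt.le]
      rw [hdc, e] at heq
      push_cast at heq ⊢
      linear_combination heq
    refine hcp ((small_natCast_iff hM c).1 ?_)
    rw [heq2]
    exact (small_natCast hM (dvd_mul_of_dvd_left (dvd_pow_self p (Nat.sub_ne_zero_of_lt hlt)) m)).sub
      (Small.mul_mem hSs (natCast_mem _ _))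
  have hinf : b ≤ sInf ((fun ψ : Cfsg.IrrCharacter G => (Cfsg.charDegree (ψ : G → ℂ)).factorization p) ''
      Cfsg.blockOf M (χ : G → ℂ)) := by
    refine le_csInf ⟨_, Set.mem_image_of_mem _ (mem_blockOf_self hM χ)⟩ ?_
    rintro _ ⟨ψ, hψ, rfl⟩
    exact hle ψ hψ
  refine ⟨?_, fun hab => ?_⟩
  · rw [Cfsg.blockDefect, ha']; omega
  · have hba : b = a := by
      have := hb
      rw [show Subgroup.center ↥(P : Subgroup G) = ⊤ from
        eq_top_iff.2 fun x _ => Subgroup.mem_center_iff.2 fun y => hab.is_comm.comm y x,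
        Subgroup.card_top, ha] at this
      exact (Nat.pow_right_injective hp.two_le this).symm
    rw [Cfsg.blockDefect, ha']; omega

end Cfsg.Agent.S4730
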