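import Cfsg.Statements.S4732
import Cfsg.Agent.Jordan.ModularJordan
-- import your own Cfsg.Agent.* helpers here

set_option autoImplicit false
set_option linter.style.haveILetI false
universe u v
open Cfsg

namespace Cfsg.Agent.S4732

/-- Let p be a prime. There is a function f of two natural-number arguments such that every finite group G admitting a faithful representation of degree n over a field of characteristic p, with Sylow p-subgroups of order p^m, has a normal abelian subgroup A with [G : A] < f(m, n). -/
theorem result (p : ℕ) [Fact p.Prime] : ∃ f : ℕ → ℕ → ℕ, ∀ (G : Type u) [Group G] [Finite G] (F : Type v) [Field F] [CharP F p] (n : ℕ) (ρ : Representation F G (Fin n → F)), Function.Injective ρ → ∀ m : ℕ, (Nat.card G).factorization p = m → ∃ A : Subgroup G, A.Normal ∧ IsMulCommutative A ∧ A.index < f m n := by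
  classical
  choose J hJpos hJ using fun m n => Cfsg.Lib.Jordan.Modular.bounded.{u, v} p m n
  refine ⟨fun m n => J m n + 1, ?_⟩
  intro G _ _ F _ _ n ρ hρ m hm
  haveI : CharP (AlgebraicClosure F) p := charP_of_injective_algebraMap (algebraMap F _).injective p
  let ρ' : Representation (AlgebraicClosure F) G (Fin n → AlgebraicClosure F) :=
    (Matrix.toLinAlgEquiv' (R := AlgebraicClosure F) (n := Fin n)).toMonoidHom.comp
      (((algebraMap F (AlgebraicClosure F)).mapMatrix (m := Fin n)).toMonoidHom.comp
        ((LinearMap.toMatrixAlgEquiv' (R := F) (n := Fin n)).toMonoidHom.comp ρ))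
  have hρ' : Function.Injective ρ' := by
    intro a b h
    exact hρ (LinearMap.toMatrixAlgEquiv'.injective (Matrix.map_injective
      (algebraMap F (AlgebraicClosure F)).injective (Matrix.toLinAlgEquiv'.injective h)))
  have hm' : ¬ p ^ (m + 1) ∣ Nat.card G := fun h => by
    have h1 := ((Fact.out : p.Prime).pow_dvd_iff_le_factorization Nat.card_pos.ne').1 h
    omega
  obtain ⟨A, hA, hAc, -, hAi⟩ := hJ m n G (AlgebraicClosure F) (Fin n → AlgebraicClosure F) ρ'
    (le_of_eq (Module.finrank_fin_fun _)) hρ' hm'
  exact ⟨A, hA, ⟨⟨fun a b => Subtype.ext (hAc a a.2 b b.2).eq⟩⟩, Nat.lt_succ_of_le hAi⟩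

end Cfsg.Agent.S4732
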