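import Cfsg.Statements.S4734
import Cfsg.Agent.Blocks.PiKernel

set_option autoImplicit false
open Cfsg Cfsg.Lib.Blocks

namespace Cfsg.Agent.S4734

/-- Let p be a prime, π a set of primes containing p, M a maximal ideal of the algebraic integers containing p, B a p-block of the finite group G with defect group D, and B₁ the block of N_G(D) with defect group D inducing B. Write O_π'(X) for the largest normal subgroup of X whose order has no prime divisor in π, and suppose every element of O_π'(N_G(D)) lies in the kernel of every member of B₁. Let G₀ be a subgroup and B₀ a block of G₀ with defect group D₀ such that C_G(D₀) ≤ G₀ and B₀ induces B. Then every element of O_π'(G₀) lies in the kernel of every member of B₀. -/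
theorem result {G : Type*} [Group G] [Finite G] (p : ℕ) [Fact p.Prime] (M : Ideal Cfsg.AlgInt) (hM : Cfsg.IsPModular p M) (π : Set ℕ) (hpπ : p ∈ π) (B : Set (Cfsg.IrrCharacter G)) (hB : Cfsg.IsPBlock M B) (D : Subgroup G) (hBD : Cfsg.IsDefectGroup p M B D) (B₁ : Set (Cfsg.IrrCharacter ↥(Subgroup.normalizer (D : Set G)))) (hB₁ : Cfsg.IsInducedBlock M (Subgroup.normalizer (D : Set G)) B₁ B) (hB₁D : Cfsg.IsDefectGroup p M B₁ (D.subgroupOf (Subgroup.normalizer (D : Set G)))) (hker : ∀ n : ↥(Subgroup.normalizer (D : Set G)), n ∈ Cfsg.piCore {q | q ∉ π} ↥(Subgroup.normalizer (D : Set G)) → n ∈ Cfsg.blockKer B₁) (G₀ : Subgroup G) (B₀ : Set (Cfsg.IrrCharacter ↥G₀)) (hB₀ : Cfsg.IsInducedBlock M G₀ B₀ B) (D₀ : Subgroup ↥G₀) (hD₀ : Cfsg.IsDefectGroup p M B₀ D₀) (hC : Subgroup.centralizer ((D₀.map G₀.subtype : Subgroup G) : Set G) ≤ G₀) : ∀ x : ↥G₀, x ∈ Cfsg.piCore {q | q ∉ π} ↥G₀ → x ∈ Cfsg.blockKer B₀ := by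
  classical
  letI := Fintype.ofFinite G
  letI : Fintype ↥(Subgroup.normalizer (D : Set G)) := Fintype.ofFinite _
  letI : Fintype ↥G₀ := Fintype.ofFinite _
  obtain ⟨e, hmax, hiff⟩ := exists_maximal_correspondent (π := π) hM hpπ hBD hB₁
  have he := hiff.1 hker
  set R := D₀.map G₀.subtype with hR
  have hRG : R ≤ G₀ := Subgroup.map_subtype_le D₀
  have hsub : R.subgroupOf G₀ = D₀ :=
    Subgroup.comap_map_eq_self_of_injective G₀.subtype_injective D₀
  have hRp : IsPGroup p R := (IsDefectGroup.isPGroup hD₀).map _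
  obtain ⟨e', he'⟩ := exists_pair_of_defect (G := G₀) hM hB₀.1 (hsub.symm ▸ hD₀)
  obtain ⟨f, hf, rfl⟩ := exists_downSet hM hRG hC he'.1.1.2
  have hbr := (pair_down_iff hM hRG hC hRp hB₀.1 hf).1 he'.1
  have hpair := pair_of_isInducedBlock hM hRG hC hB₀.1 ⟨hRp, hf⟩ hbr hB₀
  have hfix := fixesElt_of_maximal hM hpπ hmax he hpair
  intro x hx θ hθ
  refine ker_of_fixesElt hM hB₀.1 (K := coPiCore π G₀)
    (fun h hh k hk => conj_mem_coPiCore hh hk) (coPiCore_not_dvd (Fact.out : p.Prime) hpπ _)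
    (coPiCore_le _) ?_ (mem_coPiCore_iff.2 hx) hθ
  exact fixesElt_down (K := coPiCore π G₀) (R := R) hM (coPiCore_le _)
    (fun h hh k hk => conj_mem_coPiCore hh hk) (fun r hr k hk => conj_mem_coPiCore (hRG hr) hk)
    hRp (coPiCore_not_dvd (Fact.out : p.Prime) hpπ _) hB₀.1
    (fun r hr => invOn_iff.1 (invOn_bi B₀) r (hRG hr)) hf hbr
    (hfix.mono (coPiCore_inf_centralizer_le (hC.trans Subgroup.le_normalizer)))

end Cfsg.Agent.S4734
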