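import Cfsg.Statements.S4735
import Cfsg.Agent.Blocks.PrincipalColumn
import Cfsg.Agent.Components.Cores
-- import your own Cfsg.Agent.* helpers here

set_option autoImplicit false
open Cfsg

namespace Cfsg.Agent.S4735

set_option linter.unusedSectionVars false

open Cfsg.Lib.Blocks Cfsg.Lib.Chars

/-- Let p be a prime, M a maximal ideal of the algebraic integers containing p, G a finite group, H = O_p'(G) and Ḡ = G/H. For x ∈ G write λ(G, x) for the sum of |χ(x)|^2 over the irreducible characters χ in the principal p-block of G. Then λ(G, x) is a positive integer, λ(G, x) = λ(Ḡ, x̄) where x̄ is the image of x, and λ(G, x) ≤ #C_Ḡ(x̄). Moreover λ(G, 1) = [G : H] if and only if the principal block is the only p-block of Ḡ. -/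
theorem result {G : Type*} [Group G] [Finite G] (p : ℕ) [Fact p.Prime] (M : Ideal Cfsg.AlgInt) (hM : Cfsg.IsPModular p M) (x : G) : (∃ n : ℕ, 0 < n ∧ ∑ᶠ χ ∈ Cfsg.principalBlock M G, Complex.normSq ((χ : G → ℂ) x) = n) ∧ ∑ᶠ χ ∈ Cfsg.principalBlock M G, Complex.normSq ((χ : G → ℂ) x) = ∑ᶠ ψ ∈ Cfsg.principalBlock M (G ⧸ Cfsg.pPrimeCore p G), Complex.normSq ((ψ : G ⧸ Cfsg.pPrimeCore p G → ℂ) (QuotientGroup.mk x)) ∧ ∑ᶠ χ ∈ Cfsg.principalBlock M G, Complex.normSq ((χ : G → ℂ) x) ≤ (Nat.card ↥(Subgroup.centralizer ({(QuotientGroup.mk x : G ⧸ Cfsg.pPrimeCore p G)} : Set (G ⧸ Cfsg.pPrimeCore p G))) : ℝ) ∧ ((∑ᶠ χ ∈ Cfsg.principalBlock M G, Cfsg.charDegree (χ : G → ℂ) ^ 2) = (Cfsg.pPrimeCore p G).index ↔ ∀ B : Set (Cfsg.IrrCharacter (G ⧸ Cfsg.pPrimeCore p G)), Cfsg.IsPBlock M B → B = Cfsg.principalBlock M (G ⧸ Cfsg.pPrimeCore p G)) := by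
  classical
  haveI := Fintype.ofFinite G
  haveI : (Cfsg.pPrimeCore p G).Normal := Cfsg.Lib.Components.pPrimeCore_normal' p
  set K := Cfsg.pPrimeCore p G with hK
  haveI := Fintype.ofFinite (G ⧸ K)
  have hp : p.Prime := Fact.out
  have hKp : ¬ p ∣ Nat.card K :=
    hp.coprime_iff_not_dvd.1 (Cfsg.Lib.Components.coprime_card_pPrimeCore p).symm
  set q : G ⧸ K := QuotientGroup.mk x with hq
  have hinj : Function.Injective (inflate (G := G) K) := fun a b h =>
    Subtype.ext (funext fun y => by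
      obtain ⟨g, rfl⟩ := QuotientGroup.mk'_surjective K y
      exact congrFun (congrArg Subtype.val h) g)
  have himg := image_inflate_principal hM K hKp
  have heq : ∀ f : G → ℝ, ∀ f' : G ⧸ K → ℝ, ∀ (F : IrrCharacter G → ℝ)
      (F' : IrrCharacter (G ⧸ K) → ℝ), (∀ φ, F (inflate K φ) = F' φ) →
      ∑ᶠ χ ∈ Cfsg.principalBlock M G, F χ = ∑ᶠ φ ∈ Cfsg.principalBlock M (G ⧸ K), F' φ := by
    intro _ _ F F' hF
    rw [← himg, finsum_mem_image fun a _ b _ h => hinj h]
    exact finsum_mem_congr rfl fun φ _ => hF φ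
  have hsum : ∀ {H : Type _} [Group H] [Finite H] (S : Set (IrrCharacter H)) (F : IrrCharacter H → ℝ),
      ∑ᶠ χ ∈ S, F χ = ∑ χ ∈ Finset.univ.filter (fun χ : IrrCharacter H => χ ∈ S), F χ := fun S F =>
    finsum_mem_eq_sum_of_inter_support_eq _ (by simp)
  have hcol : ∑ᶠ χ ∈ Cfsg.principalBlock M G, Complex.normSq ((χ : G → ℂ) x) =
      ∑ᶠ ψ ∈ Cfsg.principalBlock M (G ⧸ K), Complex.normSq ((ψ : G ⧸ K → ℂ) q) :=
    heq (fun _ => 0) (fun _ => 0) _ _ fun φ => rfl
  refine ⟨?_, hcol, ?_, ?_⟩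
  · obtain ⟨n, hn, h⟩ := exists_nat_column hM x
    exact ⟨n, hn, by rw [hsum, h]⟩
  · rw [hcol, hsum]
    refine le_trans (Finset.sum_le_univ_sum_of_nonneg fun φ => Complex.normSq_nonneg _) ?_
    rw [← Cfsg.Lib.Chars.sum_norm_sq_irr q]
    exact le_of_eq (Finset.sum_congr rfl fun φ _ => Complex.normSq_eq_norm_sq _)
  · -- the principal block is everything
    set S := Finset.univ.filter
      (fun φ : IrrCharacter (G ⧸ K) => φ ∈ Cfsg.principalBlock M (G ⧸ K)) with hS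
    have hdeg : (∑ᶠ χ ∈ Cfsg.principalBlock M G, Cfsg.charDegree (χ : G → ℂ) ^ 2) =
        ∑ φ ∈ S, deg (φ : G ⧸ K → ℂ) ^ 2 := by
      rw [← himg, finsum_mem_image fun a _ b _ h => hinj h,
        finsum_mem_eq_sum_of_inter_support_eq _ (t := S) (by simp [hS])]
      refine Finset.sum_congr rfl fun φ _ => ?_
      rfl
    rw [hdeg, Subgroup.index_eq_card, ← sum_deg_sq_nat (G := G ⧸ K)]
    constructor
    · intro h B hB
      obtain ⟨φ, hφ⟩ := IsPBlock.nonempty hM hB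
      refine IsPBlock.eq_of_mem_inter hM hB (isPBlock_blockOf (principal (G ⧸ K))) hφ ?_
      by_contra hn
      refine (Finset.sum_lt_sum_of_subset (Finset.subset_univ S) (Finset.mem_univ φ) ?_ ?_
        fun _ _ _ => Nat.zero_le _).ne h
      · rw [hS, Finset.mem_filter]
        exact fun h' => hn h'.2
      · exact pow_pos (deg_irr_pos φ) 2
    · intro h
      refine Finset.sum_congr (Finset.eq_univ_iff_forall.2 fun φ => ?_) fun _ _ => rfl
      rw [hS, Finset.mem_filter]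
      exact ⟨Finset.mem_univ _, (h _ (isPBlock_blockOf φ)) ▸ mem_blockOf_self hM φ⟩

end Cfsg.Agent.S4735
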