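import Cfsg.Statements.S4736
import Cfsg.Agent.Blocks.FongFullDefect
import Cfsg.Agent.GaschutzYen.Basic
import Cfsg.Agent.Blocks.ItoDegrees
import Cfsg.Agent.Blocks.Quotient
import Cfsg.Agent.Thompson.PComplement
-- import your own Cfsg.Agent.* helpers here

set_option autoImplicit false
open Cfsg

namespace Cfsg.Agent.S4736

set_option linter.unusedSectionVars false

open Cfsg.Lib.Blocks Cfsg.Lib.Chars

/-- Let p be a prime, M a maximal ideal of the algebraic integers containing p, and G a finite p-solvable group with Sylow p-subgroup P. Then P is abelian if and only if every irreducible character in the principal p-block of G has height zero. -/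
theorem result {G : Type*} [Group G] [Finite G] (p : ℕ) [Fact p.Prime] (M : Ideal Cfsg.AlgInt) (hM : Cfsg.IsPModular p M) (hsolv : Cfsg.IsPSolvable p G) (P : Sylow p G) : IsMulCommutative P ↔ ∀ χ ∈ Cfsg.principalBlock M G, Cfsg.blockHeight p (Cfsg.principalBlock M G) (χ : G → ℂ) = 0 := by
  classical
  letI := Fintype.ofFinite G
  have hp : p.Prime := Fact.out
  haveI hHn : (Cfsg.pPrimeCore p G).Normal := Cfsg.Lib.Components.pPrimeCore_normal' p
  set H := Cfsg.pPrimeCore p G with hH
  letI := Fintype.ofFinite H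
  letI := Fintype.ofFinite (G ⧸ H)
  have hHc : (Nat.card H).Coprime p := Cfsg.Lib.Components.coprime_card_pPrimeCore p
  set π := QuotientGroup.mk' H with hπdef
  have hπ : Function.Surjective π := QuotientGroup.mk'_surjective H
  have hsolQ := Cfsg.Lib.GaschutzYen.isPSolvable_quotient H hsolv
  have hO : Cfsg.pPrimeCore p (G ⧸ H) = ⊥ := by
    rw [← Cfsg.Lib.Components.map_pPrimeCore_of_coprime_ker hπ
      (by rw [hπdef, QuotientGroup.ker_mk']; exact hHc), ← hH, hπdef, Subgroup.map_eq_bot_iff,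
      QuotientGroup.ker_mk']
  obtain ⟨B, hB, hiff, -⟩ := pSolvable_block_over hM hsolv H hH (principal H)
    (fun g => Subtype.ext (by rw [cjIrr_val]; rfl)) hsolQ
  have hp1 : Cfsg.classInner (fun n : H => ((principal G : Cfsg.IrrCharacter G) : G → ℂ) n)
      ((principal H : Cfsg.IrrCharacter H) : H → ℂ) ≠ 0 := by
    rw [show (fun n : H => ((principal G : Cfsg.IrrCharacter G) : G → ℂ) n) =
      ((principal H : Cfsg.IrrCharacter H) : H → ℂ) from rfl, classInner_irr_self]
    exact one_ne_zero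
  have hBp : B = Cfsg.principalBlock M G :=
    IsPBlock.eq_of_mem_inter hM hB (isPBlock_blockOf (principal G)) ((hiff _).2 hp1)
      (mem_blockOf_self hM (principal G))
  have hker : ∀ χ : Cfsg.IrrCharacter G,
      χ ∈ Cfsg.principalBlock M G ↔ ∀ n ∈ H, (χ : G → ℂ) n = (χ : G → ℂ) 1 := by
    intro χ
    rw [← hBp, hiff]
    constructor
    · intro h n hn
      have h1 := (constituent_iff_centralChar H χ (principal H)).1 h ⟨n, hn⟩
      rw [← (constituent_iff_centralChar H (principal G) (principal H)).1 hp1 ⟨n, hn⟩] at h1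
      simp only [Cfsg.centralChar, show ∀ x, ((principal G : Cfsg.IrrCharacter G) : G → ℂ) x = 1 from
        fun _ => rfl, mul_div_assoc, div_one] at h1
      have h2 := mul_left_cancel₀ (Nat.cast_ne_zero.2 Subgroup.index_ne_zero_of_finite) h1
      exact (div_eq_one_iff_eq (IsIrrCharacter.apply_one_ne_zero χ.2)).1 h2
    · intro h
      rw [classInner_def]
      refine mul_ne_zero (inv_ne_zero (Nat.cast_ne_zero.2 Nat.card_pos.ne')) ?_
      rw [Finset.sum_congr rfl fun (n : H) _ => by
        rw [h n n.2, show ((principal H : Cfsg.IrrCharacter H) : H → ℂ) n = 1 from rfl, map_one,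
          mul_one], Finset.sum_const, nsmul_eq_mul]
      exact mul_ne_zero (Nat.cast_ne_zero.2 (Finset.card_ne_zero.2 ⟨1, Finset.mem_univ _⟩))
        (IsIrrCharacter.apply_one_ne_zero χ.2)
  have hinf : sInf ((fun ψ : Cfsg.IrrCharacter G => (Cfsg.charDegree (ψ : G → ℂ)).factorization p) ''
      Cfsg.principalBlock M G) = 0 := by
    refine Nat.sInf_eq_zero.2 (Or.inl ⟨principal G, mem_blockOf_self hM (principal G), ?_⟩)
    simp [Cfsg.charDegree, principal]
  have hdegs : (∀ χ ∈ Cfsg.principalBlock M G,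
      Cfsg.blockHeight p (Cfsg.principalBlock M G) (χ : G → ℂ) = 0) ↔
      ∀ φ : Cfsg.IrrCharacter (G ⧸ H), ¬ p ∣ deg (φ : G ⧸ H → ℂ) := by
    have hheight : ∀ χ : Cfsg.IrrCharacter G,
        Cfsg.blockHeight p (Cfsg.principalBlock M G) (χ : G → ℂ) = 0 ↔
          ¬ p ∣ deg (χ : G → ℂ) := fun χ => by
      rw [Cfsg.blockHeight, hinf, Nat.sub_zero]
      change (deg (χ : G → ℂ)).factorization p = 0 ↔ _
      refine ⟨fun h hd => ?_, fun h => Nat.factorization_eq_zero_of_not_dvd h⟩
      exact (hp.factorization_pos_of_dvd (deg_irr_pos χ).ne' hd).ne' h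
    constructor
    · intro h φ
      have := (hheight (inflate H φ)).1 (h _ ((hker _).2 fun n hn => by
        rw [inflate_val, inflate_val, (QuotientGroup.eq_one_iff n).2 hn, QuotientGroup.mk_one]))
      exact this
    · intro h χ hχ
      rw [hheight]
      obtain ⟨χ', hχ', hfac⟩ := exists_factor π hπ (isCharacter_of_irr χ.2) (fun k hk => by
        rw [hπdef, QuotientGroup.ker_mk'] at hk
        exact (hker χ).1 hχ k hk)
      have hirr : Cfsg.IsIrrCharacter (G ⧸ H) χ' := isIrrCharacter_of_norm_one hχ' (by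
        rw [← classInner_comp_surjective π hπ χ' χ']
        have h2 := classInner_self_irr χ.2
        rw [hfac] at h2
        exact h2)
      rw [show deg (χ : G → ℂ) = deg χ' by
        show Cfsg.charDegree _ = Cfsg.charDegree _
        rw [hfac, Cfsg.charDegree, Cfsg.charDegree, map_one]]
      exact h ⟨χ', hirr⟩
  set Pb : Sylow p (G ⧸ H) := P.mapSurjective hπ with hPb
  have hinj : Function.Injective (π.comp (P : Subgroup G).subtype) := by
    rw [injective_iff_map_eq_one]
    intro x hx
    obtain ⟨k, hk⟩ := IsPGroup.iff_card.1 P.2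
    exact Subtype.ext (Cfsg.Lib.Coprime.eq_one_of_coprime (by rw [hk]; exact hHc.pow_right k)
      ((QuotientGroup.eq_one_iff _).1 hx) x.2)
  rw [hdegs, ← Cfsg.Lib.Blocks.ito_iff hsolQ Pb]
  constructor
  · intro hab
    have hPbab : IsMulCommutative (Pb : Subgroup (G ⧸ H)) := by
      refine ⟨⟨fun ⟨u, hu⟩ ⟨v, hv⟩ => Subtype.ext ?_⟩⟩
      rw [hPb, Sylow.coe_mapSurjective] at hu hv
      obtain ⟨u', hu', rfl⟩ := hu
      obtain ⟨v', hv', rfl⟩ := hv
      show π u' * π v' = π v' * π u'
      rw [← map_mul, ← map_mul, show u' * v' = v' * u' from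
        congrArg Subtype.val (hab.is_comm.comm ⟨u', hu'⟩ ⟨v', hv'⟩)]
    refine ⟨?_, hPbab⟩
    haveI := Cfsg.Lib.Components.pCore_normal' (G := G ⧸ H) p
    have hle : Cfsg.pCore p (G ⧸ H) ≤ (Pb : Subgroup (G ⧸ H)) :=
      Cfsg.Lib.Thompson.le_sylow_of_normal (Cfsg.Lib.Components.isPGroup_pCore p) Pb
    have heq : (Pb : Subgroup (G ⧸ H)) = Cfsg.pCore p (G ⧸ H) := by
      refine le_antisymm (fun u hu => centralizer_pCore_le_of_isPSolvable p hsolQ hO ?_) hle
      exact Subgroup.mem_centralizer_iff.2 fun v hv =>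
        congrArg Subtype.val (hPbab.is_comm.comm ⟨v, hle hv⟩ ⟨u, hu⟩)
    rw [heq]; infer_instance
  · rintro ⟨-, hab⟩
    refine ⟨⟨fun u v => hinj ?_⟩⟩
    have hu : π (u : G) ∈ (Pb : Subgroup (G ⧸ H)) := by
      rw [hPb, Sylow.coe_mapSurjective]; exact Subgroup.mem_map_of_mem π u.2
    have hv : π (v : G) ∈ (Pb : Subgroup (G ⧸ H)) := by
      rw [hPb, Sylow.coe_mapSurjective]; exact Subgroup.mem_map_of_mem π v.2
    rw [map_mul, map_mul]
    exact congrArg Subtype.val (hab.is_comm.comm ⟨_, hu⟩ ⟨_, hv⟩)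

end Cfsg.Agent.S4736
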