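import Cfsg.Statements.S4738
import Mathlib
import Cfsg.Agent.Blocks.InvertedSylow
-- import your own Cfsg.Agent.* helpers here

set_option autoImplicit false
open Cfsg

namespace Cfsg.Agent.S4738

set_option linter.unusedSectionVars false

open Cfsg.Lib.Chars Cfsg.Lib.Blocks

/-- Let p be an odd prime and G a finite group of even order containing no element of order 2p. Then either G has an irreducible character of p-defect zero (its degree has the same p-part as the order of G), or every Sylow p-subgroup of G is abelian and all involutions of G are conjugate. -/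
theorem result {G : Type*} [Group G] [Finite G] (p : ℕ) [Fact p.Prime] (hp2 : p ≠ 2) (hG : Even (Nat.card G)) (h2p : ∀ g : G, orderOf g ≠ 2 * p) : (∃ χ : Cfsg.IrrCharacter G, (Cfsg.charDegree (χ : G → ℂ)).factorization p = (Nat.card G).factorization p) ∨ ((∀ P : Sylow p G, IsMulCommutative ↥(P : Subgroup G)) ∧ ∀ s t : G, orderOf s = 2 → orderOf t = 2 → IsConj s t) := by
  classical
  haveI := Fintype.ofFinite G
  have hp : p.Prime := Fact.out
  have hC : ∀ g : G, g ≠ 1 → (∃ k : ℕ, orderOf g = p ^ k) →
      Odd (Nat.card (Subgroup.centralizer ({g} : Set G))) := by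
    rintro g hg ⟨k, hk⟩
    by_contra hodd
    haveI : Fact (Nat.Prime 2) := ⟨Nat.prime_two⟩
    obtain ⟨t, ht⟩ := exists_prime_orderOf_dvd_card' 2
      (even_iff_two_dvd.1 (Nat.not_odd_iff_even.1 hodd))
    have hto : orderOf (t : G) = 2 := by rw [Subgroup.orderOf_coe, ht]
    have hk0 : k ≠ 0 := fun h0 => hg (orderOf_eq_one_iff.1 (by rw [hk, h0, pow_zero]))
    set w := g ^ p ^ (k - 1) with hw
    have hwo : orderOf w = p := by
      have e : p ^ k = p * p ^ (k - 1) := by rw [← pow_succ', Nat.sub_add_cancel (Nat.pos_of_ne_zero hk0)]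
      rw [hw, orderOf_pow, hk, Nat.gcd_eq_right ⟨p, by rw [e, mul_comm]⟩, e,
        Nat.mul_div_cancel _ (pow_pos hp.pos _)]
    have hc : Commute (t : G) w :=
      (show Commute (t : G) g from Subgroup.mem_centralizer_singleton_iff.1 t.2).pow_right _
    refine h2p ((t : G) * w) ?_
    rw [hc.orderOf_mul_eq_mul_orderOf_of_coprime, hto, hwo]
    rw [hto, hwo]
    exact (Nat.coprime_primes Nat.prime_two hp).2 (Ne.symm hp2)
  refine or_iff_not_imp_left.2 fun hno => ?_
  simp only [charDegree_eq_deg, not_exists] at hno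
  exact ⟨fun P => (sylow_abelian_even hC hno (even_iff_two_dvd.1 hG) P).2,
    fun s t hs ht => involutions_conj_of_no_defectZero hC hno hs ht⟩

end Cfsg.Agent.S4738
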