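import Cfsg.Statements.S4740
import Mathlib
import Cfsg.Agent.Blocks.SeparatedClasses
import Cfsg.Agent.Blocks.Feit3
import Cfsg.Agent.Chars.Sums
-- import your own Cfsg.Agent.* helpers here

set_option autoImplicit false
open Cfsg

namespace Cfsg.Agent.S4740

set_option linter.unusedSectionVars false

open Cfsg.Lib.Chars Cfsg.Lib.Blocks
open scoped ComplexConjugate

/-- Let p be an odd prime, G a finite group of even order, x an involution of G and P a subgroup of G of order p ^ c such that no conjugate of x inverts a non-identity element of P. If p ^ a is the p-part of the order of C_G(x), then some irreducible character of G has degree divisible by p ^ (c - a). -/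
theorem result {G : Type*} [Group G] [Finite G] (p : ℕ) [Fact p.Prime] (hp2 : p ≠ 2) (hG : Even (Nat.card G)) (x : G) (hx : orderOf x = 2) (P : Subgroup G) (c : ℕ) (hP : Nat.card ↥P = p ^ c) (hinv : ∀ g : G, IsConj x g → ∀ z ∈ P, z ≠ 1 → g * z * g⁻¹ ≠ z⁻¹) (a : ℕ) (ha : (Nat.card ↥(Subgroup.centralizer ({x} : Set G))).factorization p = a) : ∃ χ : Cfsg.IrrCharacter G, p ^ (c - a) ∣ Cfsg.charDegree (χ : G → ℂ) := by
  classical
  haveI := Fintype.ofFinite G
  have hp : p.Prime := Fact.out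
  obtain ⟨M, hM⟩ := exists_isPModular hp
  by_contra hall
  push Not at hall
  simp only [charDegree_eq_deg] at hall
  have hxx : x * x = 1 := by rw [← pow_two, ← hx, pow_orderOf_eq_one]
  choose m hm using fun χ : Cfsg.IrrCharacter G => IsCharacter.exists_mult
    (IsCharacter.comp_hom (isCharacter_of_irr χ.2) P.subtype) (isIrrCharacter_one (G := P))
  have hms : ∀ χ : Cfsg.IrrCharacter G, ∑ s : P, conj ((χ : G → ℂ) s) = (p : ℂ) ^ c * m χ := by
    intro χ
    have h1 : Cfsg.classInner (fun s : P => (χ : G → ℂ) s) (fun _ => 1) = (m χ : ℂ) := hm χ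
    rw [classInner_def] at h1
    simp only [map_one, mul_one, hP, Nat.cast_pow] at h1
    rw [inv_mul_eq_iff_eq_mul₀ (pow_ne_zero _ (Nat.cast_ne_zero.2 hp.ne_zero))] at h1
    rw [← map_sum, h1, map_mul, map_pow, Complex.conj_natCast, Complex.conj_natCast]
  set K := {y : G // IsConj x y}
  have hcount : ∑ s : P, Nat.card {q : G × G // IsConj x q.1 ∧ IsConj x q.2 ∧ q.1 * q.2 = (s : G)} =
      Nat.card K := by
    rw [← Nat.card_sigma]
    refine Nat.card_congr (Equiv.ofBijective (fun sq => (⟨sq.2.1.1, sq.2.2.1⟩ : K)) ⟨?_, ?_⟩)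
    · rintro ⟨s, ⟨a1, b1⟩, ha1, hb1, hab⟩ ⟨s', ⟨a2, b2⟩, ha2, hb2, hab'⟩ h
      have e : a1 = a2 := congrArg Subtype.val h
      have hsq : ∀ y, IsConj x y → y * y = 1 := fun y hy => by
        obtain ⟨c, rfl⟩ := isConj_iff.1 hy
        calc c * x * c⁻¹ * (c * x * c⁻¹) = c * (x * x) * c⁻¹ := by group
          _ = 1 := by rw [hxx]; group
      have hone : ∀ (s : P) (a b : G), IsConj x a → IsConj x b → a * b = (s : G) → (s : G) = 1 := by
        intro s a b ha hb hab
        by_contra hs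
        refine hinv a ha (s : G) s.2 hs ?_
        rw [← hab, inv_eq_of_mul_eq_one_right (hsq a ha), mul_inv_rev,
          inv_eq_of_mul_eq_one_right (hsq a ha), inv_eq_of_mul_eq_one_right (hsq b hb),
          ← mul_assoc a a b, hsq a ha, one_mul]
      have h1 : (s : G) = 1 := hone s a1 b1 ha1 hb1 hab
      have h2 : (s' : G) = 1 := hone s' a2 b2 ha2 hb2 hab'
      have hs : s = s' := Subtype.ext (h1.trans h2.symm)
      subst hs
      subst e
      have hb : b1 = b2 := mul_left_cancel (hab.trans hab'.symm)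
      subst hb
      rfl
    · rintro ⟨y, hy⟩
      refine ⟨⟨1, (y, y), hy, hy, ?_⟩, rfl⟩
      obtain ⟨c, rfl⟩ := isConj_iff.1 hy
      show c * x * c⁻¹ * (c * x * c⁻¹) = ((1 : P) : G)
      calc c * x * c⁻¹ * (c * x * c⁻¹) = c * (x * x) * c⁻¹ := by group
        _ = 1 := by rw [hxx]; group
  have hid : (Nat.card (Subgroup.centralizer ({x} : Set G)) : ℂ) = (p : ℂ) ^ c *
      ∑ χ : Cfsg.IrrCharacter G, (χ : G → ℂ) x * (χ : G → ℂ) x * (m χ : ℂ) / (χ : G → ℂ) 1 := by
    have h := congrArg (Nat.cast : ℕ → ℂ) hcount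
    rw [Nat.cast_sum, Finset.sum_congr rfl fun (s : P) _ => class_mult_formula x x (s : G),
      ← Finset.mul_sum, Finset.sum_comm] at h
    simp only [div_eq_mul_inv] at h
    simp only [← Finset.sum_mul, ← Finset.mul_sum, hms] at h
    have hKG := congrArg (Nat.cast : ℕ → ℂ) (card_isConj_mul x)
    rw [Nat.cast_mul] at hKG
    have hK0 : (Nat.card K : ℂ) ≠ 0 := Nat.cast_ne_zero.2 (card_isConj_pos _).ne'
    have hC0 : (Nat.card (Subgroup.centralizer ({x} : Set G)) : ℂ) ≠ 0 :=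
      Nat.cast_ne_zero.2 Nat.card_pos.ne'
    have hh : ∑ χ : Cfsg.IrrCharacter G, (χ : G → ℂ) x * (χ : G → ℂ) x * ((p : ℂ) ^ c * (m χ : ℂ)) *
        ((χ : G → ℂ) 1)⁻¹ = (p : ℂ) ^ c *
      ∑ χ : Cfsg.IrrCharacter G, (χ : G → ℂ) x * (χ : G → ℂ) x * (m χ : ℂ) / (χ : G → ℂ) 1 := by
      rw [Finset.mul_sum]
      exact Finset.sum_congr rfl fun χ _ => by ring
    rw [hh, ← hKG] at h
    set S := (p : ℂ) ^ c *
      ∑ χ : Cfsg.IrrCharacter G, (χ : G → ℂ) x * (χ : G → ℂ) x * (m χ : ℂ) / (χ : G → ℂ) 1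
    field_simp at h
    exact mul_right_cancel₀ hK0 (by linear_combination -h)
  have hterm : ∀ χ : Cfsg.IrrCharacter G, ∃ r : ℂ, r ∈ place M ∧
      (p : ℂ) ^ c * ((χ : G → ℂ) x * (χ : G → ℂ) x * (m χ : ℂ) / (χ : G → ℂ) 1) =
        (p : ℂ) ^ (a + 1) * r := by
    intro χ
    set e := (deg (χ : G → ℂ)).factorization p with he
    set d' := deg (χ : G → ℂ) / p ^ e with hd'
    have hd : deg (χ : G → ℂ) = p ^ e * d' := (Nat.ordProj_mul_ordCompl_eq_self _ p).symm
    have hd'u : IsUnitAt M (d' : ℂ) :=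
      isUnitAt_natCast hM (Nat.not_dvd_ordCompl hp (deg_irr_pos χ).ne')
    have hle : a + 1 + e ≤ c := by
      by_contra hlt
      refine hall χ (dvd_trans (pow_dvd_pow p (show c - a ≤ e by omega)) ?_)
      rw [hd]; exact dvd_mul_right _ _
    have hint := isIntegral_mem_place hM (IsCharacter.isIntegral (isCharacter_of_irr χ.2) x)
    refine ⟨(p : ℂ) ^ (c - (a + 1 + e)) * ((χ : G → ℂ) x * (χ : G → ℂ) x * (m χ : ℂ) * (d' : ℂ)⁻¹),
      mul_mem (pow_mem (natCast_mem_place _) _) (mul_mem (mul_mem (mul_mem hint hint)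
        (natCast_mem_place _)) hd'u.inv.mem_place), ?_⟩
    rw [irr_apply_one_eq_deg, hd]
    push_cast
    have hp0 : (p : ℂ) ≠ 0 := Nat.cast_ne_zero.2 hp.ne_zero
    have hd0 := hd'u.ne_zero
    have e2 : (p : ℂ) ^ c = (p : ℂ) ^ (c - (a + 1 + e)) * (p : ℂ) ^ (a + 1) * (p : ℂ) ^ e := by
      rw [← pow_add, ← pow_add]; congr 1; omega
    rw [e2]
    field_simp
  choose r hr hre using hterm
  rw [Finset.mul_sum, Finset.sum_congr rfl fun χ _ => hre χ, ← Finset.mul_sum] at hid
  have hv := congrArg (place M).valuation hid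
  rw [valuation_natCast hM Nat.card_pos.ne', ha, map_mul, map_pow] at hv
  have hle : (place M).valuation (p : ℂ) ^ a ≤ (place M).valuation (p : ℂ) ^ (a + 1) := by
    rw [hv]
    exact mul_le_of_le_one_right zero_le
      ((ValuationSubring.valuation_le_one_iff _ _).2 (sum_mem fun χ _ => hr χ))
  rw [valuation_prime_pow_le_iff hM] at hle
  omega

end Cfsg.Agent.S4740
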