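import Cfsg.Statements.S4742
import Mathlib
import Cfsg.Agent.Blocks.InvertedSylow
-- import your own Cfsg.Agent.* helpers here

set_option autoImplicit false
open Cfsg

namespace Cfsg.Agent.S4742

set_option linter.unusedSectionVars false

open Cfsg.Lib.Chars Cfsg.Lib.Blocks

/-- Let p ≠ q be primes dividing the order of the finite group G, and suppose the centralizer of every non-identity p-element of G has order prime to q. Then either G has an irreducible character of p-defect zero, or for every non-identity q-element z of G there are conjugates g, h of z such that g h⁻¹ is a non-identity p-element. -/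
theorem result {G : Type*} [Group G] [Finite G] (p q : ℕ) [Fact p.Prime] [Fact q.Prime] (hppq : p ≠ q) (hpG : p ∣ Nat.card G) (hqG : q ∣ Nat.card G) (hC : ∀ g : G, g ≠ 1 → (∃ k : ℕ, orderOf g = p ^ k) → ¬ q ∣ Nat.card ↥(Subgroup.centralizer ({g} : Set G))) : (∃ χ : Cfsg.IrrCharacter G, (Cfsg.charDegree (χ : G → ℂ)).factorization p = (Nat.card G).factorization p) ∨ ∀ z : G, z ≠ 1 → (∃ k : ℕ, orderOf z = q ^ k) → ∃ g h : G, IsConj z g ∧ IsConj z h ∧ g * h⁻¹ ≠ 1 ∧ ∃ k : ℕ, orderOf (g * h⁻¹) = p ^ k := by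
  classical
  haveI := Fintype.ofFinite G
  have hp : p.Prime := Fact.out
  have hq : q.Prime := Fact.out
  refine or_iff_not_imp_left.2 fun hno z hz hzq => ?_
  by_contra hnone
  apply hno
  have hzp : ¬ p ∣ Nat.card (Subgroup.centralizer ({z} : Set G)) := by
    intro h
    obtain ⟨g, hg⟩ := exists_prime_orderOf_dvd_card' p h
    have hgo : orderOf (g : G) = p := by rw [Subgroup.orderOf_coe, hg]
    obtain ⟨j, hj⟩ := hzq
    have hj0 : j ≠ 0 := fun h0 => hz (orderOf_eq_one_iff.1 (by rw [hj, h0, pow_zero]))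
    refine hC g (fun h1 => by rw [h1, orderOf_one] at hgo; exact hp.one_lt.ne hgo)
      ⟨1, by rw [hgo, pow_one]⟩ ((dvd_pow_self q hj0).trans ?_)
    have h' := orderOf_dvd_natCard (⟨z, Subgroup.mem_centralizer_singleton_iff.2
      (Subgroup.mem_centralizer_singleton_iff.1 g.2).symm⟩ : Subgroup.centralizer ({(g : G)} : Set G))
    rwa [Subgroup.orderOf_mk, hj] at h'
  obtain ⟨χ, hχ⟩ := exists_defectZero_of_separated hzp fun g h hg hh k hk ho =>
    hnone ⟨g, h, hg, hh, fun h1 => by
      rw [h1, orderOf_one] at ho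
      exact absurd ho (Nat.one_lt_pow hk.ne' hp.one_lt).ne, k, ho⟩
  exact ⟨χ, by rw [charDegree_eq_deg]; exact hχ⟩

end Cfsg.Agent.S4742
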