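import Cfsg.Statements.S4750
import Cfsg.Agent.Blocks.TIFixed
import Cfsg.Agent.Chars.Core
import Cfsg.Agent.Blocks.Feit3
-- import your own Cfsg.Agent.* helpers here

set_option autoImplicit false
open scoped Pointwise
open Cfsg

namespace Cfsg.Agent.S4750

set_option linter.unusedSectionVars false

universe v w

open Cfsg.Lib.Blocks Module

/-- Freeness of the action of a TI Sylow subgroup on the nontrivial cosets. -/
theorem free_of_TI {G : Type v} [Group G] [Finite G] (p : ℕ) [Fact p.Prime] (P : Sylow p G)
    (hTI : ∀ g : G, g ∉ Subgroup.normalizer ((P : Subgroup G) : Set G) →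
      (P : Subgroup G) ⊓ (MulAut.conj g • (P : Subgroup G)) = ⊥)
    (H : Subgroup G) (hH : Subgroup.normalizer ((P : Subgroup G) : Set G) ≤ H)
    (u : (P : Subgroup G)) (g : G) (hg : g ∉ H) (hx : g⁻¹ * (u : G) * g ∈ H) : u = 1 := by
  have hPH : (P : Subgroup G) ≤ H := le_trans Subgroup.le_normalizer hH
  set x : H := ⟨g⁻¹ * (u : G) * g, hx⟩ with hxdef
  have hxp : IsPGroup p (Subgroup.zpowers x) := by
    obtain ⟨k, hk⟩ := P.isPGroup' u
    have hpow : x ^ (p ^ k) = 1 := by
      apply Subtype.ext
      rw [SubmonoidClass.coe_pow, hxdef]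
      show (g⁻¹ * (u : G) * g) ^ (p ^ k) = 1
      have h1 := conj_pow (i := p ^ k) (a := g⁻¹) (b := (u : G))
      rw [inv_inv] at h1
      rw [h1, ← SubmonoidClass.coe_pow, hk, OneMemClass.coe_one, mul_one, inv_mul_cancel]
    obtain ⟨j, -, hj⟩ := (Nat.dvd_prime_pow Fact.out).1 (orderOf_dvd_of_pow_eq_one hpow)
    exact IsPGroup.of_card ((Nat.card_zpowers x).trans hj)
  obtain ⟨Q, hQ⟩ := hxp.exists_le_sylow
  let PH : Sylow p H := P.subtype hPH
  obtain ⟨h, hh⟩ := MulAction.exists_smul_eq H Q PH
  have hmem : (h : G) * (g⁻¹ * (u : G) * g) * (h : G)⁻¹ ∈ (P : Subgroup G) := by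
    have h1 : h * x * h⁻¹ ∈ ((h • Q : Sylow p H) : Subgroup H) := by
      rw [Sylow.coe_subgroup_smul]
      exact ⟨x, hQ (Subgroup.mem_zpowers x), rfl⟩
    rw [hh] at h1
    exact h1
  have hgh : g * (h : G)⁻¹ ∉ Subgroup.normalizer ((P : Subgroup G) : Set G) := fun hn => hg (by
    have := H.mul_mem (hH hn) h.2
    rwa [inv_mul_cancel_right] at this)
  have hb := hTI _ hgh
  have hu : (u : G) ∈ (P : Subgroup G) ⊓ (MulAut.conj (g * (h : G)⁻¹) • (P : Subgroup G)) := by
    refine ⟨u.2, Subgroup.mem_pointwise_smul_iff_inv_smul_mem.2 ?_⟩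
    rw [← map_inv, MulAut.smul_def, MulAut.conj_apply, inv_inv]
    convert hmem using 1
    group
  rw [hb, Subgroup.mem_bot] at hu
  exact Subtype.ext hu

/-- Invariants of the normaliser of a TI Sylow subgroup in a small representation. -/
theorem invariants_eq {G : Type v} [Group G] [Fintype G] (p : ℕ) [Fact p.Prime]
    {V : Type w} [AddCommGroup V] [Module ℂ V] [FiniteDimensional ℂ V]
    (σ : Representation ℂ G V) (P H : Subgroup G) [Fintype P] (hP : IsPGroup p P) (hPH : P ≤ H)
    (hfree : ∀ (u : P) (g : G), g ∉ H → g⁻¹ * (u : G) * g ∈ H → u = 1)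
    (hdim : finrank ℂ V ≤ Fintype.card P) (e : V) (he : e ≠ 0) (hefix : ∀ g, σ g e = e) :
    Representation.invariants (σ.comp H.subtype) = Representation.invariants σ := by
  classical
  refine le_antisymm (fun w hw => ?_) (fun w hw => fun h => hw (h : G))
  obtain ⟨M, hM⟩ := exists_isPModular (p := p) Fact.out
  set S : V →ₗ[ℂ] V := ∑ g : G, σ g with hS
  have hSfix : ∀ (g : G) (y : V), σ g (S y) = S y := fun g y => by
    rw [hS, LinearMap.sum_apply, map_sum]
    exact Fintype.sum_equiv (Equiv.mulLeft g) _ _ fun x => by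
      rw [Equiv.coe_mulLeft, map_mul, Module.End.mul_apply]
  have hSS : ∀ y : V, S (S y) = (Fintype.card G : ℂ) • S y := fun y => by
    conv_lhs => rw [hS]
    rw [LinearMap.sum_apply, Finset.sum_congr rfl (fun g _ => hSfix g y), Finset.sum_const,
      Nat.cast_smul_eq_nsmul, Finset.card_univ]
  by_cases h0 : (Fintype.card G : ℂ) • w - S w = 0
  · rw [sub_eq_zero] at h0
    intro g
    have hc : (Fintype.card G : ℂ) ≠ 0 := Nat.cast_ne_zero.2 Fintype.card_ne_zero
    apply smul_right_injective V hc
    show (Fintype.card G : ℂ) • σ g w = (Fintype.card G : ℂ) • w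
    rw [← map_smul, h0, hSfix]
  · exfalso
    have hker := finrank_ker_ge_of_free hM σ P H hP hPH hfree h0
      (fun h hh => by
        rw [map_sub, map_smul, hSfix, show σ h w = w from hw ⟨h, hh⟩])
      (by
        have : S ((Fintype.card G : ℂ) • w - S w) = 0 := by
          rw [map_sub, map_smul, hSS, sub_self]
        rwa [hS, LinearMap.sum_apply] at this)
    have hlt : finrank ℂ (LinearMap.ker S) < finrank ℂ V := by
      refine Submodule.finrank_lt fun htop => he ?_
      have h1 : S e = 0 := by
        rw [← LinearMap.mem_ker, htop]; exact Submodule.mem_top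
      rw [hS, LinearMap.sum_apply, Finset.sum_congr rfl (fun g _ => hefix g), Finset.sum_const,
        ← Nat.cast_smul_eq_nsmul ℂ, smul_eq_zero] at h1
      exact h1.resolve_left (Nat.cast_ne_zero.2 (Finset.card_ne_zero.2 ⟨1, Finset.mem_univ _⟩))
    exact absurd (hker.trans_lt hlt) (not_lt.2 hdim)

/-- Let P be a Sylow p-subgroup of the finite group G that meets each conjugate g P g⁻¹ with g outside N_G(P) trivially, χ a character of G with χ(1)² ≤ |P|, and H a subgroup of G containing N_G(P). Then the inner product of χ with itself over G equals the inner product over H of the restriction of χ to H. -/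
theorem result {G : Type*} [Group G] [Fintype G] [DecidableEq G] (p : ℕ) [Fact p.Prime] (P : Sylow p G) (hTI : ∀ g : G, g ∉ Subgroup.normalizer ((P : Subgroup G) : Set G) → (P : Subgroup G) ⊓ (MulAut.conj g • (P : Subgroup G)) = ⊥) (χ : G → ℂ) (hχ : Cfsg.IsCharacter G χ) (hdeg : Cfsg.charDegree χ ^ 2 ≤ Nat.card ↥(P : Subgroup G)) (H : Subgroup G) [Fintype ↥H] (hH : Subgroup.normalizer ((P : Subgroup G) : Set G) ≤ H) : Cfsg.classInner χ χ = Cfsg.classInner (fun h : ↥H => χ h) (fun h : ↥H => χ h) := by
  classical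
  obtain ⟨n, ρ, rfl⟩ := hχ
  have hPH : (P : Subgroup G) ≤ H := le_trans Subgroup.le_normalizer hH
  letI := Fintype.ofFinite ↥(P : Subgroup G)
  set σ := Representation.linHom ρ ρ with hσ
  have hchar : ∀ g : G, σ.character g = ρ.character g * (starRingEnd ℂ) (ρ.character g) := fun g => by
    rw [hσ, Representation.char_linHom, Lib.Chars.character_inv, mul_comm]
  haveI : Invertible (Nat.card G : ℂ) := invertibleOfNonzero (by exact_mod_cast Nat.card_pos.ne')
  haveI : Invertible (Nat.card H : ℂ) := invertibleOfNonzero (by exact_mod_cast Nat.card_pos.ne')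
  have hG : Cfsg.classInner ρ.character ρ.character =
      (Module.finrank ℂ (Representation.invariants σ) : ℂ) := by
    rw [← Representation.card_inv_mul_sum_char_eq_finrank, Lib.Chars.classInner_def]
    simp only [hchar]
  have hHc : Cfsg.classInner (fun h : H => ρ.character h) (fun h : H => ρ.character h) =
      (Module.finrank ℂ (Representation.invariants (σ.comp H.subtype)) : ℂ) := by
    rw [← Representation.card_inv_mul_sum_char_eq_finrank, Lib.Chars.classInner_def]
    congr 1
    exact Finset.sum_congr rfl fun h _ => (hchar (h : G)).symm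
  rw [hG, hHc]
  rcases Nat.eq_zero_or_pos n with rfl | hn
  · have hsub : Subsingleton ((Fin 0 → ℂ) →ₗ[ℂ] (Fin 0 → ℂ)) :=
      ⟨fun a b => LinearMap.ext fun x => Subsingleton.elim _ _⟩
    rw [Module.finrank_zero_of_subsingleton, Module.finrank_zero_of_subsingleton]
  · have hd : Cfsg.charDegree ρ.character = n := by
      rw [Cfsg.charDegree, Representation.char_one, Module.finrank_fin_fun]
      simp
    rw [invariants_eq p σ (P : Subgroup G) H P.isPGroup' hPH (free_of_TI p P hTI H hH) ?_
      LinearMap.id ?_ ?_]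
    · rw [Module.finrank_linearMap, Module.finrank_fin_fun, ← Nat.card_eq_fintype_card, ← sq]
      rw [hd] at hdeg
      exact hdeg
    · intro h
      have := LinearMap.congr_fun h (fun _ => 1)
      exact one_ne_zero (congrFun this ⟨0, hn⟩)
    · intro g
      rw [hσ, Representation.linHom_apply, LinearMap.id_comp]
      refine LinearMap.ext fun x => ?_
      show ρ g (ρ g⁻¹ x) = x
      rw [← Module.End.mul_apply, ← map_mul, mul_inv_cancel, map_one, Module.End.one_apply]

end Cfsg.Agent.S4750
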