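import Cfsg.Statements.S4751
import Cfsg.Agent.Chars.RootValuesS4
-- import your own Cfsg.Agent.* helpers here

set_option autoImplicit false
open Cfsg

namespace Cfsg.Agent.S4751

/-- Let χ be a faithful, non-linear irreducible character of the finite group G (χ g = χ 1 only for g = 1, χ 1 ≠ 1) whose value at every element of order divisible by p is a root of unity, and suppose P = O_p(G) ≠ 1. Then either P is an elementary abelian Sylow p-subgroup of G, C_G(P) is the internal direct product of P and Z(G), G acts transitively by conjugation on the non-principal linear characters of P, and χ 1 = |P| − 1; or p = 2 and G is the internal direct product of a subgroup isomorphic to the symmetric group S₄ and the centre Z(G), which has odd order. -/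
theorem result {G : Type*} [Group G] [Finite G] (p : ℕ) [Fact p.Prime] (χ : Cfsg.IrrCharacter G) (hfaith : ∀ g : G, (χ : G → ℂ) g = (χ : G → ℂ) 1 → g = 1) (hnl : (χ : G → ℂ) 1 ≠ 1) (hroot : ∀ g : G, p ∣ orderOf g → ∃ n : ℕ, 0 < n ∧ ((χ : G → ℂ) g) ^ n = 1) (hP : Cfsg.pCore p G ≠ ⊥) : ((Nat.card ↥(Cfsg.pCore p G)).factorization p = (Nat.card G).factorization p ∧ Cfsg.IsElementaryAbelian p (Cfsg.pCore p G) ∧ Subgroup.centralizer ((Cfsg.pCore p G : Subgroup G) : Set G) = Cfsg.pCore p G ⊔ Subgroup.center G ∧ Cfsg.pCore p G ⊓ Subgroup.center G = ⊥ ∧ (∀ lam mu : ↥(Cfsg.pCore p G) → ℂ, Cfsg.IsCharacter ↥(Cfsg.pCore p G) lam → lam 1 = 1 → lam ≠ (fun _ => (1 : ℂ)) → Cfsg.IsCharacter ↥(Cfsg.pCore p G) mu → mu 1 = 1 → mu ≠ (fun _ => (1 : ℂ)) → ∃ g : G, ∀ (x : G) (hx : x ∈ Cfsg.pCore p G) (hgx : g * x * g⁻¹ ∈ Cfsg.pCore p G), mu ⟨x, hx⟩ = lam ⟨g * x * g⁻¹, hgx⟩) ∧ (χ : G → ℂ) 1 = (Nat.card ↥(Cfsg.pCore p G) : ℂ) - 1) ∨ (p = 2 ∧ Odd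 (Nat.card ↥(Subgroup.center G)) ∧ ∃ H : Subgroup G, Nonempty (↥H ≃* Equiv.Perm (Fin 4)) ∧ H ⊓ Subgroup.center G = ⊥ ∧ H ⊔ Subgroup.center G = ⊤) := by
  classical
  letI : Fintype G := Fintype.ofFinite G
  letI : Fintype (Cfsg.pCore p G) := Fintype.ofFinite _
  have h : Cfsg.Lib.Chars.UnitOnSingular p (Cfsg.pCore p G) (χ : G → ℂ) :=
    ⟨χ.2, hfaith, hnl, Cfsg.Lib.Components.isPGroup_pCore p, hP, fun g hg => by
      obtain ⟨n, hn, hn1⟩ := hroot g hg
      exact Complex.norm_eq_one_of_pow_eq_one hn1 hn.ne'⟩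
  have hcore : ∀ N : Subgroup G, N.Normal → IsPGroup p N → N ≤ Cfsg.pCore p G := fun N hN hNp => by
    haveI := hN
    exact Cfsg.Lib.Components.le_pCore hNp
  by_cases hsyl : (Nat.card (Cfsg.pCore p G)).factorization p = (Nat.card G).factorization p
  · refine Or.inl ⟨hsyl, ?_, (h.centralizer_eq hcore).1, (h.centralizer_eq hcore).2, ?_, ?_⟩
    · exact ⟨⟨⟨h.elementary.2.1⟩⟩, fun a ha => congrArg Subtype.val (h.elementary.2.2 ⟨a, ha⟩)⟩
    · intro lam mu hlam hlam1 hlam0 hmu hmu1 hmu0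
      obtain ⟨g, hg⟩ := h.transitive (Cfsg.Lib.Chars.isIrrCharacter_of_deg_one hlam hlam1)
        (Cfsg.Lib.Chars.isIrrCharacter_of_deg_one hmu hmu1) hlam0 hmu0
      refine ⟨g, fun x hx hgx => ?_⟩
      rw [hg]
      rfl
    · rw [Cfsg.Lib.Chars.IsCharacter.apply_one_eq_deg (Cfsg.Lib.Chars.isCharacter_of_irr χ.2), ← h.degree.1]
      push_cast
      ring
  · exact Or.inr (h.s4_case hcore hsyl)

end Cfsg.Agent.S4751
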