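import Cfsg.Statements.S4754
import Cfsg.Agent.Chars.Sums
-- import your own Cfsg.Agent.* helpers here

set_option autoImplicit false
open Cfsg

namespace Cfsg.Agent.S4754

set_option linter.unusedSectionVars false

open Cfsg.Lib.Chars

/-- For elements x, y of a finite group G, the conjugacy class of x y equals the set of all products of a conjugate of x with a conjugate of y if and only if χ(1) χ(a x a⁻¹ b y b⁻¹) = χ(x) χ(y) for all a, b ∈ G and every irreducible character χ. -/
theorem result {G : Type*} [Group G] [Finite G] (x y : G) : (∀ z : G, IsConj (x * y) z ↔ ∃ a b : G, z = a * x * a⁻¹ * (b * y * b⁻¹)) ↔ ∀ (a b : G) (χ : Cfsg.IrrCharacter G), (χ : G → ℂ) 1 * (χ : G → ℂ) (a * x * a⁻¹ * (b * y * b⁻¹)) = (χ : G → ℂ) x * (χ : G → ℂ) y := by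
  classical
  haveI := Fintype.ofFinite G
  constructor
  · intro h a b χ
    have hval : ∀ a b : G, (χ : G → ℂ) (a * x * a⁻¹ * (b * y * b⁻¹)) = (χ : G → ℂ) (x * y) := fun a b =>
      (classFunction_eq_of_isConj (isClassFunction_irr χ) ((h _).2 ⟨a, b, rfl⟩)).symm
    have hsum := sum_class_products χ.2 x y 1
    have hterm : ∀ u ∈ Finset.univ.filter (IsConj x), ∀ v ∈ Finset.univ.filter (IsConj y),
        (χ : G → ℂ) (u * v * 1) = (χ : G → ℂ) (x * y) := by
      intro u hu v hv
      obtain ⟨a', rfl⟩ := isConj_iff.1 (Finset.mem_filter.1 hu).2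
      obtain ⟨b', rfl⟩ := isConj_iff.1 (Finset.mem_filter.1 hv).2
      rw [mul_one]; exact hval a' b'
    rw [Finset.sum_congr rfl fun u hu => Finset.sum_congr rfl fun v hv => hterm u hu v hv,
      Finset.sum_const, Finset.sum_const, smul_smul, nsmul_eq_mul] at hsum
    have hx : (Finset.univ.filter (IsConj x)).card = Nat.card {u : G // IsConj x u} := by
      rw [Nat.card_eq_fintype_card, Fintype.card_subtype]
    have hy : (Finset.univ.filter (IsConj y)).card = Nat.card {u : G // IsConj y u} := by
      rw [Nat.card_eq_fintype_card, Fintype.card_subtype]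
    rw [hx, hy, Nat.cast_mul] at hsum
    have h1 : (χ : G → ℂ) 1 ≠ 0 := IsIrrCharacter.apply_one_ne_zero χ.2
    have hcx : ((Nat.card {u : G // IsConj x u} : ℕ) : ℂ) ≠ 0 := Nat.cast_ne_zero.2 (card_isConj_pos x).ne'
    have hcy : ((Nat.card {u : G // IsConj y u} : ℕ) : ℂ) ≠ 0 := Nat.cast_ne_zero.2 (card_isConj_pos y).ne'
    rw [hval a b]
    field_simp at hsum
    linear_combination hsum
  · intro h z
    have hconj : ∀ a b : G, IsConj (x * y) (a * x * a⁻¹ * (b * y * b⁻¹)) := fun a b =>
      (isConj_iff_forall_irr _ _).2 fun χ => by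
        have h1 := h 1 1 χ
        simp only [one_mul, inv_one, mul_one] at h1
        exact mul_left_cancel₀ (IsIrrCharacter.apply_one_ne_zero χ.2) (h1.trans (h a b χ).symm)
    constructor
    · intro hz
      obtain ⟨c, rfl⟩ := isConj_iff.1 hz
      exact ⟨c, c, by group⟩
    · rintro ⟨a, b, rfl⟩
      exact hconj a b

end Cfsg.Agent.S4754
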