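import Cfsg.Statements.S4757
import Cfsg.Agent.Chars.Count
import Cfsg.Agent.Chars.Construct
import Cfsg.Agent.Blocks.OneDegree
import Cfsg.Agent.Components.Cores
-- import your own Cfsg.Agent.* helpers here

set_option autoImplicit false
open Cfsg

namespace Cfsg.Agent.S4757

set_option linter.unusedSectionVars false

open Cfsg.Lib.Chars

/-- Let u ≠ 1 be an element of the finite group G and c a complex number such that every non-principal irreducible character χ satisfies χ(1) − χ(u) = c or χ(u) = 0. Then the following are equivalent: (a) u has order 2, G is generated by u together with O(G), the largest normal subgroup of G of odd order, and the centralizer of u is {1, u}; (b) G is not perfect; (c) c = 2. -/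
theorem result {G : Type*} [Group G] [Finite G] (u : G) (hu : u ≠ 1) (c : ℂ) (hyp : ∀ χ : Cfsg.IrrCharacter G, (χ : G → ℂ) ≠ (fun _ => (1 : ℂ)) → ((χ : G → ℂ) 1 - (χ : G → ℂ) u = c ∨ (χ : G → ℂ) u = 0)) : ((orderOf u = 2 ∧ Subgroup.zpowers u ⊔ Cfsg.oddCore G = ⊤ ∧ Subgroup.centralizer ({u} : Set G) = Subgroup.zpowers u) ↔ commutator G ≠ ⊤) ∧ (commutator G ≠ ⊤ ↔ c = 2) := by
  classical
  letI := Fintype.ofFinite G
  have hnc : ¬ IsConj u 1 := fun h => hu (isConj_one_left.1 h)
  have hcol : ∑ χ : Cfsg.IrrCharacter G, (χ : G → ℂ) u * (deg (χ : G → ℂ) : ℂ) = 0 := by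
    have h := second_orthogonality u (1 : G)
    rw [if_neg hnc] at h
    rw [← h]
    exact Finset.sum_congr rfl fun χ _ => by rw [irr_apply_one_eq_deg, Complex.conj_natCast]
  have hne1 : ∀ f : G →* ℂˣ, f ≠ 1 → ((fun g => (f g : ℂ)) : G → ℂ) ≠ fun _ => (1 : ℂ) := by
    intro f hf h
    exact hf (MonoidHom.ext fun g => Units.ext (congrFun h g))
  -- the possible values of a linear character
  have hlin : ∀ f : G →* ℂˣ, f ≠ 1 → (f u : ℂ) = 1 - c := by
    intro f hf
    rcases hyp ⟨_, isIrrCharacter_linear f⟩ (hne1 f hf) with h | h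
    · simp only [map_one, Units.val_one] at h
      rw [← h]; ring
    · exact absurd h (f u).ne_zero
  have hc2 : commutator G ≠ ⊤ → c = 2 := by
    intro hG
    obtain ⟨x, hx⟩ : ∃ x, x ∉ commutator G := by
      by_contra hcon
      push Not at hcon
      exact hG (eq_top_iff.2 fun x _ => hcon x)
    obtain ⟨f, hfx⟩ := Cfsg.Lib.Blocks.OneDegree.exists_linear_ne_one hx
    have hf : f ≠ 1 := fun h => hfx (by rw [h]; rfl)
    have hfu := hlin f hf
    have hc0 : c ≠ 0 := by
      intro hc0
      have hre : ∀ χ : Cfsg.IrrCharacter G, 0 ≤ ((χ : G → ℂ) u * (deg (χ : G → ℂ) : ℂ)).re := by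
        intro χ
        by_cases h1 : (χ : G → ℂ) = fun _ => (1 : ℂ)
        · simp [h1]
        rcases hyp χ h1 with h | h
        · rw [hc0, sub_eq_zero, irr_apply_one_eq_deg] at h
          rw [← h]
          simp only [Complex.mul_re, Complex.natCast_re, Complex.natCast_im, mul_zero, sub_zero]
          positivity
        · simp [h]
      have h2 := congrArg Complex.re hcol
      rw [Complex.re_sum, Complex.zero_re] at h2
      have h3 := (Finset.sum_eq_zero_iff_of_nonneg fun χ _ => hre χ).1 h2 (principal G)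
        (Finset.mem_univ _)
      simp [principal, deg] at h3
    have hff : f * f = 1 := by
      by_contra hne
      have h2 := hlin (f * f) hne
      simp only [MonoidHom.mul_apply, Units.val_mul, hfu] at h2
      rcases mul_eq_zero.1 (show (1 - c) * ((1 - c) - 1) = 0 by linear_combination h2) with h | h
      · exact (f u).ne_zero (hfu.trans h)
      · exact hc0 (by linear_combination -h)
    have hsq : (f u : ℂ) * (f u : ℂ) = 1 := by
      have := congrArg (fun φ : G →* ℂˣ => ((φ u : ℂˣ) : ℂ)) hff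
      simpa using this
    rw [hfu] at hsq
    rcases mul_eq_zero.1 (show c * (c - 2) = 0 by linear_combination hsq) with h | h
    · exact absurd h hc0
    · exact sub_eq_zero.1 h
  have hperf : c = 2 → commutator G ≠ ⊤ := by
    intro hc hG
    have hre : ∀ χ : Cfsg.IrrCharacter G, 0 ≤ ((χ : G → ℂ) u * (deg (χ : G → ℂ) : ℂ)).re := by
      intro χ
      by_cases h1 : (χ : G → ℂ) = fun _ => (1 : ℂ)
      · simp [h1]
      rcases hyp χ h1 with h | h
      · have h2 : 2 ≤ deg (χ : G → ℂ) := by
          by_contra hlt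
          have hd : deg (χ : G → ℂ) = 1 := by
            have := deg_irr_pos χ; omega
          obtain ⟨f, hf⟩ := exists_hom_of_deg_one (isCharacter_of_irr χ.2)
            (by rw [irr_apply_one_eq_deg, hd, Nat.cast_one])
          refine h1 (hf.trans (funext fun g => ?_))
          have hg : g ∈ f.ker := Abelianization.commutator_subset_ker f (hG ▸ Subgroup.mem_top g)
          rw [MonoidHom.mem_ker.1 hg, Units.val_one]
        rw [hc, irr_apply_one_eq_deg] at h
        rw [show (χ : G → ℂ) u = ((deg (χ : G → ℂ) : ℕ) : ℂ) - 2 by linear_combination -h]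
        simp only [Complex.mul_re, Complex.sub_re, Complex.natCast_re, Complex.natCast_im,
          Complex.re_ofNat, mul_zero, sub_zero]
        exact mul_nonneg (by
          have : (2 : ℝ) ≤ (deg (χ : G → ℂ) : ℝ) := by exact_mod_cast h2
          linarith) (Nat.cast_nonneg _)
      · simp [h]
    have h2 := congrArg Complex.re hcol
    rw [Complex.re_sum, Complex.zero_re] at h2
    have h3 := (Finset.sum_eq_zero_iff_of_nonneg fun χ _ => hre χ).1 h2 (principal G)
      (Finset.mem_univ _)
    simp [principal, deg] at h3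
  refine ⟨⟨?_, fun hG => ?_⟩, hc2, hperf⟩
  · rintro ⟨ho, htop, -⟩ hperf'
    have hodd : Odd (Nat.card (Cfsg.oddCore G)) :=
      Nat.coprime_two_right.1 (Cfsg.Lib.Components.coprime_card_pPrimeCore 2)
    haveI : (Cfsg.oddCore G).Normal := Cfsg.Lib.Components.pPrimeCore_normal' 2
    have hle : commutator G ≤ Cfsg.oddCore G := by
      rw [commutator_def, Subgroup.commutator_le]
      have hgen : ∀ g : G, ∃ i : ℤ, (QuotientGroup.mk g : G ⧸ Cfsg.oddCore G) = (u : G ⧸ Cfsg.oddCore G) ^ i := by
        intro g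
        obtain ⟨a, ha, b, hb, rfl⟩ := Subgroup.mem_sup_of_normal_right.1
          (htop.ge (Subgroup.mem_top g))
        obtain ⟨i, rfl⟩ := Subgroup.mem_zpowers_iff.1 ha
        exact ⟨i, by rw [QuotientGroup.mk_mul, (QuotientGroup.eq_one_iff b).2 hb, mul_one, QuotientGroup.mk_zpow]⟩
      intro a _ b _
      obtain ⟨i, hi⟩ := hgen a
      obtain ⟨j, hj⟩ := hgen b
      rw [← QuotientGroup.eq_one_iff]
      rw [commutatorElement_def, QuotientGroup.mk_mul, QuotientGroup.mk_mul, QuotientGroup.mk_mul,
        QuotientGroup.mk_inv, QuotientGroup.mk_inv, hi, hj]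
      group
    rw [hperf', top_le_iff] at hle
    rw [hle, Subgroup.card_top] at hodd
    exact (Nat.not_even_iff_odd.2 hodd) (even_iff_two_dvd.2 (ho ▸ orderOf_dvd_natCard u))
  -- the non-perfect case
  have hc := hc2 hG
  obtain ⟨x, hx⟩ : ∃ x, x ∉ commutator G := by
    by_contra hcon
    push Not at hcon
    exact hG (eq_top_iff.2 fun x _ => hcon x)
  obtain ⟨f, hfx⟩ := Cfsg.Lib.Blocks.OneDegree.exists_linear_ne_one hx
  have hf : f ≠ 1 := fun h => hfx (by rw [h]; rfl)
  have hfu : (f u : ℂ) = -1 := by rw [hlin f hf, hc]; norm_num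
  have hff : f * f = 1 := by
    by_contra hne
    have h2 := hlin (f * f) hne
    rw [MonoidHom.mul_apply, Units.val_mul, hfu, hc] at h2
    norm_num at h2
  set L : Cfsg.IrrCharacter G := ⟨_, isIrrCharacter_linear f⟩ with hL
  have hLne : L ≠ principal G := fun h => hne1 f hf (congrArg Subtype.val h)
  have hunique : ∀ χ : Cfsg.IrrCharacter G, deg (χ : G → ℂ) = 1 → χ = principal G ∨ χ = L := by
    intro χ hd
    obtain ⟨g, hg⟩ := exists_hom_of_deg_one (isCharacter_of_irr χ.2)
      (by rw [irr_apply_one_eq_deg, hd, Nat.cast_one])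
    by_cases h1 : g = 1
    · exact Or.inl (Subtype.ext (hg.trans (by subst h1; rfl)))
    · right
      have h2 : f * g = 1 := by
        by_contra hne
        have h2 := hlin (f * g) hne
        rw [MonoidHom.mul_apply, Units.val_mul, hfu, hlin g h1, hc] at h2
        norm_num at h2
      have h3 : g = f := mul_left_cancel (h2.trans hff.symm)
      exact Subtype.ext (hg.trans (by rw [h3]))
  have hval : ∀ χ : Cfsg.IrrCharacter G, deg (χ : G → ℂ) ≠ 1 → ∃ r : ℝ, 0 ≤ r ∧ (χ : G → ℂ) u = r := by
    intro χ hd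
    have h1 : (χ : G → ℂ) ≠ fun _ => (1 : ℂ) := fun h => hd (by simp [deg, h])
    rcases hyp χ h1 with h | h
    · refine ⟨(deg (χ : G → ℂ) : ℝ) - 2, ?_, ?_⟩
      · have : (2 : ℝ) ≤ (deg (χ : G → ℂ) : ℝ) := by
          have := deg_irr_pos χ
          exact_mod_cast (show 2 ≤ deg (χ : G → ℂ) by omega)
        linarith
      · rw [hc, irr_apply_one_eq_deg] at h
        push_cast
        linear_combination -h
    · exact ⟨0, le_rfl, by simp [h]⟩
  have hvan : ∀ χ : Cfsg.IrrCharacter G, χ ≠ principal G → χ ≠ L → (χ : G → ℂ) u = 0 := by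
    have h0 : ∑ χ ∈ Finset.univ \ ({principal G, L} : Finset (Cfsg.IrrCharacter G)),
        (χ : G → ℂ) u * (deg (χ : G → ℂ) : ℂ) = 0 := by
      rw [← hcol, ← Finset.sum_sdiff (Finset.subset_univ ({principal G, L} : Finset (Cfsg.IrrCharacter G))),
        Finset.sum_pair hLne.symm]
      simp [principal, deg, hL, hfu]
    intro χ h1 h2
    have hmem : χ ∈ Finset.univ \ ({principal G, L} : Finset (Cfsg.IrrCharacter G)) := by simp [h1, h2]
    have hnd : ∀ ψ ∈ Finset.univ \ ({principal G, L} : Finset (Cfsg.IrrCharacter G)),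
        deg (ψ : G → ℂ) ≠ 1 := fun ψ hψ hd => by
      simp only [Finset.mem_sdiff, Finset.mem_insert, Finset.mem_singleton] at hψ
      exact hψ.2 (hunique ψ hd)
    have h3 := congrArg Complex.re h0
    rw [Complex.re_sum, Complex.zero_re] at h3
    have h4 := (Finset.sum_eq_zero_iff_of_nonneg (s := Finset.univ \ ({principal G, L} : Finset
      (Cfsg.IrrCharacter G))) fun ψ hψ => by
        obtain ⟨r, hr, he⟩ := hval ψ (hnd ψ hψ)
        rw [he, show ((deg (ψ : G → ℂ) : ℕ) : ℂ) = (((deg (ψ : G → ℂ) : ℕ) : ℝ) : ℂ) by push_cast; rfl,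
          ← Complex.ofReal_mul, Complex.ofReal_re]
        positivity).1 h3 χ hmem
    obtain ⟨r, hr, he⟩ := hval χ (hnd χ hmem)
    rw [he] at h4 ⊢
    simp only [Complex.mul_re, Complex.ofReal_re, Complex.ofReal_im, zero_mul, sub_zero,
      Complex.natCast_re, mul_eq_zero] at h4
    rcases h4 with h | h
    · simp [h]
    · exact absurd (Nat.cast_eq_zero.1 h) (deg_irr_pos χ).ne'
  set C := Subgroup.centralizer ({u} : Set G) with hC
  have hCcard : Nat.card C = 2 := by
    have h := second_orthogonality u u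
    rw [if_pos (IsConj.refl u), ← Finset.sum_subset
      (Finset.subset_univ ({principal G, L} : Finset (Cfsg.IrrCharacter G))) (fun χ _ hχ => by
        simp only [Finset.mem_insert, Finset.mem_singleton, not_or] at hχ
        rw [hvan χ hχ.1 hχ.2, zero_mul]), Finset.sum_pair hLne.symm] at h
    simp [principal, hL, hfu] at h
    norm_num at h
    rw [hC, Nat.card_eq_fintype_card]
    exact_mod_cast h.symm
  have huC : u ∈ C := Subgroup.mem_centralizer_singleton_iff.2 rfl
  have hord : orderOf u = 2 := by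
    have h1 : orderOf u ∣ 2 := hCcard ▸ (Subgroup.orderOf_mk u huC ▸ orderOf_dvd_natCard (⟨u, huC⟩ : C))
    rcases (Nat.dvd_prime Nat.prime_two).1 h1 with h | h
    · exact absurd (orderOf_eq_one_iff.1 h) hu
    · exact h
  have hCz : C = Subgroup.zpowers u := (Subgroup.eq_of_le_of_card_ge
    (Subgroup.zpowers_le.2 huC) (by rw [Nat.card_zpowers, hord, hCcard])).symm
  refine ⟨hord, ?_, hCz⟩
  -- the Sylow subgroup has order two
  haveI : Fact (Nat.Prime 2) := ⟨Nat.prime_two⟩
  obtain ⟨P, hP⟩ := (IsPGroup.of_card (n := 1) (by rw [Nat.card_zpowers, hord, pow_one]) :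
    IsPGroup 2 (Subgroup.zpowers u)).exists_le_sylow
  have huP : u ∈ (P : Subgroup G) := hP (Subgroup.mem_zpowers u)
  haveI : Nontrivial (P : Subgroup G) := ⟨⟨⟨u, huP⟩, 1, fun h => hu (congrArg Subtype.val h)⟩⟩
  haveI := P.2.center_nontrivial
  obtain ⟨z, hz⟩ := exists_ne (1 : Subgroup.center (P : Subgroup G))
  have hzC : ((z : (P : Subgroup G)) : G) ∈ C := Subgroup.mem_centralizer_singleton_iff.2
    (congrArg Subtype.val (Subgroup.mem_center_iff.1 z.2 ⟨u, huP⟩)).symm
  have hu2 : u * u = 1 := by rw [← pow_two, ← orderOf_dvd_iff_pow_eq_one, hord]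
  have hzu : ((z : (P : Subgroup G)) : G) = u := by
    rw [hCz] at hzC
    obtain ⟨i, hi⟩ := Subgroup.mem_zpowers_iff.1 hzC
    rcases Int.even_or_odd i with ⟨j, rfl⟩ | ⟨j, rfl⟩
    · exfalso
      apply hz
      apply Subtype.ext; apply Subtype.ext
      rw [← hi, ← two_mul, zpow_mul, zpow_two, hu2, one_zpow]
      rfl
    · rw [← hi, zpow_add_one, zpow_mul, zpow_two, hu2, one_zpow, one_mul]
  have hPC : (P : Subgroup G) ≤ C := fun v hv => Subgroup.mem_centralizer_singleton_iff.2 (by
    have h1 := congrArg Subtype.val (Subgroup.mem_center_iff.1 z.2 ⟨v, hv⟩)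
    simp only [Subgroup.coe_mul] at h1
    rw [hzu] at h1
    exact h1)
  have hkidx : f.ker.index = 2 := by
    have hfu' : f u ≠ 1 := fun h => by rw [h, Units.val_one] at hfu; norm_num at hfu
    rw [Subgroup.index_eq_two_iff]
    refine ⟨u, fun g => ?_⟩
    have hsq : ∀ g : G, f g * f g = 1 := fun g => congrArg (fun φ : G →* ℂˣ => φ g) hff
    have h2 : ∀ g, f g = 1 ∨ f g = f u := fun g => by
      have h3 : (f g : ℂ) * (f g : ℂ) = 1 := by rw [← Units.val_mul, hsq, Units.val_one]
      rcases mul_self_eq_one_iff.1 h3 with h | h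
      · exact Or.inl (Units.ext h)
      · exact Or.inr (Units.ext (h.trans hfu.symm))
    simp only [MonoidHom.mem_ker, map_mul]
    rcases h2 g with h | h
    · exact Or.inr ⟨h, by rw [h, one_mul]; exact hfu'⟩
    · exact Or.inl ⟨by rw [h, hsq], by rw [h]; exact hfu'⟩
  have hkodd : (Nat.card f.ker).Coprime 2 := by
    rw [Nat.coprime_two_right, Nat.odd_iff]
    by_contra hev
    have h4 : 2 ^ 2 ∣ Nat.card G := by
      rw [← f.ker.card_mul_index, hkidx, pow_two]
      exact Nat.mul_dvd_mul_right (Nat.dvd_of_mod_eq_zero (by omega)) 2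
    have h5 := P.pow_dvd_card_of_pow_dvd_card h4
    have h6 := Nat.le_of_dvd (by rw [hCcard]; norm_num) (h5.trans (Subgroup.card_dvd_of_le hPC))
    rw [hCcard] at h6
    norm_num at h6
  have hle : f.ker ≤ Cfsg.oddCore G := Cfsg.Lib.Components.le_pPrimeCore hkodd
  rw [eq_top_iff]
  intro g _
  have huk : u ∉ f.ker := fun h => by
    rw [MonoidHom.mem_ker.1 h, Units.val_one] at hfu; norm_num at hfu
  by_cases hg : g ∈ f.ker
  · exact Subgroup.mem_sup_right (hle hg)
  · have h1 : g * u ∈ f.ker := by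
      rw [Subgroup.mul_mem_iff_of_index_two hkidx]
      exact ⟨fun h => absurd h hg, fun h => absurd h huk⟩
    rw [show g = (g * u) * u⁻¹ by group]
    exact mul_mem (Subgroup.mem_sup_right (hle h1))
      (Subgroup.mem_sup_left (inv_mem (Subgroup.mem_zpowers u)))

end Cfsg.Agent.S4757
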