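import Cfsg.Statements.S4763
import Cfsg.Agent.Blocks.CoprimeDegreeCount
import Cfsg.Agent.Chars.Count
-- import your own Cfsg.Agent.* helpers here

set_option autoImplicit false
open Cfsg

namespace Cfsg.Agent.S4763

set_option linter.unusedSectionVars false

open Cfsg.Lib.Chars
open scoped ComplexConjugate commutatorElement Pointwise

/-- Let p be a prime and G a finite group that is not nilpotent and has a normal p-complement (a normal subgroup of order prime to p and index a power of p). If G has exactly one irreducible complex character of degree divisible by p, then G has exactly one conjugacy class whose size is divisible by p. -/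
theorem result {G : Type*} [Group G] [Finite G] (p : ℕ) [Fact p.Prime] (hnil : ¬ Group.IsNilpotent G) (N : Subgroup G) [N.Normal] (hN : (Nat.card N).Coprime p) (hidx : ∃ k : ℕ, N.index = p ^ k) (hone : Nat.card {χ : Cfsg.IrrCharacter G // p ∣ Cfsg.charDegree (χ : G → ℂ)} = 1) : Nat.card {C : ConjClasses G // p ∣ Nat.card C.carrier} = 1 := by
  classical
  letI := Fintype.ofFinite G
  letI := Fintype.ofFinite N
  have hp : p.Prime := Fact.out
  obtain ⟨k, hk⟩ := hidx
  obtain ⟨hsub, ⟨⟨χ₁, hχ₁⟩⟩⟩ := Nat.card_eq_one_iff_unique.1 hone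
  have huniq : ∀ ψ : Cfsg.IrrCharacter G, p ∣ deg (ψ : G → ℂ) → ψ = χ₁ := fun ψ hψ =>
    congrArg Subtype.val (hsub.elim ⟨ψ, hψ⟩ ⟨χ₁, hχ₁⟩)
  obtain ⟨P⟩ := (inferInstance : Nonempty (Sylow p G))
  have hNp : ¬ p ∣ Nat.card N := fun h =>
    hp.one_lt.ne' (Nat.eq_one_of_dvd_coprimes hN h dvd_rfl)
  have hPcard : Nat.card (P : Subgroup G) = p ^ k := by
    rw [P.card_eq_multiplicity, ← Subgroup.card_mul_index N, hk,
      Nat.factorization_mul Nat.card_pos.ne' (pow_ne_zero k hp.ne_zero), Finsupp.add_apply,
      Nat.factorization_eq_zero_of_not_dvd hNp, hp.factorization_pow, Finsupp.single_eq_same,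
      zero_add]
  have hcop : (Nat.card N).Coprime (Nat.card (P : Subgroup G)) := by
    rw [hPcard]; exact Nat.Coprime.pow_right k hN
  have hinf : N ⊓ (P : Subgroup G) = ⊥ := Cfsg.Lib.Coprime.inf_eq_bot_of_coprime hcop
  have htop : N ⊔ (P : Subgroup G) = ⊤ := by
    refine Subgroup.eq_top_of_card_eq _ (Nat.dvd_antisymm (Subgroup.card_subgroup_dvd_card _) ?_)
    rw [← Subgroup.card_mul_index N, hk, ← hPcard]
    exact hcop.mul_dvd_of_dvd_of_dvd (Subgroup.card_dvd_of_le le_sup_left)
      (Subgroup.card_dvd_of_le le_sup_right)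
  have hk0 : k ≠ 0 := by
    intro h
    rw [h, pow_zero, Subgroup.index_eq_one] at hk
    refine hNp ((hχ₁.trans (IsIrrCharacter.deg_dvd χ₁.2)).trans (dvd_of_eq ?_))
    rw [hk]; exact (Subgroup.card_top).symm
  have hcopiff : ∀ χ : Cfsg.IrrCharacter G,
      (Cfsg.charDegree (χ : G → ℂ)).Coprime (Nat.card (P : Subgroup G)) ↔
        ¬ p ∣ deg (χ : G → ℂ) := by
    intro χ
    rw [hPcard, show Cfsg.charDegree (χ : G → ℂ) = deg (χ : G → ℂ) from rfl,
      Nat.coprime_pow_right_iff (Nat.pos_of_ne_zero hk0), Nat.coprime_comm, hp.coprime_iff_not_dvd]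
  -- the Sylow subgroup is abelian
  have hNbot : N ≠ ⊥ := by
    rintro rfl
    refine hnil ((IsPGroup.iff_card.2 ⟨k, ?_⟩ : IsPGroup p G).isNilpotent)
    rw [← Subgroup.card_mul_index (⊥ : Subgroup G), hk, Subgroup.card_bot, one_mul]
  have hdec : ∀ g : G, ∃ n ∈ N, ∃ u ∈ (P : Subgroup G), n * u = g := fun g =>
    Subgroup.mem_sup_of_normal_left.1 (show g ∈ N ⊔ (P : Subgroup G) by rw [htop]; exact Subgroup.mem_top g)
  have hab : ∀ a ∈ (P : Subgroup G), ∀ b ∈ (P : Subgroup G), a * b = b * a := by
    have hc : ⁅(⊤ : Subgroup G), (⊤ : Subgroup G)⁆ ≤ N := by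
      by_contra hcN
      obtain ⟨m, hm, hmN⟩ := SetLike.not_le_iff_exists.1 hcN
      -- a character with kernel containing `N`, of degree divisible by `p`
      have h1 : ¬ IsConj (QuotientGroup.mk' N m) 1 := fun h =>
        hmN ((QuotientGroup.eq_one_iff m).1 (isConj_one_left.1 h))
      rw [isConj_iff_forall_irr] at h1
      push Not at h1
      obtain ⟨β', hβ'⟩ := h1
      let β : Cfsg.IrrCharacter G := ⟨fun x => (β' : G ⧸ N → ℂ) (QuotientGroup.mk' N x),
        IsIrrCharacter.comp_surjective β'.2 _ (QuotientGroup.mk'_surjective N)⟩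
      have hβN : ∀ n : N, (β : G → ℂ) n = (β : G → ℂ) 1 := fun n => by
        show (β' : G ⧸ N → ℂ) (QuotientGroup.mk' N n) = (β' : G ⧸ N → ℂ) (QuotientGroup.mk' N 1)
        rw [map_one, show QuotientGroup.mk' N n = 1 from (QuotientGroup.eq_one_iff _).2 n.2]
      have hβd : p ∣ deg (β : G → ℂ) := by
        obtain ⟨j, -, hj⟩ := (Nat.dvd_prime_pow hp).1
          (hk ▸ deg_dvd_index_of_le_ker β.2 N fun a ha => hβN ⟨a, ha⟩)
        rcases Nat.eq_zero_or_pos j with h | h
        · exfalso
          refine hβ' ?_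
          have h1 : (β : G → ℂ) 1 = 1 := by
            rw [irr_apply_one_eq_deg, hj, h, pow_zero, Nat.cast_one]
          obtain ⟨f, hf⟩ := exists_hom_of_deg_one (isCharacter_of_irr β.2) h1
          have : (β : G → ℂ) m = (β : G → ℂ) 1 := by
            rw [hf]
            show ((f m : ℂˣ) : ℂ) = ((f 1 : ℂˣ) : ℂ)
            rw [show f m = 1 from Abelianization.commutator_subset_ker f hm, map_one]
          rw [show (β : G → ℂ) m = (β' : G ⧸ N → ℂ) (QuotientGroup.mk' N m) from rfl,
            show (β : G → ℂ) 1 = (β' : G ⧸ N → ℂ) (QuotientGroup.mk' N 1) from rfl, map_one] at this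
          exact this
        · rw [hj]; exact dvd_pow_self p h.ne'
      -- a nonprincipal invariant character of `N`
      obtain ⟨n₀, hn₀, hn₀1⟩ : ∃ n₀ ∈ N, n₀ ≠ (1 : G) := by
        by_contra h
        push Not at h
        exact hNbot ((Subgroup.eq_bot_iff_forall _).2 h)
      have h2 : ¬ IsConj n₀ (1 : G) := fun h => hn₀1 (isConj_one_left.1 h)
      rw [isConj_iff_forall_irr] at h2
      push Not at h2
      obtain ⟨χ, hχ⟩ := h2
      have hχd : ¬ p ∣ deg (χ : G → ℂ) := fun h => hχ (by
        rw [huniq χ h, ← huniq β hβd]; exact hβN ⟨n₀, hn₀⟩)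
      obtain ⟨θ, hθ, hcon⟩ := exists_constituent N (isCharacter_of_irr χ.2)
        (IsIrrCharacter.apply_one_ne_zero χ.2)
      obtain ⟨e, he⟩ := Cfsg.Lib.Blocks.deg_eq_mult_orbit N χ.2 hθ hcon
      have horb : (conjOrbit N θ).card = 1 := by
        have h3 := card_conjOrbit N θ
        have hle : N ≤ inertia N θ := le_inertia (isClassFunction_isChar (isCharacter_of_irr hθ))
        have h4 : (conjOrbit N θ).card = (inertia N θ).index := by
          rw [← Subgroup.card_mul_index (inertia N θ), mul_comm (Nat.card _)] at h3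
          exact mul_right_cancel₀ Nat.card_pos.ne' h3
        obtain ⟨j, -, hj⟩ := (Nat.dvd_prime_pow hp).1
          (hk ▸ (h4 ▸ Subgroup.index_dvd_of_le hle : (conjOrbit N θ).card ∣ N.index))
        rcases Nat.eq_zero_or_pos j with h | h
        · rw [hj, h, pow_zero]
        · refine absurd ?_ hχd
          rw [he]
          exact ((hj ▸ dvd_pow_self p h.ne' : p ∣ (conjOrbit N θ).card).trans (Dvd.intro _ rfl :
            _ ∣ (conjOrbit N θ).card * deg θ)).trans (dvd_mul_left _ _)
      obtain ⟨ψ, hψ⟩ := Finset.card_eq_one.1 horb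
      have hinv : ∀ g : G, conjN N g θ = θ := fun g => by
        have h5 : ∀ x : G, conjN N x θ = ψ := fun x => by
          have : conjN N x θ ∈ conjOrbit N θ := (mem_conjOrbit N).2 ⟨x, rfl⟩
          rwa [hψ, Finset.mem_singleton] at this
        have h6 := h5 1
        rw [conjN_one] at h6
        rw [h5 g, h6]
      obtain ⟨c, -, hc'⟩ := restrict_eq_mult_of_invariant N χ.2 hθ hinv hcon
      have hdetN : Cfsg.detOrder θ ∣ Nat.card N := by
        obtain ⟨f, hf⟩ := detChar_is_hom (isCharacter_of_irr hθ)
        rw [Cfsg.detOrder, hf]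
        refine orderOf_dvd_of_pow_eq_one (funext fun g => ?_)
        rw [Pi.pow_apply, ← Units.val_pow_eq_pow_val, ← map_pow, pow_card_eq_one', map_one]
        rfl
      obtain ⟨η, ⟨hη, hres, -⟩, -⟩ := exists_canonical_extension N hθ hinv
        (IsCharacter.apply_one_eq_deg (isCharacter_of_irr hθ)) (by
          rw [hk]
          exact Nat.Coprime.pow_left k (Nat.Coprime.mul_right (hN.symm.coprime_dvd_right hdetN)
            (hN.symm.coprime_dvd_right (IsIrrCharacter.deg_dvd hθ))))
      have hrfun : (fun n : N => η n) = θ := funext hres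
      have hone' : Cfsg.IsIrrCharacter N (fun _ => 1) := (principal N).2
      have hmem : (β : G → ℂ) ∈ {b : G → ℂ | Cfsg.IsIrrCharacter G b ∧
          Cfsg.classInner (Cfsg.indFun N (fun _ : N => (1 : ℂ))) b ≠ 0} := by
        refine ⟨β.2, ?_⟩
        rw [frobenius_reciprocity N _ (isClassFunction_irr β), classInner_def,
          Finset.sum_congr rfl (g := fun _ : N => conj ((deg (β : G → ℂ) : ℂ))) fun n _ => by
            show (1 : ℂ) * conj ((β : G → ℂ) n) = _
            rw [hβN, one_mul, irr_apply_one_eq_deg], Finset.sum_const, Finset.card_univ, nsmul_eq_mul,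
          ← Nat.card_eq_fintype_card, ← mul_assoc,
          inv_mul_cancel₀ (Nat.cast_ne_zero.2 Nat.card_pos.ne'), one_mul, Complex.conj_natCast]
        exact Nat.cast_ne_zero.2 (deg_irr_pos β).ne'
      have himg := (gallagher (G := G) (N := N) hone' (fun g => funext fun n => rfl) hη (by
        convert hθ using 1
        funext n
        show (1 : ℂ) * η n = θ n
        rw [one_mul, hres])).mapsTo hmem
      let π : Cfsg.IrrCharacter G := ⟨_, himg.1⟩
      have hπd : p ∣ deg (π : G → ℂ) := by
        have : deg (π : G → ℂ) = deg (β : G → ℂ) * deg η := by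
          apply Nat.cast_injective (R := ℂ)
          rw [Nat.cast_mul, ← irr_apply_one_eq_deg π, ← irr_apply_one_eq_deg β,
            ← IsCharacter.apply_one_eq_deg (isCharacter_of_irr hη)]
          rfl
        rw [this]
        exact hβd.trans (dvd_mul_right _ _)
      have hθ1 : ∀ n : N, θ n = 1 := by
        intro n
        have hπ := congrArg (fun q : Cfsg.IrrCharacter G => (q : G → ℂ)) ((huniq π hπd).trans (huniq β hβd).symm)
        have e1 : (β : G → ℂ) ((1 : N) : G) * η ((1 : N) : G) = (β : G → ℂ) ((1 : N) : G) :=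
          congrFun hπ ((1 : N) : G)
        have e2 : (β : G → ℂ) (n : G) * η (n : G) = (β : G → ℂ) (n : G) := congrFun hπ (n : G)
        rw [hβN, hres] at e2
        exact mul_left_cancel₀ (IsIrrCharacter.apply_one_ne_zero β.2) (e2.trans (mul_one _).symm)
      refine hχ ?_
      have e1 := congrFun hc' ⟨n₀, hn₀⟩
      have e2 := congrFun hc' 1
      simp only [Pi.smul_apply, hθ1, OneMemClass.coe_one] at e1 e2
      exact e1.trans e2.symm
    intro a ha b hb
    have h := hc (Subgroup.commutator_mem_commutator (Subgroup.mem_top a) (Subgroup.mem_top b))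
    have h2 : ⁅a, b⁆ ∈ N ⊓ (P : Subgroup G) := ⟨h, Subgroup.mul_mem _ (Subgroup.mul_mem _
      (Subgroup.mul_mem _ ha hb) (Subgroup.inv_mem _ ha)) (Subgroup.inv_mem _ hb)⟩
    rw [hinf, Subgroup.mem_bot] at h2
    exact commutatorElement_eq_one_iff_mul_comm.1 h2
  -- counting characters
  set C := N ⊓ Subgroup.centralizer ((P : Subgroup G) : Set G) with hC
  letI : CommGroup (P : Subgroup G) :=
    { (inferInstance : Group (P : Subgroup G)) with mul_comm := fun a b => Subtype.ext (hab a a.2 b b.2) }
  haveI : NeZero (Monoid.exponent (P : Subgroup G)) := ⟨Monoid.exponent_ne_zero_of_finite⟩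
  have hchar : Nat.card {χ : Cfsg.IrrCharacter G // ¬ p ∣ deg (χ : G → ℂ)} =
      Nat.card (ConjClasses C) * Nat.card (P : Subgroup G) := by
    rw [← Nat.card_congr (Equiv.subtypeEquivRight hcopiff),
      Cfsg.Lib.CoprimeDegreeCount.card_coprime_degree N (P : Subgroup G) htop hcop,
      Cfsg.Lib.CoprimeDegreeCount.card_inv N htop hcop
        (haveI := P.isPGroup'.isNilpotent; inferInstance),
      CommGroup.card_monoidHom_of_hasEnoughRootsOfUnity]
  -- counting classes
  have hcl : Nat.card (ConjClasses C × (P : Subgroup G)) =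
      Nat.card {K : ConjClasses G // ¬ p ∣ Nat.card K.carrier} := by
    have hcls : ∀ g : G, Nat.card (ConjClasses.mk g).carrier = (Subgroup.centralizer ({g} : Set G)).index := by
      intro g
      rw [← card_isConj g]
      exact Nat.card_congr (Equiv.subtypeEquivRight fun x => by
        rw [ConjClasses.mem_carrier_iff_mk_eq, ConjClasses.mk_eq_mk_iff_isConj, isConj_comm])
    have hcent : ∀ (c : C) (u : (P : Subgroup G)),
        (P : Subgroup G) ≤ Subgroup.centralizer ({((c : G) * u)} : Set G) := by
      intro c u x hx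
      rw [Subgroup.mem_centralizer_singleton_iff]
      have h1 : x * (c : G) = (c : G) * x := Subgroup.mem_centralizer_iff.1 c.2.2 x hx
      calc x * ((c : G) * u) = (x * c) * u := (mul_assoc _ _ _).symm
        _ = (c : G) * (x * u) := by rw [h1, mul_assoc]
        _ = (c : G) * (u * x) := by rw [hab x hx u u.2]
        _ = _ := (mul_assoc _ _ _).symm
    refine Nat.card_eq_of_bijective (fun q : ConjClasses C × (P : Subgroup G) =>
      (⟨Quotient.liftOn q.1 (fun c : C => ConjClasses.mk ((c : G) * (q.2 : G))) ?_, ?_⟩ :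
        {K : ConjClasses G // ¬ p ∣ Nat.card K.carrier})) ⟨?_, ?_⟩
    · intro c c' h
      obtain ⟨d, rfl⟩ := isConj_iff.1 h
      refine ConjClasses.mk_eq_mk_iff_isConj.2 (isConj_iff.2 ⟨(d : G), ?_⟩)
      have h1 : (q.2 : G) * (d : G)⁻¹ = (d : G)⁻¹ * q.2 :=
        Subgroup.mem_centralizer_iff.1 (Subgroup.inv_mem _ d.2.2) _ q.2.2
      simp only [Subgroup.coe_mul, InvMemClass.coe_inv]
      rw [mul_assoc (d : G), mul_assoc (c : G), h1, ← mul_assoc, ← mul_assoc]
    · obtain ⟨L, u⟩ := q
      induction L using Quotient.inductionOn with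
      | _ c =>
        show ¬ p ∣ Nat.card (ConjClasses.mk ((c : G) * u)).carrier
        rw [hcls]
        exact fun h => P.not_dvd_index (h.trans (Subgroup.index_dvd_of_le (hcent c u)))
    · rintro ⟨L, u⟩ ⟨L', u'⟩ he
      induction L using Quotient.inductionOn with
      | _ c =>
        induction L' using Quotient.inductionOn with
        | _ c' =>
          have he' : ConjClasses.mk ((c : G) * u) = ConjClasses.mk ((c' : G) * u') :=
            congrArg Subtype.val he
          obtain ⟨g, hg⟩ := isConj_iff.1 (ConjClasses.mk_eq_mk_iff_isConj.1 he')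
          have huu : u = u' := by
            obtain ⟨n, hn, v, hv, rfl⟩ := hdec g
            have hmk := congrArg (QuotientGroup.mk' N) hg
            simp only [map_mul, map_inv] at hmk
            have hn1 : ∀ x ∈ N, QuotientGroup.mk' N x = 1 := fun x hx => (QuotientGroup.eq_one_iff x).2 hx
            rw [hn1 n hn, hn1 _ c.2.1, hn1 _ c'.2.1, one_mul, one_mul, one_mul, ← map_inv,
              ← map_mul, ← map_mul, hab v hv u u.2, mul_inv_cancel_right] at hmk
            have h3 : (u : G)⁻¹ * u' ∈ N ⊓ (P : Subgroup G) :=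
              ⟨QuotientGroup.eq.1 hmk, Subgroup.mul_mem _ (Subgroup.inv_mem _ u.2) u'.2⟩
            rw [hinf, Subgroup.mem_bot, inv_mul_eq_one] at h3
            exact Subtype.ext h3
          subst huu
          refine Prod.ext (ConjClasses.mk_eq_mk_iff_isConj.2 ?_) rfl
          set h := (c' : G) * (u : G) with hh
          set S := Subgroup.centralizer ({h} : Set G) with hS
          have hP1 : (P : Subgroup G) ≤ S := hcent c' u
          have hP2 : ((g • P : Sylow p G) : Subgroup G) ≤ S := by
            rw [Sylow.coe_subgroup_smul]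
            intro y hy
            obtain ⟨x, hx, rfl⟩ := (Subgroup.mem_smul_pointwise_iff_exists _ _ _).1 hy
            rw [hS, Subgroup.mem_centralizer_singleton_iff, ← hg]
            have h2 := Subgroup.mem_centralizer_singleton_iff.1 (hcent c u hx)
            show g * x * g⁻¹ * (g * ((c : G) * u) * g⁻¹) = g * ((c : G) * u) * g⁻¹ * (g * x * g⁻¹)
            calc g * x * g⁻¹ * (g * ((c : G) * u) * g⁻¹) = g * (x * ((c : G) * u)) * g⁻¹ := by group
              _ = g * ((c : G) * u * x) * g⁻¹ := by rw [h2]
              _ = _ := by group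
          obtain ⟨y, hy⟩ := MulAction.exists_smul_eq S ((g • P).subtype hP2) (P.subtype hP1)
          have hP3 : ((y : G) * g) • P = P := by
            simp_rw [Sylow.smul_subtype, Subgroup.smul_def, smul_smul] at hy
            exact Sylow.subtype_injective hy
          obtain ⟨m, hm, v, hv, hmv⟩ := hdec ((y : G) * g)
          have hmC : m ∈ C := by
            refine ⟨hm, Subgroup.mem_centralizer_iff.2 fun x hx => ?_⟩
            have hnorm : (y : G) * g ∈ Subgroup.normalizer ((P : Subgroup G) : Set G) :=
              Sylow.smul_eq_iff_mem_normalizer.1 hP3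
            rw [← hmv] at hnorm
            have hx' := (Subgroup.mem_normalizer_iff.1 hnorm (v⁻¹ * x * v)).1
              (Subgroup.mul_mem _ (Subgroup.mul_mem _ (Subgroup.inv_mem _ hv) hx) hv)
            rw [show m * v * (v⁻¹ * x * v) * (m * v)⁻¹ = m * x * m⁻¹ by group] at hx'
            have h3 : m * x * m⁻¹ * x⁻¹ ∈ N ⊓ (P : Subgroup G) := ⟨by
              rw [show m * x * m⁻¹ * x⁻¹ = m * (x * m⁻¹ * x⁻¹) by group]
              exact N.mul_mem hm (Subgroup.Normal.conj_mem inferInstance _ (N.inv_mem hm) x),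
              Subgroup.mul_mem _ hx' (Subgroup.inv_mem _ hx)⟩
            rw [hinf, Subgroup.mem_bot, mul_inv_eq_one, mul_inv_eq_iff_eq_mul] at h3
            exact h3.symm
          refine isConj_iff.2 ⟨⟨m, hmC⟩, Subtype.ext ?_⟩
          have hyg : (y : G) * g * ((c : G) * u) * ((y : G) * g)⁻¹ = (c' : G) * u := by
            calc (y : G) * g * ((c : G) * u) * ((y : G) * g)⁻¹
                = (y : G) * (g * ((c : G) * u) * g⁻¹) * (y : G)⁻¹ := by group
              _ = (y : G) * h * (y : G)⁻¹ := by rw [hg]
              _ = h := by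
                have := Subgroup.mem_centralizer_singleton_iff.1 y.2
                rw [this, mul_inv_cancel_right]
          rw [← hmv] at hyg
          have hvc : v * (c : G) = (c : G) * v := Subgroup.mem_centralizer_iff.1 c.2.2 v hv
          have hmu : (u : G) * m⁻¹ = m⁻¹ * u :=
            Subgroup.mem_centralizer_iff.1 (Subgroup.inv_mem _ hmC.2) u u.2
          have key : m * v * ((c : G) * u) * (m * v)⁻¹ = m * (c : G) * m⁻¹ * u := by
            calc m * v * ((c : G) * u) * (m * v)⁻¹ = m * (v * c) * u * v⁻¹ * m⁻¹ := by group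
              _ = m * c * (v * u) * v⁻¹ * m⁻¹ := by rw [hvc]; group
              _ = m * c * (u * m⁻¹) := by rw [hab v hv u u.2]; group
              _ = _ := by rw [hmu]; group
          exact mul_right_cancel (key.symm.trans hyg)
    · rintro ⟨K, hK⟩
      induction K using Quotient.inductionOn with
      | _ g =>
        have hK' : ¬ p ∣ (Subgroup.centralizer ({g} : Set G)).index := by
          rw [← hcls]; exact hK
        obtain ⟨Q⟩ := (inferInstance : Nonempty (Sylow p (Subgroup.centralizer ({g} : Set G))))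
        have hQc : Nat.card ((Q : Subgroup _).map (Subgroup.centralizer ({g} : Set G)).subtype) =
            p ^ (Nat.card G).factorization p := by
          rw [Subgroup.card_map_of_injective Subtype.val_injective, Q.card_eq_multiplicity,
            ← Subgroup.card_mul_index (Subgroup.centralizer ({g} : Set G)),
            Nat.factorization_mul Nat.card_pos.ne' Subgroup.index_ne_zero_of_finite, Finsupp.add_apply,
            Nat.factorization_eq_zero_of_not_dvd hK', add_zero]
        set Q' : Sylow p G := Sylow.ofCard _ hQc with hQ'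
        obtain ⟨x, hx⟩ := MulAction.exists_smul_eq G Q' P
        have hcomm : ∀ z ∈ (P : Subgroup G), z * (x * g * x⁻¹) = x * g * x⁻¹ * z := by
          intro z hz
          rw [← hx, Sylow.coe_subgroup_smul] at hz
          obtain ⟨w, hw, rfl⟩ := (Subgroup.mem_smul_pointwise_iff_exists _ _ _).1 hz
          obtain ⟨w', -, rfl⟩ := (show w ∈ (Q : Subgroup _).map
            (Subgroup.centralizer ({g} : Set G)).subtype from hw)
          have h2 := Subgroup.mem_centralizer_singleton_iff.1 w'.2
          show x * (w' : G) * x⁻¹ * (x * g * x⁻¹) = x * g * x⁻¹ * (x * (w' : G) * x⁻¹)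
          calc x * (w' : G) * x⁻¹ * (x * g * x⁻¹) = x * ((w' : G) * g) * x⁻¹ := by group
            _ = x * (g * w') * x⁻¹ := by rw [h2]
            _ = _ := by group
        obtain ⟨n, hn, u, hu, hnu⟩ := hdec (x * g * x⁻¹)
        have hnC : n ∈ C := by
          refine ⟨hn, Subgroup.mem_centralizer_iff.2 fun z hz => ?_⟩
          have h2 := hcomm z hz
          rw [← hnu] at h2
          refine mul_right_cancel (b := u) ?_
          calc z * n * u = n * u * z := by rw [mul_assoc]; exact h2
            _ = n * (z * u) := by rw [mul_assoc, hab u hu z hz]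
            _ = n * z * u := (mul_assoc _ _ _).symm
        refine ⟨(ConjClasses.mk ⟨n, hnC⟩, ⟨u, hu⟩), Subtype.ext ?_⟩
        show ConjClasses.mk (n * u) = ConjClasses.mk g
        rw [hnu]
        exact ConjClasses.mk_eq_mk_iff_isConj.2 (isConj_iff.2 ⟨x, rfl⟩).symm
  -- conclusion
  have e1 : Nat.card (Cfsg.IrrCharacter G) = Nat.card {χ : Cfsg.IrrCharacter G // ¬ p ∣ deg (χ : G → ℂ)} + 1 := by
    have := Nat.card_congr (Equiv.sumCompl (fun χ : Cfsg.IrrCharacter G => p ∣ deg (χ : G → ℂ)))
    rw [Nat.card_sum, show Nat.card {χ : Cfsg.IrrCharacter G // p ∣ deg (χ : G → ℂ)} = 1 from hone] at this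
    omega
  have e2 := Nat.card_congr (Equiv.sumCompl (fun K : ConjClasses G => p ∣ Nat.card K.carrier))
  rw [Nat.card_sum] at e2
  rw [card_irrCharacter, hchar, ← Nat.card_prod, hcl] at e1
  omega

end Cfsg.Agent.S4763
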