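import Cfsg.Statements.S4765
import Cfsg.Agent.Known.SLTwo.Chars.SLTable
import Cfsg.Agent.Chars.IrrTools

set_option autoImplicit false
open Cfsg

namespace Cfsg.Agent.S4765

open Cfsg.Lib.Chars Cfsg.Lib.GLTwo Cfsg.Lib.GLTwo.SCh Matrix
open scoped MatrixGroups

variable {F : Type*} [Field F] [Fintype F] [DecidableEq F]

lemma center_colAt {z : SL(2, F)} (hz : z ∈ Subgroup.center SL(2, F)) (o : Option F) :
    (colAt (z : Matrix (Fin 2) (Fin 2) F) o).2 = 0 := by
  obtain ⟨r, -, hr⟩ := Matrix.SpecialLinearGroup.mem_center_iff.1 hz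
  rw [← hr]
  rcases o with _ | c <;> simp [colAt, Matrix.scalar_apply] <;> ring

lemma St_center {z : SL(2, F)} (hz : z ∈ Subgroup.center SL(2, F)) : St z = St (1 : SL(2, F)) := by
  have h : ∀ w ∈ Subgroup.center SL(2, F), PS (1 : MulChar F ℂ) w = (Fintype.card F : ℂ) + 1 := by
    intro w hw
    rw [PS_eq_sum]
    rw [Finset.sum_congr rfl (g := fun _ => (1 : ℂ)) (fun o _ => ?_)]
    · simp [Fintype.card_option]
    · rw [if_pos (center_colAt hw o), MulChar.one_apply]
      have hdet : IsUnit (colAt ((w : SL(2, F)) : Matrix (Fin 2) (Fin 2) F) o).1 := by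
        obtain ⟨r, hr2, hr⟩ := Matrix.SpecialLinearGroup.mem_center_iff.1 hw
        have hr0 : r ≠ 0 := by
          rintro rfl
          simp at hr2
        rw [← hr]
        rcases o with _ | c <;> simp [colAt, Matrix.scalar_apply, hr0]
      exact hdet
  simp only [St, Pi.sub_apply, h z hz, h 1 (one_mem _)]

lemma eq_St_of_dvd (p : ℕ) [Fact p.Prime] [CharP F p] {χ : SL(2, F) → ℂ}
    (hχ : Cfsg.IsIrrCharacter SL(2, F) χ) (d : ℕ) (hd : χ 1 = d) (hp : p ∣ d) : χ = St := by
  classical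
  have hpp : p.Prime := Fact.out
  have hpq : p ∣ Fintype.card F := by
    obtain ⟨n, -, hn⟩ := FiniteField.card F p
    exact hn ▸ dvd_pow_self p n.ne_zero
  have hq := Fintype.one_lt_card (α := F)
  have bad : ∀ e : ℕ, (Nat.Coprime e p) → χ 1 = e → False := fun e he h => by
    have : d = e := Nat.cast_injective (R := ℂ) (hd.symm.trans h)
    subst this
    exact (hpp.coprime_iff_not_dvd.1 he.symm) hp
  have c1 : Nat.Coprime (Fintype.card F + 1) p := by
    apply Nat.Coprime.symm
    rw [hpp.coprime_iff_not_dvd]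
    intro h
    exact hpp.not_dvd_one ((Nat.dvd_add_right hpq).1 h)
  have c2 : Nat.Coprime (Fintype.card F - 1) p := by
    apply Nat.Coprime.symm
    rw [hpp.coprime_iff_not_dvd]
    intro h
    have h2 := Nat.dvd_sub hpq h
    rw [Nat.sub_sub_self (by omega)] at h2
    exact hpp.not_dvd_one h2
  rcases cases_irr hχ with h1 | h1 | ⟨α, -, h1⟩ | ⟨ho, hne⟩ | hc
  · exact (bad 1 (Nat.coprime_one_left p) (by rw [h1]; simp)).elim
  · exact h1
  · exact (bad _ c1 (by rw [h1, PS_one]; push_cast; ring)).elim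
  · obtain ⟨ν, hν⟩ : ∃ ν : Fˣ, quadraticChar F (ν : F) = -1 := by
      obtain ⟨a, ha⟩ := quadraticChar_exists_neg_one (F := F) (by
        intro h2
        haveI : CharP F 2 := h2 ▸ ringChar.charP F
        obtain ⟨n, -, hn⟩ := FiniteField.card F 2
        rw [hn, Nat.odd_iff] at ho
        have : (2 : ℕ) ∣ 2 ^ (n : ℕ) := dvd_pow_self 2 n.ne_zero
        omega)
      exact ⟨Units.mk0 a (by rintro rfl; simp at ha), ha⟩
    obtain ⟨η₁, η₂, i₁, i₂, -, hadd, -, -, hp'⟩ := halves ho hν
    have hco : Nat.Coprime ((Fintype.card F + 1) / 2) p := by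
      apply Nat.Coprime.coprime_dvd_left _ c1
      obtain ⟨r, hr⟩ := ho
      exact ⟨2, by omega⟩
    rw [hadd, classInner_add_left, classInner_irrChar i₁ hχ, classInner_irrChar i₂ hχ] at hne
    by_cases e1 : η₁ = χ
    · exact (bad _ hco (e1 ▸ (hp' η₁ (.inl rfl)).1)).elim
    · by_cases e2 : η₂ = χ
      · exact (bad _ hco (e2 ▸ (hp' η₂ (.inr rfl)).1)).elim
      · rw [if_neg e1, if_neg e2, add_zero] at hne
        exact absurd rfl hne
  · rcases Nat.even_or_odd (Fintype.card F) with he | ho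
    · exact (bad _ c2 ((table_even he).1 χ hχ hc).1).elim
    · obtain ⟨ν, hν⟩ : ∃ ν : Fˣ, quadraticChar F (ν : F) = -1 := by
        obtain ⟨a, ha⟩ := quadraticChar_exists_neg_one (F := F) (by
          intro h2
          haveI : CharP F 2 := h2 ▸ ringChar.charP F
          obtain ⟨n, -, hn⟩ := FiniteField.card F 2
          rw [hn, Nat.odd_iff] at ho
          have : (2 : ℕ) ∣ 2 ^ (n : ℕ) := dvd_pow_self 2 n.ne_zero
          omega)
        exact ⟨Units.mk0 a (by rintro rfl; simp at ha), ha⟩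
      have hco : Nat.Coprime ((Fintype.card F - 1) / 2) p := by
        apply Nat.Coprime.coprime_dvd_left _ c2
        obtain ⟨r, hr⟩ := ho
        exact ⟨2, by omega⟩
      rcases (table_odd ho hν).1 χ hχ hc with ⟨h, -⟩ | ⟨h, -⟩
      · exact (bad _ c2 h).elim
      · exact (bad _ hco h).elim

/-- Let F be a finite field of characteristic p with at least 4 elements. Then PSL(2,F) has exactly one irreducible complex character of degree divisible by p, and its degree is the order of F. -/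
theorem result (p : ℕ) [Fact p.Prime] (F : Type*) [Field F] [Fintype F] [CharP F p] (hF : 4 ≤ Fintype.card F) : Nat.card {χ : Cfsg.IrrCharacter (Matrix.ProjectiveSpecialLinearGroup (Fin 2) F) // p ∣ Cfsg.charDegree (χ : Matrix.ProjectiveSpecialLinearGroup (Fin 2) F → ℂ)} = 1 ∧ ∀ χ : Cfsg.IrrCharacter (Matrix.ProjectiveSpecialLinearGroup (Fin 2) F), p ∣ Cfsg.charDegree (χ : Matrix.ProjectiveSpecialLinearGroup (Fin 2) F → ℂ) → Cfsg.charDegree (χ : Matrix.ProjectiveSpecialLinearGroup (Fin 2) F → ℂ) = Fintype.card F := by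
  classical
  let G := Matrix.ProjectiveSpecialLinearGroup (Fin 2) F
  let π : Matrix.SpecialLinearGroup (Fin 2) F →* G := QuotientGroup.mk' _
  have hπ : Function.Surjective π := QuotientGroup.mk'_surjective _
  obtain ⟨b, hbc, hb⟩ := exists_factor π hπ (isCharacter_of_irr (isIrr_St (F := F)))
    (fun k hk => St_center (by
      rw [MonoidHom.mem_ker] at hk
      exact (QuotientGroup.eq_one_iff k).1 hk))
  have hbirr : Cfsg.IsIrrCharacter G b := irr_of_comp_irr hbc π (hb ▸ isIrr_St)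
  have hb1 : b 1 = (Fintype.card F : ℂ) := by
    rw [← map_one π, ← congrFun hb 1, St_one]
  have hdeg : Cfsg.charDegree b = Fintype.card F := by
    simp [Cfsg.charDegree, hb1]
  have hpq : p ∣ Fintype.card F := by
    obtain ⟨n, -, hn⟩ := FiniteField.card F p
    exact hn ▸ dvd_pow_self p n.ne_zero
  have huniq : ∀ χ : Cfsg.IrrCharacter G, p ∣ Cfsg.charDegree (χ : G → ℂ) → (χ : G → ℂ) = b := by
    intro χ hχ
    have h1 : ((χ : G → ℂ) 1) = (Cfsg.charDegree (χ : G → ℂ) : ℂ) := irr_apply_one_eq_deg χ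
    have h2 := eq_St_of_dvd p (IsIrrCharacter.comp_surjective χ.2 π hπ) _
      (by rw [map_one]; exact h1) hχ
    funext g
    obtain ⟨x, rfl⟩ := hπ g
    exact (congrFun h2 x).trans (congrFun hb x)
  refine ⟨?_, fun χ hχ => by rw [huniq χ hχ, hdeg]⟩
  rw [Nat.card_eq_one_iff_unique]
  exact ⟨⟨fun a c => Subtype.ext (Subtype.ext ((huniq a.1 a.2).trans (huniq c.1 c.2).symm))⟩,
    ⟨⟨⟨b, hbirr⟩, show p ∣ Cfsg.charDegree b from hdeg ▸ hpq⟩⟩⟩

end Cfsg.Agent.S4765
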