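import Cfsg.Statements.S4774
import Cfsg.Agent.Known.SLTwoDegrees.Degrees

set_option autoImplicit false
open Cfsg

namespace Cfsg.Agent.S4774

/-- Let F be a finite field of odd characteristic t with q > 5 elements and let S be isomorphic to PSL(2,F) or to SL(2,F). Then the vertices of the character degree graph of S are the primes dividing q(q²−1); the prime t is adjacent to no vertex; two distinct primes dividing q² − 1 are adjacent exactly when one of them is 2, or both divide q + 1, or both divide q − 1. -/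
theorem result (F : Type*) [Field F] [Fintype F] (t : ℕ) [Fact t.Prime] [CharP F t] (ht : t ≠ 2) (q : ℕ) (hq : Fintype.card F = q) (h5 : 5 < q) {S : Type*} [Group S] [Finite S] (hS : Nonempty (S ≃* Matrix.ProjectiveSpecialLinearGroup (Fin 2) F) ∨ Nonempty (S ≃* Matrix.SpecialLinearGroup (Fin 2) F)) : Cfsg.degreePrimes S = {r : ℕ | r.Prime ∧ r ∣ q * (q ^ 2 - 1)} ∧ ∀ r s : ℕ, (Cfsg.degreeGraph S).Adj r s ↔ (r ≠ s ∧ r.Prime ∧ s.Prime ∧ r ∣ q ^ 2 - 1 ∧ s ∣ q ^ 2 - 1 ∧ (r = 2 ∨ s = 2 ∨ (r ∣ q + 1 ∧ s ∣ q + 1) ∨ (r ∣ q - 1 ∧ s ∣ q - 1))) := by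
  classical
  have hodd : Odd (Fintype.card F) := by
    rw [Nat.odd_iff]
    exact FiniteField.odd_card_of_char_ne_two (by rw [ringChar.eq F t]; exact ht)
  obtain ⟨f, g, hf, hg⟩ : ∃ (f : Matrix.SpecialLinearGroup (Fin 2) F →* S)
      (g : S →* Matrix.ProjectiveSpecialLinearGroup (Fin 2) F),
      Function.Surjective f ∧ Function.Surjective g := by
    rcases hS with h | h
    · obtain ⟨e⟩ := h
      exact ⟨e.symm.toMonoidHom.comp (QuotientGroup.mk' _), e.toMonoidHom,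
        e.symm.surjective.comp (QuotientGroup.mk'_surjective _), e.surjective⟩
    · obtain ⟨e⟩ := h
      exact ⟨e.symm.toMonoidHom, (QuotientGroup.mk' _).comp e.toMonoidHom,
        e.symm.surjective, (QuotientGroup.mk'_surjective _).comp e.surjective⟩
  have hup := Cfsg.Lib.SLTwoDegrees.charDegrees_subset f hf
  have hdown := Cfsg.Lib.SLTwoDegrees.charDegrees_subset g hg
  have hq1 : q ^ 2 - 1 = (q + 1) * (q - 1) := by rw [← Nat.sq_sub_sq, one_pow]
  have mq : q ∈ Cfsg.charDegrees S := hdown (hq ▸ Cfsg.Lib.SLTwoDegrees.card_mem_psl)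
  have mp : q + 1 ∈ Cfsg.charDegrees S :=
    hdown (hq ▸ Cfsg.Lib.SLTwoDegrees.succ_mem_psl (by omega) (by omega))
  have mm : q - 1 ∈ Cfsg.charDegrees S := hdown (hq ▸ Cfsg.Lib.SLTwoDegrees.pred_mem_psl_odd hodd (by omega))
  have hall : ∀ d ∈ Cfsg.charDegrees S, d = 1 ∨ d = q ∨ d ∣ q + 1 ∨ d ∣ q - 1 := by
    intro d hd
    rcases Cfsg.Lib.SLTwoDegrees.sl_degrees (hup hd) with h | h | h | h | ⟨⟨k, hk⟩, h | h⟩
    · exact .inl h
    · exact .inr (.inl (hq ▸ h))
    · exact .inr (.inr (.inl (by rw [h, hq])))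
    · exact .inr (.inr (.inr (by rw [h, hq])))
    · exact .inr (.inr (.inl ⟨2, by omega⟩))
    · exact .inr (.inr (.inr ⟨2, by omega⟩))
  obtain ⟨n, hn0P, hn⟩ := FiniteField.card F t
  rw [hq] at hn
  refine ⟨?_, fun r s => ?_⟩
  · ext r
    constructor
    · rintro ⟨hr, d, hd, hrd⟩
      refine ⟨hr, ?_⟩
      rcases hall d hd with rfl | rfl | h | h
      · exact absurd (Nat.dvd_one.1 hrd) hr.ne_one
      · exact hrd.mul_right _
      · rw [hq1]; exact ((hrd.trans h).mul_right _).mul_left _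
      · rw [hq1]; exact ((hrd.trans h).mul_left _).mul_left _
    · rintro ⟨hr, hrd⟩
      refine ⟨hr, ?_⟩
      rcases hr.dvd_mul.1 hrd with h | h
      · exact ⟨q, mq, h⟩
      · rw [hq1] at h
        rcases hr.dvd_mul.1 h with h' | h'
        · exact ⟨q + 1, mp, h'⟩
        · exact ⟨q - 1, mm, h'⟩
  · constructor
    · rintro ⟨hne, hr, hs, d, hd, hdiv⟩
      have hrd : r ∣ d := (dvd_mul_right r s).trans hdiv
      have hsd : s ∣ d := (dvd_mul_left s r).trans hdiv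
      rcases hall d hd with rfl | rfl | h | h
      · exact absurd (Nat.dvd_one.1 hrd) hr.ne_one
      · exfalso
        rw [hn] at hrd hsd
        exact hne (((Nat.prime_dvd_prime_iff_eq hr hn0P).1 (hr.dvd_of_dvd_pow hrd)).trans
          ((Nat.prime_dvd_prime_iff_eq hs hn0P).1 (hs.dvd_of_dvd_pow hsd)).symm)
      · exact ⟨hne, hr, hs, hq1 ▸ (hrd.trans h).mul_right _, hq1 ▸ (hsd.trans h).mul_right _,
          .inr (.inr (.inl ⟨hrd.trans h, hsd.trans h⟩))⟩
      · exact ⟨hne, hr, hs, hq1 ▸ (hrd.trans h).mul_left _, hq1 ▸ (hsd.trans h).mul_left _,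
          .inr (.inr (.inr ⟨hrd.trans h, hsd.trans h⟩))⟩
    · rintro ⟨hne, hr, hs, h1, h2, hc⟩
      rw [hq1] at h1 h2
      have hev : 2 ∣ q + 1 ∧ 2 ∣ q - 1 := by
        rw [hq] at hodd
        obtain ⟨k, hk⟩ := hodd
        exact ⟨⟨k + 1, by omega⟩, ⟨k, by omega⟩⟩
      have hpair : (r ∣ q + 1 ∧ s ∣ q + 1) ∨ (r ∣ q - 1 ∧ s ∣ q - 1) := by
        rcases hc with rfl | rfl | h
        · rcases hs.dvd_mul.1 h2 with h | h
          · exact .inl ⟨hev.1, h⟩
          · exact .inr ⟨hev.2, h⟩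
        · rcases hr.dvd_mul.1 h1 with h | h
          · exact .inl ⟨h, hev.1⟩
          · exact .inr ⟨h, hev.2⟩
        · exact h
      rcases hpair with ⟨a, b⟩ | ⟨a, b⟩
      · exact ⟨hne, hr, hs, q + 1, mp, ((Nat.coprime_primes hr hs).2 hne).mul_dvd_of_dvd_of_dvd a b⟩
      · exact ⟨hne, hr, hs, q - 1, mm, ((Nat.coprime_primes hr hs).2 hne).mul_dvd_of_dvd_of_dvd a b⟩

end Cfsg.Agent.S4774
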