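import Cfsg.Statements.S4775
import Cfsg.Agent.Suz.CharDegrees

set_option autoImplicit false
open Cfsg

namespace Cfsg.Agent.S4775

/-- Let F be a finite field with q = 2^(2m+1) ≥ 8 elements and let S be isomorphic to the Suzuki group over F. Then the vertices of the character degree graph of S are 2 and the primes dividing (q − 1)(q² + 1); the primes dividing (q − 1)(q² + 1) are pairwise adjacent, and 2 is adjacent exactly to the primes dividing q − 1. -/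
theorem result (F : Type*) [Field F] [Fintype F] (m : ℕ) (hm : 1 ≤ m) (q : ℕ) (hq : Fintype.card F = q) (hqm : q = 2 ^ (2 * m + 1)) {S : Type*} [Group S] [Finite S] (hS : Nonempty (S ≃* ↥(Cfsg.Lie.Sz F (2 ^ (m + 1))))) : Cfsg.degreePrimes S = {r : ℕ | r.Prime ∧ (r = 2 ∨ r ∣ (q - 1) * (q ^ 2 + 1))} ∧ ∀ r s : ℕ, (Cfsg.degreeGraph S).Adj r s ↔ (r ≠ s ∧ r.Prime ∧ s.Prime ∧ ((r ∣ (q - 1) * (q ^ 2 + 1) ∧ s ∣ (q - 1) * (q ^ 2 + 1)) ∨ (r = 2 ∧ s ∣ q - 1) ∨ (s = 2 ∧ r ∣ q - 1))) := by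
  classical
  obtain ⟨e⟩ := hS
  have Q : Cfsg.Lib.Suz.Par F m := ⟨hm, by rw [hq, hqm]⟩
  let E : S ≃* Cfsg.Sz F m := e.trans (Cfsg.Lib.Suz.lieEquiv Q).symm
  obtain ⟨hall, hex⟩ := Cfsg.Lib.Suz.char_degrees Q
  rw [← hqm] at hall hex
  have hdegs : ∀ d, d ∈ Cfsg.charDegrees S ↔
      ∃ χ : Cfsg.IrrCharacter (Cfsg.Sz F m), Cfsg.Lib.Chars.deg (χ : Cfsg.Sz F m → ℂ) = d := by
    intro d
    constructor
    · rintro ⟨χ, rfl⟩
      refine ⟨⟨_, Cfsg.Lib.Chars.IsIrrCharacter.comp_mulEquiv χ.2 E.symm⟩, ?_⟩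
      simp [Cfsg.Lib.Chars.deg, Cfsg.charDegree]
    · rintro ⟨χ, rfl⟩
      refine ⟨⟨_, Cfsg.Lib.Chars.IsIrrCharacter.comp_mulEquiv χ.2 E⟩, ?_⟩
      simp [Cfsg.Lib.Chars.deg, Cfsg.charDegree]
  set K := 2 ^ m with hK
  set s := 2 ^ (m + 1) with hs
  have hK2 : 2 ∣ K := dvd_pow_self 2 (by omega)
  have hqs : (q - s + 1) * (q + s + 1) = q ^ 2 + 1 := by
    have hsK : s = 2 * K := by rw [hs, hK, pow_succ']
    have hqK : q = 2 * (K * K) := by rw [hqm, hK, ← pow_add, ← pow_succ', two_mul]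
    have hle : s ≤ q := by
      rw [hqm, hs]; exact Nat.pow_le_pow_right two_pos (by omega)
    zify [hle]
    rw [hsK, hqK]
    push_cast
    ring
  have h2q : (2 : ℕ) ∣ q ^ 2 := by
    rw [hqm, ← pow_mul]; exact dvd_pow_self 2 (by omega)
  have hqodd : ¬ 2 ∣ (q - 1) * (q ^ 2 + 1) := by
    have hq1 : 1 ≤ q := hqm ▸ Nat.one_le_pow _ _ two_pos
    have hq2 : 2 ∣ q := hqm ▸ dvd_pow_self 2 (by omega)
    intro h
    rcases Nat.prime_two.dvd_mul.1 h with h | h <;> omega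
  -- the prime divisors of the degrees
  have hdiv : ∀ d ∈ Cfsg.charDegrees S, d = 1 ∨ d = q ^ 2 ∨ d = K * (q - 1) ∨
      d ∣ (q - 1) * (q ^ 2 + 1) := by
    intro d hd
    obtain ⟨χ, rfl⟩ := (hdegs d).1 hd
    have h := hall χ
    simp only [Set.mem_insert_iff, Set.mem_singleton_iff] at h
    rcases h with h | h | h | h | h | h <;> rw [h]
    · exact Or.inl rfl
    · exact Or.inr (Or.inl rfl)
    · exact Or.inr (Or.inr (Or.inr (Dvd.intro_left _ rfl)))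
    · exact Or.inr (Or.inr (Or.inr (Nat.mul_dvd_mul_left _ (hqs ▸ Dvd.intro _ rfl))))
    · exact Or.inr (Or.inr (Or.inr (Nat.mul_dvd_mul_left _ (hqs ▸ Dvd.intro_left _ rfl))))
    · exact Or.inr (Or.inr (Or.inl rfl))
  have hK' : ∀ p : ℕ, p.Prime → p ∣ K → p = 2 := fun p hp h =>
    (Nat.prime_dvd_prime_iff_eq hp Nat.prime_two).1 (hp.dvd_of_dvd_pow h)
  have hq2' : ∀ p : ℕ, p.Prime → p ∣ q ^ 2 → p = 2 := fun p hp h =>
    (Nat.prime_dvd_prime_iff_eq hp Nat.prime_two).1 (hp.dvd_of_dvd_pow (hqm ▸ hp.dvd_of_dvd_pow h))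
  have mem : ∀ d, d ∈ ({q ^ 2, q ^ 2 + 1, (q - 1) * (q - s + 1), (q - 1) * (q + s + 1),
      K * (q - 1)} : Set ℕ) → d ∈ Cfsg.charDegrees S := fun d hd => (hdegs d).2 (hex d hd)
  refine ⟨?_, fun r t => ?_⟩
  · ext p
    constructor
    · rintro ⟨hp, d, hd, hpd⟩
      refine ⟨hp, ?_⟩
      rcases hdiv d hd with rfl | rfl | rfl | h
      · exact absurd (Nat.dvd_one.1 hpd) hp.ne_one
      · exact Or.inl (hq2' p hp hpd)
      · rcases hp.dvd_mul.1 hpd with h | h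
        · exact Or.inl (hK' p hp h)
        · exact Or.inr (dvd_mul_of_dvd_left h _)
      · exact Or.inr (hpd.trans h)
    · rintro ⟨hp, rfl | h⟩
      · exact ⟨hp, q ^ 2, mem _ (by simp), h2q⟩
      · rcases hp.dvd_mul.1 h with h | h
        · exact ⟨hp, K * (q - 1), mem _ (by simp), dvd_mul_of_dvd_right h _⟩
        · exact ⟨hp, q ^ 2 + 1, mem _ (by simp), h⟩
  · constructor
    · rintro ⟨hne, hr, ht, d, hd, hdvd⟩
      refine ⟨hne, hr, ht, ?_⟩
      rcases hdiv d hd with rfl | rfl | rfl | h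
      · exact absurd (Nat.dvd_one.1 (dvd_trans (dvd_mul_right r t) hdvd)) hr.ne_one
      · exact absurd ((hq2' r hr (dvd_trans (dvd_mul_right r t) hdvd)).trans
          (hq2' t ht (dvd_trans (dvd_mul_left t r) hdvd)).symm) hne
      · rcases hr.dvd_mul.1 (dvd_trans (dvd_mul_right r t) hdvd) with h | h <;>
          rcases ht.dvd_mul.1 (dvd_trans (dvd_mul_left t r) hdvd) with h' | h'
        · exact absurd ((hK' r hr h).trans (hK' t ht h').symm) hne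
        · exact Or.inr (Or.inl ⟨hK' r hr h, h'⟩)
        · exact Or.inr (Or.inr ⟨hK' t ht h', h⟩)
        · exact Or.inl ⟨dvd_mul_of_dvd_left h _, dvd_mul_of_dvd_left h' _⟩
      · exact Or.inl ⟨(dvd_trans (dvd_mul_right r t) hdvd).trans h, (dvd_trans (dvd_mul_left t r) hdvd).trans h⟩
    · rintro ⟨hne, hr, ht, h⟩
      refine ⟨hne, hr, ht, ?_⟩
      have hcop : Nat.Coprime r t := (Nat.coprime_primes hr ht).2 hne
      rcases h with ⟨h1, h2⟩ | ⟨rfl, h2⟩ | ⟨rfl, h1⟩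
      · rcases hr.dvd_mul.1 h1 with a | a <;> rcases ht.dvd_mul.1 h2 with b | b
        · exact ⟨_, mem (K * (q - 1)) (by simp), dvd_mul_of_dvd_right (hcop.mul_dvd_of_dvd_of_dvd a b) _⟩
        · rw [← hqs] at b
          rcases ht.dvd_mul.1 b with b | b
          · exact ⟨_, mem ((q - 1) * (q - s + 1)) (by simp), Nat.mul_dvd_mul a b⟩
          · exact ⟨_, mem ((q - 1) * (q + s + 1)) (by simp), Nat.mul_dvd_mul a b⟩
        · rw [← hqs] at a
          rcases hr.dvd_mul.1 a with a | a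
          · exact ⟨_, mem ((q - 1) * (q - s + 1)) (by simp), mul_comm r t ▸ Nat.mul_dvd_mul b a⟩
          · exact ⟨_, mem ((q - 1) * (q + s + 1)) (by simp), mul_comm r t ▸ Nat.mul_dvd_mul b a⟩
        · exact ⟨_, mem (q ^ 2 + 1) (by simp), hcop.mul_dvd_of_dvd_of_dvd a b⟩
      · exact ⟨_, mem (K * (q - 1)) (by simp), Nat.mul_dvd_mul hK2 h2⟩
      · exact ⟨_, mem (K * (q - 1)) (by simp), mul_comm r 2 ▸ Nat.mul_dvd_mul hK2 h1⟩

end Cfsg.Agent.S4775
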