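import Cfsg.Statements.S4779
import Cfsg.Agent.Blocks.RelGraph.Shape
-- import your own Cfsg.Agent.* helpers here

set_option autoImplicit false
open Cfsg Cfsg.Lib.RelGraph

namespace Cfsg.Agent.S4779

/-- Let N be a solvable normal subgroup of the finite group G contained in the derived subgroup of G, and consider the common-divisor graph on the relative degree set cd(G|N) (degrees of irreducible complex characters of G whose kernel does not contain N, two distinct degrees adjacent when not coprime). If this graph has two vertices that are not joined by any path, then there is a vertex a₀ such that any two distinct vertices in the component of a₀ are adjacent, and any two distinct vertices outside that component are adjacent or have a common neighbour (one component is complete, the other has diameter at most 2). -/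
theorem result {G : Type*} [Group G] [Finite G] (N : Subgroup G) [N.Normal] [Group.IsSolvable N] (hNG : N ≤ commutator G) (hdisc : ¬ (Cfsg.commonDivisorGraph.induce (Cfsg.relCharDegrees N)).Preconnected) : ∃ a₀ : ↥(Cfsg.relCharDegrees N), (∀ b c : ↥(Cfsg.relCharDegrees N), (Cfsg.commonDivisorGraph.induce (Cfsg.relCharDegrees N)).Reachable a₀ b → (Cfsg.commonDivisorGraph.induce (Cfsg.relCharDegrees N)).Reachable a₀ c → b ≠ c → (Cfsg.commonDivisorGraph.induce (Cfsg.relCharDegrees N)).Adj b c) ∧ (∀ b c : ↥(Cfsg.relCharDegrees N), ¬ (Cfsg.commonDivisorGraph.induce (Cfsg.relCharDegrees N)).Reachable a₀ b → ¬ (Cfsg.commonDivisorGraph.induce (Cfsg.relCharDegrees N)).Reachable a₀ c → b ≠ c → (Cfsg.commonDivisorGraph.induce (Cfsg.relCharDegrees N)).Adj b c ∨ ∃ d : ↥(Cfsg.relCharDegrees N), (Cfsg.commonDivisorGraph.induce (Cfsg.relCharDegrees N)).Adj b d ∧ (Cfsg.commonDivisorGraph.induce (Cfsg.relCharDegrees N)).Adj d c) := by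
  classical
  haveI := Fintype.ofFinite G
  haveI := Fintype.ofFinite N
  set Γ := Cfsg.commonDivisorGraph.induce (Cfsg.relCharDegrees N) with hΓ
  simp only [SimpleGraph.Preconnected, not_forall] at hdisc
  obtain ⟨x, y, hxy⟩ := hdisc
  have hne : N ≠ ⊥ := fun h => by
    obtain ⟨χ, ⟨g, hg, hne⟩, -⟩ := x.2
    rw [h, Subgroup.mem_bot] at hg
    exact hne (by rw [hg])
  have hN : ⁅N, N⁆ < N := by
    refine lt_of_le_of_ne (Subgroup.commutator_le_self N) fun h => ?_
    haveI : Nontrivial N := (Subgroup.nontrivial_iff_ne_bot N).2 hne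
    refine (Group.IsSolvable.commutator_lt_top_of_nontrivial (G := N)).ne
      (Subgroup.map_injective N.subtype_injective ?_)
    rw [Subgroup.map_subtype_commutator, h, ← MonoidHom.range_eq_map, Subgroup.range_subtype]
  obtain ⟨r, hr, hrm⟩ := Nat.exists_prime_and_dvd (n := ⁅N, N⁆.relIndex N)
    (fun h1 => not_le_of_gt hN (Subgroup.relIndex_eq_one.1 h1))
  haveI := Fact.mk hr
  -- the clique side
  obtain ⟨a₀, b₀, ha₀, hb₀, hrel⟩ : ∃ a₀ b₀ : ↥(Cfsg.relCharDegrees N), r ∣ (a₀ : ℕ) ∧ ¬ r ∣ (b₀ : ℕ) ∧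
      ¬ Γ.Reachable a₀ b₀ := by
    have hne : ¬ (r ∣ (x : ℕ) ↔ r ∣ (y : ℕ)) := fun h => by
      obtain ⟨_, _, hreach⟩ := conn_same_side hNG hrm x.2 y.2 h
      exact hxy hreach
    by_cases hx : r ∣ (x : ℕ)
    · exact ⟨x, y, hx, fun h => hne ⟨fun _ => h, fun _ => hx⟩, hxy⟩
    · exact ⟨y, x, not_not.1 fun h => hne ⟨fun h' => absurd h' hx, fun h' => absurd h' h⟩, hx,
        fun h => hxy h.symm⟩
  have hside : ∀ z : ↥(Cfsg.relCharDegrees N), Γ.Reachable a₀ z ↔ r ∣ (z : ℕ) := by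
    intro z
    refine ⟨fun h => ?_, fun h => ?_⟩
    · by_contra hz
      obtain ⟨_, _, hreach⟩ := conn_same_side hNG hrm z.2 b₀.2 ⟨fun h' => absurd h' hz, fun h' => absurd h' hb₀⟩
      exact hrel (h.trans hreach)
    · exact (conn_same_side hNG hrm a₀.2 z.2 ⟨fun _ => h, fun _ => ha₀⟩).2.2
  have hpos : ∀ z : ↥(Cfsg.relCharDegrees N), 0 < (z : ℕ) := fun z => by
    obtain ⟨χ, -, hd⟩ := z.2
    rw [← hd, Cfsg.Lib.Chars.charDegree_eq_deg χ.2]
    refine Nat.pos_of_ne_zero fun h0 => Cfsg.Lib.Chars.IsIrrCharacter.apply_one_ne_zero χ.2 ?_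
    rw [Cfsg.Lib.Chars.irr_apply_one_eq_deg χ, h0, Nat.cast_zero]
  have hadj : ∀ u v : ↥(Cfsg.relCharDegrees N), u ≠ v → ¬ Nat.Coprime (u : ℕ) v → Γ.Adj u v :=
    fun u v hne h => ⟨fun e => hne (Subtype.ext e),
      show 1 < Nat.gcd (u : ℕ) v from lt_of_le_of_ne (Nat.gcd_pos_of_pos_left _ (hpos u)) fun e => h e.symm⟩
  refine ⟨a₀, fun b c hb hc hbc => ?_, fun b c hb hc hbc => ?_⟩
  · exact hadj b c hbc (not_coprime_of_dvd hr.one_lt.ne' ((hside b).1 hb) ((hside c).1 hc))
  -- the other side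
  have hcop : ∀ z : ↥(Cfsg.relCharDegrees N), ¬ Γ.Reachable a₀ z →
      Nat.Coprime (z : ℕ) (⁅N, N⁆.relIndex N) := fun z hz => by
    rcases (rel_graph hN hNG).2 z a₀ z.2 a₀.2 (fun h => hz h.symm) with ⟨h, -⟩ | ⟨h, -⟩
    · exact h
    · exact absurd (Nat.eq_one_of_dvd_coprimes h ha₀ hrm) hr.one_lt.ne'
  rcases near_of_coprime _ N rfl hNG b b.2 c c.2 a₀ a₀.2 (hcop b hb) (hcop c hc)
    (fun h => hr.one_lt.ne' (Nat.eq_one_of_dvd_coprimes h ha₀ hrm))
    (fun ⟨_, _, h⟩ => hb h.symm) with h | h | ⟨d, hd, h1, h2⟩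
  · exact absurd (Subtype.ext h) hbc
  · exact Or.inl (hadj b c hbc h)
  · by_cases e1 : (⟨d, hd⟩ : ↥(Cfsg.relCharDegrees N)) = b
    · subst e1
      exact Or.inl (hadj _ c hbc fun h => h2 h.symm)
    by_cases e2 : (⟨d, hd⟩ : ↥(Cfsg.relCharDegrees N)) = c
    · subst e2
      exact Or.inl (hadj b _ hbc h1)
    exact Or.inr ⟨⟨d, hd⟩, hadj b _ (Ne.symm e1) h1, hadj _ c e2 fun h => h2 h.symm⟩

end Cfsg.Agent.S4779
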