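import Cfsg.Statements.S4784
import Cfsg.Agent.Chars.Indicator
import Cfsg.Agent.Chars.Clifford
import Cfsg.Agent.Chars.Real
import Mathlib
-- import your own Cfsg.Agent.* helpers here

set_option autoImplicit false
open Cfsg

namespace Cfsg.Agent.S4784

set_option linter.unusedSectionVars false

open Cfsg.Lib.Chars

lemma indFun_one_apply {G : Type*} [Group G] [Fintype G] (H : Subgroup G) [DecidablePred (· ∈ H)] (g : G) :
    Cfsg.indFun H (fun _ : H => (1 : ℂ)) g =
      (Nat.card H : ℂ)⁻¹ * ((Finset.univ.filter fun x : G => x⁻¹ * g * x ∈ H).card : ℂ) := by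
  classical
  rw [indFun_apply, ← Finset.sum_boole]
  refine congrArg _ (Finset.sum_congr rfl fun x _ => ?_)
  by_cases hx : x⁻¹ * g * x ∈ H
  · rw [extendByZero_mem _ hx, if_pos hx]
  · rw [extendByZero_not_mem _ hx, if_neg hx]

/-- Let H be a subgroup of the finite group G and consider the permutation character of G on the cosets of H (the function induced from the principal character of H). Then exactly one irreducible constituent of it is real-valued with Frobenius–Schur indicator +1 (namely the principal character) if and only if the normal core of H has odd index in G. -/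
theorem result {G : Type*} [Group G] [Fintype G] (H : Subgroup G) : Nat.card {χ : Cfsg.IrrCharacter G // Cfsg.classInner (Cfsg.indFun H (fun _ : H => (1 : ℂ))) (χ : G → ℂ) ≠ 0 ∧ (∀ g : G, (starRingEnd ℂ) ((χ : G → ℂ) g) = (χ : G → ℂ) g) ∧ (Nat.card G : ℂ)⁻¹ * ∑ g : G, (χ : G → ℂ) (g * g) = 1} = 1 ↔ Odd H.normalCore.index := by
  classical
  haveI := Fintype.ofFinite H
  set ind := Cfsg.indFun H (fun _ : H => (1 : ℂ)) with hind
  have hone : Cfsg.IsCharacter H (fun _ : H => (1 : ℂ)) := isCharacter_of_irr isIrrCharacter_one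
  let ν : Cfsg.IrrCharacter G → ℂ := fun χ => (Nat.card G : ℂ)⁻¹ * ∑ g : G, (χ : G → ℂ) (g * g)
  have hG0 : (Nat.card G : ℂ) ≠ 0 := by exact_mod_cast Nat.card_pos.ne'
  -- the principal character is counted
  let one : Cfsg.IrrCharacter G := principal G
  have hone' : ∀ g, (one : G → ℂ) g = 1 := fun g => rfl
  have hmone : Cfsg.classInner ind (one : G → ℂ) = 1 := by
    rw [hind, frobenius_reciprocity H _ (isClassFunction_irr one)]
    exact classInner_self_irr isIrrCharacter_one
  have hν1 : ν one = 1 := by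
    simp only [ν, hone', Finset.sum_const, Finset.card_univ, nsmul_eq_mul, mul_one]
    rw [← Nat.card_eq_fintype_card, inv_mul_cancel₀ hG0]
  have hmem : one ∈ {χ : Cfsg.IrrCharacter G | Cfsg.classInner ind (χ : G → ℂ) ≠ 0 ∧
      (∀ g : G, (starRingEnd ℂ) ((χ : G → ℂ) g) = (χ : G → ℂ) g) ∧ ν χ = 1} :=
    ⟨by rw [hmone]; exact one_ne_zero, fun g => by rw [hone', map_one], hν1⟩
  have hiff : Nat.card {χ : Cfsg.IrrCharacter G // Cfsg.classInner ind (χ : G → ℂ) ≠ 0 ∧
      (∀ g : G, (starRingEnd ℂ) ((χ : G → ℂ) g) = (χ : G → ℂ) g) ∧ ν χ = 1} = 1 ↔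
      ∀ χ : Cfsg.IrrCharacter G, Cfsg.classInner ind (χ : G → ℂ) ≠ 0 → ν χ = 1 → χ = one := by
    rw [Nat.card_eq_one_iff_unique]
    refine ⟨fun ⟨hs, _⟩ χ h1 h2 => ?_, fun h => ⟨⟨fun a b => Subtype.ext
      ((h a.1 a.2.1 a.2.2.2).trans (h b.1 b.2.1 b.2.2.2).symm)⟩, ⟨⟨one, hmem⟩⟩⟩⟩
    have hreal : ∀ g, (starRingEnd ℂ) ((χ : G → ℂ) g) = (χ : G → ℂ) g := by
      rcases indicator_irr χ.2 with ⟨-, h⟩ | ⟨h, -⟩
      · exact absurd (h2.symm.trans h) one_ne_zero
      · exact fun g => Complex.conj_eq_iff_im.2 (h g)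
    exact congrArg Subtype.val (hs.allEq ⟨χ, h1, hreal, h2⟩ ⟨one, hmem⟩)
  refine hiff.trans ⟨fun huniq => ?_, fun hodd χ hχ hνχ => ?_⟩
  · by_contra heven
    rw [Nat.not_odd_iff_even, even_iff_two_dvd, Subgroup.index_eq_card] at heven
    obtain ⟨y, hy⟩ := exists_prime_orderOf_dvd_card' (G := G ⧸ H.normalCore) 2 heven
    obtain ⟨g₀, rfl⟩ := QuotientGroup.mk_surjective y
    have hg0 : g₀ ∉ H.normalCore := fun h => by
      rw [(QuotientGroup.eq_one_iff g₀).2 h, orderOf_one] at hy
      norm_num at hy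
    have hg02 : g₀ * g₀ ∈ H.normalCore := by
      rw [← QuotientGroup.eq_one_iff, QuotientGroup.mk_mul, ← pow_two, ← hy, pow_orderOf_eq_one]
    obtain ⟨x₀, hx₀⟩ : ∃ x : G, x⁻¹ * g₀ * x ∉ H := by
      by_contra hcon
      push Not at hcon
      exact hg0 fun b => by simpa using hcon b⁻¹
    let c : G → ℕ := fun g => (Finset.univ.filter fun x : G => x⁻¹ * g * x ∈ H).card
    have hle : ∀ g, c g ≤ c (g * g) := fun g => Finset.card_le_card fun x hx => by
      simp only [Finset.mem_filter, Finset.mem_univ, true_and] at hx ⊢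
      simpa [mul_assoc] using mul_mem hx hx
    have hlt : ∑ g, c g < ∑ g, c (g * g) := by
      refine Finset.sum_lt_sum (fun g _ => hle g) ⟨g₀, Finset.mem_univ _, Finset.card_lt_card ?_⟩
      refine Finset.ssubset_iff_subset_ne.2 ⟨fun x hx => ?_, fun he => hx₀ ?_⟩
      · simp only [Finset.mem_filter, Finset.mem_univ, true_and] at hx ⊢
        simpa [mul_assoc] using mul_mem hx hx
      · have h1 : x₀ ∈ Finset.univ.filter fun x : G => x⁻¹ * (g₀ * g₀) * x ∈ H :=
          Finset.mem_filter.2 ⟨Finset.mem_univ _, Subgroup.normalCore_le H (by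
            simpa using (inferInstance : H.normalCore.Normal).conj_mem _ hg02 x₀⁻¹)⟩
        rw [← he] at h1
        exact (Finset.mem_filter.1 h1).2
    have hH0 : (Nat.card H : ℂ) ≠ 0 := by exact_mod_cast Nat.card_pos.ne'
    have hsum : (∑ g, c g : ℕ) = Nat.card G * Nat.card H := by
      apply Nat.cast_injective (R := ℂ)
      have h1 : ∑ g, ind g = (Nat.card G : ℂ) := by
        have h2 := hmone
        rw [classInner_def] at h2
        simp only [hone', map_one, mul_one] at h2
        field_simp at h2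
        exact h2
      simp only [hind, indFun_one_apply, ← Finset.mul_sum] at h1
      rw [inv_mul_eq_iff_eq_mul₀ hH0] at h1
      rw [Nat.cast_sum, h1]
      push_cast
      ring
    obtain ⟨m, hm⟩ := IsCharacter.exists_decomp (IsCharacter.indFun (G := G) hone)
    have hmχ : ∀ χ : Cfsg.IrrCharacter G, Cfsg.classInner ind (χ : G → ℂ) = m χ := fun χ => by
      rw [hind, hm]
      simp only [← Nat.cast_smul_eq_nsmul ℂ]
      exact classInner_irrSum (fun ψ => (m ψ : ℂ)) χ
    have htot : ∑ χ : Cfsg.IrrCharacter G, (m χ : ℂ) * ν χ =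
        (Nat.card G : ℂ)⁻¹ * ((Nat.card H : ℂ)⁻¹ * ((∑ g, c (g * g) : ℕ) : ℂ)) := by
      simp only [ν, Finset.mul_sum]
      rw [Finset.sum_comm, Nat.cast_sum, Finset.mul_sum, Finset.mul_sum]
      refine Finset.sum_congr rfl fun g _ => ?_
      have h1 := congrFun hm (g * g)
      rw [indFun_one_apply] at h1
      simp only [Finset.sum_apply, Pi.smul_apply, nsmul_eq_mul, Pi.mul_apply, Pi.natCast_apply] at h1
      rw [h1, Finset.mul_sum]
      refine Finset.sum_congr rfl fun χ _ => ?_
      ring
    have hν : ∀ χ : Cfsg.IrrCharacter G, ν χ = 0 ∨ ν χ = 1 ∨ ν χ = -1 := fun χ => by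
      rcases indicator_irr χ.2 with ⟨-, h⟩ | ⟨-, h | ⟨h, -⟩⟩
      · exact Or.inl h
      · exact Or.inr (Or.inl h)
      · exact Or.inr (Or.inr h)
    have hre : (∑ χ : Cfsg.IrrCharacter G, (m χ : ℂ) * ν χ).re ≤ 1 := by
      rw [Complex.re_sum, ← Finset.sum_erase_add _ _ (Finset.mem_univ one)]
      have h1 : ((m one : ℂ) * ν one).re = 1 := by rw [← hmχ, hmone, hν1]; simp
      rw [h1, add_le_iff_nonpos_left]
      refine Finset.sum_nonpos fun χ hχ => ?_
      rcases hν χ with h | h | h
      · rw [h]; simp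
      · have hm0 : m χ = 0 := by
          by_contra hm0
          exact (Finset.mem_erase.1 hχ).1 (huniq χ (by rw [hmχ]; exact_mod_cast hm0) h)
        rw [hm0]; simp
      · rw [h]; simp
    rw [htot] at hre
    rw [← Complex.ofReal_natCast (Nat.card G), ← Complex.ofReal_natCast (Nat.card H),
      ← Complex.ofReal_natCast (∑ g, c (g * g)), ← Complex.ofReal_inv, ← Complex.ofReal_inv,
      ← Complex.ofReal_mul, ← Complex.ofReal_mul, Complex.ofReal_re, ← mul_assoc, ← mul_inv,
      inv_mul_le_one₀ (by exact_mod_cast Nat.mul_pos Nat.card_pos Nat.card_pos)] at hre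
    rw [hsum] at hlt
    have h2 : ((Nat.card G * Nat.card H : ℕ) : ℝ) < ((∑ g, c (g * g) : ℕ) : ℝ) := by exact_mod_cast hlt
    push_cast at h2 hre
    linarith
  · by_contra hne
    haveI := Fintype.ofFinite H.normalCore
    have hres : Cfsg.classInner (fun n : H.normalCore => (χ : G → ℂ) n) (fun _ => 1) ≠ 0 := by
      intro h0
      apply hχ
      rw [hind, frobenius_reciprocity H _ (isClassFunction_irr χ)]
      obtain ⟨m, hm⟩ := IsCharacter.exists_decomp (IsCharacter.restrict (isCharacter_of_irr χ.2) H)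
      simp only [← Nat.cast_smul_eq_nsmul ℂ] at hm
      have h1 : ∀ ψ : Cfsg.IrrCharacter H, ψ = principal H → (m ψ : ℂ) = 0 := by
        rintro ψ rfl
        by_contra hm0
        have hexp : (fun n : H.normalCore => (χ : G → ℂ) n) =
            ∑ ψ : Cfsg.IrrCharacter H, (m ψ : ℂ) • fun n : H.normalCore =>
              (ψ : H → ℂ) (Subgroup.inclusion (Subgroup.normalCore_le H) n) := by
          funext n
          have := congrFun hm (Subgroup.inclusion (Subgroup.normalCore_le H) n)
          simp only [Finset.sum_apply, Pi.smul_apply] at this ⊢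
          exact this
        rw [hexp, classInner_sum_left] at h0
        choose k hk using fun ψ : Cfsg.IrrCharacter H => IsCharacter.exists_mult
          (IsCharacter.comp_hom (isCharacter_of_irr ψ.2) (Subgroup.inclusion (Subgroup.normalCore_le H)))
          (isIrrCharacter_one (G := H.normalCore))
        simp only [classInner_smul_left] at h0
        rw [Finset.sum_congr rfl fun ψ _ => by rw [hk ψ]] at h0
        have h2 : k (principal H) = 1 := Nat.cast_injective (R := ℂ) ((hk _).symm.trans
          ((classInner_self_irr (isIrrCharacter_one (G := H.normalCore))).trans Nat.cast_one.symm))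
        have h3 : ∑ ψ : Cfsg.IrrCharacter H, m ψ * k ψ = 0 := by exact_mod_cast h0
        have h4 := (Finset.sum_eq_zero_iff.1 h3) (principal H) (Finset.mem_univ _)
        rw [h2, mul_one] at h4
        exact hm0 (by exact_mod_cast h4)
      rw [← classInner_conj_symm, hm]
      show (starRingEnd ℂ) (Cfsg.classInner _ ((principal H : Cfsg.IrrCharacter H) : H → ℂ)) = 0
      rw [classInner_irrSum (fun ψ => (m ψ : ℂ)) (principal H), h1 _ rfl, map_zero]
    have hconst : ∀ g : G, ∀ n ∈ H.normalCore, (χ : G → ℂ) (g * n) = (χ : G → ℂ) g := by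
      intro g n hn
      have hcl := clifford H.normalCore χ.2 isIrrCharacter_one hres
      have horb : conjOrbit H.normalCore (fun _ : H.normalCore => (1 : ℂ)) = {fun _ => 1} := by
        ext φ
        simp only [mem_conjOrbit, Finset.mem_singleton]
        exact ⟨fun ⟨g, hg⟩ => hg.symm.trans rfl, fun h => ⟨1, h.symm.trans rfl |>.trans rfl |> fun e => (e ▸ rfl)⟩⟩
      rw [horb, Finset.sum_singleton] at hcl
      have h1 := congrFun hcl ⟨n, hn⟩
      have h2 := congrFun hcl 1
      simp only [OneMemClass.coe_one, Pi.smul_apply] at h1 h2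
      rw [classFunction_eq_of_isConj (isClassFunction_irr χ) (isConj_iff.2 ⟨n, by group⟩ : IsConj (g * n) (n * g))]
      exact IsCharacter.ker_mul (isCharacter_of_irr χ.2) (h1.trans h2.symm)
    -- squaring permutes the cosets
    have hsum0 : ∑ g : G, (χ : G → ℂ) g = 0 := by
      have h1 := classInner_irrChar χ.2 one.2
      rw [classInner_def, if_neg (fun h => hne (Subtype.ext h))] at h1
      simp only [hone', map_one, mul_one] at h1
      exact (mul_eq_zero.1 h1).resolve_left (inv_ne_zero hG0)
    haveI := Fintype.ofFinite (G ⧸ H.normalCore)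
    let F : G ⧸ H.normalCore → ℂ := fun q => (χ : G → ℂ) q.out
    have hF : ∀ g : G, (χ : G → ℂ) g = F g := fun g => by
      obtain ⟨n, hn⟩ := QuotientGroup.mk_out_eq_mul H.normalCore g
      show _ = (χ : G → ℂ) _
      rw [hn, hconst g n n.2]
    have hfib : ∀ f : G ⧸ H.normalCore → ℂ, ∑ g : G, f g = (Nat.card H.normalCore : ℂ) * ∑ q, f q := by
      intro f
      rw [← Finset.sum_fiberwise_of_maps_to (g := fun g : G => (g : G ⧸ H.normalCore))
        (fun g _ => Finset.mem_univ _), Finset.mul_sum]
      refine Finset.sum_congr rfl fun q _ => ?_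
      rw [Finset.sum_congr rfl (g := fun _ => f q) fun g hg => by rw [(Finset.mem_filter.1 hg).2],
        Finset.sum_const, nsmul_eq_mul]
      congr 2
      rw [← Fintype.card_subtype, ← Nat.card_eq_fintype_card]
      obtain ⟨b, rfl⟩ := QuotientGroup.mk_surjective q
      exact Nat.card_congr
        { toFun := fun x => ⟨b⁻¹ * x.1, QuotientGroup.eq.1 x.2.symm⟩
          invFun := fun i => ⟨b * i.1, by rw [QuotientGroup.eq]; simp⟩
          left_inv := fun x => Subtype.ext (by simp)
          right_inv := fun i => Subtype.ext (by simp) }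
    have hcop : Nat.Coprime (Nat.card (G ⧸ H.normalCore)) 2 := by
      rw [← Subgroup.index_eq_card]; exact Nat.coprime_two_right.2 hodd
    have hzero : ∑ g : G, (χ : G → ℂ) (g * g) = 0 := by
      rw [Finset.sum_congr rfl fun g _ => (hF (g * g)).trans (congrArg F (QuotientGroup.mk_mul H.normalCore g g)), hfib (fun q => F (q * q))]
      rw [Finset.sum_congr rfl fun g _ => hF g, hfib F] at hsum0
      rw [show ∑ q, F (q * q) = ∑ q, F q from Fintype.sum_equiv (powCoprime hcop) _ _ fun q => by
        rw [powCoprime_apply, pow_two]]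
      exact hsum0
    have : ν χ = 0 := by simp only [ν, hzero, mul_zero]
    exact one_ne_zero (hνχ.symm.trans this)

end Cfsg.Agent.S4784
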