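import Cfsg.Statements.S4796
import Cfsg.Agent.Chars.Inertia
import Cfsg.Agent.Chars.Count
import Cfsg.Agent.Chars.Real
import Cfsg.Agent.Chars.Galois
import Cfsg.Agent.Frobenius.Complement
import Mathlib
-- import your own Cfsg.Agent.* helpers here

set_option autoImplicit false
open Cfsg

namespace Cfsg.Agent.S4796

set_option linter.unusedSectionVars false

open Cfsg.Lib.Chars Cfsg.Lib.Frobenius
open scoped Pointwise

/-- Let G be a finite group with a faithful irreducible complex character χ whose codegree #G / χ(1) is a prime p (for a faithful character the kernel is trivial, so the codegree is #G / χ(1)). Then either G is cyclic of order p, or G is a Frobenius group whose Frobenius kernel has order p: some proper non-trivial subgroup H satisfies H ∩ gHg⁻¹ = 1 for every element g outside H, and the set of elements lying in no conjugate of H, together with the identity, has exactly p elements. -/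
theorem result {G : Type*} [Group G] [Finite G] (χ : Cfsg.IrrCharacter G) (hfaith : ∀ g : G, (χ : G → ℂ) g = (χ : G → ℂ) 1 → g = 1) (p : ℕ) (hp : p.Prime) (hcod : Nat.card G = p * Cfsg.charDegree (χ : G → ℂ)) : (IsCyclic G ∧ Nat.card G = p) ∨ ∃ H : Subgroup G, Cfsg.IsFrobeniusComplement H ∧ Nat.card ↥(Cfsg.frobeniusKernel H) = p := by
  classical
  haveI := Fact.mk hp
  haveI := Fintype.ofFinite G
  obtain ⟨d, hd0, hd⟩ := IsIrrCharacter.apply_one χ.2
  have hcd : Cfsg.charDegree (χ : G → ℂ) = d := by rw [Cfsg.charDegree, hd, Complex.natCast_re, Nat.floor_natCast]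
  rw [hcd] at hcod
  -- `d < p`
  have hdp : d < p := by
    have h1 : deg (χ : G → ℂ) = d := Nat.cast_injective (R := ℂ) (by rw [← irr_apply_one_eq_deg χ, hd])
    have h2 : deg (principal G : G → ℂ) = 1 := Nat.cast_injective (R := ℂ) (by
      rw [← irr_apply_one_eq_deg]; exact Nat.cast_one.symm)
    have hne : χ ≠ principal G := by
      rintro rfl
      have hd1 : d = 1 := h1.symm.trans h2
      obtain ⟨g, hg⟩ := exists_prime_orderOf_dvd_card' (G := G) p (hcod ▸ dvd_mul_right p d)
      rw [hfaith g rfl, orderOf_one] at hg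
      exact hp.one_lt.ne hg
    have h3 : d ^ 2 + 1 ≤ Nat.card G := by
      rw [← sum_deg_sq_nat]
      calc d ^ 2 + 1 = ∑ θ ∈ ({χ, principal G} : Finset (Cfsg.IrrCharacter G)), deg (θ : G → ℂ) ^ 2 := by
            rw [Finset.sum_pair hne, h1, h2, one_pow]
        _ ≤ _ := Finset.sum_le_sum_of_subset (Finset.subset_univ _)
    rw [hcod] at h3
    nlinarith
  have hpd : ¬ p ∣ d := fun h => absurd (Nat.le_of_dvd hd0 h) (not_le.2 hdp)
  obtain ⟨P⟩ := (inferInstance : Nonempty (Sylow p G))
  have hPc : Nat.card (P : Subgroup G) = p := by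
    rw [Sylow.card_eq_multiplicity, hcod, Nat.factorization_mul hp.ne_zero hd0.ne', Finsupp.add_apply,
      hp.factorization_self, Nat.factorization_eq_zero_of_not_dvd hpd, pow_one]
  have hPi : (P : Subgroup G).index = d := by
    have h := (P : Subgroup G).index_mul_card
    rw [hPc, hcod, mul_comm p] at h
    exact Nat.eq_of_mul_eq_mul_right hp.pos h
  have hPn : (P : Subgroup G).Normal := by
    have hmod := card_sylow_modEq_one p G
    have hle : Nat.card (Sylow p G) < p := lt_of_le_of_lt (Nat.le_of_dvd (hPi ▸ hd0) (P.card_dvd_index)) (hPi ▸ hdp)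
    have h1 : Nat.card (Sylow p G) = 1 := by
      have := Nat.ModEq.eq_of_lt_of_lt hmod hle hp.one_lt
      exact this
    haveI : Subsingleton (Sylow p G) := (Nat.card_eq_one_iff_unique.1 h1).1
    exact Sylow.normal_of_subsingleton P
  haveI := hPn
  haveI := Fintype.ofFinite (P : Subgroup G)
  obtain ⟨θ, hθ, hc⟩ := exists_constituent (P : Subgroup G) (isCharacter_of_irr χ.2)
    (IsIrrCharacter.apply_one_ne_zero χ.2)
  haveI : IsCyclic (P : Subgroup G) := isCyclic_of_prime_card hPc
  have hθ1 : θ 1 = 1 := irr_deg_one_of_comm (fun a b => (IsCyclic.commGroup (α := (P : Subgroup G))).mul_comm a b) hθ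
  obtain ⟨f, hf⟩ := exists_hom_of_deg_one (isCharacter_of_irr hθ) hθ1
  have hcl := clifford (P : Subgroup G) χ.2 hθ hc
  -- `f` is injective
  have hfne : ∃ x, f x ≠ 1 := by
    by_contra hcon
    push Not at hcon
    obtain ⟨y, hy⟩ := exists_prime_orderOf_dvd_card' (G := (P : Subgroup G)) p (by rw [hPc])
    have hθc : θ = fun _ => 1 := by rw [hf]; funext x; rw [hcon x, Units.val_one]
    have h1 := congrFun hcl y
    have h2 := congrFun hcl 1
    have horb : ∀ ψ ∈ conjOrbit (P : Subgroup G) θ, ψ y = ψ 1 := fun ψ hψ => by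
      obtain ⟨g, rfl⟩ := (mem_conjOrbit (P : Subgroup G)).1 hψ
      simp [conjN, hθc]
    simp only [Pi.smul_apply, Finset.sum_apply, OneMemClass.coe_one] at h1 h2
    rw [Finset.sum_congr rfl horb, ← h2] at h1
    have h3 : y = 1 := Subtype.ext (hfaith y h1)
    rw [h3, orderOf_one] at hy
    exact hp.one_lt.ne hy
  have hinj : Function.Injective f := by
    rw [← MonoidHom.ker_eq_bot_iff]
    refine f.ker.eq_bot_of_card_eq ?_
    rcases (Nat.dvd_prime hp).1 (hPc ▸ Subgroup.card_subgroup_dvd_card f.ker) with h | h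
    · exact h
    · obtain ⟨x, hx⟩ := hfne
      have : f.ker = ⊤ := Subgroup.eq_top_of_card_eq _ (by rw [h, hPc])
      exact absurd (MonoidHom.mem_ker.1 (this ▸ Subgroup.mem_top x)) hx
  set T := inertia (P : Subgroup G) θ with hT
  haveI := Fintype.ofFinite T
  have hTcent : ∀ g ∈ T, ∀ x ∈ (P : Subgroup G), g * x = x * g := by
    intro g hg x hx
    have h1 := congrFun (mem_inertia.1 hg) ⟨x, hx⟩
    rw [hf] at h1
    have h2 := congrArg Subtype.val (hinj (Units.ext h1))
    exact mul_inv_eq_iff_eq_mul.1 h2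
  have hPT : (P : Subgroup G) ≤ T := le_inertia (isClassFunction_isChar (isCharacter_of_irr hθ))
  obtain ⟨ψ, hψ, hψ1, hψ2⟩ := exists_constituent_over T hPT (isCharacter_of_irr χ.2) hc
  obtain ⟨hind, -, -⟩ := clifford_correspondence hθ T rfl hPT χ.2 hψ hψ1 hψ2
  obtain ⟨e, he0, he⟩ := restrict_of_le_inertia (P : Subgroup G) hθ T hPT le_rfl hψ hψ2
  have hψone : ψ 1 = (e : ℂ) := by
    have := congrFun he 1
    simp [hθ1] at this
    exact this
  have hTcard : Nat.card T = p * e := by
    have h1 := congrFun hind 1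
    rw [indFun_one, hψone, hd] at h1
    have h2 : T.index * e = d := by exact_mod_cast h1
    have h3 := T.index_mul_card
    rw [hcod, ← h2] at h3
    refine Nat.eq_of_mul_eq_mul_left (Nat.pos_of_ne_zero (Subgroup.index_ne_zero_of_finite (H := T))) ?_
    rw [h3]; ring
  have he1 : e = 1 := by
    have hn := classInner_self_irr hψ
    rw [classInner_def, inv_mul_eq_iff_eq_mul₀ (by exact_mod_cast (Nat.card_pos (α := T)).ne'), mul_one] at hn
    have hre := congrArg Complex.re hn
    rw [Complex.re_sum, Complex.natCast_re] at hre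
    simp only [Complex.mul_conj, Complex.ofReal_re] at hre
    have hS : ∑ x ∈ Finset.univ.filter (fun t : T => (t : G) ∈ (P : Subgroup G)), Complex.normSq (ψ x) =
        (p : ℝ) * (e : ℝ) ^ 2 := by
      rw [Finset.sum_congr rfl (g := fun _ => (e : ℝ) ^ 2) fun t ht => ?_, Finset.sum_const, nsmul_eq_mul]
      · congr 2
        rw [← Fintype.card_subtype, ← Nat.card_eq_fintype_card]
        refine Eq.trans ?_ hPc
        exact Nat.card_congr
          { toFun := fun t => ⟨(t.1 : G), t.2⟩
            invFun := fun x => ⟨⟨x.1, hPT x.2⟩, x.2⟩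
            left_inv := fun t => rfl
            right_inv := fun x => rfl }
      · have h1 := congrFun he ⟨(t : G), (Finset.mem_filter.1 ht).2⟩
        simp only [Pi.smul_apply, smul_eq_mul] at h1
        have h2 : ψ t = (e : ℂ) * θ ⟨(t : G), (Finset.mem_filter.1 ht).2⟩ := h1
        rw [h2, hf, map_mul, Complex.normSq_natCast, Complex.normSq_eq_norm_sq]
        set z : (P : Subgroup G) := ⟨(t : G), (Finset.mem_filter.1 ht).2⟩
        have hpow : ((f z : ℂˣ) : ℂ) ^ orderOf z = 1 := by
          rw [← Units.val_pow_eq_pow_val, ← map_pow, pow_orderOf_eq_one, map_one, Units.val_one]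
        rw [Complex.norm_eq_one_of_pow_eq_one hpow (orderOf_pos z).ne']
        ring
    have hle : (p : ℝ) * (e : ℝ) ^ 2 ≤ (Nat.card T : ℝ) := by
      rw [← hS, ← hre]
      exact Finset.sum_le_sum_of_subset_of_nonneg (Finset.filter_subset _ _) fun _ _ _ => Complex.normSq_nonneg _
    rw [hTcard] at hle
    have h4 : p * e ^ 2 ≤ p * e := by exact_mod_cast hle
    have h5 := Nat.le_of_mul_le_mul_left h4 hp.pos
    nlinarith
  have hTP : T = (P : Subgroup G) := (Subgroup.eq_of_le_of_card_ge hPT (by rw [hTcard, he1, mul_one, hPc])).symm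
  rcases Nat.lt_or_ge 1 d with hd1 | hd1
  · right
    have hcop : Nat.Coprime (Nat.card (P : Subgroup G)) (P : Subgroup G).index := by
      rw [hPc, hPi]; exact hp.coprime_iff_not_dvd.2 hpd
    obtain ⟨H, hH⟩ := Subgroup.exists_right_complement'_of_coprime hcop
    have hHc : Nat.card H = d := by rw [← hH.symm.index_eq_card, hPi]
    have hFC : Cfsg.IsFrobeniusComplement H := by
      refine ⟨fun h => ?_, fun h => ?_, fun g hg => ?_⟩
      · rw [h, Subgroup.card_bot] at hHc; omega
      · rw [h, Subgroup.card_top, hcod] at hHc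
        have : p * d > 1 * d := Nat.mul_lt_mul_of_pos_right hp.one_lt hd0
        omega
      · rw [eq_bot_iff]
        rintro y ⟨hy, hy'⟩
        obtain ⟨⟨x, h⟩, hxh⟩ := hH.2 g
        change (x : G) * (h : G) = g at hxh
        change y ∈ MulAut.conj g • H at hy'
        rw [Subgroup.mem_pointwise_smul_iff_inv_smul_mem] at hy'
        simp only [MulAut.smul_def, MulAut.conj_inv_apply] at hy'
        have h1 : (x : G)⁻¹ * y * x ∈ H := by
          have := mul_mem (mul_mem h.2 hy') (inv_mem h.2)
          rw [← hxh] at this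
          simpa [mul_assoc] using this
        have h2 : y⁻¹ * ((x : G)⁻¹ * y * x) = 1 := by
          refine Subgroup.mem_bot.1 (hH.disjoint.le_bot ⟨?_, H.mul_mem (H.inv_mem hy) h1⟩)
          show _ ∈ (P : Subgroup G)
          have := mul_mem (hPn.conj_mem _ (inv_mem x.2) y⁻¹) x.2
          simpa [mul_assoc] using this
        by_contra hy1
        have hcomm : y * x = x * y := by
          have := congrArg (fun z => (x : G) * y * z) h2
          simpa [mul_assoc] using this
        have hx1 : (x : G) ≠ 1 := fun hx1 => hg (by rw [← hxh, hx1, one_mul]; exact h.2)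
        have hPgen : ∀ z ∈ (P : Subgroup G), ∃ i : ℤ, (x : G) ^ i = z := fun z hz => by
          obtain ⟨i, hi⟩ := mem_zpowers_of_prime_card (g' := (⟨z, hz⟩ : (P : Subgroup G))) hPc
            (fun h0 => hx1 (congrArg Subtype.val h0) : x ≠ 1)
          exact ⟨i, congrArg Subtype.val hi⟩
        have hyT : y ∈ T := by
          rw [hT, mem_inertia]
          funext n
          show θ ⟨y * n * y⁻¹, _⟩ = θ n
          obtain ⟨i, hi⟩ := hPgen n n.2
          congr 1
          refine Subtype.ext ?_
          show y * (n : G) * y⁻¹ = n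
          rw [mul_inv_eq_iff_eq_mul, ← hi]
          exact (Commute.zpow_right hcomm i).eq
        rw [hTP] at hyT
        exact hy1 (Subgroup.mem_bot.1 (hH.disjoint.le_bot ⟨hyT, hy⟩))
    refine ⟨H, hFC, ?_⟩
    rw [card_kernel hFC, hH.index_eq_card, hPc]
  · left
    have hd1' : d = 1 := by omega
    have hG : Nat.card G = p := by rw [hcod, hd1', mul_one]
    exact ⟨isCyclic_of_prime_card hG, hG⟩

end Cfsg.Agent.S4796
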