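import Cfsg.Statements.S4797
import Cfsg.Agent.Blocks.Codegree
import Cfsg.Agent.Chars.Galois
-- import your own Cfsg.Agent.* helpers here

set_option autoImplicit false
open Cfsg

namespace Cfsg.Agent.S4797

set_option linter.unusedSectionVars false

open Cfsg.Lib.Chars Cfsg.Lib.Blocks
open scoped commutatorElement

/-- The codegree of an irreducible complex character χ of a finite group G is [G : ker χ] / χ(1), where ker χ is the set of elements at which χ takes the value χ(1). A non-trivial finite group is perfect if and only if no irreducible complex character of it has prime codegree. -/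
theorem result {G : Type*} [Group G] [Finite G] [Nontrivial G] : commutator G = ⊤ ↔ ∀ χ : Cfsg.IrrCharacter G, ¬ ((Nat.card G / (Nat.card {g : G // (χ : G → ℂ) g = (χ : G → ℂ) 1} * Cfsg.charDegree (χ : G → ℂ)))).Prime := by
  classical
  constructor
  · intro hperf χ hpr
    obtain ⟨K, hKn, χ', c, hmem, hχ', hidx, hd, hc⟩ := exists_codegree χ
    rw [hc] at hpr
    haveI := Fact.mk hpr
    have hdpos := deg_irr_pos χ
    have hcard : Nat.card (G ⧸ K) = deg (χ : G → ℂ) * c := by rw [← Subgroup.index_eq_card, hidx]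
    have hsq := deg_sq_le χ'
    rw [hd, hcard, pow_two] at hsq
    have hdle : deg (χ : G → ℂ) ≤ c := Nat.le_of_mul_le_mul_left hsq hdpos
    -- the quotient is perfect
    have hQ : commutator (G ⧸ K) = ⊤ := by
      rw [commutator_def, ← Subgroup.map_top_of_surjective _ (QuotientGroup.mk'_surjective K),
        ← Subgroup.map_commutator, ← commutator_def, hperf]
    have hnotcomm : ¬ ∀ a b : G ⧸ K, a * b = b * a := by
      intro hcomm
      have hbot : commutator (G ⧸ K) = ⊥ := by
        rw [commutator_def, eq_bot_iff, Subgroup.commutator_le]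
        intro a _ b _
        rw [Subgroup.mem_bot, commutatorElement_eq_one_iff_mul_comm]
        exact hcomm a b
      rw [hbot] at hQ
      have h2 := congrArg (fun H : Subgroup (G ⧸ K) => Nat.card H) hQ
      rw [Subgroup.card_bot, Subgroup.card_top, hcard] at h2
      exact hpr.ne_one (Nat.eq_one_of_mul_eq_one_left h2.symm)
    rcases hdle.lt_or_eq with hlt | heq
    · obtain ⟨P⟩ : Nonempty (Sylow c (G ⧸ K)) := inferInstance
      have hPc : Nat.card (P : Subgroup (G ⧸ K)) = c := by
        rw [Sylow.card_eq_multiplicity, hcard, Nat.factorization_mul hdpos.ne' hpr.ne_zero,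
          Finsupp.add_apply, Nat.factorization_eq_zero_of_not_dvd (Nat.not_dvd_of_pos_of_lt hdpos hlt),
          hpr.factorization_self, zero_add, pow_one]
      have hn1 : Nat.card (Sylow c (G ⧸ K)) = 1 := by
        have h1 := card_sylow_modEq_one c (G ⧸ K)
        have h2 : Nat.card (Sylow c (G ⧸ K)) ∣ deg (χ : G → ℂ) := by
          have h3 := P.card_dvd_index
          have h4 : (P : Subgroup (G ⧸ K)).index = deg (χ : G → ℂ) := by
            have h6 := (P : Subgroup (G ⧸ K)).card_mul_index
            rw [hPc, hcard] at h6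
            exact Nat.eq_of_mul_eq_mul_left hpr.pos (h6.trans (mul_comm _ _))
          exact h4 ▸ h3
        have h5 : Nat.card (Sylow c (G ⧸ K)) < c := (Nat.le_of_dvd hdpos h2).trans_lt hlt
        exact Nat.ModEq.eq_of_lt_of_lt h1 h5 hpr.one_lt
      haveI : Subsingleton (Sylow c (G ⧸ K)) := (Nat.card_eq_one_iff_unique.1 hn1).1
      haveI hPn : (P : Subgroup (G ⧸ K)).Normal := P.normal_of_subsingleton
      haveI : IsCyclic (P : Subgroup (G ⧸ K)) := isCyclic_of_prime_card hPc
      have hcent : Subgroup.normalizer ((P : Subgroup (G ⧸ K)) : Set (G ⧸ K)) ≤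
          Subgroup.centralizer ((P : Subgroup (G ⧸ K)) : Set (G ⧸ K)) := by
        let φ : G ⧸ K →* MulAut (P : Subgroup (G ⧸ K)) := MulAut.conjNormal
        have hk : commutator (G ⧸ K) ≤ φ.ker := by
          rw [commutator_def, Subgroup.commutator_le]
          intro a _ b _
          rw [MonoidHom.mem_ker, map_commutatorElement, commutatorElement_eq_one_iff_mul_comm]
          refine MulEquiv.ext fun z => ?_
          obtain ⟨i, hi⟩ := MonoidHom.map_cyclic (φ a).toMonoidHom
          obtain ⟨j, hj⟩ := MonoidHom.map_cyclic (φ b).toMonoidHom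
          have hi' : ∀ w, φ a w = w ^ i := hi
          have hj' : ∀ w, φ b w = w ^ j := hj
          show φ a (φ b z) = φ b (φ a z)
          rw [hj', hi', hi', hj', zpow_comm]
        intro g _ w hw
        have h1 : φ g = 1 := hk (hQ ▸ Subgroup.mem_top g)
        have h2 : g * w * g⁻¹ = w := congrArg Subtype.val (MulEquiv.ext_iff.1 h1 ⟨w, hw⟩)
        calc w * g = g * w * g⁻¹ * g := by rw [h2]
          _ = g * w := by group
      have hcompl := MonoidHom.ker_transferSylow_isComplement' P hcent
      set N := (MonoidHom.transferSylow P hcent).ker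
      have hidxN : N.index = c := by rw [hcompl.symm.index_eq_card, hPc]
      haveI : IsCyclic ((G ⧸ K) ⧸ N) := isCyclic_of_prime_card (p := c)
        (by rw [← Subgroup.index_eq_card, hidxN])
      have hle : commutator (G ⧸ K) ≤ N :=
        Subgroup.Normal.quotient_commutative_iff_commutator_le.1 inferInstance
      rw [hQ, top_le_iff] at hle
      rw [hle, Subgroup.index_top] at hidxN
      exact hpr.ne_one hidxN.symm
    · exact hnotcomm (fun a b =>
        (IsPGroup.isMulCommutative_of_card_eq_prime_sq (p := c)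
          (hcard.trans (by rw [heq, pow_two]))).is_comm.comm a b)
  · intro hpr
    by_contra hne
    obtain ⟨M, hM, hle⟩ := (eq_top_or_exists_le_coatom (commutator G)).resolve_left hne
    haveI hMn : M.Normal := ⟨fun m hm g => by
      have h1 : g * m * g⁻¹ * m⁻¹ ∈ M := hle (by
        have := Subgroup.commutator_mem_commutator (Subgroup.mem_top g) (Subgroup.mem_top m)
        rw [commutatorElement_def] at this
        exact this)
      simpa using mul_mem h1 hm⟩
    have hcomm : ∀ a b : G ⧸ M, a * b = b * a :=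
      (Subgroup.Normal.quotient_commutative_iff_commutator_le.2 hle).is_comm.comm
    have hgen : ∀ q : G ⧸ M, q ≠ 1 → Subgroup.zpowers q = ⊤ := by
      intro q hq
      have hlt : M < (Subgroup.zpowers q).comap (QuotientGroup.mk' M) := by
        refine lt_of_le_of_ne (fun m hm => ?_) fun he => hq ?_
        · rw [Subgroup.mem_comap, QuotientGroup.mk'_apply, (QuotientGroup.eq_one_iff m).2 hm]
          exact one_mem _
        · obtain ⟨g, rfl⟩ := QuotientGroup.mk_surjective q
          exact (QuotientGroup.eq_one_iff g).2 (he ▸ Subgroup.mem_zpowers (G := G ⧸ M) _)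
      have h1 := congrArg (Subgroup.map (QuotientGroup.mk' M)) (hM.2 _ hlt)
      rwa [Subgroup.map_comap_eq_self_of_surjective (QuotientGroup.mk'_surjective M),
        Subgroup.map_top_of_surjective _ (QuotientGroup.mk'_surjective M)] at h1
    haveI hnt : Nontrivial (G ⧸ M) := QuotientGroup.nontrivial_iff.2 hM.1
    obtain ⟨q, hq, hqd⟩ := Nat.exists_prime_and_dvd (n := Nat.card (G ⧸ M))
      (Finite.one_lt_card (α := G ⧸ M)).ne'
    haveI := Fact.mk hq
    obtain ⟨y, hy⟩ := exists_prime_orderOf_dvd_card' (G := G ⧸ M) q hqd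
    have hy1 : y ≠ 1 := fun h => by rw [h, orderOf_one] at hy; exact hq.one_lt.ne hy
    have hcardQ : Nat.card (G ⧸ M) = q := by
      rw [← Subgroup.card_top, ← hgen y hy1, Nat.card_zpowers, hy]
    obtain ⟨χ₀, hχ₀⟩ : ∃ χ₀ : Cfsg.IrrCharacter (G ⧸ M), χ₀ ≠ principal (G ⧸ M) := by
      by_contra hcon
      push Not at hcon
      exact hy1 ((isConj_one_right.1 ((isConj_iff_forall_irr 1 y).2 fun χ => by rw [hcon χ]; rfl)))
    have hirr := IsIrrCharacter.comp_surjective χ₀.2 (QuotientGroup.mk' M) (QuotientGroup.mk'_surjective M)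
    refine hpr ⟨_, hirr⟩ ?_
    obtain ⟨K, hKn, χ', c, hmem, hχ', hidx, hd, hc⟩ := exists_codegree (⟨_, hirr⟩ : Cfsg.IrrCharacter G)
    rw [hc]
    have hdeg : (χ₀ : G ⧸ M → ℂ) 1 = 1 := irr_deg_one_of_comm hcomm χ₀.2
    have hMK : M ≤ K := fun m hm => (hmem m).2 (by
      show (χ₀ : G ⧸ M → ℂ) (QuotientGroup.mk' M m) = (χ₀ : G ⧸ M → ℂ) (QuotientGroup.mk' M 1)
      rw [QuotientGroup.mk'_apply, (QuotientGroup.eq_one_iff m).2 hm, map_one])
    have hKne : K ≠ ⊤ := fun hK => hχ₀ (Subtype.ext (funext fun z => by
      obtain ⟨g, rfl⟩ := QuotientGroup.mk_surjective z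
      have := (hmem g).1 (hK ▸ Subgroup.mem_top g)
      show (χ₀ : G ⧸ M → ℂ) (QuotientGroup.mk' M g) = 1
      rw [show (χ₀ : G ⧸ M → ℂ) (QuotientGroup.mk' M g) = (χ₀ : G ⧸ M → ℂ) (QuotientGroup.mk' M 1) from this,
        map_one, hdeg]))
    have hKM : K = M := by
      rcases hMK.eq_or_lt with h | h
      · exact h.symm
      · exact absurd (hM.2 K h) hKne
    have hd1 : deg (fun g => (χ₀ : G ⧸ M → ℂ) (QuotientGroup.mk' M g)) = 1 := by
      simp only [deg, map_one, hdeg, Complex.one_re, Nat.floor_one]
    rw [hd1, one_mul, hKM, Subgroup.index_eq_card, hcardQ] at hidx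
    exact hidx ▸ hq

end Cfsg.Agent.S4797
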