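import Cfsg.Statements.S4798
import Cfsg.Agent.Chars.Constituent
import Cfsg.Agent.Chars.IrrTools
import Cfsg.Agent.Chars.Clifford
import Cfsg.Agent.Blocks.Codegree
import Cfsg.Agent.InvolutionCount.Basic
-- import your own Cfsg.Agent.* helpers here

set_option autoImplicit false
open Cfsg

namespace Cfsg.Agent.S4798

set_option linter.unusedSectionVars false

open Cfsg.Lib.Chars Cfsg.Lib.Blocks

/-- Let p be a prime and χ a faithful irreducible complex character of the finite group G (χ(g) = χ(1) only for g = 1), so that its codegree is #G / χ(1). Then #G / χ(1) is a power of p if and only if χ is induced from a character of a Sylow p-subgroup of G. -/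
theorem result {G : Type*} [Group G] [Fintype G] (p : ℕ) [Fact p.Prime] (χ : Cfsg.IrrCharacter G) (hfaith : ∀ g : G, (χ : G → ℂ) g = (χ : G → ℂ) 1 → g = 1) : (∃ k : ℕ, Nat.card G = p ^ k * Cfsg.charDegree (χ : G → ℂ)) ↔ ∃ (P : Sylow p G) (θ : ↥(P : Subgroup G) → ℂ), Cfsg.IsCharacter ↥(P : Subgroup G) θ ∧ (χ : G → ℂ) = Cfsg.indFun (P : Subgroup G) θ := by
  classical
  have hp : p.Prime := Fact.out
  have hd := deg_irr_pos χ
  constructor
  · rintro ⟨k, hk⟩
    obtain ⟨P⟩ : Nonempty (Sylow p G) := inferInstance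
    refine ⟨P, ?_⟩
    obtain ⟨a, ha⟩ := P.2.exists_card_eq
    -- constituents of the restriction
    obtain ⟨m, hm⟩ := IsCharacter.exists_decomp (IsCharacter.restrict (isCharacter_of_irr χ.2) (P : Subgroup G))
    have hpp : ∀ ψ : Cfsg.IrrCharacter (P : Subgroup G), ∃ i, deg (ψ : ↥(P : Subgroup G) → ℂ) = p ^ i := fun ψ => by
      have hdv := Cfsg.Lib.InvolutionCount.deg_dvd_card ψ
      rw [ha] at hdv
      obtain ⟨i, -, hi⟩ := (Nat.dvd_prime_pow hp).1 hdv
      exact ⟨i, hi⟩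
    choose i hi using hpp
    have hdeg : deg (χ : G → ℂ) = ∑ ψ : Cfsg.IrrCharacter (P : Subgroup G), m ψ * p ^ i ψ := by
      apply Nat.cast_injective (R := ℂ)
      have h1 := congrFun hm 1
      simp only [Finset.sum_apply, Pi.smul_apply, Pi.mul_apply, Pi.natCast_apply, nsmul_eq_mul, irr_apply_one_eq_deg, hi] at h1
      rw [← irr_apply_one_eq_deg χ]
      push_cast at h1 ⊢
      rw [← h1]
    obtain ⟨ψ₀, hψ₀, hmin⟩ := Finset.exists_min_image
      (Finset.univ.filter fun ψ : Cfsg.IrrCharacter (P : Subgroup G) => m ψ ≠ 0) i (by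
        by_contra he
        rw [Finset.not_nonempty_iff_eq_empty, Finset.filter_eq_empty_iff] at he
        refine hd.ne' (hdeg.trans (Finset.sum_eq_zero fun ψ hψ => ?_))
        rw [not_ne_iff.1 (he hψ), zero_mul])
    have hpdvd : p ^ i ψ₀ ∣ deg (χ : G → ℂ) := by
      rw [hdeg]
      refine Finset.dvd_sum fun ψ _ => ?_
      by_cases h0 : m ψ = 0
      · rw [h0, zero_mul]; exact dvd_zero _
      · exact (pow_dvd_pow p (hmin ψ (Finset.mem_filter.2 ⟨Finset.mem_univ _, h0⟩))).trans (Nat.dvd_mul_left _ _)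
    have hidx : (P : Subgroup G).index ∣ deg (χ : G → ℂ) := by
      have h1 : (P : Subgroup G).index ∣ p ^ k * deg (χ : G → ℂ) :=
        (Subgroup.index_dvd_card _).trans hk.dvd
      exact ((hp.coprime_iff_not_dvd.2 P.not_dvd_index).symm.pow_right k).dvd_of_dvd_mul_left h1
    have hmul : (P : Subgroup G).index * p ^ i ψ₀ ∣ deg (χ : G → ℂ) :=
      ((hp.coprime_iff_not_dvd.2 P.not_dvd_index).symm.pow_right _).mul_dvd_of_dvd_of_dvd hidx hpdvd
    have hc : Cfsg.classInner (fun x : (P : Subgroup G) => (χ : G → ℂ) x) (ψ₀ : ↥(P : Subgroup G) → ℂ) ≠ 0 := by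
      rw [hm]
      simp only [← Nat.cast_smul_eq_nsmul ℂ]
      rw [classInner_irrSum (fun ψ => (m ψ : ℂ)) ψ₀]
      exact Nat.cast_ne_zero.2 (Finset.mem_filter.1 hψ₀).2
    refine ⟨(ψ₀ : ↥(P : Subgroup G) → ℂ), isCharacter_of_irr ψ₀.2, ?_⟩
    have hind := IsCharacter.indFun (G := G) (isCharacter_of_irr ψ₀.2)
    have hne : Cfsg.classInner (Cfsg.indFun (P : Subgroup G) (ψ₀ : ↥(P : Subgroup G) → ℂ)) (χ : G → ℂ) ≠ 0 := by
      rw [frobenius_reciprocity _ _ (isClassFunction_irr χ), ← classInner_conj_symm]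
      exact fun h => hc (by simpa using congrArg (starRingEnd ℂ) h)
    have hdind : deg (Cfsg.indFun (P : Subgroup G) (ψ₀ : ↥(P : Subgroup G) → ℂ)) =
        (P : Subgroup G).index * p ^ i ψ₀ := by
      apply Nat.cast_injective (R := ℂ)
      rw [← IsCharacter.apply_one_eq_deg hind, indFun_one, irr_apply_one_eq_deg, hi]
      push_cast; rfl
    exact ((constituent_le hind χ.2 hne).2 (hdind ▸ Nat.le_of_dvd hd hmul)).symm
  · rintro ⟨P, θ, hθ, he⟩
    obtain ⟨a, ha⟩ := P.2.exists_card_eq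
    have h1 : deg (χ : G → ℂ) = (P : Subgroup G).index * deg θ := by
      apply Nat.cast_injective (R := ℂ)
      rw [← irr_apply_one_eq_deg χ, he, indFun_one, IsCharacter.apply_one_eq_deg hθ]
      push_cast; rfl
    have hθirr : Cfsg.IsIrrCharacter (P : Subgroup G) θ := irr_of_indFun_irr _ hθ (he ▸ χ.2)
    have hdv := Cfsg.Lib.InvolutionCount.deg_dvd_card ⟨θ, hθirr⟩
    rw [ha] at hdv
    obtain ⟨i, hia, hi⟩ := (Nat.dvd_prime_pow hp).1 hdv
    refine ⟨a - i, ?_⟩
    show Nat.card G = p ^ (a - i) * deg (χ : G → ℂ)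
    rw [h1, show deg θ = p ^ i from hi, ← (P : Subgroup G).index_mul_card, ha,
      show p ^ a = p ^ (a - i) * p ^ i by rw [← pow_add, Nat.sub_add_cancel hia]]
    ring

end Cfsg.Agent.S4798
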