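import Cfsg.Statements.S4801
import Cfsg.Agent.Blocks.Codegree
-- import your own Cfsg.Agent.* helpers here

set_option autoImplicit false
open Cfsg

namespace Cfsg.Agent.S4801

set_option linter.unusedSectionVars false

open Cfsg.Lib.Chars Cfsg.Lib.Blocks

/-- The codegree of an irreducible complex character χ of a finite group G is [G : ker χ] / χ(1), where ker χ is the set of elements at which χ takes the value χ(1). Let S be a finite simple group and G a finite group such that every codegree of an irreducible character of S is a codegree of an irreducible character of G. Then the order of S divides the order of G. -/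
theorem result {S : Type*} [Group S] [Finite S] (hS : IsSimpleGroup S) {G : Type*} [Group G] [Finite G] (hsub : ∀ χ : Cfsg.IrrCharacter S, ∃ ψ : Cfsg.IrrCharacter G, (Nat.card S / (Nat.card {g : S // (χ : S → ℂ) g = (χ : S → ℂ) 1} * Cfsg.charDegree (χ : S → ℂ))) = (Nat.card G / (Nat.card {g : G // (ψ : G → ℂ) g = (ψ : G → ℂ) 1} * Cfsg.charDegree (ψ : G → ℂ)))) : Nat.card S ∣ Nat.card G := by
  classical
  haveI := hS
  rw [Nat.dvd_iff_prime_pow_dvd_dvd]
  intro p k hp hk
  rcases Nat.eq_zero_or_pos k with rfl | hk0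
  · simp
  have hpS : p ∣ Nat.card S := (dvd_pow_self p hk0.ne').trans hk
  obtain ⟨χ, hχne, hχp⟩ : ∃ χ : Cfsg.IrrCharacter S, χ ≠ principal S ∧ ¬ p ∣ deg (χ : S → ℂ) := by
    by_contra hcon
    push Not at hcon
    have h1 := sum_deg_sq_nat (G := S)
    rw [← Finset.add_sum_erase _ _ (Finset.mem_univ (principal S))] at h1
    have h2 : deg ((principal S : Cfsg.IrrCharacter S) : S → ℂ) = 1 := by
      apply Nat.cast_injective (R := ℂ)
      rw [← irr_apply_one_eq_deg]; exact Nat.cast_one.symm
    rw [h2, one_pow] at h1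
    have h3 : p ∣ ∑ χ ∈ Finset.univ.erase (principal S), deg (χ : S → ℂ) ^ 2 :=
      Finset.dvd_sum fun χ hχ => (hcon χ (Finset.ne_of_mem_erase hχ)).trans (dvd_pow_self _ two_ne_zero)
    exact hp.not_dvd_one ((Nat.dvd_add_left h3).1 (h1.symm ▸ hpS))
  obtain ⟨K, hKn, χ', c, hmem, hχ', hidx, hd, hc⟩ := exists_codegree χ
  have hK : K = ⊥ := by
    rcases IsSimpleGroup.eq_bot_or_eq_top_of_normal K hKn with h | h
    · exact h
    · exact absurd (Subtype.ext (eq_one_of_kernel_top χ fun g => (hmem g).1 (h ▸ Subgroup.mem_top g))) hχne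
  obtain ⟨ψ, hψ⟩ := hsub χ
  obtain ⟨L, hLn, ψ', c', hmem', hψ', hidx', hd', hc'⟩ := exists_codegree ψ
  rw [hc, hc'] at hψ
  subst hψ
  rw [hK, Subgroup.index_bot] at hidx
  rw [hidx] at hk
  refine (((hp.coprime_iff_not_dvd.2 hχp).pow_left k).dvd_of_dvd_mul_left hk).trans ?_
  exact (Dvd.intro_left _ hidx'.symm).trans L.index_dvd_card

end Cfsg.Agent.S4801
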