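import Cfsg.Statements.S4802
import Cfsg.Agent.Blocks.NormalAverage
import Cfsg.Agent.Chars.Count
-- import your own Cfsg.Agent.* helpers here

set_option autoImplicit false
open Cfsg

namespace Cfsg.Agent.S4802

set_option linter.unusedSectionVars false

open Cfsg.Lib.Chars Cfsg.Lib.Blocks

/-- Let N < M be normal subgroups of the finite group G and g ∈ M ∖ N. Then the conjugacy class of g is exactly M ∖ N if and only if every irreducible complex character of G whose kernel contains N takes the same value at all elements of M ∖ N, and every irreducible complex character of G whose kernel does not contain N vanishes at g. -/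
theorem result {G : Type*} [Group G] [Finite G] (N M : Subgroup G) [N.Normal] [M.Normal] (hNM : N < M) (g : G) (hgM : g ∈ M) (hgN : g ∉ N) : {h : G | IsConj g h} = (M : Set G) \ (N : Set G) ↔ ((∀ χ : Cfsg.IrrCharacter G, (∀ x ∈ N, (χ : G → ℂ) x = (χ : G → ℂ) 1) → ∀ x ∈ M, x ∉ N → ∀ y ∈ M, y ∉ N → (χ : G → ℂ) x = (χ : G → ℂ) y) ∧ (∀ χ : Cfsg.IrrCharacter G, (∃ x ∈ N, (χ : G → ℂ) x ≠ (χ : G → ℂ) 1) → (χ : G → ℂ) g = 0)) := by
  classical
  haveI := Fintype.ofFinite G
  constructor
  · intro h
    refine ⟨fun χ _ x hx hxN y hy hyN => ?_, fun χ hχ => ?_⟩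
    · have h1 : IsConj g x := (Set.ext_iff.1 h x).2 ⟨hx, hxN⟩
      have h2 : IsConj g y := (Set.ext_iff.1 h y).2 ⟨hy, hyN⟩
      exact classFunction_eq_of_isConj (isClassFunction_irr χ) (h1.symm.trans h2)
    · obtain ⟨x, hxN, hx⟩ := hχ
      rcases average_dichotomy N χ with h1 | h1
      · exact absurd (h1 ⟨x, hxN⟩) hx
      · have h2 := h1 g
        have h3 : ∀ n : N, (χ : G → ℂ) ((n : G) * g) = (χ : G → ℂ) g := fun n => by
          have hconj : IsConj g ((n : G) * g) := (Set.ext_iff.1 h _).2
            ⟨mul_mem (hNM.le n.2) hgM, fun hn => hgN (by simpa using mul_mem (inv_mem n.2) hn)⟩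
          exact (classFunction_eq_of_isConj (isClassFunction_irr χ) hconj).symm
        rw [Finset.sum_congr rfl fun n _ => h3 n, Finset.sum_const, Finset.card_univ, nsmul_eq_mul,
          mul_eq_zero] at h2
        exact h2.resolve_left (Nat.cast_ne_zero.2 Fintype.card_ne_zero)
  · rintro ⟨h1, h2⟩
    ext y
    simp only [Set.mem_setOf_eq, Set.mem_sdiff, SetLike.mem_coe]
    constructor
    · intro hy
      obtain ⟨c, rfl⟩ := isConj_iff.1 hy
      refine ⟨(inferInstance : M.Normal).conj_mem g hgM c, fun hn => hgN ?_⟩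
      simpa [mul_assoc] using (inferInstance : N.Normal).conj_mem _ hn c⁻¹
    · rintro ⟨hyM, hyN⟩
      by_contra hn
      have h3 := second_orthogonality g y
      rw [if_neg hn] at h3
      have h4 := second_orthogonality g g
      rw [if_pos (IsConj.refl g)] at h4
      have heq : ∀ χ : Cfsg.IrrCharacter G, (χ : G → ℂ) g * (starRingEnd ℂ) ((χ : G → ℂ) y) =
          (χ : G → ℂ) g * (starRingEnd ℂ) ((χ : G → ℂ) g) := by
        intro χ
        by_cases hk : ∀ x ∈ N, (χ : G → ℂ) x = (χ : G → ℂ) 1
        · rw [h1 χ hk g hgM hgN y hyM hyN]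
        · push Not at hk
          rw [h2 χ hk, zero_mul, zero_mul]
      rw [Finset.sum_congr rfl fun χ _ => heq χ] at h3
      rw [h3] at h4
      exact Nat.card_pos.ne' (Nat.cast_eq_zero.1 h4.symm)

end Cfsg.Agent.S4802
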