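import Cfsg.Statements.S4805
import Cfsg.Agent.Chars.OneNonvanishing.Main
import Cfsg.Agent.Chars.DegreeTools

set_option autoImplicit false
open Cfsg

namespace Cfsg.Agent.S4805

/-- Let G be a finite group, g an element outside the centre of G, and χ an irreducible complex character of degree greater than one with χ(g) ≠ 0 such that every other irreducible character of degree greater than one vanishes at g. Then g lies in the derived subgroup G′ and χ(g) = −[G : G′]/χ(1); G′ is the union of the kernel of χ (the elements where χ takes the value χ(1)) and the conjugacy class of g, and χ vanishes outside G′; every irreducible character of degree greater than one whose kernel contains that of χ equals χ; and G is solvable. -/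
theorem result {G : Type*} [Group G] [Finite G] (g : G) (hg : g ∉ Subgroup.center G) (χ : Cfsg.IrrCharacter G) (hχ1 : Cfsg.charDegree (χ : G → ℂ) ≠ 1) (hχg : (χ : G → ℂ) g ≠ 0) (hother : ∀ ψ : Cfsg.IrrCharacter G, Cfsg.charDegree (ψ : G → ℂ) ≠ 1 → ψ ≠ χ → (ψ : G → ℂ) g = 0) : g ∈ commutator G ∧ (χ : G → ℂ) g = -(((commutator G).index : ℂ) / (χ : G → ℂ) 1) ∧ ((commutator G : Set G) = {x : G | (χ : G → ℂ) x = (χ : G → ℂ) 1} ∪ {h : G | IsConj g h}) ∧ (∀ x : G, x ∉ commutator G → (χ : G → ℂ) x = 0) ∧ (∀ ψ : Cfsg.IrrCharacter G, Cfsg.charDegree (ψ : G → ℂ) ≠ 1 → (∀ x : G, (χ : G → ℂ) x = (χ : G → ℂ) 1 → (ψ : G → ℂ) x = (ψ : G → ℂ) 1) → ψ = χ) ∧ Group.IsSolvable G := by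
  classical
  have hd : (χ : G → ℂ) 1 ≠ 1 := fun e => hχ1 (by simp [Cfsg.charDegree, e])
  have hdeg : ∀ ψ : Cfsg.IrrCharacter G, (ψ : G → ℂ) 1 ≠ 1 → Cfsg.charDegree (ψ : G → ℂ) ≠ 1 :=
    fun ψ hψ e => hψ (by
      rw [Cfsg.Lib.Chars.irr_apply_one_eq_deg ψ, ← Cfsg.Lib.Chars.charDegree_eq_deg ψ.2, e, Nat.cast_one])
  have h : Cfsg.Lib.Chars.OneNonvanishing.Only g χ :=
    ⟨hd, hχg, fun ψ hψ hne => hother ψ (hdeg ψ hψ) hne, hg⟩
  refine ⟨h.mem_commutator, h.value, ?_, fun x hx => h.vanish hx, ?_, ?_⟩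
  · ext x
    exact h.mem_commutator_iff x
  · intro ψ hψ hker
    exact h.unique ψ (fun e => hψ (by simp [Cfsg.charDegree, e])) hker
  · have hc := Cfsg.Lib.Chars.isCharacter_of_irr χ.2
    haveI := Cfsg.Lib.Chars.kerSubgroup_normal hc
    refine Cfsg.Lib.Chars.OneNonvanishing.Split.solvable (g := g)
      (K := Cfsg.Lib.Chars.kerSubgroup (χ : G → ℂ) hc) ⟨?_, h.mem_commutator, h.apply_g_ne, ?_, ?_⟩
    · exact fun x hx => (h.mem_commutator_iff x).mpr (Or.inl hx)
    · exact fun x hx hxK => ((h.mem_commutator_iff x).mp hx).resolve_left hxK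
    · exact fun z hz => h.mem_of_central hz

end Cfsg.Agent.S4805
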