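import Cfsg.Statements.S4807
import Cfsg.Agent.Chars.RelMcKay.Main

set_option autoImplicit false
open Cfsg

namespace Cfsg.Agent.S4807

open Cfsg.Lib.Chars Cfsg.Lib.RelMcKay in
/-- Let p be a prime and G a finite p-solvable group, L a normal subgroup of G, S a Sylow p-subgroup of G and P the subgroup generated by L and S (so P/L is a Sylow p-subgroup of G/L), and let ν be an irreducible complex character of L that is invariant under conjugation by every element of P. Let N be the normalizer of P in G (it contains L). Then the number of irreducible characters of G of degree prime to p lying over ν (restriction to L not orthogonal to ν) equals the number of irreducible characters of N of degree prime to p lying over ν. -/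
theorem result {G : Type*} [Group G] [Finite G] (p : ℕ) [Fact p.Prime] (hG : Cfsg.IsPSolvable p G) (L : Subgroup G) [L.Normal] (S : Sylow p G) (P : Subgroup G) (hP : P = L ⊔ (S : Subgroup G)) (hLN : L ≤ (Subgroup.normalizer ((P : Subgroup G) : Set G))) (ν : Cfsg.IrrCharacter ↥L) (hν : ∀ x ∈ P, Cfsg.IsConjCharOf L x (ν : ↥L → ℂ) (ν : ↥L → ℂ)) : Nat.card {χ : Cfsg.IrrCharacter G // ¬ p ∣ Cfsg.charDegree (χ : G → ℂ) ∧ (∑ᶠ l : ↥L, (χ : G → ℂ) (l : G) * (starRingEnd ℂ) ((ν : ↥L → ℂ) l)) ≠ 0} = Nat.card {ψ : Cfsg.IrrCharacter ↥(Subgroup.normalizer ((P : Subgroup G) : Set G)) // ¬ p ∣ Cfsg.charDegree (ψ : ↥(Subgroup.normalizer ((P : Subgroup G) : Set G)) → ℂ) ∧ (∑ᶠ l : ↥L, (ψ : ↥(Subgroup.normalizer ((P : Subgroup G) : Set G)) → ℂ) (Subgroup.inclusion hLN l) * (starRingEnd ℂ) ((ν : ↥L → ℂ) l)) ≠ 0} := by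
  subst hP
  letI := Fintype.ofFinite L
  have hne : ∀ f : L → ℂ, (∑ᶠ l : ↥L, f l * (starRingEnd ℂ) ((ν : ↥L → ℂ) l)) ≠ 0 ↔
      classInner f (ν : L → ℂ) ≠ 0 := fun f => by
    rw [finsum_eq_sum_of_fintype, classInner_def, mul_ne_zero_iff]
    exact (and_iff_right (inv_ne_zero (Nat.cast_ne_zero.2 Nat.card_pos.ne'))).symm
  have hsyl : ¬ p ∣ (S : Subgroup G).relIndex ⊤ := by
    rw [Subgroup.relIndex_top_right]; exact S.not_dvd_index
  have h := main (p := p) hG _ L ⊤ (S : Subgroup G) le_top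
    (by rw [Subgroup.normalizer_eq_top]) le_top S.isPGroup' hsyl (ν : L → ℂ) ν.2
    (fun s hs => hν s (Subgroup.mem_sup_right hs)) rfl
  rw [top_inf_eq] at h
  let e : (⊤ : Subgroup G) ≃* G := Subgroup.topEquiv
  let F : IrrCharacter G ≃ IrrCharacter (⊤ : Subgroup G) :=
    { toFun := fun χ => ⟨_, IsIrrCharacter.comp_mulEquiv χ.2 e⟩
      invFun := fun χ => ⟨_, IsIrrCharacter.comp_mulEquiv χ.2 e.symm⟩
      left_inv := fun χ => Subtype.ext (funext fun g => by simp)
      right_inv := fun χ => Subtype.ext (funext fun g => by simp) }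
  refine Eq.trans (Nat.card_congr (F.subtypeEquiv fun χ => ?_)) (h.trans (Nat.card_congr
    (Equiv.subtypeEquivRight fun ψ => ?_)))
  · rw [charDegree_eq_deg χ.2, show deg (F χ : (⊤ : Subgroup G) → ℂ) = deg (χ : G → ℂ) from
      deg_eq_of_apply_one (isCharacter_of_irr (F χ).2) (isCharacter_of_irr χ.2)
        (congrArg (χ : G → ℂ) (map_one e)), hne]
    exact and_congr_right' ⟨fun hc => ⟨le_top, hc⟩, fun hc => hc.2⟩
  · rw [charDegree_eq_deg ψ.2, hne]
    exact and_congr_right' ⟨fun hc => hc.2, fun hc => ⟨hLN, hc⟩⟩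

end Cfsg.Agent.S4807
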