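import Cfsg.Statements.S4808
import Cfsg.Agent.Blocks.Codegree
import Cfsg.Agent.Chars.DefectZero
-- import your own Cfsg.Agent.* helpers here

set_option autoImplicit false
open Cfsg

namespace Cfsg.Agent.S4808

set_option linter.unusedSectionVars false

open Cfsg.Lib.Chars Cfsg.Lib.Blocks

/-- The codegree of an irreducible complex character χ of a finite group G is [G : ker χ] / χ(1), where ker χ is the set of elements at which χ takes the value χ(1). A prime divides the order of G if and only if it divides the codegree of some irreducible complex character of G. -/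
theorem result {G : Type*} [Group G] [Finite G] (p : ℕ) (hp : p.Prime) : p ∣ Nat.card G ↔ ∃ χ : Cfsg.IrrCharacter G, p ∣ (Nat.card G / (Nat.card {g : G // (χ : G → ℂ) g = (χ : G → ℂ) 1} * Cfsg.charDegree (χ : G → ℂ))) := by
  classical
  haveI := Fact.mk hp
  constructor
  · intro hdvd
    by_contra hcon
    push Not at hcon
    obtain ⟨x, hx⟩ := exists_prime_orderOf_dvd_card' (G := G) p hdvd
    have hx1 : x ≠ 1 := fun h => by rw [h, orderOf_one] at hx; exact hp.one_lt.ne hx
    have hsum := sum_deg_mul x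
    rw [if_neg hx1] at hsum
    have hterm : ∀ χ : Cfsg.IrrCharacter G, ∃ r : ℝ, 0 ≤ r ∧
        (χ : G → ℂ) 1 * (χ : G → ℂ) x = (r : ℂ) ∧ ((χ : G → ℂ) = (fun _ => 1) → r = 1) := by
      intro χ
      obtain ⟨K, hKn, χ', c, hmem, hχ', hidx, hd, hc⟩ := exists_codegree χ
      have hpc : ¬ p ∣ c := hc ▸ hcon χ
      by_cases hxK : x ∈ K
      · refine ⟨(deg (χ : G → ℂ) : ℝ) * deg (χ : G → ℂ), by positivity, ?_, fun h => ?_⟩
        · rw [(hmem x).1 hxK, irr_apply_one_eq_deg]; push_cast; rfl
        · have h1 : ((deg (χ : G → ℂ) : ℕ) : ℂ) = 1 := by rw [← irr_apply_one_eq_deg χ, h]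
          have h2 : deg (χ : G → ℂ) = 1 := by exact_mod_cast h1
          rw [h2]; norm_num
      · refine ⟨0, le_rfl, ?_, fun h => absurd ((hmem x).2 (by rw [h])) hxK⟩
        have hord : orderOf (QuotientGroup.mk x : G ⧸ K) = p := orderOf_eq_prime
          (by rw [← QuotientGroup.mk_pow, ← hx, pow_orderOf_eq_one]; rfl)
          (fun h => hxK ((QuotientGroup.eq_one_iff x).1 h))
        have hcard : Nat.card (G ⧸ K) = deg (χ : G → ℂ) * c := by rw [← Subgroup.index_eq_card, hidx]
        have hne : deg (χ : G → ℂ) ≠ 0 := (deg_irr_pos χ).ne'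
        have hc0 : c ≠ 0 := fun h0 => Nat.card_pos.ne' (hcard.trans (by rw [h0, mul_zero]))
        have hfac : (Nat.card (G ⧸ K)).factorization p = (deg (χ : G → ℂ)).factorization p := by
          rw [hcard, Nat.factorization_mul hne hc0, Finsupp.add_apply,
            Nat.factorization_eq_zero_of_not_dvd hpc, add_zero]
        haveI := Fintype.ofFinite (G ⧸ K)
        have h0 := eq_zero_of_defect_zero χ'.2 hp (Nat.ordProj_dvd (Nat.card (G ⧸ K)) p)
          (Nat.pow_succ_factorization_not_dvd Nat.card_pos.ne' hp)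
          (by rw [hd, hfac]; exact Nat.ordProj_dvd _ _) (x := (QuotientGroup.mk x : G ⧸ K))
          (by rw [hord])
        rw [← hχ' x, h0, mul_zero, Complex.ofReal_zero]
    choose r hr0 hr hr1 using hterm
    rw [Finset.sum_congr rfl fun χ _ => hr χ, ← Complex.ofReal_sum, Complex.ofReal_eq_zero] at hsum
    have hle : r (principal G) ≤ ∑ χ, r χ :=
      Finset.single_le_sum (fun χ _ => hr0 χ) (Finset.mem_univ _)
    rw [hsum, hr1 _ rfl] at hle
    linarith
  · rintro ⟨χ, hχ⟩
    obtain ⟨K, hKn, χ', c, hmem, hχ', hidx, hd, hc⟩ := exists_codegree χ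
    rw [hc] at hχ
    exact hχ.trans ((Dvd.intro_left _ hidx.symm).trans K.index_dvd_card)

end Cfsg.Agent.S4808
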